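import Cfsg.Statements.S4235
-- import your own Cfsg.Agent.* helpers here
import Cfsg.Agent.Lib.FrobSystem.Main

set_option autoImplicit false
open scoped Pointwise
open Cfsg

namespace Cfsg.Agent.S4235

/-- The normalizer of a Sylow two-subgroup is solvable. -/
theorem isSolvable_normalizer {G : Type*} [Group G] [Finite G] (T : Sylow 2 G) :
    Group.IsSolvable (Subgroup.normalizer ((T : Subgroup G) : Set G)) := by
  haveI : Fact (Nat.Prime 2) := ⟨Nat.prime_two⟩
  set N := Subgroup.normalizer ((T : Subgroup G) : Set G)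
  haveI : ((T : Subgroup G).subgroupOf N).Normal :=
    (Subgroup.normal_subgroupOf_iff_le_normalizer Subgroup.le_normalizer).2 le_rfl
  haveI : Group.IsNilpotent ((T : Subgroup G).subgroupOf N) :=
    (T.2.comap_of_injective N.subtype N.subtype_injective).isNilpotent
  haveI : Group.IsSolvable (N ⧸ (T : Subgroup G).subgroupOf N) := by
    refine Cfsg.Agent.S0205.result ?_
    have h := (T.subtype Subgroup.le_normalizer).not_dvd_index
    rw [Sylow.coe_subtype] at h
    rw [← Subgroup.index_eq_card, Nat.odd_iff]
    exact Nat.two_dvd_ne_zero.1 h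
  exact Group.isSolvable_of_ker_le_range ((T : Subgroup G).subgroupOf N).subtype
    (QuotientGroup.mk' ((T : Subgroup G).subgroupOf N)) (by simp)

/-- Let G be a finite group. Call a subgroup maximal solvable if it is solvable and not properly contained in a solvable subgroup. Suppose F assigns to each maximal solvable subgroup M a normal subgroup F(M) of M such that: every element of M outside F(M) centralizes no non-identity element of F(M); F(M) meets each conjugate g F(M) g⁻¹ with g outside M trivially; and F(M) is nontrivial unless M is abelian. Then G is solvable, or G is isomorphic to SL(2, K) for a finite field K of characteristic 2 with at least 4 elements, or G is isomorphic to a Suzuki group. -/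
theorem result {G : Type*} [Group G] [Finite G] (F : Subgroup G → Subgroup G)
    (h : ∀ M : Subgroup G, (Group.IsSolvable M ∧ ∀ M' : Subgroup G, M < M' → ¬ Group.IsSolvable M') →
      F M ≤ M ∧ M ≤ Subgroup.normalizer (F M : Set G) ∧
      (∀ a ∈ M, a ∉ F M → ∀ x ∈ F M, x * a = a * x → x = 1) ∧
      (∀ g : G, g ∉ M → F M ⊓ (MulAut.conj g • F M) = ⊥) ∧
      (F M ≠ ⊥ ∨ IsMulCommutative M)) :
    Group.IsSolvable G ∨
      (∃ (K : Type) (_ : Field K) (_ : Fintype K), (∃ n : ℕ, 2 ≤ n ∧ Fintype.card K = 2 ^ n) ∧
        Nonempty (G ≃* Matrix.SpecialLinearGroup (Fin 2) K)) ∨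
      Cfsg.Lie.IsoSuzuki G := by
  by_cases hns : Group.IsSolvable G
  · exact Or.inl hns
  right
  obtain ⟨T⟩ : Nonempty (Sylow 2 G) := inferInstance
  have h2 : 2 ∣ Nat.card G := by
    by_contra h2
    exact hns (Cfsg.Agent.S0205.result (Nat.odd_iff.2 (Nat.two_dvd_ne_zero.1 h2)))
  obtain ⟨M, hNM, hM⟩ := CfsgLib.FrobSystem.exists_le_maximal _ (isSolvable_normalizer T)
  obtain ⟨hle, hnorm, hfpf, hti, hne⟩ := h M hM
  rcases hne with hne | hab
  · have d : CfsgLib.FrobSystem.IsPart M (F M) :=
      { solv := hM.1
        top := hM.2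
        le := hle
        norm := hnorm
        fpf := hfpf
        ti := fun g hg x hx hgx => by
          have h1 : g * x * g⁻¹ ∈ F M ⊓ (MulAut.conj g • F M) :=
            Subgroup.mem_inf.2 ⟨hgx, (Subgroup.mem_smul_pointwise_iff_exists _ _ _).2 ⟨x, hx, rfl⟩⟩
          rw [hti g hg, Subgroup.mem_bot] at h1
          exact conj_eq_one_iff.1 h1
        ne := hne
        nsolv := hns }
    exact CfsgLib.FrobSystem.EvenPart.sl_or_isoSuzuki
      (M := M) (F := F M) (T := T) ⟨d, Subgroup.le_normalizer.trans hNM, h2⟩
  · exfalso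
    refine hns (CfsgLib.FrobSystem.isSolvable_of_complement ?_)
    haveI : Fact (Nat.Prime 2) := ⟨Nat.prime_two⟩
    refine CfsgLib.Fusion.hasNormalPComplement_of_normalizer_le_centralizer T fun g hg =>
      Subgroup.mem_centralizer_iff.2 fun y hy => ?_
    exact congrArg Subtype.val (hab.is_comm.comm ⟨y, hNM (Subgroup.le_normalizer hy)⟩ ⟨g, hNM hg⟩)

end Cfsg.Agent.S4235
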