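import Cfsg.Statements.S0107
import Cfsg.Agent.Lib.Fusion.Tate

set_option autoImplicit false
open Cfsg

namespace Cfsg.Agent.S0107

/-- A finite group with no nontrivial 2-group quotient and dihedral Sylow 2-subgroups of order at least 8 has a single class of involutions. -/
theorem result {G : Type*} [Group G] [Finite G] (T : Sylow 2 G) (n : ℕ) (hn : 2 ≤ n) (hT : Nonempty ((T : Subgroup G) ≃* DihedralGroup (2 ^ n))) (hO : Cfsg.pResidual 2 G = ⊤) (x y : G) (hx : orderOf x = 2) (hy : orderOf y = 2) : ∃ g : G, g * x * g⁻¹ = y := by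
  haveI : NeZero (2 ^ n) := ⟨pow_ne_zero _ two_ne_zero⟩
  obtain ⟨e⟩ := hT
  let φ : DihedralGroup (2 ^ n) →* G := (T : Subgroup G).subtype.comp e.symm.toMonoidHom
  have hφinj : Function.Injective φ := (T : Subgroup G).subtype_injective.comp e.symm.injective
  have hφT : ∀ d, φ d ∈ (T : Subgroup G) := fun d => (e.symm d).2
  set R := (Subgroup.zpowers (DihedralGroup.r 1 : DihedralGroup (2 ^ n))).map φ with hR
  have hRT : R ≤ (T : Subgroup G) := fun x hx => by
    obtain ⟨d, -, rfl⟩ := hx
    exact hφT d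
  have hRi : R.relIndex (T : Subgroup G) = 2 := by
    have hTr : (T : Subgroup G) = φ.range := by
      refine le_antisymm (fun x hx => ⟨e ⟨x, hx⟩, ?_⟩) (fun x ⟨d, hd⟩ => hd ▸ hφT d)
      show ((e.symm (e ⟨x, hx⟩) : (T : Subgroup G)) : G) = x
      rw [MulEquiv.symm_apply_apply]
    rw [hR, hTr, MonoidHom.range_eq_map, Subgroup.relIndex_map_map_of_injective _ _ hφinj,
      Subgroup.relIndex_top_right]
    have h1 := Subgroup.card_mul_index
      (Subgroup.zpowers (DihedralGroup.r 1 : DihedralGroup (2 ^ n)))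
    rw [Nat.card_zpowers, DihedralGroup.orderOf_r_one, Nat.card_eq_fintype_card,
      DihedralGroup.card, mul_comm] at h1
    exact Nat.eq_of_mul_eq_mul_right (Nat.two_pow_pos n) h1
  have huniq : ∀ a ∈ R, ∀ b ∈ R, orderOf a = 2 → orderOf b = 2 → a = b := by
    rintro _ ⟨a, ha, rfl⟩ _ ⟨b, hb, rfl⟩ ha2 hb2
    rw [orderOf_injective φ hφinj] at ha2 hb2
    have hsub : Subgroup.zpowers a = Subgroup.zpowers b := by
      haveI : IsCyclic (Subgroup.zpowers (DihedralGroup.r 1 : DihedralGroup (2 ^ n))) := inferInstance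
      letI : CommGroup (Subgroup.zpowers (DihedralGroup.r 1 : DihedralGroup (2 ^ n))) :=
        IsCyclic.commGroup
      have hker := IsCyclic.card_powMonoidHom_ker
        (G := Subgroup.zpowers (DihedralGroup.r 1 : DihedralGroup (2 ^ n))) 2
      set a' : Subgroup.zpowers (DihedralGroup.r 1 : DihedralGroup (2 ^ n)) := ⟨a, ha⟩
      set b' : Subgroup.zpowers (DihedralGroup.r 1 : DihedralGroup (2 ^ n)) := ⟨b, hb⟩
      have key : ∀ c : Subgroup.zpowers (DihedralGroup.r 1 : DihedralGroup (2 ^ n)),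
          orderOf c = 2 → Subgroup.zpowers c = (powMonoidHom 2 :
            Subgroup.zpowers (DihedralGroup.r 1 : DihedralGroup (2 ^ n)) →* _).ker := by
        intro c hc
        refine Subgroup.eq_of_le_of_card_ge (Subgroup.zpowers_le.2
          ((congrArg (c ^ ·) hc).symm.trans (pow_orderOf_eq_one c))) ?_
        rw [Nat.card_zpowers, hc, hker]
        exact Nat.le_of_dvd two_pos (Nat.gcd_dvd_right _ _)
      have h := (key a' (by rw [Subgroup.orderOf_mk]; exact ha2)).trans
        (key b' (by rw [Subgroup.orderOf_mk]; exact hb2)).symm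
      have h' := congrArg (Subgroup.map
        (Subgroup.zpowers (DihedralGroup.r 1 : DihedralGroup (2 ^ n))).subtype) h
      simpa [MonoidHom.map_zpowers] using h'
    have hb' : b ∈ Subgroup.zpowers a := hsub ▸ Subgroup.mem_zpowers b
    rw [mem_zpowers_iff_mem_range_orderOf, ha2] at hb'
    simp only [Finset.mem_image, Finset.mem_range] at hb'
    obtain ⟨i, hi, rfl⟩ := hb'
    interval_cases i
    · rw [pow_zero, orderOf_one] at hb2; exact absurd hb2 (by norm_num)
    · rw [pow_one]
  have hto : ∀ u : G, orderOf u = 2 → ∃ g : G, g * u * g⁻¹ ∈ R := by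
    intro u hu
    have hz : IsPGroup 2 (Subgroup.zpowers u) :=
      IsPGroup.of_card (n := 1) (by rw [Nat.card_zpowers, hu, pow_one])
    obtain ⟨S, hS⟩ := hz.exists_le_sylow
    obtain ⟨g, hg⟩ := MulAction.exists_smul_eq G S T
    have hgu : g * u * g⁻¹ ∈ (T : Subgroup G) := by
      rw [← hg, Sylow.coe_subgroup_smul]
      exact ⟨u, hS (Subgroup.mem_zpowers u), rfl⟩
    by_contra hno
    obtain ⟨M, hM, hMi, -⟩ := CfsgLib.Fusion.thompson_transfer T hRT hRi
      (u := g * u * g⁻¹) (by rw [conj_pow, ← hu, pow_orderOf_eq_one]; group)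
      (fun c hc => hno ⟨c * g, by rw [show c * g * u * (c * g)⁻¹ = c * (g * u * g⁻¹) * c⁻¹ by group]
                                  exact hc⟩)
    haveI := hM
    have hle := CfsgLib.Fusion.pResidual_le_of_coprime_index_pow (p := 2) M (n := 1)
      (by rw [hMi, pow_one])
    rw [hO, top_le_iff] at hle
    rw [hle, Subgroup.index_top] at hMi
    exact absurd hMi (by norm_num)
  obtain ⟨g, hg⟩ := hto x hx
  obtain ⟨g', hg'⟩ := hto y hy
  have ho : ∀ (c u : G), orderOf (c * u * c⁻¹) = orderOf u := fun c u => (MulAut.conj c).orderOf_eq u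
  have he := huniq _ hg _ hg' ((ho g x).trans hx) ((ho g' y).trans hy)
  refine ⟨g'⁻¹ * g, ?_⟩
  rw [show g'⁻¹ * g * x * (g'⁻¹ * g)⁻¹ = g'⁻¹ * (g * x * g⁻¹) * g' by group, he]
  group

end Cfsg.Agent.S0107
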