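import Cfsg.Statements.S0218
import Cfsg.Agent.Lib.Invol.Basic


set_option autoImplicit false
open Cfsg

namespace Cfsg.Agent.S0218

/-- The generalized quaternion group of order 2^(n+3) contains exactly one element of order 2. -/
theorem result (n : ℕ) : Nat.card {x : QuaternionGroup (2 ^ (n + 1)) // orderOf x = 2} = 1 := by
  have hm : (2 : ℕ) ^ (n + 1) ≠ 0 := by positivity
  have : NeZero (2 ^ (n + 1)) := ⟨hm⟩
  generalize hM : 2 ^ (n + 1) = m at *
  rw [Nat.card_eq_one_iff_exists]
  refine ⟨⟨QuaternionGroup.a (m : ZMod (2 * m)), ?_⟩, ?_⟩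
  · rw [CfsgLib.Invol.invol_iff, QuaternionGroup.a_mul_a, QuaternionGroup.one_def]
    refine ⟨congrArg _ ?_, ?_⟩
    · rw [← Nat.cast_add, ← two_mul, ZMod.natCast_self]
    · intro h
      injection h with h
      rw [ZMod.natCast_eq_zero_iff] at h
      exact absurd (Nat.le_of_dvd (by omega) h) (by omega)
  rintro ⟨q, hq⟩
  apply Subtype.ext
  rcases q with i | i
  · rw [CfsgLib.Invol.invol_iff, QuaternionGroup.a_mul_a, QuaternionGroup.one_def] at hq
    obtain ⟨hq1, hq2⟩ := hq
    injection hq1 with hq1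
    show QuaternionGroup.a i = QuaternionGroup.a _
    congr 1
    have hi : i = ((i.val : ℕ) : ZMod (2 * m)) := (ZMod.natCast_zmod_val i).symm
    have hlt := ZMod.val_lt i
    rw [hi, ← Nat.cast_add, ZMod.natCast_eq_zero_iff] at hq1
    have hne : i.val ≠ 0 := by
      intro h0; apply hq2; rw [hi, h0, Nat.cast_zero]
    obtain ⟨c, hc⟩ := hq1
    rcases c with _ | _ | c
    · omega
    · rw [hi]; congr 1; omega
    · nlinarith
  · rw [QuaternionGroup.orderOf_xa] at hq
    omega

end Cfsg.Agent.S0218
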