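import Cfsg.Statements.S0514
import Cfsg.Agent.Lib.Fusion.PComplement
import Cfsg.Agent.Lib.Coprime.Action
import Cfsg.Agent.Lib.Invol.DihedralSubgroup


set_option autoImplicit false
open Cfsg

namespace Cfsg.Agent.S0514

/-- In a finite group whose Sylow 2-subgroups are dihedral of order at least 4, the centralizer of any involution has a
normal subgroup of odd order whose index in the centralizer is a power of 2. -/
theorem result {X : Type*} [Group X] [Finite X]
    (S : Sylow 2 X) (n : ℕ) (hn : 2 ≤ n) (hS : Nonempty ((S : Subgroup X) ≃* DihedralGroup n)) (t : X)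
    (ht : orderOf t = 2) :
    ∃ N : Subgroup (Subgroup.centralizer ({t} : Set X)), N.Normal ∧ Odd (Nat.card N) ∧ ∃ k : ℕ, N.index = 2 ^ k := by
  haveI : Fact (Nat.Prime 2) := ⟨Nat.prime_two⟩
  haveI : NeZero n := ⟨by omega⟩
  obtain ⟨e⟩ := hS
  set L := Subgroup.centralizer ({t} : Set X) with hL
  obtain ⟨P⟩ : Nonempty (Sylow 2 L) := inferInstance
  have htL : t ∈ L := Subgroup.mem_centralizer_singleton_iff.2 rfl
  set t' : L := ⟨t, htL⟩ with ht'
  have hcen : ∀ x : L, x * t' = t' * x := fun x =>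
    Subtype.ext (Subgroup.mem_centralizer_singleton_iff.1 x.2)
  have ht2 : orderOf t' = 2 := by rw [ht', Subgroup.orderOf_mk, ht]
  have hTn : (Subgroup.zpowers t').Normal := ⟨fun a ha g => by
    obtain ⟨i, rfl⟩ := Subgroup.mem_zpowers_iff.1 ha
    rw [((show Commute g t' from hcen g).zpow_right i).eq, mul_inv_cancel_right]
    exact zpow_mem (Subgroup.mem_zpowers t') i⟩
  have hTp : IsPGroup 2 (Subgroup.zpowers t') :=
    IsPGroup.of_card (n := 1) (by rw [Nat.card_zpowers, ht2, pow_one])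
  have hloc : CfsgLib.Fusion.LocallyPNilpotentAction 2 (P : Subgroup L) := by
    intro Q hQ g hg hgo
    set Q1 := Q ⊔ Subgroup.zpowers t' with hQ1
    haveI := hTn
    have hQ1p : IsPGroup 2 Q1 := (P.2.to_le hQ).to_sup_of_normal_right hTp
    have hgQ1 : g ∈ Subgroup.normalizer (Q1 : Set L) :=
      CfsgLib.Coprime.sup_le_normalizer (A := Subgroup.zpowers g) (Subgroup.zpowers_le.2 hg)
        (Subgroup.zpowers_le.2 (Subgroup.normalizer_eq_top_iff.2 hTn ▸ Subgroup.mem_top g))
        (Subgroup.mem_zpowers g)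
    obtain ⟨S', hS'⟩ := (hQ1p.map L.subtype).exists_le_sylow
    obtain ⟨e'⟩ : Nonempty ((S' : Subgroup X) ≃* DihedralGroup n) := ⟨(Sylow.equiv S' S).trans e⟩
    let φ : Q1 →* DihedralGroup n := e'.toMonoidHom.comp
      ((Subgroup.inclusion hS').comp (Q1.equivMapOfInjective L.subtype L.subtype_injective).toMonoidHom)
    have hφ : Function.Injective φ := e'.injective.comp
      ((Subgroup.inclusion_injective hS').comp (MulEquiv.injective _))
    have htQ : t' ∈ Q1 := Subgroup.mem_sup_right (Subgroup.mem_zpowers t')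
    set σ := Subgroup.normalizerMonoidHom Q1 ⟨g, hgQ1⟩ with hσ
    have h1 : σ ^ orderOf g = 1 := by
      rw [hσ, ← map_pow, show (⟨g, hgQ1⟩ : Subgroup.normalizer (Q1 : Set L)) ^ orderOf g = 1 from
        Subtype.ext (by simp [pow_orderOf_eq_one]), map_one]
    have hfix : σ ⟨t', htQ⟩ = ⟨t', htQ⟩ := Subtype.ext (by
      show g * t' * g⁻¹ = t'
      rw [hcen g, mul_inv_cancel_right])
    have h2 := CfsgLib.Invol.aut_eq_one_of_dihedral hQ1p φ hφ σ
      (Nat.coprime_two_right.1 hgo) h1 (t := ⟨t', htQ⟩) (by rw [Subgroup.orderOf_mk, ht2]) hfix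
    refine Subgroup.mem_centralizer_iff.2 fun q hq => ?_
    have h3 : (σ ⟨q, Subgroup.mem_sup_left hq⟩ : L) = q := by rw [h2]; rfl
    have h4 : g * q * g⁻¹ = q := h3
    exact (mul_inv_eq_iff_eq_mul.1 h4).symm
  obtain ⟨P', N, hN, hc⟩ := CfsgLib.Fusion.hasNormalPComplement_of_locallyPNilpotentAction P hloc
  obtain ⟨k, hk⟩ := P'.2.exists_card_eq
  refine ⟨N, hN, ?_, k, ?_⟩
  · rw [← hc.index_eq_card, ← Nat.not_even_iff_odd, even_iff_two_dvd]
    exact P'.not_dvd_index
  · rw [hc.symm.index_eq_card, hk]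

end Cfsg.Agent.S0514
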