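import Cfsg.Statements.S0741
-- import your own Cfsg.Agent.* helpers here
import Mathlib

set_option autoImplicit false
set_option linter.all false
open Cfsg

namespace Cfsg.Agent.S0741

/-- If the two-point stabilisers of a finite Zassenhaus group of degree `n + 1` have even order `d`, then `2d ≥ n - 1`. -/
theorem result {G Ω : Type*} [Group G] [Finite G] [MulAction G Ω] [Fintype Ω] (hZ : Cfsg.IsZassenhausGroup G Ω) {a b : Ω} (hab : a ≠ b) (heven : Even (Nat.card ↥(MulAction.stabilizer G a ⊓ MulAction.stabilizer G b))) : Fintype.card Ω - 2 ≤ 2 * Nat.card ↥(MulAction.stabilizer G a ⊓ MulAction.stabilizer G b) := by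
  classical
  obtain ⟨hfaith, h2, hthree, -, -⟩ := hZ
  haveI := hfaith
  haveI : Fintype G := Fintype.ofFinite G
  haveI : Fact (Nat.Prime 2) := ⟨Nat.prime_two⟩
  obtain ⟨d, hd⟩ : ∃ d, d = Nat.card ↥(MulAction.stabilizer G a ⊓ MulAction.stabilizer G b) := ⟨_, rfl⟩
  rw [← hd] at heven ⊢
  obtain ⟨⟨t₀, ht₀⟩, ht₀o⟩ := exists_prime_orderOf_dvd_card' 2 (hd ▸ even_iff_two_dvd.1 heven)
  rw [← Subgroup.orderOf_coe] at ht₀o
  let fx : G → Finset Ω := fun g => Finset.univ.filter (fun x => g • x = x)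
  let I : Finset G := Finset.univ.filter (fun g => orderOf g = 2 ∧ 2 ≤ (fx g).card)
  let D : Finset (Ω × Ω) := Finset.univ.offDiag
  have hfx : ∀ g : G, g ≠ 1 → (fx g).card ≤ 2 := by
    intro g hg
    by_contra hc
    obtain ⟨x, hx, y, hy, z, hz, hxy, hxz, hyz⟩ := Finset.two_lt_card.1 (Nat.not_le.1 hc)
    exact hg (hthree g x y z hxy hyz hxz (Finset.mem_filter.1 hx).2 (Finset.mem_filter.1 hy).2 (Finset.mem_filter.1 hz).2)
  have hI : ∀ g ∈ I, g ≠ 1 ∧ ∀ x : Ω, g • g • x = x := by
    intro g hg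
    have ho := (Finset.mem_filter.1 hg).2.1
    refine ⟨fun e => by rw [e, orderOf_one] at ho; omega, fun x => ?_⟩
    rw [← mul_smul, ← pow_two, ← ho, pow_orderOf_eq_one, one_smul]
  -- each ordered pair is fixed by an involution
  have hinv : ∀ q ∈ D, ∃ g ∈ I, g • q.1 = q.1 ∧ g • q.2 = q.2 := by
    intro q hq
    obtain ⟨k, hk1, hk2⟩ := MulAction.is_two_pretransitive_iff.1 h2 hab (Finset.mem_offDiag.1 hq).2.2
    refine ⟨k * t₀ * k⁻¹, ?_, ?_, ?_⟩
    swap
    · rw [← hk1, mul_smul, mul_smul, inv_smul_smul, show t₀ • a = a from ht₀.1]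
    swap
    · rw [← hk2, mul_smul, mul_smul, inv_smul_smul, show t₀ • b = b from ht₀.2]
    refine Finset.mem_filter.2 ⟨Finset.mem_univ _, ?_, ?_⟩
    · rw [← MulAut.conj_apply, ← ht₀o]
      exact orderOf_injective (MulAut.conj k).toMonoidHom (MulAut.conj k).injective t₀
    · refine Finset.one_lt_card.2 ⟨q.1, ?_, q.2, ?_, (Finset.mem_offDiag.1 hq).2.2⟩
      · exact Finset.mem_filter.2 ⟨Finset.mem_univ _, by rw [← hk1, mul_smul, mul_smul, inv_smul_smul, show t₀ • a = a from ht₀.1]⟩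
      · exact Finset.mem_filter.2 ⟨Finset.mem_univ _, by rw [← hk2, mul_smul, mul_smul, inv_smul_smul, show t₀ • b = b from ht₀.2]⟩
  choose! f hf hf1 hf2 using hinv
  have hDI : D.card ≤ 2 * I.card := by
    refine Finset.card_le_mul_card_image_of_maps_to (f := f) (fun q hq => hf q hq) 2 fun g hg => ?_
    refine le_trans (Finset.card_le_card (t := (fx g).offDiag) fun q hq => ?_) ?_
    · obtain ⟨hqD, rfl⟩ := Finset.mem_filter.1 hq
      exact Finset.mem_offDiag.2 ⟨Finset.mem_filter.2 ⟨Finset.mem_univ _, hf1 q hqD⟩,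
        Finset.mem_filter.2 ⟨Finset.mem_univ _, hf2 q hqD⟩, (Finset.mem_offDiag.1 hqD).2.2⟩
    · rw [Finset.offDiag_card]
      have := hfx g (hI g hg).1
      have : 2 ≤ (fx g).card := (Finset.mem_filter.1 hg).2.2
      rw [show (fx g).card = 2 by omega]
  -- each ordered pair is swapped by at most `d` elements
  have hswap : ∀ x y : Ω, x ≠ y →
      (Finset.univ.filter (fun g : G => g • x = y ∧ g • y = x)).card ≤ d := by
    intro x y hxy
    rcases (Finset.univ.filter (fun g : G => g • x = y ∧ g • y = x)).eq_empty_or_nonempty with e | ⟨g₀, hg₀⟩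
    · rw [e, Finset.card_empty]; exact Nat.zero_le _
    obtain ⟨h1, h2'⟩ := (Finset.mem_filter.1 hg₀).2
    obtain ⟨k, hk1, hk2⟩ := MulAction.is_two_pretransitive_iff.1 h2 hab hxy
    rw [hd, Nat.card_eq_fintype_card, ← Finset.card_univ]
    have hm : ∀ g : G, g • x = y ∧ g • y = x →
        k⁻¹ * (g₀⁻¹ * g) * k ∈ MulAction.stabilizer G a ⊓ MulAction.stabilizer G b := by
      rintro g ⟨e1, e2⟩
      refine ⟨?_, ?_⟩ <;> show _ • _ = _
      · rw [mul_smul, mul_smul, hk1, mul_smul, e1, ← h1, inv_smul_smul, ← hk1, inv_smul_smul]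
      · rw [mul_smul, mul_smul, hk2, mul_smul, e2, ← h2', inv_smul_smul, ← hk2, inv_smul_smul]
    refine Finset.card_le_card_of_injOn (fun g => if h : g • x = y ∧ g • y = x then ⟨_, hm g h⟩ else 1)
      (fun _ _ => Finset.mem_univ _) ?_
    intro g hg g' hg' e
    simp only [Finset.coe_filter, Finset.mem_univ, true_and, Set.mem_ofPred_eq] at hg hg'
    simp only [dif_pos hg, dif_pos hg'] at e
    exact mul_left_cancel (mul_left_cancel (mul_right_cancel (congrArg Subtype.val e)))
  let T : Finset ((_ : G) × Ω) := I.sigma (fun g => Finset.univ.filter (fun x => g • x ≠ x))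
  have hT1 : I.card * (Fintype.card Ω - 2) ≤ T.card := by
    rw [Finset.card_sigma, ← smul_eq_mul, ← Finset.sum_const]
    refine Finset.sum_le_sum fun g hg => ?_
    have := Finset.card_filter_add_card_filter_not (s := (Finset.univ : Finset Ω)) (fun x => g • x = x)
    have h4 : (fx g).card ≤ 2 := hfx g (hI g hg).1
    rw [Finset.card_univ] at this
    simp only [fx] at h4
    simp only [ne_eq]
    omega
  have hT2 : T.card ≤ d * D.card := by
    refine Finset.card_le_mul_card_image_of_maps_to (f := fun s => (s.2, s.1 • s.2)) (fun s hs => ?_) d fun q hq => ?_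
    · have := (Finset.mem_filter.1 (Finset.mem_sigma.1 hs).2).2
      exact Finset.mem_offDiag.2 ⟨Finset.mem_univ _, Finset.mem_univ _, Ne.symm this⟩
    · refine le_trans (Finset.card_le_card_of_injOn (fun s : (_ : G) × Ω => s.1) (fun s hs => ?_) ?_)
        (hswap q.1 q.2 (Finset.mem_offDiag.1 hq).2.2)
      · obtain ⟨hsT, rfl⟩ := Finset.mem_filter.1 hs
        exact Finset.mem_filter.2 ⟨Finset.mem_univ _, rfl, (hI _ (Finset.mem_sigma.1 hsT).1).2 _⟩
      · intro s hs s' hs' e
        obtain ⟨s1, s2⟩ := s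
        obtain ⟨s1', s2'⟩ := s'
        have e1 := (Finset.mem_filter.1 hs).2
        have e2 := (Finset.mem_filter.1 hs').2
        simp only at e e1 e2
        subst e
        rw [← e2] at e1
        obtain rfl := (Prod.mk.injEq _ _ _ _ ▸ e1).1
        rfl
  have hD : 0 < D.card := Finset.card_pos.2 ⟨(a, b), Finset.mem_offDiag.2 ⟨Finset.mem_univ _, Finset.mem_univ _, hab⟩⟩
  refine Nat.le_of_mul_le_mul_left ?_ hD
  calc D.card * (Fintype.card Ω - 2) ≤ 2 * I.card * (Fintype.card Ω - 2) := Nat.mul_le_mul_right _ hDI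
    _ = 2 * (I.card * (Fintype.card Ω - 2)) := Nat.mul_assoc _ _ _
    _ ≤ 2 * (d * D.card) := Nat.mul_le_mul_left _ (hT1.trans hT2)
    _ = D.card * (2 * d) := by ring

end Cfsg.Agent.S0741
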