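import Cfsg.Statements.S0731
-- import your own Cfsg.Agent.* helpers here
import Mathlib
import Cfsg.Agent.Lib.Perm.AbelianKernel.Three
import Cfsg.Agent.Lib.Perm.AbelianKernel.Recognise
import Cfsg.Agent.Lib.Perm.Zassenhaus.Even
import Cfsg.Agent.Lib.Perm.Groups.ZassenhausRegular
import Cfsg.Agent.S0741

set_option autoImplicit false
set_option linter.all false
open Cfsg

namespace Cfsg.Agent.S0731

/-- A finite Zassenhaus group whose point stabiliser has an abelian regular normal subgroup on the remaining points is sharply triply transitive or isomorphic to `PSL(2, F)` for a finite field `F` of odd characteristic. -/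
theorem result {G Ω : Type*} [Group G] [Finite G] [MulAction G Ω] [Finite Ω] (hZ : Cfsg.IsZassenhausGroup G Ω) (x : Ω) (F : Subgroup G) (hFle : F ≤ MulAction.stabilizer G x) (hFn : (F.subgroupOf (MulAction.stabilizer G x)).Normal) (hFab : IsMulCommutative F) (hreg : ∀ y z : Ω, y ≠ x → z ≠ x → ∃! u : F, (u : G) • y = z) : (MulAction.IsMultiplyPretransitive G Ω 3 ∧ ∀ t : Fin 3 ↪ Ω, MulAction.stabilizer G t = ⊥) ∨ ∃ (K : Type) (_ : Field K) (_ : Fintype K), ringChar K ≠ 2 ∧ Nonempty (G ≃* Matrix.ProjectiveSpecialLinearGroup (Fin 2) K) := by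
  classical
  haveI := Fintype.ofFinite Ω
  haveI := hZ.1
  have h3 := CfsgLib.Char.zassenhaus_three_le hZ
  obtain ⟨b, hb⟩ := Fintype.exists_ne_of_one_lt_card (show 1 < Fintype.card Ω by omega) x
  obtain ⟨w, hwa, hwb⟩ := CfsgLib.Char.exists_map_pair hZ hb.symm hb
  let D : CfsgLib.Perm.AbKernel.Data G x b :=
    { F := F, w := w, ne := hb.symm, le := hFle
      normal := fun g hg u hu => hFn.conj_mem ⟨u, hFle hu⟩ hu ⟨g, hg⟩
      comm := fun u hu v hv => congrArg Subtype.val (hFab.is_comm.comm (⟨u, hu⟩ : F) ⟨v, hv⟩)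
      reg := hreg
      fix := fun g ha hb' c hca hcb hc => hZ.2.2.1 g x b c hb.symm (Ne.symm hcb) (Ne.symm hca) ha hb' hc
      wa := hwa, wb := hwb }
  have hq1 : 1 < Nat.card D.F := by have := D.card_space; omega
  obtain ⟨d, hd⟩ : ∃ d, d = Nat.card ↥(MulAction.stabilizer G x ⊓ MulAction.stabilizer G b) := ⟨_, rfl⟩
  rcases Nat.even_or_odd d with heven | hodd
  · have hge := Cfsg.Agent.S0741.result hZ hb.symm (hd ▸ heven)
    rcases D.full_or_half hq1 (by have := D.card_space; omega) with hfull | hhalf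
    · exact Or.inl (D.sharp_three hq1 hfull)
    · obtain ⟨p, f, K, hK, hKf, hp, hp2, hcard, -, hiso⟩ :=
        CfsgLib.Perm.ZEven.iso_psl hZ hb.symm (hd ▸ heven) (by have := D.card_space; omega)
      refine Or.inr ⟨K, hK, hKf, fun h2 => ?_, hiso⟩
      have h1 := FiniteField.even_card_of_char_two h2
      have h4 : 2 ∣ p ^ f := by rw [← hcard]; omega
      exact hp2 ((Nat.prime_dvd_prime_iff_eq Nat.prime_two hp).1 (Nat.prime_two.dvd_of_dvd_pow h4)).symm
  · rcases D.dichotomy hq1 (hd ▸ hodd) with ⟨N, hN, -, hNreg⟩ | ⟨hsw, hle⟩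
    · exfalso
      obtain ⟨c, hc⟩ := hZ.2.2.2.2 N hN ⟨fun y z => (hNreg y z).exists⟩
      exact hc (eq_bot_iff.2 fun k hk => Subgroup.mem_bot.2
        ((hNreg c c).unique hk (by simp : ((1 : N) : G) • c = c)))
    · rcases D.full_or_half hq1 hle with hfull | hhalf
      · exact Or.inl (D.sharp_three hq1 hfull)
      · obtain ⟨-, p, f, hp, hexp, hpf⟩ := CfsgLib.Perm.ZReg.regular_elementary hZ hb.symm
          (by have := D.card_space; omega) F hFle hFn hreg
        obtain ⟨K, hK, hKf, hchar, -, hiso⟩ := D.psl_of_half (f := f) hp hexp (by have := D.card_space; omega)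
          (hd ▸ hodd) hhalf hsw
        exact Or.inr ⟨K, hK, hKf, hchar, hiso⟩

end Cfsg.Agent.S0731
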