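import Cfsg.Statements.S3116
import Cfsg.Agent.Lib.Invol.QuasiDihedralMaximal
import Cfsg.Agent.Lib.Invol.DihedralSubgroup


set_option autoImplicit false
open Cfsg

namespace Cfsg.Agent.S3116

/-- The automorphism group of a dihedral 2-group of order at least 8, or of a quasi-dihedral (semidihedral) 2-group of order at least 16, is a 2-group. -/
theorem result {X : Type*} [Group X] [Finite X] (h2 : IsPGroup 2 X)
    (h : (∃ n : ℕ, 4 ≤ n ∧ Nonempty (X ≃* DihedralGroup n)) ∨ Cfsg.IsQuasiDihedral X) : IsPGroup 2 (MulAut X) := by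
  haveI : Fact (Nat.Prime 2) := ⟨Nat.prime_two⟩
  obtain ⟨M, r, e, a, b, F, hord⟩ : ∃ (M : ℕ) (r e : ℤ) (a b : X),
      CfsgLib.Invol.CyclicFrame M r e a b ∧ ∀ i : ℤ, orderOf (a ^ i * b) < M := by
    rcases h with ⟨n, hn, ⟨f⟩⟩ | hq
    · haveI : NeZero n := ⟨by omega⟩
      have FD := CfsgLib.Invol.dihedral_frame n
      refine ⟨n, -1, 0, f.symm (DihedralGroup.r 1), f.symm (DihedralGroup.sr 0), ⟨?_, ?_, ?_, ?_, ?_, FD.pos⟩, ?_⟩
      · rw [MulEquiv.orderOf_eq, FD.ord]
      · rw [Nat.card_congr f.toEquiv, FD.card]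
      · intro hmem
        obtain ⟨j, hj⟩ := Subgroup.mem_zpowers_iff.1 hmem
        refine FD.notMem (Subgroup.mem_zpowers_iff.2 ⟨j, f.symm.injective ?_⟩)
        rw [map_zpow, hj]
      · rw [← map_inv, ← map_mul, ← map_mul, FD.conj, map_zpow]
      · rw [← map_mul, FD.sq, map_zpow]
      · intro i
        rw [← map_zpow, ← map_mul, MulEquiv.orderOf_eq]
        refine lt_of_le_of_lt (Nat.le_of_dvd two_pos (orderOf_dvd_of_pow_eq_one ?_)) (by omega)
        rw [FD.ref_sq]; simp
    · obtain ⟨k, a, b, hk, hc, Q⟩ := CfsgLib.Invol.exists_qdFrame hq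
      obtain ⟨M, hM, F⟩ := Q.frame
      refine ⟨M, _, 0, a, b, F, fun i => ?_⟩
      refine lt_of_le_of_lt (Nat.le_of_dvd (by norm_num) (orderOf_dvd_of_pow_eq_one (Q.ref_pow_four i))) ?_
      have := Q.two_le
      omega
  -- automorphisms of odd order are trivial
  have key : ∀ (σ : MulAut X) (m : ℕ), Odd m → σ ^ m = 1 → σ = 1 := by
    intro σ m hm hσ
    set A := Subgroup.zpowers a with hA
    have hσa : σ a ∈ A := by
      obtain ⟨i, hi | hi⟩ := F.exists_eq (σ a)
      · rw [hi]; exact Subgroup.zpow_mem_zpowers a i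
      · exfalso
        have h1 : orderOf (σ a) = M := by rw [MulEquiv.orderOf_eq, F.ord]
        rw [hi] at h1
        exact absurd h1 (hord i).ne
    have hmap : ∀ k ∈ A, σ k ∈ A := by
      intro k hk
      obtain ⟨i, rfl⟩ := Subgroup.mem_zpowers_iff.1 hk
      rw [map_zpow]; exact zpow_mem hσa i
    let ψ : A →* A :=
      { toFun := fun k => ⟨σ k, hmap k k.2⟩
        map_one' := Subtype.ext (map_one σ)
        map_mul' := fun u v => Subtype.ext (map_mul σ (u : X) (v : X)) }
    have hψ : Function.Bijective ψ := Finite.injective_iff_bijective.1 fun u v h =>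
      Subtype.ext (σ.injective (congrArg Subtype.val h))
    let σA : MulAut A := MulEquiv.ofBijective ψ hψ
    have hit : ∀ (i : ℕ) (k : A), (((σA ^ i) k : A) : X) = (σ ^ i) (k : X) := by
      intro i
      induction i with
      | zero => simp
      | succ i ih =>
        intro k; rw [pow_succ', pow_succ', MulAut.mul_apply, MulAut.mul_apply, ← ih]; rfl
    have h1 : σA = 1 := CfsgLib.Invol.aut_eq_one_of_cyclic_two_group (h2.to_subgroup A) σA hm
      (MulEquiv.ext fun k => Subtype.ext (by rw [hit, hσ]; rfl))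
    refine CfsgLib.Invol.aut_eq_one_of_fix_index_two h2 σ hm hσ A ?_ fun k hk =>
      congrArg (fun s : MulAut A => ((s ⟨k, hk⟩ : A) : X)) h1
    intro x y hx hy
    rw [Subgroup.mul_mem_iff_of_index_two F.index_two, inv_mem_iff]
    exact iff_of_false hx hy
  intro σ
  obtain ⟨s, m, hm, hs⟩ := Nat.exists_eq_two_pow_mul_odd (orderOf_pos σ).ne'
  refine ⟨s, key _ m hm ?_⟩
  rw [← pow_mul, ← hs, pow_orderOf_eq_one]

end Cfsg.Agent.S3116
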