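import Cfsg.Statements.S3377
import Cfsg.Agent.Lib.Char.Presentation

set_option autoImplicit false
open Cfsg

namespace Cfsg.Agent.S3377

/-- three-cycle -/
def a5gen : Fin 2 → alternatingGroup (Fin 5) :=
  ![⟨Equiv.swap 0 1 * Equiv.swap 1 2, Equiv.Perm.mem_alternatingGroup.2 (by decide +kernel)⟩,
    ⟨finRotate 5 ^ 2, Equiv.Perm.mem_alternatingGroup.2 (by decide +kernel)⟩]

theorem a5gen_facts : a5gen 0 ^ 3 = 1 ∧ a5gen 1 ^ 5 = 1 ∧ (a5gen 0 * a5gen 1) ^ 2 = 1 ∧
    a5gen 0 ≠ 1 ∧ a5gen 1 ≠ 1 ∧ a5gen 0 * a5gen 1 ≠ 1 := by decide +kernel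


/-- The alternating group of degree 5 has the presentation ⟨x, y | x³ = 1, y⁵ = 1, (xy)² = 1⟩: the group so presented is isomorphic to Alt(5). -/
theorem result :
    Nonempty (PresentedGroup ({FreeGroup.of (0 : Fin 2) ^ 3, FreeGroup.of (1 : Fin 2) ^ 5,
        (FreeGroup.of (0 : Fin 2) * FreeGroup.of 1) ^ 2} : Set (FreeGroup (Fin 2))) ≃* alternatingGroup (Fin 5)) := by
  classical
  haveI := Fact.mk Nat.prime_two
  haveI := Fact.mk Nat.prime_three
  haveI := Fact.mk Nat.prime_five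
  obtain ⟨h3, h5, h2, n3, n5, n2⟩ := a5gen_facts
  let R : Set (FreeGroup (Fin 2)) := {FreeGroup.of (0 : Fin 2) ^ 3, FreeGroup.of (1 : Fin 2) ^ 5,
    (FreeGroup.of (0 : Fin 2) * FreeGroup.of 1) ^ 2}
  have hrel : ∀ r ∈ R, FreeGroup.lift a5gen r = 1 := by
    rintro r (rfl | rfl | rfl) <;> simp [h3, h5, h2]
  let φ : PresentedGroup R →* alternatingGroup (Fin 5) := PresentedGroup.toGroup hrel
  have hφ : ∀ i, φ (PresentedGroup.of i) = a5gen i := fun i => PresentedGroup.toGroup.of hrel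
  have hgen : Subgroup.closure ({PresentedGroup.of 0, PresentedGroup.of 1} : Set (PresentedGroup R)) = ⊤ := by
    rw [eq_top_iff, ← PresentedGroup.closure_range_of R]
    refine Subgroup.closure_mono ?_
    rintro _ ⟨i, rfl⟩
    fin_cases i <;> simp
  have hmk : ∀ r ∈ R, PresentedGroup.mk R r = 1 := fun r hr => PresentedGroup.one_of_mem hr
  have r1 := hmk _ (Or.inl rfl)
  have r2 := hmk _ (Or.inr (Or.inl rfl))
  have r3 := hmk _ (Or.inr (Or.inr rfl))
  simp only [map_pow, map_mul] at r1 r2 r3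
  obtain ⟨hfin, hle⟩ := CfsgLib.Char.Presentation.card_le_sixty hgen r1 r2 r3
  have h60 : Nat.card (alternatingGroup (Fin 5)) = 60 := by
    rw [nat_card_alternatingGroup, Nat.card_fin]; rfl
  have hsurj : Function.Surjective φ := by
    rw [← MonoidHom.range_eq_top]
    have hd : ∀ (g : alternatingGroup (Fin 5)) (n : ℕ), g ∈ φ.range → orderOf g = n → n ∣ Nat.card φ.range :=
      fun g n hg hn => hn ▸ Subgroup.orderOf_mk g hg ▸ orderOf_dvd_natCard (⟨g, hg⟩ : φ.range)
    have d3 := hd _ 3 ⟨_, hφ 0⟩ (orderOf_eq_prime h3 n3)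
    have d5 := hd _ 5 ⟨_, hφ 1⟩ (orderOf_eq_prime h5 n5)
    have d2 := hd _ 2 ⟨PresentedGroup.of 0 * PresentedGroup.of 1, by rw [map_mul, hφ 0, hφ 1]⟩ (orderOf_eq_prime h2 n2)
    have hci := Subgroup.card_mul_index φ.range
    rw [h60] at hci
    have d30 : 30 ∣ Nat.card φ.range := by omega
    obtain ⟨c, hc⟩ := d30
    rw [hc] at hci
    have hidx : φ.range.index = 1 ∨ φ.range.index = 2 := by
      have : φ.range.index ∣ 2 := ⟨c, by nlinarith⟩
      exact (Nat.dvd_prime Nat.prime_two).1 this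
    rcases hidx with h | h
    · exact Subgroup.index_eq_one.1 h
    · haveI := Subgroup.normal_of_index_eq_two h
      haveI := alternatingGroup.isSimpleGroup_five
      rcases IsSimpleGroup.eq_bot_or_eq_top_of_normal φ.range inferInstance with h' | h'
      · rw [h', Subgroup.index_bot, h60] at h
        omega
      · exact h'
  exact ⟨MulEquiv.ofBijective φ (Function.Surjective.bijective_of_nat_card_le hsurj (hle.trans h60.ge))⟩

end Cfsg.Agent.S3377
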