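import Cfsg.Statements.S4500
import Cfsg.Agent.Lib.Block.BrauerFeit
import Cfsg.Agent.Lib.Block.Orthogonality
import Cfsg.Agent.Lib.Block.Principal
import Cfsg.Agent.Lib.Block.Local
import Cfsg.Agent.Lib.Char.Burnside
import Cfsg.Agent.Lib.Char.InducedSet

set_option autoImplicit false
open Cfsg

namespace Cfsg.Agent.S4500

section
open CfsgLib CfsgLib.Block

universe u

/-- A non-principal member of the principal block of degree prime to `s`. -/
private theorem exists_principal_degree_power {G : Type u} [Group G] [Finite G] (p s t a b c : ℕ)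
    (hp : p.Prime) (hs : s.Prime) (ht : t.Prime) (hps : p ≠ s) (hpt : p ≠ t) (hst : s ≠ t)
    (ha : a ≤ 2) (hG : Nat.card G = p ^ a * s ^ b * t ^ c) (hns : ¬ Group.IsSolvable G) :
    ∃ χ : IrrCharacter G, (χ : G → ℂ) ≠ (fun _ => 1) ∧ ∃ k : ℕ, charDegree (χ : G → ℂ) = t ^ k := by
  classical
  letI := Fintype.ofFinite G
  haveI := Fintype.ofFinite (IrrCharacter G)
  haveI := Fintype.ofFinite (ConjClasses G)
  haveI : Fact p.Prime := ⟨hp⟩
  obtain ⟨M, hM⟩ := exists_pModular hp
  haveI := hM.2.1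
  have hfac : (Nat.card G).factorization p = a := by
    rw [hG, Nat.factorization_mul (mul_ne_zero (pow_ne_zero _ hp.ne_zero) (pow_ne_zero _ hs.ne_zero))
      (pow_ne_zero _ ht.ne_zero), Nat.factorization_mul (pow_ne_zero _ hp.ne_zero) (pow_ne_zero _ hs.ne_zero),
      hp.factorization_pow, hs.factorization_pow, ht.factorization_pow]
    simp [hps, hpt, hps.symm, hpt.symm]
  have ha0 : a ≠ 0 := fun h => hns
    (Char.isSolvable_of_card_two_primes hs ht G b c (by rw [hG, h, pow_zero, one_mul]))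
  obtain ⟨x, hx⟩ := exists_prime_orderOf_dvd_card' (G := G) p
    (hG ▸ ((dvd_pow_self p ha0).mul_right _).mul_right _)
  set B := principalBlock M G with hBdef
  have hB : IsPBlock M B := isPBlock_principalBlock
  have hdeg1 : degVal p (oneChar G) = 0 := by simp [degVal, charDegree, oneChar]
  have hmin : minDeg p B = 0 := by
    have := minDeg_le (p := p) (B := B) (one_mem_principalBlock (M := M) (G := G))
    omega
  by_contra hcon
  push Not at hcon
  have hdvd : ∀ χ ∈ B, χ ≠ oneChar G → s ∣ charDegree (χ : G → ℂ) := by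
    intro χ hχ hne
    by_contra hsd
    have hp0 : blockHeight p B (χ : G → ℂ) = 0 := by
      by_contra h0
      have h1 := blockHeight_add_two_le_defect hM hB hχ (Nat.pos_of_ne_zero h0)
      have h2 : blockDefect p B = (Nat.card G).factorization p - minDeg p B := rfl
      rw [h2, hmin, hfac] at h1
      omega
    have hpd : ¬ p ∣ charDegree (χ : G → ℂ) := by
      intro h
      rw [blockHeight_eq, hmin, Nat.sub_zero] at hp0
      have := hp.factorization_pos_of_dvd (charDegree_eq χ).2 h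
      exact this.ne' hp0
    have hcop : (charDegree (χ : G → ℂ)).Coprime (p ^ a * s ^ b) :=
      Nat.Coprime.mul_right
        (Nat.Coprime.pow_right a ((hp.coprime_iff_not_dvd.2 hpd).symm))
        (Nat.Coprime.pow_right b ((hs.coprime_iff_not_dvd.2 hsd).symm))
    have hd : charDegree (χ : G → ℂ) ∣ t ^ c := hcop.dvd_of_dvd_mul_left (hG ▸ charDegree_dvd χ)
    obtain ⟨k, -, hk⟩ := (Nat.dvd_prime_pow ht).1 hd
    exact hcon χ (fun h => hne (Subtype.ext h)) k hk
  have h := blockUnion_orthogonal_regular_singular hM (IsBlockUnion.of_isPBlock hB)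
    (g := (1 : G)) (h := x) (by simp [hp.ne_one]) (hx ▸ dvd_rfl)
  rw [finsum_mem_eq_toFinset_sum,
    ← Finset.add_sum_erase _ _ (Set.mem_toFinset.2 (one_mem_principalBlock (M := M) (G := G)))] at h
  have h1 : ((oneChar G : IrrCharacter G) : G → ℂ) 1 *
      (starRingEnd ℂ) (((oneChar G : IrrCharacter G) : G → ℂ) x) = 1 := by simp [oneChar]
  rw [h1] at h
  obtain ⟨z, hz, hzeq⟩ : ∃ z : ℂ, IsIntegral ℤ z ∧
      ∑ χ ∈ B.toFinset.erase (oneChar G), (χ : G → ℂ) 1 * (starRingEnd ℂ) ((χ : G → ℂ) x) = s * z := by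
    refine ⟨∑ χ ∈ B.toFinset.erase (oneChar G),
      ((charDegree (χ : G → ℂ) / s : ℕ) : ℂ) * (starRingEnd ℂ) ((χ : G → ℂ) x), ?_, ?_⟩
    · refine IsIntegral.sum _ fun χ _ => IsIntegral.mul ?_ ?_
      · exact map_natCast (algebraMap ℤ ℂ) _ ▸ isIntegral_algebraMap
      · exact (Char.isCharacter_isIntegral (Char.isCharacter_of_isIrr χ.2) x).map
          ((starRingEnd ℂ).toIntAlgHom)
    · rw [Finset.mul_sum]
      refine Finset.sum_congr rfl fun χ hχ => ?_
      obtain ⟨hne, hχB⟩ := Finset.mem_erase.1 hχ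
      rw [← mul_assoc, (charDegree_eq χ).1, ← Nat.cast_mul,
        Nat.mul_div_cancel' (hdvd χ (Set.mem_toFinset.1 hχB) hne)]
  rw [hzeq] at h
  have hz' : z = algebraMap ℚ ℂ (-(1 / (s : ℚ))) := by
    have hs0 : (s : ℂ) ≠ 0 := Nat.cast_ne_zero.2 hs.ne_zero
    rw [eq_ratCast]; push_cast; field_simp
    linear_combination h
  rw [hz', isIntegral_algebraMap_iff (algebraMap ℚ ℂ).injective, IsIntegrallyClosed.isIntegral_iff] at hz
  obtain ⟨n, hn⟩ := hz
  rw [eq_intCast] at hn
  have : n * (s : ℤ) = -1 := by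
    have hs0 : (s : ℚ) ≠ 0 := Nat.cast_ne_zero.2 hs.ne_zero
    field_simp at hn
    exact_mod_cast hn
  have h3 : (s : ℤ) ∣ 1 := ⟨-n, by linarith⟩
  have := Int.natCast_dvd_natCast.1 (by exact_mod_cast h3 : (s : ℤ) ∣ ((1 : ℕ) : ℤ))
  exact hs.ne_one (Nat.dvd_one.1 this)

end

/-- Let G be a non-trivial finite group of order p^a · q^b · r^c with p, q, r distinct primes and a ≤ 2. Then G has a non-principal irreducible character whose degree is a power of q, and a non-principal irreducible character whose degree is a power of r; the power may be the zeroth, so a non-principal linear character serves for both. -/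
theorem result {G : Type*} [Group G] [Finite G] [Nontrivial G] (p q r a b c : ℕ) (hp : p.Prime) (hq : q.Prime) (hr : r.Prime) (hpq : p ≠ q) (hpr : p ≠ r) (hqr : q ≠ r) (ha : a ≤ 2) (hG : Nat.card G = p ^ a * q ^ b * r ^ c) : (∃ χ : Cfsg.IrrCharacter G, (χ : G → ℂ) ≠ (fun _ => 1) ∧ ∃ k : ℕ, Cfsg.charDegree (χ : G → ℂ) = q ^ k) ∧ ∃ χ : Cfsg.IrrCharacter G, (χ : G → ℂ) ≠ (fun _ => 1) ∧ ∃ k : ℕ, Cfsg.charDegree (χ : G → ℂ) = r ^ k := by
  classical
  letI := Fintype.ofFinite G
  by_cases hlin : ∃ χ : IrrCharacter G, (χ : G → ℂ) ≠ (fun _ => 1) ∧ charDegree (χ : G → ℂ) = 1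
  · obtain ⟨χ, h1, h2⟩ := hlin
    exact ⟨⟨χ, h1, 0, by simpa using h2⟩, ⟨χ, h1, 0, by simpa using h2⟩⟩
  have hns : ¬ Group.IsSolvable G := by
    intro hsol
    obtain ⟨θ, hθ, hθ1, -⟩ := CfsgLib.Char.exists_linear_above (⊥ : Subgroup G)
      (fun h => bot_ne_top h) hsol
    refine hlin ⟨θ, hθ, ?_⟩
    exact_mod_cast (CfsgLib.Block.charDegree_eq θ).1.symm.trans hθ1
  exact ⟨exists_principal_degree_power p r q a c b hp hr hq hpr hpq hqr.symm ha (by rw [hG]; ring) hns,
    exists_principal_degree_power p q r a b c hp hq hr hpq hpr hqr ha hG hns⟩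

end Cfsg.Agent.S4500
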