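import Cfsg.Statements.S0713
import Mathlib
import Cfsg.Agent.Lib.Perm.Groups.SmallSupport
-- import your own Cfsg.Agent.* helpers here

set_option autoImplicit false
open Cfsg

namespace Cfsg.Agent.S0713

/-- Jordan's Theorem: a primitive permutation group of degree `n ≥ 5` containing a `p`-cycle for a prime `p ≤ n - 3` contains the alternating group. -/
theorem result {α : Type*} [Fintype α] [DecidableEq α] (G : Subgroup (Equiv.Perm α)) (hG : MulAction.IsPreprimitive G α) {p : ℕ} (hp : p.Prime) (hn : 5 ≤ Fintype.card α) (hpn : p + 3 ≤ Fintype.card α) {g : Equiv.Perm α} (hgc : g.IsCycle) (hgp : g.support.card = p) (hg : g ∈ G) : alternatingGroup α ≤ G := by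
  classical
  haveI := Fact.mk hp
  obtain ⟨s, hs⟩ : ∃ s : Set α, s = (g.support : Set α)ᶜ := ⟨_, rfl⟩
  obtain ⟨k, hk⟩ : ∃ k, k = Fintype.card α - p := ⟨_, rfl⟩
  have hsc : s.ncard = k := by
    have h1 := Set.ncard_add_ncard_compl (g.support : Set α)
    rw [Set.ncard_coe_finset, hgp, Nat.card_eq_fintype_card, ← hs] at h1
    omega
  have hktr : MulAction.IsMultiplyPretransitive G α k := by
    have hprim : MulAction.IsMultiplyPreprimitive G α (k - 1 + 2) := by
      refine hG.isMultiplyPreprimitive (s := s) (by omega) (by rw [Nat.card_eq_fintype_card]; have := hp.two_le; omega) ?_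
      rw [hs]
      have := Equiv.Perm.isPretransitive_of_isCycle_mem hgc hg
      apply MulAction.IsPreprimitive.of_prime_card
      convert! hp
      rw [Nat.card_eq_fintype_card, Fintype.card_subtype, ← hgp]
      apply congr_arg
      ext x
      simp [SubMulAction.mem_ofFixingSubgroup_iff]
    haveI := hprim
    haveI : MulAction.IsMultiplyPretransitive G α (k - 1 + 2) :=
      MulAction.IsMultiplyPreprimitive.isMultiplyPretransitive ..
    exact MulAction.isMultiplyPretransitive_of_le (n := k - 1 + 2) (by omega)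
      (by rw [Nat.card_eq_fintype_card]; have := hp.two_le; omega)
  -- the fixing subgroup and its Sylow subgroup
  obtain ⟨F, hF⟩ : ∃ F : Subgroup (Equiv.Perm α), F = G ⊓ fixingSubgroup (Equiv.Perm α) s := ⟨_, rfl⟩
  have hFmem : ∀ x, x ∈ F ↔ x ∈ G ∧ ∀ y, y ∉ g.support → x y = y := fun x => by
    rw [hF, Subgroup.mem_inf, mem_fixingSubgroup_iff, hs]
    rfl
  have hgF : g ∈ F := (hFmem g).2 ⟨hg, fun y hy => Equiv.Perm.notMem_support.1 hy⟩
  have hord : orderOf g = p := by rw [hgc.orderOf, hgp]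
  obtain ⟨g', hg'⟩ : ∃ g' : F, g' = ⟨g, hgF⟩ := ⟨_, rfl⟩
  have hsylow : ∀ u : F, orderOf u = p → ∃ q : F, q * u * q⁻¹ ∈ Subgroup.zpowers g' := by
    intro u hu
    have hsq : ¬ p ^ 2 ∣ Nat.card F := by
      intro hd
      let φ : F →* Equiv.Perm {y // y ∈ g.support} :=
        MonoidHom.mk' (fun x => (x : Equiv.Perm α).subtypePerm (p := fun y => y ∈ g.support) (fun y => by
            constructor
            · intro hy; by_contra h; exact h (by
                have := ((hFmem x).1 x.2).2 y h; rwa [this] at hy)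
            · intro hy; by_contra h
              have := ((hFmem x).1 x.2).2 _ h
              exact h (by rwa [(x : Equiv.Perm α).injective this])))
          (fun x y => Equiv.ext fun z => rfl)
      have hinj : Function.Injective φ := by
        intro x y hxy
        refine Subtype.ext (Equiv.ext fun z => ?_)
        by_cases hz : z ∈ g.support
        · exact congrArg Subtype.val (DFunLike.congr_fun hxy ⟨z, hz⟩)
        · rw [((hFmem x).1 x.2).2 z hz, ((hFmem y).1 y.2).2 z hz]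
      have h1 : Nat.card F ∣ p.factorial := by
        have := Subgroup.card_dvd_of_injective φ hinj
        rwa [Nat.card_perm, Nat.card_eq_fintype_card (α := {y // y ∈ g.support}), Fintype.card_coe, hgp] at this
      have h2 : p * p ∣ p * (p - 1).factorial := by
        rw [← sq, Nat.mul_factorial_pred hp.ne_zero]
        exact hd.trans h1
      have h3 := (Nat.Prime.dvd_factorial hp).1 (Nat.dvd_of_mul_dvd_mul_left hp.pos h2)
      have := hp.two_le
      omega
    have hsy : ∀ v : F, orderOf v = p → ∃ Q : Sylow p F, (Q : Subgroup F) = Subgroup.zpowers v := by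
      intro v hv
      have hP : IsPGroup p (Subgroup.zpowers v) := IsPGroup.of_card (n := 1) (by rw [Nat.card_zpowers, hv, pow_one])
      obtain ⟨Q, hQ⟩ := hP.exists_le_sylow
      obtain ⟨e, he⟩ := IsPGroup.iff_card.1 Q.isPGroup'
      have he1 : e ≤ 1 := by
        by_contra h
        exact hsq ((pow_dvd_pow p (by omega : 2 ≤ e)).trans (he ▸ Subgroup.card_subgroup_dvd_card _))
      refine ⟨Q, (Subgroup.eq_of_le_of_card_ge hQ ?_).symm⟩
      rw [he, Nat.card_zpowers, hv]
      exact (Nat.pow_le_pow_right hp.pos he1).trans (pow_one p).le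
    obtain ⟨Q, hQ⟩ := hsy u hu
    obtain ⟨R, hR⟩ := hsy g' (by rw [hg', Subgroup.orderOf_mk, hord])
    obtain ⟨q, hq⟩ := MulAction.exists_smul_eq F Q R
    refine ⟨q, ?_⟩
    rw [← hR, ← hq, Sylow.coe_subgroup_smul]
    exact ⟨u, hQ.symm ▸ Subgroup.mem_zpowers u, rfl⟩
  -- elements normalising `⟨g⟩` inducing transpositions outside
  have hswap : ∀ a b : α, a ∉ g.support → b ∉ g.support →
      ∃ n ∈ G, (∃ i : ℤ, n * g * n⁻¹ = g ^ i) ∧ ∀ y, y ∉ g.support → n y = Equiv.swap a b y := by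
    intro a b ha hb
    have hscard : (Finset.univ \ g.support).card ≤ k := by
      rw [Finset.card_univ_diff, hgp]; omega
    obtain ⟨h, hh, hφ⟩ := CfsgLib.Perm.Groups.exists_map_of_le (show k ≤ Fintype.card α by omega) hktr
      (Finset.univ \ g.support) hscard (Equiv.swap a b) (Equiv.injective _).injOn
    have hout : ∀ y, y ∉ g.support → h y = Equiv.swap a b y := fun y hy => hφ y (by simp [hy])
    have hout' : ∀ y, y ∉ g.support → Equiv.swap a b y ∉ g.support := fun y hy => by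
      rcases eq_or_ne y a with rfl | hya
      · rwa [Equiv.swap_apply_left]
      rcases eq_or_ne y b with rfl | hyb
      · rwa [Equiv.swap_apply_right]
      rwa [Equiv.swap_apply_of_ne_of_ne hya hyb]
    have hu : h * g * h⁻¹ ∈ F := (hFmem _).2 ⟨G.mul_mem (G.mul_mem hh hg) (G.inv_mem hh), fun y hy => by
      have h1 : h⁻¹ y = Equiv.swap a b y := by
        rw [Equiv.Perm.inv_eq_iff_eq, hout _ (hout' y hy), Equiv.swap_apply_self]
      rw [Equiv.Perm.mul_apply, Equiv.Perm.mul_apply, h1, Equiv.Perm.notMem_support.1 (hout' y hy),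
        hout _ (hout' y hy), Equiv.swap_apply_self]⟩
    obtain ⟨q, hq⟩ := hsylow ⟨_, hu⟩ (by rw [Subgroup.orderOf_mk, ← MulAut.conj_apply, MulEquiv.orderOf_eq, hord])
    obtain ⟨i, hi⟩ := Subgroup.mem_zpowers_iff.1 hq
    refine ⟨(q : Equiv.Perm α) * h, G.mul_mem ((hFmem q).1 q.2).1 hh, ⟨i, ?_⟩, fun y hy => ?_⟩
    · have := congrArg Subtype.val hi
      rw [hg', SubgroupClass.coe_zpow] at this
      simp only [Subgroup.coe_mul, Subgroup.coe_inv] at this
      rw [this, _root_.mul_inv_rev]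
      simp only [mul_assoc]
    · rw [Equiv.Perm.mul_apply, hout y hy, ((hFmem q).1 q.2).2 _ (hout' y hy)]
  obtain ⟨T, hTs, hTc⟩ := Finset.exists_subset_card_eq (s := Finset.univ \ g.support) (n := 3) (by
    rw [Finset.card_univ_diff, hgp]; omega)
  obtain ⟨a, b, c, hab, hac, hbc, rfl⟩ := Finset.card_eq_three.1 hTc
  have hmem : ∀ x ∈ ({a, b, c} : Finset α), x ∉ g.support := fun x hx => (Finset.mem_sdiff.1 (hTs hx)).2
  obtain ⟨n₁, hn₁, ⟨i, hi⟩, h₁⟩ := hswap a b (hmem a (by simp)) (hmem b (by simp))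
  obtain ⟨n₂, hn₂, ⟨j, hj⟩, h₂⟩ := hswap a c (hmem a (by simp)) (hmem c (by simp))
  obtain ⟨d, hd⟩ : ∃ d, d = (n₂ * n₁)⁻¹ * (n₁ * n₂) := ⟨_, rfl⟩
  have hdG : d ∈ G := hd ▸ G.mul_mem (G.inv_mem (G.mul_mem hn₂ hn₁)) (G.mul_mem hn₁ hn₂)
  have hout : ∀ (u v y : α), u ∉ g.support → v ∉ g.support → y ∉ g.support → Equiv.swap u v y ∉ g.support := by
    intro u v y hu hv hy
    rcases eq_or_ne y u with rfl | hya
    · rwa [Equiv.swap_apply_left]
    rcases eq_or_ne y v with rfl | hyb
    · rwa [Equiv.swap_apply_right]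
    rwa [Equiv.swap_apply_of_ne_of_ne hya hyb]
  obtain ⟨w, hw⟩ : ∃ w : Equiv.Perm α, w = Equiv.swap a b * Equiv.swap a c * (Equiv.swap a b * Equiv.swap a c) := ⟨_, rfl⟩
  have hw3 : w.IsThreeCycle := by
    rw [hw]
    exact (Equiv.Perm.isThreeCycle_swap_mul_swap_same hab hac hbc).isThreeCycle_sq
  have hdout : ∀ y, y ∉ g.support → d y = w y := by
    intro y hy
    have ha := hmem a (by simp)
    have hb := hmem b (by simp)
    have hc := hmem c (by simp)
    rw [hd, Equiv.Perm.mul_apply, Equiv.Perm.inv_eq_iff_eq, Equiv.Perm.mul_apply, Equiv.Perm.mul_apply, h₂ y hy,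
      h₁ _ (hout a c y ha hc hy), hw, Equiv.Perm.mul_apply, Equiv.Perm.mul_apply, Equiv.Perm.mul_apply]
    have e1 := hout a b _ ha hb (hout a c y ha hc hy)
    rw [h₁ _ (hout a b _ ha hb (hout a c _ ha hc e1)), Equiv.swap_apply_self, h₂ _ (hout a c _ ha hc e1),
      Equiv.swap_apply_self]
  have hcomm : Commute d g := by
    have h12 : n₁ * n₂ * g * (n₁ * n₂)⁻¹ = g ^ (i * j) := by
      rw [_root_.mul_inv_rev, show n₁ * n₂ * g * (n₂⁻¹ * n₁⁻¹) = n₁ * (n₂ * g * n₂⁻¹) * n₁⁻¹ by group, hj,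
        ← conj_zpow, hi, ← zpow_mul]
    have h21 : n₂ * n₁ * g * (n₂ * n₁)⁻¹ = g ^ (i * j) := by
      rw [_root_.mul_inv_rev, show n₂ * n₁ * g * (n₁⁻¹ * n₂⁻¹) = n₂ * (n₁ * g * n₁⁻¹) * n₂⁻¹ by group, hi,
        ← conj_zpow, hj, ← zpow_mul, mul_comm j]
    have h3 : d * g * d⁻¹ = g := by
      rw [hd, show (n₂ * n₁)⁻¹ * (n₁ * n₂) * g * ((n₂ * n₁)⁻¹ * (n₁ * n₂))⁻¹ =
        (n₂ * n₁)⁻¹ * (n₁ * n₂ * g * (n₁ * n₂)⁻¹) * (n₂ * n₁) by group, h12, ← h21]
      group
    exact mul_inv_eq_iff_eq_mul.1 h3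
  obtain ⟨hc', hmemz⟩ := hgc.commute_iff.1 hcomm
  obtain ⟨t, ht⟩ : ∃ t, t = Equiv.Perm.ofSubtype (d.subtypePerm hc') := ⟨_, rfl⟩
  have htG : t ∈ G := by
    obtain ⟨m, hm⟩ := hmemz
    rw [ht, ← hm]
    exact G.zpow_mem hg m
  have hd3 : d * t⁻¹ = w := by
    refine Equiv.ext fun y => ?_
    by_cases hy : y ∈ g.support
    · have hty : t⁻¹ y ∈ g.support := by
        by_contra h
        have h1 : t (t⁻¹ y) = t⁻¹ y := by rw [ht]; exact Equiv.Perm.ofSubtype_apply_of_not_mem _ (ht ▸ h)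
        rw [show t (t⁻¹ y) = y by simp] at h1
        exact h (h1 ▸ hy)
      have h1 : d (t⁻¹ y) = t (t⁻¹ y) := by
        rw [ht, Equiv.Perm.ofSubtype_subtypePerm_of_mem hc' (ht ▸ hty)]
      rw [Equiv.Perm.mul_apply, h1, show t (t⁻¹ y) = y by simp]
      refine (Equiv.Perm.notMem_support.1 fun hyw => ?_).symm
      have hyw' : y ∈ ({a, b, c} : Finset α) := by
        by_contra hne
        simp only [Finset.mem_insert, Finset.mem_singleton, not_or] at hne
        refine Equiv.Perm.mem_support.1 hyw ?_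
        rw [hw]
        simp [Equiv.swap_apply_of_ne_of_ne hne.1 hne.2.1, Equiv.swap_apply_of_ne_of_ne hne.1 hne.2.2]
      exact hmem y hyw' hy
    · have h1 : t⁻¹ y = y := by
        rw [Equiv.Perm.inv_eq_iff_eq, ht]
        exact (Equiv.Perm.ofSubtype_apply_of_not_mem _ hy).symm
      rw [Equiv.Perm.mul_apply, h1, hdout y hy]
  exact Equiv.Perm.alternatingGroup_le_of_isPreprimitive_of_isThreeCycle_mem hG hw3
    (hd3 ▸ G.mul_mem hdG (G.inv_mem htG))

end Cfsg.Agent.S0713
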