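import Cfsg.Statements.S0949
import Cfsg.Agent.Lib.Block.HomocyclicTwo

set_option autoImplicit false
open Cfsg

namespace Cfsg.Agent.S0949

theorem card_two_torsion (m : ℕ) (hm : 1 ≤ m) :
    Nat.card {a : ZMod (2 ^ m) // a + a = 0} = 2 := by
  obtain ⟨j, rfl⟩ : ∃ j, m = j + 1 := ⟨m - 1, by omega⟩
  have : NeZero (2 ^ (j + 1)) := ⟨(pow_pos two_pos _).ne'⟩
  have hlt : 2 ^ j < 2 ^ (j + 1) := Nat.pow_lt_pow_right one_lt_two (by omega)
  have e : {a : ZMod (2 ^ (j + 1)) | a + a = 0} = {0, ((2 ^ j : ℕ) : ZMod (2 ^ (j + 1)))} := by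
    ext a
    simp only [Set.mem_setOf_eq, Set.mem_insert_iff, Set.mem_singleton_iff]
    constructor
    · intro h
      have h1 : ((a.val + a.val : ℕ) : ZMod (2 ^ (j + 1))) = 0 := by
        rw [Nat.cast_add, ZMod.natCast_zmod_val]; exact h
      rw [ZMod.natCast_eq_zero_iff] at h1
      obtain ⟨c, hc⟩ := h1
      have hv := a.val_lt
      have h2 : a.val + a.val < 2 ^ (j + 1) * 2 := by omega
      rw [hc] at h2
      have hc2 : c < 2 := Nat.lt_of_mul_lt_mul_left h2
      interval_cases c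
      · left
        rw [← ZMod.natCast_zmod_val a, show a.val = 0 by omega, Nat.cast_zero]
      · right
        have hp : 2 ^ (j + 1) = 2 * 2 ^ j := pow_succ' 2 j
        rw [← ZMod.natCast_zmod_val a, show a.val = 2 ^ j by omega]
    · rintro (rfl | rfl)
      · rw [add_zero]
      · rw [← Nat.cast_add, ← two_mul, ← pow_succ']
        exact ZMod.natCast_self _
  have h2 : Set.ncard {a : ZMod (2 ^ (j + 1)) | a + a = 0} = 2 := by
    rw [e, Set.ncard_pair]
    intro h
    have h' := congrArg ZMod.val h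
    rw [ZMod.val_zero, ZMod.val_natCast, Nat.mod_eq_of_lt hlt] at h'
    exact (pow_pos two_pos j).ne' h'.symm
  rwa [← Nat.card_coe_set_eq] at h2


/-- Let the finite group G have a Sylow 2-subgroup P isomorphic to Z/2^m × Z/2^m with m ≥ 2, and suppose G has no nontrivial normal subgroup of odd order. Then P is normal in G, C_G(P) = P, and the index of P is 1 or 3. -/
theorem result {G : Type*} [Group G] [Finite G] (P : Sylow 2 G) (m : ℕ) (hm : 2 ≤ m) (e : (P : Subgroup G) ≃* Multiplicative (ZMod (2 ^ m) × ZMod (2 ^ m))) (hO : ∀ N : Subgroup G, N.Normal → Odd (Nat.card N) → N = ⊥) : (P : Subgroup G).Normal ∧ Subgroup.centralizer (P : Set G) = (P : Subgroup G) ∧ ((P : Subgroup G).index = 1 ∨ (P : Subgroup G).index = 3) := by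
  have hab : ∀ a ∈ (P : Subgroup G), ∀ b ∈ (P : Subgroup G), a * b = b * a := fun a ha b hb =>
    congrArg Subtype.val (e.injective (by rw [map_mul, map_mul, mul_comm]) :
      (⟨a, ha⟩ : (P : Subgroup G)) * ⟨b, hb⟩ = ⟨b, hb⟩ * ⟨a, ha⟩)
  have h4 : Nat.card {x : (P : Subgroup G) // x ^ 2 = 1} = 4 := by
    have h1 : Nat.card {x : (P : Subgroup G) // x ^ 2 = 1} =
        Nat.card {ab : ZMod (2 ^ m) × ZMod (2 ^ m) // ab.1 + ab.1 = 0 ∧ ab.2 + ab.2 = 0} :=
      Nat.card_congr ((e.toEquiv.trans Multiplicative.toAdd).subtypeEquiv fun x => by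
        show x ^ 2 = 1 ↔ _ + _ = 0 ∧ _ + _ = 0
        rw [← e.map_eq_one_iff, map_pow, sq, ← Multiplicative.toAdd.apply_eq_iff_eq, toAdd_mul, toAdd_one,
          Prod.ext_iff]
        rfl)
    rw [h1, Nat.card_congr (Equiv.subtypeProdEquivProd (p := fun a => a + a = 0) (q := fun a => a + a = 0)),
      Nat.card_prod, card_two_torsion m (by omega)]
  have hbig : 4 < Nat.card P := by
    rw [Nat.card_congr (e.toEquiv.trans Multiplicative.toAdd), Nat.card_prod, Nat.card_zmod]
    have : 4 ≤ 2 ^ m := le_trans (by norm_num) (Nat.pow_le_pow_right two_pos hm)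
    exact lt_of_lt_of_le (by norm_num) (Nat.mul_le_mul this this)
  exact CfsgLib.Block.HomocyclicTwo.normal_of_fourTorsion G P hab h4 hbig hO

end Cfsg.Agent.S0949
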