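import Cfsg.Statements.S0516
import Cfsg.Agent.Lib.RankTwoFusion.GroupCase
import Cfsg.Agent.Lib.Invol.ZStar
import Cfsg.Agent.S0949
import Cfsg.Agent.Lib.FT.NoMinSimple

set_option autoImplicit false
open Cfsg

namespace Cfsg.Agent.S0516

/-- In a non-abelian finite simple group of 2-rank at most 2, a Sylow 2-subgroup is dihedral (of order at least 4),
quasi-dihedral, wreathed, or isomorphic to a Sylow 2-subgroup of the projective special unitary group of dimension 3
over the field with 16 elements. -/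
theorem result {G : Type*} [Group G] [Finite G] [IsSimpleGroup G]
    (hG : ¬ IsMulCommutative G) (h2 : Cfsg.PRankLE 2 2 G) (S : Sylow 2 G) {F : Type*} [Field F] [Fintype F]
    (hF : Fintype.card F = 16) (P : Sylow 2 (Cfsg.PSU 3 F 4)) :
    (∃ n : ℕ, 2 ≤ n ∧ Nonempty ((S : Subgroup G) ≃* DihedralGroup n)) ∨ Cfsg.IsQuasiDihedral (S : Subgroup G) ∨
      Cfsg.IsWreathed (S : Subgroup G) ∨ Nonempty ((S : Subgroup G) ≃* (P : Subgroup (Cfsg.PSU 3 F 4))) := by
  classical
  haveI : Fact (Nat.Prime 2) := ⟨Nat.prime_two⟩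
  have hO : ∀ N : Subgroup G, N.Normal → Odd (Nat.card N) → N = ⊥ := by
    intro N hN hodd
    rcases hN.eq_bot_or_eq_top with h | h
    · exact h
    · exfalso
      rw [h, Subgroup.card_top] at hodd
      haveI := CfsgLib.FT.isSolvable_of_odd G hodd
      exact hG ⟨⟨IsSimpleGroup.comm_iff_isSolvable.2 inferInstance⟩⟩
  have hev : 2 ∣ Nat.card G := by
    by_contra h
    have := hO ⊤ inferInstance (by rw [Subgroup.card_top]; exact Nat.odd_iff.2 (Nat.two_dvd_ne_zero.1 h))
    exact (bot_ne_top : (⊥ : Subgroup G) ≠ ⊤) this.symm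
  have hiso : ∀ z : G, ¬ Cfsg.IsIsolatedInvolution z := by
    intro z hz
    have hcore : Cfsg.pPrimeCore 2 G = ⊥ := by
      have hn : (Cfsg.pPrimeCore 2 G).Normal := by
        rw [CfsgLib.Coprime.pPrimeCore_eq_piCore Nat.prime_two]; infer_instance
      exact hO _ hn (Nat.coprime_two_right.1 (CfsgLib.Coprime.pPrimeCore_coprime Nat.prime_two))
    have hc := CfsgLib.Invol.eq_of_zcentral_bot (CfsgLib.Invol.zstar hz) hcore
    rcases (Subgroup.center G).normal_of_characteristic.eq_bot_or_eq_top with h | h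
    · rw [h, Subgroup.mem_bot] at hc
      have := hz.1
      rw [hc, orderOf_one] at this
      omega
    · exact hG ⟨⟨fun a b => (Subgroup.mem_center_iff.1 (h ▸ Subgroup.mem_top b : b ∈ Subgroup.center G) a)⟩⟩
  have h1 : ¬ Cfsg.PRankLE 2 1 G := by
    intro h1
    obtain ⟨z, hz⟩ := exists_prime_orderOf_dvd_card' (G := G) 2 hev
    refine hiso z ⟨hz, fun g hg => ?_⟩
    by_contra hne
    rw [orderOf_eq_prime_iff] at hz
    set w := g * z * g⁻¹ with hw
    have hw2 : w ^ 2 = 1 := by rw [hw, conj_pow, hz.1, mul_one, mul_inv_cancel]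
    have hcomm : IsMulCommutative (Subgroup.closure ({z, w} : Set G)) := Subgroup.isMulCommutative_closure (by
      intro a ha b hb
      rcases ha with e | e <;> rcases hb with f | f <;> rw [e, f]
      exacts [hg.eq, hg.eq.symm])
    have hle := h1 (Subgroup.closure ({z, w} : Set G)) hcomm (fun x hx => by
      induction hx using Subgroup.closure_induction with
      | mem y hy => rcases hy with e | e <;> rw [e]
                    exacts [hz.1, hw2]
      | one => exact one_pow 2
      | mul a c ha hc' e1 e2 =>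
        rw [(show Commute a c from congrArg Subtype.val (hcomm.is_comm.comm ⟨a, ha⟩ ⟨c, hc'⟩)).mul_pow, e1, e2,
          one_mul]
      | inv a _ e1 => rw [inv_pow, e1, inv_one])
    have hsub : ({1, z, w} : Set G) ⊆ Subgroup.closure ({z, w} : Set G) := by
      intro x hx
      rcases hx with e | e | e <;> rw [e]
      exacts [one_mem _, Subgroup.subset_closure (by simp), Subgroup.subset_closure (by simp)]
    have hw1 : w ≠ 1 := fun e => hz.2 (conj_eq_one_iff.1 e)
    have h3 := Set.ncard_le_ncard hsub (Set.toFinite _)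
    rw [Set.ncard_eq_three.2 ⟨1, z, w, Ne.symm hz.2, Ne.symm hw1, Ne.symm hne, rfl⟩, ← Nat.card_coe_set_eq] at h3
    simp only [SetLike.coe_sort_coe] at h3
    omega
  rcases CfsgLib.RankTwoFusion.shape_of_group h2 h1 hiso S hF P with h | h | h | ⟨n, hn, ⟨e⟩⟩ | h
  · exact Or.inl h
  · exact Or.inr (Or.inl h)
  · exact Or.inr (Or.inr (Or.inl h))
  · exfalso
    obtain ⟨hnorm, -, hidx⟩ := Cfsg.Agent.S0949.result S n hn e hO
    rcases hnorm.eq_bot_or_eq_top with h | h
    · have hc := Nat.card_congr e.toEquiv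
      rw [h, Subgroup.card_bot, Nat.card_congr Multiplicative.toAdd, Nat.card_prod, Nat.card_zmod] at hc
      have : 2 ≤ 2 ^ n := Nat.le_self_pow (by omega) 2
      nlinarith
    · exact hG ⟨⟨fun a b => congrArg Subtype.val (e.injective (by rw [map_mul, map_mul, mul_comm]) :
        (⟨a, h ▸ Subgroup.mem_top a⟩ : (S : Subgroup G)) * ⟨b, h ▸ Subgroup.mem_top b⟩ = ⟨b, h ▸ Subgroup.mem_top b⟩ * ⟨a, h ▸ Subgroup.mem_top a⟩)⟩⟩
  · exact Or.inr (Or.inr (Or.inr h))

end Cfsg.Agent.S0516
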