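import Cfsg.Statements.S1141
import Cfsg.Agent.Lib.Lie.RankOne.SuzukiUnital
-- import your own Cfsg.Agent.* helpers here

set_option autoImplicit false
open Cfsg

namespace Cfsg.Agent.S1141

/-- Let `q = 2^n ≥ 4` and `|F| = q²`. A Sylow 2-subgroup `S` of `PSU₃(q)` has order `q³`, its centre has order `q`, and `S` is a Suzuki 2-group. -/
theorem result {F : Type*} [Field F] [Fintype F] {n : ℕ} (hn : 2 ≤ n)
    (hF : Fintype.card F = (2 ^ n) ^ 2) (S : Sylow 2 (Cfsg.PSU 3 F (2 ^ n))) :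
    Nat.card S = (2 ^ n) ^ 3 ∧ Nat.card (Subgroup.center ↥(S : Subgroup (Cfsg.PSU 3 F (2 ^ n)))) = 2 ^ n ∧
      Cfsg.IsSuzukiTwoGroup ↥(S : Subgroup (Cfsg.PSU 3 F (2 ^ n))) := by
  haveI : CharP F 2 := charP_of_card_eq_prime_pow (f := n * 2) (by rw [hF, ← pow_mul])
  haveI : Finite (Cfsg.PSU 3 F (2 ^ n)) := inferInstance
  obtain ⟨U, -⟩ := CfsgLib.SU.unital_sylow_psu (by omega) hF S
  have hF' : Nat.card F = (2 ^ n) ^ 2 := by rw [Nat.card_eq_fintype_card, hF]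
  exact ⟨U.card_eq hF', U.card_center_eq hF', CfsgLib.Lie.RankOne.isSuzukiTwoGroup U hn hF'⟩

end Cfsg.Agent.S1141
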