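import Cfsg.Statements.S1120
import Cfsg.Agent.Lib.RootSub.Setup2
import Cfsg.Agent.Lib.Coprime.Core
import Cfsg.Agent.Lib.Coprime.Action


set_option autoImplicit false
open Cfsg

namespace Cfsg.Agent.S1120

open CfsgLib.RootSub MulAction

/-- In the rank-one set-up (`G` finite and doubly transitive on `Ω`, `t` an involution moving `a`, `Q` normal in `G_a` with `G_a = Q D`, `Q ⊓ D = 1` for the two-point stabiliser `D = G_a ⊓ G_{t • a}`, `|Q|` even, `|D|` odd), if `G` has 2-rank at least 2 then `O_{2'}(G)` equals the normal core of `G_a`. -/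
theorem result {G Ω : Type*} [Group G] [Finite G] [MulAction G Ω] {a : Ω} {t : G} {Q : Subgroup G}
    (hS : Cfsg.IsRankOneSetup G Ω a t Q)
    (h2 : ∃ x y : G, x ≠ 1 ∧ y ≠ 1 ∧ x ≠ y ∧ x * x = 1 ∧ y * y = 1 ∧ x * y = y * x) :
    Cfsg.pPrimeCore 2 G = (MulAction.stabilizer G a).normalCore := by
  haveI := hS.two_transitive
  haveI : IsPretransitive G Ω := isPretransitive_of_is_two_pretransitive
  set N := Cfsg.pPrimeCore 2 G
  haveI hNn : N.Normal := Subgroup.sSup_normal _ (fun _ h => h.1)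
  set K := (stabilizer G a).normalCore
  have hfix : ∀ k ∈ K, ∀ c : Ω, k • c = c := by
    intro k hk c
    obtain ⟨g, rfl⟩ := exists_smul_eq G a c
    have h1 : g⁻¹ * k * g⁻¹⁻¹ ∈ stabilizer G a :=
      Subgroup.normalCore_le _ ((Subgroup.normalCore_normal _).conj_mem k hk g⁻¹)
    rw [inv_inv, mem_stabilizer_iff, mul_smul, mul_smul, inv_smul_eq_iff] at h1
    exact h1
  refine le_antisymm ?_ ?_
  swap
  · refine CfsgLib.Coprime.le_pPrimeCore_of_not_dvd Nat.prime_two fun hd => ?_
    have hle : K ≤ stabilizer G a ⊓ stabilizer G (t • a) := fun k hk =>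
      Subgroup.mem_inf.2 ⟨mem_stabilizer_iff.2 (hfix k hk a), mem_stabilizer_iff.2 (hfix k hk _)⟩
    exact Nat.not_even_iff_odd.2 hS.odd_card (even_iff_two_dvd.2 (hd.trans (Subgroup.card_dvd_of_le hle)))
  refine Subgroup.normal_le_normalCore.2 ?_
  obtain ⟨x, y, hx1, hy1, hne, hx2, hy2, hxy⟩ := h2
  obtain ⟨p, hp, hpx⟩ := Setup.exists_fixed hS hx1 hx2
  set A := Subgroup.closure ({x, y} : Set G) with hA
  have hxA : x ∈ A := Subgroup.subset_closure (by simp)
  have hyA : y ∈ A := Subgroup.subset_closure (by simp)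
  have hxi : x⁻¹ = x := inv_eq_of_mul_eq_one_right hx2
  have hyi : y⁻¹ = y := inv_eq_of_mul_eq_one_right hy2
  haveI hcomm : IsMulCommutative A := by
    refine Subgroup.isMulCommutative_closure fun u hu v hv => ?_
    rcases hu with rfl | rfl <;> rcases hv with rfl | rfl <;> first | rfl | exact hxy | exact hxy.symm
  have hmem : ∀ u ∈ A, u = 1 ∨ u = x ∨ u = y ∨ u = x * y := by
    intro u hu
    have hmul : ∀ w ∈ ({x, y} : Set G), ∀ v : G, (v = 1 ∨ v = x ∨ v = y ∨ v = x * y) →
        w * v = 1 ∨ w * v = x ∨ w * v = y ∨ w * v = x * y := by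
      rintro w (rfl | rfl) v (rfl | rfl | rfl | rfl)
      · exact Or.inr (Or.inl (mul_one _))
      · exact Or.inl hx2
      · exact Or.inr (Or.inr (Or.inr rfl))
      · exact Or.inr (Or.inr (Or.inl (by rw [← mul_assoc, hx2, one_mul])))
      · exact Or.inr (Or.inr (Or.inl (mul_one _)))
      · exact Or.inr (Or.inr (Or.inr hxy.symm))
      · exact Or.inl hy2
      · exact Or.inr (Or.inl (by rw [hxy, ← mul_assoc, hy2, one_mul]))
    induction hu using Subgroup.closure_induction_left with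
    | one => exact Or.inl rfl
    | mul_left w hw v _ ih => exact hmul w hw v ih
    | inv_mul_cancel w hw v _ ih =>
      rcases hw with rfl | rfl
      · rw [hxi]; exact hmul _ (Or.inl rfl) v ih
      · rw [hyi]; exact hmul _ (Or.inr rfl) v ih
  have hyp : y • p = p := hpx _ (by rw [← mul_smul, hxy, mul_smul, hp])
  have hcyc : ¬ IsCyclic A := by
    intro h
    obtain ⟨g, hg⟩ := Subgroup.isCyclic_iff_exists_zpowers_eq_top A |>.1 h
    have hgA : g ∈ A := hg ▸ Subgroup.mem_zpowers g
    have hg2 : g * g = 1 := by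
      rcases hmem g hgA with e | e | e | e <;> rw [e]
      · rw [one_mul]
      · exact hx2
      · exact hy2
      · rw [show x * y * (x * y) = x * (y * x) * y by group, ← hxy, ← mul_assoc, hx2, one_mul, hy2]
    have hxg : ∀ z ∈ A, z = 1 ∨ z = g := by
      intro z hz
      rw [← hg] at hz
      obtain ⟨n, rfl⟩ := Subgroup.mem_zpowers_iff.1 hz
      rcases Int.even_or_odd' n with ⟨j, rfl | rfl⟩
      · left; rw [zpow_mul, zpow_two, hg2, one_zpow]
      · right; rw [zpow_add, zpow_mul, zpow_two, hg2, one_zpow, one_mul, zpow_one]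
    exact hne (((hxg x hxA).resolve_left hx1).trans ((hxg y hyA).resolve_left hy1).symm)
  have hexp : ∀ u ∈ A, u * u = 1 ∧ u • p = p := by
    intro u hu
    rcases hmem u hu with rfl | rfl | rfl | rfl
    · exact ⟨one_mul _, one_smul _ _⟩
    · exact ⟨hx2, hp⟩
    · exact ⟨hy2, hyp⟩
    · exact ⟨by rw [show x * y * (x * y) = x * (y * x) * y by group, ← hxy, ← mul_assoc, hx2, one_mul, hy2],
        by rw [mul_smul, hyp, hp]⟩
  have hcop : (Nat.card A).Coprime (Nat.card N) := by
    have hA2 : IsPGroup 2 A := fun u => ⟨1, Subtype.ext (by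
      rw [pow_one, pow_two]; exact (hexp u u.2).1)⟩
    haveI : Fact (Nat.Prime 2) := ⟨Nat.prime_two⟩
    obtain ⟨j, hj⟩ := IsPGroup.iff_card.1 hA2
    rw [hj]
    exact (Nat.Coprime.symm (CfsgLib.Coprime.pPrimeCore_coprime Nat.prime_two)).pow_left j
  have hle : N ≤ stabilizer G p := CfsgLib.Coprime.le_of_centralizers_le hcyc
    (by rw [Subgroup.normalizer_eq_top]; exact le_top) hcop (fun u hu hu1 v hv => by
      obtain ⟨-, hvu⟩ := Subgroup.mem_inf.1 hv
      obtain ⟨c, -, hc⟩ := Setup.exists_fixed hS hu1 (hexp u hu).1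
      refine mem_stabilizer_iff.2 ?_
      rw [hc p (hexp u hu).2]
      refine hc _ ?_
      rw [← mul_smul, ← Subgroup.mem_centralizer_singleton_iff.1 hvu, mul_smul, ← hc p (hexp u hu).2, (hexp u hu).2])
  intro v hv
  obtain ⟨g, hg⟩ := exists_smul_eq G p a
  have h1 := hle (hNn.conj_mem v hv g⁻¹)
  rw [inv_inv, mem_stabilizer_iff, mul_smul, mul_smul, hg, inv_smul_eq_iff, hg] at h1
  exact mem_stabilizer_iff.2 h1

end Cfsg.Agent.S1120
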