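import Cfsg.Statements.S1124


set_option autoImplicit false
open scoped Pointwise
open Cfsg

namespace Cfsg.Agent.S1124

open scoped Pointwise

/-- Let `t` be an element of order 2 of a finite group normalising a subgroup `X` of odd order, `Y = C_X(t)` and `Z` the set of elements of `X` inverted by `t`. Then `(y, z) ↦ y z` is a bijection `Y × Z → X`, so `|X| = |Y| |Z|`, and the subgroup generated by `Z` is normal in `X`. -/
theorem result {M : Type*} [Group M] [Finite M]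
    (t : M) (ht : orderOf t = 2) (X : Subgroup M) (hodd : Odd (Nat.card X))
    (hnorm : ∀ x ∈ X, t * x * t⁻¹ ∈ X) :
    (∀ x ∈ X, ∃! p : M × M, p.1 ∈ X ⊓ Subgroup.centralizer {t} ∧ p.2 ∈ Cfsg.invertedBy X t ∧ x = p.1 * p.2) ∧
      Nat.card X = Nat.card ↥(X ⊓ Subgroup.centralizer {t}) * Nat.card (Cfsg.invertedBy X t) ∧
      ∀ x ∈ X, MulAut.conj x • Subgroup.closure (Cfsg.invertedBy X t) = Subgroup.closure (Cfsg.invertedBy X t) := by
  classical
  have htt : t * t = 1 := by rw [← pow_two, ← ht, pow_orderOf_eq_one]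
  have hti : t⁻¹ = t := inv_eq_of_mul_eq_one_right htt
  obtain ⟨k, hk⟩ := hodd
  have hroot : ∀ i ∈ X, (i ^ 2) ^ (k + 1) = i := by
    intro i hi
    have h1 : i ^ Nat.card X = 1 := orderOf_dvd_iff_pow_eq_one.1 (Subgroup.orderOf_dvd_natCard _ hi)
    rw [← pow_mul, show 2 * (k + 1) = Nat.card X + 1 by omega, pow_succ, h1, one_mul]
  have key : ∀ x ∈ X, ∃! p : M × M, p.1 ∈ X ⊓ Subgroup.centralizer {t} ∧ p.2 ∈ Cfsg.invertedBy X t ∧ x = p.1 * p.2 := by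
    intro x hx
    set j := (t * x * t⁻¹)⁻¹ * x with hj
    have hjX : j ∈ X := mul_mem (inv_mem (hnorm x hx)) hx
    set i := j ^ (k + 1) with hi
    have hiX : i ∈ X := pow_mem hjX _
    have hjt : t * j * t⁻¹ = j⁻¹ := by
      calc t * j * t⁻¹ = (t * t) * x⁻¹ * (t⁻¹ * x * t⁻¹) := by rw [hj]; group
        _ = x⁻¹ * (t * x * t⁻¹) := by rw [htt, one_mul]; nth_rewrite 1 [hti]; rfl
        _ = j⁻¹ := by rw [hj]; group
    have hit : t * i * t⁻¹ = i⁻¹ := by rw [hi, ← conj_pow, hjt, inv_pow]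
    have hi2 : i ^ 2 = j := by
      rw [hi, ← pow_mul, show (k + 1) * 2 = Nat.card X + 1 by omega, pow_succ,
        orderOf_dvd_iff_pow_eq_one.1 (Subgroup.orderOf_dvd_natCard _ hjX), one_mul]
    have hct : t * (x * i⁻¹) * t⁻¹ = x * i⁻¹ := by
      have e1 : t * (x * i⁻¹) * t⁻¹ = (t * x * t⁻¹) * (t * i * t⁻¹)⁻¹ := by group
      rw [e1, hit, inv_inv, show t * x * t⁻¹ = x * j⁻¹ by rw [hj]; group, ← hi2]
      group
    refine ⟨(x * i⁻¹, i), ⟨Subgroup.mem_inf.2 ⟨mul_mem hx (inv_mem hiX),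
      Subgroup.mem_centralizer_singleton_iff.2 (mul_inv_eq_iff_eq_mul.1 hct).symm⟩, ⟨hiX, hit⟩,
      (inv_mul_cancel_right x i).symm⟩, ?_⟩
    rintro ⟨c, i'⟩ ⟨hc, ⟨hi'X, hi't⟩, hx'⟩
    simp only at hc hi'X hi't hx' ⊢
    obtain ⟨hcX, hct'⟩ := Subgroup.mem_inf.1 hc
    have hcc : t * c * t⁻¹ = c := by
      rw [← Subgroup.mem_centralizer_singleton_iff.1 hct', mul_inv_cancel_right]
    have hj' : j = i' ^ 2 := by
      rw [hj, hx', show t * (c * i') * t⁻¹ = (t * c * t⁻¹) * (t * i' * t⁻¹) by group, hcc, hi't, pow_two]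
      group
    have hii : i' = i := by rw [hi, hj', hroot i' hi'X]
    rw [Prod.mk.injEq]
    exact ⟨by rw [hx', hii, mul_inv_cancel_right], hii⟩
  refine ⟨key, ?_, fun x hx => ?_⟩
  · let f : ↥(X ⊓ Subgroup.centralizer {t}) × ↥(Cfsg.invertedBy X t) → X := fun p =>
      ⟨(p.1 : M) * p.2, mul_mem (Subgroup.mem_inf.1 p.1.2).1 p.2.2.1⟩
    have hf : Function.Bijective f := by
      refine ⟨fun p q h => ?_, fun x => ?_⟩
      · obtain ⟨r, -, hu⟩ := key _ (f p).2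
        have h1 := hu ((p.1 : M), (p.2 : M)) ⟨p.1.2, p.2.2, rfl⟩
        have h2 := hu ((q.1 : M), (q.2 : M)) ⟨q.1.2, q.2.2, congrArg Subtype.val h⟩
        obtain ⟨h3, h4⟩ := Prod.mk.injEq .. ▸ (h1.trans h2.symm)
        exact Prod.ext (Subtype.ext h3) (Subtype.ext h4)
      · obtain ⟨⟨c, i⟩, ⟨hc, hi, e⟩, -⟩ := key x x.2
        exact ⟨(⟨c, hc⟩, ⟨i, hi⟩), Subtype.ext e.symm⟩
    rw [← Nat.card_eq_of_bijective f hf, Nat.card_prod]
  · set I := Subgroup.closure (Cfsg.invertedBy X t) with hI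
    obtain ⟨⟨c, i⟩, ⟨hc, hi, hxe⟩, -⟩ := key x hx
    obtain ⟨hcX, hct⟩ := Subgroup.mem_inf.1 hc
    have hcN : ∀ y : M, y ∈ X ⊓ Subgroup.centralizer {t} → ∀ w ∈ I, y * w * y⁻¹ ∈ I := by
      intro y hy w hw
      obtain ⟨hyX, hyt⟩ := Subgroup.mem_inf.1 hy
      refine (Subgroup.closure_le (I.comap (MulAut.conj y).toMonoidHom)).2 (fun j hj => ?_) hw
      refine Subgroup.subset_closure ⟨mul_mem (mul_mem hyX hj.1) (inv_mem hyX), ?_⟩
      show t * (y * j * y⁻¹) * t⁻¹ = (y * j * y⁻¹)⁻¹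
      have hy' : y * t = t * y := Subgroup.mem_centralizer_singleton_iff.1 hyt
      calc t * (y * j * y⁻¹) * t⁻¹ = (t * y) * j * (t * y)⁻¹ := by group
        _ = y * (t * j * t⁻¹) * y⁻¹ := by rw [← hy']; group
        _ = (y * j * y⁻¹)⁻¹ := by rw [hj.2]; group
    have hiI : i ∈ I := Subgroup.subset_closure hi
    have hfwd : ∀ w ∈ I, x * w * x⁻¹ ∈ I := fun w hw => by
      have h1 := hcN c hc _ (mul_mem (mul_mem hiI hw) (inv_mem hiI))
      rwa [show c * (i * w * i⁻¹) * c⁻¹ = (c * i) * w * (c * i)⁻¹ by group, ← hxe] at h1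
    have hbwd : ∀ w ∈ I, x⁻¹ * w * x ∈ I := fun w hw => by
      have h1 := mul_mem (mul_mem (inv_mem hiI) (hcN c⁻¹ (inv_mem hc) w hw)) hiI
      rw [inv_inv] at h1
      rwa [show i⁻¹ * (c⁻¹ * w * c) * i = (c * i)⁻¹ * w * (c * i) by group, ← hxe] at h1
    ext w
    rw [Subgroup.mem_pointwise_smul_iff_inv_smul_mem]
    show (MulAut.conj x)⁻¹ • w ∈ I ↔ w ∈ I
    rw [MulAut.smul_def, ← map_inv, MulAut.conj_apply, inv_inv]
    refine ⟨fun h => ?_, hbwd w⟩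
    simpa [mul_assoc] using hfwd _ h

end Cfsg.Agent.S1124
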