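import Cfsg.Statements.S1127
import Cfsg.Agent.Lib.RootSub.Setup2
import Cfsg.Agent.Lib.Coprime.Core
import Cfsg.Agent.Lib.Coprime.Action


set_option autoImplicit false
open Cfsg

namespace Cfsg.Agent.S1127

open CfsgLib.RootSub MulAction

/-- In the rank-one set-up (`G` finite and doubly transitive on `Ω`, `t` an involution moving `a`, `Q` normal in `G_a` with `G_a = Q D`, `Q ⊓ D = 1` for the two-point stabiliser `D = G_a ⊓ G_{t • a}`, `|Q|` even, `|D|` odd): if `s` is an involution of `G_a` and `r ∈ Q` satisfy `t s t = r⁻¹ t r`, then `C_D(t) = C_D(s)`; moreover `C_D(t) ⊓ C_D(K) = C_D(I ∩ G_a)`, where `K` is the set of elements of `D` inverted by `t` and `I ∩ G_a` the set of involutions of `G_a`. -/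
theorem result {G Ω : Type*} [Group G] [Finite G] [MulAction G Ω] {a : Ω} {t : G} {Q : Subgroup G}
    (hS : Cfsg.IsRankOneSetup G Ω a t Q) :
    (∀ s r : G, s ∈ Cfsg.involutionsIn (MulAction.stabilizer G a : Set G) → r ∈ Q → t * s * t = r⁻¹ * t * r →
        (MulAction.stabilizer G a ⊓ MulAction.stabilizer G (t • a)) ⊓ Subgroup.centralizer {t} = (MulAction.stabilizer G a ⊓ MulAction.stabilizer G (t • a)) ⊓ Subgroup.centralizer {s}) ∧
      (MulAction.stabilizer G a ⊓ MulAction.stabilizer G (t • a)) ⊓ Subgroup.centralizer {t} ⊓ Subgroup.centralizer (Cfsg.invertedBy (MulAction.stabilizer G a ⊓ MulAction.stabilizer G (t • a)) t) =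
        (MulAction.stabilizer G a ⊓ MulAction.stabilizer G (t • a)) ⊓ Subgroup.centralizer (Cfsg.involutionsIn (MulAction.stabilizer G a : Set G)) := by
  refine ⟨fun s r hs hr e => ?_, ?_⟩
  · ext c
    rw [Subgroup.mem_inf (p' := Subgroup.centralizer {t}), Subgroup.mem_inf (p' := Subgroup.centralizer {s}),
      Subgroup.mem_centralizer_singleton_iff, Subgroup.mem_centralizer_singleton_iff]
    exact and_congr_right fun hc => Setup.commute_t_iff hS hs hr e hc
  · obtain ⟨s, hs, r, hr, e⟩ := Setup.exists_structure hS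
    ext c
    constructor
    · intro h
      obtain ⟨h1, hJ⟩ := Subgroup.mem_inf.1 h
      obtain ⟨hc, hct⟩ := Subgroup.mem_inf.1 h1
      refine Subgroup.mem_inf.2 ⟨hc, Subgroup.mem_centralizer_iff.2 fun s' hs' => ?_⟩
      obtain ⟨k, hk⟩ := (Setup.conj_bijective hS hs).2 ⟨s', hs'⟩
      rw [← show (k : G)⁻¹ * s * k = s' from congrArg Subtype.val hk]
      have hck : Commute c (k : G) := (Subgroup.mem_centralizer_iff.1 hJ k k.2).symm
      have hcs : Commute c s := (Setup.commute_t_iff hS hs hr e hc).1 (Subgroup.mem_centralizer_singleton_iff.1 hct)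
      exact ((hck.inv_right.mul_right hcs).mul_right hck).eq.symm
    · intro h
      obtain ⟨hc, hI⟩ := Subgroup.mem_inf.1 h
      have hcs : c * s = s * c := (Subgroup.mem_centralizer_iff.1 hI s hs).symm
      have hct := (Setup.commute_t_iff hS hs hr e hc).2 hcs
      refine Subgroup.mem_inf.2 ⟨Subgroup.mem_inf.2 ⟨hc, Subgroup.mem_centralizer_singleton_iff.2 hct⟩,
        Subgroup.mem_centralizer_iff.2 fun k hk => ?_⟩
      have hcD' : k * c * k⁻¹ ∈ stabilizer G a ⊓ stabilizer G (t • a) := mul_mem (mul_mem hk.1 hc) (inv_mem hk.1)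
      have hs' := Subgroup.mem_centralizer_iff.1 hI _ (Setup.conj_involution hS hs hk.1.1)
      have h1 : k * c * k⁻¹ * t = t * (k * c * k⁻¹) := by
        refine (Setup.commute_t_iff hS hs hr e hcD').2 ?_
        calc k * c * k⁻¹ * s = k * (c * (k⁻¹ * s * k)) * k⁻¹ := by group
          _ = k * (k⁻¹ * s * k * c) * k⁻¹ := by rw [← hs']
          _ = s * (k * c * k⁻¹) := by group
      have h2 : t * k * t⁻¹ = k⁻¹ := hk.2
      have h4 : k⁻¹ * c * k = k * c * k⁻¹ := by
        calc k⁻¹ * c * k = (t * k * t⁻¹) * c * (t * k * t⁻¹)⁻¹ := by rw [h2]; group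
          _ = t * k * (t⁻¹ * c * t) * k⁻¹ * t⁻¹ := by group
          _ = t * k * (t⁻¹ * (t * c)) * k⁻¹ * t⁻¹ := by rw [mul_assoc t⁻¹ c t, hct]
          _ = (t * (k * c * k⁻¹)) * t⁻¹ := by group
          _ = k * c * k⁻¹ := by rw [← h1, mul_inv_cancel_right]
      have h5 : Commute c (k * k) := by
        show c * (k * k) = k * k * c
        calc c * (k * k) = k * (k⁻¹ * c * k) * k := by group
          _ = k * (k * c * k⁻¹) * k := by rw [h4]
          _ = k * k * c := by group
      obtain ⟨m, hm⟩ := hS.odd_card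
      have h6 : (k * k) ^ (m + 1) = k := by
        rw [← pow_two, ← pow_mul, show 2 * (m + 1) = Nat.card ↥(stabilizer G a ⊓ stabilizer G (t • a)) + 1 by omega,
          pow_succ, orderOf_dvd_iff_pow_eq_one.1 (Subgroup.orderOf_dvd_natCard _ hk.1), one_mul]
      have := h5.pow_right (m + 1)
      rw [h6] at this
      exact this.eq.symm

end Cfsg.Agent.S1127
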