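import Cfsg.Statements.S1137
import Cfsg.Agent.Lib.Lie.SuzTwo.Center
-- import your own Cfsg.Agent.* helpers here

set_option autoImplicit false
open Cfsg

namespace Cfsg.Agent.S1137

/-- In a Suzuki 2-group `P` (a finite non-abelian 2-group with more than one involution admitting a cyclic group of automorphisms regular on its involutions) the involutions are exactly the non-identity central elements, and `Z(P)` is elementary abelian. -/
theorem result {P : Type*} [Group P] (hP : Cfsg.IsSuzukiTwoGroup P) :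
    (∀ x : P, (x ≠ 1 ∧ x * x = 1) ↔ (x ∈ Subgroup.center P ∧ x ≠ 1)) ∧
      ∀ z ∈ Subgroup.center P, z * z = 1 := by
  obtain ⟨hfin, h2, ⟨a, b, hab⟩, -, K, hK, hreg⟩ := hP
  haveI := hK
  letI : CommGroup K := IsCyclic.commGroup
  haveI : Finite (MulAut P) := Finite.of_injective (fun f : MulAut P => (f : P → P)) DFunLike.coe_injective
  have hρ : CfsgLib.Lie.SuzTwo.Reg (K.subtype) := hreg
  have hexp : ∀ z ∈ Subgroup.center P, z * z = 1 := fun z hz => by
    by_contra hne
    exact hab (CfsgLib.Lie.SuzTwo.comm_of_center_exponent (Nat.card P) P le_rfl h2 K.subtype hρ z hz hne a b)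
  exact ⟨fun x => ⟨fun h => ⟨CfsgLib.Lie.SuzTwo.invol_central h2 hρ h.2, h.1⟩,
    fun h => ⟨h.2, hexp x h.1⟩⟩, hexp⟩

end Cfsg.Agent.S1137
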