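import Cfsg.Statements.S1983
import Cfsg.Agent.Lib.CFun.Engel
import Cfsg.Agent.Lib.CFun.Critical
import Cfsg.Agent.Lib.CFun.Degree
import Cfsg.Agent.Lib.CFun.Irreducible

set_option autoImplicit false
universe u
open Cfsg
open scoped commutatorElement

namespace Cfsg.Agent.S1983

/-- Let p be a prime, G a finite group with Sylow p-subgroup S and T = O_p(G). Suppose that the lower or the upper K-infinity subgroup of S is not normal in G. Then there is an element g of S outside T such that [X, g, g, g, g] ≤ Y for every chief factor X/Y of G with X ≤ T, and [Z(T), g, g] = 1; and if moreover C_G(T) ≤ T then some quotient group of G is not p-stable (in the normalizer form: some quadratically acting element of a normalizer fails to map into O_p of the automizer). -/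
theorem result {G : Type u} [Group G] [Finite G] {p : ℕ} [Fact p.Prime] (S : Sylow p G) (hK : ¬ (Cfsg.inducedFunctor Cfsg.kInfLower (S : Subgroup G)).Normal ∨ ¬ (Cfsg.inducedFunctor Cfsg.kInfUpper (S : Subgroup G)).Normal) : ∃ g : G, g ∈ (S : Subgroup G) ∧ g ∉ (Cfsg.pCore p G) ∧ (∀ U V : Subgroup G, Cfsg.IsChiefFactor U V → U ≤ (Cfsg.pCore p G) → Cfsg.iterCommutator U (Subgroup.zpowers g) 4 ≤ V) ∧ ⁅⁅((Cfsg.pCore p G) ⊓ Subgroup.centralizer (((Cfsg.pCore p G) : Subgroup G) : Set G)), (Subgroup.zpowers g)⁆, (Subgroup.zpowers g)⁆ = ⊥ ∧ (Subgroup.centralizer (((Cfsg.pCore p G) : Subgroup G) : Set G) ≤ (Cfsg.pCore p G) → ∃ (N : Subgroup G) (_ : N.Normal), ¬ Cfsg.IsNormalizerPStable p (G ⧸ N)) := by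
  haveI hQn : (Cfsg.pCore p G).Normal := CfsgLib.Coprime.pCore_normal' p
  have hQp : IsPGroup p ↥(Cfsg.pCore p G) := CfsgLib.Coprime.pCore_isPGroup p
  obtain ⟨A, hAQ, hAn, -, -, hA2, hA3, hA4, hA5⟩ := CfsgLib.CFun.exists_critical_in hQp
  haveI := hAn
  haveI hZn : (CfsgLib.CFun.cen A).Normal := Subgroup.normal_inf_normal A _
  obtain ⟨g, hgS, hgQ, h3, h2, hch⟩ := CfsgLib.CFun.engel S A hAQ hA2 hA3 hA5 hK
  refine ⟨g, hgS, hgQ, ?_, ?_, fun hcon => ?_⟩
  · refine CfsgLib.CFun.chief_degree hQp hAQ hA3 hA4.le g 3 2 (by norm_num) (by norm_num) ?_ ?_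
    · intro U V hc hUA
      haveI := hc.2.1
      haveI := hc.2.2.1
      haveI : (U ⊓ CfsgLib.CFun.cen A).Normal := Subgroup.normal_inf_normal U _
      rcases hc.2.2.2 (U ⊓ CfsgLib.CFun.cen A ⊔ V) inferInstance le_sup_right
        (sup_le inf_le_left hc.1.le) with h | h
      · refine le_trans (le_inf ?_ ?_) (le_sup_left.trans h.le)
        · exact (CfsgLib.CFun.iterCommutator_le_of_le_normalizer
            (le_top.trans (Subgroup.normalizer_eq_top U).ge) 3).1
        · exact (CfsgLib.CFun.iterCommutator_mono hUA le_rfl 3).trans h3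
      · have hmap : U.map (QuotientGroup.mk' V) =
            (U ⊓ CfsgLib.CFun.cen A).map (QuotientGroup.mk' V) := by
          conv_lhs => rw [← h]
          rw [Subgroup.map_sup, QuotientGroup.map_mk'_self, sup_bot_eq]
        rw [CfsgLib.CFun.iterCommutator_le_iff, hmap, ← CfsgLib.CFun.iterCommutator_le_iff]
        refine (CfsgLib.CFun.iterCommutator_mono inf_le_right le_rfl 3).trans ?_
        show ⁅⁅⁅CfsgLib.CFun.cen A, Subgroup.zpowers g⁆, Subgroup.zpowers g⁆, Subgroup.zpowers g⁆ ≤ V
        rw [h2, Subgroup.commutator_bot_left]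
        exact bot_le
    · intro U V hc hUZ
      exact ((CfsgLib.CFun.iterCommutator_mono hUZ le_rfl 2).trans h2.le).trans bot_le
  · refine le_bot_iff.1 ((Subgroup.commutator_mono (Subgroup.commutator_mono ?_ le_rfl)
      le_rfl).trans h2.le)
    exact (inf_le_inf le_rfl (Subgroup.centralizer_le hAQ)).trans hA4.le
  · obtain ⟨U, V, hc, hUA, hq, hn⟩ := hch hcon
    haveI := hc.2.2.1
    haveI := hc.2.1
    set π := QuotientGroup.mk' V
    haveI : (U.map π).Normal := Subgroup.Normal.map hc.2.1 π (QuotientGroup.mk'_surjective V)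
    refine ⟨V, hc.2.2.1, CfsgLib.CFun.not_normalizerPStable_of_quadratic
      ((hQp.to_le (hUA.trans hAQ)).map π) ?_ (g := π g) ?_ ?_⟩
    · refine ⟨bot_lt_iff_ne_bot.2 fun h => hc.1.not_ge ?_, inferInstance, inferInstance, ?_⟩
      · rwa [Subgroup.map_eq_bot_iff, QuotientGroup.ker_mk'] at h
      · intro N hN _ hle
        have hV : V ≤ N.comap π := by
          intro v hv
          rw [Subgroup.mem_comap, show π v = 1 from (QuotientGroup.eq_one_iff v).2 hv]
          exact one_mem N
        have hU : N.comap π ≤ U := by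
          refine (Subgroup.comap_mono hle).trans ?_
          rw [Subgroup.comap_map_eq, QuotientGroup.ker_mk', sup_eq_left.2 hc.1.le]
        have hm := Subgroup.map_comap_eq_self_of_surjective (QuotientGroup.mk'_surjective V) N
        rcases hc.2.2.2 (N.comap π) inferInstance hV hU with h | h
        · left
          rw [← hm, h, QuotientGroup.map_mk'_self]
        · right
          rw [← hm, h]
    · rw [← MonoidHom.map_zpowers, ← Subgroup.map_commutator, ← Subgroup.map_commutator,
        Subgroup.map_eq_bot_iff, QuotientGroup.ker_mk']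
      exact hq
    · intro hg
      refine hn (Subgroup.commutator_le.2 fun u hu z hz => ?_)
      obtain ⟨n, rfl⟩ := Subgroup.mem_zpowers_iff.1 hz
      rw [← QuotientGroup.eq_one_iff (N := V), ← QuotientGroup.mk'_apply, map_commutatorElement,
        commutatorElement_eq_one_iff_mul_comm, map_zpow]
      exact ((show Commute (π u) (π g) from Subgroup.mem_centralizer_iff.1 hg _
        (Subgroup.mem_map_of_mem π hu)).zpow_right n).eq

end Cfsg.Agent.S1983
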