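import Cfsg.Statements.S1293
import Cfsg.Agent.Lib.Coprime.PConstrained

set_option autoImplicit false
open Cfsg

namespace Cfsg.Agent.S1293

/-- Let G be finite with L_{p'}(G) = 1, and H = N_G(P) for a nontrivial p-subgroup P. Then L_{p'}(H) = 1 and O_{p'}(H) ≤ O_{p'}(G). -/
theorem result {G : Type*} [Group G] [Finite G] (p : ℕ) [Fact p.Prime] (hL : Cfsg.pLayer p G = ⊥) (P : Subgroup G) (hP : IsPGroup p ↥P) (hP1 : P ≠ ⊥) : Cfsg.pLayer p ↥(Subgroup.normalizer (P : Set G)) = ⊥ ∧ (Cfsg.pPrimeCore p ↥(Subgroup.normalizer (P : Set G))).map (Subgroup.normalizer (P : Set G)).subtype ≤ Cfsg.pPrimeCore p G := by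
  have hp : p.Prime := Fact.out
  have hQC : Subgroup.centralizer (Cfsg.pCore p (G ⧸ Cfsg.pPrimeCore p G) : Set _) ≤
      Cfsg.pCore p (G ⧸ Cfsg.pPrimeCore p G) :=
    (CfsgLib.Coprime.layer_eq_bot_iff_centralizer_pCore_le
      (CfsgLib.Coprime.pPrimeCore_quotient_eq_bot hp)).1 (CfsgLib.Coprime.pLayer_eq_bot_iff_layer.1 hL)
  obtain ⟨hO', hE'⟩ := CfsgLib.Coprime.local_of_centralizer_pCore_le hQC
    (hP.map (QuotientGroup.mk' (Cfsg.pPrimeCore p G)))
  obtain ⟨f, hf⟩ : ∃ f : ↥(Subgroup.normalizer (P : Set G)) →* ↥(Subgroup.normalizer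
      ((P.map (QuotientGroup.mk' (Cfsg.pPrimeCore p G)) : Subgroup _) : Set (G ⧸ Cfsg.pPrimeCore p G))),
      f = ((QuotientGroup.mk' (Cfsg.pPrimeCore p G)).comp (Subgroup.normalizer (P : Set G)).subtype).codRestrict
        (Subgroup.normalizer
          ((P.map (QuotientGroup.mk' (Cfsg.pPrimeCore p G)) : Subgroup _) : Set (G ⧸ Cfsg.pPrimeCore p G)))
        (fun x => Subgroup.le_normalizer_map (QuotientGroup.mk' (Cfsg.pPrimeCore p G))
          (Subgroup.mem_map_of_mem (QuotientGroup.mk' (Cfsg.pPrimeCore p G)) x.2)) := ⟨_, rfl⟩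
  have hfs : Function.Surjective f := by
    intro y
    obtain ⟨g, hg⟩ := QuotientGroup.mk'_surjective (Cfsg.pPrimeCore p G) (y : G ⧸ Cfsg.pPrimeCore p G)
    obtain ⟨o, ho, hn⟩ := CfsgLib.Coprime.exists_mem_normalizer_lift
      (CfsgLib.Coprime.pPrimeCore_not_dvd hp) hP (g := g) (hg ▸ y.2)
    refine ⟨⟨o * g, hn⟩, ?_⟩
    rw [hf]
    refine Subtype.ext ?_
    show QuotientGroup.mk' (Cfsg.pPrimeCore p G) (o * g) = _
    rw [map_mul, hg, show QuotientGroup.mk' (Cfsg.pPrimeCore p G) o = 1 from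
      (QuotientGroup.eq_one_iff o).2 ho, one_mul]
  have hkerle : f.ker.map (Subgroup.normalizer (P : Set G)).subtype ≤ Cfsg.pPrimeCore p G := by
    rintro _ ⟨x, hx, rfl⟩
    rw [hf] at hx
    exact (QuotientGroup.eq_one_iff (x : G)).1 (congrArg Subtype.val (MonoidHom.mem_ker.1 hx))
  have hker : ¬ p ∣ Nat.card f.ker := by
    rw [← Subgroup.card_map_of_injective (Subgroup.normalizer (P : Set G)).subtype_injective]
    exact fun h => CfsgLib.Coprime.pPrimeCore_not_dvd hp (h.trans (Subgroup.card_dvd_of_le hkerle))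
  have hcore : Cfsg.pPrimeCore p ↥(Subgroup.normalizer (P : Set G)) = f.ker := by
    rw [← CfsgLib.Coprime.comap_pPrimeCore_of_ker hfs hker, hO', MonoidHom.comap_bot]
  refine ⟨le_bot_iff.1 (sSup_le fun K hK => absurd ?_
    (CfsgLib.Coprime.pComponent_not_le_pPrimeCore hK)), hcore ▸ hkerle⟩
  refine (CfsgLib.Coprime.pComponent_le_pLayer hK).trans ?_
  rw [hcore, ← Subgroup.map_eq_bot_iff, CfsgLib.Coprime.map_pLayer_of_ker hfs hker,
    CfsgLib.Coprime.pLayer_eq_layer hO', hE']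

end Cfsg.Agent.S1293
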