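import Cfsg.Statements.S4025
import Cfsg.Agent.Lib.EqualOrder.Normalizer

set_option autoImplicit false
open Cfsg

namespace Cfsg.Agent.S4025

/-- Let p be a prime and G a finite group in which any two p-subgroups of the same order are conjugate, and suppose a Sylow p-subgroup P of G is elementary abelian of order pⁿ with n ≥ 3. Let N be the normalizer of P and K the largest normal subgroup of N of order prime to p, and assume N/K is solvable. Then either n = 3 and N/K embeds in the one-dimensional semi-affine group over the field with p³ elements (and for p = 2 it is isomorphic to the affine or the semi-affine group over the field with 8 elements), or n = 5, p = 2 and N/K is isomorphic to the one-dimensional semi-affine group over the field with 32 elements. -/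
theorem result {G : Type*} [Group G] [Finite G]
    {p : ℕ} [Fact p.Prime] (hC : ∀ H K : Subgroup G, IsPGroup p H → IsPGroup p K → Nat.card H = Nat.card K →
      ∃ g : G, K = H.map (MulAut.conj g).toMonoidHom) (P : Sylow p G) (n : ℕ) (hn : 3 ≤ n)
    (hel : Cfsg.IsElementaryAbelian p (P : Subgroup G)) (hcard : Nat.card P = p ^ n)
    (N : Subgroup G) (hN : N = Subgroup.normalizer ((P : Subgroup G) : Set G))
    (hsolv : Group.IsSolvable (↥N ⧸ Cfsg.pPrimeCore p ↥N)) :
    (n = 3 ∧ (∃ f : ↥N ⧸ Cfsg.pPrimeCore p ↥N →* ↥(Cfsg.semiaffineGroup (GaloisField p 3)), Function.Injective f) ∧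
      (p = 2 → Nonempty (↥N ⧸ Cfsg.pPrimeCore p ↥N ≃* Cfsg.semiaffineGroup (GaloisField 2 3)) ∨
               Nonempty (↥N ⧸ Cfsg.pPrimeCore p ↥N ≃* Cfsg.affineGroup (GaloisField 2 3)))) ∨
    (n = 5 ∧ p = 2 ∧ Nonempty (↥N ⧸ Cfsg.pPrimeCore p ↥N ≃* Cfsg.semiaffineGroup (GaloisField 2 5))) := by
  subst hN
  set N : Subgroup G := Subgroup.normalizer ((P : Subgroup G) : Set G) with hN
  have hPN : (P : Subgroup G) ≤ N := Subgroup.le_normalizer
  haveI : ((P : Subgroup G).subgroupOf N).Normal :=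
    (Subgroup.normal_subgroupOf_iff_le_normalizer hPN).2 le_rfl
  have hel' : Cfsg.IsElementaryAbelian p ((P : Subgroup G).subgroupOf N) := by
    refine ⟨⟨⟨fun a b => Subtype.ext (Subtype.ext ?_)⟩⟩, fun a ha => Subtype.ext ?_⟩
    · show ((a : ↥N) : G) * ((b : ↥N) : G) = ((b : ↥N) : G) * ((a : ↥N) : G)
      exact congrArg Subtype.val
        (hel.1.is_comm.comm (⟨_, a.2⟩ : ↥(P : Subgroup G)) (⟨_, b.2⟩ : ↥(P : Subgroup G)))
    · simpa using hel.2 (a : G) ha
  have hc' : Nat.card ((P : Subgroup G).subgroupOf N) = p ^ n := by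
    rw [Nat.card_congr (Subgroup.subgroupOfEquivOfLe hPN).toEquiv]
    exact hcard
  have hidx : ¬ p ∣ ((P : Subgroup G).subgroupOf N).index := fun h =>
    P.not_dvd_index (h.trans (Subgroup.relIndex_dvd_index_of_le hPN))
  refine CfsgLib.EqualOrder.normalizer_affine _ hel' hc' hn hidx hsolv ?_
  intro U V hU hV hUV
  set U₁ := U.map N.subtype with hU₁
  set V₁ := V.map N.subtype with hV₁
  have hUP : U₁ ≤ (P : Subgroup G) := by
    rintro _ ⟨x, hx, rfl⟩
    exact hU hx
  have hVP : V₁ ≤ (P : Subgroup G) := by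
    rintro _ ⟨x, hx, rfl⟩
    exact hV hx
  obtain ⟨g, hg⟩ := hC U₁ V₁ (P.isPGroup'.to_le hUP) (P.isPGroup'.to_le hVP)
    (by rw [hU₁, hV₁, Subgroup.card_map_of_injective N.subtype_injective,
      Subgroup.card_map_of_injective N.subtype_injective, hUV])
  set C := Subgroup.centralizer (V₁ : Set G) with hCdef
  have hPC : (P : Subgroup G) ≤ C := fun u hu => Subgroup.mem_centralizer_iff.2 fun v hv =>
    congrArg Subtype.val (hel.1.is_comm.comm ⟨v, hVP hv⟩ ⟨u, hu⟩)
  have hgC : ((g • P : Sylow p G) : Subgroup G) ≤ C := by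
    intro u hu
    rw [Sylow.coe_subgroup_smul] at hu
    obtain ⟨w, hw, rfl⟩ := hu
    refine Subgroup.mem_centralizer_iff.2 fun v hv => ?_
    rw [SetLike.mem_coe, hg] at hv
    obtain ⟨x, hx, rfl⟩ := hv
    show MulAut.conj g x * MulAut.conj g w = MulAut.conj g w * MulAut.conj g x
    rw [← map_mul, ← map_mul]
    exact congrArg (MulAut.conj g) (congrArg Subtype.val (hel.1.is_comm.comm ⟨x, hUP hx⟩ ⟨w, hw⟩))
  obtain ⟨c, hc⟩ := MulAction.exists_smul_eq C ((g • P).subtype hgC) (P.subtype hPC)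
  rw [Sylow.smul_subtype] at hc
  have hc' : ((c : G) * g) • P = P := by
    rw [mul_smul]; exact Sylow.subtype_injective hc
  refine ⟨⟨(c : G) * g, Sylow.smul_eq_iff_mem_normalizer.1 hc'⟩,
    Subgroup.map_injective N.subtype_injective ?_⟩
  have hfix : V₁.map (MulAut.conj (c : G)).toMonoidHom = V₁ := by
    refine Subgroup.eq_of_le_of_card_ge ?_
      (Subgroup.card_map_of_injective (MulAut.conj (c : G)).injective).ge
    rintro _ ⟨v, hv, rfl⟩
    show (c : G) * v * (c : G)⁻¹ ∈ V₁
    rw [← Subgroup.mem_centralizer_iff.1 c.2 v hv, mul_inv_cancel_right]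
    exact hv
  show _ = V₁
  rw [← hfix, hg, Subgroup.map_map, Subgroup.map_map, hU₁, Subgroup.map_map]
  congr 1
  refine MonoidHom.ext fun x => ?_
  show ((c : G) * g) * (x : G) * ((c : G) * g)⁻¹ = (c : G) * (g * (x : G) * g⁻¹) * (c : G)⁻¹
  group

end Cfsg.Agent.S4025
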