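import Cfsg.Statements.S0809
-- import your own Cfsg.Agent.* helpers here
import Mathlib
import Cfsg.Agent.Lib.Perm.Dickson.SLFour
import Cfsg.Agent.Lib.Perm.Dickson.ExcMax

set_option autoImplicit false
set_option linter.all false
open Cfsg

namespace Cfsg.Agent.S0809

open CfsgLib.Perm.Dickson

/-- In SL_2(q), q odd: any two subgroups of order 4 are conjugate, and the normaliser of a subgroup of order 4 has order 2(q − 1) if q ≡ 1 (mod 4) and 2(q + 1) if q ≡ 3 (mod 4); consequently all involutions of PSL_2(q) are conjugate. -/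
theorem result {F : Type*} [Field F] [Fintype F] {q : ℕ} (hF : Fintype.card F = q) (hodd : Odd q) (A : Subgroup (Matrix.SpecialLinearGroup (Fin 2) F)) (hA : Nat.card A = 4) : (∀ B : Subgroup (Matrix.SpecialLinearGroup (Fin 2) F), Nat.card B = 4 → ∃ g : Matrix.SpecialLinearGroup (Fin 2) F, B = A.map (MulAut.conj g).toMonoidHom) ∧ (q % 4 = 1 → Nat.card ↥(Subgroup.normalizer (A : Set (Matrix.SpecialLinearGroup (Fin 2) F))) = 2 * (q - 1)) ∧ (q % 4 = 3 → Nat.card ↥(Subgroup.normalizer (A : Set (Matrix.SpecialLinearGroup (Fin 2) F))) = 2 * (q + 1)) ∧ (∀ x y : Matrix.ProjectiveSpecialLinearGroup (Fin 2) F, orderOf x = 2 → orderOf y = 2 → IsConj x y) := by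
  classical
  have hq : Nat.card F = q := by rw [Nat.card_eq_fintype_card, hF]
  have h2 := two_ne_zero_of_odd (F := F) (hq.symm ▸ hodd)
  obtain ⟨P, hP⟩ := conj_four h2 A hA
  have hconj : ∀ B : Subgroup (SL2F F), Nat.card B = 4 → ∃ g, B = A.map (MulAut.conj g).toMonoidHom := by
    intro B hB
    obtain ⟨R, hR⟩ := conj_four h2 B hB
    refine ⟨R * P⁻¹, ?_⟩
    rw [← hR, ← hP, Subgroup.map_map]
    congr 1
    ext x : 1
    simp [mul_assoc]
  have hN : Nat.card (Subgroup.normalizer (A : Set (SL2F F))) = 2 * Nat.card (Circ F (1 : F)) := by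
    rw [← card_normalizer_slJ h2, ← hP, ← Subgroup.map_equiv_normalizer_eq _ (MulAut.conj P)]
    exact Nat.card_congr (Subgroup.equivMapOfInjective _ _ (MulAut.conj P).injective).symm.toEquiv
  have hcirc := card_circ (F := F) h2
  have h1q := card_pos_lt (F := F)
  rw [hq] at hcirc h1q
  refine ⟨hconj, fun h4 => ?_, fun h4 => ?_, ?_⟩
  · obtain ⟨i, hi⟩ : IsSquare (-1 : F) := FiniteField.isSquare_neg_one_iff.2 (by rw [hF]; omega)
    have h0 := card_circ_zero_sq h2 hi.symm
    rw [hq] at h0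
    obtain ⟨q', rfl⟩ : ∃ q', q = q' + 1 := ⟨q - 1, by omega⟩
    rw [hN]
    simp only [Nat.add_sub_cancel] at hcirc ⊢
    congr 1
    have e : (q' + 1) * (q' + 1) = q' * q' + (2 * q' + 1) := by ring
    exact Nat.eq_of_mul_eq_mul_right (show 0 < q' by omega) (by omega)
  · have h0 := card_circ_zero_ns (F := F) (by rw [FiniteField.isSquare_neg_one_iff, hF]; omega)
    obtain ⟨q', rfl⟩ : ∃ q', q = q' + 1 := ⟨q - 1, by omega⟩
    rw [hN]
    rw [h0, Nat.add_sub_cancel] at hcirc
    congr 1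
    have e : (q' + 1) * (q' + 1) = (q' + 1 + 1) * q' + 1 := by ring
    exact Nat.eq_of_mul_eq_mul_right (show 0 < q' by omega) (by omega)
  intro x y hx hy
  have key : ∀ z : Matrix.ProjectiveSpecialLinearGroup (Fin 2) F, orderOf z = 2 →
      ∃ Z : SL2F F, QuotientGroup.mk' _ Z = z ∧ Nat.card (Subgroup.zpowers Z) = 4 := by
    intro z hz
    obtain ⟨Z, rfl⟩ := QuotientGroup.mk'_surjective _ z
    refine ⟨Z, rfl, ?_⟩
    have hn1 : Z ∉ Subgroup.center (SL2F F) := fun h => by
      rw [(QuotientGroup.eq_one_iff Z).2 h |> fun e => (show QuotientGroup.mk' _ Z = 1 from e), orderOf_one] at hz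
      omega
    have hsq : Z * Z ∈ Subgroup.center (SL2F F) := by
      rw [← QuotientGroup.eq_one_iff]
      show QuotientGroup.mk' _ (Z * Z) = 1
      rw [map_mul, ← pow_two]
      have := pow_orderOf_eq_one (QuotientGroup.mk' (Subgroup.center (SL2F F)) Z)
      rw [hz] at this
      exact this
    obtain ⟨r, hr, e⟩ := Matrix.SpecialLinearGroup.mem_center_iff.1 hsq
    have hr' : r = 1 ∨ r = -1 := by
      rw [Fintype.card_fin] at hr
      exact sq_eq_one_iff.1 hr
    rcases hr' with rfl | rfl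
    · exfalso
      apply hn1
      have h1 : Z * Z = 1 := Subtype.ext (by rw [← e]; simp)
      rcases sl_sq_one h2 Z h1 with h | h
      · rw [show Z = 1 from Subtype.ext h]; exact one_mem _
      · refine Matrix.SpecialLinearGroup.mem_center_iff.2 ⟨-1, by simp, ?_⟩
        rw [h, map_neg, map_one]
    · have hne : ¬ Z * Z = 1 := fun h1 => by
        rw [h1] at e
        have := congrFun (congrFun e 0) 0
        simp at this
        exact h2 (by linear_combination -this)
      rw [Nat.card_zpowers]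
      refine orderOf_eq_prime_pow (p := 2) (n := 1) (by rw [pow_one, pow_two]; exact hne) (Subtype.ext ?_)
      show ((Z ^ (2 ^ (1 + 1)) : SL2F F)).1 = 1
      rw [show (2 : ℕ) ^ (1 + 1) = 2 * 2 by norm_num, pow_mul, pow_two, pow_two]
      show (Z * Z).1 * (Z * Z).1 = 1
      rw [← e]; simp
  obtain ⟨X, rfl, hX⟩ := key x hx
  obtain ⟨Y, rfl, hY⟩ := key y hy
  obtain ⟨R, hR⟩ := conj_four h2 _ hX
  obtain ⟨S, hS⟩ := conj_four h2 _ hY
  set g := S * R⁻¹ with hg
  have hmem : g * X * g⁻¹ ∈ Subgroup.zpowers Y := by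
    rw [← hS]
    obtain ⟨w, hw, e⟩ := hR.symm ▸ Subgroup.mem_zpowers X
    refine ⟨w, hw, ?_⟩
    simp only [MulEquiv.coe_toMonoidHom, MulAut.conj_apply] at e ⊢
    rw [← e, hg]; group
  obtain ⟨k, hk⟩ := Subgroup.mem_zpowers_iff.1 hmem
  rw [isConj_iff]
  refine ⟨QuotientGroup.mk' _ g, ?_⟩
  rw [← map_inv, ← map_mul, ← map_mul, ← hk, map_zpow, ← zpow_mod_orderOf, hy]
  rcases Int.emod_two_eq_zero_or_one k with h | h
  · exfalso
    have he : QuotientGroup.mk' (Subgroup.center (SL2F F)) (g * X * g⁻¹) = 1 := by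
      rw [← hk, map_zpow, ← zpow_mod_orderOf, hy, show k % ((2 : ℕ) : ℤ) = 0 from h, zpow_zero]
    rw [map_mul, map_mul, map_inv, conj_eq_one_iff] at he
    rw [he, orderOf_one] at hx
    omega
  · rw [show k % ((2 : ℕ) : ℤ) = 1 from h, zpow_one]

end Cfsg.Agent.S0809
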