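import Cfsg.Statements.S0497
import Cfsg.Agent.Lib.Perm.Small.Unique360
import Mathlib.GroupTheory.SpecificGroups.Alternating.Simple

set_option autoImplicit false
open Cfsg

namespace Cfsg.Agent.S0497

/-- A simple group of order 360 is isomorphic to the alternating group of degree 6. -/
theorem result {G : Type*} [Group G] [Finite G] [IsSimpleGroup G]
    (h : Nat.card G = 360) : Nonempty (G ≃* alternatingGroup (Fin 6)) := by
  haveI : IsSimpleGroup (alternatingGroup (Fin 6)) := alternatingGroup.isSimpleGroup (by simp)
  obtain ⟨e₁⟩ := CfsgLib.Perm.Small360.equiv_model360 h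
  obtain ⟨e₂⟩ := CfsgLib.Perm.Small360.equiv_model360 (G := alternatingGroup (Fin 6))
    (by rw [nat_card_alternatingGroup, Nat.card_fin]; decide)
  exact ⟨e₁.trans e₂.symm⟩

end Cfsg.Agent.S0497
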