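import Cfsg.Statements.S0254
import Cfsg.Agent.S0497
import Cfsg.Agent.Lib.Char.SmallSpectra

set_option autoImplicit false
open Cfsg

namespace Cfsg.Agent.S0254

/-- PSL_2(9) is isomorphic to A_6. -/
theorem result {F : Type*} [Field F] [Fintype F] (hF : Fintype.card F = 9) : Nonempty (Matrix.ProjectiveSpecialLinearGroup (Fin 2) F ≃* alternatingGroup (Fin 6)) := by
  classical
  haveI : IsSimpleGroup (Matrix.ProjectiveSpecialLinearGroup (Fin 2) F) :=
    Matrix.ProjectiveSpecialLinearGroup.rank_two_simple (by rw [Nat.card_eq_fintype_card, hF]; norm_num)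
  have h2 := CfsgLib.Char.TwoChars.card_psl_odd (F := F) (by rw [hF]; decide)
  rw [hF] at h2
  exact Cfsg.Agent.S0497.result (by omega)

end Cfsg.Agent.S0254
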