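import Cfsg.Statements.S0804
-- import your own Cfsg.Agent.* helpers here
import Mathlib
import Cfsg.Agent.Lib.Perm.Dickson.Icosa

set_option autoImplicit false
set_option linter.all false
open Cfsg

namespace Cfsg.Agent.S0804

open CfsgLib.Perm.Dickson

/-- PSL_2(q) has a subgroup isomorphic to A_5 iff 5 ∣ q(q² − 1). -/
theorem result {F : Type*} [Field F] [Fintype F] {q : ℕ} (hF : Fintype.card F = q) : (∃ H : Subgroup (Matrix.ProjectiveSpecialLinearGroup (Fin 2) F), Nonempty (H ≃* alternatingGroup (Fin 5))) ↔ 5 ∣ q * (q ^ 2 - 1) := by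
  classical
  haveI := finite_G2 (F := F)
  obtain ⟨p, hpc⟩ := CharP.exists F
  haveI : Fact p.Prime := ⟨CharP.char_is_prime F p⟩
  have hq : Nat.card F = q := by rw [Nat.card_eq_fintype_card, hF]
  have hq1 : q * ((q - 1) * (q + 1)) = q * (q ^ 2 - 1) := by
    congr 1
    rw [mul_comm, ← Nat.sq_sub_sq, one_pow]
  have hpsl := card_psl F
  rw [hq, hq1] at hpsl
  constructor
  · rintro ⟨H, ⟨e⟩⟩
    have h60 : Nat.card H = 60 := by
      rw [Nat.card_congr e.toEquiv, nat_card_alternatingGroup, Nat.card_fin]; rfl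
    rw [← hpsl]
    refine dvd_mul_of_dvd_right (dvd_trans (show 5 ∣ 60 by norm_num) ?_) _
    rw [← h60, ← card_up]
    exact Subgroup.card_dvd_of_le (up_le H)
  · intro h5
    haveI : Fact (Nat.Prime 5) := ⟨Nat.prime_five⟩
    rw [← hpsl] at h5
    have h5' : 5 ∣ Nat.card (psl F) := (Nat.Prime.dvd_mul Nat.prime_five).1 h5 |>.resolve_left fun hd => by
      have h1 := Nat.le_of_dvd (Nat.gcd_pos_of_pos_left _ (by norm_num)) hd
      have h2 := Nat.le_of_dvd (by norm_num) (Nat.gcd_dvd_left 2 (q - 1))
      omega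
    obtain ⟨g, hg⟩ := exists_prime_orderOf_dvd_card' (G := psl F) 5 h5'
    rw [← Subgroup.orderOf_coe] at hg
    rcases Nat.even_or_odd q with he | ho
    · obtain ⟨n, hn, hcard⟩ := card_eq_pow (F := F) p
      rw [hq] at hcard
      have hp2 : p = 2 := by
        rw [hcard] at he
        obtain ⟨he', -⟩ := Nat.even_pow.1 he
        rcases (Fact.out : p.Prime).eq_two_or_odd with h | h
        · exact h
        · obtain ⟨t, ht⟩ := he'; omega
      -- the degree is even
      obtain ⟨m, rfl⟩ : Even n := by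
        by_contra hne
        rw [Nat.not_even_iff_odd] at hne
        obtain ⟨j, rfl⟩ := hne
        have hmod : 2 ^ (2 * j + 1) % 5 = 2 ∨ 2 ^ (2 * j + 1) % 5 = 3 := by
          clear hn hcard
          induction j with
          | zero => simp
          | succ j ih =>
            have e : 2 ^ (2 * (j + 1) + 1) = 2 ^ (2 * j + 1) * 4 := by
              rw [show 2 * (j + 1) + 1 = (2 * j + 1) + 2 by ring, pow_add]; rfl
            rw [e, Nat.mul_mod]
            rcases ih with h | h <;> rw [h] <;> simp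
        have hqm : q % 5 = 2 ∨ q % 5 = 3 := by rw [hcard, hp2]; exact hmod
        rw [hpsl, ← hq1] at h5
        rcases (Nat.Prime.dvd_mul Nat.prime_five).1 h5 with h | h
        · omega
        · rcases (Nat.Prime.dvd_mul Nat.prime_five).1 h with h | h <;> omega
      haveI : Fact (Nat.Prime 2) := ⟨Nat.prime_two⟩
      have h4 : Nat.card (GaloisField 2 2) = 4 := GaloisField.card 2 2 two_ne_zero
      haveI : Fintype (GaloisField 2 2) := Fintype.ofFinite _
      obtain ⟨F1, ⟨i⟩⟩ := exists_subfield_ringEquiv (F := F) (K := GaloisField 2 2) p (m := m) (by omega)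
        (by rw [h4, hq, hcard, hp2, ← two_mul, pow_mul]; rfl)
      obtain ⟨f, hf⟩ := CfsgLib.Classical.exists_perm_embedding (F := GaloisField 2 2) (N := 5)
        (by rw [← Nat.card_eq_fintype_card, h4])
      have h60 : 2 * Nat.card (S2P (GaloisField 2 2)) = Nat.factorial 5 := by
        have := card_psl (GaloisField 2 2)
        rw [h4] at this
        rw [card_S2P, show Nat.factorial 5 = 120 from rfl]
        rw [show Nat.gcd 2 (4 - 1) = 1 from rfl] at this
        omega
      exact ⟨down (pslSub F1), ⟨(downEquiv (pslSub_le_psl F1)).trans ((pslSubEquiv F1 i).trans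
        (CfsgLib.Classical.mulEquiv_alternating_of_card f hf h60).some)⟩⟩
    · obtain ⟨Q⟩ := exists_qpar (two_ne_zero_of_odd (by rwa [hq]))
      obtain ⟨τ, hτ⟩ := exists_tau p g.2 hg
      exact ⟨down (Q.icosa hτ), ⟨(downEquiv (Q.icosa_le_psl hτ)).trans (Q.icosa_a5 hτ).some⟩⟩

end Cfsg.Agent.S0804
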