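import Cfsg.Statements.S0813
import Cfsg.Agent.Lib.AutPSL.Coset

set_option autoImplicit false
open Cfsg CfsgLib.AutPSL

namespace Cfsg.Agent.S0813

/-- |Aut(PSL_n(q))|, q = p^f: for n ≥ 3 it is 2 f |PGL_n(q)|, and for n = 2 (q ≥ 4) it is f |PGL_2(q)|. -/
theorem result {F : Type*} [Field F] [Fintype F] (p f : ℕ) [Fact p.Prime] (hf : 1 ≤ f) (hF : Fintype.card F = p ^ f) (n : ℕ) (hn : 2 ≤ n) (h2 : n = 2 → 4 ≤ p ^ f) : Nat.card (MulAut (Matrix.ProjectiveSpecialLinearGroup (Fin n) F)) = (if n = 2 then 1 else 2) * f * Nat.card (Matrix.ProjGenLinGroup (Fin n) F) := by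
  classical
  obtain ⟨θ, hθ⟩ : ∃ θ : (indHom (n := n) (F := F)).range × RingAut F →
      MulAut (Matrix.ProjectiveSpecialLinearGroup (Fin n) F),
      Function.Injective θ ∧ Set.range θ = {β : MulAut (Matrix.ProjectiveSpecialLinearGroup (Fin n) F) | ∃ g σ, β = ind g σ} := by
    refine ⟨fun x => x.1.1 * ind 1 x.2, ?_, ?_⟩
    · rintro ⟨⟨_, g, rfl⟩, σ⟩ ⟨⟨_, h, rfl⟩, τ⟩ he
      simp only [indHom_apply, ind_mul_fieldHom] at he
      obtain ⟨g', hg'⟩ := ind_inv g σ
      have h1 : 1 = (ind g σ)⁻¹ * ind h τ := by rw [← he, inv_mul_cancel]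
      rw [hg', ind_mul] at h1
      obtain rfl : σ = τ := inv_mul_eq_one.1 (eq_one_of_ind_eq_one hn h1.symm).1
      refine Prod.ext (Subtype.ext ?_) rfl
      rw [← ind_mul_fieldHom g, ← ind_mul_fieldHom h] at he
      exact mul_right_cancel he
    · ext β
      constructor
      · rintro ⟨⟨⟨_, g, rfl⟩, σ⟩, rfl⟩
        exact ⟨g, σ, ind_mul_fieldHom g σ⟩
      · rintro ⟨g, σ, rfl⟩
        exact ⟨⟨⟨_, g, rfl⟩, σ⟩, ind_mul_fieldHom g σ⟩
  have hker : (indHom (n := n) (F := F)).ker = Subgroup.center (GL (Fin n) F) := by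
    ext g
    rw [MonoidHom.mem_ker, indHom_apply, Subgroup.mem_center_iff]
    constructor
    · intro h X
      obtain ⟨-, c, -, hc⟩ := eq_one_of_ind_eq_one hn h
      apply Units.ext
      rw [Units.val_mul, Units.val_mul, hc, Matrix.mul_smul, Matrix.smul_mul, mul_one, one_mul]
    · intro h
      refine MulEquiv.ext fun x => ?_
      obtain ⟨s, rfl⟩ := QuotientGroup.mk'_surjective _ x
      show proj (slConj g (slField 1 s)) = proj s
      refine congrArg proj (Subtype.ext ?_)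
      rw [slConj_val, slField_val, show s.1.map (⇑(1 : RingAut F)) = s.1 from
        Matrix.ext fun _ _ => rfl]
      have := congrArg (Units.val) (h (Matrix.SpecialLinearGroup.toGL s))
      rw [Units.val_mul, Units.val_mul] at this
      erw [show g.1 * s.1 = s.1 * g.1 from this.symm]
      exact Units.mul_inv_cancel_right _ g
  have hR : Nat.card (indHom (n := n) (F := F)).range =
      Nat.card (Matrix.ProjGenLinGroup (Fin n) F) := by
    rw [← Subgroup.index_ker, hker]; rfl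
  have hA : Nat.card {β : MulAut (Matrix.ProjectiveSpecialLinearGroup (Fin n) F) | ∃ g σ, β = ind g σ} =
      f * Nat.card (Matrix.ProjGenLinGroup (Fin n) F) := by
    rw [← hθ.2, Nat.card_range_of_injective hθ.1, Nat.card_prod, hR,
      card_ringAut hF, mul_comm]
  by_cases h : n = 2
  · rw [if_pos h, one_mul, ← hA]
    refine Nat.card_congr (Equiv.subtypeUnivEquiv fun β => ?_).symm
    obtain ⟨g, σ, hb | ⟨h3, -⟩⟩ := aut_classify hn β
    · exact ⟨g, σ, hb⟩
    · omega
  · have h3 : 3 ≤ n := by omega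
    rw [if_neg h, mul_assoc, ← hA, ← show Nat.card Bool = 2 by simp, ← Nat.card_prod]
    refine (Nat.card_congr (Equiv.ofBijective
      (fun x : Bool × {β : MulAut (Matrix.ProjectiveSpecialLinearGroup (Fin n) F) | ∃ g σ, β = ind g σ} => x.2.1 * cond x.1 itAut 1) ⟨?_, ?_⟩)).symm
    · rintro ⟨e, ⟨_, g, σ, rfl⟩⟩ ⟨e', ⟨_, g', σ', rfl⟩⟩ he
      obtain rfl := (rep_inj h3 he).2
      exact Prod.ext rfl (Subtype.ext (mul_right_cancel he))
    · intro β
      obtain ⟨g, σ, e, rfl⟩ := exists_rep hn β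
      exact ⟨⟨e, ⟨_, g, σ, rfl⟩⟩, rfl⟩

end Cfsg.Agent.S0813
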