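import Cfsg.Statements.S1230
import Cfsg.Agent.Lib.Invol.ElementaryTransitive
import Mathlib.Topology.Compactification.OnePoint.ProjectiveLine
import Mathlib.FieldTheory.Finite.GaloisField


set_option autoImplicit false
open Cfsg

namespace Cfsg.Agent.S1230

open CfsgLib.Invol OnePoint
open scoped Matrix

universe u

variable {G : Type u} [Group G] [Finite G] {T : Sylow 2 G}

local notation "N" => Subgroup.normalizer ((T : Subgroup G) : Set G)
local notation "x₀" => ((1 : G) : G ⧸ Subgroup.normalizer ((T : Subgroup G) : Set G))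

/-- Field coordinates for `T` and the two-point stabilizer. -/
theorem exists_coordinates (h : ElemCentralizers T) {w : G} (hw : orderOf w = 2)
    (hwx : w • x₀ ≠ x₀) :
    ∃ (K : Type) (_ : Field K) (_ : Fintype K) (τ δ : K → G),
      Fintype.card K = Nat.card T ∧ (∀ x : K, x + x = 0) ∧
      (∀ a b, τ (a + b) = τ a * τ b) ∧ (∀ a, τ a ∈ (T : Subgroup G)) ∧ Function.Injective τ ∧
      (∀ t ∈ (T : Subgroup G), ∃ a, τ a = t) ∧
      (∀ a, a ≠ 0 → δ a ∈ N ⊓ (N).map (MulAut.conj w).toMonoidHom) ∧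
      (∀ a b, a ≠ 0 → δ a * τ b * (δ a)⁻¹ = τ (a * b)) ∧
      (∀ a b, a ≠ 0 → b ≠ 0 → δ a * δ b = δ (a * b)) ∧
      (∀ d ∈ N ⊓ (N).map (MulAut.conj w).toMonoidHom, ∃ a, a ≠ 0 ∧ δ a = d) := by
  classical
  haveI : Fact (Nat.Prime 2) := ⟨Nat.prime_two⟩
  set D := N ⊓ (N).map (MulAut.conj w).toMonoidHom with hD
  letI : CommGroup (T : Subgroup G) :=
    { (inferInstance : Group (T : Subgroup G)) with
      mul_comm := fun a b => Subtype.ext (h.comm _ a.2 _ b.2) }
  let V := Additive (T : Subgroup G)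
  have hDT : ∀ d ∈ D, ∀ t : (T : Subgroup G), d * (t : G) * d⁻¹ ∈ (T : Subgroup G) :=
    fun d hd t => (Subgroup.mem_normalizer_iff.1 hd.1 _).1 t.2
  let act : D → AddMonoid.End V := fun d =>
    AddMonoidHom.mk' (fun t => Additive.ofMul ⟨(d : G) * (Additive.toMul t : (T : Subgroup G)) *
      (d : G)⁻¹, hDT d d.2 _⟩) fun a b => by
      apply congrArg Additive.ofMul
      apply Subtype.ext
      show (d : G) * (((Additive.toMul a * Additive.toMul b : (T : Subgroup G))) : G) * (d : G)⁻¹ = _
      simp only [Subgroup.coe_mul]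
      show _ = ((d : G) * _ * (d : G)⁻¹) * ((d : G) * _ * (d : G)⁻¹)
      group
  have hact : ∀ (d : D) (t : V), ((Additive.toMul (act d t) : (T : Subgroup G)) : G) =
      (d : G) * (Additive.toMul t : (T : Subgroup G)) * (d : G)⁻¹ := fun d t => rfl
  have hext : ∀ {a b : V}, ((Additive.toMul a : (T : Subgroup G)) : G) =
      ((Additive.toMul b : (T : Subgroup G)) : G) → a = b := fun e => Subtype.ext e
  obtain ⟨s, hs, hso⟩ := h.exists_invol
  have hs1 : s ≠ 1 := fun e => by rw [e, orderOf_one] at hso; omega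
  set v0 : V := Additive.ofMul (⟨s, hs⟩ : (T : Subgroup G)) with hv0
  have hv00 : v0 ≠ 0 := fun e => hs1 (congrArg Subtype.val e)
  have hcov : ∀ v : V, v ≠ 0 → ∃ d : D, act d v0 = v := by
    intro v hv
    have hv1 : ((Additive.toMul v : (T : Subgroup G)) : G) ≠ 1 := fun e => hv (hext (by simpa using e))
    have hvT : ((Additive.toMul v : (T : Subgroup G)) : G) ∈ (T : Subgroup G) := SetLike.coe_mem _
    obtain ⟨d, hd, e⟩ := transitive_two_point h.se (u := w) hso (Subgroup.le_normalizer hs)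
      (Subgroup.le_normalizer hvT) (h.orderOf_eq_two hvT hv1)
    exact ⟨⟨d, hd⟩, hext e⟩
  have hmul : ∀ a b : D, act a * act b = act (a * b) := fun a b => AddMonoidHom.ext fun t => hext (by
    show (a : G) * ((b : G) * _ * (b : G)⁻¹) * (a : G)⁻¹ = ((a * b : D) : G) * _ * ((a * b : D) : G)⁻¹
    rw [Subgroup.coe_mul]; group)
  have hcommD : ∀ a b : D, a * b = b * a := fun a b =>
    Subtype.ext (h.twoPoint_comm hw hwx a.2 b.2)
  have hone : act 1 = 1 := AddMonoidHom.ext fun t => hext (by
    show ((1 : D) : G) * _ * ((1 : D) : G)⁻¹ = _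
    simp
    rfl)
  have hinjv : ∀ a b : D, act a v0 = act b v0 → a = b := by
    intro a b e
    have e' : (a : G) * s * (a : G)⁻¹ = (b : G) * s * (b : G)⁻¹ :=
      congrArg (fun t : V => ((Additive.toMul t : (T : Subgroup G)) : G)) e
    refine Subtype.ext (inv_mul_eq_one.1 (h.eq_one_of_commute hwx
      (D.mul_mem (D.inv_mem a.2) b.2) hs hs1 ?_))
    calc (a : G)⁻¹ * b * s = (a : G)⁻¹ * (b * s * (b : G)⁻¹) * b := by group
      _ = (a : G)⁻¹ * (a * s * (a : G)⁻¹) * b := by rw [e']
      _ = s * ((a : G)⁻¹ * b) := by group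
  set R := Subring.centralizer (Set.range act) with hR
  have hactR : ∀ d, act d ∈ R := fun d => Subring.mem_centralizer_iff.2 (by
    rintro _ ⟨e, rfl⟩
    rw [hmul, hmul, hcommD])
  have hinj : Function.Injective (fun r : R => (r : AddMonoid.End V) v0) := by
    intro r r' e
    refine Subtype.ext (AddMonoidHom.ext fun v => ?_)
    rcases eq_or_ne v 0 with rfl | hv
    · exact ((r : AddMonoid.End V) : V →+ V).map_zero.trans ((r' : AddMonoid.End V) : V →+ V).map_zero.symm
    · obtain ⟨d, rfl⟩ := hcov v hv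
      have h1 := DFunLike.congr_fun (Subring.mem_centralizer_iff.1 r.2 (act d) ⟨d, rfl⟩) v0
      have h2 := DFunLike.congr_fun (Subring.mem_centralizer_iff.1 r'.2 (act d) ⟨d, rfl⟩) v0
      have e' : (r : AddMonoid.End V) v0 = (r' : AddMonoid.End V) v0 := e
      calc (r : AddMonoid.End V) (act d v0) = act d ((r : AddMonoid.End V) v0) := h1.symm
        _ = act d ((r' : AddMonoid.End V) v0) := by rw [e']
        _ = (r' : AddMonoid.End V) (act d v0) := h2
  have hclass : ∀ r : R, r ≠ 0 → ∃ d : D, (r : AddMonoid.End V) = act d := by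
    intro r hr
    obtain ⟨d, hd⟩ := hcov ((r : AddMonoid.End V) v0) fun e => hr (hinj (by simpa using e))
    exact ⟨d, congrArg Subtype.val (hinj (a₁ := r) (a₂ := ⟨act d, hactR d⟩) hd.symm)⟩
  have hsurj : Function.Surjective (fun r : R => (r : AddMonoid.End V) v0) := by
    intro v
    rcases eq_or_ne v 0 with rfl | hv
    · exact ⟨0, by simp⟩
    · obtain ⟨d, hd⟩ := hcov v hv
      exact ⟨⟨act d, hactR d⟩, hd⟩
  have hfield : IsField R := by
    refine ⟨⟨0, 1, fun e => hv00 ?_⟩, fun a b => ?_, fun {a} ha => ?_⟩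
    · have := congrArg (fun r : R => (r : AddMonoid.End V) v0) e
      simpa using this.symm
    · rcases eq_or_ne a 0 with rfl | ha
      · rw [zero_mul, mul_zero]
      obtain ⟨d, hd⟩ := hclass a ha
      exact Subtype.ext (by
        rw [Subring.coe_mul, Subring.coe_mul, hd]
        exact Subring.mem_centralizer_iff.1 b.2 (act d) ⟨d, rfl⟩)
    · obtain ⟨d, hd⟩ := hclass a ha
      exact ⟨⟨act d⁻¹, hactR _⟩, Subtype.ext (by
        rw [Subring.coe_mul, hd, hmul, mul_inv_cancel, hone, Subring.coe_one])⟩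
  letI := hfield.toField
  haveI : Finite R := Finite.of_injective _ hinj
  haveI := Fintype.ofFinite R
  obtain ⟨k, hk⟩ := IsPGroup.iff_card.1 T.2
  have hk0 : k ≠ 0 := by
    rintro rfl
    have := h.four_le_card
    rw [hk] at this
    norm_num at this
  haveI := Fintype.ofFinite (GaloisField 2 k)
  have hcardR : Nat.card R = 2 ^ k := by
    rw [← hk]
    exact Nat.card_congr ((Equiv.ofBijective _ ⟨hinj, hsurj⟩).trans Additive.toMul)
  have hcard : Fintype.card (GaloisField 2 k) = Fintype.card R := by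
    rw [← Nat.card_eq_fintype_card, ← Nat.card_eq_fintype_card, GaloisField.card 2 k hk0, hcardR]
  let ψ := FiniteField.ringEquivOfCardEq hcard
  let δ' : GaloisField 2 k → D := fun a =>
    if ha : a = 0 then 1 else (hclass (ψ a) ((map_ne_zero ψ).2 ha)).choose
  have hδ' : ∀ a, a ≠ 0 → (ψ a : AddMonoid.End V) = act (δ' a) := fun a ha => by
    simp only [δ', dif_neg ha]
    exact (hclass (ψ a) ((map_ne_zero ψ).2 ha)).choose_spec
  refine ⟨GaloisField 2 k, inferInstance, inferInstance,
    fun a => ((Additive.toMul ((ψ a : AddMonoid.End V) v0) : (T : Subgroup G)) : G),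
    fun a => (δ' a : G), ?_, fun x => CharTwo.add_self_eq_zero x, fun a b => ?_,
    fun a => SetLike.coe_mem _, ?_, fun t ht => ?_, fun a _ => (δ' a).2, fun a b ha => ?_,
    fun a b ha hb => ?_, fun d hd => ?_⟩
  · rw [← Nat.card_eq_fintype_card, GaloisField.card 2 k hk0, hk]
  · beta_reduce
    rw [map_add]
    rfl
  · intro a b e
    exact ψ.injective (hinj (hext e))
  · obtain ⟨r, hr⟩ := hsurj (Additive.ofMul ⟨t, ht⟩)
    refine ⟨ψ.symm r, ?_⟩
    show ((Additive.toMul ((ψ (ψ.symm r) : AddMonoid.End V) v0) : (T : Subgroup G)) : G) = t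
    rw [RingEquiv.apply_symm_apply]
    exact congrArg (fun v : V => ((Additive.toMul v : (T : Subgroup G)) : G)) hr
  · beta_reduce
    rw [← hact, ← hδ' a ha, map_mul, Subring.coe_mul]
    rfl
  · beta_reduce
    rw [← Subgroup.coe_mul]
    refine congrArg Subtype.val (hinjv _ _ ?_)
    rw [← hmul, ← hδ' a ha, ← hδ' b hb, ← hδ' _ (mul_ne_zero ha hb), map_mul, Subring.coe_mul]
  · refine ⟨ψ.symm ⟨act ⟨d, hd⟩, hactR _⟩, fun e => ?_, ?_⟩
    · have h1 := congrArg ψ e
      rw [RingEquiv.apply_symm_apply, map_zero] at h1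
      have h2 : act ⟨d, hd⟩ v0 = 0 := congrArg (fun r : R => (r : AddMonoid.End V) v0) h1
      exact hs1 (conj_eq_one_iff.1 ((hact _ v0).symm.trans
        (congrArg (fun v : V => ((Additive.toMul v : (T : Subgroup G)) : G)) h2)))
    · have hne : ψ.symm ⟨act ⟨d, hd⟩, hactR _⟩ ≠ 0 := fun e => by
        have h1 := congrArg ψ e
        rw [RingEquiv.apply_symm_apply, map_zero] at h1
        have h2 : act ⟨d, hd⟩ v0 = 0 := congrArg (fun r : R => (r : AddMonoid.End V) v0) h1
        exact hs1 (conj_eq_one_iff.1 ((hact _ v0).symm.trans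
          (congrArg (fun v : V => ((Additive.toMul v : (T : Subgroup G)) : G)) h2)))
      refine congrArg Subtype.val (hinjv (δ' _) ⟨d, hd⟩ ?_)
      rw [← hδ' _ hne, RingEquiv.apply_symm_apply]

/-- Let G be a finite group with a Sylow 2-subgroup T that is neither cyclic nor normal, such that the centralizer of every involution is an elementary abelian 2-group. Then G ≅ PSL(2,F) for a finite field F with |F| = |T|. -/
theorem result {G : Type*} [Group G] [Finite G] (T : Sylow 2 G) (hnc : ¬ IsCyclic (T : Subgroup G)) (hnn : ¬ (T : Subgroup G).Normal) (hC : ∀ t : G, orderOf t = 2 → IsMulCommutative (Subgroup.centralizer ({t} : Set G)) ∧ ∀ c ∈ Subgroup.centralizer ({t} : Set G), c ^ 2 = 1) : ∃ (F : Type) (_ : Field F) (_ : Fintype F), Fintype.card F = Nat.card T ∧ Nonempty (G ≃* Matrix.ProjectiveSpecialLinearGroup (Fin 2) F) := by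
  classical
  have h : ElemCentralizers T := ⟨hnc, hnn, hC⟩
  obtain ⟨w, hw, hwx⟩ := h.exists_move_out
  obtain ⟨K, iK, iFK, τ, δ, hcard, h2, τadd, τT, τinj, τsurj, δD, δτ, δmul, δsurj⟩ :=
    exists_coordinates h hw hwx
  set x₁ := ((1 : G) : G ⧸ Subgroup.normalizer ((T : Subgroup G) : Set G)) with hx₁
  set y := w • x₁ with hy
  have hwy : w • y = x₁ := invol_smul_smul hw _
  let P : OnePoint K → G ⧸ Subgroup.normalizer ((T : Subgroup G) : Set G) :=
    fun z => z.elim x₁ fun b => τ b • y
  have hτx : ∀ b, τ b • x₁ = x₁ := fun b => fixed_one_iff.2 (Subgroup.le_normalizer (τT b))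
  have hδxy : ∀ a, a ≠ 0 → δ a • x₁ = x₁ ∧ δ a • y = y := fun a ha =>
    (mem_twoPoint_iff (T := T)).1 (δD a ha)
  have hτy : ∀ b, τ b • y ≠ x₁ := fun b e => hwx (smul_left_cancel (τ b) (e.trans (hτx b).symm))
  have hτ0 : τ 0 = 1 := by
    have := τadd 0 0
    rw [add_zero] at this
    exact left_eq_mul.1 this
  have hP : Function.Bijective P := by
    refine ⟨?_, fun Q => ?_⟩
    · intro z z' e
      induction z using OnePoint.rec with
      | infty =>
        induction z' using OnePoint.rec with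
        | infty => rfl
        | coe b => exact absurd e.symm (hτy b)
      | coe a =>
        induction z' using OnePoint.rec with
        | infty => exact absurd e (hτy a)
        | coe b =>
          obtain ⟨t, -, hu⟩ := h.regular hw hwx (hτy a)
          rw [τinj ((hu (τ a) ⟨τT a, rfl⟩).trans (hu (τ b) ⟨τT b, e.symm⟩).symm)]
    · by_cases hQ : Q = x₁
      · exact ⟨∞, hQ.symm⟩
      · obtain ⟨t, ⟨ht, htQ⟩, -⟩ := h.regular hw hwx hQ
        obtain ⟨b, rfl⟩ := τsurj t ht
        exact ⟨(b : OnePoint K), htQ⟩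
  -- normalise the swap so that it is `x ↦ x⁻¹`
  have hδP : ∀ a, a ≠ 0 → ∀ b : K, δ a • P (b : OnePoint K) = P ((a * b : K) : OnePoint K) := by
    intro a ha b
    show δ a • τ b • y = τ (a * b) • y
    rw [← δτ a b ha, mul_smul, mul_smul,
      show (δ a)⁻¹ • y = y from inv_smul_eq_iff.2 (hδxy a ha).2.symm]
  have hδinv : ∀ a, a ≠ 0 → δ a⁻¹ = (δ a)⁻¹ := fun a ha => by
    have h1 : δ 1 = 1 := left_eq_mul.1 (by
      rw [δmul 1 1 one_ne_zero one_ne_zero, one_mul] : δ 1 = δ 1 * δ 1)
    exact eq_inv_of_mul_eq_one_left (by rw [δmul _ _ (inv_ne_zero ha) ha, inv_mul_cancel₀ ha, h1])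
  have hwP : ∀ a, a ≠ 0 → w • P ((a : K) : OnePoint K) = δ a⁻¹ • w • P ((1 : K) : OnePoint K) := by
    intro a ha
    conv_lhs => rw [← mul_one a, ← hδP a ha, ← mul_smul]
    rw [← mul_smul, hδinv a ha]
    congr 1
    rw [← h.inverts hw hwx (δD a ha)]
    group
  obtain ⟨c, hc0, hc⟩ : ∃ c : K, c ≠ 0 ∧ w • P ((1 : K) : OnePoint K) = P (c : OnePoint K) := by
    obtain ⟨z, hz⟩ := hP.2 (w • P ((1 : K) : OnePoint K))
    induction z using OnePoint.rec with
    | infty =>
      exfalso
      have h1 : P ((1 : K) : OnePoint K) = P ((0 : K) : OnePoint K) := by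
        rw [← invol_smul_smul hw (P ((1 : K) : OnePoint K)), ← hz]
        show w • x₁ = τ 0 • y
        rw [hτ0, one_smul]
      exact one_ne_zero (OnePoint.coe_injective (hP.1 h1))
    | coe c =>
      refine ⟨c, fun e => ?_, hz.symm⟩
      rw [e] at hz
      have h1 : w • P ((0 : K) : OnePoint K) = P ((1 : K) : OnePoint K) := by
        rw [hz, invol_smul_smul hw]
      have h3 : P ((0 : K) : OnePoint K) = y := by
        show τ 0 • y = y
        rw [hτ0, one_smul]
      rw [h3, hwy] at h1
      exact OnePoint.infty_ne_coe _ (hP.1 (h1 : P ∞ = _))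
  set j := δ c⁻¹ * w with hj
  have hjP : ∀ a, a ≠ 0 → j • P ((a : K) : OnePoint K) = P ((a⁻¹ : K) : OnePoint K) := by
    intro a ha
    rw [hj, mul_smul, hwP a ha, hc, hδP _ (inv_ne_zero ha), hδP _ (inv_ne_zero hc0)]
    congr 2
    field_simp
  have hjx : j • x₁ = y := by rw [hj, mul_smul]; exact (hδxy _ (inv_ne_zero hc0)).2
  have hjy : j • y = x₁ := by rw [hj, mul_smul, hwy]; exact (hδxy _ (inv_ne_zero hc0)).1
  -- the elements acting as Moebius transformations
  let act : Matrix.SpecialLinearGroup (Fin 2) K → OnePoint K → OnePoint K :=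
    fun A z => (Matrix.SpecialLinearGroup.toGL A) • z
  let R : Matrix.SpecialLinearGroup (Fin 2) K → G → Prop := fun A g => ∀ z, g • P z = P (act A z)
  have hRmul : ∀ A B g k, R A g → R B k → R (A * B) (g * k) := by
    intro A B g k h1 h3 z
    rw [mul_smul, h3, h1]
    show _ = P (Matrix.SpecialLinearGroup.toGL (A * B) • z)
    rw [map_mul, mul_smul]
  have hfaith : ∀ g k : G, (∀ z, g • P z = k • P z) → g = k := by
    intro g k e
    have hfix : ∀ z, (k⁻¹ * g) • P z = P z := fun z => by rw [mul_smul, e, inv_smul_smul]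
    have := h.three_fixed (g := k⁻¹ * g) (x₁ := P ∞) (x₂ := P ((0 : K) : OnePoint K))
      (x₃ := P ((1 : K) : OnePoint K)) (fun e1 => OnePoint.infty_ne_coe _ (hP.1 e1))
      (fun e1 => OnePoint.infty_ne_coe _ (hP.1 e1))
      (fun e1 => zero_ne_one (OnePoint.coe_injective (hP.1 e1))) (hfix _) (hfix _) (hfix _)
    exact (inv_mul_eq_one.1 this).symm
  have hent : ∀ (A : Matrix.SpecialLinearGroup (Fin 2) K) (i k : Fin 2),
      (Matrix.SpecialLinearGroup.toGL A : GL (Fin 2) K) i k = A.1 i k := fun _ _ _ => rfl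
  have hneg : ∀ x : K, -x = x := fun x => neg_eq_of_add_eq_zero_left (h2 x)
  -- upper triangular elements
  have hB : ∀ A : Matrix.SpecialLinearGroup (Fin 2) K, A.1 1 0 = 0 → ∃ g, R A g := by
    intro A hA
    have hdet := A.2
    rw [Matrix.det_fin_two, hA, mul_zero, sub_zero] at hdet
    have ha : A.1 0 0 ≠ 0 := left_ne_zero_of_mul (hdet.trans_ne one_ne_zero)
    have hd : A.1 1 1 ≠ 0 := right_ne_zero_of_mul (hdet.trans_ne one_ne_zero)
    refine ⟨τ (A.1 0 1 / A.1 1 1) * δ (A.1 0 0 / A.1 1 1), fun z => ?_⟩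
    rw [mul_smul]
    induction z using OnePoint.rec with
    | infty =>
      have e : act A ∞ = ∞ := OnePoint.smul_infty_eq_self_iff.2 hA
      rw [e]
      show τ _ • δ _ • x₁ = x₁
      rw [(hδxy _ (div_ne_zero ha hd)).1, hτx]
    | coe k =>
      have e : act A (k : OnePoint K) =
          ((A.1 0 1 / A.1 1 1 + A.1 0 0 / A.1 1 1 * k : K) : OnePoint K) := by
        show Matrix.SpecialLinearGroup.toGL A • (k : OnePoint K) = _
        rw [OnePoint.smul_some_eq_ite]
        simp only [hent, hA, zero_mul, zero_add]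
        rw [if_neg hd]
        congr 1
        field_simp
        ring
      rw [e, hδP _ (div_ne_zero ha hd)]
      show τ _ • τ _ • y = τ _ • y
      rw [← mul_smul, ← τadd]
  let J : Matrix.SpecialLinearGroup (Fin 2) K :=
    ⟨!![0, 1; 1, 0], by rw [Matrix.det_fin_two_of, mul_zero, zero_sub, mul_one, hneg]⟩
  have hJ : R J j := by
    intro z
    induction z using OnePoint.rec with
    | infty =>
      have e : act J ∞ = ((0 : K) : OnePoint K) := by
        show Matrix.SpecialLinearGroup.toGL J • (∞ : OnePoint K) = _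
        rw [OnePoint.smul_infty_eq_ite]
        simp only [hent]
        rw [show J.1 1 0 = 1 from rfl, show J.1 0 0 = 0 from rfl, if_neg one_ne_zero, zero_div]
      rw [e]
      show j • x₁ = τ 0 • y
      rw [hτ0, one_smul, hjx]
    | coe k =>
      rcases eq_or_ne k 0 with rfl | hk
      · have e : act J ((0 : K) : OnePoint K) = ∞ := by
          show Matrix.SpecialLinearGroup.toGL J • ((0 : K) : OnePoint K) = _
          rw [OnePoint.smul_some_eq_ite]
          simp only [hent]
          rw [show J.1 1 0 = 1 from rfl, show J.1 1 1 = 0 from rfl, one_mul, add_zero, if_pos rfl]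
        rw [e]
        show j • τ 0 • y = x₁
        rw [hτ0, one_smul, hjy]
      · have e : act J (k : OnePoint K) = ((k⁻¹ : K) : OnePoint K) := by
          show Matrix.SpecialLinearGroup.toGL J • (k : OnePoint K) = _
          rw [OnePoint.smul_some_eq_ite]
          simp only [hent]
          rw [show J.1 1 0 = 1 from rfl, show J.1 1 1 = 0 from rfl, show J.1 0 0 = 0 from rfl,
            show J.1 0 1 = 1 from rfl, one_mul, add_zero, if_neg hk, zero_mul, zero_add, one_div]
        rw [e, hjP k hk]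
  have hJJ : J * J = 1 := Subtype.ext (by
    show (!![0, 1; 1, 0] : Matrix (Fin 2) (Fin 2) K) * !![0, 1; 1, 0] = 1
    rw [Matrix.mul_fin_two, Matrix.one_fin_two]
    simp)
  let Tr : K → Matrix.SpecialLinearGroup (Fin 2) K := fun b =>
    ⟨!![1, b; 0, 1], by rw [Matrix.det_fin_two_of, mul_zero, sub_zero, mul_one]⟩
  have hall : ∀ A, ∃ g, R A g := by
    intro A
    by_cases hA : A.1 1 0 = 0
    · exact hB A hA
    set B := J * Tr (A.1 0 0 / A.1 1 0) * A with hBdef
    have hB0 : B.1 1 0 = 0 := by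
      show ((!![0, 1; 1, 0] : Matrix (Fin 2) (Fin 2) K) * !![1, A.1 0 0 / A.1 1 0; 0, 1] * A.1) 1 0 = 0
      simp [Matrix.mul_apply, Fin.sum_univ_two]
      rw [div_mul_cancel₀ _ hA]
      exact h2 _
    obtain ⟨g, hg⟩ := hB B hB0
    obtain ⟨t, ht⟩ := hB (Tr (A.1 0 0 / A.1 1 0)) rfl
    have hTT : Tr (A.1 0 0 / A.1 1 0) * Tr (A.1 0 0 / A.1 1 0) = 1 :=
      Subtype.ext (by
        show (!![1, A.1 0 0 / A.1 1 0; 0, 1] : Matrix (Fin 2) (Fin 2) K) *
          !![1, A.1 0 0 / A.1 1 0; 0, 1] = 1
        rw [Matrix.mul_fin_two, Matrix.one_fin_two]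
        simp [h2])
    refine ⟨t * (j * g), ?_⟩
    have e : A = Tr (A.1 0 0 / A.1 1 0) * (J * B) := by
      rw [hBdef, mul_assoc J, ← mul_assoc J J, hJJ, one_mul, ← mul_assoc, hTT, one_mul]
    rw [e]
    exact hRmul _ _ _ _ ht (hRmul _ _ _ _ hJ hg)
  choose F hF using hall
  let ρ : Matrix.SpecialLinearGroup (Fin 2) K →* G :=
    MonoidHom.mk' F fun A B => hfaith _ _ fun z => by
      rw [hF (A * B), hRmul A B _ _ (hF A) (hF B)]
  have hρ : ∀ A g, R A g → ρ A = g := fun A g hg => hfaith _ _ fun z => (hF A z).trans (hg z).symm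
  have hinj : Function.Injective ρ := by
    refine (injective_iff_map_eq_one ρ).2 fun A hA => ?_
    have hfix : ∀ z, act A z = z := fun z => hP.1 (by
      rw [← hF A z, show F A = 1 from hA, one_smul])
    have h10 : A.1 1 0 = 0 := OnePoint.smul_infty_eq_self_iff.1 (hfix ∞)
    have hdet := A.2
    rw [Matrix.det_fin_two, h10, mul_zero, sub_zero] at hdet
    have hd : A.1 1 1 ≠ 0 := right_ne_zero_of_mul (hdet.trans_ne one_ne_zero)
    have hk : ∀ k : K, (A.1 0 0 * k + A.1 0 1) / A.1 1 1 = k := fun k => by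
      have := hfix (k : OnePoint K)
      have h3 : Matrix.SpecialLinearGroup.toGL A • (k : OnePoint K) = k := this
      rw [OnePoint.smul_some_eq_ite] at h3
      simp only [hent, h10, zero_mul, zero_add, if_neg hd] at h3
      exact OnePoint.coe_injective h3
    have h01 : A.1 0 1 = 0 := by
      have := hk 0
      rw [mul_zero, zero_add, div_eq_zero_iff] at this
      exact this.resolve_right hd
    have h00 : A.1 0 0 = A.1 1 1 := by
      have := hk 1
      rw [mul_one, h01, add_zero, div_eq_one_iff_eq hd] at this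
      exact this
    have hone : A.1 0 0 = 1 := by
      rw [← h00] at hdet
      have h4 : (A.1 0 0 - 1) * (A.1 0 0 - 1) = 0 := by
        linear_combination hdet - A.1 0 0 * h2 1 + h2 1
      exact sub_eq_zero.1 (mul_self_eq_zero.1 h4)
    ext i k
    fin_cases i <;> fin_cases k <;> simp [h01, h10, hone, ← h00]
  have hsur : Function.Surjective ρ := by
    have hτm : ∀ b, τ b ∈ ρ.range := fun b => ⟨Tr b, hρ _ _ fun z => by
      induction z using OnePoint.rec with
      | infty =>
        have e : act (Tr b) ∞ = ∞ := OnePoint.smul_infty_eq_self_iff.2 rfl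
        rw [e]
        exact hτx b
      | coe k =>
        have e : act (Tr b) (k : OnePoint K) = ((b + k : K) : OnePoint K) := by
          show Matrix.SpecialLinearGroup.toGL (Tr b) • (k : OnePoint K) = _
          rw [OnePoint.smul_some_eq_ite]
          simp only [hent]
          rw [show (Tr b).1 1 0 = 0 from rfl, show (Tr b).1 1 1 = 1 from rfl,
            show (Tr b).1 0 0 = 1 from rfl, show (Tr b).1 0 1 = b from rfl, zero_mul, zero_add,
            if_neg one_ne_zero, one_mul, div_one, add_comm]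
        rw [e]
        show τ b • τ k • y = τ (b + k) • y
        rw [← mul_smul, τadd]⟩
    have hδm : ∀ a, a ≠ 0 → δ a ∈ ρ.range := by
      intro a ha
      haveI : CharP K 2 := CharTwo.of_one_ne_zero_of_two_eq_zero one_ne_zero (by
        rw [← one_add_one_eq_two]; exact h2 1)
      obtain ⟨r, hr⟩ := Finite.injective_iff_surjective.1 (frobenius_inj K 2) a
      have hr' : r * r = a := by rw [← hr, frobenius_def, pow_two]
      have hr0 : r ≠ 0 := fun e => ha (by rw [← hr', e, mul_zero])
      let Dg : Matrix.SpecialLinearGroup (Fin 2) K :=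
        ⟨!![r, 0; 0, r⁻¹], by rw [Matrix.det_fin_two_of, mul_zero, sub_zero, mul_inv_cancel₀ hr0]⟩
      refine ⟨Dg, hρ _ _ fun z => ?_⟩
      induction z using OnePoint.rec with
      | infty =>
        have e : act Dg ∞ = ∞ := OnePoint.smul_infty_eq_self_iff.2 rfl
        rw [e]
        exact (hδxy a ha).1
      | coe k =>
        have e : act Dg (k : OnePoint K) = ((a * k : K) : OnePoint K) := by
          show Matrix.SpecialLinearGroup.toGL Dg • (k : OnePoint K) = _
          rw [OnePoint.smul_some_eq_ite]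
          simp only [hent]
          rw [show Dg.1 1 0 = 0 from rfl, show Dg.1 1 1 = r⁻¹ from rfl,
            show Dg.1 0 0 = r from rfl, show Dg.1 0 1 = 0 from rfl, zero_mul, zero_add,
            if_neg (inv_ne_zero hr0), add_zero, div_inv_eq_mul, ← hr', mul_right_comm]
        rw [e, hδP a ha]
    have hjm : j ∈ ρ.range := ⟨J, hρ _ _ hJ⟩
    have hNm : ∀ g ∈ Subgroup.normalizer ((T : Subgroup G) : Set G), g ∈ ρ.range := by
      intro g hg
      obtain ⟨d, hd, t, ht, rfl⟩ := h.exists_mul hwx hg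
      obtain ⟨a, ha, rfl⟩ := δsurj d hd
      obtain ⟨b, rfl⟩ := τsurj t ht
      exact mul_mem (hδm a ha) (hτm b)
    intro g
    obtain ⟨z, hz⟩ := hP.2 (g • x₁)
    induction z using OnePoint.rec with
    | infty => exact hNm g (fixed_one_iff.1 hz.symm)
    | coe b =>
      have h5 : (τ b * j)⁻¹ * g ∈ Subgroup.normalizer ((T : Subgroup G) : Set G) := fixed_one_iff.1 (by
        rw [mul_smul, ← hz, inv_smul_eq_iff, mul_smul, hjx]
        rfl)
      have h6 := mul_mem (mul_mem (hτm b) hjm) (hNm _ h5)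
      rwa [mul_inv_cancel_left] at h6
  refine ⟨K, iK, iFK, hcard, ⟨?_⟩⟩
  have hcent : Subgroup.center (Matrix.SpecialLinearGroup (Fin 2) K) = ⊥ := by
    rw [Subgroup.eq_bot_iff_forall]
    intro A hA
    obtain ⟨r, hr, hrA⟩ := Matrix.SpecialLinearGroup.mem_center_iff.1 hA
    have hr1 : r = 1 := by
      rw [Fintype.card_fin] at hr
      have h4 : (r - 1) * (r - 1) = 0 := by linear_combination hr - r * h2 1 + h2 1
      exact sub_eq_zero.1 (mul_self_eq_zero.1 h4)
    exact Subtype.ext (by rw [← hrA, hr1, map_one]; rfl)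
  exact (MulEquiv.ofBijective ρ ⟨hinj, hsur⟩).symm.trans
    ((QuotientGroup.quotientBot).symm.trans (QuotientGroup.quotientMulEquivOfEq hcent.symm))

end Cfsg.Agent.S1230
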