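import Cfsg.Statements.S3769
import Cfsg.Agent.Lib.CFun.OddFpfCentralize
import Cfsg.Agent.Lib.Coprime.Hall

set_option autoImplicit false
open Cfsg

namespace Cfsg.Agent.S3769

/-- Let G and V be subgroups of a finite group with G solvable of odd order normalizing V, V an elementary abelian ℓ-group for a prime ℓ not dividing the order of G, and suppose G has a normal Hall subgroup K with a complement R of prime order. If C_V(R) = 1, then [R, K] centralizes V. -/
theorem result {X : Type*} [Group X] [Finite X] (G : Subgroup X) (hsolv : Group.IsSolvable G) (hodd : Odd (Nat.card G)) (V : Subgroup X) {ℓ : ℕ} (hℓ : ℓ.Prime) (hV : Cfsg.IsElementaryAbelian ℓ V) (hℓG : ¬ ℓ ∣ Nat.card G) (hGV : G ≤ Subgroup.normalizer (V : Set X)) (K R : Subgroup X) (hKG : K ≤ G) (hKn : G ≤ Subgroup.normalizer (K : Set X)) (hHall : (Nat.card K).Coprime (K.relIndex G)) (hRG : R ≤ G) (hR : (Nat.card R).Prime) (hKR : K ⊓ R = ⊥) (hKRG : K ⊔ R = G) (hCV : V ⊓ Subgroup.centralizer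 (R : Set X) = ⊥) : ⁅R, K⁆ ≤ Subgroup.centralizer (V : Set X) := by
  haveI : Fact (Nat.card R).Prime := ⟨hR⟩
  haveI : IsCyclic R := isCyclic_of_prime_card (p := Nat.card R) rfl
  obtain ⟨a₀, ha₀⟩ := IsCyclic.exists_zpow_surjective (G := R)
  obtain ⟨a, rfl⟩ : ∃ a : X, Subgroup.zpowers a = R := by
    refine ⟨a₀, le_antisymm (Subgroup.zpowers_le.2 a₀.2) fun x hx => ?_⟩
    obtain ⟨i, hi⟩ := ha₀ ⟨x, hx⟩
    exact ⟨i, (congrArg Subtype.val hi :)⟩
  have har : a ^ Nat.card ↥(Subgroup.zpowers a) = 1 := by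
    rw [Nat.card_zpowers]; exact pow_orderOf_eq_one a
  have haG : a ∈ G := hRG (Subgroup.mem_zpowers a)
  have hKd : Nat.card K ∣ Nat.card G := Subgroup.card_dvd_of_le hKG
  have hRd : Nat.card ↥(Subgroup.zpowers a) ∣ Nat.card G := Subgroup.card_dvd_of_le hRG
  haveI : Fact ℓ.Prime := ⟨hℓ⟩
  rw [Subgroup.commutator_comm]
  refine CfsgLib.CFun.FpfComm.commutator_le_centralizer
    (fun v => ⟨1, Subtype.ext (by rw [pow_one]; exact hV.2 v v.2)⟩) hR ?_ har (hGV haG) (hKn haG)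
    (hKG.trans hGV) (hodd.of_dvd_nat hKd) ?_ (fun h => hℓG (h.trans hKd)) fun v hv hc => ?_
  · intro e
    exact hℓG (e ▸ hRd)
  · intro h
    have hd : ¬ Nat.card ↥(Subgroup.zpowers a) ∣ K.relIndex G := fun hd =>
      hR.not_dvd_one ((Nat.eq_one_of_dvd_coprimes hHall h hd) ▸ dvd_rfl)
    haveI : (K.subgroupOf G).Normal := (Subgroup.normal_subgroupOf_iff_le_normalizer hKG).2 hKn
    have ha1 : (QuotientGroup.mk (⟨a, haG⟩ : G) : G ⧸ K.subgroupOf G) = 1 := by
      refine orderOf_eq_one_iff.1 (Nat.eq_one_of_dvd_coprimes (hR.coprime_iff_not_dvd.2 hd)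
        (orderOf_dvd_of_pow_eq_one ?_) ?_)
      · rw [← QuotientGroup.mk_pow, show (⟨a, haG⟩ : G) ^ Nat.card ↥(Subgroup.zpowers a) = 1 from
          Subtype.ext har]
        rfl
      · show _ ∣ (K.subgroupOf G).index
        rw [Subgroup.index_eq_card]
        exact orderOf_dvd_natCard _
    have ha2 : a ∈ K ⊓ Subgroup.zpowers a :=
      ⟨((QuotientGroup.eq_one_iff (N := K.subgroupOf G) (⟨a, haG⟩ : G)).1 ha1 :), Subgroup.mem_zpowers a⟩
    rw [hKR, Subgroup.mem_bot] at ha2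
    rw [ha2, Nat.card_zpowers, orderOf_one] at hR
    exact Nat.not_prime_one hR
  · have hmem : v ∈ V ⊓ Subgroup.centralizer (Subgroup.zpowers a : Set X) := by
      refine ⟨hv, Subgroup.mem_centralizer_iff.2 ?_⟩
      rintro _ ⟨i, rfl⟩
      exact ((show Commute a v from hc).zpow_left i).eq
    rwa [hCV, Subgroup.mem_bot] at hmem
end Cfsg.Agent.S3769
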