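import Cfsg.Statements.S1125
import Cfsg.Agent.Lib.RootSub.Setup2
import Cfsg.Agent.Lib.Coprime.Core
import Cfsg.Agent.Lib.Coprime.Action


set_option autoImplicit false
open Cfsg

namespace Cfsg.Agent.S1125

open CfsgLib.RootSub MulAction

/-- In the rank-one set-up (`G` finite and doubly transitive on `Ω`, `t` an involution moving `a`, `Q` normal in `G_a` with `G_a = Q D`, `Q ⊓ D = 1` for the two-point stabiliser `D = G_a ⊓ G_{t • a}`, `|Q|` even, `|D|` odd), let `X ⊆ D` fix at least three points of `Ω`. Then `C_G(X)` is doubly transitive on the fixed-point set of `X`, `|C_Q(X)|` is even, and `C_{G_a}(X) = C_Q(X) C_D(X)`. -/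
theorem result {G Ω : Type*} [Group G] [Finite G] [MulAction G Ω] {a : Ω} {t : G} {Q : Subgroup G}
    (hS : Cfsg.IsRankOneSetup G Ω a t Q)
    (X : Set G) (hX : X ⊆ ((MulAction.stabilizer G a ⊓ MulAction.stabilizer G (t • a)) : Set G))
    (h3 : ∃ b c d : Ω, b ≠ c ∧ b ≠ d ∧ c ≠ d ∧ ∀ x ∈ X, x • b = b ∧ x • c = c ∧ x • d = d) :
    (∀ b₁ b₂ c₁ c₂ : Ω, (∀ x ∈ X, x • b₁ = b₁ ∧ x • b₂ = b₂ ∧ x • c₁ = c₁ ∧ x • c₂ = c₂) →
        b₁ ≠ b₂ → c₁ ≠ c₂ → ∃ g ∈ Subgroup.centralizer X, g • b₁ = c₁ ∧ g • b₂ = c₂) ∧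
      Even (Nat.card ↥(Subgroup.centralizer X ⊓ Q)) ∧
      (Subgroup.centralizer X ⊓ Q) ⊔ (Subgroup.centralizer X ⊓ (MulAction.stabilizer G a ⊓ MulAction.stabilizer G (t • a))) = Subgroup.centralizer X ⊓ MulAction.stabilizer G a := by
  classical
  have hXa : ∀ x ∈ X, x • a = a := fun x hx => mem_stabilizer_iff.1 (hX hx).1
  have hXb : ∀ x ∈ X, x • (t • a) = t • a := fun x hx => mem_stabilizer_iff.1 (hX hx).2
  have hpt : ∀ b c : Ω, ∃ d : Ω, (∀ x ∈ X, x • d = d) ∧ d ≠ b ∧ d ≠ c := by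
    intro b c
    obtain ⟨u, v, w, huv, huw, hvw, h⟩ := h3
    by_contra hh
    push Not at hh
    have hu := hh u (fun x hx => (h x hx).1)
    have hv := hh v (fun x hx => (h x hx).2.1)
    have hw := hh w (fun x hx => (h x hx).2.2)
    by_cases q1 : u = b
    · by_cases q2 : v = b
      · exact huv (q1.trans q2.symm)
      · by_cases q3 : w = b
        · exact huw (q1.trans q3.symm)
        · exact hvw ((hv q2).trans (hw q3).symm)
    · by_cases q2 : v = b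
      · by_cases q3 : w = b
        · exact hvw (q2.trans q3.symm)
        · exact huw ((hu q1).trans (hw q3).symm)
      · exact huv ((hu q1).trans (hv q2).symm)
  have hmove : ∀ g ∈ Subgroup.centralizer X, ∀ b : Ω, (∀ x ∈ X, x • b = b) → ∀ x ∈ X, x • (g • b) = g • b := by
    intro g hg b hb x hx
    rw [← mul_smul, Subgroup.mem_centralizer_iff.1 hg x hx, mul_smul, hb x hx]
  have hone : ∀ b c : Ω, (∀ x ∈ X, x • b = b) → (∀ x ∈ X, x • c = c) → ∃ g ∈ Subgroup.centralizer X, g • b = c := by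
    intro b c hb hc
    by_cases hbc : b = c
    · exact ⟨1, one_mem _, by rw [one_smul, hbc]⟩
    obtain ⟨d, hd, hdb, hdc⟩ := hpt b c
    obtain ⟨g, hg, -, hgb, -⟩ := Setup.centralizer_transitive hS hd hb hc hdb.symm hdc.symm
    exact ⟨g, hg, hgb⟩
  refine ⟨fun b₁ b₂ c₁ c₂ h hb hc => ?_, ?_, ?_⟩
  · obtain ⟨g, hg, hgb⟩ := hone b₁ c₁ (fun x hx => (h x hx).1) (fun x hx => (h x hx).2.2.1)
    have hne : g • b₂ ≠ c₁ := fun e => hb (smul_left_cancel g (hgb.trans e.symm))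
    obtain ⟨g', hg', hg'c, hg'b, -⟩ := Setup.centralizer_transitive hS (fun x hx => (h x hx).2.2.1)
      (hmove g hg b₂ fun x hx => (h x hx).2.1) (fun x hx => (h x hx).2.2.2) hne hc.symm
    exact ⟨g' * g, mul_mem hg' hg, by rw [mul_smul, hgb, hg'c], by rw [mul_smul, hg'b]⟩
  · obtain ⟨u, hu, hu2, hua, -⟩ := Setup.exists_swap hS hX h3
    have hu1 : u ≠ 1 := fun e => Setup.ta_ne hS (by rw [← hua, e, one_smul])
    obtain ⟨p, hp, hpu⟩ := Setup.exists_fixed hS hu1 hu2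
    have hpX : ∀ x ∈ X, x • p = p := fun x hx => hpu _ (by
      rw [← mul_smul, ← Subgroup.mem_centralizer_iff.1 hu x hx, mul_smul, hp])
    obtain ⟨g, hg, hgp⟩ := hone a p hXa hpX
    have hs : g⁻¹ * u * g ∈ Subgroup.centralizer X ⊓ Q := by
      refine Subgroup.mem_inf.2 ⟨mul_mem (mul_mem (inv_mem hg) hu) hg, Setup.mem_Q_of_sq hS
        (mem_stabilizer_iff.2 ?_) ?_⟩
      · rw [mul_smul, mul_smul, hgp, hp, ← hgp, inv_smul_smul]
      · rw [show g⁻¹ * u * g * (g⁻¹ * u * g) = g⁻¹ * (u * u) * g by group, hu2, mul_one, inv_mul_cancel]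
    have ho : orderOf (g⁻¹ * u * g) = 2 := by
      haveI : Fact (Nat.Prime 2) := ⟨Nat.prime_two⟩
      refine orderOf_eq_prime ?_ fun e => hu1 ?_
      · rw [pow_two, show g⁻¹ * u * g * (g⁻¹ * u * g) = g⁻¹ * (u * u) * g by group, hu2, mul_one, inv_mul_cancel]
      · have h1 := congrArg (fun w => g * w * g⁻¹) e
        simpa [mul_assoc] using h1
    exact even_iff_two_dvd.2 (ho ▸ Subgroup.orderOf_dvd_natCard _ hs)
  · refine le_antisymm (sup_le (inf_le_inf_left _ hS.le) (inf_le_inf_left _ inf_le_left)) fun g hg => ?_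
    obtain ⟨hgC, hga⟩ := Subgroup.mem_inf.1 hg
    have hne : g • (t • a) ≠ a := fun e => Setup.ta_ne hS (smul_left_cancel g (e.trans (mem_stabilizer_iff.1 hga).symm))
    obtain ⟨q, hq, -, hqb, hqQ⟩ := Setup.centralizer_transitive hS hXa hXb (hmove g hgC _ hXb) (Setup.ta_ne hS) hne
    have hqQ' := hqQ rfl
    rw [show g = q * (q⁻¹ * g) by rw [mul_inv_cancel_left]]
    refine mul_mem (Subgroup.mem_sup_left (Subgroup.mem_inf.2 ⟨hq, hqQ'⟩)) (Subgroup.mem_sup_right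
      (Subgroup.mem_inf.2 ⟨mul_mem (inv_mem hq) hgC, Subgroup.mem_inf.2 ⟨mul_mem (inv_mem (hS.le hqQ')) hga,
        mem_stabilizer_iff.2 ?_⟩⟩))
    rw [mul_smul, ← hqb, inv_smul_smul]

end Cfsg.Agent.S1125
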