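import Cfsg.Statements.S1121
import Cfsg.Agent.Lib.RootSub.Setup


set_option autoImplicit false
open Cfsg

namespace Cfsg.Agent.S1121

open CfsgLib.RootSub MulAction

/-- In the rank-one set-up (`G` finite and doubly transitive on `Ω`, `t` an involution moving `a`, `Q` normal in `G_a` with `G_a = Q D`, `Q ⊓ D = 1` for the two-point stabiliser `D = G_a ⊓ G_{t • a}`, `|Q|` even, `|D|` odd): if `s` is an involution of `G_a` and `u` an involution outside `G_a`, then `s u` has odd order; and any two involutions of `G` are conjugate. -/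
theorem result {G Ω : Type*} [Group G] [Finite G] [MulAction G Ω] {a : Ω} {t : G} {Q : Subgroup G}
    (hS : Cfsg.IsRankOneSetup G Ω a t Q) :
    (∀ s u : G, s ∈ MulAction.stabilizer G a → s ≠ 1 → s * s = 1 → u ∉ MulAction.stabilizer G a → u ≠ 1 → u * u = 1 → Odd (orderOf (s * u))) ∧
      ∀ u v : G, u ≠ 1 → u * u = 1 → v ≠ 1 → v * v = 1 → ∃ g : G, g * u * g⁻¹ = v := by
  haveI : Fact (Nat.Prime 2) := ⟨Nat.prime_two⟩
  have hodd : ∀ s u : G, s ∈ stabilizer G a → s ≠ 1 → s * s = 1 → u ∉ stabilizer G a → u * u = 1 →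
      Odd (orderOf (s * u)) := by
    intro s u hs hs1 hs2 hu hu2
    rw [← Nat.not_even_iff_odd]
    rintro ⟨m, hm⟩
    set r := s * u with hr
    have hm0 : 0 < m := by have := orderOf_pos r; omega
    set z := r ^ m with hz
    have hzz : z⁻¹ = z := inv_eq_of_mul_eq_one_right (by rw [hz, ← pow_add, ← hm, pow_orderOf_eq_one])
    have hz1 : z ≠ 1 := pow_ne_one_of_lt_orderOf hm0.ne' (by omega)
    have hsi : s⁻¹ = s := inv_eq_of_mul_eq_one_right hs2
    have hui : u⁻¹ = u := inv_eq_of_mul_eq_one_right hu2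
    have hinv : ∀ w : G, w⁻¹ = w → w * r * w⁻¹ = r⁻¹ → w * z = z * w := by
      intro w hw h
      have h1 : w * z * w⁻¹ = z := by rw [hz, ← conj_pow, h, inv_pow, ← hz, hzz]
      exact mul_inv_eq_iff_eq_mul.1 h1
    have hcs : s * z = z * s := hinv s hsi (by rw [hr, mul_inv_rev, hsi, hui, ← mul_assoc, hs2, one_mul])
    have hcu : u * z = z * u := hinv u hui (by
      rw [hr, mul_inv_rev, hsi, hui, mul_assoc, mul_assoc, hu2, mul_one])
    have hsQ := Setup.mem_Q_of_sq hS hs hs2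
    have hza : z • a = a := by
      refine Setup.eq_a_of_fix hS hsQ hs1 ?_
      rw [← mul_smul, hcs, mul_smul, mem_stabilizer_iff.1 hs]
    have hzQ := Setup.mem_Q_of_sq hS (mem_stabilizer_iff.2 hza) (by nth_rewrite 1 [← hzz]; exact inv_mul_cancel z)
    refine hu (mem_stabilizer_iff.2 (Setup.eq_a_of_fix hS hzQ hz1 ?_))
    rw [← mul_smul, ← hcu, mul_smul, hza]
  refine ⟨fun s u hs hs1 hs2 hu _ hu2 => hodd s u hs hs1 hs2 hu hu2, ?_⟩
  have hconj : ∀ s u : G, s ∈ stabilizer G a → s ≠ 1 → s * s = 1 → u ∉ stabilizer G a → u * u = 1 →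
      ∃ g : G, g * u * g⁻¹ = s := by
    intro s u hs hs1 hs2 hu hu2
    obtain ⟨k, hk⟩ := hodd s u hs hs1 hs2 hu hu2
    set r := s * u with hr
    have hui : u⁻¹ = u := inv_eq_of_mul_eq_one_right hu2
    have hinv : u * r * u⁻¹ = r⁻¹ := by
      rw [hr, mul_inv_rev, inv_eq_of_mul_eq_one_right hs2, hui, mul_assoc, mul_assoc, hu2, mul_one]
    refine ⟨r ^ (k + 1), ?_⟩
    have h1 : u * (r ^ (k + 1))⁻¹ = r ^ (k + 1) * u := by
      rw [← inv_pow, ← hinv, conj_pow, ← mul_assoc, ← mul_assoc, hu2, one_mul, hui]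
    rw [mul_assoc, h1, ← mul_assoc, ← pow_add, show k + 1 + (k + 1) = orderOf r + 1 by omega, pow_succ,
      pow_orderOf_eq_one, one_mul, hr, mul_assoc, hu2, mul_one]
  obtain ⟨s0, hs0⟩ := exists_prime_orderOf_dvd_card' 2 (even_iff_two_dvd.1 hS.even_card)
  have hs01 : (s0 : G) ≠ 1 := fun e => by
    rw [show s0 = 1 from Subtype.ext e, orderOf_one] at hs0
    omega
  have hs02 : (s0 : G) * s0 = 1 := by
    rw [← pow_two, ← hs0, ← Subgroup.orderOf_coe, pow_orderOf_eq_one]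
  have hall : ∀ u : G, u ≠ 1 → u * u = 1 → ∃ g : G, g * u * g⁻¹ = s0 := by
    intro u hu1 hu2
    by_cases hu : u ∈ stabilizer G a
    · obtain ⟨g, hg⟩ := hconj u t hu hu1 hu2 hS.not_mem hS.mul_self
      obtain ⟨g', hg'⟩ := hconj s0 t (hS.le s0.2) hs01 hs02 hS.not_mem hS.mul_self
      refine ⟨g' * g⁻¹, ?_⟩
      rw [← hg', ← hg]
      group
    · exact hconj s0 u (hS.le s0.2) hs01 hs02 hu hu2
  intro u v hu1 hu2 hv1 hv2
  obtain ⟨g, hg⟩ := hall u hu1 hu2
  obtain ⟨g', hg'⟩ := hall v hv1 hv2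
  refine ⟨g'⁻¹ * g, ?_⟩
  rw [show g'⁻¹ * g * u * (g'⁻¹ * g)⁻¹ = g'⁻¹ * (g * u * g⁻¹) * g' by group, hg, ← hg']
  group

end Cfsg.Agent.S1121
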