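import Cfsg.Statements.S4521
import Cfsg.Agent.Lib.Block.InducedChar
import Cfsg.Agent.Lib.Block.Principal

/-!
# S4521: principal blocks of central products over a p-group
-/

set_option autoImplicit false
open Cfsg

namespace Cfsg.Agent.S4521

open CfsgLib CfsgLib.Block

variable {p : ℕ} [Fact p.Prime] {G : Type*} [Group G] [Fintype G]

theorem regular_sum_mul (U V : Subgroup G) [Fintype U] [Fintype V]
    (hcomm : ∀ u ∈ U, ∀ v ∈ V, u * v = v * u) (hgen : U ⊔ V = ⊤)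
    (hZ : IsPGroup p ↥(U ⊓ V)) (f : G → ℂ) :
    ∑ g ∈ Finset.univ.filter (fun g : G => ¬ p ∣ orderOf g), f g =
      ∑ u ∈ Finset.univ.filter (fun u : U => ¬ p ∣ orderOf u),
        ∑ v ∈ Finset.univ.filter (fun v : V => ¬ p ∣ orderOf v), f ((u : G) * v) := by
  classical
  have hp : p.Prime := Fact.out
  set o := ordCompl[p] (Nat.card G) with ho
  have hop : ¬ p ∣ o := Nat.not_dvd_ordCompl hp Nat.card_pos.ne'
  have hreg : ∀ {g : G}, ¬ p ∣ orderOf g ↔ g ^ o = 1 := fun {g} => by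
    rw [← orderOf_dvd_iff_pow_eq_one]
    exact ⟨fun h => (((hp.coprime_iff_not_dvd.mpr h).symm.pow_right _).dvd_of_dvd_mul_left
      (by rw [ho, Nat.ordProj_mul_ordCompl_eq_self]; exact orderOf_dvd_natCard g)),
      fun h h' => hop (h'.trans h)⟩
  rw [← Finset.sum_product']
  symm
  refine Finset.sum_bij (fun q _ => (q.1 : G) * (q.2 : G)) ?_ ?_ ?_ (fun _ _ => rfl)
  · intro q hq
    simp only [Finset.mem_product, Finset.mem_filter, Finset.mem_univ, true_and,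
      ← Subgroup.orderOf_coe, hreg] at hq ⊢
    rw [(show Commute (q.1 : G) q.2 from hcomm _ q.1.2 _ q.2.2).mul_pow, hq.1, hq.2, one_mul]
  · intro a ha b hb hab
    simp only [Finset.mem_product, Finset.mem_filter, Finset.mem_univ, true_and,
      ← Subgroup.orderOf_coe, hreg] at ha hb hab
    set z : G := (b.1 : G)⁻¹ * a.1 with hz
    have hzV : z = (b.2 : G) * (a.2 : G)⁻¹ := by
      rw [hz, inv_mul_eq_iff_eq_mul, ← mul_assoc, ← hab, mul_inv_cancel_right]
    have hzmem : z ∈ U ⊓ V := ⟨U.mul_mem (U.inv_mem b.1.2) a.1.2,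
      hzV ▸ V.mul_mem b.2.2 (V.inv_mem a.2.2)⟩
    have hcz : Commute (b.1 : G) z := hcomm _ b.1.2 _ hzmem.2
    have hzo : z ^ o = 1 := by
      have : (a.1 : G) ^ o = ((b.1 : G) * z) ^ o := by rw [hz, mul_inv_cancel_left]
      rw [ha.1, hcz.mul_pow, hb.1, one_mul] at this
      exact this.symm
    obtain ⟨k, hk⟩ := hZ ⟨z, hzmem⟩
    have hk' : z ^ p ^ k = 1 := congrArg Subtype.val hk
    have hz1 : z = 1 := by
      rw [← orderOf_eq_one_iff]
      exact Nat.eq_one_of_dvd_coprimes ((hp.coprime_iff_not_dvd.mpr hop).pow_left k)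
        (orderOf_dvd_of_pow_eq_one hk') (orderOf_dvd_of_pow_eq_one hzo)
    refine Prod.ext (Subtype.ext ?_) (Subtype.ext ?_)
    · rw [show (a.1 : G) = b.1 * z by rw [hz, mul_inv_cancel_left], hz1, mul_one]
    · rw [← mul_inv_eq_one.mp (hzV.symm.trans hz1)]
  · intro g hg
    simp only [Finset.mem_filter, Finset.mem_univ, true_and, hreg] at hg
    have : V ≤ Subgroup.normalizer (U : Set G) := fun v hv => by
      rw [Subgroup.mem_normalizer_iff]
      intro x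
      have key : ∀ y ∈ U, v * y * v⁻¹ = y := fun y hy => by
        rw [← hcomm y hy v hv, mul_inv_cancel_right]
      refine ⟨fun hx => by rw [key x hx]; exact hx, fun hx => ?_⟩
      rw [show x = v⁻¹ * (v * x * v⁻¹ * v) by group, hcomm _ hx v hv, inv_mul_cancel_left]
      exact hx
    obtain ⟨u, hu, v, hv, huv⟩ : ∃ u ∈ U, ∃ v ∈ V, u * v = g := by
      have hmem : g ∈ ((U ⊔ V : Subgroup G) : Set G) := by rw [hgen]; trivial
      rw [Subgroup.coe_mul_of_right_le_normalizer_left U V this] at hmem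
      obtain ⟨u, hu, v, hv, e⟩ := Set.mem_mul.mp hmem
      exact ⟨u, hu, v, hv, e⟩
    obtain ⟨e, he1, he0⟩ := Nat.chineseRemainder
      (show Nat.Coprime o (p ^ (Nat.card G).factorization p) from
        ((hp.coprime_iff_not_dvd.mpr hop).pow_left _).symm) 1 0
    have hpow : ∀ x : G, (x ^ e) ^ o = 1 := fun x => by
      rw [← pow_mul, ← orderOf_dvd_iff_pow_eq_one]
      refine (orderOf_dvd_natCard x).trans ?_
      rw [← Nat.ordProj_mul_ordCompl_eq_self (Nat.card G) p, ← ho]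
      exact Nat.mul_dvd_mul_right ((Nat.modEq_zero_iff_dvd).mp he0) _
    refine ⟨(⟨u ^ e, U.pow_mem hu e⟩, ⟨v ^ e, V.pow_mem hv e⟩), ?_, ?_⟩
    · simp only [Finset.mem_product, Finset.mem_filter, Finset.mem_univ, true_and,
        ← Subgroup.orderOf_coe, hreg]
      exact ⟨hpow u, hpow v⟩
    · show u ^ e * v ^ e = g
      rw [← (show Commute u v from hcomm u hu v hv).mul_pow, huv]
      conv_rhs => rw [← pow_one g]
      exact pow_eq_pow_iff_modEq.mpr (he1.of_dvd (orderOf_dvd_of_pow_eq_one hg))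

theorem res_ratio (U : Subgroup G) [U.Normal] [Fintype U] (hc : ∀ x : G, ∀ u : U,
    ∃ a ∈ U, x⁻¹ * (u : G) * x = a⁻¹ * (u : G) * a) (χ : IrrCharacter G) (ψ : IrrCharacter U)
    (h : classInner (fun u : U => (χ : G → ℂ) u) (ψ : U → ℂ) ≠ 0) (u : U) :
    (χ : G → ℂ) u * (ψ : U → ℂ) 1 = (χ : G → ℂ) 1 * (ψ : U → ℂ) u := by
  classical
  have hind : ∀ w : U, indFun U (ψ : U → ℂ) (w : G) =
      (Nat.card U : ℂ)⁻¹ * Nat.card G * (ψ : U → ℂ) w := fun w => by
    rw [indFun, mul_assoc]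
    congr 1
    rw [Finset.sum_congr rfl (g := fun _ => (ψ : U → ℂ) w) fun x _ => by
      obtain ⟨a, ha, e⟩ := hc x w
      rw [e, Char.extendByZero_mem U _ (U.mul_mem (U.mul_mem (U.inv_mem ha) w.2) ha)]
      have h2 := Char.isClassFunction_irr ψ w ⟨a, ha⟩⁻¹
      rw [inv_inv] at h2
      exact h2]
    simp [Nat.card_eq_fintype_card]
  have h1 := (classInner_ne_zero_iff_centralChar U χ ψ).mp h u
  rw [inducedCentralChar_eq_centralChar_indFun U (Char.irr_one_ne_zero ψ), centralChar,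
    centralChar, hind, ← OneMemClass.coe_one U, hind] at h1
  have hi : ((Subgroup.centralizer ({(u : G)} : Set G)).index : ℂ) ≠ 0 :=
    Nat.cast_ne_zero.mpr Subgroup.FiniteIndex.index_ne_zero
  have hψ := Char.irr_one_ne_zero ψ
  have hχ := Char.irr_one_ne_zero χ
  have hcU : (Nat.card U : ℂ) ≠ 0 := Nat.cast_ne_zero.mpr Nat.card_pos.ne'
  have hcG : (Nat.card G : ℂ) ≠ 0 := Nat.cast_ne_zero.mpr Nat.card_pos.ne'
  rw [OneMemClass.coe_one] at h1
  field_simp at h1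
  linear_combination h1

theorem mul_apply (χ : IrrCharacter G) {u v : G}
    (h : ∀ x, IsConj u x → IsConj (u * v) (x * v)) :
    (χ : G → ℂ) (u * v) * (χ : G → ℂ) 1 = (χ : G → ℂ) u * (χ : G → ℂ) v := by
  classical
  have hcl := Char.isClassFunction_irr χ
  obtain ⟨n, ρ, hρ, hχ⟩ := χ.2
  haveI := hρ
  set k := ((Finset.univ.filter (fun x : G => IsConj u x)).card : ℂ) with hk
  have hk0 : k ≠ 0 := Nat.cast_ne_zero.mpr
    (Finset.card_ne_zero.mpr ⟨u, Finset.mem_filter.mpr ⟨Finset.mem_univ _, IsConj.refl u⟩⟩)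
  have h1 := congrArg (fun T => LinearMap.trace ℂ _ (T * ρ v))
    (rho_classElt ρ (isClassElt_classSum (R := ℂ) u))
  have hl : ρ.asAlgebraHom (classSum ℂ u) =
      ∑ x ∈ Finset.univ.filter (fun x : G => IsConj u x), ρ x := by
    have : classSum ℂ u = ∑ x ∈ Finset.univ.filter (fun x : G => IsConj u x),
        MonoidAlgebra.single x (1 : ℂ) := ga_ext fun g => by
      by_cases hg : IsConj u g <;> simp [classSum, coeff_sum_apply, Finsupp.single_apply, hg]
    simp only [this, map_sum, Representation.asAlgebraHom_single_one]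
  have ho : omega ρ.character (classSum ℂ u) = k * ρ.character u / ρ.character 1 := by
    rw [omega]
    congr 1
    simp only [classSum, coeff_gaOfFun, ite_mul, one_mul, zero_mul, ← Finset.sum_filter]
    rw [hk, ← nsmul_eq_mul, ← Finset.sum_const]
    refine Finset.sum_congr (by ext; simp) fun x hx => ?_
    rw [hχ]
    exact (Char.classFun_isConj hcl (Finset.mem_filter.mp hx).2).symm
  simp only [hl, Finset.sum_mul, map_sum, ← map_mul, ho, Algebra.algebraMap_eq_smul_one,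
    smul_mul_assoc, one_mul, map_smul, smul_eq_mul] at h1
  have e : ∀ g, LinearMap.trace ℂ _ (ρ g) = (χ : G → ℂ) g := fun g => congrFun hχ g
  simp only [e] at h1
  rw [Finset.sum_congr rfl (g := fun _ => (χ : G → ℂ) (u * v)) fun x hx =>
    (Char.classFun_isConj hcl (h x (Finset.mem_filter.mp hx).2)).symm, Finset.sum_const,
    nsmul_eq_mul, hχ, ← hk] at h1
  have hχ1 := Char.irr_one_ne_zero χ
  field_simp at h1
  linear_combination h1


/-- Let the finite group G be generated by subgroups U₁ and U₂ that commute elementwise and whose intersection is a p-group, and let M be a maximal ideal of the algebraic integers containing the prime p. If the irreducible character χ of G has the irreducible constituents ψ₁ on U₁ and ψ₂ on U₂, then χ lies in the principal block of G if and only if ψ₁ and ψ₂ lie in the principal blocks of U₁ and U₂. -/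
theorem result {G : Type*} [Group G] [Fintype G] (p : ℕ) [Fact p.Prime] (M : Ideal Cfsg.AlgInt) (hM : Cfsg.IsPModular p M) (U₁ U₂ : Subgroup G) [Fintype U₁] [Fintype U₂] (hcomm : ∀ u ∈ U₁, ∀ v ∈ U₂, u * v = v * u) (hgen : U₁ ⊔ U₂ = ⊤) (hZ : IsPGroup p ↥(U₁ ⊓ U₂)) (χ : Cfsg.IrrCharacter G) (ψ₁ : Cfsg.IrrCharacter U₁) (ψ₂ : Cfsg.IrrCharacter U₂) (h₁ : Cfsg.classInner (fun u : U₁ => (χ : G → ℂ) u) (ψ₁ : U₁ → ℂ) ≠ 0) (h₂ : Cfsg.classInner (fun u : U₂ => (χ : G → ℂ) u) (ψ₂ : U₂ → ℂ) ≠ 0) : χ ∈ Cfsg.principalBlock M G ↔ (ψ₁ ∈ Cfsg.principalBlock M U₁ ∧ ψ₂ ∈ Cfsg.principalBlock M U₂) := by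
  classical
  have := hM.2.1
  haveI hn₁ : U₁.Normal := ⟨fun u hu g => by
    have hg : g ∈ U₁ ⊔ U₂ := hgen.symm ▸ Subgroup.mem_top g
    refine Subgroup.closure_induction (p := fun g _ => ∀ u ∈ U₁, g * u * g⁻¹ ∈ U₁) ?_ ?_ ?_ ?_
      ((Subgroup.sup_eq_closure U₁ U₂) ▸ hg) u hu
    · rintro x (hx | hx) w hw
      · exact U₁.mul_mem (U₁.mul_mem hx hw) (U₁.inv_mem hx)
      · rw [← hcomm w hw x hx, mul_inv_cancel_right]; exact hw
    · intro w hw; simpa using hw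
    · intro x y _ _ hx hy w hw
      rw [show x * y * w * (x * y)⁻¹ = x * (y * w * y⁻¹) * x⁻¹ by group]
      exact hx _ (hy w hw)
    · intro x _ hx w hw
      have : Function.Surjective (fun w : U₁ => (⟨x * w * x⁻¹, hx w w.2⟩ : U₁)) :=
        Finite.surjective_of_injective fun a b e => Subtype.ext (by
          simpa using congrArg Subtype.val e)
      obtain ⟨z, hz⟩ := this ⟨w, hw⟩
      have hz' : x * (z : G) * x⁻¹ = w := congrArg Subtype.val hz
      rw [← hz', show x⁻¹ * (x * (z : G) * x⁻¹) * x⁻¹⁻¹ = z by group]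
      exact z.2⟩
  have hdec : ∀ x : G, ∃ u ∈ U₁, ∃ v ∈ U₂, u * v = x := fun x =>
    Subgroup.mem_sup_of_normal_left.mp (hgen.symm ▸ Subgroup.mem_top x)
  haveI hn₂ : U₂.Normal := ⟨fun w hw g => by
    obtain ⟨u, hu, v, hv, rfl⟩ := hdec g
    rw [show u * v * w * (u * v)⁻¹ = u * (v * w * v⁻¹) * u⁻¹ by group,
      hcomm u hu _ (U₂.mul_mem (U₂.mul_mem hv hw) (U₂.inv_mem hv)), mul_inv_cancel_right]
    exact U₂.mul_mem (U₂.mul_mem hv hw) (U₂.inv_mem hv)⟩
  have hc₁ : ∀ x : G, ∀ u : U₁, ∃ a ∈ U₁, x⁻¹ * (u : G) * x = a⁻¹ * (u : G) * a := fun x u => by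
    obtain ⟨a, ha, b, hb, rfl⟩ := hdec x
    refine ⟨a, ha, ?_⟩
    rw [show (a * b)⁻¹ * (u : G) * (a * b) = b⁻¹ * (a⁻¹ * u * a) * b by group,
      mul_assoc, hcomm _ (U₁.mul_mem (U₁.mul_mem (U₁.inv_mem ha) u.2) ha) b hb, inv_mul_cancel_left]
  have hc₂ : ∀ x : G, ∀ u : U₂, ∃ a ∈ U₂, x⁻¹ * (u : G) * x = a⁻¹ * (u : G) * a := fun x u => by
    obtain ⟨a, ha, b, hb, rfl⟩ := hdec x
    refine ⟨b, hb, ?_⟩
    rw [show (a * b)⁻¹ * (u : G) * (a * b) = b⁻¹ * (a⁻¹ * u * a) * b by group,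
      mul_assoc a⁻¹, ← hcomm a ha _ u.2, inv_mul_cancel_left]
  letI := Fintype.ofFinite (IrrCharacter G)
  letI := Fintype.ofFinite (IrrCharacter U₁)
  letI := Fintype.ofFinite (IrrCharacter U₂)
  letI := Fintype.ofFinite (ConjClasses G)
  letI := Fintype.ofFinite (ConjClasses U₁)
  letI := Fintype.ofFinite (ConjClasses U₂)
  obtain ⟨R, hR, hRres⟩ := exists_regN_lift (p := p) (M := M) χ (oneChar G)
  obtain ⟨R₁, hR₁, hR₁res⟩ := exists_regN_lift (p := p) (M := M) ψ₁ (oneChar U₁)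
  obtain ⟨R₂, hR₂, hR₂res⟩ := exists_regN_lift (p := p) (M := M) ψ₂ (oneChar U₂)
  have hval : ∀ (u : U₁) (v : U₂), (χ : G → ℂ) ((u : G) * v) *
      ((ψ₁ : U₁ → ℂ) 1 * (ψ₂ : U₂ → ℂ) 1) =
      (χ : G → ℂ) 1 * ((ψ₁ : U₁ → ℂ) u * (ψ₂ : U₂ → ℂ) v) := fun u v => by
    have hm := mul_apply χ (u := (u : G)) (v := (v : G)) fun x hx => by
      obtain ⟨c, hc⟩ := isConj_iff.mp hx
      obtain ⟨a, ha, b, hb, rfl⟩ := hdec c
      refine isConj_iff.mpr ⟨a, ?_⟩
      rw [← hc, show a * b * (u : G) * (a * b)⁻¹ = a * (b * u * b⁻¹) * a⁻¹ by group,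
        ← hcomm _ u.2 b hb, mul_inv_cancel_right,
        show a * ((u : G) * v) * a⁻¹ = a * u * (v * a⁻¹) by group,
        ← hcomm a⁻¹ (U₁.inv_mem ha) v v.2]
      group
    have e₁ := res_ratio U₁ hc₁ χ ψ₁ h₁ u
    have e₂ := res_ratio U₂ hc₂ χ ψ₂ h₂ v
    refine mul_left_cancel₀ (Char.irr_one_ne_zero χ) ?_
    linear_combination ((ψ₁ : U₁ → ℂ) 1 * (ψ₂ : U₂ → ℂ) 1) * hm +
      (χ : G → ℂ) v * (ψ₂ : U₂ → ℂ) 1 * e₁ + (χ : G → ℂ) 1 * (ψ₁ : U₁ → ℂ) u * e₂
  have hRR : R = R₁ * R₂ := by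
    refine Subtype.ext (mul_right_cancel₀ (mul_ne_zero (Char.irr_one_ne_zero χ)
      (mul_ne_zero (Char.irr_one_ne_zero ψ₁) (Char.irr_one_ne_zero ψ₂))) ?_)
    rw [Subring.coe_mul]
    calc (R : ℂ) * ((χ : G → ℂ) 1 * ((ψ₁ : U₁ → ℂ) 1 * (ψ₂ : U₂ → ℂ) 1))
        = (R : ℂ) * (χ : G → ℂ) 1 * ((ψ₁ : U₁ → ℂ) 1 * (ψ₂ : U₂ → ℂ) 1) := by ring
      _ = (χ : G → ℂ) 1 * (((R₁ : ℂ) * (ψ₁ : U₁ → ℂ) 1) * ((R₂ : ℂ) * (ψ₂ : U₂ → ℂ) 1)) := by
        rw [hR, hR₁, hR₂, card_mul_regInner, card_mul_regInner, card_mul_regInner]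
        simp only [oneChar, mul_one]
        rw [regular_sum_mul U₁ U₂ hcomm hgen hZ, Finset.sum_mul_sum, Finset.sum_mul, Finset.mul_sum]
        refine Finset.sum_congr rfl fun u _ => ?_
        rw [Finset.sum_mul, Finset.mul_sum]
        exact Finset.sum_congr rfl fun v _ => hval u v
      _ = _ := by ring
  rw [mem_principalBlock_iff hM, mem_principalBlock_iff hM, mem_principalBlock_iff hM,
    omegaBar_regBar_eq_regN, omegaBar_regBar_eq_regN, omegaBar_regBar_eq_regN, ← hRres, ← hR₁res,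
    ← hR₂res, hRR, map_mul, mul_ne_zero_iff]

end Cfsg.Agent.S4521
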