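import Cfsg.Statements.S2300

import Cfsg.Agent.Lib.Char.SLTwoValues

set_option autoImplicit false
open Cfsg

namespace Cfsg.Agent.S2300

/-- Over a finite field F with q elements, q even, every irreducible complex character of SL₂ has degree 1, q − 1, q or q + 1; and when q ≥ 4 (so that these four numbers are distinct) there are exactly one irreducible character of degree 1, one of degree q, (q − 2)/2 of degree q + 1 and q/2 of degree q − 1. -/
theorem result {F : Type*} [Field F] [Fintype F] [CharP F 2] :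
    (∀ χ : Matrix.SpecialLinearGroup (Fin 2) F → ℂ, Cfsg.IsIrrCharacter (Matrix.SpecialLinearGroup (Fin 2) F) χ →
      χ 1 = 1 ∨ χ 1 = (Fintype.card F : ℂ) - 1 ∨ χ 1 = (Fintype.card F : ℂ) ∨ χ 1 = (Fintype.card F : ℂ) + 1) ∧
    (4 ≤ Fintype.card F →
      Nat.card {χ : Cfsg.IrrCharacter (Matrix.SpecialLinearGroup (Fin 2) F) // (χ : Matrix.SpecialLinearGroup (Fin 2) F → ℂ) 1 = 1} = 1 ∧
      Nat.card {χ : Cfsg.IrrCharacter (Matrix.SpecialLinearGroup (Fin 2) F) // (χ : Matrix.SpecialLinearGroup (Fin 2) F → ℂ) 1 = (Fintype.card F : ℂ)} = 1 ∧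
      Nat.card {χ : Cfsg.IrrCharacter (Matrix.SpecialLinearGroup (Fin 2) F) // (χ : Matrix.SpecialLinearGroup (Fin 2) F → ℂ) 1 = (Fintype.card F : ℂ) + 1} = (Fintype.card F - 2) / 2 ∧
      Nat.card {χ : Cfsg.IrrCharacter (Matrix.SpecialLinearGroup (Fin 2) F) // (χ : Matrix.SpecialLinearGroup (Fin 2) F → ℂ) 1 = (Fintype.card F : ℂ) - 1} = Fintype.card F / 2) := by
  classical
  open CfsgLib.Char.TwoChars in
  have hodd : ¬ Odd (Fintype.card F) := fun h => CfsgLib.Char.TwoClasses.ringChar_ne_two_of_odd h (ringChar.eq F 2)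
  have hq2 : 2 ≤ Fintype.card F := Fintype.one_lt_card
  obtain ⟨cP, cH, cD2, cD1⟩ := sl_counts (F := F)
  rw [if_neg hodd] at cP cH cD2 cD1
  refine ⟨fun χ hχ => ?_, fun hq => ?_⟩
  · rcases sl_deg_cases (⟨χ, hχ⟩ : Cfsg.IrrCharacter _) with ⟨-, e⟩ | ⟨-, e⟩ | ⟨_, -, -, e⟩ | ⟨h, -⟩ | ⟨-, e⟩ | ⟨h, -⟩
    · exact Or.inl e
    · exact Or.inr (Or.inr (Or.inl e))
    · exact Or.inr (Or.inr (Or.inr e))
    · haveI := (Nat.card_eq_zero.1 cH).resolve_right (not_infinite_iff_finite.2 inferInstance)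
      exact isEmptyElim (⟨_, h⟩ : {χ : Cfsg.IrrCharacter (Matrix.SpecialLinearGroup (Fin 2) F) // IsHalfPS χ})
    · exact Or.inr (Or.inl e)
    · haveI := (Nat.card_eq_zero.1 cD2).resolve_right (not_infinite_iff_finite.2 inferInstance)
      exact isEmptyElim (⟨_, h⟩ : {χ : Cfsg.IrrCharacter (Matrix.SpecialLinearGroup (Fin 2) F) // IsCuspHalf χ})
  · refine ⟨?_, ?_, ?_, ?_⟩
    · refine Nat.card_eq_one_iff_unique.2 ⟨⟨fun a b => Subtype.ext (Subtype.ext ?_)⟩, ⟨⟨⟨_, CfsgLib.Char.isIrrCharacter_one⟩, rfl⟩⟩⟩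
      rw [sl_deg_one (by omega) a.1 a.2, sl_deg_one (by omega) b.1 b.2]
    · refine Nat.card_eq_one_iff_unique.2 ⟨⟨fun a b => Subtype.ext (Subtype.ext ?_)⟩, ⟨⟨⟨_, isIrr_stSL⟩, stSL_one⟩⟩⟩
      rw [sl_deg_q a.1 a.2, sl_deg_q b.1 b.2]
    · have e : Nat.card {χ : Cfsg.IrrCharacter (Matrix.SpecialLinearGroup (Fin 2) F) //
          (χ : Matrix.SpecialLinearGroup (Fin 2) F → ℂ) 1 = (Fintype.card F : ℂ) + 1} = _ :=
        Nat.card_congr (Equiv.subtypeEquivRight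
        (q := fun χ : Cfsg.IrrCharacter (Matrix.SpecialLinearGroup (Fin 2) F) =>
          ∃ α, α ^ 2 ≠ 1 ∧ (χ : Matrix.SpecialLinearGroup (Fin 2) F → ℂ) = psSL α) fun χ => ⟨sl_deg_q_add χ, ?_⟩)
      · omega
      · rintro ⟨α, -, e⟩; rw [e, psSL_one]
    · have e : Nat.card {χ : Cfsg.IrrCharacter (Matrix.SpecialLinearGroup (Fin 2) F) //
          (χ : Matrix.SpecialLinearGroup (Fin 2) F → ℂ) 1 = (Fintype.card F : ℂ) - 1} = _ :=
        Nat.card_congr (Equiv.subtypeEquivRight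
        (q := fun χ : Cfsg.IrrCharacter (Matrix.SpecialLinearGroup (Fin 2) F) =>
          IsCuspSL (χ : Matrix.SpecialLinearGroup (Fin 2) F → ℂ) ∧
            (χ : Matrix.SpecialLinearGroup (Fin 2) F → ℂ) 1 = (Fintype.card F : ℂ) - 1)
        fun χ => ⟨fun h => ⟨sl_deg_q_sub (by omega) χ h, h⟩, fun h => h.2⟩)
      omega

end Cfsg.Agent.S2300
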