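import Cfsg.Statements.S2323

import Cfsg.Agent.Lib.Char.SLTwoValues

set_option autoImplicit false
open Cfsg

namespace Cfsg.Agent.S2323

/-- Over a finite field F with q ≥ 4 elements, let u be the upper unitriangular matrix of SL₂ with off-diagonal entry 1. An irreducible complex character of SL₂ takes at u the value 1 if its degree is q + 1 and the value −1 if its degree is q − 1. -/
theorem result {F : Type*} [Field F] [Fintype F] (hq : 4 ≤ Fintype.card F) (χ : Matrix.SpecialLinearGroup (Fin 2) F → ℂ) (hχ : Cfsg.IsIrrCharacter (Matrix.SpecialLinearGroup (Fin 2) F) χ)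
    (u : Matrix.SpecialLinearGroup (Fin 2) F) (hu : (u : Matrix (Fin 2) (Fin 2) F) = !![1, 1; 0, 1]) :
    (χ 1 = (Fintype.card F : ℂ) + 1 → χ u = 1) ∧ (χ 1 = (Fintype.card F : ℂ) - 1 → χ u = -1) := by
  classical
  open CfsgLib.Char.TwoChars in
  have he : u = elS (1 : Fˣ) (1 : F) := Subtype.ext (by rw [hu, elS_val]; simp)
  obtain ⟨ν, hν⟩ := exists_repUnip (F := F)
  refine ⟨fun h => ?_, fun h => ?_⟩
  · obtain ⟨α, -, e⟩ := sl_deg_q_add ⟨χ, hχ⟩ h
    change χ = _ at e
    rw [e, he]
    exact psSL_unip_val α one_ne_zero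
  · rcases cusp_dichotomy ⟨χ, hχ⟩ (sl_deg_q_sub hq ⟨χ, hχ⟩ h) hν with ⟨-, h'⟩ | ⟨h', -, -⟩
    · rw [he]
      exact h' 1 one_ne_zero
    · exfalso
      change 2 * χ 1 = _ at h'
      rw [h] at h'
      have h'' : (Fintype.card F : ℂ) = ((1 : ℕ) : ℂ) := by push_cast; linear_combination h'
      have : Fintype.card F = 1 := by exact_mod_cast h''
      omega

end Cfsg.Agent.S2323
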