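import Cfsg.Statements.S0319
import Cfsg.Agent.Lib.Lie.BN

set_option autoImplicit false
open Cfsg

namespace Cfsg.Agent.S0319

/-- Simplicity criterion for groups with a (B,N)-pair: if the distinguished generators admit no
splitting into two non-empty mutually commuting parts, `B` is solvable, `G` is perfect and the intersection
of all conjugates of `B` is trivial, then `G` is simple. -/
theorem result {G : Type*} [Group G] [Nontrivial G]
    (P : Cfsg.BNPair G) (hirr : P.Irreducible) (hsolv : Group.IsSolvable P.B) (hperf : commutator G = ⊤)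
    (hcore : P.B.normalCore = ⊥) : IsSimpleGroup G := by
  have key : ∀ M : Subgroup G, M.Normal → M ≠ ⊥ → M = ⊤ := by
    intro M hM hMbot
    have hJ := CfsgLib.Lie.BN.eq_parabolic_of_le P (M ⊔ P.B) le_sup_right
    set J := P.S ∩ ((M ⊔ P.B : Subgroup G) : Set G) with hJdef
    have hJS : J ⊆ P.S := Set.inter_subset_left
    have hMJ : M ≤ P.parabolic J := le_sup_left.trans hJ.le
    have hJne : J.Nonempty := by
      rw [Set.nonempty_iff_ne_empty]
      intro he
      rw [he, Cfsg.BNPair.parabolic, Subgroup.closure_empty, sup_bot_eq] at hMJ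
      exact hMbot (eq_bot_iff.2 (hcore ▸ Subgroup.normal_le_normalCore.2 hMJ))
    have hJall : J = P.S := by
      by_contra hne
      obtain ⟨s, hs, r, hr, hsr⟩ := hirr J hJS hJne
        (Set.sdiff_nonempty.2 fun h => hne (hJS.antisymm h))
      apply hsr
      have hsS := hJS hs
      have hrJ : r ∉ J := hr.2
      have hrS := hr.1
      have hNs := P.subset hsS
      have hNr := P.subset hrS
      obtain ⟨m, hm, b, hb, hmb⟩ := Subgroup.mem_sup_of_normal_left.1 hs.2
      have hconj : r * (s * b⁻¹) * r⁻¹ ∈ P.parabolic J := by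
        apply hMJ
        have : s * b⁻¹ = m := by rw [← hmb]; group
        rw [this]
        exact hM.conj_mem m hm r
      have lr := CfsgLib.Lie.BN.len_simple P hrS
      have ls := CfsgLib.Lie.BN.len_simple P hsS
      have hsrN : s * r ∈ P.N := mul_mem hNs hNr
      have hlsr : CfsgLib.Lie.BN.len P (s * r) = 2 := by
        rcases CfsgLib.Lie.BN.len_mul_cases P hsS hNr with h | h
        · omega
        · exfalso
          have h0 : s * r ∈ P.B := (CfsgLib.Lie.BN.len_eq_zero P hsrN).1 (by omega)
          have h1 : s⁻¹ * r ∈ P.B := by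
            have : (s * s)⁻¹ * (s * r) ∈ P.B := mul_mem (inv_mem (P.sq_mem s hsS)) h0
            simpa [mul_assoc] using this
          exact hrJ (P.inj s hsS r hrS h1 ▸ hs)
      rcases CfsgLib.Lie.BN.len_mul_cases P hrS hsrN with h | h
      · exfalso
        have h2 := CfsgLib.Lie.BN.left_mem_cell P hsS hNr (by omega) (inv_mem hb)
        obtain ⟨b1, hb1, c1, hc1, he⟩ := (CfsgLib.Lie.BN.mem_cell P).1 h2
        have h3 := CfsgLib.Lie.BN.left_mem_cell P hrS hsrN (by omega) hb1
        have hBJ := CfsgLib.Lie.BN.B_le_parabolic P J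
        have h4 : r * (s * r) ∈ P.parabolic J := by
          have h5 : r * b1 * (s * r) ∈ P.parabolic J := by
            have e : r * b1 * (s * r) = r * (s * b⁻¹) * r⁻¹ * ((r * r) * c1⁻¹) := by
              calc r * b1 * (s * r) = r * (b1 * (s * r) * c1) * c1⁻¹ := by group
                _ = r * (s * b⁻¹ * r) * c1⁻¹ := by rw [he]
                _ = _ := by group
            rw [e]
            exact mul_mem hconj (hBJ (mul_mem (P.sq_mem r hrS) (inv_mem hc1)))
          obtain ⟨x, hx, y, hy, e⟩ := (CfsgLib.Lie.BN.mem_cell P).1 h3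
          have e' : r * (s * r) = x⁻¹ * (r * b1 * (s * r)) * y⁻¹ := by rw [e]; group
          rw [e']
          exact mul_mem (mul_mem (inv_mem (hBJ hx)) h5) (inv_mem (hBJ hy))
        have h6 := CfsgLib.Lie.BN.letters_mem_of_reduced P [r, s, r]
          (by simp [CfsgLib.Lie.BN.IsWord, hrS, hsS]) (by simp; omega) (P.parabolic J) hBJ
          (fun c hc => by
            simp only [List.prod_cons, List.prod_nil, mul_one]
            exact mul_mem (mul_mem h4 (hBJ hc)) (inv_mem h4)) r (by simp)
        exact hrJ (CfsgLib.Lie.BN.mem_of_parabolic P hJS hrS h6)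
      · obtain ⟨i, hi, he⟩ := CfsgLib.Lie.BN.exchange P hrS (l := [s, r])
          (by simp [CfsgLib.Lie.BN.IsWord, hrS, hsS]) (by simp; omega) (by simp; omega)
        match i, hi with
        | 0, _ =>
          exfalso
          simp [CfsgLib.Lie.BN.Eqv] at he
          have : s * r ∈ P.B := by simpa [mul_assoc] using P.B.inv_mem he
          have := (CfsgLib.Lie.BN.len_eq_zero P hsrN).2 this
          omega
        | 1, _ =>
          simp [CfsgLib.Lie.BN.Eqv] at he
          have hxN : r⁻¹ * s⁻¹ * r⁻¹ * s ∈ P.N :=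
            mul_mem (mul_mem (mul_mem (inv_mem hNr) (inv_mem hNs)) (inv_mem hNr)) hNs
          have h1 : r * s * r * s⁻¹ ∈ P.B := by
            have := CfsgLib.Lie.BN.T_conj' P hNs (t := (r⁻¹ * s⁻¹ * r⁻¹ * s)⁻¹)
              (Subgroup.mem_inf.2 ⟨inv_mem (by simpa [mul_assoc] using he), inv_mem hxN⟩)
            simpa [mul_assoc] using this
          have hN1 : r * s * r * s⁻¹ ∈ P.N :=
            mul_mem (mul_mem (mul_mem hNr hNs) hNr) (inv_mem hNs)
          have h2 := CfsgLib.Lie.BN.T_conj P hNr ⟨h1, hN1⟩
          have h3 := mul_mem h2 (inv_mem (P.sq_mem r hrS))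
          simpa [mul_assoc] using h3
    have htop : M ⊔ P.B = ⊤ := by
      rw [hJ, hJall]
      have h1 := CfsgLib.Lie.BN.eq_parabolic_of_le P ⊤ le_top
      simpa using h1.symm
    have hsurj : Function.Surjective ((QuotientGroup.mk' M).comp P.B.subtype) := by
      intro x
      obtain ⟨g, rfl⟩ := QuotientGroup.mk'_surjective M x
      have hg : g ∈ M ⊔ P.B := htop ▸ Subgroup.mem_top g
      obtain ⟨m, hm, b, hb, rfl⟩ := Subgroup.mem_sup_of_normal_left.1 hg
      refine ⟨⟨b, hb⟩, QuotientGroup.eq.2 ?_⟩
      simpa [mul_assoc] using hM.conj_mem m hm b⁻¹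
    have hsolvQ : Group.IsSolvable (G ⧸ M) := @Group.isSolvable_of_surjective _ _ _ _ _ hsurj hsolv
    by_contra hne
    have : Nontrivial (G ⧸ M) := by
      by_contra hnt
      apply hne
      rw [eq_top_iff]
      intro g _
      rw [not_nontrivial_iff_subsingleton] at hnt
      exact (QuotientGroup.eq_one_iff g).1 (Subsingleton.elim _ _)
    have h1 := Group.IsSolvable.commutator_lt_top_of_nontrivial (G := G ⧸ M)
    have h2 : (commutator G).map (QuotientGroup.mk' M) ≤ commutator (G ⧸ M) := by
      rw [commutator_def, Subgroup.map_commutator, commutator_def]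
      exact Subgroup.commutator_mono le_top le_top
    rw [hperf, Subgroup.map_top_of_surjective _ (QuotientGroup.mk'_surjective M)] at h2
    exact h1.ne (top_le_iff.1 h2)
  refine { eq_bot_or_eq_top_of_normal := fun H hH => ?_ }
  by_cases h : H = ⊥
  · exact Or.inl h
  · exact Or.inr (key H hH h)

end Cfsg.Agent.S0319
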