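import Cfsg.Statements.S0914
import Cfsg.Agent.Lib.Block.Orthogonality
import Cfsg.Agent.Lib.Char.Integrality

set_option autoImplicit false
open Cfsg CfsgLib.Block
open scoped ComplexConjugate

namespace Cfsg.Agent.S0914

/-- Let χ be an irreducible character of the finite group G, p a prime and M a maximal ideal of the algebraic integers containing p. Then p does not divide the integer (Nat.card G) / χ(1) if and only if the block of χ relative to M consists of χ alone. -/
theorem result {G : Type*} [Group G] [Finite G] (p : ℕ) [Fact p.Prime] (M : Ideal Cfsg.AlgInt) (hM : Cfsg.IsPModular p M) (χ : Cfsg.IrrCharacter G) : ¬ p ∣ Nat.card G / Cfsg.charDegree (χ : G → ℂ) ↔ Cfsg.blockOf M (χ : G → ℂ) = {χ} := by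
  classical
  have := hM.2.1
  letI := Fintype.ofFinite G
  obtain ⟨d, hd0, hd⟩ := CfsgLib.Char.isIrrCharacter_degree χ.2
  have hdeg : charDegree (χ : G → ℂ) = d := by simp [charDegree, hd]
  obtain ⟨q, hq⟩ := CfsgLib.Char.degree_dvd_card χ hd
  rw [hdeg, show Nat.card G / d = q by rw [hq, Nat.mul_div_cancel_left _ hd0]]
  have hG : (Nat.card G : ℂ) ≠ 0 := Nat.cast_ne_zero.mpr Nat.card_pos.ne'
  constructor
  · intro hpq
    refine Set.Subset.antisymm (fun ψ hψ => ?_) (fun ψ hψ => by
      rw [Set.mem_singleton_iff.mp hψ]; exact self_mem_blockOf χ)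
    refine isBlockUnion_of_blockCoeff_mem (M := M) (S := {χ}) (fun g => ?_) χ rfl ψ hψ
    have hval : blockCoeff {χ} g = (q : ℂ)⁻¹ * conj ((χ : G → ℂ) g) := by
      rw [blockCoeff, finsum_mem_singleton, hd, hq]
      push_cast
      have : (d : ℂ) ≠ 0 := by exact_mod_cast hd0.ne'
      field_simp
    rw [hval, ← CfsgLib.Char.irr_inv]
    exact Subring.mul_mem _ (inv_natCast_mem hM hpq) (integral_mem M
      (CfsgLib.Char.isCharacter_isIntegral (CfsgLib.Char.isCharacter_irr χ) _))
  · intro hB hpq
    have hvan : ∀ y : G, p ∣ orderOf y → (χ : G → ℂ) y = 0 := by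
      intro y hy
      have h := blockUnion_orthogonal_regular_singular hM
        (IsBlockUnion.of_isPBlock (isPBlock_blockOf (M := M) χ)) (g := 1)
        (by simp [hM.1.ne_one]) hy
      rw [hB, finsum_mem_singleton, mul_eq_zero, map_eq_zero] at h
      exact h.resolve_left (CfsgLib.Char.irr_one_ne_zero χ)
    obtain ⟨P⟩ : Nonempty (Sylow p G) := inferInstance
    letI := Fintype.ofFinite (P : Subgroup G)
    obtain ⟨m, hm⟩ := CfsgLib.Char.classInner_isCharacter
      (CfsgLib.Char.isCharacter_comp (CfsgLib.Char.isCharacter_irr χ) (P : Subgroup G).subtype)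
      (CfsgLib.Char.isCharacter_of_isIrr CfsgLib.Char.isIrrCharacter_one)
    have hcard := P.card_eq_multiplicity
    have hval : (d : ℂ) = (Nat.card (P : Subgroup G) : ℂ) * m := by
      rw [← hm, classInner, ← mul_assoc,
        mul_inv_cancel₀ (Nat.cast_ne_zero.mpr Nat.card_pos.ne'), one_mul,
        Finset.sum_eq_single 1]
      · simp [hd]
      · intro u _ hu
        have : p ∣ orderOf (u : G) := by
          obtain ⟨k, hk⟩ := (IsPGroup.iff_orderOf.mp P.2) u
          rw [Subgroup.orderOf_coe, hk]
          rcases Nat.eq_zero_or_pos k with rfl | hk0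
          · rw [pow_zero, orderOf_eq_one_iff] at hk
            exact absurd hk hu
          · exact dvd_pow_self p hk0.ne'
        simp [hvan _ this]
      · simp
    have hdvd : p ^ ((Nat.card G).factorization p + 1) ∣ Nat.card G := by
      have h1 : d = p ^ (Nat.card G).factorization p * m := by
        rw [← hcard]; exact_mod_cast hval
      conv_rhs => rw [hq, h1]
      rw [pow_succ, mul_assoc]
      exact mul_dvd_mul_left _ (dvd_mul_of_dvd_right hpq m)
    have := (hM.1.pow_dvd_iff_le_factorization Nat.card_pos.ne').mp hdvd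
    omega

end Cfsg.Agent.S0914
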