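import Cfsg.Statements.S4639
import Cfsg.Agent.Lib.Block.FreeInertial.Count
import Cfsg.Agent.Lib.Block.CyclicDefect.Bridge

set_option autoImplicit false
open Cfsg

namespace Cfsg.Agent.S4639

/-- Let B be a block of the finite group G relative to a maximal ideal M of the algebraic integers containing the prime p, with a nontrivial commutative defect group P. Let c be a block of C_G(P) inducing B, T the stabilizer of c in N_G(P) and e the index of C_G(P) in T. Suppose that T/C_G(P) is commutative (all commutators of elements of T lie in C_G(P)) and acts freely on the non-identity elements of P (an element of T fixing a non-identity element of P under conjugation lies in C_G(P)). Then B has at most e + (#P − 1)/e irreducible characters and p-regular rank at most e; equality holds in the first bound exactly when it holds in the second; and both equalities hold when e ≤ 3. -/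
theorem result {G : Type*} [Group G] [Finite G] (p : ℕ) [Fact p.Prime] (M : Ideal Cfsg.AlgInt) (hM : Cfsg.IsPModular p M) (B : Set (Cfsg.IrrCharacter G)) (hB : Cfsg.IsPBlock M B) (P : Subgroup G) (hPD : Cfsg.IsDefectGroup p M B P) (hP1 : P ≠ ⊥) (hPab : ∀ x ∈ P, ∀ y ∈ P, x * y = y * x) (c : Set (Cfsg.IrrCharacter (Subgroup.centralizer (P : Set G)))) (hc : Cfsg.IsInducedBlock M (Subgroup.centralizer (P : Set G)) c B) (T : Subgroup G) (hT : ∀ g : G, g ∈ T ↔ (g ∈ Subgroup.normalizer (P : Set G) ∧ Cfsg.StabilizesBlock (Subgroup.centralizer (P : Set G)) c g)) (e : ℕ) (he : (Subgroup.centralizer (P : Set G)).relIndex T = e) (hEab : ∀ g ∈ T, ∀ h ∈ T, g * h * g⁻¹ * h⁻¹ ∈ Subgroup.centralizer (P : Set G)) (hfree : ∀ g ∈ T, ∀ x ∈ P, x ≠ 1 → g * x * g⁻¹ = x → g ∈ Subgroup.centralizer (P : Set G)) : Nat.card B ≤ e + (Nat.card P - 1) / e ∧ Cfsg.blockRank p B ≤ e ∧ (Nat.card B = e + (Nat.card P - 1) / e ↔ Cfsg.blockRank p B = e) ∧ (e ≤ 3 → Nat.card B = e + (Nat.card P - 1) / e ∧ Cfsg.blockRank p B = e) := by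
  classical
  have : M.IsMaximal := hM.2.1
  have := Fintype.ofFinite G
  have := Fintype.ofFinite (IrrCharacter G)
  have hPp : IsPGroup p P := CfsgLib.Block.isPGroup_defectGroup hM hB hPD
  have hPC : P ≤ Subgroup.centralizer (P : Set G) := fun x hx =>
    Subgroup.mem_centralizer_iff.mpr fun y hy => hPab y hy x hx
  have hof := (CfsgLib.Block.isBrauerPairOf_iff_induced hM hB hPp hPC).mpr hc
  have hmax := CfsgLib.Block.isMaximal_of_defect hM hPD hof
  obtain ⟨χ₀, hχ₀, h0⟩ := CfsgLib.Block.exists_height_zero hM hB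
  obtain ⟨i, hi, -⟩ := CfsgLib.Block.exists_sourceIdem hM hmax hχ₀ h0
  let F : CfsgLib.Block.FreeInertial.FreeFrame p M G :=
    { hM := hM, B := B, P := P, e := c, hmax := hmax, hab := hPab
      hfree := fun g hgN hgS x hx hx1 hgx => hfree g ((hT g).mpr ⟨hgN, hgS⟩) x hx hx1
        (by rw [hgx.eq, mul_inv_cancel_right])
      χ₀ := χ₀, hχ₀ := hχ₀, i := i, hsrc := hi }
  obtain ⟨-, hk, hl, hsmall⟩ := F.counts T hT hP1
  change Nat.card B = blockRank p B + (Nat.card P - 1) / _ at hk
  change blockRank p B ≤ _ at hl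
  change _ → blockRank p B = _ ∨ IsCyclic P at hsmall
  rw [show CfsgLib.Block.FreeInertial.FreeFrame.P F = P from rfl] at hl hsmall
  rw [he] at hk hl hsmall
  refine ⟨by omega, hl, ⟨fun h => by omega, fun h => by omega⟩, fun he3 => ?_⟩
  have hrank : blockRank p B = e := by
    rcases hsmall he3 with h | h
    · exact h
    · obtain ⟨F', _, S, hFB, -, hFe⟩ :=
        CfsgLib.Block.CyclicDefect.exists_shape_of_data hM hB hPD hP1 h hc hT
      rw [← hFB, S.rank, hFe, he]
  exact ⟨by omega, hrank⟩

end Cfsg.Agent.S4639
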