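import Cfsg.Statements.S0968
import Cfsg.Agent.Lib.Block.CentralizedDefect

/-!
# S0968: blocks with defect group P in P C(P)
-/

set_option autoImplicit false
open Cfsg

namespace Cfsg.Agent.S0968

open CfsgLib CfsgLib.Block

/-- Let P be a p-subgroup of the finite group G with P ⊔ C_G(P) = G, and let B be a block with defect group P relative to a maximal ideal M of the algebraic integers containing p. Then there is exactly one θ ∈ B with θ x = θ 1 for all x ∈ P; for this θ the exponent of p in θ(1) equals the exponent of p in the index of P; and the number of members of B equals the number of conjugacy classes of P. -/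
theorem result {G : Type*} [Group G] [Finite G] (p : ℕ) [Fact p.Prime] (M : Ideal Cfsg.AlgInt) (hM : Cfsg.IsPModular p M) (P : Subgroup G) (hP : IsPGroup p P) (hG : P ⊔ Subgroup.centralizer (P : Set G) = ⊤) (B : Set (Cfsg.IrrCharacter G)) (hB : Cfsg.IsPBlock M B) (hD : Cfsg.IsDefectGroup p M B P) : (∃! θ : Cfsg.IrrCharacter G, θ ∈ B ∧ ∀ x ∈ P, (θ : G → ℂ) x = (θ : G → ℂ) 1) ∧ (∀ θ ∈ B, (∀ x ∈ P, (θ : G → ℂ) x = (θ : G → ℂ) 1) → (Cfsg.charDegree (θ : G → ℂ)).factorization p = P.index.factorization p) ∧ Nat.card B = Nat.card (ConjClasses P) := by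
  classical
  have := hM.2.1
  letI := Fintype.ofFinite G
  letI := Fintype.ofFinite P
  letI := Fintype.ofFinite (IrrCharacter G)
  letI := Fintype.ofFinite (IrrCharacter P)
  haveI hPn := CentralizedDefect.normal_of_sup_centralizer hG
  have htriv : ∀ θ : IrrCharacter G,
      classInner (fun y : P => (θ : G → ℂ) y) ((oneChar P : IrrCharacter P) : P → ℂ) ≠ 0 →
      ∀ y ∈ P, (θ : G → ℂ) y = (θ : G → ℂ) 1 := by
    intro θ h y hy
    have hc : ∀ z : G, ∀ u : P, ∃ a ∈ P, z⁻¹ * (u : G) * z = a⁻¹ * (u : G) * a := fun z u => by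
      obtain ⟨a, ha, b, hb, rfl⟩ := CentralizedDefect.exists_decomp hG z
      refine ⟨a, ha, ?_⟩
      rw [show (a * b)⁻¹ * (u : G) * (a * b) = b⁻¹ * (a⁻¹ * u * a) * b by group, mul_assoc,
        Subgroup.mem_centralizer_iff.mp hb _ (P.mul_mem (P.mul_mem (P.inv_mem ha) u.2) ha),
        inv_mul_cancel_left]
    have e := Agent.S4521.res_ratio P hc θ (oneChar P) h ⟨y, hy⟩
    simpa [oneChar] using e
  obtain ⟨χ, hχ, hχc⟩ := CentralizedDefect.exists_member_over hM hP hB (oneChar P)
  have hχP := htriv χ hχc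
  have huniq : ∀ θ ∈ B, (∀ y ∈ P, (θ : G → ℂ) y = (θ : G → ℂ) 1) → θ = χ := by
    intro θ hθ hθP
    have hc : classInner (fun y : P => (θ : G → ℂ) y) ((oneChar P : IrrCharacter P) : P → ℂ) ≠ 0 := by
      rw [classInner, Finset.sum_congr rfl (g := fun _ => (θ : G → ℂ) 1) fun y _ => by
        simp [oneChar, hθP y y.2]]
      simp [Nat.card_eq_fintype_card, Char.irr_one_ne_zero θ]
    obtain ⟨h1, h2⟩ := CentralizedDefect.member_value hM hP hG hB hD hχ hχP hθ hc
    obtain ⟨h1', h2'⟩ := CentralizedDefect.member_value hM hP hG hB hD hχ hχP hχ hχc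
    refine Subtype.ext (funext fun g => ?_)
    by_cases hg : ∃ y ∈ P, IsPPart p g y
    · obtain ⟨y, hy, x, hxy, -, -, hx⟩ := hg
      subst hxy
      rw [h1 ⟨y, hy⟩ x hx, h1' ⟨y, hy⟩ x hx]
    · have hg' : ∀ y : G, IsPPart p g y → y ∉ P := fun y hy hyD => hg ⟨y, hyD, hy⟩
      rw [h2 g hg', h2' g hg']
  refine ⟨⟨χ, ⟨hχ, hχP⟩, fun θ h => huniq θ h.1 h.2⟩, fun θ hθ hθP => ?_, ?_⟩
  · have h1 := degVal_add_le hM.1 (N := P) θ hθP
    have h2 := minDeg_le (p := p) hθ
    have hd := defectGroup_card hM hB hD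
    have hvD : (Nat.card P).factorization p = blockDefect p B := by
      rw [hd, (Fact.out : p.Prime).factorization_pow, Finsupp.single_eq_same]
    have h3 : blockDefect p B = (Nat.card G).factorization p - minDeg p B := rfl
    have hidx : (Nat.card G).factorization p =
        (Nat.card P).factorization p + P.index.factorization p := by
      rw [← Subgroup.card_mul_index P, Nat.factorization_mul Nat.card_pos.ne'
        Subgroup.FiniteIndex.index_ne_zero]
      rfl
    show degVal p θ = _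
    omega
  · choose f hf hfc using fun ζ : IrrCharacter P =>
      CentralizedDefect.exists_member_over hM hP hB ζ
    have hval : ∀ ζ (y : P), (f ζ : G → ℂ) y = (ζ : P → ℂ) y * (χ : G → ℂ) 1 := fun ζ y => by
      have e := (CentralizedDefect.member_value hM hP hG hB hD hχ hχP (hf ζ) (hfc ζ)).1 y 1
        (by simp [hM.1.ne_one])
      rwa [mul_one] at e
    rw [← Char.card_irr_eq_card_conjClasses]
    refine (Nat.card_congr (Equiv.ofBijective (fun ζ => (⟨f ζ, hf ζ⟩ : B)) ⟨?_, ?_⟩)).symm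
    · intro ζ ζ' h
      refine Subtype.ext (funext fun y => mul_right_cancel₀ (Char.irr_one_ne_zero χ) ?_)
      rw [← hval, ← hval]
      exact congrArg (fun η : B => ((η : IrrCharacter G) : G → ℂ) y) h
    · rintro ⟨θ, hθ⟩
      obtain ⟨ζ, hζ⟩ := CentralizedDefect.exists_constituent (D := P) θ
      refine ⟨ζ, Subtype.ext (Subtype.ext (funext fun g => ?_))⟩
      obtain ⟨h1, h2⟩ := CentralizedDefect.member_value hM hP hG hB hD hχ hχP hθ hζ
      obtain ⟨h1', h2'⟩ :=
        CentralizedDefect.member_value hM hP hG hB hD hχ hχP (hf ζ) (hfc ζ)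
      by_cases hg : ∃ y ∈ P, IsPPart p g y
      · obtain ⟨y, hy, x, hxy, -, -, hx⟩ := hg
        subst hxy
        rw [h1 ⟨y, hy⟩ x hx, h1' ⟨y, hy⟩ x hx]
      · have hg' : ∀ y : G, IsPPart p g y → y ∉ P := fun y hy hyD => hg ⟨y, hyD, hy⟩
        rw [h2 g hg', h2' g hg']

end Cfsg.Agent.S0968
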