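import Cfsg.Statements.S4923
import Cfsg.Agent.Lib.Char.Galois
import Cfsg.Agent.Lib.Invol.Taussky
import Cfsg.Agent.Lib.PGroup.MaxClassSeries

set_option autoImplicit false
open Cfsg

namespace Cfsg.Agent.S4923

section
open CfsgLib.Char Subgroup
open scoped commutatorElement

/-- An algebraic number fixed by all embeddings fixing `S` lies in the field generated by `S`. -/
theorem mem_adjoin_of_fixed (S : Set ℂ) (hS : ∀ x ∈ S, x ∈ Alg) (x : ℂ) (hx : x ∈ Alg)
    (h : ∀ φ : Alg →ₐ[ℚ] ℂ, (∀ y : Alg, (y : ℂ) ∈ S → φ y = y) → φ ⟨x, hx⟩ = x) :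
    x ∈ IntermediateField.adjoin ℚ S := by
  classical
  set K := IntermediateField.adjoin ℚ S with hK
  have hxi : IsIntegral ℚ x := mem_algebraicClosure_iff'.1 hx
  have hxK : IsIntegral K x := hxi.tower_top
  let L := algebraicClosure K ℂ
  have hL : Algebra.IsAlgebraic K L := algebraicClosure.isAlgebraic K ℂ
  let xL : L := ⟨x, mem_algebraicClosure_iff'.2 hxK⟩
  let inc : Alg →ₐ[ℚ] L :=
    { toFun := fun y => ⟨(y : ℂ), mem_algebraicClosure_iff'.2
        ((mem_algebraicClosure_iff'.1 y.2).tower_top)⟩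
      map_one' := rfl
      map_mul' := fun _ _ => rfl
      map_zero' := rfl
      map_add' := fun _ _ => rfl
      commutes' := fun _ => rfl }
  have hmin : ∀ z ∈ (minpoly K xL).rootSet ℂ, z = x := by
    intro z hz
    rw [← Algebra.IsAlgebraic.range_eval_eq_rootSet_minpoly (A := ℂ) xL] at hz
    obtain ⟨ψ, rfl⟩ := hz
    refine h ((ψ.restrictScalars ℚ).comp inc) fun y hy => ?_
    exact ψ.commutes (⟨(y : ℂ), IntermediateField.subset_adjoin ℚ S hy⟩ : K)
  have hint : IsIntegral K xL := Algebra.IsIntegral.isIntegral xL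
  have hsep : (minpoly K xL).Separable := (minpoly.irreducible hint).separable
  have hcard : (minpoly K xL).natDegree ≤ 1 := by
    rw [← Polynomial.card_rootSet_eq_natDegree (K := ℂ) hsep (IsAlgClosed.splits _),
      ← Nat.card_eq_fintype_card]
    exact (Nat.card_mono (Set.finite_singleton x) hmin).trans (by simp)
  obtain ⟨c, hc⟩ := minpoly.natDegree_eq_one_iff.mp (le_antisymm hcard (minpoly.natDegree_pos hint))
  have : (c : ℂ) = x := congrArg Subtype.val hc
  rw [← this]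
  exact c.2

theorem fixed_of_mem_adjoin (S : Set ℂ) (hS : ∀ x ∈ S, x ∈ Alg) (φ : Alg →ₐ[ℚ] ℂ)
    (hφ : ∀ y : Alg, (y : ℂ) ∈ S → φ y = y) {x : ℂ} (hx : x ∈ IntermediateField.adjoin ℚ S) :
    ∃ h : x ∈ Alg, φ ⟨x, h⟩ = x := by
  induction hx using IntermediateField.adjoin_induction with
  | mem y hy => exact ⟨hS y hy, hφ ⟨y, hS y hy⟩ hy⟩
  | algebraMap y => exact ⟨IntermediateField.algebraMap_mem _ y, φ.commutes y⟩
  | add x y _ _ hx hy =>
    exact ⟨add_mem hx.1 hy.1, (map_add φ ⟨x, hx.1⟩ ⟨y, hy.1⟩).trans (by rw [hx.2, hy.2])⟩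
  | inv x _ hx => exact ⟨inv_mem hx.1, (map_inv₀ φ ⟨x, hx.1⟩).trans (by rw [hx.2])⟩
  | mul x y _ _ hx hy =>
    exact ⟨mul_mem hx.1 hy.1, (map_mul φ ⟨x, hx.1⟩ ⟨y, hy.1⟩).trans (by rw [hx.2, hy.2])⟩

theorem adjoin_eq_iff (S T : Set ℂ) (hS : ∀ x ∈ S, x ∈ Alg) (hT : ∀ x ∈ T, x ∈ Alg) :
    IntermediateField.adjoin ℚ S = IntermediateField.adjoin ℚ T ↔
      ∀ φ : Alg →ₐ[ℚ] ℂ, (∀ y : Alg, (y : ℂ) ∈ S → φ y = y) ↔ (∀ y : Alg, (y : ℂ) ∈ T → φ y = y) := by
  constructor
  · intro h φ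
    constructor
    · intro hφ y hy
      obtain ⟨_, e⟩ := fixed_of_mem_adjoin S hS φ hφ (h ▸ IntermediateField.subset_adjoin ℚ T hy)
      exact e
    · intro hφ y hy
      obtain ⟨_, e⟩ := fixed_of_mem_adjoin T hT φ hφ (h.symm ▸ IntermediateField.subset_adjoin ℚ S hy)
      exact e
  · intro h
    refine le_antisymm (IntermediateField.adjoin_le_iff.2 fun x hx => ?_)
      (IntermediateField.adjoin_le_iff.2 fun x hx => ?_)
    · exact mem_adjoin_of_fixed T hT x (hS x hx) fun φ hφ => (h φ).2 hφ ⟨x, hS x hx⟩ hx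
    · exact mem_adjoin_of_fixed S hS x (hT x hx) fun φ hφ => (h φ).1 hφ ⟨x, hT x hx⟩ hx

universe u

variable {G : Type u} [Group G] [Finite G]

/-- The exponents `m` such that `g ^ m` is conjugate to `g` are exactly those congruent to `1` or
`a` modulo `N`. -/
def ConjExp (g : G) (N : ℕ) (a : ℤ) : Prop :=
  ∀ m : ℕ, m.Coprime (Nat.card G) →
    (IsConj (g ^ m) g ↔ ((N : ℤ) ∣ (m : ℤ) - 1 ∨ (N : ℤ) ∣ (m : ℤ) - a))

theorem field_eq_iff (g : G) (N : ℕ) (hN : 2 ∣ N) (hNG : N ∣ Nat.card G) {ζ : ℂ}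
    (hζ : IsPrimitiveRoot ζ N) (a : ℤ) (ε : ℂ) (hε : ε = 1 ∨ ε = -1) (ha : ζ ^ a = ε * ζ⁻¹) :
    IntermediateField.adjoin ℚ {z : ℂ | ∃ χ : Cfsg.IrrCharacter G, (χ : G → ℂ) g = z} =
      IntermediateField.adjoin ℚ ({ζ + ε * ζ⁻¹} : Set ℂ) ↔ ConjExp g N a := by
  have hN0 : 0 < N := Nat.pos_of_ne_zero fun h => by
    rw [h] at hNG; exact Nat.card_pos.ne' (Nat.eq_zero_of_zero_dvd hNG)
  have hζ0 : ζ ≠ 0 := hζ.ne_zero hN0.ne'
  have hζA : ζ ∈ Alg := mem_alg_of_isIntegral (hζ.isIntegral hN0)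
  have hεA : ε ∈ Alg := by
    rcases hε with rfl | rfl
    · exact one_mem _
    · exact neg_mem (one_mem _)
  have hwA : ζ + ε * ζ⁻¹ ∈ Alg := add_mem hζA (mul_mem hεA (inv_mem hζA))
  have hSA : ∀ x ∈ {z : ℂ | ∃ χ : Cfsg.IrrCharacter G, (χ : G → ℂ) g = z}, x ∈ Alg := by
    rintro x ⟨χ, rfl⟩
    exact mem_alg_of_isIntegral (isCharacter_isIntegral (isCharacter_irr χ) g)
  have hTA : ∀ x ∈ ({ζ + ε * ζ⁻¹} : Set ℂ), x ∈ Alg := by
    intro x hx
    rw [Set.mem_singleton_iff] at hx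
    exact hx ▸ hwA
  rw [adjoin_eq_iff _ _ hSA hTA]
  have key : ∀ (φ : Alg →ₐ[ℚ] ℂ) (m : ℕ), m.Coprime (Nat.card G) →
      (∀ x : Alg, x ^ Nat.card G = 1 → φ x = (x : ℂ) ^ m) →
      ((∀ y : Alg, (y : ℂ) ∈ {z : ℂ | ∃ χ : Cfsg.IrrCharacter G, (χ : G → ℂ) g = z} → φ y = y) ↔
        IsConj (g ^ m) g) ∧
      ((∀ y : Alg, (y : ℂ) ∈ ({ζ + ε * ζ⁻¹} : Set ℂ) → φ y = y) ↔
        ((N : ℤ) ∣ (m : ℤ) - 1 ∨ (N : ℤ) ∣ (m : ℤ) - a)) := by
    intro φ m hm hpow
    constructor
    · constructor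
      · intro h
        refine isConj_of_irr_agree fun χ => ?_
        obtain ⟨d, ρ, hρ, hχ⟩ := χ.2
        have h1 := char_apply_embedding ρ φ m hpow g
          ⟨(χ : G → ℂ) g, mem_alg_of_isIntegral (isCharacter_isIntegral (isCharacter_irr χ) g)⟩
          (by show (χ : G → ℂ) g = _; rw [hχ])
        rw [h _ ⟨χ, rfl⟩] at h1
        rw [hχ] at h1
        exact h1.symm
      · rintro h y ⟨χ, hy⟩
        obtain ⟨d, ρ, hρ, hχ⟩ := χ.2
        rw [char_apply_embedding ρ φ m hpow g y (by rw [← hy, hχ]), ← hy, hχ]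
        exact classFun_isConj (isClassFunction_irr χ) h
    · have hmodd : Odd m := by
        rw [← Nat.not_even_iff_odd, even_iff_two_dvd]
        intro h2
        have := Nat.dvd_gcd h2 (hN.trans hNG)
        rw [hm.gcd_eq_one] at this
        exact absurd (Nat.dvd_one.1 this) (by norm_num)
      have hζm : φ ⟨ζ, hζA⟩ = ζ ^ m := hpow _ (by
        apply Subtype.ext
        rw [IntermediateField.coe_pow]
        obtain ⟨c, hc⟩ := hNG
        show ζ ^ Nat.card G = _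
        rw [hc, pow_mul, hζ.pow_eq_one, one_pow]
        rfl)
      have hw : ∀ y : Alg, (y : ℂ) = ζ + ε * ζ⁻¹ → φ y = ζ ^ m + ε * (ζ ^ m)⁻¹ := by
        intro y hy
        have hy' : y = ⟨ζ, hζA⟩ + ⟨ε, hεA⟩ * (⟨ζ, hζA⟩ : Alg)⁻¹ := Subtype.ext hy
        rw [hy', map_add, map_mul, map_inv₀, hζm]
        congr 2
        rcases hε with rfl | rfl
        · exact map_one φ
        · exact (map_neg φ 1).trans (by rw [map_one])
      have hx0 : ζ ^ m ≠ 0 := pow_ne_zero _ hζ0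
      have hz : ∀ i : ℤ, ζ ^ m = ζ ^ i ↔ (N : ℤ) ∣ (m : ℤ) - i := by
        intro i
        rw [← hζ.zpow_eq_one_iff_dvd, zpow_sub₀ hζ0, zpow_natCast, div_eq_one_iff_eq (zpow_ne_zero _ hζ0)]
      rw [← hz, ← hz, zpow_one, ha]
      have hfac : ζ ^ m + ε * (ζ ^ m)⁻¹ = ζ + ε * ζ⁻¹ ↔ (ζ ^ m = ζ ∨ ζ ^ m = ε * ζ⁻¹) := by
        have e : ζ ^ m + ε * (ζ ^ m)⁻¹ - (ζ + ε * ζ⁻¹) =
            (ζ ^ m - ζ) * (ζ ^ m - ε * ζ⁻¹) * (ζ ^ m)⁻¹ := by
          field_simp
          ring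
        rw [← sub_eq_zero, e, mul_eq_zero, or_iff_left (inv_ne_zero hx0), mul_eq_zero, sub_eq_zero,
          sub_eq_zero]
      rw [← hfac]
      constructor
      · intro h
        rw [← hw ⟨_, hwA⟩ rfl, h ⟨_, hwA⟩ rfl]
      · intro h y hy
        rw [Set.mem_singleton_iff] at hy
        rw [hw y hy, h, hy]
  constructor
  · intro h m hm
    obtain ⟨φ, hφ⟩ := exists_embedding_of_coprime (Nat.card G) Nat.card_pos.ne' m hm
    obtain ⟨h1, h2⟩ := key φ m hm hφ
    rw [← h1, ← h2]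
    exact h φ
  · intro h φ
    obtain ⟨m, hm, hφ⟩ := exists_twist φ (Nat.card G) Nat.card_pos.ne'
    obtain ⟨h1, h2⟩ := key φ m hm hφ
    rw [h1, h2]
    exact h m hm

variable {n : ℕ}

theorem pow_iff_zmod {g : G} {N : ℕ} (ho : orderOf g = N) (i : ℤ) (m : ℕ) :
    g ^ m = g ^ i ↔ (N : ℤ) ∣ (m : ℤ) - i := by
  rw [← zpow_natCast, ← ho, orderOf_dvd_iff_zpow_eq_one, zpow_sub, mul_inv_eq_one]

theorem four_le_index {R : Type u} [Group R] [Finite R] (hR : IsPGroup 2 R) (hna : ¬ IsMulCommutative R) :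
    4 ≤ (commutator R).index := by
  by_contra h
  refine hna ?_
  haveI : IsCyclic (R ⧸ commutator R) := by
    have h1 : Nat.card (R ⧸ commutator R) < 4 := by rw [← Subgroup.index_eq_card]; omega
    obtain ⟨i, hi⟩ := (hR.to_quotient (commutator R)).exists_card_eq
    rw [hi] at h1
    have h3 : i ≤ 1 := by
      by_contra h2
      have : 2 ^ 2 ≤ 2 ^ i := Nat.pow_le_pow_right (by norm_num) (by omega)
      omega
    interval_cases i
    · haveI : Subsingleton (R ⧸ commutator R) := (Nat.card_eq_one_iff_unique.1 (by simpa using hi)).1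
      infer_instance
    · exact isCyclic_of_prime_card (p := 2) (by simpa using hi)
  haveI := CfsgLib.PGroup.isCyclic_of_cyclic_abelianization hR inferInstance
  exact isMulCommutative_iff.2 fun x y => IsCyclic.commGroup.mul_comm x y

/-- Lifting an odd residue to an exponent prime to the group order. -/
theorem exists_coprime_lift {n d : ℕ} (hG : Nat.card G = 2 ^ n * d) (hd : Odd d) (i : ℕ) (hi : Odd i) :
    ∃ m : ℕ, m.Coprime (Nat.card G) ∧ ((2 : ℤ) ^ n ∣ (m : ℤ) - i) := by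
  have hcop : (2 ^ n).Coprime d := Nat.Coprime.pow_left n (Nat.coprime_two_left.2 hd)
  obtain ⟨m, h1, h2⟩ := Nat.chineseRemainder hcop i 1
  refine ⟨m, ?_, ?_⟩
  · rw [hG]
    refine Nat.Coprime.mul_right ?_ ?_
    · rw [Nat.coprime_iff_gcd_eq_one, Nat.ModEq.gcd_eq h1]
      exact Nat.Coprime.pow_right n (Nat.coprime_two_right.2 hi)
    · rw [Nat.coprime_iff_gcd_eq_one, Nat.ModEq.gcd_eq h2]; simp
  · have := Nat.modEq_iff_dvd.1 h1.symm
    exact_mod_cast this

variable (P : Sylow 2 G) (hn : 3 ≤ n) (hP : Nat.card ↥(P : Subgroup G) = 2 ^ n)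

include hP hn in
/-- From the fusion data to the index of the commutator subgroup. -/
theorem backward (g : G) (hgP : g ∈ (P : Subgroup G))
    (heven : 2 ∣ (Subgroup.centralizer ({g} : Set G)).index) (a : ℤ)
    (ha : a = -1 ∨ a = 2 ^ (n - 2) - 1) (hA : ConjExp g (2 ^ (n - 1)) a) :
    (commutator ↥(P : Subgroup G)).index = 4 := by
  haveI : Fact (Nat.Prime 2) := ⟨Nat.prime_two⟩
  have hna : ¬ IsMulCommutative ↥(P : Subgroup G) := by
    intro hc
    have hle : (P : Subgroup G) ≤ Subgroup.centralizer ({g} : Set G) := fun x hx =>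
      Subgroup.mem_centralizer_singleton_iff.2
        (congrArg Subtype.val (hc.is_comm.comm (⟨x, hx⟩ : (P : Subgroup G)) ⟨g, hgP⟩))
    exact P.not_dvd_index (heven.trans (Subgroup.index_dvd_of_le hle))
  have h4 := four_le_index P.isPGroup' hna
  rcases Nat.lt_or_ge n 4 with h3 | hn4
  · obtain rfl : n = 3 := by omega
    have hmul := (commutator ↥(P : Subgroup G)).card_mul_index
    rw [hP] at hmul
    obtain ⟨i, hi⟩ := (P.isPGroup'.to_quotient (commutator ↥(P : Subgroup G))).exists_card_eq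
    rw [← Subgroup.index_eq_card] at hi
    have h1 : Nat.card (commutator ↥(P : Subgroup G)) ≠ 1 := fun h1 => hna (isMulCommutative_iff.2 fun x y => by
      have hm : ⁅x, y⁆ ∈ commutator ↥(P : Subgroup G) :=
        Subgroup.commutator_mem_commutator (Subgroup.mem_top x) (Subgroup.mem_top y)
      rw [Subgroup.card_eq_one.1 h1, Subgroup.mem_bot] at hm
      exact commutatorElement_eq_one_iff_mul_comm.1 hm)
    have h2 : 2 ≤ Nat.card (commutator ↥(P : Subgroup G)) := by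
      have := Nat.card_pos (α := commutator ↥(P : Subgroup G)); omega
    refine le_antisymm ?_ h4
    rw [show (2 : ℕ) ^ 3 = 8 from rfl] at hmul
    nlinarith
  obtain ⟨d, hGd⟩ : 2 ^ n ∣ Nat.card G := hP ▸ Subgroup.card_subgroup_dvd_card _
  have hd : Odd d := by
    rw [← Nat.not_even_iff_odd, even_iff_two_dvd]
    intro h2
    refine P.not_dvd_index ?_
    have := (P : Subgroup G).card_mul_index
    rw [show Nat.card (P : Subgroup G) = 2 ^ n from hP, hGd] at this
    rw [Nat.eq_of_mul_eq_mul_left (pow_pos (by norm_num) n) this]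
    exact h2
  obtain ⟨j, hjn, hj⟩ := (Nat.dvd_prime_pow Nat.prime_two).1 (hP ▸ Subgroup.orderOf_dvd_natCard _ hgP)
  have hpow4 : (4 : ℤ) ∣ 2 ^ (n - 2) := ⟨2 ^ (n - 4), by
    rw [show (4 : ℤ) = 2 ^ 2 by norm_num, ← pow_add]; congr 1; omega⟩
  have hN1 : ((2 ^ (n - 1) : ℕ) : ℤ) = 2 * 2 ^ (n - 2) := by
    push_cast; rw [← pow_succ']; congr 1; omega
  have hjge : n - 1 ≤ j := by
    by_contra h
    obtain ⟨m, hm, hmd⟩ := exists_coprime_lift hGd hd (1 + 2 ^ (n - 2))
      (Nat.odd_iff.2 (by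
        have : 2 ∣ 2 ^ (n - 2) := dvd_pow_self 2 (by omega)
        omega))
    push_cast at hmd
    have hmN : ((2 ^ (n - 1) : ℕ) : ℤ) ∣ (m : ℤ) - (1 + 2 ^ (n - 2)) := by
      push_cast; exact (pow_dvd_pow 2 (by omega : n - 1 ≤ n)).trans hmd
    have hgm : g ^ m = g := by
      have h1 : g ^ m = g ^ (1 : ℤ) := by
        rw [pow_iff_zmod hj]
        push_cast
        have e1 : (2 : ℤ) ^ j ∣ (m : ℤ) - (1 + 2 ^ (n - 2)) := (pow_dvd_pow 2 hjn).trans hmd
        have e2 : (2 : ℤ) ^ j ∣ 2 ^ (n - 2) := pow_dvd_pow 2 (by omega)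
        have := dvd_add e1 e2
        rwa [show (m : ℤ) - (1 + 2 ^ (n - 2)) + 2 ^ (n - 2) = (m : ℤ) - 1 by ring] at this
      rwa [zpow_one] at h1
    have hpos : (0 : ℤ) < 2 ^ (n - 2) := by positivity
    have h4le : (4 : ℤ) ≤ 2 ^ (n - 2) := Int.le_of_dvd hpos hpow4
    rcases (hA m hm).1 (by rw [hgm]) with h1 | h1
    · have := dvd_sub h1 hmN
      rw [show (m : ℤ) - 1 - ((m : ℤ) - (1 + 2 ^ (n - 2))) = 2 ^ (n - 2) by ring, hN1] at this
      have := Int.le_of_dvd hpos this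
      linarith
    · have := dvd_sub hmN h1
      rw [show (m : ℤ) - (1 + 2 ^ (n - 2)) - ((m : ℤ) - a) = a - 1 - 2 ^ (n - 2) by ring, hN1] at this
      obtain ⟨c, hc⟩ := this
      obtain ⟨e, he⟩ := hpow4
      rcases ha with rfl | rfl
      · have : (2 : ℤ) = 4 * (-e - 2 * e * c) := by rw [he] at hc; linarith
        omega
      · have : (2 : ℤ) = 4 * (-2 * e * c) := by rw [he] at hc; linarith
        omega
  have hjlt : j ≠ n := by
    intro h
    refine hna (isMulCommutative_iff.2 fun x y => ?_)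
    haveI : IsCyclic ↥(P : Subgroup G) := isCyclic_of_orderOf_eq_card (⟨g, hgP⟩ : (P : Subgroup G))
      (by rw [Subgroup.orderOf_mk, hj, h]; exact hP.symm)
    exact IsCyclic.commGroup.mul_comm x y
  have ho : orderOf g = 2 ^ (n - 1) := by rw [hj]; congr 1; omega
  obtain ⟨a', ha'⟩ : ∃ a' : ℕ, ((2 ^ (n - 1) : ℕ) : ℤ) ∣ (a' : ℤ) - a ∧ Odd a' := by
    rcases ha with rfl | rfl
    · refine ⟨2 ^ (n - 1) - 1, ?_, Nat.odd_iff.2 ?_⟩
      · rw [Nat.cast_sub Nat.one_le_two_pow]; exact ⟨1, by push_cast; ring⟩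
      · have : 2 ∣ 2 ^ (n - 1) := dvd_pow_self 2 (by omega)
        have := Nat.one_le_two_pow (n := n - 1)
        omega
    · refine ⟨2 ^ (n - 2) - 1, ?_, Nat.odd_iff.2 ?_⟩
      · rw [Nat.cast_sub Nat.one_le_two_pow]; exact ⟨0, by push_cast; ring⟩
      · have : 2 ∣ 2 ^ (n - 2) := dvd_pow_self 2 (by omega)
        have := Nat.one_le_two_pow (n := n - 2)
        omega
  obtain ⟨hmod, hodd⟩ := ha'
  obtain ⟨m, hm, hmd⟩ := exists_coprime_lift hGd hd a' hodd
  have hma : ((2 ^ (n - 1) : ℕ) : ℤ) ∣ (m : ℤ) - a := by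
    have h1 : ((2 ^ (n - 1) : ℕ) : ℤ) ∣ (m : ℤ) - a' := by
      push_cast; exact (pow_dvd_pow 2 (by omega : n - 1 ≤ n)).trans hmd
    have := dvd_add h1 hmod
    rwa [show (m : ℤ) - a' + ((a' : ℤ) - a) = (m : ℤ) - a by ring] at this
  obtain ⟨x, hx⟩ := isConj_iff.1 ((hA m hm).2 (Or.inr hma)).symm
  have hga : g ^ m = g ^ a := (pow_iff_zmod ho a m).2 hma
  rw [hga] at hx
  -- the exponent `a` is an involution modulo the order, with `a - 1` twice an odd number
  obtain ⟨c, hc, hcodd⟩ : ∃ c : ℤ, a - 1 = 2 * c ∧ Odd c := by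
    obtain ⟨e, he⟩ := hpow4
    rcases ha with rfl | rfl
    · exact ⟨-1, by ring, by decide⟩
    · exact ⟨2 * e - 1, by rw [he]; ring, ⟨e - 1, by ring⟩⟩
  have haa : g ^ (a * a) = g := by
    conv_rhs => rw [← zpow_one g]
    rw [zpow_eq_zpow_iff_modEq, ho, Int.modEq_iff_dvd, hN1]
    obtain ⟨e, he⟩ := hpow4
    rcases ha with h | h
    · exact ⟨0, by rw [h]; ring⟩
    · exact ⟨1 - 2 * e, by rw [h, he]; ring⟩
  -- the 2-part of the conjugating element
  obtain ⟨k, r, hr, hkr⟩ := Nat.exists_eq_pow_mul_and_not_dvd (orderOf_pos x).ne' 2 (by norm_num)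
  have hodd_r : Odd r := Nat.odd_iff.2 (Nat.two_dvd_ne_zero.1 hr)
  have hx2 : (x * x) * g * (x * x)⁻¹ = g := by
    rw [show x * x * g * (x * x)⁻¹ = x * (x * g * x⁻¹) * x⁻¹ by group, hx, ← conj_zpow, hx, ← zpow_mul, haa]
  set y := x ^ r with hy
  have hyg : y * g * y⁻¹ = g ^ a := by
    obtain ⟨i, rfl⟩ := hodd_r
    have hfix : ∀ l : ℕ, (x * x) ^ l * g * ((x * x) ^ l)⁻¹ = g := by
      intro l
      induction l with
      | zero => simp
      | succ l ih =>
        rw [pow_succ, show (x * x) ^ l * (x * x) * g * ((x * x) ^ l * (x * x))⁻¹ =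
          (x * x) ^ l * ((x * x) * g * (x * x)⁻¹) * ((x * x) ^ l)⁻¹ by group, hx2, ih]
    rw [hy, pow_succ', pow_mul, pow_two, show x * (x * x) ^ i * g * (x * (x * x) ^ i)⁻¹ =
      x * ((x * x) ^ i * g * ((x * x) ^ i)⁻¹) * x⁻¹ by group, hfix, hx]
  have hyp : IsPGroup 2 (Subgroup.zpowers y) := IsPGroup.of_card (n := k) (by
    have hr0 : r ≠ 0 := fun h => hr (h ▸ dvd_zero 2)
    rw [Nat.card_zpowers, hy, orderOf_pow_of_dvd hr0 (hkr ▸ dvd_mul_left _ _), hkr,
      Nat.mul_div_cancel _ (Nat.pos_of_ne_zero hr0)])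
  have hgp : IsPGroup 2 (Subgroup.zpowers g) := IsPGroup.of_card (by rw [Nat.card_zpowers, ho])
  have hnorm : Subgroup.zpowers y ≤ Subgroup.normalizer (Subgroup.zpowers g : Set G) := by
    refine Subgroup.zpowers_le.2 (Subgroup.mem_normalizer_iff.2 fun z => ⟨fun hz => ?_, fun hz => ?_⟩)
    · obtain ⟨i, rfl⟩ := Subgroup.mem_zpowers_iff.1 hz
      rw [← conj_zpow, hyg]
      exact zpow_mem (zpow_mem (Subgroup.mem_zpowers g) a) i
    · obtain ⟨i, hi⟩ := Subgroup.mem_zpowers_iff.1 hz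
      have e : z = y⁻¹ * g ^ i * y := by rw [hi]; group
      have e2 : y * g ^ a * y⁻¹ = g := by rw [← conj_zpow, hyg, ← zpow_mul, haa]
      have e3 : y⁻¹ * g * y = g ^ a := by
        conv_lhs => rw [← e2]
        group
      rw [e, show y⁻¹ * g ^ i * y = y⁻¹ * g ^ i * y⁻¹⁻¹ by rw [inv_inv], ← conj_zpow, inv_inv, e3]
      exact zpow_mem (zpow_mem (Subgroup.mem_zpowers g) a) i
  obtain ⟨R, hR⟩ := (IsPGroup.to_sup_of_normal_right' hyp hgp hnorm).exists_le_sylow
  have hgR : g ∈ (R : Subgroup G) := hR (Subgroup.mem_sup_right (Subgroup.mem_zpowers g))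
  have hyR : y ∈ (R : Subgroup G) := hR (Subgroup.mem_sup_left (Subgroup.mem_zpowers y))
  let e : ↥(P : Subgroup G) ≃* ↥(R : Subgroup G) := P.equiv R
  have hRcard : Nat.card (R : Subgroup G) = 2 ^ n := (Nat.card_congr e.toEquiv).symm.trans hP
  have hidx : (commutator ↥(P : Subgroup G)).index = (commutator ↥(R : Subgroup G)).index := by
    have : (commutator ↥(P : Subgroup G)).map (e : ↥(P : Subgroup G) →* ↥(R : Subgroup G)) = commutator ↥(R : Subgroup G) := by
      rw [_root_.commutator_def, _root_.commutator_def, Subgroup.map_commutator,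
        Subgroup.map_top_of_surjective _ e.surjective]
    rw [← this]
    exact (Subgroup.index_map_equiv _ e).symm
  refine le_antisymm ?_ h4
  rw [hidx]
  let g' : ↥(R : Subgroup G) := ⟨g, hgR⟩
  let y' : ↥(R : Subgroup G) := ⟨y, hyR⟩
  have hcm : g' ^ (a - 1) ∈ commutator ↥(R : Subgroup G) := by
    have h1 : ⁅y', g'⁆ = g' ^ (a - 1) := by
      refine Subtype.ext ?_
      rw [commutatorElement_def, Subgroup.coe_mul, Subgroup.coe_mul, Subgroup.coe_mul, Subgroup.coe_zpow,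
        InvMemClass.coe_inv, InvMemClass.coe_inv]
      show y * g * y⁻¹ * g⁻¹ = g ^ (a - 1)
      rw [hyg, zpow_sub_one]
    exact h1 ▸ Subgroup.commutator_mem_commutator (Subgroup.mem_top y') (Subgroup.mem_top g')
  have hsq : orderOf (g' ^ (2 : ℕ)) = 2 ^ (n - 2) := by
    rw [orderOf_pow_of_dvd (by norm_num) (by rw [Subgroup.orderOf_mk, ho]; exact dvd_pow_self 2 (by omega)),
      Subgroup.orderOf_mk, ho, show n - 1 = n - 2 + 1 by omega, pow_succ, Nat.mul_div_cancel _ (by norm_num)]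
  have hle : Subgroup.zpowers (g' ^ (2 : ℕ)) ≤ commutator ↥(R : Subgroup G) := by
    refine Subgroup.zpowers_le.2 ?_
    have hcop : IsCoprime c (2 ^ (n - 2) : ℤ) := IsCoprime.pow_right (by
      obtain ⟨l, hl⟩ := hcodd
      exact ⟨1, -l, by rw [hl]; ring⟩)
    obtain ⟨u, v, huv⟩ := hcop
    have h1 : g' ^ (2 : ℕ) = (g' ^ (a - 1)) ^ u * ((g' ^ (2 : ℕ)) ^ (2 ^ (n - 2) : ℕ)) ^ v := by
      rw [hc, ← zpow_natCast g' 2, ← zpow_natCast (g' ^ ((2 : ℕ) : ℤ)), ← zpow_mul, ← zpow_mul, ← zpow_mul,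
        ← zpow_add]
      congr 1
      push_cast
      linear_combination (-2 : ℤ) * huv
    rw [h1, show (g' ^ (2 : ℕ)) ^ (2 ^ (n - 2) : ℕ) = 1 by rw [← hsq, pow_orderOf_eq_one], one_zpow, mul_one]
    exact zpow_mem hcm u
  have h5 := Subgroup.card_le_of_le hle
  rw [Nat.card_zpowers, hsq] at h5
  have h6 := (commutator ↥(R : Subgroup G)).card_mul_index
  rw [hRcard] at h6
  have h7 : 2 ^ n = 2 ^ (n - 2) * 4 := by
    rw [show (4 : ℕ) = 2 ^ 2 by norm_num, ← pow_add]; congr 1; omega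
  have h8 : 0 < 2 ^ (n - 2) := by positivity
  by_contra hlt
  push Not at hlt
  nlinarith

include hP hn in
/-- A Sylow subgroup with abelianization of order four yields the fusion data. -/
theorem forward (hidx : (commutator ↥(P : Subgroup G)).index = 4) :
    ∃ (g : G) (a : ℤ), g ∈ (P : Subgroup G) ∧ 2 ∣ (Subgroup.centralizer ({g} : Set G)).index ∧
      (a = -1 ∨ a = 2 ^ (n - 2) - 1) ∧ ConjExp g (2 ^ (n - 1)) a := by
  haveI : Fact (Nat.Prime 2) := ⟨Nat.prime_two⟩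
  have hcard : Nat.card ↥(P : Subgroup G) = 2 ^ n := hP
  have hmul := (commutator ↥(P : Subgroup G)).card_mul_index
  rw [hidx, hP] at hmul
  have hna : ¬ IsMulCommutative ↥(P : Subgroup G) := by
    intro hc
    have hbot : commutator ↥(P : Subgroup G) = ⊥ := by
      rw [eq_bot_iff, _root_.commutator_def, Subgroup.commutator_le]
      intro x _ y _
      rw [Subgroup.mem_bot, commutatorElement_eq_one_iff_mul_comm]
      exact hc.is_comm.comm x y
    rw [hbot, Subgroup.card_bot] at hmul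
    have : 2 ^ 3 ≤ 2 ^ n := Nat.pow_le_pow_right (by norm_num) hn
    omega
  have hab : Nat.card ↥(P : Subgroup G) ≤ 4 * Nat.card (commutator ↥(P : Subgroup G)) := by omega
  obtain ⟨a₁, ha₁⟩ := CfsgLib.Invol.exists_cyclic_index_two (Nat.card ↥(P : Subgroup G)) _ rfl
    P.isPGroup' hna hab
  obtain ⟨b₁, -, hb₁⟩ := SetLike.exists_of_lt (lt_top_iff_ne_top.2 (fun h : Subgroup.zpowers a₁ = ⊤ =>
    by rw [h, Subgroup.index_top] at ha₁; omega))
  obtain ⟨r, e, F⟩ := CfsgLib.Invol.exists_frame ha₁ hb₁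
  have hord : orderOf a₁ = 2 ^ (n - 1) := by
    have h := (Subgroup.zpowers a₁).card_mul_index
    rw [Nat.card_zpowers, ha₁, hcard, show (2 : ℕ) ^ n = 2 ^ (n - 1) * 2 by
      rw [← pow_succ]; congr 1; omega] at h
    exact Nat.eq_of_mul_eq_mul_right (by norm_num) h
  rw [hord] at F
  obtain ⟨-, r', e', b, hstd, F'⟩ := CfsgLib.Invol.frame_std F hna hab
  set g : G := (a₁ : G) with hgdef
  have ho : orderOf g = 2 ^ (n - 1) := by rw [hgdef, Subgroup.orderOf_coe, hord]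
  have hbg : (b : G) * g * (b : G)⁻¹ = g ^ r' := by
    have := congrArg Subtype.val F'.conj
    simpa using this
  have hr' : r' = -1 ∨ (4 ≤ n ∧ r' = 2 ^ (n - 2) - 1) := by
    rcases hstd.2 with ⟨h, -⟩ | ⟨h3, h, -⟩
    · exact Or.inl h
    · exact Or.inr ⟨by omega, by rw [h, show n - 1 - 1 = n - 2 by omega]⟩
  have hN : (2 : ℤ) < ((2 ^ (n - 1) : ℕ) : ℤ) := by
    have : 2 ^ 2 ≤ 2 ^ (n - 1) := Nat.pow_le_pow_right (by norm_num) (by omega)
    omega
  have hr1 : g ^ r' ≠ g := by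
    intro h
    have h1 : g ^ r' = g ^ (1 : ℤ) := by rw [h, zpow_one]
    rw [zpow_eq_zpow_iff_modEq, ho, Int.modEq_iff_dvd] at h1
    rcases hr' with hr | ⟨hn4, hr⟩ <;> rw [hr] at h1
    · have := Int.le_of_dvd (by norm_num) h1
      omega
    · have e : ((2 ^ (n - 1) : ℕ) : ℤ) = 2 * 2 ^ (n - 2) := by
        push_cast; rw [← pow_succ']; congr 1; omega
      have h4 : (4 : ℤ) ≤ 2 ^ (n - 2) := by
        calc (4 : ℤ) = 2 ^ 2 := by norm_num
          _ ≤ 2 ^ (n - 2) := pow_le_pow_right₀ (by norm_num) (by omega)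
      rw [e, ← dvd_neg, neg_sub] at h1
      have := Int.le_of_dvd (by linarith) h1
      linarith
  -- the action of the normalizer
  let A := Subgroup.zpowers g
  let ψ := A.normalizerMonoidHom
  have hψ : ∀ (x : Subgroup.normalizer (A : Set G)) (z : A),
      ((ψ x z : A) : G) = (x : G) * z * (x : G)⁻¹ := fun _ _ => rfl
  have hgA : g ∈ A := Subgroup.mem_zpowers g
  have hker : ∀ x : Subgroup.normalizer (A : Set G), x ∈ ψ.ker ↔ (x : G) * g * (x : G)⁻¹ = g := by
    intro x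
    constructor
    · intro h
      have := congrArg (fun f : MulAut A => ((f ⟨g, hgA⟩ : A) : G)) (MonoidHom.mem_ker.1 h)
      simpa [hψ] using this
    · intro h
      refine MonoidHom.mem_ker.2 (MulEquiv.ext fun z => Subtype.ext ?_)
      obtain ⟨i, hi⟩ := Subgroup.mem_zpowers_iff.1 z.2
      rw [hψ, MulAut.one_apply, ← hi, ← conj_zpow, h]
  have hbN : (b : G) ∈ Subgroup.normalizer (A : Set G) := by
    have hAP : A = (Subgroup.zpowers a₁).map (P : Subgroup G).subtype := by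
      rw [MonoidHom.map_zpowers]; rfl
    haveI := Subgroup.normal_of_index_eq_two ha₁
    refine Subgroup.mem_normalizer_iff.2 fun z => ?_
    rw [hAP]
    constructor
    · rintro ⟨w, hw, rfl⟩
      exact ⟨b * w * b⁻¹, Subgroup.Normal.conj_mem inferInstance w hw b, by simp⟩
    · rintro ⟨w, hw, hwz⟩
      refine ⟨b⁻¹ * w * b, by simpa using Subgroup.Normal.conj_mem inferInstance w hw b⁻¹, ?_⟩
      simp only [Subgroup.coe_subtype, Subgroup.coe_mul, InvMemClass.coe_inv] at hwz ⊢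
      rw [hwz]; group
  have hbne : ψ ⟨b, hbN⟩ ≠ 1 := fun h => hr1 (hbg.symm.trans ((hker ⟨b, hbN⟩).1 (MonoidHom.mem_ker.2 h)))
  obtain ⟨d, hGd⟩ : 2 ^ n ∣ Nat.card G := hcard ▸ Subgroup.card_subgroup_dvd_card _
  have hd : ¬ 2 ∣ d := fun h2 => by
    refine P.not_dvd_index ?_
    have := (P : Subgroup G).card_mul_index
    rw [hcard, hGd] at this
    rw [Nat.eq_of_mul_eq_mul_left (pow_pos (by norm_num) n) this]
    exact h2
  have hMdvd : Nat.card ψ.ker * Nat.card ψ.range ∣ Nat.card G := by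
    have h1 := ψ.ker.card_mul_index
    rw [Subgroup.index_ker] at h1
    rw [h1]
    exact Subgroup.card_subgroup_dvd_card _
  have hNker : 2 ^ (n - 1) ∣ Nat.card ψ.ker := by
    have hle : A.subgroupOf (Subgroup.normalizer (A : Set G)) ≤ ψ.ker := by
      intro x hx
      obtain ⟨i, hi⟩ := Subgroup.mem_zpowers_iff.1 hx
      rw [hker]
      simp only [Subgroup.coe_subtype] at hi
      rw [← hi, ((Commute.refl g).zpow_left i).eq, mul_inv_cancel_right]
    have := Subgroup.card_dvd_of_le hle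
    rwa [Nat.card_congr (Subgroup.subgroupOfEquivOfLe Subgroup.le_normalizer).toEquiv,
      Nat.card_zpowers, ho] at this
  obtain ⟨i, hi⟩ : ∃ i, Nat.card ψ.range = 2 ^ i := by
    have h1 := Subgroup.card_subgroup_dvd_card ψ.range
    rw [IsCyclic.card_mulAut, Nat.card_zpowers, ho, Nat.totient_prime_pow Nat.prime_two (by omega),
      show (2 : ℕ) - 1 = 1 from rfl, mul_one] at h1
    obtain ⟨i, -, hi⟩ := (Nat.dvd_prime_pow Nat.prime_two).1 h1
    exact ⟨i, hi⟩
  have hle1 : ∀ j, 2 ^ j ∣ Nat.card G → j ≤ n := by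
    intro j hj
    by_contra h
    apply hd
    rw [hGd] at hj
    have : 2 ^ (n + 1) ∣ 2 ^ n * d := (pow_dvd_pow 2 (by omega)).trans hj
    rw [pow_succ] at this
    exact (Nat.mul_dvd_mul_iff_left (pow_pos (by norm_num) n)).1 this
  have hi1 : i ≤ 1 := by
    have := hle1 (n - 1 + i) (by
      rw [pow_add, ← hi]; exact (Nat.mul_dvd_mul_right hNker _).trans hMdvd)
    omega
  have hrange : ∀ x : Subgroup.normalizer (A : Set G), ψ x = 1 ∨ ψ x = ψ ⟨b, hbN⟩ := by
    intro x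
    by_contra h
    push Not at h
    have h3 : ({1, ψ.rangeRestrict x, ψ.rangeRestrict ⟨b, hbN⟩} : Set ψ.range).ncard ≤ 2 := by
      refine (Set.ncard_le_ncard (Set.subset_univ _) Set.finite_univ).trans ?_
      rw [Set.ncard_univ, hi]
      calc 2 ^ i ≤ 2 ^ 1 := Nat.pow_le_pow_right (by norm_num) hi1
        _ = 2 := by norm_num
    rw [Set.ncard_eq_three.2 ⟨1, ψ.rangeRestrict x, ψ.rangeRestrict ⟨b, hbN⟩,
      fun e => h.1 (congrArg Subtype.val e).symm, fun e => hbne (congrArg Subtype.val e).symm,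
      fun e => h.2 (congrArg Subtype.val e), rfl⟩] at h3
    omega
  refine ⟨g, r', a₁.2, ?_, hr'.imp_right And.right, fun m hm => ?_⟩
  · -- the class of `g` has even size
    by_contra hodd
    have hC : 2 ^ n ∣ Nat.card (Subgroup.centralizer ({g} : Set G)) := by
      have h1 := (Subgroup.centralizer ({g} : Set G)).card_mul_index
      have h2 : 2 ^ n ∣ Nat.card (Subgroup.centralizer ({g} : Set G)) * (Subgroup.centralizer ({g} : Set G)).index := by
        rw [h1, hGd]; exact dvd_mul_right _ _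
      exact (Nat.Coprime.pow_left n ((Nat.prime_two.coprime_iff_not_dvd).2 hodd)).dvd_of_dvd_mul_right h2
    have hCN : Subgroup.centralizer ({g} : Set G) ≤ Subgroup.normalizer (A : Set G) := by
      intro x hx
      have hc : Commute x g := Subgroup.mem_centralizer_singleton_iff.1 hx
      refine Subgroup.mem_normalizer_iff.2 fun z => ⟨fun hz => ?_, fun hz => ?_⟩
      · obtain ⟨j, rfl⟩ := Subgroup.mem_zpowers_iff.1 hz
        rw [(hc.zpow_right j).eq, mul_inv_cancel_right]; exact hz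
      · obtain ⟨j, hj⟩ := Subgroup.mem_zpowers_iff.1 hz
        have : z = x⁻¹ * g ^ j * x := by rw [hj]; group
        rw [this, mul_assoc, ← (hc.zpow_right j).eq, inv_mul_cancel_left]
        exact zpow_mem hgA j
    have h5 : 2 ^ n ∣ Nat.card ψ.ker := by
      refine hC.trans ?_
      rw [← Nat.card_congr (Subgroup.subgroupOfEquivOfLe hCN).toEquiv]
      refine Subgroup.card_dvd_of_le fun x hx => (hker x).2 ?_
      rw [(show Commute (x : G) g from Subgroup.mem_centralizer_singleton_iff.1 hx).eq, mul_inv_cancel_right]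
    have h6 : 2 ∣ Nat.card ψ.range := by
      rcases Nat.eq_zero_or_pos i with rfl | hpos
      · rw [pow_zero] at hi
        exact absurd (by
          have := (Nat.card_eq_one_iff_unique.1 hi).1
          exact congrArg Subtype.val (Subsingleton.elim (ψ.rangeRestrict ⟨b, hbN⟩) 1)) hbne
      · rw [hi]; exact dvd_pow_self 2 (by omega)
    have := hle1 (n + 1) (by rw [pow_succ]; exact (Nat.mul_dvd_mul h5 h6).trans hMdvd)
    omega
  · rw [← pow_iff_zmod ho, ← pow_iff_zmod ho, zpow_one]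
    constructor
    · intro h
      obtain ⟨x, hx⟩ := isConj_iff.1 h.symm
      have hmem : ∀ z, z ∈ A → x * z * x⁻¹ ∈ A := by
        intro z hz
        obtain ⟨j, rfl⟩ := Subgroup.mem_zpowers_iff.1 hz
        rw [← conj_zpow, hx]
        exact zpow_mem (pow_mem hgA m) j
      have hxN : x ∈ Subgroup.normalizer (A : Set G) := by
        refine Subgroup.mem_normalizer_fintype fun z hz => hmem z hz
      rcases hrange ⟨x, hxN⟩ with h1 | h1
      · left
        rw [← hx]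
        exact (hker ⟨x, hxN⟩).1 (MonoidHom.mem_ker.2 h1)
      · right
        have := congrArg (fun f : MulAut A => ((f ⟨g, hgA⟩ : A) : G)) h1
        simp only [hψ] at this
        rw [← hx, this, hbg]
    · rintro (h | h)
      · rw [h]
      · rw [h, ← hbg]
        exact (isConj_iff.2 ⟨(b : G), rfl⟩).symm

end


/-- Let G be a finite group with Sylow 2-subgroup P of order 2^n ≥ 8, and let ζ be a primitive 2^(n−1)-th root of unity in ℂ. Then the commutator subgroup of P has index 4 in P if and only if there is an element g of P whose conjugacy class in G has even size and such that the field generated over ℚ by the values at g of all irreducible complex characters of G equals ℚ(ζ + ζ⁻¹) or ℚ(ζ − ζ⁻¹). -/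
theorem result {G : Type*} [Group G] [Finite G] (P : Sylow 2 G) (n : ℕ) (hn : 3 ≤ n) (hP : Nat.card P = 2 ^ n) (ζ : ℂ) (hζ : IsPrimitiveRoot ζ (2 ^ (n - 1))) :
    (commutator ↥P).index = 4 ↔
      ∃ g : G, g ∈ (P : Subgroup G) ∧ 2 ∣ (Subgroup.centralizer ({g} : Set G)).index ∧
        (IntermediateField.adjoin ℚ {z : ℂ | ∃ χ : Cfsg.IrrCharacter G, (χ : G → ℂ) g = z} = IntermediateField.adjoin ℚ ({ζ + ζ⁻¹} : Set ℂ) ∨
          IntermediateField.adjoin ℚ {z : ℂ | ∃ χ : Cfsg.IrrCharacter G, (χ : G → ℂ) g = z} = IntermediateField.adjoin ℚ ({ζ - ζ⁻¹} : Set ℂ)) := by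
  have hNG : 2 ^ (n - 1) ∣ Nat.card G :=
    (pow_dvd_pow 2 (by omega : n - 1 ≤ n)).trans (hP ▸ Subgroup.card_subgroup_dvd_card _)
  have hN2 : 2 ∣ 2 ^ (n - 1) := dvd_pow_self 2 (by omega)
  have hhalf : ζ ^ (2 ^ (n - 2) : ℕ) = -1 := by
    have hp : IsPrimitiveRoot (ζ ^ (2 ^ (n - 2) : ℕ)) 2 := hζ.pow (pow_pos (by norm_num) _) (by
      rw [← pow_succ]; congr 1; omega)
    exact hp.eq_neg_one_of_two_right
  have hplus : ζ ^ (-1 : ℤ) = (1 : ℂ) * ζ⁻¹ := by rw [zpow_neg_one, one_mul]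
  have hminus : ζ ^ ((2 : ℤ) ^ (n - 2) - 1) = (-1 : ℂ) * ζ⁻¹ := by
    rw [zpow_sub_one₀ (hζ.ne_zero (pow_pos (by norm_num) _).ne'), ← hhalf]
    norm_cast
  have e1 := fun g : G => field_eq_iff g _ hN2 hNG hζ (-1) 1 (Or.inl rfl) hplus
  have e2 := fun g : G => field_eq_iff g _ hN2 hNG hζ (2 ^ (n - 2) - 1) (-1) (Or.inr rfl) hminus
  simp only [one_mul] at e1
  simp only [neg_one_mul, ← sub_eq_add_neg] at e2
  constructor
  · intro h
    obtain ⟨g, a, hgP, heven, ha, hA⟩ := forward P hn hP h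
    refine ⟨g, hgP, heven, ?_⟩
    rcases ha with rfl | rfl
    · exact Or.inl ((e1 g).2 hA)
    · exact Or.inr ((e2 g).2 hA)
  · rintro ⟨g, hgP, heven, h | h⟩
    · exact backward P hn hP g hgP heven _ (Or.inl rfl) ((e1 g).1 h)
    · exact backward P hn hP g hgP heven _ (Or.inr rfl) ((e2 g).1 h)

end Cfsg.Agent.S4923
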