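import Cfsg.Statements.S0915
import Cfsg.Agent.Lib.Block.PSolvableOne
-- import your own Cfsg.Agent.* helpers here

set_option autoImplicit false
open Cfsg CfsgLib.Block

open Cfsg

namespace Cfsg.Agent.S0915

/-- Let G be a finite p-solvable group with trivial largest normal subgroup of order prime to p. Then any two irreducible characters of G lie in the same block relative to every maximal ideal M of the algebraic integers containing p: G has a single p-block. -/
theorem result {G : Type*} [Group G] [Finite G] (p : ℕ) [Fact p.Prime] (M : Ideal Cfsg.AlgInt) (hM : Cfsg.IsPModular p M) (hsolv : Cfsg.IsPSolvable p G) (hcore : Cfsg.pPrimeCore p G = ⊥) (χ ψ : Cfsg.IrrCharacter G) : Cfsg.SameBlock M (χ : G → ℂ) (ψ : G → ℂ) := by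
  classical
  have := hM.2.1
  letI := Fintype.ofFinite G
  have hP := CfsgLib.Coprime.pCore_isPGroup (G := G) p
  have := CfsgLib.Coprime.pCore_normal' (G := G) p
  have hB : IsPBlock M (blockOf M (χ : G → ℂ)) := isPBlock_blockOf χ
  refine mem_block_of_supp_one hM hB (fun g hg => ?_) ψ
  have hgC : g ∈ Subgroup.centralizer (Cfsg.pCore p G : Set G) := by
    by_contra hn
    refine hg ((coeffRes_eq_zero_iff hM (.of_isPBlock hB) g).mpr ?_)
    rw [blockCoeff_eq_zero_of_notMem_centralizer hM hP hB hn]
    exact memLocalIdeal_iff.mpr ⟨zero_mem _, map_zero _⟩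
  obtain ⟨k, hk⟩ := hP ⟨g, centralizer_pCore_le_of_isPSolvable hsolv hcore hgC⟩
  obtain ⟨j, -, hj⟩ := (Nat.dvd_prime_pow hM.1).mp
    (orderOf_dvd_of_pow_eq_one (congrArg Subtype.val hk : g ^ p ^ k = 1))
  have hreg := regular_of_coeffRes_ne_zero hM (.of_isPBlock hB) hg
  rcases Nat.eq_zero_or_pos j with rfl | hj0
  · rwa [pow_zero, orderOf_eq_one_iff] at hj
  · exact absurd (hj ▸ dvd_pow_self p hj0.ne') hreg

end Cfsg.Agent.S0915
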