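import Cfsg.Statements.S0910
import Cfsg.Agent.Lib.Block.FirstMain
import Cfsg.Agent.Lib.Char.Burnside
import Cfsg.Agent.Lib.Invol.PrincipalBlock
-- import your own Cfsg.Agent.* helpers here

set_option autoImplicit false
open Cfsg CfsgLib.Block

open Cfsg

namespace Cfsg.Agent.S0910

/-- Let G be a non-abelian finite simple group and p a prime. If an irreducible character χ lies in the principal block (relative to a maximal ideal of the algebraic integers containing p) and χ 1 is a power of p, then χ is the principal character. -/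
theorem result {G : Type*} [Group G] [Finite G] (p : ℕ) [Fact p.Prime] (M : Ideal Cfsg.AlgInt) (hM : Cfsg.IsPModular p M) [IsSimpleGroup G] (hna : ∃ a b : G, a * b ≠ b * a) (χ : Cfsg.IrrCharacter G) (hχ : χ ∈ Cfsg.principalBlock M G) (k : ℕ) (hdeg : (χ : G → ℂ) 1 = (p : ℂ) ^ k) : (χ : G → ℂ) = fun _ => 1 := by
  classical
  have := hM.2.1
  letI := Fintype.ofFinite G
  suffices h : χ = oneChar G by rw [h]; rfl
  by_cases hp : p ∣ Nat.card G
  swap
  · refine CfsgLib.Invol.eq_oneChar_of_constant χ fun g => ?_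
    have := CfsgLib.Invol.irr_mul_eq_of_mem_principalBlock hM hχ (⊤ : Subgroup G) (by rwa [Subgroup.card_top]) 1
      (Subgroup.mem_top g)
    rwa [one_mul] at this
  obtain ⟨P⟩ : Nonempty (Sylow p G) := inferInstance
  have : Nontrivial P := by
    rw [Subgroup.nontrivial_iff_ne_bot, Ne, ← Subgroup.card_eq_one, P.card_eq_multiplicity,
      Nat.pow_eq_one, not_or]
    exact ⟨(Fact.out : p.Prime).ne_one, ((Fact.out : p.Prime).factorization_pos_of_dvd Nat.card_pos.ne' hp).ne'⟩
  have := P.2.center_nontrivial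
  obtain ⟨⟨⟨z, hzP⟩, hzc⟩, hz1⟩ := exists_ne (1 : Subgroup.center P)
  have hz : z ≠ 1 := fun e => hz1 (Subtype.ext (Subtype.ext e))
  have hidx : ¬ p ∣ (Subgroup.centralizer ({z} : Set G)).index := fun hd => by
    refine P.not_dvd_index (hd.trans (Subgroup.index_dvd_of_le fun w hw => ?_))
    exact Subgroup.mem_centralizer_singleton_iff.mpr
      (congrArg Subtype.val ((Subgroup.mem_center_iff.mp hzc) ⟨w, hw⟩))
  have hres : res M (⟨_, centralChar_mem χ z⟩ : locRing M) ≠ 0 := by
    have h1 := centralRes_eq_of_mem (M := M) isPBlock_principalBlock hχ one_mem_principalBlock z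
    show centralRes M χ z ≠ 0
    rw [h1, Ne, centralRes_eq_zero_iff, centralChar]
    simp only [oneChar, mul_one, div_one]
    exact fun h => hidx ((memLocalIdeal_natCast hM _).mp h)
  obtain ⟨χ, n, ρ, hρ, rfl⟩ := χ
  have hdim : (Module.finrank ℂ (Fin n → ℂ) : ℂ) = ((p ^ k : ℕ) : ℂ) := by
    rw [← Representation.char_one ρ]
    push_cast
    exact hdeg
  have hne : ρ.character z ≠ 0 := fun h0 => hres (by
    rw [← memLocalIdeal_coe]
    show MemLocalIdeal M (centralChar ρ.character z)
    rw [centralChar, h0, mul_zero, zero_div]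
    exact memLocalIdeal_iff.mpr ⟨zero_mem _, map_zero _⟩)
  have hcop : Nat.Coprime (Module.finrank ℂ (Fin n → ℂ)) (Subgroup.centralizer ({z} : Set G)).index := by
    rw [show Module.finrank ℂ (Fin n → ℂ) = p ^ k by exact_mod_cast hdim]
    exact (((Fact.out : p.Prime).coprime_iff_not_dvd.mpr hidx)).pow_left k
  obtain ⟨ω, hω⟩ := (CfsgLib.Char.norm_char_eq_iff ρ z).mp
    ((CfsgLib.Char.char_zero_or_norm_eq_degree ρ z hcop).resolve_left hne)
  rcases (MonoidHom.normal_ker ρ).eq_bot_or_eq_top with e | e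
  · exfalso
    have hzZ : z ∈ Subgroup.center G := Subgroup.mem_center_iff.mpr fun x => by
      refine (MonoidHom.ker_eq_bot_iff ρ).mp e ?_
      rw [map_mul, map_mul, hω]
      ext v
      simp [Module.End.mul_apply]
    rcases (Subgroup.center G).normal_of_characteristic.eq_bot_or_eq_top with e' | e'
    · exact hz (by rwa [e', Subgroup.mem_bot] at hzZ)
    · obtain ⟨a, b, hab⟩ := hna
      exact hab (Subgroup.mem_center_iff.mp (e' ▸ Subgroup.mem_top b) a)
  · exact Subtype.ext (CfsgLib.Char.irr_eq_one_of_trivial ρ fun x =>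
      MonoidHom.mem_ker.mp (e ▸ Subgroup.mem_top x))

end Cfsg.Agent.S0910
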