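import Cfsg.Statements.S4648
import Cfsg.Agent.Lib.Block.RankOneSmall
import Cfsg.Agent.Lib.Block.FusedSum
import Cfsg.Agent.Lib.Block.BlockCountBound
import Cfsg.Agent.Lib.Block.RankOne
import Cfsg.Agent.Lib.Block.MaxPairs

set_option autoImplicit false
open Cfsg CfsgLib.Block

namespace Cfsg.Agent.S4648

theorem le_card_of_nodup {G : Type*} [Group G] [Finite G] (Q : Subgroup G) (L : List G) (hL : L.Nodup)
    (h : ∀ a ∈ L, a ∈ Q) : L.length ≤ Nat.card Q := by
  have := Nat.card_le_card_of_injective (fun i : Fin L.length => (⟨L.get i, h _ (L.get_mem i)⟩ : Q))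
    fun i j e => (List.nodup_iff_injective_get.mp hL) (congrArg Subtype.val e)
  simpa using this

/-- A block of a centralizer of an element of order `p` inducing `B` has small rank. -/
theorem rank_le_bfBound {G : Type*} [Group G] [Fintype G] [DecidableEq G] {p : ℕ} {M : Ideal AlgInt} [M.IsMaximal]
    (hM : IsPModular p M) {u : G} (hu : orderOf u = p) {C : Subgroup G} (hC : ∀ t : G, t ∈ C ↔ Commute t u)
    {b : Set (IrrCharacter C)} {B : Set (IrrCharacter G)} (hind : IsInducedBlock M C b B) :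
    blockRank p b ≤ bfBound p (blockDefect p B - 1) := by
  classical
  have : Fact p.Prime := ⟨hM.1⟩
  obtain ⟨Q, hQ⟩ := exists_defectGroup hM hind.1
  obtain ⟨E, hE, hQE⟩ := exists_defectGroup_ge hM hind hQ
  have hdb : blockDefect p b ≤ blockDefect p B := by
    refine (Nat.pow_le_pow_iff_right hM.1.one_lt).mp ?_
    rw [← defectGroup_card hM hind.1 hQ, ← defectGroup_card hM hind.2.1 hE,
      ← Subgroup.card_map_of_injective (f := C.subtype) C.subtype_injective]
    exact Subgroup.card_le_of_le hQE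
  rcases Nat.eq_zero_or_pos (blockDefect p b) with hd0 | hd0
  · rw [(rank_card_of_defect_zero hM hind.1 hd0).2]
    unfold bfBound
    split_ifs <;> exact Nat.one_le_pow _ _ hM.1.pos
  let z : C := ⟨u, (hC u).mpr (Commute.refl u)⟩
  let Z₀ : Subgroup C := Subgroup.zpowers z
  have hZc : Z₀ ≤ Subgroup.center C := Subgroup.zpowers_le.mpr
    (Subgroup.mem_center_iff.mpr fun t => Subtype.ext ((hC t).mp t.2))
  have : Z₀.Normal := ⟨fun a ha g => by
    rwa [Subgroup.mem_center_iff.mp (hZc ha) g, mul_inv_cancel_right]⟩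
  have hZcard : Nat.card Z₀ = p := by
    rw [Nat.card_zpowers, ← Subgroup.orderOf_coe]
    exact hu
  let _ := Fintype.ofFinite (C ⧸ Z₀)
  let _ := Fintype.ofFinite (IrrCharacter (C ⧸ Z₀))
  let _ := Fintype.ofFinite (IrrCharacter C)
  have hZp : IsPGroup p Z₀ := IsPGroup.of_card (n := 1) (by rw [hZcard, pow_one])
  refine (blockRank_le_card_quotSet hM hZcard hZc hind.1).1.trans ?_
  rcases (quotSet Z₀ b).eq_empty_or_nonempty with he | hne
  · rw [he]; simp
  have hlt := blockDefect_quotSet_lt hZcard hne (b := b) hd0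
  exact (card_le_bfBound hM _ (C ⧸ Z₀) _ (isPBlock_quotSet hM hZp hZc hind.1 hne) rfl).trans
    (bfBound_mono hM.1.pos (by omega))

/-- Let B be a block of the finite group G relative to a maximal ideal M of the algebraic integers containing the prime p, with a nontrivial defect group D. If B has p-regular rank 1 and at most four irreducible characters, then B is nilpotent, D has exactly as many elements as B has irreducible characters, and p is 2 or 3. -/
theorem result {G : Type*} [Group G] [Finite G] (p : ℕ) [Fact p.Prime] (M : Ideal Cfsg.AlgInt) (hM : Cfsg.IsPModular p M) (B : Set (Cfsg.IrrCharacter G)) (hB : Cfsg.IsPBlock M B) (D : Subgroup G) (hD : Cfsg.IsDefectGroup p M B D) (hD1 : D ≠ ⊥) (hl : Cfsg.blockRank p B = 1) (hk : Nat.card B ≤ 4) : Cfsg.IsNilpotentBlock p M B ∧ Nat.card D = Nat.card B ∧ (p = 2 ∨ p = 3) := by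
  classical
  haveI : M.IsMaximal := hM.2.1
  have hp : p.Prime := Fact.out
  let _ := Fintype.ofFinite G
  let _ := Fintype.ofFinite (IrrCharacter G)
  have hcardD := defectGroup_card hM hB hD
  obtain ⟨hdeg, hzero⟩ := RankOneSmall.equal_degrees_of_rank_one hM hB hl hk
  set S := Finset.univ.filter (· ∈ B) with hS
  have hkS : Nat.card B = S.card := by rw [Nat.card_eq_fintype_card, Fintype.card_subtype]
  obtain ⟨θ, hθ⟩ := isPBlock_nonempty hB
  set D₀ := charDegree (θ : G → ℂ) with hD₀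
  have hdeg' : ∀ χ ∈ B, (χ : G → ℂ) 1 = (D₀ : ℂ) := fun χ hχ => by
    rw [hdeg χ hχ θ hθ, (charDegree_eq θ).1]
  have hD0 : D₀ ≠ 0 := fun h => CfsgLib.Char.irr_one_ne_zero θ (by rw [(charDegree_eq θ).1, ← hD₀, h, Nat.cast_zero])
  -- the Sylow order divides the degree sum
  obtain ⟨P⟩ := (inferInstance : Nonempty (Sylow p G))
  let _ := Fintype.ofFinite P
  have hnat : ∀ χ : IrrCharacter G, ∃ m : ℕ, (Nat.card (P : Subgroup G) : ℂ)⁻¹ *
      ∑ s : (P : Subgroup G), (χ : G → ℂ) s = m := fun χ => by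
    obtain ⟨m, hm⟩ := CfsgLib.Char.classInner_isCharacter (G := (P : Subgroup G))
      (CfsgLib.Char.isCharacter_comp (CfsgLib.Char.isCharacter_irr χ) (P : Subgroup G).subtype)
      (CfsgLib.Char.isCharacter_irr (oneChar (P : Subgroup G)))
    refine ⟨m, ?_⟩
    rw [← hm, classInner]
    simp [oneChar]
  choose mu hmu using hnat
  have hdvd : p ^ (Nat.card G).factorization p ∣ S.card * D₀ := by
    refine ⟨∑ χ ∈ S, mu χ, ?_⟩
    rw [← P.card_eq_multiplicity]
    have hone : ∑ χ ∈ S, ∑ s : (P : Subgroup G), (χ : G → ℂ) s = ((S.card * D₀ : ℕ) : ℂ) := by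
      rw [Finset.sum_comm, Finset.sum_eq_single 1]
      · rw [Finset.sum_congr rfl fun (χ : IrrCharacter G) hχ => show (χ : G → ℂ) ((1 : (P : Subgroup G)) : G) = (D₀ : ℂ) from
          hdeg' χ (Finset.mem_filter.mp hχ).2]
        simp [hS]
      · intro s _ hs
        obtain ⟨j, hj⟩ := (IsPGroup.iff_orderOf.mp P.isPGroup') s
        refine hzero _ ?_
        rw [Subgroup.orderOf_coe, hj]
        refine dvd_pow_self p fun h0 => hs ?_
        rw [← orderOf_eq_one_iff, hj, h0, pow_zero]
      · simp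
    have : ((S.card * D₀ : ℕ) : ℂ) = ((Nat.card (P : Subgroup G) * ∑ χ ∈ S, mu χ : ℕ) : ℂ) := by
      rw [← hone, Nat.cast_mul, Nat.cast_sum, Finset.mul_sum]
      refine Finset.sum_congr rfl fun χ _ => ?_
      rw [← hmu χ, mul_inv_cancel_left₀ (Nat.cast_ne_zero.mpr Nat.card_pos.ne')]
    exact_mod_cast this
  have hk0 : S.card ≠ 0 := Finset.card_ne_zero.mpr ⟨θ, Finset.mem_filter.mpr ⟨Finset.mem_univ _, hθ⟩⟩
  have hdef : blockDefect p B = (Nat.card G).factorization p - D₀.factorization p := by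
    rw [blockDefect]
    congr 1
    have himg : (fun χ : IrrCharacter G => (charDegree (χ : G → ℂ)).factorization p) '' B = {D₀.factorization p} := by
      refine Set.eq_singleton_iff_unique_mem.mpr ⟨⟨θ, hθ, rfl⟩, ?_⟩
      rintro _ ⟨χ, hχ, rfl⟩
      have e := hdeg' χ hχ
      rw [(charDegree_eq χ).1, Nat.cast_inj] at e
      simp only [e]
    rw [himg, csInf_singleton]
  set d := blockDefect p B with hd
  have hd1 : 1 ≤ d := Nat.pos_of_ne_zero fun h => hD1 (Subgroup.card_eq_one.mp (by rw [hcardD, h, pow_zero]))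
  have hpd : p ^ d ∣ S.card := by
    refine (Nat.Prime.pow_dvd_iff_le_factorization hp hk0).mpr ?_
    have := (Nat.Prime.pow_dvd_iff_le_factorization hp (mul_ne_zero hk0 hD0)).mp hdvd
    rw [Nat.factorization_mul hk0 hD0, Finsupp.add_apply] at this
    omega
  have hpd_le : p ^ d ≤ 4 := (Nat.le_of_dvd (Nat.pos_of_ne_zero hk0) hpd).trans (hkS ▸ hk)
  have hd2 : d ≤ 2 := by
    by_contra h
    have := (Nat.pow_le_pow_left hp.two_le 3).trans (Nat.pow_le_pow_right hp.pos (Nat.lt_of_not_le h))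
    omega
  have hkp : Nat.card B = p ^ d := by
    have h1 := card_le_bfBound hM d G B hB hd.symm
    rw [bfBound, if_pos hd2] at h1
    have h2 := Nat.le_of_dvd (Nat.pos_of_ne_zero hk0) hpd
    omega
  have hp3 : p = 2 ∨ p = 3 := by
    have := (Nat.le_self_pow (Nat.one_le_iff_ne_zero.mp hd1) p).trans hpd_le
    rcases Nat.lt_or_ge p 4 with h | h
    · have := hp.two_le; omega
    · have : p = 4 := by omega
      exact absurd hp (this ▸ by decide)
  refine ⟨⟨hB, fun Q e hQe x hxN hxS hxreg => ?_⟩, by rw [hcardD, hkp], hp3⟩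
  by_contra hxC
  obtain ⟨D', e', hmax', hle'⟩ := exists_maximal_above hM Q e hQe
  have hQD : Q ≤ D' := SubpairLE.le hle'
  have hcardD' : Nat.card D' = p ^ d := defectGroup_card hM hB (isDefectGroup_of_maximal hM hmax')
  obtain ⟨j, hj⟩ := IsPGroup.iff_card.mp hQe.1.1
  obtain ⟨q, hq, hqx⟩ : ∃ q ∈ Q, x * q * x⁻¹ ≠ q := by
    by_contra h
    push Not at h
    exact hxC (Subgroup.mem_centralizer_iff.mpr fun q hq => (mul_inv_eq_iff_eq_mul.mp (h q hq)).symm)
  have hQ4 : Nat.card Q ≤ 4 := (Subgroup.card_le_of_le hQD).trans (hcardD' ▸ hpd_le)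
  have hconj : ∀ u ∈ Q, x * u * x⁻¹ ∈ Q := fun u hu => (Subgroup.mem_normalizer_iff.mp hxN u).mp hu
  have hxm : ∀ u v : G, x * u * x⁻¹ = x * v * x⁻¹ → u = v := fun u v h => mul_left_cancel (mul_right_cancel h)
  have hne1 : ∀ u : G, u ≠ 1 → x * u * x⁻¹ ≠ 1 := fun u hu h => hu (by
    have := hxm u 1 (by rw [h]; group)
    exact this)
  have hfive : ∀ a b c w : G, a ∈ Q → b ∈ Q → c ∈ Q → w ∈ Q → a ≠ 1 → b ≠ 1 → c ≠ 1 → w ≠ 1 →
      a ≠ b → a ≠ c → a ≠ w → b ≠ c → b ≠ w → c ≠ w → False := by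
    intro a b c w ha hb hc hw ha1 hb1 hc1 hw1 hab hac haw hbc hbw hcw
    have := le_card_of_nodup Q [1, a, b, c, w] (by
      simp only [List.nodup_cons, List.mem_cons, List.not_mem_nil, List.nodup_nil, or_false, not_false_eq_true, and_true, not_or]
      exact ⟨⟨ha1.symm, hb1.symm, hc1.symm, hw1.symm⟩, ⟨hab, hac, haw⟩, ⟨hbc, hbw⟩, hcw⟩)
      (by simp [one_mem, ha, hb, hc, hw])
    simp only [List.length_cons, List.length_nil] at this
    omega
  have hq1 : q ≠ 1 := fun h => hqx (by rw [h]; group)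
  set q' := x * q * x⁻¹ with hq'
  have hq'1 : q' ≠ 1 := hne1 q hq1
  -- no other fixed point
  have hnofix : ∀ u ∈ Q, u ≠ 1 → x * u * x⁻¹ ≠ u := by
    intro u hu hu1 hfix
    have huq : u ≠ q := fun h => hqx (by rw [h] at hfix; exact hfix)
    have huq' : u ≠ q' := fun h => huq (hxm u q (hfix.trans h))
    have hq'' : x * q' * x⁻¹ = q := by
      by_contra h
      exact hfive u q q' (x * q' * x⁻¹) hu hq (hconj q hq) (hconj _ (hconj q hq)) hu1 hq1 hq'1 (hne1 _ hq'1)
        huq huq' (fun e => huq' (hxm u q' (hfix.trans e))) hqx.symm (Ne.symm h)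
        (fun e => hqx (hxm q q' e).symm)
    have hQ4' : Nat.card Q = 4 := by
      by_contra h
      have := le_card_of_nodup Q [1, u, q, q'] (by
        simp only [List.nodup_cons, List.mem_cons, List.not_mem_nil, List.nodup_nil, or_false, not_false_eq_true, and_true, not_or]
        exact ⟨⟨hu1.symm, hq1.symm, hq'1.symm⟩, ⟨huq, huq'⟩, hqx.symm⟩)
        (by simp [one_mem, hu, hq, show q' ∈ Q from hconj q hq])
      simp only [List.length_cons, List.length_nil] at this
      omega
    have hp2 : p = 2 := by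
      rcases hp3 with h | h
      · exact h
      · exfalso
        have : 3 ∣ 4 := by
          rw [← hQ4', hj, h]
          exact dvd_pow_self 3 fun h0 => by rw [hj, h0] at hQ4'; simp at hQ4'
        omega
    have hodd : ¬ 2 ∣ orderOf x := hp2 ▸ hxreg
    obtain ⟨r, hr⟩ : ∃ r, orderOf x = 2 * r + 1 := ⟨orderOf x / 2, by omega⟩
    have hx2 : Commute (x ^ 2) q := by
      rw [commute_iff_eq, ← mul_inv_eq_iff_eq_mul]
      calc x ^ 2 * q * (x ^ 2)⁻¹ = x * (x * q * x⁻¹) * x⁻¹ := by rw [pow_two]; group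
        _ = q := hq''
    have hx1 : x⁻¹ = (x ^ 2) ^ r := inv_eq_of_mul_eq_one_right (by
      rw [← pow_mul, ← pow_succ', ← hr, pow_orderOf_eq_one])
    have hc : Commute x⁻¹ q := hx1 ▸ hx2.pow_left r
    exact hqx (by rw [mul_inv_eq_iff_eq_mul]; exact (Commute.inv_left_iff.mp hc).eq)
  have hq'' : x * q' * x⁻¹ ≠ q' := hnofix q' (hconj q hq) hq'1
  have hfused : ∀ u ∈ Q, u ≠ 1 → u = q ∨ u = q' ∨ u = x * q' * x⁻¹ := by
    intro u hu hu1
    by_contra h
    push Not at h
    obtain ⟨h1, h2, h3⟩ := h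
    by_cases hback : x * q' * x⁻¹ = q
    · -- a transposition leaves a fixed point
      by_cases hu2 : x * u * x⁻¹ = u
      · exact hnofix u hu hu1 hu2
      · exact hfive q q' u (x * u * x⁻¹) hq (hconj q hq) hu (hconj u hu) hq1 hq'1 hu1 (hne1 u hu1)
          hqx.symm (Ne.symm h1) (fun e => h2 (hxm u q' (e.symm.trans hback.symm)))
          (Ne.symm h2) (fun e => h1 (hxm u q e.symm)) (Ne.symm hu2)
    · exact hfive q q' (x * q' * x⁻¹) u hq (hconj q hq) (hconj _ (hconj q hq)) hu hq1 hq'1 (hne1 _ hq'1) hu1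
        hqx.symm (Ne.symm hback) (Ne.symm h1) (Ne.symm hq'') (Ne.symm h2) (Ne.symm h3)
  -- the pair is maximal
  have hQcard : Nat.card Q = p ^ d := by
    have hge : 3 ≤ Nat.card Q := by
      have := le_card_of_nodup Q [1, q, q'] (by
        simp only [List.nodup_cons, List.mem_cons, List.not_mem_nil, List.nodup_nil, or_false, not_false_eq_true, and_true, not_or]
        exact ⟨⟨hq1.symm, hq'1.symm⟩, hqx.symm⟩) (by simp [one_mem, hq, show q' ∈ Q from hconj q hq])
      simpa using this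
    rw [hj] at hge hQ4 ⊢
    have h1 := Subgroup.card_dvd_of_le hQD
    rw [hj, hcardD', Nat.pow_dvd_pow_iff_le_right hp.one_lt] at h1
    congr 1
    by_contra hjd
    have hj1 : j = 1 ∨ j = 0 := by omega
    have hd2' : d = 2 ∨ j = 0 := by omega
    rcases hj1 with rfl | rfl
    · rcases hd2' with e | e
      · rw [e] at hpd_le
        rw [pow_one] at hge
        nlinarith
      · omega
    · simp at hge
  have hQD' : Q = D' := Subgroup.eq_of_le_of_card_ge hQD (by rw [hQcard, hcardD'])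
  have hmax : IsMaximalBrauerPair p M B Q e := by
    refine ⟨hQe, fun R g hg hle => ?_⟩
    obtain ⟨R', g', hmR, hleR⟩ := exists_maximal_above hM R g hg
    refine (Subgroup.eq_of_le_of_card_ge (SubpairLE.le hle) ?_).symm
    refine (Subgroup.card_le_of_le (SubpairLE.le hleR)).trans ?_
    rw [defectGroup_card hM hB (isDefectGroup_of_maximal hM hmR), hQcard]
  set he := hmax.1.1 with hhe
  have hfix : cjP x ⟨Q, e⟩ = (⟨Q, e⟩ : BrauerPairIdx G) :=
    conjBlock_eq_of_mem hM hQe.1.2 hxN ((stabilizesBlock_iff hM hxN hQe.1.2).mp hxS)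
  let _ := Fintype.ofFinite Q
  have hmove : ∀ u : Q, (⟨x * u * x⁻¹, hconj u u.2⟩ : Q) ∈ fusClass hM he u := by
    intro u
    refine (mem_fusClass hM he).mpr ⟨x, rfl, below_ext hM he (below_conj hM (lowPair_below hM he u) hfix)
      (lowPair_below hM he _) ?_⟩
    show cjS x (Subgroup.zpowers (u : G)) = Subgroup.zpowers (x * u * x⁻¹)
    rw [cjS_zpowers]
  have hclass : ∀ y : Q, y ≠ 1 → (fusClass hM he y).card = Nat.card Q - 1 := by
    intro y hy
    have hy1 : (y : G) ≠ 1 := fun h => hy (Subtype.ext h)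
    set Fq := fusClass hM he (⟨q, hq⟩ : Q)
    have hin : ∀ u : Q, u ≠ 1 → u ∈ Fq := by
      intro u hu
      have h2 : (⟨q', hconj q hq⟩ : Q) ∈ Fq := hmove ⟨q, hq⟩
      rcases hfused u u.2 (fun h => hu (Subtype.ext h)) with h | h | h
      · rw [show u = ⟨q, hq⟩ from Subtype.ext h]; exact self_mem_fusClass hM he _
      · rw [show u = ⟨q', hconj q hq⟩ from Subtype.ext h]; exact h2
      · have := hmove ⟨q', hconj q hq⟩
        rw [fusClass_eq_of_mem hM he h2] at this
        rw [show u = (⟨x * q' * x⁻¹, hconj _ (hconj q hq)⟩ : Q) from Subtype.ext h]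
        exact this
    rw [fusClass_eq_of_mem hM he (hin y hy)]
    have hFq : Fq = Finset.univ.erase 1 := by
      ext u
      simp only [Finset.mem_erase, Finset.mem_univ, and_true]
      refine ⟨fun hu hu1 => ?_, hin u⟩
      obtain ⟨g, hg, -⟩ := (mem_fusClass hM he).mp hu
      exact hq1 (mul_left_cancel (mul_right_cancel (show g * q * g⁻¹ = g * 1 * g⁻¹ by
        rw [hg, hu1]; simp)))
    rw [show fusClass hM he (⟨q, hq⟩ : Q) = Finset.univ.erase 1 from hFq, Finset.card_erase_of_mem (Finset.mem_univ _), Finset.card_univ, Nat.card_eq_fintype_card]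
  -- every element has order p
  have hord : ∀ y : Q, y ≠ 1 → orderOf (y : G) = p := by
    obtain ⟨z, hz⟩ := exists_prime_orderOf_dvd_card' (G := Q) p (by
      rw [hQcard]; exact dvd_pow_self p (Nat.one_le_iff_ne_zero.mp hd1))
    intro y hy
    have hz1 : (z : G) ≠ 1 := fun h => hp.ne_one (by rw [← hz, show z = 1 from Subtype.ext h, orderOf_one])
    have horb : ∀ u : Q, u ≠ 1 → orderOf (u : G) = orderOf q := by
      intro u hu
      rcases hfused u u.2 (fun h => hu (Subtype.ext h)) with h | h | h <;> rw [h]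
      · exact orderOf_conj_eq x q
      · rw [orderOf_conj_eq]; exact orderOf_conj_eq x q
    rw [horb y hy, ← horb z (fun h => hz1 (by rw [h]; rfl)), Subgroup.orderOf_coe, hz]
  -- the count
  set l : Q → ℕ := fun y => blockRank p (lowPair hM he y).2 with hlq
  have hl_le : ∀ y : Q, y ≠ 1 → l y ≤ bfBound p (d - 1) := by
    intro y hy
    have hpair := lowPair_pairOf hM hmax y
    obtain ⟨b, hb⟩ := exists_eq_pairMk (a := lowPair hM he y) (Q := Subgroup.zpowers (y : G)) rfl
    simp only [hlq]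
    rw [hb] at hpair ⊢
    exact rank_le_bfBound hM (hord y hy) (fun t => mem_cq_zpowers_iff) ((isBrauerPairOf_zpowers_iff hM hB ⟨1, by rw [pow_one, hord y hy]⟩).mp hpair)
  have hC0 : ∀ u : G, (Nat.card (CQ (Subgroup.zpowers u)) : ℂ) ≠ 0 := fun u => Nat.cast_ne_zero.mpr Nat.card_pos.ne'
  have htot : ∀ χ ∈ S, (1 : ℂ) = ∑ y : Q, secSum p χ χ (y : G) (lowPair hM he y) /
      ((Nat.card (CQ (Subgroup.zpowers (y : G))) : ℂ) * ((fusClass hM he y).card : ℂ)) := fun χ hχ => by
    have := sum_secSum_fused hM hmax (Finset.mem_filter.mp hχ).2 (Finset.mem_filter.mp hχ).2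
    rw [if_pos rfl] at this
    exact this.symm
  have hcount : ((Nat.card B : ℕ) : ℂ) =
      1 + ∑ y ∈ Finset.univ.erase (1 : Q), (l y : ℂ) / ((Nat.card Q - 1 : ℕ) : ℂ) := by
    rw [hkS, Finset.card_eq_sum_ones, Nat.cast_sum, Finset.sum_congr rfl fun χ hχ => (Nat.cast_one).trans (htot χ hχ),
      Finset.sum_comm, ← Finset.add_sum_erase _ _ (Finset.mem_univ (1 : Q))]
    congr 1
    · have hf1 : fusClass hM he (1 : Q) = {1} := by
        refine Finset.eq_singleton_iff_unique_mem.mpr ⟨self_mem_fusClass hM he _, fun u hu => ?_⟩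
        obtain ⟨g, hg, -⟩ := (mem_fusClass hM he).mp hu
        exact Subtype.ext (by simpa using hg.symm)
      have hc1 : Nat.card (CQ (Subgroup.zpowers ((1 : Q) : G))) = Nat.card G := by
        rw [show CQ (Subgroup.zpowers ((1 : Q) : G)) = ⊤ from
          eq_top_iff.mpr fun t _ => mem_cq_zpowers_iff.mpr (Commute.one_right t), Subgroup.card_top]
      rw [hf1, Finset.card_singleton, Nat.cast_one, mul_one, hc1, ← Finset.sum_div,
        Finset.sum_congr rfl fun (χ : IrrCharacter G) (hχ : χ ∈ S) => show secSum p χ χ ((1 : Q) : G) (lowPair hM he 1) = (Nat.card G : ℂ) * regInner p χ χ from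
          secSum_one_eq hM hmax (Finset.mem_filter.mp hχ).2 (Finset.mem_filter.mp hχ).2,
        ← Finset.mul_sum, ← blockRank_eq_sum_regInner hM (.of_isPBlock hB), hl, Nat.cast_one, mul_one,
        div_self (Nat.cast_ne_zero.mpr Nat.card_pos.ne')]
    · refine Finset.sum_congr rfl fun y hy => ?_
      rw [hclass y (Finset.ne_of_mem_erase hy), ← Finset.sum_div,
        sum_secSum_eq_rank hM (exists_pElement_orderOf he y hp) rfl (lowPair_pairOf hM hmax y)]
      rw [show Nat.card (CQ (lowPair hM he y).1) = Nat.card (CQ (Subgroup.zpowers (y : G))) from rfl, ← div_div,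
        mul_div_cancel_left₀ _ (hC0 _)]
  rw [← Finset.sum_div] at hcount
  have hQ1 : 1 < Nat.card Q := by
    rw [hQcard]; exact Nat.one_lt_pow (Nat.one_le_iff_ne_zero.mp hd1) hp.one_lt
  have hsum : ∑ y ∈ Finset.univ.erase (1 : Q), l y = (Nat.card Q - 1) * (Nat.card Q - 1) := by
    have h1 : ((Nat.card B : ℕ) : ℂ) - 1 = ((Nat.card Q - 1 : ℕ) : ℂ) := by
      rw [Nat.cast_sub hQ1.le, hkp, hQcard, Nat.cast_one]
    have hne : ((Nat.card Q - 1 : ℕ) : ℂ) ≠ 0 := Nat.cast_ne_zero.mpr (by omega)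
    have h2 := hcount
    rw [← sub_eq_iff_eq_add', h1, eq_div_iff hne, ← Nat.cast_sum, ← Nat.cast_mul, Nat.cast_inj] at h2
    exact h2.symm
  have hbound : ∑ y ∈ Finset.univ.erase (1 : Q), l y ≤ (Nat.card Q - 1) * p ^ (d - 1) := by
    refine (Finset.sum_le_card_nsmul _ _ (p ^ (d - 1)) fun y hy => ?_).trans ?_
    · have := hl_le y (Finset.ne_of_mem_erase hy)
      rwa [bfBound, if_pos (by omega : d - 1 ≤ 2)] at this
    · rw [Finset.card_erase_of_mem (Finset.mem_univ _), Finset.card_univ, ← Nat.card_eq_fintype_card, smul_eq_mul]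
  rw [hsum] at hbound
  have := Nat.le_of_mul_le_mul_left hbound (by omega)
  have hge3 : 3 ≤ Nat.card Q := by
    have := le_card_of_nodup Q [1, q, q'] (by
      simp only [List.nodup_cons, List.mem_cons, List.not_mem_nil, List.nodup_nil, or_false, not_false_eq_true, and_true, not_or]
      exact ⟨⟨hq1.symm, hq'1.symm⟩, hqx.symm⟩) (by simp [one_mem, hq, show q' ∈ Q from hconj q hq])
    simpa using this
  rw [hQcard] at this hge3
  rcases Nat.lt_or_ge d 2 with h | h
  · rw [show d = 1 by omega] at this hge3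
    simp at this hge3
    omega
  · have hd' : d = 2 := by omega
    rw [hd'] at this
    rcases hp3 with rfl | rfl <;> norm_num at this

end Cfsg.Agent.S4648
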