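import Cfsg.Statements.S5036
import Cfsg.Agent.Lib.RootSub.Commutator


set_option autoImplicit false
open Cfsg

namespace Cfsg.Agent.S5036

open CfsgLib.RootSub
open scoped commutatorElement

/-- Let S be a set of abstract root subgroups of G, A, B ∈ S with C = ⁅A, B⁆ ∈ S, and D ∈ S with ⁅D, C⁆ = A. Put X = ⟨B, D⟩ and N = AC. Then B, D form a rank one pair; the conjugates of A under X are the conjugates of C under X, namely the conjugates of A by elements of B together with C, equally the conjugates of C by elements of D together with A, and they partition N; and the centralizer of N in X is central in X. -/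
theorem result {G : Type*} [Group G] {S : Set (Subgroup G)} (hS : Cfsg.IsRootSubgroupSet S)
    {A B D : Subgroup G} (hA : A ∈ S) (hB : B ∈ S) (hC : ⁅A, B⁆ ∈ S) (hD : D ∈ S) (hDC : ⁅D, ⁅A, B⁆⁆ = A) :
    Cfsg.IsRankOnePair B D ∧
    {E | ∃ x ∈ B ⊔ D, E = Cfsg.conjBy A x} = {E | ∃ x ∈ B ⊔ D, E = Cfsg.conjBy ⁅A, B⁆ x} ∧
    {E | ∃ x ∈ B ⊔ D, E = Cfsg.conjBy A x} = (fun b : G => Cfsg.conjBy A b) '' (B : Set G) ∪ {⁅A, B⁆} ∧
    {E | ∃ x ∈ B ⊔ D, E = Cfsg.conjBy A x} = (fun d : G => Cfsg.conjBy ⁅A, B⁆ d) '' (D : Set G) ∪ {A} ∧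
    Cfsg.IsSubgroupPartition (A ⊔ ⁅A, B⁆) {E | ∃ x ∈ B ⊔ D, E = Cfsg.conjBy A x} ∧
    ∀ x ∈ (B ⊔ D) ⊓ Subgroup.centralizer ((A ⊔ ⁅A, B⁆ : Subgroup G) : Set G), ∀ y ∈ B ⊔ D, x * y = y * x := by
  have hAB := comm_case hS hA hB hC
  have hDC' := comm_case hS hD hC (by rw [hDC]; exact hA)
  have cCB : ∀ {c b : G}, c ∈ ⁅A, B⁆ → b ∈ B → c * b = b * c := fun hc hb =>
    case_central hAB hc (Subgroup.mem_sup_right hb)
  have cCA : ∀ {c a : G}, c ∈ ⁅A, B⁆ → a ∈ A → c * a = a * c := fun hc ha =>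
    case_central hAB hc (Subgroup.mem_sup_left ha)
  have cAD : ∀ {a d : G}, a ∈ A → d ∈ D → a * d = d * a := fun ha hd =>
    case_central hDC' (hDC.symm ▸ ha) (Subgroup.mem_sup_left hd)
  set N := A ⊔ ⁅A, B⁆ with hN
  have hbN : B ≤ Subgroup.normalizer (N : Set G) := le_normalizer_of_conj_mem fun b hb y hy => by
    obtain ⟨a, ha, c, hc, rfl⟩ := mem_sup_of_commute (fun a ha c hc => (cCA hc ha).symm) hy
    rw [show b * (a * c) * b⁻¹ = b * a * b⁻¹ * (b * c * b⁻¹) by group, ← cCB hc hb, mul_inv_cancel_right]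
    exact mul_mem (conj_mem_sup_commutator ha hb) (Subgroup.mem_sup_right hc)
  have hdN : D ≤ Subgroup.normalizer (N : Set G) := le_normalizer_of_conj_mem fun d hd y hy => by
    obtain ⟨a, ha, c, hc, rfl⟩ := mem_sup_of_commute (fun a ha c hc => (cCA hc ha).symm) hy
    rw [show d * (a * c) * d⁻¹ = d * a * d⁻¹ * (⁅d, c⁆ * c) by rw [commutatorElement_def]; group,
      ← cAD ha hd, mul_inv_cancel_right]
    refine mul_mem (Subgroup.mem_sup_left ha) (mul_mem (Subgroup.mem_sup_left ?_) (Subgroup.mem_sup_right hc))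
    exact hDC ▸ Subgroup.commutator_mem_commutator hd hc
  -- fixed points
  have hfixB : ∀ {a c : G}, a ∈ A → c ∈ ⁅A, B⁆ → (∀ b ∈ B, b * (a * c) = a * c * b) → a = 1 := by
    intro a c ha hc h
    by_contra ha1
    refine hS.ne_bot _ hC ((hAB.2.2.1 a ha ha1).symm.trans ?_)
    rw [Subgroup.closure_eq_bot_iff]
    rintro _ ⟨b, hb, rfl⟩
    show a * b * a⁻¹ * b⁻¹ = 1
    have h1 := h b hb
    rw [← mul_assoc, mul_assoc a c b, cCB hc hb, ← mul_assoc] at h1
    rw [← mul_right_cancel h1, mul_inv_cancel_right, mul_inv_cancel]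
  have hfixD : ∀ {a c : G}, a ∈ A → c ∈ ⁅A, B⁆ → (∀ d ∈ D, d * (a * c) = a * c * d) → c = 1 := by
    intro a c ha hc h
    by_contra hc1
    refine hS.ne_bot _ hA (hDC.symm.trans ((hDC'.2.2.2 c hc hc1).symm.trans ?_))
    rw [Subgroup.closure_eq_bot_iff]
    rintro _ ⟨d, hd, rfl⟩
    show d * c * d⁻¹ * c⁻¹ = 1
    have h1 := h d hd
    rw [← mul_assoc, ← cAD ha hd, mul_assoc, mul_assoc] at h1
    rw [mul_left_cancel h1, mul_inv_cancel_right, mul_inv_cancel]
  -- the key computation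
  have hkey : ∀ f ∈ A, f ≠ 1 → (∀ b ∈ B, ∀ d ∈ D, ⁅b, d⁆ * f = f * ⁅b, d⁆) → False := by
    intro f hf hf1 h
    refine hS.ne_bot _ hC ((hAB.2.2.1 f hf hf1).symm.trans ?_)
    rw [Subgroup.closure_eq_bot_iff]
    rintro _ ⟨b, hb, rfl⟩
    show f * b * f⁻¹ * b⁻¹ = 1
    have hc : ⁅f, b⁆ ∈ ⁅A, B⁆ := Subgroup.commutator_mem_commutator hf hb
    by_contra hne
    refine hne ?_
    rw [← commutatorElement_def]
    refine hfixD (one_mem _) hc fun d hd => ?_
    rw [one_mul]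
    have hfd := cAD hf hd
    have hfd' : d⁻¹ * f * d = f := by rw [mul_assoc, hfd, inv_mul_cancel_left]
    have hcb : b⁻¹ * f * b = ⁅f, b⁆ * f := by
      calc b⁻¹ * f * b = b⁻¹ * (⁅f, b⁆ * b) * f := by rw [commutatorElement_def]; group
        _ = _ := by rw [cCB hc hb, inv_mul_cancel_left]
    have h1 : ⁅b, d⁆ * f * ⁅b, d⁆⁻¹ = f := by rw [h b hb d hd, mul_inv_cancel_right]
    have h2 : d * (b⁻¹ * (d⁻¹ * f * d) * b) * d⁻¹ = b⁻¹ * f * b := by
      calc d * (b⁻¹ * (d⁻¹ * f * d) * b) * d⁻¹ = b⁻¹ * (⁅b, d⁆ * f * ⁅b, d⁆⁻¹) * b := by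
            rw [commutatorElement_def]; group
        _ = _ := by rw [h1]
    rw [hfd', hcb] at h2
    have h3 : d * ⁅f, b⁆ * (d⁻¹ * f * d) * d⁻¹ = ⁅f, b⁆ * f := by rw [hfd', mul_assoc d]; exact h2
    have h4 : d * ⁅f, b⁆ * d⁻¹ = ⁅f, b⁆ := by
      refine mul_right_cancel (b := f) ?_
      rw [← h3]
      group
    calc d * ⁅f, b⁆ = d * ⁅f, b⁆ * d⁻¹ * d := by group
      _ = ⁅f, b⁆ * d := by rw [h4]
  have hBD : Cfsg.IsRankOnePair B D := by
    obtain ⟨a, ha, ha1⟩ := (Subgroup.bot_or_exists_ne_one _).resolve_left (hS.ne_bot A hA)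
    rcases hS.pair B hB D hD with h | h | h
    · exfalso
      refine hkey a ha ha1 fun b hb d hd => ?_
      rw [commutatorElement_eq_one_iff_commute.2 (commute_of_commutator_eq_bot h hb hd), one_mul, mul_one]
    · exact h
    · exfalso
      have hEA : ⁅B, D⁆ ≤ Subgroup.normalizer (A : Set G) := le_normalizer_of_conj_mem fun e he y hy => by
        have hX : e ∈ B ⊔ D := Subgroup.commutator_le_sup _ _ he
        obtain ⟨a', ha', c, hc, hac⟩ := mem_sup_of_commute (fun a ha c hc => (cCA hc ha).symm)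
          ((Subgroup.mem_normalizer_iff.1 (sup_le hbN hdN hX) y).1 (Subgroup.mem_sup_left hy))
        have : c = 1 := hfixD ha' hc fun d hd => by
          rw [hac]
          have h1 := case_central h he (Subgroup.mem_sup_right hd)
          calc d * (e * y * e⁻¹) = d * e * y * e⁻¹ := by group
            _ = e * (d * y) * e⁻¹ := by rw [← h1]; group
            _ = e * y * (d * e⁻¹) := by rw [← cAD hy hd]; group
            _ = e * y * (e⁻¹ * d) := by rw [← case_central h (inv_mem he) (Subgroup.mem_sup_right hd)]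
            _ = e * y * e⁻¹ * d := by group
        rw [← hac, this, mul_one]
        exact ha'
      rcases hS.pair A hA _ h.1 with k | k | k
      · exact hkey a ha ha1 fun b hb d hd =>
          (commute_of_commutator_eq_bot k ha (Subgroup.commutator_mem_commutator hb hd)).symm
      · obtain ⟨e, he, he1⟩ := (exists_ne_one k).2
        exact he1 (eq_one_of_mem_normalizer k he (hEA he))
      · obtain ⟨f, hf, hf1⟩ := (Subgroup.bot_or_exists_ne_one _).resolve_left (hS.ne_bot _ k.1)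
        have hfA : f ∈ A := by
          refine (Subgroup.commutator_le.2 (fun x hx e he => ?_) : ⁅A, ⁅B, D⁆⁆ ≤ A) hf
          rw [show ⁅x, e⁆ = x * (e * x⁻¹ * e⁻¹) by rw [commutatorElement_def]; group]
          exact mul_mem hx ((Subgroup.mem_normalizer_iff.1 (hEA he) _).1 (inv_mem hx))
        exact hkey f hfA hf1 fun b hb d hd =>
          (case_central k hf (Subgroup.mem_sup_right (Subgroup.commutator_mem_commutator hb hd))).symm
  set X := B ⊔ D with hX
  have hXN : X ≤ Subgroup.normalizer (N : Set G) := sup_le hbN hdN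
  set K : Subgroup G → Subgroup G := fun U => N ⊓ Subgroup.centralizer (U : Set G) with hK
  have hKB : K B = ⁅A, B⁆ := by
    refine le_antisymm (fun x hx => ?_) fun x hx =>
      Subgroup.mem_inf.2 ⟨Subgroup.mem_sup_right hx, Subgroup.mem_centralizer_iff.2 fun b hb => (cCB hx hb).symm⟩
    obtain ⟨hxN, hxC⟩ := Subgroup.mem_inf.1 hx
    obtain ⟨a, ha, c, hc, rfl⟩ := mem_sup_of_commute (fun a ha c hc => (cCA hc ha).symm) hxN
    rw [hfixB ha hc (fun b hb => Subgroup.mem_centralizer_iff.1 hxC b hb), one_mul]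
    exact hc
  have hKD : K D = A := by
    refine le_antisymm (fun x hx => ?_) fun x hx =>
      Subgroup.mem_inf.2 ⟨Subgroup.mem_sup_left hx, Subgroup.mem_centralizer_iff.2 fun d hd => (cAD hx hd).symm⟩
    obtain ⟨hxN, hxC⟩ := Subgroup.mem_inf.1 hx
    obtain ⟨a, ha, c, hc, rfl⟩ := mem_sup_of_commute (fun a ha c hc => (cCA hc ha).symm) hxN
    rw [hfixD ha hc (fun d hd => Subgroup.mem_centralizer_iff.1 hxC d hd), mul_one]
    exact ha
  have hKconj : ∀ U : Subgroup G, ∀ x ∈ X, Cfsg.conjBy (K U) x = K (Cfsg.conjBy U x) := by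
    intro U x hx
    ext y
    rw [mem_conjBy]
    constructor
    · intro h
      obtain ⟨h1, h2⟩ := Subgroup.mem_inf.1 h
      refine Subgroup.mem_inf.2 ⟨?_, Subgroup.mem_centralizer_iff.2 ?_⟩
      · simpa [mul_assoc] using (Subgroup.mem_normalizer_iff.1 (hXN hx) _).1 h1
      · rintro _ ⟨u, hu, rfl⟩
        show x * u * x⁻¹ * y = y * (x * u * x⁻¹)
        calc x * u * x⁻¹ * y = x * (u * (x⁻¹ * y * x)) * x⁻¹ := by group
          _ = x * (x⁻¹ * y * x * u) * x⁻¹ := by rw [Subgroup.mem_centralizer_iff.1 h2 u hu]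
          _ = _ := by group
    · intro h
      obtain ⟨h1, h2⟩ := Subgroup.mem_inf.1 h
      refine Subgroup.mem_inf.2 ⟨(Subgroup.mem_normalizer_iff.1 (hXN hx) _).2 (by simpa [mul_assoc] using h1),
        Subgroup.mem_centralizer_iff.2 fun u hu => ?_⟩
      calc u * (x⁻¹ * y * x) = x⁻¹ * (x * u * x⁻¹ * y) * x := by group
        _ = x⁻¹ * (y * (x * u * x⁻¹)) * x := by rw [Subgroup.mem_centralizer_iff.1 h2 _ (conj_mem_conjBy hu)]
        _ = _ := by group
  obtain ⟨x₀, hx₀, hx0⟩ := right_mem hBD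
  have hCA : Cfsg.conjBy ⁅A, B⁆ x₀ = A := by rw [← hKB, hKconj B x₀ hx₀, ← hx0, hKD]
  have hsetC : {E | ∃ x ∈ X, E = Cfsg.conjBy A x} = {E | ∃ x ∈ X, E = Cfsg.conjBy ⁅A, B⁆ x} := by
    ext E
    constructor
    · rintro ⟨x, hx, rfl⟩
      exact ⟨x * x₀, mul_mem hx hx₀, by rw [← conjBy_conjBy, hCA]⟩
    · rintro ⟨x, hx, rfl⟩
      refine ⟨x * x₀⁻¹, mul_mem hx (inv_mem hx₀), ?_⟩
      have h1 := congrArg (fun U => Cfsg.conjBy U (x * x₀⁻¹)) hCA
      simp only [conjBy_conjBy, inv_mul_cancel_right] at h1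
      exact h1
  have hmemK : ∀ E ∈ {E | ∃ x ∈ X, E = Cfsg.conjBy A x}, ∃ U ∈ Cfsg.unipotentSubgroups B D, E = K U := by
    intro E hE
    rw [hsetC] at hE
    obtain ⟨x, hx, rfl⟩ := hE
    exact ⟨_, ⟨x, hx, rfl⟩, by rw [← hKB, hKconj B x hx]⟩
  have hset3 : {E | ∃ x ∈ X, E = Cfsg.conjBy A x} = (fun b : G => Cfsg.conjBy A b) '' (B : Set G) ∪ {⁅A, B⁆} := by
    ext E
    constructor
    · intro hE
      obtain ⟨U, hU, rfl⟩ := hmemK E hE
      rcases unipotent_cases hBD hU with rfl | ⟨b, hb, rfl⟩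
      · exact Or.inr hKB
      · exact Or.inl ⟨b, hb, by rw [← hKconj D b (Subgroup.mem_sup_left hb), hKD]⟩
    · rintro (⟨b, hb, rfl⟩ | rfl)
      · exact ⟨b, Subgroup.mem_sup_left hb, rfl⟩
      · rw [hsetC]
        exact ⟨1, one_mem _, (conjBy_one _).symm⟩
  have hset4 : {E | ∃ x ∈ X, E = Cfsg.conjBy A x} = (fun d : G => Cfsg.conjBy ⁅A, B⁆ d) '' (D : Set G) ∪ {A} := by
    ext E
    constructor
    · intro hE
      obtain ⟨U, hU, rfl⟩ := hmemK E hE
      obtain ⟨x, hx, rfl⟩ := hU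
      have hU' : Cfsg.conjBy B x ∈ Cfsg.unipotentSubgroups D B :=
        conjBy_mem_unipotent (Cfsg.RankOnePair_symm hBD) (right_mem (Cfsg.RankOnePair_symm hBD)) (by rwa [sup_comm])
      rcases unipotent_cases (Cfsg.RankOnePair_symm hBD) hU' with e | ⟨d, hd, e⟩
      · exact Or.inr (by rw [e]; exact hKD)
      · exact Or.inl ⟨d, hd, by rw [e, ← hKconj B d (Subgroup.mem_sup_right hd), hKB]⟩
    · rintro (⟨d, hd, rfl⟩ | rfl)
      · rw [hsetC]
        exact ⟨d, Subgroup.mem_sup_right hd, rfl⟩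
      · exact ⟨1, one_mem _, (conjBy_one _).symm⟩
  have hdisj : ∀ U ∈ Cfsg.unipotentSubgroups B D, ∀ U' ∈ Cfsg.unipotentSubgroups B D, U ≠ U' → K U ⊓ K U' = ⊥ := by
    intro U hU U' hU' hne
    refine (Subgroup.eq_bot_iff_forall _).2 fun z hz => ?_
    obtain ⟨h1, h2⟩ := Subgroup.mem_inf.1 hz
    obtain ⟨hzN, hzU⟩ := Subgroup.mem_inf.1 h1
    obtain ⟨-, hzU'⟩ := Subgroup.mem_inf.1 h2
    have hcen : B ⊔ D ≤ Subgroup.centralizer ({z} : Set G) := by
      rw [← sup_unipotent hBD hU hU' hne]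
      exact sup_le (fun u hu => Subgroup.mem_centralizer_singleton_iff.2 (Subgroup.mem_centralizer_iff.1 hzU u hu))
        (fun u hu => Subgroup.mem_centralizer_singleton_iff.2 (Subgroup.mem_centralizer_iff.1 hzU' u hu))
    obtain ⟨a, ha, c, hc, rfl⟩ := mem_sup_of_commute (fun a ha c hc => (cCA hc ha).symm) hzN
    rw [hfixB ha hc fun b hb => Subgroup.mem_centralizer_singleton_iff.1 (hcen (Subgroup.mem_sup_left hb)),
      hfixD ha hc fun d hd => Subgroup.mem_centralizer_singleton_iff.1 (hcen (Subgroup.mem_sup_right hd)), one_mul]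
  refine ⟨hBD, hsetC, hset3, hset4, ⟨?_, ?_, ?_⟩, ?_⟩
  · intro E hE
    obtain ⟨U, -, rfl⟩ := hmemK E hE
    exact inf_le_left
  · intro x hx hx1
    rw [hset3]
    rcases case_cover hAB hx with h | ⟨b, hb, h⟩
    · exact ⟨_, Or.inr rfl, h⟩
    · exact ⟨_, Or.inl ⟨b, hb, rfl⟩, h⟩
  · intro E hE E' hE' hne
    obtain ⟨U, hU, rfl⟩ := hmemK E hE
    obtain ⟨U', hU', rfl⟩ := hmemK E' hE'
    exact hdisj U hU U' hU' fun e => hne (by rw [e])
  · intro x hx y hy
    obtain ⟨hxX, hxN⟩ := Subgroup.mem_inf.1 hx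
    have hfix : ∀ U ∈ Cfsg.unipotentSubgroups B D, x ∈ Subgroup.normalizer (U : Set G) := by
      intro U hU
      rw [← conjBy_eq_self_iff]
      by_contra hne
      have hsame : Cfsg.conjBy (K U) x = K U := conjBy_eq_self_iff.2
        (Subgroup.centralizer_le_normalizer _ (Subgroup.mem_centralizer_iff.2 fun z hz =>
          Subgroup.mem_centralizer_iff.1 hxN z (Subgroup.mem_inf.1 hz).1))
      rw [hKconj U x hxX] at hsame
      obtain ⟨g, hg, rfl⟩ := hU
      have hKne : K (Cfsg.conjBy B g) ≠ ⊥ := by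
        rw [← hKconj B g hg, hKB]
        exact hS.ne_bot _ (hS.conj_mem _ hC g)
      have := hdisj _ (conjBy_mem_unipotent hBD ⟨g, hg, rfl⟩ hxX) _ ⟨g, hg, rfl⟩ hne
      rw [hsame, inf_idem] at this
      exact hKne this
    exact (central_of_normalizes_all hBD hxX hfix y hy).symm

end Cfsg.Agent.S5036
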