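import Cfsg.Statements.S5037
import Cfsg.Agent.Lib.RootSub.Partner
import Cfsg.Agent.S5036


set_option autoImplicit false
open Cfsg

namespace Cfsg.Agent.S5037

open CfsgLib.RootSub

/-- Let S be a class of abstract root subgroups of G that is either degenerate or non-degenerate (so either the commutator case never occurs, or all three cases occur), and A ≠ C members of S. If every member of S commuting with A commutes with C, then A and C have the same commuting members of S; and if every rank one partner of A is a rank one partner of C, then A and C commute and have the same rank one partners. -/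
theorem result {G : Type*} [Group G] {S : Set (Subgroup G)} (hS : Cfsg.IsRootSubgroupClass S)
    (hdn : Cfsg.IsDegenerateRootSet S ∨ Cfsg.IsNondegenerateRootSet S)
    {A C : Subgroup G} (hA : A ∈ S) (hC : C ∈ S) (hAC : A ≠ C) :
    (Cfsg.centralizingMembers S A ⊆ Cfsg.centralizingMembers S C →
      Cfsg.centralizingMembers S A = Cfsg.centralizingMembers S C) ∧
    (Cfsg.rankOnePartners S A ⊆ Cfsg.rankOnePartners S C →
      ⁅A, C⁆ = ⊥ ∧ Cfsg.rankOnePartners S A = Cfsg.rankOnePartners S C) := by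
  obtain ⟨hS, -, hcl⟩ := hS
  have hnonall : ∀ X ∈ S, NonIso S X → ∀ Y ∈ S, NonIso S Y := fun X hX hn Y hY => by
    obtain ⟨g, rfl⟩ := hcl X hX Y hY
    exact nonIso_conjBy hS hn g
  have hcase : ∀ {X Y : Subgroup G}, X ∈ S → Y ∈ S → Cfsg.RootCommutatorCase S X Y → ∀ Z ∈ S, NonIso S Z := by
    intro X Y hX hY h
    obtain ⟨-, ⟨P, hP, Q, hQ, hPQ⟩, -⟩ := hdn.resolve_left fun hd => hd X hX Y hY h
    exact hnonall P hP ⟨Q, hQ, hPQ⟩
  have hconjC : ∀ {X Y : Subgroup G} (g : G), Cfsg.centralizingMembers S X ⊆ Cfsg.centralizingMembers S Y →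
      Cfsg.centralizingMembers S (Cfsg.conjBy X g) ⊆ Cfsg.centralizingMembers S (Cfsg.conjBy Y g) := by
    intro X Y g h E hE
    rw [mem_centralizingMembers] at hE ⊢
    obtain ⟨hE, hEX⟩ := hE
    have h1 := commutator_conjBy_bot hEX g⁻¹
    rw [conjBy_conjBy, inv_mul_cancel, conjBy_one] at h1
    have h2 := mem_centralizingMembers.1 (h (mem_centralizingMembers.2 ⟨hS.conj_mem E hE _, h1⟩))
    have h3 := commutator_conjBy_bot h2.2 g
    rw [conjBy_conjBy, mul_inv_cancel, conjBy_one] at h3
    exact ⟨hE, h3⟩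
  have hself : ∀ {X : Subgroup G}, X ∈ S → X ∈ Cfsg.centralizingMembers S X := fun hX =>
    mem_centralizingMembers.2 ⟨hX, commutator_eq_bot_of_commute fun x hx y hy => comm_of_mem hS hX hx hy⟩
  have L0 : ∀ X ∈ S, ∀ Y ∈ S, Cfsg.centralizingMembers S X ⊆ Cfsg.centralizingMembers S Y →
      ∀ P ∈ S, Cfsg.IsRankOnePair Y P → Cfsg.IsRankOnePair X P := by
    intro X hX Y hY h P hP hYP
    have hXY := (mem_centralizingMembers.1 (h (hself hX))).2
    rcases hS.pair P hP X hX with k | k | k
    · refine absurd (mem_centralizingMembers.1 (h (mem_centralizingMembers.2 ⟨hP, k⟩))).2 ?_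
      exact not_commutator_bot (Cfsg.RankOnePair_symm hYP)
    · exact Cfsg.RankOnePair_symm k
    · refine absurd ?_ (not_commute_step hS hY hP hX hYP (by rwa [Subgroup.commutator_comm]) k)
      rw [Subgroup.commutator_comm]
      exact (mem_centralizingMembers.1 (h (mem_centralizingMembers.2 ⟨k.1,
        commutator_eq_bot_of_commute fun f hf x hx => case_central k hf (Subgroup.mem_sup_right hx)⟩))).2
  have main1 : ∀ X ∈ S, ∀ Y ∈ S, Cfsg.centralizingMembers S X ⊆ Cfsg.centralizingMembers S Y →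
      Cfsg.centralizingMembers S X = Cfsg.centralizingMembers S Y := by
    intro A hA C hC h
    refine h.antisymm fun D hD => ?_
    rw [mem_centralizingMembers] at hD ⊢
    obtain ⟨hD, hDC⟩ := hD
    refine ⟨hD, ?_⟩
    have hAC := (mem_centralizingMembers.1 (h (hself hA))).2
    rcases hS.pair D hD A hA with k | k | k
    · exact k
    · exfalso
      have hAD := Cfsg.RankOnePair_symm k
      obtain ⟨P, hP, hCP⟩ := hnonall A hA ⟨D, hD, hAD⟩ C hC
      obtain ⟨x, hx, hDx⟩ := right_mem hAD
      have hCx : Cfsg.conjBy C x = C := by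
        refine conjBy_eq_self_iff.2 (Subgroup.centralizer_le_normalizer _ ?_)
        exact sup_le (Subgroup.commutator_eq_bot_iff_le_centralizer.1 hAC)
          (Subgroup.commutator_eq_bot_iff_le_centralizer.1 hDC) hx
      have h' : Cfsg.centralizingMembers S D ⊆ Cfsg.centralizingMembers S C := by
        have := hconjC x h
        rwa [← hDx, hCx] at this
      have hPA : Cfsg.IsRankOnePair A P := L0 A hA C hC h P hP hCP
      have hPD : Cfsg.IsRankOnePair D P := L0 D hD C hC h' P hP hCP
      obtain ⟨q, hq, hq1⟩ := (exists_ne_one hCP).2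
      obtain ⟨c, hc, -, hec⟩ := hCP.cond_right q hq hq1
      obtain ⟨a, ha, ha1, hea⟩ := hPA.cond_right q hq hq1
      obtain ⟨d, hd, hd1, hed⟩ := hPD.cond_right q hq hq1
      have hac : a * c⁻¹ = c⁻¹ * a := commute_of_commutator_eq_bot hAC ha (inv_mem hc)
      have hdc : d * c⁻¹ = c⁻¹ * d := commute_of_commutator_eq_bot hDC hd (inv_mem hc)
      have e1 : ⁅Cfsg.conjBy P (d * c⁻¹), P⁆ = ⊥ := by
        have h1 := commutator_conjBy_bot (commutator_conjBy_bot hDC q⁻¹) d
        rw [← hed, ← hec, conjBy_conjBy, conjBy_conjBy, mul_inv_cancel, conjBy_one] at h1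
        rwa [Subgroup.commutator_comm]
      have e2 : Cfsg.centralizingMembers S P ⊆ Cfsg.centralizingMembers S (Cfsg.conjBy P (a * c⁻¹)) := by
        have h1 := hconjC a (hconjC q⁻¹ h)
        rwa [← hea, ← hec, conjBy_conjBy, conjBy_conjBy, mul_inv_cancel, conjBy_one] at h1
      have e3 := commutator_conjBy_bot
        (mem_centralizingMembers.1 (e2 (mem_centralizingMembers.2 ⟨hS.conj_mem P hP _, e1⟩))).2 c
      rw [conjBy_conjBy, conjBy_conjBy, hdc, hac, mul_inv_cancel_left, mul_inv_cancel_left] at e3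
      obtain ⟨r, hr, -, her⟩ := hPA.cond_left a⁻¹ (inv_mem ha) (inv_ne_one.2 ha1)
      obtain ⟨s, hs, -, hes⟩ := hPD.cond_left d⁻¹ (inv_mem hd) (inv_ne_one.2 hd1)
      rw [inv_inv] at her hes
      rw [← her, ← hes] at e3
      have e4 := commutator_conjBy_bot e3 r
      rw [conjBy_conjBy, conjBy_conjBy, mul_inv_cancel, conjBy_one] at e4
      rcases eq_or_ne (r * s⁻¹) 1 with hrs | hrs
      · rw [hrs, conjBy_one] at e4
        exact not_commutator_bot k e4
      have e5 := (mem_centralizingMembers.1 (h (mem_centralizingMembers.2 ⟨hS.conj_mem D hD _, e4⟩))).2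
      have e6 := commutator_conjBy_bot e5 (r * s⁻¹)⁻¹
      rw [conjBy_conjBy, inv_mul_cancel, conjBy_one] at e6
      set δ := (r * s⁻¹)⁻¹ with hδ
      have hδP : δ ∈ P := inv_mem (mul_mem hr (inv_mem hs))
      have hne : C ≠ Cfsg.conjBy C δ := fun e =>
        hrs (inv_eq_one.1 (eq_one_of_mem_normalizer hCP hδP (conjBy_eq_self_iff.1 e.symm)))
      have hpair := pair_of_unipotent hCP (left_mem hCP) ⟨δ, Subgroup.mem_sup_right hδP, rfl⟩ hne
      exact not_commutator_bot (L0 D hD C hC h' _ (hS.conj_mem C hC δ) hpair) e6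
    · exfalso
      have hnon := hcase hD hA k
      have k' := case_symm k
      obtain ⟨F, hF, hFA⟩ := opposite hS hnon hA hD k'
      obtain ⟨-, hset, -, -, -, -⟩ := Cfsg.Agent.S5036.result hS hA hD k'.1 hF hFA
      obtain ⟨x, hx, hKx⟩ : ⁅A, D⁆ ∈ {E | ∃ x ∈ D ⊔ F, E = Cfsg.conjBy A x} := by
        rw [hset]
        exact ⟨1, one_mem _, (conjBy_one _).symm⟩
      have hFC : ⁅F, C⁆ = ⊥ := (mem_centralizingMembers.1 (h (mem_centralizingMembers.2 ⟨hF, by
        have hFK := comm_case hS hF k'.1 (by rw [hFA]; exact hA)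
        refine commutator_eq_bot_of_commute fun f hf y hy => ?_
        exact (case_central hFK (hFA.symm ▸ hy) (Subgroup.mem_sup_left hf)).symm⟩))).2
      have hall : ∀ E ∈ Cfsg.membersIn S (A ⊔ ⁅A, D⁆),
          Cfsg.centralizingMembers S E ⊆ Cfsg.centralizingMembers S C := by
        intro E hE
        rw [case_membersIn hS k' hA (hnon A hA) hD] at hE
        have hfix : ∀ g ∈ D ⊔ F, Cfsg.conjBy C g = C := fun g hg =>
          conjBy_eq_self_iff.2 (Subgroup.centralizer_le_normalizer _ ((sup_le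
            (Subgroup.commutator_eq_bot_iff_le_centralizer.1 hDC)
            (Subgroup.commutator_eq_bot_iff_le_centralizer.1 hFC) : D ⊔ F ≤ _) hg))
        rcases hE with ⟨b, hb, rfl⟩ | rfl
        · have := hconjC b h
          rwa [hfix b (Subgroup.mem_sup_left hb)] at this
        · have := hconjC x h
          rwa [hfix x hx, ← hKx] at this
      obtain ⟨P, hP, hCP⟩ := hnon C hC
      have hPA : Cfsg.IsRankOnePair A P := L0 A hA C hC h P hP hCP
      have hline : ⁅A, D⁆ ∈ Cfsg.linePartners S A :=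
        ⟨⟨k'.1, (case_ne k' hS).symm,
          commutator_eq_bot_of_commute fun y hy c hc => (case_central k' hc (Subgroup.mem_sup_left hy)).symm⟩,
          case_partition hS k' hA (hnon A hA) hD⟩
      obtain ⟨E, ⟨⟨hE, -, -⟩, -⟩, hPE, hsup, -, -⟩ := nonpartner_exists hS hnon hA hline hP hPA
      exact not_pair_of_case hS hP hPE (Cfsg.RankOnePair_symm
        (L0 E hE C hC (hall E ⟨hE, hsup ▸ le_sup_right⟩) P hP hCP))
  refine ⟨main1 A hA C hC, fun h => ?_⟩
  have hΩ : ∀ P ∈ S, Cfsg.IsRankOnePair A P → Cfsg.IsRankOnePair C P := fun P hP hAP => (h ⟨hP, hAP⟩).2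
  have hopp : ∀ E ∈ S, Cfsg.RootCommutatorCase S E A → ∃ P ∈ S, ⁅P, ⁅E, A⁆⁆ = E ∧ Cfsg.IsRankOnePair C P := by
    intro E hE k
    obtain ⟨P, hP, hPE⟩ := opposite hS (hcase hE hA k) hE hA k
    exact ⟨P, hP, hPE, hΩ P hP (Cfsg.Agent.S5036.result hS hE hA k.1 hP hPE).1⟩
  have hcom : ⁅A, C⁆ = ⊥ := by
    rcases hS.pair A hA C hC with k | k | k
    · exact k
    · exact absurd rfl (hΩ C hC k).ne
    · exfalso
      obtain ⟨P, hP, hPC, hCP⟩ := hopp C hC (case_symm k)
      refine not_commutator_bot (Cfsg.RankOnePair_symm hCP) (commutator_eq_bot_of_commute fun p hp c hc => ?_)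
      have hcs := comm_case hS hP (case_symm k).1 (by rw [hPC]; exact hC)
      exact (case_central hcs (hPC.symm ▸ hc) (Subgroup.mem_sup_left hp)).symm
  have hsub : Cfsg.centralizingMembers S C ⊆ Cfsg.centralizingMembers S A := by
    intro E hE
    rw [mem_centralizingMembers] at hE ⊢
    obtain ⟨hE, hEC⟩ := hE
    refine ⟨hE, ?_⟩
    rcases hS.pair E hE A hA with k | k | k
    · exact k
    · exact absurd hEC (not_commutator_bot (Cfsg.RankOnePair_symm (hΩ E hE (Cfsg.RankOnePair_symm k))))
    · exfalso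
      obtain ⟨P, hP, hPK, hCP⟩ := hopp E hE k
      have hCK : ⁅C, ⁅E, A⁆⁆ = ⊥ := by
        rw [Subgroup.commutator_comm, Subgroup.commutator_eq_bot_iff_le_centralizer]
        exact (Subgroup.commutator_le_sup E A).trans (sup_le
          (Subgroup.commutator_eq_bot_iff_le_centralizer.1 hEC)
          (Subgroup.commutator_eq_bot_iff_le_centralizer.1 hcom))
      refine not_commute_step hS hC hP k.1 hCP hCK (comm_case hS hP k.1 (by rw [hPK]; exact hE)) ?_
      rw [hPK, Subgroup.commutator_comm]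
      exact hEC
  have heq := main1 C hC A hA hsub
  refine ⟨hcom, Set.ext fun P => and_congr_right fun hP => ⟨hΩ P hP, fun hCP => ?_⟩⟩
  exact L0 A hA C hC heq.ge P hP hCP

end Cfsg.Agent.S5037
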