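import Cfsg.Statements.S3007
import Cfsg.Agent.Lib.PGroup.Measure

set_option autoImplicit false
open Cfsg
open scoped Pointwise commutatorElement

namespace Cfsg.Agent.S3007

/-- Let P be a finite p-group and Q, R minimal centrally large subgroups of P (centrally large: |Q|·|Z(Q)| maximal among subgroups of P; minimal among such under inclusion). Then Q = (Q ∩ R)·Z(Q), the derived subgroups [Q, Q] and [R, R] coincide, |Q| = |R| and |Z(Q)| = |Z(R)|; and if Q is abelian then the minimal centrally large subgroups of P are exactly the abelian subgroups of P of largest order. -/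
theorem result {p : ℕ} [Fact p.Prime] (P : Type*) [Group P] [Finite P] (hP : IsPGroup p P) (Q R : Subgroup P) (hQ : Cfsg.IsMinimalCentrallyLarge Q) (hR : Cfsg.IsMinimalCentrallyLarge R) : (Q ⊓ R) ⊔ (Q ⊓ Subgroup.centralizer (Q : Set P)) = Q ∧ ⁅Q, Q⁆ = ⁅R, R⁆ ∧ Nat.card ↥Q = Nat.card ↥R ∧ Nat.card ↥(Q ⊓ Subgroup.centralizer (Q : Set P)) = Nat.card ↥(R ⊓ Subgroup.centralizer (R : Set P)) ∧ (IsMulCommutative ↥Q → ∀ X : Subgroup P, Cfsg.IsMinimalCentrallyLarge X ↔ X ∈ Cfsg.maxAbelianSubgroups P) := by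
  obtain ⟨hQl, hQc⟩ := CfsgLib.CDLat.cl_iff.1 hQ.1
  obtain ⟨hRl, hRc⟩ := CfsgLib.CDLat.cl_iff.1 hR.1
  have gen : ∀ Q R : Subgroup P, Cfsg.IsMinimalCentrallyLarge Q → Cfsg.IsCentrallyLarge R →
      (Q ⊓ R) ⊔ (Q ⊓ Subgroup.centralizer (Q : Set P)) = Q := by
    intro Q R hQ hR
    obtain ⟨hQl, hQc⟩ := CfsgLib.CDLat.cl_iff.1 hQ.1
    obtain ⟨hRl, hRc⟩ := CfsgLib.CDLat.cl_iff.1 hR
    rw [inf_eq_right.2 hQc]
    obtain ⟨-, -, hI, hCI⟩ := CfsgLib.CDLat.large_pair hQl hRl
    obtain ⟨hC, hQQ⟩ := CfsgLib.CDLat.centralizer_large hQl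
    have hle : Q ⊓ R ⊔ Subgroup.centralizer (Q : Set P) ≤ Q := sup_le inf_le_left hQc
    refine hQ.2 _ hle (CfsgLib.CDLat.cl_iff.2 ⟨(CfsgLib.CDLat.large_pair hI hC).2.1, ?_⟩)
    rw [CfsgLib.CDLat.centralizer_sup, ← hQQ]
    intro x hx
    obtain ⟨a, ha, b, hb, rfl⟩ := (hCI ▸ hx.1 : x ∈ (Subgroup.centralizer (Q : Set P) : Set P) * (Subgroup.centralizer (R : Set P) : Set P))
    have hbQ : b ∈ Q := by simpa using Q.mul_mem (Q.inv_mem (hQc ha)) hx.2
    exact mul_mem (Subgroup.mem_sup_right ha) (Subgroup.mem_sup_left ⟨hbQ, hRc hb⟩)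
  have hcomm : ∀ Q R : Subgroup P, Cfsg.IsMinimalCentrallyLarge Q → Cfsg.IsMinimalCentrallyLarge R → ⁅Q, Q⁆ ≤ ⁅Q ⊓ R, Q ⊓ R⁆ := by
    intro Q R hQ hR
    set Z := Q ⊓ Subgroup.centralizer (Q : Set P)
    have hZ : Q ⊓ R ≤ Subgroup.centralizer (Z : Set P) := inf_le_left.trans (Subgroup.le_centralizer_iff.1 inf_le_right)
    have hprod := Subgroup.coe_mul_of_left_le_normalizer_right (Q ⊓ R) Z (hZ.trans (Subgroup.centralizer_le_normalizer _))
    rw [gen Q R hQ hR.1] at hprod
    rw [Subgroup.commutator_le]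
    intro a ha b hb
    obtain ⟨i, hi, z, hz, rfl⟩ := hprod.le ha
    obtain ⟨j, hj, w, hw, rfl⟩ := hprod.le hb
    have hc : ∀ z ∈ Z, ∀ y ∈ Q, y * z = z * y := fun z hz y hy => Subgroup.mem_centralizer_iff.1 hz.2 y hy
    have e1 : z * (j * w) = j * w * z := (hc z hz _ (Q.mul_mem hj.1 hw.1)).symm
    have e2 : w * i⁻¹ = i⁻¹ * w := (hc w hw _ (Q.inv_mem hi.1)).symm
    have : ⁅i * z, j * w⁆ = ⁅i, j⁆ := by
      rw [commutatorElement_def, commutatorElement_def, mul_inv_rev, mul_inv_rev]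
      calc i * z * (j * w) * (z⁻¹ * i⁻¹) * (w⁻¹ * j⁻¹) = i * (z * (j * w)) * z⁻¹ * i⁻¹ * w⁻¹ * j⁻¹ := by group
        _ = i * j * (w * i⁻¹) * w⁻¹ * j⁻¹ := by rw [e1]; group
        _ = i * j * i⁻¹ * j⁻¹ := by rw [e2]; group
    rw [this]
    exact Subgroup.commutator_mem_commutator hi hj
  have sizes : ∀ Q R : Subgroup P, Cfsg.IsMinimalCentrallyLarge Q → Cfsg.IsMinimalCentrallyLarge R →
      Nat.card Q = Nat.card R ∧ Nat.card ↥(Q ⊓ Subgroup.centralizer (Q : Set P)) = Nat.card ↥(R ⊓ Subgroup.centralizer (R : Set P)) := by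
    intro Q R hQ hR
    obtain ⟨hQl, hQc⟩ := CfsgLib.CDLat.cl_iff.1 hQ.1
    obtain ⟨hRl, hRc⟩ := CfsgLib.CDLat.cl_iff.1 hR.1
    set d := Nat.card ↥(Subgroup.centralizer (Q : Set P) ⊓ Subgroup.centralizer (R : Set P))
    have half : ∀ Q R : Subgroup P, Cfsg.IsMinimalCentrallyLarge Q → Cfsg.IsMinimalCentrallyLarge R →
        Subgroup.centralizer (Q : Set P) ≤ Q → Subgroup.centralizer (R : Set P) ≤ R →
        Nat.card Q * Nat.card ↥(Subgroup.centralizer (Q : Set P) ⊓ Subgroup.centralizer (R : Set P)) =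
          Nat.card ↥(Q ⊓ R) * Nat.card ↥(Subgroup.centralizer (Q : Set P)) := by
      intro Q R hQ hR hQc hRc
      have hC : Q ⊓ R ≤ Subgroup.normalizer ((Subgroup.centralizer (Q : Set P) : Subgroup P) : Set P) :=
        inf_le_left.trans ((CfsgLib.CDLat.le_centralizer_centralizer Q).trans (Subgroup.centralizer_le_normalizer _))
      have e := CfsgLib.CDLat.card_prod_mul_card_inf (Q ⊓ R) (Subgroup.centralizer (Q : Set P))
      rw [← Subgroup.coe_mul_of_left_le_normalizer_right _ _ hC] at e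
      have g := gen Q R hQ hR.1
      rw [inf_eq_right.2 hQc] at g
      rw [show Nat.card ↥((Q ⊓ R ⊔ Subgroup.centralizer (Q : Set P) : Subgroup P) : Set P) = Nat.card ↥(Q ⊓ R ⊔ Subgroup.centralizer (Q : Set P)) from rfl, g] at e
      rw [← e]
      have hI : Subgroup.centralizer (Q : Set P) ≤ Subgroup.centralizer ((Q ⊓ R : Subgroup P) : Set P) := Subgroup.centralizer_le (inf_le_left : Q ⊓ R ≤ Q)
      refine congrArg (fun S : Subgroup P => Nat.card Q * Nat.card S) ?_
      refine le_antisymm (le_inf (le_inf (inf_le_left.trans hQc) (inf_le_right.trans hRc)) inf_le_left) (le_inf inf_le_right ?_)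
      -- an element of `R` centralizing `Q` centralizes `R`
      intro x hx
      have g' := gen R Q hR hQ.1
      rw [inf_eq_right.2 hRc, inf_comm] at g'
      have : R ≤ Subgroup.centralizer ({x} : Set P) := g'.ge.trans (sup_le
        (fun y hy => Subgroup.mem_centralizer_singleton_iff.2 (Subgroup.mem_centralizer_iff.1 (hI hx.2) y hy))
        (fun y hy => Subgroup.mem_centralizer_singleton_iff.2 (Subgroup.mem_centralizer_iff.1 hy x hx.1.2).symm))
      exact Subgroup.mem_centralizer_iff.2 fun y hy => Subgroup.mem_centralizer_singleton_iff.1 (this hy)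
    have eQ := half Q R hQ hR hQc hRc
    have eR := half R Q hR hQ hRc hQc
    rw [inf_comm (a := R), inf_comm (a := Subgroup.centralizer (R : Set P))] at eR
    have hm : Nat.card Q * Nat.card ↥(Subgroup.centralizer (Q : Set P)) = Nat.card R * Nat.card ↥(Subgroup.centralizer (R : Set P)) :=
      Eq.trans hQl hRl.symm
    rw [inf_eq_right.2 hQc, inf_eq_right.2 hRc]
    have hzz : Nat.card ↥(Subgroup.centralizer (Q : Set P)) * Nat.card ↥(Subgroup.centralizer (Q : Set P)) = Nat.card ↥(Subgroup.centralizer (R : Set P)) * Nat.card ↥(Subgroup.centralizer (R : Set P)) := by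
      refine Nat.eq_of_mul_eq_mul_left (Nat.card_pos (α := ↥(Q ⊓ R))) ?_
      calc _ = Nat.card ↥(Q ⊓ R) * Nat.card ↥(Subgroup.centralizer (Q : Set P)) * Nat.card ↥(Subgroup.centralizer (Q : Set P)) := by ring
        _ = Nat.card R * Nat.card ↥(Subgroup.centralizer (R : Set P)) * d := by rw [← eQ, ← hm]; ring
        _ = Nat.card R * d * Nat.card ↥(Subgroup.centralizer (R : Set P)) := by ring
        _ = _ := by rw [eR]; ring
    have hz := Nat.mul_self_inj.1 hzz
    exact ⟨Nat.eq_of_mul_eq_mul_right Nat.card_pos (hm.trans (by rw [hz])), hz⟩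
  refine ⟨gen Q R hQ hR.1, ?_, (sizes Q R hQ hR).1, (sizes Q R hQ hR).2, fun hab X => ?_⟩
  · exact le_antisymm ((hcomm Q R hQ hR).trans (Subgroup.commutator_mono inf_le_right inf_le_right))
      ((hcomm R Q hR hQ).trans (Subgroup.commutator_mono inf_le_right inf_le_right))
  · have habi : ∀ Y : Subgroup P, IsMulCommutative Y → Nat.card ↥(Y ⊓ Subgroup.centralizer (Y : Set P)) = Nat.card Y := by
      intro Y hY
      rw [inf_eq_left.2 (Subgroup.le_centralizer Y)]
    have hiab : ∀ Y : Subgroup P, Nat.card ↥(Y ⊓ Subgroup.centralizer (Y : Set P)) = Nat.card Y → IsMulCommutative Y := by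
      intro Y hY
      exact Subgroup.le_centralizer_iff_isMulCommutative.1 (inf_eq_left.1 (Subgroup.eq_of_le_of_card_ge inf_le_left hY.ge))
    have hf : Cfsg.maxCentralProduct P = Nat.card Q * Nat.card Q := by
      rw [← hQ.1, CfsgLib.CDLat.card_center_eq, habi Q hab]
    have hmax : ∀ B : Subgroup P, IsMulCommutative B → Nat.card B ≤ Nat.card Q := fun B hB => by
      have := CfsgLib.CDLat.central_measure_le_max B
      rw [CfsgLib.CDLat.card_center_eq, habi B hB, hf] at this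
      exact Nat.mul_self_le_mul_self_iff.1 this
    constructor
    · intro hX
      obtain ⟨e1, e2⟩ := sizes X Q hX hQ
      rw [habi Q hab, ← e1] at e2
      exact ⟨hiab X e2, fun B hB => (hmax B hB).trans e1.ge⟩
    · rintro ⟨hX, hXmax⟩
      have hc : Nat.card X = Nat.card Q := le_antisymm (hmax X hX) (hXmax Q hab)
      have hXcl : Cfsg.IsCentrallyLarge X := by
        unfold Cfsg.IsCentrallyLarge
        rw [CfsgLib.CDLat.card_center_eq, habi X hX, hc, hf]
      refine ⟨hXcl, fun R' hR' hcl => ?_⟩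
      obtain ⟨R'', h'', hm''⟩ := CfsgLib.CDLat.exists_mcl_le hcl
      have := Subgroup.eq_of_le_of_card_ge (h''.trans hR') (by rw [(sizes R'' Q hm'' hQ).1, hc])
      exact le_antisymm hR' (this ▸ h'')

end Cfsg.Agent.S3007
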