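import Cfsg.Statements.S2989
import Cfsg.Agent.Lib.PushUp.CentrallyLarge

set_option autoImplicit false
open Cfsg

namespace Cfsg.Agent.S2989

/-- Let G be a finite group and S a Sylow p-subgroup of G in the basic pushing-up situation (G ≠ 1, C_G(O_p(G)) ≤ O_p(G), S lies in a unique maximal subgroup of G, and some quotient of G is isomorphic to PSL₂ over a field of order a power of p), and suppose that S centralizes Z(J(S)), where J(S) is generated by the abelian subgroups of S of largest order (that is, J̃(S) = C_S(Z(J(S))) = S). Call a subgroup R of S centrally large if |R|·|Z(R)| is as large as possible among subgroups of S, and let S_Φ be the subgroup generated by the Frattini subgroups Φ(Q) of those minimal centrally large subgroups Q of S whose Ω₁(Z(Q)) has the largest order among minimal centrally large subgroups. Then Z(S) or S_Φ is normal in G; and if S_Φ = 1, the minimal centrally large subgroups of S are exactly the abelian subgroups of S of largest order, and at least one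 of them is elementary abelian. -/
theorem result {G : Type*} [Group G] [Finite G] {p : ℕ} [Fact p.Prime] (S : Subgroup G) (hE : Cfsg.IsPushingUpSituation p S) (hJ : S ≤ Subgroup.centralizer (Cfsg.centerThompsonAOf S : Set G)) : ((S ⊓ Subgroup.centralizer (S : Set G)).Normal ∨ ((Cfsg.frattiniOfMinimalCLJoin p ↥S).map S.subtype).Normal) ∧ (Cfsg.frattiniOfMinimalCLJoin p ↥S = ⊥ → (∀ Q : Subgroup ↥S, Cfsg.IsMinimalCentrallyLarge Q ↔ Q ∈ Cfsg.maxAbelianSubgroups ↥S) ∧ ∃ A ∈ Cfsg.maxAbelianSubgroups ↥S, Cfsg.IsElementaryAbelian p A) := by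
  have sit := CfsgLib.PushUp.sit_of_isPushingUp hE
  refine ⟨sit.frattiniJoin_case hJ, fun hbot => ?_⟩
  obtain ⟨R, hR⟩ := CfsgLib.PushUp.exists_fam S p
  have e : (R.subgroupOf S).map S.subtype = R := Subgroup.map_subgroupOf_eq_of_le hR.1.1
  obtain ⟨hQ, hQmz⟩ := CfsgLib.PushUp.fam_map.1 (e.symm ▸ hR :
    CfsgLib.PushUp.Fam S p ((R.subgroupOf S).map S.subtype))
  obtain ⟨Q, hQdef⟩ : ∃ Q, Q = R.subgroupOf S := ⟨_, rfl⟩
  rw [← hQdef] at hQ hQmz
  have hFr : ∀ x : ↥Q, x ∈ frattini ↥Q → x = 1 := fun x hx => by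
    have h1 : (x : ↥S) ∈ Cfsg.frattiniOfMinimalCLJoin p ↥S :=
      Subgroup.mem_iSup_of_mem ⟨Q, hQ, hQmz⟩ ⟨x, hx, rfl⟩
    rw [hbot, Subgroup.mem_bot] at h1
    exact Subtype.ext h1
  have hpS : IsPGroup p ↥S := sit.isPGroup
  have hpQ : IsPGroup p ↥Q := hpS.to_subgroup Q
  have hcomm : IsMulCommutative ↥Q := ⟨⟨fun a b => by
    have := hFr _ (CfsgLib.Coprime.commutator_le_frattini hpQ
      (Subgroup.commutator_mem_commutator (Subgroup.mem_top a) (Subgroup.mem_top b)))
    exact commutatorElement_eq_one_iff_mul_comm.1 this⟩⟩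
  have hiff := (Cfsg.Agent.S3007.result ↥S hpS Q Q hQ hQ).2.2.2.2 hcomm
  exact ⟨hiff, Q, (hiff Q).1 hQ, hcomm, fun a ha =>
    congrArg Subtype.val (hFr _ (CfsgLib.Coprime.pow_mem_frattini hpQ ⟨a, ha⟩))⟩

end Cfsg.Agent.S2989
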