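import Cfsg.Statements.S1984
import Cfsg.Agent.Lib.CFun.SectionInd
import Cfsg.Agent.S1972
import Cfsg.Agent.S1983
import Cfsg.Agent.Lib.CFun.KFunctor
import Cfsg.Agent.Lib.CFun.Degree

set_option autoImplicit false
universe u
open Cfsg

namespace Cfsg.Agent.S1984

/-- Let p ≥ 5 be a prime and G a finite group. Then the lower K-infinity subgroup controls transfer in G: for some (equivalently, every) Sylow p-subgroup S of G, S ∩ G' = S ∩ (N_G(K))', where K is the lower K-infinity subgroup of S. -/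
theorem result {G : Type u} [Group G] [Finite G] {p : ℕ} [Fact p.Prime] (hp : 5 ≤ p) : Cfsg.ControlsTransferIn p (Cfsg.inducedFunctor (G := G) Cfsg.kInfLower) ⊤ := by
  have hW : Cfsg.IsCharPFunctor.{u} p Cfsg.kInfLower := CfsgLib.CFun.kInfLower_isCharPFunctor
  have hloc : ∀ (K R : Subgroup G) [hR : (R.subgroupOf K).Normal],
      CfsgLib.CFun.Ctrl p ({Cfsg.kInfLower} : Set _) (↥K ⧸ R.subgroupOf K) := by
    intro K R hR
    exact CfsgLib.CFun.controlsTransferIn_iff_ctrl.1 (Cfsg.Agent.S1972.result Cfsg.kInfLower hW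
      (fun K R _ _ T hn => by
        obtain ⟨g, h1, h2, h3, -, -⟩ := Cfsg.Agent.S1983.result T (Or.inl hn)
        refine ⟨g, h1, h2, fun U V hc hU => ?_⟩
        haveI := hc.2.1
        exact (CfsgLib.CFun.iterCommutator_antitone
          (le_top.trans (Subgroup.normalizer_eq_top U).ge) (by omega : 4 ≤ p - 1)).trans
            (h3 U V hc hU)) K R)
  haveI : ((⊥ : Subgroup G).subgroupOf ⊤).Normal := by
    rw [Subgroup.bot_subgroupOf]; infer_instance
  refine CfsgLib.CFun.controlsTransferIn_iff_ctrl.2 (CfsgLib.CFun.ctrl_congr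
    (fun W' hW' => Set.mem_singleton_iff.1 hW' ▸ hW) ?_ (hloc ⊤ ⊥))
  exact (QuotientGroup.quotientMulEquivOfEq (Subgroup.bot_subgroupOf (⊤ : Subgroup G))).trans
    (QuotientGroup.quotientBot.trans Subgroup.topEquiv)

end Cfsg.Agent.S1984
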