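import Cfsg.Statements.S3224
import Cfsg.Agent.Lib.Invol.Taussky


set_option autoImplicit false
open Cfsg

namespace Cfsg.Agent.S3224

open scoped commutatorElement

/-- A finite 2-group containing an involution whose centralizer has order 4 is dihedral, quasi-dihedral (semidihedral), or of order 4. -/
theorem result {S : Type*} [Group S] [Finite S] (hS : IsPGroup 2 S)
    (x : S) (hx : orderOf x = 2) (hC : Nat.card ↥(Subgroup.centralizer ({x} : Set S)) = 4) :
    (∃ n : ℕ, Nonempty (S ≃* DihedralGroup n)) ∨ Cfsg.IsQuasiDihedral S ∨ Nat.card S = 4 := by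
  haveI : Fact (Nat.Prime 2) := ⟨Nat.prime_two⟩
  set C := Subgroup.centralizer ({x} : Set S) with hCdef
  by_cases hab : IsMulCommutative S
  · refine Or.inr (Or.inr ?_)
    have hC' : C = ⊤ := top_le_iff.1 fun y _ =>
      Subgroup.mem_centralizer_singleton_iff.2 (mul_comm' y x)
    rwa [hC', Subgroup.card_top] at hC
  have hcard : Nat.card S ≤ 4 * Nat.card (commutator S) := by
    rw [← C.card_mul_index, hC]
    refine Nat.mul_le_mul_left 4 ?_
    let f : S ⧸ C → commutator S := Quotient.lift (fun g : S => (⟨g * x * g⁻¹ * x⁻¹, by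
        rw [← commutatorElement_def]
        exact Subgroup.commutator_mem_commutator (Subgroup.mem_top g) (Subgroup.mem_top x)⟩ : commutator S))
      (fun g h hgh => by
        have h1 : g⁻¹ * h ∈ C := QuotientGroup.leftRel_apply.1 hgh
        have h2 : g⁻¹ * h * x = x * (g⁻¹ * h) := Subgroup.mem_centralizer_singleton_iff.1 h1
        refine Subtype.ext ?_
        show g * x * g⁻¹ * x⁻¹ = h * x * h⁻¹ * x⁻¹
        rw [show h * x * h⁻¹ = g * (g⁻¹ * h * x) * h⁻¹ by group, h2]
        group)
    refine Nat.card_le_card_of_injective f fun q q' hqq' => ?_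
    obtain ⟨g, rfl⟩ := QuotientGroup.mk_surjective q
    obtain ⟨h, rfl⟩ := QuotientGroup.mk_surjective q'
    have h1 : g * x * g⁻¹ * x⁻¹ = h * x * h⁻¹ * x⁻¹ := congrArg Subtype.val hqq'
    refine QuotientGroup.eq.2 (Subgroup.mem_centralizer_singleton_iff.2 ?_)
    rw [mul_left_inj] at h1
    calc g⁻¹ * h * x = g⁻¹ * (h * x * h⁻¹) * h := by group
      _ = g⁻¹ * (g * x * g⁻¹) * h := by rw [h1]
      _ = x * (g⁻¹ * h) := by group
  obtain ⟨k, r, e, a, b, hstd, F⟩ := CfsgLib.Invol.exists_std_frame hS hab hcard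
  rcases hstd with ⟨hk, ⟨rfl, rfl | rfl⟩ | ⟨hk3, rfl, rfl⟩⟩
  · exact Or.inl ⟨_, F.dihedralEquiv⟩
  · refine Or.inr (Or.inr ?_)
    -- the only involution of a generalized quaternion group is central
    have h2k : (2 : ℤ) * 2 ^ (k - 1) = 2 ^ k := CfsgLib.Invol.two_mul_pow_pred (by omega)
    have hxC : ∀ y : S, y * x = x * y := by
      obtain ⟨i, rfl | rfl⟩ := F.exists_eq x
      · have hi : a ^ (2 * i) = 1 := by
          rw [mul_comm, zpow_mul, zpow_two, ← pow_two, ← hx, pow_orderOf_eq_one]
        rw [F.zpow_eq_one_iff] at hi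
        push_cast at hi
        have hinv : a ^ (-1 * i) = a ^ i := by
          rw [F.zpow_eq_iff, ZMod.intCast_eq_intCast_iff_dvd_sub]
          push_cast
          rw [show i - -1 * i = 2 * i by ring]; exact hi
        intro y
        obtain ⟨j, rfl | rfl⟩ := F.exists_eq y
        · rw [← zpow_add, ← zpow_add, add_comm]
        · rw [F.ref_mul_rot, CfsgLib.Invol.CyclicFrame.rot_mul_ref, add_comm, zpow_add, hinv,
            ← zpow_add]
      · exfalso
        have h1 : (a ^ i * b) ^ 2 = 1 := by rw [← hx, pow_orderOf_eq_one]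
        rw [F.ref_sq, F.zpow_eq_one_iff] at h1
        push_cast at h1
        norm_num at h1
        rw [← h2k] at h1
        have h5 : (0 : ℤ) < 2 ^ (k - 1) := by positivity
        have := Int.le_of_dvd h5 h1
        omega
    have hC' : C = ⊤ := top_le_iff.1 fun y _ => Subgroup.mem_centralizer_singleton_iff.2 (hxC y)
    rwa [hC', Subgroup.card_top] at hC
  · exact Or.inr (Or.inl (CfsgLib.Invol.isQuasiDihedral_of_frame hk3 F))

end Cfsg.Agent.S3224
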