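import Cfsg.Statements.S4157
-- import your own Cfsg.Agent.* helpers here
import Cfsg.Agent.Lib.PGroup.Kulakoff
import Cfsg.Agent.Lib.PGroup.MillerTwo
set_option autoImplicit false
open Cfsg

namespace Cfsg.Agent.S4157


/-- Let G be a finite p-group of order p^m that is not cyclic and, when p = 2, not of maximal class (nilpotency class m − 1). Then for every 1 ≤ k < m the number of subgroups of G of order p^k is congruent to 1 + p modulo p². -/
theorem result {G : Type*} [Group G] [Finite G] {p : ℕ} [Fact p.Prime] (m : ℕ)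
    (hG : Nat.card G = p ^ m) (hnc : ¬ IsCyclic G) (h2 : p = 2 → Group.nilpotencyClass G ≠ m - 1)
    (k : ℕ) (hk1 : 1 ≤ k) (hk2 : k < m) :
    Nat.card {H : Subgroup G // Nat.card H = p ^ k} ≡ 1 + p [MOD p ^ 2] := by
  have h := CfsgLib.PGroup.Kulakoff.card_subgroups_add (p := p) k
    (hG ▸ pow_dvd_pow p (show k + 1 ≤ m by omega))
  obtain ⟨d, hd⟩ : p ∣ Nat.card {H : Subgroup G // IsCyclic H ∧ Nat.card H = p ^ (k + 1)} := by
    refine CfsgLib.PGroup.Kulakoff.prime_dvd_of_pow_dvd_totient_mul (s := k + 1) (by omega) ?_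
    rw [← CfsgLib.PGroup.Miller.card_orderOf_eq_mul]
    rcases eq_or_ne p 2 with rfl | hp2
    · exact CfsgLib.PGroup.Miller.two_dvd_card_orderOf hG hnc (h2 rfl) (by omega)
    · exact CfsgLib.PGroup.Miller.dvd_card_orderOf (IsPGroup.of_card hG) hp2 hnc (by omega)
  rw [hd, ← mul_assoc, ← pow_two] at h
  exact Nat.ModEq.trans (by simp [Nat.ModEq]) h

end Cfsg.Agent.S4157
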