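import Cfsg.Statements.S3008
import Cfsg.Agent.Lib.PGroup.MCLNormal
-- import your own Cfsg.Agent.* helpers here

set_option autoImplicit false
open Cfsg
open scoped Pointwise

namespace Cfsg.Agent.S3008

/-- Let P be a finite p-group, with J(P) generated by its abelian subgroups of largest order and J̃(P) = C_P(Z(J(P))); call R ≤ P centrally large if |R|·|Z(R)| is as large as possible, and let P_MCL be generated by the minimal centrally large subgroups. Then: for every centrally large Q, Q·J(P) ⊇ J̃(P); some minimal centrally large subgroup of P is normalized by both J(P) and P_MCL; if P = J(P) and d(P)² = |P|·|Z(P)|, where d(P) is the largest order of an abelian subgroup, then every minimal centrally large subgroup of P is abelian; and if every minimal centrally large subgroup is abelian then J̃(P) = J(P). -/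
theorem result {p : ℕ} [Fact p.Prime] (P : Type*) [Group P] [Finite P] (hP : IsPGroup p P) : (∀ Q : Subgroup P, Cfsg.IsCentrallyLarge Q → Subgroup.centralizer ((Cfsg.thompsonSubgroupA P ⊓ Subgroup.centralizer (Cfsg.thompsonSubgroupA P : Set P) : Subgroup P) : Set P) ≤ Q ⊔ Cfsg.thompsonSubgroupA P) ∧ (∃ Q : Subgroup P, Cfsg.IsMinimalCentrallyLarge Q ∧ Cfsg.thompsonSubgroupA P ≤ Subgroup.normalizer (Q : Set P) ∧ Cfsg.minimalCentrallyLargeJoin P ≤ Subgroup.normalizer (Q : Set P)) ∧ (Cfsg.thompsonSubgroupA P = ⊤ → (∀ A ∈ Cfsg.maxAbelianSubgroups P, Nat.card ↥A ^ 2 = Nat.card P * Nat.card ↥(Subgroup.center P)) → ∀ Q : Subgroup P, Cfsg.IsMinimalCentrallyLarge Q → IsMulCommutative ↥Q) ∧ ((∀ Q : Subgroup P, Cfsg.IsMinimalCentrallyLarge Q → IsMulCommutative ↥Q) → Subgroup.centralizer ((Cfsg.thompsonSubgroupA P ⊓ Subgroup.centralizer (Cfsg.thompsonSubgroupA P : Set P) : Subgroup P) : Set P) = Cfsg.thompsonSubgroupA P) := by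
  have hJsup : ∀ M : Subgroup P, Cfsg.IsCentrallyLarge M → Cfsg.IsCentrallyLarge (M ⊔ Cfsg.thompsonSubgroupA P) :=
    fun M hM => CfsgLib.CDLat.cl_sup_sSup hM fun A hA M' hM' => (CfsgLib.CDLat.cl_sup_maxAbelian hM' hA).2.1
  have hCJ : Subgroup.centralizer (Cfsg.thompsonSubgroupA P : Set P) ≤ Cfsg.thompsonSubgroupA P := by
    obtain ⟨A, hA⟩ := CfsgLib.CDLat.maxAbelian_nonempty (G := P)
    exact (Subgroup.centralizer_le (le_sSup hA : A ≤ Cfsg.thompsonSubgroupA P)).trans
      ((CfsgLib.CDLat.centralizer_eq_of_maxAbelian hA).le.trans (le_sSup hA))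
  rw [inf_eq_right.2 hCJ]
  have mclJoin : ∃ Q : Subgroup P, Cfsg.IsMinimalCentrallyLarge Q ∧
      Cfsg.thompsonSubgroupA P ≤ Subgroup.normalizer (Q : Set P) ∧
      Cfsg.minimalCentrallyLargeJoin P ≤ Subgroup.normalizer (Q : Set P) := by
    obtain ⟨B, hB, hN⟩ := CfsgLib.CDLat.exists_normalized hP
    have hNQ : Subgroup.normalizer (B : Set P) ≤
        Subgroup.normalizer ((Subgroup.centralizer (B : Set P) : Subgroup P) : Set P) := fun g hg => by
      rw [← CfsgLib.CDLat.cj_eq_iff] at hg ⊢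
      rw [CfsgLib.CDLat.cj, ← CfsgLib.CDLat.centralizer_map_conj]
      exact congrArg (fun X : Subgroup P => Subgroup.centralizer (X : Set P)) hg
    refine ⟨_, hB.mcl, sSup_le fun A hA => (hN A (CfsgLib.CDLat.isPermuting_maxAbelian hA)).trans hNQ,
      sSup_le fun R hR => ?_⟩
    have hCR := CfsgLib.CDLat.isTopIso_centralizer hR
    have hperm : CfsgLib.CDLat.IsPermuting (Subgroup.centralizer (R : Set P)) := ⟨hCR.1.2,
      fun K hK a ha k hk => by
        have hmem : a * k * a⁻¹ ∈ ((K ⊔ Subgroup.centralizer (R : Set P) : Subgroup P) : Set P) :=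
          mul_mem (mul_mem (Subgroup.mem_sup_right ha) (Subgroup.mem_sup_left hk))
            (inv_mem (Subgroup.mem_sup_right ha))
        rw [(CfsgLib.CDLat.large_pair hK.1 hCR.1.1).1] at hmem
        obtain ⟨k', hk', α, hα, e⟩ := hmem
        exact ⟨k', hk', α, hα, e.symm⟩⟩
    have g := (CfsgLib.CDLat.large_pair (CfsgLib.CDLat.cl_iff.1 hR.1).1
      (CfsgLib.CDLat.cl_iff.1 hB.mcl.1).1)
    obtain ⟨hRl, hRc⟩ := CfsgLib.CDLat.cl_iff.1 hR.1
    obtain ⟨hQl, hQc⟩ := CfsgLib.CDLat.cl_iff.1 hB.mcl.1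
    obtain ⟨-, -, hI, hCI⟩ := g
    have hsplit : R ⊓ Subgroup.centralizer (B : Set P) ⊔ Subgroup.centralizer (R : Set P) = R := by
      obtain ⟨hC, hRR⟩ := CfsgLib.CDLat.centralizer_large hRl
      refine hR.2 _ (sup_le inf_le_left hRc) (CfsgLib.CDLat.cl_iff.2 ⟨(CfsgLib.CDLat.large_pair hI hC).2.1, ?_⟩)
      rw [CfsgLib.CDLat.centralizer_sup, ← hRR]
      intro x hx
      obtain ⟨a, ha, b, hb, rfl⟩ := (hCI ▸ hx.1 : x ∈
        (Subgroup.centralizer (R : Set P) : Set P) *
          (Subgroup.centralizer ((Subgroup.centralizer (B : Set P) : Subgroup P) : Set P) : Set P))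
      exact mul_mem (Subgroup.mem_sup_right ha) (Subgroup.mem_sup_left
        ⟨by simpa using R.mul_mem (R.inv_mem (hRc ha)) hx.2, hQc hb⟩)
    rw [← hsplit]
    exact sup_le (inf_le_right.trans Subgroup.le_normalizer) ((hN _ hperm).trans hNQ)
  refine ⟨fun Q hQ => ?_, mclJoin, fun hJ hsq Q hQ => ?_, fun hall => ?_⟩
  · obtain ⟨hl, hc⟩ := CfsgLib.CDLat.cl_iff.1 (hJsup Q hQ)
    refine (Subgroup.centralizer_le ?_).trans (CfsgLib.CDLat.centralizer_large hl).2.ge
    exact Subgroup.centralizer_le (le_sup_right : Cfsg.thompsonSubgroupA P ≤ Q ⊔ _)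
  · -- `P` and every largest abelian subgroup are centrally large
    obtain ⟨A, hA⟩ := CfsgLib.CDLat.maxAbelian_nonempty (G := P)
    haveI := hA.1
    have htop : Cfsg.IsCentrallyLarge (⊤ : Subgroup P) := by
      have := hJsup Q hQ.1
      rwa [hJ, sup_top_eq] at this
    have hAcl : Cfsg.IsCentrallyLarge A := by
      refine Eq.trans ?_ htop
      rw [CfsgLib.CDLat.card_center_eq, CfsgLib.CDLat.card_center_eq,
        inf_eq_left.2 (Subgroup.le_centralizer A), ← pow_two, hsq A hA, Subgroup.card_top, top_inf_eq,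
        Subgroup.coe_top, Subgroup.centralizer_univ]
    obtain ⟨R, hRA, hR⟩ := CfsgLib.CDLat.exists_mcl_le hAcl
    have hRab : ⁅R, R⁆ = ⊥ := Subgroup.commutator_eq_bot_iff_le_centralizer.2
      (hRA.trans ((Subgroup.le_centralizer A).trans (Subgroup.centralizer_le hRA)))
    have hQab : ⁅Q, Q⁆ = ⊥ := (Cfsg.Agent.S3007.result P hP Q R hQ hR).2.1.trans hRab
    exact Subgroup.le_centralizer_iff_isMulCommutative.1
      (Subgroup.commutator_eq_bot_iff_le_centralizer.1 hQab)
  · obtain ⟨Q0, hQ0⟩ := CfsgLib.CDLat.exists_cl (G := P)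
    obtain ⟨R, -, hR⟩ := CfsgLib.CDLat.exists_mcl_le hQ0
    have hiff := (Cfsg.Agent.S3007.result P hP R R hR hR).2.2.2.2 (hall R hR)
    have hJcl : Cfsg.IsCentrallyLarge (Cfsg.thompsonSubgroupA P) :=
      CfsgLib.CDLat.cl_sSup ⟨R, (hiff R).1 hR⟩ fun A hA => ((hiff A).2 hA).1
    exact (CfsgLib.CDLat.centralizer_large (CfsgLib.CDLat.cl_iff.1 hJcl).1).2.symm

end Cfsg.Agent.S3008
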