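import Cfsg.Statements.S0562
import Cfsg.Agent.Lib.Coprime.Factorization

set_option autoImplicit false
open Cfsg

namespace Cfsg.Agent.S0562

/-- Let the finite group G be the product HK of subgroups, A normal in H, B normal in K, and L the normalizer of the subgroup generated by A and B. Then every element of L is a product of an element of L ∩ H and an element of L ∩ K. -/
theorem result {G : Type*} [Group G] [Finite G] (H K A B : Subgroup G) (hHK : ∀ g : G, ∃ h ∈ H, ∃ k ∈ K, g = h * k) (hA : A ≤ H) (hAn : (A.subgroupOf H).Normal) (hB : B ≤ K) (hBn : (B.subgroupOf K).Normal) : ∀ g ∈ Subgroup.normalizer ((A ⊔ B : Subgroup G) : Set G), ∃ h ∈ Subgroup.normalizer ((A ⊔ B : Subgroup G) : Set G) ⊓ H, ∃ k ∈ Subgroup.normalizer ((A ⊔ B : Subgroup G) : Set G) ⊓ K, g = h * k := by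
  intro g hg
  obtain ⟨h, hh, k, hk, rfl⟩ := hHK g
  have hhn : h ∈ Subgroup.normalizer ((A ⊔ B : Subgroup G) : Set G) := by
    rw [← CfsgLib.Coprime.conjBy_eq_self_iff]
    refine Subgroup.eq_of_le_of_card_ge ?_ (by rw [CfsgLib.Coprime.card_conjBy])
    rw [CfsgLib.Coprime.conjBy, Subgroup.map_sup]
    refine sup_le ?_ ?_
    · rw [show A.map (MulAut.conj h).toMonoidHom = A from
        CfsgLib.Coprime.conjBy_of_normal_subgroupOf hA hAn hh]
      exact le_sup_left
    · calc CfsgLib.Coprime.conjBy h B = CfsgLib.Coprime.conjBy (h * k) B := by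
            rw [← CfsgLib.Coprime.conjBy_conjBy h k,
              CfsgLib.Coprime.conjBy_of_normal_subgroupOf hB hBn hk]
        _ ≤ CfsgLib.Coprime.conjBy (h * k) (A ⊔ B) := Subgroup.map_mono le_sup_right
        _ = A ⊔ B := CfsgLib.Coprime.conjBy_eq_self_iff.2 hg
  refine ⟨h, ⟨hhn, hh⟩, k, ⟨?_, hk⟩, rfl⟩
  have := Subgroup.mul_mem _ (Subgroup.inv_mem _ hhn) hg
  rwa [inv_mul_cancel_left] at this

end Cfsg.Agent.S0562
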