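import Cfsg.Statements.S0566
import Cfsg.Agent.Lib.Coprime.Core
import Mathlib.Tactic.Group

set_option autoImplicit false
open Pointwise
open Cfsg

namespace Cfsg.Agent.S0566

open Pointwise Subgroup

universe v

variable {G : Type v} [Group G] [Finite G]

/-- `A B^x` is a proper subgroup for every `x`. -/
def Prop' (A B : Subgroup G) : Prop :=
  ∀ x : G, ∃ S : Subgroup G, S ≠ ⊤ ∧ (S : Set G) = (A : Set G) * ((MulAut.conj x • B : Subgroup G) : Set G)

theorem mem_conj' {x y : G} {B : Subgroup G} :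
    y ∈ (MulAut.conj x • B : Subgroup G) ↔ x⁻¹ * y * x ∈ B := by
  rw [Subgroup.mem_pointwise_smul_iff_inv_smul_mem]
  simp [MulAut.smul_def, MulAut.conj_inv_apply]

theorem swap {A B S : Subgroup G} (hS : (S : Set G) = (A : Set G) * (B : Set G)) :
    ∀ a ∈ A, ∀ b ∈ B, b * a ∈ (A : Set G) * (B : Set G) := by
  intro a ha b hb
  rw [← hS]
  refine S.mul_mem ?_ ?_
  · rw [← SetLike.mem_coe, hS]; exact ⟨1, A.one_mem, b, hb, one_mul b⟩
  · rw [← SetLike.mem_coe, hS]; exact ⟨a, ha, 1, B.one_mem, mul_one a⟩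

/-- A product set `C D` of subgroups is a subgroup once `D C ⊆ C D`. -/
theorem exists_subgroup {C D : Subgroup G}
    (h : ∀ c ∈ C, ∀ d ∈ D, d * c ∈ (C : Set G) * (D : Set G)) :
    ∃ S : Subgroup G, (S : Set G) = (C : Set G) * (D : Set G) :=
  ⟨{ carrier := (C : Set G) * (D : Set G)
     one_mem' := ⟨1, C.one_mem, 1, D.one_mem, one_mul 1⟩
     mul_mem' := by
       rintro _ _ ⟨c, hc, d, hd, rfl⟩ ⟨c', hc', d', hd', rfl⟩
       obtain ⟨c'', hc'', d'', hd'', e⟩ := h c' hc' d hd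
       simp only at e
       exact ⟨c * c'', C.mul_mem hc hc'', d'' * d', D.mul_mem hd'' hd', by
         simp only; rw [show c * c'' * (d'' * d') = c * (c'' * d'') * d' by group, e]; group⟩
     inv_mem' := by
       rintro _ ⟨c, hc, d, hd, rfl⟩
       simp only [mul_inv_rev]
       exact h c⁻¹ (C.inv_mem hc) d⁻¹ (D.inv_mem hd) }, rfl⟩

theorem enlarge {A B : Subgroup G} (h : Prop' A B) {x y : G}
    (hy : y ∈ (MulAut.conj x • B : Subgroup G)) :
    Prop' (A ⊔ A.map (MulAut.conj y).toMonoidHom) B := by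
  intro z
  set A' := A ⊔ A.map (MulAut.conj y).toMonoidHom with hA'
  set D : Subgroup G := MulAut.conj z • B with hD
  -- the new subgroup permutes with every conjugate of `B`
  have hperm : ∀ c ∈ A', ∀ d ∈ D, d * c ∈ (A' : Set G) * (D : Set G) := by
    obtain ⟨S₁, -, hS₁⟩ := h z
    obtain ⟨S₂, -, hS₂⟩ := h (y⁻¹ * z)
    have hgen : ∀ c ∈ (A : Set G) ∪ (A.map (MulAut.conj y).toMonoidHom : Set G), ∀ d ∈ D,
        d * c ∈ (A' : Set G) * (D : Set G) := by
      rintro c (hc | ⟨a, ha, rfl⟩) d hd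
      · obtain ⟨a', ha', d', hd', e⟩ := swap hS₁ c hc d hd
        exact ⟨a', mem_sup_left ha', d', hd', e⟩
      · have hd0 : y⁻¹ * d * y ∈ (MulAut.conj (y⁻¹ * z) • B : Subgroup G) := by
          rw [mem_conj'] at hd ⊢
          rwa [show (y⁻¹ * z)⁻¹ * (y⁻¹ * d * y) * (y⁻¹ * z) = z⁻¹ * d * z by group]
        obtain ⟨a', ha', d', hd', e⟩ := swap hS₂ a ha _ hd0
        simp only at e
        refine ⟨y * a' * y⁻¹, mem_sup_right ⟨a', ha', rfl⟩, y * d' * y⁻¹, ?_, ?_⟩
        · rw [SetLike.mem_coe, hD, mem_conj']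
          rw [SetLike.mem_coe, mem_conj'] at hd'
          rwa [show z⁻¹ * (y * d' * y⁻¹) * z = (y⁻¹ * z)⁻¹ * d' * (y⁻¹ * z) by group]
        · simp only [MulEquiv.coe_toMonoidHom, MulAut.conj_apply]
          rw [show y * a' * y⁻¹ * (y * d' * y⁻¹) = y * (a' * d') * y⁻¹ by group, e]
          group
    intro c hc
    rw [hA', sup_eq_closure, ← mem_toSubmonoid, closure_toSubmonoid_of_finite] at hc
    induction hc using Submonoid.closure_induction with
    | mem c hc => exact hgen c hc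
    | one => intro d hd; exact ⟨1, A'.one_mem, d, hd, by simp⟩
    | mul a b _ _ iha ihb =>
      intro d hd
      obtain ⟨a', ha', d', hd', e⟩ := iha d hd
      obtain ⟨b', hb', d'', hd'', e'⟩ := ihb d' hd'
      simp only at e e'
      exact ⟨a' * b', A'.mul_mem ha' hb', d'', hd'', by
        simp only; rw [mul_assoc, e', ← mul_assoc, e, mul_assoc]⟩
  obtain ⟨S, hS⟩ := exists_subgroup hperm
  refine ⟨S, fun htop => ?_, hS⟩
  obtain ⟨U, hU, hUe⟩ := h x
  have hBU : (MulAut.conj x • B : Subgroup G) ≤ U := fun b hb => by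
    rw [← SetLike.mem_coe, hUe]; exact ⟨1, A.one_mem, b, hb, one_mul b⟩
  have hAU : A ≤ U := fun a ha => by
    rw [← SetLike.mem_coe, hUe]; exact ⟨a, ha, 1, Subgroup.one_mem _, mul_one a⟩
  have hA'U : A' ≤ U := by
    refine sup_le hAU ?_
    rintro _ ⟨a, ha, rfl⟩
    exact U.mul_mem (U.mul_mem (hBU hy) (hAU ha)) (U.inv_mem (hBU hy))
  -- every element is `u d`
  have hprod : ∀ g : G, ∃ u ∈ U, ∃ d ∈ D, u * d = g := fun g => by
    have hg : g ∈ (S : Set G) := by rw [htop]; trivial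
    rw [hS] at hg
    obtain ⟨u, hu, d, hd, e⟩ := hg
    exact ⟨u, hA'U hu, d, hd, e⟩
  refine hU (eq_top_iff.2 fun g _ => ?_)
  have hDU : D ≤ U := by
    intro d hd
    obtain ⟨u, hu, d₀, hd₀, e⟩ := hprod (x * z⁻¹)
    have hd₁ : d₀ * d * d₀⁻¹ ∈ D := D.mul_mem (D.mul_mem hd₀ hd) (D.inv_mem hd₀)
    -- conjugation by `u` maps `B^z` onto `B^x`
    have key : ∀ w ∈ D, u * (d₀ * w * d₀⁻¹) * u⁻¹ ∈ U := fun w hw => hBU (by
      rw [mem_conj']
      rw [hD, mem_conj'] at hw
      rwa [show x⁻¹ * (u * (d₀ * w * d₀⁻¹) * u⁻¹) * x = x⁻¹ * (u * d₀ * w * (u * d₀)⁻¹) * x by group,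
        e, show x⁻¹ * (x * z⁻¹ * w * (x * z⁻¹)⁻¹) * x = z⁻¹ * w * z by group])
    have h1 := key (d₀⁻¹ * d * d₀) (D.mul_mem (D.mul_mem (D.inv_mem hd₀) hd) hd₀)
    rw [show d₀ * (d₀⁻¹ * d * d₀) * d₀⁻¹ = d by group] at h1
    have h2 := U.mul_mem (U.mul_mem (U.inv_mem hu) h1) hu
    rwa [show u⁻¹ * (u * d * u⁻¹) * u = d by group] at h2
  obtain ⟨u, hu, d, hd, rfl⟩ := hprod g
  exact U.mul_mem hu (hDU hd)


/-- Let A and B be nontrivial subgroups of a finite group G such that for every x the product set of A and xBx⁻¹ is a proper subgroup of G. Then there is a proper normal subgroup of G containing A or containing B. -/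
theorem result {G : Type*} [Group G] [Finite G] (A B : Subgroup G) (hA : A ≠ ⊥) (hB : B ≠ ⊥) (h : ∀ x : G, ∃ S : Subgroup G, S ≠ ⊤ ∧ (S : Set G) = (A : Set G) * ((MulAut.conj x • B : Subgroup G) : Set G)) : ∃ N : Subgroup G, N.Normal ∧ N ≠ ⊤ ∧ (A ≤ N ∨ B ≤ N) := by
  have hAP : Prop' A B := h
  obtain ⟨M, hAM, hM⟩ := exists_maximal_ge_of_wellFoundedGT (fun M : Subgroup G => Prop' M B) A hAP
  have hnorm : ∀ x : G, (MulAut.conj x • B : Subgroup G) ≤ Subgroup.normalizer (M : Set G) := by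
    intro x y hy
    have h1 := hM.le_of_ge (enlarge hM.prop hy) le_sup_left
    refine Subgroup.mem_normalizer_iff.2 fun m => ?_
    have hle : M.map (MulAut.conj y).toMonoidHom ≤ M := le_sup_right.trans h1
    have heq := Subgroup.eq_of_le_of_card_ge hle
      (Subgroup.card_map_of_injective (MulAut.conj y).injective).ge
    constructor
    · intro hm; exact hle ⟨m, hm, rfl⟩
    · intro hm
      rw [← heq] at hm
      obtain ⟨m', hm', e⟩ := hm
      simp only [MulEquiv.coe_toMonoidHom, MulAut.conj_apply] at e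
      rwa [← mul_left_cancel (mul_right_cancel e)]
  set N := Subgroup.normalClosure (B : Set G) with hN
  have hNM : N ≤ Subgroup.normalizer (M : Set G) := by
    rw [hN, Subgroup.normalClosure, Subgroup.closure_le]
    intro g hg
    obtain ⟨b, hb, hbg⟩ := Group.mem_conjugatesOfSet_iff.1 hg
    obtain ⟨c, rfl⟩ := isConj_iff.1 hbg
    refine hnorm c ?_
    rw [mem_conj']
    simpa [mul_assoc] using hb
  by_cases hNtop : N = ⊤
  · have hMn : M.Normal := Subgroup.normalizer_eq_top_iff.1 (top_le_iff.1 (hNtop ▸ hNM))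
    refine ⟨M, hMn, fun e => ?_, Or.inl hAM⟩
    obtain ⟨S, hS, hSe⟩ := hM.prop 1
    refine hS (eq_top_iff.2 fun g _ => ?_)
    rw [← SetLike.mem_coe, hSe, e]
    exact ⟨g, trivial, 1, Subgroup.one_mem _, mul_one g⟩
  · exact ⟨N, Subgroup.normalClosure_normal, hNtop, Or.inr Subgroup.subset_normalClosure⟩

end Cfsg.Agent.S0566
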