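import Cfsg.Statements.S3763
import Cfsg.Agent.Lib.PGroup.InvolutionCount
-- import your own Cfsg.Agent.* helpers here

set_option autoImplicit false
open Cfsg

namespace Cfsg.Agent.S3763

/-- Let E be an extraspecial 2-group of order 2^(2n+1). Then the largest elementary abelian subgroups of E have order 2^n or 2^(n+1); and two extraspecial 2-groups of the same order whose largest elementary abelian subgroups have the same order are isomorphic. -/
theorem result {E : Type*} [Group E] [Finite E] (hE : Cfsg.IsExtraspecial 2 E) (n : ℕ) (hn : Nat.card E = 2 ^ (2 * n + 1)) : ((Cfsg.PRankLE 2 n E ∧ ¬ Cfsg.PRankLE 2 (n - 1) E) ∨ (Cfsg.PRankLE 2 (n + 1) E ∧ ¬ Cfsg.PRankLE 2 n E)) ∧ ∀ (E' : Type*) [Group E'] [Finite E'], Cfsg.IsExtraspecial 2 E' → Nat.card E' = Nat.card E → (∀ k : ℕ, Cfsg.PRankLE 2 k E ↔ Cfsg.PRankLE 2 k E') → Nonempty (E ≃* E') := by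
  haveI := Fact.mk Nat.prime_two
  obtain ⟨hs, z, hz, hz1⟩ := CfsgLib.PGroup.smallCenter_of_extraspecial hE
  have hn1 : 1 ≤ n := by
    obtain ⟨m, hm, hcard⟩ := CfsgLib.PGroup.extraspecial_card hE
    have := Nat.pow_right_injective (le_refl 2) (hn.symm.trans hcard)
    omega
  have hp : (0 : ℤ) < 2 ^ (n + 1) := by positivity
  refine ⟨?_, ?_⟩
  · simp only [hs.rank_le_iff hn]
    rcases hs.signSum_cases hn with e | e
    · right; omega
    · left; omega
  · intro E' _ _ hE' hc hrank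
    obtain ⟨hs', z', hz', hz'1⟩ := CfsgLib.PGroup.smallCenter_of_extraspecial hE'
    have hn' : Nat.card E' = 2 ^ (2 * n + 1) := hc.trans hn
    have hr := hrank n
    rw [hs.rank_le_iff hn, hs'.rank_le_iff hn'] at hr
    have hS : CfsgLib.PGroup.signSum E = CfsgLib.PGroup.signSum E' := by
      rcases hs.signSum_cases hn with e | e <;> rcases hs'.signSum_cases hn' with e' | e'
      · rw [e, e']
      · rcases hr.2 (Or.inr ⟨e', le_rfl⟩) with ⟨_, h2⟩ | ⟨h1, _⟩
        · omega
        · rw [h1, e']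
      · rcases hr.1 (Or.inr ⟨e, le_rfl⟩) with ⟨_, h2⟩ | ⟨h1, _⟩
        · omega
        · rw [h1, e]
      · rw [e, e']
    obtain ⟨e, -⟩ := CfsgLib.PGroup.exists_equiv_of_signSum n hn1 E E' hs hs' hn hn'
      hS z hz hz1 z' hz' hz'1
    exact ⟨e⟩

end Cfsg.Agent.S3763
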