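import Cfsg.Statements.S0640
import Cfsg.Agent.Lib.PGroup.RankTwoOmega
import Cfsg.Agent.Lib.CFun.Critical
import Cfsg.Agent.Lib.PGroup.OmegaOddAut

set_option autoImplicit false
open Cfsg

namespace Cfsg.Agent.S0640

universe w

/-- Restriction of automorphisms to a characteristic subgroup. -/
def restrictHom {X : Type*} [Group X] (K : Subgroup X) [hK : K.Characteristic] :
    MulAut X →* MulAut K :=
  MonoidHom.mk' (fun φ => (φ.subgroupMap K).trans
    (MulEquiv.subgroupCongr (Subgroup.characteristic_iff_map_eq.1 hK φ))) fun _ _ => by ext; rfl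

theorem restrictHom_coe {X : Type*} [Group X] (K : Subgroup X) [K.Characteristic] (φ : MulAut X)
    (x : K) : ((restrictHom K φ x : K) : X) = φ x := rfl

variable {p q : ℕ} [Fact p.Prime] [Fact q.Prime]

theorem count_step (hqp : q ≠ p) {X : Type*} [Group X] [Finite X] (γ : MulAut X) (hγ : γ ^ q = 1)
    (hne : γ ≠ 1) (hX : IsPGroup p X) :
    ∃ a b : ℕ, Nat.card X = p ^ a ∧ b < a ∧ q ∣ p ^ (a - b) - 1 ∧
      (b = 0 → ∀ x, γ x = x → x = 1) := by
  let F : Subgroup X :=
    { carrier := {x | γ x = x}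
      one_mem' := map_one γ
      mul_mem' := fun {x y} hx hy => by show γ (x * y) = x * y; rw [map_mul, hx, hy]
      inv_mem' := fun {x} hx => by show γ x⁻¹ = x⁻¹; rw [map_inv, hx] }
  obtain ⟨a, ha⟩ := hX.exists_card_eq
  obtain ⟨b, hb⟩ := (hX.to_subgroup F).exists_card_eq
  have hlt : Nat.card F < Nat.card X := lt_of_le_of_ne (Subgroup.card_le_card_group F) fun e => hne
    (MulEquiv.ext fun x => (Subgroup.eq_top_of_card_eq F e ▸ Subgroup.mem_top x : x ∈ F))
  rw [ha, hb] at hlt
  have hba : b < a := (Nat.pow_lt_pow_iff_right (Fact.out : p.Prime).one_lt).1 hlt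
  refine ⟨a, b, ha, hba, ?_, fun h0 x hx => ?_⟩
  · have hQ : IsPGroup q (Subgroup.zpowers γ) := by
      refine IsPGroup.of_card (n := 1) ?_
      rw [Nat.card_zpowers, orderOf_eq_prime hγ hne, pow_one]
    have hmod := hQ.card_modEq_card_fixedPoints X
    have hfix : Nat.card (MulAction.fixedPoints (Subgroup.zpowers γ) X) = Nat.card F := by
      refine Nat.card_congr (Equiv.subtypeEquivRight fun x => ⟨fun h => ?_, fun h g => ?_⟩)
      · exact h ⟨γ, Subgroup.mem_zpowers γ⟩
      · obtain ⟨i, hi⟩ := g.2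
        show (g : MulAut X) x = x
        have hmem : ∀ g ∈ Subgroup.zpowers γ, g x = x := fun g hg => by
          have hle : Subgroup.zpowers γ ≤ MulAction.stabilizer (MulAut X) x :=
            Subgroup.zpowers_le.2 h
          exact hle hg
        exact hmem g g.2
    rw [hfix, ha, hb] at hmod
    have hd := (Nat.modEq_iff_dvd' (Nat.pow_le_pow_right (Fact.out : p.Prime).pos hba.le)).1 hmod.symm
    rw [show p ^ a = p ^ b * p ^ (a - b) by rw [← pow_add]; congr 1; omega,
      ← Nat.mul_sub_one] at hd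
    exact (Nat.Coprime.dvd_of_dvd_mul_left
      (((Nat.coprime_primes Fact.out Fact.out).2 hqp).pow_right b) hd)
  · rw [h0, pow_zero] at hb
    exact (Subgroup.eq_bot_iff_forall F).1 (Subgroup.card_eq_one.1 hb) x hx

theorem dvd_sq_sub_one {k : ℕ} (hk : k = 1 ∨ k = 2) (h : q ∣ p ^ k - 1) : q ∣ p ^ 2 - 1 := by
  rcases hk with rfl | rfl
  · exact h.trans (by simpa using Nat.sub_one_dvd_pow_sub_one p 2)
  · exact h

theorem aut_prime {R : Type w} [Group R] [Finite R] {p : ℕ} [hpf : Fact p.Prime] (hp : p ≠ 2)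
    (hR : IsPGroup p R) (hrk : Cfsg.PRankLE p 2 R) (q : ℕ) (hq : q.Prime) (hqp : q ≠ p)
    (hdvd : q ∣ Nat.card (MulAut R)) : q ∣ p ^ 2 - 1 ∧ q < p := by
  classical
  haveI := Fact.mk hq
  suffices hmain : q ∣ p ^ 2 - 1 by
    refine ⟨hmain, ?_⟩
    have hp2 := (Fact.out : p.Prime).two_le
    rw [show p ^ 2 - 1 = (p + 1) * (p - 1) by
      rw [← Nat.sq_sub_sq p 1, one_pow]] at hmain
    rcases hq.dvd_mul.1 hmain with h | h
    · by_contra hle
      obtain ⟨k, hk⟩ := h
      rcases Nat.lt_or_ge k 2 with hk2 | hk2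
      · have : k = 1 := by
          rcases Nat.eq_zero_or_pos k with rfl | h0
          · omega
          · omega
        subst this
        have hev : Even q := by
          rw [mul_one] at hk
          rw [← hk]
          exact ((Fact.out : p.Prime).odd_of_ne_two hp).add_one
        have := (hq.even_iff).1 hev
        omega
      · have : q * 2 ≤ q * k := Nat.mul_le_mul_left q hk2
        omega
    · exact lt_of_le_of_lt (Nat.le_of_dvd (by omega) h) (by omega)
  haveI : Finite (MulAut R) := Finite.of_injective (fun f : MulAut R => (f : R → R))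
    DFunLike.coe_injective
  obtain ⟨α, hα⟩ := exists_prime_orderOf_dvd_card' q hdvd
  have hα1 : α ≠ 1 := fun e => hq.ne_one (by rw [← hα, e, orderOf_one])
  have hcop : (orderOf α).Coprime p := hα ▸ (Nat.coprime_primes hq Fact.out).2 hqp
  obtain ⟨C, hC, hCc⟩ := CfsgLib.CFun.exists_critical hR
  obtain ⟨hCh, -, hCcc, hPC⟩ := hC
  haveI := hCh
  have hne₁ : restrictHom C α ≠ 1 := fun e => hα1 (CfsgLib.CFun.eq_one_of_fixes_critical hR
    (hPC.trans inf_le_left) hCc α hcop fun c hc => by
      have := congrArg (fun ψ : MulAut C => (ψ ⟨c, hc⟩ : R)) e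
      simpa [restrictHom_coe] using this)
  have hq₁ : restrictHom C α ^ q = 1 := by rw [← map_pow, ← hα, pow_orderOf_eq_one, map_one]
  set α₁ := restrictHom C α
  -- the elements of order `p`
  have hcl : ⁅commutator C, (⊤ : Subgroup C)⁆ = ⊥ := by
    rw [Subgroup.commutator_eq_bot_iff_le_centralizer, _root_.commutator_def]
    intro g hg
    have hg' : (g : R) ∈ ⁅C, C⁆ := by
      have := Subgroup.mem_map_of_mem C.subtype hg
      rwa [Subgroup.map_commutator, ← MonoidHom.range_eq_map, Subgroup.range_subtype] at this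
    exact Subgroup.mem_centralizer_iff.2 fun h _ =>
      Subtype.ext (Subgroup.mem_centralizer_iff.1 (hCcc hg') h h.2)
  set D := Subgroup.closure {x : C | x ^ p = 1} with hD
  have hDexp : ∀ x ∈ D, x ^ p = 1 := fun x hx =>
    CfsgLib.PGroup.pow_eq_one_of_mem_closure (fun a b ha hb => by
      obtain ⟨c, u, v, -, hu, hv, Dt⟩ := CfsgLib.PGroup.exists_classThreeData
        (by rw [hcl]; exact Subgroup.commutator_bot_left _) a b
      rw [hcl, Subgroup.mem_bot] at hu hv
      exact Dt.mul_pow_eq_one Fact.out hp (Or.inr ⟨hu, hv⟩) ha hb) hx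
  haveI hDch : D.Characteristic := by
    refine Subgroup.characteristic_iff_map_le.2 fun φ => ?_
    rw [hD, MonoidHom.map_closure]
    refine Subgroup.closure_mono ?_
    rintro _ ⟨x, hx, rfl⟩
    show (φ x) ^ p = 1
    rw [← map_pow, show x ^ p = 1 from hx, map_one]
  have hcop₁ : (orderOf α₁).Coprime p := by
    rw [orderOf_eq_prime hq₁ hne₁]; exact (Nat.coprime_primes hq Fact.out).2 hqp
  have hne₂ : restrictHom D α₁ ≠ 1 := fun e => hne₁
    (CfsgLib.PGroup.mulAut_eq_one_of_fix_omega hp (hR.to_subgroup C) α₁ hcop₁ fun x hx => by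
      have := congrArg (fun ψ : MulAut D => (ψ ⟨x, Subgroup.subset_closure hx⟩ : C)) e
      simpa [restrictHom_coe] using this)
  have hq₂ : restrictHom D α₁ ^ q = 1 := by rw [← map_pow, hq₁, map_one]
  set β := restrictHom D α₁
  have hDp : IsPGroup p D := (hR.to_subgroup C).to_subgroup D
  have hDe : ∀ x : D, x ^ p = 1 := fun x => Subtype.ext (hDexp x x.2)
  have hrkD : ∀ E : Subgroup D, Cfsg.IsElementaryAbelian p E → Nat.card E ≤ p ^ 2 := fun E hE => by
    have he := CfsgLib.Fusion.elementary_map (C.subtype.comp D.subtype) hE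
    have h1 := hrk _ he.1 he.2
    rwa [Subgroup.card_map_of_injective (f := C.subtype.comp D.subtype)
      (C.subtype_injective.comp D.subtype_injective)] at h1
  have hD3 := CfsgLib.RankTwoOmega.card_le_of_exponent hDp hp hDe hrkD
  obtain ⟨a, b, ha, hba, hdiv, hb0⟩ := count_step hqp β hq₂ hne₂ hDp
  rw [ha, Nat.pow_le_pow_iff_right (Fact.out : p.Prime).one_lt] at hD3
  by_cases hab : a - b ≤ 2
  · exact dvd_sq_sub_one (by omega) hdiv
  -- fixed point free on a group of order `p ^ 3`
  have hb : b = 0 := by omega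
  haveI : Nontrivial D := Finite.one_lt_card_iff_nontrivial.1 (by
    rw [ha]; exact Nat.one_lt_pow (by omega) (Fact.out : p.Prime).one_lt)
  haveI := hDp.center_nontrivial
  set Z := Subgroup.center D
  have hne₃ : restrictHom Z β ≠ 1 := fun e => by
    obtain ⟨z, hz⟩ := exists_ne (1 : Z)
    refine hz (Subtype.ext (hb0 hb z ?_))
    have := congrArg (fun ψ : MulAut Z => (ψ z : D)) e
    simpa [restrictHom_coe] using this
  have hq₃ : restrictHom Z β ^ q = 1 := by rw [← map_pow, hq₂, map_one]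
  obtain ⟨a', b', ha', hba', hdiv', -⟩ := count_step hqp _ hq₃ hne₃ (hDp.to_subgroup Z)
  have hle := hrkD Z ⟨⟨⟨fun x y => Subtype.ext (Subgroup.mem_center_iff.1 y.2 (x : D))⟩⟩,
    fun x _ => hDe x⟩
  rw [ha', Nat.pow_le_pow_iff_right (Fact.out : p.Prime).one_lt] at hle
  exact dvd_sq_sub_one (by omega) hdiv'

/-- For odd p, a prime q ≠ p dividing the order of the automorphism group of a p-group of rank at most 2 divides p² - 1 and is less than p. -/
theorem result {R : Type*} [Group R] [Finite R] {p : ℕ} [Fact p.Prime] (hp : p ≠ 2) (hR : IsPGroup p R) (hrk : Cfsg.PRankLE p 2 R) (q : ℕ) (hq : q.Prime) (hqp : q ≠ p) (hdvd : q ∣ Nat.card (MulAut R)) : q ∣ p ^ 2 - 1 ∧ q < p := by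
  exact aut_prime hp hR hrk q hq hqp hdvd

end Cfsg.Agent.S0640
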