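import Cfsg.Statements.S1420
import Cfsg.Agent.Lib.CFun.OddTauTwoElement

set_option autoImplicit false
open Cfsg

namespace Cfsg.Agent.S1420

/-- Let G be a minimal simple group of odd order, M a maximal subgroup and E a complement to M_σ in M. Then every nilpotent subgroup of M whose order involves no prime of σ(M) is abelian; E' is abelian; for p ∈ σ(M) and every noncyclic p-subgroup P of M, N_G(P) ≤ M; and if x ≠ 1 in M has every prime divisor of its order in τ₂(M) and centralizes a non-identity element of M_σ, then C_G(x) ≤ M and M is the unique maximal subgroup containing C_G(x). -/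
theorem result {G : Type*} [Group G] [Finite G] (hG : Cfsg.IsMinSimpleOddOrder G)
    (M : Subgroup G) (hM : IsCoatom M) (E : Subgroup G) (hE : Cfsg.IsComplIn E (Cfsg.sigmaCore M) M) :
    (∀ N : Subgroup G, N ≤ M → Group.IsNilpotent N → (∀ p : ℕ, p.Prime → p ∣ Nat.card N → p ∉ Cfsg.sigma M) → IsMulCommutative N) ∧
      IsMulCommutative ↥⁅E, E⁆ ∧
      (∀ (p : ℕ) (P : Subgroup G), p ∈ Cfsg.sigma M → IsPGroup p P → P ≤ M → ¬ IsCyclic P → Subgroup.normalizer (P : Set G) ≤ M) ∧
      ∀ x ∈ M, x ≠ 1 → (∀ p : ℕ, p.Prime → p ∣ orderOf x → p ∈ Cfsg.tau2 M) → x ∈ Cfsg.sigmaHat M →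
        Subgroup.centralizer ({x} : Set G) ≤ M ∧ ∀ L : Subgroup G, IsCoatom L → Subgroup.centralizer ({x} : Set G) ≤ L → L = M := by
  refine ⟨fun N hN hNn hσ => CfsgLib.CFun.TauTwo.isMulCommutative_of_nilpotent hG hM hN hNn hσ, ?_, ?_, ?_⟩
  · refine CfsgLib.CFun.TauTwo.isMulCommutative_of_nilpotent hG hM
      ((Subgroup.commutator_le_self E).trans hE.1) ?_ fun r hr hrd => ?_
    · rw [CfsgLib.CFun.TauTwo.map_commutator_self]
      haveI := CfsgLib.CFun.Compl.derived_nilpotent_compl hG hM hE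
      exact Group.nilpotent_of_mulEquiv
        ((_root_.commutator ↥E).equivMapOfInjective E.subtype E.subtype_injective)
    · haveI : Fact r.Prime := ⟨hr⟩
      exact CfsgLib.CFun.Compl.compl_not_sigma hG hM hE
        (hrd.trans (Subgroup.card_dvd_of_le (Subgroup.commutator_le_self E)))
  · intro p P hpσ hP hPM hPnc
    haveI : Fact p.Prime := ⟨hpσ.1⟩
    have hP1 : P ≠ ⊥ := fun e => hPnc (CfsgLib.CFun.isCyclic_of_ambient e)
    have hp2 : p ≠ 2 := CfsgLib.CFun.ms_ne_two hG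
      ((CfsgLib.CFun.TauTwo.mem_of_isPGroup hP hP1 hPM).trans (Subgroup.card_subgroup_dvd_card M))
    obtain ⟨A, hAP, -, hAe, hA2⟩ := CfsgLib.CFun.exists_normal_elementary_two hp2 hP hPnc
    rw [CfsgLib.CFun.sigma_normalizer hG hM hpσ hP hP1 hPM]
    exact sup_le inf_le_left ((Subgroup.centralizer_le hAP).trans
      (Cfsg.Agent.S1416.result hG M hM p A ⟨hAP.trans hPM, hAe, hA2⟩).1)
  · intro x hxM hx1 hxτ hxσ
    obtain ⟨-, y, hy, hy1, hxy⟩ := hxσ
    have hne : orderOf x ≠ 1 := fun e => hx1 (orderOf_eq_one_iff.1 e)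
    haveI : Fact (orderOf x).minFac.Prime := ⟨Nat.minFac_prime hne⟩
    exact CfsgLib.CFun.TauTwo.centralizer_tau2_element (p := (orderOf x).minFac) hG hM hxM hx1
      (fun r hr hrd => ⟨Nat.minFac_le_of_dvd hr.two_le hrd, hxτ r hr hrd⟩) (Nat.minFac_dvd _)
      hy hy1 hxy

end Cfsg.Agent.S1420
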