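import Cfsg.Statements.S1414
import Cfsg.Agent.Lib.CFun.OddBeta

set_option autoImplicit false
open Cfsg

namespace Cfsg.Agent.S1414

/-- Let G be a minimal simple group of odd order, M a maximal subgroup, β(M) the set of ideal primes in α(M), and M_β = O_{β(M)}(M). Then M_β is a Hall β(M)-subgroup of M and of G; M' and M_σ each have a nilpotent Hall β(M)'-subgroup; and for each prime p dividing the order of M with p ∉ β(M), both M' and M_σ have normal p-complements and every prime dividing the index of O_{p'}(M) in M is at most p. -/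
theorem result {G : Type*} [Group G] [Finite G] (hG : Cfsg.IsMinSimpleOddOrder G)
    (M : Subgroup G) (hM : IsCoatom M) :
    Cfsg.IsPiHallOf (Cfsg.beta M) (Cfsg.piCoreOf (Cfsg.beta M) M) M ∧ Cfsg.IsPiHall (Cfsg.beta M) (Cfsg.piCoreOf (Cfsg.beta M) M) ∧
      (∃ H : Subgroup G, Cfsg.IsPiHallOf {q | q.Prime ∧ q ∉ Cfsg.beta M} H ⁅M, M⁆ ∧ Group.IsNilpotent H) ∧
      (∃ H : Subgroup G, Cfsg.IsPiHallOf {q | q.Prime ∧ q ∉ Cfsg.beta M} H (Cfsg.sigmaCore M) ∧ Group.IsNilpotent H) ∧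
      ∀ p : ℕ, p.Prime → p ∣ Nat.card M → p ∉ Cfsg.beta M →
        Cfsg.HasNormalPComplement p ↥⁅M, M⁆ ∧ Cfsg.HasNormalPComplement p ↥(Cfsg.sigmaCore M) ∧
        ∀ q : ℕ, q.Prime → q ∣ (Cfsg.pPrimeCore p ↥M).index → q ≤ p := by
  obtain ⟨h1, h2⟩ := CfsgLib.CFun.betaCore_hall hG hM
  refine ⟨h1, h2, CfsgLib.CFun.exists_nilpotent_hall hG hM le_rfl,
    CfsgLib.CFun.exists_nilpotent_hall hG hM (CfsgLib.CFun.sigmaCore_le_derived hG hM),
    fun p hp hpM hb => ?_⟩
  haveI : Fact p.Prime := ⟨hp⟩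
  obtain ⟨hidx, hd⟩ := CfsgLib.CFun.not_beta_data hG hM hpM hb
  have h2 : ⁅M, M⁆ = (commutator M).map M.subtype := by
    rw [_root_.commutator_def, Subgroup.map_commutator, ← MonoidHom.range_eq_map, Subgroup.range_subtype]
  have hd' : Cfsg.HasNormalPComplement p ↥⁅M, M⁆ :=
    (CfsgLib.Fusion.hasNormalPComplement_congr
      (((commutator M).equivMapOfInjective M.subtype M.subtype_injective).trans (MulEquiv.subgroupCongr h2.symm))).1 hd
  exact ⟨hd', CfsgLib.Fusion.hasNormalPComplement_of_le (CfsgLib.CFun.sigmaCore_le_derived hG hM) hd', hidx⟩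

end Cfsg.Agent.S1414
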