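import Cfsg.Statements.S1418
import Cfsg.Agent.Lib.CFun.OddTauTwoStructure

set_option autoImplicit false
open Cfsg

namespace Cfsg.Agent.S1418

/-- Let G be a minimal simple group of odd order, M a maximal subgroup, E a complement to M_σ in M, p ∈ τ₂(M), and A ≤ E elementary abelian of order p ^ 2. Then A is normal in E and contains every subgroup of E of order p; C_G(A) ≤ M ∩ N_G(A) = E and N_G(A) is not contained in M; and for every subgroup X ≤ A of order p centralizing a non-identity element of M_σ, C_G(X) ≤ M and M is the unique maximal subgroup containing C_G(X). -/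
theorem result {G : Type*} [Group G] [Finite G] (hG : Cfsg.IsMinSimpleOddOrder G)
    (M : Subgroup G) (hM : IsCoatom M) (E : Subgroup G) (hE : Cfsg.IsComplIn E (Cfsg.sigmaCore M) M) (p : ℕ) [Fact p.Prime] (hp : p ∈ Cfsg.tau2 M) (A : Subgroup G) (hA : (A ≤ E ∧ Cfsg.IsElementaryAbelian p A ∧ Nat.card A = p ^ 2)) :
    (E ≤ Subgroup.normalizer (A : Set G) ∧ ∀ X : Subgroup G, X ≤ E → Nat.card X = p → X ≤ A) ∧
      (Subgroup.centralizer (A : Set G) ≤ M ⊓ Subgroup.normalizer (A : Set G) ∧ M ⊓ Subgroup.normalizer (A : Set G) = E ∧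
        ¬ Subgroup.normalizer (A : Set G) ≤ M) ∧
      ∀ X : Subgroup G, X ≤ A → Nat.card X = p → Cfsg.sigmaCore M ⊓ Subgroup.centralizer (X : Set G) ≠ ⊥ → (Subgroup.centralizer (X : Set G) ≤ M ∧ ∀ L : Subgroup G, IsCoatom L → Subgroup.centralizer (X : Set G) ≤ L → L = M) := by
  obtain ⟨hAE, hAe, hA2⟩ := hA
  obtain ⟨hEM, hKM, hEK, hprod⟩ := hE
  have hAM : A ≤ M := hAE.trans hEM
  have hK := CfsgLib.CFun.TauTwo.sigmaCore_normal hG M
  have hfix := CfsgLib.CFun.TauTwo.tau_fixed_eq_bot hG hM hp hAM hAe hA2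
  have hKA := CfsgLib.CFun.TauTwo.tau_normal_sup hG hM hp hAM hAe hA2
  have hCA := CfsgLib.CFun.TauTwo.tau_centralizer_le hG hM hp hAM hAe hA2
  have hsplit : (Cfsg.sigmaCore M ⊔ A) ⊓ E ≤ A := by
    rintro x ⟨hx, hxE⟩
    obtain ⟨k, hk, a, ha, rfl⟩ := CfsgLib.Coprime.mem_sup_exists (hAM.trans hK) hx
    have h0 : k ∈ E := by
      have h := mul_mem (show k * a ∈ E from hxE) (inv_mem (hAE ha))
      rwa [mul_inv_cancel_right] at h
    have h1 : k ∈ E ⊓ Cfsg.sigmaCore M := ⟨h0, hk⟩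
    rw [hEK, Subgroup.mem_bot] at h1
    rw [h1, one_mul]; exact ha
  have hEN : E ≤ Subgroup.normalizer (A : Set G) := fun e he => by
    refine CfsgLib.Coprime.conjBy_eq_self_iff.1 (Subgroup.eq_of_le_of_card_ge ?_
      (CfsgLib.Coprime.card_conjBy e A).ge)
    rintro _ ⟨a, ha, rfl⟩
    exact hsplit ⟨(Subgroup.mem_normalizer_iff.1 (hKA (hEM he)) a).1 (Subgroup.mem_sup_right ha),
      (show e * a * e⁻¹ ∈ E from mul_mem (mul_mem he (hAE ha)) (inv_mem he))⟩
  refine ⟨⟨hEN, fun X hXE hX => ?_⟩, ⟨le_inf hCA (CfsgLib.Coprime.centralizer_le_normalizer_self A), ?_,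
    CfsgLib.CFun.TauTwo.tau_not_normalizer_le hG hM hp hAM hAe hA2⟩, fun X hXA hX hne => ?_⟩
  · have hpX : IsPGroup p X := IsPGroup.of_card (hX.trans (pow_one p).symm)
    have hUM : A ⊔ X ≤ M := sup_le hAM (hXE.trans hEM)
    have hUp : IsPGroup p ↥(A ⊔ X) := by
      obtain ⟨i, hi⟩ := IsPGroup.iff_card.1 (CfsgLib.CFun.isPGroup_of_elementary hAe)
      have hd : Nat.card ↥(A ⊔ X) ∣ p ^ (i + 1) := by
        rw [pow_succ, ← hi, ← hX, sup_comm, mul_comm]
        exact CfsgLib.Coprime.card_sup_dvd_of_le_normalizer (hXE.trans hEN)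
      obtain ⟨j, -, hj⟩ := (Nat.dvd_prime_pow (Fact.out : p.Prime)).1 hd
      exact IsPGroup.of_card hj
    obtain ⟨P, hP⟩ := (hUp.of_equiv (Subgroup.subgroupOfEquivOfLe hUM).symm).exists_le_sylow
    obtain ⟨-, hTC, -, -⟩ := CfsgLib.CFun.TauTwo.tau_sylow_abelian hG hM hp hAM hAe hA2
      (P.2.map M.subtype) (Subgroup.map_subtype_le _)
      (fun a ha => ⟨⟨a, hAM ha⟩, hP (Subgroup.mem_sup_left ha), rfl⟩)
      fun U hU hUM' hle => CfsgLib.CFun.sylow_map_max P hU hUM' hle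
    intro x hx
    refine CfsgLib.CFun.TauTwo.mem_of_pow hAe hA2
      (fun _ => CfsgLib.CFun.TauTwo.tau_max hG hM hp hAM hAe hA2) ?_
      (hTC ⟨⟨x, hEM (hXE hx)⟩, hP (Subgroup.mem_sup_right hx), rfl⟩)
    have h := pow_card_eq_one' (x := (⟨x, hx⟩ : X))
    rw [hX] at h
    exact congrArg Subtype.val h
  · refine le_antisymm ?_ (le_inf hEM hEN)
    rintro m ⟨hm, hmN⟩
    obtain ⟨e, he, k, hk, rfl⟩ := hprod m hm
    have hkN : k ∈ Subgroup.normalizer (A : Set G) := by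
      have h := mul_mem (inv_mem (hEN he)) hmN
      rwa [inv_mul_cancel_left] at h
    have hkC : k ∈ Cfsg.sigmaCore M ⊓ Subgroup.centralizer (A : Set G) := by
      refine ⟨hk, Subgroup.mem_centralizer_iff.2 fun a ha => ?_⟩
      have h1 : k * a * k⁻¹ * a⁻¹ ∈ E ⊓ Cfsg.sigmaCore M := by
        refine Subgroup.mem_inf.2 ⟨mul_mem (hAE ((Subgroup.mem_normalizer_iff.1 hkN a).1 ha)) (inv_mem (hAE ha)), ?_⟩
        rw [show k * a * k⁻¹ * a⁻¹ = k * (a * k⁻¹ * a⁻¹) by group]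
        exact mul_mem hk ((Subgroup.mem_normalizer_iff.1 (hK (hAM ha)) _).1 (inv_mem hk))
      rw [hEK, Subgroup.mem_bot, mul_inv_eq_one, mul_inv_eq_iff_eq_mul] at h1
      exact h1.symm
    rw [hfix, Subgroup.mem_bot] at hkC
    rw [hkC, mul_one]; exact he
  · have hAC : A ≤ Subgroup.centralizer (X : Set G) :=
      CfsgLib.CFun.TauTwo.le_centralizer_line hAe hXA
    have hall : ∀ L : Subgroup G, IsCoatom L → Subgroup.centralizer (X : Set G) ≤ L → L = M := by
      intro L hL hCL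
      by_contra hLM
      refine hne (le_bot_iff.1 (le_trans ?_
        (CfsgLib.CFun.TauTwo.tau_inf_eq_bot hG hM hp hAM hAe hA2 hL hLM (hAC.trans hCL)).le))
      exact inf_le_inf_left _ hCL
    have hX1 : X ≠ ⊥ := CfsgLib.CFun.TauTwo.line_ne_bot hX
    have hne' : Subgroup.centralizer (X : Set G) ≠ ⊤ := fun e => CfsgLib.CFun.ms_normalizer_ne_top hG hX1
      (CfsgLib.CFun.ms_isPGroup_ne_top hG (IsPGroup.of_card (hX.trans (pow_one p).symm)))
      (top_le_iff.1 (e ▸ CfsgLib.Coprime.centralizer_le_normalizer_self X))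
    obtain ⟨L, hL, hCL⟩ := (eq_top_or_exists_le_coatom _).resolve_left hne'
    exact ⟨hall L hL hCL ▸ hCL, hall⟩

end Cfsg.Agent.S1418
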