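import Cfsg.Statements.S1419
import Cfsg.Agent.Lib.CFun.OddTauTwoFitting
import Cfsg.Agent.S1418

set_option autoImplicit false
open Cfsg

namespace Cfsg.Agent.S1419

/-- Let G be a minimal simple group of odd order whose Sylow p-subgroups are nonabelian, M a maximal subgroup with p ∈ τ₂(M), E a complement to M_σ in M and A ≤ E elementary abelian of order p ^ 2. Then τ₂(M) = {p}; A₀ = A ∩ C_G(M_σ) has order p and F(M) is generated by M_σ and A₀ (a direct product); and every subgroup X ≠ A₀ of E of order p satisfies M_σ ∩ C_G(X) = 1 and C_G(X) ⊄ M. -/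
theorem result {G : Type*} [Group G] [Finite G] (hG : Cfsg.IsMinSimpleOddOrder G)
    (M : Subgroup G) (hM : IsCoatom M) (E : Subgroup G) (hE : Cfsg.IsComplIn E (Cfsg.sigmaCore M) M) (p : ℕ) [Fact p.Prime] (hp : p ∈ Cfsg.tau2 M) (hS : ∀ S : Sylow p G, ¬ IsMulCommutative (S : Subgroup G))
    (A : Subgroup G) (hA : (A ≤ E ∧ Cfsg.IsElementaryAbelian p A ∧ Nat.card A = p ^ 2)) :
    Cfsg.tau2 M = {p} ∧
      (Nat.card ↥(A ⊓ Subgroup.centralizer (Cfsg.sigmaCore M : Set G)) = p ∧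
        Cfsg.fittingOf M = Cfsg.sigmaCore M ⊔ (A ⊓ Subgroup.centralizer (Cfsg.sigmaCore M : Set G))) ∧
      ∀ X : Subgroup G, X ≤ E → Nat.card X = p → X ≠ A ⊓ Subgroup.centralizer (Cfsg.sigmaCore M : Set G) →
        Cfsg.sigmaCore M ⊓ Subgroup.centralizer (X : Set G) = ⊥ ∧ ¬ Subgroup.centralizer (X : Set G) ≤ M := by
  obtain ⟨hAE, hAe, hA2⟩ := hA
  have hAM : A ≤ M := hAE.trans hE.1
  obtain ⟨⟨hEN, hsub⟩, -, -⟩ := Cfsg.Agent.S1418.result hG M hM E hE p hp A ⟨hAE, hAe, hA2⟩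
  obtain ⟨A₀, hA₀, hA₀c, hKA₀, heq, hothers⟩ :=
    CfsgLib.CFun.TauTwo.nonab_lines hG hM hp hAM hAe hA2 hS
  refine ⟨Set.ext fun q => ⟨fun hq => ?_, fun hq => Set.mem_singleton_iff.1 hq ▸ hp⟩,
    ⟨by rw [heq, hA₀c], ?_⟩, fun X hXE hX hne => hothers X (hsub X hXE hX) hX (heq ▸ hne)⟩
  · haveI : Fact q.Prime := ⟨hq.1⟩
    by_contra hqp
    obtain ⟨B, hBE, hBe, hB2⟩ := CfsgLib.CFun.Compl.exists_elementary_compl hG hM hE hq
    obtain ⟨⟨hEB, -⟩, -, -⟩ := Cfsg.Agent.S1418.result hG M hM E hE q hq B ⟨hBE, hBe, hB2⟩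
    refine hqp (CfsgLib.CFun.TauTwo.nonab_tau_eq hG hM hp hAM hAe hA2 hS hq (hBE.trans hE.1) hBe hB2 ?_)
    refine CfsgLib.CFun.le_centralizer_of_inf_eq_bot (hBE.trans hEN) (hAE.trans hEB) ?_
    exact CfsgLib.CFun.inf_eq_bot_of_isPGroup (CfsgLib.CFun.isPGroup_of_elementary hBe)
      (CfsgLib.CFun.TauTwo.not_dvd_of_prime_pow hqp (CfsgLib.CFun.isPGroup_of_elementary hAe))
  rw [heq]
  have hA₀n : M ≤ Subgroup.normalizer (A₀ : Set G) := by
    rw [← CfsgLib.CFun.Compl.sup_compl hG hM hE]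
    refine sup_le ?_ (hKA₀.trans (CfsgLib.Coprime.centralizer_le_normalizer_self A₀))
    rw [← heq]
    exact CfsgLib.Coprime.inf_le_normalizer hEN ((hE.1.trans
      (CfsgLib.CFun.TauTwo.sigmaCore_normal hG M)).trans
        (CfsgLib.Coprime.normalizer_le_normalizer_centralizer _))
  have hA₀p : IsPGroup p A₀ := IsPGroup.of_card (hA₀c.trans (pow_one p).symm)
  have hcore := CfsgLib.CFun.Compl.le_core_of_normal (hA₀.trans hAM) hA₀n hA₀p
  refine le_antisymm (CfsgLib.CFun.fittingOf_le_of_cores fun q hq => ?_) (sup_le ?_ ?_)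
  · haveI : Fact q.Prime := ⟨hq⟩
    by_cases hqσ : q ∈ Cfsg.sigma M
    · exact (CfsgLib.CFun.TauTwo.isPGroup_le_sigmaCore hG hM hqσ CfsgLib.CFun.isPGroup_core
        CfsgLib.CFun.core_le).trans le_sup_left
    · rcases eq_or_ne q p with rfl | hqp
      · exact (CfsgLib.CFun.TauTwo.nonab_core_le hG hM hp hAM hAe hA2 hS hA₀ hA₀c hKA₀ hcore).trans
          le_sup_right
      · rw [CfsgLib.CFun.TauTwo.nonab_core_eq_bot hG hM hp hAM hAe hA2 hS hqσ hqp]; exact bot_le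
  · haveI hn : ((Cfsg.sigmaCore M).subgroupOf M).Normal :=
      (Subgroup.normal_subgroupOf_iff_le_normalizer hE.2.1).2 (CfsgLib.CFun.TauTwo.sigmaCore_normal hG M)
    haveI := CfsgLib.CFun.TauTwo.tau_nilpotent hG hM hp hAM hAe hA2
    exact (Subgroup.map_subgroupOf_eq_of_le hE.2.1).ge.trans (Subgroup.map_mono
      (CfsgLib.Coprime.le_fitting (Group.nilpotent_of_mulEquiv
        (Subgroup.subgroupOfEquivOfLe hE.2.1).symm)))
  · exact hcore.trans CfsgLib.CFun.core_le_fittingOf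

end Cfsg.Agent.S1419
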