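import Cfsg.Statements.S1431
import Cfsg.Agent.Lib.CFun.OddKappaUnique
import Cfsg.Agent.Lib.CFun.OddSigmaEmbedding
import Cfsg.Agent.Lib.CFun.OddKappaPair

set_option autoImplicit false
open Cfsg

namespace Cfsg.Agent.S1431

open Subgroup
open CfsgLib.Coprime (conjBy mem_conjBy conj_mem_conjBy)
open CfsgLib.CFun CfsgLib.CFun.TauTwo CfsgLib.CFun.Lines CfsgLib.CFun.Kappa CfsgLib.CFun.Partner CfsgLib.CFun.Inter


/-- Let G be a minimal simple group of odd order, M a maximal subgroup, K ≠ 1 a Hall κ(M)-subgroup of M and K* = M_σ ∩ C_G(K). Then K* ∩ gMg⁻¹ = 1 for g ∉ M; K ∩ gKg⁻¹ = 1 for g ∈ M outside K K*; for every prime p dividing the order of K* and every Sylow p-subgroup S of M_σ, M is the unique maximal subgroup containing S, and S is not contained in K*; and every subgroup Y of G whose prime divisors lie in σ(M) and with Y ∩ K* ≠ 1 is contained in M_σ. -/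
theorem result {G : Type*} [Group G] [Finite G] (hG : Cfsg.IsMinSimpleOddOrder G)
    (M : Subgroup G) (hM : IsCoatom M) (K : Subgroup G) (hK : Cfsg.IsPiHallOf (Cfsg.kappa M) K M) (hK1 : K ≠ ⊥) :
    (∀ g : G, g ∉ M → (Cfsg.sigmaCore M ⊓ Subgroup.centralizer (K : Set G)) ⊓ M.map (MulAut.conj g).toMonoidHom = ⊥) ∧
      (∀ g ∈ M, g ∉ K ⊔ (Cfsg.sigmaCore M ⊓ Subgroup.centralizer (K : Set G)) → K ⊓ K.map (MulAut.conj g).toMonoidHom = ⊥) ∧
      (∀ (p : ℕ), p.Prime → p ∣ Nat.card ↥(Cfsg.sigmaCore M ⊓ Subgroup.centralizer (K : Set G)) → ∀ S : Sylow p ↥(Cfsg.sigmaCore M),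
        Cfsg.InUniqueMaximal ((S : Subgroup ↥(Cfsg.sigmaCore M)).map (Cfsg.sigmaCore M).subtype) ∧
        (S : Subgroup ↥(Cfsg.sigmaCore M)).map (Cfsg.sigmaCore M).subtype ≤ M ∧
        ¬ (S : Subgroup ↥(Cfsg.sigmaCore M)).map (Cfsg.sigmaCore M).subtype ≤ (Cfsg.sigmaCore M ⊓ Subgroup.centralizer (K : Set G))) ∧
      ∀ Y : Subgroup G, (∀ p : ℕ, p.Prime → p ∣ Nat.card Y → p ∈ Cfsg.sigma M) → Y ⊓ (Cfsg.sigmaCore M ⊓ Subgroup.centralizer (K : Set G)) ≠ ⊥ → Y ≤ Cfsg.sigmaCore M := by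
  refine ⟨fun g hg => (eq_bot_iff_forall _).2 fun b hb => ?_, fun g hgM hg => ?_,
    fun p hp hpd S => ?_, fun Y hY hne => ?_⟩
  · by_contra hb1
    exact hg (eq_of_fixed_mem hG hM hK hK1 (mem_inf.1 hb).1 hb1 (mem_inf.1 hb).2).1
  · by_contra hne
    obtain ⟨p, X, hp, hX, hXc⟩ := exists_prime_line hne
    haveI : Fact p.Prime := ⟨hp⟩
    obtain ⟨U, d⟩ := Decomp.exists_decomp hG hM hK
    have hXK : X ≤ K := hX.trans inf_le_left
    have hX' : conjBy g⁻¹ X ≤ K := by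
      rintro _ ⟨x, hx, rfl⟩
      obtain ⟨k, hk, e⟩ := Subgroup.mem_map.1 (mem_inf.1 (hX hx)).2
      have e' : g * k * g⁻¹ = x := e
      show g⁻¹ * x * (g⁻¹)⁻¹ ∈ K
      rw [← e']
      simpa [mul_assoc] using hk
    have hpow : ∀ (V : Subgroup G), Nat.card V = p → ∀ v ∈ V, v ^ p = 1 := fun V hV v hv =>
      orderOf_dvd_iff_pow_eq_one.1 (hV ▸ orderOf_dvd_natCard V hv)
    have hc' : Nat.card (conjBy g⁻¹ X : Subgroup G) = p :=
      (CfsgLib.Coprime.card_conjBy _ X).trans hXc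
    have e : conjBy g⁻¹ X = X := le_antisymm
      (eq_of_cyclic (q := p) (hall_cyclic hG hM hK) hXK hX' (hpow X hXc) (hpow _ hc')
        (TauTwo.line_ne_bot hXc))
      (eq_of_cyclic (q := p) (hall_cyclic hG hM hK) hX' hXK (hpow _ hc') (hpow X hXc)
        (TauTwo.line_ne_bot hc'))
    have hgN : g⁻¹ ∈ M ⊓ normalizer (X : Set G) :=
      mem_inf.2 ⟨inv_mem hgM, CfsgLib.Coprime.conjBy_eq_self_iff.1 e⟩
    rw [(Decomp.normalizer_line hG hM d hXK hXc).1] at hgN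
    exact hg (inv_mem_iff.1 hgN)
  · haveI : Fact p.Prime := ⟨hp⟩
    have hu := KappaSylow.inUniqueMaximal hG hM hK hK1 hpd S
    have hSM : (S : Subgroup ↥(Cfsg.sigmaCore M)).map (Cfsg.sigmaCore M).subtype ≤ M :=
      (map_subtype_le _).trans (map_subtype_le _)
    refine ⟨hu, hSM, fun hle => ?_⟩
    obtain ⟨N, hN, hNK, hNH⟩ := exists_partner hG hM hK hK1
    exact (of_hyp hG hM hK hK1 hN hNK hNH).2.2.2
      (hu.unique ⟨hM, hSM⟩ ⟨hN, hle.trans hNH.1⟩)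
  · obtain ⟨b, hb, hb1⟩ := (bot_or_exists_ne_one _).resolve_left hne
    obtain ⟨g, hg⟩ := sigma_conj_into hG hM (fun e => hb1 (mem_bot.1 (e ▸ (mem_inf.1 hb).1))) hY
    have hbg : b ∈ conjBy g⁻¹ M := by
      refine ⟨g * b * g⁻¹, map_subtype_le _ (hg (mem_map_of_mem _ (mem_inf.1 hb).1)), ?_⟩
      show g⁻¹ * (g * b * g⁻¹) * (g⁻¹)⁻¹ = b
      group
    have hgM : g⁻¹ ∈ M := (eq_of_fixed_mem hG hM hK hK1 (mem_inf.1 hb).2 hb1 hbg).1
    intro y hy
    have h := (mem_normalizer_iff.1 (TauTwo.sigmaCore_normal hG M hgM) _).1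
      (hg (mem_map_of_mem _ hy))
    simpa [mul_assoc] using h

end Cfsg.Agent.S1431
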