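import Cfsg.Agent.Lib.CFun.OddTransitivity
import Cfsg.Statements.S1394
-- import your own Cfsg.Agent.* helpers here

set_option autoImplicit false
open Cfsg

namespace Cfsg.Agent.S1394

/-- Let G be a minimal simple group of odd order, A a subgroup satisfying the transitivity hypothesis whose centre has rank at least 2, K = O_{π(A)'}(C_G(A)), and q a prime dividing the order of C_G(A) but not that of A. Then any two maximal A-invariant q-subgroups of G are conjugate by an element of K. -/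
theorem result {G : Type*} [Group G] [Finite G] (hG : Cfsg.IsMinSimpleOddOrder G)
    (A : Subgroup G) (hA : Cfsg.TransitivityHypothesis A) (hZ : ¬ Cfsg.RankLE 1 ↥(A ⊓ Subgroup.centralizer (A : Set G)))
    (q : ℕ) (hq : q.Prime) (hqA : ¬ q ∣ Nat.card A) (hqC : q ∣ Nat.card (Subgroup.centralizer (A : Set G))) :
    ∀ Q₁ ∈ Cfsg.maxInvSubgroups ⊤ A {q}, ∀ Q₂ ∈ Cfsg.maxInvSubgroups ⊤ A {q}, ∃ k ∈ Cfsg.piCoreOf (Cfsg.primesNotDvd (Nat.card A)) (Subgroup.centralizer (A : Set G)), Q₂ = Q₁.map (MulAut.conj k).toMonoidHom := by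
  intro Q₁ h₁ Q₂ h₂
  haveI : Fact q.Prime := ⟨hq⟩
  have hd : CfsgLib.CFun.TransData A q := ⟨hA, hG.2.1, hG.2.2.1, hG.2.2.2, hqA⟩
  simp only [Cfsg.RankLE, Cfsg.PRankLE, not_forall, not_le] at hZ
  obtain ⟨p, hp, E, hEc, hEe, hEk⟩ := hZ
  haveI : Fact p.Prime := ⟨hp⟩

  haveI := hEc
  have hEA : Cfsg.IsElementaryAbelian p (E.map (A ⊓ Subgroup.centralizer (A : Set G)).subtype) :=
    ⟨inferInstance, by rintro _ ⟨a, ha, rfl⟩; rw [← map_pow, hEe a ha, map_one]⟩
  have hcard : Nat.card (E.map (A ⊓ Subgroup.centralizer (A : Set G)).subtype) = Nat.card E :=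
    Subgroup.card_map_of_injective (A ⊓ Subgroup.centralizer (A : Set G)).subtype_injective
  have hpg : IsPGroup p E := fun a => ⟨1, Subtype.ext (by rw [pow_one]; exact hEe a a.2)⟩
  obtain ⟨n, hn⟩ := IsPGroup.iff_card.1 hpg
  have hkn : 1 < n := by
    rw [hn] at hEk
    exact (Nat.pow_lt_pow_iff_right hp.one_lt).1 hEk
  have hpA : p ∣ Nat.card A := by
    refine dvd_trans ?_ (Subgroup.card_dvd_of_le ((Subgroup.map_subtype_le E).trans inf_le_left))
    rw [hcard, hn]
    exact dvd_pow_self p (by omega)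
  exact hd.transitive_two (Subgroup.map_subtype_le E) hEA
    (hcard.symm ▸ hn.symm ▸ Nat.pow_le_pow_right hp.pos hkn) (fun h => hqA (h ▸ hpA)) hqC
    (CfsgLib.CFun.isMaxInv_iff.1 h₁) (CfsgLib.CFun.isMaxInv_iff.1 h₂)

end Cfsg.Agent.S1394
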