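import Cfsg.Agent.Lib.CFun.OddOvergroup
import Cfsg.Statements.S1395
-- import your own Cfsg.Agent.* helpers here

set_option autoImplicit false
open Cfsg

namespace Cfsg.Agent.S1395

/-- Let G be a minimal simple group of odd order, A a subgroup satisfying the transitivity hypothesis with K = O_{π(A)'}(C_G(A)), q a prime not dividing the order of A, and P a proper subgroup all of whose prime divisors divide the order of A, containing A as a subnormal subgroup, such that any two maximal A-invariant q-subgroups are conjugate under K. Then (a) K ∩ C_G(P) = O_{π(A)'}(C_G(P)); (b) any two maximal P-invariant q-subgroups are conjugate under O_{π(A)'}(C_G(P)); (c) every maximal P-invariant q-subgroup is a maximal A-invariant q-subgroup; (d) for every maximal P-invariant q-subgroup Q, P ∩ N_G(P)' ≤ N_G(Q)' and N_G(P) is generated by O_{π(A)'}(C_G(P)) and N_G(P) ∩ N_G(Q). -/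
theorem result {G : Type*} [Group G] [Finite G] (hG : Cfsg.IsMinSimpleOddOrder G)
    (A : Subgroup G) (hA : Cfsg.TransitivityHypothesis A) (q : ℕ) (hq : q.Prime) (hqA : ¬ q ∣ Nat.card A)
    (P : Subgroup G) (hP : P ≠ ⊤) (hPπ : (∀ r : ℕ, r.Prime → r ∣ Nat.card P → r ∣ Nat.card A)) (hAP : A ≤ P) (hsn : (A.subgroupOf P).IsSubnormal)
    (htr : ∀ Q₁ ∈ Cfsg.maxInvSubgroups ⊤ A {q}, ∀ Q₂ ∈ Cfsg.maxInvSubgroups ⊤ A {q}, ∃ k ∈ Cfsg.piCoreOf (Cfsg.primesNotDvd (Nat.card A)) (Subgroup.centralizer (A : Set G)), Q₂ = Q₁.map (MulAut.conj k).toMonoidHom) :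
    Cfsg.piCoreOf (Cfsg.primesNotDvd (Nat.card A)) (Subgroup.centralizer (A : Set G)) ⊓ Subgroup.centralizer (P : Set G) = Cfsg.piCoreOf (Cfsg.primesNotDvd (Nat.card A)) (Subgroup.centralizer (P : Set G)) ∧
      (∀ Q₁ ∈ Cfsg.maxInvSubgroups ⊤ P {q}, ∀ Q₂ ∈ Cfsg.maxInvSubgroups ⊤ P {q}, ∃ k ∈ Cfsg.piCoreOf (Cfsg.primesNotDvd (Nat.card A)) (Subgroup.centralizer (P : Set G)), Q₂ = Q₁.map (MulAut.conj k).toMonoidHom) ∧
      Cfsg.maxInvSubgroups ⊤ P {q} ⊆ Cfsg.maxInvSubgroups ⊤ A {q} ∧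
      ∀ Q ∈ Cfsg.maxInvSubgroups ⊤ P {q},
        P ⊓ ⁅Subgroup.normalizer (P : Set G), Subgroup.normalizer (P : Set G)⁆ ≤ ⁅Subgroup.normalizer (Q : Set G), Subgroup.normalizer (Q : Set G)⁆ ∧
        Subgroup.normalizer (P : Set G) = Cfsg.piCoreOf (Cfsg.primesNotDvd (Nat.card A)) (Subgroup.centralizer (P : Set G)) ⊔ (Subgroup.normalizer (P : Set G) ⊓ Subgroup.normalizer (Q : Set G)) := by
  haveI : Fact q.Prime := ⟨hq⟩
  have hd : CfsgLib.CFun.TransData A q := ⟨hA, hG.2.1, hG.2.2.1, hG.2.2.2, hqA⟩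
  obtain ⟨htP, hsub⟩ := hd.subnormal (fun Q₁ Q₂ h₁ h₂ => htr Q₁ (CfsgLib.CFun.isMaxInv_iff.2 h₁) Q₂
    (CfsgLib.CFun.isMaxInv_iff.2 h₂)) hP hAP hPπ hsn
  have hπ := CfsgLib.CFun.primesNotDvd_eq hAP hPπ
  refine ⟨hd.theta_inf hAP, fun Q₁ h₁ Q₂ h₂ => ?_,
    fun Q hQ => CfsgLib.CFun.isMaxInv_iff.2 (hsub Q (CfsgLib.CFun.isMaxInv_iff.1 hQ)),
    fun Q hQ' => ?_⟩
  · rw [← hπ]
    exact htP Q₁ Q₂ (CfsgLib.CFun.isMaxInv_iff.1 h₁) (CfsgLib.CFun.isMaxInv_iff.1 h₂)
  have hdP := hd.overgroup hAP hP hPπ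
  have hQ := CfsgLib.CFun.isMaxInv_iff.1 hQ'
  rw [← hπ]
  set N := Subgroup.normalizer (P : Set G) with hN
  set M := Subgroup.normalizer (Q : Set G) with hM
  set W := Cfsg.piCoreOf (Cfsg.primesNotDvd (Nat.card P)) (Subgroup.centralizer (P : Set G)) with hW
  have hWC : W ≤ Subgroup.centralizer (P : Set G) := CfsgLib.CFun.piCoreOf_le _
  have hWN : W ≤ N := hWC.trans (CfsgLib.Coprime.centralizer_le_normalizer_self P)
  have hNW : N ≤ Subgroup.normalizer (W : Set G) :=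
    (CfsgLib.Coprime.normalizer_le_normalizer_centralizer P).trans
      (CfsgLib.CFun.le_normalizer_piCoreOf_of_le _)
  have hP' : ∀ {g : G}, g ∈ N → ∀ {R : Subgroup G}, P ≤ Subgroup.normalizer (R : Set G) →
      P ≤ Subgroup.normalizer (CfsgLib.Coprime.conjBy g R : Set G) := by
    intro g hg R hR a ha
    refine CfsgLib.Coprime.conjBy_eq_self_iff.1 ?_
    have h1 := CfsgLib.Coprime.conjBy_eq_self_iff.2 (hR ((Subgroup.mem_normalizer_iff''.1 hg a).1 ha))
    conv_rhs => rw [← h1]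
    rw [CfsgLib.Coprime.conjBy_conjBy, CfsgLib.Coprime.conjBy_conjBy]
    congr 1
    group
  have hperm : ∀ g ∈ N, CfsgLib.CFun.IsMaxInv P q (CfsgLib.Coprime.conjBy g Q) := by
    intro g hg
    refine ⟨hQ.1.map _, hP' hg hQ.2.1, fun R hR hPR hle => ?_⟩
    have h1 : Q ≤ CfsgLib.Coprime.conjBy g⁻¹ R := fun x hx => by
      rw [CfsgLib.Coprime.mem_conjBy, inv_inv]; exact hle (CfsgLib.Coprime.conj_mem_conjBy hx)
    have h2 := hQ.2.2 _ (hR.map _) (hP' (inv_mem hg) hPR) h1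
    rw [← h2, CfsgLib.Coprime.conjBy_conjBy, mul_inv_cancel, CfsgLib.Coprime.conjBy_one]
  have hdec : N = W ⊔ (N ⊓ M) := by
    refine le_antisymm (fun g hg => ?_) (sup_le hWN inf_le_left)
    obtain ⟨k, hk, e⟩ := htP Q _ hQ (hperm g hg)
    have h1 : k⁻¹ * g ∈ M := by
      rw [hM, ← CfsgLib.Coprime.conjBy_eq_self_iff, ← CfsgLib.Coprime.conjBy_conjBy, e,
        CfsgLib.Coprime.conjBy_conjBy, inv_mul_cancel, CfsgLib.Coprime.conjBy_one]
    rw [← mul_inv_cancel_left k g]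
    exact Subgroup.mul_mem_sup hk (Subgroup.mem_inf.2 ⟨mul_mem (inv_mem (hWN hk)) hg, h1⟩)
  refine ⟨?_, hdec⟩
  rintro x ⟨hxP, hxN⟩
  haveI : (W.subgroupOf N).Normal := Subgroup.normal_subgroupOf_of_le_normalizer hNW
  set π := QuotientGroup.mk' (W.subgroupOf N)
  have htop : ((N ⊓ M).subgroupOf N).map π = ⊤ := by
    have h1 : (⊤ : Subgroup N) = W.subgroupOf N ⊔ (N ⊓ M).subgroupOf N := by
      rw [← Subgroup.subgroupOf_sup hWN inf_le_left, ← hdec, Subgroup.subgroupOf_self]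
    have h2 := congrArg (Subgroup.map π) h1
    rw [Subgroup.map_top_of_surjective π (QuotientGroup.mk'_surjective _), Subgroup.map_sup,
      (Subgroup.map_eq_bot_iff (W.subgroupOf N)).2 (by rw [QuotientGroup.ker_mk']), bot_sup_eq] at h2
    exact h2.symm
  have hx1 : x ∈ N := Subgroup.le_normalizer hxP
  have hx2 : π ⟨x, hx1⟩ ∈ (⁅(N ⊓ M).subgroupOf N, (N ⊓ M).subgroupOf N⁆).map π := by
    rw [Subgroup.map_commutator, htop, ← Subgroup.map_top_of_surjective π (QuotientGroup.mk'_surjective _),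
      ← Subgroup.map_commutator]
    refine Subgroup.mem_map_of_mem π ?_
    rw [← Subgroup.mem_map_iff_mem N.subtype_injective, Subgroup.map_commutator,
      ← MonoidHom.range_eq_map, N.range_subtype]
    exact hxN
  obtain ⟨y, hy, hye⟩ := hx2
  have hk : x⁻¹ * (y : G) ∈ W := (QuotientGroup.eq (s := W.subgroupOf N)).1 hye.symm
  have hyM : (y : G) ∈ ⁅M, M⁆ := by
    have h1 := Subgroup.mem_map_of_mem N.subtype hy
    rw [Subgroup.map_commutator] at h1
    have h2 : ((N ⊓ M).subgroupOf N).map N.subtype ≤ M := by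
      rw [Subgroup.map_subgroupOf_eq_of_le inf_le_left]; exact inf_le_right
    exact Subgroup.commutator_mono h2 h2 h1
  set k := x⁻¹ * (y : G) with hkdef
  have hcomm : Commute x k := Subgroup.mem_centralizer_iff.1 (hWC hk) x hxP
  have hy' : (y : G) = x * k := by rw [hkdef, mul_inv_cancel_left]
  have hpow : (y : G) ^ Nat.card W = x ^ Nat.card W := by
    have h1 : k ^ Nat.card W = 1 := by
      exact congrArg Subtype.val (pow_card_eq_one' (x := (⟨k, hk⟩ : W)))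
    rw [hy', hcomm.mul_pow, h1, mul_one]
  have hcopW : (Nat.card P).Coprime (Nat.card W) :=
    CfsgLib.CFun.coprime_of_isPiNum (CfsgLib.CFun.isPiNum_piCoreOf _)
  obtain ⟨i, hi⟩ := exists_pow_eq_self_of_coprime (n := Nat.card W) (x := x)
    ((hcopW.symm.coprime_dvd_right (Subgroup.orderOf_dvd_natCard _ hxP)))
  rw [← hi, ← hpow]
  exact pow_mem (pow_mem hyM _) _

end Cfsg.Agent.S1395
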