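import Cfsg.Statements.S1411
import Cfsg.Agent.Lib.CFun.OddSylowFusion

set_option autoImplicit false
open Cfsg

namespace Cfsg.Agent.S1411

/-- Let G be a minimal simple group of odd order, p a prime, P a Sylow p-subgroup of G and V a complement to P in its normalizer N_G(P). Then P equals the commutator subgroup [P, V], and P is contained in the derived subgroup of N_G(P). -/
theorem result {G : Type*} [Group G] [Finite G] (hG : Cfsg.IsMinSimpleOddOrder G) (p : ℕ) [Fact p.Prime] (P : Sylow p G)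
    (V : Subgroup G) (hV : Cfsg.IsComplIn (P : Subgroup G) V (Subgroup.normalizer ((P : Subgroup G) : Set G))) :
    (P : Subgroup G) = ⁅(P : Subgroup G), V⁆ ∧
      (P : Subgroup G) ≤ ⁅Subgroup.normalizer ((P : Subgroup G) : Set G), Subgroup.normalizer ((P : Subgroup G) : Set G)⁆ := by
  obtain ⟨hPN, hVN, hPV, hprod⟩ := hV
  set N := Subgroup.normalizer ((P : Subgroup G) : Set G) with hN
  have hle := CfsgLib.CFun.sylow_le_commutator_normalizer hG P
  have hder : (P : Subgroup G) ≤ ⁅N, N⁆ := hle.trans (Subgroup.commutator_mono hPN le_rfl)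
  refine ⟨?_, hder⟩
  by_cases hP1 : (P : Subgroup G) = ⊥
  · rw [hP1, Subgroup.commutator_bot_left]
  have hNtop : N ≠ ⊤ := CfsgLib.CFun.ms_normalizer_ne_top hG hP1 (CfsgLib.CFun.ms_isPGroup_ne_top hG P.2)
  haveI : Group.IsSolvable N := CfsgLib.CFun.ms_solvable hG hNtop
  haveI : ((P : Subgroup G).subgroupOf N).Normal := Subgroup.normal_subgroupOf_iff_le_normalizer hPN |>.2 le_rfl
  have hsup : (P : Subgroup G).subgroupOf N ⊔ V.subgroupOf N = ⊤ := by
    refine eq_top_iff.2 fun m _ => ?_
    obtain ⟨a, ha, b, hb, e⟩ := hprod m m.2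
    rw [show m = (⟨a, hPN ha⟩ : N) * ⟨b, hVN hb⟩ from Subtype.ext e]
    exact Subgroup.mul_mem_sup ha hb
  have hcop : (Nat.card ↥((P : Subgroup G).subgroupOf N)).Coprime (Nat.card ↥(V.subgroupOf N)) := by
    have hc : ((P : Subgroup G).subgroupOf N).IsComplement' (V.subgroupOf N) := by
      refine Subgroup.isComplement'_of_disjoint_and_mul_eq_univ (disjoint_iff.2 ?_) ?_
      · exact le_bot_iff.1 fun m hm => Subgroup.mem_bot.2 (Subtype.ext
          (Subgroup.mem_bot.1 (hPV.le ⟨hm.1, hm.2⟩)))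
      · refine Set.eq_univ_of_forall fun m => ?_
        obtain ⟨a, ha, b, hb, e⟩ := hprod m m.2
        exact ⟨⟨a, hPN ha⟩, ha, ⟨b, hVN hb⟩, hb, Subtype.ext e.symm⟩
    have hS : ¬ p ∣ ((P : Subgroup G).subgroupOf N).index := fun hd =>
      P.not_dvd_index (hd.trans (Subgroup.relIndex_dvd_index_of_le hPN))
    rw [hc.symm.index_eq_card] at hS
    obtain ⟨k, hk⟩ := IsPGroup.iff_card.1 P.2
    rw [Nat.card_congr (Subgroup.subgroupOfEquivOfLe hPN).toEquiv, hk]
    exact ((Fact.out : p.Prime).coprime_iff_not_dvd.2 hS).pow_left k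
  have hder' : (P : Subgroup G).subgroupOf N ≤ commutator N := by
    intro m hm
    have h2 : (m : G) ∈ ⁅N, N⁆ := hder hm
    rw [show (⁅N, N⁆ : Subgroup G) = (commutator N).map N.subtype by
      rw [_root_.commutator_def, Subgroup.map_commutator, ← MonoidHom.range_eq_map, Subgroup.range_subtype]] at h2
    obtain ⟨m', hm', e⟩ := h2
    rwa [show m = m' from Subtype.ext e.symm]
  have h := congrArg (Subgroup.map N.subtype) (CfsgLib.CFun.eq_commutator_of_le_derived hcop hsup hder')
  rwa [Subgroup.map_commutator, Subgroup.map_subgroupOf_eq_of_le hPN,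
    Subgroup.map_subgroupOf_eq_of_le hVN] at h

end Cfsg.Agent.S1411
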