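import Cfsg.Statements.S1428
import Cfsg.Agent.Lib.CFun.OddPrimeActionCore

set_option autoImplicit false
open Cfsg

namespace Cfsg.Agent.S1428

open Subgroup
open CfsgLib.Coprime (IsSylowIn)
open CfsgLib.CFun CfsgLib.CFun.TauTwo

/-- Let G be a minimal simple group of odd order, M a maximal subgroup, E a complement to M_σ in M, p ∈ τ₁(M), P ≤ E a subgroup of order p, and R a subgroup of prime order of E ∩ C_G(P). Then M_σ ∩ C_G(P) ≤ M_σ ∩ C_G(R). -/
theorem result {G : Type*} [Group G] [Finite G] (hG : Cfsg.IsMinSimpleOddOrder G)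
    (M : Subgroup G) (hM : IsCoatom M) (E : Subgroup G) (hE : Cfsg.IsComplIn E (Cfsg.sigmaCore M) M) (p : ℕ) (hp : p ∈ Cfsg.tau1 M) (P : Subgroup G) (hPE : P ≤ E) (hP : Nat.card P = p)
    (R : Subgroup G) (hRE : R ≤ E ⊓ Subgroup.centralizer (P : Set G)) (hR : (Nat.card R).Prime) :
    Cfsg.sigmaCore M ⊓ Subgroup.centralizer (P : Set G) ≤ Cfsg.sigmaCore M ⊓ Subgroup.centralizer (R : Set G) := by
  haveI : Fact p.Prime := ⟨hp.1⟩
  obtain ⟨r, hrdef⟩ : ∃ r, Nat.card R = r := ⟨_, rfl⟩
  rw [hrdef] at hR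
  haveI : Fact r.Prime := ⟨hR⟩
  have hRE' : R ≤ E := hRE.trans inf_le_left
  have hRP : R ≤ centralizer (P : Set G) := hRE.trans inf_le_right
  have hPp : IsPGroup p P := IsPGroup.of_card (n := 1) (by rw [hP, pow_one])
  have hRp : IsPGroup r R := IsPGroup.of_card (n := 1) (by rw [hrdef, pow_one])
  refine le_inf inf_le_left ?_
  by_cases hrp : r = p
  · subst hrp
    refine inf_le_right.trans (centralizer_le ?_)
    have hT : IsPGroup r ↥(R ⊔ P) := hRp.to_sup_of_normal_right' hPp
      (hRP.trans (CfsgLib.Coprime.centralizer_le_normalizer_self _))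
    have hc : IsCyclic ↥(R ⊔ P) := Compl.isCyclic_of_rank_one
      (ms_ne_two hG ((dvd_of_eq hP.symm).trans (card_subgroup_dvd_card P))) hT
      (RankTwoTower.pRankLE_of_injective
        (f := inclusion ((sup_le hRE' hPE).trans hE.1)) (inclusion_injective _) hp.2.2.2.2)
    exact SetLike.coe_subset_coe.2 (eq_of_cyclic (q := r) hc le_sup_right le_sup_left
      (fun y hy => orderOf_dvd_iff_pow_eq_one.1 (hP ▸ orderOf_dvd_natCard P hy))
      (fun y hy => orderOf_dvd_iff_pow_eq_one.1 (hrdef ▸ orderOf_dvd_natCard R hy))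
      (line_ne_bot hP))
  have hrσ : r ∉ Cfsg.sigma M :=
    Compl.compl_not_sigma hG hM hE (hrdef ▸ card_dvd_of_le hRE')
  set C := Cfsg.sigmaCore M ⊓ centralizer (P : Set G) with hC
  have hRC : R ≤ normalizer (C : Set G) := CfsgLib.Coprime.inf_le_normalizer
    ((hRE'.trans hE.1).trans (sigmaCore_normal hG M)) (hRP.trans le_normalizer)
  have hcop : (Nat.card R).Coprime (Nat.card C) := by
    rw [hrdef]
    exact hR.coprime_iff_not_dvd.2 fun h => not_dvd_sigmaCore hG hM hrσ
      (h.trans (card_dvd_of_le inf_le_left))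
  have hsol : Group.IsSolvable R := CfsgLib.Coprime.isSolvable_of_isNilpotent hRp.isNilpotent
  refine le_of_invariant_sylows hRC hcop (Or.inl hsol) fun q hq _ Q hQC hQ hRQ => ?_
  haveI : Fact q.Prime := ⟨hq⟩
  refine commutator_eq_bot_iff_le_centralizer.1 ?_
  by_contra hne
  have hQQ : (⁅Q, R⁆ : Subgroup G) ≤ Q := commutator_le.2 fun w hw v hv => by
    rw [commutatorElement_def, mul_assoc, mul_assoc]
    refine mul_mem hw ?_
    rw [← mul_assoc]
    exact (mem_normalizer_iff.1 (hRQ hv) _).1 (inv_mem hw)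
  have h : ActConfig M P R (⁅Q, R⁆ : Subgroup G) p r q :=
    { coatom := hM
      tau := hp
      leP := hPE.trans hE.1
      cardP := hP
      cardR := hrdef
      leR := hRE'.trans hE.1
      commR := hRP
      rp := hrp
      rnot := hrσ
      isQ := hQ.to_le hQQ
      leQ := hQQ.trans (hQC.trans inf_le_left)
      commQ := hQQ.trans (hQC.trans inf_le_right)
      normQ := fun v hv => FixLine.mem_normalizer_commutator (hRQ hv) (le_normalizer hv)
      comm := CfsgLib.Coprime.commutator_commutator_eq hRQ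
        (hcop.coprime_dvd_right (card_dvd_of_le hQC)) (Or.inl hsol)
      neQ := hne }
  exact h.elim hG

end Cfsg.Agent.S1428
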