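import Cfsg.Statements.S1466
import Cfsg.Prelude.Def_OddOrderLocal
import Cfsg.Agent.Lib.CFun.OddPrelimSCN

set_option autoImplicit false
open Cfsg

namespace Cfsg.Agent.S1466

/-- Let p be a prime and R a nontrivial finite p-group. Then for every i > 0, Z(R) ≤ C_R(L_i(R)) ≤ L_i(R); likewise Z(R) ≤ C_R(L_*(R)) ≤ L_*(R) and Z(R) ≤ C_R(L(R)) ≤ L(R); and L(R) ≠ 1, L_*(R) ≠ 1. -/
theorem result {R : Type*} [Group R] [Finite R] (p : ℕ) [Fact p.Prime] (hR : IsPGroup p R) [Nontrivial R] :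
    (∀ i : ℕ, 0 < i → Subgroup.center R ≤ Subgroup.centralizer ((Cfsg.puigSeq R i : Subgroup R) : Set R) ∧
        Subgroup.centralizer ((Cfsg.puigSeq R i : Subgroup R) : Set R) ≤ Cfsg.puigSeq R i) ∧
      (Subgroup.center R ≤ Subgroup.centralizer ((Cfsg.puigLower R : Subgroup R) : Set R) ∧ Subgroup.centralizer ((Cfsg.puigLower R : Subgroup R) : Set R) ≤ Cfsg.puigLower R) ∧
      (Subgroup.center R ≤ Subgroup.centralizer ((Cfsg.puigSubgroup R : Subgroup R) : Set R) ∧ Subgroup.centralizer ((Cfsg.puigSubgroup R : Subgroup R) : Set R) ≤ Cfsg.puigSubgroup R) ∧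
      Cfsg.puigSubgroup R ≠ ⊥ ∧ Cfsg.puigLower R ≠ ⊥ := by
  haveI : Fact p.Prime := inferInstance
  obtain ⟨A, hAn, -, hAc, -, hA⟩ :=
    CfsgLib.CFun.exists_scn_between hR (⊤ : Subgroup R) ⊥ le_top inferInstance
  rw [top_inf_eq] at hA
  have hAi : ∀ i : ℕ, 0 < i → A ≤ Cfsg.puigSeq R i := fun i hi => by
    obtain ⟨j, rfl⟩ := Nat.exists_eq_succ_of_ne_zero hi.ne'
    exact le_sSup (α := Subgroup R) (a := A) ⟨hAc, by
      rw [Subgroup.normalizer_eq_top (H := A)]; exact le_top⟩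
  have hlow : A ≤ Cfsg.puigLower R :=
    (hAi 2 two_pos).trans (le_iSup (fun n => Cfsg.puigSeq R (2 * n)) 1)
  have hup : A ≤ Cfsg.puigSubgroup R := le_iInf fun n => hAi _ (Nat.succ_pos _)
  have key : ∀ X : Subgroup R, A ≤ X →
      Subgroup.center R ≤ Subgroup.centralizer (X : Set R) ∧ Subgroup.centralizer (X : Set R) ≤ X :=
    fun X hX => ⟨Subgroup.center_le_centralizer _,
      ((Subgroup.centralizer_le hX).trans hA.le).trans hX⟩
  have hne : A ≠ ⊥ := fun h => by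
    haveI := hR.center_nontrivial
    have h1 := (Subgroup.center_le_centralizer (A : Set R)).trans hA.le
    rw [h, le_bot_iff] at h1
    exact ((Subgroup.nontrivial_iff_ne_bot _).1 inferInstance) h1
  exact ⟨fun i hi => key _ (hAi i hi), key _ hlow, key _ hup,
    fun h => hne (le_bot_iff.1 (h ▸ hup)), fun h => hne (le_bot_iff.1 (h ▸ hlow))⟩
end Cfsg.Agent.S1466
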