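import Cfsg.Statements.S1467
import Cfsg.Prelude.Def_OddOrderLocal

set_option autoImplicit false
open Cfsg

namespace Cfsg.Agent.S1467

/-- Let G be a finite group with Puig series L_n(G). Then L_0 = 1, L_1 = G; L_{2n} ≤ L_{2n+2} ≤ L_{2m+3} ≤ L_{2m+1} for all n, m; there is k with L_{2n}(G) = L_*(G) and L_{2n+1}(G) = L(G) for all n ≥ k; L_*(G) ≤ L(G); and applying one Puig step to L_*(G) gives L(G) and to L(G) gives L_*(G). -/
theorem result {G : Type*} [Group G] [Finite G] :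
    Cfsg.puigSeq G 0 = ⊥ ∧ Cfsg.puigSeq G 1 = ⊤ ∧
      (∀ n m : ℕ, Cfsg.puigSeq G (2 * n) ≤ Cfsg.puigSeq G (2 * n + 2) ∧ Cfsg.puigSeq G (2 * n) ≤ Cfsg.puigSeq G (2 * m + 1) ∧
        Cfsg.puigSeq G (2 * m + 3) ≤ Cfsg.puigSeq G (2 * m + 1)) ∧
      (∃ k : ℕ, ∀ n : ℕ, k ≤ n → Cfsg.puigSeq G (2 * n) = Cfsg.puigLower G ∧ Cfsg.puigSeq G (2 * n + 1) = Cfsg.puigSubgroup G) ∧
      Cfsg.puigLower G ≤ Cfsg.puigSubgroup G ∧
      Cfsg.puigStep (Cfsg.puigLower G) = Cfsg.puigSubgroup G ∧ Cfsg.puigStep (Cfsg.puigSubgroup G) = Cfsg.puigLower G := by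
  have anti : ∀ {X Y : Subgroup G}, X ≤ Y → Cfsg.puigStep Y ≤ Cfsg.puigStep X := fun h =>
    sSup_le_sSup fun A hA => ⟨hA.1, h.trans hA.2⟩
  set L := Cfsg.puigSeq G
  have h0 : L 0 = ⊥ := rfl
  have h1 : L 1 = ⊤ := by
    refine eq_top_iff.2 fun x _ => ?_
    have h : Subgroup.zpowers x ≤ Cfsg.puigStep (⊥ : Subgroup G) := le_sSup ⟨inferInstance, bot_le⟩
    exact h (Subgroup.mem_zpowers x)
  have hs : ∀ n, L (n + 1) = Cfsg.puigStep (L n) := fun n => rfl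
  have hev : ∀ n, L (2 * n) ≤ L (2 * n + 2) ∧ L (2 * n + 3) ≤ L (2 * n + 1) := by
    intro n
    induction n with
    | zero => exact ⟨bot_le, h1 ▸ le_top⟩
    | succ k ih =>
      exact ⟨anti ih.2, anti (anti ih.2)⟩
  have hmid : ∀ n, L (2 * n) ≤ L (2 * n + 1) ∧ L (2 * n + 2) ≤ L (2 * n + 1) := by
    intro n
    induction n with
    | zero => exact ⟨bot_le, h1 ▸ le_top⟩
    | succ k ih =>
      have h : L (2 * (k + 1)) ≤ L (2 * (k + 1) + 1) := anti ih.2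
      exact ⟨h, anti h⟩
  have hmonoE : Monotone fun n => L (2 * n) := monotone_nat_of_le_succ fun n => (hev n).1
  have hantiO : Antitone fun n => L (2 * n + 1) := antitone_nat_of_succ_le fun n => (hev n).2
  have hcross : ∀ n m, L (2 * n) ≤ L (2 * m + 1) := fun n m =>
    (hmonoE (le_max_left n m)).trans ((hmid _).1.trans (hantiO (le_max_right n m)))
  obtain ⟨k, hk⟩ := WellFoundedGT.monotone_chain_condition
    (⟨fun n => L (2 * n), hmonoE⟩ : ℕ →o Subgroup G)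
  have hE : ∀ n, k ≤ n → L (2 * n) = L (2 * k) := fun n hn => (hk n hn).symm
  have hO : ∀ n, k ≤ n → L (2 * n + 1) = L (2 * k + 1) := fun n hn => by
    rw [hs (2 * n), hs (2 * k), hE n hn]
  have hlow : Cfsg.puigLower G = L (2 * k) := le_antisymm
    (iSup_le fun n => (le_total n k).elim (fun h => hmonoE h) fun h => (hE n h).le)
    (le_iSup (fun n => L (2 * n)) k)
  have hup : Cfsg.puigSubgroup G = L (2 * k + 1) := le_antisymm
    (iInf_le (fun n => L (2 * n + 1)) k)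
    (le_iInf fun n => (le_total n k).elim (fun h => hantiO h) fun h => (hO n h).ge)
  refine ⟨h0, h1, fun n m => ⟨(hev n).1, hcross n m, (hev m).2⟩,
    ⟨k, fun n hn => ⟨(hE n hn).trans hlow.symm, (hO n hn).trans hup.symm⟩⟩, ?_, ?_, ?_⟩
  · rw [hlow, hup]; exact hcross k k
  · rw [hlow, hup]; rfl
  · rw [hlow, hup]; exact (hE (k + 1) k.le_succ).symm.trans rfl |>.symm
end Cfsg.Agent.S1467
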