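import Cfsg.Statements.S1448
import Cfsg.Agent.Lib.CFun.OddRankTwoAction

set_option autoImplicit false
open Cfsg
open scoped commutatorElement

namespace Cfsg.Agent.S1448

/-- Let G be a finite group, p an odd prime, R a nontrivial p-subgroup with no elementary abelian subgroup of order p ^ 3, and A a subgroup of odd order coprime to p normalizing R with [R, A] = R. Then 3 < p, and either R is abelian or R is generated by two elementwise-commuting subgroups R₁, R₂ with R₁ non-abelian of order p ^ 3 and exponent p, R₂ cyclic, and the elements of R₂ of order dividing p generating exactly [R₁, R₁]. -/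
theorem result {G : Type*} [Group G] [Finite G] (p : ℕ) [Fact p.Prime] (hp : p ≠ 2) (R A : Subgroup G) (hR : IsPGroup p R) (hR1 : R ≠ ⊥) (hr : Cfsg.PRankLE p 2 R)
    (hA : (A ≤ Subgroup.normalizer (R : Set G))) (hcop : (Nat.card A).Coprime p) (hAodd : Odd (Nat.card A)) (hRA : ⁅R, A⁆ = R) :
    3 < p ∧ (IsMulCommutative R ∨ ∃ R₁ R₂ : Subgroup G, R₁ ⊔ R₂ = R ∧ (∀ a ∈ R₁, ∀ b ∈ R₂, a * b = b * a) ∧
        ¬ IsMulCommutative R₁ ∧ Nat.card R₁ = p ^ 3 ∧ Monoid.exponent R₁ = p ∧ IsCyclic R₂ ∧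
        Subgroup.closure {x : G | x ∈ R₂ ∧ x ^ p = 1} = ⁅R₁, R₁⁆) := by
  haveI : Nontrivial R := (Subgroup.nontrivial_iff_ne_bot R).2 hR1
  obtain ⟨h3, h⟩ := CfsgLib.CFun.RankTwoMoves.structure_of_moves hp hR hr
    (Θ := (CfsgLib.CFun.MetaAct.operHom hA).range)
    (hAodd.of_dvd_nat (Subgroup.card_range_dvd _))
    (hcop.coprime_dvd_left (Subgroup.card_range_dvd _))
    (CfsgLib.CFun.MetaAct.moves_of_commutator_eq hA hRA)
  refine ⟨h3, h.imp id ?_⟩
  rintro ⟨E, z, ζ, htop, hzC, hEna, hE3, hexp, hζz, hζo, hEE⟩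
  refine ⟨E.map R.subtype, (Subgroup.zpowers z).map R.subtype, ?_, ?_, ?_, ?_, ?_, ?_, ?_⟩
  · rw [← Subgroup.map_sup, htop, ← MonoidHom.range_eq_map, Subgroup.range_subtype]
  · rintro _ ⟨a, ha, rfl⟩ _ ⟨b, hb, rfl⟩
    rw [← map_mul, ← map_mul]
    exact congrArg _ (Subgroup.mem_centralizer_iff.1 ((Subgroup.zpowers_le.2 hzC) hb) a ha)
  · intro hc
    refine hEna ⟨⟨fun a b => Subtype.ext (Subtype.ext ?_)⟩⟩
    have h1 := hc.is_comm.comm (⟨((a : R) : G), Subgroup.mem_map_of_mem R.subtype a.2⟩ : E.map R.subtype)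
      ⟨((b : R) : G), Subgroup.mem_map_of_mem R.subtype b.2⟩
    exact (congrArg Subtype.val h1 :)
  · rw [Subgroup.card_map_of_injective R.subtype_injective, hE3]
  · rw [← Monoid.exponent_eq_of_mulEquiv (E.equivMapOfInjective R.subtype R.subtype_injective)]
    have hdvd : Monoid.exponent E ∣ p :=
      Monoid.exponent_dvd_of_forall_pow_eq_one fun x => Subtype.ext (hexp x x.2)
    refine ((Nat.dvd_prime Fact.out).1 hdvd).resolve_left fun h1 => ?_
    have h2 : Subsingleton E := Monoid.exp_eq_one_iff.1 h1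
    rw [Nat.card_unique] at hE3
    have := Nat.one_lt_pow (show 3 ≠ 0 by norm_num) (Fact.out : p.Prime).one_lt
    omega
  · exact ((Subgroup.zpowers z).equivMapOfInjective R.subtype R.subtype_injective).isCyclic.1
      inferInstance
  · rw [← Subgroup.map_commutator, hEE]
    refine le_antisymm ((Subgroup.closure_le _).2 ?_) ?_
    · rintro _ ⟨⟨x, hx, rfl⟩, hxp⟩
      refine ⟨x, ?_, rfl⟩
      set T : Subgroup R := Subgroup.zpowers z
      have hxp' : x ^ p = 1 := R.subtype_injective (by rw [map_pow, map_one]; exact hxp)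
      set W : Subgroup R := Subgroup.zpowers ζ ⊔ Subgroup.zpowers x
      have hWT : W ≤ T := sup_le (Subgroup.zpowers_le.2 hζz) (Subgroup.zpowers_le.2 hx)
      have hWp : ∀ w ∈ W, w ^ p = 1 := fun w hw => by
        have h1 : Commute ζ x := by
          obtain ⟨i, hi⟩ := hζz
          obtain ⟨j, hj⟩ := hx
          rw [← hi, ← hj]
          exact Commute.zpow_zpow_self z i j
        obtain ⟨_, ⟨i, rfl⟩, _, ⟨j, rfl⟩, rfl⟩ := CfsgLib.Coprime.mem_sup_exists
          ((Subgroup.zpowers_le.2 (Subgroup.mem_centralizer_iff.2 fun y hy => by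
              obtain ⟨i, rfl⟩ := hy
              exact (h1.zpow_left i).eq)).trans (CfsgLib.Coprime.centralizer_le_normalizer_self _)) hw
        show (ζ ^ i * x ^ j) ^ p = 1
        rw [(h1.zpow_zpow i j).mul_pow, ← zpow_natCast, ← zpow_natCast, ← zpow_mul, ← zpow_mul,
          mul_comm i, mul_comm j, zpow_mul, zpow_mul, zpow_natCast, zpow_natCast, ← hζo,
          pow_orderOf_eq_one, hζo, hxp', one_zpow, one_zpow, one_mul]
      have h1 := CfsgLib.MetacyclicOmega.card_pow_eq_one_le (p := p) W hWT hWp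
      have h2 : Subgroup.zpowers ζ = W := Subgroup.eq_of_le_of_card_ge le_sup_left
        (by rwa [Nat.card_zpowers, hζo])
      exact h2.ge (Subgroup.mem_sup_right (Subgroup.mem_zpowers x))
    · rw [MonoidHom.map_zpowers, Subgroup.zpowers_le]
      refine Subgroup.subset_closure ⟨Subgroup.mem_map_of_mem _ hζz, ?_⟩
      rw [← map_pow, ← hζo, pow_orderOf_eq_one, map_one]

end Cfsg.Agent.S1448
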