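import Cfsg.Statements.S1412
import Cfsg.Agent.S1411
import Cfsg.Agent.S1448
import Cfsg.Agent.Lib.Fusion.Hall

set_option autoImplicit false
open Cfsg
open scoped commutatorElement

namespace Cfsg.Agent.S1412

/-- Let G be a minimal simple group of odd order, p a prime and P a Sylow p-subgroup of G with no elementary abelian subgroup of order p ^ 3. Then either P is abelian, or P is generated by two elementwise-commuting subgroups P₁, P₂ with P₁ nonabelian of order p ^ 3 and exponent p, P₂ cyclic, and the elements of P₂ of order dividing p generating exactly the centre of P₁. -/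
theorem result {G : Type*} [Group G] [Finite G] (hG : Cfsg.IsMinSimpleOddOrder G) (p : ℕ) [Fact p.Prime] (P : Sylow p G) (hr : Cfsg.PRankLE p 2 (P : Subgroup G)) :
    IsMulCommutative (P : Subgroup G) ∨ ∃ P₁ P₂ : Subgroup G, P₁ ⊔ P₂ = (P : Subgroup G) ∧ (∀ a ∈ P₁, ∀ b ∈ P₂, a * b = b * a) ∧
        ¬ IsMulCommutative P₁ ∧ Nat.card P₁ = p ^ 3 ∧ Monoid.exponent P₁ = p ∧ IsCyclic P₂ ∧
        Subgroup.closure {x : G | x ∈ P₂ ∧ x ^ p = 1} = P₁ ⊓ Subgroup.centralizer (P₁ : Set G) := by
  by_cases hP1 : (P : Subgroup G) = ⊥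
  · exact Or.inl ⟨⟨fun a b => Subtype.ext (by
      have ha := a.2; have hb := b.2
      simp only [hP1, Subgroup.mem_bot] at ha hb
      show (a : G) * b = b * a
      rw [ha, hb])⟩⟩
  set N := Subgroup.normalizer ((P : Subgroup G) : Set G) with hN
  have hPN : (P : Subgroup G) ≤ N := Subgroup.le_normalizer
  haveI : ((P : Subgroup G).subgroupOf N).Normal :=
    (Subgroup.normal_subgroupOf_iff_le_normalizer hPN).2 le_rfl
  have hcop : (Nat.card ↥((P : Subgroup G).subgroupOf N)).Coprime ((P : Subgroup G).subgroupOf N).index := by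
    obtain ⟨k, hk⟩ := IsPGroup.iff_card.1 P.2
    rw [Nat.card_congr (Subgroup.subgroupOfEquivOfLe hPN).toEquiv, hk]
    exact ((Fact.out : p.Prime).coprime_iff_not_dvd.2 fun hd =>
      P.not_dvd_index (hd.trans (Subgroup.relIndex_dvd_index_of_le hPN))).pow_left k
  obtain ⟨V₀, hV₀⟩ := Subgroup.exists_right_complement'_of_coprime hcop
  set V := V₀.map N.subtype with hV
  have hc : Cfsg.IsComplIn (P : Subgroup G) V N := by
    refine ⟨hPN, Subgroup.map_subtype_le _, le_bot_iff.1 ?_, fun m hm => ?_⟩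
    · rintro x ⟨hxP, y, hy, rfl⟩
      have h1 : y ∈ ((P : Subgroup G).subgroupOf N) ⊓ V₀ := ⟨hxP, hy⟩
      rw [disjoint_iff.1 hV₀.disjoint, Subgroup.mem_bot] at h1
      rw [h1]; exact Subgroup.mem_bot.2 rfl
    · obtain ⟨⟨⟨a, ha⟩, ⟨b, hb⟩⟩, e⟩ := hV₀.2 ⟨m, hm⟩
      exact ⟨a, ha, b, Subgroup.mem_map_of_mem _ hb, (congrArg Subtype.val e).symm⟩
  have hPV := (Cfsg.Agent.S1411.result hG p P V hc).1
  have hVd : Nat.card V ∣ ((P : Subgroup G).subgroupOf N).index := by
    rw [hV, Subgroup.card_map_of_injective N.subtype_injective, hV₀.symm.index_eq_card]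
  have hVcop : (Nat.card V).Coprime p :=
    ((Fact.out : p.Prime).coprime_iff_not_dvd.2 fun hd =>
      P.not_dvd_index ((hd.trans hVd).trans (Subgroup.relIndex_dvd_index_of_le hPN))).symm
  have hodd : Odd (Nat.card V) := hG.1.of_dvd_nat (Subgroup.card_subgroup_dvd_card V)
  have hp2 : p ≠ 2 := by
    obtain ⟨k, hk⟩ := IsPGroup.iff_card.1 P.2
    rcases k with _ | k
    · exact absurd (Subgroup.card_eq_one.1 (hk.trans (pow_zero p))) hP1
    intro h2
    subst h2
    refine Nat.not_even_iff_odd.2 hG.1 (even_iff_two_dvd.2 ?_)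
    exact (hk ▸ dvd_pow_self 2 k.succ_ne_zero).trans (Subgroup.card_subgroup_dvd_card _)
  obtain ⟨-, h⟩ := Cfsg.Agent.S1448.result p hp2 (P : Subgroup G) V P.2 hP1 hr hc.2.1 hVcop hodd hPV.symm
  refine h.imp id ?_
  rintro ⟨R₁, R₂, hsup, hcomm, hna, h3, hexp, hcyc, hcl⟩
  refine ⟨R₁, R₂, hsup, hcomm, hna, h3, hexp, hcyc, hcl.trans ?_⟩
  -- in a nonabelian group of order `p^3` the derived group is the centre
  have hR₁ : IsPGroup p R₁ := IsPGroup.of_card h3
  set Z := Subgroup.center R₁ with hZ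
  have hZc : Nat.card Z = p := by
    obtain ⟨k, hk⟩ := IsPGroup.iff_card.1 (hR₁.to_subgroup Z)
    have hidx := Z.card_mul_index
    rw [h3, hk] at hidx
    obtain ⟨j, -, hj⟩ := (Nat.dvd_prime_pow Fact.out).1 (Dvd.intro_left _ hidx)
    rw [hj, ← pow_add] at hidx
    have hkj := Nat.pow_right_injective (Fact.out : p.Prime).two_le hidx
    have hk0 : k ≠ 0 := by
      intro h0
      haveI : Nontrivial R₁ := Finite.one_lt_card_iff_nontrivial.1
        (by rw [h3]; exact Nat.one_lt_pow (by norm_num) (Fact.out : p.Prime).one_lt)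
      haveI := hR₁.center_nontrivial
      have h1 : 1 < Nat.card Z := Finite.one_lt_card
      rw [hk, h0, pow_zero] at h1
      omega
    have hj2 : 2 ≤ j := by
      by_contra hlt
      push Not at hlt
      refine hna ?_
      haveI : IsCyclic (R₁ ⧸ Z) := by
        rcases Nat.lt_or_ge j 1 with h0 | h1
        · haveI : Subsingleton (R₁ ⧸ Z) := Finite.card_le_one_iff_subsingleton.1 (by
            rw [← Subgroup.index_eq_card, hj, show j = 0 by omega, pow_zero])
          exact isCyclic_of_subsingleton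
        · exact isCyclic_of_prime_card (p := p)
            (by rw [← Subgroup.index_eq_card, hj, show j = 1 by omega, pow_one])
      exact ⟨⟨fun a b => commutative_of_cyclic_center_quotient (QuotientGroup.mk' Z)
        (QuotientGroup.ker_mk' Z).le a b⟩⟩
    rw [hk, show k = 1 by omega, pow_one]
  have hZeq : R₁ ⊓ Subgroup.centralizer (R₁ : Set G) = Z.map R₁.subtype := by
    ext x
    constructor
    · rintro ⟨hx, hxc⟩
      exact ⟨⟨x, hx⟩, Subgroup.mem_center_iff.2 fun y => Subtype.ext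
        (Subgroup.mem_centralizer_iff.1 hxc y y.2), rfl⟩
    · rintro ⟨y, hy, rfl⟩
      exact ⟨y.2, Subgroup.mem_centralizer_iff.2 fun z hz =>
        congrArg Subtype.val (Subgroup.mem_center_iff.1 hy ⟨z, hz⟩)⟩
  rw [hZeq]
  have hle : ⁅R₁, R₁⁆ ≤ Z.map R₁.subtype := by
    rw [show (⁅R₁, R₁⁆ : Subgroup G) = (commutator R₁).map R₁.subtype by
      rw [_root_.commutator_def, Subgroup.map_commutator, ← MonoidHom.range_eq_map, Subgroup.range_subtype]]
    exact Subgroup.map_mono (CfsgLib.MetacyclicOmega.commutator_le_center_of_card hR₁ h3)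
  refine Subgroup.eq_of_le_of_card_ge hle ?_
  rw [Subgroup.card_map_of_injective R₁.subtype_injective, hZc]
  obtain ⟨k, hk⟩ := IsPGroup.iff_card.1 (hR₁.to_le (Subgroup.commutator_le_self R₁))
  rcases k with _ | k
  · exfalso
    refine hna ⟨⟨fun a b => Subtype.ext ?_⟩⟩
    have h1 : ⁅(a : G), (b : G)⁆ ∈ ⁅R₁, R₁⁆ := Subgroup.commutator_mem_commutator a.2 b.2
    rw [Subgroup.card_eq_one.1 (hk.trans (pow_zero p)), Subgroup.mem_bot] at h1
    exact commutatorElement_eq_one_iff_mul_comm.1 h1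
  · rw [hk]; exact Nat.le_self_pow k.succ_ne_zero p

end Cfsg.Agent.S1412
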