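import Cfsg.Agent.Lib.CFun.OddCriteria
import Cfsg.Statements.S1396
-- import your own Cfsg.Agent.* helpers here

set_option autoImplicit false
open Cfsg

namespace Cfsg.Agent.S1396

/-- Let G be a minimal simple group of odd order, p a prime dividing the order of G and A an abelian p-subgroup. Suppose either (1) A consists exactly of the elements x of C_G(A) with x^p = 1, and every proper subgroup of G has p-length at most one, or (2) A is normal and self-centralizing in some Sylow p-subgroup of G and has rank at least 2. Then A satisfies the transitivity hypothesis. -/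
theorem result {G : Type*} [Group G] [Finite G] (hG : Cfsg.IsMinSimpleOddOrder G)
    (p : ℕ) [Fact p.Prime] (hp : p ∣ Nat.card G) (A : Subgroup G) (hAp : IsPGroup p A) (hAc : IsMulCommutative A)
    (h : (∀ x ∈ Subgroup.centralizer (A : Set G), x ^ p = 1 ↔ x ∈ A) ∧ (∀ H : Subgroup G, H ≠ ⊤ → Cfsg.PLengthLE p 1 H) ∨
      ∃ P : Sylow p G, Cfsg.IsSCN (P : Subgroup G) A ∧ ¬ Cfsg.PRankLE p 1 A) :
    Cfsg.TransitivityHypothesis A := by
  obtain ⟨hodd, hsimp, hnab, hsolv⟩ : Odd (Nat.card G) ∧ IsSimpleGroup G ∧ ¬ IsMulCommutative G ∧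
      ∀ H : Subgroup G, H ≠ ⊤ → Group.IsSolvable H := hG
  have hp2 : p ≠ 2 := by
    rintro rfl
    exact Nat.not_even_iff_odd.2 hodd (even_iff_two_dvd.2 hp)
  have hA2 : A ≠ ⊤ := by
    rintro rfl
    exact hnab ⟨⟨fun a b => congrArg Subtype.val
      (hAc.is_comm.comm (⟨a, Subgroup.mem_top a⟩ : (⊤ : Subgroup G)) ⟨b, Subgroup.mem_top b⟩)⟩⟩
  have hsub : ∀ {X : Subgroup G}, A ≤ X → IsPGroup p (A.subgroupOf X) := fun hAX =>
    hAp.of_equiv (Subgroup.subgroupOfEquivOfLe hAX).symm
  have hcen : ∀ {X : Subgroup G} (_ : A ≤ X) (x : X),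
      x ∈ Subgroup.centralizer (A.subgroupOf X : Set X) → (x : G) ∈ Subgroup.centralizer (A : Set G) :=
    fun hAX x hx => Subgroup.mem_centralizer_iff.2 fun a ha =>
      congrArg Subtype.val (Subgroup.mem_centralizer_iff.1 hx ⟨a, hAX ha⟩ ha)
  rcases h with ⟨hom, hlen⟩ | ⟨P, hscn, hrk⟩
  · have hA1 : A ≠ ⊥ := by
      rintro rfl
      obtain ⟨x, hx⟩ := exists_prime_orderOf_dvd_card' p hp
      have h1 : x ^ p = 1 := hx ▸ pow_orderOf_eq_one x
      have h2 := (hom x (Subgroup.mem_centralizer_iff.2 fun a ha => by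
        rw [Subgroup.mem_bot.1 ha, one_mul, mul_one])).1 h1
      rw [Subgroup.mem_bot] at h2
      rw [h2, orderOf_one] at hx
      exact (Fact.out : p.Prime).ne_one hx.symm
    refine CfsgLib.CFun.transitivityHypothesis_of_local hAp hA1 hA2 fun X hX hAX K hK hAK => ?_
    haveI := hsolv X hX
    exact CfsgLib.CFun.le_pPrimeCore_of_pLength_one hp2
      (CfsgLib.CFun.not_dvd_index_of_pLengthLE_one (hlen X hX)) CfsgLib.CFun.pCons_of_isSolvable
      (hsub hAX) (fun x hx hxp => (hom x (hcen hAX x hx)).1 (by rw [← Subgroup.coe_pow, hxp]; rfl))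
      hK hAK
  · have hA1 : A ≠ ⊥ := by
      rintro rfl
      refine hrk fun E _ _ => ?_
      rw [pow_one]
      exact le_trans (Subgroup.card_le_card_group E) (by
        rw [Subgroup.card_bot]; exact (Fact.out : p.Prime).one_lt.le)
    refine CfsgLib.CFun.transitivityHypothesis_of_local hAp hA1 hA2 fun X hX hAX K hK hAK => ?_
    haveI := hsolv X hX
    refine CfsgLib.CFun.le_pPrimeCore_of_invariant CfsgLib.CFun.pCons_of_isSolvable (hsub hAX)
      (fun x hx hxp => CfsgLib.CFun.scn_full P hscn x (hcen hAX x hx) ?_) (fun h => absurd h hp2)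
      hK hAK
    have h1 := hxp.map X.subtype
    rwa [MonoidHom.map_zpowers] at h1

end Cfsg.Agent.S1396
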