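import Cfsg.Statements.S4006
import Cfsg.Agent.Lib.Coprime.Solvable
import Cfsg.Agent.Lib.Coprime.UniqueOrderP
import Cfsg.Agent.Lib.Spor.Tri.SmallSymmetric

set_option autoImplicit false
open Cfsg

namespace Cfsg.Agent.S4006

open Subgroup
open scoped commutatorElement

/-- In a finite 2-group in which every element commutes with its conjugates, commutators are central. -/
theorem commute_commutator_of_engel {N : Type*} [Group N] (h2 : ∀ n : N, ∃ k : ℕ, n ^ 2 ^ k = 1)
    (h : ∀ a g : N, Commute a (g * a * g⁻¹)) (a b d : N) : Commute ⁅a, b⁆ d := by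
  have hcl : ∀ a x y : N, Commute (x * a * x⁻¹) (y * a * y⁻¹) := fun a x y => by
    have h1 := (h a (x⁻¹ * y)).map (MulAut.conj x).toMonoidHom
    simp only [MulEquiv.coe_toMonoidHom, MulAut.conj_apply] at h1
    rwa [show x * (x⁻¹ * y * a * (x⁻¹ * y)⁻¹) * x⁻¹ = y * a * y⁻¹ by group] at h1
  have hc1 : ∀ a b : N, Commute a ⁅a, b⁆ := fun a b => by
    rw [_root_.commutatorElement_def, show a * b * a⁻¹ * b⁻¹ = a * (b * a⁻¹ * b⁻¹) by group]
    refine (Commute.refl a).mul_right ?_
    have h1 := (h a b).inv_right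
    rwa [show (b * a * b⁻¹)⁻¹ = b * a⁻¹ * b⁻¹ by group] at h1
  have hc2 : ∀ a b : N, Commute b ⁅a, b⁆ := fun a b => by
    have := (hc1 b a).inv_right
    rwa [commutatorElement_inv] at this
  -- the abelian normal closure of `a`
  have hA : ∀ a x y : N, x ∈ normalClosure ({a} : Set N) → y ∈ normalClosure ({a} : Set N) → Commute x y := by
    intro a x y hx hy
    have hle : normalClosure ({a} : Set N) ≤ centralizer (Group.conjugatesOfSet ({a} : Set N)) := by
      refine (closure_le _).2 fun u hu => mem_centralizer_iff.2 fun v hv => ?_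
      obtain ⟨a', ha', hu'⟩ := Group.mem_conjugatesOfSet_iff.1 hu
      obtain ⟨a'', ha'', hv'⟩ := Group.mem_conjugatesOfSet_iff.1 hv
      rw [Set.mem_singleton_iff.1 ha'] at hu'
      rw [Set.mem_singleton_iff.1 ha''] at hv'
      obtain ⟨cu, rfl⟩ := isConj_iff.1 hu'
      obtain ⟨cv, rfl⟩ := isConj_iff.1 hv'
      exact hcl _ cv cu
    have hle2 : normalClosure ({a} : Set N) ≤ centralizer (normalClosure ({a} : Set N) : Set N) := by
      refine (closure_le _).2 fun u hu => mem_centralizer_iff.2 fun v hv => ?_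
      exact (mem_centralizer_iff.1 (hle hv) u hu).symm
    exact (mem_centralizer_iff.1 (hle2 hx) y hy).symm
  have hmem : ∀ a b : N, ⁅a, b⁆ ∈ normalClosure ({a} : Set N) := fun a b => by
    rw [_root_.commutatorElement_def, show a * b * a⁻¹ * b⁻¹ = a * (b * a⁻¹ * b⁻¹) by group]
    exact mul_mem (subset_normalClosure rfl)
      ((inferInstance : (normalClosure ({a} : Set N)).Normal).conj_mem _ (inv_mem (subset_normalClosure rfl)) b)
  have hcm : ∀ (a u g : N), u ∈ normalClosure ({a} : Set N) → g * u * g⁻¹ ∈ normalClosure ({a} : Set N) :=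
    fun a u g hu => (inferInstance : (normalClosure ({a} : Set N)).Normal).conj_mem _ hu g
  have hswap : ∀ a b d : N, ⁅d, ⁅a, b⁆⁆ = ⁅b, ⁅a, d⁆⁆⁻¹ := by
    intro a b d
    set P := ⁅a, b⁆ with hP
    set Q := ⁅a, d⁆ with hQ
    set X := ⁅d, P⁆ with hX
    set Y := ⁅b, Q⁆ with hY
    have hPA := hmem a b
    have hQA := hmem a d
    have hXA : X ∈ normalClosure ({a} : Set N) := mul_mem (hcm a P d hPA) (inv_mem hPA)
    have hYA : Y ∈ normalClosure ({a} : Set N) := mul_mem (hcm a Q b hQA) (inv_mem hQA)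
    have e1 : b * P * b⁻¹ = P := by rw [(hc2 a b).eq, mul_inv_cancel_right]
    have e2 : d * Q * d⁻¹ = Q := by rw [(hc2 a d).eq, mul_inv_cancel_right]
    have e3 : d * P * d⁻¹ = X * P := by rw [hX, _root_.commutatorElement_def]; group
    have e4 : b * Q * b⁻¹ = Y * Q := by rw [hY, _root_.commutatorElement_def]; group
    have ec : ⁅a, b * d⁆ = P * (Y * Q) := by
      rw [← e4, hP, hQ, _root_.commutatorElement_def, _root_.commutatorElement_def, _root_.commutatorElement_def]
      group
    have e5 : b * d * ⁅a, b * d⁆ * (b * d)⁻¹ = ⁅a, b * d⁆ := by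
      rw [(hc2 a (b * d)).eq, mul_inv_cancel_right]
    rw [ec] at e5
    have e6 : b * d * (P * (Y * Q)) * (b * d)⁻¹ = (b * (X * (d * Y * d⁻¹)) * b⁻¹) * (P * (Y * Q)) := by
      have c1 : P * (d * Y * d⁻¹) = (d * Y * d⁻¹) * P := hA a _ _ hPA (hcm a Y d hYA)
      calc b * d * (P * (Y * Q)) * (b * d)⁻¹
          = b * ((d * P * d⁻¹) * (d * Y * d⁻¹) * (d * Q * d⁻¹)) * b⁻¹ := by group
        _ = b * (X * (P * (d * Y * d⁻¹)) * Q) * b⁻¹ := by rw [e3, e2]; group
        _ = b * (X * ((d * Y * d⁻¹) * P) * Q) * b⁻¹ := by rw [c1]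
        _ = (b * (X * (d * Y * d⁻¹)) * b⁻¹) * ((b * P * b⁻¹) * (b * Q * b⁻¹)) := by group
        _ = (b * (X * (d * Y * d⁻¹)) * b⁻¹) * (P * (Y * Q)) := by rw [e1, e4]
    rw [e6, mul_eq_right, conj_eq_one_iff] at e5
    have hXd : Commute d X := hc1 d P
    have e7 : d * (X * Y) * d⁻¹ = 1 := by
      rw [show d * (X * Y) * d⁻¹ = (d * X * d⁻¹) * (d * Y * d⁻¹) by group, hXd.eq, mul_inv_cancel_right, e5]
    rw [conj_eq_one_iff] at e7
    exact eq_inv_of_mul_eq_one_left e7
  -- the triple commutator is alternating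
  have h12 : ∀ a b d : N, ⁅⁅b, a⁆, d⁆ = ⁅⁅a, b⁆, d⁆⁻¹ := by
    intro a b d
    have hv : ⁅⁅a, b⁆, d⁆ ∈ normalClosure ({a} : Set N) := by
      rw [_root_.commutatorElement_def, show ⁅a, b⁆ * d * ⁅a, b⁆⁻¹ * d⁻¹ = ⁅a, b⁆ * (d * ⁅a, b⁆⁻¹ * d⁻¹) by group]
      exact mul_mem (hmem a b) (hcm a _ d (inv_mem (hmem a b)))
    have c1 := hA a _ _ (hmem a b) hv
    rw [← commutatorElement_inv a b]
    calc ⁅⁅a, b⁆⁻¹, d⁆ = ⁅a, b⁆⁻¹ * ⁅⁅a, b⁆, d⁆⁻¹ * ⁅a, b⁆ := by
          simp only [_root_.commutatorElement_def]; group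
      _ = ⁅⁅a, b⁆, d⁆⁻¹ := by rw [c1.inv_inv.eq, inv_mul_cancel_right]
  have h23 : ∀ a b d : N, ⁅⁅a, d⁆, b⁆ = ⁅⁅a, b⁆, d⁆⁻¹ := by
    intro a b d
    rw [← commutatorElement_inv b ⁅a, d⁆, ← commutatorElement_inv d ⁅a, b⁆, hswap a b d, inv_inv]
  have hcyc : ∀ a b d : N, ⁅⁅b, d⁆, a⁆ = ⁅⁅a, b⁆, d⁆ := fun a b d => by rw [h23 b a d, h12 a b d, inv_inv]
  have hb' : ∀ a b d : N, Commute b ⁅⁅a, b⁆, d⁆ := fun a b d => by
    have h1 := (hc2 ⁅a, d⁆ b).inv_right
    rwa [h23 a b d, inv_inv] at h1
  have hw : ∀ a b d : N, ⁅⁅a, b⁆, b * d * b⁻¹⁆ = ⁅⁅a, b⁆, d⁆ := fun a b d => by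
    have e1 : b * ⁅a, b⁆ * b⁻¹ = ⁅a, b⁆ := by rw [(hc2 a b).eq, mul_inv_cancel_right]
    calc ⁅⁅a, b⁆, b * d * b⁻¹⁆ = ⁅b * ⁅a, b⁆ * b⁻¹, b * d * b⁻¹⁆ := by rw [e1]
      _ = b * ⁅⁅a, b⁆, d⁆ * b⁻¹ := (map_commutatorElement (MulAut.conj b) ⁅a, b⁆ d).symm
      _ = ⁅⁅a, b⁆, d⁆ := by rw [(hb' a b d).eq, mul_inv_cancel_right]
  have hhw : ⁅⁅a, b⁆, b * d * b⁻¹⁆ * ⁅⁅b, d⁆, d * a * d⁻¹⁆ * ⁅⁅d, a⁆, a * b * a⁻¹⁆ = 1 := by
    simp only [_root_.commutatorElement_def]; group
  rw [hw, hw, hw, hcyc a b d, hcyc d a b |>.symm, ← pow_three'] at hhw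
  refine commutatorElement_eq_one_iff_commute.1 ?_
  obtain ⟨k, hk⟩ := h2 ⁅⁅a, b⁆, d⁆
  refine orderOf_eq_one_iff.1 (Nat.eq_one_of_dvd_coprimes (Nat.Coprime.pow_left k (by decide : Nat.Coprime 2 3))
    (orderOf_dvd_of_pow_eq_one hk) (orderOf_dvd_of_pow_eq_one hhw))

theorem exists_two_three {n : ℕ} (hn : n ≠ 0) (h : ∀ r : ℕ, r.Prime → r ∣ n → r = 2 ∨ r = 3) :
    ∃ a b : ℕ, n = 2 ^ a * 3 ^ b := by
  induction n using Nat.recOnPrimeCoprime with
  | zero => exact absurd rfl hn
  | prime_pow p k hp =>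
    rcases Nat.eq_zero_or_pos k with rfl | hk
    · exact ⟨0, 0, by simp⟩
    rcases h p hp (dvd_pow_self p hk.ne') with rfl | rfl
    · exact ⟨k, 0, by simp⟩
    · exact ⟨0, k, by simp⟩
  | coprime a b _ _ _ iha ihb =>
    obtain ⟨ha0, hb0⟩ := mul_ne_zero_iff.1 hn
    obtain ⟨x, y, rfl⟩ := iha ha0 fun r hr hd => h r hr (hd.mul_right b)
    obtain ⟨z, w, rfl⟩ := ihb hb0 fun r hr hd => h r hr (hd.mul_left _)
    exact ⟨x + z, y + w, by ring⟩

/-- A finite group whose set of element orders is exactly {1, 2, 3, 4} has a normal subgroup N such that either N is a 2-group of exponent 4 and nilpotency class at most 2 with G/N of order 3, or N is an elementary abelian 2-group with G/N isomorphic to the symmetric group of degree 3, or N is an elementary abelian 3-group with G/N cyclic of order 4 or quaternion of order 8. -/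
theorem result {G : Type*} [Group G] [Finite G] (h : Set.range (orderOf : G → ℕ) = {k : ℕ | 1 ≤ k ∧ k ≤ 4}) :
    ∃ (N : Subgroup G) (_ : N.Normal),
      (IsPGroup 2 ↥N ∧ Monoid.exponent ↥N = 4 ∧ Group.nilpotencyClass ↥N ≤ 2 ∧ N.index = 3) ∨
      (Cfsg.IsElementaryAbelian 2 N ∧ Nonempty (G ⧸ N ≃* Equiv.Perm (Fin 3))) ∨
      (Cfsg.IsElementaryAbelian 3 N ∧ ((IsCyclic (G ⧸ N) ∧ N.index = 4) ∨ Nonempty (G ⧸ N ≃* QuaternionGroup 2))) := by
  classical
  haveI := Fact.mk Nat.prime_two
  haveI := Fact.mk Nat.prime_three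
  have ho : ∀ x : G, 1 ≤ orderOf x ∧ orderOf x ≤ 4 := fun x => by
    have h1 : orderOf x ∈ Set.range (orderOf : G → ℕ) := ⟨x, rfl⟩
    rw [h] at h1; exact h1
  have hex : ∀ k, 1 ≤ k → k ≤ 4 → ∃ x : G, orderOf x = k := fun k h1 h4 => by
    have h5 : k ∈ Set.range (orderOf : G → ℕ) := by rw [h]; exact ⟨h1, h4⟩
    exact h5
  have h34 : ∀ x : G, x ^ 3 = 1 ∨ x ^ 4 = 1 := fun x => by
    obtain ⟨h1, h4⟩ := ho x
    have h5 := pow_orderOf_eq_one x
    generalize hk : orderOf x = k at h1 h4 h5
    interval_cases k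
    · exact Or.inl (by rw [pow_one] at h5; rw [h5, one_pow])
    · exact Or.inr (by rw [show 4 = 2 * 2 from rfl, pow_mul, h5, one_pow])
    · exact Or.inl h5
    · exact Or.inr h5
  -- an element of order three commutes with no other two-element
  have hF : ∀ x u : G, x ^ 3 = 1 → x ≠ 1 → u ^ 4 = 1 → Commute x u → u = 1 := by
    intro x u hx hx1 hu hc
    by_contra hu1
    have hxo : orderOf x = 3 := orderOf_eq_prime hx hx1
    have hd := orderOf_dvd_of_pow_eq_one hu
    have hco : (orderOf x).Coprime (orderOf u) := by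
      rw [hxo]; exact Nat.Coprime.coprime_dvd_right hd (by decide)
    have h1 := (ho (x * u)).2
    rw [hc.orderOf_mul_eq_mul_orderOf_of_coprime hco, hxo] at h1
    have h2 : orderOf u ≠ 1 := fun h' => hu1 (orderOf_eq_one_iff.1 h')
    have := orderOf_pos u
    omega
  have hp23 : ∀ r : ℕ, r.Prime → r ∣ Nat.card G → r = 2 ∨ r = 3 := by
    intro r hr hd
    haveI := Fact.mk hr
    obtain ⟨x, hx⟩ := exists_prime_orderOf_dvd_card' r hd
    have h1 := (ho x).2
    rw [hx] at h1
    have h2 := hr.two_le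
    interval_cases r
    · exact Or.inl rfl
    · exact Or.inr rfl
    · exact absurd hr (by decide)
  obtain ⟨ca, cb, hcard⟩ := exists_two_three Nat.card_pos.ne' hp23
  haveI : Group.IsSolvable G :=
    CfsgLib.Char.isSolvable_of_card_two_primes Nat.prime_two Nat.prime_three G ca cb hcard
  have hthree : ∀ K : Subgroup G, (∀ u ∈ K, orderOf u ≠ 2) → IsPGroup 3 K := fun K hK u => ⟨1, by
    rw [pow_one]
    apply Subtype.ext
    rw [Subgroup.coe_pow, Subgroup.coe_one]
    rcases h34 u with h' | h'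
    · exact h'
    have h1 : ((u : G) ^ 2) = 1 := by
      by_contra h2
      exact hK _ (pow_mem u.2 2) (orderOf_eq_prime (by rw [← pow_mul]; exact h') h2)
    have h2 : (u : G) = 1 := by
      by_contra h2
      exact hK _ u.2 (orderOf_eq_prime h1 h2)
    rw [h2, one_pow]⟩
  by_cases hO : Cfsg.pCore 3 G = ⊥
  · -- the two-core
    set N := Cfsg.pCore 2 G with hN
    haveI hNn : N.Normal := CfsgLib.Coprime.pCore_normal' 2
    have hNp : IsPGroup 2 N := CfsgLib.Coprime.pCore_isPGroup 2
    have hpp : Cfsg.pPrimeCore 2 G = ⊥ := by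
      rw [eq_bot_iff, ← hO]
      haveI : (Cfsg.pPrimeCore 2 G).Normal := Subgroup.sSup_normal _ (fun _ h' => h'.1)
      refine CfsgLib.Coprime.le_pCore (hthree _ fun u hu h2 => ?_)
      refine CfsgLib.Coprime.pPrimeCore_not_dvd (G := G) Nat.prime_two ?_
      have h3 := orderOf_dvd_natCard (⟨u, hu⟩ : (Cfsg.pPrimeCore 2 G))
      rwa [Subgroup.orderOf_mk, h2] at h3
    have hC := CfsgLib.Coprime.centralizer_pCore_le (G := G) hpp
    have hN4 : ∀ n ∈ N, n ^ 4 = 1 := fun n hn => by
      obtain ⟨k, hk⟩ := hNp ⟨n, hn⟩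
      have hk' : n ^ 2 ^ k = 1 := congrArg Subtype.val hk
      rcases h34 n with h' | h'
      · have : n = 1 := orderOf_eq_one_iff.1 (Nat.eq_one_of_dvd_coprimes (Nat.Coprime.pow_left k (by decide : Nat.Coprime 2 3))
          (orderOf_dvd_of_pow_eq_one hk') (orderOf_dvd_of_pow_eq_one h'))
        rw [this, one_pow]
      · exact h'
    obtain ⟨x, hxo⟩ := hex 3 (by norm_num) (by norm_num)
    have hx3 : x ^ 3 = 1 := by rw [← hxo]; exact pow_orderOf_eq_one x
    have hx1 : x ≠ 1 := fun h' => by rw [h', orderOf_one] at hxo; omega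
    have hxxi : x * x = x⁻¹ := eq_inv_of_mul_eq_one_left (by rw [← pow_three']; exact hx3)
    have hfix : ∀ y : G, y ^ 3 = 1 → y ≠ 1 → ∀ n ∈ N, y * n * y⁻¹ = n → n = 1 := fun y hy hy1 n hn he =>
      hF y n hy hy1 (hN4 n hn) (mul_inv_eq_iff_eq_mul.1 he)
    have hout : ∀ y : G, y ^ 3 = 1 → y ≠ 1 → y ∉ N := fun y hy hy1 hyN =>
      hy1 (hfix y hy hy1 y hyN (mul_inv_cancel_right y y))
    have hcube : ∀ y : G, y ^ 3 = 1 → y ≠ 1 → ∀ n ∈ N, (n * y) ^ 3 = 1 ∧ n * y ≠ 1 := by
      intro y hy hy1 n hn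
      have hne : n * y ∉ N := fun h' => hout y hy hy1 (by simpa using mul_mem (inv_mem hn) h')
      refine ⟨?_, fun h' => hne (h' ▸ one_mem N)⟩
      rcases h34 (n * y) with h' | h'
      · exact h'
      exfalso
      have h1 : QuotientGroup.mk' N (n * y) = QuotientGroup.mk' N y := by
        rw [map_mul, show QuotientGroup.mk' N n = 1 from (QuotientGroup.eq_one_iff n).2 hn, one_mul]
      have h2 := congrArg (fun u => u ^ 4) h1
      simp only [← map_pow, h', map_one] at h2
      rw [show y ^ 4 = y by rw [pow_succ, hy, one_mul]] at h2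
      exact hout y hy hy1 ((QuotientGroup.eq_one_iff y).1 h2.symm)
    have htrip : ∀ y : G, y ^ 3 = 1 → y ≠ 1 → ∀ n ∈ N, n * (y * n * y⁻¹) * (y⁻¹ * n * y) = 1 := by
      intro y hy hy1 n hn
      calc n * (y * n * y⁻¹) * (y⁻¹ * n * y) = (n * y) ^ 3 * (y ^ 3)⁻¹ * (y ^ 3) := by
            rw [hy, inv_one, mul_one, mul_one, pow_three']
            rw [show y⁻¹ = y * y from (eq_inv_of_mul_eq_one_left (by rw [← pow_three']; exact hy)).symm]
            calc n * (y * n * (y * y)) * (y * y * n * y) = n * y * n * (y ^ 3) * y * n * y := by rw [pow_three']; group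
              _ = n * y * (n * y) * (n * y) := by rw [hy]; group
        _ = 1 := by rw [(hcube y hy hy1 n hn).1, hy]; simp
    have hadj : ∀ y : G, y ^ 3 = 1 → y ≠ 1 → ∀ n ∈ N, Commute n (y * n * y⁻¹) := by
      intro y hy hy1 n hn
      have hy' : (y⁻¹) ^ 3 = 1 := by rw [inv_pow, hy, inv_one]
      have e1 := htrip y hy hy1 (y⁻¹ * n * y) (by simpa using hNn.conj_mem n hn y⁻¹)
      have e2 := htrip y⁻¹ hy' (inv_ne_one.2 hy1) (y⁻¹ * n * y) (by simpa using hNn.conj_mem n hn y⁻¹)
      rw [inv_inv] at e2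
      have e3 : y * (y⁻¹ * n * y) * y⁻¹ = n := by group
      have e4 : y⁻¹ * (y⁻¹ * n * y) * y = y * n * y⁻¹ := by
        calc y⁻¹ * (y⁻¹ * n * y) * y = (y ^ 3)⁻¹ * (y * n * y⁻¹) * (y ^ 3) := by rw [pow_three']; group
          _ = y * n * y⁻¹ := by rw [hy]; group
      rw [e3, e4] at e1 e2
      rw [mul_assoc] at e1 e2
      exact mul_left_cancel (e1.trans e2.symm)
    have hengel : ∀ a g : N, Commute a (g * a * g⁻¹) := by
      intro a g
      show a * (g * a * g⁻¹) = g * a * g⁻¹ * a
      apply Subtype.ext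
      simp only [Subgroup.coe_mul, Subgroup.coe_inv]
      have c1 : Commute (a : G) ((g : G) * (x * a * x⁻¹) * (g : G)⁻¹) := by
        have := hadj _ (hcube x hx3 hx1 g g.2).1 (hcube x hx3 hx1 g g.2).2 a a.2
        rwa [show (g : G) * x * a * ((g : G) * x)⁻¹ = g * (x * a * x⁻¹) * (g : G)⁻¹ by group] at this
      have c2 : Commute (a : G) ((g : G) * (x⁻¹ * a * x) * (g : G)⁻¹) := by
        have hx' : (x⁻¹) ^ 3 = 1 := by rw [inv_pow, hx3, inv_one]
        have := hadj _ (hcube x⁻¹ hx' (inv_ne_one.2 hx1) g g.2).1 (hcube x⁻¹ hx' (inv_ne_one.2 hx1) g g.2).2 a a.2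
        rwa [show (g : G) * x⁻¹ * a * ((g : G) * x⁻¹)⁻¹ = g * (x⁻¹ * a * x) * (g : G)⁻¹ by group] at this
      have c3 := (c1.mul_right c2).inv_right
      have e1 : (a : G) = ((x * a * x⁻¹) * (x⁻¹ * a * x))⁻¹ :=
        eq_inv_of_mul_eq_one_left (by rw [← mul_assoc]; exact htrip x hx3 hx1 a a.2)
      rw [show ((g : G) * (x * a * x⁻¹) * (g : G)⁻¹ * ((g : G) * (x⁻¹ * a * x) * (g : G)⁻¹))⁻¹ =
        (g : G) * ((x * a * x⁻¹) * (x⁻¹ * a * x))⁻¹ * (g : G)⁻¹ by group, ← e1] at c3
      exact c3.eq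
    have hcen : ∀ a b d : N, Commute ⁅a, b⁆ d := commute_commutator_of_engel (fun n => hNp n) hengel
    haveI : Group.IsNilpotent N := hNp.isNilpotent
    have hcls : Group.nilpotencyClass N ≤ 2 := by
      refine Subgroup.upperCentralSeries_eq_top_iff_nilpotencyClass_le.1 ((eq_top_iff' _).2 fun u => ?_)
      refine Subgroup.mem_upperCentralSeries_succ_iff.2 fun v => ?_
      rw [Subgroup.upperCentralSeries_one]
      exact mem_center_iff.2 fun w => (hcen u v w).eq.symm
    have hNne : N ≠ ⊥ := fun h' => by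
      have h1 : x ∈ N := hC (mem_centralizer_iff.2 fun u hu => by
        rw [SetLike.mem_coe, ← hN, h', mem_bot] at hu
        rw [hu, one_mul, mul_one])
      exact hout x hx3 hx1 h1
    haveI : Nontrivial N := (nontrivial_iff_ne_bot N).2 hNne
    haveI := hNp.center_nontrivial
    -- elements of order three that commute
    have hpair : ∀ u v : G, u ^ 3 = 1 → v ^ 3 = 1 → u ≠ 1 → v ≠ 1 → Commute u v → v = u ∨ v = u⁻¹ := by
      intro u v hu hv hu1 hv1 hc
      by_contra hne
      push Not at hne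
      have huv : u * v ≠ 1 := fun h' => hne.2 (eq_inv_of_mul_eq_one_right h')
      have huv' : u⁻¹ * v ≠ 1 := fun h' => hne.1 (inv_mul_eq_one.1 h').symm
      have huv3 : (u * v) ^ 3 = 1 := by rw [hc.mul_pow, hu, hv, one_mul]
      have huv3' : (u⁻¹ * v) ^ 3 = 1 := by rw [hc.inv_left.mul_pow, inv_pow, hu, hv, inv_one, one_mul]
      obtain ⟨n, hn1⟩ := exists_ne (1 : center N)
      refine hn1 (Subtype.ext (Subtype.ext ?_))
      show ((n : N) : G) = 1
      let f : G → N := fun g => ⟨g * ((n : N) : G) * g⁻¹, hNn.conj_mem _ (n : N).2 g⟩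
      have hfc : ∀ g : G, f g ∈ center N := fun g => by
        refine mem_center_iff.2 fun w => Subtype.ext ?_
        have h1 := congrArg Subtype.val
          (mem_center_iff.1 n.2 ⟨g⁻¹ * (w : G) * g, by simpa using hNn.conj_mem _ w.2 g⁻¹⟩)
        simp only [Subgroup.coe_mul, f] at h1 ⊢
        calc (w : G) * (g * ((n : N) : G) * g⁻¹) = g * (g⁻¹ * (w : G) * g * ((n : N) : G)) * g⁻¹ := by group
          _ = g * (((n : N) : G) * (g⁻¹ * (w : G) * g)) * g⁻¹ := by rw [h1]
          _ = g * ((n : N) : G) * g⁻¹ * w := by group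
      let F : G → center N := fun g => ⟨f g, hfc g⟩
      have hF3 : ∀ y : G, y ^ 3 = 1 → y ≠ 1 → ∀ g : G, Commute y g → F g * F (y * g) * F (y⁻¹ * g) = 1 := by
        intro y hy hy1 g hg
        apply Subtype.ext; apply Subtype.ext
        show g * ((n : N) : G) * g⁻¹ * ((y * g) * ((n : N) : G) * (y * g)⁻¹) *
          ((y⁻¹ * g) * ((n : N) : G) * (y⁻¹ * g)⁻¹) = 1
        rw [← htrip y hy hy1 _ (hNn.conj_mem _ (n : N).2 g)]
        group
      have hmul : ∀ a b : center N, a * b = b * a := fun a b => Subtype.ext (mem_center_iff.1 b.2 a)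
      letI : CommGroup (center N) := { (inferInstance : Group (center N)) with mul_comm := hmul }
      have a1 := hF3 v hv hv1 1 (Commute.one_right v)
      have a2 := hF3 v hv hv1 u hc.symm
      have a3 := hF3 v hv hv1 u⁻¹ hc.symm.inv_right
      have b1 := hF3 u hu hu1 1 (Commute.one_right u)
      have b2 := hF3 (u * v) huv3 huv 1 (Commute.one_right _)
      have b3 := hF3 (u⁻¹ * v) huv3' huv' 1 (Commute.one_right _)
      rw [mul_one] at a1 b1 b2 b3
      rw [mul_one] at a1 b1 b2 b3
      have q1 : (u * v)⁻¹ = v⁻¹ * u⁻¹ := mul_inv_rev u v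
      have q2 : (u⁻¹ * v)⁻¹ = v⁻¹ * u := by rw [mul_inv_rev, inv_inv]
      rw [q1] at b2
      rw [q2] at b3
      rw [hc.eq] at b2
      rw [hc.inv_left.eq] at b3
      have hh : F 1 * F 1 * F 1 = 1 := by
        have := congrArg₂ (· * ·) (congrArg₂ (· * ·) (congrArg₂ (· * ·) a1 b1) b2) b3
        simp only [mul_one] at this
        calc F 1 * F 1 * F 1 = F 1 * F 1 * F 1 * ((F 1 * F v * F v⁻¹) * (F u * F (v * u) * F (v⁻¹ * u)) *
              (F u⁻¹ * F (v * u⁻¹) * F (v⁻¹ * u⁻¹))) := by rw [a1, a2, a3]; simp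
          _ = (F 1 * F v * F v⁻¹) * (F 1 * F u * F u⁻¹) * (F 1 * F (v * u) * F (v⁻¹ * u⁻¹)) *
              (F 1 * F (v * u⁻¹) * F (v⁻¹ * u)) := by ac_rfl
          _ = 1 := this
      have hh' : ((n : N) : G) ^ 3 = 1 := by
        have := congrArg (fun w : center N => (((w : center N) : N) : G)) hh
        simpa [F, f, pow_three'] using this
      exact orderOf_eq_one_iff.1 (Nat.eq_one_of_dvd_coprimes (by decide : Nat.Coprime 3 4)
        (orderOf_dvd_of_pow_eq_one hh') (orderOf_dvd_of_pow_eq_one (hN4 _ (n : N).2)))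
    obtain ⟨T⟩ : Nonempty (Sylow 3 G) := inferInstance
    have hT3 : Nat.card T = 3 := by
      obtain ⟨k, hk⟩ := T.2.exists_card_eq
      have h3d : 3 ∣ Nat.card T := T.dvd_card_of_dvd_card (hxo ▸ orderOf_dvd_natCard x)
      have hcube' : ∀ u : G, u ∈ (T : Subgroup G) → u ^ 3 = 1 := fun u hu => by
        obtain ⟨i, hi⟩ := T.2 ⟨u, hu⟩
        have hi' : u ^ 3 ^ i = 1 := congrArg Subtype.val hi
        rcases h34 u with h' | h'
        · exact h'
        · have : u = 1 := orderOf_eq_one_iff.1 (Nat.eq_one_of_dvd_coprimes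
            (Nat.Coprime.pow_left i (by decide : Nat.Coprime 3 4))
            (orderOf_dvd_of_pow_eq_one hi') (orderOf_dvd_of_pow_eq_one h'))
          rw [this, one_pow]
      haveI : Nontrivial (T : Subgroup G) := by
        rw [nontrivial_iff_ne_bot]; intro h'
        rw [show Nat.card T = 1 by rw [show Nat.card T = Nat.card (T : Subgroup G) from rfl, h', card_bot]] at h3d
        omega
      haveI := T.2.center_nontrivial
      obtain ⟨u, hu1⟩ := exists_ne (1 : center (T : Subgroup G))
      have hu1' : ((u : (T : Subgroup G)) : G) ≠ 1 := fun h' => hu1 (Subtype.ext (Subtype.ext h'))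
      have hle : (T : Subgroup G) ≤ zpowers ((u : (T : Subgroup G)) : G) := fun v hv => by
        by_cases hv1 : v = 1
        · rw [hv1]; exact one_mem _
        rcases hpair _ v (hcube' _ (u : (T : Subgroup G)).2) (hcube' v hv) hu1' hv1
          (congrArg Subtype.val (mem_center_iff.1 u.2 ⟨v, hv⟩)).symm with e | e <;> rw [e]
        · exact mem_zpowers _
        · exact inv_mem (mem_zpowers _)
      have h4 := card_le_of_le hle
      rw [Nat.card_zpowers, orderOf_eq_prime (hcube' _ (u : (T : Subgroup G)).2) hu1'] at h4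
      have h5 := Nat.le_of_dvd Nat.card_pos h3d
      exact le_antisymm h4 h5
    -- the quotient
    set π := QuotientGroup.mk' N with hπ
    have hxq : orderOf (π x) = 3 := orderOf_eq_prime (by rw [← map_pow, hx3, map_one])
      (fun h' => hout x hx3 hx1 ((QuotientGroup.eq_one_iff x).1 h'))
    have hq3 : ∀ w : G ⧸ N, w ^ 3 = 1 ∨ w ^ 4 = 1 := fun w => by
      obtain ⟨g, rfl⟩ := QuotientGroup.mk'_surjective N w
      rcases h34 g with h' | h'
      · exact Or.inl (by rw [← map_pow, h', map_one])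
      · exact Or.inr (by rw [← map_pow, h', map_one])
    have hqF : ∀ w : G ⧸ N, orderOf w = 2 → ¬ Commute (π x) w := fun w hw hc => by
      have h6 : orderOf (π x * w) = 6 := by
        rw [hc.orderOf_mul_eq_mul_orderOf_of_coprime (by rw [hxq, hw]; decide), hxq, hw]
      rcases hq3 (π x * w) with h' | h' <;>
        · have := orderOf_dvd_of_pow_eq_one h'
          rw [h6] at this
          omega
    have hqcard : ∀ K : Subgroup (G ⧸ N), IsPGroup 3 K → Nat.card K ∣ 3 := fun K hK => by
      obtain ⟨j, hj⟩ := hK.exists_card_eq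
      obtain ⟨K', hK'⟩ := hK.exists_le_sylow
      have h1 := card_dvd_of_le hK'
      let T' : Sylow 3 (G ⧸ N) := T.mapSurjective (QuotientGroup.mk'_surjective N)
      rw [Nat.card_congr (K'.equiv T').toEquiv, Sylow.coe_mapSurjective] at h1
      exact h1.trans ((Subgroup.card_map_dvd (T : Subgroup G) π).trans hT3.dvd)
    have hXn : (zpowers (π x)).Normal := by
      haveI : Group.IsSolvable (G ⧸ N) := Group.isSolvable_of_surjective (QuotientGroup.mk'_surjective N)
      haveI : Nontrivial (G ⧸ N) := nontrivial_of_ne (π x) 1 (fun h' => by rw [h', orderOf_one] at hxq; omega)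
      obtain ⟨M, r, hMn, hM, hr, hMr, -⟩ := CfsgLib.Coprime.exists_normal_pGroup_of_isSolvable (G := G ⧸ N)
      haveI := hMn
      haveI := Fact.mk hr
      obtain ⟨j, hj⟩ := hMr.exists_card_eq
      have hj0 : j ≠ 0 := fun h' => hM (card_eq_one.1 (by rw [hj, h', pow_zero]))
      have hr23 := hp23 r hr ((hj ▸ dvd_pow_self r hj0).trans (card_subgroup_dvd_card M) |>.trans
        (card_quotient_dvd_card N))
      rcases hr23 with rfl | rfl
      · exact absurd (eq_bot_iff.2 ((CfsgLib.Coprime.le_pCore hMr).trans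
          (CfsgLib.Coprime.pCore_quotient_eq_bot (G := G) 2).le)) hM
      have hMc : Nat.card M = 3 := ((Nat.dvd_prime Nat.prime_three).1 (hqcard M hMr)).resolve_left
        (fun h' => hM (card_eq_one.1 h'))
      have hsup := hMr.to_sup_of_normal_left (IsPGroup.of_card (p := 3) (n := 1)
        (by rw [Nat.card_zpowers, hxq, pow_one]) : IsPGroup 3 (zpowers (π x)))
      have h1 := Nat.le_of_dvd (by norm_num) (hqcard _ hsup)
      have e1 : M ⊔ zpowers (π x) = M := (eq_of_le_of_card_ge le_sup_left (by rw [hMc]; exact h1)).symm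
      have e2 : zpowers (π x) = M := eq_of_le_of_card_ge (le_sup_right.trans e1.le)
        (by rw [hMc, Nat.card_zpowers, hxq])
      rw [e2]; exact hMn
    have hCx : centralizer ({π x} : Set (G ⧸ N)) ≤ zpowers (π x) := by
      intro w hw
      have hcw : Commute (π x) w := (mem_centralizer_singleton_iff.1 hw).symm
      have hw3 : w ^ 3 = 1 := by
        rcases hq3 w with h' | h'
        · exact h'
        by_cases h2 : w ^ 2 = 1
        · by_cases h1 : w = 1
          · rw [h1, one_pow]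
          · exact absurd hcw (hqF w (orderOf_eq_prime h2 h1))
        · exact absurd (hcw.pow_right 2) (hqF _ (orderOf_eq_prime (by rw [← pow_mul]; exact h') h2))
      have hK : IsPGroup 3 ↥(zpowers (π x) ⊔ zpowers w) := by
        haveI := hXn
        exact IsPGroup.to_sup_of_normal_left (IsPGroup.of_card (p := 3) (n := 1) (by rw [Nat.card_zpowers, hxq, pow_one]))
          (by
            rcases (Nat.dvd_prime Nat.prime_three).1 (orderOf_dvd_of_pow_eq_one hw3) with e | e
            · exact IsPGroup.of_card (p := 3) (n := 0) (by rw [Nat.card_zpowers, e, pow_zero])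
            · exact IsPGroup.of_card (p := 3) (n := 1) (by rw [Nat.card_zpowers, e, pow_one]))
      have e1 : zpowers (π x) ⊔ zpowers w = zpowers (π x) := (eq_of_le_of_card_ge le_sup_left
        (by rw [Nat.card_zpowers, hxq]; exact Nat.le_of_dvd (by norm_num) (hqcard _ hK))).symm
      exact (le_sup_right.trans e1.le) (mem_zpowers w)
    refine ⟨N, hNn, ?_⟩
    by_cases hinv : ∀ g : G, π g ∈ centralizer ({π x} : Set (G ⧸ N))
    · left
      have hidx : N.index = 3 := by
        rw [index, ← hxq, ← Nat.card_zpowers]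
        have : zpowers (π x) = ⊤ := eq_top_iff.2 fun w _ => by
          obtain ⟨g, rfl⟩ := QuotientGroup.mk'_surjective N w
          exact hCx (hinv g)
        rw [this, card_top]
      refine ⟨hNp, Nat.dvd_antisymm (Monoid.exponent_dvd_of_forall_pow_eq_one fun n =>
        Subtype.ext (by simpa using hN4 n n.2)) ?_, hcls, hidx⟩
      obtain ⟨f, hf⟩ := hex 4 (by norm_num) le_rfl
      have hfN : f ∈ N := by
        refine (QuotientGroup.eq_one_iff f).1 ?_
        have h1 : π f ^ 3 = 1 := by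
          have h2 := pow_card_eq_one' (x := π f)
          rwa [show Nat.card (G ⧸ N) = 3 from hidx] at h2
        have h2 : π f ^ 4 = 1 := by rw [← map_pow, ← hf, pow_orderOf_eq_one, map_one]
        rw [pow_succ, h1, one_mul] at h2
        exact h2
      rw [← hf, ← Subgroup.orderOf_mk f hfN]
      exact Monoid.order_dvd_exponent _
    right; left
    push Not at hinv
    obtain ⟨g, hg⟩ := hinv
    have hconj : ∀ w : G ⧸ N, w * π x * w⁻¹ = π x ∨ w * π x * w⁻¹ = (π x)⁻¹ := fun w => by
      haveI := hXn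
      have h1 := hXn.conj_mem _ (mem_zpowers (π x)) w
      obtain ⟨i, hi⟩ := (IsOfFinOrder.mem_powers_iff_mem_zpowers (isOfFinOrder_of_finite _)).2 h1
      rw [← hi]
      have h2 : (π x) ^ i = (π x) ^ (i % 3) := by rw [← hxq]; exact (pow_mod_orderOf _ _).symm
      dsimp only
      rw [h2]
      have h3 : i % 3 = 0 ∨ i % 3 = 1 ∨ i % 3 = 2 := by omega
      rcases h3 with e | e | e <;> rw [e]
      · exfalso
        have h4 : orderOf ((π x) ^ i) = 3 := by
          rw [show (π x) ^ i = w * π x * w⁻¹ from hi, ← MulAut.conj_apply, MulEquiv.orderOf_eq, hxq]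
        rw [h2, e, pow_zero, orderOf_one] at h4
        omega
      · exact Or.inl (pow_one _)
      · exact Or.inr (eq_inv_of_mul_eq_one_left (by rw [← pow_succ, show 2 + 1 = orderOf (π x) from hxq.symm]; exact pow_orderOf_eq_one _))
    have hgx : π g * π x * (π g)⁻¹ = (π x)⁻¹ := (hconj (π g)).resolve_left fun h' =>
      hg (mem_centralizer_singleton_iff.2 (mul_inv_eq_iff_eq_mul.1 h'))
    -- an involution inverting `x`
    have hm : g * x * g⁻¹ * x ∈ N := by
      refine (QuotientGroup.eq_one_iff _).1 ?_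
      show π (g * x * g⁻¹ * x) = 1
      rw [map_mul, map_mul, map_mul, map_inv, hgx, inv_mul_cancel]
    obtain ⟨⟨n, hn⟩, hn'⟩ : ∃ n : N, (n : G) * x⁻¹ * (n : G)⁻¹ = g * x * g⁻¹ := by
      let f : N → N := fun n => ⟨(n : G) * (x⁻¹ * (n : G)⁻¹ * x), mul_mem n.2
        (by simpa using hNn.conj_mem _ (inv_mem n.2) x⁻¹)⟩
      have hfi : Function.Injective f := fun a b hab => by
        have h1 : (a : G) * (x⁻¹ * (a : G)⁻¹ * x) = (b : G) * (x⁻¹ * (b : G)⁻¹ * x) := congrArg Subtype.val hab
        refine Subtype.ext (inv_mul_eq_one.1 ?_).symm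
        refine hfix x hx3 hx1 _ (mul_mem (inv_mem b.2) a.2) ?_
        calc x * ((b : G)⁻¹ * a) * x⁻¹
            = x * (b : G)⁻¹ * ((a : G) * (x⁻¹ * (a : G)⁻¹ * x)) * x⁻¹ * a := by group
          _ = x * (b : G)⁻¹ * ((b : G) * (x⁻¹ * (b : G)⁻¹ * x)) * x⁻¹ * a := by rw [h1]
          _ = (b : G)⁻¹ * a := by group
      obtain ⟨n, hn⟩ := Finite.injective_iff_surjective.1 hfi ⟨_, hm⟩
      refine ⟨n, ?_⟩
      have h1 : (n : G) * (x⁻¹ * (n : G)⁻¹ * x) = g * x * g⁻¹ * x := congrArg Subtype.val hn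
      calc (n : G) * x⁻¹ * (n : G)⁻¹ = (n : G) * (x⁻¹ * (n : G)⁻¹ * x) * x⁻¹ := by group
        _ = g * x * g⁻¹ * x * x⁻¹ := by rw [h1]
        _ = g * x * g⁻¹ := by group
    set t := n⁻¹ * g with ht
    have htx : t * x * t⁻¹ = x⁻¹ := by
      rw [ht, show n⁻¹ * g * x * (n⁻¹ * g)⁻¹ = n⁻¹ * (g * x * g⁻¹) * n by group, ← hn']; group
    have hinv4 : ∀ u : G, π u * π x * (π u)⁻¹ = (π x)⁻¹ → u ^ 4 = 1 := by
      intro u hu
      rcases h34 u with h' | h'
      · exfalso
        have e1 : π u ^ 3 = 1 := by rw [← map_pow, h', map_one]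
        have e2 : π u * (π x)⁻¹ * (π u)⁻¹ = π x := by rw [← conj_inv, hu, inv_inv]
        have e3 : π u ^ 3 * π x * (π u ^ 3)⁻¹ = (π x)⁻¹ := by
          calc π u ^ 3 * π x * (π u ^ 3)⁻¹ = π u * (π u * (π u * π x * (π u)⁻¹) * (π u)⁻¹) * (π u)⁻¹ := by
                rw [pow_three]; group
            _ = (π x)⁻¹ := by rw [hu, e2, hu]
        rw [e1, one_mul, inv_one, mul_one] at e3
        have e4 : π x ^ 2 = 1 := by rw [pow_two]; nth_rewrite 1 [e3]; exact inv_mul_cancel _
        have := orderOf_dvd_of_pow_eq_one e4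
        rw [hxq] at this
        omega
      · exact h'
    have ht2 : t * t = 1 := by
      have ht4 : t ^ 4 = 1 := hinv4 t (by rw [← map_mul, ← map_inv, ← map_mul, htx, map_inv])
      refine hF x (t * t) hx3 hx1 (by rw [← pow_two, ← pow_mul]; rw [show 2 * 4 = 4 * 2 from rfl, pow_mul, ht4, one_pow]) ?_
      have e1 : t * x⁻¹ * t⁻¹ = x := by rw [← conj_inv, htx, inv_inv]
      have e2 : t * t * x * (t * t)⁻¹ = x := by
        calc t * t * x * (t * t)⁻¹ = t * (t * x * t⁻¹) * t⁻¹ := by group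
          _ = x := by rw [htx, e1]
      exact (mul_inv_eq_iff_eq_mul.1 e2).symm
    have htinv : t⁻¹ = t := inv_eq_of_mul_eq_one_left ht2
    have htx' : t * x = x⁻¹ * t := mul_inv_eq_iff_eq_mul.1 htx
    -- the automorphism induced by `x` and the set of products
    let φ : MulAut N := MulAut.conjNormal x
    let τ : MulAut N := MulAut.conjNormal t
    have hφv : ∀ a : N, ((φ a : N) : G) = x * a * x⁻¹ := fun a => MulAut.conjNormal_apply x a
    have hτv : ∀ a : N, ((τ a : N) : G) = t * a * t := fun a => by rw [MulAut.conjNormal_apply, htinv]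
    have hI : ∀ m : N, (m * τ m) * (m * τ m) = 1 := fun m => by
      apply Subtype.ext
      simp only [Subgroup.coe_mul, Subgroup.coe_one, hτv]
      have h4 : ((m : G) * t) ^ 4 = 1 := hinv4 _ (by
        rw [map_mul, show π (m : G) = 1 from (QuotientGroup.eq_one_iff _).2 m.2, one_mul, ← map_mul, ← map_inv,
          ← map_mul, htx, map_inv])
      rw [← h4, pow_succ, pow_three']; group
    have hcz : ∀ a b : N, Commute (a * b) (b * a) := fun a b => by
      have e : a * b = ⁅a, b⁆ * (b * a) := by rw [_root_.commutatorElement_def]; group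
      rw [e]; exact (hcen a b _).mul_left (Commute.refl _)
    have hphi3 : ∀ a : N, a * φ a * φ (φ a) = 1 := fun a => by
      apply Subtype.ext
      simp only [Subgroup.coe_mul, Subgroup.coe_one, hφv]
      rw [← htrip x hx3 hx1 a a.2]
      congr 1
      rw [show x * (x * (a : G) * x⁻¹) * x⁻¹ = (x * x) * (a : G) * (x * x)⁻¹ by group, hxxi, inv_inv]
    have hφ3 : ∀ a : N, φ (φ (φ a)) = a := fun a => by
      apply Subtype.ext
      simp only [hφv]
      calc x * (x * (x * (a : G) * x⁻¹) * x⁻¹) * x⁻¹ = x ^ 3 * (a : G) * (x ^ 3)⁻¹ := by rw [pow_three]; group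
        _ = a := by rw [hx3]; group
    have hφfix : ∀ a : N, φ a = a → a = 1 := fun a ha => Subtype.ext
      (hfix x hx3 hx1 a a.2 (by rw [← hφv, ha]))
    -- squares are central
    have hφτ : ∀ a : N, φ (τ (φ a)) = τ a := fun a => by
      apply Subtype.ext
      rw [hφv, hτv, hφv, hτv]
      calc x * (t * (x * (a : G) * x⁻¹) * t) * x⁻¹ = (x * (t * x)) * a * (x⁻¹ * t * x⁻¹) := by group
        _ = (x * (x⁻¹ * t)) * a * (t * (x * x⁻¹)) := by rw [htx']; nth_rewrite 2 [← htx']; group
        _ = t * a * t := by group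
    have ecube : ∀ m : N, τ m * φ (τ (φ (φ m))) * φ (φ (τ (φ m))) = 1 := fun m => by
      have e1 : φ (τ (φ (φ m))) = τ (φ m) := hφτ (φ m)
      have e2 : φ (τ m) = τ (φ (φ m)) := by
        have := hφτ (φ (φ m))
        rwa [hφ3] at this
      have e3 : φ (φ (τ (φ m))) = τ (φ (φ m)) := by rw [hφτ m, e2]
      rw [e1, e3, ← map_mul, ← map_mul, hphi3, map_one]
    let T1 : N → N := fun m => φ (φ (φ m) * τ (φ (φ m)))
    let T2 : N → N := fun m => φ (φ (φ m * τ (φ m)))
    have hT1 : ∀ m, T1 m = m * φ (τ (φ (φ m))) := fun m => by simp only [T1, map_mul, hφ3]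
    have hT2 : ∀ m, T2 m = m * φ (φ (τ (φ m))) := fun m => by simp only [T2, map_mul, hφ3]
    have hT1s : ∀ m, T1 m * T1 m = 1 := fun m => by simp only [T1]; rw [← map_mul, hI, map_one]
    have hT2s : ∀ m, T2 m * T2 m = 1 := fun m => by
      simp only [T2]; rw [← map_mul, ← map_mul, hI, map_one, map_one]
    have hqcomm : ∀ a b : N ⧸ center N, a * b = b * a := fun a b => by
      obtain ⟨a, rfl⟩ := QuotientGroup.mk'_surjective (center N) a
      obtain ⟨b, rfl⟩ := QuotientGroup.mk'_surjective (center N) b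
      rw [← map_mul, ← map_mul]
      refine (QuotientGroup.eq.2 (mem_center_iff.2 fun w => ?_))
      rw [show (a * b)⁻¹ * (b * a) = ⁅b⁻¹, a⁻¹⁆ by rw [_root_.commutatorElement_def]; group]
      exact (hcen _ _ w).eq.symm
    have hqP : ∀ m : N, QuotientGroup.mk' (center N) (m * τ m * T1 m * T2 m) =
        QuotientGroup.mk' (center N) (m * m * m) := by
      intro m
      letI : CommGroup (N ⧸ center N) := { (inferInstance : Group (N ⧸ center N)) with mul_comm := hqcomm }
      have eq1 := congrArg (QuotientGroup.mk' (center N)) (ecube m)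
      rw [hT1, hT2]
      simp only [map_mul, map_one] at eq1 ⊢
      generalize QuotientGroup.mk' (center N) (τ m) = p at eq1 ⊢
      generalize QuotientGroup.mk' (center N) (φ (τ (φ (φ m)))) = q at eq1 ⊢
      generalize QuotientGroup.mk' (center N) (φ (φ (τ (φ m)))) = r at eq1 ⊢
      generalize QuotientGroup.mk' (center N) m = u
      calc u * p * (u * q) * (u * r) = (u * u * u) * (p * q * r) := by ac_rfl
        _ = u * u * u := by rw [eq1, mul_one]
    have hsqz : ∀ m : N, m * m ∈ center N := by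
      intro m
      letI : CommGroup (N ⧸ center N) := { (inferInstance : Group (N ⧸ center N)) with mul_comm := hqcomm }
      have q1 := congrArg (QuotientGroup.mk' (center N)) (hI m)
      have q2 := congrArg (QuotientGroup.mk' (center N)) (hT1s m)
      have q3 := congrArg (QuotientGroup.mk' (center N)) (hT2s m)
      have q4 : QuotientGroup.mk' (center N) m ^ 4 = 1 := by
        rw [← map_pow, show m ^ 4 = 1 from Subtype.ext (by simpa using hN4 m m.2), map_one]
      have q5 := hqP m
      rw [← QuotientGroup.eq_one_iff, ← QuotientGroup.mk'_apply]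
      simp only [map_mul, map_one] at q1 q2 q3 q5 ⊢
      generalize QuotientGroup.mk' (center N) (τ m) = p at q1 q5
      generalize QuotientGroup.mk' (center N) (T1 m) = q at q2 q5
      generalize QuotientGroup.mk' (center N) (T2 m) = r at q3 q5
      generalize QuotientGroup.mk' (center N) m = u at q1 q4 q5 ⊢
      calc u * u = u ^ 4 * (u * u) := by rw [q4, one_mul]
        _ = (u * u * u) * (u * u * u) := by simp only [pow_succ, pow_zero, one_mul, mul_assoc]
        _ = (u * p * q * r) * (u * p * q * r) := by rw [q5]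
        _ = (u * p * (u * p)) * (q * q) * (r * r) := by ac_rfl
        _ = 1 := by rw [q1, q2, q3, one_mul, one_mul]
    -- products commute
    have hJJ : ∀ m r : N, Commute (m * τ m) (r * τ r) := by
      intro m r
      set a := m * τ m
      set b := r * τ r
      set c := ⁅r, τ m⁆ with hc
      have e : (m * r) * τ (m * r) = c * (a * b) := by
        rw [map_mul]
        calc m * r * (τ m * τ r) = m * (c * (τ m * r)) * τ r := by rw [hc, _root_.commutatorElement_def]; group
          _ = m * c * (τ m * r * τ r) := by group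
          _ = c * m * (τ m * r * τ r) := by rw [(hcen r (τ m) m).eq]
          _ = c * (a * b) := by simp only [a, b]; group
      have hc2 : c * c = 1 := by
        have e4 : ⁅r, τ m * τ m⁆ = ⁅r, τ m⁆ * (τ m * ⁅r, τ m⁆ * (τ m)⁻¹) := by
          simp only [_root_.commutatorElement_def]; group
        rw [commutatorElement_eq_one_iff_commute.2 (mem_center_iff.1 (hsqz (τ m)) r),
          (hcen r (τ m) (τ m)).symm.eq, mul_inv_cancel_right] at e4
        exact e4.symm
      have e2 := hI (m * r)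
      rw [e] at e2
      have e3 : a * b * (a * b) = 1 := by
        calc a * b * (a * b) = (c * c) * (a * b * (a * b)) := by rw [hc2, one_mul]
          _ = c * (c * (a * b)) * (a * b) := by group
          _ = c * ((a * b) * c) * (a * b) := by rw [(hcen r (τ m) (a * b)).eq]
          _ = 1 := by rw [← e2]; group
      show a * b = b * a
      calc a * b = (a * b)⁻¹ := (inv_eq_of_mul_eq_one_left e3).symm
        _ = b * a := by rw [mul_inv_rev, inv_eq_of_mul_eq_one_left (hI m), inv_eq_of_mul_eq_one_left (hI r)]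
    have hJK : ∀ m r : N, Commute (φ (m * τ m)) (r * τ r) := by
      intro m r
      set a := m * τ m
      set b := r * τ r
      have hab : Commute a b := hJJ m r
      have hv : ∀ u : N, Commute u (φ u) := fun u => Subtype.ext (by
        rw [Subgroup.coe_mul, Subgroup.coe_mul, hφv]; exact (hadj x hx3 hx1 u u.2).eq)
      obtain ⟨z, hz⟩ : ∃ z, z = ⁅φ a, b⁆ := ⟨_, rfl⟩
      obtain ⟨w, hw⟩ : ∃ w, w = ⁅a, φ b⁆ := ⟨_, rfl⟩
      have hzc : ∀ u, Commute z u := fun u => hz ▸ hcen _ _ u
      have hwc : ∀ u, Commute w u := fun u => hw ▸ hcen _ _ u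
      have ez : φ a * b = z * (b * φ a) := by rw [hz, _root_.commutatorElement_def]; group
      have ew : a * φ b = w * (φ b * a) := by rw [hw, _root_.commutatorElement_def]; group
      have e1 := (hv (a * b)).eq
      rw [map_mul] at e1
      have f1 : φ a * φ b * (a * b) * w = z * (a * b * (φ a * φ b)) := by
        calc φ a * φ b * (a * b) * w = φ a * φ b * a * b * w := by group
          _ = φ a * φ b * a * (w * b) := by rw [mul_assoc (φ a * φ b * a), (hwc b).symm.eq]
          _ = φ a * (φ b * a * w) * b := by group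
          _ = φ a * (a * φ b) * b := by rw [← (hwc (φ b * a)).eq, ← ew]
          _ = (φ a * a) * (φ b * b) := by group
          _ = (a * φ a) * (b * φ b) := by rw [(hv a).eq, (hv b).eq]
          _ = a * (φ a * b) * φ b := by group
          _ = a * (z * (b * φ a)) * φ b := by rw [ez]
          _ = (a * z) * b * (φ a * φ b) := by group
          _ = z * (a * b * (φ a * φ b)) := by rw [← (hzc a).eq]; group
      rw [← e1, ← (hwc _).eq] at f1
      have hwz : w = z := mul_right_cancel f1
      have hφa : φ a * φ a = 1 := by rw [← map_mul, hI m, map_one]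
      have e2 : φ (φ a) = φ a * a := by
        have := hphi3 a
        rw [eq_inv_of_mul_eq_one_right this, mul_inv_rev, inv_eq_of_mul_eq_one_left hφa,
          inv_eq_of_mul_eq_one_left (hI m)]
      have e3 : ⁅φ (φ a), b⁆ = z := by
        rw [e2, hz]
        simp only [_root_.commutatorElement_def, mul_inv_rev]
        calc φ a * a * b * (a⁻¹ * (φ a)⁻¹) * b⁻¹ = φ a * (a * b) * a⁻¹ * (φ a)⁻¹ * b⁻¹ := by group
          _ = φ a * (b * a) * a⁻¹ * (φ a)⁻¹ * b⁻¹ := by rw [hab.eq]
          _ = φ a * b * (φ a)⁻¹ * b⁻¹ := by group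
      have e4 : φ z = z := by
        rw [← e3, map_commutatorElement, hφ3, ← hw, hwz]; exact e3.symm
      have e5 := hφfix z e4
      rw [hz] at e5
      exact commutatorElement_eq_one_iff_commute.1 e5
    let J : Set N := {u | ∃ m i, u = (φ ^ (i : ℕ)) (m * τ m)}
    have hJ : ∀ u ∈ J, ∀ v ∈ J, Commute u v := by
      have hb : ∀ (i : ℕ) (m r : N), Commute ((φ ^ i) (m * τ m)) (r * τ r) := by
        intro i m r
        have hp3 : (φ ^ 3 : MulAut N) = 1 := MulEquiv.ext fun a => hφ3 a
        rw [← pow_mod_orderOf φ i]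
        have ho3 : orderOf φ ∣ 3 := orderOf_dvd_of_pow_eq_one hp3
        have hlt := Nat.mod_lt i (orderOf_pos φ)
        have := Nat.le_of_dvd (by norm_num) ho3
        obtain e | e | e : i % orderOf φ = 0 ∨ i % orderOf φ = 1 ∨ i % orderOf φ = 2 := by omega
        · rw [e]; exact hJJ m r
        · rw [e]; exact hJK m r
        · rw [e, pow_two, MulAut.mul_apply]
          have h1 := ((hJK r m).symm.map φ.toMonoidHom).map φ.toMonoidHom
          simp only [MulEquiv.coe_toMonoidHom, hφ3] at h1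
          exact h1
      rintro _ ⟨m, i, rfl⟩ _ ⟨r, j, rfl⟩
      rcases Nat.le_total i j with hij | hij
      · obtain ⟨k, rfl⟩ := Nat.exists_eq_add_of_le hij
        rw [pow_add, MulAut.mul_apply]
        exact ((hb k r m).symm).map (φ ^ i).toMonoidHom
      · obtain ⟨k, rfl⟩ := Nat.exists_eq_add_of_le hij
        rw [pow_add, MulAut.mul_apply]
        exact (hb k m r).map (φ ^ j).toMonoidHom
    -- cubes
    have hP : ∀ m : N, ∃ P z : N, P = m * m * m * z ∧ z ∈ center N ∧ P ∈ closure J := fun m =>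
      ⟨m * τ m * T1 m * T2 m, (m * m * m)⁻¹ * (m * τ m * T1 m * T2 m), (mul_inv_cancel_left (m * m * m) _).symm,
        QuotientGroup.eq.1 (hqP m).symm,
        mul_mem (mul_mem (subset_closure ⟨m, 0, rfl⟩) (subset_closure ⟨φ (φ m), 1, rfl⟩))
          (subset_closure ⟨φ m, 2, rfl⟩)⟩
    have hclc : ∀ u ∈ closure J, ∀ v ∈ closure J, Commute u v := fun u hu v hv => by
      have hle : closure J ≤ centralizer J := (closure_le _).2 fun a ha =>
        mem_centralizer_iff.2 fun b hb => (hJ b hb a ha).eq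
      have hle2 : closure J ≤ centralizer (closure J : Set N) := (closure_le _).2 fun a ha =>
        mem_centralizer_iff.2 fun b hb => (mem_centralizer_iff.1 (hle hb) a ha).symm
      exact (mem_centralizer_iff.1 (hle2 hv) u hu)
    have hm9 : ∀ m : N, (m * m * m) * (m * m * m) * (m * m * m) = m := fun m => by
      have h1 : m ^ 4 = 1 := Subtype.ext (by simpa using hN4 m m.2)
      calc (m * m * m) * (m * m * m) * (m * m * m) = m ^ 4 * m ^ 4 * m := by simp only [pow_succ, pow_zero, one_mul, mul_assoc]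
        _ = m := by rw [h1, one_mul, one_mul]
    have hNc : ∀ a b : N, a * b = b * a := by
      intro a b
      obtain ⟨P, z, hPe, hz, hPJ⟩ := hP a
      obtain ⟨Q, w, hQe, hw, hQJ⟩ := hP b
      have h1 : Commute (a * a * a) (b * b * b) := by
        have e1 : Commute (P * z⁻¹) (Q * w⁻¹) :=
          ((hclc P hPJ Q hQJ).mul_right (mem_center_iff.1 (inv_mem hw) P)).mul_left
            (Commute.symm (mem_center_iff.1 (inv_mem hz) _))
        rwa [hPe, hQe, mul_inv_cancel_right, mul_inv_cancel_right] at e1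
      have h2 := ((h1.mul_left h1).mul_left h1)
      rw [hm9] at h2
      have h3 := ((h2.mul_right h2).mul_right h2)
      rw [hm9] at h3
      exact h3.eq
    refine ⟨⟨⟨⟨fun a b => hNc a b⟩⟩, fun a ha => ?_⟩, ?_⟩
    · letI : CommGroup N := { (inferInstance : Group N) with mul_comm := hNc }
      set m : N := ⟨a, ha⟩ with hm'
      have e1 : m * τ m * T1 m * T2 m = m * m * m := by
        rw [hT1, hT2]
        calc m * τ m * (m * φ (τ (φ (φ m)))) * (m * φ (φ (τ (φ m)))) =
            (m * m * m) * (τ m * φ (τ (φ (φ m))) * φ (φ (τ (φ m)))) := by ac_rfl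
          _ = m * m * m := by rw [ecube, mul_one]
      have e2 : (m * m * m) * (m * m * m) = 1 := by
        rw [← e1]
        calc m * τ m * T1 m * T2 m * (m * τ m * T1 m * T2 m) =
            (m * τ m * (m * τ m)) * (T1 m * T1 m) * (T2 m * T2 m) := by ac_rfl
          _ = 1 := by rw [hI, hT1s, hT2s, one_mul, one_mul]
      have e3 : a ^ 6 = 1 := by
        have := congrArg Subtype.val e2
        simp only [Subgroup.coe_mul, Subgroup.coe_one, hm'] at this
        rw [← this]; simp only [pow_succ, pow_zero, one_mul, mul_assoc]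
      rw [show 6 = 4 + 2 from rfl, pow_add, hN4 a ha, one_mul] at e3
      exact e3
    · have hb2 : π x * π t * (π x * π t) = 1 := by
        rw [← map_mul, ← map_mul]
        rw [show x * t * (x * t) = x * (t * x) * t by group, htx', mul_assoc x, mul_assoc x⁻¹, ht2,
          mul_one, mul_inv_cancel, map_one]
      have ha2 : π t * π t = 1 := by rw [← map_mul, ht2, map_one]
      have hnc : ¬ Commute (π t) (π x) := fun hc => by
        have h1 : π t * π x * (π t)⁻¹ = π x := mul_inv_eq_iff_eq_mul.2 hc.eq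
        rw [← map_mul, ← map_inv, ← map_mul, htx, map_inv] at h1
        have e4 : π x ^ 2 = 1 := by rw [pow_two]; nth_rewrite 1 [← h1]; exact inv_mul_cancel _
        have := orderOf_dvd_of_pow_eq_one e4
        rw [hxq] at this
        omega
      obtain ⟨e⟩ := CfsgLib.Spor.Tri.nonempty_equiv_perm_three (a := π t) (b := π x * π t) ha2 hb2
        (by
          simp only [← map_mul]
          congr 1
          calc x * t * t * (x * t) = x * (t * t) * x * t := by group
            _ = (x * x) * t := by rw [ht2]; group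
            _ = (t * x) * (t * t) := by rw [hxxi, ht2, htx', mul_one]
            _ = t * (x * t) * t := by group)
        (fun e' => by
          have h1 : π x = 1 := mul_eq_right.1 e'.symm
          rw [h1, orderOf_one] at hxq; omega)
        (fun hc => hnc (by
          have := hc.mul_right (Commute.refl (π t)).inv_right
          rwa [mul_inv_cancel_right] at this))
      have htop : closure ({π t, π x * π t} : Set (G ⧸ N)) = ⊤ := by
        refine eq_top_iff.2 fun w _ => ?_
        have hxmem : π x ∈ closure ({π t, π x * π t} : Set (G ⧸ N)) := by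
          simpa using mul_mem (subset_closure (Or.inr rfl) : π x * π t ∈ closure ({π t, π x * π t} : Set (G ⧸ N)))
            (inv_mem (subset_closure (Or.inl rfl) : π t ∈ closure ({π t, π x * π t} : Set (G ⧸ N))))
        have htm : π t ∈ closure ({π t, π x * π t} : Set (G ⧸ N)) := subset_closure (Or.inl rfl)
        have hCm : ∀ u, u * π x * u⁻¹ = π x → u ∈ closure ({π t, π x * π t} : Set (G ⧸ N)) := fun u hu =>
          zpowers_le.2 hxmem (hCx (mem_centralizer_singleton_iff.2 (mul_inv_eq_iff_eq_mul.1 hu)))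
        rcases hconj w with h' | h'
        · exact hCm w h'
        · have h1 : π t * w * π x * (π t * w)⁻¹ = π x := by
            rw [show π t * w * π x * (π t * w)⁻¹ = π t * (w * π x * w⁻¹) * (π t)⁻¹ by group, h', ← conj_inv,
              ← map_mul, ← map_inv, ← map_mul, htx, map_inv, inv_inv]
          simpa using mul_mem (inv_mem htm) (hCm _ h1)
      exact ⟨(Subgroup.topEquiv.symm.trans (MulEquiv.subgroupCongr htop.symm)).trans e⟩
  · -- a nontrivial three-core
    set N := Cfsg.pCore 3 G with hN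
    haveI hNn : N.Normal := CfsgLib.Coprime.pCore_normal' 3
    have hNp : IsPGroup 3 N := CfsgLib.Coprime.pCore_isPGroup 3
    have hN3 : ∀ n ∈ N, n ^ 3 = 1 := fun n hn => by
      obtain ⟨k, hk⟩ := hNp ⟨n, hn⟩
      have hk' : n ^ 3 ^ k = 1 := congrArg Subtype.val hk
      rcases h34 n with h' | h'
      · exact h'
      · have : n = 1 := orderOf_eq_one_iff.1 (Nat.eq_one_of_dvd_coprimes (Nat.Coprime.pow_left k (by decide : Nat.Coprime 3 4))
          (orderOf_dvd_of_pow_eq_one hk') (orderOf_dvd_of_pow_eq_one h'))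
        rw [this, one_pow]
    have hNt : ∀ u ∈ N, u ^ 4 = 1 → u = 1 := fun u hu h4 => orderOf_eq_one_iff.1
      (Nat.eq_one_of_dvd_coprimes (by decide : Nat.Coprime 3 4) (orderOf_dvd_of_pow_eq_one (hN3 u hu))
        (orderOf_dvd_of_pow_eq_one h4))
    have hinvN : ∀ t : G, orderOf t = 2 → ∀ n : N, t * (n : G) * t⁻¹ = (n : G)⁻¹ := by
      intro t ht n
      let φ : N →* N := (MulAut.conjNormal t).toMonoidHom
      have ht2 : t * t = 1 := by rw [← pow_two, ← ht]; exact pow_orderOf_eq_one t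
      have hti : t⁻¹ = t := inv_eq_of_mul_eq_one_left ht2
      have hfp : MonoidHom.FixedPointFree φ := fun m hm => Subtype.ext (by
        have h1 := congrArg Subtype.val hm
        simp only [φ, MulEquiv.coe_toMonoidHom, MulAut.conjNormal_apply] at h1
        by_contra hm1
        have := hF (m : G) t (hN3 m m.2) hm1 (by rw [show 4 = 2 * 2 from rfl, pow_mul, pow_two t, ht2, one_pow])
          (mul_inv_eq_iff_eq_mul.1 h1).symm
        rw [this, orderOf_one] at ht; omega)
      have hinv : Function.Involutive φ := fun m => Subtype.ext (by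
        simp only [φ, MulEquiv.coe_toMonoidHom, MulAut.conjNormal_apply, hti]
        calc t * (t * (m : G) * t) * t = (t * t) * m * (t * t) := by group
          _ = m := by rw [ht2, one_mul, mul_one])
      have h1 := congrArg Subtype.val (congrFun (hfp.coe_eq_inv_of_involutive hinv) n)
      simpa [φ] using h1
    obtain ⟨e4, he4⟩ := hex 4 (by norm_num) le_rfl
    obtain ⟨t, ht⟩ := hex 2 (by norm_num) (by norm_num)
    have hNab : ∀ a b : N, a * b = b * a := fun a b => Subtype.ext (by
      have := hinvN t ht (a * b)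
      simp only [Subgroup.coe_mul] at this ⊢
      rw [show t * ((a : G) * b) * t⁻¹ = (t * a * t⁻¹) * (t * b * t⁻¹) by group, hinvN t ht a, hinvN t ht b,
        ← mul_inv_rev, inv_inj] at this
      exact this.symm)
    refine ⟨N, hNn, Or.inr (Or.inr ⟨⟨⟨⟨hNab⟩⟩, hN3⟩, ?_⟩)⟩
    have hCN : centralizer (N : Set G) ≤ N := by
      haveI : (centralizer (N : Set G)).Normal := inferInstance
      refine CfsgLib.Coprime.le_pCore (hthree _ fun u hu h2 => ?_)
      obtain ⟨n, hn, hn1⟩ : ∃ n ∈ N, n ≠ 1 := by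
        by_contra! h'
        exact hO ((eq_bot_iff_forall N).2 h')
      have hu4 : u ^ 4 = 1 := by rw [show 4 = 2 * 2 from rfl, pow_mul, ← h2, pow_orderOf_eq_one, one_pow]
      have := hF n u (hN3 n hn) hn1 hu4 (mem_centralizer_iff.1 hu n hn)
      rw [this, orderOf_one] at h2; omega
    have htu : ∀ u : G, orderOf u = 2 → QuotientGroup.mk' N u = QuotientGroup.mk' N t := by
      intro u hu
      refine QuotientGroup.eq.2 (hCN (mem_centralizer_iff.2 fun n hn => ?_))
      have e1 : u * n * u⁻¹ = n⁻¹ := hinvN u hu ⟨n, hn⟩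
      have e2 : t * n * t⁻¹ = n⁻¹ := hinvN t ht ⟨n, hn⟩
      calc n * (u⁻¹ * t) = u⁻¹ * (u * n * u⁻¹) * t := by group
        _ = u⁻¹ * (t * n * t⁻¹) * t := by rw [e1, e2]
        _ = u⁻¹ * t * n := by group
    set π := QuotientGroup.mk' N with hπ
    have htc : ∀ w : G ⧸ N, Commute (π t) w := fun w => by
      obtain ⟨g, rfl⟩ := QuotientGroup.mk'_surjective N w
      have h1 := htu (g * t * g⁻¹) (by rw [← MulAut.conj_apply, MulEquiv.orderOf_eq, ht])
      rw [map_mul, map_mul, map_inv, mul_inv_eq_iff_eq_mul] at h1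
      exact h1.symm
    have ht1 : orderOf (π t) = 2 := orderOf_eq_prime (by rw [← map_pow, ← ht, pow_orderOf_eq_one, map_one])
      fun h' => by
        have := hNt t ((QuotientGroup.eq_one_iff t).1 h') (by rw [show 4 = 2 * 2 from rfl, pow_mul, ← ht, pow_orderOf_eq_one, one_pow])
        rw [this, orderOf_one] at ht; omega
    have hq4 : ∀ w : G ⧸ N, w ^ 4 = 1 := fun w => by
      obtain ⟨g, rfl⟩ := QuotientGroup.mk'_surjective N w
      rcases h34 g with h' | h'
      · by_cases h1 : π g = 1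
        · rw [h1, one_pow]
        exfalso
        have h3 : orderOf (π g) = 3 := orderOf_eq_prime (by rw [← map_pow, h', map_one]) h1
        have h6 : orderOf (π (t * g)) = 6 := by
          rw [map_mul, (htc _).orderOf_mul_eq_mul_orderOf_of_coprime (by rw [ht1, h3]; decide), ht1, h3]
        have := Nat.le_of_dvd (orderOf_pos _) (orderOf_map_dvd π (t * g))
        have := (ho (t * g)).2
        omega
      · rw [← map_pow, h', map_one]
    have hQ : IsPGroup 2 (G ⧸ N) := fun w => ⟨2, hq4 w⟩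
    have huniq : CfsgLib.Coprime.UniqueOrderP 2 (G ⧸ N) := by
      have hone : ∀ w : G ⧸ N, w ^ 2 = 1 → w ≠ 1 → w = π t := fun w hw hw1 => by
        obtain ⟨u, rfl⟩ := QuotientGroup.mk'_surjective N w
        have hu4 : u ^ 4 = 1 := by
          rcases h34 u with h' | h'
          · exfalso
            apply hw1
            have e1 : π u ^ 3 = 1 := by rw [← map_pow, h', map_one]
            rwa [pow_succ, hw, one_mul] at e1
          · exact h'
        have hu2 : u ^ 2 = 1 := hNt _ ((QuotientGroup.eq_one_iff _).1 (by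
          show π (u ^ 2) = 1
          rw [map_pow, hw])) (by rw [← pow_mul, show 2 * 4 = 4 * 2 from rfl, pow_mul, hu4, one_pow])
        exact htu u (orderOf_eq_prime hu2 fun h' => hw1 (by rw [h', map_one]))
      intro a b ha hb ha1
      by_cases hb1 : b = 1
      · rw [hb1]; exact one_mem _
      · rw [hone a ha ha1, hone b hb hb1]; exact mem_zpowers _
    have h4q : orderOf (π e4) = 4 := by
      have h1 : π e4 ^ 4 = 1 := hq4 _
      refine (orderOf_eq_prime_pow (p := 2) (n := 1) (fun h' => ?_) h1)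
      rw [pow_one, ← map_pow] at h'
      have h2 := hNt (e4 ^ 2) ((QuotientGroup.eq_one_iff _).1 h') (by
        rw [← pow_mul, show 2 * 4 = 4 * 2 from rfl, pow_mul, ← he4, pow_orderOf_eq_one, one_pow])
      have := orderOf_dvd_of_pow_eq_one h2
      rw [he4] at this
      omega
    have hle4 : ∀ w : G ⧸ N, orderOf w ≤ 4 := fun w => Nat.le_of_dvd (by norm_num) (orderOf_dvd_of_pow_eq_one (hq4 w))
    have hcyc : IsCyclic (G ⧸ N) → IsCyclic (G ⧸ N) ∧ N.index = 4 := fun hc => by
      obtain ⟨g, hg⟩ := hc.exists_ofOrder_eq_natCard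
      refine ⟨hc, le_antisymm ?_ ?_⟩
      · rw [index, ← hg]; exact hle4 g
      · rw [index, ← h4q]; exact Nat.le_of_dvd Nat.card_pos (orderOf_dvd_natCard _)
    rcases CfsgLib.Coprime.cyclic_or_quaternion_of_unique_two hQ huniq with hc | ⟨k, ⟨e⟩⟩
    · exact Or.inl (hcyc hc)
    rcases Nat.eq_zero_or_pos k with rfl | hk
    · refine Or.inl (hcyc (isCyclic_of_orderOf_eq_card (e.symm (QuaternionGroup.xa 0)) ?_))
      rw [MulEquiv.orderOf_eq, QuaternionGroup.orderOf_xa, Nat.card_congr e.toEquiv, Nat.card_eq_fintype_card]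
      rfl
    · right
      haveI : NeZero (2 ^ k) := ⟨pow_ne_zero k two_ne_zero⟩
      have h1 := hle4 (e.symm (QuaternionGroup.a 1))
      rw [MulEquiv.orderOf_eq, QuaternionGroup.orderOf_a_one] at h1
      have h2 : 2 ^ 1 ≤ 2 ^ k := Nat.pow_le_pow_right (by norm_num) hk
      have h3 : 2 ^ k = 2 := by omega
      rw [h3] at e
      exact ⟨e⟩

end Cfsg.Agent.S4006
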