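import Cfsg.Statements.S4160
import Cfsg.Agent.Lib.Fusion.Transfer
-- import your own Cfsg.Agent.* helpers here

set_option autoImplicit false
open Cfsg

namespace Cfsg.Agent.S4160

open Subgroup

variable {G : Type*} [Group G] [Finite G]

private theorem exists_conj_mem {p : ℕ} [Fact p.Prime] (P : Sylow p G) {x : G}
    (hx : ¬ p ∣ (centralizer ({x} : Set G)).index) :
    ∃ g c : G, c ∈ centralizer ((P : Subgroup G) : Set G) ∧ x = g * c * g⁻¹ := by
  have hd : ¬ p ∣ (centralizer ({x} : Set G)).index := hx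
  let Q : Sylow p (centralizer ({x} : Set G)) := default
  have hQi : ¬ p ∣ ((Q : Subgroup (centralizer ({x} : Set G))).map
      (centralizer ({x} : Set G)).subtype).index := by
    rw [index_map_subtype]
    exact (Fact.out : p.Prime).not_dvd_mul Q.not_dvd_index hd
  let R : Sylow p G := (Q.isPGroup'.map _).toSylow hQi
  obtain ⟨g, hg⟩ := MulAction.exists_smul_eq G P R
  refine ⟨g, g⁻¹ * x * g, mem_centralizer_iff.2 fun u hu => ?_, by group⟩
  have hu' : g * u * g⁻¹ ∈ (R : Subgroup G) := by
    rw [← hg, Sylow.coe_subgroup_smul]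
    exact smul_mem_pointwise_smul u (MulAut.conj g) _ hu
  rw [show (R : Subgroup G) = _ from IsPGroup.toSylow_coe _ hQi] at hu'
  obtain ⟨w, -, hw⟩ := hu'
  have h := mem_centralizer_singleton_iff.1 w.2
  have hw' : (w : G) = g * u * g⁻¹ := hw
  rw [hw'] at h
  calc u * (g⁻¹ * x * g) = g⁻¹ * ((g * u * g⁻¹) * x) * g := by group
    _ = g⁻¹ * (x * (g * u * g⁻¹)) * g := by rw [h]
    _ = g⁻¹ * x * g * u := by group

private theorem card_conj_le (P : Subgroup G) (U : Set G) (hU : ∀ x ∈ U, x ≠ 1 →
    ∃ g c : G, c ∈ centralizer (P : Set G) ∧ x = g * c * g⁻¹) :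
    (U \ {1}).ncard ≤ (normalizer (P : Set G)).index * (Nat.card (centralizer (P : Set G)) - 1) := by
  classical
  haveI := Fintype.ofFinite G
  set C := centralizer (P : Set G)
  set N := normalizer (P : Set G)
  let f : (G ⧸ N) × {c : C // c ≠ 1} → G := fun a => a.1.out * (a.2.1 : G) * a.1.out⁻¹
  have hsub : U \ {1} ⊆ Set.range f := by
    rintro x ⟨hx, hx1⟩
    obtain ⟨g, c, hc, rfl⟩ := hU x hx hx1
    have hn : (g : G ⧸ N).out⁻¹ * g ∈ N := QuotientGroup.eq.1 (QuotientGroup.out_eq' _)
    set n := (g : G ⧸ N).out⁻¹ * g with hndef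
    have hc' : n * c * n⁻¹ ∈ C := by
      refine mem_centralizer_iff.2 fun u hu => ?_
      have hu' : n⁻¹ * u * n ∈ P := by
        have := (mem_normalizer_iff.1 (inv_mem hn) u).1 hu
        simpa using this
      have h := mem_centralizer_iff.1 hc _ hu'
      calc u * (n * c * n⁻¹) = n * ((n⁻¹ * u * n) * c) * n⁻¹ := by group
        _ = n * (c * (n⁻¹ * u * n)) * n⁻¹ := by rw [h]
        _ = n * c * n⁻¹ * u := by group
    have hne : (⟨n * c * n⁻¹, hc'⟩ : C) ≠ 1 := by
      intro e
      apply hx1
      have e' : n * c * n⁻¹ = 1 := congrArg Subtype.val e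
      have : c = 1 := conj_eq_one_iff.1 e'
      simp [this]
    refine ⟨⟨(g : G ⧸ N), ⟨_, hne⟩⟩, ?_⟩
    show (g : G ⧸ N).out * (n * c * n⁻¹) * (g : G ⧸ N).out⁻¹ = g * c * g⁻¹
    simp only [n]
    group
  refine (Set.ncard_le_ncard hsub).trans ((Finite.card_range_le f).trans (le_of_eq ?_))
  rw [Nat.card_prod, Nat.card_eq_fintype_card (α := {c : C // c ≠ 1}), Fintype.card_subtype_compl,
    Fintype.card_subtype_eq, Nat.card_eq_fintype_card (α := C)]
  rfl

/-- Let G be a finite group and p ≠ q primes each dividing the size of some conjugacy class of G, such that no conjugacy class size is divisible by pq. Then G has a normal p-complement or a normal q-complement. -/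
theorem result {G : Type*} [Group G] [Finite G] (p q : ℕ) (hp : p.Prime) (hq : q.Prime) (hpq : p ≠ q)
    (hp' : ∃ x : G, p ∣ (Subgroup.centralizer ({x} : Set G)).index) (hq' : ∃ x : G, q ∣ (Subgroup.centralizer ({x} : Set G)).index) (h : ∀ x : G, ¬ p * q ∣ (Subgroup.centralizer ({x} : Set G)).index) :
    Cfsg.HasNormalPComplement p G ∨ Cfsg.HasNormalPComplement q G := by
  classical
  haveI := Fact.mk hp
  haveI := Fact.mk hq
  let P : Sylow p G := default
  let Q : Sylow q G := default
  suffices hor : normalizer ((P : Subgroup G) : Set G) ≤ centralizer ((P : Subgroup G) : Set G) ∨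
      normalizer ((Q : Subgroup G) : Set G) ≤ centralizer ((Q : Subgroup G) : Set G) by
    rcases hor with h1 | h1
    · exact Or.inl (CfsgLib.Fusion.hasNormalPComplement_of_normalizer_le_centralizer P h1)
    · exact Or.inr (CfsgLib.Fusion.hasNormalPComplement_of_normalizer_le_centralizer Q h1)
  by_contra hor
  push Not at hor
  have half : ∀ R : Subgroup G, ¬ normalizer (R : Set G) ≤ centralizer (R : Set G) →
      2 * ((normalizer (R : Set G)).index * Nat.card (centralizer (R : Set G))) ≤ Nat.card G := by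
    intro R hR
    rw [← (normalizer (R : Set G)).index_mul_card, mul_left_comm]
    refine Nat.mul_le_mul le_rfl ?_
    obtain ⟨c, hc⟩ := card_dvd_of_le (centralizer_le_normalizer (R : Set G))
    rcases c with _ | _ | c
    · rw [mul_zero] at hc
      exact absurd hc Nat.card_pos.ne'
    · exfalso
      exact hR (eq_of_le_of_card_ge (centralizer_le_normalizer (R : Set G)) (by simp [hc])).ge
    · rw [hc, mul_comm]; exact Nat.mul_le_mul le_rfl (by omega)
  have h1 := half _ hor.1
  have h2 := half _ hor.2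
  set S₁ : Set G := {x | ¬ p ∣ (centralizer ({x} : Set G)).index}
  set S₂ : Set G := {x | ¬ q ∣ (centralizer ({x} : Set G)).index}
  have hcov : (Set.univ : Set G) \ {1} ⊆ (S₁ \ {1}) ∪ (S₂ \ {1}) := by
    rintro x ⟨-, hx1⟩
    by_cases hx : p ∣ (centralizer ({x} : Set G)).index
    · refine Or.inr ⟨fun hxq => h x ?_, hx1⟩
      exact ((Nat.coprime_primes hp hq).2 hpq).mul_dvd_of_dvd_of_dvd hx hxq
    · exact Or.inl ⟨hx, hx1⟩
  have h3 := (Set.ncard_le_ncard hcov).trans (Set.ncard_union_le _ _)
  have h4 := card_conj_le (P : Subgroup G) S₁ fun x hx _ => exists_conj_mem P hx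
  have h5 := card_conj_le (Q : Subgroup G) S₂ fun x hx _ => exists_conj_mem Q hx
  rw [Set.ncard_sdiff (Set.subset_univ _), Set.ncard_univ, Set.ncard_singleton] at h3
  have i1 : 0 < (normalizer ((P : Subgroup G) : Set G)).index :=
    Nat.pos_of_ne_zero index_ne_zero_of_finite
  have i2 : 0 < (normalizer ((Q : Subgroup G) : Set G)).index :=
    Nat.pos_of_ne_zero index_ne_zero_of_finite
  rw [Nat.mul_sub, mul_one] at h4 h5
  have j1 : (normalizer ((P : Subgroup G) : Set G)).index ≤
      (normalizer ((P : Subgroup G) : Set G)).index *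
        Nat.card (centralizer ((P : Subgroup G) : Set G)) := Nat.le_mul_of_pos_right _ Nat.card_pos
  have j2 : (normalizer ((Q : Subgroup G) : Set G)).index ≤
      (normalizer ((Q : Subgroup G) : Set G)).index *
        Nat.card (centralizer ((Q : Subgroup G) : Set G)) := Nat.le_mul_of_pos_right _ Nat.card_pos
  omega

end Cfsg.Agent.S4160
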