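import Cfsg.Statements.S0730
-- import your own Cfsg.Agent.* helpers here
import Mathlib
import Cfsg.Agent.Lib.Perm.AbelianKernel.OddExponent
import Cfsg.Agent.Lib.Perm.AbelianKernel.Recognise

set_option autoImplicit false
set_option linter.all false
open Cfsg

namespace Cfsg.Agent.S0730

/-- A sharply triply transitive group of degree `p^f + 1`, `p` an odd prime and `f` odd, is isomorphic to the projective general linear group of degree 2 over the field with `p^f` elements (for even `f` there is a second, twisted, group). -/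
theorem result {α : Type*} [Fintype α] [DecidableEq α] {p f : ℕ} (hp : p.Prime) (hp2 : p ≠ 2) (hfo : Odd f) (hα : Fintype.card α = p ^ f + 1) (G : Subgroup (Equiv.Perm α)) (h3 : MulAction.IsMultiplyPretransitive G α 3) (hsharp : ∀ x : Fin 3 ↪ α, MulAction.stabilizer G x = ⊥) : ∃ (F : Type) (_ : Field F) (_ : Fintype F), Fintype.card F = p ^ f ∧ Nonempty (G ≃* Matrix.ProjGenLinGroup (Fin 2) F) := by
  classical
  have hf : 1 ≤ f := hfo.pos
  have hp3 : 3 ≤ p ^ f := by
    have := hp.two_le
    calc 3 ≤ p ^ 1 := by rw [pow_one]; omega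
      _ ≤ p ^ f := Nat.pow_le_pow_right hp.pos hf
  obtain ⟨a, b, D, p', hp', hexp, hfull⟩ := CfsgLib.Perm.AbKernel.exists_data_sharp h3 hsharp (by omega)
  have hF : Nat.card D.F = p ^ f := by have := D.card_space; omega
  haveI := Fact.mk hp
  obtain ⟨u, hu⟩ := exists_prime_orderOf_dvd_card' (G := D.F) p (hF ▸ dvd_pow_self p (by omega))
  have hpp : p = p' := (Nat.prime_dvd_prime_iff_eq hp hp').1 (hu ▸ orderOf_dvd_of_pow_eq_one
    (Subtype.ext (hexp u u.2)))
  subst hpp
  exact D.pgl_of_full hp hexp hF (hF ▸ (hp.eq_two_or_odd'.resolve_left hp2).pow) (by omega) hfull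
    (D.pair_comm_of_odd hp hp2 hexp hF hfo hfull)

end Cfsg.Agent.S0730
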