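import Cfsg.Statements.S4134
import Cfsg.Agent.Lib.PGroup.TwoClassSizes

set_option autoImplicit false
open Cfsg

namespace Cfsg.Agent.S4134

/-- Let G be a finite group whose conjugacy classes have exactly two sizes, 1 and n > 1. Then n is a power of a prime p and G is the direct product of a p-group and an abelian group of order prime to p: its Sylow p-subgroup P is normal with an abelian normal complement centralizing it; moreover P has an abelian normal subgroup A with P/A of exponent dividing p. -/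
theorem result {G : Type*} [Group G] [Finite G] (n : ℕ) (hn : 1 < n)
    (h : ∀ x : G, (Subgroup.centralizer ({x} : Set G)).index = 1 ∨ (Subgroup.centralizer ({x} : Set G)).index = n) (hex : ∃ x : G, (Subgroup.centralizer ({x} : Set G)).index = n) :
    ∃ (p : ℕ) (_ : Fact p.Prime) (a : ℕ), n = p ^ a ∧ ∀ P : Sylow p G, (P : Subgroup G).Normal ∧
      (∃ N : Subgroup G, N.Normal ∧ N.IsComplement' (P : Subgroup G) ∧ IsMulCommutative N ∧
        ∀ x ∈ N, ∀ y ∈ (P : Subgroup G), x * y = y * x) ∧
      ∃ A : Subgroup (P : Subgroup G), A.Normal ∧ IsMulCommutative A ∧ ∀ y : (P : Subgroup G), y ^ p ∈ A := by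
  classical
  have h1c : ∀ x : G, (Subgroup.centralizer ({x} : Set G)).index = 1 ↔ x ∈ Subgroup.center G := fun x => by
    rw [Subgroup.index_eq_one]
    constructor
    · intro e
      exact Subgroup.mem_center_iff.2 fun g => Subgroup.mem_centralizer_singleton_iff.1
        (show g ∈ Subgroup.centralizer ({x} : Set G) by rw [e]; exact Subgroup.mem_top g)
    · intro hx
      exact eq_top_iff.2 fun g _ => Subgroup.mem_centralizer_singleton_iff.2 (Subgroup.mem_center_iff.1 hx g)
  have hidx : ∀ x : G, x ∉ Subgroup.center G → (Subgroup.centralizer ({x} : Set G)).index = n :=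
    fun x hx => (h x).resolve_left fun e => hx ((h1c x).1 e)
  have heq : CfsgLib.TwoSizes.EqualCent G := fun x y hx hy => by
    have h1 := (Subgroup.centralizer ({x} : Set G)).card_mul_index
    have h2 := (Subgroup.centralizer ({y} : Set G)).card_mul_index
    rw [hidx x hx] at h1; rw [hidx y hy, ← h1] at h2
    exact (mul_right_cancel₀ (by omega) h2).symm
  obtain ⟨x₀, hx₀⟩ := hex
  have hx₀' : x₀ ∉ Subgroup.center G := fun hm => by rw [(h1c x₀).2 hm] at hx₀; omega
  obtain ⟨p, hp, hnc⟩ : ∃ p : ℕ, p.Prime ∧ CfsgLib.TwoSizes.HasNoncentral G p := by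
    by_contra hcon
    push Not at hcon
    have htop : Subgroup.center G = ⊤ := by
      rw [← Subgroup.index_eq_one]
      by_contra hne
      obtain ⟨q, hq, hqd⟩ := Nat.exists_prime_and_dvd hne
      haveI := Fact.mk hq
      obtain ⟨R⟩ : Nonempty (Sylow q G) := inferInstance
      exact R.not_dvd_index (hqd.trans (Subgroup.index_dvd_of_le
        (CfsgLib.TwoSizes.sylow_le_center_of_not (hcon q hq) R)))
    exact hx₀' (by rw [htop]; exact Subgroup.mem_top _)
  haveI hpF := Fact.mk hp
  let N : Subgroup G :=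
    { carrier := {z | z ∈ Subgroup.center G ∧ (orderOf z).Coprime p}
      mul_mem' := fun {a b} ha hb => ⟨mul_mem ha.1 hb.1,
        ((ha.2.mul_left hb.2).coprime_dvd_left
          ((show Commute a b from Subgroup.mem_center_iff.1 hb.1 a).orderOf_mul_dvd_mul_orderOf))⟩
      one_mem' := ⟨one_mem _, by rw [orderOf_one]; exact Nat.coprime_one_left p⟩
      inv_mem' := fun {a} ha => ⟨inv_mem ha.1, by rw [orderOf_inv]; exact ha.2⟩ }
  have hNc : N ≤ Subgroup.center G := fun z hz => hz.1
  have hsylN : ∀ q : ℕ, q.Prime → q ≠ p → ∀ R : Sylow q G, (R : Subgroup G) ≤ N := by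
    intro q hq hqp R
    haveI := Fact.mk hq
    have hc := CfsgLib.TwoSizes.sylow_le_center_of_not (r := q)
      (fun hn' => hqp (CfsgLib.TwoSizes.unique_prime heq hq hp hn' hnc)) R
    intro z hz
    obtain ⟨k, hk⟩ := IsPGroup.iff_orderOf.1 R.2 ⟨z, hz⟩
    refine ⟨hc hz, ?_⟩
    rw [← Subgroup.orderOf_coe] at hk
    rw [show orderOf z = q ^ k from hk]
    exact Nat.Coprime.pow_left k ((Nat.coprime_primes hq hp).2 hqp)
  haveI hNn : N.Normal := ⟨fun z hz g => by
    rw [Subgroup.mem_center_iff.1 hz.1 g, mul_inv_cancel_right]; exact hz⟩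
  have hsup : ∀ P : Sylow p G, (P : Subgroup G) ⊔ N = ⊤ := by
    intro P
    rw [← Subgroup.index_eq_one]
    by_contra hne
    obtain ⟨q, hq, hqd⟩ := Nat.exists_prime_and_dvd hne
    haveI := Fact.mk hq
    by_cases hqp : q = p
    · subst hqp
      exact P.not_dvd_index (hqd.trans (Subgroup.index_dvd_of_le le_sup_left))
    · obtain ⟨R⟩ : Nonempty (Sylow q G) := inferInstance
      exact R.not_dvd_index (hqd.trans (Subgroup.index_dvd_of_le ((hsylN q hq hqp R).trans le_sup_right)))
  have hcompl : ∀ P : Sylow p G, N.IsComplement' (P : Subgroup G) := by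
    intro P
    refine Subgroup.isComplement'_of_disjoint_and_mul_eq_univ ?_ ?_
    · rw [disjoint_iff, eq_bot_iff]
      rintro z ⟨hzN, hzP⟩
      obtain ⟨k, hk⟩ := IsPGroup.iff_orderOf.1 P.2 ⟨z, hzP⟩
      rw [← Subgroup.orderOf_coe] at hk
      have h1 : (orderOf z).Coprime (p ^ k) := Nat.Coprime.pow_right k hzN.2
      rw [show orderOf z = p ^ k from hk, Nat.coprime_self] at h1
      exact Subgroup.mem_bot.2 (orderOf_eq_one_iff.1 (hk.trans h1))
    · rw [← Subgroup.normal_mul, sup_comm, hsup P, Subgroup.coe_top]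
  obtain ⟨P₀⟩ : Nonempty (Sylow p G) := inferInstance
  obtain ⟨k, hk⟩ := P₀.2.exists_card_eq
  have hnd : n ∣ p ^ k := by
    rw [← hidx x₀ hx₀', ← hk, ← (hcompl P₀).symm.index_eq_card]
    exact Subgroup.index_dvd_of_le (hNc.trans (CfsgLib.TwoSizes.center_le_cent x₀))
  obtain ⟨a, -, ha⟩ := (Nat.dvd_prime_pow hp).1 hnd
  refine ⟨p, hpF, a, ha, fun P => ⟨?_, ⟨N, hNn, hcompl P, ?_, ?_⟩, ?_⟩⟩
  · rw [← Subgroup.normalizer_eq_top_iff, eq_top_iff, ← hsup P]
    exact sup_le Subgroup.le_normalizer fun z hz => Subgroup.mem_normalizer_iff.2 fun w => by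
      rw [← Subgroup.mem_center_iff.1 hz.1 w, mul_inv_cancel_right]
  · exact ⟨⟨fun u v => Subtype.ext (Subgroup.mem_center_iff.1 v.2.1 u)⟩⟩
  · exact fun x hx y _ => (Subgroup.mem_center_iff.1 hx.1 y).symm
  · refine CfsgLib.TwoSizes.exists_abelian_pow heq P fun y _ hy => Subgroup.mem_center_iff.2 fun g => ?_
    have hle : (⊤ : Subgroup G) ≤ Subgroup.centralizer ({y} : Set G) := by
      rw [← hsup P]
      exact sup_le (fun u hu => Subgroup.mem_centralizer_singleton_iff.2 (hy u hu))
        (hNc.trans (CfsgLib.TwoSizes.center_le_cent y))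
    exact Subgroup.mem_centralizer_singleton_iff.1 (hle (Subgroup.mem_top g))

end Cfsg.Agent.S4134
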