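import Cfsg.Statements.S1297
import Cfsg.Agent.Lib.Coprime.LBalance.LocalBalance

set_option autoImplicit false
open Cfsg

namespace Cfsg.Agent.S1297

/-- Let G be finite. Suppose that for every involution x, writing C = C_G(x), every component K of C / O(C) has K / Z(K) locally balanced. Then G is balanced. -/
theorem result {G : Type*} [Group G] [Finite G] (h : ∀ x : G, orderOf x = 2 → ∀ K : Subgroup (↥(Subgroup.centralizer ({x} : Set G)) ⧸ Cfsg.oddCore ↥(Subgroup.centralizer ({x} : Set G))), Cfsg.IsComponent K → Cfsg.IsLocallyBalanced (↥K ⧸ Subgroup.center ↥K)) : Cfsg.IsBalanced G := by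
  haveI : Fact (Nat.Prime 2) := ⟨Nat.prime_two⟩
  have key : ∀ x y : G, orderOf x = 2 → orderOf y = 2 → x * y = y * x →
      Cfsg.centralizerPPrimeCore 2 x ⊓ Subgroup.centralizer {y} ≤ Cfsg.centralizerPPrimeCore 2 y := by
    intro x y hx hy hxy
    have hx2 : x ^ 2 = 1 := hx ▸ pow_orderOf_eq_one x
    have hel : Cfsg.IsElementaryAbelian 2 (Subgroup.zpowers x) := by
      refine ⟨⟨⟨fun a b => ?_⟩⟩, fun a ha => ?_⟩
      · obtain ⟨i, hi⟩ := Subgroup.mem_zpowers_iff.1 a.2
        obtain ⟨j, hj⟩ := Subgroup.mem_zpowers_iff.1 b.2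
        exact Subtype.ext (by show (a : G) * b = b * a; rw [← hi, ← hj, zpow_mul_comm])
      · obtain ⟨i, rfl⟩ := Subgroup.mem_zpowers_iff.1 ha
        rw [← zpow_natCast, ← zpow_mul, mul_comm, zpow_mul, zpow_natCast, hx2, one_zpow]
    refine le_trans (inf_le_inf_right _ (le_iInf ?_)) (CfsgLib.Coprime.signalizerDelta_inf_centralizer_le
      hel (fun a ha => ?_) fun A' hA' hc => ?_)
    · rintro ⟨a, ha, ha1⟩
      have hzeq : Subgroup.zpowers a = Subgroup.zpowers x :=
        Subgroup.eq_of_le_of_card_ge (Subgroup.zpowers_le.2 ha) (by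
          rw [Nat.card_zpowers, Nat.card_zpowers, hx, orderOf_eq_prime (hel.2 a ha) ha1])
      show Cfsg.centralizerPPrimeCore 2 x ≤ Cfsg.centralizerPPrimeCore 2 a
      rw [CfsgLib.Coprime.centralizerPPrimeCore_eq, CfsgLib.Coprime.centralizerPPrimeCore_eq, hzeq]
    · obtain ⟨i, rfl⟩ := Subgroup.mem_zpowers_iff.1 ha
      exact ((show Commute x y from hxy).zpow_left i).eq
    · refine CfsgLib.Coprime.signalizerDelta_eq_bot_of_locallyKBalanced le_rfl
        (CfsgLib.Coprime.pPrimeCore_quotient_eq_bot Nat.prime_two) (fun K hK H hH B hB hBc => ?_) hA'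
        (by rw [hc, Nat.card_zpowers, hx, pow_one])
      rw [pow_one] at hBc
      haveI : Nontrivial B := Finite.one_lt_card_iff_nontrivial.1 (by rw [hBc]; norm_num)
      obtain ⟨⟨b, hb⟩, hb1⟩ := exists_ne (1 : B)
      have hb1' : b ≠ 1 := fun e => hb1 (Subtype.ext e)
      exact le_bot_iff.1 (le_trans
        (iInf_le (fun y : {y // y ∈ B ∧ y ≠ 1} => Cfsg.centralizerPPrimeCore 2 y.1) ⟨b, hb, hb1'⟩)
        (h y hy K hK H hH b (orderOf_eq_prime (hB.2 b hb) hb1')).le)
  intro x y hx hy hxy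
  exact le_antisymm
    (le_inf (key x y hx hy hxy) (inf_le_left.trans (CfsgLib.Coprime.coreIn_le 2 (Subgroup.centralizer ({x} : Set G)))))
    (le_inf (key y x hy hx hxy.symm) (inf_le_left.trans (CfsgLib.Coprime.coreIn_le 2 (Subgroup.centralizer ({y} : Set G)))))

end Cfsg.Agent.S1297
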