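import Cfsg.Statements.S2791
import Cfsg.Agent.Lib.Fusion.Sylow
import Cfsg.Agent.Lib.Coprime.Action
import Cfsg.Agent.Lib.PGroup.Isolated

set_option autoImplicit false
open Cfsg

namespace Cfsg.Agent.S2791

/-- Let S be a Sylow p-subgroup of the finite group G and A an abelian subgroup of S that is strongly closed in S with respect to G. Then A controls strong fusion in G: for some Sylow p-subgroup T containing A, whenever a subset of T is conjugated into T by an element of G, the same elementwise conjugation is induced by an element of N_G(A). -/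
theorem result {G : Type*} [Group G] [Finite G] {p : ℕ} [Fact p.Prime] (S : Sylow p G) (A : Subgroup G) (hA : IsMulCommutative ↥A) (hsc : Cfsg.IsStronglyClosed A (S : Subgroup G)) : Cfsg.ControlsStrongFusion p A := by
  classical
  obtain ⟨hAS, hcl⟩ := hsc
  set T : Subgroup G := (S : Subgroup G) with hT
  have hAab : ∀ a ∈ A, ∀ b ∈ A, a * b = b * a := fun a ha b hb => congrArg Subtype.val (hA.is_comm.comm ⟨a, ha⟩ ⟨b, hb⟩)
  have hNA : ∀ g : G, (∀ a ∈ A, g * a * g⁻¹ ∈ T) → g ∈ Subgroup.normalizer (A : Set G) := fun g hg =>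
    CfsgLib.Fusion.conjBy_eq_iff.1 (CfsgLib.Fusion.conjBy_eq_of_le (CfsgLib.Fusion.conjBy_le_iff.2 fun a ha => hcl a ha g (hg a ha)))
  suffices key : ∀ R : Subgroup G, R ≤ T → ∀ g : G, (∀ r ∈ R, g * r * g⁻¹ ∈ T) →
      ∃ x ∈ Subgroup.normalizer (A : Set G), ∀ r ∈ R, g * r * g⁻¹ = x * r * x⁻¹ by
    refine ⟨S, hAS, fun X hX => ⟨hX, fun g hg => ?_⟩⟩
    obtain ⟨x, hx, hxe⟩ := key (Subgroup.closure X) ((Subgroup.closure_le _).2 hX) g fun r hr => by
      have : Subgroup.closure X ≤ CfsgLib.Fusion.conjBy g⁻¹ T := (Subgroup.closure_le _).2 fun a ha =>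
        CfsgLib.Fusion.mem_conjBy.2 (by rw [inv_inv]; exact hg ⟨a, ha, rfl⟩)
      simpa using CfsgLib.Fusion.mem_conjBy.1 (this hr)
    exact ⟨x, hx, fun a ha => hxe a (Subgroup.subset_closure ha)⟩
  intro R
  induction hk : Nat.card T - Nat.card R using Nat.strong_induction_on generalizing R with
  | _ k ih =>
  subst hk
  intro hRT
  haveI := S.2.isNilpotent
  have hbig : ∀ R' : Subgroup G, R' ≤ T → Nat.card R < Nat.card R' → ∀ g : G, (∀ r ∈ R', g * r * g⁻¹ ∈ T) →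
      ∃ x ∈ Subgroup.normalizer (A : Set G), ∀ r ∈ R', g * r * g⁻¹ = x * r * x⁻¹ := fun R' h' hlt =>
    ih _ (by have := Subgroup.card_le_of_le h'; omega) R' rfl h'
  by_cases htop : T ≤ R
  · intro g hg
    exact ⟨g, hNA g fun a ha => hg a (htop (hAS ha)), fun r _ => rfl⟩
  -- a fully normalized conjugate
  obtain ⟨h₀, hh₀, hmax⟩ := Set.Finite.exists_maximalFor
    (fun h : G => Nat.card ↥(T ⊓ Subgroup.normalizer (CfsgLib.Fusion.conjBy h R : Set G)))
    {h : G | CfsgLib.Fusion.conjBy h R ≤ T} (Set.toFinite _) ⟨1, by show CfsgLib.Fusion.conjBy 1 R ≤ T; rwa [CfsgLib.Fusion.conjBy_one]⟩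
  set R₀ := CfsgLib.Fusion.conjBy h₀ R with hR₀
  set NT := T ⊓ Subgroup.normalizer (R₀ : Set G) with hNT
  have hNTp : IsPGroup p NT := S.2.to_le inf_le_left
  -- `N_T(R₀)` is a Sylow subgroup of `N(R₀)`
  have hfull : ¬ p ∣ NT.relIndex (Subgroup.normalizer (R₀ : Set G)) := by
    obtain ⟨U, hU1, hU2, hUp, hUi⟩ := CfsgLib.Fusion.exists_le_not_dvd_relIndex hNTp inf_le_right
    obtain ⟨Q, hQ⟩ := hUp.exists_le_sylow
    obtain ⟨m, hm⟩ := MulAction.exists_smul_eq G Q S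
    have hmU : CfsgLib.Fusion.conjBy m U ≤ T := (CfsgLib.Fusion.conjBy_mono hQ).trans (le_of_eq (by rw [hT, ← hm]; rfl))
    have hR0U : R₀ ≤ U := le_trans (le_inf hh₀ Subgroup.le_normalizer) hU1
    have hmem : CfsgLib.Fusion.conjBy (m * h₀) R ≤ T := by
      rw [← CfsgLib.Fusion.conjBy_conjBy]
      exact (CfsgLib.Fusion.conjBy_mono hR0U).trans hmU
    have hle : CfsgLib.Fusion.conjBy m U ≤ T ⊓ Subgroup.normalizer (CfsgLib.Fusion.conjBy (m * h₀) R : Set G) := by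
      refine le_inf hmU ?_
      rw [← CfsgLib.Fusion.conjBy_conjBy, ← CfsgLib.Fusion.conjBy_normalizer]
      exact CfsgLib.Fusion.conjBy_mono hU2
    have h1 : Nat.card NT ≤ Nat.card U := Subgroup.card_le_of_le hU1
    have h2 : Nat.card U ≤ Nat.card ↥(T ⊓ Subgroup.normalizer (CfsgLib.Fusion.conjBy (m * h₀) R : Set G)) := by
      rw [← CfsgLib.Fusion.card_conjBy m U]; exact Subgroup.card_le_of_le hle
    have h3 := hmax (j := m * h₀) hmem (h1.trans h2)
    rwa [Subgroup.eq_of_le_of_card_ge hU1 (h2.trans h3)]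
  -- moving a conjugate of `R` onto the fully normalized one
  have hmove : ∀ h : G, CfsgLib.Fusion.conjBy h R ≤ T → ∃ x ∈ Subgroup.normalizer (A : Set G), ∃ n ∈ Subgroup.normalizer (R₀ : Set G), ∀ r ∈ R, (n * h₀) * r * (n * h₀)⁻¹ = x * (h * r * h⁻¹) * x⁻¹ := by
    intro h hh
    set R' := CfsgLib.Fusion.conjBy h R with hR'
    set U := T ⊓ Subgroup.normalizer (R' : Set G) with hU
    have hU0 : CfsgLib.Fusion.conjBy (h₀ * h⁻¹) U ≤ Subgroup.normalizer (R₀ : Set G) := by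
      refine (CfsgLib.Fusion.conjBy_mono inf_le_right).trans (le_of_eq ?_)
      rw [CfsgLib.Fusion.conjBy_normalizer, hR', CfsgLib.Fusion.conjBy_conjBy, inv_mul_cancel_right]
    obtain ⟨n, hn, hnle⟩ := CfsgLib.Fusion.exists_conj_le_of_not_dvd_relIndex hNTp inf_le_right hfull
      (CfsgLib.Fusion.isPGroup_conjBy _ (S.2.to_le (inf_le_left : U ≤ T))) hU0
    rw [CfsgLib.Fusion.conjBy_conjBy] at hnle
    have hlt : Nat.card R < Nat.card U := by
      rw [← CfsgLib.Fusion.card_conjBy h R, ← hR']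
      have hne : ¬ T ≤ R' := fun hle => htop (Subgroup.eq_of_le_of_card_ge hRT (by
        rw [← CfsgLib.Fusion.card_conjBy h R]; exact Subgroup.card_le_of_le hle)).ge
      obtain ⟨u, huT, huN, hu⟩ := CfsgLib.Isolated.exists_mem_normalizer_inf hh hne
      refine lt_of_not_ge fun hge => hu ?_
      rw [Subgroup.eq_of_le_of_card_ge (le_inf hh Subgroup.le_normalizer) hge]
      exact ⟨huT, huN⟩
    obtain ⟨x, hx, hxe⟩ := hbig U inf_le_left hlt (n * (h₀ * h⁻¹)) fun r hr => (hnle (CfsgLib.Fusion.conj_mem_conjBy hr)).1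
    refine ⟨x, hx, n, hn, fun r hr => ?_⟩
    have hmem : h * r * h⁻¹ ∈ R' := CfsgLib.Fusion.conj_mem_conjBy hr
    rw [← hxe _ ⟨hh hmem, Subgroup.le_normalizer hmem⟩]
    group
  -- automorphisms of the fully normalized conjugate
  have hauto : ∀ m ∈ Subgroup.normalizer (R₀ : Set G), ∃ x ∈ Subgroup.normalizer (A : Set G), ∀ r ∈ R₀, m * r * m⁻¹ = x * r * x⁻¹ := by
    intro m hm
    set N := Subgroup.normalizer (R₀ : Set G) with hN
    have hNi : ∀ g ∈ N, ∀ r ∈ R₀, g * r * g⁻¹ ∈ R₀ := fun g hg r hr => (Subgroup.mem_normalizer_iff.1 hg r).1 hr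
    have hfixA : ∀ g ∈ N, ∀ r ∈ R₀, r ∈ A → g * r * g⁻¹ ∈ A := fun g hg r hr hrA => hcl r hrA g (hh₀ (hNi g hg r hr))
    by_cases hAR : A ≤ R₀
    · exact ⟨m, hNA m fun a ha => hh₀ (hNi m hm a (hAR ha)), fun r _ => rfl⟩
    let K : Subgroup G :=
      { carrier := {g | g ∈ N ∧ ∀ r ∈ R₀, g * r * g⁻¹ * r⁻¹ ∈ A ∧ (r ∈ A → g * r * g⁻¹ = r)}
        one_mem' := ⟨N.one_mem, fun r _ => ⟨by simpa using A.one_mem, fun _ => by group⟩⟩
        mul_mem' := fun {a b} ha hb => ⟨N.mul_mem ha.1 hb.1, fun r hr => by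
          have h1 := ha.2 _ (hNi b hb.1 r hr)
          refine ⟨?_, fun hrA => ?_⟩
          · have := A.mul_mem h1.1 (hb.2 r hr).1
            convert this using 1
            group
          · calc a * b * r * (a * b)⁻¹ = a * (b * r * b⁻¹) * a⁻¹ := by group
              _ = r := by rw [(hb.2 r hr).2 hrA, (ha.2 r hr).2 hrA]⟩
        inv_mem' := fun {a} ha => ⟨N.inv_mem ha.1, fun r hr => by
          have h1 := ha.2 _ (hNi a⁻¹ (N.inv_mem ha.1) r hr)
          refine ⟨?_, fun hrA => ?_⟩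
          · have := A.inv_mem h1.1
            convert this using 1
            group
          · have h2 := (ha.2 r hr).2 hrA
            calc a⁻¹ * r * a⁻¹⁻¹ = a⁻¹ * (a * r * a⁻¹) * a⁻¹⁻¹ := by rw [h2]
              _ = r := by group⟩ }
    have hKn : ∀ g ∈ N, ∀ y ∈ K, g * y * g⁻¹ ∈ K := fun g hg y hy => ⟨N.mul_mem (N.mul_mem hg hy.1) (N.inv_mem hg), fun r hr => by
      have hr' := hNi g⁻¹ (N.inv_mem hg) r hr
      have h1 := hy.2 _ hr'
      refine ⟨?_, fun hrA => ?_⟩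
      · have := hfixA g hg _ (R₀.mul_mem (hNi y hy.1 _ hr') (R₀.inv_mem hr')) h1.1
        convert this using 1
        group
      · calc g * y * g⁻¹ * r * (g * y * g⁻¹)⁻¹ = g * (y * (g⁻¹ * r * g⁻¹⁻¹) * y⁻¹) * g⁻¹ := by group
          _ = r := by rw [h1.2 (hfixA g⁻¹ (N.inv_mem hg) r hr hrA)]; group⟩
    set U := NT ⊓ K with hU
    have hUi : ¬ p ∣ U.relIndex K := by
      obtain ⟨V, hV1, hV2, hVp, hVi⟩ := CfsgLib.Fusion.exists_le_not_dvd_relIndex (hNTp.to_le (inf_le_left : U ≤ NT)) inf_le_right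
      obtain ⟨n, hn, hnle⟩ := CfsgLib.Fusion.exists_conj_le_of_not_dvd_relIndex hNTp inf_le_right hfull hVp (hV2.trans fun y hy => hy.1)
      have hle : CfsgLib.Fusion.conjBy n V ≤ U := le_inf hnle (CfsgLib.Fusion.conjBy_le_iff.2 fun y hy => hKn n hn y (hV2 hy))
      have e : U = V := Subgroup.eq_of_le_of_card_ge hV1 (by rw [← CfsgLib.Fusion.card_conjBy n V]; exact Subgroup.card_le_of_le hle)
      rw [e]; exact hVi
    have hnT : ∀ t ∈ T, t ∈ Subgroup.normalizer (A : Set G) := fun t ht => hNA t fun a ha => T.mul_mem (T.mul_mem ht (hAS ha)) (T.inv_mem ht)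
    -- Frattini
    obtain ⟨y, hy, hyle⟩ := CfsgLib.Fusion.exists_conj_le_of_not_dvd_relIndex (hNTp.to_le (inf_le_left : U ≤ NT)) inf_le_right hUi
      (CfsgLib.Fusion.isPGroup_conjBy m (hNTp.to_le inf_le_left)) (CfsgLib.Fusion.conjBy_le_iff.2 fun u hu => hKn m hm u hu.2)
    rw [CfsgLib.Fusion.conjBy_conjBy] at hyle
    -- `K = C_K(R₀) U`
    haveI hCn : ((Subgroup.centralizer (R₀ : Set G)).subgroupOf K).Normal := by
      refine ⟨fun c hc g => Subgroup.mem_subgroupOf.2 ?_⟩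
      exact (Subgroup.mem_normalizer_iff.1 (CfsgLib.Coprime.normalizer_le_normalizer_centralizer R₀ g.2.1) _).1 (Subgroup.mem_subgroupOf.1 hc)
    have hexp : ∀ g ∈ K, g ^ Nat.card R₀ ∈ Subgroup.centralizer (R₀ : Set G) := by
      intro g hg
      refine Subgroup.mem_centralizer_iff.2 fun r hr => ?_
      set d := g * r * g⁻¹ * r⁻¹ with hd
      have hdR : d ∈ R₀ := R₀.mul_mem (hNi g hg.1 r hr) (R₀.inv_mem hr)
      have hgd : g * d * g⁻¹ = d := (hg.2 d hdR).2 (hg.2 r hr).1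
      have hit : ∀ i : ℕ, g ^ i * r * (g ^ i)⁻¹ = d ^ i * r := by
        intro i
        induction i with
        | zero => simp
        | succ i ih =>
          calc g ^ (i + 1) * r * (g ^ (i + 1))⁻¹ = g * (g ^ i * r * (g ^ i)⁻¹) * g⁻¹ := by rw [pow_succ']; group
            _ = (g * d ^ i * g⁻¹) * (g * r * g⁻¹) := by rw [ih]; group
            _ = d ^ i * (d * r) := by rw [← conj_pow, hgd, hd, inv_mul_cancel_right]
            _ = d ^ (i + 1) * r := by rw [pow_succ]; exact (mul_assoc _ _ _).symm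
      have h1 := hit (Nat.card R₀)
      rw [show d ^ Nat.card R₀ = 1 from congrArg Subtype.val (pow_card_eq_one' (x := (⟨d, hdR⟩ : R₀))), one_mul] at h1
      exact (mul_inv_eq_iff_eq_mul.1 h1).symm
    have hCU : (Subgroup.centralizer (R₀ : Set G)).subgroupOf K ⊔ U.subgroupOf K = ⊤ := by
      set X := (Subgroup.centralizer (R₀ : Set G)).subgroupOf K ⊔ U.subgroupOf K
      have h1 : X.index ∣ U.relIndex K := Subgroup.index_dvd_of_le le_sup_right
      have h2 : IsPGroup p (↥K ⧸ (Subgroup.centralizer (R₀ : Set G)).subgroupOf K) := by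
        intro q
        obtain ⟨g, rfl⟩ := QuotientGroup.mk_surjective q
        obtain ⟨e, he⟩ := (S.2.to_le hh₀).exists_card_eq
        refine ⟨e, ?_⟩
        rw [← QuotientGroup.mk_pow, QuotientGroup.eq_one_iff, Subgroup.mem_subgroupOf, ← he]
        exact hexp g g.2
      obtain ⟨e, he⟩ := h2.exists_card_eq
      have h3 : X.index ∣ p ^ e := he ▸ Subgroup.index_dvd_of_le le_sup_left
      obtain ⟨f, -, hf⟩ := (Nat.dvd_prime_pow (Fact.out : p.Prime)).1 h3
      rcases Nat.eq_zero_or_pos f with h | h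
      · exact Subgroup.index_eq_one.1 (by rw [hf, h, pow_zero])
      · exact absurd ((dvd_pow_self p h.ne').trans (hf ▸ h1)) hUi
    obtain ⟨c, hc, u, hu, hcu⟩ : ∃ c ∈ Subgroup.centralizer (R₀ : Set G), ∃ u ∈ U, c * u = y⁻¹ := by
      have hmem : (⟨y⁻¹, K.inv_mem hy⟩ : K) ∈ (Subgroup.centralizer (R₀ : Set G)).subgroupOf K ⊔ U.subgroupOf K := hCU ▸ Subgroup.mem_top _
      rw [← SetLike.mem_coe, Subgroup.normal_mul] at hmem
      obtain ⟨c, hc, u, hu, hcu⟩ := hmem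
      exact ⟨c, hc, u, hu, congrArg Subtype.val hcu⟩
    -- `u (y m)` normalizes the larger subgroup `R₀ ⊔ (A ⊓ N)`
    set B := A ⊓ N with hB
    have hBK : B ≤ K := fun b hb => ⟨hb.2, fun r hr => ⟨by
      rw [show b * r * b⁻¹ * r⁻¹ = b * (r * b⁻¹ * r⁻¹) by group]
      exact A.mul_mem hb.1 ((Subgroup.mem_normalizer_iff.1 (hnT r (hh₀ hr)) _).1 (A.inv_mem hb.1)),
      fun hrA => by rw [hAab b hb.1 r hrA, mul_inv_cancel_right]⟩⟩
    have hBU : B ≤ U := le_inf (le_inf (inf_le_left.trans hAS) inf_le_right) hBK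
    set R' := R₀ ⊔ B with hR'
    have hlt : Nat.card R < Nat.card R' := by
      rw [← CfsgLib.Fusion.card_conjBy h₀ R, ← hR₀]
      refine lt_of_not_ge fun hge => hAR ?_
      have he : R₀ = R' := Subgroup.eq_of_le_of_card_ge le_sup_left hge
      have hAR' : R₀ ⊔ A ≤ T := sup_le hh₀ hAS
      haveI := (S.2.to_le hAR').isNilpotent
      by_contra hne
      obtain ⟨w, hw, hwN, hwR⟩ := CfsgLib.Isolated.exists_mem_normalizer_inf (le_sup_left : R₀ ≤ R₀ ⊔ A) (fun h => hne (le_sup_right.trans h))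
      obtain ⟨r, hr, a, ha, rfl⟩ := (Subgroup.coe_mul_of_left_le_normalizer_right R₀ A (fun r hr => hnT r (hh₀ hr))).le hw
      refine hwR (R₀.mul_mem hr (he.ge (Subgroup.mem_sup_right ⟨ha, ?_⟩)))
      simpa using N.mul_mem (N.inv_mem (Subgroup.le_normalizer hr)) hwN
    have hg'N : u * (y * m) ∈ N := N.mul_mem hu.1.2 (N.mul_mem hy.1 hm)
    have hstab : ∀ b ∈ B, u * (y * m) * b * (u * (y * m))⁻¹ ∈ T := by
      intro b hb
      have h1 : u * (y * m * b * (y * m)⁻¹) * u⁻¹ ∈ U := U.mul_mem (U.mul_mem hu (hyle (CfsgLib.Fusion.conj_mem_conjBy (hBU hb)))) (U.inv_mem hu)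
      have h2 : u * (y * m * b * (y * m)⁻¹) * u⁻¹ ∈ T := h1.1.1
      convert h2 using 1
      group
    obtain ⟨x, hx, hxe⟩ := hbig R' (sup_le hh₀ (inf_le_left.trans hAS)) hlt (u * (y * m)) fun r hr => by
      have : R' ≤ CfsgLib.Fusion.conjBy (u * (y * m))⁻¹ T := sup_le
        (fun v hv => CfsgLib.Fusion.mem_conjBy.2 (by rw [inv_inv]; exact hh₀ (hNi _ hg'N v hv)))
        (fun v hv => CfsgLib.Fusion.mem_conjBy.2 (by rw [inv_inv]; exact hstab v hv))
      simpa using CfsgLib.Fusion.mem_conjBy.1 (this hr)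
    refine ⟨x, hx, fun r hr => ?_⟩
    rw [← hxe r (Subgroup.mem_sup_left hr)]
    -- `m` and `u y m` agree on `R₀` modulo `C(R₀)`
    have hm' : m = c * (u * (y * m)) := by
      calc m = (y⁻¹ * y) * m := by group
        _ = c * (u * (y * m)) := by rw [← hcu]; group
    have hmem2 := hNi _ hg'N r hr
    calc m * r * m⁻¹ = c * (u * (y * m) * r * (u * (y * m))⁻¹) * c⁻¹ := by
          conv_lhs => rw [hm']
          group
      _ = u * (y * m) * r * (u * (y * m))⁻¹ := by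
          rw [← Subgroup.mem_centralizer_iff.1 hc _ hmem2, mul_inv_cancel_right]
  intro g hg
  obtain ⟨x1, hx1, n1, hn1, e1⟩ := hmove g (CfsgLib.Fusion.conjBy_le_iff.2 hg)
  obtain ⟨x0, hx0, n0, hn0, e0⟩ := hmove 1 (by rw [CfsgLib.Fusion.conjBy_one]; exact hRT)
  obtain ⟨x, hx, e⟩ := hauto (n1 * n0⁻¹) (mul_mem hn1 (inv_mem hn0))
  refine ⟨x1⁻¹ * x * x0, mul_mem (mul_mem (inv_mem hx1) hx) hx0, fun r hr => ?_⟩
  have h1 : n0 * h₀ * r * (n0 * h₀)⁻¹ ∈ R₀ := by
    have := (Subgroup.mem_normalizer_iff.1 hn0 _).1 (CfsgLib.Fusion.conj_mem_conjBy (g := h₀) hr)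
    convert this using 1
    group
  have h2 := e _ h1
  rw [e0 r hr] at h2
  have h3 := e1 r hr
  calc g * r * g⁻¹ = x1⁻¹ * (x1 * (g * r * g⁻¹) * x1⁻¹) * x1 := by group
    _ = x1⁻¹ * (n1 * n0⁻¹ * (n0 * h₀ * r * (n0 * h₀)⁻¹) * (n1 * n0⁻¹)⁻¹) * x1 := by rw [← h3]; group
    _ = x1⁻¹ * x * x0 * r * (x1⁻¹ * x * x0)⁻¹ := by rw [e0 r hr, h2]; group

end Cfsg.Agent.S2791
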