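import Cfsg.Statements.S4558
import Cfsg.Agent.Lib.Block.Local
import Cfsg.Agent.Lib.Char.Basic
-- import your own Cfsg.Agent.* helpers here

set_option autoImplicit false
open Cfsg CfsgLib.Block

open Cfsg

namespace Cfsg.Agent.S4558

/-- Let χ be a character of the finite group G and g an element of p-power order for the prime p. If χ g = 0, then p divides the degree of χ. -/
theorem result {G : Type*} [Group G] [Finite G] (p : ℕ) [Fact p.Prime] (χ : G → ℂ) (hχ : Cfsg.IsCharacter G χ) (g : G) (hg : ∃ j : ℕ, orderOf g = p ^ j) (h0 : χ g = 0) : p ∣ Cfsg.charDegree χ := by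
  classical
  obtain ⟨M, hM⟩ := exists_pModular (p := p) (Fact.out : p.Prime)
  have := hM.2.1
  obtain ⟨n, ρ, rfl⟩ := hχ
  obtain ⟨b, μ, h1, -, h3⟩ := CfsgLib.Char.exists_eigen_data ρ g
  obtain ⟨j, hj⟩ := hg
  rw [hj] at h1
  have hc : charDegree (ρ.character) = Module.finrank ℂ (Fin n → ℂ) := by
    rw [charDegree, Representation.char_one, Complex.natCast_re, Nat.floor_natCast]
  rw [hc, ← natCast_mem_iff hM]
  let m : Fin (Module.finrank ℂ (Fin n → ℂ)) → AlgInt := fun i =>
    ⟨μ i, CfsgLib.Char.isIntegral_of_pow_eq_one (pow_ne_zero _ (Fact.out : p.Prime).ne_zero) (h1 i)⟩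
  have hm : ∑ i, m i = 0 := by
    apply Subtype.ext
    have := h3 1
    simp only [pow_one, h0] at this
    simpa [m] using this.symm
  have : CharP (AlgInt ⧸ M) p := (CharP.charP_iff_prime_eq_zero (Fact.out : p.Prime)).mpr (by
    rw [← map_natCast (Ideal.Quotient.mk M), Ideal.Quotient.eq_zero_iff_mem]
    exact (natCast_mem_iff hM p).mpr dvd_rfl)
  have hone : ∀ i, Ideal.Quotient.mk M (m i) = 1 := fun i => by
    have h : (Ideal.Quotient.mk M (m i) - 1) ^ (p ^ j) = 0 := by
      rw [sub_pow_char_pow, one_pow, ← map_pow, show m i ^ (p ^ j) = 1 from Subtype.ext (by simpa [m] using h1 i),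
        map_one, sub_self]
    exact sub_eq_zero.mp (pow_eq_zero_iff (pow_ne_zero _ (Fact.out : p.Prime).ne_zero) |>.mp h)
  rw [← Ideal.Quotient.eq_zero_iff_mem, map_natCast]
  have := congrArg (Ideal.Quotient.mk M) hm
  rw [map_sum, map_zero, Finset.sum_congr rfl fun i _ => hone i] at this
  simpa using this

end Cfsg.Agent.S4558
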