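import Cfsg.Statements.S1496



import Mathlib.Tactic.Group

set_option autoImplicit false
open Cfsg

namespace Cfsg.Agent.S1496

/-- Let H be a subgroup of the finite group G and g an element normalising H whose order is coprime to the order of H. Then for every h ∈ H there are x ∈ H and c ∈ H commuting with g such that x * (h * g) * x⁻¹ = c * g. -/
theorem result {G : Type*} [Group G] [Finite G] (H : Subgroup G) (g : G) (hg : g ∈ Subgroup.normalizer (H : Set G)) (hcop : Nat.Coprime (orderOf g) (Nat.card H)) (h : G) (hh : h ∈ H) : ∃ x ∈ H, ∃ c ∈ H, c * g = g * c ∧ x * (h * g) * x⁻¹ = c * g := by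
  classical
  let C' : Subgroup H := (Subgroup.centralizer ({g} : Set G)).subgroupOf H
  have hcm : ∀ c : C', ((c : H) : G) * g = g * ((c : H) : G) := fun c =>
    Subgroup.mem_centralizer_singleton_iff.mp (Subgroup.mem_subgroupOf.mp c.2)
  have hmem : ∀ (q : H ⧸ C') (c : C'),
      ((q.out : H) : G) * (((c : H) : G) * g) * ((q.out : H) : G)⁻¹ * g⁻¹ ∈ H := by
    intro q c
    have h1 : g * ((q.out : H) : G)⁻¹ * g⁻¹ ∈ H :=
      (Subgroup.mem_normalizer_iff.mp hg _).mp (H.inv_mem (SetLike.coe_mem _))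
    have e : ((q.out : H) : G) * (((c : H) : G) * g) * ((q.out : H) : G)⁻¹ * g⁻¹ =
        ((q.out : H) : G) * ((c : H) : G) * (g * ((q.out : H) : G)⁻¹ * g⁻¹) := by group
    rw [e]
    exact H.mul_mem (H.mul_mem (SetLike.coe_mem _) (SetLike.coe_mem _)) h1
  let f : (H ⧸ C') × C' → H := fun p => ⟨_, hmem p.1 p.2⟩
  have hinj : Function.Injective f := by
    rintro ⟨q₁, c₁⟩ ⟨q₂, c₂⟩ he
    have he' : ((q₁.out : H) : G) * (((c₁ : H) : G) * g) * ((q₁.out : H) : G)⁻¹ =
        ((q₂.out : H) : G) * (((c₂ : H) : G) * g) * ((q₂.out : H) : G)⁻¹ :=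
      mul_right_cancel (congrArg Subtype.val he)
    set e : ℤ := (Nat.card H : ℤ) * (Nat.card H).gcdA (orderOf g) with hed
    have hge : g ^ e = g := by
      have hk : (1 : ℤ) = (Nat.card H : ℤ) * (Nat.card H).gcdA (orderOf g) +
          (orderOf g : ℤ) * (Nat.card H).gcdB (orderOf g) := by
        have := Nat.gcd_eq_gcd_ab (Nat.card H) (orderOf g)
        rwa [hcop.symm.gcd_eq_one, Nat.cast_one] at this
      conv_rhs => rw [← zpow_one g, hk, zpow_add, zpow_mul g (orderOf g : ℤ), zpow_natCast,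
        pow_orderOf_eq_one, one_zpow, mul_one]
    have hcg : ∀ c : C', (((c : H) : G) * g) ^ e = g := fun c => by
      rw [Commute.mul_zpow (hcm c), hge, hed, zpow_mul ((c : H) : G), zpow_natCast,
        show ((c : H) : G) ^ Nat.card H = 1 from congrArg Subtype.val (pow_card_eq_one' (x := (c : H))),
        one_zpow, one_mul]
    have h2 := congrArg (fun y : G => y ^ e) he'
    simp only [conj_zpow, hcg] at h2
    have hq : q₁ = q₂ := by
      rw [← q₁.out_eq', ← q₂.out_eq', QuotientGroup.eq, Subgroup.mem_subgroupOf,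
        Subgroup.mem_centralizer_singleton_iff]
      rw [Subgroup.coe_mul, Subgroup.coe_inv]
      calc ((q₁.out : H) : G)⁻¹ * ((q₂.out : H) : G) * g
          = ((q₁.out : H) : G)⁻¹ * (((q₂.out : H) : G) * g * ((q₂.out : H) : G)⁻¹) *
            ((q₂.out : H) : G) := by group
        _ = g * (((q₁.out : H) : G)⁻¹ * ((q₂.out : H) : G)) := by rw [← h2]; group
    subst hq
    exact Prod.ext rfl (Subtype.ext (Subtype.ext (mul_right_cancel (mul_left_cancel (mul_right_cancel he')))))
  have hcard : Nat.card ((H ⧸ C') × C') = Nat.card H := by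
    rw [Nat.card_prod, ← Subgroup.card_eq_card_quotient_mul_card_subgroup]
  obtain ⟨⟨q, c⟩, hqc⟩ :=
    ((Nat.bijective_iff_injective_and_card f).mpr ⟨hinj, hcard⟩).2 ⟨h, hh⟩
  have hval := congrArg Subtype.val hqc
  change ((q.out : H) : G) * (((c : H) : G) * g) * ((q.out : H) : G)⁻¹ * g⁻¹ = h at hval
  refine ⟨((q.out : H) : G)⁻¹, H.inv_mem (SetLike.coe_mem _), ((c : H) : G), SetLike.coe_mem _,
    hcm c, ?_⟩
  rw [← hval]
  group

end Cfsg.Agent.S1496
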