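import Cfsg.Statements.S0732
-- import your own Cfsg.Agent.* helpers here
import Mathlib
import Cfsg.Agent.Lib.Perm.AbelianKernel.PrimeDegree
import Cfsg.Agent.S0741

set_option autoImplicit false
set_option linter.all false
open Cfsg

namespace Cfsg.Agent.S0732

/-- A transitive permutation group on `p + 1` points (`p` prime) of order `(p+1) p d` with `d < p` is isomorphic to `PGL(2,p)` with `d = p - 1`, or to `PSL(2,p)` with `2d = p - 1`, or else `p + 1 = 2^q` for a prime `q`, `d = 1` or `d = q`, and the group is permutation-isomorphic to a group of semi-affine maps `x ↦ a φ(x) + b` of the field with `2^q` elements. -/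
theorem result {α : Type*} [Fintype α] [DecidableEq α] {p d : ℕ} (hp : p.Prime) (hα : Fintype.card α = p + 1) (G : Subgroup (Equiv.Perm α)) [MulAction.IsPretransitive G α] (hG : Nat.card G = (p + 1) * p * d) (hd : d < p) : (d = p - 1 ∧ Nonempty (G ≃* Matrix.ProjGenLinGroup (Fin 2) (ZMod p))) ∨ (2 * d = p - 1 ∧ Nonempty (G ≃* Matrix.ProjectiveSpecialLinearGroup (Fin 2) (ZMod p))) ∨ (∃ q : ℕ, q.Prime ∧ p + 1 = 2 ^ q ∧ (d = 1 ∨ d = q) ∧ ∃ e : α ≃ GaloisField 2 q, ∀ g : G, (e.symm.trans (((g : Equiv.Perm α)).trans e)) ∈ Cfsg.semiaffineGroup (GaloisField 2 q)) := by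
  classical
  obtain ⟨a, b, D, hF, hE, hHc⟩ := CfsgLib.Perm.AbKernel.exists_data_prime hp hα G hG hd
  have hq1 : 1 < Nat.card D.F := hF ▸ hp.one_lt
  haveI : Fact p.Prime := ⟨hp⟩
  have hexp : ∀ u ∈ D.F, u ^ p = 1 := fun u hu => by
    rw [← hF]; exact congrArg Subtype.val (pow_card_eq_one' (x := (⟨u, hu⟩ : D.F)))
  have hdp : d ∣ p - 1 := by rw [← hE, ← hF]; exact D.dvd_sub_one
  by_cases hfull : d + 1 = p
  · left
    refine ⟨by omega, ?_⟩
    obtain ⟨h3, hsharp⟩ := D.sharp_three hq1 (by rw [hE, hF, hfull])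
    rcases hp.eq_two_or_odd' with h2 | hodd
    · obtain ⟨K, hK, hKf, hKcard, ⟨i⟩⟩ := CfsgLib.Perm.ZOdd.iso_pgl (f := 1) le_rfl
        (by rw [hα, h2]; norm_num) h3 hsharp
      exact ⟨i.trans (CfsgLib.Perm.Dickson.g2Congr (ZMod.ringEquivOfPrime K hp (by rw [hKcard, h2]; norm_num)).symm)⟩
    · obtain ⟨K, hK, hKf, hKcard, ⟨i⟩⟩ := D.pgl_of_full (f := 1) hp hexp (by rw [hF, pow_one]) (hF ▸ hodd) hq1
        (by rw [hE, hF, hfull]) hHc
      exact ⟨i.trans (CfsgLib.Perm.Dickson.g2Congr (ZMod.ringEquivOfPrime K hp (by rw [hKcard, pow_one])).symm)⟩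
  · right
    have hp2 : p ≠ 2 := by
      rintro rfl
      have : d = 0 ∨ d = 1 := by omega
      rcases this with rfl | rfl
      · rw [mul_zero] at hG; exact (Nat.card_pos (α := G)).ne' hG
      · exact hfull rfl
    rcases Nat.even_or_odd d with heven | hodd
    · left
      have hd0 : 0 < d := hE ▸ Nat.card_pos
      obtain ⟨s, hs⟩ := exists_prime_orderOf_dvd_card' (G := ↥(MulAction.stabilizer G a ⊓ MulAction.stabilizer G b))
        (hp := ⟨Nat.prime_two⟩) 2 (hE ▸ even_iff_two_dvd.1 heven)
      have hs1 : (s : G) ≠ 1 := fun e => by rw [← Subgroup.orderOf_coe, e, orderOf_one] at hs; omega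
      have hp5 : 5 ≤ p := by
        obtain ⟨m, hm⟩ := hdp
        obtain ⟨e, he⟩ := heven
        rcases (by omega : m = 0 ∨ m = 1 ∨ 2 ≤ m) with rfl | rfl | h
        · have := hp.two_le; omega
        · omega
        · have := Nat.mul_le_mul_left d h; omega
      haveI : FaithfulSMul G α := inferInstance
      have hZ : Cfsg.IsZassenhausGroup G α := by
        refine ⟨inferInstance, D.two_transitive, D.three_fix, ⟨s, hs1, a, b, D.ne, (Subgroup.mem_inf.1 s.2).1,
          (Subgroup.mem_inf.1 s.2).2⟩, fun N hN htr => ?_⟩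
        by_contra hno
        push Not at hno
        have hinj : ∀ {x y : N}, (x : G) • a = (y : G) • a → x = y := by
          intro x y h
          have hm : y⁻¹ * x ∈ MulAction.stabilizer N a := by
            show ((y : G)⁻¹ * (x : G)) • a = a
            rw [mul_smul, h, inv_smul_smul]
          rw [hno a, Subgroup.mem_bot, inv_mul_eq_one] at hm
          exact hm.symm
        have hb : Function.Bijective (fun n : N => (n : G) • a) :=
          ⟨fun x y h => hinj h, fun y => MulAction.exists_smul_eq N a y⟩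
        have hNc : Nat.card N = p + 1 := by rw [Nat.card_eq_of_bijective _ hb, Nat.card_eq_fintype_card, hα]
        obtain ⟨j, hj⟩ := exists_prime_orderOf_dvd_card' (G := N) (hp := ⟨Nat.prime_two⟩) 2 (by
          rw [hNc]; obtain ⟨i, hi⟩ := hp.eq_two_or_odd'.resolve_left hp2; omega)
        have hja : (j : G) • a ≠ a := fun e => by
          rw [hinj (x := j) (y := 1) (by simpa using e), orderOf_one] at hj; omega
        have hsqN : ∀ n : N, n * n = 1 := by
          intro n
          by_cases hn : n = 1
          · rw [hn, one_mul]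
          have hna : (n : G) • a ≠ a := fun e => hn (hinj (y := 1) (by simpa using e))
          obtain ⟨u, hu, -⟩ := D.reg _ _ hja hna
          have hua : (u : G) • a = a := D.le u.2
          have hc : (⟨(u : G) * j * (u : G)⁻¹, hN.conj_mem _ j.2 _⟩ : N) = n := hinj (by
            show ((u : G) * j * (u : G)⁻¹) • a = _
            rw [mul_smul, mul_smul, inv_smul_eq_iff.2 hua.symm, hu])
          rw [← hc]
          refine Subtype.ext ?_
          show (u : G) * j * (u : G)⁻¹ * ((u : G) * j * (u : G)⁻¹) = 1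
          rw [show (u : G) * j * (u : G)⁻¹ * ((u : G) * j * (u : G)⁻¹) = (u : G) * ((j : G) * j) * (u : G)⁻¹ by group,
            show (j : G) * j = 1 by rw [← pow_two, ← SubmonoidClass.coe_pow, ← hj, pow_orderOf_eq_one]; rfl]
          group
        have hNcomm : ∀ x y : N, x * y = y * x := fun x y => by
          have hi : ∀ z : N, z⁻¹ = z := fun z => inv_eq_of_mul_eq_one_right (hsqN z)
          have := hi (x * y)
          rw [mul_inv_rev, hi x, hi y] at this
          exact this.symm
        -- the involution fixes at most two points, so `|N| ≤ 4`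
        letI : CommGroup N := { (inferInstance : Group N) with mul_comm := hNcomm }
        let φ : N →* N :=
          MonoidHom.mk' (fun n => n * ⟨(s : G) * n * (s : G)⁻¹, hN.conj_mem _ n.2 _⟩) fun x y => by
            rw [show (⟨(s : G) * ((x * y : N) : G) * (s : G)⁻¹, hN.conj_mem _ (x * y).2 _⟩ : N) =
              ⟨(s : G) * x * (s : G)⁻¹, hN.conj_mem _ x.2 _⟩ * ⟨(s : G) * y * (s : G)⁻¹, hN.conj_mem _ y.2 _⟩ from
              Subtype.ext (by simp [mul_assoc])]
            exact mul_mul_mul_comm _ _ _ _
        obtain ⟨n₀, hn₀⟩ := hb.2 b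
        have hsa : (s : G) • a = a := (Subgroup.mem_inf.1 s.2).1
        have hsb : (s : G) • b = b := (Subgroup.mem_inf.1 s.2).2
        have hfixed : ∀ n : N, (s : G) * n * (s : G)⁻¹ = n → n = 1 ∨ n = n₀ := by
          intro n hn
          have hsn : (s : G) • ((n : G) • a) = (n : G) • a := by
            rw [smul_smul, mul_inv_eq_iff_eq_mul.1 hn, mul_smul, hsa]
          by_contra hne
          push Not at hne
          exact hs1 (D.fix s hsa hsb _ (fun e => hne.1 (hinj (y := 1) (by simpa using e)))
            (fun e => hne.2 (hb.1 (e.trans hn₀.symm))) hsn)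
        have hss : (s : G) * s = 1 := by
          rw [← pow_two, ← SubmonoidClass.coe_pow, ← hs, pow_orderOf_eq_one]; rfl
        have hker : Nat.card φ.ker ≤ 2 := by
          have hsub : (φ.ker : Set N) ⊆ {1, n₀} := fun n hn => by
            have h1 : n * ⟨(s : G) * n * (s : G)⁻¹, hN.conj_mem _ n.2 _⟩ = 1 := hn
            have h2 := inv_eq_of_mul_eq_one_right h1
            rw [inv_eq_of_mul_eq_one_right (hsqN n)] at h2
            rcases hfixed n (congrArg Subtype.val h2.symm) with e | e <;> simp [e]
          have := Set.ncard_le_ncard hsub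
          rw [← Nat.card_coe_set_eq] at this
          exact this.trans ((Set.ncard_insert_le _ _).trans (by simp))
        have hrange : Nat.card φ.range ≤ 2 := by
          have hsub : (φ.range : Set N) ⊆ {1, n₀} := by
            rintro _ ⟨n, rfl⟩
            have he : (s : G) * (φ n : N) * (s : G)⁻¹ = (φ n : N) := by
              show (s : G) * ((n : G) * ((s : G) * n * (s : G)⁻¹)) * (s : G)⁻¹ = (n : G) * ((s : G) * n * (s : G)⁻¹)
              have hc : (n : G) * ((s : G) * n * (s : G)⁻¹) = ((s : G) * n * (s : G)⁻¹) * n :=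
                congrArg Subtype.val (hNcomm n ⟨_, hN.conj_mem _ n.2 _⟩)
              calc (s : G) * ((n : G) * ((s : G) * n * (s : G)⁻¹)) * (s : G)⁻¹
                  = ((s : G) * n * (s : G)⁻¹) * (((s : G) * s) * n * ((s : G) * s)⁻¹) := by group
                _ = ((s : G) * n * (s : G)⁻¹) * n := by rw [hss]; group
                _ = _ := hc.symm
            rcases hfixed _ he with e | e <;> simp [e]
          have := Set.ncard_le_ncard hsub
          rw [← Nat.card_coe_set_eq] at this
          exact this.trans ((Set.ncard_insert_le _ _).trans (by simp))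
        have hmul := φ.ker.card_mul_index
        rw [Subgroup.index_ker] at hmul
        have := Nat.mul_le_mul hker hrange
        omega
      have hev : Even (Nat.card ↥(MulAction.stabilizer G a ⊓ MulAction.stabilizer G b)) := hE ▸ heven
      have hge := Cfsg.Agent.S0741.result hZ D.ne hev
      have h2d : 2 * d + 1 = p := by
        rw [hE, hα] at hge
        rcases D.full_or_half hq1 (by rw [hE, hF]; omega) with h | h <;> rw [hE, hF] at h <;> omega
      refine ⟨by omega, ?_⟩
      obtain ⟨p', f, K, hK, hKf, hp', -, hKcard, hKα, ⟨i⟩⟩ :=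
        CfsgLib.Perm.ZEven.iso_psl hZ D.ne hev (by rw [hE, hα]; omega)
      have hKp : Fintype.card K = p := by omega
      exact ⟨i.trans (CfsgLib.Perm.Dickson.s2Congr (ZMod.ringEquivOfPrime K hp hKp).symm)⟩
    · rcases D.dichotomy hq1 (hE.symm ▸ hodd) with ⟨N, hN, hNc, hNreg⟩ | ⟨hsw, hle⟩
      · right
        obtain ⟨q, hq, hpq, hdq, he⟩ := CfsgLib.Perm.AbKernel.semiaffine_of_regular hp hp2 D hF N hN hNc hNreg
        exact ⟨q, hq, hpq, hE ▸ hdq, he⟩
      · left
        rcases D.full_or_half hq1 hle with h | h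
        · rw [hE, hF] at h; exact absurd h hfull
        · refine ⟨by rw [hE, hF] at h; omega, ?_⟩
          obtain ⟨K, hK, hKf, -, hKcard, ⟨i⟩⟩ := D.psl_of_half (f := 1) hp hexp (by rw [hF, pow_one])
            (hE.symm ▸ hodd) h hsw
          exact ⟨i.trans (CfsgLib.Perm.Dickson.s2Congr (ZMod.ringEquivOfPrime K hp (by rw [hKcard, pow_one])).symm)⟩

end Cfsg.Agent.S0732
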