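import Cfsg.Statements.S4441
import Cfsg.Agent.Lib.Block.Cyclic.SylowSetup
-- import your own Cfsg.Agent.* helpers here

set_option autoImplicit false
open Cfsg CfsgLib.Block

open Cfsg

namespace Cfsg.Agent.S4441

/-- Let p be an odd prime and G a finite group whose Sylow p-subgroup P has order p; let C = C_G(P), N = N_G(P), e the index of C in N and t = (p − 1)/e; fix a maximal ideal M of the algebraic integers containing p and let B₀ be the principal block. Then B₀ is the disjoint union of a set X of e characters and a set Y of t characters such that: each χ ∈ X has a sign ε_χ with χ(1) ≡ ε_χ (mod p) and χ(x y) = ε_χ for every non-identity x ∈ P and every p-regular y ∈ C; all members of Y agree on the p-regular elements of G; there is one sign ε with θ(1) ≡ ε e (mod p) for every θ ∈ Y; and for every θ ∈ Y and every p-regular g, ε θ(g) = Σ_{χ ∈ X} ε_χ χ(g). -/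
theorem result {G : Type*} [Group G] [Fintype G] (p : ℕ) [Fact p.Prime] (M : Ideal Cfsg.AlgInt) (hM : Cfsg.IsPModular p M) (hodd : p ≠ 2) (P : Sylow p G) (hP : Nat.card P = p) (e : ℕ) (he : (Subgroup.centralizer ((P : Subgroup G) : Set G)).relIndex (Subgroup.normalizer ((P : Subgroup G) : Set G)) = e) : ∃ X Y : Set (Cfsg.IrrCharacter G), Cfsg.principalBlock M G = X ∪ Y ∧ Disjoint X Y ∧ Nat.card X = e ∧ Nat.card Y = (p - 1) / e ∧ ∃ (εX : Cfsg.IrrCharacter G → ℤ) (ε : ℤ), (∀ χ ∈ X, (εX χ = 1 ∨ εX χ = -1) ∧ (Cfsg.charDegree (χ : G → ℂ) : ℤ) ≡ εX χ [ZMOD p] ∧ ∀ x : G, x ∈ (P : Subgroup G) → x ≠ 1 → ∀ y : G, y ∈ Subgroup.centralizer ((P : Subgroup G) : Set G) → ¬ p ∣ orderOf y → (χ : G → ℂ) (x * y) = (εX χ : ℂ)) ∧ (ε = 1 ∨ ε = -1) ∧ (∀ θ ∈ Y, (Cfsg.charDegree (θ : G → ℂ) : ℤ) ≡ ε * (e : ℤ) [ZMOD p]) ∧ (∀ θ ∈ Y, ∀ θ' ∈ Y, ∀ g : G, ¬ p ∣ orderOf g → (θ : G → ℂ) g = (θ' : G → ℂ) g) ∧ ∀ θ ∈ Y, ∀ g : G, ¬ p ∣ orderOf g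 → (ε : ℂ) * (θ : G → ℂ) g = ∑ᶠ χ ∈ X, (εX χ : ℂ) * (χ : G → ℂ) g := by
  classical
  have := hM.2.1
  have hp : p.Prime := Fact.out
  obtain ⟨D₀, hD₀⟩ := CfsgLib.Block.Cyclic.exists_cycSetup (Q := (P : Subgroup G)) hP
    (CfsgLib.Block.Cyclic.not_sq_dvd_of_sylow hP)
  let D := D₀.withChar (CfsgLib.Block.oneChar D₀.K)
  have hDQ : D.Q = (P : Subgroup G) := hD₀
  let _ : Fintype D.K := Fintype.ofFinite _
  let _ : Fintype (Subgroup.centralizer (D.Q : Set G)) := Fintype.ofFinite _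
  have h1 : ∀ y, (D.φ : D.K → ℂ) y = 1 := fun _ => rfl
  have hBD := D.blockData_principal hM hDQ h1
  obtain ⟨E⟩ := D.exists_exceptional_family hM hBD
  have hst := D.stab_eq_normalizer h1
  have hr : D.stab.relIndex (Subgroup.normalizer (D.Q : Set G)) = 1 := by
    rw [hst, Subgroup.relIndex_self]
  have hee : Nat.card D.expE = e := by rw [D.card_expE, hst, hDQ, he]
  have hd1 : Cfsg.charDegree (D.φ : D.K → ℂ) = 1 := by
    simp [Cfsg.charDegree, h1]
  refine ⟨{χ | E.u χ ≠ 0}, Set.range E.Y, E.eq_union, E.disjoint, E.card_u.trans hee,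
    hee ▸ E.card_range, fun χ => -E.u χ, E.δ, fun χ hχ => ⟨?_, ?_, ?_⟩, E.sign, ?_, ?_, ?_⟩
  · rcases E.u_cases χ with h | h | h
    · exact absurd h hχ
    · exact Or.inr (by simp [h])
    · exact Or.inl (by simp [h])
  · have h := E.charDegree_u hBD hχ
    rw [hr, hd1] at h
    simpa using h
  · intro x hx hx1 y hy hyr
    rw [← hDQ] at hx hy
    obtain ⟨i, rfl⟩ := D.exists_xp_eq hx
    have hi : i ≠ 0 := fun h => hx1 (by rw [h, D.xp_zero])
    have := Fintype.ofFinite (Cfsg.IrrCharacter D.K)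
    have hv := CfsgLib.Block.Cyclic.value_eq_sum D.hQ D.hK (CfsgLib.Char.isClassFunction_irr χ) hx
      ⟨y, (D.hK y).mpr ⟨hy, hyr⟩⟩
    rw [hv, Finset.sum_eq_single D.φ]
    · rw [h1, mul_one]
      show D.dval (χ : G → ℂ) i = _
      rw [E.dval_of_u hχ hi]
      push_cast
      rfl
    · intro φ' _ hne
      rw [hBD.sec_out χ (E.mem_of_u hχ) φ' (fun ho => hne (D.inOrbit_eq h1 ho)) i hi, zero_mul]
    · exact fun h => absurd (Finset.mem_univ _) h
  · rintro θ ⟨k, rfl⟩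
    have h := E.charDegree_Y hBD k
    rw [hr, hd1, hee] at h
    simpa using h
  · rintro θ ⟨k, rfl⟩ θ' ⟨l, rfl⟩ g hg
    exact E.regular_eq k l g hg
  · rintro θ ⟨k, rfl⟩ g hg
    have h := E.relation k hg
    have hneg : ∑ᶠ χ ∈ {χ : Cfsg.IrrCharacter G | E.u χ ≠ 0}, ((-E.u χ : ℤ) : ℂ) * (χ : G → ℂ) g =
        -∑ᶠ χ ∈ {χ : Cfsg.IrrCharacter G | E.u χ ≠ 0}, (E.u χ : ℂ) * (χ : G → ℂ) g := by
      have := Fintype.ofFinite (Cfsg.IrrCharacter G)
      rw [finsum_mem_eq_toFinset_sum, finsum_mem_eq_toFinset_sum, ← Finset.sum_neg_distrib]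
      exact Finset.sum_congr rfl fun χ _ => by push_cast; ring
    rw [hneg]
    linear_combination h

end Cfsg.Agent.S4441
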