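import Cfsg.Statements.S0985
import Mathlib
import Cfsg.Agent.Lib.Perm.Small.Count

set_option autoImplicit false
open Cfsg

namespace Cfsg.Agent.S0985

/-- If the number of Sylow p-subgroups of a finite group is not congruent to 1 modulo p^k, then there are two distinct Sylow p-subgroups P and R such that the index of P ∩ R in P is at most p^(k-1). -/
theorem result {G : Type*} [Group G] [Finite G] (p k : ℕ) [Fact p.Prime] (h : ¬ Nat.card (Sylow p G) ≡ 1 [MOD p ^ k]) : ∃ P R : Sylow p G, P ≠ R ∧ ((R : Subgroup G).subgroupOf (P : Subgroup G)).index ≤ p ^ (k - 1) := by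
  classical
  by_contra hcon
  push_neg at hcon
  apply h
  haveI := Fintype.ofFinite (Sylow p G)
  obtain ⟨P⟩ : Nonempty (Sylow p G) := inferInstance
  let Φ := MulAction.orbitRel.Quotient (P : Subgroup G) (Sylow p G)
  haveI : Fintype Φ := Fintype.ofFinite Φ
  have hcount : Fintype.card (Sylow p G) = ∑ ω : Φ, Nat.card (MulAction.orbitRel.Quotient.orbit ω) := by
    rw [Fintype.card_congr (MulAction.selfEquivSigmaOrbits' (P : Subgroup G) (Sylow p G)), Fintype.card_sigma]
    exact Finset.sum_congr rfl fun ω _ => (Nat.card_eq_fintype_card).symm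
  have hbig : ∀ ω : Φ, ω ≠ Quotient.mk'' P → p ^ k ∣ Nat.card (MulAction.orbitRel.Quotient.orbit ω) := by
    intro ω hω
    induction ω using Quotient.inductionOn' with
    | h R =>
      have hne : P ≠ R := fun hh => hω (congrArg Quotient.mk'' hh.symm)
      rw [MulAction.orbitRel.Quotient.orbit_mk, Nat.card_coe_set_eq, ← MulAction.index_stabilizer]
      have hstab : MulAction.stabilizer (P : Subgroup G) R = (R : Subgroup G).subgroupOf (P : Subgroup G) := by
        ext x
        rw [MulAction.mem_stabilizer_iff, Subgroup.mem_subgroupOf]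
        show (x : G) • R = R ↔ _
        rw [Sylow.smul_eq_iff_mem_normalizer]
        constructor
        · intro hx
          have hmem : (x : G) ∈ (P : Subgroup G) ⊓ Subgroup.normalizer ((R : Subgroup G) : Set G) := ⟨x.2, hx⟩
          exact ((IsPGroup.inf_normalizer_sylow P.isPGroup' R).le hmem).2
        · exact fun hx => Subgroup.le_normalizer hx
      rw [hstab]
      obtain ⟨i, hi⟩ := P.isPGroup'.index ((R : Subgroup G).subgroupOf (P : Subgroup G))
      have hlt := hcon P R hne
      rw [hi] at hlt ⊢
      have : k - 1 < i := (Nat.pow_lt_pow_iff_right (Fact.out : p.Prime).one_lt).1 hlt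
      exact pow_dvd_pow p (by omega)
  have hone : Nat.card (MulAction.orbitRel.Quotient.orbit (Quotient.mk'' P : Φ)) = 1 := by
    rw [MulAction.orbitRel.Quotient.orbit_mk, Nat.card_coe_set_eq, Set.ncard_eq_one]
    refine ⟨P, Set.eq_singleton_iff_unique_mem.2 ⟨MulAction.mem_orbit_self P, ?_⟩⟩
    rintro _ ⟨x, rfl⟩
    exact Sylow.smul_eq_iff_mem_normalizer.2 (Subgroup.le_normalizer x.2)
  rw [Nat.card_eq_fintype_card, hcount, ← Finset.add_sum_erase _ _ (Finset.mem_univ (Quotient.mk'' P : Φ)), hone]
  conv_rhs => rw [show 1 = 1 + 0 from rfl]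
  refine Nat.ModEq.add_left 1 ?_
  rw [Nat.modEq_zero_iff_dvd]
  exact Finset.dvd_sum fun ω hω => hbig ω (Finset.mem_erase.1 hω).1

end Cfsg.Agent.S0985
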