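import Cfsg.Statements.S0991
import Mathlib
import Cfsg.Agent.Lib.Perm.Small.Count

set_option autoImplicit false
open Cfsg

namespace Cfsg.Agent.S0991

/-- Embedding Theorem: if a non-abelian finite simple group has a proper subgroup of index n, then it is isomorphic to a subgroup of the alternating group of degree n. -/
theorem result {G : Type*} [Group G] [Finite G] [IsSimpleGroup G] (hG : ¬ IsMulCommutative G) (H : Subgroup G) (hH : H ≠ ⊤) : ∃ f : G →* ↥(alternatingGroup (Fin H.index)), Function.Injective f := by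
  classical
  haveI : Fintype (G ⧸ H) := Fintype.ofFinite _
  let e : G ⧸ H ≃ Fin H.index := Fintype.equivFinOfCardEq (by rw [← Nat.card_eq_fintype_card]; rfl)
  let f : G →* Equiv.Perm (Fin H.index) := (e.permCongrHom.toMonoidHom).comp (MulAction.toPermHom G (G ⧸ H))
  have hinj : Function.Injective f := by
    refine e.permCongrHom.injective.comp ?_
    rw [← MonoidHom.ker_eq_bot_iff]
    refine (IsSimpleGroup.eq_bot_or_eq_top_of_normal _ inferInstance).resolve_right fun h => hH ?_
    rw [eq_top_iff]
    intro g _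
    have hg := Equiv.Perm.congr_fun (MonoidHom.mem_ker.1 (h ▸ Subgroup.mem_top g :
      g ∈ (MulAction.toPermHom G (G ⧸ H)).ker)) ((1 : G) : G ⧸ H)
    have hg' : ((g * 1 : G) : G ⧸ H) = ((1 : G) : G ⧸ H) := hg
    rw [mul_one, QuotientGroup.eq, mul_one] at hg'
    simpa using inv_mem hg'
  have hmem : ∀ g, f g ∈ alternatingGroup (Fin H.index) := by
    intro g
    rw [Equiv.Perm.mem_alternatingGroup]
    let s := Equiv.Perm.sign.comp f
    rcases IsSimpleGroup.eq_bot_or_eq_top_of_normal s.ker inferInstance with h | h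
    · refine absurd ⟨⟨fun a b => ?_⟩⟩ hG
      exact (MonoidHom.ker_eq_bot_iff s).1 h (by rw [map_mul, map_mul, mul_comm])
    · exact MonoidHom.mem_ker.1 (show g ∈ s.ker from h ▸ Subgroup.mem_top g)
  exact ⟨f.codRestrict _ hmem, fun a b h => hinj (congrArg Subtype.val h)⟩

end Cfsg.Agent.S0991
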