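import Cfsg.Statements.S0073
import Cfsg.Agent.Lib.Fusion.Abelian

set_option autoImplicit false
open Cfsg

namespace Cfsg.Agent.S0073

/-- For a finite non-abelian simple group, either the cube of the least prime divisor of the order divides the order, or 12 does. -/
theorem result {G : Type*} [Group G] [Finite G] [IsSimpleGroup G] (hG : ∃ x y : G, x * y ≠ y * x) : (Nat.card G).minFac ^ 3 ∣ Nat.card G ∨ 12 ∣ Nat.card G := by
  obtain ⟨x, y, hxy⟩ := hG
  haveI : Nontrivial G := ⟨⟨x * y, y * x, hxy⟩⟩
  set p := (Nat.card G).minFac with hpdef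
  have hp : p.Prime := Nat.minFac_prime Finite.one_lt_card.ne'
  haveI := Fact.mk hp
  let P : Sylow p G := default
  obtain ⟨a, ha⟩ := P.2.exists_card_eq
  by_cases h3a : 3 ≤ a
  · exact Or.inl (((pow_dvd_pow p h3a).trans ha.symm.dvd).trans (Subgroup.card_subgroup_dvd_card _))
  by_cases h12 : 12 ∣ Nat.card G
  · exact Or.inr h12
  exfalso
  have hab : IsMulCommutative (P : Subgroup G) := by
    interval_cases a
    · haveI : Subsingleton (P : Subgroup G) := (Nat.card_eq_one_iff_unique.1 (ha.trans (pow_zero p))).1
      exact ⟨⟨fun a b => Subsingleton.elim _ _⟩⟩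
    · haveI : IsCyclic (P : Subgroup G) := isCyclic_of_prime_card (ha.trans (pow_one p))
      exact IsCyclic.commutative
    · exact ⟨⟨IsPGroup.commutative_of_card_eq_prime_sq ha⟩⟩
  have hcomp := CfsgLib.Fusion.hasNormalPComplement_of_abelian_of_not_dvd P hab ha
    (fun q hq hqp hqG i hi1 hi2 hd => by
      have hle : p ≤ q := Nat.minFac_le_of_dvd hq.two_le hqG
      have hlt : p < q := lt_of_le_of_ne hle (Ne.symm hqp)
      have h2 := hp.two_le
      have hi : i = 1 ∨ i = 2 := by omega
      rcases hi with rfl | rfl
      · rw [pow_one] at hd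
        exact absurd (Nat.le_of_dvd (by omega) hd) (by omega)
      · have e : p ^ 2 - 1 = (p + 1) * (p - 1) := by
          simpa using Nat.sq_sub_sq p 1
        rw [e] at hd
        rcases hq.dvd_mul.1 hd with hd' | hd'
        · have hqeq : q = p + 1 := le_antisymm (Nat.le_of_dvd (by omega) hd') hlt
          have hp2 : p = 2 := by
            rcases hp.eq_two_or_odd' with h | h
            · exact h
            · exfalso
              have h5 : q % 2 = 1 := (hq.eq_two_or_odd.resolve_left (by omega))
              obtain ⟨j, hj⟩ := h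
              omega
          have ha2 : a = 2 := by omega
          apply h12
          have h4 : 4 ∣ Nat.card G := by
            have h6 : Nat.card (P : Subgroup G) = 4 := by rw [ha, hp2, ha2]; norm_num
            exact h6 ▸ Subgroup.card_subgroup_dvd_card _
          have hq3 : q = 3 := by omega
          subst hq3
          exact Nat.Coprime.mul_dvd_of_dvd_of_dvd (by norm_num : Nat.Coprime 4 3) h4 hqG
        · exact absurd (Nat.le_of_dvd (by omega) hd') (by omega))
  haveI := CfsgLib.Fusion.pResidual_normal (G := G) (p := p)
  have hnd := CfsgLib.Fusion.hasNormalPComplement_iff_not_dvd.1 hcomp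
  rcases (inferInstance : (Cfsg.pResidual p G).Normal).eq_bot_or_eq_top with hb | ht
  · -- `G` is then a `p`-group, hence abelian
    have hpg : IsPGroup p G := (CfsgLib.Fusion.isPGroup_quotient_pResidual
      (p := p) (⊥ : Subgroup G) hb.le).of_equiv QuotientGroup.quotientBot
    haveI := hpg.center_nontrivial
    rcases (inferInstance : (Subgroup.center G).Normal).eq_bot_or_eq_top with hc | hc
    · exact (Subgroup.nontrivial_iff_ne_bot _).1 inferInstance hc
    · exact hxy (Subgroup.mem_center_iff.1 (hc ▸ Subgroup.mem_top y) x)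
  · rw [ht, Subgroup.card_top] at hnd
    exact hnd (Nat.minFac_dvd _)

end Cfsg.Agent.S0073
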