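import Cfsg.Statements.S0743
import Cfsg.Agent.Lib.Perm.Groups.Transit
-- import your own Cfsg.Agent.* helpers here

set_option autoImplicit false
open Cfsg

namespace Cfsg.Agent.S0743

/-- Gleason's Lemma: let `p` be a prime and `1 ≤ k < n`; if every `k`-subset of the `n` points is exactly the fixed-point set of some `p`-subgroup of `G`, then `G` is `k`-transitive. -/
theorem result {α : Type*} [Fintype α] [DecidableEq α] (G : Subgroup (Equiv.Perm α)) {p k : ℕ} (hp : p.Prime) (hk : 1 ≤ k) (hkn : k < Fintype.card α) (h : ∀ s : Finset α, s.card = k → ∃ P : Subgroup G, IsPGroup p P ∧ MulAction.fixedPoints P α = (s : Set α)) : MulAction.IsMultiplyPretransitive G α k := by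
  classical
  haveI := Fact.mk hp
  have key : ∀ s : Finset α, s.card = k - 1 → ∀ x y : α, x ∉ s → y ∉ s →
      ∃ g : G, (∀ a ∈ s, g • a = a) ∧ g • x = y := by
    intro s hs
    -- the orbit of `x` under the pointwise stabiliser
    have hcount : ∀ x ∉ s, ∀ y ∉ s,
        Nat.card (MulAction.orbit (fixingSubgroup G (s : Set α)) x) ≡
          (if y ∈ MulAction.orbit (fixingSubgroup G (s : Set α)) x then 1 else 0) [MOD p] := by
      intro x hx y hy
      obtain ⟨P, hP, hfix⟩ := h (insert y s) (by rw [Finset.card_insert_of_notMem hy]; omega)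
      have hPle : P ≤ fixingSubgroup G (s : Set α) := fun u hu => by
        rw [mem_fixingSubgroup_iff]
        intro a ha
        have : a ∈ MulAction.fixedPoints P α := by rw [hfix]; exact Finset.mem_insert_of_mem ha
        exact this ⟨u, hu⟩
      let O : Set α := MulAction.orbit (fixingSubgroup G (s : Set α)) x
      let S : SubMulAction P α :=
        { carrier := O
          smul_mem' := fun u z hz => by
            obtain ⟨g, rfl⟩ := hz
            exact ⟨⟨(u : G), hPle u.2⟩ * g, by simp only [mul_smul]; rfl⟩ }
      have h1 := hP.card_modEq_card_fixedPoints S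
      have hSc : Nat.card S = Nat.card O := rfl
      rw [hSc] at h1
      refine h1.trans ?_
      show _ % p = _ % p
      refine congrArg (· % p) ?_
      have hmemfix : ∀ z : S, z ∈ MulAction.fixedPoints P S ↔ (z : α) = y := by
        intro z
        have hz : (z : α) ∈ O := z.2
        have hzs : (z : α) ∉ s := by
          obtain ⟨g, hg⟩ := hz
          intro hmem
          refine hx ?_
          have : ((g : G)⁻¹) • (z : α) = (z : α) :=
            (mem_fixingSubgroup_iff G).1 ((fixingSubgroup G (s : Set α)).inv_mem g.2) _ hmem
          rw [← hg] at this hmem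
          change (g : G)⁻¹ • ((g : G) • x) = (g : G) • x at this
          rw [inv_smul_smul] at this
          exact this ▸ hmem
        constructor
        · intro hzf
          have : (z : α) ∈ MulAction.fixedPoints P α := fun u => congrArg Subtype.val (hzf u)
          rw [hfix, Finset.coe_insert, Set.mem_insert_iff] at this
          exact this.resolve_right hzs
        · intro he u
          refine Subtype.ext ?_
          have : (z : α) ∈ MulAction.fixedPoints P α := by rw [hfix, he]; exact Finset.mem_insert_self _ _
          exact this u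
      split_ifs with hyO
      · rw [Nat.card_eq_one_iff_unique]
        exact ⟨⟨fun u v => Subtype.ext (Subtype.ext (((hmemfix _).1 u.2).trans ((hmemfix _).1 v.2).symm))⟩,
          ⟨⟨⟨y, hyO⟩, (hmemfix _).2 rfl⟩⟩⟩
      · rw [Nat.card_eq_zero]
        exact Or.inl ⟨fun u => hyO (((hmemfix _).1 u.2) ▸ (u : S).2)⟩
    intro x y hx hy
    have h1 := hcount x hx x hx
    rw [if_pos (MulAction.mem_orbit_self x)] at h1
    have h2 := hcount x hx y hy
    by_cases hyO : y ∈ MulAction.orbit (fixingSubgroup G (s : Set α)) x
    · obtain ⟨g, hg⟩ := hyO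
      exact ⟨g, fun a ha => (mem_fixingSubgroup_iff G).1 g.2 a ha, hg⟩
    · rw [if_neg hyO] at h2
      have h3 : (1 : ℕ) % p = 0 % p := h1.symm.trans h2
      rw [Nat.zero_mod, Nat.one_mod_eq_one.2 hp.ne_one] at h3
      exact absurd h3 one_ne_zero
  exact CfsgLib.Perm.Groups.multiplyPretransitive_of_fix_trans k fun s hs x y hx hy =>
    CfsgLib.Perm.Groups.fix_trans_of_card_eq (by omega) key s (by omega) x y hx hy

end Cfsg.Agent.S0743
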