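import Cfsg.Statements.S0736
import Mathlib


set_option autoImplicit false
open Cfsg

namespace Cfsg.Agent.S0736
open scoped Pointwise

/-- A `k`-homogeneous permutation group of degree `n`, `k ≥ 2`, with `k + q - 1 ≤ n` for every prime power `q` dividing `k`, is `(k-1)`-homogeneous. -/
theorem result {α : Type*} [Fintype α] [DecidableEq α] (G : Subgroup (Equiv.Perm α)) {k : ℕ} (hk : 2 ≤ k) (hG : MulAction.IsPretransitive G (Set.powersetCard α k)) (hq : ∀ q : ℕ, IsPrimePow q → q ∣ k → k + q - 1 ≤ Fintype.card α) : MulAction.IsPretransitive G (Set.powersetCard α (k - 1)) := by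
  classical
  have hlucas : ∀ (r : ℕ), r.Prime → ∀ e c : ℕ, ¬ r ∣ Nat.choose (r ^ e * c + r ^ e - 1) (r ^ e * c) := by
    intro r hr e
    haveI := Fact.mk hr
    induction e with
    | zero => intro c; simp; exact hr.one_lt.ne'
    | succ e ih =>
      intro c h
      apply ih c
      obtain ⟨Q, hQ⟩ : ∃ Q, r ^ e = Q + 1 := ⟨r ^ e - 1, (Nat.sub_add_cancel hr.pos.nat_succ_le |> fun _ =>
        (Nat.sub_add_cancel (Nat.one_le_pow _ _ hr.pos)).symm)⟩
      have h1 : r ^ (e + 1) * c + r ^ (e + 1) - 1 = (r - 1) + r * (r ^ e * c + r ^ e - 1) := by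
        rw [pow_succ', hQ, Nat.mul_assoc]
        obtain ⟨R, rfl⟩ : ∃ R, r = R + 1 := ⟨r - 1, by have := hr.pos; omega⟩
        simp only [Nat.add_sub_cancel, ← Nat.add_assoc, Nat.mul_add, mul_one]
        omega
      have h2 : r ^ (e + 1) * c = r * (r ^ e * c) := by rw [pow_succ', mul_assoc]
      rw [h1, h2] at h
      rw [← Nat.modEq_zero_iff_dvd] at h ⊢
      refine Nat.ModEq.trans ?_ h
      refine Nat.ModEq.symm (Choose.choose_modEq_choose_mod_mul_choose_div_nat.trans ?_)
      rw [Nat.add_mul_mod_self_left, Nat.mul_mod_right, Nat.choose_zero_right, one_mul,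
        Nat.add_mul_div_left _ _ hr.pos, Nat.mul_div_cancel_left _ hr.pos,
        Nat.div_eq_of_lt (by have := hr.pos; omega), zero_add]
  refine ⟨fun B₀ B₁ => ?_⟩
  let O : Finset (Finset α) := Finset.univ.filter fun B =>
    ∃ g : G, (g • B₀ : Set.powersetCard α (k - 1)).val = B
  let M : Finset α → ℕ := fun K => (O.filter fun B => B ⊆ K).card
  have hOc : ∀ B ∈ O, B.card = k - 1 := by
    intro B hB
    obtain ⟨g, rfl⟩ := (Finset.mem_filter.1 hB).2
    exact (g • B₀).2
  have hBsub : ∀ (g : G) (B : Finset α), (g • B).card = B.card := fun g B => Finset.card_smul_finset g B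
  have hOinv : ∀ (g : G), ∀ B ∈ O, g • B ∈ O := by
    intro g B hB
    obtain ⟨h, rfl⟩ := (Finset.mem_filter.1 hB).2
    refine Finset.mem_filter.2 ⟨Finset.mem_univ _, g * h, ?_⟩
    rw [mul_smul]
    rfl
  have hconst : ∀ K K' : Finset α, K.card = k → K'.card = k → M K = M K' := by
    intro K K' hK hK'
    obtain ⟨g, hg⟩ := hG.exists_smul_eq ⟨K, hK⟩ ⟨K', hK'⟩
    have hg' : g • K = K' := congrArg Subtype.val hg
    refine Finset.card_bij (fun B _ => g • B) ?_ ?_ ?_
    · intro B hB
      rw [Finset.mem_filter] at hB ⊢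
      exact ⟨hOinv g B hB.1, hg' ▸ Finset.smul_finset_subset_smul_finset hB.2⟩
    · intro B _ B' _ h
      exact smul_left_cancel g h
    · intro B hB
      rw [Finset.mem_filter] at hB
      refine ⟨g⁻¹ • B, ?_, smul_inv_smul g B⟩
      rw [Finset.mem_filter]
      refine ⟨hOinv _ B hB.1, ?_⟩
      rw [show K = g⁻¹ • K' by rw [← hg', inv_smul_smul]]
      exact Finset.smul_finset_subset_smul_finset hB.2
  have hk0 : k ≤ Fintype.card α := by
    obtain ⟨r, hr, hd⟩ := Nat.exists_prime_and_dvd (show k ≠ 1 by omega)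
    have := hq r hr.isPrimePow hd
    have := hr.two_le
    omega
  obtain ⟨K₀, hK₀B, -, hK₀⟩ := Finset.exists_subsuperset_card_eq (s := B₀.val) (t := Finset.univ) (n := k)
    (Finset.subset_univ _) (by have : B₀.val.card = k - 1 := B₀.2; omega) (by rw [Finset.card_univ]; exact hk0)
  have hMk : ∀ K, K.card = k → M K ≤ k := by
    intro K hK
    calc M K ≤ (K.powersetCard (k - 1)).card := Finset.card_le_card fun B hB => by
          rw [Finset.mem_filter] at hB
          exact Finset.mem_powersetCard.2 ⟨hB.2, hOc B hB.1⟩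
      _ = k := by
        rw [Finset.card_powersetCard, hK, show k = (k - 1) + 1 by omega, Nat.add_sub_cancel,
          Nat.choose_succ_self_right]
  have hpos : 0 < M K₀ := Finset.card_pos.2 ⟨B₀.val, Finset.mem_filter.2
    ⟨Finset.mem_filter.2 ⟨Finset.mem_univ _, 1, by rw [one_smul]⟩, hK₀B⟩⟩
  have hdvd : k ∣ M K₀ := by
    rw [Nat.dvd_iff_prime_pow_dvd_dvd]
    intro r e hr hre
    rcases Nat.eq_zero_or_pos e with rfl | he
    · simp
    have hN := hq (r ^ e) (hr.isPrimePow.pow he.ne') hre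
    have hqpos : 0 < r ^ e := pow_pos hr.pos e
    obtain ⟨U, -, hU⟩ := Finset.exists_subset_card_eq (s := (Finset.univ : Finset α)) (n := k + r ^ e - 1)
      (by rw [Finset.card_univ]; exact hN)
    have hcnt : ∑ K ∈ U.powersetCard k, M K = ∑ B ∈ O.filter (fun B => B ⊆ U), r ^ e := by
      have h1 : ∀ K ∈ U.powersetCard k, M K =
          (Finset.bipartiteAbove (fun K B => B ⊆ K) (O.filter fun B => B ⊆ U) K).card := by
        intro K hK
        rw [Finset.mem_powersetCard] at hK
        refine congrArg Finset.card ?_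
        ext B
        simp only [Finset.bipartiteAbove, Finset.mem_filter]
        exact ⟨fun h => ⟨⟨h.1, h.2.trans hK.1⟩, h.2⟩, fun h => ⟨h.1.1, h.2⟩⟩
      rw [Finset.sum_congr rfl h1, Finset.sum_card_bipartiteAbove_eq_sum_card_bipartiteBelow]
      refine Finset.sum_congr rfl fun B hB => ?_
      rw [Finset.mem_filter] at hB
      have hBc := hOc B hB.1
      have h2 : (U \ B).card = r ^ e := by
        rw [Finset.card_sdiff_of_subset hB.2, hU, hBc]
        omega
      rw [← h2]
      symm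
      refine Finset.card_bij (fun x _ => insert x B) ?_ ?_ ?_
      · intro x hx
        rw [Finset.mem_sdiff] at hx
        rw [Finset.bipartiteBelow, Finset.mem_filter, Finset.mem_powersetCard]
        exact ⟨⟨Finset.insert_subset hx.1 hB.2, by rw [Finset.card_insert_of_notMem hx.2, hBc]; omega⟩,
          Finset.subset_insert _ _⟩
      · intro x hx y hy h
        rw [Finset.mem_sdiff] at hx
        exact (Finset.insert_inj hx.2).1 h
      · intro K hK
        rw [Finset.bipartiteBelow, Finset.mem_filter, Finset.mem_powersetCard] at hK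
        obtain ⟨x, hx, hxe⟩ := (Finset.exists_eq_insert_iff.2 ⟨hK.2, by rw [hBc, hK.1.2]; omega⟩ :
          ∃ x ∉ B, insert x B = K)
        exact ⟨x, Finset.mem_sdiff.2 ⟨hK.1.1 (hxe ▸ Finset.mem_insert_self x B), hx⟩, hxe⟩
    rw [Finset.sum_congr rfl (g := fun _ => M K₀) fun K hK =>
      hconst K K₀ (Finset.mem_powersetCard.1 hK).2 hK₀, Finset.sum_const, Finset.sum_const, Finset.card_powersetCard,
      hU, smul_eq_mul, smul_eq_mul] at hcnt
    obtain ⟨c, hc⟩ := hre
    have hnd : ¬ r ∣ Nat.choose (k + r ^ e - 1) k := by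
      rw [hc]
      exact hlucas r hr e c
    exact ((Nat.Coprime.pow_left e (hr.coprime_iff_not_dvd.2 hnd)).dvd_mul_left).1 (hcnt ▸ Dvd.intro_left _ rfl)
  have hall : ∀ K, K.card = k → M K = k := fun K hK => by
    rw [hconst K K₀ hK hK₀]
    exact le_antisymm (hMk K₀ hK₀) (Nat.le_of_dvd hpos hdvd)
  obtain ⟨K₁, hK₁B, -, hK₁⟩ := Finset.exists_subsuperset_card_eq (s := B₁.val) (t := Finset.univ) (n := k)
    (Finset.subset_univ _) (by have : B₁.val.card = k - 1 := B₁.2; omega) (by rw [Finset.card_univ]; exact hk0)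
  have heq : (O.filter fun B => B ⊆ K₁) = K₁.powersetCard (k - 1) := by
    refine Finset.eq_of_subset_of_card_le (fun B hB => ?_) ?_
    · rw [Finset.mem_filter] at hB
      exact Finset.mem_powersetCard.2 ⟨hB.2, hOc B hB.1⟩
    · rw [Finset.card_powersetCard, hK₁, show (O.filter fun B => B ⊆ K₁).card = k from hall K₁ hK₁]
      exact le_of_eq (by rw [show k = (k - 1) + 1 by omega, Nat.add_sub_cancel, Nat.choose_succ_self_right])
  have hmem : B₁.val ∈ (O.filter fun B => B ⊆ K₁) := heq ▸ Finset.mem_powersetCard.2 ⟨hK₁B, B₁.2⟩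
  obtain ⟨g, hg⟩ := (Finset.mem_filter.1 (Finset.mem_filter.1 hmem).1).2
  exact ⟨g, Subtype.ext hg⟩

end Cfsg.Agent.S0736
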