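import Cfsg.Statements.S4444
import Cfsg.Agent.Lib.Block.Glauberman
import Cfsg.Agent.Lib.Block.Local
-- import your own Cfsg.Agent.* helpers here

set_option autoImplicit false
open Cfsg CfsgLib.Block

open Cfsg

namespace Cfsg.Agent.S4444

/-- The Glauberman correspondence for a p-group of operators. Inside a finite group Γ let S normalise G with the orders of G and S coprime, S a p-group, and let C = G ⊓ C(S) be the fixed points. Call an irreducible character χ of G S-invariant when χ(s g s⁻¹) = χ(g) for s ∈ S, g ∈ G. Then: (i) for every S-invariant χ there is exactly one irreducible character β of C whose multiplicity [χ_C, β] in the restriction of χ is not divisible by p; (ii) that multiplicity is ≡ 1 or ≡ −1 (mod p); (iii) distinct S-invariant χ give distinct β; (iv) every irreducible character of C arises in this way. So χ ↦ β is a bijection from the S-invariant irreducible characters of G onto the irreducible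 characters of C. -/
theorem result {Γ : Type*} [Group Γ] [Fintype Γ] (G S : Subgroup Γ) [Fintype G] (hnorm : ∀ s ∈ S, ∀ g ∈ G, s * g * s⁻¹ ∈ G) (hcop : (Nat.card G).Coprime (Nat.card S)) (p : ℕ) (hp : p.Prime) (hS : IsPGroup p S) (C : Subgroup Γ) [Fintype C] (hC : C = G ⊓ Subgroup.centralizer (S : Set Γ)) (hCG : C ≤ G) : (∀ χ : Cfsg.IrrCharacter G, (∀ s ∈ S, ∀ g g' : G, (g' : Γ) = s * g * s⁻¹ → (χ : G → ℂ) g' = (χ : G → ℂ) g) → ∃! β : Cfsg.IrrCharacter C, ∃ m : ℕ, Cfsg.classInner (fun c : C => (χ : G → ℂ) ⟨c, hCG c.2⟩) (β : C → ℂ) = (m : ℂ) ∧ ¬ p ∣ m) ∧ (∀ χ : Cfsg.IrrCharacter G, (∀ s ∈ S, ∀ g g' : G, (g' : Γ) = s * g * s⁻¹ → (χ : G → ℂ) g' = (χ : G → ℂ) g) → ∀ β : Cfsg.IrrCharacter C, ∀ m : ℕ, Cfsg.classInner (fun c : C => (χ : G → ℂ) ⟨c, hCG c.2⟩) (β : C → ℂ) = (m : ℂ) → ¬ p ∣ m → ((m : ℤ) ≡ 1 [ZMOD p] ∨ (m : ℤ) ≡ -1 [ZMOD p])) ∧ (∀ χ χ' : Cfsg.IrrCharacter G, (∀ s ∈ S, ∀ g g' : G, (g' : Γ) = s * g * s⁻¹ →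 (χ : G → ℂ) g' = (χ : G → ℂ) g) → (∀ s ∈ S, ∀ g g' : G, (g' : Γ) = s * g * s⁻¹ → (χ' : G → ℂ) g' = (χ' : G → ℂ) g) → ∀ β : Cfsg.IrrCharacter C, ∀ m m' : ℕ, Cfsg.classInner (fun c : C => (χ : G → ℂ) ⟨c, hCG c.2⟩) (β : C → ℂ) = (m : ℂ) → ¬ p ∣ m → Cfsg.classInner (fun c : C => (χ' : G → ℂ) ⟨c, hCG c.2⟩) (β : C → ℂ) = (m' : ℂ) → ¬ p ∣ m' → χ = χ') ∧ (∀ β : Cfsg.IrrCharacter C, ∃ χ : Cfsg.IrrCharacter G, (∀ s ∈ S, ∀ g g' : G, (g' : Γ) = s * g * s⁻¹ → (χ : G → ℂ) g' = (χ : G → ℂ) g) ∧ ∃ m : ℕ, Cfsg.classInner (fun c : C => (χ : G → ℂ) ⟨c, hCG c.2⟩) (β : C → ℂ) = (m : ℂ) ∧ ¬ p ∣ m) := by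
  classical
  have triv : ¬ p ∣ Nat.card S → C = G := fun h => by
    have hS1 : S = ⊥ := by
      rw [← Subgroup.card_eq_one]
      have := Fact.mk hp
      obtain ⟨n, hn⟩ := IsPGroup.iff_card.mp hS
      rcases Nat.eq_zero_or_pos n with rfl | hn0
      · rw [hn, pow_zero]
      · exact absurd (hn ▸ dvd_pow_self p hn0.ne') h
    subst hS1
    rw [hC, inf_eq_left]
    intro g _
    rw [Subgroup.mem_centralizer_iff]
    intro s hs
    rw [Subgroup.coe_bot, Set.mem_singleton_iff] at hs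
    rw [hs, one_mul, mul_one]
  have hres : ∀ (χ : IrrCharacter G) (β : IrrCharacter C), ∃ m : ℕ,
      classInner (fun c : C => (χ : G → ℂ) ⟨c, hCG c.2⟩) (β : C → ℂ) = (m : ℂ) := fun χ β =>
    CfsgLib.Char.classInner_char_irr_nat (CfsgLib.Char.isCharacter_comp
      (CfsgLib.Char.isCharacter_irr χ) (Subgroup.inclusion hCG)) β
  by_cases hpG : p ∣ Nat.card G
  · obtain rfl : C = G := triv fun h => hp.not_dvd_one (hcop ▸ Nat.dvd_gcd hpG h)
    rename_i iG iC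
    obtain rfl : iG = iC := Subsingleton.elim _ _
    have hin : ∀ (χ β : IrrCharacter C) (m : ℕ),
        classInner (fun c : C => (χ : C → ℂ) ⟨c, hCG c.2⟩) (β : C → ℂ) = (m : ℂ) →
        (χ = β → m = 1) ∧ (χ ≠ β → m = 0) := fun χ β m hm => by
      refine ⟨fun h => ?_, fun h => ?_⟩
      · subst h
        exact Nat.cast_injective (R := ℂ) (hm.symm.trans (CfsgLib.Char.classInner_irr_self χ) |>.trans
          Nat.cast_one.symm)
      · exact Nat.cast_injective (R := ℂ) (hm.symm.trans (CfsgLib.Char.classInner_irr_ne h) |>.trans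
          Nat.cast_zero.symm)
    refine ⟨fun χ _ => ⟨χ, ?_, fun β ⟨m, hm, hpm⟩ => ?_⟩, fun χ _ β m hm hpm => ?_,
      fun χ χ' _ _ β m m' hm hpm hm' hpm' => ?_, fun β => ⟨β, ?_, ?_⟩⟩
    · obtain ⟨m, hm⟩ := hres χ χ
      exact ⟨m, hm, (hin χ χ m hm).1 rfl ▸ hp.not_dvd_one⟩
    · by_contra h
      exact hpm ((hin χ β m hm).2 (Ne.symm h) ▸ dvd_zero p)
    · have h : χ = β := by_contra fun h => hpm ((hin χ β m hm).2 h ▸ dvd_zero p)
      exact Or.inl (by rw [(hin χ β m hm).1 h, Nat.cast_one])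
    · have h : χ = β := by_contra fun h => hpm ((hin χ β m hm).2 h ▸ dvd_zero p)
      have h' : χ' = β := by_contra fun h => hpm' ((hin χ' β m' hm').2 h ▸ dvd_zero p)
      exact h.trans h'.symm
    · intro s hs g g' he
      have : s * (g : Γ) = g * s := by
        have hg : (g : Γ) ∈ C ⊓ Subgroup.centralizer (S : Set Γ) := hC ▸ g.2
        exact Subgroup.mem_centralizer_iff.mp hg.2 s hs
      rw [show g' = g from Subtype.ext (by rw [he, this, mul_inv_cancel_right])]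
    · obtain ⟨m, hm⟩ := hres β β
      exact ⟨m, hm, (hin β β m hm).1 rfl ▸ hp.not_dvd_one⟩
  obtain ⟨M, hM⟩ := exists_pModular hp
  have := hM.2.1
  have := charP_resField hM
  have := Fintype.ofFinite (ConjClasses G)
  have := Fintype.ofFinite (ConjClasses C)
  have hzero : ∀ m : ℕ, (m : ResField M) = 0 ↔ p ∣ m := CharP.cast_eq_zero_iff (ResField M) p
  have key : ∀ (χ : IrrCharacter G), Glauberman.GInv G S (χ : G → ℂ) → ∀ (γ : IrrCharacter C) (m : ℕ),
      classInner (fun c : C => (χ : G → ℂ) ⟨c, hCG c.2⟩) (γ : C → ℂ) = (m : ℂ) →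
      ¬ p ∣ m → omG M γ (eG M ({χ} : Set (IrrCharacter G)) : MonoidAlgebra (ResField M) Γ) = 1 ∧
        ((m : ResField M) = 1 ∨ (m : ResField M) = -1) := fun χ hχ γ m hm hpm => by
    obtain ⟨β, hβ, -⟩ := Glauberman.existsUnique_down hC hM hS hnorm hpG hχ
    have hc := Glauberman.mult_congr hC hM hS hnorm hpG hχ hβ γ hm
    have hγ : γ = β := by_contra fun h => hpm ((hzero m).mp (hc.2 h))
    exact ⟨hγ ▸ hβ, hc.1 hγ⟩
  have nd : ∀ (χ : IrrCharacter G), Glauberman.GInv G S (χ : G → ℂ) → ∀ (β : IrrCharacter C),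
      omG M β (eG M ({χ} : Set (IrrCharacter G)) : MonoidAlgebra (ResField M) Γ) = 1 →
      ∃ m : ℕ, classInner (fun c : C => (χ : G → ℂ) ⟨c, hCG c.2⟩) (β : C → ℂ) = (m : ℂ) ∧ ¬ p ∣ m :=
    fun χ hχ β hβ => by
    obtain ⟨m, hm⟩ := hres χ β
    refine ⟨m, hm, fun h => ?_⟩
    rcases (Glauberman.mult_congr hC hM hS hnorm hpG hχ hβ β hm).1 rfl with h1 | h1 <;>
      rw [(hzero m).mpr h] at h1
    · exact one_ne_zero h1.symm
    · exact neg_ne_zero.mpr one_ne_zero h1.symm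
  refine ⟨fun χ hχ => ?_, fun χ hχ β m hm hpm => ?_, fun χ χ' hχ hχ' β m m' hm hpm hm' hpm' => ?_,
    fun β => ?_⟩
  · obtain ⟨β, hβ, huni⟩ := Glauberman.existsUnique_down hC hM hS hnorm hpG hχ
    exact ⟨β, nd χ hχ β hβ, fun γ ⟨m, hm, hpm⟩ => huni γ (key χ hχ γ m hm hpm).1⟩
  · rcases (key χ hχ β m hm hpm).2 with h | h
    · refine Or.inl ((CharP.intCast_eq_intCast (ResField M) p).mp ?_)
      push_cast; exact h
    · refine Or.inr ((CharP.intCast_eq_intCast (ResField M) p).mp ?_)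
      push_cast; exact h
  · have hb := Glauberman.singleton_isPBlock hM hpG χ
    have hy := Glauberman.good_eG (M := M) hC hnorm hχ
    have h1 := Glauberman.omG_eq_of_eq_one hC hM hS hnorm hpG hχ (key χ hχ β m hm hpm).1 hy
    have h2 := Glauberman.omG_eq_of_eq_one hC hM hS hnorm hpG hχ' (key χ' hχ' β m' hm' hpm').1 hy
    rw [h2, omG_eG hM hb, omG_eG hM hb, if_pos (Set.mem_singleton χ)] at h1
    by_contra hne
    rw [if_neg fun h => hne (Set.mem_singleton_iff.mp h).symm] at h1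
    exact zero_ne_one h1
  · obtain ⟨χ, hχ, h⟩ := Glauberman.exists_up hC hM hS hnorm hpG β
    exact ⟨χ, hχ, nd χ hχ β h⟩

end Cfsg.Agent.S4444
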