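import Cfsg.Statements.S4445
import Cfsg.Agent.S4444
-- import your own Cfsg.Agent.* helpers here

set_option autoImplicit false
open Cfsg CfsgLib.Block

namespace Cfsg.Agent.S4445

universe u

variable {Γ : Type u} [Group Γ] [Fintype Γ]

/-- `θ'` is the conjugate of `θ` by `s`. -/
def Conj' (H : Subgroup Γ) (s : Γ) (θ θ' : H → ℂ) : Prop :=
  ∀ g g' : H, (g' : Γ) = s * g * s⁻¹ → θ' g' = θ g

theorem conj'_iff {H S : Subgroup Γ} (θ : H → ℂ) :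
    Glauberman.GInv H S θ ↔ ∀ s ∈ S, Conj' H s θ θ := Iff.rfl

theorem conj'_mul {H : Subgroup Γ} {a b : Γ} {θ θ' θ'' : H → ℂ} (hb : ∀ g ∈ H, b * g * b⁻¹ ∈ H)
    (h1 : Conj' H b θ θ') (h2 : Conj' H a θ' θ'') : Conj' H (a * b) θ θ'' := fun g g' he => by
  rw [h2 ⟨_, hb g g.2⟩ g' (by rw [he]; group), h1 g ⟨_, hb g g.2⟩ rfl]

/-- The fixed points. -/
abbrev fixed (G T : Subgroup Γ) : Subgroup Γ := G ⊓ Subgroup.centralizer (T : Set Γ)

theorem mem_fixed {G T : Subgroup Γ} {g : Γ} :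
    g ∈ fixed G T ↔ g ∈ G ∧ ∀ t ∈ T, t * g = g * t := by
  rw [fixed, Subgroup.mem_inf, Subgroup.mem_centralizer_iff]; rfl

/-- What is carried along the normal series. -/
def Step (G S T : Subgroup Γ) : Prop :=
  (∃ f : {χ : IrrCharacter G // Glauberman.GInv G T (χ : G → ℂ)} → IrrCharacter (fixed G T),
    Function.Bijective f ∧ ∀ s ∈ S, ∀ χ χ', Conj' G s (χ.1 : G → ℂ) (χ'.1 : G → ℂ) →
      Conj' (fixed G T) s (f χ : fixed G T → ℂ) (f χ' : fixed G T → ℂ)) ∧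
  (∀ g ∈ G, (∀ t ∈ T, ∃ x ∈ G, x * g * x⁻¹ = t * g * t⁻¹) →
    ∃ c ∈ fixed G T, ∃ x ∈ G, x * g * x⁻¹ = c) ∧
  ∀ c ∈ fixed G T, ∀ d ∈ fixed G T, (∃ x ∈ G, x * c * x⁻¹ = d) → ∃ x ∈ fixed G T, x * c * x⁻¹ = d

theorem fixed_conj {G S T : Subgroup Γ} (hnorm : ∀ s ∈ S, ∀ g ∈ G, s * g * s⁻¹ ∈ G)
    (hT : ∀ s ∈ S, ∀ t ∈ T, s * t * s⁻¹ ∈ T) :
    ∀ s ∈ S, ∀ g ∈ fixed G T, s * g * s⁻¹ ∈ fixed G T := fun s hs g hg => by
  refine mem_fixed.mpr ⟨hnorm s hs g (mem_fixed.mp hg).1, fun t ht => ?_⟩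
  have h := (mem_fixed.mp hg).2 _ (hT s⁻¹ (inv_mem hs) t ht)
  calc t * (s * g * s⁻¹) = s * ((s⁻¹ * t * s⁻¹⁻¹) * g) * s⁻¹ := by group
    _ = _ := by rw [h]; group

theorem step_bot (G S : Subgroup Γ) : Step G S ⊥ := by
  have hle : G ≤ fixed G ⊥ := fun g hg => mem_fixed.mpr ⟨hg, fun t ht => by
    rw [Subgroup.mem_bot.mp ht, one_mul, mul_one]⟩
  let e : G ≃* fixed G ⊥ :=
    { toFun := fun g => ⟨g, hle g.2⟩
      invFun := fun c => ⟨c, (mem_fixed.mp c.2).1⟩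
      left_inv := fun _ => rfl
      right_inv := fun _ => rfl
      map_mul' := fun _ _ => rfl }
  refine ⟨⟨fun χ => irrEquiv e χ.1, ⟨fun χ χ' h => Subtype.ext ((irrEquiv e).injective h),
    fun β => ⟨⟨(irrEquiv e).symm β, fun s hs g g' he => ?_⟩, (irrEquiv e).apply_symm_apply β⟩⟩,
    fun s _ χ χ' h g g' he => h (e.symm g) (e.symm g') he⟩,
    fun g hg _ => ⟨g, hle hg, 1, one_mem _, by group⟩,
    fun c _ d _ ⟨x, hx, h⟩ => ⟨x, hle hx, h⟩⟩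
  rw [Subgroup.mem_bot.mp hs, one_mul, inv_one, mul_one] at he
  rw [Subtype.ext he]

theorem exists_series {S T : Subgroup Γ} (hTS : T ≤ S) (hsolv : Group.IsSolvable S)
    (hT : ∀ s ∈ S, ∀ t ∈ T, s * t * s⁻¹ ∈ T) (hne : T ≠ ⊥) :
    ∃ p : ℕ, p.Prime ∧ p ∣ Nat.card T ∧ ∃ T₀ P : Subgroup Γ, T₀ < T ∧ P ≤ T ∧ IsPGroup p P ∧
      (∀ s ∈ S, ∀ t ∈ T₀, s * t * s⁻¹ ∈ T₀) ∧ ∀ t ∈ T, ∃ a ∈ T₀, ∃ b ∈ P, a * b = t := by
  classical
  have : Group.IsSolvable T := Group.isSolvable_of_isSolvable_injective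
    (Subgroup.inclusion_injective hTS)
  have : Nontrivial T := (Subgroup.nontrivial_iff_ne_bot T).mpr hne
  have hlt : commutator T < ⊤ := Group.IsSolvable.commutator_lt_top_of_nontrivial T
  have hn1 : Nat.card (Abelianization T) ≠ 1 := fun h =>
    hlt.ne (Subgroup.index_eq_one.mp (by rw [Subgroup.index_eq_card]; exact h))
  obtain ⟨p, hp, hpd⟩ := Nat.exists_prime_and_dvd hn1
  have := Fact.mk hp
  obtain ⟨k, m, hm, hkm⟩ := Nat.exists_eq_pow_mul_and_not_dvd (n := Nat.card (Abelianization T))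
    Nat.card_pos.ne' p hp.ne_one
  let N : Subgroup T := ((powMonoidHom m).comp Abelianization.of).ker
  have hN : ∀ x : T, x ∈ N ↔ x ^ m ∈ commutator T := fun x => by
    show (Abelianization.of x) ^ m = 1 ↔ x ^ m ∈ commutator T
    rw [← map_pow, ← MonoidHom.mem_ker, Abelianization.ker_of]
  have hNtop : N ≠ ⊤ := fun h => by
    obtain ⟨y, hy⟩ := exists_prime_orderOf_dvd_card' p hpd
    obtain ⟨x, rfl⟩ := QuotientGroup.mk_surjective y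
    have hx : x ∈ N := h ▸ Subgroup.mem_top x
    exact hm (hy ▸ orderOf_dvd_of_pow_eq_one hx)
  have hNp : ∃ j, N.index = p ^ j := by
    rw [Subgroup.index_ker]
    refine IsPGroup.iff_card.mp fun y => ⟨k, ?_⟩
    obtain ⟨x, hx⟩ := y.2
    refine Subtype.ext ?_
    rw [Subgroup.coe_pow, ← hx]
    show ((Abelianization.of x) ^ m) ^ p ^ k = 1
    rw [← pow_mul, mul_comm, ← hkm, pow_card_eq_one']
  obtain ⟨Q⟩ : Nonempty (Sylow p T) := inferInstance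
  have hsup : N ⊔ (Q : Subgroup T) = ⊤ := by
    rw [← Subgroup.index_eq_one]
    obtain ⟨j, hj⟩ := hNp
    obtain ⟨i, -, hi⟩ := (Nat.dvd_prime_pow hp).mp (hj ▸ Subgroup.index_dvd_of_le
      (le_sup_left : N ≤ N ⊔ (Q : Subgroup T)))
    rcases Nat.eq_zero_or_pos i with rfl | hi0
    · rw [hi, pow_zero]
    · exact absurd ((dvd_pow_self p hi0.ne').trans (hi ▸ Subgroup.index_dvd_of_le
        (le_sup_right : (Q : Subgroup T) ≤ N ⊔ (Q : Subgroup T)))) Q.not_dvd_index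
  refine ⟨p, hp, hpd.trans (Subgroup.card_quotient_dvd_card _), N.map T.subtype,
    (Q : Subgroup T).map T.subtype, ?_, Subgroup.map_subtype_le _, Q.2.map T.subtype, ?_, ?_⟩
  · refine lt_of_le_of_ne (Subgroup.map_subtype_le _) fun h => hNtop ?_
    refine Subgroup.map_injective T.subtype_injective ?_
    rw [h, ← MonoidHom.range_eq_map, Subgroup.range_subtype]
  · rintro s hs _ ⟨x, hx, rfl⟩
    let φ : T ≃* T := cjHom (n := s) (K := T) (K' := T) fun g =>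
      ⟨hT s hs g, fun h => by simpa [mul_assoc] using hT s⁻¹ (inv_mem hs) _ h⟩
    refine ⟨φ x, ?_, rfl⟩
    have hc : (commutator T).comap φ.toMonoidHom = commutator T :=
      Subgroup.characteristic_iff_comap_eq.mp inferInstance φ
    show φ x ∈ N
    rw [hN, ← map_pow]
    have hxm := (hN x).mp hx
    rw [← hc] at hxm
    exact hxm
  · intro t ht
    obtain ⟨a, ha, b, hb, hab⟩ := Subgroup.mem_sup_of_normal_left.mp
      (hsup ▸ Subgroup.mem_top (⟨t, ht⟩ : T))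
    exact ⟨a, ⟨a, ha, rfl⟩, b, ⟨b, hb, rfl⟩, congrArg Subtype.val hab⟩

theorem card_isConj_dvd {A : Type u} [Group A] (c : A) :
    Nat.card {d : A // IsConj c d} ∣ Nat.card A := by
  have e : {d : A // IsConj c d} ≃ MulAction.orbit (ConjAct A) c :=
    Equiv.subtypeEquivRight fun d => by rw [ConjAct.mem_orbit_conjAct]; exact isConj_comm
  rw [Nat.card_congr e, Nat.card_congr (MulAction.orbitEquivQuotientStabilizer (ConjAct A) c)]
  exact Subgroup.card_quotient_dvd_card _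

theorem step {G S T T₀ P : Subgroup Γ} {p : ℕ} (hp : p.Prime) (hP : IsPGroup p P)
    (hnorm : ∀ s ∈ S, ∀ g ∈ G, s * g * s⁻¹ ∈ G) (hTS : T ≤ S) (hT₀T : T₀ ≤ T) (hPT : P ≤ T)
    (hT₀ : ∀ s ∈ S, ∀ t ∈ T₀, s * t * s⁻¹ ∈ T₀) (hT : ∀ s ∈ S, ∀ t ∈ T, s * t * s⁻¹ ∈ T)
    (hdec : ∀ t ∈ T, ∃ a ∈ T₀, ∃ b ∈ P, a * b = t) (hpG : ¬ p ∣ Nat.card G)
    (ih : Step G S T₀) : Step G S T := by
  classical
  have := Fact.mk hp
  set C0 := fixed G T₀ with hC0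
  set C1 := fixed G T with hC1
  obtain ⟨⟨f, hf, hfe⟩, hQa, hQb⟩ := ih
  have hC10 : C1 ≤ C0 := fun g hg =>
    mem_fixed.mpr ⟨(mem_fixed.mp hg).1, fun t ht => (mem_fixed.mp hg).2 t (hT₀T ht)⟩
  have hC0n : ∀ b ∈ P, ∀ g ∈ C0, b * g * b⁻¹ ∈ C0 := fun b hb =>
    fixed_conj hnorm hT₀ b (hTS (hPT hb))
  have heq : C1 = C0 ⊓ Subgroup.centralizer (P : Set Γ) := by
    refine le_antisymm (le_inf hC10 fun g hg => Subgroup.mem_centralizer_iff.mpr fun b hb =>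
      (mem_fixed.mp hg).2 b (hPT hb)) fun g ⟨hg0, hgP⟩ => ?_
    refine mem_fixed.mpr ⟨(mem_fixed.mp hg0).1, fun t ht => ?_⟩
    obtain ⟨a, ha, b, hb, rfl⟩ := hdec t ht
    rw [mul_assoc, Subgroup.mem_centralizer_iff.mp hgP b hb, ← mul_assoc,
      (mem_fixed.mp hg0).2 a ha, mul_assoc]
  have hpC0 : ¬ p ∣ Nat.card C0 := fun h => hpG (h.trans (Subgroup.card_dvd_of_le inf_le_left))
  have hcop : (Nat.card C0).Coprime (Nat.card P) := by
    obtain ⟨n, hn⟩ := IsPGroup.iff_card.mp hP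
    rw [hn]
    exact Nat.Coprime.pow_right n ((hp.coprime_iff_not_dvd.mpr hpC0).symm)
  obtain ⟨g1, g2, g3, g4⟩ := Cfsg.Agent.S4444.result C0 P hC0n hcop p hp hP C1 heq hC10
  let R : IrrCharacter C0 → IrrCharacter C1 → Prop := fun θ β => ∃ m : ℕ,
    classInner (fun c : C1 => (θ : C0 → ℂ) ⟨c, hC10 c.2⟩) (β : C1 → ℂ) = (m : ℂ) ∧ ¬ p ∣ m
  -- conjugates of characters
  have hconjG : ∀ s ∈ S, ∀ χ : IrrCharacter G, ∃ χ' : IrrCharacter G, Conj' G s (χ : G → ℂ) χ' := by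
    intro s hs χ
    refine ⟨irrEquiv (cjHom (n := s) (K := G) (K' := G) fun g =>
      ⟨hnorm s hs g, fun h => by simpa [mul_assoc] using hnorm s⁻¹ (inv_mem hs) _ h⟩) χ, fun g g' he => ?_⟩
    rw [irrEquiv_apply]
    exact congrArg _ (Subtype.ext (by simp [cjHom, he, mul_assoc]))
  have hdown : ∀ χ : {χ : IrrCharacter G // Glauberman.GInv G T (χ : G → ℂ)},
      Glauberman.GInv C0 P (f ⟨χ.1, fun t ht => χ.2 t (hT₀T ht)⟩ : C0 → ℂ) := fun χ b hb =>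
    hfe b (hTS (hPT hb)) ⟨χ.1, fun t ht => χ.2 t (hT₀T ht)⟩ ⟨χ.1, fun t ht => χ.2 t (hT₀T ht)⟩ (χ.2 b (hPT hb))
  have hup : ∀ χ : {χ : IrrCharacter G // Glauberman.GInv G T₀ (χ : G → ℂ)},
      Glauberman.GInv C0 P (f χ : C0 → ℂ) → Glauberman.GInv G T (χ.1 : G → ℂ) := by
    intro χ hχ t ht
    obtain ⟨a, ha, b, hb, rfl⟩ := hdec t ht
    refine conj'_mul (hnorm b (hTS (hPT hb))) ?_ (χ.2 a ha)
    obtain ⟨χ', hχ'⟩ := hconjG b (hTS (hPT hb)) χ.1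
    have hinv : Glauberman.GInv G T₀ (χ' : G → ℂ) := fun u hu g g' he => by
      have hbS := hTS (hPT hb)
      have hg0 : b⁻¹ * (g : Γ) * b ∈ G := by simpa using hnorm b⁻¹ (inv_mem hbS) g g.2
      have hg1 : b⁻¹ * (g' : Γ) * b ∈ G := by simpa using hnorm b⁻¹ (inv_mem hbS) g' g'.2
      rw [hχ' ⟨_, hg1⟩ g' (by group), hχ' ⟨_, hg0⟩ g (by group)]
      refine χ.2 (b⁻¹ * u * b⁻¹⁻¹) (hT₀ b⁻¹ (inv_mem hbS) u hu) _ _ ?_
      show b⁻¹ * (g' : Γ) * b = _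
      rw [he]; group
    have hsame : f ⟨χ', hinv⟩ = f χ := Subtype.ext (funext fun c => by
      have hc0 : b⁻¹ * (c : Γ) * b ∈ C0 := by simpa using hC0n b⁻¹ (inv_mem hb) c c.2
      rw [hfe b (hTS (hPT hb)) χ ⟨χ', hinv⟩ hχ' ⟨_, hc0⟩ c (by group)]
      exact (hχ b hb ⟨_, hc0⟩ c (by group)).symm)
    have h := congrArg Subtype.val (hf.1 hsame)
    rwa [show χ' = χ.1 from h] at hχ'
  let F : {χ : IrrCharacter G // Glauberman.GInv G T (χ : G → ℂ)} → IrrCharacter C1 := fun χ =>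
    (g1 _ (hdown χ)).choose
  have hF : ∀ χ, R (f ⟨χ.1, fun t ht => χ.2 t (hT₀T ht)⟩) (F χ) := fun χ =>
    (g1 _ (hdown χ)).choose_spec.1
  have hFu : ∀ χ β, R (f ⟨χ.1, fun t ht => χ.2 t (hT₀T ht)⟩) β → β = F χ := fun χ β h =>
    (g1 _ (hdown χ)).choose_spec.2 β h
  refine ⟨⟨F, ⟨fun χ χ' h => ?_, fun β => ?_⟩, fun s hs χ χ' h => ?_⟩, fun g hg hginv => ?_,
    fun c hc d hd hcd => ?_⟩
  · obtain ⟨m, hm, hpm⟩ := hF χ
    obtain ⟨m', hm', hpm'⟩ := hF χ'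
    rw [← h] at hm'
    have h1 := congrArg Subtype.val (hf.1 (g3 _ _ (hdown χ) (hdown χ') (F χ) m m' hm hpm hm' hpm'))
    exact Subtype.ext h1
  · obtain ⟨θ, hθ, hR⟩ := g4 β
    obtain ⟨χ, rfl⟩ := hf.2 θ
    exact ⟨⟨χ.1, hup χ hθ⟩, (hFu ⟨χ.1, hup χ hθ⟩ β hR).symm⟩
  · -- the conjugate of the correspondent is the correspondent of the conjugate
    have h0 := hfe s hs ⟨χ.1, fun t ht => χ.2 t (hT₀T ht)⟩ ⟨χ'.1, fun t ht => χ'.2 t (hT₀T ht)⟩ h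
    let φ : C1 ≃* C1 := cjHom (n := s) (K := C1) (K' := C1) fun g =>
      ⟨fixed_conj hnorm hT s hs g,
        fun h => by
          have := fixed_conj hnorm hT s⁻¹ (inv_mem hs) _ h
          rwa [show s⁻¹ * (s * g * s⁻¹) * s⁻¹⁻¹ = g by group] at this⟩
    have hR' : R (f ⟨χ'.1, fun t ht => χ'.2 t (hT₀T ht)⟩) (irrEquiv φ (F χ)) := by
      obtain ⟨m, hm, hpm⟩ := hF χ
      refine ⟨m, ?_, hpm⟩
      rw [← hm, classInner, classInner]
      refine congrArg _ (Fintype.sum_equiv φ _ _ fun c => ?_).symm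
      show _ = (f ⟨χ'.1, fun t ht => χ'.2 t (hT₀T ht)⟩ : C0 → ℂ) ⟨(φ c : Γ), hC10 (φ c).2⟩ *
        (starRingEnd ℂ) ((F χ : C1 → ℂ) (φ.symm (φ c)))
      rw [MulEquiv.symm_apply_apply]
      have hv : (f ⟨χ'.1, fun t ht => χ'.2 t (hT₀T ht)⟩ : C0 → ℂ) ⟨(φ c : Γ), hC10 (φ c).2⟩ =
          (f ⟨χ.1, fun t ht => χ.2 t (hT₀T ht)⟩ : C0 → ℂ) ⟨c, hC10 c.2⟩ := h0 _ _ rfl
      rw [hv]
    intro g g' he
    rw [← hFu χ' _ hR', irrEquiv_apply]
    exact congrArg _ (Subtype.ext (show s⁻¹ * (g' : Γ) * s = g by rw [he]; group))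
  · obtain ⟨c, hc, x, hx, hxc⟩ := hQa g hg fun t ht => hginv t (hT₀T ht)
    let c0 : C0 := ⟨c, hc⟩
    have hPconj : ∀ (b : Γ) (hb : b ∈ P) (d : C0), IsConj c0 d → IsConj c0 ⟨b * d * b⁻¹, hC0n b hb d d.2⟩ := by
      intro b hb d hd
      obtain ⟨y, hy⟩ := isConj_iff.mp hd
      have hy' : (y : Γ) * c * (y : Γ)⁻¹ = d := congrArg Subtype.val hy
      obtain ⟨z, hz, hzg⟩ := hginv b (hPT hb)
      have hbS := hTS (hPT hb)
      have key : ∃ w ∈ G, w * c * w⁻¹ = b * d * b⁻¹ := by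
        refine ⟨b * ((y : Γ) * x) * b⁻¹ * z * x⁻¹, ?_, ?_⟩
        · exact mul_mem (mul_mem (hnorm b hbS _ (mul_mem (mem_fixed.mp y.2).1 hx)) hz) (inv_mem hx)
        · calc b * ((y : Γ) * x) * b⁻¹ * z * x⁻¹ * c * (b * ((y : Γ) * x) * b⁻¹ * z * x⁻¹)⁻¹
              = b * ((y : Γ) * x) * b⁻¹ * (z * (x⁻¹ * c * x) * z⁻¹) * b * ((y : Γ) * x)⁻¹ * b⁻¹ := by
                group
            _ = b * ((y : Γ) * x) * b⁻¹ * (z * g * z⁻¹) * b * ((y : Γ) * x)⁻¹ * b⁻¹ := by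
                rw [← hxc]; group
            _ = b * ((y : Γ) * (x * g * x⁻¹) * (y : Γ)⁻¹) * b⁻¹ := by rw [hzg]; group
            _ = _ := by rw [hxc, hy']
      obtain ⟨w, hw, hwc⟩ := hQb c hc _ (hC0n b hb d d.2) key
      exact isConj_iff.mpr ⟨⟨w, hw⟩, Subtype.ext hwc⟩
    let act : MulAction P {d : C0 // IsConj c0 d} :=
      { smul := fun b d => ⟨⟨b * d.1 * (b : Γ)⁻¹, hC0n b b.2 d.1 d.1.2⟩, hPconj b b.2 d.1 d.2⟩
        one_smul := fun d => Subtype.ext (Subtype.ext (by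
          show ((1 : P) : Γ) * d.1 * ((1 : P) : Γ)⁻¹ = d.1
          simp))
        mul_smul := fun a b d => Subtype.ext (Subtype.ext (by
          show ((a * b : P) : Γ) * d.1 * ((a * b : P) : Γ)⁻¹ =
            (a : Γ) * ((b : Γ) * d.1 * (b : Γ)⁻¹) * (a : Γ)⁻¹
          rw [Subgroup.coe_mul]; group)) }
    obtain ⟨d, hd⟩ := hP.nonempty_fixed_point_of_prime_not_dvd_card {d : C0 // IsConj c0 d}
      fun h => hpC0 (h.trans (card_isConj_dvd c0))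
    obtain ⟨y, hy⟩ := isConj_iff.mp d.2
    refine ⟨(d.1 : Γ), heq.symm.le ⟨d.1.2, Subgroup.mem_centralizer_iff.mpr fun b hb => ?_⟩,
      (y : Γ) * x, mul_mem (mem_fixed.mp y.2).1 hx, ?_⟩
    · have h : b * (d.1 : Γ) * b⁻¹ = d.1 := congrArg (fun z : {d : C0 // IsConj c0 d} => (z.1 : Γ))
        (hd ⟨b, hb⟩)
      exact mul_inv_eq_iff_eq_mul.mp h
    · calc (y : Γ) * x * g * ((y : Γ) * x)⁻¹ = (y : Γ) * (x * g * x⁻¹) * (y : Γ)⁻¹ := by group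
        _ = _ := by rw [hxc]; exact congrArg Subtype.val hy
  · obtain ⟨y, hy, hyc⟩ := hQb c (hC10 hc) d (hC10 hd) hcd
    have := Fintype.ofFinite (ConjClasses C0)
    have := Fintype.ofFinite (ConjClasses C1)
    have h := Glauberman.isConj_of_isConj (G := C0) (S := P) (C := C1) (p := p) heq hP hC0n hpC0
      (c := ⟨c, hc⟩) (d := ⟨d, hd⟩) ⟨y, hy, hyc⟩
    obtain ⟨w, hw⟩ := isConj_iff.mp h
    exact ⟨w, w.2, congrArg Subtype.val hw⟩

theorem step_all {G S : Subgroup Γ} (hnorm : ∀ s ∈ S, ∀ g ∈ G, s * g * s⁻¹ ∈ G)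
    (hcop : (Nat.card G).Coprime (Nat.card S)) (hsolv : Group.IsSolvable S) (n : ℕ) :
    ∀ T : Subgroup Γ, Nat.card T = n → T ≤ S → (∀ s ∈ S, ∀ t ∈ T, s * t * s⁻¹ ∈ T) → Step G S T := by
  induction n using Nat.strong_induction_on with
  | _ n ih =>
    intro T hn hTS hT
    rcases eq_or_ne T ⊥ with rfl | hne
    · exact step_bot G S
    obtain ⟨p, hp, hpT, T₀, P, hlt, hPT, hP, hT₀, hdec⟩ := exists_series hTS hsolv hT hne
    refine step hp hP hnorm hTS hlt.le hPT hT₀ hT hdec (fun h => ?_)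
      (ih _ (hn ▸ Set.Finite.card_lt_card (Set.toFinite _) (SetLike.coe_ssubset_coe.mpr hlt)) T₀ rfl
        (hlt.le.trans hTS) hT₀)
    exact hp.not_dvd_one (hcop ▸ Nat.dvd_gcd h (hpT.trans (Subgroup.card_dvd_of_le hTS)))

/-- Inside a finite group Γ let the solvable subgroup S normalise G with the orders of G and S coprime. Then the number of S-invariant irreducible characters of G (χ(s g s⁻¹) = χ(g) for all s ∈ S, g ∈ G) equals the number of conjugacy classes of G mapped to themselves by conjugation by every element of S. -/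
theorem result {Γ : Type*} [Group Γ] [Fintype Γ] (G S : Subgroup Γ) [Fintype G] (hnorm : ∀ s ∈ S, ∀ g ∈ G, s * g * s⁻¹ ∈ G) (hcop : (Nat.card G).Coprime (Nat.card S)) (hsolv : Group.IsSolvable S) : Nat.card {χ : Cfsg.IrrCharacter G // (∀ s ∈ S, ∀ g g' : G, (g' : Γ) = s * g * s⁻¹ → (χ : G → ℂ) g' = (χ : G → ℂ) g)} = Nat.card {K : ConjClasses G // ∀ s ∈ S, ∀ g g' : G, (g' : Γ) = s * g * s⁻¹ → ConjClasses.mk g = K → ConjClasses.mk g' = K} := by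
  classical
  obtain ⟨⟨f, hf, -⟩, hQa, hQb⟩ := step_all hnorm hcop hsolv (Nat.card S) S rfl le_rfl
    fun s hs t ht => mul_mem (mul_mem hs ht) (inv_mem hs)
  refine Eq.trans (Nat.card_congr (Equiv.ofBijective f hf))
    (CfsgLib.Char.card_irr_eq_card_conjClasses.trans ?_)
  let ι : fixed G S →* G := Subgroup.inclusion inf_le_left
  refine Nat.card_congr (Equiv.ofBijective
    (fun K => ⟨ConjClasses.map ι K, ?_⟩) ⟨fun K L h => ?_, fun ⟨K, hK⟩ => ?_⟩)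
  · obtain ⟨c, rfl⟩ := ConjClasses.mk_surjective K
    intro s hs g g' he hg
    change ConjClasses.mk g = ConjClasses.mk (ι c) at hg
    change ConjClasses.mk g' = ConjClasses.mk (ι c)
    obtain ⟨x, hx⟩ := isConj_iff.mp (ConjClasses.mk_eq_mk_iff_isConj.mp hg)
    have hx' : (x : Γ) * g * (x : Γ)⁻¹ = c := congrArg Subtype.val hx
    have hsc : s * (c : Γ) * s⁻¹ = c := by
      rw [mul_inv_eq_iff_eq_mul]; exact (mem_fixed.mp c.2).2 s hs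
    refine ConjClasses.mk_eq_mk_iff_isConj.mpr (isConj_iff.mpr
      ⟨⟨s * x * s⁻¹, hnorm s hs x x.2⟩, Subtype.ext ?_⟩)
    show s * (x : Γ) * s⁻¹ * g' * (s * (x : Γ) * s⁻¹)⁻¹ = c
    calc _ = s * ((x : Γ) * g * (x : Γ)⁻¹) * s⁻¹ := by rw [he]; group
      _ = _ := by rw [hx', hsc]
  · obtain ⟨c, rfl⟩ := ConjClasses.mk_surjective K
    obtain ⟨d, rfl⟩ := ConjClasses.mk_surjective L
    have h' : ConjClasses.mk (ι c) = ConjClasses.mk (ι d) := congrArg Subtype.val h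
    obtain ⟨x, hx⟩ := isConj_iff.mp (ConjClasses.mk_eq_mk_iff_isConj.mp h')
    obtain ⟨w, hw, hwc⟩ := hQb c c.2 d d.2 ⟨x, x.2, congrArg Subtype.val hx⟩
    exact ConjClasses.mk_eq_mk_iff_isConj.mpr (isConj_iff.mpr ⟨⟨w, hw⟩, Subtype.ext hwc⟩)
  · obtain ⟨g, rfl⟩ := ConjClasses.mk_surjective K
    obtain ⟨c, hc, x, hx, hxc⟩ := hQa g g.2 fun t ht => by
      obtain ⟨y, hy⟩ := isConj_iff.mp (ConjClasses.mk_eq_mk_iff_isConj.mp
        (hK t ht g ⟨_, hnorm t ht g g.2⟩ rfl rfl).symm)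
      exact ⟨y, y.2, congrArg Subtype.val hy⟩
    exact ⟨ConjClasses.mk ⟨c, hc⟩, Subtype.ext (ConjClasses.mk_eq_mk_iff_isConj.mpr
      (isConj_iff.mpr ⟨⟨x, hx⟩, Subtype.ext hxc⟩)).symm⟩

end Cfsg.Agent.S4445
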