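import Cfsg.Statements.S4449
import Cfsg.Agent.S4445
import Cfsg.Agent.Lib.Char.DegreeRatio
-- import your own Cfsg.Agent.* helpers here

set_option autoImplicit false
open Cfsg CfsgLib.Block Cfsg.Agent.S4445

namespace Cfsg.Agent.S4449

universe u

variable {Γ : Type u} [Group Γ] [Fintype Γ]

open scoped Classical in
/-- One step of the correspondence, with the congruence linking it to the previous one. -/
theorem lift_step {G S T T₀ P : Subgroup Γ} {p : ℕ} (hp : p.Prime) (hP : IsPGroup p P)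
    (hnorm : ∀ s ∈ S, ∀ g ∈ G, s * g * s⁻¹ ∈ G) (hTS : T ≤ S) (hT₀T : T₀ ≤ T) (hPT : P ≤ T)
    (hT₀ : ∀ s ∈ S, ∀ t ∈ T₀, s * t * s⁻¹ ∈ T₀) (hT : ∀ s ∈ S, ∀ t ∈ T, s * t * s⁻¹ ∈ T)
    (hdec : ∀ t ∈ T, ∃ a ∈ T₀, ∃ b ∈ P, a * b = t) (hpG : ¬ p ∣ Nat.card G)
    (hle : fixed G T ≤ fixed G T₀)
    (f : {χ : IrrCharacter G // Glauberman.GInv G T₀ (χ : G → ℂ)} → IrrCharacter (fixed G T₀))
    (hf : Function.Bijective f)
    (hfe : ∀ s ∈ S, ∀ χ χ', Conj' G s (χ.1 : G → ℂ) (χ'.1 : G → ℂ) →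
      Conj' (fixed G T₀) s (f χ : fixed G T₀ → ℂ) (f χ' : fixed G T₀ → ℂ)) :
    ∃ F : {χ : IrrCharacter G // Glauberman.GInv G T (χ : G → ℂ)} → IrrCharacter (fixed G T),
      Function.Bijective F ∧ (∀ s ∈ S, ∀ χ χ', Conj' G s (χ.1 : G → ℂ) (χ'.1 : G → ℂ) →
        Conj' (fixed G T) s (F χ : fixed G T → ℂ) (F χ' : fixed G T → ℂ)) ∧
      ∀ χ : {χ : IrrCharacter G // Glauberman.GInv G T (χ : G → ℂ)},
        Glauberman.GInv (fixed G T₀) P
          (f ⟨χ.1, fun t ht => χ.2 t (hT₀T ht)⟩ : fixed G T₀ → ℂ) ∧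
        ∃ m : ℕ, classInner (fun c : fixed G T =>
          (f ⟨χ.1, fun t ht => χ.2 t (hT₀T ht)⟩ : fixed G T₀ → ℂ) ⟨c, hle c.2⟩)
          (F χ : fixed G T → ℂ) = (m : ℂ) ∧ ¬ p ∣ m := by
  classical
  have := Fact.mk hp
  have hC10 : (fixed G T) ≤ (fixed G T₀) := fun g hg =>
    mem_fixed.mpr ⟨(mem_fixed.mp hg).1, fun t ht => (mem_fixed.mp hg).2 t (hT₀T ht)⟩
  have hC0n : ∀ b ∈ P, ∀ g ∈ (fixed G T₀), b * g * b⁻¹ ∈ (fixed G T₀) := fun b hb =>
    fixed_conj hnorm hT₀ b (hTS (hPT hb))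
  have heq : (fixed G T) = (fixed G T₀) ⊓ Subgroup.centralizer (P : Set Γ) := by
    refine le_antisymm (le_inf hC10 fun g hg => Subgroup.mem_centralizer_iff.mpr fun b hb =>
      (mem_fixed.mp hg).2 b (hPT hb)) fun g ⟨hg0, hgP⟩ => ?_
    refine mem_fixed.mpr ⟨(mem_fixed.mp hg0).1, fun t ht => ?_⟩
    obtain ⟨a, ha, b, hb, rfl⟩ := hdec t ht
    rw [mul_assoc, Subgroup.mem_centralizer_iff.mp hgP b hb, ← mul_assoc,
      (mem_fixed.mp hg0).2 a ha, mul_assoc]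
  have hpC0 : ¬ p ∣ Nat.card (fixed G T₀) := fun h => hpG (h.trans (Subgroup.card_dvd_of_le inf_le_left))
  have hcop : (Nat.card (fixed G T₀)).Coprime (Nat.card P) := by
    obtain ⟨n, hn⟩ := IsPGroup.iff_card.mp hP
    rw [hn]
    exact Nat.Coprime.pow_right n ((hp.coprime_iff_not_dvd.mpr hpC0).symm)
  obtain ⟨g1, g2, g3, g4⟩ := Cfsg.Agent.S4444.result (fixed G T₀) P hC0n hcop p hp hP (fixed G T) heq hC10
  let R : IrrCharacter (fixed G T₀) → IrrCharacter (fixed G T) → Prop := fun θ β => ∃ m : ℕ,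
    classInner (fun c : (fixed G T) => (θ : (fixed G T₀) → ℂ) ⟨c, hC10 c.2⟩) (β : (fixed G T) → ℂ) = (m : ℂ) ∧ ¬ p ∣ m
  -- conjugates of characters
  have hconjG : ∀ s ∈ S, ∀ χ : IrrCharacter G, ∃ χ' : IrrCharacter G, Conj' G s (χ : G → ℂ) χ' := by
    intro s hs χ
    refine ⟨irrEquiv (cjHom (n := s) (K := G) (K' := G) fun g =>
      ⟨hnorm s hs g, fun h => by simpa [mul_assoc] using hnorm s⁻¹ (inv_mem hs) _ h⟩) χ, fun g g' he => ?_⟩
    rw [irrEquiv_apply]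
    exact congrArg _ (Subtype.ext (by simp [cjHom, he, mul_assoc]))
  have hdown : ∀ χ : {χ : IrrCharacter G // Glauberman.GInv G T (χ : G → ℂ)},
      Glauberman.GInv (fixed G T₀) P (f ⟨χ.1, fun t ht => χ.2 t (hT₀T ht)⟩ : (fixed G T₀) → ℂ) := fun χ b hb =>
    hfe b (hTS (hPT hb)) ⟨χ.1, fun t ht => χ.2 t (hT₀T ht)⟩ ⟨χ.1, fun t ht => χ.2 t (hT₀T ht)⟩ (χ.2 b (hPT hb))
  have hup : ∀ χ : {χ : IrrCharacter G // Glauberman.GInv G T₀ (χ : G → ℂ)},
      Glauberman.GInv (fixed G T₀) P (f χ : (fixed G T₀) → ℂ) → Glauberman.GInv G T (χ.1 : G → ℂ) := by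
    intro χ hχ t ht
    obtain ⟨a, ha, b, hb, rfl⟩ := hdec t ht
    refine conj'_mul (hnorm b (hTS (hPT hb))) ?_ (χ.2 a ha)
    obtain ⟨χ', hχ'⟩ := hconjG b (hTS (hPT hb)) χ.1
    have hinv : Glauberman.GInv G T₀ (χ' : G → ℂ) := fun u hu g g' he => by
      have hbS := hTS (hPT hb)
      have hg0 : b⁻¹ * (g : Γ) * b ∈ G := by simpa using hnorm b⁻¹ (inv_mem hbS) g g.2
      have hg1 : b⁻¹ * (g' : Γ) * b ∈ G := by simpa using hnorm b⁻¹ (inv_mem hbS) g' g'.2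
      rw [hχ' ⟨_, hg1⟩ g' (by group), hχ' ⟨_, hg0⟩ g (by group)]
      refine χ.2 (b⁻¹ * u * b⁻¹⁻¹) (hT₀ b⁻¹ (inv_mem hbS) u hu) _ _ ?_
      show b⁻¹ * (g' : Γ) * b = _
      rw [he]; group
    have hsame : f ⟨χ', hinv⟩ = f χ := Subtype.ext (funext fun c => by
      have hc0 : b⁻¹ * (c : Γ) * b ∈ (fixed G T₀) := by simpa using hC0n b⁻¹ (inv_mem hb) c c.2
      rw [hfe b (hTS (hPT hb)) χ ⟨χ', hinv⟩ hχ' ⟨_, hc0⟩ c (by group)]
      exact (hχ b hb ⟨_, hc0⟩ c (by group)).symm)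
    have h := congrArg Subtype.val (hf.1 hsame)
    rwa [show χ' = χ.1 from h] at hχ'
  let F : {χ : IrrCharacter G // Glauberman.GInv G T (χ : G → ℂ)} → IrrCharacter (fixed G T) := fun χ =>
    (g1 _ (hdown χ)).choose
  have hF : ∀ χ, R (f ⟨χ.1, fun t ht => χ.2 t (hT₀T ht)⟩) (F χ) := fun χ =>
    (g1 _ (hdown χ)).choose_spec.1
  have hFu : ∀ χ β, R (f ⟨χ.1, fun t ht => χ.2 t (hT₀T ht)⟩) β → β = F χ := fun χ β h =>
    (g1 _ (hdown χ)).choose_spec.2 β h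
  refine ⟨F, ⟨fun χ χ' h => ?_, fun β => ?_⟩, fun s hs χ χ' h => ?_, fun χ =>
    ⟨hdown χ, hF χ⟩⟩
  · obtain ⟨m, hm, hpm⟩ := hF χ
    obtain ⟨m', hm', hpm'⟩ := hF χ'
    rw [← h] at hm'
    have h1 := congrArg Subtype.val (hf.1 (g3 _ _ (hdown χ) (hdown χ') (F χ) m m' hm hpm hm' hpm'))
    exact Subtype.ext h1
  · obtain ⟨θ, hθ, hR⟩ := g4 β
    obtain ⟨χ, rfl⟩ := hf.2 θ
    exact ⟨⟨χ.1, hup χ hθ⟩, (hFu ⟨χ.1, hup χ hθ⟩ β hR).symm⟩
  · -- the conjugate of the correspondent is the correspondent of the conjugate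
    have h0 := hfe s hs ⟨χ.1, fun t ht => χ.2 t (hT₀T ht)⟩ ⟨χ'.1, fun t ht => χ'.2 t (hT₀T ht)⟩ h
    let φ : (fixed G T) ≃* (fixed G T) := cjHom (n := s) (K := (fixed G T)) (K' := (fixed G T)) fun g =>
      ⟨fixed_conj hnorm hT s hs g,
        fun h => by
          have := fixed_conj hnorm hT s⁻¹ (inv_mem hs) _ h
          rwa [show s⁻¹ * (s * g * s⁻¹) * s⁻¹⁻¹ = g by group] at this⟩
    have hR' : R (f ⟨χ'.1, fun t ht => χ'.2 t (hT₀T ht)⟩) (irrEquiv φ (F χ)) := by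
      obtain ⟨m, hm, hpm⟩ := hF χ
      refine ⟨m, ?_, hpm⟩
      rw [← hm, classInner, classInner]
      refine congrArg _ (Fintype.sum_equiv φ _ _ fun c => ?_).symm
      show _ = (f ⟨χ'.1, fun t ht => χ'.2 t (hT₀T ht)⟩ : (fixed G T₀) → ℂ) ⟨(φ c : Γ), hC10 (φ c).2⟩ *
        (starRingEnd ℂ) ((F χ : (fixed G T) → ℂ) (φ.symm (φ c)))
      rw [MulEquiv.symm_apply_apply]
      have hv : (f ⟨χ'.1, fun t ht => χ'.2 t (hT₀T ht)⟩ : (fixed G T₀) → ℂ) ⟨(φ c : Γ), hC10 (φ c).2⟩ =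
          (f ⟨χ.1, fun t ht => χ.2 t (hT₀T ht)⟩ : (fixed G T₀) → ℂ) ⟨c, hC10 c.2⟩ := h0 _ _ rfl
      rw [hv]
    intro g g' he
    rw [← hFu χ' _ hR', irrEquiv_apply]
    exact congrArg _ (Subtype.ext (show s⁻¹ * (g' : Γ) * s = g by rw [he]; group))

/-- Compatibility of one step with a normal subgroup. -/
theorem compat_step {p : ℕ} (hp : p.Prime) {G N P C D : Subgroup Γ} (hP : IsPGroup p P)
    (hG : ∀ b ∈ P, ∀ g ∈ G, b * g * b⁻¹ ∈ G) (hN : ∀ b ∈ P, ∀ g ∈ N, b * g * b⁻¹ ∈ N)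
    (hNG : N ≤ G) (hnor : ∀ g ∈ G, ∀ n ∈ N, g * n * g⁻¹ ∈ N) (hpG : ¬ p ∣ Nat.card G)
    (hC : C = G ⊓ Subgroup.centralizer (P : Set Γ)) (hD : D = N ⊓ Subgroup.centralizer (P : Set Γ))
    (hCG : C ≤ G) (hDN : D ≤ N) (hDC : D ≤ C) [Fintype G] [Fintype N] [Fintype C] [Fintype D]
    {χ : IrrCharacter G} {θ : IrrCharacter N} {γ : IrrCharacter C} {α : IrrCharacter D}
    (hχ : Glauberman.GInv G P (χ : G → ℂ)) (hθ : Glauberman.GInv N P (θ : N → ℂ))
    (hγ : ∃ m : ℕ, classInner (fun c : C => (χ : G → ℂ) ⟨c, hCG c.2⟩) (γ : C → ℂ) = (m : ℂ) ∧ ¬ p ∣ m)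
    (hα : ∃ m : ℕ, classInner (fun c : D => (θ : N → ℂ) ⟨c, hDN c.2⟩) (α : D → ℂ) = (m : ℂ) ∧ ¬ p ∣ m)
    (h : classInner (fun c : D => (γ : C → ℂ) ⟨c, hDC c.2⟩) (α : D → ℂ) ≠ 0) :
    classInner (fun n : N => (χ : G → ℂ) ⟨n, hNG n.2⟩) (θ : N → ℂ) ≠ 0 := by
  classical
  have := Fact.mk hp
  have := Fintype.ofFinite (IrrCharacter N)
  have := Fintype.ofFinite (IrrCharacter C)
  have hpN : ¬ p ∣ Nat.card N := fun h => hpG (h.trans (Subgroup.card_dvd_of_le hNG))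
  have hpC : ¬ p ∣ Nat.card C := fun h => hpG (h.trans (Subgroup.card_dvd_of_le hCG))
  have hcop : ∀ H : Subgroup Γ, ¬ p ∣ Nat.card H → (Nat.card H).Coprime (Nat.card P) := fun H hH => by
    obtain ⟨n, hn⟩ := IsPGroup.iff_card.mp hP
    rw [hn]
    exact Nat.Coprime.pow_right n ((hp.coprime_iff_not_dvd.mpr hH).symm)
  obtain ⟨g1, -, -, -⟩ := Cfsg.Agent.S4444.result G P hG (hcop G hpG) p hp hP C hC hCG
  obtain ⟨k1, -, k3, -⟩ := Cfsg.Agent.S4444.result N P hN (hcop N hpN) p hp hP D hD hDN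
  have hres : ∀ {A B : Subgroup Γ} [Fintype A] [Fintype B] (hle : B ≤ A) (ξ : IrrCharacter A) (η : IrrCharacter B),
      ∃ m : ℕ, classInner (fun c : B => (ξ : A → ℂ) ⟨c, hle c.2⟩) (η : B → ℂ) = (m : ℂ) :=
    fun hle ξ η => CfsgLib.Char.classInner_char_irr_nat (CfsgLib.Char.isCharacter_comp
      (CfsgLib.Char.isCharacter_irr ξ) (Subgroup.inclusion hle)) η
  choose a ha using fun η : IrrCharacter N => hres hNG χ η
  choose b hb using fun η : IrrCharacter N => hres hDN η α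
  choose m hm using fun δ : IrrCharacter C => hres hCG χ δ
  choose e he using fun δ : IrrCharacter C => hres hDC δ α
  -- the two ways of decomposing
  have hsum : ∀ {A B : Subgroup Γ} [Fintype A] [Fintype B] [Fintype (IrrCharacter A)] (hBA : B ≤ A)
      (hAG : A ≤ G) (x : IrrCharacter A → ℕ) (y : IrrCharacter A → ℕ) (ζ : IrrCharacter B),
      (∀ η : IrrCharacter A, classInner (fun c : A => (χ : G → ℂ) ⟨c, hAG c.2⟩) (η : A → ℂ) = (x η : ℂ)) →
      (∀ η : IrrCharacter A, classInner (fun c : B => (η : A → ℂ) ⟨c, hBA c.2⟩) (ζ : B → ℂ) = (y η : ℂ)) →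
      classInner (fun c : B => (χ : G → ℂ) ⟨c, hAG (hBA c.2)⟩) (ζ : B → ℂ) = ((∑ η, x η * y η : ℕ) : ℂ) := by
    intro A B _ _ _ hBA hAG x y ζ hx hy
    have hexp : (fun c : B => (χ : G → ℂ) ⟨c, hAG (hBA c.2)⟩) =
        ∑ η : IrrCharacter A, (x η : ℂ) • fun c : B => (η : A → ℂ) ⟨c, hBA c.2⟩ := funext fun c => by
      have := congrFun (CfsgLib.Char.classFun_expand (CfsgLib.Char.isClassFunction_of_isCharacter
        (CfsgLib.Char.isCharacter_comp (CfsgLib.Char.isCharacter_irr χ) (Subgroup.inclusion hAG)))) ⟨c, hBA c.2⟩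
      rw [Finset.sum_apply] at this ⊢
      refine this.trans (Finset.sum_congr rfl fun η _ => ?_)
      rw [Pi.smul_apply, Pi.smul_apply, ← hx]
      rfl
    rw [hexp, CfsgLib.Char.classInner_sum_left, Nat.cast_sum]
    exact Finset.sum_congr rfl fun η _ => by
      rw [CfsgLib.Char.classInner_smul_left, Nat.cast_mul, hy]
  have hX : ∑ η, a η * b η = ∑ δ, m δ * e δ := Nat.cast_injective (R := ℂ)
    ((hsum hDN hNG a b α ha hb).symm.trans (hsum hDC hCG m e α hm he))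
  -- the right hand side
  obtain ⟨mγ, hmγ, hpmγ⟩ := hγ
  have heγ : ¬ p ∣ e γ := by
    have hnorD : (D.subgroupOf C).Normal := ⟨fun x hx g => by
      have hx' := hx
      rw [Subgroup.mem_subgroupOf, hD] at hx' ⊢
      refine ⟨hnor g (hCG g.2) x hx'.1, ?_⟩
      have hg : (g : Γ) ∈ Subgroup.centralizer (P : Set Γ) := (hC.le g.2).2
      exact (Subgroup.centralizer (P : Set Γ)).mul_mem ((Subgroup.centralizer (P : Set Γ)).mul_mem hg hx'.2) ((Subgroup.centralizer (P : Set Γ)).inv_mem hg)⟩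
    have := Fintype.ofFinite (D.subgroupOf C)
    let ι : D.subgroupOf C ≃* D := Subgroup.subgroupOfEquivOfLe hDC
    have hcon : classInner (fun c : D.subgroupOf C => (γ : C → ℂ) c) (irrEquiv ι.symm α : D.subgroupOf C → ℂ) =
        (e γ : ℂ) := by
      rw [← he γ]
      simp only [classInner, Nat.card_congr ι.toEquiv]
      exact congrArg _ (Fintype.sum_equiv ι.toEquiv _ _ fun k => rfl)
    have hne : (e γ : ℂ) ≠ 0 := by rw [← he γ]; exact h
    obtain ⟨hc, -⟩ := charDegree_eq γ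
    obtain ⟨hd, hd0⟩ := charDegree_eq (irrEquiv ι.symm α)
    have hcl := CfsgLib.Char.clifford_degree (D.subgroupOf C) γ.2 (irrEquiv ι.symm α).2 (hcon ▸ hne)
    obtain ⟨hdvd, hidx⟩ := CfsgLib.Char.ratio_dvd_index (D.subgroupOf C) γ.2 (irrEquiv ι.symm α).2
      (hcon ▸ hne) hc hd
    rw [hcon, hc, hd] at hcl
    have hcl' : charDegree (γ : C → ℂ) = e γ *
        (CfsgLib.Char.inertia (D.subgroupOf C) (irrEquiv ι.symm α : D.subgroupOf C → ℂ)).index *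
        charDegree (irrEquiv ι.symm α : D.subgroupOf C → ℂ) := by exact_mod_cast hcl
    rw [hcl', Nat.mul_div_cancel _ (Nat.pos_of_ne_zero hd0)] at hidx
    exact fun h => hpC ((h.trans (Dvd.intro _ rfl)).trans (hidx.trans (Subgroup.index_dvd_card _)))
  have hR : ((∑ δ, m δ * e δ : ℕ) : ZMod p) ≠ 0 := by
    rw [Nat.cast_sum, Finset.sum_eq_single γ (fun δ _ hne => ?_) (by simp), Nat.cast_mul]
    · have : m γ = mγ := Nat.cast_injective (R := ℂ) ((hm γ).symm.trans hmγ)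
      rw [this, mul_ne_zero_iff, Ne, Ne, ZMod.natCast_eq_zero_iff, ZMod.natCast_eq_zero_iff]
      exact ⟨hpmγ, heγ⟩
    · have : p ∣ m δ := by
        by_contra hpd
        exact hne ((g1 χ hχ).unique ⟨m δ, hm δ, hpd⟩ ⟨mγ, hmγ, hpmγ⟩)
      rw [(ZMod.natCast_eq_zero_iff _ _).mpr (this.mul_right _)]
  -- the left hand side
  rw [← hX, Nat.cast_sum] at hR
  let act : MulAction P (IrrCharacter N) :=
    { smul := fun s η => irrEquiv (cjHom (n := (s : Γ)) (K := N) (K' := N) fun g =>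
        ⟨hN s s.2 g, fun h => by simpa [mul_assoc] using hN _ (inv_mem s.2) _ h⟩) η
      one_smul := fun η => Subtype.ext (funext fun n => by
        show (η : N → ℂ) _ = _
        exact congrArg _ (Subtype.ext (by simp [cjHom])))
      mul_smul := fun s t η => Subtype.ext (funext fun n => by
        show (η : N → ℂ) _ = (η : N → ℂ) _
        exact congrArg _ (Subtype.ext (by simp [cjHom, mul_assoc]))) }
  have hinv : ∀ (s : P) (η : IrrCharacter N), a (s • η) = a η ∧ b (s • η) = b η := by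
    intro s η
    let c : N ≃* N := cjHom (n := (s : Γ)) (K := N) (K' := N) fun g =>
        ⟨hN s s.2 g, fun h => by simpa [mul_assoc] using hN _ (inv_mem s.2) _ h⟩
    constructor
    · refine Nat.cast_injective (R := ℂ) ?_
      rw [← ha, ← ha]
      show classInner _ (irrEquiv c η : N → ℂ) = _
      simp only [classInner]
      refine congrArg _ (Fintype.sum_equiv c.symm.toEquiv _ _ fun k => ?_)
      rw [irrEquiv_apply]
      refine congrArg (· * _) ?_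
      refine hχ s s.2 _ _ ?_
      show (k : Γ) = (s : Γ) * ((s : Γ)⁻¹ * k * s) * (s : Γ)⁻¹
      group
    · refine Nat.cast_injective (R := ℂ) ?_
      rw [← hb, ← hb]
      show classInner (fun x : D => (irrEquiv c η : N → ℂ) ⟨x, hDN x.2⟩) _ = _
      simp only [classInner]
      refine congrArg _ (Finset.sum_congr rfl fun x _ => ?_)
      rw [irrEquiv_apply]
      refine congrArg (fun z => (η : N → ℂ) z * _) (Subtype.ext ?_)
      show (s : Γ)⁻¹ * x * s = x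
      have hx : (x : Γ) ∈ Subgroup.centralizer (P : Set Γ) := (hD.le x.2).2
      rw [mul_assoc, ← Subgroup.mem_centralizer_iff.mp hx s s.2, inv_mul_cancel_left]
  rw [sum_eq_sum_fixedPoints hP (fun η => ((a η * b η : ℕ) : ZMod p))
    (fun s η => by rw [(hinv s η).1, (hinv s η).2])] at hR
  obtain ⟨η, hη, hne⟩ := Finset.exists_ne_zero_of_sum_ne_zero hR
  rw [Nat.cast_mul, mul_ne_zero_iff, Ne, Ne, ZMod.natCast_eq_zero_iff, ZMod.natCast_eq_zero_iff] at hne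
  have hηinv : Glauberman.GInv N P (η : N → ℂ) := fun s hs g g' he => by
    have h := congrFun (congrArg Subtype.val ((Finset.mem_filter.mp hη).2 ⟨s, hs⟩)) g'
    rw [← h]
    show (η : N → ℂ) _ = _
    exact congrArg _ (Subtype.ext (by simp [cjHom, he, mul_assoc]))
  obtain ⟨mα, hmα, hpmα⟩ := hα
  have hηθ : η = θ := k3 η θ hηinv hθ α (b η) mα (hb η) hne.2 hmα hpmα
  rw [← hηθ, ha η]
  exact Nat.cast_ne_zero.mpr fun h => hne.1 (h ▸ dvd_zero p)

open scoped Classical in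
/-- The correspondences for a group and a normal subgroup, compatible. -/
def Pair2 (G N S T : Subgroup Γ) : Prop :=
  ∃ (hle : fixed N T ≤ fixed G T) (hNG : N ≤ G)
    (f : {χ : IrrCharacter G // Glauberman.GInv G T (χ : G → ℂ)} → IrrCharacter (fixed G T))
    (k : {θ : IrrCharacter N // Glauberman.GInv N T (θ : N → ℂ)} → IrrCharacter (fixed N T)),
    Function.Bijective f ∧ Function.Bijective k ∧
    (∀ s ∈ S, ∀ χ χ', Conj' G s (χ.1 : G → ℂ) (χ'.1 : G → ℂ) →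
      Conj' (fixed G T) s (f χ : fixed G T → ℂ) (f χ' : fixed G T → ℂ)) ∧
    (∀ s ∈ S, ∀ θ θ', Conj' N s (θ.1 : N → ℂ) (θ'.1 : N → ℂ) →
      Conj' (fixed N T) s (k θ : fixed N T → ℂ) (k θ' : fixed N T → ℂ)) ∧
    ∀ χ θ, classInner (fun c : fixed N T => (f χ : fixed G T → ℂ) ⟨c, hle c.2⟩)
        (k θ : fixed N T → ℂ) ≠ 0 →
      classInner (fun n : N => (χ.1 : G → ℂ) ⟨n, hNG n.2⟩) (θ.1 : N → ℂ) ≠ 0

theorem pair_bot {G N : Subgroup Γ} (hNG : N ≤ G) (S : Subgroup Γ) : Pair2 G N S ⊥ := by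
  classical
  have hle : ∀ H : Subgroup Γ, H ≤ fixed H ⊥ := fun H g hg => mem_fixed.mpr ⟨hg, fun t ht => by
    rw [Subgroup.mem_bot.mp ht, one_mul, mul_one]⟩
  let e : ∀ H : Subgroup Γ, H ≃* fixed H ⊥ := fun H =>
    { toFun := fun g => ⟨g, hle H g.2⟩
      invFun := fun c => ⟨c, (mem_fixed.mp c.2).1⟩
      left_inv := fun _ => rfl
      right_inv := fun _ => rfl
      map_mul' := fun _ _ => rfl }
  have hbij : ∀ H : Subgroup Γ, Function.Bijective
      (fun χ : {χ : IrrCharacter H // Glauberman.GInv H ⊥ (χ : H → ℂ)} => irrEquiv (e H) χ.1) := fun H =>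
    ⟨fun χ χ' h => Subtype.ext ((irrEquiv (e H)).injective h),
      fun β => ⟨⟨(irrEquiv (e H)).symm β, fun s hs g g' he => by
        rw [Subgroup.mem_bot.mp hs, one_mul, inv_one, mul_one] at he
        rw [Subtype.ext he]⟩, (irrEquiv (e H)).apply_symm_apply β⟩⟩
  refine ⟨fun x hx => mem_fixed.mpr ⟨hNG (mem_fixed.mp hx).1, (mem_fixed.mp hx).2⟩, hNG, _, _,
    hbij G, hbij N, fun s _ χ χ' h g g' he => h ((e G).symm g) ((e G).symm g') he,
    fun s _ χ χ' h g g' he => h ((e N).symm g) ((e N).symm g') he, fun χ θ h => ?_⟩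
  intro h0
  refine h (Eq.trans ?_ h0)
  simp only [classInner]
  rw [Nat.card_congr (e N).symm.toEquiv]
  exact congrArg _ (Fintype.sum_equiv (e N).symm.toEquiv _ _ fun k => rfl)

theorem pair_all {G N S : Subgroup Γ} (hnorm : ∀ s ∈ S, ∀ g ∈ G, s * g * s⁻¹ ∈ G)
    (hNS : ∀ s ∈ S, ∀ g ∈ N, s * g * s⁻¹ ∈ N) (hNG : N ≤ G)
    (hnor : ∀ g ∈ G, ∀ n ∈ N, g * n * g⁻¹ ∈ N)
    (hcop : (Nat.card G).Coprime (Nat.card S)) (hsolv : Group.IsSolvable S) (n : ℕ) :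
    ∀ T : Subgroup Γ, Nat.card T = n → T ≤ S → (∀ s ∈ S, ∀ t ∈ T, s * t * s⁻¹ ∈ T) → Pair2 G N S T := by
  induction n using Nat.strong_induction_on with
  | _ n ih =>
    intro T hn hTS hT
    classical
    rcases eq_or_ne T ⊥ with rfl | hne
    · exact pair_bot hNG S
    obtain ⟨p, hp, hpT, T₀, P, hlt, hPT, hP, hT₀, hdec⟩ := exists_series hTS hsolv hT hne
    have hpG : ¬ p ∣ Nat.card G := fun h =>
      hp.not_dvd_one (hcop ▸ Nat.dvd_gcd h (hpT.trans (Subgroup.card_dvd_of_le hTS)))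
    have hpN : ¬ p ∣ Nat.card N := fun h => hpG (h.trans (Subgroup.card_dvd_of_le hNG))
    obtain ⟨hle0, _, f, k, hf, hk, hfe, hke, hcompat⟩ :=
      ih _ (hn ▸ Set.Finite.card_lt_card (Set.toFinite _) (SetLike.coe_ssubset_coe.mpr hlt)) T₀ rfl
        (hlt.le.trans hTS) hT₀
    have hdown : ∀ H : Subgroup Γ, fixed H T ≤ fixed H T₀ := fun H g hg =>
      mem_fixed.mpr ⟨(mem_fixed.mp hg).1, fun t ht => (mem_fixed.mp hg).2 t (hlt.le ht)⟩
    obtain ⟨F, hF, hFe, hFm⟩ := lift_step hp hP hnorm hTS hlt.le hPT hT₀ hT hdec hpG (hdown G) f hf hfe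
    obtain ⟨K, hK, hKe, hKm⟩ := lift_step hp hP hNS hTS hlt.le hPT hT₀ hT hdec hpN (hdown N) k hk hke
    have hfix : ∀ H : Subgroup Γ, fixed H T = fixed H T₀ ⊓ Subgroup.centralizer (P : Set Γ) := fun H => by
      refine le_antisymm (le_inf (hdown H) fun g hg => Subgroup.mem_centralizer_iff.mpr fun b hb =>
        (mem_fixed.mp hg).2 b (hPT hb)) fun g ⟨hg0, hgP⟩ => ?_
      refine mem_fixed.mpr ⟨(mem_fixed.mp hg0).1, fun t ht => ?_⟩
      obtain ⟨a, ha, b, hb, rfl⟩ := hdec t ht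
      rw [mul_assoc, Subgroup.mem_centralizer_iff.mp hgP b hb, ← mul_assoc,
        (mem_fixed.mp hg0).2 a ha, mul_assoc]
    have hleT : fixed N T ≤ fixed G T :=
      fun x hx => mem_fixed.mpr ⟨hNG (mem_fixed.mp hx).1, (mem_fixed.mp hx).2⟩
    refine ⟨hleT, hNG, F, K, hF, hK, hFe, hKe, fun χ θ h => ?_⟩
    refine hcompat ⟨χ.1, fun t ht => χ.2 t (hlt.le ht)⟩ ⟨θ.1, fun t ht => θ.2 t (hlt.le ht)⟩ ?_
    obtain ⟨hfP, m, hm, hpm⟩ := hFm χ
    obtain ⟨hkP, m', hm', hpm'⟩ := hKm θ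
    refine compat_step (γ := F χ) (α := K θ) hp hP (fun b hb => fixed_conj hnorm hT₀ b (hTS (hPT hb)))
      (fun b hb => fixed_conj hNS hT₀ b (hTS (hPT hb))) hle0 (fun g hg x hx => ?_)
      (fun h' => hpG (h'.trans (Subgroup.card_dvd_of_le inf_le_left))) (hfix G) (hfix N) (hdown G)
      (hdown N) hleT hfP hkP ?_ ?_ ?_
    · refine mem_fixed.mpr ⟨hnor g (mem_fixed.mp hg).1 x (mem_fixed.mp hx).1, fun t ht => ?_⟩
      have h1 := (mem_fixed.mp hg).2 t ht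
      have h2 := (mem_fixed.mp hx).2 t ht
      rw [← mul_assoc, ← mul_assoc, h1, mul_assoc g t x, h2, ← mul_assoc, mul_assoc _ g⁻¹ t,
        show g⁻¹ * t = t * g⁻¹ from (Commute.inv_right (show Commute t g from h1)).symm.eq, ← mul_assoc]
    · exact ⟨m, hm, hpm⟩
    · exact ⟨m', hm', hpm'⟩
    · exact h

/-- Inside a finite group Γ let the solvable subgroup S normalise G with the orders of G and S coprime, and let N be a normal subgroup of G normalised by S. Then for every S-invariant irreducible character ϑ of N, the induced character ϑ^G has an S-invariant irreducible constituent. -/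
theorem result {Γ : Type*} [Group Γ] [Fintype Γ] (G S N : Subgroup Γ) [Fintype G] [Fintype N] (hnorm : ∀ s ∈ S, ∀ g ∈ G, s * g * s⁻¹ ∈ G) (hNG : N ≤ G) (hNnormal : ∀ g ∈ G, ∀ n ∈ N, g * n * g⁻¹ ∈ N) (hNS : ∀ s ∈ S, ∀ n ∈ N, s * n * s⁻¹ ∈ N) (hcop : (Nat.card G).Coprime (Nat.card S)) (hsolv : Group.IsSolvable S) (θ : Cfsg.IrrCharacter N) (hinv : (∀ s ∈ S, ∀ g g' : N, (g' : Γ) = s * g * s⁻¹ → (θ : N → ℂ) g' = (θ : N → ℂ) g)) : ∃ χ : Cfsg.IrrCharacter G, Cfsg.classInner (fun n : N => (χ : G → ℂ) ⟨n, hNG n.2⟩) (θ : N → ℂ) ≠ 0 ∧ (∀ s ∈ S, ∀ g g' : G, (g' : Γ) = s * g * s⁻¹ → (χ : G → ℂ) g' = (χ : G → ℂ) g) := by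
  classical
  obtain ⟨hle, _, f, k, hf, hk, -, -, hcompat⟩ := pair_all hnorm hNS hNG hNnormal hcop hsolv (Nat.card S) S rfl
    le_rfl fun s hs t ht => mul_mem (mul_mem hs ht) (inv_mem hs)
  set α := k ⟨θ, hinv⟩ with hα
  obtain ⟨γ, hγ⟩ : ∃ γ : Cfsg.IrrCharacter (fixed G S), Cfsg.classInner
      (fun c : fixed N S => (γ : fixed G S → ℂ) ⟨c, hle c.2⟩) (α : fixed N S → ℂ) ≠ 0 := by
    let D := (fixed N S).subgroupOf (fixed G S)
    let e : D ≃* fixed N S := Subgroup.subgroupOfEquivOfLe hle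
    by_contra hall
    push Not at hall
    have hall' : ∀ γ : Cfsg.IrrCharacter (fixed G S), Cfsg.classInner
        (fun c : D => (γ : fixed G S → ℂ) c) (irrEquiv e.symm α : D → ℂ) = 0 := fun γ => by
      rw [← hall γ]
      simp only [Cfsg.classInner, Nat.card_congr e.toEquiv]
      exact congrArg _ (Fintype.sum_equiv e.toEquiv _ _ fun x => rfl)
    have := Fintype.ofFinite (Cfsg.IrrCharacter (fixed G S))
    have h1 : Cfsg.indFun D (irrEquiv e.symm α : D → ℂ) = 0 := by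
      rw [CfsgLib.Char.classFun_expand (CfsgLib.Char.isClassFunction_indFun D (irrEquiv e.symm α : D → ℂ))]
      refine Finset.sum_eq_zero fun γ _ => ?_
      rw [CfsgLib.Char.classInner_indFun D (irrEquiv e.symm α : D → ℂ) _ (CfsgLib.Char.isClassFunction_irr γ),
        ← CfsgLib.Char.classInner_conj, hall', map_zero, zero_smul]
    have h2 := congrFun h1 1
    rw [CfsgLib.Char.indFun_one, Pi.zero_apply, mul_eq_zero] at h2
    exact h2.elim (Nat.cast_ne_zero.mpr Subgroup.index_ne_zero_of_finite)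
      (CfsgLib.Char.irr_one_ne_zero (irrEquiv e.symm α))
  obtain ⟨χ, rfl⟩ := hf.2 γ
  refine ⟨χ.1, ?_, χ.2⟩
  have h := hcompat χ ⟨θ, hinv⟩ (by convert hγ using 2)
  convert h using 2

end Cfsg.Agent.S4449
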