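import Cfsg.Agent.Lib.Invol.MaxClassExtend
import Cfsg.Agent.Lib.Invol.QuasiDihedralMaximal
-- under Cfsg/Agent/.
import Cfsg.Statements.S4398
-- import your own Cfsg.Agent.* helpers here

set_option autoImplicit false
open Cfsg

namespace Cfsg.Agent.S4398

open Subgroup in
private theorem aux {S : Type*} [Group S] [Finite S] (h2 : IsPGroup 2 S)
    (hr : Cfsg.SectionalPRankLE 2 2 S) (H : Subgroup S) (hna : ¬ IsMulCommutative H)
    (hH : Nat.card H ≤ 4 * Nat.card (commutator H)) : ∀ (n : ℕ) (K : Subgroup S), Nat.card K = n →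
    H ≤ K → ¬ IsMulCommutative K ∧ Nat.card K ≤ 4 * Nat.card (commutator K) := by
  intro n
  induction n using Nat.strong_induction_on with
  | _ n ih =>
  intro K hn hHK
  haveI : Fact (Nat.Prime 2) := ⟨Nat.prime_two⟩
  rcases eq_or_lt_of_le hHK with rfl | hlt
  · exact ⟨hna, hH⟩
  have hnaK : ¬ IsMulCommutative K := by
    intro h
    refine hna (le_centralizer_iff_isMulCommutative.1 ?_)
    haveI := h
    exact hHK.trans ((le_centralizer K).trans (centralizer_le hHK))
  have hne : H.subgroupOf K ≠ ⊤ := fun h => hlt.not_ge (subgroupOf_eq_top.1 h)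
  obtain ⟨M, hM, hHM⟩ :=
    (IsCoatomic.eq_top_or_exists_le_coatom (H.subgroupOf K)).resolve_left hne
  have hidx := CfsgLib.Invol.index_coatom_two (h2.to_subgroup K) hM
  set L := M.map K.subtype with hL
  have hLK : L ≤ K := map_subtype_le M
  have hcardL : Nat.card L = Nat.card M := card_map_of_injective K.subtype_injective
  have hLn : Nat.card L < n := by
    have h1 := M.card_mul_index
    have h3 : 0 < Nat.card M := Nat.card_pos
    rw [hidx, hn] at h1
    omega
  have hHL : H ≤ L := fun x hx => ⟨⟨x, hHK hx⟩, hHM (mem_subgroupOf.2 hx), rfl⟩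
  obtain ⟨hLna, hLcard⟩ := ih _ hLn L rfl hHL
  refine ⟨hnaK, ?_⟩
  let e : M ≃* L := M.equivMapOfInjective K.subtype K.subtype_injective
  have hMna : ¬ IsMulCommutative M := fun h => hLna (isMulCommutative_iff.2 fun x y => by
    haveI := h
    exact e.symm.injective (by rw [map_mul, map_mul, mul_comm' (e.symm x)]))
  have hcomm : Nat.card (commutator L) = Nat.card (commutator M) := by
    rw [← card_map_of_injective (f := e.toMonoidHom) e.injective, _root_.commutator_def,
      _root_.commutator_def, map_commutator, map_top_of_surjective _ e.surjective]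
  refine CfsgLib.Invol.maxClass_step (h2.to_subgroup K) ?_ M hidx hMna
    (by rw [← hcardL, ← hcomm]; exact hLcard)
  intro N hN hsq
  haveI := hN
  have hcomm' : ∀ a b : K ⧸ N, a * b = b * a := by
    have h1 : ∀ a : K ⧸ N, a * a = 1 := fun a => by
      induction a using QuotientGroup.induction_on with
      | _ a => exact (QuotientGroup.eq_one_iff _).2 (hsq a)
    exact fun a b => by
      have hab := h1 (a * b)
      calc a * b = (a * b)⁻¹ := eq_inv_of_mul_eq_one_left hab
        _ = b⁻¹ * a⁻¹ := mul_inv_rev a b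
        _ = b * a := by rw [inv_eq_of_mul_eq_one_left (h1 a), inv_eq_of_mul_eq_one_left (h1 b)]
  have := hr K N ⊤ (isMulCommutative_iff.2 fun x y => Subtype.ext (hcomm' x y)) (fun a _ => by
    induction a using QuotientGroup.induction_on with
    | _ a => rw [pow_two]; exact (QuotientGroup.eq_one_iff _).2 (hsq a))
  rw [Nat.card_congr Subgroup.topEquiv.toEquiv, ← index_eq_card] at this
  exact this


/-- Let S be a finite 2-group of sectional 2-rank at most 2 that contains a subgroup isomorphic to the dihedral group of order 8 or to the quaternion group of order 8. Then S is dihedral of order at least 8, semidihedral of order at least 16 (order 2^(k+4) with an element a of order 2^(k+3) and an involution b with b a b⁻¹ = a^(2^(k+2)−1)), or generalized quaternion of order at least 8. -/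
theorem result {S : Type*} [Group S] [Finite S] (h2 : IsPGroup 2 S) (hr : Cfsg.SectionalPRankLE 2 2 S)
    (hsub : ∃ H : Subgroup S, Nonempty (↥H ≃* DihedralGroup 4) ∨ Nonempty (↥H ≃* QuaternionGroup 2)) :
    ((∃ k : ℕ, Nonempty (S ≃* DihedralGroup (2 ^ (k + 2)))) ∨
      (∃ k : ℕ, Nat.card S = 2 ^ (k + 4) ∧ ∃ a b : S, orderOf a = 2 ^ (k + 3) ∧ orderOf b = 2 ∧ b * a * b⁻¹ = a ^ (2 ^ (k + 2) - 1)) ∨
      (∃ k : ℕ, Nonempty (S ≃* QuaternionGroup (2 ^ (k + 1))))) := by
  classical
  haveI : Fact (Nat.Prime 2) := ⟨Nat.prime_two⟩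
  obtain ⟨H, hH⟩ := hsub
  have hH8 : Nat.card H = 8 ∧ ¬ IsMulCommutative H := by
    rcases hH with ⟨⟨e⟩⟩ | ⟨⟨e⟩⟩
    · refine ⟨by rw [Nat.card_congr e.toEquiv, DihedralGroup.nat_card], fun h => ?_⟩
      haveI := h
      have h' := mul_comm' (e.symm (DihedralGroup.r 1)) (e.symm (DihedralGroup.sr 0))
      rw [← map_mul, ← map_mul, e.symm.injective.eq_iff] at h'
      revert h'
      decide
    · refine ⟨by rw [Nat.card_congr e.toEquiv, Nat.card_eq_fintype_card, QuaternionGroup.card], fun h => ?_⟩
      haveI := h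
      have h' := mul_comm' (e.symm (QuaternionGroup.a 1)) (e.symm (QuaternionGroup.xa 0))
      rw [← map_mul, ← map_mul, e.symm.injective.eq_iff] at h'
      revert h'
      decide
  obtain ⟨hc8, hna⟩ := hH8
  have hH4 : Nat.card H ≤ 4 * Nat.card (commutator H) := by
    have h1 : commutator H ≠ ⊥ := fun h => hna (isMulCommutative_iff.2 fun x y =>
      commutatorElement_eq_one_iff_mul_comm.1 (Subgroup.mem_bot.1 (h ▸
        Subgroup.commutator_mem_commutator (Subgroup.mem_top x) (Subgroup.mem_top y))))
    have := (Subgroup.one_lt_card_iff_ne_bot _).2 h1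
    omega
  obtain ⟨h1, h3⟩ := aux h2 hr H hna hH4 _ ⊤ rfl le_top
  let e : (⊤ : Subgroup S) ≃* S := Subgroup.topEquiv
  have hna' : ¬ IsMulCommutative S := fun h => h1 (by haveI := h; infer_instance)
  have h4 : Nat.card S ≤ 4 * Nat.card (commutator S) := by
    have hc : Nat.card (commutator S) = Nat.card (commutator (⊤ : Subgroup S)) := by
      rw [← Subgroup.card_map_of_injective (f := e.toMonoidHom) e.injective (K := commutator (⊤ : Subgroup S)),
        _root_.commutator_def, _root_.commutator_def, Subgroup.map_commutator,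
        Subgroup.map_top_of_surjective _ e.surjective]
    rw [hc, ← Nat.card_congr e.toEquiv]
    exact h3
  obtain ⟨k, r, f, a, b, ht, F⟩ := CfsgLib.Invol.exists_std_frame h2 hna' h4
  have hk : 2 ≤ k := ht.1
  rcases CfsgLib.Invol.cases_of_std ht F with h | h | h
  · exact Or.inl ⟨k - 2, by rwa [show k - 2 + 2 = k by omega]⟩
  · exact Or.inr (Or.inr ⟨k - 2, by rwa [show k - 2 + 1 = k - 1 by omega]⟩)
  · obtain ⟨j, hj, hc, x, y, hx, hy, hxy⟩ := h
    refine Or.inr (Or.inl ⟨j - 3, ?_, x, y, ?_, hy, ?_⟩)
    · rw [hc]; congr 1; omega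
    · rw [hx]; congr 1; omega
    · rw [hxy]; congr 3; omega

end Cfsg.Agent.S4398
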