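import Cfsg.Statements.S3911
import Cfsg.Agent.Lib.Invol.BGroup
-- import your own Cfsg.Agent.* helpers here

set_option autoImplicit false
open Cfsg

namespace Cfsg.Agent.S3911

/-- Let G be a finite group in which any two abelian subgroups of the same order are conjugate. If M is a normal subgroup of G of odd order, then any two abelian subgroups of G/M of the same order are conjugate in G/M. -/
theorem result {G : Type*} [Group G] [Finite G] (hB : ∀ A B : Subgroup G, IsMulCommutative ↥A → IsMulCommutative ↥B → Nat.card ↥A = Nat.card ↥B → ∃ g : G, B = A.map (MulAut.conj g).toMonoidHom) (M : Subgroup G) [M.Normal] (hM : Odd (Nat.card ↥M)) :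
    ∀ A B : Subgroup (G ⧸ M), IsMulCommutative ↥A → IsMulCommutative ↥B → Nat.card ↥A = Nat.card ↥B →
      ∃ g : G ⧸ M, B = A.map (MulAut.conj g).toMonoidHom := by
  have hB' : CfsgLib.Invol.AbelianConjugate G := hB
  intro A B hA hB2 hcard
  have hloc : ∀ C : Subgroup (G ⧸ M), IsMulCommutative C → ∀ p : ℕ, p.Prime → p ∣ Nat.card C →
      CfsgLib.Invol.LiftCond p M C := by
    intro C hC p hp hpC
    haveI := Fact.mk hp
    by_cases hpM : p ∣ Nat.card M
    · have hp2 : p ≠ 2 := fun h => Nat.not_even_iff_odd.2 hM (even_iff_two_dvd.2 (h ▸ hpM))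
      refine CfsgLib.Invol.liftCond_of_cyclic M C fun P => ?_
      rcases hB'.unique_or_exponent P with h | h
      · exact CfsgLib.Coprime.isCyclic_of_unique_odd hp2 P.2 h
      · refine absurd (hpC.trans ?_) (hB'.not_dvd_index_of_exponent P h M hpM)
        rw [Subgroup.index_eq_card]
        exact Subgroup.card_subgroup_dvd_card C
    · exact CfsgLib.Invol.liftCond_of_not_dvd M C hpM
  exact hB'.conj_of_lift M A B hcard (hloc A hA) (hloc B hB2)

end Cfsg.Agent.S3911
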