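import Cfsg.Statements.S3912
import Cfsg.Agent.Lib.Invol.BGroup
import Cfsg.Agent.Lib.Invol.OddCore
import Cfsg.Agent.S3911
import Mathlib.GroupTheory.SpecificGroups.Quaternion
-- import your own Cfsg.Agent.* helpers here

set_option autoImplicit false
open Cfsg

namespace Cfsg.Agent.S3912

open Subgroup CfsgLib.Coprime CfsgLib.Invol

universe u

theorem quaternion_order_four (k : ℕ) (q : QuaternionGroup (2 ^ k)) :
    ∃ a b : QuaternionGroup (2 ^ k), a * b = q ∧ (a = 1 ∨ orderOf a = 4) ∧ (b = 1 ∨ orderOf b = 4) := by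
  haveI : NeZero (2 ^ k) := ⟨by positivity⟩
  rcases q with i | i
  · refine ⟨QuaternionGroup.xa 0, QuaternionGroup.xa (i - (2 ^ k : ℕ)), ?_, Or.inr (QuaternionGroup.orderOf_xa _),
      Or.inr (QuaternionGroup.orderOf_xa _)⟩
    rw [QuaternionGroup.xa_mul_xa]
    congr 1
    ring
  · exact ⟨QuaternionGroup.xa i, 1, mul_one _, Or.inr (QuaternionGroup.orderOf_xa _), Or.inl rfl⟩

theorem quaternion_eq_of_order_four {G : Type*} [Group G] (P M : Subgroup G) {k : ℕ}
    (f : P ≃* QuaternionGroup (2 ^ k)) (h : ∀ x : G, orderOf x = 4 → x ∈ M) : P ≤ M := by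
  intro x hx
  obtain ⟨a, b, hab, ha, hb⟩ := quaternion_order_four k (f ⟨x, hx⟩)
  have key : ∀ a : QuaternionGroup (2 ^ k), (a = 1 ∨ orderOf a = 4) → ((f.symm a : P) : G) ∈ M := by
    rintro a (rfl | ha)
    · simp
    · exact h _ (by rw [Subgroup.orderOf_coe, f.symm.orderOf_eq, ha])
  have := mul_mem (key a ha) (key b hb)
  rw [← Subgroup.coe_mul, ← map_mul, hab, f.symm_apply_apply] at this
  exact this

/-- A quaternion Sylow `2`-subgroup of a solvable group has order at most `8`. -/
theorem quaternion_small {G : Type u} [Group G] [Finite G] [Group.IsSolvable G]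
    (hB : AbelianConjugate G) (hcore : Cfsg.pPrimeCore 2 G = ⊥) (P : Sylow 2 G) {k : ℕ}
    (f : (P : Subgroup G) ≃* QuaternionGroup (2 ^ k)) : k ≤ 1 := by
  haveI : Fact (Nat.Prime 2) := ⟨Nat.prime_two⟩
  haveI : NeZero (2 ^ k) := ⟨by positivity⟩
  by_contra hk
  set U := Cfsg.pCore 2 G with hU
  haveI : U.Normal := pCore_normal' 2
  have hUP : U ≤ P := pCore_le_sylow P
  have hCU := centralizer_pCore_le (G := G) (p := 2) hcore
  have huniq : ∀ x y : G, x ∈ (P : Subgroup G) → y ∈ (P : Subgroup G) → orderOf x = 2 → orderOf y = 2 → x = y := by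
    intro x y hx hy hx2 hy2
    have key : ∀ z : (P : Subgroup G), orderOf z = 2 → f z = QuaternionGroup.a (2 ^ k : ℕ) := by
      intro z hz
      have h1 : orderOf (f z) = 2 := by rw [f.orderOf_eq, hz]
      rcases hfz : f z with i | i
      · rw [hfz, QuaternionGroup.orderOf_a] at h1
        have hiv := ZMod.val_lt i
        have hd : Nat.gcd (2 * 2 ^ k) i.val = 2 ^ k := by
          have := Nat.div_mul_cancel (Nat.gcd_dvd_left (2 * 2 ^ k) i.val)
          rw [h1] at this
          omega
        have hdvd : 2 ^ k ∣ i.val := by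
          have := Nat.gcd_dvd_right (2 * 2 ^ k) i.val
          rwa [hd] at this
        obtain ⟨c, hc⟩ := hdvd
        have hc1 : c = 1 := by
          rcases c with _ | _ | c
          · rw [hc, mul_zero, Nat.gcd_zero_right] at hd
            have := Nat.two_pow_pos k
            omega
          · rfl
          · rw [hc] at hiv
            nlinarith [Nat.two_pow_pos k]
        rw [hc1, mul_one] at hc
        rw [← ZMod.natCast_zmod_val i, hc]
      · rw [hfz, QuaternionGroup.orderOf_xa] at h1
        exact absurd h1 (by norm_num)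
    have := f.injective ((key ⟨x, hx⟩ (by rwa [← Subgroup.orderOf_coe])).trans
      (key ⟨y, hy⟩ (by rwa [← Subgroup.orderOf_coe])).symm)
    exact congrArg Subtype.val this
  by_cases h4 : ∃ u ∈ U, orderOf u = 4
  · obtain ⟨u, hu, hu4⟩ := h4
    have hPU : (P : Subgroup G) ≤ U :=
      quaternion_eq_of_order_four _ U f fun x hx => hB.mem_of_normal U hu (hu4.trans hx.symm)
    haveI hPn : (P : Subgroup G).Normal := (le_antisymm hPU hUP) ▸ (inferInstance : U.Normal)
    set a1 : QuaternionGroup (2 ^ k) := QuaternionGroup.a 1 with ha1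
    have ho1 : orderOf a1 = 2 * 2 ^ k := QuaternionGroup.orderOf_a_one
    have hbig : 8 ≤ orderOf a1 := by
      rw [ho1]
      have : 2 ^ 2 ≤ 2 ^ k := Nat.pow_le_pow_right two_pos (by omega)
      omega
    set x : G := ((f.symm a1 : P) : G) with hx
    set b : G := ((f.symm (a1 ^ 2 ^ (k - 1)) : P) : G) with hb
    set c : G := ((f.symm (QuaternionGroup.xa 0) : P) : G) with hc
    have hbo : orderOf b = 4 := by
      rw [hb, Subgroup.orderOf_coe, f.symm.orderOf_eq,
        orderOf_pow_of_dvd (by positivity) (by rw [ho1]; exact (pow_dvd_pow 2 (Nat.sub_le k 1)).trans (dvd_mul_left _ _)), ho1]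
      have e : 2 * 2 ^ k = 4 * 2 ^ (k - 1) := by
        conv_lhs => rw [show k = k - 1 + 1 by omega, pow_succ']
        ring
      rw [e, Nat.mul_div_cancel _ (by positivity)]
    have hco : orderOf c = 4 := by
      rw [hc, Subgroup.orderOf_coe, f.symm.orderOf_eq, QuaternionGroup.orderOf_xa]
    obtain ⟨g, y, hy, hgy⟩ := hB.mem_conj_zpowers (hbo.trans hco.symm)
    obtain ⟨j, rfl⟩ := hy
    have hconjx : g * x * g⁻¹ ∈ (P : Subgroup G) := hPn.conj_mem x (SetLike.coe_mem _) g
    have hox : orderOf (f ⟨_, hconjx⟩) = orderOf a1 := by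
      rw [f.orderOf_eq, ← Subgroup.orderOf_coe]
      exact ((MulAut.conj g).orderOf_eq x).trans (by rw [hx, Subgroup.orderOf_coe, f.symm.orderOf_eq])
    obtain ⟨i, hi⟩ : ∃ i, f ⟨_, hconjx⟩ = QuaternionGroup.a i := by
      rcases hfi : f ⟨_, hconjx⟩ with i | i
      · exact ⟨i, rfl⟩
      · rw [hfi, QuaternionGroup.orderOf_xa] at hox
        omega
    have hpow : g * b ^ j * g⁻¹ = ((f.symm ((QuaternionGroup.a i) ^ ((2 ^ (k - 1) : ℕ) * j : ℤ)) : P) : G) := by
      have e : b ^ j = x ^ (((2 ^ (k - 1) : ℕ) : ℤ) * j) := by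
        rw [hb, map_pow, SubgroupClass.coe_pow, ← hx, ← zpow_natCast, ← zpow_mul]
      rw [← hi, ← map_zpow, f.symm_apply_apply, SubgroupClass.coe_zpow, e]
      exact (map_zpow (MulAut.conj g) x _)
    simp only at hgy
    rw [hpow, hc] at hgy
    have hfin := f.symm.injective (Subtype.ext hgy)
    have hmem : ∀ m : ℤ, ∃ l, (QuaternionGroup.a i : QuaternionGroup (2 ^ k)) ^ m = QuaternionGroup.a l := by
      intro m
      induction m using Int.induction_on with
      | zero => exact ⟨0, by rw [zpow_zero, QuaternionGroup.one_def]⟩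
      | succ m ih =>
        obtain ⟨l, hl⟩ := ih
        exact ⟨l + i, by rw [zpow_add_one, hl, QuaternionGroup.a_mul_a]⟩
      | pred m ih =>
        obtain ⟨l, hl⟩ := ih
        refine ⟨l - i, ?_⟩
        rw [zpow_sub_one, hl, mul_inv_eq_iff_eq_mul, QuaternionGroup.a_mul_a, sub_add_cancel]
    obtain ⟨l, hl⟩ := hmem (((2 ^ (k - 1) : ℕ) : ℤ) * j)
    rw [hl] at hfin
    exact absurd hfin (by simp)
  · push_neg at h4
    have hexp : ∀ u ∈ U, u ≠ 1 → orderOf u = 2 := by
      intro u hu hu1
      obtain ⟨m, hm⟩ := IsPGroup.iff_orderOf.1 (pCore_isPGroup (G := G) 2) ⟨u, hu⟩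
      rw [← Subgroup.orderOf_coe] at hm
      change orderOf u = 2 ^ m at hm
      rcases m with _ | _ | m
      · rw [pow_zero, orderOf_eq_one_iff] at hm; exact absurd hm hu1
      · simpa using hm
      · refine absurd ?_ (h4 (u ^ 2 ^ m) (pow_mem hu _))
        rw [orderOf_pow_of_dvd (by positivity) (hm ▸ pow_dvd_pow 2 (by omega)), hm,
          show 2 ^ (m + 1 + 1) = 4 * 2 ^ m by ring, Nat.mul_div_cancel _ (by positivity)]
    have hcentral : U ≤ center G := fun u hu => mem_center_iff.2 fun g => by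
      by_cases hu1 : u = 1
      · simp [hu1]
      · have h1 : g * u * g⁻¹ ∈ U := (inferInstance : U.Normal).conj_mem u hu g
        have h2 : g * u * g⁻¹ = u := huniq _ _ (hUP h1) (hUP hu)
          (hexp _ h1 fun e => hu1 (conj_eq_one_iff.1 e)) (hexp u hu hu1)
        exact mul_inv_eq_iff_eq_mul.1 h2
    have htop : (⊤ : Subgroup G) ≤ U := le_trans (by
      rw [centralizer_eq_top_iff_subset.2 hcentral]) hCU
    have hbad : orderOf ((f.symm (QuaternionGroup.xa 0) : P) : G) = 4 := by
      rw [Subgroup.orderOf_coe, f.symm.orderOf_eq, QuaternionGroup.orderOf_xa]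
    exact h4 _ (htop (mem_top _)) hbad

theorem conj_of_odd_parts {H : Type*} [Group H] [Finite H] (A B : Subgroup H) [IsMulCommutative A]
    [IsMulCommutative B] (hcard : Nat.card A = Nat.card B) (hfull : ¬ 2 ∣ Nat.card H / 2 ^ (Nat.card A).factorization 2)
    (hodd : ∀ A' B' : Subgroup H, IsMulCommutative A' → IsMulCommutative B' → A' ≤ A → B' ≤ B →
      Nat.card A' = Nat.card B' → ¬ 2 ∣ Nat.card A' → ∃ g : H, B' = A'.map (MulAut.conj g).toMonoidHom) :
    ∃ g : H, B = A.map (MulAut.conj g).toMonoidHom := by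
  haveI : Fact (Nat.Prime 2) := ⟨Nat.prime_two⟩
  have hsplit : ∀ C : Subgroup H, IsMulCommutative C → ∃ V L : Subgroup H, V ≤ C ∧ L ≤ C ∧ V ⊔ L = C ∧
      Nat.card V = 2 ^ (Nat.card C).factorization 2 ∧
      Nat.card L = Nat.card C / 2 ^ (Nat.card C).factorization 2 := by
    intro C hC
    obtain ⟨V⟩ : Nonempty (Sylow 2 C) := inferInstance
    have hcop : (Nat.card (V : Subgroup C)).Coprime (V : Subgroup C).index := by
      rw [V.card_eq_multiplicity]
      exact (Nat.prime_two.coprime_iff_not_dvd.2 V.not_dvd_index).pow_left _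
    obtain ⟨L, hL⟩ := exists_left_complement'_of_coprime hcop
    refine ⟨(V : Subgroup C).map C.subtype, L.map C.subtype, map_subtype_le _, map_subtype_le _, ?_, ?_, ?_⟩
    · rw [← Subgroup.map_sup, sup_comm, hL.sup_eq_top, ← MonoidHom.range_eq_map, Subgroup.range_subtype]
    · rw [Subgroup.card_map_of_injective C.subtype_injective, V.card_eq_multiplicity]
    · rw [Subgroup.card_map_of_injective C.subtype_injective]
      refine (Nat.div_eq_of_eq_mul_left (by positivity) ?_).symm
      rw [← V.card_eq_multiplicity]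
      exact hL.card_mul.symm
  obtain ⟨V, L, hVA, hLA, hVL, hV, hL⟩ := hsplit A inferInstance
  obtain ⟨W, K, hWB, hKB, hWK, hW, hK⟩ := hsplit B inferInstance
  have hsub : ∀ {C D : Subgroup H}, IsMulCommutative C → D ≤ C → IsMulCommutative D := fun {C D} hC hle =>
    ⟨⟨fun a b => Subtype.ext (by
      simp only [Subgroup.coe_mul]
      exact congrArg Subtype.val (@mul_comm' _ _ hC ⟨a, hle a.2⟩ ⟨b, hle b.2⟩))⟩⟩
  obtain ⟨g, hg⟩ := hodd L K (hsub ‹_› hLA) (hsub ‹_› hKB) hLA hKB (by rw [hL, hK, hcard])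
    (by
      rw [hL]
      exact Nat.not_dvd_ordCompl Nat.prime_two Nat.card_pos.ne')
  set V' := V.map (MulAut.conj g).toMonoidHom with hV'
  set C := centralizer (K : Set H) with hCdef
  have hV'C : V' ≤ C := by
    rintro _ ⟨v, hv, rfl⟩
    rw [mem_centralizer_iff]
    intro x hx
    rw [hg] at hx
    obtain ⟨l, hl, rfl⟩ := hx
    show (MulAut.conj g) l * (MulAut.conj g) v = (MulAut.conj g) v * (MulAut.conj g) l
    rw [← map_mul, ← map_mul]
    exact congrArg _ (congrArg Subtype.val (mul_comm' (⟨l, hLA hl⟩ : A) ⟨v, hVA hv⟩))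
  have hWC : W ≤ C := fun w hw => mem_centralizer_iff.2 fun x hx =>
    congrArg Subtype.val (mul_comm' (⟨x, hKB hx⟩ : B) ⟨w, hWB hw⟩)
  have hcardC : (Nat.card C).factorization 2 = (Nat.card A).factorization 2 := by
    refine le_antisymm ?_ ((Nat.prime_two.pow_dvd_iff_le_factorization Nat.card_pos.ne').1
      (hV ▸ ((Subgroup.card_map_of_injective (K := V) (f := (MulAut.conj g).toMonoidHom) (MulEquiv.injective (MulAut.conj g))) ▸ card_dvd_of_le hV'C)))
    have hA : 2 ^ (Nat.card A).factorization 2 ∣ Nat.card H := (Nat.ordProj_dvd _ 2).trans (card_subgroup_dvd_card A)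
    have h1 : (Nat.card H).factorization 2 = (Nat.card A).factorization 2 := by
      have h2 := Nat.factorization_eq_zero_of_not_dvd hfull
      rw [Nat.factorization_div hA, Finsupp.coe_tsub, Pi.sub_apply, Nat.prime_two.factorization_pow,
        Finsupp.single_eq_same] at h2
      have h3 := (Nat.factorization_le_iff_dvd Nat.card_pos.ne' Nat.card_pos.ne').2 (card_subgroup_dvd_card A) 2
      omega
    rw [← h1]
    exact (Nat.factorization_le_iff_dvd Nat.card_pos.ne' Nat.card_pos.ne').2 (card_subgroup_dvd_card C) 2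
  let S1 : Sylow 2 C := Sylow.ofCard (V'.subgroupOf C) (by
    rw [Nat.card_congr (subgroupOfEquivOfLe hV'C).toEquiv, hV',
      Subgroup.card_map_of_injective (MulEquiv.injective _), hV, hcardC])
  let S2 : Sylow 2 C := Sylow.ofCard (W.subgroupOf C) (by
    rw [Nat.card_congr (subgroupOfEquivOfLe hWC).toEquiv, hW, hcardC, hcard])
  obtain ⟨c, hc⟩ := MulAction.exists_smul_eq C S1 S2
  have hc' : W = V'.map (MulAut.conj (c : H)).toMonoidHom := by
    have h0 := congrArg (fun S : Sylow 2 C => ((S : Subgroup C).map C.subtype)) hc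
    simp only [Sylow.coe_subgroup_smul, S1, S2, Sylow.coe_ofCard] at h0
    rw [subgroupOf_map_subtype, inf_of_le_left hWC] at h0
    rw [← h0]
    ext y
    constructor
    · rintro ⟨z, hz, rfl⟩
      obtain ⟨w, hw, rfl⟩ := hz
      exact ⟨w.1, hw, rfl⟩
    · rintro ⟨v, hv, rfl⟩
      exact ⟨MulAut.conj c ⟨v, hV'C hv⟩, ⟨⟨v, hV'C hv⟩, hv, rfl⟩, rfl⟩
  have hK' : K.map (MulAut.conj (c : H)).toMonoidHom = K := by
    ext y
    have hfix : ∀ x ∈ K, (c : H) * x * (c : H)⁻¹ = x := fun x hx => by
      rw [← mem_centralizer_iff.1 c.2 x hx, mul_inv_cancel_right]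
    refine ⟨?_, fun hy => ⟨y, hy, hfix y hy⟩⟩
    rintro ⟨x, hx, rfl⟩
    show (c : H) * x * (c : H)⁻¹ ∈ K
    rw [hfix x hx]; exact hx
  refine ⟨(c : H) * g, ?_⟩
  rw [← hWK, ← hVL, map_mul]
  rw [show (MulAut.conj (c : H) * MulAut.conj g).toMonoidHom =
    (MulAut.conj (c : H)).toMonoidHom.comp (MulAut.conj g).toMonoidHom from rfl, ← map_map,
    Subgroup.map_sup, ← hg, Subgroup.map_sup, hK', ← hV', hc']


/-- Let G be a finite solvable group in which any two abelian subgroups of the same order are conjugate. Then every quotient of G has the same property: any two abelian subgroups of the quotient of the same order are conjugate. -/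
theorem result {G : Type*} [Group G] [Finite G] (hB : ∀ A B : Subgroup G, IsMulCommutative ↥A → IsMulCommutative ↥B → Nat.card ↥A = Nat.card ↥B → ∃ g : G, B = A.map (MulAut.conj g).toMonoidHom) (hsol : Group.IsSolvable G) (M : Subgroup G) [M.Normal] :
    ∀ A B : Subgroup (G ⧸ M), IsMulCommutative ↥A → IsMulCommutative ↥B → Nat.card ↥A = Nat.card ↥B →
      ∃ g : G ⧸ M, B = A.map (MulAut.conj g).toMonoidHom := by
  haveI := hsol
  have hB' : CfsgLib.Invol.AbelianConjugate G := hB
  intro A B hA hB2 hcard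
  have hcyc : ∀ (p : ℕ) [Fact p.Prime], p ∣ Nat.card M → p ∣ M.index →
      (∀ P : Sylow p G, IsCyclic P) ∨ (p = 2 ∧ (Nat.card M).factorization 2 = 1 ∧
        (Nat.card (G ⧸ M)).factorization 2 ≤ 2) := by
    intro p hp hpM hpI
    rw [or_iff_not_imp_left, not_forall]
    rintro ⟨P, hP⟩
    have hu : UniqueOrderP p (P : Subgroup G) :=
      (hB'.unique_or_exponent P).resolve_right fun h => hB'.not_dvd_index_of_exponent P h M hpM hpI
    rcases cyclic_or_quaternion_of_unique P.2 hu with h | ⟨rfl, k, ⟨f⟩⟩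
    · exact absurd h hP
    haveI : NeZero (2 ^ k) := ⟨by positivity⟩
    have hk : k = 1 := by
      set O := Cfsg.pPrimeCore 2 G with hO
      haveI : O.Characteristic := pPrimeCore_characteristic 2
      have hcop : (Nat.card O).Coprime 2 := pPrimeCore_coprime Nat.prime_two
      obtain ⟨T, ⟨e⟩⟩ := exists_sylow_quotient_equiv O hcop P
      have hBQ : AbelianConjugate (G ⧸ O) :=
        Cfsg.Agent.S3911.result hB O (Nat.coprime_two_right.1 hcop)
      have h1 := quaternion_small hBQ (pPrimeCore_quotient_eq_bot Nat.prime_two) T (e.symm.trans f)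
      rcases Nat.eq_zero_or_pos k with h0 | h0
      · subst h0
        exact absurd ((f.isCyclic).2 QuaternionGroup.quaternionGroup_one_isCyclic) hP
      · omega
    subst hk
    have hPcard : (Nat.card G).factorization 2 = 3 := by
      have h1 := P.card_eq_multiplicity
      rw [Nat.card_congr f.toEquiv, Nat.card_eq_fintype_card, QuaternionGroup.card] at h1
      exact (Nat.pow_right_injective le_rfl (show 2 ^ 3 = _ by simpa using h1)).symm
    obtain ⟨T, hTP, hTM, hT⟩ := exists_le_sylow_inf (p := 2) M P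
    have hMexp : ∀ x ∈ M, orderOf x ≠ 4 := by
      intro x hx h4
      have hle := quaternion_eq_of_order_four (P : Subgroup G) M f
        fun y hy => hB'.mem_of_normal M hx (h4.trans hy.symm)
      exact P.not_dvd_index (hpI.trans (Subgroup.index_dvd_of_le hle))
    have hv1 : (Nat.card M).factorization 2 = 1 := by
      have hpos := Nat.prime_two.factorization_pos_of_dvd Nat.card_pos.ne' hpM
      by_contra hne
      obtain ⟨z, hz⟩ := exists_prime_orderOf_dvd_card' (G := T) 2 (hT ▸ dvd_pow_self 2 (by omega))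
      have hsub : ∀ x ∈ T, x ∈ Subgroup.zpowers (z : G) := by
        intro x hx
        obtain ⟨m, hm⟩ := IsPGroup.iff_orderOf.1 (P.2.to_le hTP) ⟨x, hx⟩
        rw [← Subgroup.orderOf_coe] at hm
        change orderOf x = 2 ^ m at hm
        rcases m with _ | _ | m
        · rw [pow_zero, orderOf_eq_one_iff] at hm; rw [hm]; exact one_mem _
        · obtain ⟨j, hj⟩ := hu ⟨z, hTP z.2⟩ ⟨x, hTP hx⟩
            (Subtype.ext (by
              show (z : G) ^ 2 = 1
              rw [← hz, ← Subgroup.orderOf_coe, pow_orderOf_eq_one]))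
            (Subtype.ext (by
              show x ^ 2 = 1
              rw [show 2 = orderOf x by simpa using hm.symm, pow_orderOf_eq_one]))
            (fun e => by
              have : (z : G) = 1 := congrArg Subtype.val e
              rw [← Subgroup.orderOf_coe, this, orderOf_one] at hz
              omega)
          exact ⟨j, congrArg Subtype.val hj⟩
        · refine absurd ?_ (hMexp (x ^ 2 ^ m) (pow_mem (hTM hx) _))
          rw [orderOf_pow_of_dvd (by positivity) (hm ▸ pow_dvd_pow 2 (by omega)), hm,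
            show 2 ^ (m + 1 + 1) = 4 * 2 ^ m by ring, Nat.mul_div_cancel _ (by positivity)]
      have h3 := Subgroup.card_le_of_le (show T ≤ Subgroup.zpowers (z : G) from hsub)
      rw [hT, Nat.card_zpowers, Subgroup.orderOf_coe, hz] at h3
      have h4 : 2 ^ 2 ≤ 2 ^ (Nat.card M).factorization 2 := Nat.pow_le_pow_right two_pos (by omega)
      omega
    refine ⟨rfl, hv1, ?_⟩
    rw [Subgroup.card_eq_card_quotient_mul_card_subgroup M, Nat.factorization_mul Nat.card_pos.ne'
      Nat.card_pos.ne', Finsupp.add_apply, hv1] at hPcard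
    omega
  -- the local condition unless the Sylow 2-subgroup of the quotient is involved fully
  have hloc : ∀ C : Subgroup (G ⧸ M), IsMulCommutative C →
      (∀ P : Sylow 2 G, IsCyclic P) ∨ ¬ 2 ∣ Nat.card M ∨ ¬ 4 ∣ Nat.card C →
      ∀ p : ℕ, p.Prime → p ∣ Nat.card C → LiftCond p M C := by
    intro C hC hsmall p hp hpC
    haveI := Fact.mk hp
    by_cases hpM : p ∣ Nat.card M
    swap
    · exact liftCond_of_not_dvd M C hpM
    have hpI : p ∣ M.index := by rw [Subgroup.index_eq_card]; exact hpC.trans (Subgroup.card_subgroup_dvd_card C)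
    rcases hcyc p hpM hpI with h | ⟨rfl, hv1, -⟩
    · exact liftCond_of_cyclic M C h
    rcases hsmall with h | h | h4
    · exact liftCond_of_cyclic M C h
    · exact absurd hpM h
    intro Q hQ hQC hQM
    obtain ⟨n, hn⟩ := hQ.exists_card_eq
    have hQmap : Nat.card (Q.map (QuotientGroup.mk' M)) ∣ 2 := by
      obtain ⟨m, hm⟩ := (hQ.map (QuotientGroup.mk' M)).exists_card_eq
      rw [hm]
      rcases m with _ | _ | m
      · simp
      · simp
      · exact absurd ((show 4 ∣ 2 ^ (m + 1 + 1) from ⟨2 ^ m, by ring⟩).trans (hm ▸ Subgroup.card_dvd_of_le hQC)) h4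
    have hinf : Nat.card (Q ⊓ M : Subgroup G) ∣ 2 := by
      obtain ⟨m, hm⟩ := (hQ.to_le (inf_le_left (b := M))).exists_card_eq
      have h1 := Subgroup.card_dvd_of_le (inf_le_right : Q ⊓ M ≤ M)
      rw [hm, Nat.prime_two.pow_dvd_iff_le_factorization Nat.card_pos.ne', hv1] at h1
      rw [hm]; exact (pow_dvd_pow 2 h1).trans (by simp)
    have hQcard : Nat.card Q ∣ 4 := by
      rw [Subgroup.card_eq_card_quotient_mul_card_subgroup ((QuotientGroup.mk' M).comp Q.subtype).ker,
        show (4 : ℕ) = 2 * 2 from rfl]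
      refine mul_dvd_mul ?_ ?_
      · rw [Nat.card_congr (QuotientGroup.quotientKerEquivRange _).toEquiv, MonoidHom.range_comp,
          Subgroup.range_subtype]
        exact hQmap
      · rw [← MonoidHom.comap_ker, QuotientGroup.ker_mk', ← Subgroup.card_map_of_injective
          (K := M.comap Q.subtype) Q.subtype_injective, Subgroup.map_comap_eq, Subgroup.range_subtype]
        exact hinf
    refine ⟨?_, ?_⟩
    · rcases (Nat.dvd_prime_pow Nat.prime_two).1 (show Nat.card Q ∣ 2 ^ 2 by simpa using hQcard) with ⟨i, hi, hic⟩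
      interval_cases i
      · haveI : Subsingleton Q := (Nat.card_eq_one_iff_unique.1 (by simpa using hic)).1
        exact ⟨⟨fun a b => Subsingleton.elim _ _⟩⟩
      · haveI : IsCyclic Q := isCyclic_of_prime_card (p := 2) (by simpa using hic)
        exact IsCyclic.commutative
      · exact ⟨⟨IsPGroup.commutative_of_card_eq_prime_sq (p := 2) hic⟩⟩
    · rw [hv1, pow_one]
      have hQ1 : 2 ∣ Nat.card Q := by
        rcases n with _ | n
        · exfalso
          have : Q = ⊥ := Subgroup.card_eq_one.1 (by simpa using hn)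
          exact hQM (this ▸ bot_le)
        · rw [hn]; exact dvd_pow_self 2 n.succ_ne_zero
      obtain ⟨w, hw⟩ := exists_prime_orderOf_dvd_card' (G := Q) 2 hQ1
      obtain ⟨z, hz⟩ := exists_prime_orderOf_dvd_card' (G := M) 2 hpM
      have hwM : (w : G) ∈ M := hB'.mem_of_normal M z.2
        (by rw [Subgroup.orderOf_coe, hz, Subgroup.orderOf_coe, hw])
      rw [← hw, ← Subgroup.orderOf_coe]
      exact Subgroup.orderOf_dvd_natCard _ (show (w : G) ∈ Q ⊓ M from ⟨w.2, hwM⟩)
  by_cases hsmall : (∀ P : Sylow 2 G, IsCyclic P) ∨ ¬ 2 ∣ Nat.card M ∨ ¬ 4 ∣ Nat.card A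
  · exact hB'.conj_of_lift M A B hcard (hloc A hA hsmall) (hloc B hB2 (hcard ▸ hsmall))
  push_neg at hsmall
  obtain ⟨hnc, h2M, h4A⟩ := hsmall
  haveI : Fact (Nat.Prime 2) := ⟨Nat.prime_two⟩
  have hA2 : (Nat.card (G ⧸ M)).factorization 2 ≤ 2 := by
    rcases hcyc 2 h2M (by
      rw [Subgroup.index_eq_card]
      exact ((show 2 ∣ 4 by norm_num).trans h4A).trans (Subgroup.card_subgroup_dvd_card A)) with h | h
    · exact absurd h (by push_neg; exact hnc)
    · exact h.2.2
  refine conj_of_odd_parts A B hcard ?_ fun A' B' hA' hB'' _ _ hc hodd =>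
    hB'.conj_of_lift M A' B' hc (hloc A' hA' (Or.inr (Or.inr fun h => hodd ((show 2 ∣ 4 by norm_num).trans h))))
      (hloc B' hB'' (Or.inr (Or.inr fun h => hodd (hc ▸ (show 2 ∣ 4 by norm_num).trans h))))
  have h1 : 2 ≤ (Nat.card A).factorization 2 :=
    (Nat.prime_two.pow_dvd_iff_le_factorization Nat.card_pos.ne').1 (by simpa using h4A)
  have h2 := (Nat.factorization_le_iff_dvd Nat.card_pos.ne' Nat.card_pos.ne').2 (Subgroup.card_subgroup_dvd_card A) 2
  rw [show (Nat.card A).factorization 2 = (Nat.card (G ⧸ M)).factorization 2 by omega]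
  exact Nat.not_dvd_ordCompl Nat.prime_two Nat.card_pos.ne'

end Cfsg.Agent.S3912
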