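import Cfsg.Statements.S4429
import Cfsg.Agent.Lib.Char.MEleven.Order.Five

set_option autoImplicit false
open Cfsg

namespace Cfsg.Agent.S4429

/-- Let G be a simple group of order 7920. Then G has exactly ten irreducible complex characters, and their degrees, listed with multiplicity, are 1, 10, 10, 10, 11, 16, 16, 44, 45, 55: for every natural number n, the number of irreducible characters of degree n is 1 if n ∈ {1, 11, 44, 45, 55}, 3 if n = 10, 2 if n = 16, and 0 otherwise. -/
theorem result {G : Type*} [Group G] [Finite G] [IsSimpleGroup G] (hG : Nat.card G = 7920) : Nat.card (Cfsg.IrrCharacter G) = 10 ∧ ∀ n : ℕ, Nat.card {χ : Cfsg.IrrCharacter G // Cfsg.charDegree (χ : G → ℂ) = n} = (if n = 1 ∨ n = 11 ∨ n = 44 ∨ n = 45 ∨ n = 55 then 1 else if n = 10 then 3 else if n = 16 then 2 else 0) := by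
  classical
  haveI := Fintype.ofFinite G
  obtain ⟨χ, Q, T⟩ := CfsgLib.Char.MEleven.Order.exists_table hG
  haveI := Fintype.ofFinite (Cfsg.IrrCharacter G)
  refine ⟨by rw [← Nat.card_congr (Equiv.ofBijective χ T.bij), Nat.card_fin], fun n => ?_⟩
  have e : Nat.card {x : Cfsg.IrrCharacter G // Cfsg.charDegree (x : G → ℂ) = n} =
      Nat.card {i : Fin 10 // CfsgLib.Char.MEleven.Order.degs i = n} :=
    (Nat.card_congr (Equiv.subtypeEquiv (Equiv.ofBijective χ T.bij) fun i => by
      rw [Equiv.ofBijective_apply, ← T.deg i]; rfl)).symm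
  rw [e]
  by_cases hn : n < 56
  · revert hn n
    suffices h : ∀ n < 56, Nat.card {i : Fin 10 // CfsgLib.Char.MEleven.Order.degs i = n} = _ from
      fun n _ hn => h n hn
    simp only [Nat.card_eq_fintype_card]
    decide +kernel
  · have : IsEmpty {i : Fin 10 // CfsgLib.Char.MEleven.Order.degs i = n} := ⟨fun ⟨i, hi⟩ => hn (hi ▸
      (by decide : ∀ i, CfsgLib.Char.MEleven.Order.degs i < 56) i)⟩
    rw [Nat.card_of_isEmpty, if_neg (by omega), if_neg (by omega), if_neg (by omega)]

end Cfsg.Agent.S4429
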