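import Cfsg.Statements.S5945
-- import your own Cfsg.Agent.* helpers here
import Mathlib
import Cfsg.Agent.Lib.Perm.Groups.SymAut

set_option autoImplicit false
set_option linter.all false
open Cfsg

namespace Cfsg.Agent.S5945

/-- The symmetric group S_6 has exactly 12 subgroups of index 6; each of them is isomorphic to S_5, and at least one of them is not the stabilizer of any point. -/
theorem result : Nat.card {H : Subgroup (Equiv.Perm (Fin 6)) // H.index = 6} = 12 ∧ (∀ H : Subgroup (Equiv.Perm (Fin 6)), H.index = 6 → Nonempty (H ≃* Equiv.Perm (Fin 5))) ∧ ∃ H : Subgroup (Equiv.Perm (Fin 6)), H.index = 6 ∧ ∀ a : Fin 6, H ≠ MulAction.stabilizer (Equiv.Perm (Fin 6)) a := by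
  classical
  obtain ⟨φ, hφ, hall⟩ := CfsgLib.Perm.Groups.SymAut.classify_six (Ω := Fin 6) (by simp)
  have hidx : ∀ a : Fin 6, (MulAction.stabilizer (Equiv.Perm (Fin 6)) a).index = 6 := fun a =>
    (CfsgLib.Perm.Groups.SymAut.card_stab a).trans (by simp)
  have hidx' : ∀ a : Fin 6, ((MulAction.stabilizer (Equiv.Perm (Fin 6)) a).comap φ.toMonoidHom).index = 6 := fun a => by
    rw [Subgroup.index_comap_of_surjective _ φ.surjective]; exact hidx a
  refine ⟨?_, fun H hH => ?_, ⟨_, hidx' 0, fun a => hφ 0 a⟩⟩
  · let j : Fin 6 ⊕ Fin 6 → {H : Subgroup (Equiv.Perm (Fin 6)) // H.index = 6} :=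
      Sum.elim (fun a => ⟨_, hidx a⟩) fun a => ⟨_, hidx' a⟩
    have hid := CfsgLib.Perm.Groups.SymAut.comap_stab_injective (MulEquiv.refl (Equiv.Perm (Fin 6))) (by simp)
    have hj : Function.Bijective j := by
      refine ⟨?_, fun H => ?_⟩
      · rintro (a | a) (b | b) hab <;> have h := congrArg Subtype.val hab <;> simp only [j, Sum.elim_inl, Sum.elim_inr] at h
        · rw [hid (a₁ := a) (a₂ := b) (show (MulAction.stabilizer (Equiv.Perm (Fin 6)) a).comap (MonoidHom.id _) =
            (MulAction.stabilizer (Equiv.Perm (Fin 6)) b).comap (MonoidHom.id _) by rw [h])]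
        · exact absurd h.symm (hφ b a)
        · exact absurd h (hφ a b)
        · rw [CfsgLib.Perm.Groups.SymAut.comap_stab_injective φ (by simp) h]
      · obtain ⟨x, h | h⟩ := hall H.1 H.2
        · exact ⟨Sum.inl x, Subtype.ext h.symm⟩
        · exact ⟨Sum.inr x, Subtype.ext h.symm⟩
    rw [← Nat.card_eq_of_bijective j hj, Nat.card_sum, Nat.card_fin]
  · have e : ∀ a : Fin 6, Nonempty (MulAction.stabilizer (Equiv.Perm (Fin 6)) a ≃* Equiv.Perm (Fin 5)) := by
      intro a
      let c : Equiv.Perm (Fin 5) →* Equiv.Perm (Fin 6) :=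
        (finSuccAboveEquiv a).permCongrHom.toMonoidHom |> fun f => Equiv.Perm.ofSubtype.comp f
      have hc : Function.Injective c := Equiv.Perm.ofSubtype_injective.comp (finSuccAboveEquiv a).permCongrHom.injective
      have hle : c.range ≤ MulAction.stabilizer (Equiv.Perm (Fin 6)) a := by
        rintro _ ⟨g, rfl⟩
        exact Equiv.Perm.ofSubtype_apply_of_not_mem _ (by simp)
      have hcard : Nat.card (MulAction.stabilizer (Equiv.Perm (Fin 6)) a) = 120 := by
        have := (MulAction.stabilizer (Equiv.Perm (Fin 6)) a).card_mul_index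
        rw [hidx, Nat.card_perm, Nat.card_fin] at this
        rw [show Nat.factorial 6 = 720 from rfl] at this
        omega
      have heq : c.range = MulAction.stabilizer (Equiv.Perm (Fin 6)) a := Subgroup.eq_of_le_of_card_ge hle (by
        rw [hcard, ← Nat.card_congr (MonoidHom.ofInjective hc).toEquiv, Nat.card_perm, Nat.card_fin]
        decide)
      exact ⟨((MonoidHom.ofInjective hc).trans (MulEquiv.subgroupCongr heq)).symm⟩
    obtain ⟨x, rfl | rfl⟩ := hall H hH
    · exact e x
    · obtain ⟨ex⟩ := e x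
      have hm : ((MulAction.stabilizer (Equiv.Perm (Fin 6)) x).comap φ.toMonoidHom).map φ.toMonoidHom =
          MulAction.stabilizer (Equiv.Perm (Fin 6)) x := Subgroup.map_comap_eq_self_of_surjective φ.surjective _
      exact ⟨((φ.subgroupMap _).trans (MulEquiv.subgroupCongr hm)).trans ex⟩

end Cfsg.Agent.S5945
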