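import Cfsg.Statements.S0358
import Cfsg.Agent.Lib.Spor.GolayBasic
-- import your own Cfsg.Agent.* helpers here

set_option autoImplicit false
open Cfsg

namespace Cfsg.Agent.S0358

/-- The length-24 code built from the squares modulo 23 has dimension 12 over the field with two elements. -/
theorem result : Module.finrank (ZMod 2) Cfsg.golayCode = 12 := by
  let f : Cfsg.golayCode → {m // m ∈ CfsgLib.Spor.codeList.toFinset} := fun w =>
    ⟨CfsgLib.Spor.maskWord w.1, by
      obtain ⟨m, hm, e⟩ := CfsgLib.Spor.exists_codeList w.2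
      rw [List.mem_toFinset]
      have : CfsgLib.Spor.maskWord w.1 = m := by
        apply CfsgLib.Spor.eq_of_pts_eq (CfsgLib.Spor.maskWord_lt _) (CfsgLib.Spor.codeList_spec hm).1
        rw [← CfsgLib.Spor.support₂_word, ← CfsgLib.Spor.support₂_word m, CfsgLib.Spor.word_maskWord, e]
      rwa [this]⟩
  have hf : Function.Bijective f := by
    constructor
    · intro a b h
      have := congrArg (fun x => CfsgLib.Spor.word x.1) h
      simp only [f, CfsgLib.Spor.word_maskWord] at this
      exact Subtype.ext this
    · rintro ⟨m, hm⟩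
      have hm' := CfsgLib.Spor.codeList_spec (List.mem_toFinset.1 hm)
      refine ⟨⟨_, hm'.2⟩, Subtype.ext ?_⟩
      apply CfsgLib.Spor.eq_of_pts_eq (CfsgLib.Spor.maskWord_lt _) hm'.1
      rw [← CfsgLib.Spor.support₂_word, ← CfsgLib.Spor.support₂_word m, CfsgLib.Spor.word_maskWord]
  have hc : Nat.card Cfsg.golayCode = 4096 := by
    rw [Nat.card_eq_of_bijective f hf, Nat.card_eq_fintype_card, Fintype.card_coe,
      List.toFinset_card_of_nodup CfsgLib.Spor.codeList_nodup]
    decide +kernel
  have h := Module.natCard_eq_pow_finrank (K := ZMod 2) (V := Cfsg.golayCode)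
  rw [hc, Nat.card_zmod] at h
  exact Nat.pow_right_injective le_rfl (show 2 ^ _ = 2 ^ 12 from h.symm)

end Cfsg.Agent.S0358
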