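import Cfsg.Statements.S1012
import Mathlib
import Cfsg.Agent.Lib.Perm.Small.Count

set_option autoImplicit false
open Cfsg

namespace Cfsg.Agent.S1012

/-- A group of order 24 containing no element of order 6 is isomorphic to the symmetric group of degree 4. -/
theorem result {G : Type*} [Group G] [Finite G] (h : Nat.card G = 24) (h6 : ∀ g : G, orderOf g ≠ 6) : Nonempty (G ≃* Equiv.Perm (Fin 4)) := by
  classical
  haveI : Fintype G := Fintype.ofFinite G
  haveI : Fact (Nat.Prime 3) := ⟨by norm_num⟩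
  haveI : Fact (Nat.Prime 2) := ⟨Nat.prime_two⟩
  have hS : ∀ P : Sylow 3 G, Nat.card (P : Subgroup G) = 3 := fun P =>
    CfsgLib.Perm.Small.card_sylow_prime (m := 8) (by rw [h]) (by norm_num) P
  obtain ⟨P⟩ : Nonempty (Sylow 3 G) := inferInstance
  have hno : ∀ x y : G, orderOf x = 2 → orderOf y = 3 → ¬ Commute x y := by
    intro x y hx hy hxy
    refine h6 (x * y) ?_
    rw [hxy.orderOf_mul_eq_mul_orderOf_of_coprime (by rw [hx, hy]; norm_num), hx, hy]
  have hd : Nat.card (Sylow 3 G) ∣ 8 := by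
    have h1 := P.card_dvd_index
    have h2 := (P : Subgroup G).card_mul_index
    rw [hS, h] at h2
    rwa [show (P : Subgroup G).index = 8 by omega] at h1
  have hm : Nat.card (Sylow 3 G) % 3 = 1 := card_sylow_modEq_one 3 G
  obtain ⟨z, hz⟩ := exists_prime_orderOf_dvd_card' (G := (P : Subgroup G)) 3 (by rw [hS])
  rw [← Subgroup.orderOf_coe] at hz
  have hgenP : Subgroup.zpowers (z : G) = (P : Subgroup G) :=
    CfsgLib.Perm.Small.zpowers_eq_of_mem (hS P) z.2 (fun hh => by rw [hh, orderOf_one] at hz; norm_num at hz)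
  have h4 : Nat.card (Sylow 3 G) = 4 := by
    have hle := Nat.le_of_dvd (by norm_num) hd
    by_contra hne
    have h1 : Nat.card (Sylow 3 G) = 1 := by
      interval_cases hc : Nat.card (Sylow 3 G) <;> omega
    haveI : Subsingleton (Sylow 3 G) := Finite.card_le_one_iff_subsingleton.1 h1.le
    haveI := P.normal_of_subsingleton
    haveI : IsCyclic (P : Subgroup G) := isCyclic_of_prime_card (hS P)
    have haut : Nat.card (MulAut (P : Subgroup G)) = 2 := by
      rw [IsCyclic.card_mulAut, hS, Nat.totient_prime (by norm_num)]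
    have hker := (MulAut.conjNormal (H := (P : Subgroup G))).ker.card_mul_index
    rw [Subgroup.index_ker, h] at hker
    have hr := Subgroup.card_subgroup_dvd_card (MulAut.conjNormal (H := (P : Subgroup G))).range
    rw [haut, Nat.dvd_prime Nat.prime_two] at hr
    have h2 : 2 ∣ Nat.card (MulAut.conjNormal (H := (P : Subgroup G))).ker := by
      rcases hr with hr | hr <;> rw [hr] at hker <;> omega
    obtain ⟨x, hx⟩ := exists_prime_orderOf_dvd_card' 2 h2
    rw [← Subgroup.orderOf_coe] at hx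
    apply hno _ _ hx hz
    have h3 := MulAut.conjNormal_apply (x : G) (⟨(z : G), z.2⟩ : (P : Subgroup G))
    rw [MonoidHom.mem_ker.1 x.2] at h3
    exact (mul_inv_eq_iff_eq_mul.1 h3.symm)
  haveI : Fintype (Sylow 3 G) := Fintype.ofFinite _
  let e : Sylow 3 G ≃ Fin 4 := Fintype.equivFinOfCardEq (by rw [← Nat.card_eq_fintype_card, h4])
  let f : G →* Equiv.Perm (Fin 4) := e.permCongrHom.toMonoidHom.comp (MulAction.toPermHom G (Sylow 3 G))
  have hinj : Function.Injective f := by
    refine e.permCongrHom.injective.comp ?_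
    rw [← MonoidHom.ker_eq_bot_iff]
    obtain ⟨K, hK⟩ : ∃ K, K = (MulAction.toPermHom G (Sylow 3 G)).ker := ⟨_, rfl⟩
    rw [← hK]
    haveI : K.Normal := hK ▸ MonoidHom.normal_ker _
    have hKN : ∀ Q : Sylow 3 G, K ≤ Subgroup.normalizer ((Q : Subgroup G) : Set G) := fun Q x hx => by
      rw [hK] at hx
      exact Sylow.smul_eq_iff_mem_normalizer.1 (Equiv.Perm.congr_fun (MonoidHom.mem_ker.1 hx) Q)
    have hN6 : Nat.card (Subgroup.normalizer ((P : Subgroup G) : Set G)) = 6 := by
      have := CfsgLib.Perm.Small.card_sylow_mul_card_normalizer P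
      rw [h4, h] at this
      omega
    have hdK : Nat.card K ∣ 6 := hN6 ▸ Subgroup.card_dvd_of_le (hKN P)
    by_contra hne
    by_cases h3 : 3 ∣ Nat.card K
    · obtain ⟨y, hy⟩ := exists_prime_orderOf_dvd_card' 3 h3
      rw [← Subgroup.orderOf_coe] at hy
      have hyQ : ∀ Q : Sylow 3 G, (y : G) ∈ (Q : Subgroup G) := by
        intro Q
        have hpg : IsPGroup 3 (Subgroup.zpowers (y : G)) := IsPGroup.of_card (n := 1) (by rw [Nat.card_zpowers, hy, pow_one])
        have hmem : (y : G) ∈ Subgroup.zpowers (y : G) ⊓ Subgroup.normalizer ((Q : Subgroup G) : Set G) :=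
          ⟨Subgroup.mem_zpowers _, hKN Q y.2⟩
        exact ((IsPGroup.inf_normalizer_sylow hpg Q).le hmem).2
      have hsub : Subsingleton (Sylow 3 G) := ⟨fun Q R => Sylow.ext (by
        have hy1 : (y : G) ≠ 1 := fun hh => by rw [hh, orderOf_one] at hy; norm_num at hy
        rw [← CfsgLib.Perm.Small.zpowers_eq_of_mem (hS Q) (hyQ Q) hy1, CfsgLib.Perm.Small.zpowers_eq_of_mem (hS R) (hyQ R) hy1])⟩
      have := Finite.card_le_one_iff_subsingleton.2 hsub
      omega
    · have h2 : Nat.card K = 2 := by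
        have hle := Nat.le_of_dvd (by norm_num) hdK
        have hpos : 1 < Nat.card K := (Subgroup.one_lt_card_iff_ne_bot K).2 hne
        interval_cases hc : Nat.card K <;> omega
      obtain ⟨x, hx⟩ := exists_prime_orderOf_dvd_card' (G := K) 2 (by rw [h2])
      rw [← Subgroup.orderOf_coe] at hx
      have hx1 : (x : G) ≠ 1 := fun hh => by rw [hh, orderOf_one] at hx; norm_num at hx
      have hgen := CfsgLib.Perm.Small.zpowers_eq_of_mem h2 x.2 hx1
      apply hno _ _ hx hz
      have hmem : (z : G) * x * (z : G)⁻¹ ∈ Subgroup.zpowers (x : G) := by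
        rw [hgen]
        exact Subgroup.Normal.conj_mem inferInstance _ x.2 _
      obtain ⟨i, hi⟩ := hmem
      have hi' : (x : G) ^ i = (z : G) * x * (z : G)⁻¹ := hi
      have hxsq : (x : G) ^ (2 : ℤ) = 1 := by
        rw [show (2 : ℤ) = ((2 : ℕ) : ℤ) from rfl, zpow_natCast, ← hx, pow_orderOf_eq_one]
      rcases Int.even_or_odd i with ⟨j, rfl⟩ | ⟨j, rfl⟩
      · rw [← two_mul, zpow_mul, hxsq, one_zpow] at hi'
        exact absurd (conj_eq_one_iff.1 hi'.symm) hx1
      · rw [zpow_add, zpow_mul, hxsq, one_zpow, one_mul, zpow_one] at hi'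
        exact eq_mul_inv_iff_mul_eq.1 hi'
  exact ⟨MulEquiv.ofBijective f ((Fintype.bijective_iff_injective_and_card (α := G) f).2 ⟨hinj, by
    rw [← Nat.card_eq_fintype_card, h, Fintype.card_perm, Fintype.card_fin]; rfl⟩)⟩

end Cfsg.Agent.S1012
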