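import Cfsg.Statements.S1004
import Mathlib
import Cfsg.Agent.Lib.Perm.Small.Card168Klein
import Cfsg.Agent.Lib.Orth.SmallQuot

set_option autoImplicit false
open Cfsg

namespace Cfsg.Agent.S1004
open scoped Pointwise

/-- Let G be a simple group of order 168 and T a Sylow 2-subgroup. Then T is dihedral of order 8, T is its own normalizer, and T is the centralizer of any non-identity element of T that commutes with every element of T. -/
theorem result {G : Type*} [Group G] [Finite G] [IsSimpleGroup G] (h : Nat.card G = 168) (T : Sylow 2 G) : Nonempty (↥(T : Subgroup G) ≃* DihedralGroup 4) ∧ Subgroup.normalizer ((T : Subgroup G) : Set G) = T ∧ ∀ z : G, z ∈ (T : Subgroup G) → z ≠ 1 → (∀ t ∈ (T : Subgroup G), t * z = z * t) → Subgroup.centralizer ({z} : Set G) = T := by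
  classical
  haveI : Fact (Nat.Prime 2) := ⟨Nat.prime_two⟩
  obtain ⟨z, hz, hz2, hzc, huniq, -⟩ := CfsgLib.Perm.Small.s168_center h T
  refine ⟨?_, CfsgLib.Perm.Small.s168_norm_two h T, fun w hw hw1 hwc => CfsgLib.Perm.Small.s168_cent_two h T hw hw1 hwc⟩
  have hcard := CfsgLib.Perm.Small.s168_klein_card_eq_two h T
  obtain ⟨⟨U, hUT, hU⟩⟩ : Nonempty {U : Subgroup G // U ≤ (T : Subgroup G) ∧ IsKleinFour ↥U} :=
    (Nat.card_pos_iff.1 (by omega)).1
  obtain ⟨-, -, r, hrU, hr1, hrz, -⟩ := CfsgLib.Perm.Small.s168_klein_in h T hU hUT hz hz2 hzc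
  obtain ⟨g, hg, hne⟩ : ∃ g ∈ (T : Subgroup G), g * r ≠ r * g := by
    by_contra hc
    push_neg at hc
    exact hrz (huniq r (hUT hrU) hr1 hc)
  refine CfsgLib.Orth.dihedral_of (CfsgLib.Perm.Small.s168_sylow_two h T)
    (r := (⟨r, hUT hrU⟩ : (T : Subgroup G))) (g := ⟨g, hg⟩) ?_ (fun he => hne (congrArg Subtype.val he))
  exact Subtype.ext ((CfsgLib.Perm.Small.s168_klein_facts hU).2 r hrU)

end Cfsg.Agent.S1004
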