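import Cfsg.Statements.S1005
import Mathlib
import Cfsg.Agent.Lib.Perm.Small.Card168Klein

set_option autoImplicit false
open Cfsg

namespace Cfsg.Agent.S1005
open scoped Pointwise

/-- In a simple group of order 168 every element has order 1, 2, 3, 4 or 7; there are exactly 21 elements of order 2, and any two of them are conjugate. -/
theorem result {G : Type*} [Group G] [Finite G] [IsSimpleGroup G] (h : Nat.card G = 168) : (∀ g : G, orderOf g = 1 ∨ orderOf g = 2 ∨ orderOf g = 3 ∨ orderOf g = 4 ∨ orderOf g = 7) ∧ Nat.card {g : G // orderOf g = 2} = 21 ∧ ∀ s t : G, orderOf s = 2 → orderOf t = 2 → IsConj s t := by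
  haveI : Fact (Nat.Prime 2) := ⟨Nat.prime_two⟩
  obtain ⟨h1, h2, -, -⟩ := CfsgLib.Perm.Small.s168_counts h
  refine ⟨fun g => ?_, h1, h2⟩
  rcases CfsgLib.Perm.Small.s168_orders h g with hg | hg | hg
  · obtain ⟨i, -, hi⟩ := (Nat.dvd_prime_pow Nat.prime_two).1 (show orderOf g ∣ 2 ^ 3 from hg)
    obtain ⟨T, hT⟩ := (IsPGroup.of_card (p := 2) (n := i) (G := Subgroup.zpowers g)
      (by rw [Nat.card_zpowers, hi])).exists_le_sylow
    obtain ⟨_, -, -, -, -, -, h4⟩ := CfsgLib.Perm.Small.s168_center h T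
    obtain ⟨j, hj, hj'⟩ := (Nat.dvd_prime_pow Nat.prime_two).1
      (show orderOf g ∣ 2 ^ 2 from h4 g (hT (Subgroup.mem_zpowers g)))
    interval_cases j <;> norm_num at hj' <;> simp [hj']
  · simp [hg]
  · simp [hg]

end Cfsg.Agent.S1005
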