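import Cfsg.Statements.S1664
import Cfsg.Agent.Lib.Char.MTwentyThreeOrder.Phase.FromTable
import Cfsg.Agent.Lib.Char.MTwentyThreeOrder.Local.SystemS
-- import your own Cfsg.Agent.* helpers here

set_option autoImplicit false
open Cfsg

namespace Cfsg.Agent.S1664

/-- The Mathieu group of degree 23 is determined by its order: a finite simple group of order 10200960 is isomorphic to the concrete M₂₃ (a point stabiliser in the group of the length-24 Golay code). -/
theorem result {G : Type*} [Group G] [Finite G] (hG : Cfsg.IsM23 G) : Cfsg.Spor.IsoM23 G := by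
  classical
  haveI := hG.1
  haveI := Fintype.ofFinite G
  exact CfsgLib.Char.MTwentyThreeOrder.isoM23_of_facts (CfsgLib.Char.MTwentyThreeOrder.exists_facts hG.2)

end Cfsg.Agent.S1664
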