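import Cfsg.Statements.S1006
import Mathlib
import Cfsg.Agent.Lib.Perm.Small.Card168Klein

set_option autoImplicit false
open Cfsg

namespace Cfsg.Agent.S1006
open scoped Pointwise

/-- In a simple group of order 168 there are 56 elements of order 3, all conjugate; 42 elements of order 4, all conjugate; and 48 elements of order 7 falling into two conjugacy classes of size 24, an element of order 7 not being conjugate to its inverse. -/
theorem result {G : Type*} [Group G] [Finite G] [IsSimpleGroup G] (h : Nat.card G = 168) : Nat.card {g : G // orderOf g = 3} = 56 ∧ (∀ s t : G, orderOf s = 3 → orderOf t = 3 → IsConj s t) ∧ Nat.card {g : G // orderOf g = 4} = 42 ∧ (∀ s t : G, orderOf s = 4 → orderOf t = 4 → IsConj s t) ∧ Nat.card {g : G // orderOf g = 7} = 48 ∧ ∀ x : G, orderOf x = 7 → Nat.card {g : G // IsConj x g} = 24 ∧ ¬ IsConj x x⁻¹ := by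
  classical
  haveI : Fact (Nat.Prime 2) := ⟨Nat.prime_two⟩
  haveI : Fact (Nat.Prime 3) := ⟨by norm_num⟩
  haveI : Fact (Nat.Prime 7) := ⟨by norm_num⟩
  haveI := Fintype.ofFinite G
  obtain ⟨-, -, h42, -⟩ := CfsgLib.Perm.Small.s168_counts h
  have h3 := CfsgLib.Perm.Small.card_orderOf_eq_prime (G := G) (p := 3) (fun P => CfsgLib.Perm.Small.s168_sylow_three h P)
  have h7 := CfsgLib.Perm.Small.card_orderOf_eq_prime (G := G) (p := 7) (fun P => CfsgLib.Perm.Small.s168_sylow_seven h P)
  rw [CfsgLib.Perm.Small.s168_n_three h] at h3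
  rw [CfsgLib.Perm.Small.s168_n_seven h] at h7
  refine ⟨h3, fun s t hs ht => ?_, h42, fun s t hs ht => CfsgLib.Perm.Small.s168_four_conj h hs ht, h7, fun x hx => ?_⟩
  · have hc := CfsgLib.Perm.Small.card_class_mul_card_centralizer s
    rw [CfsgLib.Perm.Small.s168_cent_three h hs, Nat.card_zpowers, hs, h] at hc
    haveI := Fintype.ofFinite {g : G // IsConj s g}
    haveI := Fintype.ofFinite {g : G // orderOf g = 3}
    let f : {g : G // IsConj s g} → {g : G // orderOf g = 3} := fun g => ⟨g.1, by
      obtain ⟨u, hu⟩ := isConj_iff.1 g.2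
      rw [← hu, CfsgLib.Perm.Small.orderOf_conj', hs]⟩
    have hf : Function.Bijective f := (Fintype.bijective_iff_injective_and_card f).2
      ⟨fun a b he => Subtype.ext (congrArg (fun w : {g : G // orderOf g = 3} => w.1) he),
        by rw [← Nat.card_eq_fintype_card, ← Nat.card_eq_fintype_card, h3]; omega⟩
    obtain ⟨a, ha⟩ := hf.2 ⟨t, ht⟩
    have : a.1 = t := congrArg Subtype.val ha
    exact this ▸ a.2
  · have hC := CfsgLib.Perm.Small.s168_cent_seven h hx
    refine ⟨?_, ?_⟩
    · have hc := CfsgLib.Perm.Small.card_class_mul_card_centralizer x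
      rw [hC, Nat.card_zpowers, hx, h] at hc
      omega
    · intro hconj
      obtain ⟨g, hg⟩ := isConj_iff.1 hconj
      have hgg : g * g * x * (g * g)⁻¹ = x := by
        calc g * g * x * (g * g)⁻¹ = g * (g * x * g⁻¹) * g⁻¹ := by group
          _ = g * x⁻¹ * g⁻¹ := by rw [hg]
          _ = (g * x * g⁻¹)⁻¹ := by group
          _ = x := by rw [hg, inv_inv]
      have hmem : g * g ∈ Subgroup.zpowers x := hC ▸ Subgroup.mem_centralizer_singleton_iff.2 (mul_inv_eq_iff_eq_mul.1 hgg)
      -- the element `g` normalizes the Sylow subgroup of order seven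
      obtain ⟨P, hP⟩ := (IsPGroup.of_card (p := 7) (n := 1) (G := Subgroup.zpowers x)
        (by rw [Nat.card_zpowers, hx, pow_one])).exists_le_sylow
      have heq : Subgroup.zpowers x = (P : Subgroup G) := Subgroup.eq_of_le_of_card_ge hP
        (by rw [CfsgLib.Perm.Small.s168_sylow_seven h P, Nat.card_zpowers, hx])
      have hgN : g ∈ Subgroup.normalizer ((P : Subgroup G) : Set G) := by
        rw [← heq, Subgroup.mem_normalizer_iff]
        intro y
        have hpow : ∀ i : ℤ, g * x ^ i * g⁻¹ = x ^ (-i) := fun i => by rw [← conj_zpow, hg, inv_zpow, zpow_neg]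
        constructor
        · rintro ⟨i, rfl⟩
          exact ⟨-i, (hpow i).symm⟩
        · rintro ⟨i, hi⟩
          have hi' : x ^ i = g * y * g⁻¹ := hi
          refine ⟨-i, mul_left_cancel (mul_right_cancel (b := g⁻¹) (?_ : g * x ^ (-i) * g⁻¹ = g * y * g⁻¹))⟩
          rw [hpow, neg_neg, hi']
      have hd : orderOf g ∣ 21 := by
        have hN := CfsgLib.Perm.Small.card_sylow_mul_card_normalizer P
        rw [CfsgLib.Perm.Small.s168_n_seven h, h] at hN
        have := Subgroup.orderOf_dvd_natCard _ hgN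
        rwa [show Nat.card (Subgroup.normalizer ((P : Subgroup G) : Set G)) = 21 by omega] at this
      have hgx : g ∈ Subgroup.zpowers x := by
        obtain ⟨i, hi⟩ := hmem
        have h21 : g ^ (21 : ℕ) = 1 := orderOf_dvd_iff_pow_eq_one.1 hd
        have : g = (g * g) ^ (11 : ℕ) := by
          rw [← pow_two, ← pow_mul, show 2 * 11 = 21 + 1 from rfl, pow_succ, h21, one_mul]
        rw [this]
        exact pow_mem (Subgroup.mem_zpowers_iff.2 ⟨i, hi⟩) 11
      obtain ⟨i, rfl⟩ := hgx
      rw [show x ^ i * x * (x ^ i)⁻¹ = x by group] at hg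
      have h2 : x ^ 2 = 1 := by rw [pow_two]; nth_rw 2 [hg]; exact mul_inv_cancel x
      have := orderOf_dvd_of_pow_eq_one h2
      rw [hx] at this
      norm_num at this

end Cfsg.Agent.S1006
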