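import Cfsg.Statements.S0429
import Cfsg.Agent.Lib.Spor.Srg77.Classes
import Cfsg.Agent.S0410
-- import your own Cfsg.Agent.* helpers here

set_option autoImplicit false
open Cfsg

namespace Cfsg.Agent.S0429

open Finset CfsgLib.Spor.Srg77

section

variable {V : Type*} [Fintype V] [DecidableEq V] (G : SimpleGraph V) [DecidableRel G.Adj]

/-- The points: co-cliques of 21 vertices. -/
abbrev CoPt := {C : Finset V // C ∈ cocliques G}

/-- The block of a vertex: the points containing it. -/
def blockOf (v : V) : Finset (CoPt G) := {C | v ∈ C.1}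

variable {G} (hG : G.IsSRGWith 77 16 0 4)
include hG

theorem card_blockOf (v : V) : #(blockOf G v) = 6 := by
  rw [← card_through hG v, ← card_map (Function.Embedding.subtype _)]
  congr 1
  ext C; simp [blockOf, and_comm]

theorem card_pt : Fintype.card (CoPt G) = 22 := by
  have h := sum_card_bipartiteAbove_eq_sum_card_bipartiteBelow (s := (univ : Finset V))
    (t := (univ : Finset (CoPt G))) (fun v C => v ∈ C.1)
  rw [sum_const_nat (m := 6) (fun v _ => ?_), sum_const_nat (m := 21) (fun C _ => ?_), card_univ, card_univ,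
    hG.card] at h
  · omega
  · rw [← (mem_cocliques.1 C.2).1]; congr 1; ext v; simp [bipartiteBelow]
  · exact card_blockOf hG v

theorem inter_blockOf {v w : V} (hne : v ≠ w) :
    #(blockOf G v ∩ blockOf G w) = if G.Adj v w then 0 else 2 := by
  split_ifs with h
  · rw [card_eq_zero, eq_empty_iff_forall_notMem]
    intro C hC
    simp only [blockOf, mem_inter, mem_filter, mem_univ, true_and] at hC
    exact (mem_cocliques.1 C.2).2 v hC.1 w hC.2 h
  · rw [← card_through_two hG hne h, ← card_map (Function.Embedding.subtype _)]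
    congr 1
    ext C; simp [blockOf]; tauto

theorem blockOf_injective : Function.Injective (blockOf G) := fun v w e => by
  by_contra hne
  have h := inter_blockOf hG hne
  rw [e, inter_self, card_blockOf hG] at h
  split_ifs at h <;> omega

theorem adj_iff_disjoint {v w : V} (hne : v ≠ w) : Disjoint (blockOf G v) (blockOf G w) ↔ G.Adj v w := by
  rw [disjoint_iff_inter_eq_empty, ← card_eq_zero, inter_blockOf hG hne]
  split_ifs with h <;> simp [h]

theorem steiner_blockOf : Cfsg.IsSteinerSystem 3 6 (Set.range (blockOf G)) := by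
  refine ⟨?_, ?_⟩
  · rintro _ ⟨v, rfl⟩
    exact card_blockOf hG v
  have hd : Set.PairwiseDisjoint ((univ : Finset V) : Set V) (fun v => (blockOf G v).powersetCard 3) := by
    intro v _ w _ hne
    rw [Function.onFun, disjoint_left]
    intro s hs hs'
    rw [mem_powersetCard] at hs hs'
    have h := card_le_card (subset_inter hs.1 hs'.1)
    rw [inter_blockOf hG hne, hs.2] at h
    split_ifs at h <;> omega
  have hU : (univ : Finset V).biUnion (fun v => (blockOf G v).powersetCard 3) =
      (univ : Finset (CoPt G)).powersetCard 3 := by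
    refine eq_of_subset_of_card_le (biUnion_subset.2 fun v _ => powersetCard_mono (subset_univ _)) ?_
    rw [card_biUnion hd, sum_const_nat (m := 20) (fun v _ => by rw [card_powersetCard, card_blockOf hG]; rfl),
      card_powersetCard, card_univ, card_univ, hG.card, card_pt hG]
    decide
  intro s hs
  have hs' : s ∈ (univ : Finset (CoPt G)).powersetCard 3 := mem_powersetCard.2 ⟨subset_univ _, hs⟩
  rw [← hU, mem_biUnion] at hs'
  obtain ⟨v, -, hv⟩ := hs'
  rw [mem_powersetCard] at hv
  refine ⟨blockOf G v, ⟨⟨v, rfl⟩, hv.1⟩, ?_⟩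
  rintro _ ⟨⟨w, rfl⟩, hw⟩
  by_contra hne
  have h := card_le_card (subset_inter hw hv.1)
  rw [inter_blockOf hG (fun e => hne (by rw [e])), hs] at h
  split_ifs at h <;> omega

end

/-- Uniqueness of the strongly regular graph with parameters (77, 16, 0, 4). -/
theorem result {V W : Type*} [Fintype V] [Fintype W] {G : SimpleGraph V} {H : SimpleGraph W} [DecidableRel G.Adj] [DecidableRel H.Adj] (hG : G.IsSRGWith 77 16 0 4) (hH : H.IsSRGWith 77 16 0 4) : Nonempty (G ≃g H) := by
  classical
  obtain ⟨e, he⟩ := Cfsg.Agent.S0410.result (card_pt hG) (card_pt hH) (steiner_blockOf hG) (steiner_blockOf hH)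
  have hex : ∀ v : V, ∃ w : W, blockOf H w = (blockOf G v).image e := fun v => by
    have : (blockOf G v).image e ∈ Set.range (blockOf H) := he ▸ Set.mem_image_of_mem _ ⟨v, rfl⟩
    exact this
  choose φ hφ using hex
  have hinj : Function.Injective φ := fun a b h => blockOf_injective hG
    (image_injective e.injective (by rw [← hφ, ← hφ, h]))
  have hbij : Function.Bijective φ := (Fintype.bijective_iff_injective_and_card φ).2 ⟨hinj, by rw [hG.card, hH.card]⟩
  refine ⟨⟨Equiv.ofBijective φ hbij, fun {a b} => ?_⟩⟩
  show H.Adj (φ a) (φ b) ↔ G.Adj a b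
  by_cases hab : a = b
  · simp [hab]
  rw [← adj_iff_disjoint hG hab, ← adj_iff_disjoint hH (fun h => hab (hinj h)), hφ, hφ, disjoint_image e.injective]

end Cfsg.Agent.S0429
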