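import Cfsg.Statements.S1279
import Cfsg.Agent.Lib.Invol.SolvableBalance


set_option autoImplicit false
open Cfsg

namespace Cfsg.Agent.S1279

/-- Let A be a noncyclic elementary abelian p-subgroup of the finite group G such that C_G(a) is solvable for every non-identity a ∈ A. Then a ↦ O_{p'}(C_G(a)) is a solvable A-signalizer functor on G. -/
theorem result {G : Type*} [Group G] [Finite G] (p : ℕ) [Fact p.Prime] (A : Subgroup G) (hA : Cfsg.IsElementaryAbelian p A) (hA2 : p ^ 2 ≤ Nat.card ↥A) (hsolv : ∀ a ∈ A, a ≠ 1 → Group.IsSolvable ↥(Subgroup.centralizer ({a} : Set G))) : Cfsg.IsSolvableSignalizerFunctor p A (fun a => Cfsg.centralizerPPrimeCore p a) := by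
  open CfsgLib.Coprime in
  exact (by
    have hp : p.Prime := Fact.out
    have hC : ∀ a : G, Cfsg.centralizerPPrimeCore p a ≤ Subgroup.centralizer ({a} : Set G) :=
      fun a => Subgroup.map_subtype_le _
    have hcard : ∀ a : G, ¬ p ∣ Nat.card (Cfsg.centralizerPPrimeCore p a) := by
      intro a
      rw [Cfsg.centralizerPPrimeCore, Subgroup.card_map_of_injective (Subgroup.subtype_injective _)]
      exact pPrimeCore_not_dvd hp
    have hnorm : ∀ a g : G, g ∈ Subgroup.centralizer ({a} : Set G) →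
        ∀ x ∈ Cfsg.centralizerPPrimeCore p a, g * x * g⁻¹ ∈ Cfsg.centralizerPPrimeCore p a := by
      rintro a g hg _ ⟨x, hx, rfl⟩
      haveI := (CfsgLib.Coprime.pPrimeCore_characteristic (G := ↥(Subgroup.centralizer ({a} : Set G))) p)
      exact ⟨⟨g, hg⟩ * x * ⟨g, hg⟩⁻¹, Subgroup.Normal.conj_mem inferInstance x hx _, rfl⟩
    have hAc : ∀ a ∈ A, ∀ b ∈ A, b ∈ Subgroup.centralizer ({a} : Set G) := by
      intro a ha b hb
      haveI := hA.1
      rw [Subgroup.mem_centralizer_singleton_iff]
      exact congrArg Subtype.val (mul_comm' (⟨b, hb⟩ : A) ⟨a, ha⟩)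
    refine ⟨⟨fun a _ _ => hC a, fun a _ _ => hcard a,
      fun a ha _ b hb x hx => hnorm a b (hAc a ha b hb) x hx, ?_⟩,
      fun a ha ha1 => isSolvable_of_le (hC a) (hsolv a ha ha1)⟩
    intro a ha ha1 b hb hb1
    haveI := hsolv b hb hb1
    set H := Subgroup.centralizer ({b} : Set G)
    set X := (Cfsg.centralizerPPrimeCore p a ⊓ H).subgroupOf H with hXdef
    have haH : a ∈ H := hAc b hb a ha
    have hfix : ∀ x : H, x ∈ Subgroup.centralizer (Subgroup.zpowers (⟨a, haH⟩ : H) : Set H) ↔
        (x : G) ∈ Subgroup.centralizer ({a} : Set G) := by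
      intro x
      rw [Subgroup.mem_centralizer_singleton_iff, Subgroup.mem_centralizer_iff]
      constructor
      · intro h
        exact (congrArg Subtype.val (h ⟨a, haH⟩ (Subgroup.mem_zpowers _))).symm
      · intro h y hy
        obtain ⟨n, rfl⟩ := Subgroup.mem_zpowers_iff.1 hy
        exact (Commute.zpow_left (show Commute (⟨a, haH⟩ : H) x from Subtype.ext h.symm) n).eq
    have key : X ≤ Cfsg.pPrimeCore p H := by
      refine CfsgLib.Invol.le_pPrimeCore_of_centralizer_invariant (a := (⟨a, haH⟩ : H)) ?_ ?_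
        (fun x hx => (hfix x).2 (hC a hx.1)) ?_ ?_
      · intro y
        refine ⟨1, ?_⟩
        obtain ⟨n, hn⟩ := Subgroup.mem_zpowers_iff.1 y.2
        refine Subtype.ext (Subtype.ext ?_)
        rw [pow_one]
        show ((y : H) : G) ^ p = 1
        rw [← hn, SubgroupClass.coe_zpow]
        exact hA.2 _ (zpow_mem ha n)
      · exact fun e => ha1 (congrArg Subtype.val e)
      · rw [hXdef, Nat.card_congr (Subgroup.subgroupOfEquivOfLe
          (inf_le_right : Cfsg.centralizerPPrimeCore p a ⊓ H ≤ H)).toEquiv]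
        exact fun h => hcard a (h.trans (Subgroup.card_dvd_of_le inf_le_left))
      · refine CfsgLib.Invol.le_normalizer_of_forall_conj fun g hg x hx => ?_
        exact Subgroup.mem_inf.2 ⟨hnorm a g ((hfix g).1 hg) _ hx.1, mul_mem (mul_mem g.2 hx.2) (inv_mem g.2)⟩
    have h2 := Subgroup.map_mono (f := H.subtype) key
    rw [hXdef, Subgroup.map_subgroupOf_eq_of_le inf_le_right] at h2
    exact h2)

end Cfsg.Agent.S1279
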