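import Cfsg.Statements.S4447
import Cfsg.Agent.Lib.Char.Inertia
import Cfsg.Agent.Lib.Block.Glauberman
import Cfsg.Agent.Lib.Coprime.SchurZassenhaus
-- import your own Cfsg.Agent.* helpers here

set_option autoImplicit false
open Cfsg CfsgLib.Block

namespace Cfsg.Agent.S4447

universe u v

/-- Glauberman's lemma: in a coprime situation a point of a transitive set is fixed. -/
theorem exists_fixed {Q : Type u} [Group Q] [Finite Q] {Ω : Type v} [MulAction Q Ω] {R S : Subgroup Q}
    [R.Normal] (hsup : R ⊔ S = ⊤) (hcop : (Nat.card R).Coprime (Nat.card S))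
    (hsolv : Group.IsSolvable R ∨ Group.IsSolvable S)
    (htrans : ∀ ω ω' : Ω, ∃ r ∈ R, r • ω = ω') (ω : Ω) : ∃ ω' : Ω, ∀ s ∈ S, s • ω' = ω' := by
  have hdis : R ⊓ S = ⊥ := Subgroup.inf_eq_bot_of_coprime hcop
  have hidx : R.index = Nat.card S :=
    (Subgroup.isComplement'_of_disjoint_and_mul_eq_univ (disjoint_iff.mpr hdis)
      (by rw [← Subgroup.normal_mul R S, hsup, Subgroup.coe_top])).symm.index_eq_card
  set H := MulAction.stabilizer Q ω with hH
  have hRH : R ⊔ H = ⊤ := by
    rw [eq_top_iff]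
    intro q _
    obtain ⟨r, hr, hrq⟩ := htrans ω (q • ω)
    rw [show q = r * (r⁻¹ * q) by group]
    refine mul_mem (Subgroup.mem_sup_left hr) (Subgroup.mem_sup_right ?_)
    rw [hH, MulAction.mem_stabilizer_iff, mul_smul, ← hrq, inv_smul_smul]
  have hrel : (R.subgroupOf H).index = Nat.card S := by
    have h1 : R.relIndex H = R.relIndex (R ⊔ H) := by rw [sup_comm, Subgroup.relIndex_sup_right]
    rw [hRH, Subgroup.relIndex_top_right, hidx] at h1
    exact h1
  have hcardR : Nat.card (R.subgroupOf H) ∣ Nat.card R :=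
    Subgroup.card_comap_dvd_of_injective R H.subtype Subtype.val_injective
  obtain ⟨K, hK⟩ := Subgroup.exists_right_complement'_of_coprime (N := R.subgroupOf H)
    (hrel ▸ Nat.Coprime.coprime_dvd_left hcardR hcop)
  have hKcard : Nat.card (K.map H.subtype) = R.index := by
    rw [Nat.card_congr (K.equivMapOfInjective H.subtype Subtype.val_injective).symm.toEquiv, hidx,
      ← hrel, hK.symm.index_eq_card]
  obtain ⟨x, hx, hconj⟩ := CfsgLib.Coprime.sz_conj (N := R) (H := K.map H.subtype) (K := S)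
    (hidx ▸ hcop) hKcard hidx.symm hsolv
  refine ⟨x • ω, fun s hs => ?_⟩
  rw [← hconj] at hs
  obtain ⟨k, -, hk⟩ := CfsgLib.Coprime.mem_conjBy.mp hs
  have h1 : (x⁻¹ * s * x) • ω = ω := hk ▸ k.2
  rw [mul_smul, mul_smul, inv_smul_eq_iff] at h1
  exact h1

/-- Inside a finite group Γ let S normalise G and also normalise a normal subgroup N of G, with the order of S coprime to the index of N in G and S or G/N solvable. Then for every S-invariant irreducible character χ of G, the restriction of χ to N has an S-invariant irreducible constituent. -/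
theorem result {Γ : Type*} [Group Γ] [Fintype Γ] (G S N : Subgroup Γ) [Fintype G] [Fintype N] (hnorm : ∀ s ∈ S, ∀ g ∈ G, s * g * s⁻¹ ∈ G) (hNG : N ≤ G) [hNn : (N.subgroupOf G).Normal] (hNS : ∀ s ∈ S, ∀ n ∈ N, s * n * s⁻¹ ∈ N) (hcop : (N.relIndex G).Coprime (Nat.card S)) (hsolv : Group.IsSolvable S ∨ Group.IsSolvable (G ⧸ N.subgroupOf G)) (χ : Cfsg.IrrCharacter G) (hinv : (∀ s ∈ S, ∀ g g' : G, (g' : Γ) = s * g * s⁻¹ → (χ : G → ℂ) g' = (χ : G → ℂ) g)) : ∃ θ : Cfsg.IrrCharacter N, Cfsg.classInner (fun n : N => (χ : G → ℂ) ⟨n, hNG n.2⟩) (θ : N → ℂ) ≠ 0 ∧ (∀ s ∈ S, ∀ g g' : N, (g' : Γ) = s * g * s⁻¹ → (θ : N → ℂ) g' = (θ : N → ℂ) g) := by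
  classical
  set D := G ⊔ S with hD
  have hSn : S ≤ Subgroup.normalizer (N : Set Γ) := fun s hs => by
    rw [Subgroup.mem_normalizer_iff]
    exact fun x => ⟨hNS s hs x, fun h => by simpa [mul_assoc] using hNS _ (inv_mem hs) _ h⟩
  have hGn : G ≤ Subgroup.normalizer (N : Set Γ) :=
    (Subgroup.normal_subgroupOf_iff_le_normalizer hNG).mp inferInstance
  have hSG : S ≤ Subgroup.normalizer (G : Set Γ) := fun s hs => by
    rw [Subgroup.mem_normalizer_iff]
    exact fun x => ⟨hnorm s hs x, fun h => by simpa [mul_assoc] using hnorm _ (inv_mem hs) _ h⟩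
  have hDn : D ≤ Subgroup.normalizer (N : Set Γ) := sup_le hGn hSn
  have hDG : D ≤ Subgroup.normalizer (G : Set Γ) := sup_le Subgroup.le_normalizer hSG
  have : (N.subgroupOf D).Normal := (Subgroup.normal_subgroupOf_iff_le_normalizer
    (hNG.trans le_sup_left)).mpr hDn
  have : (G.subgroupOf D).Normal := (Subgroup.normal_subgroupOf_iff_le_normalizer le_sup_left).mpr hDG
  let c : D → (N ≃* N) := fun d => cjHom (n := (d : Γ)) (K := N) (K' := N)
    fun g => Subgroup.mem_normalizer_iff.mp (hDn d.2) g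
  -- the restriction of the character is invariant
  have hres : ∀ (d : D) (g g' : G), (g' : Γ) = (d : Γ) * g * (d : Γ)⁻¹ → (χ : G → ℂ) g' = (χ : G → ℂ) g := by
    intro d
    obtain ⟨a, ha, s, hs, hd⟩ : ∃ a ∈ G, ∃ s ∈ S, a * s = (d : Γ) := by
      have h : (d : Γ) ∈ ((G ⊔ S : Subgroup Γ) : Set Γ) := d.2
      rw [Subgroup.coe_mul_of_right_le_normalizer_left G S hSG] at h
      obtain ⟨a, ha, s, hs, h⟩ := h
      exact ⟨a, ha, s, hs, h⟩
    intro g g' he
    have hm : s * (g : Γ) * s⁻¹ ∈ G := hnorm s hs g g.2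
    rw [← hinv s hs g ⟨_, hm⟩ rfl, ← CfsgLib.Char.isClassFunction_irr χ ⟨_, hm⟩ ⟨a, ha⟩]
    exact congrArg _ (Subtype.ext (by rw [he, ← hd]; simp [mul_assoc]))
  let Ω := {η : Cfsg.IrrCharacter N //
    Cfsg.classInner (fun n : N => (χ : G → ℂ) ⟨n, hNG n.2⟩) (η : N → ℂ) ≠ 0}
  let actD : MulAction D Ω :=
    { smul := fun d η => ⟨irrEquiv (c d) η.1, by
        have h : Cfsg.classInner (fun n : N => (χ : G → ℂ) ⟨n, hNG n.2⟩) (irrEquiv (c d) η.1 : N → ℂ) =
            Cfsg.classInner (fun n : N => (χ : G → ℂ) ⟨n, hNG n.2⟩) (η.1 : N → ℂ) := by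
          simp only [Cfsg.classInner]
          refine congrArg _ (Fintype.sum_equiv (c d).symm.toEquiv _ _ fun k => ?_)
          rw [irrEquiv_apply]
          refine congrArg (· * _) ?_
          refine hres d _ _ ?_
          show (k : Γ) = (d : Γ) * ((d : Γ)⁻¹ * k * d) * (d : Γ)⁻¹
          group
        rw [h]; exact η.2⟩
      one_smul := fun η => Subtype.ext (Subtype.ext (funext fun n => by
        show (η.1 : N → ℂ) ((c 1).symm n) = _
        exact congrArg _ (Subtype.ext (by simp [c, cjHom]))))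
      mul_smul := fun a b η => Subtype.ext (Subtype.ext (funext fun n => by
        show (η.1 : N → ℂ) ((c (a * b)).symm n) = (η.1 : N → ℂ) ((c b).symm ((c a).symm n))
        exact congrArg _ (Subtype.ext (by simp [c, cjHom, mul_assoc])))) }
  have hker : N.subgroupOf D ≤ (MulAction.toPermHom D Ω).ker := fun x hx => Equiv.ext fun η =>
    Subtype.ext (Subtype.ext (funext fun n => by
      show (η.1 : N → ℂ) ((c x).symm n) = (η.1 : N → ℂ) n
      rw [← CfsgLib.Char.isClassFunction_irr η.1 n (⟨(x : Γ), hx⟩⁻¹ : N)]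
      exact congrArg _ (Subtype.ext (by simp [c, cjHom]))))
  let actQ : MulAction (D ⧸ N.subgroupOf D) Ω :=
    MulAction.compHom Ω (QuotientGroup.lift (N.subgroupOf D) (MulAction.toPermHom D Ω) hker)
  set π := QuotientGroup.mk' (N.subgroupOf D)
  have hsmul : ∀ (d : D) (η : Ω), π d • η = d • η := fun d η => rfl
  set R := (G.subgroupOf D).map π with hR
  have : R.Normal := Subgroup.Normal.map inferInstance π (QuotientGroup.mk'_surjective _)
  set T := (S.subgroupOf D).map π with hT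
  have hsup : R ⊔ T = ⊤ := by
    rw [hR, hT, ← Subgroup.map_sup, ← Subgroup.subgroupOf_sup le_sup_left le_sup_right,
      Subgroup.subgroupOf_self, Subgroup.map_top_of_surjective _ (QuotientGroup.mk'_surjective _)]
  -- orders
  let ι : G →* R := ((π.comp (Subgroup.inclusion (le_sup_left : G ≤ D))).codRestrict R fun g =>
    ⟨Subgroup.inclusion le_sup_left g, g.2, rfl⟩)
  have hι : Function.Surjective ι := by
    rintro ⟨_, d, hd, rfl⟩
    exact ⟨⟨d, hd⟩, Subtype.ext rfl⟩
  have hιker : ι.ker = N.subgroupOf G := by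
    ext g
    rw [MonoidHom.mem_ker, Subtype.ext_iff]
    show π (Subgroup.inclusion le_sup_left g) = 1 ↔ _
    rw [QuotientGroup.mk'_apply, QuotientGroup.eq_one_iff]
    rfl
  let eR : G ⧸ N.subgroupOf G ≃* R :=
    (QuotientGroup.quotientMulEquivOfEq hιker.symm).trans (QuotientGroup.quotientKerEquivOfSurjective ι hι)
  have hcardR : Nat.card R = N.relIndex G := by
    rw [← Nat.card_congr eR.toEquiv]; rfl
  have hcardT : Nat.card T ∣ Nat.card S := by
    rw [← Nat.card_congr (Subgroup.subgroupOfEquivOfLe (le_sup_right : S ≤ D)).toEquiv]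
    exact Subgroup.card_map_dvd _ π
  have hsolv' : Group.IsSolvable R ∨ Group.IsSolvable T := by
    rcases hsolv with h | h
    · refine Or.inr ?_
      have : Group.IsSolvable (S.subgroupOf D) :=
        Group.isSolvable_of_isSolvable_injective (f := (Subgroup.subgroupOfEquivOfLe (le_sup_right : S ≤ D)).toMonoidHom)
          (Subgroup.subgroupOfEquivOfLe (le_sup_right : S ≤ D)).injective
      exact Group.isSolvable_of_surjective (π.subgroupMap_surjective (S.subgroupOf D))
    · exact Or.inl (Group.isSolvable_of_surjective (f := eR.toMonoidHom) eR.surjective)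
  obtain ⟨η0, hη0⟩ : ∃ η : Cfsg.IrrCharacter N,
      Cfsg.classInner (fun n : N => (χ : G → ℂ) ⟨n, hNG n.2⟩) (η : N → ℂ) ≠ 0 := by
    by_contra h
    push Not at h
    have := Fintype.ofFinite (Cfsg.IrrCharacter N)
    have hcf : Cfsg.IsClassFunction N (fun n : N => (χ : G → ℂ) ⟨n, hNG n.2⟩) :=
      fun a b => CfsgLib.Char.isClassFunction_irr χ (Subgroup.inclusion hNG a) (Subgroup.inclusion hNG b)
    have h1 := congrFun (CfsgLib.Char.classFun_expand hcf) 1
    simp only [h, zero_smul, Finset.sum_const_zero, Pi.zero_apply] at h1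
    exact CfsgLib.Char.irr_one_ne_zero χ h1
  have htrans : ∀ η η' : Ω, ∃ r ∈ R, r • η = η' := by
    intro η η'
    have := Fintype.ofFinite (N.subgroupOf G)
    let e : N.subgroupOf G ≃* N := Subgroup.subgroupOfEquivOfLe hNG
    have htr : ∀ ζ : Cfsg.IrrCharacter N,
        Cfsg.classInner (fun n : N.subgroupOf G => (χ : G → ℂ) n) (irrEquiv e.symm ζ : N.subgroupOf G → ℂ) =
        Cfsg.classInner (fun n : N => (χ : G → ℂ) ⟨n, hNG n.2⟩) (ζ : N → ℂ) := fun ζ => by
      simp only [Cfsg.classInner, Nat.card_congr e.toEquiv]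
      exact congrArg _ (Fintype.sum_equiv e.toEquiv _ _ fun k => rfl)
    by_contra hno
    push Not at hno
    refine η'.2 ?_
    rw [← htr]
    refine CfsgLib.Char.classInner_restrict_zero (N.subgroupOf G) χ.2 (irrEquiv e.symm η.1).2
      (irrEquiv e.symm η'.1).2 (by rw [htr]; exact η.2) fun g hg => ?_
    refine hno (π ⟨(g⁻¹ : G), le_sup_left (a := G) (g⁻¹).2⟩) ⟨_, (g⁻¹).2, rfl⟩ ?_
    rw [hsmul]
    refine Subtype.ext (Subtype.ext (funext fun n => ?_))
    have h1 := congrFun hg (e.symm n)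
    show (η.1 : N → ℂ) ((c ⟨(g⁻¹ : G), le_sup_left (a := G) (g⁻¹).2⟩).symm n) = (η'.1 : N → ℂ) n
    rw [CfsgLib.Char.conjFun, irrEquiv_apply, irrEquiv_apply] at h1
    rw [show e.symm.symm (e.symm n) = n from e.apply_symm_apply n] at h1
    rw [← h1]
    exact congrArg _ (Subtype.ext (by simp [c, cjHom, e]))
  obtain ⟨η, hη⟩ := exists_fixed hsup (hcardR ▸ hcop.coprime_dvd_right hcardT) hsolv' htrans ⟨η0, hη0⟩
  refine ⟨η.1, η.2, fun s hs g g' he => ?_⟩
  have h := congrFun (congrArg (fun x : Ω => (x.1 : N → ℂ))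
    (hη (π ⟨s, le_sup_right (a := G) hs⟩) ⟨_, hs, rfl⟩)) g'
  rw [← h]
  show (η.1 : N → ℂ) ((c ⟨s, le_sup_right (a := G) hs⟩).symm g') = _
  exact congrArg _ (Subtype.ext (by simp [c, cjHom, he, mul_assoc]))

end Cfsg.Agent.S4447
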