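import Cfsg.Statements.S4448
import Cfsg.Agent.Lib.Char.InvariantAbove
import Cfsg.Agent.Lib.Block.Glauberman
-- import your own Cfsg.Agent.* helpers here

set_option autoImplicit false
open Cfsg CfsgLib.Block

namespace Cfsg.Agent.S4448

universe u

variable {Γ : Type u} [Group Γ] [Fintype Γ]

/-- Conjugation by an element normalising a subgroup. -/
noncomputable def cjS (G : Subgroup Γ) {S : Subgroup Γ} (hnorm : ∀ s ∈ S, ∀ g ∈ G, s * g * s⁻¹ ∈ G) (s : S) :
    G ≃* G :=
  cjHom (n := (s : Γ)) (K := G) (K' := G) fun g =>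
    ⟨hnorm s s.2 g, fun h => by simpa [mul_assoc] using hnorm _ (inv_mem s.2) _ h⟩

theorem above_aux (n : ℕ) : ∀ (G S N : Subgroup Γ) [Fintype G] [Fintype N], Nat.card G = n →
    (∀ s ∈ S, ∀ g ∈ G, s * g * s⁻¹ ∈ G) → ∀ (hNG : N ≤ G) [(N.subgroupOf G).Normal],
    (∀ s ∈ S, ∀ n ∈ N, s * n * s⁻¹ ∈ N) → (N.relIndex G).Coprime (Nat.card S) →
    Group.IsSolvable (G ⧸ N.subgroupOf G) → ∀ θ : IrrCharacter N,
    Glauberman.GInv N S (θ : N → ℂ) → ∃ χ : IrrCharacter G,
      classInner (fun n : N => (χ : G → ℂ) ⟨n, hNG n.2⟩) (θ : N → ℂ) ≠ 0 ∧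
      Glauberman.GInv G S (χ : G → ℂ) := by
  induction n using Nat.strong_induction_on with
  | _ n ih =>
    intro G S N _ _ hn hnorm hNG _ hNS hcop hsolv θ hθ
    classical
    rcases eq_or_ne N G with rfl | hne
    · rename_i iG iN _
      obtain rfl : iG = iN := Subsingleton.elim _ _
      exact ⟨θ, by rw [CfsgLib.Char.classInner_irr_self]; exact one_ne_zero, hθ⟩
    set N' := N.subgroupOf G with hN'
    have hN'top : N' ≠ ⊤ := fun h => hne (le_antisymm hNG (Subgroup.subgroupOf_eq_top.mp h))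
    set K' : Subgroup G := N' ⊔ commutator G with hK'
    have hK'top : K' ≠ ⊤ := fun h => by
      have : Nontrivial (G ⧸ N') := by
        rw [← Finite.one_lt_card_iff_nontrivial, ← Subgroup.index_eq_card]
        exact Subgroup.one_lt_index_of_ne_top hN'top
      refine (Group.IsSolvable.commutator_lt_top_of_nontrivial (G ⧸ N')).ne (top_le_iff.mp ?_)
      intro q _
      obtain ⟨g, rfl⟩ := QuotientGroup.mk_surjective q
      obtain ⟨a, ha, b, hb, hab⟩ := Subgroup.mem_sup_of_normal_left.mp ((hK'.symm.trans h).symm ▸ Subgroup.mem_top g : g ∈ N' ⊔ commutator G)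
      rw [← hab, QuotientGroup.mk_mul, (QuotientGroup.eq_one_iff a).mpr ha, one_mul]
      rw [commutator_def] at hb ⊢
      have := Subgroup.mem_map_of_mem (QuotientGroup.mk' N') hb
      rw [Subgroup.map_commutator, Subgroup.map_top_of_surjective _ (QuotientGroup.mk'_surjective N')] at this
      exact this
    have : K'.Normal := Subgroup.sup_normal _ _
    set K := K'.map G.subtype with hK
    have hKG : K ≤ G := Subgroup.map_subtype_le _
    have hKK' : K.subgroupOf G = K' := Subgroup.comap_map_eq_self_of_injective Subtype.val_injective _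
    have hNK : N ≤ K := fun x hx => ⟨⟨x, hNG hx⟩, Subgroup.mem_sup_left hx, rfl⟩
    have hKS : ∀ s ∈ S, ∀ k ∈ K, s * k * s⁻¹ ∈ K := by
      rintro s hs _ ⟨x, hx, rfl⟩
      refine ⟨cjS G hnorm ⟨s, hs⟩ x, ?_, rfl⟩
      obtain ⟨a, ha, b, hb, rfl⟩ := Subgroup.mem_sup_of_normal_left.mp hx
      rw [map_mul]
      refine mul_mem (Subgroup.mem_sup_left ?_) (Subgroup.mem_sup_right ?_)
      · exact hNS s hs (a : Γ) ha
      · rw [← Subgroup.characteristic_iff_comap_eq.mp (inferInstance : (commutator G).Characteristic)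
          (cjS G hnorm ⟨s, hs⟩)] at hb
        exact hb
    have hlt : Nat.card K < n := by
      rw [← hn]
      refine Set.Finite.card_lt_card (Set.toFinite _) (SetLike.coe_ssubset_coe.mpr
        (lt_of_le_of_ne hKG fun h => hK'top ?_))
      rw [← hKK', h, Subgroup.subgroupOf_self]
    have : (N.subgroupOf K).Normal := ⟨fun x hx g => by
      have := Subgroup.Normal.conj_mem (inferInstance : N'.Normal) ⟨x, hKG x.2⟩ hx ⟨g, hKG g.2⟩
      exact this⟩
    have hsolvK : Group.IsSolvable (K ⧸ N.subgroupOf K) := by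
      let f : K ⧸ N.subgroupOf K →* G ⧸ N' := QuotientGroup.map _ _ (Subgroup.inclusion hKG) fun x hx => hx
      refine Group.isSolvable_of_isSolvable_injective (f := f) ((injective_iff_map_eq_one f).mpr fun q hq => ?_)
      obtain ⟨x, rfl⟩ := QuotientGroup.mk_surjective q
      have h1 : ((Subgroup.inclusion hKG x : G) : G ⧸ N') = 1 := hq
      exact (QuotientGroup.eq_one_iff (N := N.subgroupOf K) x).mpr ((QuotientGroup.eq_one_iff (Subgroup.inclusion hKG x)).mp h1 :)
    have := Fintype.ofFinite K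
    obtain ⟨ψ, hψ, hψS⟩ := ih _ hlt K S N rfl (fun s hs => hKS s hs) hNK hNS
      (hcop.of_dvd_left (Dvd.intro (K.relIndex G) (Subgroup.relIndex_mul_relIndex N K G hNK hKG)))
      hsolvK θ hθ
    -- abelian step
    have hab : ∀ a b : G, a * b * a⁻¹ * b⁻¹ ∈ K' := fun a b => Subgroup.mem_sup_right (by
      rw [← commutatorElement_def, commutator_def]
      exact Subgroup.commutator_mem_commutator (Subgroup.mem_top a) (Subgroup.mem_top b))
    let e : K' ≃* K := K'.equivMapOfInjective G.subtype Subtype.val_injective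
    let ψ' : IrrCharacter K' := irrEquiv e.symm ψ
    let Ω := {χ : IrrCharacter G // classInner (fun k : K' => (χ : G → ℂ) k) (ψ' : K' → ℂ) ≠ 0}
    let Lam := CfsgLib.Char.linearOver K'
    have hres : ∀ (l : Lam) (χ : IrrCharacter G) (k : K'),
        (CfsgLib.Char.linMul (l : G →* ℂˣ) χ : G → ℂ) k = (χ : G → ℂ) k := fun l χ k => by
      show ((l : G →* ℂˣ) k : ℂ) * _ = _
      rw [l.2 k k.2, Units.val_one, one_mul]
    let smulΩ : MulAction Lam Ω :=
      { smul := fun l χ => ⟨CfsgLib.Char.linMul (l : G →* ℂˣ) χ.1, by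
          rw [funext (hres l χ.1)]; exact χ.2⟩
        one_smul := fun χ => Subtype.ext (Subtype.ext (funext fun g => by
          show (((1 : Lam) : G →* ℂˣ) g : ℂ) * _ = _
          simp))
        mul_smul := fun a b χ => Subtype.ext (Subtype.ext (funext fun g => by
          show (((a * b : Lam) : G →* ℂˣ) g : ℂ) * _ = ((a : G →* ℂˣ) g : ℂ) * (((b : G →* ℂˣ) g : ℂ) * _)
          simp [mul_assoc])) }
    have hK'S : ∀ (s : S) (k : G), k ∈ K' ↔ (cjS G hnorm s).symm k ∈ K' := by
      intro s k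
      rw [← hKK', Subgroup.mem_subgroupOf, Subgroup.mem_subgroupOf]
      show (k : Γ) ∈ K ↔ (s : Γ)⁻¹ * k * s ∈ K
      exact ⟨fun h => by simpa using hKS _ (inv_mem s.2) _ h,
        fun h => by simpa [mul_assoc] using hKS _ s.2 _ h⟩
    let φ : S →* MulAut Lam :=
      { toFun := fun s =>
          { toFun := fun f => ⟨(f : G →* ℂˣ).comp (cjS G hnorm s).symm.toMonoidHom,
              fun k hk => f.2 _ ((hK'S s k).mp hk)⟩
            invFun := fun f => ⟨(f : G →* ℂˣ).comp (cjS G hnorm s).toMonoidHom,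
              fun k hk => f.2 _ ((hK'S s _).mpr (by simpa using hk))⟩
            left_inv := fun f => Subtype.ext (MonoidHom.ext fun g => by simp)
            right_inv := fun f => Subtype.ext (MonoidHom.ext fun g => by simp)
            map_mul' := fun a b => Subtype.ext (MonoidHom.ext fun g => rfl) }
        map_one' := MulEquiv.ext fun f => Subtype.ext (MonoidHom.ext fun g => by
          show (f : G →* ℂˣ) ((cjS G hnorm 1).symm g) = (f : G →* ℂˣ) g
          exact congrArg _ (Subtype.ext (by simp [cjS, cjHom])))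
        map_mul' := fun a b => MulEquiv.ext fun f => Subtype.ext (MonoidHom.ext fun g => by
          show (f : G →* ℂˣ) ((cjS G hnorm (a * b)).symm g) =
            (f : G →* ℂˣ) ((cjS G hnorm b).symm ((cjS G hnorm a).symm g))
          exact congrArg _ (Subtype.ext (by simp [cjS, cjHom, mul_assoc]))) }
    let cK : S → (K' ≃* K') := fun s =>
      { toFun := fun k => ⟨(cjS G hnorm s).symm k, (hK'S s k).mp k.2⟩
        invFun := fun k => ⟨cjS G hnorm s k, (hK'S s _).mpr (by simp)⟩
        left_inv := fun k => Subtype.ext (by simp)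
        right_inv := fun k => Subtype.ext (by simp)
        map_mul' := fun a b => Subtype.ext (map_mul _ (a : G) (b : G)) }
    have hψ' : ∀ (s : S) (k : K'), (ψ' : K' → ℂ) (cK s k) = (ψ' : K' → ℂ) k := fun s k => by
      show (ψ : K → ℂ) (e (cK s k)) = (ψ : K → ℂ) (e k)
      refine hψS _ (inv_mem s.2) (e k) (e (cK s k)) ?_
      show (s : Γ)⁻¹ * ((k : G) : Γ) * (s : Γ) = (s : Γ)⁻¹ * ((k : G) : Γ) * (s : Γ)⁻¹⁻¹
      rw [inv_inv]
    let act : S → Ω → Ω := fun s χ => ⟨irrEquiv (cjS G hnorm s) χ.1, by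
      have h : classInner (fun k : K' => (irrEquiv (cjS G hnorm s) χ.1 : G → ℂ) k) (ψ' : K' → ℂ) =
          classInner (fun k : K' => (χ.1 : G → ℂ) k) (ψ' : K' → ℂ) := by
        simp only [classInner]
        refine congrArg _ (Fintype.sum_equiv (cK s).toEquiv _ _ fun k => ?_)
        rw [irrEquiv_apply]
        show _ = (χ.1 : G → ℂ) (cK s k : G) * _
        rw [show ((cK s).toEquiv k) = cK s k from rfl, hψ']
        rfl
      rw [h]; exact χ.2⟩
    obtain ⟨χ0, hχ0⟩ : ∃ χ : IrrCharacter G, classInner (fun k : K' => (χ : G → ℂ) k) (ψ' : K' → ℂ) ≠ 0 := by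
      by_contra hall
      push Not at hall
      have h1 : indFun K' (ψ' : K' → ℂ) = 0 := by
        have := Fintype.ofFinite (IrrCharacter G)
        rw [CfsgLib.Char.classFun_expand (CfsgLib.Char.isClassFunction_indFun K' (ψ' : K' → ℂ))]
        refine Finset.sum_eq_zero fun χ _ => ?_
        rw [CfsgLib.Char.classInner_indFun K' (ψ' : K' → ℂ) _ (CfsgLib.Char.isClassFunction_irr χ),
          ← CfsgLib.Char.classInner_conj, hall, map_zero, zero_smul]
      have h2 := congrFun h1 1
      rw [CfsgLib.Char.indFun_one, Pi.zero_apply, mul_eq_zero] at h2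
      exact h2.elim (Nat.cast_ne_zero.mpr Subgroup.index_ne_zero_of_finite)
        (CfsgLib.Char.irr_one_ne_zero ψ')
    obtain ⟨⟨χ, hχ⟩, hfix⟩ := CfsgLib.Char.exists_fixed_of_abelian_transitive (Lam := Lam) (Ω := Ω) φ act
      (fun a b χ => Subtype.ext (Subtype.ext (funext fun g => by
        show (χ.1 : G → ℂ) ((cjS G hnorm (a * b)).symm g) =
          (χ.1 : G → ℂ) ((cjS G hnorm b).symm ((cjS G hnorm a).symm g))
        exact congrArg _ (Subtype.ext (by simp [cjS, cjHom, mul_assoc])))))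
      (fun a l χ => Subtype.ext (Subtype.ext (funext fun g => rfl)))
      (fun χ χ' => by
        obtain ⟨f, hf, hfe⟩ := CfsgLib.Char.exists_linMul_eq K' hab χ.2 χ'.2
        exact ⟨⟨f, hf⟩, Subtype.ext hfe⟩)
      (by
        rw [CfsgLib.Char.card_linearOver K' hab, ← hKK']
        exact hcop.of_dvd_left (Dvd.intro_left (N.relIndex K) (Subgroup.relIndex_mul_relIndex N K G hNK hKG)))
      ⟨χ0, hχ0⟩
    refine ⟨χ, ?_, fun s hs g g' he => ?_⟩
    · have hres2 : classInner (fun k : K => (χ : G → ℂ) ⟨k, hKG k.2⟩) (ψ : K → ℂ) ≠ 0 := by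
        refine fun h0 => hχ ?_
        rw [← h0]
        simp only [classInner, Nat.card_congr e.toEquiv]
        exact congrArg _ (Fintype.sum_equiv e.toEquiv _ _ fun k => rfl)
      have := Fintype.ofFinite (IrrCharacter K)
      have hcl : IsClassFunction K (fun k : K => (χ : G → ℂ) ⟨k, hKG k.2⟩) := fun a b =>
        CfsgLib.Char.isClassFunction_irr χ (Subgroup.inclusion hKG a) (Subgroup.inclusion hKG b)
      choose a ha using fun η : IrrCharacter K => CfsgLib.Char.classInner_char_irr_nat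
        (CfsgLib.Char.isCharacter_comp (CfsgLib.Char.isCharacter_irr χ) (Subgroup.inclusion hKG)) η
      choose b hb using fun η : IrrCharacter K => CfsgLib.Char.classInner_char_irr_nat
        (CfsgLib.Char.isCharacter_comp (CfsgLib.Char.isCharacter_irr η) (Subgroup.inclusion hNK)) θ
      have hexp : (fun n : N => (χ : G → ℂ) ⟨n, hNG n.2⟩) =
          ∑ η : IrrCharacter K, (a η : ℂ) • fun n : N => (η : K → ℂ) ⟨n, hNK n.2⟩ := funext fun n => by
        have := congrFun (CfsgLib.Char.classFun_expand hcl) ⟨n, hNK n.2⟩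
        rw [Finset.sum_apply] at this ⊢
        refine this.trans (Finset.sum_congr rfl fun η _ => ?_)
        rw [Pi.smul_apply, Pi.smul_apply, ← ha]
        rfl
      rw [hexp, CfsgLib.Char.classInner_sum_left,
        Finset.sum_congr rfl (g := fun η => ((a η * b η : ℕ) : ℂ)) fun η _ => by
          rw [CfsgLib.Char.classInner_smul_left, Nat.cast_mul, ← hb]; rfl,
        ← Nat.cast_sum, Nat.cast_ne_zero]
      have hpos : 0 < a ψ * b ψ := Nat.mul_pos
        (Nat.pos_of_ne_zero fun e' => hres2 ((ha ψ).trans (by rw [e', Nat.cast_zero])))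
        (Nat.pos_of_ne_zero fun e' => hψ ((hb ψ).trans (by rw [e', Nat.cast_zero])))
      exact (lt_of_lt_of_le hpos (Finset.single_le_sum (f := fun η => a η * b η)
        (fun _ _ => Nat.zero_le _) (Finset.mem_univ ψ))).ne'
    · have h := congrFun (congrArg (fun x : Ω => (x.1 : G → ℂ)) (hfix ⟨s, hs⟩)) g'
      rw [irrEquiv_apply] at h
      rw [← h]
      exact congrArg _ (Subtype.ext (by simp [cjS, cjHom, he, mul_assoc]))

/-- Inside a finite group Γ let S normalise G and also normalise a normal subgroup N of G, with the order of S coprime to the index of N in G and G/N solvable. Then for every S-invariant irreducible character ϑ of N, the induced character ϑ^G has an S-invariant irreducible constituent. -/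
theorem result {Γ : Type*} [Group Γ] [Fintype Γ] (G S N : Subgroup Γ) [Fintype G] [Fintype N] (hnorm : ∀ s ∈ S, ∀ g ∈ G, s * g * s⁻¹ ∈ G) (hNG : N ≤ G) [hNn : (N.subgroupOf G).Normal] (hNS : ∀ s ∈ S, ∀ n ∈ N, s * n * s⁻¹ ∈ N) (hcop : (N.relIndex G).Coprime (Nat.card S)) (hsolv : Group.IsSolvable (G ⧸ N.subgroupOf G)) (θ : Cfsg.IrrCharacter N) (hinv : (∀ s ∈ S, ∀ g g' : N, (g' : Γ) = s * g * s⁻¹ → (θ : N → ℂ) g' = (θ : N → ℂ) g)) : ∃ χ : Cfsg.IrrCharacter G, Cfsg.classInner (fun n : N => (χ : G → ℂ) ⟨n, hNG n.2⟩) (θ : N → ℂ) ≠ 0 ∧ (∀ s ∈ S, ∀ g g' : G, (g' : Γ) = s * g * s⁻¹ → (χ : G → ℂ) g' = (χ : G → ℂ) g) := by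
  exact above_aux _ G S N rfl hnorm hNG hNS hcop hsolv θ hinv

end Cfsg.Agent.S4448
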