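import Cfsg.Statements.S0720
import Cfsg.Agent.Lib.Perm.WielandtTwoP.Subdegrees
import Cfsg.Agent.Lib.PGroup.JordanPrime

set_option autoImplicit false
open Cfsg

namespace Cfsg.Agent.S0720

open Equiv CfsgLib.Perm.WielandtTwoP in
private theorem deg_four {α : Type*} [Fintype α] [DecidableEq α] (hα : Fintype.card α = 4)
    (G : Subgroup (Equiv.Perm α)) [MulAction.IsPreprimitive G α] (a₀ : α) :
    MulAction.IsMultiplyPretransitive G α 2 := by
  classical
  haveI : Nontrivial α := Fintype.one_lt_card_iff_nontrivial.1 (by omega)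
  have hbig : ∀ b, b ≠ a₀ → 2 ≤ Fintype.card (MulAction.orbit (MulAction.stabilizer G a₀) b) := by
    intro b hb
    by_contra hlt
    refine hb (eq_of_fixed_even (G := G) (by rw [Nat.card_eq_fintype_card, hα]; norm_num)
      (by rw [Nat.card_eq_fintype_card, hα]) fun g hg => ?_)
    haveI : Subsingleton (MulAction.orbit (MulAction.stabilizer G a₀) b) :=
      Fintype.card_le_one_iff_subsingleton.1 (by omega)
    exact congrArg Subtype.val (Subsingleton.elim
      (⟨g • b, ⟨g, hg⟩, rfl⟩ : MulAction.orbit (MulAction.stabilizer G a₀) b) ⟨b, MulAction.mem_orbit_self b⟩)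
  have hfix : ∀ b, b ≠ a₀ → a₀ ∉ MulAction.orbit (MulAction.stabilizer G a₀) b := by
    rintro b hb ⟨g, hg⟩
    exact hb (smul_left_cancel (g : G) (hg.trans g.2.symm))
  rw [MulAction.is_two_pretransitive_iff]
  intro a b c d hab hcd
  obtain ⟨g₁, hg₁⟩ := MulAction.exists_smul_eq G a a₀
  obtain ⟨g₂, hg₂⟩ := MulAction.exists_smul_eq G c a₀
  have hb' : g₁ • b ≠ a₀ := fun e => hab (smul_left_cancel g₁ (hg₁.trans e.symm))
  have hd' : g₂ • d ≠ a₀ := fun e => hcd (smul_left_cancel g₂ (hg₂.trans e.symm))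
  have hmem : g₂ • d ∈ MulAction.orbit (MulAction.stabilizer G a₀) (g₁ • b) := by
    by_contra hno
    have h1 := hbig _ hb'
    have h2 := hbig _ hd'
    rw [← Set.toFinset_card] at h1 h2
    obtain ⟨A, hA⟩ : ∃ A, A = (MulAction.orbit (MulAction.stabilizer G a₀) (g₁ • b)).toFinset := ⟨_, rfl⟩
    obtain ⟨B, hB⟩ : ∃ B, B = (MulAction.orbit (MulAction.stabilizer G a₀) (g₂ • d)).toFinset := ⟨_, rfl⟩
    rw [← hA] at h1; rw [← hB] at h2
    have hdis : Disjoint A B := by
      rw [Finset.disjoint_left]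
      intro z hz hz'
      rw [hA, Set.mem_toFinset] at hz
      rw [hB, Set.mem_toFinset] at hz'
      apply hno
      rw [← MulAction.orbit_eq_iff.2 hz, MulAction.orbit_eq_iff.2 hz']
      exact MulAction.mem_orbit_self _
    have hsub : A ∪ B ⊆ Finset.univ.erase a₀ := by
      intro z hz
      refine Finset.mem_erase.2 ⟨?_, Finset.mem_univ _⟩
      rintro rfl
      rcases Finset.mem_union.1 hz with e | e
      · rw [hA, Set.mem_toFinset] at e; exact hfix _ hb' e
      · rw [hB, Set.mem_toFinset] at e; exact hfix _ hd' e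
    have h3 := Finset.card_le_card hsub
    rw [Finset.card_union_of_disjoint hdis, Finset.card_erase_of_mem (Finset.mem_univ _), Finset.card_univ,
      hα] at h3
    omega
  obtain ⟨k, hk⟩ := hmem
  dsimp only at hk
  refine ⟨g₂⁻¹ * (k : G) * g₁, ?_, ?_⟩
  · rw [mul_smul, hg₁, mul_smul, show (k : G) • a₀ = a₀ from k.2, inv_smul_eq_iff, hg₂]
  · rw [mul_smul, mul_smul, show (k : G) • g₁ • b = g₂ • d from hk, inv_smul_smul]

/-- Wielandt's Theorem on primitive groups of degree `2p`: such a group is doubly transitive, or it has rank 3, `p = 2a² + 2a + 1`, and subdegrees `a(2a+1)` and `(a+1)(2a+1)`. -/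
theorem result {α : Type*} [Fintype α] [DecidableEq α] {p : ℕ} (hp : p.Prime) (hα : Fintype.card α = 2 * p) (G : Subgroup (Equiv.Perm α)) (hG : MulAction.IsPreprimitive G α) (a₀ : α) : MulAction.IsMultiplyPretransitive G α 2 ∨ (Nat.card (MulAction.orbitRel.Quotient (MulAction.stabilizer G a₀) α) = 3 ∧ ∃ a : ℕ, 0 < a ∧ p = 2 * a ^ 2 + 2 * a + 1 ∧ ∀ b : α, b ≠ a₀ → Nat.card (MulAction.orbit (MulAction.stabilizer G a₀) b) = a * (2 * a + 1) ∨ Nat.card (MulAction.orbit (MulAction.stabilizer G a₀) b) = (a + 1) * (2 * a + 1)) := by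
  haveI := hG
  haveI : Fact p.Prime := ⟨hp⟩
  by_cases hp2 : p = 2
  · exact Or.inl (deg_four (by rw [hα, hp2]) G a₀)
  have hp3 : 3 ≤ p := by have := hp.two_le; omega
  by_cases hfix : ∃ g : G, g ^ p = 1 ∧ g ≠ 1 ∧ ∃ y : α, g • y = y
  · obtain ⟨g, hgp, hg1, y, hy⟩ := hfix
    have ho : orderOf (g : Equiv.Perm α) = p :=
      orderOf_eq_prime (by simpa using congrArg Subtype.val hgp) (fun e => hg1 (Subtype.ext e))
    have hlt : (g : Equiv.Perm α).support.card < 2 * p := by
      rw [← hα]
      refine Finset.card_lt_univ_of_notMem (x := y) fun e => Equiv.Perm.mem_support.1 e ?_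
      exact hy
    have hc : (g : Equiv.Perm α).IsCycle :=
      Equiv.Perm.isCycle_of_prime_order (by rw [ho]; exact hp) (by rw [ho]; exact hlt)
    have hle : alternatingGroup α ≤ G := CfsgLib.PGroup.alternatingGroup_le_of_prime_cycle hG g.2 hc hp
      (by rw [← hc.orderOf, ho]) (by rw [Nat.card_eq_fintype_card, hα]; omega)
    refine Or.inl ?_
    haveI := alternatingGroup.isMultiplyPretransitive α
    have h2 : MulAction.IsMultiplyPretransitive (alternatingGroup α) α 2 :=
      MulAction.isMultiplyPretransitive_of_le (n := Nat.card α - 2)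
        (by rw [Nat.card_eq_fintype_card, hα]; omega) (by rw [Nat.card_eq_fintype_card, hα]; omega)
    rw [MulAction.is_two_pretransitive_iff] at h2 ⊢
    intro a b c d hab hcd
    obtain ⟨k, hk1, hk2⟩ := h2 hab hcd
    exact ⟨⟨k, hle k.2⟩, hk1, hk2⟩
  push Not at hfix
  have hdvd : p ∣ Nat.card G := by
    have h := MulAction.index_stabilizer_of_transitive G a₀
    have h' := (MulAction.stabilizer G a₀).index_dvd_card
    rw [h, Nat.card_eq_fintype_card (α := α), hα] at h'
    exact (dvd_mul_left p 2).trans h'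
  obtain ⟨x, hx⟩ := exists_prime_orderOf_dvd_card' (G := G) p hdvd
  have hxp : x ^ p = 1 := by
    have h := pow_orderOf_eq_one x
    rwa [hx] at h
  have hfree : ∀ j : ZMod p, ∀ y : α, x ^ j.val • y = y → j = 0 := by
    intro j y hy
    by_contra hj
    refine hfix (x ^ j.val) ?_ ?_ y hy
    · rw [← pow_mul, mul_comm, pow_mul, hxp, one_pow]
    · intro e
      have h := orderOf_dvd_of_pow_eq_one e
      rw [hx] at h
      exact hj ((ZMod.val_eq_zero j).1 (Nat.eq_zero_of_dvd_of_lt h j.val_lt))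
  have hadd : ∀ i j : ZMod p, x ^ (i + j).val = x ^ i.val * x ^ j.val := by
    intro i j
    have e : x ^ (i.val + j.val) = x ^ ((i.val + j.val) % p) := pow_eq_pow_mod _ hxp
    rw [← pow_add, e, ZMod.val_add]
  have hsq : ¬ p ^ 2 ∣ Nat.card G := by
    intro hd
    obtain ⟨Q, hQ⟩ := Sylow.exists_subgroup_card_pow_prime p hd
    have hinj : Function.Injective fun q : Q => (q : G) • a₀ := by
      intro q r hqr
      dsimp only at hqr
      by_contra hne
      obtain ⟨z, hz⟩ : ∃ z : Q, z = r⁻¹ * q := ⟨_, rfl⟩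
      have hz1 : z ≠ 1 := fun e => hne (inv_mul_eq_one.1 (hz.symm.trans e)).symm
      have hza : (z : G) • a₀ = a₀ := by
        rw [hz, Subgroup.coe_mul, Subgroup.coe_inv, mul_smul, inv_smul_eq_iff]; exact hqr
      have hzp : (z : G) ^ (p ^ 2) = 1 := by
        have h := pow_card_eq_one' (x := z)
        rw [hQ] at h
        simpa using congrArg Subtype.val h
      by_cases hz2 : (z : G) ^ p = 1
      · exact hfix _ hz2 (fun e => hz1 (Subtype.ext e)) a₀ hza
      · refine hfix ((z : G) ^ p) (by rw [← pow_mul, ← sq, hzp]) hz2 a₀ ?_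
        exact MulAction.mem_stabilizer_iff.1 (pow_mem (show (z : G) ∈ MulAction.stabilizer G a₀ from hza) p)
    have h := Nat.card_le_card_of_injective _ hinj
    rw [hQ, Nat.card_eq_fintype_card, hα, sq] at h
    have := Nat.le_of_mul_le_mul_right h hp.pos
    omega
  obtain ⟨a₁, ha₁⟩ : ∃ a₁ : α, ∀ j : ZMod p, x ^ j.val • a₀ ≠ a₁ := by
    by_contra hno
    push Not at hno
    have h := Fintype.card_le_of_surjective (fun j : ZMod p => x ^ j.val • a₀) hno
    rw [ZMod.card, hα] at h
    omega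
  have hinj : Function.Injective fun q : Fin 2 × ZMod p => x ^ q.2.val • ![a₀, a₁] q.1 := by
    rintro ⟨i, j⟩ ⟨l, k⟩ h
    dsimp only at h
    have h' : x ^ (j - k).val • ![a₀, a₁] i = ![a₀, a₁] l := by
      have e := hadd k (j - k)
      rw [add_sub_cancel] at e
      rw [e, mul_smul, smul_left_cancel_iff] at h
      exact h
    fin_cases i <;> fin_cases l <;> simp at h' ⊢
    · exact sub_eq_zero.1 (hfree _ _ h')
    · exact absurd h' (ha₁ _)
    · refine absurd ?_ (ha₁ (-(j - k)))
      rw [← h', ← mul_smul, ← hadd, neg_add_cancel, ZMod.val_zero, pow_zero, one_smul]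
    · exact sub_eq_zero.1 (hfree _ _ h')
  have hbij : Function.Bijective fun q : Fin 2 × ZMod p => x ^ q.2.val • ![a₀, a₁] q.1 :=
    (Fintype.bijective_iff_injective_and_card _).2 ⟨hinj, by simp [hα]⟩
  let D : CfsgLib.Perm.WielandtTwoP.Coord p G α :=
    { x := x
      e := Equiv.ofBijective _ hbij
      hx := fun i j => by
        show x • x ^ j.val • ![a₀, a₁] i = x ^ (j + 1).val • ![a₀, a₁] i
        rw [← mul_smul, add_comm, hadd, ZMod.val_one, pow_one] }
  have ho : D.o = a₀ := by
    show x ^ (0 : ZMod p).val • ![a₀, a₁] 0 = a₀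
    simp
  have hres := D.dichotomy hp2 hsq
  rw [ho] at hres
  exact hres

end Cfsg.Agent.S0720
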