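import Cfsg.Statements.S4696
import Cfsg.Agent.Lib.Block.CyclicDefect.Bridge

set_option autoImplicit false
open Cfsg

namespace Cfsg.Agent.S4696

/-- Let p be a prime, M a maximal ideal of the algebraic integers containing p, and B a p-block of the finite group G whose defect group D is cyclic of order p^a with a ≥ 1. Let C = C_G(D), let b be a block of C inducing B, let T be the stabilizer of b in N_G(D) (the elements g of N_G(D) such that the g-conjugate of every member of b is again in b), and let e be the index of C in T (the inertial index of B). Then e divides p − 1, every irreducible character in B has height zero, and B is the disjoint union of a set X of e characters and a set Y of (p^a − 1)/e characters, the members of Y agreeing on p-regular elements, for which there are signs δ_χ = ±1 (χ ∈ X) and δ₀ = ±1 such that: for every ψ ∈ Y and every p-regular g, δ₀ ψ(g) + Σ_{χ ∈ X} δ_χ χ(g)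 = 0; for all χ, χ' ∈ X the integers δ_χ χ(1) and δ_χ' χ'(1) are congruent modulo p^a; and for ψ ∈ Y and χ ∈ X, ψ(1) ≡ −e δ₀ δ_χ χ(1) modulo p^a. -/
theorem result {G : Type*} [Group G] [Finite G] (p : ℕ) [Fact p.Prime] (M : Ideal Cfsg.AlgInt) (hM : Cfsg.IsPModular p M) (D : Subgroup G) (hD : IsCyclic D) (a : ℕ) (ha : 1 ≤ a) (hDa : Nat.card D = p ^ a) (B : Set (Cfsg.IrrCharacter G)) (hB : Cfsg.IsPBlock M B) (hBD : Cfsg.IsDefectGroup p M B D) (b : Set (Cfsg.IrrCharacter (Subgroup.centralizer (D : Set G)))) (hind : Cfsg.IsInducedBlock M (Subgroup.centralizer (D : Set G)) b B) (T : Subgroup G) (hT : ∀ g : G, g ∈ T ↔ (g ∈ Subgroup.normalizer (D : Set G) ∧ ∀ θ ∈ b, ∀ θ' : Cfsg.IrrCharacter (Subgroup.centralizer (D : Set G)), (∀ h h' : Subgroup.centralizer (D : Set G), (h' : G) = g * h * g⁻¹ → (θ' : Subgroup.centralizer (D : Set G) → ℂ) h' = (θ : Subgroup.centralizer (D : Set G) → ℂ) h) → θ' ∈ b)) (e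 : ℕ) (he : (Subgroup.centralizer (D : Set G)).relIndex T = e) : e ∣ p - 1 ∧ (∀ χ ∈ B, Cfsg.blockHeight p B (χ : G → ℂ) = 0) ∧ ∃ X Y : Set (Cfsg.IrrCharacter G), B = X ∪ Y ∧ Disjoint X Y ∧ Nat.card X = e ∧ Nat.card Y = (p ^ a - 1) / e ∧ (∀ ψ ∈ Y, ∀ ψ' ∈ Y, ∀ g : G, ¬ p ∣ orderOf g → (ψ : G → ℂ) g = (ψ' : G → ℂ) g) ∧ ∃ (δ : Cfsg.IrrCharacter G → ℤ) (δ₀ : ℤ), (∀ χ ∈ X, δ χ = 1 ∨ δ χ = -1) ∧ (δ₀ = 1 ∨ δ₀ = -1) ∧ (∀ ψ ∈ Y, ∀ g : G, ¬ p ∣ orderOf g → (δ₀ : ℂ) * (ψ : G → ℂ) g + ∑ᶠ χ ∈ X, (δ χ : ℂ) * (χ : G → ℂ) g = 0) ∧ (∀ χ ∈ X, ∀ χ' ∈ X, δ χ * (Cfsg.charDegree (χ : G → ℂ) : ℤ) ≡ δ χ' * (Cfsg.charDegree (χ' : G → ℂ) : ℤ) [ZMOD (p : ℤ) ^ a]) ∧ (∀ ψ ∈ Y, ∀ χ ∈ X, (Cfsg.charDegree (ψ : G → ℂ) : ℤ) ≡ -((e : ℤ) * δ₀ * δ χ * (Cfsg.charDegree (χ : G → ℂ) : ℤ)) [ZMOD (p : ℤ) ^ a]) := by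
  classical
  have : M.IsMaximal := hM.2.1
  have := Fintype.ofFinite G
  have := Fintype.ofFinite (IrrCharacter G)
  have hD1 : D ≠ ⊥ := fun h => by
    rw [h, Subgroup.card_bot] at hDa
    exact (Nat.one_lt_pow (by omega) (Fact.out : p.Prime).one_lt).ne hDa
  obtain ⟨F, inst, S, hFB, hFP, hFe⟩ := CfsgLib.Block.CyclicDefect.exists_shape_of_data hM hB hBD hD1
    hD hind (T := T) fun g => (hT g).trans (and_congr_right fun hg =>
      CfsgLib.Block.CyclicDefect.stabilizesBlock_of_forall_iff hg)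
  have hee : F.e = e := hFe.trans he
  subst hee hFB
  have hGa : a ≤ (Nat.card G).factorization p := by
    refine ((Fact.out : p.Prime).pow_dvd_iff_le_factorization Nat.card_pos.ne').mp ?_
    exact hDa ▸ Subgroup.card_subgroup_dvd_card D
  have hpa : (p : ℤ) ^ a ∣ (p : ℤ) ^ (Nat.card G).factorization p := pow_dvd_pow _ hGa
  refine ⟨F.e_dvd, fun χ hχ => S.height_zero hχ, S.X, Set.range S.Y, ?_, ?_, S.card_X, ?_, ?_,
    S.u, S.δ, S.u_X, S.δ_sq, ?_, ?_, ?_⟩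
  · ext χ
    refine ⟨fun h => ?_, fun h => ?_⟩
    · by_cases hY : χ ∈ Set.range S.Y
      · exact Or.inr hY
      · exact Or.inl ((S.X_eq χ).mpr ⟨h, fun o ho => hY ⟨o, ho.symm⟩⟩)
    · rcases h with h | ⟨o, rfl⟩
      · exact S.X_sub h
      · exact S.Y_mem o
  · refine Set.disjoint_left.mpr fun χ hX => ?_
    rintro ⟨o, rfl⟩
    exact ((S.X_eq _).mp hX).2 o rfl
  · rw [Nat.card_range_of_injective S.Y_inj, Nat.card_eq_fintype_card, ← hDa, ← hFP,
      ← F.card_orb_mul, Nat.add_sub_cancel, Nat.mul_div_cancel _ F.e_pos]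
  · rintro _ ⟨o, rfl⟩ _ ⟨o', rfl⟩ g hg
    exact S.Y_regular o o' hg
  · rintro _ ⟨o, rfl⟩ g hg
    refine Eq.trans ?_ (S.relation o hg)
    congr 1
    rw [finsum_mem_eq_finite_toFinset_sum _ (Set.toFinite S.X)]
    exact Finset.sum_subset (Finset.subset_univ _) fun χ _ hχ => by
      rw [S.u_out χ (by simpa using hχ), Int.cast_zero, zero_mul]
  · exact fun χ hχ χ' hχ' => (Int.modEq_iff_dvd.mpr (hpa.trans (S.congr_X hχ hχ'))).symm
  · rintro _ ⟨o, rfl⟩ χ hχ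
    refine (Int.modEq_iff_dvd.mpr ?_).symm
    rw [sub_neg_eq_add]
    exact hpa.trans (S.congr_Y hχ o)

end Cfsg.Agent.S4696
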