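import Cfsg.Statements.S0041
import Cfsg.Agent.Lib.Coprime.FpfAction

set_option autoImplicit false
open Cfsg

namespace Cfsg.Agent.S0041

/-- A group acting on a nontrivial abelian group so that no nonidentity element has a nonidentity fixed point is cyclic, provided it is abelian or its order is a product of two (possibly equal) primes. -/
theorem result {G : Type*} [Group G] [Finite G] (A V : Subgroup G) [IsMulCommutative V]
    (hV : V ≠ ⊥) (hAV : A ≤ Subgroup.normalizer (V : Set G)) (hfpf : ∀ a ∈ A, a ≠ 1 → V ⊓ Subgroup.centralizer {a} = ⊥)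
    (hA : IsMulCommutative A ∨ ∃ p q : ℕ, p.Prime ∧ q.Prime ∧ Nat.card A = p * q) : IsCyclic A := by
  classical
  have h : CfsgLib.Coprime.IsFpfOn A V := hfpf
  rcases hA with hA | ⟨p, q, hp, hq, hcard⟩
  · exact h.isCyclic hAV hV
  wlog hpq : p ≤ q generalizing p q
  · exact this q p hq hp (hcard.trans (mul_comm p q)) (Nat.le_of_not_le hpq)
  rcases hpq.eq_or_lt with rfl | hlt
  · haveI := Fact.mk hp
    haveI : IsMulCommutative A :=
      ⟨⟨IsPGroup.commutative_of_card_eq_prime_sq (p := p) (hcard.trans (sq p).symm)⟩⟩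
    exact h.isCyclic hAV hV
  haveI := Fact.mk hp
  haveI := Fact.mk hq
  obtain ⟨y, hy⟩ := exists_prime_orderOf_dvd_card' (G := A) p (hcard ▸ dvd_mul_right p q)
  obtain ⟨x, hx⟩ := exists_prime_orderOf_dvd_card' (G := A) q (hcard ▸ dvd_mul_left q p)
  have hn : (Subgroup.zpowers x).Normal := by
    refine Subgroup.normal_of_index_eq_minFac_card ?_
    have h1 := (Subgroup.zpowers x).card_mul_index
    rw [Nat.card_zpowers, hx, hcard, mul_comm p q] at h1
    rw [Nat.eq_of_mul_eq_mul_left hq.pos h1, hcard]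
    refine le_antisymm ?_ (Nat.minFac_le_of_dvd hp.two_le (dvd_mul_right p q))
    have hne : p * q ≠ 1 := by simp [hp.ne_one]
    rcases (Nat.Prime.dvd_mul (Nat.minFac_prime hne)).1 (Nat.minFac_dvd _) with h2 | h2
    · exact ((Nat.prime_dvd_prime_iff_eq (Nat.minFac_prime hne) hp).1 h2).ge
    · exact ((Nat.prime_dvd_prime_iff_eq (Nat.minFac_prime hne) hq).1 h2).symm ▸ hlt.le
  have hyx : y * x * y⁻¹ ∈ Subgroup.zpowers x := hn.conj_mem _ (Subgroup.mem_zpowers x) y
  have hc : Commute (y : G) (x : G) := h.commute_of_prime hAV hV x.2 y.2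
    (by rw [Subgroup.orderOf_coe, hx]; exact hq) (by rw [Subgroup.orderOf_coe, hy]; exact hp)
    (by
      obtain ⟨i, hi⟩ := hyx
      exact ⟨i, by simpa using congrArg Subtype.val hi⟩)
  have hc' : Commute y x := Subtype.ext hc.eq
  refine isCyclic_of_orderOf_eq_card (y * x) ?_
  rw [hc'.orderOf_mul_eq_mul_orderOf_of_coprime, hy, hx, hcard]
  rw [hy, hx]
  exact (Nat.coprime_primes hp hq).2 hlt.ne

end Cfsg.Agent.S0041
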