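import Cfsg.Statements.S2507
import Cfsg.Agent.Lib.Classical.PSL2ClassSizes

set_option autoImplicit false
open Cfsg

namespace Cfsg.Agent.S2507

/-- Let F be a finite field with q = 2^f ≥ 4 elements. The conjugacy class sizes of PSL(2,F) are exactly 1, q(q − 1), q² − 1 and q(q + 1). -/
theorem result {F : Type*} [Field F] [Fintype F]
    (h2 : 2 ∣ Fintype.card F) (h4 : 4 ≤ Fintype.card F) :
    Set.range (fun g : (Matrix.ProjectiveSpecialLinearGroup (Fin 2) F) => (Subgroup.centralizer ({g} : Set (Matrix.ProjectiveSpecialLinearGroup (Fin 2) F))).index) =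
      {1, Fintype.card F * (Fintype.card F - 1), Fintype.card F ^ 2 - 1, Fintype.card F * (Fintype.card F + 1)} := by
  open CfsgLib.Classical.PSL2ClassSizes CfsgLib.PSL2Two in
  have hd : Nat.gcd 2 (Fintype.card F - 1) = 1 := by
    rw [Nat.gcd_rec, show (Fintype.card F - 1) % 2 = 1 by omega]; rfl
  open CfsgLib.Classical.PSL2ClassSizes CfsgLib.PSL2Two in
  have hu := exists_unipotent (F := F)
  rw [hd, Nat.div_one] at hu
  open CfsgLib.Classical.PSL2ClassSizes CfsgLib.PSL2Two in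
  ext m
  simp only [Set.mem_range, Set.mem_insert_iff, Set.mem_singleton_iff]
  constructor
  · rintro ⟨g, rfl⟩
    obtain ⟨A, rfl⟩ := CfsgLib.PSL2Two.π_surjective g
    rcases CfsgLib.Classical.PSL2ClassSizes.size_cases A with ⟨-, h⟩ | h | ⟨-, h, -⟩ | ⟨-, h, -⟩ | h | h
    · exact Or.inl h
    · rw [hd, Nat.div_one] at h; exact Or.inr (Or.inr (Or.inl h))
    · omega
    · omega
    · exact Or.inr (Or.inr (Or.inr h))
    · exact Or.inr (Or.inl h)
  · rintro (rfl | rfl | rfl | rfl)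
    · exact ⟨CfsgLib.PSL2Two.π 1, CfsgLib.Classical.PSL2ClassSizes.size_scalar (map_one _)⟩
    · obtain ⟨A, hA⟩ := CfsgLib.Classical.PSL2ClassSizes.exists_nonsplit (F := F) h4
      exact ⟨CfsgLib.PSL2Two.π A, hA⟩
    · obtain ⟨A, hA⟩ := hu
      exact ⟨CfsgLib.PSL2Two.π A, hA⟩
    · obtain ⟨A, hA⟩ := CfsgLib.Classical.PSL2ClassSizes.exists_split (F := F) h4 (by omega)
      exact ⟨CfsgLib.PSL2Two.π A, hA⟩

end Cfsg.Agent.S2507
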