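import Cfsg.Statements.S2508
import Cfsg.Agent.Lib.Classical.PSL2ClassSizes

set_option autoImplicit false
open Cfsg

namespace Cfsg.Agent.S2508

/-- Let F be a finite field with q elements, q odd and q ≥ 7. If q ≡ 1 (mod 4) the conjugacy class sizes of PSL(2,F) are exactly 1, (q² − 1)/2, q(q + 1)/2, q(q − 1) and q(q + 1); if q ≡ 3 (mod 4) they are exactly 1, (q² − 1)/2, q(q − 1)/2, q(q + 1) and q(q − 1). -/
theorem result {F : Type*} [Field F] [Fintype F]
    (hodd : ¬ 2 ∣ Fintype.card F) (h7 : 7 ≤ Fintype.card F) :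
    (Fintype.card F % 4 = 1 →
      Set.range (fun g : (Matrix.ProjectiveSpecialLinearGroup (Fin 2) F) => (Subgroup.centralizer ({g} : Set (Matrix.ProjectiveSpecialLinearGroup (Fin 2) F))).index) =
        {1, (Fintype.card F ^ 2 - 1) / 2, Fintype.card F * (Fintype.card F + 1) / 2,
          Fintype.card F * (Fintype.card F - 1), Fintype.card F * (Fintype.card F + 1)}) ∧
    (Fintype.card F % 4 = 3 →
      Set.range (fun g : (Matrix.ProjectiveSpecialLinearGroup (Fin 2) F) => (Subgroup.centralizer ({g} : Set (Matrix.ProjectiveSpecialLinearGroup (Fin 2) F))).index) =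
        {1, (Fintype.card F ^ 2 - 1) / 2, Fintype.card F * (Fintype.card F - 1) / 2,
          Fintype.card F * (Fintype.card F + 1), Fintype.card F * (Fintype.card F - 1)}) := by
  open CfsgLib.Classical.PSL2ClassSizes CfsgLib.PSL2Two in
  have key : ∀ h : ℕ, (Fintype.card F % 4 = 1 ∧ h = Fintype.card F * (Fintype.card F + 1) / 2) ∨
      (Fintype.card F % 4 = 3 ∧ h = Fintype.card F * (Fintype.card F - 1) / 2) →
      Set.range (fun g : (Matrix.ProjectiveSpecialLinearGroup (Fin 2) F) => (Subgroup.centralizer ({g} : Set (Matrix.ProjectiveSpecialLinearGroup (Fin 2) F))).index) =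
        {1, (Fintype.card F ^ 2 - 1) / 2, h, Fintype.card F * (Fintype.card F - 1), Fintype.card F * (Fintype.card F + 1)} := by
    intro h hh
    have hd : Nat.gcd 2 (Fintype.card F - 1) = 2 := Nat.gcd_eq_left (by omega)
    obtain ⟨J', hJ⟩ := exists_trace_zero (F := F) (by omega)
    obtain ⟨U, hU⟩ := exists_unipotent (F := F)
    obtain ⟨N, hN⟩ := exists_nonsplit (F := F) (by omega)
    obtain ⟨S, hS⟩ := exists_split (F := F) (by omega) (by omega)
    rw [hd] at hU
    ext m
    simp only [Set.mem_range, Set.mem_insert_iff, Set.mem_singleton_iff]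
    constructor
    · rintro ⟨g, rfl⟩
      obtain ⟨A, rfl⟩ := π_surjective g
      rcases size_cases A with ⟨-, e⟩ | e | ⟨ht, -, he, e⟩ | ⟨ht, -, he, e⟩ | e | e
      · exact Or.inl e
      · rw [hd] at e; exact Or.inr (Or.inl e)
      · refine Or.inr (Or.inr (Or.inl ?_))
        rcases hh with ⟨h4, rfl⟩ | ⟨h4, -⟩
        · change size A = _; omega
        · exfalso
          refine he (root_iff.2 fun a ha => ?_)
          rw [ht] at ha
          exact (FiniteField.isSquare_neg_one_iff (F := F)).1 ⟨a, by linear_combination ha⟩ h4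
      · refine Or.inr (Or.inr (Or.inl ?_))
        rcases hh with ⟨h4, -⟩ | ⟨h4, rfl⟩
        · exfalso
          obtain ⟨i, hi⟩ := (FiniteField.isSquare_neg_one_iff (F := F)).2 (by omega)
          exact CfsgLib.Char.TwoClasses.isEll_no_root he i (by rw [ht, A.det_coe]; linear_combination -hi)
        · change size A = _; omega
      · exact Or.inr (Or.inr (Or.inr (Or.inr e)))
      · exact Or.inr (Or.inr (Or.inr (Or.inl e)))
    · rintro (rfl | rfl | rfl | rfl | rfl)
      · exact ⟨π 1, size_scalar (map_one _)⟩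
      · exact ⟨π U, hU⟩
      · refine ⟨π J', ?_⟩
        change size J' = _
        rcases hh with ⟨h4, rfl⟩ | ⟨h4, rfl⟩
        · have := hJ.1 h4; omega
        · have := hJ.2 h4; omega
      · exact ⟨π N, hN⟩
      · exact ⟨π S, hS⟩
  refine ⟨fun h => key _ (Or.inl ⟨h, rfl⟩), fun h => ?_⟩
  rw [key _ (Or.inr ⟨h, rfl⟩), Set.pair_comm (Fintype.card F * (Fintype.card F - 1))]

end Cfsg.Agent.S2508
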