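import Cfsg.Statements.S0802
-- import your own Cfsg.Agent.* helpers here
import Mathlib
import Cfsg.Agent.Lib.Perm.Dickson.KleinCount

set_option autoImplicit false
set_option linter.all false
open Cfsg

namespace Cfsg.Agent.S0802

open CfsgLib.Perm.Dickson

/-- PSL_2(p^n) has a subgroup isomorphic to A_4 if and only if it is not the case that p = 2 and n is odd. -/
theorem result {F : Type*} [Field F] [Fintype F] (p n : ℕ) [Fact p.Prime] [CharP F p] (hF : Fintype.card F = p ^ n) : (∃ H : Subgroup (Matrix.ProjectiveSpecialLinearGroup (Fin 2) F), Nonempty (H ≃* alternatingGroup (Fin 4))) ↔ ¬ (p = 2 ∧ Odd n) := by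
  classical
  have hq : Nat.card F = p ^ n := by rw [Nat.card_eq_fintype_card, hF]
  constructor
  · rintro ⟨H, ⟨e⟩⟩ ⟨h2, hodd⟩
    exact not_a4_even p h2 hq hodd (up H) ((upEquiv H).symm.trans e)
  · intro h
    by_cases h2 : p = 2
    · have hev : Even n := Nat.not_odd_iff_even.1 fun ho => h ⟨h2, ho⟩
      obtain ⟨m, rfl⟩ := hev
      have hm : 1 ≤ m := by
        rcases Nat.eq_zero_or_pos m with rfl | hm
        · have := card_pos_lt (F := F); rw [hq] at this; simp at this
        · exact hm
      exact exists_a4_even p hm (by rw [hq, h2, ← two_mul, pow_mul]; norm_num)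
    · refine exists_a4_odd ?_
      rw [hq]
      exact (Nat.Prime.odd_of_ne_two Fact.out h2).pow

end Cfsg.Agent.S0802
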