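import Cfsg.Statements.S4481
import Cfsg.Agent.Lib.Block.DihedralShape

set_option autoImplicit false
open Cfsg

namespace Cfsg.Agent.S4481

namespace Aux

open CfsgLib.Block.Dihedral

theorem exists_frame {G : Type*} [Group G] [Finite G] {P : Sylow 2 G} {h : ℕ} (hh : ∃ k : ℕ, 0 < k ∧ h = 2 ^ k)
    (e : (P : Subgroup G) ≃* DihedralGroup (2 * h)) {σ : G} (hσ : σ ∈ (P : Subgroup G))
    (hσo : orderOf σ = 2 * h) : ∃ τ : G, Frame P σ τ h := by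
  obtain ⟨k, hk0, hk⟩ := hh
  have h2 : 2 ≤ h := hk ▸ le_trans (by norm_num) (Nat.pow_le_pow_right two_pos hk0)
  haveI : NeZero (2 * h) := ⟨by omega⟩
  set s : (P : Subgroup G) := ⟨σ, hσ⟩
  have hso : orderOf (e s) = 2 * h := by
    rw [MulEquiv.orderOf_eq, ← Subgroup.orderOf_coe, hσo]
  obtain ⟨a, ha⟩ : ∃ a, e s = DihedralGroup.r a := by
    cases hc : e s with
    | r a => exact ⟨a, rfl⟩
    | sr a => rw [hc, DihedralGroup.orderOf_sr] at hso; omega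
  have hgen : Subgroup.zpowers (e s) = Subgroup.zpowers (DihedralGroup.r (1 : ZMod (2 * h))) := by
    refine Subgroup.eq_of_le_of_card_ge (Subgroup.zpowers_le.2 ?_) ?_
    · rw [ha]
      exact ⟨(a.val : ℤ), by simp [zpow_natCast]⟩
    · rw [Nat.card_zpowers, Nat.card_zpowers, hso, DihedralGroup.orderOf_r_one]
  have hrot : ∀ i : ZMod (2 * h), ∃ l : ℕ, DihedralGroup.r i = (e s) ^ l := by
    intro i
    have hi : DihedralGroup.r i ∈ Subgroup.zpowers (e s) := by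
      rw [hgen]; exact ⟨(i.val : ℤ), by simp [zpow_natCast]⟩
    obtain ⟨l, hl⟩ := (mem_powers_iff_mem_zpowers).2 hi
    exact ⟨l, hl.symm⟩
  set t : (P : Subgroup G) := e.symm (.sr 0) with ht
  refine ⟨t, ⟨⟨k, hk0, hk⟩, hσ, t.2, hσo, ?_, ?_, ?_, ?_, ?_⟩⟩
  · refine congrArg Subtype.val (e.injective (?_ : e (t * t) = e 1))
    rw [map_mul, map_one, ht, e.apply_symm_apply, DihedralGroup.sr_mul_self]
  · refine congrArg Subtype.val (e.injective (?_ : e (t * s * t⁻¹) = e s⁻¹))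
    rw [map_mul, map_mul, map_inv, map_inv, ht, e.apply_symm_apply, ha, DihedralGroup.inv_sr,
      DihedralGroup.sr_mul_r, DihedralGroup.sr_mul_sr, DihedralGroup.inv_r, zero_add, zero_sub]
  · intro hz
    obtain ⟨m, hm⟩ := Subgroup.mem_zpowers_iff.1 hz
    have h1 : e s ^ m = DihedralGroup.sr 0 := by
      rw [← map_zpow, ← e.apply_symm_apply (DihedralGroup.sr 0), ← ht]
      exact congrArg e (Subtype.ext (by simpa [s] using hm))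
    rw [ha, DihedralGroup.r_zpow] at h1
    cases h1
  · rw [Nat.card_congr e.toEquiv, DihedralGroup.nat_card]; ring
  · intro x hx
    cases hc : e ⟨x, hx⟩ with
    | r i =>
      obtain ⟨l, hl⟩ := hrot i
      refine ⟨l, Or.inl ?_⟩
      refine congrArg Subtype.val (e.injective (?_ : e ⟨x, hx⟩ = e (s ^ l)))
      rw [hc, hl, map_pow]
    | sr i =>
      obtain ⟨l, hl⟩ := hrot i
      refine ⟨l, Or.inr ?_⟩
      refine congrArg Subtype.val (e.injective (?_ : e ⟨x, hx⟩ = e (t * s ^ l)))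
      rw [hc, map_mul, map_pow, ← hl, ht, e.apply_symm_apply, DihedralGroup.sr_mul_r, zero_add]

end Aux

/-- The principal 2-block of a group with dihedral Sylow 2-subgroups. Let G be a finite group whose Sylow 2-subgroup P is dihedral of order 2^n ≥ 8, let σ be an element of P of order 2^(n−1), ζ a primitive 2^(n−1)-th root of unity, and M a maximal ideal of the algebraic integers containing 2. Then the principal 2-block consists of exactly 3 + 2^(n−2) irreducible characters, which can be labelled 1, χ₁, χ₂, χ₃ and χ^(j) for 1 ≤ j ≤ 2^(n−2) − 1 (all distinct), with signs δ₁, δ₂, δ₃ such that for 0 < λ < 2^(n−1): χ₁(σ^λ) = δ₁, χ₂(σ^λ) = δ₂(−1)^(λ+1), χ₃(σ^λ) = δ₃(−1)^(λ+1) and χ^(j)(σ^λ) = δ₁(ζ^(jλ) + ζ^(−jλ)); and for every element ρ of odd order and every j: 1 + δ₁χ₁(ρ) = −δ₂χ₂(ρ) − δ₃χ₃(ρ) = δ₁χ^(j)(ρ). -/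
theorem result {G : Type*} [Group G] [Finite G] (M : Ideal Cfsg.AlgInt) (hM : Cfsg.IsPModular 2 M) (n : ℕ) (hn : 3 ≤ n) (P : Sylow 2 G) (hP : Nonempty ((P : Subgroup G) ≃* DihedralGroup (2 ^ (n - 1)))) (σ : G) (hσ : σ ∈ (P : Subgroup G)) (hσo : orderOf σ = 2 ^ (n - 1)) (ζ : ℂ) (hζ : IsPrimitiveRoot ζ (2 ^ (n - 1))) : Nat.card (Cfsg.principalBlock M G) = 3 + 2 ^ (n - 2) ∧ ∃ (χ₁ χ₂ χ₃ : Cfsg.IrrCharacter G) (χ' : Fin (2 ^ (n - 2) - 1) → Cfsg.IrrCharacter G) (δ₁ δ₂ δ₃ : ℤ), (δ₁ = 1 ∨ δ₁ = -1) ∧ (δ₂ = 1 ∨ δ₂ = -1) ∧ (δ₃ = 1 ∨ δ₃ = -1) ∧ Function.Injective χ' ∧ (χ₁ : G → ℂ) ≠ (fun _ => 1) ∧ (χ₂ : G → ℂ) ≠ (fun _ => 1) ∧ (χ₃ : G → ℂ) ≠ (fun _ => 1) ∧ χ₁ ≠ χ₂ ∧ χ₁ ≠ χ₃ ∧ χ₂ ≠ χ₃ ∧ (∀ j, χ' j ≠ χ₁ ∧ χ' j ≠ χ₂ ∧ χ' j ≠ χ₃ ∧ (χ' j : G → ℂ) ≠ (fun _ => 1)) ∧ Cfsg.principalBlock M G = {χ : Cfsg.IrrCharacter G | (χ : G → ℂ) = (fun _ => 1) ∨ χ = χ₁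 ∨ χ = χ₂ ∨ χ = χ₃ ∨ ∃ j, χ = χ' j} ∧ (∀ l : ℕ, 0 < l → l < 2 ^ (n - 1) → (χ₁ : G → ℂ) (σ ^ l) = δ₁ ∧ (χ₂ : G → ℂ) (σ ^ l) = δ₂ * (-1) ^ (l + 1) ∧ (χ₃ : G → ℂ) (σ ^ l) = δ₃ * (-1) ^ (l + 1) ∧ ∀ j : Fin (2 ^ (n - 2) - 1), (χ' j : G → ℂ) (σ ^ l) = δ₁ * (ζ ^ (((j : ℕ) + 1) * l) + (ζ ^ (((j : ℕ) + 1) * l))⁻¹)) ∧ ∀ ρ : G, Odd (orderOf ρ) → ∀ j : Fin (2 ^ (n - 2) - 1), 1 + δ₁ * (χ₁ : G → ℂ) ρ = -δ₂ * (χ₂ : G → ℂ) ρ - δ₃ * (χ₃ : G → ℂ) ρ ∧ 1 + δ₁ * (χ₁ : G → ℂ) ρ = δ₁ * (χ' j : G → ℂ) ρ := by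
  classical
  obtain ⟨m, rfl⟩ : ∃ m, n = m + 3 := ⟨n - 3, by omega⟩
  obtain ⟨e⟩ := hP
  have hN : 2 ^ (m + 3 - 1) = 2 * 2 ^ (m + 1) := by
    rw [show m + 3 - 1 = (m + 1) + 1 by omega, pow_succ']
  have hh : 2 ^ (m + 3 - 2) = 2 ^ (m + 1) := by rw [show m + 3 - 2 = m + 1 by omega]
  rw [hN] at hσo hζ ⊢
  rw [hN] at e
  rw [hh]
  obtain ⟨τ, D⟩ := Aux.exists_frame ⟨m + 1, by omega, rfl⟩ e hσ hσo
  obtain ⟨χ₁, χ₂, χ₃, χ', δ₁, δ₂, δ₃, T⟩ := D.exists_table hM hζ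
  have hone : ∀ χ : IrrCharacter G, χ ≠ CfsgLib.Block.oneChar G ↔ (χ : G → ℂ) ≠ fun _ => 1 :=
    fun χ => ⟨fun h e => h (Subtype.ext e), fun h e => h (congrArg Subtype.val e)⟩
  have hset : Cfsg.principalBlock M G = {χ : Cfsg.IrrCharacter G |
      (χ : G → ℂ) = (fun _ => 1) ∨ χ = χ₁ ∨ χ = χ₂ ∨ χ = χ₃ ∨ ∃ j, χ = χ' j} := by
    rw [T.block]
    ext χ
    simp only [Set.mem_setOf_eq]
    exact or_congr_left ⟨fun h => congrArg Subtype.val h, fun h => Subtype.ext h⟩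
  refine ⟨?_, χ₁, χ₂, χ₃, χ', δ₁, δ₂, δ₃, T.sign₁, T.sign₂, T.sign₃, T.inj, (hone _).1 T.ne₁,
    (hone _).1 T.ne₂, (hone _).1 T.ne₃, T.ne₁₂, T.ne₁₃, T.ne₂₃,
    fun j => ⟨(T.ne' j).1, (T.ne' j).2.1, (T.ne' j).2.2.1, (hone _).1 (T.ne' j).2.2.2⟩, hset, T.val,
    fun ρ hρ j => ⟨T.rel₁ ρ (by rw [← even_iff_two_dvd, Nat.not_even_iff_odd]; exact hρ),
      T.rel₂ ρ (by rw [← even_iff_two_dvd, Nat.not_even_iff_odd]; exact hρ) j⟩⟩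
  haveI := Fintype.ofFinite G
  haveI := Fintype.ofFinite (IrrCharacter G)
  have hfin : Cfsg.principalBlock M G = ↑(({CfsgLib.Block.oneChar G, χ₁, χ₂, χ₃} : Finset (IrrCharacter G)) ∪
      Finset.univ.image χ') := by
    rw [T.block]
    ext χ
    simp [eq_comm, or_assoc]
  rw [hfin, Nat.card_coe_set_eq, Set.ncard_coe_finset, Finset.card_union_of_disjoint,
    Finset.card_image_of_injective _ T.inj, Finset.card_univ, Fintype.card_fin]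
  · rw [Finset.card_insert_of_notMem (by simp [T.ne₁.symm, T.ne₂.symm, T.ne₃.symm]),
      Finset.card_insert_of_notMem (by simp [T.ne₁₂, T.ne₁₃]), Finset.card_pair T.ne₂₃]
    have := Nat.one_le_two_pow (n := m + 1)
    omega
  · rw [Finset.disjoint_left]
    intro χ hχ hχ'
    obtain ⟨j, -, rfl⟩ := Finset.mem_image.1 hχ'
    obtain ⟨a, b, c, d⟩ := T.ne' j
    simp only [Finset.mem_insert, Finset.mem_singleton] at hχ
    tauto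

end Cfsg.Agent.S4481
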