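import Cfsg.Statements.S4482
import Cfsg.Agent.Lib.Block.DihedralPairs

set_option autoImplicit false
open Cfsg

namespace Cfsg.Agent.S4482

namespace Aux

open CfsgLib CfsgLib.Block CfsgLib.Block.Dihedral
open scoped ComplexConjugate

theorem frame_of_closure {G : Type*} [Group G] [Finite G] {P : Sylow 2 G} {σ τ : G} {h : ℕ}
    (hh : ∃ k : ℕ, 0 < k ∧ h = 2 ^ k) (hσ : σ ∈ (P : Subgroup G)) (hτ : τ ∈ (P : Subgroup G))
    (hσo : orderOf σ = 2 * h) (hτo : orderOf τ = 2) (hrel : τ * σ * τ⁻¹ = σ⁻¹)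
    (hgen : Subgroup.closure ({σ, τ} : Set G) = (P : Subgroup G)) : Frame P σ τ h := by
  classical
  obtain ⟨k, hk0, hk⟩ := hh
  have h2 : 2 ≤ h := hk ▸ le_trans (by norm_num) (Nat.pow_le_pow_right two_pos hk0)
  have hττ : τ * τ = 1 := by rw [← pow_two, ← hτo, pow_orderOf_eq_one]
  have hτi : τ⁻¹ = τ := inv_eq_of_mul_eq_one_right hττ
  have hnot : τ ∉ Subgroup.zpowers σ := fun hz => by
    obtain ⟨m, rfl⟩ := Subgroup.mem_zpowers_iff.1 hz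
    rw [((Commute.refl σ).zpow_left m).eq, mul_inv_cancel_right] at hrel
    have : σ ^ 2 = 1 := by rw [pow_two]; nth_rewrite 2 [hrel]; exact mul_inv_cancel σ
    have := Nat.le_of_dvd two_pos (orderOf_dvd_of_pow_eq_one this)
    omega
  have hcj : ∀ a : ℕ, τ * σ ^ a * τ⁻¹ = (σ ^ a)⁻¹ := fun a => by rw [← conj_pow, hrel, inv_pow]
  have hinvpow : ∀ a : ℕ, ∃ b : ℕ, σ ^ b = (σ ^ a)⁻¹ := fun a => by
    obtain ⟨b, hb⟩ := mem_powers_iff_mem_zpowers.2 (inv_mem (Subgroup.npow_mem_zpowers σ a))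
    exact ⟨b, hb⟩
  have hcases : ∀ x ∈ (P : Subgroup G), ∃ l : ℕ, x = σ ^ l ∨ x = τ * σ ^ l := by
    intro x hx
    rw [← hgen] at hx
    induction hx using Subgroup.closure_induction with
    | mem y hy =>
      rcases hy with rfl | rfl
      · exact ⟨1, Or.inl (pow_one _).symm⟩
      · exact ⟨0, Or.inr (by rw [pow_zero, mul_one])⟩
    | one => exact ⟨0, Or.inl (pow_zero σ).symm⟩
    | mul y z _ _ hy hz =>
      obtain ⟨a, rfl | rfl⟩ := hy <;> obtain ⟨b, rfl | rfl⟩ := hz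
      · exact ⟨a + b, Or.inl (pow_add σ a b).symm⟩
      · obtain ⟨c, hc⟩ := hinvpow a
        refine ⟨c + b, Or.inr ?_⟩
        have key : σ ^ a * τ = τ * (σ ^ a)⁻¹ := by
          rw [← hcj a, hτi, ← mul_assoc, ← mul_assoc, hττ, one_mul]
        rw [pow_add, hc, ← mul_assoc, key, mul_assoc]
      · exact ⟨a + b, Or.inr (by rw [pow_add, mul_assoc])⟩
      · obtain ⟨c, hc⟩ := hinvpow a
        refine ⟨c + b, Or.inl ?_⟩
        rw [pow_add, hc, ← hcj a, hτi, mul_assoc (τ * σ ^ a) τ]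
    | inv y _ hy =>
      obtain ⟨a, rfl | rfl⟩ := hy
      · obtain ⟨b, hb⟩ := hinvpow a
        exact ⟨b, Or.inl hb.symm⟩
      · refine ⟨a, Or.inr ?_⟩
        rw [mul_inv_rev, ← hcj a, hτi, mul_assoc, hττ, mul_one]
  have hcard : Nat.card (P : Subgroup G) = 4 * h := by
    let f : Fin (2 * h) × Bool → (P : Subgroup G) := fun q =>
      if q.2 then ⟨σ ^ (q.1 : ℕ), pow_mem hσ _⟩ else ⟨τ * σ ^ (q.1 : ℕ), mul_mem hτ (pow_mem hσ _)⟩
    have hf : Function.Bijective f := by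
      refine ⟨?_, fun x => ?_⟩
      · have hinj : ∀ a b : Fin (2 * h), σ ^ (a : ℕ) = σ ^ (b : ℕ) → a = b := fun a b e =>
          Fin.ext (pow_injOn_Iio_orderOf (by rw [Set.mem_Iio, hσo]; exact a.2)
            (by rw [Set.mem_Iio, hσo]; exact b.2) e)
        have hmix : ∀ a b : ℕ, τ * σ ^ a ≠ σ ^ b := fun a b e => hnot (by
          rw [show τ = σ ^ b * (σ ^ a)⁻¹ by rw [← e, mul_inv_cancel_right]]
          exact mul_mem (Subgroup.npow_mem_zpowers σ b) (inv_mem (Subgroup.npow_mem_zpowers σ a)))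
        rintro ⟨a, u⟩ ⟨b, v⟩ e
        have e' := congrArg Subtype.val e
        cases u <;> cases v <;> simp only [f, Bool.false_eq_true, if_false, if_true] at e'
        · rw [hinj a b (mul_left_cancel e')]
        · exact absurd e' (hmix _ _)
        · exact absurd e'.symm (hmix _ _)
        · rw [hinj a b e']
      · obtain ⟨l, e | e⟩ := hcases x x.2
        · exact ⟨(⟨l % (2 * h), Nat.mod_lt _ (by omega)⟩, true), Subtype.ext (by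
            simp only [f, if_true]; rw [e, ← hσo, pow_mod_orderOf])⟩
        · exact ⟨(⟨l % (2 * h), Nat.mod_lt _ (by omega)⟩, false), Subtype.ext (by
            simp only [f, Bool.false_eq_true, if_false]; rw [e, ← hσo, pow_mod_orderOf])⟩
    rw [← Nat.card_eq_of_bijective f hf, Nat.card_prod, Nat.card_fin, Nat.card_eq_fintype_card,
      Fintype.card_bool]
    ring
  exact ⟨⟨k, hk0, hk⟩, hσ, hτ, hσo, hττ, hrel, hnot, hcard, hcases⟩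

/-- The character sum at the two sections. -/
theorem block_sum {G : Type*} [Group G] [Finite G] {P : Sylow 2 G} {σ τ : G} {h : ℕ} {M : Ideal AlgInt}
    (D : Frame P σ τ h) {ζ : ℂ} (hζ : IsPrimitiveRoot ζ (2 * h)) {χ₁ χ₂ χ₃ : IrrCharacter G}
    {χ' : Fin (h - 1) → IrrCharacter G} {δ₁ δ₂ δ₃ : ℤ} (T : Table M σ h ζ χ₁ χ₂ χ₃ χ' δ₁ δ₂ δ₃) :
    (∑ᶠ χ ∈ principalBlock M G, (χ : G → ℂ) (σ ^ h) * (χ : G → ℂ) (σ ^ h) *
        conj ((χ : G → ℂ) (σ ^ h)) / (χ : G → ℂ) 1) +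
      (∑ᶠ χ ∈ principalBlock M G, (χ : G → ℂ) (σ ^ h) * (χ : G → ℂ) (σ ^ h) *
        conj ((χ : G → ℂ) (σ ^ 1)) / (χ : G → ℂ) 1) =
      2 + 2 * (δ₁ : ℂ) / (χ₁ : G → ℂ) 1 - 8 * (δ₁ : ℂ) / ((χ₁ : G → ℂ) 1 + δ₁) := by
  classical
  letI := Fintype.ofFinite G
  letI := Fintype.ofFinite (IrrCharacter G)
  have h2 := D.two_le
  obtain ⟨m, hm⟩ := D.h_even
  have hζh : ζ ^ h = -1 := (hζ.pow (by omega) (by ring)).eq_neg_one_of_two_right
  have hfin : principalBlock M G = ↑(({oneChar G, χ₁, χ₂, χ₃} : Finset (IrrCharacter G)) ∪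
      Finset.univ.image χ') := by
    rw [T.block]; ext χ; simp [eq_comm, or_assoc]
  have hdisj : Disjoint ({oneChar G, χ₁, χ₂, χ₃} : Finset (IrrCharacter G)) (Finset.univ.image χ') := by
    rw [Finset.disjoint_left]
    intro χ hχ hχ'
    obtain ⟨j, -, rfl⟩ := Finset.mem_image.1 hχ'
    obtain ⟨a, b, c, d⟩ := T.ne' j
    simp only [Finset.mem_insert, Finset.mem_singleton] at hχ
    tauto
  have hsplit : ∀ f : IrrCharacter G → ℂ, ∑ᶠ χ ∈ principalBlock M G, f χ =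
      f (oneChar G) + (f χ₁ + (f χ₂ + f χ₃)) + ∑ j, f (χ' j) := fun f => by
    rw [hfin, finsum_mem_coe_finset, Finset.sum_union hdisj, Finset.sum_image (fun a _ b _ e => T.inj e),
      Finset.sum_insert (by simp [T.ne₁.symm, T.ne₂.symm, T.ne₃.symm]),
      Finset.sum_insert (by simp [T.ne₁₂, T.ne₁₃]), Finset.sum_pair T.ne₂₃]
  obtain ⟨a1, b1, c1, d1⟩ := T.val 1 one_pos (by omega)
  obtain ⟨ah, bh, ch, dh⟩ := T.val h (by omega) (by omega)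
  have hodd : (-1 : ℂ) ^ (h + 1) = -1 := by rw [pow_succ, hm, ← two_mul, pow_mul]; simp
  rw [hodd] at bh ch
  rw [show (-1 : ℂ) ^ (1 + 1) = 1 by norm_num, mul_one] at b1 c1
  have hζn : ∀ i : ℕ, ζ ^ i ≠ 0 := fun i => pow_ne_zero i (hζ.ne_zero (by omega))
  have hσh : ∀ j : Fin (h - 1), (χ' j : G → ℂ) (σ ^ h) = (δ₁ : ℂ) * (2 * (-1) ^ ((j : ℕ) + 1)) := by
    intro j
    rw [dh j, mul_comm _ h, pow_mul, hζh]
    rcases neg_one_pow_eq_or ℂ ((j : ℕ) + 1) with e | e <;> rw [e] <;> norm_num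
  have hdeg : ∀ j : Fin (h - 1), (χ' j : G → ℂ) 1 = (χ₁ : G → ℂ) 1 + δ₁ := by
    intro j
    have e := T.rel₂ 1 (by simp) j
    have hδ : (δ₁ : ℂ) * δ₁ = 1 := by rcases T.sign₁ with s | s <;> simp [s]
    linear_combination -(δ₁ : ℂ) * e + ((χ₁ : G → ℂ) 1 - (χ' j : G → ℂ) 1) * hδ
  have hsum1 : ∑ j : Fin (h - 1), (-1 : ℂ) ^ ((j : ℕ) + 1) = -1 := by
    have e : ∑ i ∈ Finset.range h, (-1 : ℂ) ^ i = 0 := by
      rw [neg_one_geom_sum, if_pos ⟨m, hm⟩]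
    rw [show h = (h - 1) + 1 by omega, Finset.sum_range_succ', pow_zero] at e
    rw [Fin.sum_univ_eq_sum_range (fun i => (-1 : ℂ) ^ (i + 1))]
    linear_combination e
  have hsum2 : ∑ j : Fin (h - 1), (ζ ^ ((j : ℕ) + 1) + (ζ ^ ((j : ℕ) + 1))⁻¹) = 0 := by
    have hinv : ∀ j : Fin (h - 1), (ζ ^ ((j : ℕ) + 1))⁻¹ = -ζ ^ ((Fin.revPerm j : ℕ) + 1) := fun j => by
      refine inv_eq_of_mul_eq_one_right ?_
      rw [mul_neg, ← pow_add, Fin.revPerm_apply, Fin.val_rev,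
        show (j : ℕ) + 1 + (h - 1 - ((j : ℕ) + 1) + 1) = h by have := j.2; omega, hζh, neg_neg]
    rw [Finset.sum_add_distrib, Finset.sum_congr rfl fun j _ => hinv j, Finset.sum_neg_distrib,
      Equiv.sum_comp Fin.revPerm (fun j : Fin (h - 1) => ζ ^ ((j : ℕ) + 1)), add_neg_cancel]
  have hconj1 : ∀ χ : IrrCharacter G, conj ((χ : G → ℂ) (σ ^ 1)) = (χ : G → ℂ) (σ ^ 1) := fun χ => by
    rw [← Char.irr_inv]
    exact Char.classFun_isConj (Char.isClassFunction_irr χ) (isConj_iff.2 ⟨τ, by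
      rw [pow_one, show τ * σ⁻¹ * τ⁻¹ = (τ * σ * τ⁻¹)⁻¹ by group, D.rel, inv_inv]⟩)
  have hconjh : ∀ χ : IrrCharacter G, conj ((χ : G → ℂ) (σ ^ h)) = (χ : G → ℂ) (σ ^ h) := fun χ => by
    rw [← Char.irr_inv, inv_eq_of_mul_eq_one_right D.sigma_h_sq]
  simp only [hconj1, hconjh]
  rw [hsplit, hsplit]
  simp only [oneChar, ah, a1, bh, ch, b1, c1, hσh, hdeg, d1, mul_one]
  have hne : ∀ χ : IrrCharacter G, (χ : G → ℂ) 1 ≠ 0 := Char.irr_one_ne_zero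
  have hδ : (δ₁ : ℂ) * δ₁ = 1 := by rcases T.sign₁ with s | s <;> simp [s]
  have hδ2 : (δ₂ : ℂ) * δ₂ = 1 := by rcases T.sign₂ with s | s <;> simp [s]
  have hδ3 : (δ₃ : ℂ) * δ₃ = 1 := by rcases T.sign₃ with s | s <;> simp [s]
  have hterm : ∀ j : Fin (h - 1),
      (δ₁ : ℂ) * (2 * (-1) ^ ((j : ℕ) + 1)) * (δ₁ * (2 * (-1) ^ ((j : ℕ) + 1))) *
          (δ₁ * (2 * (-1) ^ ((j : ℕ) + 1))) / ((χ₁ : G → ℂ) 1 + δ₁) +
        (δ₁ : ℂ) * (2 * (-1) ^ ((j : ℕ) + 1)) * (δ₁ * (2 * (-1) ^ ((j : ℕ) + 1))) *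
          (δ₁ * (ζ ^ ((j : ℕ) + 1) + (ζ ^ ((j : ℕ) + 1))⁻¹)) / ((χ₁ : G → ℂ) 1 + δ₁) =
      (4 * δ₁ / ((χ₁ : G → ℂ) 1 + δ₁)) *
        (2 * (-1) ^ ((j : ℕ) + 1) + (ζ ^ ((j : ℕ) + 1) + (ζ ^ ((j : ℕ) + 1))⁻¹)) := by
    intro j
    have hs : ((-1 : ℂ) ^ ((j : ℕ) + 1)) * (-1) ^ ((j : ℕ) + 1) = 1 := by
      rcases neg_one_pow_eq_or ℂ ((j : ℕ) + 1) with e | e <;> rw [e] <;> norm_num
    linear_combination (4 * δ₁ / ((χ₁ : G → ℂ) 1 + δ₁) *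
        (2 * (-1) ^ ((j : ℕ) + 1) + (ζ ^ ((j : ℕ) + 1) + (ζ ^ ((j : ℕ) + 1))⁻¹))) *
      (((-1 : ℂ) ^ ((j : ℕ) + 1)) * (-1) ^ ((j : ℕ) + 1) * hδ + hs)
  have htot := Finset.sum_congr rfl (s₁ := (Finset.univ : Finset (Fin (h - 1)))) fun j _ => hterm j
  rw [Finset.sum_add_distrib, ← Finset.mul_sum, Finset.sum_add_distrib, ← Finset.mul_sum, hsum1, hsum2] at htot
  have e1 : (δ₁ : ℂ) * δ₁ * δ₁ = δ₁ := by rw [hδ, one_mul]
  linear_combination htot + (2 / (χ₁ : G → ℂ) 1) * e1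

end Aux

/-- An order formula for groups with dihedral Sylow 2-subgroups and one class of involutions. Let G be a finite group whose Sylow 2-subgroup P = ⟨σ, τ⟩ is dihedral of order 2^n ≥ 8 (σ of order 2^(n−1), τ an involution inverting σ), let J be the central involution σ^(2^(n−2)), and suppose J, τ and στ are conjugate in G. Fix M over 2 and let χ₁ be an irreducible character in the principal 2-block taking one constant value δ₁ = ±1 at every non-identity power of σ, with χ₁ ≠ 1. Then, with x₁ = χ₁(1) and c(·) denoting orders of centralizers, x₁ ≠ δ₁ and #G · (x₁ − δ₁)² = 2·x₁(x₁ + δ₁)·c(J)³·(1/c(J, τ) + 1/c(J, στ))², where c(J, y) is the order of the joint centralizer of J and y. -/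
theorem result {G : Type*} [Group G] [Finite G] (M : Ideal Cfsg.AlgInt) (hM : Cfsg.IsPModular 2 M) (n : ℕ) (hn : 3 ≤ n) (P : Sylow 2 G) (σ τ : G) (hσ : σ ∈ (P : Subgroup G)) (hτ : τ ∈ (P : Subgroup G)) (hσo : orderOf σ = 2 ^ (n - 1)) (hτo : orderOf τ = 2) (hrel : τ * σ * τ⁻¹ = σ⁻¹) (hgen : Subgroup.closure ({σ, τ} : Set G) = (P : Subgroup G)) (hconj : IsConj (σ ^ (2 ^ (n - 2))) τ ∧ IsConj (σ ^ (2 ^ (n - 2))) (σ * τ)) (χ₁ : Cfsg.IrrCharacter G) (hχ₁ : χ₁ ∈ Cfsg.principalBlock M G) (h1 : (χ₁ : G → ℂ) ≠ (fun _ => 1)) (δ₁ : ℤ) (hδ₁ : δ₁ = 1 ∨ δ₁ = -1) (hval : ∀ l : ℕ, 0 < l → l < 2 ^ (n - 1) → (χ₁ : G → ℂ) (σ ^ l) = δ₁) : (Cfsg.charDegree (χ₁ : G → ℂ) : ℤ) ≠ δ₁ ∧ (Nat.card G : ℚ) * ((Cfsg.charDegree (χ₁ : G → ℂ) : ℚ) - δ₁) ^ 2 = 2 * (Cfsg.charDegree (χ₁ : G → ℂ) : ℚ) * ((Cfsg.charDegree (χ₁ : G → ℂ) : ℚ) + δ₁) * (Nat.card (Subgroup.centralizer ({σ ^ (2 ^ (n - 2))} : Set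 G)) : ℚ) ^ 3 * (1 / (Nat.card (Subgroup.centralizer ({σ ^ (2 ^ (n - 2)), τ} : Set G)) : ℚ) + 1 / (Nat.card (Subgroup.centralizer ({σ ^ (2 ^ (n - 2)), σ * τ} : Set G)) : ℚ)) ^ 2 := by
  classical
  open CfsgLib CfsgLib.Block in
  obtain ⟨m, rfl⟩ : ∃ m, n = m + 3 := ⟨n - 3, by omega⟩
  have hN : 2 ^ (m + 3 - 1) = 2 * 2 ^ (m + 1) := by
    rw [show m + 3 - 1 = (m + 1) + 1 by omega, pow_succ']
  have hh : 2 ^ (m + 3 - 2) = 2 ^ (m + 1) := by rw [show m + 3 - 2 = m + 1 by omega]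
  rw [hN] at hσo hval
  rw [hh] at hconj ⊢
  set h := 2 ^ (m + 1) with hhdef
  have D := Aux.frame_of_closure ⟨m + 1, by omega, rfl⟩ hσ hτ hσo hτo hrel hgen
  have h2 := D.two_le
  haveI := hM.2.1
  set ζ := Complex.exp (2 * Real.pi * Complex.I / ((2 * h : ℕ) : ℂ))
  have hζ : IsPrimitiveRoot ζ (2 * h) := Complex.isPrimitiveRoot_exp _ (by omega)
  obtain ⟨A, B, C, X, e₁, e₂, e₃, T⟩ := D.exists_table hM hζ
  have hid : χ₁ = A ∧ e₁ = δ₁ := by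
    have h1' := hval 1 one_pos (by omega)
    have h2' := hval 2 two_pos (by omega)
    have hh' := hval h (by omega) (by omega)
    have hbad : ∀ (χ : IrrCharacter G) (e : ℤ), (χ : G → ℂ) (σ ^ 1) = e * (-1) ^ (1 + 1) →
        (χ : G → ℂ) (σ ^ 2) = e * (-1) ^ (2 + 1) → χ₁ = χ → False := by
      intro χ e a b hc
      rw [← hc, h1'] at a
      rw [← hc, h2'] at b
      norm_num at a b
      rcases hδ₁ with rfl | rfl <;> push_cast at a b <;> rw [← a] at b <;> norm_num at b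
    have hmem : χ₁ ∈ Cfsg.principalBlock M G := hχ₁
    rw [T.block] at hmem
    rcases hmem with hc | hc | hc | hc | ⟨j, hc⟩
    · exact absurd (congrArg Subtype.val hc) h1
    · refine ⟨hc, ?_⟩
      have a := (T.val 1 one_pos (by omega)).1
      rw [← hc, h1'] at a
      exact_mod_cast a.symm
    · exact (hbad B e₂ (T.val 1 one_pos (by omega)).2.1 (T.val 2 two_pos (by omega)).2.1 hc).elim
    · exact (hbad C e₃ (T.val 1 one_pos (by omega)).2.2.1 (T.val 2 two_pos (by omega)).2.2.1 hc).elim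
    · exfalso
      have a := (T.val h (by omega) (by omega)).2.2.2 j
      rw [← hc, hh', mul_comm _ h, pow_mul,
        show ζ ^ h = -1 from (hζ.pow (by omega) (by ring)).eq_neg_one_of_two_right] at a
      rcases hδ₁ with rfl | rfl <;> rcases T.sign₁ with s | s <;>
        rcases neg_one_pow_eq_or ℂ ((j : ℕ) + 1) with e | e <;> rw [s, e] at a <;> norm_num at a
  obtain ⟨rfl, rfl⟩ := hid
  have hτσ : IsConj (σ ^ h) (τ * σ) := hconj.2.trans (isConj_iff.2 ⟨τ, by group⟩)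
  obtain ⟨F₀, F₁, hF₀, hF₁, hPJ, hPσ⟩ := D.exists_pair_data hconj.1 hτσ
  have hσ1 : σ ^ 1 ≠ 1 := fun e => by
    have := Nat.le_of_dvd one_pos (D.pow_eq_one.1 e)
    omega
  have f1 := D.pairs_formula hM (l := h) D.sigma_h_ne
  have f2 := D.pairs_formula hM hσ1
  have hS := Aux.block_sum D hζ T
  have hreg := CfsgLib.Block.Dihedral.regCard_mul (σ ^ h) D.hasNormalPComplement_J
  rw [D.factorization_centralizer D.sigma_h_ne, if_pos dvd_rfl] at hreg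
  set KJ := CfsgLib.Block.Dihedral.regCard (σ ^ h)
  have hKJ : 0 < KJ := D.regCard_pos D.sigma_h_ne
  have hKσ := D.regCard_pos hσ1
  rw [pow_one] at hKσ f2 hS
  set Kσ := CfsgLib.Block.Dihedral.regCard σ
  have hI := Subgroup.index_mul_card (Subgroup.centralizer ({σ ^ h} : Set G))
  rw [← CfsgLib.Char.card_isConj] at hI
  set I := Nat.card {x : G // IsConj (σ ^ h) x}
  set cJ := Nat.card (Subgroup.centralizer ({σ ^ h} : Set G))
  set c1 := Nat.card (Subgroup.centralizer ({σ ^ h, τ} : Set G))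
  set c2 := Nat.card (Subgroup.centralizer ({σ ^ h, σ * τ} : Set G))
  set PJ := Nat.card (CfsgLib.Block.Dihedral.pairsAt (σ ^ h) (σ ^ h))
  set Pσ := Nat.card (CfsgLib.Block.Dihedral.pairsAt (σ ^ h) σ)
  set d := Cfsg.charDegree (χ₁ : G → ℂ)
  obtain ⟨hd, hd0⟩ := CfsgLib.Block.charDegree_eq χ₁
  rw [hd] at hS
  have hG0 : (Nat.card G : ℂ) ≠ 0 := Nat.cast_ne_zero.2 Nat.card_pos.ne'
  have hKJ0 : (KJ : ℂ) ≠ 0 := Nat.cast_ne_zero.2 hKJ.ne'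
  have hKσ0 : (Kσ : ℂ) ≠ 0 := Nat.cast_ne_zero.2 hKσ.ne'
  have hI' : (I : ℂ) * cJ = Nat.card G := by exact_mod_cast hI
  have hI0 : (I : ℂ) ≠ 0 := fun e => hG0 (by rw [← hI', e, zero_mul])
  have hc1 : 0 < c1 := Nat.card_pos
  have hc2 : 0 < c2 := Nat.card_pos
  have hx0 : (d : ℂ) ≠ 0 := Nat.cast_ne_zero.2 hd0
  have hxd : (d : ℂ) + (e₁ : ℂ) ≠ 0 := by
    intro e
    have := T.rel₂ 1 (by simp) ⟨0, by omega⟩
    rw [hd] at this
    refine CfsgLib.Char.irr_one_ne_zero (X ⟨0, by omega⟩) ?_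
    have hδ : (e₁ : ℂ) * e₁ = 1 := by rcases T.sign₁ with s | s <;> simp [s]
    linear_combination (-(e₁ : ℂ)) * this + (d - ((X ⟨0, by omega⟩ : G → ℂ) 1)) * hδ + e
  -- the sum of the two sums, times the order of the group
  have hPσ' : (KJ : ℂ) * Pσ = 2 * h * F₀ * F₁ * Kσ := by exact_mod_cast hPσ
  have hPJ' : (PJ : ℂ) = h * ((F₀ : ℂ) ^ 2 + (F₁ : ℂ) ^ 2) := by exact_mod_cast hPJ
  have hF₀' : (h : ℂ) * F₀ = (cJ : ℂ) / c1 := by
    rw [eq_div_iff (Nat.cast_ne_zero.2 hc1.ne')]; exact_mod_cast hF₀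
  have hF₁' : (h : ℂ) * F₁ = (cJ : ℂ) / c2 := by
    rw [eq_div_iff (Nat.cast_ne_zero.2 hc2.ne')]; exact_mod_cast hF₁
  have hreg' : (KJ : ℂ) * (4 * h) = cJ := by exact_mod_cast hreg
  set SJ := ∑ᶠ χ ∈ Cfsg.principalBlock M G, (χ : G → ℂ) (σ ^ h) * (χ : G → ℂ) (σ ^ h) *
    (starRingEnd ℂ) ((χ : G → ℂ) (σ ^ h)) / (χ : G → ℂ) 1
  set Sσ := ∑ᶠ χ ∈ Cfsg.principalBlock M G, (χ : G → ℂ) (σ ^ h) * (χ : G → ℂ) (σ ^ h) *
    (starRingEnd ℂ) ((χ : G → ℂ) σ) / (χ : G → ℂ) 1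
  rw [← hI'] at f1 f2
  have g1 : (I : ℂ) * KJ * SJ = cJ * PJ := mul_left_cancel₀ hI0 (by linear_combination -f1)
  have g2 : (I : ℂ) * Kσ * Sσ = cJ * Pσ := mul_left_cancel₀ hI0 (by linear_combination -f2)
  have g3 : (I : ℂ) * KJ * (SJ + Sσ) = cJ * h * ((F₀ : ℂ) + F₁) ^ 2 := by
    apply mul_left_cancel₀ hKσ0
    linear_combination (Kσ : ℂ) * g1 + (KJ : ℂ) * g2 + (cJ : ℂ) * Kσ * hPJ' + (cJ : ℂ) * hPσ'
  have g4 : (Nat.card G : ℂ) * (SJ + Sσ) = 4 * cJ * ((cJ : ℂ) / c1 + cJ / c2) ^ 2 := by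
    rw [← hF₀', ← hF₁', ← hI']
    linear_combination 4 * (h : ℂ) * g3 - (I : ℂ) * (SJ + Sσ) * hreg'
  have key : (Nat.card G : ℂ) * ((d : ℂ) - e₁) ^ 2 = 2 * d * ((d : ℂ) + e₁) * (cJ : ℂ) ^ 3 *
      (1 / (c1 : ℂ) + 1 / (c2 : ℂ)) ^ 2 := by
    have hδ : (e₁ : ℂ) * e₁ = 1 := by rcases T.sign₁ with s | s <;> simp [s]
    have hS' : (d : ℂ) * ((d : ℂ) + e₁) * (SJ + Sσ) = 2 * ((d : ℂ) - e₁) ^ 2 := by
      rw [hS]
      linear_combination 2 * (e₁ : ℂ) * ((d : ℂ) + e₁) * mul_inv_cancel₀ hx0 -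
        8 * (e₁ : ℂ) * (d : ℂ) * mul_inv_cancel₀ hxd
    linear_combination (1 / 2 : ℂ) * (d : ℂ) * ((d : ℂ) + e₁) * g4 - (1 / 2 : ℂ) * (Nat.card G : ℂ) * hS'
  refine ⟨fun e => ?_, ?_⟩
  · have e' : (d : ℂ) = (e₁ : ℂ) := by exact_mod_cast e
    rw [e', sub_self, zero_pow two_ne_zero, mul_zero] at key
    have hc : (1 / (c1 : ℂ) + 1 / (c2 : ℂ)) ≠ 0 := by
      have : ((1 / (c1 : ℝ) + 1 / (c2 : ℝ) : ℝ) : ℂ) ≠ 0 := by
        rw [Complex.ofReal_ne_zero]; positivity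
      push_cast at this; exact this
    have hcJ : (cJ : ℂ) ≠ 0 := Nat.cast_ne_zero.2 Nat.card_pos.ne'
    rw [← e'] at key
    exact mul_ne_zero (mul_ne_zero (mul_ne_zero (mul_ne_zero two_ne_zero hx0) (by rwa [e'] at hxd ⊢))
      (pow_ne_zero 3 hcJ)) (pow_ne_zero 2 hc) key.symm
  · apply Rat.cast_injective (α := ℂ)
    push_cast
    exact key

end Cfsg.Agent.S4482
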