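import Cfsg.Statements.S0948
import Cfsg.Agent.Lib.Block.KleinFour
-- import your own Cfsg.Agent.* helpers here

set_option autoImplicit false
open Cfsg CfsgLib.Block
open scoped CfsgLib.Block.Pair

namespace Cfsg.Agent.S0948

/-- Let the finite group G have a Sylow 2-subgroup P that is a Klein four-group, suppose all involutions of G are conjugate, and fix a maximal ideal M of the algebraic integers containing 2. Then the principal block consists of exactly four irreducible characters, the principal character and ζ₂, ζ₃, ζ₄, and there is a sign ε such that for every involution z: ζ₂ z = 1, ζ₃ z = ε, ζ₄ z = -1; moreover ζ₂ 1 ≡ 1, ζ₃ 1 ≡ ε, ζ₄ 1 ≡ -1 (mod 4), and 1 + ζ₂ y + ε ζ₃ y - ζ₄ y = 0 for every y of odd order. -/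
theorem result {G : Type*} [Group G] [Finite G] (M : Ideal Cfsg.AlgInt) (hM : Cfsg.IsPModular 2 M) (P : Sylow 2 G) (hP : IsKleinFour (P : Subgroup G)) (hone : ∀ s t : G, orderOf s = 2 → orderOf t = 2 → IsConj s t) : ∃ ζ₂ ζ₃ ζ₄ : Cfsg.IrrCharacter G, ∃ ε : ℤ, (ε = 1 ∨ ε = -1) ∧ (ζ₂ : G → ℂ) ≠ (fun _ => 1) ∧ (ζ₃ : G → ℂ) ≠ (fun _ => 1) ∧ ζ₂ ≠ ζ₃ ∧ ζ₂ ≠ ζ₄ ∧ ζ₃ ≠ ζ₄ ∧ Cfsg.principalBlock M G = {χ : Cfsg.IrrCharacter G | (χ : G → ℂ) = (fun _ => 1) ∨ χ = ζ₂ ∨ χ = ζ₃ ∨ χ = ζ₄} ∧ (∀ z : G, orderOf z = 2 → (ζ₂ : G → ℂ) z = 1 ∧ (ζ₃ : G → ℂ) z = (ε : ℂ) ∧ (ζ₄ : G → ℂ) z = -1) ∧ (4 : ℤ) ∣ (Cfsg.charDegree (ζ₂ : G → ℂ) : ℤ) - 1 ∧ (4 : ℤ) ∣ (Cfsg.charDegree (ζ₃ : G → ℂ) : ℤ) - ε ∧ (4 : ℤ) ∣ (Cfsg.charDegree (ζ₄ : G → ℂ) : ℤ) + 1 ∧ ∀ y : G, Odd (orderOf y) → 1 + (ζ₂ : G → ℂ) y + (ε : ℂ) * (ζ₃ : G → ℂ) y - (ζ₄ : G → ℂ) y = 0 := by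
  classical
  have := hM.2.1
  letI := Fintype.ofFinite G
  have := Fintype.ofFinite (IrrCharacter G)
  have hP2 : ∀ v ∈ (P : Subgroup G), v * v = 1 := fun v hv =>
    congrArg Subtype.val (IsKleinFour.mul_self (⟨v, hv⟩ : (P : Subgroup G)))
  obtain ⟨u, hu, s, hs⟩ := exists_kleinData hM P hP.card_four hP2 hone
  set S := Finset.univ.filter (· ∈ Cfsg.principalBlock M G) with hSdef
  have hmem : ∀ {χ}, χ ∈ S ↔ χ ∈ Cfsg.principalBlock M G := fun {χ} => by simp [hSdef]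
  have hcard : S.card = 4 := by
    rw [hSdef, ← Fintype.card_subtype, ← Nat.card_eq_fintype_card]
    exact hs.card
  have h1S : oneChar G ∈ S := hmem.mpr one_mem_principalBlock
  have hsing : ∀ χ ∈ S, ∀ z : G, orderOf z = 2 → (χ : G → ℂ) z = (s χ : ℂ) := fun χ hχ z hz =>
    hs.sing χ (hmem.mp hχ) z (by rw [hz])
  have hs1 : s (oneChar G) = 1 := by
    have := hsing _ h1S u hu
    simp only [oneChar] at this
    exact_mod_cast this.symm
  have hval : ∀ χ ∈ S, s χ = 1 ∨ s χ = -1 := fun χ hχ =>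
    mul_self_eq_one_iff.mp (hs.sq χ (hmem.mp hχ))
  have horth : ∀ y : G, ¬ 2 ∣ orderOf y → ∑ χ ∈ S, (χ : G → ℂ) y * (s χ : ℂ) = 0 := fun y hy => by
    rw [← hs.orth y hy, finsum_mem_eq_toFinset_sum]
    exact Finset.sum_congr (by ext; simp [hSdef]) fun _ _ => rfl
  have hdeg := horth 1 (by simp)
  have hpos : ∀ χ : Cfsg.IrrCharacter G, 1 ≤ Cfsg.charDegree (χ : G → ℂ) := fun χ =>
    Nat.one_le_iff_ne_zero.mpr (charDegree_eq χ).2
  have hdegZ : ∑ χ ∈ S, (Cfsg.charDegree (χ : G → ℂ) : ℤ) * s χ = 0 := by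
    have : ((∑ χ ∈ S, (Cfsg.charDegree (χ : G → ℂ) : ℤ) * s χ : ℤ) : ℂ) = ((0 : ℤ) : ℂ) := by
      push_cast
      rw [← hdeg]
      exact Finset.sum_congr rfl fun χ _ => by rw [(charDegree_eq χ).1]
    exact_mod_cast this
  have hd1 : Cfsg.charDegree ((oneChar G : Cfsg.IrrCharacter G) : G → ℂ) = 1 := by
    have := (charDegree_eq (oneChar G)).1
    simp only [oneChar] at this
    exact_mod_cast this.symm
  rw [← Finset.add_sum_erase _ _ h1S, hs1, hd1] at hdegZ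
  obtain ⟨ζ₂, h2m, h2s⟩ : ∃ χ ∈ S.erase (oneChar G), s χ = 1 := by
    by_contra hall
    push Not at hall
    rw [Finset.sum_congr rfl (g := fun χ : Cfsg.IrrCharacter G => -(Cfsg.charDegree (χ : G → ℂ) : ℤ))
      fun χ hχ => by rw [(hval χ (Finset.mem_of_mem_erase hχ)).resolve_left (hall χ hχ)]; ring,
      Finset.sum_neg_distrib] at hdegZ
    have : (∑ χ ∈ S.erase (oneChar G), (1 : ℤ)) ≤
        ∑ χ ∈ S.erase (oneChar G), (Cfsg.charDegree (χ : G → ℂ) : ℤ) :=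
      Finset.sum_le_sum fun χ _ => by exact_mod_cast hpos χ
    rw [Finset.sum_const, Finset.card_erase_of_mem h1S, hcard] at this
    simp at this
    omega
  obtain ⟨ζ₄, h4m, h4s⟩ : ∃ χ ∈ S.erase (oneChar G), s χ = -1 := by
    by_contra hall
    push Not at hall
    rw [Finset.sum_congr rfl (g := fun χ : Cfsg.IrrCharacter G => (Cfsg.charDegree (χ : G → ℂ) : ℤ))
      fun χ hχ => by rw [(hval χ (Finset.mem_of_mem_erase hχ)).resolve_right (hall χ hχ)]; ring] at hdegZ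
    have : (0 : ℤ) ≤ ∑ χ ∈ S.erase (oneChar G), (Cfsg.charDegree (χ : G → ℂ) : ℤ) :=
      Finset.sum_nonneg fun χ _ => Int.natCast_nonneg _
    omega
  have h24 : ζ₂ ≠ ζ₄ := fun h => by rw [h, h4s] at h2s; norm_num at h2s
  obtain ⟨h2ne, h2S⟩ := Finset.mem_erase.mp h2m
  obtain ⟨h4ne, h4S⟩ := Finset.mem_erase.mp h4m
  have hsub : ({oneChar G, ζ₂, ζ₄} : Finset _) ⊆ S := by
    intro χ hχ
    simp only [Finset.mem_insert, Finset.mem_singleton] at hχ
    rcases hχ with rfl | rfl | rfl <;> assumption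
  obtain ⟨ζ₃, h3⟩ : ∃ z, S \ {oneChar G, ζ₂, ζ₄} = {z} := Finset.card_eq_one.mp (by
    rw [Finset.card_sdiff_of_subset hsub, hcard,
      Finset.card_insert_of_notMem (by simp [Ne.symm h2ne, Ne.symm h4ne]),
      Finset.card_insert_of_notMem (by simp [h24]), Finset.card_singleton])
  have h3' := Finset.ext_iff.mp h3
  have h3m := (h3' ζ₃).mpr (Finset.mem_singleton_self _)
  simp only [Finset.mem_sdiff, Finset.mem_insert, Finset.mem_singleton, not_or] at h3m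
  obtain ⟨h3S, h3ne, h32, h34⟩ := h3m
  have hfun : ∀ χ : Cfsg.IrrCharacter G, χ ≠ oneChar G → (χ : G → ℂ) ≠ (fun _ => 1) := fun χ h e =>
    h (Subtype.ext e)
  refine ⟨ζ₂, ζ₃, ζ₄, s ζ₃, hval _ h3S, hfun _ h2ne, hfun _ h3ne, Ne.symm h32, h24, h34, ?_,
    fun z hz => ⟨?_, hsing _ h3S z hz, ?_⟩, ?_, hs.congr _ (hmem.mp h3S), ?_, fun y hy => ?_⟩
  · ext χ
    simp only [Set.mem_setOf_eq]
    constructor
    · intro hχ
      by_contra hno
      simp only [not_or] at hno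
      have := (h3' χ).mp (by
        simp only [Finset.mem_sdiff, Finset.mem_insert, Finset.mem_singleton, not_or]
        exact ⟨hmem.mpr hχ, fun h => hno.1 (congrArg Subtype.val h), hno.2.1, hno.2.2.2⟩)
      exact hno.2.2.1 (Finset.mem_singleton.mp this)
    · rintro (h | rfl | rfl | rfl)
      · rw [show χ = oneChar G from Subtype.ext h]; exact one_mem_principalBlock
      · exact hmem.mp h2S
      · exact hmem.mp h3S
      · exact hmem.mp h4S
  · rw [hsing _ h2S z hz, h2s, Int.cast_one]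
  · rw [hsing _ h4S z hz, h4s]; norm_num
  · have := hs.congr _ (hmem.mp h2S); rwa [h2s] at this
  · have := hs.congr _ (hmem.mp h4S); rwa [h4s, sub_neg_eq_add] at this
  · have h := horth y (fun h => Nat.not_even_iff_odd.mpr hy (even_iff_two_dvd.mpr h))
    rw [← Finset.sum_sdiff hsub, h3, Finset.sum_singleton,
      Finset.sum_insert (by simp [Ne.symm h2ne, Ne.symm h4ne]), Finset.sum_pair h24, hs1, h2s,
      h4s] at h
    simp only [oneChar, Int.cast_one, Int.cast_neg, mul_one] at h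
    linear_combination h

end Cfsg.Agent.S0948
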