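import Cfsg.Statements.S4480
import Cfsg.Agent.Lib.Block.KleinOrder
-- import your own Cfsg.Agent.* helpers here

set_option autoImplicit false
open Cfsg CfsgLib.Block

open Cfsg

namespace Cfsg.Agent.S4480

/-- Same setting as the Klein-four order formula: G of order 4·g₀ (g₀ odd) with no normal 2-complement, P a Sylow 2-subgroup, J an involution of P, M over 2, principal 2-block {1, χ₁, χ₂, χ₃} with χ_i(J) = ε_i = ±1. Suppose ε₁ε₂ε₃ = −1 and ε₃ = −1, and put q = x₃ = χ₃(1). Then there is a natural number m with 4·c(J) = m·c(P)·(q + 1), and the order of G equals (m³·c(P)/4)·(q³ − q)/2, that is 8·#G = m³·c(P)·(q³ − q). -/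
theorem result {G : Type*} [Group G] [Finite G] (M : Ideal Cfsg.AlgInt) (hM : Cfsg.IsPModular 2 M) (g₀ : ℕ) (hg₀ : Odd g₀) (hG : Nat.card G = 4 * g₀) (hnc : ¬ ∃ N : Subgroup G, N.Normal ∧ Nat.card N = g₀) (P : Sylow 2 G) (J : G) (hJ : J ∈ (P : Subgroup G)) (hJ2 : orderOf J = 2) (χ₁ χ₂ χ₃ : Cfsg.IrrCharacter G) (ε₁ ε₂ ε₃ : ℤ) (hB : Cfsg.principalBlock M G = {χ : Cfsg.IrrCharacter G | (χ : G → ℂ) = (fun _ => 1) ∨ χ = χ₁ ∨ χ = χ₂ ∨ χ = χ₃}) (hdist : (χ₁ : G → ℂ) ≠ (fun _ => 1) ∧ (χ₂ : G → ℂ) ≠ (fun _ => 1) ∧ (χ₃ : G → ℂ) ≠ (fun _ => 1) ∧ χ₁ ≠ χ₂ ∧ χ₁ ≠ χ₃ ∧ χ₂ ≠ χ₃) (hε : (ε₁ = 1 ∨ ε₁ = -1) ∧ (ε₂ = 1 ∨ ε₂ = -1) ∧ (ε₃ = 1 ∨ ε₃ = -1)) (hval : (χ₁ : G → ℂ) J = ε₁ ∧ (χ₂ : G → ℂ) J = ε₂ ∧ (χ₃ : G → ℂ) J = ε₃) (hprod : ε₁ * ε₂ * ε₃ = -1) (hε₃ : ε₃ = -1) : ∃ m : ℕ, 4 * Nat.card (Subgroup.centralizer ({J} : Set G)) = m * Nat.card (Subgroup.centralizer ((P : Subgroup G) : Set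 G)) * (Cfsg.charDegree (χ₃ : G → ℂ) + 1) ∧ 8 * Nat.card G = m ^ 3 * Nat.card (Subgroup.centralizer ((P : Subgroup G) : Set G)) * (Cfsg.charDegree (χ₃ : G → ℂ) ^ 3 - Cfsg.charDegree (χ₃ : G → ℂ)) := by
  classical
  have := hM.2.1
  letI := Fintype.ofFinite G
  have := Fintype.ofFinite (IrrCharacter G)
  obtain ⟨hK, hone⟩ := klein_of_no_complement g₀ hg₀ hG hnc P
  have hs := exists_kleinSums hM P hK hone hJ hJ2 hB hdist.1 hdist.2.1 hdist.2.2.1 hdist.2.2.2.1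
    hdist.2.2.2.2.1 hdist.2.2.2.2.2 hval.1 hval.2.1 hval.2.2
  have h12 : ε₁ = ε₂ := by
    rcases hε.1 with h | h <;> rcases hε.2.1 with h' | h' <;> simp_all
  obtain ⟨he1, hdeg⟩ := hs.pair h12 hε₃ hprod
  have he2 : ε₂ = 1 := h12 ▸ he1
  have horth := hs.orth
  rw [he1, he2, hε₃, ← hdeg] at horth
  have hx3 : Cfsg.charDegree (χ₃ : G → ℂ) = 2 * Cfsg.charDegree (χ₁ : G → ℂ) + 1 := by omega
  have horder := hs.order
  rw [(charDegree_eq χ₁).1, (charDegree_eq χ₂).1, (charDegree_eq χ₃).1, ← hdeg, he1, he2, hε₃, hx3]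
    at horder
  obtain ⟨k, hk⟩ := hs.dvd
  set x := Cfsg.charDegree (χ₁ : G → ℂ) with ex
  set p := Nat.card (Subgroup.centralizer ((P : Subgroup G) : Set G)) with ep
  set c := Nat.card (Subgroup.centralizer ({J} : Set G)) with ec
  set n := (Subgroup.centralizer ({J} : Set G)).index with en
  have hnc' : n * c = Nat.card G := Subgroup.index_mul_card _
  have hx0 : (x : ℂ) ≠ 0 := Nat.cast_ne_zero.mpr (charDegree_eq χ₁).2
  have hp0 : (p : ℂ) ≠ 0 := Nat.cast_ne_zero.mpr Nat.card_pos.ne'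
  have hc0 : (c : ℂ) ≠ 0 := Nat.cast_ne_zero.mpr Nat.card_pos.ne'
  have hx21 : (2 * (x : ℂ) + 1) ≠ 0 := by
    rw [show (2 * (x : ℂ) + 1) = ((2 * x + 1 : ℕ) : ℂ) by push_cast; rfl]
    exact Nat.cast_ne_zero.mpr (by omega)
  have hkey : n * (x + 1) ^ 2 = 4 * x * (2 * x + 1) * k ^ 2 := by
    have h : ((n * (x + 1) ^ 2 : ℕ) : ℂ) = ((4 * x * (2 * x + 1) * k ^ 2 : ℕ) : ℂ) := by
      have hcc : (c : ℂ) = (p : ℂ) * k := by rw [hk]; push_cast; rfl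
      push_cast at horder ⊢
      rw [← hnc'] at horder
      push_cast at horder
      rw [show (1 : ℂ) + 1 / x + 1 / x + -1 / (2 * x + 1) =
        2 * ((x : ℂ) + 1) ^ 2 / (x * (2 * x + 1)) by
          have hx21' : ((x : ℂ) * 2 + 1) ≠ 0 := by rw [mul_comm]; exact hx21
          rw [eq_div_iff (mul_ne_zero hx0 hx21)]; field_simp; ring] at horder
      field_simp at horder
      apply mul_left_cancel₀ (mul_ne_zero hc0 (pow_ne_zero 2 hp0))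
      rw [hcc] at horder ⊢
      linear_combination ((p : ℂ) * k / 2) * horder
    exact_mod_cast h
  have hdvd3 : 2 * x + 1 ∣ n := by
    have h := isIntegral_centralChar χ₃.2 J
    rw [Cfsg.centralChar, hval.2.2, (charDegree_eq χ₃).1, hx3, hε₃, ← en] at h
    have h' : IsIntegral ℤ (algebraMap ℚ ℂ ((-(n : ℚ)) / ((2 * x + 1 : ℕ) : ℚ))) := by
      convert h using 1
      simp [Nat.cast_add, Nat.cast_mul]
    obtain ⟨z, hz⟩ := IsIntegrallyClosed.isIntegral_iff.mp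
      ((isIntegral_algebraMap_iff (algebraMap ℚ ℂ).injective).mp h')
    have hq : ((2 * x + 1 : ℕ) : ℚ) ≠ 0 := Nat.cast_ne_zero.mpr (by omega)
    rw [eq_intCast, eq_div_iff hq] at hz
    exact Int.natCast_dvd_natCast.mp ⟨-z, by
      have : ((n : ℤ) : ℚ) = (((2 * x + 1 : ℕ) : ℤ) * -z : ℤ) := by
        push_cast at hz ⊢
        linear_combination hz
      exact_mod_cast this⟩
  obtain ⟨q, hq⟩ := hdvd3
  have hq' : q * (x + 1) ^ 2 = x * (2 * k) ^ 2 := by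
    apply Nat.eq_of_mul_eq_mul_left (show 0 < 2 * x + 1 by omega)
    rw [← mul_assoc, ← hq, hkey]; ring
  have hco : Nat.Coprime ((x + 1) ^ 2) x := by
    refine Nat.Coprime.pow_left 2 ?_
    simp [Nat.coprime_self_add_left]
  have hdvd2 : (x + 1) ^ 2 ∣ (2 * k) ^ 2 :=
    hco.dvd_of_dvd_mul_left ⟨q, by rw [← hq']; ring⟩
  obtain ⟨m, hm⟩ := (Nat.pow_dvd_pow_iff (by norm_num : 2 ≠ 0)).mp hdvd2
  refine ⟨m, ?_, ?_⟩
  · rw [hx3, hk, show 4 * (p * k) = p * (2 * (2 * k)) by ring, hm]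
    ring
  · have h2 : (2 * x + 1) ^ 3 - (2 * x + 1) = (2 * x + 1) * (4 * x * (x + 1)) := by
      refine Nat.sub_eq_of_eq_add ?_
      ring
    rw [hx3, h2]
    apply Nat.eq_of_mul_eq_mul_left (show 0 < (x + 1) ^ 2 by positivity)
    calc (x + 1) ^ 2 * (8 * Nat.card G) = 8 * c * (n * (x + 1) ^ 2) := by rw [← hnc']; ring
      _ = 4 * x * (2 * x + 1) * p * (2 * k) ^ 3 := by rw [hkey, hk]; ring
      _ = _ := by rw [hm]; ring

end Cfsg.Agent.S4480
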