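import Cfsg.Statements.S0498
import Cfsg.Agent.Lib.Perm.Small.LineElevenThirteen
import Cfsg.Agent.Lib.Char.SmallSpectra

set_option autoImplicit false
open Cfsg

namespace Cfsg.Agent.S0498

/-- A simple group of order 660, respectively 1092, is isomorphic to the projective special linear group of dimension 2
over the field with 11, respectively 13, elements. -/
theorem result {G : Type*} [Group G] [Finite G] [IsSimpleGroup G] (p : ℕ)
    (hp : p = 11 ∨ p = 13) (h : 2 * Nat.card G = p * (p ^ 2 - 1)) {F : Type*} [Field F] [Fintype F]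
    (hF : Fintype.card F = p) : Nonempty (G ≃* Matrix.ProjectiveSpecialLinearGroup (Fin 2) F) := by
  classical
  have hGc : ¬ IsMulCommutative G := fun hc => by
    haveI := hc
    letI : CommGroup G :=
      { (inferInstance : Group G) with mul_comm := fun a b => IsMulCommutative.is_comm.comm a b }
    have h2 := IsSimpleGroup.prime_card (α := G)
    rcases hp with rfl | rfl
    · rw [show Nat.card G = 660 by omega] at h2; norm_num at h2
    · rw [show Nat.card G = 1092 by omega] at h2; norm_num at h2
  haveI : IsSimpleGroup (Matrix.ProjectiveSpecialLinearGroup (Fin 2) F) :=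
    Matrix.ProjectiveSpecialLinearGroup.rank_two_simple (by
      rw [Nat.card_eq_fintype_card, hF]; rcases hp with rfl | rfl <;> norm_num)
  have hcard := CfsgLib.Char.TwoChars.card_psl_odd (F := F) (by rcases hp with rfl | rfl <;> rw [hF] <;> decide)
  rw [hF] at hcard
  have hPc : ¬ IsMulCommutative (Matrix.ProjectiveSpecialLinearGroup (Fin 2) F) := fun hc => by
    haveI := hc
    letI : CommGroup (Matrix.ProjectiveSpecialLinearGroup (Fin 2) F) :=
      { (inferInstance : Group (Matrix.ProjectiveSpecialLinearGroup (Fin 2) F)) with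
        mul_comm := fun a b => IsMulCommutative.is_comm.comm a b }
    have h2 := IsSimpleGroup.prime_card (α := Matrix.ProjectiveSpecialLinearGroup (Fin 2) F)
    rcases hp with rfl | rfl
    · rw [show Nat.card (Matrix.ProjectiveSpecialLinearGroup (Fin 2) F) = 660 by omega] at h2
      norm_num at h2
    · rw [show Nat.card (Matrix.ProjectiveSpecialLinearGroup (Fin 2) F) = 1092 by omega] at h2
      norm_num at h2
  rcases hp with rfl | rfl
  · obtain ⟨e₁⟩ := CfsgLib.Perm.SylowLine.equiv_modelEleven hGc (by omega)
    obtain ⟨e₂⟩ := CfsgLib.Perm.SylowLine.equiv_modelEleven hPc (by omega)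
    exact ⟨e₁.trans e₂.symm⟩
  · obtain ⟨e₁⟩ := CfsgLib.Perm.SylowLine.equiv_modelThirteen hGc (by omega)
    obtain ⟨e₂⟩ := CfsgLib.Perm.SylowLine.equiv_modelThirteen hPc (by omega)
    exact ⟨e₁.trans e₂.symm⟩

end Cfsg.Agent.S0498
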