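import Cfsg.Statements.S0981
-- import your own Cfsg.Agent.* helpers here
import Mathlib
import Cfsg.Agent.Lib.Perm.Small.CardFortyEighty
import Cfsg.Agent.Lib.Perm.CTSimple.Main
import Cfsg.Agent.Lib.Classical.ProjLine

set_option autoImplicit false
set_option linter.all false
open Cfsg

namespace Cfsg.Agent.S0981

/-- A simple group of order 4080 is isomorphic to the projective special linear group of dimension 2 over the field with 16 elements. -/
theorem result {G : Type*} [Group G] [Finite G] [IsSimpleGroup G] (h : Nat.card G = 4080) {F : Type*} [Field F] [Fintype F] (hF : Fintype.card F = 16) : Nonempty (G ≃* Matrix.ProjectiveSpecialLinearGroup (Fin 2) F) := by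
  classical
  have hna := CfsgLib.Perm.Card4080.noncomm h
  have hct := CfsgLib.Perm.Card4080.comm_transitive h
  obtain ⟨t, ht⟩ := CfsgLib.CTSimple.exists_invol hct hna
  obtain ⟨K, _, _, f, hf, hK, ⟨e⟩⟩ := CfsgLib.CTSimple.exists_psl hct hna ht
  have hcard := CfsgLib.Classical.card_psl2 (F := K)
  rw [← Nat.card_congr e.toEquiv, h, hK] at hcard
  have hpos : 1 ≤ 2 ^ f := Nat.one_le_two_pow
  have hg : Nat.gcd 2 (2 ^ f - 1) = 1 := by
    refine Nat.coprime_two_left.2 (Nat.odd_iff.2 ?_)
    have : 2 ∣ 2 ^ f := dvd_pow_self 2 (by omega)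
    omega
  rw [hg, one_mul] at hcard
  have h16 : 2 ^ f = 16 := by
    rcases lt_or_ge f 5 with h4 | h4
    · interval_cases f <;> simp_all
    · have : 32 ≤ 2 ^ f := le_trans (by norm_num) (Nat.pow_le_pow_right (by norm_num) h4)
      nlinarith [Nat.mul_le_mul this (Nat.mul_le_mul (Nat.sub_le_sub_right this 1) (Nat.add_le_add_right this 1))]
  have r : K ≃+* F := FiniteField.ringEquivOfCardEq (by rw [hK, h16, hF])
  let m : Matrix.SpecialLinearGroup (Fin 2) K ≃* Matrix.SpecialLinearGroup (Fin 2) F :=
    { toFun := Matrix.SpecialLinearGroup.map r.toRingHom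
      invFun := Matrix.SpecialLinearGroup.map r.symm.toRingHom
      left_inv := fun A => by ext i j; simp
      right_inv := fun A => by ext i j; simp
      map_mul' := fun A B => map_mul _ A B }
  exact ⟨e.trans (QuotientGroup.congr _ _ m (by
    ext x
    simp only [Subgroup.mem_map, Subgroup.mem_center_iff]
    constructor
    · rintro ⟨y, hy, rfl⟩ g
      obtain ⟨g, rfl⟩ := m.surjective g
      show m g * m y = m y * m g
      rw [← map_mul, hy g, map_mul]
    · intro hx
      refine ⟨m.symm x, fun g => m.injective ?_, m.apply_symm_apply x⟩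
      rw [map_mul, map_mul, m.apply_symm_apply]
      exact hx _))⟩

end Cfsg.Agent.S0981
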