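import Cfsg.Statements.S4774
import Cfsg.Agent.Lib.Char.SLTwoDegreeGraph

set_option autoImplicit false
open Cfsg

namespace Cfsg.Agent.S4774

/-- Let F be a finite field of odd characteristic t with q > 5 elements and let S be isomorphic to PSL(2,F) or to SL(2,F). Then the vertices of the character degree graph of S are the primes dividing q(q²−1); the prime t is adjacent to no vertex; two distinct primes dividing q² − 1 are adjacent exactly when one of them is 2, or both divide q + 1, or both divide q − 1. -/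
theorem result (F : Type*) [Field F] [Fintype F] (t : ℕ) [Fact t.Prime] [CharP F t] (ht : t ≠ 2) (q : ℕ) (hq : Fintype.card F = q) (h5 : 5 < q) {S : Type*} [Group S] [Finite S] (hS : Nonempty (S ≃* Matrix.ProjectiveSpecialLinearGroup (Fin 2) F) ∨ Nonempty (S ≃* Matrix.SpecialLinearGroup (Fin 2) F)) : Cfsg.degreePrimes S = {r : ℕ | r.Prime ∧ r ∣ q * (q ^ 2 - 1)} ∧ ∀ r s : ℕ, (Cfsg.degreeGraph S).Adj r s ↔ (r ≠ s ∧ r.Prime ∧ s.Prime ∧ r ∣ q ^ 2 - 1 ∧ s ∣ q ^ 2 - 1 ∧ (r = 2 ∨ s = 2 ∨ (r ∣ q + 1 ∧ s ∣ q + 1) ∨ (r ∣ q - 1 ∧ s ∣ q - 1))) := by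
  classical
  subst hq
  obtain ⟨h1, h2⟩ := CfsgLib.Char.TwoChars.degree_graph_of_equiv (F := F) (by omega) (by omega) hS
  refine ⟨h1, fun r s => (h2 r s).trans ?_⟩
  have hodd : Odd (Fintype.card F) := Nat.odd_iff.2
    (FiniteField.odd_card_of_char_ne_two (ringChar.eq F t ▸ ht))
  have hsq : Fintype.card F ^ 2 - 1 = (Fintype.card F + 1) * (Fintype.card F - 1) := by
    rw [← Nat.sq_sub_sq, one_pow]
  have h2p : (2 ∣ Fintype.card F + 1) ∧ 2 ∣ Fintype.card F - 1 := by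
    obtain ⟨k, hk⟩ := hodd
    exact ⟨⟨k + 1, by omega⟩, ⟨k, by omega⟩⟩
  rw [hsq]
  constructor
  · rintro ⟨hne, hr, hs, h⟩
    refine ⟨hne, hr, hs, ?_, ?_, Or.inr (Or.inr h)⟩
    · rcases h with h | h
      · exact h.1.trans (dvd_mul_right _ _)
      · exact h.1.trans (dvd_mul_left _ _)
    · rcases h with h | h
      · exact h.2.trans (dvd_mul_right _ _)
      · exact h.2.trans (dvd_mul_left _ _)
  · rintro ⟨hne, hr, hs, hrd, hsd, rfl | rfl | h⟩
    · refine ⟨hne, hr, hs, ?_⟩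
      rcases hs.dvd_mul.1 hsd with h | h
      · exact Or.inl ⟨h2p.1, h⟩
      · exact Or.inr ⟨h2p.2, h⟩
    · refine ⟨hne, hr, hs, ?_⟩
      rcases hr.dvd_mul.1 hrd with h | h
      · exact Or.inl ⟨h, h2p.1⟩
      · exact Or.inr ⟨h, h2p.2⟩
    · exact ⟨hne, hr, hs, h⟩

end Cfsg.Agent.S4774
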