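import Cfsg.Statements.S1202
import Cfsg.Agent.Lib.Invol.WreathedFacts
import Cfsg.Agent.Lib.Invol.AbelianOddAut


set_option autoImplicit false
open Cfsg

namespace Cfsg.Agent.S1202

open CfsgLib.Invol

variable {S : Type*} [Group S] [Finite S] {m : ℤ} {x y z : S}

theorem relIndex_normalizer (W : WrFrame m x y z) {N : ℕ} (hN : (N : ℤ) = 2 * m) {q : ℤ}
    (hq : m = 2 * q) (c : ℤ) :
    (W.diffSub m c).relIndex (Subgroup.normalizer (W.diffSub m c : Set S)) = 2 := by
  have hs : m ∣ 2 * m := dvd_mul_left m 2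
  have hs' : q ∣ 2 * m := ⟨4, by rw [hq]; ring⟩
  have hnorm : Subgroup.normalizer (W.diffSub m c : Set S) = W.diffSub q c := by
    refine le_antisymm (fun g hg => ?_) (fun g hg => ?_)
    · have h1 := (Subgroup.mem_normalizer_iff.1 hg (x ^ c * y ^ (0 : ℤ) * z)).1
        ((W.out_mem_diffSub hs).2 (by simp))
      obtain ⟨a, b, rfl | rfl⟩ := W.exists_eq g
      · rw [W.rot_conj_out, W.out_mem_diffSub hs, hq,
          show c + a - b - (0 + b - a) - c = 2 * (a - b) by ring,
          mul_dvd_mul_iff_left two_ne_zero] at h1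
        exact (W.rot_mem_diffSub hs').2 h1
      · rw [W.out_mul_out, W.out_inv, W.rot_mul_out, W.out_mem_diffSub hs, hq,
          show a + 0 + -b - (b + c + -a) - c = 2 * (a - b - c) by ring,
          mul_dvd_mul_iff_left two_ne_zero] at h1
        exact (W.out_mem_diffSub hs').2 h1
    · -- it suffices to show that conjugation maps the subgroup into itself
      have hmap : ∀ g : S, g ∈ W.diffSub q c → ∀ h ∈ W.diffSub m c, g * h * g⁻¹ ∈ W.diffSub m c := by
        rintro _ ⟨a, b, ⟨hd, rfl⟩ | ⟨hd, rfl⟩⟩ _ ⟨i, j, ⟨hd', rfl⟩ | ⟨hd', rfl⟩⟩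
        · rw [(W.rot_commute a b i j).eq, mul_inv_cancel_right]
          exact (W.rot_mem_diffSub hs).2 hd'
        · rw [W.rot_conj_out, W.out_mem_diffSub hs]
          have h2 : m ∣ 2 * (a - b) := hq ▸ mul_dvd_mul_left 2 hd
          have := dvd_add hd' h2; ring_nf at this ⊢; exact this
        · rw [W.out_mul_rot, W.out_inv, W.out_mul_out, W.rot_mem_diffSub hs]
          have := dvd_neg.2 hd'; ring_nf at this ⊢; exact this
        · rw [W.out_mul_out, W.out_inv, W.rot_mul_out, W.out_mem_diffSub hs]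
          have h2 : m ∣ 2 * (a - b - c) := hq ▸ mul_dvd_mul_left 2 hd
          have := dvd_sub h2 hd'; ring_nf at this ⊢; exact this
      refine Subgroup.mem_normalizer_iff.2 fun h => ⟨hmap g hg h, fun hh => ?_⟩
      have := hmap g⁻¹ (inv_mem hg) _ hh
      simpa [mul_assoc] using this
  rw [hnorm]
  have hle : W.diffSub m c ≤ W.diffSub q c := by
    have hqm : q ∣ m := ⟨2, by rw [hq]; ring⟩
    rintro _ ⟨i, j, ⟨h, rfl⟩ | ⟨h, rfl⟩⟩
    · exact ⟨i, j, Or.inl ⟨hqm.trans h, rfl⟩⟩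
    · exact ⟨i, j, Or.inr ⟨hqm.trans h, rfl⟩⟩
  have h1 := ((W.diffSub m c).subgroupOf (W.diffSub q c)).card_mul_index
  rw [Nat.card_congr (Subgroup.subgroupOfEquivOfLe hle).toEquiv,
    W.card_diffSub (t := 2) hN (by push_cast; ring),
    W.card_diffSub (t := 4) hN (by rw [hq]; push_cast; ring)] at h1
  have hN0 : 0 < N := by have := W.two_le; omega
  show ((W.diffSub m c).subgroupOf (W.diffSub q c)).index = 2
  nlinarith

theorem diffSub_conj (W : WrFrame m x y z) {N : ℕ} (hN : (N : ℤ) = 2 * m) (c c' : ℤ) (hc : 2 ∣ c)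
    (hc' : 2 ∣ c') :
    ∃ s : S, (W.diffSub m c).map (MulAut.conj s).toMonoidHom = W.diffSub m c' := by
  have hs : m ∣ 2 * m := dvd_mul_left m 2
  obtain ⟨d, hd⟩ : (2 : ℤ) ∣ c' - c := dvd_sub hc' hc
  refine ⟨x ^ d * y ^ (0 : ℤ), Subgroup.eq_of_le_of_card_ge ?_ ?_⟩
  · rintro _ ⟨_, ⟨i, j, ⟨h, rfl⟩ | ⟨h, rfl⟩⟩, rfl⟩
    · show x ^ d * y ^ (0 : ℤ) * (x ^ i * y ^ j) * (x ^ d * y ^ (0 : ℤ))⁻¹ ∈ _
      rw [(W.rot_commute d 0 i j).eq, mul_inv_cancel_right]
      exact (W.rot_mem_diffSub hs).2 h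
    · show x ^ d * y ^ (0 : ℤ) * (x ^ i * y ^ j * z) * (x ^ d * y ^ (0 : ℤ))⁻¹ ∈ _
      rw [W.rot_conj_out, W.out_mem_diffSub hs, show c' = c + 2 * d by linarith]
      ring_nf at h ⊢; exact h
  · rw [Subgroup.card_map_of_injective (MulAut.conj _).injective,
      W.card_diffSub (t := 2) hN (by push_cast; ring), W.card_diffSub (t := 2) hN (by push_cast; ring)]

theorem exists_quaternion (W : WrFrame m x y z) {N : ℕ} (hN : (N : ℤ) = 2 * m) {q : ℤ}
    (hq : m = 2 * q) (c : ℤ) (hc : 2 ∣ c) :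
    ∃ Q : Subgroup S, Nonempty (Q ≃* QuaternionGroup 2) ∧ W.diffSub m c = Q ⊔ Subgroup.center S := by
  haveI : Fact (Nat.Prime 2) := ⟨Nat.prime_two⟩
  have hs : m ∣ 2 * m := dvd_mul_left m 2
  obtain ⟨e, he⟩ := hc
  set A := x ^ (q + m) * y ^ q with hA
  set B := x ^ (q + e) * y ^ (q - e) * z with hB
  have hA2 : A ^ 2 = x ^ m * y ^ m := by
    rw [hA, W.rot_pow, W.rot_eq_iff]
    exact ⟨⟨1, by rw [hq]; push_cast; ring⟩, ⟨0, by rw [hq]; push_cast; ring⟩⟩
  have hB2 : B ^ 2 = A ^ 2 := by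
    rw [hA2, hB, W.out_sq, W.rot_eq_iff]
    exact ⟨⟨0, by rw [hq]; ring⟩, ⟨0, by rw [hq]; ring⟩⟩
  have hc2 : (A ^ 2) ^ 2 = 1 := by rw [hA2, W.rot_sq_eq_one_iff]; exact ⟨dvd_rfl, dvd_rfl⟩
  have hAo : orderOf A = 4 := by
    rw [show 4 = 2 ^ (1 + 1) from rfl]
    refine orderOf_eq_prime_pow ?_ (by rw [← pow_mul] at hc2; simpa using hc2)
    rw [pow_one, hA2, W.eq_one]; exact fun h => W.not_dvd_half h.1
  have hconj : B * A * B⁻¹ = A⁻¹ := by
    rw [hA, hB, W.out_conj_rot, W.rot_inv, W.rot_eq_iff]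
    exact ⟨⟨1, by rw [hq]; ring⟩, ⟨1, by rw [hq]; ring⟩⟩
  let Q : Subgroup S :=
    { carrier := {g | ∃ i : ℤ, g = A ^ i ∨ g = A ^ i * B}
      one_mem' := ⟨0, Or.inl (zpow_zero A).symm⟩
      mul_mem' := by
        have hBA : ∀ j : ℤ, B * A ^ j = A ^ (-j) * B := fun j => by
          rw [← mul_inv_eq_iff_eq_mul, ← conj_zpow, hconj, inv_zpow, zpow_neg]
        rintro _ _ ⟨i, rfl | rfl⟩ ⟨j, rfl | rfl⟩
        · exact ⟨i + j, Or.inl (zpow_add A i j).symm⟩
        · exact ⟨i + j, Or.inr (by rw [← mul_assoc, ← zpow_add])⟩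
        · exact ⟨i + -j, Or.inr (by rw [mul_assoc, hBA, ← mul_assoc, ← zpow_add])⟩
        · refine ⟨i + -j + 2, Or.inl ?_⟩
          rw [mul_assoc, ← mul_assoc B, hBA, mul_assoc _ B B, ← pow_two, hB2, ← mul_assoc, ← zpow_add,
            zpow_add A (i + -j) 2, zpow_two, ← pow_two]
      inv_mem' := by
        have hBA : ∀ j : ℤ, B * A ^ j = A ^ (-j) * B := fun j => by
          rw [← mul_inv_eq_iff_eq_mul, ← conj_zpow, hconj, inv_zpow, zpow_neg]
        rintro _ ⟨i, rfl | rfl⟩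
        · exact ⟨-i, Or.inl (zpow_neg A i).symm⟩
        · refine ⟨i + 2, Or.inr (inv_eq_of_mul_eq_one_left ?_)⟩
          rw [mul_assoc, ← mul_assoc B, hBA, mul_assoc _ B B, ← pow_two, hB2, ← mul_assoc, ← zpow_add,
            ← zpow_natCast A 2, ← zpow_add, show i + 2 + -i + ((2 : ℕ) : ℤ) = 4 by norm_num,
            ← orderOf_dvd_iff_zpow_eq_one, hAo]; norm_num }
  have hAQ : A ∈ Q := ⟨1, Or.inl (zpow_one A).symm⟩
  have hBQ : B ∈ Q := ⟨0, Or.inr (by rw [zpow_zero, one_mul])⟩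
  have hrot : ∀ i : ℤ, A ^ i ∈ W.base := fun i => zpow_mem (W.rot_mem_base _ _) i
  have hcard : Nat.card Q = 2 * 4 := by
    have hi : ((Subgroup.zpowers A).subgroupOf Q).index = 2 := by
      rw [Subgroup.index_eq_two_iff_exists_notMem_and']
      refine ⟨⟨B, hBQ⟩, fun h => ?_, ?_⟩
      · obtain ⟨i, hi⟩ := Subgroup.mem_zpowers_iff.1 (Subgroup.mem_subgroupOf.1 h)
        exact W.out_notMem_base _ _ ((show B = A ^ i from hi.symm) ▸ hrot i)
      · rintro ⟨g, i, rfl | rfl⟩
        · exact Or.inr (Subgroup.mem_subgroupOf.2 (Subgroup.zpow_mem_zpowers A i))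
        · refine Or.inl (Subgroup.mem_subgroupOf.2 ?_)
          show B * (A ^ i * B) ∈ Subgroup.zpowers A
          rw [← mul_assoc, show B * A ^ i = A ^ (-i) * B from by
            rw [← mul_inv_eq_iff_eq_mul, ← conj_zpow, hconj, inv_zpow, zpow_neg], mul_assoc, ← pow_two, hB2]
          exact mul_mem (Subgroup.zpow_mem_zpowers A _) (pow_mem (Subgroup.mem_zpowers A) 2)
    have := ((Subgroup.zpowers A).subgroupOf Q).card_mul_index
    rw [hi, Nat.card_congr (Subgroup.subgroupOfEquivOfLe (Subgroup.zpowers_le.2 hAQ)).toEquiv,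
      Nat.card_zpowers, hAo] at this
    omega
  have F : CyclicFrame (2 * 2) (-1) ((2 : ℕ) : ℤ) (⟨A, hAQ⟩ : Q) (⟨B, hBQ⟩ : Q) := by
    refine ⟨by rw [Subgroup.orderOf_mk, hAo], by rw [hcard], ?_, ?_, ?_, by norm_num⟩
    · intro h
      obtain ⟨i, hi⟩ := Subgroup.mem_zpowers_iff.1 h
      have hi' : A ^ i = B := by simpa using congrArg Subtype.val hi
      exact W.out_notMem_base _ _ ((show B = A ^ i from hi'.symm) ▸ hrot i)
    · refine Subtype.ext ?_
      show B * A * B⁻¹ = (((⟨A, hAQ⟩ : Q) ^ (-1 : ℤ) : Q) : S)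
      rw [hconj, SubgroupClass.coe_zpow, zpow_neg_one]
    · refine Subtype.ext ?_
      show B * B = (((⟨A, hAQ⟩ : Q) ^ ((2 : ℕ) : ℤ) : Q) : S)
      rw [← pow_two, hB2, SubgroupClass.coe_zpow, zpow_natCast]
  refine ⟨Q, F.quaternionEquiv, le_antisymm ?_ (sup_le ?_ ?_)⟩
  · -- every element is a product of an element of `Q` and a central one
    have hr : ∀ i j : ℤ, m ∣ i - j → x ^ i * y ^ j ∈ Q ⊔ Subgroup.center S := by
      intro i j h
      rcases W.half_cases h with h' | h'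
      · exact Subgroup.mem_sup_right (W.mem_center_iff.2 ⟨i, W.rot_eq_iff.2
          ⟨by simp, by rw [← dvd_neg, neg_sub]; exact h'⟩⟩)
      · have e1 : A * (x ^ (j - q) * y ^ (j - q)) = x ^ i * y ^ j := by
          rw [hA, W.mul_rot, W.rot_eq_iff]
          refine ⟨?_, by ring_nf; simp⟩
          have := dvd_neg.2 h'; ring_nf at this ⊢; exact this
        rw [← e1]
        exact mul_mem (Subgroup.mem_sup_left hAQ)
          (Subgroup.mem_sup_right (W.mem_center_iff.2 ⟨_, rfl⟩))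
    rintro _ ⟨i, j, ⟨h, rfl⟩ | ⟨h, rfl⟩⟩
    · exact hr i j h
    · have e1 : x ^ (i - (q + e)) * y ^ (j - (q - e)) * B = x ^ i * y ^ j * z := by
        rw [hB, W.rot_mul_out]; simp
      rw [← e1]
      refine mul_mem (hr _ _ ?_) (Subgroup.mem_sup_left hBQ)
      rw [he] at h; ring_nf at h ⊢; exact h
  · have hAm : A ∈ W.diffSub m c := (W.rot_mem_diffSub hs).2 (by simp)
    have hBm : B ∈ W.diffSub m c := (W.out_mem_diffSub hs).2 (by rw [he]; ring_nf; simp)
    rintro _ ⟨i, rfl | rfl⟩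
    · exact zpow_mem hAm i
    · exact mul_mem (zpow_mem hAm i) hBm
  · intro g hg
    obtain ⟨i, rfl⟩ := W.mem_center_iff.1 hg
    exact (W.rot_mem_diffSub hs).2 (by simp)

theorem classify_nonabelian (W : WrFrame m x y z) {N : ℕ} (_hN : (N : ℤ) = 2 * m) (h2 : IsPGroup 2 S)
    (X : Subgroup S) (hZX : ∀ i : ℤ, x ^ i * y ^ i ∈ X)
    (hdiff : ∀ i j : ℤ, x ^ i * y ^ j ∈ X → x ^ (i - j) * y ^ (0 : ℤ) ∈ X) (k l : ℤ)
    (hg : x ^ k * y ^ l * z ∈ X) (σ : MulAut X) (hσ1 : σ ≠ 1) (r : ℕ) (hr : Odd r) (hσr : σ ^ r = 1)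
    (hX' : ¬ IsMulCommutative X) : ∃ c : ℤ, 2 ∣ c ∧ X = W.diffSub m c := by
  haveI : Fact (Nat.Prime 2) := ⟨Nat.prime_two⟩
  have hX2 : IsPGroup 2 X := h2.to_subgroup X
  set g : X := ⟨_, hg⟩ with hgdef
  -- there is a rotation of nonzero difference
  obtain ⟨i₀, j₀, hu₀, hnd₀⟩ : ∃ i j : ℤ, x ^ i * y ^ j ∈ X ∧ ¬ 2 * m ∣ i - j := by
    by_contra hall
    push Not at hall
    refine hX' (isMulCommutative_iff.2 fun u v => Subtype.ext ?_)
    show (u : S) * v = v * u
    obtain ⟨a, b, ha | ha⟩ := W.exists_eq (u : S) <;> obtain ⟨c, d, hc | hc⟩ := W.exists_eq (v : S) <;>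
      rw [ha, hc]
    · exact (W.rot_commute a b c d).eq
    · exact W.rot_out_commute_iff.2 (hall a b (ha ▸ u.2))
    · exact (W.rot_out_commute_iff.2 (hall c d (hc ▸ v.2))).symm
    · refine W.out_out_commute_iff.2 ?_
      have h1 := hall _ _ (show x ^ (a + -c) * y ^ (b + -d) ∈ X by
        have h' := mul_mem u.2 (inv_mem v.2)
        rwa [ha, hc, W.out_inv, W.out_mul_out] at h')
      ring_nf at h1 ⊢; exact h1
  -- the centre of `X`
  have hcen : ∀ u : X, u ∈ Subgroup.center X ↔ (u : S) ∈ Subgroup.center S := by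
    intro u
    constructor
    · intro hu
      obtain ⟨a, b, ha | ha⟩ := W.exists_eq (u : S)
      · have h := congrArg Subtype.val (Subgroup.mem_center_iff.1 hu g)
        simp only [Subgroup.coe_mul, hgdef] at h
        rw [ha] at h ⊢
        exact W.mem_center_iff.2 ⟨a, W.rot_eq_iff.2 ⟨by simp, by
          rw [← dvd_neg, neg_sub]; exact W.rot_out_commute_iff.1 h.symm⟩⟩
      · exfalso
        have h := congrArg Subtype.val (Subgroup.mem_center_iff.1 hu ⟨_, hu₀⟩)
        simp only [Subgroup.coe_mul] at h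
        rw [ha] at h
        exact hnd₀ (W.rot_out_commute_iff.1 h)
    · intro hu
      exact Subgroup.mem_center_iff.2 fun v => Subtype.ext (Subgroup.mem_center_iff.1 hu v)
  haveI : IsCyclic (Subgroup.center X) := by
    haveI : IsCyclic (Subgroup.center S) := by rw [W.center_eq]; infer_instance
    exact isCyclic_of_injective ((X.subtype.comp (Subgroup.center X).subtype).codRestrict (Subgroup.center S)
      fun u => (hcen u).1 u.2)
      fun a b h => Subtype.ext (Subtype.ext (congrArg (fun w : Subgroup.center S => (w : S)) h))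
  have hZfix : ∀ u : X, u ∈ Subgroup.center X → σ u = u := by
    have hmap : ∀ u : X, u ∈ Subgroup.center X → σ u ∈ Subgroup.center X := fun u hu =>
      Subgroup.mem_center_iff.2 fun v => by
        obtain ⟨v, rfl⟩ := σ.surjective v
        rw [← map_mul, ← map_mul, Subgroup.mem_center_iff.1 hu v]
    let e : Subgroup.center X →* Subgroup.center X :=
      { toFun := fun v => ⟨σ v, hmap v v.2⟩
        map_one' := Subtype.ext (map_one σ)
        map_mul' := fun a b => Subtype.ext (map_mul σ (a : X) (b : X)) }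
    let σZ : MulAut (Subgroup.center X) := MulEquiv.ofBijective e (Finite.injective_iff_bijective.1
      fun a b h => Subtype.ext (σ.injective (congrArg Subtype.val h)))
    have hit : ∀ (i : ℕ) (v : Subgroup.center X), (((σZ ^ i) v : Subgroup.center X) : X) = (σ ^ i) (v : X) := by
      intro i
      induction i with
      | zero => simp
      | succ i ih => intro v; rw [pow_succ', pow_succ', MulAut.mul_apply, MulAut.mul_apply, ← ih]; rfl
    have h1 : σZ = 1 := aut_eq_one_of_cyclic_two_group (hX2.to_subgroup _) σZ hr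
      (MulEquiv.ext fun v => Subtype.ext (by rw [hit, hσr]; rfl))
    exact fun u hu => congrArg (fun s : MulAut (Subgroup.center X) => ((s ⟨u, hu⟩ : Subgroup.center X) : X)) h1
  -- the rotations cannot be mapped to rotations
  set B : Subgroup X := W.base.subgroupOf X with hB
  have hnot : ¬ ∀ u ∈ B, σ u ∈ B := by
    intro hmap
    refine hσ1 ?_
    let e : B →* B :=
      { toFun := fun v => ⟨σ v, hmap v v.2⟩
        map_one' := Subtype.ext (map_one σ)
        map_mul' := fun a b => Subtype.ext (map_mul σ (a : X) (b : X)) }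
    let σB : MulAut B := MulEquiv.ofBijective e (Finite.injective_iff_bijective.1
      fun a b h => Subtype.ext (σ.injective (congrArg Subtype.val h)))
    have hit : ∀ (i : ℕ) (v : B), (((σB ^ i) v : B) : X) = (σ ^ i) (v : X) := by
      intro i
      induction i with
      | zero => simp
      | succ i ih => intro v; rw [pow_succ', pow_succ', MulAut.mul_apply, MulAut.mul_apply, ← ih]; rfl
    have hσB : σB ^ r = 1 := MulEquiv.ext fun v => Subtype.ext (by rw [hit, hσr]; rfl)
    have hBc : ∀ a b : B, a * b = b * a := fun a b => Subtype.ext (Subtype.ext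
      (congrArg (fun w : W.base => (w : S))
        (W.base_comm.is_comm.comm ⟨_, Subgroup.mem_subgroupOf.1 a.2⟩ ⟨_, Subgroup.mem_subgroupOf.1 b.2⟩)))
    have hc : σ ⟨x ^ m * y ^ m, hZX m⟩ = ⟨x ^ m * y ^ m, hZX m⟩ :=
      hZfix _ ((hcen _).2 (W.mem_center_iff.2 ⟨m, rfl⟩))
    have hcB : (⟨x ^ m * y ^ m, hZX m⟩ : X) ∈ B := Subgroup.mem_subgroupOf.2 (W.rot_mem_base m m)
    set cB : B := ⟨_, hcB⟩ with hcBdef
    have hσc : σB cB = cB := Subtype.ext hc
    have hom : ∀ v : B, v ^ 2 = 1 → σB v = v := by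
      intro v hv
      have h4 : ∀ w : B, w ^ 2 = 1 → (w = 1 ∨ w = cB) ∨ ((w : X) : S) = x ^ m * y ^ (0 : ℤ) ∨
          ((w : X) : S) = x ^ (0 : ℤ) * y ^ m := by
        intro w hw
        obtain ⟨i, j, hij⟩ := Subgroup.mem_subgroupOf.1 w.2
        have h1 : (x ^ i * y ^ j) ^ 2 = 1 := by
          rw [← hij]; simpa using congrArg (fun u : B => ((u : X) : S)) hw
        obtain ⟨hi, hj⟩ := W.rot_sq_eq_one_iff.1 h1
        rcases W.half_cases hi with hi | hi <;> rcases W.half_cases hj with hj | hj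
        · exact Or.inl (Or.inl (Subtype.ext (Subtype.ext (by rw [hij]; exact (W.eq_one i j).2 ⟨hi, hj⟩))))
        · exact Or.inr (Or.inr (hij.trans (W.rot_eq_iff.2 ⟨by simpa using hi, hj⟩)))
        · exact Or.inr (Or.inl (hij.trans (W.rot_eq_iff.2 ⟨hi, by simpa using hj⟩)))
        · exact Or.inl (Or.inr (Subtype.ext (Subtype.ext (hij.trans (W.rot_eq_iff.2 ⟨hi, hj⟩)))))
      have hσv : (σB v) ^ 2 = 1 := by rw [← map_pow, hv, map_one]
      rcases h4 v hv with (rfl | rfl) | h5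
      · exact map_one σB
      · exact hσc
      rcases h4 _ hσv with (h' | h') | h6
      · exact (σB.injective (h'.trans (map_one σB).symm)) ▸ map_one σB
      · exact (σB.injective (h'.trans hσc.symm)) ▸ hσc
      have hcsq : cB ^ 2 = 1 := Subtype.ext (Subtype.ext (by
        simpa using W.rot_sq_eq_one_iff.2 ⟨dvd_refl m, dvd_refl m⟩))
      have hx0 : x ^ m * y ^ (0 : ℤ) * (x ^ m * y ^ m) = x ^ (0 : ℤ) * y ^ m := by
        rw [W.mul_rot, W.rot_eq_iff]; exact ⟨⟨1, by ring⟩, by simp⟩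
      have h0x : x ^ (0 : ℤ) * y ^ m * (x ^ m * y ^ m) = x ^ m * y ^ (0 : ℤ) := by
        rw [W.mul_rot, W.rot_eq_iff]; exact ⟨by simp, ⟨1, by ring⟩⟩
      rcases h5 with h5 | h5 <;> rcases h6 with h6 | h6
      · exact Subtype.ext (Subtype.ext (h6.trans h5.symm))
      · refine fixed_of_mul_fixed_invol σB hr hσB (k := cB) (Subtype.ext (Subtype.ext ?_)) hσc hcsq
        rw [h6, ← hx0, ← h5]; rfl
      · refine fixed_of_mul_fixed_invol σB hr hσB (k := cB) (Subtype.ext (Subtype.ext ?_)) hσc hcsq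
        rw [h6, ← h0x, ← h5]; rfl
      · exact Subtype.ext (Subtype.ext (h6.trans h5.symm))
    have h1 : σB = 1 := aut_eq_one_of_fix_omega (hX2.to_subgroup B) hBc σB hr hσB hom
    refine aut_eq_one_of_fix_index_two hX2 σ hr hσr B ?_ fun v hv =>
      congrArg (fun s : MulAut B => ((s ⟨v, hv⟩ : B) : X)) h1
    intro u v hu hv
    obtain ⟨a, b, ha | ha⟩ := W.exists_eq (u : S)
    · exact absurd (Subgroup.mem_subgroupOf.2 (ha ▸ W.rot_mem_base a b)) hu
    obtain ⟨c, d, hc | hc⟩ := W.exists_eq (v : S)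
    · exact absurd (Subgroup.mem_subgroupOf.2 (hc ▸ W.rot_mem_base c d)) hv
    refine Subgroup.mem_subgroupOf.2 ?_
    push_cast; rw [ha, hc, W.out_inv, W.out_mul_out]; exact W.rot_mem_base _ _
  have hrotsq : ∀ i j : ℤ, ∀ h : x ^ i * y ^ j ∈ X, (⟨_, h⟩ : X) ^ 2 ∈ Subgroup.center X → m ∣ i - j := by
    intro i j h hc
    rw [hcen] at hc
    push_cast at hc
    rw [W.rot_pow, W.mem_center_iff] at hc
    obtain ⟨p, hp⟩ := hc
    obtain ⟨h1, h2⟩ := W.rot_eq_iff.1 hp
    have := dvd_sub h1 h2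
    push_cast at this
    rw [show i * 2 - p - (j * 2 - p) = 2 * (i - j) by ring, mul_dvd_mul_iff_left two_ne_zero] at this
    exact this
  have houtsq : ∀ u : X, u ∉ B → u ^ 2 ∈ Subgroup.center X := by
    intro u hu
    obtain ⟨a, b, ha | ha⟩ := W.exists_eq (u : S)
    · exact absurd (Subgroup.mem_subgroupOf.2 (ha ▸ W.rot_mem_base a b)) hu
    rw [hcen]; push_cast; rw [ha, W.out_sq]; exact W.mem_center_iff.2 ⟨_, rfl⟩
  -- all differences lie in `mℤ`
  have hm' : ∀ i j : ℤ, x ^ i * y ^ j ∈ X → m ∣ i - j := by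
    intro i j hij
    by_contra hd
    refine hnot ?_
    have hgood : ∀ a b : ℤ, ∀ h : x ^ a * y ^ b ∈ X, ¬ m ∣ a - b → σ ⟨_, h⟩ ∈ B := by
      intro a b h hab
      by_contra hB'
      have h1 := houtsq _ hB'
      have h3 : σ.symm ((σ ⟨_, h⟩) ^ 2) ∈ Subgroup.center X := Subgroup.mem_center_iff.2 fun v => by
        apply σ.injective
        rw [map_mul, map_mul, MulEquiv.apply_symm_apply]
        exact Subgroup.mem_center_iff.1 h1 _
      rw [← map_pow, MulEquiv.symm_apply_apply] at h3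
      exact hab (hrotsq a b h h3)
    intro u hu
    obtain ⟨a, b, hab⟩ := Subgroup.mem_subgroupOf.1 hu
    have huX : x ^ a * y ^ b ∈ X := hab ▸ u.2
    have hue : u = ⟨_, huX⟩ := Subtype.ext hab
    by_cases hd' : m ∣ a - b
    · have h1 : x ^ (a + i) * y ^ (b + j) ∈ X := by rw [← W.mul_rot]; exact mul_mem huX hij
      have h2 : ¬ m ∣ a + i - (b + j) := fun h => hd (by
        have := dvd_sub h hd'; ring_nf at this ⊢; exact this)
      have e1 : u = ⟨_, h1⟩ * (⟨_, hij⟩ : X)⁻¹ := Subtype.ext (by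
        push_cast; rw [hab, ← W.mul_rot, mul_inv_cancel_right])
      rw [e1, map_mul, map_inv]
      exact mul_mem (hgood _ _ h1 h2) (inv_mem (hgood _ _ hij hd))
    · rw [hue]; exact hgood a b huX hd'
  have hm0 : x ^ m * y ^ (0 : ℤ) ∈ X := by
    have h1 := hdiff _ _ hu₀
    rcases W.half_cases (hm' _ _ hu₀) with h | h
    · exact absurd h hnd₀
    · rwa [show x ^ (i₀ - j₀) * y ^ (0 : ℤ) = x ^ m * y ^ (0 : ℤ) from W.rot_eq_iff.2 ⟨h, by simp⟩] at h1
  refine ⟨k - l, ?_, ?_⟩
  · by_contra hodd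
    refine hnot fun u hu => ?_
    by_contra hB'
    obtain ⟨a, b, hab⟩ := Subgroup.mem_subgroupOf.1 hu
    obtain ⟨c, d, hcd | hcd⟩ := W.exists_eq ((σ u : X) : S)
    · exact hB' (Subgroup.mem_subgroupOf.2 (hcd ▸ W.rot_mem_base c d))
    have hsq := houtsq _ hB'
    have h3 : u ^ 2 ∈ Subgroup.center X := Subgroup.mem_center_iff.2 fun v => σ.injective (by
      rw [map_mul, map_mul, map_pow]; exact Subgroup.mem_center_iff.1 hsq _)
    have h4 : (σ u) ^ 2 = u ^ 2 := by rw [← map_pow, hZfix _ h3]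
    have h5 := congrArg (fun w : X => (w : S)) h4
    simp only [SubgroupClass.coe_pow] at h5
    rw [hcd, hab, W.out_sq, W.rot_pow, W.rot_eq_iff] at h5
    obtain ⟨⟨e1, he1⟩, -⟩ := h5
    have h6 : x ^ (c + -k) * y ^ (d + -l) ∈ X := by
      have h' := mul_mem (σ u).2 (inv_mem hg)
      rwa [hcd, W.out_inv, W.out_mul_out] at h'
    have h7 := hm' _ _ h6
    obtain ⟨q, hq⟩ := W.even
    obtain ⟨e2, he2⟩ := h7
    push_cast at he1
    rw [hq] at he1 he2
    refine hodd ⟨a + 2 * q * e1 - d - q * e2, ?_⟩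
    linarith
  · refine le_antisymm (fun u hu => ?_) ?_
    · obtain ⟨a, b, rfl | rfl⟩ := W.exists_eq u
      · exact (W.rot_mem_diffSub (dvd_mul_left m 2)).2 (hm' a b hu)
      · refine (W.out_mem_diffSub (dvd_mul_left m 2)).2 ?_
        have h6 : x ^ (a + -k) * y ^ (b + -l) ∈ X := by
          have h' := mul_mem hu (inv_mem hg)
          rwa [W.out_inv, W.out_mul_out] at h'
        have := hm' _ _ h6
        ring_nf at this ⊢; exact this
    · have hr : ∀ a b : ℤ, m ∣ a - b → x ^ a * y ^ b ∈ X := by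
        intro a b h
        rcases W.half_cases h with h' | h'
        · rw [show x ^ a * y ^ b = x ^ b * y ^ b from W.rot_eq_iff.2 ⟨h', by simp⟩]; exact hZX b
        · have := mul_mem hm0 (hZX b)
          rw [W.mul_rot] at this
          rwa [show x ^ a * y ^ b = x ^ (m + b) * y ^ (0 + b) from W.rot_eq_iff.2 ⟨by
            rw [show a - (m + b) = a - b - m by ring]; exact h', by simp⟩]
      rintro _ ⟨a, b, ⟨h, rfl⟩ | ⟨h, rfl⟩⟩
      · exact hr a b h
      · have := mul_mem (hr (a - k) (b - l) (by ring_nf at h ⊢; exact h)) hg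
        rw [W.rot_mul_out] at this
        simpa using this

theorem classify (W : WrFrame m x y z) {N : ℕ} (hN : (N : ℤ) = 2 * m) (h2 : IsPGroup 2 S)
    (X : Subgroup S) (hC : Subgroup.centralizer (X : Set S) ≤ X) (hA : ¬ IsPGroup 2 (MulAut X)) :
    X = W.base ∨ ∃ c : ℤ, 2 ∣ c ∧ X = W.diffSub m c := by
  haveI : Fact (Nat.Prime 2) := ⟨Nat.prime_two⟩
  by_cases hXb : X ≤ W.base
  · refine Or.inl (le_antisymm hXb (le_trans (fun g hg => ?_) hC))
    refine Subgroup.mem_centralizer_iff.2 fun h hh => ?_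
    exact congrArg Subtype.val (W.base_comm.is_comm.comm ⟨h, hXb hh⟩ ⟨g, hg⟩)
  obtain ⟨g, hg, hgb⟩ := SetLike.not_le_iff_exists.1 hXb
  obtain ⟨k, l, rfl | rfl⟩ := W.exists_eq g
  · exact absurd (W.rot_mem_base k l) hgb
  right
  have hZX : ∀ i : ℤ, x ^ i * y ^ i ∈ X := fun i => hC (Subgroup.mem_centralizer_iff.2 fun h _ =>
    Subgroup.mem_center_iff.1 (W.mem_center_iff.2 ⟨i, rfl⟩) h)
  -- an automorphism of odd order
  obtain ⟨σ, hσ1, r, hr, hσr⟩ : ∃ σ : MulAut X, σ ≠ 1 ∧ ∃ r, Odd r ∧ σ ^ r = 1 := by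
    by_contra hall
    refine hA fun τ => ?_
    obtain ⟨t, r, hr, hτ⟩ := Nat.exists_eq_two_pow_mul_odd (orderOf_pos τ).ne'
    refine ⟨t, by_contra fun hne => hall ⟨_, hne, r, hr, ?_⟩⟩
    rw [← pow_mul, ← hτ, pow_orderOf_eq_one]
  have hX2 : IsPGroup 2 X := h2.to_subgroup X
  have hdiff : ∀ i j : ℤ, x ^ i * y ^ j ∈ X → x ^ (i - j) * y ^ (0 : ℤ) ∈ X := fun i j h => by
    have := mul_mem h (hZX (-j))
    rw [W.mul_rot] at this
    convert this using 3 <;> ring
  have hdiag : ∀ u : X, ∀ i j : ℤ, (u : S) = x ^ i * y ^ j → (∀ v : X, u * v = v * u) → 2 * m ∣ i - j :=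
    fun u i j hu h => W.rot_out_commute_iff.1 (by
      have := congrArg Subtype.val (h ⟨_, hg⟩)
      simp only [Subgroup.coe_mul] at this
      rwa [hu] at this)
  by_cases hX' : IsMulCommutative X
  · -- the abelian case does not occur
    exfalso
    refine hσ1 ?_
    have hrot : ∀ i j : ℤ, x ^ i * y ^ j ∈ X → ∃ p : ℤ, x ^ i * y ^ j = x ^ p * y ^ p := fun i j h =>
      ⟨i, W.rot_eq_iff.2 ⟨by simp, by
        rw [← dvd_neg, neg_sub]; exact hdiag ⟨_, h⟩ i j rfl fun v => hX'.is_comm.comm _ v⟩⟩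
    -- squares generate a cyclic subgroup which contains all squares
    set K : Subgroup X := (Subgroup.center S).subgroupOf X with hK
    haveI : IsCyclic K := by
      haveI : IsCyclic (Subgroup.center S) := by rw [W.center_eq]; infer_instance
      exact isCyclic_of_injective (X.subtype.subgroupComap (Subgroup.center S))
        fun a b h => Subtype.ext (Subtype.ext (congrArg (fun w : Subgroup.center S => (w : S)) h))
    have hKi : ∀ u v : X, u ∉ K → v ∉ K → u⁻¹ * v ∈ K := by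
      intro u v hu hv
      obtain ⟨a, b, ha | ha⟩ := W.exists_eq (u : S)
      · obtain ⟨p, hp⟩ := hrot a b (ha ▸ u.2)
        exact absurd (Subgroup.mem_subgroupOf.2 (W.mem_center_iff.2 ⟨p, ha.trans hp⟩)) hu
      obtain ⟨c, d, hc | hc⟩ := W.exists_eq (v : S)
      · obtain ⟨p, hp⟩ := hrot c d (hc ▸ v.2)
        exact absurd (Subgroup.mem_subgroupOf.2 (W.mem_center_iff.2 ⟨p, hc.trans hp⟩)) hv
      refine Subgroup.mem_subgroupOf.2 ?_
      have hm' : ((u⁻¹ * v : X) : S) = x ^ (-b + d) * y ^ (-a + c) := by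
        push_cast; rw [ha, hc, W.out_inv, W.out_mul_out]
      rw [hm']
      obtain ⟨p, hp⟩ := hrot _ _ (hm' ▸ (u⁻¹ * v).2)
      exact W.mem_center_iff.2 ⟨p, hp⟩
    -- `σ` fixes the squares, and the elements of order two of the cyclic part
    have hKmem : ∀ u : X, u ^ 2 ∈ K := by
      intro u
      obtain ⟨a, b, ha | ha⟩ := W.exists_eq (u : S)
      · obtain ⟨p, hp⟩ := hrot a b (ha ▸ u.2)
        refine pow_mem (Subgroup.mem_subgroupOf.2 ?_) 2
        exact W.mem_center_iff.2 ⟨p, ha.trans hp⟩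
      · refine Subgroup.mem_subgroupOf.2 ?_
        push_cast; rw [ha, W.out_sq]; exact W.mem_center_iff.2 ⟨_, rfl⟩
    obtain ⟨gK, hgK⟩ := IsCyclic.exists_generator (α := K)
    -- the subgroup of squares
    let sq : X →* X :=
      { toFun := fun u => u ^ 2
        map_one' := one_pow 2
        map_mul' := fun u v => (show Commute u v from hX'.is_comm.comm u v).mul_pow 2 }
    have hsqle : sq.range ≤ K := by rintro _ ⟨u, rfl⟩; exact hKmem u
    haveI : IsCyclic sq.range := isCyclic_of_injective (Subgroup.inclusion hsqle) (Subgroup.inclusion_injective hsqle)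
    have hσsq : ∀ v : sq.range, σ (v : X) ∈ sq.range := by
      rintro ⟨_, u, rfl⟩; exact ⟨σ u, (map_pow σ u 2).symm⟩
    let e : sq.range →* sq.range :=
      { toFun := fun v => ⟨σ v, hσsq v⟩
        map_one' := Subtype.ext (map_one σ)
        map_mul' := fun a b => Subtype.ext (map_mul σ (a : X) (b : X)) }
    let σR : MulAut sq.range := MulEquiv.ofBijective e (Finite.injective_iff_bijective.1 fun a b h =>
      Subtype.ext (σ.injective (congrArg Subtype.val h)))
    have hit : ∀ (i : ℕ) (v : sq.range), (((σR ^ i) v : sq.range) : X) = (σ ^ i) (v : X) := by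
      intro i
      induction i with
      | zero => simp
      | succ i ih => intro v; rw [pow_succ', pow_succ', MulAut.mul_apply, MulAut.mul_apply, ← ih]; rfl
    have hR1 : σR = 1 := aut_eq_one_of_cyclic_two_group (hX2.to_subgroup _) σR hr
      (MulEquiv.ext fun v => Subtype.ext (by rw [hit, hσr]; rfl))
    have hsqfix : ∀ u : X, σ (u ^ 2) = u ^ 2 := fun u =>
      congrArg (fun s : MulAut sq.range => ((s ⟨_, u, rfl⟩ : sq.range) : X)) hR1
    -- the elements squaring to 1
    have homega : ∀ u : X, u ^ 2 = 1 → σ u = u := by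
      -- the central involution is a square
      have hc : (⟨x ^ m * y ^ m, hZX m⟩ : X) = (⟨_, hZX (m / 2)⟩ : X) ^ 2 := Subtype.ext (by
        push_cast; rw [W.rot_pow, W.rot_eq_iff]
        obtain ⟨q, rfl⟩ := W.even
        simp [mul_comm])
      have hcf : σ ⟨x ^ m * y ^ m, hZX m⟩ = ⟨x ^ m * y ^ m, hZX m⟩ := by rw [hc, hsqfix]
      have hzK : ∀ u : X, u ∈ K → u ^ 2 = 1 → u = 1 ∨ u = ⟨x ^ m * y ^ m, hZX m⟩ := by
        intro u hu hu2
        obtain ⟨p, hp⟩ := W.mem_center_iff.1 (Subgroup.mem_subgroupOf.1 hu)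
        have h1 : (x ^ p * y ^ p) ^ 2 = 1 := by rw [← hp]; simpa using congrArg Subtype.val hu2
        obtain ⟨h3, -⟩ := W.rot_sq_eq_one_iff.1 h1
        rcases W.half_cases h3 with h | h
        · exact Or.inl (Subtype.ext (by rw [hp]; exact (W.eq_one p p).2 ⟨h, h⟩))
        · exact Or.inr (Subtype.ext (by rw [hp]; exact W.rot_eq_iff.2 ⟨h, h⟩))
      intro u hu2
      by_cases huK : u ∈ K
      · rcases hzK u huK hu2 with rfl | rfl
        · exact map_one σ
        · exact hcf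
      by_cases hσK : σ u ∈ K
      · rcases hzK _ hσK (by rw [← map_pow, hu2, map_one]) with h | h
        · exact absurd (show u ∈ K by rw [σ.injective (h.trans (map_one σ).symm)]; exact one_mem _) huK
        · rw [← hcf] at h
          exact absurd (σ.injective h ▸ Subgroup.mem_subgroupOf.2 (W.mem_center_iff.2 ⟨m, rfl⟩)) huK
      set w := u⁻¹ * σ u with hw
      have hwK : w ∈ K := hKi u _ huK hσK
      have hw2 : w ^ 2 = 1 := by
        rw [hw, (show Commute u⁻¹ (σ u) from hX'.is_comm.comm _ _).mul_pow, inv_pow, hu2, ← map_pow, hu2,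
          map_one, inv_one, one_mul]
      have hwf : σ w = w := by
        rcases hzK w hwK hw2 with h | h <;> rw [h]
        · exact map_one σ
        · exact hcf
      have it : ∀ i : ℕ, (σ ^ i) u = u * w ^ i := by
        intro i
        induction i with
        | zero => simp
        | succ i ih =>
          rw [pow_succ', MulAut.mul_apply, ih, map_mul, map_pow, hwf, pow_succ', ← mul_assoc, ← mul_assoc,
            hw, mul_inv_cancel, one_mul]
      have h5 := it r
      rw [hσr, MulAut.one_apply, left_eq_mul] at h5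
      obtain ⟨t, rfl⟩ := hr
      rw [pow_succ, pow_mul, hw2, one_pow, one_mul] at h5
      exact (inv_mul_eq_one.1 (hw ▸ h5)).symm
    -- conclude: `u⁻¹ σ u` squares to one
    ext u
    show (σ u : S) = ((1 : MulAut X) u : S)
    rw [MulAut.one_apply]
    have h6 : σ u = u := by
      set w := u⁻¹ * σ u with hw
      have hw2 : w ^ 2 = 1 := by
        rw [hw, (show Commute u⁻¹ (σ u) from hX'.is_comm.comm _ _).mul_pow, inv_pow, ← map_pow, hsqfix,
          inv_mul_cancel]
      have hwf : σ w = w := homega w hw2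
      have it : ∀ i : ℕ, (σ ^ i) u = u * w ^ i := by
        intro i
        induction i with
        | zero => simp
        | succ i ih =>
          rw [pow_succ', MulAut.mul_apply, ih, map_mul, map_pow, hwf, pow_succ', ← mul_assoc, ← mul_assoc,
            hw, mul_inv_cancel, one_mul]
      have h5 := it r
      rw [hσr, MulAut.one_apply, left_eq_mul] at h5
      obtain ⟨t, rfl⟩ := hr
      rw [pow_succ, pow_mul, hw2, one_pow, one_mul] at h5
      exact (inv_mul_eq_one.1 (hw ▸ h5)).symm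
    rw [h6]
  · exact classify_nonabelian W hN h2 X hZX hdiff k l hg σ hσ1 r hr hσr hX'

/-- Let S be a wreathed 2-group of order 2^(2n+1) and X a subgroup with C_S(X) ≤ X such that Aut(X) is not a 2-group. Then |N_S(X) : X| = 2, and either X is the commutative subgroup of order 2^(2n), or X = Q·Z(S) for some subgroup Q ≅ Q₈; in the latter case any two such subgroups are conjugate in S. -/
theorem result {S : Type*} [Group S] [Finite S] (hS : Cfsg.IsWreathed S) (n : ℕ) (hn : Nat.card S = 2 ^ (2 * n + 1)) (X : Subgroup S) (hC : Subgroup.centralizer (X : Set S) ≤ X) (hA : ¬ IsPGroup 2 (MulAut X)) : X.relIndex (Subgroup.normalizer (X : Set S)) = 2 ∧ ((IsMulCommutative X ∧ Nat.card X = 2 ^ (2 * n)) ∨ ∃ Q : Subgroup S, Nonempty (Q ≃* QuaternionGroup 2) ∧ X = Q ⊔ Subgroup.center S) ∧ ∀ X' : Subgroup S, Subgroup.centralizer (X' : Set S) ≤ X' → ¬ IsPGroup 2 (MulAut X') → ¬ IsMulCommutative X → ¬ IsMulCommutative X' → ∃ s : S, X.map (MulAut.conj s).toMonoidHom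 = X' := by
  obtain ⟨k, x, y, z, hk, hcard, W⟩ := CfsgLib.Invol.exists_wrFrame hS
  obtain rfl : n = k := by
    have := Nat.pow_right_injective (le_refl 2) (hn.symm.trans hcard)
    omega
  set m : ℤ := 2 ^ (n - 1) with hm
  have hN : ((2 ^ n : ℕ) : ℤ) = 2 * m := by
    rw [hm]; push_cast; rw [← pow_succ']; congr 1; omega
  obtain ⟨q, hq⟩ := W.even
  have hbase : Nat.card W.base = 2 ^ (2 * n) := by
    have := W.base.card_mul_index
    rw [W.index_base, hn, pow_succ] at this
    omega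
  -- classification of such subgroups
  have key : ∀ Y : Subgroup S, Subgroup.centralizer (Y : Set S) ≤ Y → ¬ IsPGroup 2 (MulAut Y) →
      Y = W.base ∨ ∃ c : ℤ, 2 ∣ c ∧ Y = W.diffSub m c :=
    fun Y h1 h2 => classify W hN (IsPGroup.of_card (n := 2 * n + 1) hn) Y h1 h2
  have hrel : ∀ c : ℤ, 2 ∣ c → (W.diffSub m c).relIndex (Subgroup.normalizer (W.diffSub m c : Set S)) = 2 :=
    fun c hc => relIndex_normalizer W hN hq c
  have hconj : ∀ c c' : ℤ, 2 ∣ c → 2 ∣ c' →
      ∃ s : S, (W.diffSub m c).map (MulAut.conj s).toMonoidHom = W.diffSub m c' :=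
    fun c c' hc hc' => diffSub_conj W hN c c' hc hc'
  have hfin : ∀ Y : Subgroup S, Subgroup.centralizer (Y : Set S) ≤ Y → ¬ IsPGroup 2 (MulAut Y) →
      ¬ IsMulCommutative Y → ∃ c : ℤ, 2 ∣ c ∧ Y = W.diffSub m c := fun Y h1 h2 h3 => by
    rcases key Y h1 h2 with rfl | h
    · exact absurd W.base_comm h3
    · exact h
  refine ⟨?_, ?_, fun X' hC' hA' hna hna' => ?_⟩
  · rcases key X hC hA with rfl | ⟨c, hc, rfl⟩
    · haveI := Subgroup.normal_of_index_eq_two W.index_base
      rw [Subgroup.normalizer_eq_top_iff.2 (inferInstance : W.base.Normal), Subgroup.relIndex_top_right,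
        W.index_base]
    · exact hrel c hc
  · rcases key X hC hA with rfl | ⟨c, hc, rfl⟩
    · exact Or.inl ⟨W.base_comm, hbase⟩
    · exact Or.inr (exists_quaternion W hN hq c hc)
  · obtain ⟨c, hc, rfl⟩ := hfin X hC hA hna
    obtain ⟨c', hc', rfl⟩ := hfin X' hC' hA' hna'
    exact hconj c c' hc hc'

end Cfsg.Agent.S1202
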