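import Cfsg.Statements.S2911
import Cfsg.Agent.Lib.Invol.TransferOrder
import Mathlib.GroupTheory.SpecificGroups.Dihedral
import Mathlib.GroupTheory.Sylow
-- import your own Cfsg.Agent.* helpers here

set_option autoImplicit false
open Cfsg

namespace Cfsg.Agent.S2911

abbrev D := Multiplicative (ZMod 2) × DihedralGroup 4

/-- the central involution outside the derived subgroup -/
def c₀ : D := (Multiplicative.ofAdd 1, 1)

/-- the derived involution -/
def z₀ : D := (1, DihedralGroup.r 2)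

/-- the reflection `sr i` -/
def a₀ (i : ZMod 4) : D := (1, DihedralGroup.sr i)

/-- the elementary abelian subgroup attached to `i` -/
def fours (i : ZMod 4) : Finset D :=
  Finset.univ.filter fun y => y.2 = DihedralGroup.r 0 ∨ y.2 = DihedralGroup.r 2 ∨ y.2 = DihedralGroup.sr i ∨
    y.2 = DihedralGroup.sr (i + 2)

theorem fours_mul : ∀ i : ZMod 4, ∀ a ∈ fours i, ∀ b ∈ fours i, a * b ∈ fours i := by decide +kernel

theorem fours_one : ∀ i : ZMod 4, (1 : D) ∈ fours i := by decide +kernel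

theorem fours_inv : ∀ i : ZMod 4, ∀ a ∈ fours i, a⁻¹ ∈ fours i := by decide +kernel

/-- the elementary abelian subgroup attached to `i` -/
def four (i : ZMod 4) : Subgroup D where
  carrier := fours i
  mul_mem' := fun ha hb => fours_mul i _ ha _ hb
  one_mem' := fours_one i
  inv_mem' := fun ha => fours_inv i _ ha

theorem fours_card : ∀ i : ZMod 4, (fours i).card = 8 := by decide +kernel

theorem fours_el : ∀ i : ZMod 4, ∀ a ∈ fours i, ∀ b ∈ fours i, a * b = b * a ∧ a * a = 1 := by decide +kernel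

theorem fours_c : ∀ i : ZMod 4, c₀ ∈ fours i := by decide +kernel

theorem fours_conj : ∀ i : ZMod 4, ∀ y : D, ∀ a ∈ fours i, y * a * y⁻¹ ∈ fours i := by decide +kernel

theorem fours_list : ∀ i : ZMod 4, ∀ a ∈ fours i,
    a = 1 ∨ a = z₀ ∨ a = c₀ ∨ a = c₀ * z₀ ∨ a = a₀ i ∨ a = a₀ i * z₀ ∨ a = a₀ i * c₀ ∨ a = a₀ i * z₀ * c₀ := by
  decide +kernel

theorem fours_cover : ∀ y : D, y * y = 1 → y ∈ fours 0 ∨ y ∈ fours 1 := by decide +kernel

set_option synthInstance.maxSize 4000 in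
set_option synthInstance.maxHeartbeats 400000 in
theorem fours_noncomm : ∀ u v : D, u ∈ fours 0 → u ∉ fours 1 → v ∈ fours 1 → v ∉ fours 0 → u * v ≠ v * u := by
  decide +kernel

theorem central : ∀ y : D, c₀ * y = y * c₀ ∧ z₀ * y = y * z₀ := by decide +kernel

theorem squares : ∀ y : D, y * y = 1 ∨ y * y = z₀ := by decide +kernel

theorem swaps : ∀ i : ZMod 4,
    ∃ s : D, s * a₀ i * s⁻¹ = a₀ i * z₀ ∧ s * (a₀ i * c₀) * s⁻¹ = a₀ i * z₀ * c₀ := by
  decide +kernel

/-- a linear functional with kernel containing `z₀` -/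
def fn (u v : ZMod 2) (y : D) : ZMod 2 :=
  Multiplicative.toAdd y.1 + match y.2 with
    | DihedralGroup.r i => (i.val : ZMod 2) * (u + v)
    | DihedralGroup.sr i => ((i.val : ZMod 2) * (u + v)) + u

theorem fn_mul : ∀ u v : ZMod 2, ∀ a b : D, fn u v (a * b) = fn u v a + fn u v b := by decide +kernel

theorem fn_vals : ∀ u v : ZMod 2, fn u v c₀ = 1 ∧ fn u v z₀ = 0 ∧ fn u v (a₀ 0) = u ∧ fn u v (a₀ 1) = v := by
  decide +kernel

set_option synthInstance.maxSize 4000 in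
set_option synthInstance.maxHeartbeats 400000 in
theorem classes : ∀ u v : ZMod 2, ∀ y : D, y * y = 1 → fn u v y = 0 →
    y = 1 ∨ y = z₀ ∨ y = c₀ * z₀ ∨
    (u = 0 ∧ (y = a₀ 0 ∨ y = a₀ 0 * z₀)) ∨ (u = 1 ∧ (y = a₀ 0 * c₀ ∨ y = a₀ 0 * z₀ * c₀)) ∨
    (v = 0 ∧ (y = a₀ 1 ∨ y = a₀ 1 * z₀)) ∨ (v = 1 ∧ (y = a₀ 1 * c₀ ∨ y = a₀ 1 * z₀ * c₀)) := by
  decide +kernel

section

variable {G : Type*} [Group G] [Finite G]

theorem main (S : Sylow 2 G) (e : ↥(S : Subgroup G) ≃* D) : ∃ H : Subgroup G, H.index = 2 := by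
  classical
  have hinv := fours_cover
  have hnc := fours_noncomm
  have hcent := central
  have hsq := squares
  have hswap := swaps
  set ι : D →* G := (S : Subgroup G).subtype.comp e.symm.toMonoidHom with hι
  have hιinj : Function.Injective ι := Subtype.val_injective.comp e.symm.injective
  have hιS : ∀ y, ι y ∈ (S : Subgroup G) := fun y => (e.symm y).2
  have hsurj : ∀ x ∈ (S : Subgroup G), ∃ y, ι y = x := fun x hx => ⟨e ⟨x, hx⟩, by
    show ((e.symm (e ⟨x, hx⟩) : (S : Subgroup G)) : G) = x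
    rw [e.symm_apply_apply]⟩
  set N := Subgroup.normalizer ((S : Subgroup G) : Set G) with hN
  have hodd : ∀ n ∈ N, ∃ k : ℕ, n ^ (2 * k + 1) ∈ (S : Subgroup G) := by
    intro n hn
    have hi : ¬ 2 ∣ ((S : Subgroup G).subgroupOf N).index := fun h =>
      S.not_dvd_index (h.trans (Subgroup.relIndex_dvd_index_of_le Subgroup.le_normalizer))
    obtain ⟨k, hk⟩ : Odd ((S : Subgroup G).subgroupOf N).index := Nat.odd_iff.2 (by omega)
    refine ⟨k, ?_⟩
    rw [← hk]
    exact ((S : Subgroup G).subgroupOf N).pow_index_mem ⟨n, hn⟩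
  have hback : ∀ (K : Subgroup G) (n : G) (k : ℕ), n ^ 2 ∈ K → n ^ (2 * k + 1) ∈ K → n ∈ K := by
    intro K n k h1 h2
    have h3 := K.mul_mem (K.inv_mem (K.pow_mem h1 k)) h2
    rwa [← pow_mul, pow_succ, ← mul_assoc, inv_mul_cancel, one_mul] at h3
  have hcS : ∀ y : D, (∀ w, y * w = w * y) → ι y ∈ Subgroup.centralizer ((S : Subgroup G) : Set G) := fun y hy => by
    refine Subgroup.mem_centralizer_iff.2 fun x hx => ?_
    obtain ⟨w, rfl⟩ := hsurj x hx
    rw [← map_mul, ← map_mul, hy w]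
  -- `z₀` is fixed by the normalizer
  have hNz : ∀ n ∈ N, n * ι z₀ * n⁻¹ = ι z₀ := by
    intro n hn
    obtain ⟨w, hw⟩ := hsurj _ ((Subgroup.mem_normalizer_iff.1 hn (ι (1, DihedralGroup.r 1))).1 (hιS _))
    have e1 : n * ι z₀ * n⁻¹ = ι (w * w) := by
      rw [map_mul, hw, show z₀ = ((1, DihedralGroup.r 1) : D) * (1, DihedralGroup.r 1) by decide, map_mul]
      group
    rcases hsq w with h | h
    · exfalso
      rw [h, map_one] at e1
      have : ι z₀ = 1 := by
        calc ι z₀ = n⁻¹ * (n * ι z₀ * n⁻¹) * n := by group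
          _ = 1 := by rw [e1]; group
      exact absurd (hιinj (this.trans (map_one ι).symm)) (by decide)
    · rw [e1, h]
  -- no central fusion
  have hcz : ∀ g : G, g * ι c₀ * g⁻¹ ≠ ι (c₀ * z₀) := by
    intro g hg
    have h1 := hcS c₀ fun w => (hcent w).1
    have h2 : (g⁻¹)⁻¹ * ι c₀ * g⁻¹ ∈ Subgroup.centralizer ((S : Subgroup G) : Set G) := by
      rw [inv_inv, hg]
      exact hcS _ fun w => by rw [mul_assoc, (hcent w).2, ← mul_assoc, (hcent w).1, mul_assoc]
    obtain ⟨n, hn, hne⟩ := S.conj_eq_normalizer_conj_of_mem_centralizer (ι c₀) g⁻¹ h1 h2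
    rw [inv_inv, hg] at hne
    set K := Subgroup.centralizer ({ι c₀} : Set G) with hK
    have hmem : ∀ x : G, x * ι c₀ * x⁻¹ = ι c₀ → x ∈ K := fun x hx =>
      Subgroup.mem_centralizer_singleton_iff.2 (mul_inv_eq_iff_eq_mul.1 hx)
    have hm : n⁻¹ ∈ N := N.inv_mem hn
    obtain ⟨k, hk⟩ := hodd _ hm
    have hm1 : n⁻¹ * ι c₀ * n⁻¹⁻¹ = ι (c₀ * z₀) := by rw [inv_inv]; exact hne.symm
    have h3 : n⁻¹ ^ 2 ∈ K := by
      refine hmem _ ?_
      rw [show n⁻¹ ^ 2 * ι c₀ * (n⁻¹ ^ 2)⁻¹ = n⁻¹ * (n⁻¹ * ι c₀ * n⁻¹⁻¹) * n⁻¹⁻¹ by rw [pow_two]; simp [mul_assoc], hm1,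
        map_mul, conj_mul.symm, hNz _ hm, hm1, map_mul, mul_assoc, ← map_mul, show z₀ * z₀ = (1 : D) by decide,
        map_one, mul_one]
    have h4 : n⁻¹ ^ (2 * k + 1) ∈ K := by
      obtain ⟨w, hw⟩ := hsurj _ hk
      refine hmem _ ?_
      rw [← hw, ← map_inv, ← map_mul, ← map_mul, ← (hcent w).1, mul_inv_cancel_right]
    have h5 := Subgroup.mem_centralizer_singleton_iff.1 (hback K _ k h3 h4)
    rw [mul_inv_eq_iff_eq_mul.2 h5] at hm1
    exact absurd (hιinj hm1) (by decide)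
  -- the two elementary abelian subgroups of order eight
  set A : ZMod 4 → Subgroup G := fun i => (four i).map ι with hA
  have hAcard : ∀ i, Nat.card (A i) = 8 := fun i => by
    rw [hA, Subgroup.card_map_of_injective hιinj]
    exact (Nat.card_eq_finsetCard (fours i)).trans (fours_card i)
  have hAS : ∀ i, A i ≤ (S : Subgroup G) := fun i => by
    rintro _ ⟨y, -, rfl⟩
    exact hιS y
  have hAel : ∀ i, ∀ x ∈ A i, ∀ y ∈ A i, x * y = y * x ∧ x * x = 1 := by
    rintro i _ ⟨a, ha, rfl⟩ _ ⟨b, hb, rfl⟩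
    obtain ⟨h1, h2⟩ := fours_el i a ha b hb
    exact ⟨by rw [← map_mul, h1, map_mul], by rw [← map_mul, h2, map_one]⟩
  have hclass : ∀ X : Subgroup G, X ≤ (S : Subgroup G) → Nat.card X = 8 →
      (∀ x ∈ X, ∀ y ∈ X, x * y = y * x ∧ x * x = 1) → X = A 0 ∨ X = A 1 := by
    intro X hX hc hel
    have h2 : ∀ i, X ≤ A i → X = A i := fun i h => Subgroup.eq_of_le_of_card_ge h (by rw [hAcard, hc])
    by_contra hcon
    push Not at hcon
    obtain ⟨u, hu, hu1⟩ := SetLike.not_le_iff_exists.1 fun h => hcon.2 (h2 1 h)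
    obtain ⟨v, hv, hv0⟩ := SetLike.not_le_iff_exists.1 fun h => hcon.1 (h2 0 h)
    obtain ⟨u', rfl⟩ := hsurj u (hX hu)
    obtain ⟨v', rfl⟩ := hsurj v (hX hv)
    have hu1' : u' ∉ fours 1 := fun h => hu1 ⟨u', h, rfl⟩
    have hv0' : v' ∉ fours 0 := fun h => hv0 ⟨v', h, rfl⟩
    have hu2 : u' * u' = 1 := hιinj (by rw [map_mul, map_one]; exact (hel _ hu _ hu).2)
    have hv2 : v' * v' = 1 := hιinj (by rw [map_mul, map_one]; exact (hel _ hv _ hv).2)
    exact hnc u' v' ((hinv u' hu2).resolve_right hu1') hu1' ((hinv v' hv2).resolve_left hv0') hv0'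
      (hιinj (by rw [map_mul, map_mul]; exact (hel _ hu _ hv).1))
  set conj : G → Subgroup G → Subgroup G := fun g X => X.map (MulAut.conj g).toMonoidHom with hconj
  have hcc : ∀ g (X : Subgroup G), Nat.card (conj g X) = Nat.card X := fun g X =>
    Subgroup.card_map_of_injective (MulAut.conj g).injective
  have hcel : ∀ g i, ∀ x ∈ conj g (A i), ∀ y ∈ conj g (A i), x * y = y * x ∧ x * x = 1 := by
    rintro g i _ ⟨a, ha, rfl⟩ _ ⟨b, hb, rfl⟩
    obtain ⟨h1, h2⟩ := hAel i a ha b hb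
    exact ⟨by rw [← map_mul, h1, map_mul], by rw [← map_mul, h2, map_one]⟩
  have hAn : ∀ i, (S : Subgroup G) ≤ Subgroup.normalizer (A i : Set G) := by
    intro i s hs
    obtain ⟨w, rfl⟩ := hsurj s hs
    refine Subgroup.mem_normalizer_iff.2 fun x => ⟨?_, fun hx => ?_⟩
    · rintro ⟨a, ha, rfl⟩
      exact ⟨w * a * w⁻¹, fours_conj i w a ha, by simp⟩
    · obtain ⟨a, ha, e⟩ := hx
      refine ⟨w⁻¹ * a * w⁻¹⁻¹, fours_conj i w⁻¹ a ha, ?_⟩
      rw [map_mul, map_mul, map_inv, map_inv, e]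
      simp [mul_assoc]
  have hne : A 0 ≠ A 1 := fun h => by
    obtain ⟨y, hy, e⟩ := (h.le ⟨a₀ 0, show a₀ 0 ∈ fours 0 by decide, rfl⟩ : ι (a₀ 0) ∈ A 1)
    rw [hιinj e] at hy
    exact absurd (show a₀ 0 ∈ fours 1 from hy) (by decide)
  have hnotconj : ∀ g, conj g (A 0) ≠ A 1 := by
    intro g hg
    -- move the Sylow subgroup along
    have hg2 : conj g (S : Subgroup G) ≤ Subgroup.normalizer (A 1 : Set G) := by
      rw [← hg]
      exact (Subgroup.map_mono (hAn 0)).trans (Subgroup.le_normalizer_map _)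
    have hg3 : ((g • S : Sylow 2 G) : Subgroup G) ≤ Subgroup.normalizer (A 1 : Set G) := hg2
    obtain ⟨h', hhS⟩ := MulAction.exists_smul_eq (Subgroup.normalizer (A 1 : Set G))
      ((g • S).subtype hg3) (S.subtype (hAn 1))
    simp_rw [Sylow.smul_subtype, Subgroup.smul_def, smul_smul] at hhS
    obtain ⟨h, hh⟩ := h'
    have hn : h * g ∈ N := Sylow.smul_eq_iff_mem_normalizer.1 (Sylow.subtype_injective hhS)
    have h01 : conj (h * g) (A 0) = A 1 := by
      rw [hconj]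
      show (A 0).map (MulAut.conj (h * g)).toMonoidHom = A 1
      ext x
      constructor
      · rintro ⟨y, hy, rfl⟩
        have h1 : g * y * g⁻¹ ∈ A 1 := hg.le ⟨y, hy, rfl⟩
        have h2 := (Subgroup.mem_normalizer_iff.1 hh _).1 h1
        simpa [mul_assoc] using h2
      · intro hx
        obtain ⟨y, hy, e⟩ := hg.ge ((Subgroup.mem_normalizer_iff''.1 hh x).1 hx)
        refine ⟨y, hy, ?_⟩
        show (h * g) * y * (h * g)⁻¹ = x
        have e' : g * y * g⁻¹ = h⁻¹ * x * h := e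
        calc (h * g) * y * (h * g)⁻¹ = h * (g * y * g⁻¹) * h⁻¹ := by group
          _ = x := by rw [e']; group
    set m := h * g with hmdef
    have hS' : ∀ i, conj m (A i) ≤ (S : Subgroup G) := fun i => by
      rintro _ ⟨y, hy, rfl⟩
      exact (Subgroup.mem_normalizer_iff.1 hn y).1 (hAS i hy)
    have h10 : conj m (A 1) = A 0 := by
      rcases hclass _ (hS' 1) (by rw [hcc, hAcard]) (hcel m 1) with h' | h'
      · exact h'
      · exact absurd (Subgroup.map_injective (MulAut.conj m).injective (h01.trans h'.symm)) hne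
    set K := Subgroup.normalizer (A 0 : Set G) with hK
    obtain ⟨k, hk⟩ := hodd m hn
    have h2 : m ^ 2 ∈ K := by
      refine Subgroup.mem_normalizer_iff.2 fun x => ⟨fun hx => ?_, fun hx => ?_⟩
      · refine h10.le ⟨m * x * m⁻¹, h01.le ⟨x, hx, rfl⟩, ?_⟩
        show m * (m * x * m⁻¹) * m⁻¹ = m ^ 2 * x * (m ^ 2)⁻¹
        rw [pow_two]; group
      · obtain ⟨y, hy, e⟩ := h10.ge hx
        obtain ⟨w, hw, e'⟩ := h01.ge hy
        have e1 : m * y * m⁻¹ = m ^ 2 * x * (m ^ 2)⁻¹ := e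
        have e2 : m * w * m⁻¹ = y := e'
        rwa [show x = w by
          calc x = (m ^ 2)⁻¹ * (m ^ 2 * x * (m ^ 2)⁻¹) * m ^ 2 := by group
            _ = w := by rw [← e1, ← e2, pow_two]; group]
    have hmK : m ∈ K := hback K m k h2 (hAn 0 hk)
    apply hne
    rw [← h01]
    ext x
    constructor
    · intro hx
      exact ⟨m⁻¹ * x * m, (Subgroup.mem_normalizer_iff''.1 hmK x).1 hx, by show m * (m⁻¹ * x * m) * m⁻¹ = x; group⟩
    · rintro ⟨y, hy, rfl⟩
      exact (Subgroup.mem_normalizer_iff.1 hmK y).1 hy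
  -- a conjugate of `c₀` in an elementary abelian subgroup is a conjugate under its normalizer
  have hlocal : ∀ i : ZMod 4, (i = 0 ∨ i = 1) → ∀ (g : G), g * ι c₀ * g⁻¹ ∈ A i →
      ∃ n ∈ Subgroup.normalizer (A i : Set G), n * ι c₀ * n⁻¹ = g * ι c₀ * g⁻¹ := by
    intro i hi g hg
    set C := Subgroup.centralizer ({ι c₀} : Set G) with hC
    have hSC : (S : Subgroup G) ≤ C := fun s hs => Subgroup.mem_centralizer_singleton_iff.2
      (Subgroup.mem_centralizer_iff.1 (hcS c₀ fun w => (hcent w).1) s hs)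
    have hX : conj g⁻¹ (A i) ≤ C := by
      rintro _ ⟨y, hy, rfl⟩
      refine Subgroup.mem_centralizer_singleton_iff.2 ?_
      show g⁻¹ * y * g⁻¹⁻¹ * ι c₀ = ι c₀ * (g⁻¹ * y * g⁻¹⁻¹)
      calc g⁻¹ * y * g⁻¹⁻¹ * ι c₀ = g⁻¹ * (y * (g * ι c₀ * g⁻¹)) * g := by group
        _ = g⁻¹ * ((g * ι c₀ * g⁻¹) * y) * g := by rw [(hAel i y hy _ hg).1]
        _ = ι c₀ * (g⁻¹ * y * g⁻¹⁻¹) := by group
    have hXp : IsPGroup 2 (conj g⁻¹ (A i)) := IsPGroup.of_card (n := 3) (by rw [hcc, hAcard]; norm_num)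
    obtain ⟨T, hT⟩ := (hXp.of_equiv (Subgroup.subgroupOfEquivOfLe hX).symm).exists_le_sylow
    obtain ⟨h, hh⟩ := MulAction.exists_smul_eq C T (S.subtype hSC)
    have hin : conj (h : G) (conj g⁻¹ (A i)) ≤ (S : Subgroup G) := by
      rintro _ ⟨y, hy, rfl⟩
      have h1 : h * ⟨y, hX hy⟩ * h⁻¹ ∈ ((S.subtype hSC : Sylow 2 C) : Subgroup C) := by
        rw [← hh, Sylow.coe_subgroup_smul]
        exact ⟨⟨y, hX hy⟩, hT hy, rfl⟩
      exact h1
    have heq : conj (h : G) (conj g⁻¹ (A i)) = conj ((h : G) * g⁻¹) (A i) := by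
      rw [hconj]
      show ((A i).map _).map _ = (A i).map _
      rw [Subgroup.map_map]
      congr 1
      ext x
      show (h : G) * (g⁻¹ * x * g⁻¹⁻¹) * (h : G)⁻¹ = _
      simp [mul_assoc]
    rw [heq] at hin
    set m := (h : G) * g⁻¹ with hm
    have hmA : conj m (A i) = A i := by
      rcases hclass _ hin (by rw [hcc, hAcard]) (hcel m i) with h' | h' <;> rcases hi with rfl | rfl
      · exact h'
      · refine absurd ?_ (hnotconj m⁻¹)
        rw [← h', hconj]
        show (((A 1).map (MulAut.conj m).toMonoidHom).map (MulAut.conj m⁻¹).toMonoidHom) = A 1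
        rw [Subgroup.map_map]
        conv_rhs => rw [← Subgroup.map_id (A 1)]
        congr 1
        ext x
        simp [mul_assoc]
      · exact absurd h' (hnotconj m)
      · exact h'
    have hmn : m⁻¹ ∈ Subgroup.normalizer (A i : Set G) := by
      refine Subgroup.inv_mem _ (Subgroup.mem_normalizer_iff.2 fun x => ⟨fun hx => hmA.le ⟨x, hx, rfl⟩, fun hx => ?_⟩)
      obtain ⟨y, hy, e⟩ := hmA.ge hx
      rwa [← (MulAut.conj m).injective (show MulAut.conj m y = MulAut.conj m x from e)]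
    refine ⟨m⁻¹, hmn, ?_⟩
    have hc' : (h : G)⁻¹ * ι c₀ * (h : G)⁻¹⁻¹ = ι c₀ := by
      rw [inv_inv, mul_assoc, ← Subgroup.mem_centralizer_singleton_iff.1 h.2, inv_mul_cancel_left]
    calc m⁻¹ * ι c₀ * m⁻¹⁻¹ = g * ((h : G)⁻¹ * ι c₀ * (h : G)⁻¹⁻¹) * g⁻¹ := by rw [hm]; group
      _ = g * ι c₀ * g⁻¹ := by rw [hc']
  set isC : D → Prop := fun y => ∃ g : G, g * ι c₀ * g⁻¹ = ι y with hisC
  -- the two cosets of an elementary abelian subgroup are not both fused to `c₀`
  have hone : ∀ i : ZMod 4, (i = 0 ∨ i = 1) → ¬ (isC (a₀ i) ∧ isC (a₀ i * c₀)) := by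
    rintro i hi ⟨⟨g₁, hg₁⟩, ⟨g₂, hg₂⟩⟩
    have hc := fours_c i
    have hlist := fours_list i
    obtain ⟨s, hs1, hs2⟩ := hswap i
    set O : Finset D := {c₀, a₀ i, a₀ i * z₀, a₀ i * c₀, a₀ i * z₀ * c₀} with hO
    have hOC : ∀ y ∈ O, isC y := by
      intro y hy
      simp only [hO, Finset.mem_insert, Finset.mem_singleton] at hy
      rcases hy with rfl | rfl | rfl | rfl | rfl
      · exact ⟨1, by simp⟩
      · exact ⟨g₁, hg₁⟩
      · exact ⟨ι s * g₁, by rw [← hs1, map_mul, map_mul, map_inv, ← hg₁]; group⟩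
      · exact ⟨g₂, hg₂⟩
      · exact ⟨ι s * g₂, by rw [← hs2, map_mul, map_mul, map_inv, ← hg₂]; group⟩
    have hCO : ∀ y ∈ fours i, isC y → y ∈ O := by
      intro y hy ⟨g, hg⟩
      have hz : ∀ g : G, g * ι c₀ * g⁻¹ ≠ 1 := fun g h => by
        have h1 : ι c₀ = 1 := by
          calc ι c₀ = g⁻¹ * (g * ι c₀ * g⁻¹) * g := by group
            _ = 1 := by rw [h]; group
        exact absurd (hιinj (h1.trans (map_one ι).symm)) (by decide)
      have hzz : g * ι c₀ * g⁻¹ ≠ ι z₀ := by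
        intro h
        obtain ⟨n, hn', hne'⟩ := S.conj_eq_normalizer_conj_of_mem_centralizer (ι c₀) g⁻¹
          (hcS c₀ fun w => (hcent w).1) (by rw [inv_inv, h]; exact hcS z₀ fun w => (hcent w).2)
        rw [inv_inv, h] at hne'
        have h1 := hNz _ hn'
        refine absurd (hιinj (?_ : ι c₀ = ι z₀)) (by decide)
        calc ι c₀ = n * (n⁻¹ * ι c₀ * n) * n⁻¹ := by group
          _ = ι z₀ := by rw [← hne', h1]
      have hl := hlist y hy
      simp only [hO, Finset.mem_insert, Finset.mem_singleton]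
      rcases hl with rfl | rfl | rfl | rfl | h | h | h | h
      · exact absurd (hg.trans (map_one ι)) (hz g)
      · exact absurd hg hzz
      · exact Or.inl rfl
      · exact absurd hg (hcz g)
      all_goals tauto
    have hO4 : ∀ y ∈ O, y ∈ fours i := by
      intro y hy
      simp only [hO, Finset.mem_insert, Finset.mem_singleton] at hy
      rcases hy with rfl | rfl | rfl | rfl | rfl
      · exact hc
      all_goals (rcases hi with rfl | rfl <;> decide)
    obtain ⟨n, hn', hne'⟩ := hlocal i hi g₁ (hg₁ ▸ ⟨a₀ i, hO4 _ (by simp [hO]), rfl⟩)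
    -- the automorphism given by `n`
    have hφ : ∀ y : D, ∃ y' : D, y ∈ fours i → y' ∈ fours i ∧ ι y' = n * ι y * n⁻¹ := by
      intro y
      by_cases hy : y ∈ fours i
      · obtain ⟨y', hy', e⟩ := (Subgroup.mem_normalizer_iff.1 hn' (ι y)).1 ⟨y, hy, rfl⟩
        exact ⟨y', fun _ => ⟨hy', e⟩⟩
      · exact ⟨y, fun h => absurd h hy⟩
    choose φ hφ using hφ
    have hφinj : Set.InjOn φ O := fun x hx y hy h => hιinj <| by
      have e1 := (hφ x (hO4 x hx)).2
      rw [h, (hφ y (hO4 y hy)).2] at e1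
      exact mul_left_cancel (mul_right_cancel e1).symm
    have himg : O.image φ = O := by
      refine Finset.eq_of_subset_of_card_le (fun y hy => ?_) (Finset.card_image_of_injOn hφinj).ge
      obtain ⟨x, hx, rfl⟩ := Finset.mem_image.1 hy
      obtain ⟨h1, h2⟩ := hφ x (hO4 x hx)
      obtain ⟨g, hg⟩ := hOC x hx
      exact hCO _ h1 ⟨n * g, by rw [h2, ← hg]; group⟩
    -- the product of the orbit is `c₀` and is fixed
    have hprod : c₀ * a₀ i * (a₀ i * z₀) * (a₀ i * c₀) * (a₀ i * z₀ * c₀) = c₀ := by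
      rcases hi with rfl | rfl <;> decide
    letI : CommGroup (A i) := { (inferInstance : Group (A i)) with
      mul_comm := fun x y => Subtype.ext (hAel i x x.2 y y.2).1 }
    let f : D → A i := fun y => if hy : y ∈ fours i then ⟨ι y, y, hy, rfl⟩ else 1
    have hf : ∀ y ∈ fours i, (f y : G) = ι y := fun y hy => by simp [f, hy]
    let nc : A i → A i := fun x => ⟨n * x * n⁻¹, (Subgroup.mem_normalizer_iff.1 hn' _).1 x.2⟩
    let ncH : A i →* A i := MonoidHom.mk' nc fun x y => Subtype.ext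
      (show n * ((x : G) * y) * n⁻¹ = n * x * n⁻¹ * (n * y * n⁻¹) by group)
    have hP : O.prod f = f c₀ := by
      have e : O = [c₀, a₀ i, a₀ i * z₀, a₀ i * c₀, a₀ i * z₀ * c₀].toFinset := by
        rw [hO]; rcases hi with rfl | rfl <;> decide
      rw [e, List.prod_toFinset f (by rcases hi with rfl | rfl <;> decide)]
      refine Subtype.ext ?_
      simp only [List.map_cons, List.map_nil, List.prod_cons, List.prod_nil, mul_one, Subgroup.coe_mul]
      rw [hf _ hc, hf _ (hO4 _ (by simp [hO])), hf _ (hO4 _ (by simp [hO])), hf _ (hO4 _ (by simp [hO])),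
        hf _ (hO4 _ (by simp [hO])), ← map_mul, ← map_mul, ← map_mul, ← map_mul]
      refine congrArg ι ?_
      rw [← mul_assoc, ← mul_assoc, ← mul_assoc, hprod]
    have hP2 : ncH (O.prod f) = O.prod f := by
      conv_rhs => rw [← himg, Finset.prod_image hφinj]
      rw [map_prod]
      refine Finset.prod_congr rfl fun x hx => Subtype.ext ?_
      show n * (f x : G) * n⁻¹ = _
      rw [hf _ (hφ x (hO4 x hx)).1, hf _ (hO4 x hx), (hφ x (hO4 x hx)).2]
    rw [hP] at hP2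
    have h3 : n * ι c₀ * n⁻¹ = ι c₀ := by
      have h4 : n * (f c₀ : G) * n⁻¹ = (f c₀ : G) := congrArg Subtype.val hP2
      rwa [hf _ hc] at h4
    rw [hne', hg₁] at h3
    exact absurd (hιinj h3) (by rcases hi with rfl | rfl <;> decide)
  -- choice of the maximal subgroup
  obtain ⟨u, hu⟩ : ∃ u : ZMod 2, (u = 0 → ¬ isC (a₀ 0)) ∧ (u = 1 → ¬ isC (a₀ 0 * c₀)) := by
    by_cases h : isC (a₀ 0)
    · exact ⟨1, fun h0 => absurd h0 (by decide), fun _ h1 => hone 0 (Or.inl rfl) ⟨h, h1⟩⟩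
    · exact ⟨0, fun _ => h, fun h0 => absurd h0 (by decide)⟩
  obtain ⟨v, hv⟩ : ∃ v : ZMod 2, (v = 0 → ¬ isC (a₀ 1)) ∧ (v = 1 → ¬ isC (a₀ 1 * c₀)) := by
    by_cases h : isC (a₀ 1)
    · exact ⟨1, fun h0 => absurd h0 (by decide), fun _ h1 => hone 1 (Or.inr rfl) ⟨h, h1⟩⟩
    · exact ⟨0, fun _ => h, fun h0 => absurd h0 (by decide)⟩
  let χ : D →* Multiplicative (ZMod 2) := MonoidHom.mk' (fun y => Multiplicative.ofAdd (fn u v y))
    (fun a b => congrArg Multiplicative.ofAdd (fn_mul u v a b))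
  have hker : ∀ y, y ∈ χ.ker ↔ fn u v y = 0 := fun y => Iff.rfl
  have hrel : (χ.ker.map ι).relIndex (S : Subgroup G) = 2 := by
    rw [show (S : Subgroup G) = (⊤ : Subgroup D).map ι from le_antisymm
      (fun x hx => by obtain ⟨y, rfl⟩ := hsurj x hx; exact ⟨y, Subgroup.mem_top y, rfl⟩)
      (by rintro _ ⟨y, -, rfl⟩; exact hιS y), Subgroup.relIndex_map_map_of_injective _ _ hιinj,
      Subgroup.relIndex_top_right, Subgroup.index_ker]
    have hs : Function.Surjective χ := fun m => by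
      by_cases hm : m = 1
      · exact ⟨1, by rw [hm, map_one]⟩
      · refine ⟨c₀, ?_⟩
        have h1 : χ c₀ = Multiplicative.ofAdd 1 := congrArg Multiplicative.ofAdd (fn_vals u v).1
        have h2 : ∀ m : Multiplicative (ZMod 2), m ≠ 1 → Multiplicative.ofAdd 1 = m := by decide
        rw [h1, h2 m hm]
    rw [MonoidHom.range_eq_top.2 hs, Subgroup.card_top]
    simp
  have hcord : orderOf (ι c₀) = 2 ^ 1 := by
    rw [pow_one, orderOf_injective ι hιinj]
    exact orderOf_eq_prime (by decide) (by decide)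
  refine CfsgLib.Invol.exists_index_two_of_no_conj S (χ.ker.map ι)
    (by rintro _ ⟨y, -, rfl⟩; exact hιS y) hrel (n := 1) (fun y _ hyM => ?_) (ι c₀) hcord fun g hg => ?_
  · have h1 : y ≠ 1 := fun h => hyM (h ▸ one_mem _)
    have h2 : orderOf y ≠ 1 := fun h => h1 (orderOf_eq_one_iff.1 h)
    have h3 := orderOf_pos y
    simp only [Nat.sub_self, pow_zero]
    omega
  · obtain ⟨y, hy, hgy⟩ := hg
    have hy0 : fn u v y = 0 := hy
    have hyC : isC y := ⟨g, hgy.symm⟩
    have hy2 : y * y = 1 := hιinj (by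
      rw [map_mul, map_one, hgy]
      calc g * ι c₀ * g⁻¹ * (g * ι c₀ * g⁻¹) = g * ι (c₀ * c₀) * g⁻¹ := by rw [map_mul]; group
        _ = 1 := by rw [show c₀ * c₀ = (1 : D) by decide, map_one]; group)
    obtain ⟨s₀, hs₀1, hs₀2⟩ := hswap 0
    obtain ⟨s₁, hs₁1, hs₁2⟩ := hswap 1
    have htr : ∀ s a b : D, s * a * s⁻¹ = b → isC b → isC a := fun s a b h ⟨g, hg⟩ =>
      ⟨(ι s)⁻¹ * g, by
        calc (ι s)⁻¹ * g * ι c₀ * ((ι s)⁻¹ * g)⁻¹ = (ι s)⁻¹ * (g * ι c₀ * g⁻¹) * ι s := by group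
          _ = ι a := by rw [hg, ← h, map_mul, map_mul, map_inv]; group⟩
    rcases classes u v y hy2 hy0 with rfl | rfl | rfl | ⟨h0, rfl | rfl⟩ | ⟨h0, rfl | rfl⟩ | ⟨h0, rfl | rfl⟩ |
      ⟨h0, rfl | rfl⟩
    · rw [map_one] at hgy
      have : ι c₀ = 1 := by
        calc ι c₀ = g⁻¹ * (g * ι c₀ * g⁻¹) * g := by group
          _ = 1 := by rw [← hgy]; group
      exact absurd (hιinj (this.trans (map_one ι).symm)) (by decide)
    · obtain ⟨n, hn', hne'⟩ := S.conj_eq_normalizer_conj_of_mem_centralizer (ι c₀) g⁻¹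
        (hcS c₀ fun w => (hcent w).1) (by rw [inv_inv, ← hgy]; exact hcS z₀ fun w => (hcent w).2)
      rw [inv_inv, ← hgy] at hne'
      have h1 := hNz _ hn'
      refine absurd (hιinj (?_ : ι c₀ = ι z₀)) (by decide)
      calc ι c₀ = n * (n⁻¹ * ι c₀ * n) * n⁻¹ := by group
        _ = ι z₀ := by rw [← hne', h1]
    · exact hcz g hgy.symm
    · exact hu.1 h0 hyC
    · exact hu.1 h0 (htr s₀ _ _ hs₀1 hyC)
    · exact hu.2 h0 hyC
    · exact hu.2 h0 (htr s₀ _ _ hs₀2 hyC)
    · exact hv.1 h0 hyC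
    · exact hv.1 h0 (htr s₁ _ _ hs₁1 hyC)
    · exact hv.2 h0 hyC
    · exact hv.2 h0 (htr s₁ _ _ hs₁2 hyC)

end

/-- A finite group whose Sylow 2-subgroups are isomorphic to the direct product of a group of order 2 and a dihedral group of order 8 has a subgroup of index two. -/
theorem result {G : Type*} [Group G] [Finite G] (S : Sylow 2 G) (hS : Nonempty (↥(S : Subgroup G) ≃* Multiplicative (ZMod 2) × DihedralGroup 4)) : ∃ H : Subgroup G, H.index = 2 := by
  obtain ⟨e⟩ := hS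
  exact main S e

end Cfsg.Agent.S2911
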