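import Cfsg.Statements.S0307
import Cfsg.Agent.Lib.Classical.SLBasic

set_option autoImplicit false
open Cfsg

namespace Cfsg.Agent.S0307

/-- PSL_n(q) is normal in PGL_n(q) with cyclic quotient of order gcd(n, q-1): the image of the natural map PSL_n → PGL_n is the kernel of a surjective homomorphism onto the cyclic group of that order. -/
theorem result {F : Type*} [Field F] [Fintype F] {q : ℕ} (hF : Fintype.card F = q) (n : ℕ) (hn : 1 ≤ n) : ∃ g : Matrix.ProjGenLinGroup (Fin n) F →* Multiplicative (ZMod (Nat.gcd n (q - 1))), Function.Surjective g ∧ g.ker = (Matrix.ProjectiveSpecialLinearGroup.toPGL : Matrix.ProjectiveSpecialLinearGroup (Fin n) F →* Matrix.ProjGenLinGroup (Fin n) F).range := by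
  subst hF
  classical
  set d := Nat.gcd n (Fintype.card F - 1) with hd
  haveI : NeZero d := ⟨by
    have : 0 < d := Nat.gcd_pos_of_pos_left _ hn
    omega⟩
  let P : Subgroup Fˣ := (powMonoidHom n : Fˣ →* Fˣ).range
  have hP : P.index = d := by
    rw [IsCyclic.index_powMonoidHom_range, Nat.card_units, Nat.card_eq_fintype_card, Nat.gcd_comm]
  haveI : IsCyclic (Fˣ ⧸ P) := isCyclic_of_surjective (QuotientGroup.mk' P) (QuotientGroup.mk'_surjective P)
  have hcard : Nat.card (Fˣ ⧸ P) = Nat.card (Multiplicative (ZMod d)) := by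
    rw [← Subgroup.index_eq_card, hP, Nat.card_congr Multiplicative.toAdd, Nat.card_zmod]
  let e : Fˣ ⧸ P ≃* Multiplicative (ZMod d) := mulEquivOfCyclicCardEq hcard
  let f : GL (Fin n) F →* Multiplicative (ZMod d) :=
    e.toMonoidHom.comp ((QuotientGroup.mk' P).comp Matrix.GeneralLinearGroup.det)
  have hf : f.comp (Matrix.GeneralLinearGroup.scalar (Fin n)) = 1 := by
    ext u
    have : Matrix.GeneralLinearGroup.det (Matrix.GeneralLinearGroup.scalar (Fin n) u) = u ^ n := by
      apply Units.ext
      simp [Matrix.det_diagonal]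
    show e (QuotientGroup.mk' P _) = 1
    rw [this, show (QuotientGroup.mk' P) (u ^ n) = 1 from (QuotientGroup.eq_one_iff _).2 ⟨u, rfl⟩, map_one]
  refine ⟨Matrix.ProjGenLinGroup.lift f hf, ?_, ?_⟩
  · intro y
    obtain ⟨u, hu⟩ := QuotientGroup.mk'_surjective P (e.symm y)
    obtain ⟨g, rfl⟩ := CfsgLib.Classical.det_gl_surjective hn u
    refine ⟨Matrix.ProjGenLinGroup.mk g, ?_⟩
    show e (QuotientGroup.mk' P _) = y
    rw [hu, e.apply_symm_apply]
  · ext x
    cases x using Matrix.ProjGenLinGroup.induction_on with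
    | mk g =>
      rw [MonoidHom.mem_ker, Matrix.ProjGenLinGroup.lift_mk]
      show e (QuotientGroup.mk' P _) = 1 ↔ _
      rw [EmbeddingLike.map_eq_one_iff, QuotientGroup.mk'_apply, QuotientGroup.eq_one_iff]
      constructor
      · rintro ⟨u, hu⟩
        have hu' : u ^ n = Matrix.GeneralLinearGroup.det g := hu
        have hs : Matrix.GeneralLinearGroup.det (g * Matrix.GeneralLinearGroup.scalar (Fin n) u⁻¹) = 1 := by
          rw [map_mul, ← hu']
          apply Units.ext
          simp [Matrix.det_diagonal]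
        refine ⟨QuotientGroup.mk (⟨(g * Matrix.GeneralLinearGroup.scalar (Fin n) u⁻¹).1,
          congrArg Units.val hs⟩ : Matrix.SpecialLinearGroup (Fin n) F), ?_⟩
        show Matrix.ProjGenLinGroup.mk (Matrix.SpecialLinearGroup.toGL _) = Matrix.ProjGenLinGroup.mk g
        rw [Matrix.ProjGenLinGroup.mk_eq_mk_iff]
        refine ⟨u, Units.ext ?_⟩
        show (g * Matrix.GeneralLinearGroup.scalar (Fin n) u⁻¹).1 * _ = g.1
        rw [← Units.val_mul, mul_assoc, ← map_mul, inv_mul_cancel, map_one, mul_one]
      · rintro ⟨y, hy⟩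
        induction y using QuotientGroup.induction_on with
        | H s =>
          rw [Matrix.ProjectiveSpecialLinearGroup.toPGL_mk, Matrix.ProjGenLinGroup.mk_eq_mk_iff] at hy
          obtain ⟨u, hu⟩ := hy
          refine ⟨u, ?_⟩
          rw [← hu, map_mul, powMonoidHom_apply]
          apply Units.ext
          simp [Matrix.det_diagonal]

end Cfsg.Agent.S0307
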