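import Cfsg.Statements.S4345
import Cfsg.Agent.Lib.PGroup.SylowNumber

set_option autoImplicit false
open Cfsg

namespace Cfsg.Agent.S4345

open CfsgLib.PGroup.SylowNum

private theorem aux.{u} (p : ℕ) [Fact p.Prime] : ∀ (k : ℕ) (G : Type u) [Group G] [Finite G],
    Nat.card G = k → Group.IsSolvable G → ∃ l : List ℕ, l.prod = Nat.card (Sylow p G) ∧
      ∀ m ∈ l, IsPrimePow m ∧ m % p = 1 := by
  classical
  intro k
  induction k using Nat.strong_induction_on with
  | _ k ih =>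
  intro G _ _ hk hsolv
  haveI := hsolv
  let P : Sylow p G := default
  have hsub : ∀ X : Subgroup G, X ≠ ⊤ → Nat.card X < k := fun X hX =>
    hk ▸ (Subgroup.card_le_card_group X).lt_of_ne fun h => hX (X.eq_top_of_card_eq h)
  have hquot : ∀ N : Subgroup G, N ≠ ⊥ → Nat.card (G ⧸ N) < k := fun N hN => by
    rw [← Subgroup.index_eq_card, ← hk, ← N.card_mul_index]
    exact lt_mul_of_one_lt_left (Nat.pos_of_ne_zero Subgroup.FiniteIndex.index_ne_zero)
      ((Subgroup.one_lt_card_iff_ne_bot N).2 hN)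
  have combine : ∀ a b : ℕ, Nat.card (Sylow p G) = a * b →
      (∃ l : List ℕ, l.prod = a ∧ ∀ m ∈ l, IsPrimePow m ∧ m % p = 1) →
      (∃ l : List ℕ, l.prod = b ∧ ∀ m ∈ l, IsPrimePow m ∧ m % p = 1) →
      ∃ l : List ℕ, l.prod = Nat.card (Sylow p G) ∧ ∀ m ∈ l, IsPrimePow m ∧ m % p = 1 := by
    rintro a b hab ⟨l₁, h₁, h₁'⟩ ⟨l₂, h₂, h₂'⟩
    exact ⟨l₁ ++ l₂, by rw [List.prod_append, h₁, h₂, hab],
      fun m hm => (List.mem_append.1 hm).elim (h₁' m) (h₂' m)⟩
  by_cases hPn : (P : Subgroup G).Normal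
  · refine ⟨[], ?_, fun m hm => absurd hm List.not_mem_nil⟩
    rw [card_sylow_eq P, Subgroup.normalizer_eq_top_iff.2 hPn, Subgroup.index_top, List.prod_nil]
  have hnt : Nontrivial G := by
    by_contra h
    rw [not_nontrivial_iff_subsingleton] at h
    exact hPn ⟨fun n hn g => by rwa [Subsingleton.elim (g * n * g⁻¹) n]⟩
  by_cases hs : IsSimpleGroup G
  · haveI := hs
    have hc := (IsSimpleGroup.comm_iff_isSolvable (G := G)).2 hsolv
    exact absurd ⟨fun n hn g => by rwa [hc g n, mul_inv_cancel_right]⟩ hPn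
  obtain ⟨N, hN, hNbot, hNtop⟩ : ∃ N : Subgroup G, N.Normal ∧ N ≠ ⊥ ∧ N ≠ ⊤ := by
    by_contra h
    push Not at h
    exact hs ⟨fun N hN => or_iff_not_imp_left.2 (h N hN)⟩
  haveI := hN
  by_cases htop : (P : Subgroup G) ⊔ N = ⊤
  swap
  · exact combine _ _ (card_sylow_quotient_mul P N) (ih _ (hquot N hNbot) _ rfl inferInstance)
      (ih _ (hsub _ htop) _ rfl inferInstance)
  by_cases hQ : Subgroup.normalizer (((P : Subgroup G) ⊓ N : Subgroup G) : Set G) = ⊤
  swap
  · exact combine _ _ (card_sylow_inf_mul P N htop) (ih _ (hsub _ hNtop) _ rfl inferInstance)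
      (ih _ (hsub _ hQ) _ rfl inferInstance)
  haveI hQn : ((P : Subgroup G) ⊓ N).Normal := Subgroup.normalizer_eq_top_iff.1 hQ
  by_cases hQbot : (P : Subgroup G) ⊓ N = ⊥
  · have hcop : ¬ p ∣ Nat.card N := by
      intro hd
      obtain ⟨x, hx⟩ := exists_prime_orderOf_dvd_card' p hd
      have hxo : orderOf (x : G) = p := by rw [Subgroup.orderOf_coe, hx]
      have hpow : IsPGroup p (Subgroup.zpowers (x : G)) :=
        IsPGroup.of_card (n := 1) (by rw [Nat.card_zpowers, hxo, pow_one])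
      obtain ⟨T, hT⟩ := hpow.exists_le_sylow
      obtain ⟨g, hg⟩ := MulAction.exists_smul_eq G T P
      have h1 : g * (x : G) * g⁻¹ ∈ (P : Subgroup G) := by
        rw [← hg]
        exact ⟨x, hT (Subgroup.mem_zpowers _), rfl⟩
      have h2 : g * (x : G) * g⁻¹ ∈ (P : Subgroup G) ⊓ N := ⟨h1, hN.conj_mem _ x.2 g⟩
      rw [hQbot, Subgroup.mem_bot, conj_eq_one_iff] at h2
      rw [h2, orderOf_one] at hxo
      exact (Fact.out : p.Prime).ne_one hxo.symm
    obtain ⟨l, hl, hl'⟩ := exists_list_coprime P N htop hcop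
    exact ⟨l, hl, hl'⟩
  · have hne : (P : Subgroup G) ⊔ ((P : Subgroup G) ⊓ N) ≠ ⊤ := by
      rw [sup_inf_self]
      intro e
      exact hPn (by rw [e]; exact Subgroup.normal_of_characteristic ⊤)
    exact combine _ _ (card_sylow_quotient_mul P ((P : Subgroup G) ⊓ N))
      (ih _ (hquot _ hQbot) _ rfl inferInstance) (ih _ (hsub _ hne) _ rfl inferInstance)

private theorem part_modEq (p ℓ : ℕ) (hℓ : ℓ.Prime) : ∀ l : List ℕ,
    (∀ m ∈ l, IsPrimePow m ∧ m % p = 1) → l.prod ≠ 0 ∧ ℓ ^ l.prod.factorization ℓ ≡ 1 [MOD p]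
  | [], _ => ⟨by simp, by simp [Nat.ModEq]⟩
  | m :: l, h => by
    obtain ⟨h0, h1⟩ := part_modEq p ℓ hℓ l fun x hx => h x (List.mem_cons_of_mem _ hx)
    obtain ⟨hm, hmod⟩ := h m (List.mem_cons_self ..)
    rw [List.prod_cons]
    refine ⟨mul_ne_zero hm.ne_zero h0, ?_⟩
    rw [Nat.factorization_mul hm.ne_zero h0, Finsupp.add_apply, pow_add]
    refine (Nat.ModEq.mul ?_ h1).trans (by rw [mul_one])
    obtain ⟨q, e, hq, -, rfl⟩ := (isPrimePow_nat_iff m).1 hm
    rw [Nat.Prime.factorization_pow hq, Finsupp.single_apply]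
    split_ifs with h'
    · subst h'
      show q ^ e % p = 1 % p
      rw [Nat.one_mod_eq_one.2 fun hp1 => by simp [hp1, Nat.mod_one] at hmod]
      exact hmod
    · rw [pow_zero]

/-- Let G be a finite solvable group and p, ℓ primes. Then the largest power of ℓ dividing the number of Sylow p-subgroups of G is congruent to 1 modulo p. -/
theorem result {G : Type*} [Group G] [Finite G]
    (hG : Group.IsSolvable G) (p ℓ : ℕ) [Fact p.Prime] (hℓ : ℓ.Prime) :
    ℓ ^ (Nat.card (Sylow p G)).factorization ℓ ≡ 1 [MOD p] := by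
  obtain ⟨l, hl, hl'⟩ := aux p _ G rfl hG
  rw [← hl]
  exact (part_modEq p ℓ hℓ l hl').2

end Cfsg.Agent.S4345
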