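import Cfsg.Statements.S2622
import Cfsg.Agent.Lib.Classical.QuadNormal

set_option autoImplicit false
open Cfsg

namespace Cfsg.Agent.S2622

/-- Over a finite field of characteristic two, a non-degenerate symmetric bilinear form that is not alternating (some vector v has B(v, v) ≠ 0) admits an orthonormal basis. -/
theorem result {F V : Type*} [Field F] [Finite F] [CharP F 2] [AddCommGroup V] [Module F V] [FiniteDimensional F V] {n : ℕ} (hV : Module.finrank F V = n) (B : LinearMap.BilinForm F V) (hS : B.IsSymm) (hB : B.Nondegenerate) (hna : ∃ v : V, B v v ≠ 0) : ∃ b : Module.Basis (Fin n) F V, ∀ i j, B (b i) (b j) = if i = j then 1 else 0 := by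
  classical
  have main : ∀ (k : ℕ) (W : Submodule F V), Module.finrank F W = k → (B.restrict W).Nondegenerate →
      (k = 0 ∨ ∃ v ∈ W, B v v ≠ 0) → ∃ v : Fin k → V, (∀ i, v i ∈ W) ∧ ∀ i j, B (v i) (v j) = if i = j then 1 else 0 := by
    intro k
    induction k with
    | zero => exact fun W _ _ _ => ⟨Fin.elim0, fun i => i.elim0, fun i => i.elim0⟩
    | succ k ih =>
      intro W hW hN hne
      obtain ⟨v₀, hv₀W, hv₀⟩ : ∃ v ∈ W, B v v ≠ 0 := hne.resolve_left (Nat.succ_ne_zero k)
      obtain ⟨r, hr⟩ := CfsgLib.Classical.exists_sq_char_two (B v₀ v₀)⁻¹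
      obtain ⟨v, hvW, hv⟩ : ∃ v ∈ W, B v v = 1 := ⟨r • v₀, W.smul_mem r hv₀W, by
        simp only [map_smul, LinearMap.smul_apply, smul_eq_mul]; rw [← mul_assoc, hr, inv_mul_cancel₀ hv₀]⟩
      -- the orthogonal of a unit vector inside `W`
      have hperp : ∀ u ∈ W, B u u = 1 → Module.finrank F ↥(W ⊓ LinearMap.ker (B u)) = k ∧
          (B.restrict (W ⊓ LinearMap.ker (B u))).Nondegenerate := by
        intro u huW hu
        let L : W →ₗ[F] F := (B u).comp W.subtype
        have hr : LinearMap.range L = ⊤ := LinearMap.range_eq_top.2 fun c => ⟨c • ⟨u, huW⟩, by simp [L, hu]⟩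
        have h1 := L.finrank_range_add_finrank_ker
        rw [hr, finrank_top, Module.finrank_self, hW] at h1
        have e : (LinearMap.ker L).map W.subtype = W ⊓ LinearMap.ker (B u) := by
          ext x
          constructor
          · rintro ⟨y, hy, rfl⟩; exact ⟨y.2, hy⟩
          · rintro ⟨hx, hxu⟩; exact ⟨⟨x, hx⟩, hxu, rfl⟩
        have hfr : Module.finrank F ↥(W ⊓ LinearMap.ker (B u)) = k := by
          rw [← e, Submodule.finrank_map_subtype_eq]; omega
        refine ⟨hfr, ?_⟩
        have key : ∀ x : ↥(W ⊓ LinearMap.ker (B u)), (∀ y : ↥(W ⊓ LinearMap.ker (B u)), B x.1 y.1 = 0) → x = 0 := by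
          intro x hx
          have hx0 : B x.1 u = 0 := by rw [hS.eq]; exact LinearMap.mem_ker.1 x.2.2
          have := hN.1 ⟨x.1, x.2.1⟩ fun y => by
            show B x.1 y.1 = 0
            have h := hx ⟨y.1 - B u y.1 • u, W.sub_mem y.2 (W.smul_mem _ huW), by
              show B u _ = 0
              rw [map_sub, map_smul, hu, smul_eq_mul, mul_one, sub_self]⟩
            simp only [map_sub, map_smul, hx0, smul_zero, sub_zero] at h
            exact h
          exact Subtype.ext (congrArg (Subtype.val (p := fun z => z ∈ W)) this)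
        exact ⟨key, fun y hy => key y fun x => by rw [hS.eq]; exact hy x⟩
      -- choose the unit vector so that its orthogonal is again non-alternating
      obtain ⟨u, huW, hu, hnext⟩ : ∃ u ∈ W, B u u = 1 ∧ (k = 0 ∨ ∃ w ∈ W ⊓ LinearMap.ker (B u), B w w ≠ 0) := by
        by_cases halt : k = 0 ∨ ∃ w ∈ W ⊓ LinearMap.ker (B v), B w w ≠ 0
        · exact ⟨v, hvW, hv, halt⟩
        push Not at halt
        obtain ⟨hk, halt⟩ := halt
        obtain ⟨hfr, hnd⟩ := hperp v hvW hv
        obtain ⟨e, he⟩ : ∃ e : ↥(W ⊓ LinearMap.ker (B v)), e ≠ 0 := by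
          haveI : Nontrivial ↥(W ⊓ LinearMap.ker (B v)) := Module.nontrivial_of_finrank_pos (R := F) (by omega)
          exact exists_ne 0
        obtain ⟨f, hf⟩ : ∃ f : ↥(W ⊓ LinearMap.ker (B v)), B e.1 f.1 ≠ 0 := by
          by_contra hc
          push Not at hc
          exact he (hnd.1 e hc)
        have hee := halt e.1 e.2
        have hff := halt f.1 f.2
        have hve : B v e.1 = 0 := LinearMap.mem_ker.1 e.2.2
        have hvf : B v f.1 = 0 := LinearMap.mem_ker.1 f.2.2
        set c := (B e.1 f.1)⁻¹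
        refine ⟨v + e.1, W.add_mem hvW e.2.1, ?_, Or.inr ⟨v + c • f.1, ⟨W.add_mem hvW (W.smul_mem c f.2.1), ?_⟩, ?_⟩⟩
        · simp [hv, hee, hve, hS.eq e.1 v]
        · show B _ _ = 0
          simp [hv, hvf, hS.eq e.1 v, hve, c, inv_mul_cancel₀ hf, CharTwo.add_self_eq_zero]
        · simp [hv, hvf, hff, hS.eq f.1 v]
      obtain ⟨hfr, hnd⟩ := hperp u huW hu
      obtain ⟨w, hw, hwo⟩ := ih _ hfr hnd hnext
      refine ⟨Fin.cons u w, fun i => ?_, fun i j => ?_⟩
      · refine Fin.cases ?_ (fun i => ?_) i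
        · exact huW
        · exact (hw i).1
      · refine Fin.cases ?_ (fun i => ?_) i <;> refine Fin.cases ?_ (fun j => ?_) j
        · simp [hu]
        · simp [LinearMap.mem_ker.1 (hw j).2, (Fin.succ_ne_zero j).symm]
        · simp [hS.eq (w i) u, LinearMap.mem_ker.1 (hw i).2, Fin.succ_ne_zero i]
        · simp [hwo]
  obtain ⟨v₀, hv₀⟩ := hna
  obtain ⟨v, -, hv⟩ := main n ⊤ (by rw [finrank_top, hV])
    ⟨fun x hx => Subtype.ext (hB.1 x.1 fun y => hx ⟨y, Submodule.mem_top⟩),
      fun y hy => Subtype.ext (hB.2 y.1 fun x => hy ⟨x, Submodule.mem_top⟩)⟩ (Or.inr ⟨v₀, Submodule.mem_top, hv₀⟩)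
  obtain ⟨b, hb⟩ := CfsgLib.Classical.basis_of_orthogonal hV B v (fun i j h => by rw [hv, if_neg h])
    (fun i => by rw [hv, if_pos rfl]; exact one_ne_zero)
  exact ⟨b, fun i j => by rw [hb, hb]; exact hv i j⟩

end Cfsg.Agent.S2622
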