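import Cfsg.Statements.S4201
import Cfsg.Agent.Lib.Coprime.Core
import Mathlib.GroupTheory.GroupAction.CardCommute

set_option autoImplicit false
set_option linter.style.haveILetI false
open Cfsg

namespace Cfsg.Agent.S4201

/-- If N is a normal subgroup of the finite group X then k(X) ≤ k(N)·k(X ⧸ N), where k denotes the number of conjugacy classes. -/
theorem result {X : Type*} [Group X] [Finite X] (N : Subgroup X) [N.Normal] : Nat.card (ConjClasses X) ≤ Nat.card (ConjClasses N) * Nat.card (ConjClasses (X ⧸ N)) := by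
  classical
  set f := QuotientGroup.mk' N
  let r : X → X ⧸ N → X := fun a c => if h : ∃ b, Commute a b ∧ f b = c then h.choose else 1
  have hr : ∀ a b : X, Commute a b →
      Commute a (r a (f b)) ∧ (r a (f b))⁻¹ * b ∈ N ∧ Commute a ((r a (f b))⁻¹ * b) := by
    intro a b hab
    have h : ∃ b', Commute a b' ∧ f b' = f b := ⟨b, hab, rfl⟩
    simp only [r, dif_pos h]
    exact ⟨h.choose_spec.1, QuotientGroup.eq.1 h.choose_spec.2, h.choose_spec.1.inv_right.mul_right hab⟩
  let P := {z : X × X // Commute z.1 z.2}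
  let n : P → X := fun z => (r z.1.1 (f z.1.2))⁻¹ * z.1.2
  have hn : ∀ z : P, n z ∈ N ∧ Commute (n z) z.1.1 := fun z =>
    ⟨(hr _ _ z.2).2.1, (hr _ _ z.2).2.2.symm⟩
  let m : P → X := fun z => (r (n z) (f z.1.1))⁻¹ * z.1.1
  let φ : P → {z : N × N // Commute z.1 z.2} × {z : (X ⧸ N) × (X ⧸ N) // Commute z.1 z.2} := fun z =>
    (⟨(⟨n z, (hn z).1⟩, ⟨m z, (hr _ _ (hn z).2).2.1⟩), Subtype.ext (hr _ _ (hn z).2).2.2⟩,
      ⟨(f z.1.1, f z.1.2), z.2.map f⟩)
  have hφ : Function.Injective φ := by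
    intro z w h
    have h1 : n z = n w := congrArg (fun t => ((t.1.1.1 : N) : X)) h
    have h2 : m z = m w := congrArg (fun t => ((t.1.1.2 : N) : X)) h
    have h3 : f z.1.1 = f w.1.1 := congrArg (fun t => t.2.1.1) h
    have h4 : f z.1.2 = f w.1.2 := congrArg (fun t => t.2.1.2) h
    have ha : z.1.1 = w.1.1 := by
      have h2' : (r (n z) (f z.1.1))⁻¹ * z.1.1 = (r (n w) (f w.1.1))⁻¹ * w.1.1 := h2
      rw [h1, h3] at h2'
      exact mul_left_cancel h2'
    have hb : z.1.2 = w.1.2 := by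
      have h1' : (r z.1.1 (f z.1.2))⁻¹ * z.1.2 = (r w.1.1 (f w.1.2))⁻¹ * w.1.2 := h1
      rw [ha, h4] at h1'
      exact mul_left_cancel h1'
    exact Subtype.ext (Prod.ext ha hb)
  have h := Nat.card_le_card_of_injective φ hφ
  rw [Nat.card_prod, card_comm_eq_card_conjClasses_mul_card, card_comm_eq_card_conjClasses_mul_card,
    card_comm_eq_card_conjClasses_mul_card, Subgroup.card_eq_card_quotient_mul_card_subgroup N] at h
  refine Nat.le_of_mul_le_mul_right (h.trans (le_of_eq ?_))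
    (mul_pos (Nat.card_pos (α := X ⧸ N)) (Nat.card_pos (α := N)))
  ring

end Cfsg.Agent.S4201
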