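import Cfsg.Statements.S2116
import Mathlib
import Cfsg.Agent.Lib.Lie.Mult.AltSixSeven.Bound
import Cfsg.Agent.Lib.Lie.Mult.AltSixSeven.Covers
import Cfsg.Agent.Lib.PGroup.StemExtension

set_option autoImplicit false
set_option linter.all false
open Cfsg

namespace Cfsg.Agent.S2116

/-- Exceptional Schur multipliers of the alternating groups: for n = 6 and n = 7 the Schur multiplier of the alternating group of degree n is cyclic of order 6 (here the Schur multiplier is described through stem extensions, as in the definitions). -/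
theorem result (n : ℕ) (hn : n = 6 ∨ n = 7) : Cfsg.HasCyclicSchurMultiplier (alternatingGroup (Fin n)) 6 := by
  have hcard : ∀ m : ℕ, 2 ≤ m → 2 * Nat.card (alternatingGroup (Fin m)) = m.factorial := fun m hm => by
    haveI : Nontrivial (Fin m) := Fin.nontrivial_iff_two_le.2 hm
    rw [two_mul_nat_card_alternatingGroup, Nat.card_perm, Nat.card_fin]
  rcases hn with rfl | rfl
  · refine ⟨?_, fun Γ _ _ σ hσ => ?_⟩
    · obtain ⟨A, _, _, α, hα, h2⟩ := CfsgLib.Lie.MultAltSixSeven.exists_double (n := 6) (by norm_num)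
      obtain ⟨B, _, _, β, hβ, ⟨e⟩⟩ := CfsgLib.Lie.TripleSix.exists_triple_cover
      exact CfsgLib.Lie.MultAltSixSeven.exists_six hα hβ h2 (by rw [Nat.card_congr e.toEquiv]; simp)
    · have hG : Nat.card (alternatingGroup (Fin 6)) ∣ 2520 := by
        have := hcard 6 (by norm_num)
        rw [show (6 : ℕ).factorial = 2 * 360 from rfl] at this
        rw [Nat.eq_of_mul_eq_mul_left two_pos this]; norm_num
      obtain ⟨w, hw, hw6, hle⟩ := CfsgLib.Lie.MultAltSixSeven.exists_bound hG hσ
        (a := ⟨Equiv.swap 0 1 * Equiv.swap 1 2, Equiv.Perm.mem_alternatingGroup.2 (by decide)⟩)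
        (b := ⟨Equiv.swap 3 4 * Equiv.swap 4 5, Equiv.Perm.mem_alternatingGroup.2 (by decide)⟩)
        (c := ⟨Equiv.swap 0 1 * Equiv.swap 1 2 * Equiv.swap 2 3 * Equiv.swap 4 5, Equiv.Perm.mem_alternatingGroup.2 (by decide)⟩)
        (d := ⟨Equiv.swap 1 3 * Equiv.swap 4 5, Equiv.Perm.mem_alternatingGroup.2 (by decide)⟩)
        (orderOf_eq_prime (hp := ⟨Nat.prime_three⟩) (by decide +kernel) (by decide +kernel))
        (by decide +kernel) (by decide +kernel) (by decide +kernel)
        (orderOf_eq_prime_pow (p := 2) (n := 1) (hp := ⟨Nat.prime_two⟩) (by decide +kernel) (by decide +kernel))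
        (by decide +kernel) (by decide +kernel) (by decide +kernel)
      exact CfsgLib.Schur.exists_surjection_zmod w hw hw6 hle
  · refine ⟨?_, fun Γ _ _ σ hσ => ?_⟩
    · obtain ⟨A, _, _, α, hα, h2⟩ := CfsgLib.Lie.MultAltSixSeven.exists_double (n := 7) (by norm_num)
      obtain ⟨B, _, _, β, hβ, h3⟩ := CfsgLib.Lie.MultAltSixSeven.exists_triple_seven'
      exact CfsgLib.Lie.MultAltSixSeven.exists_six hα hβ h2 h3
    · have hG : Nat.card (alternatingGroup (Fin 7)) ∣ 2520 := by
        have := hcard 7 (by norm_num)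
        rw [show (7 : ℕ).factorial = 2 * 2520 from rfl] at this
        rw [Nat.eq_of_mul_eq_mul_left two_pos this]
      obtain ⟨w, hw, hw6, hle⟩ := CfsgLib.Lie.MultAltSixSeven.exists_bound hG hσ
        (a := ⟨Equiv.swap 0 1 * Equiv.swap 1 2, Equiv.Perm.mem_alternatingGroup.2 (by decide)⟩)
        (b := ⟨Equiv.swap 3 4 * Equiv.swap 4 5, Equiv.Perm.mem_alternatingGroup.2 (by decide)⟩)
        (c := ⟨Equiv.swap 0 1 * Equiv.swap 1 2 * Equiv.swap 2 3 * Equiv.swap 4 5, Equiv.Perm.mem_alternatingGroup.2 (by decide)⟩)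
        (d := ⟨Equiv.swap 1 3 * Equiv.swap 4 5, Equiv.Perm.mem_alternatingGroup.2 (by decide)⟩)
        (orderOf_eq_prime (hp := ⟨Nat.prime_three⟩) (by decide +kernel) (by decide +kernel))
        (by decide +kernel) (by decide +kernel) (by decide +kernel)
        (orderOf_eq_prime_pow (p := 2) (n := 1) (hp := ⟨Nat.prime_two⟩) (by decide +kernel) (by decide +kernel))
        (by decide +kernel) (by decide +kernel) (by decide +kernel)
      exact CfsgLib.Schur.exists_surjection_zmod w hw hw6 hle

end Cfsg.Agent.S2116
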