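import Cfsg.Statements.S0825
import Cfsg.Agent.Lib.Classical.PermModuleTwo
import Cfsg.Agent.Lib.Classical.SmallOrth

set_option autoImplicit false
open Cfsg

namespace Cfsg.Agent.S0825

/-- O⁺_6(2) ≅ S_8: the isometry group of the hyperbolic form x_1y_1 + x_2y_2 + x_3y_3 over the field with 2 elements is isomorphic to the symmetric group on 8 letters. -/
theorem result {F : Type*} [Field F] [Fintype F] (hF : Fintype.card F = 2) : Nonempty (↥(Cfsg.isometryGroup F (Cfsg.quadFormPlus 3 F)) ≃* Equiv.Perm (Fin 8)) := by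
  classical
  obtain ⟨φ, hφ⟩ := (CfsgLib.Classical.PermModuleTwo.main (N := 7) (k := 1) le_rfl rfl).1 odd_one
  have hc : Nat.card ↥(Cfsg.isometryGroup (ZMod 2) (Cfsg.quadFormPlus 3 (ZMod 2))) = Nat.card (Equiv.Perm (Fin 8)) := by
    rw [CfsgLib.Classical.card_iso_plus (F := ZMod 2) 2, Nat.card_perm, Nat.card_fin, ZMod.card]
    simp [Finset.prod_range_succ, Nat.factorial]
  have hbij : Function.Bijective φ := (Nat.bijective_iff_injective_and_card φ).2 ⟨hφ, hc.symm⟩
  let e : ZMod 2 ≃+* F := FiniteField.ringEquivOfCardEq (by rw [ZMod.card, hF])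
  exact ⟨(CfsgLib.Classical.SmallOrth.isoEquiv e (fun v => by simp [Cfsg.quadFormPlus])).symm.trans
    (MulEquiv.ofBijective φ hbij).symm⟩

end Cfsg.Agent.S0825
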