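import Cfsg.Statements.S0256
import Cfsg.Agent.Lib.Classical.ExcIsoSix
import Cfsg.Agent.S0825

set_option autoImplicit false
open Cfsg

namespace Cfsg.Agent.S0256

/-- PSL_4(2) is isomorphic to A_8. -/
theorem result {F : Type*} [Field F] [Fintype F] (hF : Fintype.card F = 2) : Nonempty (Matrix.ProjectiveSpecialLinearGroup (Fin 4) F ≃* alternatingGroup (Fin 8)) := by
  classical
  obtain ⟨e⟩ := CfsgLib.Classical.ExcIsoSix.omega_six_plus (F := F)
  obtain ⟨f⟩ := Cfsg.Agent.S0825.result hF
  have halt : commutator (Equiv.Perm (Fin 8)) = alternatingGroup (Fin 8) := by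
    refine le_antisymm alternatingGroup.commutator_perm_le ?_
    rw [← commutator_alternatingGroup_eq_self (α := Fin 8) (by simp), commutator_def]
    exact Subgroup.commutator_mono le_top le_top
  have hmap : Cfsg.Omega F (Cfsg.quadFormPlus 3 F) = (alternatingGroup (Fin 8)).map f.symm.toMonoidHom := by
    rw [← halt, commutator_def, Subgroup.map_commutator, ← MonoidHom.range_eq_map,
      MonoidHom.range_eq_top.2 (show Function.Surjective f.symm.toMonoidHom from f.symm.surjective)]
    rfl
  let ω : ↥(Cfsg.Omega F (Cfsg.quadFormPlus 3 F)) ≃* alternatingGroup (Fin 8) :=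
    (MulEquiv.subgroupCongr hmap).trans (f.symm.subgroupMap _).symm
  have hz : Subgroup.center ↥(Cfsg.Omega F (Cfsg.quadFormPlus 3 F)) = ⊥ := by
    refine (Subgroup.eq_bot_iff_forall _).2 fun x hx => ω.injective ?_
    have : ω x ∈ Subgroup.center (alternatingGroup (Fin 8)) := Subgroup.mem_center_iff.2 fun y => by
      obtain ⟨y, rfl⟩ := ω.surjective y
      rw [← map_mul, ← map_mul, Subgroup.mem_center_iff.1 hx y]
    rw [alternatingGroup.center_eq_bot (by simp), Subgroup.mem_bot] at this
    rw [this, map_one]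
  exact ⟨e.symm.trans (((QuotientGroup.quotientMulEquivOfEq hz).trans QuotientGroup.quotientBot).trans ω)⟩

end Cfsg.Agent.S0256
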