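import Cfsg.Statements.S0502
import Cfsg.Agent.Lib.Invol.KleinPair
import Cfsg.Agent.Lib.Invol.CharTwo


set_option autoImplicit false
open Cfsg

namespace Cfsg.Agent.S0502

/-- If a finite 2-group has a normal elementary abelian subgroup of order at least 8, then any two of its Klein
four-subgroups are joined by a chain of Klein four-subgroups with consecutive members commuting elementwise. -/
theorem result {P : Type*} [Group P] [Finite P] (hP : IsPGroup 2 P)
    (E : Subgroup P) [E.Normal] (hE : IsMulCommutative E) (hE2 : ∀ e ∈ E, e ^ 2 = 1) (hE8 : 8 ≤ Nat.card E) :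
    Cfsg.IsFourConnected P := by
  haveI : Fact (Nat.Prime 2) := ⟨Nat.prime_two⟩
  have hEc : ∀ u ∈ E, ∀ v ∈ E, u * v = v * u := fun u hu v hv =>
    congrArg Subtype.val (hE.is_comm.comm ⟨u, hu⟩ ⟨v, hv⟩)
  have key : ∀ U : Subgroup P, IsKleinFour U → ∃ F : Subgroup P, F ≤ E ∧ IsKleinFour F ∧
      Relation.ReflTransGen (fun A B : Subgroup P => IsKleinFour A ∧ IsKleinFour B ∧ ∀ a ∈ A, ∀ b ∈ B, a * b = b * a) U F := by
    intro U hU
    haveI := hU
    have hEne : E ≠ ⊥ := fun h => by rw [h, Subgroup.card_bot] at hE8; omega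
    obtain ⟨z, hzE, hz2, hzU⟩ := CfsgLib.Invol.exists_fixed_of_normalized (p := 2) (hP.to_subgroup U) (hP.to_subgroup E) hEne
      (by rw [Subgroup.normalizer_eq_top]; exact le_top)
    have hzc : ∀ u ∈ U, Commute u z := fun u hu => Subgroup.mem_centralizer_singleton_iff.1 (hzU hu)
    obtain ⟨a, haU, ha1, haz⟩ : ∃ a ∈ U, a ≠ 1 ∧ a ≠ z := by
      by_contra hc
      push Not at hc
      have hle : U ≤ Subgroup.zpowers z := fun u hu => by
        by_cases h1 : u = 1
        · rw [h1]; exact one_mem _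
        · rw [hc u hu h1]; exact Subgroup.mem_zpowers z
      have := Subgroup.card_le_of_le hle
      rw [Nat.card_zpowers, hz2, hU.card_four] at this
      omega
    have ha2 : orderOf a = 2 := CfsgLib.Invol.invol_iff.2
      ⟨congrArg Subtype.val (IsKleinFour.mul_self (⟨a, haU⟩ : U)), ha1⟩
    have hU' := CfsgLib.Invol.isKleinFour_closure_pair ha2 hz2 haz (hzc a haU)
    -- a four group of `E` centralized by `a`
    have hai : a⁻¹ = a := CfsgLib.Invol.invol_inv ha2
    have hconj : ∀ e ∈ E, a * e * a⁻¹ ∈ E := fun e he => (inferInstance : E.Normal).conj_mem e he a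
    let f : E →* P := MonoidHom.mk' (fun e => (e : P) * (a * e * a⁻¹)) (fun u v => by
      have h := hEc _ (hconj u u.2) v v.2
      calc ((u : P) * v) * (a * ((u : P) * v) * a⁻¹) = u * (v * (a * u * a⁻¹)) * (a * v * a⁻¹) := by group
        _ = u * ((a * u * a⁻¹) * v) * (a * v * a⁻¹) := by rw [h]
        _ = _ := by group)
    obtain ⟨C, hC⟩ : ∃ C, C = E ⊓ Subgroup.centralizer ({a} : Set P) := ⟨_, rfl⟩
    have hker : f.ker.map E.subtype ≤ C := by
      rintro _ ⟨v, hv, rfl⟩
      rw [hC]
      refine ⟨v.2, Subgroup.mem_centralizer_singleton_iff.2 ?_⟩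
      have h1 : (v : P) * (a * v * a⁻¹) = 1 := hv
      have h3 : (v : P) * v = 1 := by rw [← pow_two]; exact hE2 _ v.2
      have h2 : a * (v : P) * a⁻¹ = v := mul_left_cancel (h1.trans h3.symm)
      exact (mul_inv_eq_iff_eq_mul.1 h2).symm
    have hrange : f.range ≤ C := by
      rintro _ ⟨v, rfl⟩
      rw [hC]
      refine ⟨E.mul_mem v.2 (hconj v v.2), Subgroup.mem_centralizer_singleton_iff.2 ?_⟩
      show (v : P) * (a * v * a⁻¹) * a = a * ((v : P) * (a * v * a⁻¹))
      rw [show (v : P) * (a * v * a⁻¹) * a = v * a * v by group, hEc v v.2 _ (hconj v v.2)]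
      calc (v : P) * a * v = (a * a) * v * a⁻¹ * v := by rw [CfsgLib.Invol.invol_mul_self ha2, one_mul, hai]
        _ = a * (a * v * a⁻¹ * v) := by group
    have hC4 : 3 ≤ Nat.card C := by
      have h1 : Nat.card E ≤ Nat.card C * Nat.card C := by
        rw [← f.ker.card_mul_index, Subgroup.index_ker]
        refine Nat.mul_le_mul ?_ (Subgroup.card_le_of_le hrange)
        rw [← Subgroup.card_subtype E f.ker]
        exact Subgroup.card_le_of_le hker
      by_contra hlt
      have h2 : Nat.card C * Nat.card C ≤ 2 * 2 := Nat.mul_le_mul (by omega) (by omega)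
      omega
    obtain ⟨w, hwC, hw1, hwz⟩ : ∃ w ∈ C, w ≠ 1 ∧ w ≠ z := by
      by_contra hc
      push Not at hc
      have hle : C ≤ Subgroup.zpowers z := fun u hu => by
        by_cases h1 : u = 1
        · rw [h1]; exact one_mem _
        · rw [hc u hu h1]; exact Subgroup.mem_zpowers z
      have := Subgroup.card_le_of_le hle
      rw [Nat.card_zpowers, hz2] at this
      omega
    rw [hC] at hwC
    have hw2 : orderOf w = 2 := orderOf_eq_prime (hE2 w hwC.1) hw1
    have hF := CfsgLib.Invol.isKleinFour_closure_pair hz2 hw2 (Ne.symm hwz) (hEc z hzE w hwC.1)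
    have hFE : Subgroup.closure ({z, w} : Set P) ≤ E := (Subgroup.closure_le _).2 (by
      rintro x (rfl | rfl)
      exacts [hzE, hwC.1])
    have hUc : ∀ u ∈ U, ∀ v ∈ U, Commute u v := fun u hu v hv => by
      have h2 : ∀ w ∈ U, w⁻¹ = w := fun w hw =>
        inv_eq_of_mul_eq_one_right (congrArg Subtype.val (IsKleinFour.mul_self (⟨w, hw⟩ : U)))
      have h3 := h2 _ (mul_mem hu hv)
      rw [mul_inv_rev, h2 u hu, h2 v hv] at h3
      exact h3.symm
    refine ⟨_, hFE, hF, (Relation.ReflTransGen.single ⟨hU, hU', ?h1⟩).tail ⟨hU', hF, ?h2⟩⟩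
    case h1 =>
      intro u hu b hb
      refine (CfsgLib.Invol.commute_of_mem_closure ?_ hb).eq
      rintro x (rfl | rfl)
      exacts [hUc u hu _ haU, hzc u hu]
    case h2 =>
      intro b hb v hv
      refine (CfsgLib.Invol.commute_of_mem_closure ?_ hb).symm.eq
      rintro x (rfl | rfl)
      · refine (CfsgLib.Invol.commute_of_mem_closure ?_ hv).symm
        rintro y (rfl | rfl)
        exacts [hzc _ haU, (Subgroup.mem_centralizer_singleton_iff.1 hwC.2).symm]
      · exact (hEc _ hzE v (hFE hv)).symm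
  have hsymm : ∀ A B : Subgroup P,
      Relation.ReflTransGen (fun A B : Subgroup P => IsKleinFour A ∧ IsKleinFour B ∧ ∀ a ∈ A, ∀ b ∈ B, a * b = b * a) A B →
      Relation.ReflTransGen (fun A B : Subgroup P => IsKleinFour A ∧ IsKleinFour B ∧ ∀ a ∈ A, ∀ b ∈ B, a * b = b * a) B A := by
    intro A B h
    induction h with
    | refl => exact Relation.ReflTransGen.refl
    | tail _ hbc ih => exact Relation.ReflTransGen.head ⟨hbc.2.1, hbc.1, fun u hu v hv => (hbc.2.2 v hv u hu).symm⟩ ih
  intro U V hU hV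
  obtain ⟨F, hFE, hF, hUF⟩ := key U hU
  obtain ⟨F', hFE', hF', hVF⟩ := key V hV
  exact (hUF.tail ⟨hF, hF', fun u hu v hv => hEc u (hFE hu) v (hFE' hv)⟩).trans (hsymm _ _ hVF)

end Cfsg.Agent.S0502
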