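import Cfsg.Statements.S0223
import Cfsg.Agent.Lib.Invol.StronglyEmbedded


set_option autoImplicit false
open Cfsg

namespace Cfsg.Agent.S0223

/-- Let H be a proper subgroup of even order of the finite group G. Then H is strongly embedded if and only if (i) C_G(t) ≤ H for every involution t of H and (ii) H controls fusion of its involutions: involutions of H conjugate in G are conjugate in H. -/
theorem result {G : Type*} [Group G] [Finite G] (H : Subgroup G) (hH : H ≠ ⊤) (heven : Even (Nat.card H)) : Cfsg.IsStronglyEmbedded H ↔ ((∀ t ∈ H, orderOf t = 2 → Subgroup.centralizer ({t} : Set G) ≤ H) ∧ (∀ t ∈ H, ∀ s ∈ H, orderOf t = 2 → orderOf s = 2 → IsConj t s → ∃ h ∈ H, h * t * h⁻¹ = s)) := by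
  rw [CfsgLib.Invol.stronglyEmbedded_iff hH heven]
  constructor
  · intro h
    refine ⟨fun t ht hto c hc => h t ht hto c ?_, fun t ht s hs hto _ hc => ?_⟩
    · rw [Subgroup.mem_centralizer_singleton_iff] at hc
      rw [hc, mul_inv_cancel_right]; exact ht
    · obtain ⟨g, hg⟩ := isConj_iff.1 hc
      exact ⟨g, h t ht hto g (hg ▸ hs), hg⟩
  · rintro ⟨h1, h2⟩ t ht hto g hg
    obtain ⟨h, hh, e⟩ := h2 t ht _ hg hto (CfsgLib.Invol.invol_conj hto g) (isConj_iff.2 ⟨g, rfl⟩)
    have hc : h⁻¹ * g ∈ H := h1 t ht hto (Subgroup.mem_centralizer_singleton_iff.2 (by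
      calc h⁻¹ * g * t = h⁻¹ * (g * t * g⁻¹) * g := by group
        _ = h⁻¹ * (h * t * h⁻¹) * g := by rw [e]
        _ = t * (h⁻¹ * g) := by group))
    simpa using mul_mem hh hc

end Cfsg.Agent.S0223
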