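import Cfsg.Statements.S0343
import Cfsg.Agent.Lib.JTh.Final
import Cfsg.Agent.Lib.Ree.Five.Main
-- import your own Cfsg.Agent.* helpers here

set_option autoImplicit false
open Cfsg

namespace Cfsg.Agent.S0343

/-- If a finite simple group has abelian Sylow `2`-subgroups and an involution whose centraliser is isomorphic to
`Z₂ × PSL₂(F)` with `|F| = q ≥ 3`, then either `q = 3^(2m+1)` with `m ≥ 1` and the group has the small-Ree order
`q³(q³+1)(q-1)`, or `q = 4` or `q = 5` and the group is simple of the order of the smallest Janko group. -/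
theorem result {G : Type*} [Group G] [Finite G]
    [IsSimpleGroup G] (hab : ∀ P : Sylow 2 G, ∀ a b : P, a * b = b * a)
    {F : Type*} [Field F] [Fintype F] (hq : 3 ≤ Fintype.card F) (t : G) (ht : orderOf t = 2)
    (hC : Nonempty (Subgroup.centralizer ({t} : Set G) ≃* Multiplicative (ZMod 2) × Matrix.ProjectiveSpecialLinearGroup (Fin 2) F)) :
    (∃ m : ℕ, 1 ≤ m ∧ Fintype.card F = 3 ^ (2 * m + 1) ∧
        Nat.card G = (3 ^ (2 * m + 1)) ^ 3 * ((3 ^ (2 * m + 1)) ^ 3 + 1) * (3 ^ (2 * m + 1) - 1)) ∨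
      ((Fintype.card F = 4 ∨ Fintype.card F = 5) ∧ Cfsg.IsJ1 G) := by
  haveI := Fintype.ofFinite G
  exact CfsgLib.JTh.main_univ (fun _ _ _ _ T5 => CfsgLib.ReeType.Five.Setup.false_of_torus _ T5)
    hab hq t ht hC

end Cfsg.Agent.S0343
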