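import Cfsg.Statements.S4211
-- import your own Cfsg.Agent.* helpers here
import Mathlib

set_option autoImplicit false
open Cfsg

namespace Cfsg.Agent.S4211

open Subgroup
open scoped commutatorElement

universe u
variable {G : Type u} [Group G] [Finite G]

/-- Two elements of a group with all subgroups normal have their commutator in both cyclic groups. -/
theorem comm_mem (hn : ∀ H : Subgroup G, H.Normal) (x y : G) :
    ⁅x, y⁆ ∈ zpowers x ∧ ⁅x, y⁆ ∈ zpowers y := by
  constructor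
  · rw [commutatorElement_def, show x * y * x⁻¹ * y⁻¹ = x * (y * x⁻¹ * y⁻¹) by group]
    exact mul_mem (mem_zpowers x) ((hn (zpowers x)).conj_mem _ (inv_mem (mem_zpowers x)) y)
  · rw [commutatorElement_def]
    exact mul_mem ((hn (zpowers y)).conj_mem _ (mem_zpowers y) x) (inv_mem (mem_zpowers y))

omit [Finite G] in
theorem comm_pow_left {x y : G} (hxc : x * ⁅x, y⁆ = ⁅x, y⁆ * x) :
    ∀ j : ℕ, ⁅x ^ j, y⁆ = ⁅x, y⁆ ^ j := by
  intro j
  induction j with
  | zero => simp
  | succ j ih =>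
    have hj : x ^ j * ⁅x, y⁆ = ⁅x, y⁆ * x ^ j := ((show Commute x ⁅x, y⁆ from hxc).pow_left j).eq
    calc ⁅x ^ (j + 1), y⁆ = (x ^ j * ⁅x, y⁆) * (x ^ j)⁻¹ * ⁅x ^ j, y⁆ := by
          simp only [commutatorElement_def, pow_succ]; group
      _ = ⁅x, y⁆ ^ (j + 1) := by rw [hj, ih, mul_inv_cancel_right, ← pow_succ']

omit [Finite G] in
theorem pow_formula {u v c : G} (hc : ⁅v, u⁆ = c) (hcu : u * c = c * u) (hcv : v * c = c * v) :
    ∀ n : ℕ, (u * v) ^ n = u ^ n * v ^ n * c ^ n.choose 2 := by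
  intro n
  induction n with
  | zero => simp
  | succ n ih =>
    have hvn : v ^ n * u = c ^ n * (u * v ^ n) := by
      have h1 := comm_pow_left (x := v) (y := u) (by rw [hc]; exact hcv) n
      rw [hc] at h1
      rw [← h1, commutatorElement_def]
      group
    have hU : ∀ a k : ℕ, u ^ a * c ^ k = c ^ k * u ^ a := fun a k =>
      ((show Commute u c from hcu).pow_pow a k).eq
    have hV : ∀ a k : ℕ, v ^ a * c ^ k = c ^ k * v ^ a := fun a k =>
      ((show Commute v c from hcv).pow_pow a k).eq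
    calc (u * v) ^ (n + 1) = u ^ n * v ^ n * (c ^ n.choose 2 * u) * v := by
          rw [pow_succ, ih]; group
      _ = u ^ n * (v ^ n * u) * c ^ n.choose 2 * v := by
          rw [show c ^ n.choose 2 * u = u * c ^ n.choose 2 by simpa using (hU 1 (n.choose 2)).symm]
          group
      _ = (u ^ n * c ^ n) * u * v ^ n * (c ^ n.choose 2 * v) := by rw [hvn]; group
      _ = c ^ n * (u ^ (n + 1) * v ^ (n + 1)) * c ^ n.choose 2 := by
          rw [hU n n, show c ^ n.choose 2 * v = v * c ^ n.choose 2 by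
            simpa using (hV 1 (n.choose 2)).symm, pow_succ u, pow_succ v]
          group
      _ = u ^ (n + 1) * v ^ (n + 1) * c ^ (n + 1).choose 2 := by
          rw [Nat.choose_succ_succ', Nat.choose_one_right, pow_add c,
            show c ^ n * (u ^ (n + 1) * v ^ (n + 1)) = u ^ (n + 1) * v ^ (n + 1) * c ^ n by
              rw [← mul_assoc, ← hU, mul_assoc, ← hV, ← mul_assoc]]
          group

omit [Finite G] in
theorem comm_zero {x y : G} (h : x * y = y * x) : ⁅x, y⁆ = 1 :=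
  commutatorElement_eq_one_iff_mul_comm.2 h

/-- Prime power parts generate. -/
theorem commute_of_parts {g y : G}
    (h : ∀ (p k : ℕ), p.Prime → ∀ z ∈ zpowers g, orderOf z = p ^ k → z * y = y * z) :
    g * y = y * g := by
  classical
  have hle : zpowers g ≤ centralizer ({y} : Set G) := by
    rw [← Subgroup.relIndex_eq_one]
    by_contra hne
    obtain ⟨q, hq, hqd⟩ := Nat.exists_prime_and_dvd hne
    haveI := Fact.mk hq
    let S : Sylow q (zpowers g) := default
    have hle : (S : Subgroup (zpowers g)) ≤ (centralizer ({y} : Set G)).subgroupOf (zpowers g) := by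
      intro z hz
      obtain ⟨k, hk⟩ := S.2 ⟨z, hz⟩
      obtain ⟨j, -, hj⟩ := (Nat.dvd_prime_pow hq).1
        (orderOf_dvd_of_pow_eq_one (congrArg Subtype.val hk : z ^ q ^ k = 1))
      exact mem_centralizer_singleton_iff.2
        (h q j hq z z.2 (by rw [Subgroup.orderOf_coe]; exact hj))
    exact S.not_dvd_index (hqd.trans (Subgroup.index_dvd_of_le hle))
  exact mem_centralizer_singleton_iff.1 (hle (mem_zpowers g))

/-- The data found from a minimal non-commuting pair. -/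
structure QPair (G : Type u) [Group G] where
  x : G
  y : G
  hx : orderOf x = 4
  hy : orderOf y = 4
  hxy : y * y = x * x
  hconj : x * y = y * x⁻¹

/-- A non-commuting pair of elements of prime power order yields a quaternion pair. -/
theorem exists_qpair (hn : ∀ H : Subgroup G, H.Normal) {p : ℕ} [hp : Fact p.Prime] {x y : G}
    (hxo : ∃ a, orderOf x = p ^ a) (hyo : ∃ b, orderOf y = p ^ b) (hne : x * y ≠ y * x) :
    p = 2 ∧ Nonempty (QPair G) := by
  classical
  -- a pair with minimal total order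
  have hex : ∃ N : ℕ, ∃ x y : G, (∃ a, orderOf x = p ^ a) ∧ (∃ b, orderOf y = p ^ b) ∧
      x * y ≠ y * x ∧ orderOf y ≤ orderOf x ∧ N = orderOf x + orderOf y := by
    rcases le_total (orderOf y) (orderOf x) with h | h
    · exact ⟨_, x, y, hxo, hyo, hne, h, rfl⟩
    · exact ⟨_, y, x, hyo, hxo, fun e => hne e.symm, h, rfl⟩
  obtain ⟨x, y, ⟨a, ha⟩, ⟨b, hb⟩, hne, hle, hN⟩ := Nat.find_spec hex
  have hmin : ∀ u v : G, (∃ a, orderOf u = p ^ a) → (∃ b, orderOf v = p ^ b) →
      orderOf u + orderOf v < orderOf x + orderOf y → u * v = v * u := fun u v h1 h2 h3 => by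
    by_contra h
    rcases le_total (orderOf v) (orderOf u) with h' | h'
    · exact Nat.find_min hex (hN ▸ h3) ⟨u, v, h1, h2, h, h', rfl⟩
    · exact Nat.find_min hex (hN ▸ h3) ⟨v, u, h2, h1, fun e => h e.symm, h', by ring⟩
  obtain ⟨hcx, hcy⟩ := comm_mem hn x y
  set c := ⁅x, y⁆ with hc
  have hc1 : c ≠ 1 := fun e => hne (commutatorElement_eq_one_iff_mul_comm.1 e)
  obtain ⟨i, hi⟩ := mem_zpowers_iff.1 hcx
  obtain ⟨i', hi'⟩ := mem_zpowers_iff.1 hcy
  have hxc : x * c = c * x := by rw [← hi]; exact (Commute.self_zpow x i).eq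
  have hyc : y * c = c * y := by rw [← hi']; exact (Commute.self_zpow y i').eq
  have hxne : orderOf x ≠ 1 := fun e => hne (by rw [orderOf_eq_one_iff.1 e]; simp)
  have hyne : orderOf y ≠ 1 := fun e => hne (by rw [orderOf_eq_one_iff.1 e]; simp)
  obtain ⟨a, rfl⟩ : ∃ a', a = a' + 1 := ⟨a - 1, by
    rcases Nat.eq_zero_or_pos a with rfl | h
    · exact absurd (by rw [ha, pow_zero]) hxne
    · omega⟩
  obtain ⟨b, rfl⟩ : ∃ b', b = b' + 1 := ⟨b - 1, by
    rcases Nat.eq_zero_or_pos b with rfl | h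
    · exact absurd (by rw [hb, pow_zero]) hyne
    · omega⟩
  have hba : b ≤ a := by
    rw [ha, hb] at hle
    exact Nat.succ_le_succ_iff.1 ((Nat.pow_le_pow_iff_right hp.out.one_lt).1 hle)
  -- `c` has order `p`
  have hxp : orderOf (x ^ p) = p ^ a := by
    rw [orderOf_pow' x hp.out.ne_zero, ha, Nat.gcd_eq_right (dvd_pow_self p (Nat.succ_ne_zero a)),
      pow_succ, Nat.mul_div_cancel _ hp.out.pos]
  have hcp : c ^ p = 1 := by
    rw [hc, ← comm_pow_left hxc p]
    refine comm_zero (hmin _ _ ⟨a, hxp⟩ ⟨_, hb⟩ ?_)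
    rw [hxp, ha, hb]
    exact Nat.add_lt_add_right (Nat.pow_lt_pow_right hp.out.one_lt (Nat.lt_succ_self a)) _
  have hco : orderOf c = p := orderOf_eq_prime hcp hc1
  -- top powers are powers of `c`
  have htop : ∀ (z : G) (e : ℕ), orderOf z = p ^ (e + 1) → c ∈ zpowers z →
      ∃ j : ℕ, z ^ p ^ e = c ^ j ∧ ¬ p ∣ j := by
    intro z e hz hcz
    have hzo : orderOf (z ^ p ^ e) = p := by
      rw [orderOf_pow' z (pow_ne_zero _ hp.out.ne_zero), hz,
        Nat.gcd_eq_right (pow_dvd_pow p (Nat.le_succ e)), pow_succ,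
        Nat.mul_div_cancel_left _ (pow_pos hp.out.pos e)]
    have heq : zpowers (z ^ p ^ e) = zpowers c := by
      obtain ⟨k, (hk : z ^ k = c)⟩ := (mem_powers_iff_mem_zpowers.2 hcz : c ∈ Submonoid.powers z)
      have hdiv : p ^ e ∣ k := by
        have h1 : z ^ (k * p) = 1 := by rw [pow_mul]; simpa [hk] using hcp
        have h2 := orderOf_dvd_of_pow_eq_one h1
        rw [hz, pow_succ] at h2
        exact Nat.dvd_of_mul_dvd_mul_right hp.out.pos h2
      obtain ⟨l, rfl⟩ := hdiv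
      refine (Subgroup.eq_of_le_of_card_ge (zpowers_le.2 ?_) ?_).symm
      · rw [← hk, pow_mul]; exact pow_mem (mem_zpowers _) l
      · rw [Nat.card_zpowers, Nat.card_zpowers, hzo, hco]
    obtain ⟨j, (hj : c ^ j = z ^ p ^ e)⟩ := (mem_powers_iff_mem_zpowers.2 (heq ▸ mem_zpowers (z ^ p ^ e)) :
      z ^ p ^ e ∈ Submonoid.powers c)
    refine ⟨j, hj.symm, fun hd => ?_⟩
    obtain ⟨l, rfl⟩ := hd
    have h1 : z ^ p ^ e = 1 := by rw [← hj]; simp [pow_mul, hcp]
    rw [h1, orderOf_one] at hzo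
    exact hp.out.one_lt.ne hzo
  obtain ⟨j₁, hj₁, hj₁p⟩ := htop x a ha hcx
  obtain ⟨j₂, hj₂, hj₂p⟩ := htop y b hb hcy
  -- choose `t` killing the top power of `y`
  obtain ⟨i, hi0⟩ : ∃ i : ℕ, (j₁ * i + j₂) % p = 0 := by
    refine ⟨((-(j₂ : ZMod p)) * (j₁ : ZMod p)⁻¹).val, ?_⟩
    have h1 : (j₁ : ZMod p) ≠ 0 := fun h => hj₁p ((ZMod.natCast_eq_zero_iff _ _).1 h)
    apply Nat.mod_eq_zero_of_dvd
    rw [← ZMod.natCast_eq_zero_iff, Nat.cast_add, Nat.cast_mul, ZMod.natCast_zmod_val]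
    field_simp
    ring
  set t := p ^ (a - b) * i with ht
  set u := x ^ t with hu
  have hnew : x * (u * y) ≠ (u * y) * x := fun e => hne (by
    calc x * y = u⁻¹ * (x * (u * y)) := by rw [hu]; group
      _ = u⁻¹ * ((u * y) * x) := by rw [e]
      _ = y * x := by group)
  have hyu : ⁅y, u⁆ = (c ^ t)⁻¹ := by
    rw [hu, ← commutatorElement_inv, comm_pow_left hxc t]
  have hucomm : u * (c ^ t)⁻¹ = (c ^ t)⁻¹ * u :=
    (((show Commute x c from hxc).pow_pow t t).inv_right).eq
  have hycomm : y * (c ^ t)⁻¹ = (c ^ t)⁻¹ * y :=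
    (((show Commute y c from hyc).pow_right t).inv_right).eq
  have hpow := pow_formula hyu hucomm hycomm (p ^ b)
  have hzero : u ^ p ^ b * y ^ p ^ b = 1 := by
    rw [hu, ← pow_mul, ht, show p ^ (a - b) * i * p ^ b = p ^ a * i by
      rw [mul_right_comm, ← pow_add, Nat.sub_add_cancel hba], pow_mul, hj₁, hj₂, ← pow_mul, ← pow_add]
    rw [← Nat.div_add_mod (j₁ * i + j₂) p, hi0, add_zero, pow_mul, hcp, one_pow]
  rw [hzero, one_mul] at hpow
  -- the correction does not vanish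
  have hnz : ¬ p ∣ t * (p ^ b).choose 2 := by
    intro hd
    apply hnew
    have hord : orderOf (u * y) ∣ p ^ b := orderOf_dvd_of_pow_eq_one (by
      rw [hpow, inv_pow, ← pow_mul, inv_eq_one, ← Nat.div_add_mod (t * (p ^ b).choose 2) p,
        Nat.mod_eq_zero_of_dvd hd, add_zero, pow_mul, hcp, one_pow])
    obtain ⟨j, hj, hje⟩ := (Nat.dvd_prime_pow hp.out).1 hord
    refine hmin x (u * y) ⟨_, ha⟩ ⟨j, hje⟩ ?_
    rw [hje, hb]
    exact Nat.add_lt_add_left (Nat.pow_lt_pow_right hp.out.one_lt (Nat.lt_succ_of_le hj)) _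
  have hp2 : p = 2 := by
    by_contra hp2
    refine hnz (dvd_mul_of_dvd_right ?_ _)
    rcases Nat.eq_zero_or_pos b with rfl | hb0
    · simp
    · rw [Nat.choose_two_right]
      have h2 : ¬ 2 ∣ p ^ b := fun h => hp2 ((Nat.prime_dvd_prime_iff_eq Nat.prime_two hp.out).1
        (Nat.prime_two.dvd_of_dvd_pow h)).symm
      rw [Nat.mul_div_assoc _ (show 2 ∣ p ^ b - 1 by omega)]
      exact dvd_mul_of_dvd_left (dvd_pow_self p hb0.ne') _
  subst hp2
  have hb1 : b = 1 := by
    rcases Nat.lt_trichotomy b 1 with h | h | h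
    · exact absurd (by simp [show b = 0 by omega]) hnz
    · exact h
    · exfalso
      refine hnz (dvd_mul_of_dvd_right ?_ _)
      rw [Nat.choose_two_right, show b = (b - 2) + 2 by omega, pow_add]
      rw [show 2 ^ (b - 2) * 2 ^ 2 = 2 * (2 * 2 ^ (b - 2)) by ring, mul_assoc 2,
        Nat.mul_div_cancel_left _ two_pos]
      exact dvd_mul_of_dvd_left (dvd_mul_right _ _) _
  have ha1 : a = 1 := by
    by_contra h
    refine hnz (dvd_mul_of_dvd_left (ht ▸ dvd_mul_of_dvd_left ?_ i) _)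
    exact dvd_pow_self 2 (by omega)
  subst hb1 ha1
  refine ⟨rfl, ⟨⟨x, y, by rw [ha]; norm_num, by rw [hb]; norm_num, ?_, ?_⟩⟩⟩
  · have hc_eq : ∀ j : ℕ, ¬ 2 ∣ j → c ^ j = c := fun j hj => by
      rw [← Nat.div_add_mod j 2, pow_add, pow_mul, hcp, one_pow, one_mul,
        show j % 2 = 1 by omega, pow_one]
    rw [← pow_two, ← pow_two]
    have e1 := hc_eq j₁ hj₁p
    have e2 := hc_eq j₂ hj₂p
    rw [e1] at hj₁
    rw [e2] at hj₂
    simpa using hj₂.trans hj₁.symm
  · have hx2 : x ^ 2 = c := by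
      rw [show (2 : ℕ) = 2 ^ 1 from rfl, hj₁, ← Nat.div_add_mod j₁ 2, pow_add, pow_mul, hcp, one_pow,
        one_mul, show j₁ % 2 = 1 by omega, pow_one]
    have hx4 : x ^ 4 = 1 := orderOf_dvd_iff_pow_eq_one.1 (by rw [ha]; norm_num)
    have hcinv : c⁻¹ = c := inv_eq_of_mul_eq_one_right (by rw [← pow_two, hcp])
    have hxi : x⁻¹ = x * c := by
      refine inv_eq_of_mul_eq_one_right ?_
      rw [← hx2, ← mul_assoc, ← pow_two, ← pow_add, hx4]
    calc x * y = c * y * x := by rw [hc, commutatorElement_def]; group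
      _ = y * c * x := by rw [hyc]
      _ = y * x⁻¹ := by rw [hxi, hxc, mul_assoc]

/-- The embedding of the quaternion group of a pair. -/
noncomputable def qhom (Q : QPair G) : QuaternionGroup 2 →* G :=
  have h4 : Q.x ^ 4 = 1 := by rw [← Q.hx]; exact pow_orderOf_eq_one _
  have hadd : ∀ i j : ZMod (2 * 2), Q.x ^ (i + j).val = Q.x ^ i.val * Q.x ^ j.val := fun i j => by
    rw [← pow_add]
    refine pow_eq_pow_iff_modEq.2 ?_
    rw [Q.hx, ZMod.val_add]
    exact Nat.mod_modEq _ _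
  have hswap : ∀ j : ℕ, Q.x ^ j * Q.y = Q.y * (Q.x ^ j)⁻¹ := fun j => by
    induction j with
    | zero => simp
    | succ j ih =>
      calc Q.x ^ (j + 1) * Q.y = Q.x ^ j * (Q.x * Q.y) := by rw [pow_succ, mul_assoc]
        _ = Q.x ^ j * Q.y * Q.x⁻¹ := by rw [Q.hconj, mul_assoc]
        _ = Q.y * (Q.x ^ (j + 1))⁻¹ := by rw [ih, pow_succ']; group
  have hneg : ∀ i : ZMod (2 * 2), (Q.x ^ i.val)⁻¹ = Q.x ^ (-i).val := fun i =>
    inv_eq_of_mul_eq_one_right (by rw [← hadd, add_neg_cancel, ZMod.val_zero, pow_zero])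
  MonoidHom.mk' (fun g => match g with
    | .a i => Q.x ^ i.val
    | .xa i => Q.y * Q.x ^ i.val) fun g h => by
    rcases g with i | i <;> rcases h with j | j
    · exact hadd i j
    · show Q.y * Q.x ^ (j - i).val = Q.x ^ i.val * (Q.y * Q.x ^ j.val)
      rw [← mul_assoc, hswap, mul_assoc, hneg, ← hadd, sub_eq_add_neg, add_comm]
    · show Q.y * Q.x ^ (i + j).val = Q.y * Q.x ^ i.val * Q.x ^ j.val
      rw [hadd, mul_assoc]
    · show Q.x ^ (((2 : ℕ) : ZMod (2 * 2)) + j - i).val = Q.y * Q.x ^ i.val * (Q.y * Q.x ^ j.val)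
      rw [show Q.y * Q.x ^ i.val * (Q.y * Q.x ^ j.val) = Q.y * (Q.x ^ i.val * Q.y) * Q.x ^ j.val by
        group, hswap, ← mul_assoc, Q.hxy, mul_assoc, hneg, ← hadd,
        show Q.x * Q.x = Q.x ^ ((2 : ℕ) : ZMod (2 * 2)).val by rw [← pow_two]; rfl, ← hadd]
      congr 2
      ring

theorem qhom_a (Q : QPair G) (i : ZMod (2 * 2)) : qhom Q (.a i) = Q.x ^ i.val := rfl

theorem qhom_xa (Q : QPair G) (i : ZMod (2 * 2)) : qhom Q (.xa i) = Q.y * Q.x ^ i.val := rfl

theorem qhom_injective (Q : QPair G) : Function.Injective (qhom Q) := by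
  rw [← MonoidHom.ker_eq_bot_iff, eq_bot_iff]
  intro g hg
  rw [MonoidHom.mem_ker] at hg
  rw [Subgroup.mem_bot]
  rcases g with i | i
  · rw [qhom_a] at hg
    have h := orderOf_dvd_of_pow_eq_one hg
    rw [Q.hx] at h
    rw [← QuaternionGroup.a_zero]
    congr 1
    exact (ZMod.val_eq_zero i).1 (Nat.eq_zero_of_dvd_of_lt h (ZMod.val_lt i))
  · exfalso
    rw [qhom_xa, mul_eq_one_iff_eq_inv] at hg
    have hcomm : Q.x * Q.y = Q.y * Q.x := by
      rw [hg]; exact ((Commute.self_pow Q.x i.val).inv_right).eq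
    have h1 : Q.x⁻¹ = Q.x := mul_left_cancel (Q.hconj.symm.trans hcomm)
    have h2 : Q.x ^ 2 = 1 := by
      rw [pow_two]; nth_rewrite 1 [← h1]; exact inv_mul_cancel _
    have := Nat.le_of_dvd two_pos (Q.hx ▸ orderOf_dvd_of_pow_eq_one h2)
    omega

/-- A finite non-abelian group in which every subgroup is normal is the internal direct product of a subgroup isomorphic to the quaternion group of order `8`, an elementary abelian `2`-subgroup and an abelian subgroup of odd order. -/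
theorem result {G : Type*} [Group G] [Finite G] (hna : ¬ IsMulCommutative G) (hn : ∀ H : Subgroup G, H.Normal) : ∃ Q E A : Subgroup G, Nonempty (Q ≃* QuaternionGroup 2) ∧ Cfsg.IsElementaryAbelian 2 E ∧ IsMulCommutative A ∧ Odd (Nat.card A) ∧ E ⊓ A = ⊥ ∧ Q ⊓ (E ⊔ A) = ⊥ ∧ Q ⊔ (E ⊔ A) = ⊤ := by
  classical
  -- prime power elements
  have hcross : ∀ (x y : G) (p q a b : ℕ), p.Prime → q.Prime → p ≠ q → orderOf x = p ^ a →
      orderOf y = q ^ b → x * y = y * x := by
    intro x y p q a b hp hq hpq hx hy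
    obtain ⟨h1, h2⟩ := comm_mem hn x y
    refine commutatorElement_eq_one_iff_mul_comm.1 (orderOf_eq_one_iff.1 (Nat.eq_one_of_dvd_coprimes
      (((Nat.coprime_primes hp hq).2 hpq).pow a b) ?_ ?_))
    · exact (Subgroup.orderOf_dvd_natCard _ h1).trans (dvd_of_eq ((Nat.card_zpowers x).trans hx))
    · exact (Subgroup.orderOf_dvd_natCard _ h2).trans (dvd_of_eq ((Nat.card_zpowers y).trans hy))
  obtain ⟨Q⟩ : Nonempty (QPair G) := by
    by_contra hno
    refine hna ⟨⟨fun g h => ?_⟩⟩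
    refine commute_of_parts fun p a hp z _ hz => ?_
    refine (commute_of_parts fun q b hq w _ hw => ?_).symm
    by_contra hne
    rcases eq_or_ne p q with rfl | hpq
    · haveI := Fact.mk hp
      exact hno (exists_qpair hn ⟨b, hw⟩ ⟨a, hz⟩ hne).2
    · exact hne (hcross w z q p b a hq hp hpq.symm hw hz)
  have hodd : ∀ g : G, Odd (orderOf g) → g ∈ Subgroup.center G := by
    intro g hg
    refine Subgroup.mem_center_iff.2 fun h => ?_
    refine commute_of_parts fun q b hq w _ hw => ?_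
    refine (commute_of_parts fun p a hp z hzg hz => ?_).symm
    by_contra hne
    rcases eq_or_ne p q with rfl | hpq
    · haveI := Fact.mk hp
      have hp2 := (exists_qpair hn ⟨a, hz⟩ ⟨b, hw⟩ hne).1
      subst hp2
      rcases Nat.eq_zero_or_pos a with rfl | ha
      · exact hne (by rw [orderOf_eq_one_iff.1 (hz.trans (pow_zero 2))]; simp)
      · have h2 : 2 ∣ orderOf g := ((dvd_pow_self 2 ha.ne').trans hz.symm.dvd).trans
          (Nat.card_zpowers g ▸ Subgroup.orderOf_dvd_natCard _ hzg)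
        exact Nat.not_even_iff_odd.2 hg (even_iff_two_dvd.2 h2)
    · exact hne (hcross z w p q a b hp hq hpq hz hw)
  have hinv : ∀ g : G, g * g = 1 → g ∈ Subgroup.center G := by
    intro g hg
    refine Subgroup.mem_center_iff.2 fun h => ?_
    have hg' := (hn (Subgroup.zpowers g)).conj_mem g (Subgroup.mem_zpowers g) h
    obtain ⟨i, hi⟩ := Subgroup.mem_zpowers_iff.1 hg'
    rcases Int.even_or_odd' i with ⟨j, rfl | rfl⟩
    · rw [zpow_mul, zpow_two, hg, one_zpow] at hi
      have h1 : g = 1 := by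
        have := hi.symm
        rwa [conj_eq_one_iff] at this
      subst h1; simp
    · rw [zpow_add, zpow_mul, zpow_two, hg, one_zpow, one_mul, zpow_one] at hi
      exact (mul_inv_eq_iff_eq_mul.1 hi.symm)
  set c := Q.x * Q.x with hcdef
  have hc2 : c * c = 1 := by
    rw [hcdef, show Q.x * Q.x * (Q.x * Q.x) = Q.x ^ orderOf Q.x by rw [Q.hx]; simp [pow_succ, mul_assoc]]
    exact pow_orderOf_eq_one _
  have hcinv : c⁻¹ = c := inv_eq_of_mul_eq_one_right hc2
  have hcc : ∀ g : G, g * c = c * g := Subgroup.mem_center_iff.1 (hinv c hc2)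
  have hxinv : Q.x⁻¹ = c * Q.x := inv_eq_of_mul_eq_one_right (by
    rw [← mul_assoc, hcc, mul_assoc]; exact hc2)
  have hyinv : Q.y⁻¹ = c * Q.y := inv_eq_of_mul_eq_one_right (by
    rw [← mul_assoc, hcc, mul_assoc, Q.hxy]; exact hc2)
  -- conjugates of a generator
  have hconjgen : ∀ (g z : G), orderOf z = 4 → z * z = c → g * z * g⁻¹ = z ∨ g * z * g⁻¹ = z⁻¹ := by
    intro g z hz hzz
    obtain ⟨i, hi⟩ := (mem_powers_iff_mem_zpowers.2
      ((hn (Subgroup.zpowers z)).conj_mem z (Subgroup.mem_zpowers z) g) :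
        g * z * g⁻¹ ∈ Submonoid.powers z)
    have hz4 : z ^ 4 = 1 := hz ▸ pow_orderOf_eq_one z
    have hi' : z ^ (i % 4) = g * z * g⁻¹ := by
      rw [← hi]
      exact pow_eq_pow_iff_modEq.2 (by rw [hz]; exact Nat.mod_modEq i 4)
    have ho : orderOf (g * z * g⁻¹) = 4 := hz ▸ (MulAut.conj g).orderOf_eq z
    rw [← hi'] at ho
    rcases (show i % 4 = 0 ∨ i % 4 = 1 ∨ i % 4 = 2 ∨ i % 4 = 3 by omega) with h | h | h | h
    · rw [h, pow_zero, orderOf_one] at ho; omega
    · left; rw [← hi', h, pow_one]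
    · rw [h, pow_two, hzz] at ho
      have := Nat.le_of_dvd two_pos (ho ▸ orderOf_dvd_of_pow_eq_one (by rw [pow_two]; exact hc2))
      omega
    · right
      rw [← hi', h]
      exact (inv_eq_of_mul_eq_one_right (by rw [← pow_succ']; exact hz4)).symm
  let C : Subgroup G := Subgroup.centralizer ({Q.x} : Set G) ⊓ Subgroup.centralizer ({Q.y} : Set G)
  set QS : Subgroup G := (qhom Q).range with hQS
  have hxQ : Q.x ∈ QS := ⟨.a 1, by rw [qhom_a]; exact pow_one _⟩
  have hyQ : Q.y ∈ QS := ⟨.xa 0, by rw [qhom_xa, ZMod.val_zero, pow_zero, mul_one]⟩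
  -- `G = Q C`
  have hgen : ∀ g : G, ∃ q ∈ QS, q⁻¹ * g ∈ C := by
    intro g
    have hcomm : ∀ (h z : G), h * z * h⁻¹ = z → h * z = z * h := fun h z e =>
      mul_inv_eq_iff_eq_mul.1 e
    have hyx : Q.y⁻¹ * Q.x * Q.y = Q.x⁻¹ := by
      rw [mul_assoc, Q.hconj, inv_mul_cancel_left]
    have hyx' : Q.y⁻¹ * Q.x⁻¹ * Q.y = Q.x := by
      rw [show Q.y⁻¹ * Q.x⁻¹ * Q.y = (Q.y⁻¹ * Q.x * Q.y)⁻¹ by group, hyx, inv_inv]
    -- fix `x`
    obtain ⟨q, hq, hqx⟩ : ∃ q ∈ QS, (q⁻¹ * g) * Q.x * (q⁻¹ * g)⁻¹ = Q.x := by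
      rcases hconjgen g Q.x Q.hx rfl with h | h
      · exact ⟨1, one_mem _, by simpa using h⟩
      · refine ⟨Q.y, hyQ, ?_⟩
        rw [show Q.y⁻¹ * g * Q.x * (Q.y⁻¹ * g)⁻¹ = Q.y⁻¹ * (g * Q.x * g⁻¹) * Q.y by group, h, hyx']
    set g' := q⁻¹ * g
    rcases hconjgen g' Q.y Q.hy Q.hxy with h | h
    · exact ⟨q, hq, Subgroup.mem_centralizer_singleton_iff.2 (hcomm _ _ hqx),
        Subgroup.mem_centralizer_singleton_iff.2 (hcomm _ _ h)⟩
    · refine ⟨q * Q.x, QS.mul_mem hq hxQ, ?_⟩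
      rw [mul_inv_rev, mul_assoc]
      refine ⟨Subgroup.mem_centralizer_singleton_iff.2 (hcomm _ _ ?_),
        Subgroup.mem_centralizer_singleton_iff.2 (hcomm _ _ ?_)⟩
      · rw [show Q.x⁻¹ * g' * Q.x * (Q.x⁻¹ * g')⁻¹ = Q.x⁻¹ * (g' * Q.x * g'⁻¹) * Q.x by group, hqx]
        group
      · rw [show Q.x⁻¹ * g' * Q.y * (Q.x⁻¹ * g')⁻¹ = Q.x⁻¹ * (g' * Q.y * g'⁻¹) * Q.x by group, h]
        rw [← inv_inj]
        calc (Q.x⁻¹ * Q.y⁻¹ * Q.x)⁻¹ = Q.x⁻¹ * (Q.y * Q.x) := by group
          _ = Q.x⁻¹ * (Q.x * Q.y) * c := by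
              rw [Q.hconj, hxinv]
              calc c * Q.x * (Q.y * Q.x) = c * Q.x * (Q.y * (c * c) * Q.x) := by rw [hc2, mul_one]
                _ = c * Q.x * (Q.y * (c * Q.x) * c) := by
                    rw [show Q.y * (c * Q.x) * c = Q.y * c * (Q.x * c) by group, hcc Q.x]; group
                _ = _ := by group
          _ = Q.y⁻¹ := by rw [inv_mul_cancel_left, hyinv, hcc]
  -- involutions in `C`
  have hC2 : ∀ z ∈ C, ∀ k : ℕ, z ^ 2 ^ k = 1 → z * z = 1 := by
    intro z hz k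
    induction k generalizing z with
    | zero => intro h; rw [pow_zero, pow_one] at h; rw [h, mul_one]
    | succ k ih =>
      intro h
      have hw : z * z * (z * z) = 1 := ih (z * z) (C.mul_mem hz hz) (by
        rw [← pow_two, ← pow_mul, ← pow_succ']; exact h)
      by_contra hne
      have hz4 : z ^ 4 = 1 := by rw [← hw]; simp [pow_succ, mul_assoc]
      have hzx : Q.x * z = z * Q.x := (Subgroup.mem_centralizer_singleton_iff.1 hz.1).symm
      have hzy : Q.y * z = z * Q.y := (Subgroup.mem_centralizer_singleton_iff.1 hz.2).symm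
      have hx4 : Q.x ^ 4 = 1 := Q.hx ▸ pow_orderOf_eq_one _
      have hcomm : ⁅Q.x * z, Q.y⁆ = c := by
        rw [commutatorElement_def]
        calc Q.x * z * Q.y * (Q.x * z)⁻¹ * Q.y⁻¹
            = Q.x * (z * Q.y) * z⁻¹ * Q.x⁻¹ * Q.y⁻¹ := by group
          _ = Q.x * Q.y * Q.x⁻¹ * Q.y⁻¹ := by rw [← hzy]; group
          _ = Q.y * c * Q.y⁻¹ := by
              rw [Q.hconj, mul_assoc Q.y, hxinv]
              rw [show c * Q.x * (c * Q.x) = c * (Q.x * c) * Q.x by group, hcc Q.x,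
                show c * (c * Q.x) * Q.x = (c * c) * (Q.x * Q.x) by group, hc2, one_mul]
          _ = c := by rw [hcc Q.y]; group
      have hmem : c ∈ Submonoid.powers (Q.x * z) :=
        mem_powers_iff_mem_zpowers.2 (hcomm ▸ (comm_mem hn (Q.x * z) Q.y).1)
      obtain ⟨j, hj⟩ := hmem
      simp only at hj
      have hpw : ∀ n : ℕ, (Q.x * z) ^ n = Q.x ^ n * z ^ n := fun n =>
        (show Commute Q.x z from hzx).mul_pow n
      have hjm : (Q.x * z) ^ (j % 4) = c := by
        rw [← hj]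
        exact (pow_eq_pow_mod j (by rw [hpw, hx4, hz4, one_mul])).symm
      rcases (show j % 4 = 0 ∨ j % 4 = 1 ∨ j % 4 = 2 ∨ j % 4 = 3 by omega) with h' | h' | h' | h'
      · rw [h', pow_zero] at hjm
        have := Nat.le_of_dvd two_pos (Q.hx ▸ orderOf_dvd_of_pow_eq_one
          (show Q.x ^ 2 = 1 by rw [pow_two]; exact hjm.symm))
        omega
      · rw [h', pow_one] at hjm
        rw [hjm, comm_zero (hcc Q.y).symm] at hcomm
        rw [← hcomm] at hc2
        exact hne (by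
          have : Q.x * z = 1 := by rw [hjm, ← hcomm]
          rw [← inv_eq_of_mul_eq_one_right this]
          calc Q.x⁻¹ * Q.x⁻¹ = c⁻¹ := by rw [hcdef]; group
            _ = 1 := by rw [← hcomm, inv_one])
      · rw [h', hpw, pow_two, pow_two] at hjm
        exact hne (mul_eq_left.1 hjm)
      · rw [h'] at hjm
        have h1 : (Q.x * z) ^ 4 = 1 := by rw [hpw, hx4, hz4, one_mul]
        have h2 : Q.x * z = c := by
          rw [← hcinv, ← hjm]
          exact (inv_eq_of_mul_eq_one_right (by rw [← pow_succ]; exact h1)).symm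
        rw [h2, comm_zero (hcc Q.y).symm] at hcomm
        exact absurd hcomm.symm (fun e => by
          have := Nat.le_of_dvd two_pos (Q.hx ▸ orderOf_dvd_of_pow_eq_one
            (show Q.x ^ 2 = 1 by rw [pow_two]; exact e))
          omega)
  -- the elementary and the odd part
  let T : Subgroup G :=
    { carrier := {z | z * z = 1}
      one_mem' := one_mul 1
      mul_mem' := fun {a b} (ha : a * a = 1) (hb : b * b = 1) => by
        show a * b * (a * b) = 1
        rw [mul_assoc, ← mul_assoc b, Subgroup.mem_center_iff.1 (hinv a ha) b, mul_assoc a b, hb,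
          mul_one, ha]
      inv_mem' := fun {a} (ha : a * a = 1) => by
        show a⁻¹ * a⁻¹ = 1
        rw [← mul_inv_rev, ha, inv_one] }
  let A : Subgroup G :=
    { carrier := {z | Odd (orderOf z)}
      one_mem' := by show Odd (orderOf (1 : G)); rw [orderOf_one]; exact odd_one
      mul_mem' := fun {a b} (ha : Odd (orderOf a)) (hb : Odd (orderOf b)) => by
        have hab : Commute a b := (Subgroup.mem_center_iff.1 (hodd a ha) b).symm
        exact Odd.of_dvd_nat (ha.mul hb)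
          (hab.orderOf_mul_dvd_lcm.trans (Nat.lcm_dvd_mul _ _))
      inv_mem' := fun {a} (ha : Odd (orderOf a)) => by
        show Odd (orderOf a⁻¹); rw [orderOf_inv]; exact ha }
  obtain ⟨E, ⟨hET, hEc⟩, hmax⟩ := (Set.toFinite {E : Subgroup G | E ≤ T ∧ c ∉ E}).exists_maximal
    ⟨⊥, bot_le, fun h => by
      have := Nat.le_of_dvd two_pos (Q.hx ▸ orderOf_dvd_of_pow_eq_one
        (show Q.x ^ 2 = 1 by rw [pow_two]; exact Subgroup.mem_bot.1 h))
      omega⟩
  have hTE : ∀ t ∈ T, t ∈ E ∨ c * t ∈ E := by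
    intro t ht
    by_cases htE : t ∈ E
    · exact Or.inl htE
    right
    have hct : c ∈ E ⊔ Subgroup.zpowers t := by
      by_contra h
      exact htE (hmax (y := E ⊔ Subgroup.zpowers t) ⟨sup_le hET (Subgroup.zpowers_le.2 ht), h⟩
        le_sup_left (Subgroup.mem_sup_right (Subgroup.mem_zpowers t)))
    haveI := hn E
    obtain ⟨e, he, w, hw, hew⟩ := Subgroup.mem_sup_of_normal_left.1 hct
    obtain ⟨i, rfl⟩ := Subgroup.mem_zpowers_iff.1 hw
    have ht2 : t ^ (2 : ℤ) = 1 := by rw [zpow_two]; exact ht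
    rcases Int.even_or_odd' i with ⟨j, rfl | rfl⟩
    · rw [zpow_mul, ht2, one_zpow, mul_one] at hew
      exact absurd (hew ▸ he) hEc
    · rw [zpow_add, zpow_mul, ht2, one_zpow, one_mul, zpow_one] at hew
      rw [← hew, mul_assoc, show t * t = 1 from ht, mul_one]
      exact he
  have hcQ : c ∈ QS := QS.mul_mem hxQ hxQ
  have hEA : ∀ z, z ∈ E ⊔ A → ∃ e ∈ E, ∃ a ∈ A, z = e * a := fun z hz => by
    haveI := hn E
    obtain ⟨e, he, a, ha, rfl⟩ := Subgroup.mem_sup_of_normal_left.1 hz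
    exact ⟨e, he, a, ha, rfl⟩
  refine ⟨QS, E, A, ⟨(MonoidHom.ofInjective (qhom_injective Q)).symm⟩,
    ⟨⟨⟨fun a b => Subtype.ext (Subgroup.mem_center_iff.1 (hinv _ (hET b.2)) a)⟩⟩,
      fun a ha => by rw [pow_two]; exact hET ha⟩,
    ⟨⟨fun a b => Subtype.ext (Subgroup.mem_center_iff.1 (hodd _ b.2) a)⟩⟩, ?_, ?_, ?_, ?_⟩
  · by_contra hev
    rw [Nat.not_odd_iff_even, even_iff_two_dvd] at hev
    haveI : Fact (Nat.Prime 2) := ⟨Nat.prime_two⟩
    obtain ⟨a, ha⟩ := exists_prime_orderOf_dvd_card' 2 hev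
    have h2 : Odd (orderOf (a : G)) := a.2
    rw [Subgroup.orderOf_coe, ha] at h2
    exact absurd h2 (by decide)
  · refine eq_bot_iff.2 fun z hz => ?_
    have h1 : z * z = 1 := hET hz.1
    have h2 : Odd (orderOf z) := hz.2
    rw [Subgroup.mem_bot, ← orderOf_eq_one_iff]
    refine ((Nat.dvd_prime Nat.prime_two).1 (orderOf_dvd_of_pow_eq_one
      (by rw [pow_two]; exact h1))).resolve_right fun e => ?_
    rw [e] at h2; exact absurd h2 (by decide)
  · refine eq_bot_iff.2 fun z hz => ?_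
    obtain ⟨e, he, a, ha, rfl⟩ := hEA z hz.2
    have he1 : e * e = 1 := hET he
    have hec : ∀ g, g * e = e * g := Subgroup.mem_center_iff.1 (hinv e he1)
    have hac : ∀ g, g * a = a * g := Subgroup.mem_center_iff.1 (hodd a ha)
    obtain ⟨g, hg⟩ := hz.1
    have hcase : ∀ g : QuaternionGroup 2, (∀ h, g * h = h * g) → g = 1 ∨ g = .a 2 := by decide
    rcases hcase g (fun h => qhom_injective Q (by
      rw [map_mul, map_mul, hg, mul_assoc, ← hac, ← mul_assoc, ← hec, mul_assoc])) with rfl | rfl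
    · rw [map_one] at hg
      rw [Subgroup.mem_bot]; exact hg.symm
    · exfalso
      rw [qhom_a] at hg
      have hg' : c = e * a := hg ▸ (pow_two Q.x).symm
      have ha1 : a = c * e := by
        rw [hg', show e * a * e = e * (a * e) by group, hec a, ← mul_assoc, he1, one_mul]
      have h1 : a * a = 1 := by
        rw [ha1]
        exact T.mul_mem hc2 he1
      have h2 : a = 1 := by
        have hd := orderOf_dvd_of_pow_eq_one (show a ^ 2 = 1 by rw [pow_two]; exact h1)
        exact orderOf_eq_one_iff.1 (((Nat.dvd_prime Nat.prime_two).1 hd).resolve_right fun e' => by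
          have h3 : Odd (orderOf a) := ha
          rw [e'] at h3; exact absurd h3 (by decide))
      rw [h2, mul_one] at hg'
      exact hEc (hg' ▸ he)
  · refine eq_top_iff.2 fun g _ => ?_
    obtain ⟨q, hq, hz⟩ := hgen g
    set z := q⁻¹ * g with hzdef
    have hz' : z ∈ QS ⊔ (E ⊔ A) := by
      obtain ⟨k, m, hm, hkm⟩ := Nat.exists_eq_two_pow_mul_odd (orderOf_pos z).ne'
      obtain ⟨s, hs1, hs2⟩ := Nat.chineseRemainder
        (show (2 ^ k).Coprime m from Nat.Coprime.pow_left _ hm.coprime_two_left) 1 0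
      obtain ⟨r, hr1, hr2⟩ := Nat.chineseRemainder
        (show (2 ^ k).Coprime m from Nat.Coprime.pow_left _ hm.coprime_two_left) 0 1
      have hsplit : z = z ^ s * z ^ r := by
        rw [← pow_add]
        nth_rewrite 1 [← pow_one z]
        refine pow_eq_pow_iff_modEq.2 ?_
        rw [hkm]
        exact ((Nat.modEq_and_modEq_iff_modEq_mul (Nat.Coprime.pow_left _ hm.coprime_two_left)).1
          ⟨by simpa using hs1.add hr1, by simpa using hs2.add hr2⟩).symm
      obtain ⟨s', hs'⟩ := Nat.modEq_zero_iff_dvd.1 hs2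
      obtain ⟨r', hr'⟩ := Nat.modEq_zero_iff_dvd.1 hr1
      have hT : z ^ s ∈ T := hC2 _ (C.pow_mem hz s) k (by
        rw [← pow_mul, hs', show m * s' * 2 ^ k = 2 ^ k * m * s' by ring, ← hkm, pow_mul,
          pow_orderOf_eq_one, one_pow])
      have hA : z ^ r ∈ A := Odd.of_dvd_nat hm (orderOf_dvd_of_pow_eq_one (by
        rw [← pow_mul, hr', show 2 ^ k * r' * m = 2 ^ k * m * r' by ring, ← hkm, pow_mul,
          pow_orderOf_eq_one, one_pow]))
      rw [hsplit]
      refine mul_mem ?_ (Subgroup.mem_sup_right (Subgroup.mem_sup_right hA))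
      rcases hTE _ hT with h | h
      · exact Subgroup.mem_sup_right (Subgroup.mem_sup_left h)
      · rw [show z ^ s = c * (c * z ^ s) by rw [← mul_assoc, hc2, one_mul]]
        exact mul_mem (Subgroup.mem_sup_left hcQ) (Subgroup.mem_sup_right (Subgroup.mem_sup_left h))
    rw [show g = q * z by rw [hzdef]; group]
    exact mul_mem (Subgroup.mem_sup_left hq) hz' 

end Cfsg.Agent.S4211
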