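import Cfsg.Statements.S0811
-- import your own Cfsg.Agent.* helpers here
import Mathlib
import Cfsg.Agent.Lib.Perm.Dickson.Maximal

set_option autoImplicit false
set_option linter.all false
open Cfsg

namespace Cfsg.Agent.S0811

open CfsgLib.Perm.Dickson

/-- For q ∉ {2, 7, 9}, PSL_2(q) has a maximal subgroup isomorphic to the dihedral group of order 2(q + 1)/d, d = gcd(2, q − 1). -/
theorem result {F : Type*} [Field F] [Fintype F] {q : ℕ} (hF : Fintype.card F = q) (hq : q ∉ ({2, 7, 9} : Finset ℕ)) : ∃ H : Subgroup (Matrix.ProjectiveSpecialLinearGroup (Fin 2) F), IsCoatom H ∧ Nonempty (H ≃* DihedralGroup ((q + 1) / Nat.gcd 2 (q - 1))) := by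
  classical
  haveI := finite_G2 (F := F)
  obtain ⟨p, hpc⟩ := CharP.exists F
  haveI : Fact p.Prime := ⟨CharP.char_is_prime F p⟩
  have hqc : Nat.card F = q := by rw [Nat.card_eq_fintype_card, hF]
  simp only [Finset.mem_insert, Finset.mem_singleton, not_or] at hq
  obtain ⟨a, b, hg, hcard⟩ := exists_elliptic (F := F) p
  have hd := card_pairFix_psl hg
  rw [hcard, hqc] at hd
  have hpsl := card_psl F
  rw [hqc] at hpsl
  have hq2 : 2 ≤ q := hqc ▸ card_pos_lt
  obtain ⟨w, hwp, hws, hwn⟩ := exists_swap hg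
  have hnle : ¬ pairSet a b ⊓ psl F ≤ pairFix a b := fun h => hwn (h ⟨hws, hwp⟩)
  obtain ⟨hDc, hDe⟩ := dihedral_of_le hg.1 (isCyclic_pairFix hg.1) (inf_le_left : pairSet a b ⊓ psl F ≤ pairSet a b) hnle
  have hinf : pairSet a b ⊓ psl F ⊓ pairFix a b = pairFix a b ⊓ psl F := by
    rw [inf_right_comm, inf_eq_right.2 (pairFix_le_pairSet a b)]
  rw [hinf] at hDc hDe
  set k := Nat.card (pairFix a b ⊓ psl F : Subgroup (G2 F)) with hk
  have hkeq : (q + 1) / Nat.gcd 2 (q - 1) = k :=
    Nat.div_eq_of_eq_mul_right (Nat.gcd_pos_of_pos_left _ (by norm_num)) hd.symm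
  rw [hkeq]
  have hdd : Nat.gcd 2 (q - 1) = 1 ∨ Nat.gcd 2 (q - 1) = 2 :=
    (Nat.dvd_prime Nat.prime_two).1 (Nat.gcd_dvd_left _ _)
  have hDlt : pairSet a b ⊓ psl F < psl F := by
    refine lt_of_le_of_ne inf_le_right fun e => ?_
    rw [e] at hDc
    rcases hdd with hd1 | hd1 <;> rw [hd1] at hd hpsl <;> rw [hDc] at hpsl
    · have h2 : 2 * 2 ≤ q * (q - 1) := by
        rcases Nat.lt_or_ge q 3 with h | h
        · omega
        · exact Nat.mul_le_mul (by omega) (by omega)
      have : q * ((q - 1) * (q + 1)) = (q * (q - 1)) * k := by rw [← hd]; ring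
      have hk1 : 1 ≤ k := by omega
      have : 2 * k < (q * (q - 1)) * k := Nat.mul_lt_mul_of_pos_right (by omega) hk1
      omega
    · have h2 : 3 ≤ q * (q - 1) := by
        rcases Nat.lt_or_ge q 3 with h | h
        · omega
        · exact le_trans (by norm_num) (Nat.mul_le_mul h (show 1 ≤ q - 1 by omega))
      have : q * ((q - 1) * (q + 1)) = (q * (q - 1)) * (2 * k) := by rw [← hd]; ring
      have hk1 : 1 ≤ 2 * k := by omega
      have : 2 * (2 * k) < (q * (q - 1)) * (2 * k) := Nat.mul_lt_mul_of_pos_right (by omega) hk1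
      omega
  refine exists_coatom hDlt ?_ hDe
  by_cases h3 : q = 3
  · intro M hM hlt
    subst h3
    rw [show Nat.gcd 2 (3 - 1) = 2 from rfl] at hd hpsl
    have hdv := Subgroup.card_dvd_of_le hM
    have hdv' := Subgroup.card_dvd_of_le hlt.le
    have hne : Nat.card M ≠ Nat.card (psl F) := fun e => hlt.ne (Subgroup.eq_of_le_of_card_ge hlt.le e.ge)
    refine (Subgroup.eq_of_le_of_card_ge hM ?_).ge
    rw [hDc, show k = 2 by omega] at hdv ⊢
    rw [show Nat.card (psl F) = 12 by omega] at hdv' hne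
    have := Nat.le_of_dvd (by norm_num) hdv'
    interval_cases (Nat.card M) <;> omega
  have hk3 : 3 ≤ k := by rcases hdd with h | h <;> rw [h] at hd <;> omega
  refine dihedral_maximal p hg hk.symm hk3 ?_ ?_ ?_
  · intro hk4
    have h5 : q = 5 := by rcases hdd with h | h <;> rw [h] at hd <;> omega
    subst h5
    rw [show Nat.gcd 2 (5 - 1) = 2 from rfl] at hpsl
    omega
  · intro hk5
    have h5 : q = 4 ∨ q = 5 := by rcases hdd with h | h <;> rw [h] at hd <;> omega
    left
    rcases h5 with rfl | rfl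
    · rw [show Nat.gcd 2 (4 - 1) = 1 from rfl] at hpsl; omega
    · rw [show Nat.gcd 2 (5 - 1) = 2 from rfl] at hpsl; omega
  · intro c hc hcc _ hkc
    rw [hqc] at hcc
    have : q + 1 ≤ 2 * k := by rcases hdd with h | h <;> rw [h] at hd <;> omega
    nlinarith

end Cfsg.Agent.S0811
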