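import Cfsg.Statements.S0812
-- import your own Cfsg.Agent.* helpers here
import Mathlib
import Cfsg.Agent.Lib.Perm.Dickson.Maximal

set_option autoImplicit false
set_option linter.all false
open Cfsg

namespace Cfsg.Agent.S0812

open CfsgLib.Perm.Dickson

/-- For q ∉ {2, 3, 5, 7, 9, 11}, PSL_2(q) has a maximal subgroup isomorphic to the dihedral group of order 2(q − 1)/d, d = gcd(2, q − 1). -/
theorem result {F : Type*} [Field F] [Fintype F] {q : ℕ} (hF : Fintype.card F = q) (hq : q ∉ ({2, 3, 5, 7, 9, 11} : Finset ℕ)) : ∃ H : Subgroup (Matrix.ProjectiveSpecialLinearGroup (Fin 2) F), IsCoatom H ∧ Nonempty (H ≃* DihedralGroup ((q - 1) / Nat.gcd 2 (q - 1))) := by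
  classical
  haveI := finite_G2 (F := F)
  obtain ⟨p, hpc⟩ := CharP.exists F
  haveI : Fact p.Prime := ⟨CharP.char_is_prime F p⟩
  have hqc : Nat.card F = q := by rw [Nat.card_eq_fintype_card, hF]
  simp only [Finset.mem_insert, Finset.mem_singleton, not_or] at hq
  obtain ⟨a, b, hg, hcard⟩ := exists_split (F := F)
  have hd := card_pairFix_psl hg
  rw [hcard, hqc] at hd
  have hpsl := card_psl F
  rw [hqc] at hpsl
  have hq2 : 2 ≤ q := hqc ▸ card_pos_lt
  obtain ⟨w, hwp, hws, hwn⟩ := exists_swap hg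
  have hnle : ¬ pairSet a b ⊓ psl F ≤ pairFix a b := fun h => hwn (h ⟨hws, hwp⟩)
  obtain ⟨hDc, hDe⟩ := dihedral_of_le hg.1 (isCyclic_pairFix hg.1) (inf_le_left : pairSet a b ⊓ psl F ≤ pairSet a b) hnle
  have hinf : pairSet a b ⊓ psl F ⊓ pairFix a b = pairFix a b ⊓ psl F := by
    rw [inf_right_comm, inf_eq_right.2 (pairFix_le_pairSet a b)]
  rw [hinf] at hDc hDe
  set k := Nat.card (pairFix a b ⊓ psl F : Subgroup (G2 F)) with hk
  have hkeq : (q - 1) / Nat.gcd 2 (q - 1) = k :=
    Nat.div_eq_of_eq_mul_right (Nat.gcd_pos_of_pos_left _ (by norm_num)) hd.symm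
  rw [hkeq]
  have hdd : Nat.gcd 2 (q - 1) = 1 ∨ Nat.gcd 2 (q - 1) = 2 :=
    (Nat.dvd_prime Nat.prime_two).1 (Nat.gcd_dvd_left _ _)
  have hDlt : pairSet a b ⊓ psl F < psl F := by
    refine lt_of_le_of_ne inf_le_right fun e => ?_
    rw [e] at hDc
    rcases hdd with hd1 | hd1 <;> rw [hd1] at hd hpsl <;> rw [hDc] at hpsl
    · have h2 : 2 * 3 ≤ q * (q + 1) := by
        exact Nat.mul_le_mul (by omega) (by omega)
      have : q * ((q - 1) * (q + 1)) = (q * (q + 1)) * k := by rw [← hd]; ring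
      have hk1 : 1 ≤ k := by omega
      have : 2 * k < (q * (q + 1)) * k := Nat.mul_lt_mul_of_pos_right (by omega) hk1
      omega
    · have h2 : 2 * 3 ≤ q * (q + 1) := by
        exact Nat.mul_le_mul (by omega) (by omega)
      have : q * ((q - 1) * (q + 1)) = (q * (q + 1)) * (2 * k) := by rw [← hd]; ring
      have hk1 : 1 ≤ 2 * k := by omega
      have : 2 * (2 * k) < (q * (q + 1)) * (2 * k) := Nat.mul_lt_mul_of_pos_right (by omega) hk1
      omega
  refine exists_coatom hDlt ?_ hDe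
  have hqd : Nat.gcd 2 (q - 1) = 2 ∨ Even q := by
    rcases Nat.even_or_odd q with he | ⟨t, ht⟩
    · exact Or.inr he
    · exact Or.inl (Nat.gcd_eq_left ⟨t, by omega⟩)
  have hk3 : 3 ≤ k := by rcases hdd with h | h <;> rw [h] at hd <;> omega
  refine dihedral_maximal p hg hk.symm hk3 ?_ ?_ ?_
  · intro hk4
    have h5 : q = 4 := by
      rcases hdd with h | h <;> rw [h] at hd hqd
      · rcases hqd with h' | ⟨t, ht⟩ <;> omega
      · omega
    subst h5
    rw [show Nat.gcd 2 (4 - 1) = 1 from rfl] at hpsl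
    omega
  · intro hk5
    have hq6 : q ≠ 6 := by
      intro e
      obtain ⟨n, -, hn⟩ := card_eq_pow (F := F) p
      rw [hqc, e] at hn
      have h1 := Nat.prime_two.dvd_of_dvd_pow (show 2 ∣ p ^ n from hn ▸ by norm_num)
      rw [Nat.prime_dvd_prime_iff_eq Nat.prime_two Fact.out] at h1
      have h2 := Nat.prime_three.dvd_of_dvd_pow (show 3 ∣ p ^ n from hn ▸ by norm_num)
      rw [← h1] at h2
      omega
    have h5 : q = 4 := by
      rcases hdd with h | h <;> rw [h] at hd hqd
      · rcases hqd with h' | ⟨t, ht⟩ <;> omega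
      · omega
    left
    subst h5
    rw [show Nat.gcd 2 (4 - 1) = 1 from rfl] at hpsl
    omega
  · intro c hc hcc ⟨n, hn⟩ hkc
    rw [hqc] at hcc hn
    have : q - 1 ≤ 2 * k := by rcases hdd with h | h <;> rw [h] at hd <;> omega
    have hc3 : c ≤ 3 := by
      by_contra hlt
      have : 4 * c ≤ c * c := Nat.mul_le_mul_right c (by omega)
      omega
    obtain rfl : c = 3 := by omega
    have hq9 : q ≤ 9 := by omega
    have : q = 9 := by omega
    exact absurd this (by omega)

end Cfsg.Agent.S0812
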