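import Cfsg.Statements.S1190
import Cfsg.Agent.Lib.Invol.QuasiDihedralSubgroups


set_option autoImplicit false
open Cfsg

namespace Cfsg.Agent.S1190

/-- In a quasi-dihedral 2-group S, any two Klein four-subgroups are conjugate, and every Klein four-subgroup T satisfies C_S(T) = T and |N_S(T) : T| = 2. -/
theorem result {S : Type*} [Group S] [Finite S] (hS : Cfsg.IsQuasiDihedral S) : (∀ T₁ T₂ : Subgroup S, IsKleinFour T₁ → IsKleinFour T₂ → ∃ s : S, T₁.map (MulAut.conj s).toMonoidHom = T₂) ∧ (∀ T : Subgroup S, IsKleinFour T → Subgroup.centralizer (T : Set S) = T ∧ T.relIndex (Subgroup.normalizer (T : Set S)) = 2) := by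
  obtain ⟨k, a, b, hk, hcard, Q⟩ := CfsgLib.Invol.exists_qdFrame hS
  set h : ℤ := 2 ^ (k - 2) with hh
  have h2 : IsPGroup 2 S := IsPGroup.of_card (n := k + 1) hcard
  haveI : Fact (Nat.Prime 2) := ⟨Nat.prime_two⟩
  refine ⟨fun T₁ T₂ h₁ h₂ => ?_, fun T hT => ?_⟩
  · obtain ⟨i, hi, hi'⟩ := Q.kleinFour_eq T₁ h₁
    obtain ⟨j, hj, hj'⟩ := Q.kleinFour_eq T₂ h₂
    obtain ⟨l, hl⟩ := Q.exists_conj_ref (i := i) (j := j) (by omega)
    obtain ⟨U₁, a1, b1, c1⟩ := Q.exists_sub (i := i) (d := 2 * h) dvd_rfl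
    obtain ⟨U₂, a2, b2, c2⟩ := Q.exists_sub (i := j) (d := 2 * h) dvd_rfl
    obtain rfl := hi' U₁ a1 b1 c1
    obtain rfl := hj' U₂ a2 b2 c2
    refine ⟨a ^ l, Subgroup.eq_of_le_of_card_ge ?_ ?_⟩
    · rintro _ ⟨x, hx, rfl⟩
      show a ^ l * x * (a ^ l)⁻¹ ∈ T₂
      obtain ⟨q, rfl | rfl⟩ := Q.exists_eq x
      · rw [((Commute.refl a).zpow_zpow l q).eq, mul_inv_cancel_right]
        exact (a2 q).2 ((a1 q).1 hx)
      · rw [show q = (q - i) + i by ring, zpow_add, mul_assoc (a ^ (q - i)),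
          show a ^ l * (a ^ (q - i) * (a ^ i * b)) * (a ^ l)⁻¹ =
            (a ^ l * a ^ (q - i)) * (a ^ i * b) * (a ^ l)⁻¹ by group,
          ((Commute.refl a).zpow_zpow l (q - i)).eq, mul_assoc, mul_assoc (a ^ (q - i)), ← mul_assoc (a ^ l),
          hl, CfsgLib.Invol.CyclicFrame.rot_mul_ref]
        exact (b2 _).2 (by simpa using (b1 q).1 hx)
    · rw [Subgroup.card_map_of_injective (MulAut.conj _).injective, h₁.card_four, h₂.card_four]
  · obtain ⟨i, hi, hi'⟩ := Q.kleinFour_eq T hT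
    obtain ⟨U, a1, b1, c1⟩ := Q.exists_sub (i := i) (d := 2 * h) dvd_rfl
    obtain rfl := hi' U a1 b1 c1
    have hc : Subgroup.centralizer (T : Set S) = T := by
      refine le_antisymm (fun x hx => ?_) (fun x hx => Subgroup.mem_centralizer_iff.2 fun y hy => ?_)
      · have h1 := Subgroup.mem_centralizer_iff.1 hx (a ^ i * b) ((b1 i).2 (by simp))
        obtain ⟨j, rfl | rfl⟩ := Q.exists_eq x
        · exact (a1 j).2 (Q.rot_ref_commute_iff.1 h1.symm)
        · exact (b1 j).2 (Q.ref_ref_commute_iff.1 h1)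
      · obtain ⟨p, rfl | rfl⟩ := Q.exists_eq x <;> obtain ⟨q, rfl | rfl⟩ := Q.exists_eq y
        · exact ((Commute.refl a).zpow_zpow q p).eq
        · exact (Q.rot_ref_commute_iff.2 ((a1 p).1 hx)).symm
        · exact Q.rot_ref_commute_iff.2 ((a1 q).1 hy)
        · exact Q.ref_ref_commute_iff.2 (by simpa using dvd_sub ((b1 p).1 hx) ((b1 q).1 hy))
    refine ⟨hc, ?_⟩
    set N := Subgroup.normalizer (T : Set S)
    haveI : (T.subgroupOf N).Normal := Subgroup.normal_in_normalizer
    have hle : T ≤ N := Subgroup.le_normalizer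
    have hd := CfsgLib.Invol.relIndex_centralizer_four (h2.to_subgroup N) (T.subgroupOf N)
      (by rw [Nat.card_congr (Subgroup.subgroupOfEquivOfLe hle).toEquiv]; exact hT.card_four)
    have heq : Subgroup.centralizer ((T.subgroupOf N : Subgroup N) : Set N) = T.subgroupOf N := by
      ext x
      rw [Subgroup.mem_centralizer_iff, Subgroup.mem_subgroupOf]
      constructor
      · intro hx
        rw [← hc, Subgroup.mem_centralizer_iff]
        exact fun y hy => congrArg Subtype.val (hx ⟨y, hle hy⟩ hy)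
      · intro hx y hy
        rw [← hc, Subgroup.mem_centralizer_iff] at hx
        exact Subtype.ext (hx _ hy)
    rw [heq] at hd
    rcases (Nat.dvd_prime Nat.prime_two).1 hd with h1 | h1
    · exfalso
      have hNT : N ≤ T := Subgroup.relIndex_eq_one.1 h1
      have hlt : T < ⊤ := by
        refine lt_top_iff_ne_top.2 fun e => ?_
        have := hT.card_four
        rw [e, Subgroup.card_top, hcard] at this
        have : 2 ^ 4 ≤ 2 ^ (k + 1) := Nat.pow_le_pow_right two_pos (by omega)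
        omega
      haveI : Group.IsNilpotent S := h2.isNilpotent
      exact (Group.normalizerCondition_of_isNilpotent (G := S) T hlt).not_ge hNT
    · exact h1

end Cfsg.Agent.S1190
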