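import Cfsg.Statements.S1435
import Cfsg.Agent.Lib.CFun.OddTypeTwoNeighbour

set_option autoImplicit false
open Cfsg

namespace Cfsg.Agent.S1435

open Subgroup
open CfsgLib.CFun CfsgLib.CFun.TauTwo CfsgLib.CFun.Lines CfsgLib.CFun.Kappa CfsgLib.CFun.Partner



/-- Let G be a minimal simple group of odd order, M a maximal subgroup with standard factorisation M = K U M_σ, K ≠ 1, U ≠ 1, K* = M_σ ∩ C_G(K), M* a maximal subgroup with K = M*_σ ∩ C_G(K*) and K* a Hall κ(M*)-subgroup of M*, r a prime dividing the order of U, R a Sylow r-subgroup of U, and H a maximal subgroup containing N_G(R). Then κ(H) is empty, U ≤ H_σ, M ∩ H = U ⊔ K, H ∩ N_G(U) ⊄ M, K ≤ F(H ∩ M*), and H ∩ M* is a complement to H_σ in H. -/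
theorem result {G : Type*} [Group G] [Finite G] (hG : Cfsg.IsMinSimpleOddOrder G)
    (M : Subgroup G) (hM : IsCoatom M) (K U : Subgroup G) (hKU : Cfsg.IsSigmaDecomposition M K U) (hK1 : K ≠ ⊥) (hU1 : U ≠ ⊥) (Mstar : Subgroup G) (hMstar : IsCoatom Mstar)
    (hKst : K = Cfsg.sigmaCore Mstar ⊓ Subgroup.centralizer ((Cfsg.sigmaCore M ⊓ Subgroup.centralizer (K : Set G)) : Set G))
    (hKstH : Cfsg.IsPiHallOf (Cfsg.kappa Mstar) (Cfsg.sigmaCore M ⊓ Subgroup.centralizer (K : Set G)) Mstar)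
    (r : ℕ) [Fact r.Prime] (hr : r ∣ Nat.card U) (R : Sylow r U) (H : Subgroup G) (hH : IsCoatom H)
    (hNR : Subgroup.normalizer (((R : Subgroup U).map U.subtype : Subgroup G) : Set G) ≤ H) :
    Cfsg.kappa H = ∅ ∧ U ≤ Cfsg.sigmaCore H ∧ M ⊓ H = U ⊔ K ∧ ¬ H ⊓ Subgroup.normalizer (U : Set G) ≤ M ∧
      K ≤ Cfsg.fittingOf (H ⊓ Mstar) ∧ Cfsg.IsComplIn (H ⊓ Mstar) (Cfsg.sigmaCore H) H := by
  haveI := Decomp.isMulCommutative hG hM hKU hK1
  obtain ⟨hp, -⟩ := prime_of_U_ne_bot hG hM hKU hK1 hU1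
  haveI : Fact (Nat.card K).Prime := ⟨hp⟩
  obtain ⟨k, -, -, -, hk⟩ := exists_gen (t := Nat.card K) (W := K) rfl
  haveI : (R : Subgroup U).Normal := ⟨fun a ha b => by rwa [mul_comm' b a, mul_inv_cancel_right]⟩
  haveI := Sylow.characteristic_of_normal R ‹_›
  have hNU : normalizer (U : Set G) ≤ H :=
    (CfsgLib.PGroup.normalizer_le_normalizer_map_char _ _).trans hNR
  have hUM : U ≤ M := hKU.compl.1
  have hnc : ∀ g : G, CfsgLib.Coprime.conjBy g M ≠ H := by
    intro g hg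
    obtain ⟨hrσ, hrκ⟩ := Decomp.primes hG hM hKU Fact.out hr
    apply hrσ
    refine ElemCent.mem_sigma_conjBy hG hM (g := g) ?_
    rw [hg]
    have hRH : (R : Subgroup U).map U.subtype ≤ H := le_normalizer.trans hNR
    have hRM : (R : Subgroup U).map U.subtype ≤ M := (map_subtype_le _).trans hUM
    have hRs := isSylowIn_of_relIndex (CfsgLib.Coprime.isSylowIn_map R) hUM
      fun hd => by
        rw [Decomp.relIndex_eq hG hM hKU] at hd
        rcases (Fact.out : r.Prime).dvd_mul.1 hd with hd | hd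
        · exact hrκ (hKU.hall.2.1 r Fact.out hd)
        · exact hrσ ((sigmaCore_hall hG hM).1.2.1 r Fact.out hd)
    have hcard : Nat.card H = Nat.card M := by rw [← hg, CfsgLib.Coprime.card_conjBy]
    have hRH' : CfsgLib.Coprime.IsSylowIn r ((R : Subgroup U).map U.subtype) H :=
      ⟨hRH, by rw [hcard]; exact hRs.2⟩
    refine ⟨Fact.out, ?_, hRH'.toSylow, ?_⟩
    · rw [hcard]; exact hr.trans (card_dvd_of_le hUM)
    · rw [hRH'.map_toSylow]
      exact hNR
  have hs : TwoNeighbour.Setup M K U Mstar H k (Nat.card K) :=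
    ⟨hM, hKU, hK1, hU1, hMstar, hKst, hKstH, rfl, hk, hH, hNU, hnc⟩
  obtain ⟨E, hE, hEeq, hKF⟩ := hs.exists_compl_star hG
  refine ⟨hs.kappa_empty hG, hs.U_le_sigmaCore hG, hs.inter_eq' hG, fun h => ?_, hEeq ▸ hKF,
    hEeq ▸ hE⟩
  exact NormU.not_normalizer_le hG hM hKU hK1 fun g hg => h ⟨hNU hg, hg⟩

end Cfsg.Agent.S1435
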