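import Cfsg.Statements.S1432
import Cfsg.Agent.Lib.CFun.OddTildeCover

set_option autoImplicit false
open Cfsg

namespace Cfsg.Agent.S1432

open Subgroup
open CfsgLib.Coprime (conjBy mem_conjBy conj_mem_conjBy)
open CfsgLib.CFun CfsgLib.CFun.TauTwo


/-- Let G be a minimal simple group of odd order, M a maximal subgroup, x a non-identity element of M_σ and x' a non-identity element of C_M(x) no prime divisor of whose order lies in σ(M). Then either all prime divisors of the order of x' lie in κ(M) and C_G(x) ≤ M; or all of them lie in τ₂(M), they all lie in σ(L) for a single maximal subgroup L, and C_G(x') ≤ M with M the unique maximal subgroup containing C_G(x'). -/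
theorem result {G : Type*} [Group G] [Finite G] (hG : Cfsg.IsMinSimpleOddOrder G)
    (M : Subgroup G) (hM : IsCoatom M) (x : G) (hx : x ∈ Cfsg.sigmaCore M) (hx1 : x ≠ 1) (x' : G) (hx' : x' ∈ M ⊓ Subgroup.centralizer ({x} : Set G)) (hx'1 : x' ≠ 1)
    (hσ : ∀ p : ℕ, p.Prime → p ∣ orderOf x' → p ∉ Cfsg.sigma M) :
    ((∀ p : ℕ, p.Prime → p ∣ orderOf x' → p ∈ Cfsg.kappa M) ∧ Subgroup.centralizer ({x} : Set G) ≤ M) ∨
      ((∀ p : ℕ, p.Prime → p ∣ orderOf x' → p ∈ Cfsg.tau2 M) ∧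
        (∃ L : Subgroup G, IsCoatom L ∧ ∀ p : ℕ, p.Prime → p ∣ orderOf x' → p ∈ Cfsg.sigma L) ∧
        (Subgroup.centralizer ({x'} : Set G) ≤ M ∧ ∀ L : Subgroup G, IsCoatom L → Subgroup.centralizer ({x'} : Set G) ≤ L → L = M)) := by
  obtain ⟨hx'M, hx'C⟩ := mem_inf.1 hx'
  have hc : Commute x x' := (mem_centralizer_singleton_iff.1 hx'C : x' * x = x * x').symm
  obtain ⟨K, hKM, h1, h2⟩ := CfsgLib.Coprime.exists_hallIn (Cfsg.kappa M) (ms_solvable hG hM.1)
  rcases Cover.kappa_or_tau2 hG hM hx hx1 hx'M hc hσ with hκ | hτ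
  · exact Or.inl ⟨hκ, (Cover.kappa_case hG hM hx hx1 hx'M hc (K := K)
      ⟨hKM, h1, fun p hp hpκ hd => h2 p hp hd hpκ⟩ hx'1 hκ).1⟩
  · exact Or.inr ⟨hτ, Cover.tau2_case hG hM hx hx1 hx'M hc hx'1 hτ⟩

end Cfsg.Agent.S1432
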