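import Cfsg.Statements.S3305
import Cfsg.Agent.Lib.Fusion.Sylow
import Mathlib.GroupTheory.SpecificGroups.Cyclic


set_option autoImplicit false
open Cfsg

namespace Cfsg.Agent.S3305

/-- If any two distinct Sylow 2-subgroups of the finite group G intersect in a cyclic group, then the same holds in every quotient group G/H, H a normal subgroup of G. -/
theorem result {G : Type*} [Group G] [Finite G]
    (hC : ∀ S T : Sylow 2 G, S ≠ T → IsCyclic ↥((S : Subgroup G) ⊓ (T : Subgroup G))) (H : Subgroup G) [H.Normal] :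
    ∀ S T : Sylow 2 (G ⧸ H), S ≠ T → IsCyclic ↥((S : Subgroup (G ⧸ H)) ⊓ (T : Subgroup (G ⧸ H))) := by
  haveI : Fact (Nat.Prime 2) := ⟨Nat.prime_two⟩
  intro S T hST
  obtain ⟨f, hf⟩ : ∃ f, f = QuotientGroup.mk' H := ⟨_, rfl⟩
  have hs : Function.Surjective f := hf ▸ QuotientGroup.mk'_surjective H
  -- a 2-subgroup over a Sylow subgroup of the quotient lies in a Sylow subgroup mapping onto it
  have key : ∀ (S : Sylow 2 (G ⧸ H)) (R : Subgroup G), IsPGroup 2 R → R ≤ (S : Subgroup (G ⧸ H)).comap f →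
      ∃ S' : Sylow 2 G, R ≤ S' ∧ (S' : Subgroup G).map f = S := by
    intro S R hR hRS
    obtain ⟨M, hM⟩ : ∃ M, M = (S : Subgroup (G ⧸ H)).comap f := ⟨_, rfl⟩
    obtain ⟨Q, hRQ, hQM, hQ, hQi⟩ := CfsgLib.Fusion.exists_le_not_dvd_relIndex hR (hM.symm ▸ hRS : R ≤ M)
    have hMi : ¬ 2 ∣ M.index := by
      rw [hM, Subgroup.index_comap_of_surjective _ hs]; exact S.not_dvd_index
    have hQG : ¬ 2 ∣ Q.index := by
      rw [← Subgroup.relIndex_mul_index hQM]
      exact fun h => ((Nat.prime_two.dvd_mul).1 h).elim hQi hMi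
    refine ⟨hQ.toSylow hQG, hRQ, ?_⟩
    have h1 : Q.map f ≤ (S : Subgroup (G ⧸ H)) := Subgroup.map_le_iff_le_comap.2 (hM ▸ hQM)
    have h2 := ((hQ.toSylow hQG).mapSurjective hs).3 S.2 h1
    exact h2.symm
  obtain ⟨D, hD⟩ : ∃ D, D = (S : Subgroup (G ⧸ H)) ⊓ (T : Subgroup (G ⧸ H)) := ⟨_, rfl⟩
  rw [← hD]
  let g : (D.comap f) →* D := (f.comp (D.comap f).subtype).codRestrict D fun x => x.2
  have hg : Function.Surjective g := fun d => by
    obtain ⟨x, hx⟩ := hs (d : G ⧸ H)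
    exact ⟨⟨x, show f x ∈ D by rw [hx]; exact d.2⟩, Subtype.ext hx⟩
  obtain ⟨Q⟩ : Nonempty (Sylow 2 (D.comap f)) := inferInstance
  have hDp : IsPGroup 2 D := hD ▸ S.2.to_le inf_le_left
  have hQD : ((Q.mapSurjective hg : Sylow 2 D) : Subgroup D) = ⊤ :=
    ((Q.mapSurjective hg).3 (hDp.to_subgroup ⊤) le_top).symm
  obtain ⟨R, hR⟩ : ∃ R, R = (Q : Subgroup (D.comap f)).map (D.comap f).subtype := ⟨_, rfl⟩
  have hRp : IsPGroup 2 R := hR ▸ Q.2.map _
  have hRS : R ≤ (D.comap f) := hR ▸ Subgroup.map_subtype_le _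
  obtain ⟨S', hS', hS'2⟩ := key S R hRp (hRS.trans (Subgroup.comap_mono (hD ▸ inf_le_left)))
  obtain ⟨T', hT', hT'2⟩ := key T R hRp (hRS.trans (Subgroup.comap_mono (hD ▸ inf_le_right)))
  haveI := hC S' T' (fun e => hST (Sylow.ext (by rw [← hS'2, e, hT'2])))
  haveI : IsCyclic R := isCyclic_of_injective (Subgroup.inclusion (le_inf hS' hT')) (Subgroup.inclusion_injective _)
  haveI : IsCyclic (Q : Subgroup (D.comap f)) := by
    subst hR
    exact isCyclic_of_surjective (Subgroup.equivMapOfInjective _ _ (D.comap f).subtype_injective).symm.toMonoidHom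
      (MulEquiv.surjective _)
  refine isCyclic_of_surjective (g.comp (Q : Subgroup (D.comap f)).subtype) fun d => ?_
  have hd : d ∈ ((Q.mapSurjective hg : Sylow 2 D) : Subgroup D) := hQD ▸ Subgroup.mem_top d
  rw [Sylow.coe_mapSurjective] at hd
  obtain ⟨u, hu, hud⟩ := hd
  exact ⟨⟨u, hu⟩, hud⟩

end Cfsg.Agent.S3305
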