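import Cfsg.Statements.S0076
import Cfsg.Agent.Lib.Fusion.Transfer

set_option autoImplicit false
open Cfsg

namespace Cfsg.Agent.S0076

/-- Two P-invariant subsets of a Sylow p-subgroup P that are conjugate in G are conjugate under the normalizer of P. -/
theorem result {G : Type*} [Group G] [Finite G] {p : ℕ} [Fact p.Prime] (P : Sylow p G) (X Y : Set G) (hXP : X ⊆ P) (hYP : Y ⊆ P) (hX : ∀ x ∈ P, (fun y => x * y * x⁻¹) '' X = X) (hY : ∀ x ∈ P, (fun y => x * y * x⁻¹) '' Y = Y) (g : G) (hg : (fun y => g * y * g⁻¹) '' X = Y) : ∃ n ∈ Subgroup.normalizer (P : Set G), (fun y => n * y * n⁻¹) '' X = Y := by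
  have hn : ∀ S : Set G, (∀ x ∈ P, (fun y => x * y * x⁻¹) '' S = S) →
      (P : Subgroup G) ≤ Subgroup.normalizer S := by
    intro S hS x hx
    refine Subgroup.mem_set_normalizer_iff.2 fun z => ?_
    conv_rhs => rw [← hS x hx]
    simp
  obtain ⟨c, hc, hn'⟩ := CfsgLib.Fusion.exists_mem_normalizer_conj P (hn X hX) (hn Y hY) g
    (fun x => by rw [← hg]; simp)
  refine ⟨c * g, hn', ?_⟩
  ext z
  simp only [Set.mem_image]
  constructor
  · rintro ⟨y, hy, rfl⟩
    have h1 : g * y * g⁻¹ ∈ Y := hg ▸ ⟨y, hy, rfl⟩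
    have h2 := (Subgroup.mem_set_normalizer_iff.1 hc _).1 h1
    simpa [mul_assoc] using h2
  · intro hz
    have h2 := (Subgroup.mem_set_normalizer_iff''.1 hc _).1 hz
    rw [← hg] at h2
    obtain ⟨y, hy, he⟩ := h2
    refine ⟨y, hy, ?_⟩
    have he' : g * y * g⁻¹ = c⁻¹ * z * c := he
    rw [show c * g * y * (c * g)⁻¹ = c * (g * y * g⁻¹) * c⁻¹ by group, he']
    group

end Cfsg.Agent.S0076
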