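import Cfsg.Statements.S3056
import Cfsg.Agent.Lib.PGroup.EmbeddedForms

set_option autoImplicit false
open Cfsg

namespace Cfsg.Agent.S3056

/-- Let G be a finite group and p a prime. Join two Sylow p-subgroups when they are distinct and meet nontrivially. This graph on the Sylow p-subgroups is disconnected (the Sylow p-subgroups are not chain-connected through nontrivial intersections) if and only if G has a strongly p-embedded subgroup in the classical sense: a proper subgroup H of order divisible by p such that H ∩ gHg⁻¹ has order prime to p for every g outside H. -/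
theorem result {G : Type*} [Group G] [Finite G]
    (p : ℕ) [Fact p.Prime] :
    ¬ Cfsg.IsSylowChainConnected p G ↔
      ∃ H : Subgroup G, H ≠ ⊤ ∧ p ∣ Nat.card H ∧
        ∀ g : G, g ∉ H → ¬ p ∣ Nat.card ↥(H ⊓ H.map (MulAut.conj g).toMonoidHom) := by
  classical
  let R : Sylow p G → Sylow p G → Prop := fun A B => A ≠ B ∧ (A : Subgroup G) ⊓ (B : Subgroup G) ≠ ⊥
  have hmeet : ∀ A B : Sylow p G, (A : Subgroup G) ⊓ (B : Subgroup G) ≠ ⊥ → Relation.ReflTransGen R A B := fun A B h => by
    by_cases e : A = B
    · exact e ▸ Relation.ReflTransGen.refl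
    · exact Relation.ReflTransGen.single ⟨e, h⟩
  have hsymm : ∀ A B, Relation.ReflTransGen R A B → Relation.ReflTransGen R B A := fun A B h => by
    induction h with
    | refl => exact Relation.ReflTransGen.refl
    | tail _ hr ih => exact Relation.ReflTransGen.head ⟨Ne.symm hr.1, by rw [inf_comm]; exact hr.2⟩ ih
  have hsmul : ∀ (g : G) A B, Relation.ReflTransGen R A B → Relation.ReflTransGen R (g • A) (g • B) := fun g A B h => by
    induction h with
    | refl => exact Relation.ReflTransGen.refl
    | @tail a b _ hr ih =>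
      refine ih.tail ⟨fun e => hr.1 (smul_left_cancel g e), fun e => hr.2 ?_⟩
      apply Subgroup.map_injective (f := (MulAut.conj g).toMonoidHom) (MulAut.conj g).injective
      rw [Subgroup.map_inf _ _ _ (MulAut.conj g).injective, Subgroup.map_bot]
      exact e
  constructor
  · intro hnc
    obtain ⟨S, T, hST⟩ : ∃ S T, ¬ Relation.ReflTransGen R S T := by
      by_contra hall
      push Not at hall
      refine hnc fun S T => ?_
      by_cases hm : (S : Subgroup G) ⊓ (T : Subgroup G) = ⊥
      · have : ∀ T', Relation.ReflTransGen R S T' → ∃ (n : ℕ) (c : Fin (n + 1) → Sylow p G), c 0 = S ∧ c (Fin.last n) = T' ∧ ∀ i : Fin n, R (c i.castSucc) (c i.succ) := by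
          intro T' h
          induction h with
          | refl => exact ⟨0, fun _ => S, rfl, rfl, fun i => i.elim0⟩
          | @tail b c' _ hr ih =>
            obtain ⟨n, c, h0, hl, hc⟩ := ih
            refine ⟨n + 1, Fin.snoc c c', by rw [← Fin.castSucc_zero, Fin.snoc_castSucc]; exact h0, Fin.snoc_last _ _, fun i => ?_⟩
            rcases Fin.eq_castSucc_or_eq_last i with ⟨j, rfl⟩ | rfl
            · rw [show (j.castSucc).succ = (j.succ).castSucc from rfl, Fin.snoc_castSucc, Fin.snoc_castSucc]
              exact hc j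
            · rw [Fin.succ_last, Fin.snoc_last, Fin.snoc_castSucc, hl]
              exact hr
        obtain ⟨n, c, h0, hl, hc⟩ := this T (hall S T)
        exact ⟨n, c, h0, hl, fun i => by rw [hm]; exact bot_le, hc⟩
      · by_cases e : S = T
        · exact ⟨0, fun _ => S, rfl, e, fun i => inf_le_left, fun i => i.elim0⟩
        · refine ⟨1, ![S, T], rfl, rfl, fun i => ?_, fun i => ?_⟩
          · fin_cases i
            · exact inf_le_left
            · exact inf_le_right
          · fin_cases i
            exact ⟨e, hm⟩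
    have hSne : (S : Subgroup G) ≠ ⊥ := fun e => hST (by
      have hTS : T = S := Sylow.ext (Subgroup.eq_of_le_of_card_ge (by
        obtain ⟨g, rfl⟩ := MulAction.exists_smul_eq G S T
        show CfsgLib.Fusion.conjBy g (S : Subgroup G) ≤ _
        rw [e, CfsgLib.Fusion.conjBy, Subgroup.map_bot])
        (by rw [e, Subgroup.card_bot]; exact Nat.card_pos))
      rw [hTS])
    let H : Subgroup G :=
      { carrier := {g | Relation.ReflTransGen R S (g • S)}
        one_mem' := by show Relation.ReflTransGen R S ((1 : G) • S); rw [one_smul]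
        mul_mem' := fun {a b} ha hb => by
          show Relation.ReflTransGen R S ((a * b) • S)
          rw [mul_smul]; exact ha.trans (hsmul a _ _ hb)
        inv_mem' := fun {a} ha => by
          show Relation.ReflTransGen R S (a⁻¹ • S)
          have h := hsymm _ _ (hsmul a⁻¹ _ _ ha)
          rwa [inv_smul_smul] at h }
    have hSH : (S : Subgroup G) ≤ H := fun s hs => by
      show Relation.ReflTransGen R S (s • S)
      rw [Sylow.smul_eq_iff_mem_normalizer.2 (Subgroup.le_normalizer hs)]
    refine ⟨H, fun e => hST ?_, (CfsgLib.PEmb.dvd_card_of_ne_bot S.2 hSne).trans (Subgroup.card_dvd_of_le hSH), fun g hg hd => ?_⟩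
    · obtain ⟨g, rfl⟩ := MulAction.exists_smul_eq G S T
      exact (e ▸ Subgroup.mem_top g : g ∈ H)
    · obtain ⟨y, hy⟩ := exists_prime_orderOf_dvd_card' (G := ↥(H ⊓ H.map (MulAut.conj g).toMonoidHom)) p hd
      obtain ⟨hyH, hyg⟩ := y.2
      have hyg' : g⁻¹ * (y : G) * g ∈ H := CfsgLib.Fusion.mem_conjBy.1 hyg
      have hy1 : (y : G) ≠ 1 := fun e => (Fact.out : p.Prime).ne_one (by rw [← hy, ← Subgroup.orderOf_coe, e, orderOf_one])
      have hi : ¬ p ∣ (S : Subgroup G).relIndex H := fun hdd =>
        S.not_dvd_index (hdd.trans (Subgroup.relIndex_dvd_index_of_le hSH))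
      have hfind : ∀ z ∈ H, orderOf z = p → ∃ h ∈ H, z ∈ CfsgLib.Fusion.conjBy h (S : Subgroup G) := fun z hz ho => by
        have hzp : IsPGroup p (Subgroup.zpowers z) := IsPGroup.of_card (n := 1) (by rw [Nat.card_zpowers, ho, pow_one])
        obtain ⟨h, hh, hle⟩ := CfsgLib.Fusion.exists_conj_le_of_not_dvd_relIndex S.2 hSH hi hzp (Subgroup.zpowers_le.2 hz)
        refine ⟨h⁻¹, inv_mem hh, CfsgLib.Fusion.mem_conjBy.2 ?_⟩
        rw [inv_inv]
        exact hle (CfsgLib.Fusion.conj_mem_conjBy (Subgroup.mem_zpowers z))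
      obtain ⟨h1, hh1, hy_1⟩ := hfind _ hyH (by rw [Subgroup.orderOf_coe, hy])
      obtain ⟨h2, hh2, hy_2⟩ := hfind _ hyg' (by
        rw [show g⁻¹ * (y : G) * g = MulAut.conj g⁻¹ (y : G) by simp, MulEquiv.orderOf_eq, Subgroup.orderOf_coe, hy])
      have hy_3 : (y : G) ∈ CfsgLib.Fusion.conjBy (g * h2) (S : Subgroup G) := by
        rw [← CfsgLib.Fusion.conjBy_conjBy]
        exact CfsgLib.Fusion.mem_conjBy.2 hy_2
      have h12 : Relation.ReflTransGen R (h1 • S) ((g * h2) • S) := hmeet _ _ fun e => hy1 (by
        rw [← Subgroup.mem_bot, ← e]; exact ⟨hy_1, hy_3⟩)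
      have h3 : g * h2 ∈ H := (show Relation.ReflTransGen R S (h1 • S) from hh1).trans h12
      exact hg (by simpa using mul_mem h3 (inv_mem hh2))
  · rintro ⟨H, hH, hpH, hse⟩ hconn
    have hNF := CfsgLib.PEmb.ConjForm.normForm (p := p) hse
    obtain ⟨S, hS⟩ := hNF.exists_sylow_le hpH
    have hall : ∀ T : Sylow p G, (T : Subgroup G) ≤ H := by
      intro T
      obtain ⟨n, c, h0, hl, -, hc⟩ := hconn S T
      rw [← hl]
      suffices h : ∀ i : Fin (n + 1), (c i : Subgroup G) ≤ H from h _
      intro i
      induction i using Fin.induction with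
      | zero => rw [h0]; exact hS
      | succ i ih => exact hNF.le_of_inf_ne_bot (c i.succ).2 fun e => (hc i).2 (le_bot_iff.1 (e ▸ le_inf inf_le_right (inf_le_left.trans ih)))
    obtain ⟨g, hg⟩ : ∃ g, g ∉ H := by
      by_contra h
      push Not at h
      exact hH (eq_top_iff.2 fun g _ => h g)
    refine hse g hg ?_
    refine dvd_trans ?_ (Subgroup.card_dvd_of_le (le_inf (hall (g • S)) (CfsgLib.Fusion.conjBy_mono hS)))
    show p ∣ Nat.card (CfsgLib.Fusion.conjBy g (S : Subgroup G))
    rw [CfsgLib.Fusion.card_conjBy]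
    exact CfsgLib.PEmb.dvd_card_of_ne_bot S.2 (S.ne_bot_of_dvd_card (hpH.trans (Subgroup.card_subgroup_dvd_card H)))

end Cfsg.Agent.S3056
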