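import Cfsg.Statements.S5140
import Cfsg.Agent.Lib.Fusion.System.PPrimeIndex
import Cfsg.Agent.Lib.Fusion.System.Functor

set_option autoImplicit false
open Cfsg

namespace Cfsg.Agent.S5140

/-- Let F be a saturated fusion system over a finite p-group S. Then F has a p'-residual subsystem: a saturated subsystem over S of index prime to p contained in every saturated subsystem over S of index prime to p. -/
theorem result {Ω : Type*} [Group Ω] {S : Subgroup Ω} [Finite S] (p : ℕ) [Fact p.Prime] (hS : IsPGroup p S) (F : Cfsg.FusionSystem S) (hF : F.IsSaturated p) : ∃ E : Cfsg.FusionSystem S, F.IsPPrimeResidual p E := by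
  classical
  set 𝒞 : Set (Subgroup Ω) := {R | F.IsCentric R}
  have h𝒞 : ∀ R ∈ 𝒞, ∀ R', F.IsConj R R' → R' ∈ 𝒞 := fun R hR R' hc =>
    CfsgLib.Fusion.isCentric_of_isConj hR hc
  have hess : ∀ R, F.IsEssential p R → R ∈ 𝒞 := fun R hR => hR.1
  set A₀ : Set (MulAut S) := {α | α ∈ F.autGroup S ∧
    ∃ P, F.IsCentric P ∧ CfsgLib.Fusion.PPrime.EMap F p 𝒞 P (CfsgLib.Fusion.autFun α)}
  have hH : Subgroup.closure A₀ ≤ F.autGroup S := (Subgroup.closure_le _).2 fun α hα => hα.1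
  have hSc : F.IsCentric S := CfsgLib.Fusion.isCentric_self F
  set E := CfsgLib.Fusion.PPrime.hSystem (p := p) h𝒞 hH
  have hsub : E.IsSubsystemOf F := CfsgLib.Fusion.PPrime.hSystem_isSubsystemOf h𝒞 hH
  refine ⟨E, CfsgLib.Fusion.PPrime.isSaturated_hSystem h𝒞 hS hF hess (ℋ := 𝒞) le_rfl hSc h𝒞
      (fun R hR => hR) hH (fun P hP α hα he => Subgroup.subset_closure ⟨hα, P, hP, he⟩)
      (fun P hP hn => absurd hP hn),
    CfsgLib.Fusion.PPrime.hasPrimeToPIndex h𝒞 hS hF hess hsub fun P f hf =>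
      (CfsgLib.Fusion.PPrime.isMap_hSystem_iff h𝒞 hH).2 (CfsgLib.Fusion.PPrime.HMap.of_eMap hf),
    fun D hD hDi P φ hφ => ?_⟩
  have heD : ∀ P f, CfsgLib.Fusion.PPrime.EMap F p 𝒞 P f → CfsgLib.Fusion.IsMap D P f := by
    intro P f hf
    induction hf with
    | @base R P β k hC hle hR hβ hk =>
      obtain ⟨j, -, hj⟩ := (Nat.dvd_prime_pow (Fact.out : p.Prime)).1 (orderOf_dvd_of_pow_eq_one hk)
      refine ((CfsgLib.Fusion.mem_autGroup_iff hR).1 (hDi.2 R hR ?_)).mono hle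
      exact ⟨⟨β, hβ⟩, Subgroup.subset_closure ⟨j, by rw [← hj]; exact Subgroup.orderOf_mk _ _⟩, rfl⟩
    | conj hP hs => exact CfsgLib.Fusion.isMap_conj hP hs
    | comp _ _ hm h1 h2 => exact h1.comp h2 hm
    | congr _ he h1 => exact h1.congr he
  have hHD : Subgroup.closure A₀ ≤ D.autGroup S := (Subgroup.closure_le _).2 fun α hα => by
    obtain ⟨hαF, Q, hQ, he⟩ := hα
    exact (CfsgLib.Fusion.mem_autGroup_iff le_rfl).2 (CfsgLib.Fusion.isMap_of_restrict_centric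
      hS hF hD (fun R ψ hψ => hDi.1 R hψ) hQ.1 hQ ((CfsgLib.Fusion.mem_autGroup_iff le_rfl).1 hαF)
      (heD Q _ he))
  obtain ⟨α, hα, e, he, hfe⟩ := (CfsgLib.Fusion.PPrime.isMap_hSystem_iff h𝒞 hH).1
    (CfsgLib.Fusion.isMap_toFun hφ)
  exact CfsgLib.Fusion.mem_hom_iff.2 (((heD P e he).comp
    ((CfsgLib.Fusion.mem_autGroup_iff le_rfl).1 (hHD hα)) fun x hx => he.isMap.mem_S hx).congr hfe)

end Cfsg.Agent.S5140
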