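import Cfsg.Statements.S5141
import Cfsg.Agent.Lib.Fusion.System.PPrimeResidualNormal

set_option autoImplicit false
open Cfsg

namespace Cfsg.Agent.S5141

/-- Let F be a saturated fusion system over a finite p-group S and E a weakly normal subsystem of F over T. Then the p'-residual subsystem of E (the least saturated subsystem of E over T of index prime to p) is normal in F. -/
theorem result {Ω : Type*} [Group Ω] {S : Subgroup Ω} [Finite S] (p : ℕ) [Fact p.Prime] (hS : IsPGroup p S) (F : Cfsg.FusionSystem S) (hF : F.IsSaturated p) {T : Subgroup Ω} (E : Cfsg.FusionSystem T) (hE : E.IsWeaklyNormalIn F p) (D : Cfsg.FusionSystem T) (hD : E.IsPPrimeResidual p D) : D.IsNormalIn F p := by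
  classical
  obtain ⟨hEsat, -, hEinv⟩ := hE
  obtain ⟨hsub, hT, -, -⟩ := id hEinv
  have hTS : T ≤ S := hT.1
  haveI : Finite T := CfsgLib.Fusion.finite_of_le hTS
  have hTp : IsPGroup p T := hS.to_le hTS
  have hset : CfsgLib.Fusion.PPrimeChar.Setup F E p (1 : F.autGroup T →* Unit) :=
    ⟨hS, hF, hTS, hEsat, hEinv, by simp, fun _ _ => by simp⟩
  obtain ⟨hDsat, hDi, hDmin⟩ := hD
  set 𝒞 : Set (Subgroup Ω) := {R | E.IsCentric R} with h𝒞d
  have h𝒞 : ∀ R ∈ 𝒞, ∀ R', E.IsConj R R' → R' ∈ 𝒞 := fun R hR R' hc =>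
    CfsgLib.Fusion.isCentric_of_isConj hR hc
  have hess : ∀ R, E.IsEssential p R → R ∈ 𝒞 := fun R hR => hR.1
  set A₀ : Set (MulAut T) := {α | α ∈ E.autGroup T ∧
    ∃ P, E.IsCentric P ∧ CfsgLib.Fusion.PPrime.EMap E p 𝒞 P (CfsgLib.Fusion.autFun α)} with hA₀
  have hH : Subgroup.closure A₀ ≤ E.autGroup T := (Subgroup.closure_le _).2 fun α hα => hα.1
  have heD : ∀ P f, CfsgLib.Fusion.PPrime.EMap E p 𝒞 P f → CfsgLib.Fusion.IsMap D P f := by
    intro P f hf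
    induction hf with
    | @base R P β k hC hle hR hβ hk =>
      obtain ⟨j, -, hj⟩ := (Nat.dvd_prime_pow (Fact.out : p.Prime)).1 (orderOf_dvd_of_pow_eq_one hk)
      refine ((CfsgLib.Fusion.mem_autGroup_iff hR).1 (hDi.2 R hR ?_)).mono hle
      exact ⟨⟨β, hβ⟩, Subgroup.subset_closure ⟨j, by rw [← hj]; exact Subgroup.orderOf_mk _ _⟩, rfl⟩
    | conj hP hs => exact CfsgLib.Fusion.isMap_conj hP hs
    | comp _ _ hm h1 h2 => exact h1.comp h2 hm
    | congr _ he h1 => exact h1.congr he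
  have hHD : Subgroup.closure A₀ ≤ D.autGroup T := (Subgroup.closure_le _).2 fun α hα => by
    obtain ⟨hαE, Q, hQ, he⟩ := hα
    exact (CfsgLib.Fusion.mem_autGroup_iff le_rfl).2 (CfsgLib.Fusion.isMap_of_restrict_centric
      hTp hEsat hDsat (fun R ψ hψ => hDi.1 R hψ) hQ.1 hQ
      ((CfsgLib.Fusion.mem_autGroup_iff le_rfl).1 hαE) (heD Q _ he))
  set E' := CfsgLib.Fusion.PPrime.hSystem (p := p) h𝒞 hH
  have hE'sub : E'.IsSubsystemOf E := CfsgLib.Fusion.PPrime.hSystem_isSubsystemOf h𝒞 hH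
  have hle : D.IsSubsystemOf E' := hDmin E'
    (CfsgLib.Fusion.PPrime.isSaturated_hSystem h𝒞 hTp hEsat hess (ℋ := 𝒞) le_rfl
      (CfsgLib.Fusion.isCentric_self E) h𝒞 (fun R hR => hR) hH
      (fun P hP α hα he => Subgroup.subset_closure ⟨hα, P, hP, he⟩)
      (fun P hP hn => absurd hP hn))
    (CfsgLib.Fusion.PPrime.hasPrimeToPIndex h𝒞 hTp hEsat hess hE'sub fun P f hf =>
      (CfsgLib.Fusion.PPrime.isMap_hSystem_iff h𝒞 hH).2 (CfsgLib.Fusion.PPrime.HMap.of_eMap hf))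
  have hdec : ∀ {P : Subgroup Ω} {f : Ω → Ω}, CfsgLib.Fusion.IsMap D P f →
      CfsgLib.Fusion.PPrime.HMap E p 𝒞 (Subgroup.closure A₀) P f := fun hf =>
    (CfsgLib.Fusion.PPrime.isMap_hSystem_iff h𝒞 hH).1 (CfsgLib.Fusion.isMap_of_subsystem hle hf)
  -- conjugation by `Aut_F(T)`
  have hcentric : ∀ α ∈ F.autGroup T, ∀ R, E.IsCentric R →
      E.IsCentric (CfsgLib.Fusion.img R (CfsgLib.Fusion.autFun α)) := fun α hα R hR =>
    hset.isCentric_img hR ⟨α, hα⟩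
  have hemap : ∀ α ∈ F.autGroup T, ∀ P f, CfsgLib.Fusion.PPrime.EMap E p 𝒞 P f →
      CfsgLib.Fusion.PPrime.EMap E p 𝒞 (CfsgLib.Fusion.img P (CfsgLib.Fusion.autFun α))
        (CfsgLib.Fusion.autFun α ∘ f ∘ CfsgLib.Fusion.autFun α⁻¹) := by
    intro α hα P f hf
    have hm := (CfsgLib.Fusion.mem_autGroup_iff hTS).1 hα
    induction hf with
    | @base R P β k hC hle hR hβ hk =>
      have hmR := hm.mono hR
      have h1 := hset.conj_E hα ((CfsgLib.Fusion.mem_autGroup_iff hR).1 hβ)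
      refine (CfsgLib.Fusion.PPrime.EMap.base (k := k)
        (β := MulAut.congr (CfsgLib.Fusion.mapEquiv hmR) β) (hcentric α hα R hC)
        (hmR.img_mono hle) h1.le ?_ (by rw [← map_pow, hk, map_one])).congr fun y hy => ?_
      · refine (CfsgLib.Fusion.mem_autGroup_iff h1.le).2 (h1.congr fun y hy => ?_)
        obtain ⟨x, hx, rfl⟩ := hmR.mem_img.1 hy
        show _ = CfsgLib.Fusion.autFun α (CfsgLib.Fusion.autFun β
          (CfsgLib.Fusion.autFun α⁻¹ (CfsgLib.Fusion.autFun α x)))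
        rw [CfsgLib.Fusion.autFun_congr hmR β hx, CfsgLib.Fusion.PPrime.autFun_symm (hR hx)]
      · obtain ⟨x, hx, rfl⟩ := (hmR.mono hle).mem_img.1 hy
        rw [CfsgLib.Fusion.autFun_congr hmR β (hle hx)]
        show CfsgLib.Fusion.autFun α (CfsgLib.Fusion.autFun β
          (CfsgLib.Fusion.autFun α⁻¹ (CfsgLib.Fusion.autFun α x))) = _
        rw [CfsgLib.Fusion.PPrime.autFun_symm (hR (hle hx))]
    | @conj P s hP hs =>
      have hmP := hm.mono hP
      refine (CfsgLib.Fusion.PPrime.EMap.conj (s := CfsgLib.Fusion.autFun α s)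
        (hmP.img_le_of_forall fun x hx => CfsgLib.Fusion.autFun_mem α (hP hx))
        (CfsgLib.Fusion.autFun_mem α hs)).congr fun y hy => ?_
      obtain ⟨x, hx, rfl⟩ := hmP.mem_img.1 hy
      show CfsgLib.Fusion.autFun α (s * CfsgLib.Fusion.autFun α⁻¹ (CfsgLib.Fusion.autFun α x) * s⁻¹)
        = _
      rw [CfsgLib.Fusion.PPrime.autFun_symm (hP hx), hm.map_conj hs (hP hx)]
    | @comp P R f g h1 h2 hmem ih1 ih2 =>
      have hPT : P ≤ T := h1.isMap.le
      refine (ih1.comp ih2 fun y hy => ?_).congr fun y hy => ?_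
      all_goals obtain ⟨x, hx, rfl⟩ := (hm.mono hPT).mem_img.1 hy
      · show CfsgLib.Fusion.autFun α (f (CfsgLib.Fusion.autFun α⁻¹ (CfsgLib.Fusion.autFun α x))) ∈ _
        rw [CfsgLib.Fusion.PPrime.autFun_symm (hPT hx)]
        exact (hm.mono h2.isMap.le).mem_img.2 ⟨_, hmem x hx, rfl⟩
      · show CfsgLib.Fusion.autFun α (g (f (CfsgLib.Fusion.autFun α⁻¹ (CfsgLib.Fusion.autFun α x))))
          = CfsgLib.Fusion.autFun α (g (CfsgLib.Fusion.autFun α⁻¹
            (CfsgLib.Fusion.autFun α (f (CfsgLib.Fusion.autFun α⁻¹ (CfsgLib.Fusion.autFun α x))))))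
        rw [CfsgLib.Fusion.PPrime.autFun_symm (hPT hx),
          CfsgLib.Fusion.PPrime.autFun_symm (h1.isMap.mem_S hx)]
    | @congr P f g h1 he ih =>
      refine ih.congr fun y hy => ?_
      obtain ⟨x, hx, rfl⟩ := (hm.mono h1.isMap.le).mem_img.1 hy
      show CfsgLib.Fusion.autFun α (g (CfsgLib.Fusion.autFun α⁻¹ (CfsgLib.Fusion.autFun α x)))
        = CfsgLib.Fusion.autFun α (f (CfsgLib.Fusion.autFun α⁻¹ (CfsgLib.Fusion.autFun α x)))
      rw [CfsgLib.Fusion.PPrime.autFun_symm (h1.isMap.le hx), he x hx]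
  have hconjH : ∀ α ∈ F.autGroup T, ∀ γ ∈ Subgroup.closure A₀,
      α * γ * α⁻¹ ∈ Subgroup.closure A₀ := by
    intro α hα γ hγ
    have hm := (CfsgLib.Fusion.mem_autGroup_iff hTS).1 hα
    refine (Subgroup.closure_le ((Subgroup.closure A₀).comap (MulAut.conj α).toMonoidHom)).2
      (fun β hβ => ?_) hγ
    obtain ⟨hβE, P, hP, he⟩ := hβ
    have hval : ∀ y ∈ T, CfsgLib.Fusion.autFun (α * β * α⁻¹) y =
        (CfsgLib.Fusion.autFun α ∘ CfsgLib.Fusion.autFun β ∘ CfsgLib.Fusion.autFun α⁻¹) y :=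
      fun y hy => by
        rw [CfsgLib.Fusion.autFun_mul _ _ hy,
          CfsgLib.Fusion.autFun_mul _ _ (CfsgLib.Fusion.autFun_mem _ hy)]
        rfl
    refine Subgroup.subset_closure ⟨?_, CfsgLib.Fusion.img P (CfsgLib.Fusion.autFun α),
      hcentric α hα P hP, (hemap α hα P _ he).congr fun y hy => hval y ?_⟩
    · have h1 := hset.conj_E hα ((CfsgLib.Fusion.mem_autGroup_iff le_rfl).1 hβE)
      rw [CfsgLib.Fusion.img_autFun] at h1
      exact (CfsgLib.Fusion.mem_autGroup_iff le_rfl).2 (h1.congr hval)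
    · obtain ⟨x, hx, rfl⟩ := (hm.mono hP.1).mem_img.1 hy
      exact CfsgLib.Fusion.autFun_mem α (hP.1 hx)
  refine ⟨⟨hDsat, hF, fun P φ hφ => hsub P (hDi.1 P hφ), hT, ?_, ?_⟩, ?_⟩
  · -- invariance
    intro P hPT φ hφ α hα
    obtain ⟨γ, hγ, e, he, hfe⟩ := hdec (CfsgLib.Fusion.isMap_toFun hφ)
    have hm := (CfsgLib.Fusion.mem_autGroup_iff hTS).1 hα
    have hγ' := (CfsgLib.Fusion.mem_autGroup_iff le_rfl).1 (hHD (hconjH α hα γ hγ))
    have he' := heD _ _ (hemap α hα P e he)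
    have hmap : CfsgLib.Fusion.IsMap D (CfsgLib.Fusion.img P (CfsgLib.Fusion.autFun α))
        (CfsgLib.Fusion.autFun α ∘ CfsgLib.Fusion.toFun φ ∘ CfsgLib.Fusion.autFun α⁻¹) := by
      refine (he'.comp hγ' fun y hy => he'.mem_S hy).congr fun y hy => ?_
      obtain ⟨x, hx, rfl⟩ := (hm.mono hPT).mem_img.1 hy
      show CfsgLib.Fusion.autFun α (CfsgLib.Fusion.toFun φ (CfsgLib.Fusion.autFun α⁻¹ _)) =
        CfsgLib.Fusion.autFun (α * γ * α⁻¹)
          (CfsgLib.Fusion.autFun α (e (CfsgLib.Fusion.autFun α⁻¹ _)))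
      rw [CfsgLib.Fusion.PPrime.autFun_symm (hPT hx), hfe x hx,
        ← CfsgLib.Fusion.autFun_mul _ _ (he.isMap.mem_S hx),
        ← CfsgLib.Fusion.autFun_mul _ _ (he.isMap.mem_S hx), inv_mul_cancel_right]
    rw [CfsgLib.Fusion.map_subgroupOf_eq_img hPT]
    obtain ⟨χ', hχ', hχe⟩ := hmap
    refine ⟨χ', hχ', fun x hφx hαx => ?_⟩
    refine (hχe ⟨_, hαx⟩).trans ?_
    show CfsgLib.Fusion.autFun α (CfsgLib.Fusion.toFun φ
      (CfsgLib.Fusion.autFun α⁻¹ ((α ⟨x, hPT x.2⟩ : T) : Ω))) = _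
    rw [← CfsgLib.Fusion.autFun_apply α (hPT x.2), CfsgLib.Fusion.PPrime.autFun_symm (hPT x.2),
      CfsgLib.Fusion.toFun_coe, CfsgLib.Fusion.autFun_apply α hφx]
  · -- Frattini
    intro P hPT φ hφ
    obtain ⟨a, d, hd, hfd⟩ := hset.exists_decomp (CfsgLib.Fusion.isMap_toFun hφ) hPT
    obtain ⟨γ, hγ, e, he, hde⟩ := CfsgLib.Fusion.PPrime.frattini h𝒞 hTp hEsat hess hd
    obtain ⟨φ₀, hφ₀, hφ₀e⟩ := heD P e he
    refine ⟨a * γ, mul_mem a.2 ((CfsgLib.Fusion.mem_autGroup_iff hTS).2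
      (hset.isMap_sub ((CfsgLib.Fusion.mem_autGroup_iff le_rfl).1 hγ))), φ₀, hφ₀, fun x hx => ?_⟩
    rw [← CfsgLib.Fusion.toFun_coe φ x, hfd x x.2, hde x x.2,
      ← CfsgLib.Fusion.autFun_mul _ _ (he.isMap.mem_S x.2), ← CfsgLib.Fusion.autFun_apply _ hx,
      hφ₀e]
  · -- extension
    intro α hα
    have hαX : α ∈ CfsgLib.Fusion.PPrimeChar.extAut F T hset.inv.2.1 := by
      obtain ⟨γ, hγ, e, he, hfe⟩ := hdec ((CfsgLib.Fusion.mem_autGroup_iff le_rfl).1 hα)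
      have hXle : Subgroup.closure A₀ ≤ CfsgLib.Fusion.PPrimeChar.extAut F T hset.inv.2.1 :=
        (Subgroup.closure_le _).2 fun β ⟨hβ, P, hP, heP⟩ => hset.mem_extAut hβ hP heP
      have hαE : α ∈ E.autGroup T :=
        CfsgLib.Fusion.autGroup_mono (fun P φ hφ => hDi.1 P hφ) le_rfl hα
      have h1 := hset.mem_extAut (mul_mem (inv_mem (hH hγ)) hαE)
        (CfsgLib.Fusion.isCentric_self E) (he.congr fun x hx => by
          rw [CfsgLib.Fusion.autFun_mul _ _ hx, hfe x hx,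
            CfsgLib.Fusion.PPrime.autFun_symm (he.isMap.mem_S hx)])
      have h2 := mul_mem (hXle hγ) h1
      rwa [mul_inv_cancel_left] at h2
    obtain ⟨k, hk, hkT, hkc⟩ := hαX
    refine ⟨k, hk, fun x => ?_, fun c hc => ?_⟩
    · rw [← CfsgLib.Fusion.autFun_coe, Subgroup.coe_inclusion, hkT x x.2,
        CfsgLib.Fusion.autFun_coe]
    · rw [← CfsgLib.Fusion.autFun_coe]
      refine ⟨hkc c hc, Subgroup.mul_mem _ (Subgroup.inv_mem _ hc.2) ?_⟩
      exact (CfsgLib.Fusion.PPrimeChar.map_mem_centralizer le_sup_left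
        (sup_le hTS inf_le_left) hT hk c.2 hc).2

end Cfsg.Agent.S5141
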