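import Cfsg.Statements.S2761
import Cfsg.Agent.Lib.LocalStructure.QdPrime

set_option autoImplicit false
open Cfsg

namespace Cfsg.Agent.S2761

/-- The group Qd(2), the natural semidirect product of an elementary abelian group of order 4 by SL₂(2) (realised as the affine subgroup of SL₃(2)), is isomorphic to the symmetric group of degree 4. -/
theorem result : Nonempty (↥(Cfsg.qd 2) ≃* Equiv.Perm (Fin 4)) := by
  haveI : Fact (Nat.Prime 2) := ⟨Nat.prime_two⟩
  show Nonempty (↥(Cfsg.qdOver (ZMod 2)) ≃* Equiv.Perm (Fin 4))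
  let v : Fin 4 ≃ (Fin 2 → ZMod 2) :=
    (Fintype.equivFinOfCardEq (by simp)).symm
  let act : ↥(Cfsg.qdOver (ZMod 2)) →* Function.End (Fin 2 → ZMod 2) :=
    { toFun := fun x u => CfsgLib.LS.QdF.co x + (CfsgLib.LS.QdF.lin x).1.mulVec u
      map_one' := funext fun u => by
        rw [← CfsgLib.LS.QdF.el_one, CfsgLib.LS.QdF.co_el, CfsgLib.LS.QdF.lin_el]
        simp
        rfl
      map_mul' := fun x y => funext fun u => by
        obtain ⟨A, w, rfl⟩ := CfsgLib.LS.QdF.exists_el x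
        obtain ⟨B, z, rfl⟩ := CfsgLib.LS.QdF.exists_el y
        show _ = CfsgLib.LS.QdF.co (CfsgLib.LS.QdF.el A w) +
          (CfsgLib.LS.QdF.lin (CfsgLib.LS.QdF.el A w)).1.mulVec
            (CfsgLib.LS.QdF.co (CfsgLib.LS.QdF.el B z) +
              (CfsgLib.LS.QdF.lin (CfsgLib.LS.QdF.el B z)).1.mulVec u)
        simp only [CfsgLib.LS.QdF.el_mul, CfsgLib.LS.QdF.co_el, CfsgLib.LS.QdF.lin_el,
          Matrix.SpecialLinearGroup.coe_mul, Matrix.mulVec_add, Matrix.mulVec_mulVec, add_assoc] }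
  let f : ↥(Cfsg.qdOver (ZMod 2)) →* Equiv.Perm (Fin 2 → ZMod 2) :=
    (Equiv.Perm.equivUnitsEnd.symm.toMonoidHom).comp act.toHomUnits
  have hf : ∀ x u, f x u = CfsgLib.LS.QdF.co x + (CfsgLib.LS.QdF.lin x).1.mulVec u :=
    fun x u => rfl
  have hinj : Function.Injective f := by
    rw [injective_iff_map_eq_one]
    intro x hx
    have hx' : ∀ u, CfsgLib.LS.QdF.co x + (CfsgLib.LS.QdF.lin x).1.mulVec u = u := fun u => by
      rw [← hf, hx]; rfl
    have h0 := hx' 0
    rw [Matrix.mulVec_zero, add_zero] at h0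
    have hA : (CfsgLib.LS.QdF.lin x).1 = 1 := Matrix.ext_of_mulVec_single fun i => by
      have h := hx' (Pi.single i 1)
      rw [h0, zero_add] at h
      rw [h, Matrix.one_mulVec]
    rw [← CfsgLib.LS.QdF.el_lin_co x, h0,
      show CfsgLib.LS.QdF.lin x = 1 from Subtype.ext hA, CfsgLib.LS.QdF.el_one]
  let f4 : ↥(Cfsg.qdOver (ZMod 2)) →* Equiv.Perm (Fin 4) :=
    (v.symm.permCongrHom.toMonoidHom).comp f
  refine ⟨MulEquiv.ofBijective f4 ((Nat.bijective_iff_injective_and_card _).2 ⟨?_, ?_⟩)⟩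
  · exact v.symm.permCongrHom.injective.comp hinj
  · rw [CfsgLib.LS.QdF.card_qd, Nat.card_eq_fintype_card, Fintype.card_perm, Fintype.card_fin]
    rfl

end Cfsg.Agent.S2761
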