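import Cfsg.Statements.S2759
import Cfsg.Agent.S2761
import Cfsg.Agent.Lib.LocalStructure.QdPrime
import Cfsg.Agent.Lib.LocalStructure.FStar
import Cfsg.Agent.Lib.Coprime.Action
import Cfsg.Agent.Lib.Coprime.PGroupFrattini
import Cfsg.Agent.Lib.PGroup.ElementaryBasic

set_option autoImplicit false
open Cfsg

namespace Cfsg.Agent.S2759

open scoped commutatorElement

theorem involves_of_surjective {G X : Type*} [Group G] [Group X] (K : Subgroup G) (f : ↥K →* X)
    (hf : Function.Surjective f) : Cfsg.Involves X G := by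
  have he : (f.ker.map K.subtype).subgroupOf K = f.ker :=
    Subgroup.comap_map_eq_self_of_injective K.subtype_injective _
  haveI : ((f.ker.map K.subtype).subgroupOf K).Normal := he.symm ▸ inferInstance
  exact ⟨K, f.ker.map K.subtype, inferInstance,
    ⟨(QuotientGroup.quotientMulEquivOfEq he).trans
      (QuotientGroup.quotientKerEquivOfSurjective f hf)⟩⟩

theorem exists_sl2_equiv :
    Nonempty (Matrix.SpecialLinearGroup (Fin 2) (ZMod 2) ≃* Equiv.Perm (Fin 3)) := by
  let f : Matrix.SpecialLinearGroup (Fin 2) (ZMod 2) →* Equiv.Perm (Fin 2 → ZMod 2) :=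
    MonoidHom.mk' (fun A =>
      { toFun := fun v => A.1.mulVec v
        invFun := fun v => (A⁻¹).1.mulVec v
        left_inv := fun v => by
          simp only [Matrix.mulVec_mulVec, ← Matrix.SpecialLinearGroup.coe_mul, inv_mul_cancel,
            Matrix.SpecialLinearGroup.coe_one, Matrix.one_mulVec]
        right_inv := fun v => by
          simp only [Matrix.mulVec_mulVec, ← Matrix.SpecialLinearGroup.coe_mul, mul_inv_cancel,
            Matrix.SpecialLinearGroup.coe_one, Matrix.one_mulVec] })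
      fun A B => Equiv.ext fun v => by
        show (A * B).1.mulVec v = A.1.mulVec (B.1.mulVec v)
        rw [Matrix.mulVec_mulVec, Matrix.SpecialLinearGroup.coe_mul]
  have hz : ∀ A v, f A v ≠ 0 ↔ v ≠ 0 := fun A v =>
    not_congr ⟨fun h => (f A).injective (h.trans (Matrix.mulVec_zero A.1).symm),
      fun h => by rw [h]; exact Matrix.mulVec_zero A.1⟩
  let g : Matrix.SpecialLinearGroup (Fin 2) (ZMod 2) →*
      Equiv.Perm {v : Fin 2 → ZMod 2 // v ≠ 0} :=
    MonoidHom.mk' (fun A => (f A).subtypePerm (fun v => hz A v))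
      fun A B => Equiv.ext fun v => Subtype.ext (by
        show f (A * B) v = f A (f B v)
        rw [map_mul]
        rfl)
  have hinj : Function.Injective g := by
    intro A B h
    refine Subtype.ext (Matrix.ext_of_mulVec_single fun i => ?_)
    exact congrArg (fun σ : Equiv.Perm {v : Fin 2 → ZMod 2 // v ≠ 0} =>
      (σ ⟨Pi.single i 1, by simp⟩ : Fin 2 → ZMod 2)) h
  have hcard : Fintype.card {v : Fin 2 → ZMod 2 // v ≠ 0} = 3 := by
    rw [Fintype.card_subtype_compl, Fintype.card_subtype_eq]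
    simp
  let e := (Fintype.equivFinOfCardEq hcard)
  refine ⟨MulEquiv.ofBijective ((e.permCongrHom.toMonoidHom).comp g)
    ((Nat.bijective_iff_injective_and_card _).2 ⟨e.permCongrHom.injective.comp hinj, ?_⟩)⟩
  rw [CfsgLib.Classical.card_sl2, Nat.card_eq_fintype_card, Fintype.card_perm]
  simp [ZMod.card]
  rfl

theorem eq_one_of_two_three {G : Type*} [Group G] {z : G} {a b : ℕ}
    (h2 : orderOf z ∣ 2 ^ a) (h3 : orderOf z ∣ 3 ^ b) : z = 1 :=
  orderOf_eq_one_iff.1 (Nat.eq_one_of_dvd_coprimes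
    ((((Nat.coprime_primes Nat.prime_two Nat.prime_three).2 (by norm_num)).pow_left a).pow_right b)
    h2 h3)

theorem involves_sfour_of_action {G : Type*} [Group G] [Finite G] {T : Subgroup G}
    (hT : IsPGroup 2 T) {x y : G} (hxN : x ∈ Subgroup.normalizer (T : Set G))
    (hyN : y ∈ Subgroup.normalizer (T : Set G)) {a b : ℕ} (hx : x ^ 2 ^ a = 1)
    (hy : y ^ 3 ^ b = 1) (hxy : x * y * x⁻¹ = y⁻¹)
    (hyT : y ∉ Subgroup.centralizer (T : Set G))
    (hy3 : y ^ 3 ∈ Subgroup.centralizer (T : Set G)) :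
    Cfsg.Involves (Equiv.Perm (Fin 4)) G := by
  classical
  haveI : Fact (Nat.Prime 2) := ⟨Nat.prime_two⟩
  let N := Subgroup.normalizer (T : Set G)
  let Φ := frattini ↥T
  let ΦG := Φ.map T.subtype
  have hNΦ : N ≤ Subgroup.normalizer (ΦG : Set G) :=
    CfsgLib.LS.normalizer_le_normalizer_map_char Φ
  let π := QuotientGroup.mk' Φ
  have hVc : ∀ u v : ↥T ⧸ Φ, u * v = v * u := by
    intro u v
    obtain ⟨u, rfl⟩ := QuotientGroup.mk'_surjective Φ u
    obtain ⟨v, rfl⟩ := QuotientGroup.mk'_surjective Φ v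
    rw [← map_mul, ← map_mul]
    refine QuotientGroup.eq.2 (CfsgLib.Coprime.commutator_le_frattini hT ?_)
    have h := Subgroup.commutator_mem_commutator (Subgroup.mem_top v⁻¹) (Subgroup.mem_top u⁻¹)
    rw [← _root_.commutator_def] at h
    convert h using 1
    rw [commutatorElement_def]
    group
  have hV2 : ∀ u : ↥T ⧸ Φ, u * u = 1 := by
    intro u
    obtain ⟨u, rfl⟩ := QuotientGroup.mk'_surjective Φ u
    rw [← map_mul]
    exact (QuotientGroup.eq_one_iff _).2 (pow_two u ▸ CfsgLib.Coprime.pow_mem_frattini hT u)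
  -- conjugation on `T / Φ`
  have hconj : ∀ (g : G) (hg : g ∈ N), ∃ φ : (↥T ⧸ Φ) →* (↥T ⧸ Φ), ∀ (t : G) (ht : t ∈ T),
      φ (π ⟨t, ht⟩) = π ⟨g * t * g⁻¹, (Subgroup.mem_normalizer_iff.1 hg t).1 ht⟩ := by
    intro g hg
    let c : ↥T →* ↥T := MonoidHom.mk'
      (fun t => ⟨g * t * g⁻¹, (Subgroup.mem_normalizer_iff.1 hg t).1 t.2⟩)
      fun s t => Subtype.ext (by simp [mul_assoc])
    refine ⟨QuotientGroup.map Φ Φ c (fun t ht => ?_), fun t ht => rfl⟩
    obtain ⟨t', ht', e⟩ := (Subgroup.mem_normalizer_iff.1 (hNΦ hg) (t : G)).1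
      (Subgroup.mem_map_of_mem _ ht)
    show c t ∈ Φ
    rw [show c t = t' from Subtype.ext e.symm]
    exact ht'
  obtain ⟨σ, hσ⟩ := hconj y hyN
  obtain ⟨τ, hτ⟩ := hconj x hxN
  have hσ3 : ∀ v, σ (σ (σ v)) = v := by
    intro v
    obtain ⟨⟨t, ht⟩, rfl⟩ := QuotientGroup.mk'_surjective Φ v
    rw [hσ t ht, hσ, hσ]
    refine congrArg π (Subtype.ext ?_)
    show y * (y * (y * t * y⁻¹) * y⁻¹) * y⁻¹ = t
    calc y * (y * (y * t * y⁻¹) * y⁻¹) * y⁻¹ = y ^ 3 * t * (y ^ 3)⁻¹ := by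
          rw [pow_three]; group
      _ = t := by rw [← Subgroup.mem_centralizer_iff.1 hy3 t ht, mul_inv_cancel_right]
  have hτσ : ∀ v, σ (τ v) = τ (σ (σ v)) := by
    intro v
    obtain ⟨⟨t, ht⟩, rfl⟩ := QuotientGroup.mk'_surjective Φ v
    rw [hσ t ht, hσ, hτ t ht, hσ, hτ]
    refine congrArg π (Subtype.ext ?_)
    show y * (x * t * x⁻¹) * y⁻¹ = x * (y * (y * t * y⁻¹) * y⁻¹) * x⁻¹
    have h1 : y * x = x * y⁻¹ := by
      have h : x * y⁻¹ * x⁻¹ = y := by rw [← conj_inv, hxy, inv_inv]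
      nth_rewrite 1 [← h]
      group
    have h2 : y⁻¹ * t * y = y * (y * t * y⁻¹) * y⁻¹ := by
      have h := Subgroup.mem_centralizer_iff.1 hy3 t ht
      calc y⁻¹ * t * y = y⁻¹ * (t * y ^ 3) * (y ^ 2)⁻¹ := by rw [pow_two, pow_three]; group
        _ = y⁻¹ * (y ^ 3 * t) * (y ^ 2)⁻¹ := by rw [h]
        _ = y * (y * t * y⁻¹) * y⁻¹ := by rw [pow_two, pow_three]; group
    rw [← h2]
    calc y * (x * t * x⁻¹) * y⁻¹ = (y * x) * t * (y * x)⁻¹ := by group
      _ = x * (y⁻¹ * t * y) * x⁻¹ := by rw [h1]; group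
  -- `y` moves some coset of `Φ`
  obtain ⟨v₀, hv₀⟩ : ∃ v, σ v ≠ v := by
    by_contra hne
    push Not at hne
    refine hyT (CfsgLib.Coprime.le_centralizer_of_trivial_on_frattini_quotient
      (A := Subgroup.zpowers y) (K := T) (Subgroup.zpowers_le.2 hyN) ?_ ?_
      (Subgroup.mem_zpowers y))
    · obtain ⟨k, hk⟩ := (hT.to_subgroup (frattini ↥T)).exists_card_eq
      rw [hk, Nat.card_zpowers]
      exact (((Nat.coprime_primes Nat.prime_three Nat.prime_two).2 (by norm_num)).pow b k).coprime_dvd_left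
        (orderOf_dvd_of_pow_eq_one hy)
    · intro c hc t ht
      obtain ⟨n, rfl⟩ := (Submonoid.mem_powers_iff _ _).1 (mem_powers_iff_mem_zpowers.2 hc)
      have key : ∀ (n : ℕ), ∃ h, π ⟨y ^ n * t * (y ^ n)⁻¹, h⟩ = π ⟨t, ht⟩ := by
        intro n
        induction n with
        | zero => exact ⟨by simpa using ht, congrArg π (Subtype.ext (by simp))⟩
        | succ n ih =>
          obtain ⟨h, e⟩ := ih
          refine ⟨(Subgroup.mem_normalizer_iff.1 (pow_mem hyN (n + 1)) t).1 ht, ?_⟩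
          rw [← e, ← hne (π ⟨_, h⟩), hσ _ h]
          refine congrArg π (Subtype.ext ?_)
          show y ^ (n + 1) * t * (y ^ (n + 1))⁻¹ = y * (y ^ n * t * (y ^ n)⁻¹) * y⁻¹
          rw [pow_succ']
          group
      obtain ⟨h, e⟩ := key n
      have h1 := QuotientGroup.eq.1 e.symm
      have h2 : (⟨t, ht⟩ : ↥T)⁻¹ * ⟨y ^ n * t * (y ^ n)⁻¹, h⟩ ∈ Φ := h1
      have h3 := Subgroup.mem_map_of_mem T.subtype
        ((inferInstance : Φ.Normal).conj_mem _ h2 ⟨t, ht⟩)
      convert h3 using 1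
      show y ^ n * t * (y ^ n)⁻¹ * t⁻¹ = t * (t⁻¹ * (y ^ n * t * (y ^ n)⁻¹)) * t⁻¹
      group
  let S : Set (↥T ⧸ Φ) := {v | v * σ v * σ (σ v) = 1}
  have hSτ : ∀ v ∈ S, τ v ∈ S := by
    intro v hv
    show τ v * σ (τ v) * σ (σ (τ v)) = 1
    rw [hτσ v, hτσ (σ (σ v)), hσ3, mul_assoc, hVc (τ (σ (σ v))), ← mul_assoc, ← map_mul, ← map_mul,
      hv, map_one]
  have hSmul : ∀ v ∈ S, ∀ w ∈ S, v * w ∈ S := by
    intro v hv w hw
    show v * w * σ (v * w) * σ (σ (v * w)) = 1
    letI : CommMonoid (↥T ⧸ Φ) := { (inferInstance : Monoid (↥T ⧸ Φ)) with mul_comm := hVc }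
    calc v * w * σ (v * w) * σ (σ (v * w)) = (v * σ v * σ (σ v)) * (w * σ w * σ (σ w)) := by
          rw [map_mul, map_mul]; ac_rfl
      _ = 1 := by rw [hv, hw, one_mul]
  -- a fixed point of `τ` in `S`
  have hfix : ∀ i, i ≤ a → ∃ v ∈ S, v ≠ 1 ∧ τ^[2 ^ (a - i)] v = v := by
    intro i
    induction i with
    | zero =>
      intro _
      refine ⟨v₀ * σ v₀, ?_, fun h => hv₀ ?_, ?_⟩
      · show v₀ * σ v₀ * σ (v₀ * σ v₀) * σ (σ (v₀ * σ v₀)) = 1
        rw [map_mul, map_mul, hσ3]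
        letI : CommMonoid (↥T ⧸ Φ) := { (inferInstance : Monoid (↥T ⧸ Φ)) with mul_comm := hVc }
        calc v₀ * σ v₀ * (σ v₀ * σ (σ v₀)) * (σ (σ v₀) * v₀)
            = (v₀ * v₀) * (σ v₀ * σ v₀) * (σ (σ v₀) * σ (σ v₀)) := by ac_rfl
          _ = 1 := by simp [hV2]
      · calc σ v₀ = (v₀ * v₀) * σ v₀ := by rw [hV2, one_mul]
          _ = v₀ := by rw [mul_assoc, h, mul_one]
      · have key : ∀ (n : ℕ) (t : G) (ht : t ∈ T), τ^[n] (π ⟨t, ht⟩) = π ⟨x ^ n * t * (x ^ n)⁻¹,
            (Subgroup.mem_normalizer_iff.1 (pow_mem hxN n) t).1 ht⟩ := by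
          intro n
          induction n with
          | zero => intro t ht; exact congrArg π (Subtype.ext (by simp))
          | succ n ih =>
            intro t ht
            rw [Function.iterate_succ_apply', ih t ht, hτ]
            refine congrArg π (Subtype.ext ?_)
            show x * (x ^ n * t * (x ^ n)⁻¹) * x⁻¹ = x ^ (n + 1) * t * (x ^ (n + 1))⁻¹
            rw [pow_succ']
            group
        obtain ⟨⟨t, ht⟩, he⟩ := QuotientGroup.mk'_surjective Φ (v₀ * σ v₀)
        rw [Nat.sub_zero, ← he, key _ t ht]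
        exact congrArg π (Subtype.ext (by simp [hx]))
    | succ i ih =>
      intro hi
      obtain ⟨v, hvS, hv1, hv⟩ := ih (by omega)
      have he : 2 ^ (a - i) = 2 ^ (a - (i + 1)) + 2 ^ (a - (i + 1)) := by
        rw [← two_mul, ← pow_succ', show a - (i + 1) + 1 = a - i by omega]
      by_cases hw : τ^[2 ^ (a - (i + 1))] v = v
      · exact ⟨v, hvS, hv1, hw⟩
      have hwS : ∀ n, τ^[n] v ∈ S := by
        intro n
        induction n with
        | zero => exact hvS
        | succ n ihn => rw [Function.iterate_succ_apply']; exact hSτ _ ihn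
      refine ⟨v * τ^[2 ^ (a - (i + 1))] v, hSmul _ hvS _ (hwS _), fun h => hw ?_, ?_⟩
      · exact mul_left_cancel (h.trans (hV2 v).symm)
      · have hit : ∀ (n : ℕ) (p q : ↥T ⧸ Φ), τ^[n] (p * q) = τ^[n] p * τ^[n] q := by
          intro n
          induction n with
          | zero => intro p q; rfl
          | succ n ihn =>
            intro p q
            rw [Function.iterate_succ_apply', ihn, map_mul, ← Function.iterate_succ_apply' τ,
              ← Function.iterate_succ_apply' τ]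
        rw [hit, ← Function.iterate_add_apply, ← he, hv, hVc]
  obtain ⟨v, hvS, hv1, hv⟩ := hfix a le_rfl
  rw [Nat.sub_self, pow_zero, Function.iterate_one] at hv
  -- the four subgroup
  have hfix1 : ∀ w ∈ S, σ w = w → w = 1 := by
    intro w hw he
    have h : w * σ w * σ (σ w) = 1 := hw
    rwa [he, he, hV2, one_mul] at h
  have hu : σ v ≠ v := fun h => hv1 (hfix1 v hvS h)
  have hσu : σ (σ v) = v * σ v := by
    have h : v * σ v * σ (σ v) = 1 := hvS
    exact (mul_left_cancel (h.trans (hV2 (v * σ v)).symm))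
  have hτu : τ (σ v) = v * σ v := by
    have h := hτσ (σ (σ v))
    rw [hσ3] at h
    have h2 : τ (σ v) = σ (σ (τ v)) := by
      rw [hτσ v, hτσ (σ (σ v)), hσ3]
    rw [h2, hv, hσu]
  let W : Subgroup (↥T ⧸ Φ) :=
    { carrier := {1, v, σ v, v * σ v}
      one_mem' := Or.inl rfl
      mul_mem' := by
        have e1 : v * (v * σ v) = σ v := by rw [← mul_assoc, hV2, one_mul]
        have e2 : σ v * (v * σ v) = v := by
          rw [hVc v (σ v), ← mul_assoc, hV2, one_mul]
        rintro p q hp hq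
        simp only [Set.mem_insert_iff, Set.mem_singleton_iff] at hp hq ⊢
        rcases hp with h | h | h | h <;> rcases hq with h' | h' | h' | h' <;> rw [h, h'] <;>
          simp [hV2, e1, e2, hVc (v * σ v) v, hVc (v * σ v) (σ v), hVc (σ v) v]
      inv_mem' := fun {p} hp => by rwa [inv_eq_of_mul_eq_one_left (hV2 p)] }
  have hWmem : ∀ p, p ∈ W ↔ p = 1 ∨ p = v ∨ p = σ v ∨ p = v * σ v := fun p => Iff.rfl
  have hWS : ∀ p ∈ W, p ∈ S := by
    have hσvS : σ v ∈ S := by
      show σ v * σ (σ v) * σ (σ (σ v)) = 1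
      rw [hσ3, hVc _ v, ← mul_assoc]
      exact hvS
    intro p hp
    rcases (hWmem p).1 hp with h | h | h | h <;> rw [h]
    · show (1 : ↥T ⧸ Φ) * σ 1 * σ (σ 1) = 1
      simp
    · exact hvS
    · exact hσvS
    · exact hSmul _ hvS _ hσvS
  have hWσ : ∀ p ∈ W, σ p ∈ W := by
    intro p hp
    rcases (hWmem p).1 hp with h | h | h | h <;> rw [h, hWmem]
    · exact Or.inl (map_one σ)
    · exact Or.inr (Or.inr (Or.inl rfl))
    · exact Or.inr (Or.inr (Or.inr hσu))
    · refine Or.inr (Or.inl ?_)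
      rw [map_mul, hσu, hVc v, ← mul_assoc, hV2, one_mul]
  have hWτ : ∀ p ∈ W, τ p ∈ W := by
    intro p hp
    rcases (hWmem p).1 hp with h | h | h | h <;> rw [h, hWmem]
    · exact Or.inl (map_one τ)
    · exact Or.inr (Or.inl hv)
    · exact Or.inr (Or.inr (Or.inr hτu))
    · refine Or.inr (Or.inr (Or.inl ?_))
      rw [map_mul, hτu, hv, ← mul_assoc, hV2, one_mul]
  have hWcard : Nat.card W = 4 := by
    have h : Nat.card ({1, v, σ v, v * σ v} : Set (↥T ⧸ Φ)) = 4 := by
      rw [Nat.card_coe_set_eq]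
      rw [Set.ncard_insert_of_notMem, Set.ncard_insert_of_notMem, Set.ncard_pair]
      · exact fun h => hv1 (mul_eq_right.1 h.symm)
      · simp only [Set.mem_insert_iff, Set.mem_singleton_iff]
        exact fun h => h.elim (fun h => hu h.symm) (fun h => hu (by
          have h' : σ v = 1 := (mul_eq_left.1 h.symm)
          have h'' := hσ3 v
          rw [h', map_one, map_one] at h''
          exact absurd h''.symm hv1))
      · simp only [Set.mem_insert_iff, Set.mem_singleton_iff]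
        rintro (h | h | h)
        · exact hv1 h.symm
        · have h'' := hσ3 v
          rw [← h, map_one, map_one] at h''
          exact hv1 h''.symm
        · exact hu (mul_left_cancel (h.symm.trans (hV2 v).symm))
    exact h
  let WT : Subgroup ↥T := W.comap π
  let W₁ : Subgroup G := WT.map T.subtype
  have hW₁T : W₁ ≤ T := Subgroup.map_subtype_le _
  have hΦW : ΦG ≤ W₁ := Subgroup.map_mono fun t ht => by
    show π t ∈ W
    rw [show π t = 1 from (QuotientGroup.eq_one_iff t).2 ht]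
    exact one_mem W
  have hW₁N : ∀ g ∈ N, ∀ φ : (↥T ⧸ Φ) →* (↥T ⧸ Φ), (∀ (t : G) (ht : t ∈ T) (h : g * t * g⁻¹ ∈ T),
      φ (π ⟨t, ht⟩) = π ⟨g * t * g⁻¹, h⟩) → (∀ p ∈ W, φ p ∈ W) →
      g ∈ Subgroup.normalizer (W₁ : Set G) := by
    intro g hg φ hφ hW
    refine Subgroup.mem_normalizer_iff_map_conj_eq.2 (Subgroup.eq_of_le_of_card_ge ?_
      (Subgroup.card_map_of_injective (MulAut.conj g).injective).ge)
    rintro _ ⟨_, ⟨⟨t, ht⟩, hw, rfl⟩, rfl⟩
    have h := (Subgroup.mem_normalizer_iff.1 hg t).1 ht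
    refine ⟨⟨g * t * g⁻¹, h⟩, ?_, rfl⟩
    show π _ ∈ W
    rw [← hφ t ht h]
    exact hW _ hw
  have hyW := hW₁N y hyN σ (fun t ht _ => hσ t ht) hWσ
  have hxW := hW₁N x hxN τ (fun t ht _ => hτ t ht) hWτ
  let D : Subgroup G := Subgroup.zpowers y ⊔ Subgroup.zpowers x
  have hxD : x ∈ D := Subgroup.mem_sup_right (Subgroup.mem_zpowers x)
  have hyD : y ∈ D := Subgroup.mem_sup_left (Subgroup.mem_zpowers y)
  have hDN : D ≤ N := sup_le (Subgroup.zpowers_le.2 hyN) (Subgroup.zpowers_le.2 hxN)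
  have hDW : D ≤ Subgroup.normalizer (W₁ : Set G) :=
    sup_le (Subgroup.zpowers_le.2 hyW) (Subgroup.zpowers_le.2 hxW)
  have hxyn : x ∈ Subgroup.normalizer (Subgroup.zpowers y : Set G) := by
    refine Subgroup.mem_normalizer_iff_map_conj_eq.2 ?_
    refine (MonoidHom.map_zpowers (MulAut.conj x).toMonoidHom y).trans ?_
    show Subgroup.zpowers (x * y * x⁻¹) = Subgroup.zpowers y
    rw [hxy, Subgroup.zpowers_inv]
  -- an element of `D` in `W₁` lies in `Φ`
  have hDint : ∀ d ∈ D, d ∈ W₁ → d ∈ ΦG := by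
    intro d hd hdW
    obtain ⟨i, hi, j, hj, rfl⟩ : ∃ i ∈ Subgroup.zpowers y, ∃ j ∈ Subgroup.zpowers x, i * j = d := by
      rw [← SetLike.mem_coe, Subgroup.coe_mul_of_right_le_normalizer_left _ _
        (Subgroup.zpowers_le.2 hxyn)] at hd
      exact hd
    have h2 : IsPGroup 2 ↥(T ⊔ Subgroup.zpowers x : Subgroup G) :=
      hT.to_sup_of_normal_left' (IsPGroup.of_card_dvd_pow (n := a) (by
        rw [Nat.card_zpowers]; exact orderOf_dvd_of_pow_eq_one hx)) (Subgroup.zpowers_le.2 hxN)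
    have hiT : i ∈ T ⊔ Subgroup.zpowers x := by
      have h := mul_mem (Subgroup.mem_sup_left (T := Subgroup.zpowers x) (hW₁T hdW))
        (inv_mem (Subgroup.mem_sup_right (S := T) hj))
      rwa [mul_inv_cancel_right] at h
    have hi1 : i = 1 := by
      obtain ⟨k, hk⟩ := h2 ⟨i, hiT⟩
      refine eq_one_of_two_three (a := k) (b := b)
        (orderOf_dvd_of_pow_eq_one (congrArg Subtype.val hk)) ?_
      obtain ⟨l, rfl⟩ := Subgroup.mem_zpowers_iff.1 hi
      exact orderOf_dvd_of_pow_eq_one (by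
        rw [← zpow_natCast, ← zpow_mul, mul_comm, zpow_mul, zpow_natCast, hy, one_zpow])
    subst hi1
    rw [one_mul] at hdW ⊢
    obtain ⟨l, rfl⟩ := Subgroup.mem_zpowers_iff.1 hj
    have hl : Commute (x ^ l) y := by
      have hx2 : Commute (x ^ 2) y := by
        show x ^ 2 * y = y * x ^ 2
        have h : x * y⁻¹ * x⁻¹ = y := by rw [← conj_inv, hxy, inv_inv]
        calc x ^ 2 * y = x * (x * y * x⁻¹) * x := by rw [pow_two]; group
          _ = (x * y⁻¹ * x⁻¹) * x * x := by rw [hxy]; group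
          _ = y * x ^ 2 := by rw [h, pow_two]; group
      rcases Int.even_or_odd l with ⟨m, hm⟩ | ⟨m, hm⟩
      · rw [hm, ← two_mul, zpow_mul, zpow_ofNat]
        exact hx2.zpow_left m
      · exfalso
        -- then `y ^ 2 ∈ T`
        have hinv : x ^ l * y * (x ^ l)⁻¹ = y⁻¹ := by
          rw [hm, zpow_add, zpow_mul, zpow_ofNat, zpow_one]
          calc (x ^ 2) ^ m * x * y * ((x ^ 2) ^ m * x)⁻¹
              = (x ^ 2) ^ m * (x * y * x⁻¹) * ((x ^ 2) ^ m)⁻¹ := by group
            _ = y⁻¹ := by rw [hxy, (hx2.inv_right.zpow_left m).eq, mul_inv_cancel_right]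
        have h : y * x ^ l * y⁻¹ * (x ^ l)⁻¹ ∈ T :=
          mul_mem ((Subgroup.mem_normalizer_iff.1 hyN _).1 (hW₁T hdW)) (inv_mem (hW₁T hdW))
        rw [show y * x ^ l * y⁻¹ * (x ^ l)⁻¹ = y * (x ^ l * y * (x ^ l)⁻¹)⁻¹ by group, hinv,
          inv_inv] at h
        obtain ⟨k, hk⟩ := hT ⟨y * y, h⟩
        have h1 : y * y = 1 := eq_one_of_two_three (a := k) (b := b)
          (orderOf_dvd_of_pow_eq_one (congrArg Subtype.val hk))
          (orderOf_dvd_of_pow_eq_one (by rw [(Commute.refl y).mul_pow, hy, one_mul]))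
        refine hyT ?_
        rw [eq_one_of_two_three (a := 1) (b := b)
          (orderOf_dvd_of_pow_eq_one (by rw [pow_one, pow_two]; exact h1))
          (orderOf_dvd_of_pow_eq_one hy)]
        exact one_mem _
    obtain ⟨⟨t, ht⟩, hw, e⟩ := hdW
    have e' : t = x ^ l := e
    subst e'
    refine ⟨⟨_, ht⟩, (QuotientGroup.eq_one_iff _).1 (hfix1 _ (hWS _ hw) ?_), rfl⟩
    refine (hσ _ ht).trans (congrArg π (Subtype.ext ?_))
    show y * x ^ l * y⁻¹ = x ^ l
    rw [← hl.eq, mul_inv_cancel_right]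
  let H : Subgroup G := ΦG ⊔ D
  have hDΦ : D ≤ Subgroup.normalizer (ΦG : Set G) := hDN.trans hNΦ
  have hHW : H ≤ Subgroup.normalizer (W₁ : Set G) :=
    sup_le (hΦW.trans Subgroup.le_normalizer) hDW
  have hHint : H ⊓ W₁ = ΦG := by
    refine le_antisymm ?_ (le_inf le_sup_left hΦW)
    rintro z ⟨hz, hzW⟩
    have hz' : z ∈ ΦG ⊔ D := hz
    rw [← SetLike.mem_coe, Subgroup.coe_mul_of_right_le_normalizer_left _ _ hDΦ] at hz'
    obtain ⟨φ, hφ, d, hd, rfl⟩ := hz'
    refine mul_mem hφ (hDint d hd ?_)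
    have h := mul_mem (inv_mem (hΦW hφ)) hzW
    rwa [inv_mul_cancel_left] at h
  let K : Subgroup G := H ⊔ W₁
  let H' := H.subgroupOf K
  have hindex : H'.index = 4 := by
    have h1 := CfsgLib.EABasic.card_sup_mul_card_inf_of_le_normalizer hHW
    rw [hHint] at h1
    have h2 : Nat.card W₁ = 4 * Nat.card ΦG := by
      show Nat.card (WT.map T.subtype) = 4 * Nat.card (Φ.map T.subtype)
      rw [Subgroup.card_map_of_injective T.subtype_injective,
        Subgroup.card_map_of_injective T.subtype_injective]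
      have h := Subgroup.card_eq_card_quotient_mul_card_subgroup (Φ.subgroupOf WT)
      have hle : Φ ≤ WT := fun t ht => by
        show π t ∈ W
        rw [show π t = 1 from (QuotientGroup.eq_one_iff t).2 ht]
        exact one_mem W
      rw [Nat.card_congr (Subgroup.subgroupOfEquivOfLe hle).toEquiv] at h
      rw [h]
      congr 1
      let f : ↥WT →* ↥W := (π.comp WT.subtype).codRestrict W fun t => t.2
      have hf : Function.Surjective f := by
        rintro ⟨q, hq⟩
        obtain ⟨t, rfl⟩ := QuotientGroup.mk'_surjective Φ q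
        exact ⟨⟨t, hq⟩, rfl⟩
      have hk : f.ker = Φ.subgroupOf WT := by
        ext t
        rw [MonoidHom.mem_ker, Subgroup.mem_subgroupOf, ← QuotientGroup.eq_one_iff (N := Φ)]
        exact ⟨fun h => congrArg Subtype.val h, fun h => Subtype.ext h⟩
      rw [← hk, Nat.card_congr (QuotientGroup.quotientKerEquivOfSurjective f hf).toEquiv, hWcard]
    have h3 := H'.card_mul_index
    rw [Nat.card_congr (Subgroup.subgroupOfEquivOfLe (le_sup_left : H ≤ K)).toEquiv] at h3
    rw [h2, ← h3] at h1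
    refine Nat.eq_of_mul_eq_mul_left (show 0 < Nat.card H * Nat.card ΦG from
      Nat.mul_pos Nat.card_pos Nat.card_pos) ?_
    calc Nat.card H * Nat.card ΦG * H'.index = Nat.card H * H'.index * Nat.card ΦG := by ring
      _ = Nat.card H * (4 * Nat.card ΦG) := h1
      _ = _ := by ring
  let f := MulAction.toPermHom ↥K (↥K ⧸ H')
  have hker : f.ker = H'.normalCore := (Subgroup.normalCore_eq_ker H').symm
  let X : ↥K := ⟨x, Subgroup.mem_sup_left (Subgroup.mem_sup_right hxD)⟩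
  let Y : ↥K := ⟨y, Subgroup.mem_sup_left (Subgroup.mem_sup_right hyD)⟩
  have hXH : X ∈ H' := Subgroup.mem_sup_right hxD
  have hYH : Y ∈ H' := Subgroup.mem_sup_right hyD
  have hfY : f Y ≠ 1 := by
    intro h
    have hc : Y ∈ H'.normalCore := hker ▸ h
    obtain ⟨⟨w, hw⟩, hπw⟩ := QuotientGroup.mk'_surjective Φ v
    have hwW : w ∈ W₁ := ⟨⟨w, hw⟩, by show π _ ∈ W; rw [hπw]; exact Or.inr (Or.inl rfl), rfl⟩
    have h1 : w⁻¹ * y * w ∈ H := by
      have := hc (⟨w, Subgroup.mem_sup_right hwW⟩ : ↥K)⁻¹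
      rw [inv_inv] at this
      exact this
    have h2 : y * w * y⁻¹ * w⁻¹ ∈ ΦG := by
      have hmH : w⁻¹ * (y * w * y⁻¹) ∈ H := by
        have := mul_mem h1 (inv_mem (show y ∈ H from Subgroup.mem_sup_right hyD))
        convert this using 1
        group
      have hmW : w⁻¹ * (y * w * y⁻¹) ∈ W₁ :=
        mul_mem (inv_mem hwW) ((Subgroup.mem_normalizer_iff.1 hyW w).1 hwW)
      have h3 := hNΦ (Subgroup.le_normalizer hw)
      have h4 : w⁻¹ * (y * w * y⁻¹) ∈ ΦG := hHint ▸ ⟨hmH, hmW⟩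
      have h5 := (Subgroup.mem_normalizer_iff.1 h3 _).1 h4
      convert h5 using 1
      group
    obtain ⟨t', ht', e⟩ := h2
    refine hu ?_
    rw [← hπw, hσ w hw, ← mul_inv_eq_one, ← map_inv, ← map_mul]
    refine (QuotientGroup.eq_one_iff _).2 ?_
    rwa [show (⟨y * w * y⁻¹, _⟩ * ⟨w, hw⟩⁻¹ : ↥T) = t' from Subtype.ext e.symm]
  have hYo : orderOf (f Y) ∣ 3 ^ b := orderOf_dvd_of_pow_eq_one (by
    rw [← map_pow, show Y ^ 3 ^ b = 1 from Subtype.ext hy, map_one])
  have hXo : orderOf (f X) ∣ 2 ^ a := orderOf_dvd_of_pow_eq_one (by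
    rw [← map_pow, show X ^ 2 ^ a = 1 from Subtype.ext hx, map_one])
  have hfX : f X ≠ 1 := by
    intro h
    have h1 : f (X * Y * X⁻¹) = f Y⁻¹ := congrArg f (Subtype.ext hxy)
    rw [map_mul, map_mul, h, one_mul, map_inv, h, inv_one, mul_one, map_inv] at h1
    exact hfY (eq_one_of_two_three (a := 1) (orderOf_dvd_of_pow_eq_one (by
      rw [pow_one, pow_two]; exact mul_eq_one_iff_eq_inv.2 h1)) hYo)
  have hM : 6 ∣ Nat.card (H'.map f) := by
    refine (Nat.Coprime.mul_dvd_of_dvd_of_dvd (by norm_num : Nat.Coprime 2 3) ?_ ?_ : 2 * 3 ∣ _)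
    · obtain ⟨k, -, hk⟩ := (Nat.dvd_prime_pow Nat.prime_two).1 hXo
      refine dvd_trans ?_ (Subgroup.orderOf_dvd_natCard _ (Subgroup.mem_map_of_mem f hXH))
      rw [hk]
      exact dvd_pow_self 2 fun h0 => hfX (orderOf_eq_one_iff.1 (by rw [hk, h0, pow_zero]))
    · obtain ⟨k, -, hk⟩ := (Nat.dvd_prime_pow Nat.prime_three).1 hYo
      refine dvd_trans ?_ (Subgroup.orderOf_dvd_natCard _ (Subgroup.mem_map_of_mem f hYH))
      rw [hk]
      exact dvd_pow_self 3 fun h0 => hfY (orderOf_eq_one_iff.1 (by rw [hk, h0, pow_zero]))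
  have hperm : Nat.card (Equiv.Perm (↥K ⧸ H')) = 24 := by
    rw [Nat.card_perm, ← Subgroup.index_eq_card, hindex]
    rfl
  have htop : f.range = ⊤ := by
    refine Subgroup.eq_top_of_le_card _ ?_
    rw [hperm]
    have h1 := Subgroup.relIndex_mul_index (show f.ker ≤ H' from hker.le.trans H'.normalCore_le)
    rw [Subgroup.relIndex_ker, hindex, Subgroup.index_ker] at h1
    rw [← h1]
    exact Nat.mul_le_mul_right 4 (Nat.le_of_dvd Nat.card_pos hM)
  haveI := Fintype.ofFinite (↥K ⧸ H')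
  let e : (↥K ⧸ H') ≃ Fin 4 := Fintype.equivFinOfCardEq (by
    rw [← Nat.card_eq_fintype_card, ← Subgroup.index_eq_card, hindex])
  exact involves_of_surjective K ((e.permCongrHom.toMonoidHom).comp f)
    (e.permCongrHom.surjective.comp (MonoidHom.range_eq_top.1 htop))

/-- For a finite group G, the symmetric group of degree 4 is involved in G if and only if there is a 2-subgroup T of G such that the symmetric group of degree 3 is involved in N(T)/C(T). -/
theorem result {G : Type*} [Group G] [Finite G] : Cfsg.Involves (Equiv.Perm (Fin 4)) G ↔ ∃ T : Subgroup G, IsPGroup 2 ↥T ∧ Cfsg.Involves (Equiv.Perm (Fin 3)) (↥(Subgroup.normalizer (T : Set G)) ⧸ (Subgroup.centralizer (T : Set G)).subgroupOf (Subgroup.normalizer (T : Set G))) := by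
  classical
  haveI : Fact (Nat.Prime 2) := ⟨Nat.prime_two⟩
  haveI : Fact (Nat.Prime 3) := ⟨Nat.prime_three⟩
  obtain ⟨eSL⟩ := exists_sl2_equiv
  obtain ⟨eQd⟩ := Cfsg.Agent.S2761.result
  constructor
  · rintro ⟨K, R, hR, ⟨e⟩⟩
    haveI := hR
    let f : ↥K →* ↥(Cfsg.qdOver (ZMod 2)) :=
      (eQd.symm.toMonoidHom).comp (e.toMonoidHom.comp (QuotientGroup.mk' (R.subgroupOf K)))
    have hf : Function.Surjective f :=
      eQd.symm.surjective.comp (e.surjective.comp (QuotientGroup.mk'_surjective _))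
    let Vt := (CfsgLib.LS.QdF.lin (F := ZMod 2)).ker
    let C1 : Subgroup ↥K := Vt.comap f
    haveI : C1.Normal := (inferInstance : Vt.Normal).comap f
    obtain ⟨P⟩ : Nonempty (Sylow 2 ↥C1) := inferInstance
    let fC : ↥C1 →* ↥Vt := (f.comp C1.subtype).codRestrict Vt fun c => c.2
    have hfC : Function.Surjective fC := by
      rintro ⟨w, hw⟩
      obtain ⟨k, rfl⟩ := hf w
      exact ⟨⟨k, hw⟩, rfl⟩
    have hPtop : ((P.mapSurjective hfC : Sylow 2 ↥Vt) : Subgroup ↥Vt) = ⊤ :=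
      ((P.mapSurjective hfC).3
        ((CfsgLib.LS.QdF.transl_isPGroup (F := ZMod 2) (p := 2)).to_subgroup _) le_top).symm
    rw [Sylow.coe_mapSurjective] at hPtop
    let P1 : Subgroup ↥K := (P : Subgroup ↥C1).map C1.subtype
    have hP1 : ∀ w ∈ Vt, ∃ z ∈ P1, f z = w := by
      intro w hw
      obtain ⟨c, hc, he⟩ : (⟨w, hw⟩ : ↥Vt) ∈ (P : Subgroup ↥C1).map fC := by
        rw [hPtop]; trivial
      exact ⟨c, Subgroup.mem_map_of_mem _ hc, congrArg Subtype.val he⟩
    let NK : Subgroup ↥K := Subgroup.normalizer (P1 : Set ↥K)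
    let T : Subgroup G := P1.map K.subtype
    refine ⟨T, (P.2.map _).map _, ?_⟩
    let j : ↥NK →* ↥(Subgroup.normalizer (T : Set G)) :=
      ((K.subtype.comp NK.subtype)).codRestrict _ fun z =>
        Subgroup.le_normalizer_map K.subtype (Subgroup.mem_map_of_mem _ z.2)
    let g : ↥NK →* Equiv.Perm (Fin 3) :=
      (eSL.toMonoidHom.comp (CfsgLib.LS.QdF.lin (F := ZMod 2))).comp (f.comp NK.subtype)
    have hg : Function.Surjective g := by
      intro s
      obtain ⟨A, rfl⟩ := eSL.surjective s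
      obtain ⟨q, rfl⟩ := CfsgLib.LS.QdF.lin_surjective A
      obtain ⟨k, rfl⟩ := hf q
      have hk : k ∈ NK ⊔ C1 := by
        rw [Sylow.normalizer_sup_eq_top P]; trivial
      rw [← SetLike.mem_coe, Subgroup.mul_normal] at hk
      obtain ⟨n, hn, c, hc, rfl⟩ := hk
      refine ⟨⟨n, hn⟩, ?_⟩
      show eSL (CfsgLib.LS.QdF.lin (f n)) = eSL (CfsgLib.LS.QdF.lin (f (n * c)))
      rw [map_mul f n c, map_mul CfsgLib.LS.QdF.lin, MonoidHom.mem_ker.1 (show f c ∈ Vt from hc), mul_one]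
    let k := (QuotientGroup.mk'
      ((Subgroup.centralizer (T : Set G)).subgroupOf (Subgroup.normalizer (T : Set G)))).comp j
    have hker : k.rangeRestrict.ker ≤ g.ker := by
      intro z hz
      rw [MonoidHom.ker_rangeRestrict] at hz
      have hzC : ((z : ↥K) : G) ∈ Subgroup.centralizer (T : Set G) :=
        Subgroup.mem_subgroupOf.1 ((QuotientGroup.eq_one_iff (j z)).1 hz)
      show eSL (CfsgLib.LS.QdF.lin (f z)) = 1
      obtain ⟨A, u, hA⟩ := CfsgLib.LS.QdF.exists_el (f (z : ↥K))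
      suffices hA1 : A = 1 by rw [hA, CfsgLib.LS.QdF.lin_el, hA1, map_one]
      refine Subtype.ext (Matrix.ext_of_mulVec_single fun i => ?_)
      obtain ⟨w, hw, hfw⟩ := hP1 (CfsgLib.LS.QdF.el 1 (Pi.single i 1))
        (CfsgLib.LS.QdF.lin_el _ _)
      have h1 : w * (z : ↥K) = (z : ↥K) * w :=
        Subtype.ext (Subgroup.mem_centralizer_iff.1 hzC _ (Subgroup.mem_map_of_mem K.subtype hw))
      have h2 := congrArg f h1
      rw [map_mul, map_mul, hfw, hA, CfsgLib.LS.QdF.el_mul, CfsgLib.LS.QdF.el_mul] at h2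
      have h3 := (CfsgLib.LS.QdF.el_inj h2).2
      simp only [Matrix.SpecialLinearGroup.coe_one, Matrix.one_mulVec] at h3 ⊢
      rw [add_comm u] at h3
      exact (add_right_cancel h3).symm
    let gbar : ↥k.range →* Equiv.Perm (Fin 3) :=
      k.rangeRestrict.liftOfSurjective k.rangeRestrict_surjective ⟨g, hker⟩
    refine involves_of_surjective k.range gbar fun s => ?_
    obtain ⟨z, rfl⟩ := hg s
    exact ⟨k.rangeRestrict z, MonoidHom.liftOfRightInverse_comp_apply _ _ _ ⟨g, hker⟩ z⟩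
  · rintro ⟨T, hT, K, R, hR, ⟨e⟩⟩
    haveI := hR
    let N := Subgroup.normalizer (T : Set G)
    let q := QuotientGroup.mk' ((Subgroup.centralizer (T : Set G)).subgroupOf N)
    let K0 : Subgroup ↥N := K.comap q
    let g : ↥K0 →* Equiv.Perm (Fin 3) :=
      (e.toMonoidHom.comp (QuotientGroup.mk' (R.subgroupOf K))).comp
        ((q.comp K0.subtype).codRestrict K fun z => z.2)
    have hg : Function.Surjective g := by
      intro s
      obtain ⟨k, rfl⟩ := (e.surjective.comp (QuotientGroup.mk'_surjective _)) s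
      obtain ⟨z, hz⟩ : ∃ z : ↥N, q z = K.subtype k := QuotientGroup.mk'_surjective _ _
      exact ⟨⟨z, show q z ∈ K by rw [hz]; exact k.2⟩,
        congrArg (fun w => e (QuotientGroup.mk' (R.subgroupOf K) w)) (Subtype.ext hz)⟩
    have hgC : ∀ z : ↥K0, ((z : ↥N) : G) ∈ Subgroup.centralizer (T : Set G) → g z = 1 := by
      intro z hz
      have h : (⟨q z, z.2⟩ : ↥K) = 1 := Subtype.ext ((QuotientGroup.eq_one_iff _).2 hz)
      show e (QuotientGroup.mk' (R.subgroupOf K) ⟨q z, z.2⟩) = 1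
      rw [h, map_one, map_one]
    let c : Equiv.Perm (Fin 3) := Equiv.swap 0 1 * Equiv.swap 1 2
    let t : Equiv.Perm (Fin 3) := Equiv.swap 0 1
    have hc3 : orderOf c = 3 := orderOf_eq_prime (by decide) (by decide)
    haveI hcn : (Subgroup.zpowers c).Normal := by
      refine Subgroup.normal_of_index_eq_two ?_
      have h := (Subgroup.zpowers c).card_mul_index
      rw [Nat.card_zpowers, hc3, Nat.card_eq_fintype_card, Fintype.card_perm, Fintype.card_fin] at h
      simp [Nat.factorial] at h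
      omega
    let C1 : Subgroup ↥K0 := (Subgroup.zpowers c).comap g
    haveI : C1.Normal := hcn.comap g
    obtain ⟨P⟩ : Nonempty (Sylow 3 ↥C1) := inferInstance
    let P1 : Subgroup ↥K0 := (P : Subgroup ↥C1).map C1.subtype
    let gC : ↥C1 →* ↥(Subgroup.zpowers c) := (g.comp C1.subtype).codRestrict _ fun z => z.2
    have hgC1 : Function.Surjective gC := by
      rintro ⟨w, hw⟩
      obtain ⟨k, rfl⟩ := hg w
      exact ⟨⟨k, hw⟩, rfl⟩
    have hPtop : ((P.mapSurjective hgC1 : Sylow 3 _) : Subgroup ↥(Subgroup.zpowers c)) = ⊤ :=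
      ((P.mapSurjective hgC1).3 ((IsPGroup.of_card (n := 1) (by
        rw [Nat.card_zpowers, hc3, pow_one])).to_subgroup _) le_top).symm
    rw [Sylow.coe_mapSurjective] at hPtop
    obtain ⟨a₀, ha₀, hga₀⟩ : ∃ z ∈ P1, g z = c := by
      obtain ⟨z, hz, he⟩ : (⟨c, Subgroup.mem_zpowers c⟩ : ↥(Subgroup.zpowers c)) ∈
          (P : Subgroup ↥C1).map gC := by
        rw [hPtop]; trivial
      exact ⟨z, Subgroup.mem_map_of_mem _ hz, congrArg Subtype.val he⟩
    -- a `2`-element normalising `P1` outside `C1`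
    obtain ⟨n, hn, hnc⟩ : ∃ n ∈ Subgroup.normalizer (P1 : Set ↥K0), g n ∉ Subgroup.zpowers c := by
      obtain ⟨k, hk⟩ := hg t
      have hk' : k ∈ Subgroup.normalizer (P1 : Set ↥K0) ⊔ C1 := by
        rw [Sylow.normalizer_sup_eq_top P]; trivial
      rw [← SetLike.mem_coe, Subgroup.mul_normal] at hk'
      obtain ⟨n, hn, w, hw, rfl⟩ := hk'
      refine ⟨n, hn, fun h => ?_⟩
      have ht : t ∈ Subgroup.zpowers c := by
        rw [← hk, map_mul]
        exact mul_mem h hw
      have h2 : Equiv.Perm.sign t = 1 := by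
        obtain ⟨i, hi⟩ := Subgroup.mem_zpowers_iff.1 ht
        rw [← hi, map_zpow, show Equiv.Perm.sign c = 1 by decide, one_zpow]
      exact absurd h2 (by decide)
    obtain ⟨a, m, hm, ho⟩ :=
      Nat.exists_eq_pow_mul_and_not_dvd (orderOf_pos n).ne' 2 (by norm_num)
    have hcases : ∀ s : Equiv.Perm (Fin 3), s = 1 ∨ s = c ∨ s = c * c ∨ s * s = 1 ∧ s * c * s = c * c := by
      decide
    have hs : g n * g n = 1 ∧ g n * c * g n = c * c := by
      rcases hcases (g n) with h | h | h | h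
      · exact absurd (h ▸ one_mem _) hnc
      · exact absurd (h ▸ Subgroup.mem_zpowers c) hnc
      · exact absurd (h ▸ mul_mem (Subgroup.mem_zpowers c) (Subgroup.mem_zpowers c)) hnc
      · exact h
    let x := n ^ m
    have hgx : g x = g n := by
      obtain ⟨l, hl⟩ : Odd m := Nat.not_even_iff_odd.1 fun h => hm h.two_dvd
      show g (n ^ m) = g n
      rw [map_pow, hl, pow_succ, pow_mul, pow_two, hs.1, one_pow, one_mul]
    have hxa : x ^ 2 ^ a = 1 := by
      show (n ^ m) ^ 2 ^ a = 1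
      rw [← pow_mul, mul_comm, ← ho, pow_orderOf_eq_one]
    have hxP : x ∈ Subgroup.normalizer (P1 : Set ↥K0) := pow_mem hn m
    -- a lift of `c` in `P1` centralised by `x ^ 2`
    let Ker : Subgroup ↥K0 := P1 ⊓ g.ker
    have hP1p : IsPGroup 3 ↥P1 := P.2.map _
    have hfix : ∀ b ∈ Subgroup.zpowers (x ^ 2), b * a₀ * b⁻¹ * a₀⁻¹ ∈ Ker := by
      intro b hb
      obtain ⟨i, rfl⟩ := Subgroup.mem_zpowers_iff.1 hb
      refine Subgroup.mem_inf.2 ⟨mul_mem ((Subgroup.mem_normalizer_iff.1 (zpow_mem (pow_mem hxP 2) i) a₀).1 ha₀)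
        (inv_mem ha₀), ?_⟩
      show g _ = 1
      rw [map_mul, map_mul, map_mul, map_inv, map_inv, map_zpow, map_pow, hgx, pow_two, hs.1,
        one_zpow, inv_one, one_mul, mul_one, mul_inv_cancel]
    have hnorm : ∀ z ∈ Subgroup.normalizer (P1 : Set ↥K0),
        z ∈ Subgroup.normalizer (Ker : Set ↥K0) := fun z hz => Subgroup.mem_normalizer_iff.2 fun w =>
      and_congr (Subgroup.mem_normalizer_iff.1 hz w)
        (Subgroup.mem_normalizer_iff.1 (Subgroup.normalizer_eq_top (g.ker) ▸ Subgroup.mem_top z) w)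
    obtain ⟨w, hw, hwc⟩ := CfsgLib.Coprime.exists_fixed_in_coset
      (A := Subgroup.zpowers (x ^ 2)) (N := Ker) (k := a₀)
      (Subgroup.zpowers_le.2 (hnorm _ (pow_mem hxP 2))) (by
        obtain ⟨l, hl⟩ := (hP1p.to_le (inf_le_left : Ker ≤ P1)).exists_card_eq
        rw [hl, Nat.card_zpowers]
        refine (((Nat.coprime_primes Nat.prime_two Nat.prime_three).2 (by norm_num)).pow a l).coprime_dvd_left ?_
        refine orderOf_dvd_of_pow_eq_one ?_
        rw [← pow_mul, mul_comm, pow_mul, hxa, one_pow])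
      (Or.inl (by
        haveI : IsMulCommutative ↥(Subgroup.zpowers (x ^ 2)) := inferInstance
        exact Group.isSolvable_of_comm fun p q => Std.Commutative.comm (op := (· * ·)) p q))
      (hnorm _ (Subgroup.le_normalizer ha₀)) hfix
    let A := a₀ * w
    have hAP : A ∈ P1 := mul_mem ha₀ hw.1
    have hgA : g A = c := by
      show g (a₀ * w) = c
      rw [map_mul, hga₀, show g w = 1 from hw.2, mul_one]
    let y := A⁻¹ * (x * A * x⁻¹)
    have hA2 : x ^ 2 * A = A * x ^ 2 := Subgroup.mem_centralizer_iff.1 hwc _ (Subgroup.mem_zpowers _)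
    have hxy : x * y * x⁻¹ = y⁻¹ := by
      show x * (A⁻¹ * (x * A * x⁻¹)) * x⁻¹ = (A⁻¹ * (x * A * x⁻¹))⁻¹
      calc x * (A⁻¹ * (x * A * x⁻¹)) * x⁻¹
          = (x * A⁻¹ * x⁻¹) * (x ^ 2 * A) * (x ^ 2)⁻¹ := by rw [pow_two]; group
        _ = (x * A⁻¹ * x⁻¹) * (A * x ^ 2) * (x ^ 2)⁻¹ := by rw [hA2]
        _ = (A⁻¹ * (x * A * x⁻¹))⁻¹ := by group
    have hyP : y ∈ P1 :=
      mul_mem (inv_mem hAP) ((Subgroup.mem_normalizer_iff.1 hxP A).1 hAP)
    obtain ⟨b, hb⟩ := hP1p ⟨y, hyP⟩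
    have hyb : y ^ 3 ^ b = 1 := congrArg Subtype.val hb
    have hgy : g y = c := by
      have h1 : (g n)⁻¹ = g n := inv_eq_of_mul_eq_one_left hs.1
      show g (A⁻¹ * (x * A * x⁻¹)) = c
      rw [map_mul, map_mul, map_mul, map_inv, map_inv, hgA, hgx, h1, hs.2, inv_mul_cancel_left]
    -- move to `G`
    let xG : G := ((x : ↥N) : G)
    let yG : G := ((y : ↥N) : G)
    have hyC : yG ∉ Subgroup.centralizer (T : Set G) := fun h => by
      have h1 := hgC y h
      rw [hgy] at h1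
      exact absurd h1 (by decide)
    have hxyG : xG * yG * xG⁻¹ = yG⁻¹ :=
      congrArg (fun z : ↥K0 => ((z : ↥N) : G)) hxy
    have hxG : xG ^ 2 ^ a = 1 := congrArg (fun z : ↥K0 => ((z : ↥N) : G)) hxa
    have hyG : yG ^ 3 ^ b = 1 := congrArg (fun z : ↥K0 => ((z : ↥N) : G)) hyb
    have hex : ∃ i : ℕ, yG ^ 3 ^ i ∈ Subgroup.centralizer (T : Set G) :=
      ⟨b, by rw [hyG]; exact one_mem _⟩
    obtain ⟨i, hi⟩ : ∃ i, Nat.find hex = i + 1 := Nat.exists_eq_succ_of_ne_zero fun h => hyC (by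
      have h' := Nat.find_spec hex
      rwa [h, pow_zero, pow_one] at h')
    refine involves_sfour_of_action hT (x := xG) (y := yG ^ 3 ^ i) (a := a) (b := b)
      (x : ↥N).2 (pow_mem (y : ↥N).2 _) hxG ?_ ?_ (Nat.find_min hex (by omega)) ?_
    · rw [← pow_mul, mul_comm, pow_mul, hyG, one_pow]
    · rw [← conj_pow, hxyG, inv_pow]
    · rw [← pow_mul, ← pow_succ, ← hi]
      exact Nat.find_spec hex

end Cfsg.Agent.S2759
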