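import Cfsg.Statements.S0607
import Cfsg.Agent.Lib.Fusion.OffenderReplacement

set_option autoImplicit false
open Cfsg
open scoped commutatorElement

namespace Cfsg.Agent.S0607

/-- The replacement Theorem for the Thompson subgroup: from A of maximal order among elementary abelian p-subgroups one obtains A₀ = [V, A] C_A([V, A]) of the same kind, quadratic on V and nontrivial on V when A is. -/
theorem result {G : Type*} [Group G] [Finite G] {p : ℕ} [Fact p.Prime] (V : Subgroup G) [V.Normal] (hV : Cfsg.IsElementaryAbelian p V) (A : Subgroup G) (hA : A ∈ Cfsg.maxElementaryAbelianSubgroups p G) : (⁅V, A⁆ ⊔ (A ⊓ Subgroup.centralizer ((⁅V, A⁆ : Subgroup G) : Set G))) ∈ Cfsg.maxElementaryAbelianSubgroups p G ∧ ⁅⁅V, ⁅V, A⁆ ⊔ (A ⊓ Subgroup.centralizer ((⁅V, A⁆ : Subgroup G) : Set G))⁆, ⁅V, A⁆ ⊔ (A ⊓ Subgroup.centralizer ((⁅V, A⁆ : Subgroup G) : Set G))⁆ = ⊥ ∧ (⁅V, A⁆ ≠ ⊥ → ⁅V, ⁅V, A⁆ ⊔ (A ⊓ Subgroup.centralizer ((⁅V, A⁆ : Subgroup G) : Set G))⁆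 ≠ ⊥) := by
  obtain ⟨⟨hAc, hAp⟩, hmax⟩ := hA
  obtain ⟨hVc, hVp⟩ := hV
  have hAV : A ≤ Subgroup.normalizer (V : Set G) := by
    rw [Subgroup.normalizer_eq_top]; exact le_top
  have hcA : ∀ a ∈ A, ∀ b ∈ A, Commute a b := fun a ha b hb =>
    congrArg Subtype.val (isMulCommutative_iff.1 hAc ⟨a, ha⟩ ⟨b, hb⟩)
  have hcV : ∀ a ∈ V, ∀ b ∈ V, Commute a b := fun a ha b hb =>
    congrArg Subtype.val (isMulCommutative_iff.1 hVc ⟨a, ha⟩ ⟨b, hb⟩)
  have hab : ⁅A, A⁆ ≤ Subgroup.centralizer (V : Set G) := by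
    rw [Subgroup.commutator_le]
    intro a ha b hb
    rw [commutatorElement_eq_one_iff_mul_comm.2 (hcA a ha b hb).eq]
    exact one_mem _
  -- joining commuting subgroups of exponent `p` inside `A` and `V`
  have hjoin : ∀ B C : Subgroup G, B ≤ A → C ≤ V → C ≤ Subgroup.centralizer (B : Set G) →
      Cfsg.IsElementaryAbelian p (C ⊔ B) ∧
        Nat.card B * Nat.card C ≤ Nat.card ↥(C ⊔ B) * Nat.card ↥(C ⊓ B) := by
    intro B C hB hC hCB
    refine ⟨?_, mul_comm (Nat.card B) _ ▸ CfsgLib.Fusion.card_mul_le_sup_inf C B⟩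
    have hm : ∀ x ∈ C ⊔ B, ∃ c ∈ C, ∃ b ∈ B, x = c * b := fun x hx => by
      rw [← SetLike.mem_coe, Subgroup.coe_mul_of_right_le_normalizer_left _ _
        ((Subgroup.le_centralizer_iff.1 hCB).trans (Subgroup.centralizer_le_normalizer _))] at hx
      obtain ⟨c, hc, b, hb, rfl⟩ := hx
      exact ⟨c, hc, b, hb, rfl⟩
    have hcb : ∀ c ∈ C, ∀ b ∈ B, Commute c b := fun c hc b hb =>
      (Subgroup.mem_centralizer_iff.1 (hCB hc) b hb).symm
    refine ⟨isMulCommutative_iff.2 fun x y => Subtype.ext ?_, fun x hx => ?_⟩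
    · obtain ⟨c, hc, b, hb, hx⟩ := hm x x.2
      obtain ⟨c', hc', b', hb', hy⟩ := hm y y.2
      show (x : G) * y = y * x
      rw [hx, hy]
      exact (((hcV c (hC hc) c' (hC hc')).mul_right (hcb c hc b' hb')).mul_left
        ((hcb c' hc' b hb).symm.mul_right (hcA b (hB hb) b' (hB hb')))).eq
    · obtain ⟨c, hc, b, hb, rfl⟩ := hm x hx
      rw [(hcb c hc b hb).mul_pow, hVp c (hC hc), hAp b (hB hb), one_mul]
  set Z := V ⊓ Subgroup.centralizer (A : Set G) with hZ
  have hZA : Z ≤ A := by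
    obtain ⟨hE, -⟩ := hjoin A Z le_rfl inf_le_left inf_le_right
    exact le_sup_left.trans (Subgroup.eq_of_le_of_card_ge le_sup_right (hmax _ hE)).ge
  have hVA : V ⊓ A ≤ Z := fun x hx => ⟨hx.1, Subgroup.mem_centralizer_iff.2 fun a ha => (hcA a ha x hx.2).eq⟩
  have hoff : ∀ B : Subgroup G, B ≤ A →
      CfsgLib.Fusion.offVal V B ≤ CfsgLib.Fusion.offVal V A := by
    intro B hB
    obtain ⟨hE, hcard⟩ := hjoin B (V ⊓ Subgroup.centralizer (B : Set G)) hB inf_le_left inf_le_right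
    refine hcard.trans (Nat.mul_le_mul (hmax _ hE) (Subgroup.card_le_of_le ?_))
    exact fun x hx => hVA ⟨hx.1.1, hB hx.2⟩
  obtain ⟨he, hc⟩ := CfsgLib.Fusion.replacement_eq hVc hAV hab hoff V le_rfl
  set W := ⁅V, A⁆ with hW
  have hWV : W ≤ V := Subgroup.le_normalizer_iff_commutator_le_left.1 hAV
  set B := A ⊓ Subgroup.centralizer (W : Set G) with hB
  have hZB : Z ≤ B := fun z hz => ⟨hZA hz, Subgroup.mem_centralizer_iff.2 fun w hw =>
    (hcV w (hWV hw) z hz.1).eq⟩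
  have hWB : W ≤ Subgroup.centralizer (B : Set G) := Subgroup.le_centralizer_iff.1 inf_le_right
  obtain ⟨hE, -⟩ := hjoin B W inf_le_left hWV hWB
  have hsup : W ⊔ B = (W ⊔ Z) ⊔ B := by rw [sup_assoc, sup_eq_right.2 hZB]
  refine ⟨⟨hE, fun B' hB' => (hmax B' hB').trans ?_⟩, ?_, fun hne h => ?_⟩
  · obtain ⟨-, hcard⟩ := hjoin B (W ⊔ Z) inf_le_left (sup_le hWV inf_le_left) (by
      rw [← hc]; exact inf_le_right)
    rw [← hsup] at hcard
    have h2 : Nat.card B * Nat.card ↥(W ⊔ Z) = Nat.card A * Nat.card Z := by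
      have h3 := he
      rw [CfsgLib.Fusion.offVal, hc, CfsgLib.Fusion.offVal] at h3
      exact h3
    rw [h2] at hcard
    have h4 : Nat.card ↥((W ⊔ Z) ⊓ B) ≤ Nat.card Z := Subgroup.card_le_of_le fun x hx =>
      hVA ⟨sup_le hWV inf_le_left hx.1, hx.2.1⟩
    exact Nat.le_of_mul_le_mul_right (hcard.trans (Nat.mul_le_mul_left _ h4)) Nat.card_pos
  · have h1 : ⁅V, W ⊔ B⁆ ≤ W := by
      rw [Subgroup.commutator_le]
      intro v hv x hx
      rw [← SetLike.mem_coe, Subgroup.coe_mul_of_right_le_normalizer_left _ _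
        ((Subgroup.le_centralizer_iff.1 hWB).trans (Subgroup.centralizer_le_normalizer _))] at hx
      obtain ⟨w, hw, b, hb, rfl⟩ := hx
      have e : ⁅v, w * b⁆ = ⁅v, w⁆ * (w * ⁅v, b⁆ * w⁻¹) := by
        simp only [commutatorElement_def]; group
      have hvb : ⁅v, b⁆ ∈ W := Subgroup.commutator_mem_commutator hv hb.1
      rw [e, commutatorElement_eq_one_iff_mul_comm.2 (hcV v hv w (hWV hw)).eq, one_mul,
        (hcV w (hWV hw) _ (hWV hvb)).eq, mul_inv_cancel_right]
      exact hvb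
    rw [Subgroup.commutator_eq_bot_iff_le_centralizer]
    refine h1.trans (Subgroup.le_centralizer_iff.1 (sup_le ?_ inf_le_right))
    exact fun w hw => Subgroup.mem_centralizer_iff.2 fun w' hw' => (hcV w' (hWV hw') w (hWV hw)).eq
  · refine hne (CfsgLib.Fusion.commutator_eq_bot_of_absorbed (p := p)
      (fun v => ⟨1, Subtype.ext (by rw [pow_one]; exact hVp v v.2)⟩) hVc hAV hab
      (fun a ha => by rw [hAp a ha]; exact one_mem _) hWV ?_ ?_)
    · intro a ha
      refine Subgroup.mem_normalizer_fintype fun n hn => ?_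
      have hn' : n ∈ W := hn
      have h2 : ⁅n, a⁆ ∈ W := Subgroup.commutator_mem_commutator (hWV hn') ha
      show a * n * a⁻¹ ∈ W
      rw [show a * n * a⁻¹ = ⁅n, a⁆⁻¹ * n by simp only [commutatorElement_def]; group]
      exact mul_mem (inv_mem h2) hn'
    · have hVB : V ≤ W ⊔ Z := by
        rw [Subgroup.commutator_eq_bot_iff_le_centralizer] at h
        rw [← hc]
        exact le_inf le_rfl (h.trans (Subgroup.centralizer_le (le_sup_right : B ≤ W ⊔ B)))
      rw [hW, Subgroup.commutator_le]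
      intro v hv a ha
      have hn : W ≤ Subgroup.normalizer (Z : Set G) := fun x hx =>
        Subgroup.mem_normalizer_fintype fun n hn => by
          show x * n * x⁻¹ ∈ Z
          rw [(hcV x (hWV hx) n hn.1).eq, mul_inv_cancel_right]
          exact hn
      have hv' := hVB hv
      rw [← SetLike.mem_coe, Subgroup.coe_mul_of_left_le_normalizer_right _ _ hn] at hv'
      obtain ⟨w, hw, z, hz, rfl⟩ := hv'
      have e : ⁅w * z, a⁆ = ⁅w, a⁆ := by
        simp only [commutatorElement_def]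
        calc w * z * a * (w * z)⁻¹ * a⁻¹ = w * (z * a) * z⁻¹ * w⁻¹ * a⁻¹ := by group
          _ = w * a * w⁻¹ * a⁻¹ := by rw [← Subgroup.mem_centralizer_iff.1 hz.2 a ha]; group
      rw [e]
      exact Subgroup.commutator_mem_commutator hw ha

end Cfsg.Agent.S0607
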