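import Cfsg.Statements.S5148
import Cfsg.Agent.Lib.Fusion.System.AbelianSimple
import Cfsg.Agent.Lib.Fusion.System.FactorExist
import Cfsg.Agent.Lib.Fusion.System.Hyperfocal

set_option autoImplicit false
open Cfsg

namespace Cfsg.Agent.S5148

/-- A quasisimple fusion system over a finite p-group S (saturated, equal to its p-residual subsystem, with simple — in particular nontrivial — factor system modulo its centre) has S nonabelian. -/
theorem result {Ω : Type*} [Group Ω] {S : Subgroup Ω} [Finite S] (p : ℕ) [Fact p.Prime] (hS : IsPGroup p S) (F : Cfsg.FusionSystem S) (hq : F.Quasisimple p) : ¬ IsMulCommutative S := by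
  classical
  intro hab
  have hc : ∀ x ∈ S, ∀ y ∈ S, x * y = y * x := fun x hx y hy =>
    congrArg Subtype.val (mul_comm' (⟨x, hx⟩ : S) ⟨y, hy⟩)
  obtain ⟨hsat, hhyp, hquot⟩ := hq
  have hfocS : F.focalSubgroup = S :=
    le_antisymm CfsgLib.Fusion.focal_le_S (by
      conv_lhs => rw [← hhyp]
      exact CfsgLib.Fusion.hyperfocal_le_focal)
  have hZ : F.center = ⊥ := by
    have h := CfsgLib.Fusion.center_inf_focal_eq_bot hS hsat hc
    rwa [hfocS, inf_eq_left.2 CfsgLib.Fusion.center_le_S] at h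
  set θ := QuotientGroup.mk' ((F.center).subgroupOf S) with hθ
  have hker : ∀ s : S, θ s = 1 ↔ (s : Ω) ∈ F.center := fun s => by
    rw [hθ, QuotientGroup.mk'_apply, QuotientGroup.eq_one_iff, Subgroup.mem_subgroupOf]
  have hsc : F.StronglyClosed F.center := CfsgLib.Fusion.stronglyClosed_iff.2 ⟨CfsgLib.Fusion.center_le_S, fun R f hR hf x hx => by
    have hx1 := hR hx
    rw [hZ, Subgroup.mem_bot] at hx1 ⊢
    obtain ⟨φ, -, he⟩ := hf
    subst hx1
    exact (he ⟨1, hx⟩).symm.trans (map_one φ)⟩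
  obtain ⟨E, hE⟩ := CfsgLib.Fusion.exists_isFactorSystem hsc θ hker
    (MonoidHom.range_eq_top.2 (QuotientGroup.mk'_surjective _))
  have hsimp := hquot E hE
  have hTp : IsPGroup p (⊤ : Subgroup (↥S ⧸ (F.center).subgroupOf S)) :=
    (hS.to_quotient _).to_subgroup _
  haveI : Finite (⊤ : Subgroup (↥S ⧸ (F.center).subgroupOf S)) := Subtype.finite
  obtain ⟨hcard, hinner⟩ := CfsgLib.Fusion.simple_abelian hTp hsimp.1 (fun x _ y _ => by
    obtain ⟨a, rfl⟩ := QuotientGroup.mk'_surjective _ x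
    obtain ⟨b, rfl⟩ := QuotientGroup.mk'_surjective _ y
    rw [← map_mul, ← map_mul, mul_comm' a b]) hsimp
  have haut : ∀ α ∈ F.autGroup S, ∀ x : S, (α : MulAut S) x = x := by
    intro α hα x
    have hm := (CfsgLib.Fusion.mem_autGroup_iff le_rfl).1 hα
    obtain ⟨φ, hφ, he⟩ := hm
    obtain ⟨-, hkerE, -, hhom⟩ := hE
    have hpre : Cfsg.FusionSystem.preimageAlong θ ⊤ = S := by
      rw [Cfsg.FusionSystem.preimageAlong, Subgroup.comap_top, ← MonoidHom.range_eq_map, Subgroup.range_subtype]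
    let ψ : (⊤ : Subgroup (↥S ⧸ (F.center).subgroupOf S)) →* ↥S ⧸ (F.center).subgroupOf S :=
      ((QuotientGroup.lift _ (θ.comp (α : MulAut S).toMonoidHom) (fun z hz => by
        rw [MonoidHom.mem_ker, MonoidHom.comp_apply]
        rw [Subgroup.mem_subgroupOf, hZ, Subgroup.mem_bot, OneMemClass.coe_eq_one] at hz
        rw [hz, map_one, map_one]))).comp (⊤ : Subgroup _).subtype
    have hψ : ψ ∈ E.Hom ⊤ := by
      rw [hhom]
      refine ⟨le_rfl, φ.comp (Subgroup.inclusion hpre.le), ?_, hpre.le, fun z => ?_,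
        fun _ => Subgroup.mem_top _, fun z => ?_⟩
      · have h1 := CfsgLib.Fusion.isMap_toFun hφ
        exact CfsgLib.Fusion.mem_hom_of_isMap (h1.mono hpre.le) fun z => by
          rw [CfsgLib.Fusion.toFun_apply φ (hpre.le z.2)]; rfl
      · show φ ⟨z, hpre.le z.2⟩ ∈ S
        rw [he ⟨z, hpre.le z.2⟩, CfsgLib.Fusion.autFun_apply _ (hpre.le z.2)]
        exact SetLike.coe_mem _
      · show θ ((α : MulAut S) ⟨z, hpre.le z.2⟩) = θ ⟨φ ⟨z, hpre.le z.2⟩, _⟩
        refine congrArg θ (Subtype.ext ?_)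
        show _ = φ ⟨z, hpre.le z.2⟩
        rw [he ⟨z, hpre.le z.2⟩, CfsgLib.Fusion.autFun_apply _ (hpre.le z.2)]
    rw [hinner] at hψ
    obtain ⟨-, g, -, hg⟩ := hψ
    have h2 : θ ((α : MulAut S) x) = θ x := by
      have h3 := hg ⟨θ x, Subgroup.mem_top _⟩
      obtain ⟨a, ha⟩ := QuotientGroup.mk'_surjective ((F.center).subgroupOf S) g
      rw [show ψ ⟨θ x, Subgroup.mem_top _⟩ = θ ((α : MulAut S) x) from rfl] at h3
      rw [h3]
      show g * θ x * g⁻¹ = θ x
      rw [← ha, hθ, ← map_mul, mul_comm' a x, map_mul, mul_inv_cancel_right]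
    have h4 : θ (x⁻¹ * (α : MulAut S) x) = 1 := by rw [map_mul, map_inv, h2, inv_mul_cancel]
    rw [hker, hZ, Subgroup.mem_bot, OneMemClass.coe_eq_one, inv_mul_eq_one] at h4
    exact h4.symm
  have hfbot : F.focalSubgroup ≤ ⊥ := (Subgroup.closure_le _).2 (by
    rintro _ ⟨P, φ, x, hφ, rfl⟩
    rw [SetLike.mem_coe, Subgroup.mem_bot, inv_mul_eq_one]
    have hf := CfsgLib.Fusion.isMap_toFun hφ
    obtain ⟨g, hg, hgf, hgS⟩ :=
      (CfsgLib.Fusion.isNormal_iff.1 (CfsgLib.Fusion.abelian_isNormal_self hS hsat hc)).2 P _ hf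
    have hgS' := hg.mono (le_sup_right : S ≤ P ⊔ S)
    have hxS : (x : Ω) ∈ S := hf.le x.2
    have h5 := congrArg Subtype.val (haut _ (CfsgLib.Fusion.autOf_mem hgS' hgS) ⟨x, hxS⟩)
    rw [← CfsgLib.Fusion.autFun_coe, CfsgLib.Fusion.autFun_autOf hgS' hgS hxS, hgf x x.2,
      CfsgLib.Fusion.toFun_coe] at h5
    exact h5.symm)
  rw [hfocS] at hfbot
  refine hsimp.2.1 (eq_bot_iff.2 fun q _ => ?_)
  obtain ⟨a, rfl⟩ := QuotientGroup.mk'_surjective _ q
  rw [Subgroup.mem_bot, hker, hZ, Subgroup.mem_bot]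
  exact Subgroup.mem_bot.1 (hfbot a.2)

end Cfsg.Agent.S5148
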