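import Cfsg.Statements.S5251
import Cfsg.Agent.Lib.Fusion.System.SubsystemCentric

set_option autoImplicit false
open Cfsg

namespace Cfsg.Agent.S5251

/-- Let F be a saturated fusion system over a finite p-group S, E a normal subsystem of F over T, and P an F-centric subgroup of S such that P ∩ T is not E-centric. Then some F-conjugate P* of P satisfies Out_S(P*) ∩ O_p(Out_F(P*)) ≠ 1: there is an element of N_S(P*) outside P* whose conjugation action on P* lies in O_p(Aut_F(P*)). In particular P is not both centric and radical in F. -/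
theorem result {Ω : Type*} [Group Ω] {S : Subgroup Ω} [Finite S] (p : ℕ) [Fact p.Prime] (hS : IsPGroup p S) (F : Cfsg.FusionSystem S) (hF : F.IsSaturated p) {T : Subgroup Ω} (E : Cfsg.FusionSystem T) (hE : E.IsNormalIn F p) (P : Subgroup Ω) (hP : F.IsCentric P) (hPT : ¬ E.IsCentric (P ⊓ T)) : (∃ φ ∈ F.Hom P, ∃ x ∈ S ⊓ Subgroup.normalizer (φ.range : Set Ω), x ∉ φ.range ∧ ∃ α ∈ ((Cfsg.pCore p ↥(F.autGroup φ.range)).map (F.autGroup φ.range).subtype : Subgroup (MulAut ↥φ.range)), ∀ y : ↥φ.range, ((α y : ↥φ.range) : Ω) = x * (y : Ω) * x⁻¹) ∧ ¬ F.IsRadical p P := by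
  classical
  obtain ⟨⟨-, -, hsub, hT, -⟩, -⟩ := hE
  obtain ⟨Q, hPQ, n, hn, hnQ⟩ :=
    CfsgLib.Fusion.SubsystemCentric.exists_inO_of_not_centric hS hF hT hsub hP.1 hPT
  obtain ⟨⟨hnS, hnN⟩, a, ha, hax⟩ := hn
  refine ⟨?_, fun hrad => ?_⟩
  · obtain ⟨φ, hφ, rfl⟩ := hPQ
    exact ⟨φ, hφ, n, Subgroup.mem_inf.2 ⟨hnS, hnN⟩, hnQ, a, ha, fun y =>
      (CfsgLib.Fusion.autFun_coe a y).symm.trans (hax y y.2)⟩
  · obtain ⟨f, hf, rfl⟩ := CfsgLib.Fusion.isConj_iff.1 hPQ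
    obtain ⟨f', hf', hf'1, hf'2⟩ := hf.exists_inv
    have hi : CfsgLib.Fusion.img (CfsgLib.Fusion.img P f) f' = P := by
      rw [CfsgLib.Fusion.img_img hf, CfsgLib.Fusion.IsMap.img_congr (f := f' ∘ f) (g := id) hf'1,
        CfsgLib.Fusion.img_id]
    have hb := CfsgLib.Fusion.FamilySat.oCore_congr hf' ha
    set b := MulAut.congr (CfsgLib.Fusion.mapEquiv hf') a with hbdef
    have hb' : ∃ z ∈ P, ∀ x ∈ P, f' (n * f x * n⁻¹) = z * x * z⁻¹ := by
      have hrad' : CfsgLib.Fusion.FamilySat.oCore F p (CfsgLib.Fusion.img (CfsgLib.Fusion.img P f) f')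
          = Cfsg.Inn (CfsgLib.Fusion.img (CfsgLib.Fusion.img P f) f') := by
        rw [hi]; exact hrad.2
      rw [hrad'] at hb
      obtain ⟨z, hz⟩ := hb
      refine ⟨z, hi.le z.2, fun x hx => ?_⟩
      have hfx : f x ∈ CfsgLib.Fusion.img P f := hf.mem_img.2 ⟨x, hx, rfl⟩
      have h1 := CfsgLib.Fusion.autFun_congr hf' a hfx
      rw [← hbdef, ← hz, hax _ hfx, hf'1 x hx] at h1
      rw [← h1, CfsgLib.Fusion.autFun_apply _ (hi.ge hx)]
      rfl
    obtain ⟨z, hz, hzx⟩ := hb'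
    have hnQ' : ∀ x ∈ P, n * f x * n⁻¹ ∈ CfsgLib.Fusion.img P f := fun x hx =>
      (Subgroup.mem_normalizer_iff.1 hnN _).1 (hf.mem_img.2 ⟨x, hx, rfl⟩)
    have hfz : f z ∈ CfsgLib.Fusion.img P f := hf.mem_img.2 ⟨z, hz, rfl⟩
    have hC : (f z)⁻¹ * n ∈ Cfsg.FusionSystem.centralizerIn S (CfsgLib.Fusion.img P f) := by
      refine ⟨S.mul_mem (S.inv_mem (hf.mem_S hz)) hnS, Subgroup.mem_centralizer_iff.2 fun y hy => ?_⟩
      obtain ⟨x, hx, rfl⟩ := hf.mem_img.1 hy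
      have e : n * f x * n⁻¹ = f z * f x * (f z)⁻¹ := by
        rw [← (hf'2 _ (hnQ' x hx)).2, hzx x hx, hf.map_conj hz hx]
      calc f x * ((f z)⁻¹ * n) = (f z)⁻¹ * (f z * f x * (f z)⁻¹) * n := by group
        _ = (f z)⁻¹ * n * f x := by rw [← e]; group
    have hQc := CfsgLib.Fusion.centralizerIn_le_of_isCentric
      (CfsgLib.Fusion.isCentric_of_isConj hP hPQ)
    have := mul_mem hfz (hQc hC)
    rw [mul_inv_cancel_left] at this
    exact hnQ this

end Cfsg.Agent.S5251
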