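import Cfsg.Statements.S5243
import Cfsg.Agent.Lib.Fusion.System.PPrimeCharacter
import Cfsg.Agent.Lib.Fusion.System.Alperin
import Cfsg.Agent.S5251

set_option autoImplicit false
open Cfsg

namespace Cfsg.Agent.S5243

/-- Let F be a saturated fusion system over a finite p-group S, E a normal subsystem of F over T ≤ S, and χ a surjective homomorphism from Aut_F(T) onto a nontrivial finite group Δ of order prime to p whose kernel contains Aut_E(T). Then there is a proper normal subsystem F₀ of F over S containing E such that Aut_{F₀}(S) consists of those α ∈ Aut_F(S) whose restriction to T is an element of Aut_F(T) in the kernel of χ; moreover every p'-residual subsystem O^{p'}(F) of F is contained in F₀. -/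
theorem result {Ω : Type*} [Group Ω] {S : Subgroup Ω} [Finite S] (p : ℕ) [Fact p.Prime] (hS : IsPGroup p S) (F : Cfsg.FusionSystem S) (hF : F.IsSaturated p) {T : Subgroup Ω} (hTS : T ≤ S) (E : Cfsg.FusionSystem T) (hE : E.IsNormalIn F p) {Δ : Type*} [Group Δ] [Finite Δ] [Nontrivial Δ] (hΔ : (Nat.card Δ).Coprime p) (χ : ↥(F.autGroup T) →* Δ) (hχ : Function.Surjective χ) (hker : (E.autGroup T).subgroupOf (F.autGroup T) ≤ χ.ker) : ∃ F₀ : Cfsg.FusionSystem S, F₀.IsNormalIn F p ∧ ¬ (∀ P : Subgroup Ω, F₀.Hom P = F.Hom P) ∧ E.IsSubsystemOf F₀ ∧ (∀ α : MulAut ↥S, α ∈ F₀.autGroup S ↔ α ∈ F.autGroup S ∧ ∃ β : ↥(F.autGroup T), χ β = 1 ∧ ∀ t : ↥T, (((β : MulAut ↥T) t : ↥T) : Ω) = ((α ⟨(t : Ω), hTS t.2⟩ : ↥S) : Ω)) ∧ ∀ R : Cfsg.FusionSystem S, F.IsPPrimeResidual p R → R.IsSubsystemOf F₀ := by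
  classical
  have hset : CfsgLib.Fusion.PPrimeChar.Setup F E p χ :=
    ⟨hS, hF, hTS, hE.1.1, hE.1.2.2, hΔ, hker⟩
  haveI := CfsgLib.Fusion.finite_of_le hTS
  haveI : Finite (MulAut T) := CfsgLib.Fusion.finite_mulAut
  obtain ⟨ρ, hρ⟩ := hset.exists_res
  set 𝒞 := CfsgLib.Fusion.PPrimeChar.family F E with h𝒞d
  have h𝒞 := hset.family_conj
  have hess : ∀ R, F.IsEssential p R → R ∈ 𝒞 := fun R hR => by
    refine ⟨hR.1, by_contra fun hn => ?_⟩
    exact (Cfsg.Agent.S5251.result p hS F hF E hE R hR.1 hn).2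
      (CfsgLib.Fusion.isRadical_of_isEssential hS hR)
  set H : Subgroup (MulAut S) := (χ.comp ρ).ker.map (F.autGroup S).subtype with hHd
  have hH : H ≤ F.autGroup S := Subgroup.map_subtype_le _
  have hmemH : ∀ α (hα : α ∈ F.autGroup S), α ∈ H ↔ χ (ρ ⟨α, hα⟩) = 1 := by
    intro α hα
    constructor
    · rintro ⟨β, hβ, rfl⟩
      exact hβ
    · exact fun h => ⟨⟨α, hα⟩, h, rfl⟩
  have hθ : ∀ P ∈ 𝒞, ∀ α ∈ F.autGroup S,
      CfsgLib.Fusion.PPrime.EMap F p 𝒞 P (CfsgLib.Fusion.autFun α) → α ∈ H := by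
    intro P hP α hα he
    refine (hmemH α hα).2 ?_
    obtain ⟨b, hb, e, he', hbe⟩ := hset.triv_of_eMap he
    exact hset.chi_of_triv hP.2 ⟨b, hb, e, he', fun x hx =>
      (hρ ⟨α, hα⟩ x hx.2).trans (hbe x hx)⟩
  have hSc : S ∈ 𝒞 := ⟨CfsgLib.Fusion.isCentric_self F, by
    rw [inf_eq_right.2 hTS]; exact CfsgLib.Fusion.isCentric_self E⟩
  set F₀ := CfsgLib.Fusion.PPrime.hSystem (p := p) h𝒞 hH with hF₀d
  have hsub : F₀.IsSubsystemOf F := CfsgLib.Fusion.PPrime.hSystem_isSubsystemOf h𝒞 hH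
  have hiff : ∀ {P : Subgroup Ω} {f : Ω → Ω},
      CfsgLib.Fusion.IsMap F₀ P f ↔ CfsgLib.Fusion.PPrime.HMap F p 𝒞 H P f :=
    CfsgLib.Fusion.PPrime.isMap_hSystem_iff h𝒞 hH
  have hsat : F₀.IsSaturated p :=
    CfsgLib.Fusion.PPrime.isSaturated_hSystem h𝒞 hS hF hess le_rfl hSc h𝒞 (fun R hR => hR.1) hH hθ
      fun P hPc hP => CfsgLib.Fusion.SubsystemCentric.exists_inO_of_not_centric hS hF
        hset.inv.2.1 hset.inv.1 hPc.1 fun h => hP ⟨hPc, h⟩
  have hp' : F₀.HasPrimeToPIndexIn F p := CfsgLib.Fusion.PPrime.hasPrimeToPIndex h𝒞 hS hF hess hsub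
    fun P f hf => hiff.2 (CfsgLib.Fusion.PPrime.HMap.of_eMap hf)
  have hautS : ∀ α : MulAut S, α ∈ F₀.autGroup S ↔ α ∈ H := by
    intro α
    rw [CfsgLib.Fusion.mem_autGroup_iff le_rfl, hiff]
    constructor
    · rintro ⟨β, hβ, e, he, hae⟩
      have hαF : α ∈ F.autGroup S := (CfsgLib.Fusion.mem_autGroup_iff le_rfl).2
        (((he.isMap.comp ((CfsgLib.Fusion.mem_autGroup_iff le_rfl).1 (hH hβ)))
          fun x hx => he.isMap.mem_S hx).congr hae)
      have h1 : β⁻¹ * α ∈ H := hθ S hSc _ (mul_mem (inv_mem (hH hβ)) hαF) (he.congr fun x hx => by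
        rw [CfsgLib.Fusion.autFun_mul _ _ hx, hae x hx,
          CfsgLib.Fusion.PPrime.autFun_symm (he.isMap.mem_S hx)])
      have h2 := mul_mem hβ h1
      rwa [mul_inv_cancel_left] at h2
    · exact fun hα => CfsgLib.Fusion.PPrime.HMap.of_aut hα le_rfl
  have hconjH : ∀ α ∈ F.autGroup S, ∀ β ∈ H, α * β * α⁻¹ ∈ H := by
    intro α hα β hβ
    obtain ⟨b, hb, rfl⟩ := hβ
    exact ⟨⟨α, hα⟩ * b * ⟨α, hα⟩⁻¹, (inferInstance : (χ.comp ρ).ker.Normal).conj_mem b hb _, rfl⟩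
  refine ⟨F₀, ⟨⟨hsat, hF, hsub, CfsgLib.Fusion.stronglyClosed_iff.2
    ⟨le_rfl, fun R f _ hf x hx => hf.mem_S hx⟩, ?_, ?_⟩, ?_⟩, ?_, ?_, ?_, ?_⟩
  · -- invariance
    intro P hPS φ hφ α hα
    obtain ⟨β, hβ, e, he, hfe⟩ := hiff.1 (CfsgLib.Fusion.isMap_toFun hφ)
    have hm := (CfsgLib.Fusion.mem_autGroup_iff le_rfl).1 hα
    have hmi := (CfsgLib.Fusion.mem_autGroup_iff le_rfl).1 (inv_mem hα)
    have hmap : CfsgLib.Fusion.IsMap F₀ (CfsgLib.Fusion.img P (CfsgLib.Fusion.autFun α))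
        (CfsgLib.Fusion.autFun α ∘ CfsgLib.Fusion.toFun φ ∘ CfsgLib.Fusion.autFun α⁻¹) := by
      refine hiff.2 ⟨α * β * α⁻¹, hconjH α hα β hβ, _, he.conjAut h𝒞 hα, fun y hy => ?_⟩
      obtain ⟨x, hx, rfl⟩ := (hm.mono hPS).mem_img.1 hy
      show CfsgLib.Fusion.autFun α (CfsgLib.Fusion.toFun φ (CfsgLib.Fusion.autFun α⁻¹ _)) =
        CfsgLib.Fusion.autFun (α * β * α⁻¹)
          (CfsgLib.Fusion.autFun α (e (CfsgLib.Fusion.autFun α⁻¹ _)))
      rw [CfsgLib.Fusion.PPrime.autFun_symm (hPS hx), hfe x hx,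
        ← CfsgLib.Fusion.autFun_mul _ _ (he.isMap.mem_S hx),
        ← CfsgLib.Fusion.autFun_mul _ _ (he.isMap.mem_S hx), inv_mul_cancel_right]
    rw [CfsgLib.Fusion.map_subgroupOf_eq_img hPS]
    obtain ⟨χ', hχ', hχe⟩ := hmap
    refine ⟨χ', hχ', fun x hφx hαx => ?_⟩
    refine (hχe ⟨_, hαx⟩).trans ?_
    show CfsgLib.Fusion.autFun α (CfsgLib.Fusion.toFun φ
      (CfsgLib.Fusion.autFun α⁻¹ ((α ⟨x, hPS x.2⟩ : S) : Ω))) = _
    rw [← CfsgLib.Fusion.autFun_apply α (hPS x.2), CfsgLib.Fusion.PPrime.autFun_symm (hPS x.2),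
      CfsgLib.Fusion.toFun_coe, CfsgLib.Fusion.autFun_apply α hφx]
  · -- Frattini
    intro P hPS φ hφ
    obtain ⟨α, hα, e, he, hfe⟩ :=
      CfsgLib.Fusion.PPrime.frattini h𝒞 hS hF hess (CfsgLib.Fusion.isMap_toFun hφ)
    obtain ⟨φ₀, hφ₀, hφ₀e⟩ := hiff.2 (CfsgLib.Fusion.PPrime.HMap.of_eMap (H := H) he)
    refine ⟨α, hα, φ₀, hφ₀, fun x hx => ?_⟩
    rw [← CfsgLib.Fusion.toFun_coe φ x, hfe x x.2, ← CfsgLib.Fusion.autFun_apply α hx, hφ₀e]
  · -- extension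
    intro α hα
    have hαF : α ∈ F.autGroup S := hH ((hautS α).1 hα)
    set U := S ⊔ Cfsg.FusionSystem.centralizerIn S S with hU
    have hUS : U = S := sup_eq_left.2 inf_le_left
    have hm := (CfsgLib.Fusion.mem_autGroup_iff le_rfl).1 hαF
    have hmU : CfsgLib.Fusion.IsMap F U (CfsgLib.Fusion.autFun α) := hm.mono hUS.le
    have hiU : CfsgLib.Fusion.img U (CfsgLib.Fusion.autFun α) = U :=
      CfsgLib.Fusion.img_eq_of_map_le hUS.le hmU le_rfl fun y hy =>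
        hUS.ge (CfsgLib.Fusion.autFun_mem α (hUS.le hy))
    refine ⟨CfsgLib.Fusion.autOf hmU hiU, CfsgLib.Fusion.autOf_mem hmU hiU, fun x => ?_,
      fun c hc => ?_⟩
    · rw [← CfsgLib.Fusion.autFun_coe, Subgroup.coe_inclusion,
        CfsgLib.Fusion.autFun_autOf hmU hiU (hUS.ge x.2),
        ← CfsgLib.Fusion.autFun_coe]
    · rw [← CfsgLib.Fusion.autFun_coe, CfsgLib.Fusion.autFun_autOf hmU hiU c.2]
      have h1 := CfsgLib.Fusion.map_mem_centralizerIn hm le_rfl hc.1 hc.2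
      rw [CfsgLib.Fusion.img_autFun] at h1
      exact Subgroup.mem_inf.2 ⟨S.mul_mem (S.inv_mem hc.1) h1.1,
        Subgroup.mul_mem _ (Subgroup.inv_mem _ hc.2) h1.2⟩
  · -- proper
    intro hall
    obtain ⟨d, hd⟩ := exists_ne (1 : Δ)
    obtain ⟨x, hx⟩ := hχ d
    have hTn : S ≤ Subgroup.normalizer (T : Set Ω) :=
      (CfsgLib.Fusion.le_normalizerIn_of_stronglyClosed hset.inv.2.1).trans inf_le_right
    have hTf : F.IsFullyNormalized T := ⟨hTS, fun R _ => by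
      rw [show Cfsg.FusionSystem.normalizerIn S T = S from inf_eq_left.2 hTn]
      exact CfsgLib.Fusion.card_le_of_le' le_rfl inf_le_left⟩
    obtain ⟨haut, hrec⟩ := CfsgLib.Fusion.IsSaturated.automized_receptive hS hF hTf
    set A := (Cfsg.autInducedBy S T).subgroupOf (F.autGroup T)
    have hAp : IsPGroup p A := (CfsgLib.Fusion.isPGroup_autInducedBy hS).of_equiv
      (Subgroup.subgroupOfEquivOfLe (CfsgLib.Fusion.autInducedBy_le_autGroup hTS)).symm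
    have hAk : A ≤ χ.ker := fun a ha => by
      obtain ⟨k, hk⟩ := hAp ⟨a, ha⟩
      exact hset.chi_pElement (k := k) (congrArg Subtype.val hk)
    obtain ⟨n, e, hne, he, hn, -⟩ := CfsgLib.Fusion.FamilySat.exists_frattini (D := χ.ker) hS hAp
      ((CfsgLib.Fusion.isFullyAutomized_iff hS).1 haut).2 x
    rw [inf_eq_left.2 hAk] at hn
    obtain ⟨g, hg, hgn⟩ := CfsgLib.Fusion.FamilySat.exists_ext hrec n.2 (X := S)
      (le_inf le_rfl hTn) fun u hu => by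
        have h1 := (Subgroup.mem_normalizer_iff.1 hn
          ⟨_, CfsgLib.Fusion.autInducedBy_le_autGroup hTS
            (CfsgLib.Fusion.conjAut_mem hu (hTn hu))⟩).1
            (Subgroup.mem_subgroupOf.2 (CfsgLib.Fusion.conjAut_mem hu (hTn hu)))
        exact Subgroup.mem_subgroupOf.1 h1
    have hgi : CfsgLib.Fusion.img S g = S :=
      CfsgLib.Fusion.img_eq_of_map_le le_rfl hg le_rfl fun y hy => hg.mem_S hy
    have hαF := CfsgLib.Fusion.autOf_mem hg hgi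
    have hρn : ρ ⟨_, hαF⟩ = n := Subtype.ext (CfsgLib.Fusion.autFun_ext fun y hy => by
      rw [hρ ⟨_, hαF⟩ y hy, CfsgLib.Fusion.autFun_autOf hg hgi (hTS hy), hgn y hy])
    have h1 : CfsgLib.Fusion.autOf hg hgi ∈ F₀.autGroup S := by
      obtain ⟨φ, hφ, hφe⟩ := (CfsgLib.Fusion.mem_autGroup_iff le_rfl).1 hαF
      exact (CfsgLib.Fusion.mem_autGroup_iff le_rfl).2 ⟨φ, (hall S).ge hφ, hφe⟩
    have h2 := (hmemH _ hαF).1 ((hautS _).1 h1)
    rw [hρn] at h2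
    apply hd
    rw [← hx, hne, map_mul, h2, MonoidHom.mem_ker.1 he, one_mul]
  · -- `E` is contained
    let M : Cfsg.FusionSystem T := CfsgLib.Fusion.mkSystem F T
      (fun P f => CfsgLib.Fusion.IsMap F₀ P f ∧ P ≤ T ∧ ∀ x ∈ P, f x ∈ T)
      (fun P f h => ⟨CfsgLib.Fusion.isMap_of_subsystem hsub h.1, h.2⟩)
      (fun P f g h he => ⟨h.1.congr he, h.2.1, fun x hx => he x hx ▸ h.2.2 x hx⟩)
      (fun P t hP ht => ⟨CfsgLib.Fusion.isMap_conj (hP.trans hTS) (hTS ht), hP,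
        fun x hx => T.mul_mem (T.mul_mem ht (hP hx)) (T.inv_mem ht)⟩)
      (fun P Q f g h1 h2 hm => ⟨h1.1.comp h2.1 hm, h1.2.1, fun x hx => h2.2.2 _ (hm x hx)⟩)
      (fun P f f' h hf' he => by
        obtain ⟨k, hk, hk1, -⟩ := h.1.exists_inv
        refine ⟨hk.congr fun y hy => ?_, h.1.img_le_of_forall h.2.2, fun y hy => ?_⟩
        all_goals obtain ⟨x, hx, rfl⟩ := h.1.mem_img.1 hy
        · rw [he x hx, hk1 x hx]
        · rw [he x hx]; exact h.2.1 hx)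
    intro P φ hφ
    have hTp : IsPGroup p T := hS.to_le hTS
    have key : ∀ {P : Subgroup Ω} {f : Ω → Ω}, CfsgLib.Fusion.IsMap E P f →
        CfsgLib.Fusion.IsMap F₀ P f := by
      intro P f hf
      refine ((CfsgLib.Fusion.isMap_mkSystem_iff _).1 (CfsgLib.Fusion.isMap_of_autGroup_le hTp
        hset.satE (E := M) (fun R hR a ha => ?_) hf)).1
      have hRc : E.IsCentric R := by
        rcases hR with rfl | hR
        · exact CfsgLib.Fusion.isCentric_self E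
        · exact hR.1
      have ham := (CfsgLib.Fusion.mem_autGroup_iff hRc.1).1 ha
      refine (CfsgLib.Fusion.mem_autGroup_iff hRc.1).2 ((CfsgLib.Fusion.isMap_mkSystem_iff _).2
        ⟨?_, hRc.1, fun x hx => ham.mem_S hx⟩)
      obtain ⟨α, hα, e, he, hae⟩ :=
        CfsgLib.Fusion.PPrime.frattini h𝒞 hS hF hess (hset.isMap_sub ham)
      refine hiff.2 ⟨α, (hmemH α hα).2 ?_, e, he, hae⟩
      obtain ⟨b, hb, d, hd, hed⟩ :=
        (hset.triv_of_eMap he).mono (le_inf le_rfl hRc.1 : R ≤ R ⊓ T)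
      have hc := CfsgLib.Fusion.isCentric_of_isConj hRc (CfsgLib.Fusion.isConj_iff.2 ⟨d, hd, rfl⟩)
      obtain ⟨d', hd', hd'1, hd'2⟩ := hd.exists_inv
      have h1 := hset.chi_eq_one (ρ ⟨α, hα⟩ * b) _ hc
        ((hd'.comp ham fun y hy => (hd'2 y hy).1).congr fun y hy => by
          obtain ⟨x, hx, rfl⟩ := hd.mem_img.1 hy
          have hdx := hd.mem_S hx
          show _ = CfsgLib.Fusion.autFun a (d' (d x))
          rw [hd'1 x hx, hae x hx, hed x hx, Subgroup.coe_mul, CfsgLib.Fusion.autFun_mul _ _ hdx,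
            hρ ⟨α, hα⟩ _ (CfsgLib.Fusion.autFun_mem _ hdx)])
      rwa [map_mul, hb, mul_one] at h1
    exact CfsgLib.Fusion.mem_hom_iff.2 (key (CfsgLib.Fusion.isMap_toFun hφ))
  · -- the automorphisms of `S`
    intro α
    rw [hautS α]
    constructor
    · intro hα
      refine ⟨hH hα, ρ ⟨α, hH hα⟩, (hmemH α (hH hα)).1 hα, fun t => ?_⟩
      rw [← CfsgLib.Fusion.autFun_coe, hρ ⟨α, hH hα⟩ t t.2,
        CfsgLib.Fusion.autFun_apply α (hTS t.2)]
    · rintro ⟨hα, β, hβ, hβe⟩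
      refine (hmemH α hα).2 ?_
      rwa [show ρ ⟨α, hα⟩ = β from Subtype.ext (CfsgLib.Fusion.autFun_ext fun y hy => by
        rw [hρ ⟨α, hα⟩ y hy, CfsgLib.Fusion.autFun_apply α (hTS hy),
          CfsgLib.Fusion.autFun_apply _ hy]
        exact (hβe ⟨y, hy⟩).symm)]
  · intro R hR
    exact hR.2.2 F₀ hsat hp'

end Cfsg.Agent.S5243
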