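import Cfsg.Agent.Lib.PGroup.HallPetrescu
-- under Cfsg/Agent/.
import Cfsg.Statements.S4209
-- import your own Cfsg.Agent.* helpers here

set_option autoImplicit false
open Cfsg

namespace Cfsg.Agent.S4209

/-- A finite `p`-group of nilpotency class less than `p` (the term of index `p - 1` of the lower central series of the whole group, indexed from `0`, is trivial) is a regular `p`-group. -/
theorem result {G : Type*} [Group G] [Finite G] {p : ℕ} [Fact p.Prime] (hG : IsPGroup p G) (hcl : (⊤ : Subgroup G).lowerCentralSeries (p - 1) = ⊥) : Cfsg.IsRegularPGroup p G := by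
  have hp : p.Prime := Fact.out
  have hp2 := hp.two_le
  have hF : CfsgLib.PolySeq.Filt (fun k => (⊤ : Subgroup G).lowerCentralSeries (k - 1)) p :=
    ⟨fun a b _ hab => Subgroup.lowerCentralSeries_antitone _ (by omega),
      fun a b ha hb y hy z hz => by
        have h := CfsgLib.PGroup.commutator_lowerCentralSeries_le_chain
          (D := fun i => (⊤ : Subgroup G).lowerCentralSeries i) (fun i => inferInstance)
          (B := ⊤) (fun i => le_rfl) (b - 1) (a - 1)
        have h2 := h (Subgroup.commutator_mem_commutator hy hz)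
        show _ ∈ (⊤ : Subgroup G).lowerCentralSeries (a + b - 1)
        rwa [show a + b - 1 = a - 1 + (b - 1) + 1 by omega],
      hcl⟩
  have hrule : CfsgLib.RegularPowers.PowRule G p 1 := by
    intro a b
    set H := Subgroup.closure ({a, b} : Set G) with hH
    have hval : ∀ n : ℕ, (b ^ n)⁻¹ * (a ^ n)⁻¹ * (a * b) ^ n ∈ ⁅H, H⁆ := by
      intro n
      let A : H := ⟨a, Subgroup.subset_closure (Or.inl rfl)⟩
      let B : H := ⟨b, Subgroup.subset_closure (Or.inr rfl)⟩
      have hm : (B ^ n)⁻¹ * (A ^ n)⁻¹ * (A * B) ^ n ∈ _root_.commutator H := by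
        rw [← Abelianization.ker_of, MonoidHom.mem_ker]
        simp only [map_mul, map_inv, map_pow, mul_pow]
        rw [mul_comm (Abelianization.of B ^ n)⁻¹, mul_assoc, ← mul_assoc _ (Abelianization.of A ^ n),
          mul_comm (Abelianization.of B ^ n)⁻¹ (Abelianization.of A ^ n), mul_assoc, inv_mul_cancel,
          mul_one, inv_mul_cancel]
      have h2 := Subgroup.mem_map_of_mem H.subtype hm
      rw [_root_.commutator_def, Subgroup.map_commutator, ← MonoidHom.range_eq_map, Subgroup.range_subtype] at h2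
      simpa [A, B] using h2
    have hu := CfsgLib.PolySeq.hallPetrescu hF rfl rfl hp rfl a b ⁅H, H⁆ hval
    refine ⟨(b ^ p)⁻¹ * (a ^ p)⁻¹ * (a * b) ^ p, ?_, by rw [pow_one]; group⟩
    simpa [Cfsg.powerClosure] using hu
  refine ⟨hG, fun a b n => CfsgLib.RegularPowers.powRule_of_one hG (fun a b => ?_) n a b⟩
  obtain ⟨c, hc, hce⟩ := hrule a b
  have hc' : c ∈ (Cfsg.powerClosure p 1
      ⁅Subgroup.closure ({a, b} : Set G), Subgroup.closure ({a, b} : Set G)⁆ : Set G) := hc
  rw [← CfsgLib.RegularPowers.powerClosure_eq hG hrule] at hc'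
  obtain ⟨x, hx, rfl⟩ := hc'
  exact ⟨x, hx, by simpa using hce⟩

end Cfsg.Agent.S4209
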