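import Cfsg.Statements.S5203
import Cfsg.Agent.Lib.Fusion.System.PPowerNormal
import Cfsg.Agent.Lib.Fusion.System.Hyperfocal
import Cfsg.Agent.Lib.Fusion.System.TateHyperfocal
-- import your own Cfsg.Agent.* helpers here

set_option autoImplicit false
open Cfsg

namespace Cfsg.Agent.S5203

open Subgroup CfsgLib.Fusion
open Cfsg.FusionSystem (normalizerIn centralizerIn IsResidualLimitOf)

universe u

variable {Ω : Type u} [Group Ω] {p : ℕ} [Fact p.Prime]

/-- Two systems over equal subgroups with equal maps. -/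
def Same {T₁ T₂ : Subgroup Ω} (E₁ : Cfsg.FusionSystem T₁) (E₂ : Cfsg.FusionSystem T₂) : Prop :=
  T₁ = T₂ ∧ ∀ P, E₁.Hom P = E₂.Hom P

theorem Same.symm {T₁ T₂ : Subgroup Ω} {E₁ : Cfsg.FusionSystem T₁} {E₂ : Cfsg.FusionSystem T₂}
    (h : Same E₁ E₂) : Same E₂ E₁ := ⟨h.1.symm, fun P => (h.2 P).symm⟩

theorem Same.trans {T₁ T₂ T₃ : Subgroup Ω} {E₁ : Cfsg.FusionSystem T₁} {E₂ : Cfsg.FusionSystem T₂}
    {E₃ : Cfsg.FusionSystem T₃} (h : Same E₁ E₂) (h' : Same E₂ E₃) : Same E₁ E₃ :=
  ⟨h.1.trans h'.1, fun P => (h.2 P).trans (h'.2 P)⟩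

omit [Fact p.Prime] in
theorem Same.limit {T₁ T₂ U : Subgroup Ω} {E₁ : Cfsg.FusionSystem T₁} {E₂ : Cfsg.FusionSystem T₂}
    (h : Same E₁ E₂) {L : Cfsg.FusionSystem U} (hL : IsResidualLimitOf L E₁ p) :
    IsResidualLimitOf L E₂ p := by
  obtain ⟨rfl, h⟩ := h
  obtain rfl := eq_of_hom h
  exact hL

omit [Fact p.Prime] in
theorem Same.residual {T₁ T₂ : Subgroup Ω} {E₁ R₁ : Cfsg.FusionSystem T₁} {E₂ R₂ : Cfsg.FusionSystem T₂}
    (h : Same E₁ E₂) (h₁ : E₁.IsPPrimeResidual p R₁) (h₂ : E₂.IsPPrimeResidual p R₂) : Same R₁ R₂ := by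
  obtain ⟨rfl, h⟩ := h
  obtain rfl := eq_of_hom h
  exact ⟨rfl, fun P => Set.Subset.antisymm (h₁.2.2 _ h₂.1 h₂.2.1 P) (h₂.2.2 _ h₁.1 h₁.2.1 P)⟩

omit [Fact p.Prime] in
theorem Same.stable {T₁ T₂ : Subgroup Ω} {E₁ : Cfsg.FusionSystem T₁} {E₂ : Cfsg.FusionSystem T₂}
    (h : Same E₁ E₂) (h₁ : E₁.hyperfocalSubgroup p = T₁) (h₂ : E₁.IsPPrimeResidual p E₁) :
    E₂.hyperfocalSubgroup p = T₂ ∧ E₂.IsPPrimeResidual p E₂ := by
  obtain ⟨rfl, h⟩ := h
  obtain rfl := eq_of_hom h
  exact ⟨h₁, h₂⟩

/-- A stable system is its own residual limit. -/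
theorem stable_limit : ∀ {U : Subgroup Ω} {L : Cfsg.FusionSystem U} {T : Subgroup Ω}
    {G : Cfsg.FusionSystem T} {q : ℕ}, IsResidualLimitOf L G q → q = p → Finite T → IsPGroup p T →
      G.IsSaturated p → G.hyperfocalSubgroup p = T → G.IsPPrimeResidual p G → Same L G := by
  intro U L T G q h
  induction h with
  | stable G q h1 h2 => exact fun _ _ _ _ _ _ => ⟨rfl, fun P => rfl⟩
  | @step T L G q D D' hD hD' _ ih =>
    intro hq hfin hTp hG hT hres
    subst hq
    have hKT : G.hyperfocalSubgroup q ≤ T := hT.le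
    haveI := finite_of_le hKT
    have hDG : Same D G := ⟨hT, fun P => Set.Subset.antisymm (hD.2.1 P)
      (isSubsystemOf_pPowerIndex hTp hG (fun P => subset_rfl) le_rfl hT.ge hD.2 P)⟩
    have hD'G : Same D' G := Same.residual hDG hD' hres
    obtain ⟨h1, h2⟩ := hD'G.symm.stable hT hres
    exact (ih rfl inferInstance (hTp.to_le hKT) hD'.1 h1 h2).trans hD'G

/-- Residual limits are unique. -/
theorem limit_unique : ∀ {U : Subgroup Ω} {L : Cfsg.FusionSystem U} {T : Subgroup Ω}
    {G : Cfsg.FusionSystem T} {q : ℕ}, IsResidualLimitOf L G q → q = p → Finite T → IsPGroup p T →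
      G.IsSaturated p → ∀ {U' : Subgroup Ω} {L' : Cfsg.FusionSystem U'},
        IsResidualLimitOf L' G p → Same L L' := by
  intro U L T G q h
  induction h with
  | stable G q h1 h2 =>
    intro hq hfin hTp hG U' L' h'
    subst hq
    exact (stable_limit h' rfl hfin hTp hG h1 h2).symm
  | @step T L G q D D' hD hD' hL ih =>
    intro hq hfin hTp hG U' L' h'
    subst hq
    cases h' with
    | stable =>
      exact stable_limit (IsResidualLimitOf.step _ _ D D' hD hD' hL) rfl hfin hTp hG (by assumption) (by assumption)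
    | step =>
      rename_i D₂ D₂' hD₂ hD₂' hL'
      have hKT : G.hyperfocalSubgroup q ≤ T := hyperfocal_le_S
      haveI := finite_of_le hKT
      have hDD : Same D D₂ := ⟨rfl, fun P => Set.Subset.antisymm
        (le_of_pPowerIndex hTp hKT hD.1 hD.2 hD₂.2 P) (le_of_pPowerIndex hTp hKT hD₂.1 hD₂.2 hD.2 P)⟩
      exact ih rfl inferInstance (hTp.to_le hKT) hD'.1 ((Same.residual hDD hD' hD₂').symm.limit hL')

variable {S : Subgroup Ω} [Finite S] {F : Cfsg.FusionSystem S} {T : Subgroup Ω} {E : Cfsg.FusionSystem T}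

/-- The hyperfocal subgroup of a subsystem of `p`-power index is that of the system. -/
theorem hyperfocal_eq (hS : IsPGroup p S) (hTS : T ≤ S) (hidx : E.HasPPowerIndexIn F p) :
    E.hyperfocalSubgroup p = F.hyperfocalSubgroup p := by
  classical
  haveI : Finite T := finite_of_le hTS
  refine le_antisymm ?_ ?_
  · refine (Subgroup.closure_le _).2 ?_
    rintro z ⟨P, α, x, hP, hα, rfl⟩
    obtain ⟨β, hβ, hβα⟩ := residual_of_subsystem hidx.1 hTS hP hα
    have := mem_hyperfocal (F := F) (hP.trans hTS) hβ x.2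
    rwa [hβα, autFun_coe] at this
  set K₀ := E.hyperfocalSubgroup p with hK₀
  have hn : T ≤ Subgroup.normalizer (K₀ : Set Ω) := (absorbs_hyperfocal (F := E) (p := p)).normal
  have hK₀T : K₀ ≤ T := hyperfocal_le_S
  refine (Subgroup.closure_le _).2 ?_
  rintro z ⟨P, α, x, hP, hα, rfl⟩
  rw [← autFun_coe]
  refine mem_of_mem_pResidual_aut (fun a ha x hx => ?_) hα x.2
  haveI := finite_of_le hP
  set R := P ⊓ T with hR
  have hRT : R ≤ T := inf_le_right
  have hmemT : ∀ (b : F.autGroup P), Nat.Coprime (orderOf b) p → ∀ y ∈ P, y⁻¹ * autFun (b : MulAut P) y ∈ R :=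
    fun b hb y hy => Subgroup.mem_inf.2 ⟨mul_mem (inv_mem hy) (autFun_mem _ hy),
      hidx.2.1 (mem_hyperfocal hP (mem_pResidual hb) hy)⟩
  have ham := (mem_autGroup_iff hP).1 a.2
  have hmR : IsMap F R (autFun (a : MulAut P)) := ham.mono inf_le_left
  have himg : img R (autFun (a : MulAut P)) = R := by
    refine img_eq_of_map_le (inf_le_left.trans hP) hmR le_rfl fun y hy => ?_
    have h1 := mul_mem hy (hmemT a ha y (Subgroup.mem_inf.1 hy).1)
    rwa [mul_inv_cancel_left] at h1
  let b : F.autGroup R := ⟨autOf hmR himg, autOf_mem hmR himg⟩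
  haveI := finite_of_le (hRT.trans hTS)
  haveI := finite_mulAut (P := R)
  have hbo : Nat.Coprime (orderOf b) p := by
    refine Nat.Coprime.coprime_dvd_left (orderOf_dvd_of_pow_eq_one ?_) ha
    refine Subtype.ext (autFun_ext fun y hy => ?_)
    have key : ∀ n : ℕ, autFun (((b ^ n : F.autGroup R)) : MulAut R) y = autFun ((a ^ n : F.autGroup P) : MulAut P) y := by
      intro n
      induction n with
      | zero => simp [autFun_one hy, autFun_one (Subgroup.mem_inf.1 hy).1]
      | succ n ihn =>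
        have hy' := autFun_mem ((b ^ n : F.autGroup R) : MulAut R) hy
        rw [pow_succ', pow_succ', show ((b * b ^ n : F.autGroup R) : MulAut R) = (b : MulAut R) * ((b ^ n : F.autGroup R) : MulAut R) from rfl,
          show ((a * a ^ n : F.autGroup P) : MulAut P) = (a : MulAut P) * ((a ^ n : F.autGroup P) : MulAut P) from rfl,
          autFun_mul _ _ hy, autFun_mul _ _ (Subgroup.mem_inf.1 hy).1]
        show autFun (autOf hmR himg) _ = _
        rw [autFun_autOf hmR himg hy', ihn]
    rw [key, pow_orderOf_eq_one]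
    show autFun (1 : MulAut P) y = autFun (1 : MulAut R) y
    rw [autFun_one hy, autFun_one (Subgroup.mem_inf.1 hy).1]
  have hbr : b ∈ Cfsg.pResidual p (F.autGroup R) := mem_pResidual hbo
  have hbE : (b : MulAut R) ∈ E.autGroup R := hidx.2.2 R hRT ⟨b, hbr, rfl⟩
  haveI := finite_mulAut (P := P)
  let bE : E.autGroup R := ⟨b, hbE⟩
  have hbEo : Nat.Coprime (orderOf bE) p := by
    rwa [← Subgroup.orderOf_coe, show ((bE : MulAut R)) = (b : MulAut R) from rfl, Subgroup.orderOf_coe]
  have hstep : ∀ y ∈ R, y⁻¹ * autFun (a : MulAut P) y ∈ K₀ := fun y hy => by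
    have := mem_hyperfocal (F := E) (p := p) hRT (mem_pResidual hbEo) hy
    rwa [show autFun ((bE : E.autGroup R) : MulAut R) y = autFun (a : MulAut P) y from
      autFun_autOf hmR himg hy] at this
  -- telescope
  set w := x⁻¹ * autFun (a : MulAut P) x with hw
  have hwR : w ∈ R := hmemT a ha x hx
  have hwT : w ∈ T := hRT hwR
  have hcong : ∀ n : ℕ, (w ^ n)⁻¹ * (x⁻¹ * autFun ((a : MulAut P) ^ n) x) ∈ K₀ := by
    intro n
    induction n with
    | zero => simp [autFun_one hx]
    | succ n ihn =>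
      set u := x⁻¹ * autFun ((a : MulAut P) ^ n) x with hu
      have huR : u ∈ R := by
        have h := hK₀T ihn
        refine Subgroup.mem_inf.2 ⟨mul_mem (inv_mem hx) (autFun_mem _ hx), ?_⟩
        have := mul_mem (pow_mem hwT n) h
        rwa [mul_inv_cancel_left] at this
      have h1 : x⁻¹ * autFun ((a : MulAut P) ^ (n + 1)) x = w * autFun (a : MulAut P) u := by
        rw [pow_succ', autFun_mul _ _ hx,
          show autFun ((a : MulAut P) ^ n) x = x * u by rw [hu, mul_inv_cancel_left],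
          ham.map_mul hx (Subgroup.mem_inf.1 huR).1, hw, mul_assoc]
      rw [h1, pow_succ']
      have h2 := mul_mem ihn (hstep u huR)
      have : (w * w ^ n)⁻¹ * (w * autFun (a : MulAut P) u) = (w ^ n)⁻¹ * u * (u⁻¹ * autFun (a : MulAut P) u) := by
        group
      rw [this]
      exact h2
  have h := hcong (orderOf a)
  rw [show (a : MulAut P) ^ orderOf a = 1 by rw [← Subgroup.coe_pow, pow_orderOf_eq_one]; rfl,
    autFun_one hx, inv_mul_cancel, mul_one] at h
  obtain ⟨m, hm⟩ := hS ⟨w, hTS hwT⟩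
  have hwm : w ^ p ^ m = 1 := congrArg Subtype.val hm
  have hcop : Nat.Coprime (orderOf w) (orderOf a) :=
    ((ha.symm.pow_left m)).coprime_dvd_left (orderOf_dvd_of_pow_eq_one hwm)
  obtain ⟨i, hi⟩ := exists_pow_eq_self_of_coprime hcop.symm
  have h3 := pow_mem (inv_mem h) i
  rwa [inv_inv, hi] at h3

theorem main (hS : IsPGroup p S) (hF : F.IsSaturated p) (hE : E.IsSaturated p) (hTS : T ≤ S)
    (hidx : E.HasPPowerIndexIn F p) {U V : Subgroup Ω} {Finf : Cfsg.FusionSystem U}
    (hFinf : IsResidualLimitOf Finf F p) {Einf : Cfsg.FusionSystem V}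
    (hEinf : IsResidualLimitOf Einf E p) : Same Finf Einf := by
  haveI : Finite T := finite_of_le hTS
  have hK := hyperfocal_eq hS hTS hidx
  have hT : IsPGroup p T := hS.to_le hTS
  cases hFinf with
  | stable =>
    rename_i h1 h2
    have hST : T = S := le_antisymm hTS (h1.ge.trans hidx.2.1)
    have hEF : Same E F := ⟨hST, fun P => Set.Subset.antisymm (hidx.1 P)
      (isSubsystemOf_pPowerIndex hS hF (fun P => subset_rfl) le_rfl hST.ge hidx P)⟩
    exact (stable_limit (hEF.limit hEinf) rfl inferInstance hS hF (by assumption) (by assumption)).symm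
  | step =>
    rename_i D D' hD hD' hL
    have hKS : F.hyperfocalSubgroup p ≤ S := hyperfocal_le_S
    haveI := finite_of_le hKS
    have hDE : D.IsSubsystemOf E := isSubsystemOf_pPowerIndex hS hD.1 hD.2.1 hKS hidx.2.1 hidx
    cases hEinf with
    | stable =>
      rename_i h1 h2
      have hDS : Same D E := ⟨hK.symm.trans h1, fun P => Set.Subset.antisymm (hDE P)
        (isSubsystemOf_pPowerIndex hS hE hidx.1 hTS (h1.ge.trans hK.le) hD.2 P)⟩
      have hD'E : Same D' E := hDS.residual hD' (by assumption)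
      obtain ⟨g1, g2⟩ := hD'E.symm.stable h1 (by assumption)
      exact (stable_limit hL rfl inferInstance (hS.to_le hKS) hD'.1 g1 g2).trans hD'E
    | step =>
      rename_i G G' hG hG' hM
      have hKT : E.hyperfocalSubgroup p ≤ T := hyperfocal_le_S
      haveI := finite_of_le hKT
      have hGF : G.IsSubsystemOf F := fun P => (hG.2.1 P).trans (hidx.1 P)
      have hDG : Same D G := ⟨hK.symm, fun P => Set.Subset.antisymm
        (isSubsystemOf_pPowerIndex hT hD.1 hDE (hK.ge.trans hKT) hK.ge hG.2 P)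
        (isSubsystemOf_pPowerIndex hS hG.1 hGF (hKT.trans hTS) hK.le hD.2 P)⟩
      exact limit_unique hL rfl inferInstance (hS.to_le hKS) hD'.1
        ((hDG.residual hD' hG').symm.limit hM)


/-- Let F be a saturated fusion system over a finite p-group S and E a normal subsystem of F over T that has p-power index in F. Then every residual limit of E has the same maps as every residual limit of F (the residual limit is reached by alternately passing to the p-residual and the p'-residual subsystem until nothing changes). -/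
theorem result {Ω : Type*} [Group Ω] {S : Subgroup Ω} [Finite S] (p : ℕ) [Fact p.Prime] (hS : IsPGroup p S) (F : Cfsg.FusionSystem S) (hF : F.IsSaturated p) {T : Subgroup Ω} (E : Cfsg.FusionSystem T) (hE : E.IsNormalIn F p) (hidx : E.HasPPowerIndexIn F p) {U V : Subgroup Ω} (Finf : Cfsg.FusionSystem U) (hFinf : Finf.IsResidualLimitOf F p) (Einf : Cfsg.FusionSystem V) (hEinf : Einf.IsResidualLimitOf E p) : ∀ P : Subgroup Ω, Finf.Hom P = Einf.Hom P := by
  exact (main hS hF hE.1.1 hE.1.2.2.2.1.1 hidx hFinf hEinf).2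

end Cfsg.Agent.S5203
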