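import Cfsg.Statements.S1952
import Mathlib.GroupTheory.Sylow
import Mathlib.Algebra.Polynomial.AlgebraMap
import Mathlib.Data.ZMod.Basic
import Mathlib.RingTheory.PrincipalIdealDomain
import Mathlib.Algebra.CharP.Lemmas
import Cfsg.Agent.Lib.Coprime.Core
import Cfsg.Agent.Lib.Coprime.Hall
import Mathlib.Data.Nat.Choose.Factorization
import Mathlib.Tactic.Group

set_option autoImplicit false
open Cfsg

namespace Cfsg.Agent.S1952

open Subgroup Polynomial
open scoped IsMulCommutative

variable {P : Type*} [Group P] [Finite P] {p : ℕ} [hp : Fact p.Prime]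

theorem C_dvd_sub_pow (p : ℕ) [hp : Fact p.Prime] :
    (C (p : ℤ)) ∣ ((X : ℤ[X]) - 1) ^ (p - 1) - ∑ i ∈ Finset.range p, (X : ℤ[X]) ^ i := by
  rw [C_dvd_iff_dvd_coeff]
  intro i
  rw [← ZMod.intCast_zmod_eq_zero_iff_dvd]
  change (Int.castRingHom (ZMod p)) _ = 0
  rw [← coeff_map]
  have h : ((((X : ℤ[X]) - 1) ^ (p - 1) - ∑ i ∈ Finset.range p, (X : ℤ[X]) ^ i)).map
      (Int.castRingHom (ZMod p)) = 0 := by
    simp only [Polynomial.map_sub, Polynomial.map_pow, Polynomial.map_X, Polynomial.map_one,
      Polynomial.map_sum]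
    rw [sub_eq_zero]
    refine mul_right_cancel₀ (b := (X : (ZMod p)[X]) - 1) (by
      rw [← C_1]; exact X_sub_C_ne_zero 1) ?_
    rw [← pow_succ, Nat.sub_add_cancel hp.out.one_le, sub_pow_char, one_pow, geom_sum_mul]
  rw [h, coeff_zero]

theorem factorization_factorial_sq (p : ℕ) [hp : Fact p.Prime] :
    (Nat.factorial (p ^ 2)).factorization p = p + 1 := by
  have h1 : (Nat.factorial p).factorization p = 1 := by
    have h := Nat.factorization_factorial_mul (n := 1) hp.out
    simpa using h
  have h2 := Nat.factorization_factorial_mul (n := p) hp.out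
  rw [h1] at h2
  rw [sq]; omega

theorem wreath_quotient (hP : IsPGroup p P) (A : Subgroup P) [A.Normal]
    (hA : Cfsg.IsElementaryAbelian p A) (hidx : A.index = p) (x y : P) (hx : x ∈ A) (hy : y ∉ A)
    (hprod : ((List.range p).map (fun i => (y ^ i)⁻¹ * x * y ^ i)).prod ≠ 1) :
    ∃ (Q : Sylow p (Equiv.Perm (Fin (p ^ 2))))
      (f : P →* ↥(Q : Subgroup (Equiv.Perm (Fin (p ^ 2))))), Function.Surjective f := by
  classical
  haveI := hA.1
  have hcomm : ∀ a ∈ A, ∀ b ∈ A, a * b = b * a := fun a ha b hb =>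
    congrArg Subtype.val (IsMulCommutative.is_comm.comm (⟨a, ha⟩ : A) ⟨b, hb⟩)
  obtain ⟨w, hw⟩ : ∃ w, w = ((List.range p).map (fun i => (y ^ i)⁻¹ * x * y ^ i)).prod := ⟨_, rfl⟩
  have hconjA : ∀ (a : P), a ∈ A → ∀ g : P, g⁻¹ * a * g ∈ A := fun a ha g => by
    simpa using (inferInstance : A.Normal).conj_mem a ha g⁻¹
  have hwA : w ∈ A := by
    rw [hw]
    exact list_prod_mem fun z hz => by
      obtain ⟨i, -, rfl⟩ := List.mem_map.1 hz
      exact hconjA x hx _
  rw [← hw] at hprod
  -- a hyperplane of `A` avoiding the norm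
  obtain ⟨H, -, hH⟩ := exists_maximal_ge_of_wellFoundedGT
    (fun H : Subgroup P => H ≤ A ∧ w ∉ H) ⊥ ⟨bot_le, by rwa [mem_bot]⟩
  obtain ⟨hHA, hwH⟩ := hH.prop
  have hAHw : A ≤ H ⊔ zpowers w := by
    intro a ha
    by_cases haH : a ∈ H
    · exact mem_sup_left haH
    have hle : H ⊔ zpowers a ≤ A := sup_le hHA (zpowers_le.2 ha)
    have hwmem : w ∈ H ⊔ zpowers a := by
      by_contra hw'
      exact haH (hH.le_of_ge ⟨hle, hw'⟩ le_sup_left (mem_sup_right (mem_zpowers a)))
    haveI : IsMulCommutative A := hA.1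
    obtain ⟨h, hh, z, hz, hhz⟩ : ∃ h ∈ H, ∃ z ∈ zpowers a, h * z = w := by
      have hn : zpowers a ≤ normalizer (H : Set P) := zpowers_le.2 (mem_normalizer_iff.2 fun b => ⟨
        fun hb => by rwa [hcomm a ha b (hHA hb), mul_inv_cancel_right],
        fun hb => by
          have hbA : b ∈ A := by
            have := hconjA _ (hHA hb) a
            simpa [mul_assoc] using this
          rwa [hcomm a ha b hbA, mul_inv_cancel_right] at hb⟩)
      have hw2 := hwmem
      rw [← SetLike.mem_coe, coe_mul_of_right_le_normalizer_left _ _ hn] at hw2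
      exact hw2
    obtain ⟨j, rfl⟩ := hz
    have hj : ¬ (p : ℤ) ∣ j := by
      rintro ⟨k, rfl⟩
      refine hwH ?_
      have e : a ^ ((p : ℤ) * k) = 1 := by rw [zpow_mul, zpow_natCast, hA.2 a ha, one_zpow]
      simp only [e, mul_one] at hhz
      rwa [← hhz]
    obtain ⟨u, v, huv⟩ := ((Prime.coprime_iff_not_dvd (Nat.prime_iff_prime_int.1 hp.out)).2 hj)
    have h1 : a ^ j ∈ H ⊔ zpowers w := by
      rw [show a ^ j = h⁻¹ * w by rw [← hhz]; group]
      exact mul_mem (inv_mem (mem_sup_left hh)) (mem_sup_right (mem_zpowers w))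
    have h2 : a = (a ^ j) ^ v := by
      rw [← zpow_mul]
      conv_lhs => rw [← zpow_one a, ← huv, zpow_add, mul_comm u, zpow_mul, zpow_natCast, hA.2 a ha,
        one_zpow, one_mul, mul_comm v]
    rw [h2]
    exact zpow_mem h1 _
  have hHw : H ⊓ zpowers w = ⊥ := by
    refine (eq_bot_iff_forall _).2 ?_
    rintro z ⟨hz, j, rfl⟩
    by_contra hne
    refine hwH ?_
    have hj : ¬ (p : ℤ) ∣ j := by
      rintro ⟨k, rfl⟩
      exact hne (by show w ^ ((p : ℤ) * k) = 1; rw [zpow_mul, zpow_natCast, hA.2 w hwA, one_zpow])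
    obtain ⟨u, v, huv⟩ := ((Prime.coprime_iff_not_dvd (Nat.prime_iff_prime_int.1 hp.out)).2 hj)
    have h2 : w = (w ^ j) ^ v := by
      rw [← zpow_mul]
      conv_lhs => rw [← zpow_one w, ← huv, zpow_add, mul_comm u, zpow_mul, zpow_natCast, hA.2 w hwA,
        one_zpow, one_mul, mul_comm v]
    rw [h2]
    exact H.zpow_mem hz _
  have hHindex : H.index = p ^ 2 := by
    have hrel : H.relIndex A = p := by
      have hsup : H ⊔ zpowers w = A := le_antisymm (sup_le hHA (zpowers_le.2 hwA)) hAHw
      haveI : (H.subgroupOf A).Normal := ⟨fun b hb g => by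
        rw [mul_comm g b, mul_inv_cancel_right]; exact hb⟩
      have h1 : Nat.card (zpowers w) = p := by
        rw [Nat.card_zpowers]; exact orderOf_eq_prime (hA.2 w hwA) hprod
      have hn : zpowers w ≤ normalizer (H : Set P) :=
        le_trans (le_sup_right.trans hsup.le) ((normal_subgroupOf_iff_le_normalizer hHA).1 inferInstance)
      have h2 : Nat.card A ∣ Nat.card H * p := by
        rw [← h1, mul_comm, ← hsup, sup_comm]
        exact CfsgLib.Coprime.card_sup_dvd_of_le_normalizer hn
      rw [← CfsgLib.Coprime.card_mul_relIndex hHA] at h2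
      refine ((Nat.dvd_prime hp.out).1 (Nat.dvd_of_mul_dvd_mul_left Nat.card_pos h2)).resolve_left ?_
      exact fun e => hwH (relIndex_eq_one.1 e hwA)
    rw [← relIndex_mul_index hHA, hrel, hidx, sq]
  set Cc := H.normalCore with hCc
  have hCH : Cc ≤ H := normalCore_le H
  have hCA : Cc ≤ A := hCH.trans hHA
  haveI : Cc.Normal := normalCore_normal H
  -- `[A : Cc] ≥ p ^ p`
  have hbig : p ^ p ≤ Cc.relIndex A := by
    by_contra hlt
    push Not at hlt
    obtain ⟨j, hj⟩ : ∃ j, Cc.relIndex A = p ^ j :=
      (hP.to_subgroup A).index (Cc.subgroupOf A)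
    rw [hj] at hlt
    have hjp : j < p := (Nat.pow_lt_pow_iff_right hp.out.one_lt).1 hlt
    have hyp' : y ^ p ∈ A := by
      have := A.pow_index_mem y
      rwa [hidx] at this
    let T : Additive A →+ Additive A :=
      { toFun := fun a => Additive.ofMul ⟨y⁻¹ * (Additive.toMul a : A) * y,
          hconjA _ (Additive.toMul a : A).2 y⟩
        map_zero' := Additive.toMul.injective (Subtype.ext (by simp))
        map_add' := fun a b => Additive.toMul.injective (Subtype.ext (by
          show y⁻¹ * (((Additive.toMul a : A) : P) * ((Additive.toMul b : A) : P)) * y = _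
          push_cast [toMul_add, toMul_ofMul]
          group)) }
    let T' : AddMonoid.End (Additive A) := T
    let φ : ℤ[X] →ₐ[ℤ] AddMonoid.End (Additive A) := aeval T'
    let ψ : ℤ[X] → (Additive A →+ Additive A) := fun f => φ f
    have hadd : ∀ (f g : ℤ[X]) (a : Additive A), ψ (f + g) a = ψ f a + ψ g a := fun f g a => by
      show (φ (f + g)) a = _
      rw [map_add]; rfl
    have hsub : ∀ (f g : ℤ[X]) (a : Additive A), ψ (f - g) a = ψ f a - ψ g a := fun f g a => by
      show (φ (f - g)) a = _
      rw [map_sub]; rfl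
    have hmul : ∀ (f g : ℤ[X]) (a : Additive A), ψ (f * g) a = ψ f (ψ g a) := fun f g a => by
      show (φ (f * g)) a = _
      rw [map_mul]; rfl
    have hone : ∀ a : Additive A, ψ 1 a = a := fun a => by
      show (φ 1) a = _
      rw [map_one]; rfl
    have hzero : ∀ a : Additive A, ψ 0 a = 0 := fun a => by
      show (φ 0) a = _
      rw [map_zero]; rfl
    have hX : ∀ a : Additive A, ψ X a = T a := fun a => by
      show (aeval T' (X : ℤ[X])) a = _
      rw [aeval_X]
      rfl
    have hTi : ∀ (i : ℕ) (a : A), ((Additive.toMul (ψ (X ^ i) (Additive.ofMul a)) : A) : P) =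
        (y ^ i)⁻¹ * a * y ^ i := by
      intro i
      induction i with
      | zero => intro a; rw [pow_zero, hone]; simp
      | succ i ih =>
        intro a
        rw [pow_succ', hmul, hX]
        show y⁻¹ * ((Additive.toMul (ψ (X ^ i) (Additive.ofMul a)) : A) : P) * y = _
        rw [ih a, pow_succ]
        group
    have hp0 : ∀ a : Additive A, ψ (C (p : ℤ)) a = 0 := by
      intro a
      show (φ (C (p : ℤ))) a = 0
      rw [show φ (C (p : ℤ)) = (p : AddMonoid.End (Additive A)) from by
        show aeval T' (C (p : ℤ)) = _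
        simp, AddMonoid.End.natCast_apply]
      exact Additive.toMul.injective (Subtype.ext (by simp [hA.2 _ (Additive.toMul a : A).2]))
    set S : ℤ[X] := X - 1
    have hNx : ((Additive.toMul (ψ (S ^ (p - 1)) (Additive.ofMul (⟨x, hx⟩ : A))) : A) : P) = w := by
      obtain ⟨q, hq⟩ := C_dvd_sub_pow p
      rw [sub_eq_iff_eq_add.1 hq, hadd, hmul, hp0, zero_add, hw]
      suffices ∀ n : ℕ, ((Additive.toMul (ψ (∑ i ∈ Finset.range n, X ^ i) (Additive.ofMul (⟨x, hx⟩ : A))) : A) : P) =
          ((List.range n).map (fun i => (y ^ i)⁻¹ * x * y ^ i)).prod from this p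
      intro n
      induction n with
      | zero => rw [Finset.sum_range_zero, hzero]; simp
      | succ n ih =>
        rw [Finset.sum_range_succ, hadd, toMul_add, Subgroup.coe_mul, ih,
          hTi, List.range_succ, List.map_append, List.prod_append]
        simp
    have hSp : ∀ a : Additive A, ψ (S ^ p) a = 0 := by
      intro a
      obtain ⟨q, hq⟩ := C_dvd_sub_pow p
      have h1 : S ^ p = C (p : ℤ) * (q * S) + (X ^ p - 1) := by
        calc S ^ p = S ^ (p - 1) * S := by rw [← pow_succ, Nat.sub_add_cancel hp.out.one_le]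
          _ = (C (p : ℤ) * q + ∑ i ∈ Finset.range p, X ^ i) * S := by rw [← sub_eq_iff_eq_add.1 hq]
          _ = _ := by rw [add_mul, geom_sum_mul, mul_assoc]
      rw [h1, hadd, hmul, hp0, zero_add, hsub, hone, sub_eq_zero]
      refine Additive.toMul.injective (Subtype.ext ?_)
      have h2 := hTi p (Additive.toMul a)
      rw [ofMul_toMul] at h2
      rw [h2, mul_assoc, hcomm _ (Additive.toMul a : A).2 _ hyp', inv_mul_cancel_left]
    -- the chain `B k`
    let D : AddSubgroup (Additive A) := (Cc.subgroupOf A).toAddSubgroup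
    let B : ℕ → AddSubgroup (Additive A) := fun k => (ψ (S ^ k)).range ⊔ D
    have hDS : D.map (ψ S) ≤ D := by
      rintro _ ⟨a, ha, rfl⟩
      rw [hsub, hone, hX]
      refine D.sub_mem ?_ ha
      show y⁻¹ * ((Additive.toMul a : A) : P) * y ∈ Cc
      simpa using (inferInstance : Cc.Normal).conj_mem _ (show ((Additive.toMul a : A) : P) ∈ Cc from ha) y⁻¹
    have hstep : ∀ k, B (k + 1) = (B k).map (ψ S) ⊔ D := by
      intro k
      show _ = ((ψ (S ^ k)).range ⊔ D).map (ψ S) ⊔ D
      rw [AddSubgroup.map_sup, sup_assoc, sup_eq_right.2 hDS, ← AddMonoidHom.range_comp]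
      show (ψ (S ^ (k + 1))).range ⊔ D = _
      congr 2
      refine AddMonoidHom.ext fun a => ?_
      rw [pow_succ', hmul]
      rfl
    have hdec : ∀ k, B (k + 1) ≤ B k := by
      intro k
      refine sup_le ?_ le_sup_right
      rintro _ ⟨a, rfl⟩
      rw [pow_succ, hmul]
      exact AddSubgroup.mem_sup_left ⟨ψ S a, rfl⟩
    have hBp : B p = D := by
      refine sup_eq_right.2 ?_
      rintro _ ⟨a, rfl⟩
      rw [hSp a]; exact D.zero_mem
    have hD' : D.index = p ^ j := by rw [← hj]; exact (Cc.subgroupOf A).index_toAddSubgroup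
    have hdiv : ∀ k, (B (k + 1)).relIndex (B k) ∣ p ^ j := fun k => hD' ▸
      (Dvd.intro _ (AddSubgroup.relIndex_mul_index (hdec k))).trans
        (AddSubgroup.index_dvd_of_le le_sup_right)
    have hchain : ∀ k, B k = D ∨ p ^ k ∣ (B k).index := by
      intro k
      induction k with
      | zero => exact Or.inr (by simp)
      | succ k ih =>
        by_cases he : B (k + 1) = B k
        · left
          have hst : ∀ i, B (k + i) = B k := by
            intro i
            induction i with
            | zero => rfl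
            | succ i ih' => rw [← Nat.add_assoc, hstep, ih', ← hstep, he]
          rw [he]
          rcases Nat.lt_or_ge k p with hk | hk
          · rw [← hst (p - k), Nat.add_sub_cancel' hk.le, hBp]
          · have hle : ∀ m, p ≤ m → B m ≤ D := by
              intro m hm
              induction m, hm using Nat.le_induction with
              | base => exact hBp.le
              | succ m _ ihm => exact (hdec m).trans ihm
            exact le_antisymm (hle k hk) le_sup_right
        · rcases ih with ih | ih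
          · exact absurd (le_antisymm (hdec k) (by rw [ih]; exact le_sup_right)) he
          · right
            rw [pow_succ', ← AddSubgroup.relIndex_mul_index (hdec k)]
            refine Nat.mul_dvd_mul ?_ ih
            obtain ⟨i, hi⟩ := (Nat.dvd_prime_pow hp.out).1 (hdiv k)
            rcases Nat.eq_zero_or_pos i with h0 | h0
            · rw [h0, pow_zero] at hi
              exact absurd (le_antisymm (hdec k) (AddSubgroup.relIndex_eq_one.1 hi.2)) he
            · rw [hi.2]; exact dvd_pow_self p h0.ne'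
    have hD : D.index = p ^ j := by rw [← hj]; exact (Cc.subgroupOf A).index_toAddSubgroup
    rcases hchain (p - 1) with h | h
    · refine hwH (hCH ?_)
      rw [← hNx]
      have hmem : ψ (S ^ (p - 1)) (Additive.ofMul (⟨x, hx⟩ : A)) ∈ B (p - 1) :=
        AddSubgroup.mem_sup_left ⟨_, rfl⟩
      rw [h] at hmem
      exact hmem
    · have h1 : p ^ (p - 1) ∣ p ^ j := hD ▸ h.trans (AddSubgroup.index_dvd_of_le le_sup_right)
      have h2 : p - 1 ≤ j := (Nat.pow_dvd_pow_iff_le_right hp.out.one_lt).1 h1
      have hje : j = p - 1 := by omega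
      have h3 : (B (p - 1)).index = D.index := Nat.dvd_antisymm (AddSubgroup.index_dvd_of_le le_sup_right)
        (by rw [hD, hje]; exact h)
      have h4 : B (p - 1) = D := by
        refine le_antisymm (AddSubgroup.relIndex_eq_one.1 ?_) le_sup_right
        have := AddSubgroup.relIndex_mul_index (le_sup_right : D ≤ B (p - 1))
        rw [h3] at this
        exact (Nat.mul_eq_right (by rw [hD]; exact pow_ne_zero _ hp.out.ne_zero)).1 this
      refine hwH (hCH ?_)
      rw [← hNx]
      have hmem : ψ (S ^ (p - 1)) (Additive.ofMul (⟨x, hx⟩ : A)) ∈ B (p - 1) :=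
        AddSubgroup.mem_sup_left ⟨_, rfl⟩
      rw [h4] at hmem
      exact hmem
  -- the permutation representation
  haveI := Fintype.ofFinite (P ⧸ H)
  let e : P ⧸ H ≃ Fin (p ^ 2) := Finite.equivFinOfCardEq (by rw [← Subgroup.index_eq_card, hHindex])
  let f₀ : P →* Equiv.Perm (Fin (p ^ 2)) :=
    (e.permCongrHom : Equiv.Perm (P ⧸ H) →* Equiv.Perm (Fin (p ^ 2))).comp (MulAction.toPermHom P (P ⧸ H))
  obtain ⟨Q, hQ⟩ := ((hP.to_subgroup ⊤).map f₀).exists_le_sylow
  have hmem : ∀ g, f₀ g ∈ (Q : Subgroup (Equiv.Perm (Fin (p ^ 2)))) := fun g => hQ ⟨g, mem_top g, rfl⟩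
  refine ⟨Q, f₀.codRestrict _ hmem, ?_⟩
  have hker : (f₀.codRestrict _ hmem).ker = Cc := by
    rw [MonoidHom.ker_codRestrict, hCc, normalCore_eq_ker]
    exact MonoidHom.ker_comp_of_injective _ _ e.permCongrHom.injective
  have hQcard : Nat.card (Q : Subgroup (Equiv.Perm (Fin (p ^ 2)))) = p ^ (p + 1) := by
    rw [Q.card_eq_multiplicity, Nat.card_perm, Nat.card_fin, factorization_factorial_sq]
  rw [← MonoidHom.range_eq_top]
  refine eq_top_of_le_card _ ?_
  rw [hQcard, ← Nat.card_congr (QuotientGroup.quotientKerEquivRange _).toEquiv, hker,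
    ← Subgroup.index_eq_card, ← relIndex_mul_index hCA, hidx, pow_succ]
  exact Nat.mul_le_mul_right p hbig


/-- Let P be a finite p-group with a normal elementary abelian subgroup A of index p, and let x ∈ A and y ∈ P with y outside A. If the product of the p conjugates y^(-i) x y^i (i = 0, …, p−1) is not the identity, then the wreath product Z_p ≀ Z_p, realised as a Sylow p-subgroup of the symmetric group of degree p², is a homomorphic image of P. -/
theorem result {P : Type*} [Group P] [Finite P] {p : ℕ} [Fact p.Prime] (hP : IsPGroup p P) (A : Subgroup P) [A.Normal]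
    (hA : Cfsg.IsElementaryAbelian p A) (hidx : A.index = p) (x y : P) (hx : x ∈ A) (hy : y ∉ A)
    (hprod : ((List.range p).map (fun i => (y ^ i)⁻¹ * x * y ^ i)).prod ≠ 1) :
    ∃ (Q : Sylow p (Equiv.Perm (Fin (p ^ 2)))) (f : P →* ↥(Q : Subgroup (Equiv.Perm (Fin (p ^ 2))))), Function.Surjective f := by
  exact wreath_quotient hP A hA hidx x y hx hy hprod

end Cfsg.Agent.S1952
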