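import Cfsg.Statements.S2299

import Cfsg.Agent.Lib.Char.SLTwoValues

set_option autoImplicit false
open Cfsg

namespace Cfsg.Agent.S2299

/-- Over a finite field F with q elements, q odd, every irreducible complex character of SL₂ has degree 1, q, q + 1, q − 1, (q + 1)/2 or (q − 1)/2; and when q ≥ 5 (so that these six numbers are distinct) there are exactly one irreducible character of degree 1, one of degree q, (q − 3)/2 of degree q + 1, (q − 1)/2 of degree q − 1, two of degree (q + 1)/2 and two of degree (q − 1)/2. -/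
theorem result {F : Type*} [Field F] [Fintype F] (hodd : Odd (Fintype.card F)) :
    (∀ χ : Matrix.SpecialLinearGroup (Fin 2) F → ℂ, Cfsg.IsIrrCharacter (Matrix.SpecialLinearGroup (Fin 2) F) χ →
      χ 1 = 1 ∨ χ 1 = (Fintype.card F : ℂ) ∨ χ 1 = (Fintype.card F : ℂ) + 1 ∨ χ 1 = (Fintype.card F : ℂ) - 1 ∨
        χ 1 = (((Fintype.card F + 1) / 2 : ℕ) : ℂ) ∨ χ 1 = (((Fintype.card F - 1) / 2 : ℕ) : ℂ)) ∧
    (5 ≤ Fintype.card F →
      Nat.card {χ : Cfsg.IrrCharacter (Matrix.SpecialLinearGroup (Fin 2) F) // (χ : Matrix.SpecialLinearGroup (Fin 2) F → ℂ) 1 = 1} = 1 ∧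
      Nat.card {χ : Cfsg.IrrCharacter (Matrix.SpecialLinearGroup (Fin 2) F) // (χ : Matrix.SpecialLinearGroup (Fin 2) F → ℂ) 1 = (Fintype.card F : ℂ)} = 1 ∧
      Nat.card {χ : Cfsg.IrrCharacter (Matrix.SpecialLinearGroup (Fin 2) F) // (χ : Matrix.SpecialLinearGroup (Fin 2) F → ℂ) 1 = (Fintype.card F : ℂ) + 1} = (Fintype.card F - 3) / 2 ∧
      Nat.card {χ : Cfsg.IrrCharacter (Matrix.SpecialLinearGroup (Fin 2) F) // (χ : Matrix.SpecialLinearGroup (Fin 2) F → ℂ) 1 = (Fintype.card F : ℂ) - 1} = (Fintype.card F - 1) / 2 ∧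
      Nat.card {χ : Cfsg.IrrCharacter (Matrix.SpecialLinearGroup (Fin 2) F) // (χ : Matrix.SpecialLinearGroup (Fin 2) F → ℂ) 1 = (((Fintype.card F + 1) / 2 : ℕ) : ℂ)} = 2 ∧
      Nat.card {χ : Cfsg.IrrCharacter (Matrix.SpecialLinearGroup (Fin 2) F) // (χ : Matrix.SpecialLinearGroup (Fin 2) F → ℂ) 1 = (((Fintype.card F - 1) / 2 : ℕ) : ℂ)} = 2) := by
  classical
  open CfsgLib.Char.TwoChars in
  have hq2 : 2 ≤ Fintype.card F := Fintype.one_lt_card
  refine ⟨fun χ hχ => ?_, fun hq => ?_⟩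
  · rcases sl_deg_cases (⟨χ, hχ⟩ : Cfsg.IrrCharacter _) with ⟨-, e⟩ | ⟨-, e⟩ | ⟨_, -, -, e⟩ | ⟨-, e⟩ | ⟨-, e⟩ | ⟨-, e⟩
    · exact Or.inl e
    · exact Or.inr (Or.inl e)
    · exact Or.inr (Or.inr (Or.inl e))
    · exact Or.inr (Or.inr (Or.inr (Or.inr (Or.inl ((eq_half_add_iff hodd).2 e)))))
    · exact Or.inr (Or.inr (Or.inr (Or.inl e)))
    · exact Or.inr (Or.inr (Or.inr (Or.inr (Or.inr ((eq_half_sub_iff hodd).2 e)))))
  · obtain ⟨cP, cH, cD2, cD1⟩ := sl_counts (F := F)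
    rw [if_pos hodd] at cP cH cD2 cD1
    refine ⟨?_, ?_, ?_, ?_, ?_, ?_⟩
    · refine Nat.card_eq_one_iff_unique.2 ⟨⟨fun a b => Subtype.ext (Subtype.ext ?_)⟩, ⟨⟨⟨_, CfsgLib.Char.isIrrCharacter_one⟩, rfl⟩⟩⟩
      rw [sl_deg_one (by omega) a.1 a.2, sl_deg_one (by omega) b.1 b.2]
    · refine Nat.card_eq_one_iff_unique.2 ⟨⟨fun a b => Subtype.ext (Subtype.ext ?_)⟩, ⟨⟨⟨_, isIrr_stSL⟩, stSL_one⟩⟩⟩
      rw [sl_deg_q a.1 a.2, sl_deg_q b.1 b.2]
    · have e : Nat.card {χ : Cfsg.IrrCharacter (Matrix.SpecialLinearGroup (Fin 2) F) //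
          (χ : Matrix.SpecialLinearGroup (Fin 2) F → ℂ) 1 = (Fintype.card F : ℂ) + 1} = _ :=
        Nat.card_congr (Equiv.subtypeEquivRight
        (q := fun χ : Cfsg.IrrCharacter (Matrix.SpecialLinearGroup (Fin 2) F) =>
          ∃ α, α ^ 2 ≠ 1 ∧ (χ : Matrix.SpecialLinearGroup (Fin 2) F → ℂ) = psSL α) fun χ => ⟨sl_deg_q_add χ, ?_⟩)
      · omega
      · rintro ⟨α, -, e⟩; rw [e, psSL_one]
    · have e : Nat.card {χ : Cfsg.IrrCharacter (Matrix.SpecialLinearGroup (Fin 2) F) //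
          (χ : Matrix.SpecialLinearGroup (Fin 2) F → ℂ) 1 = (Fintype.card F : ℂ) - 1} = _ :=
        Nat.card_congr (Equiv.subtypeEquivRight
        (q := fun χ : Cfsg.IrrCharacter (Matrix.SpecialLinearGroup (Fin 2) F) =>
          IsCuspSL (χ : Matrix.SpecialLinearGroup (Fin 2) F → ℂ) ∧
            (χ : Matrix.SpecialLinearGroup (Fin 2) F → ℂ) 1 = (Fintype.card F : ℂ) - 1)
        fun χ => ⟨fun h => ⟨sl_deg_q_sub (by omega) χ h, h⟩, fun h => h.2⟩)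
      omega
    · refine (Nat.card_congr (Equiv.subtypeEquivRight fun χ => ?_)).trans cH
      rw [eq_half_add_iff hodd]
      exact ⟨sl_deg_half_add (by omega) χ, halfPS_deg⟩
    · refine (Nat.card_congr (Equiv.subtypeEquivRight fun χ => ?_)).trans cD2
      rw [eq_half_sub_iff hodd]
      exact ⟨sl_deg_half_sub (by omega) χ, fun h => h.2⟩

end Cfsg.Agent.S2299
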