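import Cfsg.Statements.S0255
import Cfsg.Agent.S0495
import Cfsg.Agent.Lib.Classical.SLBasic
import Cfsg.Agent.Lib.Classical.SLNormalized

set_option autoImplicit false
open Cfsg

namespace Cfsg.Agent.S0255

/-- PSL_2(7) is isomorphic to PSL_3(2). -/
theorem result {F K : Type*} [Field F] [Fintype F] [Field K] [Fintype K] (hF : Fintype.card F = 7) (hK : Fintype.card K = 2) : Nonempty (Matrix.ProjectiveSpecialLinearGroup (Fin 2) F ≃* Matrix.ProjectiveSpecialLinearGroup (Fin 3) K) := by
  classical
  obtain ⟨-, hs⟩ := CfsgLib.Classical.sl_perfect_and_psl_simple (F := K) (n := 3) (by omega) (by omega)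
  haveI : IsSimpleGroup (Matrix.ProjectiveSpecialLinearGroup (Fin 3) K) := hs
  have h := CfsgLib.Classical.card_psl_mul (F := K) (n := 3) (by omega)
  rw [hK] at h
  norm_num [Fin.prod_univ_three] at h
  exact (Cfsg.Agent.S0495.result (Nat.card_eq_fintype_card.trans h) hF).map MulEquiv.symm

end Cfsg.Agent.S0255
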