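import Cfsg.Statements.S2324

import Cfsg.Agent.Lib.Char.SLTwoValues

set_option autoImplicit false
open Cfsg

namespace Cfsg.Agent.S2324

/-- Over a finite field F with q elements, q odd and q ≥ 5, let u be the upper unitriangular matrix of SL₂ with off-diagonal entry 1 and let δ = (−1)^((q−1)/2). Every irreducible complex character χ of SL₂ of degree (q + 1)/2 satisfies (2χ(u) − 1)² = δq, and every irreducible complex character χ of degree (q − 1)/2 satisfies (2χ(u) + 1)² = δq; that is, χ(u) = (1 ± √(δq))/2 in the first case and χ(u) = (−1 ± √(δq))/2 in the second. Moreover two different irreducible characters of degree (q + 1)/2 take the two different values (their values at u add up to 1), and likewise for degree (q − 1)/2 (values adding up to −1). -/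
theorem result {F : Type*} [Field F] [Fintype F] (hodd : Odd (Fintype.card F)) (hq : 5 ≤ Fintype.card F)
    (u : Matrix.SpecialLinearGroup (Fin 2) F) (hu : (u : Matrix (Fin 2) (Fin 2) F) = !![1, 1; 0, 1]) :
    (∀ χ : Matrix.SpecialLinearGroup (Fin 2) F → ℂ, Cfsg.IsIrrCharacter (Matrix.SpecialLinearGroup (Fin 2) F) χ → χ 1 = (((Fintype.card F + 1) / 2 : ℕ) : ℂ) → (2 * χ u - 1) ^ 2 = (-1 : ℂ) ^ ((Fintype.card F - 1) / 2) * (Fintype.card F : ℂ)) ∧
    (∀ χ : Matrix.SpecialLinearGroup (Fin 2) F → ℂ, Cfsg.IsIrrCharacter (Matrix.SpecialLinearGroup (Fin 2) F) χ → χ 1 = (((Fintype.card F - 1) / 2 : ℕ) : ℂ) → (2 * χ u + 1) ^ 2 = (-1 : ℂ) ^ ((Fintype.card F - 1) / 2) * (Fintype.card F : ℂ)) ∧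
    (∀ χ₁ χ₂ : Matrix.SpecialLinearGroup (Fin 2) F → ℂ, Cfsg.IsIrrCharacter (Matrix.SpecialLinearGroup (Fin 2) F) χ₁ → Cfsg.IsIrrCharacter (Matrix.SpecialLinearGroup (Fin 2) F) χ₂ → χ₁ ≠ χ₂ →
      χ₁ 1 = (((Fintype.card F + 1) / 2 : ℕ) : ℂ) → χ₂ 1 = (((Fintype.card F + 1) / 2 : ℕ) : ℂ) → χ₁ u + χ₂ u = 1) ∧
    (∀ χ₁ χ₂ : Matrix.SpecialLinearGroup (Fin 2) F → ℂ, Cfsg.IsIrrCharacter (Matrix.SpecialLinearGroup (Fin 2) F) χ₁ → Cfsg.IsIrrCharacter (Matrix.SpecialLinearGroup (Fin 2) F) χ₂ → χ₁ ≠ χ₂ →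
      χ₁ 1 = (((Fintype.card F - 1) / 2 : ℕ) : ℂ) → χ₂ 1 = (((Fintype.card F - 1) / 2 : ℕ) : ℂ) → χ₁ u + χ₂ u = -1) := by
  classical
  open CfsgLib.Char.TwoChars in
  have he : u = elS (1 : Fˣ) (1 : F) := Subtype.ext (by rw [hu, elS_val]; simp)
  have h4 : 4 ≤ Fintype.card F := by omega
  obtain ⟨ν, hν⟩ := FiniteField.exists_nonsquare (CfsgLib.Char.TwoClasses.ringChar_ne_two_of_odd hodd)
  obtain ⟨ν, rfl⟩ : ∃ u : Fˣ, (u : F) = ν := ⟨Units.mk0 ν fun h => hν (h ▸ IsSquare.zero), rfl⟩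
  have hR := repUnip_odd hodd hν
  obtain ⟨cP, cH, cD2, cD1⟩ := sl_counts (F := F)
  rw [if_pos hodd] at cH cD2
  have hp : ∀ χ : Cfsg.IrrCharacter (Matrix.SpecialLinearGroup (Fin 2) F), IsHalfPS χ →
      sigIrr ν χ ≠ χ ∧ χ.1 (elS (1 : Fˣ) (1 : F)) + χ.1 (elS (1 : Fˣ) (ν : F)) = 1 := by
    intro χ h
    obtain ⟨α, h2, h1, e, hne, -⟩ := halfPS_data h hR
    refine ⟨hne, ?_⟩
    have e' := congrFun e (elS (1 : Fˣ) (1 : F))
    rw [psSL_unip_val α one_ne_zero, Pi.add_apply, sigIrr_apply, sigS_elS, mul_one] at e'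
    exact e'.symm
  have hc : ∀ χ : Cfsg.IrrCharacter (Matrix.SpecialLinearGroup (Fin 2) F), IsCuspHalf χ →
      sigIrr ν χ ≠ χ ∧ χ.1 (elS (1 : Fˣ) (1 : F)) + χ.1 (elS (1 : Fˣ) (ν : F)) = -1 := by
    intro χ h
    rcases cusp_dichotomy χ h.1 hR with ⟨h', -⟩ | ⟨-, hs, hne⟩
    · exfalso
      have h'' := h.2
      rw [h'] at h''
      have h2 : (Fintype.card F : ℂ) = ((1 : ℕ) : ℂ) := by push_cast; linear_combination h''
      have : Fintype.card F = 1 := by exact_mod_cast h2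
      omega
    · refine ⟨fun e => hne ?_, hs⟩
      conv_lhs => rw [← e, sigIrr_apply, sigS_elS, mul_one]
  refine ⟨fun χ hχ h => ?_, fun χ hχ h => ?_, fun a b ha hb hab hda hdb => ?_, fun a b ha hb hab hda hdb => ?_⟩
  · rw [he]
    have h' := (eq_half_add_iff hodd).1 h
    have := gauss_value hodd hν ⟨χ, hχ⟩ (S := 1) (by push_cast; exact (hp _ (sl_deg_half_add h4 ⟨χ, hχ⟩ h')).2)
      (by push_cast; exact h')
    push_cast at this
    exact this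
  · rw [he]
    have h' := (eq_half_sub_iff hodd).1 h
    have := gauss_value hodd hν ⟨χ, hχ⟩ (S := -1) (by push_cast; exact (hc _ (sl_deg_half_sub h4 ⟨χ, hχ⟩ h')).2)
      (by push_cast; rw [← sub_eq_add_neg]; exact h')
    push_cast at this
    rw [← sub_neg_eq_add]
    exact this
  · rw [he]
    have hA := sl_deg_half_add h4 ⟨a, ha⟩ ((eq_half_add_iff hodd).1 hda)
    have hB := sl_deg_half_add h4 ⟨b, hb⟩ ((eq_half_add_iff hodd).1 hdb)
    obtain ⟨hne, hs⟩ := hp _ hA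
    obtain ⟨α, -, -, e, -, -⟩ := halfPS_data hA hR
    have hsig : IsHalfPS (sigIrr ν ⟨a, ha⟩) := by
      obtain ⟨α, h2, h1, h⟩ := hA
      exact ⟨α, h2, h1, by rw [classInner_psSL_sigIrr]; exact h⟩
    obtain ⟨x, y, -, huniv⟩ := Nat.card_eq_two_iff.1 cH
    have key : sigIrr ν ⟨a, ha⟩ = ⟨b, hb⟩ := by
      have h1 : (⟨_, hA⟩ : {c // IsHalfPS c}) ∈ ({x, y} : Set _) := huniv ▸ Set.mem_univ _
      have h2 : (⟨_, hB⟩ : {c // IsHalfPS c}) ∈ ({x, y} : Set _) := huniv ▸ Set.mem_univ _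
      have h3 : (⟨_, hsig⟩ : {c // IsHalfPS c}) ∈ ({x, y} : Set _) := huniv ▸ Set.mem_univ _
      simp only [Set.mem_insert_iff, Set.mem_singleton_iff] at h1 h2 h3
      by_contra hk
      have n1 : (⟨_, hsig⟩ : {c // IsHalfPS c}) ≠ ⟨_, hA⟩ := fun e => hne (congrArg Subtype.val e)
      have n2 : (⟨_, hsig⟩ : {c // IsHalfPS c}) ≠ ⟨_, hB⟩ := fun e => hk (congrArg Subtype.val e)
      have n3 : (⟨_, hA⟩ : {c // IsHalfPS c}) ≠ ⟨_, hB⟩ := fun e => hab (congrArg (fun z => z.1.1) e)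
      grind
    have hbu : b (elS (1 : Fˣ) (1 : F)) = a (elS (1 : Fˣ) (ν : F)) := by
      have := congrArg (fun z : Cfsg.IrrCharacter _ => z.1 (elS (1 : Fˣ) (1 : F))) key
      simpa [sigIrr_apply, sigS_elS] using this.symm
    rw [hbu]
    exact hs
  · rw [he]
    have hA := sl_deg_half_sub h4 ⟨a, ha⟩ ((eq_half_sub_iff hodd).1 hda)
    have hB := sl_deg_half_sub h4 ⟨b, hb⟩ ((eq_half_sub_iff hodd).1 hdb)
    obtain ⟨hne, hs⟩ := hc _ hA
    have hsig : IsCuspHalf (sigIrr ν ⟨a, ha⟩) := by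
      refine ⟨fun α => by rw [classInner_psSL_sigIrr]; exact hA.1 α, ?_⟩
      rw [sigIrr_apply, map_one]; exact hA.2
    obtain ⟨x, y, -, huniv⟩ := Nat.card_eq_two_iff.1 cD2
    have key : sigIrr ν ⟨a, ha⟩ = ⟨b, hb⟩ := by
      have h1 : (⟨_, hA⟩ : {c // IsCuspHalf c}) ∈ ({x, y} : Set _) := huniv ▸ Set.mem_univ _
      have h2 : (⟨_, hB⟩ : {c // IsCuspHalf c}) ∈ ({x, y} : Set _) := huniv ▸ Set.mem_univ _
      have h3 : (⟨_, hsig⟩ : {c // IsCuspHalf c}) ∈ ({x, y} : Set _) := huniv ▸ Set.mem_univ _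
      simp only [Set.mem_insert_iff, Set.mem_singleton_iff] at h1 h2 h3
      by_contra hk
      have n1 : (⟨_, hsig⟩ : {c // IsCuspHalf c}) ≠ ⟨_, hA⟩ := fun e => hne (congrArg Subtype.val e)
      have n2 : (⟨_, hsig⟩ : {c // IsCuspHalf c}) ≠ ⟨_, hB⟩ := fun e => hk (congrArg Subtype.val e)
      have n3 : (⟨_, hA⟩ : {c // IsCuspHalf c}) ≠ ⟨_, hB⟩ := fun e => hab (congrArg (fun z => z.1.1) e)
      grind
    have hbu : b (elS (1 : Fˣ) (1 : F)) = a (elS (1 : Fˣ) (ν : F)) := by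
      have := congrArg (fun z : Cfsg.IrrCharacter _ => z.1 (elS (1 : Fˣ) (1 : F))) key
      simpa [sigIrr_apply, sigS_elS] using this.symm
    rw [hbu]
    exact hs

end Cfsg.Agent.S2324
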