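import Cfsg.Statements.S1250
import Cfsg.Agent.Lib.Invol.Basic


set_option autoImplicit false
open Cfsg

namespace Cfsg.Agent.S1250

/-- Let S be a Sylow p-subgroup of the finite group G, A ≤ S strongly closed in S, and N a normal subgroup. Then the image of A in G ⧸ N is strongly closed in the image of S (which is a Sylow p-subgroup of G ⧸ N). -/
theorem result {G : Type*} [Group G] [Finite G] {p : ℕ} [Fact p.Prime] (S : Sylow p G) (A : Subgroup G) (hA : Cfsg.IsStronglyClosed A (S : Subgroup G)) (N : Subgroup G) [N.Normal] : Cfsg.IsStronglyClosed (A.map (QuotientGroup.mk' N)) ((S : Subgroup G).map (QuotientGroup.mk' N)) := by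
  refine ⟨Subgroup.map_mono hA.1, ?_⟩
  rintro _ ⟨x, hx, rfl⟩ c hc
  obtain ⟨g, rfl⟩ := QuotientGroup.mk_surjective c
  obtain ⟨s, hs, hse⟩ := Subgroup.mem_map.1 hc
  set y := g * x * g⁻¹ with hy
  have hq : QuotientGroup.mk' N s = QuotientGroup.mk' N y := by
    rw [hse, hy, map_mul, map_mul, map_inv]; rfl
  have hn : s⁻¹ * y ∈ N := QuotientGroup.eq.1 hq
  set SN := (S : Subgroup G) ⊔ N with hSN
  have hyS : y ∈ SN := by
    have := mul_mem (Subgroup.mem_sup_left (T := N) hs) (Subgroup.mem_sup_right (S := (S : Subgroup G)) hn)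
    simpa using this
  have hyp : IsPGroup p (Subgroup.zpowers (⟨y, hyS⟩ : SN)) := by
    obtain ⟨k, hk⟩ := S.2 ⟨x, hA.1 hx⟩
    have hx1 : x ^ p ^ k = 1 := by simpa [Subtype.ext_iff] using hk
    refine fun ⟨e, he⟩ => ⟨k, ?_⟩
    obtain ⟨i, rfl⟩ := Subgroup.mem_zpowers_iff.1 he
    apply Subtype.ext; apply Subtype.ext
    push_cast
    rw [← zpow_natCast (y ^ i), ← zpow_mul, mul_comm, zpow_mul, zpow_natCast, hy, conj_pow, hx1]
    group
  obtain ⟨m, hm⟩ := CfsgLib.Invol.exists_conj_le_sylow hyp (S.subtype (le_sup_left : _ ≤ SN))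
  have hmy : (m : G) * y * (m : G)⁻¹ ∈ (S : Subgroup G) := by
    have := hm _ (Subgroup.mem_zpowers _)
    exact this
  obtain ⟨a, ha, n, hn', hmn⟩ := Subgroup.mem_sup_of_normal_right.1 m.2
  have hny : n * y * n⁻¹ ∈ (S : Subgroup G) := by
    have := mul_mem (mul_mem (inv_mem ha) hmy) ha
    rw [← hmn] at this
    convert this using 1
    group
  have hA' : n * y * n⁻¹ ∈ A := by
    have e : n * y * n⁻¹ = (n * g) * x * (n * g)⁻¹ := by rw [hy]; group
    rw [e]; exact hA.2 x hx _ (e ▸ hny)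
  refine Subgroup.mem_map.2 ⟨_, hA', ?_⟩
  have h1 : QuotientGroup.mk' N n = 1 := (QuotientGroup.eq_one_iff n).2 hn'
  rw [map_mul, map_mul, map_inv, h1, hy, map_mul, map_mul, map_inv]
  simp

end Cfsg.Agent.S1250
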