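import Cfsg.Statements.S1251
import Cfsg.Agent.Lib.Fusion.ZStarCenter
import Cfsg.Agent.Lib.Coprime.Solvable
import Cfsg.Agent.Lib.Invol.WeaklyClosed


set_option autoImplicit false
open Cfsg

namespace Cfsg.Agent.S1251

/-- Let S be a Sylow 2-subgroup of the finite group G and A ≤ S strongly closed in S. If H is a subgroup normalized by A with no nontrivial normal subgroup of odd order and A ∩ H = 1, then A ≤ C_G(H). -/
theorem result {G : Type*} [Group G] [Finite G] (S : Sylow 2 G) (A : Subgroup G) (hA : Cfsg.IsStronglyClosed A (S : Subgroup G)) (H : Subgroup G) (hAH : A ≤ Subgroup.normalizer (H : Set G)) (hO : Cfsg.oddCore ↥H = ⊥) (hdisj : A ⊓ H = ⊥) : A ≤ Subgroup.centralizer (H : Set G) := by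
  classical
  haveI : Fact (Nat.Prime 2) := ⟨Nat.prime_two⟩
  set K := H ⊔ A with hKdef
  set H' := H.subgroupOf K with hH'
  set A' := A.subgroupOf K with hA'
  haveI hH'n : H'.Normal :=
    Subgroup.normal_subgroupOf_of_le_normalizer (sup_le Subgroup.le_normalizer hAH)
  obtain ⟨T, hAT⟩ := (IsPGroup.of_equiv (S.2.to_le hA.1)
    (Subgroup.subgroupOfEquivOfLe (le_sup_right : A ≤ K)).symm).exists_le_sylow
  obtain ⟨k, hk⟩ := CfsgLib.Invol.exists_conj_le_sylow (T.2.map K.subtype) S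
  -- `A` is strongly closed in `T` relative to `K`
  have hkA : ∀ x : G, k * x * k⁻¹ ∈ A → x ∈ A := by
    have hle : A.map (MulAut.conj k).toMonoidHom ≤ A := by
      rintro _ ⟨a, ha, rfl⟩
      exact hA.2 a ha k (hk a ⟨⟨a, le_sup_right (a := H) ha⟩, hAT (Subgroup.mem_subgroupOf.2 ha), rfl⟩)
    have heq : A.map (MulAut.conj k).toMonoidHom = A := Subgroup.eq_of_le_of_card_ge hle
      (Nat.card_congr (A.equivMapOfInjective _ (MulAut.conj k).injective).toEquiv).le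
    intro x hx
    rw [← heq] at hx
    obtain ⟨a, ha, hae⟩ := hx
    rwa [← (MulAut.conj k).injective hae]
  have hcl : ∀ a ∈ A', ∀ y : K, y * a * y⁻¹ ∈ (T : Subgroup K) → y * a * y⁻¹ ∈ A' := by
    intro a ha y hy
    refine Subgroup.mem_subgroupOf.2 (hkA _ ?_)
    have h1 := hk _ (Subgroup.mem_map_of_mem K.subtype hy)
    have e : k * ((y * a * y⁻¹ : K) : G) * k⁻¹ = (k * y) * a * (k * (y : G))⁻¹ := by
      push_cast; group
    rw [e]
    exact hA.2 a (Subgroup.mem_subgroupOf.1 ha) _ (e ▸ h1)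
  have hTA : (T : Subgroup K) ≤ Subgroup.normalizer (A' : Set K) := by
    intro t ht
    refine Subgroup.mem_normalizer_iff.2 fun a => ⟨fun ha => hcl a ha t
      (mul_mem (mul_mem ht (hAT ha)) (inv_mem ht)), fun ha => ?_⟩
    have h1 := hcl _ ha t⁻¹ (mul_mem (mul_mem (inv_mem ht) (hAT ha)) (by rw [inv_inv]; exact ht))
    rwa [show t⁻¹ * (t * a * t⁻¹) * t⁻¹⁻¹ = a by group] at h1
  have hdec : ∀ y : K, ∃ h ∈ H', ∃ b ∈ A', y = h * b := by
    intro y
    have hy : y ∈ H' ⊔ A' := by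
      rw [hH', hA', ← Subgroup.subgroupOf_sup le_sup_left le_sup_right]
      exact Subgroup.mem_subgroupOf.2 y.2
    obtain ⟨h, hh, b, hb, rfl⟩ := Subgroup.mem_sup_of_normal_left.1 hy
    exact ⟨h, hh, b, hb, rfl⟩
  have hdisj' : ∀ x ∈ A', x ∈ H' → x = 1 := fun x hx hx' =>
    Subtype.ext (Subgroup.mem_bot.1
      (hdisj ▸ (⟨Subgroup.mem_subgroupOf.1 hx, Subgroup.mem_subgroupOf.1 hx'⟩ : (x : G) ∈ A ⊓ H)))
  set C := A' ⊓ Subgroup.centralizer (H' : Set K) with hC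
  haveI hCn : C.Normal := ⟨fun c hc y => by
    obtain ⟨h, hh, b, hb, rfl⟩ := hdec y
    have h1 : b * c * b⁻¹ ∈ C := ⟨A'.mul_mem (A'.mul_mem hb hc.1) (A'.inv_mem hb),
      (inferInstance : (Subgroup.centralizer (H' : Set K)).Normal).conj_mem c hc.2 b⟩
    have h2 : h * (b * c * b⁻¹) = b * c * b⁻¹ * h := Subgroup.mem_centralizer_iff.1 h1.2 h hh
    rwa [show h * b * c * (h * b)⁻¹ = h * (b * c * b⁻¹) * h⁻¹ by group, h2,
      mul_inv_cancel_right]⟩
  suffices hAC : A' ≤ C by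
    intro a ha
    refine Subgroup.mem_centralizer_iff.2 fun h hh => ?_
    have h1 := Subgroup.mem_centralizer_iff.1
      (hAC (show (⟨a, le_sup_right (a := H) ha⟩ : K) ∈ A' from Subgroup.mem_subgroupOf.2 ha)).2
      ⟨h, le_sup_left (b := A) hh⟩ (Subgroup.mem_subgroupOf.2 hh)
    exact congrArg Subtype.val h1
  by_contra hne
  set f := QuotientGroup.mk' C with hf
  have hfs : Function.Surjective f := QuotientGroup.mk'_surjective C
  set T' := T.mapSurjective hfs with hT'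
  have hT'c : (T' : Subgroup (K ⧸ C)) = (T : Subgroup K).map f := Sylow.coe_mapSurjective hfs T
  have hAT' : A'.map f ≤ (T' : Subgroup (K ⧸ C)) := hT'c ▸ Subgroup.map_mono hAT
  haveI : ((A'.map f).subgroupOf (T' : Subgroup (K ⧸ C))).Normal :=
    Subgroup.normal_subgroupOf_of_le_normalizer (by
      rw [hT'c]
      exact (Subgroup.map_mono hTA).trans (Subgroup.le_normalizer_map f))
  haveI : Group.IsNilpotent (T' : Subgroup (K ⧸ C)) := T'.2.isNilpotent
  have hmeet : (A'.map f).subgroupOf (T' : Subgroup (K ⧸ C)) ⊓ Subgroup.center _ ≠ ⊥ := by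
    refine CfsgLib.Coprime.nilpotent_inf_center_ne_bot _ ?_
    intro e
    refine hne fun a ha => ?_
    have h1 : (⟨f a, hAT' (Subgroup.mem_map_of_mem f ha)⟩ : (T' : Subgroup (K ⧸ C))) ∈
        (A'.map f).subgroupOf (T' : Subgroup (K ⧸ C)) :=
      Subgroup.mem_subgroupOf.2 (Subgroup.mem_map_of_mem f ha)
    rw [e, Subgroup.mem_bot] at h1
    exact (QuotientGroup.eq_one_iff a).1 (congrArg Subtype.val h1)
  obtain ⟨⟨⟨wv, hwT⟩, hwA, hwc⟩, hwne⟩ := Subgroup.ne_bot_iff_exists_ne_one.1 hmeet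
  obtain ⟨a, ha, hae⟩ := Subgroup.mem_subgroupOf.1 hwA
  set Z := A'.map f ⊓ Subgroup.centralizer ((T' : Subgroup (K ⧸ C)) : Set (K ⧸ C)) with hZ
  have haZ : f a ∈ Z := by
    refine ⟨Subgroup.mem_map_of_mem f ha, Subgroup.mem_centralizer_iff.2 fun t ht => ?_⟩
    rw [hae]
    exact congrArg Subtype.val (Subgroup.mem_center_iff.1 hwc ⟨t, ht⟩)
  have hclosed : ∀ z ∈ Z, ∀ g : K ⧸ C, g * z * g⁻¹ ∈ (T' : Subgroup (K ⧸ C)) →
      g * z * g⁻¹ = z := by
    intro z hz g hg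
    obtain ⟨b, hb, rfl⟩ := hz.1
    obtain ⟨y, rfl⟩ := hfs g
    rw [hT'c, ← map_inv, ← map_mul, ← map_mul] at hg
    obtain ⟨s, hs, hse⟩ := hg
    have hyT : y * b * y⁻¹ ∈ (T : Subgroup K) := by
      have h1 : s⁻¹ * (y * b * y⁻¹) ∈ C := (QuotientGroup.eq (s := C)).1 hse
      have h2 := mul_mem hs (hAT h1.1)
      rwa [mul_inv_cancel_left] at h2
    have hyA := hcl b hb y hyT
    obtain ⟨h, hh, c, hc, rfl⟩ := hdec y
    have hcb : f c * f b * (f c)⁻¹ = f b := by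
      rw [Subgroup.mem_centralizer_iff.1 hz.2 (f c) (hT'c ▸ Subgroup.mem_map_of_mem f (hAT hc)),
        mul_inv_cancel_right]
    set b' := c * b * c⁻¹ with hb'
    have hb'A : b' ∈ A' := mul_mem (mul_mem hc hb) (inv_mem hc)
    have hcomm : h * b' * h⁻¹ * b'⁻¹ = 1 := by
      refine hdisj' _ (mul_mem ?_ (inv_mem hb'A)) ?_
      · rwa [hb', show h * (c * b * c⁻¹) * h⁻¹ = h * c * b * (h * c)⁻¹ by group]
      · rw [show h * b' * h⁻¹ * b'⁻¹ = h * (b' * h⁻¹ * b'⁻¹) by group]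
        exact mul_mem hh (hH'n.conj_mem _ (inv_mem hh) b')
    have he : h * c * b * (h * c)⁻¹ = b' := by
      rw [show h * c * b * (h * c)⁻¹ = h * b' * h⁻¹ by rw [hb']; group]
      exact mul_inv_eq_one.1 hcomm
    rw [← map_inv, ← map_mul, ← map_mul, he, hb', map_mul, map_mul, map_inv, hcb]
  have hcentral := CfsgLib.Fusion.zcentral_of_closed_subgroup (K ⧸ C) T' Z
    (inf_le_left.trans hAT') hclosed (f a) haZ
  -- the part of the odd core of `K / C` coming from `H` is trivial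
  set M := (Cfsg.pPrimeCore 2 (K ⧸ C)).comap f ⊓ H' with hM
  haveI hMn : M.Normal := inferInstance
  have hMbot : M = ⊥ := by
    have hMH : M.map K.subtype ≤ H := by
      rintro _ ⟨m, hm, rfl⟩
      exact Subgroup.mem_subgroupOf.1 hm.2
    set M₀ := (M.map K.subtype).subgroupOf H with hM₀
    haveI : M₀.Normal := ⟨fun m hm h => by
      rw [hM₀, Subgroup.mem_subgroupOf] at hm ⊢
      obtain ⟨m', hm', hme⟩ := hm
      refine ⟨⟨h, le_sup_left (b := A) h.2⟩ * m' * ⟨h, le_sup_left (b := A) h.2⟩⁻¹,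
        hMn.conj_mem _ hm' _, ?_⟩
      rw [map_mul, map_mul, map_inv, hme]
      rfl⟩
    have hcard : ¬ 2 ∣ Nat.card M₀ := by
      intro h2
      rw [Nat.card_congr (Subgroup.subgroupOfEquivOfLe hMH).toEquiv,
        Subgroup.card_map_of_injective K.subtype_injective] at h2
      obtain ⟨⟨m, hm⟩, hmo⟩ := exists_prime_orderOf_dvd_card' 2 h2
      rw [Subgroup.orderOf_mk] at hmo
      have hfm : f m = 1 := by
        refine orderOf_eq_one_iff.1 (Nat.eq_one_of_dvd_coprimes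
          (CfsgLib.Coprime.pPrimeCore_coprime (G := K ⧸ C) Nat.prime_two)
          (Subgroup.orderOf_dvd_natCard _ hm.1) ((orderOf_map_dvd f m).trans hmo.dvd))
      have hm1 : m = 1 := hdisj' m ((QuotientGroup.eq_one_iff m).1 hfm).1 hm.2
      rw [hm1, orderOf_one] at hmo
      omega
    have h0 : M₀ = ⊥ := le_bot_iff.1
      (hO ▸ CfsgLib.Coprime.le_pPrimeCore_of_not_dvd Nat.prime_two hcard)
    refine eq_bot_iff.2 fun m hm => Subgroup.mem_bot.2 (Subtype.ext ?_)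
    have hmem : (⟨m, hMH (Subgroup.mem_map_of_mem _ hm)⟩ : H) ∈ M₀ :=
      Subgroup.mem_subgroupOf.2 (Subgroup.mem_map_of_mem _ hm)
    rw [h0, Subgroup.mem_bot] at hmem
    exact congrArg (Subtype.val : H → G) hmem
  refine hwne (Subtype.ext (Subtype.ext ?_))
  rw [← hae]
  refine (QuotientGroup.eq_one_iff a).2 ⟨ha, Subgroup.mem_centralizer_iff.2 fun h hh => ?_⟩
  have hmM : h * a * h⁻¹ * a⁻¹ ∈ M := by
    refine ⟨?_, ?_⟩
    · show f (h * a * h⁻¹ * a⁻¹) ∈ Cfsg.pPrimeCore 2 (K ⧸ C)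
      rw [map_mul, map_mul, map_mul, map_inv, map_inv]
      exact hcentral (f h)
    · rw [show h * a * h⁻¹ * a⁻¹ = h * (a * h⁻¹ * a⁻¹) by group]
      exact mul_mem hh (hH'n.conj_mem _ (inv_mem hh) a)
  rw [hMbot, Subgroup.mem_bot] at hmM
  exact mul_inv_eq_iff_eq_mul.1 (mul_inv_eq_one.1 hmM)

end Cfsg.Agent.S1251
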