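import Cfsg.Statements.S0675
import Mathlib
import Cfsg.Agent.Lib.Perm.Groups.BurnsidePrime

set_option autoImplicit false
open Cfsg

namespace Cfsg.Agent.S0675

/-- Burnside's Theorem on permutation groups of prime degree: a transitive permutation group of prime degree that is not solvable is doubly transitive. -/
theorem result {α : Type*} [Fintype α] [DecidableEq α] (hα : (Fintype.card α).Prime) (G : Subgroup (Equiv.Perm α)) [MulAction.IsPretransitive G α] : Group.IsSolvable G ∨ MulAction.IsMultiplyPretransitive G α 2 := by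
  classical
  obtain ⟨p, hpc⟩ : ∃ p, p = Fintype.card α := ⟨_, rfl⟩
  rw [← hpc] at hα
  haveI := Fact.mk hα
  haveI : NeZero p := ⟨hα.ne_zero⟩
  obtain ⟨a₀⟩ : Nonempty α := Fintype.card_pos_iff.1 (by have := hα.pos; omega)
  have hdvd : p ∣ Nat.card G := by
    have h1 := Nat.card_congr (MulAction.orbitProdStabilizerEquivGroup G a₀)
    rw [Nat.card_prod, MulAction.orbit_eq_univ, Nat.card_coe_set_eq, Set.ncard_univ, Nat.card_eq_fintype_card,
      ← hpc] at h1
    exact ⟨_, h1.symm⟩
  obtain ⟨c, hc⟩ := exists_prime_orderOf_dvd_card' p hdvd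
  have hsupp : (c : Equiv.Perm α).support = Finset.univ := by
    have hord : orderOf (c : Equiv.Perm α) = p := by rw [Subgroup.orderOf_coe, hc]
    obtain ⟨i, hi⟩ := Equiv.Perm.cycleType_prime_order (hord.symm ▸ hα)
    have h1 := (c : Equiv.Perm α).sum_cycleType
    rw [hi, hord, Multiset.sum_replicate, smul_eq_mul] at h1
    apply Finset.eq_univ_of_card
    have h2 := Finset.card_le_univ (c : Equiv.Perm α).support
    have h3 : p ≤ (i + 1) * p := Nat.le_mul_of_pos_left p (by omega)
    omega
  have hper : ∀ a : α, MulAction.period c a = p := by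
    intro a
    have h1 : MulAction.period c a ∣ p := hc ▸ MulAction.period_dvd_orderOf c a
    refine ((Nat.dvd_prime hα).1 h1).resolve_left fun h => ?_
    have h2 : c • a = a := by
      have := MulAction.pow_period_smul c a
      rwa [h, pow_one] at this
    exact Equiv.Perm.mem_support.1 (hsupp ▸ Finset.mem_univ a) h2
  have hmod : ∀ (i : ℕ) (a : α), c ^ (i % p) • a = c ^ i • a := by
    intro i a
    conv_rhs => rw [← Nat.mod_add_div i p]
    rw [pow_add, pow_mul, ← hc, pow_orderOf_eq_one, one_pow, mul_one]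
  let e₀ : ZMod p → α := fun x => c ^ x.val • a₀
  have heinj : Function.Injective e₀ := by
    intro x y h
    apply ZMod.val_injective p
    by_contra hne
    have hlt := ZMod.val_lt x
    have hlt' := ZMod.val_lt y
    wlog hxy : x.val < y.val generalizing x y
    · exact this h.symm (Ne.symm hne) hlt' hlt (by omega)
    have h1 : c ^ (y.val - x.val) • a₀ = a₀ := by
      apply MulAction.injective (c ^ x.val)
      show c ^ x.val • c ^ (y.val - x.val) • a₀ = c ^ x.val • a₀
      rw [← mul_smul, ← pow_add, Nat.add_sub_cancel' hxy.le]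
      exact h.symm
    rw [MulAction.pow_smul_eq_iff_period_dvd, hper] at h1
    have := Nat.le_of_dvd (by omega) h1
    omega
  have hebij : Function.Bijective e₀ :=
    (Fintype.bijective_iff_injective_and_card e₀).2 ⟨heinj, by rw [ZMod.card, hpc]⟩
  let e : ZMod p ≃ α := Equiv.ofBijective e₀ hebij
  have hT : ∀ x y : ZMod p, c ^ y.val • e x = e (x + y) := by
    intro x y
    show c ^ y.val • c ^ x.val • a₀ = c ^ (x + y).val • a₀
    rw [← mul_smul, ← pow_add, ZMod.val_add, hmod, add_comm]
  let π : G → Equiv.Perm (ZMod p) := fun g => (e.trans (MulAction.toPerm g)).trans e.symm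
  have hπ : ∀ g x, e (π g x) = g • e x := fun g x => e.apply_symm_apply _
  obtain ⟨D, hD⟩ : ∃ D : Finset (ZMod p), D = Finset.univ.filter fun d => d ≠ 0 ∧
      ∃ g : G, g • e 0 = e 0 ∧ g • e 1 = e d := ⟨_, rfl⟩
  by_cases hfull : ∀ z : ZMod p, z ≠ 0 → z ∈ D
  · right
    rw [MulAction.is_two_pretransitive_iff]
    have hto : ∀ u v : α, u ≠ v → ∃ g : G, g • e 0 = u ∧ g • e 1 = v := by
      intro u v huv
      obtain ⟨x, rfl⟩ := e.surjective u
      obtain ⟨y, rfl⟩ := e.surjective v
      have h1 := hfull (y - x) (sub_ne_zero.2 fun h => huv (by rw [h]))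
      rw [hD, Finset.mem_filter] at h1
      obtain ⟨g, hg0, hg1⟩ := h1.2.2
      exact ⟨c ^ x.val * g, by rw [mul_smul, hg0, hT, zero_add], by rw [mul_smul, hg1, hT, sub_add_cancel]⟩
    intro a b a' b' hab hab'
    obtain ⟨g, hg0, hg1⟩ := hto a b hab
    obtain ⟨g', hg0', hg1'⟩ := hto a' b' hab'
    exact ⟨g' * g⁻¹, by rw [mul_smul, inv_smul_eq_iff.2 hg0.symm, hg0'], by rw [mul_smul, inv_smul_eq_iff.2 hg1.symm, hg1']⟩
  · left
    push_neg at hfull
    have h1D : (1 : ZMod p) ∈ D := by
      rw [hD, Finset.mem_filter]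
      exact ⟨Finset.mem_univ _, one_ne_zero, 1, one_smul _ _, one_smul _ _⟩
    have haff : ∀ g x, π g x = (π g 1 - π g 0) * x + π g 0 := by
      intro g
      refine CfsgLib.Perm.Groups.affine_of_diff_preserved (π g) (by simp [hD]) ⟨1, h1D⟩ hfull fun x => ?_
      refine Finset.eq_of_subset_of_card_le ?_ (le_of_eq (Finset.card_image_of_injective _ fun a b h =>
        add_left_cancel ((π g).injective (sub_left_inj.1 h))).symm)
      intro d' hd'
      obtain ⟨d, hd, rfl⟩ := Finset.mem_image.1 hd'
      rw [hD, Finset.mem_filter] at hd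
      obtain ⟨h, hh0, hh1⟩ := hd.2.2
      rw [hD, Finset.mem_filter]
      refine ⟨Finset.mem_univ _, fun hz => hd.2.1 ?_, c ^ (-(π g x)).val * g * c ^ x.val * h, ?_, ?_⟩
      · rw [sub_eq_zero] at hz
        simpa using (π g).injective hz
      · rw [mul_smul, mul_smul, mul_smul, hh0, hT, zero_add, ← hπ, hT, add_neg_cancel]
      · rw [mul_smul, mul_smul, mul_smul, hh1, hT, ← hπ, hT, add_comm d x, ← sub_eq_add_neg]
    have hπmul : ∀ g h x, π (g * h) x = π g (π h x) := fun g h x => e.injective (by rw [hπ, hπ, hπ, mul_smul])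
    have hπone : ∀ x, π 1 x = x := fun x => e.injective (by rw [hπ, one_smul])
    let χ : G →* ZMod p :=
      { toFun := fun g => π g 1 - π g 0
        map_one' := by rw [hπone, hπone, sub_zero]
        map_mul' := fun g h => by
          rw [hπmul, hπmul, haff g (π h 1), haff g (π h 0)]
          ring }
    obtain ⟨K, hK⟩ : ∃ K, K = χ.toHomUnits.ker := ⟨_, rfl⟩
    have hKmem : ∀ g ∈ K, ∀ x, π g x = x + π g 0 := by
      intro g hg x
      rw [hK, MonoidHom.mem_ker] at hg
      have h1 : π g 1 - π g 0 = 1 := congrArg Units.val hg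
      rw [haff g x, h1, one_mul]
    haveI : Group.IsSolvable K := isSolvable_of_comm fun g h => by
      apply Subtype.ext
      apply Subtype.ext
      refine Equiv.ext fun a => ?_
      obtain ⟨x, rfl⟩ := e.surjective a
      show ((g : G) * (h : G)) • e x = ((h : G) * (g : G)) • e x
      rw [← hπ, ← hπ, hπmul, hπmul, hKmem g g.2, hKmem h h.2, hKmem h h.2 (π g x), hKmem g g.2 x]
      congr 1
      ring
    exact solvable_of_ker_le_range K.subtype χ.toHomUnits (le_of_eq (by rw [Subgroup.range_subtype, hK]))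

end Cfsg.Agent.S0675
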