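import Cfsg.Statements.S1237
-- import your own Cfsg.Agent.* helpers here
import Cfsg.Agent.Lib.PGroup.TransInvol.RankTwo
import Cfsg.Agent.S1141

set_option autoImplicit false
open Cfsg

namespace Cfsg.Agent.S1237


/-- Let T be a finite 2-group of 2-rank exactly 2 (it has a Klein four-subgroup but no elementary abelian subgroup of order 8) admitting an automorphism φ such that any two involutions of T are carried to one another by a power of φ. Then T ≅ Z_{2^n} × Z_{2^n} for some n ≥ 1, or T is isomorphic to a Sylow 2-subgroup of PSU(3) over the field with 16 elements. -/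
theorem result {T : Type*} [Group T] [Finite T] (hT : IsPGroup 2 T) (h2 : Cfsg.PRankLE 2 2 T) (h1 : ¬ Cfsg.PRankLE 2 1 T) (φ : MulAut T) (htrans : ∀ s t : T, orderOf s = 2 → orderOf t = 2 → ∃ k : ℕ, (φ ^ k) s = t) {F : Type*} [Field F] [Fintype F] (hF : Fintype.card F = 16) (P : Sylow 2 (Cfsg.PSU 3 F 4)) : (∃ n : ℕ, 1 ≤ n ∧ Nonempty (T ≃* Multiplicative (ZMod (2 ^ n) × ZMod (2 ^ n)))) ∨ Nonempty (T ≃* (P : Subgroup (Cfsg.PSU 3 F 4))) := by
  classical
  haveI : Fact (Nat.Prime 2) := ⟨Nat.prime_two⟩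
  obtain ⟨A, hA, hA2, hAcard⟩ : ∃ A : Subgroup T, IsMulCommutative A ∧ (∀ a ∈ A, a ^ 2 = 1) ∧
      2 < Nat.card A := by
    unfold Cfsg.PRankLE at h1
    push Not at h1
    obtain ⟨A, hA, hA2, hc⟩ := h1
    exact ⟨A, hA, hA2, by simpa using hc⟩
  have htr : ∀ x y : T, x ≠ 1 → x ^ 2 = 1 → y ≠ 1 → y ^ 2 = 1 → ∃ i : ℕ, (φ ^ i) x = y :=
    fun x y hx hx2 hy hy2 => htrans x y (orderOf_eq_prime hx2 hx) (orderOf_eq_prime hy2 hy)
  obtain ⟨u, hu, hu1⟩ : ∃ u ∈ A, u ≠ 1 := by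
    by_contra h
    push Not at h
    rw [(Subgroup.eq_bot_iff_forall A).2 h, Subgroup.card_bot] at hAcard
    omega
  obtain ⟨v, hv, hv'⟩ : ∃ v ∈ A, v ∉ ({1, u} : Set T) := by
    by_contra h
    push Not at h
    have := Set.ncard_le_ncard (show (A : Set T) ⊆ ({1, u} : Set T) from h) (Set.toFinite _)
    rw [Set.ncard_pair (Ne.symm hu1), ← Nat.card_coe_set_eq] at this
    simp only [SetLike.coe_sort_coe] at this
    omega
  simp only [Set.mem_insert_iff, Set.mem_singleton_iff, not_or] at hv'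
  have htwo : ∃ x y : T, x ≠ y ∧ x ≠ 1 ∧ x ^ 2 = 1 ∧ y ≠ 1 ∧ y ^ 2 = 1 :=
    ⟨u, v, Ne.symm hv'.2, hu1, hA2 u hu, hv'.1, hA2 v hv⟩
  -- all involutions are central
  obtain ⟨z, hz, hz2⟩ : ∃ z ∈ Subgroup.center T, orderOf z = 2 := by
    haveI : Nontrivial T := ⟨⟨u, 1, hu1⟩⟩
    haveI := hT.center_nontrivial
    obtain ⟨z, hz⟩ := exists_prime_orderOf_dvd_card' (G := Subgroup.center T) 2 (by
      obtain ⟨k, hk⟩ := IsPGroup.iff_card.1 (hT.to_subgroup (Subgroup.center T))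
      rcases Nat.eq_zero_or_pos k with rfl | h0
      · exact absurd hk (by simpa using (Finite.one_lt_card (α := Subgroup.center T)).ne')
      · exact hk ▸ dvd_pow_self 2 h0.ne')
    exact ⟨z, z.2, by rw [← hz, Subgroup.orderOf_coe]⟩
  have hcen : ∀ x : T, x ^ 2 = 1 → ∀ g, x * g = g * x := by
    intro x hx g
    by_cases hx1 : x = 1
    · rw [hx1, one_mul, mul_one]
    rw [orderOf_eq_prime_iff] at hz2
    obtain ⟨i, hi⟩ := htr z x hz2.2 hz2.1 hx1 hx
    have h := congrArg (φ ^ i) (Subgroup.mem_center_iff.1 hz ((φ ^ i).symm g))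
    rw [map_mul, map_mul, MulEquiv.apply_symm_apply, hi] at h
    exact h.symm
  let E : Subgroup T :=
    { carrier := {x | x ^ 2 = 1}
      one_mem' := one_pow 2
      mul_mem' := fun {x y} (hx : x ^ 2 = 1) (hy : y ^ 2 = 1) => by
        show (x * y) ^ 2 = 1
        rw [(show Commute x y from hcen x hx y).mul_pow, hx, hy, one_mul]
      inv_mem' := fun {x} (hx : x ^ 2 = 1) => by
        show x⁻¹ ^ 2 = 1
        rw [inv_pow, hx, inv_one] }
  have hfour : Nat.card {x : T // x ^ 2 = 1} = 4 := by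
    have hle : Nat.card E ≤ 2 ^ 2 :=
      h2 E ⟨⟨fun a b => Subtype.ext (hcen a.1 a.2 b.1)⟩⟩ fun a ha => ha
    obtain ⟨d, hd⟩ := (hT.to_subgroup E).exists_card_eq
    have hge : Nat.card A ≤ Nat.card E := Subgroup.card_le_of_le (fun a ha => hA2 a ha)
    show Nat.card E = 4
    rw [hd] at hle hge ⊢
    have : d ≤ 2 := (Nat.pow_le_pow_iff_right (a := 2) (by norm_num)).1 hle
    interval_cases d <;> omega
  by_cases hab : IsMulCommutative T
  · exact Or.inl (CfsgLib.TransInvol.homocyclic_of_transitive hT (fun x y => hab.is_comm.comm x y)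
      hfour fun x y hx hx2 hy hy2 => by
        obtain ⟨i, hi⟩ := htr x y hx hx2 hy hy2
        exact ⟨φ ^ i, hi⟩)
  right
  obtain ⟨K, _, _, _, ψ, S, hn⟩ :=
    CfsgLib.TransInvol.exists_suz_of_transitive hT hab htwo φ htr hfour
  obtain ⟨-, hPc, hPs⟩ := Cfsg.Agent.S1141.result (F := F) (n := 2) le_rfl (by rw [hF]; norm_num) P
  obtain ⟨K', _, _, _, k', ⟨S'⟩⟩ := CfsgLib.TransInvol.exists_suz hPs
  have hn' : S'.n = 2 := by
    have h := S'.card
    rw [← S'.card_center] at h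
    exact Nat.pow_right_injective le_rfl (h.symm.trans hPc)
  exact CfsgLib.TransInvol.nonempty_mulEquiv_of_four S S' hn hn'

end Cfsg.Agent.S1237
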