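import Cfsg.Statements.S5107
import Cfsg.Agent.Lib.Fusion.System.ZJControl

set_option autoImplicit false
open Cfsg

namespace Cfsg.Agent.S5107

/-- If a Sylow p-subgroup S of a finite group G has nilpotency class at most two and its centre is strongly closed in S with respect to G, then every map of the fusion system of G on S is conjugation by an element of N_G(S), and S is the largest subgroup normal in that fusion system. -/
theorem result {G : Type*} [Group G] [Finite G] (p : ℕ) [Fact p.Prime] (S : Sylow p G) (hcl : ⁅(S : Subgroup G), (S : Subgroup G)⁆ ≤ (S : Subgroup G) ⊓ Subgroup.centralizer ((S : Subgroup G) : Set G)) (hZ : Cfsg.IsStronglyClosed ((S : Subgroup G) ⊓ Subgroup.centralizer ((S : Subgroup G) : Set G)) (S : Subgroup G)) : (∀ (P : Subgroup G) (φ : P →* G), φ ∈ (Cfsg.groupFusionSystem (S : Subgroup G)).Hom P → ∃ g ∈ Subgroup.normalizer ((S : Subgroup G) : Set G), ∀ x : P, φ x = g * (x : G) * g⁻¹) ∧ (Cfsg.groupFusionSystem (S : Subgroup G)).core = S := by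
  classical
  set P₀ := (S : Subgroup G) with hP₀
  set Z := P₀ ⊓ Subgroup.centralizer (P₀ : Set G)
  set F := Cfsg.groupFusionSystem P₀ with hFd
  have hS : IsPGroup p P₀ := S.isPGroup'
  have hF : F.IsSaturated p := CfsgLib.Fusion.isSaturated_group (S := S)
  have hZF : F.StronglyClosed Z := CfsgLib.Fusion.stronglyClosed_group hZ
  have hSF : F.StronglyClosed P₀ := CfsgLib.Fusion.stronglyClosed_iff.2
    ⟨le_rfl, fun R f _ hf x hx => hf.mem_S hx⟩
  have hZc : ⁅P₀, Z⁆ ≤ (⊥ : Subgroup G) := Subgroup.commutator_le.2 fun a ha b hb => by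
    rw [Subgroup.mem_bot, commutatorElement_eq_one_iff_mul_comm]
    exact Subgroup.mem_centralizer_iff.1 hb.2 a ha
  have hnorm : F.IsNormal P₀ := by
    refine CfsgLib.Fusion.isNormal_of_series hS hF (n := 2) (Qs := ![⊥, Z, P₀]) rfl rfl ?_
      (fun i => ?_) fun i => ?_
    · intro i j hij
      fin_cases i <;> fin_cases j <;> simp [Z] at hij ⊢
    · fin_cases i
      · exact hZF
      · exact hSF
    · fin_cases i
      · exact hZc
      · exact hcl
  have hcore : F.core = P₀ := le_antisymm (sSup_le fun Q hQ => hQ.1)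
    (CfsgLib.Fusion.le_core hnorm)
  refine ⟨fun P φ hφ => ?_, hcore⟩
  obtain ⟨g, hg, hgf, hgS⟩ :=
    (CfsgLib.Fusion.isNormal_iff.1 hnorm).2 P _ (CfsgLib.Fusion.isMap_toFun hφ)
  obtain ⟨-, h, hh⟩ := CfsgLib.Fusion.isMap_group_iff.1 hg
  refine ⟨h, ?_, fun x => ?_⟩
  · haveI : Finite P₀ := inferInstance
    exact CfsgLib.Fusion.conjBy_eq_iff.1 (CfsgLib.Fusion.eq_of_le_of_card_le (le_refl P₀)
      (CfsgLib.Fusion.conjBy_le_iff.2 fun y hy => (hh y (Subgroup.mem_sup_right hy)).1)
      (CfsgLib.Fusion.card_conjBy h P₀).ge)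
  · rw [← CfsgLib.Fusion.toFun_coe φ x, ← hgf x x.2,
      (hh x (Subgroup.mem_sup_left x.2)).2]

end Cfsg.Agent.S5107
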