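import Cfsg.Statements.S2755
import Cfsg.Agent.Lib.Ree.GoldschmidtCases
import Cfsg.Agent.Lib.Ree.InvertedThree

set_option autoImplicit false
open Cfsg

namespace Cfsg.Agent.S2755

open CfsgLib CfsgLib.ReeType

/-- The property is invariant under isomorphisms. -/
theorem hg_congr {A B : Type*} [Group A] [Group B] (e : A ≃* B) : FourFree.HG A ↔ FourFree.HG B := by
  refine ⟨fun h a x hx hc => ?_, fun h a x hx hc => e.injective ?_⟩
  · have := h (e.symm a) (e.symm x) (by rw [← map_pow, hx, map_one])
      (by rw [← map_inv, ← map_mul, ← map_mul, hc, map_inv])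
    exact e.symm.injective (this.trans (map_one e.symm).symm)
  · rw [map_one]
    exact h (e a) (e x) (by rw [← map_pow, hx, map_one])
      (by rw [← map_inv, ← map_mul, ← map_mul, hc, map_inv])

/-- The number three in a field of even order. -/
theorem three_ne {F : Type} [Field F] [Fintype F] {n : ℕ} (hF : Fintype.card F = 2 ^ n) : (3 : F) ≠ 0 := by
  intro h
  have h2 : (2 : F) = 0 := by
    have h' := FiniteField.cast_card_eq_zero F
    rw [hF, Nat.cast_pow] at h'
    simpa using eq_zero_of_pow_eq_zero h'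
  exact one_ne_zero (show (1 : F) = 0 by linear_combination h - h2)

/-- Every finite Goldschmidt group is S₄-free (the symmetric group of degree 4 is not involved in it); and for a finite Goldschmidt group G, the symmetric group of degree 3 is not involved in G exactly when G is a Suzuki group or PSL₂ over a field with 3^(2n+1) elements. -/
theorem result {G : Type*} [Group G] [Finite G] (hG : Cfsg.IsGoldschmidtGroup G) : ¬ Cfsg.Involves (Equiv.Perm (Fin 4)) G ∧ (¬ Cfsg.Involves (Equiv.Perm (Fin 3)) G ↔ Cfsg.IsSuzukiOrPSL2OddPowerThree G) := by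
  classical
  rw [no_three_iff]
  have back : Cfsg.IsSuzukiOrPSL2OddPowerThree G → FourFree.HG G := by
    rintro (⟨F, iF, iT, m, hm, hF, ⟨e⟩⟩ | ⟨F, iF, iT, n, hF, ⟨e⟩⟩)
    · exact (hg_congr e).2 (sections_suzuki hm hF).2
    · exact (hg_congr e).2 (hg_psl hF)
  have key : ¬ Cfsg.Involves (Equiv.Perm (Fin 4)) G ∧
      (FourFree.HG G → Cfsg.IsSuzukiOrPSL2OddPowerThree G) := by
    rcases hG with hR | ⟨F, iF, iT, n, hn, hF, ⟨e⟩⟩ | ⟨F, iF, iT, m, hm, hF, ⟨e⟩⟩ |
      ⟨F, iF, iT, n, hn, hF, ⟨e⟩⟩ | ⟨F, iF, iT, q, hF, h5, h8, ⟨e⟩⟩ | ⟨⟨e⟩⟩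
    · exact ⟨(sections_of_isReeType hR).1, fun h => absurd h (sections_of_isReeType hR).2⟩
    · exact ⟨fun h => no_four_psl_two hF (by omega)
          (Fusion.involves_of_injective e.toMonoidHom e.injective h),
        fun h => absurd ((hg_congr e).1 h) (not_hg_psl (three_ne hF))⟩
    · exact ⟨fun h => (sections_suzuki hm hF).1 (Fusion.involves_of_injective e.toMonoidHom e.injective h),
        fun _ => Or.inl ⟨F, iF, iT, m, hm, hF, ⟨e⟩⟩⟩
    · have hF' : Fintype.card F = (2 ^ n) ^ 2 := by
        rw [hF, show (4 : ℕ) = 2 ^ 2 by norm_num, ← pow_mul, ← pow_mul, mul_comm]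
      exact ⟨fun h => (sections_unitary (by omega) rfl hF').1
          (Fusion.involves_of_injective e.toMonoidHom e.injective h),
        fun h => absurd ((hg_congr e).1 h) (sections_unitary (by omega) rfl hF').2⟩
    · refine ⟨fun h => no_four_psl_odd (hF ▸ h8)
          (Fusion.involves_of_injective e.toMonoidHom e.injective h), fun h => ?_⟩
      by_cases h3 : (3 : F) = 0
      · obtain ⟨p, hp⟩ := CharP.exists F
        obtain ⟨f, hpp, hf⟩ := FiniteField.card F p
        obtain rfl : p = 3 := (Nat.prime_dvd_prime_iff_eq hpp Nat.prime_three).1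
          ((CharP.cast_eq_zero_iff F p 3).1 (by exact_mod_cast h3))
        rcases Nat.even_or_odd (f : ℕ) with ⟨j, hj⟩ | ⟨j, hj⟩
        · rw [← hF, hf, hj, ← two_mul, pow_mul, Nat.pow_mod] at h8
          norm_num at h8
        · exact Or.inr ⟨F, iF, iT, j, by rw [hf, hj], ⟨e⟩⟩
      · exact absurd ((hg_congr e).1 h) (not_hg_psl h3)
    · haveI := CfsgLib.Char.J1.finite_J1
      exact ⟨fun h => sections_janko.1 (Fusion.involves_of_injective e.toMonoidHom e.injective h),
        fun h => absurd ((hg_congr e).1 h) sections_janko.2⟩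
  exact ⟨key.1, key.2, back⟩

end Cfsg.Agent.S2755
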