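import Cfsg.Statements.S2796
import Cfsg.Agent.Lib.FourFree.K.ThompsonModule

set_option autoImplicit false
universe u
open Cfsg

namespace Cfsg.Agent.S2796

/-- Let G be a finite group in which the symmetric group of degree 4 is not involved, such that for every section K/R of G with C(O₂(K/R)) ≤ O₂(K/R) every non-abelian composition factor of K/R is a Suzuki group Sz(2^(2n+1)) or PSL₂ over a field with 3^(2n+1) elements. Let S be a Sylow 2-subgroup, J_e(S) the subgroup generated by its elementary abelian subgroups of largest order, and A the normal closure of Ω₁(Z(S)) in N_G(J_e(S)). Then A is an elementary abelian subgroup of S, strongly closed in S with respect to G, and A controls strong fusion in G. -/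
theorem result {G : Type u} [Group G] [Finite G] (hfree : ¬ Cfsg.Involves (Equiv.Perm (Fin 4)) G) (hsec : ∀ (K R : Subgroup G) [hR : (R.subgroupOf K).Normal], Subgroup.centralizer (Cfsg.pCore 2 (K ⧸ R.subgroupOf K) : Set (K ⧸ R.subgroupOf K)) ≤ Cfsg.pCore 2 (K ⧸ R.subgroupOf K) → Cfsg.IsCompositionKGroupWith Cfsg.IsSuzukiOrPSL2OddPowerThree (K ⧸ R.subgroupOf K)) (S : Sylow 2 G) (N : Subgroup G) (hN : N = Subgroup.normalizer (Cfsg.thompsonSubgroupOf 2 (S : Subgroup G) : Set G)) (A : Subgroup G) (hA : A = (Subgroup.normalClosure (((Cfsg.omegaOne 2 ((S : Subgroup G) ⊓ Subgroup.centralizer ((S : Subgroup G) : Set G))).subgroupOf N : Subgroup ↥N) : Set ↥N)).map N.subtype) : A ≤ S ∧ Cfsg.IsElementaryAbelian 2 A ∧ Cfsg.IsStronglyClosed A (S : Subgroup G) ∧ Cfsg.ControlsStrongFusion 2 A := by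
  haveI : Fact (Nat.Prime 2) := ⟨Nat.prime_two⟩
  have hsec' : ∀ (X : Type u) [Group X] [Finite X], Cfsg.Involves X G →
      Subgroup.centralizer ((Cfsg.pCore 2 X : Subgroup X) : Set X) ≤ Cfsg.pCore 2 X →
      CfsgLib.FourFree.KS X := by
    intro X _ _ hX hcon
    obtain ⟨K, R, hR, ⟨e⟩⟩ := hX
    haveI := hR
    have hc : Subgroup.centralizer (Cfsg.pCore 2 (K ⧸ R.subgroupOf K) : Set (K ⧸ R.subgroupOf K)) ≤
        Cfsg.pCore 2 (K ⧸ R.subgroupOf K) := by
      intro x hx
      have hcore : (Cfsg.pCore 2 (K ⧸ R.subgroupOf K)).map e.toMonoidHom = Cfsg.pCore 2 X :=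
        CfsgLib.Coprime.map_pCore_equiv e 2
      rw [← Subgroup.mem_map_iff_mem e.injective (f := e.toMonoidHom), hcore]
      refine hcon (Subgroup.mem_centralizer_iff.2 fun y hy => ?_)
      rw [← hcore] at hy
      obtain ⟨z, hz, rfl⟩ := hy
      simp only [MulEquiv.coe_toMonoidHom, ← map_mul]
      rw [Subgroup.mem_centralizer_iff.1 hx z hz]
    exact (CfsgLib.FourFree.ks_of_composition (hsec K R hc)).of_injective e.symm.toMonoidHom
      e.symm.injective
  have hd := CfsgLib.FourFree.jdata_omega hfree hsec' S N hN A hA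
  have hreal := CfsgLib.FourFree.realises_of_data _ G rfl hfree hsec' S A hd
  refine ⟨hd.le, ⟨⟨⟨fun a b => Subtype.ext ?_⟩⟩, fun a ha => by rw [pow_two]; exact hd.elem a ha⟩,
    ⟨hd.le, fun x hx g hg => ?_⟩, S, hd.le, fun B hB => ⟨hB, fun g hg => ?_⟩⟩
  · exact CfsgLib.FourFree.elem_comm hd.elem a.2 b.2
  · obtain ⟨y, hy, hye⟩ := hreal {x} g (fun b hb => by rw [hb]; exact hd.le hx)
      (fun b hb => by rw [hb]; exact hg)
    rw [← hye x rfl]
    exact (Subgroup.mem_normalizer_iff.1 hy x).1 hx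
  · obtain ⟨y, hy, hye⟩ := hreal B g (fun b hb => hB hb) (fun b hb => hg ⟨b, hb, rfl⟩)
    exact ⟨y, hy, fun b hb => (hye b hb).symm⟩

end Cfsg.Agent.S2796
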