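import Cfsg.Statements.S1299
import Cfsg.Agent.Lib.Coprime.BalancedFamily
import Cfsg.Agent.Lib.Coprime.LBalance.Cores

set_option autoImplicit false
open Cfsg

namespace Cfsg.Agent.S1299

/-- Let G be finite and k-balanced for the prime p (k ≥ 1), A an elementary abelian p-subgroup of order at least p^(k+2) such that O_{p'}(C_G(a)) is solvable for every non-identity a ∈ A. For a ∈ A put θ a = the subgroup generated by the Δ_G(D) ∩ C_G(a) over the subgroups D ≤ A of order p^k. Then θ is an A-signalizer functor. -/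
theorem result {G : Type*} [Group G] [Finite G] (p k : ℕ) [Fact p.Prime] (hk : 1 ≤ k) (hbal : Cfsg.IsKBalanced p k G) (A : Subgroup G) (hA : Cfsg.IsElementaryAbelian p A) (hAk : p ^ (k + 2) ≤ Nat.card ↥A) (hsolv : ∀ a ∈ A, a ≠ 1 → Group.IsSolvable ↥(Cfsg.centralizerPPrimeCore p a)) : Cfsg.IsSignalizerFunctor p A (fun a => ⨆ D : {D : Subgroup G // D ≤ A ∧ Nat.card ↥D = p ^ k}, Cfsg.signalizerDelta p (D : Subgroup G) ⊓ Subgroup.centralizer {a}) := by
  classical
  have hp : p.Prime := Fact.out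
  have hcomm : ∀ a ∈ A, ∀ b ∈ A, a * b = b * a := fun a ha b hb =>
    congrArg Subtype.val (hA.1.is_comm.comm (⟨a, ha⟩ : A) ⟨b, hb⟩)
  have hle : ∀ a : G, Cfsg.centralizerPPrimeCore p a ≤ Subgroup.centralizer ({a} : Set G) := fun a =>
    Subgroup.map_subtype_le _
  have hndvd : ∀ a : G, ¬ p ∣ Nat.card ↥(Cfsg.centralizerPPrimeCore p a) := by
    intro a h
    rw [Cfsg.centralizerPPrimeCore, Subgroup.card_map_of_injective (Subgroup.subtype_injective _)] at h
    exact CfsgLib.Coprime.pPrimeCore_not_dvd hp h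
  have hinvC : ∀ g ∈ A, ∀ c ∈ A, ∀ x ∈ Cfsg.centralizerPPrimeCore p c,
      g * x * g⁻¹ ∈ Cfsg.centralizerPPrimeCore p c := by
    rintro g hg c hc _ ⟨y, hy, rfl⟩
    have hgc : g ∈ Subgroup.centralizer ({c} : Set G) :=
      Subgroup.mem_centralizer_singleton_iff.2 (hcomm g hg c hc)
    haveI : (Cfsg.pPrimeCore p ↥(Subgroup.centralizer ({c} : Set G))).Characteristic :=
      CfsgLib.Coprime.pPrimeCore_characteristic p
    exact ⟨⟨g, hgc⟩ * y * ⟨g, hgc⟩⁻¹, Subgroup.Normal.conj_mem inferInstance y hy _, by simp⟩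
  have hΔinv : ∀ D : Subgroup G, D ≤ A → ∀ g ∈ A, ∀ x ∈ Cfsg.signalizerDelta p D,
      g * x * g⁻¹ ∈ Cfsg.signalizerDelta p D := by
    intro D hD g hg x hx
    rw [Cfsg.signalizerDelta, Subgroup.mem_iInf] at hx ⊢
    exact fun d => hinvC g hg d (hD d.2.1) x (hx d)
  have hΔd : ∀ (D : Subgroup G) (d : G), d ∈ D → d ≠ 1 →
      Cfsg.signalizerDelta p D ≤ Cfsg.centralizerPPrimeCore p d := fun D d hd hd1 =>
    iInf_le (fun e : {e : G // e ∈ D ∧ e ≠ 1} => Cfsg.centralizerPPrimeCore p (e : G)) ⟨d, hd, hd1⟩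
  have hΔC : ∀ D : Subgroup G,
      Cfsg.signalizerDelta p D ≤ Subgroup.centralizer (D : Set G) := fun D x hx =>
    Subgroup.mem_centralizer_iff.2 fun d hd => by
      by_cases hd1 : d = 1
      · rw [hd1, one_mul, mul_one]
      · exact (Subgroup.mem_centralizer_singleton_iff.1 (hle d (hΔd D d hd hd1 hx))).symm
  have hkb : ∀ D : Subgroup G, D ≤ A → Nat.card ↥D = p ^ k → ∀ b ∈ A, b ≠ 1 →
      Cfsg.signalizerDelta p D ⊓ Subgroup.centralizer {b} ≤ Cfsg.centralizerPPrimeCore p b := by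
    intro D hD hc b hb hb1
    exact hbal D ⟨⟨⟨fun x y => Subtype.ext (hcomm x (hD x.2) y (hD y.2))⟩⟩,
      fun x hx => hA.2 x (hD hx)⟩ hc b (orderOf_eq_prime (hA.2 b hb) hb1)
      fun d hd => hcomm d (hD hd) b hb
  have hθcore : ∀ a ∈ A, a ≠ 1 →
      (⨆ D : {D : Subgroup G // D ≤ A ∧ Nat.card ↥D = p ^ k},
        Cfsg.signalizerDelta p (D : Subgroup G) ⊓ Subgroup.centralizer {a}) ≤
      Cfsg.centralizerPPrimeCore p a := fun a ha ha1 =>
    iSup_le fun D => hkb D D.2.1 D.2.2 a ha ha1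
  have hAΦ : ∀ a ∈ A, ∀ D : {D : Subgroup G // D ≤ A ∧ Nat.card ↥D = p ^ k},
      A ≤ Subgroup.normalizer ((Cfsg.signalizerDelta p (D : Subgroup G) ⊓
        Subgroup.centralizer {a} : Subgroup G) : Set G) := by
    intro a ha D g hg
    refine CfsgLib.Coprime.BalFam.mem_normalizer_of_conj fun y hy =>
      ⟨hΔinv D D.2.1 g hg y hy.1, Subgroup.mem_centralizer_singleton_iff.2 ?_⟩
    have h1 : Commute y a := Subgroup.mem_centralizer_singleton_iff.1 hy.2
    have h2 : Commute g a := hcomm g hg a ha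
    exact ((h2.mul_left h1).mul_left h2.inv_left).eq
  have hAθ : ∀ a ∈ A, A ≤ Subgroup.normalizer
      ((⨆ D : {D : Subgroup G // D ≤ A ∧ Nat.card ↥D = p ^ k},
        Cfsg.signalizerDelta p (D : Subgroup G) ⊓ Subgroup.centralizer {a} : Subgroup G) : Set G) := by
    intro a ha g hg
    rw [← CfsgLib.Coprime.conjBy_eq_self_iff, CfsgLib.Coprime.conjBy, Subgroup.map_iSup]
    exact iSup_congr fun D => CfsgLib.Coprime.conjBy_eq_self_iff.2 (hAΦ a ha D hg)
  refine ⟨fun a _ _ => iSup_le fun D => inf_le_right,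
    fun a ha ha1 h => hndvd a (h.trans (Subgroup.card_dvd_of_le (hθcore a ha ha1))),
    fun a ha _ g hg x hx => (Subgroup.mem_normalizer_iff.1 (hAθ a ha hg) x).1 hx,
    fun a ha ha1 b hb hb1 => ?_⟩
  have hAb : A ≤ Subgroup.normalizer ((Subgroup.centralizer ({b} : Set G) : Subgroup G) : Set G) := by
    refine le_trans (fun g hg => ?_) Subgroup.le_normalizer
    exact Subgroup.mem_centralizer_singleton_iff.2 (hcomm g hg b hb)
  refine CfsgLib.Coprime.le_of_hyperplanes hA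
    ((Nat.pow_le_pow_right hp.pos (by omega)).trans hAk)
    (fun h => hndvd a (h.trans (Subgroup.card_dvd_of_le (inf_le_left.trans (hθcore a ha ha1)))))
    (CfsgLib.Coprime.inf_le_normalizer (hAθ a ha) hAb) fun E hE hi x hx => ?_
  obtain ⟨D, hD⟩ := CfsgLib.Coprime.BalFam.exists_sub (k := k) hA hE
    ((Nat.pow_le_pow_right hp.pos (Nat.le_succ k)).trans
      (CfsgLib.Coprime.BalFam.card_hyperplane hAk hE hi))
  have hmem := CfsgLib.Coprime.BalFam.sup_inf_centralizer_le hA hAk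
    (fun D : {D : Subgroup G // D ≤ A ∧ Nat.card ↥D = p ^ k} =>
      Cfsg.signalizerDelta p (D : Subgroup G) ⊓ Subgroup.centralizer {a})
    (fun D => inf_le_left.trans (hΔC D)) (hAΦ a ha)
    (fun D D' y hy => ⟨by
      refine Subgroup.mem_iInf.2 fun d => ?_
      refine hkb D D.2.1 D.2.2 d (D'.2.1 d.2.1) d.2.2 ⟨hy.1.1, ?_⟩
      exact Subgroup.centralizer_le (Set.singleton_subset_iff.2 d.2.1) hy.2, hy.1.2⟩)
    rfl (CfsgLib.Coprime.isSolvable_of_le (hθcore a ha ha1) (hsolv a ha ha1))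
    (fun h => hndvd a (h.trans (Subgroup.card_dvd_of_le (hθcore a ha ha1)))) D
    ⟨hx.1.1, Subgroup.centralizer_le hD hx.2⟩
  exact le_iSup (fun D : {D : Subgroup G // D ≤ A ∧ Nat.card ↥D = p ^ k} =>
    Cfsg.signalizerDelta p (D : Subgroup G) ⊓ Subgroup.centralizer {b}) D ⟨hmem.1, hx.1.2⟩

end Cfsg.Agent.S1299
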