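import Cfsg.Statements.S3184
import Cfsg.Agent.Lib.Invol.BrauerSuzuki
import Cfsg.Agent.Lib.Coprime.Core
import Cfsg.Agent.Lib.Fusion.Transfer


set_option autoImplicit false
open Cfsg

namespace Cfsg.Agent.S3184

private theorem unique_invol {A : Type*} [Group A] [Finite A] [IsCyclic A] {a b : A}
    (ha : orderOf a = 2) (hb : orderOf b = 2) : a = b := by
  classical
  have := Fintype.ofFinite A
  obtain ⟨w, hw⟩ := Finset.card_eq_one.1 ((IsCyclic.card_orderOf_eq_totient (α := A)
    (by rw [← ha]; exact orderOf_dvd_card)).trans Nat.totient_two)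
  have h1 : a ∈ Finset.univ.filter (fun x : A => orderOf x = 2) := by simp [ha]
  have h2 : b ∈ Finset.univ.filter (fun x : A => orderOf x = 2) := by simp [hb]
  rw [hw, Finset.mem_singleton] at h1 h2
  rw [h1, h2]

/-- Let G be a finite group in which the intersection of any two distinct Sylow 2-subgroups is contained in the centre of some Sylow 2-subgroup, and let S be a Sylow 2-subgroup. If C is a nontrivial cyclic characteristic subgroup of S, then the involution of C is central modulo the largest normal subgroup of odd order of G: each of its conjugates has the same image in G/O(G). -/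
theorem result {G : Type*} [Group G] [Finite G]
    (hCI : ∀ S T : Sylow 2 G, S ≠ T → ∃ U : Sylow 2 G,
      (S : Subgroup G) ⊓ (T : Subgroup G) ≤ (Subgroup.center ↥(U : Subgroup G)).map (U : Subgroup G).subtype)
    (S : Sylow 2 G) (C : Subgroup ↥(S : Subgroup G)) (hC : C ≠ ⊥) (hCc : IsCyclic ↥C) (hCh : C.Characteristic)
    (c : ↥(S : Subgroup G)) (hc : c ∈ C) (hc2 : orderOf c = 2) :
    ∀ g : G, (QuotientGroup.mk (s := Cfsg.oddCore G) (g * (c : G) * g⁻¹)) =
      QuotientGroup.mk (s := Cfsg.oddCore G) (c : G) := by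
  haveI : Fact (Nat.Prime 2) := ⟨Nat.prime_two⟩
  set c0 : G := (c : G) with hc0
  have hc0o : orderOf c0 = 2 := by rw [hc0, Subgroup.orderOf_coe]; exact hc2
  have hcN : ∀ n ∈ Subgroup.normalizer ((S : Subgroup G) : Set G), n * c0 * n⁻¹ = c0 := by
    intro n hn
    have h1 : ∀ x, x ∈ (S : Subgroup G) ↔ n * x * n⁻¹ ∈ (S : Subgroup G) :=
      fun x => Subgroup.mem_set_normalizer_iff.1 hn x
    let φ : ↥(S : Subgroup G) ≃* ↥(S : Subgroup G) :=
      { toFun := fun x => ⟨n * x * n⁻¹, (h1 x).1 x.2⟩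
        invFun := fun x => ⟨n⁻¹ * x * n, (h1 _).2 (by
          rw [show n * (n⁻¹ * (x : G) * n) * n⁻¹ = x by group]; exact x.2)⟩
        left_inv := fun x => Subtype.ext (by simp [mul_assoc])
        right_inv := fun x => Subtype.ext (by simp [mul_assoc])
        map_mul' := fun x y => Subtype.ext (by simp [mul_assoc]) }
    have hm : φ c ∈ C := by
      rw [← (Subgroup.characteristic_iff_map_eq.1 hCh) φ]
      exact ⟨c, hc, rfl⟩
    have h2 : (⟨φ c, hm⟩ : C) = ⟨c, hc⟩ := unique_invol
      (by rw [Subgroup.orderOf_mk, MulEquiv.orderOf_eq, hc2]) (by rw [Subgroup.orderOf_mk, hc2])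
    exact congrArg (fun z : C => ((z : ↥(S : Subgroup G)) : G)) h2
  have hSc : ∀ s ∈ (S : Subgroup G), Commute c0 s := fun s hs =>
    (mul_inv_eq_iff_eq_mul.1 (hcN s (Subgroup.le_normalizer hs))).symm
  have hcentral : ∀ g : G, (∀ s ∈ (S : Subgroup G), Commute (g * c0 * g⁻¹) s) →
      g * c0 * g⁻¹ = c0 := by
    intro g hg
    obtain ⟨n, hn, he⟩ := CfsgLib.Fusion.exists_normalizer_conj_eq_of_central S (x := c0)
      (fun s hs => Subgroup.mem_centralizer_singleton_iff.2 (hSc s hs).eq.symm) g
      (fun s hs => Subgroup.mem_centralizer_singleton_iff.2 (hg s hs).eq.symm)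
    rw [← he, hcN n hn]
  have hwc : ∀ g : G, g * c0 * g⁻¹ ∈ S → g * c0 * g⁻¹ = c0 := by
    intro g hd
    set d := g * c0 * g⁻¹ with hdd
    by_cases hdc : ∀ s ∈ (S : Subgroup G), Commute d s
    · exact hcentral g hdc
    set D := Subgroup.centralizer ({d} : Set G) with hD
    -- a Sylow subgroup of `G` inside the centralizer of `d` containing the centralizer in `S`
    have hDi : ¬ 2 ∣ D.index := fun h2 => S.not_dvd_index (h2.trans (by
      have hle : (S : Subgroup G).map (MulAut.conj g).toMonoidHom ≤ D := by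
        rintro _ ⟨s, hs, rfl⟩
        rw [hD, Subgroup.mem_centralizer_singleton_iff]
        exact (Commute.map (hSc s hs) (MulAut.conj g).toMonoidHom).eq.symm
      have := Subgroup.index_dvd_of_le hle
      rwa [Subgroup.index_map_of_bijective (MulAut.conj g).bijective] at this))
    obtain ⟨Q, hQ⟩ := (S.2.comap_of_injective D.subtype Subtype.coe_injective).exists_le_sylow
    have hQp : IsPGroup 2 ((Q : Subgroup D).map D.subtype) := Q.2.map _
    have hQi : ¬ 2 ∣ ((Q : Subgroup D).map D.subtype).index := by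
      rw [Subgroup.index_map_subtype]
      exact Nat.prime_two.not_dvd_mul Q.not_dvd_index hDi
    set S1 : Sylow 2 G := hQp.toSylow hQi with hS1
    have hne : S ≠ S1 := by
      intro he
      refine hdc fun s hs => ?_
      have h1 : s ∈ (S1 : Subgroup G) := he ▸ hs
      exact (Subgroup.mem_centralizer_singleton_iff.1 (Subgroup.map_subtype_le _ h1)).symm
    have hboth : ∀ s ∈ (S : Subgroup G), Commute d s → s ∈ (S : Subgroup G) ⊓ (S1 : Subgroup G) := by
      intro s hs hds
      refine Subgroup.mem_inf.2 ⟨hs, ?_⟩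
      exact ⟨⟨s, Subgroup.mem_centralizer_singleton_iff.2 hds.eq.symm⟩, hQ hs, rfl⟩
    obtain ⟨U, hU⟩ := hCI S S1 hne
    have hUc : ∀ s ∈ (S : Subgroup G), Commute d s → ∀ u ∈ (U : Subgroup G), Commute s u := by
      intro s hs hds u hu
      obtain ⟨z, hz, he⟩ := hU (hboth s hs hds)
      rw [← he]
      exact (congrArg Subtype.val (Subgroup.mem_center_iff.1 hz ⟨u, hu⟩)).symm
    obtain ⟨k, hk⟩ := CfsgLib.Invol.exists_conj_le_sylow S.2 U
    have htr : ∀ x ∈ (S : Subgroup G), Commute d x → ∀ s ∈ (S : Subgroup G),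
        Commute (k⁻¹ * x * k) s := by
      intro x hx hxd s hs
      have h := Commute.map (hUc x hx hxd _ (hk s hs)) (MulAut.conj k⁻¹).toMonoidHom
      simpa [mul_assoc] using h
    have hcS : c0 ∈ (S : Subgroup G) := c.2
    have e1 : k⁻¹ * c0 * k = c0 := by
      have := hcentral k⁻¹ (fun s hs => by rw [inv_inv]; exact htr c0 hcS (hSc d hd).symm s hs)
      rwa [inv_inv] at this
    have e2 : k⁻¹ * g * c0 * (k⁻¹ * g)⁻¹ = k⁻¹ * d * k := by rw [hdd]; group
    have h := hcentral (k⁻¹ * g) (fun s hs => e2 ▸ htr d hd (Commute.refl d) s hs)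
    rw [e2, ← e1] at h
    have h' := mul_right_cancel h
    exact mul_left_cancel h'
  intro g
  haveI := CfsgLib.Coprime.pPrimeCore_characteristic (G := G) 2
  have hz := CfsgLib.Invol.zstar_of_weakly_closed S hc0o hwc g
  rw [QuotientGroup.eq]
  have h := (inferInstance : (Cfsg.pPrimeCore 2 G).Normal).conj_mem' _ (inv_mem hz) g
  have h' := (inferInstance : (Cfsg.pPrimeCore 2 G).Normal).conj_mem' _ hz c0
  rwa [show c0⁻¹ * (c0 * g * c0⁻¹ * g⁻¹) * c0 = (g * c0 * g⁻¹)⁻¹ * c0 by group] at h'

end Cfsg.Agent.S3184
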