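import Cfsg.Statements.S3020
import Cfsg.Agent.Lib.Fusion.Transfer
import Cfsg.Agent.Lib.Fusion.Sylow
import Cfsg.Agent.Lib.PGroup.Isolated
import Cfsg.Agent.Lib.Coprime.Core

set_option autoImplicit false
open Cfsg

namespace Cfsg.Agent.S3020

/-- Let G be a finite group, p a prime and H an abelian p-subgroup of G that is extremely closed (for every g, the subgroup generated by H and g H g⁻¹ meets N_G(H) exactly in H). Then for every g ∈ G, the subgroup T generated by H and g H g⁻¹ is the product of H with O_{p'}(T), and H meets O_{p'}(T) trivially; that is, O_{p'}(T) is a normal p-complement of H in T. -/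
theorem result {G : Type*} [Group G] [Finite G] {p : ℕ} [Fact p.Prime] (H : Subgroup G) (hHp : IsPGroup p H) (hHab : IsMulCommutative H) (hcl : Cfsg.IsExtremelyClosed H) (g : G) (T : Subgroup G) (hT : T = H ⊔ H.map (MulAut.conj g).toMonoidHom) : H ⊔ (Cfsg.pPrimeCore p ↥T).map T.subtype = T ∧ H ⊓ (Cfsg.pPrimeCore p ↥T).map T.subtype = ⊥ := by
  classical
  have hHT : H ≤ T := hT ▸ le_sup_left
  have hfix : T ⊓ Subgroup.normalizer (H : Set G) = H := hT ▸ hcl g
  set H' := H.subgroupOf T with hH'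
  have hH'p : IsPGroup p H' := hHp.of_equiv (Subgroup.subgroupOfEquivOfLe hHT).symm
  obtain ⟨P, hP⟩ := hH'p.exists_le_sylow
  have hPeq : (P : Subgroup T) = H' := by
    refine le_antisymm ?_ hP
    haveI := P.2.isNilpotent
    by_contra hne
    obtain ⟨u, -, huN, hu⟩ := CfsgLib.Isolated.exists_mem_normalizer_inf hP hne
    refine hu ?_
    rw [hH', Subgroup.mem_subgroupOf]
    refine hfix.le ⟨u.2, ?_⟩
    refine Subgroup.mem_normalizer_iff.2 fun y => ?_
    constructor
    · exact fun hy => (Subgroup.mem_normalizer_iff.1 huN ⟨y, hHT hy⟩).1 hy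
    · intro hy
      have hyT : y ∈ T := by
        have := T.mul_mem (T.mul_mem (T.inv_mem u.2) (hHT hy)) u.2
        rwa [show (u : G)⁻¹ * ((u : G) * y * (u : G)⁻¹) * (u : G) = y by group] at this
      exact (Subgroup.mem_normalizer_iff.1 huN ⟨y, hyT⟩).2 hy
  obtain ⟨Q, N, hN, hc⟩ := CfsgLib.Fusion.hasNormalPComplement_of_normalizer_le_centralizer P fun n hn => by
    rw [hPeq] at hn ⊢
    have hnH : n ∈ H' := by
      rw [hH', Subgroup.mem_subgroupOf]
      refine hfix.le ⟨n.2, Subgroup.mem_normalizer_iff.2 fun y => ⟨fun hy => ?_, fun hy => ?_⟩⟩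
      · exact (Subgroup.mem_normalizer_iff.1 hn ⟨y, hHT hy⟩).1 hy
      · have hyT : y ∈ T := by
          have := T.mul_mem (T.mul_mem (T.inv_mem n.2) (hHT hy)) n.2
          rwa [show (n : G)⁻¹ * ((n : G) * y * (n : G)⁻¹) * (n : G) = y by group] at this
        exact (Subgroup.mem_normalizer_iff.1 hn ⟨y, hyT⟩).2 hy
    exact Subgroup.mem_centralizer_iff.2 fun y hy => Subtype.ext (congrArg (fun w : H => (w : G)) (hHab.is_comm.comm (⟨(y : G), hy⟩ : H) ⟨(n : G), hnH⟩))
  haveI := hN
  have hQi : N.index = Nat.card (P : Subgroup T) := by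
    rw [hc.symm.index_eq_card, Q.card_eq_multiplicity, P.card_eq_multiplicity]
  have hNc : (Nat.card N).Coprime p := by
    rw [← hc.index_eq_card]
    exact ((Fact.out : p.Prime).coprime_iff_not_dvd.2 Q.not_dvd_index).symm
  have hNle : N ≤ Cfsg.pPrimeCore p T := CfsgLib.Coprime.le_pPrimeCore hNc
  refine ⟨le_antisymm (sup_le hHT (Subgroup.map_subtype_le _)) fun t ht => ?_, ?_⟩
  · have h1 : (P : Subgroup T) ⊔ N = ⊤ := by
      refine Subgroup.index_eq_one.1 (Nat.eq_one_of_dvd_coprimes (a := p ^ (Nat.card T).factorization p) (b := (P : Subgroup T).index) ?_ ?_ ?_)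
      · exact ((Fact.out : p.Prime).coprime_iff_not_dvd.2 P.not_dvd_index).pow_left _
      · rw [← P.card_eq_multiplicity, ← hQi]; exact Subgroup.index_dvd_of_le le_sup_right
      · exact Subgroup.index_dvd_of_le le_sup_left
    have h2 := h1.ge (Subgroup.mem_top (⟨t, ht⟩ : T))
    rw [sup_comm, ← SetLike.mem_coe, Subgroup.normal_mul] at h2
    obtain ⟨a, ha, b, hb, hab⟩ := h2
    rw [hPeq, hH', SetLike.mem_coe, Subgroup.mem_subgroupOf] at hb
    rw [← show (a : G) * b = t from congrArg Subtype.val hab, sup_comm]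
    exact Subgroup.mul_mem_sup ⟨a, hNle ha, rfl⟩ hb
  · rw [← Subgroup.card_eq_one]
    obtain ⟨k, hk⟩ := hHp.exists_card_eq
    refine Nat.eq_one_of_dvd_coprimes ?_ (Subgroup.card_dvd_of_le inf_le_left) (Subgroup.card_dvd_of_le inf_le_right)
    rw [hk, Subgroup.card_map_of_injective T.subtype_injective]
    exact (CfsgLib.Coprime.pPrimeCore_coprime (G := T) (Fact.out : p.Prime)).symm.pow_left k

end Cfsg.Agent.S3020
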