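import Cfsg.Statements.S3021
import Cfsg.Agent.Lib.PGroup.Isolated

set_option autoImplicit false
open Cfsg

namespace Cfsg.Agent.S3021

/-- Let G be a finite group, p a prime and H a p-subgroup of G that is extremely closed (for every g, the subgroup generated by H and g H g⁻¹ meets N_G(H) exactly in H). Then every p-subgroup Q of G containing H has N_G(Q) ≤ N_G(H); in particular every Sylow p-subgroup P of G containing H normalizes H, and H is strongly closed in P with respect to G. -/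
theorem result {G : Type*} [Group G] [Finite G] {p : ℕ} [Fact p.Prime] (H : Subgroup G) (hHp : IsPGroup p H) (hcl : Cfsg.IsExtremelyClosed H) : (∀ Q : Subgroup G, IsPGroup p Q → H ≤ Q → Subgroup.normalizer (Q : Set G) ≤ Subgroup.normalizer (H : Set G)) ∧ ∀ P : Sylow p G, H ≤ (P : Subgroup G) → (P : Subgroup G) ≤ Subgroup.normalizer (H : Set G) ∧ Cfsg.IsStronglyClosed H (P : Subgroup G) := by
  have hin : ∀ Q : Subgroup G, IsPGroup p Q → H ≤ Q → Q ≤ Subgroup.normalizer (H : Set G) := by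
    intro Q hQ hHQ
    haveI := hQ.isNilpotent
    by_contra hne
    obtain ⟨y, hyQ, hyN, hy⟩ := CfsgLib.Isolated.exists_mem_normalizer_inf
      (inf_le_left : Q ⊓ Subgroup.normalizer (H : Set G) ≤ Q) fun h => hne (h.trans inf_le_right)
    have h1 : H.map (MulAut.conj y).toMonoidHom ≤ Subgroup.normalizer (H : Set G) := by
      rintro _ ⟨z, hz, rfl⟩
      exact ((Subgroup.mem_normalizer_iff.1 hyN z).1 ⟨hHQ hz, Subgroup.le_normalizer hz⟩).2
    have h2 := hcl y
    rw [inf_eq_left.2 (sup_le Subgroup.le_normalizer h1)] at h2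
    exact hy ⟨hyQ, CfsgLib.Fusion.conjBy_eq_iff.1 (CfsgLib.Fusion.conjBy_eq_of_le (le_sup_right.trans h2.le))⟩
  refine ⟨fun Q hQ hHQ g hg => ?_, fun P hP => ⟨hin _ P.2 hP, hP, fun x hx g hgx => ?_⟩⟩
  · have h1 : H.map (MulAut.conj g).toMonoidHom ≤ Subgroup.normalizer (H : Set G) := by
      rintro _ ⟨z, hz, rfl⟩
      exact hin Q hQ hHQ ((Subgroup.mem_normalizer_iff.1 hg z).1 (hHQ hz))
    have h2 := hcl g
    rw [inf_eq_left.2 (sup_le Subgroup.le_normalizer h1)] at h2
    exact CfsgLib.Fusion.conjBy_eq_iff.1 (CfsgLib.Fusion.conjBy_eq_of_le (le_sup_right.trans h2.le))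
  · rw [← hcl g]
    exact ⟨Subgroup.mem_sup_right ⟨x, hx, rfl⟩, hin _ P.2 hP hgx⟩

end Cfsg.Agent.S3021
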