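import Cfsg.Statements.S4018
import Cfsg.Agent.Lib.PGroup.RegularFriendship

set_option autoImplicit false
open Cfsg

namespace Cfsg.Agent.S4018

section aux

variable {G : Type*} [Group G]

theorem mul_self_conj (g z : G) (hz : z * z = 1) : (g * z * g⁻¹) * (g * z * g⁻¹) = 1 := by
  rw [show (g * z * g⁻¹) * (g * z * g⁻¹) = g * (z * z) * g⁻¹ by group, hz, mul_one, mul_inv_cancel]

theorem orderOf_inv_two {z : G} (hz1 : z ≠ 1) (hz : z * z = 1) : orderOf z = 2 :=
  orderOf_eq_prime (by rw [pow_two, hz]) hz1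

theorem false_of_isSimpleGroup [Finite G] [IsSimpleGroup G]
    (P : Sylow 3 G) (hab : IsMulCommutative P)
    (hN : Nat.card (Subgroup.normalizer ((P : Subgroup G) : Set G)) = 4 * Nat.card P)
    (hC : Nat.card (Subgroup.centralizer (P : Set G)) = 2 * Nat.card P)
    (hTI : Cfsg.IsTISubset (Subgroup.centralizer (P : Set G) : Set G))
    (heven : ∀ H : Subgroup G, H ≠ ⊤ → 2 ∣ Nat.card H → Nat.card H ∣ 4 * Nat.card P) :
    False := by
  classical
  haveI := Fintype.ofFinite G
  set C : Subgroup G := Subgroup.centralizer (P : Set G) with hCdef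
  set N : Subgroup G := Subgroup.normalizer ((P : Subgroup G) : Set G) with hNdef
  set m := Nat.card P with hm
  obtain ⟨k, hk⟩ := P.2.exists_card_eq
  have hmk : m = 3 ^ k := hk
  have hm0 : 0 < m := Nat.card_pos
  have hmodd : ¬ 2 ∣ m := fun h => by
    rw [hmk] at h
    exact absurd ((Nat.prime_dvd_prime_iff_eq Nat.prime_two Nat.prime_three).1
      (Nat.prime_two.dvd_of_dvd_pow h)) (by norm_num)
  have h3G : 3 ∣ Nat.card G := by
    rcases Nat.eq_zero_or_pos k with h0 | h0
    · exfalso
      have hbot : (P : Subgroup G) = ⊥ := Subgroup.card_eq_one.1 (by rw [hk, h0, pow_zero])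
      have hCtop : C = ⊤ := eq_top_iff.2 fun g _ => Subgroup.mem_centralizer_iff.2 fun x hx => by
        have : x = 1 := by
          have hx' : x ∈ (P : Subgroup G) := hx
          rwa [hbot, Subgroup.mem_bot] at hx'
        subst this; simp
      have hNtop : N = ⊤ := by
        haveI : (P : Subgroup G).Normal := hbot ▸ (inferInstance : (⊥ : Subgroup G).Normal)
        rw [hNdef, Subgroup.normalizer_eq_top]
      rw [hCtop] at hC; rw [hNtop] at hN
      omega
    · exact (dvd_pow_self 3 h0.ne').trans (hk ▸ Subgroup.card_subgroup_dvd_card _)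
  have hPC : (P : Subgroup G) ≤ C := fun x hx => Subgroup.mem_centralizer_iff.2 fun y hy =>
    congrArg Subtype.val (hab.is_comm.comm (⟨y, hy⟩ : P) ⟨x, hx⟩)
  have hCN : C ≤ N := Subgroup.centralizer_le_normalizer _
  -- `G` has no cyclic or trivial structure
  have hNne : N ≠ ⊤ := fun h => by
    haveI : (P : Subgroup G).Normal := Subgroup.normalizer_eq_top_iff.1 h
    rw [h, Subgroup.card_top] at hN
    rcases (inferInstance : (P : Subgroup G).Normal).eq_bot_or_eq_top with h' | h'
    · have : m = 1 := by rw [hm]; exact Subgroup.card_eq_one.2 h'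
      rw [this] at hN
      rw [hN] at h3G; norm_num at h3G
    · have : m = Nat.card G := by
        rw [hm]; exact ((Subgroup.card_eq_iff_eq_top _).2 h')
      omega
  have hcycne : ∀ x : G, Subgroup.normalizer (Subgroup.zpowers x : Set G) ≠ ⊤ ∨ x = 1 := by
    intro x
    by_contra hcon
    push Not at hcon
    haveI : (Subgroup.zpowers x).Normal := Subgroup.normalizer_eq_top_iff.1 hcon.1
    rcases (inferInstance : (Subgroup.zpowers x).Normal).eq_bot_or_eq_top with h' | h'
    · exact hcon.2 (Subgroup.zpowers_eq_bot.1 h')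
    · refine hNne (eq_top_iff.2 fun g _ => ?_)
      have hcomm : ∀ a b : G, a * b = b * a := by
        intro a b
        have ha : a ∈ Subgroup.zpowers x := by rw [h']; trivial
        have hb : b ∈ Subgroup.zpowers x := by rw [h']; trivial
        obtain ⟨i, rfl⟩ := ha
        obtain ⟨j, rfl⟩ := hb
        rw [← zpow_add, ← zpow_add, add_comm]
      refine Subgroup.mem_normalizer_iff.2 fun y => ?_
      rw [hcomm g y, mul_inv_cancel_right]
  -- three-elements of `N` lie in `P`
  have h3N : ∀ x ∈ N, x ^ m = 1 → x ∈ (P : Subgroup G) := by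
    intro x hx hxm
    have hq : IsPGroup 3 (Subgroup.zpowers x) := by
      intro y
      refine ⟨k, Subtype.ext ?_⟩
      obtain ⟨i, hi⟩ := y.2
      rw [SubmonoidClass.coe_pow, ← hi, Subgroup.coe_one, ← hmk]
      rw [← zpow_natCast, ← zpow_mul, mul_comm, zpow_mul, zpow_natCast, hxm, one_zpow]
    have h := hq.inf_normalizer_sylow P
    have hmem : x ∈ Subgroup.zpowers x ⊓ N := ⟨Subgroup.mem_zpowers x, hx⟩
    have h2 : x ∈ Subgroup.zpowers x ⊓ (P : Subgroup G) := by
      rw [← h]; exact hmem
    exact h2.2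
  have hPpow : ∀ x ∈ (P : Subgroup G), x ^ m = 1 := fun x hx =>
    congrArg Subtype.val (pow_card_eq_one' (x := (⟨x, hx⟩ : P)))
  -- the involution of `C`
  haveI : Fact (Nat.Prime 2) := ⟨Nat.prime_two⟩
  obtain ⟨t0, ht0⟩ := exists_prime_orderOf_dvd_card' (G := C) 2 (hC ▸ Dvd.intro m rfl)
  set t : G := (t0 : G) with htdef
  have htC : t ∈ C := t0.2
  have hto : orderOf t = 2 := by rw [htdef, Subgroup.orderOf_coe, ht0]
  have ht1 : t ≠ 1 := fun h => by rw [h, orderOf_one] at hto; omega
  have htt : t * t = 1 := by rw [← pow_two, ← hto, pow_orderOf_eq_one]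
  have hsq : ∀ c ∈ C, c * c ∈ (P : Subgroup G) := fun c hc => by
    refine h3N _ (hCN (mul_mem hc hc)) ?_
    have h1 : c ^ (2 * m) = 1 := by
      have h := congrArg Subtype.val (pow_card_eq_one' (x := (⟨c, hc⟩ : C)))
      rwa [hC] at h
    rw [← pow_two, ← pow_mul, h1]
  have hCt : C ≤ Subgroup.centralizer ({t} : Set G) := by
    have hPt : ∀ x ∈ (P : Subgroup G), Commute x t := fun x hx =>
      Subgroup.mem_centralizer_iff.1 htC x hx
    have hsup : (P : Subgroup G) ⊔ Subgroup.zpowers t = C := by
      refine Subgroup.eq_of_le_of_card_ge (sup_le hPC (Subgroup.zpowers_le.2 htC)) ?_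
      have h1 : m ∣ Nat.card ((P : Subgroup G) ⊔ Subgroup.zpowers t : Subgroup G) :=
        Subgroup.card_dvd_of_le le_sup_left
      have h2 : 2 ∣ Nat.card ((P : Subgroup G) ⊔ Subgroup.zpowers t : Subgroup G) := by
        have h : Nat.card (Subgroup.zpowers t) ∣
            Nat.card ((P : Subgroup G) ⊔ Subgroup.zpowers t : Subgroup G) :=
          Subgroup.card_dvd_of_le le_sup_right
        rwa [Nat.card_zpowers, hto] at h
      rw [hC]
      exact Nat.le_of_dvd Nat.card_pos
        (((Nat.prime_two.coprime_iff_not_dvd.2 hmodd)).mul_dvd_of_dvd_of_dvd h2 h1)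
    rw [← hsup]
    refine sup_le (fun x hx => Subgroup.mem_centralizer_singleton_iff.2 (hPt x hx).eq)
      (Subgroup.zpowers_le.2 (Subgroup.mem_centralizer_singleton_iff.2 rfl))
  have hPodd : ∀ x ∈ (P : Subgroup G), x * x = 1 → x = 1 := fun x hx hxx => by
    have h2 : orderOf x ∣ 2 := orderOf_dvd_of_pow_eq_one (by rw [pow_two, hxx])
    have h3 : orderOf x ∣ m := orderOf_dvd_of_pow_eq_one (hPpow x hx)
    exact orderOf_eq_one_iff.1
      (Nat.eq_one_of_dvd_coprimes (Nat.prime_two.coprime_iff_not_dvd.2 hmodd) h2 h3)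
  have huniq : ∀ c ∈ C, c * c = 1 → c ≠ 1 → c = t := by
    intro c hc hcc hc1
    have hidx : ((P : Subgroup G).subgroupOf C).index = 2 := by
      have e := Subgroup.relIndex_mul_relIndex ⊥ (P : Subgroup G) C bot_le hPC
      rw [Subgroup.relIndex_bot_left, Subgroup.relIndex_bot_left, hC] at e
      refine Nat.eq_of_mul_eq_mul_left hm0 ?_
      show m * (P : Subgroup G).relIndex C = m * 2
      rw [hm, e, mul_comm]
    have hiff := Subgroup.mul_mem_iff_of_index_two hidx (a := ⟨c, hc⟩) (b := ⟨t, htC⟩)
    simp only [Subgroup.mem_subgroupOf, Subgroup.coe_mul] at hiff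
    have hcP : c ∉ (P : Subgroup G) := fun h => hc1 (hPodd c h hcc)
    have htP : t ∉ (P : Subgroup G) := fun h => ht1 (hPodd t h htt)
    have hct : Commute c t := Subgroup.mem_centralizer_singleton_iff.1 (hCt hc)
    have hctP : c * t ∈ (P : Subgroup G) := hiff.2 (iff_of_false hcP htP)
    have h1 : c * t = 1 := hPodd _ hctP (by
      calc c * t * (c * t) = c * (t * c) * t := by group
        _ = c * (c * t) * t := by rw [hct.eq]
        _ = (c * c) * (t * t) := by group
        _ = 1 := by rw [hcc, htt, one_mul])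
    rw [mul_eq_one_iff_eq_inv.1 h1]
    exact (mul_eq_one_iff_eq_inv.1 htt).symm
  -- the centralizer of `t`
  have hCtne : Subgroup.centralizer ({t} : Set G) ≠ ⊤ := fun h => by
    rcases hcycne t with h' | h'
    · refine h' (eq_top_iff.2 fun g _ => ?_)
      have hg : g ∈ Subgroup.centralizer ({t} : Set G) := h ▸ trivial
      refine Subgroup.centralizer_le_normalizer _ ?_
      refine Subgroup.mem_centralizer_iff.2 ?_
      rintro _ ⟨i, rfl⟩
      exact ((show Commute g t from Subgroup.mem_centralizer_singleton_iff.1 hg).zpow_right i).eq.symm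
    · exact ht1 h'
  obtain ⟨S, hS⟩ := (IsPGroup.of_card (p := 2) (n := 1)
    (show Nat.card (Subgroup.zpowers t) = 2 ^ 1 by rw [Nat.card_zpowers, hto, pow_one])).exists_le_sylow
  have htS : t ∈ (S : Subgroup G) := hS (Subgroup.mem_zpowers t)
  have hScard : Nat.card S = 4 := by
    have hne : (S : Subgroup G) ≠ ⊤ := fun h => by
      obtain ⟨n, hn⟩ := S.2.exists_card_eq
      rw [h, Subgroup.card_top] at hn
      rw [hn] at h3G
      exact absurd ((Nat.prime_dvd_prime_iff_eq Nat.prime_three Nat.prime_two).1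
        (Nat.prime_three.dvd_of_dvd_pow h3G)) (by norm_num)
    have h2 : 2 ∣ Nat.card S := by
      have h : Nat.card (Subgroup.zpowers t) ∣ Nat.card (S : Subgroup G) :=
        Subgroup.card_dvd_of_le hS
      rwa [Nat.card_zpowers, hto] at h
    have h1 := heven _ hne h2
    obtain ⟨n, hn⟩ := S.2.exists_card_eq
    refine Nat.dvd_antisymm ?_ ?_
    · refine (Nat.Coprime.dvd_of_dvd_mul_right ?_ h1)
      rw [hn]
      exact Nat.Coprime.pow_left n (Nat.prime_two.coprime_iff_not_dvd.2 hmodd)
    · have h4 : 2 ^ 2 ∣ Nat.card G :=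
        (show 2 ^ 2 ∣ Nat.card N by rw [hN]; exact Dvd.intro m rfl).trans
          (Subgroup.card_subgroup_dvd_card _)
      have := (Nat.prime_two.pow_dvd_iff_le_factorization Nat.card_pos.ne').1 h4
      rw [S.card_eq_multiplicity]
      exact pow_dvd_pow 2 this
  have hScomm : ∀ x ∈ (S : Subgroup G), ∀ y ∈ (S : Subgroup G), x * y = y * x := by
    intro x hx y hy
    have h := IsPGroup.commutative_of_card_eq_prime_sq (p := 2) (G := S) (by rw [hScard]; rfl)
    exact congrArg Subtype.val (h ⟨x, hx⟩ ⟨y, hy⟩)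
  have hCtN : Subgroup.centralizer ({t} : Set G) = N := by
    set T := Subgroup.centralizer ({t} : Set G)
    have hST : (S : Subgroup G) ≤ T := fun x hx =>
      Subgroup.mem_centralizer_singleton_iff.2 (hScomm x hx t htS)
    have h1 : 4 ∣ Nat.card T := hScard ▸ Subgroup.card_dvd_of_le hST
    have h2 : 2 * m ∣ Nat.card T := hC ▸ Subgroup.card_dvd_of_le hCt
    have h3 := heven T hCtne ((Dvd.intro m rfl).trans h2)
    have hT : Nat.card T = 4 * m := by
      refine Nat.dvd_antisymm h3 (Nat.Coprime.mul_dvd_of_dvd_of_dvd ?_ h1 ((Dvd.intro_left 2 rfl).trans h2))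
      exact Nat.Coprime.pow_left 2 (Nat.prime_two.coprime_iff_not_dvd.2 hmodd)
    have hidx : C.relIndex T = 2 := by
      have e := Subgroup.relIndex_mul_relIndex ⊥ C T bot_le hCt
      rw [Subgroup.relIndex_bot_left, Subgroup.relIndex_bot_left, hC, hT] at e
      refine Nat.eq_of_mul_eq_mul_left (show 0 < 2 * m by omega) ?_
      rw [e]; ring
    haveI : (C.subgroupOf T).Normal := Subgroup.normal_of_index_eq_two hidx
    have hTC := (Subgroup.normal_subgroupOf_iff_le_normalizer hCt).1 this
    refine Subgroup.eq_of_le_of_card_ge (fun g hg => ?_) (by rw [hT, hN])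
    have key : ∀ x ∈ (P : Subgroup G), g * x * g⁻¹ ∈ (P : Subgroup G) := fun x hx => by
      refine h3N _ (hCN ((Subgroup.mem_normalizer_iff.1 (hTC hg) x).1 (hPC hx))) ?_
      rw [conj_pow, hPpow x hx, mul_one, mul_inv_cancel]
    refine Subgroup.mem_normalizer_iff.2 fun x => ⟨key x, fun hx => ?_⟩
    obtain ⟨y, hy⟩ := (Finite.injective_iff_surjective (f := fun z : P =>
      (⟨g * z * g⁻¹, key z z.2⟩ : P))).1 (fun a b hab' => Subtype.ext
        (mul_left_cancel (mul_right_cancel (congrArg Subtype.val hab')))) ⟨_, hx⟩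
    have h : (y : G) = x := mul_left_cancel (mul_right_cancel (congrArg Subtype.val hy))
    exact h ▸ y.2
  -- the trivial intersection property
  have hTI' : ∀ g x : G, x ∈ C → g * x * g⁻¹ ∈ C → x ≠ 1 → Commute g t := by
    intro g x hx hgx hx1
    have hg : g ∈ Subgroup.normalizer (C : Set G) := by
      by_contra hg
      exact hx1 (hTI g hg x hx hgx)
    have h := huniq _ ((Subgroup.mem_normalizer_iff.1 hg t).1 htC) (mul_self_conj g t htt)
      fun h => ht1 (by
        rw [show t = g⁻¹ * (g * t * g⁻¹) * g by group, h, mul_one, inv_mul_cancel])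
    exact mul_inv_eq_iff_eq_mul.1 h
  -- all involutions are conjugate
  have hSall : ∀ a ∈ (S : Subgroup G), a ≠ 1 → ∃ g : G, g * t * g⁻¹ = a := by
    have hSfus : ∃ x ∈ (S : Subgroup G), ∃ e : G, e * x * e⁻¹ ∈ (S : Subgroup G) ∧
        e * (e * x * e⁻¹) * e⁻¹ ∈ (S : Subgroup G) ∧
        e * x * e⁻¹ ≠ x ∧ e * (e * x * e⁻¹) * e⁻¹ ≠ x ∧
        e * (e * x * e⁻¹) * e⁻¹ ≠ e * x * e⁻¹ := by
      obtain ⟨g, hgN, hgC⟩ : ∃ g ∈ Subgroup.normalizer (S : Set G),
          g ∉ Subgroup.centralizer (S : Set G) := by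
        by_contra hcon
        push Not at hcon
        have hle : Subgroup.normalizer (S : Set G) ≤ Subgroup.centralizer (S : Set G) := hcon
        have hK := MonoidHom.ker_transferSylow_isComplement' S hle
        rcases (MonoidHom.normal_ker (MonoidHom.transferSylow S hle)).eq_bot_or_eq_top
          with h | h
        · rw [h] at hK
          have := hK.card_mul
          rw [Subgroup.card_bot, one_mul, hScard] at this
          rw [← this] at h3G; norm_num at h3G
        · rw [h] at hK
          have := hK.card_mul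
          rw [Subgroup.card_top, hScard] at this
          have := Nat.card_pos (α := G)
          omega
      obtain ⟨i, r, hr, hgi⟩ := Nat.exists_eq_two_pow_mul_odd (orderOf_pos g).ne'
      set e := g ^ (2 ^ i) with he
      have heN : e ∈ Subgroup.normalizer (S : Set G) := pow_mem hgN _
      have hgr : g ^ r ∈ (S : Subgroup G) := by
        have hq : IsPGroup 2 (Subgroup.zpowers (g ^ r)) := by
          intro y
          refine ⟨i, Subtype.ext ?_⟩
          obtain ⟨j, hj⟩ := y.2
          rw [SubmonoidClass.coe_pow, ← hj, Subgroup.coe_one, ← zpow_natCast, ← zpow_mul,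
            mul_comm, zpow_mul, zpow_natCast, ← pow_mul, mul_comm r, ← hgi, pow_orderOf_eq_one,
            one_zpow]
        have hmem : g ^ r ∈ Subgroup.zpowers (g ^ r) ⊓ Subgroup.normalizer (S : Set G) :=
          ⟨Subgroup.mem_zpowers _, pow_mem hgN _⟩
        have h := hq.inf_normalizer_sylow S
        have hmem' : g ^ r ∈ Subgroup.zpowers (g ^ r) ⊓ (S : Subgroup G) := h ▸ hmem
        exact hmem'.2
      have heC : e ∉ Subgroup.centralizer (S : Set G) := by
        intro heC
        have hgrC : g ^ r ∈ Subgroup.centralizer (S : Set G) :=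
          Subgroup.mem_centralizer_iff.2 fun y hy => hScomm y hy _ hgr
        have hco : (2 ^ i).Coprime r := Nat.Coprime.pow_left i
          (Nat.prime_two.coprime_iff_not_dvd.2 hr.not_two_dvd_nat)
        refine hgC ?_
        have hb := Nat.gcd_eq_gcd_ab (2 ^ i) r
        rw [hco.gcd_eq_one, Nat.cast_one] at hb
        rw [← zpow_one g, hb, zpow_add, zpow_mul, zpow_mul, zpow_natCast, zpow_natCast]
        exact mul_mem (zpow_mem heC _) (zpow_mem hgrC _)
      obtain ⟨x, hxS, hx⟩ : ∃ x ∈ (S : Subgroup G), ¬ Commute e x := by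
        by_contra hcon
        push Not at hcon
        exact heC (Subgroup.mem_centralizer_iff.2 fun y hy => (hcon y hy).eq.symm)
      have her : e ^ r = 1 := by rw [he, ← pow_mul, ← hgi, pow_orderOf_eq_one]
      have h1 := (Subgroup.mem_normalizer_iff.1 heN x).1 hxS
      refine ⟨x, hxS, e, h1, (Subgroup.mem_normalizer_iff.1 heN _).1 h1,
        fun h => hx (mul_inv_eq_iff_eq_mul.1 h), fun h => hx ?_, fun h => ?_⟩
      · have h2 : Commute (e ^ 2) x := by
          show e ^ 2 * x = x * e ^ 2
          rw [← mul_inv_eq_iff_eq_mul]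
          calc e ^ 2 * x * (e ^ 2)⁻¹ = e * (e * x * e⁻¹) * e⁻¹ := by rw [pow_two]; group
            _ = x := h
        obtain ⟨j, hj⟩ := hr
        have := h2.pow_left (j + 1)
        rwa [← pow_mul, show 2 * (j + 1) = r + 1 by omega, pow_succ, her, one_mul] at this
      · exact hx (mul_inv_eq_iff_eq_mul.1 (mul_left_cancel (mul_right_cancel h)))
    obtain ⟨x, hxS, e, hyS, hwS, hyx, hwx, hwy⟩ := hSfus
    set y := e * x * e⁻¹ with hy
    set w := e * y * e⁻¹ with hw
    have hx1 : x ≠ 1 := fun h => hyx (by rw [hy, h, mul_one, mul_inv_cancel])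
    have hy1 : y ≠ 1 := fun h => hx1 (by
      rw [show x = e⁻¹ * y * e by rw [hy]; group, h, mul_one, inv_mul_cancel])
    have hw1 : w ≠ 1 := fun h => hy1 (by
      rw [show y = e⁻¹ * w * e by rw [hw]; group, h, mul_one, inv_mul_cancel])
    have hall : ∀ a ∈ (S : Subgroup G), a = 1 ∨ a = x ∨ a = y ∨ a = w := by
      have hsub : ({1, x, y, w} : Finset G) ⊆ Finset.univ.filter (fun a => a ∈ (S : Subgroup G)) := by
        intro a ha
        simp only [Finset.mem_insert, Finset.mem_singleton] at ha
        simp only [Finset.mem_filter, Finset.mem_univ, true_and]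
        rcases ha with rfl | rfl | rfl | rfl
        · exact one_mem _
        · exact hxS
        · exact hyS
        · exact hwS
      have hc : (Finset.univ.filter (fun a => a ∈ (S : Subgroup G))).card = 4 := by
        rw [← hScard, Nat.card_eq_fintype_card, Fintype.card_subtype]
      have hc' : ({1, x, y, w} : Finset G).card = 4 := by
        rw [Finset.card_insert_of_notMem, Finset.card_insert_of_notMem,
          Finset.card_insert_of_notMem, Finset.card_singleton]
        · simpa using hwy.symm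
        · simp [hyx.symm, hwx.symm]
        · simp [hx1.symm, hy1.symm, hw1.symm]
      intro a ha
      have heq := Finset.eq_of_subset_of_card_le hsub (by rw [hc, hc'])
      have : a ∈ ({1, x, y, w} : Finset G) := by
        rw [heq]; simpa using ha
      simpa using this
    have hxall : ∀ a ∈ (S : Subgroup G), a ≠ 1 → ∃ g : G, g * x * g⁻¹ = a := by
      intro a ha ha1
      rcases hall a ha with rfl | rfl | rfl | rfl
      · exact absurd rfl ha1
      · exact ⟨1, by group⟩
      · exact ⟨e, rfl⟩
      · exact ⟨e * e, by rw [hw, hy]; group⟩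
    intro a ha ha1
    obtain ⟨g, hg⟩ := hxall a ha ha1
    obtain ⟨b, hb⟩ := hxall t htS ht1
    refine ⟨g * b⁻¹, ?_⟩
    rw [← hb, ← hg]; group
  have hconj : ∀ z : G, z ≠ 1 → z * z = 1 → ∃ g : G, g * t * g⁻¹ = z := by
    intro z hz1 hz
    obtain ⟨T, hT⟩ := (IsPGroup.of_card (p := 2) (n := 1)
      (show Nat.card (Subgroup.zpowers z) = 2 ^ 1 by
        rw [Nat.card_zpowers, orderOf_inv_two hz1 hz, pow_one])).exists_le_sylow
    obtain ⟨g, hg⟩ := MulAction.exists_smul_eq G T S
    have hzS : g * z * g⁻¹ ∈ (S : Subgroup G) := by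
      rw [← hg]
      exact Subgroup.smul_mem_pointwise_smul _ _ _ (hT (Subgroup.mem_zpowers z))
    obtain ⟨a, ha⟩ := hSall _ hzS fun h => hz1 (by
      rw [show z = g⁻¹ * (g * z * g⁻¹) * g by group, h, mul_one, inv_mul_cancel])
    refine ⟨g⁻¹ * a, ?_⟩
    rw [show g⁻¹ * a * t * (g⁻¹ * a)⁻¹ = g⁻¹ * (a * t * a⁻¹) * g by group, ha]
    group
  -- the key property
  have hmemN : ∀ a : G, Commute a t → a ∈ N := fun a h =>
    hCtN ▸ Subgroup.mem_centralizer_singleton_iff.2 h.eq
  have hkey : ∀ w x : G, w ≠ 1 → w * w = 1 → x ∈ (P : Subgroup G) → x ≠ 1 → Commute x w →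
      w = t := by
    intro w x hw1 hw hx hx1 hxw
    obtain ⟨g, rfl⟩ := hconj w hw1 hw
    have hy : Commute (g⁻¹ * x * g) t := by
      show g⁻¹ * x * g * t = t * (g⁻¹ * x * g)
      calc g⁻¹ * x * g * t = g⁻¹ * (x * (g * t * g⁻¹)) * g := by group
        _ = g⁻¹ * ((g * t * g⁻¹) * x) * g := by rw [hxw.eq]
        _ = t * (g⁻¹ * x * g) := by group
    have hyP : g⁻¹ * x * g ∈ (P : Subgroup G) := h3N _ (hmemN _ hy) (by
      have h := conj_pow (a := g⁻¹) (b := x) (i := m)
      rw [inv_inv] at h
      rw [h, hPpow x hx, mul_one, inv_mul_cancel])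
    have hgt := hTI' g _ (hPC hyP) (by
      rw [show g * (g⁻¹ * x * g) * g⁻¹ = x by group]; exact hPC hx)
      fun h => hx1 (by rw [show x = g * (g⁻¹ * x * g) * g⁻¹ by group, h, mul_one, mul_inv_cancel])
    rw [hgt.eq, mul_inv_cancel_right]
  have hnotC : ∀ a : G, a ≠ 1 → a * a = 1 → a ≠ t → a ∉ C := fun a h1 h2 h3 h =>
    h3 (huniq a h h2 h1)
  have hprod : ∀ a b : G, Commute a t → Commute b t → a ∉ C → b ∉ C → a * b ∈ C := by
    intro a b ha hb haC hbC
    have hidx : (C.subgroupOf N).index = 2 := by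
      have e := Subgroup.relIndex_mul_relIndex ⊥ C N bot_le hCN
      rw [Subgroup.relIndex_bot_left, Subgroup.relIndex_bot_left, hC, hN] at e
      refine Nat.eq_of_mul_eq_mul_left (show 0 < 2 * m by omega) ?_
      show 2 * m * C.relIndex N = 2 * m * 2
      rw [e]; ring
    have := (Subgroup.mul_mem_iff_of_index_two hidx (a := ⟨a, hmemN a ha⟩)
      (b := ⟨b, hmemN b hb⟩))
    simp only [Subgroup.mem_subgroupOf, Subgroup.coe_mul] at this
    exact this.2 (by simp [haC, hbC])
  -- the friendship relation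
  let V := {z : G // z ≠ 1 ∧ z * z = 1}
  haveI : Nonempty V := ⟨⟨t, ht1, htt⟩⟩
  let R : V → V → Prop := fun a b => a.1 ≠ b.1 ∧ Commute a.1 b.1
  let τ : V := ⟨t, ht1, htt⟩
  have hmove : ∀ a : V, ∃ e : V ≃ V, e τ = a ∧ ∀ b c : V, R (e b) (e c) ↔ R b c := by
    intro a
    obtain ⟨g, hg⟩ := hconj a.1 a.2.1 a.2.2
    refine ⟨(MulAut.conj g).toEquiv.subtypeEquiv fun z => ?_, Subtype.ext hg, fun b c => ?_⟩
    · show (z ≠ 1 ∧ z * z = 1) ↔ (MulAut.conj g z ≠ 1 ∧ MulAut.conj g z * MulAut.conj g z = 1)
      rw [← map_mul, ne_eq, ne_eq, map_eq_one_iff _ (MulAut.conj g).injective,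
        map_eq_one_iff _ (MulAut.conj g).injective]
    · show (MulAut.conj g b.1 ≠ MulAut.conj g c.1 ∧ Commute (MulAut.conj g b.1) (MulAut.conj g c.1)) ↔ _
      refine and_congr (MulAut.conj g).injective.ne_iff ⟨fun h => ?_, fun h => h.map _⟩
      have h' := h.eq
      rw [← map_mul, ← map_mul] at h'
      exact (MulAut.conj g).injective h'
  set d := (Finset.univ.filter fun b => R τ b).card with hd
  refine CfsgLib.PGroup.regular_friendship_false R (fun a b h => ⟨h.1.symm, h.2.symm⟩)
    (fun a h => h.1 rfl) (d := d) ?_ ?_ ?_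
  · -- at least three neighbours
    obtain ⟨u, huS, hu1, hut⟩ : ∃ u ∈ (S : Subgroup G), u ≠ 1 ∧ u ≠ t := by
      by_contra hcon
      push Not at hcon
      have hsub : (Finset.univ.filter (fun a => a ∈ (S : Subgroup G))) ⊆ {1, t} := fun a ha => by
        simp only [Finset.mem_filter, Finset.mem_univ, true_and] at ha
        simp only [Finset.mem_insert, Finset.mem_singleton]
        exact or_iff_not_imp_left.2 (hcon a ha)
      have := (Finset.card_le_card hsub).trans Finset.card_le_two
      rw [← Fintype.card_subtype, ← Nat.card_eq_fintype_card] at this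
      omega
    have hut' : Commute t u := hScomm t htS u huS
    have huu : u * u = 1 := by
      obtain ⟨b, rfl⟩ := hSall u huS hu1
      exact mul_self_conj b t htt
    have hux : ∀ x ∈ (P : Subgroup G), x ≠ 1 → ¬ Commute x u := fun x hx hx1 h =>
      hut (hkey u x hu1 huu hx hx1 h)
    obtain ⟨x, hxP, hx1⟩ : ∃ x ∈ (P : Subgroup G), x ≠ 1 := by
      by_contra hcon
      push Not at hcon
      have hbot : (P : Subgroup G) = ⊥ := (Subgroup.eq_bot_iff_forall _).2 hcon
      refine hNne ?_
      haveI : (P : Subgroup G).Normal := hbot ▸ (inferInstance : (⊥ : Subgroup G).Normal)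
      rw [hNdef, Subgroup.normalizer_eq_top]
    have hxt : Commute x t := Subgroup.mem_centralizer_iff.1 htC x hxP
    set v := x * u * x⁻¹ with hv
    have hvu : v ≠ u := fun h => hux x hxP hx1 (mul_inv_eq_iff_eq_mul.1 h)
    have hvtu : v ≠ t * u := by
      intro h
      have hxx : x * x ≠ 1 := fun h => hx1 (hPodd x hxP h)
      refine hux (x * x) (mul_mem hxP hxP) hxx (mul_inv_eq_iff_eq_mul.1 ?_)
      calc x * x * u * (x * x)⁻¹ = x * v * x⁻¹ := by rw [hv]; group
        _ = (x * t * x⁻¹) * (x * u * x⁻¹) := by rw [h]; group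
        _ = t * v := by rw [hxt.eq, mul_inv_cancel_right]
        _ = (t * t) * u := by rw [h]; group
        _ = u := by rw [htt, one_mul]
    have hv1 : v ≠ 1 := fun h => hu1 (by
      rw [show u = x⁻¹ * v * x by rw [hv]; group, h, mul_one, inv_mul_cancel])
    have htu1 : t * u ≠ 1 := fun h => hut (by
      rw [eq_inv_of_mul_eq_one_right h]; exact (mul_eq_one_iff_eq_inv.1 htt).symm)
    have htuu : t * u * (t * u) = 1 := by
      calc t * u * (t * u) = t * (u * t) * u := by group
        _ = t * (t * u) * u := by rw [hut'.eq]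
        _ = (t * t) * (u * u) := by group
        _ = 1 := by rw [htt, huu, one_mul]
    have hvt : v ≠ t := fun h => hut (by
      rw [show u = x⁻¹ * v * x by rw [hv]; group, h, mul_assoc, hxt.symm.eq, inv_mul_cancel_left])
    have hcv : Commute t v := by
      show t * v = v * t
      calc t * v = (t * x) * u * x⁻¹ := by rw [hv]; group
        _ = x * (t * u) * x⁻¹ := by rw [hxt.symm.eq]; group
        _ = x * (u * t) * x⁻¹ := by rw [hut'.eq]
        _ = v * (x * t * x⁻¹) := by rw [hv]; group
        _ = v * t := by rw [hxt.eq, mul_inv_cancel_right]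
    have hsub : ({⟨u, hu1, huu⟩, ⟨t * u, htu1, htuu⟩, ⟨v, hv1, mul_self_conj x u huu⟩} : Finset V) ⊆
        Finset.univ.filter fun b => R τ b := by
      intro z hz
      simp only [Finset.mem_insert, Finset.mem_singleton] at hz
      simp only [Finset.mem_filter, Finset.mem_univ, true_and]
      rcases hz with rfl | rfl | rfl
      · exact ⟨hut.symm, hut'⟩
      · exact ⟨fun h => hu1 (left_eq_mul.1 h), (Commute.refl t).mul_right hut'⟩
      · exact ⟨hvt.symm, hcv⟩
    have := Finset.card_le_card hsub
    rw [Finset.card_insert_of_notMem, Finset.card_insert_of_notMem, Finset.card_singleton] at this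
    · exact this
    · intro h
      exact hvtu (congrArg Subtype.val (Finset.mem_singleton.1 h)).symm
    · intro h
      rcases Finset.mem_insert.1 h with h | h
      · exact ht1 (right_eq_mul.1 (congrArg Subtype.val h : u = t * u))
      · exact hvu (congrArg Subtype.val (Finset.mem_singleton.1 h)).symm
  · intro a
    obtain ⟨e, rfl, he⟩ := hmove a
    exact (Finset.card_equiv e fun b => by simp [he]).symm
  · intro a b hne
    rw [Finset.card_eq_one]
    suffices h : ∃ c, (R a c ∧ R c b) ∧ ∀ w, R a w ∧ R w b → w = c by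
      obtain ⟨c, hc, hu⟩ := h
      exact ⟨c, Finset.ext fun w => by
        simp only [Finset.mem_filter, Finset.mem_univ, true_and, Finset.mem_singleton]
        exact ⟨hu w, fun h => h ▸ hc⟩⟩
    by_cases hcomm : Commute a.1 b.1
    · obtain ⟨e, rfl, he⟩ := hmove a
      obtain ⟨b, rfl⟩ := e.surjective b
      obtain ⟨hbt, hcb⟩ : R τ b := (he τ b).1 ⟨fun h => hne (Subtype.ext h), hcomm⟩
      have hcb' : Commute t b.1 := hcb
      have htb : t * b.1 ≠ 1 := fun h => hbt (by
        show t = b.1
        rw [eq_inv_of_mul_eq_one_right h]; exact mul_eq_one_iff_eq_inv.1 htt)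
      have htbb : t * b.1 * (t * b.1) = 1 := by
        calc t * b.1 * (t * b.1) = t * (b.1 * t) * b.1 := by group
          _ = t * (t * b.1) * b.1 := by rw [hcb'.eq]
          _ = (t * t) * (b.1 * b.1) := by group
          _ = 1 := by rw [htt, b.2.2, one_mul]
      refine ⟨e ⟨t * b.1, htb, htbb⟩, ⟨(he _ _).2 ⟨fun h => b.2.1 (left_eq_mul.1 h),
        (Commute.refl t).mul_right hcb'⟩, (he _ _).2 ⟨fun h => ht1 (mul_eq_right.1 h),
        hcb'.mul_left (Commute.refl _)⟩⟩, fun w hw => ?_⟩
      obtain ⟨w, rfl⟩ := e.surjective w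
      have h1 : R τ w := (he _ _).1 hw.1
      have h2 : R w b := (he _ _).1 hw.2
      refine congrArg e (Subtype.ext ?_)
      show w.1 = t * b.1
      have hc := hprod w.1 b.1 h1.2.symm hcb'.symm (hnotC _ w.2.1 w.2.2 fun h => h1.1 h.symm)
        (hnotC _ b.2.1 b.2.2 fun h => hbt h.symm)
      have hwb2 : w.1 * b.1 * (w.1 * b.1) = 1 := by
        calc w.1 * b.1 * (w.1 * b.1) = w.1 * (b.1 * w.1) * b.1 := by group
          _ = w.1 * (w.1 * b.1) * b.1 := by rw [h2.2.eq]
          _ = (w.1 * w.1) * (b.1 * b.1) := by group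
          _ = 1 := by rw [w.2.2, b.2.2, one_mul]
      have hwb : w.1 * b.1 ≠ 1 := fun h => h2.1 (by
        rw [mul_eq_one_iff_eq_inv.1 h]; exact (mul_eq_one_iff_eq_inv.1 b.2.2).symm)
      rw [← huniq _ hc hwb2 hwb, mul_assoc, b.2.2, mul_one]
    · -- existence of a common neighbour
      obtain ⟨a, ha1, ha⟩ := a
      obtain ⟨b, hb1, hb⟩ := b
      change ¬ Commute a b at hcomm
      have hainv : a⁻¹ = a := inv_eq_of_mul_eq_one_right ha
      have hbinv : b⁻¹ = b := inv_eq_of_mul_eq_one_right hb
      set x := a * b with hx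
      have hax : a * x * a⁻¹ = x⁻¹ := by
        rw [hx, mul_inv_rev, hainv, hbinv, ← mul_assoc a a b, ha, one_mul]
      have hbx : b * x * b⁻¹ = x⁻¹ := by
        rw [hx, mul_inv_rev, hainv, hbinv, mul_assoc b (a * b) b, mul_assoc a b b, hb, mul_one]
      have hxa : ¬ Commute x a := fun h => hcomm (by
        have h2 : a * (a * b) = a * (b * a) := by rw [← mul_assoc a b a, ← hx]; exact h.eq.symm
        exact mul_left_cancel h2)
      have hxb : ¬ Commute x b := fun h => hcomm (by
        have h2 : (a * b) * b = (b * a) * b := by rw [mul_assoc b a b, ← hx]; exact h.eq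
        exact mul_right_cancel h2)
      obtain ⟨c, hc1, hc, hca, hcb, hcx⟩ : ∃ c : G, c ≠ 1 ∧ c * c = 1 ∧ Commute c a ∧
          Commute c b ∧ Commute c x := by
        rcases Nat.even_or_odd (orderOf x) with ⟨j, hj⟩ | hodd
        · have hj2 : x ^ j * x ^ j = 1 := by rw [← pow_add, ← hj, pow_orderOf_eq_one]
          refine ⟨x ^ j, fun h => ?_, hj2, ?_, ?_, (Commute.refl x).pow_left j⟩
          · have := Nat.le_of_dvd ?_ (orderOf_dvd_of_pow_eq_one h)
            · have := orderOf_pos x; omega
            · have := orderOf_pos x; omega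
          all_goals refine (mul_inv_eq_iff_eq_mul.1 ?_).symm
          · rw [← conj_pow, hax, inv_pow, inv_eq_of_mul_eq_one_right hj2]
          · rw [← conj_pow, hbx, inv_pow, inv_eq_of_mul_eq_one_right hj2]
        · have hx1 : x ≠ 1 := fun h => hxa (h ▸ Commute.one_left a)
          set H := Subgroup.normalizer (Subgroup.zpowers x : Set G)
          have hHne : H ≠ ⊤ := (hcycne x).resolve_right hx1
          have haH : a ∈ H := by
            refine Subgroup.mem_normalizer_iff.2 fun y => ?_
            have key : ∀ y ∈ Subgroup.zpowers x, a * y * a⁻¹ ∈ Subgroup.zpowers x := by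
              rintro _ ⟨i, rfl⟩
              show a * x ^ i * a⁻¹ ∈ _
              rw [← conj_zpow, hax]
              exact zpow_mem (inv_mem (Subgroup.mem_zpowers x)) i
            refine ⟨key y, fun hy => ?_⟩
            have := key _ hy
            rwa [show a * (a * y * a⁻¹) * a⁻¹ = (a * a) * y * (a * a)⁻¹ by group, ha, one_mul,
              inv_one, mul_one] at this
          have hH2 : 2 ∣ Nat.card H := by
            have := Subgroup.orderOf_dvd_natCard H haH
            rwa [orderOf_inv_two ha1 ha] at this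
          have hxH : orderOf x ∣ 4 * m :=
            (Subgroup.orderOf_dvd_natCard H (Subgroup.le_normalizer (Subgroup.mem_zpowers x))).trans
              (heven H hHne hH2)
          have hxm : x ^ m = 1 := orderOf_dvd_iff_pow_eq_one.1 ((Nat.Coprime.pow_right 2
            (Nat.prime_two.coprime_iff_not_dvd.2 hodd.not_two_dvd_nat).symm).dvd_of_dvd_mul_left hxH)
          obtain ⟨Q, hQ⟩ : ∃ Q : Sylow 3 G, Subgroup.zpowers x ≤ Q := by
            refine IsPGroup.exists_le_sylow (fun y => ⟨k, Subtype.ext ?_⟩)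
            obtain ⟨i, hi⟩ := y.2
            rw [SubmonoidClass.coe_pow, ← hi, Subgroup.coe_one, ← hmk, ← zpow_natCast, ← zpow_mul,
              mul_comm, zpow_mul, zpow_natCast, hxm, one_zpow]
          obtain ⟨g, hg⟩ := MulAction.exists_smul_eq G Q P
          have hy : g * x * g⁻¹ ∈ (P : Subgroup G) := by
            rw [← hg]
            exact Subgroup.smul_mem_pointwise_smul _ _ _ (hQ (Subgroup.mem_zpowers x))
          have hgx1 : g * x * g⁻¹ ≠ 1 := fun h => hx1 (by
            rw [show x = g⁻¹ * (g * x * g⁻¹) * g by group, h, mul_one, inv_mul_cancel])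
          have key : ∀ s : G, s * x * s⁻¹ = x⁻¹ → Commute (g⁻¹ * t * g) s := by
            intro s hs
            have h := hTI' (g * s * g⁻¹) _ (hPC hy) (by
              rw [show g * s * g⁻¹ * (g * x * g⁻¹) * (g * s * g⁻¹)⁻¹ = g * (s * x * s⁻¹) * g⁻¹
                by group, hs, show g * x⁻¹ * g⁻¹ = (g * x * g⁻¹)⁻¹ by group]
              exact hPC (inv_mem hy)) hgx1
            show g⁻¹ * t * g * s = s * (g⁻¹ * t * g)
            calc g⁻¹ * t * g * s = g⁻¹ * (t * (g * s * g⁻¹)) * g := by group
              _ = g⁻¹ * ((g * s * g⁻¹) * t) * g := by rw [h.eq]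
              _ = s * (g⁻¹ * t * g) := by group
          refine ⟨g⁻¹ * t * g, fun h => ht1 ?_, ?_, key a hax, key b hbx, ?_⟩
          · rw [show t = g * (g⁻¹ * t * g) * g⁻¹ by group, h, mul_one, mul_inv_cancel]
          · rw [show g⁻¹ * t * g * (g⁻¹ * t * g) = g⁻¹ * (t * t) * g by group, htt, mul_one,
              inv_mul_cancel]
          · exact (key a hax).mul_right (key b hbx)
      refine ⟨⟨c, hc1, hc⟩, ⟨⟨fun h => hxa ((show c = a from h.symm) ▸ hcx.symm), hca.symm⟩,
        ⟨fun h => hxb ((show c = b from h) ▸ hcx.symm), hcb⟩⟩, ?_⟩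
      rintro ⟨w, hw1, hw⟩ ⟨⟨-, haw⟩, ⟨-, hwb⟩⟩
      change Commute a w at haw
      change Commute w b at hwb
      refine Subtype.ext ?_
      show w = c
      obtain ⟨g, hg⟩ := hconj c hc1 hc
      have hcg : ∀ s : G, Commute c s → Commute (g⁻¹ * s * g) t := by
        intro s hs
        show g⁻¹ * s * g * t = t * (g⁻¹ * s * g)
        calc g⁻¹ * s * g * t = g⁻¹ * (s * (g * t * g⁻¹)) * g := by group
          _ = g⁻¹ * ((g * t * g⁻¹) * s) * g := by rw [hg, hs.eq]
          _ = t * (g⁻¹ * s * g) := by group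
      have hga := hcg a hca
      have hgb := hcg b hcb
      have hgx : g⁻¹ * a * g * (g⁻¹ * b * g) = g⁻¹ * x * g := by rw [hx]; group
      have haC : g⁻¹ * a * g ∉ C := hnotC _ (fun h => ha1 (by
        rw [show a = g * (g⁻¹ * a * g) * g⁻¹ by group, h, mul_one, mul_inv_cancel]))
        (by rw [show g⁻¹ * a * g * (g⁻¹ * a * g) = g⁻¹ * (a * a) * g by group, ha, mul_one,
          inv_mul_cancel]) (fun h => hxa (by
          rw [show a = c by rw [← hg, ← h]; group]; exact hcx.symm))
      have hbC : g⁻¹ * b * g ∉ C := hnotC _ (fun h => hb1 (by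
        rw [show b = g * (g⁻¹ * b * g) * g⁻¹ by group, h, mul_one, mul_inv_cancel]))
        (by rw [show g⁻¹ * b * g * (g⁻¹ * b * g) = g⁻¹ * (b * b) * g by group, hb, mul_one,
          inv_mul_cancel]) (fun h => hxb (by
          rw [show b = c by rw [← hg, ← h]; group]; exact hcx.symm))
      have hC' := hprod _ _ hga hgb haC hbC
      rw [hgx] at hC'
      have h2 := hsq _ hC'
      have hx2 : g⁻¹ * x * g * (g⁻¹ * x * g) ≠ 1 := fun h => hxa (by
        have hxx : x * x = 1 := by
          rw [show x * x = g * (g⁻¹ * x * g * (g⁻¹ * x * g)) * g⁻¹ by group, h, mul_one,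
            mul_inv_cancel]
        have : a * x * a⁻¹ = x := by rw [hax]; exact inv_eq_of_mul_eq_one_right hxx
        exact (mul_inv_eq_iff_eq_mul.1 this).symm)
      have hwx : Commute x w := haw.mul_left hwb.symm
      have := hkey (g⁻¹ * w * g) _ (fun h => hw1 (by
        rw [show w = g * (g⁻¹ * w * g) * g⁻¹ by group, h, mul_one, mul_inv_cancel]))
        (by rw [show g⁻¹ * w * g * (g⁻¹ * w * g) = g⁻¹ * (w * w) * g by group, hw, mul_one,
          inv_mul_cancel]) h2 hx2 (by
          show g⁻¹ * x * g * (g⁻¹ * x * g) * (g⁻¹ * w * g) = g⁻¹ * w * g * (g⁻¹ * x * g * (g⁻¹ * x * g))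
          calc _ = g⁻¹ * (x * (x * w)) * g := by group
            _ = g⁻¹ * (x * (w * x)) * g := by rw [hwx.eq]
            _ = g⁻¹ * ((x * w) * x) * g := by group
            _ = g⁻¹ * ((w * x) * x) * g := by rw [hwx.eq]
            _ = _ := by group)
      rw [← hg, ← this]; group

end aux


/-- Let G be a finite group with an abelian Sylow 3-subgroup P such that the normalizer of P has order 4·#P, the centralizer C of P has order 2·#P, C meets each of its conjugates by elements outside its normalizer trivially, and every proper subgroup of G of even order has order dividing 4·#P. Then G is not simple. -/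
theorem result {G : Type*} [Group G] [Finite G]
    (P : Sylow 3 G) (hab : IsMulCommutative P)
    (hN : Nat.card (Subgroup.normalizer ((P : Subgroup G) : Set G)) = 4 * Nat.card P)
    (hC : Nat.card (Subgroup.centralizer (P : Set G)) = 2 * Nat.card P)
    (hTI : Cfsg.IsTISubset (Subgroup.centralizer (P : Set G) : Set G))
    (heven : ∀ H : Subgroup G, H ≠ ⊤ → 2 ∣ Nat.card H → Nat.card H ∣ 4 * Nat.card P) :
    ¬ IsSimpleGroup G := by
  intro h
  exact false_of_isSimpleGroup P hab hN hC hTI heven

end Cfsg.Agent.S4018
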