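import Cfsg.Statements.S2602
import Cfsg.Agent.Lib.AutPSL.Outer

set_option autoImplicit false
open Cfsg

namespace Cfsg.Agent.S2602

/-- Structure of the outer automorphism group of PSL_2(q), q = p^f ≥ 4: it has a normal cyclic subgroup of order gcd(2, q − 1) (diagonal automorphisms) with cyclic quotient of order f (field automorphisms); there is no graph automorphism in dimension 2. -/
theorem result {F : Type*} [Field F] [Fintype F] {p f : ℕ} [Fact p.Prime] (hf : 1 ≤ f) (hF : Fintype.card F = p ^ f) (h4 : 4 ≤ p ^ f) : ∃ φ : Cfsg.Out (Matrix.ProjectiveSpecialLinearGroup (Fin 2) F) →* Multiplicative (ZMod f), Function.Surjective φ ∧ IsCyclic φ.ker ∧ Nat.card φ.ker = Nat.gcd 2 (p ^ f - 1) := by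
  classical
  obtain ⟨θ⟩ := CfsgLib.AutPSL.exists_ringAut_equiv hF
  set T := Matrix.ProjectiveSpecialLinearGroup (Fin 2) F
  have hcl : ∀ β : MulAut T, ∃ (g : GL (Fin 2) F) (σ : RingAut F),
      β = CfsgLib.AutPSL.ind g σ := by
    intro β
    obtain ⟨g, σ, h | ⟨h3, -⟩⟩ := CfsgLib.AutPSL.aut_classify le_rfl β
    · exact ⟨g, σ, h⟩
    · omega
  choose G S hS using hcl
  have huniq : ∀ (g h : GL (Fin 2) F) (σ τ : RingAut F),
      CfsgLib.AutPSL.ind g σ = (CfsgLib.AutPSL.ind h τ : MulAut T) → σ = τ := by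
    intro g h σ τ he
    obtain ⟨g', hg'⟩ := CfsgLib.AutPSL.ind_inv g σ
    have h1 : (1 : MulAut T) = (CfsgLib.AutPSL.ind g σ)⁻¹ * CfsgLib.AutPSL.ind h τ := by
      rw [← he, inv_mul_cancel]
    rw [hg', CfsgLib.AutPSL.ind_mul] at h1
    exact inv_mul_eq_one.1 (CfsgLib.AutPSL.eq_one_of_ind_eq_one le_rfl h1.symm).1
  let ψ : MulAut T →* Multiplicative (ZMod f) :=
    MonoidHom.mk' (fun β => θ (S β)) fun β γ => by
      rw [← map_mul]
      congr 1
      exact huniq _ _ _ _ ((hS (β * γ)).symm.trans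
        ((congrArg₂ (· * ·) (hS β) (hS γ)).trans (CfsgLib.AutPSL.ind_mul _ _ _ _)))
  have hψ : ∀ g σ, ψ (CfsgLib.AutPSL.ind g σ) = θ σ := fun g σ =>
    congrArg θ (huniq _ _ _ _ (hS _).symm)
  have hinn : Cfsg.Inn T ≤ ψ.ker := fun β hβ => by
    obtain ⟨s, rfl⟩ := CfsgLib.AutPSL.mem_inn_iff.1 hβ
    rw [MonoidHom.mem_ker, hψ, map_one]
  obtain ⟨K, hKc, hKn, hK⟩ := CfsgLib.AutPSL.card_diag_range (n := 2) (F := F) le_rfl
  have hker : (QuotientGroup.lift (Cfsg.Inn T) ψ hinn).ker = K := by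
    ext x
    obtain ⟨β, rfl⟩ := QuotientGroup.mk'_surjective _ x
    rw [MonoidHom.mem_ker, QuotientGroup.mk'_apply, QuotientGroup.lift_mk, hK]
    constructor
    · intro h
      exact ⟨G β, (hS β).trans (by rw [θ.injective (h.trans (map_one θ).symm : θ (S β) = θ 1)])⟩
    · rintro ⟨g, rfl⟩
      rw [hψ, map_one]
  refine ⟨QuotientGroup.lift (Cfsg.Inn T) ψ hinn, ?_, hker ▸ hKc, ?_⟩
  · intro x
    obtain ⟨σ, rfl⟩ := θ.surjective x
    exact ⟨(CfsgLib.AutPSL.ind 1 σ : MulAut T), by rw [QuotientGroup.lift_mk, hψ]⟩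
  · rw [hker, hKn, hF]

end Cfsg.Agent.S2602
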