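import Cfsg.Statements.S2603
import Cfsg.Agent.Lib.SU.CenterCard
import Cfsg.Agent.Lib.AutPSL.Field

set_option autoImplicit false
open Cfsg CfsgLib.SU

namespace Cfsg.Agent.S2603

/-- Structure of the outer automorphism group of PSU_n(q), n ≥ 3, (n, q) ≠ (3, 2), q = p^f, realised over the field with q² elements: it has a normal cyclic subgroup of order gcd(n, q + 1) (diagonal automorphisms) with cyclic quotient of order 2f (generated by the Frobenius field automorphism of the field with q² elements, whose f-th power is the graph automorphism). -/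
theorem result {K : Type*} [Field K] [Fintype K] {p f q n : ℕ} [Fact p.Prime] (hf : 1 ≤ f) (hq : q = p ^ f) (hK : Fintype.card K = q ^ 2) (hn : 3 ≤ n) (h32 : ¬ (n = 3 ∧ q = 2)) : ∃ φ : Cfsg.Out (Cfsg.PSU n K q) →* Multiplicative (ZMod (2 * f)), Function.Surjective φ ∧ IsCyclic φ.ker ∧ Nat.card φ.ker = Nat.gcd n (q + 1) := by
  classical
  have hKf : Fintype.card K = p ^ (2 * f) := by rw [hK, hq, ← pow_mul, mul_comm]
  obtain ⟨θ⟩ := CfsgLib.AutPSL.exists_ringAut_equiv hKf
  obtain ⟨C, hC⟩ := CfsgLib.SU.classify hq hf hK hn h32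
  set T := Cfsg.PSU n K q
  choose G S hS using hC
  have huniq : ∀ (g h : ↥(Cfsg.GU n K q)) (σ τ : RingAut K),
      (C.ind g σ : MulAut T) = C.ind h τ → σ = τ := by
    intro g h σ τ he
    have h1 : C.indHom (h⁻¹ * g) * C.fieldHom (σ * τ⁻¹) = 1 := by
      have he' : C.indHom g * C.fieldHom σ = C.indHom h * C.fieldHom τ := by
        show C.ind g 1 * C.ind 1 σ = C.ind h 1 * C.ind 1 τ
        simp only [C.ind_mul, map_one, mul_one, one_mul, he]
      rw [map_mul, map_mul, mul_assoc, ← mul_assoc (C.indHom g), he', map_inv, map_inv,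
        mul_assoc (C.indHom h), mul_inv_cancel, mul_one, inv_mul_cancel]
    change C.ind (h⁻¹ * g) 1 * C.ind 1 (σ * τ⁻¹) = 1 at h1
    rw [C.ind_mul, one_mul, map_one, mul_one] at h1
    exact mul_inv_eq_one.1 (C.eq_one_of_ind_eq_one hn h1).1
  let ψ : MulAut T →* Multiplicative (ZMod (2 * f)) :=
    MonoidHom.mk' (fun β => θ (S β)) fun β γ => by
      rw [← map_mul]
      congr 1
      exact huniq _ _ _ _ ((hS (β * γ)).symm.trans
        ((congrArg₂ (· * ·) (hS β) (hS γ)).trans (C.ind_mul _ _ _ _)))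
  have hψ : ∀ g σ, ψ (C.ind g σ) = θ σ := fun g σ => congrArg θ (huniq _ _ _ _ (hS _).symm)
  have hinn : Cfsg.Inn T ≤ ψ.ker := fun β hβ => by
    rw [C.inn_eq_map] at hβ
    obtain ⟨g, -, rfl⟩ := hβ
    rw [MonoidHom.mem_ker, C.indHom_apply, hψ, map_one]
  refine ⟨QuotientGroup.lift (Cfsg.Inn T) ψ hinn, fun x => ?_, ?_⟩
  · obtain ⟨σ, rfl⟩ := θ.surjective x
    exact ⟨(C.ind 1 σ : MulAut T), by rw [QuotientGroup.lift_mk, hψ]⟩
  set π := QuotientGroup.mk' (Cfsg.Inn T)
  have hker : (QuotientGroup.lift (Cfsg.Inn T) ψ hinn).ker = (C.indHom (n := n)).range.map π := by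
    ext x
    obtain ⟨β, rfl⟩ := QuotientGroup.mk'_surjective _ x
    rw [MonoidHom.mem_ker, QuotientGroup.mk'_apply, QuotientGroup.lift_mk]
    constructor
    · intro h
      refine ⟨β, ⟨G β, ?_⟩, rfl⟩
      conv_rhs => rw [hS β, θ.injective (h.trans (map_one θ).symm : θ (S β) = θ 1)]
      rfl
    · rintro ⟨_, ⟨g, rfl⟩, hγ⟩
      have hm : (C.indHom g)⁻¹ * β ∈ ψ.ker := hinn (QuotientGroup.eq.1 hγ)
      rw [MonoidHom.mem_ker, map_mul, map_inv, C.indHom_apply, hψ, map_one, inv_one, one_mul] at hm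
      exact hm
  rw [hker]
  constructor
  · obtain ⟨u, hu⟩ := IsCyclic.exists_generator (α := C.unitOne)
    obtain ⟨g₀, hg₀⟩ := C.detHom_surjective (n := n) (by omega) u
    have hgen : (C.indHom (n := n)).range.map π = Subgroup.zpowers (π (C.indHom g₀)) := by
      refine le_antisymm ?_ (Subgroup.zpowers_le.2 (Subgroup.mem_map_of_mem π ⟨g₀, rfl⟩))
      rintro _ ⟨_, ⟨g, rfl⟩, rfl⟩
      obtain ⟨k, hk⟩ := hu (C.detHom g)
      refine ⟨k, ?_⟩
      show π (C.indHom g₀) ^ k = π (C.indHom g)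
      rw [← map_zpow, ← map_zpow]
      refine QuotientGroup.eq.2 ?_
      rw [← map_inv, ← map_mul, C.inn_eq_map]
      refine Subgroup.mem_map_of_mem _ ?_
      rw [MonoidHom.mem_ker, map_mul, map_inv, map_zpow, hg₀]
      exact inv_mul_eq_one.2 hk
    rw [hgen]; infer_instance
  · have hI : Cfsg.Inn T ≤ (C.indHom (n := n)).range := by
      rw [C.inn_eq_map]; exact Subgroup.map_le_range _ _
    have hinj : Function.Injective (MulAut.conj : T →* MulAut T) := by
      refine (injective_iff_map_eq_one _).2 fun x hx => ?_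
      obtain ⟨A, rfl⟩ := QuotientGroup.mk'_surjective _ x
      rw [← C.ind_ofSU] at hx
      obtain ⟨c, hc⟩ := (C.eq_one_of_ind_eq_one hn hx).2
      refine (QuotientGroup.eq_one_iff A).2 (Subgroup.mem_center_iff.2 (scalar_central (c := ((c : Kˣ) : K)) ?_))
      have := congrArg (fun g : ↥(Cfsg.GU n K q) => g.1.1) hc
      simp only [C.gscal_val] at this
      exact this
    have hR := C.card_indHom_range (n := n) hK hn
    have h1 := Subgroup.card_mul_index (π.comp (C.indHom (n := n)).range.subtype).ker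
    rw [Subgroup.index_ker, MonoidHom.range_comp, Subgroup.range_subtype,
      ← MonoidHom.comap_ker, QuotientGroup.ker_mk',
      show Nat.card (Subgroup.comap (C.indHom (n := n)).range.subtype (Cfsg.Inn T)) = Nat.card (Cfsg.Inn T) from
        Nat.card_congr (Subgroup.subgroupOfEquivOfLe hI).toEquiv,
      ← Nat.card_congr (MonoidHom.ofInjective hinj).toEquiv, hR, mul_comm] at h1
    exact Nat.eq_of_mul_eq_mul_right Nat.card_pos h1

end Cfsg.Agent.S2603
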