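import Cfsg.Statements.S4304
import Cfsg.Agent.Lib.Invol.KleinSylow
import Mathlib.GroupTheory.IndexNormal
import Mathlib.Algebra.Group.Subgroup.Pointwise
import Mathlib.GroupTheory.Transfer
import Mathlib.GroupTheory.SpecificGroups.Cyclic
import Mathlib.GroupTheory.GroupAction.Quotient
-- import your own Cfsg.Agent.* helpers here

set_option autoImplicit false
set_option linter.style.haveILetI false
open Cfsg

namespace Cfsg.Agent.S4304

open Subgroup
open scoped Classical Pointwise

/-- `|N(P) : C(P)|` divides the number of automorphisms of a cyclic `P`. -/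
theorem relIndex_dvd_totient {L : Type*} [Group L] [Finite L] (P : Subgroup L) (hP : IsCyclic P) :
    (centralizer (P : Set L)).relIndex (normalizer (P : Set L)) ∣ (Nat.card P).totient := by
  have key := card_dvd_of_injective _ (QuotientGroup.kerLift_injective P.normalizerMonoidHom)
  rw [normalizerMonoidHom_ker, ← index, ← relIndex, IsCyclic.card_mulAut] at key
  exact key

/-- Groups of order 105 or 315 have normal Sylow 7-subgroup. -/
theorem small_normal {L : Type*} [Group L] [Finite L] {d : ℕ} (hd : d = 3 ∨ d = 9)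
    (hL : Nat.card L = 35 * d) (S : Sylow 7 L) [Fact (Nat.Prime 7)] : (S : Subgroup L).Normal := by
  haveI : Fact (Nat.Prime 5) := ⟨by norm_num⟩
  obtain ⟨R⟩ : Nonempty (Sylow 5 L) := inferInstance
  have hR : Nat.card R = 5 := by
    rw [R.card_eq_multiplicity, hL]
    rcases hd with rfl | rfl
    · rw [show (35 * 3 : ℕ) = 5 ^ 1 * 21 by norm_num, Nat.factorization_mul (by norm_num) (by norm_num),
        Finsupp.add_apply, Nat.Prime.factorization_pow (by norm_num), Finsupp.single_eq_same,
        Nat.factorization_eq_zero_of_not_dvd (show ¬ 5 ∣ 21 by norm_num)]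
      rfl
    · rw [show (35 * 9 : ℕ) = 5 ^ 1 * 63 by norm_num, Nat.factorization_mul (by norm_num) (by norm_num),
        Finsupp.add_apply, Nat.Prime.factorization_pow (by norm_num), Finsupp.single_eq_same,
        Nat.factorization_eq_zero_of_not_dvd (show ¬ 5 ∣ 63 by norm_num)]
      rfl
  have hcyc : IsCyclic R := isCyclic_of_prime_card hR
  have hNC : normalizer ((R : Subgroup L) : Set L) ≤ centralizer ((R : Subgroup L) : Set L) := by
    rw [← relIndex_eq_one]
    have h1 := relIndex_dvd_totient (R : Subgroup L) hcyc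
    have h2 : (centralizer ((R : Subgroup L) : Set L)).relIndex
        (normalizer ((R : Subgroup L) : Set L)) ∣ Nat.card L :=
      dvd_trans (relIndex_dvd_card _ _) (card_subgroup_dvd_card _)
    rw [hR] at h1
    refine Nat.eq_one_of_dvd_coprimes (a := 4) (b := 35 * d) ?_ (by simpa [Nat.totient_prime (show Nat.Prime 5 by norm_num)] using h1) (hL ▸ h2)
    rcases hd with rfl | rfl <;> norm_num
  set M := (MonoidHom.transferSylow R hNC).ker
  have hM : M.IsComplement' (R : Subgroup L) := MonoidHom.ker_transferSylow_isComplement' R hNC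
  haveI : M.Normal := MonoidHom.normal_ker _
  have hMc : Nat.card M = 7 * d := by
    have := hM.card_mul
    rw [hR, hL] at this
    omega
  have h7 : ∀ x ∈ (S : Subgroup L), x ∈ M := by
    intro x hx
    rw [← QuotientGroup.eq_one_iff, ← orderOf_eq_one_iff]
    refine Nat.eq_one_of_dvd_coprimes (a := Nat.card S) (b := M.index) ?_
      (dvd_trans (orderOf_map_dvd (QuotientGroup.mk' M) x) (orderOf_dvd_natCard _ hx)) ?_
    · obtain ⟨n, hn⟩ := S.2.exists_card_eq
      rw [hn, hM.symm.index_eq_card, hR]
      exact Nat.Coprime.pow_left _ (by norm_num)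
    · rw [index_eq_card]; exact orderOf_dvd_natCard _
  let S' : Sylow 7 M := S.subtype h7
  have h1 : Nat.card (Sylow 7 M) ≡ 1 [MOD 7] := card_sylow_modEq_one 7 M
  have h2 : Nat.card (Sylow 7 M) ∣ (S' : Subgroup M).index := S'.card_dvd_index
  have h3 : (S' : Subgroup M).index ∣ d := by
    obtain ⟨n, hn⟩ := S'.2.exists_card_eq
    have h4 := (S' : Subgroup M).card_mul_index
    rw [hn, hMc] at h4
    have h5 : ¬ 7 ∣ (S' : Subgroup M).index := S'.not_dvd_index
    rcases n with _ | _ | n
    · exact absurd ⟨d, by simpa using h4⟩ h5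
    · exact ⟨1, by omega⟩
    · exfalso
      have : 49 ∣ 7 * d := ⟨7 ^ n * (S' : Subgroup M).index, by rw [← h4]; ring⟩
      omega
  have h6 : Nat.card (Sylow 7 M) = 1 := by
    have h7' := Nat.le_of_dvd (by omega) (h2.trans h3)
    have h8 : Nat.card (Sylow 7 M) ∣ d := h2.trans h3
    have h0 : 0 < Nat.card (Sylow 7 M) := Nat.card_pos
    unfold Nat.ModEq at h1
    revert h1 h8
    rcases hd with rfl | rfl <;> interval_cases (Nat.card (Sylow 7 M)) <;> norm_num
  haveI : Subsingleton (Sylow 7 M) := (Nat.card_eq_one_iff_unique.1 h6).1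
  haveI : (S' : Subgroup M).Normal := S'.normal_of_subsingleton
  haveI : (S' : Subgroup M).Characteristic := S'.characteristic_of_normal this
  have e : (S' : Subgroup M).map M.subtype = (S : Subgroup L) := by
    rw [Sylow.coe_subtype, map_subgroupOf_eq_of_le h7]
  rw [← e]
  infer_instance

/-- If the involution set of `N = C(t)` is everything, all involutions commute: impossible. -/
theorem no_fifteen_commuting {G : Type*} [Group G] [Finite G] (hG : ¬ 8 ∣ Nat.card G)
    (T : Finset G) (hT : 15 ≤ T.card) (hi : ∀ x ∈ T, x ^ 2 = 1)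
    (hc : ∀ x ∈ T, ∀ y ∈ T, Commute x y) : False := by
  set A := Subgroup.closure (T : Set G) with hAdef
  haveI : IsMulCommutative A := Subgroup.isMulCommutative_closure fun x hx y hy => hc x hx y hy
  have hexp : ∀ x ∈ A, x ^ 2 = 1 := by
    intro x hx
    induction hx using Subgroup.closure_induction with
    | mem x hx => exact hi x hx
    | one => simp
    | mul x y hx hy ihx ihy =>
      have : Commute x y := congrArg Subtype.val (mul_comm' (⟨x, hx⟩ : A) ⟨y, hy⟩)
      rw [this.mul_pow, ihx, ihy, one_mul]
    | inv x _ ih => rw [inv_pow, ih, inv_one]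
  have hp : IsPGroup 2 A := fun x => ⟨1, Subtype.ext (by simpa using hexp x x.2)⟩
  haveI : Fact (Nat.Prime 2) := ⟨Nat.prime_two⟩
  obtain ⟨n, hn⟩ := hp.exists_card_eq
  have hle : T.card ≤ Nat.card A := by
    rw [← Nat.card_eq_finsetCard T]
    exact Nat.card_le_card_of_injective (fun x : T => (⟨x.1, subset_closure x.2⟩ : A))
      fun a b hab => Subtype.ext (congrArg (fun z : A => (z : G)) hab)
  have h3 : 3 ≤ n := by
    by_contra h
    have : 2 ^ n ≤ 2 ^ 2 := Nat.pow_le_pow_right (by norm_num) (by omega)
    omega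
  exact hG (dvd_trans (pow_dvd_pow 2 h3) (hn ▸ card_subgroup_dvd_card A))


/-- The Klein four group part of the argument. -/
theorem no_klein {G : Type*} [Group G] [Finite G] (V : Sylow 2 G) (hV : IsKleinFour (V : Subgroup G))
    (hconj : ∀ x ∈ V, ∀ y ∈ V, x ≠ 1 → y ≠ 1 → IsConj x y)
    [Fact (Nat.Prime 7)] (P : Sylow 7 G) (hn : Nat.card (Sylow 7 G) = 15)
    (hP : Nat.card P = 7)
    (hC : Nat.card (centralizer ((P : Subgroup G) : Set G)) ≤ 14)
    (h8 : ¬ 8 ∣ Nat.card G)
    (h4 : 4 ∣ Nat.card (normalizer ((P : Subgroup G) : Set G))) : False := by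
  haveI : Fact (Nat.Prime 2) := ⟨Nat.prime_two⟩
  set N := normalizer ((P : Subgroup G) : Set G) with hN
  set C := centralizer ((P : Subgroup G) : Set G) with hCdef
  haveI hPc : IsCyclic P := isCyclic_of_prime_card hP
  have hCN : C ≤ N := centralizer_le_normalizer _
  have hPC : (P : Subgroup G) ≤ C := le_centralizer (P : Subgroup G)
  have hrel : C.relIndex N ∣ 6 := by
    have := relIndex_dvd_totient (P : Subgroup G) hPc
    rwa [hP, Nat.totient_prime (by norm_num)] at this
  -- the centralizer has order 14
  have hmul : C.relIndex N * Nat.card C = Nat.card N := by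
    rw [← card_mul_index (C.subgroupOf N), Nat.card_congr (subgroupOfEquivOfLe hCN).toEquiv,
      mul_comm]
    rfl
  have h7C : 7 ∣ Nat.card C := hP ▸ card_dvd_of_le hPC
  have hC14 : Nat.card C = 14 := by
    obtain ⟨c, hc⟩ := h7C
    have hc0 : 0 < Nat.card C := Nat.card_pos
    rcases (show c = 1 ∨ c = 2 by omega) with rfl | rfl
    · exfalso
      rw [hc] at hmul
      rw [← hmul] at h4
      have : C.relIndex N ≤ 6 := Nat.le_of_dvd (by norm_num) hrel
      interval_cases h : C.relIndex N <;> omega
    · exact hc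
  obtain ⟨t', ht'⟩ := exists_prime_orderOf_dvd_card' (G := C) 2 (hC14 ▸ by norm_num)
  set t : G := (t' : G) with htdef
  have ht2 : orderOf t = 2 := by rw [htdef, orderOf_coe, ht']
  have htC : t ∈ C := t'.2
  have htP : t ∉ (P : Subgroup G) := fun h => by
    have := orderOf_dvd_natCard (P : Subgroup G) h
    rw [ht2, hP] at this
    norm_num at this
  -- it is the only involution of `C`
  have huniq : ∀ x ∈ C, orderOf x = 2 → x = t := by
    intro x hx hx2
    have hidx : ((P : Subgroup G).subgroupOf C).index = 2 := by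
      have h1 := card_mul_index ((P : Subgroup G).subgroupOf C)
      rw [Nat.card_congr (subgroupOfEquivOfLe hPC).toEquiv, hP, hC14] at h1
      omega
    have hxt : x * t ∈ (P : Subgroup G) := by
      have := (mul_mem_iff_of_index_two (a := (⟨x, hx⟩ : C)) (b := t') hidx).2 ?_
      · exact this
      · simp only [mem_subgroupOf]
        refine iff_of_false (fun h => ?_) htP
        have := orderOf_dvd_natCard (P : Subgroup G) h
        rw [hx2, hP] at this
        norm_num at this
    set u := x * t with hu
    have htu : Commute t u := (mem_centralizer_iff.1 htC u hxt).symm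
    have hxu : x = u * t := by rw [hu, mul_assoc, ← pow_two, ← ht2, pow_orderOf_eq_one, mul_one]
    have hu2 : u ^ 2 = 1 := by
      have : x ^ 2 = 1 := hx2 ▸ pow_orderOf_eq_one x
      rwa [hxu, htu.symm.mul_pow, ← ht2, pow_orderOf_eq_one, mul_one, ht2] at this
    have hu1 : u = 1 := by
      rw [← orderOf_eq_one_iff]
      exact Nat.eq_one_of_dvd_coprimes (a := 2) (b := 7) (by norm_num)
        (orderOf_dvd_of_pow_eq_one hu2) (hP ▸ orderOf_dvd_natCard _ hxt)
    rw [hxu, hu1, one_mul]
  -- every involution is conjugate to `t`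
  have hall : ∀ x : G, orderOf x = 2 → IsConj x t := by
    have hin : ∀ x : G, orderOf x = 2 → ∃ y ∈ V, y ≠ 1 ∧ IsConj x y := fun x hx => by
      have hp : IsPGroup 2 (zpowers x) := IsPGroup.of_card (n := 1) (by rw [Nat.card_zpowers, hx, pow_one])
      obtain ⟨k, hk⟩ := CfsgLib.Invol.exists_conj_le_sylow hp V
      refine ⟨_, hk x (mem_zpowers x), fun h => ?_, isConj_iff.2 ⟨k, rfl⟩⟩
      rw [conj_eq_one_iff] at h
      rw [h, orderOf_one] at hx
      norm_num at hx
    intro x hx
    obtain ⟨y, hy, hy1, hxy⟩ := hin x hx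
    obtain ⟨z, hz, hz1, htz⟩ := hin t ht2
    exact hxy.trans ((hconj y hy z hz hy1 hz1).trans htz.symm)
  set Cn := centralizer ({t} : Set G) with hCn
  have hNCn : N ≤ Cn := by
    intro g hg
    rw [hCn, mem_centralizer_singleton_iff]
    have hmem : g * t * g⁻¹ ∈ C := by
      rw [hCdef, mem_centralizer_iff]
      intro u hu
      have hu' : g⁻¹ * u * g ∈ (P : Subgroup G) := by
        have := (mem_normalizer_iff.1 (inv_mem hg) u).1 hu
        simpa using this
      have := mem_centralizer_iff.1 htC _ hu'
      calc u * (g * t * g⁻¹) = g * (g⁻¹ * u * g * t) * g⁻¹ := by group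
        _ = g * (t * (g⁻¹ * u * g)) * g⁻¹ := by rw [this]
        _ = g * t * g⁻¹ * u := by group
    have := huniq _ hmem (by rw [← ht2]; exact orderOf_injective (MulAut.conj g).toMonoidHom (MulAut.conj g).injective t)
    exact mul_inv_eq_iff_eq_mul.1 this
  have hPn : N.index = 15 := (Sylow.card_eq_index_normalizer P).symm.trans hn
  have hPCn : (P : Subgroup G) ≤ Cn := (le_normalizer).trans hNCn
  -- `C(t) = N`
  have hCnN : Cn = N := by
    let P' : Sylow 7 Cn := P.subtype hPCn
    have h1 : Nat.card (Sylow 7 Cn) = N.relIndex Cn := by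
      rw [P'.card_eq_index_normalizer]
      show (normalizer (((P : Subgroup G).subgroupOf Cn) : Set Cn)).index = _
      rw [← subgroupOf_normalizer_eq hPCn]
      rfl
    have h2 : Nat.card (Sylow 7 Cn) ≡ 1 [MOD 7] := card_sylow_modEq_one 7 Cn
    have h3 : N.relIndex Cn * Cn.index = 15 := by rw [relIndex_mul_index hNCn, hPn]
    have h4 : N.relIndex Cn ∣ 15 := ⟨_, h3.symm⟩
    have h5 := Nat.le_of_dvd (by norm_num) h4
    rw [h1] at h2
    unfold Nat.ModEq at h2
    rcases (show N.relIndex Cn = 1 ∨ N.relIndex Cn = 15 by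
      revert h2 h4
      interval_cases (N.relIndex Cn) <;> norm_num) with h6 | h6
    · exact le_antisymm (relIndex_eq_one.1 h6) hNCn
    · exfalso
      rw [h6] at h3
      have htop : Cn = ⊤ := index_eq_one.1 (by omega)
      have hcen : ∀ g : G, g * t = t * g := fun g =>
        mem_centralizer_singleton_iff.1 (htop ▸ mem_top g : g ∈ Cn)
      have honly : ∀ x : G, orderOf x = 2 → x = t := fun x hx => by
        obtain ⟨g, hg⟩ := isConj_iff.1 (hall x hx).symm
        rw [← hg, hcen, mul_inv_cancel_right]
      have hsub : Nat.card {y : (V : Subgroup G) // y ≠ 1} ≤ 1 := by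
        rw [show (1 : ℕ) = Nat.card Unit by simp]
        refine Nat.card_le_card_of_injective (fun _ => ()) fun a b _ => ?_
        apply Subtype.ext; apply Subtype.ext
        rw [honly _ (CfsgLib.Invol.klein_invol V hV a.1.2 fun h => a.2 (Subtype.ext h)),
          honly _ (CfsgLib.Invol.klein_invol V hV b.1.2 fun h => b.2 (Subtype.ext h))]
      have := Fintype.ofFinite (V : Subgroup G)
      have hc := hV.card_four
      rw [Nat.card_eq_fintype_card] at hc
      rw [Nat.card_eq_fintype_card, Fintype.card_subtype_compl, Fintype.card_subtype_eq, hc] at hsub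
      omega
  -- an involution of `N` outside `C`
  obtain ⟨s, hsN, hs2, hsC⟩ : ∃ s ∈ N, orderOf s = 2 ∧ s ∉ C := by
    obtain ⟨W, hW⟩ := Sylow.exists_subgroup_card_pow_prime (G := N) 2 (n := 2) (by simpa using h4)
    have hWp : IsPGroup 2 (W.map N.subtype) := (IsPGroup.of_card hW).map _
    obtain ⟨k, hk⟩ := CfsgLib.Invol.exists_conj_le_sylow hWp V
    by_contra hno
    push Not at hno
    have hsub : Nat.card W ≤ 2 := by
      rw [show (2 : ℕ) = Nat.card Bool by simp]
      refine Nat.card_le_card_of_injective (fun w : W => decide (w = 1)) fun a b hab => ?_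
      have key : ∀ w : W, w ≠ 1 → ((w : N) : G) = t := by
        intro w hw
        have h2 : orderOf ((w : N) : G) = 2 := by
          have h := hk _ ⟨(w : N), w.2, rfl⟩
          have h' := CfsgLib.Invol.klein_invol V hV h (fun h => hw (by
            rw [conj_eq_one_iff] at h; exact Subtype.ext (Subtype.ext h)))
          rwa [show k * N.subtype (w : N) * k⁻¹ = MulAut.conj k ((w : N) : G) from rfl,
            MulEquiv.orderOf_eq] at h'
        exact huniq _ (hno _ (w : N).2 h2) h2
      simp only [decide_eq_decide] at hab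
      by_cases ha : a = 1
      · rw [ha, hab.1 ha]
      · exact Subtype.ext (Subtype.ext ((key a ha).trans (key b (fun h => ha (hab.2 h))).symm))
    rw [hW] at hsub
    norm_num at hsub
  have hst : Commute s t := mem_centralizer_singleton_iff.1 (hNCn hsN)
  have htN : t ∈ N := hCN htC
  -- conjugates of `s` and `s * t` under `P`
  have hinj : ∀ w : G, w ∈ N → w ∉ C → ∀ u ∈ (P : Subgroup G), ∀ v ∈ (P : Subgroup G),
      u * w * u⁻¹ = v * w * v⁻¹ → u = v := by
    intro w _ hwC u hu v hv e
    by_contra hne
    have hd : v⁻¹ * u ∈ (P : Subgroup G) := mul_mem (inv_mem hv) hu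
    have hd1 : v⁻¹ * u ≠ 1 := fun h => hne (inv_mul_eq_one.1 h).symm
    have hcomm : Commute (v⁻¹ * u) w := by
      show v⁻¹ * u * w = w * (v⁻¹ * u)
      calc v⁻¹ * u * w = v⁻¹ * (u * w * u⁻¹) * u := by group
        _ = v⁻¹ * (v * w * v⁻¹) * u := by rw [e]
        _ = w * (v⁻¹ * u) := by group
    have hgen : zpowers (v⁻¹ * u) = (P : Subgroup G) := by
      refine eq_of_le_of_card_ge (zpowers_le.2 hd) ?_
      rw [Nat.card_zpowers, hP]
      have := hP ▸ orderOf_dvd_natCard (P : Subgroup G) hd
      rcases (Nat.dvd_prime (by norm_num)).1 this with h | h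
      · exact absurd (orderOf_eq_one_iff.1 h) hd1
      · exact h.ge
    refine hwC (mem_centralizer_iff.2 fun y hy => ?_)
    rw [SetLike.mem_coe, ← hgen, mem_zpowers_iff] at hy
    obtain ⟨i, rfl⟩ := hy
    exact (hcomm.zpow_left i).eq
  haveI := Fintype.ofFinite G
  set A : Finset G := Finset.univ.image fun u : (P : Subgroup G) => (u : G) * s * (u : G)⁻¹ with hA
  set B : Finset G := Finset.univ.image fun u : (P : Subgroup G) => (u : G) * (s * t) * (u : G)⁻¹ with hB
  have hstC : s * t ∉ C := fun h => hsC (by simpa using mul_mem h (inv_mem htC))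
  have hAc : A.card = 7 := by
    rw [hA, Finset.card_image_of_injective _ fun a b hab => Subtype.ext
      (hinj s hsN hsC a a.2 b b.2 hab), Finset.card_univ, ← Nat.card_eq_fintype_card, hP]
  have hBc : B.card = 7 := by
    rw [hB, Finset.card_image_of_injective _ fun a b hab => Subtype.ext
      (hinj (s * t) (mul_mem hsN htN) hstC a a.2 b b.2 hab), Finset.card_univ,
      ← Nat.card_eq_fintype_card, hP]
  have hdisj : Disjoint A B := by
    rw [Finset.disjoint_left]
    intro x hxA hxB
    simp only [hA, hB, Finset.mem_image, Finset.mem_univ, true_and] at hxA hxB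
    obtain ⟨u, rfl⟩ := hxA
    obtain ⟨v, hv⟩ := hxB
    set w : G := (v : G)⁻¹ * u with hw
    have hwP : w ∈ (P : Subgroup G) := mul_mem (inv_mem v.2) u.2
    have e : s * t = w * s * w⁻¹ := by
      calc s * t = (v : G)⁻¹ * ((v : G) * (s * t) * (v : G)⁻¹) * v := by group
        _ = w * s * w⁻¹ := by rw [hv, hw]; group
    refine htP ?_
    have : t = s⁻¹ * w * s * w⁻¹ := by
      calc t = s⁻¹ * (s * t) := by group
        _ = s⁻¹ * (w * s * w⁻¹) := by rw [e]
        _ = _ := by group
    rw [this]
    refine mul_mem ?_ (inv_mem hwP)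
    have := (mem_normalizer_iff.1 (inv_mem hsN) w).1 hwP
    simpa using this
  have hordS : ∀ x ∈ A ∪ B, x ∈ N ∧ orderOf x = 2 ∧ x ∉ C := by
    intro x hx
    have hst2 : orderOf (s * t) = 2 := by
      refine orderOf_eq_prime ?_ ?_
      · rw [hst.mul_pow, ← hs2, pow_orderOf_eq_one, one_mul, hs2, ← ht2, pow_orderOf_eq_one]
      · intro h; exact hstC (h ▸ one_mem C)
    have key : ∀ (u : (P : Subgroup G)) (w : G), w ∈ N → orderOf w = 2 → w ∉ C →
        (u : G) * w * (u : G)⁻¹ ∈ N ∧ orderOf ((u : G) * w * (u : G)⁻¹) = 2 ∧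
          (u : G) * w * (u : G)⁻¹ ∉ C := fun u w hw hw2 hwC => by
      have hu : (u : G) ∈ C := hPC u.2
      refine ⟨mul_mem (mul_mem (hCN hu) hw) (inv_mem (hCN hu)), ?_, fun h => hwC ?_⟩
      · rw [show (u : G) * w * (u : G)⁻¹ = MulAut.conj (u : G) w from rfl, MulEquiv.orderOf_eq, hw2]
      · simpa [mul_assoc] using mul_mem (mul_mem (inv_mem hu) h) hu
    rcases Finset.mem_union.1 hx with h | h
    · simp only [hA, Finset.mem_image, Finset.mem_univ, true_and] at h
      obtain ⟨u, rfl⟩ := h; exact key u s hsN hs2 hsC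
    · simp only [hB, Finset.mem_image, Finset.mem_univ, true_and] at h
      obtain ⟨u, rfl⟩ := h; exact key u (s * t) (mul_mem hsN htN) hst2 hstC
  set T : Finset G := insert t (A ∪ B) with hT
  have hTc : T.card = 15 := by
    rw [hT, Finset.card_insert_of_notMem (fun h => (hordS t h).2.2 htC),
      Finset.card_union_of_disjoint hdisj, hAc, hBc]
  have hTall : T = Finset.univ.filter fun x : G => orderOf x = 2 := by
    refine Finset.eq_of_subset_of_card_le (fun x hx => ?_) ?_
    · refine Finset.mem_filter.2 ⟨Finset.mem_univ _, ?_⟩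
      rcases Finset.mem_insert.1 hx with rfl | hx
      · exact ht2
      · exact (hordS x hx).2.1
    · rw [hTc]
      have hq : Nat.card (G ⧸ Cn) = 15 := by rw [← index_eq_card, hCnN, hPn]
      rw [← hq, ← Nat.card_eq_finsetCard]
      let f : (Finset.univ.filter fun x : G => orderOf x = 2 : Finset G) → G ⧸ Cn := fun x =>
        ((Classical.choose (isConj_iff.1 (hall x.1 (Finset.mem_filter.1 x.2).2).symm) : G) : G ⧸ Cn)
      refine Nat.card_le_card_of_injective f fun a b hab => ?_
      have ea := Classical.choose_spec (isConj_iff.1 (hall a.1 (Finset.mem_filter.1 a.2).2).symm)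
      have eb := Classical.choose_spec (isConj_iff.1 (hall b.1 (Finset.mem_filter.1 b.2).2).symm)
      set g := Classical.choose (isConj_iff.1 (hall a.1 (Finset.mem_filter.1 a.2).2).symm)
      set g' := Classical.choose (isConj_iff.1 (hall b.1 (Finset.mem_filter.1 b.2).2).symm)
      have h1 : g⁻¹ * g' ∈ Cn := QuotientGroup.eq.1 hab
      rw [hCn, mem_centralizer_singleton_iff] at h1
      apply Subtype.ext
      rw [← ea, ← eb]
      calc g * t * g⁻¹ = g * (t * (g⁻¹ * g')) * g'⁻¹ := by group
        _ = g * (g⁻¹ * g' * t) * g'⁻¹ := by rw [h1]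
        _ = g' * t * g'⁻¹ := by group
  have hct : ∀ x : G, orderOf x = 2 → Commute x t := fun x hx => by
    have : x ∈ T := hTall ▸ Finset.mem_filter.2 ⟨Finset.mem_univ _, hx⟩
    rcases Finset.mem_insert.1 this with rfl | h
    · exact Commute.refl _
    · exact mem_centralizer_singleton_iff.1 (hNCn (hordS x h).1)
  refine no_fifteen_commuting h8 T hTc.ge (fun x hx => ?_) fun x hx y hy => ?_
  · have := (Finset.mem_filter.1 (hTall ▸ hx)).2
    rw [← this, pow_orderOf_eq_one]
  · have hx2 := (Finset.mem_filter.1 (hTall ▸ hx)).2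
    have hy2 := (Finset.mem_filter.1 (hTall ▸ hy)).2
    obtain ⟨g, hg⟩ := isConj_iff.1 (hall y hy2)
    have h1 : Commute (MulAut.conj g x) (MulAut.conj g y) := by
      rw [show MulAut.conj g y = t from hg]
      exact hct _ (by rw [MulEquiv.orderOf_eq, hx2])
    simpa [mul_assoc] using h1.map (MulAut.conj g).symm


/-- No group has 15 Sylow 7-subgroups of order 7 with centralizers of order at most 14. -/
theorem no_group {G : Type*} [Group G] [Finite G] [Fact (Nat.Prime 7)] (P : Sylow 7 G)
    (hn : Nat.card (Sylow 7 G) = 15) (hP : Nat.card P = 7)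
    (hC : Nat.card (centralizer ((P : Subgroup G) : Set G)) ≤ 14) : False := by
  haveI : Fact (Nat.Prime 2) := ⟨Nat.prime_two⟩
  set N := normalizer ((P : Subgroup G) : Set G) with hN
  set C := centralizer ((P : Subgroup G) : Set G) with hCdef
  haveI hPc : IsCyclic P := isCyclic_of_prime_card hP
  have hCN : C ≤ N := centralizer_le_normalizer _
  have hPC : (P : Subgroup G) ≤ C := le_centralizer (P : Subgroup G)
  have hrel : C.relIndex N ∣ 6 := by
    have := relIndex_dvd_totient (P : Subgroup G) hPc
    rwa [hP, Nat.totient_prime (by norm_num)] at this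
  have hmul : C.relIndex N * Nat.card C = Nat.card N := by
    rw [← card_mul_index (C.subgroupOf N), Nat.card_congr (subgroupOfEquivOfLe hCN).toEquiv,
      mul_comm]
    rfl
  obtain ⟨c, hc⟩ : 7 ∣ Nat.card C := hP ▸ card_dvd_of_le hPC
  have hNindex : N.index = 15 := (Sylow.card_eq_index_normalizer P).symm.trans hn
  have hG : Nat.card G = 105 * (C.relIndex N * c) := by
    rw [← card_mul_index N, hNindex, ← hmul, hc]; ring
  have hc0 : 0 < Nat.card C := Nat.card_pos
  set i := C.relIndex N with hi
  have hi6 : i ∣ 6 := hrel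
  have hile : i ≤ 6 := Nat.le_of_dvd (by norm_num) hrel
  -- normal subgroups with odd 2'-part
  have hnoL : ∀ (L : Subgroup G), L.Normal → ∀ d : ℕ, d = 3 ∨ d = 9 → Nat.card L = 35 * d →
      (Nat.card P).Coprime L.index → False := by
    intro L hL d hd hLc hcop
    haveI := hL
    have hPL : (P : Subgroup G) ≤ L := by
      intro x hx
      rw [← QuotientGroup.eq_one_iff, ← orderOf_eq_one_iff]
      refine Nat.eq_one_of_dvd_coprimes (a := Nat.card P) (b := L.index) hcop
        (dvd_trans (orderOf_map_dvd (QuotientGroup.mk' L) x) (orderOf_dvd_natCard _ hx)) ?_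
      rw [index_eq_card]; exact orderOf_dvd_natCard _
    let S : Sylow 7 L := P.subtype hPL
    haveI hSn : (S : Subgroup L).Normal := small_normal hd hLc S
    haveI : (S : Subgroup L).Characteristic := S.characteristic_of_normal hSn
    have e : (S : Subgroup L).map L.subtype = (P : Subgroup G) := by
      rw [Sylow.coe_subtype, map_subgroupOf_eq_of_le hPL]
    have hPn : (P : Subgroup G).Normal := e ▸ inferInstance
    have : Subsingleton (Sylow 7 G) := (Sylow.unique_of_normal P hPn).instSubsingleton
    have := Nat.card_of_subsingleton (α := Sylow 7 G) P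
    omega
  obtain ⟨V⟩ : Nonempty (Sylow 2 G) := inferInstance
  -- the 2-part
  obtain ⟨o, a, ho, ha, hio⟩ : ∃ o a : ℕ, (o = 1 ∨ o = 3) ∧ a ≤ 2 ∧ i * c = 2 ^ a * o := by
    rw [hc] at hC
    have : c = 1 ∨ c = 2 := by omega
    have hi0 : i ≠ 0 := fun h => by rw [h] at hi6; norm_num at hi6
    have hval : i * c = 1 ∨ i * c = 2 ∨ i * c = 3 ∨ i * c = 4 ∨ i * c = 6 ∨ i * c = 12 := by
      rcases this with rfl | rfl <;> interval_cases i <;> omega
    rcases hval with h | h | h | h | h | h <;> rw [h]
    · exact ⟨1, 0, Or.inl rfl, by norm_num, by norm_num⟩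
    · exact ⟨1, 1, Or.inl rfl, by norm_num, by norm_num⟩
    · exact ⟨3, 0, Or.inr rfl, by norm_num, by norm_num⟩
    · exact ⟨1, 2, Or.inl rfl, by norm_num, by norm_num⟩
    · exact ⟨3, 1, Or.inr rfl, by norm_num, by norm_num⟩
    · exact ⟨3, 2, Or.inr rfl, by norm_num, by norm_num⟩
  have hG' : Nat.card G = 2 ^ a * (105 * o) := by rw [hG, hio]; ring
  have hVc : Nat.card V = 2 ^ a := by
    rw [V.card_eq_multiplicity, hG', Nat.factorization_mul (pow_ne_zero _ (by norm_num))
      (by rcases ho with rfl | rfl <;> norm_num), Finsupp.add_apply,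
      Nat.Prime.factorization_pow Nat.prime_two, Finsupp.single_eq_same,
      Nat.factorization_eq_zero_of_not_dvd (n := 105 * o)
        (by rcases ho with rfl | rfl <;> norm_num), add_zero]
  have hd : 3 * o = 3 ∨ 3 * o = 9 := by rcases ho with rfl | rfl <;> norm_num
  have h8 : ¬ 8 ∣ Nat.card G := by
    rw [hG']
    rcases ho with rfl | rfl <;> interval_cases a <;> norm_num
  -- Burnside
  have hcompl : ¬ normalizer ((V : Subgroup G) : Set G) ≤ centralizer ((V : Subgroup G) : Set G) := by
    intro hle
    set L := (MonoidHom.transferSylow V hle).ker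
    have hL : L.IsComplement' (V : Subgroup G) := MonoidHom.ker_transferSylow_isComplement' V hle
    refine hnoL L (MonoidHom.normal_ker _) (3 * o) hd ?_ ?_
    · have := hL.card_mul
      rw [hVc, hG'] at this
      have hp : 0 < 2 ^ a := pow_pos (by norm_num) _
      nlinarith
    · rw [hP, hL.symm.index_eq_card, hVc]
      exact Nat.Coprime.pow_right _ (by norm_num)
  have hncyc : ¬ IsCyclic V := by
    intro hV
    rcases Nat.eq_zero_or_pos a with rfl | ha0
    · apply hcompl
      have : (V : Subgroup G) = ⊥ := card_eq_one.1 (by simpa using hVc)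
      intro x _
      rw [mem_centralizer_iff]
      intro h hh
      rw [SetLike.mem_coe, this, mem_bot] at hh
      simp [hh]
    · refine hcompl (IsCyclic.normalizer_le_centralizer ?_ hV)
      rw [Nat.minFac_eq_two_iff, hG']
      exact dvd_mul_of_dvd_left (dvd_pow_self _ ha0.ne') _
  have ha2 : a = 2 := by
    by_contra h
    have : a = 0 ∨ a = 1 := by omega
    apply hncyc
    rcases this with rfl | rfl
    · haveI : Subsingleton V := (Nat.card_eq_one_iff_unique.1 (by simpa using hVc)).1
      exact isCyclic_of_subsingleton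
    · exact isCyclic_of_prime_card (p := 2) (by simpa using hVc)
  subst ha2
  have hV : IsKleinFour (V : Subgroup G) := by
    refine ⟨by simpa using hVc, ?_⟩
    have h4 : Nat.card V = 4 := by simpa using hVc
    refine Nat.dvd_antisymm (Monoid.exponent_dvd_of_forall_pow_eq_one fun x => ?_) ?_
    · have hx := orderOf_dvd_natCard x
      rw [h4] at hx
      have : orderOf x ≠ 4 := fun h => hncyc (isCyclic_of_orderOf_eq_card x (h.trans h4.symm))
      have hle : orderOf x ≤ 4 := Nat.le_of_dvd (by norm_num) hx
      refine orderOf_dvd_iff_pow_eq_one.1 ?_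
      have h0 := orderOf_pos x
      revert hx this
      interval_cases (orderOf x) <;> norm_num
    · obtain ⟨x, hx⟩ := exists_prime_orderOf_dvd_card' (G := V) 2 (by rw [h4]; norm_num)
      exact hx.symm.dvd.trans (Monoid.order_dvd_exponent x)
  rcases CfsgLib.Invol.klein_dichotomy V hV with h | h
  · apply hcompl
    intro g hg
    rw [mem_centralizer_iff]
    intro x hx
    have := h x hx g hg
    exact (mul_inv_eq_iff_eq_mul.1 this).symm
  · refine no_klein V hV h P hn hP hC h8 ?_
    have h4 : 4 ∣ i * c := ⟨o, by rw [hio]; ring⟩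
    rw [← hmul, hc]
    obtain ⟨k, hk⟩ := h4
    exact ⟨7 * k, by rw [← mul_assoc, mul_comm i 7, mul_assoc, hk]; ring⟩

/-- The fixed points of `x` among the Sylow 7-subgroups. -/
theorem count_special {G : Type*} [Group G] [Finite G] [Fintype G] [Fact (Nat.Prime 7)]
    (hfaith : ∀ g : G, (∀ Q : Sylow 7 G, g • Q = Q) → g = 1)
    (P : Sylow 7 G) (hn : Nat.card (Sylow 7 G) = 15) :
    (Nat.card P ≤ 49) ∧
    (Nat.card P = 7 → Nat.card (centralizer ((P : Subgroup G) : Set G)) ≤ 14) ∧
    (Nat.card P = 49 → (Finset.univ.filter fun x : G => x ∈ (P : Subgroup G) ∧ x ≠ 1 ∧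
      Nat.card (MulAction.fixedBy (Sylow 7 G) x) = 8).card = 12) := by
  have hPfix : ∀ u : (P : Subgroup G), u • P = P := fun u =>
    Sylow.smul_eq_iff_mem_normalizer.2 ((P : Subgroup G).le_normalizer u.2)
  have hfixed : ∀ y : (Sylow 7 G), (∀ u : (P : Subgroup G), u • y = y) → y = P := by
    intro y hy
    have h := (IsPGroup.sylow_mem_fixedPoints_iff P.2 (Q := y)).1 hy
    exact (Sylow.ext (P.3 y.2 h))
  have horb : ∀ y : (Sylow 7 G), y ≠ P → (MulAction.orbit (P : Subgroup G) y).ncard = 7 ∧
      (MulAction.stabilizer (P : Subgroup G) y).index = 7 ∧ P ∉ MulAction.orbit (P : Subgroup G) y := by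
    intro y hy
    have hnot : P ∉ MulAction.orbit (P : Subgroup G) y := by
      rintro ⟨u, hu⟩
      exact hy (smul_left_cancel u (hu.trans (hPfix u).symm))
    have hidx := MulAction.index_stabilizer (G := (P : Subgroup G)) (x := y)
    obtain ⟨n, hn'⟩ := P.2.exists_card_eq
    obtain ⟨k, hk, hk'⟩ := (Nat.dvd_prime_pow (by norm_num)).1
      (hn' ▸ (MulAction.stabilizer (P : Subgroup G) y).index_dvd_card)
    have hlt : (MulAction.orbit (P : Subgroup G) y).ncard < 15 := by
      rw [← hn, ← Set.ncard_univ]
      exact Set.ncard_lt_ncard ⟨Set.subset_univ _, fun h => hnot (h (Set.mem_univ P))⟩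
    rw [← hidx, hk'] at hlt
    have hk0 : k ≠ 0 := by
      rintro rfl
      refine hy (hfixed y fun u => ?_)
      rw [pow_zero, index_eq_one] at hk'
      exact MulAction.mem_stabilizer_iff.1 (hk' ▸ mem_top u)
    have hk1 : k = 1 := by
      by_contra h
      have : 7 ^ 2 ≤ 7 ^ k := Nat.pow_le_pow_right (by norm_num) (by omega)
      omega
    subst hk1
    exact ⟨hidx.symm.trans (by simpa using hk'), by simpa using hk', hnot⟩
  have hnorm : ∀ y : (Sylow 7 G), y ≠ P → (MulAction.stabilizer (P : Subgroup G) y).Normal := by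
    intro y hy
    obtain ⟨n, hn'⟩ := P.2.exists_card_eq
    refine Subgroup.normal_of_index_eq_minFac_card ?_
    rw [(horb y hy).2.1, hn', Nat.pow_minFac, Nat.Prime.minFac_eq (by norm_num)]
    rintro rfl
    have := (horb y hy).2.1 ▸ (MulAction.stabilizer (P : Subgroup G) y).index_dvd_card
    rw [hn'] at this
    norm_num at this
  -- a stabilizer fixes its whole orbit
  have hstab : ∀ y : (Sylow 7 G), y ≠ P → ∀ u ∈ MulAction.stabilizer (P : Subgroup G) y,
      ∀ z ∈ MulAction.orbit (P : Subgroup G) y, u • z = z := by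
    rintro y hy u hu z ⟨v, rfl⟩
    have := (hnorm y hy).conj_mem u hu v⁻¹
    rw [inv_inv, MulAction.mem_stabilizer_iff, mul_smul, mul_smul, inv_smul_eq_iff] at this
    exact this
  obtain ⟨y1, hy1⟩ : ∃ y : (Sylow 7 G), y ≠ P := by
    haveI : Nontrivial (Sylow 7 G) := Finite.one_lt_card_iff_nontrivial.1 (by omega)
    exact exists_ne P
  obtain ⟨y2, hy2⟩ : ∃ y : (Sylow 7 G), y ∉ insert P (MulAction.orbit (P : Subgroup G) y1) := by
    by_contra h
    push Not at h
    have h1 : (Set.univ : Set (Sylow 7 G)).ncard ≤ (insert P (MulAction.orbit (P : Subgroup G) y1)).ncard :=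
      Set.ncard_le_ncard (fun y _ => h y)
    have h2 := Set.ncard_insert_le P (MulAction.orbit (P : Subgroup G) y1)
    rw [Set.ncard_univ, hn] at h1
    rw [(horb y1 hy1).1] at h2
    omega
  simp only [Set.mem_insert_iff, not_or] at hy2
  obtain ⟨hy2P, hy21⟩ := hy2
  set O1 := MulAction.orbit (P : Subgroup G) y1
  set O2 := MulAction.orbit (P : Subgroup G) y2
  set S1 := MulAction.stabilizer (P : Subgroup G) y1
  set S2 := MulAction.stabilizer (P : Subgroup G) y2
  have hdis : Disjoint O1 O2 := by
    rw [Set.disjoint_left]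
    intro z h1 h2
    apply hy21
    show y2 ∈ O1
    have e1 : MulAction.orbit (P : Subgroup G) z = O1 := MulAction.orbit_eq_iff.2 h1
    have e2 : MulAction.orbit (P : Subgroup G) z = O2 := MulAction.orbit_eq_iff.2 h2
    rw [← e1, e2]
    exact MulAction.mem_orbit_self _
  have hcover : ∀ z : (Sylow 7 G), z = P ∨ z ∈ O1 ∨ z ∈ O2 := by
    have : insert P (O1 ∪ O2) = Set.univ := by
      refine Set.eq_of_subset_of_ncard_le (Set.subset_univ _) ?_
      rw [Set.ncard_univ, hn, Set.ncard_insert_of_notMem, Set.ncard_union_eq hdis,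
        (horb y1 hy1).1, (horb y2 hy2P).1]
      rintro (h | h)
      · exact (horb y1 hy1).2.2 h
      · exact (horb y2 hy2P).2.2 h
    intro z
    have hz := this ▸ Set.mem_univ z
    simpa using hz
  have hinf : S1 ⊓ S2 = ⊥ := by
    rw [eq_bot_iff]
    intro u hu
    rw [mem_inf] at hu
    rw [mem_bot]
    apply Subtype.ext
    refine hfaith _ fun z => ?_
    rcases hcover z with rfl | hz | hz
    · exact hPfix u
    · exact hstab y1 hy1 u hu.1 z hz
    · exact hstab y2 hy2P u hu.2 z hz
  refine ⟨?_, ?_, ?_⟩
  · rw [← index_bot (G := (P : Subgroup G)), ← hinf]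
    refine le_trans index_inf_le ?_
    rw [(horb y1 hy1).2.1, (horb y2 hy2P).2.1]
  · intro hP
    set C := centralizer ((P : Subgroup G) : Set G)
    have hcfix : ∀ c ∈ C, c • P = P := fun c hc =>
      Sylow.smul_eq_iff_mem_normalizer.2 (centralizer_le_normalizer _ hc)
    have hcomm : ∀ c ∈ C, ∀ (u : (P : Subgroup G)) (z : (Sylow 7 G)), c • u • z = u • c • z := by
      intro c hc u z
      show c • (u : G) • z = (u : G) • c • z
      rw [smul_smul, smul_smul, (mem_centralizer_iff.1 hc u u.2).symm]
    have htriv : ∀ c ∈ C, c • y1 = y1 → c = 1 := by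
      intro c hc h1
      have hO1 : ∀ z ∈ O1, c • z = z := by
        rintro z ⟨v, rfl⟩; rw [hcomm c hc, h1]
      have hS1 : S1 = ⊥ := by
        rw [← card_eq_one]
        have := card_mul_index S1
        rw [(horb y1 hy1).2.1] at this
        omega
      obtain ⟨u, hu⟩ : ∃ u : (P : Subgroup G), c • y2 = u • y2 := by
        rcases hcover (c • y2) with h | ⟨v, hv⟩ | ⟨v, hv⟩
        · exact absurd (smul_left_cancel c (h.trans (hcfix c hc).symm)) hy2P
        · exfalso
          apply hy21
          have hv' : v • y1 = c • y2 := hv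
          refine ⟨v, ?_⟩
          exact smul_left_cancel c ((hO1 _ ⟨v, rfl⟩).trans hv')
        · exact ⟨v, hv.symm⟩
      have hO2 : ∀ (n : ℕ), c ^ n • y2 = u ^ n • y2 := by
        intro n
        induction n with
        | zero => simp
        | succ n ih => rw [pow_succ', mul_smul, ih, hcomm c hc, hu, smul_smul, ← pow_succ]
      have hu7 : u ^ 7 = 1 := orderOf_dvd_iff_pow_eq_one.1 ((orderOf_dvd_natCard u).trans hP.dvd)
      have hc7 : c ^ 7 = 1 := by
        refine hfaith _ fun z => ?_
        rcases hcover z with rfl | hz | ⟨v, rfl⟩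
        · exact hcfix _ (pow_mem hc 7)
        · exact MulAction.mem_stabilizer_iff.1
            (pow_mem (show c ∈ MulAction.stabilizer G z from hO1 z hz) 7)
        · rw [hcomm _ (pow_mem hc 7), hO2, hu7, one_smul]
      have hcP : c ∈ (P : Subgroup G) := by
        have hp : IsPGroup 7 (zpowers c) := by
          obtain ⟨k, -, hk⟩ := (Nat.dvd_prime_pow (show Nat.Prime 7 by norm_num)).1
            (show orderOf c ∣ 7 ^ 1 by simpa using orderOf_dvd_of_pow_eq_one hc7)
          exact IsPGroup.of_card (n := k) (by rw [Nat.card_zpowers, hk])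
        have := hp.inf_normalizer_sylow P
        have hle : zpowers c ≤ normalizer (P : Set G) :=
          zpowers_le.2 (centralizer_le_normalizer _ hc)
        rw [inf_eq_left.2 hle] at this
        exact (inf_eq_left.1 this.symm) (mem_zpowers c)
      have : (⟨c, hcP⟩ : (P : Subgroup G)) ∈ S1 := h1
      rw [hS1, mem_bot] at this
      exact congrArg Subtype.val this
    have hne : ∀ c : C, (c : G) • y1 ∈ ({P}ᶜ : Set (Sylow 7 G)) := fun c h => by
      have h' : (c : G) • y1 = P := h
      exact hy1 (smul_left_cancel (c : G) (h'.trans (hcfix c c.2).symm))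
    have h14 : Nat.card ({P}ᶜ : Set (Sylow 7 G)) = 14 := by
      rw [Nat.card_coe_set_eq, Set.ncard_compl, Set.ncard_singleton, hn]
    rw [← h14]
    refine Nat.card_le_card_of_injective (fun c : C => (⟨(c : G) • y1, hne c⟩ : ({P}ᶜ : Set (Sylow 7 G))))
      fun a b hab => Subtype.ext ?_
    have h' : (a : G) • y1 = (b : G) • y1 := congrArg Subtype.val hab
    have := htriv ((b : G)⁻¹ * a) (mul_mem (inv_mem b.2) a.2) (by rw [mul_smul, h', inv_smul_smul])
    exact (inv_mul_eq_one.1 this).symm
  · intro hP
    have hc1 : Nat.card S1 = 7 := by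
      have := card_mul_index S1
      rw [(horb y1 hy1).2.1, hP] at this
      omega
    have hc2 : Nat.card S2 = 7 := by
      have := card_mul_index S2
      rw [(horb y2 hy2P).2.1, hP] at this
      omega
    have hmem : ∀ u : (P : Subgroup G),
        ((u : G) ≠ 1 ∧ Nat.card (MulAction.fixedBy (Sylow 7 G) (u : G)) = 8) ↔
          (u ≠ 1 ∧ (u ∈ S1 ∨ u ∈ S2)) := by
      intro u
      have key : ∀ y ≠ P, ∀ y' ≠ P, u ∈ MulAction.stabilizer (P : Subgroup G) y →
          u ∉ MulAction.stabilizer (P : Subgroup G) y' →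
          (∀ z : (Sylow 7 G), z = P ∨ z ∈ MulAction.orbit (P : Subgroup G) y ∨
            z ∈ MulAction.orbit (P : Subgroup G) y') →
          Nat.card (MulAction.fixedBy (Sylow 7 G) (u : G)) = 8 := by
        intro y hy y' hy' hu hu' hcov
        have e : MulAction.fixedBy (Sylow 7 G) (u : G) = insert P (MulAction.orbit (P : Subgroup G) y) := by
          ext z
          constructor
          · intro hz
            rcases hcov z with h | h | ⟨v, rfl⟩
            · exact Or.inl h
            · exact Or.inr h
            · exfalso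
              apply hu'
              have hz' : u • v • y' = v • y' := hz
              have hmem : v⁻¹ * u * v ∈ MulAction.stabilizer (P : Subgroup G) y' := by
                rw [MulAction.mem_stabilizer_iff, mul_smul, mul_smul, hz', inv_smul_smul]
              have := (hnorm y' hy').conj_mem _ hmem v
              simpa [mul_assoc] using this
          · rintro (rfl | hz)
            · exact hPfix u
            · exact hstab y hy u hu z hz
        rw [Nat.card_coe_set_eq, e, Set.ncard_insert_of_notMem (horb y hy).2.2, (horb y hy).1]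
      constructor
      · rintro ⟨h1, h8⟩
        refine ⟨fun h => h1 (by rw [h]; rfl), ?_⟩
        by_contra h
        push Not at h
        have e : MulAction.fixedBy (Sylow 7 G) (u : G) = {P} := by
          ext z
          constructor
          · intro hz
            rcases hcover z with h' | ⟨v, rfl⟩ | ⟨v, rfl⟩
            · exact h'
            · exfalso
              apply h.1
              have hz' : u • v • y1 = v • y1 := hz
              have hmem : v⁻¹ * u * v ∈ S1 := by
                rw [MulAction.mem_stabilizer_iff, mul_smul, mul_smul, hz', inv_smul_smul]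
              have h2 := (hnorm y1 hy1).conj_mem _ hmem v
              rwa [show v * (v⁻¹ * u * v) * v⁻¹ = u by group] at h2
            · exfalso
              apply h.2
              have hz' : u • v • y2 = v • y2 := hz
              have hmem : v⁻¹ * u * v ∈ S2 := by
                rw [MulAction.mem_stabilizer_iff, mul_smul, mul_smul, hz', inv_smul_smul]
              have h2 := (hnorm y2 hy2P).conj_mem _ hmem v
              rwa [show v * (v⁻¹ * u * v) * v⁻¹ = u by group] at h2
          · rintro rfl
            exact hPfix u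
        rw [Nat.card_coe_set_eq, e, Set.ncard_singleton] at h8
        norm_num at h8
      · rintro ⟨h1, h | h⟩
        all_goals refine ⟨fun e => h1 (Subtype.ext e), ?_⟩
        · refine key y1 hy1 y2 hy2P h (fun h' => h1 ?_) hcover
          rw [← mem_bot, ← hinf]; exact mem_inf.2 ⟨h, h'⟩
        · refine key y2 hy2P y1 hy1 h (fun h' => h1 ?_) (fun z => ?_)
          · rw [← mem_bot, ← hinf]; exact mem_inf.2 ⟨h', h⟩
          · rcases hcover z with h'' | h'' | h''
            · exact Or.inl h''
            · exact Or.inr (Or.inr h'')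
            · exact Or.inr (Or.inl h'')
    haveI := Fintype.ofFinite (P : Subgroup G)
    set A : Finset (P : Subgroup G) := Finset.univ.filter fun u => u ≠ 1 ∧ u ∈ S1
    set B : Finset (P : Subgroup G) := Finset.univ.filter fun u => u ≠ 1 ∧ u ∈ S2
    have hcount : ∀ S : Subgroup (P : Subgroup G), Nat.card S = 7 →
        (Finset.univ.filter fun u : (P : Subgroup G) => u ≠ 1 ∧ u ∈ S).card = 6 := by
      intro S hS
      have : (Finset.univ.filter fun u : (P : Subgroup G) => u ≠ 1 ∧ u ∈ S) =
          (Finset.univ.filter fun u : (P : Subgroup G) => u ∈ S).erase 1 := by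
        ext u; simp
      rw [this, Finset.card_erase_of_mem (by simp [one_mem]), ← Fintype.card_subtype,
        ← Nat.card_eq_fintype_card, hS]
    have hAB : Disjoint A B := by
      rw [Finset.disjoint_left]
      intro u hu hu'
      simp only [A, B, Finset.mem_filter] at hu hu'
      exact hu.2.1 (by rw [← mem_bot, ← hinf]; exact mem_inf.2 ⟨hu.2.2, hu'.2.2⟩)
    have e : (Finset.univ.filter fun x : G => x ∈ (P : Subgroup G) ∧ x ≠ 1 ∧
        Nat.card (MulAction.fixedBy (Sylow 7 G) x) = 8) = (A ∪ B).map ⟨Subtype.val, Subtype.val_injective⟩ := by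
      ext x
      simp only [A, B, Finset.mem_filter, Finset.mem_univ, true_and, Finset.mem_map,
        Finset.mem_union, Function.Embedding.coeFn_mk]
      constructor
      · rintro ⟨hx, h⟩
        obtain ⟨h1, h2⟩ := (hmem ⟨x, hx⟩).1 h
        exact ⟨⟨x, hx⟩, h2.imp (And.intro h1) (And.intro h1), rfl⟩
      · rintro ⟨u, hu, rfl⟩
        refine ⟨u.2, (hmem u).2 ?_⟩
        rcases hu with hu | hu
        · exact ⟨hu.1, Or.inl hu.2⟩
        · exact ⟨hu.1, Or.inr hu.2⟩
    rw [e, Finset.card_map, Finset.card_union_of_disjoint hAB]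
    rw [show A.card = 6 from hcount S1 hc1, show B.card = 6 from hcount S2 hc2]

/-- The faithful case. -/
theorem no_faithful {G : Type*} [Group G] [Finite G] [Fact (Nat.Prime 7)]
    (hfaith : ∀ g : G, (∀ Q : Sylow 7 G, g • Q = Q) → g = 1)
    (hn : Nat.card (Sylow 7 G) = 15) : False := by
  haveI := Fintype.ofFinite G
  haveI := Fintype.ofFinite (Sylow 7 G)
  obtain ⟨P⟩ : Nonempty (Sylow 7 G) := inferInstance
  obtain ⟨h49, h14, -⟩ := count_special hfaith P hn
  obtain ⟨n, hcard⟩ := P.2.exists_card_eq
  rcases n with _ | _ | _ | n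
  · have : (P : Subgroup G) = ⊥ := card_eq_one.1 (by simpa using hcard)
    haveI : (P : Subgroup G).Normal := this ▸ inferInstance
    have : Subsingleton (Sylow 7 G) := (Sylow.unique_of_normal P inferInstance).instSubsingleton
    have := Nat.card_of_subsingleton (α := Sylow 7 G) P
    omega
  · have h7 : Nat.card P = 7 := by simpa using hcard
    exact no_group P hn h7 (h14 h7)
  · have hP : Nat.card P = 49 := by simpa using hcard
    set T : Finset G := Finset.univ.filter fun x : G => x ≠ 1 ∧ x ^ 49 = 1 ∧
      Nat.card (MulAction.fixedBy (Sylow 7 G) x) = 8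
    have hQ : ∀ Q : Sylow 7 G, (T.filter fun x => x • Q = Q).card = 12 := by
      intro Q
      have hQc : Nat.card Q = 49 := by rw [Nat.card_congr (Sylow.equiv Q P).toEquiv, hP]
      rw [← (count_special hfaith Q hn).2.2 hQc]
      congr 1
      ext x
      simp only [T, Finset.mem_filter, Finset.mem_univ, true_and]
      constructor
      · rintro ⟨⟨h1, h2, h3⟩, h4⟩
        refine ⟨?_, h1, h3⟩
        have hp : IsPGroup 7 (zpowers x) := by
          obtain ⟨k, -, hk⟩ := (Nat.dvd_prime_pow (show Nat.Prime 7 by norm_num)).1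
            (show orderOf x ∣ 7 ^ 2 by simpa using orderOf_dvd_of_pow_eq_one h2)
          exact IsPGroup.of_card (n := k) (by rw [Nat.card_zpowers, hk])
        have := hp.inf_normalizer_sylow Q
        have hle : zpowers x ≤ normalizer (Q : Set G) :=
          zpowers_le.2 (Sylow.smul_eq_iff_mem_normalizer.1 h4)
        rw [inf_eq_left.2 hle] at this
        exact (inf_eq_left.1 this.symm) (mem_zpowers x)
      · rintro ⟨hx, h1, h3⟩
        refine ⟨⟨h1, ?_, h3⟩, Sylow.smul_eq_iff_mem_normalizer.2 ((Q : Subgroup G).le_normalizer hx)⟩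
        have : (⟨x, hx⟩ : (Q : Subgroup G)) ^ 49 = 1 := hQc ▸ pow_card_eq_one'
        exact congrArg Subtype.val this
    have key := Finset.sum_card_bipartiteAbove_eq_sum_card_bipartiteBelow
      (r := fun (x : G) (Q : Sylow 7 G) => x • Q = Q) (s := T) (t := Finset.univ)
    have hL : ∀ x ∈ T, ((Finset.univ : Finset (Sylow 7 G)).bipartiteAbove
        (fun (x : G) Q => x • Q = Q) x).card = 8 := by
      intro x hx
      simp only [T, Finset.mem_filter] at hx
      rw [← hx.2.2.2, Nat.card_coe_set_eq, Set.ncard_eq_toFinset_card']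
      congr 1
      ext Q
      simp [Finset.bipartiteAbove]
    have hR : ∀ Q ∈ (Finset.univ : Finset (Sylow 7 G)),
        (T.bipartiteBelow (fun (x : G) Q => x • Q = Q) Q).card = 12 := fun Q _ => hQ Q
    rw [Finset.sum_congr rfl hL, Finset.sum_congr rfl hR, Finset.sum_const, Finset.sum_const,
      Finset.card_univ, ← Nat.card_eq_fintype_card, hn, smul_eq_mul, smul_eq_mul] at key
    omega
  · rw [hcard] at h49
    have : 7 ^ 3 ≤ 7 ^ (n + 1 + 1 + 1) := Nat.pow_le_pow_right (by norm_num) (by omega)
    omega



/-- No finite group has exactly 15 Sylow 7-subgroups. -/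
theorem result {G : Type*} [Group G] [Finite G] : Nat.card (Sylow 7 G) ≠ 15 := by
  intro hn
  haveI : Fact (Nat.Prime 7) := ⟨by norm_num⟩
  set f := MulAction.toPermHom G (Sylow 7 G) with hf
  have hsurj : Function.Surjective f.rangeRestrict := f.rangeRestrict_surjective
  set Φ : Sylow 7 G → Sylow 7 f.range := fun P => P.mapSurjective hsurj with hΦ
  have hinj : Function.Injective Φ := by
    intro P Q h
    refine Sylow.ext (le_antisymm ?_ (le_of_eq ?_))
    rotate_left
    · apply (P.3 Q.2 ?_)
      intro g hg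
      have hmem : f.rangeRestrict g ∈ (Φ Q : Subgroup f.range) := by
        rw [← h]; exact Subgroup.mem_map_of_mem _ hg
      obtain ⟨u, hu, hug⟩ := hmem
      have hfix : g • Q = Q := by
        have e : f g Q = f u Q := by
          rw [show f g = f u from (congrArg Subtype.val hug).symm]
        show f g Q = Q
        rw [e]
        exact Sylow.smul_eq_iff_mem_normalizer.2 ((Q : Subgroup G).le_normalizer hu)
      have hp : IsPGroup 7 (Subgroup.zpowers g) :=
        P.2.to_le (Subgroup.zpowers_le.2 hg)
      have := hp.inf_normalizer_sylow Q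
      rw [inf_eq_left.2 (Subgroup.zpowers_le.2 (Sylow.smul_eq_iff_mem_normalizer.1 hfix))] at this
      exact (inf_eq_left.1 this.symm) (Subgroup.mem_zpowers g)
    · intro g hg
      have hmem : f.rangeRestrict g ∈ (Φ Q : Subgroup f.range) := by
        rw [← h]; exact Subgroup.mem_map_of_mem _ hg
      obtain ⟨u, hu, hug⟩ := hmem
      have hfix : g • Q = Q := by
        have e : f g Q = f u Q := by
          rw [show f g = f u from (congrArg Subtype.val hug).symm]
        show f g Q = Q
        rw [e]
        exact Sylow.smul_eq_iff_mem_normalizer.2 ((Q : Subgroup G).le_normalizer hu)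
      have hp : IsPGroup 7 (Subgroup.zpowers g) :=
        P.2.to_le (Subgroup.zpowers_le.2 hg)
      have := hp.inf_normalizer_sylow Q
      rw [inf_eq_left.2 (Subgroup.zpowers_le.2 (Sylow.smul_eq_iff_mem_normalizer.1 hfix))] at this
      exact (inf_eq_left.1 this.symm) (Subgroup.mem_zpowers g)
  have hbij : Function.Bijective Φ := ⟨hinj, Sylow.mapSurjective_surjective hsurj 7⟩
  refine no_faithful (G := f.range) (fun k hk => ?_) (by rw [← Nat.card_eq_of_bijective Φ hbij, hn])
  obtain ⟨g, rfl⟩ := hsurj k
  apply Subtype.ext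
  show f g = 1
  refine Equiv.ext fun P => ?_
  show g • P = P
  apply hinj
  have e : Φ (g • P) = f.rangeRestrict g • Φ P := by
    apply Sylow.ext
    show ((g • P : Sylow 7 G) : Subgroup G).map f.rangeRestrict =
      ((f.rangeRestrict g • Φ P : Sylow 7 f.range) : Subgroup f.range)
    rw [Sylow.coe_subgroup_smul, Sylow.coe_subgroup_smul]
    show _ = MulAut.conj (f.rangeRestrict g) • (P : Subgroup G).map f.rangeRestrict
    ext x
    constructor
    · rintro ⟨_, ⟨u, hu, rfl⟩, rfl⟩
      exact ⟨_, ⟨u, hu, rfl⟩, by simp⟩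
    · rintro ⟨_, ⟨u, hu, rfl⟩, rfl⟩
      exact ⟨_, ⟨u, hu, rfl⟩, by simp⟩
  rw [e, hk]

end Cfsg.Agent.S4304
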