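import Cfsg.Statements.S3185
import Cfsg.Agent.Lib.Invol.CentralInter.Main

set_option autoImplicit false
open Cfsg

namespace Cfsg.Agent.S3185

/-- Call an involution of a finite group 2-central when it lies in the centre of some Sylow 2-subgroup, and call an intersection of two distinct Sylow 2-subgroups central when it is trivial or contains a 2-central involution. Let G be a non-abelian finite simple group in which every central intersection of two distinct Sylow 2-subgroups has 2-rank at most one (no Klein four-subgroup). Then G is isomorphic to PSL(2, 2^n) with n ≥ 2, to a Suzuki group over the field with 2^(2m+1) elements with m ≥ 1, to PSU(3, 2^n) with n ≥ 2, to PSL(2, q) with q ≡ 3 or 5 mod 8 and q > 5, or G is simple of order 175560 (the order of the first Janko group). -/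
theorem result {G : Type*} [Group G] [Finite G] [IsSimpleGroup G]
    (hG : ¬ IsMulCommutative G)
    (h : ∀ S T : Sylow 2 G, S ≠ T →
      ((S : Subgroup G) ⊓ (T : Subgroup G) = ⊥ ∨
        ∃ z ∈ (S : Subgroup G) ⊓ (T : Subgroup G), orderOf z = 2 ∧
          ∃ U : Sylow 2 G, z ∈ (Subgroup.center ↥(U : Subgroup G)).map (U : Subgroup G).subtype) →
      Cfsg.PRankLE 2 1 ↥((S : Subgroup G) ⊓ (T : Subgroup G))) :
    (∃ (n : ℕ) (F : Type) (_ : Field F) (_ : Fintype F), 2 ≤ n ∧ Fintype.card F = 2 ^ n ∧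
        Nonempty (G ≃* Matrix.ProjectiveSpecialLinearGroup (Fin 2) F)) ∨
    (∃ (m : ℕ) (F : Type) (_ : Field F) (_ : Fintype F), 1 ≤ m ∧ Fintype.card F = 2 ^ (2 * m + 1) ∧
        Nonempty (G ≃* ↥(Cfsg.Lie.Sz F (2 ^ (m + 1))))) ∨
    (∃ (n : ℕ) (F : Type) (_ : Field F) (_ : Fintype F), 2 ≤ n ∧ Fintype.card F = 4 ^ n ∧
        Nonempty (G ≃* Cfsg.PSU 3 F (2 ^ n))) ∨
    (∃ (F : Type) (_ : Field F) (_ : Fintype F), (Fintype.card F % 8 = 3 ∨ Fintype.card F % 8 = 5) ∧
        5 < Fintype.card F ∧ Nonempty (G ≃* Matrix.ProjectiveSpecialLinearGroup (Fin 2) F)) ∨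
    Cfsg.IsJ1 G := by
  classical
  haveI : Fact (Nat.Prime 2) := ⟨Nat.prime_two⟩
  obtain ⟨S⟩ : Nonempty (Sylow 2 G) := inferInstance
  have hI : CfsgLib.CentInt.CIHyp G := h
  by_cases hbad : ∃ z, CfsgLib.CentInt.Bad S z
  · obtain ⟨z, hz⟩ := hbad
    rcases hz.classify hG with hp | hJ
    · exact Or.inr (Or.inr (Or.inr (Or.inl hp)))
    · exact Or.inr (Or.inr (Or.inr (Or.inr hJ)))
  have h2 : 2 ∣ Nat.card G := CfsgLib.CIT.two_dvd_card_of_simple hG
  have hSne : (S : Subgroup G) ≠ ⊥ := S.ne_bot_of_dvd_card h2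
  haveI : Nontrivial (S : Subgroup G) := (Subgroup.nontrivial_iff_ne_bot _).2 hSne
  haveI := S.2.center_nontrivial
  have hev : Even (Nat.card (Subgroup.center (S : Subgroup G))) := by
    obtain ⟨n, hn0, hn⟩ := (S.2.to_subgroup (Subgroup.center (S : Subgroup G))).nontrivial_iff_card.1 inferInstance
    rw [hn]
    exact Nat.even_pow.2 ⟨even_two, hn0.ne'⟩
  obtain ⟨c, hcm, hc2⟩ := CfsgLib.Invol.exists_invol_mem hev
  have hcY : (c : G) ∈ CfsgLib.CentInt.zSub S :=
    ⟨c.2, congrArg Subtype.val (CfsgLib.Invol.invol_mul_self hc2),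
      fun s hs => congrArg Subtype.val (Subgroup.mem_center_iff.1 hcm ⟨s, hs⟩)⟩
  have hc1 : (c : G) ≠ 1 := fun e => CfsgLib.Invol.invol_ne_one hc2 (Subtype.ext e)
  have hne : Subgroup.normalizer ((S : Subgroup G) : Set G) ≠ ⊤ := by
    intro e
    have hn : (S : Subgroup G).Normal := Subgroup.normalizer_eq_top_iff.1 e
    have he : (S : Subgroup G) = ⊤ := hn.eq_bot_or_eq_top.resolve_left hSne
    have hp : IsPGroup 2 G := IsPGroup.of_surjective (S.2) ((MulEquiv.subgroupCongr he).trans Subgroup.topEquiv).toMonoidHom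
      ((MulEquiv.subgroupCongr he).trans Subgroup.topEquiv).surjective
    haveI := hp.isNilpotent
    exact hG ⟨⟨IsSimpleGroup.comm_iff_isSolvable.2 inferInstance⟩⟩
  obtain ⟨H, hH⟩ := CfsgLib.CentInt.exists_stronglyEmbedded hI hcY hc1 (fun w hw hw1 => by
    by_contra hle
    exact hbad ⟨w, hI, hw, hw1, hle⟩) hne
  rcases CfsgLib.Bender.Suzuki.isoFamilies_of_se CfsgLib.Bender.Suzuki.classified hH with
    ⟨F, iF, iF', ⟨n, hn, hF⟩, g⟩ | ⟨F, iF, iF', m, hm, hF, g⟩ | ⟨F, iF, iF', n, hn, hF, g⟩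
  · exact Or.inl ⟨n, F, iF, iF', hn, hF, g⟩
  · exact Or.inr (Or.inl ⟨m, F, iF, iF', hm, hF, g⟩)
  · refine Or.inr (Or.inr (Or.inl ⟨n, F, iF, iF', hn, ?_, g⟩))
    rw [hF, ← pow_mul, show (4 : ℕ) = 2 ^ 2 from rfl, ← pow_mul, mul_comm n 2]

end Cfsg.Agent.S3185
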