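import Cfsg.Statements.S3888
-- import your own Cfsg.Agent.* helpers here
import Cfsg.Agent.Lib.PGroup.HeisenbergExtension
import Cfsg.Agent.Lib.PGroup.RankTwoThree
import Cfsg.Agent.Lib.PGroup.RankTwoOmega
import Cfsg.Agent.Lib.PGroup.MetacyclicRecog
import Cfsg.Agent.Lib.PGroup.MaxClassRecog

set_option autoImplicit false
open Cfsg

namespace Cfsg.Agent.S3888

open Subgroup CfsgLib.RankTwoThree
open scoped commutatorElement

universe u

/-- A cyclic group has no subgroup of order `p³` and exponent `p`. -/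
theorem not_isCyclic_of_exponent {G : Type u} [Group G] [Finite G] {p : ℕ} [Fact p.Prime]
    {E : Subgroup G} (he : ∀ x ∈ E, x ^ p = 1) (hE : Nat.card E = p ^ 3) : ¬ IsCyclic E := by
  intro h
  obtain ⟨⟨x, hxE⟩, hx⟩ := h.exists_generator
  have hle : E ≤ zpowers x := fun y hy => by
    obtain ⟨i, hi⟩ := hx ⟨y, hy⟩
    exact ⟨i, congrArg Subtype.val hi⟩
  have hp := (Fact.out : p.Prime)
  have := (card_le_of_le hle).trans
    ((Nat.card_zpowers x).trans_le (orderOf_le_of_pow_eq_one hp.pos (he x hxE)))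
  rw [hE] at this
  exact absurd this (Nat.not_le.2 (lt_self_pow₀ hp.one_lt (by norm_num)))

/-- A self-centralizing subgroup of order `p²` forces maximal class. -/
theorem maximal_of_centralizer {G : Type u} [Group G] [Finite G] {p : ℕ} [Fact p.Prime] {n : ℕ}
    (hG : Nat.card G = p ^ n) {u : G} (hu : Nat.card (centralizer ({u} : Set G)) = p ^ 2) :
    2 ≤ n ∧ (⊤ : Subgroup G).lowerCentralSeries (n - 2) ≠ ⊥ := by
  have hp := (Fact.out : p.Prime)
  set A := centralizer ({u} : Set G) with hA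
  have huA : u ∈ A := mem_centralizer_singleton_iff.2 rfl
  have hAA : centralizer (A : Set G) = A := by
    refine le_antisymm (fun x hx => mem_centralizer_singleton_iff.2 (mem_centralizer_iff.1 hx u huA).symm)
      fun x hx => mem_centralizer_iff.2 fun y hy => ?_
    exact congrArg Subtype.val
      (IsPGroup.commutative_of_card_eq_prime_sq hu (⟨y, hy⟩ : A) ⟨x, hx⟩)
  haveI := (IsPGroup.of_card hG).isNilpotent
  have hcl := CfsgLib.PGroup.maximalClass_of_selfCentralizing n G hG A hu hAA
  have hn : 2 ≤ n := by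
    have h := card_subgroup_dvd_card A
    rw [hu, hG] at h
    exact (Nat.pow_dvd_pow_iff_le_right hp.one_lt).1 h
  refine ⟨hn, fun h => ?_⟩
  have := Subgroup.lowerCentralSeries_eq_bot_iff_nilpotencyClass_le.1 h
  omega

/-- The elements of order three in the normalizer of a large-centralizer Heisenberg subgroup force
normality. -/
theorem normal_of_centralizer {G : Type u} [Group G] [Finite G] {p : ℕ} [Fact p.Prime] (hp : p ≠ 2)
    (hR : IsPGroup p G) (hrk : Cfsg.PRankLE p 2 G) {E B : Subgroup G} [B.Normal] (hBE : B ≤ E)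
    (he : ∀ x ∈ E, x ^ p = 1) (hE : Nat.card E = p ^ 3) (hBel : Cfsg.IsElementaryAbelian p B)
    (hB : Nat.card B = p ^ 2) {D : Subgroup G} (hD : D ≤ centralizer (E : Set G))
    (hDc : p ^ 2 ≤ Nat.card D) : E.Normal := by
  set M := normalizer (E : Set G) with hM
  have hEM : E ≤ M := le_normalizer
  haveI : (E.subgroupOf M).Normal := (normal_subgroupOf_iff_le_normalizer hEM).2 le_rfl
  haveI : (B.subgroupOf M).Normal := normal_subgroupOf
  have hrkM : Cfsg.PRankLE p 2 M := by
    intro A hA hAe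
    haveI := hA
    have h := hrk (A.map M.subtype) inferInstance (by
      rintro _ ⟨x, hx, rfl⟩
      rw [← map_pow, hAe x hx, map_one])
    rwa [card_map_of_injective M.subtype_injective] at h
  haveI := hBel.1
  obtain ⟨a, b, ζ, F⟩ := CfsgLib.Heisenberg.exists_frame (hR.to_subgroup M) hrkM
    (E := E.subgroupOf M) (B := B.subgroupOf M) (fun x hx => hBE hx)
    (fun x hx => Subtype.ext (he x hx))
    (by rw [Nat.card_congr (subgroupOfEquivOfLe hEM).toEquiv, hE])
    ⟨inferInstance, fun x hx => Subtype.ext (hBel.2 x hx)⟩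
    (by rw [Nat.card_congr (subgroupOfEquivOfLe (hBE.trans hEM)).toEquiv, hB])
  have hcen : centralizer (E : Set G) ≤ M := fun x hx => mem_normalizer_iff.2 fun y => by
      constructor
      · intro hy
        rwa [← mem_centralizer_iff.1 hx y hy, mul_inv_cancel_right]
      · intro hy
        have h := mem_centralizer_iff.1 hx _ hy
        rw [mul_assoc, inv_mul_cancel, mul_one] at h
        rw [mul_left_cancel h]
        exact hy
  have hC : p ^ 2 ≤ Nat.card ↥(centralizer (E.subgroupOf M : Set M)) := by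
    refine hDc.trans (Nat.card_le_card_of_injective
      (fun d : D => (⟨⟨d, hcen (hD d.2)⟩, mem_centralizer_iff.2 fun y hy =>
        Subtype.ext (mem_centralizer_iff.1 (hD d.2) y hy)⟩ : centralizer (E.subgroupOf M : Set M)))
      fun x y h => Subtype.ext (congrArg (fun z : centralizer (E.subgroupOf M : Set M) => ((z : M) : G)) h))
  have hroots : ∀ x ∈ M, x ^ p = 1 → x ∈ E := fun x hx hxp =>
    F.mem_of_pow_eq_one (hR.to_subgroup M) hp hC (x := ⟨x, hx⟩) (Subtype.ext hxp)
  have hconj : ∀ g ∈ normalizer (M : Set G), ∀ e ∈ E, g * e * g⁻¹ ∈ E := fun g hg e heE =>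
    hroots _ ((mem_normalizer_iff.1 hg e).1 (hEM heE)) (by rw [conj_pow, he e heE, mul_one, mul_inv_cancel])
  have hNM : normalizer (M : Set G) ≤ M := fun g hg => mem_normalizer_iff.2 fun e =>
    ⟨hconj g hg e, fun h => by
      have := hconj g⁻¹ (inv_mem hg) _ h
      simpa [mul_assoc] using this⟩
  haveI := hR.isNilpotent
  have htop : M = ⊤ := by
    by_contra hne
    exact (Group.normalizerCondition_of_isNilpotent _ (lt_top_iff_ne_top.2 hne)).not_ge hNM
  exact normalizer_eq_top_iff.1 htop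

/-- The classification of the p-groups of rank at most two for odd p. Let p be an odd prime and G a group of order p^n with no elementary abelian subgroup of order p³. Then one of the following holds: G is metacyclic; n ≥ 3 and G is generated by elements x, y, z with x^p = y^p = z^(p^(n−2)) = 1, z commuting with x and y, and x⁻¹yx = y z^(p^(n−3)); n ≥ 4 and G is generated by elements x, y, z with x^p = y^p = z^(p^(n−2)) = 1, yz = zy, x⁻¹yx = y z^(s p^(n−3)) and x⁻¹zx = yz, where s = 1 or s is a quadratic non-residue modulo p; or p = 3 and G has maximal class (nilpotency class n − 1). -/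
theorem result {G : Type*} [Group G] [Finite G] {p : ℕ} [Fact p.Prime] (hp : p ≠ 2) (n : ℕ) (hG : Nat.card G = p ^ n)
    (hrk : Cfsg.PRankLE p 2 G) :
    Cfsg.IsMetacyclic G ∨
    (3 ≤ n ∧ ∃ x y z : G, Subgroup.closure ({x, y, z} : Set G) = ⊤ ∧ x ^ p = 1 ∧ y ^ p = 1 ∧ z ^ p ^ (n - 2) = 1 ∧
        x * z = z * x ∧ y * z = z * y ∧ x⁻¹ * y * x = y * z ^ p ^ (n - 3)) ∨
    (4 ≤ n ∧ ∃ (s : ℕ) (x y z : G), (s = 1 ∨ ¬ IsSquare (s : ZMod p)) ∧ Subgroup.closure ({x, y, z} : Set G) = ⊤ ∧
        x ^ p = 1 ∧ y ^ p = 1 ∧ z ^ p ^ (n - 2) = 1 ∧ y * z = z * y ∧ x⁻¹ * y * x = y * z ^ (s * p ^ (n - 3)) ∧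
        x⁻¹ * z * x = y * z) ∨
    (p = 3 ∧ 2 ≤ n ∧ (⊤ : Subgroup G).lowerCentralSeries (n - 2) ≠ ⊥) := by
  classical
  have hR : IsPGroup p G := IsPGroup.of_card hG
  have hpr := (Fact.out : p.Prime)
  have hrk' : ∀ E : Subgroup G, Cfsg.IsElementaryAbelian p E → Nat.card E ≤ p ^ 2 :=
    fun E hE => hrk E hE.1 hE.2
  by_cases hcyc : IsCyclic G
  · obtain ⟨x, hx⟩ := hcyc.exists_generator
    exact Or.inl (metacyclic_of_index_le hR (x := x) (p := p)
      (by rw [(eq_top_iff.2 fun g _ => hx g : zpowers x = ⊤), index_top]; exact hpr.pos))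
  have finish : ∀ E : Subgroup G, E.Normal → (∀ x ∈ E, x ^ p = 1) → Nat.card E = p ^ 3 →
      ((3 ≤ n ∧ ∃ x y z : G, Subgroup.closure ({x, y, z} : Set G) = ⊤ ∧ x ^ p = 1 ∧ y ^ p = 1 ∧ z ^ p ^ (n - 2) = 1 ∧
        x * z = z * x ∧ y * z = z * y ∧ x⁻¹ * y * x = y * z ^ p ^ (n - 3)) ∨
      (4 ≤ n ∧ ∃ (s : ℕ) (x y z : G), (s = 1 ∨ ¬ IsSquare (s : ZMod p)) ∧ Subgroup.closure ({x, y, z} : Set G) = ⊤ ∧
        x ^ p = 1 ∧ y ^ p = 1 ∧ z ^ p ^ (n - 2) = 1 ∧ y * z = z * y ∧ x⁻¹ * y * x = y * z ^ (s * p ^ (n - 3)) ∧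
        x⁻¹ * z * x = y * z)) :=
    fun E hEn he hE => by
      haveI := hEn
      obtain ⟨B, hBE, hBn, hBel, hB⟩ :=
        CfsgLib.PGroup.exists_normal_rank_two hR hp E (not_isCyclic_of_exponent he hE)
      haveI := hBn
      obtain ⟨a, b, ζ, F⟩ := CfsgLib.Heisenberg.exists_frame hR hrk hBE he hE hBel hB
      exact F.presentation hR hp hG
  by_cases hp3 : 3 < p
  · set O := Subgroup.closure {x : G | x ^ p = 1} with hO
    have hOe := CfsgLib.RankTwoOmega.closure_omega_exponent hp3 hR hrk'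
    have hOc : Nat.card O ≤ p ^ 3 :=
      CfsgLib.RankTwoOmega.card_le_of_exponent (hR.to_subgroup O) hp (fun x => Subtype.ext (hOe x x.2))
        fun A hA => by
          have := hrk' (A.map O.subtype) (CfsgLib.Fusion.elementary_map _ hA)
          rwa [card_map_of_injective O.subtype_injective] at this
    obtain ⟨k, hk⟩ := (hR.to_subgroup O).exists_card_eq
    by_cases hk3 : k = 3
    · haveI : O.Characteristic := by
        refine characteristic_iff_map_le.2 fun φ => ?_
        rw [hO, MonoidHom.map_closure]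
        refine closure_mono ?_
        rintro _ ⟨x, hx, rfl⟩
        show (φ x) ^ p = 1
        rw [← map_pow, show x ^ p = 1 from hx, map_one]
      rcases finish O inferInstance hOe (hk.trans (by rw [hk3])) with h | h
      · exact Or.inr (Or.inl h)
      · exact Or.inr (Or.inr (Or.inl h))
    · refine Or.inl (CfsgLib.RankTwoOmega.isMetacyclic_of_omega hp3 _ G rfl hR ?_)
      have e : Cfsg.omegaOne p (⊤ : Subgroup G) = O := by simp [Cfsg.omegaOne, hO]
      rw [e, hk]
      rw [hk] at hOc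
      exact Nat.pow_le_pow_right hpr.pos
        (by have := (Nat.pow_le_pow_iff_right hpr.one_lt).1 hOc; omega)
  have hp3 : p = 3 := by
    have := hpr.two_le; omega
  subst hp3
  obtain ⟨E0, -, hE0n, hE0e, hE0c⟩ := CfsgLib.PGroup.exists_normal_rank_two hR hp (⊤ : Subgroup G)
    (fun h => hcyc (Subgroup.topEquiv.isCyclic.1 h))
  haveI := hE0n
  haveI := hE0e.1
  have hcomm : ∀ x ∈ E0, ∀ y ∈ E0, x * y = y * x := fun x hx y hy =>
    congrArg Subtype.val (isMulCommutative_iff.1 hE0e.1 ⟨x, hx⟩ ⟨y, hy⟩)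
  by_cases hall : ∀ t : G, t ^ 3 = 1 → t ∈ centralizer (E0 : Set G)
  · have hroots : ∀ t : G, t ^ 3 = 1 → t ∈ E0 := by
      intro t ht
      set A := Subgroup.closure ((E0 : Set G) ∪ {t}) with hA
      have hgen : ∀ u ∈ (E0 : Set G) ∪ {t}, ∀ v ∈ (E0 : Set G) ∪ {t}, u * v = v * u := by
        rintro u (hu | rfl) v (hv | rfl)
        · exact hcomm u hu v hv
        · exact mem_centralizer_iff.1 (hall _ ht) u hu
        · exact (mem_centralizer_iff.1 (hall _ ht) v hv).symm
        · rfl
      haveI hAc : IsMulCommutative A := isMulCommutative_closure hgen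
      have hAe : ∀ z ∈ A, z ^ 3 = 1 := by
        intro z hz
        induction hz using closure_induction with
        | mem u hu => rcases hu with hu | rfl
                      · exact hE0e.2 u hu
                      · exact ht
        | one => exact one_pow 3
        | mul u v hu hv iu iv =>
          have huv : Commute u v :=
            congrArg Subtype.val (isMulCommutative_iff.1 hAc ⟨u, hu⟩ ⟨v, hv⟩)
          rw [huv.mul_pow, iu, iv, one_mul]
        | inv u hu iu => rw [inv_pow, iu, inv_one]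
      have heq := eq_of_le_of_card_ge (fun y hy => subset_closure (Or.inl hy) : E0 ≤ A)
        (by rw [hE0c]; exact hrk A hAc hAe)
      exact heq ▸ subset_closure (Or.inr rfl)
    have hf : FewRoots 3 G := by
      show Nat.card {x : G // x ^ 3 = 1} ≤ 3 ^ 2
      rw [← hE0c]
      exact Nat.card_le_card_of_injective (fun x : {x : G // x ^ 3 = 1} => (⟨x, hroots x x.2⟩ : E0))
        fun x y h => Subtype.ext (congrArg (fun z : E0 => (z : G)) h)
    rcases metacyclic_or_centralizer_nine _ G rfl hR hf with h | ⟨u, hu⟩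
    · exact Or.inl h
    · exact Or.inr (Or.inr (Or.inr ⟨rfl, maximal_of_centralizer hG (hu.trans (by norm_num))⟩))
  push Not at hall
  obtain ⟨t, ht3, htc⟩ := hall
  have htE : t ∉ E0 := fun h => htc (mem_centralizer_iff.2 fun y hy => hcomm y hy t h)
  -- the centralizer of `t` has order at least nine
  obtain ⟨k, hk⟩ := (hR.to_subgroup (centralizer ({t} : Set G))).exists_card_eq
  have htQ : t ∈ centralizer ({t} : Set G) := mem_centralizer_singleton_iff.2 rfl
  obtain ⟨T, hTn, hT, hTE, hTi⟩ := CfsgLib.PGroup.exists_normal_step hR (T := (⊥ : Subgroup G)) (S := E0)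
    (bot_lt_iff_ne_bot.2 fun h => by rw [h, card_bot] at hE0c; norm_num at hE0c)
  haveI := hTn
  rw [relIndex_bot_left] at hTi
  have hTQ : T ≤ centralizer ({t} : Set G) := fun x hx =>
    mem_centralizer_singleton_iff.2
      (mem_center_iff.1 (CfsgLib.MetacyclicOmega.le_center_of_card_le hR T hTi.le hx) t).symm
  have hk2 : 2 ≤ k := by
    by_contra hlt
    have h1 : Nat.card (centralizer ({t} : Set G)) ≤ Nat.card T := by
      rw [hk, hTi]; exact (Nat.pow_le_pow_right (by norm_num) (show k ≤ 1 by omega)).trans (pow_one 3).le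
    exact htE (hTE ((eq_of_le_of_card_ge hTQ h1).symm ▸ htQ))
  by_cases hk' : k = 2
  · subst hk'
    exact Or.inr (Or.inr (Or.inr ⟨rfl, maximal_of_centralizer hG hk⟩))
  set E := E0 ⊔ zpowers t with hE
  have ht1 : t ≠ 1 := fun h => htE (h ▸ one_mem E0)
  have hEcard : Nat.card E = 3 ^ 3 := by
    have h := CfsgLib.EABasic.card_sup_mul_card_inf_of_le_normalizer (H := zpowers t) (N := E0)
      (by rw [normalizer_eq_top]; exact le_top)
    have hinf : zpowers t ⊓ E0 = ⊥ := by
      refine eq_bot_iff.2 fun x hx => mem_bot.2 ?_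
      by_contra hx1
      obtain ⟨i, rfl⟩ := CfsgLib.Heisenberg.exists_nat_pow hx.1
      refine htE (zpowers_le.2 hx.2 (CfsgLib.Heisenberg.mem_zpowers_pow hR fun ⟨j, hj⟩ => hx1 ?_))
      rw [hj, pow_mul, ht3, one_pow]
    rw [hinf, card_bot, mul_one, Nat.card_zpowers, orderOf_eq_prime ht3 ht1, hE0c] at h
    rw [hE, sup_comm, h]
    norm_num
  have hcl := CfsgLib.MetacyclicOmega.commutator_le_center_of_card (hR := hR.to_subgroup E) hEcard
  have hE0E : E0 ≤ E := le_sup_left
  have hEq : ∀ x : E, ∃ e ∈ E0, ∃ i : ℤ, (x : G) = e * t ^ i := fun x => by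
    obtain ⟨e, he, w, hw, hew⟩ := mem_sup_of_normal_left.1 x.2
    obtain ⟨i, rfl⟩ := mem_zpowers_iff.1 hw
    exact ⟨e, he, i, hew.symm⟩
  have hder : ∀ c ∈ commutator E, c ^ 3 = 1 := by
    intro c hc
    have hle : (commutator E).map E.subtype ≤ E0 := by
      rw [map_le_iff_le_comap, commutator_def, commutator_le]
      intro x _ y _
      obtain ⟨e, he, i, hi⟩ := hEq x
      obtain ⟨f, hf, j, hj⟩ := hEq y
      show ⁅(x : G), (y : G)⁆ ∈ E0
      rw [hi, hj, ← QuotientGroup.eq_one_iff, ← QuotientGroup.mk'_apply, map_commutatorElement,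
        map_mul, map_mul, (QuotientGroup.eq_one_iff e).2 he |> fun h : QuotientGroup.mk' E0 e = 1 => h,
        (QuotientGroup.eq_one_iff f).2 hf |> fun h : QuotientGroup.mk' E0 f = 1 => h, one_mul, one_mul,
        map_zpow, map_zpow, commutatorElement_eq_one_iff_mul_comm]
      exact ((Commute.refl _).zpow_zpow i j).eq
    exact Subtype.ext (hE0e.2 _ (hle ⟨c, hc, rfl⟩))
  have hEexp : ∀ x ∈ E, x ^ 3 = 1 := by
    intro x hx
    obtain ⟨e, he, i, hi⟩ := hEq ⟨x, hx⟩
    have htE' : t ^ i ∈ E := zpow_mem (mem_sup_right (mem_zpowers t)) i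
    have := mul_pow_of_small (p := 3) (R := E) (by norm_num) hcl hder ⟨e, hE0E he⟩ ⟨t ^ i, htE'⟩
    have h2 := congrArg Subtype.val this
    simp only [SubmonoidClass.coe_pow, Subgroup.coe_mul] at h2
    rw [show x = e * t ^ i from hi, h2, hE0e.2 e he, one_mul, ← zpow_natCast, ← zpow_mul, mul_comm,
      zpow_mul, zpow_natCast, ht3, one_zpow]
  set D := centralizer ({t} : Set G) ⊓ centralizer (E0 : Set G) with hD
  have hDE : D ≤ centralizer (E : Set G) := fun x hx => mem_centralizer_iff.2 fun y hy => by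
    obtain ⟨e, he, i, hi⟩ := hEq ⟨y, hy⟩
    rw [show y = e * t ^ i from hi]
    have h1 : Commute x e := (mem_centralizer_iff.1 hx.2 e he).symm
    have h2 : Commute x t := mem_centralizer_singleton_iff.1 hx.1
    exact (h1.mul_right (h2.zpow_right i)).symm.eq
  have hDc : 3 ^ 2 ≤ Nat.card D := by
    have hi : (centralizer (E0 : Set G)).index ≤ 3 := by
      simpa using CfsgLib.PGroup.index_centralizer_le_pow hR 2 E0 hE0e.1 hE0c
    have hr : D.relIndex (centralizer ({t} : Set G)) ≤ 3 := by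
      rw [hD, inf_relIndex_left]
      exact (Nat.le_of_dvd (Nat.pos_of_ne_zero index_ne_zero_of_finite)
        (relIndex_dvd_index_of_normal _ _)).trans hi
    have h := relIndex_mul_relIndex ⊥ D (centralizer ({t} : Set G)) bot_le inf_le_left
    rw [relIndex_bot_left, relIndex_bot_left, hk] at h
    have h3 : 3 ^ 3 ≤ 3 ^ k := Nat.pow_le_pow_right (by norm_num) (by omega)
    nlinarith
  have hEn := normal_of_centralizer hp hR hrk hE0E hEexp hEcard hE0e hE0c hDE hDc
  rcases finish E hEn hEexp hEcard with h | h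
  · exact Or.inr (Or.inl h)
  · exact Or.inr (Or.inr (Or.inl h))

end Cfsg.Agent.S3888
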