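import Cfsg.Statements.S2947
import Cfsg.Agent.Lib.Invol.NormalizerCriterion
import Cfsg.Agent.Lib.Coprime.Core

set_option autoImplicit false
open Cfsg

namespace Cfsg.Agent.S2947

/-- Let G be a finite group of characteristic 2 type in which every 2-local subgroup is solvable and the centralizer of Ω₁(Z(S)) lies in N_G(S) for every Sylow 2-subgroup S; suppose O₂(G) = 1, fix a Sylow 2-subgroup S and a 2-local subgroup M containing N_G(J(S)) (J the Thompson subgroup generated by the elementary abelian 2-subgroups of largest order). Then M is strongly embedded in G (a proper subgroup of even order whose intersection with each conjugate by an element outside M has odd order) if and only if no nontrivial 2-subgroup of M lies in a 2-local subgroup of G not contained in M. -/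
theorem result {G : Type*} [Group G] [Finite G] (hL : Cfsg.IsCharacteristicTwoType G) (hN : ∀ N : Subgroup G, Cfsg.IsTwoLocal N → Group.IsSolvable ↥N)
    (hZ : ∀ S : Sylow 2 G, Subgroup.centralizer (Cfsg.omegaCenterOf (S : Subgroup G) : Set G) ≤ Subgroup.normalizer ((S : Subgroup G) : Set G)) (hO : Cfsg.pCore 2 G = ⊥) (S : Sylow 2 G) (M : Subgroup G) (hM : Cfsg.IsTwoLocal M)
    (hMJ : Subgroup.normalizer (Cfsg.thompsonSubgroupOf 2 (S : Subgroup G) : Set G) ≤ M) :
    Cfsg.IsStronglyEmbedded M ↔ Cfsg.straddlingTwoSubgroups M = ∅ := by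
  classical
  haveI : Fact (Nat.Prime 2) := ⟨Nat.prime_two⟩
  obtain ⟨R, hRp, hR1, hMR⟩ := hM
  have hRM : R ≤ M := hMR ▸ Subgroup.le_normalizer
  constructor
  · intro hse
    rw [Set.eq_empty_iff_forall_notMem]
    rintro T ⟨hTp, hT1, hTM, L, ⟨Q, hQp, hQ1, rfl⟩, hTL, hLM⟩
    -- a subgroup of `M` which contains an involution and is normalized by `y` forces `y ∈ M`
    have key : ∀ D : Subgroup G, D ≤ M → IsPGroup 2 D → D ≠ ⊥ →
        Subgroup.normalizer (D : Set G) ≤ M := by
      intro D hDM hDp hD1 y hy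
      by_contra hyM
      refine Nat.not_even_iff_odd.2 (hse.2.2 y hyM) ?_
      have hle : D ≤ M ⊓ M.map (MulAut.conj y).toMonoidHom := by
        refine le_inf hDM fun x hx => ⟨y⁻¹ * x * y, hDM ((Subgroup.mem_normalizer_iff.1 hy _).2
          (by simpa [mul_assoc] using hx)), by simp [mul_assoc]⟩
      obtain ⟨k, hk⟩ := IsPGroup.iff_card.1 hDp
      rcases k with _ | k
      · exact absurd (Subgroup.eq_bot_of_card_eq _ (by simpa using hk)) hD1
      · exact even_iff_two_dvd.2 ((dvd_pow_self 2 (Nat.succ_ne_zero k)).trans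
          (hk ▸ Subgroup.card_dvd_of_le hle))
    have hP : IsPGroup 2 (T ⊔ Q : Subgroup G) := hTp.to_sup_of_normal_right' hQp hTL
    have hPM : T ⊔ Q ≤ M := by
      by_contra hne
      obtain ⟨x, hxP, hxN, hxD⟩ := CfsgLib.Invol.exists_mem_normalizer_notMem hP
        (inf_le_left : (T ⊔ Q) ⊓ M ≤ T ⊔ Q) (fun h => hne (h.trans inf_le_right))
      refine hxD ⟨hxP, key _ inf_le_right (hP.to_le inf_le_left) (fun h => hT1 ?_) hxN⟩
      exact eq_bot_iff.2 (h ▸ le_inf le_sup_left hTM)
    exact hLM (key Q (le_sup_right.trans hPM) hQp hQ1)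
  · intro hstr
    have hMtop : M ≠ ⊤ := fun h => by
      haveI : R.Normal := Subgroup.normalizer_eq_top_iff.1 (hMR.symm.trans h)
      exact hR1 (eq_bot_iff.2 (hO ▸ CfsgLib.Coprime.le_pCore hRp))
    obtain ⟨P⟩ : Nonempty (Sylow 2 M) := inferInstance
    refine CfsgLib.Invol.stronglyEmbedded_of_normalizers P hMtop (fun h => hR1 ?_) fun X hX hX1 => ?_
    · obtain ⟨Q', hQ'⟩ := (hRp.comap_of_injective M.subtype M.subtype_injective).exists_le_sylow
      obtain ⟨g, hg⟩ := MulAction.exists_smul_eq M P Q'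
      have hb : (Q' : Subgroup M) = ⊥ := by
        rw [← hg, Sylow.coe_subgroup_smul, h]
        exact Subgroup.map_bot _
      refine eq_bot_iff.2 fun x hx => ?_
      exact Subgroup.mem_bot.2 (congrArg Subtype.val
        (Subgroup.mem_bot.1 (hb.le (hQ' (show (⟨x, hRM hx⟩ : M) ∈ R.comap M.subtype from hx)))))
    · by_contra hne
      have hXM : X ≤ M := hX.trans (Subgroup.map_subtype_le _)
      have hXp : IsPGroup 2 X := (P.2.map M.subtype).to_le hX
      exact Set.eq_empty_iff_forall_notMem.1 hstr X ⟨hXp, hX1, hXM, Subgroup.normalizer (X : Set G),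
        ⟨X, hXp, hX1, rfl⟩, Subgroup.le_normalizer, hne⟩

end Cfsg.Agent.S2947
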