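import Cfsg.Statements.S2949
import Cfsg.Agent.Lib.JComp.Straddle
-- import your own Cfsg.Agent.* helpers here

set_option autoImplicit false
open Cfsg

namespace Cfsg.Agent.S2949

/-- Let G be a finite group of characteristic 2 type in which every 2-local subgroup is solvable and the centralizer of Ω₁(Z(S)) lies in N_G(S) for every Sylow 2-subgroup S; suppose O₂(G) = 1, fix a Sylow 2-subgroup S and a 2-local subgroup M containing N_G(J(S)) (J the Thompson subgroup generated by the elementary abelian 2-subgroups of largest order). For every T maximal (for the order of a largest elementary abelian subgroup, then the order of J(T), then the order of T) among the nontrivial 2-subgroups of M lying in a 2-local subgroup not inside M, there is a J(T)-component K not contained in M with J(T) the Thompson subgroup of every Sylow 2-subgroup of N_G(W_K) containing J(T), and O₂(⟨K, T⟩) ≠ 1. -/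
theorem result {G : Type*} [Group G] [Finite G] (hL : Cfsg.IsCharacteristicTwoType G) (hN : ∀ N : Subgroup G, Cfsg.IsTwoLocal N → Group.IsSolvable ↥N)
    (hZ : ∀ S : Sylow 2 G, Subgroup.centralizer (Cfsg.omegaCenterOf (S : Subgroup G) : Set G) ≤ Subgroup.normalizer ((S : Subgroup G) : Set G)) (hO : Cfsg.pCore 2 G = ⊥) (S : Sylow 2 G) (M : Subgroup G) (hM : Cfsg.IsTwoLocal M)
    (hMJ : Subgroup.normalizer (Cfsg.thompsonSubgroupOf 2 (S : Subgroup G) : Set G) ≤ M) (T : Subgroup G) (hT : T ∈ Cfsg.maxStraddlingTwoSubgroups M) :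
    (Cfsg.jComponentsOutside M T).Nonempty := by
  haveI : Fact (Nat.Prime 2) := ⟨Nat.prime_two⟩
  obtain ⟨L, hL2, hTL, hLM⟩ := hT.1.2.2.2
  obtain ⟨K, hK, hKL, hKM⟩ := CfsgLib.JComp.exists_component_outside hL hN hZ hMJ hT hL2 hLM hTL
  have hLT := CfsgLib.JComp.mem_jOvergroups_self hL hMJ hT hL2 hLM hTL
  refine ⟨K, ⟨hK, fun R hJR hR => ?_⟩, hKM, fun h => ?_⟩
  · have hKN : K ≤ Subgroup.normalizer (Cfsg.wOf K : Set G) :=
      Subgroup.le_normalizer.trans (CfsgLib.JComp.normalizer_le_normalizer_wOf K)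
    exact (CfsgLib.JComp.local_facts hMJ hT
      ⟨_, CfsgLib.JComp.isPGroup_four (CfsgLib.JComp.wOf_sq hK), CfsgLib.JComp.wOf_ne_bot hK, rfl⟩
      (fun h => hKM (hKN.trans h)) hR hJR).1
  · have hsup : K ⊔ T ≤ L := sup_le hKL hTL
    have hle : Cfsg.pCoreOf 2 L ≤ Cfsg.pCoreOf 2 (K ⊔ T) :=
      CfsgLib.JComp.le_pCoreOf ((CfsgLib.JComp.core_le_sylow hLT).trans le_sup_right)
        (CfsgLib.JComp.isPGroup_pCoreOf 2 L) (hsup.trans (CfsgLib.JComp.le_normalizer_pCoreOf 2 L))
    exact CfsgLib.JComp.core_ne_bot hT.1.2.1 hLT (eq_bot_iff.2 (h ▸ hle))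

end Cfsg.Agent.S2949
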