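import Cfsg.Statements.S2941
import Cfsg.Agent.Lib.RootSub.Commutator
import Cfsg.Agent.Lib.Fusion.Sylow

set_option autoImplicit false
open Cfsg
open scoped commutatorElement Pointwise

namespace Cfsg.Agent.S2941

/-- Let G be a finite group of characteristic 2 type in which every 2-local subgroup is solvable and the centralizer of Ω₁(Z(S)) lies in N_G(S) for every Sylow 2-subgroup S, and let T be a nontrivial 2-subgroup and K a J(T)-component (J the Thompson subgroup generated by the elementary abelian 2-subgroups of largest order). If a subgroup Q is normalized by ⟨K, J(T)⟩ and normalizes J(T), then Q normalizes K. -/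
theorem result {G : Type*} [Group G] [Finite G] (hL : Cfsg.IsCharacteristicTwoType G) (hN : ∀ N : Subgroup G, Cfsg.IsTwoLocal N → Group.IsSolvable ↥N)
    (hZ : ∀ S : Sylow 2 G, Subgroup.centralizer (Cfsg.omegaCenterOf (S : Subgroup G) : Set G) ≤ Subgroup.normalizer ((S : Subgroup G) : Set G)) (T : Subgroup G) (hT : IsPGroup 2 ↥T) (hT1 : T ≠ ⊥) (K : Subgroup G) (hK : Cfsg.IsJComponent T K)
    (Q : Subgroup G) (hQ1 : K ⊔ Cfsg.thompsonSubgroupOf 2 T ≤ Subgroup.normalizer (Q : Set G)) (hQ2 : Q ≤ Subgroup.normalizer (Cfsg.thompsonSubgroupOf 2 T : Set G)) :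
    Q ≤ Subgroup.normalizer (K : Set G) := by
  obtain ⟨hK1, hK2, -⟩ := hK
  set J := Cfsg.thompsonSubgroupOf 2 T with hJ
  have hJp : IsPGroup 2 J := hT.to_le (Subgroup.map_subtype_le _)
  have hn : K ⊔ J ≤ Subgroup.normalizer (K : Set G) := by
    have h := CfsgLib.RootSub.sup_le_normalizer_commutator K J
    rwa [hK2] at h
  intro x hx
  -- `x` normalizes `K ⊔ J`
  have hKJ : ∀ y ∈ K ⊔ J, x * y * x⁻¹ ∈ K ⊔ J := by
    intro y hy
    have key : ∀ k ∈ K, ∀ j ∈ J, x * (k * j * k⁻¹) * x⁻¹ ∈ K ⊔ J := by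
      intro k hk j hj
      have hq : k⁻¹ * x * k ∈ Q := by
        simpa using (Subgroup.mem_normalizer_iff.1 (hQ1 (Subgroup.mem_sup_left (inv_mem hk))) x).1 hx
      have hj' : (k⁻¹ * x * k) * j * (k⁻¹ * x * k)⁻¹ ∈ J :=
        (Subgroup.mem_normalizer_iff.1 (hQ2 hq) j).1 hj
      rw [show x * (k * j * k⁻¹) * x⁻¹ = k * ((k⁻¹ * x * k) * j * (k⁻¹ * x * k)⁻¹) * k⁻¹ by group]
      exact mul_mem (mul_mem (Subgroup.mem_sup_left hk) (Subgroup.mem_sup_right hj'))
        (inv_mem (Subgroup.mem_sup_left hk))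
    suffices h : CfsgLib.Fusion.conjBy x (K ⊔ J) ≤ K ⊔ J from h (CfsgLib.Fusion.conj_mem_conjBy hy)
    have hJJ : ∀ j ∈ J, x * j * x⁻¹ ∈ K ⊔ J := fun j hj => by simpa using key 1 (one_mem _) j hj
    refine CfsgLib.Fusion.conjBy_le_iff.2 fun z hz => ?_
    show z ∈ (K ⊔ J).comap (MulAut.conj x).toMonoidHom
    suffices h : K ⊔ J ≤ (K ⊔ J).comap (MulAut.conj x).toMonoidHom from h hz
    refine sup_le ?_ (fun j hj => hJJ j hj)
    rw [← hK2]
    refine Subgroup.commutator_le.2 fun k hk j hj => ?_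
    show x * ⁅k, j⁆ * x⁻¹ ∈ ⁅K, J⁆ ⊔ J
    rw [hK2, commutatorElement_def,
      show x * (k * j * k⁻¹ * j⁻¹) * x⁻¹ = (x * (k * j * k⁻¹) * x⁻¹) * (x * j⁻¹ * x⁻¹) by group]
    exact mul_mem (key k hk j hj) (hJJ _ (inv_mem hj))
  -- odd elements of `K ⊔ J` lie in `K`
  have hodd : ∀ y ∈ K ⊔ J, Odd (orderOf y) → y ∈ K := by
    intro y hy ho
    have hJK : J ≤ Subgroup.normalizer (K : Set G) := le_sup_right.trans hn
    have hc := Subgroup.coe_mul_of_right_le_normalizer_left K J hJK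
    obtain ⟨a, ha, b, hb, rfl⟩ : y ∈ (K : Set G) * (J : Set G) := by rw [← hc]; exact hy
    have hpow : ∀ m : ℕ, ∃ a' ∈ K, (a * b) ^ m = a' * b ^ m := by
      intro m
      induction m with
      | zero => exact ⟨1, one_mem _, by simp⟩
      | succ m ih =>
        obtain ⟨a', ha', he⟩ := ih
        refine ⟨a' * (b ^ m * a * (b ^ m)⁻¹),
          mul_mem ha' ((Subgroup.mem_normalizer_iff.1 (hJK (pow_mem hb m)) a).1 ha), ?_⟩
        rw [pow_succ, he, pow_succ]; group
    obtain ⟨a', ha', he⟩ := hpow (orderOf (a * b))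
    rw [pow_orderOf_eq_one] at he
    have h1 : b ^ orderOf (a * b) ∈ K := by
      rw [← inv_eq_of_mul_eq_one_right he.symm]
      exact inv_mem ha'
    obtain ⟨k, hk⟩ := hJp ⟨b, hb⟩
    have hk' : b ^ 2 ^ k = 1 := congrArg Subtype.val hk
    obtain ⟨m, hm⟩ := exists_pow_eq_self_of_coprime (x := b) (n := orderOf (a * b))
      ((Nat.Coprime.pow_right k ho.coprime_two_right).coprime_dvd_right (orderOf_dvd_of_pow_eq_one hk'))
    exact mul_mem ha (hm ▸ pow_mem h1 m)
  have hle : ∀ z ∈ K, x * z * x⁻¹ ∈ K := by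
    intro z hz
    suffices h : K ≤ K.comap (MulAut.conj x).toMonoidHom from h hz
    conv_lhs => rw [← hK1]
    refine (Subgroup.closure_le _).2 fun w ⟨hw, hwo⟩ => ?_
    exact hodd _ (hKJ w (Subgroup.mem_sup_left hw))
      (by rw [MulEquiv.coe_toMonoidHom, MulEquiv.orderOf_eq]; exact hwo)
  exact CfsgLib.Fusion.conjBy_eq_iff.1 (CfsgLib.Fusion.conjBy_eq_of_le
    (CfsgLib.Fusion.conjBy_le_iff.2 hle))

end Cfsg.Agent.S2941
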