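import Cfsg.Statements.S1244
import Cfsg.Agent.Lib.Fusion.Transfer
import Cfsg.Agent.Lib.Fusion.Abelian


set_option autoImplicit false
open Cfsg

namespace Cfsg.Agent.S1244

theorem exists_index_two {G : Type*} [Group G] [Finite G] (h : 2 ∣ (commutator G).index) :
    ∃ H : Subgroup G, H.index = 2 := by
  classical
  haveI : Fact (Nat.Prime 2) := ⟨Nat.prime_two⟩
  rw [Subgroup.index_eq_card] at h
  let sq : Abelianization G →* Abelianization G := powMonoidHom 2
  obtain ⟨a, ha⟩ := exists_prime_orderOf_dvd_card' (G := Abelianization G) 2 h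
  have hne : sq.range ≠ ⊤ := by
    intro e
    have hinj : Function.Injective sq :=
      Finite.injective_iff_surjective.2 (MonoidHom.range_eq_top.1 e)
    have h1 : sq a = sq 1 := by
      simp [sq, ← ha, pow_orderOf_eq_one]
    rw [hinj h1, orderOf_one] at ha
    omega
  have hQ : IsPGroup 2 (Abelianization G ⧸ sq.range) := by
    intro q
    obtain ⟨y, rfl⟩ := QuotientGroup.mk_surjective q
    exact ⟨1, (QuotientGroup.eq_one_iff _).2 ⟨y, by simp [sq]⟩⟩
  obtain ⟨k, hk⟩ := hQ.exists_card_eq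
  have hk0 : k ≠ 0 := by
    rintro rfl
    rw [pow_zero, ← Subgroup.index_eq_card, Subgroup.index_eq_one] at hk
    exact hne hk
  obtain ⟨K, hK⟩ := Sylow.exists_subgroup_card_pow_prime 2
    (hk.symm ▸ pow_dvd_pow 2 (Nat.sub_le k 1) : 2 ^ (k - 1) ∣ Nat.card _)
  let π := (QuotientGroup.mk' sq.range).comp (Abelianization.of (G := G))
  refine ⟨K.comap π, ?_⟩
  have hπ : Function.Surjective π :=
    (QuotientGroup.mk'_surjective sq.range).comp QuotientGroup.mk_surjective
  rw [Subgroup.index_comap_of_surjective _ hπ]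
  have h1 := K.card_mul_index
  rw [hK, hk, show k = k - 1 + 1 by omega, pow_succ, Nat.add_sub_cancel] at h1
  exact Nat.eq_of_mul_eq_mul_left (pow_pos two_pos _) h1

/-- Let G be a finite group with no subgroup of index 2 whose Sylow 2-subgroup S is commutative, and let R ≤ S be a subgroup whose 2-rank is exactly one less than the 2-rank r of S. Then every involution of S is conjugate, by an element of N_G(S), to an element of R. -/
theorem result {G : Type*} [Group G] [Finite G] (hG : ∀ H : Subgroup G, H.index ≠ 2) (S : Sylow 2 G) (hS : IsMulCommutative (S : Subgroup G)) (r : ℕ) (hr1 : 1 ≤ r) (hSr : Cfsg.PRankLE 2 r (S : Subgroup G) ∧ ¬ Cfsg.PRankLE 2 (r - 1) (S : Subgroup G)) (R : Subgroup G) (hRS : R ≤ S) (hRr : Cfsg.PRankLE 2 (r - 1) R ∧ (r = 1 ∨ ¬ Cfsg.PRankLE 2 (r - 2) R)) (t : G) (ht : orderOf t = 2) (htS : t ∈ S) : ∃ n ∈ Subgroup.normalizer ((S : Subgroup G) : Set G), n * t * n⁻¹ ∈ R := by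
  classical
  have hp2 : Fact (Nat.Prime 2) := ⟨Nat.prime_two⟩
  have hcomm : ∀ a ∈ (S : Subgroup G), ∀ b ∈ (S : Subgroup G), a * b = b * a := fun a ha b hb =>
    congrArg Subtype.val (hS.is_comm.comm (⟨a, ha⟩ : (S : Subgroup G)) ⟨b, hb⟩)
  set N := Subgroup.normalizer ((S : Subgroup G) : Set G) with hN
  let Ω : Subgroup G :=
    { carrier := {x | x ∈ (S : Subgroup G) ∧ x ^ 2 = 1}
      one_mem' := ⟨one_mem _, one_pow _⟩
      mul_mem' := fun {a b} ha hb => ⟨mul_mem ha.1 hb.1, by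
        rw [(show Commute a b from hcomm a ha.1 b hb.1).mul_pow, ha.2, hb.2, one_mul]⟩
      inv_mem' := fun {a} ha => ⟨inv_mem ha.1, by rw [inv_pow, ha.2, inv_one]⟩ }
  have hΩS : Ω ≤ (S : Subgroup G) := fun x hx => hx.1
  haveI hΩc : IsMulCommutative Ω :=
    ⟨⟨fun a b => Subtype.ext (hcomm a a.2.1 b b.2.1)⟩⟩
  letI : CommGroup Ω := { (inferInstance : Group Ω) with mul_comm := fun a b => hΩc.is_comm.comm a b }
  -- the orders of `Ω` and of `Ω ⊓ R`
  obtain ⟨k, hk⟩ := (S.2.to_le hΩS).exists_card_eq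
  obtain ⟨l, hl⟩ := (S.2.to_le (inf_le_left.trans hΩS : Ω ⊓ R ≤ (S : Subgroup G))).exists_card_eq
  have h2pow : ∀ a b : ℕ, 2 ^ a ≤ 2 ^ b ↔ a ≤ b := fun a b => Nat.pow_le_pow_iff_right one_lt_two
  have hkr : k ≤ r := by
    have := hSr.1 (Ω.subgroupOf S) ⟨⟨fun a b => Subtype.ext (Subtype.ext (hcomm a.1 a.1.2 b.1 b.1.2))⟩⟩
      (fun a ha => Subtype.ext (Subgroup.mem_subgroupOf.1 ha).2)
    rwa [Nat.card_congr (Subgroup.subgroupOfEquivOfLe hΩS).toEquiv, hk, h2pow] at this
  have hrk : r ≤ k := by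
    have h := hSr.2
    rw [Cfsg.PRankLE] at h
    push Not at h
    obtain ⟨A, -, hA2, hA⟩ := h
    have hle : A.map (S : Subgroup G).subtype ≤ Ω := by
      rintro _ ⟨a, ha, rfl⟩
      refine ⟨a.2, ?_⟩
      rw [← map_pow, hA2 a ha, map_one]
    have h1 := Subgroup.card_le_of_le hle
    rw [Nat.card_congr (A.equivMapOfInjective _ (Subgroup.subtype_injective _)).symm.toEquiv, hk] at h1
    have := (Nat.pow_lt_pow_iff_right one_lt_two).1 (hA.trans_le h1)
    omega
  have hlr : l ≤ r - 1 := by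
    have := hRr.1 ((Ω ⊓ R).subgroupOf R)
      ⟨⟨fun a b => Subtype.ext (Subtype.ext (hcomm a.1 (hRS a.1.2) b.1 (hRS b.1.2)))⟩⟩
      (fun a ha => Subtype.ext (Subgroup.mem_subgroupOf.1 ha).1.2)
    rwa [Nat.card_congr (Subgroup.subgroupOfEquivOfLe (inf_le_right : Ω ⊓ R ≤ R)).toEquiv, hl,
      h2pow] at this
  have hrl : r - 1 ≤ l := by
    rcases hRr.2 with h1 | h
    · omega
    rw [Cfsg.PRankLE] at h
    push Not at h
    obtain ⟨A, -, hA2, hA⟩ := h
    have hle : A.map R.subtype ≤ Ω ⊓ R := by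
      rintro _ ⟨a, ha, rfl⟩
      refine ⟨⟨hRS a.2, ?_⟩, a.2⟩
      rw [← map_pow, hA2 a ha, map_one]
    have h1 := Subgroup.card_le_of_le hle
    rw [Nat.card_congr (A.equivMapOfInjective _ (Subgroup.subtype_injective _)).symm.toEquiv, hl] at h1
    have := (Nat.pow_lt_pow_iff_right one_lt_two).1 (hA.trans_le h1)
    omega
  let W : Subgroup Ω := (Ω ⊓ R).subgroupOf Ω
  have hW : W.index = 2 := by
    have h1 := W.card_mul_index
    rw [Nat.card_congr (Subgroup.subgroupOfEquivOfLe (inf_le_left : Ω ⊓ R ≤ Ω)).toEquiv, hl, hk,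
      show k = l + 1 by omega, pow_succ] at h1
    exact Nat.eq_of_mul_eq_mul_left (pow_pos two_pos l) h1
  -- the product over the cosets of `S` in its normaliser
  have hSN : (S : Subgroup G) ≤ N := Subgroup.le_normalizer
  let T : Subgroup N := (S : Subgroup G).subgroupOf N
  have hTodd : Odd T.index := by
    rw [← Nat.not_even_iff_odd, even_iff_two_dvd]
    exact fun h => S.not_dvd_index (h.trans (Subgroup.relIndex_dvd_index_of_le hSN))
  have htΩ : t ∈ Ω := ⟨htS, by rw [← ht, pow_orderOf_eq_one]⟩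
  have hconjΩ : ∀ n : N, ∀ x ∈ Ω, (n : G) * x * (n : G)⁻¹ ∈ Ω := fun n x hx =>
    ⟨(Subgroup.mem_normalizer_iff.1 n.2 x).1 hx.1, by rw [conj_pow, hx.2, mul_one, mul_inv_cancel]⟩
  by_contra hno
  push Not at hno
  let c : N → (Ω →* Ω) := fun n =>
    { toFun := fun x => ⟨(n : G) * x * (n : G)⁻¹, hconjΩ n x x.2⟩
      map_one' := Subtype.ext (by simp)
      map_mul' := fun a b => Subtype.ext (by simp [mul_assoc]) }
  let f : N ⧸ T → Ω := fun q => c q.out ⟨t, htΩ⟩
  haveI : Fintype (N ⧸ T) := Fintype.ofFinite _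
  let s : Ω := ∏ q : N ⧸ T, f q
  have hfix : ∀ n : N, c n s = s := by
    intro n
    rw [map_prod]
    refine Fintype.prod_equiv (MulAction.toPerm n) _ _ fun q => ?_
    obtain ⟨u, hu⟩ : ∃ u : T, (n • q).out = n * q.out * (u : N) := by
      obtain ⟨u, hu⟩ := QuotientGroup.mk_out_eq_mul T (n * q.out)
      refine ⟨u, ?_⟩
      rw [← hu, ← MulAction.Quotient.mk_smul_out, smul_eq_mul]
    show c n (f q) = f (n • q)
    refine Subtype.ext ?_
    have hut : ((u : N) : G) * t = t * ((u : N) : G) := hcomm _ (Subgroup.mem_subgroupOf.1 u.2) _ htS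
    show (n : G) * ((q.out : G) * t * (q.out : G)⁻¹) * (n : G)⁻¹
      = ((n • q).out : G) * t * ((n • q).out : G)⁻¹
    rw [hu, Subgroup.coe_mul, Subgroup.coe_mul, mul_assoc ((n : G) * _) _ t, hut]
    group
  -- `s` does not lie in `R`
  haveI hWn : W.Normal := Subgroup.normal_of_index_eq_two hW
  have hsR : (s : G) ∉ R := by
    intro hs
    have h1 : QuotientGroup.mk' W s = 1 :=
      (QuotientGroup.eq_one_iff s).2 (Subgroup.mem_subgroupOf.2 ⟨s.2, hs⟩)
    rw [map_prod] at h1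
    have hne : ∀ q, QuotientGroup.mk' W (f q) ≠ 1 := fun q h =>
      hno _ (Subtype.mem q.out) (Subgroup.mem_subgroupOf.1 ((QuotientGroup.eq_one_iff _).1 h)).2
    have heq : ∀ q q', QuotientGroup.mk' W (f q) = QuotientGroup.mk' W (f q') := by
      intro q q'
      refine QuotientGroup.eq.2 ((Subgroup.mul_mem_iff_of_index_two hW).2 ?_)
      rw [inv_mem_iff]
      exact iff_of_false (fun h => hne q ((QuotientGroup.eq_one_iff _).2 h))
        (fun h => hne q' ((QuotientGroup.eq_one_iff _).2 h))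
    rw [Finset.prod_congr rfl (fun q _ => heq q (Quotient.mk'' 1)), Finset.prod_const,
      Finset.card_univ, ← Nat.card_eq_fintype_card, ← Subgroup.index_eq_card] at h1
    set a := QuotientGroup.mk' W (f (Quotient.mk'' 1))
    have ha2 : a ^ 2 = 1 := by
      have := pow_card_eq_one' (G := Ω ⧸ W) (x := a)
      rwa [← Subgroup.index_eq_card, hW] at this
    obtain ⟨j, hj⟩ := hTodd
    rw [hj, pow_succ, pow_mul, ha2, one_pow, one_mul] at h1
    exact hne _ h1
  -- but `s` is trivial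
  refine hsR ?_
  have hGodd : Odd (commutator G).index := by
    rw [← Nat.not_even_iff_odd, even_iff_two_dvd]
    intro h
    obtain ⟨H, hH⟩ := exists_index_two h
    exact hG H hH
  have hScomm : (S : Subgroup G) ≤ commutator G := by
    intro x hx
    rw [← QuotientGroup.eq_one_iff (N := commutator G), ← orderOf_eq_one_iff]
    obtain ⟨i, hi⟩ := S.2 ⟨x, hx⟩
    refine Nat.eq_one_of_dvd_coprimes (Nat.Coprime.pow_left i (Nat.coprime_two_left.2 hGodd)) ?_ ?_
    · refine (orderOf_map_dvd (QuotientGroup.mk' (commutator G)) x).trans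
        (orderOf_dvd_of_pow_eq_one ?_)
      exact congrArg Subtype.val hi
    · rw [Subgroup.index_eq_card]
      exact orderOf_dvd_natCard _
  have hsS : (s : G) ∈ (S : Subgroup G) := s.2.1
  have h1 : (s : G) ∈ ⁅(S : Subgroup G), N⁆ := by
    rw [← CfsgLib.Fusion.focalSubgroup_abelian_sylow S hS,
      ← CfsgLib.Fusion.commutator_inf_eq_focal (CfsgLib.Fusion.coprime_card_focalQuotient S)]
    exact ⟨hScomm hsS, hsS⟩
  have h2 : (⟨s, hSN hsS⟩ : N) ∈ commutator N := by
    have h3 := Subgroup.commutator_mono hSN le_rfl h1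
    rw [← Subgroup.map_subtype_commutator] at h3
    obtain ⟨y, hy, hye⟩ := h3
    rwa [show (⟨s, hSN hsS⟩ : N) = y from Subtype.ext hye.symm]
  have hTc : IsMulCommutative T := ⟨⟨fun a b => Subtype.ext (Subtype.ext
    (hcomm _ (Subgroup.mem_subgroupOf.1 a.2) _ (Subgroup.mem_subgroupOf.1 b.2)))⟩⟩
  have hcop : Nat.Coprime (Nat.card T) T.index := by
    rw [Nat.card_congr (Subgroup.subgroupOfEquivOfLe hSN).toEquiv]
    obtain ⟨i, hi⟩ := S.2.exists_card_eq
    rw [hi]
    exact Nat.Coprime.pow_left i (Nat.coprime_two_left.2 hTodd)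
  have hcen : (⟨s, hSN hsS⟩ : N) ∈ Subgroup.center N := Subgroup.mem_center_iff.2 fun n => by
    refine Subtype.ext ?_
    have h4 := congrArg Subtype.val (hfix n)
    exact mul_inv_eq_iff_eq_mul.1 h4
  have h5 := CfsgLib.Fusion.central_inf_commutator_eq_one T hcop hcen h2
    (Subgroup.mem_subgroupOf.2 hsS)
  rw [show (s : G) = 1 from congrArg Subtype.val h5]
  exact one_mem R

end Cfsg.Agent.S1244
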