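import Cfsg.Statements.S0791
import Cfsg.Agent.Lib.Orth.HypInvol

set_option autoImplicit false
open Cfsg

namespace Cfsg.Agent.S0791

/-- −1 ∈ Ω⁻_2m(q) iff q^m ≡ −1 (mod 4), for q odd and m ≥ 1; for the minus-type form quadFormMinus (m−1) with anisotropic binary part. -/
theorem result {F : Type*} [Field F] [Fintype F] {q : ℕ} (hF : Fintype.card F = q) (hodd : Odd q) (m : ℕ) (hm : 1 ≤ m) (a b : F) (hab : ∀ z₁ z₂ : F, z₁ ^ 2 + a * z₁ * z₂ + b * z₂ ^ 2 = 0 → z₁ = 0 ∧ z₂ = 0) : (∃ g : ↥(Cfsg.isometryGroup F (Cfsg.quadFormMinus (m - 1) F a b)), g ∈ Cfsg.Omega F (Cfsg.quadFormMinus (m - 1) F a b) ∧ ((g : Matrix.GeneralLinearGroup ((Fin (m - 1) ⊕ Fin (m - 1)) ⊕ Fin 2) F) : Matrix ((Fin (m - 1) ⊕ Fin (m - 1)) ⊕ Fin 2) ((Fin (m - 1) ⊕ Fin (m - 1)) ⊕ Fin 2) F) = -1) ↔ q ^ m % 4 = 3 := by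
  classical
  have hQ : Cfsg.Geo.IsNondegenerateQuadraticForm (Cfsg.quadFormMinus (m - 1) F a b) :=
    CfsgLib.Perm.Trans.Quad.quadFormMinus_nd a b hab
  have h2 : (2 : F) ≠ 0 := CfsgLib.Orth.two_ne_zero_of_odd (hF ▸ hodd)
  have h := CfsgLib.Orth.diag_mem_omega_iff hQ h2 (by simp) id Function.injective_id
    (fun _ : (Fin (m - 1) ⊕ Fin (m - 1)) ⊕ Fin 2 => True) (fun k => iff_of_true trivial ⟨k, rfl⟩)
    (fun x => by simp [Cfsg.quadFormMinus])
  have hg : (Matrix.of fun i j : (Fin (m - 1) ⊕ Fin (m - 1)) ⊕ Fin 2 =>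
      QuadraticMap.polar (Cfsg.quadFormMinus (m - 1) F a b) (Pi.single (id i) 1) (Pi.single (id j) 1)) =
      Matrix.fromBlocks (Matrix.fromBlocks 0 1 1 0) 0 0 (Matrix.of ![![2, a], ![a, 2 * b]]) := by
    ext i j
    rcases i with (i | i) | i <;> rcases j with (j | j) | j <;>
      (try fin_cases i) <;> (try fin_cases j) <;>
      simp [CfsgLib.Orth.polar_quadFormMinus, Pi.single_apply, Matrix.one_apply, ite_mul, mul_ite, Finset.sum_ite_eq, Finset.sum_ite_eq'] <;> split_ifs <;> simp_all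
  rw [hg, Matrix.det_fromBlocks_zero₂₁, CfsgLib.Orth.det_swapBlocks, Matrix.det_fin_two] at h
  simp only [Fintype.card_sum, Fintype.card_fin, Matrix.of_apply, Matrix.cons_val_zero, Matrix.cons_val_one] at h
  rw [show (m - 1) + (m - 1) + 2 = m + m by omega, CfsgLib.Orth.sq_pow_two_mul _ _ _ h2] at h
  have he : Even (m + m) := ⟨m, rfl⟩
  simp only [he, and_true] at h
  have hns : ¬ IsSquare (a * a - 4 * b) := by
    rintro ⟨t, ht⟩
    have := hab ((t - a) / 2) 1 (by field_simp; linear_combination -ht)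
    exact one_ne_zero this.2
  have hne : a * a - 4 * b ≠ 0 := fun e => hns (e ▸ IsSquare.zero)
  have hpow : ((-1 : F)) ^ (m - 1) * (2 * (2 * b) - a * a) = (-1) ^ m * (a * a - 4 * b) := by
    obtain ⟨k, rfl⟩ : ∃ k, m = k + 1 := ⟨m - 1, by omega⟩
    rw [Nat.add_sub_cancel]
    ring
  rw [hpow] at h
  have hiff : IsSquare ((-1 : F) ^ m * (a * a - 4 * b)) ↔ ¬ IsSquare ((-1 : F) ^ m) := by
    have hchar : ringChar F ≠ 2 := fun e => h2 (by haveI := ringChar.of_eq e; exact CharTwo.two_eq_zero)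
    have hu : ((-1 : F) ^ m) ≠ 0 := pow_ne_zero _ (neg_ne_zero.2 one_ne_zero)
    rw [← quadraticChar_one_iff_isSquare (mul_ne_zero hu hne), map_mul,
      quadraticChar_neg_one_iff_not_isSquare.2 hns, ← quadraticChar_neg_one_iff_not_isSquare]
    omega
  rw [hiff, CfsgLib.Orth.isSquare_neg_one_pow_iff hF hodd] at h
  have h4 : q ^ m % 4 = 1 ∨ q ^ m % 4 = 3 := by
    have : Odd (q ^ m) := hodd.pow
    rw [Nat.odd_iff] at this
    omega
  rw [show (Matrix.diagonal fun _ : (Fin (m - 1) ⊕ Fin (m - 1)) ⊕ Fin 2 => if True then (-1 : F) else 1) = -1 by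
    simp [← Matrix.diagonal_neg, Matrix.diagonal_one]] at h
  rw [h]
  omega

end Cfsg.Agent.S0791
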