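import Cfsg.Statements.S0801
-- import your own Cfsg.Agent.* helpers here
import Mathlib
import Cfsg.Agent.Lib.Perm.Dickson.TwoTransv

set_option autoImplicit false
set_option linter.all false
open Cfsg

namespace Cfsg.Agent.S0801

open CfsgLib.Perm.Dickson

/-- Let F be a finite field of odd characteristic and λ ≠ 0 an element generating F as a field. Then the lower and upper unitriangular matrices with off-diagonal entries 1 and λ generate SL_2(F), unless |F| = 9 and λ² = −1, in which case they generate a subgroup of order 120. -/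
theorem result {F : Type*} [Field F] [Fintype F] (h2 : (2 : F) ≠ 0) (lam : F) (hlam : lam ≠ 0) (hgen : Subfield.closure ({lam} : Set F) = ⊤) : (Subgroup.closure {g : Matrix.SpecialLinearGroup (Fin 2) F | (g : Matrix (Fin 2) (Fin 2) F) = !![1, 0; 1, 1] ∨ (g : Matrix (Fin 2) (Fin 2) F) = !![1, lam; 0, 1]} = ⊤ ∧ ¬ (Fintype.card F = 9 ∧ lam ^ 2 = -1)) ∨ (Fintype.card F = 9 ∧ lam ^ 2 = -1 ∧ Nat.card ↥(Subgroup.closure {g : Matrix.SpecialLinearGroup (Fin 2) F | (g : Matrix (Fin 2) (Fin 2) F) = !![1, 0; 1, 1] ∨ (g : Matrix (Fin 2) (Fin 2) F) = !![1, lam; 0, 1]}) = 120) := by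
  classical
  haveI := finite_G2 (F := F)
  obtain ⟨p, hpc⟩ := CharP.exists F
  haveI : Fact p.Prime := ⟨CharP.char_is_prime F p⟩
  have hp2 : p ≠ 2 := fun e => h2 (by subst e; exact CharP.cast_eq_zero F 2)
  set L := Subgroup.closure {trA lam, (trB : SL2F F)} with hL
  have hset : {g : Matrix.SpecialLinearGroup (Fin 2) F | (g : Matrix (Fin 2) (Fin 2) F) = !![1, 0; 1, 1] ∨
      (g : Matrix (Fin 2) (Fin 2) F) = !![1, lam; 0, 1]} = {trA lam, (trB : SL2F F)} := by
    ext g
    simp only [Set.mem_setOf_eq, Set.mem_insert_iff, Set.mem_singleton_iff]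
    constructor
    · rintro (h | h)
      · exact Or.inr (Subtype.ext h)
      · exact Or.inl (Subtype.ext h)
    · rintro (h | h)
      · exact Or.inr (congrArg Subtype.val h)
      · exact Or.inl (congrArg Subtype.val h)
  rw [hset]
  have hneg : ∀ g ∈ L, slToG2 g ≠ 1 → slToG2 g * slToG2 g = 1 → (g * g).1 = -1 := by
    intro g hg hne hsq
    rcases slToG2_eq_one (g * g) (by rw [map_mul, hsq]) with h | h
    · exfalso
      rcases sl_sq_one h2 g (Subtype.ext h) with h' | h' <;> apply hne
      · rw [show g = 1 from Subtype.ext h', map_one]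
      · change Matrix.ProjGenLinGroup.mk (Matrix.SpecialLinearGroup.toGL g) = 1
        exact mk_eq_one_of_scalar _ (-1) (by rw [neg_smul, one_smul]; exact h')
    · exact h
  have hker : ∀ z : SL2F F, z.1 = -1 → ∀ w : SL2F F, slToG2 w = 1 → w = 1 ∨ w = z := by
    intro z hz w hw
    rcases slToG2_eq_one w hw with h | h
    · exact Or.inl (Subtype.ext h)
    · exact Or.inr (Subtype.ext (h.trans hz.symm))
  have h9 : Nat.card F = 9 → lam ^ 2 = -1 → Nat.card (L.map slToG2) = 60 := fun hq hl => by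
    refine icosa_transv h2 ?_ hl
    have hd : (p : ℕ) ∣ 9 := by
      obtain ⟨n, hn, hqn⟩ := card_eq_pow (F := F) p
      rw [← hq, hqn]; exact dvd_pow_self p (by omega)
    obtain rfl : p = 3 := (Nat.prime_dvd_prime_iff_eq (Fact.out : p.Prime) Nat.prime_three).1
      ((Fact.out : p.Prime).dvd_of_dvd_pow (n := 2) hd)
    exact CharP.cast_eq_zero F 3
  by_cases hex : Fintype.card F = 9 ∧ lam ^ 2 = -1
  · refine Or.inr ⟨hex.1, hex.2, ?_⟩
    have h60 := h9 (by rw [Nat.card_eq_fintype_card]; exact hex.1) hex.2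
    haveI : Fact (Nat.Prime 2) := ⟨Nat.prime_two⟩
    obtain ⟨⟨_, g, hg, rfl⟩, hord⟩ := exists_prime_orderOf_dvd_card' (G := (L.map slToG2)) 2 (by rw [h60]; norm_num)
    rw [← Subgroup.orderOf_coe] at hord
    change orderOf (slToG2 g) = 2 at hord
    have hz := hneg g hg (fun e => by rw [e, orderOf_one] at hord; omega) (by
      rw [← pow_two]; exact (hord ▸ pow_orderOf_eq_one (slToG2 g) :))
    set f := slToG2.comp L.subtype with hf
    have hr : f.range = L.map slToG2 := by rw [hf, MonoidHom.range_comp, Subgroup.range_subtype]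
    have hk : Nat.card f.ker = 2 := by
      have hne : (⟨g * g, mul_mem hg hg⟩ : L) ≠ 1 := fun e => by
        have e' := congrArg (fun x : L => ((x : SL2F F) : Matrix (Fin 2) (Fin 2) F) 0 0) e
        simp only [] at e'
        rw [hz] at e'
        simp at e'
        exact h2 (by linear_combination -e')
      refine Nat.card_eq_two_iff.2 ⟨1, ⟨⟨g * g, mul_mem hg hg⟩, ?_⟩, ?_, ?_⟩
      · show slToG2 (g * g) = 1
        rw [map_mul, ← pow_two]; exact (hord ▸ pow_orderOf_eq_one (slToG2 g) :)
      · exact fun e => hne (congrArg Subtype.val e.symm)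
      · refine Set.eq_univ_of_forall fun w => ?_
        rcases hker (g * g) hz (w.1 : SL2F F) w.2 with h | h
        · exact Or.inl (Subtype.ext (Subtype.ext h))
        · exact Or.inr (Subtype.ext (Subtype.ext h))
    rw [← f.ker.card_mul_index, Subgroup.index_ker, hr, h60, hk]
  · refine Or.inl ⟨?_, hex⟩
    rcases transv_image_cases p h2 hp2 hlam hgen with hmap | ⟨hq, hl⟩
    swap
    · exact absurd ⟨by rw [← Nat.card_eq_fintype_card]; exact hq, hl⟩ hex
    obtain ⟨g, hg, hgI⟩ : QPar.gI ∈ L.map slToG2 := by rw [hmap]; exact QPar.gI_mem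
    have hz := hneg g hg (by rw [hgI]; exact QPar.gI_ne) (by rw [hgI]; exact QPar.II)
    rw [eq_top_iff]
    intro x _
    obtain ⟨y, hy, hxy⟩ : slToG2 x ∈ L.map slToG2 := by rw [hmap]; exact ⟨x, rfl⟩
    have : slToG2 (x * y⁻¹) = 1 := by rw [map_mul, map_inv, hxy, mul_inv_cancel]
    rcases hker _ hz _ this with h | h
    · rw [mul_inv_eq_one.1 h]; exact hy
    · rw [mul_inv_eq_iff_eq_mul.1 h]; exact mul_mem (mul_mem hg hg) hy

end Cfsg.Agent.S0801
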