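import Cfsg.Statements.S2154
-- import your own Cfsg.Agent.* helpers here
import Mathlib
import Cfsg.Agent.Lib.Lie.Chev.BorelTits

set_option autoImplicit false
set_option linter.all false
open Cfsg

namespace Cfsg.Agent.S2154

/-- The Borel–Tits property of the finite Chevalley groups of types G₂, B₂, D₄, F₄, E₆, E₇, E₈ over a finite field of characteristic p: for every non-trivial p-subgroup U of the group G there are an element g of G and a proper set J of fundamental roots such that the normaliser of U in G lies in the conjugate by g of the standard parabolic subgroup P_J and U lies in the conjugate by g of its unipotent radical U_J. -/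
theorem result {F : Type*} [Field F] [Fintype F] (p : ℕ) [Fact p.Prime] [CharP F p] (D : Cfsg.Lie.ChevalleyDatum) (hD : D ∈ [Cfsg.Lie.chevG2, Cfsg.Lie.chevB2, Cfsg.Lie.chevD4, Cfsg.Lie.chevF4, Cfsg.Lie.chevE6, Cfsg.Lie.chevE7, Cfsg.Lie.chevE8]) (U : Subgroup (GL D.Idx F)) (hUG : U ≤ D.group F) (hU : IsPGroup p ↥U) (hne : U ≠ ⊥) : ∃ g ∈ D.group F, ∃ J : Set ℕ, (∃ i, i < D.rank ∧ i ∉ J) ∧ Subgroup.normalizer (U : Set (GL D.Idx F)) ⊓ D.group F ≤ (D.parabolicSubgroup F J).map (MulAut.conj g).toMonoidHom ∧ U ≤ (D.unipotentRadical F J).map (MulAut.conj g).toMonoidHom := by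
  obtain ⟨C⟩ := CfsgLib.Lie.Chev.nonempty_full hD
  have hchk := CfsgLib.Lie.Chev.chkSupp_all hD
  obtain ⟨g, hg, J, hJ, hU', hN⟩ := C.borel_tits p U hUG hU hne
  obtain ⟨i, hi⟩ : ∃ i, i ∉ J := by
    by_contra h
    push Not at h
    exact hJ (Finset.eq_univ_iff_forall.2 h)
  have hnodes : CfsgLib.Lie.Chev.nodesIn D (Fin.val '' (J : Set (Fin D.rank))) = J :=
    Finset.ext fun a => by simp [CfsgLib.Lie.Chev.mem_nodesIn, Fin.val_inj]
  refine ⟨g⁻¹, inv_mem hg, Fin.val '' (J : Set (Fin D.rank)),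
    ⟨i.val, i.isLt, by simp [Fin.val_inj, hi]⟩, fun x hx => ?_, fun d hd => ?_⟩
  · rw [C.parabolic_eq, hnodes]
    have h := Subgroup.mem_normalizer_iff.1 (Subgroup.mem_inf.1 hx).1
    exact ⟨g * x * g⁻¹, hN x (Subgroup.mem_inf.1 hx).2 (fun d hd => (h d).1 hd),
      by simp [MulAut.conj_apply, mul_assoc]⟩
  · rw [C.radical_eq hchk, hnodes]
    exact ⟨g * d * g⁻¹, hU' d hd, by simp [MulAut.conj_apply, mul_assoc]⟩

end Cfsg.Agent.S2154
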