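import Cfsg.Statements.S2155
import Cfsg.Agent.Lib.Lie.Chev.ParabCent
import Cfsg.Agent.Lib.Lie.Chev.FullAll
import Cfsg.Agent.Lib.Lie.Chev.Unip2
import Cfsg.Agent.Lib.Invol.PConstrained
-- import your own Cfsg.Agent.* helpers here

set_option autoImplicit false
open Cfsg
open CfsgLib.Lie.Chev

namespace Cfsg.Agent.S2155

/-- In a Chevalley group of type G₂, B₂, D₄, F₄, E₆, E₇ or E₈ over a finite field of characteristic p (for types G₂ and B₂ the field is assumed to have at least 3 elements, so that the group is simple), the generalized Fitting subgroup of every proper standard parabolic subgroup P_J is a p-group (P_J is p-constrained with trivial largest normal subgroup of order prime to p). -/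
theorem result {F : Type*} [Field F] [Fintype F] (p : ℕ) [Fact p.Prime] [CharP F p] (D : Cfsg.Lie.ChevalleyDatum) (hD : D ∈ [Cfsg.Lie.chevG2, Cfsg.Lie.chevB2, Cfsg.Lie.chevD4, Cfsg.Lie.chevF4, Cfsg.Lie.chevE6, Cfsg.Lie.chevE7, Cfsg.Lie.chevE8]) (hq : (D = Cfsg.Lie.chevG2 ∨ D = Cfsg.Lie.chevB2) → 3 ≤ Fintype.card F) (J : Set ℕ) (hJ : ∃ i, i < D.rank ∧ i ∉ J) : IsPGroup p ↥(Cfsg.generalizedFittingSubgroup ↥(D.parabolicSubgroup F J)) := by
  classical
  set C := fullOf hD
  have hchk := chkSupp_all hD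
  have hne : nodesIn D J ≠ Finset.univ := by
    obtain ⟨i, hi, hiJ⟩ := hJ
    intro h
    exact hiJ (mem_nodesIn.1 (h.symm ▸ Finset.mem_univ (⟨i, hi⟩ : Fin D.rank)))
  rw [C.parabolic_eq J]
  rw [CfsgLib.Invol.isPGroup_generalizedFitting_iff]
  set X := C.PJ (K := F) (nodesIn D J)
  set R : Subgroup ↥X := (UR C.G (nodesIn D J) : Subgroup (GL D.Idx F)).subgroupOf X
  have hle : (UR C.G (nodesIn D J) : Subgroup (GL D.Idx F)) ≤ X :=
    (C.G.UR_le_U).trans ((le_sup_left : D.posUnipotent F ≤ D.borelSubgroup F).trans le_sup_left)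
  haveI hn : R.Normal := by
    rw [Subgroup.normal_subgroupOf_iff_le_normalizer hle]
    exact C.PJ_le_normalizer
  obtain ⟨n, -, hn'⟩ := FiniteField.card F p
  have hUp : IsPGroup p (D.posUnipotent F) := by
    refine IsPGroup.of_card (n := (n : ℕ) * (D.nroots / 2)) ?_
    rw [C.posUnipotent_card, hn', ← pow_mul]
  have hR : IsPGroup p R :=
    (hUp.to_le C.G.UR_le_U).of_equiv (Subgroup.subgroupOfEquivOfLe hle).symm
  apply CfsgLib.Invol.pClean_of_centralizer_le
  have h1 : R ≤ Cfsg.pCore p ↥X := CfsgLib.Coprime.le_pCore hR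
  refine le_trans (fun g hg => ?_) h1
  refine C.PJ_cent_le hchk (chkPairOut_all hD) hne ⟨g.2, ?_⟩
  refine Subgroup.mem_centralizer_iff.2 fun x hx => ?_
  have := Subgroup.mem_centralizer_iff.1 hg ⟨x, hle hx⟩ (h1 (show (⟨x, hle hx⟩ : ↥X) ∈ R from hx))
  exact congrArg Subtype.val this

end Cfsg.Agent.S2155
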