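import Cfsg.Statements.S1054
import Cfsg.Agent.Lib.Lie.Chev.PerfectData
-- import your own Cfsg.Agent.* helpers here

set_option autoImplicit false
open Cfsg
open CfsgLib.Lie.Chev

namespace Cfsg.Agent.S1054

/-- The Chevalley groups of types D₄, F₄, E₆, E₇, E₈ are simple over every field. -/
theorem result {F : Type*} [Field F] (D : Cfsg.Lie.ChevalleyDatum)
    (hD : D ∈ [Cfsg.Lie.chevD4, Cfsg.Lie.chevF4, Cfsg.Lie.chevE6, Cfsg.Lie.chevE7, Cfsg.Lie.chevE8]) :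
    IsSimpleGroup ↥(D.group F) ∧ ¬ IsMulCommutative ↥(D.group F) := by
  have C : Full D := fullOf (by simp only [List.mem_cons, List.not_mem_nil, or_false] at hD ⊢; tauto)
  obtain ⟨hconn, hinDer, ⟨r0⟩⟩ :
      DiagramConnected D ∧ (∀ j, InDer C.G F (C.G.simp' j)) ∧ Nonempty (Fin D.nroots) := by
    simp only [List.mem_cons, List.not_mem_nil, or_false] at hD
    rcases hD with rfl | rfl | rfl | rfl | rfl
    exacts [⟨connectedD4, inDerD4 C, ⟨⟨0, by decide +kernel⟩⟩⟩, ⟨connectedF4, inDerF4 C, ⟨⟨0, by decide +kernel⟩⟩⟩,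
      ⟨connectedE6, inDerE6 C, ⟨⟨0, by decide +kernel⟩⟩⟩, ⟨connectedE7, inDerE7 C, ⟨⟨0, by decide +kernel⟩⟩⟩,
      ⟨connectedE8, inDerE8 C, ⟨⟨0, by decide +kernel⟩⟩⟩]
  exact C.isSimpleGroup hconn (C.G.commutator_eq_top hinDer) r0

end Cfsg.Agent.S1054
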