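import Cfsg.Statements.S1060
import Cfsg.Agent.Lib.Lie.Chev.Order
import Cfsg.Agent.Lib.Lie.Chev.TorData
import Cfsg.Agent.Lib.Lie.Chev.PoinB2
import Cfsg.Agent.Lib.Lie.Chev.CommB2
-- import your own Cfsg.Agent.* helpers here

set_option autoImplicit false
open Cfsg
open CfsgLib.Lie.Chev

namespace Cfsg.Agent.S1060

/-- `gcd(2, q-1) · |B₂(q)| = q⁴ (q² - 1)(q⁴ - 1)`. -/
theorem result {F : Type*} [Field F] [Fintype F] {q : ℕ} (hq : Fintype.card F = q) : Nat.gcd 2 (q - 1) * Nat.card ↥(Cfsg.Lie.chevB2.group F) = q ^ 4 * (q ^ 2 - 1) * (q ^ 4 - 1) := by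
  subst hq
  let C : Full Cfsg.Lie.chevB2 := ⟨goodB2, fastB2, rowsOK chkRows_B2, chkComm_B2⟩
  have h := C.order_formula (K := F) kerB2 kerB2_ok
  have e : Cfsg.Lie.chevB2.rank = 2 := by decide +kernel
  rw [show ((Fintype.card F : ℤ) - 1) ^ Cfsg.Lie.chevB2.rank = ((Fintype.card F : ℤ) - 1) ^ 2 by rw [e],
    poinB2, show Cfsg.Lie.chevB2.nroots / 2 = 4 from by decide +kernel] at h
  simp only [kerB2, pow_zero, pow_one, one_mul] at h
  have hq : 1 ≤ Fintype.card F := Fintype.card_pos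
  zify [hq, Nat.one_le_pow _ _ hq] at h ⊢
  rw [h]
  ring

end Cfsg.Agent.S1060
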