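import Cfsg.Statements.S0790
import Cfsg.Agent.Lib.Orth.HypInvol

set_option autoImplicit false
open Cfsg

namespace Cfsg.Agent.S0790

/-- −1 ∈ Ω⁺_2m(q) iff q^m ≡ 1 (mod 4), for q odd and m ≥ 1 (so that in the other case SO⁺_2m(q) = 2 × Ω⁺_2m(q)). -/
theorem result {F : Type*} [Field F] [Fintype F] {q : ℕ} (hF : Fintype.card F = q) (hodd : Odd q) (m : ℕ) (hm : 1 ≤ m) : (∃ g : ↥(Cfsg.isometryGroup F (Cfsg.quadFormPlus m F)), g ∈ Cfsg.Omega F (Cfsg.quadFormPlus m F) ∧ ((g : Matrix.GeneralLinearGroup (Fin m ⊕ Fin m) F) : Matrix (Fin m ⊕ Fin m) (Fin m ⊕ Fin m) F) = -1) ↔ q ^ m % 4 = 1 := by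
  have hQ : Cfsg.Geo.IsNondegenerateQuadraticForm (Cfsg.quadFormPlus m F) :=
    CfsgLib.Perm.Trans.Quad.quadFormPlus_nd
  have h := CfsgLib.Orth.pairs_mem_omega_iff hQ hF hodd (by simp; omega)
    (Sum.map (Fin.castLE le_rfl) (Fin.castLE le_rfl)) ((Fin.castLE_injective _).sumMap (Fin.castLE_injective _))
    (fun _ : Fin m ⊕ Fin m => True)
    (fun k => iff_of_true trivial (by rcases k with j | j; exacts [⟨Sum.inl j, rfl⟩, ⟨Sum.inr j, rfl⟩]))
    (fun x => by simp [Cfsg.quadFormPlus]) (CfsgLib.Orth.gram_pairs_plus le_rfl)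
  simpa [← Matrix.diagonal_neg, Matrix.diagonal_one] using h

end Cfsg.Agent.S0790
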