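import Cfsg.Statements.S0292
import Cfsg.Agent.Lib.Orth.Centre
import Cfsg.Agent.Lib.Classical.QuadOrder
import Cfsg.Agent.Lib.Perm.Trans.QuadStd

set_option autoImplicit false
open Cfsg

namespace Cfsg.Agent.S0292

/-- 2 |PΩ_{2m+1}(q)| = q^(m^2) prod_{i=1}^{m} (q^(2i) - 1), for q odd and m at least 3 (type B_m). -/
theorem result {F : Type*} [Field F] [Fintype F] {q : ℕ} (hF : Fintype.card F = q) (hodd : Odd q) (m : ℕ) (hm : 3 ≤ m) : 2 * Nat.card (Cfsg.POmega F (Cfsg.quadFormOdd m F)) = q ^ (m ^ 2) * ∏ i ∈ Finset.range m, (q ^ (2 * (i + 1)) - 1) := by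
  classical
  have h2 : (2 : F) ≠ 0 := CfsgLib.Orth.two_ne_zero_of_odd (hF ▸ hodd)
  have hQ : Cfsg.Geo.IsNondegenerateQuadraticForm (Cfsg.quadFormOdd m F) :=
    CfsgLib.Perm.Trans.Quad.quadFormOdd_nd h2
  have hn : 5 ≤ Fintype.card (Unit ⊕ (Fin m ⊕ Fin m)) := by simp; omega
  have hex : Fintype.card F ≠ 2 ∨ Fintype.card (Unit ⊕ (Fin m ⊕ Fin m)) ≠ 4 := CfsgLib.Orth.hex_of_two h2
  have h := CfsgLib.Orth.card_pomega_mul hQ (by omega) hex
  rw [CfsgLib.Classical.card_iso_odd h2 m, hF, CfsgLib.Orth.card_sqClass_odd h2,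
    CfsgLib.Orth.card_center_omega_of_not hQ hn (by
      rintro ⟨g, hg, he⟩
      obtain ⟨-, hev⟩ := (CfsgLib.Orth.mem_omega_iff hQ (by omega) hex g).1 hg
      have hd := (CfsgLib.Orth.det_eq_one_iff hQ h2 g.2).2 hev
      rw [he, Matrix.det_neg, Matrix.det_one, mul_one] at hd
      rw [show Fintype.card (Unit ⊕ (Fin m ⊕ Fin m)) = 2 * m + 1 by simp; omega, pow_succ, pow_mul] at hd
      norm_num at hd
      exact h2 (by linear_combination -hd)), mul_assoc 2] at h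
  generalize q ^ (m ^ 2) * ∏ i ∈ Finset.range m, (q ^ (2 * (i + 1)) - 1) = B at h ⊢
  omega

end Cfsg.Agent.S0292
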