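import Cfsg.Statements.S0294
import Cfsg.Agent.Lib.Orth.Centre
import Cfsg.Agent.Lib.Classical.QuadOrder
import Cfsg.Agent.Lib.Perm.Trans.QuadStd
import Cfsg.Agent.S0791

set_option autoImplicit false
open Cfsg

namespace Cfsg.Agent.S0294

/-- gcd(4, q^m + 1) |PΩ^-_{2m}(q)| = q^(m(m-1)) (q^m + 1) prod_{i=1}^{m-1} (q^(2i) - 1), m at least 4 (type ²D_m). -/
theorem result {F : Type*} [Field F] [Fintype F] {q : ℕ} (hF : Fintype.card F = q) (m : ℕ) (hm : 4 ≤ m) (a b : F) (hab : ∀ z₁ z₂ : F, z₁ ^ 2 + a * z₁ * z₂ + b * z₂ ^ 2 = 0 → z₁ = 0 ∧ z₂ = 0) : Nat.gcd 4 (q ^ m + 1) * Nat.card (Cfsg.POmega F (Cfsg.quadFormMinus (m - 1) F a b)) = q ^ (m * (m - 1)) * (q ^ m + 1) * ∏ i ∈ Finset.range (m - 1), (q ^ (2 * (i + 1)) - 1) := by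
  classical
  obtain ⟨k, rfl⟩ : ∃ k, m = k + 1 := ⟨m - 1, by omega⟩
  simp only [Nat.add_sub_cancel] at *
  have hQ : Cfsg.Geo.IsNondegenerateQuadraticForm (Cfsg.quadFormMinus k F a b) :=
    CfsgLib.Perm.Trans.Quad.quadFormMinus_nd a b hab
  have hn : 5 ≤ Fintype.card ((Fin k ⊕ Fin k) ⊕ Fin 2) := by simp; omega
  have hex : Fintype.card F ≠ 2 ∨ Fintype.card ((Fin k ⊕ Fin k) ⊕ Fin 2) ≠ 4 := Or.inr (by omega)
  have h := CfsgLib.Orth.card_pomega_mul hQ (by omega) hex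
  rw [CfsgLib.Classical.card_iso_minus hab k, hF] at h
  change Nat.gcd 4 (q ^ (k + 1) + 1) * Nat.card (Cfsg.POmega F (Cfsg.quadFormMinus k F a b)) =
    q ^ ((k + 1) * k) * (q ^ (k + 1) + 1) * ∏ i ∈ Finset.range k, (q ^ (2 * (i + 1)) - 1)
  generalize q ^ ((k + 1) * k) = A at h ⊢
  generalize hB : ∏ i ∈ Finset.range k, (q ^ (2 * (i + 1)) - 1) = B at h ⊢
  rw [mul_assoc 2, mul_assoc 2] at h
  rcases Nat.even_or_odd q with he | ho
  · have h2 : (2 : F) = 0 := CfsgLib.Orth.two_eq_zero_of_even (hF ▸ he)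
    rw [CfsgLib.Orth.card_center_omega_two hQ hn h2, CfsgLib.Orth.card_sqClass_two h2] at h
    rw [(CfsgLib.Orth.gcd_four_facts).2.2 (by
      have := he.pow_of_ne_zero (n := k + 1) (by omega)
      rw [Nat.even_iff] at this
      omega)]
    omega
  · have h2 : (2 : F) ≠ 0 := CfsgLib.Orth.two_ne_zero_of_odd (hF ▸ ho)
    have hm1 := Cfsg.Agent.S0791.result hF ho (k + 1) (by omega) a b hab
    rw [Nat.add_sub_cancel] at hm1
    have hodd : Odd (q ^ (k + 1)) := ho.pow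
    rw [Nat.odd_iff] at hodd
    rw [CfsgLib.Orth.card_sqClass_odd h2] at h
    by_cases h4 : q ^ (k + 1) % 4 = 3
    · rw [CfsgLib.Orth.card_center_omega_of_mem hQ hn h2 (hm1.2 h4)] at h
      rw [(CfsgLib.Orth.gcd_four_facts).1 (by omega)]
      omega
    · rw [CfsgLib.Orth.card_center_omega_of_not hQ hn (fun h' => h4 (hm1.1 h'))] at h
      rw [(CfsgLib.Orth.gcd_four_facts).2.1 (by omega)]
      omega

end Cfsg.Agent.S0294
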