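import Cfsg.Statements.S1065
import Cfsg.Agent.Lib.Lie.Chev.Order
import Cfsg.Agent.Lib.Lie.Chev.TorData
import Cfsg.Agent.Lib.Lie.Chev.PoinE8
import Cfsg.Agent.Lib.Lie.Chev.CommE8
-- import your own Cfsg.Agent.* helpers here

set_option autoImplicit false
open Cfsg
open CfsgLib.Lie.Chev

namespace Cfsg.Agent.S1065

/-- `|E₈(q)| = q¹²⁰ ∏_{d ∈ {2,8,12,14,18,20,24,30}} (q^d - 1)`. -/
theorem result {F : Type*} [Field F] [Fintype F] {q : ℕ} (hq : Fintype.card F = q) : Nat.card ↥(Cfsg.Lie.chevE8.group F) = q ^ 120 * (q ^ 2 - 1) * (q ^ 8 - 1) * (q ^ 12 - 1) * (q ^ 14 - 1) * (q ^ 18 - 1) * (q ^ 20 - 1) * (q ^ 24 - 1) * (q ^ 30 - 1) := by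
  subst hq
  let C : Full Cfsg.Lie.chevE8 := ⟨goodE8, fastE8, rowsOK chkRows_E8, chkComm_E8⟩
  have h := C.order_formula (K := F) kerE8 kerE8_ok
  have e : Cfsg.Lie.chevE8.rank = 8 := by decide +kernel
  rw [show ((Fintype.card F : ℤ) - 1) ^ Cfsg.Lie.chevE8.rank = ((Fintype.card F : ℤ) - 1) ^ 8 by rw [e],
    poinE8, show Cfsg.Lie.chevE8.nroots / 2 = 120 from by decide +kernel] at h
  simp only [kerE8, pow_zero, pow_one, one_mul] at h
  have hq : 1 ≤ Fintype.card F := Fintype.card_pos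
  zify [hq, Nat.one_le_pow _ _ hq] at h ⊢
  rw [h]
  ring

end Cfsg.Agent.S1065
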