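import Cfsg.Statements.S1169
import Cfsg.Agent.Lib.Goldschmidt.Main
import Cfsg.Agent.Lib.Goldschmidt.Reduce
import Cfsg.Agent.Lib.Goldschmidt.Rank2.Closed
import Cfsg.Agent.Lib.Goldschmidt.Phi.Main
import Cfsg.Agent.Lib.Goldschmidt.Split.Main
import Cfsg.Agent.Lib.Goldschmidt.Comp.Main
import Cfsg.Agent.Lib.Goldschmidt.RankOne.Main
import Cfsg.Agent.Lib.Walter.Main
-- import your own Cfsg.Agent.* helpers here

set_option autoImplicit false
open Cfsg

namespace Cfsg.Agent.S1169

/-- Goldschmidt's Theorem on strongly closed abelian 2-subgroups: let G be a finite simple group and S a Sylow 2-subgroup of G containing a nontrivial commutative subgroup A that is strongly closed in S. Then either S is commutative or G possesses a strongly embedded subgroup. -/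
theorem result {G : Type*} [Group G] [Finite G] [IsSimpleGroup G] (S : Sylow 2 G) (A : Subgroup G) (hA : A ≠ ⊥) (hAcomm : IsMulCommutative A) (hsc : Cfsg.IsStronglyClosed A (S : Subgroup G)) : IsMulCommutative (S : Subgroup G) ∨ ∃ H : Subgroup G, Cfsg.IsStronglyEmbedded H := by
  exact CfsgLib.Gold.main_of CfsgLib.Walter.classified CfsgLib.Gold.reduceStmt CfsgLib.Gold.Rank2.caseTwoStmt
    (CfsgLib.Gold.Phi.casePhiStmt_of CfsgLib.Gold.compFactsStmt CfsgLib.Gold.pairFactsStmt CfsgLib.Gold.Phi.rankOneFacts)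
    (CfsgLib.Gold.Split.caseSplit_of CfsgLib.Gold.compFactsStmt CfsgLib.Gold.pairFactsStmt CfsgLib.Walter.classified)
    G S A hA hAcomm hsc

end Cfsg.Agent.S1169
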