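import Cfsg.Statements.S2940
import Cfsg.Agent.Lib.Fusion.Sylow

set_option autoImplicit false
open Cfsg

namespace Cfsg.Agent.S2940

/-- Let S be a Sylow p-subgroup of the finite group G and G₁, G₂ subgroups containing S with G = G₁G₂. Then for every g ∈ G there is a Sylow p-subgroup U of G with S ∩ S^g ≤ U ≤ G₁ ∩ G₂^g (conjugates taken as X^g = g⁻¹Xg). -/
theorem result {G : Type*} [Group G] [Finite G] {p : ℕ} [Fact p.Prime] (S : Sylow p G) (G₁ G₂ : Subgroup G) (h1 : (S : Subgroup G) ≤ G₁) (h2 : (S : Subgroup G) ≤ G₂) (hfact : ∀ g : G, ∃ g₁ ∈ G₁, ∃ g₂ ∈ G₂, g = g₁ * g₂) (g : G) : ∃ U : Sylow p G, (S : Subgroup G) ⊓ Cfsg.subgroupConjRight g (S : Subgroup G) ≤ (U : Subgroup G) ∧ (U : Subgroup G) ≤ G₁ ⊓ Cfsg.subgroupConjRight g G₂ := by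
  obtain ⟨a, ha, b, hb, hab⟩ := hfact g⁻¹
  set K := G₁ ⊓ Cfsg.subgroupConjRight g G₂ with hK
  have e : Cfsg.subgroupConjRight g G₂ = CfsgLib.Fusion.conjBy a G₂ := by
    show CfsgLib.Fusion.conjBy g⁻¹ G₂ = _
    rw [hab, ← CfsgLib.Fusion.conjBy_conjBy, CfsgLib.Fusion.conjBy_eq_iff.2 (Subgroup.le_normalizer hb)]
  set T := CfsgLib.Fusion.conjBy a (S : Subgroup G) with hT
  have hTK : T ≤ K := by
    refine le_inf ?_ (e ▸ CfsgLib.Fusion.conjBy_mono h2)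
    exact CfsgLib.Fusion.conjBy_le_iff.2 fun x hx => mul_mem (mul_mem ha (h1 hx)) (inv_mem ha)
  have hTp : IsPGroup p T := CfsgLib.Fusion.isPGroup_conjBy a S.2
  have hi : ¬ p ∣ T.relIndex K := by
    intro hd
    have hidx : T.index = (S : Subgroup G).index := by
      refine Nat.eq_of_mul_eq_mul_left (Nat.card_pos (α := T)) ?_
      rw [T.card_mul_index, hT, CfsgLib.Fusion.card_conjBy, Subgroup.card_mul_index]
    exact S.not_dvd_index (hidx ▸ hd.trans (Subgroup.relIndex_dvd_index_of_le hTK))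
  have hR : (S : Subgroup G) ⊓ Cfsg.subgroupConjRight g (S : Subgroup G) ≤ K :=
    inf_le_inf h1 (Subgroup.map_mono h2)
  obtain ⟨h, hh, hle⟩ := CfsgLib.Fusion.exists_conj_le_of_not_dvd_relIndex hTp hTK hi (S.2.to_le inf_le_left) hR
  refine ⟨(h⁻¹ * a) • S, ?_, ?_⟩
  · show _ ≤ CfsgLib.Fusion.conjBy (h⁻¹ * a) (S : Subgroup G)
    rw [← CfsgLib.Fusion.conjBy_conjBy]
    have h3 := CfsgLib.Fusion.conjBy_mono (g := h⁻¹) hle
    rwa [CfsgLib.Fusion.conjBy_inv_conjBy] at h3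
  · show CfsgLib.Fusion.conjBy (h⁻¹ * a) (S : Subgroup G) ≤ K
    rw [← CfsgLib.Fusion.conjBy_conjBy]
    exact CfsgLib.Fusion.conjBy_le_iff.2 fun x hx => mul_mem (mul_mem (inv_mem hh) (hTK hx)) (inv_mem (inv_mem hh))

end Cfsg.Agent.S2940
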