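import Cfsg.Statements.S2905
import Cfsg.Agent.Lib.LocalStructure.Minimal

set_option autoImplicit false
open Cfsg

namespace Cfsg.Agent.S2905

/-- Let P be a finite p-minimal group (a Sylow p-subgroup S is not normal and lies in a unique maximal subgroup M of P) and let F be the normal core of M. Then: every subnormal subgroup N of P contained in M satisfies N ∩ S ≤ O_p(P); if O^p(P) has a normal Sylow p-subgroup then the order of P has at most two prime divisors; every normal subgroup N of P either contains O^p(P) or is contained in F; and O^p(P)F ⧸ F is a minimal normal subgroup of P ⧸ F. -/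
theorem result {P : Type*} [Group P] [Finite P] {p : ℕ} [Fact p.Prime] (hP : Cfsg.IsPMinimal p P) (S : Sylow p P) (M : Subgroup P) (hM : IsCoatom M) (hSM : (S : Subgroup P) ≤ M) [hF : M.normalCore.Normal] : (∀ N : Subgroup P, N.IsSubnormal → N ≤ M → N ⊓ (S : Subgroup P) ≤ Cfsg.pCore p P) ∧ ((∀ T : Sylow p ↥(Cfsg.pResidual p P), (T : Subgroup ↥(Cfsg.pResidual p P)).Normal) → (Nat.card P).primeFactors.card ≤ 2) ∧ (∀ N : Subgroup P, N.Normal → Cfsg.pResidual p P ≤ N ∨ N ≤ M.normalCore) ∧ (∀ N : Subgroup P, N.Normal → M.normalCore ≤ N → N ≤ Cfsg.pResidual p P ⊔ M.normalCore → N = M.normalCore ∨ N = Cfsg.pResidual p P ⊔ M.normalCore) ∧ M.normalCore < Cfsg.pResidual p P ⊔ M.normalCore := by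
  have hu := (hP S).2
  have h := CfsgLib.LS.onlyMax_of_unique ⟨hM, hSM⟩ hu
  haveI hRn := CfsgLib.Fusion.pResidual_normal (G := P) (p := p)
  set R := Cfsg.pResidual p P with hR
  have hc : ∀ N : Subgroup P, N.Normal → R ≤ N ∨ N ≤ M.normalCore := by
    intro N hN
    haveI := hN
    by_cases htop : N ⊔ (S : Subgroup P) = ⊤
    · exact Or.inl (CfsgLib.LS.pResidual_le_of_sup_sylow S N htop)
    · exact Or.inr (Subgroup.normal_le_normalCore.2
        (le_sup_left.trans (h.2.2 _ le_sup_right htop)))
  refine ⟨fun N hN hle => CfsgLib.LS.subnormal_inf_sylow_le_pCore S h hN hle, fun hcl => ?_, hc,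
    fun N hN h1 h2 => (hc N hN).elim
      (fun hRN => Or.inr (le_antisymm h2 (sup_le hRN h1))) (fun hle => Or.inl (le_antisymm hle h1)),
    lt_of_le_of_ne le_sup_right fun e => hM.1 (eq_top_iff.2 ?_)⟩
  · by_contra hnum
    have hall : ∀ q : ℕ, q.Prime → q ≠ p → ∀ n : ℕ, q ^ n ∣ Nat.card P → q ^ n ∣ Nat.card M := by
      intro q hq hqp n hn
      haveI := Fact.mk hq
      obtain ⟨Rp⟩ : Nonempty (Sylow p R) := inferInstance
      obtain ⟨Q⟩ : Nonempty (Sylow q P) := inferInstance
      have hQR : (Q : Subgroup P) ≤ R := fun x hx => by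
        obtain ⟨k, hk⟩ := Q.2 ⟨x, hx⟩
        exact CfsgLib.Fusion.mem_pResidual (Nat.Coprime.coprime_dvd_left
          (orderOf_dvd_of_pow_eq_one (congrArg Subtype.val hk))
          (Nat.Coprime.pow_left k ((Nat.coprime_primes hq (Fact.out : p.Prime)).2 hqp)))
      haveI : (Rp : Subgroup R).Normal := hcl Rp
      haveI : (Rp : Subgroup R).Characteristic := Sylow.characteristic_of_normal Rp inferInstance
      set Rp' := (Rp : Subgroup R).map R.subtype with hRp'
      haveI : Rp'.Normal := ConjAct.normal_of_characteristic_of_normal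
      set X := Rp' ⊔ (Q : Subgroup P) with hX
      have hXR : X ≤ R := sup_le (Subgroup.map_subtype_le _) hQR
      -- the normalizer of `X` contains a Sylow subgroup
      have hfr : Subgroup.normalizer (X : Set P) ⊔ R = ⊤ := by
        rw [eq_top_iff, ← (Q.subtype hQR).normalizer_sup_eq_top]
        refine sup_le_sup_right ?_ _
        rw [Sylow.coe_subtype, Subgroup.map_subgroupOf_eq_of_le hQR]
        exact CfsgLib.Coprime.sup_le_normalizer
          (le_top.trans (Subgroup.normalizer_eq_top_iff.2 inferInstance).ge) le_rfl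
      have hidx : ¬ p ∣ (Subgroup.normalizer (X : Set P)).index := by
        intro hd
        refine Rp.not_dvd_index (hd.trans ?_)
        set N₁ := Subgroup.normalizer (X : Set P) with hN₁
        have e : N₁.index = N₁.relIndex R := by
          have h1 := Subgroup.relIndex_mul_index (inf_le_left : N₁ ⊓ R ≤ N₁)
          have h2 := Subgroup.relIndex_mul_index (inf_le_right : N₁ ⊓ R ≤ R)
          have h3 : R.relIndex N₁ = R.index := by
            rw [← Subgroup.relIndex_sup_right (H := N₁) (K := R), hfr, Subgroup.relIndex_top_right]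
          rw [Subgroup.inf_relIndex_left, h3] at h1
          rw [Subgroup.inf_relIndex_right, ← h1, mul_comm] at h2
          exact (Nat.eq_of_mul_eq_mul_left (Nat.pos_of_ne_zero R.index_ne_zero_of_finite) h2).symm
        rw [e]
        refine Subgroup.index_dvd_of_le fun x hx => ?_
        exact Subgroup.le_normalizer (Subgroup.mem_sup_left (Subgroup.mem_map_of_mem R.subtype hx))
      obtain ⟨g, hg⟩ := CfsgLib.LS.sylow_le_of_not_dvd hidx S
      set X' := CfsgLib.Coprime.conjBy g⁻¹ X with hX'
      have hSX : (S : Subgroup P) ≤ Subgroup.normalizer (X' : Set P) := by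
        intro s hs
        have h1 := hg (CfsgLib.Coprime.conj_mem_conjBy (g := g) hs)
        refine CfsgLib.Coprime.conjBy_eq_self_iff.1 ?_
        have h2 := congrArg (CfsgLib.Coprime.conjBy g⁻¹) (CfsgLib.Coprime.conjBy_eq_self_iff.2 h1)
        rw [CfsgLib.Coprime.conjBy_conjBy] at h2
        rw [hX', CfsgLib.Coprime.conjBy_conjBy]
        rwa [show g⁻¹ * (g * s * g⁻¹) = s * g⁻¹ by group] at h2
      have hXM : X' ⊔ (S : Subgroup P) ≠ ⊤ := by
        intro htop
        apply hnum
        have hd : Nat.card P ∣ Nat.card X' * Nat.card (S : Subgroup P) := by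
          have := CfsgLib.Coprime.card_sup_dvd_of_le_normalizer hSX
          rw [sup_comm, htop, Subgroup.card_top, mul_comm] at this
          exact this
        have hsub : (Nat.card P).primeFactors ⊆ ({p, q} : Finset ℕ) := by
          intro r hr
          obtain ⟨hrp, hrd, -⟩ := Nat.mem_primeFactors.1 hr
          obtain ⟨i, hi⟩ := S.2.exists_card_eq
          obtain ⟨j, hj⟩ := (Rp.2.map R.subtype).exists_card_eq
          obtain ⟨l, hl⟩ := Q.2.exists_card_eq
          have hXc : Nat.card X' ∣ p ^ j * q ^ l := by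
            rw [hX', CfsgLib.Coprime.card_conjBy, ← hj, ← hl, mul_comm]
            have := CfsgLib.Coprime.card_sup_dvd_of_le_normalizer (H := (Q : Subgroup P)) (N := Rp')
              (le_top.trans (Subgroup.normalizer_eq_top_iff.2 inferInstance).ge)
            rw [sup_comm] at this
            exact this
          have hdvd := hrd.trans (hd.trans (Nat.mul_dvd_mul hXc (dvd_of_eq hi)))
          simp only [Finset.mem_insert, Finset.mem_singleton]
          rcases (Nat.Prime.dvd_mul hrp).1 hdvd with h' | h'
          · rcases (Nat.Prime.dvd_mul hrp).1 h' with h'' | h''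
            · exact Or.inl ((Nat.prime_dvd_prime_iff_eq hrp (Fact.out : p.Prime)).1
                (hrp.dvd_of_dvd_pow h''))
            · exact Or.inr ((Nat.prime_dvd_prime_iff_eq hrp hq).1 (hrp.dvd_of_dvd_pow h''))
          · exact Or.inl ((Nat.prime_dvd_prime_iff_eq hrp (Fact.out : p.Prime)).1
              (hrp.dvd_of_dvd_pow h'))
        exact (Finset.card_le_card hsub).trans Finset.card_le_two
      have hle := le_sup_left.trans (h.2.2 _ le_sup_right hXM)
      refine ((Nat.Prime.pow_dvd_iff_le_factorization hq Nat.card_pos.ne').1 hn |> fun hle' =>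
        (pow_dvd_pow q hle').trans ?_)
      rw [← Q.card_eq_multiplicity]
      refine (Subgroup.card_dvd_of_le (le_sup_right : _ ≤ X)).trans ?_
      rw [← CfsgLib.Coprime.card_conjBy g⁻¹ X]
      exact Subgroup.card_dvd_of_le hle
    refine hM.1 (Subgroup.eq_top_of_le_card M (Nat.le_of_dvd Nat.card_pos
      ((Nat.dvd_iff_prime_pow_dvd_dvd _ _).2 fun q k hq hd => ?_)))
    by_cases hqp : q = p
    · subst hqp
      refine ((pow_dvd_pow q ((Nat.Prime.pow_dvd_iff_le_factorization hq Nat.card_pos.ne').1 hd)).trans ?_)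
      rw [← S.card_eq_multiplicity]
      exact Subgroup.card_dvd_of_le hSM
    · exact hall q hq hqp k hd
  · rw [← CfsgLib.Fusion.pResidual_sup_sylow S]
    exact sup_le ((le_sup_left.trans e.ge).trans (Subgroup.normalCore_le M)) hSM

end Cfsg.Agent.S2905
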