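import Cfsg.Statements.S3012


set_option autoImplicit false
open Cfsg

namespace Cfsg.Agent.S3012

/-- Let G be a finite group, V a nontrivial elementary abelian 2-subgroup of G satisfying the Sidki pair condition (every odd-order element inverted by an element of V commutes with a nontrivial element of V), and K a normal subgroup of G with V ∩ K = 1. Then the image of V in G/K satisfies the Sidki pair condition in G/K. -/
theorem result {G : Type*} [Group G] [Finite G] (V K : Subgroup G) [K.Normal] (hV : Cfsg.IsElementaryAbelian 2 V) (hV1 : V ≠ ⊥) (hS : Cfsg.IsSidkiPair V) (hVK : V ⊓ K = ⊥) : Cfsg.IsSidkiPair (V.map (QuotientGroup.mk' K)) := by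
  intro h v hv hodd hinv
  obtain ⟨v, hvV, rfl⟩ := hv
  set f := QuotientGroup.mk' K with hf
  have hne : ∀ w ∈ V, w ≠ 1 → f w ≠ 1 := fun w hw hw1 e => hw1 (by
    have : w ∈ V ⊓ K := ⟨hw, (QuotientGroup.eq_one_iff w).1 e⟩
    rwa [hVK, Subgroup.mem_bot] at this)
  obtain ⟨j, hj⟩ := hodd
  set k := h ^ (j + 1) with hk
  have hk2 : k * k = h := by
    rw [hk, ← pow_add, show j + 1 + (j + 1) = orderOf h + 1 by omega, pow_succ, pow_orderOf_eq_one, one_mul]
  obtain ⟨k', hk'⟩ := QuotientGroup.mk'_surjective K k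
  have hv2 : v * v = 1 := by rw [← pow_two]; exact hV.2 v hvV
  set r := v * (k' * v * k'⁻¹) with hr
  have hvv : v⁻¹ = v := inv_eq_of_mul_eq_one_right hv2
  have hrinv : v * r * v⁻¹ = r⁻¹ := by
    rw [hr, hvv]
    calc v * (v * (k' * v * k'⁻¹)) * v = v * v * (k' * v * k'⁻¹) * v := by group
      _ = k' * v⁻¹ * k'⁻¹ * v⁻¹ := by rw [hv2, hvv, one_mul]
      _ = (v * (k' * v * k'⁻¹))⁻¹ := by group
  have hfr : f r = h⁻¹ := by
    have hkinv : f v * k * (f v)⁻¹ = k⁻¹ := by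
      rw [hk, ← conj_pow, hinv, inv_pow]
    have hfv : (f v)⁻¹ = f v := by rw [← map_inv, hvv]
    rw [hr, map_mul, map_mul, map_mul, map_inv, hk']
    calc f v * (k * f v * k⁻¹) = f v * k * (f v)⁻¹ * k⁻¹ := by rw [hfv]; group
      _ = k⁻¹ * k⁻¹ := by rw [hkinv]
      _ = (k * k)⁻¹ := (mul_inv_rev k k).symm
      _ = h⁻¹ := by rw [hk2]
  obtain ⟨a, m, hm, ham⟩ := Nat.exists_eq_two_pow_mul_odd (orderOf_pos r).ne'
  set r' := r ^ 2 ^ a with hr'
  have ho : orderOf r' = m := by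
    rw [hr', orderOf_pow_of_dvd (by positivity) ⟨m, ham⟩, ham, Nat.mul_div_cancel_left m (by positivity)]
  obtain ⟨w, hw, hw1, hwc⟩ := hS r' v hvV (ho.symm ▸ hm) (by rw [hr', ← conj_pow, hrinv, inv_pow])
  refine ⟨f w, ⟨w, hw, rfl⟩, hne w hw hw1, ?_⟩
  have hc : Commute (f w) (f r') := by
    show f w * f r' = f r' * f w
    rw [← map_mul, hwc, map_mul]
  rw [hr', map_pow, hfr, inv_pow] at hc
  have hc2 : Commute (f w) (h ^ 2 ^ a) := Commute.inv_right_iff.1 hc
  have hcop : (2 ^ a).Coprime (orderOf h) := Nat.Coprime.pow_left a (Nat.coprime_two_left.2 ⟨j, hj⟩)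
  obtain ⟨u, hu⟩ := exists_pow_eq_self_of_coprime hcop
  rw [← hu]
  exact (hc2.pow_right u).eq

end Cfsg.Agent.S3012
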