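import Mathlib
import Cfsg.Statements.S0251
import Cfsg.Agent.Lib.Classical.ProjLine

set_option autoImplicit false
open Cfsg

namespace Cfsg.Agent.S0251

/-- PSL_2(3) is isomorphic to A_4. -/
theorem result {F : Type*} [Field F] [Fintype F] (hF : Fintype.card F = 3) : Nonempty (Matrix.ProjectiveSpecialLinearGroup (Fin 2) F ≃* alternatingGroup (Fin 4)) := by
  obtain ⟨f, hf⟩ := CfsgLib.Classical.exists_perm_embedding (F := F) (N := 4) (by rw [hF])
  have h := CfsgLib.Classical.card_psl2 (F := F)
  rw [hF] at h
  norm_num at h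
  exact CfsgLib.Classical.mulEquiv_alternating_of_card f hf (by rw [show Nat.factorial 4 = 24 from rfl]; omega)

end Cfsg.Agent.S0251
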