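import Cfsg.Statements.S0799
-- import your own Cfsg.Agent.* helpers here
import Mathlib
import Cfsg.Agent.Lib.Perm.Dickson.Bridge

set_option autoImplicit false
set_option linter.all false
open Cfsg

namespace Cfsg.Agent.S0799

open CfsgLib.Perm.Dickson

/-- Dickson's classification of the subgroups of PSL_2(q), q a power of the prime p, d = gcd(2, q − 1): every subgroup H is (a) cyclic or dihedral with k dividing (q+1)/d or (q−1)/d (cyclic of order k, or dihedral of order 2k), (b) isomorphic to a subgroup of the normaliser of a Sylow p-subgroup, (c) isomorphic to A_4, S_4 or A_5, or (d) isomorphic to PSL_2(K) or PGL_2(K) for a finite field K with |K|^m = q. -/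
theorem result {F : Type*} [Field F] [Fintype F] {q : ℕ} (hF : Fintype.card F = q) (p : ℕ) [Fact p.Prime] [CharP F p] (H : Subgroup (Matrix.ProjectiveSpecialLinearGroup (Fin 2) F)) : (∃ k : ℕ, (k ∣ (q + 1) / Nat.gcd 2 (q - 1) ∨ k ∣ (q - 1) / Nat.gcd 2 (q - 1)) ∧ ((IsCyclic H ∧ Nat.card H = k) ∨ Nonempty (H ≃* DihedralGroup k))) ∨ (∃ (P : Sylow p (Matrix.ProjectiveSpecialLinearGroup (Fin 2) F)) (K : Subgroup (Matrix.ProjectiveSpecialLinearGroup (Fin 2) F)), K ≤ Subgroup.normalizer ((P : Subgroup (Matrix.ProjectiveSpecialLinearGroup (Fin 2) F)) : Set (Matrix.ProjectiveSpecialLinearGroup (Fin 2) F)) ∧ Nonempty (H ≃* K)) ∨ Nonempty (H ≃* alternatingGroup (Fin 4)) ∨ Nonempty (H ≃* Equiv.Perm (Fin 4)) ∨ Nonempty (H ≃* alternatingGroup (Fin 5)) ∨ (∃ (K : Type) (_ : Field K) (_ : Fintype K) (m : ℕ), Fintype.card K ^ m = q ∧ (Nonempty (H ≃* Matrix.ProjectiveSpecialLinearGroup (Fin 2) K) ∨ Nonempty (H ≃* Matrix.ProjGenLinGroup (Fin 2) K))) := by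
  classical
  haveI := finite_G2 (F := F)
  have hq : Nat.card F = q := by rw [Nat.card_eq_fintype_card, hF]
  have hd : ∀ {m N : ℕ}, Nat.gcd 2 (Nat.card F - 1) * m = N → m = N / Nat.gcd 2 (q - 1) := by
    intro m N h
    rw [hq] at h
    exact (Nat.div_eq_of_eq_mul_right (Nat.gcd_pos_of_pos_left _ (by norm_num)) h.symm).symm
  have e : H ≃* up H := upEquiv H
  -- a subgroup of a torus intersected with `PSL(2)`
  have htor : ∀ {a b : P2 (Kc F)}, GoodPair a b → ∀ {T : Subgroup (G2 F)}, T ≤ pairFix a b → T ≤ psl F →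
      Nat.card T ∣ (q + 1) / Nat.gcd 2 (q - 1) ∨ Nat.card T ∣ (q - 1) / Nat.gcd 2 (q - 1) := by
    intro a b hg T h1 h2
    have hdvd := Subgroup.card_dvd_of_le (le_inf h1 h2)
    have hc := card_pairFix_psl hg
    rcases card_pairFix hg with ⟨-, hn⟩ | ⟨-, hn⟩ <;> rw [hn] at hc <;> rw [hd hc, hq] at hdvd
    · exact Or.inr hdvd
    · exact Or.inl hdvd
  cases classify_finite p (up H) with
  | borel x hx =>
    right; left
    obtain ⟨P, hP⟩ := exists_sylow_normalizer p hx
    exact ⟨P, H, hP, ⟨MulEquiv.refl H⟩⟩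
  | cyclic a b hg hle hne =>
    left
    refine ⟨Nat.card H, ?_, Or.inl ⟨?_, rfl⟩⟩
    · rw [← card_up H]; exact htor hg hle (up_le H)
    · haveI := isCyclic_pairFix (F := F) hg.1
      haveI : IsCyclic ((up H).subgroupOf (pairFix a b)) := inferInstance
      haveI : IsCyclic (up H) := (Subgroup.subgroupOfEquivOfLe hle).isCyclic.1 inferInstance
      exact e.isCyclic.2 inferInstance
  | dihedral a b hg hle hn hC =>
    left
    obtain ⟨-, ⟨e'⟩⟩ := dihedral_of_le hg.1 (isCyclic_pairFix hg.1) hle hn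
    exact ⟨Nat.card (up H ⊓ pairFix a b : Subgroup (G2 F)), htor hg inf_le_right (inf_le_left.trans (up_le H)),
      Or.inr ⟨e.trans e'⟩⟩
  | a4 hN h2 h3 h => exact Or.inr (Or.inr (Or.inl ⟨e.trans h.some⟩))
  | s4 hN h2 h3 h => exact Or.inr (Or.inr (Or.inr (Or.inl ⟨e.trans h.some⟩)))
  | a5 hN h2 h5 h => exact Or.inr (Or.inr (Or.inr (Or.inr (Or.inl ⟨e.trans h.some⟩))))
  | subfield σ F1 h3 h =>
    refine Or.inr (Or.inr (Or.inr (Or.inr (Or.inr ?_))))
    obtain ⟨m, -, hm⟩ := exists_card_pow F1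
    haveI : CharP F1 p := (RingHom.charP_iff_charP F1.subtype p).2 inferInstance
    obtain ⟨a, ha, hcard⟩ := card_eq_pow (F := F1) p
    haveI : Fintype (GaloisField p a) := Fintype.ofFinite _
    haveI : Fintype F1 := Fintype.ofFinite _
    have hG : Nat.card (GaloisField p a) = p ^ a := GaloisField.card p a (by omega)
    let i : F1 ≃+* GaloisField p a := FiniteField.ringEquivOfCardEq (by
      rw [← Nat.card_eq_fintype_card, ← Nat.card_eq_fintype_card, hG, hcard])
    refine ⟨GaloisField p a, inferInstance, inferInstance, m, by rw [← Nat.card_eq_fintype_card, hG, ← hcard, hm, hq], ?_⟩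
    rcases h with h | ⟨-, h⟩
    · exact Or.inr ⟨(e.trans (conjEquiv σ _)).trans ((MulEquiv.subgroupCongr h).trans (pglSubEquiv F1 i))⟩
    · exact Or.inl ⟨(e.trans (conjEquiv σ _)).trans ((MulEquiv.subgroupCongr h).trans (pslSubEquiv F1 i))⟩

end Cfsg.Agent.S0799
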