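import Cfsg.Statements.S0330
import Cfsg.Agent.Lib.Lie.Suz.Group
-- import your own Cfsg.Agent.* helpers here

set_option autoImplicit false
open Cfsg
open CfsgLib.Lie

namespace Cfsg.Agent.S0330

/-- A Sylow 2-subgroup `P` of the Suzuki group (field with `q = 2^(2m+1)` elements, `m ≥ 1`) has order `q²` and
exponent `4`; its centre coincides with its commutator subgroup and has order `q`. -/
theorem result {F : Type*} [Field F] [Fintype F] {m : ℕ} (hm : 1 ≤ m)
    (hF : Fintype.card F = 2 ^ (2 * m + 1)) (P : Sylow 2 (Cfsg.Sz F m)) :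
    Nat.card P = (2 ^ (2 * m + 1)) ^ 2 ∧ Monoid.exponent P = 4 ∧
      Subgroup.center P = commutator P ∧ Nat.card (Subgroup.center P) = 2 ^ (2 * m + 1) := by
  classical
  haveI : Fact (Nat.Prime 2) := ⟨Nat.prime_two⟩
  have hS := Suz.isSuzField hF
  have h2 : ∀ a a' b b' : F, Suz.TS hF a b * Suz.TS hF a' b' =
      Suz.TS hF (a + a') (b + b' + Suz.th m a * a') := fun a a' b b' => Subtype.ext (Suz.T_mul hS a b a' b')
  have hmem : ∀ x : (Suz.U hF : Subgroup (Cfsg.Sz F m)), ∃ a b, (x : Cfsg.Sz F m) = Suz.TS hF a b :=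
    fun x => by obtain ⟨a, b, h⟩ := x.2; exact ⟨a, b, Subtype.ext h⟩
  set U : Subgroup (Cfsg.Sz F m) := Suz.U hF with hU
  let u : F → F → U := fun a b => ⟨Suz.TS hF a b, Suz.TS_mem_U hF a b⟩
  have hu : ∀ x : U, ∃ a b, x = u a b := fun x => by
    obtain ⟨a, b, h⟩ := hmem x; exact ⟨a, b, Subtype.ext h⟩
  have umul : ∀ a a' b b' : F, u a b * u a' b' = u (a + a') (b + b' + Suz.th m a * a') :=
    fun a a' b b' => Subtype.ext (h2 a a' b b')
  have uinj : ∀ a a' b b' : F, u a b = u a' b' → a = a' ∧ b = b' := fun a a' b b' h =>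
    Prod.ext_iff.1 (Suz.TS_injective hF (a₁ := (a, b)) (a₂ := (a', b')) (congrArg Subtype.val h))
  have u1 : u 0 0 = 1 := Subtype.ext (Subtype.ext Suz.T_zero)
  have hz : ∀ x : U, x ∈ Subgroup.center U ↔ ∃ b, x = u 0 b := by
    intro x
    obtain ⟨a, b, rfl⟩ := hu x
    rw [Subgroup.mem_center_iff]
    constructor
    · intro h
      refine ⟨b, ?_⟩
      suffices ha : a = 0 by rw [ha]
      have key : ∀ a', Suz.th m a' * a = Suz.th m a * a' := fun a' => by
        have h1 := h (u a' 0)
        rw [umul, umul] at h1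
        have := (uinj _ _ _ _ h1).2
        simpa using this
      by_contra ha
      obtain ⟨c, hc⟩ := Suz.exists_th_ne hm hF
      have h1 := key 1
      rw [Suz.th_one hS, one_mul, mul_one] at h1
      have h3 := key c
      rw [← h1, mul_comm a c] at h3
      exact hc (mul_right_cancel₀ ha h3)
    · rintro ⟨b', hb⟩ y
      obtain ⟨a', b'', rfl⟩ := hu y
      rw [hb, umul, umul, Suz.th_zero hS, mul_zero, zero_mul, add_zero, add_zero, zero_add, add_comm b'']
      simp
  have hcen : Subgroup.center U = commutator U := by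
    haveI : (Subgroup.center U).Normal := inferInstance
    refine le_antisymm ?_ ?_
    · -- every central translation is a commutator
      let V : AddSubgroup F :=
        { carrier := {c | u 0 c ∈ commutator U}
          zero_mem' := by show u 0 0 ∈ commutator U; rw [u1]; exact one_mem _
          add_mem' := fun {a b} ha hb => by
            show u 0 (a + b) ∈ commutator U
            have : u 0 (a + b) = u 0 a * u 0 b := by rw [umul, Suz.th_zero hS, zero_mul, add_zero, add_zero]
            rw [this]; exact mul_mem ha hb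
          neg_mem' := fun {a} ha => by rw [Suz.neg_eq hS]; exact ha }
      have hV : ∀ a a' : F, Suz.th m a * a' + Suz.th m a' * a ∈ V := by
        intro a a'
        have h1 : u a 0 * u a' 0 * (u a 0)⁻¹ * (u a' 0)⁻¹ ∈ commutator U := by
          rw [← commutatorElement_def]
          exact Subgroup.commutator_mem_commutator (Subgroup.mem_top _) (Subgroup.mem_top _)
        show u 0 (Suz.th m a * a' + Suz.th m a' * a) ∈ commutator U
        convert h1 using 1
        rw [eq_mul_inv_iff_mul_eq, eq_mul_inv_iff_mul_eq, umul, umul, umul]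
        simp only [zero_add, add_zero, Suz.th_zero hS, zero_mul]
        rw [add_comm a' a, show Suz.th m a * a' + Suz.th m a' * a + Suz.th m a' * a = Suz.th m a * a' by
          linear_combination Suz.th m a' * a * Suz.two_eq_zero hS]
      obtain ⟨c, hc⟩ := Suz.exists_th_ne hm hF
      have hc0 : Suz.th m c + c ≠ 0 := fun h => hc (by rw [eq_neg_of_add_eq_zero_left h, Suz.neg_eq hS])
      intro x hx
      obtain ⟨b, rfl⟩ := (hz x).1 hx
      show b ∈ V
      rcases eq_or_ne b 0 with rfl | hb
      · exact zero_mem V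
      obtain ⟨k, hk⟩ := Suz.exists_kth_eq hF (m := m) (div_ne_zero hb hc0)
      have h1 := hV ((k : F) * c) (k : F)
      convert h1 using 1
      rw [Suz.th_mul hS]
      calc b = Suz.th m (k : F) * k * (Suz.th m c + c) := by rw [hk]; field_simp
        _ = _ := by ring
    · rw [commutator_def, Subgroup.commutator_le]
      intro x _ y _
      obtain ⟨a, b, rfl⟩ := hu x
      obtain ⟨a', b', rfl⟩ := hu y
      refine (hz _).2 ⟨Suz.th m a * a' + Suz.th m a' * a, ?_⟩
      rw [commutatorElement_def, mul_inv_eq_iff_eq_mul, mul_inv_eq_iff_eq_mul, umul, umul, umul]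
      simp only [zero_add, add_zero, Suz.th_zero hS, zero_mul]
      rw [add_comm a' a, show Suz.th m a * a' + Suz.th m a' * a + b' + b + Suz.th m a' * a =
        b + b' + Suz.th m a * a' by
          linear_combination Suz.th m a' * a * Suz.two_eq_zero hS]
  have hexp : Monoid.exponent U = 4 := by
    refine Nat.dvd_antisymm (Monoid.exponent_dvd_iff_forall_pow_eq_one.2 fun x => ?_) ?_
    · obtain ⟨a, b, rfl⟩ := hu x
      show (u a b) ^ (2 * 2) = 1
      rw [pow_mul, pow_two, pow_two, umul, umul]
      simp only [Suz.add_self hS, Suz.th_zero hS, zero_mul, add_zero]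
      exact u1
    · have h : orderOf (u 1 0) = 2 ^ (1 + 1) := by
        apply orderOf_eq_prime_pow
        · rw [pow_one, pow_two, umul]
          simp only [Suz.add_self hS, Suz.th_one hS, zero_add, mul_one]
          intro h
          exact one_ne_zero (uinj _ _ _ _ (h.trans u1.symm)).2
        · show (u 1 0) ^ (2 * 2) = 1
          rw [pow_mul, pow_two, pow_two, umul, umul]
          simp only [Suz.add_self hS, Suz.th_zero hS, zero_mul, add_zero]
          exact u1
      have h' := Monoid.order_dvd_exponent (u 1 0)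
      rw [h] at h'
      simpa using h'
  let Q : Sylow 2 (Cfsg.Sz F m) := (Suz.U_isPGroup hF).toSylow (Suz.U_index_not_dvd hm hF)
  have hQ : (Q : Subgroup (Cfsg.Sz F m)) = U := rfl
  let e : ↥(P : Subgroup (Cfsg.Sz F m)) ≃* U := (P.equiv Q).trans (MulEquiv.subgroupCongr hQ)
  refine ⟨?_, ?_, ?_, ?_⟩
  · rw [Nat.card_congr e.toEquiv, Suz.card_U hF, hF]
  · rw [Monoid.exponent_eq_of_mulEquiv e]; exact hexp
  · apply Subgroup.map_injective (f := e.toMonoidHom) e.injective
    rw [commutator_def, Subgroup.map_commutator, Subgroup.map_top_of_surjective _ e.surjective,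
      ← commutator_def, ← hcen]
    ext x
    simp only [Subgroup.mem_map, Subgroup.mem_center_iff]
    constructor
    · rintro ⟨y, hy, rfl⟩ z
      obtain ⟨z, rfl⟩ := e.surjective z
      show e z * e y = e y * e z
      rw [← map_mul, ← map_mul, hy z]
    · intro h
      refine ⟨e.symm x, fun z => e.injective ?_, e.apply_symm_apply x⟩
      rw [map_mul, map_mul, e.apply_symm_apply, h]
  · have h1 : Nat.card (Subgroup.center U) = 2 ^ (2 * m + 1) := by
      rw [← hF, ← Nat.card_eq_fintype_card]
      refine (Nat.card_eq_of_bijective (fun b : F => (⟨u 0 b, (hz _).2 ⟨b, rfl⟩⟩ : Subgroup.center U))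
        ⟨fun a b h => (uinj _ _ _ _ (congrArg Subtype.val h)).2, ?_⟩).symm
      rintro ⟨x, hx⟩
      obtain ⟨b, rfl⟩ := (hz x).1 hx
      exact ⟨b, rfl⟩
    rw [← h1]
    exact Nat.card_congr (Subgroup.centerCongr e).toEquiv

end Cfsg.Agent.S0330
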