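import Cfsg.Statements.S0200
import Cfsg.Agent.Lib.Invol.BaerSuzuki


set_option autoImplicit false
open Cfsg

namespace Cfsg.Agent.S0200

/-- An involution lying in no normal 2-subgroup of a finite group inverts a nontrivial element of odd order (a consequence of the Baer–Suzuki Theorem). -/
theorem result {G : Type*} [Group G] [Finite G] (t : G) (ht : orderOf t = 2) (hO : ∀ N : Subgroup G, N.Normal → IsPGroup 2 N → t ∉ N) : ∃ h : G, h ≠ 1 ∧ Odd (orderOf h) ∧ t * h * t⁻¹ = h⁻¹ := by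
  by_cases h : ∀ g : G, IsPGroup 2 (Subgroup.closure ({t, g * t * g⁻¹} : Set G))
  · obtain ⟨N, hN, hp, hmem⟩ := CfsgLib.Invol.exists_normal_pGroup_mem h
    exact absurd hmem (hO N hN hp)
  push Not at h
  obtain ⟨g, hg⟩ := h
  set v := g * t * g⁻¹ with hv
  have hvo : orderOf v = 2 := CfsgLib.Invol.invol_conj ht g
  set s := (orderOf (t * v)).factorization 2
  refine ⟨(t * v) ^ 2 ^ s, fun h1 => hg ?_, ?_, ?_⟩
  · obtain ⟨j, -, hj⟩ := (Nat.dvd_prime_pow Nat.prime_two).1 (orderOf_dvd_of_pow_eq_one h1)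
    exact CfsgLib.Invol.two_group_of_pair ht hvo hj
  · rw [CfsgLib.Invol.odd_dvd_orderOf (Nat.ordProj_dvd _ 2), Nat.odd_iff]
    have := Nat.not_dvd_ordCompl Nat.prime_two (orderOf_pos (t * v)).ne'
    omega
  · rw [← conj_pow, CfsgLib.Invol.invol_conj_mul ht hvo, inv_pow]

end Cfsg.Agent.S0200
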