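import Cfsg.Statements.S3779
-- import your own Cfsg.Agent.* helpers here
import Cfsg.Agent.Lib.PGroup.LieEigenGrading
import Cfsg.Agent.Lib.PGroup.AssociatedLieRing
import Cfsg.Agent.Lib.PGroup.FixedPointFree

set_option autoImplicit false
open Cfsg

namespace Cfsg.Agent.S3779

open CfsgLib.GrLie

universe u

/-- An automorphism of prime order without fixed points has order prime to the group order. -/
theorem coprime_card {G : Type u} [Group G] [Finite G] {p : ℕ} [hp : Fact p.Prime] (α : MulAut G)
    (hαp : α ^ p = 1) (hfpf : ∀ g : G, α g = g → g = 1) : (Nat.card G).Coprime p := by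
  classical
  haveI := Fintype.ofFinite G
  rw [Nat.coprime_comm, hp.out.coprime_iff_not_dvd]
  intro hdvd
  let σ : Equiv.Perm G := α.toEquiv
  have hσ : σ ^ p ^ 1 = 1 := by
    rw [pow_one]
    ext g
    have h : ∀ m : ℕ, (σ ^ m) g = (α ^ m) g := by
      intro m
      induction m with
      | zero => rfl
      | succ m ih => rw [pow_succ', pow_succ', Equiv.Perm.mul_apply, ih]; rfl
    rw [h, hαp]
    rfl
  rw [Nat.card_eq_fintype_card] at hdvd
  obtain ⟨b, hb, hb1⟩ := Equiv.Perm.exists_fixed_point_of_prime' hdvd hσ (map_one α : σ 1 = 1)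
  exact hb1 (hfpf b hb)

/-- A vanishing Lie term forces the corresponding term of the lower central series into the next. -/
theorem γ_le_succ_of_lcl {G : Type u} [Group G] {m : ℕ}
    (h : CfsgLib.GradedLie.lcl (GrRing G) m = ⊥) : γ G m ≤ γ G (m + 1) := by
  have key : ∀ (n : ℕ), ∀ g ∈ γ G n, el n g ∈ CfsgLib.GradedLie.lcl (GrRing G) n := by
    intro n
    induction n with
    | zero => exact fun g _ => AddSubgroup.mem_top _
    | succ n ih =>
      exact fun g hg => el_succ_mem _
        (fun a ha b => CfsgLib.GradedLie.lie_mem_lb (ih a ha) (AddSubgroup.mem_top _)) hg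
  intro g hg
  have := key m g hg
  rw [h, AddSubgroup.mem_bot] at this
  exact (el_eq_zero_iff hg).1 this

theorem γ_eq_bot_of_le_succ {G : Type u} [Group G] [hn : Group.IsNilpotent G] {m : ℕ}
    (h : γ G m ≤ γ G (m + 1)) : γ G m = ⊥ := by
  obtain ⟨k, hk⟩ := Subgroup.nilpotent_iff_lowerCentralSeries.1 hn
  have hj : ∀ j, γ G m ≤ γ G (m + j) := by
    intro j
    induction j with
    | zero => exact le_rfl
    | succ j ih =>
      refine h.trans ?_
      exact Subgroup.commutator_mono ih le_rfl
  exact eq_bot_iff.2 (((hj k).trans (γ_antitone (Nat.le_add_left k m))).trans hk.le)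


/-- Let G be a finite group with an automorphism of prime order p fixing only the identity. Then G is nilpotent; if p = 2 then G is abelian, if p = 3 then G has class at most 2, and in general the class of G is at most ξ = 1 + (p−1) + (p−1)² + ⋯ + (p−1)^(n−1) with n = 2^(p−1) − 1 (the Higman–Kreknin–Kostrikin bound). -/
theorem result {G : Type*} [Group G] [Finite G] {p : ℕ} (hp : p.Prime) (α : MulAut G) (hα : orderOf α = p) (hfpf : ∀ g : G, α g = g → g = 1) : (p = 2 → (⊤ : Subgroup G).lowerCentralSeries 1 = ⊥) ∧ (p = 3 → (⊤ : Subgroup G).lowerCentralSeries 2 = ⊥) ∧ (⊤ : Subgroup G).lowerCentralSeries (Finset.sum (Finset.range (2 ^ (p - 1) - 1)) (fun i => (p - 1) ^ i)) = ⊥ := by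
  haveI : Fact p.Prime := ⟨hp⟩
  have hαp : α ^ p = 1 := hα ▸ pow_orderOf_eq_one α
  have hiter : ∀ (m : ℕ) (g : G), (α : G ≃* G)^[m] g = (α ^ m) g := by
    intro m
    induction m with
    | zero => intro g; rfl
    | succ m ih => intro g; rw [Function.iterate_succ_apply', ih, pow_succ']; rfl
  haveI : Group.IsNilpotent G :=
    CfsgLib.PGroup.isNilpotent_of_fixedPointFree hp G α (fun g hg => hfpf g hg)
      (fun g => by rw [hiter, hαp]; rfl)
  set φ : G →* G := (α : G ≃* G).toMonoidHom with hφ
  have hord : ∀ x : GrRing G, (grMap φ)^[p] x = x := by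
    have hc : ∀ (m : ℕ) (x : GrRing G), (grMap φ)^[m] x = grMap ((α ^ m : MulAut G) : G ≃* G).toMonoidHom x := by
      intro m
      induction m with
      | zero => intro x; exact (grMap_id x).symm
      | succ m ih =>
        intro x
        rw [Function.iterate_succ_apply', ih, grMap_comp, pow_succ']
        rfl
    intro x
    rw [hc, hαp]
    exact grMap_id x
  have hfix : ∀ x : GrRing G, grMap φ x = x → x = 0 := fun x hx =>
    eq_zero_of_grMap_fixed (α : G ≃* G) (fun n g _ h => CfsgLib.PGroup.fpf_mem_of_commutator_mem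
      (fun y hy => hfpf y hy) (γ G (n + 1)) (fun y hy => map_γ_le φ _ hy) h) hx
  obtain ⟨hgen, h3⟩ := CfsgLib.LieEigen.lcl_bounds p (grMap φ) (grMap_lie φ) hord hfix
    (coprime_card α hαp hfpf) card_nsmul_eq_zero
  refine ⟨fun h2 => ?_, fun h => γ_eq_bot_of_le_succ (γ_le_succ_of_lcl (h3 h)),
    γ_eq_bot_of_le_succ (γ_le_succ_of_lcl hgen)⟩
  have e : (∑ i ∈ Finset.range (2 ^ (p - 1) - 1), (p - 1) ^ i) = 1 := by subst h2; rfl
  rw [e] at hgen
  exact γ_eq_bot_of_le_succ (γ_le_succ_of_lcl hgen)

end Cfsg.Agent.S3779
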