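import Cfsg.Statements.S0714
import Mathlib
-- import your own Cfsg.Agent.* helpers here

set_option autoImplicit false
open Cfsg

namespace Cfsg.Agent.S0714

/-- Over any field, the permutation module of the alternating group of degree at least 5 has exactly four invariant subspaces: zero, the constant functions, the functions with coordinate sum zero, and everything. -/
theorem result {α : Type*} [Fintype α] [DecidableEq α] (hα : 5 ≤ Fintype.card α) {K : Type*} [Field K] (W : Subrepresentation (Cfsg.permRep K (alternatingGroup α) α)) : W.toSubmodule = ⊥ ∨ W = Cfsg.permConstants K (alternatingGroup α) α ∨ W = Cfsg.permSumZero K (alternatingGroup α) α ∨ W.toSubmodule = ⊤ := by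
  classical
  have key : ∀ (σ : Equiv.Perm α), Equiv.Perm.sign σ = 1 → ∀ f ∈ W.toSubmodule, (fun x => f (σ⁻¹ x)) ∈ W.toSubmodule :=
    fun σ hσ f hf => W.apply_mem_toSubmodule ⟨σ, Equiv.Perm.mem_alternatingGroup.2 hσ⟩ hf
  have sw2 : ∀ a b c d : α, a ≠ b → c ≠ d → Equiv.Perm.sign (Equiv.swap a b * Equiv.swap c d) = 1 := by
    intro a b c d h1 h2
    rw [Equiv.Perm.sign_mul, Equiv.Perm.sign_swap h1, Equiv.Perm.sign_swap h2]
    norm_num
  by_cases hconst : ∀ f ∈ W.toSubmodule, ∀ x y, f x = f y
  · have hle : W.toSubmodule ≤ (Cfsg.permConstants K (alternatingGroup α) α).toSubmodule := by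
      intro f hf
      obtain ⟨a⟩ : Nonempty α := Fintype.card_pos_iff.1 (by omega)
      exact Submodule.mem_span_singleton.2 ⟨f a, funext fun x => by rw [Pi.smul_apply, smul_eq_mul, mul_one, hconst f hf a x]⟩
    rcases eq_or_ne W.toSubmodule ⊥ with h | h
    · exact Or.inl h
    · refine Or.inr (Or.inl (Subrepresentation.toSubmodule_injective (le_antisymm hle ?_)))
      obtain ⟨f, hf, hf0⟩ := Submodule.exists_mem_ne_zero_of_ne_bot h
      obtain ⟨c, hc⟩ := Submodule.mem_span_singleton.1 (hle hf)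
      refine (Submodule.span_singleton_le_iff_mem _ _).2 ?_
      have hc0 : c ≠ 0 := fun h0 => hf0 (by rw [← hc, h0, zero_smul])
      have := W.toSubmodule.smul_mem c⁻¹ hf
      rwa [← hc, smul_smul, inv_mul_cancel₀ hc0, one_smul] at this
  push Not at hconst
  obtain ⟨f, hf, a, b, hab⟩ := hconst
  have hne : a ≠ b := fun h => hab (by rw [h])
  have five : ∀ s : Finset α, s.card ≤ 4 → ∃ z, z ∉ s := fun s hs => by
    by_contra hcon
    push Not at hcon
    have : (Finset.univ : Finset α).card ≤ s.card := Finset.card_le_card fun x _ => hcon x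
    rw [Finset.card_univ] at this
    omega
  obtain ⟨c, hc⟩ := five {a, b} (by have := Finset.card_le_two (a := a) (b := b); omega)
  simp only [Finset.mem_insert, Finset.mem_singleton, not_or] at hc
  obtain ⟨hca, hcb⟩ := hc
  -- a function supported on three points
  obtain ⟨σ, hσ⟩ : ∃ σ, σ = Equiv.swap a b * Equiv.swap a c := ⟨_, rfl⟩
  have hσs : Equiv.Perm.sign σ = 1 := hσ ▸ sw2 a b a c hne (Ne.symm hca)
  obtain ⟨h, hh⟩ : ∃ h, h = f - fun x => f (σ⁻¹ x) := ⟨_, rfl⟩
  have hhW : h ∈ W.toSubmodule := hh ▸ W.toSubmodule.sub_mem hf (key σ hσs f hf)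
  have hsupp : ∀ x, x ≠ a → x ≠ b → x ≠ c → h x = 0 := fun x h1 h2 h3 => by
    rw [hh, Pi.sub_apply, show σ⁻¹ x = x from by
      rw [hσ, _root_.mul_inv_rev, Equiv.swap_inv, Equiv.swap_inv, Equiv.Perm.mul_apply,
        Equiv.swap_apply_of_ne_of_ne h1 h2, Equiv.swap_apply_of_ne_of_ne h1 h3], sub_self]
  have hne0 : h a ≠ 0 ∨ h b ≠ 0 := by
    by_contra hcon
    push Not at hcon
    have e1 : σ⁻¹ b = c := by
      rw [hσ, _root_.mul_inv_rev, Equiv.swap_inv, Equiv.swap_inv, Equiv.Perm.mul_apply, Equiv.swap_apply_right,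
        Equiv.swap_apply_left]
    have e2 : σ⁻¹ a = b := by
      rw [hσ, _root_.mul_inv_rev, Equiv.swap_inv, Equiv.swap_inv, Equiv.Perm.mul_apply, Equiv.swap_apply_left,
        Equiv.swap_apply_of_ne_of_ne hne.symm (Ne.symm hcb)]
    have h1 := hcon.1
    rw [hh, Pi.sub_apply, e2, sub_eq_zero] at h1
    exact hab h1
  -- the difference of two basis vectors
  obtain ⟨d, hd⟩ := five {a, b, c} (le_trans Finset.card_le_three (by omega))
  simp only [Finset.mem_insert, Finset.mem_singleton, not_or] at hd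
  obtain ⟨hda, hdb, hdc⟩ := hd
  obtain ⟨e, he⟩ := five {a, b, c, d} (le_trans Finset.card_le_four le_rfl)
  simp only [Finset.mem_insert, Finset.mem_singleton, not_or] at he
  obtain ⟨hea, heb, hec, hed⟩ := he
  have hpair : ∃ (p q : α) (u : K), p ≠ q ∧ u ≠ 0 ∧ (fun x => if x = p then u else if x = q then -u else 0) ∈ W.toSubmodule := by
    by_cases hab' : h a = h b
    · -- then both values are non-zero
      have ha0 : h a ≠ 0 := fun h0 => hne0.elim (fun k => k h0) (fun k => k (hab' ▸ h0))
      by_cases hbc : h b = h c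
      · refine ⟨a, d, h a, Ne.symm hda, ha0, ?_⟩
        have := W.toSubmodule.sub_mem hhW (key _ (sw2 a d b c (Ne.symm hda) (Ne.symm hcb)) h hhW)
        convert this using 1
        funext x
        rw [Pi.sub_apply, _root_.mul_inv_rev, Equiv.swap_inv, Equiv.swap_inv, Equiv.Perm.mul_apply]
        by_cases hxa : x = a
        · subst hxa
          rw [if_pos rfl, Equiv.swap_apply_left, Equiv.swap_apply_of_ne_of_ne hdb hdc, hsupp d hda hdb hdc, sub_zero]
        rw [if_neg hxa]
        by_cases hxd : x = d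
        · subst hxd
          rw [if_pos rfl, Equiv.swap_apply_right, Equiv.swap_apply_of_ne_of_ne hne (Ne.symm hca),
            hsupp x hda hdb hdc, zero_sub]
        rw [if_neg hxd, Equiv.swap_apply_of_ne_of_ne hxa hxd]
        by_cases hxb : x = b
        · subst hxb; rw [Equiv.swap_apply_left, hbc, sub_self]
        by_cases hxc : x = c
        · subst hxc; rw [Equiv.swap_apply_right, hbc, sub_self]
        rw [Equiv.swap_apply_of_ne_of_ne hxb hxc, sub_self]
      · refine ⟨b, c, h b - h c, Ne.symm hcb, sub_ne_zero.2 hbc, ?_⟩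
        have := W.toSubmodule.sub_mem hhW (key _ (sw2 b c d e (Ne.symm hcb) (Ne.symm hed)) h hhW)
        convert this using 1
        funext x
        rw [Pi.sub_apply, _root_.mul_inv_rev, Equiv.swap_inv, Equiv.swap_inv, Equiv.Perm.mul_apply]
        by_cases hxb : x = b
        · subst hxb
          rw [if_pos rfl, Equiv.swap_apply_left, Equiv.swap_apply_of_ne_of_ne (Ne.symm hdc) (Ne.symm hec)]
        rw [if_neg hxb]
        by_cases hxc : x = c
        · subst hxc
          rw [if_pos rfl, Equiv.swap_apply_right, Equiv.swap_apply_of_ne_of_ne (Ne.symm hdb) (Ne.symm heb), neg_sub]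
        rw [if_neg hxc, Equiv.swap_apply_of_ne_of_ne hxb hxc]
        by_cases hxd : x = d
        · subst hxd; rw [Equiv.swap_apply_left, hsupp x hda hdb hdc, hsupp e hea heb hec, sub_zero]
        by_cases hxe : x = e
        · subst hxe; rw [Equiv.swap_apply_right, hsupp x hea heb hec, hsupp d hda hdb hdc, sub_zero]
        rw [Equiv.swap_apply_of_ne_of_ne hxd hxe, sub_self]
    · refine ⟨a, b, h a - h b, hne, sub_ne_zero.2 hab', ?_⟩
      have := W.toSubmodule.sub_mem hhW (key _ (sw2 a b d e hne (Ne.symm hed)) h hhW)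
      convert this using 1
      funext x
      rw [Pi.sub_apply, _root_.mul_inv_rev, Equiv.swap_inv, Equiv.swap_inv, Equiv.Perm.mul_apply]
      by_cases hxa : x = a
      · subst hxa
        rw [if_pos rfl, Equiv.swap_apply_left, Equiv.swap_apply_of_ne_of_ne (Ne.symm hdb) (Ne.symm heb)]
      rw [if_neg hxa]
      by_cases hxb : x = b
      · subst hxb
        rw [if_pos rfl, Equiv.swap_apply_right, Equiv.swap_apply_of_ne_of_ne (Ne.symm hda) (Ne.symm hea), neg_sub]
      rw [if_neg hxb, Equiv.swap_apply_of_ne_of_ne hxa hxb]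
      by_cases hxd : x = d
      · subst hxd; rw [Equiv.swap_apply_left, hsupp x hda hdb hdc, hsupp e hea heb hec, sub_zero]
      by_cases hxe : x = e
      · subst hxe; rw [Equiv.swap_apply_right, hsupp x hea heb hec, hsupp d hda hdb hdc, sub_zero]
      rw [Equiv.swap_apply_of_ne_of_ne hxd hxe, sub_self]
  obtain ⟨p, q, u, hpq, hu, hpqW⟩ := hpair
  have hbasis : ∀ x y : α, Pi.single x (1 : K) - Pi.single y 1 ∈ W.toSubmodule := by
    intro x y
    rcases eq_or_ne x y with rfl | hxy
    · rw [sub_self]; exact W.toSubmodule.zero_mem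
    obtain ⟨g, hg1, hg2⟩ : ∃ g : Equiv.Perm α, g p = x ∧ g q = y :=
      ⟨Equiv.swap y (Equiv.swap p x q) * Equiv.swap p x, by
        rw [Equiv.Perm.mul_apply, Equiv.swap_apply_left, Equiv.swap_apply_of_ne_of_ne hxy
          (fun h => hpq ((Equiv.swap p x).injective (by rw [Equiv.swap_apply_left]; exact h)))], by
        rw [Equiv.Perm.mul_apply, Equiv.swap_apply_right]⟩
    obtain ⟨g', hg'1, hg'2, hg's⟩ : ∃ g : Equiv.Perm α, g p = x ∧ g q = y ∧ Equiv.Perm.sign g = 1 := by
      rcases Int.units_eq_one_or (Equiv.Perm.sign g) with hs | hs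
      · exact ⟨g, hg1, hg2, hs⟩
      obtain ⟨z, hz⟩ := five {x, y} (by have := Finset.card_le_two (a := x) (b := y); omega)
      obtain ⟨w, hw⟩ := five {x, y, z} (le_trans Finset.card_le_three (by omega))
      simp only [Finset.mem_insert, Finset.mem_singleton, not_or] at hz hw
      refine ⟨Equiv.swap z w * g, ?_, ?_, ?_⟩
      · rw [Equiv.Perm.mul_apply, hg1, Equiv.swap_apply_of_ne_of_ne (Ne.symm hz.1) (Ne.symm hw.1)]
      · rw [Equiv.Perm.mul_apply, hg2, Equiv.swap_apply_of_ne_of_ne (Ne.symm hz.2) (Ne.symm hw.2.1)]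
      · rw [Equiv.Perm.sign_mul, Equiv.Perm.sign_swap (Ne.symm hw.2.2), hs]; norm_num
    have h1 := W.toSubmodule.smul_mem u⁻¹ (key g' hg's _ hpqW)
    convert h1 using 1
    funext z
    have hzx : g'⁻¹ z = p ↔ z = x := by rw [Equiv.Perm.inv_eq_iff_eq, hg'1]
    have hzy : g'⁻¹ z = q ↔ z = y := by rw [Equiv.Perm.inv_eq_iff_eq, hg'2]
    simp only [Pi.sub_apply, Pi.smul_apply, smul_eq_mul, Pi.single_apply, hzx, hzy]
    split_ifs with h2 h3 <;> first | exact absurd (h2.symm.trans h3) hxy | simp [hu]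
  have hle : (Cfsg.permSumZero K (alternatingGroup α) α).toSubmodule ≤ W.toSubmodule := by
    intro v hv
    have hv0 : ∑ x, v x = 0 := hv
    have : v = ∑ x, v x • (Pi.single x (1 : K) - Pi.single a 1) := by
      simp only [smul_sub, Finset.sum_sub_distrib, ← Finset.sum_smul, hv0, zero_smul, sub_zero]
      conv_lhs => rw [pi_eq_sum_univ' v]
    rw [this]
    exact Submodule.sum_mem _ fun x _ => Submodule.smul_mem _ _ (hbasis x a)
  rcases eq_or_lt_of_le hle with h | h
  · exact Or.inr (Or.inr (Or.inl (Subrepresentation.toSubmodule_injective h.symm)))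
  · obtain ⟨v, hvW, hv⟩ := SetLike.exists_of_lt h
    refine Or.inr (Or.inr (Or.inr (eq_top_iff.2 fun w _ => ?_)))
    have hv0 : ∑ x, v x ≠ 0 := hv
    obtain ⟨t, ht⟩ : ∃ t, t = (∑ x, w x) / ∑ x, v x := ⟨_, rfl⟩
    have h2 : w - t • v ∈ (Cfsg.permSumZero K (alternatingGroup α) α).toSubmodule := by
      show ∑ x, (w - t • v) x = 0
      simp only [Pi.sub_apply, Pi.smul_apply, smul_eq_mul, Finset.sum_sub_distrib, ← Finset.mul_sum]
      rw [ht, div_mul_cancel₀ _ hv0, sub_self]
    have := W.toSubmodule.add_mem (hle h2) (W.toSubmodule.smul_mem t hvW)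
    rwa [sub_add_cancel] at this

end Cfsg.Agent.S0714
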