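import Cfsg.Statements.S0618
import Cfsg.Agent.Lib.Fusion.FFPair.Thompson

set_option autoImplicit false
open Cfsg

namespace Cfsg.Agent.S0618

/-- A p-separable group with trivial p'-core in which the Thompson factorization fails has p = 2 or 3, and J(G) induces on the normal closure of Ω₁(Z(S)) a group containing a normal SL(2, p). -/
theorem result {G : Type*} [Group G] [Finite G] {p : ℕ} [Fact p.Prime] (hsep : Cfsg.IsPSolvable p G) (hO : Cfsg.pPrimeCore p G = ⊥) (hnf : ¬ Cfsg.IsThompsonFactorizable p G) : (p = 2 ∨ p = 3) ∧ ∃ E : Subgroup G, Subgroup.centralizer ((⨆ S : Sylow p G, Cfsg.omegaOne p ((S : Subgroup G) ⊓ Subgroup.centralizer ((S : Subgroup G) : Set G))) : Set G) ≤ E ∧ E ≤ Cfsg.thompsonSubgroup p G ⊔ Subgroup.centralizer ((⨆ S : Sylow p G, Cfsg.omegaOne p ((S : Subgroup G) ⊓ Subgroup.centralizer ((S : Subgroup G) : Set G))) : Set G) ∧ Cfsg.thompsonSubgroup p G ⊔ Subgroup.centralizer ((⨆ S : Sylow p G, Cfsg.omegaOne p ((S : Subgroup G) ⊓ Subgroup.centralizer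 ((S : Subgroup G) : Set G))) : Set G) ≤ Subgroup.normalizer (E : Set G) ∧ ∃ hn : ((Subgroup.centralizer ((⨆ S : Sylow p G, Cfsg.omegaOne p ((S : Subgroup G) ⊓ Subgroup.centralizer ((S : Subgroup G) : Set G))) : Set G)).subgroupOf E).Normal, Nonempty ((↥E ⧸ (Subgroup.centralizer ((⨆ S : Sylow p G, Cfsg.omegaOne p ((S : Subgroup G) ⊓ Subgroup.centralizer ((S : Subgroup G) : Set G))) : Set G)).subgroupOf E) ≃* Matrix.SpecialLinearGroup (Fin 2) (ZMod p)) := by
  open Subgroup CfsgLib.FFPair in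
  obtain ⟨A, hA⟩ := exists_isT_of_not_factorizable hsep hO hnf
  have X := thompson_ctx hsep hO
  refine ⟨X.prime_eq hA, ?_⟩
  rw [centralizer_iSup_coe]
  show ∃ E : Subgroup G, centralizer (sylowModule p G : Set G) ≤ E ∧
    E ≤ Cfsg.thompsonSubgroup p G ⊔ centralizer (sylowModule p G : Set G) ∧
    Cfsg.thompsonSubgroup p G ⊔ centralizer (sylowModule p G : Set G) ≤ normalizer (E : Set G) ∧
    ∃ _ : ((centralizer (sylowModule p G : Set G)).subgroupOf E).Normal, Nonempty _
  haveI : (centralizer (sylowModule p G : Set G)).Normal := normal_centralizer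
  set E := factor (thompsonImageCore p G) A
  have hEH : E ≤ thompsonImage p G := X.factor_le hA
  refine ⟨E.comap (nemb (sylowModule p G)), ?_, ?_, ?_, inferInstance, ?_⟩
  · intro c hc
    rw [mem_comap]
    rw [← nemb_ker, MonoidHom.mem_ker] at hc
    rw [hc]
    exact one_mem _
  · refine (comap_mono hEH).trans_eq ?_
    rw [comap_map_eq, nemb_ker]
  · refine le_trans ?_ (le_normalizer_comap _)
    refine le_trans ?_ (comap_mono (X.H_le_normalizer (thompson_gen hsep hO) hA))
    rw [comap_map_eq, nemb_ker]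
  · obtain ⟨ψ⟩ := X.factor_iso hA
    have hs : Function.Surjective ((nemb (sylowModule p G)).subgroupComap E) := by
      rintro ⟨e, he⟩
      obtain ⟨g, -, rfl⟩ := hEH he
      exact ⟨⟨g, he⟩, rfl⟩
    refine ⟨((QuotientGroup.quotientMulEquivOfEq ?_).trans
      (QuotientGroup.quotientKerEquivOfSurjective _ hs)).trans ψ⟩
    ext x
    rw [MonoidHom.mem_ker, mem_subgroupOf, ← nemb_ker, MonoidHom.mem_ker, Subtype.ext_iff]
    rfl

end Cfsg.Agent.S0618
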