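import Cfsg.Statements.S2553
import Cfsg.Agent.Lib.Invol.GLFourTwo
import Cfsg.Agent.Lib.Invol.AltEightSubgroups

set_option autoImplicit false
open Cfsg

namespace Cfsg.Agent.S2553

open CfsgLib.Invol.AltEightSubgroups Matrix

/-- Without cores there is no solvable normal subgroup. -/
theorem core_free {G : Type*} [Group G] [Finite G] (hO : Cfsg.pPrimeCore 2 G = ⊥)
    (hO2 : Cfsg.pCore 2 G = ⊥) : ∀ N : Subgroup G, N.Normal → Group.IsSolvable N → N = ⊥ := by
  intro N hN hs
  haveI := hN
  by_contra hne
  haveI : Fact (Nat.Prime 2) := ⟨Nat.prime_two⟩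
  obtain ⟨k, hk1, hk2⟩ : ∃ k, derivedSeries N k ≠ ⊥ ∧ derivedSeries N (k + 1) = ⊥ := by
    obtain ⟨n, hn⟩ := hs.solvable
    induction n with
    | zero =>
      exfalso
      apply hne
      rw [derivedSeries_zero] at hn
      rw [← Subgroup.range_subtype N, MonoidHom.range_eq_map, hn, Subgroup.map_bot]
    | succ m ih =>
      by_cases h : derivedSeries N m = ⊥
      · exact ih h
      · exact ⟨m, h, hn⟩
  haveI : (derivedSeries N k).Characteristic := derivedSeries_characteristic N k
  set A := derivedSeries N k with hA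
  have hcomm : ∀ a ∈ A, ∀ b ∈ A, a * b = b * a := by
    intro a ha b hb
    have := Subgroup.commutator_mem_commutator ha hb
    rw [hA, ← derivedSeries_succ, hk2, Subgroup.mem_bot, commutatorElement_eq_one_iff_mul_comm] at this
    exact this
  by_cases h2 : (Nat.card A).Coprime 2
  · have : A.map N.subtype ≤ Cfsg.pPrimeCore 2 G := le_sSup
      ⟨inferInstance, by rwa [Subgroup.card_subtype]⟩
    rw [hO, le_bot_iff, Subgroup.map_eq_bot_iff_of_injective _ N.subtype_injective] at this
    exact hk1 this
  · obtain ⟨P⟩ : Nonempty (Sylow 2 A) := inferInstance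
    have hPn : (P : Subgroup A).Normal := ⟨fun a ha g => by
      rw [show g * a * g⁻¹ = a from by
        rw [show g * a = a * g from Subtype.ext (hcomm _ g.2 _ a.2), mul_inv_cancel_right]]
      exact ha⟩
    haveI := P.characteristic_of_normal hPn
    haveI : ((P : Subgroup A).map A.subtype).Characteristic := by
      rw [Subgroup.characteristic_iff_map_eq]
      intro φ
      have hA' : ∀ a, φ a ∈ A ↔ a ∈ A := fun a => by
        conv_rhs => rw [← Subgroup.characteristic_iff_comap_eq.1 (show A.Characteristic from inferInstance) φ]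
        rfl
      let φA : A ≃* A :=
        { toFun := fun a => ⟨φ a, (hA' a).2 a.2⟩
          invFun := fun a => ⟨φ.symm a, (hA' _).1 (by rw [φ.apply_symm_apply]; exact a.2)⟩
          left_inv := fun a => Subtype.ext (φ.symm_apply_apply a)
          right_inv := fun a => Subtype.ext (φ.apply_symm_apply a)
          map_mul' := fun a b => Subtype.ext (map_mul φ a.1 b.1) }
      have hφ := Subgroup.characteristic_iff_map_eq.1 (inferInstance : (P : Subgroup A).Characteristic) φA
      rw [Subgroup.map_map, show φ.toMonoidHom.comp A.subtype = A.subtype.comp φA.toMonoidHom from rfl,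
        ← Subgroup.map_map, hφ]
    have hle : ((P : Subgroup A).map A.subtype).map N.subtype ≤ Cfsg.pCore 2 G :=
      le_sSup ⟨inferInstance, (P.2.map _).map _⟩
    rw [hO2, le_bot_iff, Subgroup.map_eq_bot_iff_of_injective _ N.subtype_injective,
      Subgroup.map_eq_bot_iff_of_injective _ A.subtype_injective] at hle
    apply h2
    rw [Nat.coprime_comm, Nat.Prime.coprime_iff_not_dvd Nat.prime_two]
    intro hd
    have h1 := P.dvd_card_of_dvd_card hd
    rw [hle, Subgroup.card_bot] at h1
    norm_num at h1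

/-- A group with a simple group of order 1344 acting on few points. -/
theorem trivial_action {N : Type*} [Group N] [Finite N] [IsSimpleGroup N] {X : Type*} [Finite X]
    (f : N →* Equiv.Perm X) (hX : ¬ Nat.card N ∣ (Nat.card X).factorial) : ∀ n, f n = 1 := by
  rcases (MonoidHom.normal_ker f).eq_bot_or_eq_top with h | h
  · have := Subgroup.card_dvd_of_injective f ((MonoidHom.ker_eq_bot_iff f).1 h)
    rw [Nat.card_perm] at this
    exact absurd this hX
  · exact fun n => MonoidHom.mem_ker.1 (h ▸ Subgroup.mem_top n)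

/-- `GL(4,2)` has no simple subgroup of order 1344. -/
theorem no_1344 (H : Subgroup (GL (Fin 4) (ZMod 2))) [IsSimpleGroup H] : Nat.card H ≠ 1344 := by
  classical
  intro hc
  haveI : Fact (Nat.Prime 2) := ⟨Nat.prime_two⟩
  let X := {v : Fin 4 → ZMod 2 // v ≠ 0}
  letI : MulAction H X :=
    { smul := fun (g : H) (v : X) => ⟨((g : GL (Fin 4) (ZMod 2)) : Matrix (Fin 4) (Fin 4) (ZMod 2)) *ᵥ v.1, fun h => v.2 (by
        have := congrArg (fun w : Fin 4 → ZMod 2 => (((g : GL (Fin 4) (ZMod 2))⁻¹ : GL (Fin 4) (ZMod 2)) : Matrix (Fin 4) (Fin 4) (ZMod 2)) *ᵥ w) h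
        simpa [Matrix.mulVec_mulVec] using this)⟩
      one_smul := fun v => Subtype.ext (by
        show ((1 : GL (Fin 4) (ZMod 2)) : Matrix (Fin 4) (Fin 4) (ZMod 2)) *ᵥ v.1 = v.1
        simp)
      mul_smul := fun g h v => Subtype.ext (by
        show (((g * h : H) : GL (Fin 4) (ZMod 2)) : Matrix (Fin 4) (Fin 4) (ZMod 2)) *ᵥ v.1 = ((g : GL (Fin 4) (ZMod 2)) : Matrix (Fin 4) (Fin 4) (ZMod 2)) *ᵥ (((h : GL (Fin 4) (ZMod 2)) : Matrix (Fin 4) (Fin 4) (ZMod 2)) *ᵥ v.1)
        rw [Matrix.mulVec_mulVec]; rfl) }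
  have hX : Nat.card X = 15 := by
    rw [Nat.card_eq_fintype_card]
    rfl
  obtain ⟨S, hS⟩ := Sylow.exists_subgroup_card_pow_prime 2 (n := 6) (G := H) (by rw [hc]; norm_num)
  have hSp : IsPGroup 2 S := IsPGroup.of_card hS
  obtain ⟨e, he⟩ : ∃ e : X, e ∈ MulAction.fixedPoints S X := by
    by_contra! h
    have hmod := hSp.card_modEq_card_fixedPoints X
    haveI : IsEmpty (MulAction.fixedPoints S X) := ⟨fun z => h z.1 z.2⟩
    rw [hX, Nat.card_of_isEmpty] at hmod
    exact absurd hmod (by decide)
  -- the whole group fixes `e`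
  have hidx : (MulAction.stabilizer H e).index ∣ 21 := by
    have h1 : S ≤ MulAction.stabilizer H e := fun s hs => he ⟨s, hs⟩
    refine (Subgroup.index_dvd_of_le h1).trans ?_
    have := S.card_mul_index
    rw [hS, hc] at this
    exact dvd_of_eq (by omega)
  have horb : Nat.card (MulAction.orbit H e) = (MulAction.stabilizer H e).index := by
    rw [MulAction.index_stabilizer]; rfl
  have hle : Nat.card (MulAction.orbit H e) ≤ 15 :=
    hX ▸ Nat.card_le_card_of_injective _ Subtype.val_injective
  have hfixall : ∀ g : H, g • e = e := by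
    intro g
    have htriv := trivial_action (MulAction.toPermHom H (MulAction.orbit H e)) (by
      rw [hc]
      intro hd
      have h7 : Nat.card (MulAction.orbit H e) ≤ 7 := by
        rcases hidx with ⟨c, hcc⟩
        rw [← horb] at hcc
        by_contra hgt
        interval_cases (Nat.card (MulAction.orbit H e)) <;> omega
      have h2 := hd.trans (Nat.factorial_dvd_factorial h7)
      rw [show (7 : ℕ).factorial = 5040 from rfl] at h2
      norm_num at h2) g
    exact congrArg Subtype.val (Equiv.congr_fun htriv ⟨e, MulAction.mem_orbit_self e⟩)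
  -- the induced action on the seven nonzero classes modulo `e`
  let T : AddSubgroup (Fin 4 → ZMod 2) := AddSubgroup.zmultiples e.1
  let W := (Fin 4 → ZMod 2) ⧸ T
  let lin : H → ((Fin 4 → ZMod 2) →+ (Fin 4 → ZMod 2)) := fun g =>
    ⟨⟨fun v => ((g : GL (Fin 4) (ZMod 2)) : Matrix (Fin 4) (Fin 4) (ZMod 2)) *ᵥ v, Matrix.mulVec_zero _⟩,
      fun v w => Matrix.mulVec_add _ v w⟩
  have hT : ∀ g : H, T ≤ T.comap (lin g) := fun g => AddSubgroup.zmultiples_le.2 (by
    show lin g e.1 ∈ T
    rw [show lin g e.1 = e.1 from congrArg Subtype.val (hfixall g)]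
    exact AddSubgroup.mem_zmultiples _)
  let act : H → W → W := fun g => QuotientAddGroup.map T T (lin g) (hT g)
  have hone : ∀ w, act 1 w = w := fun w => by
    induction w using QuotientAddGroup.induction_on with
    | H v =>
      show ((lin 1 v : Fin 4 → ZMod 2) : W) = v
      simp [lin]
  have hmul : ∀ g h w, act (g * h) w = act g (act h w) := fun g h w => by
    induction w using QuotientAddGroup.induction_on with
    | H v =>
      show ((lin (g * h) v : Fin 4 → ZMod 2) : W) = ((lin g (lin h v) : Fin 4 → ZMod 2) : W)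
      simp [lin, Matrix.mulVec_mulVec]
  have hzero : ∀ g, act g 0 = 0 := fun g => map_zero (QuotientAddGroup.map T T (lin g) (hT g))
  letI : MulAction H {w : W // w ≠ 0} :=
    { smul := fun g w => ⟨act g w.1, fun h => w.2 (by
        rw [← hone w.1, ← inv_mul_cancel g, hmul, h, hzero])⟩
      one_smul := fun w => Subtype.ext (hone w.1)
      mul_smul := fun g h w => Subtype.ext (hmul g h w.1) }
  have hW : Nat.card {w : W // w ≠ 0} = 7 := by
    have h1 : Nat.card W = 8 := by
      have h2 := T.card_mul_index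
      rw [Nat.card_zmultiples, addOrderOf_eq_prime (p := 2) (funext fun i => by
        simp [show (2 : ZMod 2) = 0 from rfl]) e.2, Nat.card_fun, Nat.card_zmod, Nat.card_fin] at h2
      rw [← AddSubgroup.index_eq_card]
      norm_num at h2
      omega
    haveI : Fintype W := Fintype.ofFinite W
    rw [Nat.card_eq_fintype_card, Fintype.card_subtype_compl, Fintype.card_subtype_eq,
      ← Nat.card_eq_fintype_card, h1]
  have htriv := trivial_action (MulAction.toPermHom H {w : W // w ≠ 0}) (by
    rw [hc, hW, show (7 : ℕ).factorial = 5040 from rfl]; norm_num)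
  have hact : ∀ g w, act g w = w := fun g w => by
    by_cases h : w = 0
    · rw [h, hzero]
    · exact congrArg Subtype.val (Equiv.congr_fun (htriv g) ⟨w, h⟩)
  have hsq : ∀ g : H, g * g = 1 := by
    intro g
    apply Subtype.ext
    apply Units.ext
    refine Matrix.ext_of_mulVec_single fun i => ?_
    set v : Fin 4 → ZMod 2 := Pi.single i 1
    have hv : (QuotientAddGroup.mk (lin g v) : W) = QuotientAddGroup.mk v := hact g (QuotientAddGroup.mk v)
    rw [QuotientAddGroup.eq, AddSubgroup.mem_zmultiples_iff] at hv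
    obtain ⟨n, hn⟩ := hv
    have hge : lin g e.1 = e.1 := congrArg Subtype.val (hfixall g)
    have h1 : v = lin g v + n • e.1 := by rw [hn]; abel
    have h2 : lin g (lin g v) = v := by
      have h3 := congrArg (lin g) h1
      rw [map_add, map_zsmul, hge] at h3
      have h4 : n • e.1 + n • e.1 = 0 := funext fun j => CharTwo.add_self_eq_zero _
      calc lin g (lin g v) = lin g v - n • e.1 := eq_sub_of_add_eq h3.symm
        _ = lin g v + n • e.1 := by rw [sub_eq_add_neg, neg_eq_of_add_eq_zero_right h4]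
        _ = v := h1.symm
    simpa [lin, Matrix.mulVec_mulVec] using h2
  have hab : IsMulCommutative H := ⟨⟨fun a b => by
    have hinv : ∀ c : H, c⁻¹ = c := fun c => inv_eq_of_mul_eq_one_right (hsq c)
    calc a * b = (a * b)⁻¹ := (hinv _).symm
      _ = b * a := by rw [_root_.mul_inv_rev, hinv, hinv]⟩⟩
  letI : CommGroup H := { (inferInstance : Group H) with mul_comm := hab.is_comm.comm }
  have hp := IsSimpleGroup.prime_card (α := H)
  rw [hc] at hp
  norm_num at hp

theorem gl_three_two : IsSimpleGroup (GL (Fin 3) (ZMod 2)) ∧ Nat.card (GL (Fin 3) (ZMod 2)) = 168 := by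
  classical
  refine ⟨?_, by rw [Matrix.card_GL_field]; rfl⟩
  let j : Matrix.SpecialLinearGroup (Fin 3) (ZMod 2) →* GL (Fin 3) (ZMod 2) :=
    Matrix.SpecialLinearGroup.toGL
  have hj : Function.Bijective j := by
    refine ⟨Matrix.SpecialLinearGroup.toGL_injective, fun A => ?_⟩
    have hd : (A : Matrix (Fin 3) (Fin 3) (ZMod 2)).det = 1 := by
      have h := (Matrix.isUnits_det_units A).ne_zero
      revert h
      generalize (A : Matrix (Fin 3) (Fin 3) (ZMod 2)).det = d
      revert d; decide
    exact ⟨⟨A, hd⟩, Units.ext rfl⟩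
  have hcen : Subgroup.center (Matrix.SpecialLinearGroup (Fin 3) (ZMod 2)) = ⊥ := by
    rw [eq_bot_iff]
    intro A hA
    obtain ⟨r, hr, hA'⟩ := Matrix.SpecialLinearGroup.mem_center_iff.1 hA
    rw [Subgroup.mem_bot]
    have hr1 : r = 1 := (show ∀ s : ZMod 2, s ^ 3 = 1 → s = 1 by decide) r (by simpa using hr)
    apply Subtype.ext
    rw [← hA', hr1]
    simp
  haveI := CfsgLib.Classical.psl_isSimple (F := ZMod 2) (le_refl 3)
  let q : Matrix.SpecialLinearGroup (Fin 3) (ZMod 2) ≃* Matrix.ProjectiveSpecialLinearGroup (Fin 3) (ZMod 2) :=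
    MulEquiv.ofBijective (QuotientGroup.mk' _) ⟨by
      rw [← MonoidHom.ker_eq_bot_iff, QuotientGroup.ker_mk', hcen], QuotientGroup.mk'_surjective _⟩
  exact MulEquiv.isSimpleGroup ((MulEquiv.ofBijective j hj).symm.trans q)

/-- Let H be a nontrivial subgroup of GL(4,2) (a group isomorphic to the alternating group of degree 8) whose largest normal 2-subgroup and largest normal subgroup of odd order are both trivial. Then H is isomorphic to an alternating group of degree n for some 5 ≤ n ≤ 8, to the symmetric group of degree 5 or 6, or to GL(3,2). -/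
theorem result (H : Subgroup (GL (Fin 4) (ZMod 2))) (hH : H ≠ ⊥) (hO : Cfsg.pPrimeCore 2 ↥H = ⊥) (hO2 : Cfsg.pCore 2 ↥H = ⊥) :
    (∃ n : ℕ, 5 ≤ n ∧ n ≤ 8 ∧ Nonempty (↥H ≃* alternatingGroup (Fin n))) ∨
    Nonempty (↥H ≃* Equiv.Perm (Fin 5)) ∨ Nonempty (↥H ≃* Equiv.Perm (Fin 6)) ∨ Nonempty (↥H ≃* GL (Fin 3) (ZMod 2)) := by
  classical
  have hcore := core_free hO hO2
  have hns : ¬ Group.IsSolvable H := fun hs => by
    have htop := hcore ⊤ inferInstance (solvable_of_solvable_injective
      (f := (⊤ : Subgroup H).subtype) (Subgroup.subtype_injective _))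
    apply hH
    rw [← Subgroup.range_subtype H, MonoidHom.range_eq_map, htop, Subgroup.map_bot]
  obtain ⟨f, hf⟩ := CfsgLib.Invol.A8.exists_injective_gl_four_two
  let ψ : H →* Equiv.Perm (Fin 8) := (alternatingGroup (Fin 8)).subtype.comp (f.comp H.subtype)
  have hψ : Function.Injective ψ := (Subgroup.subtype_injective _).comp (hf.comp H.subtype_injective)
  have hev : ∀ h, Equiv.Perm.sign (ψ h) = 1 := fun h =>
    Equiv.Perm.mem_alternatingGroup.1 (f (H.subtype h)).2
  by_cases h5 : 5 ∣ Nat.card H
  · rcases five_case ψ hψ hev hcore hns h5 with h | h | h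
    · exact Or.inl h
    · exact Or.inr (Or.inl h)
    · exact Or.inr (Or.inr (Or.inl h))
  · haveI := simple_of_not_five ψ hψ hev hns h5 hcore
    rcases (card_of_not_five ψ hψ hev hns h5).1 with h | h
    · obtain ⟨h3s, h3c⟩ := gl_three_two
      haveI := h3s
      obtain ⟨a⟩ := CfsgLib.Perm.Small.s168_equiv_model h
      obtain ⟨b⟩ := CfsgLib.Perm.Small.s168_equiv_model h3c
      exact Or.inr (Or.inr (Or.inr ⟨a.trans b.symm⟩))
    · exact absurd h (no_1344 H)

end Cfsg.Agent.S2553
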