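import Cfsg.Statements.S0515
import Cfsg.Agent.Lib.SolvSignalizer.Main

set_option autoImplicit false
open Cfsg

namespace Cfsg.Agent.S0515

/-- Inside a finite group, let A be an elementary abelian p-subgroup of order at least p^3 normalizing a subgroup K of
order prime to p. If the centralizer in K of every non-identity element of A is solvable, then K is solvable. -/
theorem result {X : Type*} [Group X] [Finite X]
    (p : ℕ) [Fact p.Prime] (A K : Subgroup X) (hA : IsMulCommutative A) (hAp : ∀ a ∈ A, a ^ p = 1)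
    (hA3 : p ^ 3 ≤ Nat.card A) (hK : (Nat.card K).Coprime p) (hAK : A ≤ Subgroup.normalizer (K : Set X))
    (hC : ∀ a ∈ A, a ≠ 1 → Group.IsSolvable ((K ⊓ Subgroup.centralizer ({a} : Set X) : Subgroup X))) :
    Group.IsSolvable K := by
  have hA' : Cfsg.IsElementaryAbelian p A := ⟨hA, hAp⟩
  have hKp : ¬ p ∣ Nat.card K := ((Fact.out : p.Prime).coprime_iff_not_dvd).1 hK.symm
  have hcomm : ∀ a ∈ A, A ≤ Subgroup.normalizer
      ((Subgroup.centralizer ({a} : Set X) : Subgroup X) : Set X) := fun a ha =>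
    CfsgLib.SolvSignalizer.A_normalizes_centralizer hA' ha
  obtain ⟨Y, hY, hYθ⟩ := CfsgLib.SolvSignalizer.exists_complete (p := p) (A := A)
    (θ := fun a => K ⊓ Subgroup.centralizer ({a} : Set X)) hA' hA3
    ⟨⟨fun a _ _ => inf_le_right, fun a _ _ hd => hKp (hd.trans (Subgroup.card_dvd_of_le inf_le_left)),
      fun a ha _ b hb x hx => CfsgLib.Coprime.conj_mem_of_le_normalizer
        (CfsgLib.Coprime.inf_le_normalizer hAK (hcomm a ha)) hb hx,
      fun a _ _ b _ _ => inf_le_inf_right _ inf_le_left⟩, hC⟩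
  refine CfsgLib.Coprime.isSolvable_of_le ?_ hY.1
  exact CfsgLib.SolvSignalizer.le_of_fixed_points hA'
    (le_trans (Nat.pow_le_pow_right (Fact.out : p.Prime).pos (by norm_num)) hA3) hAK hKp hYθ

end Cfsg.Agent.S0515
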