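import Cfsg.Statements.S0132
import Cfsg.Agent.Lib.Fusion.Hall

set_option autoImplicit false
open Cfsg

namespace Cfsg.Agent.S0132

/-- A minimal non-p-nilpotent finite group is a minimal non-nilpotent group with a normal Sylow p-subgroup. -/
theorem result {G : Type*} [Group G] [Finite G] {p : ℕ} [Fact p.Prime] (h1 : ¬ Cfsg.HasNormalPComplement p G) (h2 : ∀ H : Subgroup G, H ≠ ⊤ → Cfsg.HasNormalPComplement p H) : (∀ H : Subgroup G, H ≠ ⊤ → Group.IsNilpotent H) ∧ ¬ Group.IsNilpotent G ∧ ∀ P : Sylow p G, (P : Subgroup G).Normal := by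
  classical
  let P0 : Sylow p G := default
  obtain ⟨Q, hQP, g, hgN, hgc, hgC⟩ : ∃ Q : Subgroup G, Q ≤ (P0 : Subgroup G) ∧
      ∃ g ∈ Subgroup.normalizer (Q : Set G), Nat.Coprime (orderOf g) p ∧
        g ∉ Subgroup.centralizer (Q : Set G) := by
    by_contra hcon
    refine h1 (CfsgLib.Fusion.hasNormalPComplement_of_locallyPNilpotentAction P0 ?_)
    intro Q hQ g hg hgc
    by_contra hgC
    exact hcon ⟨Q, hQ, g, hg, hgc, hgC⟩
  obtain ⟨q, hq, x, hxg, hxq, hxC⟩ : ∃ q : ℕ, q.Prime ∧ ∃ x ∈ Subgroup.zpowers g,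
      (∃ k, x ^ q ^ k = 1) ∧ x ∉ Subgroup.centralizer (Q : Set G) := by
    by_contra hcon
    refine hgC (CfsgLib.Fusion.le_of_forall_prime_pow
      (fun q hq x hx hk => ?_) (Subgroup.mem_zpowers g))
    by_contra hx'
    exact hcon ⟨q, hq, x, hx, hk, hx'⟩
  haveI := Fact.mk hq
  have hxN : x ∈ Subgroup.normalizer (Q : Set G) := (Subgroup.zpowers_le.2 hgN) hxg
  have hxc : Nat.Coprime (orderOf x) p := Nat.Coprime.coprime_dvd_left
    ((Subgroup.orderOf_dvd_natCard _ hxg).trans (Nat.card_zpowers g).dvd) hgc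
  have hQp : IsPGroup p Q := P0.2.to_le hQP
  set H := Q ⊔ Subgroup.zpowers x with hH
  have hHN : H ≤ Subgroup.normalizer (Q : Set G) :=
    sup_le Subgroup.le_normalizer (Subgroup.zpowers_le.2 hxN)
  have hHtop : H = ⊤ := by
    by_contra hne
    refine hxC (Subgroup.mem_centralizer_iff.2 fun v hv => ?_)
    have hres := h2 H hne
    haveI hKn := CfsgLib.Fusion.pResidual_normal (G := H) (p := p)
    haveI hQn : (Q.subgroupOf H).Normal :=
      Subgroup.normal_subgroupOf_iff_le_normalizer le_sup_left |>.2 hHN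
    have hxH : x ∈ H := Subgroup.mem_sup_right (Subgroup.mem_zpowers x)
    have hxK : (⟨x, hxH⟩ : H) ∈ Cfsg.pResidual p H :=
      CfsgLib.Fusion.mem_pResidual (by rwa [Subgroup.orderOf_mk])
    have hdis : Disjoint (Cfsg.pResidual p H) (Q.subgroupOf H) := by
      rw [Subgroup.disjoint_def]
      intro y hy hy'
      obtain ⟨k, hk⟩ := hQp ⟨y, hy'⟩
      have hk' : y ^ p ^ k = 1 := Subtype.ext (by simpa using congrArg Subtype.val hk)
      exact orderOf_eq_one_iff.1 (Nat.eq_one_of_dvd_coprimes (Nat.Coprime.pow_right k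
        (CfsgLib.Fusion.hasNormalPComplement_iff_coprime.1 hres y hy)) dvd_rfl
        (orderOf_dvd_of_pow_eq_one hk'))
    have hv' : v ∈ H := Subgroup.mem_sup_left hv
    exact congrArg Subtype.val (Subgroup.commute_of_normal_of_disjoint _ _ hKn hQn hdis
      ⟨x, hxH⟩ ⟨v, hv'⟩ hxK hv).eq.symm
  haveI hQn : Q.Normal := Subgroup.normalizer_eq_top_iff.1 (top_le_iff.1 (hHtop ▸ hHN))
  have hqp : q ≠ p := by
    rintro rfl
    obtain ⟨k, hk⟩ := hxq
    exact hxC (by
      rw [orderOf_eq_one_iff.1 (Nat.eq_one_of_dvd_coprimes (Nat.Coprime.pow_right k hxc)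
        dvd_rfl (orderOf_dvd_of_pow_eq_one hk))]
      exact one_mem _)
  have hcard : Nat.card G ∣ Nat.card Q * Nat.card (Subgroup.zpowers x) := by
    have e1 := Subgroup.relIndex_sup_right (Subgroup.zpowers x) Q
    rw [show Subgroup.zpowers x ⊔ Q = ⊤ by rw [sup_comm]; exact hHtop,
      Subgroup.relIndex_top_right] at e1
    rw [← Subgroup.card_mul_index Q, e1]
    exact Nat.mul_dvd_mul_left _ (Subgroup.relIndex_dvd_card _ _)
  obtain ⟨k, hk⟩ := hxq
  have hxqk : Nat.card (Subgroup.zpowers x) ∣ q ^ k :=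
    (Nat.card_zpowers x).dvd.trans (orderOf_dvd_of_pow_eq_one hk)
  have hQi : ¬ p ∣ Q.index := by
    intro hd
    have h3 : Q.index ∣ Nat.card (Subgroup.zpowers x) := by
      refine Nat.dvd_of_mul_dvd_mul_left (Nat.card_pos (α := Q)) ?_
      rw [Subgroup.card_mul_index]
      exact hcard
    exact hqp ((Nat.prime_dvd_prime_iff_eq Fact.out hq).1
      ((Fact.out : p.Prime).dvd_of_dvd_pow (hd.trans (h3.trans hxqk)))).symm
  have hPn : ∀ P : Sylow p G, (P : Subgroup G).Normal := by
    intro P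
    have hS : (hQp.toSylow hQi : Subgroup G) = Q := IsPGroup.toSylow_coe hQp hQi
    haveI : Subsingleton (Sylow p G) := @Unique.instSubsingleton _ (Sylow.unique_of_normal
      (hQp.toSylow hQi) (hS.symm ▸ hQn))
    rw [Subsingleton.elim P (hQp.toSylow hQi), hS]
    exact hQn
  refine ⟨fun H hH => ?_, fun hnil => h1 ?_, hPn⟩
  · refine (Group.isNilpotent_of_finite_tfae.out 3 0).1 fun r hr S => ?_
    haveI := hr
    rcases eq_or_ne r p with rfl | hrp
    · -- `S` is the intersection with the normal Sylow subgroup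
      haveI : (Q.subgroupOf H).Normal := Subgroup.Normal.subgroupOf hQn H
      have hle : (S : Subgroup H) ≤ Q.subgroupOf H := by
        intro s hs
        obtain ⟨T, hT⟩ := ((S.2.map H.subtype)).exists_le_sylow
        have hTQ : (T : Subgroup G) = Q := by
          haveI := hPn T
          haveI : Subsingleton (Sylow r G) := @Unique.instSubsingleton _ (Sylow.unique_of_normal T (hPn T))
          rw [Subsingleton.elim T (hQp.toSylow hQi), IsPGroup.toSylow_coe]
        exact hTQ ▸ hT ⟨s, hs, rfl⟩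
      rw [← S.3 ((hQp.to_le inf_le_left).of_equiv
        (Subgroup.subgroupOfEquivOfLe (inf_le_right : Q ⊓ H ≤ H)).symm |>.to_le
        (fun y hy => ⟨hy, y.2⟩)) hle]
      infer_instance
    · -- an `r`-element lies in the complement
      haveI hKn := CfsgLib.Fusion.pResidual_normal (G := H) (p := p)
      have hK := CfsgLib.Fusion.hasNormalPComplement_iff_coprime.1 (h2 H hH)
      have hle : (S : Subgroup H) ≤ Cfsg.pResidual p H := by
        intro s hs
        refine CfsgLib.Fusion.mem_pResidual ?_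
        obtain ⟨j, hj⟩ := S.2 ⟨s, hs⟩
        exact Nat.Coprime.coprime_dvd_left (orderOf_dvd_of_pow_eq_one (congrArg Subtype.val hj))
          (Nat.Coprime.pow_left j ((Nat.coprime_primes hr.out Fact.out).2 hrp))
      have hKq : IsPGroup q (Cfsg.pResidual p H) := by
        intro y
        have hy := hK y y.2
        have hd : orderOf ((y : H) : G) ∣ q ^ k * Nat.card Q :=
          (orderOf_dvd_natCard _).trans
            (hcard.trans (by rw [mul_comm]; exact Nat.mul_dvd_mul_right hxqk _))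
        obtain ⟨a, ha⟩ := hQp.exists_card_eq
        rw [Subgroup.orderOf_coe, ha] at hd
        have hd' : orderOf (y : H) ∣ q ^ k :=
          (Nat.Coprime.pow_right a hy).dvd_of_dvd_mul_right hd
        exact ⟨k, Subtype.ext (orderOf_dvd_iff_pow_eq_one.1 hd')⟩
      rcases eq_or_ne r q with rfl | hrq
      · rw [← S.3 hKq hle]
        exact hKn
      · have hb : (S : Subgroup H) = ⊥ := disjoint_self.1
          ((IsPGroup.disjoint_of_ne r q hrq _ _ S.2 hKq).mono_right hle)
        rw [hb]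
        infer_instance
  · refine CfsgLib.Fusion.hasNormalPComplement_of_noExtraFusion P0 ?_
    intro a ha b hb ⟨c, hc⟩
    obtain ⟨u, hu, hu'⟩ := CfsgLib.Fusion.conj_eq_conj_mem_of_nilpotent (H := (⊤ : Subgroup G))
      (by haveI := hnil; infer_instance) le_top P0.2
      (by rw [Subgroup.relIndex_top_right]; exact P0.not_dvd_index) ha hb (Subgroup.mem_top c) hc
    exact ⟨u, hu, hu'⟩

end Cfsg.Agent.S0132
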