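import Cfsg.Statements.S0673
import Mathlib


set_option autoImplicit false
open Cfsg

namespace Cfsg.Agent.S0673

/-- In characteristic `p`, the translation-invariant subspaces of the space of functions on `ZMod p` are exactly the spaces of polynomial functions of degree less than `r`, one for each `r ≤ p`, of dimension `r`. -/
theorem result {p : ℕ} [Fact p.Prime] {K : Type*} [Field K] [CharP K p] (W : Submodule K (ZMod p → K)) (hW : ∀ f ∈ W, (fun j => f (j - 1)) ∈ W) : ∃ r : ℕ, r ≤ p ∧ Module.finrank K W = r ∧ ∀ f : ZMod p → K, f ∈ W ↔ ∃ P : Polynomial K, P.degree < r ∧ ∀ j : ZMod p, f j = P.eval (ZMod.cast j : K) := by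
  classical
  have hp := (Fact.out : p.Prime)
  haveI : NeZero p := ⟨hp.ne_zero⟩
  let ι : ZMod p →+* K := ZMod.castHom (dvd_refl p) K
  have hι : Function.Injective ι := ι.injective
  let ev : Polynomial K →ₗ[K] (ZMod p → K) := LinearMap.pi fun j => Polynomial.leval (ι j)
  have hev : ∀ P j, ev P j = P.eval (ι j) := fun P j => rfl
  let V : ℕ → Submodule K (ZMod p → K) := fun r => (Polynomial.degreeLT K r).map ev
  have hmem : ∀ r f, f ∈ V r ↔ ∃ P : Polynomial K, P.degree < r ∧ ∀ j, f j = P.eval (ι j) := by
    intro r f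
    simp only [V, Submodule.mem_map, Polynomial.mem_degreeLT]
    exact exists_congr fun P => and_congr_right fun _ => ⟨fun h j => by rw [← h, hev], fun h => funext fun j => by rw [hev, h]⟩
  have hdim : ∀ r, r ≤ p → Module.finrank K ↥(V r) = r := by
    intro r hr
    have hinj : Function.Injective (ev.comp (Polynomial.degreeLT K r).subtype) := by
      rw [← LinearMap.ker_eq_bot, LinearMap.ker_eq_bot']
      rintro ⟨P, hP⟩ h
      rw [Polynomial.mem_degreeLT] at hP
      apply Subtype.ext
      show P = 0
      by_contra hne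
      refine hne (Polynomial.eq_zero_of_natDegree_lt_card_of_eval_eq_zero P hι (fun j => congrFun h j) ?_)
      rw [ZMod.card]
      exact lt_of_lt_of_le ((Polynomial.natDegree_lt_iff_degree_lt hne).2 hP) hr
    have h := LinearMap.finrank_range_of_inj hinj
    rw [LinearMap.range_comp, Submodule.range_subtype] at h
    show Module.finrank K ↥((Polynomial.degreeLT K r).map ev) = r
    rw [h, (Polynomial.degreeLTEquiv K r).finrank_eq, Module.finrank_fin_fun]
  have hmono : ∀ r r', r ≤ r' → V r ≤ V r' := fun r r' h => Submodule.map_mono (Polynomial.degreeLT_mono h)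
  have hV0 : V 0 = ⊥ := Submodule.finrank_eq_zero.1 (hdim 0 (Nat.zero_le _))
  have htop : V p = ⊤ := Submodule.eq_top_of_finrank_eq (by rw [hdim p le_rfl, Module.finrank_fintype_fun_eq_card, ZMod.card])
  let D : (ZMod p → K) →ₗ[K] (ZMod p → K) := LinearMap.id - LinearMap.funLeft K K (fun j => j - 1)
  have hD : ∀ f j, D f j = f j - f (j - 1) := fun f j => rfl
  have hDW : ∀ f ∈ W, D f ∈ W := fun f hf => W.sub_mem hf (hW f hf)
  have hDV : ∀ r f, f ∈ V (r + 1) → D f ∈ V r := by
    intro r f hf
    obtain ⟨P, hP, hPf⟩ := (hmem _ _).1 hf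
    refine (hmem _ _).2 ⟨P - Polynomial.taylor (-1) P, ?_, fun j => ?_⟩
    · by_cases hd : P.natDegree = 0
      · rw [Polynomial.eq_C_of_natDegree_eq_zero hd, Polynomial.taylor_C, sub_self, Polynomial.degree_zero]
        exact WithBot.bot_lt_coe r
      · have hne : P ≠ 0 := fun h => hd (by rw [h, Polynomial.natDegree_zero])
        refine lt_of_lt_of_le (Polynomial.degree_sub_lt_left (Polynomial.degree_taylor P (-1)).symm hne
          (by rw [Polynomial.leadingCoeff_taylor])) ?_
        rw [Polynomial.degree_eq_natDegree hne, Nat.cast_le]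
        have := (Polynomial.natDegree_lt_iff_degree_lt hne).2 hP
        omega
    · rw [hD, hPf, hPf, Polynomial.eval_sub, Polynomial.taylor_eval, map_sub, map_one, sub_eq_add_neg (ι j) 1]
  have hker : ∀ f, D f = 0 → ∀ j, f j = f 0 := by
    intro f hf j
    rw [← ZMod.natCast_zmod_val j]
    induction j.val with
    | zero => rw [Nat.cast_zero]
    | succ i ih =>
      have h := congrFun hf ((i + 1 : ℕ) : ZMod p)
      rw [hD, Pi.zero_apply, sub_eq_zero] at h
      rw [h, Nat.cast_add, Nat.cast_one, add_sub_cancel_right, ih]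
  have hker1 : ∀ f, D f = 0 → f ∈ V 1 := by
    intro f hf
    refine (hmem _ _).2 ⟨Polynomial.C (f 0), ?_, fun j => by rw [Polynomial.eval_C, hker f hf j]⟩
    exact lt_of_le_of_lt Polynomial.degree_C_le (by norm_num)
  have hsurj : ∀ r, r + 1 ≤ p → ∀ u ∈ V r, ∃ v ∈ V (r + 1), D v = u := by
    intro r hr u hu
    have heq : (V (r + 1)).map D = V r := by
      refine Submodule.eq_of_le_of_finrank_le (Submodule.map_le_iff_le_comap.2 fun f hf => hDV r f hf) ?_
      have h := LinearMap.finrank_range_add_finrank_ker (D.domRestrict (V (r + 1)))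
      rw [LinearMap.range_domRestrict, hdim (r + 1) hr] at h
      have hle : Module.finrank K ↥(LinearMap.ker (D.domRestrict (V (r + 1)))) ≤ 1 := by
        let z : ↥(LinearMap.ker (D.domRestrict (V (r + 1)))) →ₗ[K] K :=
          (LinearMap.proj (0 : ZMod p)).comp ((V (r + 1)).subtype.comp (LinearMap.ker (D.domRestrict (V (r + 1)))).subtype)
        refine (LinearMap.finrank_le_finrank_of_injective (f := z) ?_).trans (by rw [Module.finrank_self])
        rintro ⟨⟨f, hf⟩, hfk⟩ ⟨⟨f', hf'⟩, hfk'⟩ h0
        apply Subtype.ext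
        apply Subtype.ext
        funext j
        exact ((hker f hfk j).trans h0).trans (hker f' hfk' j).symm
      rw [hdim r (by omega)]
      omega
    exact (Submodule.mem_map.1 (heq.symm ▸ hu))
  have main : ∀ r, r + 1 ≤ p → ∀ f ∈ W, f ∈ V (r + 1) → f ∉ V r → V (r + 1) ≤ W := by
    intro r
    induction r with
    | zero =>
      intro hr f hfW hf hf0
      have heq : Submodule.span K {f} = V 1 := by
        refine Submodule.eq_of_le_of_finrank_le (Submodule.span_le.2 (by simpa using hf)) ?_
        rw [hdim 1 hr, finrank_span_singleton]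
        exact fun h => hf0 (h ▸ (V 0).zero_mem)
      rw [← heq, Submodule.span_le]
      simpa using hfW
    | succ r ih =>
      intro hr f hfW hf hf'
      have hDf : D f ∉ V r := fun h => by
        obtain ⟨v, hv, he⟩ := hsurj r (by omega) _ h
        have h1 := hker1 (f - v) (by rw [map_sub, he, sub_self])
        exact hf' (by simpa using Submodule.add_mem _ (hmono 1 (r + 1) (by omega) h1) hv)
      have hle := ih (by omega) (D f) (hDW f hfW) (hDV _ f hf) hDf
      have heq : V (r + 1) ⊔ Submodule.span K {f} = V (r + 2) := by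
        refine Submodule.eq_of_le_of_finrank_le (sup_le (hmono _ _ (by omega)) (Submodule.span_le.2 (by simpa using hf))) ?_
        have hlt : V (r + 1) < V (r + 1) ⊔ Submodule.span K {f} := lt_of_le_of_ne le_sup_left fun h =>
          hf' (h.symm ▸ Submodule.mem_sup_right (Submodule.mem_span_singleton_self f))
        have := Submodule.finrank_lt_finrank_of_lt hlt
        rw [hdim (r + 1) (by omega)] at this
        rw [hdim (r + 2) hr]
        omega
      rw [← heq]
      exact sup_le hle (Submodule.span_le.2 (by simpa using hfW))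
  have hex : ∃ r, W ≤ V r := ⟨p, htop ▸ le_top⟩
  have hr := Nat.find_spec hex
  have hrp : Nat.find hex ≤ p := Nat.find_le (htop ▸ le_top)
  have heq : W = V (Nat.find hex) := by
    refine le_antisymm hr ?_
    rcases Nat.eq_zero_or_pos (Nat.find hex) with h | h
    · rw [h, hV0]; exact bot_le
    · have hnot := Nat.find_min hex (show Nat.find hex - 1 < Nat.find hex by omega)
      obtain ⟨f, hfW, hf⟩ := SetLike.not_le_iff_exists.1 hnot
      have h2 := main (Nat.find hex - 1) (by omega) f hfW (by rw [Nat.sub_add_cancel h]; exact hr hfW) hf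
      rwa [Nat.sub_add_cancel h] at h2
  refine ⟨Nat.find hex, hrp, ?_, fun f => ?_⟩
  · conv_lhs => rw [heq]
    exact hdim _ hrp
  · conv_lhs => rw [heq]
    exact hmem _ f

end Cfsg.Agent.S0673
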