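import Cfsg.Statements.S4702
import Cfsg.Agent.Lib.Perm.Zassenhaus.OddDegree
import Cfsg.Agent.Lib.Classical.SLBasic

set_option autoImplicit false
open Cfsg

namespace Cfsg.Agent.S4702

/-- Let G be a triply transitive permutation group on a finite set of odd size m ≥ 3 in which only the identity fixes three or more points. Then m = 2^a + 1 for some a ≥ 1 and G is isomorphic to SL(2, 2^a). -/
theorem result {α : Type*} [Fintype α] [DecidableEq α] (hm : 3 ≤ Fintype.card α) (hodd : Odd (Fintype.card α)) (G : Subgroup (Equiv.Perm α)) (h3 : MulAction.IsMultiplyPretransitive G α 3) (hfix : ∀ g : G, 3 ≤ Nat.card (MulAction.fixedBy α g) → g = 1) : ∃ a : ℕ, 1 ≤ a ∧ Fintype.card α = 2 ^ a + 1 ∧ ∃ (F : Type) (_ : Field F) (_ : Fintype F), Fintype.card F = 2 ^ a ∧ Nonempty (G ≃* Matrix.SpecialLinearGroup (Fin 2) F) := by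
  classical
  haveI := h3
  have hsharp : ∀ x : Fin 3 ↪ α, MulAction.stabilizer G x = ⊥ := fun x => by
    rw [eq_bot_iff]
    intro g hg
    rw [Subgroup.mem_bot]
    refine hfix g ?_
    have h1 : ∀ i, g • x i = x i := fun i => congrArg (fun e : Fin 3 ↪ α => e i) hg
    calc 3 = Nat.card (Fin 3) := (Nat.card_fin 3).symm
      _ ≤ Nat.card (MulAction.fixedBy α g) := Nat.card_le_card_of_injective (fun i => ⟨x i, h1 i⟩)
        fun i j hij => x.injective (congrArg Subtype.val hij)
  haveI : Nonempty α := Fintype.card_pos_iff.1 (by omega)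
  obtain ⟨a⟩ := (inferInstance : Nonempty α)
  obtain ⟨p, F, hp, hFa, -, hreg, -, hexp, -⟩ := CfsgLib.Perm.ZOdd.point_kernel h3 hsharp hm a
  obtain ⟨y, hy⟩ : ∃ y, y ≠ a := Fintype.exists_ne_of_one_lt_card (by omega) a
  have hcard : Nat.card F = Fintype.card α - 1 := by
    rw [← show Fintype.card {x : α // x ≠ a} = Fintype.card α - 1 by
      rw [Fintype.card_subtype_compl, Fintype.card_subtype_eq], ← Nat.card_eq_fintype_card]
    refine Nat.card_eq_of_bijective (fun u : F => (⟨(u : G) • y, fun h => hy ?_⟩ : {x : α // x ≠ a})) ⟨?_, ?_⟩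
    · exact MulAction.injective (u : G) (h.trans (hFa u.2).symm)
    · intro u v huv
      obtain ⟨w, -, hw⟩ := hreg y ((v : G) • y) hy (fun h => hy (MulAction.injective (v : G) (h.trans (hFa v.2).symm)))
      exact (hw u (congrArg Subtype.val huv)).trans (hw v rfl).symm
    · intro w
      obtain ⟨u, hu, -⟩ := hreg y w hy w.2
      exact ⟨u, Subtype.ext hu⟩
  haveI : Fact p.Prime := ⟨hp⟩
  obtain ⟨k, hk⟩ := IsPGroup.iff_card.1 (fun u : F => ⟨1, by rw [pow_one]; exact Subtype.ext (hexp u u.2)⟩ : IsPGroup p F)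
  have hp2 : p = 2 := by
    obtain ⟨j, hj⟩ := hodd
    have h2 : 2 ∣ p ^ k := ⟨j, by rw [← hk, hcard]; omega⟩
    exact ((Nat.prime_dvd_prime_iff_eq Nat.prime_two hp).1 (Nat.prime_two.dvd_of_dvd_pow h2)).symm
  subst hp2
  have hk1 : 1 ≤ k := by
    by_contra h
    have : k = 0 := by omega
    subst this
    rw [hcard, pow_zero] at hk
    omega
  have hα : Fintype.card α = 2 ^ k + 1 := by rw [← hk, hcard]; omega
  obtain ⟨K, iF, iK, hK, ⟨e⟩⟩ := CfsgLib.Perm.ZOdd.iso_pgl hk1 hα h3 hsharp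
  have h20 : (2 : K) = 0 := by
    have h1 : (Fintype.card K : K) = 0 := by simp
    rw [hK, Nat.cast_pow, Nat.cast_ofNat] at h1
    exact eq_zero_of_pow_eq_zero h1
  have hinj : Function.Injective (Matrix.SpecialLinearGroup.toPGL (n := Fin 2) (R := K)) := by
    rw [← MonoidHom.ker_eq_bot_iff, Matrix.SpecialLinearGroup.toPGL_ker, eq_bot_iff]
    intro A hA
    rw [Matrix.SpecialLinearGroup.mem_center_iff] at hA
    obtain ⟨r, hr, hA⟩ := hA
    rw [Fintype.card_fin] at hr
    have h1 : (r - 1) ^ 2 = 0 := by linear_combination hr + (1 - r) * h20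
    have hr1 : r = 1 := sub_eq_zero.1 (eq_zero_of_pow_eq_zero h1)
    rw [hr1, map_one] at hA
    exact Subgroup.mem_bot.2 (Subtype.ext hA.symm)
  haveI : Finite (Matrix.ProjGenLinGroup (Fin 2) K) := Finite.of_surjective _ Matrix.ProjGenLinGroup.mk_surjective
  haveI := Fintype.ofFinite (Matrix.ProjGenLinGroup (Fin 2) K)
  have hbij := (Fintype.bijective_iff_injective_and_card _).2 ⟨hinj, by
    rw [← Nat.card_eq_fintype_card, ← Nat.card_eq_fintype_card, CfsgLib.Classical.card_pgl_eq]⟩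
  exact ⟨k, hk1, hα, K, iF, iK, hK, ⟨e.trans (MulEquiv.ofBijective _ hbij).symm⟩⟩

end Cfsg.Agent.S4702
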