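import Cfsg.Statements.S3920
import Cfsg.Agent.Lib.PGroup.DihedralSubgroups
-- import your own Cfsg.Agent.* helpers here

set_option autoImplicit false
open Cfsg

namespace Cfsg.Agent.S3920

/-- Say that a group has self-centralizing non-cyclic subgroups when every non-cyclic subgroup H satisfies C_G(H) ≤ H. For n ≥ 3, the dihedral group of order 2n has self-centralizing non-cyclic subgroups if and only if n is odd or a power of 2. -/
theorem result (n : ℕ) (hn : 3 ≤ n) : (∀ H : Subgroup (DihedralGroup n), ¬ IsCyclic ↥H → Subgroup.centralizer (H : Set (DihedralGroup n)) ≤ H) ↔ (Odd n ∨ ∃ k : ℕ, n = 2 ^ k) := by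
  haveI : NeZero n := ⟨by omega⟩
  constructor
  · intro h
    by_contra hno
    obtain ⟨hnodd, hnpow⟩ := not_or.1 hno
    push Not at hnpow
    obtain ⟨k, m, hm, hnkm⟩ := Nat.exists_eq_two_pow_mul_odd (show n ≠ 0 by omega)
    have hk : k ≠ 0 := by
      rintro rfl
      exact hnodd (by rw [hnkm, pow_zero, one_mul]; exact hm)
    have hm3 : 3 ≤ m := by
      rcases hm with ⟨c, rfl⟩
      rcases c with _ | c
      · exact absurd (by simpa using hnkm) (hnpow k)
      · omega
    set A := AddSubgroup.zmultiples ((2 ^ k : ℕ) : ZMod n) with hA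
    have hnc : ¬ IsCyclic (CfsgLib.PGroup.dihedralSub A) := fun hc => by
      refine CfsgLib.PGroup.dihedralSub_nonabelian
        (AddSubgroup.mem_zmultiples ((2 ^ k : ℕ) : ZMod n)) ?_ inferInstance
      rw [← Nat.cast_add, Ne, ZMod.natCast_eq_zero_iff, hnkm]
      intro hd
      have h1 := Nat.le_of_dvd (by positivity) hd
      have h2 : 2 ^ k * 3 ≤ 2 ^ k * m := Nat.mul_le_mul_left _ hm3
      have h3 : 0 < 2 ^ k := by positivity
      omega
    obtain ⟨j, rfl⟩ : ∃ j, k = j + 1 := ⟨k - 1, by omega⟩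
    set c : ZMod n := ((2 ^ j * m : ℕ) : ZMod n) with hc
    have h2c : c + c = 0 := by
      rw [hc, ← Nat.cast_add, ZMod.natCast_eq_zero_iff, hnkm]
      exact dvd_of_eq (by ring)
    have hcH : (DihedralGroup.r c) ∈ CfsgLib.PGroup.dihedralSub A := by
      refine h _ hnc (Subgroup.mem_centralizer_iff.2 ?_)
      rintro (i | i) _
      · rw [DihedralGroup.r_mul_r, DihedralGroup.r_mul_r, add_comm]
      · rw [DihedralGroup.r_mul_sr, DihedralGroup.sr_mul_r, sub_eq_add_neg,
          ← eq_neg_of_add_eq_zero_left h2c]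
    rw [CfsgLib.PGroup.r_mem_dihedralSub, hA, AddSubgroup.mem_zmultiples_iff] at hcH
    obtain ⟨t, ht⟩ := hcH
    rw [hc, zsmul_eq_mul, ← Int.cast_natCast, ← Int.cast_mul, ← Int.cast_natCast (R := ZMod n) (2 ^ j * m),
      ← sub_eq_zero, ← Int.cast_sub, ZMod.intCast_zmod_eq_zero_iff_dvd, hnkm] at ht
    obtain ⟨s, hs⟩ := ht
    push_cast at hs
    have h2 : (2 : ℤ) ^ j ≠ 0 := by positivity
    have hodd : Odd (m : ℤ) := by exact_mod_cast hm
    obtain ⟨w, hw⟩ := hodd
    have e : 2 * t - (m : ℤ) = 2 * (m * s) := mul_left_cancel₀ h2 (by linear_combination hs)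
    omega
  · intro hn' H hH g hg
    obtain ⟨i, a, hi, ha, ha0⟩ := CfsgLib.PGroup.exists_sr_r_of_not_isCyclic H hH
    have hgi := Subgroup.mem_centralizer_iff.1 hg _ hi
    have key : ∀ x : ZMod n, x + x = 0 → DihedralGroup.r x ∈ H := by
      intro x hx
      by_cases hx0 : x = 0
      · rw [hx0, DihedralGroup.r_zero]; exact H.one_mem
      rcases hn' with hodd | ⟨k, rfl⟩
      · exact absurd (CfsgLib.PGroup.eq_zero_of_two_torsion_of_odd hodd hx) hx0
      -- some multiple of `a` has order two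
      haveI := Fact.mk Nat.prime_two
      obtain ⟨s, -, hs⟩ := (Nat.dvd_prime_pow Nat.prime_two).1
        (show addOrderOf a ∣ 2 ^ k by
          have := addOrderOf_dvd_natCard a
          rwa [Nat.card_zmod] at this)
      obtain ⟨s, rfl⟩ : ∃ s', s = s' + 1 := ⟨s - 1, by
        rcases s with _ | s
        · exact absurd (AddMonoid.addOrderOf_eq_one_iff.1 (by simpa using hs)) ha0
        · omega⟩
      have hb0 : (2 ^ s : ℕ) • a ≠ 0 := fun e => by
        have h1 := Nat.le_of_dvd (by positivity) (addOrderOf_dvd_iff_nsmul_eq_zero.2 e)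
        rw [hs, pow_succ] at h1
        have : 0 < 2 ^ s := by positivity
        omega
      have hb2 : (2 ^ s : ℕ) • a + (2 ^ s : ℕ) • a = 0 := by
        rw [← add_nsmul, show 2 ^ s + 2 ^ s = 2 ^ (s + 1) by ring, ← hs]
        exact addOrderOf_nsmul_eq_zero a
      rw [CfsgLib.PGroup.two_torsion_eq hx hb2 hx0 hb0]
      have := H.pow_mem ha (2 ^ s)
      rwa [DihedralGroup.r_pow, mul_comm, ← nsmul_eq_mul] at this
    rcases g with j | j
    · rw [DihedralGroup.sr_mul_r, DihedralGroup.r_mul_sr, DihedralGroup.sr.injEq] at hgi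
      exact key j (by linear_combination hgi)
    · rw [DihedralGroup.sr_mul_sr, DihedralGroup.sr_mul_sr, DihedralGroup.r.injEq] at hgi
      have h1 := H.mul_mem hi (key (j - i) (by linear_combination hgi))
      rwa [DihedralGroup.sr_mul_r, add_sub_cancel] at h1

end Cfsg.Agent.S3920
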