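import Cfsg.Statements.S0340
-- import your own Cfsg.Agent.* helpers here
import Cfsg.Agent.Lib.Char.FeitZassenhaus.Main
import Cfsg.Agent.Lib.Char.SuzukiZassenhaus.Main

set_option autoImplicit false
open Cfsg

namespace Cfsg.Agent.S0340


/-- Classification of Zassenhaus groups, simple case, order-level form: a finite simple Zassenhaus group is
isomorphic to `PSL₂(F)` for some finite field `F` or is simple of Suzuki order. -/
theorem result {G Ω : Type*} [Group G] [Finite G] [MulAction G Ω]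
    [Finite Ω] (hZ : Cfsg.IsZassenhausGroup G Ω) [IsSimpleGroup G] :
    (∃ (F : Type) (_ : Field F) (_ : Fintype F), Nonempty (G ≃* Matrix.ProjectiveSpecialLinearGroup (Fin 2) F)) ∨ Cfsg.IsSuzuki G := by
  classical
  haveI : Fintype Ω := Fintype.ofFinite Ω
  have h3 := CfsgLib.Char.zassenhaus_three_le hZ
  obtain ⟨a, b, hab⟩ := Fintype.exists_pair_of_one_lt_card (show 1 < Fintype.card Ω by omega)
  rcases Nat.even_or_odd (Nat.card ↥(MulAction.stabilizer G a ⊓ MulAction.stabilizer G b : Subgroup G)) with he | ho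
  · obtain ⟨p, f, K, i1, i2, -, -, -, -, -, e⟩ := CfsgLib.Perm.ZSimple.iso_psl hZ hab he
    exact Or.inl ⟨K, i1, i2, e⟩
  obtain ⟨F, hFa, hFn, hreg, hFcard⟩ := CfsgLib.Perm.ZEven.kernel_data hZ hab
  have hfix : ∀ u ∈ F, u ≠ 1 → ∀ c : Ω, u • c = c → c = a := by
    intro u hu hu1 c hc
    by_contra hca
    exact hu1 (congrArg Subtype.val ((hreg c c hca hca).unique (y₁ := ⟨u, hu⟩) (y₂ := 1) hc (one_smul G c)))
  have P : CfsgLib.Char.FeitZ.Pt G a b F := ⟨hZ, hab, hFa, hFcard, hfix, ho⟩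
  rcases CfsgLib.Char.FeitZ.bound P with h | ⟨h2, hna, -⟩
  · obtain ⟨hc, p, f, hp, -, hf⟩ := CfsgLib.Perm.ZReg.regular_elementary hZ hab (by
      show Fintype.card Ω - 2 ≤ 2 * Nat.card (CfsgLib.Char.ZassenhausOdd.pairStab G a b)
      omega) F hFa hFn hreg
    exact Or.inl (CfsgLib.Char.SuzZ.psl_of_comm P hFn hreg hc hp hf)
  · exact Or.inr (CfsgLib.Char.SuzZ.isSuzuki_of_pt P h2 hna)


end Cfsg.Agent.S0340
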