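import Cfsg.Statements.S0346
-- import your own Cfsg.Agent.* helpers here
import Cfsg.Agent.Lib.Char.FeitZassenhaus.Main
import Cfsg.Agent.Lib.Perm.Zassenhaus.SimpleEven

set_option autoImplicit false
open Cfsg

namespace Cfsg.Agent.S0346


/-- The number of points of a finite simple Zassenhaus group is `p^k + 1` for some prime power `p^k` (the regular normal
subgroup of a point stabiliser is a `p`-group). -/
theorem result {G Ω : Type*} [Group G] [Finite G] [MulAction G Ω] [Fintype Ω]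
    (hZ : Cfsg.IsZassenhausGroup G Ω) [IsSimpleGroup G] :
    IsPrimePow (Fintype.card Ω - 1) := by
  classical
  have h3 := CfsgLib.Char.zassenhaus_three_le hZ
  obtain ⟨a, b, hab⟩ := Fintype.exists_pair_of_one_lt_card (show 1 < Fintype.card Ω by omega)
  have hpp : ∀ p f : ℕ, p.Prime → Fintype.card Ω = p ^ f + 1 → IsPrimePow (Fintype.card Ω - 1) := by
    intro p f hp hf
    refine ⟨p, f, hp.prime, Nat.pos_of_ne_zero fun h0 => ?_, by omega⟩
    rw [h0, pow_zero] at hf
    omega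
  rcases Nat.even_or_odd (Nat.card ↥(MulAction.stabilizer G a ⊓ MulAction.stabilizer G b : Subgroup G)) with he | ho
  · obtain ⟨p, f, K, _, _, hp, -, -, hΩ, -, -⟩ := CfsgLib.Perm.ZSimple.iso_psl hZ hab he
    exact hpp p f hp hΩ
  obtain ⟨F, hFa, hFn, hreg, hFcard⟩ := CfsgLib.Perm.ZEven.kernel_data hZ hab
  have hfix : ∀ u ∈ F, u ≠ 1 → ∀ c : Ω, u • c = c → c = a := by
    intro u hu hu1 c hc
    by_contra hca
    exact hu1 (congrArg Subtype.val ((hreg c c hca hca).unique (y₁ := ⟨u, hu⟩) (y₂ := 1) hc (one_smul G c)))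
  rcases CfsgLib.Char.FeitZ.bound (⟨hZ, hab, hFa, hFcard, hfix, ho⟩ : CfsgLib.Char.FeitZ.Pt G a b F) with h | ⟨h2, -, -⟩
  · obtain ⟨-, p, f, hp, -, hf⟩ := CfsgLib.Perm.ZReg.regular_elementary hZ hab (by
      show Fintype.card Ω - 2 ≤ 2 * Nat.card (CfsgLib.Char.ZassenhausOdd.pairStab G a b)
      omega) F hFa hFn hreg
    exact hpp p f hp hf
  · haveI : Fact (Nat.Prime 2) := ⟨Nat.prime_two⟩
    obtain ⟨k, hk⟩ := IsPGroup.iff_card.1 h2
    exact hpp 2 k Nat.prime_two (by omega)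

end Cfsg.Agent.S0346
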