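import Cfsg.Statements.S1473
import Cfsg.Prelude.Def_LieExceptional
import Cfsg.Agent.Lib.Coprime.Fitting
import Cfsg.Agent.Lib.Coprime.Action
import Cfsg.Agent.Lib.Coprime.Core
import Cfsg.Agent.Lib.Coprime.Hall
import Cfsg.Agent.Lib.Coprime.Subnormal
import Cfsg.Agent.Lib.Coprime.Solvable
import Cfsg.Agent.Lib.Coprime.MinimalNonNilpotent
import Mathlib.Data.Int.GCD
import Mathlib.Tactic.Group

set_option autoImplicit false
open Cfsg

namespace Cfsg.Agent.S1473

open Subgroup CfsgLib.Coprime

universe v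

theorem cn_of_equiv {A B : Type*} [Group A] [Group B] (e : A ≃* B) (h : Cfsg.IsCNGroup A) :
    Cfsg.IsCNGroup B := by
  intro b hb
  haveI : Group.IsNilpotent (centralizer ({e.symm b} : Set A)) := h _ fun e1 => hb (by
    simpa using congrArg e e1)
  have hle : centralizer ({b} : Set B) ≤ (centralizer ({e.symm b} : Set A)).map e.toMonoidHom := by
    intro c hc
    refine ⟨e.symm c, mem_centralizer_singleton_iff.2 ?_, e.apply_symm_apply c⟩
    rw [← map_mul, ← map_mul, mem_centralizer_singleton_iff.1 hc]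
  exact CfsgLib.Coprime.isNilpotent_of_le hle
    (Group.nilpotent_of_mulEquiv ((centralizer ({e.symm b} : Set A)).equivMapOfInjective _ e.injective))

variable {G : Type v} [Group G] [Finite G]

theorem fixed_in_coset {p : ℕ} [Fact p.Prime] {N : Subgroup G} [N.Normal] (hN : IsPGroup p N)
    {y k : G} (hy : (orderOf y).Coprime p) (h : y * k * y⁻¹ * k⁻¹ ∈ N) :
    ∃ n ∈ N, y * (k * n) = (k * n) * y := by
  obtain ⟨a, ha⟩ := IsPGroup.iff_card.1 hN
  have hle : zpowers y ≤ (centralizer {(QuotientGroup.mk' N k)}).comap (QuotientGroup.mk' N) := by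
    refine zpowers_le.2 (mem_comap.2 (mem_centralizer_singleton_iff.2 ?_))
    have e := (QuotientGroup.eq_one_iff _).2 h
    simp only [QuotientGroup.mk_mul, QuotientGroup.mk_inv, mul_inv_eq_one] at e
    exact mul_inv_eq_iff_eq_mul.1 e
  obtain ⟨n, hn, hc⟩ := exists_fixed_in_coset (A := zpowers y) (N := N) (k := k)
    (by rw [normalizer_eq_top (H := N)]; exact le_top)
    (by rw [Nat.card_zpowers, ha]; exact hy.pow_right a)
    (Or.inl (isSolvable_of_isMulCommutative inferInstance))
    (by rw [normalizer_eq_top (H := N)]; trivial)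
    (fun b hb => by
      refine (QuotientGroup.eq_one_iff _).1 ?_
      have e := mem_centralizer_singleton_iff.1 (mem_comap.1 (hle hb))
      simp only [QuotientGroup.mk'_apply] at e
      rw [QuotientGroup.mk_mul, QuotientGroup.mk_mul, QuotientGroup.mk_mul, e, QuotientGroup.mk_inv,
        QuotientGroup.mk_inv, mul_inv_cancel_right, mul_inv_cancel])
  exact ⟨n, hn, mem_centralizer_iff.1 hc y (mem_zpowers y)⟩

theorem quotient_pGroup (hCN : Cfsg.IsCNGroup G) {p : ℕ} [Fact p.Prime] (N : Subgroup G) [N.Normal]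
    (hN : IsPGroup p N) (hN0 : N ≠ ⊥) : Cfsg.IsCNGroup (G ⧸ N) := by
  classical
  set f := QuotientGroup.mk' N with hf
  have hfs : Function.Surjective f := QuotientGroup.mk'_surjective N
  have hfker : ∀ {g : G}, f g = 1 ↔ g ∈ N := fun {g} => QuotientGroup.eq_one_iff g
  intro x hx
  obtain ⟨r, hr, hrx⟩ := Nat.exists_prime_and_dvd (fun h => hx (orderOf_eq_one_iff.1 h))
  haveI := Fact.mk hr
  set xr := x ^ (orderOf x / r) with hxr
  have hxr' : orderOf xr = r := orderOf_pow_orderOf_div (orderOf_pos x).ne' hrx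
  suffices h : Group.IsNilpotent (centralizer ({xr} : Set (G ⧸ N))) by
    refine CfsgLib.Coprime.isNilpotent_of_le (fun c hc => ?_) h
    exact mem_centralizer_singleton_iff.2
      ((show Commute c x from mem_centralizer_singleton_iff.1 hc).pow_right _)
  obtain ⟨k, hk⟩ := hfs xr
  by_cases hrp : r = p
  · subst hrp
    set X := (centralizer ({xr} : Set (G ⧸ N))).comap f with hX
    have hXc : ∀ {y : G}, y ∈ X → y * k * y⁻¹ * k⁻¹ ∈ N := by
      intro y hy
      rw [← hfker, map_mul, map_mul, map_mul, map_inv, map_inv, hk,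
        mem_centralizer_singleton_iff.1 hy, mul_inv_cancel_right, mul_inv_cancel]
    set P := N ⊔ zpowers k with hP
    have hPp : IsPGroup r P := by
      refine hN.to_sup_of_normal_left ?_
      have h1 : k ^ r ∈ N := by rw [← hfker, map_pow, hk, ← hxr', pow_orderOf_eq_one]
      obtain ⟨a, ha⟩ := hN ⟨_, h1⟩
      rintro ⟨_, i, rfl⟩
      refine ⟨a + 1, Subtype.ext ?_⟩
      show (k ^ i) ^ r ^ (a + 1) = 1
      rw [← zpow_natCast, ← zpow_mul, mul_comm, zpow_mul, zpow_natCast, pow_succ', pow_mul,
        show (k ^ r) ^ r ^ a = 1 from congrArg Subtype.val ha, one_zpow]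
    haveI := hPp.isNilpotent
    set Z := (N.subgroupOf P ⊓ center P).map P.subtype with hZ
    have hZ0 : Z ≠ ⊥ := by
      rw [hZ, ne_eq, Subgroup.map_eq_bot_iff_of_injective _ P.subtype_injective]
      exact nilpotent_inf_center_ne_bot _ fun h => hN0 (by
        rw [← map_subgroupOf_eq_of_le (le_sup_left : N ≤ P), h, Subgroup.map_bot])
    have hZmem : ∀ {z : G}, z ∈ Z ↔ z ∈ N ∧ ∀ w ∈ P, w * z = z * w := by
      intro z
      constructor
      · rintro ⟨w, hw, rfl⟩
        exact ⟨hw.1, fun v hv => congrArg Subtype.val (mem_center_iff.1 hw.2 ⟨v, hv⟩)⟩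
      · rintro ⟨h1, h2⟩
        exact ⟨⟨z, mem_sup_left h1⟩, ⟨h1, mem_center_iff.2 fun v => Subtype.ext (h2 v v.2)⟩, rfl⟩
    have hXP : X ≤ normalizer (P : Set G) := by
      intro y hy
      rw [← conjBy_eq_self_iff]
      refine eq_of_le_of_card_ge ?_ (card_conjBy y P).ge
      rw [conjBy, hP, Subgroup.map_sup]
      refine sup_le (le_trans (le_of_eq (conjBy_eq_self_iff.2 ?_)) le_sup_left) ?_
      · rw [normalizer_eq_top (H := N)]; trivial
      · rw [MonoidHom.map_zpowers, zpowers_le]
        show y * k * y⁻¹ ∈ _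
        rw [show y * k * y⁻¹ = (y * k * y⁻¹ * k⁻¹) * k by group]
        exact mul_mem (mem_sup_left (hXc hy)) (mem_sup_right (mem_zpowers k))
    have hPX : P ≤ X := by
      refine sup_le (fun n hn => ?_) (zpowers_le.2 ?_)
      · rw [hX, mem_comap, hfker.2 hn]; exact one_mem _
      · rw [hX, mem_comap, hk]; exact mem_centralizer_singleton_iff.2 rfl
    -- a Sylow subgroup of `X` over `P`
    obtain ⟨R, hR⟩ := (hPp.comap_subtype (K := X)).exists_le_sylow
    haveI := R.2.isNilpotent
    set Zx := (Z.subgroupOf X).subgroupOf (R : Subgroup X) with hZx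
    haveI : Zx.Normal := by
      refine ⟨fun z hz g => ?_⟩
      obtain ⟨h1, h2⟩ := hZmem.1 hz
      refine hZmem.2 ⟨(inferInstance : N.Normal).conj_mem _ h1 _, fun w hw => ?_⟩
      set g' : G := ((g : X) : G)
      set z' : G := ((z : X) : G)
      have h3 : (g'⁻¹ * w * g') * z' = z' * (g'⁻¹ * w * g') := h2 _ ((mem_normalizer_iff''.1 (hXP (g : X).2) w).1 hw)
      show w * (g' * z' * g'⁻¹) = g' * z' * g'⁻¹ * w
      calc w * (g' * z' * g'⁻¹) = g' * ((g'⁻¹ * w * g') * z') * g'⁻¹ := by group
        _ = g' * z' * g'⁻¹ * w := by rw [h3]; group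
    have hZR : Z.subgroupOf X ≤ R := fun z hz => hR (show (z : G) ∈ P from
      mem_sup_left (hZmem.1 hz).1)
    have hZX : Z ≤ X := fun z hz => hPX (mem_sup_left (hZmem.1 hz).1)
    obtain ⟨⟨⟨⟨z, hzX⟩, hzR⟩, hzZ, hzc⟩, hz1⟩ := Subgroup.ne_bot_iff_exists_ne_one.1
      (nilpotent_inf_center_ne_bot Zx fun h => hZ0 (by
        rw [← map_subgroupOf_eq_of_le hZX, ← map_subgroupOf_eq_of_le hZR, ← hZx, h, Subgroup.map_bot,
          Subgroup.map_bot]))
    have hz1' : z ≠ 1 := fun e => hz1 (Subtype.ext (Subtype.ext (Subtype.ext e)))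
    obtain ⟨hzN, hzP⟩ := hZmem.1 hzZ
    have hXz : X ≤ centralizer ({z} : Set G) := by
      suffices htop : (centralizer ({z} : Set G)).subgroupOf X = ⊤ by
        exact subgroupOf_eq_top.1 htop
      rw [← index_eq_one]
      by_contra hne
      obtain ⟨q, hq, hqd⟩ := Nat.exists_prime_and_dvd hne
      haveI := Fact.mk hq
      obtain ⟨Q⟩ : Nonempty (Sylow q X) := inferInstance
      have key : ∀ (S : Sylow q X), (S : Subgroup X) ≤ (centralizer ({z} : Set G)).subgroupOf X →
          False := fun S hS => S.not_dvd_index (hqd.trans (index_dvd_of_le hS))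
      by_cases hqr : q = r
      · subst hqr
        refine key R fun w hw => mem_centralizer_singleton_iff.2 ?_
        exact congrArg (fun v : (R : Subgroup X) => ((v : X) : G)) (mem_center_iff.1 hzc ⟨w, hw⟩)
      refine key Q fun w hw => ?_
      obtain ⟨b, hb⟩ := Q.2 ⟨w, hw⟩
      have hwo : (orderOf (w : G)).Coprime r :=
        ((Nat.coprime_primes hq hr).2 hqr).pow_left b |>.coprime_dvd_left
          (orderOf_dvd_of_pow_eq_one (congrArg (fun v : (Q : Subgroup X) => ((v : X) : G)) hb))
      obtain ⟨n, hn, hwn⟩ := fixed_in_coset hN hwo (hXc w.2)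
      have hk1 : k * n ≠ 1 := fun e => by
        have := congrArg f e
        rw [map_mul, hfker.2 hn, map_one, mul_one, hk] at this
        exact hr.ne_one (by rw [← hxr', this, orderOf_one])
      have hknP : k * n ∈ P := mul_mem (mem_sup_right (mem_zpowers k)) (mem_sup_left hn)
      haveI : Group.IsNilpotent (centralizer ({k * n} : Set G)) := hCN _ hk1
      refine mem_centralizer_singleton_iff.2 ?_
      exact congrArg Subtype.val (commute_of_coprime_pow (p := r)
        (b := (⟨(w : G), mem_centralizer_singleton_iff.2 hwn⟩ : centralizer ({k * n} : Set G)))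
        (y := ⟨z, mem_centralizer_singleton_iff.2 (hzP _ hknP).symm⟩)
        (by rwa [← Subgroup.orderOf_coe]) (hN.comap_subtype (K := centralizer ({k * n} : Set G)))
        hzN).eq
    haveI : Group.IsNilpotent X := CfsgLib.Coprime.isNilpotent_of_le hXz (hCN z hz1')
    exact Group.nilpotent_of_surjective (f.subgroupComap _)
      (MonoidHom.subgroupComap_surjective_of_surjective f _ hfs)
  · -- a lift of order prime to `p`
    obtain ⟨a, m, hm, ham⟩ := Nat.exists_eq_pow_mul_and_not_dvd (orderOf_pos k).ne' p (Fact.out : p.Prime).ne_one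
    obtain ⟨j, hj⟩ : ∃ j : ℕ, p ^ a * j % r = 1 := by
      obtain ⟨j, -, hj⟩ := Nat.exists_mul_mod_eq_one_of_coprime
        (k := r) (n := p ^ a) (Nat.Coprime.pow_left a ((Nat.coprime_primes (Fact.out : p.Prime) hr).2 (Ne.symm hrp))) hr.one_lt
      exact ⟨j, hj⟩
    set t := k ^ (p ^ a * j) with ht
    have hft : f t = xr := by
      rw [ht, map_pow, hk, ← pow_mod_orderOf, hxr', hj, pow_one]
    have htp : (orderOf t).Coprime p := by
      refine (((Fact.out : p.Prime).coprime_iff_not_dvd.2 hm).symm).coprime_dvd_left ?_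
      refine orderOf_dvd_of_pow_eq_one ?_
      rw [ht, ← pow_mul, mul_right_comm, ← ham, pow_mul, pow_orderOf_eq_one, one_pow]
    have ht1 : t ≠ 1 := fun e => by
      rw [e, map_one] at hft
      exact hr.ne_one (by rw [← hxr', ← hft, orderOf_one])
    have hle : centralizer ({xr} : Set (G ⧸ N)) ≤ (centralizer ({t} : Set G)).map f := by
      intro c hc
      obtain ⟨g, rfl⟩ := hfs c
      have h1 : t * g * t⁻¹ * g⁻¹ ∈ N := by
        rw [← hfker, map_mul, map_mul, map_mul, map_inv, map_inv, hft,
          ← mem_centralizer_singleton_iff.1 hc, mul_inv_cancel_right, mul_inv_cancel]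
      obtain ⟨n, hn, hcn⟩ := fixed_in_coset hN htp h1
      exact ⟨g * n, mem_centralizer_singleton_iff.2 hcn.symm, by rw [map_mul, hfker.2 hn, mul_one]⟩
    haveI : Group.IsNilpotent (centralizer ({t} : Set G)) := hCN t ht1
    exact CfsgLib.Coprime.isNilpotent_of_le hle (Group.nilpotent_of_surjective
      (f.subgroupMap _) (f.subgroupMap_surjective _))

theorem quotient_solvable : ∀ (n : ℕ) (G : Type v) [Group G] [Finite G], Nat.card G = n →
    Cfsg.IsCNGroup G → ∀ (H : Subgroup G) [H.Normal], Group.IsSolvable H → Cfsg.IsCNGroup (G ⧸ H) := by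
  intro n
  induction n using Nat.strong_induction_on with
  | _ n ih =>
  intro G _ _ hn hCN H _ hH
  by_cases hH0 : H = ⊥
  · subst hH0
    exact cn_of_equiv (QuotientGroup.quotientBot (G := G)).symm hCN
  obtain ⟨N, hNn, hN0, hNH, hmin⟩ := exists_minimal_normal_le hH0
  haveI := hNn
  haveI : Group.IsSolvable N := by
    haveI := hH
    exact Group.isSolvable_of_isSolvable_injective (f := Subgroup.inclusion hNH) (inclusion_injective hNH)
  obtain ⟨-, p, hp, hNp⟩ := minimal_normal_solvable hN0 hmin
  haveI := Fact.mk hp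
  have hq := quotient_pGroup hCN N (fun x => ⟨1, Subtype.ext (by simpa using hNp x x.2)⟩) hN0
  haveI : (H.map (QuotientGroup.mk' N)).Normal :=
    Normal.map inferInstance _ (QuotientGroup.mk'_surjective N)
  have hsol : Group.IsSolvable (H.map (QuotientGroup.mk' N)) := by
    haveI := hH
    exact Group.isSolvable_of_surjective ((QuotientGroup.mk' N).subgroupMap_surjective H)
  exact cn_of_equiv (QuotientGroup.quotientQuotientEquivQuotient N H hNH)
    (ih _ (hn ▸ card_quotient_lt hN0) (G ⧸ N) rfl hq _ hsol)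


/-- Let G be a finite group in which the centralizer of every non-identity element is nilpotent, and H a solvable normal subgroup of G. Then in G/H the centralizer of every non-identity element is nilpotent. -/
theorem result {G : Type*} [Group G] [Finite G] (hCN : Cfsg.IsCNGroup G) (H : Subgroup G) [H.Normal] (hH : Group.IsSolvable H) :
    Cfsg.IsCNGroup (G ⧸ H) := by
  exact quotient_solvable _ G rfl hCN H hH

end Cfsg.Agent.S1473
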