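import Cfsg.Statements.S0992
import Mathlib
import Cfsg.Agent.Lib.Perm.Small.Count
import Cfsg.Agent.Lib.Invol.SmallSimple

set_option autoImplicit false
open Cfsg

namespace Cfsg.Agent.S0992

/-- Let G be a non-abelian finite simple group of even order not divisible by 8, and T a Sylow 2-subgroup. Then T is a Klein four-group and the centralizer of T has index 3 in the normalizer of T. -/
theorem result {G : Type*} [Group G] [Finite G] [IsSimpleGroup G] (hG : ¬ IsMulCommutative G) (h2 : Even (Nat.card G)) (h8 : ¬ 8 ∣ Nat.card G) (T : Sylow 2 G) : IsKleinFour ↥(T : Subgroup G) ∧ (Subgroup.centralizer ((T : Subgroup G) : Set G)).relIndex (Subgroup.normalizer ((T : Subgroup G) : Set G)) = 3 := by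
  classical
  haveI : Fact (Nat.Prime 2) := ⟨Nat.prime_two⟩
  have hmod := CfsgLib.Invol.card_mod_four_ne_two hG
  have h4 : 4 ∣ Nat.card G := by rw [Nat.even_iff] at h2; omega
  have hT : Nat.card (T : Subgroup G) = 4 := by
    obtain ⟨i, hi⟩ := T.isPGroup'.exists_card_eq
    have h1 := T.pow_dvd_card_of_pow_dvd_card (show 2 ^ 2 ∣ Nat.card G by simpa using h4)
    rw [hi] at h1 ⊢
    have h1' : 2 ≤ i := (Nat.pow_dvd_pow_iff_le_right (by norm_num)).1 h1
    have h2' := Subgroup.card_subgroup_dvd_card (T : Subgroup G)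
    rw [hi] at h2'
    have : i < 3 := by
      by_contra hc
      exact h8 ((pow_dvd_pow 2 (show 3 ≤ i by omega)).trans h2')
    rw [show i = 2 by omega]
    norm_num
  have hmin : (Nat.card G).minFac = 2 := by rw [Nat.minFac_eq_two_iff]; omega
  have hnc : ¬ IsCyclic (T : Subgroup G) := by
    intro hc
    have hcompl := IsCyclic.isComplement' hmin (P := T) hc
    have hidx := hcompl.symm.index_eq_card
    rw [hT] at hidx
    haveI := hc
    rcases IsSimpleGroup.eq_bot_or_eq_top_of_normal (MonoidHom.transferSylow T (hc.normalizer_le_centralizer hmin)).ker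
      (MonoidHom.normal_ker _) with h | h
    · have := hidx
      rw [h, Subgroup.index_bot] at this
      exact hG (by
        have hTtop : (T : Subgroup G) = ⊤ := Subgroup.eq_top_of_card_eq _ (by rw [hT, this])
        exact ⟨⟨fun a b => congrArg Subtype.val
          (IsMulCommutative.is_comm.comm (⟨a, hTtop ▸ Subgroup.mem_top a⟩ : (T : Subgroup G)) ⟨b, hTtop ▸ Subgroup.mem_top b⟩)⟩⟩)
    · rw [h, Subgroup.index_top] at hidx
      omega
  have hexp : ∀ t : (T : Subgroup G), t * t = 1 := by
    intro t
    by_contra ht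
    refine hnc (isCyclic_of_orderOf_eq_card t ?_)
    rw [hT]
    have hd : orderOf t ∣ 2 ^ 2 := by have := orderOf_dvd_natCard t; rwa [hT] at this
    obtain ⟨i, hi, he⟩ := (Nat.dvd_prime_pow Nat.prime_two).1 hd
    have : i = 2 := by
      by_contra hne
      apply ht
      rw [← pow_two]
      exact orderOf_dvd_iff_pow_eq_one.1 (he ▸ (pow_dvd_pow 2 (show i ≤ 1 by omega)))
    rw [he, this]
    norm_num
  have hK : IsKleinFour (T : Subgroup G) :=
    { card_four := hT
      exponent_two := by
        refine (Nat.dvd_prime Nat.prime_two).1 (Monoid.exponent_dvd_of_forall_pow_eq_one fun t => by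
          rw [pow_two]; exact hexp t) |>.resolve_left fun h => ?_
        rw [Monoid.exp_eq_one_iff] at h
        haveI := h
        rw [Nat.card_eq_one_iff_unique.2 ⟨inferInstance, inferInstance⟩] at hT
        omega }
  refine ⟨hK, ?_⟩
  obtain ⟨N, hN⟩ : ∃ N : Subgroup G, N = Subgroup.normalizer ((T : Subgroup G) : Set G) := ⟨_, rfl⟩
  obtain ⟨C, hC⟩ : ∃ C : Subgroup G, C = Subgroup.centralizer ((T : Subgroup G) : Set G) := ⟨_, rfl⟩
  rw [← hN, ← hC]
  have hTC : (T : Subgroup G) ≤ C := by
    rw [hC]
    intro x hx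
    rw [Subgroup.mem_centralizer_iff]
    intro y hy
    have hinv : ∀ t : (T : Subgroup G), t⁻¹ = t := fun t => inv_eq_of_mul_eq_one_left (hexp t)
    exact congrArg Subtype.val (show (⟨y, hy⟩ : (T : Subgroup G)) * ⟨x, hx⟩ = ⟨x, hx⟩ * ⟨y, hy⟩ by
      rw [← hinv (⟨y, hy⟩ * ⟨x, hx⟩), mul_inv_rev, hinv, hinv])
  have hodd : ¬ 2 ∣ C.relIndex N := by
    intro h
    exact T.not_dvd_index ((h.trans ((Subgroup.relIndex_dvd_index_of_le (K := N) (show C ≤ N by
      rw [hC, hN]; exact Subgroup.centralizer_le_normalizer _)))).trans (Subgroup.index_dvd_of_le hTC))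
  have hsix : C.relIndex N ∣ 6 := by
    letI hsub : MulAction N {t : (T : Subgroup G) // t ≠ 1} :=
      { smul := fun n t => ⟨⟨(n : G) * (t.1 : G) * (n : G)⁻¹,
            (Subgroup.mem_normalizer_iff.1 (hN ▸ n.2 : (n : G) ∈ Subgroup.normalizer ((T : Subgroup G) : Set G)) _).1 t.1.2⟩,
          fun h => t.2 (Subtype.ext (conj_eq_one_iff.1 (congrArg Subtype.val h)))⟩
        one_smul := fun t => by apply Subtype.ext; apply Subtype.ext; show (1 : G) * _ * (1 : G)⁻¹ = _; group
        mul_smul := fun m n t => by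
          apply Subtype.ext; apply Subtype.ext
          show ((m : G) * n) * _ * ((m : G) * n)⁻¹ = (m : G) * ((n : G) * _ * (n : G)⁻¹) * (m : G)⁻¹
          group }
    have hker : (MulAction.toPermHom N {t : (T : Subgroup G) // t ≠ 1}).ker = C.subgroupOf N := by
      ext n
      rw [MonoidHom.mem_ker, Subgroup.mem_subgroupOf, hC, Subgroup.mem_centralizer_iff]
      constructor
      · intro h x hx
        by_cases hx1 : (⟨x, hx⟩ : (T : Subgroup G)) = 1
        · have : x = 1 := congrArg Subtype.val hx1
          rw [this, one_mul, mul_one]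
        · have h0 : n • (⟨⟨x, hx⟩, hx1⟩ : {t : (T : Subgroup G) // t ≠ 1}) = ⟨⟨x, hx⟩, hx1⟩ :=
            Equiv.Perm.congr_fun h ⟨⟨x, hx⟩, hx1⟩
          have h1 : (n : G) * x * (n : G)⁻¹ = x := congrArg (fun t => ((t.1 : (T : Subgroup G)) : G)) h0
          exact (mul_inv_eq_iff_eq_mul.1 h1).symm
      · intro h
        refine Equiv.ext fun t => ?_
        show n • t = t
        apply Subtype.ext; apply Subtype.ext
        show (n : G) * (t.1 : G) * (n : G)⁻¹ = (t.1 : G)
        rw [← h _ t.1.2, mul_inv_cancel_right]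
    show (C.subgroupOf N).index ∣ 6
    rw [← hker, Subgroup.index_ker]
    refine (Subgroup.card_subgroup_dvd_card _).trans ?_
    rw [Nat.card_perm]
    haveI := Fintype.ofFinite (T : Subgroup G)
    rw [Nat.card_eq_fintype_card, Fintype.card_subtype_compl, Fintype.card_subtype_eq, ← Nat.card_eq_fintype_card, hT]
    decide
  have hne1 : C.relIndex N ≠ 1 := by
    intro h
    rw [Subgroup.relIndex_eq_one, hN, hC] at h
    have hcompl := MonoidHom.ker_transferSylow_isComplement' T h
    have hidx := hcompl.symm.index_eq_card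
    rw [hT] at hidx
    rcases IsSimpleGroup.eq_bot_or_eq_top_of_normal (MonoidHom.transferSylow T h).ker (MonoidHom.normal_ker _) with h' | h'
    · rw [h', Subgroup.index_bot] at hidx
      have hTtop : (T : Subgroup G) = ⊤ := Subgroup.eq_top_of_card_eq _ (by rw [hT, hidx])
      exact hG ⟨⟨fun a b => by
        have hb : b ∈ C := hTC (hTtop ▸ Subgroup.mem_top b)
        rw [hC, Subgroup.mem_centralizer_iff] at hb
        exact hb a (hTtop ▸ Subgroup.mem_top a)⟩⟩
    · rw [h', Subgroup.index_top] at hidx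
      omega
  have hle := Nat.le_of_dvd (by norm_num) hsix
  interval_cases hh : C.relIndex N <;> omega

end Cfsg.Agent.S0992
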