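import Cfsg.Statements.S0806
-- import your own Cfsg.Agent.* helpers here
import Mathlib
import Cfsg.Agent.Lib.Perm.Dickson.Minimal

set_option autoImplicit false
set_option linter.all false
open Cfsg

namespace Cfsg.Agent.S0806

open CfsgLib.Perm.Dickson

/-- Minimal index (Galois): if q ∉ {2, 3, 5, 7, 9, 11} then every proper subgroup of PSL_2(q) has index ≥ q + 1, and some subgroup has index exactly q + 1. -/
theorem result {F : Type*} [Field F] [Fintype F] {q : ℕ} (hF : Fintype.card F = q) (hq : q ∉ ({2, 3, 5, 7, 9, 11} : Finset ℕ)) : (∀ H : Subgroup (Matrix.ProjectiveSpecialLinearGroup (Fin 2) F), H ≠ ⊤ → q + 1 ≤ H.index) ∧ ∃ H : Subgroup (Matrix.ProjectiveSpecialLinearGroup (Fin 2) F), H.index = q + 1 := by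
  classical
  haveI := finite_G2 (F := F)
  haveI : Finite (S2P F) := Finite.of_equiv _ (pslEquiv F).symm.toEquiv
  obtain ⟨p, hpc⟩ := CharP.exists F
  haveI : Fact p.Prime := ⟨CharP.char_is_prime F p⟩
  have hq' : Nat.card F = q := by rw [Nat.card_eq_fintype_card, hF]
  simp only [Finset.mem_insert, Finset.mem_singleton, not_or] at hq
  obtain ⟨hq2, hq3, hq5, hq7, hq9, hq11⟩ := hq
  have h4 : 4 ≤ q := by have := card_pos_lt (F := F); omega
  set d := Nat.gcd 2 (Nat.card F - 1) with hd
  have hd2 : d = 1 ∧ Even q ∨ d = 2 ∧ 13 ≤ q := by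
    rcases Nat.even_or_odd (Nat.card F) with he | ho
    · exact Or.inl ⟨gcd_even he, hq' ▸ he⟩
    · refine Or.inr ⟨gcd_odd ho, ?_⟩
      rw [hq'] at ho
      obtain ⟨t, ht⟩ := ho
      omega
  have hc := card_psl F
  rw [← hd, hq'] at hc
  have key : ∀ H : Subgroup (S2P F), H ≠ ⊤ → d * Nat.card H ≤ q * (q - 1) := by
    intro H hH
    have hlt : up H < psl F := lt_of_le_of_ne (up_le H) fun e => hH (up_injective (e.trans up_top.symm))
    rw [← card_up H]
    have hbig : 2 * (q + 1) ≤ q * (q - 1) ∧ (13 ≤ q → 4 * (q + 1) ≤ q * (q - 1) ∧ 120 ≤ q * (q - 1)) := by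
      refine ⟨?_, fun h => ⟨?_, ?_⟩⟩
      · have := Nat.mul_le_mul_left q (show 3 ≤ q - 1 by omega); omega
      · have := Nat.mul_le_mul_left q (show 12 ≤ q - 1 by omega); omega
      · have := Nat.mul_le_mul_left q (show 12 ≤ q - 1 by omega); omega
    have hodd : ∀ {k : ℕ}, p ≠ 2 → k ≤ 60 → d * k ≤ q * (q - 1) := by
      intro k hp2 hk
      rcases hd2 with ⟨-, he⟩ | ⟨e, h13⟩
      · obtain ⟨n, hn, hpn⟩ := card_eq_pow (F := F) p
        rw [hq'] at hpn
        rw [hpn, Nat.even_pow] at he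
        exact absurd ((Fact.out : p.Prime).even_iff.1 he.1) hp2
      · rw [e]
        have := (hbig.2 h13).2
        omega
    rcases classify_finite p (up H) with ⟨x, hx⟩ | ⟨a, b, hg, h, -⟩ | ⟨a, b, hg, h, hn, -⟩ | ⟨hN, h2, -, -⟩ |
      ⟨hN, h2, -, -⟩ | ⟨hN, h2, -, -⟩ | ⟨σ, F1, h3, h⟩
    · have := card_bor_psl x
      rw [← hd, hq'] at this
      rw [← this]
      exact Nat.mul_le_mul_left _ (Nat.card_le_card_of_injective _
        (Subgroup.inclusion_injective (le_inf (le_bor hx) (up_le H))))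
    · have hle : Nat.card (up H) ≤ Nat.card (pairFix a b) := Nat.card_le_card_of_injective _ (Subgroup.inclusion_injective h)
      rcases card_pairFix hg with ⟨-, e⟩ | ⟨-, e⟩ <;> rcases hd2 with ⟨e', -⟩ | ⟨e', h13⟩ <;> rw [e'] <;>
        first
          | omega
          | (have := (hbig.2 h13).1; omega)
    · have e0 := (dihedral_of_le hg.1 (isCyclic_pairFix hg.1) h hn).1
      have hle : Nat.card (up H ⊓ pairFix a b : Subgroup (G2 F)) ≤ Nat.card (pairFix a b) :=
        Nat.card_le_card_of_injective _ (Subgroup.inclusion_injective inf_le_right)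
      rcases card_pairFix hg with ⟨-, e⟩ | ⟨-, e⟩ <;> rcases hd2 with ⟨e', -⟩ | ⟨e', h13⟩ <;> rw [e'] <;>
        first
          | omega
          | (have := (hbig.2 h13).1; omega)
    · exact hodd h2 (by omega)
    · exact hodd h2 (by omega)
    · exact hodd h2 (by omega)
    · have hne : Nat.card F1 ≠ Nat.card F := subfield_ne_top (σ := σ) hlt (by
        rcases h with e | ⟨-, e⟩
        · rw [e]; exact pslSub_le_pglSub F1
        · exact e ▸ le_rfl)
      have hle : Nat.card (up H) ≤ Nat.card (pglSub F1) := by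
        rw [← card_conjG (G := up H) σ]
        rcases h with e | ⟨-, e⟩
        · rw [e]
        · rw [e]; exact Nat.card_le_card_of_injective _ (Subgroup.inclusion_injective (pslSub_le_pglSub F1))
      rw [card_pglSub] at hle
      have hsq := subfield_card_sq_le hne
      rw [hq'] at hsq
      obtain ⟨c, hcc⟩ : ∃ c, Nat.card F1 = c + 1 := ⟨Nat.card F1 - 1, by omega⟩
      rw [hcc, Nat.add_sub_cancel] at hle
      rw [hcc] at hsq h3
      have h5 : d * ((c + 1) * c * (c + 2)) ≤ (c + 1) * ((c + 1) * (c * (c + 2))) := by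
        have hdc : d ≤ c + 1 := by rcases hd2 with ⟨e, -⟩ | ⟨e, -⟩ <;> omega
        calc _ = d * ((c + 1) * (c * (c + 2))) := by ring
          _ ≤ _ := Nat.mul_le_mul_right _ hdc
      have h6 : (c + 1) * ((c + 1) * (c * (c + 2))) ≤ q * (q - 1) := by
        rw [← mul_assoc]
        refine Nat.mul_le_mul hsq ?_
        have : c * (c + 2) + 1 = (c + 1) * (c + 1) := by ring
        omega
      exact (Nat.mul_le_mul_left d hle).trans (h5.trans h6)
  have hidx : ∀ H : Subgroup (S2P F), d * Nat.card H * H.index = q * (q - 1) * (q + 1) := fun H => by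
    rw [mul_assoc, H.card_mul_index, card_S2P, hc]; ring
  refine ⟨fun H hH => ?_, ?_⟩
  · have h1 := (hidx H).symm.le.trans (Nat.mul_le_mul_right _ (key H hH))
    exact Nat.le_of_mul_le_mul_left h1 (Nat.mul_pos (by omega) (by omega))
  · refine ⟨down (bor (ip : P2 F) ⊓ psl F), ?_⟩
    have h1 := hidx (down (bor (ip : P2 F) ⊓ psl F))
    rw [Nat.card_congr (downEquiv inf_le_right).toEquiv] at h1
    have h2 := card_bor_psl (ip : P2 F)
    rw [← hd, hq'] at h2
    rw [h2] at h1
    exact Nat.eq_of_mul_eq_mul_left (Nat.mul_pos (by omega) (by omega)) h1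

end Cfsg.Agent.S0806
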