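import Cfsg.Statements.S5944
-- import your own Cfsg.Agent.* helpers here

set_option autoImplicit false
open Cfsg

namespace Cfsg.Agent.S5944

/-- For n ≠ 4, every proper subgroup of the symmetric group S_n other than the alternating group A_n has index at least n. -/
theorem result (n : ℕ) (hn : n ≠ 4) (H : Subgroup (Equiv.Perm (Fin n))) (hH : H ≠ ⊤) (hA : H ≠ alternatingGroup (Fin n)) : n ≤ H.index := by
  classical
  rcases Nat.lt_or_ge H.index n with hlt | hge
  swap
  · exact hge
  exfalso
  have hk0 : H.index ≠ 0 := Subgroup.index_ne_zero_of_finite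
  have hk1 : H.index ≠ 1 := fun h => hH (Subgroup.index_eq_one.1 h)
  rcases Nat.lt_or_ge n 5 with h5 | h5
  · exact hA (Equiv.Perm.eq_alternatingGroup_of_index_eq_two (by omega))
  have hfac : Nat.factorial H.index < Nat.factorial n := Nat.factorial_lt (by omega) |>.2 hlt
  have hnt : Nontrivial H.normalCore := by
    by_contra hntriv
    have hcon := H.normalCore.bot_or_nontrivial.resolve_right hntriv
    have h1 : H.normalCore.index ∣ Nat.factorial H.index := by
      rw [Subgroup.normalCore_eq_ker, Subgroup.index_ker, Subgroup.index_eq_card, ← Nat.card_perm]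
      exact Subgroup.card_subgroup_dvd_card _
    rw [hcon, Subgroup.index_bot, Nat.card_perm, Nat.card_fin] at h1
    exact absurd (Nat.le_of_dvd (Nat.factorial_pos _) h1) (not_le.2 hfac)
  have hle := (Equiv.Perm.alternatingGroup_le_of_normal (by simpa using h5) hnt).trans H.normalCore_le
  haveI : Nontrivial (Fin n) := Fin.nontrivial_iff_two_le.2 (by omega)
  have h2 := Subgroup.index_dvd_of_le hle
  rw [alternatingGroup.index_eq_two] at h2
  have h3 := (Nat.dvd_prime Nat.prime_two).1 h2
  exact hA (Equiv.Perm.eq_alternatingGroup_of_index_eq_two (h3.resolve_left hk1))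

end Cfsg.Agent.S5944
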