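import Cfsg.Statements.S0689
-- import your own Cfsg.Agent.* helpers here
import Mathlib
import Cfsg.Agent.Lib.Perm.NearField.TypeThree

set_option autoImplicit false
set_option linter.all false
open Cfsg

namespace Cfsg.Agent.S0689

/-- The insoluble sharply doubly transitive groups: a non-solvable linear group over the prime field that is regular on the non-zero vectors of `V` occurs only for `|V| = 11², 29², 59²`, and is `SL(2,5) × C_m` with `m = 1, 7, 29` respectively. -/
theorem result {p : ℕ} [Fact p.Prime] {V : Type*} [AddCommGroup V] [Module (ZMod p) V] [Finite V] (H : Subgroup (V ≃ₗ[ZMod p] V)) (hreg : ∀ v w : V, v ≠ 0 → w ≠ 0 → ∃! h : H, (h : V ≃ₗ[ZMod p] V) v = w) (hsolv : ¬ Group.IsSolvable H) : (Nat.card V = 121 ∧ Nonempty (H ≃* Matrix.SpecialLinearGroup (Fin 2) (ZMod 5))) ∨ (Nat.card V = 841 ∧ Nonempty (H ≃* Matrix.SpecialLinearGroup (Fin 2) (ZMod 5) × Multiplicative (ZMod 7))) ∨ (Nat.card V = 3481 ∧ Nonempty (H ≃* Matrix.SpecialLinearGroup (Fin 2) (ZMod 5) × Multiplicative (ZMod 29)))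 := by
  classical
  have hV : Nontrivial V := by
    by_contra hn
    rw [not_nontrivial_iff_subsingleton] at hn
    haveI : Subsingleton H := ⟨fun a b => Subtype.ext (LinearEquiv.ext fun v => Subsingleton.elim _ _)⟩
    exact hsolv inferInstance
  let ρ : H →* Module.End (ZMod p) V :=
    { toFun := fun h => (h : V ≃ₗ[ZMod p] V).toLinearMap
      map_one' := rfl
      map_mul' := fun a b => rfl }
  have hρv : ∀ (h : H) (v : V), ρ h v = (h : V ≃ₗ[ZMod p] V) v := fun _ _ => rfl
  have hfpf : CfsgLib.NearFieldSL.Fpf ρ := by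
    intro h hh v hv
    by_contra hv0
    exact hh ((hreg v v hv0 hv0).unique hv rfl)
  have hinj : Function.Injective ρ := fun a b h =>
    Subtype.ext (LinearEquiv.ext fun v => LinearMap.congr_fun h v)
  obtain ⟨v0, hv0⟩ := exists_ne (0 : V)
  haveI : Finite H := Finite.of_injective (fun h => (ρ h : V → V)) (DFunLike.coe_injective.comp hinj)
  have e : Option H ≃ V := by
    refine Equiv.ofBijective (fun o => o.elim 0 (fun h : H => (h : V ≃ₗ[ZMod p] V) v0)) ⟨?_, ?_⟩
    · rintro (- | a) (- | b) h
      · rfl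
      · exact absurd ((LinearEquiv.map_eq_zero_iff _).mp h.symm) hv0
      · exact absurd ((LinearEquiv.map_eq_zero_iff _).mp h) hv0
      · exact congrArg some ((hreg v0 _ hv0
          (fun h0 => hv0 ((LinearEquiv.map_eq_zero_iff _).mp h0))).unique h rfl)
    · intro w
      by_cases hw : w = 0
      · exact ⟨none, hw.symm⟩
      · obtain ⟨h, hh, -⟩ := hreg v0 w hv0 hw
        exact ⟨some h, hh⟩
  have hcard : Nat.card H + 1 = p ^ Module.finrank (ZMod p) V := by
    rw [← Finite.card_option, Nat.card_congr e, Module.natCard_eq_pow_finrank (K := ZMod p),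
      Nat.card_zmod]
  let φ : H →* MulAut (Multiplicative V) :=
    { toFun := fun h => AddEquiv.toMultiplicative (h : V ≃ₗ[ZMod p] V).toAddEquiv
      map_one' := rfl
      map_mul' := fun a b => rfl }
  obtain ⟨ψ⟩ := CfsgLib.Char.Zassenhaus.exists_zrep_of_fpf φ (fun g hg k hk =>
    Multiplicative.toAdd.injective (hfpf g hg (Multiplicative.toAdd k) (congrArg Multiplicative.toAdd hk)))
  obtain ⟨f, C, hf, hn, rfl, -, htwo⟩ := CfsgLib.Char.Zassenhaus.zassenhaus ψ hsolv
  exact CfsgLib.NearFieldSL.classify hfpf hinj hcard f hf htwo hn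

end Cfsg.Agent.S0689
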