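import Cfsg.Statements.S0728
import Mathlib
import Cfsg.Agent.Lib.Perm.Groups.RegularNormal

set_option autoImplicit false
open Cfsg

namespace Cfsg.Agent.S0728

/-- In a sharply triply transitive group of even degree at least 6 (degree `q + 1`, `q` odd), a two-point stabiliser has at most one subgroup of order 3. -/
theorem result {α : Type*} [Fintype α] [DecidableEq α] (heven : Even (Fintype.card α)) (h6 : 6 ≤ Fintype.card α) (G : Subgroup (Equiv.Perm α)) (h3 : MulAction.IsMultiplyPretransitive G α 3) (hsharp : ∀ x : Fin 3 ↪ α, MulAction.stabilizer G x = ⊥) {a b : α} (hab : a ≠ b) (A B : Subgroup G) (hA : A ≤ MulAction.stabilizer G a ⊓ MulAction.stabilizer G b) (hB : B ≤ MulAction.stabilizer G a ⊓ MulAction.stabilizer G b) (hA3 : Nat.card A = 3) (hB3 : Nat.card B = 3) : A = B := by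
  classical
  haveI : Fintype G := Fintype.ofFinite G
  obtain ⟨n, hn⟩ : ∃ n, n = Fintype.card α := ⟨_, rfl⟩
  have hfix3 : ∀ (g : G) (x y z : α), x ≠ y → x ≠ z → y ≠ z → g • x = x → g • y = y → g • z = z → g = 1 := by
    intro g x y z hxy hxz hyz hx hy hz
    have h : g ∈ MulAction.stabilizer G (⟨![x, y, z], CfsgLib.Perm.Groups.injective_three hxy hxz hyz⟩ : Fin 3 ↪ α) := by
      rw [MulAction.mem_stabilizer_iff]
      ext i
      fin_cases i <;> assumption
    rwa [hsharp, Subgroup.mem_bot] at h
  haveI : MulAction.IsMultiplyPretransitive G α 3 := h3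
  have h2 : MulAction.IsMultiplyPretransitive G α 2 :=
    MulAction.isMultiplyPretransitive_of_le (n := 3) (by omega) (by rw [Nat.card_eq_fintype_card]; omega)
  obtain ⟨E, hE⟩ : ∃ E : Finset G, E = Finset.univ.filter fun g => orderOf g = 3 := ⟨_, rfl⟩
  have hEmem : ∀ g, g ∈ E ↔ orderOf g = 3 := fun g => by simp [hE]
  have hcube : ∀ g ∈ E, g ^ 3 = 1 := fun g hg => by rw [← (hEmem g).1 hg, pow_orderOf_eq_one]
  have hne : ∀ g ∈ E, g ≠ 1 := fun g hg h => by
    have := (hEmem g).1 hg
    rw [h, orderOf_one] at this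
    omega
  let F : G → Finset α := fun g => Finset.univ.filter fun x => g • x = x
  have hF2 : ∀ g ∈ E, (F g).card ≤ 2 := by
    intro g hg
    by_contra hc
    push_neg at hc
    obtain ⟨x, y, z, hx, hy, hz, hxy, hxz, hyz⟩ := Finset.two_lt_card_iff.1 hc
    simp only [F, Finset.mem_filter, Finset.mem_univ, true_and] at hx hy hz
    exact hne g hg (hfix3 g x y z hxy hxz hyz hx hy hz)
  have hmod : ∀ g ∈ E, ∃ j, (F g).card + 3 * j = n := by
    intro g hg
    have hord : orderOf (g : Equiv.Perm α) = 3 := by rw [Subgroup.orderOf_coe]; exact (hEmem g).1 hg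
    obtain ⟨j, hj⟩ := Equiv.Perm.cycleType_prime_order (hord.symm ▸ Nat.prime_three)
    have hsum := (g : Equiv.Perm α).sum_cycleType
    rw [hj, hord, Multiset.sum_replicate, smul_eq_mul] at hsum
    refine ⟨j + 1, ?_⟩
    have : (F g).card + (g : Equiv.Perm α).support.card = n := by
      rw [hn, ← Finset.card_univ (α := α), ← Finset.card_union_of_disjoint]
      · congr 1
        ext x
        simp [F, Equiv.Perm.mem_support, Subgroup.smul_def]
        exact em _
      · rw [Finset.disjoint_left]
        simp [F, Equiv.Perm.mem_support, Subgroup.smul_def]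
    omega
  -- the generator of the subgroup of order three fixes two points
  have hgen : ∀ C : Subgroup G, C ≤ MulAction.stabilizer G a ⊓ MulAction.stabilizer G b → Nat.card C = 3 →
      ∀ x ∈ C, x ≠ 1 → x ∈ E ∧ x • a = a ∧ x • b = b := by
    intro C hC hC3 x hx hx1
    refine ⟨(hEmem x).2 ?_, (hC hx).1, (hC hx).2⟩
    have h := orderOf_dvd_natCard (⟨x, hx⟩ : C)
    rw [Subgroup.orderOf_mk, hC3, Nat.dvd_prime Nat.prime_three] at h
    exact h.resolve_left (fun h1 => hx1 (orderOf_eq_one_iff.1 h1))
  obtain ⟨x₀, hx₀, hx₀1⟩ := (Subgroup.ne_bot_iff_exists_ne_one (H := A)).1 (fun h => by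
    rw [h, Subgroup.card_bot] at hA3; omega) |> fun ⟨x, hx⟩ => (⟨x.1, x.2, fun h => hx (Subtype.ext h)⟩ : ∃ x ∈ A, x ≠ 1)
  obtain ⟨hx₀E, hxa, hxb⟩ := hgen A hA hA3 x₀ hx₀ hx₀1
  have hF : ∀ g ∈ E, (F g).card = 2 := by
    intro g hg
    have h1 : 2 ≤ (F x₀).card := Finset.one_lt_card.2 ⟨a, by simp [F, hxa], b, by simp [F, hxb], hab⟩
    have := hF2 x₀ hx₀E
    obtain ⟨j, hj⟩ := hmod x₀ hx₀E
    obtain ⟨j', hj'⟩ := hmod g hg
    have := hF2 g hg
    omega
  -- count the three-cycles
  have hcount : E.card * (n - 2) = n * (n - 1) * (n - 2) := by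
    have h1 : (E.sigma fun g : G => (Finset.univ : Finset α).filter fun x => g • x ≠ x).card = E.card * (n - 2) := by
      rw [Finset.card_sigma, Finset.sum_congr rfl (g := fun _ => n - 2) fun g hg => ?_, Finset.sum_const, smul_eq_mul]
      rw [Finset.filter_not, Finset.card_sdiff_of_subset (Finset.filter_subset _ _), Finset.card_univ, ← hn]
      exact congrArg _ (hF g hg)
    have h2' : (Finset.univ : Finset (Fin 3 ↪ α)).card = n * (n - 1) * (n - 2) := by
      rw [Finset.card_univ, Fintype.card_embedding_eq, Fintype.card_fin, ← hn]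
      simp [Nat.descFactorial]
      ring
    rw [← h1, ← h2']
    have hd : ∀ g ∈ E, ∀ x : α, g • x ≠ x → Function.Injective ![x, g • x, g • g • x] := by
      intro g hg x hx
      refine CfsgLib.Perm.Groups.injective_three hx.symm (fun h => hx ?_) (fun h => hx (smul_left_cancel g h).symm)
      have h3' : g • g • g • x = x := by rw [← mul_smul, ← mul_smul, ← pow_three', hcube g hg, one_smul]
      rwa [← h] at h3'
    refine Finset.card_bij (fun q hq => ⟨![q.2, q.1 • q.2, q.1 • q.1 • q.2],
      hd q.1 (Finset.mem_sigma.1 hq).1 q.2 (Finset.mem_filter.1 (Finset.mem_sigma.1 hq).2).2⟩)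
      (fun q _ => Finset.mem_univ _) ?_ ?_
    · rintro ⟨g, x⟩ hgx ⟨g', x'⟩ hgx' h
      have e := DFunLike.congr_fun h
      have e0 : x = x' := e 0
      have e1 : g • x = g' • x' := e 1
      have e2 : g • g • x = g' • g' • x' := e 2
      subst e0
      obtain ⟨hg, hx⟩ := Finset.mem_sigma.1 hgx
      have hg' := (Finset.mem_sigma.1 hgx').1
      simp only [Finset.mem_filter] at hx
      have c3 : ∀ k ∈ E, ∀ y : α, k • k • k • y = y := fun k hk y => by
        rw [← mul_smul, ← mul_smul, ← pow_three', hcube k hk, one_smul]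
      have heq : g'⁻¹ * g = 1 := by
        have hinj := hd g hg x hx.2
        refine hfix3 _ x (g • x) (g • g • x) (fun h => hx.2 h.symm) (fun h => ?_) (fun h => hx.2 (smul_left_cancel g h).symm)
          ?_ ?_ ?_
        · have := @hinj 0 2 h
          simp at this
        · rw [mul_smul, inv_smul_eq_iff, e1]
        · rw [mul_smul, inv_smul_eq_iff, e2, e1]
        · rw [mul_smul, inv_smul_eq_iff, c3 g hg, e2, c3 g' hg']
      rw [inv_mul_eq_one.1 heq]
    · intro e _
      obtain ⟨g, hg⟩ := CfsgLib.Perm.Groups.exists_smul_tuple h3 (x := ![e 0, e 1, e 2]) (y := ![e 1, e 2, e 0])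
        (CfsgLib.Perm.Groups.injective_three (e.injective.ne (by decide)) (e.injective.ne (by decide))
          (e.injective.ne (by decide)))
        (CfsgLib.Perm.Groups.injective_three (e.injective.ne (by decide)) (e.injective.ne (by decide))
          (e.injective.ne (by decide)))
      have g0 : g • e 0 = e 1 := hg 0
      have g1 : g • e 1 = e 2 := hg 1
      have g2 : g • e 2 = e 0 := hg 2
      have hmove : g • e 0 ≠ e 0 := by rw [g0]; exact e.injective.ne (by decide)
      have hg3 : g ^ 3 = 1 := by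
        refine hfix3 _ (e 0) (e 1) (e 2) (e.injective.ne (by decide)) (e.injective.ne (by decide))
          (e.injective.ne (by decide)) ?_ ?_ ?_ <;> simp [pow_three, mul_smul, g0, g1, g2]
      have hgE : g ∈ E := (hEmem g).2 (orderOf_eq_prime hg3 (fun h => hmove (by rw [h, one_smul])))
      refine ⟨⟨g, e 0⟩, Finset.mem_sigma.2 ⟨hgE, by simp [hmove]⟩, ?_⟩
      refine DFunLike.ext _ _ fun i => ?_
      fin_cases i
      · rfl
      · exact g0
      · show g • g • e 0 = e 2
        rw [g0, g1]
  have hEc : E.card = n * (n - 1) := Nat.eq_of_mul_eq_mul_right (by omega) hcount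
  -- count the fixed pairs
  let T : α × α → Finset G := fun q => E.filter fun g => g • q.1 = q.1 ∧ g • q.2 = q.2
  obtain ⟨Q, hQ⟩ : ∃ Q : Finset (α × α), Q = Finset.univ.offDiag := ⟨_, rfl⟩
  have hTc : ∀ q ∈ Q, (T q).card = (T (a, b)).card := by
    intro q hq
    rw [hQ, Finset.mem_offDiag] at hq
    obtain ⟨r, hr1, hr2⟩ := MulAction.is_two_pretransitive_iff.1 h2 hq.2.2 hab
    refine Finset.card_bij (fun g _ => r * g * r⁻¹) ?_ ?_ ?_
    · intro g hg
      simp only [T, Finset.mem_filter, hEmem] at hg ⊢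
      refine ⟨?_, ?_, ?_⟩
      · rw [← hg.1]
        exact orderOf_injective (MulAut.conj r).toMonoidHom (MulAut.conj r).injective g
      · rw [mul_smul, mul_smul, inv_smul_eq_iff.2 hr1.symm, hg.2.1, hr1]
      · rw [mul_smul, mul_smul, inv_smul_eq_iff.2 hr2.symm, hg.2.2, hr2]
    · intro g _ g' _ h
      exact (MulAut.conj r).injective h
    · intro g hg
      simp only [T, Finset.mem_filter, hEmem] at hg
      refine ⟨r⁻¹ * g * r, ?_, by group⟩
      simp only [T, Finset.mem_filter, hEmem]
      refine ⟨?_, ?_, ?_⟩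
      · rw [← hg.1]
        have := orderOf_injective (MulAut.conj r⁻¹).toMonoidHom (MulAut.conj r⁻¹).injective g
        simpa using this
      · rw [mul_smul, mul_smul, hr1, hg.2.1, inv_smul_eq_iff, hr1]
      · rw [mul_smul, mul_smul, hr2, hg.2.2, inv_smul_eq_iff, hr2]
  have hdouble : ∑ q ∈ Q, (T q).card = E.card * 2 := by
    simp only [T, Finset.card_filter]
    rw [Finset.sum_comm, Finset.sum_congr rfl (g := fun _ => 2) fun g hg => ?_, Finset.sum_const, smul_eq_mul]
    rw [← Finset.card_filter]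
    have : Q.filter (fun q : α × α => g • q.1 = q.1 ∧ g • q.2 = q.2) = (F g).offDiag := by
      ext q
      simp [hQ, F, Finset.mem_offDiag]
      tauto
    rw [this, Finset.offDiag_card, hF g hg]
  rw [Finset.sum_congr rfl hTc, Finset.sum_const, smul_eq_mul, hEc, hQ, Finset.offDiag_card, Finset.card_univ, ← hn,
    show n * n - n = n * (n - 1) by rw [Nat.mul_sub, mul_one]] at hdouble
  have hT2 : (T (a, b)).card = 2 := Nat.eq_of_mul_eq_mul_left (by
    have : 0 < n - 1 := by omega
    have : 0 < n := by omega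
    positivity) hdouble
  have hall : ∀ C : Subgroup G, C ≤ MulAction.stabilizer G a ⊓ MulAction.stabilizer G b → Nat.card C = 3 →
      ∀ x, x ∈ C ↔ x = 1 ∨ x ∈ T (a, b) := by
    intro C hC hC3
    have hsub : (Finset.univ.filter fun x => x ∈ C).erase 1 = T (a, b) := by
      refine Finset.eq_of_subset_of_card_le (fun x hx => ?_) ?_
      · simp only [Finset.mem_erase, Finset.mem_filter, Finset.mem_univ, true_and] at hx
        obtain ⟨h1, h2', h3'⟩ := hgen C hC hC3 x hx.2 hx.1
        exact Finset.mem_filter.2 ⟨h1, h2', h3'⟩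
      · rw [hT2, Finset.card_erase_of_mem (by simp), ← Fintype.card_subtype, ← Nat.card_eq_fintype_card, hC3]
    intro x
    by_cases hx : x = 1
    · simp [hx]
    · rw [← hsub]
      simp [hx]
  exact SetLike.ext fun x => (hall A hA hA3 x).trans (hall B hB hB3 x).symm

end Cfsg.Agent.S0728
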