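import Cfsg.Statements.S0214
import Cfsg.Agent.Lib.Invol.NormalizerCriterion


set_option autoImplicit false
open Cfsg

namespace Cfsg.Agent.S0214

/-- Let H be a proper subgroup of the finite group G and P a nontrivial Sylow 2-subgroup of H. Then H is strongly embedded in G if and only if N_G(X) ≤ H for every nontrivial subgroup X of P. -/
theorem result {G : Type*} [Group G] [Finite G] (H : Subgroup G) (hH : H ≠ ⊤) (P : Sylow 2 ↥H) (hP : (P : Subgroup ↥H) ≠ ⊥) : Cfsg.IsStronglyEmbedded H ↔ (∀ X : Subgroup ↥H, X ≤ (P : Subgroup ↥H) → X ≠ ⊥ → Subgroup.normalizer ((X.map H.subtype : Subgroup G) : Set G) ≤ H) := by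
  constructor
  · intro h X hXP hXne g hg
    obtain ⟨t, ht, ht2⟩ : ∃ t ∈ X, orderOf t = 2 := by
      have hX : IsPGroup 2 X := P.2.to_le hXP
      obtain ⟨k, hk⟩ := hX.exists_card_eq
      rcases k with _ | k
      · exact absurd (Subgroup.eq_bot_of_card_eq X (by simpa using hk)) hXne
      · exact CfsgLib.Invol.exists_invol_mem (even_iff_two_dvd.2 (hk ▸ dvd_pow_self 2 (Nat.succ_ne_zero k)))
    have hto : orderOf (t : G) = 2 := by rwa [Subgroup.orderOf_coe]
    obtain ⟨y, -, hy⟩ := Subgroup.mem_map.1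
      ((Subgroup.mem_normalizer_iff.1 hg (t : G)).1 (Subgroup.mem_map.2 ⟨t, ht, rfl⟩))
    exact CfsgLib.Invol.mem_of_conj_mem h t.2 hto (hy ▸ y.2)
  · intro h
    refine CfsgLib.Invol.stronglyEmbedded_of_normalizers P hH hP fun X hX hne => ?_
    have hXH : X ≤ H := hX.trans (Subgroup.map_subtype_le _)
    have e : (X.subgroupOf H).map H.subtype = X := Subgroup.map_subgroupOf_eq_of_le hXH
    have := h (X.subgroupOf H) (fun y hy => by
      obtain ⟨z, hz, hzy⟩ := Subgroup.mem_map.1 (hX hy)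
      exact (Subtype.coe_injective hzy) ▸ hz) (fun hb => hne (by rw [← e, hb, Subgroup.map_bot]))
    rwa [e] at this

end Cfsg.Agent.S0214
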