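import Cfsg.Statements.S5019
import Cfsg.Agent.Lib.RootSub.RankOne


set_option autoImplicit false
open Cfsg

namespace Cfsg.Agent.S5019

open CfsgLib.RootSub

/-- Let X be a rank one group with abelian unipotent subgroups A and B, and suppose X acts on an abelian group N (written additively) in such a way that A acts quadratically, meaning a' • (a • n − n) = a • n − n for all a, a' in A and n in N, while X as a whole does not: y • (x • n − n) ≠ x • n − n for some x, y in X and n in N. Then X is a special rank one group. -/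
theorem result {X : Type*} [Group X] {A B : Subgroup X} (h : Cfsg.IsRankOneGroup X A B)
    (hab : Cfsg.HasAbelianUnipotents A B) {N : Type*} [AddCommGroup N] [DistribMulAction X N]
    (hq : ∀ a ∈ A, ∀ a' ∈ A, ∀ n : N, a' • (a • n - n) = a • n - n)
    (hX : ∃ x y : X, ∃ n : N, y • (x • n - n) ≠ x • n - n) : Cfsg.IsSpecialRankOnePair A B := by
  obtain ⟨hgen, hAB⟩ := h
  obtain ⟨hAc, hBc⟩ := hab
  refine ⟨hAB, fun a ha ha1 b hb hb1 he => ?_⟩
  let φ : X →* AddMonoid.End N := DistribMulAction.toAddMonoidEnd X N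
  have hφ : ∀ (x : X) (n : N), φ x n = x • n := fun _ _ => rfl
  have hcA : ∀ {x y : X}, x ∈ A → y ∈ A → x * y = y * x := fun hx hy =>
    congrArg Subtype.val (hAc.is_comm.comm (⟨_, hx⟩ : A) ⟨_, hy⟩)
  have hcB : ∀ {x y : X}, x ∈ B → y ∈ B → x * y = y * x := fun hx hy =>
    congrArg Subtype.val (hBc.is_comm.comm (⟨_, hx⟩ : B) ⟨_, hy⟩)
  have hinv : ∀ x : X, φ x * φ x⁻¹ = 1 := fun x => by rw [← map_mul, mul_inv_cancel, map_one]
  have hinv' : ∀ x : X, φ x⁻¹ * φ x = 1 := fun x => by rw [← map_mul, inv_mul_cancel, map_one]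
  have hqA : ∀ x ∈ A, ∀ y ∈ A, (φ y - 1) * (φ x - 1) = 0 := fun x hx y hy =>
    DFunLike.ext _ _ fun n => sub_eq_zero.2 (hq x hx y hy n)
  obtain ⟨g, -, hBg⟩ := right_mem hAB
  have hqB : ∀ x ∈ B, ∀ y ∈ B, (φ y - 1) * (φ x - 1) = 0 := by
    intro x hx y hy
    obtain ⟨x', hx', rfl⟩ := hBg ▸ hx
    obtain ⟨y', hy', rfl⟩ := hBg ▸ hy
    have hconj : ∀ z : X, φ (g * z * g⁻¹) - 1 = φ g * (φ z - 1) * φ g⁻¹ := fun z => by
      rw [map_mul, map_mul, mul_sub, sub_mul, mul_one, hinv]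
    show (φ (g * y' * g⁻¹) - 1) * (φ (g * x' * g⁻¹) - 1) = 0
    rw [hconj, hconj, show φ g * (φ y' - 1) * φ g⁻¹ * (φ g * (φ x' - 1) * φ g⁻¹) =
      φ g * ((φ y' - 1) * (φ g⁻¹ * φ g) * (φ x' - 1)) * φ g⁻¹ by noncomm_ring, hinv', mul_one,
      hqA x' hx' y' hy', mul_zero, zero_mul]
  -- no second unipotent subgroup acts as `A` does
  have hno : ∀ C : Subgroup X, A ⊔ C = ⊤ → (∀ c ∈ C, ∃ a ∈ A, φ c = φ a) → False := by
    intro C hAC hC
    obtain ⟨x, y, n, hn⟩ := hX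
    have hall : ∀ z ∈ A ⊔ C, ∃ a ∈ A, φ z = φ a := by
      intro z hz
      rw [Subgroup.sup_eq_closure] at hz
      induction hz using Subgroup.closure_induction with
      | mem z hz =>
        rcases hz with hz | hz
        · exact ⟨z, hz, rfl⟩
        · exact hC z hz
      | one => exact ⟨1, one_mem _, rfl⟩
      | mul z w _ _ hz hw =>
        obtain ⟨a₁, h1, e1⟩ := hz
        obtain ⟨a₂, h2, e2⟩ := hw
        exact ⟨a₁ * a₂, mul_mem h1 h2, by rw [map_mul, map_mul, e1, e2]⟩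
      | inv z _ hz =>
        obtain ⟨a₁, h1, e1⟩ := hz
        exact ⟨a₁⁻¹, inv_mem h1, left_inv_eq_right_inv (hinv' z) (by rw [e1, hinv])⟩
    obtain ⟨a₁, h1, e1⟩ := hall x (hAC ▸ Subgroup.mem_top x)
    obtain ⟨a₂, h2, e2⟩ := hall y (hAC ▸ Subgroup.mem_top y)
    rw [← hφ x, ← hφ y, e1, e2] at hn
    exact hn (hq a₁ h1 a₂ h2 n)
  -- the other half of the relation
  obtain ⟨b₁, hb₁, hw⟩ : b⁻¹ * a * b ∈ Cfsg.conjBy B a⁻¹ := by
    rw [← he, mem_conjBy]
    simpa [mul_assoc] using ha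
  have hw' : a⁻¹ * b₁ * a = b⁻¹ * a * b := by rw [← hw]; simp
  suffices hd : b₁ = b⁻¹ by rw [← hw', hd]
  set α := φ a - 1 with hα
  set β := φ b - 1 with hβ
  set β' := φ b₁⁻¹ - 1 with hβ'
  have hαα : α * α = 0 := hqA a ha a ha
  have hββ : β * β = 0 := hqB b hb b hb
  have hββ' : β * β' = 0 := hqB _ (inv_mem hb₁) b hb
  have hval : ∀ z : X, (φ z - 1) * (φ z - 1) = 0 → φ z⁻¹ = 1 - (φ z - 1) := by
    intro z hz
    refine left_inv_eq_right_inv (hinv' z) ?_
    rw [show φ z * (1 - (φ z - 1)) = 1 - (φ z - 1) * (φ z - 1) by noncomm_ring, hz, sub_zero]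
  have hform : β' = -α - α * β + β * α + β * α * β + α * β * α + α * β * α + α * β * α * β - β * α * β * α -
      α * β * α * β * α := by
    have h1 : φ b₁ = (1 + α) * (1 - β) * (1 + α) * (1 + β) * (1 - α) := by
      rw [show b₁ = a * b⁻¹ * a * b * a⁻¹ by
        rw [show a * b⁻¹ * a * b * a⁻¹ = a * (b⁻¹ * a * b) * a⁻¹ by group, ← hw']; group]
      simp only [map_mul, hval b hββ, hval a hαα, ← hα, ← hβ]
      rw [show φ a = 1 + α by simp [hα], show φ b = 1 + β by simp [hβ]]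
    have hb'' : (φ b₁⁻¹ - 1) * (φ b₁⁻¹ - 1) = 0 := hqB _ (inv_mem hb₁) _ (inv_mem hb₁)
    have h2 := hval b₁⁻¹ hb''
    rw [inv_inv, ← hβ', h1] at h2
    rw [show β' = 1 - (1 - β') by abel, ← h2]
    simp only [mul_add, add_mul, mul_sub, sub_mul, mul_one, one_mul, mul_assoc, hαα, hββ,
      (show ∀ z, α * (α * z) = 0 from fun z => by rw [← mul_assoc, hαα, zero_mul]),
      (show ∀ z, β * (β * z) = 0 from fun z => by rw [← mul_assoc, hββ, zero_mul]), mul_zero, zero_mul]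
    abel
  have hα' : ∀ z, α * (α * z) = 0 := fun z => by rw [← mul_assoc, hαα, zero_mul]
  have hβ'' : ∀ z, β * (β * z) = 0 := fun z => by rw [← mul_assoc, hββ, zero_mul]
  obtain ⟨u, hu⟩ : ∃ u, u = β * α := ⟨_, rfl⟩
  have hF : -u - u * β + u * u + u * u + u * u * β - u * u * u = 0 := by
    rw [← hββ', hform, hu]
    simp only [mul_add, add_mul, mul_sub, sub_mul, mul_neg, mul_assoc, hαα, hββ, hα', hβ'', mul_zero, zero_mul, smul_zero]
    abel
  have huα : u * α = 0 := by rw [hu, mul_assoc, hαα, mul_zero]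
  have h3 : u * u * u - u * u = 0 := by
    have := congrArg (· * α) hF
    simp only [add_mul, sub_mul, neg_mul, zero_mul, mul_assoc] at this
    simp only [mul_assoc, ← hu, huα, mul_zero] at this
    rw [← this]
    simp only [mul_assoc]
    abel
  have hu2 : u * u = u := by
    have h4 : (u * u - u) * (1 + β) = 0 := by
      calc (u * u - u) * (1 + β) = (-u - u * β + u * u + u * u + u * u * β - u * u * u) + (u * u * u - u * u) := by
            noncomm_ring
        _ = 0 := by rw [hF, h3, add_zero]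
    have h5 : (u * u - u) * (1 + β) * (1 - β) = 0 := by rw [h4, zero_mul]
    rwa [mul_assoc, show (1 + β) * (1 - β) = 1 - β * β by noncomm_ring, hββ, sub_zero, mul_one, sub_eq_zero] at h5
  have hu2' : β * (α * (β * α)) = β * α := by rw [← mul_assoc, ← hu]; exact hu2
  have hu2'' : ∀ z, β * (α * (β * (α * z))) = β * (α * z) := fun z => by
    rw [show β * (α * (β * (α * z))) = (β * α * (β * α)) * z by simp only [mul_assoc], ← hu, hu2, hu, mul_assoc]
  have he4 : α * (β * (α * β)) = α * β := by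
    have h5 : β' * β = 0 := hqB b hb _ (inv_mem hb₁)
    rw [hform] at h5
    simp only [add_mul, sub_mul, neg_mul, mul_assoc, hββ, hβ'', mul_zero, zero_mul, hu2', hu2''] at h5
    rw [← sub_eq_zero, ← h5]
    abel
  have hl : α * β' = α * β := by
    rw [hform]
    simp only [mul_add, mul_sub, mul_neg, mul_assoc, hαα, hα', mul_zero, zero_mul, hu2', hu2'', he4]
    abel
  have hr : β' * α = β * α := by
    rw [hform]
    simp only [add_mul, sub_mul, neg_mul, mul_assoc, hαα, hα', mul_zero, zero_mul, hu2', hu2'']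
    abel
  -- `d` commutes with `a` in the action, hence is trivial
  set d := b₁⁻¹ * b⁻¹ with hdef
  have hd : d ∈ B := mul_mem (inv_mem hb₁) (inv_mem hb)
  suffices d = 1 by
    rw [hdef, ← mul_inv_rev, inv_eq_one] at this
    exact eq_inv_of_mul_eq_one_right this
  have hdφ : φ d = 1 + (β' - β) := by
    rw [hdef, map_mul, hval b hββ, ← hβ, show φ b₁⁻¹ = 1 + β' by simp [hβ'],
      show (1 + β') * (1 - β) = 1 + (β' - β) - β' * β by noncomm_ring,
      show β' * β = 0 from hqB b hb _ (inv_mem hb₁), sub_zero]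
  have hcom : φ d * φ a = φ a * φ d := by
    rw [hdφ, show φ a = 1 + α by simp [hα]]
    simp only [mul_add, add_mul, mul_one, one_mul, mul_sub, sub_mul, hl, hr, sub_self]
    abel
  by_contra hd1
  have hne : A ≠ Cfsg.conjBy A d := fun e =>
    hd1 (eq_one_of_mem_normalizer hAB hd (conjBy_eq_self_iff.1 e.symm))
  have hu' : Cfsg.conjBy A d ∈ Cfsg.unipotentSubgroups A B := ⟨d, Subgroup.mem_sup_right hd, rfl⟩
  have hpair := pair_of_unipotent hAB (left_mem hAB) hu' hne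
  obtain ⟨a₁, ha₁, -, he₁⟩ :=
    hpair.cond_right (d * a * d⁻¹) (conj_mem_conjBy ha) fun e => ha1 (conj_eq_one_iff.1 e)
  have hxa : φ (d * a * d⁻¹) = φ a := by
    rw [map_mul, map_mul, hcom, mul_assoc, hinv, mul_one]
  refine hno _ ((sup_unipotent hAB (left_mem hAB) hu' hne).trans hgen) fun c hc => ?_
  obtain ⟨a₂, ha₂, h2⟩ : a₁⁻¹ * c * a₁ ∈ Cfsg.conjBy A (d * a * d⁻¹)⁻¹ := by
    rw [← he₁, mem_conjBy]
    simpa [mul_assoc] using hc
  refine ⟨a₂, ha₂, ?_⟩
  have h3 : c = a₁ * (d * a * d⁻¹)⁻¹ * a₂ * (d * a * d⁻¹) * a₁⁻¹ := by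
    calc c = a₁ * (a₁⁻¹ * c * a₁) * a₁⁻¹ := by group
      _ = _ := by rw [← h2]; simp [mul_assoc]
  have hinvx : φ (d * a * d⁻¹)⁻¹ = φ a⁻¹ := left_inv_eq_right_inv (hinv' _) (by rw [hxa, hinv])
  rw [h3, map_mul, map_mul, map_mul, map_mul, hinvx, hxa, ← map_mul, ← map_mul, ← map_mul, ← map_mul]
  congr 1
  calc a₁ * a⁻¹ * a₂ * a * a₁⁻¹ = a₁ * (a⁻¹ * (a₂ * a)) * a₁⁻¹ := by group
    _ = a₁ * a₂ * a₁⁻¹ := by rw [hcA ha₂ ha, inv_mul_cancel_left]
    _ = a₂ := by rw [hcA ha₁ ha₂, mul_inv_cancel_right]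

end Cfsg.Agent.S5019
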