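import Cfsg.Statements.S5034
import Cfsg.Agent.Lib.RootSub.Partner
import Cfsg.Agent.S5019


set_option autoImplicit false
open Cfsg

namespace Cfsg.Agent.S5034

open CfsgLib.RootSub
open scoped commutatorElement

/-- Let S be a non-degenerate class of abstract root subgroups of G, A ∈ S and B a rank one partner of A. Then some line partner C of A has ⁅B, C⁆ ∈ S, and the rank one pair A, B is special. -/
theorem result {G : Type*} [Group G] {S : Set (Subgroup G)} (hS : Cfsg.IsRootSubgroupClass S) (hnd : Cfsg.IsNondegenerateRootSet S)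
    {A B : Subgroup G} (hA : A ∈ S) (hB : B ∈ Cfsg.rankOnePartners S A) :
    (∃ C ∈ Cfsg.linePartners S A, C ∈ Cfsg.commutatorPartners S B) ∧ Cfsg.IsSpecialRankOnePair A B := by
  obtain ⟨hS, -, hcl⟩ := hS
  obtain ⟨-, ⟨P₀, hP0, Q₀, hQ0, hPQ⟩, X, hX, Y, hY, hXY⟩ := hnd
  obtain ⟨hBS, hAB⟩ := hB
  have hnon : ∀ Z ∈ S, NonIso S Z := fun Z hZ => by
    obtain ⟨g, rfl⟩ := hcl P₀ hP0 Z hZ
    exact nonIso_conjBy hS ⟨Q₀, hQ0, hPQ⟩ g
  obtain ⟨g, hg⟩ := hcl _ hXY.1 A hA
  rw [case_conjBy] at hg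
  have hcA := comm_case hS (hS.conj_mem X hX g) (hS.conj_mem Y hY g) (hg ▸ hA)
  have hline : Cfsg.conjBy X g ∈ Cfsg.linePartners S A := by
    subst hg
    exact ⟨⟨hS.conj_mem X hX g, case_ne hcA hS,
        commutator_eq_bot_of_commute fun c hc x hx => case_central hcA hc (Subgroup.mem_sup_left hx)⟩,
      by rw [sup_comm]; exact case_partition hS hcA (hS.conj_mem X hX g) (hnon _ (hS.conj_mem X hX g)) (hS.conj_mem Y hY g)⟩
  obtain ⟨E, hEl, hBE, -, hAF, hK⟩ := nonpartner_exists hS hnon hA hline hBS hAB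
  refine ⟨⟨E, hEl, hEl.1.1, hBE.1⟩, hAB, fun a ha ha1 b hb hb1 he => ?_⟩
  obtain ⟨hES, -, hAE⟩ := hEl.1
  set F := ⁅B, E⁆ with hF
  set W := E ⊔ F with hW
  have cEF : ∀ {e f : G}, e ∈ E → f ∈ F → e * f = f * e := fun he hf =>
    (case_central hBE hf (Subgroup.mem_sup_right he)).symm
  have hsplit : ∀ w ∈ W, ∃ e ∈ E, ∃ f ∈ F, e * f = w := fun w hw => mem_sup_of_commute (fun _ he _ hf => cEF he hf) hw
  have hAW : A ≤ Subgroup.normalizer (W : Set G) := le_normalizer_of_conj_mem fun x hx y hy => by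
    obtain ⟨e, he, f, hf, rfl⟩ := hsplit y hy
    rw [show x * (e * f) * x⁻¹ = x * e * x⁻¹ * (⁅x, f⁆ * f) by rw [commutatorElement_def]; group,
      commute_of_commutator_eq_bot hAE hx he, mul_inv_cancel_right]
    exact mul_mem (Subgroup.mem_sup_left he)
      (mul_mem (Subgroup.mem_sup_left (hK ▸ Subgroup.commutator_mem_commutator hx hf)) (Subgroup.mem_sup_right hf))
  have hBW : B ≤ Subgroup.normalizer (W : Set G) := le_normalizer_of_conj_mem fun x hx y hy => by
    obtain ⟨e, he, f, hf, rfl⟩ := hsplit y hy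
    rw [show x * (e * f) * x⁻¹ = ⁅x, e⁆ * e * (x * f * x⁻¹) by rw [commutatorElement_def]; group,
      ← case_central hBE hf (Subgroup.mem_sup_left hx), mul_inv_cancel_right]
    exact mul_mem (mul_mem (Subgroup.mem_sup_right (Subgroup.commutator_mem_commutator hx he))
      (Subgroup.mem_sup_left he)) (Subgroup.mem_sup_right hf)
  have hWab : ∀ u ∈ W, ∀ v ∈ W, u * v = v * u := by
    intro u hu v hv
    obtain ⟨e, he, f, hf, rfl⟩ := hsplit u hu
    obtain ⟨e', he', f', hf', rfl⟩ := hsplit v hv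
    calc e * f * (e' * f') = e * (f * e') * f' := by group
      _ = e * (e' * f) * f' := by rw [cEF he' hf]
      _ = (e * e') * (f * f') := by group
      _ = (e' * e) * (f' * f) := by rw [comm_of_mem hS hES he he', comm_of_mem hS hBE.1 hf hf']
      _ = e' * (e * f') * f := by group
      _ = e' * (f' * e) * f := by rw [cEF he hf']
      _ = e' * f' * (e * f) := by group
  set X₀ := A ⊔ B with hX0
  have hXW : X₀ ≤ Subgroup.normalizer (W : Set G) := sup_le hAW hBW
  letI : CommGroup ↥W := { (inferInstance : Group ↥W) with mul_comm := fun u v => Subtype.ext (hWab u u.2 v v.2) }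
  letI act : DistribMulAction ↥X₀ (Additive ↥W) :=
    { smul := fun x w => Additive.ofMul ⟨(x : G) * ((Additive.toMul w : ↥W) : G) * (x : G)⁻¹,
        (Subgroup.mem_normalizer_iff.1 (hXW x.2) _).1 (Additive.toMul w).2⟩
      one_smul := fun w => by
        refine Subtype.ext ?_
        show (1 : G) * _ * (1 : G)⁻¹ = _
        simp
        rfl
      mul_smul := fun x y w => by
        refine Subtype.ext ?_
        show ((x : G) * (y : G)) * _ * ((x : G) * (y : G))⁻¹ = (x : G) * ((y : G) * _ * (y : G)⁻¹) * (x : G)⁻¹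
        group
      smul_zero := fun x => by
        refine Subtype.ext ?_
        show (x : G) * 1 * (x : G)⁻¹ = 1
        group
      smul_add := fun x v w => by
        refine Subtype.ext ?_
        show (x : G) * (((Additive.toMul v : ↥W) : G) * ((Additive.toMul w : ↥W) : G)) * (x : G)⁻¹ =
          ((x : G) * ((Additive.toMul v : ↥W) : G) * (x : G)⁻¹) * ((x : G) * ((Additive.toMul w : ↥W) : G) * (x : G)⁻¹)
        group }
  set A' := A.subgroupOf X₀ with hA'
  set B' := B.subgroupOf X₀ with hB'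
  have hAX : A ≤ X₀ := le_sup_left
  have hBX : B ≤ X₀ := le_sup_right
  have hsub : ∀ (Z : Subgroup G) (x : ↥X₀), Cfsg.conjBy (Z.subgroupOf X₀) x = (Cfsg.conjBy Z (x : G)).subgroupOf X₀ := by
    intro Z x
    ext y
    rw [Subgroup.mem_subgroupOf, mem_conjBy, mem_conjBy, Subgroup.mem_subgroupOf]
    simp
  have hinj : ∀ (U V : Subgroup G), U ≤ X₀ → V ≤ X₀ → U.subgroupOf X₀ = V.subgroupOf X₀ → U = V := fun U V hU hV h => by
    rw [← inf_eq_left.2 hU, ← inf_eq_left.2 hV]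
    exact Subgroup.subgroupOf_inj.1 h
  have hle : ∀ (Z : Subgroup G), Z ≤ X₀ → ∀ x ∈ X₀, Cfsg.conjBy Z x ≤ X₀ := by
    rintro Z hZ x hx _ ⟨z, hz, rfl⟩
    exact mul_mem (mul_mem hx (hZ hz)) (inv_mem hx)
  have hcond : ∀ (U V : Subgroup G), U ≤ X₀ → V ≤ X₀ → Cfsg.RankOneCondition U V →
      Cfsg.RankOneCondition (U.subgroupOf X₀) (V.subgroupOf X₀) := by
    intro U V hU hV h u hu hu1
    obtain ⟨v, hv, hv1, hev⟩ := h u (Subgroup.mem_subgroupOf.1 hu) (fun e => hu1 (Subtype.ext e))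
    refine ⟨⟨v, hV hv⟩, Subgroup.mem_subgroupOf.2 hv, fun e => hv1 (congrArg Subtype.val e), ?_⟩
    rw [hsub, hsub]
    exact congrArg (fun Z : Subgroup G => Z.subgroupOf X₀) hev
  haveI := hAB.nilpotent_left
  haveI := hAB.nilpotent_right
  haveI := hS.commutative A hA
  haveI := hS.commutative B hBS
  have hpair : Cfsg.IsRankOnePair A' B' :=
    ⟨fun e => hAB.ne (hinj A B hAX hBX e),
      Group.nilpotent_of_mulEquiv (Subgroup.subgroupOfEquivOfLe hAX).symm,
      Group.nilpotent_of_mulEquiv (Subgroup.subgroupOfEquivOfLe hBX).symm,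
      hcond A B hAX hBX hAB.cond_left, hcond B A hBX hAX hAB.cond_right⟩
  have hgen : A' ⊔ B' = ⊤ := by
    rw [hA', hB', ← Subgroup.subgroupOf_sup hAX hBX, Subgroup.subgroupOf_self]
  have hab : Cfsg.HasAbelianUnipotents A' B' :=
    ⟨⟨⟨fun u v => Subtype.ext (Subtype.ext (comm_of_mem hS hA (Subgroup.mem_subgroupOf.1 u.2) (Subgroup.mem_subgroupOf.1 v.2)))⟩⟩,
     ⟨⟨fun u v => Subtype.ext (Subtype.ext (comm_of_mem hS hBS (Subgroup.mem_subgroupOf.1 u.2) (Subgroup.mem_subgroupOf.1 v.2)))⟩⟩⟩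
  have hval : ∀ (x : ↥X₀) (w : Additive ↥W),
      ((Additive.toMul (x • w - w) : ↥W) : G) = ⁅(x : G), ((Additive.toMul w : ↥W) : G)⁆ := by
    intro x w
    rw [toMul_sub, div_eq_mul_inv]
    show (x : G) * _ * (x : G)⁻¹ * _ = _
    rw [commutatorElement_def]
    rfl
  have hq : ∀ x ∈ A', ∀ y ∈ A', ∀ w : Additive ↥W, y • (x • w - w) = x • w - w := by
    intro x hx y hy w
    obtain ⟨e, he, f, hf, hef⟩ := hsplit _ (Additive.toMul w).2
    have hxE : ((Additive.toMul (x • w - w) : ↥W) : G) ∈ E := by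
      rw [hval, ← hef, show ⁅(x : G), e * f⁆ = ⁅(x : G), e⁆ * (e * ⁅(x : G), f⁆ * e⁻¹) by
        simp only [commutatorElement_def]; group,
        commutatorElement_eq_one_iff_commute.2 (commute_of_commutator_eq_bot hAE (Subgroup.mem_subgroupOf.1 hx) he),
        one_mul]
      exact mul_mem (mul_mem he (hK ▸ Subgroup.commutator_mem_commutator (Subgroup.mem_subgroupOf.1 hx) hf)) (inv_mem he)
    refine Subtype.ext ?_
    show (y : G) * _ * (y : G)⁻¹ = _
    rw [commute_of_commutator_eq_bot hAE (Subgroup.mem_subgroupOf.1 hy) hxE, mul_inv_cancel_right]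
    rfl
  have hne : ∃ x y : ↥X₀, ∃ w : Additive ↥W, y • (x • w - w) ≠ x • w - w := by
    obtain ⟨f, hf, hf1⟩ := (Subgroup.bot_or_exists_ne_one _).resolve_left (hS.ne_bot F hBE.1)
    refine ⟨⟨a, hAX ha⟩, ⟨b, hBX hb⟩, Additive.ofMul ⟨f, Subgroup.mem_sup_right hf⟩, fun h => ?_⟩
    have h1 : b * ⁅a, f⁆ * b⁻¹ = ⁅a, f⁆ := by
      have h2 := congrArg (fun z : Additive ↥W => ((Additive.toMul z : ↥W) : G)) h
      have h3 := hval ⟨a, hAX ha⟩ (Additive.ofMul ⟨f, Subgroup.mem_sup_right hf⟩)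
      rw [show ⁅a, f⁆ = _ from h3.symm]
      exact h2
    have hk : ⁅a, f⁆ ∈ E := hK ▸ Subgroup.commutator_mem_commutator ha hf
    have hk1 := case_inj_left hS hBE hBS (hnon B hBS) hb hk
    refine hb1 (hk1 (fun e => hf1 (case_inj hS hAF hA (hnon A hA) ha ha1 hf e)) ?_)
    rw [commutatorElement_def, h1, mul_inv_cancel]
  have hspec := (Cfsg.Agent.S5019.result ⟨hgen, hpair⟩ hab hq hne).2 ⟨a, hAX ha⟩ (Subgroup.mem_subgroupOf.2 ha)
    (fun e => ha1 (congrArg Subtype.val e)) ⟨b, hBX hb⟩ (Subgroup.mem_subgroupOf.2 hb)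
    (fun e => hb1 (congrArg Subtype.val e)) (by
      rw [hA', hB', hsub, hsub]
      exact congrArg (fun Z : Subgroup G => Z.subgroupOf X₀) he)
  exact congrArg Subtype.val hspec

end Cfsg.Agent.S5034
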