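import Cfsg.Statements.S5033
import Cfsg.Agent.Lib.RootSub.Partner
import Cfsg.Agent.Lib.RootSub.Special
import Cfsg.Agent.S5034


set_option autoImplicit false
open Cfsg

namespace Cfsg.Agent.S5033

open CfsgLib.RootSub
open scoped commutatorElement

/-- Quasisimplicity criterion for groups generated by abstract root subgroups. Let S be a set of abstract root subgroups of G with more than one member such that: the graph of rank one pairs on S is connected; no two different members of S have the same set of commuting members of S; if S is degenerate then every member of S has more than three elements; and every rank one pair in S is special. Then for every A ∈ S one has G = G' A with A ∩ G' ≠ 1, and the commutator subgroup G' is quasisimple. Moreover G is perfect if S is non-degenerate, or if some rank one pair A, B in S generates a perfect group. -/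
theorem result {G : Type*} [Group G] {S : Set (Subgroup G)} (hS : Cfsg.IsRootSubgroupSet S) (h2 : ∃ A ∈ S, ∃ B ∈ S, A ≠ B)
    (h1 : Cfsg.IsConnectedFamily (Cfsg.FAdj S) S)
    (h2' : ∀ A ∈ S, ∀ C ∈ S, A ≠ C → Cfsg.centralizingMembers S A ≠ Cfsg.centralizingMembers S C)
    (h3 : Cfsg.IsDegenerateRootSet S → ∀ A ∈ S, 3 < ENat.card A)
    (h4 : ∀ A ∈ S, ∀ B ∈ Cfsg.rankOnePartners S A, Cfsg.IsSpecialRankOnePair A B) :
    (∀ A ∈ S, commutator G ⊔ A = ⊤ ∧ A ⊓ commutator G ≠ ⊥) ∧ Cfsg.IsQuasisimple ↥(commutator G) ∧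
    (Cfsg.IsNondegenerateRootSet S → commutator G = ⊤) ∧
    ((∃ A ∈ S, ∃ B ∈ Cfsg.rankOnePartners S A, Group.IsPerfect ↥(A ⊔ B)) → commutator G = ⊤) := by
  obtain ⟨A₁, hA1, B₁, hB1, hne1⟩ := h2
  have hnon : ∀ A ∈ S, NonIso S A := by
    intro A hA
    obtain ⟨B, hB, hne⟩ : ∃ B ∈ S, B ≠ A := by
      by_cases h : A₁ = A
      · exact ⟨B₁, hB1, fun e => hne1 (h.trans e.symm)⟩
      · exact ⟨A₁, hA1, h⟩
    rcases Relation.ReflTransGen.cases_head (h1 A hA B hB) with h | ⟨Z, hZ, -⟩
    · exact absurd h.symm hne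
    · exact ⟨Z, hZ.2.1, hZ.2.2⟩
  have hcl : Cfsg.IsConjClassOfSubgroups S := ⟨⟨A₁, hA1⟩, fun X hX Y hY => reach_isConj (h1 X hX Y hY)⟩
  have hab : ∀ A ∈ S, ∀ x ∈ A, ∀ y ∈ A, x * y = y * x := fun A hA x hx y hy => comm_of_mem hS hA hx hy
  have hdeg : Cfsg.IsDegenerateRootSet S → ∀ A ∈ S, ∀ B ∈ S, Cfsg.IsRankOnePair A B →
      A ≤ ⁅A ⊔ B, A ⊔ B⁆ := by
    intro hd A hA B hB hAB
    refine special_le_derived (h4 A hA B ⟨hB, hAB⟩) (hab A hA) (hab B hB) fun a ha => ?_
    by_contra hw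
    push Not at hw
    refine absurd (h3 hd A hA) (not_lt.2 ?_)
    have hsub : (A : Set G) ⊆ {1, a⁻¹, a⁻¹ * a⁻¹} := by
      intro w hwA
      by_cases e1 : w = 1
      · exact Or.inl e1
      by_cases e2 : a * w = 1
      · exact Or.inr (Or.inl (eq_inv_of_mul_eq_one_right e2))
      have e3 := hw w hwA e1 e2
      refine Or.inr (Or.inr ?_)
      rw [← mul_assoc] at e3
      rw [Set.mem_singleton_iff, eq_inv_of_mul_eq_one_right e3, mul_inv_rev]
    calc ENat.card ↥A = (A : Set G).encard := rfl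
      _ ≤ ({1, a⁻¹, a⁻¹ * a⁻¹} : Set G).encard := Set.encard_le_encard hsub
      _ ≤ ({a⁻¹, a⁻¹ * a⁻¹} : Set G).encard + 1 := Set.encard_insert_le _ _
      _ ≤ (({a⁻¹ * a⁻¹} : Set G).encard + 1) + 1 := add_le_add (Set.encard_insert_le _ _) le_rfl
      _ = 3 := by rw [Set.encard_singleton]; rfl
  have hnd : ¬ Cfsg.IsDegenerateRootSet S → Cfsg.IsNondegenerateRootSet S := by
    intro h
    unfold Cfsg.IsDegenerateRootSet at h
    push Not at h
    obtain ⟨X, hX, Y, hY, hXY⟩ := h
    obtain ⟨P, hP, hXP⟩ := hnon X hX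
    exact ⟨⟨X, hX, ⁅X, Y⁆, hXY.1, case_ne hXY hS, commutator_eq_bot_of_commute
      fun x hx c hc => (case_central hXY hc (Subgroup.mem_sup_left hx)).symm⟩,
      ⟨X, hX, P, hP, hXP⟩, X, hX, Y, hY, hXY⟩
  have hall : ∀ N : Subgroup G, N.Normal → (∃ A ∈ S, A ≤ N) → N = ⊤ := by
    rintro N hN ⟨A, hA, hle⟩
    rw [eq_top_iff, ← hS.generates]
    refine iSup₂_le fun B hB => ?_
    obtain ⟨g, rfl⟩ := hcl.2 A hA B hB
    rintro _ ⟨a, ha, rfl⟩
    exact hN.conj_mem a (hle ha) g
  have hperf : commutator G = ⊤ := by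
    refine hall _ inferInstance ?_
    by_cases hd : Cfsg.IsDegenerateRootSet S
    · obtain ⟨P, hP, hAP⟩ := hnon A₁ hA1
      exact ⟨A₁, hA1, (hdeg hd A₁ hA1 P hP hAP).trans (Subgroup.commutator_mono le_top le_top)⟩
    · unfold Cfsg.IsDegenerateRootSet at hd
      push Not at hd
      obtain ⟨X, hX, Y, hY, hXY⟩ := hd
      exact ⟨_, hXY.1, Subgroup.commutator_mono le_top le_top⟩
  have hdich : ∀ N : Subgroup G, N.Normal → N ≤ Subgroup.center G ∨ N = ⊤ := by
    intro N hN
    refine or_iff_not_imp_left.2 fun hnc => ?_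
    let π := QuotientGroup.mk' N
    have hker : ∀ A : Subgroup G, A.map π = ⊥ → A ≤ N := fun A h => by
      rw [Subgroup.map_eq_bot_iff, QuotientGroup.ker_mk'] at h
      exact h
    have hmapconj : ∀ (A : Subgroup G) (g : G), (Cfsg.conjBy A g).map π = Cfsg.conjBy (A.map π) (π g) := by
      intro A g
      ext y
      constructor
      · rintro ⟨_, ⟨a, ha, rfl⟩, rfl⟩
        exact ⟨π a, Subgroup.mem_map_of_mem π ha, by simp⟩
      · rintro ⟨_, ⟨a, ha, rfl⟩, rfl⟩
        exact ⟨g * a * g⁻¹, conj_mem_conjBy ha, by simp⟩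
    have hπab : ∀ A ∈ S, ⁅A.map π, A.map π⁆ = ⊥ := fun A hA => by
      rw [← Subgroup.map_commutator, commutator_eq_bot_of_commute (hab A hA)]
      exact Subgroup.map_bot _
    have hkill : ∀ A ∈ S, ∀ B ∈ S, Cfsg.IsRankOnePair A B → A.map π = B.map π → N = ⊤ := by
      intro A hA B hB hAB he
      refine hall N hN ?_
      by_cases hd : Cfsg.IsDegenerateRootSet S
      · refine ⟨A, hA, (hdeg hd A hA B hB hAB).trans (hker _ ?_)⟩
        rw [Subgroup.map_commutator, Subgroup.map_sup, ← he, sup_idem]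
        exact hπab A hA
      · obtain ⟨⟨C, hC, hBC⟩, -⟩ := Cfsg.Agent.S5034.result ⟨hS, hcl⟩ (hnd hd) hA ⟨hB, hAB⟩
        refine ⟨_, hBC.2, hker _ ?_⟩
        rw [Subgroup.map_commutator, ← he, ← Subgroup.map_commutator, hC.1.2.2]
        exact Subgroup.map_bot _
    have hsame : ∀ A ∈ S, ∀ A' ∈ S, A.map π = A'.map π → ∀ E ∈ S, ⁅E, A⁆ = ⊥ → ⁅E, A'⁆ ≠ ⊥ → N = ⊤ := by
      intro A hA A' hA' he E hE h h'
      have hz : ⁅E.map π, A'.map π⁆ = ⊥ := by
        rw [← he, ← Subgroup.map_commutator, h]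
        exact Subgroup.map_bot _
      rcases hS.pair E hE A' hA' with k | k | k
      · exact absurd k h'
      · obtain ⟨e, he', he1⟩ := (exists_ne_one k).1
        obtain ⟨b, hb, -, hconj⟩ := k.cond_left e he' he1
        refine hkill E hE A' hA' k ?_
        have h1 := congrArg (fun X : Subgroup G => X.map π) hconj
        simp only [hmapconj] at h1
        have hb' : π b⁻¹ ∈ Subgroup.normalizer ((E.map π : Subgroup (G ⧸ N)) : Set (G ⧸ N)) :=
          Subgroup.centralizer_le_normalizer _ (Subgroup.mem_centralizer_iff.2 fun x hx =>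
            commute_of_commutator_eq_bot hz hx (Subgroup.mem_map_of_mem π (inv_mem hb)))
        have he'' : π e⁻¹ ∈ Subgroup.normalizer ((A'.map π : Subgroup (G ⧸ N)) : Set (G ⧸ N)) :=
          Subgroup.centralizer_le_normalizer _ (Subgroup.mem_centralizer_iff.2 fun x hx =>
            (commute_of_commutator_eq_bot hz (Subgroup.mem_map_of_mem π (inv_mem he')) hx).symm)
        rwa [conjBy_eq_self_iff.2 hb', conjBy_eq_self_iff.2 he''] at h1
      · refine hall N hN ⟨_, k.1, hker _ ?_⟩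
        rw [Subgroup.map_commutator]
        exact hz
    by_contra hNtop
    refine hnc fun n hn => ?_
    rw [Subgroup.mem_center_iff]
    have hfix : ∀ A ∈ S, Cfsg.conjBy A n = A := by
      intro A hA
      by_contra hne
      have hA' := hS.conj_mem A hA n
      have he : A.map π = (Cfsg.conjBy A n).map π := by
        rw [hmapconj, show π n = 1 from (QuotientGroup.eq_one_iff n).2 hn, conjBy_one]
      rcases hS.pair A hA _ hA' with k | k | k
      · have h5 := h2' A hA _ hA' (Ne.symm hne)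
        obtain ⟨E, hE⟩ := not_forall.1 (mt Set.ext h5)
        by_cases hEA : E ∈ Cfsg.centralizingMembers S A
        · have hEA' : E ∉ Cfsg.centralizingMembers S (Cfsg.conjBy A n) := fun h => hE ⟨fun _ => h, fun _ => hEA⟩
          rw [CfsgLib.RootSub.mem_centralizingMembers] at hEA hEA'
          exact hNtop (hsame A hA _ hA' he E hEA.1 hEA.2 fun h => hEA' ⟨hEA.1, h⟩)
        · have hEA' : E ∈ Cfsg.centralizingMembers S (Cfsg.conjBy A n) := by
            by_contra h
            exact hE ⟨fun h' => absurd h' hEA, fun h' => absurd h' h⟩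
          rw [CfsgLib.RootSub.mem_centralizingMembers] at hEA hEA'
          exact hNtop (hsame _ hA' A hA he.symm E hEA'.1 hEA'.2 fun h => hEA ⟨hEA'.1, h⟩)
      · exact hNtop (hkill A hA _ hA' k he)
      · refine hNtop (hall N hN ⟨_, k.1, hker _ ?_⟩)
        rw [Subgroup.map_commutator, ← he]
        exact hπab A hA
    have hcen : ⊤ ≤ Subgroup.centralizer ({n} : Set G) := by
      rw [← hS.generates]
      refine iSup₂_le fun A hA a ha => Subgroup.mem_centralizer_singleton_iff.2 ?_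
      by_contra hne
      have hz : n * a * n⁻¹ * a⁻¹ ∈ A :=
        mul_mem ((Subgroup.mem_normalizer_iff.1 (conjBy_eq_self_iff.1 (hfix A hA)) a).1 ha) (inv_mem ha)
      have hz1 : n * a * n⁻¹ * a⁻¹ ≠ 1 := fun e => hne (by
        rw [mul_inv_eq_one, mul_inv_eq_iff_eq_mul] at e
        exact e.symm)
      have hzN : π (n * a * n⁻¹ * a⁻¹) = 1 := by
        refine (QuotientGroup.eq_one_iff _).2 ?_
        rw [show n * a * n⁻¹ * a⁻¹ = n * (a * n⁻¹ * a⁻¹) by group]
        exact mul_mem hn (hN.conj_mem _ (inv_mem hn) a)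
      obtain ⟨B, hB, hAB⟩ := hnon A hA
      obtain ⟨b, hb, -, hconj⟩ := hAB.cond_left _ hz hz1
      refine hNtop (hkill A hA B hB hAB ?_)
      have h1 := congrArg (fun X : Subgroup G => Cfsg.conjBy (X.map π) (π b)) hconj
      simp only [hmapconj, conjBy_conjBy, ← map_mul, mul_inv_cancel, map_one, conjBy_one] at h1
      rw [show π (b * (n * a * n⁻¹ * a⁻¹)⁻¹) = π b by rw [map_mul, map_inv, hzN, inv_one, mul_one],
        conjBy_eq_self_of_mem (Subgroup.mem_map_of_mem π hb)] at h1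
      exact h1
    intro g
    exact Subgroup.mem_centralizer_singleton_iff.1 (hcen (Subgroup.mem_top g))
  haveI hGp : Group.IsPerfect G := ⟨hperf⟩
  refine ⟨fun A hA => ⟨by rw [hperf, top_sup_eq], by rw [hperf, inf_top_eq]; exact hS.ne_bot A hA⟩, ?_,
    fun _ => hperf, fun _ => hperf⟩
  rw [hperf]
  refine ⟨inferInstance, ?_⟩
  let e : ↥(⊤ : Subgroup G) ≃* G := Subgroup.topEquiv
  have hnontriv : Subgroup.center ↥(⊤ : Subgroup G) ≠ ⊤ := by
    intro h
    obtain ⟨P, hP, hAP⟩ := hnon A₁ hA1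
    refine not_commutator_bot hAP (commutator_eq_bot_of_commute fun x _ y _ => ?_)
    have h6 := Subgroup.mem_center_iff.1 (h ▸ Subgroup.mem_top (⟨y, Subgroup.mem_top y⟩ : ↥(⊤ : Subgroup G)))
      ⟨x, Subgroup.mem_top x⟩
    exact congrArg Subtype.val h6
  haveI : Nontrivial (↥(⊤ : Subgroup G) ⧸ Subgroup.center ↥(⊤ : Subgroup G)) := by
    obtain ⟨x, hx⟩ : ∃ x, x ∉ Subgroup.center ↥(⊤ : Subgroup G) := by
      by_contra h
      push Not at h
      exact hnontriv (eq_top_iff.2 fun x _ => h x)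
    exact ⟨⟨QuotientGroup.mk x, 1, fun h => hx ((QuotientGroup.eq_one_iff x).1 h)⟩⟩
  refine ⟨fun M hM => ?_⟩
  set M' := M.comap (QuotientGroup.mk' (Subgroup.center ↥(⊤ : Subgroup G))) with hM'
  haveI : M'.Normal := hM.comap _
  rcases hdich (M'.map e.toMonoidHom) (Subgroup.Normal.map inferInstance _ e.surjective) with h | h
  · left
    rw [eq_bot_iff]
    intro y hy
    obtain ⟨x, rfl⟩ := QuotientGroup.mk'_surjective (Subgroup.center ↥(⊤ : Subgroup G)) y
    refine Subgroup.mem_bot.2 ((QuotientGroup.eq_one_iff x).2 (Subgroup.mem_center_iff.2 fun z => e.injective ?_))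
    rw [map_mul, map_mul]
    exact Subgroup.mem_center_iff.1 (h (Subgroup.mem_map_of_mem e.toMonoidHom (x := x) hy)) (e z)
  · right
    rw [eq_top_iff]
    intro y _
    obtain ⟨x, rfl⟩ := QuotientGroup.mk'_surjective (Subgroup.center ↥(⊤ : Subgroup G)) y
    obtain ⟨x', hx', hxx⟩ : e x ∈ M'.map e.toMonoidHom := h.symm ▸ Subgroup.mem_top _
    rw [show x = x' from (e.injective hxx).symm]
    exact hx'

end Cfsg.Agent.S5033
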