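import Cfsg.Statements.S5047
import Cfsg.Agent.Lib.RootSub.SameOdd
-- import your own Cfsg.Agent.* helpers here

set_option autoImplicit false
open Cfsg CfsgLib.RootInvol

namespace Cfsg.Agent.S5047

/-- Let G be a finite group generated by a set D of root involutions whose odd-order-product graph is connected, a ∈ D, and b a member of D different from a, commuting with a, with ab ∈ D, but not having the same commuting members as a. Then some member x of D with bx of order 4 has ax of order 3. -/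
theorem result {G : Type*} [Group G] [Finite G] {D : Set G} (hD : Cfsg.IsRootInvolutionSet D)
    (hc : Cfsg.IsConnectedSet (Cfsg.OddAdj D) D) {a b : G} (ha : a ∈ D) (hb : b ∈ Cfsg.productPartners D a)
    (hbE : b ∉ Cfsg.sameCommutingClass D a) : ∃ x ∈ Cfsg.fourPartners D b, orderOf (a * x) = 3 := by
  obtain ⟨⟨hbD, hba, hbne⟩, hbaD⟩ := hb
  have conjD : ∀ {s t : G}, s ∈ D → t ∈ D → s * t * s ∈ D := fun {s t} hs ht => by
    have := hD.conj_mem t ht s; rwa [inv_eq hD hs] at this
  have hnsame : ¬ Same D a b := fun h => hbE ⟨hbD, Set.ext fun y =>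
    ⟨fun hy => ⟨hy.1, same_commuting hD hc ha hbD hy.1 h hy.2⟩,
      fun hy => ⟨hy.1, same_commuting hD hc hbD ha hy.1 (fun z => (h z).symm) hy.2⟩⟩⟩
  obtain ⟨x, hax, hbx⟩ : ∃ x, Cfsg.OddAdj D a x ∧ ¬ Cfsg.OddAdj D b x := by
    by_contra hall
    push Not at hall
    exact hnsame (same_of_subset hD hc ha hbD hall)
  have hx : x ∈ D := hax.2.1
  have hbxc : b * x ≠ x * b := fun h => forbidden hD hbD hbaD hba h hax
  have o0 : orderOf (x * b) = 4 := by
    rw [orderOf_mul_comm hD hbD hx]; exact four_of hD hbD hx hbxc hbx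
  obtain ⟨hdD, cxd, o1⟩ := step hD (oddAdj_symm hD hax) hbD hba.symm o0
  obtain ⟨-, -, cbd, -, -, -⟩ := four_facts hD hx hbD o0
  set d := (x * b) ^ 2
  obtain ⟨hpD, cap, o2⟩ := step hD hax hdD cxd.eq o1
  obtain ⟨-, -, cdp, -, edp, -⟩ := four_facts hD ha hdD o1
  set p := (a * d) ^ 2 with hpdef
  obtain ⟨huD, cxu, -⟩ := step hD (oddAdj_symm hD hax) hpD cap.eq o2
  obtain ⟨-, -, cpu, exu, -, -⟩ := four_facts hD hx hpD o2
  set u := (x * p) ^ 2 with hudef
  have huxD : u * x ∈ D := by rw [← cxu.eq, exu]; exact conjD hpD hx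
  obtain ⟨y, huy, hxy⟩ : ∃ y, Cfsg.OddAdj D u y ∧ ¬ Cfsg.OddAdj D x y := by
    by_contra hall
    push Not at hall
    exact not_commute_of_four hD hx hpD o2
      (same_commuting hD hc huD hx hpD (same_of_subset hD hc huD hx hall) cpu.eq).symm
  have hy : y ∈ D := huy.2.1
  have hxyc : x * y ≠ y * x := fun h =>
    forbidden hD hx (by rw [cxu.eq]; exact huxD) cxu.eq h huy
  have o3 : orderOf (y * x) = 4 := by
    rw [orderOf_mul_comm hD hx hy]; exact four_of hD hx hy hxyc hxy
  obtain ⟨k, hk⟩ := periodic hD huy hx cxu.symm o3 huxD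
  obtain ⟨hqD, -, hq4⟩ := chain_inv hD huy hx cxu.symm o3 (2 * k + 1)
  have hact : act u y (2 * k + 1) = u := by simp [act, Nat.even_add_one]
  rw [chain, hact] at hk
  rw [hact] at hq4
  set q := chain u y x (2 * k + 1)
  have o4 : orderOf (p * q) = 3 := braid hD huD hx hpD hqD hudef.symm hk
  have hpq : Cfsg.OddAdj D p q := ⟨hpD, hqD, fun e => by
    rw [e, mul_self hD hqD, orderOf_one] at o4
    exact absurd o4 (by decide), by rw [o4]; decide⟩
  have hdpD : d * p ∈ D := by rw [edp]; exact conjD ha hdD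
  have hqd : d * q ≠ q * d := fun h => forbidden hD hdD hdpD cdp.eq h hpq
  obtain ⟨-, cux, cqx, eux, exq, -⟩ := four_facts hD huD hqD hq4
  rw [hk] at cqx exq
  have o5 : orderOf (q * d) = 4 := by
    rw [orderOf_mul_comm hD hdD hqD]
    refine four_of hD hdD hqD hqd fun hadj => ?_
    refine forbidden hD hx ?_ cqx.eq.symm cxd.eq (oddAdj_symm hD hadj)
    rw [← cqx.eq, exq]
    exact conjD huD hqD
  have hpd : p * d ∈ D := by rw [← cdp.eq]; exact hdpD
  have hpe := propagate hD hpD hqD hdD o4 cdp.symm hpd o5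
  obtain ⟨heD, cqe, cde, -, ede, -⟩ := four_facts hD hqD hdD o5
  set e := (q * d) ^ 2
  have hda : (d * a) ^ 2 = p := by
    rw [← inv_eq hD hpD, hpdef, ← inv_pow, mul_inv_rev, inv_eq hD hdD, inv_eq hD ha]
  have o6 : orderOf (a * e) = 3 := braid hD hpD hdD ha heD hda hpe
  have hae : Cfsg.OddAdj D a e := ⟨ha, heD, fun h => by
    rw [h, mul_self hD heD, orderOf_one] at o6
    exact absurd o6 (by decide), by rw [o6]; decide⟩
  refine ⟨e, ⟨heD, four_of hD hbD heD (fun h => forbidden hD hbD hbaD hba h hae) fun hadj => ?_⟩, o6⟩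
  refine forbidden hD hdD ?_ cde.eq cbd.eq.symm (oddAdj_symm hD hadj)
  rw [ede]
  exact conjD hqD hdD

end Cfsg.Agent.S5047
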