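import Cfsg.Statements.S5046
import Cfsg.Agent.Lib.RootSub.SameOdd
-- import your own Cfsg.Agent.* helpers here

set_option autoImplicit false
open Cfsg CfsgLib.RootInvol

namespace Cfsg.Agent.S5046

/-- Let G be a finite group generated by a set D of root involutions whose odd-order-product graph is connected, and d ∈ D. Then the members e of D with the same commuting members as d are exactly those for which the union of the commuting members of d and the members whose product with d has order 4 equals the corresponding union for e. -/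
theorem result {G : Type*} [Group G] [Finite G] {D : Set G} (hD : Cfsg.IsRootInvolutionSet D)
    (hc : Cfsg.IsConnectedSet (Cfsg.OddAdj D) D) {d : G} (hd : d ∈ D) :
    Cfsg.sameCommutingClass D d =
      {e | e ∈ D ∧ Cfsg.commutingMembers D d ∪ Cfsg.fourPartners D d = Cfsg.commutingMembers D e ∪ Cfsg.fourPartners D e} := by
  have hcomp : ∀ (a : G), a ∈ D → ∀ y, Cfsg.OddAdj D a y ↔
      y ∈ D ∧ y ∉ Cfsg.commutingMembers D a ∪ Cfsg.fourPartners D a := by
    intro a ha y
    constructor
    · intro h
      refine ⟨h.2.1, ?_⟩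
      rintro (⟨-, h1⟩ | ⟨-, h1⟩)
      · exact commute_not_odd hD ha h.2.1 h.2.2.1 h1.symm h.2.2.2
      · have h2 := h.2.2.2
        rw [h1] at h2
        exact absurd h2 (by decide)
    · rintro ⟨hy, hn⟩
      by_contra hno
      apply hn
      by_cases hcy : a * y = y * a
      · exact Or.inl ⟨hy, hcy.symm⟩
      · exact Or.inr ⟨hy, four_of hD ha hy hcy hno⟩
  have key : ∀ a ∈ D, ∀ b ∈ D, Cfsg.commutingMembers D a = Cfsg.commutingMembers D b →
      ∀ y, Cfsg.OddAdj D a y → Cfsg.OddAdj D b y := by
    intro a ha b hb h y hy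
    by_contra hno
    by_cases hby : b * y = y * b
    · have hm : y ∈ Cfsg.commutingMembers D b := ⟨hy.2.1, hby.symm⟩
      rw [← h] at hm
      exact commute_not_odd hD ha hy.2.1 hy.2.2.1 hm.2.symm hy.2.2.2
    · obtain ⟨hg, cbg, cyg, -, eyg, -⟩ := four_facts hD hb hy.2.1 (four_of hD hb hy.2.1 hby hno)
      have hm : (b * y) ^ 2 ∈ Cfsg.commutingMembers D b := ⟨hg, cbg.eq.symm⟩
      rw [← h] at hm
      refine forbidden hD hg ?_ cyg.eq.symm hm.2 (oddAdj_symm hD hy)
      rw [← cyg.eq, eyg]
      have := hD.conj_mem y hy.2.1 b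
      rwa [inv_eq hD hb] at this
  ext e
  constructor
  · rintro ⟨he, h⟩
    refine ⟨he, Set.ext fun y => ?_⟩
    have hiff : Cfsg.OddAdj D d y ↔ Cfsg.OddAdj D e y :=
      ⟨key d hd e he h y, key e he d hd h.symm y⟩
    rw [hcomp d hd, hcomp e he] at hiff
    constructor <;> intro hy
    · by_contra hn
      exact (hiff.2 ⟨by rcases hy with hy | hy <;> exact hy.1, hn⟩).2 hy
    · by_contra hn
      exact (hiff.1 ⟨by rcases hy with hy | hy <;> exact hy.1, hn⟩).2 hy
  · rintro ⟨he, h⟩
    have hsame : Same D d e := fun y => by rw [hcomp d hd, hcomp e he, h]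
    exact ⟨he, Set.ext fun y => ⟨fun hy => ⟨hy.1, same_commuting hD hc hd he hy.1 hsame hy.2⟩,
      fun hy => ⟨hy.1, same_commuting hD hc he hd hy.1 (fun z => (hsame z).symm) hy.2⟩⟩⟩

end Cfsg.Agent.S5046
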