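import Cfsg.Statements.S5021
import Cfsg.Agent.Lib.RootSub.Special
-- import your own Cfsg.Agent.* helpers here

set_option autoImplicit false
open Cfsg

namespace Cfsg.Agent.S5021

open CfsgLib.RootSub

variable {X : Type*} [Group X] {A B : Subgroup X}

/-- `F` is the element of `B` attached to `a`. -/
def Att (A B : Subgroup X) (a f : X) : Prop :=
  f ∈ B ∧ Cfsg.conjBy A f = Cfsg.conjBy B a⁻¹

section
variable (hs : Cfsg.IsSpecialRankOnePair A B) (hA : ∀ x ∈ A, ∀ y ∈ A, x * y = y * x)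
  (hB : ∀ x ∈ B, ∀ y ∈ B, x * y = y * x)

include hs in
theorem att_unique {a f f' : X} (h : Att A B a f) (h' : Att A B a f') : f = f' := by
  have h1 := conjBy_eq_iff.1 (h'.2.trans h.2.symm)
  exact inv_mul_eq_one.1 (eq_one_of_mem_normalizer hs.1 (mul_mem (inv_mem h.1) h'.1) h1)

include hs in
theorem att_inj {a a' f : X} (ha : a ∈ A) (ha' : a' ∈ A) (h : Att A B a f) (h' : Att A B a' f) :
    a = a' := by
  have h1 := conjBy_eq_iff.1 (h.2.symm.trans h'.2)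
  have h2 := eq_one_of_mem_normalizer (Cfsg.RankOnePair_symm hs.1)
    (mul_mem (inv_mem (inv_mem ha')) (inv_mem ha)) h1
  rw [inv_inv, mul_inv_eq_one] at h2
  exact h2.symm

include hs hB in
theorem att_surj {β : X} (hβ : β ∈ B) (hβ1 : β ≠ 1) : ∃ a ∈ A, a ≠ 1 ∧ Att A B a β := by
  obtain ⟨a, ha, ha1, he⟩ := hs.1.cond_right β⁻¹ (inv_mem hβ) (inv_ne_one.2 hβ1)
  rw [inv_inv] at he
  exact ⟨a, ha, ha1, hβ, he.symm⟩

include hs hB in
/-- Conjugation by `μ = a f a` as a map from `A` into `B`, with the basic facts. -/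
theorem mu_facts {a f : X} (ha : a ∈ A) (ha1 : a ≠ 1) (hf : Att A B a f) :
    Cfsg.conjBy A (a * f * a) = B ∧ Cfsg.conjBy B (a * f * a) = A ∧
      a * f * a * a * (a * f * a)⁻¹ = f ∧ f ≠ 1 ∧ Att A B a⁻¹ f⁻¹ := by
  obtain ⟨F, hF, hF1, heF, hbr, hAn, hBn, heI⟩ := special_element hs hB ha ha1
  obtain rfl := att_unique hs hf ⟨hF, heF⟩
  refine ⟨hAn, hBn, ?_, hF1, inv_mem hF, by rw [inv_inv]; exact heI⟩
  calc a * f * a * a * (a * f * a)⁻¹ = a * f * a * (f⁻¹ * a⁻¹) := by group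
    _ = f * a * f * (f⁻¹ * a⁻¹) := by rw [hbr]
    _ = f := by group

include hs hA hB in
/-- The addition rule. -/
theorem rule {a f c g y : X} (ha : a ∈ A) (ha1 : a ≠ 1) (hf : Att A B a f) (hc : c ∈ A)
    (hg : Att A B c g) (hy : y ∈ A) (hy' : Att A B y (f * g)) (hac : a * c ≠ 1) :
    Att A B (a * y⁻¹) (f * (a * f * a * c * (a * f * a)⁻¹)) := by
  obtain ⟨hAn, hBn, hfix, -, -⟩ := mu_facts hs hB ha ha1 hf
  set m := a * f * a with hm
  set u := a⁻¹ * c⁻¹ with hu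
  have huA : u ∈ A := mul_mem (inv_mem ha) (inv_mem hc)
  have hu1 : u ≠ 1 := by
    intro e
    apply hac
    rw [hA a ha c hc]
    rw [hu, ← mul_inv_rev, inv_eq_one] at e
    exact e
  have hmu : m * u * m⁻¹ ∈ B := hAn ▸ conj_mem_conjBy huA
  have hmu1 : m * u * m⁻¹ ≠ 1 := fun e => hu1 (by
    rw [mul_inv_eq_one, mul_eq_left] at e
    exact e)
  obtain ⟨e, he, he1, hee⟩ := att_surj hs hB hmu hmu1
  have h1 : Cfsg.conjBy A (f * g) = Cfsg.conjBy B (e * a)⁻¹ := by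
    rw [← conjBy_conjBy, hg.2, conjBy_conjBy,
      show f * c⁻¹ = a⁻¹ * (m * u * m⁻¹) * m by rw [hm, hu]; group, ← conjBy_conjBy, hBn,
      ← conjBy_conjBy, hee.2, conjBy_conjBy, mul_inv_rev]
  have hye : y = e * a := att_inj hs hy (mul_mem he ha) hy' ⟨mul_mem hf.1 hg.1, h1⟩
  obtain ⟨-, -, -, -, hinv⟩ := mu_facts hs hB he he1 hee
  have h2 : a * y⁻¹ = e⁻¹ := by rw [hye, mul_inv_rev, mul_inv_cancel_left]
  have h3 : (m * u * m⁻¹)⁻¹ = f * (m * c * m⁻¹) := by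
    rw [hu, hA _ (inv_mem ha) _ (inv_mem hc)]
    calc (m * (c⁻¹ * a⁻¹) * m⁻¹)⁻¹ = (m * a * m⁻¹) * (m * c * m⁻¹) := by group
      _ = f * (m * c * m⁻¹) := by rw [hfix]
  rw [h2, ← h3]
  exact hinv

/-- `k` is invertible on the unipotent subgroups, compatibly with attachment. -/
def Div (A B : Subgroup X) (k : ℕ) : Prop :=
  ∀ a f, a ∈ A → a ^ k ≠ 1 → Att A B a f → ∃ y ∈ A, y ^ k = a ∧ Att A B y (f ^ k)

include hs hB in
theorem torsion_free_B {k : ℕ} (tA : ∀ x ∈ A, x ^ k = 1 → x = 1) {a f : X} (ha : a ∈ A)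
    (ha1 : a ≠ 1) (hf : Att A B a f) : ∀ x ∈ B, x ^ k = 1 → x = 1 := by
  intro x hx hxk
  obtain ⟨hAn, hBn, -, -, -⟩ := mu_facts hs hB ha ha1 hf
  have hmem : a * f * a * x * (a * f * a)⁻¹ ∈ A := hBn ▸ conj_mem_conjBy hx
  have h := tA _ hmem (by rw [conj_pow, hxk, mul_one, mul_inv_cancel])
  rwa [mul_inv_eq_one, mul_eq_left] at h

include hs hB in
theorem att_pow_ne_one {k : ℕ} {a f : X} (ha : a ∈ A) (hk : a ^ k ≠ 1) (hf : Att A B a f) :
    f ^ k ≠ 1 := by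
  intro e
  have ha1 : a ≠ 1 := fun h => hk (by rw [h, one_pow])
  obtain ⟨-, -, hfix, -, -⟩ := mu_facts hs hB ha ha1 hf
  rw [← hfix, conj_pow, mul_inv_eq_one, mul_eq_left] at e
  exact hk e

include hs hA hB in
theorem div_succ {k : ℕ} (hk : 1 ≤ k) (tA : ∀ x ∈ A, x ^ k = 1 → x = 1) (hd : Div A B k) :
    Div A B (k + 1) := by
  intro a f ha hak hf
  have ha1 : a ≠ 1 := fun e => hak (by rw [e, one_pow])
  obtain ⟨c, hc, hca, hcg⟩ := hd a f ha (fun e => ha1 (tA a ha e)) hf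
  obtain ⟨hAn, hBn, hfix, -, -⟩ := mu_facts hs hB ha ha1 hf
  set m := a * f * a with hm
  have tB := torsion_free_B hs hB tA ha ha1 hf
  have cancelB : ∀ x ∈ B, ∀ x' ∈ B, x ^ k = x' ^ k → x = x' := by
    intro x hx x' hx' e
    have hc : Commute x x'⁻¹ := hB x hx x'⁻¹ (inv_mem hx')
    exact mul_inv_eq_one.1 (tB _ (mul_mem hx (inv_mem hx'))
      (by rw [hc.mul_pow, e, inv_pow, mul_inv_cancel]))
  have cancelA : ∀ x ∈ A, ∀ x' ∈ A, x ^ k = x' ^ k → x = x' := by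
    intro x hx x' hx' e
    have hc : Commute x x'⁻¹ := hA x hx x'⁻¹ (inv_mem hx')
    exact mul_inv_eq_one.1 (tA _ (mul_mem hx (inv_mem hx'))
      (by rw [hc.mul_pow, e, inv_pow, mul_inv_cancel]))
  -- if `g` is attached to `x ^ k` then `g ^ k` is attached to `x`
  have root : ∀ x g, x ∈ A → x ≠ 1 → Att A B (x ^ k) g → Att A B x (g ^ k) := by
    intro x g hx hx1 hg
    obtain ⟨z, hz, hzx, hzg⟩ := hd (x ^ k) g (pow_mem hx k)
      (fun e => hx1 (tA x hx (tA _ (pow_mem hx k) e))) hg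
    rwa [cancelA z hz x hx hzx] at hzg
  have hf1 : f ^ (k + 1) ≠ 1 := att_pow_ne_one hs hB ha hak hf
  obtain ⟨y, hy, hy1, hyf⟩ := att_surj hs hB (pow_mem hf.1 (k + 1)) hf1
  have hcg' : Att A B c (f ^ k) := hcg
  have hyfg : Att A B y (f * f ^ k) := by rwa [← pow_succ']
  have hac : a * c ≠ 1 := by
    intro e
    refine hak (tA _ (pow_mem ha _) ?_ |>.trans rfl)
    have h1 : c = a⁻¹ := (eq_inv_of_mul_eq_one_right e)
    rw [h1, inv_pow] at hca
    have h2 : a ^ (k + 1) = 1 := by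
      rw [pow_succ]; nth_rewrite 2 [← hca]; rw [mul_inv_cancel]
    rw [h2, one_pow]
  have hr := rule hs hA hB ha ha1 hf hc hcg' hy hyfg hac
  set φc := m * c * m⁻¹ with hφc
  have hφcB : φc ∈ B := hAn ▸ conj_mem_conjBy hc
  have hφck : φc ^ k = f := by rw [hφc, conj_pow, hca, hfix]
  have hak1 : a ^ k ≠ 1 := fun e => ha1 (tA a ha e)
  obtain ⟨F1, hF1, -, heF1, -⟩ := special_element hs hB (pow_mem ha k) hak1
  have hF1k : F1 ^ k = f := att_unique hs (root a F1 ha ha1 ⟨hF1, heF1⟩) hf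
  have hF1c : F1 = φc := cancelB _ hF1 _ hφcB (hF1k.trans hφck.symm)
  have hyk1 : y ^ k ≠ 1 := fun e => hy1 (tA y hy e)
  obtain ⟨F2, hF2, -, heF2, -⟩ := special_element hs hB (pow_mem hy k) hyk1
  have hF2k : F2 ^ k = f ^ (k + 1) := att_unique hs (root y F2 hy hy1 ⟨hF2, heF2⟩) hyf
  have hF2c : F2 = f * φc := cancelB _ hF2 _ (mul_mem hf.1 hφcB) (by
    rw [hF2k, (show Commute f φc from hB f hf.1 φc hφcB).mul_pow, hφck, pow_succ])
  have hfin : a * y⁻¹ = y ^ k :=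
    att_inj hs (mul_mem ha (inv_mem hy)) (pow_mem hy k) hr (hF2c ▸ ⟨hF2, heF2⟩)
  exact ⟨y, hy, by rw [pow_succ, ← hfin, inv_mul_cancel_right], hyf⟩

include hs hA hB in
theorem div_of_torsion_free : ∀ q : ℕ, 1 ≤ q →
    (∀ m, 1 ≤ m → m < q → ∀ x ∈ A, x ^ m = 1 → x = 1) → Div A B q := by
  intro q
  induction q with
  | zero => omega
  | succ k ih =>
    intro _ ht
    rcases Nat.eq_zero_or_pos k with rfl | hk
    · intro a f ha _ hf
      exact ⟨a, ha, pow_one a, by rwa [pow_one]⟩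
    · exact div_succ hs hA hB hk (ht k hk (by omega))
        (ih hk fun m h1 h2 => ht m h1 (by omega))

end


/-- In a special rank one group with abelian unipotent subgroups A and B, either A is an elementary abelian p-group for some prime p, or A is torsion-free and divisible (every element of A has an n-th root in A for every positive n). -/
theorem result {X : Type*} [Group X] {A B : Subgroup X} (h : Cfsg.IsRankOneGroup X A B)
    (hs : Cfsg.IsSpecialRankOnePair A B) (hab : Cfsg.HasAbelianUnipotents A B) :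
    (∃ p : ℕ, p.Prime ∧ Cfsg.IsElementaryAbelian p A) ∨
    ((∀ a ∈ A, a ≠ 1 → ¬ IsOfFinOrder a) ∧ ∀ a ∈ A, ∀ n : ℕ, 0 < n → ∃ c ∈ A, c ^ n = a) := by
  classical
  have hA : ∀ x ∈ A, ∀ y ∈ A, x * y = y * x := fun x hx y hy =>
    congrArg Subtype.val (hab.1.is_comm.comm ⟨x, hx⟩ ⟨y, hy⟩)
  have hB : ∀ x ∈ B, ∀ y ∈ B, x * y = y * x := fun x hx y hy =>
    congrArg Subtype.val (hab.2.is_comm.comm ⟨x, hx⟩ ⟨y, hy⟩)
  by_cases htor : ∃ n : ℕ, 1 ≤ n ∧ ∃ x ∈ A, x ^ n = 1 ∧ x ≠ 1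
  · -- the least torsion exponent is a prime killing `A`
    left
    obtain ⟨hq1, c, hc, hcq, hc1⟩ := Nat.find_spec htor
    set q := Nat.find htor with hq
    have ht : ∀ m, 1 ≤ m → m < q → ∀ x ∈ A, x ^ m = 1 → x = 1 := fun m h1 h2 x hx hxm =>
      by_contra fun hx1 => Nat.find_min htor h2 ⟨h1, x, hx, hxm, hx1⟩
    have hqp : q.Prime := by
      have hq2 : q ≠ 1 := fun e => hc1 (by rw [e, pow_one] at hcq; exact hcq)
      by_contra hnp
      obtain ⟨m, hmq, hm2, hmlt⟩ := Nat.exists_dvd_of_not_prime2 (by omega) hnp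
      obtain ⟨r, hr⟩ := hmq
      have hr1 : 1 ≤ r := Nat.pos_of_ne_zero (by rintro rfl; omega)
      have hrlt : r < q := by rw [hr]; nlinarith
      rw [hr, pow_mul] at hcq
      exact hc1 (ht m (by omega) hmlt c hc (ht r hr1 hrlt _ (pow_mem hc m) hcq))
    have hd := div_of_torsion_free hs hA hB q hq1 ht
    refine ⟨q, hqp, hab.1, fun d hd' => ?_⟩
    by_contra hdq
    have hd1 : d ≠ 1 := fun e => hdq (by rw [e, one_pow])
    obtain ⟨F, hF, -, heF, -⟩ := special_element hs hB hd' hd1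
    have key : ∀ d' ∈ A, d' ^ q ≠ 1 → ∀ f, Att A B d' f →
        ∃ g, Att A B (d' ^ q) g ∧ g ^ q = f := by
      intro d' hd'' hdq' f hf
      have hd1' : d' ≠ 1 := fun e => hdq' (by rw [e, one_pow])
      obtain ⟨z, hz, hzq, -⟩ := hd d' f hd'' hdq' hf
      obtain ⟨hAn, -, hfix, -, -⟩ := mu_facts hs hB hd'' hd1' hf
      have hgB : d' * f * d' * z * (d' * f * d')⁻¹ ∈ B := hAn ▸ conj_mem_conjBy hz
      have hgq : (d' * f * d' * z * (d' * f * d')⁻¹) ^ q = f := by rw [conj_pow, hzq, hfix]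
      set g := d' * f * d' * z * (d' * f * d')⁻¹
      have hf1 : f ≠ 1 := (mu_facts hs hB hd'' hd1' hf).2.2.2.1
      have hg1 : g ≠ 1 := fun e => hf1 (by rw [← hgq, e, one_pow])
      obtain ⟨w, hw, hw1, hwg⟩ := att_surj hs hB hgB hg1
      have hwq : w ^ q ≠ 1 := by
        intro e
        apply hf1
        rw [← hgq, ← (mu_facts hs hB hw hw1 hwg).2.2.1, conj_pow, e, mul_one, mul_inv_cancel]
      obtain ⟨y, hy, hyw, hyg⟩ := hd w g hw hwq hwg
      rw [hgq] at hyg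
      obtain rfl := att_inj hs hy hd'' hyg hf
      exact ⟨g, hyw ▸ hwg, hgq⟩
    have hdc : (d * c) ^ q = d ^ q := by
      rw [(show Commute d c from hA d hd' c hc).mul_pow, hcq, mul_one]
    have hdc1 : d * c ≠ 1 := fun e => hdq (by rw [← hdc, e, one_pow])
    obtain ⟨F', hF', -, heF', -⟩ := special_element hs hB (mul_mem hd' hc) hdc1
    obtain ⟨g, hg, hgq⟩ := key d hd' hdq F ⟨hF, heF⟩
    obtain ⟨g', hg', hgq'⟩ := key (d * c) (mul_mem hd' hc) (by rwa [hdc]) F' ⟨hF', heF'⟩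
    rw [hdc] at hg'
    rw [att_unique hs hg' hg, hgq] at hgq'
    exact hc1 (mul_eq_left.1 (att_inj hs (mul_mem hd' hc) hd'
      ⟨hF', heF'⟩ (hgq' ▸ ⟨hF, heF⟩)))
  · right
    have ht : ∀ m, 1 ≤ m → ∀ x ∈ A, x ^ m = 1 → x = 1 := fun m h1 x hx hxm =>
      by_contra fun hx1 => htor ⟨m, h1, x, hx, hxm, hx1⟩
    refine ⟨fun a ha ha1 hfin => ha1 (ht (orderOf a) hfin.orderOf_pos a ha (pow_orderOf_eq_one a)),
      fun a ha n hn => ?_⟩
    rcases eq_or_ne a 1 with rfl | ha1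
    · exact ⟨1, one_mem _, one_pow _⟩
    obtain ⟨F, hF, -, heF, -⟩ := special_element hs hB ha ha1
    obtain ⟨y, hy, hyn, -⟩ := div_of_torsion_free hs hA hB n hn (fun m h1 _ => ht m h1) a F ha
      (fun e => ha1 (ht n hn a ha e)) ⟨hF, heF⟩
    exact ⟨y, hy, hyn⟩

end Cfsg.Agent.S5021
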