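import Cfsg.Statements.S5022
import Cfsg.Agent.Lib.RootSub.Special
import Cfsg.Agent.S5021
-- import your own Cfsg.Agent.* helpers here

set_option autoImplicit false
open Cfsg

namespace Cfsg.Agent.S5022

open CfsgLib.RootSub

section torus

variable {U X : Type*} [CommGroup U] [Finite U] [IsCyclic U] [Group X]

/-- A map obeying the conjugation rules of the Weyl elements gives a homomorphism on the torus. -/
theorem torus (W : U → X) (e : U) (he : e * e = 1) (hinv : ∀ t, W (e * t) = (W t)⁻¹)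
    (hconj : ∀ s t, W s * W t * (W s)⁻¹ = W (s * s * t⁻¹))
    (hsq : (∀ u : U, u * u ≠ e) → ∃ v l : U, (∀ u : U, u * u ≠ l) ∧
      W (v * v) * W 1 = W (l * (v * v)) * W l) :
    (∀ s t, W (s * t) * (W 1)⁻¹ = W s * (W 1)⁻¹ * (W t * (W 1)⁻¹)) ∧
      W 1 * W 1 = W e * (W 1)⁻¹ := by
  obtain ⟨g, hg⟩ := IsCyclic.exists_monoid_generator (α := U)
  have hpow : ∀ u : U, ∃ i : ℕ, g ^ i = u := fun u => (Submonoid.mem_powers_iff _ _).1 (hg u)
  set w := W 1 with hw
  set c := W g * w with hc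
  have hsym : ∀ s t, W s * W t = W (s * s * t⁻¹) * W s := fun s t => by
    rw [← hconj, inv_mul_cancel_right]
  have hP : ∀ i : ℕ, W (g ^ (i + 1)) * W (g ^ i) = c := by
    intro i
    induction i with
    | zero => rw [pow_one, pow_zero]
    | succ k ih =>
      have e1 : g ^ (k + 1) * g ^ (k + 1) * (g ^ k)⁻¹ = g ^ (k + 1 + 1) := by
        rw [mul_inv_eq_iff_eq_mul, ← pow_add, ← pow_add]
        congr 1
        omega
      rw [hsym, e1] at ih
      exact ih
  have hQ : ∀ i : ℕ, W (g ^ i) * W (g ^ (i + 1)) = w * W g := by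
    intro i
    induction i with
    | zero => rw [pow_zero, pow_one]
    | succ k ih =>
      have e1 : g ^ (k + 1) * g ^ (k + 1) * (g ^ (k + 1 + 1))⁻¹ = g ^ k := by
        rw [mul_inv_eq_iff_eq_mul, ← pow_add, ← pow_add]
        congr 1
        omega
      rw [hsym, e1, ih]
  set z := w * w with hz
  obtain ⟨n, hn⟩ := hpow e
  have hwe : W e = w⁻¹ := by simpa using hinv 1
  have hcinv : w * W g = c⁻¹ := by
    rw [← hQ n, hn, pow_succ, hn, hwe, hinv g, hc, mul_inv_rev]
  have hwc : w * c = c⁻¹ * w := by rw [← hcinv, hc, mul_assoc]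
  have hzc : Commute z c := by
    show w * w * c = c * (w * w)
    rw [mul_assoc, hwc, ← mul_assoc]
    have h2 : w * c⁻¹ = c * w := by
      rw [mul_inv_eq_iff_eq_mul, mul_assoc, hwc, mul_inv_cancel_left]
    rw [h2, mul_assoc]
  have hwz : Commute w z := Commute.mul_right (Commute.refl w) (Commute.refl w)
  have hwinv : w⁻¹ = z⁻¹ * w := by rw [hz, mul_inv_rev, inv_mul_cancel_right]
  have hwinv' : w⁻¹ = w * z⁻¹ := by rw [hwinv, hwz.inv_right.eq]
  have hwck : ∀ k : ℕ, w * c ^ k = (c ^ k)⁻¹ * w := by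
    intro k
    induction k with
    | zero => simp
    | succ m ih => rw [pow_succ, ← mul_assoc, ih, mul_assoc, hwc, ← mul_assoc, ← mul_inv_rev, ← pow_succ']; rw [pow_succ]
  have hnext : ∀ i : ℕ, W (g ^ (i + 1)) = c * (W (g ^ i))⁻¹ := fun i => by
    rw [← hP i, mul_inv_cancel_right]
  have hform : ∀ j : ℕ, W (g ^ (2 * j)) = c ^ (2 * j) * w ∧
      W (g ^ (2 * j + 1)) = c ^ (2 * j + 1) * z⁻¹ * w := by
    have odd_of_even : ∀ j : ℕ, W (g ^ (2 * j)) = c ^ (2 * j) * w →
        W (g ^ (2 * j + 1)) = c ^ (2 * j + 1) * z⁻¹ * w := by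
      intro j h
      rw [hnext, h, mul_inv_rev, ← mul_assoc, hwinv, mul_assoc c, mul_assoc z⁻¹]
      have : w * (c ^ (2 * j))⁻¹ = c ^ (2 * j) * w := by
        rw [mul_inv_eq_iff_eq_mul, mul_assoc, hwck, mul_inv_cancel_left]
      rw [this, ← mul_assoc z⁻¹, (hzc.inv_left.pow_right (2 * j)).eq, pow_succ']
      simp only [mul_assoc]
    intro j
    induction j with
    | zero => exact ⟨by simp [hw], odd_of_even 0 (by simp [hw])⟩
    | succ m ih =>
      have h2 : W (g ^ (2 * (m + 1))) = c ^ (2 * (m + 1)) * w := by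
        rw [show 2 * (m + 1) = 2 * m + 1 + 1 by ring, hnext, ih.2]
        rw [mul_inv_rev, mul_inv_rev, inv_inv, hwinv']
        have : w * z⁻¹ * (z * (c ^ (2 * m + 1))⁻¹) = w * (c ^ (2 * m + 1))⁻¹ := by group
        rw [this]
        have : w * (c ^ (2 * m + 1))⁻¹ = c ^ (2 * m + 1) * w := by
          rw [mul_inv_eq_iff_eq_mul, mul_assoc, hwck, mul_inv_cancel_left]
        rw [this, ← mul_assoc, ← pow_succ']
      exact ⟨h2, odd_of_even (m + 1) h2⟩
  have hz2 : z * z = 1 := by
    by_cases hs : ∀ u : U, u * u ≠ e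
    · obtain ⟨v, l, hl, hrel⟩ := hsq hs
      obtain ⟨j, hj⟩ := hpow v
      obtain ⟨i, hi⟩ := hpow l
      obtain ⟨k, rfl⟩ : Odd i := by
        rw [← Nat.not_even_iff_odd]
        rintro ⟨k, rfl⟩
        exact hl (g ^ k) (by rw [← pow_add]; exact hi)
      have e0 : g ^ (2 * j) = v * v := by rw [two_mul, pow_add, hj]
      have e1 : g ^ (2 * (j + k) + 1) = l * (v * v) := by
        rw [← e0, ← hi, ← pow_add]; congr 1; ring
      rw [← e0] at hrel
      rw [show l = g ^ (2 * k + 1) from hi.symm] at hrel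
      rw [← pow_add, show 2 * k + 1 + 2 * j = 2 * (j + k) + 1 by ring, (hform j).1, (hform (j + k)).2,
        (hform k).2] at hrel
      have hl1 : c ^ (2 * j) * w * w = c ^ (2 * j) * z := by rw [mul_assoc]
      have hr1 : c ^ (2 * (j + k) + 1) * z⁻¹ * w * (c ^ (2 * k + 1) * z⁻¹ * w)
          = c ^ (2 * j) * z⁻¹ := by
        have h1 : w * c ^ (2 * k + 1) = (c ^ (2 * k + 1))⁻¹ * w := hwck _
        have h2 : w * z⁻¹ * w = 1 := by rw [hwz.inv_right.eq, mul_assoc, ← hz, inv_mul_cancel]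
        calc _ = c ^ (2 * (j + k) + 1) * z⁻¹ * (w * c ^ (2 * k + 1)) * (z⁻¹ * w) := by group
          _ = c ^ (2 * (j + k) + 1) * (z⁻¹ * (c ^ (2 * k + 1))⁻¹) * (w * z⁻¹ * w) := by rw [h1]; group
          _ = c ^ (2 * (j + k) + 1) * ((c ^ (2 * k + 1))⁻¹ * z⁻¹) := by
            rw [h2, mul_one, ((hzc.inv_left.pow_right _).inv_right).eq]
          _ = c ^ (2 * j) * z⁻¹ := by
            rw [show 2 * (j + k) + 1 = 2 * j + (2 * k + 1) by ring, pow_add]; group
      rw [hl1, hr1] at hrel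
      have := mul_left_cancel hrel
      rwa [eq_inv_iff_mul_eq_one] at this
    · push Not at hs
      obtain ⟨u, hu⟩ := hs
      obtain ⟨k, hk⟩ := hpow u
      have e1 : g ^ (2 * k) = e := by rw [two_mul, pow_add, hk, hu]
      have h1 := (hform k).1
      rw [e1, hwe, hwinv] at h1
      have hck : c ^ (2 * k) = z⁻¹ := (mul_right_cancel h1).symm
      have h2 := (hform (2 * k)).1
      rw [show 2 * (2 * k) = 2 * k + 2 * k by ring, pow_add, pow_add, e1, he, ← hw, hck] at h2
      have h3 : z⁻¹ * z⁻¹ = 1 := mul_eq_right.1 h2.symm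
      rwa [← mul_inv_rev, inv_eq_one] at h3
  have hzinv : z⁻¹ = z := inv_eq_of_mul_eq_one_right hz2
  have hd : ∀ i : ℕ, W (g ^ i) * w⁻¹ = (c * z) ^ i := by
    intro i
    rw [(hzc.symm).mul_pow]
    rcases Nat.even_or_odd' i with ⟨j, rfl | rfl⟩
    · rw [(hform j).1, mul_inv_cancel_right, pow_mul z, pow_two, hz2, one_pow, mul_one]
    · rw [(hform j).2, mul_inv_cancel_right, pow_succ z, pow_mul z, pow_two, hz2, one_pow, one_mul, hzinv]
  refine ⟨fun s t => ?_, ?_⟩
  · obtain ⟨i, rfl⟩ := hpow s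
    obtain ⟨j, rfl⟩ := hpow t
    rw [← pow_add, hd, hd, hd, pow_add]
  · rw [hwe, ← mul_inv_rev, ← hz, hzinv]

end torus

section bruhat

variable {p : ℕ} [Fact p.Prime] {X : Type*} [Group X]

/-- Powers with exponent in `ZMod p`. -/
def pw (a : X) (t : ZMod p) : X := a ^ t.val

theorem pw_add {a : X} (ha : a ^ p = 1) (s t : ZMod p) : pw a (s + t) = pw a s * pw a t := by
  rw [pw, pw, pw, ← pow_add, ZMod.val_add]
  conv_rhs => rw [← Nat.div_add_mod (s.val + t.val) p, pow_add, pow_mul, ha, one_pow, one_mul]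

theorem pw_zero (a : X) : pw a (0 : ZMod p) = 1 := by simp [pw]

theorem pw_one (a : X) : pw a (1 : ZMod p) = a := by
  rw [pw, ZMod.val_one, pow_one]

theorem pw_neg {a : X} (ha : a ^ p = 1) (t : ZMod p) : pw a (-t) = (pw a t)⁻¹ :=
  eq_inv_of_mul_eq_one_left (by rw [← pw_add ha, neg_add_cancel, pw_zero])

theorem pw_mul {a : X} (ha : a ^ p = 1) (s t : ZMod p) : pw (pw a s) t = pw a (s * t) := by
  rw [pw, pw, pw, ← pow_mul, ZMod.val_mul]
  conv_lhs => rw [← Nat.div_add_mod (s.val * t.val) p, pow_add, pow_mul, ha, one_pow, one_mul]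

theorem conj_pw {a b w : X} (h : w * a = b * w) (t : ZMod p) : w * pw a t = pw b t * w :=
  SemiconjBy.pow_right h t.val

/-- The Weyl element attached to `t`. -/
def weyl (a f : X) (t : ZMod p) : X := pw a t * pw f t⁻¹ * pw a t

variable {a f : X} (ha : a ^ p = 1) (hf : f ^ p = 1)
  (hbr : ∀ t : ZMod p, t ≠ 0 → pw a t * pw f t⁻¹ * pw a t = pw f t⁻¹ * pw a t * pw f t⁻¹)

include hbr in
theorem weyl_fix_a {t : ZMod p} (ht : t ≠ 0) :
    weyl a f t * pw a t = pw f t⁻¹ * weyl a f t := by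
  rw [weyl]
  conv_lhs => rw [hbr t ht]
  simp only [mul_assoc]

include hbr in
theorem weyl_fix_f {t : ZMod p} (ht : t ≠ 0) :
    weyl a f t * pw f t⁻¹ = pw a t * weyl a f t := by
  rw [weyl]
  conv_rhs => rw [hbr t ht]
  simp only [mul_assoc]

include ha hf hbr in
theorem weyl_a {t : ZMod p} (ht : t ≠ 0) (x : ZMod p) :
    weyl a f t * pw a x = pw f (x / (t * t)) * weyl a f t := by
  have h := conj_pw (weyl_fix_a hbr ht) (x / t)
  rwa [pw_mul ha, pw_mul hf, show t * (x / t) = x by field_simp,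
    show t⁻¹ * (x / t) = x / (t * t) by field_simp] at h

include ha hf hbr in
theorem weyl_f {t : ZMod p} (ht : t ≠ 0) (x : ZMod p) :
    weyl a f t * pw f x = pw a (t * t * x) * weyl a f t := by
  have h := conj_pw (weyl_fix_f hbr ht) (t * x)
  rwa [pw_mul hf, pw_mul ha, show t⁻¹ * (t * x) = x by field_simp,
    show t * (t * x) = t * t * x by ring] at h

include ha hf in
theorem weyl_neg (t : ZMod p) : weyl a f (-t) = (weyl a f t)⁻¹ := by
  rw [weyl, weyl, inv_neg, pw_neg ha, pw_neg hf]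
  group

include ha hf hbr in
theorem weyl_conj {s t : ZMod p} (hs : s ≠ 0) (ht : t ≠ 0) :
    weyl a f s * weyl a f t * (weyl a f s)⁻¹ = weyl a f (s * s / t) := by
  have hst : s * s / t ≠ 0 := div_ne_zero (mul_ne_zero hs hs) ht
  rw [mul_inv_eq_iff_eq_mul]
  have e : weyl a f s * weyl a f t = pw f (t / (s * s)) * pw a (s * s / t) * pw f (t / (s * s))
      * weyl a f s := by
    show weyl a f s * (pw a t * pw f t⁻¹ * pw a t) = _
    rw [← mul_assoc, ← mul_assoc, weyl_a ha hf hbr hs, mul_assoc (pw f _) (weyl a f s),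
      weyl_f ha hf hbr hs, ← mul_assoc, mul_assoc _ (weyl a f s) (pw a t), weyl_a ha hf hbr hs,
      ← mul_assoc, show s * s * t⁻¹ = s * s / t from (div_eq_mul_inv _ _).symm]
  rw [e]
  congr 1
  have h := hbr _ hst
  rw [show (s * s / t)⁻¹ = t / (s * s) by rw [inv_div]] at h
  rw [weyl, show (s * s / t)⁻¹ = t / (s * s) by rw [inv_div]]
  exact h.symm

include ha hf hbr in
theorem weyl_prod {s t : ZMod p} (hs : s ≠ 0) (ht : t ≠ 0) (hst : t + s ≠ 0) :
    weyl a f t * weyl a f s = weyl a f (t * t / (t + s)) * weyl a f (t * s / (t + s)) := by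
  set u := t * t / (t + s) with hu
  set y := t * s / (t + s) with hy
  have hu0 : u ≠ 0 := div_ne_zero (mul_ne_zero ht ht) hst
  have hy1 : y⁻¹ = t⁻¹ + s⁻¹ := by rw [hy]; field_simp; ring
  have hft : ∀ r : ZMod p, pw f r⁻¹ = pw a (-r) * weyl a f r * pw a (-r) := by
    intro r
    rw [weyl, pw_neg ha]
    group
  have h1 : weyl a f y = pw a y * (pw a (-t) * (weyl a f t * pw a (-t + -s)) * weyl a f s * pw a (-s))
      * pw a y := by
    rw [weyl, hy1, pw_add hf, hft t, hft s, pw_add ha (-t) (-s)]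
    simp only [mul_assoc]
  have h2 : weyl a f t * pw a (-t + -s) = pw a u * weyl a f (-u) * pw a u * weyl a f t := by
    rw [weyl_a ha hf hbr ht]
    congr 1
    have h := hft (-u)
    rw [neg_neg] at h
    rw [← h]
    congr 1
    rw [hu]; field_simp; ring
  have h3 : weyl a f t * weyl a f s * pw a (u * (s * s) / (t * t)) =
      pw a u * (weyl a f t * weyl a f s) := by
    rw [mul_assoc, weyl_a ha hf hbr hs, ← mul_assoc, weyl_f ha hf hbr ht, mul_assoc]
    congr 2
    field_simp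
  have e1 : y + -t + u = 0 := by rw [hy, hu]; field_simp; ring
  have e2 : u * (s * s) / (t * t) + (-s + y) = 0 := by rw [hy, hu]; field_simp; ring
  have h4 : weyl a f y = weyl a f (-u) * (weyl a f t * weyl a f s) := by
    rw [h1, h2]
    calc pw a y * (pw a (-t) * (pw a u * weyl a f (-u) * pw a u * weyl a f t) * weyl a f s * pw a (-s)) *
          pw a y = (pw a y * pw a (-t) * pw a u) * weyl a f (-u) *
            (pw a u * (weyl a f t * weyl a f s)) * (pw a (-s) * pw a y) := by simp only [mul_assoc]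
      _ = _ := by
        rw [← h3, ← pw_add ha, ← pw_add ha, e1, pw_zero, one_mul, ← pw_add ha, mul_assoc,
          mul_assoc (weyl a f t * weyl a f s), ← pw_add ha, e2, pw_zero, mul_one]
  rw [h4, weyl_neg ha hf, mul_inv_cancel_left]

/-- The torus element attached to `t`. -/
def tor (a f : X) (t : ZMod p) : X := weyl a f t * (weyl a f (1 : ZMod p))⁻¹

include ha hf hbr in
theorem tor_facts :
    (∀ s t : ZMod p, s ≠ 0 → t ≠ 0 → tor a f (s * t) = tor a f s * tor a f t) ∧
      weyl a f (1 : ZMod p) * weyl a f (1 : ZMod p) = tor a f (-1 : ZMod p) := by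
  have h := torus (fun u : (ZMod p)ˣ => weyl a f (u : ZMod p)) (-1) (by simp)
    (fun t => by
      show weyl a f ((-1 * t : (ZMod p)ˣ) : ZMod p) = _
      rw [neg_one_mul, Units.val_neg, weyl_neg ha hf])
    (fun s t => by
      show _ = weyl a f ((s * s * t⁻¹ : (ZMod p)ˣ) : ZMod p)
      rw [Units.val_mul, Units.val_mul, Units.val_inv_eq_inv_val]
      have := weyl_conj ha hf hbr s.ne_zero t.ne_zero
      rw [div_eq_mul_inv] at this
      exact this)
    (by
      intro hne
      have hm1 : ∀ x : ZMod p, x * x ≠ -1 := by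
        intro x hx
        have hx0 : x ≠ 0 := by
          rintro rfl
          rw [mul_zero] at hx
          exact one_ne_zero (neg_eq_zero.1 hx.symm)
        exact hne (Units.mk0 x hx0) (Units.ext (by simpa using hx))
      obtain ⟨x, hx0, hx1⟩ : ∃ x : ZMod p, x ≠ 0 ∧ ∀ y : ZMod p, y * y ≠ x * x + 1 := by
        by_contra! hall
        have key : ∀ k : ℕ, ∃ x : ZMod p, x * x = (k : ZMod p) := by
          intro k
          induction k with
          | zero => exact ⟨0, by simp⟩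
          | succ m ih =>
            obtain ⟨x, hx⟩ := ih
            by_cases h0 : x = 0
            · exact ⟨1, by push_cast; rw [← hx, h0]; ring⟩
            · obtain ⟨y, hy⟩ := hall x h0
              exact ⟨y, by push_cast; rw [← hx]; exact hy⟩
        obtain ⟨x, hx⟩ := key (-1 : ZMod p).val
        rw [ZMod.natCast_zmod_val] at hx
        exact hm1 x hx
      have hsum : x * x + 1 ≠ 0 := fun e => hm1 x (eq_neg_of_add_eq_zero_left e)
      refine ⟨Units.mk0 x hx0, Units.mk0 (x * x / (x * x + 1)) (div_ne_zero (mul_ne_zero hx0 hx0) hsum),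
        fun u hu => ?_, ?_⟩
      · have hu' : (u : ZMod p) * u = x * x / (x * x + 1) := by
          have := congrArg Units.val hu
          rwa [Units.val_mul, Units.val_mk0] at this
        refine hx1 (x / u) ?_
        rw [div_mul_div_comm, hu', div_div_eq_mul_div, mul_comm (x * x),
          mul_div_cancel_right₀ _ (mul_ne_zero hx0 hx0)]
      · simp only [Units.val_mul, Units.val_mk0, Units.val_one]
        rw [weyl_prod ha hf hbr one_ne_zero (mul_ne_zero hx0 hx0) hsum, mul_one]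
        congr 2
        ring)
  obtain ⟨h1, h2⟩ := h
  exact ⟨fun s t hs ht => h1 (Units.mk0 s hs) (Units.mk0 t ht), h2⟩

include ha hf hbr in
theorem tor_a {t : ZMod p} (ht : t ≠ 0) (x : ZMod p) :
    tor a f t * pw a x = pw a (t * t * x) * tor a f t := by
  rw [tor, ← weyl_neg ha hf, mul_assoc, weyl_a ha hf hbr (neg_ne_zero.2 one_ne_zero),
    ← mul_assoc, weyl_f ha hf hbr ht, mul_assoc]
  congr 2
  ring

variable (p a f) in
/-- The Bruhat form. -/
def bru (M : Matrix.SpecialLinearGroup (Fin 2) (ZMod p)) : X :=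
  if M.1 1 0 = 0 then tor a f (M.1 0 0) * pw a (M.1 0 1 / M.1 0 0)
  else pw a (M.1 0 0 / M.1 1 0) * weyl a f (-(M.1 1 0)⁻¹) * pw a (M.1 1 1 / M.1 1 0)

/-- Upper unipotent matrices. -/
def um (s : ZMod p) : Matrix.SpecialLinearGroup (Fin 2) (ZMod p) :=
  ⟨!![1, s; 0, 1], by simp [Matrix.det_fin_two]⟩

variable (p) in
/-- The Weyl matrix. -/
def wm : Matrix.SpecialLinearGroup (Fin 2) (ZMod p) :=
  ⟨!![0, 1; -1, 0], by simp [Matrix.det_fin_two]⟩

theorem um_coe (s : ZMod p) : (um (p := p) s).1 = !![1, s; 0, 1] := rfl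

theorem wm_coe : (wm p).1 = !![0, 1; -1, 0] := rfl

theorem um_add (s t : ZMod p) : um (p := p) (s + t) = um s * um t := by
  apply Subtype.ext
  rw [Matrix.SpecialLinearGroup.coe_mul]
  simp [um, add_comm]

include ha in
theorem bru_um (s : ZMod p) : bru p a f (um s) = pw a s := by
  simp [bru, um, tor]

include ha hf in
theorem bru_wm : bru p a f (wm p) = weyl a f (1 : ZMod p) := by
  simp [bru, wm, pw_zero, inv_neg]

include ha hf hbr in
theorem bru_mul_um (M : Matrix.SpecialLinearGroup (Fin 2) (ZMod p)) (s : ZMod p) :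
    bru p a f (M * um s) = bru p a f M * bru p a f (um s) := by
  have hd : M.1 0 0 * M.1 1 1 - M.1 0 1 * M.1 1 0 = 1 := by rw [← Matrix.det_fin_two]; exact M.2
  rw [bru_um ha]
  simp only [bru, Matrix.SpecialLinearGroup.coe_mul, um_coe, Matrix.mul_apply, Fin.sum_univ_two]
  simp only [Matrix.of_apply, Matrix.cons_val', Matrix.cons_val_zero, Matrix.cons_val_one,
    Matrix.cons_val_fin_one, mul_one, mul_zero, add_zero]
  split_ifs with h
  · have h0 : M.1 0 0 ≠ 0 := by intro e; rw [e, h] at hd; simp at hd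
    rw [mul_assoc, ← pw_add ha]
    congr 2
    field_simp
    ring
  · rw [mul_assoc _ _ (pw a s), ← pw_add ha]
    congr 2
    field_simp
    ring

include ha hf hbr in
theorem bru_mul_wm (M : Matrix.SpecialLinearGroup (Fin 2) (ZMod p)) :
    bru p a f (M * wm p) = bru p a f M * bru p a f (wm p) := by
  obtain ⟨hmul, hzz⟩ := tor_facts ha hf hbr
  have hd : M.1 0 0 * M.1 1 1 - M.1 0 1 * M.1 1 0 = 1 := by rw [← Matrix.det_fin_two]; exact M.2
  rw [bru_wm ha hf]
  simp only [bru, Matrix.SpecialLinearGroup.coe_mul, wm_coe, Matrix.mul_apply, Fin.sum_univ_two]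
  simp only [Matrix.of_apply, Matrix.cons_val', Matrix.cons_val_zero, Matrix.cons_val_one,
    Matrix.cons_val_fin_one, mul_one, mul_zero, add_zero, zero_add, mul_neg]
  set α := M.1 0 0
  set β := M.1 0 1
  set γ := M.1 1 0
  set δ := M.1 1 1
  set w := weyl a f (1 : ZMod p) with hw
  by_cases hγ : γ = 0
  · have h0 : α ≠ 0 := by intro e; rw [e, hγ] at hd; simp at hd
    have hδ : δ ≠ 0 := by intro e; rw [e, hγ] at hd; simp at hd
    rw [if_pos hγ, if_neg (neg_ne_zero.2 hδ), hγ, zero_div, pw_zero, mul_one,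
      tor_a ha hf hbr h0, mul_assoc, tor, inv_mul_cancel_right]
    have e : δ = α⁻¹ := eq_inv_of_mul_eq_one_left (by rw [mul_comm]; rw [hγ] at hd; linear_combination hd)
    rw [e, inv_neg, neg_neg, inv_inv]
    congr 2
    field_simp
  · rw [if_neg hγ]
    by_cases hδ : δ = 0
    · have hβ : β = -γ⁻¹ := by
        field_simp
        rw [hδ] at hd
        linear_combination -hd
      rw [if_pos (by rw [hδ, neg_zero]), hδ, zero_div, pw_zero, mul_one]
      have hγi : -γ⁻¹ ≠ 0 := neg_ne_zero.2 (inv_ne_zero hγ)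
      have e1 : weyl a f (-γ⁻¹) * w = tor a f γ⁻¹ := by
        calc weyl a f (-γ⁻¹) * w = tor a f (-γ⁻¹) * (w * w) := by rw [tor, ← hw]; group
          _ = tor a f γ⁻¹ := by
            rw [hzz, ← hmul _ _ hγi (neg_ne_zero.2 one_ne_zero)]
            congr 1
            ring
      rw [mul_assoc, e1, hβ, neg_neg, tor_a ha hf hbr (inv_ne_zero hγ)]
      congr 2
      field_simp
    · rw [if_neg (neg_ne_zero.2 hδ)]
      set x := δ / γ with hxdef
      have hx : x ≠ 0 := div_ne_zero hδ hγ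
      set t := -γ⁻¹ with htdef
      have ht : t ≠ 0 := neg_ne_zero.2 (inv_ne_zero hγ)
      have e1 : w * pw a x = pw a (-x⁻¹) * weyl a f x⁻¹ * pw a (-x⁻¹) * w := by
        rw [hw, weyl_a ha hf hbr one_ne_zero, mul_one, div_one]
        congr 1
        rw [weyl, inv_inv, pw_neg ha]
        group
      have e2 : weyl a f t * pw a x * w
          = pw a (t * t * -x⁻¹) * (tor a f t * weyl a f x⁻¹) * (pw a (-x⁻¹) * (w * w)) := by
        calc weyl a f t * pw a x * w = tor a f t * (w * pw a x) * w := by rw [tor, ← hw]; group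
          _ = tor a f t * (pw a (-x⁻¹) * weyl a f x⁻¹ * pw a (-x⁻¹) * w) * w := by rw [e1]
          _ = tor a f t * pw a (-x⁻¹) * weyl a f x⁻¹ * (pw a (-x⁻¹) * (w * w)) := by
            simp only [mul_assoc]
          _ = _ := by rw [tor_a ha hf hbr ht, mul_assoc (pw a _)]
      have hm1 : (-1 : ZMod p) ≠ 0 := neg_ne_zero.2 one_ne_zero
      have hxi := inv_ne_zero hx
      have e3 : pw a (-x⁻¹) * (w * w) = w * w * pw a (-x⁻¹) := by
        rw [hzz, tor_a ha hf hbr hm1, show (-1 : ZMod p) * -1 * -x⁻¹ = -x⁻¹ by ring]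
      have e4 : tor a f t * weyl a f x⁻¹ * (w * w) = weyl a f (-(-δ)⁻¹) := by
        have hT : ∀ r : ZMod p, weyl a f r = tor a f r * w := fun r => by rw [tor, ← hw, inv_mul_cancel_right]
        calc tor a f t * weyl a f x⁻¹ * (w * w) = tor a f t * tor a f x⁻¹ * (w * w) * w := by
              rw [hT x⁻¹]; group
          _ = tor a f (t * x⁻¹ * -1) * w := by
            rw [hzz, ← hmul _ _ ht hxi, ← hmul _ _ (mul_ne_zero ht hxi) hm1]
          _ = _ := by
            rw [← hT]
            congr 1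
            rw [htdef, hxdef]
            field_simp
      have e5 : pw a (α / γ) * weyl a f t * pw a x * w
          = pw a (α / γ + t * t * -x⁻¹) * weyl a f (-(-δ)⁻¹) * pw a (-x⁻¹) := by
        rw [pw_add ha, ← e4, mul_assoc (pw a (α / γ)) (weyl a f t), mul_assoc (pw a (α / γ)), e2, e3]
        simp only [mul_assoc]
      rw [e5]
      congr 2
      · congr 1
        rw [htdef, hxdef]
        field_simp
        linear_combination (-1 : ZMod p) * hd
      · rw [hxdef]
        field_simp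

include ha hf hbr in
theorem bru_hom : ∃ Φ : Matrix.SpecialLinearGroup (Fin 2) (ZMod p) →* X,
    (∀ M, Φ M = bru p a f M) := by
  let S : Submonoid (Matrix.SpecialLinearGroup (Fin 2) (ZMod p)) :=
    { carrier := {N | ∀ M, bru p a f (M * N) = bru p a f M * bru p a f N}
      one_mem' := fun M => by
        have h1 : bru p a f (1 : Matrix.SpecialLinearGroup (Fin 2) (ZMod p)) = 1 := by
          simp [bru, tor, pw_zero]
        rw [mul_one, h1, mul_one]
      mul_mem' := fun {N N'} h h' M => by rw [← mul_assoc, h', h, h' N, mul_assoc] }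
  have hu : ∀ s, um s ∈ S := fun s M => bru_mul_um ha hf hbr M s
  have hw : wm p ∈ S := fun M => bru_mul_wm ha hf hbr M
  have hwinv : (wm p)⁻¹ ∈ S := by
    have : (wm p)⁻¹ = wm p * wm p * wm p := by
      apply inv_eq_of_mul_eq_one_right
      apply Subtype.ext
      simp only [Matrix.SpecialLinearGroup.coe_mul, Matrix.SpecialLinearGroup.coe_one, wm_coe]
      simp [Matrix.one_fin_two]
    rw [this]
    exact mul_mem (mul_mem hw hw) hw
  have hl : ∀ x : ZMod p, wm p * um (-x) * (wm p)⁻¹ ∈ S := fun x => mul_mem (mul_mem hw (hu _)) hwinv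
  have hn : ∀ (N : Matrix.SpecialLinearGroup (Fin 2) (ZMod p)) (t : ZMod p), t ≠ 0 →
      N.1 = !![0, t; -t⁻¹, 0] → N ∈ S := by
    intro N t ht hN
    have : N = um t * (wm p * um (t⁻¹) * (wm p)⁻¹) * um t := by
      apply Subtype.ext
      simp only [Matrix.SpecialLinearGroup.coe_mul, Matrix.SpecialLinearGroup.coe_inv, wm_coe, um_coe, hN,
        Matrix.adjugate_fin_two]
      simp [mul_inv_cancel₀ ht, inv_mul_cancel₀ ht]
    rw [this]
    refine mul_mem (mul_mem (hu _) ?_) (hu _)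
    have := hl (-t⁻¹)
    rwa [neg_neg] at this
  have hall : ∀ N, N ∈ S := by
    have key : ∀ N : Matrix.SpecialLinearGroup (Fin 2) (ZMod p), N.1 1 0 ≠ 0 → N ∈ S := by
      intro N hγ
      have hd : N.1 0 0 * N.1 1 1 - N.1 0 1 * N.1 1 0 = 1 := by rw [← Matrix.det_fin_two]; exact N.2
      have hin : (um (-(N.1 0 0 / N.1 1 0)) * N * um (-(N.1 1 1 / N.1 1 0))) ∈ S := by
        refine hn _ (-(N.1 1 0)⁻¹) (neg_ne_zero.2 (inv_ne_zero hγ)) ?_
        simp only [Matrix.SpecialLinearGroup.coe_mul, um_coe]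
        rw [Matrix.eta_fin_two N.1]
        simp only [Matrix.mul_fin_two, Matrix.of_apply, Matrix.cons_val', Matrix.cons_val_zero,
          Matrix.cons_val_one, Matrix.cons_val_fin_one]
        ext i j
        fin_cases i <;> fin_cases j <;> simp <;> field_simp <;> first | linear_combination hd | linear_combination -hd | grind
      have := mul_mem (mul_mem (hu (N.1 0 0 / N.1 1 0)) hin) (hu (N.1 1 1 / N.1 1 0))
      have e : um (N.1 0 0 / N.1 1 0) * (um (-(N.1 0 0 / N.1 1 0)) * N * um (-(N.1 1 1 / N.1 1 0)))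
          * um (N.1 1 1 / N.1 1 0) = N := by
        have e0 : (um 0 : Matrix.SpecialLinearGroup (Fin 2) (ZMod p)) = 1 := by
          apply Subtype.ext; simp [um, Matrix.one_fin_two]
        rw [mul_assoc (um (-(N.1 0 0 / N.1 1 0))), ← mul_assoc (um (N.1 0 0 / N.1 1 0)), ← um_add,
          add_neg_cancel, e0, one_mul, mul_assoc, ← um_add, neg_add_cancel, e0, mul_one]
      rwa [e] at this
    intro N
    by_cases hγ : N.1 1 0 = 0
    · have hd : N.1 0 0 * N.1 1 1 - N.1 0 1 * N.1 1 0 = 1 := by rw [← Matrix.det_fin_two]; exact N.2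
      have h00 : N.1 0 0 ≠ 0 := by intro e; rw [e, hγ] at hd; simp at hd
      have hmem : wm p * N ∈ S := key _ (by
        simp only [Matrix.SpecialLinearGroup.coe_mul, wm_coe, Matrix.mul_apply, Fin.sum_univ_two]
        simp [h00])
      have := mul_mem hwinv hmem
      rwa [inv_mul_cancel_left] at this
    · exact key N hγ
  exact ⟨MonoidHom.mk' (bru p a f) fun M N => hall N M, fun M => rfl⟩

end bruhat


/-- Let X be a special rank one group with abelian unipotent subgroups A and B, where A is an elementary abelian p-group for the prime p. Then for every non-identity a in A and the non-identity b in B with b⁻¹ A b = a⁻¹ B a, the subgroup generated by a and b is isomorphic to SL₂(p) or to PSL₂(p). -/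
theorem result {X : Type*} [Group X] {A B : Subgroup X} (h : Cfsg.IsRankOneGroup X A B)
    (hs : Cfsg.IsSpecialRankOnePair A B) (hab : Cfsg.HasAbelianUnipotents A B)
    {p : ℕ} [Fact p.Prime] (hA : Cfsg.IsElementaryAbelian p A)
    {a b : X} (ha : a ∈ A) (ha1 : a ≠ 1) (hb : b ∈ B) (hb1 : b ≠ 1) (hab' : Cfsg.conjBy A b⁻¹ = Cfsg.conjBy B a⁻¹) :
    Nonempty (↥(Subgroup.closure ({a, b} : Set X)) ≃* Matrix.SpecialLinearGroup (Fin 2) (ZMod p)) ∨
    Nonempty (↥(Subgroup.closure ({a, b} : Set X)) ≃* Matrix.ProjectiveSpecialLinearGroup (Fin 2) (ZMod p)) := by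
  classical
  obtain ⟨hcomA, hexp⟩ := hA
  have hA' : ∀ x ∈ A, ∀ y ∈ A, x * y = y * x := fun x hx y hy =>
    congrArg Subtype.val (hab.1.is_comm.comm ⟨x, hx⟩ ⟨y, hy⟩)
  have hB' : ∀ x ∈ B, ∀ y ∈ B, x * y = y * x := fun x hx y hy =>
    congrArg Subtype.val (hab.2.is_comm.comm ⟨x, hx⟩ ⟨y, hy⟩)
  have hp0 : 0 < p := (Fact.out : p.Prime).pos
  have htf : ∀ m, 1 ≤ m → m < p → ∀ x ∈ A, x ^ m = 1 → x = 1 := by
    intro m h1 h2 x hx hxm
    have hd := Nat.dvd_gcd (orderOf_dvd_of_pow_eq_one hxm) (orderOf_dvd_of_pow_eq_one (hexp x hx))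
    rw [Nat.Coprime.gcd_eq_one ((Fact.out : p.Prime).coprime_iff_not_dvd.2
      (Nat.not_dvd_of_pos_of_lt (by omega) h2)).symm, Nat.dvd_one, orderOf_eq_one_iff] at hd
    exact hd
  set f := b⁻¹ with hfdef
  have hfB : f ∈ B := inv_mem hb
  have hatt : Cfsg.Agent.S5021.Att A B a f := ⟨hfB, hab'⟩
  have hBexp : ∀ x ∈ B, x ^ p = 1 := by
    intro x hx
    obtain ⟨hAn, hBn, -, -, -⟩ := Cfsg.Agent.S5021.mu_facts hs hB' ha ha1 hatt
    have hmem : a * f * a * x * (a * f * a)⁻¹ ∈ A := hBn ▸ conj_mem_conjBy hx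
    have h1 := hexp _ hmem
    rwa [conj_pow, mul_inv_eq_one, mul_eq_left] at h1
  have hpa : a ^ p = 1 := hexp a ha
  have hpf : f ^ p = 1 := hBexp f hfB
  have hatt_pow : ∀ t : ZMod p, t ≠ 0 → Cfsg.Agent.S5021.Att A B (pw a t) (pw f t⁻¹) := by
    intro t ht
    have hk : 1 ≤ t.val := Nat.pos_of_ne_zero ((ZMod.val_ne_zero t).2 ht)
    have hkp : t.val < p := t.val_lt
    have hd := Cfsg.Agent.S5021.div_of_torsion_free hs hA' hB' t.val hk
      (fun m h1 h2 => htf m h1 (h2.trans hkp))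
    have hx1 : a ^ t.val ≠ 1 := fun e => ha1 (htf _ hk hkp a ha e)
    obtain ⟨F, hF, -, heF, -⟩ := special_element hs hB' (pow_mem ha t.val) hx1
    obtain ⟨z, hz, hzx, hzg⟩ := hd _ F (pow_mem ha t.val)
      (fun e => hx1 (htf _ hk hkp _ (pow_mem ha t.val) e)) ⟨hF, heF⟩
    have hza : z = a := by
      have hc : Commute z a⁻¹ := hA' z hz a⁻¹ (inv_mem ha)
      exact mul_inv_eq_one.1 (htf _ hk hkp _ (mul_mem hz (inv_mem ha))
        (by rw [hc.mul_pow, hzx, inv_pow, mul_inv_cancel]))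
    rw [hza] at hzg
    have hFk : F ^ t.val = f := Cfsg.Agent.S5021.att_unique hs hzg hatt
    have hFp : pw f t⁻¹ = F := by
      rw [← hFk, show F ^ t.val = pw F t from rfl, pw_mul (hBexp F hF), mul_inv_cancel₀ ht, pw_one]
    rw [hFp]
    exact ⟨hF, heF⟩
  have hpw1 : ∀ t : ZMod p, t ≠ 0 → pw a t ≠ 1 := fun t ht e =>
    ha1 (htf _ (Nat.pos_of_ne_zero ((ZMod.val_ne_zero t).2 ht)) t.val_lt a ha e)
  have hbr : ∀ t : ZMod p, t ≠ 0 →
      pw a t * pw f t⁻¹ * pw a t = pw f t⁻¹ * pw a t * pw f t⁻¹ := by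
    intro t ht
    obtain ⟨F, hF, -, heF, hbrF, -⟩ := special_element hs hB' (pow_mem ha t.val) (hpw1 t ht)
    rw [Cfsg.Agent.S5021.att_unique hs (hatt_pow t ht) ⟨hF, heF⟩]
    exact hbrF
  have hswap : ∀ t : ZMod p, t ≠ 0 →
      Cfsg.conjBy A (weyl a f t) = B ∧ Cfsg.conjBy B (weyl a f t) = A := fun t ht =>
    let h := Cfsg.Agent.S5021.mu_facts hs hB' (pow_mem ha t.val) (hpw1 t ht) (hatt_pow t ht)
    ⟨h.1, h.2.1⟩
  obtain ⟨Φ, hΦ⟩ := bru_hom hpa hpf hbr
  -- the image
  have hrange : Φ.range = Subgroup.closure ({a, b} : Set X) := by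
    have haC : a ∈ Subgroup.closure ({a, b} : Set X) := Subgroup.subset_closure (by simp)
    have hfC : f ∈ Subgroup.closure ({a, b} : Set X) := inv_mem (Subgroup.subset_closure (by simp))
    have hwC : ∀ t : ZMod p, weyl a f t ∈ Subgroup.closure ({a, b} : Set X) := fun t =>
      mul_mem (mul_mem (pow_mem haC _) (pow_mem hfC _)) (pow_mem haC _)
    refine le_antisymm ?_ ((Subgroup.closure_le _).2 ?_)
    · rintro _ ⟨M, rfl⟩
      rw [hΦ, bru]
      split_ifs
      · exact mul_mem (mul_mem (hwC _) (inv_mem (hwC _))) (pow_mem haC _)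
      · exact mul_mem (mul_mem (pow_mem haC _) (hwC _)) (pow_mem haC _)
    · have haR : a ∈ Φ.range := ⟨um 1, by rw [hΦ, bru_um hpa, pw_one]⟩
      have hfR : f ∈ Φ.range := ⟨wm p * um 1 * (wm p)⁻¹, by
        rw [map_mul, map_mul, map_inv, hΦ, hΦ, bru_um hpa, bru_wm hpa hpf, mul_inv_eq_iff_eq_mul,
          weyl_a hpa hpf hbr one_ne_zero, one_mul, div_one, pw_one]⟩
      rintro x (rfl | rfl)
      · exact haR
      · have := inv_mem hfR
        rwa [hfdef, inv_inv] at this
  -- the kernel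
  have hker : ∀ M : Matrix.SpecialLinearGroup (Fin 2) (ZMod p), Φ M = 1 →
      ∃ r : ZMod p, r ^ 2 = 1 ∧ M.1 = Matrix.scalar (Fin 2) r := by
    intro M hM
    have hd : M.1 0 0 * M.1 1 1 - M.1 0 1 * M.1 1 0 = 1 := by rw [← Matrix.det_fin_two]; exact M.2
    rw [hΦ, bru] at hM
    by_cases hγ : M.1 1 0 = 0
    · rw [if_pos hγ] at hM
      have h00 : M.1 0 0 ≠ 0 := by intro e; rw [e, hγ] at hd; simp at hd
      have hnB : Cfsg.conjBy B (tor a f (M.1 0 0)) = B := by
        rw [tor, ← weyl_neg hpa hpf, ← conjBy_conjBy, (hswap _ (neg_ne_zero.2 one_ne_zero)).2,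
          (hswap _ h00).1]
      have hβ : M.1 0 1 = 0 := by
        by_contra hne
        have hx : pw a (M.1 0 1 / M.1 0 0) = (tor a f (M.1 0 0))⁻¹ := eq_inv_of_mul_eq_one_right hM
        refine hpw1 _ (div_ne_zero hne h00)
          (eq_one_of_mem_normalizer (Cfsg.RankOnePair_symm hs.1) (pow_mem ha _) ?_)
        show pw a (M.1 0 1 / M.1 0 0) ∈ _
        rw [hx]
        exact inv_mem (conjBy_eq_self_iff.1 hnB)
      rw [hβ, zero_div, pw_zero, mul_one] at hM
      have h1 := tor_a hpa hpf hbr h00 1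
      rw [hM, one_mul, mul_one] at h1
      have h2 : M.1 0 0 * M.1 0 0 = 1 := by
        by_contra hne
        have h3 : pw a (M.1 0 0 * M.1 0 0 - 1) = 1 := by
          rw [sub_eq_add_neg, pw_add hpa, pw_neg hpa, mul_inv_eq_one, ← mul_one (M.1 0 0 * M.1 0 0)]
          exact h1.symm
        exact hpw1 _ (sub_ne_zero.2 hne) h3
      refine ⟨M.1 0 0, by rw [pow_two, h2], ?_⟩
      have h11 : M.1 1 1 = M.1 0 0 := by
        rw [hβ, zero_mul, sub_zero] at hd
        exact mul_left_cancel₀ h00 (hd.trans h2.symm)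
      ext i j
      fin_cases i <;> fin_cases j <;> simp [Matrix.scalar, hγ, hβ, h11]
    · rw [if_neg hγ] at hM
      exfalso
      have hgen : weyl a f (-(M.1 1 0)⁻¹) = pw a (-(M.1 0 0 / M.1 1 0)) * pw a (-(M.1 1 1 / M.1 1 0)) := by
        rw [pw_neg hpa, pw_neg hpa]
        calc weyl a f (-(M.1 1 0)⁻¹) = (pw a (M.1 0 0 / M.1 1 0))⁻¹ * (pw a (M.1 0 0 / M.1 1 0) *
              weyl a f (-(M.1 1 0)⁻¹) * pw a (M.1 1 1 / M.1 1 0)) * (pw a (M.1 1 1 / M.1 1 0))⁻¹ := by
              group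
          _ = _ := by rw [hM, mul_one]
      have h1 := (hswap _ (neg_ne_zero.2 (inv_ne_zero hγ))).1
      rw [hgen] at h1
      exact hs.1.ne ((conjBy_eq_self_of_mem (mul_mem (pow_mem ha _) (pow_mem ha _))).symm.trans h1)
  by_cases hinj : Function.Injective Φ
  · exact Or.inl ⟨((MonoidHom.ofInjective hinj).trans (MulEquiv.subgroupCongr hrange)).symm⟩
  · refine Or.inr ⟨(((QuotientGroup.quotientMulEquivOfEq ?_).trans
      (QuotientGroup.quotientKerEquivRange Φ)).trans (MulEquiv.subgroupCongr hrange)).symm⟩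
    obtain ⟨M, hM, hM1⟩ : ∃ M, Φ M = 1 ∧ M ≠ 1 := by
      by_contra! h
      exact hinj ((injective_iff_map_eq_one Φ).2 h)
    obtain ⟨r, hr, hMr⟩ := hker M hM
    have hr1 : r ≠ 1 := fun e => hM1 (Subtype.ext (by rw [hMr, e, map_one]; rfl))
    have hrm : r = -1 := by
      rcases (sq_eq_one_iff).1 hr with h | h
      · exact absurd h hr1
      · exact h
    refine le_antisymm (fun N hN => ?_) (fun N hN => ?_)
    · rw [Matrix.SpecialLinearGroup.mem_center_iff] at hN
      obtain ⟨s, hs2, hN⟩ := hN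
      rw [Fintype.card_fin] at hs2
      rcases (sq_eq_one_iff).1 hs2 with h | h
      · rw [MonoidHom.mem_ker, show N = 1 from Subtype.ext (by rw [← hN, h, map_one]; rfl), map_one]
      · rw [MonoidHom.mem_ker, show N = M from Subtype.ext (by rw [← hN, hMr, h, hrm]), hM]
    · obtain ⟨s, hs2, hN'⟩ := hker N hN
      exact Matrix.SpecialLinearGroup.mem_center_iff.2 ⟨s, by rw [Fintype.card_fin]; exact hs2, hN'.symm⟩

end Cfsg.Agent.S5022
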