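import Cfsg.Statements.S5016
import Cfsg.Agent.Lib.RootSub.RankOne


set_option autoImplicit false
open Cfsg

namespace Cfsg.Agent.S5016

open Matrix
open scoped MatrixGroups

variable {k : Type*} [Field k]

def low (x : k) : SL(2, k) := ⟨!![1, 0; x, 1], by simp [Matrix.det_fin_two]⟩
def up (x : k) : SL(2, k) := ⟨!![1, x; 0, 1], by simp [Matrix.det_fin_two]⟩

@[simp] theorem low_val (x : k) : (low x : Matrix (Fin 2) (Fin 2) k) = !![1, 0; x, 1] := rfl
@[simp] theorem up_val (x : k) : (up x : Matrix (Fin 2) (Fin 2) k) = !![1, x; 0, 1] := rfl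

theorem low_mul (x y : k) : low x * low y = low (x + y) := by
  ext i j; fin_cases i <;> fin_cases j <;> simp [Matrix.mul_apply, Fin.sum_univ_two]

theorem up_mul (x y : k) : up x * up y = up (x + y) := by
  ext i j; fin_cases i <;> fin_cases j <;> simp [Matrix.mul_apply, Fin.sum_univ_two, add_comm]

theorem low_zero : low (0 : k) = 1 := by
  ext i j; fin_cases i <;> fin_cases j <;> simp

theorem up_zero : up (0 : k) = 1 := by
  ext i j; fin_cases i <;> fin_cases j <;> simp

theorem low_inv (x : k) : (low x)⁻¹ = low (-x) :=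
  inv_eq_of_mul_eq_one_right (by rw [low_mul, add_neg_cancel, low_zero])

theorem up_inv (x : k) : (up x)⁻¹ = up (-x) :=
  inv_eq_of_mul_eq_one_right (by rw [up_mul, add_neg_cancel, up_zero])

def lowHom : Multiplicative k →* SL(2, k) where
  toFun x := low x.toAdd
  map_one' := low_zero
  map_mul' x y := (low_mul x.toAdd y.toAdd).symm

def upHom : Multiplicative k →* SL(2, k) where
  toFun x := up x.toAdd
  map_one' := up_zero
  map_mul' x y := (up_mul x.toAdd y.toAdd).symm

theorem mem_lower {g : SL(2, k)} : g ∈ Cfsg.lowerUnipotentSL2 k ↔ ∃ x, low x = g := by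
  constructor
  · intro hg
    have h : Cfsg.lowerUnipotentSL2 k ≤ (lowHom (k := k)).range := by
      refine (Subgroup.closure_le _).2 ?_
      rintro g ⟨h1, h2, h3⟩
      refine ⟨Multiplicative.ofAdd ((g : Matrix (Fin 2) (Fin 2) k) 1 0), ?_⟩
      ext i j
      fin_cases i <;> fin_cases j <;> simp [lowHom, h1, h2, h3]
    obtain ⟨x, hx⟩ := h hg
    exact ⟨x.toAdd, hx⟩
  · rintro ⟨x, rfl⟩
    exact Subgroup.subset_closure (by simp)

theorem mem_upper {g : SL(2, k)} : g ∈ Cfsg.upperUnipotentSL2 k ↔ ∃ x, up x = g := by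
  constructor
  · intro hg
    have h : Cfsg.upperUnipotentSL2 k ≤ (upHom (k := k)).range := by
      refine (Subgroup.closure_le _).2 ?_
      rintro g ⟨h1, h2, h3⟩
      refine ⟨Multiplicative.ofAdd ((g : Matrix (Fin 2) (Fin 2) k) 0 1), ?_⟩
      ext i j
      fin_cases i <;> fin_cases j <;> simp [upHom, h1, h2, h3]
    obtain ⟨x, hx⟩ := h hg
    exact ⟨x.toAdd, hx⟩
  · rintro ⟨x, rfl⟩
    exact Subgroup.subset_closure (by simp)

theorem key {x y : k} (hxy : x * y = 1) :
    Cfsg.conjBy (Cfsg.lowerUnipotentSL2 k) (up y)⁻¹ = Cfsg.conjBy (Cfsg.upperUnipotentSL2 k) (low x)⁻¹ := by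
  have hcalc : ∀ s : k, (low x * (up y)⁻¹) * low s * (low x * (up y)⁻¹)⁻¹ = up (-(y * y * s)) := by
    intro s
    rw [mul_inv_eq_iff_eq_mul, up_inv]
    ext i j
    fin_cases i <;> fin_cases j <;> simp [Matrix.mul_apply, Fin.sum_univ_two] <;>
      first
        | linear_combination (y * s) * hxy
        | linear_combination (y * s + 1) * hxy
        | linear_combination (-s) * hxy
        | linear_combination s * hxy
        | linear_combination (-y * s) * hxy
        | grind
  have hy : y ≠ 0 := fun e => by simp [e] at hxy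
  have hset : Cfsg.conjBy (Cfsg.lowerUnipotentSL2 k) (low x * (up y)⁻¹) = Cfsg.upperUnipotentSL2 k := by
    ext g
    constructor
    · rintro ⟨_, ha, rfl⟩
      obtain ⟨s, rfl⟩ := mem_lower.1 ha
      exact mem_upper.2 ⟨_, (hcalc s).symm⟩
    · intro hg
      obtain ⟨t, rfl⟩ := mem_upper.1 hg
      refine ⟨low (-(t / (y * y))), mem_lower.2 ⟨_, rfl⟩, ?_⟩
      show low x * (up y)⁻¹ * low _ * (low x * (up y)⁻¹)⁻¹ = up t
      rw [hcalc]
      congr 1
      field_simp
  rw [← hset, CfsgLib.RootSub.conjBy_conjBy, inv_mul_cancel_left]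

theorem special {x y : k} (hxy : x * y = 1) :
    (up y)⁻¹ * low x * up y = (low x)⁻¹ * (up y)⁻¹ * low x := by
  rw [up_inv, low_inv]
  ext i j
  fin_cases i <;> fin_cases j <;> simp [Matrix.mul_apply, Fin.sum_univ_two] <;>
    first
      | linear_combination y * hxy
      | linear_combination (-y) * hxy
      | linear_combination x * hxy
      | linear_combination (-x) * hxy
      | linear_combination hxy
      | linear_combination (-1 : k) * hxy
      | linear_combination (2 : k) * hxy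
      | linear_combination (-2 : k) * hxy
      | grind

theorem generated : Cfsg.lowerUnipotentSL2 k ⊔ Cfsg.upperUnipotentSL2 k = ⊤ := by
  refine eq_top_iff.2 fun g _ => ?_
  have hl : ∀ x : k, low x ∈ Cfsg.lowerUnipotentSL2 k ⊔ Cfsg.upperUnipotentSL2 k :=
    fun x => Subgroup.mem_sup_left (mem_lower.2 ⟨x, rfl⟩)
  have hu : ∀ x : k, up x ∈ Cfsg.lowerUnipotentSL2 k ⊔ Cfsg.upperUnipotentSL2 k :=
    fun x => Subgroup.mem_sup_right (mem_upper.2 ⟨x, rfl⟩)
  have hc : ∀ g : SL(2, k), (g : Matrix (Fin 2) (Fin 2) k) 1 0 ≠ 0 →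
      g ∈ Cfsg.lowerUnipotentSL2 k ⊔ Cfsg.upperUnipotentSL2 k := by
    intro g hg
    have hdet : (g : Matrix (Fin 2) (Fin 2) k) 0 0 * (g : Matrix (Fin 2) (Fin 2) k) 1 1 -
        (g : Matrix (Fin 2) (Fin 2) k) 0 1 * (g : Matrix (Fin 2) (Fin 2) k) 1 0 = 1 := by
      rw [← Matrix.det_fin_two]; exact g.2
    have e : g = up (((g : Matrix (Fin 2) (Fin 2) k) 0 0 - 1) / (g : Matrix (Fin 2) (Fin 2) k) 1 0) *
        low ((g : Matrix (Fin 2) (Fin 2) k) 1 0) *
        up (((g : Matrix (Fin 2) (Fin 2) k) 1 1 - 1) / (g : Matrix (Fin 2) (Fin 2) k) 1 0) := by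
      ext i j
      fin_cases i <;> fin_cases j <;> simp [Matrix.mul_apply, Fin.sum_univ_two] <;> field_simp <;>
        first
          | linear_combination -hdet
          | linear_combination hdet
          | grind
    rw [e]
    exact mul_mem (mul_mem (hu _) (hl _)) (hu _)
  by_cases hg : (g : Matrix (Fin 2) (Fin 2) k) 1 0 = 0
  · have hdet : (g : Matrix (Fin 2) (Fin 2) k) 0 0 * (g : Matrix (Fin 2) (Fin 2) k) 1 1 -
        (g : Matrix (Fin 2) (Fin 2) k) 0 1 * (g : Matrix (Fin 2) (Fin 2) k) 1 0 = 1 := by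
      rw [← Matrix.det_fin_two]; exact g.2
    have h2 := hc (g * low 1) (by
      simp [Matrix.mul_apply, Fin.sum_univ_two, hg]
      intro e
      rw [e, hg] at hdet
      simp at hdet)
    simpa using mul_mem h2 (inv_mem (hl 1))
  · exact hc g hg

theorem pair : Cfsg.IsRankOnePair (Cfsg.lowerUnipotentSL2 k) (Cfsg.upperUnipotentSL2 k) := by
  have hcl : IsMulCommutative (Cfsg.lowerUnipotentSL2 k) := ⟨⟨fun a b => by
    obtain ⟨x, hx⟩ := mem_lower.1 a.2
    obtain ⟨y, hy⟩ := mem_lower.1 b.2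
    exact Subtype.ext (by simp only [Subgroup.coe_mul, ← hx, ← hy, low_mul, add_comm])⟩⟩
  have hcu : IsMulCommutative (Cfsg.upperUnipotentSL2 k) := ⟨⟨fun a b => by
    obtain ⟨x, hx⟩ := mem_upper.1 a.2
    obtain ⟨y, hy⟩ := mem_upper.1 b.2
    exact Subtype.ext (by simp only [Subgroup.coe_mul, ← hx, ← hy, up_mul, add_comm])⟩⟩
  refine ⟨fun e => ?_, ⟨1, ?_⟩, ⟨1, ?_⟩, ?_, ?_⟩
  · obtain ⟨x, hx⟩ := mem_upper.1 (e ▸ mem_lower.2 ⟨(1 : k), rfl⟩)
    have := congrFun (congrFun (congrArg Subtype.val hx) 1) 0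
    simp at this
  · rw [Subgroup.upperCentralSeries_one, eq_top_iff]
    exact fun a _ => Subgroup.mem_center_iff.2 fun b => hcl.is_comm.comm b a
  · rw [Subgroup.upperCentralSeries_one, eq_top_iff]
    exact fun a _ => Subgroup.mem_center_iff.2 fun b => hcu.is_comm.comm b a
  · intro a ha ha1
    obtain ⟨x, rfl⟩ := mem_lower.1 ha
    have hx : x ≠ 0 := fun e => ha1 (by rw [e, low_zero])
    refine ⟨up x⁻¹, mem_upper.2 ⟨_, rfl⟩, fun e => ?_, key (mul_inv_cancel₀ hx)⟩
    have := congrFun (congrFun (congrArg Subtype.val e) 0) 1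
    simp [hx] at this
  · intro b hb hb1
    obtain ⟨y, rfl⟩ := mem_upper.1 hb
    have hy : y ≠ 0 := fun e => hb1 (by rw [e, up_zero])
    refine ⟨low y⁻¹, mem_lower.2 ⟨_, rfl⟩, fun e => ?_, (key (inv_mul_cancel₀ hy)).symm⟩
    have := congrFun (congrFun (congrArg Subtype.val e) 1) 0
    simp [hy] at this

/-- For any field k, the special linear group SL₂(k) is a special rank one group with abelian unipotent subgroups, the unipotent subgroups being the group of lower unitriangular matrices and the group of upper unitriangular matrices. -/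
theorem result (k : Type*) [Field k] :
    Cfsg.IsRankOneGroup (Matrix.SpecialLinearGroup (Fin 2) k) (Cfsg.lowerUnipotentSL2 k) (Cfsg.upperUnipotentSL2 k) ∧
    Cfsg.IsSpecialRankOnePair (Cfsg.lowerUnipotentSL2 k) (Cfsg.upperUnipotentSL2 k) ∧
    Cfsg.HasAbelianUnipotents (Cfsg.lowerUnipotentSL2 k) (Cfsg.upperUnipotentSL2 k) := by
  refine ⟨⟨generated, pair⟩, ⟨pair, fun a ha ha1 b hb hb1 he => ?_⟩, ?_, ?_⟩
  · obtain ⟨x, rfl⟩ := mem_lower.1 ha
    have hx : x ≠ 0 := fun e => ha1 (by rw [e, low_zero])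
    have h1 := CfsgLib.RootSub.conjBy_eq_iff.1 (he.trans (key (mul_inv_cancel₀ hx)).symm)
    rw [inv_inv] at h1
    have h2 := CfsgLib.RootSub.eq_one_of_mem_normalizer pair
      (mul_mem (mem_upper.2 ⟨x⁻¹, rfl⟩) (inv_mem hb)) h1
    rw [mul_inv_eq_one] at h2
    rw [← h2]
    exact special (mul_inv_cancel₀ hx)
  · exact ⟨⟨fun a b => by
      obtain ⟨x, hx⟩ := mem_lower.1 a.2
      obtain ⟨y, hy⟩ := mem_lower.1 b.2
      exact Subtype.ext (by simp only [Subgroup.coe_mul, ← hx, ← hy, low_mul, add_comm])⟩⟩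
  · exact ⟨⟨fun a b => by
      obtain ⟨x, hx⟩ := mem_upper.1 a.2
      obtain ⟨y, hy⟩ := mem_upper.1 b.2
      exact Subtype.ext (by simp only [Subgroup.coe_mul, ← hx, ← hy, up_mul, add_comm])⟩⟩

end Cfsg.Agent.S5016
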