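import Cfsg.Statements.S1296
import Cfsg.Agent.Lib.Dichotomy.Final
import Cfsg.Agent.Lib.Dichotomy.Centric
import Cfsg.Agent.Lib.OddConseq.CoreEmbeddedRows
import Cfsg.Agent.S1221

set_option autoImplicit false
set_option linter.style.haveILetI false
set_option linter.unusedVariables false
open Cfsg

namespace Cfsg.Agent.S1296

/-- Dichotomy Theorem. Let G be a finite group of even order with no normal subgroup of index 2 and with O(G) = 1. Then G has 2-rank at most 2, or G is of component type, or G is of characteristic 2 type. -/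
theorem result {G : Type*} [Group G] [Finite G] (heven : Even (Nat.card G)) (hO2 : ∀ N : Subgroup G, N.Normal → N.index ≠ 2) (hO : Cfsg.oddCore G = ⊥) : Cfsg.PRankLE 2 2 G ∨ Cfsg.IsComponentType G ∨ Cfsg.IsCharacteristicTwoType G := by
  by_cases hr : Cfsg.PRankLE 2 2 G
  · exact Or.inl hr
  by_cases hc : Cfsg.IsComponentType G
  · exact Or.inr (Or.inl hc)
  refine Or.inr (Or.inr ?_)
  haveI : Fact (Nat.Prime 2) := ⟨Nat.prime_two⟩
  have hSE : ∀ H : Subgroup G, Cfsg.IsStronglyEmbedded H →
      (Cfsg.oddCore ↥H).map H.subtype ≤ Cfsg.oddCore G := Cfsg.Agent.S1221.result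
  obtain ⟨S⟩ := (inferInstance : Nonempty (Sylow 2 G))
  by_cases hS : Cfsg.IsFourConnected ↥(S : Subgroup G)
  · exact CfsgLib.TwoGenCore.characteristicTwoType_of_core_embedded hSE hr hO hc S hS
  obtain ⟨U, z, c⟩ := CfsgLib.DichotomyTwo.exists_setting hO hc hr S hS
  exact c.isCharacteristicTwoType CfsgLib.TwoGenCore.oddSolvable hSE
    (fun hx hg => c.fusion CfsgLib.TwoGenCore.oddSolvable
      (c.centralizer_z_le CfsgLib.TwoGenCore.oddSolvable) hx hg) hO2 hr

end Cfsg.Agent.S1296
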