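import Cfsg.Statements.S2219
import Cfsg.Agent.Lib.SmallSimple.NineTwoPrime.KleinFalse
import Cfsg.Agent.Lib.SmallSimple.NineTwoPrime.FreeMain
import Cfsg.Agent.Lib.SmallSimple.NineTwoPrime.Classify
import Cfsg.Agent.Lib.Char.Burnside

set_option autoImplicit false
open Cfsg

namespace Cfsg.Agent.S2219

/-- Let G be a non-abelian finite simple group of order 9·2ᵃ·qᵇ for a prime q other than 2 and 3, having at least three conjugacy classes of nonidentity 3-elements (elements of order 3 or 9). Then G is isomorphic to PSL(2,8) or to PSL(2,17). -/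
theorem result {G : Type*} [Group G] [Finite G] [IsSimpleGroup G] (hG : ¬ IsMulCommutative G)
    (q a b : ℕ) (hq : q.Prime) (hq2 : q ≠ 2) (hq3 : q ≠ 3) (hcard : Nat.card G = 9 * 2 ^ a * q ^ b)
    (h3 : 3 ≤ Nat.card {C : ConjClasses G // ∃ g ∈ C.carrier, g ≠ 1 ∧ orderOf g ∣ 9}) :
    (∃ (F : Type) (_ : Field F) (_ : Fintype F), Fintype.card F = 8 ∧
        Nonempty (G ≃* Matrix.ProjectiveSpecialLinearGroup (Fin 2) F)) ∨
      Nonempty (G ≃* Matrix.ProjectiveSpecialLinearGroup (Fin 2) (ZMod 17)) := by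
  classical
  letI := Fintype.ofFinite G
  have hqG : q ∣ Nat.card G := by
    rcases Nat.eq_zero_or_pos b with rfl | hb
    · exfalso
      have hs : Group.IsSolvable G := CfsgLib.Char.isSolvable_of_card_two_primes Nat.prime_three
        Nat.prime_two G 2 a (by rw [hcard, pow_zero, mul_one]; norm_num)
      exact hG ⟨⟨IsSimpleGroup.comm_iff_isSolvable.2 hs⟩⟩
    · exact hcard ▸ (dvd_pow_self q hb.ne').mul_left _
  haveI := Fact.mk Nat.prime_three
  obtain ⟨P⟩ : Nonempty (Sylow 3 G) := inferInstance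
  have h9 : Nat.card P = 9 := by
    have h3' : ¬ 3 ∣ 2 ^ a * q ^ b := by
      rw [Nat.Prime.dvd_mul Nat.prime_three]
      rintro (d | d)
      · exact absurd (Nat.prime_three.dvd_of_dvd_pow d) (by norm_num)
      · exact hq3 ((Nat.prime_dvd_prime_iff_eq Nat.prime_three hq).mp (Nat.prime_three.dvd_of_dvd_pow d)).symm
    rw [Sylow.card_eq_multiplicity, hcard, mul_assoc, show 9 = 3 ^ 2 by norm_num,
      Nat.factorization_mul (by norm_num) (Nat.mul_ne_zero (by positivity) (pow_ne_zero _ hq.ne_zero)),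
      Finsupp.add_apply, Nat.prime_three.factorization_pow, Finsupp.single_eq_same,
      Nat.factorization_eq_zero_of_not_dvd h3', add_zero]
  rcases CfsgLib.NineTwoPrime.classify P hG h9 h3 with ⟨hF, h2⟩ | ⟨⟨D⟩⟩
  · exact CfsgLib.NineTwoPrime.free_main hG q a b hq hq2 hq3 hcard hqG P h9 hF h2
  · exact (CfsgLib.NineTwoPrime.klein_false hG q a b hq hq2 hq3 hcard hqG h9 D).elim

end Cfsg.Agent.S2219
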