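import Cfsg.Statements.S0105
import Cfsg.Agent.Lib.Fusion.Abelian

set_option autoImplicit false
open Cfsg

namespace Cfsg.Agent.S0105

/-- With an abelian Sylow p-subgroup P, some quotient of G is isomorphic to the part of P central in N_G(P). -/
theorem result {G : Type*} [Group G] [Finite G] {p : ℕ} [Fact p.Prime] (P : Sylow p G) (hP : IsMulCommutative P) : ∃ (N : Subgroup G) (hN : N.Normal), Nonempty (G ⧸ N ≃* ((P : Subgroup G) ⊓ Subgroup.centralizer (Subgroup.normalizer (P : Set G) : Set G) : Subgroup G)) := by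
  classical
  haveI := hP
  set N := Subgroup.normalizer ((P : Subgroup G) : Set G) with hN
  have hcop := CfsgLib.Fusion.coprime_card_focalQuotient P
  have hfoc := CfsgLib.Fusion.focalSubgroup_abelian_sylow P hP
  -- decomposition inside the normalizer
  let A : Subgroup N := (P : Subgroup G).subgroupOf N
  haveI : A.Normal := Subgroup.normal_in_normalizer
  haveI : IsMulCommutative A := ⟨⟨fun a b => Subtype.ext (Subtype.ext
    (show ((a : N) : G) * b = b * a from congrArg Subtype.val
      (hP.is_comm.comm (⟨((a : N) : G), a.2⟩ : (P : Subgroup G)) ⟨((b : N) : G), b.2⟩)))⟩⟩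
  have hAcop : Nat.Coprime (Nat.card A) A.index := by
    rw [Nat.card_congr (Subgroup.subgroupOfEquivOfLe Subgroup.le_normalizer).toEquiv]
    obtain ⟨k, hk⟩ := P.2.exists_card_eq
    rw [hk]
    exact Nat.Coprime.pow_left k ((Fact.out : p.Prime).coprime_iff_not_dvd.2
      fun hd => P.not_dvd_index (hd.trans (Subgroup.relIndex_dvd_index_of_le Subgroup.le_normalizer)))
  let D : Subgroup G := (P : Subgroup G) ⊓ Subgroup.centralizer (N : Set G)
  let f : D →* (P : Subgroup G) ⧸ (P : Subgroup G).focalSubgroupOf :=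
    (QuotientGroup.mk' _).comp (Subgroup.inclusion inf_le_left)
  have hinj : Function.Injective f := by
    rw [injective_iff_map_eq_one]
    intro d hd
    have hd' : (d : G) ∈ (P : Subgroup G).focalSubgroup :=
      (QuotientGroup.eq_one_iff (Subgroup.inclusion inf_le_left d : (P : Subgroup G))).1 hd
    rw [hfoc] at hd'
    have hdN : (d : G) ∈ N := Subgroup.le_normalizer d.2.1
    have hd1 : (⟨d, hdN⟩ : N) ∈ commutator N := by
      have h2 : (d : G) ∈ (commutator N).map N.subtype := by
        rw [Subgroup.map_subtype_commutator]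
        exact Subgroup.commutator_mono Subgroup.le_normalizer le_rfl hd'
      obtain ⟨w, hw, hwd⟩ := h2
      rwa [show (⟨d, hdN⟩ : N) = w from Subtype.ext hwd.symm]
    have hd2 : (⟨d, hdN⟩ : N) ∈ Subgroup.center N := Subgroup.mem_center_iff.2 fun w =>
      Subtype.ext (Subgroup.mem_centralizer_iff.1 d.2.2 w w.2)
    have h3 := CfsgLib.Fusion.central_inf_commutator_eq_one A hAcop hd2 hd1 d.2.1
    exact Subtype.ext (congrArg Subtype.val h3 :)
  have hsurj : Function.Surjective f := by
    intro z
    obtain ⟨u, rfl⟩ := QuotientGroup.mk_surjective z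
    have hu : (⟨u, Subgroup.le_normalizer u.2⟩ : N) ∈ A := u.2
    have h4 := CfsgLib.Fusion.le_commutator_sup_center A hAcop hu
    obtain ⟨c, hc, z, ⟨hz, hzA⟩, hcz⟩ := Subgroup.mem_sup_of_normal_left.1 h4
    refine ⟨⟨z, hzA, Subgroup.mem_centralizer_iff.2 fun w hw =>
      congrArg Subtype.val (Subgroup.mem_center_iff.1 hz ⟨w, hw⟩)⟩, ?_⟩
    refine QuotientGroup.eq.2 ?_
    show ((z : G))⁻¹ * u ∈ (P : Subgroup G).focalSubgroup
    have hcz' : (u : G) = (c : G) * z := (congrArg Subtype.val hcz).symm
    have hcom : (c : G) * z = z * c := congrArg Subtype.val (Subgroup.mem_center_iff.1 hz c)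
    rw [hcz', hcom, inv_mul_cancel_left, hfoc]
    have h5 := Subgroup.mem_map_of_mem N.subtype hc
    rw [Subgroup.map_commutator, ← MonoidHom.range_eq_map, Subgroup.range_subtype,
      Subgroup.map_subgroupOf_eq_of_le Subgroup.le_normalizer] at h5
    exact h5
  exact ⟨_, inferInstance,
    ⟨(Subgroup.transferFocal.quotientKerMulEquivQuotientFocalSubroupOf P).trans
      (MulEquiv.ofBijective f ⟨hinj, hsurj⟩).symm⟩⟩

end Cfsg.Agent.S0105
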