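import Cfsg.Statements.S5361
import Cfsg.Agent.Lib.Spor.Tri.Quasi

set_option autoImplicit false
open Cfsg CfsgLib.Spor.Tri

namespace Cfsg.Agent.S5361

/-- Let D be a conjugacy class of 3-transpositions generating the finite group G, and suppose the centre of G is trivial and some two different members of D commute. Then the following are equivalent: (1) the commutator subgroup of G is simple (possibly of prime order); (2) G acts primitively on D by conjugation; (3) the largest normal 2-subgroup and the largest normal 3-subgroup of G are trivial and the commuting graph of D is connected. -/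
theorem result {G : Type*} [Group G] [Finite G] {D : Set G} (hD : Cfsg.IsThreeTranspositionClass D) (hZ : Subgroup.center G = ⊥) (hw : ∃ a ∈ D, ∃ b ∈ D, a ≠ b ∧ Commute a b) : (IsSimpleGroup (commutator G) ↔ Cfsg.IsPrimitiveUnderConj D) ∧ (Cfsg.IsPrimitiveUnderConj D ↔ (Cfsg.pCore 2 G = ⊥ ∧ Cfsg.pCore 3 G = ⊥ ∧ (Cfsg.commutingGraph D).Connected)) := by

  have h := hyp_of_class hD
  obtain ⟨a, ha, b, hb, hab, hc⟩ := id hw
  have hD2 : ∃ a ∈ D, ∃ b ∈ D, a ≠ b := ⟨a, ha, b, hb, hab⟩
  have hne : D.Nonempty := ⟨a, ha⟩
  have cores : ∀ p, Cfsg.pCore p G ≤ Subgroup.center G → Cfsg.pCore p G = ⊥ := fun p hp => by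
    rwa [hZ, le_bot_iff] at hp
  have conn_prim : Cfsg.pCore 2 G ≤ Subgroup.center G → Cfsg.pCore 3 G ≤ Subgroup.center G →
      (∀ x ∈ D, ∀ y ∈ D, Relation.ReflTransGen (CAdj D) x y) → Cfsg.IsPrimitiveUnderConj D := fun h2 h3 hr =>
    h.primitive_of_index hD2 h2 h3 (h.layer_index_le hD2 h2 h3 hr)
  refine ⟨⟨fun hs => ?_, fun hp => ?_⟩, ⟨fun hp => ?_, fun ⟨h2, h3, hr⟩ => ?_⟩⟩
  · have hnonab : ∃ x y : commutator G, x * y ≠ y * x := by
      by_contra hcomm
      push Not at hcomm
      haveI := hs
      letI : CommGroup (commutator G) := { (inferInstance : Group (commutator G)) with mul_comm := hcomm }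
      have hprime : (Nat.card (commutator G)).Prime := IsSimpleGroup.prime_card
      have habm : a * b ∈ commutator G := by
        obtain ⟨g, hg⟩ := h.transitive a ha b hb
        have : g * a * g⁻¹ * a⁻¹ ∈ commutator G := by
          rw [_root_.commutator_def, ← commutatorElement_def]
          exact Subgroup.commutator_mem_commutator (Subgroup.mem_top g) (Subgroup.mem_top a)
        rw [hg, h.inv_eq ha] at this
        rwa [hc.eq]
      have ho : orderOf (a * b) = 2 := orderOf_eq_prime ((h.commute_iff_sq ha hb).1 hc)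
        fun e => hab (by rw [eq_inv_of_mul_eq_one_left e, h.inv_eq hb])
      have h2card : Nat.card (commutator G) = 2 := by
        have hd : 2 ∣ Nat.card (commutator G) := ho ▸ Subgroup.orderOf_dvd_natCard _ habm
        exact ((Nat.prime_dvd_prime_iff_eq Nat.prime_two hprime).1 hd).symm
      obtain ⟨c, hc1, hu⟩ := (Nat.card_eq_two_iff' (1 : commutator G)).1 h2card
      have hcen : (c : G) ∈ Subgroup.center G := Subgroup.mem_center_iff.2 fun g => by
        have hm := (inferInstance : (commutator G).Normal).conj_mem c c.2 g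
        have := hu ⟨_, hm⟩ fun e => hc1 (Subtype.ext (by simpa using congrArg Subtype.val e))
        exact mul_inv_eq_iff_eq_mul.1 (congrArg Subtype.val this)
      rw [hZ, Subgroup.mem_bot] at hcen
      exact hc1 (Subtype.ext hcen)
    have hR := centralRadical_of_simple_commutator hs hnonab
    have hperf := perfect_of_simple_commutator hs hnonab
    have hcore : ∀ p, p.Prime → Cfsg.pCore p G ≤ Subgroup.center G := fun p hp => by
      haveI : Fact p.Prime := ⟨hp⟩
      haveI := (CfsgLib.Coprime.pCore_isPGroup (G := G) p).isNilpotent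
      exact hR _ (CfsgLib.Coprime.pCore_normal' p) inferInstance
    exact conn_prim (hcore 2 Nat.prime_two) (hcore 3 Nat.prime_three) fun x hx y hy =>
      commuting_connected h hperf hx hy
  · obtain ⟨h2, h3, hr⟩ := h.of_primitive hp hw
    rw [h.commutator_eq_layer (h.layer_index_le hD2 h2 h3 hr)]
    have hLc := h.layer_isComponent hD2 h2 h3
    haveI := hLc.2.2
    have hbot : Subgroup.center (Cfsg.layer G) = ⊥ := by
      rw [eq_bot_iff]
      intro x hx
      have hm : (x : G) ∈ Subgroup.center G := by
        refine h.centralizer_layer_le h2 h3 (Subgroup.mem_centralizer_iff.2 fun l hl => ?_)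
        exact congrArg Subtype.val (Subgroup.mem_center_iff.1 hx ⟨l, hl⟩)
      rw [hZ, Subgroup.mem_bot] at hm
      exact Subgroup.mem_bot.2 (Subtype.ext hm)
    haveI : Nontrivial (Cfsg.layer G) := CfsgLib.Coprime.nontrivial_of_isQuasisimple hLc.2
    exact IsSimpleGroup.isSimpleGroup_of_surjective
      (((QuotientGroup.quotientMulEquivOfEq hbot).trans QuotientGroup.quotientBot).toMonoidHom)
      (MulEquiv.surjective _)
  · obtain ⟨h2, h3, hr⟩ := h.of_primitive hp hw
    exact ⟨cores 2 h2, cores 3 h3, (connected_iff_reach hne).2 hr⟩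
  · exact conn_prim (h2.le.trans bot_le) (h3.le.trans bot_le) ((connected_iff_reach hne).1 hr)

end Cfsg.Agent.S5361
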