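import Cfsg.Statements.S5346
import Cfsg.Agent.Lib.Spor.Tri.Elementary
import Cfsg.Agent.Lib.Coprime.Core
import Cfsg.Agent.Lib.Invol.PrimePowerClass
-- import your own Cfsg.Agent.* helpers here

set_option autoImplicit false
open Cfsg

namespace Cfsg.Agent.S5346

/-- Let D be a conjugation-invariant generating set of 3-transpositions of a finite group G and d a member of D. Then D has width 1 (no two different members of D commute) if and only if G is the product of the subgroup generated by d with the largest normal 3-subgroup of G. -/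
theorem result {G : Type*} [Group G] [Finite G] {D : Set G} (hD : Cfsg.IsThreeTranspositionGroup D) {d : G} (hd : d ∈ D) : Cfsg.commutingWidth D = 1 ↔ Subgroup.zpowers d ⊔ Cfsg.pCore 3 G = ⊤ := by
  obtain ⟨hset, hconj, hgen⟩ := hD
  haveI := CfsgLib.Coprime.pCore_normal' (G := G) 3
  have hinv : ∀ a ∈ D, a⁻¹ = a := fun a ha => CfsgLib.Spor.Tri.set_inv hset ha
  have hbdd : BddAbove {n : ℕ | ∃ E : Set G, E ⊆ D ∧ E.Finite ∧ (∀ a ∈ E, ∀ b ∈ E, Commute a b) ∧ E.ncard = n} :=
    ⟨Nat.card G, fun n ⟨E, _, _, _, e⟩ => e ▸ (Set.ncard_univ G ▸ Set.ncard_le_ncard (Set.subset_univ E))⟩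
  constructor
  · intro hw
    have hne : ∀ a ∈ D, ∀ b ∈ D, a ≠ b → ¬ Commute a b := by
      intro a ha b hb hab hc
      have h2 : 2 ≤ Cfsg.commutingWidth D :=
        le_csSup hbdd ⟨{a, b}, by rintro x (rfl | rfl) <;> assumption, Set.toFinite _, by
          rintro x (rfl | rfl) y (rfl | rfl)
          exacts [Commute.refl _, hc, hc.symm, Commute.refl _], Set.ncard_pair hab⟩
      omega
    have h3 : ∀ a ∈ D, ∀ b ∈ D, a ≠ b → (a * b) ^ 3 = 1 := by
      intro a ha b hb hab
      refine (hset.2 a ha b hb).resolve_left fun e => hne a ha b hb hab ?_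
      rw [pow_two] at e
      show a * b = b * a
      rw [eq_inv_of_mul_eq_one_left e, mul_inv_rev, hinv a ha, hinv b hb]
    rw [eq_top_iff, ← hgen, Subgroup.closure_le]
    intro e he
    obtain ⟨g, hg⟩ : ∃ g : G, g * d * g⁻¹ = e := by
      by_cases hde : d = e
      · exact ⟨1, by simp [hde]⟩
      refine ⟨d * e, ?_⟩
      rw [mul_inv_rev, hinv d hd, hinv e he]
      calc d * e * d * (e * d) = d * e * d * (e * d) * (e * e) := by
            rw [CfsgLib.Spor.Tri.set_mul_self hset he, mul_one]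
        _ = (d * e) ^ 3 * e := by simp [pow_succ, mul_assoc]
        _ = e := by rw [h3 d hd e he hde, one_mul]
    have key : d * (g * d * g⁻¹) ∈ Cfsg.pCore 3 G :=
      CfsgLib.Invol.mul_conj_mem_pCore Nat.prime_three (by norm_num) (hset.1 d hd) (fun k => by
        by_cases hk : d = k * d * k⁻¹
        · exact ⟨0, by rw [← hk, CfsgLib.Spor.Tri.set_mul_self hset hd, orderOf_one, pow_zero]⟩
        · obtain ⟨j, -, hj⟩ := (Nat.dvd_prime_pow Nat.prime_three).1
            ((orderOf_dvd_of_pow_eq_one (h3 d hd _ (hconj k d hd) hk)).trans (dvd_of_eq (pow_one 3).symm))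
          exact ⟨j, hj⟩) g
    rw [hg] at key
    have := mul_mem (Subgroup.mem_sup_left (Subgroup.mem_zpowers d) : d ∈ Subgroup.zpowers d ⊔ Cfsg.pCore 3 G)
      (Subgroup.mem_sup_right key)
    rwa [← mul_assoc, CfsgLib.Spor.Tri.set_mul_self hset hd, one_mul] at this
  · intro htop
    have hcl : ∀ e ∈ D, d * e ∈ Cfsg.pCore 3 G := by
      intro e he
      obtain ⟨a, ha, o, ho, hao⟩ := Subgroup.mem_sup_of_normal_right.1
        (htop ▸ Subgroup.mem_top e : e ∈ Subgroup.zpowers d ⊔ Cfsg.pCore 3 G)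
      obtain ⟨i, rfl⟩ := Subgroup.mem_zpowers_iff.1 ha
      rcases Int.even_or_odd i with ⟨j, rfl⟩ | ⟨j, rfl⟩
      · exfalso
        have : d ^ (j + j) = 1 := by
          rw [← two_mul, zpow_mul, zpow_two, CfsgLib.Spor.Tri.set_mul_self hset hd, one_zpow]
        rw [this, one_mul] at hao
        subst hao
        obtain ⟨k, hk⟩ := CfsgLib.Coprime.pCore_isPGroup (G := G) 3 ⟨_, ho⟩
        have h1 : orderOf o ∣ 3 ^ k := orderOf_dvd_of_pow_eq_one (by simpa using congrArg Subtype.val hk)
        rw [hset.1 o he] at h1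
        exact absurd (Nat.Prime.dvd_of_dvd_pow Nat.prime_two h1) (by norm_num)
      · rw [zpow_add, zpow_mul, zpow_two, CfsgLib.Spor.Tri.set_mul_self hset hd, one_zpow, one_mul, zpow_one] at hao
        rw [← hao, ← mul_assoc, CfsgLib.Spor.Tri.set_mul_self hset hd, one_mul]
        exact ho
    refine le_antisymm (csSup_le' ?_) (le_csSup hbdd
      ⟨{d}, by simpa using hd, Set.toFinite _, by simp, Set.ncard_singleton d⟩)
    rintro n ⟨E, hE, hfin, hc, rfl⟩
    rw [Set.ncard_le_one hfin]
    intro a ha b hb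
    have hab : a * b ∈ Cfsg.pCore 3 G := by
      have := mul_mem (inv_mem (hcl a (hE ha))) (hcl b (hE hb))
      rwa [mul_inv_rev, hinv a (hE ha), mul_assoc, inv_mul_cancel_left] at this
    obtain ⟨k, hk⟩ := CfsgLib.Coprime.pCore_isPGroup (G := G) 3 ⟨_, hab⟩
    have h1 : orderOf (a * b) ∣ 3 ^ k := orderOf_dvd_of_pow_eq_one (by simpa using congrArg Subtype.val hk)
    have h2 : orderOf (a * b) ∣ 2 := orderOf_dvd_of_pow_eq_one (by
      rw [(hc a ha b hb).mul_pow, pow_two, pow_two, CfsgLib.Spor.Tri.set_mul_self hset (hE ha),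
        CfsgLib.Spor.Tri.set_mul_self hset (hE hb), one_mul])
    have h3 := orderOf_eq_one_iff.1
      (Nat.eq_one_of_dvd_coprimes (Nat.Coprime.pow_left k (by norm_num : Nat.Coprime 3 2)) h1 h2)
    rw [eq_inv_of_mul_eq_one_left h3, hinv b (hE hb)]

end Cfsg.Agent.S5346
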