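import Cfsg.Statements.S1631
import Cfsg.Agent.S0780
import Cfsg.Agent.Lib.RootSub.Transvection
import Cfsg.Agent.Lib.Classical.HermOrder
-- import your own Cfsg.Agent.* helpers here

set_option autoImplicit false
open scoped MatrixGroups
open Cfsg

namespace Cfsg.Agent.S1631

open Matrix CfsgLib.SU

section main

variable {F : Type} [Field F] [Fintype F] {n : ℕ} (C : UCtx F 2)

/-- `g` is the unitary transvection at `p`. -/
def Is (p : Fin n → F) (g : ↥(Cfsg.SU n F 2)) : Prop :=
  ∀ v, g.1.1 *ᵥ v = v + C.form v p • p

theorem two_zero (hF : Fintype.card F = 4) : (2 : F) = 0 := by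
  have h : ((4 : ℕ) : F) = 0 := hF ▸ FiniteField.cast_card_eq_zero F
  have : (2 : F) * 2 = 0 := by push_cast at h; linear_combination h
  exact mul_self_eq_zero.1 this

theorem norm_one {x : F} (hF : Fintype.card F = 4) (hx : x ≠ 0) : x * C.bar x = 1 := by
  rw [C.bar_eq, ← pow_succ']
  have := FiniteField.pow_card_sub_one_eq_one x hx
  rwa [hF] at this

theorem is_smul (hF : Fintype.card F = 4) {p : Fin n → F} {g : ↥(Cfsg.SU n F 2)} (h : Is C p g) {c : F}
    (hc : c ≠ 0) : Is C (c • p) g := fun v => by
  rw [h v, C.form_smul_right, smul_smul, mul_assoc, mul_comm (C.form v p), ← mul_assoc,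
    mul_comm (C.bar c), norm_one C hF hc, one_mul]

theorem is_unique {p : Fin n → F} {g k : ↥(Cfsg.SU n F 2)} (h : Is C p g) (h' : Is C p k) : g = k :=
  su_ext fun v => by rw [h v, h' v]

theorem is_conj {p : Fin n → F} {g : ↥(Cfsg.SU n F 2)} (h : Is C p g) (A : ↥(Cfsg.SU n F 2)) :
    Is C (A.1.1 *ᵥ p) (A * g * A⁻¹) := fun v => by
  rw [suMat_mulVec_mul, suMat_mulVec_mul, h, Matrix.mulVec_add, Matrix.mulVec_smul, su_mulVec_inv,
    ← C.form_su A, su_mulVec_inv]

theorem is_sq (hF : Fintype.card F = 4) {p : Fin n → F} (hp : C.form p p = 0)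
    {g : ↥(Cfsg.SU n F 2)} (h : Is C p g) : g * g = 1 := su_ext fun v => by
  rw [suMat_mulVec_mul, h, h, su_one_mulVec, C.form_add_left, C.form_smul_left, hp, mul_zero, add_zero,
    add_assoc, ← two_smul F, two_zero hF, zero_smul, add_zero]

/-- Two transvections with non-orthogonal centres satisfy the braid relation. -/
theorem braid (hF : Fintype.card F = 4) {p r : Fin n → F} (hp : C.form p p = 0) (hr : C.form r r = 0)
    {g k : ↥(Cfsg.SU n F 2)} (hg : Is C p g) (hk : Is C r k) (h : C.form p r ≠ 0) :
    g * k * g = k * g * k := by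
  have h1 := is_conj C hk g
  have h2 := is_conj C hg k
  rw [inv_eq_of_mul_eq_one_right (is_sq C hF hp hg), hg] at h1
  rw [inv_eq_of_mul_eq_one_right (is_sq C hF hr hk), hk] at h2
  refine is_unique C h1 ?_
  have hrp : C.form r p ≠ 0 := fun e => h (C.form_swap_zero e)
  have e : r + C.form r p • p = C.form r p • (p + C.form p r • r) := by
    rw [smul_add, smul_smul, ← C.bar_form r p, norm_one C hF hrp, one_smul, add_comm]
  rw [e]
  exact is_smul C hF h2 hrp

end main

/-- The unitary transvections of SU(n, 2), n ≥ 4, form a generating conjugacy class of 3-transpositions. -/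
theorem result (F : Type) [Field F] [Fintype F] [DecidableEq F] (hF : Fintype.card F = 4) (n : ℕ) (hn : 4 ≤ n) : Cfsg.IsThreeTranspositionClass {g : ↥(Cfsg.SU n F 2) | (((g : Matrix.SpecialLinearGroup (Fin n) F) : Matrix (Fin n) (Fin n) F) - 1).rank = 1} := by
  classical
  obtain ⟨C⟩ := CfsgLib.Classical.uctx_exists (q := 2) (by rw [hF]; norm_num : Fintype.card F = 2 ^ 2)
  set D := {g : ↥(Cfsg.SU n F 2) | (((g : Matrix.SpecialLinearGroup (Fin n) F) : Matrix (Fin n) (Fin n) F) - 1).rank = 1} with hD
  have h2 : (2 : F) = 0 := two_zero hF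
  have hmem : ∀ g, g ∈ D ↔ ∃ p, p ≠ 0 ∧ C.form p p = 0 ∧ Is C p g := by
    intro g
    constructor
    · intro hg
      have hg' : (g.1.1 - 1).rank = 1 := hg
      rw [Matrix.rank, finrank_eq_one_iff'] at hg'
      obtain ⟨⟨p, hpr⟩, hp0, hall⟩ := hg'
      have hp : p ≠ 0 := fun e => hp0 (Subtype.ext e)
      have hc : ∀ v, ∃ c : F, g.1.1 *ᵥ v = v + c • p := fun v => by
        obtain ⟨c, hc⟩ := hall ⟨(g.1.1 - 1).mulVecLin v, LinearMap.mem_range_self _ v⟩
        refine ⟨c, ?_⟩
        have h1 := congrArg Subtype.val hc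
        simp only [SetLike.val_smul, Matrix.mulVecLin_apply, Matrix.sub_mulVec, Matrix.one_mulVec] at h1
        rw [h1]; abel
      choose c hc using hc
      have hlin : ∀ v, c v = (fun j => c (Pi.single j 1)) ⬝ᵥ v := by
        intro v
        obtain ⟨i, hi⟩ := Function.ne_iff.1 hp
        refine mul_right_cancel₀ hi ?_
        have hM : g.1.1 = 1 + Matrix.replicateCol Unit p * Matrix.replicateRow Unit (fun j => c (Pi.single j 1)) := by
          ext a b
          have h1 := congrFun (hc (Pi.single b 1)) a
          rw [Matrix.mulVec_single_one] at h1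
          simp only [Matrix.col_apply, Pi.add_apply, Pi.smul_apply, smul_eq_mul, Pi.single_apply] at h1
          rw [h1]
          simp [Matrix.one_apply, Matrix.mul_apply, mul_comm]
        have h2 := congrFun (hc v) i
        rw [hM, Matrix.add_mulVec, Matrix.one_mulVec] at h2
        simp only [Pi.add_apply, Pi.smul_apply, smul_eq_mul, add_right_inj] at h2
        rw [← h2]
        simp [Matrix.mulVec, Matrix.mul_apply, dotProduct, Finset.mul_sum, mul_comm, mul_left_comm]
      have hcp : c p = 0 := by
        have hM : g.1.1 = 1 + Matrix.replicateCol Unit p * Matrix.replicateRow Unit (fun j => c (Pi.single j 1)) := by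
          ext a b
          have h1 := congrFun (hc (Pi.single b 1)) a
          rw [Matrix.mulVec_single_one] at h1
          simp only [Matrix.col_apply, Pi.add_apply, Pi.smul_apply, smul_eq_mul, Pi.single_apply] at h1
          rw [h1]
          simp [Matrix.one_apply, Matrix.mul_apply, mul_comm]
        have hd := g.1.2
        rw [hM, Matrix.det_one_add_replicateCol_mul_replicateRow, add_eq_left] at hd
        rw [hlin]; exact hd
      have hun : ∀ u v, c u * C.form p v + C.bar (c v) * C.form u p + c u * C.bar (c v) * C.form p p = 0 := by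
        intro u v
        have h1 := C.form_su g u v
        rw [hc u, hc v, C.form_add_left, C.form_add_right, C.form_add_right, C.form_smul_left,
          C.form_smul_left, C.form_smul_right, C.form_smul_right] at h1
        linear_combination h1
      obtain ⟨w, hw⟩ : ∃ w, c w ≠ 0 := by
        by_contra hall0
        push Not at hall0
        have : g.1.1 = 1 := Matrix.ext_of_mulVec_single fun j => by rw [hc, hall0, zero_smul, add_zero, Matrix.one_mulVec]
        have h1 : (g.1.1 - 1).rank = 1 := hg
        rw [this, sub_self, Matrix.rank_zero] at h1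
        exact zero_ne_one h1
      have hpp : C.form p p = 0 := by
        have h1 := hun p w
        rw [hcp, zero_mul, zero_mul, zero_mul, zero_add, add_zero, mul_eq_zero] at h1
        exact h1.resolve_left ((map_ne_zero C.bar).2 hw)
      obtain ⟨x, hx⟩ := C.exists_form_eq_one hp
      have hpx : C.form p x = 1 := by rw [← C.bar_form, hx, map_one]
      set t := C.bar (c x) with htdef
      have hcu : ∀ u, c u = t * C.form u p := fun u => by
        have h1 := hun u x
        rw [hpx, hpp, mul_one, mul_zero, add_zero, ← htdef] at h1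
        linear_combination h1 - (t * C.form u p) * h2
      have ht : t = 1 := by
        have h1 := hun x x
        rw [hpx, hx, hpp, mul_one, mul_zero, add_zero, mul_one, ← htdef] at h1
        have ht0 : t ≠ 0 := fun e => hw (by rw [hcu, e, zero_mul])
        have h3 : C.bar t = t := by rw [htdef, C.bar_bar]; linear_combination h1 - t * h2
        have h4 := norm_one C hF ht0
        rw [h3] at h4
        have h5 : (t - 1) * (t - 1) = 0 := by linear_combination h4 + (1 - t) * h2
        exact sub_eq_zero.1 (mul_self_eq_zero.1 h5)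
      exact ⟨p, hp, hpp, fun v => by rw [hc, hcu, ht, one_mul]⟩
    · rintro ⟨p, hp, hpp, hg⟩
      have e : g.1.1 - 1 = Matrix.vecMulVec p (fun j => C.bar (p j)) := by
        refine Matrix.ext_of_mulVec_single fun j => ?_
        rw [Matrix.sub_mulVec, hg, Matrix.one_mulVec, add_sub_cancel_left, Matrix.vecMulVec_mulVec,
          op_smul_eq_smul]
        congr 1
        simp [UCtx.form, dotProduct, mul_comm]
      show (g.1.1 - 1).rank = 1
      refine le_antisymm (e ▸ Matrix.rank_vecMulVec_le _ _) (Nat.one_le_iff_ne_zero.2 fun h0 => hp ?_)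
      rw [Matrix.rank, Submodule.finrank_eq_zero, LinearMap.range_eq_bot] at h0
      obtain ⟨x, hx⟩ := C.exists_form_eq_one hp
      have h1 := LinearMap.congr_fun h0 x
      rwa [Matrix.mulVecLin_apply, Matrix.sub_mulVec, hg, Matrix.one_mulVec, add_sub_cancel_left, hx,
        one_smul] at h1
  have hex : ∀ p : Fin n → F, C.form p p = 0 → ∃ g, Is C p g := fun p hpp =>
    ⟨C.tv p hpp 1 (by rw [map_one]; linear_combination h2), fun v => (C.tv_mulVec p hpp _ _ v).trans (by rw [one_mul])⟩
  have hconj : ∀ d ∈ D, ∀ e ∈ D, IsConj d e := by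
    intro d hd e he
    obtain ⟨p, hp, hpp, hd'⟩ := (hmem d).1 hd
    obtain ⟨r, hr, hrr, he'⟩ := (hmem e).1 he
    have step : ∀ {p r : Fin n → F} {g k : ↥(Cfsg.SU n F 2)}, C.form p p = 0 → C.form r r = 0 →
        Is C p g → Is C r k → C.form p r ≠ 0 → IsConj g k := by
      intro p r g k hpp hrr hg hk h
      refine isConj_iff.2 ⟨g * k, ?_⟩
      rw [_root_.mul_inv_rev, ← mul_assoc, braid C hF hpp hrr hg hk h]
      group
    by_cases hpr : C.form p r = 0
    · obtain ⟨u, hu1, hu2⟩ : ∃ u, C.form u p ≠ 0 ∧ C.form u r ≠ 0 := by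
        obtain ⟨a, ha⟩ := C.exists_form_eq_one hp
        obtain ⟨b, hb⟩ := C.exists_form_eq_one hr
        by_cases h1 : C.form a r = 0
        · by_cases h3 : C.form b p = 0
          · exact ⟨a + b, by rw [C.form_add_left, ha, h3, add_zero]; exact one_ne_zero,
              by rw [C.form_add_left, h1, hb, zero_add]; exact one_ne_zero⟩
          · exact ⟨b, h3, by rw [hb]; exact one_ne_zero⟩
        · exact ⟨a, by rw [ha]; exact one_ne_zero, h1⟩
      obtain ⟨t, ht⟩ := C.exists_trace (c := -C.form u u) (by rw [map_neg, C.form_self_fixed])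
      have hpu : C.form p u ≠ 0 := fun e => hu1 (C.form_swap_zero e)
      set z := u + (t / C.form p u) • p with hz
      have hzz : C.form z z = 0 := by
        rw [hz, C.form_add_left, C.form_add_right, C.form_add_right, C.form_smul_left, C.form_smul_left,
          C.form_smul_right, C.form_smul_right, hpp, map_div₀, C.bar_form, mul_zero, mul_zero, add_zero,
          div_mul_cancel₀ _ hu1, div_mul_cancel₀ _ hpu]
        linear_combination ht
      have hzp : C.form p z ≠ 0 := fun e => by
        have h1 := C.form_swap_zero e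
        rw [hz, C.form_add_left, C.form_smul_left, hpp, mul_zero, add_zero] at h1
        exact hu1 h1
      have hzr : C.form z r ≠ 0 := by
        rw [hz, C.form_add_left, C.form_smul_left, hpr, mul_zero, add_zero]; exact hu2
      obtain ⟨g, hg⟩ := hex z hzz
      exact (step hpp hzz hd' hg hzp).trans (step hzz hrr hg he' hzr)
    · exact step hpp hrr hd' he' hpr
  have hgen : Subgroup.closure D = ⊤ := by
    rw [eq_top_iff, ← Cfsg.Agent.S0780.result (by rw [hF]; norm_num : Fintype.card F = 2 ^ 2) n (by omega)
      (by omega), Subgroup.closure_le]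
    rintro A ⟨v, c, hv, hA⟩
    by_cases h : c = 0 ∨ v = 0
    · have : A = 1 := Subtype.ext (Subtype.ext (by
        rw [hA, Cfsg.unitaryTransvection]
        rcases h with h | h
        · rw [h, zero_smul, add_zero]; rfl
        · rw [h, Matrix.zero_vecMulVec, smul_zero, add_zero]; rfl))
      rw [this]; exact one_mem _
    · rw [not_or] at h
      refine Subgroup.subset_closure ?_
      show (A.1.1 - 1).rank = 1
      rw [hA, Cfsg.unitaryTransvection, add_sub_cancel_left, ← Matrix.smul_vecMulVec]
      refine le_antisymm (Matrix.rank_vecMulVec_le _ _) (Nat.one_le_iff_ne_zero.2 fun h0 => ?_)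
      obtain ⟨i, hi⟩ := Function.ne_iff.1 h.2
      rw [Matrix.rank, Submodule.finrank_eq_zero, LinearMap.range_eq_bot] at h0
      have h1 := congrFun (LinearMap.congr_fun h0 (Pi.single i 1)) i
      simp [Matrix.vecMulVec_apply] at h1
      rcases h1 with h1 | h1
      · exact h.1 h1
      · exact hi h1
  refine ⟨⟨fun d hd => ?_, fun d hd e he => ?_⟩, ?_, hgen⟩
  · obtain ⟨p, hp, hpp, hd'⟩ := (hmem d).1 hd
    refine orderOf_eq_prime (by rw [pow_two]; exact is_sq C hF hpp hd') fun e => hp ?_
    obtain ⟨x, hx⟩ := C.exists_form_eq_one hp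
    have h1 := hd' x
    rw [e, su_one_mulVec, hx, one_smul] at h1
    exact left_eq_add.1 h1
  · obtain ⟨p, hp, hpp, hd'⟩ := (hmem d).1 hd
    obtain ⟨r, hr, hrr, he'⟩ := (hmem e).1 he
    by_cases h : C.form p r = 0
    · left
      have hc : d * e = e * d := su_ext fun v => by
        rw [suMat_mulVec_mul, suMat_mulVec_mul, hd', he', he', hd', C.form_add_left, C.form_add_left,
          C.form_smul_left, C.form_smul_left, h, C.form_swap_zero h, mul_zero, mul_zero, add_zero, add_zero]
        abel
      rw [(show Commute d e from hc).mul_pow, pow_two, pow_two, is_sq C hF hpp hd', is_sq C hF hrr he',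
        one_mul]
    · right
      calc (d * e) ^ 3 = d * e * d * (e * d * e) := by simp only [pow_succ, pow_zero, one_mul, mul_assoc]
        _ = d * e * d * (d * e * d) := by rw [braid C hF hpp hrr hd' he' h]
        _ = d * (e * (d * d) * e) * d := by simp only [mul_assoc]
        _ = 1 := by rw [is_sq C hF hpp hd', mul_one, is_sq C hF hrr he', mul_one, is_sq C hF hpp hd']
  · obtain ⟨p, hp, hpp⟩ := C.exists_isotropic (n := n) (by omega)
    obtain ⟨d, hd⟩ := hex p hpp
    have hdD : d ∈ D := (hmem d).2 ⟨p, hp, hpp, hd⟩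
    refine ⟨d, hdD, Set.ext fun e => ⟨fun he => hconj d hdD e he, fun he => ?_⟩⟩
    obtain ⟨A, rfl⟩ := isConj_iff.1 (show IsConj d e from he)
    exact (hmem _).2 ⟨_, su_mulVec_ne_zero A hp, (C.form_su A p p).trans hpp, is_conj C hd A⟩

end Cfsg.Agent.S1631
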