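import Cfsg.Statements.S1691
import Mathlib
-- import your own Cfsg.Agent.* helpers here

set_option autoImplicit false
open Cfsg

namespace Cfsg.Agent.S1691

open Cfsg.Spor

/-- Parity of word length. -/
def par : Fi24 →* Multiplicative (ZMod 2) :=
  PresentedGroup.toGroup (f := fun _ => Multiplicative.ofAdd (1 : ZMod 2)) (by
    intro r hr
    rcases hr with ⟨x, _, y, _, rfl⟩ | hr
    · simp only [map_pow, map_mul, FreeGroup.lift_apply_of]
      rw [show Multiplicative.ofAdd (1 : ZMod 2) * Multiplicative.ofAdd 1 = 1 from rfl, one_pow]
    · simp only [Set.mem_setOf_eq, Fi24.extra, List.mem_cons, List.not_mem_nil, or_false] at hr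
      rcases hr with rfl | rfl <;> simp [map_pow, map_mul, map_inv] <;> decide)

theorem par_of (x : Fi24.Gen) :
    par (PresentedGroup.of x) = Multiplicative.ofAdd (1 : ZMod 2) := by
  simp [par]

theorem mem_nodes : ∀ x : Fi24.Gen, x ∈ coxNodes Fi24.edges := by
  intro x; cases x <;> decide


/-- The commutator subgroup of the presented group Fi₂₄ has index 2 (the presented group is Fi₂₄′:2 with Fi₂₄′ its derived subgroup). -/
theorem result : (commutator Cfsg.Spor.Fi24).index = 2 := by
  classical
  let ψ : Fi24 →* Abelianization Fi24 := Abelianization.of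
  let v : Fi24.Gen → Abelianization Fi24 := fun x => ψ (PresentedGroup.of x)
  have hrel : ∀ x y : Fi24.Gen, (v x * v y) ^ coxLabel Fi24.edges x y = 1 := by
    intro x y
    have h := PresentedGroup.one_of_mem (rels := coxRelators Fi24.edges ∪ {r | r ∈ Fi24.extra})
      (Or.inl ⟨x, mem_nodes x, y, mem_nodes y, rfl⟩)
    rw [map_pow, map_mul] at h
    simp only [v, ← map_mul, ← map_pow]
    exact (congrArg ψ h).trans (map_one ψ)
  have hsq : ∀ x, v x * v x = 1 := fun x => by
    simpa [coxLabel] using hrel x x
  have hedge : ∀ x y, coxLabel Fi24.edges x y = 3 → v x = v y := by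
    intro x y h
    have h3 := hrel x y
    rw [h] at h3
    have h2 : (v x * v y) ^ 2 = 1 := by
      rw [mul_pow, pow_two, pow_two, hsq, hsq, one_mul]
    rw [pow_succ, h2, one_mul] at h3
    calc v x = v x * v y * v y := by rw [mul_assoc, hsq, mul_one]
      _ = v y := by rw [h3, one_mul]
  have ed : v .e = v .d := hedge _ _ (by decide)
  have hd : v .h = v .d := hedge _ _ (by decide)
  have cd : v .c = v .d := hedge _ _ (by decide)
  have bd : v .b = v .d := (hedge _ _ (by decide)).trans cd
  have ad : v .a = v .d := (hedge _ _ (by decide)).trans bd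
  have kd : v .k = v .d := (hedge _ _ (by decide)).trans ad
  have ld : v .l = v .d := (hedge _ _ (by decide)).trans kd
  have fd : v .f = v .d := (hedge _ _ (by decide)).trans ed
  have gd : v .g = v .d := (hedge _ _ (by decide)).trans fd
  have jd : v .j = v .d := (hedge _ _ (by decide)).trans gd
  have id' : v .i = v .d := (hedge _ _ (by decide)).trans hd
  have hall : ∀ x, v x = v .d := by intro x; cases x <;> first | rfl | assumption
  have hpow : ∀ m : ℕ, (v .d) ^ m = (v .d) ^ (m % 2) := fun m => by
    conv_lhs => rw [← Nat.div_add_mod m 2, pow_add, pow_mul, pow_two, hsq, one_pow, one_mul]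
  let χ : Multiplicative (ZMod 2) →* Abelianization Fi24 :=
    { toFun := fun z => (v .d) ^ (Multiplicative.toAdd z).val
      map_one' := by simp
      map_mul' := fun z w => by rw [← pow_add, toAdd_mul, ZMod.val_add]; exact (hpow _).symm }
  have hψ : ψ = χ.comp par := by
    apply PresentedGroup.ext
    intro x
    show v x = (v .d) ^ (Multiplicative.toAdd (par (PresentedGroup.of x))).val
    rw [par_of, hall x]
    exact (pow_one _).symm
  have hker : commutator Fi24 = par.ker := by
    refine le_antisymm (Abelianization.commutator_subset_ker par) fun g hg => ?_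
    rw [← Abelianization.ker_of, MonoidHom.mem_ker]
    show ψ g = 1
    rw [hψ, MonoidHom.comp_apply, MonoidHom.mem_ker.1 hg, map_one]
  have hsurj : Function.Surjective par := by
    intro z
    induction z using Multiplicative.rec with
    | ofAdd a =>
      fin_cases a
      · exact ⟨1, map_one _⟩
      · exact ⟨PresentedGroup.of .d, par_of _⟩
  rw [hker, Subgroup.index_ker, MonoidHom.range_eq_top.2 hsurj, Subgroup.card_top,
    Nat.card_eq_fintype_card]
  rfl

end Cfsg.Agent.S1691
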