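import Cfsg.Statements.S0354
import Cfsg.Agent.Lib.Spor.SteinerGeneral

set_option autoImplicit false
open Cfsg

namespace Cfsg.Agent.S0354

/-- In an S(5, 8, 24), each block is disjoint from exactly 30 blocks. -/
theorem result {α : Type*} [Fintype α] [DecidableEq α] (hα : Fintype.card α = 24) {B : Set (Finset α)} (hB : Cfsg.IsSteinerSystem 5 8 B) {b : Finset α} (hb : b ∈ B) : {c : Finset α | c ∈ B ∧ Disjoint b c}.ncard = 30 := by
    classical
    have hk : ∀ x ∈ B.toFinset, x.card = 8 := fun x hx => hB.1 x (Set.mem_toFinset.1 hx)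
    have hu : ∀ F : Finset α, F.card = 5 → ∃! x, x ∈ B.toFinset ∧ F ⊆ x := fun F hF => by
      simpa only [Set.mem_toFinset] using hB.2 F hF
    obtain ⟨h0, -⟩ := CfsgLib.Spor.Steiner.meet_eight hα hk hu (Set.mem_toFinset.2 hb)
    rw [← h0, CfsgLib.Spor.Steiner.meetNum, ← Set.ncard_coe_finset]
    congr 1
    ext c
    simp only [Finset.coe_filter, Finset.mem_erase, Set.mem_toFinset, Finset.card_eq_zero,
      ← Finset.disjoint_iff_inter_eq_empty]
    constructor
    · rintro ⟨hc, hd⟩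
      refine ⟨⟨?_, hc⟩, hd.symm⟩
      rintro rfl
      have h8 := hB.1 c hc
      rw [Finset.card_eq_zero.2 (disjoint_self.1 hd)] at h8
      omega
    · rintro ⟨⟨-, hc⟩, hd⟩
      exact ⟨hc, hd.symm⟩

end Cfsg.Agent.S0354
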