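import Cfsg.Statements.S5400
import Cfsg.Agent.Lib.Spor.Tri.LevelFour
-- import your own Cfsg.Agent.* helpers here

set_option autoImplicit false
open Cfsg

namespace Cfsg.Agent.S5400

open CfsgLib.Spor.Tri CfsgLib.Spor.Tri.Relations CfsgLib.Spor.Tri.Level

/-- Let G be a finite group with trivial centre generated by a conjugation-invariant set D of 3-transpositions on which it acts primitively, such that for some d in D the subgroup generated by the members of D other than d commuting with d has central largest normal 2- and 3-subgroups, and suppose G with D is of type M(24). Then G has exactly 4 conjugacy classes of involutions: every involution is a product of m distinct pairwise commuting members of D for some m between 1 and 4; for each such m these products form one non-empty conjugacy class; and the value of m is determined by the involution. -/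
theorem result {G : Type*} [Group G] [Finite G] {D : Set G} (hD : Cfsg.IsThreeTranspositionGroup D) (hprim : Cfsg.IsPrimitiveUnderConj D) (d : G) (hd : d ∈ D) (h3 : Cfsg.pCore 3 ↥(Subgroup.closure {y : G | y ∈ D ∧ y ≠ d ∧ Commute d y}) ≤ Subgroup.center ↥(Subgroup.closure {y : G | y ∈ D ∧ y ≠ d ∧ Commute d y})) (h2 : Cfsg.pCore 2 ↥(Subgroup.closure {y : G | y ∈ D ∧ y ≠ d ∧ Commute d y}) ≤ Subgroup.center ↥(Subgroup.closure {y : G | y ∈ D ∧ y ≠ d ∧ Commute d y})) (ht : Cfsg.IsOfTypeM24 G D) : (∀ x : G, orderOf x = 2 → ∃ m : ℕ, 1 ≤ m ∧ m ≤ 4 ∧ (∃ l : List G, l.Nodup ∧ l.length = m ∧ (∀ a ∈ l, a ∈ D) ∧ (∀ a ∈ l, ∀ b ∈ l, Commute a b) ∧ l.prod = x)) ∧ (∀ m : ℕ, 1 ≤ m → m ≤ 4 → (∃ x : G, orderOf x = 2 ∧ (∃ l : List G, l.Nodup ∧ l.length = m ∧ (∀ a ∈ l, a ∈ D) ∧ (∀ a ∈ l, ∀ b ∈ l, Commute a b) ∧ l.prod = x)) ∧ ∀ x y : G, (∃ l : List G, l.Nodup ∧ l.length = m ∧ (∀ a ∈ l, a ∈ D) ∧ (∀ a ∈ l, ∀ b ∈ l, Commute a b) ∧ l.prod = x) → (∃ l : List G, l.Nodup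 ∧ l.length = m ∧ (∀ a ∈ l, a ∈ D) ∧ (∀ a ∈ l, ∀ b ∈ l, Commute a b) ∧ l.prod = y) → IsConj x y) ∧ ∀ (m m' : ℕ) (x : G), 1 ≤ m → m ≤ 4 → 1 ≤ m' → m' ≤ 4 → (∃ l : List G, l.Nodup ∧ l.length = m ∧ (∀ a ∈ l, a ∈ D) ∧ (∀ a ∈ l, ∀ b ∈ l, Commute a b) ∧ l.prod = x) → (∃ l : List G, l.Nodup ∧ l.length = m' ∧ (∀ a ∈ l, a ∈ D) ∧ (∀ a ∈ l, ∀ b ∈ l, Commute a b) ∧ l.prod = x) → m = m' := by
  classical
  have h := hyp_of_prim hD hprim
  have hP := pre_of_hyp h
  have hnz : ∀ a ∈ D, a ∈ nz D := fun a ha => ⟨ha, h.ne_one ha⟩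
  obtain ⟨e, W⟩ := local24 h hprim ht
  have hN := W.good.norel
  obtain ⟨t1, t2, t3, t4⟩ := tuples24 h W
  refine ⟨fun x hx => ?_, fun n hn1 hn4 => ⟨?_, ?_⟩, ?_⟩
  · obtain ⟨l, htl, e1, e4, hp⟩ := decomp24 h hprim ht x
      (by rw [← pow_two, ← hx]; exact pow_orderOf_eq_one x)
      (fun r => by rw [r, orderOf_one] at hx; norm_num at hx)
    exact ⟨l.length, e1, e4, l, htl.1, rfl, fun a ha => (htl.2.1 a ha).1, htl.2.2, hp⟩
  · obtain ⟨q₀, hq₀, hT⟩ := exists_four h W
    set q := q₀.take n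
    have hqm : ∀ y ∈ q, y ∈ q₀ := fun y hy => List.mem_of_mem_take hy
    have hqn : q.length = n := by rw [List.length_take]; omega
    have hq : Tuple D q := ⟨hT.1.sublist (List.take_sublist _ _), fun y hy => hT.2.1 y (hqm y hy),
      fun y hy z hz => hT.2.2 y (hqm y hy) z (hqm z hz)⟩
    refine ⟨q.prod, orderOf_eq_prime ?_ ?_, q, hq.1, hqn, fun y hy => (hq.2.1 y hy).1, hq.2.2, rfl⟩
    · rw [pow_two]; exact prod_mul_self q (fun y hy => h.mul_self (hq.2.1 y hy).1) hq.2.2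
    · exact hN q (fun r => by rw [r, List.length_nil] at hqn; omega) hq.1 (by omega)
        (fun y hy => hq.2.1 y hy) hq.2.2
  · rintro x y ⟨p, p1, p2, p3, p4, rfl⟩ ⟨q, q1, q2, q3, q4, rfl⟩
    have htn : TupTrans n D := by
      rcases (by omega : n = 1 ∨ n = 2 ∨ n = 3 ∨ n = 4) with rfl | rfl | rfl | rfl <;> assumption
    obtain ⟨g, hg⟩ := htn p q p2 q2 ⟨p1, fun a ha => hnz a (p3 a ha), p4⟩ ⟨q1, fun a ha => hnz a (q3 a ha), q4⟩
    exact isConj_iff.2 ⟨g, by rw [← hg]; exact map_list_prod (MulAut.conj g).toMonoidHom p⟩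
  · suffices main : ∀ p q : List G, Tuple D p → Tuple D q → p.length < q.length → q.length ≤ 4 → p.prod ≠ q.prod by
      rintro n n' x - hn - hn' ⟨p, p1, p2, p3, p4, rfl⟩ ⟨q, q1, q2, q3, q4, hpq⟩
      rcases lt_trichotomy n n' with r | r | r
      · exact absurd hpq.symm (main p q ⟨p1, fun a ha => hnz a (p3 a ha), p4⟩ ⟨q1, fun a ha => hnz a (q3 a ha), q4⟩
          (by omega) (by omega))
      · exact r
      · exact absurd hpq (main q p ⟨q1, fun a ha => hnz a (q3 a ha), q4⟩ ⟨p1, fun a ha => hnz a (p3 a ha), p4⟩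
          (by omega) (by omega))
    intro p q hp hq hlt hq4 hpq
    have hcross : ∀ u ∈ q, ∀ w ∈ p, Commute u w := fun u hu => InvolFixed.commute_members h (hq.2.1 u hu).1 hp
      (by omega) (hpq ▸ Commute.list_prod_right _ _ fun z hz => hq.2.2 u hu z hz)
    have heq := eq_of_prod_eq hP hN p q hp.1 hq.1
      (fun a ha => (List.mem_append.1 ha).elim (hp.2.1 a) (hq.2.1 a)) (fun a ha b hb => by
        rcases List.mem_append.1 ha with ha | ha <;> rcases List.mem_append.1 hb with hb | hb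
        · exact hp.2.2 a ha b hb
        · exact (hcross b hb a ha).symm
        · exact hcross a ha b hb
        · exact hq.2.2 a ha b hb) hpq (by
        have a1 := List.length_filter_le (fun a => decide (a ∉ q)) p
        have a2 := List.length_filter_le (fun a => decide (a ∉ p)) q
        omega)
    have := ((List.perm_ext_iff_of_nodup hp.1 hq.1).2 heq).length_eq
    omega

end Cfsg.Agent.S5400
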