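import Cfsg.Statements.S0505
import Cfsg.Agent.Lib.Invol.CharTwo


set_option autoImplicit false
open Cfsg

namespace Cfsg.Agent.S0505

open CfsgLib.Invol CfsgLib.Coprime

/-- Let G be a finite group of even order in which the centralizer of every involution is solvable and has trivial
core (no nontrivial normal subgroup of odd order). Then G is of characteristic 2 type. -/
theorem result {G : Type*} [Group G] [Finite G]
    (h2 : Even (Nat.card G))
    (hs : ∀ t : G, orderOf t = 2 → Group.IsSolvable (Subgroup.centralizer ({t} : Set G)))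
    (hc : ∀ t : G, orderOf t = 2 → Cfsg.oddCore (Subgroup.centralizer ({t} : Set G)) = ⊥) :
    Cfsg.IsCharacteristicTwoType G := by
  haveI : Fact (Nat.Prime 2) := ⟨Nat.prime_two⟩
  refine ⟨h2, fun T hT hTne => ?_⟩
  set N := Subgroup.normalizer (T : Set G) with hN
  haveI := pCore_normal' (G := N) 2
  set R := Cfsg.pCore 2 N with hR
  set R' := R.map N.subtype with hR'
  have hRp : IsPGroup 2 R' := (pCore_isPGroup 2).map _
  have hTR : T ≤ R' := fun x hx => by
    haveI : (T.subgroupOf N).Normal := Subgroup.normal_in_normalizer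
    exact ⟨⟨x, Subgroup.le_normalizer hx⟩,
      le_pCore (N := T.subgroupOf N) hT.comap_subtype (show x ∈ T from hx), rfl⟩
  obtain ⟨t, htT, ht, hRt⟩ := exists_fixed_of_normalized hRp hT hTne (Subgroup.map_subtype_le R)
  set L := Subgroup.centralizer ({t} : Set G) with hL
  haveI := hs t ht
  set C := Subgroup.centralizer (R : Set N) with hC
  haveI : C.Normal := Subgroup.normal_centralizer
  -- C lies in the centralizer of t
  have hCL : C.map N.subtype ≤ L := by
    rintro _ ⟨c, hc, rfl⟩
    obtain ⟨s, hs1, hs2⟩ := hTR htT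
    refine Subgroup.mem_centralizer_singleton_iff.2 ?_
    rw [← hs2]
    exact (congrArg Subtype.val (Subgroup.mem_centralizer_iff.1 hc s hs1)).symm
  haveI : Group.IsSolvable C := by
    have hsol : Group.IsSolvable (C.map N.subtype) :=
      Group.isSolvable_of_isSolvable_injective (Subgroup.inclusion_injective hCL)
    exact Group.isSolvable_of_isSolvable_injective (G' := C.map N.subtype)
      (f := (C.equivMapOfInjective N.subtype N.subtype_injective).toMonoidHom) (MulEquiv.injective _)
  -- the odd core of C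
  set D := (Cfsg.pPrimeCore 2 C).map C.subtype with hD
  set D' := D.map N.subtype with hD'
  have hDe : D = Cfsg.pPrimeCore 2 N ⊓ C := pPrimeCore_map_subtype_eq Nat.prime_two C
  haveI : D.Normal := by
    haveI := pPrimeCore_characteristic (G := C) 2
    exact map_subtype_normal_of_characteristic C (Cfsg.pPrimeCore 2 C)
  have hDc : (Nat.card D').Coprime 2 := by
    rw [hD', Subgroup.card_map_of_injective N.subtype_injective, hD,
      Subgroup.card_map_of_injective C.subtype_injective]
    exact pPrimeCore_coprime Nat.prime_two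
  haveI := pCore_normal' (G := L) 2
  set U := Cfsg.pCore 2 L with hU
  set U' := U.map L.subtype with hU'
  have hUn : L ≤ Subgroup.normalizer (U' : Set G) := by
    intro g hg
    refine Subgroup.mem_normalizer_iff.2 fun x => ⟨?_, ?_⟩
    · rintro ⟨u, hu, rfl⟩
      exact ⟨⟨g, hg⟩ * u * ⟨g, hg⟩⁻¹, (inferInstance : U.Normal).conj_mem u hu _, rfl⟩
    · rintro ⟨u, hu, hu'⟩
      refine ⟨⟨g, hg⟩⁻¹ * u * ⟨g, hg⟩, by simpa using (inferInstance : U.Normal).conj_mem u hu ⟨g, hg⟩⁻¹, ?_⟩
      have h : (u : G) = g * x * g⁻¹ := hu'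
      show g⁻¹ * (u : G) * g = x
      rw [h]; group
  have hUp : IsPGroup 2 U' := (pCore_isPGroup 2).map _
  have hDL : D' ≤ L := (Subgroup.map_mono (hDe.le.trans inf_le_right)).trans hCL
  have hRD : R' ≤ Subgroup.centralizer (D' : Set G) := by
    rintro _ ⟨r, hr, rfl⟩
    refine Subgroup.mem_centralizer_iff.2 ?_
    rintro _ ⟨d, hd, rfl⟩
    exact (congrArg Subtype.val
      (Subgroup.mem_centralizer_iff.1 ((hDe.le hd).2) r hr)).symm
  have hdisj : ∀ y, y ∈ U' → y ∈ D' → y = 1 := fun y hyU hyD => by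
    obtain ⟨k, hk⟩ := hUp.exists_card_eq
    exact orderOf_eq_one_iff.1 (Nat.eq_one_of_dvd_coprimes (hDc.pow_right k)
      (Subgroup.orderOf_dvd_natCard D' hyD) (hk ▸ Subgroup.orderOf_dvd_natCard U' hyU))
  have hcc : U' ⊓ Subgroup.centralizer (R' : Set G) ≤ Subgroup.centralizer (D' : Set G) := by
    rintro u ⟨hu, huR⟩
    have huN : u ∈ N := Subgroup.centralizer_le_normalizer (T : Set G)
      (Subgroup.centralizer_le hTR huR)
    refine Subgroup.mem_centralizer_iff.2 ?_
    rintro _ ⟨d, hd, rfl⟩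
    have h1 : u * d * u⁻¹ * (d : G)⁻¹ ∈ D' := by
      refine mul_mem ?_ (inv_mem (Subgroup.mem_map_of_mem _ hd))
      exact ⟨⟨u, huN⟩ * d * ⟨u, huN⟩⁻¹, (inferInstance : D.Normal).conj_mem d hd _, rfl⟩
    have h2' : u * d * u⁻¹ * (d : G)⁻¹ ∈ U' := by
      have h3 := Subgroup.mem_normalizer_iff.1 (hUn (hDL (Subgroup.mem_map_of_mem _ hd))) u⁻¹
      have := mul_mem hu (h3.1 (inv_mem hu))
      simpa [mul_assoc] using this
    have h4 := hdisj _ h2' h1
    show (d : G) * u = u * d
    rw [mul_inv_eq_one, mul_inv_eq_iff_eq_mul] at h4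
    exact h4.symm
  have hDU : D' ≤ Subgroup.centralizer (U' : Set G) :=
    pq_lemma hRp hDc hUp hRD (hRt.trans hUn) (hDL.trans hUn) hcc
  have hD0 : D' = ⊥ := by
    refine (Subgroup.eq_bot_iff_forall _).2 fun d hd => hdisj d ?_ hd
    refine ⟨⟨d, hDL hd⟩, centralizer_pCore_le_of_solvable (p := 2) (hc t ht)
      (Subgroup.mem_centralizer_iff.2 fun u hu => Subtype.ext ?_), rfl⟩
    exact Subgroup.mem_centralizer_iff.1 (hDU hd) u (Subgroup.mem_map_of_mem _ hu)
  have hO : Cfsg.pPrimeCore 2 C = ⊥ := by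
    rw [hD', Subgroup.map_eq_bot_iff_of_injective _ N.subtype_injective, hD,
      Subgroup.map_eq_bot_iff_of_injective _ C.subtype_injective] at hD0
    exact hD0
  have hCR : (Cfsg.pCore 2 C).map C.subtype ≤ R := by
    rw [pCore_map_subtype_eq 2 C]; exact inf_le_left
  intro c hc
  have hcc' : (⟨c, hc⟩ : C) ∈ Cfsg.pCore 2 C :=
    centralizer_pCore_le_of_solvable (p := 2) hO (Subgroup.mem_centralizer_iff.2 fun u hu =>
      Subtype.ext (Subgroup.mem_centralizer_iff.1 hc u (hCR (Subgroup.mem_map_of_mem _ hu))))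
  exact hCR (Subgroup.mem_map_of_mem C.subtype hcc')

end Cfsg.Agent.S0505
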