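import Cfsg.Statements.S0001
import Cfsg.Agent.Lib.Coprime.SchurZassenhaus

set_option autoImplicit false
open Pointwise
open Cfsg

namespace Cfsg.Agent.S0001

/-- Conjugacy half of the Schur–Zassenhaus Theorem, under a solvability assumption on the normal Hall subgroup or on its quotient. -/
theorem result {G : Type*} [Group G] [Finite G] (N : Subgroup G) [N.Normal]
    (hN : (Nat.card N).Coprime N.index) (hsolv : Group.IsSolvable N ∨ Group.IsSolvable (G ⧸ N))
    (H K : Subgroup G) (hH : Subgroup.IsComplement' N H) (hK : Subgroup.IsComplement' N K) :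
    ∃ g : G, MulAut.conj g • H = K := by
  open CfsgLib.Coprime in
  have hc : ∀ {L : Subgroup G}, Subgroup.IsComplement' N L → Nat.card L = N.index := fun {L} hL =>
    hL.symm.index_eq_card.symm
  have hs : Group.IsSolvable N ∨ Group.IsSolvable K := by
    rcases hsolv with h | h
    · exact Or.inl h
    · refine Or.inr (Group.isSolvable_of_isSolvable_injective
        (f := (QuotientGroup.mk' N).comp K.subtype) ?_)
      rw [injective_iff_map_eq_one]
      intro k hk
      have hkN : (k : G) ∈ N := (QuotientGroup.eq_one_iff _).1 hk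
      exact Subtype.ext (Subgroup.disjoint_def.1 hK.disjoint hkN k.2)
  obtain ⟨g, -, hg⟩ := sz_conj hN (hc hH) (hc hK) hs
  exact ⟨g, hg⟩

end Cfsg.Agent.S0001
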