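import Cfsg.Statements.S0007
-- import your own Cfsg.Agent.* helpers here

set_option autoImplicit false
open Cfsg

namespace Cfsg.Agent.S0007

/-- Subgroups of coprime index: the intersection has index equal to the product of the indices, and every element is a product of an element of the first subgroup and an element of the second. -/
theorem result {G : Type*} [Group G] [Finite G] (H K : Subgroup G)
    (h : H.index.Coprime K.index) :
    (H ⊓ K).index = H.index * K.index ∧ ∀ g : G, ∃ x ∈ H, ∃ y ∈ K, g = x * y := by
  have hHK := Subgroup.index_inf_le (H := H) (K := K)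
  have hd : H.index * K.index ∣ (H ⊓ K).index :=
    h.mul_dvd_of_dvd_of_dvd (Subgroup.index_dvd_of_le inf_le_left) (Subgroup.index_dvd_of_le inf_le_right)
  have hne : (H ⊓ K).index ≠ 0 := Subgroup.index_ne_zero_of_finite
  have heq : (H ⊓ K).index = H.index * K.index :=
    le_antisymm hHK (Nat.le_of_dvd (Nat.pos_of_ne_zero hne) hd)
  refine ⟨heq, fun g => ?_⟩
  have hr : H.relIndex K = H.index := by
    have := Subgroup.relIndex_mul_index (inf_le_right : H ⊓ K ≤ K)
    rw [heq, Subgroup.inf_relIndex_right] at this
    exact Nat.eq_of_mul_eq_mul_right (Nat.pos_of_ne_zero Subgroup.index_ne_zero_of_finite) this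
  let f : K ⧸ H.subgroupOf K → G ⧸ H := fun q => Quotient.liftOn' q (fun k => ((k : G) : G ⧸ H))
    (fun a b hab => by
      rw [QuotientGroup.leftRel_apply] at hab
      exact QuotientGroup.eq.2 (by simpa [Subgroup.mem_subgroupOf] using hab))
  have finj : Function.Injective f := fun a b => Quotient.inductionOn₂' a b fun x y hxy => by
    exact QuotientGroup.eq.2 (by simpa [Subgroup.mem_subgroupOf] using QuotientGroup.eq.1 hxy)
  have fbij := (Nat.bijective_iff_injective_and_card f).2 ⟨finj, hr⟩
  obtain ⟨q, hq⟩ := fbij.2 ((g⁻¹ : G) : G ⧸ H)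
  induction q using Quotient.inductionOn' with
  | h k =>
    have := QuotientGroup.eq.1 (hq : ((k : G) : G ⧸ H) = _)
    exact ⟨g * k, by simpa using H.inv_mem this, (k : G)⁻¹, K.inv_mem k.2, by simp⟩

end Cfsg.Agent.S0007
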