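import Cfsg.Statements.S0010
import Cfsg.Agent.Lib.Coprime.Core

set_option autoImplicit false
open Cfsg

namespace Cfsg.Agent.S0010

/-- The largest normal p-subgroup of a finite group is the intersection of all its Sylow p-subgroups. -/
theorem result {G : Type*} [Group G] [Finite G] (p : ℕ) [Fact p.Prime] :
    Cfsg.pCore p G = ⨅ P : Sylow p G, (P : Subgroup G) := by
  refine le_antisymm (le_iInf fun P => ?_) ?_
  · haveI := CfsgLib.Coprime.pCore_normal' (G := G) p
    exact le_sup_left.trans (P.is_maximal'
      ((CfsgLib.Coprime.pCore_isPGroup p).to_sup_of_normal_left P.2) le_sup_right).le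
  · haveI : (⨅ P : Sylow p G, (P : Subgroup G)).Normal := by
      constructor
      intro x hx g
      rw [Subgroup.mem_iInf] at hx ⊢
      intro P
      have h := hx (g⁻¹ • P)
      rw [Sylow.coe_subgroup_smul, Subgroup.mem_pointwise_smul_iff_inv_smul_mem] at h
      simpa [MulAut.smul_def, MulAut.conj_apply, mul_assoc] using h
    obtain ⟨P⟩ := (inferInstance : Nonempty (Sylow p G))
    exact CfsgLib.Coprime.le_pCore (P.2.to_le (iInf_le _ P))

end Cfsg.Agent.S0010
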