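import Cfsg.Statements.S0012
import Mathlib.GroupTheory.Frattini
import Mathlib.GroupTheory.Nilpotent
import Mathlib.GroupTheory.SpecificGroups.Cyclic

set_option autoImplicit false
open Cfsg
open scoped commutatorElement

namespace Cfsg.Agent.S0012

/-- In a finite p-group every commutator and every p-th power lies in the Frattini subgroup, so the Frattini quotient is elementary abelian. -/
theorem result {G : Type*} [Group G] [Finite G] (p : ℕ) [Fact p.Prime]
    (hG : IsPGroup p G) : commutator G ≤ frattini G ∧ ∀ x : G, x ^ p ∈ frattini G := by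
  open Subgroup in
  haveI := hG.isNilpotent
  have key : ∀ M : Subgroup G, IsCoatom M → commutator G ≤ M ∧ ∀ x : G, x ^ p ∈ M := by
    intro M hM
    haveI : M.Normal := NormalizerCondition.normal_of_coatom M Group.normalizerCondition_of_isNilpotent hM
    have hp : IsPGroup p (G ⧸ M) := hG.to_quotient M
    have hnt : Nontrivial (G ⧸ M) := QuotientGroup.nontrivial_iff.2 hM.1
    obtain ⟨n, hn⟩ := IsPGroup.iff_card.1 hp
    have h1 : Nat.card (G ⧸ M) = p := by
      rcases Nat.eq_zero_or_pos n with h0 | h0
      · exact absurd (Finite.one_lt_card (α := G ⧸ M)) (by rw [hn, h0, pow_zero]; exact lt_irrefl 1)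
      obtain ⟨x, hx⟩ := exists_prime_orderOf_dvd_card' (G := G ⧸ M) p (hn ▸ dvd_pow_self p h0.ne')
      have htop : (zpowers x).comap (QuotientGroup.mk' M) = ⊤ := by
        refine hM.2 _ (lt_of_le_of_ne (fun m hm => ?_) fun e => ?_)
        · rw [mem_comap, show QuotientGroup.mk' M m = 1 from (QuotientGroup.eq_one_iff m).2 hm]
          exact one_mem _
        · obtain ⟨g, rfl⟩ := QuotientGroup.mk'_surjective M x
          have hg : g ∈ M := e.ge (mem_comap.2 (mem_zpowers _))
          rw [show QuotientGroup.mk' M g = 1 from (QuotientGroup.eq_one_iff g).2 hg, orderOf_one] at hx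
          exact (Fact.out : p.Prime).ne_one hx.symm
      have := congrArg (Subgroup.map (QuotientGroup.mk' M)) htop
      rw [map_comap_eq_self_of_surjective (QuotientGroup.mk'_surjective M),
        map_top_of_surjective _ (QuotientGroup.mk'_surjective M)] at this
      rw [← card_top (G := G ⧸ M), ← this, Nat.card_zpowers, hx]
    refine ⟨?_, fun x => ?_⟩
    · haveI := isCyclic_of_prime_card h1
      rw [commutator_def, commutator_le]
      intro a _ b _
      rw [← QuotientGroup.eq_one_iff, ← QuotientGroup.mk'_apply, map_commutatorElement,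
        commutatorElement_eq_one_iff_mul_comm]
      exact IsCyclic.commGroup.mul_comm _ _
    · rw [← QuotientGroup.eq_one_iff, QuotientGroup.mk_pow]
      exact h1 ▸ pow_card_eq_one'
  have hle : ∀ x : G, (∀ M : Subgroup G, IsCoatom M → x ∈ M) → x ∈ frattini G := fun x hx => by
    rw [frattini, Order.radical, mem_iInf]
    exact fun M => mem_iInf.2 fun hM => hx M hM
  exact ⟨fun x hx => hle x fun M hM => (key M hM).1 hx,
    fun x => hle _ fun M hM => (key M hM).2 x⟩

end Cfsg.Agent.S0012
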