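import Cfsg.Statements.S0013
import Mathlib.GroupTheory.Frattini
import Mathlib.RingTheory.Coprime.Lemmas
import Mathlib.Data.Nat.Prime.Int
import Mathlib.RingTheory.PrincipalIdealDomain
import Mathlib.RingTheory.Int.Basic

set_option autoImplicit false
open Cfsg
open scoped commutatorElement

namespace Cfsg.Agent.S0013

/-- In a finite p-group the Frattini subgroup is the smallest normal subgroup with elementary abelian quotient: it lies below any normal subgroup containing all commutators and all p-th powers. -/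
theorem result {G : Type*} [Group G] [Finite G] (p : ℕ) [Fact p.Prime]
    (hG : IsPGroup p G) (N : Subgroup G) [N.Normal] (hcomm : commutator G ≤ N) (hpow : ∀ x : G, x ^ p ∈ N) :
    frattini G ≤ N := by
  open Subgroup in
  by_contra hnot
  obtain ⟨x, hxΦ, hxN⟩ := SetLike.not_le_iff_exists.1 hnot
  obtain ⟨M, ⟨hNM, hxM⟩, hmax⟩ := exists_maximal_of_wellFoundedGT
    (fun M : Subgroup G => N ≤ M ∧ x ∉ M) ⟨N, le_rfl, hxN⟩
  have hM : IsCoatom M := by
    refine ⟨fun e => hxM (e ▸ mem_top x), fun K hK => ?_⟩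
    have hxK : x ∈ K := by
      by_contra h
      exact hK.not_ge (hmax ⟨hNM.trans hK.le, h⟩ hK.le)
    rw [eq_top_iff]
    intro g _
    by_contra hg
    have hgM : g ∉ M := fun h => hg (hK.le h)
    set K' := M ⊔ zpowers g with hK'
    haveI : M.Normal := Subgroup.Normal.mk fun m hm y => by
      have h1 : ⁅y, m⁆ ∈ M := hNM (hcomm (commutator_mem_commutator (mem_top y) (mem_top m)))
      have h2 := mul_mem h1 hm
      rwa [commutatorElement_def, inv_mul_cancel_right] at h2
    have hxK' : x ∈ K' := by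
      by_contra h
      exact hgM (hmax ⟨hNM.trans le_sup_left, h⟩ le_sup_left (mem_sup_right (mem_zpowers g)))
    have hx' : x ∈ ((M ⊔ zpowers g : Subgroup G) : Set G) := hxK'
    rw [normal_mul] at hx'
    obtain ⟨m, hm, _, ⟨j, rfl⟩, hj⟩ := hx'
    -- `g ^ j` lies in `K` but not in `M`, so `g` does too as `g ^ p ∈ M`
    have hjK : g ^ j ∈ K := by
      have := mul_mem (inv_mem (hK.le hm)) hxK
      rwa [← hj, inv_mul_cancel_left] at this
    have hjp : ¬ (p : ℤ) ∣ j := fun ⟨t, ht⟩ => hxM (by
      rw [← hj, ht]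
      show m * g ^ ((p : ℤ) * t) ∈ M
      rw [zpow_mul, zpow_natCast]
      exact mul_mem hm (zpow_mem (hNM (hpow g)) t))
    obtain ⟨a, b, hab⟩ : IsCoprime (p : ℤ) j :=
      (Nat.prime_iff_prime_int.1 Fact.out).coprime_iff_not_dvd.2 hjp
    apply hg
    rw [← zpow_one g, ← hab, zpow_add, mul_comm a, zpow_mul, zpow_mul', zpow_natCast]
    exact mul_mem (zpow_mem (hK.le (hNM (hpow g))) a) (zpow_mem hjK b)
  exact hxM (frattini_le_coatom hM hxΦ)

end Cfsg.Agent.S0013
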