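import Cfsg.Statements.S0014
import Cfsg.Agent.Lib.Coprime.PGroupFrattini

set_option autoImplicit false
open Cfsg

namespace Cfsg.Agent.S0014

/-- Burnside's basis Theorem: in a finite p-group whose Frattini quotient has order p ^ n, every generating set contains n elements that already generate, and no set with fewer than n elements generates. -/
theorem result {G : Type*} [Group G] [Finite G] (p n : ℕ) [Fact p.Prime]
    (hG : IsPGroup p G) (hn : (frattini G).index = p ^ n) :
    (∀ S : Finset G, Subgroup.closure (S : Set G) = ⊤ → ∃ T : Finset G, T ⊆ S ∧ T.card = n ∧ Subgroup.closure (T : Set G) = ⊤) ∧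
    (∀ T : Finset G, Subgroup.closure (T : Set G) = ⊤ → n ≤ T.card) := by
  classical
  have key : ∀ T : Finset G, Subgroup.closure (T : Set G) = ⊤ → ∃ T' : Finset G, T' ⊆ T ∧
      T'.card = n ∧ Subgroup.closure (T' : Set G) = ⊤ := by
    intro T hT
    obtain ⟨T', hsub, he, hc⟩ := CfsgLib.Coprime.card_closure_sup_frattini hG T
    rw [hT, top_sup_eq] at he hc
    refine ⟨T', hsub, ?_, frattini_nongenerating he⟩
    rw [Subgroup.card_top, ← (frattini G).card_mul_index, hn, mul_comm] at hc
    exact (Nat.pow_right_injective (Fact.out : p.Prime).two_le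
      (Nat.eq_of_mul_eq_mul_right Nat.card_pos hc)).symm
  refine ⟨key, fun T hT => ?_⟩
  obtain ⟨T', h1, h2, -⟩ := key T hT
  exact h2 ▸ Finset.card_le_card h1

end Cfsg.Agent.S0014
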