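import Cfsg.Statements.S0015
import Cfsg.Agent.Lib.Coprime.Solvable

set_option autoImplicit false
open Cfsg

namespace Cfsg.Agent.S0015

/-- In a finite nilpotent group, an abelian normal subgroup that is maximal among abelian normal subgroups equals its own centralizer. -/
theorem result {G : Type*} [Group G] [Finite G] [Group.IsNilpotent G]
    (N : Subgroup G) [N.Normal] [IsMulCommutative N]
    (hmax : ∀ M : Subgroup G, M.Normal → IsMulCommutative M → N ≤ M → M = N) :
    Subgroup.centralizer (N : Set G) = N := by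
  open Subgroup in
  set C := centralizer (N : Set G) with hC
  have hNC : N ≤ C := fun x hx => mem_centralizer_iff.2 fun y hy =>
    congrArg Subtype.val (mul_comm' (⟨y, hy⟩ : N) ⟨x, hx⟩)
  refine le_antisymm ?_ hNC
  by_contra hnot
  set π := QuotientGroup.mk' N
  haveI : (C.map π).Normal := Normal.map inferInstance π (QuotientGroup.mk'_surjective N)
  haveI : Group.IsNilpotent (G ⧸ N) :=
    Group.nilpotent_of_surjective π (QuotientGroup.mk'_surjective N)
  have hne : C.map π ≠ ⊥ := fun e => hnot (by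
    rwa [Subgroup.map_eq_bot_iff, QuotientGroup.ker_mk'] at e)
  -- a central element of the quotient inside the image of `C`
  obtain ⟨z, hz, hz1⟩ : ∃ z ∈ C.map π ⊓ center (G ⧸ N), z ≠ 1 := by
    by_contra! h
    refine CfsgLib.Coprime.nilpotent_inf_center_ne_bot (C.map π) hne ?_
    exact (eq_bot_iff_forall _).2 h
  obtain ⟨c, hc, rfl⟩ := hz.1
  set M := (zpowers (π c)).comap π with hM
  haveI : (zpowers (π c)).Normal := ⟨fun y hy g => by
    have hyc : y ∈ center (G ⧸ N) := (zpowers_le.2 hz.2) hy
    rwa [mem_center_iff.1 hyc g, mul_inv_cancel_right]⟩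
  have hMn : M.Normal := inferInstance
  have hNM : N ≤ M := fun x hx => by
    rw [hM, mem_comap, show π x = 1 from (QuotientGroup.eq_one_iff x).2 hx]
    exact one_mem _
  have hMel : ∀ x ∈ M, ∃ (n : G) (j : ℤ), n ∈ N ∧ x = c ^ j * n := by
    rintro x ⟨j, hj⟩
    exact ⟨(c ^ j)⁻¹ * x, j, QuotientGroup.eq.1 ((QuotientGroup.mk_zpow N c j).trans hj),
      (mul_inv_cancel_left _ _).symm⟩
  have hMc : IsMulCommutative M := by
    refine ⟨⟨fun a b => Subtype.ext ?_⟩⟩
    obtain ⟨n, j, hn, ha⟩ := hMel a a.2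
    obtain ⟨m, i, hm, hb⟩ := hMel b b.2
    show (a : G) * b = b * a
    rw [ha, hb]
    have hcn : ∀ k ∈ N, ∀ e : ℤ, Commute (c ^ e) k := fun k hk e =>
      ((show Commute k c from mem_centralizer_iff.1 hc k hk).zpow_right e).symm
    have hnm : Commute n m := congrArg Subtype.val (mul_comm' (⟨n, hn⟩ : N) ⟨m, hm⟩)
    exact (Commute.mul_left
      (Commute.mul_right ((Commute.refl c).zpow_zpow j i) (hcn m hm j))
      (Commute.mul_right (hcn n hn i).symm hnm)).eq
  have := hmax M hMn hMc hNM
  exact hz1 ((QuotientGroup.eq_one_iff c).2 (this.le (mem_comap.2 (mem_zpowers (π c)))))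

end Cfsg.Agent.S0015
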