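import Cfsg.Statements.S0020
import Cfsg.Agent.Lib.Coprime.Hall
import Cfsg.Agent.Lib.Coprime.Permutable

set_option autoImplicit false
open Pointwise
open Cfsg

namespace Cfsg.Agent.S0020

/-- A finite solvable group admits a Sylow system: Sylow subgroups, one for each prime, that pairwise permute as sets. -/
theorem result {G : Type*} [Group G] [Finite G] [Group.IsSolvable G] :
    ∃ S : (p : Nat.Primes) → Sylow (p : ℕ) G,
      ∀ p q : Nat.Primes, (S p : Set G) * (S q : Set G) = (S q : Set G) * (S p : Set G) := by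
  classical
  have hexH : ∀ p : ℕ, ∃ H : Subgroup G, H.index = p ^ (Nat.card G).factorization p := by
    intro p
    by_cases hp : p.Prime
    swap
    · exact ⟨⊤, by rw [Nat.factorization_eq_zero_of_not_prime _ hp, pow_zero, Subgroup.index_top]⟩
    obtain ⟨H, hH⟩ := CfsgLib.Coprime.exists_hall (G := G)
      (m := Nat.card G / p ^ (Nat.card G).factorization p) (n := p ^ (Nat.card G).factorization p)
      (Nat.div_mul_cancel (Nat.ordProj_dvd _ p)).symm
      (Nat.Coprime.pow_right _ (Nat.coprime_ordCompl hp Nat.card_pos.ne').symm)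
    refine ⟨H, Nat.eq_of_mul_eq_mul_left (Nat.card_pos (α := H)) ?_⟩
    rw [Subgroup.card_mul_index, hH]
    exact (Nat.div_mul_cancel (Nat.ordProj_dvd _ p)).symm
  choose H hH using hexH
  have hidx : ∀ s : Finset ℕ, (∀ q ∈ s, q.Prime) →
      (s.inf H).index = ∏ q ∈ s, q ^ (Nat.card G).factorization q := by
    intro s hs
    induction s using Finset.induction_on with
    | empty => simp
    | insert q s hqs ih =>
      have ih := ih fun r hr => hs r (Finset.mem_insert_of_mem hr)
      have hc : (H q).index.Coprime (s.inf H).index := by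
        rw [hH, ih]
        refine Nat.Coprime.prod_right fun r hr => Nat.Coprime.pow _ _ ?_
        exact (Nat.coprime_primes (hs q (Finset.mem_insert_self _ _))
          (hs r (Finset.mem_insert_of_mem hr))).2 fun e => hqs (e ▸ hr)
      rw [Finset.inf_insert, Finset.prod_insert hqs, ← hH, ← ih]
      refine Nat.dvd_antisymm ?_ (hc.mul_dvd_of_dvd_of_dvd (Subgroup.index_dvd_of_le inf_le_left)
        (Subgroup.index_dvd_of_le inf_le_right))
      have h1 := Subgroup.relIndex_mul_index (inf_le_right : H q ⊓ s.inf H ≤ s.inf H)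
      rw [Subgroup.inf_relIndex_right] at h1
      rw [← h1]
      refine mul_dvd_mul_right ?_ _
      have h2 : (H q ⊓ s.inf H).index ≤ (H q).index * (s.inf H).index := Subgroup.index_inf_le
      have h3 := hc.mul_dvd_of_dvd_of_dvd (Subgroup.index_dvd_of_le (inf_le_left : H q ⊓ s.inf H ≤ _))
        (Subgroup.index_dvd_of_le (inf_le_right : H q ⊓ s.inf H ≤ _))
      have h4 := le_antisymm h2 (Nat.le_of_dvd (Nat.pos_of_ne_zero Subgroup.index_ne_zero_of_finite) h3)
      rw [← h1] at h4
      rw [Nat.eq_of_mul_eq_mul_right (Nat.pos_of_ne_zero Subgroup.index_ne_zero_of_finite) h4]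
  set P := (Nat.card G).primeFactors with hP
  have hfac := Nat.prod_factorization_pow_eq_self (n := Nat.card G) Nat.card_pos.ne'
  rw [Finsupp.prod, Nat.support_factorization] at hfac
  have hcard : ∀ u : Finset ℕ, u ⊆ P → Nat.card ((P \ u).inf H : Subgroup G) =
      ∏ q ∈ u, q ^ (Nat.card G).factorization q := by
    intro u hu
    refine Nat.eq_of_mul_eq_mul_right (Nat.pos_of_ne_zero (Subgroup.index_ne_zero_of_finite
      (H := ((P \ u).inf H : Subgroup G)))) ?_
    rw [Subgroup.card_mul_index, hidx _ (fun q hq => Nat.prime_of_mem_primeFactors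
      (Finset.mem_sdiff.1 hq).1), mul_comm, Finset.prod_sdiff hu]
    exact hfac.symm
  have hS : ∀ p : Nat.Primes, Nat.card ((P.erase p).inf H : Subgroup G) =
      (p : ℕ) ^ (Nat.card G).factorization p := by
    intro p
    by_cases hmem : (p : ℕ) ∈ P
    · rw [Finset.erase_eq, hcard _ (Finset.singleton_subset_iff.2 hmem), Finset.prod_singleton]
    · rw [Finset.erase_eq_of_notMem hmem, Finsupp.notMem_support_iff.1
        (by rwa [Nat.support_factorization]), pow_zero]
      have := hcard ∅ (Finset.empty_subset _)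
      rwa [Finset.sdiff_empty, Finset.prod_empty] at this
  let S : (p : Nat.Primes) → Sylow (p : ℕ) G := fun p =>
    haveI := Fact.mk p.2
    Sylow.ofCard ((P.erase (p : ℕ)).inf H) (hS p)
  refine ⟨S, fun p q => ?_⟩
  by_cases hpq : p = q
  · rw [hpq]
  haveI := Fact.mk p.2
  haveI := Fact.mk q.2
  show (((P.erase (p : ℕ)).inf H : Subgroup G) : Set G) * (((P.erase (q : ℕ)).inf H : Subgroup G) : Set G) = _
  have hne : (p : ℕ) ≠ q := fun e => hpq (Subtype.ext e)
  refine CfsgLib.Coprime.permutes_of_card (L := (P \ ({(p : ℕ), (q : ℕ)} ∩ P)).inf H)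
    (Finset.inf_mono ?_) (Finset.inf_mono ?_) ?_ ?_
  · intro x hx
    simp only [Finset.mem_sdiff, Finset.mem_inter, Finset.mem_insert, Finset.mem_singleton] at hx
    rw [Finset.mem_erase]
    exact ⟨fun e => hx.2 ⟨Or.inl e, hx.1⟩, hx.1⟩
  · intro x hx
    simp only [Finset.mem_sdiff, Finset.mem_inter, Finset.mem_insert, Finset.mem_singleton] at hx
    rw [Finset.mem_erase]
    exact ⟨fun e => hx.2 ⟨Or.inr e, hx.1⟩, hx.1⟩
  · rw [hS, hS]
    exact Nat.Coprime.pow _ _ ((Nat.coprime_primes p.2 q.2).2 hne)
  · rw [hcard _ Finset.inter_subset_right, hS, hS,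
      ← Finset.prod_pair (f := fun r : ℕ => r ^ (Nat.card G).factorization r) hne]
    refine Finset.prod_subset Finset.inter_subset_left fun r hr hr' => ?_
    rw [Finsupp.notMem_support_iff.1 (fun h => hr' (Finset.mem_inter.2
      ⟨hr, by rwa [Nat.support_factorization] at h⟩)), pow_zero]

end Cfsg.Agent.S0020
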