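import Cfsg.Statements.S0021
import Cfsg.Agent.Lib.Coprime.Solvable
import Cfsg.Agent.Lib.Coprime.Permutable

set_option autoImplicit false
open Pointwise
open Cfsg

namespace Cfsg.Agent.S0021

/-- A finite group with a family of pairwise permuting Sylow subgroups, one for each prime, is solvable (this direction rests on Burnside's two-prime Theorem). -/
theorem result {G : Type*} [Group G] [Finite G]
    (S : (p : Nat.Primes) → Sylow (p : ℕ) G)
    (hS : ∀ p q : Nat.Primes, (S p : Set G) * (S q : Set G) = (S q : Set G) * (S p : Set G)) :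
    Group.IsSolvable G := by
  classical
  refine CfsgLib.Coprime.isSolvable_of_hall_complements fun p hp => ?_
  have main : ∀ s : Finset Nat.Primes,
      Nat.card (s.sup fun q => (S q : Subgroup G) : Subgroup G) =
          ∏ q ∈ s, (q : ℕ) ^ (Nat.card G).factorization q ∧
      ∀ r : Nat.Primes, ((s.sup fun q => (S q : Subgroup G) : Subgroup G) : Set G) * (S r : Set G) =
        (S r : Set G) * ((s.sup fun q => (S q : Subgroup G) : Subgroup G) : Set G) := by
    intro s
    induction s using Finset.induction_on with
    | empty =>
      refine ⟨by simp, fun r => ?_⟩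
      simp [Subgroup.coe_bot]
    | insert q s hqs ih =>
      rw [Finset.sup_insert, sup_comm]
      set A := s.sup fun q => (S q : Subgroup G)
      have hperm : (A : Set G) * (S q : Subgroup G) = ((S q : Subgroup G) : Set G) * A := ih.2 q
      refine ⟨?_, fun r => CfsgLib.Coprime.permutes_sup hperm (ih.2 r) (hS q r)⟩
      have hcard : Nat.card (S q : Subgroup G) = (q : ℕ) ^ (Nat.card G).factorization q := by
        haveI := Fact.mk q.2
        exact (S q).card_eq_multiplicity
      have hd : Disjoint A (S q : Subgroup G) := by
        refine disjoint_iff.2 (Subgroup.inf_eq_bot_of_coprime ?_)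
        rw [ih.1, hcard]
        refine Nat.Coprime.prod_left fun r hr => Nat.Coprime.pow _ _ ?_
        exact (Nat.coprime_primes r.2 q.2).2 fun e => hqs (Subtype.ext e ▸ hr)
      rw [CfsgLib.Coprime.card_sup_of_permutes hperm hd, ih.1, hcard, Finset.prod_insert hqs, mul_comm]
  let emb : {q // q ∈ (Nat.card G).primeFactors.erase p} ↪ Nat.Primes :=
    ⟨fun q => ⟨q.1, Nat.prime_of_mem_primeFactors (Finset.mem_of_mem_erase q.2)⟩,
      fun a b e => Subtype.ext (congrArg (fun r : Nat.Primes => (r : ℕ)) e)⟩
  set s : Finset Nat.Primes := ((Nat.card G).primeFactors.erase p).attach.map emb with hs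
  refine ⟨s.sup fun q => (S q : Subgroup G), ?_⟩
  have hc := (main s).1
  rw [hs, Finset.prod_map] at hc
  change _ = ∏ x ∈ ((Nat.card G).primeFactors.erase p).attach, (x : ℕ) ^ (Nat.card G).factorization x at hc
  rw [Finset.prod_attach _ (fun q : ℕ => q ^ (Nat.card G).factorization q)] at hc
  have hfac := Nat.prod_factorization_pow_eq_self (n := Nat.card G) Nat.card_pos.ne'
  rw [Finsupp.prod, Nat.support_factorization] at hfac
  have hmul : p ^ (Nat.card G).factorization p *
      ∏ q ∈ (Nat.card G).primeFactors.erase p, q ^ (Nat.card G).factorization q = Nat.card G := by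
    by_cases hmem : p ∈ (Nat.card G).primeFactors
    · rw [Finset.mul_prod_erase _ (fun q => q ^ (Nat.card G).factorization q) hmem]
      exact hfac
    · rw [Finset.erase_eq_of_notMem hmem, Finsupp.notMem_support_iff.1
        (by rwa [Nat.support_factorization]), pow_zero, one_mul]
      exact hfac
  refine Nat.eq_of_mul_eq_mul_left (Nat.card_pos (α := (s.sup fun q => (S q : Subgroup G) : Subgroup G))) ?_
  rw [Subgroup.card_mul_index, ← hs] at *
  rw [hc, mul_comm, hmul]

end Cfsg.Agent.S0021
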