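import Cfsg.Statements.S0030
import Cfsg.Agent.Lib.Coprime.Action

set_option autoImplicit false
open Cfsg

namespace Cfsg.Agent.S0030

/-- Under coprime action fixed points of a product of two invariant subgroups factor: if K = X Y with X and Y normalised by A then every A-fixed element of K is a product of an A-fixed element of X and an A-fixed element of Y. -/
theorem result {G : Type*} [Group G] [Finite G] (A K : Subgroup G) (hAK : A ≤ Subgroup.normalizer (K : Set G))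
    (hcop : (Nat.card A).Coprime (Nat.card K)) (hsolv : Group.IsSolvable A ∨ Group.IsSolvable K)
    (X Y : Subgroup G) (hX : X ≤ K) (hY : Y ≤ K) (hXA : A ≤ Subgroup.normalizer (X : Set G)) (hYA : A ≤ Subgroup.normalizer (Y : Set G))
    (hXY : ∀ k ∈ K, ∃ x ∈ X, ∃ y ∈ Y, k = x * y) (k : G) (hk : k ∈ K ⊓ Subgroup.centralizer (A : Set G)) :
    ∃ x ∈ X ⊓ Subgroup.centralizer (A : Set G), ∃ y ∈ Y ⊓ Subgroup.centralizer (A : Set G), k = x * y := by
  open CfsgLib.Coprime in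
  obtain ⟨hkK, hkC⟩ := hk
  obtain ⟨x, hx, y, hy, rfl⟩ := hXY k hkK
  have hI : A ≤ Subgroup.normalizer ((X ⊓ Y : Subgroup G) : Set G) := inf_le_normalizer hXA hYA
  have hB : conjBy x⁻¹ A ≤ A ⊔ (X ⊓ Y) := by
    rintro _ ⟨a, ha, rfl⟩
    replace ha : a ∈ A := ha
    have hfix := mem_centralizer_iff_conj_eq.1 hkC a ha
    have e : x⁻¹ * (a * x * a⁻¹) = y * (a * y * a⁻¹)⁻¹ := by
      rw [eq_mul_inv_iff_mul_eq,
        show x⁻¹ * (a * x * a⁻¹) * (a * y * a⁻¹) = x⁻¹ * (a * (x * y) * a⁻¹) by group, hfix,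
        inv_mul_cancel_left]
    have hmem : x⁻¹ * (a * x * a⁻¹) ∈ X ⊓ Y :=
      ⟨X.mul_mem (X.inv_mem hx) (conj_mem_of_le_normalizer hXA ha hx),
        e ▸ Y.mul_mem hy (Y.inv_mem (conj_mem_of_le_normalizer hYA ha hy))⟩
    show x⁻¹ * a * (x⁻¹)⁻¹ ∈ _
    rw [show x⁻¹ * a * (x⁻¹)⁻¹ = x⁻¹ * (a * x * a⁻¹) * a by group]
    exact mul_mem (Subgroup.mem_sup_right hmem) (Subgroup.mem_sup_left ha)
  obtain ⟨i, ⟨hiX, hiY⟩, hi⟩ := sz_conj_in hI
    ((hcop.coprime_dvd_right (Subgroup.card_dvd_of_le (inf_le_left.trans hX))).symm) hB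
    (card_conjBy _ _) (hsolv.imp id fun h => isSolvable_of_le (inf_le_left.trans hX) h)
  replace hiX : i ∈ X := hiX
  replace hiY : i ∈ Y := hiY
  rw [conjBy_conjBy, conjBy_eq_self_iff] at hi
  have hn : x * i⁻¹ ∈ Subgroup.centralizer (A : Set G) := by
    refine mem_centralizer_of_mem_normalizer hAK hcop (hX (X.mul_mem hx (X.inv_mem hiX))) ?_
    simpa [mul_inv_rev] using inv_mem hi
  refine ⟨x * i⁻¹, ⟨X.mul_mem hx (X.inv_mem hiX), hn⟩, i * y, ⟨Y.mul_mem hiY hy, ?_⟩, by group⟩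
  rw [show i * y = (x * i⁻¹)⁻¹ * (x * y) by group]
  exact Subgroup.mul_mem _ (Subgroup.inv_mem _ hn) hkC

end Cfsg.Agent.S0030
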