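import Cfsg.Statements.S0046
import Cfsg.Agent.Lib.Coprime.Hall
import Cfsg.Agent.Lib.Coprime.SchurZassenhaus
import Mathlib.Order.Atoms.Finite

set_option autoImplicit false
open Cfsg

namespace Cfsg.Agent.S0046

/-- Schmidt's Theorem on minimal non-nilpotent groups: a finite group in which every maximal subgroup is nilpotent is solvable. -/
theorem result {G : Type*} [Group G] [Finite G]
    (h : ∀ M : Subgroup G, IsCoatom M → Group.IsNilpotent M) : Group.IsSolvable G := by
  classical
  have main : ∀ (k : ℕ) (G : Type u_1) [Group G] [Finite G], Nat.card G = k →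
      (∀ M : Subgroup G, IsCoatom M → Group.IsNilpotent M) → Group.IsSolvable G := by
    intro k
    induction k using Nat.strongRecOn with
    | ind k ih =>
      intro G _ _ hk h
      have hproper : ∀ H : Subgroup G, H ≠ ⊤ → Group.IsNilpotent H := by
        intro H hH
        obtain ⟨M, hM, hle⟩ := (eq_top_or_exists_le_coatom H).resolve_left hH
        haveI := h M hM
        exact Group.nilpotent_of_mulEquiv (Subgroup.subgroupOfEquivOfLe hle)
      by_cases hN : ∃ N : Subgroup G, N.Normal ∧ N ≠ ⊥ ∧ N ≠ ⊤
      · obtain ⟨N, hN, hN1, hN2⟩ := hN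
        haveI := hN
        haveI : Group.IsSolvable N := by haveI := hproper N hN2; infer_instance
        haveI : Group.IsSolvable (G ⧸ N) := by
          refine ih _ (hk ▸ CfsgLib.Coprime.card_quotient_lt hN1) _ rfl fun M hM => ?_
          have hne : M.comap (QuotientGroup.mk' N) ≠ ⊤ := fun e => hM.1 (by
            rw [← Subgroup.map_comap_eq_self_of_surjective (QuotientGroup.mk'_surjective N) M, e,
              Subgroup.map_top_of_surjective _ (QuotientGroup.mk'_surjective N)])
          haveI := hproper _ hne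
          have hs := (QuotientGroup.mk' N).subgroupComap_surjective_of_surjective M
            (QuotientGroup.mk'_surjective N)
          exact Group.nilpotent_of_surjective _ hs
        exact Group.isSolvable_of_ker_le_range N.subtype (QuotientGroup.mk' N)
          (by rw [QuotientGroup.ker_mk', Subgroup.range_subtype])
      push Not at hN
      by_cases hab : ∀ a b : G, a * b = b * a
      · exact Group.isSolvable_of_comm hab
      exfalso
      have hsimple : ∀ N : Subgroup G, N.Normal → N ≠ ⊤ → N = ⊥ := fun N hn hne =>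
        by_contra fun hb => hne (hN N hn hb)
      have hcyc : ∀ x : G, Subgroup.zpowers x ≠ ⊤ := fun x e => hab fun a b => by
        obtain ⟨i, rfl⟩ : a ∈ Subgroup.zpowers x := e ▸ Subgroup.mem_top a
        obtain ⟨j, rfl⟩ : b ∈ Subgroup.zpowers x := e ▸ Subgroup.mem_top b
        rw [← zpow_add, ← zpow_add, add_comm]
      have hMne : ∀ M : Subgroup G, IsCoatom M → M ≠ ⊥ := by
        intro M hM e
        obtain ⟨x, hx⟩ := (Subgroup.nontrivial_iff_ne_bot (⊤ : Subgroup G)).2
          (fun e2 => hM.1 (e.trans e2.symm)) |> fun h => @exists_ne _ h 1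
        have hx1 : (x : G) ≠ 1 := fun e2 => hx (Subtype.ext e2)
        exact hcyc x (hM.2 _ (by rw [e, bot_lt_iff_ne_bot, Ne, Subgroup.zpowers_eq_bot]; exact hx1))
      have hnorm : ∀ M : Subgroup G, IsCoatom M → Subgroup.normalizer (M : Set G) = M := by
        intro M hM
        refine (Subgroup.le_normalizer.lt_or_eq.resolve_left fun hlt => ?_).symm
        exact hMne M hM (hsimple M (Subgroup.normalizer_eq_top_iff.1 (hM.2 _ hlt)) hM.1)
      -- distinct maximal subgroups meet trivially
      have hTI : ∀ M N : Subgroup G, IsCoatom M → IsCoatom N → M ⊓ N ≠ ⊥ → M = N := by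
        by_contra hcon
        push Not at hcon
        obtain ⟨M₀, N₀, hM₀, hN₀, hD₀, hne₀⟩ := hcon
        obtain ⟨⟨M, N⟩, ⟨hM, hN, hD, hne⟩, hmax⟩ := exists_maximalFor_of_wellFoundedGT
          (fun q : Subgroup G × Subgroup G => IsCoatom q.1 ∧ IsCoatom q.2 ∧ q.1 ⊓ q.2 ≠ ⊥ ∧ q.1 ≠ q.2)
          (fun q => q.1 ⊓ q.2) ⟨⟨M₀, N₀⟩, hM₀, hN₀, hD₀, hne₀⟩
        simp only at hM hN hD hne hmax
        set D := M ⊓ N with hDdef
        have hDlt : ∀ A B : Subgroup G, IsCoatom A → IsCoatom B → A ≠ B → A ⊓ B < A := by
          intro A B hA hB hAB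
          refine inf_le_left.lt_of_ne fun e => hAB ?_
          exact (hA.le_iff_eq hB.1).1 (inf_eq_left.1 e) |>.symm
        have hgrow : ∀ A : Subgroup G, IsCoatom A → D < A →
            D < A ⊓ Subgroup.normalizer (D : Set G) := by
          intro A hA hlt
          haveI := h A hA
          have h1 : D.subgroupOf A < ⊤ := lt_top_iff_ne_top.2 fun e =>
            hlt.not_ge (Subgroup.subgroupOf_eq_top.1 e)
          have h2 := Group.normalizerCondition_of_isNilpotent (D.subgroupOf A) h1
          obtain ⟨x, hx, hxD⟩ := SetLike.exists_of_lt h2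
          refine lt_of_le_of_ne (le_inf hlt.le Subgroup.le_normalizer) fun e => hxD ?_
          rw [Subgroup.mem_subgroupOf, e]
          refine ⟨x.2, Subgroup.mem_normalizer_iff.2 fun d => ?_⟩
          constructor
          · intro hd
            exact (Subgroup.mem_normalizer_iff.1 hx ⟨d, hlt.le hd⟩).1 hd
          · intro hd
            have hdA : d ∈ A := by
              have := A.mul_mem (A.mul_mem (A.inv_mem x.2) (hlt.le hd)) x.2
              simpa [mul_assoc] using this
            exact (Subgroup.mem_normalizer_iff.1 hx ⟨d, hdA⟩).2 hd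
        have hND : Subgroup.normalizer (D : Set G) ≠ ⊤ := fun e =>
          hD (hsimple D (Subgroup.normalizer_eq_top_iff.1 e) fun e2 => hM.1 (top_le_iff.1 (e2 ▸ inf_le_left)))
        obtain ⟨L, hL, hLle⟩ := (eq_top_or_exists_le_coatom _).resolve_left hND
        have hstep : ∀ A : Subgroup G, IsCoatom A → D < A → A = L := by
          intro A hA hlt
          by_contra hAL
          have h1 : D < A ⊓ L := (hgrow A hA hlt).trans_le (inf_le_inf_left _ hLle)
          exact h1.not_ge (hmax (j := (A, L)) ⟨hA, hL, fun e => by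
            rw [e] at h1; exact not_lt_bot h1, hAL⟩ h1.le)
        exact hne ((hstep M hM (hDlt M N hM hN hne)).trans
          (hstep N hN (by rw [hDdef, inf_comm]; exact hDlt N M hN hM (Ne.symm hne))).symm)
      -- counting
      haveI := Fintype.ofFinite G
      let U : Subgroup G → Set G := fun M => {x | x ≠ 1 ∧ ∃ g : G, g * x * g⁻¹ ∈ M}
      have hcoat : ∀ (M : Subgroup G), IsCoatom M → ∀ g : G,
          IsCoatom (CfsgLib.Coprime.conjBy g M) := fun M hM g =>
        ((MulAut.conj g).mapSubgroup.isCoatom_iff M).2 hM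
      have hU : ∀ M : Subgroup G, IsCoatom M → (U M).ncard + M.index = Nat.card G := by
        intro M hM
        let f : (G ⧸ M) × {m : M // m ≠ 1} → U M := fun q =>
          ⟨q.1.out * q.2.1 * q.1.out⁻¹, fun e => q.2.2 (Subtype.ext (conj_eq_one_iff.1 e)),
            q.1.out⁻¹, by simp [mul_assoc]⟩
        have hf : Function.Bijective f := by
          constructor
          · rintro ⟨a, ⟨⟨m, hm⟩, hm1⟩⟩ ⟨b, ⟨⟨n, hn⟩, hn1⟩⟩ e
            have e : a.out * m * a.out⁻¹ = b.out * n * b.out⁻¹ := congrArg Subtype.val e
            have h1 : (b.out⁻¹ * a.out) * m * (b.out⁻¹ * a.out)⁻¹ = n := by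
              calc _ = b.out⁻¹ * (a.out * m * a.out⁻¹) * b.out := by group
                _ = n := by rw [e]; group
            have hmem : b.out⁻¹ * a.out ∈ M := by
              refine (hnorm M hM).le (CfsgLib.Coprime.conjBy_eq_self_iff.1 ?_)
              refine (hTI _ _ (hcoat M hM _) hM fun e2 => hn1 (Subtype.ext ?_))
              show n = 1
              rw [← Subgroup.mem_bot, ← e2]
              exact ⟨h1 ▸ CfsgLib.Coprime.conj_mem_conjBy hm, hn⟩
            obtain rfl : a = b := by
              rw [← QuotientGroup.out_eq' a, ← QuotientGroup.out_eq' b]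
              exact (QuotientGroup.eq.2 hmem).symm
            obtain rfl : m = n := by simpa using h1
            rfl
          · rintro ⟨x, hx1, g, hg⟩
            obtain ⟨m, hm⟩ := QuotientGroup.mk_out_eq_mul M g⁻¹
            refine ⟨⟨((g⁻¹ : G) : G ⧸ M), ⟨(m : G)⁻¹ * (g * x * g⁻¹) * m,
              M.mul_mem (M.mul_mem (M.inv_mem m.2) hg) m.2⟩, fun e => hx1 ?_⟩, Subtype.ext ?_⟩
            · have e2 : (m : G)⁻¹ * (g * x * g⁻¹) * m = 1 := congrArg Subtype.val e
              calc x = g⁻¹ * m * ((m : G)⁻¹ * (g * x * g⁻¹) * m) * (m : G)⁻¹ * g := by group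
                _ = 1 := by rw [e2]; group
            · show ((g⁻¹ : G) : G ⧸ M).out * ((m : G)⁻¹ * (g * x * g⁻¹) * m) * ((g⁻¹ : G) : G ⧸ M).out⁻¹ = x
              rw [hm]
              group
        have e1 := Nat.card_eq_of_bijective f hf
        rw [Nat.card_prod, Nat.card_coe_set_eq] at e1
        have e2 : Nat.card {m : M // m ≠ 1} + 1 = Nat.card M := by
          have h0 := Nat.card_pos (α := M)
          have : Nat.card {m : M // m ≠ 1} = Nat.card M - 1 := by
            simp [Nat.card_eq_fintype_card, Fintype.card_subtype_compl]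
          omega
        rw [← e1, ← M.card_mul_index, ← e2, add_mul, one_mul, mul_comm]
        rfl
      have hhalf : ∀ M : Subgroup G, IsCoatom M → 2 * M.index ≤ Nat.card G := by
        intro M hM
        rw [← M.card_mul_index]
        exact Nat.mul_le_mul_right _ (by
          have : Nat.card M ≠ 1 := fun e => hMne M hM (Subgroup.card_eq_one.1 e)
          have := Nat.card_pos (α := M)
          omega)
      obtain ⟨M, hM⟩ : ∃ M : Subgroup G, IsCoatom M := by
        obtain ⟨M, hM, -⟩ := (eq_top_or_exists_le_coatom (⊥ : Subgroup G)).resolve_left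
          (fun e => hcyc 1 (by rw [Subgroup.zpowers_one_eq_bot, e]))
        exact ⟨M, hM⟩
      obtain ⟨x, hx1, hx⟩ : ∃ x : G, x ≠ 1 ∧ x ∉ U M := by
        by_contra hcon
        push Not at hcon
        have hsub : ({1}ᶜ : Set G) ⊆ U M := fun x hx => hcon x hx
        have h1 := Set.ncard_le_ncard hsub (Set.toFinite _)
        rw [Set.ncard_compl, Set.ncard_singleton] at h1
        have := hU M hM
        have hi : 1 < M.index := Subgroup.one_lt_index_of_ne_top hM.1
        omega
      obtain ⟨N, hN, hxN⟩ := (eq_top_or_exists_le_coatom (Subgroup.zpowers x)).resolve_left (hcyc x)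
      have hd : Disjoint (U M) (U N) := by
        refine Set.disjoint_left.2 ?_
        rintro y ⟨hy1, g, hg⟩ ⟨-, g', hg'⟩
        have hmem : ∀ (K : Subgroup G) (k : G), k * y * k⁻¹ ∈ K → y ∈ CfsgLib.Coprime.conjBy k⁻¹ K :=
          fun K k hk => by rw [CfsgLib.Coprime.mem_conjBy, inv_inv]; exact hk
        have e := hTI _ _ (hcoat M hM g⁻¹) (hcoat N hN g'⁻¹) fun e => hy1 (by
          rw [← Subgroup.mem_bot, ← e]; exact ⟨hmem M g hg, hmem N g' hg'⟩)
        refine hx ⟨hx1, g * g'⁻¹, ?_⟩
        have h3 : g'⁻¹ * x * g' ∈ CfsgLib.Coprime.conjBy g'⁻¹ N := by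
          have := CfsgLib.Coprime.conj_mem_conjBy (g := g'⁻¹) (hxN (Subgroup.mem_zpowers x))
          simpa using this
        rw [← e, CfsgLib.Coprime.mem_conjBy, inv_inv] at h3
        simpa [mul_assoc] using h3
      have h1 : U M ∪ U N ⊆ ({1}ᶜ : Set G) := by
        rintro y (hy | hy) <;> exact hy.1
      have h2 := Set.ncard_le_ncard h1 (Set.toFinite _)
      rw [Set.ncard_union_eq hd (Set.toFinite _) (Set.toFinite _), Set.ncard_compl,
        Set.ncard_singleton] at h2
      have := hU M hM
      have := hU N hN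
      have := hhalf M hM
      have := hhalf N hN
      have := Nat.card_pos (α := G)
      omega
  exact main (Nat.card G) G rfl h

end Cfsg.Agent.S0046
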