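import Mathlib.Tactic.Group
import Mathlib.GroupTheory.Solvable
-- Template for statement S0047 (row 47; see /opt/grader/pristine/manifest.json for weights).
-- Copy to Cfsg/Agent/S0047.lean and replace the sorry. The statement below is byte-identical to the frozen
-- statement Cfsg.CfsgFrozen.S0047 (Cfsg/Statements/S0047.lean; the theorem Cfsg.solvable_of_product_of_two_abelian);
-- the grader kernel-checks Cfsg.Agent.S0047.result against that frozen type. Keep the theorem IN THIS FILE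
-- (a `result` declared elsewhere and merely imported here is not credited); helpers may live anywhere
-- under Cfsg/Agent/.
import Cfsg.Statements.S0047


set_option autoImplicit false
open Cfsg

namespace Cfsg.Agent.S0047

/-- A finite group which is the product AB of two abelian subgroups A and B is solvable. -/
theorem result {G : Type*} [Group G] [Finite G] (A B : Subgroup G)
    [IsMulCommutative A] [IsMulCommutative B] (hAB : ∀ g : G, ∃ a ∈ A, ∃ b ∈ B, g = a * b) :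
    Group.IsSolvable G := by
  have split : ∀ a ∈ A, ∀ b ∈ B, ∀ b₁ ∈ B, ∀ a₁ ∈ A,
      a₁⁻¹ * b₁⁻¹ * (a⁻¹ * b⁻¹ * a * b) * b₁ * a₁ = b₁⁻¹ * a₁⁻¹ * (a⁻¹ * b⁻¹ * a * b) * a₁ * b₁ := by
    intro a ha b hb b₁ hb₁ a₁ ha₁
    have hA : ∀ x ∈ A, ∀ y ∈ A, x * y = y * x := fun x hx y hy =>
      congrArg Subtype.val (mul_comm' (⟨x, hx⟩ : A) ⟨y, hy⟩)
    have hB : ∀ x ∈ B, ∀ y ∈ B, x * y = y * x := fun x hx y hy =>
      congrArg Subtype.val (mul_comm' (⟨x, hx⟩ : B) ⟨y, hy⟩)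
    obtain ⟨a₂, ha₂, b₂, hb₂, e₂⟩ := hAB (a₁⁻¹ * b * a₁)
    obtain ⟨a₃', ha₃, b₃', hb₃, e₃⟩ := hAB (b₁⁻¹ * a⁻¹ * b₁)
    -- `a ^ b₁ = b₃'⁻¹ * a₃'⁻¹`
    have e₃' : b₁⁻¹ * a * b₁ = b₃'⁻¹ * a₃'⁻¹ := by rw [← mul_inv_rev, ← e₃]; group
    have L : b₁⁻¹ * a₁⁻¹ * (a⁻¹ * b⁻¹ * a * b) * a₁ * b₁ = a₃' * b₂⁻¹ * a₃'⁻¹ * b₂ := by
      have c1 : a₁⁻¹ * (a⁻¹ * b⁻¹ * a * b) * a₁ = a⁻¹ * b₂⁻¹ * a * b₂ := by
        have h1 := hA _ (A.inv_mem ha₁) _ (A.inv_mem ha)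
        have h2 := hA _ (A.inv_mem ha₁) _ ha
        have h3 := hA _ (A.inv_mem ha₂) _ ha
        calc a₁⁻¹ * (a⁻¹ * b⁻¹ * a * b) * a₁
            = (a₁⁻¹ * a⁻¹) * b⁻¹ * (a₁ * (a₁⁻¹ * a)) * b * a₁ := by group
          _ = (a⁻¹ * a₁⁻¹) * b⁻¹ * (a₁ * (a * a₁⁻¹)) * b * a₁ := by rw [h1, h2]
          _ = a⁻¹ * (a₁⁻¹ * b * a₁)⁻¹ * a * (a₁⁻¹ * b * a₁) := by group
          _ = a⁻¹ * b₂⁻¹ * (a₂⁻¹ * a) * a₂ * b₂ := by rw [e₂]; group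
          _ = a⁻¹ * b₂⁻¹ * (a * a₂⁻¹) * a₂ * b₂ := by rw [h3]
          _ = _ := by group
      have h1 := hB _ (B.inv_mem hb₁) _ hb₂
      have h2 := hB _ (B.inv_mem hb₁) _ (B.inv_mem hb₂)
      have h3 := hB _ hb₃ _ (B.inv_mem hb₂)
      calc b₁⁻¹ * a₁⁻¹ * (a⁻¹ * b⁻¹ * a * b) * a₁ * b₁
          = b₁⁻¹ * (a⁻¹ * b₂⁻¹ * a * b₂) * b₁ := by rw [← c1]; group
        _ = b₁⁻¹ * a⁻¹ * b₁ * (b₁⁻¹ * b₂⁻¹) * a * b₁ * (b₁⁻¹ * b₂) * b₁ := by group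
        _ = b₁⁻¹ * a⁻¹ * b₁ * (b₂⁻¹ * b₁⁻¹) * a * b₁ * (b₂ * b₁⁻¹) * b₁ := by rw [h1, h2]
        _ = (b₁⁻¹ * a⁻¹ * b₁) * b₂⁻¹ * (b₁⁻¹ * a * b₁) * b₂ := by group
        _ = a₃' * (b₃' * b₂⁻¹) * b₃'⁻¹ * a₃'⁻¹ * b₂ := by rw [e₃, e₃']; group
        _ = a₃' * (b₂⁻¹ * b₃') * b₃'⁻¹ * a₃'⁻¹ * b₂ := by rw [h3]
        _ = _ := by group
    have R : a₁⁻¹ * b₁⁻¹ * (a⁻¹ * b⁻¹ * a * b) * b₁ * a₁ = a₃' * b₂⁻¹ * a₃'⁻¹ * b₂ := by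
      have c1 : b₁⁻¹ * (a⁻¹ * b⁻¹ * a * b) * b₁ = a₃' * b⁻¹ * a₃'⁻¹ * b := by
        have h1 := hB _ (B.inv_mem hb₁) _ hb
        have h2 := hB _ (B.inv_mem hb₁) _ (B.inv_mem hb)
        have h3 := hB _ hb₃ _ (B.inv_mem hb)
        calc b₁⁻¹ * (a⁻¹ * b⁻¹ * a * b) * b₁
            = b₁⁻¹ * a⁻¹ * b₁ * (b₁⁻¹ * b⁻¹) * a * b₁ * (b₁⁻¹ * b) * b₁ := by group
          _ = b₁⁻¹ * a⁻¹ * b₁ * (b⁻¹ * b₁⁻¹) * a * b₁ * (b * b₁⁻¹) * b₁ := by rw [h1, h2]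
          _ = (b₁⁻¹ * a⁻¹ * b₁) * b⁻¹ * (b₁⁻¹ * a * b₁) * b := by group
          _ = a₃' * (b₃' * b⁻¹) * b₃'⁻¹ * a₃'⁻¹ * b := by rw [e₃, e₃']; group
          _ = a₃' * (b⁻¹ * b₃') * b₃'⁻¹ * a₃'⁻¹ * b := by rw [h3]
          _ = _ := by group
      have h1 := hA _ (A.inv_mem ha₁) _ ha₃
      have h2 := hA _ (A.inv_mem ha₁) _ (A.inv_mem ha₃)
      have h3 := hA _ (A.inv_mem ha₂) _ (A.inv_mem ha₃)
      calc a₁⁻¹ * b₁⁻¹ * (a⁻¹ * b⁻¹ * a * b) * b₁ * a₁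
          = a₁⁻¹ * (b₁⁻¹ * (a⁻¹ * b⁻¹ * a * b) * b₁) * a₁ := by group
        _ = (a₁⁻¹ * a₃') * b⁻¹ * a₁ * (a₁⁻¹ * a₃'⁻¹) * b * a₁ := by rw [c1]; group
        _ = (a₃' * a₁⁻¹) * b⁻¹ * a₁ * (a₃'⁻¹ * a₁⁻¹) * b * a₁ := by rw [h1, h2]
        _ = a₃' * (a₁⁻¹ * b * a₁)⁻¹ * a₃'⁻¹ * (a₁⁻¹ * b * a₁) := by group
        _ = a₃' * b₂⁻¹ * (a₂⁻¹ * a₃'⁻¹) * a₂ * b₂ := by rw [e₂]; group
        _ = a₃' * b₂⁻¹ * (a₃'⁻¹ * a₂⁻¹) * a₂ * b₂ := by rw [h3]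
        _ = _ := by group
    rw [R, L]
  have hA : ∀ x ∈ A, ∀ y ∈ A, x * y = y * x := fun x hx y hy =>
    congrArg Subtype.val (mul_comm' (⟨x, hx⟩ : A) ⟨y, hy⟩)
  have hB : ∀ x ∈ B, ∀ y ∈ B, x * y = y * x := fun x hx y hy =>
    congrArg Subtype.val (mul_comm' (⟨x, hx⟩ : B) ⟨y, hy⟩)
  let K : Subgroup G := Subgroup.closure {c | ∃ a ∈ A, ∃ b ∈ B, a⁻¹ * b⁻¹ * a * b = c}
  have hgen : ∀ a ∈ A, ∀ b ∈ B, a⁻¹ * b⁻¹ * a * b ∈ K := fun a ha b hb =>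
    Subgroup.subset_closure ⟨a, ha, b, hb, rfl⟩
  haveI hK : IsMulCommutative K := by
    refine Subgroup.isMulCommutative_closure ?_
    rintro _ ⟨a, ha, b, hb, rfl⟩ _ ⟨a', ha', b', hb', rfl⟩
    have h := split a ha b hb b' hb' a' ha'
    set c := a⁻¹ * b⁻¹ * a * b
    calc c * (a'⁻¹ * b'⁻¹ * a' * b')
        = a'⁻¹ * b'⁻¹ * (b' * a' * c * a'⁻¹ * b'⁻¹) * a' * b' := by group
      _ = a'⁻¹ * b'⁻¹ * a' * b' * c := by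
          have h5 : b' * a' * c * a'⁻¹ * b'⁻¹ = a' * b' * c * b'⁻¹ * a'⁻¹ := by
            have h4 := split a ha b hb b'⁻¹ (B.inv_mem hb') a'⁻¹ (A.inv_mem ha')
            simp only [inv_inv] at h4
            exact h4.symm
          rw [h5]; group
  haveI hKn : K.Normal := by
    refine ⟨fun n hn g => ?_⟩
    have key : ∀ g : G, (∀ a ∈ A, ∀ b ∈ B, g * (a⁻¹ * b⁻¹ * a * b) * g⁻¹ ∈ K) →
        ∀ n ∈ K, g * n * g⁻¹ ∈ K := by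
      intro g hg n hn
      induction hn using Subgroup.closure_induction with
      | mem x hx => obtain ⟨a, ha, b, hb, rfl⟩ := hx; exact hg a ha b hb
      | one => simp [K.one_mem]
      | mul x y _ _ hx hy =>
        rw [show g * (x * y) * g⁻¹ = (g * x * g⁻¹) * (g * y * g⁻¹) by group]
        exact K.mul_mem hx hy
      | inv x _ hx =>
        rw [show g * x⁻¹ * g⁻¹ = (g * x * g⁻¹)⁻¹ by group]
        exact K.inv_mem hx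
    obtain ⟨u, hu, v, hv, rfl⟩ := hAB g
    have hvB : v * n * v⁻¹ ∈ K := by
      refine key v ?_ n hn
      intro a ha b hb
      obtain ⟨a₂, ha₂, b₂, hb₂, e⟩ := hAB (v * a⁻¹ * v⁻¹)
      have h1 := hB _ hv _ (B.inv_mem hb)
      have h2 := hB _ hb _ (B.inv_mem hv)
      have h3 := hB _ hb₂ _ (B.inv_mem hb)
      have : v * (a⁻¹ * b⁻¹ * a * b) * v⁻¹ = a₂⁻¹⁻¹ * b⁻¹ * a₂⁻¹ * b := by
        calc v * (a⁻¹ * b⁻¹ * a * b) * v⁻¹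
            = (v * a⁻¹ * v⁻¹) * (v * b⁻¹) * a * (b * v⁻¹) := by group
          _ = (v * a⁻¹ * v⁻¹) * (b⁻¹ * v) * a * (v⁻¹ * b) := by rw [h1, h2]
          _ = (v * a⁻¹ * v⁻¹) * b⁻¹ * (v * a⁻¹ * v⁻¹)⁻¹ * b := by group
          _ = a₂ * (b₂ * b⁻¹) * b₂⁻¹ * a₂⁻¹ * b := by rw [e]; group
          _ = a₂ * (b⁻¹ * b₂) * b₂⁻¹ * a₂⁻¹ * b := by rw [h3]
          _ = _ := by group
      rw [this]
      exact hgen _ (A.inv_mem ha₂) _ hb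
    rw [show u * v * n * (u * v)⁻¹ = u * (v * n * v⁻¹) * u⁻¹ by group]
    refine key u ?_ _ hvB
    intro a ha b hb
    obtain ⟨a₂, ha₂, b₂, hb₂, e⟩ := hAB (u * b * u⁻¹)
    have h1 := hA _ hu _ (A.inv_mem ha)
    have h2 := hA _ ha _ hu
    have h3 := hA _ (A.inv_mem ha₂) _ ha
    have : u * (a⁻¹ * b⁻¹ * a * b) * u⁻¹ = a⁻¹ * b₂⁻¹ * a * b₂ := by
      calc u * (a⁻¹ * b⁻¹ * a * b) * u⁻¹
          = (u * a⁻¹) * b⁻¹ * u⁻¹ * (u * a) * b * u⁻¹ := by group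
        _ = (a⁻¹ * u) * b⁻¹ * u⁻¹ * (a * u) * b * u⁻¹ := by rw [h1, ← h2]
        _ = a⁻¹ * (u * b * u⁻¹)⁻¹ * a * (u * b * u⁻¹) := by group
        _ = a⁻¹ * b₂⁻¹ * (a₂⁻¹ * a) * a₂ * b₂ := by rw [e]; group
        _ = a⁻¹ * b₂⁻¹ * (a * a₂⁻¹) * a₂ * b₂ := by rw [h3]
        _ = _ := by group
    rw [this]
    exact hgen _ ha _ hb₂
  have hq : ∀ x y : G ⧸ K, x * y = y * x := by
    have hab : ∀ a ∈ A, ∀ b ∈ B, (a : G ⧸ K) * b = b * a := by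
      intro a ha b hb
      have h := (QuotientGroup.eq_one_iff (N := K) _).2 (hgen a ha b hb)
      simp only [QuotientGroup.mk_mul, QuotientGroup.mk_inv] at h
      have h' := congrArg (fun t => (b : G ⧸ K) * a * t) h
      simpa [mul_assoc] using h'
    intro x y
    obtain ⟨g, rfl⟩ := QuotientGroup.mk_surjective x
    obtain ⟨k, rfl⟩ := QuotientGroup.mk_surjective y
    obtain ⟨a, ha, b, hb, rfl⟩ := hAB g
    obtain ⟨c, hc, d, hd, rfl⟩ := hAB k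
    simp only [QuotientGroup.mk_mul]
    have e1 : (a : G ⧸ K) * c = c * a := by rw [← QuotientGroup.mk_mul, hA a ha c hc, QuotientGroup.mk_mul]
    have e2 : (b : G ⧸ K) * d = d * b := by rw [← QuotientGroup.mk_mul, hB b hb d hd, QuotientGroup.mk_mul]
    calc (a : G ⧸ K) * b * (c * d) = a * (b * c) * d := by group
      _ = (a * c) * (b * d) := by rw [← hab c hc b hb]; group
      _ = (c * a) * (d * b) := by rw [e1, e2]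
      _ = c * (a * d) * b := by group
      _ = _ := by rw [hab a ha d hd]; group
  haveI : Group.IsSolvable (G ⧸ K) := Group.isSolvable_of_comm hq
  haveI : Group.IsSolvable K := Group.isSolvable_of_comm fun a b => mul_comm' a b
  exact Group.isSolvable_of_ker_le_range K.subtype (QuotientGroup.mk' K)
    (by rw [QuotientGroup.ker_mk', Subgroup.range_subtype])

end Cfsg.Agent.S0047
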