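import Cfsg.Statements.S0048
import Cfsg.Agent.Lib.Coprime.Solvable

set_option autoImplicit false
open Cfsg

namespace Cfsg.Agent.S0048

/-- In a finite solvable group every maximal subgroup has index a prime power. -/
theorem result {G : Type*} [Group G] [Finite G] [Group.IsSolvable G]
    (M : Subgroup G) (hM : IsCoatom M) : IsPrimePow M.index := by
  open Subgroup CfsgLib.Coprime in
  induction hk : Nat.card G using Nat.strongRecOn generalizing G with
  | ind k ih =>
    subst hk
    haveI : Nontrivial G := by
      by_contra h
      rw [not_nontrivial_iff_subsingleton] at h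
      exact hM.1 (Subsingleton.elim _ _)
    obtain ⟨N, p, hN, hNne, hp, hNp, hNc⟩ := exists_normal_pGroup_of_isSolvable (G := G)
    haveI := hN
    haveI := Fact.mk hp
    by_cases hNM : N ≤ M
    · haveI : Group.IsSolvable (G ⧸ N) :=
        Group.isSolvable_of_surjective (QuotientGroup.mk'_surjective N)
      have hcomap : (M.map (QuotientGroup.mk' N)).comap (QuotientGroup.mk' N) = M := by
        rw [comap_map_eq, QuotientGroup.ker_mk', sup_eq_left.2 hNM]
      have hM' : IsCoatom (M.map (QuotientGroup.mk' N)) := by
        refine ⟨fun e => hM.1 ?_, fun K hK => ?_⟩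
        · rw [← hcomap, e, comap_top]
        · have h1 := hM.2 (K.comap (QuotientGroup.mk' N))
            (hcomap ▸ (comap_lt_comap_of_surjective (QuotientGroup.mk'_surjective N)).2 hK)
          rw [← map_comap_eq_self_of_surjective (QuotientGroup.mk'_surjective N) K, h1,
            map_top_of_surjective _ (QuotientGroup.mk'_surjective N)]
      have h2 := ih _ (card_quotient_lt hNne) (G := G ⧸ N) (M.map (QuotientGroup.mk' N)) hM' rfl
      rwa [index_map_eq _ (QuotientGroup.mk'_surjective N) (by rwa [QuotientGroup.ker_mk'])] at h2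
    · have htop : M ⊔ N = ⊤ := hM.2 _ (lt_of_le_of_ne le_sup_left fun e => hNM (e ▸ le_sup_right))
      have hd : M.index ∣ Nat.card N := by
        have h := card_sup_dvd_of_normal M N
        rw [htop, card_top, ← card_mul_index M] at h
        exact (Nat.mul_dvd_mul_iff_left Nat.card_pos).1 h
      obtain ⟨j, hj⟩ := IsPGroup.iff_card.1 hNp
      rw [hj] at hd
      obtain ⟨i, -, hi⟩ := (Nat.dvd_prime_pow hp).1 hd
      refine (isPrimePow_nat_iff _).2 ⟨p, i, hp, Nat.pos_of_ne_zero fun h0 => ?_, hi.symm⟩
      rw [h0, pow_zero, index_eq_one] at hi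
      exact hM.1 hi

end Cfsg.Agent.S0048
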