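import Cfsg.Statements.S0049
import Mathlib.GroupTheory.Frattini
import Mathlib.GroupTheory.SchurZassenhaus

set_option autoImplicit false
open Cfsg

namespace Cfsg.Agent.S0049

/-- A prime divisor of the order of a finite group also divides the index of the Frattini subgroup. -/
theorem result {G : Type*} [Group G] [Finite G] (p : ℕ) (hp : p.Prime) (hdvd : p ∣ Nat.card G) :
    p ∣ (frattini G).index := by
  open Subgroup in
  by_contra hnd
  haveI := Fact.mk hp
  obtain ⟨P⟩ := (inferInstance : Nonempty (Sylow p G))
  -- a Sylow subgroup of `G` lies in the Frattini subgroup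
  obtain ⟨Q⟩ := (inferInstance : Nonempty (Sylow p (frattini G)))
  set Q' := (Q : Subgroup (frattini G)).map (frattini G).subtype with hQ'
  have hn : Q'.Normal := by
    haveI := frattini_nilpotent (G := G)
    haveI : (Q : Subgroup (frattini G)).Characteristic :=
      Q.characteristic_of_normal inferInstance
    exact ConjAct.normal_of_characteristic_of_normal
  have hi : ¬ p ∣ Q'.index := by
    rw [← relIndex_mul_index (map_subtype_le (Q : Subgroup (frattini G))), hp.dvd_mul]
    refine not_or.2 ⟨?_, hnd⟩
    rw [Subgroup.relIndex, subgroupOf, comap_map_eq_self_of_injective (frattini G).subtype_injective]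
    exact Q.not_dvd_index
  have hcop : (Nat.card Q').Coprime Q'.index := by
    obtain ⟨j, hj⟩ := IsPGroup.iff_card.1 (Q.2.map (frattini G).subtype)
    rw [hj]; exact ((hp.coprime_iff_not_dvd).2 hi).pow_left j
  obtain ⟨H, hH⟩ := exists_right_complement'_of_coprime (N := Q') hcop
  have hH' : H = ⊤ := frattini_nongenerating (top_le_iff.1
    (hH.symm.sup_eq_top.ge.trans (sup_le le_sup_left (le_sup_of_le_right (map_subtype_le _)))))
  have hQ1 : Q' = ⊥ := by
    have := hH.disjoint
    rwa [hH', disjoint_top] at this
  rw [hQ1, index_bot] at hi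
  exact hi hdvd

end Cfsg.Agent.S0049
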