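import Cfsg.Statements.S0052
import Cfsg.Agent.Lib.Coprime.Gaschutz

set_option autoImplicit false
open Pointwise
open Cfsg

namespace Cfsg.Agent.S0052

/-- Gaschütz's Theorem, conjugacy: for an abelian normal subgroup K ≤ U with the order of K coprime to the index of U, two complements of K in G having the same intersection with U are conjugate. -/
theorem result {G : Type*} [Group G] [Finite G] (K U : Subgroup G) [K.Normal] [IsMulCommutative K]
    (hKU : K ≤ U) (hcop : (Nat.card K).Coprime U.index)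
    (H₀ H₁ : Subgroup G) (h₀ : Subgroup.IsComplement' K H₀) (h₁ : Subgroup.IsComplement' K H₁) (hU : H₀ ⊓ U = H₁ ⊓ U) :
    ∃ g : G, MulAut.conj g • H₀ = H₁ := by
  have hAK : (H₀ ⊓ U) ⊓ K = ⊥ :=
    le_bot_iff.1 ((inf_le_inf_right K inf_le_left).trans (inf_comm H₀ K ▸ h₀.disjoint.le_bot))
  have hKA : K ⊔ (H₀ ⊓ U) = U := by
    refine le_antisymm (sup_le hKU inf_le_right) fun u hu => ?_
    obtain ⟨k, hk, h, hh, rfl⟩ := Subgroup.mem_sup_of_normal_left.1
      (h₀.sup_eq_top ▸ Subgroup.mem_top u : u ∈ K ⊔ H₀)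
    refine Subgroup.mul_mem _ (Subgroup.mem_sup_left hk) (Subgroup.mem_sup_right ⟨hh, ?_⟩)
    have := U.mul_mem (U.inv_mem (hKU hk)) hu
    rwa [inv_mul_cancel_left] at this
  obtain ⟨k, -, h⟩ := CfsgLib.Coprime.gaschutz_conj (D := ⟨inf_le_right, hAK, hKA⟩) hcop h₀ h₁ rfl hU.symm
  exact ⟨k, h⟩

end Cfsg.Agent.S0052
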