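import Cfsg.Statements.S0053
import Cfsg.Agent.Lib.Coprime.Solvable
import Cfsg.Agent.Lib.Coprime.Action

set_option autoImplicit false
open Cfsg

namespace Cfsg.Agent.S0053

/-- An abelian minimal normal subgroup N of a finite group is complemented exactly when N is not inside the Frattini subgroup. -/
theorem result {G : Type*} [Group G] [Finite G]
    (N : Subgroup G) [N.Normal] [IsMulCommutative N] (hN : N ≠ ⊥)
    (hmin : ∀ M : Subgroup G, M.Normal → M ≤ N → M = ⊥ ∨ M = N) :
    (∃ H : Subgroup G, Subgroup.IsComplement' N H) ↔ ¬ N ≤ frattini G := by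
  open Subgroup in
  constructor
  · rintro ⟨H, hH⟩ hle
    have hH' : H = ⊤ := frattini_nongenerating (top_le_iff.1
      (hH.symm.sup_eq_top.ge.trans (sup_le le_sup_left (le_sup_of_le_right hle))))
    have h := hH.disjoint
    rw [hH', disjoint_top] at h
    exact hN h
  · intro hle
    obtain ⟨M, hM, hNM⟩ : ∃ M : Subgroup G, IsCoatom M ∧ ¬ N ≤ M := by
      by_contra! h
      exact hle (le_iInf fun M => le_iInf fun hM => h M hM)
    have htop : N ⊔ M = ⊤ := hM.2 _ (lt_of_le_of_ne le_sup_right fun e => hNM (e ▸ le_sup_left))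
    have hmeet : (N ⊓ M).Normal := by
      rw [← normalizer_eq_top_iff, eq_top_iff, ← htop]
      refine sup_le ?_ ?_
      · refine le_trans ?_ (centralizer_le_normalizer _)
        intro x hx
        exact mem_centralizer_iff.2 fun y hy =>
          congrArg Subtype.val (mul_comm' (⟨y, hy.1⟩ : N) ⟨x, hx⟩)
      · exact CfsgLib.Coprime.inf_le_normalizer (by rw [normalizer_eq_top]; exact le_top) le_normalizer
    refine ⟨M, isComplement'_of_disjoint_and_mul_eq_univ ?_ ?_⟩
    · rw [disjoint_iff]
      refine (hmin _ hmeet inf_le_left).resolve_right fun e => hNM (e ▸ inf_le_right)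
    · rw [← normal_mul, htop, coe_top]

end Cfsg.Agent.S0053
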