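import Mathlib.Tactic.Group
import Mathlib.GroupTheory.PGroup
import Mathlib.GroupTheory.GroupAction.MultiplePrimitivity
-- Template for statement S0054 (row 54; see /opt/grader/pristine/manifest.json for weights).
-- Copy to Cfsg/Agent/S0054.lean and replace the sorry. The statement below is byte-identical to the frozen
-- statement Cfsg.CfsgFrozen.S0054 (Cfsg/Statements/S0054.lean; the theorem Cfsg.two_transitive_regular_normal_subgroup_elementary_abelian);
-- the grader kernel-checks Cfsg.Agent.S0054.result against that frozen type. Keep the theorem IN THIS FILE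
-- (a `result` declared elsewhere and merely imported here is not credited); helpers may live anywhere
-- under Cfsg/Agent/.
import Cfsg.Statements.S0054


set_option autoImplicit false
open Cfsg

namespace Cfsg.Agent.S0054

/-- A regular normal subgroup of a finite 2-transitive group is elementary abelian: it is commutative and all its elements have order dividing one prime. -/
theorem result {G : Type*} [Group G] [Finite G]
    {X : Type*} [Nonempty X] [MulAction G X] (h2 : MulAction.IsMultiplyPretransitive G X 2)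
    (N : Subgroup G) [N.Normal] (htrans : MulAction.IsPretransitive N X) (hreg : ∀ x : X, MulAction.stabilizer N x = ⊥) :
    IsMulCommutative N ∧ ∃ p : ℕ, p.Prime ∧ ∀ n ∈ N, n ^ p = 1 := by
  classical
  haveI := htrans
  obtain ⟨x₀⟩ := ‹Nonempty X›
  rcases Subgroup.bot_or_exists_ne_one N with rfl | ⟨n₀, hn₀, hn₀1⟩
  · refine ⟨inferInstance, 2, Nat.prime_two, fun n hn => ?_⟩
    rw [Subgroup.mem_bot.1 hn, one_pow]
  have hinj : ∀ m ∈ N, ∀ k ∈ N, m • x₀ = k • x₀ → m = k := by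
    intro m hm k hk e
    have h1 : (⟨k⁻¹ * m, N.mul_mem (N.inv_mem hk) hm⟩ : N) ∈ MulAction.stabilizer N x₀ := by
      show (k⁻¹ * m) • x₀ = x₀
      rw [mul_smul, e, inv_smul_smul]
    rw [hreg x₀, Subgroup.mem_bot] at h1
    exact (inv_mul_eq_one.1 (congrArg Subtype.val h1)).symm
  have hconj : ∀ m ∈ N, m ≠ 1 → ∀ k ∈ N, k ≠ 1 → ∃ g : G, g * m * g⁻¹ = k := by
    intro m hm hm1 k hk hk1
    have key : ∀ {a b c d : X}, a ≠ b → c ≠ d → ∃ g : G, g • a = c ∧ g • b = d :=
      MulAction.is_two_pretransitive_iff.1 h2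
    obtain ⟨g, h1, h2⟩ := key
      (a := x₀) (b := m • x₀) (c := x₀) (d := k • x₀)
      (fun e => hm1 (hinj m hm 1 N.one_mem (by rw [one_smul, ← e])))
      (fun e => hk1 (hinj k hk 1 N.one_mem (by rw [one_smul, ← e])))
    refine ⟨g, hinj _ (‹N.Normal›.conj_mem m hm g) k hk ?_⟩
    have h3 : g⁻¹ • x₀ = x₀ := inv_smul_eq_iff.2 h1.symm
    rw [mul_smul, mul_smul, h3, h2]
  obtain ⟨p, hp, hd⟩ := Nat.exists_prime_and_dvd
    (fun e => hn₀1 (Subgroup.mem_bot.1 (Subgroup.card_eq_one.1 e ▸ hn₀)) : Nat.card N ≠ 1)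
  haveI := Fact.mk hp
  obtain ⟨⟨y, hyN⟩, hy⟩ := exists_prime_orderOf_dvd_card' (G := N) p hd
  have hy' : orderOf y = p := (Subgroup.orderOf_coe (⟨y, hyN⟩ : N)).trans hy
  have hy1 : y ≠ 1 := fun e => hp.ne_one (by rw [← hy', e, orderOf_one])
  have hexp : ∀ n ∈ N, n ^ p = 1 := by
    intro n hn
    by_cases hn1 : n = 1
    · rw [hn1, one_pow]
    obtain ⟨g, hg⟩ := hconj y hyN hy1 n hn hn1
    rw [← hg, conj_pow, ← hy', pow_orderOf_eq_one]
    simp
  have hP : IsPGroup p N := fun x => ⟨1, Subtype.ext (by simpa using hexp x x.2)⟩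
  haveI : Nontrivial N := ⟨⟨⟨y, hyN⟩, 1, fun e => hy1 (congrArg Subtype.val e)⟩⟩
  haveI := hP.center_nontrivial
  obtain ⟨⟨⟨z, hzN⟩, hzc⟩, hz1⟩ := exists_ne (1 : Subgroup.center N)
  have hz1' : z ≠ 1 := fun e => hz1 (Subtype.ext (Subtype.ext e))
  refine ⟨⟨⟨fun a b => ?_⟩⟩, p, hp, hexp⟩
  by_cases ha : (a : G) = 1
  · rw [show a = 1 from Subtype.ext ha, one_mul, mul_one]
  obtain ⟨g, hg⟩ := hconj z hzN hz1' a a.2 ha
  have h1 : g⁻¹ * b * g ∈ N := by simpa using ‹N.Normal›.conj_mem b b.2 g⁻¹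
  have h2 : g⁻¹ * b * g * z = z * (g⁻¹ * b * g) :=
    congrArg Subtype.val (Subgroup.mem_center_iff.1 hzc ⟨_, h1⟩)
  refine Subtype.ext ?_
  show (a : G) * b = b * a
  rw [← hg]
  calc g * z * g⁻¹ * b = g * (z * (g⁻¹ * b * g)) * g⁻¹ := by group
    _ = g * (g⁻¹ * b * g * z) * g⁻¹ := by rw [h2]
    _ = _ := by group

end Cfsg.Agent.S0054
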