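import Cfsg.Statements.S0056
import Cfsg.Agent.Lib.Coprime.Action

set_option autoImplicit false
open Cfsg

namespace Cfsg.Agent.S0056

/-- A coprime action on an abelian group that fixes all elements of prime order is trivial. -/
theorem result {G : Type*} [Group G] [Finite G] (A V : Subgroup G) [IsMulCommutative V]
    (hAV : A ≤ Subgroup.normalizer (V : Set G)) (hcop : (Nat.card A).Coprime (Nat.card V))
    (hΩ : ∀ v ∈ V, (orderOf v).Prime → ∀ a ∈ A, a * v = v * a) : A ≤ Subgroup.centralizer (V : Set G) := by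
  open CfsgLib.Coprime in
  refine le_centralizer_of_le_centralizer_commutator hAV hcop
    (Or.inr (isSolvable_of_isMulCommutative inferInstance)) ?_
  have hsup : ⁅V, A⁆ = ⊥ := by
    by_contra hne
    obtain ⟨q, hq, hd⟩ := Nat.exists_prime_and_dvd
      (fun h => hne (Subgroup.card_eq_one.1 h) : Nat.card (⁅V, A⁆ : Subgroup G) ≠ 1)
    haveI := Fact.mk hq
    obtain ⟨x, hx⟩ := exists_prime_orderOf_dvd_card' q hd
    have hVA : ⁅V, A⁆ ≤ V := by
      rw [Subgroup.commutator_le]
      intro v hv a ha
      rw [commutatorElement_def]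
      have := mul_mem hv (conj_mem_of_le_normalizer hAV ha (inv_mem hv))
      simpa [mul_assoc] using this
    have hxo : orderOf (x : G) = q := (Subgroup.orderOf_coe x).trans hx
    have hmem : (x : G) ∈ (V ⊓ Subgroup.centralizer (A : Set G)) ⊓ ⁅V, A⁆ :=
      ⟨⟨hVA x.2, Subgroup.mem_centralizer_iff.2 fun a ha => hΩ _ (hVA x.2) (hxo ▸ hq) a ha⟩, x.2⟩
    rw [centralizer_inf_commutator_eq_bot inferInstance hAV hcop, Subgroup.mem_bot] at hmem
    rw [hmem, orderOf_one] at hxo
    exact hq.ne_one hxo.symm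
  rw [hsup, Subgroup.le_centralizer_iff]
  exact bot_le

end Cfsg.Agent.S0056
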