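import Cfsg.Statements.S0057
import Cfsg.Agent.Lib.Coprime.Action
import Cfsg.Agent.Lib.Coprime.Hall

set_option autoImplicit false
open Cfsg

namespace Cfsg.Agent.S0057

/-- Under coprime action, if the centraliser of A in K has prime index p in K then the commutator subgroup [K, A] has order exactly p. -/
theorem result {G : Type*} [Group G] [Finite G] (A K : Subgroup G) (hAK : A ≤ Subgroup.normalizer (K : Set G))
    (hcop : (Nat.card A).Coprime (Nat.card K)) (hsolv : Group.IsSolvable A ∨ Group.IsSolvable K)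
    (p : ℕ) (hp : p.Prime) (hidx : (K ⊓ Subgroup.centralizer (A : Set G)).relIndex K = p) :
    Nat.card (⁅K, A⁆ : Subgroup G) = p := by
  classical
  haveI := Fact.mk hp
  set C := K ⊓ Subgroup.centralizer (A : Set G) with hC
  obtain ⟨P, hP, hPA⟩ := CfsgLib.Coprime.exists_invariant_sylow hAK hcop hsolv p
  have hrel : C.relIndex P = p := by
    have hle : C.relIndex P ≤ p := by
      rw [← hidx]
      exact Subgroup.relIndex_le_of_le_right (H := C) hP.1 (by rw [hidx]; exact hp.ne_zero)
    obtain ⟨j, hj⟩ := hP.isPGroup.index (C.subgroupOf P)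
    have hj' : C.relIndex P = p ^ j := hj
    rcases Nat.eq_zero_or_pos j with rfl | h0
    · exfalso
      rw [pow_zero, Subgroup.relIndex_eq_one] at hj'
      have h2 := Subgroup.relIndex_mul_relIndex P C K hj' inf_le_left
      have h3 : ¬ p ∣ P.relIndex K := by
        have e := CfsgLib.Coprime.card_mul_relIndex hP.1
        rw [hP.2] at e
        intro hd
        have := Nat.mul_dvd_mul_left (p ^ (Nat.card K).factorization p) hd
        rw [e, ← pow_succ] at this
        exact Nat.pow_succ_factorization_not_dvd Nat.card_pos.ne' hp this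
      exact h3 (h2 ▸ hidx.symm ▸ dvd_mul_left p _)
    · exact le_antisymm hle (hj' ▸ Nat.le_self_pow h0.ne' p)
  have hprod : ∀ k ∈ K, ∃ x ∈ P, ∃ c ∈ C, k = x * c := by
    intro k hk
    have hf : Function.Surjective (Subgroup.quotientSubgroupOfEmbeddingOfLE C hP.1) := by
      refine ((Nat.bijective_iff_injective_and_card _).2
        ⟨Function.Embedding.injective _, ?_⟩).2
      show C.relIndex P = C.relIndex K
      rw [hrel, hidx]
    obtain ⟨q, hq⟩ := hf ((⟨k, hk⟩ : K))
    induction q using Quotient.inductionOn' with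
    | h x =>
      have hm := Subgroup.mem_subgroupOf.1 (QuotientGroup.eq.1 hq)
      refine ⟨x, x.2, (x : G)⁻¹ * k, by simpa using hm, by group⟩
  have hBP : ⁅K, A⁆ ≤ P := by
    rw [Subgroup.commutator_le]
    intro k hk a ha
    obtain ⟨x, hx, c, hc, rfl⟩ := hprod k hk
    have e : c * a = a * c := (Subgroup.mem_centralizer_iff.1 hc.2 a ha).symm
    rw [commutatorElement_def,
      show x * c * a * (x * c)⁻¹ * a⁻¹ = x * (c * a) * c⁻¹ * x⁻¹ * a⁻¹ by group, e,
      show x * (a * c) * c⁻¹ * x⁻¹ * a⁻¹ = x * (a * x⁻¹ * a⁻¹) by group]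
    exact P.mul_mem hx (CfsgLib.Coprime.conj_mem_of_le_normalizer hPA ha (P.inv_mem hx))
  set B := ⁅K, A⁆ with hB
  have hBK : B ≤ K := hBP.trans hP.1
  have hBA : A ≤ Subgroup.normalizer (B : Set G) := Subgroup.normalizer_commutator_ge_right K A
  have hBB : ⁅B, A⁆ = B := CfsgLib.Coprime.commutator_commutator_eq hAK hcop hsolv
  have hBp : IsPGroup p B := hP.isPGroup.to_le hBP
  set D := B ⊓ Subgroup.centralizer (A : Set G) with hD
  have hDA : ⁅D, A⁆ = ⊥ := Subgroup.commutator_eq_bot_iff_le_centralizer.2 inf_le_right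
  have hne : B ≠ ⊥ := by
    intro e
    have : K ≤ Subgroup.centralizer (A : Set G) := Subgroup.commutator_eq_bot_iff_le_centralizer.1 e
    exact hp.ne_one (hidx.symm.trans (Subgroup.relIndex_eq_one.2 (le_inf le_rfl this)))
  have hDB : D.relIndex B = p := by
    have hle : D.relIndex B ≤ p := by
      rw [← hrel, show D = C ⊓ B from by
        rw [hD, hC, inf_comm K, inf_assoc, inf_eq_right.2 hBK, inf_comm],
        Subgroup.inf_relIndex_right]
      exact Subgroup.relIndex_le_of_le_right hBP (by rw [hrel]; exact hp.ne_zero)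
    obtain ⟨j, hj⟩ := hBp.index (D.subgroupOf B)
    have hj' : D.relIndex B = p ^ j := hj
    rcases Nat.eq_zero_or_pos j with rfl | h0
    · exfalso
      rw [pow_zero, Subgroup.relIndex_eq_one] at hj'
      refine hne ?_
      rw [← hBB]
      exact Subgroup.commutator_eq_bot_iff_le_centralizer.2 (hj'.trans inf_le_right)
    · exact le_antisymm hle (hj' ▸ Nat.le_self_pow h0.ne' p)
  haveI hDn : (D.subgroupOf B).Normal := by
    refine Subgroup.normal_of_index_eq_minFac_card ?_
    obtain ⟨n, hn⟩ := IsPGroup.iff_card.1 hBp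
    rcases Nat.eq_zero_or_pos n with rfl | h0
    · exact absurd (Subgroup.card_eq_one.1 (by simpa using hn)) hne
    rw [hn, hp.pow_minFac h0.ne']
    exact hDB
  have hBD : ⁅B, D⁆ = ⊥ := by
    have h1 : ⁅⁅A, D⁆, B⁆ = (⊥ : Subgroup G) := by
      rw [Subgroup.commutator_comm A D, hDA, Subgroup.commutator_bot_left]
    have h2 : ⁅⁅D, B⁆, A⁆ = (⊥ : Subgroup G) := by
      refine le_bot_iff.1 (hDA ▸ Subgroup.commutator_mono ?_ le_rfl)
      rw [Subgroup.commutator_le]
      intro d hd b hb
      have := hDn.conj_mem ⟨d⁻¹, (Subgroup.mem_inf.1 (D.inv_mem hd)).1⟩ (D.inv_mem hd) ⟨b, hb⟩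
      rw [commutatorElement_def, show d * b * d⁻¹ * b⁻¹ = d * (b * d⁻¹ * b⁻¹) by group]
      exact D.mul_mem hd this
    have := Subgroup.commutator_commutator_eq_bot_of_rotate (H₁ := B) (H₂ := A) (H₃ := D) h1 h2
    rwa [hBB] at this
  haveI hBc : IsMulCommutative B := by
    haveI : IsCyclic (B ⧸ D.subgroupOf B) := isCyclic_of_prime_card (p := p) hDB
    refine ⟨⟨commutative_of_cyclic_center_quotient (QuotientGroup.mk' (D.subgroupOf B)) ?_⟩⟩
    rw [QuotientGroup.ker_mk']
    intro d hd
    rw [Subgroup.mem_center_iff]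
    intro b
    exact Subtype.ext (Subgroup.mem_centralizer_iff.1
      (Subgroup.commutator_eq_bot_iff_le_centralizer.1 hBD b.2) d hd).symm
  have hbot : D = ⊥ := by
    have := CfsgLib.Coprime.centralizer_inf_commutator_eq_bot hBc hBA
      (hcop.coprime_dvd_right (Subgroup.card_dvd_of_le hBK))
    rwa [hBB, inf_eq_left.2 inf_le_left] at this
  rw [← hDB, hbot, Subgroup.relIndex_bot_left]

end Cfsg.Agent.S0057
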