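import Cfsg.Statements.S0059
import Cfsg.Agent.Lib.Coprime.Action
import Cfsg.Agent.Lib.Coprime.Hall

set_option autoImplicit false
open Cfsg

namespace Cfsg.Agent.S0059

/-- Let a finite group act on a set on which a normal subgroup K of coprime order and index is transitive, with K or the quotient solvable. Then any complement H of K has a fixed point, and any two H-fixed points are interchanged by an element of K centralising H. -/
theorem result {G : Type*} [Group G] [Finite G] {X : Type*} [Nonempty X] [MulAction G X]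
    (K H : Subgroup G) [K.Normal] (hc : Subgroup.IsComplement' K H) (hcop : (Nat.card K).Coprime K.index)
    (hsolv : Group.IsSolvable K ∨ Group.IsSolvable (G ⧸ K)) (htrans : MulAction.IsPretransitive K X) :
    (∃ x : X, ∀ h ∈ H, h • x = x) ∧
    ∀ x y : X, (∀ h ∈ H, h • x = x) → (∀ h ∈ H, h • y = y) → ∃ k ∈ K ⊓ Subgroup.centralizer (H : Set G), k • x = y := by
  classical
  obtain ⟨x₀⟩ := ‹Nonempty X›
  have hHK : H ≤ Subgroup.normalizer (K : Set G) := by rw [Subgroup.normalizer_eq_top]; exact le_top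
  have hHc : Nat.card H = K.index := hc.symm.index_eq_card.symm
  have hcop' : (Nat.card K).Coprime (Nat.card H) := by rwa [hHc]
  have hsolv' : Group.IsSolvable H ∨ Group.IsSolvable K := hsolv.symm.imp
    (CfsgLib.Coprime.isSolvable_congr hc.symm.QuotientMulEquiv) id
  have hcover : ∀ g : G, ∃ k ∈ K, k⁻¹ * g ∈ MulAction.stabilizer G x₀ := by
    intro g
    obtain ⟨⟨k, hk⟩, e⟩ := htrans.exists_smul_eq x₀ (g • x₀)
    refine ⟨k, hk, ?_⟩
    rw [MulAction.mem_stabilizer_iff, mul_smul, ← e]
    exact inv_smul_smul k x₀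
  refine ⟨?_, fun x y hx hy => ?_⟩
  · set St := MulAction.stabilizer G x₀ with hSt
    have hidx : (K.subgroupOf St).index = K.index := by
      have : St ⊔ K = ⊤ := eq_top_iff.2 fun g _ => by
        obtain ⟨k, hk, h⟩ := hcover g
        rw [show g = k * (k⁻¹ * g) by group]
        exact Subgroup.mul_mem _ (Subgroup.mem_sup_right hk) (Subgroup.mem_sup_left h)
      rw [← Subgroup.relIndex_top_right K, ← this, Subgroup.relIndex_sup_right]
      rfl
    obtain ⟨B, hB⟩ := Subgroup.exists_right_complement'_of_coprime (N := K.subgroupOf St)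
      (by
        rw [hidx]
        exact hcop.coprime_dvd_left
          (Subgroup.card_comap_dvd_of_injective K St.subtype St.subtype_injective))
    have hBc : Nat.card (B.map St.subtype) = Nat.card H := by
      rw [Subgroup.card_map_of_injective St.subtype_injective, ← hB.symm.index_eq_card, hidx, hHc]
    obtain ⟨m, hm, hmB⟩ := CfsgLib.Coprime.sz_conj_in hHK hcop'
      (le_top.trans (hc.symm.sup_eq_top).ge) hBc hsolv'
    refine ⟨m • x₀, fun h hh => ?_⟩
    rw [← hmB, CfsgLib.Coprime.mem_conjBy] at hh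
    have := MulAction.mem_stabilizer_iff.1 (Subgroup.map_subtype_le B hh)
    rw [mul_smul, mul_smul] at this
    exact inv_smul_eq_iff.1 this
  · obtain ⟨⟨k, hk⟩, e⟩ := htrans.exists_smul_eq x y
    have e : k • x = y := e
    set N := K ⊓ MulAction.stabilizer G y with hN
    have hyn : H ≤ Subgroup.normalizer (N : Set G) := CfsgLib.Coprime.inf_le_normalizer hHK
      (le_trans (fun h hh => MulAction.mem_stabilizer_iff.2 (hy h hh)) Subgroup.le_normalizer)
    have hB : CfsgLib.Coprime.conjBy k H ≤ H ⊔ N := by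
      intro b hb
      rw [CfsgLib.Coprime.mem_conjBy] at hb
      have hby : b • y = y := by
        have := hx _ hb
        rw [mul_smul, mul_smul, e, inv_smul_eq_iff, e] at this
        exact this
      have hK' : (k⁻¹ * b * k)⁻¹ * b ∈ K := by
        rw [show (k⁻¹ * b * k)⁻¹ * b = k⁻¹ * (b⁻¹ * k * b) by group]
        exact K.mul_mem (K.inv_mem hk) (by simpa using ‹K.Normal›.conj_mem k hk b⁻¹)
      have hst : (k⁻¹ * b * k)⁻¹ * b ∈ MulAction.stabilizer G y :=
        (MulAction.stabilizer G y).mul_mem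
          (Subgroup.inv_mem _ (MulAction.mem_stabilizer_iff.2 (hy _ hb))) (MulAction.mem_stabilizer_iff.2 hby)
      rw [show b = (k⁻¹ * b * k) * ((k⁻¹ * b * k)⁻¹ * b) by group]
      exact Subgroup.mul_mem _ (Subgroup.mem_sup_left hb) (Subgroup.mem_sup_right ⟨hK', hst⟩)
    obtain ⟨m, hm, hmB⟩ := CfsgLib.Coprime.sz_conj_in hyn
      (hcop'.coprime_dvd_left (Subgroup.card_dvd_of_le inf_le_left)) hB
      (CfsgLib.Coprime.card_conjBy _ _)
      (hsolv'.imp id (CfsgLib.Coprime.isSolvable_of_le inf_le_left))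
    rw [CfsgLib.Coprime.conjBy_conjBy, CfsgLib.Coprime.conjBy_eq_self_iff] at hmB
    refine ⟨m * k, ⟨K.mul_mem hm.1 hk, CfsgLib.Coprime.mem_centralizer_of_mem_normalizer hHK
      hcop'.symm (K.mul_mem hm.1 hk) hmB⟩, ?_⟩
    rw [mul_smul, e]
    exact MulAction.mem_stabilizer_iff.1 hm.2

end Cfsg.Agent.S0059
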