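import Cfsg.Statements.S0060
import Cfsg.Agent.Lib.Coprime.Core
import Cfsg.Agent.Lib.Coprime.SchurZassenhaus

set_option autoImplicit false
open Pointwise
open Cfsg

namespace Cfsg.Agent.S0060

/-- Brodkey's Theorem: in a finite group with abelian Sylow p-subgroups and no nontrivial normal p-subgroup, some conjugate of a Sylow p-subgroup meets it trivially. -/
theorem result {G : Type*} [Group G] [Finite G] (p : ℕ) [Fact p.Prime]
    (S : Sylow p G) (hS : IsMulCommutative S) (hOp : Cfsg.pCore p G = ⊥) :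
    ∃ g : G, (S : Subgroup G) ⊓ MulAut.conj g • (S : Subgroup G) = ⊥ := by
  classical
  obtain ⟨⟨S₁, T⟩, hmin⟩ := exists_minimalFor_of_wellFoundedLT
    (fun _ : Sylow p G × Sylow p G => True)
    (fun q => Nat.card ((q.1 : Subgroup G) ⊓ (q.2 : Subgroup G) : Subgroup G)) ⟨⟨S, S⟩, trivial⟩
  set D := (S₁ : Subgroup G) ⊓ (T : Subgroup G) with hD
  obtain ⟨a, ha⟩ := MulAction.exists_smul_eq G S S₁
  obtain ⟨b, hb⟩ := MulAction.exists_smul_eq G S T
  have hcomm : ∀ (Q : Sylow p G) (c : G), c • S = Q →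
      (Q : Subgroup G) ≤ Subgroup.centralizer ((Q : Subgroup G) : Set G) := by
    intro Q c hc x hx
    rw [Subgroup.mem_centralizer_iff]
    intro y hy
    rw [← hc] at hx hy
    obtain ⟨x', hx', rfl⟩ := hx
    obtain ⟨y', hy', rfl⟩ := hy
    show c * y' * c⁻¹ * (c * x' * c⁻¹) = c * x' * c⁻¹ * (c * y' * c⁻¹)
    have e : y' * x' = x' * y' :=
      congrArg Subtype.val (mul_comm' (⟨y', hy'⟩ : (S : Subgroup G)) ⟨x', hx'⟩)
    calc c * y' * c⁻¹ * (c * x' * c⁻¹) = c * (y' * x') * c⁻¹ := by group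
      _ = c * (x' * y') * c⁻¹ := by rw [e]
      _ = _ := by group
  have hSC : (S₁ : Subgroup G) ≤ Subgroup.centralizer (D : Set G) :=
    (hcomm S₁ a ha).trans (Subgroup.centralizer_le (Set.inter_subset_left))
  have hTC : (T : Subgroup G) ≤ Subgroup.centralizer (D : Set G) :=
    (hcomm T b hb).trans (Subgroup.centralizer_le (Set.inter_subset_right))
  set C := Subgroup.centralizer (D : Set G) with hC
  have hall : ∀ R : Sylow p G, D ≤ R := by
    intro R
    obtain ⟨Q, hQ⟩ := (show IsPGroup p (((R : Subgroup G) ⊓ C).subgroupOf C) from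
      (R.2.to_le inf_le_left).of_equiv (Subgroup.subgroupOfEquivOfLe inf_le_right).symm).exists_le_sylow
    obtain ⟨c, hc⟩ := MulAction.exists_smul_eq C (S₁.subtype hSC) Q
    have h1 : (R : Subgroup G) ⊓ C ≤ ((c : G) • S₁ : Sylow p G) := by
      intro x hx
      have h2 := hQ (show (⟨x, hx.2⟩ : C) ∈ ((R : Subgroup G) ⊓ C).subgroupOf C from hx)
      rw [← hc] at h2
      obtain ⟨y, hy, hye⟩ := h2
      exact ⟨(y : G), hy, congrArg Subtype.val hye⟩
    have hT' : (((c : G) • T : Sylow p G) : Subgroup G) ≤ C := by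
      rintro _ ⟨y, hy, rfl⟩
      exact C.mul_mem (C.mul_mem c.2 (hTC hy)) (C.inv_mem c.2)
    have h3 : (R : Subgroup G) ⊓ ((c : G) • T : Sylow p G) ≤ D := by
      intro x hx
      obtain ⟨y, hy, hye⟩ := h1 ⟨hx.1, hT' hx.2⟩
      obtain ⟨z, hz, hze⟩ := hx.2
      obtain rfl : y = z := (MulAut.conj (c : G)).injective (hye.trans hze.symm)
      have hyD : y ∈ D := ⟨hy, hz⟩
      have he : (c : G) * y * (c : G)⁻¹ = y := by
        rw [← Subgroup.mem_centralizer_iff.1 c.2 y hyD]; group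
      rw [← hye]
      show (c : G) * y * (c : G)⁻¹ ∈ D
      rw [he]; exact hyD
    have h4 := hmin.2 (j := (R, (c : G) • T)) trivial (Subgroup.card_le_of_le h3)
    exact (Subgroup.eq_of_le_of_card_ge h3 h4) ▸ inf_le_left
  have hbot : D = ⊥ := by
    refine le_bot_iff.1 (hOp ▸ ?_)
    haveI : (⨅ R : Sylow p G, (R : Subgroup G)).Normal := by
      refine ⟨fun x hx g => Subgroup.mem_iInf.2 fun R => ?_⟩
      obtain ⟨y, hy, hye⟩ := show x ∈ ((g⁻¹ • R : Sylow p G) : Subgroup G) from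
        Subgroup.mem_iInf.1 hx _
      rw [← hye]
      show g * (g⁻¹ * y * g⁻¹⁻¹) * g⁻¹ ∈ (R : Subgroup G)
      simpa [mul_assoc] using SetLike.mem_coe.1 hy
    exact (le_iInf hall).trans (CfsgLib.Coprime.le_pCore (S.2.to_le (iInf_le _ S)))
  refine ⟨a⁻¹ * b, ?_⟩
  rw [← (Subgroup.map_injective (f := (MulAut.conj a).toMonoidHom) (MulAut.conj a).injective).eq_iff,
    Subgroup.map_bot, Subgroup.map_inf _ _ _ (MulAut.conj a).injective, ← hbot, hD, ← ha, ← hb]
  congr 1
  show CfsgLib.Coprime.conjBy a (CfsgLib.Coprime.conjBy (a⁻¹ * b) (S : Subgroup G)) = _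
  rw [CfsgLib.Coprime.conjBy_conjBy, mul_inv_cancel_left, Sylow.coe_subgroup_smul]
  rfl

end Cfsg.Agent.S0060
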