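import Cfsg.Statements.S0063


set_option autoImplicit false
open Cfsg

namespace Cfsg.Agent.S0063

/-- A finite group of prime-power order p ^ m with m > 1 is nilpotent of class at most m - 1. -/
theorem result {G : Type*} [Group G] [Finite G] (p m : ℕ) [Fact p.Prime]
    (hG : Nat.card G = p ^ m) (hm : 1 < m) : Group.nilpotencyClass G ≤ m - 1 := by
  classical
  have main : ∀ k : ℕ, ∀ (H : Type u_1) [Group H] [Finite H] [Group.IsNilpotent H],
      Nat.card H = p ^ k → 1 ≤ k → Group.nilpotencyClass H ≤ max (k - 1) 1 := by
    intro k
    induction k using Nat.strongRecOn with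
    | ind k ih =>
      intro H _ _ _ hH hk
      rcases Nat.lt_or_ge k 3 with hk3 | hk3
      · haveI : IsMulCommutative H := by
          refine ⟨⟨?_⟩⟩
          interval_cases k
          · haveI := isCyclic_of_prime_card (α := H) (p := p) (by simpa using hH)
            exact fun a b => (IsCyclic.commGroup (α := H)).mul_comm a b
          · exact IsPGroup.commutative_of_card_eq_prime_sq hH
        exact (Group.IsNilpotent.nilpotencyClass_le_one_iff.2 inferInstance).trans (le_max_right _ _)
      by_cases hab : Subgroup.center H = ⊤
      · have : IsMulCommutative H := ⟨⟨fun a b =>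
          (Subgroup.mem_center_iff.1 (hab ▸ Subgroup.mem_top a) b).symm⟩⟩
        exact (Group.IsNilpotent.nilpotencyClass_le_one_iff.2 this).trans (le_max_right _ _)
      have hp : IsPGroup p H := IsPGroup.of_card hH
      haveI : Nontrivial H := Finite.one_lt_card_iff_nontrivial.1
        (hH ▸ Nat.one_lt_pow (by omega) (Fact.out : p.Prime).one_lt)
      haveI := hp.center_nontrivial
      obtain ⟨j, hj, hjc⟩ := (Nat.dvd_prime_pow (Fact.out : p.Prime)).1
        (hH ▸ Subgroup.card_subgroup_dvd_card (Subgroup.center H))
      have hj0 : j ≠ 0 := fun e => absurd (Finite.one_lt_card (α := Subgroup.center H))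
        (by rw [hjc, e, pow_zero]; exact lt_irrefl 1)
      have hjk : j < k := lt_of_le_of_ne hj fun e => hab
        (Subgroup.eq_top_of_card_eq _ (by rw [hjc, e, hH]))
      have hq : Nat.card (H ⧸ Subgroup.center H) = p ^ (k - j) := by
        have := (Subgroup.center H).card_eq_card_quotient_mul_card_subgroup
        rw [hH, hjc, show k = (k - j) + j by omega, pow_add] at this
        exact (Nat.eq_of_mul_eq_mul_right (pow_pos (Fact.out : p.Prime).pos _) this).symm
      have h1 := ih (k - j) (by omega) (H ⧸ Subgroup.center H) hq (by omega)
      rw [Group.nilpotencyClass_quotient_center] at h1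
      omega
  haveI := (IsPGroup.of_card hG).isNilpotent
  have := main m G hG (by omega)
  omega

end Cfsg.Agent.S0063
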