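import Cfsg.Statements.S0064
import Cfsg.Agent.Lib.Coprime.Solvable
import Cfsg.Agent.Lib.PGroup.Basic

set_option autoImplicit false
open Cfsg

namespace Cfsg.Agent.S0064

/-- A finite group is nilpotent exactly when each of its subgroups is subnormal. -/
theorem result {G : Type*} [Group G] [Finite G] :
    Group.IsNilpotent G ↔ ∀ H : Subgroup G, H.IsSubnormal := by
  open Subgroup in
  refine ⟨fun h H => @CfsgLib.PGroup.isSubnormal_of_isNilpotent G _ _ h H, fun h => ?_⟩
  refine ((isNilpotent_of_finite_tfae (G := G)).out 0 3).2 ?_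
  intro p hp P
  have h1 : (P : Subgroup G) ≤ Cfsg.pCore p G :=
    CfsgLib.Coprime.le_pCore_of_isSubnormal (h _) P.2
  have h2 : (P : Subgroup G) = Cfsg.pCore p G :=
    le_antisymm h1 (CfsgLib.Coprime.pCore_le_sylow P)
  rw [h2]
  exact CfsgLib.Coprime.pCore_normal' p

end Cfsg.Agent.S0064
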