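import Cfsg.Statements.S0068
import Cfsg.Agent.Lib.Coprime.FpfAction

set_option autoImplicit false
open Cfsg

namespace Cfsg.Agent.S0068

/-- Frobenius complements of even order: if H complements a nontrivial normal subgroup K, each nonidentity element of H has trivial centraliser in K, and H has even order, then H contains a unique involution s, K is abelian, and s inverts every element of K. -/
theorem result {G : Type*} [Group G] [Finite G] (K H : Subgroup G) [K.Normal]
    (hc : Subgroup.IsComplement' K H) (hK : K ≠ ⊥) (hfpf : ∀ h ∈ H, h ≠ 1 → K ⊓ Subgroup.centralizer {h} = ⊥)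
    (heven : 2 ∣ Nat.card H) :
    (∃ s ∈ H, orderOf s = 2 ∧ (∀ t ∈ H, orderOf t = 2 → t = s) ∧ ∀ k ∈ K, s * k * s⁻¹ = k⁻¹) ∧ IsMulCommutative K := by
  haveI := Fact.mk Nat.prime_two
  obtain ⟨⟨s, hs⟩, hs2⟩ := exists_prime_orderOf_dvd_card' (G := H) 2 heven
  have hs2' : orderOf s = 2 := (Subgroup.orderOf_coe (⟨s, hs⟩ : H)).trans hs2
  have h : CfsgLib.Coprime.IsFpfOn H K := hfpf
  have hHK : H ≤ Subgroup.normalizer (K : Set G) := by rw [Subgroup.normalizer_eq_top]; exact le_top
  refine ⟨⟨s, hs, hs2', fun t ht ht2 => h.unique_involution hHK hK hs ht hs2' ht2,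
    h.involution_inverts hHK hs hs2'⟩, ⟨⟨fun a b => Subtype.ext ?_⟩⟩⟩
  have e := h.involution_inverts hHK hs hs2'
  have e3 := e ((a : G) * b) (mul_mem a.2 b.2)
  have e4 : s * ((a : G) * b) * s⁻¹ = (a : G)⁻¹ * (b : G)⁻¹ := by
    rw [← e a a.2, ← e b b.2]; group
  rw [e4] at e3
  have := congrArg Inv.inv e3
  simpa [mul_inv_rev] using this.symm

end Cfsg.Agent.S0068
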