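import Cfsg.Statements.S0077
import Cfsg.Agent.Lib.Fusion.Transfer

set_option autoImplicit false
open Cfsg

namespace Cfsg.Agent.S0077

/-- If a subgroup Z of the centre of a Sylow p-subgroup P is weakly closed in P, then P meets the derived subgroup of G exactly where it meets the derived subgroup of the normalizer of Z. -/
theorem result {G : Type*} [Group G] [Finite G] {p : ℕ} [Fact p.Prime] (P : Sylow p G) (Z : Subgroup G) (hZ : Z ≤ Subgroup.centralizer (P : Set G)) (hW : Cfsg.IsWeaklyClosed Z P) : commutator G ⊓ (P : Subgroup G) = ⁅Subgroup.normalizer (Z : Set G), Subgroup.normalizer (Z : Set G)⁆ ⊓ (P : Subgroup G) := by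
  have hPN : (P : Subgroup G) ≤ Subgroup.normalizer (Z : Set G) := by
    intro u hu
    refine Subgroup.mem_normalizer_iff.2 fun z => ?_
    have key : ∀ w ∈ Z, u * w * u⁻¹ = w := fun w hw => by
      rw [mul_inv_eq_iff_eq_mul]
      exact (Subgroup.mem_centralizer_iff.1 (hZ hw) u hu)
    refine ⟨fun h => by rwa [key z h], fun h => ?_⟩
    have h2 := key _ h
    have h3 : u * z * u⁻¹ = z := mul_left_cancel (a := u) (mul_right_cancel (b := u⁻¹) h2)
    rwa [h3] at h
  refine le_antisymm ?_ (inf_le_inf_right _ (Subgroup.commutator_mono le_top le_top))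
  refine le_inf ?_ inf_le_right
  rw [CfsgLib.Fusion.commutator_inf_eq_focal (CfsgLib.Fusion.coprime_card_focalQuotient P)]
  refine le_trans (CfsgLib.Fusion.focalSubgroup_le_of_control (N := Subgroup.normalizer (Z : Set G))
    fun x hx g hy => ?_) (Subgroup.commutator_mono hPN le_rfl)
  set y := g * x * g⁻¹ with hy'
  set C := Subgroup.centralizer ({y} : Set G)
  have hgZ : CfsgLib.Fusion.conjBy g Z ≤ C := by
    refine CfsgLib.Fusion.conjBy_le_iff.2 fun z hz => Subgroup.mem_centralizer_iff.2 fun w hw => ?_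
    rw [Set.mem_singleton_iff.1 hw, hy']
    have h := Subgroup.mem_centralizer_iff.1 (hZ hz) x hx
    rw [show g * x * g⁻¹ * (g * z * g⁻¹) = g * (x * z) * g⁻¹ by group, h]
    group
  have hZC : Z ≤ C := fun z hz => Subgroup.mem_centralizer_iff.2 fun w hw => by
    rw [Set.mem_singleton_iff.1 hw]
    exact Subgroup.mem_centralizer_iff.1 (hZ hz) y hy
  obtain ⟨T, hZT, hTC, hTp, hTi⟩ :=
    CfsgLib.Fusion.exists_le_not_dvd_relIndex (P.2.to_le hW.1) hZC
  obtain ⟨c, hc, hc2⟩ := CfsgLib.Fusion.exists_conj_le_of_not_dvd_relIndex hTp hTC hTi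
    (CfsgLib.Fusion.isPGroup_conjBy g (P.2.to_le hW.1)) hgZ
  obtain ⟨S, hS⟩ := hTp.exists_le_sylow
  obtain ⟨h, hh⟩ := MulAction.exists_smul_eq G S P
  have hhP : CfsgLib.Fusion.conjBy h (S : Subgroup G) = P := by rw [← hh]; rfl
  have hTP : CfsgLib.Fusion.conjBy h T ≤ (P : Subgroup G) :=
    (CfsgLib.Fusion.conjBy_mono hS).trans hhP.le
  have h1 : CfsgLib.Fusion.conjBy h Z = Z :=
    hW.2 h ((CfsgLib.Fusion.conjBy_mono hZT).trans hTP)
  rw [CfsgLib.Fusion.conjBy_conjBy] at hc2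
  have h2 : CfsgLib.Fusion.conjBy h (CfsgLib.Fusion.conjBy (c * g) Z) = Z := by
    rw [CfsgLib.Fusion.conjBy_conjBy]
    refine hW.2 _ ?_
    show CfsgLib.Fusion.conjBy (h * (c * g)) Z ≤ (P : Subgroup G)
    rw [← CfsgLib.Fusion.conjBy_conjBy]
    exact (CfsgLib.Fusion.conjBy_mono hc2).trans hTP
  have h3 : CfsgLib.Fusion.conjBy (c * g) Z = Z := by
    have h4 := congrArg (CfsgLib.Fusion.conjBy h⁻¹) (h2.trans h1.symm)
    simpa only [CfsgLib.Fusion.conjBy_inv_conjBy] using h4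
  refine ⟨c * g, CfsgLib.Fusion.conjBy_eq_iff.1 h3, ?_⟩
  have h5 := Subgroup.mem_centralizer_iff.1 hc y rfl
  rw [show c * g * x * (c * g)⁻¹ = c * y * c⁻¹ by rw [hy']; group, ← h5]
  group

end Cfsg.Agent.S0077
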