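import Cfsg.Statements.S0078
import Cfsg.Agent.Lib.Fusion.AlperinTame
import Cfsg.Agent.Lib.Fusion.System.HyperfocalGroup
import Cfsg.Agent.Lib.Fusion.System.GroupResidual
import Cfsg.Agent.Lib.Fusion.Residual

set_option autoImplicit false
open Cfsg

namespace Cfsg.Agent.S0078

/-- In a p-normal group, a Sylow p-subgroup P meets O^p(G) exactly where it meets O^p(V), for any subgroup V containing the normalizer of the centre of P. -/
theorem result {G : Type*} [Group G] [Finite G] {p : ℕ} [Fact p.Prime] (P : Sylow p G) (hn : ∀ Q : Sylow p G, (P : Subgroup G) ⊓ Subgroup.centralizer (P : Set G) ≤ (Q : Subgroup G) → (Q : Subgroup G) ⊓ Subgroup.centralizer (Q : Set G) = (P : Subgroup G) ⊓ Subgroup.centralizer (P : Set G)) (V : Subgroup G) (hV : Subgroup.normalizer (((P : Subgroup G) ⊓ Subgroup.centralizer (P : Set G) : Subgroup G) : Set G) ≤ V) : (P : Subgroup G) ⊓ Cfsg.pResidual p G = (P : Subgroup G) ⊓ (Cfsg.pResidual p V).map V.subtype := by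
  set Z := (P : Subgroup G) ⊓ Subgroup.centralizer (P : Set G) with hZdef
  have hPV : (P : Subgroup G) ≤ V := fun x hx => hV (by
    refine Subgroup.centralizer_le_normalizer _ (Subgroup.mem_centralizer_iff.2 fun z hz => ?_)
    exact (Subgroup.mem_centralizer_iff.1 hz.2 x hx).symm)
  -- fusion is controlled by the normalizer of the centre
  have hctrl : ∀ X : Subgroup G, X ≤ (P : Subgroup G) → ∀ g : G,
      (∀ x ∈ X, g * x * g⁻¹ ∈ (P : Subgroup G)) → ∃ n ∈ V, ∀ x ∈ X, n * x * n⁻¹ = g * x * g⁻¹ := by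
    intro X hX g hg
    set C := Subgroup.centralizer ((fun x => g * x * g⁻¹) '' (X : Set G)) with hC
    have hZ1 : Z ≤ C := fun z hz => Subgroup.mem_centralizer_iff.2 (by
      rintro _ ⟨x, hx, rfl⟩
      exact Subgroup.mem_centralizer_iff.1 hz.2 _ (hg x hx))
    have hZ2 : CfsgLib.Fusion.conjBy g Z ≤ C := by
      rw [CfsgLib.Fusion.conjBy_le_iff]
      intro z hz
      refine Subgroup.mem_centralizer_iff.2 ?_
      rintro _ ⟨x, hx, rfl⟩
      have h1 := Subgroup.mem_centralizer_iff.1 hz.2 x (hX hx)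
      calc g * x * g⁻¹ * (g * z * g⁻¹) = g * (x * z) * g⁻¹ := by group
        _ = _ := by rw [h1]; group
    have hZp : IsPGroup p Z := P.2.to_le inf_le_left
    obtain ⟨Q, hZQ, hQ⟩ := CfsgLib.Fusion.exists_sylow_normalizer hZp hZ1
    obtain ⟨c, hc, hle⟩ := CfsgLib.Fusion.exists_conj_le_of_not_dvd_relIndex
      (Q.2.to_le (inf_le_left : (Q : Subgroup G) ⊓ C ≤ (Q : Subgroup G))) inf_le_right hQ
      (CfsgLib.Fusion.isPGroup_conjBy g hZp) hZ2
    rw [CfsgLib.Fusion.conjBy_conjBy] at hle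
    set Q' : Sylow p G := (c * g)⁻¹ • Q with hQ'
    have hQ'e : (Q' : Subgroup G) = CfsgLib.Fusion.conjBy (c * g)⁻¹ (Q : Subgroup G) := by
      rw [hQ']; rfl
    have hZQ' : Z ≤ (Q' : Subgroup G) := by
      rw [hQ'e, ← CfsgLib.Fusion.conjBy_inv_conjBy (c * g) Z]
      exact CfsgLib.Fusion.conjBy_mono (hle.trans inf_le_left)
    have e1 := hn Q hZQ
    have e2 := hn Q' hZQ'
    have hmem : c * g ∈ Subgroup.normalizer (Z : Set G) := by
      rw [← CfsgLib.Fusion.conjBy_eq_iff]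
      refine CfsgLib.Fusion.conjBy_eq_of_le (CfsgLib.Fusion.conjBy_le_iff.2 fun z hz => ?_)
      show _ ∈ Z
      rw [← (e1 : _ = Z)]
      rw [← (e2 : _ = Z)] at hz
      obtain ⟨hzQ', hzC'⟩ := hz
      have hzQ : z ∈ (Q' : Subgroup G) := hzQ'
      have hzC : z ∈ Subgroup.centralizer ((Q' : Subgroup G) : Set G) := hzC'
      rw [hQ'e] at hzQ hzC
      obtain ⟨w, hw, rfl⟩ := hzQ
      refine ⟨by simpa [mul_assoc] using hw, Subgroup.mem_centralizer_iff.2 fun q hq => ?_⟩
      have h1 := Subgroup.mem_centralizer_iff.1 hzC _ ⟨q, hq, rfl⟩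
      simp only [MulEquiv.coe_toMonoidHom, MulAut.conj_apply, inv_inv] at h1 ⊢
      calc q * (c * g * ((c * g)⁻¹ * w * (c * g)) * (c * g)⁻¹)
          = (c * g) * (((c * g)⁻¹ * q * (c * g)) * ((c * g)⁻¹ * w * (c * g))) * (c * g)⁻¹ := by group
        _ = _ := by rw [h1]; group
    refine ⟨c * g, hV hmem, fun x hx => ?_⟩
    have h2 := Subgroup.mem_centralizer_iff.1 hc _ ⟨x, hx, rfl⟩
    calc c * g * x * (c * g)⁻¹ = (c * (g * x * g⁻¹)) * c⁻¹ := by group
      _ = g * x * g⁻¹ := by rw [← h2, mul_inv_cancel_right]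
  haveI := CfsgLib.Fusion.pResidual_normal (G := V) (p := p)
  refine le_antisymm ?_ ?_
  · refine le_inf inf_le_left ?_
    rw [← CfsgLib.Fusion.hyperfocal_group P]
    refine (Subgroup.closure_le _).2 ?_
    rintro _ ⟨R, α, x, hRP, hα, rfl⟩
    -- residual automorphisms come from the residual of `V`
    have hres : ∀ a ∈ Cfsg.pResidual p ((Cfsg.groupFusionSystem (P : Subgroup G)).autGroup R),
        ∃ m ∈ Cfsg.pResidual p V, ∀ y ∈ R,
          CfsgLib.Fusion.autFun (a : MulAut R) y = (m : G) * y * (m : G)⁻¹ := by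
      intro a ha
      unfold Cfsg.pResidual at ha
      induction ha using Subgroup.closure_induction with
      | mem a ha =>
          obtain ⟨g₀, -, hg₀⟩ := CfsgLib.Fusion.mem_autInducedBy_iff.1
            ((CfsgLib.Fusion.autGroup_group hRP).le a.2)
          obtain ⟨n, hnV, hne⟩ := hctrl R hRP g₀ fun y hy => by
            rw [← hg₀ y hy]; exact hRP (CfsgLib.Fusion.autFun_mem _ hy)
          obtain ⟨k, hk⟩ := CfsgLib.Fusion.exists_pow_p_mem_pResidual (p := p) (⟨n, hnV⟩ : V)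
          have hg : ∀ y ∈ R, CfsgLib.Fusion.autFun (a : MulAut R) y = n * y * n⁻¹ := fun y hy => by
            rw [hg₀ y hy, hne y hy]
          obtain ⟨m, hm⟩ := exists_pow_eq_self_of_coprime (x := a) (n := p ^ k)
            (Nat.Coprime.pow_left k ha.symm)
          refine ⟨(⟨n, hnV⟩ ^ p ^ k) ^ m, pow_mem hk m, fun y hy => ?_⟩
          conv_lhs => rw [← hm, SubmonoidClass.coe_pow, SubmonoidClass.coe_pow, ← pow_mul]
          rw [← pow_mul, SubmonoidClass.coe_pow]
          generalize p ^ k * m = j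
          induction j generalizing y with
          | zero => simp [CfsgLib.Fusion.autFun_one hy]
          | succ j ih =>
              rw [pow_succ, CfsgLib.Fusion.autFun_mul _ _ hy, ih _ (CfsgLib.Fusion.autFun_mem _ hy),
                hg y hy, pow_succ n j]
              simp only [mul_inv_rev, mul_assoc]
      | one => exact ⟨1, one_mem _, fun y hy => by simp [CfsgLib.Fusion.autFun_one hy]⟩
      | mul a b _ _ ha hb =>
          obtain ⟨m, hm, hme⟩ := ha
          obtain ⟨m', hm', hme'⟩ := hb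
          refine ⟨m * m', mul_mem hm hm', fun y hy => ?_⟩
          rw [Subgroup.coe_mul, CfsgLib.Fusion.autFun_mul _ _ hy,
            hme _ (CfsgLib.Fusion.autFun_mem _ hy), hme' y hy, Subgroup.coe_mul]
          group
      | inv a _ ha =>
          obtain ⟨m, hm, hme⟩ := ha
          refine ⟨m⁻¹, inv_mem hm, fun y hy => ?_⟩
          have h1 := hme _ (CfsgLib.Fusion.autFun_mem (a : MulAut R)⁻¹ hy)
          rw [CfsgLib.Fusion.autFun_inv_apply _ hy] at h1
          rw [InvMemClass.coe_inv, InvMemClass.coe_inv]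
          conv_rhs => rw [h1]
          group
    obtain ⟨m, hm, hme⟩ := hres α hα
    refine ⟨(⟨(x : G), hPV (hRP x.2)⟩ : V)⁻¹ * (m * ⟨(x : G), hPV (hRP x.2)⟩ * m⁻¹), ?_, ?_⟩
    · have e : (⟨(x : G), hPV (hRP x.2)⟩ : V)⁻¹ * (m * ⟨(x : G), hPV (hRP x.2)⟩ * m⁻¹) =
          ((⟨(x : G), hPV (hRP x.2)⟩ : V)⁻¹ * m * (⟨(x : G), hPV (hRP x.2)⟩ : V)⁻¹⁻¹) * m⁻¹ := by group
      rw [e]
      exact mul_mem (Subgroup.Normal.conj_mem inferInstance m hm _) (inv_mem hm)
    · show (x : G)⁻¹ * ((m : G) * x * (m : G)⁻¹) = _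
      rw [← hme x x.2, CfsgLib.Fusion.autFun_coe]
  · refine inf_le_inf_left _ ?_
    rw [Cfsg.pResidual, MonoidHom.map_closure]
    refine Subgroup.closure_mono ?_
    rintro _ ⟨x, hx, rfl⟩
    show (orderOf (x : G)).Coprime p
    rw [Subgroup.orderOf_coe]
    exact hx

end Cfsg.Agent.S0078
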