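import Cfsg.Statements.S0082
import Cfsg.Agent.Lib.Fusion.Transfer

set_option autoImplicit false
open Cfsg

namespace Cfsg.Agent.S0082

/-- With a cyclic Sylow p-subgroup, either there is a normal p-complement or the elements of order prime to p generate the whole group. -/
theorem result {G : Type*} [Group G] [Finite G] {p : ℕ} [Fact p.Prime] (P : Sylow p G) (hP : IsCyclic P) : Cfsg.HasNormalPComplement p G ∨ Cfsg.pResidual p G = ⊤ := by
  haveI := hP
  have hcomm : IsMulCommutative (P : Subgroup G) := IsCyclic.commutative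
  by_cases hN : Subgroup.normalizer ((P : Subgroup G) : Set G) ≤
      Subgroup.centralizer ((P : Subgroup G) : Set G)
  · exact Or.inl (CfsgLib.Fusion.hasNormalPComplement_of_normalizer_le_centralizer P hN)
  refine Or.inr ?_
  obtain ⟨q, hq, n, hnN, ⟨k, hk⟩, hnC⟩ : ∃ q : ℕ, q.Prime ∧
      ∃ n ∈ Subgroup.normalizer ((P : Subgroup G) : Set G), (∃ k, n ^ q ^ k = 1) ∧
        n ∉ Subgroup.centralizer ((P : Subgroup G) : Set G) := by
    by_contra hcon
    exact hN (CfsgLib.Fusion.le_of_forall_prime_pow fun q hq x hx hk => by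
      by_contra hx'
      exact hcon ⟨q, hq, x, hx, hk, hx'⟩)
  have hPC : ∀ u ∈ (P : Subgroup G), u ∈ Subgroup.centralizer ((P : Subgroup G) : Set G) :=
    fun u hu => Subgroup.mem_centralizer_iff.2 fun v hv =>
      congrArg Subtype.val (hcomm.is_comm.comm (⟨v, hv⟩ : (P : Subgroup G)) ⟨u, hu⟩)
  have hqp : Nat.Coprime (orderOf n) p := by
    rcases eq_or_ne q p with rfl | hne
    · refine absurd (hPC n ?_) hnC
      have hz : IsPGroup q (Subgroup.zpowers n) :=
        by
        obtain ⟨j, -, hj⟩ := (Nat.dvd_prime_pow hq).1 (orderOf_dvd_of_pow_eq_one hk)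
        exact IsPGroup.of_card ((Nat.card_zpowers n).trans hj)
      haveI := Fact.mk hq
      have hzN : Subgroup.zpowers n ≤ Subgroup.normalizer ((P : Subgroup G) : Set G) :=
        Subgroup.zpowers_le.2 hnN
      obtain ⟨c, hc, hc2⟩ := CfsgLib.Fusion.exists_conj_le_of_not_dvd_relIndex P.2
        Subgroup.le_normalizer (fun hd => P.not_dvd_index (hd.trans
          (Subgroup.relIndex_dvd_index_of_le Subgroup.le_normalizer))) hz hzN
      exact (Subgroup.mem_normalizer_iff.1 hc n).2
        (CfsgLib.Fusion.conjBy_le_iff.1 hc2 n (Subgroup.mem_zpowers n))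
    · refine Nat.Coprime.coprime_dvd_left (orderOf_dvd_of_pow_eq_one hk) (Nat.Coprime.pow_left k ?_)
      exact (Nat.coprime_primes hq Fact.out).2 hne
  have mem : ∀ u : (P : Subgroup G), n * u * n⁻¹ * (u : G)⁻¹ ∈ (P : Subgroup G) := fun u =>
    mul_mem ((Subgroup.mem_normalizer_iff.1 hnN u).1 u.2) (inv_mem u.2)
  let φ : (P : Subgroup G) →* (P : Subgroup G) :=
    { toFun := fun u => ⟨n * u * n⁻¹ * (u : G)⁻¹, mem u⟩
      map_one' := by ext; simp
      map_mul' := fun u v => by
        ext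
        have e := Subgroup.mem_centralizer_iff.1 (hPC _ (inv_mem u.2)) _ (mem v)
        calc n * ((u : G) * v) * n⁻¹ * ((u : G) * v)⁻¹
            = n * u * n⁻¹ * ((n * v * n⁻¹ * (v : G)⁻¹) * (u : G)⁻¹) := by group
          _ = n * u * n⁻¹ * ((u : G)⁻¹ * (n * v * n⁻¹ * (v : G)⁻¹)) := by rw [e]
          _ = n * u * n⁻¹ * (u : G)⁻¹ * (n * v * n⁻¹ * (v : G)⁻¹) := by group }
  have hdis : ∀ z : (P : Subgroup G), z ∈ φ.range → z ∈ φ.ker → z = 1 := by
    rintro z ⟨u, rfl⟩ hz
    apply Subtype.ext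
    have hz' : n * (φ u : G) * n⁻¹ * (φ u : G)⁻¹ = 1 := congrArg Subtype.val hz
    refine CfsgLib.Fusion.eq_one_of_conj_eq_mul (n := n) (x := (u : G)) ?_ ?_ ?_ ?_
    · rw [mul_inv_eq_one, mul_inv_eq_iff_eq_mul] at hz'
      exact hz'.symm
    · exact congrArg Subtype.val (hcomm.is_comm.comm (φ u) u)
    · show n * u * n⁻¹ = n * u * n⁻¹ * (u : G)⁻¹ * u
      group
    · rw [Subgroup.orderOf_coe]
      obtain ⟨j, hj⟩ := P.2 (φ u)
      exact Nat.Coprime.coprime_dvd_left (orderOf_dvd_of_pow_eq_one hj)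
        (Nat.Coprime.pow_left j hqp.symm)
  have hker : φ.ker = ⊥ := by
    by_contra hne
    have hKp : IsPGroup p φ.ker := P.2.to_subgroup _
    have hIp : IsPGroup p φ.range := P.2.to_subgroup _
    have hrne : φ.range ≠ ⊥ := by
      intro hr
      refine hnC (Subgroup.mem_centralizer_iff.2 fun u hu => ?_)
      have h1 : φ ⟨u, hu⟩ ∈ φ.range := ⟨_, rfl⟩
      rw [hr, Subgroup.mem_bot] at h1
      have h2 : n * u * n⁻¹ * u⁻¹ = 1 := congrArg Subtype.val h1
      rw [mul_inv_eq_one, mul_inv_eq_iff_eq_mul] at h2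
      exact h2.symm
    haveI : Nontrivial φ.ker := (Subgroup.nontrivial_iff_ne_bot _).2 hne
    haveI : Nontrivial φ.range := (Subgroup.nontrivial_iff_ne_bot _).2 hrne
    obtain ⟨a, ha⟩ := exists_prime_orderOf_dvd_card' p (G := φ.ker)
      (by obtain ⟨j, hj⟩ := hKp.exists_card_eq
          rw [hj]; refine dvd_pow_self p fun h0 => ?_
          rw [h0, pow_zero] at hj
          exact absurd hj (Finite.one_lt_card).ne')
    obtain ⟨b, hb⟩ := exists_prime_orderOf_dvd_card' p (G := φ.range)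
      (by obtain ⟨j, hj⟩ := hIp.exists_card_eq
          rw [hj]; refine dvd_pow_self p fun h0 => ?_
          rw [h0, pow_zero] at hj
          exact absurd hj (Finite.one_lt_card).ne')
    rw [← Subgroup.orderOf_coe] at ha hb
    letI : CommGroup (P : Subgroup G) := { mul_comm := hcomm.is_comm.comm }
    have hE := IsCyclic.card_powMonoidHom_ker (G := (P : Subgroup G)) p
    have hle : ∀ z : (P : Subgroup G), orderOf z = p →
        Subgroup.zpowers z ≤ (powMonoidHom p : (P : Subgroup G) →* _).ker := fun z hz =>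
      Subgroup.zpowers_le.2 ((congrArg (z ^ ·) hz).symm.trans (pow_orderOf_eq_one z))
    have heq : Subgroup.zpowers (a : (P : Subgroup G)) =
        (powMonoidHom p : (P : Subgroup G) →* _).ker := by
      refine Subgroup.eq_of_le_of_card_ge (hle _ ha) ?_
      rw [Nat.card_zpowers, ha, hE]
      exact Nat.le_of_dvd (Fact.out : p.Prime).pos (Nat.gcd_dvd_right _ _)
    have hbK : (b : (P : Subgroup G)) ∈ φ.ker :=
      (Subgroup.zpowers_le.2 a.2) (heq ▸ hle _ hb (Subgroup.mem_zpowers _))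
    rw [hdis _ b.2 hbK, orderOf_one] at hb
    exact (Fact.out : p.Prime).one_lt.ne hb
  have hsurj : Function.Surjective φ :=
    Finite.injective_iff_surjective.1 ((MonoidHom.ker_eq_bot_iff φ).1 hker)
  have hle : (P : Subgroup G) ≤ Cfsg.pResidual p G := by
    refine le_trans ?_ (CfsgLib.Fusion.inf_pResidual_abelian_sylow P hcomm).ge |>.trans inf_le_right
    intro u hu
    obtain ⟨v, hv⟩ := hsurj ⟨u, hu⟩
    have hv' : n * v * n⁻¹ * (v : G)⁻¹ = u := congrArg Subtype.val hv
    rw [← hv', ← commutatorElement_def, Subgroup.commutator_comm]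
    exact Subgroup.commutator_mem_commutator hnN v.2
  rw [← CfsgLib.Fusion.pResidual_sup_sylow P, sup_eq_left.2 hle]

end Cfsg.Agent.S0082
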