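import Cfsg.Statements.S0083
import Cfsg.Agent.Lib.Fusion.Transfer

set_option autoImplicit false
open Cfsg

namespace Cfsg.Agent.S0083

/-- For an abelian Sylow p-subgroup P, a normal p-complement exists exactly when the normalizer of P is an internal direct product of P with some subgroup. -/
theorem result {G : Type*} [Group G] [Finite G] {p : ℕ} [Fact p.Prime] (P : Sylow p G) (hP : IsMulCommutative P) : Cfsg.HasNormalPComplement p G ↔ ∃ Q : Subgroup G, Q ≤ Subgroup.centralizer (P : Set G) ∧ Q ⊓ (P : Subgroup G) = ⊥ ∧ Q ⊔ (P : Subgroup G) = Subgroup.normalizer (P : Set G) := by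
  constructor
  · intro h
    have hc := CfsgLib.Fusion.hasNormalPComplement_iff_forall_sylow.1 h P
    haveI := CfsgLib.Fusion.pResidual_normal (G := G) (p := p)
    refine ⟨Cfsg.pResidual p G ⊓ Subgroup.normalizer ((P : Subgroup G) : Set G), ?_,
      eq_bot_iff.2 (le_trans (inf_le_inf_right _ inf_le_left) hc.disjoint.eq_bot.le), ?_⟩
    · rintro x ⟨hx, hxN⟩
      refine Subgroup.mem_centralizer_iff.2 fun u hu => ?_
      have h1 : x * u * x⁻¹ * u⁻¹ ∈ Cfsg.pResidual p G ⊓ (P : Subgroup G) := by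
        refine ⟨?_, mul_mem ((Subgroup.mem_normalizer_iff.1 hxN u).1 hu) ((P : Subgroup G).inv_mem hu)⟩
        rw [show x * u * x⁻¹ * u⁻¹ = x * (u * x⁻¹ * u⁻¹) by group]
        exact mul_mem hx (Subgroup.Normal.conj_mem inferInstance _ (inv_mem hx) u)
      rw [hc.disjoint.eq_bot, Subgroup.mem_bot, mul_inv_eq_one, mul_inv_eq_iff_eq_mul] at h1
      exact h1.symm
    · refine le_antisymm (sup_le inf_le_right Subgroup.le_normalizer) fun x hx => ?_
      have hm := hc.sup_eq_top.symm ▸ Subgroup.mem_top x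
      obtain ⟨k, hk, u, hu, rfl⟩ := Subgroup.mem_sup_of_normal_left.1 hm
      refine Subgroup.mul_mem_sup ⟨hk, ?_⟩ hu
      simpa using mul_mem hx (inv_mem (Subgroup.le_normalizer hu))
  · rintro ⟨Q, hQ, -, hs⟩
    refine CfsgLib.Fusion.hasNormalPComplement_of_normalizer_le_centralizer P ?_
    refine (le_of_eq hs.symm).trans ?_
    exact sup_le hQ fun u hu => Subgroup.mem_centralizer_iff.2 fun v hv =>
      congrArg Subtype.val (hP.is_comm.comm (⟨v, hv⟩ : (P : Subgroup G)) ⟨u, hu⟩)

end Cfsg.Agent.S0083
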