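import Cfsg.Statements.S0084
import Cfsg.Agent.Lib.Fusion.Abelian

set_option autoImplicit false
open Cfsg

namespace Cfsg.Agent.S0084

/-- A group whose Sylow 2-subgroups are Klein four-groups and whose order is prime to 3 has a normal 2-complement. -/
theorem result {G : Type*} [Group G] [Finite G] (T : Sylow 2 G) (hT : IsKleinFour T) (h3 : ¬ 3 ∣ Nat.card G) : Cfsg.HasNormalPComplement 2 G := by
  haveI := hT
  refine CfsgLib.Fusion.hasNormalPComplement_of_abelian_of_not_dvd T ?_ (a := 2) ?_ ?_
  · exact ⟨⟨fun a b => mul_comm_of_exponent_two IsKleinFour.exponent_two a b⟩⟩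
  · exact IsKleinFour.card_four
  · intro q hq hq2 hqG i hi1 hi2 hd
    interval_cases i
    · exact hq.one_lt.ne' (Nat.dvd_one.1 hd)
    · exact h3 (((Nat.prime_dvd_prime_iff_eq hq Nat.prime_three).1 hd) ▸ hqG)

end Cfsg.Agent.S0084
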