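import Cfsg.Statements.S0085
import Cfsg.Agent.Lib.Fusion.Abelian

set_option autoImplicit false
open Cfsg

namespace Cfsg.Agent.S0085

/-- A group whose Sylow 2-subgroups are elementary abelian of order 8 and whose order is prime to 3 and to 7 has a normal 2-complement. -/
theorem result {G : Type*} [Group G] [Finite G] (T : Sylow 2 G) (h8 : Nat.card T = 8) (he : ∀ x : T, x * x = 1) (h3 : ¬ 3 ∣ Nat.card G) (h7 : ¬ 7 ∣ Nat.card G) : Cfsg.HasNormalPComplement 2 G := by
  refine CfsgLib.Fusion.hasNormalPComplement_of_abelian_of_not_dvd T ?_ (a := 3) h8 ?_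
  · refine ⟨⟨fun a b => ?_⟩⟩
    have hi : ∀ c : T, c⁻¹ = c := fun c => inv_eq_of_mul_eq_one_right (he c)
    calc a * b = (a * b)⁻¹ := (hi _).symm
      _ = b⁻¹ * a⁻¹ := mul_inv_rev a b
      _ = b * a := by rw [hi, hi]
  · intro q hq hq2 hqG i hi1 hi2 hd
    have hi : i = 1 ∨ i = 2 ∨ i = 3 := by omega
    rcases hi with rfl | rfl | rfl
    · exact hq.one_lt.ne' (Nat.dvd_one.1 hd)
    · exact h3 (((Nat.prime_dvd_prime_iff_eq hq Nat.prime_three).1 hd) ▸ hqG)
    · exact h7 (((Nat.prime_dvd_prime_iff_eq hq (by decide : Nat.Prime 7)).1 hd) ▸ hqG)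

end Cfsg.Agent.S0085
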