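import Cfsg.Statements.S0087
import Cfsg.Agent.Lib.Fusion.Hall

set_option autoImplicit false
open Cfsg

namespace Cfsg.Agent.S0087

/-- A Hall subgroup that is central in its normalizer has a normal complement. -/
theorem result {G : Type*} [Group G] [Finite G] (H : Subgroup G) (hHall : Nat.Coprime (Nat.card H) H.index) (h : Subgroup.normalizer (H : Set G) ≤ Subgroup.centralizer (H : Set G)) : ∃ N : Subgroup G, N.Normal ∧ N.IsComplement' H := by
  have hHc : IsMulCommutative H :=
    ⟨⟨fun a b => Subtype.ext
      ((Subgroup.mem_centralizer_iff.1 (h (Subgroup.le_normalizer b.2)) a a.2))⟩⟩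
  refine CfsgLib.Fusion.exists_normal_complement_of_nilpotent_hall H ?_ hHall ?_
  · letI : CommGroup H := { mul_comm := hHc.is_comm.comm }
    exact CommGroup.isNilpotent
  · rintro x hx y hy ⟨g, rfl⟩
    exact ⟨1, one_mem _, by
      simp [CfsgLib.Fusion.eq_of_conj_of_hall_central H hHall h hx g hy]⟩

end Cfsg.Agent.S0087
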