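import Cfsg.Statements.S0089
import Cfsg.Agent.Lib.Fusion.Abelian

set_option autoImplicit false
open Cfsg

namespace Cfsg.Agent.S0089

/-- When all Sylow subgroups are abelian, the derived subgroup meets the centre trivially. -/
theorem result {G : Type*} [Group G] [Finite G] (h : ∀ p : ℕ, p.Prime → ∀ P : Sylow p G, IsMulCommutative P) : commutator G ⊓ Subgroup.center G = ⊥ := by
  rw [eq_bot_iff]
  rintro x ⟨hx, hxc⟩
  rw [Subgroup.mem_bot, ← orderOf_eq_one_iff]
  by_contra hne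
  obtain ⟨p, hp, hpd⟩ := Nat.exists_prime_and_dvd hne
  haveI := Fact.mk hp
  obtain ⟨d, hd⟩ := hpd
  have hd0 : d ≠ 0 := fun h0 => (orderOf_pos x).ne' (by rw [hd, h0, mul_zero])
  have ho : orderOf (x ^ d) = p := by
    rw [orderOf_pow_of_dvd hd0 ⟨p, by rw [hd, mul_comm]⟩, hd,
      Nat.mul_div_cancel _ (Nat.pos_of_ne_zero hd0)]
  have hz : IsPGroup p (Subgroup.zpowers (x ^ d)) :=
    IsPGroup.of_card (n := 1) (by rw [Nat.card_zpowers, ho, pow_one])
  obtain ⟨P, hP⟩ := hz.exists_le_sylow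
  haveI := h p hp P
  have hcop : Nat.Coprime (Nat.card (P : Subgroup G)) (P : Subgroup G).index := by
    obtain ⟨k, hk⟩ := P.2.exists_card_eq
    rw [hk]
    exact Nat.Coprime.pow_left k (hp.coprime_iff_not_dvd.2 P.not_dvd_index)
  have h1 := CfsgLib.Fusion.central_inf_commutator_eq_one (P : Subgroup G) hcop
    (pow_mem hxc d) (pow_mem hx d) (hP (Subgroup.mem_zpowers _))
  rw [h1, orderOf_one] at ho
  exact hp.one_lt.ne ho

end Cfsg.Agent.S0089
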