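import Cfsg.Statements.S0092
import Cfsg.Agent.Lib.Fusion.Transfer
import Cfsg.Agent.Lib.Coprime.Action
import Cfsg.Agent.Lib.Coprime.SchurZassenhaus

set_option autoImplicit false
open Cfsg
open scoped commutatorElement

namespace Cfsg.Agent.S0092

/-- If the Sylow p-subgroups of O^p(G) are abelian then G splits over O^p(G). -/
theorem result {G : Type*} [Group G] [Finite G] {p : ℕ} [Fact p.Prime] (h : ∀ Q : Sylow p (Cfsg.pResidual p G), IsMulCommutative Q) : ∃ K : Subgroup G, K.IsComplement' (Cfsg.pResidual p G) := by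
  set K := Cfsg.pResidual p G with hK
  haveI hKn : K.Normal := CfsgLib.Fusion.pResidual_normal
  have hperf : Cfsg.pResidual p K = ⊤ := by
    refine eq_top_iff.2 fun x _ => ?_
    obtain ⟨x, hx⟩ := x
    have h1 : x ∈ (Cfsg.pResidual p K).map K.subtype := by
      rw [Cfsg.pResidual, MonoidHom.map_closure]
      refine Subgroup.closure_mono ?_ (hK ▸ hx : x ∈ Cfsg.pResidual p G)
      intro g hg
      exact ⟨⟨g, Subgroup.subset_closure hg⟩, by show (orderOf _).Coprime p; rw [← Subgroup.orderOf_coe]; exact hg, rfl⟩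
    obtain ⟨y, hy, hyx⟩ := h1
    rwa [show (⟨x, hx⟩ : K) = y from Subtype.ext hyx.symm]
  obtain ⟨P⟩ : Nonempty (Sylow p K) := inferInstance
  have hP := h P
  have hfoc := CfsgLib.Fusion.inf_pResidual_abelian_sylow P hP
  rw [hperf, inf_top_eq] at hfoc
  set Q := (P : Subgroup K).map K.subtype with hQ
  have hQp : IsPGroup p Q := P.2.map _
  have hQab : IsMulCommutative Q := isMulCommutative_iff.2 fun a b => by
    obtain ⟨_, a, ha, rfl⟩ := a
    obtain ⟨_, b, hb, rfl⟩ := b
    exact Subtype.ext (congrArg (fun z : (P : Subgroup K) => ((z : K) : G))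
      (isMulCommutative_iff.1 hP ⟨a, ha⟩ ⟨b, hb⟩))
  set N := Subgroup.normalizer (Q : Set G) with hN
  set M := K ⊓ N with hM
  have hQM : Q ≤ M := le_inf (Subgroup.map_subtype_le _) Subgroup.le_normalizer
  -- a complement of `Q` in `M`
  haveI : (Q.subgroupOf M).Normal := Subgroup.normal_subgroupOf_of_le_normalizer inf_le_right
  have hcopM : Nat.Coprime (Nat.card (Q.subgroupOf M)) (Q.subgroupOf M).index := by
    obtain ⟨k, hk⟩ := hQp.exists_card_eq
    rw [Nat.card_congr (Subgroup.subgroupOfEquivOfLe hQM).toEquiv, hk]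
    refine Nat.Coprime.pow_left k ((Fact.out : p.Prime).coprime_iff_not_dvd.2 fun hd => P.not_dvd_index ?_)
    have h1 : Q.relIndex M ∣ Q.relIndex K := Dvd.intro _ (Subgroup.relIndex_mul_relIndex Q M K hQM inf_le_left)
    have h2 : Q.relIndex K = (P : Subgroup K).index := by
      rw [Subgroup.relIndex, hQ, Subgroup.subgroupOf, Subgroup.comap_map_eq_self_of_injective K.subtype_injective]
    exact h2 ▸ (hd.trans h1)
  obtain ⟨H', hH'⟩ := Subgroup.exists_left_complement'_of_coprime hcopM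
  set H := H'.map M.subtype with hH
  have hHM : H ≤ M := Subgroup.map_subtype_le _
  have hHQ : H ⊔ Q = M := by
    conv_lhs => rw [← Subgroup.map_subgroupOf_eq_of_le hQM, hH, ← Subgroup.map_sup, hH'.sup_eq_top]
    rw [← MonoidHom.range_eq_map, Subgroup.range_subtype]
  have hHN : H ≤ Subgroup.normalizer (Q : Set G) := hHM.trans inf_le_right
  have hHc : (Nat.card H).Coprime (Nat.card Q) := by
    rw [hH, Subgroup.card_map_of_injective M.subtype_injective, ← hH'.index_eq_card,
      ← Nat.card_congr (Subgroup.subgroupOfEquivOfLe hQM).toEquiv]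
    exact hcopM.symm
  -- `[Q, H] = Q`
  have hQH : Q ≤ ⁅Q, H⁆ := by
    have h1 : Q ≤ ⁅Q, M⁆ := by
      rintro _ ⟨x, hx, rfl⟩
      have h2 := Subgroup.mem_map_of_mem K.subtype (hfoc ▸ hx : x ∈ ⁅(P : Subgroup K), Subgroup.normalizer ((P : Subgroup K) : Set K)⁆)
      rw [Subgroup.map_commutator] at h2
      refine Subgroup.commutator_mono le_rfl ?_ h2
      exact le_inf (Subgroup.map_subtype_le _) (Subgroup.le_normalizer_map _)
    refine h1.trans (Subgroup.commutator_le.2 fun q hq m hm => ?_)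
    rw [← hHQ, ← SetLike.mem_coe, Subgroup.coe_mul_of_left_le_normalizer_right H Q hHN] at hm
    obtain ⟨a, ha, b, hb, rfl⟩ := hm
    have hqb : q * b = b * q := congrArg Subtype.val (isMulCommutative_iff.1 hQab ⟨q, hq⟩ ⟨b, hb⟩)
    have e : ⁅q, a * b⁆ = ⁅q, a⁆ * (a * ⁅q, b⁆ * a⁻¹) := by simp only [commutatorElement_def]; group
    rw [e, commutatorElement_eq_one_iff_mul_comm.2 hqb, mul_one, mul_inv_cancel, mul_one]
    exact Subgroup.commutator_mem_commutator hq ha
  have hfpf : Q ⊓ Subgroup.centralizer (H : Set G) = ⊥ := by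
    rw [← CfsgLib.Coprime.centralizer_inf_commutator_eq_bot hQab hHN hHc]
    exact (inf_eq_left.2 (inf_le_left.trans hQH)).symm
  -- conjugates of `H` by `N`
  set L := N ⊓ Subgroup.normalizer (H : Set G) with hL
  have hNL : ∀ n ∈ N, ∃ q ∈ Q, q * n ∈ L := by
    intro n hn
    have hB : CfsgLib.Coprime.conjBy n H ≤ H ⊔ Q := by
      rintro _ ⟨x, hx, rfl⟩
      rw [hHQ]
      exact ⟨hKn.conj_mem x (hHM hx).1 n, N.mul_mem (N.mul_mem hn (hHM hx).2) (N.inv_mem hn)⟩
    obtain ⟨q, hq, hqB⟩ := CfsgLib.Coprime.sz_conj_in hHN hHc.symm hB (CfsgLib.Coprime.card_conjBy n H)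
      (Or.inr (CfsgLib.Coprime.isSolvable_of_isMulCommutative hQab))
    refine ⟨q, hq, N.mul_mem ((Subgroup.le_normalizer : Q ≤ N) hq) hn, ?_⟩
    rw [CfsgLib.Coprime.conjBy_conjBy] at hqB
    exact CfsgLib.Coprime.conjBy_eq_self_iff.1 hqB
  have hLK : L ⊓ K ≤ H := by
    rintro x ⟨⟨hxN, hxH⟩, hxK⟩
    have hxM : x ∈ H ⊔ Q := hHQ.symm ▸ (⟨hxK, hxN⟩ : x ∈ M)
    rw [← SetLike.mem_coe, Subgroup.coe_mul_of_left_le_normalizer_right H Q hHN] at hxM
    obtain ⟨a, ha, b, hb, rfl⟩ := hxM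
    have hbH : b ∈ Subgroup.normalizer (H : Set G) := by
      have := mul_mem (inv_mem (Subgroup.le_normalizer ha)) hxH
      rwa [inv_mul_cancel_left] at this
    have hb1 : b ∈ Q ⊓ Subgroup.centralizer (H : Set G) := by
      refine ⟨hb, Subgroup.mem_centralizer_iff.2 fun c hc => ?_⟩
      have hmem : b * c * b⁻¹ * c⁻¹ ∈ H ⊓ Q := by
        refine ⟨H.mul_mem ((Subgroup.mem_normalizer_iff.1 hbH c).1 hc) (H.inv_mem hc), ?_⟩
        rw [mul_assoc b c, mul_assoc b]
        exact Q.mul_mem hb ((Subgroup.mem_normalizer_iff.1 (hHN hc) _).1 (Q.inv_mem hb))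
      rw [Subgroup.inf_eq_bot_of_coprime hHc, Subgroup.mem_bot, mul_inv_eq_one, mul_inv_eq_iff_eq_mul] at hmem
      exact hmem.symm
    rw [hfpf, Subgroup.mem_bot] at hb1
    simpa [hb1] using ha
  obtain ⟨T⟩ : Nonempty (Sylow p L) := inferInstance
  set U := (T : Subgroup L).map L.subtype with hU
  have hUK : U ⊓ K = ⊥ := by
    refine (Subgroup.eq_bot_iff_forall _).2 fun x hx => ?_
    have hxH : x ∈ H := hLK ⟨Subgroup.map_subtype_le _ hx.1, hx.2⟩
    obtain ⟨k, hk⟩ := (T.2.map L.subtype) ⟨x, hx.1⟩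
    have hk' : x ^ p ^ k = 1 := congrArg Subtype.val hk
    have hco : (Nat.card H).Coprime p := by
      refine Nat.Coprime.symm ((Fact.out : p.Prime).coprime_iff_not_dvd.2 fun hd => ?_)
      have h1 : p ∣ (Q.subgroupOf M).index := by
        rw [hH'.index_eq_card, ← Subgroup.card_map_of_injective M.subtype_injective]
        exact hd
      have h2 : Q.relIndex M ∣ Q.relIndex K := Dvd.intro _ (Subgroup.relIndex_mul_relIndex Q M K hQM inf_le_left)
      have h3 : Q.relIndex K = (P : Subgroup K).index := by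
        rw [Subgroup.relIndex, hQ, Subgroup.subgroupOf, Subgroup.comap_map_eq_self_of_injective K.subtype_injective]
      exact P.not_dvd_index (h3 ▸ (h1.trans h2))
    have hd : orderOf x ∣ Nat.card H := by
      have := orderOf_dvd_natCard (⟨x, hxH⟩ : H)
      rwa [Subgroup.orderOf_mk] at this
    exact orderOf_eq_one_iff.1 (Nat.eq_one_of_dvd_coprimes (hco.pow_right k) hd
      (orderOf_dvd_of_pow_eq_one hk'))
  -- `L` maps onto the quotient
  set π := QuotientGroup.mk' K with hπ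
  have hs : Function.Surjective (π.comp L.subtype) := by
    intro y
    obtain ⟨g, rfl⟩ := QuotientGroup.mk'_surjective K y
    have hg : g ∈ Subgroup.normalizer (Q : Set G) ⊔ K := by
      rw [hQ, Sylow.normalizer_sup_eq_top P]; exact Subgroup.mem_top g
    obtain ⟨n, hn, k, hk, rfl⟩ := Subgroup.mem_sup_of_normal_right.1 hg
    obtain ⟨q, hq, hqn⟩ := hNL n hn
    refine ⟨⟨q * n, hqn⟩, ?_⟩
    show π (q * n) = π (n * k)
    have hq1 : π q = 1 := (QuotientGroup.eq_one_iff q).2 (Subgroup.map_subtype_le _ hq)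
    have hk1 : π k = 1 := (QuotientGroup.eq_one_iff k).2 hk
    rw [map_mul, map_mul, hq1, hk1, one_mul, mul_one]
  have hpq : IsPGroup p (G ⧸ K) := CfsgLib.Fusion.isPGroup_quotient_pResidual _ le_rfl
  have htop : (T : Subgroup L).map (π.comp L.subtype) = ⊤ := by
    have h1 := (T.mapSurjective hs).is_maximal' (hpq.to_subgroup ⊤) le_top
    rw [Sylow.coe_mapSurjective] at h1
    exact h1.symm
  refine ⟨U, Subgroup.isComplement'_of_disjoint_and_mul_eq_univ (disjoint_iff.2 hUK) ?_⟩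
  refine Set.eq_univ_of_forall fun g => ?_
  obtain ⟨t, ht, hte⟩ := (htop ▸ Subgroup.mem_top (π g) : π g ∈ (T : Subgroup L).map (π.comp L.subtype))
  exact ⟨(t : G), Subgroup.mem_map_of_mem _ ht, (t : G)⁻¹ * g, (QuotientGroup.eq).1 hte,
    mul_inv_cancel_left _ _⟩

end Cfsg.Agent.S0092
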