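import Cfsg.Statements.S0093
import Cfsg.Agent.Lib.CFun.Critical
import Cfsg.Agent.Lib.PGroup.FrattiniLe

set_option autoImplicit false
open Cfsg

namespace Cfsg.Agent.S0093

/-- Every finite p-group has a critical subgroup: a characteristic subgroup H whose Frattini subgroup and whose commutator with the whole group lie in the centre of H, and whose centralizer is contained in H. -/
theorem result {P : Type*} [Group P] [Finite P] {p : ℕ} [Fact p.Prime] (hP : IsPGroup p P) : ∃ H : Subgroup P, H.Characteristic ∧ (frattini H).map H.subtype ≤ Subgroup.centralizer (H : Set P) ∧ ⁅H, (⊤ : Subgroup P)⁆ ≤ H ⊓ Subgroup.centralizer (H : Set P) ∧ Subgroup.centralizer (H : Set P) ≤ H := by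
  obtain ⟨C, ⟨hchar, hpow, hcc, hPC⟩, hcen⟩ := CfsgLib.CFun.exists_critical hP
  refine ⟨C, hchar, ?_, ?_, hcen⟩
  · rintro _ ⟨x, hx, rfl⟩
    exact CfsgLib.FrattiniLe.frattini_le_of_pow_of_commutator
      (F := (Subgroup.centralizer (C : Set P)).subgroupOf C) (p := p)
      (fun a => (hpow a a.2).2)
      (by
        refine Subgroup.commutator_le.2 fun a _ b _ => ?_
        exact hcc (Subgroup.commutator_mem_commutator a.2 b.2)) hx
  · rw [Subgroup.commutator_comm]
    exact hPC

end Cfsg.Agent.S0093
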