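import Cfsg.Statements.S0094
import Cfsg.Agent.Lib.Coprime.PGroupFrattini

set_option autoImplicit false
open Cfsg

namespace Cfsg.Agent.S0094

/-- In a special p-group every central element has order dividing p. -/
theorem result {P : Type*} [Group P] [Finite P] {p : ℕ} [Fact p.Prime] (h : Cfsg.IsSpecial p P) (z : P) (hz : z ∈ Subgroup.center P) : z ^ p = 1 := by
  obtain ⟨hP, hfr, hder⟩ := h
  have hle : commutator P ≤ ({ carrier := {z | z ∈ Subgroup.center P ∧ z ^ p = 1}
                               one_mem' := ⟨one_mem _, one_pow _⟩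
                               mul_mem' := fun {a b} ha hb => ⟨mul_mem ha.1 hb.1, by
                                 rw [Commute.mul_pow ((Subgroup.mem_center_iff.1 hb.1 a)), ha.2, hb.2, one_mul]⟩
                               inv_mem' := fun {a} ha => ⟨inv_mem ha.1, by rw [inv_pow, ha.2, inv_one]⟩ } : Subgroup P) := by
    rw [commutator_def, Subgroup.commutator_le]
    intro a _ b _
    set c := a * b * a⁻¹ * b⁻¹ with hc
    have hcZ : c ∈ Subgroup.center P := hder ▸ Subgroup.commutator_mem_commutator (Subgroup.mem_top a) (Subgroup.mem_top b)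
    refine ⟨hcZ, ?_⟩
    show c ^ p = 1
    have ha := Subgroup.mem_center_iff.1 (hfr ▸ CfsgLib.Coprime.pow_mem_frattini hP b : b ^ p ∈ Subgroup.center P) a
    have e1 : (a * b * a⁻¹) ^ p = b ^ p := by rw [conj_pow, ha, mul_inv_cancel_right]
    have e2 : a * b * a⁻¹ = c * b := by rw [hc, inv_mul_cancel_right]
    rw [e2, Commute.mul_pow (Subgroup.mem_center_iff.1 hcZ b).symm] at e1
    exact mul_eq_right.1 e1
  exact (hle (hder.symm ▸ hz : z ∈ commutator P)).2

end Cfsg.Agent.S0094
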