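import Cfsg.Statements.S0096
import Cfsg.Agent.Lib.PGroup.OmegaCentral

set_option autoImplicit false
open Cfsg

namespace Cfsg.Agent.S0096

/-- For odd p, in a p-group of class at most two the elements of order dividing p generate a subgroup of exponent dividing p. -/
theorem result {P : Type*} [Group P] [Finite P] {p : ℕ} [Fact p.Prime] (hp : p ≠ 2) (hP : IsPGroup p P) (h2 : ⁅commutator P, (⊤ : Subgroup P)⁆ = ⊥) (g : P) (hg : g ∈ Subgroup.closure {x : P | x ^ p = 1}) : g ^ p = 1 := by
  have hcen : ∀ c ∈ commutator P, ∀ x : P, Commute c x := fun c hc x => by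
    have := Subgroup.commutator_mem_commutator hc (Subgroup.mem_top x)
    rw [h2, Subgroup.mem_bot] at this
    exact commutatorElement_eq_one_iff_mul_comm.1 this
  refine Subgroup.closure_induction (p := fun y _ => y ^ p = 1) (fun y hy => hy) (one_pow _) ?_ ?_ hg
  · intro a b _ _ ha hb
    set c := b * a * b⁻¹ * a⁻¹ with hc
    have hcc := hcen c (Subgroup.commutator_mem_commutator (Subgroup.mem_top b) (Subgroup.mem_top a))
    have hba : b * a = c * (a * b) := by rw [hc]; group
    have hcp : c ^ p = 1 := by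
      have e1 : (b * a * b⁻¹) ^ p = 1 := by rw [conj_pow, ha, mul_one, mul_inv_cancel]
      rwa [show b * a * b⁻¹ = c * a by rw [hc, inv_mul_cancel_right], (hcc a).mul_pow, ha, mul_one] at e1
    obtain ⟨d, hd⟩ := Nat.Prime.dvd_choose_self (Fact.out : p.Prime) two_ne_zero
      (lt_of_le_of_ne (Fact.out : p.Prime).two_le (Ne.symm hp))
    rw [CfsgLib.PGroup.mul_pow_of_commute_commutator hba (hcc a) (hcc b), ha, hb, hd, pow_mul, hcp,
      one_pow, one_mul, one_mul]
  · intro a _ ha
    rw [inv_pow, ha, inv_one]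

end Cfsg.Agent.S0096
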