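import Cfsg.Statements.S0097
import Cfsg.Agent.Lib.PGroup.ClassThreePower
import Cfsg.Agent.Lib.Coprime.PGroupFrattini

set_option autoImplicit false
open Cfsg
open scoped commutatorElement

namespace Cfsg.Agent.S0097

/-- For odd p and E extraspecial, the subgroup generated by the elements of order dividing p has exponent dividing p and index at most p. -/
theorem result {E : Type*} [Group E] [Finite E] {p : ℕ} [Fact p.Prime] (hp : p ≠ 2) (h : Cfsg.IsExtraspecial p E) : (Subgroup.closure {x : E | x ^ p = 1}).index ≤ p ∧ ∀ g ∈ Subgroup.closure {x : E | x ^ p = 1}, g ^ p = 1 := by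
  obtain ⟨⟨hP, hfr, hcom⟩, hZ⟩ := h
  have h1 : ⁅commutator E, (⊤ : Subgroup E)⁆ = ⊥ := by
    rw [hcom, Subgroup.commutator_eq_bot_iff_le_centralizer]
    exact fun z hz => Subgroup.mem_centralizer_iff.2 fun y _ => Subgroup.mem_center_iff.1 hz y
  have h3 : ⁅⁅commutator E, (⊤ : Subgroup E)⁆, (⊤ : Subgroup E)⁆ = ⊥ := by
    rw [h1, Subgroup.commutator_bot_left]
  have hZp : ∀ z ∈ Subgroup.center E, z ^ p = 1 := fun z hz => by
    have h2 : (⟨z, hz⟩ : Subgroup.center E) ^ Nat.card (Subgroup.center E) = 1 := pow_card_eq_one'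
    rw [hZ] at h2
    exact congrArg Subtype.val h2
  have hmul : ∀ x y : E, (x * y) ^ p = x ^ p * y ^ p := fun x y => by
    obtain ⟨c, u, v, hc, hu, hv, D⟩ := CfsgLib.PGroup.exists_classThreeData h3 x y
    rw [h1, Subgroup.mem_bot] at hu hv
    exact D.mul_pow_prime Fact.out hp (hZp c (hcom ▸ hc)) (Or.inr ⟨hu, hv⟩)
  refine ⟨?_, fun g hg => CfsgLib.PGroup.pow_eq_one_of_mem_closure
    (fun x y hx hy => by rw [hmul, hx, hy, one_mul]) hg⟩
  set f : E →* E := MonoidHom.mk' (fun x => x ^ p) hmul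
  have hker : f.ker ≤ Subgroup.closure {x : E | x ^ p = 1} := fun x hx => Subgroup.subset_closure hx
  have hran : f.range ≤ Subgroup.center E := by
    rintro _ ⟨x, rfl⟩
    exact hfr ▸ CfsgLib.Coprime.pow_mem_frattini hP x
  calc (Subgroup.closure {x : E | x ^ p = 1}).index ≤ f.ker.index :=
        Nat.le_of_dvd (Nat.pos_of_ne_zero Subgroup.index_ne_zero_of_finite) (Subgroup.index_dvd_of_le hker)
    _ = Nat.card f.range := Subgroup.index_ker f
    _ ≤ Nat.card (Subgroup.center E) :=
        Nat.le_of_dvd Nat.card_pos (Subgroup.card_dvd_of_le hran)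
    _ = p := hZ

end Cfsg.Agent.S0097
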