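import Cfsg.Statements.S0099
import Cfsg.Agent.Lib.PGroup.ExtraspecialClassify

set_option autoImplicit false
open Cfsg

namespace Cfsg.Agent.S0099

/-- Among three extraspecial 2-groups of equal order, some two are isomorphic. -/
theorem result {E₁ : Type*} {E₂ : Type*} {E₃ : Type*} [Group E₁] [Group E₂] [Group E₃] [Finite E₁] [Finite E₂] [Finite E₃] (h₁ : Cfsg.IsExtraspecial 2 E₁) (h₂ : Cfsg.IsExtraspecial 2 E₂) (h₃ : Cfsg.IsExtraspecial 2 E₃) (h12 : Nat.card E₁ = Nat.card E₂) (h23 : Nat.card E₂ = Nat.card E₃) : Nonempty (E₁ ≃* E₂) ∨ Nonempty (E₂ ≃* E₃) ∨ Nonempty (E₁ ≃* E₃) := by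
  haveI := Fact.mk Nat.prime_two
  obtain ⟨g₁, z₁, hz₁, hz₁1⟩ := CfsgLib.PGroup.smallCenter_of_extraspecial h₁
  obtain ⟨g₂, z₂, hz₂, hz₂1⟩ := CfsgLib.PGroup.smallCenter_of_extraspecial h₂
  obtain ⟨g₃, z₃, hz₃, hz₃1⟩ := CfsgLib.PGroup.smallCenter_of_extraspecial h₃
  obtain ⟨n, hn1, hn⟩ := CfsgLib.PGroup.extraspecial_card h₁
  rcases CfsgLib.PGroup.exists_equiv_two n hn1 E₁ E₂ E₃ g₁ g₂ g₃ hn (h12 ▸ hn)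
    ((h12.trans h23) ▸ hn) z₁ hz₁ hz₁1 z₂ hz₂ hz₂1 z₃ hz₃ hz₃1 with ⟨e, -⟩ | ⟨e, -⟩ | ⟨e, -⟩
  · exact Or.inl ⟨e⟩
  · exact Or.inr (Or.inl ⟨e⟩)
  · exact Or.inr (Or.inr ⟨e⟩)

end Cfsg.Agent.S0099
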