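import Cfsg.Statements.S0100
import Cfsg.Agent.Lib.PGroup.MaxNormalAbelian

set_option autoImplicit false
open Cfsg

namespace Cfsg.Agent.S0100

/-- For odd p, a p-group without normal elementary abelian subgroups of order p^3 has p-rank at most 2. -/
theorem result {P : Type*} [Group P] [Finite P] {p : ℕ} [Fact p.Prime] (hp : p ≠ 2) (hP : IsPGroup p P) (h : ∀ A : Subgroup P, A.Normal → IsMulCommutative A → (∀ a ∈ A, a ^ p = 1) → Nat.card A ≠ p ^ 3) (E : Subgroup P) (hE : IsMulCommutative E) (hEe : ∀ e ∈ E, e ^ p = 1) : Nat.card E ≤ p ^ 2 := by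
  have hpr : p.Prime := Fact.out
  obtain ⟨A, ⟨hAn, hAc, hAe⟩, hAmax⟩ := (Set.toFinite
    {A : Subgroup P | A.Normal ∧ IsMulCommutative A ∧ ∀ a ∈ A, a ^ p = 1}).exists_maximal
      ⟨⊥, inferInstance, ⟨⟨fun a b => Subsingleton.elim _ _⟩⟩, fun a ha => by
        rw [Subgroup.mem_bot.1 ha, one_pow]⟩
  haveI := hAn
  haveI := hP.isNilpotent
  have hmem : ∀ x : P, x ∈ Subgroup.centralizer (A : Set P) → x ^ p = 1 → x ∈ A := fun x hx hxp =>
    CfsgLib.PGroup.mem_of_maximal_abelian_exponent hP (n := 1) (by rwa [pow_one]) hAc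
      (fun a ha => by rw [pow_one]; exact hAe a ha)
      (fun B hB hBc hBe hAB => le_antisymm
        (hAmax ⟨hB, hBc, fun b hb => by simpa [pow_one] using hBe b hb⟩ hAB) hAB)
      hx (by rwa [pow_one])
  obtain ⟨a, ha⟩ := (hP.to_subgroup A).exists_card_eq
  have ha2 : a ≤ 2 := by
    by_contra ha3
    have key : ∀ k ≤ 3, ∃ T : Subgroup P, T.Normal ∧ T ≤ A ∧ Nat.card T = p ^ k := by
      intro k hk
      induction k with
      | zero => exact ⟨⊥, inferInstance, bot_le, by simp⟩
      | succ k ih =>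
          obtain ⟨T, hTn, hTA, hTc⟩ := ih (by omega)
          haveI := hTn
          have hlt : T < A := lt_of_le_of_ne hTA fun e => by
            rw [e, ha] at hTc
            have := Nat.pow_right_injective hpr.two_le hTc
            omega
          obtain ⟨U, hUn, hTU, hUA, hrel⟩ := CfsgLib.PGroup.exists_normal_step hP hlt
          refine ⟨U, hUn, hUA, ?_⟩
          have := Subgroup.relIndex_mul_relIndex ⊥ T U bot_le hTU.le
          rwa [Subgroup.relIndex_bot_left, Subgroup.relIndex_bot_left, hrel, hTc, ← pow_succ,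
            eq_comm] at this
    obtain ⟨T, hTn, hTA, hTc⟩ := key 3 le_rfl
    exact h T hTn ⟨⟨fun x y => Subtype.ext (show (x : P) * y = y * x from congrArg Subtype.val
      (hAc.is_comm.comm (⟨(x : P), hTA x.2⟩ : A) ⟨y, hTA y.2⟩))⟩⟩ (fun x hx => hAe x (hTA hx)) hTc
  have hidx := CfsgLib.PGroup.index_centralizer_le_pow hP a A hAc ha
  have hEc : ∀ x ∈ E, ∀ y ∈ E, x * y = y * x := fun x hx y hy =>
    congrArg Subtype.val (hE.is_comm.comm (⟨x, hx⟩ : E) ⟨y, hy⟩)
  set C := Subgroup.centralizer (A : Set P) with hC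
  have hEC : E ⊓ C = E ⊓ A := le_antisymm
    (le_inf inf_le_left fun x hx => hmem x hx.2 (hEe x hx.1))
    (le_inf inf_le_left fun x hx => Subgroup.mem_centralizer_iff.2 fun y hy =>
      congrArg Subtype.val (hAc.is_comm.comm (⟨y, hy⟩ : A) ⟨x, hx.2⟩))
  have hle : Nat.card E ≤ Nat.card ↥(E ⊓ A) * C.index := by
    have h1 := Subgroup.relIndex_mul_relIndex ⊥ (E ⊓ C) E bot_le inf_le_left
    rw [Subgroup.relIndex_bot_left, Subgroup.relIndex_bot_left, Subgroup.inf_relIndex_left] at h1
    rw [← h1, hEC]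
    refine Nat.mul_le_mul_left _ ?_
    rw [← Subgroup.relIndex_top_right C]
    exact Subgroup.relIndex_le_of_le_right le_top Subgroup.index_ne_zero_of_finite
  interval_cases a
  · exact hle.trans ((Nat.mul_le_mul ((Subgroup.card_le_of_le inf_le_right).trans ha.le) hidx).trans
      (by simpa using Nat.one_le_pow _ _ hpr.pos))
  · exact hle.trans ((Nat.mul_le_mul ((Subgroup.card_le_of_le inf_le_right).trans ha.le) hidx).trans
      (by simpa using Nat.le_self_pow two_ne_zero p))
  · by_cases hAE : A ≤ E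
    · have hEA : E ≤ A := fun x hx => hmem x
        (Subgroup.mem_centralizer_iff.2 fun y hy => hEc y (hAE hy) x hx) (hEe x hx)
      exact (Subgroup.card_le_of_le hEA).trans ha.le
    · have hlt : Nat.card ↥(E ⊓ A) < p ^ 2 := ha ▸ lt_of_le_of_ne (Subgroup.card_le_of_le inf_le_right)
        fun e => hAE ((Subgroup.eq_of_le_of_card_ge inf_le_right e.ge).ge.trans inf_le_left)
      obtain ⟨j, hj⟩ := ((hP.to_subgroup (E ⊓ A))).exists_card_eq
      rw [hj] at hlt hle
      have hj1 : j ≤ 1 := Nat.le_of_lt_succ ((Nat.pow_lt_pow_iff_right hpr.one_lt).1 hlt)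
      refine hle.trans ?_
      calc p ^ j * C.index ≤ p ^ 1 * p ^ 1 :=
            Nat.mul_le_mul (Nat.pow_le_pow_right hpr.pos hj1) (by simpa using hidx)
        _ = p ^ 2 := by ring

end Cfsg.Agent.S0100
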