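import Cfsg.Statements.S0101
import Cfsg.Agent.Lib.Fusion.Abelian

set_option autoImplicit false
open Cfsg

namespace Cfsg.Agent.S0101

/-- In a perfect central extension, the kernel meets each Sylow p-subgroup P inside the Frattini subgroup of P. -/
theorem result {H : Type*} {G : Type*} [Group H] [Group G] [Finite H] (σ : H →* G) (hσ : Function.Surjective σ) (hc : σ.ker ≤ Subgroup.center H) (hH : commutator H = ⊤) {p : ℕ} [Fact p.Prime] (P : Sylow p H) : σ.ker ⊓ (P : Subgroup H) ≤ (frattini P).map (P : Subgroup H).subtype := by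
  rintro z ⟨hzk, hzP⟩
  refine ⟨⟨z, hzP⟩, ?_, rfl⟩
  simp only [frattini, Order.radical, SetLike.mem_coe, Subgroup.mem_iInf]
  intro M hM
  have hM' : IsCoatom M := hM
  haveI : Group.IsNilpotent (P : Subgroup H) := P.2.isNilpotent
  haveI hn : M.Normal :=
    Subgroup.NormalizerCondition.normal_of_coatom M Group.normalizerCondition_of_isNilpotent hM'
  haveI hnt : Nontrivial ((P : Subgroup H) ⧸ M) := by
    rw [← Finite.one_lt_card_iff_nontrivial]
    exact Subgroup.one_lt_index_of_ne_top hM'.1
  haveI := (P.2.to_quotient M).center_nontrivial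
  have hcen' : Subgroup.center ((P : Subgroup H) ⧸ M) = ⊤ := by
    have hle : M ≤ (Subgroup.center ((P : Subgroup H) ⧸ M)).comap (QuotientGroup.mk' M) :=
      fun x hx => by
        rw [Subgroup.mem_comap, QuotientGroup.mk'_apply, (QuotientGroup.eq_one_iff x).2 hx]
        exact one_mem _
    rcases eq_or_lt_of_le hle with he | hlt
    · exfalso
      refine (Subgroup.nontrivial_iff_ne_bot _).1 (inferInstance :
        Nontrivial (Subgroup.center ((P : Subgroup H) ⧸ M))) ?_
      rw [← Subgroup.map_comap_eq_self_of_surjective (QuotientGroup.mk'_surjective M)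
        (Subgroup.center _), ← he, QuotientGroup.map_mk'_self]
    · rw [← Subgroup.map_comap_eq_self_of_surjective (QuotientGroup.mk'_surjective M)
        (Subgroup.center _), hM'.2 _ hlt,
        Subgroup.map_top_of_surjective _ (QuotientGroup.mk'_surjective M)]
  letI : CommGroup ((P : Subgroup H) ⧸ M) :=
    { mul_comm := fun a b => (Subgroup.mem_center_iff.1 (hcen' ▸ Subgroup.mem_top b) a) }
  let φ : (P : Subgroup H) →* (P : Subgroup H) ⧸ M := QuotientGroup.mk' M
  have hker : MonoidHom.transfer φ z = 1 := by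
    have hle : commutator H ≤ (MonoidHom.transfer φ).ker := Abelianization.commutator_subset_ker _
    rw [hH] at hle
    exact hle (Subgroup.mem_top z)
  have hcen := hc hzk
  rw [MonoidHom.transfer_eq_pow φ _ fun k g₀ _ => by
    rw [mul_assoc, ← (Subgroup.mem_center_iff.1 (pow_mem hcen k) g₀), inv_mul_cancel_left]] at hker
  have h2 : φ ⟨z, hzP⟩ ^ (P : Subgroup H).index = 1 := by
    rw [← map_pow]
    exact hker
  have hcop : Nat.Coprime (orderOf (φ ⟨z, hzP⟩)) (P : Subgroup H).index := by
    obtain ⟨k, hk⟩ := P.2 ⟨z, hzP⟩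
    refine Nat.Coprime.coprime_dvd_left (orderOf_dvd_of_pow_eq_one (n := p ^ k) ?_)
      (Nat.Coprime.pow_left k ((Fact.out : p.Prime).coprime_iff_not_dvd.2 P.not_dvd_index))
    rw [← map_pow, hk, map_one]
  exact (QuotientGroup.eq_one_iff _).1 (orderOf_eq_one_iff.1
    (Nat.eq_one_of_dvd_coprimes hcop dvd_rfl (orderOf_dvd_of_pow_eq_one h2)))

end Cfsg.Agent.S0101
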