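import Cfsg.Statements.S0102
import Cfsg.Agent.Lib.Fusion.Abelian

set_option autoImplicit false
open Cfsg

namespace Cfsg.Agent.S0102

/-- A finite perfect group with cyclic Sylow p-subgroups has no perfect central extension whose kernel has order divisible by p. -/
theorem result {G : Type*} {H : Type*} [Group G] [Group H] [Finite G] [Finite H] (hG : commutator G = ⊤) {p : ℕ} [Fact p.Prime] (hcyc : ∀ P : Sylow p G, IsCyclic P) (σ : H →* G) (hσ : Function.Surjective σ) (hz : σ.ker ≤ Subgroup.center H) (hH : commutator H = ⊤) : ¬ p ∣ Nat.card σ.ker := by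
  intro hd
  obtain ⟨z, hzo⟩ := exists_prime_orderOf_dvd_card' p hd
  rw [← Subgroup.orderOf_coe] at hzo
  have hzp : IsPGroup p (Subgroup.zpowers (z : H)) :=
    IsPGroup.of_card (n := 1) (by rw [Nat.card_zpowers, hzo, pow_one])
  obtain ⟨P, hP⟩ := hzp.exists_le_sylow
  haveI : IsCyclic ((P : Subgroup H).map σ : Subgroup G) := hcyc (P.mapSurjective hσ)
  let f : (P : Subgroup H) →* ((P : Subgroup H).map σ : Subgroup G) := σ.subgroupMap _
  have hfc : f.ker ≤ Subgroup.center (P : Subgroup H) := by
    intro u hu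
    refine Subgroup.mem_center_iff.2 fun v => Subtype.ext ?_
    have hu' : (u : H) ∈ σ.ker := congrArg Subtype.val hu
    exact Subgroup.mem_center_iff.1 (hz hu') v
  haveI : IsMulCommutative (P : Subgroup H) :=
    MonoidHom.isMulCommutative_of_isCyclic_of_ker_le_center f hfc
  have hcop : Nat.Coprime (Nat.card (P : Subgroup H)) (P : Subgroup H).index := by
    obtain ⟨k, hk⟩ := P.2.exists_card_eq
    rw [hk]
    exact Nat.Coprime.pow_left k ((Fact.out : p.Prime).coprime_iff_not_dvd.2 P.not_dvd_index)
  have h1 := CfsgLib.Fusion.central_inf_commutator_eq_one (P : Subgroup H) hcop (hz z.2)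
    (hH.symm ▸ Subgroup.mem_top (z : H)) (hP (Subgroup.mem_zpowers _))
  rw [h1, orderOf_one] at hzo
  exact (Fact.out : p.Prime).one_lt.ne hzo

end Cfsg.Agent.S0102
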