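import Cfsg.Statements.S0104
import Cfsg.Agent.Lib.Fusion.Transfer

set_option autoImplicit false
open Cfsg

namespace Cfsg.Agent.S0104

/-- A subgroup Z of a Sylow p-subgroup P that is normalized by N_G(P) is weakly closed in P exactly when it is normal in every Sylow p-subgroup containing it. -/
theorem result {G : Type*} [Group G] [Finite G] {p : ℕ} [Fact p.Prime] (P : Sylow p G) (Z : Subgroup G) (hZP : Z ≤ (P : Subgroup G)) (hZN : Subgroup.normalizer (P : Set G) ≤ Subgroup.normalizer (Z : Set G)) : Cfsg.IsWeaklyClosed Z P ↔ ∀ R : Sylow p G, Z ≤ (R : Subgroup G) → (R : Subgroup G) ≤ Subgroup.normalizer (Z : Set G) := by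
  constructor
  · intro hW R hR
    obtain ⟨g, hg⟩ := MulAction.exists_smul_eq G R P
    have hgR : CfsgLib.Fusion.conjBy g (R : Subgroup G) = P := by rw [← hg]; rfl
    have h := hW.2 g ((CfsgLib.Fusion.conjBy_mono hR).trans hgR.le)
    have hgN : g ∈ Subgroup.normalizer (Z : Set G) := CfsgLib.Fusion.conjBy_eq_iff.1 h
    intro x hx
    have h1 : g * x * g⁻¹ ∈ Subgroup.normalizer (Z : Set G) :=
      hZN (Subgroup.le_normalizer (hgR.le (CfsgLib.Fusion.conj_mem_conjBy hx)))
    simpa [mul_assoc] using mul_mem (mul_mem (inv_mem hgN) h1) hgN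
  · intro h
    refine ⟨hZP, fun g hg => CfsgLib.Fusion.conjBy_eq_iff.2 ?_⟩
    have hR : CfsgLib.Fusion.conjBy g⁻¹ (P : Subgroup G) ≤ Subgroup.normalizer (Z : Set G) := by
      have hP' : ((g⁻¹ • P : Sylow p G) : Subgroup G) =
          CfsgLib.Fusion.conjBy g⁻¹ (P : Subgroup G) := rfl
      rw [← hP']
      refine h (g⁻¹ • P) ?_
      rw [hP', ← CfsgLib.Fusion.conjBy_inv_conjBy g Z]
      exact CfsgLib.Fusion.conjBy_mono hg
    have hPN : (P : Subgroup G) ≤ Subgroup.normalizer (Z : Set G) :=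
      le_trans Subgroup.le_normalizer hZN
    obtain ⟨c, hc, hc2⟩ := CfsgLib.Fusion.exists_conj_le_of_not_dvd_relIndex P.2 hPN
      (fun hd => P.not_dvd_index (hd.trans (Subgroup.relIndex_dvd_index_of_le hPN)))
      (CfsgLib.Fusion.isPGroup_conjBy g⁻¹ P.2) hR
    rw [CfsgLib.Fusion.conjBy_conjBy] at hc2
    have h3 := hZN (CfsgLib.Fusion.conjBy_eq_iff.1 (CfsgLib.Fusion.conjBy_eq_of_le hc2))
    simpa [mul_assoc] using mul_mem (inv_mem h3) hc

end Cfsg.Agent.S0104
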