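import Cfsg.Statements.S0106
import Cfsg.Agent.Lib.Invol.QuaternionSection
import Cfsg.Agent.Lib.PGroup.ElementaryBasic

set_option autoImplicit false
open Cfsg

namespace Cfsg.Agent.S0106

/-- A finite group with generalized quaternion Sylow 2-subgroups either has a normal 2-complement or has a section isomorphic to SL(2,3). -/
theorem result {G : Type*} [Group G] [Finite G] (T : Sylow 2 G) (n : ℕ) (hn : 1 ≤ n) (hT : Nonempty ((T : Subgroup G) ≃* QuaternionGroup (2 ^ n))) : Cfsg.HasNormalPComplement 2 G ∨ ∃ (H K : Subgroup G) (hK : (K.subgroupOf H).Normal), Nonempty ((H ⧸ K.subgroupOf H) ≃* Matrix.SpecialLinearGroup (Fin 2) (ZMod 3)) := by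
  classical
  haveI := Fact.mk Nat.prime_two
  by_cases hcomp : Cfsg.HasNormalPComplement 2 G
  · exact Or.inl hcomp
  right
  have hloc : ¬ CfsgLib.Fusion.LocallyPNilpotentAction 2 (T : Subgroup G) := fun h =>
    hcomp (CfsgLib.Fusion.hasNormalPComplement_of_locallyPNilpotentAction T h)
  simp only [CfsgLib.Fusion.LocallyPNilpotentAction, not_forall] at hloc
  obtain ⟨Q, hQT, g, hgN, hgc, hgQ⟩ := hloc
  obtain ⟨e⟩ := hT
  have hQp : IsPGroup 2 Q := T.2.to_le hQT
  let φ : Q →* QuaternionGroup (2 ^ n) := e.toMonoidHom.comp (Subgroup.inclusion hQT)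
  have hφ : Function.Injective φ := e.injective.comp (Subgroup.inclusion_injective hQT)
  let σ : MulAut Q := Q.normalizerMonoidHom ⟨g, hgN⟩
  have hσv : ∀ u : Q, ((σ u : Q) : G) = g * u * g⁻¹ := fun _ => rfl
  have hm : Odd (orderOf g) := Nat.coprime_two_right.1 hgc
  have hσm : σ ^ orderOf g = 1 := by
    show (Q.normalizerMonoidHom ⟨g, hgN⟩) ^ orderOf g = 1
    rw [← map_pow, show (⟨g, hgN⟩ : Subgroup.normalizer (Q : Set G)) ^ orderOf g = 1 from
      Subtype.ext (pow_orderOf_eq_one g), map_one]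
  have hσ1 : σ ≠ 1 := fun h => hgQ (Subgroup.mem_centralizer_iff.2 fun u hu => by
    have h1 : g * u * g⁻¹ = u := congrArg (fun s : MulAut Q => ((s ⟨u, hu⟩ : Q) : G)) h
    exact (mul_inv_eq_iff_eq_mul.1 h1).symm)
  obtain ⟨h8, ⟨u, v, huv⟩, hσ3⟩ :=
    CfsgLib.Invol.quaternion_subgroup_of_aut hQp φ hφ σ hm hσm hσ1
  have hg3Q : ∀ w ∈ Q, g ^ 3 * w = w * g ^ 3 := by
    intro w hw
    have h1 : ((((σ ^ 3) ⟨w, hw⟩ : Q)) : G) = w := by rw [hσ3]; rfl
    have h2 : g ^ 3 * w * (g ^ 3)⁻¹ = w := by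
      conv_rhs => rw [← h1, pow_succ, pow_two, MulAut.mul_apply, MulAut.mul_apply, hσv, hσv, hσv]
      rw [show g ^ 3 = g * g * g by rw [pow_succ, pow_two]]
      group
    exact mul_inv_eq_iff_eq_mul.1 h2
  have h3 : 3 ∣ orderOf g := by
    by_contra h
    obtain ⟨r, hr⟩ := exists_pow_eq_self_of_coprime (x := g) (n := 3)
      (Nat.prime_three.coprime_iff_not_dvd.2 h)
    refine hgQ (Subgroup.mem_centralizer_iff.2 fun w hw => ?_)
    rw [← hr]
    exact (((show Commute (g ^ 3) w from hg3Q w hw)).pow_left r).eq.symm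
  set H := Q ⊔ Subgroup.zpowers g with hH
  set K := Subgroup.zpowers (g ^ 3) with hK
  have hKH : K ≤ H := Subgroup.zpowers_le.2 (pow_mem (Subgroup.mem_sup_right (Subgroup.mem_zpowers g)) 3)
  have hHK : H ≤ Subgroup.centralizer ({g ^ 3} : Set G) := sup_le
    (fun w hw => Subgroup.mem_centralizer_singleton_iff.2 (hg3Q w hw).symm)
    (Subgroup.zpowers_le.2 (Subgroup.mem_centralizer_singleton_iff.2 (Commute.self_pow g 3).eq))
  haveI hKn : (K.subgroupOf H).Normal := ⟨fun x hx y => by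
    obtain ⟨j, hj⟩ := Subgroup.mem_zpowers_iff.1 (show (x : G) ∈ K from hx)
    show ((y : G) * x * (y : G)⁻¹) ∈ K
    rw [← hj, ((show Commute (y : G) (g ^ 3) from
      Subgroup.mem_centralizer_singleton_iff.1 (hHK y.2)).zpow_right j).eq, mul_inv_cancel_right]
    exact Subgroup.zpow_mem_zpowers _ _⟩
  refine ⟨H, K, hKn, ?_⟩
  have hcop : Nat.Coprime 8 (orderOf g) := Nat.Coprime.pow_left 3 hm.coprime_two_left
  have hdisj : ∀ w ∈ Q, w ∈ Subgroup.zpowers g → w = 1 := fun w hw hw' =>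
    orderOf_eq_one_iff.1 (Nat.eq_one_of_dvd_coprimes hcop (h8 ▸ Subgroup.orderOf_dvd_natCard Q hw)
      ((Nat.card_zpowers g) ▸ Subgroup.orderOf_dvd_natCard _ hw'))
  have hinf : Q ⊓ Subgroup.zpowers g = ⊥ :=
    (Subgroup.eq_bot_iff_forall _).2 fun w hw => hdisj w (Subgroup.mem_inf.1 hw).1 (Subgroup.mem_inf.1 hw).2
  have hcardH : Nat.card H = 8 * orderOf g := by
    have h1 := CfsgLib.EABasic.card_sup_mul_card_inf_of_le_normalizer (H := Subgroup.zpowers g) (N := Q)
      (Subgroup.zpowers_le.2 hgN)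
    rw [sup_comm, inf_comm, hinf, Subgroup.card_bot, mul_one, h8, Nat.card_zpowers] at h1
    rw [hH, h1, mul_comm]
  have hcardK : Nat.card (K.subgroupOf H) * 3 = orderOf g := by
    rw [Nat.card_congr (Subgroup.subgroupOfEquivOfLe hKH).toEquiv, hK, Nat.card_zpowers,
      orderOf_pow' _ (by norm_num : (3 : ℕ) ≠ 0), Nat.gcd_eq_right h3, Nat.div_mul_cancel h3]
  have hcard : Nat.card (↥H ⧸ K.subgroupOf H) = 24 := by
    have h1 := Subgroup.card_eq_card_quotient_mul_card_subgroup (K.subgroupOf H)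
    rw [hcardH, ← hcardK] at h1
    have h0 : 0 < Nat.card (K.subgroupOf H) := Nat.card_pos
    exact Nat.eq_of_mul_eq_mul_right h0 (h1.symm.trans (by ring))
  have hgH : g ∈ H := Subgroup.mem_sup_right (Subgroup.mem_zpowers g)
  have hQH : Q ≤ H := le_sup_left
  let π := QuotientGroup.mk' (K.subgroupOf H)
  let ι : Q →* ↥H ⧸ K.subgroupOf H := π.comp (Subgroup.inclusion hQH)
  have hι : Function.Injective ι := (injective_iff_map_eq_one ι).2 fun w hw => Subtype.ext
    (hdisj w w.2 ((Subgroup.zpowers_le.2 (pow_mem (Subgroup.mem_zpowers g) 3) : K ≤ _)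
      (Subgroup.mem_subgroupOf.1 ((QuotientGroup.eq_one_iff (N := K.subgroupOf H) (Subgroup.inclusion hQH w)).1 hw))))
  have hQb : ι.range = (Q.subgroupOf H).map π := by
    rw [MonoidHom.range_comp, Subgroup.inclusion_range]
  haveI : (Q.subgroupOf H).Normal := Subgroup.normal_subgroupOf_iff_le_normalizer hQH |>.2
    (sup_le Subgroup.le_normalizer (Subgroup.zpowers_le.2 hgN))
  haveI hιn : ι.range.Normal := hQb ▸ Subgroup.Normal.map inferInstance π (QuotientGroup.mk'_surjective _)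
  have hι8 : Nat.card ι.range = 8 := by rw [← Nat.card_congr (MonoidHom.ofInjective hι).toEquiv, h8]
  have hindex : ι.range.index = 3 := by
    have h1 := ι.range.card_mul_index
    rw [hcard, hι8] at h1
    omega
  have hinQ : ∀ x : ↥H ⧸ K.subgroupOf H, orderOf x = 2 → x ∈ ι.range := fun x hx => by
    have h1 := Subgroup.pow_index_mem ι.range x
    rw [hindex, pow_succ, ← hx, pow_orderOf_eq_one, one_mul] at h1
    exact h1
  refine CfsgLib.Char.mulEquiv_SL23_of_order_24 hcard (fun x y hx hy => ?_) ι.range hι8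
    ⟨ι u, ⟨u, rfl⟩, ι v, ⟨v, rfl⟩, fun h => huv (hι (by rw [map_mul, map_mul, h]))⟩
    (t := π ⟨g, hgH⟩) ?_ ?_
  · obtain ⟨x', rfl⟩ := hinQ x hx
    obtain ⟨y', rfl⟩ := hinQ y hy
    rw [orderOf_injective ι hι] at hx hy
    exact congrArg ι (hφ (CfsgLib.Invol.quaternion_involution_eq
      (by rw [orderOf_injective φ hφ, hx]) (by rw [orderOf_injective φ hφ, hy])))
  · haveI := Fact.mk Nat.prime_three
    refine orderOf_eq_prime ?_ fun h => ?_
    · rw [← map_pow]
      exact (QuotientGroup.eq_one_iff _).2 (Subgroup.mem_zpowers (g ^ 3))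
    · refine hgQ (Subgroup.mem_centralizer_iff.2 fun w hw => ?_)
      obtain ⟨j, hj⟩ := Subgroup.mem_zpowers_iff.1 (show g ∈ K from Subgroup.mem_subgroupOf.1 ((QuotientGroup.eq_one_iff (N := K.subgroupOf H) (⟨g, hgH⟩ : H)).1 h))
      rw [← hj]
      exact ((show Commute (g ^ 3) w from hg3Q w hw).zpow_left j).eq.symm
  · obtain ⟨w, hw⟩ : ∃ w : Q, g * (w : G) ≠ w * g := by
      by_contra hcon
      push Not at hcon
      exact hgQ (Subgroup.mem_centralizer_iff.2 fun w hw => (hcon ⟨w, hw⟩).symm)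
    refine ⟨ι w, ⟨w, rfl⟩, fun h => hw ?_⟩
    have h1 : π ⟨g, hgH⟩ * ι w * (π ⟨g, hgH⟩)⁻¹ = ι w := by rw [h, mul_inv_cancel_right]
    have h2 : ι (σ w) = ι w := by
      refine (Eq.trans ?_ h1)
      show π (Subgroup.inclusion hQH (σ w)) = π ⟨g, hgH⟩ * π (Subgroup.inclusion hQH w) * (π ⟨g, hgH⟩)⁻¹
      rw [← map_inv, ← map_mul, ← map_mul]
      rfl
    exact mul_inv_eq_iff_eq_mul.1 ((hσv w).symm.trans (congrArg Subtype.val (hι h2)))

end Cfsg.Agent.S0106
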