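import Cfsg.Statements.S0109
import Cfsg.Agent.Lib.Fusion.StableFactorization
import Cfsg.Agent.Lib.Coprime.Solvable

set_option autoImplicit false
open Cfsg

namespace Cfsg.Agent.S0109

/-- The Thompson factorization Theorem for solvable groups states that, with p odd (and abelian Sylow 2-subgroups when p = 3) and no nontrivial normal subgroup of order prime to p, every element of G is a product of an element normalizing J(P) and an element centralizing the elements of order dividing p in the centre of P. -/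
theorem result {G : Type*} [Group G] [Finite G] {p : ℕ} [Fact p.Prime] (hp : p ≠ 2) (hs : Group.IsSolvable G) (h3 : p = 3 → ∀ T : Sylow 2 G, IsMulCommutative T) (hF : ∀ N : Subgroup G, N.Normal → Nat.Coprime (Nat.card N) p → N = ⊥) (P : Sylow p G) (g : G) : ∃ a ∈ Subgroup.normalizer (Cfsg.thompsonSubgroupOf p (P : Subgroup G) : Set G), ∃ c ∈ Subgroup.centralizer {x : G | x ∈ (P : Subgroup G) ∧ (∀ y ∈ (P : Subgroup G), x * y = y * x) ∧ x ^ p = 1}, g = a * c := by
  haveI := hs
  have hO : Cfsg.pPrimeCore p G = ⊥ := le_bot_iff.1 (sSup_le fun N hN => (hF N hN.1 hN.2).le)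
  have hfree : ¬ Cfsg.Involves (Matrix.SpecialLinearGroup (Fin 2) (ZMod p)) G := by
    rintro ⟨K, R, hR, ⟨e⟩⟩
    haveI := hR
    have hsu := e.surjective.comp (QuotientGroup.mk'_surjective (R.subgroupOf K))
    by_cases hp3 : p = 3
    · haveI := Fact.mk Nat.prime_two
      refine CfsgLib.Qd.not_comm_of_surjective hp (e.toMonoidHom.comp (QuotientGroup.mk' _)) hsu
        fun T x hx y hy => ?_
      obtain ⟨U, hU⟩ := (T.2.map K.subtype).exists_le_sylow
      exact Subtype.ext (show (x : G) * y = y * x from congrArg Subtype.val ((h3 hp3 U).is_comm.comm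
        (⟨(x : G), hU ⟨x, hx, rfl⟩⟩ : (U : Subgroup G)) ⟨(y : G), hU ⟨y, hy, rfl⟩⟩))
    · have h2 := (Fact.out : p.Prime).two_le
      haveI := Group.isSolvable_of_surjective (f := e.toMonoidHom.comp (QuotientGroup.mk' (R.subgroupOf K))) hsu
      haveI : Nontrivial (Matrix.SpecialLinearGroup (Fin 2) (ZMod p)) :=
        ⟨-1, 1, CfsgLib.Qd.neg_one_ne_one hp⟩
      exact (Group.IsSolvable.commutator_lt_top_of_nontrivial _).ne
        (CfsgLib.Coprime.QdRankTwo.commutator_sl_eq_top (show 3 < p by omega))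
  obtain ⟨x, hx, c, hc, n, hn, he⟩ := CfsgLib.Fusion.thompsonFactorizable_of_stable
    (CfsgLib.Fusion.isActionPStable_of_not_involves hp (CfsgLib.Qd.not_involves_qd_of_slTwo hfree)) hO
    (CfsgLib.Coprime.centralizer_pCore_le hO) P g⁻¹
  rw [hO, Subgroup.mem_bot] at hx
  rw [hx, one_mul] at he
  refine ⟨n⁻¹, inv_mem hn, c⁻¹, ?_, by rw [← mul_inv_rev, ← he, inv_inv]⟩
  refine Subgroup.mem_centralizer_iff.2 fun z hz => Subgroup.mem_centralizer_iff.1 (inv_mem hc) z ?_
  exact Subgroup.subset_closure ⟨⟨hz.1, Subgroup.mem_centralizer_iff.2 fun y hy => (hz.2.1 y hy).symm⟩, hz.2.2⟩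

end Cfsg.Agent.S0109
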