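import Cfsg.Statements.S0110
import Cfsg.Agent.Lib.Fusion.PComplement
import Mathlib.GroupTheory.FiniteAbelian.Duality
import Mathlib.RingTheory.RootsOfUnity.Complex
import Mathlib.RingTheory.RootsOfUnity.AlgebraicallyClosed
import Mathlib.Analysis.Complex.Polynomial.Basic
import Mathlib.GroupTheory.Abelianization.Defs

set_option autoImplicit false
open Cfsg

namespace Cfsg.Agent.S0110

/-- In a p-group G, an extraspecial subgroup E with [G, E] ≤ Z(E) satisfies G = E C_G(E). -/
theorem result {G : Type*} [Group G] [Finite G] {p : ℕ} [Fact p.Prime] (hG : IsPGroup p G) (E : Subgroup G) (hE : Cfsg.IsExtraspecial p E) (h : ⁅(⊤ : Subgroup G), E⁆ ≤ E ⊓ Subgroup.centralizer (E : Set G)) : E ⊔ Subgroup.centralizer (E : Set G) = ⊤ := by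
  classical
  obtain ⟨⟨-, -, hder⟩, hcard⟩ := hE
  haveI : NeZero p := ⟨(Fact.out : p.Prime).ne_zero⟩
  haveI : IsCyclic (Subgroup.center E) := isCyclic_of_prime_card hcard
  haveI : IsCyclic (rootsOfUnity p ℂ) := rootsOfUnity.isCyclic ℂ p
  let ι : Subgroup.center E →* ℂˣ := (rootsOfUnity p ℂ).subtype.comp
    (mulEquivOfCyclicCardEq (hcard.trans (Complex.card_rootsOfUnity p).symm)).toMonoidHom
  have hι : Function.Injective ι := (Subgroup.subtype_injective _).comp (MulEquiv.injective _)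
  have hmem : ∀ (g : G) (e : E), ∃ z : Subgroup.center E, ((z : E) : G) = g * e * g⁻¹ * (e : G)⁻¹ := fun g e => by
    obtain ⟨h1, h2⟩ := h (Subgroup.commutator_mem_commutator (Subgroup.mem_top g) e.2)
    exact ⟨⟨⟨_, h1⟩, Subgroup.mem_center_iff.2 fun y => Subtype.ext (Subgroup.mem_centralizer_iff.1 h2 y y.2)⟩, rfl⟩
  choose z hz using hmem
  have hzm : ∀ g a b, z g (a * b) = z g a * z g b := fun g a b => by
    apply Subtype.ext; apply Subtype.ext
    rw [Subgroup.coe_mul, Subgroup.coe_mul, hz, hz, hz, Subgroup.coe_mul]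
    have hcomm : ((a : E) : G) * ((z g b : E) : G) = ((z g b : E) : G) * a :=
      congrArg Subtype.val (Subgroup.mem_center_iff.1 (z g b).2 a)
    rw [hz] at hcomm
    calc g * ((a : G) * b) * g⁻¹ * ((a : G) * b)⁻¹
        = g * a * g⁻¹ * ((g * b * g⁻¹ * (b : G)⁻¹) * (a : G)⁻¹) := by group
      _ = g * a * g⁻¹ * ((a : G)⁻¹ * ((a : G) * (g * b * g⁻¹ * (b : G)⁻¹)) * (a : G)⁻¹) := by group
      _ = g * a * g⁻¹ * (a : G)⁻¹ * (g * b * g⁻¹ * (b : G)⁻¹) := by rw [hcomm]; group
  let Φ : G → (Abelianization E →* ℂˣ) := fun g =>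
    Abelianization.lift (ι.comp (MonoidHom.mk' (z g) (hzm g)))
  have hΦ : ∀ g g', Φ g = Φ g' → g'⁻¹ * g ∈ Subgroup.centralizer (E : Set G) := fun g g' he =>
    Subgroup.mem_centralizer_iff.2 fun e hx => by
      have h1 : z g ⟨e, hx⟩ = z g' ⟨e, hx⟩ := hι (DFunLike.congr_fun he (Abelianization.of ⟨e, hx⟩))
      have h2 : ((z g ⟨e, hx⟩ : E) : G) = ((z g' ⟨e, hx⟩ : E) : G) := by rw [h1]
      rw [hz, hz] at h2
      have h3 := mul_right_cancel h2
      calc e * (g'⁻¹ * g) = g'⁻¹ * (g' * e * g'⁻¹) * g := by group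
        _ = g'⁻¹ * (g * e * g⁻¹) * g := by rw [← h3]
        _ = g'⁻¹ * g * e := by group
  haveI : Finite (Abelianization E) := inferInstanceAs (Finite (E ⧸ commutator E))
  haveI : Finite (Abelianization E →* ℂˣ) :=
    Finite.of_equiv _ (CommGroup.monoidHom_mulEquiv_of_hasEnoughRootsOfUnity (Abelianization E) ℂ).some.symm.toEquiv
  let f : E ⧸ Subgroup.center E → (Abelianization E →* ℂˣ) := fun q => Φ (q.out : E)
  have hf : Function.Injective f := fun a b hab => by
    have h1 := hΦ _ _ hab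
    have h2 : (b.out : E)⁻¹ * a.out ∈ Subgroup.center E := Subgroup.mem_center_iff.2 fun y =>
      Subtype.ext (by simpa using Subgroup.mem_centralizer_iff.1 h1 y y.2)
    rw [← QuotientGroup.out_eq' a, ← QuotientGroup.out_eq' b]
    exact (QuotientGroup.eq.2 h2).symm
  have hsurj : Function.Surjective f := by
    refine ((Nat.bijective_iff_injective_and_card f).2 ⟨hf, ?_⟩).2
    rw [CommGroup.card_monoidHom_of_hasEnoughRootsOfUnity (Abelianization E) ℂ]
    exact Nat.card_congr (QuotientGroup.quotientMulEquivOfEq hder.symm).toEquiv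
  refine eq_top_iff.2 fun g _ => ?_
  obtain ⟨q, hq⟩ := hsurj (Φ g)
  have h1 := hΦ g (q.out : E) hq.symm
  have e : g = (q.out : E) * (((q.out : E) : G)⁻¹ * g) := by group
  rw [e]
  exact mul_mem (Subgroup.mem_sup_left (q.out : E).2) (Subgroup.mem_sup_right h1)

end Cfsg.Agent.S0110
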