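import Cfsg.Statements.S0115
import Cfsg.Agent.Lib.PGroup.MaxClassRecog

set_option autoImplicit false
open Cfsg

namespace Cfsg.Agent.S0115

/-- A 2-group of order 2^n, n ≥ 3, is of maximal class exactly when its commutator quotient is a Klein four-group. -/
theorem result {X : Type*} [Group X] [Finite X] (n : ℕ) (hn : 3 ≤ n) (hX : Nat.card X = 2 ^ n) : Group.nilpotencyClass X = n - 1 ↔ IsKleinFour (X ⧸ commutator X) := by
  haveI : Fact (Nat.Prime 2) := ⟨Nat.prime_two⟩
  constructor
  · intro hc
    have h4 := CfsgLib.PGroup.index_commutator_of_maximal_two hn hX hc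
    have hQ : Nat.card (X ⧸ commutator X) = 2 ^ 2 := by rw [← Subgroup.index_eq_card, h4]; norm_num
    refine ⟨by rw [hQ]; norm_num, ?_⟩
    have hnc : ¬ IsCyclic (X ⧸ commutator X) := fun h => by
      haveI := CfsgLib.PGroup.isCyclic_of_cyclic_abelianization (IsPGroup.of_card hX) h
      exact (CfsgLib.PGroup.not_comm_of_index_four hn hX h4).1 IsCyclic.isMulCommutative
    refine (Nat.prime_two.eq_one_or_self_of_dvd _ (Monoid.exponent_dvd_of_forall_pow_eq_one fun q => ?_)).resolve_left fun h => ?_
    · obtain ⟨k, hk, hk'⟩ := (Nat.dvd_prime_pow Nat.prime_two).1 (hQ ▸ orderOf_dvd_natCard q)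
      interval_cases k
      · rw [orderOf_eq_one_iff.1 (hk'.trans (pow_zero 2)), one_pow]
      · exact orderOf_dvd_iff_pow_eq_one.1 (hk'.trans (pow_one 2)).dvd
      · exact absurd (isCyclic_of_orderOf_eq_card q (hk'.trans hQ.symm)) hnc
    · haveI := Monoid.exp_eq_one_iff.1 h
      exact hnc isCyclic_of_subsingleton
  · intro h
    refine CfsgLib.PGroup.maximal_class_of_index_four hn hX ?_
    rw [Subgroup.index_eq_card]
    exact h.card_four

end Cfsg.Agent.S0115
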