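import Cfsg.Statements.S0119
import Cfsg.Agent.Lib.Coprime.PGroupFrattini
import Cfsg.Agent.Lib.PGroup.FrattiniLe
import Cfsg.Agent.Lib.PGroup.OmegaCentral

set_option autoImplicit false
open Cfsg
open scoped commutatorElement

namespace Cfsg.Agent.S0119

/-- If a p'-group A of automorphisms of a p-group G satisfies G = [G, A] and acts trivially on every characteristic abelian subgroup, then G is special with centre equal to the fixed points of A. -/
theorem result {G : Type*} [Group G] [Finite G] {p : ℕ} [Fact p.Prime] (hG : IsPGroup p G) (A : Subgroup (MulAut G)) (hA : Nat.Coprime (Nat.card A) p) (hGA : Subgroup.closure {x : G | ∃ g : G, ∃ a ∈ A, x = g⁻¹ * a g} = ⊤) (hchar : ∀ H : Subgroup G, H.Characteristic → IsMulCommutative H → ∀ a ∈ A, ∀ h ∈ H, a h = h) : Cfsg.IsSpecial p G ∧ (∀ g : G, (g ∈ Subgroup.center G ↔ ∀ a ∈ A, a g = g)) := by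
  classical
  have hp : p.Prime := Fact.out
  haveI := hG.isNilpotent
  -- characteristic abelian subgroups are central
  have hcent : ∀ H : Subgroup G, H.Characteristic → IsMulCommutative H → H ≤ Subgroup.center G := by
    intro H hH hHc h hh
    rw [Subgroup.mem_center_iff]
    intro g
    have htop : g ∈ Subgroup.closure {x : G | ∃ g : G, ∃ a ∈ A, x = g⁻¹ * a g} := by
      rw [hGA]; exact Subgroup.mem_top g
    refine Subgroup.mem_centralizer_singleton_iff.1 ((Subgroup.closure_le _).2 ?_ htop)
    rintro _ ⟨x, a, ha, rfl⟩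
    refine Subgroup.mem_centralizer_singleton_iff.2 ?_
    have h1 : a (x * h * x⁻¹) = x * h * x⁻¹ :=
      hchar H hH hHc a ha _ (Subgroup.Normal.conj_mem inferInstance h hh x)
    rw [map_mul, map_mul, map_inv, hchar H hH hHc a ha h hh] at h1
    calc x⁻¹ * a x * h = x⁻¹ * (a x * h * (a x)⁻¹) * a x := by group
      _ = h * (x⁻¹ * a x) := by rw [h1]; group
  have hcl : commutator G ≤ Subgroup.center G := by
    by_contra hne
    obtain ⟨k, hk⟩ := Subgroup.nilpotent_iff_lowerCentralSeries.1 (inferInstance : Group.IsNilpotent G)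
    have hex : ∃ j, (⊤ : Subgroup G).lowerCentralSeries (j + 1) ≤ Subgroup.center G :=
      ⟨k, (Subgroup.lowerCentralSeries_antitone _ (Nat.le_succ k)).trans (hk.le.trans bot_le)⟩
    rcases hj : Nat.find hex with - | j
    · have h := Nat.find_spec hex
      rw [hj, Subgroup.top_lowerCentralSeries_one] at h
      exact hne h
    · have hn := Nat.find_min hex (show j < Nat.find hex by omega)
      have hs := Nat.find_spec hex
      rw [hj] at hs
      set H := (⊤ : Subgroup G).lowerCentralSeries (j + 1) with hH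
      have hL : ∀ x ∈ H, ∀ g : G, ⁅x, g⁆ ∈ Subgroup.center G := fun x hx g =>
        hs (by rw [Subgroup.lowerCentralSeries_succ]; exact Subgroup.commutator_mem_commutator hx (Subgroup.mem_top g))
      have hHc : ∀ x ∈ H, ∀ y ∈ commutator G, Commute x y := by
        intro x hx y hy
        let f : G →* Subgroup.center G := MonoidHom.mk' (fun g => ⟨⁅x, g⁆, hL x hx g⟩) fun g h => Subtype.ext (by
          show ⁅x, g * h⁆ = ⁅x, g⁆ * ⁅x, h⁆
          have e : ⁅x, g * h⁆ = ⁅x, g⁆ * (g * ⁅x, h⁆ * g⁻¹) := by simp only [commutatorElement_def]; group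
          rw [e, Subgroup.mem_center_iff.1 (hL x hx h) g, mul_inv_cancel_right])
        have hle : commutator G ≤ f.ker := by
          rw [_root_.commutator_def, Subgroup.commutator_le]
          intro g _ h _
          rw [MonoidHom.mem_ker, map_commutatorElement, commutatorElement_eq_one_iff_mul_comm]
          exact Subtype.ext (Subgroup.mem_center_iff.1 (f h).2 (f g : G))
        exact commutatorElement_eq_one_iff_mul_comm.1 (congrArg Subtype.val (hle hy))
      refine hn (hcent H inferInstance (isMulCommutative_iff.2 fun x y => Subtype.ext ?_))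
      refine hHc x x.2 y ?_
      rw [← Subgroup.top_lowerCentralSeries_one]
      exact Subgroup.lowerCentralSeries_antitone _ (by omega : 1 ≤ j + 1) y.2
  have hC : ∀ x y : G, ⁅x, y⁆ ∈ Subgroup.center G := fun x y =>
    hcl (Subgroup.commutator_mem_commutator (Subgroup.mem_top x) (Subgroup.mem_top y))
  let f : G → G →* Subgroup.center G := fun t => MonoidHom.mk' (fun g => ⟨⁅g, t⁆, hC g t⟩) fun g h =>
    Subtype.ext (by
      show ⁅g * h, t⁆ = ⁅g, t⁆ * ⁅h, t⁆
      have e : ⁅g * h, t⁆ = g * ⁅h, t⁆ * g⁻¹ * ⁅g, t⁆ := by simp only [commutatorElement_def]; group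
      rw [e, Subgroup.mem_center_iff.1 (hC h t) g, mul_inv_cancel_right,
        Subgroup.mem_center_iff.1 (hC g t) ⁅h, t⁆])
  have hpl : ∀ (x t : G) (m : ℕ), ⁅x ^ m, t⁆ = ⁅x, t⁆ ^ m := fun x t m =>
    congrArg Subtype.val (map_pow (f t) x m)
  have hpr : ∀ (x t : G) (m : ℕ), ⁅x, t ^ m⁆ = ⁅x, t⁆ ^ m := fun x t m => by
    rw [← commutatorElement_inv, hpl, ← inv_pow, commutatorElement_inv]
  have hex : ∃ e : ℕ, ∀ x y : G, ⁅x, y⁆ ^ p ^ e = 1 := by
    obtain ⟨n, hn⟩ := IsPGroup.iff_card.1 hG
    exact ⟨n, fun x y => by rw [← hn]; exact pow_card_eq_one'⟩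
  have he : ∀ x y : G, ⁅x, y⁆ ^ p = 1 := by
    have hspec := Nat.find_spec hex
    have hle : Nat.find hex ≤ 1 := by
      by_contra h
      set e := Nat.find hex with hedef
      set K := Subgroup.closure {z : G | ∃ x : G, z = x ^ p ^ (e - 1)} with hK
      have hKchar : K.Characteristic := by
        refine Subgroup.characteristic_iff_map_le.2 fun φ => ?_
        rw [hK, MonoidHom.map_closure]
        refine Subgroup.closure_mono ?_
        rintro _ ⟨_, ⟨x, rfl⟩, rfl⟩
        exact ⟨φ x, map_pow φ x _⟩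
      have hKc : IsMulCommutative K := by
        have hle : K ≤ Subgroup.centralizer (K : Set G) := by
          rw [hK, Subgroup.centralizer_closure, Subgroup.closure_le]
          rintro _ ⟨x, rfl⟩
          refine Subgroup.mem_centralizer_iff.2 ?_
          rintro _ ⟨y, rfl⟩
          rw [← commutatorElement_eq_one_iff_mul_comm, hpr, hpl, ← pow_mul, ← pow_add]
          exact orderOf_dvd_iff_pow_eq_one.1 ((orderOf_dvd_of_pow_eq_one (hspec y x)).trans
            (pow_dvd_pow p (by omega)))
        exact isMulCommutative_iff.2 fun a b => Subtype.ext (Subgroup.mem_centralizer_iff.1 (hle b.2) a a.2)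
      refine Nat.find_min hex (show e - 1 < Nat.find hex by omega) fun x y => ?_
      rw [← hpl, commutatorElement_eq_one_iff_mul_comm]
      exact (Subgroup.mem_center_iff.1
        (hcent K hKchar hKc (Subgroup.subset_closure ⟨x, rfl⟩)) y).symm
    intro x y
    have h1 := hspec x y
    rcases Nat.le_one_iff_eq_zero_or_eq_one.1 hle with h | h <;> rw [h] at h1
    · rw [pow_zero, pow_one] at h1; rw [h1, one_pow]
    · rwa [pow_one] at h1
  have hfr : frattini G ≤ Subgroup.center G := by
    refine CfsgLib.FrattiniLe.frattini_le_of_pow_of_commutator (p := p) (fun x => ?_) hcl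
    refine Subgroup.mem_center_iff.2 fun g => ?_
    exact (commutatorElement_eq_one_iff_mul_comm.1 (by rw [hpl, he] : ⁅x ^ p, g⁆ = 1)).symm
  have hCA : ∀ g : G, (∀ a ∈ A, a g = g) → g ∈ commutator G := by
    intro g hg
    haveI : Fintype A := Fintype.ofFinite A
    let φ : G →* Abelianization G := Abelianization.of
    let N : G →* Abelianization G := MonoidHom.mk' (fun x => ∏ a : A, φ ((a : MulAut G) x)) fun x y => by
      rw [← Finset.prod_mul_distrib]
      exact Finset.prod_congr rfl fun a _ => by rw [map_mul, map_mul]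
    have hN : ∀ x : G, N x = 1 := by
      intro x
      have hx : x ∈ Subgroup.closure {x : G | ∃ g : G, ∃ a ∈ A, x = g⁻¹ * a g} := by
        rw [hGA]; exact Subgroup.mem_top x
      refine MonoidHom.mem_ker.1 ((Subgroup.closure_le N.ker).2 ?_ hx)
      rintro _ ⟨y, a, ha, rfl⟩
      rw [SetLike.mem_coe, MonoidHom.mem_ker, map_mul, map_inv, inv_mul_eq_one]
      show ∏ b : A, φ ((b : MulAut G) y) = ∏ b : A, φ ((b : MulAut G) (a y))
      exact (Fintype.prod_equiv (Equiv.mulRight (⟨a, ha⟩ : A)) _ _ fun b => rfl).symm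
    have h1 : φ g ^ Nat.card A = 1 := by
      rw [← hN g, Nat.card_eq_fintype_card, ← Finset.card_univ, ← Finset.prod_const]
      exact Finset.prod_congr rfl fun a _ => by rw [hg a a.2]
    obtain ⟨k, hk⟩ := hG g
    have h2 : φ g ^ p ^ k = 1 := by rw [← map_pow, hk, map_one]
    have h3 : φ g = 1 := orderOf_eq_one_iff.1 (Nat.eq_one_of_dvd_coprimes (hA.pow_right k)
      (orderOf_dvd_of_pow_eq_one h1) (orderOf_dvd_of_pow_eq_one h2))
    exact (QuotientGroup.eq_one_iff g).1 h3
  have hZA : ∀ g ∈ Subgroup.center G, ∀ a ∈ A, a g = g := fun g hg a ha =>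
    hchar _ inferInstance (isMulCommutative_iff.2 fun x y =>
      Subtype.ext (Subgroup.mem_center_iff.1 y.2 x)) a ha g hg
  exact ⟨⟨hG, le_antisymm hfr fun z hz =>
      CfsgLib.Coprime.commutator_le_frattini hG (hCA z (hZA z hz)),
    le_antisymm hcl fun z hz => hCA z (hZA z hz)⟩, fun g => ⟨hZA g, fun h => hcl (hCA g h)⟩⟩

end Cfsg.Agent.S0119
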