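import Cfsg.Statements.S0122
import Cfsg.Agent.Lib.PGroup.MaxNormalAbelian
import Cfsg.Agent.Lib.Fusion.ZJElementary
import Mathlib.GroupTheory.PGroup
import Mathlib.GroupTheory.Nilpotent
-- import your own Cfsg.Agent.* helpers here

set_option autoImplicit false
open Cfsg

namespace Cfsg.Agent.S0122

open Subgroup

variable {G : Type*} [Group G] [Finite G] {p : ℕ} [hp : Fact p.Prime]

theorem exists_central {N : Subgroup G} [N.Normal] (hG : IsPGroup p G) (hN : N ≠ ⊥) :
    ∃ z ∈ N, z ≠ 1 ∧ z ∈ center G := by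
  let a : MulAction (ConjAct G) N := inferInstance
  have hdvd : p ∣ Nat.card N := by
    obtain ⟨n, hn⟩ := IsPGroup.iff_card.1 (hG.to_subgroup N)
    rcases Nat.eq_zero_or_pos n with rfl | h
    · exact absurd (Subgroup.card_eq_one.1 (by simpa using hn)) hN
    · rw [hn]; exact dvd_pow_self p (by omega)
  have hC : IsPGroup p (ConjAct G) := hG.of_equiv ConjAct.toConjAct
  obtain ⟨b, hb, hb1⟩ := hC.exists_fixed_point_of_prime_dvd_card_of_fixed_point N hdvd (a := (1 : N))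
    (MulAction.mem_fixedPoints.2 fun g => smul_one g)
  refine ⟨b.1, b.2, fun h => hb1 (Subtype.ext h.symm), mem_center_iff.2 fun g => ?_⟩
  have h : g * b.1 * g⁻¹ = b.1 := congrArg Subtype.val (MulAction.mem_fixedPoints.1 hb (ConjAct.toConjAct g))
  calc g * b.1 = g * b.1 * g⁻¹ * g := by group
    _ = b.1 * g := by rw [h]

theorem exists_normal_le_card (hG : IsPGroup p G) {N : Subgroup G} (hN : N.Normal) {k : ℕ}
    (hk : Nat.card N = p ^ k) : ∀ j ≤ k, ∃ B : Subgroup G, B.Normal ∧ B ≤ N ∧ Nat.card B = p ^ j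
  | 0, _ => ⟨⊥, inferInstance, bot_le, by simp⟩
  | j + 1, hj => by
    obtain ⟨B, hBn, hBN, hBc⟩ := exists_normal_le_card hG hN hk j (by omega)
    haveI := hBn
    haveI : (N.map (QuotientGroup.mk' B)).Normal := hN.map _ (QuotientGroup.mk'_surjective B)
    have hne : N.map (QuotientGroup.mk' B) ≠ ⊥ := fun h => by
      have hle : N ≤ B := fun x hx => (QuotientGroup.eq_one_iff x).1
        ((mem_bot.1 (h ▸ mem_map_of_mem _ hx : QuotientGroup.mk' B x ∈ (⊥ : Subgroup (G ⧸ B)))))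
      have := Nat.le_of_dvd Nat.card_pos (card_dvd_of_le hle)
      rw [hk, hBc] at this
      exact absurd this (Nat.not_le.2 (Nat.pow_lt_pow_right hp.out.one_lt (by omega)))
    obtain ⟨z, hzN, hz1, hzc⟩ := exists_central (hG.to_quotient B) hne
    obtain ⟨y, hyN, hyc, hyp⟩ : ∃ y ∈ N.map (QuotientGroup.mk' B), y ∈ center (G ⧸ B) ∧ orderOf y = p := by
      obtain ⟨e, he⟩ := IsPGroup.iff_orderOf.1 (hG.to_quotient B) z
      rcases e with _ | e
      · exact absurd (orderOf_eq_one_iff.1 (by simpa using he)) hz1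
      · refine ⟨z ^ p ^ e, pow_mem hzN _, pow_mem hzc _, ?_⟩
        rw [orderOf_pow_of_dvd (pow_ne_zero _ hp.out.ne_zero) (he ▸ pow_dvd_pow p (Nat.le_succ e)), he, pow_succ,
          Nat.mul_div_cancel_left _ (pow_pos hp.out.pos e)]
    refine ⟨(zpowers y).comap (QuotientGroup.mk' B), ?_, ?_, ?_⟩
    · have : (zpowers y).Normal := ⟨fun x hx g => by
        have hxc : x ∈ center (G ⧸ B) := zpowers_le.2 hyc hx
        rwa [mem_center_iff.1 hxc g, mul_inv_cancel_right]⟩
      exact this.comap _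
    · intro x hx
      obtain ⟨w, hw, e⟩ := mem_map.1 (zpowers_le.2 hyN (mem_comap.1 hx) : QuotientGroup.mk' B x ∈ N.map _)
      have : w⁻¹ * x ∈ B := (QuotientGroup.eq_one_iff _).1 (by
        show QuotientGroup.mk' B (w⁻¹ * x) = 1
        rw [map_mul, map_inv, e, inv_mul_cancel])
      simpa using mul_mem hw (hBN this)
    · have h1 := ((zpowers y).comap (QuotientGroup.mk' B)).card_mul_index
      rw [index_comap_of_surjective _ (QuotientGroup.mk'_surjective B)] at h1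
      have h2 := (zpowers y).card_mul_index
      rw [Nat.card_zpowers, hyp] at h2
      have h3 : Nat.card (G ⧸ B) * Nat.card B = Nat.card G := (card_eq_card_quotient_mul_card_subgroup B).symm
      rw [← h2, hBc] at h3
      have hpos : 0 < (zpowers y).index := Nat.pos_of_ne_zero index_ne_zero_of_finite
      refine Nat.eq_of_mul_eq_mul_right hpos (h1.trans ?_)
      rw [← h3, pow_succ]
      ring

/-- Counting through a map with fibres in cosets of `D`. -/
theorem card_le_mul {E D : Subgroup G} {V : Type*} [Finite V] (f : ↥E → V)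
    (hf : ∀ a b : ↥E, f a = f b → (b : G)⁻¹ * a ∈ D) : Nat.card E ≤ Nat.card D * Nat.card V := by
  rw [← Nat.card_prod]
  refine Nat.card_le_card_of_injective
    (fun a => (⟨((Function.invFun f (f a) : ↥E) : G)⁻¹ * a, hf a _ (Function.invFun_eq ⟨a, rfl⟩).symm⟩, f a)) ?_
  intro a b h
  simp only [Prod.mk.injEq, Subtype.mk.injEq] at h
  obtain ⟨h1, h2⟩ := h
  rw [h2] at h1
  exact Subtype.ext (mul_left_cancel h1)

/-- A normal subgroup of order `p` is central. -/
theorem le_center_of_card (hG : IsPGroup p G) {B : Subgroup G} [B.Normal] (hB : Nat.card B = p) :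
    B ≤ center G := by
  obtain ⟨z, hz, hz1, hzc⟩ := exists_central hG (fun h => by rw [h, card_bot] at hB; exact hp.out.one_lt.ne hB : B ≠ ⊥)
  have : zpowers z = B := by
    refine eq_of_le_of_card_ge (zpowers_le.2 hz) ?_
    have hd : Nat.card (zpowers z) ∣ p := hB ▸ card_dvd_of_le (zpowers_le.2 hz)
    rcases (Nat.dvd_prime hp.out).1 hd with h | h
    · exact absurd (zpowers_eq_bot.1 (Subgroup.card_eq_one.1 h)) hz1
    · rw [h, hB]
  exact this ▸ zpowers_le.2 hzc

/-- The group acts trivially on a factor of order `p`. -/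
theorem comm_mem_of_factor (hG : IsPGroup p G) {A B : Subgroup G} [hA : A.Normal] [B.Normal] (hAB : A ≤ B)
    (h : Nat.card B = Nat.card A * p) (g : G) {b : G} (hb : b ∈ B) : g * b * g⁻¹ * b⁻¹ ∈ A := by
  haveI : (B.map (QuotientGroup.mk' A)).Normal := Normal.map inferInstance _ (QuotientGroup.mk'_surjective A)
  have hc : Nat.card (B.map (QuotientGroup.mk' A)) = p := by
    have e : B.relIndex ⊥ = 1 := relIndex_bot_right ..
    have h1 : Nat.card A * A.relIndex B = Nat.card B := by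
      rw [← relIndex_bot_left, ← relIndex_bot_left, relIndex_mul_relIndex _ _ _ bot_le hAB]
    have h2 : Nat.card (B.map (QuotientGroup.mk' A)) = A.relIndex B := by
      rw [← relIndex_ker, QuotientGroup.ker_mk']
    rw [h2]
    exact Nat.eq_of_mul_eq_mul_left Nat.card_pos (h1.trans h)
  have hz := mem_center_iff.1 (le_center_of_card (hG.to_quotient A) hc (mem_map_of_mem _ hb)) (QuotientGroup.mk' A g)
  refine (QuotientGroup.eq_one_iff _).1 ?_
  show QuotientGroup.mk' A (g * b * g⁻¹ * b⁻¹) = 1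
  rw [map_mul, map_mul, map_mul, map_inv, map_inv, hz, mul_inv_cancel_right, mul_inv_cancel]

/-- Elements fixing generators modulo the next layer fix all of `N`. -/
theorem mem_centralizer_of_gens {N B : Subgroup G} {x n : G} (hB : B ≤ N) (hn : n ∈ N) (hnB : n ∉ B)
    (hc : Nat.card N = Nat.card B * p) (h1 : Commute x n) (h2 : ∀ b ∈ B, Commute x b) :
    x ∈ centralizer (N : Set G) := by
  have hle : B ⊔ zpowers n ≤ N := sup_le hB (zpowers_le.2 hn)
  have heq : B ⊔ zpowers n = N := by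
    refine eq_of_le_of_card_ge hle ?_
    have hBs : B ≤ B ⊔ zpowers n := le_sup_left
    have h3 : Nat.card B * B.relIndex (B ⊔ zpowers n) = Nat.card ↥(B ⊔ zpowers n) := by
      rw [← relIndex_bot_left, ← relIndex_bot_left, relIndex_mul_relIndex _ _ _ bot_le hBs]
    have h4 : Nat.card ↥(B ⊔ zpowers n) ∣ Nat.card B * p := hc ▸ card_dvd_of_le hle
    rw [← h3] at h4
    rcases (Nat.dvd_prime hp.out).1 ((Nat.mul_dvd_mul_iff_left Nat.card_pos).1 h4) with h | h
    · exact absurd (relIndex_eq_one.1 h (mem_sup_right (mem_zpowers n))) hnB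
    · rw [← h3, h, hc]
  rw [← heq, sup_eq_closure, Subgroup.centralizer_closure]
  rintro y (hy | hy)
  · exact ((h2 y hy).symm).eq
  · obtain ⟨i, rfl⟩ := mem_zpowers_iff.1 hy
    exact ((h1.zpow_right i).symm).eq

/-- Commutation from equal conjugates. -/
theorem commute_of_conj_eq {a b n : G} (h : a * n * a⁻¹ = b * n * b⁻¹) : Commute (b⁻¹ * a) n := by
  show b⁻¹ * a * n = n * (b⁻¹ * a)
  calc b⁻¹ * a * n = b⁻¹ * (a * n * a⁻¹) * a := by group
    _ = _ := by rw [h]; group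

theorem exists_not_mem {B N : Subgroup G} (h : Nat.card B < Nat.card N) : ∃ n ∈ N, n ∉ B := by
  by_contra hc
  push Not at hc
  exact Nat.not_le.2 h (Nat.le_of_dvd Nat.card_pos (card_dvd_of_le (show N ≤ B from hc)))

theorem main (hp2 : p ≠ 2) : ∀ (m : ℕ) (G : Type*) [Group G] [Finite G], Nat.card G = m → IsPGroup p G →
    ∀ E : Subgroup G, Cfsg.IsElementaryAbelian p E → Nat.card E = p ^ 4 →
      ∃ A : Subgroup G, A.Normal ∧ Cfsg.IsElementaryAbelian p A ∧ Nat.card A = p ^ 4 := by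
  intro m
  induction m using Nat.strong_induction_on with
  | _ m ih =>
  intro G _ _ hm hG E₀ hE₀ hE₀4
  classical
  -- a maximal normal elementary abelian subgroup
  obtain ⟨N, hNS, hNmax⟩ := Set.Finite.exists_maximal
    (Set.toFinite {B : Subgroup G | B.Normal ∧ IsMulCommutative B ∧ ∀ b ∈ B, b ^ p ^ 1 = 1})
    ⟨⊥, inferInstance, inferInstance, fun b hb => by rw [mem_bot.1 hb, one_pow]⟩
  obtain ⟨hNn, hNab, hNe⟩ := hNS
  haveI := hNn
  have hNc : ∀ x ∈ N, ∀ y ∈ N, Commute x y := fun x hx y hy =>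
    congrArg Subtype.val (hNab.is_comm.comm ⟨x, hx⟩ ⟨y, hy⟩)
  have key : ∀ x ∈ centralizer (N : Set G), x ^ p = 1 → x ∈ N := fun x hx hxp =>
    CfsgLib.PGroup.mem_of_maximal_abelian_exponent hG (n := 1) (by simpa using hp2) hNab hNe
      (fun B h1 h2 h3 h4 => le_antisymm (hNmax ⟨h1, h2, h3⟩ h4) h4) hx (by simpa using hxp)
  obtain ⟨k, hk⟩ := IsPGroup.iff_card.1 (hG.to_subgroup N)
  rcases le_or_gt 4 k with h4 | h4
  · obtain ⟨B, hBn, hBN, hBc⟩ := exists_normal_le_card hG hNn hk 4 h4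
    exact ⟨B, hBn, ⟨⟨⟨fun x y => Subtype.ext (hNc _ (hBN x.2) _ (hBN y.2))⟩⟩,
      fun b hb => by simpa using hNe b (hBN hb)⟩, hBc⟩
  -- a subgroup of index `p` containing the given one
  by_cases hEtop : E₀ = ⊤
  · subst hEtop
    exact ⟨⊤, inferInstance, hE₀, hE₀4⟩
  obtain ⟨M, hM, hEM⟩ := (eq_top_or_exists_le_coatom E₀).resolve_left hEtop
  haveI : Group.IsNilpotent G := hG.isNilpotent
  haveI hMn : M.Normal := Subgroup.NormalizerCondition.normal_of_coatom M Group.normalizerCondition_of_isNilpotent hM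
  have hMc : Nat.card M < m := hm ▸ by
    have h := M.card_mul_index
    have h1 : M.index ≠ 1 := fun h1 => hM.1 (index_eq_one.1 h1)
    have h2 : M.index ≠ 0 := index_ne_zero_of_finite
    calc Nat.card M < Nat.card M * M.index := lt_mul_of_one_lt_right Nat.card_pos (by omega)
      _ = Nat.card G := h
  obtain ⟨A, hAn, hA, hA4⟩ := ih _ hMc ↥M rfl (hG.to_subgroup M) (E₀.subgroupOf M)
    ⟨⟨⟨fun x y => Subtype.ext (Subtype.ext (show (x.1 : G) * (y.1 : G) = y.1 * x.1 from congrArg Subtype.val (hE₀.1.is_comm.comm ⟨(x.1 : G), x.2⟩ ⟨(y.1 : G), y.2⟩)))⟩⟩,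
      fun x hx => Subtype.ext (by rw [SubmonoidClass.coe_pow]; exact hE₀.2 _ hx)⟩
    (by rw [Nat.card_congr (subgroupOfEquivOfLe hEM).toEquiv, hE₀4])
  set E := A.map M.subtype with hEdef
  have hE4 : Nat.card E = p ^ 4 := by rw [card_map_of_injective M.subtype_injective, hA4]
  have hEp : ∀ x ∈ E, x ^ p = 1 := by
    rintro _ ⟨x, hx, rfl⟩
    rw [← map_pow, hA.2 x hx, map_one]
  have hEc : ∀ x ∈ E, ∀ y ∈ E, Commute x y := by
    rintro _ ⟨x, hx, rfl⟩ _ ⟨y, hy, rfl⟩
    exact (show Commute x y from congrArg Subtype.val (hA.1.is_comm.comm ⟨x, hx⟩ ⟨y, hy⟩)).map M.subtype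
  have hEMn : ∀ a ∈ M, ∀ x ∈ E, a * x * a⁻¹ ∈ E := by
    rintro a ha _ ⟨x, hx, rfl⟩
    exact ⟨_, hAn.conj_mem x hx ⟨a, ha⟩, rfl⟩
  have hEleM : E ≤ M := map_subtype_le A
  refine ⟨E, ?_, ⟨⟨⟨fun x y => Subtype.ext (hEc _ x.2 _ y.2)⟩⟩, hEp⟩, hE4⟩
  have hfib : ∀ x ∈ E, x ∈ centralizer (N : Set G) → x ∈ E ⊓ N := fun x hx hc =>
    mem_inf.2 ⟨hx, key x hc (hEp x hx)⟩
  have hD4 : Nat.card ↥(E ⊓ N : Subgroup G) ≤ Nat.card N :=
    Nat.le_of_dvd Nat.card_pos (card_dvd_of_le inf_le_right)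
  have hpow : ∀ {a b : ℕ}, p ^ a ≤ p ^ b → a ≤ b := fun h => (Nat.pow_le_pow_iff_right hp.out.one_lt).1 h
  obtain ⟨P₁, hP₁n, hP₁N, hP₁c⟩ : ∃ B : Subgroup G, B.Normal ∧ B ≤ N ∧ Nat.card B = p ^ min k 1 :=
    exists_normal_le_card hG hNn hk _ (min_le_left k 1)
  haveI := hP₁n
  have hk3 : k = 3 := by
    by_contra hne
    rcases Nat.lt_or_ge k 2 with h2 | h2
    · have hNZ : N ≤ center G := by
        rcases Nat.eq_zero_or_pos k with h0 | h0
        · rw [h0, pow_zero] at hk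
          rw [Subgroup.card_eq_one.1 hk]; exact bot_le
        · refine le_center_of_card hG ?_
          rw [hk, show k = 1 by omega, pow_one]
      have hle : E ≤ E ⊓ N := fun x hx => hfib x hx (mem_centralizer_iff.2 fun y hy =>
        (mem_center_iff.1 (hNZ hy) x).symm)
      have := Nat.le_of_dvd Nat.card_pos (card_dvd_of_le hle)
      have := hpow (hE4 ▸ hk ▸ this.trans hD4 : p ^ 4 ≤ p ^ k)
      omega
    · have hk2 : k = 2 := by omega
      subst hk2
      rw [show min 2 1 = 1 from rfl, pow_one] at hP₁c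
      have hc : Nat.card N = Nat.card P₁ * p := by rw [hk, hP₁c, sq]
      obtain ⟨n, hn, hnP⟩ := exists_not_mem (B := P₁) (N := N) (by
        rw [hc]; exact lt_mul_of_one_lt_right Nat.card_pos hp.out.one_lt)
      have hb := card_le_mul (E := E) (D := E ⊓ N) (V := ↥P₁)
        (fun a => ⟨_, comm_mem_of_factor hG hP₁N hc (a : G) hn⟩) fun a b h => by
          have h' := mul_right_cancel (congrArg Subtype.val h)
          refine hfib _ (mul_mem (inv_mem b.2) a.2) (mem_centralizer_of_gens hP₁N hn hnP hc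
            (commute_of_conj_eq h') fun c hc => ?_)
          exact mem_center_iff.1 (le_center_of_card hG hP₁c hc) _
      rw [hE4, hP₁c] at hb
      have := hpow (calc p ^ 4 ≤ _ := hb
        _ ≤ Nat.card N * p := Nat.mul_le_mul_right p hD4
        _ = p ^ 3 := by rw [hk, ← pow_succ])
      omega
  subst hk3
  rw [show min 3 1 = 1 from rfl, pow_one] at hP₁c
  obtain ⟨P₀, hP₀n, hP₀N, hP₀c⟩ := exists_normal_le_card hG hNn hk 2 (by omega)
  haveI := hP₀n
  have hc0 : Nat.card N = Nat.card P₀ * p := by rw [hk, hP₀c, ← pow_succ]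
  obtain ⟨Q, hQn, hQP, hQc⟩ := exists_normal_le_card hG hP₀n hP₀c 1 (by omega)
  haveI := hQn
  rw [pow_one] at hQc
  have hc1 : Nat.card P₀ = Nat.card Q * p := by rw [hP₀c, hQc, sq]
  have hQZ := le_center_of_card hG hQc
  obtain ⟨u, hu, huQ⟩ := exists_not_mem (B := Q) (N := P₀) (by
    rw [hc1]; exact lt_mul_of_one_lt_right Nat.card_pos hp.out.one_lt)
  -- the bound for every element outside `P₀`
  have bound : ∀ n ∈ N, n ∉ P₀ → Nat.card E ≤ Nat.card ↥(E ⊓ N : Subgroup G) * p ^ 2 ∧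
      (Commute n n → (∀ e ∈ E, Commute e n) → Nat.card E ≤ Nat.card ↥(E ⊓ N : Subgroup G) * p) := by
    intro n hn hnP
    have hu2 : ∀ a b : ↥E, (a : G) * u * (a : G)⁻¹ = (b : G) * u * (b : G)⁻¹ →
        (a : G) * n * (a : G)⁻¹ = (b : G) * n * (b : G)⁻¹ → (b : G)⁻¹ * a ∈ E ⊓ N := by
      intro a b h1 h2
      refine hfib _ (mul_mem (inv_mem b.2) a.2) (mem_centralizer_of_gens hP₀N hn hnP hc0 (commute_of_conj_eq h2) ?_)
      intro c hc
      refine ((mem_centralizer_iff.1 (mem_centralizer_of_gens hQP hu huQ hc1 (commute_of_conj_eq h1)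
        fun d hd => ?_)) c hc).symm
      exact mem_center_iff.1 (hQZ hd) _
    constructor
    · by_cases hcase : ∀ a : ↥E, (a : G) * n * (a : G)⁻¹ * n⁻¹ ∈ Q
      · have hb := card_le_mul (E := E) (D := E ⊓ N) (V := ↥Q × ↥Q)
          (fun a => (⟨_, hcase a⟩, ⟨_, comm_mem_of_factor hG hQP hc1 (a : G) hu⟩)) fun a b h =>
            hu2 a b (mul_right_cancel (congrArg (fun v : ↥Q × ↥Q => (v.2 : G)) h))
              (mul_right_cancel (congrArg (fun v : ↥Q × ↥Q => (v.1 : G)) h))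
        rwa [Nat.card_prod, hQc, ← sq] at hb
      · push Not at hcase
        obtain ⟨e, he⟩ := hcase
        have hb := card_le_mul (E := E) (D := E ⊓ N) (V := ↥P₀)
          (fun a => ⟨_, comm_mem_of_factor hG hP₀N hc0 (a : G) hn⟩) fun a b h => by
            have h' := commute_of_conj_eq (mul_right_cancel (congrArg Subtype.val h))
            refine hfib _ (mul_mem (inv_mem b.2) a.2) (mem_centralizer_of_gens hP₀N hn hnP hc0 h' ?_)
            intro c hc
            have hxe : Commute ((b : G)⁻¹ * a) e := hEc _ (mul_mem (inv_mem b.2) a.2) _ e.2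
            refine ((mem_centralizer_iff.1 (mem_centralizer_of_gens hQP
              (comm_mem_of_factor hG hP₀N hc0 (e : G) hn) he hc1
              (((hxe.mul_right h').mul_right hxe.inv_right).mul_right h'.inv_right) fun d hd => ?_)) c hc).symm
            exact mem_center_iff.1 (hQZ hd) _
        rwa [hP₀c] at hb
    · intro _ hfix
      have hb := card_le_mul (E := E) (D := E ⊓ N) (V := ↥Q)
        (fun a => ⟨_, comm_mem_of_factor hG hQP hc1 (a : G) hu⟩) fun a b h => by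
          refine hu2 a b (mul_right_cancel (congrArg Subtype.val h)) ?_
          rw [(hfix _ a.2).eq, mul_inv_cancel_right, (hfix _ b.2).eq, mul_inv_cancel_right]
      rwa [hQc] at hb
  obtain ⟨n₀, hn₀, hn₀P⟩ := exists_not_mem (B := P₀) (N := N) (by
    rw [hc0]; exact lt_mul_of_one_lt_right Nat.card_pos hp.out.one_lt)
  -- the intersection is `P₀`
  have hDP : E ⊓ N ≤ P₀ := by
    intro d hd
    by_contra hdP
    have h1 := (bound d (mem_inf.1 hd).2 hdP).2 (Commute.refl d) fun e he => hEc e he d (mem_inf.1 hd).1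
    rw [hE4] at h1
    have h3 : Nat.card ↥(E ⊓ N : Subgroup G) = p ^ 3 := by
      refine le_antisymm (hk ▸ hD4) (Nat.le_of_mul_le_mul_right ?_ hp.out.pos)
      rwa [← pow_succ]
    have h5 : E ⊓ N = N := eq_of_le_of_card_ge inf_le_right (by rw [h3, hk])
    have h6 : E ≤ E ⊓ N := fun x hx => hfib x hx (mem_centralizer_iff.2 fun y hy =>
      ((hEc x hx y (h5.ge.trans inf_le_left hy)).symm).eq)
    have := hpow (hE4 ▸ h3 ▸ Nat.le_of_dvd Nat.card_pos (card_dvd_of_le h6) : p ^ 4 ≤ p ^ 3)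
    omega
  have hDc : Nat.card ↥(E ⊓ N : Subgroup G) = p ^ 2 := by
    refine le_antisymm (hP₀c ▸ Nat.le_of_dvd Nat.card_pos (card_dvd_of_le hDP)) ?_
    refine Nat.le_of_mul_le_mul_right ?_ (pow_pos hp.out.pos 2)
    rw [← pow_add]
    exact hE4 ▸ (bound n₀ hn₀ hn₀P).1
  have hDeq : E ⊓ N = P₀ := eq_of_le_of_card_ge hDP (by rw [hDc, hP₀c])
  have hP₀E : P₀ ≤ E := hDeq ▸ inf_le_left
  -- every element of `E` is determined by its action on `n₀`, and all actions occur
  let φ : ↥E → ↥P₀ := fun a => ⟨_, comm_mem_of_factor hG hP₀N hc0 (a : G) hn₀⟩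
  have hcent : ∀ x : G, (∀ c ∈ P₀, Commute x c) → Commute x n₀ → x ∈ centralizer (N : Set G) := fun x h1 h2 =>
    mem_centralizer_of_gens hP₀N hn₀ hn₀P hc0 h2 h1
  have hφ : ∀ a b : ↥E, φ a = φ b → (b : G)⁻¹ * a ∈ E ⊓ N := fun a b h =>
    hfib _ (mul_mem (inv_mem b.2) a.2) (hcent _
      (fun c hc => hEc _ (mul_mem (inv_mem b.2) a.2) c (hP₀E hc))
      (commute_of_conj_eq (mul_right_cancel (congrArg Subtype.val h))))
  have hsurj : Function.Surjective φ := by
    have hb := card_le_mul (E := E) (D := E ⊓ N) (V := ↥(Set.range φ)) (fun a => ⟨φ a, a, rfl⟩)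
      fun a b h => hφ a b (congrArg Subtype.val h)
    rw [hE4, hDc, show (4 : ℕ) = 2 + 2 from rfl, pow_add] at hb
    have hle := Nat.le_of_mul_le_mul_left hb (pow_pos hp.out.pos 2)
    refine Set.range_eq_univ.1 (Set.eq_of_subset_of_ncard_le (Set.subset_univ _) ?_)
    rw [Set.ncard_univ, hP₀c, ← Nat.card_coe_set_eq]
    exact hle
  -- conjugates
  refine ⟨fun x₀ hx₀ g => ?_⟩
  set E' := E.map (MulAut.conj g).toMonoidHom with hE'def
  have hxE' : g * x₀ * g⁻¹ ∈ E' := mem_map_of_mem _ hx₀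
  have hE'p : ∀ x ∈ E', x ^ p = 1 := by
    rintro _ ⟨x, hx, rfl⟩
    rw [← map_pow, hEp x hx, map_one]
  have hE'c : ∀ x ∈ E', ∀ y ∈ E', Commute x y := by
    rintro _ ⟨x, hx, rfl⟩ _ ⟨y, hy, rfl⟩
    exact (hEc x hx y hy).map _
  have hE'M : E' ≤ M := by
    rintro _ ⟨x, hx, rfl⟩
    exact hMn.conj_mem x (hEleM hx) g
  have hP₀E' : P₀ ≤ E' := fun c hc => ⟨g⁻¹ * c * g, hP₀E (by
    simpa using hP₀n.conj_mem c hc g⁻¹), by simp [mul_assoc]⟩
  have hE'Mn : ∀ a ∈ M, ∀ x ∈ E', a * x * a⁻¹ ∈ E' := by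
    rintro a ha _ ⟨x, hx, rfl⟩
    refine ⟨g⁻¹ * a * g * x * (g⁻¹ * a * g)⁻¹, hEMn _ (by simpa using hMn.conj_mem a ha g⁻¹) x hx, ?_⟩
    simp [mul_assoc]
  have hEN : ∀ y ∈ E', ∃ e ∈ E, ∃ w ∈ N, y = e * w := by
    intro y hy
    obtain ⟨e, he⟩ := hsurj ⟨_, comm_mem_of_factor hG hP₀N hc0 y hn₀⟩
    have hcj : y * n₀ * y⁻¹ = (e : G) * n₀ * (e : G)⁻¹ :=
      (mul_right_cancel (congrArg Subtype.val he)).symm
    refine ⟨e, e.2, (e : G)⁻¹ * y, ?_, (mul_inv_cancel_left _ _).symm⟩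
    refine key _ (hcent _ (fun c hc => Commute.mul_left
      ((hEc _ e.2 c (hP₀E hc)).inv_left) (hE'c y hy c (hP₀E' hc))) (commute_of_conj_eq hcj)) ?_
    -- class two
    set c := y * (e : G)⁻¹ * y⁻¹ * (e : G) with hcdef
    have hcE : c ∈ E := mul_mem (hEMn y (hE'M hy) _ (inv_mem e.2)) e.2
    have hcE' : c ∈ E' := by
      have : c = y * ((e : G)⁻¹ * y⁻¹ * ((e : G)⁻¹)⁻¹) := by rw [hcdef]; group
      rw [this]
      exact mul_mem hy (hE'Mn _ (hEleM (inv_mem e.2)) _ (inv_mem hy))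
    rw [CfsgLib.Fusion.mul_pow_eq_of_central_commutator (c := c) hp.out hp2
      (by rw [hcdef]; group) (hEc c hcE _ (inv_mem e.2)) (hE'c c hcE' y hy) (hEp c hcE),
      hE'p y hy, mul_one, inv_pow, hEp _ e.2, inv_one]
  -- `E' ≤ E`
  by_contra hgx
  obtain ⟨e, he, w, hw, hyw⟩ := hEN _ hxE'
  have hwP : w ∉ P₀ := fun h => hgx (hyw ▸ mul_mem he (hP₀E h))
  have hgt : Nat.card P₀ < Nat.card ↥(E ⊓ E' : Subgroup G) := by
    have hE'4 : Nat.card E' = p ^ 4 := by
      rw [hE'def, card_map_of_injective (MulAut.conj g).injective, hE4]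
    choose ef hef wf hwf heq using hEN
    have hb := card_le_mul (E := E') (D := E ⊓ E') (V := ↥(N.map (QuotientGroup.mk' P₀)))
      (fun a => ⟨QuotientGroup.mk' P₀ (wf a a.2), mem_map_of_mem _ (hwf a a.2)⟩) fun a b h => by
        have hmem : (wf b b.2)⁻¹ * wf a a.2 ∈ P₀ := QuotientGroup.eq.1 (congrArg Subtype.val h).symm
        refine mem_inf.2 ⟨?_, mul_mem (inv_mem b.2) a.2⟩
        have hx : (ef b b.2)⁻¹ * ef a a.2 ∈ E := mul_mem (inv_mem (hef b b.2)) (hef a a.2)
        have hcm := comm_mem_of_factor hG hP₀N hc0 ((ef b b.2)⁻¹ * ef a a.2)⁻¹ (inv_mem (hwf b b.2))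
        have e1 : (b : G)⁻¹ * a = ((ef b b.2)⁻¹ * ef a a.2) *
            ((((ef b b.2)⁻¹ * ef a a.2)⁻¹ * (wf b b.2)⁻¹ * ((ef b b.2)⁻¹ * ef a a.2)⁻¹⁻¹ * (wf b b.2)⁻¹⁻¹) *
              ((wf b b.2)⁻¹ * wf a a.2)) := by
          conv_lhs => rw [heq a a.2, heq b b.2]
          group
        rw [e1]
        exact mul_mem hx (hP₀E (mul_mem hcm hmem))
    have hV : Nat.card ↥(N.map (QuotientGroup.mk' P₀)) ≤ p := by
      have h1 : Nat.card P₀ * P₀.relIndex N = Nat.card N := by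
        rw [← relIndex_bot_left, ← relIndex_bot_left, relIndex_mul_relIndex _ _ _ bot_le hP₀N]
      rw [← relIndex_ker, QuotientGroup.ker_mk']
      exact (Nat.eq_of_mul_eq_mul_left Nat.card_pos (h1.trans hc0)).le
    rw [hP₀c]
    refine Nat.lt_of_mul_lt_mul_right (a := p) ?_
    calc p ^ 2 * p = p ^ 3 := (pow_succ p 2).symm
      _ < p ^ 4 := Nat.pow_lt_pow_right hp.out.one_lt (by omega)
      _ ≤ _ := (hE'4 ▸ hb).trans (Nat.mul_le_mul_left _ hV)
  obtain ⟨e', he', he'P⟩ := exists_not_mem hgt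
  have h1 : Commute e' w := by
    have : w = e⁻¹ * (g * x₀ * g⁻¹) := by rw [hyw, inv_mul_cancel_left]
    rw [this]
    exact (hEc e' (mem_inf.1 he').1 _ (inv_mem he)).mul_right (hE'c e' (mem_inf.1 he').2 _ hxE')
  exact he'P (hDeq ▸ hfib e' (mem_inf.1 he').1
    (mem_centralizer_of_gens hP₀N hw hwP hc0 h1 fun c hc => hEc e' (mem_inf.1 he').1 c (hP₀E hc)))


/-- For odd p, a p-group containing an elementary abelian subgroup of order p^4 has a normal elementary abelian subgroup of order p^4. -/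
theorem result {G : Type*} [Group G] [Finite G] {p : ℕ} [Fact p.Prime] (hp : p ≠ 2) (hG : IsPGroup p G) (E : Subgroup G) (hE : Cfsg.IsElementaryAbelian p E) (hE4 : Nat.card E = p ^ 4) : ∃ A : Subgroup G, A.Normal ∧ Cfsg.IsElementaryAbelian p A ∧ Nat.card A = p ^ 4 := by
  exact main hp _ _ rfl hG E hE hE4

end Cfsg.Agent.S0122
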