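import Cfsg.Statements.S0123
import Cfsg.Agent.Lib.PGroup.ClassThreePower

set_option autoImplicit false
open Cfsg
open scoped commutatorElement

namespace Cfsg.Agent.S0123

/-- For a p-group of small class relative to p (class ≤ 2 with p odd, or class ≤ 3 with p > 3) whose derived subgroup is generated by elements of order dividing p, the p-th power map is multiplicative. -/
theorem result {R : Type*} [Group R] [Finite R] {p : ℕ} [Fact p.Prime] (hR : IsPGroup p R) (hcl : (p ≠ 2 ∧ ⁅commutator R, (⊤ : Subgroup R)⁆ = ⊥) ∨ (3 < p ∧ ⁅⁅commutator R, (⊤ : Subgroup R)⁆, (⊤ : Subgroup R)⁆ = ⊥)) (hder : commutator R ≤ Subgroup.closure {x : R | x ^ p = 1}) (x y : R) : (x * y) ^ p = x ^ p * y ^ p := by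
  have h3 : ⁅⁅commutator R, (⊤ : Subgroup R)⁆, (⊤ : Subgroup R)⁆ = ⊥ := by
    rcases hcl with ⟨_, h⟩ | ⟨_, h⟩
    · rw [h, Subgroup.commutator_bot_left]
    · exact h
  have htriv : ∀ a b c u v : R, CfsgLib.PGroup.ClassThreeData a b c u v →
      c ∈ commutator R → u ∈ ⁅commutator R, (⊤ : Subgroup R)⁆ →
      v ∈ ⁅commutator R, (⊤ : Subgroup R)⁆ → 3 < p ∨ (u = 1 ∧ v = 1) := by
    intro a b c u v _ _ hu hv
    rcases hcl with ⟨_, h⟩ | ⟨h, _⟩
    · rw [h, Subgroup.mem_bot] at hu hv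
      exact Or.inr ⟨hu, hv⟩
    · exact Or.inl h
  have h2 : p ≠ 2 := by rcases hcl with ⟨h, _⟩ | ⟨h, _⟩ <;> omega
  have hp1 : ∀ z ∈ commutator R, z ^ p = 1 := fun z hz =>
    CfsgLib.PGroup.pow_eq_one_of_mem_closure (fun a b ha hb => by
      obtain ⟨c, u, v, hc, hu, hv, D⟩ := CfsgLib.PGroup.exists_classThreeData h3 a b
      exact D.mul_pow_eq_one Fact.out h2 (htriv a b c u v D hc hu hv) ha hb) (hder hz)
  obtain ⟨c, u, v, hc, hu, hv, D⟩ := CfsgLib.PGroup.exists_classThreeData h3 x y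
  refine D.mul_pow_prime Fact.out h2 (hp1 c hc) ?_
  have hle : ⁅commutator R, (⊤ : Subgroup R)⁆ ≤ commutator R := Subgroup.commutator_mono le_top le_rfl
  exact (htriv x y c u v D hc hu hv).imp_left fun h => ⟨h, hp1 u (hle hu), hp1 v (hle hv)⟩

end Cfsg.Agent.S0123
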