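import Cfsg.Statements.S0125
import Cfsg.Agent.Lib.Fusion.Transfer

set_option autoImplicit false
open Cfsg

namespace Cfsg.Agent.S0125

/-- The centralizer of a self-centralizing normal subgroup A of a Sylow p-subgroup is the direct product of A with a normal p'-subgroup. -/
theorem result {G : Type*} [Group G] [Finite G] {p : ℕ} [Fact p.Prime] (R : Sylow p G) (A : Subgroup G) (hAR : A ≤ (R : Subgroup G)) (hAn : (R : Subgroup G) ≤ Subgroup.normalizer (A : Set G)) (hC : (R : Subgroup G) ⊓ Subgroup.centralizer (A : Set G) = A) : ∃ H : Subgroup G, H ≤ Subgroup.centralizer (A : Set G) ∧ Nat.Coprime (Nat.card H) p ∧ Subgroup.centralizer (A : Set G) ≤ Subgroup.normalizer (H : Set G) ∧ H ⊓ A = ⊥ ∧ H ⊔ A = Subgroup.centralizer (A : Set G) := by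
  have hCR := hC
  set C := Subgroup.centralizer (A : Set G) with hCdef
  have hAC : A ≤ C := by
    intro a ha
    have h1 : a ∈ (R : Subgroup G) ⊓ C := by rw [hCR]; exact ha
    exact h1.2
  set N := Subgroup.normalizer (A : Set G) with hN
  haveI hCn : (C.subgroupOf N).Normal := by
    refine ⟨fun c hc n => Subgroup.mem_centralizer_iff.2 fun a ha => ?_⟩
    have hc' : (c : G) ∈ Subgroup.centralizer (A : Set G) := hc
    have ha' : (n : G)⁻¹ * a * n ∈ A := (Subgroup.mem_normalizer_iff''.1 n.2 a).1 ha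
    have h := Subgroup.mem_centralizer_iff.1 hc' _ ha'
    show a * ((n : G) * c * (n : G)⁻¹) = n * c * (n : G)⁻¹ * a
    calc a * ((n : G) * c * (n : G)⁻¹) = n * ((n : G)⁻¹ * a * n * c) * (n : G)⁻¹ := by group
      _ = n * c * (n : G)⁻¹ * a := by rw [h]; group
  have hCN : C ≤ N := Subgroup.centralizer_le_normalizer _
  have hi := CfsgLib.Fusion.not_dvd_relIndex_inf_of_normal (R.subtype hAn) (C.subgroupOf N)
  have heq : ((R.subtype hAn : Sylow p N) : Subgroup N) ⊓ C.subgroupOf N = A.subgroupOf N := by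
    ext x
    show ((x : G) ∈ (R : Subgroup G) ∧ (x : G) ∈ C) ↔ (x : G) ∈ A
    conv_rhs => rw [← hCR]
    rfl
  rw [heq, Subgroup.relIndex_subgroupOf hCN] at hi
  have hAp : IsPGroup p A := R.2.to_le hAR
  let S : Sylow p C := (hAp.of_equiv (Subgroup.subgroupOfEquivOfLe hAC).symm).toSylow hi
  have hS : (S : Subgroup C) = A.subgroupOf C := rfl
  have hcomp : Cfsg.HasNormalPComplement p C := by
    refine CfsgLib.Fusion.hasNormalPComplement_of_normalizer_le_centralizer S fun c _ => ?_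
    rw [hS]
    exact Subgroup.mem_centralizer_iff.2 fun a ha =>
      Subtype.ext (Subgroup.mem_centralizer_iff.1 c.2 (a : G) ha)
  haveI hKn := CfsgLib.Fusion.pResidual_normal (G := C) (p := p)
  have hc := CfsgLib.Fusion.hasNormalPComplement_iff_forall_sylow.1 hcomp S
  set H := (Cfsg.pResidual p C).map C.subtype with hH
  have hHp : ¬ p ∣ Nat.card H := by
    rw [hH, Subgroup.card_map_of_injective C.subtype_injective]
    exact CfsgLib.Fusion.hasNormalPComplement_iff_not_dvd.1 hcomp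
  refine ⟨H, Subgroup.map_subtype_le _,
    Nat.coprime_comm.2 ((Fact.out : p.Prime).coprime_iff_not_dvd.2 hHp), ?_, ?_, ?_⟩
  · intro c hcC
    refine Subgroup.mem_normalizer_iff.2 fun x => ⟨?_, ?_⟩
    · rintro ⟨y, hy, rfl⟩
      exact ⟨⟨c, hcC⟩ * y * (⟨c, hcC⟩ : C)⁻¹, hKn.conj_mem y hy _, rfl⟩
    · rintro ⟨y, hy, hyx⟩
      refine ⟨(⟨c, hcC⟩ : C)⁻¹ * y * ((⟨c, hcC⟩ : C)⁻¹)⁻¹, hKn.conj_mem y hy _, ?_⟩
      show c⁻¹ * C.subtype y * (c⁻¹)⁻¹ = x
      rw [hyx]
      group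
  · rw [eq_bot_iff]
    rintro x ⟨⟨y, hy, rfl⟩, hxA⟩
    have h0 : y ∈ Cfsg.pResidual p C ⊓ (S : Subgroup C) := ⟨hy, hxA⟩
    rw [hc.disjoint.eq_bot, Subgroup.mem_bot] at h0
    rw [h0]
    simp
  · refine le_antisymm (sup_le (Subgroup.map_subtype_le _) hAC) fun x hx => ?_
    have hm := hc.sup_eq_top.symm ▸ Subgroup.mem_top (⟨x, hx⟩ : C)
    obtain ⟨y, hy, a, ha, hya⟩ := Subgroup.mem_sup_of_normal_left.1 hm
    rw [← show (y : G) * a = x from congrArg Subtype.val hya]
    exact Subgroup.mul_mem_sup ⟨y, hy, rfl⟩ ha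

end Cfsg.Agent.S0125
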