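import Cfsg.Statements.S0129
import Cfsg.Agent.Lib.PGroup.MaxNormalAbelian
import Cfsg.Agent.Lib.Invol.NormalFour

set_option autoImplicit false
open Cfsg

namespace Cfsg.Agent.S0129

/-- The order of a p-group is bounded by p^(a(a+1)/2) when it has a maximal normal abelian subgroup of order p^a. -/
theorem result {G : Type*} [Group G] [Finite G] {p : ℕ} [Fact p.Prime] (hG : IsPGroup p G) (A : Subgroup G) [A.Normal] (hA : IsMulCommutative A) (hmax : ∀ B : Subgroup G, B.Normal → IsMulCommutative B → A ≤ B → B = A) (a : ℕ) (ha : Nat.card A = p ^ a) : Nat.card G ≤ p ^ (a * (a + 1) / 2) := by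
  have hle := CfsgLib.Invol.centralizer_le_of_maximal hG inferInstance hA hmax
  have hAC : A ≤ Subgroup.centralizer (A : Set G) := fun x hx => Subgroup.mem_centralizer_iff.2
    fun b hb => congrArg Subtype.val (isMulCommutative_iff.1 hA ⟨b, hb⟩ ⟨x, hx⟩)
  have h := CfsgLib.PGroup.index_centralizer_le_pow hG a A hA ha
  rw [le_antisymm hle hAC] at h
  calc Nat.card G = Nat.card A * A.index := (Subgroup.card_mul_index A).symm
    _ ≤ p ^ a * p ^ (a * (a - 1) / 2) := by rw [ha]; exact Nat.mul_le_mul le_rfl h
    _ = p ^ (a * (a + 1) / 2) := by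
      rw [← pow_add]
      congr 1
      rcases a with - | b
      · rfl
      · rw [Nat.add_sub_cancel, show (b + 1) * (b + 1 + 1) = (b + 1) * b + 2 * (b + 1) by ring,
          Nat.add_mul_div_left _ _ two_pos, add_comm]

end Cfsg.Agent.S0129
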