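import Cfsg.Statements.S0131
import Cfsg.Agent.Lib.Fusion.Transfer

set_option autoImplicit false
open Cfsg

namespace Cfsg.Agent.S0131

/-- P/P' has a normal complement in G exactly when the focal subgroup G' ∩ P is as small as possible, namely P'. -/
theorem result {G : Type*} [Group G] [Finite G] {p : ℕ} [Fact p.Prime] (P : Sylow p G) : (∃ N : Subgroup G, N.Normal ∧ N ⊓ (P : Subgroup G) = ⁅(P : Subgroup G), (P : Subgroup G)⁆ ∧ N ⊔ (P : Subgroup G) = ⊤) ↔ commutator G ⊓ (P : Subgroup G) = ⁅(P : Subgroup G), (P : Subgroup G)⁆ := by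
  constructor
  · rintro ⟨N, hN, hi, hs⟩
    haveI := hN
    refine le_antisymm ?_ (le_inf (Subgroup.commutator_mono le_top le_top)
      (Subgroup.commutator_le_self _))
    rw [← hi]
    refine inf_le_inf_right _ ?_
    have hmap : (⊤ : Subgroup G).map (QuotientGroup.mk' N) =
        (P : Subgroup G).map (QuotientGroup.mk' N) := by
      rw [← hs, Subgroup.map_sup, QuotientGroup.map_mk'_self, bot_sup_eq]
    have h2 : (commutator G).map (QuotientGroup.mk' N) = ⊥ := by
      rw [commutator_def, Subgroup.map_commutator, hmap, ← Subgroup.map_commutator,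
        Subgroup.map_eq_bot_iff, QuotientGroup.ker_mk']
      exact hi.ge.trans inf_le_left
    rwa [Subgroup.map_eq_bot_iff, QuotientGroup.ker_mk'] at h2
  · intro h
    have hcop := CfsgLib.Fusion.coprime_card_focalQuotient P
    exact ⟨_, inferInstance, (CfsgLib.Fusion.ker_transferFocal_inf hcop).trans
      ((CfsgLib.Fusion.commutator_inf_eq_focal hcop).symm.trans h),
      CfsgLib.Fusion.ker_transferFocal_sup hcop⟩

end Cfsg.Agent.S0131
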