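import Cfsg.Statements.S0159

import Cfsg.Agent.Lib.Char.Orthogonality

set_option autoImplicit false
open Cfsg

namespace Cfsg.Agent.S0159

/-- The number of solutions of s * s = 1 in a finite group equals the sum, over the irreducible characters χ, of (the average over s of χ (s * s)) times χ 1. -/
theorem result {G : Type*} [Group G] [Fintype G] : (Nat.card {s : G // s * s = 1} : ℂ) = ∑ᶠ χ : Cfsg.IrrCharacter G, ((Nat.card G : ℂ)⁻¹ * ∑ s : G, (χ : G → ℂ) (s * s)) * (χ : G → ℂ) 1 := by
  classical
  have := Fintype.ofFinite (Cfsg.IrrCharacter G)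
  rw [finsum_eq_sum_of_fintype]
  simp only [mul_assoc, Finset.sum_mul]
  rw [← Finset.mul_sum, Finset.sum_comm]
  have h : ∀ s : G, ∑ χ : Cfsg.IrrCharacter G, (χ : G → ℂ) (s * s) * (χ : G → ℂ) 1 =
      if s * s = 1 then (Nat.card G : ℂ) else 0 := by
    intro s
    have h1 := CfsgLib.Char.sum_irr_mul_conj (s * s) (1 : G)
    simp only [CfsgLib.Char.conj_irr_one] at h1
    rw [h1]
    by_cases hs : s * s = 1
    · rw [if_pos hs, if_pos (by rw [hs])]
      congr 1
      refine Nat.card_congr
        { toFun := fun z => z.1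
          invFun := fun a => ⟨a, Subgroup.mem_centralizer_singleton_iff.mpr (by rw [hs]; simp)⟩
          left_inv := fun z => rfl
          right_inv := fun a => rfl }
    · rw [if_neg hs, if_neg fun e => hs (isConj_one_left.mp e)]
  rw [Finset.sum_congr rfl fun s _ => h s, ← Finset.sum_filter, Finset.sum_const, nsmul_eq_mul,
    mul_comm _ (Nat.card G : ℂ), ← mul_assoc, inv_mul_cancel₀ CfsgLib.Char.card_ne_zero', one_mul,
    Nat.card_eq_fintype_card, Fintype.card_subtype]

end Cfsg.Agent.S0159
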