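import Cfsg.Statements.S0166
import Cfsg.Agent.Lib.Char.SplittingField

set_option autoImplicit false
open Cfsg

namespace Cfsg.Agent.S0166

/-- Brauer's splitting field Theorem: a complex representation of a finite group of exponent m is equivalent to a representation by matrices with entries in ℚ adjoined exp(2πi/m). -/
theorem result {G : Type*} [Group G] [Finite G] (n : ℕ) (ρ : Representation ℂ G (Fin n → ℂ)) : ∃ σ : Representation ℂ G (Fin n → ℂ), Nonempty (ρ.Equiv σ) ∧ ∀ g : G, ∀ i j : Fin n, LinearMap.toMatrix' (σ g) i j ∈ Algebra.adjoin ℚ ({Complex.exp (2 * Real.pi * Complex.I / (Monoid.exponent G : ℂ))} : Set ℂ) := by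
  haveI := Fintype.ofFinite G
  have hm : Monoid.exponent G ≠ 0 := Monoid.ExponentExists.of_finite.exponent_ne_zero
  obtain ⟨ζ, hζ⟩ : ∃ ζ : ℂ, ζ = Complex.exp (2 * Real.pi * Complex.I / (Monoid.exponent G : ℂ)) :=
    ⟨_, rfl⟩
  have hprim : IsPrimitiveRoot ζ (Monoid.exponent G) := hζ ▸ Complex.isPrimitiveRoot_exp _ hm
  have halg : IsAlgebraic ℚ ζ :=
    (hprim.isIntegral (Nat.pos_of_ne_zero hm)).tower_top.isAlgebraic
  have hroot : ∀ z : ℂ, z ^ Monoid.exponent G = 1 →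
      ∃ a : IntermediateField.adjoin ℚ ({ζ} : Set ℂ), algebraMap _ ℂ a = z := fun z hz => by
    haveI : NeZero (Monoid.exponent G) := ⟨hm⟩
    obtain ⟨i, -, rfl⟩ := hprim.eq_pow_of_pow_eq_one hz
    exact ⟨⟨_, pow_mem (IntermediateField.mem_adjoin_simple_self ℚ ζ) i⟩, rfl⟩
  obtain ⟨σ, he, hσ⟩ := CfsgLib.Char.Splitting.exists_realization hroot ρ
  refine ⟨σ, he, fun g i j => ?_⟩
  obtain ⟨a, ha⟩ := hσ g i j
  rw [← ha, ← hζ, ← IntermediateField.adjoin_simple_toSubalgebra_of_isAlgebraic halg]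
  exact a.2

end Cfsg.Agent.S0166
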