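import Cfsg.Statements.S0203
import Cfsg.Agent.Lib.Invol.KleinSylow


set_option autoImplicit false
open Cfsg

namespace Cfsg.Agent.S0203

/-- If a Sylow 2-subgroup P of a finite group G is a Klein four-group, then G has three classes of involutions if and only if P has a normal complement in G. -/
theorem result {G : Type*} [Group G] [Finite G] (P : Sylow 2 G) (hP : IsKleinFour (P : Subgroup G)) : Nat.card {C : ConjClasses G // ∃ t : G, orderOf t = 2 ∧ ConjClasses.mk t = C} = 3 ↔ ∃ N : Subgroup G, N.Normal ∧ Subgroup.IsComplement' N (P : Subgroup G) := by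
  constructor
  · intro h3
    rcases CfsgLib.Invol.klein_dichotomy P hP with h | h
    · have hNC : Subgroup.normalizer ((P : Subgroup G) : Set G) ≤
          Subgroup.centralizer ((P : Subgroup G) : Set G) := fun g hg => by
        rw [Subgroup.mem_centralizer_iff]
        intro x hx
        exact (mul_inv_eq_iff_eq_mul.1 (h x hx g hg)).symm
      exact ⟨_, inferInstance, MonoidHom.ker_transferSylow_isComplement' P hNC⟩
    · rw [CfsgLib.Invol.klein_card_classes_one P hP h] at h3
      exact absurd h3 (by norm_num)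
  · rintro ⟨N, hN, hc⟩
    refine CfsgLib.Invol.klein_card_classes P hP fun x hx g hg => ?_
    have hy := (Subgroup.mem_normalizer_iff.1 hg x).1 hx
    -- compare modulo the normal complement
    obtain ⟨n, a, ha, hn, hna⟩ : ∃ n a, a ∈ (P : Subgroup G) ∧ n ∈ N ∧ g = n * a := by
      obtain ⟨⟨n, a⟩, hna⟩ := (hc : Subgroup.IsComplement _ _).2 g
      exact ⟨n, a, a.2, n.2, hna.symm⟩
    have hax : a * x * a⁻¹ = x := by
      have hcomm := CfsgLib.Invol.klein_comm P hP
      have h1 : a * x = x * a := congrArg Subtype.val (hcomm.is_comm.comm (⟨a, ha⟩ : (P : Subgroup G)) ⟨x, hx⟩)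
      rw [h1, mul_inv_cancel_right]
    have hyn : g * x * g⁻¹ = n * x * n⁻¹ := by
      calc g * x * g⁻¹ = n * (a * x * a⁻¹) * n⁻¹ := by rw [hna]; group
        _ = n * x * n⁻¹ := by rw [hax]
    have hmem : g * x * g⁻¹ * x⁻¹ ∈ N ⊓ (P : Subgroup G) := by
      refine ⟨?_, mul_mem hy ((P : Subgroup G).inv_mem hx)⟩
      rw [hyn, show n * x * n⁻¹ * x⁻¹ = n * (x * n⁻¹ * x⁻¹) by group]
      exact mul_mem hn (hN.conj_mem _ (N.inv_mem hn) x)
    rw [hc.disjoint.eq_bot, Subgroup.mem_bot, mul_inv_eq_one] at hmem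
    exact hmem

end Cfsg.Agent.S0203
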