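import Cfsg.Statements.S0210
import Cfsg.Agent.Lib.Invol.Basic


set_option autoImplicit false
open Cfsg

namespace Cfsg.Agent.S0210

/-- If x, y are involutions whose product has even order, no element of the subgroup generated by x and y conjugates x to y. -/
theorem result {G : Type*} [Group G] [Finite G] (x y : G) (hx : orderOf x = 2) (hy : orderOf y = 2) (heven : Even (orderOf (x * y))) (d : G) (hd : d ∈ Subgroup.closure ({x, y} : Set G)) : d * x * d⁻¹ ≠ y := by
  intro h
  obtain ⟨k, hk⟩ := CfsgLib.Invol.conj_invol_eq hx hy hd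
  rw [hk] at h
  have h1 : (x * y) ^ (2 * k) = (x * y) ^ (1 : ℤ) := by
    rw [zpow_one]
    calc (x * y) ^ (2 * k) = x * x * (x * y) ^ (2 * k) := by
          rw [CfsgLib.Invol.invol_mul_self hx, one_mul]
      _ = x * y := by rw [mul_assoc, h]
  rw [zpow_eq_zpow_iff_modEq] at h1
  obtain ⟨m, hm⟩ := heven
  have h2 : (2 * k) ≡ 1 [ZMOD 2] := h1.of_dvd ⟨m, by rw [hm]; push_cast; ring⟩
  simp [Int.ModEq] at h2

end Cfsg.Agent.S0210
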