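import Cfsg.Statements.S0211
import Cfsg.Agent.Lib.Invol.Basic


set_option autoImplicit false
open Cfsg

namespace Cfsg.Agent.S0211

/-- Let x, y be involutions with xy of even order n and z = (xy)^(n/2). Then xz is conjugate to x by an element of the subgroup generated by x, y if and only if 4 divides n. -/
theorem result {G : Type*} [Group G] [Finite G] (x y : G) (hx : orderOf x = 2) (hy : orderOf y = 2) (heven : Even (orderOf (x * y))) : (∃ d ∈ Subgroup.closure ({x, y} : Set G), d * x * d⁻¹ = x * (x * y) ^ (orderOf (x * y) / 2)) ↔ 4 ∣ orderOf (x * y) := by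
  constructor
  · rintro ⟨d, hd, h⟩
    obtain ⟨k, hk⟩ := CfsgLib.Invol.conj_invol_eq hx hy hd
    rw [hk, mul_left_cancel_iff, ← zpow_natCast (x * y) (orderOf (x * y) / 2),
      zpow_eq_zpow_iff_modEq, Int.modEq_iff_dvd] at h
    obtain ⟨m, hm⟩ := heven
    by_contra h4
    have h2 : ((2 : ℕ) : ℤ) ∣ ((orderOf (x * y) / 2 : ℕ) : ℤ) - 2 * k :=
      dvd_trans (Int.natCast_dvd_natCast.2 ⟨m, by omega⟩) h
    omega
  · rintro ⟨m, hm⟩
    refine ⟨(x * y) ^ (-(m : ℤ)), zpow_mem (CfsgLib.Invol.mul_mem_closure_pair x y) _, ?_⟩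
    rw [CfsgLib.Invol.zpow_conj_invol hx hy, mul_left_cancel_iff,
      ← zpow_natCast (x * y) (orderOf (x * y) / 2)]
    congr 1
    omega

end Cfsg.Agent.S0211
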