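import Cfsg.Statements.S0216
import Cfsg.Agent.Lib.Invol.Basic


set_option autoImplicit false
open Cfsg

namespace Cfsg.Agent.S0216

/-- For an involution u in a Sylow 2-subgroup P of a finite group G, the following are equivalent: no G-conjugate of u other than u lies in P; every commutator of u with an element of G has odd order. -/
theorem result {G : Type*} [Group G] [Finite G] (P : Sylow 2 G) (u : G) (hu : orderOf u = 2) (huP : u ∈ P) : (∀ g : G, g * u * g⁻¹ ∈ P → g * u * g⁻¹ = u) ↔ (∀ g : G, Odd (orderOf (u * g * u⁻¹ * g⁻¹))) := by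
  constructor
  · intro h g
    have e : u * g * u⁻¹ * g⁻¹ = u * (g * u * g⁻¹) := by
      rw [CfsgLib.Invol.invol_inv hu]; group
    rw [e]
    exact CfsgLib.Invol.odd_orderOf_mul_conj_of_closed P hu h g
  · intro h g hg
    have e : u * g * u⁻¹ * g⁻¹ = u * (g * u * g⁻¹) := by
      rw [CfsgLib.Invol.invol_inv hu]; group
    have hodd := h g
    rw [e] at hodd
    obtain ⟨s, hs⟩ := CfsgLib.Invol.orderOf_pow_two_of_mem (P := P) (mul_mem huP hg)
    have h1 := CfsgLib.Invol.eq_one_of_odd_of_pow_two hodd (hs ▸ pow_orderOf_eq_one _)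
    rw [← inv_eq_of_mul_eq_one_right h1, CfsgLib.Invol.invol_inv hu]

end Cfsg.Agent.S0216
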