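import Cfsg.Statements.S0219
import Cfsg.Agent.Lib.Invol.Basic
import Mathlib.GroupTheory.Transfer


set_option autoImplicit false
open Cfsg

namespace Cfsg.Agent.S0219

/-- If a finite group has even order and a cyclic Sylow 2-subgroup, then it has a subgroup of index 2 (consider the parity of permutations in the regular representation). -/
theorem result {G : Type*} [Group G] [Finite G] (heven : Even (Nat.card G)) (T : Sylow 2 G) (hT : IsCyclic (T : Subgroup G)) : ∃ H : Subgroup G, H.index = 2 := by
  have hp : (Nat.card G).minFac = 2 := by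
    rw [Nat.minFac_eq_two_iff]; exact heven.two_dvd
  have hc := IsCyclic.isComplement' hp hT
  set f := MonoidHom.transferSylow T (IsCyclic.normalizer_le_centralizer hp hT) with hf
  have hbij : Function.Surjective f := by
    rw [← MonoidHom.range_eq_top]
    apply Subgroup.eq_top_of_le_card
    have h1 := hc.card_mul
    have h2 : Nat.card f.range * Nat.card f.ker = Nat.card G := by
      rw [← Subgroup.index_ker, mul_comm, Subgroup.card_mul_index]
    have h3 : Nat.card f.range = Nat.card (T : Subgroup G) :=
      Nat.eq_of_mul_eq_mul_right (Nat.card_pos (α := f.ker)) (h2.trans (by rw [← h1]; ring))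
    omega
  have hk : ∃ k, Nat.card (T : Subgroup G) = 2 ^ (k + 1) := by
    obtain ⟨k, hk⟩ := T.2.exists_card_eq
    rcases k with _ | k
    · exfalso
      have h1 := T.dvd_card_of_dvd_card heven.two_dvd
      rw [hk] at h1
      norm_num at h1
    · exact ⟨k, hk⟩
  obtain ⟨k, hk⟩ := hk
  obtain ⟨K, hK⟩ := Sylow.exists_subgroup_card_pow_prime 2 (n := k)
    (G := (T : Subgroup G)) (by rw [hk]; exact pow_dvd_pow 2 (by omega))
  refine ⟨K.comap f, ?_⟩
  rw [Subgroup.index_comap_of_surjective _ hbij]
  have h1 := K.card_mul_index
  rw [hK, hk, pow_succ] at h1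
  exact Nat.eq_of_mul_eq_mul_left (by positivity) h1

end Cfsg.Agent.S0219
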