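import Cfsg.Statements.S0221
import Cfsg.Agent.Lib.Invol.NormalFourExists
import Cfsg.Agent.Lib.Invol.Basic
import Cfsg.Agent.Lib.Fusion.Tate


set_option autoImplicit false
open Cfsg

namespace Cfsg.Agent.S0221

/-- Let G be a finite group with no subgroup of index 2 whose 2-rank is at least 3 (it contains an elementary abelian subgroup of order 8). Then the centralizer of every involution of G also contains an elementary abelian subgroup of order 8. -/
theorem result {G : Type*} [Group G] [Finite G] (hno : ∀ H : Subgroup G, H.index ≠ 2) (hrank : ∃ E : Subgroup G, Nat.card E = 8 ∧ ∀ e ∈ E, e ^ 2 = 1) (x : G) (hx : orderOf x = 2) : ∃ E : Subgroup G, E ≤ Subgroup.centralizer ({x} : Set G) ∧ Nat.card E = 8 ∧ ∀ e ∈ E, e ^ 2 = 1 := by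
  haveI : Fact (Nat.Prime 2) := ⟨Nat.prime_two⟩
  obtain ⟨E, hE8, hE⟩ := hrank
  obtain ⟨P, hP⟩ := (IsPGroup.of_card (p := 2) (n := 1) (G := Subgroup.zpowers x)
    (by rw [Nat.card_zpowers, hx, pow_one])).exists_le_sylow
  obtain ⟨c, hc⟩ := CfsgLib.Invol.exists_conj_le_sylow
    (IsPGroup.of_card (p := 2) (n := 3) (G := E) (by rw [hE8]; norm_num)) P
  set E' := E.map (MulAut.conj c).toMonoidHom with hE'
  have hE'le : E' ≤ (P : Subgroup G) := by rintro _ ⟨q, hq, rfl⟩; exact hc q hq
  have hE'8 : Nat.card E' = 8 := by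
    rw [hE', Subgroup.card_map_of_injective (MulAut.conj c).injective, hE8]
  have hE'2 : ∀ q ∈ E', q ^ 2 = 1 := by
    rintro _ ⟨q, hq, rfl⟩
    show (MulAut.conj c q) ^ 2 = 1
    rw [← map_pow, hE q hq, map_one]
  set E₀ := E'.subgroupOf (P : Subgroup G) with hE₀
  have hE₀8 : Nat.card E₀ = 8 := by
    rw [hE₀, Nat.card_congr (Subgroup.subgroupOfEquivOfLe hE'le).toEquiv, hE'8]
  have hE₀2 : ∀ q ∈ E₀, q ^ 2 = 1 := fun q hq => Subtype.ext (by simpa using hE'2 _ hq)
  obtain ⟨U, hUn, hU4, hU2⟩ := CfsgLib.Invol.exists_normal_four P.2 E₀ hE₀2 (by omega)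
  haveI := hUn
  set T := Subgroup.centralizer (U : Set (P : Subgroup G)) with hT
  have hTi := CfsgLib.Invol.relIndex_centralizer_four P.2 U hU4
  -- every element of order two of T has the required property
  have key : ∀ y : (P : Subgroup G), y ∈ T → y ^ 2 = 1 →
      ∃ F : Subgroup (P : Subgroup G), F ≤ Subgroup.centralizer ({y} : Set (P : Subgroup G)) ∧
        Nat.card F = 8 ∧ ∀ f ∈ F, f ^ 2 = 1 := by
    intro y hyT hy2
    -- first find an elementary subgroup of order 8 containing U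
    have hUC : ∀ u ∈ U, ∀ v ∈ U, u * v = v * u := by
      intro u hu v hv
      have h1 := hU2 _ (mul_mem hu hv)
      rw [pow_two] at h1
      have hui : u⁻¹ = u := inv_eq_of_mul_eq_one_left (by rw [← pow_two, hU2 u hu])
      have hvi : v⁻¹ = v := inv_eq_of_mul_eq_one_left (by rw [← pow_two, hU2 v hv])
      calc u * v = (u * v)⁻¹ := (inv_eq_of_mul_eq_one_left h1).symm
        _ = v * u := by rw [mul_inv_rev, hui, hvi]
    have mk : ∀ w : (P : Subgroup G), w ∈ T → w ^ 2 = 1 → w ∉ U →
        ∃ F : Subgroup (P : Subgroup G), U ≤ F ∧ w ∈ F ∧ Nat.card F = 8 ∧ (∀ f ∈ F, f ^ 2 = 1) ∧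
          ∀ f ∈ F, ∀ g ∈ F, f * g = g * f := by
      intro w hwT hw2 hwU
      have hcomm : ∀ u ∈ U, u * w = w * u := fun u hu => Subgroup.mem_centralizer_iff.1 hwT u hu
      let F : Subgroup (P : Subgroup G) :=
        { carrier := {f | ∃ u ∈ U, ∃ i : ℕ, f = u * w ^ i}
          one_mem' := ⟨1, one_mem _, 0, by simp⟩
          mul_mem' := by
            rintro _ _ ⟨u, hu, i, rfl⟩ ⟨v, hv, j, rfl⟩
            refine ⟨u * v, mul_mem hu hv, i + j, ?_⟩
            rw [mul_assoc u, ← mul_assoc (w ^ i), ((show Commute v w from hcomm v hv).pow_right i).symm.eq]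
            rw [pow_add]; group
          inv_mem' := by
            rintro _ ⟨u, hu, i, rfl⟩
            refine ⟨u⁻¹, inv_mem hu, i, ?_⟩
            rw [mul_inv_rev, ← inv_pow, inv_eq_of_mul_eq_one_left (show w * w = 1 by rw [← pow_two, hw2])]
            exact (((show Commute u⁻¹ w from ((show Commute u w from hcomm u hu).inv_left)).pow_right i).eq).symm }
      have hform : ∀ f ∈ F, f ∈ U ∨ w * f ∈ U := by
        rintro _ ⟨u, hu, i, rfl⟩
        rcases Nat.even_or_odd' i with ⟨l, rfl | rfl⟩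
        · left; rwa [pow_mul, hw2, one_pow, mul_one]
        · right
          rw [pow_succ, pow_mul, hw2, one_pow, one_mul, hcomm u hu, ← mul_assoc, ← pow_two, hw2, one_mul]
          exact hu
      have hFc : ∀ f ∈ F, ∀ g ∈ F, f * g = g * f := by
        rintro _ ⟨u, hu, i, rfl⟩ _ ⟨v, hv, j, rfl⟩
        exact ((((show Commute u v from hUC u hu v hv).mul_right
          ((show Commute u w from hcomm u hu).pow_right j))).mul_left
          ((((show Commute v w from hcomm v hv).pow_right i).symm).mul_right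
            ((Commute.refl w).pow_pow i j))).eq
      have hF2 : ∀ f ∈ F, f ^ 2 = 1 := by
        rintro _ ⟨u, hu, i, rfl⟩
        rw [((show Commute u w from hcomm u hu).pow_right i).mul_pow, hU2 u hu, one_mul, ← pow_mul,
          mul_comm, pow_mul, hw2, one_pow]
      refine ⟨F, fun u hu => ⟨u, hu, 0, by simp⟩, ⟨1, one_mem _, 1, by simp⟩, ?_, hF2, hFc⟩
      have hUF : U ≤ F := fun u hu => ⟨u, hu, 0, by simp⟩
      have hwF : w ∈ F := ⟨1, one_mem _, 1, by simp⟩
      have h1 := (U.subgroupOf F).card_mul_index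
      rw [Nat.card_congr (Subgroup.subgroupOfEquivOfLe hUF).toEquiv, hU4] at h1
      have h2 : (U.subgroupOf F).index = 2 := by
        rw [Subgroup.index_eq_two_iff_exists_notMem_and']
        refine ⟨⟨w, hwF⟩, hwU, fun f => ?_⟩
        rcases hform f f.2 with h | h
        · exact Or.inr h
        · exact Or.inl h
      rw [h2] at h1; omega
    by_cases hyU : y ∈ U
    · -- take an involution of T outside U
      obtain ⟨w, hwT, hw2, hwU⟩ : ∃ w, w ∈ T ∧ w ^ 2 = 1 ∧ w ∉ U := by
        by_contra hall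
        push Not at hall
        have hle : T.subgroupOf E₀ ≤ U.subgroupOf E₀ :=
          fun f hf => hall f hf (hE₀2 f f.2)
        have h1 := (T.subgroupOf E₀).card_mul_index
        have h2 : (T.subgroupOf E₀).index ∣ 2 := by
          haveI : T.Normal := Subgroup.normal_centralizer
          exact (Subgroup.relIndex_dvd_index_of_normal T E₀).trans hTi
        have h3 : Nat.card (U.subgroupOf E₀) ≤ 4 := by
          rw [← hU4]
          exact Nat.card_le_card_of_injective (fun f => (⟨_, f.2⟩ : U))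
            (fun f g h => Subtype.ext (Subtype.ext (congrArg (fun z : U => (z : (P : Subgroup G))) h)))
        have h4 := Subgroup.card_le_of_le hle
        rw [hE₀8] at h1
        have h5 := Nat.le_of_dvd two_pos h2
        have h6 : Nat.card (T.subgroupOf E₀) = Nat.card (U.subgroupOf E₀) ∧ Nat.card (U.subgroupOf E₀) = 4 := by
          constructor <;> nlinarith
        -- then U ≤ E₀, so E₀ centralizes U
        have h7 : U ≤ E₀ := by
          intro u hu
          have : (fun f : U.subgroupOf E₀ => (⟨_, f.2⟩ : U)).Surjective :=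
            (((Nat.bijective_iff_injective_and_card (fun f : U.subgroupOf E₀ => (⟨_, f.2⟩ : U))).2 ⟨fun f g h => Subtype.ext (Subtype.ext
              (congrArg (fun z : U => (z : (P : Subgroup G))) h)), by rw [h6.2, hU4]⟩)).2
          obtain ⟨f, hf⟩ := this ⟨u, hu⟩
          rw [show u = ((f : E₀) : (P : Subgroup G)) from (congrArg Subtype.val hf).symm]
          exact f.1.2
        have h8 : T.subgroupOf E₀ = ⊤ := top_le_iff.1 fun f _ => Subgroup.mem_centralizer_iff.2 fun u hu => by
          have hui : u⁻¹ = u := inv_eq_of_mul_eq_one_left (by rw [← pow_two, hE₀2 u (h7 hu)])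
          have hfi : (f : (P : Subgroup G))⁻¹ = f := inv_eq_of_mul_eq_one_left (by rw [← pow_two, hE₀2 _ f.2])
          have h9 : (u * f)⁻¹ = u * (f : (P : Subgroup G)) :=
            inv_eq_of_mul_eq_one_left (by rw [← pow_two, hE₀2 _ (mul_mem (h7 hu) f.2)])
          show u * (f : (P : Subgroup G)) = (f : (P : Subgroup G)) * u
          rw [← h9, mul_inv_rev, hui, hfi]
        have h10 : Nat.card (T.subgroupOf E₀) = 8 := by rw [h8, Subgroup.card_top, hE₀8]
        omega
      obtain ⟨F, hUF, -, hF8, hF2, hFc⟩ := mk w hwT hw2 hwU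
      exact ⟨F, fun f hf => Subgroup.mem_centralizer_singleton_iff.2 (hFc f hf y (hUF hyU)), hF8, hF2⟩
    · obtain ⟨F, -, hyF, hF8, hF2, hFc⟩ := mk y hyT hy2 hyU
      exact ⟨F, fun f hf => Subgroup.mem_centralizer_singleton_iff.2 (hFc f hf y hyF), hF8, hF2⟩
  -- a conjugate of x lies in T
  set T' := T.map (P : Subgroup G).subtype with hT'
  have hx2 : x ^ 2 = 1 := by rw [← hx, pow_orderOf_eq_one]
  have hno_orig := hno
  obtain ⟨g, hg⟩ : ∃ g : G, g * x * g⁻¹ ∈ T' := by
    rcases (Nat.dvd_prime Nat.prime_two).1 hTi with h1 | h2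
    · refine ⟨1, ?_⟩
      rw [one_mul, inv_one, mul_one]
      exact ⟨⟨x, hP (Subgroup.mem_zpowers x)⟩, (Subgroup.index_eq_one.1 h1).ge (Subgroup.mem_top _), rfl⟩
    · by_contra hno
      push Not at hno
      obtain ⟨M, -, hM, -⟩ := CfsgLib.Fusion.thompson_transfer P (Subgroup.map_subtype_le T)
        (by rw [Subgroup.relIndex, Subgroup.subgroupOf,
              Subgroup.comap_map_eq_self_of_injective (P : Subgroup G).subtype_injective]; exact h2) hx2 hno
      exact absurd hM (hno_orig M)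
  obtain ⟨y, hyT, hyx⟩ := hg
  have hy2 : y ^ 2 = 1 := Subtype.ext (by
    show ((y : G)) ^ 2 = 1
    rw [show (y : G) = g * x * g⁻¹ from hyx, conj_pow, hx2, mul_one, mul_inv_cancel])
  obtain ⟨F, hFC, hF8, hF2⟩ := key y hyT hy2
  refine ⟨(F.map (P : Subgroup G).subtype).map (MulAut.conj g⁻¹).toMonoidHom, ?_, ?_, ?_⟩
  · rintro _ ⟨_, ⟨f, hf, rfl⟩, rfl⟩
    refine Subgroup.mem_centralizer_singleton_iff.2 ?_
    have h1 : (f : G) * (g * x * g⁻¹) = g * x * g⁻¹ * f := by
      rw [← show (y : G) = g * x * g⁻¹ from hyx]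
      exact congrArg Subtype.val (Subgroup.mem_centralizer_singleton_iff.1 (hFC hf))
    show g⁻¹ * (f : G) * (g⁻¹)⁻¹ * x = x * (g⁻¹ * f * (g⁻¹)⁻¹)
    calc g⁻¹ * (f : G) * (g⁻¹)⁻¹ * x = g⁻¹ * ((f : G) * (g * x * g⁻¹)) * g := by group
      _ = x * (g⁻¹ * f * (g⁻¹)⁻¹) := by rw [h1]; group
  · rw [Subgroup.card_map_of_injective (MulAut.conj g⁻¹).injective,
      Subgroup.card_map_of_injective (P : Subgroup G).subtype_injective, hF8]
  · rintro _ ⟨_, ⟨f, hf, rfl⟩, rfl⟩
    show (MulAut.conj g⁻¹ (f : G)) ^ 2 = 1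
    rw [← map_pow, show (f : G) ^ 2 = 1 from congrArg Subtype.val (hF2 f hf), map_one]

end Cfsg.Agent.S0221
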