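import Cfsg.Statements.S0224
import Cfsg.Agent.Lib.Invol.StronglyEmbedded


set_option autoImplicit false
open Cfsg

namespace Cfsg.Agent.S0224

/-- Let H be a proper subgroup of even order of the finite group G. Then H is strongly embedded if and only if each involution of H fixes exactly one point (namely the coset H) in the action of G on the cosets of H. -/
theorem result {G : Type*} [Group G] [Finite G] (H : Subgroup G) (hH : H ≠ ⊤) (heven : Even (Nat.card H)) : Cfsg.IsStronglyEmbedded H ↔ ∀ t ∈ H, orderOf t = 2 → Nat.card {c : G ⧸ H // t • c = c} = 1 := by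
  rw [CfsgLib.Invol.stronglyEmbedded_iff hH heven]
  refine forall₂_congr fun t ht => forall_congr' fun _ => ?_
  constructor
  · intro h
    rw [Nat.card_eq_one_iff_exists]
    refine ⟨⟨((1 : G) : G ⧸ H), ?_⟩, ?_⟩
    · rw [MulAction.Quotient.smul_mk, QuotientGroup.eq]
      simpa using ht
    · rintro ⟨c, hc⟩
      obtain ⟨g, rfl⟩ := QuotientGroup.mk_surjective c
      rw [MulAction.Quotient.smul_mk, QuotientGroup.eq] at hc
      apply Subtype.ext
      show (g : G ⧸ H) = ((1 : G) : G ⧸ H)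
      rw [QuotientGroup.eq, mul_one]
      refine h g⁻¹ ?_
      have : g⁻¹ * t * g⁻¹⁻¹ = ((t • g)⁻¹ * g)⁻¹ := by simp [mul_assoc]
      rw [this]; exact inv_mem hc
  · intro h g hg
    obtain ⟨c₀, hc₀⟩ := Nat.card_eq_one_iff_exists.1 h
    have h1 : t • ((1 : G) : G ⧸ H) = ((1 : G) : G ⧸ H) := by
      rw [MulAction.Quotient.smul_mk, QuotientGroup.eq]; simpa using ht
    have h2 : t • ((g⁻¹ : G) : G ⧸ H) = ((g⁻¹ : G) : G ⧸ H) := by
      rw [MulAction.Quotient.smul_mk, QuotientGroup.eq]
      have : (t • g⁻¹)⁻¹ * g⁻¹ = (g * t * g⁻¹)⁻¹ := by simp [mul_assoc]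
      rw [this]; exact inv_mem hg
    have e := congrArg Subtype.val ((hc₀ ⟨_, h1⟩).trans (hc₀ ⟨_, h2⟩).symm)
    rw [QuotientGroup.eq] at e
    simpa using e

end Cfsg.Agent.S0224
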