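import Cfsg.Statements.S0226
import Cfsg.Agent.Lib.Invol.Basic


set_option autoImplicit false
open Cfsg

namespace Cfsg.Agent.S0226

/-- A finite group of even order has an odd number of involutions. -/
theorem result {G : Type*} [Group G] [Finite G] (heven : Even (Nat.card G)) : Odd (Nat.card {t : G // orderOf t = 2}) := by
  classical
  have h := CfsgLib.Invol.even_card_sq_eq_one heven
  have e : Nat.card {x : G // x * x = 1} = Nat.card {t : G // orderOf t = 2} + 1 := by
    have := Fintype.ofFinite G
    rw [Nat.card_eq_fintype_card, Nat.card_eq_fintype_card, Fintype.card_subtype, Fintype.card_subtype]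
    have : Finset.univ.filter (fun x : G => x * x = 1)
        = insert 1 (Finset.univ.filter (fun t : G => orderOf t = 2)) := by
      ext a
      by_cases ha : a = 1 <;> simp [CfsgLib.Invol.invol_iff, ha]
    rw [this, Finset.card_insert_of_notMem (by simp)]
  rw [e] at h
  exact Nat.not_even_iff_odd.1 (Nat.even_add_one.1 h)

end Cfsg.Agent.S0226
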