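import Cfsg.Statements.S0229
import Cfsg.Agent.Lib.Invol.Basic


set_option autoImplicit false
open Cfsg

namespace Cfsg.Agent.S0229

/-- Let t be an involution of a Sylow 2-subgroup S of a finite group G, conjugate in G to no other element of S, and let s be an involution of G not conjugate to t. Then the order of st is twice an odd number. -/
theorem result {G : Type*} [Group G] [Finite G] (S : Sylow 2 G) (t : G) (ht : orderOf t = 2) (htS : t ∈ S) (hiso : ∀ g : G, g * t * g⁻¹ ∈ S → g * t * g⁻¹ = t) (s : G) (hs : orderOf s = 2) (hns : ¬ IsConj s t) : orderOf (s * t) % 4 = 2 := by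
  have hto : orderOf t = 2 := ht
  have hnodd : ¬ Odd (orderOf (t * s)) := fun h =>
    hns (CfsgLib.Invol.isConj_of_odd hto hs h).symm
  have e : orderOf (s * t) = orderOf (t * s) := by
    rw [← orderOf_inv (s * t), mul_inv_rev, CfsgLib.Invol.invol_inv hs,
      CfsgLib.Invol.invol_inv hto]
  rw [e]
  have heven : Even (orderOf (t * s)) := Nat.not_odd_iff_even.1 hnodd
  by_contra h
  have h4 : 4 ∣ orderOf (t * s) := by
    obtain ⟨m, hm⟩ := heven; omega
  obtain ⟨m, hm⟩ := h4
  set z := (t * s) ^ (orderOf (t * s) / 2) with hzdef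
  have hzo : orderOf z = 2 := CfsgLib.Invol.orderOf_pow_half heven
  have hzt : Commute z t :=
    CfsgLib.Invol.commute_pow_half (CfsgLib.Invol.invol_conj_mul hto hs) heven
  have hconj : ((t * s) ^ (-(m : ℤ))) * t * ((t * s) ^ (-(m : ℤ)))⁻¹ = t * z := by
    rw [CfsgLib.Invol.zpow_conj_invol hto hs, hzdef,
      ← zpow_natCast (t * s) (orderOf (t * s) / 2)]
    congr 2
    omega
  have hodd := CfsgLib.Invol.odd_orderOf_mul_conj_of_closed S hto hiso ((t * s) ^ (-(m : ℤ)))
  rw [hconj, ← mul_assoc, CfsgLib.Invol.invol_mul_self hto, one_mul, hzo] at hodd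
  exact absurd hodd (by decide)

end Cfsg.Agent.S0229
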