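import Cfsg.Statements.S0235
import Cfsg.Agent.Lib.Invol.Basic


set_option autoImplicit false
open Cfsg

namespace Cfsg.Agent.S0235

/-- If x² ≠ 1, the ordered pairs (u, v) of involutions with uv = x correspond bijectively to the involutions t with t x t⁻¹ = x⁻¹ (via (u, v) ↦ u), so the two counts agree. -/
theorem result {G : Type*} [Group G] [Finite G] (x : G) (hx : x ^ 2 ≠ 1) : Nat.card {p : G × G // orderOf p.1 = 2 ∧ orderOf p.2 = 2 ∧ p.1 * p.2 = x} = Nat.card {t : G // orderOf t = 2 ∧ t * x * t⁻¹ = x⁻¹} := by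
  refine Nat.card_congr
    { toFun := fun p => ⟨p.1.1, p.2.1, ?_⟩
      invFun := fun t => ⟨(t.1, t.1 * x), t.2.1, ?_, ?_⟩
      left_inv := ?_
      right_inv := fun t => rfl }
  · obtain ⟨⟨a, b⟩, ha, hb, rfl⟩ := p
    exact CfsgLib.Invol.invol_conj_mul ha hb
  · obtain ⟨t, hto, hti⟩ := t
    rw [CfsgLib.Invol.invol_iff]
    refine ⟨?_, fun h1 => hx ?_⟩
    · rw [CfsgLib.Invol.invol_inv hto] at hti
      rw [← mul_assoc, hti, inv_mul_cancel]
    · show x ^ 2 = 1
      rw [eq_inv_of_mul_eq_one_right h1, CfsgLib.Invol.invol_inv hto, pow_two,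
        CfsgLib.Invol.invol_mul_self hto]
  · show t.1 * (t.1 * x) = x
    rw [← mul_assoc, CfsgLib.Invol.invol_mul_self t.2.1, one_mul]
  · rintro ⟨⟨a, b⟩, ha, hb, rfl⟩
    apply Subtype.ext
    refine Prod.ext rfl ?_
    show a * (a * b) = b
    rw [← mul_assoc, CfsgLib.Invol.invol_mul_self ha, one_mul]

end Cfsg.Agent.S0235
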