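import Cfsg.Statements.S0238
import Cfsg.Agent.Lib.Invol.Counting


set_option autoImplicit false
open Cfsg

namespace Cfsg.Agent.S0238

/-- For every x in a finite group G, the number c of ordered pairs (u, v) of involutions with uv = x is at most |C_G(x)|; c = 0 when x is not conjugate to x⁻¹; and c + 2 ≤ |C_G(x)| when x is an involution. -/
theorem result {G : Type*} [Group G] [Finite G] (x : G) : Nat.card {p : G × G // orderOf p.1 = 2 ∧ orderOf p.2 = 2 ∧ p.1 * p.2 = x} ≤ Nat.card (Subgroup.centralizer ({x} : Set G)) ∧ (¬ IsConj x x⁻¹ → Nat.card {p : G × G // orderOf p.1 = 2 ∧ orderOf p.2 = 2 ∧ p.1 * p.2 = x} = 0) ∧ (orderOf x = 2 → Nat.card {p : G × G // orderOf p.1 = 2 ∧ orderOf p.2 = 2 ∧ p.1 * p.2 = x} + 2 ≤ Nat.card (Subgroup.centralizer ({x} : Set G))) := by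
  refine ⟨CfsgLib.Invol.card_pairs_le x, fun h => ?_, fun hx => ?_⟩
  · rw [Nat.card_eq_zero]
    left
    refine ⟨fun ⟨⟨a, b⟩, ha, hb, e⟩ => h ?_⟩
    subst e
    exact isConj_iff.2 ⟨a, CfsgLib.Invol.invol_conj_mul ha hb⟩
  · have h1 := CfsgLib.Invol.card_pairs_add_one hx
    have h2 := CfsgLib.Invol.card_commuting_invol_lt x
    omega

end Cfsg.Agent.S0238
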