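import Cfsg.Statements.S0240
import Cfsg.Agent.Lib.Invol.Basic


set_option autoImplicit false
open Cfsg

namespace Cfsg.Agent.S0240

/-- Let G be a finite group with n involutions and H a subgroup with |H|·(n+1) > |G|. Then some nontrivial h ∈ H is strongly real in G: an involution t of G satisfies t h t⁻¹ = h⁻¹. -/
theorem result {G : Type*} [Group G] [Finite G] (H : Subgroup G) (hH : Nat.card G < Nat.card H * (Nat.card {t : G // orderOf t = 2} + 1)) : ∃ h : G, h ∈ H ∧ h ≠ 1 ∧ ∃ t : G, orderOf t = 2 ∧ t * h * t⁻¹ = h⁻¹ := by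
  classical
  have := Fintype.ofFinite G
  have := Fintype.ofFinite (G ⧸ H)
  set I : Finset G := insert 1 (Finset.univ.filter (fun t : G => orderOf t = 2)) with hI
  have hIc : I.card = Nat.card {t : G // orderOf t = 2} + 1 := by
    rw [hI, Finset.card_insert_of_notMem (by simp), Nat.card_eq_fintype_card, Fintype.card_subtype]
  have hlt : Fintype.card (G ⧸ H) < I.card := by
    rw [hIc]
    have h1 := H.card_mul_index
    rw [← h1] at hH
    rw [← Nat.card_eq_fintype_card, ← Subgroup.index_eq_card]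
    exact Nat.lt_of_mul_lt_mul_left hH
  obtain ⟨a, ha, b, hb, hab, e⟩ := Finset.exists_ne_map_eq_of_card_lt_of_maps_to
    (s := I) (t := (Finset.univ : Finset (G ⧸ H))) (by simpa using hlt)
    (f := fun t => (t : G ⧸ H)) (fun _ _ => Finset.mem_coe.2 (Finset.mem_univ _))
  rw [QuotientGroup.eq] at e
  refine ⟨a⁻¹ * b, e, fun h1 => hab (inv_mul_eq_one.1 h1), ?_⟩
  simp only [hI, Finset.mem_insert, Finset.mem_filter, Finset.mem_univ, true_and] at ha hb
  rcases ha with rfl | ha
  · rcases hb with rfl | hb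
    · exact absurd rfl hab
    · exact ⟨b, hb, by simp [CfsgLib.Invol.invol_mul_self hb, CfsgLib.Invol.invol_inv hb]⟩
  · refine ⟨a, ha, ?_⟩
    rcases hb with rfl | hb
    · simp [CfsgLib.Invol.invol_inv ha, CfsgLib.Invol.invol_mul_self ha]
    · rw [CfsgLib.Invol.invol_inv ha]
      have := CfsgLib.Invol.invol_conj_mul ha hb
      rwa [CfsgLib.Invol.invol_inv ha] at this

end Cfsg.Agent.S0240
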