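import Cfsg.Statements.S0241
import Cfsg.Agent.Lib.Invol.Basic


set_option autoImplicit false
open Cfsg

namespace Cfsg.Agent.S0241

/-- If x ≠ 1 is conjugate to x⁻¹ in a finite group G and |C_G(x)| is odd, then some involution t satisfies t x t⁻¹ = x⁻¹. -/
theorem result {G : Type*} [Group G] [Finite G] (x : G) (hx : x ≠ 1) (hreal : IsConj x x⁻¹) (hodd : Odd (Nat.card (Subgroup.centralizer ({x} : Set G)))) : ∃ t : G, orderOf t = 2 ∧ t * x * t⁻¹ = x⁻¹ := by
  obtain ⟨g, hg⟩ := isConj_iff.1 hreal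
  have hg0 := orderOf_pos g
  have hm : Odd (orderOf g / 2 ^ (orderOf g).factorization 2) := by
    rw [Nat.odd_iff]
    have := Nat.not_dvd_ordCompl Nat.prime_two hg0.ne'
    omega
  set m := orderOf g / 2 ^ (orderOf g).factorization 2 with hmdef
  obtain ⟨l, hl⟩ := hm
  have h2 : Commute (g ^ 2) x := by
    have : g ^ 2 * x * (g ^ 2)⁻¹ = x := by
      calc g ^ 2 * x * (g ^ 2)⁻¹ = g * (g * x * g⁻¹) * g⁻¹ := by rw [pow_two]; group
        _ = g * x⁻¹ * g⁻¹ := by rw [hg]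
        _ = (g * x * g⁻¹)⁻¹ := by group
        _ = x := by rw [hg, inv_inv]
    exact mul_inv_eq_iff_eq_mul.1 this
  have hinv : g ^ m * x * (g ^ m)⁻¹ = x⁻¹ := by
    have hc : Commute (g ^ (2 * l)) x := by rw [pow_mul]; exact h2.pow_left l
    calc g ^ m * x * (g ^ m)⁻¹ = g * (g ^ (2 * l) * x * (g ^ (2 * l))⁻¹) * g⁻¹ := by
          rw [hl, pow_succ']; group
      _ = g * x * g⁻¹ := by rw [hc.eq, mul_inv_cancel_right]
      _ = x⁻¹ := hg
  have hne : g ^ m ≠ 1 := by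
    intro h1
    rw [h1] at hinv
    simp at hinv
    have hxo : orderOf x = 2 := CfsgLib.Invol.invol_iff.2
      ⟨by nth_rewrite 2 [hinv]; exact mul_inv_cancel _, hx⟩
    exact Nat.not_even_iff_odd.2 hodd (CfsgLib.Invol.even_card_of_invol_mem
      (Subgroup.mem_centralizer_singleton_iff.2 rfl) hxo)
  refine ⟨g ^ m, ?_, hinv⟩
  rw [CfsgLib.Invol.invol_iff]
  refine ⟨?_, hne⟩
  have hsq : g ^ m * g ^ m ∈ Subgroup.centralizer ({x} : Set G) := by
    rw [Subgroup.mem_centralizer_singleton_iff, ← pow_add, ← two_mul, pow_mul]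
    exact (h2.pow_left m).eq
  refine CfsgLib.Invol.eq_one_of_odd_of_pow_two (k := (orderOf g).factorization 2) ?_ ?_
  · exact hodd.of_dvd_nat (Subgroup.orderOf_dvd_natCard _ hsq)
  · rw [← pow_add, ← pow_mul, ← two_mul, mul_assoc, hmdef,
      Nat.div_mul_cancel (Nat.ordProj_dvd (orderOf g) 2), mul_comm, pow_mul, pow_orderOf_eq_one,
      one_pow]

end Cfsg.Agent.S0241
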