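import Mathlib
import Cfsg.Statements.S0244


set_option autoImplicit false
open Cfsg

namespace Cfsg.Agent.S0244

/-- Sp_2 = SL_2: a matrix on Fin 1 ⊕ Fin 1 lies in Mathlib's symplectic group iff its determinant is 1. -/
theorem result {R : Type*} [CommRing R] (A : Matrix (Fin 1 ⊕ Fin 1) (Fin 1 ⊕ Fin 1) R) : A ∈ Matrix.symplecticGroup (Fin 1) R ↔ A.det = 1 := by
  rw [SymplecticGroup.mem_iff]
  set a := A (.inl 0) (.inl 0) with ha
  set b := A (.inl 0) (.inr 0) with hb
  set c := A (.inr 0) (.inl 0) with hc
  set d := A (.inr 0) (.inr 0) with hd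
  have e : A = Matrix.fromBlocks !![a] !![b] !![c] !![d] := by
    ext i j
    rcases i with i | i <;> rcases j with j | j <;>
      simp [Subsingleton.elim i 0, Subsingleton.elim j 0, ha, hb, hc, hd]
  have hdet : A.det = a * d - b * c := by
    rw [← Matrix.det_reindex_self finSumFinEquiv A, Matrix.det_fin_two]
    simp [ha, hb, hc, hd, finSumFinEquiv]
    rfl
  have hmul : A * Matrix.J (Fin 1) R * Matrix.transpose A =
      Matrix.fromBlocks !![0] !![-(a * d - b * c)] !![a * d - b * c] !![0] := by
    rw [e, Matrix.J, Matrix.fromBlocks_transpose, Matrix.fromBlocks_multiply, Matrix.fromBlocks_multiply]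
    congr 1 <;> (ext i j; fin_cases i; fin_cases j; simp [Matrix.mul_apply, Matrix.vecMul, dotProduct, Matrix.transpose]; try ring)
  rw [hmul, hdet]
  constructor
  · intro h
    have := congrFun (congrFun h (.inr 0)) (.inl 0)
    simpa [Matrix.J] using this
  · intro h
    rw [h, Matrix.J]
    congr 1 <;> (ext i j; fin_cases i; fin_cases j; simp)

end Cfsg.Agent.S0244
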