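import Mathlib
import Cfsg.Statements.S0246
import Cfsg.Agent.Lib.Sp.Basic

set_option autoImplicit false
open Cfsg

namespace Cfsg.Agent.S0246

/-- The centre of Sp_{2m}(q), m at least 1, is {1, -1}: it has order gcd(2, q-1). -/
theorem result {F : Type*} [Field F] [Fintype F] {q : ℕ} (hF : Fintype.card F = q) (m : ℕ) (hm : 1 ≤ m) : Nat.card (Subgroup.center (Matrix.symplecticGroup (Fin m) F)) = Nat.gcd 2 (q - 1) := by
  subst hF
  have hscal : ∀ A : Matrix.symplecticGroup (Fin m) F, A ∈ Subgroup.center (Matrix.symplecticGroup (Fin m) F) ↔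
      A.1 = 1 ∨ A.1 = -1 := by
    intro A
    refine ⟨fun h => CfsgLib.Sp.center_scalar hm fun v _ => (Subgroup.mem_center_iff.1 h _).symm, fun h => ?_⟩
    rw [Subgroup.mem_center_iff]
    intro g
    apply Subtype.ext
    rcases h with h | h <;> simp [CfsgLib.Sp.sp_mul_val, h]
  let f : {c : F // c = 1 ∨ c = -1} → Subgroup.center (Matrix.symplecticGroup (Fin m) F) := fun c =>
    ⟨⟨c.1 • 1, by
      rw [SymplecticGroup.mem_iff, Matrix.smul_mul, one_mul, Matrix.transpose_smul,
        Matrix.transpose_one, Matrix.mul_smul, mul_one, smul_smul]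
      rcases c.2 with h | h <;> simp [h]⟩, (hscal _).2 (by rcases c.2 with h | h <;> simp [h])⟩
  have hf : Function.Bijective f := by
    refine ⟨fun a b h => Subtype.ext ?_, fun A => ?_⟩
    · have := congrArg (fun A : Subgroup.center (Matrix.symplecticGroup (Fin m) F) =>
        A.1.1 (.inl ⟨0, hm⟩) (.inl ⟨0, hm⟩)) h
      simpa [f] using this
    · rcases (hscal A.1).1 A.2 with h | h
      · exact ⟨⟨1, Or.inl rfl⟩, Subtype.ext (Subtype.ext (by simp [f, h]))⟩
      · exact ⟨⟨-1, Or.inr rfl⟩, Subtype.ext (Subtype.ext (by simp [f, h]))⟩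
  rw [← Nat.card_eq_of_bijective f hf]
  classical
  rw [Nat.card_eq_fintype_card, Fintype.card_subtype]
  have hset : (Finset.univ.filter fun c : F => c = 1 ∨ c = -1) = {1, -1} := by ext c; simp
  rw [hset]
  by_cases h2 : ringChar F = 2
  · haveI : CharP F 2 := by rw [← h2]; exact ringChar.charP F
    have := FiniteField.even_card_of_char_two h2
    rw [CharTwo.neg_eq, Finset.pair_eq_singleton, Finset.card_singleton]
    have hpos := Fintype.card_pos (α := F)
    have : Nat.Coprime 2 (Fintype.card F - 1) := Nat.coprime_two_left.2 (Nat.odd_iff.2 (by omega))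
    exact (Nat.Coprime.gcd_eq_one this).symm
  · have := FiniteField.odd_card_of_char_ne_two h2
    rw [Finset.card_pair (Ring.neg_one_ne_one_of_char_ne_two h2).symm]
    exact (Nat.gcd_eq_left (by omega)).symm

end Cfsg.Agent.S0246
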