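import Mathlib
import Cfsg.Statements.S0250
import Cfsg.Agent.Lib.Classical.ProjLine

set_option autoImplicit false
open Cfsg

namespace Cfsg.Agent.S0250

/-- SL_2(2) is isomorphic to S_3. -/
theorem result {F : Type*} [Field F] [Fintype F] (hF : Fintype.card F = 2) : Nonempty (Matrix.SpecialLinearGroup (Fin 2) F ≃* Equiv.Perm (Fin 3)) := by
  classical
  obtain ⟨f, hf⟩ := CfsgLib.Classical.exists_perm_embedding (F := F) (N := 3) (by rw [hF])
  have h := CfsgLib.Classical.card_psl2 (F := F)
  rw [hF] at h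
  norm_num at h
  have hc : Nat.card (Subgroup.center (Matrix.SpecialLinearGroup (Fin 2) F)) = 1 := by
    rw [CfsgLib.Classical.card_center_sl (by omega), hF]
    rfl
  have hi : Function.Injective (QuotientGroup.mk' (Subgroup.center (Matrix.SpecialLinearGroup (Fin 2) F))) := by
    rw [← MonoidHom.ker_eq_bot_iff, QuotientGroup.ker_mk']
    exact Subgroup.card_eq_one.1 hc
  let e : Matrix.SpecialLinearGroup (Fin 2) F ≃* Matrix.ProjectiveSpecialLinearGroup (Fin 2) F :=
    MulEquiv.ofBijective (QuotientGroup.mk' (Subgroup.center (Matrix.SpecialLinearGroup (Fin 2) F)))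
      ⟨hi, QuotientGroup.mk'_surjective _⟩
  exact ⟨e.trans (MulEquiv.ofBijective f ((Nat.bijective_iff_injective_and_card f).2
    ⟨hf, by rw [Nat.card_eq_fintype_card, h, Nat.card_perm, Nat.card_fin]; rfl⟩))⟩

end Cfsg.Agent.S0250
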