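import Cfsg.Statements.S0257
import Cfsg.Agent.Lib.Classical.SL2Sylow
import Cfsg.Agent.Lib.Classical.ProjLine

set_option autoImplicit false
open Cfsg

namespace Cfsg.Agent.S0257

/-- SL_2(3) has a normal subgroup of index 3 isomorphic to the quaternion group of order 8, and its centre has order 2. -/
theorem result {F : Type*} [Field F] [Fintype F] (hF : Fintype.card F = 3) : (∃ Q : Subgroup (Matrix.SpecialLinearGroup (Fin 2) F), Q.Normal ∧ Q.index = 3 ∧ Nonempty (Q ≃* QuaternionGroup 2)) ∧ Nat.card (Subgroup.center (Matrix.SpecialLinearGroup (Fin 2) F)) = 2 := by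
  classical
  have hc : Nat.card (Subgroup.center (Matrix.SpecialLinearGroup (Fin 2) F)) = 2 := by
    rw [CfsgLib.Classical.card_center_sl (by norm_num), hF]; rfl
  refine ⟨?_, hc⟩
  have hsl : Nat.card (Matrix.SpecialLinearGroup (Fin 2) F) = 24 := by
    rw [CfsgLib.Classical.card_sl2, hF]
  obtain ⟨f, hf⟩ := CfsgLib.Classical.exists_perm_embedding (F := F) (N := 4) (by rw [hF])
  have hpsl : Nat.card (Matrix.ProjectiveSpecialLinearGroup (Fin 2) F) = 12 := by
    have h := CfsgLib.Classical.card_psl2 (F := F)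
    rw [hF, show Nat.gcd 2 (3 - 1) = 2 from rfl] at h
    omega
  obtain ⟨e⟩ := CfsgLib.Classical.mulEquiv_alternating_of_card f hf (by rw [hpsl]; rfl)
  have h4 : Nat.card (Fin 4) = 4 := Nat.card_fin 4
  haveI := alternatingGroup.normal_kleinFour h4
  let π : Matrix.SpecialLinearGroup (Fin 2) F →* alternatingGroup (Fin 4) :=
    e.toMonoidHom.comp (QuotientGroup.mk' _)
  have hπ : Function.Surjective π := e.surjective.comp (QuotientGroup.mk'_surjective _)
  set Q := (alternatingGroup.kleinFour (Fin 4)).comap π with hQ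
  have hidx : Q.index = 3 := by
    rw [hQ, Subgroup.index_comap_of_surjective _ hπ]
    have h1 := (alternatingGroup.kleinFour (Fin 4)).card_mul_index
    rw [alternatingGroup.kleinFour_card_of_card_eq_four h4, nat_card_alternatingGroup, h4] at h1
    simp [Nat.factorial] at h1
    omega
  refine ⟨Q, inferInstance, hidx, ?_⟩
  have hcard : Nat.card Q = 8 := by
    have h1 := Q.card_mul_index
    rw [hidx, hsl] at h1
    omega
  haveI : Fact (Nat.Prime 2) := ⟨Nat.prime_two⟩
  let P : Sylow 2 (Matrix.SpecialLinearGroup (Fin 2) F) := Sylow.ofCard Q (by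
    rw [hcard, hsl, show (24 : ℕ) = 2 ^ 3 * 3 from rfl, Nat.factorization_mul (by norm_num) (by norm_num),
      Nat.Prime.factorization_pow Nat.prime_two]
    simp [Nat.Prime.factorization Nat.prime_three])
  obtain ⟨k, hk, ⟨e'⟩⟩ := CfsgLib.Classical.sylow_two_quaternion (by rw [hF]; decide) P
  have hk' := Nat.card_congr e'.toEquiv
  haveI : NeZero (2 ^ k) := ⟨by positivity⟩
  rw [show Nat.card (P : Subgroup (Matrix.SpecialLinearGroup (Fin 2) F)) = Nat.card Q from rfl, hcard,
    Nat.card_eq_fintype_card, QuaternionGroup.card] at hk'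
  have h2k : 2 ^ k = 2 := by omega
  rw [h2k] at e'
  exact ⟨e'⟩

end Cfsg.Agent.S0257
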