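import Mathlib
import Cfsg.Statements.S0260
import Cfsg.Agent.Lib.Classical.SL2Sylow

set_option autoImplicit false
open Cfsg

namespace Cfsg.Agent.S0260

/-- Any two distinct Sylow p-subgroups of SL_2(q), p the characteristic, generate SL_2(q). -/
theorem result {F : Type*} [Field F] [Fintype F] (p : ℕ) [Fact p.Prime] [CharP F p] (P Q : Sylow p (Matrix.SpecialLinearGroup (Fin 2) F)) (h : P ≠ Q) : (P : Subgroup (Matrix.SpecialLinearGroup (Fin 2) F)) ⊔ (Q : Subgroup (Matrix.SpecialLinearGroup (Fin 2) F)) = ⊤ := by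
  classical
  obtain ⟨g, hg⟩ := CfsgLib.Classical.sl_sylow_conj p P
  obtain ⟨k, hk⟩ := CfsgLib.Classical.sl_sylow_conj p Q
  let ι : Matrix.SpecialLinearGroup (Fin 2) F →* GL (Fin 2) F := Matrix.SpecialLinearGroup.toGL
  set K := (P : Subgroup (Matrix.SpecialLinearGroup (Fin 2) F)) ⊔ (Q : Subgroup (Matrix.SpecialLinearGroup (Fin 2) F))
  -- pass to a frame in which the two root groups are upper and lower
  set r := g⁻¹ * k with hr
  have hrb : r.1 1 0 ≠ 0 := by
    intro h0
    apply h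
    refine Sylow.ext (SetLike.ext fun x => ?_)
    rw [hg, hk]
    have hb : r ∈ CfsgLib.Classical.borel2 := CfsgLib.Classical.mem_borel2.2 h0
    rw [← CfsgLib.Classical.normalizer_upU, Subgroup.mem_normalizer_iff] at hb
    have h2 := hb (k⁻¹ * Matrix.SpecialLinearGroup.toGL x * k)
    rw [show r * (k⁻¹ * Matrix.SpecialLinearGroup.toGL x * k) * r⁻¹ =
      g⁻¹ * Matrix.SpecialLinearGroup.toGL x * g by rw [hr]; group] at h2
    exact h2.symm
  set s : F := r.1 0 0 / r.1 1 0 with hs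
  set u : GL (Fin 2) F := CfsgLib.Classical.upGL (Multiplicative.ofAdd s) with hu
  set m : GL (Fin 2) F := g * u with hm
  -- elements in the new frame
  have hup : ∀ t : F, ∀ x : Matrix.SpecialLinearGroup (Fin 2) F,
      ι x = m * CfsgLib.Classical.upGL (Multiplicative.ofAdd t) * m⁻¹ → x ∈ K := by
    intro t x hx
    refine Subgroup.mem_sup_left ((hg x).2 ?_)
    rw [show Matrix.SpecialLinearGroup.toGL x = m * CfsgLib.Classical.upGL (Multiplicative.ofAdd t) * m⁻¹ from hx, hm]
    exact ⟨Multiplicative.ofAdd t, by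
      rw [show g⁻¹ * (g * u * CfsgLib.Classical.upGL (Multiplicative.ofAdd t) * (g * u)⁻¹) * g =
        u * CfsgLib.Classical.upGL (Multiplicative.ofAdd t) * u⁻¹ by group, hu, ← map_mul, ← map_inv, ← map_mul]
      congr 1
      rw [mul_comm, ← mul_assoc, inv_mul_cancel, one_mul]⟩
  have hlo : ∀ t : F, ∀ x : Matrix.SpecialLinearGroup (Fin 2) F,
      ι x = m * Matrix.GeneralLinearGroup.mkOfDetNeZero !![1, 0; t, 1] (by simp [Matrix.det_fin_two]) * m⁻¹ → x ∈ K := by
    intro t x hx
    refine Subgroup.mem_sup_right ((hk x).2 ?_)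
    rw [show Matrix.SpecialLinearGroup.toGL x = _ from hx]
    set L : GL (Fin 2) F := Matrix.GeneralLinearGroup.mkOfDetNeZero !![1, 0; t, 1] (by simp [Matrix.det_fin_two]) with hL
    set w := r.1 0 1 - s * r.1 1 1 with hw
    have hd : r.1.det ≠ 0 := ((Matrix.isUnit_iff_isUnit_det _).1 r.isUnit).ne_zero
    rw [Matrix.det_fin_two] at hd
    have hw0 : w ≠ 0 := by
      intro h0
      apply hd
      rw [hw, hs] at h0
      field_simp at h0
      linear_combination -h0
    obtain ⟨a, ha⟩ : ∃ a : GL (Fin 2) F,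
        a = CfsgLib.Classical.upGL (Multiplicative.ofAdd (t * w / r.1 1 0)) := ⟨_, rfl⟩
    suffices e : k⁻¹ * (m * L * m⁻¹) * k = a by
      rw [e, ha]; exact ⟨_, rfl⟩
    rw [show k⁻¹ * (m * L * m⁻¹) * k = (u⁻¹ * r)⁻¹ * L * (u⁻¹ * r) by rw [hm, hr]; group,
      mul_assoc, inv_mul_eq_iff_eq_mul]
    apply Units.ext
    rw [Units.val_mul, Units.val_mul, ha, hL, hu, ← map_inv]
    have hsa : s * r.1 1 0 = r.1 0 0 := by rw [hs, div_mul_cancel₀ _ hrb]
    ext i j
    fin_cases i <;> fin_cases j <;>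
      simp [CfsgLib.Classical.upGL, Matrix.mul_apply, Fin.sum_univ_two, Matrix.vecMul, dotProduct] <;>
      first
      | (left; linear_combination -hsa)
      | (right; linear_combination -hsa)
      | (field_simp; rw [hw]; ring)
  have hm1 : (m⁻¹).1 * m.1 = 1 := Units.inv_mul m
  have hm2 : m.1 * (m⁻¹).1 = 1 := Units.mul_inv m
  let c : Matrix.SpecialLinearGroup (Fin 2) F →* Matrix.SpecialLinearGroup (Fin 2) F :=
    { toFun := fun x => ⟨m.1 * x.1 * (m⁻¹).1, by
        rw [Matrix.det_mul, Matrix.det_mul, x.2, mul_one, ← Matrix.det_mul, hm2, Matrix.det_one]⟩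
      map_one' := Subtype.ext (by simp [hm2])
      map_mul' := fun a b => Subtype.ext (by
        show m.1 * (a.1 * b.1) * (m⁻¹).1 = (m.1 * a.1 * (m⁻¹).1) * (m.1 * b.1 * (m⁻¹).1)
        simp only [Matrix.mul_assoc]
        rw [← Matrix.mul_assoc (m⁻¹).1 m.1, hm1, Matrix.one_mul]) }
  have hall : K.comap c = ⊤ := by
    refine CfsgLib.Classical.sl_eq_top _ fun i j hij t => ?_
    rw [Subgroup.mem_comap]
    fin_cases i <;> fin_cases j <;> try exact absurd rfl hij
    · refine hup t _ (Units.ext ?_)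
      show m.1 * _ * (m⁻¹).1 = m.1 * _ * (m⁻¹).1
      congr 2
      rw [Matrix.SpecialLinearGroup.transvection_coe]
      ext a b
      fin_cases a <;> fin_cases b <;> simp [CfsgLib.Classical.upGL, Matrix.single_apply]
    · refine hlo t _ (Units.ext ?_)
      show m.1 * _ * (m⁻¹).1 = m.1 * _ * (m⁻¹).1
      congr 2
      rw [Matrix.SpecialLinearGroup.transvection_coe]
      ext a b
      fin_cases a <;> fin_cases b <;> simp [Matrix.single_apply]
  rw [eq_top_iff]
  intro x _
  have hy : c ⟨(m⁻¹).1 * x.1 * m.1, by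
      rw [Matrix.det_mul, Matrix.det_mul, x.2, mul_one, ← Matrix.det_mul, hm1, Matrix.det_one]⟩ = x := by
    apply Subtype.ext
    show m.1 * ((m⁻¹).1 * x.1 * m.1) * (m⁻¹).1 = x.1
    simp only [← Matrix.mul_assoc]
    rw [hm2, Matrix.one_mul, Matrix.mul_assoc, hm2, Matrix.mul_one]
  exact hy ▸ (show _ ∈ K.comap c from hall ▸ Subgroup.mem_top _)

end Cfsg.Agent.S0260
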