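import Mathlib
import Cfsg.Statements.S0263


set_option autoImplicit false
open Cfsg

namespace Cfsg.Agent.S0263

/-- A Sylow p-subgroup of GL_n(q), p the characteristic, has order q^(n(n-1)/2). -/
theorem result {F : Type*} [Field F] [Fintype F] {q : ℕ} (hF : Fintype.card F = q) (p : ℕ) [Fact p.Prime] [CharP F p] (n : ℕ) (P : Sylow p (Matrix.GeneralLinearGroup (Fin n) F)) : Nat.card P = q ^ (n * (n - 1) / 2) := by
  classical
  subst hF
  rw [P.card_eq_multiplicity, Matrix.card_GL_field]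
  set q := Fintype.card F with hq
  obtain ⟨k, hp, hk⟩ := FiniteField.card F p
  have e : ∀ i : Fin n, q ^ n - q ^ (i : ℕ) = q ^ (i : ℕ) * (q ^ (n - i) - 1) := by
    intro i
    rw [Nat.mul_sub, mul_one, ← pow_add, Nat.add_sub_cancel' i.2.le]
  rw [Finset.prod_congr rfl fun i _ => e i, Finset.prod_mul_distrib, Finset.prod_pow_eq_pow_sum]
  have hs : ∑ i : Fin n, (i : ℕ) = n * (n - 1) / 2 := by
    rw [Fin.sum_univ_eq_sum_range (fun i => i), Finset.sum_range_id]
  have hnd : ¬ p ∣ ∏ i : Fin n, (q ^ (n - (i : ℕ)) - 1) := by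
    rw [Prime.dvd_finsetProd_iff hp.prime]
    rintro ⟨i, -, hi⟩
    have h1 : p ∣ q ^ (n - (i : ℕ)) := by
      rw [hq, hk]; exact dvd_pow (dvd_pow_self p k.ne_zero) (by omega)
    have h2 : 1 ≤ q ^ (n - (i : ℕ)) := Nat.one_le_pow _ _ Fintype.card_pos
    have := Nat.dvd_sub h1 hi
    rw [show q ^ (n - (i : ℕ)) - (q ^ (n - (i : ℕ)) - 1) = 1 by omega] at this
    exact hp.ne_one (Nat.dvd_one.1 this)
  have hne : ∏ i : Fin n, (q ^ (n - (i : ℕ)) - 1) ≠ 0 := fun h => hnd (h ▸ dvd_zero p)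
  rw [Nat.factorization_mul (pow_ne_zero _ (by rw [hq, hk]; exact pow_ne_zero _ hp.ne_zero)) hne,
    Finsupp.add_apply, Nat.factorization_eq_zero_of_not_dvd hnd, add_zero, hs, hq, hk, ← pow_mul,
    Nat.factorization_pow, hp.factorization, Finsupp.smul_apply, Finsupp.single_eq_same, smul_eq_mul, mul_one]

end Cfsg.Agent.S0263
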