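import Cfsg.Statements.S0264
import Cfsg.Agent.Lib.Classical.SLBasic

set_option autoImplicit false
open Cfsg

namespace Cfsg.Agent.S0264

/-- GL_n(F)' = SL_n(F) (as the kernel of det), for every field F and every n, except n = 2 over the field of two elements. -/
theorem result {F : Type*} [Field F] (n : ℕ) (h : n = 2 → ∃ a : F, a ≠ 0 ∧ a ≠ 1) : commutator (Matrix.GeneralLinearGroup (Fin n) F) = (Matrix.GeneralLinearGroup.det : Matrix.GeneralLinearGroup (Fin n) F →* Fˣ).ker := by
  set d : Matrix.GeneralLinearGroup (Fin n) F →* Fˣ := Matrix.GeneralLinearGroup.det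
  refine le_antisymm (Abelianization.commutator_subset_ker d) fun g hg => ?_
  let s : Matrix.SpecialLinearGroup (Fin n) F := ⟨g.1, congrArg Units.val (MonoidHom.mem_ker.1 hg)⟩
  have hs : Matrix.SpecialLinearGroup.toGL s = g := Units.ext rfl
  rw [← hs]
  have key : (commutator (Matrix.GeneralLinearGroup (Fin n) F)).comap
      (Matrix.SpecialLinearGroup.toGL : Matrix.SpecialLinearGroup (Fin n) F →* Matrix.GeneralLinearGroup (Fin n) F) = ⊤ := by
    refine CfsgLib.Classical.sl_eq_top _ fun i j hij c => ?_
    rw [Subgroup.mem_comap]
    by_cases h3 : 3 ≤ n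
    · have h1 : Matrix.SpecialLinearGroup.transvection hij c ∈ commutator (Matrix.SpecialLinearGroup (Fin n) F) := by
        rw [CfsgLib.Classical.sl_commutator h3]; exact Subgroup.mem_top _
      have h2 := Subgroup.mem_map_of_mem
        (Matrix.SpecialLinearGroup.toGL : Matrix.SpecialLinearGroup (Fin n) F →* Matrix.GeneralLinearGroup (Fin n) F) h1
      rw [commutator_def, Subgroup.map_commutator] at h2
      exact Subgroup.commutator_mono le_top le_top h2
    have hn : n = 2 := by
      have h1 := i.2
      have h2 := j.2
      have h3 : i.val ≠ j.val := fun e => hij (Fin.ext e)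
      omega
    obtain ⟨a, ha0, ha1⟩ := h hn
    classical
    set D : Matrix.GeneralLinearGroup (Fin n) F := Matrix.GeneralLinearGroup.mkOfDetNeZero
      (Matrix.diagonal (Function.update 1 i a)) (by
        rw [Matrix.det_diagonal, Finset.prod_update_of_mem (Finset.mem_univ _)]
        simpa using ha0) with hD
    have ha : a - 1 ≠ 0 := sub_ne_zero.2 ha1
    have e : Matrix.SpecialLinearGroup.toGL (Matrix.SpecialLinearGroup.transvection hij c) =
        D * Matrix.SpecialLinearGroup.toGL (Matrix.SpecialLinearGroup.transvection hij (c / (a - 1))) * D⁻¹ *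
          (Matrix.SpecialLinearGroup.toGL (Matrix.SpecialLinearGroup.transvection hij (c / (a - 1))))⁻¹ := by
      rw [eq_mul_inv_iff_mul_eq, eq_mul_inv_iff_mul_eq, ← map_mul, ← Matrix.SpecialLinearGroup.transvection_add]
      apply Units.ext
      show (1 + Matrix.single i j (c + c / (a - 1))) * Matrix.diagonal (Function.update 1 i a) =
        Matrix.diagonal (Function.update 1 i a) * (1 + Matrix.single i j (c / (a - 1)))
      ext k l
      rw [Matrix.mul_diagonal, Matrix.diagonal_mul]
      by_cases hk : k = i
      · subst hk
        by_cases hl : l = j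
        · subst hl
          simp [hij, hij.symm]
          field_simp
          ring
        · by_cases hlk : l = k
          · subst hlk; simp [Ne.symm hij]
          · simp [Ne.symm hl, Ne.symm hlk]
      · by_cases hl : l = k
        · subst hl; simp [hk, Ne.symm hk]
        · simp [hk, Ne.symm hk, Ne.symm hl]
    rw [e, ← commutatorElement_def]
    exact Subgroup.commutator_mem_commutator (Subgroup.mem_top _) (Subgroup.mem_top _)
  exact Subgroup.mem_comap.1 (key ▸ Subgroup.mem_top s)

end Cfsg.Agent.S0264
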