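import Mathlib
import Cfsg.Statements.S0268


set_option autoImplicit false
open Cfsg

namespace Cfsg.Agent.S0268

/-- For q odd, -1 is the unique involution of SL_2(q). -/
theorem result {F : Type*} [Field F] [Fintype F] (hF : Odd (Fintype.card F)) (g : Matrix.SpecialLinearGroup (Fin 2) F) (h1 : g ≠ 1) (h2 : g * g = 1) : (g : Matrix (Fin 2) (Fin 2) F) = -1 := by
  have h2' : (g : Matrix (Fin 2) (Fin 2) F) * g = 1 := by
    rw [← Matrix.SpecialLinearGroup.coe_mul, h2, Matrix.SpecialLinearGroup.coe_one]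
  have hd := g.2
  rw [Matrix.det_fin_two] at hd
  have h2F : (2 : F) ≠ 0 := Ring.two_ne_zero (fun hc => by
    have := FiniteField.even_card_of_char_two hc
    obtain ⟨k, hk⟩ := hF
    omega)
  set A := (g : Matrix (Fin 2) (Fin 2) F) with hA
  have e00 := congrFun (congrFun h2' 0) 0
  have e01 := congrFun (congrFun h2' 0) 1
  have e10 := congrFun (congrFun h2' 1) 0
  have e11 := congrFun (congrFun h2' 1) 1
  simp [Matrix.mul_apply, Fin.sum_univ_two] at e00 e01 e10 e11
  have ht : A 0 0 + A 1 1 ≠ 0 := fun h => h2F (by linear_combination -hd - e00 + A 0 0 * h)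
  have hb : A 0 1 = 0 := (mul_eq_zero.1 (show (A 0 0 + A 1 1) * A 0 1 = 0 by linear_combination e01)).resolve_left ht
  have hc : A 1 0 = 0 := (mul_eq_zero.1 (show (A 0 0 + A 1 1) * A 1 0 = 0 by linear_combination e10)).resolve_left ht
  rw [hb] at hd e00
  have had : A 0 0 = A 1 1 := mul_left_cancel₀ (show A 0 0 ≠ 0 from fun h => by simp [h] at hd)
    (by linear_combination e00 - hd)
  rcases mul_self_eq_one_iff.1 (show A 0 0 * A 0 0 = 1 by linear_combination e00) with ha | ha
  · exfalso
    refine h1 (Subtype.ext ?_)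
    show A = 1
    ext i j
    fin_cases i <;> fin_cases j <;> simp [hb, hc, ha, ← had]
  · ext i j
    fin_cases i <;> fin_cases j <;> simp [hb, hc, ha, ← had]

end Cfsg.Agent.S0268
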