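import Cfsg.Statements.S0276
import Cfsg.Agent.Lib.Classical.SL2Sylow
import Cfsg.Agent.Lib.Classical.ProjLine

set_option autoImplicit false
open Cfsg

namespace Cfsg.Agent.S0276

/-- For q = 3 or 5 mod 8 the Sylow 2-subgroups of PSL_2(q) are elementary abelian of order 4. -/
theorem result {F : Type*} [Field F] [Fintype F] {q : ℕ} (hF : Fintype.card F = q) (hq : q % 8 = 3 ∨ q % 8 = 5) (P : Sylow 2 (Matrix.ProjectiveSpecialLinearGroup (Fin 2) F)) : IsKleinFour (P : Subgroup (Matrix.ProjectiveSpecialLinearGroup (Fin 2) F)) := by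
  classical
  subst hF
  haveI : Fact (Nat.Prime 2) := ⟨Nat.prime_two⟩
  have hodd : Odd (Fintype.card F) := Nat.odd_iff.2 (by omega)
  have h20 := CfsgLib.Classical.two_ne_zero_of_odd_card hodd
  set π := QuotientGroup.mk' (Subgroup.center (Matrix.SpecialLinearGroup (Fin 2) F))
  have hπ : Function.Surjective π := QuotientGroup.mk'_surjective _
  obtain ⟨S, hS⟩ := Sylow.mapSurjective_surjective hπ 2 P
  obtain ⟨k, hk, ⟨e⟩⟩ := CfsgLib.Classical.sylow_two_quaternion hodd S
  haveI : NeZero (2 ^ k) := ⟨by positivity⟩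
  have hcardS : Nat.card (S : Subgroup (Matrix.SpecialLinearGroup (Fin 2) F)) = 8 := by
    obtain ⟨q', hq'⟩ : ∃ q', (Fintype.card F - 1) * (Fintype.card F + 1) = 8 * q' ∧ Odd q' := by
      obtain ⟨j, hj⟩ : ∃ j, Fintype.card F = 8 * j + 3 ∨ Fintype.card F = 8 * j + 5 :=
        ⟨Fintype.card F / 8, by omega⟩
      rcases hj with hj | hj <;> rw [hj]
      · refine ⟨8 * j * j + 6 * j + 1, ?_, ⟨4 * j * j + 3 * j, by ring⟩⟩
        rw [show 8 * j + 3 - 1 = 8 * j + 2 by omega]; ring
      · refine ⟨8 * j * j + 10 * j + 3, ?_, ⟨4 * j * j + 5 * j + 1, by ring⟩⟩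
        rw [show 8 * j + 5 - 1 = 8 * j + 4 by omega]; ring
    have ho : Odd (Fintype.card F * q') := hodd.mul hq'.2
    have hsl : Nat.card (Matrix.SpecialLinearGroup (Fin 2) F) = 2 ^ 3 * (Fintype.card F * q') := by
      rw [CfsgLib.Classical.card_sl2, hq'.1]; ring
    rw [S.card_eq_multiplicity, hsl, Nat.factorization_mul (by norm_num) ho.pos.ne',
      Finsupp.add_apply, Nat.Prime.factorization_pow Nat.prime_two, Finsupp.single_eq_same,
      Nat.factorization_eq_zero_of_not_dvd ho.not_two_dvd_nat]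
    norm_num
  have hk1 : k = 1 := by
    have h := Nat.card_congr e.toEquiv
    rw [hcardS, Nat.card_eq_fintype_card, QuaternionGroup.card] at h
    have : 2 ^ k = 2 ^ 1 := by omega
    exact Nat.pow_right_injective le_rfl this
  subst hk1
  have hsq : ∀ a ∈ (S : Subgroup (Matrix.SpecialLinearGroup (Fin 2) F)), π a ^ 2 = 1 := by
    intro a ha
    have h4 : a ^ 4 = 1 := by
      have : ∀ x : QuaternionGroup (2 ^ 1), x ^ 4 = 1 := by decide
      have h := congrArg e.symm (this (e ⟨a, ha⟩))
      rw [map_pow, map_one, MulEquiv.symm_apply_apply] at h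
      exact congrArg Subtype.val h
    rw [← map_pow]
    refine (QuotientGroup.eq_one_iff _).2 ?_
    by_cases h1 : a ^ 2 = 1
    · rw [h1]; exact Subgroup.one_mem _
    · have hneg := CfsgLib.Classical.involution_eq_neg_one h20 h1 (by rw [← pow_add, h4])
      rw [Subgroup.mem_center_iff]
      intro b
      apply Subtype.ext
      rw [Matrix.SpecialLinearGroup.coe_mul, Matrix.SpecialLinearGroup.coe_mul, hneg]
      simp
  have hP : ∀ x : (P : Subgroup (Matrix.ProjectiveSpecialLinearGroup (Fin 2) F)), x ^ 2 = 1 := by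
    intro x
    obtain ⟨a, ha, hax⟩ := (hS ▸ x.2 : (x : Matrix.ProjectiveSpecialLinearGroup (Fin 2) F) ∈
      (S.mapSurjective hπ : Sylow 2 _))
    refine Subtype.ext ?_
    rw [Subgroup.coe_pow, ← hax]
    exact hsq a ha
  have hcardP : Nat.card (P : Subgroup (Matrix.ProjectiveSpecialLinearGroup (Fin 2) F)) = 4 := by
    have h := CfsgLib.Classical.card_psl2 (F := F)
    have hg : Nat.gcd 2 (Fintype.card F - 1) = 2 :=
      Nat.gcd_eq_left (by omega)
    rw [hg] at h
    have h1 := S.card_eq_multiplicity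
    rw [hcardS, CfsgLib.Classical.card_sl2, ← h, Nat.factorization_mul (by norm_num) Nat.card_pos.ne',
      Finsupp.add_apply, Nat.Prime.factorization_self Nat.prime_two] at h1
    rw [P.card_eq_multiplicity]
    have h3 : (2 : ℕ) ^ 3 = 2 ^ (1 + (Nat.card (Matrix.ProjectiveSpecialLinearGroup (Fin 2) F)).factorization 2) := h1
    have := Nat.pow_right_injective le_rfl h3
    rw [show (Nat.card (Matrix.ProjectiveSpecialLinearGroup (Fin 2) F)).factorization 2 = 2 by omega]
    norm_num
  refine ⟨hcardP, Nat.le_antisymm (Nat.le_of_dvd (by norm_num) ?_) ?_⟩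
  · exact Monoid.exponent_dvd_of_forall_pow_eq_one hP
  · by_contra h
    have h2 : Monoid.exponent (P : Subgroup (Matrix.ProjectiveSpecialLinearGroup (Fin 2) F)) ≤ 1 := by omega
    have hne := Monoid.exponent_ne_zero_of_finite (G := (P : Subgroup (Matrix.ProjectiveSpecialLinearGroup (Fin 2) F)))
    haveI : Subsingleton ↥(P : Subgroup (Matrix.ProjectiveSpecialLinearGroup (Fin 2) F)) :=
      Monoid.exp_eq_one_iff.1 (show Monoid.exponent ↥(P : Subgroup (Matrix.ProjectiveSpecialLinearGroup (Fin 2) F)) = 1 by omega)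
    rw [Nat.card_of_subsingleton (1 : ↥(P : Subgroup (Matrix.ProjectiveSpecialLinearGroup (Fin 2) F)))] at hcardP
    omega

end Cfsg.Agent.S0276
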