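import Cfsg.Statements.S0279
import Cfsg.Agent.Lib.SU.CenterCard

set_option autoImplicit false
open Cfsg

namespace Cfsg.Agent.S0279

/-- The centre of SU_n(q), n at least 3, has order gcd(n, q+1). -/
theorem result {F : Type*} [Field F] [Fintype F] {q : ℕ} (hF : Fintype.card F = q ^ 2) (n : ℕ) (hn : 3 ≤ n) : Nat.card (Subgroup.center (Cfsg.SU n F q)) = Nat.gcd n (q + 1) := by
  classical
  obtain ⟨p, hp⟩ := CharP.exists F
  obtain ⟨k, hpp, hk⟩ := FiniteField.card F p
  haveI := Fact.mk hpp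
  rw [hF] at hk
  obtain ⟨f, -, hq⟩ := (Nat.dvd_prime_pow hpp).1 (hk ▸ dvd_pow_self q two_ne_zero)
  have hf : 1 ≤ f := by
    rcases Nat.eq_zero_or_pos f with rfl | h
    · exfalso
      have h1 := Fintype.one_lt_card (α := F)
      rw [hF, hq] at h1
      simp at h1
    · exact h
  obtain ⟨C⟩ := CfsgLib.SU.exists_ctx hq hf hF
  exact C.card_center_su hF hn

end Cfsg.Agent.S0279
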