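import Cfsg.Statements.S0282
import Cfsg.Agent.Lib.Classical.HermOrder
import Cfsg.Agent.Lib.SU.CenterCard
import Cfsg.Agent.Lib.Char.Burnside

set_option autoImplicit false
open Cfsg

namespace Cfsg.Agent.S0282

/-- PSU_3(2) is a solvable group of order 72. -/
theorem result {F : Type*} [Field F] [Fintype F] (hF : Fintype.card F = 4) : Nat.card (Cfsg.PSU 3 F 2) = 72 ∧ Group.IsSolvable (Cfsg.PSU 3 F 2) := by
  classical
  obtain ⟨C⟩ := CfsgLib.Classical.uctx_exists (q := 2) (F := F) (by rw [hF]; norm_num)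
  have hF' : Fintype.card F = 2 ^ 2 := by rw [hF]; norm_num
  have h1 := CfsgLib.Classical.card_su_mul C hF' (n := 3) (by norm_num)
  rw [CfsgLib.Classical.card_gu_formula C hF' 3] at h1
  simp [Finset.prod_range_succ, show Even 2 from ⟨1, rfl⟩, -Nat.card_eq_fintype_card] at h1
  have h2 := C.card_center_su hF' (n := 3) le_rfl
  have h3 := Subgroup.card_eq_card_quotient_mul_card_subgroup (Subgroup.center ↥(Cfsg.SU 3 F 2))
  rw [h2, show Nat.gcd 3 (2 + 1) = 3 from rfl] at h3
  have h4 : Nat.card (Cfsg.PSU 3 F 2) = 72 := by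
    change Nat.card (↥(Cfsg.SU 3 F 2) ⧸ _) = 72
    omega
  refine ⟨h4, ?_⟩
  haveI : Finite (Cfsg.PSU 3 F 2) := Nat.finite_of_card_ne_zero (by omega)
  exact CfsgLib.Char.isSolvable_of_card_two_primes Nat.prime_two Nat.prime_three _ 3 2 (by rw [h4]; norm_num)

end Cfsg.Agent.S0282
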