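import Cfsg.Statements.S0284
import Cfsg.Agent.Lib.Classical.HermOrder

set_option autoImplicit false
open Cfsg

namespace Cfsg.Agent.S0284

/-- The standard Hermitian form on F^n, |F| = q^2, has exactly q^(n-1) (q^n - (-1)^n) vectors of norm 1. -/
theorem result {F : Type*} [Field F] [Fintype F] {q : ℕ} (hF : Fintype.card F = q ^ 2) (n : ℕ) : Nat.card {v : Fin n → F // Cfsg.hermForm n F q v v = 1} = (if Even n then q ^ (n - 1) * (q ^ n - 1) else q ^ (n - 1) * (q ^ n + 1)) := by
  obtain ⟨C⟩ := CfsgLib.Classical.uctx_exists hF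
  have e : Nat.card {v : Fin n → F // Cfsg.hermForm n F q v v = 1} = CfsgLib.Classical.hcount C n 1 :=
    Nat.card_congr (Equiv.subtypeEquivRight fun v => by rw [Cfsg.hermForm, C.hermForm_eq])
  rw [e]
  rcases n with _ | k
  · rw [CfsgLib.Classical.hcount_zero]; simp
  · rw [CfsgLib.Classical.hcount_one_eq C hF, Nat.add_sub_cancel]
    rcases Nat.even_or_odd k with h | h
    · rw [if_pos h, if_neg (Nat.not_even_iff_odd.2 h.add_one)]
    · rw [if_neg (Nat.not_even_iff_odd.2 h), if_pos h.add_one]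

end Cfsg.Agent.S0284
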