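import Cfsg.Statements.S0285
import Cfsg.Agent.Lib.Classical.HermOrder

set_option autoImplicit false
open Cfsg

namespace Cfsg.Agent.S0285

/-- The standard Hermitian form on F^n, |F| = q^2, has exactly (q^n - (-1)^n)(q^(n-1) + (-1)^n) non-zero isotropic vectors; counting the zero vector too: -/
theorem result {F : Type*} [Field F] [Fintype F] {q : ℕ} (hF : Fintype.card F = q ^ 2) (n : ℕ) : Nat.card {v : Fin n → F // Cfsg.hermForm n F q v v = 0} = (if Even n then (q ^ n - 1) * (q ^ (n - 1) + 1) else (q ^ n + 1) * (q ^ (n - 1) - 1)) + 1 := by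
  obtain ⟨C⟩ := CfsgLib.Classical.uctx_exists hF
  have e : Nat.card {v : Fin n → F // Cfsg.hermForm n F q v v = 0} = CfsgLib.Classical.hcount C n 0 :=
    Nat.card_congr (Equiv.subtypeEquivRight fun v => by rw [Cfsg.hermForm, C.hermForm_eq])
  rw [e]
  rcases n with _ | k
  · rw [CfsgLib.Classical.hcount_zero]; simp
  · have h := (CfsgLib.Classical.hcount_closed C hF k).1
    have hq := CfsgLib.Classical.two_le_q hF
    have h1 : 1 ≤ q ^ (k + 1) := Nat.one_le_pow _ _ (by omega)
    have h2 : 1 ≤ q ^ k := Nat.one_le_pow _ _ (by omega)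
    rw [Nat.add_sub_cancel]
    rcases Nat.even_or_odd k with he | he
    · rw [he.add_one.neg_one_pow] at h
      rw [if_neg (Nat.not_even_iff_odd.2 he.add_one)]
      zify [h2]
      rw [h]; ring
    · rw [he.add_one.neg_one_pow] at h
      rw [if_pos he.add_one]
      zify [h1]
      rw [h]; ring

end Cfsg.Agent.S0285
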