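import Cfsg.Statements.S0316
import Cfsg.Agent.Lib.Lie.BN

set_option autoImplicit false
open Cfsg

namespace Cfsg.Agent.S0316

/-- The map `J ↦ P_J` is a lattice isomorphism from the power set of the set of distinguished generators onto the
subgroups containing `B`. -/
theorem result {G : Type*} [Group G] (P : Cfsg.BNPair G) :
    ∃ e : Set P.S ≃o {M : Subgroup G // P.B ≤ M},
      ∀ J : Set P.S, ((e J : {M : Subgroup G // P.B ≤ M}) : Subgroup G) = P.parabolic (Subtype.val '' J) := by
  classical
  have hsub : ∀ J : Set P.S, Subtype.val '' J ⊆ P.S := fun J => by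
    rintro x ⟨y, _, rfl⟩; exact y.2
  have hbij : ∀ J : Set P.S, Subtype.val ⁻¹' (P.parabolic (Subtype.val '' J) : Set G) = J := by
    intro J
    ext s
    constructor
    · intro hs
      obtain ⟨y, hy, hys⟩ := CfsgLib.Lie.BN.mem_of_parabolic P (hsub J) s.2 hs
      rwa [Subtype.ext hys] at hy
    · intro hs
      exact (le_sup_right : _ ≤ P.parabolic _) (Subgroup.subset_closure ⟨s, hs, rfl⟩)
  refine ⟨
    { toFun := fun J => ⟨P.parabolic (Subtype.val '' J), CfsgLib.Lie.BN.B_le_parabolic P _⟩
      invFun := fun M => Subtype.val ⁻¹' ((M : Subgroup G) : Set G)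
      left_inv := hbij
      right_inv := fun M => Subtype.ext ?_
      map_rel_iff' := ?_ }, fun J => rfl⟩
  · have h1 := CfsgLib.Lie.BN.eq_parabolic_of_le P (M : Subgroup G) M.2
    conv_rhs => rw [h1]
    simp only [Subtype.image_preimage_coe]
  · intro J K
    constructor
    · intro h s hs
      rw [← hbij K]
      exact h ((le_sup_right : _ ≤ P.parabolic _) (Subgroup.subset_closure ⟨s, hs, rfl⟩))
    · exact fun h => CfsgLib.Lie.BN.parabolic_mono P (Set.image_mono h)

end Cfsg.Agent.S0316
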