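import Cfsg.Statements.S0320
import Cfsg.Agent.Lib.Lie.BN
import Cfsg.Agent.Lib.Lie.Exchange

set_option autoImplicit false
open Cfsg

namespace Cfsg.Agent.S0320

/-- The Weyl group `W = N / (B ⊓ N)` of a (B,N)-pair, with its distinguished involutions, is a Coxeter system. -/
theorem result {G : Type*} [Group G] (P : Cfsg.BNPair G)
    [hN : ((P.B ⊓ P.N).subgroupOf P.N).Normal] :
    ∃ (M : CoxeterMatrix P.S) (cs : CoxeterSystem M (P.N ⧸ (P.B ⊓ P.N).subgroupOf P.N)),
      ∀ s : P.S, cs.simple s = QuotientGroup.mk (⟨(s : G), P.subset s.2⟩ : P.N) := by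
  classical
  let f : P.S → P.N ⧸ (P.B ⊓ P.N).subgroupOf P.N :=
    fun s => QuotientGroup.mk (⟨(s : G), P.subset s.2⟩ : P.N)
  have hmk : ∀ a b : P.N,
      (QuotientGroup.mk a : P.N ⧸ (P.B ⊓ P.N).subgroupOf P.N) = QuotientGroup.mk b ↔
        CfsgLib.Lie.BN.Eqv P (a : G) (b : G) := by
    intro a b
    rw [QuotientGroup.eq, Subgroup.mem_subgroupOf, Subgroup.mem_inf]
    exact ⟨fun h => h.1, fun h => ⟨h, (a⁻¹ * b).2⟩⟩
  have hword : ∀ ω : List P.S, CfsgLib.Lie.BN.IsWord P (ω.map Subtype.val) := by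
    intro ω x hx
    obtain ⟨y, _, rfl⟩ := List.mem_map.1 hx
    exact y.2
  have hprod : ∀ ω : List P.S, (ω.map f).prod =
      QuotientGroup.mk (⟨(ω.map Subtype.val).prod,
        CfsgLib.Lie.BN.IsWord.mem_N P (hword ω)⟩ : P.N) := by
    intro ω
    induction ω with
    | nil => rfl
    | cons a ω ih =>
      simp only [List.map_cons, List.prod_cons, ih]
      rfl
  have lift : ∀ l : List G, CfsgLib.Lie.BN.IsWord P l → ∃ ω : List P.S, ω.map Subtype.val = l := by
    intro l hl
    exact ⟨l.attach.map fun x => ⟨x.1, hl x.1 x.2⟩, by simp⟩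
  let E : CfsgLib.Lie.Exchange.ExSystem (P.N ⧸ (P.B ⊓ P.N).subgroupOf P.N) P.S :=
  { f := f
    mul_self := fun s => by
      show QuotientGroup.mk ((⟨(s : G), P.subset s.2⟩ : P.N) * ⟨(s : G), P.subset s.2⟩) = _
      rw [QuotientGroup.eq_one_iff, Subgroup.mem_subgroupOf]
      exact CfsgLib.Lie.BN.sq_mem_T P s.2
    inj := fun s r h => Subtype.ext (P.inj s.1 s.2 r.1 r.2 ((hmk _ _).1 h))
    ne_one := fun s h => by
      have := (QuotientGroup.eq_one_iff _).1 h
      rw [Subgroup.mem_subgroupOf, Subgroup.mem_inf] at this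
      exact CfsgLib.Lie.BN.not_mem_B P s.2 this.1
    gen := fun w => by
      induction w using QuotientGroup.induction_on with | H n => ?_
      obtain ⟨l, hl, he⟩ := CfsgLib.Lie.BN.exists_word P n.2
      obtain ⟨ω, rfl⟩ := lift l hl
      exact ⟨ω, by rw [hprod, hmk]; exact he.symm⟩
    exchange := fun s ω hred hex => by
      obtain ⟨ω', h1, h2⟩ := hex
      set v := (ω.map Subtype.val).prod with hv
      have hvN : v ∈ P.N := CfsgLib.Lie.BN.IsWord.mem_N P (hword ω)
      have hlen : CfsgLib.Lie.BN.len P v = ω.length := by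
        apply le_antisymm
        · simpa using CfsgLib.Lie.BN.len_le P (hword ω) (CfsgLib.Lie.BN.Eqv.refl P v)
        · obtain ⟨l, hl, hll, he⟩ := CfsgLib.Lie.BN.len_spec P hvN
          obtain ⟨ω'', rfl⟩ := lift l hl
          rw [← hll, List.length_map]
          exact hred ω'' (by rw [hprod, hprod, hmk]; exact he.symm)
      have hs : (s : G) ∈ P.S := s.2
      have he' : CfsgLib.Lie.BN.Eqv P ((s : G) * v) (ω'.map Subtype.val).prod := by
        rw [hprod, hprod] at h1
        exact ((hmk _ _).1 h1).symm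
      have hle : CfsgLib.Lie.BN.len P ((s : G) * v) ≤ ω.length := by
        have := CfsgLib.Lie.BN.len_le P (hword ω') he'
        simp at this; omega
      have hlt : CfsgLib.Lie.BN.len P ((s : G) * v) < ω.length := by
        rcases CfsgLib.Lie.BN.len_mul_cases P hs hvN with h | h <;> omega
      obtain ⟨k, hk, he⟩ := CfsgLib.Lie.BN.exchange P hs (l := ω.map Subtype.val) (hword ω)
        (by rw [List.length_map]; exact hlen) (by rw [List.length_map]; exact hlt)
      refine ⟨k, by simpa using hk, ?_⟩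
      rw [hprod, hprod]
      refine (hmk _ _).2 ?_
      show CfsgLib.Lie.BN.Eqv P ((s : G) * v) ((ω.eraseIdx k).map Subtype.val).prod
      rw [← List.eraseIdx_map]
      exact he }
  exact ⟨E.matrix, E.coxeterSystem, fun s => E.coxeterSystem_simple s⟩

end Cfsg.Agent.S0320
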