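import Cfsg.Statements.S0321
import Cfsg.Agent.Lib.Lie.BN

set_option autoImplicit false
open Cfsg

namespace Cfsg.Agent.S0321

/-- For `n ∈ N` not in `B`, the union `B ∪ B n B` is (the underlying set of) a subgroup exactly when `n` agrees
modulo `B ⊓ N` with one of the distinguished representatives; thus the distinguished involutions are
determined by `B` and `N`. -/
theorem result {G : Type*} [Group G] (P : Cfsg.BNPair G) {n : G}
    (hn : n ∈ P.N) (hnB : n ∉ P.B) :
    (∃ H : Subgroup G, (H : Set G) = (P.B : Set G) ∪ DoubleCoset.doubleCoset n (P.B : Set G) P.B) ↔ ∃ s ∈ P.S, s⁻¹ * n ∈ P.B := by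
  constructor
  · rintro ⟨H, hH⟩
    have hB : P.B ≤ H := fun b hb => by
      rw [← SetLike.mem_coe, hH]; exact Or.inl hb
    have h1 := CfsgLib.Lie.BN.eq_parabolic_of_le P H hB
    have hn' : n ∈ H := by
      rw [← SetLike.mem_coe, hH]; exact Or.inr (CfsgLib.Lie.BN.mem_cell_self P n)
    obtain ⟨s, hs⟩ : (P.S ∩ (H : Set G)).Nonempty := by
      rw [Set.nonempty_iff_ne_empty]
      intro he
      rw [he, Cfsg.BNPair.parabolic, Subgroup.closure_empty, sup_bot_eq] at h1
      exact hnB (h1 ▸ hn')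
    refine ⟨s, hs.1, ?_⟩
    have h2 : s ∈ (P.B : Set G) ∪ DoubleCoset.doubleCoset n (P.B : Set G) P.B := hH ▸ hs.2
    rcases h2 with h2 | h2
    · exact absurd h2 (CfsgLib.Lie.BN.not_mem_B P hs.1)
    · exact CfsgLib.Lie.BN.eqv_of_mem_cell P (P.subset hs.1) hn
        (CfsgLib.Lie.BN.mem_cell_self P s) h2
  · rintro ⟨s, hs, hsn⟩
    refine ⟨P.parabolic {s}, ?_⟩
    have hcell : CfsgLib.Lie.BN.cell P s = CfsgLib.Lie.BN.cell P n :=
      CfsgLib.Lie.BN.cell_congr P hsn
    have hss : ({s} : Set G) ⊆ P.S := Set.singleton_subset_iff.2 hs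
    ext g
    simp only [SetLike.mem_coe, Set.mem_union, CfsgLib.Lie.BN.mem_parabolic_iff P hss]
    constructor
    · rintro ⟨m, hm, hgm⟩
      obtain ⟨l, h1, h2⟩ := CfsgLib.Lie.BN.exists_word_in P hss hm
      obtain ⟨l', h1', h2', h3⟩ := CfsgLib.Lie.BN.exists_reduced_in P hss l h1
      have hl' : ∀ x ∈ l', x = s := h1'
      have he := h2.trans h2'
      rw [CfsgLib.Lie.BN.cell_congr P he] at hgm
      match l', hl', h2', h3 with
      | [], _, _, _ => exact Or.inl ((CfsgLib.Lie.BN.cell_one P).1 (by simpa using hgm))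
      | [a], hl', _, _ =>
        refine Or.inr ?_
        rw [hl' a (by simp), List.prod_singleton, hcell] at hgm
        exact hgm
      | a :: c :: r, hl', h2', h3 =>
        exfalso
        have hw : CfsgLib.Lie.BN.IsWord P r := fun x hx => hss (hl' x (by simp [hx]))
        have hlN := CfsgLib.Lie.BN.IsWord.mem_N P (l := l) fun x hx => hss (h1 x hx)
        have e : CfsgLib.Lie.BN.Eqv P l.prod r.prod := by
          refine h2'.trans ?_
          simp only [List.prod_cons, hl' a (by simp), hl' c (by simp)]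
          exact CfsgLib.Lie.BN.Eqv_sq P hs (CfsgLib.Lie.BN.IsWord.mem_N P hw)
        have := CfsgLib.Lie.BN.len_le P hw e
        simp at h3
        omega
    · rintro (hg | hg)
      · exact ⟨1, one_mem _, (CfsgLib.Lie.BN.cell_one P).2 hg⟩
      · refine ⟨s, Subgroup.subset_closure rfl, ?_⟩
        rw [hcell]; exact hg

end Cfsg.Agent.S0321
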