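import Cfsg.Statements.S0322
import Cfsg.Agent.Lib.Lie.BN

set_option autoImplicit false
open Cfsg

namespace Cfsg.Agent.S0322

/-- A group with a (B,N)-pair of rank one acts doubly transitively on the left cosets of `B`. -/
theorem result {G : Type*} [Group G] (P : Cfsg.BNPair G) (h : P.rank = 1) : MulAction.IsMultiplyPretransitive G (G ⧸ P.B) 2 := by
  obtain ⟨s, hS⟩ : ∃ s, P.S = {s} := by
    unfold Cfsg.BNPair.rank at h
    rw [Nat.card_eq_one_iff_unique] at h
    obtain ⟨h1, ⟨s⟩⟩ := h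
    exact ⟨s, Set.eq_singleton_iff_unique_mem.2 ⟨s.2, fun x hx =>
      congrArg Subtype.val (Subsingleton.elim (⟨x, hx⟩ : P.S) s)⟩⟩
  have hs : s ∈ P.S := hS ▸ rfl
  have hcell : ∀ g : G, g ∉ P.B → g ∈ CfsgLib.Lie.BN.cell P s := by
    intro g hg
    obtain ⟨n, hn, hgn⟩ := CfsgLib.Lie.BN.exists_cell P g
    obtain ⟨l, hl, hlen, he⟩ := CfsgLib.Lie.BN.len_spec P hn
    have hl' : ∀ x ∈ l, x = s := fun x hx => by
      have := hl x hx; rwa [hS] at this
    rw [CfsgLib.Lie.BN.cell_congr P he] at hgn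
    match l, hl', hlen with
    | [], _, _ => exact absurd ((CfsgLib.Lie.BN.cell_one P).1 (by simpa using hgn)) hg
    | [a], hl', _ => rwa [hl' a (by simp), List.prod_singleton] at hgn
    | a :: c :: r, hl', hlen =>
      exfalso
      have hw : CfsgLib.Lie.BN.IsWord P r := fun x hx => hl x (by simp [hx])
      have e : CfsgLib.Lie.BN.Eqv P n r.prod := by
        refine he.trans ?_
        simp only [List.prod_cons, hl' a (by simp), hl' c (by simp)]
        exact CfsgLib.Lie.BN.Eqv_sq P hs (CfsgLib.Lie.BN.IsWord.mem_N P hw)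
      have := CfsgLib.Lie.BN.len_le P hw e
      simp at hlen
      omega
  rw [MulAction.is_two_pretransitive_iff]
  intro a b c d hab hcd
  induction a using QuotientGroup.induction_on with | H a => ?_
  induction b using QuotientGroup.induction_on with | H b => ?_
  induction c using QuotientGroup.induction_on with | H c => ?_
  induction d using QuotientGroup.induction_on with | H d => ?_
  have h1 : a⁻¹ * b ∉ P.B := fun hh => hab (QuotientGroup.eq.2 hh)
  have h2 : c⁻¹ * d ∉ P.B := fun hh => hcd (QuotientGroup.eq.2 hh)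
  obtain ⟨x, hx, y, hy, e1⟩ := (CfsgLib.Lie.BN.mem_cell P).1 (hcell _ h1)
  obtain ⟨x', hx', y', hy', e2⟩ := (CfsgLib.Lie.BN.mem_cell P).1 (hcell _ h2)
  refine ⟨c * (x' * x⁻¹) * a⁻¹, ?_, ?_⟩
  · rw [MulAction.Quotient.smul_coe, smul_eq_mul]
    apply QuotientGroup.eq.2
    simpa [mul_assoc] using P.B.inv_mem (P.B.mul_mem hx' (P.B.inv_mem hx))
  · rw [MulAction.Quotient.smul_coe, smul_eq_mul]
    apply QuotientGroup.eq.2
    have e : (c * (x' * x⁻¹) * a⁻¹ * b)⁻¹ * d = y⁻¹ * y' := by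
      calc (c * (x' * x⁻¹) * a⁻¹ * b)⁻¹ * d = (a⁻¹ * b)⁻¹ * x * x'⁻¹ * (c⁻¹ * d) := by group
        _ = y⁻¹ * y' := by rw [e1, e2]; group
    rw [e]
    exact P.B.mul_mem (P.B.inv_mem hy) hy'


end Cfsg.Agent.S0322
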