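import Cfsg.Statements.S0323
import Cfsg.Agent.Lib.Lie.BN

set_option autoImplicit false
open scoped Pointwise
open Cfsg

namespace Cfsg.Agent.S0323

/-- A doubly transitive action on a set with at least three points yields a (B,N)-pair of rank one:
`B` is the stabiliser of a point `x`, `N` the setwise stabiliser of a pair `{x, y}`. -/
theorem result {G Ω : Type*} [Group G] [MulAction G Ω]
    (h2 : MulAction.IsMultiplyPretransitive G Ω 2) {x y z : Ω} (hxy : x ≠ y) (hyz : y ≠ z) (hxz : x ≠ z) :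
    ∃ P : Cfsg.BNPair G, P.B = MulAction.stabilizer G x ∧
      P.N = MulAction.stabilizer G ({x, y} : Set Ω) ∧ P.rank = 1 := by
  classical
  rw [MulAction.is_two_pretransitive_iff] at h2
  obtain ⟨n, hn1, hn2⟩ := h2 hxy hxy.symm
  have hnN : n ∈ MulAction.stabilizer G ({x, y} : Set Ω) := by
    rw [MulAction.mem_stabilizer_iff]
    simp [Set.smul_set_insert, hn1, hn2, Set.pair_comm]
  set B := MulAction.stabilizer G x with hB
  set N := MulAction.stabilizer G ({x, y} : Set Ω) with hN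
  have hmemN : ∀ m ∈ N, (m • x = x ∧ m • y = y) ∨ (m • x = y ∧ m • y = x) := by
    intro m hm
    rw [hN, MulAction.mem_stabilizer_iff] at hm
    have h1 : m • x ∈ ({x, y} : Set Ω) := hm ▸ Set.smul_mem_smul_set (by simp)
    have h3 : m • y ∈ ({x, y} : Set Ω) := hm ▸ Set.smul_mem_smul_set (by simp)
    have h4 : m • x ≠ m • y := fun h => hxy (smul_left_cancel m h)
    rcases h1 with h1 | h1 <;> rcases h3 with h3 | h3
    · exact absurd (h1.trans h3.symm) h4
    · exact Or.inl ⟨h1, h3⟩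
    · exact Or.inr ⟨h1, h3⟩
    · exact absurd (h1.trans h3.symm) h4
  have hBN : ∀ t ∈ B ⊓ N, t • x = x ∧ t • y = y := by
    rintro t ⟨h1, h3⟩
    rcases hmemN t h3 with h | h
    · exact h
    · exact absurd ((MulAction.mem_stabilizer_iff.1 h1).symm.trans h.1) hxy
  have hcell : ∀ g : G, g • x ≠ x → g ∈ DoubleCoset.doubleCoset n (B : Set G) B := by
    intro g hg
    obtain ⟨b, hb1, hb2⟩ := h2 hxy hg.symm
    refine DoubleCoset.mem_doubleCoset.2 ⟨b, hb1, n⁻¹ * b⁻¹ * g, ?_, by group⟩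
    rw [SetLike.mem_coe, hB, MulAction.mem_stabilizer_iff]
    rw [mul_smul, mul_smul, ← hb2, inv_smul_smul, ← hn1, inv_smul_smul]
  have hcell1 : ∀ t ∈ B, ∀ g ∈ B, g ∈ DoubleCoset.doubleCoset t (B : Set G) B := fun t ht g hg =>
    DoubleCoset.mem_doubleCoset.2 ⟨g, hg, t⁻¹, inv_mem ht, by group⟩
  have hnn : n * n ∈ B := by
    rw [hB, MulAction.mem_stabilizer_iff, mul_smul, hn1, hn2]
  have hnB : n ∉ B := fun h => hxy ((MulAction.mem_stabilizer_iff.1 h).symm.trans hn1)
  refine ⟨{
    B := B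
    N := N
    S := {n}
    sup_eq_top := ?_
    conj_mem := ?_
    subset := Set.singleton_subset_iff.2 hnN
    sq_mem := fun s hs => by rw [Set.mem_singleton_iff] at hs; rw [hs]; exact hnn
    inj := fun s hs s' hs' _ => by rw [Set.mem_singleton_iff] at hs hs'; rw [hs, hs']
    closure_sup := ?_
    mul_mem_union := ?_
    conj_ne := ?_ }, rfl, rfl, ?_⟩
  · rw [eq_top_iff]
    intro g _
    by_cases hg : g • x = x
    · exact (le_sup_left : B ≤ B ⊔ N) hg
    · obtain ⟨b, hb, c, hc, rfl⟩ := DoubleCoset.mem_doubleCoset.1 (hcell g hg)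
      exact mul_mem (mul_mem ((le_sup_left : B ≤ B ⊔ N) hb) ((le_sup_right : N ≤ B ⊔ N) hnN))
        ((le_sup_left : B ≤ B ⊔ N) hc)
  · intro m hm t ht
    obtain ⟨h1, h3⟩ := hBN t ht
    rw [hB, MulAction.mem_stabilizer_iff, mul_smul, mul_smul]
    rcases hmemN m hm with h | h
    · have : m⁻¹ • x = x := inv_smul_eq_iff.2 h.1.symm
      rw [this, h1, h.1]
    · have : m⁻¹ • x = y := inv_smul_eq_iff.2 h.2.symm
      rw [this, h3, h.2]
  · refine le_antisymm (sup_le ((Subgroup.closure_le _).2 (Set.singleton_subset_iff.2 hnN))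
      inf_le_right) fun m hm => ?_
    rcases hmemN m hm with h | h
    · exact (le_sup_right : B ⊓ N ≤ _) (Subgroup.mem_inf.2 ⟨h.1, hm⟩)
    · have h1 : n⁻¹ * m ∈ B ⊓ N := by
        refine Subgroup.mem_inf.2 ⟨?_, mul_mem (inv_mem hnN) hm⟩
        rw [hB, MulAction.mem_stabilizer_iff, mul_smul, h.1, inv_smul_eq_iff, hn1]
      have := mul_mem ((le_sup_left : Subgroup.closure {n} ≤ Subgroup.closure {n} ⊔ B ⊓ N)
        (Subgroup.subset_closure rfl)) ((le_sup_right : B ⊓ N ≤ Subgroup.closure {n} ⊔ B ⊓ N) h1)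
      simpa using this
  · intro s hs m hm b hb
    rw [Set.mem_singleton_iff] at hs
    subst hs
    rcases hmemN m hm with h | h
    · left
      rw [DoubleCoset.doubleCoset_eq_of_mem (hcell (s * m) ?_)]
      · refine hcell _ ?_
        rw [mul_smul, mul_smul, h.1, MulAction.mem_stabilizer_iff.1 hb, hn1]
        exact hxy.symm
      · rw [mul_smul, h.1, hn1]; exact hxy.symm
    · by_cases hg : (s * b * m) • x = x
      · left
        exact hcell1 _ (by rw [hB, MulAction.mem_stabilizer_iff, mul_smul, h.1, hn2]) _ hg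
      · right
        rw [DoubleCoset.doubleCoset_eq_of_mem (hcell m (by rw [h.1]; exact hxy.symm))]
        exact hcell _ hg
  · intro s hs
    rw [Set.mem_singleton_iff] at hs
    subst hs
    intro heq
    obtain ⟨b, hb1, hb2⟩ := h2 hxy hxz
    have : s * b * s ∈ (B : Set G) := heq ▸ ⟨b, hb1, rfl⟩
    rw [SetLike.mem_coe, hB, MulAction.mem_stabilizer_iff, mul_smul, mul_smul, hn1, hb2] at this
    exact hyz (smul_left_cancel s (hn2.trans this.symm))
  · simp [Cfsg.BNPair.rank]

end Cfsg.Agent.S0323
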