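import Cfsg.Statements.S0326
import Cfsg.Agent.Lib.Lie.Suz.Group
-- import your own Cfsg.Agent.* helpers here

set_option autoImplicit false
open Cfsg
open CfsgLib.Lie

namespace Cfsg.Agent.S0326

/-- The Suzuki–Tits ovoid over a finite field with `q` elements has `q² + 1` points. -/
theorem result {F : Type*} [Field F] [Fintype F] (m : ℕ) :
    Nat.card (Cfsg.suzukiOvoid F m) = Fintype.card F ^ 2 + 1 := by
  classical
  let φ : Option (F × F) → suzukiOvoid F m := fun o => match o with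
    | none => ⟨_, (Suz.ovoid_iff _).2 (Or.inl rfl)⟩
    | some p => ⟨Suz.pt m p.1 p.2, (Suz.ovoid_iff _).2 (Or.inr ⟨_, _, rfl⟩)⟩
  rw [← Nat.card_eq_of_bijective φ ⟨?_, ?_⟩, Nat.card_eq_fintype_card, Fintype.card_option,
    Fintype.card_prod, sq]
  · rintro (_ | ⟨x, y⟩) (_ | ⟨x', y'⟩) h <;> simp only [φ, Subtype.mk.injEq] at h
    · rfl
    · exact absurd h.symm (Suz.pt_ne_inf x' y')
    · exact absurd h (Suz.pt_ne_inf x y)
    · obtain ⟨rfl, rfl⟩ := Suz.pt_inj h; rfl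
  · rintro ⟨p, hp⟩
    rcases (Suz.ovoid_iff p).1 hp with rfl | ⟨x, y, rfl⟩
    exacts [⟨none, rfl⟩, ⟨some (x, y), rfl⟩]

end Cfsg.Agent.S0326
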