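import Cfsg.Statements.S0328
import Cfsg.Agent.Lib.Lie.Suz.Group
-- import your own Cfsg.Agent.* helpers here

set_option autoImplicit false
open Cfsg
open CfsgLib.Lie

namespace Cfsg.Agent.S0328

/-- The stabiliser in the Suzuki group of the two ovoid points spanned by `(1,0,0,0)` and `(0,0,0,1)` is
isomorphic to the multiplicative group of the field (cyclic of order `q - 1`). -/
theorem result {F : Type*} [Field F] [Fintype F] {m : ℕ} (hm : 1 ≤ m)
    (hF : Fintype.card F = 2 ^ (2 * m + 1)) :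
    Nonempty (↥(MulAction.stabilizer (Cfsg.Sz F m) (Cfsg.suzukiPointInfinity F) ⊓
        MulAction.stabilizer (Cfsg.Sz F m) (Cfsg.suzukiPointZero F)) ≃* Fˣ) := by
  let e : Fˣ →* ↥(MulAction.stabilizer (Cfsg.Sz F m) (Cfsg.suzukiPointInfinity F) ⊓
      MulAction.stabilizer (Cfsg.Sz F m) (Cfsg.suzukiPointZero F)) :=
    { toFun := fun k => ⟨Suz.HS hF k, (Suz.mem_stab_pair hm hF).2 ⟨k, rfl⟩⟩
      map_one' := Subtype.ext (Subtype.ext Suz.H_one)
      map_mul' := fun a b => Subtype.ext (Subtype.ext (Suz.H_mul a b)) }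
  refine ⟨(MulEquiv.ofBijective e ⟨fun a b h => Suz.HS_injective hF (congrArg Subtype.val h), ?_⟩).symm⟩
  rintro ⟨g, hg⟩
  obtain ⟨k, rfl⟩ := (Suz.mem_stab_pair hm hF).1 hg
  exact ⟨k, rfl⟩

end Cfsg.Agent.S0328
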