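import Cfsg.Statements.S0347
-- import your own Cfsg.Agent.* helpers here
import Cfsg.Agent.Lib.Char.SuzukiZassenhaus.Main

set_option autoImplicit false
open Cfsg

namespace Cfsg.Agent.S0347


/-- If in a finite simple Zassenhaus group the stabiliser of a point `x` has a normal `2`-subgroup `U` which is
non-abelian and acts regularly on the points other than `x`, then the group is simple of Suzuki order (order-level
predicate `IsSuzuki`). -/
theorem result {G Ω : Type*} [Group G] [Finite G] [MulAction G Ω] [Finite Ω]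
    (hZ : Cfsg.IsZassenhausGroup G Ω) [IsSimpleGroup G]
    (x : Ω) (U : Subgroup G) (hUle : U ≤ MulAction.stabilizer G x) (hUn : (U.subgroupOf (MulAction.stabilizer G x)).Normal)
    (hU2 : IsPGroup 2 U) (hUna : ∃ u v : U, u * v ≠ v * u)
    (hreg : ∀ y z : Ω, y ≠ x → z ≠ x → ∃! u : U, (u : G) • y = z) :
    Cfsg.IsSuzuki G := by
  classical
  haveI : Fintype Ω := Fintype.ofFinite Ω
  have h3 := CfsgLib.Char.zassenhaus_three_le hZ
  obtain ⟨b, hb⟩ := Fintype.exists_ne_of_one_lt_card (show 1 < Fintype.card Ω by omega) x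
  have hcard : Nat.card U + 1 = Fintype.card Ω := by
    have hne : ∀ u : U, (u : G) • b ≠ x := fun u e =>
      hb (smul_left_cancel _ (e.trans (hUle u.2 : (u : G) • x = x).symm))
    have hbij : Function.Bijective (fun u : U => (⟨(u : G) • b, hne u⟩ : {y : Ω // y ≠ x})) :=
      ⟨fun u v e => (hreg b ((u : G) • b) hb (hne u)).unique rfl (congrArg Subtype.val e).symm,
        fun y => (hreg b y.1 hb y.2).exists.imp fun u hu => Subtype.ext hu⟩
    rw [Nat.card_eq_of_bijective _ hbij, Nat.card_eq_fintype_card, Fintype.card_subtype_compl,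
      Fintype.card_subtype_eq]
    omega
  have hfix : ∀ u ∈ U, u ≠ 1 → ∀ c : Ω, u • c = c → c = x := by
    intro u hu hu1 c hc
    by_contra hca
    exact hu1 (congrArg Subtype.val ((hreg c c hca hca).unique (y₁ := ⟨u, hu⟩) (y₂ := 1) hc (one_smul G c)))
  rcases Nat.even_or_odd (Nat.card ↥(MulAction.stabilizer G x ⊓ MulAction.stabilizer G b : Subgroup G)) with he | ho
  · exfalso
    obtain ⟨p, f, K, _, _, hp, hp2, -, hΩ, -, -⟩ := CfsgLib.Perm.ZSimple.iso_psl hZ hb.symm he
    haveI : Fact (Nat.Prime 2) := ⟨Nat.prime_two⟩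
    obtain ⟨k, hk⟩ := IsPGroup.iff_card.1 hU2
    obtain ⟨l, hl⟩ := (hp.odd_of_ne_two hp2).pow (n := f)
    rcases Nat.eq_zero_or_pos k with rfl | hk0
    · obtain ⟨u, v, huv⟩ := hUna
      haveI := (Nat.card_eq_one_iff_unique.1 (hk.trans (pow_zero 2))).1
      exact huv (Subsingleton.elim _ _)
    · obtain ⟨j, hj⟩ := dvd_pow_self 2 hk0.ne'
      omega
  exact CfsgLib.Char.SuzZ.isSuzuki_of_pt
    (⟨hZ, hb.symm, hUle, hcard, hfix, ho⟩ : CfsgLib.Char.FeitZ.Pt G x b U) hU2 hUna


end Cfsg.Agent.S0347
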