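import Cfsg.Statements.S0351
import Cfsg.Agent.Lib.Spor.SteinerGeneral

set_option autoImplicit false
open Cfsg

namespace Cfsg.Agent.S0351

/-- Derived design: removing a point p from the blocks through p of an S(t+1, k+1, v) yields an S(t, k, v-1) on the points other than p. -/
theorem result {α : Type*} [Fintype α] [DecidableEq α] {t k : ℕ} {B : Set (Finset α)} (hB : Cfsg.IsSteinerSystem (t + 1) (k + 1) B) (p : α) : Cfsg.IsSteinerSystem t k {b' : Finset {a : α // a ≠ p} | ∃ b ∈ B, p ∈ b ∧ b' = Finset.subtype (fun a => a ≠ p) b} := by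
    refine ⟨?_, fun s hs => ?_⟩
    · rintro _ ⟨b, hb, hp, rfl⟩
      rw [Finset.card_subtype, Finset.filter_ne', Finset.card_erase_of_mem hp, hB.1 b hb, Nat.add_sub_cancel]
    · have hpn : p ∉ s.map (Function.Embedding.subtype _) := fun h => by
        obtain ⟨q, -, hq⟩ := Finset.mem_map.1 h
        exact q.2 hq
      obtain ⟨b, ⟨hb, hsb⟩, huniq⟩ := hB.2 (insert p (s.map (Function.Embedding.subtype _)))
        (by rw [Finset.card_insert_of_notMem hpn, Finset.card_map, hs])
      refine ⟨Finset.subtype (fun a => a ≠ p) b, ⟨⟨b, hb, hsb (Finset.mem_insert_self _ _), rfl⟩,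
        fun q hq => Finset.mem_subtype.2 (hsb (Finset.mem_insert_of_mem (Finset.mem_map_of_mem _ hq)))⟩, ?_⟩
      rintro _ ⟨⟨c, hc, hpc, rfl⟩, hsc⟩
      rw [huniq c ⟨hc, fun x hx => ?_⟩]
      rcases Finset.mem_insert.1 hx with rfl | hx
      · exact hpc
      · obtain ⟨q, hq, rfl⟩ := Finset.mem_map.1 hx
        exact Finset.mem_subtype.1 (hsc hq)

end Cfsg.Agent.S0351
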