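import Cfsg.Statements.S0355
import Cfsg.Agent.Lib.Spor.SteinerMeets

set_option autoImplicit false
open Cfsg

namespace Cfsg.Agent.S0355

/-- In a Steiner system S(4, 7, 23), two distinct blocks intersect in 1 or 3 points. -/
theorem result {α : Type*} [Fintype α] [DecidableEq α] (hα : Fintype.card α = 23) {B : Set (Finset α)} (hB : Cfsg.IsSteinerSystem 4 7 B) {b c : Finset α} (hb : b ∈ B) (hc : c ∈ B) (hbc : b ≠ c) : (b ∩ c).card = 1 ∨ (b ∩ c).card = 3 := by
    classical
    have hk : ∀ x ∈ B.toFinset, x.card = 7 := fun x hx => hB.1 x (Set.mem_toFinset.1 hx)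
    have hu : ∀ F : Finset α, F.card = 4 → ∃! x, x ∈ B.toFinset ∧ F ⊆ x := fun F hF => by
      simpa only [Set.mem_toFinset] using hB.2 F hF
    obtain ⟨h0, -, h2, -⟩ := CfsgLib.Spor.Steiner.meet_seven hα hk hu (Set.mem_toFinset.2 hb)
    have hlt := CfsgLib.Spor.Steiner.meet_lt hk hu (Set.mem_toFinset.2 hb) (Set.mem_toFinset.2 hc) hbc.symm
    have eh0 := CfsgLib.Spor.Steiner.meetNum_eq_zero h0 (Set.mem_toFinset.2 hc) hbc.symm
    have eh2 := CfsgLib.Spor.Steiner.meetNum_eq_zero h2 (Set.mem_toFinset.2 hc) hbc.symm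
    rw [Finset.inter_comm]
    omega

end Cfsg.Agent.S0355
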