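import Cfsg.Statements.S0356
import Cfsg.Agent.Lib.Spor.SteinerMeets

set_option autoImplicit false
open Cfsg

namespace Cfsg.Agent.S0356

/-- In a Steiner system S(3, 6, 22), two distinct blocks intersect in 0 or 2 points. -/
theorem result {α : Type*} [Fintype α] [DecidableEq α] (hα : Fintype.card α = 22) {B : Set (Finset α)} (hB : Cfsg.IsSteinerSystem 3 6 B) {b c : Finset α} (hb : b ∈ B) (hc : c ∈ B) (hbc : b ≠ c) : (b ∩ c).card = 0 ∨ (b ∩ c).card = 2 := by
    classical
    have hk : ∀ x ∈ B.toFinset, x.card = 6 := fun x hx => hB.1 x (Set.mem_toFinset.1 hx)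
    have hu : ∀ F : Finset α, F.card = 3 → ∃! x, x ∈ B.toFinset ∧ F ⊆ x := fun F hF => by
      simpa only [Set.mem_toFinset] using hB.2 F hF
    obtain ⟨-, h1, -⟩ := CfsgLib.Spor.Steiner.meet_six hα hk hu (Set.mem_toFinset.2 hb)
    have hlt := CfsgLib.Spor.Steiner.meet_lt hk hu (Set.mem_toFinset.2 hb) (Set.mem_toFinset.2 hc) hbc.symm
    have eh1 := CfsgLib.Spor.Steiner.meetNum_eq_zero h1 (Set.mem_toFinset.2 hc) hbc.symm
    rw [Finset.inter_comm]
    omega

end Cfsg.Agent.S0356
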