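import Cfsg.Statements.S0357
import Cfsg.Agent.Lib.Spor.SteinerMeets

set_option autoImplicit false
open Cfsg

namespace Cfsg.Agent.S0357

/-- In a Steiner system S(5, 6, 12), the complement of every block is again a block. -/
theorem result {α : Type*} [Fintype α] [DecidableEq α] (hα : Fintype.card α = 12) {B : Set (Finset α)} (hB : Cfsg.IsSteinerSystem 5 6 B) {b : Finset α} (hb : b ∈ B) : bᶜ ∈ B := by
    classical
    have hk : ∀ x ∈ B.toFinset, x.card = 6 := fun x hx => hB.1 x (Set.mem_toFinset.1 hx)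
    have hu : ∀ F : Finset α, F.card = 5 → ∃! x, x ∈ B.toFinset ∧ F ⊆ x := fun F hF => by
      simpa only [Set.mem_toFinset] using hB.2 F hF
    obtain ⟨h0, -⟩ := CfsgLib.Spor.Steiner.meet_twelve hα hk hu (Set.mem_toFinset.2 hb)
    obtain ⟨c, hc⟩ := Finset.card_pos.1 (by rw [show (Finset.filter (fun c => (c ∩ b).card = 0) (B.toFinset.erase b)).card = 1 from h0]; norm_num : 0 < (Finset.filter (fun c => (c ∩ b).card = 0) (B.toFinset.erase b)).card)
    obtain ⟨hc1, hc2⟩ := Finset.mem_filter.1 hc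
    have hcB := Set.mem_toFinset.1 (Finset.mem_of_mem_erase hc1)
    have e : c = bᶜ := by
      refine Finset.eq_of_subset_of_card_le (fun x hx => Finset.mem_compl.2 fun h => ?_) ?_
      · exact Finset.notMem_empty x (Finset.card_eq_zero.1 hc2 ▸ Finset.mem_inter.2 ⟨hx, h⟩)
      · rw [Finset.card_compl, hB.1 b hb, hB.1 c hcB, hα]
    exact e ▸ hcB

end Cfsg.Agent.S0357
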