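import Cfsg.Statements.S0412
import Cfsg.Agent.Lib.Spor.Golay.SteinerUnique
import Cfsg.Agent.Lib.Spor.SetSystemConj
import Cfsg.Agent.S0363
import Cfsg.Agent.S0364
import Cfsg.Agent.S0365
import Cfsg.Agent.S0366
import Cfsg.Agent.S0369

set_option autoImplicit false
open Cfsg

namespace Cfsg.Agent.S0412

/-- Aut of an S(5, 8, 24) is simple of order 244823040 and 5-transitive on points. -/
theorem result {α : Type*} [Fintype α] [DecidableEq α] (hα : Fintype.card α = 24) {B : Set (Finset α)} (hB : Cfsg.IsSteinerSystem 5 8 B) : Cfsg.IsM24 (Cfsg.setSystemAut B) ∧ MulAction.IsMultiplyPretransitive (Cfsg.setSystemAut B) α 5 := by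
    obtain ⟨e, he⟩ := CfsgLib.Spor.Golay.steiner_iso (by simp : Fintype.card Cfsg.GolayPt = 24) hα Cfsg.Agent.S0363.result hB
    have hM := Cfsg.Agent.S0369.result
    let φ : ↥Cfsg.M24 ≃* ↥(Cfsg.setSystemAut B) :=
      (MulEquiv.subgroupCongr hM).trans (CfsgLib.Spor.autEquiv e he)
    refine ⟨⟨φ.isSimpleGroup_congr.1 Cfsg.Agent.S0365.result, ?_⟩, ?_⟩
    · rw [← Nat.card_congr φ.toEquiv]; exact Cfsg.Agent.S0364.result
    · exact CfsgLib.Spor.multiplyPretransitive_of_iso e he (hM ▸ Cfsg.Agent.S0366.result)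

end Cfsg.Agent.S0412
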