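import Cfsg.Statements.S0425
import Cfsg.Agent.Lib.Spor.SmallSteiner.Aut
import Cfsg.Agent.Lib.Spor.MathieuSimple

set_option autoImplicit false
open Cfsg

namespace Cfsg.Agent.S0425

/-- Aut of an S(5, 6, 12) is simple of order 95040 and sharply 5-transitive on points. -/
theorem result {α : Type*} [Fintype α] [DecidableEq α] (hα : Fintype.card α = 12) {B : Set (Finset α)} (hB : Cfsg.IsSteinerSystem 5 6 B) : Cfsg.IsM12 (Cfsg.setSystemAut B) ∧ MulAction.IsMultiplyPretransitive (Cfsg.setSystemAut B) α 5 ∧ ∀ x : Fin 5 ↪ α, MulAction.stabilizer (Cfsg.setSystemAut B) x = ⊥ := by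
  have hd := CfsgLib.Spor.baseDodecad_mem
  obtain ⟨⟨φ⟩, h5, hs⟩ := CfsgLib.Spor.Search.aut12 hα hB _ hd
  haveI := CfsgLib.Spor.isSimpleGroup_stabilizer_dodecad hd
  refine ⟨⟨φ.symm.isSimpleGroup, ?_⟩, h5, hs⟩
  rw [← Nat.card_congr φ.toEquiv]
  exact CfsgLib.Spor.card_stabilizer_dodecad hd

end Cfsg.Agent.S0425
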