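import Cfsg.Statements.S0434
import Cfsg.Agent.Lib.Char.MEleven.Order.Main

set_option autoImplicit false
open Cfsg

namespace Cfsg.Agent.S0434

/-- Sylow 3-normalisers in a simple group of order 7920 have order 144 (so there are 55 Sylow 3-subgroups). -/
theorem result {G : Type*} [Group G] [Finite G] (hG : Cfsg.IsM11 G) (P : Sylow 3 G) : Nat.card (Subgroup.normalizer ((P : Subgroup G) : Set G)) = 144 := by
  obtain ⟨hs, hc⟩ := hG
  haveI := hs
  haveI : Fact (Nat.Prime 2) := ⟨Nat.prime_two⟩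
  obtain ⟨t, ht⟩ := exists_prime_orderOf_dvd_card' (G := G) 2 (by rw [hc]; norm_num)
  obtain ⟨e⟩ := CfsgLib.Char.MEleven.Order.cent_iso_of_simple hc ht
  obtain ⟨el, hel⟩ := CfsgLib.Char.GLThreeCent.exists_emb t ht e
  have hno : ∀ H : Subgroup G, H.index ≠ 2 := fun H hH => by
    haveI := Subgroup.normal_of_index_eq_two hH
    rcases Subgroup.Normal.eq_bot_or_eq_top (H := H) inferInstance with rfl | rfl
    · rw [Subgroup.index_bot, hc] at hH; norm_num at hH
    · rw [Subgroup.index_top] at hH; norm_num at hH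
  obtain ⟨Q, -, hQ, -⟩ := CfsgLib.Char.MEleven.MHyp.exists_sylow_x (t := t) (el := el) ⟨hel, hc, hno⟩
  obtain ⟨g, rfl⟩ := MulAction.exists_smul_eq G Q P
  rw [← hQ]
  have e1 := Subgroup.card_mul_index (Subgroup.normalizer ((g • Q : Sylow 3 G) : Set G))
  have e2 := Subgroup.card_mul_index (Subgroup.normalizer ((Q : Sylow 3 G) : Set G))
  rw [← (g • Q).card_eq_index_normalizer] at e1
  rw [← Q.card_eq_index_normalizer] at e2
  exact Nat.eq_of_mul_eq_mul_right Nat.card_pos (e1.trans e2.symm)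

end Cfsg.Agent.S0434
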