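import Cfsg.Statements.S0439
-- import your own Cfsg.Agent.* helpers here

set_option autoImplicit false
open Cfsg

namespace Cfsg.Agent.S0439

/-- In the symmetric group of degree n ≥ 2, the set of transpositions is a conjugacy class of 3-transpositions which generates the group. -/
theorem result (n : ℕ) (hn : 2 ≤ n) : Cfsg.IsThreeTranspositionClass {σ : Equiv.Perm (Fin n) | σ.IsSwap} := by
  have h0 : (Equiv.swap (⟨0, by omega⟩ : Fin n) ⟨1, by omega⟩).IsSwap :=
    ⟨_, _, by simp [Fin.ext_iff], rfl⟩
  refine ⟨⟨?_, ?_⟩, ⟨_, h0, ?_⟩, Equiv.Perm.closure_isSwap⟩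
  · rintro σ ⟨i, j, hij, rfl⟩
    exact orderOf_eq_prime (by rw [pow_two, Equiv.swap_mul_self]) (fun h => hij (Equiv.swap_eq_one_iff.1 h))
  · rintro σ ⟨i, j, hij, rfl⟩ τ ⟨k, l, hkl, rfl⟩
    have same : ∀ a b c : Fin n, a ≠ b → a ≠ c → (Equiv.swap a b * Equiv.swap a c) ^ 2 = 1 ∨
        (Equiv.swap a b * Equiv.swap a c) ^ 3 = 1 := by
      intro a b c hab hac
      by_cases hbc : b = c
      · subst hbc; left; simp
      · right
        have := (Equiv.Perm.isThreeCycle_swap_mul_swap_same hab hac hbc).orderOf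
        rw [← this]; exact pow_orderOf_eq_one _
    by_cases h1 : i = k
    · subst h1; exact same i j l hij hkl
    by_cases h2 : i = l
    · subst h2; rw [Equiv.swap_comm k i]; exact same i j k hij h1
    by_cases h3 : j = k
    · subst h3; rw [Equiv.swap_comm i j]; exact same j i l hij.symm hkl
    by_cases h4 : j = l
    · subst h4; rw [Equiv.swap_comm i j, Equiv.swap_comm k j]; exact same j i k hij.symm h3
    left
    have hd : Commute (Equiv.swap i j) (Equiv.swap k l) := by
      refine Equiv.Perm.Disjoint.commute fun y => ?_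
      by_cases hy : y = i ∨ y = j
      · right
        rcases hy with rfl | rfl
        · exact Equiv.swap_apply_of_ne_of_ne h1 h2
        · exact Equiv.swap_apply_of_ne_of_ne h3 h4
      · push Not at hy
        left; exact Equiv.swap_apply_of_ne_of_ne hy.1 hy.2
    rw [hd.mul_pow, pow_two, pow_two, Equiv.swap_mul_self, Equiv.swap_mul_self, mul_one]
  · ext σ
    constructor
    · rintro ⟨i, j, hij, rfl⟩
      exact Equiv.Perm.isConj_swap (by simp [Fin.ext_iff]) hij
    · intro hσ
      obtain ⟨g, rfl⟩ := isConj_iff.1 hσ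
      exact ⟨g ⟨0, by omega⟩, g ⟨1, by omega⟩, by simp [Fin.ext_iff], (Equiv.swap_apply_apply _ _ _).symm⟩

end Cfsg.Agent.S0439
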