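import Cfsg.Statements.S0440
import Cfsg.Agent.Lib.Perm.Trans.SympGen
import Cfsg.Agent.Lib.Sp.Basic
import Mathlib

set_option autoImplicit false
open Cfsg

namespace Cfsg.Agent.S0440

open CfsgLib.Sp Matrix

theorem zmod_two (c : ZMod 2) : c = 0 ∨ c = 1 := by revert c; decide

/-- The elements with `g - 1` of rank one are the transvections. -/
theorem rank_one_iff {n : ℕ} (g : Matrix.symplecticGroup (Fin n) (ZMod 2)) :
    ((g : Matrix (Fin n ⊕ Fin n) (Fin n ⊕ Fin n) (ZMod 2)) - 1).rank = 1 ↔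
      ∃ v, v ≠ 0 ∧ g = tv v 1 := by
  have hrange : ∀ x, ((g : Matrix (Fin n ⊕ Fin n) (Fin n ⊕ Fin n) (ZMod 2)) - 1).mulVecLin x =
      g.1 *ᵥ x - x := fun x => by rw [Matrix.mulVecLin_apply, Matrix.sub_mulVec, Matrix.one_mulVec]
  constructor
  · intro h
    obtain ⟨⟨v, hv⟩, hv0, hspan⟩ := finrank_eq_one_iff'.1 h
    have hv0' : v ≠ 0 := fun e => hv0 (Subtype.ext e)
    refine ⟨v, hv0', sp_ext_vec fun x => ?_⟩
    have hl : ∀ x, ∃ l : ZMod 2, g.1 *ᵥ x = x + l • v := fun x => by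
      obtain ⟨l, hl⟩ := hspan ⟨_, LinearMap.mem_range_self _ x⟩
      refine ⟨l, ?_⟩
      have := (congrArg Subtype.val hl).trans (hrange x)
      rw [SetLike.val_smul] at this
      rw [this, add_sub_cancel]
    choose l hl using hl
    have key : ∀ x y, l x * sf v y + l y * sf x v = 0 := fun x y => by
      have h := sf_sp g x y
      rw [hl x, hl y] at h
      simp only [sf_add_left, sf_add_right, sf_smul_left, sf_smul_right, sf_self] at h
      linear_combination h
    obtain ⟨y0, hy0'⟩ := exists_sf_eq_one hv0'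
    have hy0 : sf v y0 = 1 := by rw [sf_swap, hy0', CharTwo.neg_eq]
    rw [tv_mulVec, hl x, one_mul]
    have hx := key x y0
    rw [hy0, mul_one] at hx
    rcases zmod_two (l y0) with h0 | h1
    · exfalso
      obtain ⟨x', hx'⟩ : ∃ x', g.1 *ᵥ x' - x' = v := by
        obtain ⟨x', hx'⟩ := hv
        exact ⟨x', (hrange x').symm.trans hx'⟩
      have h2 := key x' y0
      rw [h0, zero_mul, add_zero, hy0, mul_one] at h2
      rw [hl x', add_sub_cancel_left, h2, zero_smul] at hx'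
      exact hv0' hx'.symm
    · rw [h1, one_mul] at hx
      rw [show l x = sf x v by
        rw [eq_neg_of_add_eq_zero_left hx]; exact CharTwo.neg_eq _]
  · rintro ⟨v, hv, rfl⟩
    refine finrank_eq_one_iff'.2 ?_
    obtain ⟨w, hw⟩ := exists_sf_eq_one hv
    have hval : ∀ x, ((tv v 1).1 - (1 : Matrix (Fin n ⊕ Fin n) (Fin n ⊕ Fin n) (ZMod 2))).mulVecLin x =
        sf x v • v := fun x => by rw [hrange, tv_mulVec, one_mul, add_sub_cancel_left]
    refine ⟨⟨v, ⟨w, ?_⟩⟩, fun e => hv (congrArg Subtype.val e), ?_⟩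
    · rw [hval, hw, one_smul]
    · rintro ⟨_, x, rfl⟩
      exact ⟨sf x v, Subtype.ext (hval x).symm⟩

/-- In the symplectic group in dimension 2n ≥ 2 over the field with two elements, the elements g for which g - 1 has rank one (the symplectic transvections) form a conjugacy class of 3-transpositions generating the group. -/
theorem result (n : ℕ) (hn : 1 ≤ n) : Cfsg.IsThreeTranspositionClass {g : Matrix.symplecticGroup (Fin n) (ZMod 2) | ((g : Matrix (Fin n ⊕ Fin n) (Fin n ⊕ Fin n) (ZMod 2)) - 1).rank = 1} := by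
  have hD : ∀ g : Matrix.symplecticGroup (Fin n) (ZMod 2),
      g ∈ {g : Matrix.symplecticGroup (Fin n) (ZMod 2) |
        ((g : Matrix (Fin n ⊕ Fin n) (Fin n ⊕ Fin n) (ZMod 2)) - 1).rank = 1} ↔ ∃ v, v ≠ 0 ∧ g = tv v 1 :=
    fun g => rank_one_iff g
  have hsq : ∀ v, tv (F := ZMod 2) (m := n) v 1 * tv v 1 = 1 := fun v => by
    rw [tv_mul, show (1 : ZMod 2) + 1 = 0 by decide, tv_zero]
  have hinv : ∀ v, (tv (F := ZMod 2) (m := n) v 1)⁻¹ = tv v 1 := fun v =>
    inv_eq_of_mul_eq_one_left (hsq v)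
  refine ⟨⟨fun d hd => ?_, fun d hd e he => ?_⟩, ?_, ?_⟩
  · obtain ⟨v, hv, rfl⟩ := (hD d).1 hd
    rw [orderOf_eq_prime_iff]
    refine ⟨by rw [sq, hsq], fun h => ?_⟩
    obtain ⟨w, hw⟩ := exists_sf_eq_one hv
    have h2 := congrArg (fun A : Matrix.symplecticGroup (Fin n) (ZMod 2) => A.1 *ᵥ w) h
    simp only [tv_mulVec, sp_one_mulVec, one_mul, add_eq_left] at h2
    rw [hw, one_smul] at h2
    exact hv h2
  · obtain ⟨v, hv, rfl⟩ := (hD d).1 hd
    obtain ⟨w, hw, rfl⟩ := (hD e).1 he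
    rcases zmod_two (sf v w) with h | h
    · left
      have c := tv_commute h (1 : ZMod 2) 1
      rw [c.mul_pow, sq, sq, hsq, hsq, one_mul]
    · right
      have e1 := tv_conj (tv v (1 : ZMod 2)) w 1
      have e2 := tv_conj (tv w (1 : ZMod 2)) v 1
      rw [hinv, tv_mulVec, one_mul] at e1 e2
      rw [sf_swap, h, CharTwo.neg_eq, one_smul] at e1
      rw [h, one_smul, add_comm] at e2
      have e3 : tv v (1 : ZMod 2) * tv w 1 * tv v 1 = tv w 1 * tv v 1 * tv w 1 := e1.trans e2.symm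
      set s := tv v (1 : ZMod 2)
      set t := tv w (1 : ZMod 2)
      calc (s * t) ^ 3 = (s * t * s) * (t * s * t) := by rw [pow_succ, sq]; group
        _ = (s * t * s) * (s * t * s) := by rw [e3]
        _ = s * t * (s * s) * t * s := by group
        _ = 1 := by rw [hsq, mul_one, mul_assoc s t t, hsq, mul_one, hsq]
  · have hne : (Pi.single (Sum.inl ⟨0, hn⟩) 1 : Fin n ⊕ Fin n → ZMod 2) ≠ 0 := fun h =>
      one_ne_zero (α := ZMod 2) (by simpa using congrFun h (Sum.inl ⟨0, hn⟩))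
    refine ⟨_, (hD _).2 ⟨_, hne, rfl⟩, Set.ext fun g => ?_⟩
    rw [hD]
    show _ ↔ IsConj _ g
    rw [isConj_iff]
    constructor
    · rintro ⟨v, hv, rfl⟩
      obtain ⟨A, hA⟩ := exists_move hne hv
      exact ⟨A, by rw [tv_conj, hA]⟩
    · rintro ⟨A, rfl⟩
      exact ⟨_, sp_mulVec_ne_zero A hne, tv_conj A _ _⟩
  · rw [eq_top_iff, ← CfsgLib.Perm.Trans.Symp.closure_tvSet, Subgroup.closure_le]
    rintro A ⟨v, c, hA⟩
    have hA' : A = tv v c := Subtype.ext hA
    subst hA'
    by_cases hv : v = 0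
    · have : tv v c = (1 : Matrix.symplecticGroup (Fin n) (ZMod 2)) := sp_ext_vec fun x => by
        rw [tv_mulVec, hv, smul_zero, add_zero, sp_one_mulVec]
      rw [this]; exact one_mem _
    rcases zmod_two c with rfl | rfl
    · rw [tv_zero]; exact one_mem _
    · exact Subgroup.subset_closure ((hD _).2 ⟨v, hv, rfl⟩)

end Cfsg.Agent.S0440
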