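import Cfsg.Statements.S0441
import Cfsg.Agent.Lib.Spor.Tri.Applications
-- import your own Cfsg.Agent.* helpers here

set_option autoImplicit false
open Cfsg

namespace Cfsg.Agent.S0441

/-- Fischer's rank-three property. Let a finite group be generated by a conjugacy class D of 3-transpositions, with non-abelian simple commutator subgroup. Then for a in D there are members of D other than a commuting with a and members not commuting with a, and the centraliser of a acts transitively on each of these two sets. -/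
theorem result {G : Type*} [Group G] [Finite G] {D : Set G} (hD : Cfsg.IsThreeTranspositionClass D) (hsimple : IsSimpleGroup (commutator G)) (hnonab : ∃ x y : commutator G, x * y ≠ y * x) {a : G} (ha : a ∈ D) : (∃ b ∈ D, b ≠ a ∧ Commute a b) ∧ (∃ c ∈ D, ¬ Commute a c) ∧ (∀ b ∈ D, ∀ b' ∈ D, b ≠ a → b' ≠ a → Commute a b → Commute a b' → ∃ g : G, Commute g a ∧ g * b * g⁻¹ = b') ∧ (∀ c ∈ D, ∀ c' ∈ D, ¬ Commute a c → ¬ Commute a c' → ∃ g : G, Commute g a ∧ g * c * g⁻¹ = c') := by
  have h := CfsgLib.Spor.Tri.hyp_of_class hD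
  have hperf := CfsgLib.Spor.Tri.perfect_of_simple_commutator hsimple hnonab
  have hR := CfsgLib.Spor.Tri.centralRadical_of_simple_commutator hsimple hnonab
  have hne : commutator G ≠ ⊥ := fun e => by
    obtain ⟨⟨x, hx⟩, ⟨y, hy⟩, hxy⟩ := hnonab
    rw [e, Subgroup.mem_bot] at hx hy
    exact hxy (Subtype.ext (by simp [hx, hy]))
  obtain ⟨b, hb, hba, hab⟩ := CfsgLib.Spor.Tri.exists_commute_ne h hperf hne ha
  refine ⟨⟨b, hb, hba, hab⟩, h.exists_not_commute ha hb hba.symm, ?_, ?_⟩
  · intro y hy y' hy' hya hy'a h1 h2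
    obtain ⟨g, hg, hgy⟩ := CfsgLib.Spor.Tri.exists_conj_perp h hR hperf ha (y := y) (y' := y') ⟨hy, hya, h1⟩ ⟨hy', hy'a, h2⟩
    exact ⟨g, CfsgLib.Spor.Tri.commute_of_mem_closure_perp hg, hgy⟩
  · intro c hc c' hc' h1 h2
    exact CfsgLib.Spor.Tri.exists_conj_not_commute h hR hperf ha hc hc' h1 h2

end Cfsg.Agent.S0441
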