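import Cfsg.Statements.S0442
import Mathlib.Tactic.Group
-- import your own Cfsg.Agent.* helpers here

set_option autoImplicit false
open Cfsg

namespace Cfsg.Agent.S0442

/-- A standard trick for producing elements of an involution centraliser: for an involution a and an element g, let b be the conjugate g⁻¹ * a * g. If a * b has odd order 2m + 1 then g * (a * b) ^ m commutes with a; if a * b has even order 2m then (a * b) ^ m and (a * (g * a * g⁻¹)) ^ m commute with a. -/
theorem result {G : Type*} [Group G] (a g : G) (ha : orderOf a = 2) : (∀ m : ℕ, orderOf (a * (g⁻¹ * a * g)) = 2 * m + 1 → Commute (g * (a * (g⁻¹ * a * g)) ^ m) a) ∧ (∀ m : ℕ, orderOf (a * (g⁻¹ * a * g)) = 2 * m → Commute ((a * (g⁻¹ * a * g)) ^ m) a ∧ Commute ((a * (g * a * g⁻¹)) ^ m) a) := by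
  have haa : a * a = 1 := by have := pow_orderOf_eq_one a; rwa [ha, pow_two] at this
  set b := g⁻¹ * a * g with hb
  have hbb : b * b = 1 := by
    rw [hb, show g⁻¹ * a * g * (g⁻¹ * a * g) = g⁻¹ * (a * a) * g by simp [mul_assoc], haa]; group
  have hflip : a * (a * b) * a = (a * b)⁻¹ := by
    rw [mul_inv_rev, inv_eq_of_mul_eq_one_right haa, inv_eq_of_mul_eq_one_right hbb, ← mul_assoc, haa, one_mul]
  have hflipn : ∀ m : ℕ, a * (a * b) ^ m * a = ((a * b) ^ m)⁻¹ := by
    intro m
    induction m with
    | zero => simp [haa]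
    | succ m ih =>
      have : a * ((a * b) ^ m * (a * b)) * a = (a * (a * b) ^ m * a) * (a * (a * b) * a) := by
        rw [show (a * (a * b) ^ m * a) * (a * (a * b) * a) = a * (a * b) ^ m * (a * a) * ((a * b) * a) by simp [mul_assoc], haa]
        simp [mul_assoc]
      rw [pow_succ, this, ih, hflip, ← mul_inv_rev]
      congr 1
      rw [← pow_succ', pow_succ]
  have hcomm : ∀ u : G, a * u * a = u⁻¹ → u * u = 1 → Commute u a := by
    intro u h1 h2
    rw [inv_eq_of_mul_eq_one_right h2] at h1
    show u * a = a * u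
    calc u * a = a * u * a * a := by rw [h1]
      _ = a * u * (a * a) := by group
      _ = a * u := by rw [haa, mul_one]
  constructor
  · intro m hm
    set u := (a * b) ^ m with hu
    have h1 : u * u * (a * b) = 1 := by
      rw [hu, ← pow_add, ← pow_succ]
      exact (congrArg _ (show m + m + 1 = 2 * m + 1 by omega)).trans (hm ▸ pow_orderOf_eq_one (a * b))
    have h2 : u * a * u⁻¹ = b := by
      rw [← hflipn m, ← hu, show u * a * (a * u * a) = u * (a * a) * u * a by simp [mul_assoc], haa, mul_one,
        eq_inv_of_mul_eq_one_left h1, mul_inv_rev, inv_eq_of_mul_eq_one_right haa,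
        inv_eq_of_mul_eq_one_right hbb, mul_assoc, haa, mul_one]
    show g * u * a = a * (g * u)
    calc g * u * a = g * (u * a * u⁻¹) * u := by group
      _ = a * (g * u) := by rw [h2, hb]; group
  · intro m hm
    have key : (a * b) ^ m * (a * b) ^ m = 1 := by
      rw [← pow_add, show m + m = 2 * m by omega, ← hm, pow_orderOf_eq_one]
    refine ⟨hcomm _ (hflipn m) key, ?_⟩
    set w := g * a * g⁻¹ with hw
    have hww : w * w = 1 := by
      rw [hw, show g * a * g⁻¹ * (g * a * g⁻¹) = g * (a * a) * g⁻¹ by simp [mul_assoc], haa]; group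
    have he : a * w = (g * (a * b) * g⁻¹)⁻¹ := by
      rw [hb, hw]
      simp only [mul_inv_rev, inv_inv, inv_eq_of_mul_eq_one_right haa, mul_assoc, inv_mul_cancel_left,
        mul_inv_cancel_left]
    have hfl : ∀ k : ℕ, a * (a * w) ^ k * a = ((a * w) ^ k)⁻¹ := by
      intro k
      have h1 : a * (a * w) * a⁻¹ = (a * w)⁻¹ := by
        rw [mul_inv_rev, inv_eq_of_mul_eq_one_right haa, inv_eq_of_mul_eq_one_right hww, ← mul_assoc a a w, haa,
          one_mul]
      have h2 := conj_pow (a := a) (b := a * w) (i := k)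
      rw [h1, inv_pow, inv_eq_of_mul_eq_one_right haa] at h2
      exact h2.symm
    refine hcomm _ (hfl m) ?_
    rw [← pow_add, show m + m = 2 * m by omega, he, inv_pow, conj_pow, ← hm, pow_orderOf_eq_one]
    group

end Cfsg.Agent.S0442
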