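import Cfsg.Statements.S0443
-- import your own Cfsg.Agent.* helpers here

set_option autoImplicit false
open Cfsg

namespace Cfsg.Agent.S0443

/-- Two definitions of a 2-central involution agree: an element t of order 2 of a finite group lies in the centre of some Sylow 2-subgroup if and only if its centraliser contains some Sylow 2-subgroup. -/
theorem result {G : Type*} [Group G] [Finite G] (t : G) (ht : orderOf t = 2) : Cfsg.IsTwoCentralInvolution t ↔ ∃ P : Sylow 2 G, (P : Subgroup G) ≤ Subgroup.centralizer ({t} : Set G) := by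
  constructor
  · rintro ⟨-, P, htP, hP⟩
    exact ⟨P, fun x hx => Subgroup.mem_centralizer_singleton_iff.2 (hP x hx)⟩
  · rintro ⟨P, hP⟩
    haveI : Fact (Nat.Prime 2) := ⟨Nat.prime_two⟩
    refine ⟨ht, P, ?_, fun x hx => Subgroup.mem_centralizer_singleton_iff.1 (hP hx)⟩
    have hz : IsPGroup 2 (Subgroup.zpowers t) := IsPGroup.of_card (n := 1) (by rw [Nat.card_zpowers, ht, pow_one])
    have hn : (P : Subgroup G) ≤ Subgroup.normalizer (Subgroup.zpowers t : Set G) := by
      refine hP.trans ?_
      intro x hx
      have hxt : Commute t x := (Subgroup.mem_centralizer_singleton_iff.1 hx).symm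
      rw [Subgroup.mem_normalizer_iff]
      intro y
      constructor
      · intro hy
        obtain ⟨i, rfl⟩ := Subgroup.mem_zpowers_iff.1 hy
        rw [← (hxt.zpow_left i).eq, mul_inv_cancel_right]
        exact hy
      · intro hy
        obtain ⟨i, hi⟩ := Subgroup.mem_zpowers_iff.1 hy
        have : y = t ^ i := by
          calc y = x⁻¹ * (x * y * x⁻¹) * x := by group
            _ = t ^ i := by rw [← hi, mul_assoc, (hxt.zpow_left i).eq, inv_mul_cancel_left]
        rw [this]; exact ⟨i, rfl⟩
    have := P.3 (P.isPGroup'.to_sup_of_normal_right' hz hn) le_sup_left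
    show t ∈ (P : Subgroup G)
    rw [← this]
    exact (le_sup_right : Subgroup.zpowers t ≤ (P : Subgroup G) ⊔ Subgroup.zpowers t) (Subgroup.mem_zpowers t)

end Cfsg.Agent.S0443
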