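import Cfsg.Statements.S0444
import Cfsg.Agent.Lib.Spor.Tri.Elementary
import Cfsg.Agent.Lib.Spor.Tri.SmallSymmetric
-- import your own Cfsg.Agent.* helpers here

set_option autoImplicit false
open Cfsg

namespace Cfsg.Agent.S0444

/-- Two members of a set of 3-transpositions which do not commute generate a subgroup isomorphic to the symmetric group on three letters. -/
theorem result {G : Type*} [Group G] {E : Set G} (hE : Cfsg.IsThreeTranspositionSet E) {d e : G} (hd : d ∈ E) (he : e ∈ E) (h : ¬ Commute d e) : Nonempty (Subgroup.closure ({d, e} : Set G) ≃* Equiv.Perm (Fin 3)) := by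
  exact CfsgLib.Spor.Tri.nonempty_equiv_perm_three (CfsgLib.Spor.Tri.set_mul_self hE hd)
    (CfsgLib.Spor.Tri.set_mul_self hE he) (CfsgLib.Spor.Tri.set_braid hE he hd fun h' => h h'.symm)
    (fun e' => h (e' ▸ Commute.refl d)) h

end Cfsg.Agent.S0444
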