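import Cfsg.Statements.S0447
import Cfsg.Agent.Lib.Spor.Spin.Small

set_option autoImplicit false
open Cfsg

namespace Cfsg.Agent.S0447

/-- Involutions in double covers of alternating groups: for n ≤ 7, a finite non-split double cover of the alternating group of degree n has exactly one element of order 2 (the central one); for degree 8 there is a non-split double cover with two distinct involutions. -/
theorem result : (∀ (n : ℕ) (H : Type) (_ : Group H) (_ : Finite H), n ≤ 7 → Cfsg.IsNonsplitDoubleCover H (alternatingGroup (Fin n)) → ∀ x y : H, orderOf x = 2 → orderOf y = 2 → x = y) ∧ ∃ (H : Type) (_ : Group H) (_ : Finite H), Cfsg.IsNonsplitDoubleCover H (alternatingGroup (Fin 8)) ∧ ∃ x y : H, x ≠ y ∧ orderOf x = 2 ∧ orderOf y = 2 := by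
  refine ⟨fun n H _ _ hn hH x y hx hy => ?_, Cfsg.Agent.Lib.Spor.Spin.cover_eight⟩
  obtain ⟨z, -, -, -, hz⟩ := Cfsg.Agent.Lib.Spor.Spin.center_pair hH.1
  have hx1 : x ≠ 1 := fun e => by rw [e, orderOf_one] at hx; omega
  have hy1 : y ≠ 1 := fun e => by rw [e, orderOf_one] at hy; omega
  have hxz := (hz x (Cfsg.Agent.Lib.Spor.Spin.no_extra_involution n hn hH x hx)).resolve_left hx1
  have hyz := (hz y (Cfsg.Agent.Lib.Spor.Spin.no_extra_involution n hn hH y hy)).resolve_left hy1
  exact hxz.trans hyz.symm

end Cfsg.Agent.S0447
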