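import Cfsg.Statements.S0499
import Cfsg.Agent.Lib.Fusion.PComplement


set_option autoImplicit false
open Cfsg

namespace Cfsg.Agent.S0499

open CfsgLib.Fusion

/-- An automorphism of a group of order dividing 8, whose fifth power is trivial, is trivial. -/
theorem aut_eq_one {Q : Type*} [Group Q] [Finite Q] (hQ : Nat.card Q ∣ 8) (σ : MulAut Q)
    (h5 : σ ^ 5 = 1) : σ = 1 := by
  haveI : Fact (Nat.Prime 5) := ⟨by norm_num⟩
  let Z := Subgroup.zpowers σ
  have hZ : IsPGroup 5 Z := fun ⟨x, hx⟩ => ⟨1, Subtype.ext (by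
    obtain ⟨n, rfl⟩ := Subgroup.mem_zpowers_iff.1 hx
    show (σ ^ n) ^ (5 ^ 1) = 1
    rw [pow_one, ← zpow_natCast, zpow_comm, zpow_natCast, h5, one_zpow])⟩
  have hm := hZ.card_modEq_card_fixedPoints Q
  let F := MonoidHom.eqLocus σ.toMonoidHom (MonoidHom.id Q)
  have hF : MulAction.fixedPoints Z Q = (F : Set Q) := by
    ext q
    refine ⟨fun h => h ⟨σ, Subgroup.mem_zpowers σ⟩, fun (h : σ q = q) z => ?_⟩
    obtain ⟨n, hn⟩ := Subgroup.mem_zpowers_iff.1 z.2
    show (z : MulAut Q) q = q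
    rw [← hn]
    exact (zpow_mem (show σ ∈ MulAction.stabilizer (MulAut Q) q from h) n :)
  rw [hF] at hm
  have hd : Nat.card F ∣ Nat.card Q := Subgroup.card_subgroup_dvd_card F
  have h2 := hd.trans hQ
  have hq : Nat.card Q ≤ 8 := Nat.le_of_dvd (by norm_num) hQ
  have hf : Nat.card F ≤ 8 := Nat.le_of_dvd (by norm_num) h2
  have hm' : Nat.card Q % 5 = Nat.card F % 5 := hm
  have heq : Nat.card F = Nat.card Q := by
    obtain ⟨a, ha, ha'⟩ := (Nat.dvd_prime_pow Nat.prime_two).1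
      (show Nat.card F ∣ 2 ^ 3 from h2)
    obtain ⟨b, hb, hb'⟩ := (Nat.dvd_prime_pow Nat.prime_two).1
      (show Nat.card Q ∣ 2 ^ 3 from hQ)
    rw [ha', hb'] at hm' ⊢
    interval_cases a <;> interval_cases b <;> first | rfl | norm_num at hm'
  ext q
  exact (((Subgroup.card_eq_iff_eq_top F).1 heq).ge (Subgroup.mem_top q) :)

theorem centralizes {G : Type*} [Group G] [Finite G] {Q : Subgroup G} {g : G}
    (hg : g ∈ Subgroup.normalizer (Q : Set G)) (hQ : Nat.card Q ∣ 8)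
    (h : Nat.gcd (orderOf g) (Nat.card Q).factorial ∣ 5) :
    g ∈ Subgroup.centralizer (Q : Set G) := by
  set σ := Subgroup.normalizerMonoidHom Q ⟨g, hg⟩ with hσ
  have h1 : orderOf σ ∣ orderOf g :=
    (orderOf_map_dvd _ _).trans (by rw [Subgroup.orderOf_mk])
  have h2 : orderOf σ ∣ (Nat.card Q).factorial := by
    rw [← Nat.card_perm, ← orderOf_injective (MulAut.toPerm Q)
      (fun a b hab => MulEquiv.ext fun x => congrArg (fun e : Equiv.Perm Q => e x) hab) σ]
    exact orderOf_dvd_natCard _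
  have h3 : σ = 1 := aut_eq_one hQ σ (orderOf_dvd_iff_pow_eq_one.1 ((Nat.dvd_gcd h1 h2).trans h))
  have h4 : (⟨g, hg⟩ : Subgroup.normalizer (Q : Set G)) ∈ (Subgroup.normalizerMonoidHom Q).ker := h3
  rw [Subgroup.normalizerMonoidHom_ker] at h4
  exact h4

/-- A non-abelian finite simple group of even order has order divisible by 12, 16 or 56. -/
theorem result {G : Type*} [Group G] [Finite G] [IsSimpleGroup G]
    (hG : ¬ IsMulCommutative G) (h2 : Even (Nat.card G)) :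
    12 ∣ Nat.card G ∨ 16 ∣ Nat.card G ∨ 56 ∣ Nat.card G := by
  obtain ⟨S⟩ : Nonempty (Sylow 2 G) := inferInstance
  have hnc : ¬ LocallyPNilpotentAction 2 (S : Subgroup G) := fun h => by
    obtain ⟨P, N, hN, hc⟩ := hasNormalPComplement_of_locallyPNilpotentAction S h
    rcases hN.eq_bot_or_eq_top with hb | ht
    · subst hb
      have hP : (P : Subgroup G) = ⊤ := by simpa [Subgroup.isComplement'_bot_left] using hc
      haveI : Group.IsNilpotent G :=
        Group.nilpotent_of_mulEquiv (_h := hP ▸ P.2.isNilpotent) Subgroup.topEquiv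
      exact hG ⟨⟨fun a b => IsSimpleGroup.comm_iff_isSolvable.2 inferInstance a b⟩⟩
    · subst ht
      have hP : (P : Subgroup G) = ⊥ := by simpa [Subgroup.isComplement'_top_left] using hc
      have h1 := P.card_eq_multiplicity
      rw [hP, Subgroup.card_bot] at h1
      have := Nat.Prime.factorization_pos_of_dvd Nat.prime_two Nat.card_pos.ne' h2.two_dvd
      have h4 := Nat.pow_le_pow_right (show 0 < 2 by norm_num) this
      omega
  obtain ⟨k, hk⟩ := S.2.exists_card_eq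
  by_cases hk4 : 4 ≤ k
  · exact Or.inr (Or.inl ((pow_dvd_pow 2 hk4).trans (hk ▸ Subgroup.card_subgroup_dvd_card _)))
  have hSd : 2 ^ k ∣ Nat.card G := hk ▸ Subgroup.card_subgroup_dvd_card _
  by_contra hcon
  rw [not_or, not_or] at hcon
  refine hnc fun Q hQ g hg hgo => ?_
  obtain ⟨j, hj, hQc⟩ := (Nat.dvd_prime_pow Nat.prime_two).1 (hk ▸ Subgroup.card_dvd_of_le hQ)
  have h3 : 2 ≤ k → ¬ 3 ∣ orderOf g := fun h h3 => hcon.1 (by
    have := Nat.Coprime.mul_dvd_of_dvd_of_dvd (by decide : Nat.Coprime (2 ^ 2) 3)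
      ((pow_dvd_pow 2 h).trans hSd) (h3.trans (orderOf_dvd_natCard g))
    simpa using this)
  have h7 : 3 ≤ k → ¬ 7 ∣ orderOf g := fun h h7 => hcon.2.2 (by
    have := Nat.Coprime.mul_dvd_of_dvd_of_dvd (by decide : Nat.Coprime (2 ^ 3) 7)
      ((pow_dvd_pow 2 h).trans hSd) (h7.trans (orderOf_dvd_natCard g))
    simpa using this)
  have cp : ∀ p : ℕ, p.Prime → ¬ p ∣ orderOf g → Nat.Coprime (orderOf g) p :=
    fun p hp h => ((hp.coprime_iff_not_dvd).2 h).symm
  refine centralizes hg (hQc ▸ (pow_dvd_pow 2 (by omega : j ≤ 3))) ?_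
  rcases (show j ≤ 1 ∨ (j = 2 ∧ 2 ≤ k) ∨ (j = 3 ∧ 3 ≤ k) by omega) with hj | ⟨rfl, hk2⟩ | ⟨rfl, hk3⟩
  · have hd : (Nat.card Q).factorial ∣ 2 := by interval_cases j <;> simp [hQc, Nat.factorial]
    exact (Nat.gcd_dvd_gcd_of_dvd_right _ hd).trans (by rw [hgo.gcd_eq_one]; norm_num)
  · rw [hQc, show (2 ^ 2 : ℕ).factorial = 2 ^ 3 * 3 by decide,
      (Nat.Coprime.mul_right (hgo.pow_right 3) (cp 3 Nat.prime_three (h3 hk2))).gcd_eq_one]
    norm_num
  · rw [hQc, show (2 ^ 3 : ℕ).factorial = 2 ^ 7 * 3 ^ 2 * 7 * 5 by decide]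
    refine (Nat.Coprime.dvd_of_dvd_mul_left ?_ (Nat.gcd_dvd_right _ _))
    exact Nat.Coprime.coprime_dvd_left (Nat.gcd_dvd_left _ _)
      (Nat.Coprime.mul_right (Nat.Coprime.mul_right (hgo.pow_right 7)
        ((cp 3 Nat.prime_three (h3 (by omega))).pow_right 2)) (cp 7 (by norm_num) (h7 hk3)))

end Cfsg.Agent.S0499
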