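import Cfsg.Statements.S0518
import Cfsg.Agent.S2947
import Cfsg.Agent.S2954
import Cfsg.Agent.Lib.JComp.Envelope
import Cfsg.Agent.Lib.ZNGroup.Central
-- import your own Cfsg.Agent.* helpers here

set_option autoImplicit false
open Cfsg

namespace Cfsg.Agent.S0518

/-- Let G be a finite group of characteristic 2 type with trivial 2-core in which every 2-local subgroup is solvable
and, for every Sylow 2-subgroup S, the centralizer of the set of central involutions of S lies in the normalizer of S.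
Then either G has a strongly embedded subgroup, or the subgroup generated by the elements of odd order has two distinct
maximal 2-local subgroups, each isomorphic to the symmetric group of degree 4, whose intersection has order 8. -/
theorem result {G : Type*} [Group G] [Finite G]
    (hL : Cfsg.IsCharacteristicTwoType G) (hO : Cfsg.pCore 2 G = ⊥)
    (hN : ∀ N : Subgroup G, Cfsg.IsTwoLocal N → Group.IsSolvable N)
    (hZ : ∀ S : Sylow 2 G,
      Subgroup.centralizer {z : G | z ∈ (S : Subgroup G) ∧ z ^ 2 = 1 ∧ ∀ s ∈ (S : Subgroup G), s * z = z * s} ≤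
        Subgroup.normalizer ((S : Subgroup G) : Set G))
    (H : Subgroup G) (hH : H = Subgroup.closure {g : G | Odd (orderOf g)}) :
    (∃ K : Subgroup G, Cfsg.IsStronglyEmbedded K) ∨
      ∃ M₁ M₂ : Subgroup H, M₁ ≠ M₂ ∧ Cfsg.IsMaximalTwoLocal M₁ ∧ Cfsg.IsMaximalTwoLocal M₂ ∧
        Nonempty (M₁ ≃* Equiv.Perm (Fin 4)) ∧ Nonempty (M₂ ≃* Equiv.Perm (Fin 4)) ∧ Nat.card ↥(M₁ ⊓ M₂) = 8 := by
  haveI := Fact.mk Nat.prime_two
  have hH' : ∀ g : G, Odd (orderOf g) → g ∈ H := fun g hg => hH ▸ Subgroup.subset_closure hg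
  have hZ' : ∀ S : Sylow 2 G, Subgroup.centralizer (Cfsg.omegaCenterOf (S : Subgroup G) : Set G) ≤
      Subgroup.normalizer ((S : Subgroup G) : Set G) := fun S =>
    (Subgroup.centralizer_le fun z hz =>
      CfsgLib.JComp.mem_omegaCenterOf.2 ⟨hz.1, hz.2.2, hz.2.1⟩).trans (hZ S)
  obtain ⟨S⟩ : Nonempty (Sylow 2 G) := inferInstance
  have hSne : (S : Subgroup G) ≠ ⊥ := S.ne_bot_of_dvd_card hL.1.two_dvd
  obtain ⟨M, hMdef⟩ : ∃ M, M = Subgroup.normalizer (Cfsg.thompsonSubgroupOf 2 (S : Subgroup G) : Set G) :=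
    ⟨_, rfl⟩
  have hM : Cfsg.IsTwoLocal M := ⟨Cfsg.thompsonSubgroupOf 2 (S : Subgroup G),
    S.2.to_le (Subgroup.map_subtype_le _), CfsgLib.Fusion.thompsonSubgroupOf_ne_bot S.2 hSne, hMdef⟩
  by_cases hstr : Cfsg.straddlingTwoSubgroups M = ∅
  · exact Or.inl ⟨M, (Cfsg.Agent.S2947.result hL hN hZ' hO S M hM hMdef.ge).2 hstr⟩
  right
  obtain ⟨T, hT⟩ := CfsgLib.JComp.exists_maxStraddling (Set.nonempty_iff_ne_empty.2 hstr)
  obtain ⟨P₁, P₂, hne, hm₁, hm₂, hs₁, hs₂, hcase⟩ :=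
    Cfsg.Agent.S2954.result hL hN hZ' hO S M hM hMdef.ge T hT
  obtain ⟨p, hc₁, hc₂⟩ : ∃ p : CfsgLib.ZNGroup.Pair P₁ P₂ T,
      (p.h₁.c ∈ H → p.h₁.c = 1) ∧ (p.h₂.c ∈ H → p.h₂.c = 1) := by
    rcases hcase with ⟨⟨e₁⟩, ⟨e₂⟩⟩ | ⟨⟨e₁⟩, ⟨e₂⟩⟩
    · obtain ⟨h₁, k₁⟩ := CfsgLib.ZNGroup.nonempty_shape_of_equiv e₁
      obtain ⟨h₂, k₂⟩ := CfsgLib.ZNGroup.nonempty_shape_of_equiv e₂
      exact ⟨⟨hne, hm₁, hm₂, hs₁, hs₂, h₁, h₂⟩, fun _ => k₁, fun _ => k₂⟩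
    · obtain ⟨h₁, k₁⟩ := CfsgLib.ZNGroup.exists_shape_of_equiv_prod e₁
      obtain ⟨h₂, k₂⟩ := CfsgLib.ZNGroup.exists_shape_of_equiv_prod e₂
      let p : CfsgLib.ZNGroup.Pair P₁ P₂ T := ⟨hne, hm₁, hm₂, hs₁, hs₂, h₁, h₂⟩
      exact ⟨p, fun h => absurd (hH ▸ h) (p.c_notMem_odd k₁ k₂),
        fun h => absurd (hH ▸ h) (p.swap.c_notMem_odd k₂ k₁)⟩
  obtain ⟨t₁, ht₁, hr₁, hs1⟩ := p.exists_model hH' hc₁
  obtain ⟨t₂, ht₂, hr₂, hs2⟩ := p.swap.exists_model hH' hc₂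
  refine ⟨(P₁ ⊓ H).subgroupOf H, (P₂ ⊓ H).subgroupOf H, fun e => ?_,
    p.isMaximalTwoLocal_inf hH' ht₁ hr₁ hs1, p.swap.isMaximalTwoLocal_inf hH' ht₂ hr₂ hs2, ?_, ?_, ?_⟩
  · have e' := congrArg (Subgroup.map H.subtype) e
    rw [Subgroup.map_subgroupOf_eq_of_le inf_le_right, Subgroup.map_subgroupOf_eq_of_le inf_le_right] at e'
    have h24 := CfsgLib.ZNGroup.card_of_range ht₁ hr₁
    have h8 := p.card_inf_eight hH' ht₁ hr₁
    have hle : P₁ ⊓ H ≤ T ⊓ H := by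
      rw [← p.inf_eq]
      exact le_inf (le_inf inf_le_left (e'.le.trans inf_le_left)) inf_le_right
    have := Subgroup.card_le_of_le hle
    omega
  · exact ⟨(Subgroup.subgroupOfEquivOfLe inf_le_right).trans
      ((MulEquiv.subgroupCongr hr₁.symm).trans (MonoidHom.ofInjective ht₁).symm)⟩
  · exact ⟨(Subgroup.subgroupOfEquivOfLe inf_le_right).trans
      ((MulEquiv.subgroupCongr hr₂.symm).trans (MonoidHom.ofInjective ht₂).symm)⟩
  · rw [Subgroup.subgroupOf, Subgroup.subgroupOf, ← Subgroup.comap_inf, show (P₁ ⊓ H) ⊓ (P₂ ⊓ H) = T ⊓ H by rw [← p.inf_eq]; ac_rfl]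
    exact (Nat.card_congr (Subgroup.subgroupOfEquivOfLe (inf_le_right : T ⊓ H ≤ H)).toEquiv).trans
      (p.card_inf_eight hH' ht₁ hr₁)

end Cfsg.Agent.S0518
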