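import Cfsg.Statements.S0519
import Cfsg.Agent.Lib.Invol.CyclicNormalAbelian


set_option autoImplicit false
open Cfsg

namespace Cfsg.Agent.S0519

/-- Let P be a finite p-group in which every abelian normal subgroup is cyclic, but which has a non-cyclic abelian
subgroup. Then p = 2 and P is generalized quaternion, dihedral of order at least 16, or quasi-dihedral. -/
theorem result {P : Type*} [Group P] [Finite P] (p : ℕ) [Fact p.Prime]
    (hP : IsPGroup p P) (hn : ∀ A : Subgroup P, A.Normal → IsMulCommutative A → IsCyclic A)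
    (hm : ∃ B : Subgroup P, IsMulCommutative B ∧ ¬ IsCyclic B) :
    p = 2 ∧ ((∃ n : ℕ, Nonempty (P ≃* QuaternionGroup n)) ∨ (∃ n : ℕ, 8 ≤ n ∧ Nonempty (P ≃* DihedralGroup n)) ∨
      Cfsg.IsQuasiDihedral P) := by
  obtain ⟨B, hB, hBc⟩ := hm
  rcases CfsgLib.Invol.cyclic_or_std hP hn with hc | ⟨rfl, k, r, e, a, b, hstd, F, hne⟩
  · exact absurd (Subgroup.isCyclic B) hBc
  refine ⟨rfl, ?_⟩
  rcases hstd with ⟨hk, ⟨rfl, rfl | rfl⟩ | ⟨hk3, rfl, rfl⟩⟩
  · refine Or.inr (Or.inl ⟨2 ^ k, ?_, F.dihedralEquiv⟩)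
    calc 8 = 2 ^ 3 := by norm_num
      _ ≤ 2 ^ k := Nat.pow_le_pow_right two_pos (by by_contra h; exact hne ⟨by omega, rfl⟩)
  · rcases CfsgLib.Invol.cases_of_std (S := P) ⟨hk, Or.inl ⟨rfl, Or.inr rfl⟩⟩ F with h | h | h
    · refine Or.inr (Or.inl ⟨2 ^ k, ?_, h⟩)
      by_contra hlt
      exfalso
      obtain rfl : k = 2 := by
        by_contra h2
        exact hlt (le_trans (by norm_num) (Nat.pow_le_pow_right two_pos (show 3 ≤ k by omega)))
      haveI : Fact (Nat.Prime 2) := ⟨Nat.prime_two⟩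
      obtain ⟨f⟩ := h
      have h8 : Nat.card P = 8 := by rw [F.card]; norm_num
      obtain ⟨B', hB1, hB2, hB3⟩ := CfsgLib.Invol.exists_noncyclic_of_dihedral_eight
        (P := DihedralGroup (2 ^ 2)) (by have := CfsgLib.Invol.dihedral_frame (2 ^ 2); norm_num at this ⊢; exact this)
      refine hB3 ?_
      haveI := hB1
      haveI := hB2
      haveI hn' := hn (B'.map f.symm.toMonoidHom) (Subgroup.Normal.map hB1 _ f.symm.surjective) inferInstance
      exact ((B'.equivMapOfInjective f.symm.toMonoidHom f.symm.injective).isCyclic).2 hn'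
    · exact Or.inl ⟨_, h⟩
    · exact Or.inr (Or.inr h)
  · exact Or.inr (Or.inr (CfsgLib.Invol.isQuasiDihedral_of_frame hk3 F))

end Cfsg.Agent.S0519
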