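import Cfsg.Statements.S0520
import Cfsg.Agent.Lib.Invol.KleinPair
import Cfsg.Agent.Lib.Invol.NormalizerCriterion
import Cfsg.Agent.Lib.Coprime.Action


set_option autoImplicit false
open Cfsg

namespace Cfsg.Agent.S0520

section

variable {G : Type*} [Group G] [Finite G]

/-- Adjacency of four-groups. -/
abbrev Adj (A B : Subgroup G) : Prop :=
  IsKleinFour A ∧ IsKleinFour B ∧ ∀ a ∈ A, ∀ b ∈ B, a * b = b * a

theorem adj_symm {A B : Subgroup G} (h : Relation.ReflTransGen Adj A B) :
    Relation.ReflTransGen Adj B A := by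
  induction h with
  | refl => exact .refl
  | tail _ h ih => exact .head ⟨h.2.1, h.1, fun a ha b hb => (h.2.2 b hb a ha).symm⟩ ih

theorem four_conj {U : Subgroup G} (hU : IsKleinFour U) (g : G) :
    IsKleinFour ↥(U.map (MulAut.conj g).toMonoidHom) := by
  have e := U.equivMapOfInjective (MulAut.conj g).toMonoidHom (MulAut.conj g).injective
  exact ⟨(Nat.card_congr e.toEquiv).symm.trans hU.card_four,
    (Monoid.exponent_eq_of_mulEquiv e).symm.trans hU.exponent_two⟩

theorem adj_conj (g : G) {A B : Subgroup G} (h : Relation.ReflTransGen Adj A B) :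
    Relation.ReflTransGen Adj (A.map (MulAut.conj g).toMonoidHom) (B.map (MulAut.conj g).toMonoidHom) := by
  refine h.lift _ fun C D hCD => ⟨four_conj hCD.1 g, four_conj hCD.2.1 g, ?_⟩
  rintro _ ⟨a, ha, rfl⟩ _ ⟨b, hb, rfl⟩
  rw [← map_mul, hCD.2.2 a ha b hb, map_mul]

theorem map_conj_one (A : Subgroup G) : A.map (MulAut.conj (1 : G)).toMonoidHom = A := by
  ext x
  simp

theorem map_conj_mul (g h : G) (A : Subgroup G) :
    (A.map (MulAut.conj h).toMonoidHom).map (MulAut.conj g).toMonoidHom =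
      A.map (MulAut.conj (g * h)).toMonoidHom := by
  rw [Subgroup.map_map]
  congr 1
  ext x
  simp [mul_assoc]

theorem four_isPGroup {U : Subgroup G} (hU : IsKleinFour U) : IsPGroup 2 U :=
  IsPGroup.of_card (n := 2) (by rw [hU.card_four]; norm_num)

theorem four_sq {U : Subgroup G} (hU : IsKleinFour U) {x : G} (hx : x ∈ U) : x ^ 2 = 1 := by
  have h := Monoid.pow_exponent_eq_one (⟨x, hx⟩ : U)
  rw [hU.exponent_two] at h
  exact congrArg Subtype.val h

theorem not_rankLE_of_four {U Q : Subgroup G} (hU : IsKleinFour U) (hUQ : U ≤ Q) :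
    ¬ Cfsg.PRankLE 2 1 Q := by
  intro h
  have hU' : ∀ a : U, a ^ 2 = 1 := fun a => Subtype.ext (four_sq hU a.2)
  have hc : ∀ a b : U, a * b = b * a := fun a b => by
    have h1 : ∀ c : U, c⁻¹ = c := fun c => inv_eq_of_mul_eq_one_right (by rw [← sq]; exact hU' c)
    rw [← h1 (a * b), mul_inv_rev, h1 a, h1 b]
  have := h (U.subgroupOf Q) ⟨⟨fun a b => Subtype.ext (Subtype.ext
    (congrArg (fun z : U => (z : G)) (hc ⟨_, a.2⟩ ⟨_, b.2⟩) :))⟩⟩ (fun a ha => Subtype.ext (four_sq hU ha))
  rw [Nat.card_congr (Subgroup.subgroupOfEquivOfLe hUQ).toEquiv, hU.card_four] at this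
  norm_num at this

theorem exists_four_of_not_rankLE {Q : Subgroup G} (h : ¬ Cfsg.PRankLE 2 1 Q) :
    ∃ U : Subgroup G, IsKleinFour U ∧ U ≤ Q := by
  unfold Cfsg.PRankLE at h
  push Not at h
  obtain ⟨A, hA, hA2, hcard⟩ := h
  obtain ⟨a, ha, ha1⟩ := (Subgroup.bot_or_exists_ne_one A).resolve_left (fun e => by
    rw [e, Subgroup.card_bot] at hcard; omega)
  obtain ⟨b, hb, hbz⟩ : ∃ b ∈ A, b ∉ Subgroup.zpowers a := by
    by_contra hno
    push Not at hno
    have := Nat.le_of_dvd Nat.card_pos (Subgroup.card_dvd_of_le (show A ≤ Subgroup.zpowers a from hno))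
    rw [Nat.card_zpowers, orderOf_eq_prime (hA2 a ha) ha1] at this
    omega
  have hao : orderOf (a : G) = 2 := by
    rw [Subgroup.orderOf_coe]
    exact orderOf_eq_prime (hA2 a ha) ha1
  have hbo : orderOf (b : G) = 2 := by
    rw [Subgroup.orderOf_coe]
    exact orderOf_eq_prime (hA2 b hb) fun e => hbz (e ▸ one_mem _)
  refine ⟨Subgroup.closure ({(a : G), (b : G)} : Set G), CfsgLib.Invol.isKleinFour_closure_pair hao hbo
    (fun e => hbz (Subtype.ext e ▸ Subgroup.mem_zpowers a))
    (congrArg (fun x : A => ((x : Q) : G)) (hA.is_comm.comm (⟨a, ha⟩ : A) ⟨b, hb⟩)), ?_⟩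
  rw [Subgroup.closure_le]
  rintro x (rfl | rfl)
  exacts [a.2, b.2]

theorem rankLE_top (h : Cfsg.PRankLE 2 1 ↥(⊤ : Subgroup G)) : Cfsg.PRankLE 2 1 G := by
  intro A hA hA2
  have := h (A.subgroupOf ⊤) ⟨⟨fun a b => Subtype.ext (Subtype.ext
    (congrArg (fun z : A => (z : G)) (hA.is_comm.comm (⟨_, a.2⟩ : A) ⟨_, b.2⟩) :))⟩⟩
    (fun a ha => Subtype.ext (hA2 _ ha))
  rwa [Nat.card_congr (Subgroup.subgroupOfEquivOfLe (le_top : A ≤ ⊤)).toEquiv] at this

theorem lift_connected {H : Subgroup G} (h : Cfsg.IsFourConnected H) :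
    ∀ U V : Subgroup G, IsKleinFour U → IsKleinFour V → U ≤ H → V ≤ H →
      Relation.ReflTransGen Adj U V := by
  intro U V hU hV hUH hVH
  have hsub : ∀ W : Subgroup G, IsKleinFour W → W ≤ H → IsKleinFour ↥(W.subgroupOf H) :=
    fun W hW hWH => ⟨(Nat.card_congr (Subgroup.subgroupOfEquivOfLe hWH).toEquiv).trans hW.card_four,
      (Monoid.exponent_eq_of_mulEquiv (Subgroup.subgroupOfEquivOfLe hWH)).trans hW.exponent_two⟩
  have hmap : ∀ W : Subgroup H, IsKleinFour W → IsKleinFour ↥(W.map H.subtype) := fun W hW =>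
    ⟨(Subgroup.card_map_of_injective H.subtype_injective).trans hW.card_four,
      (Monoid.exponent_eq_of_mulEquiv (W.equivMapOfInjective H.subtype H.subtype_injective)).symm.trans
        hW.exponent_two⟩
  have h1 : Relation.ReflTransGen Adj ((U.subgroupOf H).map H.subtype) ((V.subgroupOf H).map H.subtype) := by
    refine (h _ _ (hsub U hU hUH) (hsub V hV hVH)).lift _ fun C D hCD => ⟨hmap C hCD.1, hmap D hCD.2.1, ?_⟩
    rintro _ ⟨c, hc, rfl⟩ _ ⟨d, hd, rfl⟩
    rw [← map_mul, hCD.2.2 c hc d hd, map_mul]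
  rwa [Subgroup.map_subgroupOf_eq_of_le hUH, Subgroup.map_subgroupOf_eq_of_le hVH] at h1

end

/-- Let G be a finite group of 2-rank at least 2 and S a Sylow 2-subgroup whose commuting graph of Klein four-subgroups is
connected. Then the commuting graph of Klein four-subgroups of G is disconnected if and only if the 2-generated core — the
subgroup generated by the normalizers N_G(Q) of the subgroups Q of S that contain a Klein four-group — is a proper
subgroup of G. -/
theorem result {G : Type*} [Group G] [Finite G] (h2 : ¬ Cfsg.PRankLE 2 1 G)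
    (S : Sylow 2 G) (hS : Cfsg.IsFourConnected (S : Subgroup G)) :
    ¬ Cfsg.IsFourConnected G ↔
      (⨆ Q : {Q : Subgroup G // Q ≤ (S : Subgroup G) ∧ ¬ Cfsg.PRankLE 2 1 Q},
          Subgroup.normalizer ((Q : Subgroup G) : Set G)) ≠ ⊤ := by
  haveI : Fact (Nat.Prime 2) := ⟨Nat.prime_two⟩
  set Γ := ⨆ Q : {Q : Subgroup G // Q ≤ (S : Subgroup G) ∧ ¬ Cfsg.PRankLE 2 1 Q},
    Subgroup.normalizer ((Q : Subgroup G) : Set G) with hΓ
  have hgen : ∀ Q : Subgroup G, Q ≤ (S : Subgroup G) → ∀ U : Subgroup G, IsKleinFour U → U ≤ Q →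
      Subgroup.normalizer (Q : Set G) ≤ Γ := fun Q hQ U hU hUQ =>
    le_iSup (fun Q : {Q : Subgroup G // Q ≤ (S : Subgroup G) ∧ ¬ Cfsg.PRankLE 2 1 Q} =>
      Subgroup.normalizer ((Q : Subgroup G) : Set G)) ⟨Q, hQ, not_rankLE_of_four hU hUQ⟩
  -- some four-group lies in `S`
  obtain ⟨U₀, hU₀, hU₀S⟩ : ∃ U : Subgroup G, IsKleinFour U ∧ U ≤ (S : Subgroup G) := by
    obtain ⟨U, hU, -⟩ := exists_four_of_not_rankLE (Q := (⊤ : Subgroup G)) (fun h => h2 (rankLE_top h))
    obtain ⟨g, hg⟩ := CfsgLib.Invol.exists_conj_le_sylow (four_isPGroup hU) S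
    refine ⟨U.map (MulAut.conj g).toMonoidHom, four_conj hU g, ?_⟩
    rintro _ ⟨x, hx, rfl⟩
    exact hg x hx
  rw [not_iff_comm]
  simp only [ne_eq, not_not]
  constructor
  · -- `Γ = ⊤` gives connectedness
    intro htop
    have hS' := lift_connected (H := (S : Subgroup G)) hS
    have hΦ : ∀ g : G, Relation.ReflTransGen Adj U₀ (U₀.map (MulAut.conj g).toMonoidHom) := by
      intro g
      have hg : g ∈ Γ := htop ▸ Subgroup.mem_top g
      refine Subgroup.iSup_induction (fun Q : {Q : Subgroup G // Q ≤ (S : Subgroup G) ∧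
          ¬ Cfsg.PRankLE 2 1 Q} => Subgroup.normalizer ((Q : Subgroup G) : Set G))
        (C := fun g => Relation.ReflTransGen Adj U₀ (U₀.map (MulAut.conj g).toMonoidHom)) hg
        (fun Q n hn => ?_) ?_ (fun a b ha hb => ?_)
      · obtain ⟨U, hU, hUQ⟩ := exists_four_of_not_rankLE Q.2.2
        have hnU : U.map (MulAut.conj n).toMonoidHom ≤ (S : Subgroup G) := by
          rintro _ ⟨x, hx, rfl⟩
          exact Q.2.1 ((Subgroup.mem_normalizer_iff.1 hn x).1 (hUQ hx))
        have h1 := hS' _ _ hU₀ hU hU₀S (hUQ.trans Q.2.1)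
        have h2' := hS' _ _ (four_conj hU n) hU₀ hnU hU₀S
        exact (adj_symm h2').trans (adj_conj n (adj_symm h1))
      · rw [map_conj_one]
      · rw [← map_conj_mul]
        exact ha.trans (adj_conj a hb)
    intro U V hU hV
    have key : ∀ W : Subgroup G, IsKleinFour W → Relation.ReflTransGen Adj U₀ W := by
      intro W hW
      obtain ⟨g, hg⟩ := CfsgLib.Invol.exists_conj_le_sylow (four_isPGroup hW) S
      have hle : W.map (MulAut.conj g).toMonoidHom ≤ (S : Subgroup G) := by
        rintro _ ⟨x, hx, rfl⟩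
        exact hg x hx
      have h1 := adj_conj g⁻¹ (hS' _ _ hU₀ (four_conj hW g) hU₀S hle)
      rw [map_conj_mul, inv_mul_cancel, map_conj_one] at h1
      exact (hΦ g⁻¹).trans h1
    exact (adj_symm (key U hU)).trans (key V hV)
  · -- connectedness gives `Γ = ⊤`
    intro hconn
    have claim : ∀ (n : ℕ) (k : G) (U : Subgroup G), IsKleinFour U →
        U ≤ (S : Subgroup G) ⊓ (S : Subgroup G).map (MulAut.conj k).toMonoidHom →
        Nat.card G - Nat.card ↥((S : Subgroup G) ⊓ (S : Subgroup G).map (MulAut.conj k).toMonoidHom) = n →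
        k ∈ Γ := by
      intro n
      induction n using Nat.strongRecOn with
      | ind n ih =>
      intro k U hU hUR hn
      set Sk := (S : Subgroup G).map (MulAut.conj k).toMonoidHom with hSk
      set R := (S : Subgroup G) ⊓ Sk with hR
      have hcardk : Nat.card Sk = Nat.card (S : Subgroup G) :=
        Subgroup.card_map_of_injective (MulAut.conj k).injective
      by_cases hRS : R = (S : Subgroup G)
      · have hle : (S : Subgroup G) ≤ Sk := inf_eq_left.1 hRS
        have heq : (S : Subgroup G) = Sk := Subgroup.eq_of_le_of_card_ge hle hcardk.le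
        refine hgen _ le_rfl U hU (hUR.trans inf_le_left) ?_
        exact CfsgLib.Coprime.conjBy_eq_self_iff.1 heq.symm
      have hRk : R ≠ Sk := fun e => hRS (Subgroup.eq_of_le_of_card_ge inf_le_left
        (by rw [e, hcardk]))
      set N := Subgroup.normalizer (R : Set G) with hN
      have hNΓ : N ≤ Γ := hgen R inf_le_left U hU hUR
      have grow : ∀ T : Subgroup G, IsPGroup 2 T → R ≤ T → R ≠ T → Nat.card R < Nat.card ↥(T ⊓ N) := by
        intro T hT hRT hne
        obtain ⟨x, hxT, hxN, hxR⟩ := CfsgLib.Invol.exists_mem_normalizer_notMem hT hRT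
          (fun h => hne (le_antisymm hRT h))
        refine lt_of_le_of_ne (Nat.le_of_dvd Nat.card_pos
          (Subgroup.card_dvd_of_le (le_inf hRT Subgroup.le_normalizer))) fun e => hxR ?_
        rw [Subgroup.eq_of_le_of_card_ge (le_inf hRT Subgroup.le_normalizer) e.ge]
        exact ⟨hxT, hxN⟩
      have g1 := grow (S : Subgroup G) S.2 inf_le_left hRS
      have g2 := grow Sk (S.2.map _) inf_le_right hRk
      obtain ⟨P, hP⟩ : ∃ P : Sylow 2 N, ((S : Subgroup G) ⊓ N).subgroupOf N ≤ P :=
        (IsPGroup.comap_subtype (S.2.to_le inf_le_left)).exists_le_sylow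
      obtain ⟨P', hP'⟩ : ∃ P' : Sylow 2 N, (Sk ⊓ N).subgroupOf N ≤ P' :=
        (IsPGroup.comap_subtype ((S.2.map _).to_le inf_le_left)).exists_le_sylow
      obtain ⟨n₀, hn₀⟩ := MulAction.exists_smul_eq N P' P
      obtain ⟨b, hb⟩ := CfsgLib.Invol.exists_conj_le_sylow
        (P.2.map N.subtype : IsPGroup 2 ((P : Subgroup N).map N.subtype)) S
      have hbS : ∀ x ∈ (P : Subgroup N), b * (x : G) * b⁻¹ ∈ (S : Subgroup G) :=
        fun x hx => hb _ (Subgroup.mem_map_of_mem N.subtype hx)
      have hmeas : ∀ {X : Subgroup G}, Nat.card R < Nat.card X → Nat.card G - Nat.card X < n := by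
        intro X hX
        have := Subgroup.card_le_card_group X
        omega
      -- first step
      have hb' : b⁻¹ ∈ Γ := by
        have hle : (S : Subgroup G) ⊓ N ≤
            (S : Subgroup G) ⊓ (S : Subgroup G).map (MulAut.conj b⁻¹).toMonoidHom := by
          intro x hx
          refine Subgroup.mem_inf.2 ⟨hx.1, ?_⟩
          rw [Subgroup.mem_map_equiv, MulAut.conj_symm_apply, inv_inv]
          exact hbS ⟨x, hx.2⟩ (hP (Subgroup.mem_subgroupOf.2 hx))
        refine ih _ (hmeas (g1.trans_le (Nat.le_of_dvd Nat.card_pos (Subgroup.card_dvd_of_le hle))))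
          b⁻¹ U hU ?_ rfl
        exact (le_inf (hUR.trans inf_le_left) (hUR.trans Subgroup.le_normalizer)).trans hle
      -- second step
      have hbk : b * n₀ * k ∈ Γ := by
        have hle : (Sk ⊓ N).map (MulAut.conj (b * (n₀ : G))).toMonoidHom ≤
            (S : Subgroup G) ⊓ (S : Subgroup G).map (MulAut.conj (b * (n₀ : G) * k)).toMonoidHom := by
          rintro _ ⟨x, hx, rfl⟩
          obtain ⟨hx1, hxN⟩ := Subgroup.mem_inf.1 hx
          refine Subgroup.mem_inf.2 ⟨?_, ?_⟩
          · have hmem : n₀ * ⟨x, hxN⟩ * n₀⁻¹ ∈ (P : Subgroup N) := by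
              rw [← hn₀, Sylow.coe_subgroup_smul]
              exact Subgroup.smul_mem_pointwise_smul (⟨x, hxN⟩ : N) (MulAut.conj n₀) _
                (hP' (Subgroup.mem_subgroupOf.2 hx))
            have h := hbS _ hmem
            show b * n₀ * x * (b * (n₀ : G))⁻¹ ∈ (S : Subgroup G)
            rw [show b * (n₀ : G) * x * (b * (n₀ : G))⁻¹ = b * ((n₀ : G) * x * (n₀ : G)⁻¹) * b⁻¹ by group]
            exact h
          · obtain ⟨s, hs, rfl⟩ := Subgroup.mem_map.1 hx1
            refine Subgroup.mem_map.2 ⟨s, hs, ?_⟩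
            show b * (n₀ : G) * k * s * (b * (n₀ : G) * k)⁻¹ =
              b * (n₀ : G) * (k * s * k⁻¹) * (b * (n₀ : G))⁻¹
            group
        refine ih _ (hmeas ?_) _ (U.map (MulAut.conj (b * (n₀ : G))).toMonoidHom) (four_conj hU _) ?_ rfl
        · refine g2.trans_le ?_
          rw [← Subgroup.card_map_of_injective
            (K := Sk ⊓ N) (f := (MulAut.conj (b * (n₀ : G))).toMonoidHom) (MulAut.conj _).injective]
          exact Nat.le_of_dvd Nat.card_pos (Subgroup.card_dvd_of_le hle)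
        · exact (Subgroup.map_mono (le_inf (hUR.trans inf_le_right)
            (hUR.trans Subgroup.le_normalizer))).trans hle
      have : k = (n₀ : G)⁻¹ * (b⁻¹ * (b * (n₀ : G) * k)) := by group
      rw [this]
      exact Γ.mul_mem (Γ.inv_mem (hNΓ n₀.2)) (Γ.mul_mem hb' hbk)
    have base : ∀ U : Subgroup G, IsKleinFour U → U ≤ (S : Subgroup G) → ∀ k : G,
        U ≤ (S : Subgroup G).map (MulAut.conj k).toMonoidHom → k ∈ Γ :=
      fun U hU hUS k hk => claim _ k U hU (le_inf hUS hk) rfl
    have hgood : ∀ W : Subgroup G, Relation.ReflTransGen Adj U₀ W → ∀ k : G,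
        W ≤ (S : Subgroup G).map (MulAut.conj k).toMonoidHom → k ∈ Γ := by
      intro W hW
      induction hW with
      | refl => exact base U₀ hU₀ hU₀S
      | @tail A B _ hAB ih =>
        intro k hk
        obtain ⟨hA, hB, hc⟩ := hAB
        have hAB2 : IsPGroup 2 ↥(A ⊔ B) := by
          refine IsPGroup.to_sup_of_normal_left' (four_isPGroup hA) (four_isPGroup hB) ?_
          intro y hy
          rw [Subgroup.mem_normalizer_iff]
          intro x
          constructor
          · intro hx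
            rwa [← hc x hx y hy, mul_inv_cancel_right]
          · intro hx
            have h1 := hc _ hx y hy
            rw [inv_mul_cancel_right] at h1
            rwa [← mul_left_cancel h1] at hx
        obtain ⟨g, hg⟩ := CfsgLib.Invol.exists_conj_le_sylow hAB2 S
        have hgΓ : g⁻¹ ∈ Γ := by
          refine ih g⁻¹ fun x hx => ?_
          rw [Subgroup.mem_map_equiv, MulAut.conj_symm_apply, inv_inv]
          exact hg x (Subgroup.mem_sup_left hx)
        have hgk : g * k ∈ Γ := by
          refine base _ (four_conj hB g) ?_ _ ?_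
          · rintro _ ⟨x, hx, rfl⟩
            exact hg x (Subgroup.mem_sup_right hx)
          · rw [← map_conj_mul]
            exact Subgroup.map_mono hk
        rw [← inv_mul_cancel_left g k]
        exact Γ.mul_mem hgΓ hgk
    refine top_unique fun g _ => hgood _ (hconn U₀ _ hU₀ (four_conj hU₀ g)) g ?_
    exact Subgroup.map_mono hU₀S

end Cfsg.Agent.S0520
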