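import Cfsg.Statements.S0521
import Cfsg.Agent.Lib.Qd.Unstable
import Cfsg.Agent.Lib.Coprime.Solvable
import Cfsg.Agent.Lib.Coprime.Core


set_option autoImplicit false
open Cfsg

namespace Cfsg.Agent.S0521

open Subgroup
open scoped commutatorElement

universe u

theorem stable_of_odd {G : Type u} [Group G] [Finite G] {p : ℕ} [Fact p.Prime] (hp : p ≠ 2)
    (hodd : Odd (Nat.card G)) (V : Subgroup G) [V.Normal] (hV : IsPGroup p V) :
    Cfsg.IsPStableOn p V := by
  by_contra h
  obtain ⟨-, K, L, hn, -, ⟨e⟩⟩ := CfsgLib.Qd.sections_of_not_isPStableOn hp V hV h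
  have hd : Nat.card (Matrix.SpecialLinearGroup (Fin 2) (ZMod p)) ∣ Nat.card G := by
    rw [← Nat.card_congr e.toEquiv]
    exact (L.subgroupOf K).card_quotient_dvd_card.trans K.card_subgroup_dvd_card
  haveI : Fact (2 < p) := ⟨lt_of_le_of_ne (Fact.out : p.Prime).two_le (Ne.symm hp)⟩
  have hne : (-1 : Matrix.SpecialLinearGroup (Fin 2) (ZMod p)) ≠ 1 := by
    intro h1
    have h2 := congrArg (fun A : Matrix.SpecialLinearGroup (Fin 2) (ZMod p) => A.1 0 0) h1
    simp at h2
    exact ZMod.neg_one_ne_one h2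
  have ho : orderOf (-1 : Matrix.SpecialLinearGroup (Fin 2) (ZMod p)) = 2 :=
    orderOf_eq_prime (by simp) hne
  have h3 := _root_.orderOf_dvd_natCard (-1 : Matrix.SpecialLinearGroup (Fin 2) (ZMod p))
  rw [ho] at h3
  have : 2 ∣ Nat.card G := h3.trans hd
  exact (Nat.not_even_iff_odd.2 hodd) (even_iff_two_dvd.2 this)

theorem fixes_of_small {G : Type u} [Group G] [Finite G] {p : ℕ} [Fact p.Prime] {W : Subgroup G}
    (hW : IsCyclic W) (he : ∀ w ∈ W, w ^ p = 1) {s : G} (hs : ∃ n : ℕ, s ^ p ^ n = 1)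
    (hn : ∀ w ∈ W, s * w * s⁻¹ ∈ W) : ∀ w ∈ W, s * w * s⁻¹ = w := by
  obtain ⟨⟨g, hg⟩, hgen⟩ := hW.exists_generator
  have hgen' : ∀ w ∈ W, ∃ i : ℤ, g ^ i = w := fun w hw => by
    obtain ⟨i, hi⟩ := Subgroup.mem_zpowers_iff.1 (hgen ⟨w, hw⟩)
    exact ⟨i, congrArg Subtype.val hi⟩
  suffices h : s * g * s⁻¹ = g by
    intro w hw
    obtain ⟨i, rfl⟩ := hgen' w hw
    rw [← conj_zpow, h]
  rcases eq_or_ne g 1 with rfl | hg1
  · simp
  obtain ⟨k, hk⟩ := hgen' _ (hn g hg)
  have hord : orderOf g = p := orderOf_eq_prime (he g hg) hg1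
  have hit : ∀ m : ℕ, s ^ m * g * (s ^ m)⁻¹ = g ^ (k ^ m) := by
    intro m
    induction m with
    | zero => simp
    | succ m ih =>
      calc s ^ (m + 1) * g * (s ^ (m + 1))⁻¹ = s * (s ^ m * g * (s ^ m)⁻¹) * s⁻¹ := by
            rw [pow_succ']; group
        _ = g ^ (k ^ (m + 1)) := by
            rw [ih, ← conj_zpow, ← hk, ← zpow_mul, pow_succ']
  obtain ⟨n, hsn⟩ := hs
  have h1 : g ^ (k ^ p ^ n) = g ^ (1 : ℤ) := by
    rw [← hit, hsn, zpow_one]; simp
  rw [← hk]
  conv_rhs => rw [← zpow_one g]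
  rw [zpow_eq_zpow_iff_modEq, hord, ← ZMod.intCast_eq_intCast_iff] at h1 ⊢
  rwa [Int.cast_pow, ZMod.pow_card_pow] at h1

theorem sylow_le_pCore {G : Type u} [Group G] [Finite G] {p : ℕ} [Fact p.Prime] (hp : p ≠ 2)
    (hodd : Odd (Nat.card G))
    (hc : centralizer (Cfsg.pCore p G : Set G) ≤ Cfsg.pCore p G) (S : Sylow p G)
    (hS : IsCyclic ↥⁅(S : Subgroup G), (S : Subgroup G)⁆) :
    (S : Subgroup G) ≤ Cfsg.pCore p G := by
  haveI := CfsgLib.Coprime.pCore_normal' (G := G) p
  set Q := Cfsg.pCore p G with hQdef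
  have hQ : IsPGroup p Q := CfsgLib.Coprime.pCore_isPGroup p
  set Φ := (frattini Q).map Q.subtype with hΦdef
  haveI hΦn : Φ.Normal := CfsgLib.Coprime.map_subtype_normal_of_characteristic Q (frattini Q)
  set π := QuotientGroup.mk' Φ with hπ
  have hsurj : Function.Surjective π := QuotientGroup.mk'_surjective Φ
  haveI hVn : (Q.map π).Normal := Subgroup.Normal.map inferInstance _ hsurj
  have hV : IsPGroup p (Q.map π) := hQ.map π
  have hst := stable_of_odd hp (hodd.of_dvd_nat Φ.card_quotient_dvd_card) (Q.map π) hV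
  set C := centralizer (Q.map π : Set (G ⧸ Φ)) with hC
  haveI hCn : C.Normal := inferInstance
  set D := C.comap π with hD
  have hDp : IsPGroup p D := by
    rintro ⟨z, hz⟩
    obtain ⟨k, m, hm, hkm⟩ := Nat.exists_eq_pow_mul_and_not_dvd (orderOf_pos z).ne' p
      (Fact.out : p.Prime).ne_one
    set y := z ^ p ^ k with hy
    have hym : y ^ m = 1 := by rw [hy, ← pow_mul, ← hkm, pow_orderOf_eq_one]
    have hcop : (orderOf y).Coprime p := Nat.Coprime.coprime_dvd_left
      (orderOf_dvd_of_pow_eq_one hym) ((Fact.out : p.Prime).coprime_iff_not_dvd.2 hm).symm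
    obtain ⟨j, hj⟩ := IsPGroup.iff_card.1 (hQ.to_subgroup (frattini Q))
    have hyD : y ∈ D := pow_mem hz _
    have hcen := CfsgLib.Coprime.le_centralizer_of_trivial_on_frattini_quotient
      (A := Subgroup.zpowers y) (K := Q) (fun a _ => by rw [Subgroup.normalizer_eq_top]; trivial)
      (by rw [Nat.card_zpowers, hj]; exact hcop.pow_right j) fun a ha q hq => by
        have haD : a ∈ D := (Subgroup.zpowers_le.2 hyD) ha
        refine (QuotientGroup.eq_one_iff (N := Φ) _).1 ?_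
        show π (a * q * a⁻¹ * q⁻¹) = 1
        rw [map_mul, map_mul, map_mul, map_inv, map_inv,
          ← Subgroup.mem_centralizer_iff.1 haD (π q) (Subgroup.mem_map_of_mem π hq),
          mul_inv_cancel_right, mul_inv_cancel]
    have hyQ : y ∈ Q := hc (hcen (Subgroup.mem_zpowers y))
    obtain ⟨l, hl⟩ := IsPGroup.iff_orderOf.1 hQ ⟨y, hyQ⟩
    rw [Subgroup.orderOf_mk] at hl
    refine ⟨k, Subtype.ext ?_⟩
    show z ^ p ^ k = 1
    rw [← hy]
    exact orderOf_eq_one_iff.1 (Nat.eq_one_of_dvd_coprimes (Nat.Coprime.pow_right l hcop)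
      dvd_rfl (hl ▸ dvd_rfl))
  set π₂ := (QuotientGroup.mk' C).comp π with hπ₂
  haveI := CfsgLib.Coprime.pCore_normal' (G := (G ⧸ Φ) ⧸ C) p
  set E := (Cfsg.pCore p ((G ⧸ Φ) ⧸ C)).comap π₂ with hE
  have hEQ : E ≤ Q := by
    refine CfsgLib.Coprime.le_pCore
      ((CfsgLib.Coprime.pCore_isPGroup p).comap_of_ker_isPGroup π₂ ?_)
    have : π₂.ker = D := by
      rw [hπ₂, ← MonoidHom.comap_ker, QuotientGroup.ker_mk']
    rw [this]
    exact hDp
  intro s hs
  refine hEQ (hst (π s) ?_)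
  have hSS : ∀ w ∈ ⁅(S : Subgroup G), (S : Subgroup G)⁆.map π ⊓ Q.map π,
      π s * w * (π s)⁻¹ = w := by
    refine fixes_of_small (p := p) ?_ ?_ ?_ ?_
    · haveI := hS
      haveI : IsCyclic ↥(⁅(S : Subgroup G), (S : Subgroup G)⁆.map π) :=
        isCyclic_of_surjective (π.subgroupMap _) (π.subgroupMap_surjective _)
      exact Subgroup.isCyclic_of_le inf_le_left
    · rintro w ⟨-, q, hq, rfl⟩
      rw [← map_pow]
      exact (QuotientGroup.eq_one_iff (N := Φ) _).2
        ⟨(⟨q, hq⟩ : Q) ^ p, CfsgLib.Coprime.pow_mem_frattini hQ _, rfl⟩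
    · obtain ⟨n, hn⟩ := S.isPGroup' ⟨s, hs⟩
      exact ⟨n, by rw [← map_pow, show s ^ p ^ n = 1 from congrArg Subtype.val hn, map_one]⟩
    · rintro w ⟨hw₁, hw₂⟩
      refine Subgroup.mem_inf.2 ⟨?_, hVn.conj_mem w hw₂ _⟩
      obtain ⟨c, hc', rfl⟩ := hw₁
      have hle : ⁅(S : Subgroup G), (S : Subgroup G)⁆.map (MulAut.conj s).toMonoidHom ≤
          ⁅(S : Subgroup G), (S : Subgroup G)⁆ := by
        rw [Subgroup.map_commutator]
        have h1 : (S : Subgroup G).map (MulAut.conj s).toMonoidHom ≤ S := by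
          rintro x ⟨y, hy, rfl⟩
          exact mul_mem (mul_mem hs hy) (inv_mem hs)
        exact Subgroup.commutator_mono h1 h1
      exact ⟨s * c * s⁻¹, hle ⟨c, hc', rfl⟩, by simp⟩
  rw [Subgroup.commutator_eq_bot_iff_le_centralizer]
  have hQS : Q ≤ (S : Subgroup G) := hQ.le_sylow_of_normal S
  have hfirst : ⁅Q.map π, Subgroup.zpowers (π s)⁆ ≤
      ⁅(S : Subgroup G), (S : Subgroup G)⁆.map π ⊓ Q.map π := by
    refine le_inf ?_ (Subgroup.commutator_le_left _ _)
    rw [← MonoidHom.map_zpowers, ← Subgroup.map_commutator]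
    exact Subgroup.map_mono (Subgroup.commutator_mono hQS (Subgroup.zpowers_le.2 hs))
  intro w hw
  rw [Subgroup.zpowers_eq_closure, Subgroup.centralizer_closure, Subgroup.mem_centralizer_singleton_iff]
  exact (mul_inv_eq_iff_eq_mul.1 (hSS w (hfirst hw))).symm

/-- Let X be a finite solvable group of odd order, p a prime and S a Sylow p-subgroup of X whose commutator subgroup is
cyclic. Then the product of the largest normal subgroup of X of order prime to p with S is a normal subgroup of X. -/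
theorem result {X : Type*} [Group X] [Finite X] [Group.IsSolvable X]
    (hX : Odd (Nat.card X)) (p : ℕ) [Fact p.Prime] (S : Sylow p X) (hS : IsCyclic (commutator (S : Subgroup X))) :
    (Cfsg.pPrimeCore p X ⊔ (S : Subgroup X)).Normal := by
  rcases eq_or_ne p 2 with rfl | hp
  · have h1 : (S : Subgroup X) = ⊥ := by
      obtain ⟨n, hn⟩ := IsPGroup.iff_card.1 S.isPGroup'
      rcases Nat.eq_zero_or_pos n with rfl | hpos
      · exact Subgroup.card_eq_one.1 (by simpa using hn)
      · exact absurd (by rw [hn]; exact Nat.even_pow.2 ⟨even_two, hpos.ne'⟩)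
          (Nat.not_even_iff_odd.2 (hX.of_dvd_nat (Subgroup.card_subgroup_dvd_card (S : Subgroup X))))
    rw [h1, sup_bot_eq]
    infer_instance
  set π := QuotientGroup.mk' (Cfsg.pPrimeCore p X) with hπ
  have hsurj : Function.Surjective π := QuotientGroup.mk'_surjective _
  set T := S.mapSurjective hsurj with hTdef
  have hT : (T : Subgroup (X ⧸ Cfsg.pPrimeCore p X)) = (S : Subgroup X).map π := rfl
  have hcyc : IsCyclic ↥⁅(T : Subgroup (X ⧸ Cfsg.pPrimeCore p X)),
      (T : Subgroup (X ⧸ Cfsg.pPrimeCore p X))⁆ := by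
    rw [hT, ← Subgroup.map_commutator]
    haveI : IsCyclic ↥⁅(S : Subgroup X), (S : Subgroup X)⁆ := by
      rw [← Subgroup.map_subtype_commutator]
      exact isCyclic_of_surjective _
        ((commutator (S : Subgroup X)).equivMapOfInjective _
          (Subgroup.subtype_injective _)).surjective
    exact isCyclic_of_surjective (π.subgroupMap _) (π.subgroupMap_surjective _)
  have hle := sylow_le_pCore hp (hX.of_dvd_nat (Subgroup.card_quotient_dvd_card _))
    (CfsgLib.Coprime.centralizer_pCore_le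
      (CfsgLib.Coprime.pPrimeCore_quotient_eq_bot (Fact.out : p.Prime))) T hcyc
  haveI := CfsgLib.Coprime.pCore_normal' (G := X ⧸ Cfsg.pPrimeCore p X) p
  have heq : Cfsg.pCore p (X ⧸ Cfsg.pPrimeCore p X) = T :=
    le_antisymm ((CfsgLib.Coprime.pCore_isPGroup p).le_sylow_of_normal T) hle
  have hmain : Cfsg.pPrimeCore p X ⊔ (S : Subgroup X) =
      (T : Subgroup (X ⧸ Cfsg.pPrimeCore p X)).comap π := by
    rw [hT, Subgroup.comap_map_eq, QuotientGroup.ker_mk', sup_comm]
  rw [hmain, ← heq]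
  exact Subgroup.Normal.comap inferInstance _

end Cfsg.Agent.S0521
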