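import Cfsg.Statements.S0522
import Cfsg.Agent.Lib.CFun.Transitivity
import Cfsg.Agent.Lib.CFun.StableConstrained
import Cfsg.Agent.Lib.Coprime.Solvable

set_option autoImplicit false
open Cfsg

namespace Cfsg.Agent.S0522

/-- Transitivity Theorem (odd-order setting). Let X be a finite group of odd order in which the normalizer of every
nontrivial p-subgroup is solvable, P a Sylow p-subgroup, and B an abelian subgroup of P, normalized by P, with
C_P(B) = B and containing an elementary abelian subgroup of order p^3. Then for every prime q ≠ p, any two q-subgroups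
that are maximal among the q-subgroups normalized by B are conjugate by an element of the centralizer of B. -/
theorem result {X : Type*} [Group X] [Finite X] (hX : Odd (Nat.card X)) (p : ℕ)
    [Fact p.Prime] (hloc : ∀ T : Subgroup X, IsPGroup p T → T ≠ ⊥ → Group.IsSolvable (Subgroup.normalizer (T : Set X)))
    (P : Sylow p X) (B : Subgroup X) (hBP : B ≤ (P : Subgroup X))
    (hBn : ∀ x ∈ (P : Subgroup X), ∀ b ∈ B, x * b * x⁻¹ ∈ B) (hBa : IsMulCommutative B)
    (hBc : (P : Subgroup X) ⊓ Subgroup.centralizer (B : Set X) = B)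
    (hB3 : ∃ E : Subgroup X, E ≤ B ∧ (∀ e ∈ E, e ^ p = 1) ∧ p ^ 3 ≤ Nat.card E)
    (q : ℕ) [Fact q.Prime] (hqp : q ≠ p) (Q₁ Q₂ : Subgroup X)
    (h₁ : IsPGroup q Q₁ ∧ B ≤ Subgroup.normalizer (Q₁ : Set X) ∧
      ∀ R : Subgroup X, IsPGroup q R → B ≤ Subgroup.normalizer (R : Set X) → Q₁ ≤ R → R = Q₁)
    (h₂ : IsPGroup q Q₂ ∧ B ≤ Subgroup.normalizer (Q₂ : Set X) ∧
      ∀ R : Subgroup X, IsPGroup q R → B ≤ Subgroup.normalizer (R : Set X) → Q₂ ≤ R → R = Q₂) :
    ∃ c ∈ Subgroup.centralizer (B : Set X), Q₂ = Q₁.map (MulAut.conj c).toMonoidHom := by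
  have hp2 : p ≠ 2 := by
    obtain ⟨E, hEB', -, hE⟩ := hB3
    intro h2
    have h1 : p ∣ Nat.card E := by
      obtain ⟨k, hk⟩ := IsPGroup.iff_card.1 (P.2.to_le (le_trans hEB' hBP))
      rcases k with _ | k
      · rw [hk, pow_zero] at hE
        exact absurd hE (not_le.2 (Nat.one_lt_pow (by norm_num) (Fact.out : p.Prime).one_lt))
      · exact hk ▸ dvd_pow_self p k.succ_ne_zero
    subst h2
    exact (Nat.not_even_iff_odd.2 hX) (even_iff_two_dvd.2 (h1.trans (Subgroup.card_subgroup_dvd_card E)))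
  obtain ⟨E, hEB, hEexp, hE3⟩ := hB3
  set C := Subgroup.centralizer (B : Set X) with hC
  have hPB : (P : Subgroup X) ≤ Subgroup.normalizer (B : Set X) := fun x hx =>
    CfsgLib.Fusion.conjBy_eq_iff.1 (CfsgLib.Fusion.conjBy_eq_of_le
      (CfsgLib.Fusion.conjBy_le_iff.2 fun b hb => hBn x hx b hb))
  have hBC : B ≤ C := fun a ha => Subgroup.mem_centralizer_iff.2 fun b hb =>
    congrArg Subtype.val (hBa.is_comm.comm (⟨b, hb⟩ : B) ⟨a, ha⟩)
  have hi := CfsgLib.CFun.not_dvd_relIndex_inf_of_normalizes P hPB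
    (CfsgLib.Coprime.centralizer_le_normalizer_self B)
    (CfsgLib.CFun.le_normalizer_centralizer le_rfl)
  rw [hBc] at hi
  have hfull : ∀ x ∈ C, IsPGroup p (Subgroup.zpowers x) → x ∈ B := by
    intro x hx hxp
    obtain ⟨c, hc, hle⟩ := CfsgLib.Fusion.exists_conj_le_of_not_dvd_relIndex (P.2.to_le hBP) hBC hi
      hxp (Subgroup.zpowers_le.2 hx)
    have h1 : c * x * c⁻¹ ∈ B := CfsgLib.Fusion.conjBy_le_iff.1 hle x (Subgroup.mem_zpowers x)
    have h2 : c * (c * x * c⁻¹) = c * x * c⁻¹ * c := (Subgroup.mem_centralizer_iff.1 hc _ h1).symm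
    rw [inv_mul_cancel_right] at h2
    rwa [mul_left_cancel h2] at h1
  obtain ⟨c, hc, e⟩ := CfsgLib.CFun.transitive_of_locals (E := B)
    (fun T hT hT1 => by
      haveI := hloc T hT hT1
      exact CfsgLib.Invol.isPConstrained_iff.2 (CfsgLib.Invol.pClean_of_centralizer_le
        (CfsgLib.Coprime.centralizer_pCore_le
          (CfsgLib.Coprime.pPrimeCore_quotient_eq_bot (Fact.out : p.Prime)))))
    (fun h => absurd h hp2) (P.2.to_le hBP) hBa hEB
    ⟨⟨⟨fun a b => Subtype.ext (show (a : X) * b = b * a from congrArg Subtype.val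
      (hBa.is_comm.comm (⟨a, hEB a.2⟩ : B) ⟨b, hEB b.2⟩))⟩⟩, hEexp⟩
    hE3 hfull hqp _ Q₁ Q₂ h₁ h₂ rfl
  exact ⟨c, Subgroup.map_subtype_le _ hc, e⟩

end Cfsg.Agent.S0522
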