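import Cfsg.Statements.S0530
import Cfsg.Agent.Lib.Coprime.SupersolvableCriteria

set_option autoImplicit false
open Cfsg

namespace Cfsg.Agent.S0530

/-- A finite group whose order is twice a prime power is supersolvable. -/
theorem result {G : Type*} [Group G] [Finite G] (p n : ℕ) (hp : p.Prime) (hG : Nat.card G = 2 * p ^ n) : Cfsg.IsSupersolvable G := by
  classical
  haveI := Fact.mk hp
  by_cases hp2 : p = 2
  · haveI := (IsPGroup.of_card (G := G) (p := p) (n := n + 1)
      (by rw [hG, hp2, pow_succ, mul_comm])).isNilpotent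
    exact CfsgLib.Coprime.isSupersolvable_of_isNilpotent
  let P : Sylow p G := default
  have hPc : Nat.card P = p ^ n := by
    rw [P.card_eq_multiplicity, hG, Nat.factorization_mul two_ne_zero (pow_ne_zero _ hp.ne_zero)]
    simp [Nat.prime_two.factorization, hp.factorization, Ne.symm hp2]
  have hPi : (P : Subgroup G).index = 2 := by
    have := (P : Subgroup G).card_mul_index
    rw [hPc, hG, mul_comm 2] at this
    exact Nat.eq_of_mul_eq_mul_left (pow_pos hp.pos _) this
  haveI hPn : (P : Subgroup G).Normal := Subgroup.normal_of_index_eq_two hPi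
  haveI := Fact.mk Nat.prime_two
  obtain ⟨t, ht⟩ := exists_prime_orderOf_dvd_card' (G := G) 2 (hG ▸ dvd_mul_right 2 _)
  refine CfsgLib.Coprime.isSupersolvable_of_index_two (P : Subgroup G) P.2 hPi ht hp2

end Cfsg.Agent.S0530
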