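import Cfsg.Statements.S0534
import Cfsg.Agent.Lib.Coprime.Hall
import Cfsg.Agent.Lib.Coprime.Supersolvable

set_option autoImplicit false
open Cfsg

namespace Cfsg.Agent.S0534

/-- Let G be a finite solvable group and A a finite abelian group such that every prime dividing the order of A divides the order of G and, for each prime p dividing the order of G, the exponent of p in the order of A is one less than its exponent in the order of G. Then G × A has a subgroup of every order dividing its order. -/
theorem result {G A : Type*} [Group G] [CommGroup A] [Finite G] [Finite A] [Group.IsSolvable G] (hA : ∀ p : ℕ, p.Prime → p ∣ Nat.card A → p ∣ Nat.card G) (hexp : ∀ p : ℕ, p.Prime → p ∣ Nat.card G → (Nat.card A).factorization p + 1 = (Nat.card G).factorization p) : Cfsg.HasSubgroupOfEveryOrder (G × A) := by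
  classical
  intro d hd
  set π : Set ℕ := {q | (Nat.card A).factorization q < d.factorization q}
  have hsolv : Group.IsSolvable (⊤ : Subgroup G) :=
    Group.isSolvable_of_surjective (f := (Subgroup.topEquiv (G := G)).symm.toMonoidHom) (MulEquiv.surjective _)
  obtain ⟨H, hH⟩ := CfsgLib.Coprime.exists_hallIn π hsolv
  have hGA : Nat.card (G × A) = Nat.card G * Nat.card A := Nat.card_prod G A
  have hd0 : d ≠ 0 := by rintro rfl; exact Nat.card_pos.ne' (Nat.eq_zero_of_zero_dvd hd)
  have hdle : ∀ q, d.factorization q ≤ (Nat.card G).factorization q + (Nat.card A).factorization q := by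
    intro q
    have := (Nat.factorization_le_iff_dvd hd0 Nat.card_pos.ne').2 hd q
    rwa [hGA, Nat.factorization_mul Nat.card_pos.ne' Nat.card_pos.ne'] at this
  have hmul := CfsgLib.Coprime.card_mul_relIndex hH.1
  rw [Subgroup.card_top] at hmul
  have hr0 : H.relIndex ⊤ ≠ 0 := by
    rw [Subgroup.relIndex_top_right]; exact Subgroup.index_ne_zero_of_finite
  have hfacH : ∀ q, q.Prime → (Nat.card H).factorization q + (H.relIndex ⊤).factorization q =
      (Nat.card G).factorization q := by
    intro q _
    rw [← hmul, Nat.factorization_mul Nat.card_pos.ne' hr0]; rfl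
  have hin : ∀ q, q.Prime → q ∈ π → (Nat.card H).factorization q = (Nat.card G).factorization q := by
    intro q hq hqπ
    have h0 : (H.relIndex ⊤).factorization q = 0 :=
      Nat.factorization_eq_zero_of_not_dvd fun e => hH.2.2 q hq e hqπ
    have := hfacH q hq
    omega
  have hout : ∀ q, q.Prime → q ∉ π → (Nat.card H).factorization q = 0 := fun q hq hqπ =>
    Nat.factorization_eq_zero_of_not_dvd fun e => hqπ (hH.2.1 q hq e)
  have hle : ∀ q, (Nat.card H).factorization q ≤ d.factorization q ∧
      d.factorization q ≤ (Nat.card H).factorization q + (Nat.card A).factorization q := by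
    intro q
    by_cases hq : q.Prime
    swap
    · simp [Nat.factorization_eq_zero_of_not_prime _ hq]
    by_cases hqπ : q ∈ π
    · rw [hin q hq hqπ]
      refine ⟨?_, hdle q⟩
      have h1 : (Nat.card A).factorization q < d.factorization q := hqπ
      by_cases hqG : q ∣ Nat.card G
      · have := hexp q hq hqG
        omega
      · rw [Nat.factorization_eq_zero_of_not_dvd hqG]
        exact Nat.zero_le _
    · rw [hout q hq hqπ]
      exact ⟨Nat.zero_le _, by simpa using not_lt.1 hqπ⟩
  obtain ⟨e, he⟩ : Nat.card H ∣ d :=
    (Nat.factorization_le_iff_dvd Nat.card_pos.ne' hd0).1 fun q => (hle q).1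
  have he0 : e ≠ 0 := by rintro rfl; simp at he; exact hd0 he
  have heA : e ∣ Nat.card A := by
    refine (Nat.factorization_le_iff_dvd he0 Nat.card_pos.ne').1 fun q => ?_
    have h1 := (hle q).2
    rw [he, Nat.factorization_mul Nat.card_pos.ne' he0] at h1
    simp only [Finsupp.coe_add, Pi.add_apply] at h1
    omega
  obtain ⟨B, hB⟩ := CfsgLib.Coprime.hasSubgroupOfEveryOrder
    (CfsgLib.Coprime.isSupersolvable_of_isNilpotent (G := A)) e heA
  refine ⟨H.prod B, ?_⟩
  rw [Nat.card_congr (Subgroup.prodEquiv H B).toEquiv, Nat.card_prod, hB, he]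

end Cfsg.Agent.S0534
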