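import Cfsg.Statements.S0535
import Cfsg.Agent.Lib.Coprime.SupersolvableCriteria

set_option autoImplicit false
open Cfsg

namespace Cfsg.Agent.S0535

/-- Suppose that for every nontrivial subgroup H of a finite group and every prime p dividing the order of H there is a proper subgroup of H whose index in H is a power of p. Then the group is solvable. -/
theorem result {G : Type*} [Group G] [Finite G] (h : ∀ H : Subgroup G, H ≠ ⊥ → ∀ p : ℕ, p.Prime → p ∣ Nat.card H → ∃ K : Subgroup H, K ≠ ⊤ ∧ ∃ k : ℕ, K.index = p ^ k) : Group.IsSolvable G := by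
  refine CfsgLib.Coprime.isSolvable_of_hall_complements fun p hp => ?_
  exact CfsgLib.Coprime.exists_hall_complement_of_prime_power_index h hp _ ⊤ rfl ⟨0, by simp⟩

end Cfsg.Agent.S0535
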