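import Cfsg.Statements.S0537
import Cfsg.Agent.Lib.Coprime.MinimalNonNilpotent
import Cfsg.Agent.Lib.Coprime.FpfAction

set_option autoImplicit false
open Cfsg

namespace Cfsg.Agent.S0537

/-- A finite non-abelian group in which every proper subgroup is abelian is either of prime-power order, or is generated by a cyclic Sylow p-subgroup and a normal Sylow q-subgroup that is elementary abelian, for distinct primes p and q. -/
theorem result {G : Type*} [Group G] [Finite G] (hna : ¬ IsMulCommutative G) (h : ∀ H : Subgroup G, H ≠ ⊤ → IsMulCommutative H) : (∃ p : ℕ, p.Prime ∧ IsPGroup p G) ∨ ∃ p q : ℕ, p.Prime ∧ q.Prime ∧ p ≠ q ∧ ∃ (P : Sylow p G) (Q : Sylow q G), IsCyclic P ∧ (Q : Subgroup G).Normal ∧ Cfsg.IsElementaryAbelian q (Q : Subgroup G) ∧ (P : Subgroup G) ⊔ Q = ⊤ := by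
  classical
  by_cases hpg : ∃ p : ℕ, p.Prime ∧ IsPGroup p G
  · exact Or.inl hpg
  refine Or.inr ?_
  have hnil : ¬ Group.IsNilpotent G := by
    intro hn
    haveI := hn
    refine hna (CfsgLib.Coprime.isMulCommutative_of_nilpotent_abelian_sylow fun p hp P => h _ fun e => ?_)
    exact hpg ⟨p, hp.out, IsPGroup.of_equiv (e ▸ P.2 : IsPGroup p (⊤ : Subgroup G)) Subgroup.topEquiv⟩
  have hsub : ∀ H : Subgroup G, H ≠ ⊤ → Group.IsNilpotent H := by
    intro H hH
    haveI := h H hH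
    letI : CommGroup H := { (inferInstance : Group H) with mul_comm := mul_comm' }
    infer_instance
  obtain ⟨p, q, hp, hq, hpq, P, Q, hP, hQ, htop, hPQ⟩ := CfsgLib.Coprime.schmidt_structure hnil hsub
  haveI := Fact.mk hp
  haveI := Fact.mk hq
  haveI := hQ
  have hQne : (Q : Subgroup G) ≠ ⊤ := fun e => hpg ⟨q, hq,
    IsPGroup.of_equiv (e ▸ Q.2 : IsPGroup q (⊤ : Subgroup G)) Subgroup.topEquiv⟩
  haveI hQc := h _ hQne
  refine ⟨p, q, hp, hq, hpq, P, Q, hP, hQ, ⟨hQc, ?_⟩, htop⟩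
  -- the elements of order dividing `q`
  let W : Subgroup G :=
    { carrier := {a | a ∈ (Q : Subgroup G) ∧ a ^ q = 1}
      one_mem' := ⟨one_mem _, one_pow _⟩
      mul_mem' := fun {a b} ha hb => ⟨mul_mem ha.1 hb.1, by
        rw [(show Commute a b from congrArg Subtype.val (mul_comm' (⟨a, ha.1⟩ : (Q : Subgroup G)) ⟨b, hb.1⟩)).mul_pow,
          ha.2, hb.2, one_mul]⟩
      inv_mem' := fun {a} ha => ⟨inv_mem ha.1, by rw [inv_pow, ha.2, inv_one]⟩ }
  have hWQ : W ≤ (Q : Subgroup G) := fun a ha => ha.1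
  haveI : W.Normal := ⟨fun a ha g => ⟨hQ.conj_mem a ha.1 g, by rw [conj_pow, ha.2]; simp⟩⟩
  by_contra hcon
  push Not at hcon
  obtain ⟨a₀, ha₀, ha₀q⟩ := hcon
  refine hPQ ?_
  have hne : (P : Subgroup G) ⊔ W ≠ ⊤ := by
    intro e
    obtain ⟨x, hx, w, hw, hxw⟩ := Subgroup.mem_sup_of_normal_right.1
      (e ▸ Subgroup.mem_top a₀ : a₀ ∈ (P : Subgroup G) ⊔ W)
    have hxQ : x ∈ (Q : Subgroup G) := by
      have := mul_mem ha₀ (inv_mem (hWQ hw))
      rwa [← hxw, mul_inv_cancel_right] at this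
    have hx1 : x = 1 := Subgroup.disjoint_def.1 (IsPGroup.disjoint_of_ne p q hpq _ _ P.2 Q.2) hx hxQ
    rw [hx1, one_mul] at hxw
    exact ha₀q (hxw ▸ hw.2)
  haveI := h _ hne
  intro x hx
  rw [Subgroup.mem_centralizer_iff]
  intro b hb
  have hxN : x ∈ Subgroup.normalizer ((Q : Subgroup G) : Set G) := by
    rw [Subgroup.normalizer_eq_top]; exact Subgroup.mem_top x
  refine (CfsgLib.Coprime.commute_of_fix_prime_order hxN ?_ (fun v hv hvp => ?_) b hb).eq.symm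
  · obtain ⟨i, hi⟩ := IsPGroup.iff_orderOf.1 P.2 ⟨x, hx⟩
    obtain ⟨j, hj⟩ := IsPGroup.iff_card.1 Q.2
    rw [← Subgroup.orderOf_coe] at hi
    rw [hi, hj]
    exact Nat.Coprime.pow _ _ ((Nat.coprime_primes hp hq).2 hpq)
  · have hvq : v ^ q = 1 := by
      obtain ⟨i, hi⟩ := IsPGroup.iff_orderOf.1 Q.2 ⟨v, hv⟩
      rw [← Subgroup.orderOf_coe] at hi
      have : orderOf v = q := (Nat.prime_dvd_prime_iff_eq hvp hq).1 (hvp.dvd_of_dvd_pow (dvd_of_eq hi))
      rw [← this, pow_orderOf_eq_one]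
    exact congrArg Subtype.val (mul_comm' (⟨x, Subgroup.mem_sup_left hx⟩ : ((P : Subgroup G) ⊔ W : Subgroup G))
      ⟨v, Subgroup.mem_sup_right ⟨hv, hvq⟩⟩)

end Cfsg.Agent.S0537
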