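import Cfsg.Statements.S0540
import Cfsg.Agent.Lib.Coprime.Subnormal

set_option autoImplicit false
open Pointwise
open Cfsg

namespace Cfsg.Agent.S0540

/-- A uniqueness lemma of zipper type. Let A be a subgroup of a finite group G and U a nonempty family of subgroups. For V in U write S(V) for the set of conjugates of A that lie in V and are subnormal in V. Assume: A belongs to S(V) for every V in U; a member of some S(W) that lies in V belongs to S(V); and for all V, W in U the normalizer of the join of S(V) ∩ S(W) lies in some member of U. Then U has a greatest element. -/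
theorem result {G : Type*} [Group G] [Finite G] (A : Subgroup G) (U : Set (Subgroup G)) (hU : U.Nonempty) (S : Subgroup G → Set (Subgroup G)) (hS : ∀ V B : Subgroup G, B ∈ S V ↔ (∃ g : G, B = MulAut.conj g • A) ∧ B ≤ V ∧ (B.subgroupOf V).IsSubnormal) (h1 : ∀ V ∈ U, A ∈ S V) (h2 : ∀ V ∈ U, ∀ W ∈ U, ∀ B ∈ S W, B ≤ V → B ∈ S V) (h3 : ∀ V ∈ U, ∀ W ∈ U, ∃ X ∈ U, Subgroup.normalizer ((sSup (S V ∩ S W) : Subgroup G) : Set G) ≤ X) : ∃ M ∈ U, ∀ V ∈ U, V ≤ M := by
  open Subgroup CfsgLib.Coprime in
  obtain ⟨V₁, hV₁⟩ := hU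
  -- every member lies below a maximal member
  have hmaxex : ∀ V ∈ U, ∃ M, V ≤ M ∧ M ∈ U ∧ ∀ X ∈ U, M ≤ X → X = M := by
    intro V hV
    obtain ⟨M, hVM, hM, hmax⟩ := exists_maximal_ge_of_wellFoundedGT (fun X => X ∈ U) V hV
    exact ⟨M, hVM, hM, fun X hX hMX => le_antisymm (hmax hX hMX) hMX⟩
  have hconj : ∀ V : Subgroup G, ∀ B ∈ S V, ∀ g ∈ V, conjBy g B ∈ S V := by
    intro V B hB g hg
    obtain ⟨⟨x, rfl⟩, hle, hsn⟩ := (hS V B).1 hB
    have hgV : conjBy g V = V := conjBy_eq_self_of_mem hg
    refine (hS V _).2 ⟨⟨g * x, ?_⟩, (map_mono hle).trans hgV.le, ?_⟩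
    · exact conjBy_conjBy g x A
    · have h := isSubnormal_subgroupOf_conjBy hle hsn g
      rwa [hgV] at h
  suffices key : ∀ n : ℕ, ∀ V ∈ U, ∀ W ∈ U, (∀ X ∈ U, V ≤ X → X = V) →
      (∀ X ∈ U, W ≤ X → X = W) → Nat.card {B // B ∈ S V ∩ S W} = n → V = W by
    obtain ⟨M, -, hM, hMmax⟩ := hmaxex V₁ hV₁
    refine ⟨M, hM, fun V hV => ?_⟩
    obtain ⟨M', hVM', hM', hM'max⟩ := hmaxex V hV
    exact (key _ M' hM' M hM hM'max hMmax rfl) ▸ hVM'
  intro n
  induction hk : Nat.card (Subgroup G) - n using Nat.strongRecOn generalizing n with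
  | ind k ih =>
    subst hk
    intro V hV W hW hVm hWm hn
    by_contra hne
    obtain ⟨X, hX, hNX⟩ := h3 V hV W hW
    obtain ⟨M, hXM, hM, hMm⟩ := hmaxex X hX
    have main : ∀ V' ∈ U, (∀ X ∈ U, V' ≤ X → X = V') → S V ∩ S W ⊆ S V' → V' = M := by
      intro V' hV' hV'm hsub
      rcases eq_or_ssubset_of_subset hsub with heq | hss
      · refine (hV'm M hM (le_trans ?_ (hNX.trans hXM))).symm
        intro v hv
        refine conjBy_eq_self_iff.1 (eq_of_le_of_card_ge ?_ (by rw [card_conjBy]))
        rw [conjBy, (gc_map_comap _).l_sSup]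
        refine iSup₂_le fun B hB => le_sSup ?_
        rw [heq] at hB ⊢
        exact hconj V' B hB v hv
      · -- some member of `S V'` outside the common part normalizes its join
        have hin : ∀ B ∈ S V', B ≤ V' := fun B hB => ((hS V' B).1 hB).2.1
        have hpre : ∀ B, B ≤ V' → (B.subgroupOf V').map V'.subtype = B :=
          fun B h => map_subgroupOf_eq_of_le h
        obtain ⟨Y, ⟨B, hB, rfl⟩, hY₀, hYn⟩ := exists_mem_normalizer_join
          (S := (fun B : Subgroup G => B.subgroupOf V') '' S V')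
          (S₀ := (fun B : Subgroup G => B.subgroupOf V') '' (S V ∩ S W))
          (by rintro _ ⟨B, hB, rfl⟩; exact ((hS V' B).1 hB).2.2)
          (by
            rintro _ ⟨B, hB, rfl⟩ g
            refine ⟨conjBy (g : G) B, hconj V' B hB g g.2, ?_⟩
            apply map_injective V'.subtype_injective
            show ((conjBy (g : G) B).subgroupOf V').map V'.subtype = _
            rw [conjBy_map, hpre B (hin B hB), hpre _ (hin _ (hconj V' B hB g g.2))]; rfl)
          ⟨Set.image_mono hsub, fun h => by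
            obtain ⟨B, hB, hB₀⟩ := Set.exists_of_ssubset hss
            obtain ⟨C, hC, hCB⟩ := h ⟨B, hB, rfl⟩
            have e := congrArg (Subgroup.map V'.subtype) hCB
            rw [hpre C (hin C (hsub hC)), hpre B (hin B hB)] at e
            exact hB₀ (e ▸ hC)⟩
        have hBn : B ≤ normalizer ((sSup (S V ∩ S W) : Subgroup G) : Set G) := by
          intro b hb
          have hb' := conjBy_eq_self_iff.2 (hYn (mem_subgroupOf.2 hb : (⟨b, hin B hB hb⟩ : V') ∈ B.subgroupOf V'))
          have h2 := congrArg (Subgroup.map V'.subtype) hb'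
          have hsup : (sSup ((fun B : Subgroup G => B.subgroupOf V') '' (S V ∩ S W))).map V'.subtype =
              sSup (S V ∩ S W) := by
            rw [(gc_map_comap _).l_sSup, iSup_image, sSup_eq_iSup]
            exact biSup_congr fun C hC => hpre C (hin C (hsub hC))
          rw [conjBy_map, hsup] at h2
          exact conjBy_eq_self_iff.1 h2
        have hBM : B ∈ S M := h2 M hM V' hV' B hB (hBn.trans (hNX.trans hXM))
        have hSM : S V ∩ S W ⊆ S M := fun C hC => h2 M hM V hV C hC.1
          ((le_sSup hC).trans (le_normalizer.trans (hNX.trans hXM)))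
        have hcard : n < Nat.card {C // C ∈ S V' ∩ S M} := by
          rw [← hn]
          refine Set.ncard_lt_ncard (s := S V ∩ S W) (t := S V' ∩ S M) ?_ (Set.toFinite _)
          exact ⟨fun C hC => ⟨hsub hC, hSM hC⟩, fun h => hY₀ ⟨B, h ⟨hB, hBM⟩, rfl⟩⟩
        have hb : Nat.card {C // C ∈ S V' ∩ S M} ≤ Nat.card (Subgroup G) :=
          Finite.card_subtype_le _
        exact ih _ (by omega) _ rfl V' hV' M hM hV'm hMm rfl
    exact hne ((main V hV hVm Set.inter_subset_left).trans
      (main W hW hWm Set.inter_subset_right).symm)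

end Cfsg.Agent.S0540
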