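import Mathlib.GroupTheory.Nilpotent
import Mathlib.GroupTheory.Sylow
-- Template for statement S0541 (row 541; see /opt/grader/pristine/manifest.json for weights).
-- Copy to Cfsg/Agent/S0541.lean and replace the sorry. The statement below is byte-identical to the frozen
-- statement Cfsg.CfsgFrozen.S0541 (Cfsg/Statements/S0541.lean; the theorem Cfsg.matsuyama_weak_closure_normalized);
-- the grader kernel-checks Cfsg.Agent.S0541.result against that frozen type. Keep the theorem IN THIS FILE
-- (a `result` declared elsewhere and merely imported here is not credited); helpers may live anywhere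
-- under Cfsg/Agent/.
import Cfsg.Statements.S0541


set_option autoImplicit false
open Pointwise
open Cfsg

namespace Cfsg.Agent.S0541

open Subgroup

universe u

variable {G : Type u} [Group G] [Finite G]

theorem le_normalizer_of_map_le {Y W : Subgroup G}
    (h : ∀ u ∈ Y, W.map (MulAut.conj u).toMonoidHom ≤ W) : Y ≤ normalizer (W : Set G) := by
  intro u hu
  have he : W.map (MulAut.conj u).toMonoidHom = W := eq_of_le_of_card_ge (h u hu)
    (card_map_of_injective (MulAut.conj u).injective).ge
  refine mem_normalizer_iff.2 fun z => ⟨fun hz => ?_, fun hz => ?_⟩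
  · exact he ▸ ⟨z, hz, rfl⟩
  · rw [← he] at hz
    obtain ⟨w, hw, hwz⟩ := hz
    rw [← (MulAut.conj u).injective (show MulAut.conj u w = MulAut.conj u z from hwz)]
    exact hw

theorem map_conj_conj (Z : Subgroup G) (a b : G) :
    (Z.map (MulAut.conj b).toMonoidHom).map (MulAut.conj a).toMonoidHom =
      Z.map (MulAut.conj (a * b)).toMonoidHom := by
  rw [map_map]
  congr 1
  ext x
  simp [mul_assoc]

theorem main (p : ℕ) [Fact p.Prime] (Z Y : Subgroup G)
    (h : ∀ g : G, IsPGroup p ↥(⨆ y ∈ Y, Z.map (MulAut.conj (y * g)).toMonoidHom)) :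
    ∃ P : Sylow p G, Y ≤ normalizer
      ((⨆ g ∈ {g : G | Z.map (MulAut.conj g).toMonoidHom ≤ (P : Subgroup G)},
        Z.map (MulAut.conj g).toMonoidHom : Subgroup G) : Set G) := by
  set C : G → Subgroup G := fun g => Z.map (MulAut.conj g).toMonoidHom with hC
  set gen : Subgroup G → Subgroup G := fun Q => ⨆ g ∈ {g : G | C g ≤ Q}, C g with hgen
  set S : Set (Subgroup G) :=
    {Q | IsPGroup p Q ∧ Y ≤ normalizer (Q : Set G) ∧ Q ≤ gen Q}
  obtain ⟨Q, hQS, hQmax⟩ := (Set.toFinite S).exists_maximal (s := S) ⟨⊥, IsPGroup.of_bot,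
    by rw [normalizer_eq_top]; exact le_top, bot_le⟩
  obtain ⟨hQp, hYQ, hQgen⟩ := hQS
  obtain ⟨P, hQP⟩ := hQp.exists_le_sylow
  refine ⟨P, ?_⟩
  show Y ≤ normalizer ((gen P : Subgroup G) : Set G)
  suffices hall : ∀ g, C g ≤ (P : Subgroup G) → C g ≤ Q by
    have he : gen P = Q :=
      le_antisymm (iSup₂_le hall) (hQgen.trans (biSup_mono fun g hg => le_trans hg hQP))
    rwa [he]
  set N := (P : Subgroup G) ⊓ normalizer (Q : Set G) with hN
  suffices hN' : ∀ g, C g ≤ N → C g ≤ Q by
    have hNN : ∀ n ∈ (P : Subgroup G), N.map (MulAut.conj n).toMonoidHom ≤ N → n ∈ N := by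
      intro n hn hnN
      refine mem_inf.2 ⟨hn, ?_⟩
      refine le_normalizer_of_map_le (Y := zpowers n) (fun u hu => ?_) (mem_zpowers n)
      have huN : N.map (MulAut.conj u).toMonoidHom ≤ N := by
        have h1 : zpowers n ≤ normalizer (N : Set G) := by
          have he : N.map (MulAut.conj n).toMonoidHom = N := eq_of_le_of_card_ge hnN
            (card_map_of_injective (MulAut.conj n).injective).ge
          refine zpowers_le.2 (mem_normalizer_iff.2 fun z => ⟨fun hz => ?_, fun hz => ?_⟩)
          · exact he ▸ ⟨z, hz, rfl⟩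
          · rw [← he] at hz
            obtain ⟨w, hw, hwz⟩ := hz
            rw [← (MulAut.conj n).injective (show MulAut.conj n w = MulAut.conj n z from hwz)]
            exact hw
        rintro _ ⟨z, hz, rfl⟩
        exact (mem_normalizer_iff.1 (h1 hu) z).1 hz
      refine (map_mono hQgen).trans ?_
      rw [hgen]
      simp only [map_iSup]
      refine iSup₂_le fun g hg => ?_
      rw [hC, map_conj_conj]
      refine hN' (u * g) ?_
      show Z.map _ ≤ N
      rw [← map_conj_conj]
      exact (map_mono (le_trans hg (le_inf hQP le_normalizer))).trans huN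
    have hNP : N = (P : Subgroup G) := by
      haveI : Group.IsNilpotent (P : Subgroup G) := P.2.isNilpotent
      by_contra hne
      have hlt : N.subgroupOf (P : Subgroup G) < ⊤ := lt_top_iff_ne_top.2 fun e =>
        hne (le_antisymm inf_le_left (subgroupOf_eq_top.1 e))
      obtain ⟨x, hx, hxn⟩ := SetLike.exists_of_lt
        (Group.normalizerCondition_of_isNilpotent _ hlt)
      refine hxn (mem_subgroupOf.2 (hNN x x.2 ?_))
      rintro _ ⟨z, hz, rfl⟩
      exact (mem_normalizer_iff.1 hx ⟨z, (mem_inf.1 hz).1⟩).1 hz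
    exact fun g hg => hN' g (hNP.symm ▸ hg)
  intro g hgN
  set W := ⨆ y ∈ Y, C (y * g) with hW
  have hWp : IsPGroup p W := h g
  have hYW : Y ≤ normalizer (W : Set G) := le_normalizer_of_map_le fun u hu => by
    rw [hW]
    simp only [map_iSup]
    refine iSup₂_le fun y hy => ?_
    rw [hC, map_conj_conj, ← mul_assoc]
    exact le_iSup₂ (f := fun y _ => Z.map (MulAut.conj (y * g)).toMonoidHom) (u * y)
      (mul_mem hu hy)
  have hWQ : W ≤ normalizer (Q : Set G) := iSup₂_le fun y hy => by
    rw [hC]
    show Z.map _ ≤ _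
    rw [← map_conj_conj]
    rintro _ ⟨z, hz, rfl⟩
    exact mul_mem (mul_mem (hYQ hy) (mem_inf.1 (hgN hz)).2) (inv_mem (hYQ hy))
  have hgW : C g ≤ W := le_trans (le_of_eq (by rw [one_mul]))
    (le_iSup₂ (f := fun y _ => C (y * g)) (1 : G) (one_mem Y))
  have hmem : W ⊔ Q ∈ S := by
    refine ⟨hWp.to_sup_of_normal_right' hQp hWQ, fun y hy => ?_, sup_le ?_ ?_⟩
    · refine le_normalizer_of_map_le (Y := Y) (fun u hu => ?_) hy
      rw [Subgroup.map_sup]
      refine sup_le_sup ?_ ?_ <;> rintro _ ⟨z, hz, rfl⟩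
      · exact (mem_normalizer_iff.1 (hYW hu) z).1 hz
      · exact (mem_normalizer_iff.1 (hYQ hu) z).1 hz
    · refine iSup₂_le fun y hy => le_iSup₂_of_le (y * g) ?_ le_rfl
      exact (le_iSup₂ (f := fun y _ => C (y * g)) y hy).trans le_sup_left
    · exact hQgen.trans (biSup_mono fun x (hx : C x ≤ Q) => (le_trans hx le_sup_right : C x ≤ W ⊔ Q))
  exact (hgW.trans le_sup_left).trans (hQmax hmem le_sup_right)



/-- Let Z and Y be subgroups of a finite group G and p a prime. Suppose that for every g in G the subgroup generated by the conjugates of g Z g⁻¹ under Y is a p-group. Then there is a Sylow p-subgroup P of G such that Y normalizes the subgroup generated by all conjugates of Z contained in P. -/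
theorem result {G : Type*} [Group G] [Finite G] (p : ℕ) [Fact p.Prime] (Z Y : Subgroup G) (h : ∀ g : G, IsPGroup p ↥(⨆ y ∈ Y, MulAut.conj (y * g) • Z)) : ∃ P : Sylow p G, Y ≤ Subgroup.normalizer ((⨆ g ∈ {g : G | MulAut.conj g • Z ≤ (P : Subgroup G)}, MulAut.conj g • Z : Subgroup G) : Set G) := by
  exact main p Z Y h

end Cfsg.Agent.S0541
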