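import Cfsg.Statements.S0542
import Cfsg.Agent.Lib.Coprime.Subnormal
import Cfsg.Agent.Lib.Fusion.Sylow

set_option autoImplicit false
open Cfsg

namespace Cfsg.Agent.S0542

/-- A Sylow p-subgroup of a finite group meets every subnormal subgroup H in a Sylow p-subgroup of H. -/
theorem result {G : Type*} [Group G] [Finite G] (p : ℕ) [Fact p.Prime] (H : Subgroup G) (hH : H.IsSubnormal) (S : Sylow p G) : ∃ Q : Sylow p H, (Q : Subgroup H) = (S : Subgroup G).subgroupOf H := by
  open Subgroup in
  refine ⟨IsPGroup.toSylow (P := (S : Subgroup G).subgroupOf H)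
    (S.2.comap_of_injective H.subtype H.subtype_injective) ?_, rfl⟩
  have key : ¬ p ∣ (S : Subgroup G).relIndex H := by
    induction hH with
    | top => rw [relIndex_top_right]; exact S.not_dvd_index
    | step H K hle _ hN ih =>
      haveI := hN
      let T : Sylow p K := IsPGroup.toSylow (P := (S : Subgroup G).subgroupOf K)
        (S.2.comap_of_injective K.subtype K.subtype_injective) ih
      intro hd
      have h2 := CfsgLib.Fusion.not_dvd_relIndex_inf_of_normal T (H.subgroupOf K)
      refine h2 ?_
      rw [inf_relIndex_right]
      show p ∣ ((S : Subgroup G).subgroupOf K).relIndex (H.subgroupOf K)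
      rwa [relIndex_subgroupOf hle]
  exact key

end Cfsg.Agent.S0542
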