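import Cfsg.Statements.S0549
import Cfsg.Agent.Lib.Coprime.Primitive

set_option autoImplicit false
open Cfsg

namespace Cfsg.Agent.S0549

/-- Let U be a maximal subgroup of a finite group G whose normal core is trivial, and N a nontrivial normal subgroup with centralizer C. Then C ∩ U = 1, and either C = 1 or C is a minimal normal subgroup of G. -/
theorem result {G : Type*} [Group G] [Finite G] (U : Subgroup G) (hU : IsCoatom U) (hcore : U.normalCore = ⊥) (N : Subgroup G) [N.Normal] (hN : N ≠ ⊥) : Subgroup.centralizer (N : Set G) ⊓ U = ⊥ ∧ (Subgroup.centralizer (N : Set G) = ⊥ ∨ (Subgroup.centralizer (N : Set G) ≠ ⊥ ∧ ∀ K : Subgroup G, K.Normal → K ≤ Subgroup.centralizer (N : Set G) → K = ⊥ ∨ K = Subgroup.centralizer (N : Set G))) := by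
  have h1 := CfsgLib.Coprime.centralizer_inf_eq_bot hU hcore N hN
  haveI : (Subgroup.centralizer (N : Set G)).Normal := Subgroup.normal_centralizer
  refine ⟨h1, (em _).imp id fun hne => ⟨hne, fun K hK hle => ?_⟩⟩
  haveI := hK
  refine or_iff_not_imp_left.2 fun hK0 => le_antisymm hle fun c hc => ?_
  obtain ⟨k, hk, u, hu, rfl⟩ := Subgroup.mem_sup_of_normal_left.1
    (CfsgLib.Coprime.sup_eq_top_of_normal hU hcore K hK0 ▸ Subgroup.mem_top c : c ∈ K ⊔ U)
  have : u ∈ Subgroup.centralizer (N : Set G) ⊓ U := ⟨by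
    have := Subgroup.mul_mem _ (Subgroup.inv_mem _ (hle hk)) hc
    rwa [inv_mul_cancel_left] at this, hu⟩
  rw [h1, Subgroup.mem_bot] at this
  rwa [this, mul_one]

end Cfsg.Agent.S0549
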