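import Cfsg.Statements.S0552
import Cfsg.Agent.Lib.Coprime.Component

set_option autoImplicit false
open Cfsg

namespace Cfsg.Agent.S0552

/-- Let σ be an automorphism of a finite solvable group G fixing every element of the Fitting subgroup. If σ is not the identity then the order of σ and the order of G have a common prime factor. -/
theorem result {G : Type*} [Group G] [Finite G] [Group.IsSolvable G] (σ : G ≃* G) (hσ : ∀ x ∈ Cfsg.fittingSubgroup G, σ x = x) (hne : σ ≠ MulEquiv.refl G) : ¬ (orderOf σ).Coprime (Nat.card G) := by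
  intro hcop
  refine hne (MulEquiv.ext fun g => ?_)
  haveI := CfsgLib.Coprime.fitting_normal (G := G)
  have hu : g⁻¹ * σ g ∈ Cfsg.fittingSubgroup G := by
    refine CfsgLib.Coprime.centralizer_fitting_le (Subgroup.mem_centralizer_iff.2 fun x hx => ?_)
    have hgx : g * x * g⁻¹ ∈ Cfsg.fittingSubgroup G :=
      (inferInstance : (Cfsg.fittingSubgroup G).Normal).conj_mem x hx g
    have e := hσ _ hgx
    rw [map_mul, map_mul, map_inv, hσ x hx] at e
    calc x * (g⁻¹ * σ g) = g⁻¹ * (g * x * g⁻¹) * σ g := by group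
      _ = g⁻¹ * (σ g * x * (σ g)⁻¹) * σ g := by rw [e]
      _ = _ := by group
  have key : ∀ n : ℕ, (σ ^ n) g = g * (g⁻¹ * σ g) ^ n := by
    intro n
    induction n with
    | zero => rw [pow_zero, pow_zero, mul_one]; rfl
    | succ n ih =>
      rw [pow_succ', pow_succ']
      show σ ((σ ^ n) g) = _
      rw [ih, map_mul, hσ _ (Subgroup.pow_mem _ hu n)]
      simp [mul_assoc]
  have h1 := key (orderOf σ)
  rw [pow_orderOf_eq_one] at h1
  have h2 : orderOf (g⁻¹ * σ g) = 1 := Nat.eq_one_of_dvd_coprimes hcop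
    (orderOf_dvd_of_pow_eq_one (mul_eq_left.1 (show g = _ from h1).symm)) (orderOf_dvd_natCard _)
  rw [orderOf_eq_one_iff] at h2
  show σ g = g
  exact (inv_mul_eq_one.1 h2).symm

end Cfsg.Agent.S0552
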