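import Cfsg.Statements.S0558
import Cfsg.Agent.Lib.Fusion.Hall
import Cfsg.Agent.Lib.Coprime.MinimalNonNilpotent
import Cfsg.Agent.Lib.Coprime.Action
import Mathlib

set_option autoImplicit false
open Cfsg

namespace Cfsg.Agent.S0558

open Subgroup

/-- Let H be a subgroup of a finite group G that is not a Sylow subgroup of G for any prime, and suppose that for every prime p dividing the order of H and every Sylow p-subgroup P of H the normalizer of P in G is exactly H. Then some normal subgroup of G is a complement to H. -/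
theorem result {G : Type*} [Group G] [Finite G] (H : Subgroup G) (hnot : ∀ p : ℕ, p.Prime → ∀ P : Sylow p G, (P : Subgroup G) ≠ H) (hnorm : ∀ p : ℕ, p.Prime → p ∣ Nat.card H → ∀ P : Sylow p H, Subgroup.normalizer (((P : Subgroup H).map H.subtype : Subgroup G) : Set G) = H) : ∃ N : Subgroup G, N.Normal ∧ Subgroup.IsComplement' N H := by
  classical
  have hTn : ∀ (p : ℕ) [Fact p.Prime] (P : Sylow p H), p ∣ Nat.card H →
      normalizer (((P : Subgroup H).map H.subtype : Subgroup G) : Set G) = H :=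
    fun p hp P hd => hnorm p hp.out hd P
  -- `H` is nilpotent
  haveI hnil : Group.IsNilpotent H := by
    refine ((Group.isNilpotent_of_finite_tfae (G := H)).out 3 0 rfl rfl).1 fun p hp P => ?_
    by_cases hd : p ∣ Nat.card H
    · have hle := (hTn p P hd).ge
      rw [← comap_map_eq_self_of_injective H.subtype_injective (P : Subgroup H)]
      exact (normal_subgroupOf_iff_le_normalizer (map_subtype_le _)).2 hle
    · have hbot : (P : Subgroup H) = ⊥ := Subgroup.eq_bot_of_card_eq _ (by
        rw [P.card_eq_multiplicity, Nat.factorization_eq_zero_of_not_dvd hd, pow_zero])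
      rw [hbot]; infer_instance
  -- Sylow subgroups of `H` are Sylow subgroups of `G`
  have hsyl : ∀ (p : ℕ) [Fact p.Prime], p ∣ Nat.card H →
      (Nat.card H).factorization p = (Nat.card G).factorization p := by
    intro p hp hd
    obtain ⟨P⟩ : Nonempty (Sylow p H) := inferInstance
    refine le_antisymm ((Nat.factorization_le_iff_dvd Nat.card_pos.ne' Nat.card_pos.ne').2
      (card_subgroup_dvd_card H) p) ?_
    by_contra hlt
    push Not at hlt
    have hc : Nat.card ↥((P : Subgroup H).map H.subtype) = p ^ (Nat.card H).factorization p := by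
      rw [card_map_of_injective H.subtype_injective, P.card_eq_multiplicity]
    have h := Sylow.card_normalizer_modEq_card hc
    rw [hTn p P hd] at h
    have h2 : p ^ ((Nat.card H).factorization p + 1) ∣ Nat.card G :=
      (hp.out.pow_dvd_iff_le_factorization Nat.card_pos.ne').2 hlt
    have h3 := (hp.out.pow_dvd_iff_le_factorization Nat.card_pos.ne').1
      (Nat.modEq_zero_iff_dvd.1 (h.trans (Nat.modEq_zero_iff_dvd.2 h2)))
    omega
  have hHall : Nat.Coprime (Nat.card H) H.index := by
    refine Nat.coprime_of_dvd fun p hp hd hi => ?_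
    haveI := Fact.mk hp
    have h := congrArg (fun n : ℕ => n.factorization p) (card_mul_index H)
    simp only [Nat.factorization_mul Nat.card_pos.ne' index_ne_zero_of_finite, Finsupp.add_apply] at h
    have := hsyl p hd
    have := hp.factorization_pos_of_dvd index_ne_zero_of_finite hi
    omega
  -- there is a second prime
  have hsec : ∀ p : ℕ, p.Prime → p ∣ Nat.card H → ∃ q : ℕ, q.Prime ∧ q ≠ p ∧ q ∣ Nat.card H := by
    intro p hp hd
    by_contra hcon
    push Not at hcon
    haveI := Fact.mk hp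
    have hcard : Nat.card H = p ^ (Nat.card H).factorization p := by
      have h1 : Nat.card H = p ^ (Nat.card H).primeFactorsList.length :=
        Nat.eq_prime_pow_of_unique_prime_dvd Nat.card_pos.ne'
          (fun {q} hq hqd => by by_contra hne; exact hcon q hq hne hqd)
      conv_rhs => rw [h1, hp.factorization_pow, Finsupp.single_eq_same]
      exact h1
    exact hnot p hp (Sylow.ofCard H (by rw [hcard, hsyl p hd])) rfl
  -- fusion of elements of prime power order
  have hfus : ∀ (p : ℕ) [Fact p.Prime] (x y g : G), x ∈ H → y ∈ H → g * x * g⁻¹ = y → x ≠ 1 →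
      (∃ k, x ^ p ^ k = 1) → ∃ h ∈ H, h * x * h⁻¹ = y := by
    intro p hp x y g hx hy hg hx1 ⟨k, hk⟩
    have hpd : p ∣ Nat.card H := by
      obtain ⟨m, hm, hm'⟩ := (Nat.dvd_prime_pow hp.out).1 (orderOf_dvd_of_pow_eq_one hk)
      rcases m with _ | m
      · rw [pow_zero, orderOf_eq_one_iff] at hm'
        exact absurd hm' hx1
      · refine (Dvd.intro _ (pow_succ' p m).symm).trans (hm' ▸ ?_)
        have := orderOf_dvd_natCard (⟨x, hx⟩ : H)
        rwa [orderOf_mk] at this
    obtain ⟨q, hq, hqp, hqd⟩ := hsec p hp.out hpd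
    haveI := Fact.mk hq
    obtain ⟨R⟩ : Nonempty (Sylow q H) := inferInstance
    set Q := (R : Subgroup H).map H.subtype with hQ
    have hQc : ∀ z ∈ H, (∃ j, z ^ p ^ j = 1) → Q ≤ centralizer ({z} : Set G) := by
      rintro z hz ⟨j, hj⟩ _ ⟨r, hr, rfl⟩
      rw [mem_centralizer_singleton_iff]
      have hcop : (orderOf (⟨z, hz⟩ : H)).Coprime q := by
        rw [orderOf_mk]
        exact Nat.Coprime.coprime_dvd_left (orderOf_dvd_of_pow_eq_one hj)
          (Nat.Coprime.pow_left _ ((Nat.coprime_primes hp.out hq).2 hqp.symm))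
      exact (congrArg Subtype.val
        (CfsgLib.Coprime.commute_of_coprime_pow hcop R.isPGroup' hr).eq).symm
    have hQx := hQc x hx ⟨k, hk⟩
    have hQy : Q ≤ centralizer ({y} : Set G) := hQc y hy ⟨k, by rw [← hg, conj_pow, hk]; group⟩
    have hgQ : CfsgLib.Coprime.conjBy g Q ≤ centralizer ({y} : Set G) := by
      rintro _ ⟨r, hr, rfl⟩
      rw [mem_centralizer_singleton_iff]
      show g * r * g⁻¹ * y = y * (g * r * g⁻¹)
      rw [← hg, show g * r * g⁻¹ * (g * x * g⁻¹) = g * (r * x) * g⁻¹ by group,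
        mem_centralizer_singleton_iff.1 (hQx hr)]
      group
    have hcardQ : Nat.card Q = q ^ (Nat.card ↥(centralizer ({y} : Set G))).factorization q := by
      have h0 : Nat.card Q = q ^ (Nat.card G).factorization q := by
        rw [hQ, card_map_of_injective H.subtype_injective, R.card_eq_multiplicity, hsyl q hqd]
      rw [h0]
      congr 1
      refine le_antisymm ((hq.pow_dvd_iff_le_factorization Nat.card_pos.ne').1
        (h0 ▸ card_dvd_of_le hQy)) ?_
      exact (Nat.factorization_le_iff_dvd Nat.card_pos.ne' Nat.card_pos.ne').2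
        (card_subgroup_dvd_card _) q
    have s1 : CfsgLib.Coprime.IsSylowIn q Q (centralizer ({y} : Set G)) := ⟨hQy, hcardQ⟩
    have s2 : CfsgLib.Coprime.IsSylowIn q (CfsgLib.Coprime.conjBy g Q) (centralizer ({y} : Set G)) :=
      ⟨hgQ, by rw [CfsgLib.Coprime.card_conjBy]; exact hcardQ⟩
    obtain ⟨c, hc, hcQ⟩ := s2.exists_conj s1
    rw [CfsgLib.Coprime.conjBy_conjBy] at hcQ
    refine ⟨c * g, ?_, ?_⟩
    · rw [← hTn q R hqd]
      exact CfsgLib.Coprime.conjBy_eq_self_iff.1 hcQ
    · rw [mul_inv_rev, show c * g * x * (g⁻¹ * c⁻¹) = c * (g * x * g⁻¹) * c⁻¹ by group, hg,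
        mem_centralizer_singleton_iff.1 hc]
      group
  have hno : CfsgLib.Fusion.NoExtraFusion H := by
    suffices h : ∀ n, ∀ x ∈ H, orderOf x = n → ∀ y ∈ H, ∀ g : G, g * x * g⁻¹ = y →
        ∃ u ∈ H, u * x * u⁻¹ = y from fun x hx y hy ⟨g, hg⟩ => h _ x hx rfl y hy g hg
    intro n
    induction n using Nat.strongRecOn with
    | ind n ih =>
      intro x hx hn y hy g hg
      subst hn
      by_cases hx1 : x = 1
      · exact ⟨1, one_mem _, by rw [← hg, hx1]; group⟩
      obtain ⟨p, hp, hpd⟩ := Nat.exists_prime_and_dvd (mt orderOf_eq_one_iff.1 hx1)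
      haveI := Fact.mk hp
      obtain ⟨e, m, hm, he⟩ := Nat.exists_eq_pow_mul_and_not_dvd (orderOf_pos x).ne' p hp.ne_one
      have he0 : e ≠ 0 := by
        rintro rfl
        rw [pow_zero, one_mul] at he
        exact hm (he ▸ hpd)
      have hcop : Nat.Coprime (p ^ e) m := Nat.Coprime.pow_left _ (hp.coprime_iff_not_dvd.2 hm)
      obtain ⟨s, t, hst⟩ : ∃ s t : ℤ, (p ^ e : ℕ) * s + (m : ℤ) * t = 1 :=
        ⟨Nat.gcdA (p ^ e) m, Nat.gcdB (p ^ e) m, by
          rw [← Nat.gcd_eq_gcd_ab, show Nat.gcd (p ^ e) m = 1 from hcop]; rfl⟩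
      set a := x ^ ((m : ℤ) * t) with ha
      set b := x ^ (((p ^ e : ℕ) : ℤ) * s) with hb
      have hab : x = a * b := by
        rw [ha, hb, ← zpow_add, add_comm, hst, zpow_one]
      have hae : a ^ p ^ e = 1 := by
        rw [ha, ← zpow_natCast, ← _root_.zpow_mul]
        refine orderOf_dvd_iff_zpow_eq_one.1 ?_
        rw [he]; push_cast; exact ⟨t, by ring⟩
      have hbm : b ^ m = 1 := by
        rw [hb, ← zpow_natCast, ← _root_.zpow_mul]
        refine orderOf_dvd_iff_zpow_eq_one.1 ?_
        rw [he]; push_cast; exact ⟨s, by ring⟩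
      have hblt : orderOf b < orderOf x := by
        refine lt_of_le_of_lt (Nat.le_of_dvd (Nat.pos_of_ne_zero fun h => hm (by simp [h]))
          (orderOf_dvd_of_pow_eq_one hbm)) ?_
        rw [he]
        exact lt_mul_of_one_lt_left (Nat.pos_of_ne_zero fun h => hm (by simp [h]))
          (Nat.one_lt_pow he0 hp.one_lt)
      have haH : a ∈ H := zpow_mem hx _
      have hbH : b ∈ H := zpow_mem hx _
      set c := g * a * g⁻¹ with hc
      set d := g * b * g⁻¹ with hd'
      have hcd : y = c * d := by rw [← hg, hab, hc, hd']; group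
      have hcH : c ∈ H := by
        rw [hc, ha, ← conj_zpow, hg]; exact zpow_mem hy _
      have hdH : d ∈ H := by
        rw [hd', hb, ← conj_zpow, hg]; exact zpow_mem hy _
      obtain ⟨u, hu, hud⟩ := ih _ hblt b hbH rfl d hdH g rfl
      obtain ⟨v, hv, hvc⟩ : ∃ v ∈ H, v * a * v⁻¹ = c := by
        by_cases ha1 : a = 1
        · exact ⟨1, one_mem _, by rw [hc, ha1]; group⟩
        exact hfus p a c g haH hcH rfl ha1 ⟨e, hae⟩
      -- split the conjugators into their `p`- and `p'`-parts
      obtain ⟨P⟩ : Nonempty (Sylow p H) := inferInstance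
      haveI hPn : (P : Subgroup H).Normal :=
        ((Group.isNilpotent_of_finite_tfae (G := H)).out 0 3 rfl rfl).1 hnil p inferInstance P
      have hsplit : ∀ w : H, ∃ w1 ∈ (P : Subgroup H), ∃ w2 : H, (orderOf w2).Coprime p ∧ w = w1 * w2 := by
        intro w
        obtain ⟨i, j, hj, hij⟩ := Nat.exists_eq_pow_mul_and_not_dvd (orderOf_pos w).ne' p hp.ne_one
        have hcop' : Nat.Coprime (p ^ i) j := Nat.Coprime.pow_left _ (hp.coprime_iff_not_dvd.2 hj)
        obtain ⟨s', t', hst'⟩ : ∃ s t : ℤ, (p ^ i : ℕ) * s + (j : ℤ) * t = 1 :=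
          ⟨Nat.gcdA (p ^ i) j, Nat.gcdB (p ^ i) j, by
            rw [← Nat.gcd_eq_gcd_ab, show Nat.gcd (p ^ i) j = 1 from hcop']; rfl⟩
        refine ⟨w ^ ((j : ℤ) * t'), ?_, w ^ (((p ^ i : ℕ) : ℤ) * s'), ?_, by
          rw [← zpow_add, add_comm, hst', zpow_one]⟩
        · have hp' : IsPGroup p (zpowers (w ^ ((j : ℤ) * t'))) := by
            obtain ⟨l, -, hl⟩ := (Nat.dvd_prime_pow hp).1 (orderOf_dvd_of_pow_eq_one
              (show (w ^ ((j : ℤ) * t')) ^ p ^ i = 1 by
                rw [← zpow_natCast, ← _root_.zpow_mul]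
                refine orderOf_dvd_iff_zpow_eq_one.1 ?_
                rw [hij]; push_cast; exact ⟨t', by ring⟩))
            exact IsPGroup.of_card (n := l) (by rw [Nat.card_zpowers, hl])
          obtain ⟨P', hP'⟩ := hp'.exists_le_sylow
          haveI := P.unique_of_normal hPn
          rw [Subsingleton.elim P P']
          exact hP' (mem_zpowers _)
        · refine Nat.Coprime.coprime_dvd_left (orderOf_dvd_of_pow_eq_one
            (show (w ^ (((p ^ i : ℕ) : ℤ) * s')) ^ j = 1 by
              rw [← zpow_natCast, ← _root_.zpow_mul]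
              refine orderOf_dvd_iff_zpow_eq_one.1 ?_
              rw [hij]; push_cast; exact ⟨s', by ring⟩)) ?_
          exact ((hp.coprime_iff_not_dvd.2 hj)).symm
      obtain ⟨u1, hu1, u2, hu2, hue⟩ := hsplit ⟨u, hu⟩
      obtain ⟨v1, hv1, v2, hv2, hve⟩ := hsplit ⟨v, hv⟩
      have haP : (⟨a, haH⟩ : H) ∈ (P : Subgroup H) := by
        obtain ⟨l, -, hl⟩ := (Nat.dvd_prime_pow hp).1 (orderOf_dvd_of_pow_eq_one hae)
        have hp' : IsPGroup p (zpowers (⟨a, haH⟩ : H)) :=
          IsPGroup.of_card (n := l) (by rw [Nat.card_zpowers, orderOf_mk, hl])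
        obtain ⟨P', hP'⟩ := hp'.exists_le_sylow
        haveI := P.unique_of_normal hPn
        rw [Subsingleton.elim P P']
        exact hP' (mem_zpowers _)
      have hb' : (orderOf (⟨b, hbH⟩ : H)).Coprime p := by
        rw [orderOf_mk]
        exact Nat.Coprime.coprime_dvd_left (orderOf_dvd_of_pow_eq_one hbm)
          (hp.coprime_iff_not_dvd.2 hm).symm
      have c1 : Commute (⟨b, hbH⟩ : H) u1 := CfsgLib.Coprime.commute_of_coprime_pow hb' P.isPGroup' hu1
      have c2 : Commute (⟨b, hbH⟩ : H) v1 := CfsgLib.Coprime.commute_of_coprime_pow hb' P.isPGroup' hv1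
      have c3 : Commute v2 (⟨a, haH⟩ : H) := CfsgLib.Coprime.commute_of_coprime_pow hv2 P.isPGroup' haP
      have c4 : Commute u2 (⟨a, haH⟩ : H) := CfsgLib.Coprime.commute_of_coprime_pow hu2 P.isPGroup' haP
      have c5 : Commute u2 u1 := CfsgLib.Coprime.commute_of_coprime_pow hu2 P.isPGroup' hu1
      have c6 : Commute u2 v1 := CfsgLib.Coprime.commute_of_coprime_pow hu2 P.isPGroup' hv1
      set A : H := ⟨a, haH⟩
      set B : H := ⟨b, hbH⟩
      have e1 : (⟨d, hdH⟩ : H) = u2 * B * u2⁻¹ := by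
        have : (⟨d, hdH⟩ : H) = (u1 * u2) * B * (u1 * u2)⁻¹ := by
          rw [← hue]; exact Subtype.ext hud.symm
        rw [this, c5.symm.eq, mul_inv_rev, show u2 * u1 * B * (u1⁻¹ * u2⁻¹) = u2 * (u1 * B) * u1⁻¹ * u2⁻¹ by group,
          ← c1.eq]
        group
      have e2 : (⟨c, hcH⟩ : H) = v1 * A * v1⁻¹ := by
        have : (⟨c, hcH⟩ : H) = (v1 * v2) * A * (v1 * v2)⁻¹ := by
          rw [← hve]; exact Subtype.ext hvc.symm
        rw [this, mul_inv_rev, show v1 * v2 * A * (v2⁻¹ * v1⁻¹) = v1 * (v2 * A) * v2⁻¹ * v1⁻¹ by group, c3.eq]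
        group
      refine ⟨((v1 * u2 : H) : G), SetLike.coe_mem _, ?_⟩
      have : (v1 * u2) * (A * B) * (v1 * u2)⁻¹ = (⟨c, hcH⟩ : H) * ⟨d, hdH⟩ := by
        rw [e1, e2, mul_inv_rev, show v1 * u2 * (A * B) * (u2⁻¹ * v1⁻¹) = v1 * (u2 * A) * B * u2⁻¹ * v1⁻¹ by group,
          c4.eq]
        have c7 : Commute (u2 * B * u2⁻¹) v1 := (c6.mul_left c2).mul_left c6.inv_left
        calc v1 * (A * u2) * B * u2⁻¹ * v1⁻¹ = v1 * A * ((u2 * B * u2⁻¹) * v1⁻¹) := by group
          _ = v1 * A * (v1⁻¹ * (u2 * B * u2⁻¹)) := by rw [c7.inv_right.eq]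
          _ = _ := by group
      rw [hcd, hab]
      exact congrArg Subtype.val this
  exact CfsgLib.Fusion.exists_normal_complement_of_nilpotent_hall H hnil hHall hno

end Cfsg.Agent.S0558
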