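import Cfsg.Statements.S0559
import Cfsg.Agent.Lib.Coprime.Factorization

set_option autoImplicit false
open Pointwise
open Cfsg

namespace Cfsg.Agent.S0559

/-- Let G = HK be a finite group (every element a product of an element of H and an element of K), and let A and B be conjugates of H and K. Then every element is a product of an element of A and one of B, and there is g with A = gHg⁻¹ and B = gKg⁻¹ simultaneously. -/
theorem result {G : Type*} [Group G] [Finite G] (H K A B : Subgroup G) (hHK : ∀ g : G, ∃ h ∈ H, ∃ k ∈ K, g = h * k) (hA : ∃ x : G, A = MulAut.conj x • H) (hB : ∃ y : G, B = MulAut.conj y • K) : (∀ g : G, ∃ a ∈ A, ∃ b ∈ B, g = a * b) ∧ ∃ g : G, A = MulAut.conj g • H ∧ B = MulAut.conj g • K := by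
  obtain ⟨x, rfl⟩ := hA
  obtain ⟨y, rfl⟩ := hB
  obtain ⟨h, hh, k, hk, rfl⟩ := CfsgLib.Coprime.exists_common_conj hHK x y
  have eH : MulAut.conj (x * h) • H = MulAut.conj x • H := by
    simp only [← CfsgLib.Coprime.conjBy_eq_smul, ← CfsgLib.Coprime.conjBy_conjBy]
    rw [CfsgLib.Coprime.conjBy_eq_self_of_mem hh]
  have eK : MulAut.conj (x * h) • K = MulAut.conj (x * h * k) • K := by
    simp only [← CfsgLib.Coprime.conjBy_eq_smul]
    rw [← CfsgLib.Coprime.conjBy_conjBy (x * h) k, CfsgLib.Coprime.conjBy_eq_self_of_mem hk]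
  refine ⟨fun g => ?_, x * h, eH.symm, eK.symm⟩
  rw [← eH, ← eK]
  obtain ⟨a, ha, b, hb, e⟩ := hHK ((x * h)⁻¹ * g * (x * h))
  refine ⟨x * h * a * (x * h)⁻¹, CfsgLib.Coprime.conj_mem_conjBy ha,
    x * h * b * (x * h)⁻¹, CfsgLib.Coprime.conj_mem_conjBy hb, ?_⟩
  calc g = x * h * ((x * h)⁻¹ * g * (x * h)) * (x * h)⁻¹ := by group
    _ = _ := by rw [e]; group

end Cfsg.Agent.S0559
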