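import Cfsg.Statements.S0561
import Cfsg.Agent.Lib.Coprime.Factorization

set_option autoImplicit false
open Pointwise
open Cfsg

namespace Cfsg.Agent.S0561

/-- Let the finite solvable group G be the product HK of subgroups, and let A be normal in H and B normal in K, where A and B are Hall subgroups of G (order coprime to index). Then for all x, y the product set of xAx⁻¹ and yBy⁻¹ is a subgroup of G. -/
theorem result {G : Type*} [Group G] [Finite G] [Group.IsSolvable G] (H K A B : Subgroup G) (hHK : ∀ g : G, ∃ h ∈ H, ∃ k ∈ K, g = h * k) (hA : A ≤ H) (hAn : (A.subgroupOf H).Normal) (hB : B ≤ K) (hBn : (B.subgroupOf K).Normal) (hAh : (Nat.card A).Coprime A.index) (hBh : (Nat.card B).Coprime B.index) (x y : G) : ∃ S : Subgroup G, (S : Set G) = ((MulAut.conj x • A : Subgroup G) : Set G) * ((MulAut.conj y • B : Subgroup G) : Set G) := by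
  classical
  obtain ⟨h, hh, k, hk, rfl⟩ := CfsgLib.Coprime.exists_common_conj hHK x y
  obtain ⟨S, hS⟩ := CfsgLib.Coprime.hall_factors_permute hHK hA hAn hAh hBh hB hBn
  refine ⟨CfsgLib.Coprime.conjBy (x * h) S, ?_⟩
  have e1 : MulAut.conj x • A = CfsgLib.Coprime.conjBy (x * h) A := by
    rw [← CfsgLib.Coprime.conjBy_conjBy, CfsgLib.Coprime.conjBy_of_normal_subgroupOf hA hAn hh]
    rfl
  have e2 : MulAut.conj (x * h * k) • B = CfsgLib.Coprime.conjBy (x * h) B := by
    show CfsgLib.Coprime.conjBy (x * h * k) B = _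
    rw [← CfsgLib.Coprime.conjBy_conjBy (x * h) k, CfsgLib.Coprime.conjBy_of_normal_subgroupOf hB hBn hk]
  rw [e1, e2]
  show (MulAut.conj (x * h)).toMonoidHom '' (S : Set G) =
    ((MulAut.conj (x * h)).toMonoidHom '' (A : Set G)) * ((MulAut.conj (x * h)).toMonoidHom '' (B : Set G))
  rw [hS, Set.image_mul]

end Cfsg.Agent.S0561
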