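import Cfsg.Statements.S0563
import Cfsg.Agent.Lib.CFun.NilpotentProduct

set_option autoImplicit false
open Pointwise
open Cfsg

namespace Cfsg.Agent.S0563

/-- If a finite group G is the product AB of two nilpotent subgroups of coprime orders, then G is solvable, and for every Sylow p-subgroup P of A and Sylow q-subgroup Q of B the product set PQ is a subgroup. -/
theorem result {G : Type*} [Group G] [Finite G] (A B : Subgroup G) (hA : Group.IsNilpotent A) (hB : Group.IsNilpotent B) (hcop : (Nat.card A).Coprime (Nat.card B)) (hAB : ∀ g : G, ∃ a ∈ A, ∃ b ∈ B, g = a * b) : Group.IsSolvable G ∧ ∀ (p q : ℕ) [Fact p.Prime] [Fact q.Prime] (P : Sylow p A) (Q : Sylow q B), ∃ S : Subgroup G, (S : Set G) = (((P : Subgroup A).map A.subtype : Subgroup G) : Set G) * (((Q : Subgroup B).map B.subtype : Subgroup G) : Set G) := by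
  have hsol := CfsgLib.NilpotentProduct.isSolvable_of_product hA hB hAB
  refine ⟨hsol, fun p q _ _ P Q => ?_⟩
  haveI := hsol
  have hd : A ⊓ B = ⊥ := CfsgLib.Coprime.disjoint_of_coprime_card hcop
  have hcard := CfsgLib.NilpotentProduct.card_mul_of_product hd hAB
  have hall : ∀ (X Y : Subgroup G), Group.IsNilpotent X → (Nat.card X).Coprime (Nat.card Y) →
      Nat.card G = Nat.card X * Nat.card Y → ∀ (t : ℕ) [Fact t.Prime] (S : Sylow t X),
      (Nat.card ((S : Subgroup X).map X.subtype)).Coprime
        ((S : Subgroup X).map X.subtype).index := by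
    intro X Y hX hXY hc t ht S
    rw [Subgroup.index_map_subtype, Subgroup.card_map_of_injective X.subtype_injective]
    refine Nat.Coprime.mul_right ?_ ?_
    · rw [S.card_eq_multiplicity]
      rcases Nat.eq_zero_or_pos ((Nat.card X).factorization t) with h | h
      · rw [h, pow_zero]; exact Nat.coprime_one_left _
      · exact Nat.Coprime.pow_left _ ((ht.out.coprime_iff_not_dvd).2 S.not_dvd_index)
    · refine Nat.Coprime.coprime_dvd_left (S : Subgroup X).card_subgroup_dvd_card ?_
      have hidx : X.index = Nat.card Y := by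
        refine Nat.eq_of_mul_eq_mul_left (Nat.card_pos (α := X)) ?_
        rw [Subgroup.card_mul_index, hc]
      rwa [hidx]
  have hnorm : ∀ (X : Subgroup G), Group.IsNilpotent X → ∀ (t : ℕ) [Fact t.Prime] (S : Sylow t X),
      (((S : Subgroup X).map X.subtype).subgroupOf X).Normal := by
    intro X hX t _ S
    rw [CfsgLib.NilpotentProduct.sylow_map_eq hX]
    exact Subgroup.normal_subgroupOf_of_le_normalizer CfsgLib.CFun.le_normalizer_core
  exact CfsgLib.Coprime.hall_factors_permute hAB (Subgroup.map_subtype_le _) (hnorm A hA p P)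
    (hall A B hA hcop hcard p P) (hall B A hB hcop.symm (hcard.trans (mul_comm _ _)) q Q)
    (Subgroup.map_subtype_le _) (hnorm B hB q Q)

end Cfsg.Agent.S0563
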