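import Mathlib.Tactic.Group
-- Template for statement S0567 (row 567; see /opt/grader/pristine/manifest.json for weights).
-- Copy to Cfsg/Agent/S0567.lean and replace the sorry. The statement below is byte-identical to the frozen
-- statement Cfsg.CfsgFrozen.S0567 (Cfsg/Statements/S0567.lean; the theorem Cfsg.subnormal_iff_iterated_commutator_le);
-- the grader kernel-checks Cfsg.Agent.S0567.result against that frozen type. Keep the theorem IN THIS FILE
-- (a `result` declared elsewhere and merely imported here is not credited); helpers may live anywhere
-- under Cfsg/Agent/.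
import Cfsg.Statements.S0567
import Mathlib.GroupTheory.Commutator.Basic
import Mathlib.GroupTheory.IsSubnormal

set_option autoImplicit false
open Cfsg

open scoped commutatorElement

namespace Cfsg.Agent.S0567

/-- A subgroup H of a group G is subnormal exactly when, for some m, the subgroup obtained from G by taking the commutator with H m times in succession is contained in H. -/
theorem result {G : Type*} [Group G] (H : Subgroup G) : H.IsSubnormal ↔ ∃ m : ℕ, (fun K : Subgroup G => ⁅K, H⁆)^[m] ⊤ ≤ H := by
  classical
  constructor
  · intro hH
    induction hH with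
    | top => exact ⟨0, le_rfl⟩
    | step H K hle hK hN ih =>
      obtain ⟨m, hm⟩ := ih
      have mono : ∀ i, (fun L : Subgroup G => ⁅L, H⁆)^[i] ⊤ ≤ (fun L : Subgroup G => ⁅L, K⁆)^[i] ⊤ := by
        intro i
        induction i with
        | zero => exact le_rfl
        | succ i ih2 =>
          rw [Function.iterate_succ_apply', Function.iterate_succ_apply']
          exact Subgroup.commutator_mono ih2 hle
      refine ⟨m + 1, ?_⟩
      rw [Function.iterate_succ_apply']
      refine (Subgroup.commutator_mono ((mono m).trans hm) le_rfl).trans ?_
      rw [Subgroup.commutator_le]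
      intro k hk h hh
      rw [commutatorElement_def]
      refine H.mul_mem ?_ (H.inv_mem hh)
      exact hN.conj_mem ⟨h, hle hh⟩ hh ⟨k, hk⟩
  · rintro ⟨m, hm⟩
    set K : ℕ → Subgroup G := fun i => (fun L : Subgroup G => ⁅L, H⁆)^[i] ⊤ with hK
    have hKs : ∀ i, K (i + 1) = ⁅K i, H⁆ := fun i => Function.iterate_succ_apply' _ i ⊤
    have hdec : ∀ i, K (i + 1) ≤ K i := by
      intro i
      induction i with
      | zero => exact le_top
      | succ i ih =>
        exact (hKs (i + 1)).le.trans ((Subgroup.commutator_mono ih le_rfl).trans (hKs i).ge)
    have hsub : ∀ i, (H ⊔ K i).IsSubnormal := by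
      intro i
      induction i with
      | zero =>
        rw [show K 0 = ⊤ from rfl, sup_top_eq]
        exact Subgroup.IsSubnormal.top
      | succ i ih =>
        refine Subgroup.IsSubnormal.step _ _ (sup_le_sup_left (hdec i) H) ih ?_
        refine (Subgroup.normal_subgroupOf_iff_le_normalizer (sup_le_sup_left (hdec i) H)).2 ?_
        refine sup_le (le_sup_left.trans Subgroup.le_normalizer) ?_
        intro k hk
        have hnorm : K i ≤ Subgroup.normalizer (K (i + 1) : Set G) := by
          rw [hKs]; exact Subgroup.normalizer_commutator_ge_left _ _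
        have key : ∀ g ∈ K i, ∀ x ∈ H ⊔ K (i + 1), g * x * g⁻¹ ∈ H ⊔ K (i + 1) := by
          intro g hg x hx
          have : H ⊔ K (i + 1) ≤ (H ⊔ K (i + 1)).comap (MulAut.conj g).toMonoidHom := by
            refine sup_le (fun y hy => ?_) (fun y hy => ?_)
            · show g * y * g⁻¹ ∈ H ⊔ K (i + 1)
              rw [show g * y * g⁻¹ = ⁅g, y⁆ * y by rw [commutatorElement_def]; group]
              refine Subgroup.mul_mem _ (Subgroup.mem_sup_right ?_) (Subgroup.mem_sup_left hy)
              rw [hKs]
              exact Subgroup.commutator_mem_commutator hg hy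
            · exact Subgroup.mem_sup_right ((Subgroup.mem_normalizer_iff.1 (hnorm hg) y).1 hy)
          exact this hx
        rw [Subgroup.mem_normalizer_iff]
        refine fun x => ⟨key k hk x, fun hx => ?_⟩
        have := key k⁻¹ ((K i).inv_mem hk) _ hx
        simpa [mul_assoc] using this
    have := hsub m
    rwa [sup_eq_left.2 hm] at this

end Cfsg.Agent.S0567
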