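import Cfsg.Statements.S0571
import Cfsg.Agent.Lib.Coprime.SupersolvableCriteria
import Cfsg.Agent.Lib.Coprime.Action

set_option autoImplicit false
open Cfsg

namespace Cfsg.Agent.S0571

open Subgroup CfsgLib.Coprime

universe v

theorem aux : ∀ (n : ℕ) (G : Type v) [Group G] [Finite G], Nat.card G = n →
    ∀ A B : Subgroup G, IsCyclic A → IsCyclic B → (∀ g : G, ∃ a ∈ A, ∃ b ∈ B, g = a * b) →
    Cfsg.IsSupersolvable G := by
  intro n
  induction n using Nat.strong_induction_on with
  | _ n ih =>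
  intro G _ _ hn A B hA hB hAB
  wlog hle : Nat.card B ≤ Nat.card A generalizing A B with H
  · refine H B A hB hA (fun g => ?_) (le_of_not_ge hle)
    obtain ⟨a, ha, b, hb, e⟩ := hAB g⁻¹
    exact ⟨b⁻¹, B.inv_mem hb, a⁻¹, A.inv_mem ha, by rw [← mul_inv_rev, ← e, inv_inv]⟩
  obtain ⟨b, hb⟩ := (Subgroup.isCyclic_iff_exists_zpowers_eq_top B).1 hB
  by_cases hbA : b ∈ A
  · have hBA : B ≤ A := hb ▸ zpowers_le.2 hbA
    have htop : (⊤ : Subgroup G) = A := (eq_top_iff.2 fun g _ => by
      obtain ⟨a, ha, c, hc, rfl⟩ := hAB g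
      exact A.mul_mem ha (hBA hc)).symm
    haveI : IsCyclic ↥(⊤ : Subgroup G) := htop ▸ hA
    haveI : IsCyclic G := isCyclic_of_surjective _ (Subgroup.topEquiv (G := G)).surjective
    letI : CommGroup G := IsCyclic.commGroup
    exact isSupersolvable_of_isNilpotent
  set A' := A.map (MulAut.conj b).toMonoidHom with hA'
  have hne : A ⊓ A' ≠ ⊥ := by
    intro h0
    let φ : A' × A → G := fun x => (x.1 : G) * (x.2 : G)
    have hinj : Function.Injective φ := by
      rintro ⟨c, a⟩ ⟨c', a'⟩ e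
      have h1 : ((c' : G))⁻¹ * c ∈ A ⊓ A' := by
        refine ⟨?_, A'.mul_mem (A'.inv_mem c'.2) c.2⟩
        have : ((c' : G))⁻¹ * c = (a' : G) * (a : G)⁻¹ := by
          rw [eq_mul_inv_iff_mul_eq, mul_assoc, inv_mul_eq_iff_eq_mul]; exact e
        rw [this]; exact A.mul_mem a'.2 (A.inv_mem a.2)
      rw [h0, mem_bot, inv_mul_eq_one] at h1
      refine Prod.ext (Subtype.ext h1.symm) (Subtype.ext ?_)
      simp only [φ, h1] at e
      exact mul_left_cancel e
    have hcA : Nat.card A' = Nat.card A := card_map_of_injective (MulEquiv.injective _)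
    have hGle : Nat.card G ≤ Nat.card (A' × A) := by
      rw [Nat.card_prod, hcA]
      refine le_trans ?_ (Nat.mul_le_mul le_rfl hle)
      rw [← Nat.card_prod]
      refine Nat.card_le_card_of_surjective (fun x : A × B => (x.1 : G) * (x.2 : G)) fun g => ?_
      obtain ⟨a, ha, c, hc, rfl⟩ := hAB g
      exact ⟨(⟨a, ha⟩, ⟨c, hc⟩), rfl⟩
    have hbij : Function.Bijective φ := (Nat.bijective_iff_injective_and_card φ).2
      ⟨hinj, le_antisymm (Nat.card_le_card_of_injective φ hinj) hGle⟩
    obtain ⟨⟨⟨c, hc⟩, a⟩, e⟩ := hbij.2 b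
    obtain ⟨a', ha', rfl⟩ := hc
    simp only [φ, MulEquiv.coe_toMonoidHom, MulAut.conj_apply] at e
    refine hbA ?_
    have h2 : b = (a : G) * a' := by
      have := congrArg (fun t => b⁻¹ * t) e
      simp only [inv_mul_cancel] at this
      rw [show b⁻¹ * (b * a' * b⁻¹ * (a : G)) = a' * b⁻¹ * a by group] at this
      calc b = (a : G) * (a' * b⁻¹ * a)⁻¹⁻¹ * (a : G)⁻¹ * b := by rw [this]; group
        _ = (a : G) * a' := by group
    rw [h2]; exact A.mul_mem a.2 ha'
  obtain ⟨r, hr, hrd⟩ := Nat.exists_prime_and_dvd (fun e => hne (card_eq_one.1 e) : Nat.card ↥(A ⊓ A') ≠ 1)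
  haveI := Fact.mk hr
  obtain ⟨⟨x, hxA, hxA'⟩, hx⟩ := exists_prime_orderOf_dvd_card' r hrd
  rw [← Subgroup.orderOf_coe] at hx
  simp only at hx
  set R := zpowers x with hR
  have huniq : ∀ y ∈ A, orderOf y = r → zpowers y = R := by
    intro y hy hyr
    haveI := hA
    letI : CommGroup A := IsCyclic.commGroup
    have key : ∀ (w : G) (hw : w ∈ A), orderOf w = r →
        (zpowers w).subgroupOf A = (powMonoidHom r : A →* A).ker := by
      intro w hw hwr
      refine eq_of_le_of_card_ge (fun z hz => ?_) ?_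
      · obtain ⟨i, hi⟩ := mem_zpowers_iff.1 (mem_subgroupOf.1 hz)
        refine MonoidHom.mem_ker.2 (Subtype.ext ?_)
        simp only [powMonoidHom_apply, SubmonoidClass.coe_pow, OneMemClass.coe_one, ← hi]
        rw [← zpow_natCast, ← zpow_mul, mul_comm, zpow_mul, zpow_natCast, ← hwr, pow_orderOf_eq_one,
          one_zpow]
      · rw [IsCyclic.card_powMonoidHom_ker, Nat.card_congr (subgroupOfEquivOfLe (zpowers_le.2 hw)).toEquiv,
          Nat.card_zpowers, hwr]
        exact Nat.gcd_le_right _ hr.pos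
    have h1 : (zpowers y).subgroupOf A = R.subgroupOf A := (key y hy hyr).trans (key x hxA hx).symm
    have h2 := congrArg (Subgroup.map A.subtype) h1
    rwa [map_subgroupOf_eq_of_le (zpowers_le.2 hy), map_subgroupOf_eq_of_le (zpowers_le.2 hxA)] at h2
  have hbR : b ∈ normalizer (R : Set G) := by
    obtain ⟨y, hy, hyx⟩ := hxA'
    simp only [MulEquiv.coe_toMonoidHom, MulAut.conj_apply] at hyx
    have hyr : orderOf y = r := by
      rw [← hx, ← hyx]
      exact ((MulAut.conj b).orderOf_eq y).symm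
    rw [← conjBy_eq_self_iff, conjBy]
    conv_lhs => rw [← huniq y hy hyr, MonoidHom.map_zpowers]
    simp only [MulEquiv.coe_toMonoidHom, MulAut.conj_apply, hyx]
    rfl
  haveI hRn : R.Normal := by
    refine normalizer_eq_top_iff.1 (eq_top_iff.2 fun g _ => ?_)
    obtain ⟨a, ha, c, hc, rfl⟩ := hAB g
    refine mul_mem (centralizer_le_normalizer _ (mem_centralizer_iff.2 fun w hw => ?_))
      (zpowers_le.2 hbR (hb.symm ▸ hc))
    haveI := hA
    letI : CommGroup A := IsCyclic.commGroup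
    exact congrArg Subtype.val (mul_comm (⟨w, zpowers_le.2 hxA hw⟩ : A) ⟨a, ha⟩)
  have hR0 : R ≠ ⊥ := fun e => hr.ne_one (by rw [← hx, ← Nat.card_zpowers, ← hR, e, card_bot])
  haveI : IsCyclic R := inferInstance
  refine isSupersolvable_of_cyclic_normal R ?_
  set f := QuotientGroup.mk' R
  haveI := hA
  haveI := hB
  refine ih _ (hn ▸ card_quotient_lt_of_ne_bot hR0) (G ⧸ R) rfl (A.map f) (B.map f)
    (isCyclic_of_surjective (f.subgroupMap A) (f.subgroupMap_surjective A))
    (isCyclic_of_surjective (f.subgroupMap B) (f.subgroupMap_surjective B)) fun g => ?_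
  obtain ⟨g, rfl⟩ := QuotientGroup.mk'_surjective R g
  obtain ⟨a, ha, c, hc, rfl⟩ := hAB g
  exact ⟨f a, mem_map_of_mem f ha, f c, mem_map_of_mem f hc, map_mul f a c⟩


/-- If a finite group G is the product AB of two cyclic subgroups (every element is a product ab), then G is supersolvable. -/
theorem result {G : Type*} [Group G] [Finite G] (A B : Subgroup G) [IsCyclic A] [IsCyclic B] (hAB : ∀ g : G, ∃ a ∈ A, ∃ b ∈ B, g = a * b) : Cfsg.IsSupersolvable G := by
  exact aux _ G rfl A B inferInstance inferInstance hAB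

end Cfsg.Agent.S0571
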