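import Cfsg.Statements.S0576
import Cfsg.Agent.Lib.Coprime.FrattiniExtra
import Mathlib.Algebra.Group.Subgroup.Pointwise

set_option autoImplicit false
open Cfsg

namespace Cfsg.Agent.S0576

/-- Let H be a normal subgroup of a finite group G with H contained in the Frattini subgroup of G. Then the group of inner automorphisms of H is contained in the Frattini subgroup of the automorphism group of H. -/
theorem result {G : Type*} [Group G] [Finite G] (H : Subgroup G) [H.Normal] (hH : H ≤ frattini G) : (MulAut.conj : ↥H →* MulAut ↥H).range ≤ frattini (MulAut ↥H) := by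
  classical
  set c : G →* MulAut H := MulAut.conjNormal
  have hrange : (MulAut.conj : ↥H →* MulAut ↥H).range = H.map c := by
    ext φ
    constructor
    · rintro ⟨h, rfl⟩
      exact ⟨h, h.2, MulEquiv.ext fun x => Subtype.ext (by simp [c, MulAut.conjNormal_apply, MulAut.conj_apply])⟩
    · rintro ⟨g, hg, rfl⟩
      exact ⟨⟨g, hg⟩, MulEquiv.ext fun x => Subtype.ext (by simp [c, MulAut.conjNormal_apply, MulAut.conj_apply])⟩
  rw [hrange]
  haveI hn : (H.map c).Normal := by
    rw [← hrange]
    refine ⟨?_⟩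
    rintro _ ⟨h, rfl⟩ φ
    exact ⟨φ h, MulEquiv.ext fun x => by simp [MulAut.conj_apply, MulAut.mul_apply, map_mul, map_inv]⟩
  refine CfsgLib.Coprime.le_frattini_of_forall_coatom fun M hM => ?_
  by_contra hle
  have hsup : H.map c ⊔ M = ⊤ := hM.2 _ (lt_of_le_of_ne le_sup_right fun e => hle (le_sup_left.trans e.ge))
  have h1 : M.comap c = ⊤ := by
    refine frattini_nongenerating (eq_top_iff.2 fun g _ => ?_)
    obtain ⟨_, ⟨h, hh, rfl⟩, m, hm, e⟩ := Subgroup.mem_sup_of_normal_left.1
      (hsup ▸ Subgroup.mem_top (c g) : c g ∈ H.map c ⊔ M)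
    have hm' : h⁻¹ * g ∈ M.comap c := by
      rw [Subgroup.mem_comap, map_mul, map_inv, ← e, inv_mul_cancel_left]
      exact hm
    rw [show g = h * (h⁻¹ * g) by simp]
    exact Subgroup.mul_mem _ (Subgroup.mem_sup_right (hH hh)) (Subgroup.mem_sup_left hm')
  exact hle (Subgroup.map_le_iff_le_comap.2 (h1 ▸ le_top))

end Cfsg.Agent.S0576
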