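import Cfsg.Statements.S0577
import Cfsg.Agent.Lib.Coprime.MinimalNonNilpotent
import Cfsg.Agent.Lib.Coprime.FrattiniExtra

set_option autoImplicit false
open Cfsg

open scoped commutatorElement

namespace Cfsg.Agent.S0577

/-- Let G be a finite minimal non-nilpotent group and Q a normal Sylow q-subgroup of G, and let D be the commutator subgroup of Q regarded in G (a normal subgroup). Then G modulo D is non-abelian and all its proper subgroups are abelian. -/
theorem result {G : Type*} [Group G] [Finite G] (hG : Cfsg.IsMinimalNonNilpotent G) (q : ℕ) [Fact q.Prime] (hq : q ∣ Nat.card G) (Q : Sylow q G) (hQ : (Q : Subgroup G).Normal) (D : Subgroup G) [D.Normal] (hD : D = (commutator ↥(Q : Subgroup G)).map (Q : Subgroup G).subtype) : ¬ IsMulCommutative (G ⧸ D) ∧ ∀ K : Subgroup (G ⧸ D), K ≠ ⊤ → IsMulCommutative K := by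
  classical
  obtain ⟨p, r, hp, hr, hpr, P, R, hP, hR, htop, hPR⟩ := CfsgLib.Coprime.schmidt_structure hG.1 hG.2
  haveI := Fact.mk hp
  haveI := Fact.mk hr
  haveI := hR
  haveI := hQ
  -- the given prime is the normal one
  obtain rfl : r = q := by
    by_contra hne
    have hQne : (Q : Subgroup G) ≠ ⊥ := Q.ne_bot_of_dvd_card hq
    by_cases hqp : q = p
    · subst hqp
      refine hPR ?_
      have hPQ : P = Q := by
        haveI := Sylow.unique_of_normal Q hQ
        exact Subsingleton.elim P Q
      subst hPQ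
      intro a ha
      rw [Subgroup.mem_centralizer_iff]
      intro b hb
      exact (Subgroup.commute_of_normal_of_disjoint _ _ hR hQ
        (IsPGroup.disjoint_of_ne r q hpr.symm _ _ R.2 P.2) b a hb ha).eq
    · have hdiv : Nat.card G ∣ Nat.card (P : Subgroup G) * Nat.card (R : Subgroup G) := by
        have h1 := (R : Subgroup G).card_mul_index
        rw [← Subgroup.relIndex_top_right (R : Subgroup G), ← htop, Subgroup.relIndex_sup_right] at h1
        rw [← h1, mul_comm]
        exact mul_dvd_mul_right (Subgroup.index_dvd_card _) _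
      rcases (Nat.Prime.dvd_mul Fact.out).1 (hq.trans hdiv) with h | h
      · obtain ⟨i, hi⟩ := IsPGroup.iff_card.1 P.2
        exact hqp ((Nat.prime_dvd_prime_iff_eq Fact.out hp).1 ((Fact.out : q.Prime).dvd_of_dvd_pow (hi ▸ h)))
      · obtain ⟨i, hi⟩ := IsPGroup.iff_card.1 R.2
        exact hne ((Nat.prime_dvd_prime_iff_eq Fact.out hr).1 ((Fact.out : q.Prime).dvd_of_dvd_pow (hi ▸ h))).symm
  obtain rfl : R = Q := by
    haveI := Sylow.unique_of_normal Q hQ
    exact Subsingleton.elim R Q
  set S := (R : Subgroup G) with hSdef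
  haveI hSnil : Group.IsNilpotent S := R.2.isNilpotent
  have hcomm : ∀ a ∈ S, ∀ b ∈ S, a * b * a⁻¹ * b⁻¹ ∈ D := by
    intro a ha b hb
    rw [hD]
    exact ⟨⁅(⟨a, ha⟩ : S), ⟨b, hb⟩⁆,
      Subgroup.commutator_mem_commutator (Subgroup.mem_top _) (Subgroup.mem_top _), rfl⟩
  set π := QuotientGroup.mk' D
  have hPne : (P : Subgroup G) ≠ ⊥ := fun e => hPR (e ▸ bot_le)
  constructor
  · intro hab
    refine hPR ?_
    have hAK : (P : Subgroup G) ≤ Subgroup.normalizer (S : Set G) := by
      rw [Subgroup.normalizer_eq_top]; exact le_top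
    obtain ⟨i, hi⟩ := IsPGroup.iff_card.1 P.2
    obtain ⟨j, hj⟩ := IsPGroup.iff_card.1 R.2
    have hcop : (Nat.card (P : Subgroup G)).Coprime (Nat.card S) := by
      rw [hi, hj]; exact Nat.Coprime.pow _ _ ((Nat.coprime_primes hp hr).2 hpr)
    refine CfsgLib.Coprime.le_centralizer_of_trivial_on_frattini_quotient hAK
      (hcop.coprime_dvd_right (Subgroup.card_subgroup_dvd_card _)) fun a ha x hx => ?_
    have hmem : a * x * a⁻¹ * x⁻¹ ∈ D := by
      rw [← commutatorElement_def]
      rw [← QuotientGroup.eq_one_iff, ← QuotientGroup.mk'_apply, map_commutatorElement,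
        commutatorElement_eq_one_iff_mul_comm]
      exact mul_comm' _ _
    rw [hD] at hmem
    exact Subgroup.map_mono (CfsgLib.Coprime.commutator_le_frattini_of_isNilpotent (G := S)) hmem
  · intro K hK
    set K' := K.comap π
    have hKK : K'.map π = K := Subgroup.map_comap_eq_self_of_surjective (QuotientGroup.mk'_surjective D) K
    have hne : K' ≠ ⊤ := fun e => hK (by
      rw [← hKK, e, Subgroup.map_top_of_surjective _ (QuotientGroup.mk'_surjective D)])
    haveI := hG.2 K' hne
    haveI : Group.IsNilpotent K := by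
      haveI := Group.nilpotent_of_surjective _ (π.subgroupMap_surjective K')
      exact Group.nilpotent_of_mulEquiv (MulEquiv.subgroupCongr hKK)
    refine CfsgLib.Coprime.isMulCommutative_of_nilpotent_abelian_sylow fun s _ T => ?_
    obtain ⟨U, hU⟩ := (T.2.map K.subtype).exists_le_sylow
    have key : ∀ u v : (U : Subgroup (G ⧸ D)), u * v = v * u := by
      by_cases hs : s = r
      · subst hs
        obtain ⟨g, hg⟩ := MulAction.exists_smul_eq (G ⧸ D) (R.mapSurjective (QuotientGroup.mk'_surjective D)) U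
        intro u v
        obtain ⟨_, ⟨a, ha, rfl⟩, hu⟩ := (hg ▸ u.2 : (u : G ⧸ D) ∈ ((g • R.mapSurjective (QuotientGroup.mk'_surjective D) : Sylow s (G ⧸ D)) : Subgroup (G ⧸ D)))
        obtain ⟨_, ⟨b, hb, rfl⟩, hv⟩ := (hg ▸ v.2 : (v : G ⧸ D) ∈ ((g • R.mapSurjective (QuotientGroup.mk'_surjective D) : Sylow s (G ⧸ D)) : Subgroup (G ⧸ D)))
        have e : π a * π b = π b * π a := by
          rw [← commutatorElement_eq_one_iff_mul_comm, ← map_commutatorElement]
          exact (QuotientGroup.eq_one_iff _).2 (hcomm a ha b hb)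
        refine Subtype.ext ?_
        show (u : G ⧸ D) * v = v * u
        rw [← hu, ← hv]
        exact (map_mul _ _ _).symm.trans ((congrArg _ e).trans (map_mul _ _ _))
      · by_cases hsp : s = p
        · subst hsp
          obtain ⟨g, hg⟩ := MulAction.exists_smul_eq (G ⧸ D) (P.mapSurjective (QuotientGroup.mk'_surjective D)) U
          intro u v
          obtain ⟨_, ⟨a, ha, rfl⟩, hu⟩ := (hg ▸ u.2 : (u : G ⧸ D) ∈ ((g • P.mapSurjective (QuotientGroup.mk'_surjective D) : Sylow s (G ⧸ D)) : Subgroup (G ⧸ D)))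
          obtain ⟨_, ⟨b, hb, rfl⟩, hv⟩ := (hg ▸ v.2 : (v : G ⧸ D) ∈ ((g • P.mapSurjective (QuotientGroup.mk'_surjective D) : Sylow s (G ⧸ D)) : Subgroup (G ⧸ D)))
          haveI := hP
          have e : a * b = b * a := congrArg Subtype.val
            ((IsCyclic.commGroup (α := (P : Subgroup G))).mul_comm ⟨a, ha⟩ ⟨b, hb⟩)
          refine Subtype.ext ?_
          show (u : G ⧸ D) * v = v * u
          have e' : π a * π b = π b * π a := by rw [← map_mul, e, map_mul]
          rw [← hu, ← hv]
          exact (map_mul _ _ _).symm.trans ((congrArg _ e').trans (map_mul _ _ _))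
        · intro u v
          haveI : Subsingleton (U : Subgroup (G ⧸ D)) := by
            refine (Nat.card_eq_one_iff_unique.1 ?_).1
            rw [U.card_eq_multiplicity]
            convert pow_zero s
            refine Nat.factorization_eq_zero_of_not_dvd fun hd => ?_
            have h1 := (R : Subgroup G).card_mul_index
            rw [← Subgroup.relIndex_top_right (R : Subgroup G), ← htop, Subgroup.relIndex_sup_right] at h1
            have h2 : s ∣ Nat.card (R : Subgroup G) * Nat.card (P : Subgroup G) :=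
              (hd.trans (Subgroup.card_quotient_dvd_card D)).trans
                (h1 ▸ mul_dvd_mul_left _ (Subgroup.index_dvd_card _))
            rcases (Nat.Prime.dvd_mul Fact.out).1 h2 with h | h
            · obtain ⟨i, hi⟩ := IsPGroup.iff_card.1 R.2
              exact hs ((Nat.prime_dvd_prime_iff_eq Fact.out hr).1 ((Fact.out : s.Prime).dvd_of_dvd_pow (hi ▸ h)))
            · obtain ⟨i, hi⟩ := IsPGroup.iff_card.1 P.2
              exact hsp ((Nat.prime_dvd_prime_iff_eq Fact.out hp).1 ((Fact.out : s.Prime).dvd_of_dvd_pow (hi ▸ h)))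
          exact Subsingleton.elim _ _
    refine ⟨⟨fun a b => Subtype.ext (Subtype.ext ?_)⟩⟩
    exact congrArg (fun t : (U : Subgroup (G ⧸ D)) => (t : G ⧸ D)) (key ⟨_, hU ⟨a, a.2, rfl⟩⟩ ⟨_, hU ⟨b, b.2, rfl⟩⟩)

end Cfsg.Agent.S0577
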