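import Cfsg.Statements.S0578
import Cfsg.Agent.Lib.Coprime.SchurZassenhaus
import Cfsg.Agent.Lib.Coprime.Supersolvable
import Mathlib.GroupTheory.Transfer

set_option autoImplicit false
open Cfsg

open scoped commutatorElement

namespace Cfsg.Agent.S0578

/-- If in a finite group the normalizer of each abelian subgroup coincides with its centralizer, then the group is abelian. -/
theorem result {G : Type*} [Group G] [Finite G] (h : ∀ A : Subgroup G, IsMulCommutative A → Subgroup.normalizer (A : Set G) = Subgroup.centralizer (A : Set G)) : IsMulCommutative G := by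
  classical
  have hsyl : ∀ (p : ℕ) [Fact p.Prime] (P : Sylow p G),
      IsMulCommutative (P : Subgroup G) := by
    intro p _ P
    haveI := P.2.isNilpotent
    set Q := (P : Subgroup G)
    obtain ⟨A, ⟨hAn, hAc⟩, hmax⟩ := exists_maximalFor_of_wellFoundedGT
      (fun A : Subgroup Q => A.Normal ∧ IsMulCommutative A) id
      ⟨⊥, inferInstance, ⟨⟨fun a b => Subsingleton.elim _ _⟩⟩⟩
    haveI := hAn
    haveI := hAc
    have hA' : IsMulCommutative (A.map Q.subtype) := Subgroup.map_isMulCommutative _ _
    have hcen : ∀ x : Q, x ∈ Subgroup.centralizer (A : Set Q) := by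
      intro x
      have hx : (x : G) ∈ Subgroup.centralizer ((A.map Q.subtype : Subgroup G) : Set G) := by
        rw [← h _ hA', ← CfsgLib.Coprime.conjBy_eq_self_iff,
          show ((x : G)) = Q.subtype x from rfl, ← CfsgLib.Coprime.conjBy_map,
          CfsgLib.Coprime.conjBy_eq_self_iff.2 (by rw [Subgroup.normalizer_eq_top]; exact Subgroup.mem_top x)]
      rw [Subgroup.mem_centralizer_iff]
      exact fun a ha => Subtype.ext (Subgroup.mem_centralizer_iff.1 hx a ⟨a, ha, rfl⟩)
    have hctop : Subgroup.center Q ⊔ A = Subgroup.center Q := sup_eq_left.2 fun a ha =>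
      Subgroup.mem_center_iff.2 fun g => (Subgroup.mem_centralizer_iff.1 (hcen g) a ha).symm
    by_contra hnab
    -- enlarge `A` inside `Q`
    have hZ : Subgroup.center Q ≤ A := by
      have hAz : A ≤ Subgroup.center Q := sup_eq_left.1 hctop
      exact hmax (j := Subgroup.center Q) ⟨inferInstance, inferInstance⟩ hAz
    have hne : Subgroup.center Q ≠ ⊤ := fun e => hnab ⟨⟨fun a b =>
      (Subgroup.mem_center_iff.1 (e ▸ Subgroup.mem_top a) b).symm⟩⟩
    obtain ⟨W, hW1, hW2⟩ : ∃ W : Subgroup Q, Subgroup.center Q < W ∧ W.Normal ∧ IsMulCommutative W := by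
      obtain ⟨x, hx⟩ : ∃ x : Q ⧸ Subgroup.center Q, x ≠ 1 ∧ x ∈ Subgroup.center (Q ⧸ Subgroup.center Q) := by
        haveI : Nontrivial (Q ⧸ Subgroup.center Q) := QuotientGroup.nontrivial_iff.2 hne
        obtain ⟨y, hy, hyc⟩ := CfsgLib.Coprime.exists_central_prime_order (G := Q ⧸ Subgroup.center Q)
        exact ⟨y, fun e => hy.ne_one (by rw [e, orderOf_one]), hyc⟩
      obtain ⟨x, rfl⟩ := QuotientGroup.mk_surjective x
      refine ⟨Subgroup.center Q ⊔ Subgroup.zpowers x, ?_, ?_, ?_⟩
      · refine lt_of_le_of_ne le_sup_left fun e => hx.1 ((QuotientGroup.eq_one_iff x).2 ?_)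
        exact e ▸ Subgroup.mem_sup_right (Subgroup.mem_zpowers x)
      · refine ⟨fun n hn g => ?_⟩
        have h1 : (g * n * g⁻¹) * n⁻¹ ∈ Subgroup.center Q := by
          rw [← QuotientGroup.eq_one_iff]
          have h2 : (n : Q ⧸ Subgroup.center Q) ∈ Subgroup.center (Q ⧸ Subgroup.center Q) := by
            have h3 := Subgroup.mem_map_of_mem (QuotientGroup.mk' (Subgroup.center Q)) hn
            rw [Subgroup.map_sup, QuotientGroup.map_mk'_self, bot_sup_eq, MonoidHom.map_zpowers] at h3
            exact Subgroup.zpowers_le.2 hx.2 h3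
          simp only [QuotientGroup.mk_mul, QuotientGroup.mk_inv]
          rw [Subgroup.mem_center_iff.1 h2 g]
          group
        have := Subgroup.mul_mem _ (Subgroup.mem_sup_left (T := Subgroup.zpowers x) h1) hn
        rwa [inv_mul_cancel_right] at this
      · rw [Subgroup.zpowers_eq_closure, ← Subgroup.closure_eq (Subgroup.center Q), ← Subgroup.closure_union]
        refine Subgroup.isMulCommutative_closure ?_
        rintro a (ha | rfl) b (hb | rfl)
        · exact (Subgroup.mem_center_iff.1 ha b).symm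
        · exact (Subgroup.mem_center_iff.1 ha _).symm
        · exact Subgroup.mem_center_iff.1 hb _
        · rfl
    exact hW1.not_ge ((hmax (j := W) hW2 ((sup_eq_left.1 hctop).trans hW1.le)).trans (sup_eq_left.1 hctop))
  refine ⟨⟨fun a b => commutatorElement_eq_one_iff_mul_comm.1 ?_⟩⟩
  by_contra hne
  obtain ⟨p, hp, hd⟩ := Nat.exists_prime_and_dvd (fun e => hne (orderOf_eq_one_iff.1 e) : orderOf ⁅a, b⁆ ≠ 1)
  haveI := Fact.mk hp
  let P : Sylow p G := default
  haveI := hsyl p P
  have hP : Subgroup.normalizer ((P : Subgroup G) : Set G) ≤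
      Subgroup.centralizer ((P : Subgroup G) : Set G) := le_of_eq (h _ (hsyl p P))
  have hc := MonoidHom.ker_transferSylow_isComplement' P hP
  set K := (MonoidHom.transferSylow P hP).ker
  have hmem : ⁅a, b⁆ ∈ K := by
    rw [MonoidHom.mem_ker, map_commutatorElement, commutatorElement_eq_one_iff_mul_comm]
    exact mul_comm' _ _
  have hK : ¬ p ∣ Nat.card K := by
    rw [← hc.index_eq_card]
    exact P.not_dvd_index
  exact hK ((hd.trans (dvd_of_eq (Subgroup.orderOf_coe (⟨_, hmem⟩ : K)))).trans (orderOf_dvd_natCard _))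

end Cfsg.Agent.S0578
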