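import Cfsg.Statements.S0582
import Cfsg.Agent.Lib.Coprime.SupersolvableCriteria
import Cfsg.Agent.Lib.Coprime.Core
import Cfsg.Agent.Lib.PGroup.SylowTowerCount

set_option autoImplicit false
open Pointwise
open Cfsg

namespace Cfsg.Agent.S0582

open Subgroup CfsgLib.Coprime

universe v

theorem conj_smul_eq {G : Type v} [Group G] (x : G) (H : Subgroup G) :
    MulAut.conj x • H = H.map (MulAut.conj x).toMonoidHom := rfl

/-- The largest prime of a supersolvable Hall subgroup gives a Sylow subgroup normal in it. -/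
theorem exists_normal_sylow {G : Type v} [Group G] [Finite G] {H : Subgroup G}
    (hH : Cfsg.IsSupersolvable H) (hHall : (Nat.card H).Coprime H.index) {p : ℕ} [Fact p.Prime]
    (hp : p ∣ Nat.card H) (hmax : ∀ q : ℕ, q.Prime → q ∣ Nat.card H → q ≤ p) :
    ∃ P : Sylow p G, (P : Subgroup G) ≤ H ∧ H ≤ normalizer ((P : Subgroup G) : Set G) := by
  obtain ⟨Q⟩ : Nonempty (Sylow p H) := inferInstance
  haveI hQn : (Q : Subgroup H).Normal := normal_sylow_of_hereditary_clt
    (fun K => hasSubgroupOfEveryOrder (isSupersolvable_subgroup hH K)) hmax Q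
  have hni : ¬ p ∣ ((Q : Subgroup H).map H.subtype).index := by
    rw [index_map_subtype]
    exact fun hd => ((Fact.out : p.Prime).dvd_mul.1 hd).elim Q.not_dvd_index
      fun h => (Fact.out : p.Prime).not_dvd_one (hHall ▸ Nat.dvd_gcd hp h)
  refine ⟨(Q.2.map H.subtype).toSylow hni, map_subtype_le _, ?_⟩
  refine le_trans ?_ (le_normalizer_map H.subtype)
  rw [normalizer_eq_top (H := (Q : Subgroup H)), ← MonoidHom.range_eq_map, range_subtype]

theorem conj_of_supersolvable_hall : ∀ (n : ℕ) (G : Type v) [Group G] [Finite G],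
    Nat.card G = n → ∀ H K : Subgroup G, Cfsg.IsSupersolvable H → Cfsg.IsSupersolvable K →
    Nat.card H = Nat.card K → (Nat.card H).Coprime H.index →
    ∃ x : G, MulAut.conj x • H = K := by
  intro n
  induction n using Nat.strong_induction_on with
  | _ n ih =>
  intro G _ _ hn H K hH hK hcard hHall
  by_cases h1 : Nat.card H = 1
  · refine ⟨1, ?_⟩
    rw [map_one, one_smul, Subgroup.eq_bot_of_card_eq H h1, Subgroup.eq_bot_of_card_eq K (hcard ▸ h1)]
  have hne : (Nat.card H).primeFactors.Nonempty :=
    Nat.nonempty_primeFactors.2 (by have := Nat.card_pos (α := H); omega)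
  set p := (Nat.card H).primeFactors.max' hne
  have hpm := (Nat.card H).primeFactors.max'_mem hne
  haveI := Fact.mk (Nat.prime_of_mem_primeFactors hpm)
  have hpd : p ∣ Nat.card H := Nat.dvd_of_mem_primeFactors hpm
  have hmax : ∀ q : ℕ, q.Prime → q ∣ Nat.card H → q ≤ p := fun q hq hqd =>
    Finset.le_max' _ q (Nat.mem_primeFactors.2 ⟨hq, hqd, Nat.card_pos.ne'⟩)
  have hKi : K.index = H.index := by
    refine Nat.eq_of_mul_eq_mul_left (Nat.card_pos (α := K)) ?_
    rw [K.card_mul_index, ← hcard, H.card_mul_index]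
  obtain ⟨P, hPH, hHP⟩ := exists_normal_sylow hH hHall hpd hmax
  obtain ⟨P', hPK, hKP⟩ := exists_normal_sylow hK (hcard ▸ hKi.symm ▸ hHall) (hcard ▸ hpd)
    (by rw [← hcard]; exact hmax)
  obtain ⟨x, hx⟩ := MulAction.exists_smul_eq G P' P
  set K' := K.map (MulAut.conj x).toMonoidHom with hK'
  set N := normalizer ((P : Subgroup G) : Set G) with hN
  have hPe : (P : Subgroup G) = (P' : Subgroup G).map (MulAut.conj x).toMonoidHom := by
    rw [← hx]; rfl
  have hK'N : K' ≤ N := by
    rw [hN, hPe]
    exact (map_mono hKP).trans (le_normalizer_map (MulAut.conj x).toMonoidHom)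
  have hPK' : (P : Subgroup G) ≤ K' := hPe ▸ map_mono hPK
  set PN := (P : Subgroup G).subgroupOf N with hPN
  haveI : PN.Normal := Subgroup.normal_in_normalizer
  set f := QuotientGroup.mk' PN with hf
  have hfs : Function.Surjective f := QuotientGroup.mk'_surjective PN
  have hcardP : Nat.card PN = Nat.card (P : Subgroup G) :=
    Nat.card_congr (subgroupOfEquivOfLe le_normalizer).toEquiv
  have hlt : Nat.card (N ⧸ PN) < n := by
    refine lt_of_lt_of_le (card_quotient_lt_of_ne_bot fun e => P.ne_bot_of_dvd_card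
      (hpd.trans (card_subgroup_dvd_card H)) (Subgroup.eq_bot_of_card_eq _ ?_))
      (hn ▸ card_le_card_group N)
    rw [← hcardP, e, card_bot]
  have hsup : ∀ L : Subgroup G, L ≤ N → Cfsg.IsSupersolvable L →
      Cfsg.IsSupersolvable ((L.subgroupOf N).map f) := by
    intro L hL hLs
    have hLs' := isSupersolvable_congr (subgroupOfEquivOfLe hL).symm hLs
    refine isSupersolvable_congr (QuotientGroup.quotientKerEquivOfSurjective _
      (f.subgroupMap_surjective (L.subgroupOf N))) ?_
    exact CfsgLib.PGroup.isSupersolvable_quotient hLs' _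
  have hcq : ∀ L : Subgroup G, L ≤ N → (P : Subgroup G) ≤ L →
      Nat.card (P : Subgroup G) * Nat.card ((L.subgroupOf N).map f) = Nat.card L ∧
        ((L.subgroupOf N).map f).comap f = L.subgroupOf N := by
    intro L hL hPL
    have hker : f.ker ≤ L.subgroupOf N := by
      rw [hf, QuotientGroup.ker_mk']; exact comap_mono hPL
    refine ⟨?_, comap_map_eq_self hker⟩
    have hle : PN ≤ L.subgroupOf N := comap_mono hPL
    rw [← hcardP, ← card_eq_card_mul_card_map_mk' PN hle]
    exact Nat.card_congr (subgroupOfEquivOfLe hL).toEquiv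
  obtain ⟨hcH, hcomH⟩ := hcq H hHP hPH
  obtain ⟨hcK, hcomK⟩ := hcq K' hK'N hPK'
  have hK'c : Nat.card K' = Nat.card H := by
    rw [hcard, hK', card_map_of_injective (MulEquiv.injective _)]
  obtain ⟨y, hy⟩ := ih _ hlt (N ⧸ PN) rfl _ _ (hsup H hHP hH)
    (hsup K' hK'N (isSupersolvable_congr (K.equivMapOfInjective _ (MulEquiv.injective _)) hK))
    (Nat.eq_of_mul_eq_mul_left Nat.card_pos (hcH.trans (hK'c.symm.trans hcK.symm)))
    (by
      refine Nat.Coprime.coprime_dvd_left (Dvd.intro_left _ hcH) ?_
      refine hHall.coprime_dvd_right ?_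
      refine (index_map_dvd _ hfs).trans ?_
      rw [← relIndex]
      exact ⟨_, (relIndex_mul_index hHP).symm⟩)
  obtain ⟨z, rfl⟩ := hfs y
  refine ⟨x⁻¹ * (z : G), ?_⟩
  have hz : MulAut.conj (z : G) • H = K' := by
    have hconj : (H.subgroupOf N).map (MulAut.conj z).toMonoidHom = K'.subgroupOf N := by
      have h2 : (((H.subgroupOf N).map (MulAut.conj z).toMonoidHom).map f).comap f
          = K'.subgroupOf N := by
        rw [show ((H.subgroupOf N).map (MulAut.conj z).toMonoidHom).map f
          = MulAut.conj (f z) • ((H.subgroupOf N).map f) by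
          rw [conj_smul_eq, Subgroup.map_map, Subgroup.map_map]
          congr 1, hy, hcomK]
      refine Eq.trans (comap_map_eq_self ?_).symm h2
      rw [hf, QuotientGroup.ker_mk']
      intro w hw
      refine ⟨z⁻¹ * w * z, hPH ?_, by simp [mul_assoc]⟩
      have := (inferInstance : PN.Normal).conj_mem w hw z⁻¹
      simpa [hPN, mem_subgroupOf] using this
    have h3 := congrArg (Subgroup.map N.subtype) hconj
    rw [map_subgroupOf_eq_of_le hK'N, Subgroup.map_map] at h3
    rw [conj_smul_eq, ← h3]
    conv_lhs => rw [← map_subgroupOf_eq_of_le hHP, Subgroup.map_map]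
    congr 1
  rw [map_mul, mul_smul, hz, map_inv, inv_smul_eq_iff, conj_smul_eq]


/-- Let H and K be supersolvable subgroups of a finite group G of the same order, that order being coprime to their index. Then H and K are conjugate in G. -/
theorem result {G : Type*} [Group G] [Finite G] (H K : Subgroup G) (hH : Cfsg.IsSupersolvable H) (hK : Cfsg.IsSupersolvable K) (hcard : Nat.card H = Nat.card K) (hHall : (Nat.card H).Coprime H.index) : ∃ x : G, MulAut.conj x • H = K := by
  exact conj_of_supersolvable_hall _ G rfl H K hH hK hcard hHall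

end Cfsg.Agent.S0582
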