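import Cfsg.Statements.S0583
import Cfsg.Agent.Lib.Coprime.Solvable

set_option autoImplicit false
open Cfsg

namespace Cfsg.Agent.S0583

/-- In a finite group the Fitting subgroup is contained in the centralizer of each minimal normal subgroup. -/
theorem result {G : Type*} [Group G] [Finite G] (M : Subgroup G) [M.Normal] (hM : M ≠ ⊥) (hmin : ∀ K : Subgroup G, K.Normal → K ≤ M → K = ⊥ ∨ K = M) : Cfsg.fittingSubgroup G ≤ Subgroup.centralizer (M : Set G) := by
  classical
  set F := Cfsg.fittingSubgroup G with hF
  haveI hFn : F.Normal := CfsgLib.Coprime.fitting_normal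
  haveI hFnil : Group.IsNilpotent F := CfsgLib.Coprime.fitting_isNilpotent
  rcases hmin (M ⊓ F) inferInstance inf_le_left with h | h
  · rw [← Subgroup.commutator_eq_bot_iff_le_centralizer]
    exact le_bot_iff.1 ((Subgroup.commutator_le_inf F M).trans (inf_comm F M ▸ h.le))
  · have hle : M ≤ F := inf_eq_left.1 h
    haveI : (Subgroup.centralizer (F : Set G)).Normal := Subgroup.normal_centralizer
    rcases hmin (M ⊓ Subgroup.centralizer (F : Set G)) inferInstance inf_le_left with h2 | h2
    · exfalso
      refine CfsgLib.Coprime.nilpotent_inf_center_ne_bot (M.subgroupOf F) (fun e => hM ?_)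
        ((Subgroup.eq_bot_iff_forall _).2 fun x hx => ?_)
      · rw [← Subgroup.map_subgroupOf_eq_of_le hle, e, Subgroup.map_bot]
      · have hxm : (x : G) ∈ M ⊓ Subgroup.centralizer (F : Set G) :=
          ⟨Subgroup.mem_subgroupOf.1 hx.1, Subgroup.mem_centralizer_iff.2 fun y hy =>
            congrArg Subtype.val (Subgroup.mem_center_iff.1 hx.2 ⟨y, hy⟩)⟩
        rw [h2, Subgroup.mem_bot] at hxm
        exact Subtype.ext hxm
    · exact Subgroup.le_centralizer_iff.1 (inf_eq_left.1 h2)

end Cfsg.Agent.S0583
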