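import Cfsg.Statements.S0584
import Cfsg.Agent.Lib.Coprime.Solvable

set_option autoImplicit false
open Cfsg

namespace Cfsg.Agent.S0584

/-- Let B ≤ A be normal subgroups of a finite group G with B contained in the Frattini subgroup of G. If A modulo B is nilpotent then A is nilpotent. -/
theorem result {G : Type*} [Group G] [Finite G] (A B : Subgroup G) [A.Normal] [B.Normal] (hBA : B ≤ A) (hB : B ≤ frattini G) (h : Group.IsNilpotent (↥A ⧸ B.subgroupOf A)) : Group.IsNilpotent A := by
  classical
  set π := QuotientGroup.mk' (frattini G)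
  haveI : (A ⊔ frattini G).Normal := Subgroup.sup_normal _ _
  have hmap : (A ⊔ frattini G).map π = A.map π := by
    rw [Subgroup.map_sup, QuotientGroup.map_mk'_self, sup_bot_eq]
  haveI : (A.map π).Normal := Subgroup.Normal.map inferInstance π (QuotientGroup.mk'_surjective _)
  have hnil : Group.IsNilpotent (A.map π) := by
    haveI := h
    let g : (↥A ⧸ B.subgroupOf A) →* A.map π :=
      QuotientGroup.lift _ (π.subgroupMap A) fun x hx => MonoidHom.mem_ker.2
        (Subtype.ext ((QuotientGroup.eq_one_iff (N := frattini G) _).2 (hB (Subgroup.mem_subgroupOf.1 hx))))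
    refine Group.nilpotent_of_surjective g fun y => ?_
    obtain ⟨a, rfl⟩ := π.subgroupMap_surjective A y
    exact ⟨(a : ↥A ⧸ B.subgroupOf A), rfl⟩
  have hle := CfsgLib.Coprime.le_fitting_of_map_frattini_le (W := A ⊔ frattini G)
    (hmap ▸ CfsgLib.Coprime.le_fitting hnil) le_sup_right
  exact CfsgLib.Coprime.isNilpotent_of_le (le_sup_left.trans hle) CfsgLib.Coprime.fitting_isNilpotent

end Cfsg.Agent.S0584
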