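import Cfsg.Statements.S0586
import Cfsg.Agent.Lib.Coprime.FrattiniExtra
import Cfsg.Agent.Lib.Coprime.Action

set_option autoImplicit false
open Cfsg

open scoped commutatorElement

namespace Cfsg.Agent.S0586

/-- If the Frattini subgroup of a finite group G is trivial, then the Fitting subgroup of G equals the join of all abelian minimal normal subgroups of G. -/
theorem result {G : Type*} [Group G] [Finite G] (hΦ : frattini G = ⊥) : Cfsg.fittingSubgroup G = sSup {N : Subgroup G | N.Normal ∧ N ≠ ⊥ ∧ IsMulCommutative N ∧ ∀ K : Subgroup G, K.Normal → K ≤ N → K = ⊥ ∨ K = N} := by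
  classical
  set F := Cfsg.fittingSubgroup G with hF
  haveI hFn : F.Normal := CfsgLib.Coprime.fitting_normal
  haveI hFnil : Group.IsNilpotent F := CfsgLib.Coprime.fitting_isNilpotent
  haveI hFab : IsMulCommutative F := by
    refine ⟨⟨fun a b => ?_⟩⟩
    rw [← commutatorElement_eq_one_iff_mul_comm, ← Subgroup.mem_bot]
    have h1 : commutator F ≤ ⊥ := by
      refine (CfsgLib.Coprime.commutator_le_frattini_of_isNilpotent (G := F)).trans (le_of_eq ?_)
      exact (Subgroup.map_eq_bot_iff_of_injective _ F.subtype_injective).1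
        (le_bot_iff.1 (hΦ ▸ CfsgLib.Coprime.frattini_map_subtype_le F))
    exact h1 (Subgroup.commutator_mem_commutator (Subgroup.mem_top a) (Subgroup.mem_top b))
  set 𝒮 : Set (Subgroup G) := {N : Subgroup G | N.Normal ∧ N ≠ ⊥ ∧ IsMulCommutative N ∧
    ∀ K : Subgroup G, K.Normal → K ≤ N → K = ⊥ ∨ K = N}
  have hTF : sSup 𝒮 ≤ F := sSup_le fun N ⟨hN, _, hab, _⟩ => by
    haveI := hN
    haveI := hab
    letI : CommGroup N := { (inferInstance : Group N) with mul_comm := mul_comm' }
    exact CfsgLib.Coprime.le_fitting inferInstance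
  refine le_antisymm ?_ hTF
  set T := sSup 𝒮
  haveI hTn : T.Normal := by
    refine Subgroup.normalizer_eq_top_iff.1 (eq_top_iff.2 fun g _ => ?_)
    rw [← CfsgLib.Coprime.conjBy_eq_self_iff, CfsgLib.Coprime.conjBy, show T = ⨆ N ∈ 𝒮, N from sSup_eq_iSup,
      Subgroup.map_iSup]
    refine iSup_congr fun N => ?_
    rw [Subgroup.map_iSup]
    refine iSup_congr fun hN => ?_
    haveI := hN.1
    exact CfsgLib.Coprime.conjBy_eq_self_iff.2 (by rw [Subgroup.normalizer_eq_top]; exact Subgroup.mem_top g)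
  haveI : IsMulCommutative T := ⟨⟨fun a b => Subtype.ext
    (congrArg (fun t : F => (t : G)) (mul_comm' (⟨a, hTF a.2⟩ : F) ⟨b, hTF b.2⟩))⟩⟩
  obtain ⟨H, hH⟩ := CfsgLib.Coprime.exists_complement_of_inf_frattini T (by rw [hΦ, inf_bot_eq])
  haveI : (F ⊓ H).Normal := by
    refine Subgroup.normalizer_eq_top_iff.1 (eq_top_iff.2 ?_)
    rw [← hH.sup_eq_top]
    refine sup_le (fun t ht => ?_) ?_
    · rw [Subgroup.mem_normalizer_iff]
      intro x
      have key : ∀ y ∈ F, t * y * t⁻¹ = y := fun y hy => by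
        rw [show t * y = y * t from congrArg Subtype.val (mul_comm' (⟨t, hTF ht⟩ : F) ⟨y, hy⟩),
          mul_inv_cancel_right]
      constructor
      · intro hx
        rwa [key x hx.1]
      · intro hx
        have hxF : x ∈ F := by
          have := F.mul_mem (F.mul_mem (F.inv_mem (hTF ht)) hx.1) (hTF ht)
          simpa [mul_assoc] using this
        rwa [key x hxF] at hx
    · refine CfsgLib.Coprime.inf_le_normalizer ?_ Subgroup.le_normalizer
      rw [Subgroup.normalizer_eq_top]
      exact le_top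
  have hbot : F ⊓ H = ⊥ := by
    by_contra hne
    obtain ⟨N, hN, hN1, hNle, hNmin⟩ := CfsgLib.Coprime.exists_minimal_normal_le hne
    have hab : IsMulCommutative N := ⟨⟨fun a b => Subtype.ext
      (congrArg (fun t : F => (t : G)) (mul_comm' (⟨a, (hNle a.2).1⟩ : F) ⟨b, (hNle b.2).1⟩))⟩⟩
    exact hN1 (le_bot_iff.1 ((le_inf (le_sSup (show N ∈ 𝒮 from ⟨hN, hN1, hab, hNmin⟩))
      (hNle.trans inf_le_right)).trans (hH.disjoint.le_bot)))
  intro f hf
  obtain ⟨t, ht, h, hh, rfl⟩ := Subgroup.mem_sup_of_normal_left.1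
    (hH.sup_eq_top ▸ Subgroup.mem_top f : f ∈ T ⊔ H)
  have : h ∈ F ⊓ H := ⟨by
    have := F.mul_mem (F.inv_mem (hTF ht)) hf
    rwa [inv_mul_cancel_left] at this, hh⟩
  rw [hbot, Subgroup.mem_bot] at this
  rw [this, mul_one]
  exact ht

end Cfsg.Agent.S0586
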