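import Cfsg.Statements.S0588
import Cfsg.Agent.Lib.Coprime.Supersolvable

set_option autoImplicit false
open Cfsg

namespace Cfsg.Agent.S0588

/-- If a subgroup H of a finite group G contains the centralizer of every non-identity element of H, then the order of H is coprime to its index. -/
theorem result {G : Type*} [Group G] [Finite G] (H : Subgroup G) (h : ∀ x ∈ H, x ≠ 1 → Subgroup.centralizer ({x} : Set G) ≤ H) : (Nat.card H).Coprime H.index := by
  classical
  refine Nat.coprime_of_dvd fun p hp hd1 hd2 => ?_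
  haveI := Fact.mk hp
  let P : Sylow p H := default
  set Q := (P : Subgroup H).map H.subtype with hQ
  haveI : Nontrivial (P : Subgroup H) := (Subgroup.nontrivial_iff_ne_bot _).2 (P.ne_bot_of_dvd_card hd1)
  obtain ⟨⟨⟨z, hzH⟩, hzP⟩, hz, hzc⟩ := by
    haveI := P.2.isNilpotent
    exact CfsgLib.Coprime.exists_central_prime_order (G := (P : Subgroup H))
  have hz1 : z ≠ 1 := by
    rintro rfl
    exact hz.ne_one orderOf_one
  -- a larger `p`-group
  have hQp : IsPGroup p Q := P.2.map H.subtype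
  obtain ⟨R, hR⟩ := hQp.exists_le_sylow
  have hlt : Q < R := by
    refine lt_of_le_of_ne hR fun e => ?_
    have h1 : p ∣ Q.index := hd2.trans (Subgroup.index_dvd_of_le (Subgroup.map_subtype_le _))
    rw [e] at h1
    exact R.not_dvd_index h1
  obtain ⟨x, hx, hxn, hxQ⟩ : ∃ x ∈ (R : Subgroup G), x ∈ Subgroup.normalizer (Q : Set G) ∧ x ∉ Q := by
    haveI := R.2.isNilpotent
    have h1 : Q.subgroupOf (R : Subgroup G) < ⊤ := lt_top_iff_ne_top.2 fun e =>
      hlt.not_ge (Subgroup.subgroupOf_eq_top.1 e)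
    obtain ⟨x, hx, hxQ⟩ := SetLike.exists_of_lt (Group.normalizerCondition_of_isNilpotent _ h1)
    refine ⟨x, x.2, Subgroup.mem_normalizer_iff.2 fun d => ?_, hxQ⟩
    constructor
    · intro hdq
      exact (Subgroup.mem_normalizer_iff.1 hx ⟨d, hR hdq⟩).1 hdq
    · intro hdq
      have hdR : d ∈ (R : Subgroup G) := by
        have := (R : Subgroup G).mul_mem ((R : Subgroup G).mul_mem ((R : Subgroup G).inv_mem x.2) (hR hdq)) x.2
        simpa [mul_assoc] using this
      exact (Subgroup.mem_normalizer_iff.1 hx ⟨d, hdR⟩).2 hdq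
  -- the centre of `P` is moved inside `Q`, whose centralizer lies in `H`
  haveI : Nontrivial Q := ⟨⟨⟨z, ⟨⟨z, hzH⟩, hzP, rfl⟩⟩, 1, fun e => hz1 (congrArg Subtype.val e)⟩⟩
  have hxH : x ∉ H := by
    intro hxH
    have : Subgroup.zpowers (⟨x, hxH⟩ : H) ⊔ (P : Subgroup H) ≤ ((R : Subgroup G).subgroupOf H) :=
      sup_le (Subgroup.zpowers_le.2 hx) fun y hy => hR ⟨y, hy, rfl⟩
    have hPR : ((R : Subgroup G).subgroupOf H) = (P : Subgroup H) :=
      P.is_maximal' (IsPGroup.comap_of_injective R.2 H.subtype H.subtype_injective)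
        fun y hy => hR ⟨y, hy, rfl⟩
    exact hxQ ⟨⟨x, hxH⟩, hPR.le (this (Subgroup.mem_sup_left (Subgroup.mem_zpowers _))), rfl⟩
  -- a nontrivial element of `Q` centralised by `x`
  set T := Q ⊔ Subgroup.zpowers x
  have hTR : T ≤ (R : Subgroup G) := sup_le hR (Subgroup.zpowers_le.2 hx)
  haveI : Group.IsNilpotent T := (R.2.to_le hTR).isNilpotent
  haveI : (Q.subgroupOf T).Normal := (Subgroup.normal_subgroupOf_iff_le_normalizer le_sup_left).2
    (sup_le Subgroup.le_normalizer (Subgroup.zpowers_le.2 hxn))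
  obtain ⟨⟨w, hw⟩, hw1⟩ := Subgroup.ne_bot_iff_exists_ne_one.1
    (CfsgLib.Coprime.nilpotent_inf_center_ne_bot (Q.subgroupOf T) fun e => by
      have := congrArg (Subgroup.map T.subtype) e
      rw [Subgroup.map_subgroupOf_eq_of_le le_sup_left, Subgroup.map_bot] at this
      exact (Subgroup.nontrivial_iff_ne_bot Q).1 inferInstance this)
  have hwH : (w : G) ∈ H := Subgroup.map_subtype_le _ (Subgroup.mem_subgroupOf.1 hw.1)
  refine hxH (h w hwH (fun e => hw1 (Subtype.ext (Subtype.ext e))) ?_)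
  rw [Subgroup.mem_centralizer_singleton_iff]
  exact congrArg Subtype.val (Subgroup.mem_center_iff.1 hw.2
    ⟨x, Subgroup.mem_sup_right (Subgroup.mem_zpowers x)⟩)

end Cfsg.Agent.S0588
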