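import Cfsg.Statements.S0590
import Cfsg.Agent.Lib.PGroup.ElementaryBasic

set_option autoImplicit false
open Cfsg

namespace Cfsg.Agent.S0590

/-- Quadratic action on an elementary abelian p-group forces the acting group modulo the kernel of the action to be elementary abelian. -/
theorem result {G : Type*} [Group G] [Finite G] {p : ℕ} [Fact p.Prime] (V H : Subgroup G) (hV : Cfsg.IsElementaryAbelian p V) (hHV : H ≤ Subgroup.normalizer (V : Set G)) (hq : ⁅⁅V, H⁆, H⁆ = ⊥) : ⁅H, H⁆ ≤ Subgroup.centralizer (V : Set G) ∧ ∀ a ∈ H, a ^ p ∈ Subgroup.centralizer (V : Set G) := by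
  have hw : ∀ v ∈ V, ∀ a ∈ H, a * v * a⁻¹ * v⁻¹ ∈ V := fun v hv a ha =>
    mul_mem ((Subgroup.mem_normalizer_iff.1 (hHV ha) v).1 hv) (inv_mem hv)
  have hfix : ∀ v ∈ V, ∀ a ∈ H, ∀ b ∈ H, b * (a * v * a⁻¹ * v⁻¹) * b⁻¹ = a * v * a⁻¹ * v⁻¹ := by
    intro v hv a ha b hb
    have h1 := Subgroup.commutator_mem_commutator (Subgroup.commutator_mem_commutator hv ha) hb
    rw [hq, Subgroup.mem_bot, commutatorElement_eq_one_iff_mul_comm] at h1
    have h2 : Commute b (a * v * a⁻¹ * v⁻¹) := by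
      rw [show a * v * a⁻¹ * v⁻¹ = (v * a * v⁻¹ * a⁻¹)⁻¹ by group]
      exact (Commute.inv_left h1).symm
    rw [h2.eq, mul_inv_cancel_right]
  refine ⟨Subgroup.commutator_le.2 fun a ha b hb => Subgroup.mem_centralizer_iff.2 fun v hv => ?_, fun a ha => ?_⟩
  · have hab : ∀ w ∈ V, a * b * w * (a * b)⁻¹ = b * a * w * (b * a)⁻¹ := fun w hw' => by
      calc a * b * w * (a * b)⁻¹
          = a * (b * w * b⁻¹ * w⁻¹) * a⁻¹ * ((a * w * a⁻¹ * w⁻¹) * w) := by group
        _ = (b * w * b⁻¹ * w⁻¹) * ((a * w * a⁻¹ * w⁻¹) * w) := by rw [hfix w hw' b hb a ha]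
        _ = (a * w * a⁻¹ * w⁻¹) * ((b * w * b⁻¹ * w⁻¹) * w) := by
            rw [← mul_assoc, CfsgLib.EABasic.comm_of_isElementaryAbelian hV (hw w hw' b hb) (hw w hw' a ha), mul_assoc]
        _ = b * (a * w * a⁻¹ * w⁻¹) * b⁻¹ * ((b * w * b⁻¹ * w⁻¹) * w) := by rw [hfix w hw' a ha b hb]
        _ = b * a * w * (b * a)⁻¹ := by group
    have hv' : (b * a)⁻¹ * v * (b * a) ∈ V :=
      (Subgroup.mem_normalizer_iff''.1 (mul_mem (hHV hb) (hHV ha)) v).1 hv
    have h3 : (a * b * a⁻¹ * b⁻¹) * v * (a * b * a⁻¹ * b⁻¹)⁻¹ = v := by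
      calc (a * b * a⁻¹ * b⁻¹) * v * (a * b * a⁻¹ * b⁻¹)⁻¹
          = a * b * ((b * a)⁻¹ * v * (b * a)) * (a * b)⁻¹ := by group
        _ = b * a * ((b * a)⁻¹ * v * (b * a)) * (b * a)⁻¹ := hab _ hv'
        _ = v := by group
    exact (mul_inv_eq_iff_eq_mul.1 h3).symm
  · refine Subgroup.mem_centralizer_iff.2 fun v hv => ?_
    set w := a * v * a⁻¹ * v⁻¹ with hwd
    have hwc : Commute w a := by
      have h0 := mul_inv_eq_iff_eq_mul.1 (hfix v hv a ha a ha)
      exact h0.symm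
    have key : ∀ n : ℕ, a ^ n * v = w ^ n * v * a ^ n := by
      intro n
      induction n with
      | zero => simp
      | succ n ih =>
        calc a ^ (n + 1) * v = a * (a ^ n * v) := by rw [pow_succ', mul_assoc]
          _ = (a * w ^ n) * (v * a ^ n) := by rw [ih]; group
          _ = (w ^ n * a) * (v * a ^ n) := by rw [(hwc.pow_left n).eq]
          _ = w ^ n * (a * v * a⁻¹ * v⁻¹) * v * (a * a ^ n) := by group
          _ = w ^ (n + 1) * v * a ^ (n + 1) := by rw [← hwd, ← pow_succ, ← pow_succ']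
    rw [key p, hV.2 w (hw v hv a ha), one_mul]

end Cfsg.Agent.S0590
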