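import Cfsg.Statements.S0591
import Cfsg.Agent.Lib.PGroup.ElementaryBasic

set_option autoImplicit false
open Cfsg

namespace Cfsg.Agent.S0591

/-- For a quadratically acting element a on an elementary abelian p-group V, the fixed points C_V(a) have order at least the square root of the order of V. -/
theorem result {G : Type*} [Group G] [Finite G] {p : ℕ} [Fact p.Prime] (V : Subgroup G) (hV : Cfsg.IsElementaryAbelian p V) (a : G) (ha : a ∈ Subgroup.normalizer (V : Set G)) (hq : ⁅⁅V, Subgroup.zpowers a⁆, Subgroup.zpowers a⁆ = ⊥) : Nat.card V ≤ Nat.card ↥(V ⊓ Subgroup.centralizer (Subgroup.zpowers a : Set G)) ^ 2 := by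
  set A := Subgroup.zpowers a with hAdef
  set C := V ⊓ Subgroup.centralizer (A : Set G) with hC
  have haA : a ∈ A := Subgroup.mem_zpowers a
  have hvv : ∀ v ∈ V, a * v * a⁻¹ ∈ V := fun v hv => (Subgroup.mem_normalizer_iff.1 ha v).1 hv
  let f : V →* C :=
    { toFun := fun v => ⟨a * v * a⁻¹ * (v : G)⁻¹, V.mul_mem (hvv v v.2) (V.inv_mem v.2),
        Subgroup.mem_centralizer_iff.2 fun b hb => by
          have h1 := Subgroup.commutator_mem_commutator (Subgroup.commutator_mem_commutator v.2 haA) hb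
          rw [hq, Subgroup.mem_bot, commutatorElement_eq_one_iff_mul_comm] at h1
          rw [show a * (v : G) * a⁻¹ * (v : G)⁻¹ = ((v : G) * a * (v : G)⁻¹ * a⁻¹)⁻¹ by group]
          exact (Commute.inv_left h1).symm⟩
      map_one' := Subtype.ext (by simp)
      map_mul' := fun u v => Subtype.ext (by
        simp only [Subgroup.coe_mul]
        have hc : ∀ {x y : G}, x ∈ V → y ∈ V → x * y = y * x := fun hx hy => CfsgLib.EABasic.comm_of_isElementaryAbelian hV hx hy
        calc a * ((u : G) * v) * a⁻¹ * ((u : G) * v)⁻¹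
            = a * u * a⁻¹ * ((a * v * a⁻¹ * (v : G)⁻¹) * (u : G)⁻¹) := by group
          _ = a * u * a⁻¹ * (u : G)⁻¹ * (a * v * a⁻¹ * (v : G)⁻¹) := by
              rw [hc (V.mul_mem (hvv v v.2) (V.inv_mem v.2)) (V.inv_mem u.2)]; group) }
  have hker : Nat.card f.ker ≤ Nat.card C := by
    refine Nat.card_le_card_of_injective (fun v => ⟨((v : V) : G), (v : V).2, Subgroup.mem_centralizer_iff.2 fun b hb => ?_⟩)
      (fun v w hvw => Subtype.ext (Subtype.ext (congrArg Subtype.val hvw :)))
    have h1 : a * ((v : V) : G) * a⁻¹ * ((v : V) : G)⁻¹ = 1 := congrArg Subtype.val v.2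
    obtain ⟨i, rfl⟩ := Subgroup.mem_zpowers_iff.1 hb
    exact Commute.zpow_left (mul_inv_eq_iff_eq_mul.1 (mul_inv_eq_one.1 h1)) i
  have hr : Nat.card f.range ≤ Nat.card C := Nat.card_le_card_of_injective _ (Subgroup.subtype_injective _)
  rw [← f.ker.card_mul_index, Subgroup.index_ker, pow_two]
  exact Nat.mul_le_mul hker hr

end Cfsg.Agent.S0591
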