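import Cfsg.Agent.Lib.Qd.TwoQuadratic
import Cfsg.Statements.S0592
-- import your own Cfsg.Agent.* helpers here

set_option autoImplicit false
open Cfsg

namespace Cfsg.Agent.S0592

/-- Two quadratically acting generators of a linear group that is not a p-group, with the p'-part of the order of their product dividing q - 1, give a homomorphism onto a subgroup of SL(2, q) that is not a p-group. -/
theorem result {K : Type*} [Field K] [Fintype K] {p : ℕ} [Fact p.Prime] [CharP K p] {W : Type*} [AddCommGroup W] [Module K W] [FiniteDimensional K W] [Finite W] [Nontrivial W] (H : Subgroup (W ≃ₗ[K] W)) (a b : W ≃ₗ[K] W) (hH : H = Subgroup.closure {a, b}) (ha : ∀ w : W, a (a w - w) = a w - w) (hb : ∀ w : W, b (b w - w) = b w - w) (hnp : ¬ IsPGroup p H) (hk : ∃ e k : ℕ, orderOf (a * b) = p ^ e * k ∧ k ∣ Fintype.card K - 1) : ∃ φ : H →* Matrix.SpecialLinearGroup (Fin 2) K, ¬ IsPGroup p φ.range := by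
  classical
  subst hH
  let bas := Module.finBasis K W
  let R : ↥(Subgroup.closure {a, b}) →* Matrix _ _ K :=
    { toFun := fun g => LinearMap.toMatrixAlgEquiv bas ((g : W ≃ₗ[K] W) : W →ₗ[K] W)
      map_one' := map_one (LinearMap.toMatrixAlgEquiv bas)
      map_mul' := fun g g' => map_mul (LinearMap.toMatrixAlgEquiv bas)
        ((g : W ≃ₗ[K] W) : W →ₗ[K] W) ((g' : W ≃ₗ[K] W) : W →ₗ[K] W) }
  haveI : Finite (W ≃ₗ[K] W) := Finite.of_injective (fun g => (g : W → W)) DFunLike.coe_injective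
  have hq : ∀ (g : W ≃ₗ[K] W) (hg : g ∈ Subgroup.closure {a, b}), (∀ w, g (g w - w) = g w - w) →
      (R ⟨g, hg⟩ - 1) * (R ⟨g, hg⟩ - 1) = 0 := by
    intro g hg h
    show (LinearMap.toMatrixAlgEquiv bas (g : W →ₗ[K] W) - 1) * (LinearMap.toMatrixAlgEquiv bas (g : W →ₗ[K] W) - 1) = 0
    rw [← map_one (LinearMap.toMatrixAlgEquiv bas), ← map_sub, ← map_mul, map_eq_zero_iff _ (LinearMap.toMatrixAlgEquiv bas).injective]
    ext w
    show g (g w - w) - (g w - w) = 0
    rw [h, sub_self]
  obtain ⟨e, k, hord, hk⟩ := hk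
  refine CfsgLib.Qd.two_quadratic_hom R (fun g g' h => Subtype.ext (LinearEquiv.toLinearMap_injective
    ((LinearMap.toMatrixAlgEquiv bas).injective h))) ⟨a, Subgroup.subset_closure (by simp)⟩
    ⟨b, Subgroup.subset_closure (by simp)⟩ ?_ (hq a _ ha) (hq b _ hb) hnp ((Subgroup.orderOf_coe _).symm.trans hord) hk
  convert Subgroup.closure_closure_coe_preimage (k := ({a, b} : Set (W ≃ₗ[K] W))) using 2
  ext x
  simp [Subtype.ext_iff]

end Cfsg.Agent.S0592
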