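import Cfsg.Statements.S0593
import Cfsg.Agent.Lib.Fusion.QuadraticSections

set_option autoImplicit false
open Cfsg

namespace Cfsg.Agent.S0593

/-- For odd p, a faithful group on an elementary abelian p-group generated by two quadratically acting elements is a p-group or has non-abelian Sylow 2-subgroups. -/
theorem result {G : Type*} [Group G] [Finite G] {p : ℕ} [Fact p.Prime] (hp : p ≠ 2) (V H : Subgroup G) (hV : Cfsg.IsElementaryAbelian p V) (hHV : H ≤ Subgroup.normalizer (V : Set G)) (hf : H ⊓ Subgroup.centralizer (V : Set G) = ⊥) (a b : G) (hab : H = Subgroup.closure {a, b}) (ha : ⁅⁅V, Subgroup.zpowers a⁆, Subgroup.zpowers a⁆ = ⊥) (hb : ⁅⁅V, Subgroup.zpowers b⁆, Subgroup.zpowers b⁆ = ⊥) (hnp : ¬ IsPGroup p H) (T : Sylow 2 H) : ¬ IsMulCommutative T := by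
  intro hT
  obtain ⟨K, L, hL, hKH, ⟨e⟩⟩ := CfsgLib.Fusion.slTwo_section_of_generators hp V H hV hHV hf a b hab ha hb hnp
  haveI := hL
  haveI := Fact.mk Nat.prime_two
  refine CfsgLib.Qd.not_comm_of_surjective hp (e.toMonoidHom.comp (QuotientGroup.mk' _))
    (e.surjective.comp (QuotientGroup.mk'_surjective _)) fun S x hx z hz => ?_
  obtain ⟨U, hU⟩ := (S.2.map (Subgroup.inclusion hKH)).exists_le_sylow
  obtain ⟨r, hr⟩ := MulAction.exists_smul_eq H T U
  rw [← hr, Sylow.coe_subgroup_smul] at hU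
  obtain ⟨x', hx', hxe⟩ := hU (Subgroup.mem_map_of_mem _ hx)
  obtain ⟨z', hz', hze⟩ := hU (Subgroup.mem_map_of_mem _ hz)
  refine Subgroup.inclusion_injective hKH ?_
  rw [map_mul, map_mul, ← hxe, ← hze]
  refine ((map_mul _ x' z').symm.trans (Eq.trans ?_ (map_mul _ z' x')))
  exact congrArg _ (congrArg Subtype.val (hT.is_comm.comm (⟨x', hx'⟩ : (T : Subgroup H)) ⟨z', hz'⟩))

end Cfsg.Agent.S0593
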