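import Cfsg.Statements.S0594
import Cfsg.Agent.Lib.Fusion.QuadraticSections
import Cfsg.Agent.S0590

set_option autoImplicit false
open Cfsg

namespace Cfsg.Agent.S0594

/-- For odd p, two quadratic generators of a faithful group that is not a p-group, one of which acts nontrivially on a normal subgroup of order prime to p, force p = 3 and a section isomorphic to SL(2,3). -/
theorem result {G : Type*} [Group G] [Finite G] {p : ℕ} [Fact p.Prime] (hp : p ≠ 2) (V H : Subgroup G) (hV : Cfsg.IsElementaryAbelian p V) (hHV : H ≤ Subgroup.normalizer (V : Set G)) (hf : H ⊓ Subgroup.centralizer (V : Set G) = ⊥) (a b : G) (hab : H = Subgroup.closure {a, b}) (ha : ⁅⁅V, Subgroup.zpowers a⁆, Subgroup.zpowers a⁆ = ⊥) (hb : ⁅⁅V, Subgroup.zpowers b⁆, Subgroup.zpowers b⁆ = ⊥) (hnp : ¬ IsPGroup p H) (Q : Subgroup G) (hQH : Q ≤ H) (hQn : H ≤ Subgroup.normalizer (Q : Set G)) (hQ : (Nat.card Q).Coprime p) (hQa : ⁅Q, Subgroup.zpowers a⁆ ≠ ⊥) : p = 3 ∧ ∃ (K L : Subgroup G) (hL : (L.subgroupOf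 K).Normal), K ≤ H ∧ Nonempty ((K ⧸ L.subgroupOf K) ≃* Matrix.SpecialLinearGroup (Fin 2) (ZMod 3)) := by
  have haH : a ∈ H := hab ▸ Subgroup.subset_closure (Or.inl rfl)
  have hap : a ^ p = 1 := by
    have h := (Cfsg.Agent.S0590.result V (Subgroup.zpowers a) hV ((Subgroup.zpowers_le.2 haH).trans hHV) ha).2 a
      (Subgroup.mem_zpowers a)
    exact Subgroup.mem_bot.1 (hf.le ⟨pow_mem haH p, h⟩)
  set H' := Q ⊔ Subgroup.zpowers a with hH'
  have hH'H : H' ≤ H := sup_le hQH (Subgroup.zpowers_le.2 haH)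
  have hQn' : H' ≤ Subgroup.normalizer (Q : Set G) := hH'H.trans hQn
  haveI hn : (Q.subgroupOf H').Normal := (Subgroup.normal_subgroupOf_iff_le_normalizer le_sup_left).2 hQn'
  have hidx : (Q.subgroupOf H').index ∣ p := by
    have hgen : ∀ z : H' ⧸ Q.subgroupOf H', z ∈ Subgroup.zpowers
        (QuotientGroup.mk (⟨a, Subgroup.mem_sup_right (Subgroup.mem_zpowers a)⟩ : H')) := by
      intro z
      obtain ⟨⟨w, hw⟩, rfl⟩ := QuotientGroup.mk_surjective z
      have hw' : w ∈ Subgroup.zpowers a ⊔ Q := by rwa [sup_comm]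
      rw [← SetLike.mem_coe, Subgroup.coe_mul_of_left_le_normalizer_right _ _
        ((Subgroup.zpowers_le.2 haH).trans hQn)] at hw'
      obtain ⟨_, ⟨i, rfl⟩, q, hq, rfl⟩ := hw'
      refine ⟨i, ?_⟩
      show (QuotientGroup.mk _ : H' ⧸ Q.subgroupOf H') ^ i = _
      rw [← QuotientGroup.mk_zpow, QuotientGroup.eq, Subgroup.mem_subgroupOf]
      simpa [mul_assoc] using hq
    rw [Subgroup.index_eq_card, ← orderOf_eq_card_of_forall_mem_zpowers hgen]
    refine orderOf_dvd_of_pow_eq_one ?_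
    rw [← QuotientGroup.mk_pow]
    exact (QuotientGroup.eq_one_iff _).2 (by rw [Subgroup.mem_subgroupOf]; push_cast; rw [hap]; exact one_mem Q)
  have hsep : Cfsg.IsPSolvable p H' := by
    refine ⟨2, ![⊥, Q.subgroupOf H', ⊤], rfl, rfl, ?_, ?_, ?_⟩
    · intro i j hij
      fin_cases i <;> fin_cases j <;> first | exact le_rfl | exact bot_le | exact le_top | simp at hij
    · intro i
      fin_cases i
      · exact (inferInstance : (⊥ : Subgroup H').Normal)
      · exact hn
      · exact (inferInstance : (⊤ : Subgroup H').Normal)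
    · intro i
      fin_cases i
      · right
        show ((⊥ : Subgroup H').relIndex (Q.subgroupOf H')).Coprime p
        rw [Subgroup.relIndex_bot_left, Nat.card_congr (Subgroup.subgroupOfEquivOfLe le_sup_left).toEquiv]
        exact hQ
      · left
        have hidx' : (Q.subgroupOf H').index ∣ p ^ 1 := by rwa [pow_one]
        obtain ⟨m, -, hm⟩ := (Nat.dvd_prime_pow (Fact.out : p.Prime)).1 hidx'
        exact ⟨m, by show (Q.subgroupOf H').relIndex ⊤ = _; rw [Subgroup.relIndex_top_right]; exact hm⟩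
  have hna : a ∉ (Cfsg.pCore p H').map H'.subtype := by
    rintro ⟨a', ha', hae⟩
    refine hQa ?_
    haveI := CfsgLib.Coprime.pCore_normal' (G := H') p
    rw [Subgroup.commutator_eq_bot_iff_le_centralizer, Subgroup.le_centralizer_iff, Subgroup.zpowers_le,
      Subgroup.mem_centralizer_iff]
    intro q hq
    obtain ⟨k, hk⟩ := (CfsgLib.Coprime.pCore_isPGroup (G := H') p).exists_card_eq
    have hdisj : Disjoint (Q.subgroupOf H') (Cfsg.pCore p H') := by
      refine disjoint_iff.2 (Subgroup.inf_eq_bot_of_coprime ?_)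
      rw [hk, Nat.card_congr (Subgroup.subgroupOfEquivOfLe le_sup_left).toEquiv]
      exact hQ.pow_right k
    rw [← hae]
    exact congrArg Subtype.val (Subgroup.commute_of_normal_of_disjoint _ _ hn inferInstance hdisj
      ⟨q, Subgroup.mem_sup_left hq⟩ a' hq ha').eq
  obtain ⟨hp3, K, L, hL, hK, he⟩ := CfsgLib.Fusion.slTwoThree_of_not_mem_pCore hp V H' hV
    (hH'H.trans hHV) (le_bot_iff.1 ((inf_le_inf_right _ hH'H).trans hf.le)) hsep a
    (Subgroup.mem_sup_right (Subgroup.mem_zpowers a)) ha hna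
  exact ⟨hp3, K, L, hL, hK.trans hH'H, he⟩

end Cfsg.Agent.S0594
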