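import Cfsg.Statements.S0595
import Cfsg.Agent.Lib.Qd.QdGroup

set_option autoImplicit false
open Cfsg

namespace Cfsg.Agent.S0595

/-- For odd p, a faithful action on an elementary abelian p-group that is not p-stable forces non-abelian Sylow 2-subgroups. -/
theorem result {G : Type*} [Group G] [Finite G] {p : ℕ} [Fact p.Prime] (hp : p ≠ 2) (V H : Subgroup G) (hV : Cfsg.IsElementaryAbelian p V) (hHV : H ≤ Subgroup.normalizer (V : Set G)) (hf : H ⊓ Subgroup.centralizer (V : Set G) = ⊥) (a : G) (haH : a ∈ H) (hq : ⁅⁅V, Subgroup.zpowers a⁆, Subgroup.zpowers a⁆ = ⊥) (hna : a ∉ (Cfsg.pCore p H).map H.subtype) (T : Sylow 2 H) : ¬ IsMulCommutative T := by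
  intro hT
  have hnm : (⟨a, haH⟩ : H) ∉ Cfsg.pCore p H := fun h => hna ⟨_, h, rfl⟩
  obtain ⟨g, y, hy, hye⟩ := CfsgLib.Qd.exists_pair_of_not_mem (p := p) (MonoidHom.id H)
    Function.surjective_id hnm
  have hy' : (y : G) ∈ Subgroup.closure {a, (g : G) * a * (g : G)⁻¹} := by
    have := Subgroup.mem_map_of_mem H.subtype hy
    rwa [MonoidHom.map_closure, Set.image_pair] at this
  obtain ⟨-, K, L, hL, hK, ⟨e⟩⟩ := CfsgLib.Qd.sections_of_pair hp V
    (fun v => ⟨1, Subtype.ext (by simpa using hV.2 v v.2)⟩) (hHV haH)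
    (hHV (mul_mem (mul_mem g.2 haH) (inv_mem g.2))) hq (CfsgLib.Qd.quadratic_conj (hHV g.2) hq)
    ⟨_, hy', fun e he => hye e (Subtype.ext (Subgroup.mem_bot.1 (hf ▸
      (⟨pow_mem y.2 _, he⟩ : (y : G) ^ p ^ e ∈ H ⊓ Subgroup.centralizer (V : Set G)))))⟩
  have hKH : K ≤ H := hK.trans ((Subgroup.closure_le _).2 (by
    rintro z (rfl | rfl)
    · exact haH
    · exact mul_mem (mul_mem g.2 haH) (inv_mem g.2)))
  haveI := Fact.mk Nat.prime_two
  refine CfsgLib.Qd.not_comm_of_surjective hp (e.toMonoidHom.comp (QuotientGroup.mk' _))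
    (e.surjective.comp (QuotientGroup.mk'_surjective _)) fun S x hx z hz => ?_
  obtain ⟨U, hU⟩ := (S.2.map (Subgroup.inclusion hKH)).exists_le_sylow
  obtain ⟨r, hr⟩ := MulAction.exists_smul_eq H T U
  rw [← hr, Sylow.coe_subgroup_smul] at hU
  obtain ⟨x', hx', hxe⟩ := hU (Subgroup.mem_map_of_mem _ hx)
  obtain ⟨z', hz', hze⟩ := hU (Subgroup.mem_map_of_mem _ hz)
  refine Subgroup.inclusion_injective hKH ?_
  rw [map_mul, map_mul, ← hxe, ← hze]
  refine ((map_mul _ x' z').symm.trans (Eq.trans ?_ (map_mul _ z' x')))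
  exact congrArg _ (congrArg Subtype.val (hT.is_comm.comm (⟨x', hx'⟩ : (T : Subgroup H)) ⟨z', hz'⟩))

end Cfsg.Agent.S0595
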