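import Cfsg.Statements.S0597
import Cfsg.Agent.Lib.Coprime.Core
import Cfsg.Agent.Lib.Coprime.Subnormal

set_option autoImplicit false
open Cfsg
open scoped commutatorElement

namespace Cfsg.Agent.S0597

/-- If two subnormal subgroups of a faithful group on an elementary abelian p-group satisfy [V, E₁, E₂] = 1, then their commutator lies in the largest normal p-subgroup. -/
theorem result {G : Type*} [Group G] [Finite G] {p : ℕ} [Fact p.Prime] (V H : Subgroup G) (hV : Cfsg.IsElementaryAbelian p V) (hHV : H ≤ Subgroup.normalizer (V : Set G)) (hf : H ⊓ Subgroup.centralizer (V : Set G) = ⊥) (E₁ E₂ : Subgroup G) (h₁ : E₁ ≤ H) (h₂ : E₂ ≤ H) (hs₁ : (E₁.subgroupOf H).IsSubnormal) (hs₂ : (E₂.subgroupOf H).IsSubnormal) (hc : ⁅⁅V, E₁⁆, E₂⁆ = ⊥) : ⁅E₁, E₂⁆ ≤ (Cfsg.pCore p H).map H.subtype := by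
  set X := ⁅E₁, E₂⁆ with hX
  set W := ⁅V, E₁⁆ with hW
  have hcV : ∀ v ∈ V, ∀ w ∈ V, v * w = w * v := fun v hv w hw =>
    congrArg Subtype.val (isMulCommutative_iff.1 hV.1 ⟨v, hv⟩ ⟨w, hw⟩)
  have hWV : W ≤ V := Subgroup.le_normalizer_iff_commutator_le_left.1 (h₁.trans hHV)
  have hW2 : ∀ w ∈ W, ∀ f ∈ E₂, f * w = w * f := fun w hw f hf => by
    rw [Subgroup.commutator_eq_bot_iff_le_centralizer] at hc
    exact Subgroup.mem_centralizer_iff.1 (hc hw) f hf
  have hW1 : ∀ v ∈ V, ∀ e ∈ E₁, v * e * v⁻¹ * e⁻¹ ∈ W := fun v hv e he => by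
    have h := Subgroup.commutator_mem_commutator hv he
    rwa [commutatorElement_def] at h
  have hnW : ∀ e ∈ E₁, ∀ w ∈ W, e * w * e⁻¹ ∈ W := fun e he w hw => by
    have h := hW1 w (hWV hw) e he
    have h2 := W.mul_mem (W.inv_mem h) hw
    rwa [show (w * e * w⁻¹ * e⁻¹)⁻¹ * w = e * w * e⁻¹ by group] at h2
  set S : Subgroup G := (Subgroup.centralizer (W : Set G)) with hS
  have hXW : X ≤ S := by
    rw [hX, Subgroup.commutator_le]
    intro e he f hf
    refine Subgroup.mem_centralizer_iff.2 fun w hw => ?_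
    rw [commutatorElement_def]
    have h1 : f * (e⁻¹ * w * e) = (e⁻¹ * w * e) * f := hW2 _ (by
      simpa using hnW e⁻¹ (inv_mem he) w hw) f hf
    have h2 : f⁻¹ * w = w * f⁻¹ := hW2 w hw _ (inv_mem hf)
    calc w * (e * f * e⁻¹ * f⁻¹) = e * ((e⁻¹ * w * e) * f) * e⁻¹ * f⁻¹ := by group
      _ = e * f * e⁻¹ * (w * f⁻¹) := by rw [← h1]; group
      _ = e * f * e⁻¹ * f⁻¹ * w := by rw [← h2]; group
  have hXH : X ≤ H := by
    rw [hX, Subgroup.commutator_le]
    intro e he f hf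
    rw [commutatorElement_def]
    exact H.mul_mem (H.mul_mem (H.mul_mem (h₁ he) (h₂ hf)) (H.inv_mem (h₁ he))) (H.inv_mem (h₂ hf))
  -- the elements of `X` act trivially modulo `W`
  let T : Subgroup G :=
    { carrier := {c | c ∈ H ∧ c ∈ S ∧ ∀ v ∈ V, c * v * c⁻¹ * v⁻¹ ∈ W}
      one_mem' := ⟨one_mem _, one_mem _, fun v _ => by simp⟩
      mul_mem' := fun {a b} ha hb => ⟨mul_mem ha.1 hb.1, mul_mem ha.2.1 hb.2.1, fun v hv => by
        have h1 := hb.2.2 v hv
        have h2 : a * (b * v * b⁻¹ * v⁻¹) = (b * v * b⁻¹ * v⁻¹) * a :=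
          (Subgroup.mem_centralizer_iff.1 ha.2.1 _ h1).symm
        have e : a * b * v * (a * b)⁻¹ * v⁻¹ = (b * v * b⁻¹ * v⁻¹) * (a * v * a⁻¹ * v⁻¹) := by
          calc a * b * v * (a * b)⁻¹ * v⁻¹ = (a * (b * v * b⁻¹ * v⁻¹)) * v * a⁻¹ * v⁻¹ := by group
            _ = _ := by rw [h2]; group
        rw [e]
        exact W.mul_mem h1 (ha.2.2 v hv)⟩
      inv_mem' := fun {a} ha => ⟨inv_mem ha.1, inv_mem ha.2.1, fun v hv => by
        have h1 := ha.2.2 v hv
        have h2 : a⁻¹ * (a * v * a⁻¹ * v⁻¹)⁻¹ = (a * v * a⁻¹ * v⁻¹)⁻¹ * a⁻¹ :=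
          (Subgroup.mem_centralizer_iff.1 (S.inv_mem ha.2.1) _ (W.inv_mem h1)).symm
        have e : a⁻¹ * v * a⁻¹⁻¹ * v⁻¹ = (a * v * a⁻¹ * v⁻¹)⁻¹ := by
          calc a⁻¹ * v * a⁻¹⁻¹ * v⁻¹ = (a⁻¹ * (a * v * a⁻¹ * v⁻¹)⁻¹) * a := by group
            _ = _ := by rw [h2, inv_mul_cancel_right]
        rw [e]
        exact W.inv_mem h1⟩ }
  have hXT : X ≤ T := by
    rw [hX, Subgroup.commutator_le]
    intro e he f hf
    refine ⟨hXH (Subgroup.commutator_mem_commutator he hf), hXW (Subgroup.commutator_mem_commutator he hf),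
      fun v hv => ?_⟩
    rw [commutatorElement_def]
    have hv1 : f⁻¹ * v * f ∈ V := by
      simpa using (Subgroup.mem_normalizer_iff.1 (hHV (H.inv_mem (h₂ hf))) v).1 hv
    have hv2 : e⁻¹ * (f⁻¹ * v * f) * e ∈ V := by
      simpa using (Subgroup.mem_normalizer_iff.1 (hHV (H.inv_mem (h₁ he))) _).1 hv1
    set u := f⁻¹ * v * f with hu
    have hw1 : e⁻¹ * u * e * u⁻¹ ∈ W := by
      have h := W.inv_mem (hW1 u hv1 e⁻¹ (inv_mem he))
      rwa [show (u * e⁻¹ * u⁻¹ * e⁻¹⁻¹)⁻¹ = e⁻¹ * u * e * u⁻¹ by group] at h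
    set w := e⁻¹ * u * e * u⁻¹ with hwdef
    have hw2 : f * w = w * f := hW2 w hw1 f hf
    have hw3 : e * (w * v) * e⁻¹ * v⁻¹ ∈ W := by
      have h := W.mul_mem (hnW e he w hw1) (W.inv_mem (hW1 v hv e he))
      rwa [show e * w * e⁻¹ * (v * e * v⁻¹ * e⁻¹)⁻¹ = e * (w * v) * e⁻¹ * v⁻¹ by group] at h
    have key : e * f * e⁻¹ * f⁻¹ * v * (e * f * e⁻¹ * f⁻¹)⁻¹ * v⁻¹ = e * (w * v) * e⁻¹ * v⁻¹ := by
      calc _ = e * (f * (e⁻¹ * u * e * u⁻¹) * u * f⁻¹) * e⁻¹ * v⁻¹ := by rw [hu]; group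
        _ = _ := by rw [← hwdef, hw2, hu]; group
    rw [key]
    exact hw3
  have hXp : IsPGroup p X := fun c => ⟨1, Subtype.ext (by
    obtain ⟨hcH, hcS, hcv⟩ := hXT c.2
    rw [pow_one]
    have hmem : (c : G) ^ p ∈ H ⊓ Subgroup.centralizer (V : Set G) := by
      refine ⟨pow_mem hcH p, Subgroup.mem_centralizer_iff.2 fun v hv => ?_⟩
      set w := (c : G) * v * (c : G)⁻¹ * v⁻¹ with hw
      have hwW : w ∈ W := hcv v hv
      have hcw : (c : G) * w = w * c := (Subgroup.mem_centralizer_iff.1 hcS w hwW).symm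
      have hk : ∀ k : ℕ, (c : G) ^ k * v = w ^ k * v * (c : G) ^ k := by
        intro k
        induction k with
        | zero => simp
        | succ k ih =>
          calc (c : G) ^ (k + 1) * v = c * ((c : G) ^ k * v) := by rw [pow_succ', mul_assoc]
            _ = (c * w ^ k) * v * (c : G) ^ k := by rw [ih]; group
            _ = w ^ k * (w * v * c) * (c : G) ^ k := by
              rw [((show Commute (c : G) w from hcw).pow_right k).eq, hw]; group
            _ = w ^ (k + 1) * v * (c : G) ^ (k + 1) := by rw [pow_succ w, pow_succ' (c : G)]; group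
      rw [hk p, hV.2 w (hWV hwW), one_mul]
    rw [hf, Subgroup.mem_bot] at hmem
    exact hmem)⟩
  have hnorm : ∀ (A B : Subgroup G), A ≤ Subgroup.normalizer ((⁅A, B⁆ : Subgroup G) : Set G) := by
    intro A B a ha
    refine Subgroup.mem_normalizer_fintype fun n hn => ?_
    induction hn using Subgroup.closure_induction with
    | mem x hx =>
      obtain ⟨a', ha', b, hb, rfl⟩ := hx
      rw [show a * ⁅a', b⁆ * a⁻¹ = ⁅a * a', b⁆ * ⁅a, b⁆⁻¹ by simp only [commutatorElement_def]; group]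
      exact mul_mem (Subgroup.commutator_mem_commutator (mul_mem ha ha') hb)
        (inv_mem (Subgroup.commutator_mem_commutator ha hb))
    | one => simp
    | mul x y _ _ hx hy =>
      rw [show a * (x * y) * a⁻¹ = a * x * a⁻¹ * (a * y * a⁻¹) by group]
      exact mul_mem hx hy
    | inv x _ hx =>
      rw [show a * x⁻¹ * a⁻¹ = (a * x * a⁻¹)⁻¹ by group]
      exact inv_mem hx
  have hN : (E₁ ⊔ E₂).subgroupOf H ≤ Subgroup.normalizer ((X.subgroupOf H : Subgroup H) : Set H) := by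
    intro g hg
    have hg' : (g : G) ∈ Subgroup.normalizer (X : Set G) := (sup_le (hnorm E₁ E₂)
      (by rw [Subgroup.commutator_comm]; exact hnorm E₂ E₁)) hg
    exact Subgroup.mem_normalizer_iff.2 fun x => Subgroup.mem_normalizer_iff.1 hg' (x : G)
  have hXle : X ≤ E₁ ⊔ E₂ := by
    rw [hX, Subgroup.commutator_le]
    intro e he f hf
    rw [commutatorElement_def]
    exact mul_mem (mul_mem (mul_mem (Subgroup.mem_sup_left he) (Subgroup.mem_sup_right hf))
      (inv_mem (Subgroup.mem_sup_left he))) (inv_mem (Subgroup.mem_sup_right hf))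
  have hsub : (X.subgroupOf H).IsSubnormal := by
    refine Subgroup.IsSubnormal.trans (K := (E₁ ⊔ E₂).subgroupOf H)
      (fun x hx => hXle hx) ?_ ?_
    · exact (Subgroup.normal_subgroupOf_of_le_normalizer hN).isSubnormal
    · rw [Subgroup.subgroupOf_sup h₁ h₂]
      exact CfsgLib.Coprime.isSubnormal_sup hs₁ hs₂
  have h := CfsgLib.Coprime.le_pCore_of_isSubnormal hsub
    (hXp.of_equiv (Subgroup.subgroupOfEquivOfLe hXH).symm)
  rw [← Subgroup.map_subgroupOf_eq_of_le hXH]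
  exact Subgroup.map_mono h

end Cfsg.Agent.S0597
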