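import Cfsg.Statements.S0600
import Cfsg.Agent.Lib.Fusion.SylowCenterModule

set_option autoImplicit false
open Cfsg

namespace Cfsg.Agent.S0600

/-- A normal elementary abelian p-subgroup generated by the fixed points of the Sylow p-subgroups admits no nontrivial normal p-subgroup of G modulo its centralizer. -/
theorem result {G : Type*} [Group G] [Finite G] {p : ℕ} [Fact p.Prime] (V : Subgroup G) [V.Normal] (hV : Cfsg.IsElementaryAbelian p V) (hgen : V = ⨆ S : Sylow p G, V ⊓ Subgroup.centralizer ((S : Subgroup G) : Set G)) : Cfsg.pCore p (G ⧸ Subgroup.centralizer (V : Set G)) = ⊥ := by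
  haveI := CfsgLib.Coprime.pCore_normal' (G := G ⧸ Subgroup.centralizer (V : Set G)) p
  set C := Subgroup.centralizer (V : Set G) with hC
  set Q := Cfsg.pCore p (G ⧸ C) with hQ
  have h := CfsgLib.Fusion.eq_centralizer_of_generated V
    (fun S => V ⊓ Subgroup.centralizer ((S : Subgroup G) : Set G)) (fun S => inf_le_right) hgen
    (Q.comap (QuotientGroup.mk' C))
    (fun x hx => by
      rw [Subgroup.mem_comap, show QuotientGroup.mk' C x = 1 from (QuotientGroup.eq_one_iff x).2 hx]
      exact one_mem _)
    (by
      obtain ⟨k, hk⟩ := (CfsgLib.Coprime.pCore_isPGroup (G := G ⧸ C) p).exists_card_eq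
      refine ⟨k, ?_⟩
      have h1 := Subgroup.relIndex_comap (⊥ : Subgroup (G ⧸ C)) (QuotientGroup.mk' C)
        (Q.comap (QuotientGroup.mk' C))
      rw [MonoidHom.comap_bot, QuotientGroup.ker_mk',
        Subgroup.map_comap_eq_self_of_surjective (QuotientGroup.mk'_surjective C),
        Subgroup.relIndex_bot_left] at h1
      exact h1.trans hk)
  have h2 := congrArg (Subgroup.map (QuotientGroup.mk' C)) h
  rwa [Subgroup.map_comap_eq_self_of_surjective (QuotientGroup.mk'_surjective C),
    QuotientGroup.map_mk'_self] at h2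

end Cfsg.Agent.S0600
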