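import Cfsg.Statements.S0602
import Cfsg.Agent.Lib.PGroup.ElementaryBasic

set_option autoImplicit false
open Cfsg

namespace Cfsg.Agent.S0602

/-- The Thompson subgroup is characteristic, and nontrivial as soon as p divides the group order. -/
theorem result {G : Type*} [Group G] [Finite G] {p : ℕ} [Fact p.Prime] : (Cfsg.thompsonSubgroup p G).Characteristic ∧ (p ∣ Nat.card G → Cfsg.thompsonSubgroup p G ≠ ⊥) := by
  refine ⟨Subgroup.characteristic_iff_map_le.2 fun φ => ?_, fun hd hbot => ?_⟩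
  · rw [Cfsg.thompsonSubgroup, Subgroup.map_le_iff_le_comap]
    refine sSup_le fun A hA => ?_
    rw [← Subgroup.map_le_iff_le_comap]
    refine le_sSup ⟨CfsgLib.Fusion.isElementaryAbelian_map _ hA.1, fun B hB => ?_⟩
    rw [Subgroup.card_map_of_injective φ.injective]
    exact hA.2 B hB
  · obtain ⟨x, hx⟩ := exists_prime_orderOf_dvd_card' p hd
    obtain ⟨A, hA⟩ := CfsgLib.Fusion.exists_isMaxEA p (⊤ : Subgroup G)
    have hA0 : A = ⊥ := le_bot_iff.1 (hbot ▸ le_sSup (show A ∈ Cfsg.maxElementaryAbelianSubgroups p G from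
      ⟨hA.2.1, fun B hB => hA.2.2 B le_top hB⟩))
    have h1 := hA.2.2 _ le_top (CfsgLib.EABasic.isElementaryAbelian_zpowers (p := p) (x := x) (hx ▸ pow_orderOf_eq_one x))
    rw [Nat.card_zpowers, hx, hA0, Subgroup.card_bot] at h1
    exact absurd h1 (not_le.2 (Fact.out : p.Prime).one_lt)

end Cfsg.Agent.S0602
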