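import Cfsg.Statements.S0603
import Cfsg.Agent.Lib.PGroup.ElementaryBasic

set_option autoImplicit false
open Cfsg

namespace Cfsg.Agent.S0603

/-- The Thompson subgroup of any subgroup containing J(G) is J(G) itself. -/
theorem result {G : Type*} [Group G] [Finite G] {p : ℕ} [Fact p.Prime] (U : Subgroup G) (hU : Cfsg.thompsonSubgroup p G ≤ U) : Cfsg.thompsonSubgroupOf p U = Cfsg.thompsonSubgroup p G := by
  rw [CfsgLib.Fusion.thompsonSubgroupOf_eq, Cfsg.thompsonSubgroup]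
  congr 1
  ext A
  constructor
  · rintro ⟨hAU, hAe, hmax⟩
    obtain ⟨B, -, hBe, hBmax⟩ := CfsgLib.Fusion.exists_isMaxEA p (⊤ : Subgroup G)
    have hB : B ∈ Cfsg.maxElementaryAbelianSubgroups p G := ⟨hBe, fun C hC => hBmax C le_top hC⟩
    exact ⟨hAe, fun C hC => (hBmax C le_top hC).trans (hmax B ((le_sSup hB).trans hU) hBe)⟩
  · rintro ⟨hAe, hmax⟩
    exact ⟨le_trans (le_sSup (show A ∈ Cfsg.maxElementaryAbelianSubgroups p G from ⟨hAe, hmax⟩)) hU, hAe, fun B _ hB => hmax B hB⟩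

end Cfsg.Agent.S0603
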