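import Cfsg.Statements.S0604
import Cfsg.Agent.Lib.PGroup.ElementaryBasic

set_option autoImplicit false
open Cfsg

namespace Cfsg.Agent.S0604

/-- The Thompson subgroup of G is the join of the Thompson subgroups of its Sylow p-subgroups. -/
theorem result {G : Type*} [Group G] [Finite G] {p : ℕ} [Fact p.Prime] : Cfsg.thompsonSubgroup p G = ⨆ S : Sylow p G, Cfsg.thompsonSubgroupOf p (S : Subgroup G) := by
  refine le_antisymm (sSup_le fun A hA => ?_) (iSup_le fun S => ?_)
  · obtain ⟨S, hS⟩ := (CfsgLib.EABasic.isPGroup_of_isElementaryAbelian hA.1).exists_le_sylow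
    exact le_trans (CfsgLib.Fusion.le_thompsonSubgroupOf ⟨hS, hA.1, fun B _ hB => hA.2 B hB⟩) (le_iSup (fun T : Sylow p G => Cfsg.thompsonSubgroupOf p (T : Subgroup G)) S)
  · rw [CfsgLib.Fusion.thompsonSubgroupOf_eq]
    refine sSup_le fun A hA => le_sSup ⟨hA.2.1, fun B hB => ?_⟩
    obtain ⟨T, hT⟩ := (CfsgLib.EABasic.isPGroup_of_isElementaryAbelian hB).exists_le_sylow
    obtain ⟨g, hg⟩ := MulAction.exists_smul_eq G T S
    have hgS : CfsgLib.Fusion.conjBy g (T : Subgroup G) = S := by rw [← hg]; rfl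
    have h1 := hA.2.2 (CfsgLib.Fusion.conjBy g B) ((CfsgLib.Fusion.conjBy_mono hT).trans hgS.le)
      (CfsgLib.Fusion.isElementaryAbelian_map _ hB)
    rwa [CfsgLib.Fusion.card_conjBy] at h1

end Cfsg.Agent.S0604
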