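import Cfsg.Statements.S0605
import Cfsg.Agent.Lib.PGroup.ElementaryBasic

set_option autoImplicit false
open Cfsg

namespace Cfsg.Agent.S0605

/-- Elements of order p in the centralizer of the Thompson subgroup belong to the Thompson subgroup (so to its centre). -/
theorem result {G : Type*} [Group G] [Finite G] {p : ℕ} [Fact p.Prime] (x : G) (hx : x ∈ Subgroup.centralizer (Cfsg.thompsonSubgroup p G : Set G)) (ho : orderOf x = p) : x ∈ Cfsg.thompsonSubgroup p G := by
  obtain ⟨A, hA⟩ := CfsgLib.Fusion.exists_isMaxEA p (⊤ : Subgroup G)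
  have hAJ : A ≤ Cfsg.thompsonSubgroup p G :=
    le_sSup (show A ∈ Cfsg.maxElementaryAbelianSubgroups p G from ⟨hA.2.1, fun B hB => hA.2.2 B le_top hB⟩)
  have he := CfsgLib.EABasic.isElementaryAbelian_sup hA.2.1
    (CfsgLib.EABasic.isElementaryAbelian_zpowers (p := p) (x := x) (ho ▸ pow_orderOf_eq_one x)) fun a ha b hb => by
      obtain ⟨i, rfl⟩ := Subgroup.mem_zpowers_iff.1 hb
      exact (Commute.zpow_right (Subgroup.mem_centralizer_iff.1 hx a (hAJ ha)) i)
  have heq := Subgroup.eq_of_le_of_card_ge (le_sup_left : A ≤ A ⊔ Subgroup.zpowers x) (hA.2.2 _ le_top he)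
  exact hAJ (heq.symm ▸ Subgroup.mem_sup_right (Subgroup.mem_zpowers x))

end Cfsg.Agent.S0605
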