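import Cfsg.Statements.S0606
import Cfsg.Agent.Lib.PGroup.ElementaryBasic

set_option autoImplicit false
open Cfsg

namespace Cfsg.Agent.S0606

/-- Elementary abelian p-subgroups of maximal order are best offenders on any normal elementary abelian p-subgroup. -/
theorem result {G : Type*} [Group G] [Finite G] {p : ℕ} [Fact p.Prime] (V : Subgroup G) [V.Normal] (hV : Cfsg.IsElementaryAbelian p V) (A : Subgroup G) (hA : A ∈ Cfsg.maxElementaryAbelianSubgroups p G) : Cfsg.IsBestOffenderOn p V A := by
  refine ⟨fun B hB => ?_, ?_, fun a ha => ?_⟩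
  · set W := V ⊓ Subgroup.centralizer (B : Set G) with hW
    have hBe := CfsgLib.EABasic.isElementaryAbelian_le hA.1 hB
    have hc : ∀ b ∈ B, ∀ w ∈ W, b * w = w * b := fun b hb w hw => Subgroup.mem_centralizer_iff.1 hw.2 b hb
    have h1 := CfsgLib.EABasic.card_sup_mul_card_inf_of_le_normalizer (H := B) (N := W) fun b hb =>
      Subgroup.centralizer_le_normalizer _ (Subgroup.mem_centralizer_iff.2 fun w hw => (hc b hb w hw).symm)
    have h2 := hA.2 _ (CfsgLib.EABasic.isElementaryAbelian_sup hBe
      (CfsgLib.EABasic.isElementaryAbelian_le hV inf_le_left) hc)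
    have h3 : Nat.card (B ⊓ W : Subgroup G) ≤ Nat.card (V ⊓ Subgroup.centralizer (A : Set G) : Subgroup G) :=
      Subgroup.card_le_of_le fun y hy => ⟨hy.2.1, Subgroup.mem_centralizer_iff.2 fun a ha =>
        CfsgLib.EABasic.comm_of_isElementaryAbelian hA.1 ha (hB hy.1)⟩
    rw [← h1]
    exact Nat.mul_le_mul h2 h3
  · refine Subgroup.commutator_le.2 fun a ha b hb => ?_
    rw [commutatorElement_eq_one_iff_mul_comm.2 (CfsgLib.EABasic.comm_of_isElementaryAbelian hA.1 ha hb)]
    exact one_mem _
  · rw [hA.1.2 a ha]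
    exact one_mem _

end Cfsg.Agent.S0606
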