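import Cfsg.Statements.S0615
import Cfsg.Agent.Lib.Fusion.FFPair.SubnormalPair

set_option autoImplicit false
open Cfsg

namespace Cfsg.Agent.S0615

/-- Two subnormal subgroups acting irreducibly on their incomparable commutator modules, in a faithful group with trivial largest normal p-subgroup, generate their direct product, and the commutator module splits accordingly. -/
theorem result {G : Type*} [Group G] [Finite G] {p : ℕ} [Fact p.Prime] (V E E₁ E₂ : Subgroup G) (hV : Cfsg.IsElementaryAbelian p V) (hEV : E ≤ Subgroup.normalizer (V : Set G)) (hf : E ⊓ Subgroup.centralizer (V : Set G) = ⊥) (hgen : E = E₁ ⊔ E₂) (hs₁ : (E₁.subgroupOf E).IsSubnormal) (hs₂ : (E₂.subgroupOf E).IsSubnormal) (hOp : Cfsg.pCore p ↥E = ⊥) (hirr₁ : (∀ U : Subgroup G, U ≤ ⁅V, E₁⁆ → E₁ ≤ Subgroup.normalizer (U : Set G) → U = ⊥ ∨ U = ⁅V, E₁⁆)) (hirr₂ : (∀ U : Subgroup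 G, U ≤ ⁅V, E₂⁆ → E₂ ≤ Subgroup.normalizer (U : Set G) → U = ⊥ ∨ U = ⁅V, E₂⁆)) (h12 : ¬ ⁅V, E₁⁆ ≤ ⁅V, E₂⁆) (h21 : ¬ ⁅V, E₂⁆ ≤ ⁅V, E₁⁆) (hc₁ : 2 < Nat.card E₁) (hc₂ : 2 < Nat.card E₂) : ⁅E₁, E₂⁆ = ⊥ ∧ E₁ ⊓ E₂ = ⊥ ∧ ⁅V, E₁⁆ ⊓ ⁅V, E₂⁆ = ⊥ ∧ ⁅V, E⁆ = ⁅V, E₁⁆ ⊔ ⁅V, E₂⁆ := by
  have X : CfsgLib.FFPair.SubCtx p V E := ⟨hV, hEV, hf, hOp⟩
  have hP : CfsgLib.FFPair.Piece V E E₁ := ⟨hgen ▸ le_sup_left, hs₁, hirr₁, hc₁⟩
  have hQ : CfsgLib.FFPair.Piece V E E₂ := ⟨hgen ▸ le_sup_right, hs₂, hirr₂, hc₂⟩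
  have hQW := X.invariant E₁ E₂ hP hQ rfl h12 h21
  have hPW := X.invariant E₂ E₁ hQ hP rfl h21 h12
  obtain ⟨hbot, hfix₁, hfix₂, hcomm⟩ := X.indep hP hQ hQW hPW h21
  refine ⟨?_, ?_, hbot, ?_⟩
  · rw [Subgroup.commutator_eq_bot_iff_le_centralizer]
    exact Subgroup.le_centralizer_iff.1 hcomm
  · refine eq_bot_iff.2 fun g hg => Subgroup.mem_bot.2 (Subgroup.mem_bot.1 (hf.le
      ⟨hP.le hg.1, Subgroup.mem_centralizer_iff.2 fun v hv => ?_⟩))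
    have h1 : v * g * v⁻¹ * g⁻¹ ∈ ⁅V, E₁⁆ ⊓ ⁅V, E₂⁆ :=
      ⟨Subgroup.commutator_mem_commutator hv hg.1, Subgroup.commutator_mem_commutator hv hg.2⟩
    rw [hbot, Subgroup.mem_bot, mul_inv_eq_one, mul_inv_eq_iff_eq_mul] at h1
    exact h1
  · rw [hgen]
    refine le_antisymm ?_ (sup_le (Subgroup.commutator_mono le_rfl le_sup_left)
      (Subgroup.commutator_mono le_rfl le_sup_right))
    exact CfsgLib.FFPair.comm_sup_le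
      (CfsgLib.Coprime.sup_le_normalizer (X.le_normalizer_module hP.le) hPW)
      (CfsgLib.Coprime.sup_le_normalizer hQW (X.le_normalizer_module hQ.le)) le_sup_left le_sup_right

end Cfsg.Agent.S0615
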