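import Cfsg.Statements.S0617
import Cfsg.Agent.Lib.Fusion.FFPair.Global

set_option autoImplicit false
open Cfsg

namespace Cfsg.Agent.S0617

/-- Structure Theorem for failure of factorization: a faithful group generated by best offenders, with self-centralizing p'-core, is a direct product of copies of SL(2, p) (p = 2 or 3), each acting on its own plane in V, which is the direct product of these planes and C_V(H). -/
theorem result {G : Type*} [Group G] [Finite G] {p : ℕ} [Fact p.Prime] (V H : Subgroup G) (hV : Cfsg.IsElementaryAbelian p V) (hHV : H ≤ Subgroup.normalizer (V : Set G)) (hf : H ⊓ Subgroup.centralizer (V : Set G) = ⊥) (hS1 : Subgroup.centralizer (Cfsg.pPrimeCore p ↥H : Set ↥H) ≤ Cfsg.pPrimeCore p ↥H) (hS3 : H = ⨆ A : {A : Subgroup G // A ≤ H ∧ Cfsg.IsBestOffenderOn p V A}, (A : Subgroup G)) (hH1 : H ≠ ⊥) : (p = 2 ∨ p = 3) ∧ (∀ E : {E : Subgroup G // ∃ A : Subgroup G,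 A ≤ H ∧ Cfsg.IsBestOffenderOn p V A ∧ ⁅V, A⁆ ≠ ⊥ ∧ (∀ B : Subgroup G, B ≤ A → Cfsg.IsBestOffenderOn p V B → ⁅V, B⁆ ≠ ⊥ → B = A) ∧ E = ⁅((Cfsg.pPrimeCore p ↥H).map H.subtype), A⁆ ⊔ A}, H ≤ Subgroup.normalizer ((E : Subgroup G) : Set G) ∧ Nonempty (↥(E : Subgroup G) ≃* Matrix.SpecialLinearGroup (Fin 2) (ZMod p)) ∧ Nat.card ↥(⁅V, (E : Subgroup G)⁆) = p ^ 2) ∧ iSupIndep (fun E : {E : Subgroup G // ∃ A : Subgroup G, A ≤ H ∧ Cfsg.IsBestOffenderOn p V A ∧ ⁅V, A⁆ ≠ ⊥ ∧ (∀ B : Subgroup G, B ≤ A → Cfsg.IsBestOffenderOn p V B → ⁅V, B⁆ ≠ ⊥ → B = A) ∧ E = ⁅((Cfsg.pPrimeCore p ↥H).map H.subtype), A⁆ ⊔ A} => (E : Subgroup G)) ∧ (⨆ E : {E : Subgroup G // ∃ A : Subgroup G, A ≤ H ∧ Cfsg.IsBestOffenderOn p V A ∧ ⁅V, A⁆ ≠ ⊥ ∧ (∀ B : Subgroup G, B ≤ A → Cfsg.IsBestOffenderOn p V B → ⁅V, B⁆ ≠ ⊥ → B = A) ∧ E = ⁅((Cfsg.pPrimeCore p ↥H).map H.subtype), A⁆ ⊔ A}, (E : Subgroup G)) = H ∧ iSupIndep (fun o :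 Option {E : Subgroup G // ∃ A : Subgroup G, A ≤ H ∧ Cfsg.IsBestOffenderOn p V A ∧ ⁅V, A⁆ ≠ ⊥ ∧ (∀ B : Subgroup G, B ≤ A → Cfsg.IsBestOffenderOn p V B → ⁅V, B⁆ ≠ ⊥ → B = A) ∧ E = ⁅((Cfsg.pPrimeCore p ↥H).map H.subtype), A⁆ ⊔ A} => o.elim (V ⊓ Subgroup.centralizer (H : Set G)) (fun E => ⁅V, (E : Subgroup G)⁆)) ∧ (V ⊓ Subgroup.centralizer (H : Set G)) ⊔ (⨆ E : {E : Subgroup G // ∃ A : Subgroup G, A ≤ H ∧ Cfsg.IsBestOffenderOn p V A ∧ ⁅V, A⁆ ≠ ⊥ ∧ (∀ B : Subgroup G, B ≤ A → Cfsg.IsBestOffenderOn p V B → ⁅V, B⁆ ≠ ⊥ → B = A) ∧ E = ⁅((Cfsg.pPrimeCore p ↥H).map H.subtype), A⁆ ⊔ A}, ⁅V, (E : Subgroup G)⁆) = V := by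
  set K := (Cfsg.pPrimeCore p ↥H).map H.subtype
  have X : CfsgLib.FFPair.Ctx p V H K := CfsgLib.FFPair.Ctx.of_pPrimeCore hV hHV hf hS1
  have hgen := X.iSup_isT hS3
  set ι := {E : Subgroup G // ∃ A : Subgroup G, A ≤ H ∧ Cfsg.IsBestOffenderOn p V A ∧
    ⁅V, A⁆ ≠ ⊥ ∧ (∀ B : Subgroup G, B ≤ A → Cfsg.IsBestOffenderOn p V B → ⁅V, B⁆ ≠ ⊥ → B = A) ∧
    E = ⁅K, A⁆ ⊔ A}
  haveI : Fintype ι := Fintype.ofFinite ι
  choose A hAH hA hAV hmin hEA using fun E : ι => E.2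
  have hT : ∀ E, CfsgLib.FFPair.IsT p V H (A E) := fun E =>
    X.isT_of_minimal (hAH E) (hA E) (hAV E) (hmin E)
  have hEf : ∀ E : ι, (E : Subgroup G) = CfsgLib.FFPair.factor K (A E) := hEA
  have hinj : Function.Injective fun E : ι => CfsgLib.FFPair.factor K (A E) := fun E F h =>
    Subtype.ext ((hEf E).trans (h.trans (hEf F).symm))
  obtain ⟨B₀, hB₀⟩ : ∃ B, CfsgLib.FFPair.IsT p V H B := by
    by_contra h
    exact hH1 (hgen.trans (le_bot_iff.1 (iSup_le fun B => absurd ⟨B, B.2⟩ h)))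
  have hsupE : (⨆ E : ι, (E : Subgroup G)) = H := by
    refine le_antisymm (iSup_le fun E => (hEf E).le.trans (X.factor_le (hT E))) ?_
    conv_lhs => rw [hgen]
    refine iSup_le fun B => le_trans (le_sup_right : (B : Subgroup G) ≤ ⁅K, (B : Subgroup G)⁆ ⊔ B)
      (le_iSup (fun E : ι => (E : Subgroup G))
        ⟨_, B, B.2.le, (X.minimal_of_isT B.2).1, (X.minimal_of_isT B.2).2.1,
          (X.minimal_of_isT B.2).2.2, rfl⟩)
  have hcent : V ⊓ ⨅ E ∈ (Finset.univ : Finset ι),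
      Subgroup.centralizer (CfsgLib.FFPair.factor K (A E) : Set G) =
        V ⊓ Subgroup.centralizer (H : Set G) := by
    congr 1
    refine le_antisymm (fun x hx => ?_) (le_iInf₂ fun E _ =>
      Subgroup.centralizer_le (X.factor_le (hT E)))
    have : H ≤ Subgroup.centralizer ({x} : Set G) := by
      rw [← hsupE]
      refine iSup_le fun E => fun h hh => Subgroup.mem_centralizer_singleton_iff.2 ?_
      exact Subgroup.mem_centralizer_iff.1 (Subgroup.mem_iInf.1 (Subgroup.mem_iInf.1 hx E)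
        (Finset.mem_univ E)) h ((hEf E).le hh)
    exact Subgroup.mem_centralizer_iff.2 fun h hh => Subgroup.mem_centralizer_singleton_iff.1 (this hh)
  have hWsup : (⨆ E ∈ (Finset.univ : Finset ι), ⁅V, CfsgLib.FFPair.factor K (A E)⁆) =
      ⨆ E : ι, ⁅V, (E : Subgroup G)⁆ := by
    simp only [Finset.mem_univ, iSup_pos, ← hEf]
  obtain ⟨hd1, hd2⟩ := X.decomposition A hT hinj Finset.univ
  rw [hcent, hWsup] at hd1 hd2
  have hind : ∀ E F : ι, F ≠ E →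
      (F : Subgroup G) ≤ Subgroup.centralizer ((⁅V, (E : Subgroup G)⁆ : Subgroup G) : Set G) ∧
      ⁅V, (F : Subgroup G)⁆ ≤ V ⊓ Subgroup.centralizer ((E : Subgroup G) : Set G) := fun E F hFE => by
    rw [hEf E, hEf F]
    exact X.independent (hT E) (hT F) fun h => hFE (hinj h)
  refine ⟨X.prime_eq hB₀, fun E => ?_, fun E => ?_, hsupE, ?_, by rw [sup_comm]; exact hd2⟩
  · rw [hEf E]
    exact ⟨X.H_le_normalizer hgen (hT E), X.factor_iso (hT E), X.card_module (hT E)⟩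
  · rw [disjoint_iff, eq_bot_iff]
    beta_reduce
    rw [hEf E]
    refine (inf_le_inf_left _ (iSup₂_le fun F hF => ?_)).trans (X.module_faith (hT E)).le
    rw [← hEf E]
    exact (hind E F hF).1
  · rintro (_ | E) <;> rw [disjoint_iff, eq_bot_iff]
    · refine le_trans (le_inf (inf_le_right.trans (iSup₂_le fun o ho => ?_)) inf_le_left) hd1.le
      rcases o with _ | F
      · exact absurd rfl ho
      · exact le_iSup (fun E : ι => ⁅V, (E : Subgroup G)⁆) F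
    · show ⁅V, (E : Subgroup G)⁆ ⊓ _ ≤ _
      rw [hEf E]
      refine le_trans (inf_le_inf_left _ (iSup₂_le fun o ho => ?_)) (X.module_inf (hT E)).le
      rcases o with _ | F
      · exact inf_le_inf_left V (Subgroup.centralizer_le (X.factor_le (hT E)))
      · rw [← hEf E]
        exact (hind E F fun h => ho (by rw [h])).2

end Cfsg.Agent.S0617
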