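import Cfsg.Statements.S0619
import Cfsg.Agent.Lib.Fusion.FFPair.Holomorph

set_option autoImplicit false
open Cfsg

namespace Cfsg.Agent.S0619

/-- For a p-separable group and a normal elementary abelian p-subgroup V with no nontrivial normal p-subgroup modulo its centralizer C, the Thompson subgroup J(G) moves Ω₁(Z(J(C))) only inside V. -/
theorem result {G : Type*} [Group G] [Finite G] {p : ℕ} [Fact p.Prime] (hsep : Cfsg.IsPSolvable p G) (V : Subgroup G) [V.Normal] (hV : Cfsg.IsElementaryAbelian p V) (hO : Cfsg.pCore p (G ⧸ Subgroup.centralizer (V : Set G)) = ⊥) : ⁅Cfsg.omegaOne p (Cfsg.centerThompsonOf p (Subgroup.centralizer (V : Set G))), Cfsg.thompsonSubgroup p G⁆ ≤ V := by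
  open Subgroup in
  haveI : (centralizer (V : Set G)).Normal := normal_centralizer
  set C := centralizer (V : Set G) with hC
  set π := QuotientGroup.mk' V
  suffices h : Cfsg.thompsonSubgroup p G ≤
      (centralizer ((Cfsg.omegaOne p (Cfsg.centerThompsonOf p C)).map π : Set (G ⧸ V))).comap π by
    refine commutator_le.2 fun u hu g hg => (QuotientGroup.eq_one_iff _).1 ?_
    have h1 := mem_centralizer_iff.1 (mem_comap.1 (h hg)) (π u) (mem_map_of_mem π hu)
    show π (u * g * u⁻¹ * g⁻¹) = 1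
    rw [map_mul, map_mul, map_mul, map_inv, map_inv, h1]
    group
  refine sSup_le fun A hA => map_le_iff_le_comap.1 (le_centralizer_iff.1 ?_)
  have hE := CfsgLib.FFPair.maxEA_sup hV hsep hO hA
  set E := V ⊔ (A ⊓ C)
  have hVC : V ≤ C := fun v hv => mem_centralizer_iff.2 fun w hw =>
    congrArg Subtype.val (hV.1.is_comm.comm ⟨w, hw⟩ ⟨v, hv⟩)
  have hEC : E ≤ C := sup_le hVC inf_le_right
  have hEJ : E ≤ Cfsg.thompsonSubgroupOf p C :=
    CfsgLib.Fusion.le_thompsonSubgroupOf ⟨hEC, hE.1, fun B _ hB => hE.2 B hB⟩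
  have hU : Cfsg.omegaOne p (Cfsg.centerThompsonOf p C) ≤ E := by
    refine (closure_le _).2 fun z hz => ?_
    have h1 := CfsgLib.EABasic.isElementaryAbelian_sup hE.1
      (CfsgLib.EABasic.isElementaryAbelian_zpowers hz.2) (fun a ha b hb => by
        obtain ⟨i, rfl⟩ := mem_zpowers_iff.1 hb
        exact (Commute.zpow_right (mem_centralizer_iff.1 hz.1.2 a (hEJ ha)) i).eq)
    exact (eq_of_le_of_card_ge le_sup_left (hE.2 _ h1)).ge (mem_sup_right (mem_zpowers z))
  refine (map_mono hU).trans ?_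
  rw [Subgroup.map_sup, sup_le_iff]
  constructor
  · rintro _ ⟨v, hv, rfl⟩
    rw [show π v = 1 from (QuotientGroup.eq_one_iff v).2 hv]
    exact one_mem _
  · rintro _ ⟨a, ha, rfl⟩
    refine mem_centralizer_iff.2 ?_
    rintro _ ⟨b, hb, rfl⟩
    rw [← map_mul, ← map_mul]
    exact congrArg π (congrArg Subtype.val (hA.1.1.is_comm.comm ⟨b, hb⟩ ⟨a, ha.1⟩))

end Cfsg.Agent.S0619
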