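import Cfsg.Statements.S0626
import Cfsg.Agent.Lib.Fusion.StableFree

set_option autoImplicit false
open Cfsg

namespace Cfsg.Agent.S0626

/-- For odd p, groups whose Sylow 2-subgroups are abelian are p-stable in the action sense. -/
theorem result {G : Type*} [Group G] [Finite G] {p : ℕ} [Fact p.Prime] (hp : p ≠ 2) (hab : ∀ T : Sylow 2 G, IsMulCommutative T) : Cfsg.IsActionPStable p G := by
  refine CfsgLib.Fusion.isActionPStable_of_not_involves hp (CfsgLib.Qd.not_involves_qd_of_slTwo ?_)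
  rintro ⟨K, R, hR, ⟨e⟩⟩
  haveI := hR
  haveI := Fact.mk Nat.prime_two
  refine CfsgLib.Qd.not_comm_of_surjective hp (e.toMonoidHom.comp (QuotientGroup.mk' _))
    (e.surjective.comp (QuotientGroup.mk'_surjective _)) fun T x hx y hy => ?_
  obtain ⟨U, hU⟩ := (T.2.map K.subtype).exists_le_sylow
  exact Subtype.ext (show (x : G) * y = y * x from congrArg Subtype.val ((hab U).is_comm.comm
    (⟨(x : G), hU ⟨x, hx, rfl⟩⟩ : (U : Subgroup G)) ⟨(y : G), hU ⟨y, hy, rfl⟩⟩))

end Cfsg.Agent.S0626
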