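import Cfsg.Statements.S0627
import Cfsg.Agent.Lib.Fusion.StableFree

set_option autoImplicit false
open Cfsg

namespace Cfsg.Agent.S0627

/-- In a p-separable group with p at least 5, the normalizer of W(S) supplements the largest normal subgroup of order prime to p. -/
theorem result {G : Type*} [Group G] [Finite G] {p : ℕ} [Fact p.Prime] (hp : 5 ≤ p) (hsep : Cfsg.IsPSolvable p G) (S : Sylow p G) : Cfsg.pPrimeCore p G ⊔ Subgroup.normalizer (((Cfsg.stableNormalClosure p ↥(S : Subgroup G)).map (S : Subgroup G).subtype) : Set G) = ⊤ := by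
  haveI := CfsgLib.Coprime.pPrimeCore_characteristic (G := G) p
  set K := Cfsg.pPrimeCore p G with hK
  haveI hKn : K.Normal := inferInstance
  set π := QuotientGroup.mk' K
  have hπ : Function.Surjective π := QuotientGroup.mk'_surjective K
  have hsep' : Cfsg.IsPSolvable p (G ⧸ K) := CfsgLib.Fusion.isPSolvable_of_surjective π hπ hsep
  let Sb : Sylow p (G ⧸ K) := S.mapSurjective hπ
  have hSb : (Sb : Subgroup (G ⧸ K)) = (S : Subgroup G).map π := Sylow.coe_mapSurjective hπ S
  have hW := CfsgLib.Fusion.stableNormalClosure_normal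
    (CfsgLib.Fusion.isActionPStable_of_not_involves (show p ≠ 2 by omega)
      (CfsgLib.Qd.not_involves_qd_of_slTwo (CfsgLib.Fusion.not_involves_slTwo_of_isPSolvable (by omega) hsep')))
    (CfsgLib.Block.centralizer_pCore_le_of_isPSolvable hsep'
      (CfsgLib.Coprime.pPrimeCore_quotient_eq_bot Fact.out)) Sb
  set W := (Cfsg.stableNormalClosure p ↥(S : Subgroup G)).map (S : Subgroup G).subtype with hWdef
  have hKp : ¬ p ∣ Nat.card K := CfsgLib.Coprime.pPrimeCore_not_dvd Fact.out
  have hinj : ∀ x ∈ (S : Subgroup G), π x = 1 → x = 1 := fun x hx h1 =>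
    CfsgLib.Fusion.eq_one_of_pGroup_of_coprime S.2 hx
      ((CfsgLib.Fusion.not_dvd_card_iff_forall_coprime_orderOf K).1 hKp x
        ((QuotientGroup.eq_one_iff x).1 h1))
  let η : ↥(S : Subgroup G) ≃* ↥(Sb : Subgroup (G ⧸ K)) := MulEquiv.ofBijective
    ((π.comp (S : Subgroup G).subtype).codRestrict (Sb : Subgroup (G ⧸ K)) fun x => by
      rw [hSb]; exact ⟨x, x.2, rfl⟩)
    ⟨(injective_iff_map_eq_one _).2 fun x hx => Subtype.ext (hinj x x.2 (congrArg Subtype.val hx)),
      fun y => by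
        obtain ⟨x, hx, hxy⟩ := hSb.le y.2
        exact ⟨⟨x, hx⟩, Subtype.ext hxy⟩⟩
  have hWimg : W.map π = (Cfsg.stableNormalClosure p ↥(Sb : Subgroup (G ⧸ K))).map
      (Sb : Subgroup (G ⧸ K)).subtype := by
    rw [← CfsgLib.Fusion.map_stableNormalClosure η, hWdef, Subgroup.map_map, Subgroup.map_map]
    rfl
  rw [← hWimg] at hW
  -- Frattini argument
  haveI hM : (W ⊔ K).Normal := by
    have := hW.comap π
    rwa [Subgroup.comap_map_eq, QuotientGroup.ker_mk'] at this
  have hWp : IsPGroup p W := S.2.to_le (Subgroup.map_subtype_le _)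
  have hi : ¬ p ∣ W.relIndex (W ⊔ K) := fun hd => hKp (hd.trans (by
    have h1 := CfsgLib.Fusion.card_sup_mul_card_inf W K
    have h2 := Subgroup.relIndex_mul_relIndex ⊥ W (W ⊔ K) bot_le le_sup_left
    rw [Subgroup.relIndex_bot_left, Subgroup.relIndex_bot_left] at h2
    rw [← h2, mul_assoc] at h1
    exact ⟨_, (Nat.eq_of_mul_eq_mul_left Nat.card_pos h1).symm⟩))
  let T₀ : Sylow p ↥(W ⊔ K) := (hWp.of_equiv
    (Subgroup.subgroupOfEquivOfLe (le_sup_left : W ≤ W ⊔ K)).symm).toSylow hi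
  have hT₀ : (T₀ : Subgroup ↥(W ⊔ K)).map (W ⊔ K).subtype = W :=
    Subgroup.map_subgroupOf_eq_of_le le_sup_left
  have hF := Sylow.normalizer_sup_eq_top T₀
  rw [hT₀] at hF
  rw [eq_top_iff, ← hF]
  exact sup_le le_sup_right (sup_le (Subgroup.le_normalizer.trans le_sup_right) le_sup_left)

end Cfsg.Agent.S0627
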