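import Cfsg.Statements.S0633
-- import your own Cfsg.Agent.* helpers here
import Mathlib.RingTheory.Flat.Basic
import Mathlib.FieldTheory.IsAlgClosed.AlgebraicClosure
import Cfsg.Agent.Lib.PGroup.ModularB.Norm
import Cfsg.Agent.Lib.Fusion.FFPair.Holomorph
import Cfsg.Agent.Lib.Coprime.Core
import Cfsg.Agent.Lib.CFun.OddUniqueBase

set_option autoImplicit false
open Cfsg

namespace Cfsg.Agent.S0633


/-- Theorem B of Hall and Higman on the minimal polynomial of a p-element of order p^n in a p-solvable linear group on a nonzero vector space in characteristic p with no nontrivial normal p-subgroup: its degree is p^n, except when some p^n₀ - 1 (n₀ ≤ n) is a power of a prime q for which the Sylow q-subgroups are non-abelian, in which case the degree is at least p^(n-n₀)(p^n₀ - 1). -/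
theorem result {F : Type*} [Field F] {p : ℕ} [Fact p.Prime] [CharP F p] {V : Type*} [AddCommGroup V] [Module F V] [FiniteDimensional F V] [Nontrivial V] (H : Subgroup (V ≃ₗ[F] V)) [Finite H] (hsol : Cfsg.IsPSolvable p H) (hOp : Cfsg.pCore p H = ⊥) (x : V ≃ₗ[F] V) (hx : x ∈ H) (n : ℕ) (hn : orderOf x = p ^ n) (r : ℕ) (hr : minpoly F (x : Module.End F V) = (Polynomial.X - 1) ^ r) : r = p ^ n ∨ ∃ n₀ q m : ℕ, 1 ≤ n₀ ∧ n₀ ≤ n ∧ q.Prime ∧ 1 ≤ m ∧ p ^ n₀ - 1 = q ^ m ∧ (∀ Q : Sylow q H, ¬ IsMulCommutative Q) ∧ p ^ (n - n₀) * (p ^ n₀ - 1) ≤ r := by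
  classical
  have hp : p.Prime := Fact.out
  set f : Module.End F V := (x : Module.End F V) with hf
  have hzero : (f - 1) ^ r = 0 := by
    have := minpoly.aeval F f
    rwa [hr, map_pow, map_sub, Polynomial.aeval_X, map_one] at this
  have hlow : ∀ j, (f - 1) ^ j = 0 → r ≤ j := by
    intro j hj
    have h1 : minpoly F f ∣ (Polynomial.X - 1) ^ j := minpoly.dvd F f (by
      rw [map_pow, map_sub, Polynomial.aeval_X, map_one, hj])
    rw [hr] at h1
    have h2 := Polynomial.natDegree_le_of_dvd h1 (pow_ne_zero _ (by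
      rw [← Polynomial.C_1]; exact Polynomial.X_sub_C_ne_zero 1))
    rwa [← Polynomial.C_1, Polynomial.natDegree_pow, Polynomial.natDegree_pow,
      Polynomial.natDegree_X_sub_C, mul_one, mul_one] at h2
  have hfpow : ∀ i : ℕ, f ^ i = ((x ^ i : V ≃ₗ[F] V) : Module.End F V) := by
    intro i
    induction i with
    | zero => rfl
    | succ i hi => rw [pow_succ, pow_succ, hi]; rfl
  have hup : r ≤ p ^ n := hlow _ (by
    rw [CfsgLib.PGroup.ModularB.sub_one_pow_prime_pow (k := F), hfpow, ← hn, pow_orderOf_eq_one]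
    exact sub_self _)
  rcases n with _ | ν
  · left
    have : r ≠ 0 := fun h0 => by
      rw [h0, pow_zero] at hzero
      exact one_ne_zero hzero
    rw [pow_zero] at hup ⊢
    omega
  rcases hup.lt_or_eq with hlt | heq
  swap
  · exact Or.inl heq
  right
  set xH : H := ⟨x, hx⟩ with hxH
  have hordH : orderOf xH = p ^ (ν + 1) := by rw [← hn, ← Subgroup.orderOf_coe xH]
  set K' := Cfsg.pPrimeCore p H with hK'
  haveI : K'.Normal := inferInstance
  have hK'p : (Nat.card K').Coprime p := CfsgLib.Coprime.pPrimeCore_coprime hp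
  set t : H := xH ^ p ^ ν with ht
  have htp : orderOf t = p := by
    rw [ht, orderOf_pow, hordH, Nat.gcd_eq_right (pow_dvd_pow p (Nat.le_succ ν)),
      Nat.pow_div (Nat.le_succ ν) hp.pos, Nat.succ_sub (le_refl ν), Nat.sub_self, pow_one]
  obtain ⟨q, hq, hqp, Q, hQK, hQ, hxQ, y, hy, hyt⟩ : ∃ q : ℕ, q.Prime ∧ q ≠ p ∧ ∃ Q : Subgroup H,
      Q ≤ K' ∧ IsPGroup q Q ∧ xH ∈ Subgroup.normalizer (Q : Set H) ∧ ∃ y ∈ Q, t * y * t⁻¹ ≠ y := by
    by_contra hc
    push Not at hc
    have hle : K' ≤ Subgroup.centralizer ({t} : Set H) := by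
      refine CfsgLib.CFun.le_of_invariant_sylows (A := Subgroup.zpowers xH) ?_ ?_
        (Or.inl (CfsgLib.Coprime.isSolvable_of_isMulCommutative inferInstance))
        fun q hq hqd Q hQK hQ hAQ => ?_
      · rw [Subgroup.normalizer_eq_top_iff.2 ‹K'.Normal›]
        exact le_top
      · rw [Nat.card_zpowers, hordH]
        exact hK'p.symm.pow_left _
      · have hqp : q ≠ p := by
          rintro rfl
          exact hq.ne_one (Nat.eq_one_of_dvd_coprimes hK'p hqd dvd_rfl)
        intro y hy
        exact Subgroup.mem_centralizer_singleton_iff.2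
          (mul_inv_eq_iff_eq_mul.1 (hc q hq hqp Q hQK hQ (hAQ (Subgroup.mem_zpowers _)) y hy)).symm
    have htK : t ∈ K' := CfsgLib.FFPair.centralizer_pPrimeCore_le_of_isPSolvable hsol hOp
      (Subgroup.mem_centralizer_iff.2 fun k hk => Subgroup.mem_centralizer_singleton_iff.1 (hle hk))
    refine hp.ne_one (Nat.eq_one_of_dvd_coprimes hK'p ?_ dvd_rfl)
    rw [← htp, ← Subgroup.orderOf_mk _ htK]
    exact _root_.orderOf_dvd_natCard _
  let K := AlgebraicClosure F
  haveI : CharP K p := charP_of_injective_algebraMap (algebraMap F K).injective p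
  let e : H →* Module.End F V :=
    { toFun := fun g => ((g : V ≃ₗ[F] V) : Module.End F V)
      map_one' := rfl
      map_mul' := fun _ _ => rfl }
  let B : Module.End F V →ₐ[F] Module.End K (TensorProduct F K V) := Module.End.baseChangeHom F K V
  have hB : Function.Injective B := fun a b hab => LinearMap.baseChangeHom_injective F V K hab
  let ρ : H →* Module.End K (TensorProduct F K V) := (B : Module.End F V →* _).comp e
  have hρ : Function.Injective ρ := fun a b hab =>
    Subtype.ext (LinearEquiv.toLinearMap_injective (hB hab))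
  have hρx : ∀ j : ℕ, (ρ xH - 1) ^ j = B ((f - 1) ^ j) := fun j => by
    rw [map_pow, map_sub, map_one]
    rfl
  obtain ⟨j, m, i, hjm, hi, hqi, hblock, a, ha, b, hb, hab⟩ :=
    CfsgLib.PGroup.ModularB.bound ρ hq hp hqp xH (n := ν) (by rw [← hordH, pow_orderOf_eq_one])
      (by rw [hρx, pow_eq_zero_of_le (by omega) hzero, map_zero]) Q hQ hxQ
      ⟨y, hy, fun h => hyt (hρ h)⟩
  refine ⟨m + 1, q, i, Nat.succ_pos m, by omega, hq, hi, by omega, fun S hS => hab ?_, ?_⟩
  · haveI := Fact.mk hq
    obtain ⟨T, hT⟩ := hQ.exists_le_sylow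
    obtain ⟨g, hg⟩ := MulAction.exists_smul_eq H S T
    have hTc : ∀ u ∈ (T : Subgroup H), ∀ v ∈ (T : Subgroup H), u * v = v * u := by
      intro u hu v hv
      rw [← hg, Sylow.coe_subgroup_smul] at hu hv
      obtain ⟨u', hu', rfl⟩ := hu
      obtain ⟨v', hv', rfl⟩ := hv
      show MulAut.conj g u' * MulAut.conj g v' = MulAut.conj g v' * MulAut.conj g u'
      have := congrArg Subtype.val (isMulCommutative_iff.1 hS ⟨u', hu'⟩ ⟨v', hv'⟩)
      rw [← map_mul, ← map_mul]
      exact congrArg _ this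
    exact hTc a (hT ha) b (hT hb)
  · by_contra hlt
    refine hblock ?_
    rw [hρx, show j = ν + 1 - (m + 1) by omega, pow_eq_zero_of_le (by omega) hzero, map_zero]

end Cfsg.Agent.S0633
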