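import Cfsg.Statements.S0642
import Cfsg.Agent.Lib.Coprime.PGroupFrattini

set_option autoImplicit false
open Cfsg
open scoped commutatorElement

namespace Cfsg.Agent.S0642

/-- Among finite 2-groups the regular ones are exactly the abelian ones. -/
theorem result {G : Type*} [Group G] [Finite G] (hG : IsPGroup 2 G) : Cfsg.IsRegularPGroup 2 G ↔ ∀ a b : G, a * b = b * a := by
  refine ⟨fun ⟨_, h⟩ a b => ?_, fun h => ⟨hG, fun a b n => ⟨1, one_mem _, ?_⟩⟩⟩
  · set H := Subgroup.closure ({a, b} : Set G) with hH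
    set D : Subgroup G := ⁅H, H⁆ with hD
    obtain ⟨c, hc, e⟩ := h a b 1
    rw [← hH, ← hD] at hc
    have ha : a ∈ H := Subgroup.subset_closure (Set.mem_insert a _)
    have hb : b ∈ H := Subgroup.subset_closure (Set.mem_insert_of_mem a rfl)
    set N := Cfsg.powerClosure 2 1 D with hN
    have hNn : H ≤ Subgroup.normalizer (N : Set G) := fun g hg => by
      refine Subgroup.mem_normalizer_fintype fun n hn => ?_
      have h1 := Subgroup.mem_map_of_mem (MulAut.conj g).toMonoidHom hn
      rw [hN, Cfsg.powerClosure, MonoidHom.map_closure] at h1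
      refine Subgroup.closure_mono ?_ h1
      rintro _ ⟨_, ⟨x, hx, rfl⟩, rfl⟩
      refine ⟨g * x * g⁻¹, ?_, by simp⟩
      have h2 := Subgroup.mem_map_of_mem (MulAut.conj g).toMonoidHom hx
      rw [hD, Subgroup.map_commutator] at h2
      refine Subgroup.commutator_mono ?_ ?_ h2 <;>
      · rintro _ ⟨y, hy, rfl⟩
        exact H.mul_mem (H.mul_mem hg hy) (H.inv_mem hg)
    haveI hNn' : (N.subgroupOf H).Normal := Subgroup.normal_subgroupOf_of_le_normalizer hNn
    have hab : (QuotientGroup.mk (⟨a, ha⟩ * ⟨b, hb⟩ : H) : H ⧸ N.subgroupOf H) =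
        QuotientGroup.mk (⟨b, hb⟩ * ⟨a, ha⟩ : H) := by
      have hce : c = b⁻¹ * b⁻¹ * a⁻¹ * b * a * b := by
        rw [pow_one, pow_two, pow_two, pow_two] at e
        calc c = (a * a * (b * b))⁻¹ * (a * a * (b * b) * c) := by group
          _ = b⁻¹ * b⁻¹ * a⁻¹ * b * a * b := by rw [← e]; group
      have hbn : b * c * b⁻¹ ∈ N := (Subgroup.mem_normalizer_iff.1 (hNn hb) c).1 hc
      rw [QuotientGroup.eq, Subgroup.mem_subgroupOf]
      show (a * b)⁻¹ * (b * a) ∈ N
      rw [show (a * b)⁻¹ * (b * a) = b * c * b⁻¹ by rw [hce]; group]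
      exact hbn
    have htop : Subgroup.closure (((↑) : H → G) ⁻¹' ({a, b} : Set G)) = ⊤ :=
      Subgroup.closure_closure_coe_preimage
    have hall : ∀ x : H, ∀ y : H,
        (QuotientGroup.mk' (N.subgroupOf H) x) * QuotientGroup.mk' _ y =
          QuotientGroup.mk' _ y * QuotientGroup.mk' _ x := by
      intro x y
      have hx : x ∈ Subgroup.closure (((↑) : H → G) ⁻¹' ({a, b} : Set G)) := htop ▸ Subgroup.mem_top x
      have hy : y ∈ Subgroup.closure (((↑) : H → G) ⁻¹' ({a, b} : Set G)) := htop ▸ Subgroup.mem_top y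
      induction hx, hy using Subgroup.closure_induction₂ with
      | mem u v hu hv =>
        rcases hu with hu | hu <;> rcases hv with hv | hv
        · rw [show u = v from Subtype.ext (hu.trans hv.symm)]
        · rw [show u = ⟨a, ha⟩ from Subtype.ext hu, show v = ⟨b, hb⟩ from Subtype.ext hv]
          exact hab
        · rw [show u = ⟨b, hb⟩ from Subtype.ext hu, show v = ⟨a, ha⟩ from Subtype.ext hv]
          exact hab.symm
        · rw [show u = v from Subtype.ext (hu.trans hv.symm)]
      | one_left v _ => simp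
      | one_right u _ => simp
      | mul_left u v w _ _ _ h1 h2 => simp only [map_mul]; exact Commute.mul_left h1 h2
      | mul_right u v w _ _ _ h1 h2 => simp only [map_mul]; exact Commute.mul_right h1 h2
      | inv_left u v _ _ h1 => simp only [map_inv]; exact Commute.inv_left h1
      | inv_right u v _ _ h1 => simp only [map_inv]; exact Commute.inv_right h1
    have hDN : D ≤ N := by
      rw [hD, Subgroup.commutator_le]
      intro x hx y hy
      have h1 : QuotientGroup.mk' (N.subgroupOf H) ⁅(⟨x, hx⟩ : H), ⟨y, hy⟩⁆ = 1 := by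
        rw [map_commutatorElement, commutatorElement_eq_one_iff_mul_comm]
        exact hall _ _
      exact Subgroup.mem_subgroupOf.1 ((QuotientGroup.eq_one_iff _).1 h1)
    have hfr : (⊤ : Subgroup D) ≤ frattini D := by
      intro x _
      have h1 : (x : G) ∈ (frattini D).map D.subtype := by
        refine (Subgroup.closure_le _).2 ?_ (hDN x.2)
        rintro _ ⟨y, hy, rfl⟩
        exact ⟨(⟨y, hy⟩ : D) ^ 2,
          CfsgLib.Coprime.pow_mem_frattini (hG.to_subgroup D) ⟨y, hy⟩, by simp⟩
      obtain ⟨z, hz, hzx⟩ := h1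
      rwa [Subtype.ext hzx] at hz
    have hDbot : D = ⊥ := by
      by_contra hne
      haveI : Nontrivial D := (Subgroup.nontrivial_iff_ne_bot D).2 hne
      obtain ⟨M, hM⟩ := IsCoatomic.eq_top_or_exists_le_coatom (⊥ : Subgroup D) |>.resolve_left bot_ne_top
      exact hM.1.1 (eq_top_iff.2 (hfr.trans (frattini_le_coatom hM.1)))
    have h1 : ⁅a, b⁆ ∈ D := Subgroup.commutator_mem_commutator ha hb
    rw [hDbot, Subgroup.mem_bot, commutatorElement_eq_one_iff_mul_comm] at h1
    exact h1
  · rw [mul_one, (show Commute a b from h a b).mul_pow]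

end Cfsg.Agent.S0642
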