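import Cfsg.Statements.S0647


set_option autoImplicit false
open Cfsg

namespace Cfsg.Agent.S0647

/-- For a nonempty family of maximal abelian subgroups of a finite group, the intersection of the family is the centre of the subgroup it generates, which is also the full centralizer of that subgroup. -/
theorem result {S : Type*} [Group S] [Finite S] (𝒜 : Set (Subgroup S)) (hne : 𝒜.Nonempty) (hab : ∀ A ∈ 𝒜, IsMulCommutative A) (hmax : ∀ A ∈ 𝒜, ∀ B : Subgroup S, IsMulCommutative B → A ≤ B → B = A) : sInf 𝒜 = sSup 𝒜 ⊓ Subgroup.centralizer ((sSup 𝒜 : Subgroup S) : Set S) ∧ sInf 𝒜 = Subgroup.centralizer ((sSup 𝒜 : Subgroup S) : Set S) := by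
  have key : sInf 𝒜 = Subgroup.centralizer ((sSup 𝒜 : Subgroup S) : Set S) := by
    refine le_antisymm (fun x hx => ?_) (le_sInf fun A hA x hx => ?_)
    · rw [Subgroup.mem_centralizer_iff]
      intro y hy
      have hle : sSup 𝒜 ≤ Subgroup.centralizer ({x} : Set S) := sSup_le fun A hA z hz =>
        Subgroup.mem_centralizer_singleton_iff.2 (congrArg Subtype.val ((hab A hA).is_comm.comm (⟨z, hz⟩ : A) ⟨x, Subgroup.mem_sInf.1 hx A hA⟩))
      exact Subgroup.mem_centralizer_singleton_iff.1 (hle hy)
    · have hc : IsMulCommutative (A ⊔ Subgroup.zpowers x : Subgroup S) := by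
        have hle : A ⊔ Subgroup.zpowers x ≤ Subgroup.centralizer ((A ⊔ Subgroup.zpowers x : Subgroup S) : Set S) := by
          have h1 : ∀ a ∈ A, a * x = x * a := fun a ha => Subgroup.mem_centralizer_iff.1 hx a (le_sSup hA ha)
          refine sup_le (Subgroup.le_centralizer_iff.1 (sup_le ?_ ?_)) (Subgroup.le_centralizer_iff.1 (sup_le ?_ ?_))
          · exact fun a ha => Subgroup.mem_centralizer_iff.2 fun b hb => congrArg Subtype.val ((hab A hA).is_comm.comm (⟨b, hb⟩ : A) ⟨a, ha⟩)
          · rw [Subgroup.zpowers_le]; exact Subgroup.mem_centralizer_iff.2 fun b hb => h1 b hb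
          · exact fun a ha => Subgroup.mem_centralizer_iff.2 fun b hb => by
              obtain ⟨i, rfl⟩ := Subgroup.mem_zpowers_iff.1 hb
              exact Commute.zpow_left (h1 a ha).symm i
          · rw [Subgroup.zpowers_le]; exact Subgroup.mem_centralizer_iff.2 fun b hb => by
              obtain ⟨i, rfl⟩ := Subgroup.mem_zpowers_iff.1 hb
              exact Commute.zpow_left rfl i
        exact ⟨⟨fun u v => Subtype.ext (Subgroup.mem_centralizer_iff.1 (hle v.2) u u.2)⟩⟩
      rw [← hmax A hA _ hc le_sup_left]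
      exact Subgroup.mem_sup_right (Subgroup.mem_zpowers x)
  refine ⟨?_, key⟩
  rw [← key]
  exact (inf_eq_right.2 (le_trans (sInf_le hne.some_mem) (le_sSup hne.some_mem))).symm

end Cfsg.Agent.S0647
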