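import Cfsg.Statements.S0648


set_option autoImplicit false
open Cfsg
open scoped commutatorElement

namespace Cfsg.Agent.S0648

/-- If A acts on B centralizing [B, B], then [B, A] has derived subgroup central in B, and for abelian A and b ∈ B with [[b, A], A, A] = 1 the derived subgroup of the subgroup [b, A] generated by the commutators of b with A has exponent dividing 2. -/
theorem result {G : Type*} [Group G] [Finite G] (A B : Subgroup G) (hAB : A ≤ Subgroup.normalizer (B : Set G)) (hc : ⁅⁅B, B⁆, A⁆ = ⊥) : ⁅⁅B, A⁆, ⁅B, A⁆⁆ ≤ B ⊓ Subgroup.centralizer (B : Set G) ∧ (IsMulCommutative A → ∀ b ∈ B, ⁅⁅(Subgroup.closure {g : G | ∃ a ∈ A, g = b⁻¹ * a * b * a⁻¹}), A⁆, A⁆ = ⊥ → ∀ w ∈ ⁅(Subgroup.closure {g : G | ∃ a ∈ A, g = b⁻¹ * a * b * a⁻¹}), (Subgroup.closure {g : G | ∃ a ∈ A, g = b⁻¹ * a * b * a⁻¹})⁆, w ^ 2 = 1) := by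
  have hDB : ⁅B, A⁆ ≤ B := Subgroup.le_normalizer_iff_commutator_le_left.1 hAB
  have hcj : ∀ a ∈ A, ∀ x ∈ B, a * x * a⁻¹ ∈ B := fun a ha x hx =>
    (Subgroup.mem_normalizer_iff.1 (hAB ha) x).1 hx
  have hBA : ∀ w ∈ ⁅B, B⁆, ∀ a ∈ A, a * w = w * a := fun w hw a ha => by
    rw [Subgroup.commutator_eq_bot_iff_le_centralizer] at hc
    exact Subgroup.mem_centralizer_iff.1 (hc hw) a ha
  have hBn : ∀ g ∈ B, ∀ w ∈ ⁅B, B⁆, g * w * g⁻¹ ∈ ⁅B, B⁆ := by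
    intro g hg w hw
    have h1 := Subgroup.mem_map_of_mem (MulAut.conj g).toMonoidHom hw
    rw [Subgroup.map_commutator] at h1
    refine Subgroup.commutator_mono ?_ ?_ h1 <;>
    · rintro _ ⟨y, hy, rfl⟩
      exact B.mul_mem (B.mul_mem hg hy) (B.inv_mem hg)
  -- `[B, A]` centralizes `[B, B]`
  have hD : ⁅B, B⁆ ≤ Subgroup.centralizer ((⁅B, A⁆ : Subgroup G) : Set G) := by
    refine Subgroup.le_centralizer_iff.1 (Subgroup.commutator_le.2 fun g hg a ha => ?_)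
    refine Subgroup.mem_centralizer_iff.2 fun w hw => ?_
    have h1 := hBA _ (hBn g⁻¹ (inv_mem hg) w hw) a ha
    have h2 := hBA w hw a⁻¹ (inv_mem ha)
    rw [inv_inv] at h1
    rw [commutatorElement_def]
    calc w * (g * a * g⁻¹ * a⁻¹) = g * ((g⁻¹ * w * g) * a) * g⁻¹ * a⁻¹ := by group
      _ = g * a * g⁻¹ * (w * a⁻¹) := by rw [← h1]; group
      _ = g * a * g⁻¹ * a⁻¹ * w := by rw [← h2]; group
  have hW : ∀ x ∈ ⁅B, A⁆, ∀ y ∈ ⁅B, A⁆, ∀ g ∈ B, g * ⁅x, y⁆ = ⁅x, y⁆ * g := by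
    have h : ⁅⁅⁅B, A⁆, ⁅B, A⁆⁆, B⁆ = ⊥ := by
      refine Subgroup.commutator_commutator_eq_bot_of_rotate ?_ ?_
      · rw [Subgroup.commutator_eq_bot_iff_le_centralizer]
        exact (Subgroup.commutator_mono hDB le_rfl).trans hD
      · rw [Subgroup.commutator_eq_bot_iff_le_centralizer]
        refine le_trans ?_ hD
        rw [Subgroup.commutator_comm]
        exact Subgroup.commutator_mono hDB le_rfl
    intro x hx y hy g hg
    rw [Subgroup.commutator_eq_bot_iff_le_centralizer] at h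
    exact Subgroup.mem_centralizer_iff.1 (h (Subgroup.commutator_mem_commutator hx hy)) g hg
  refine ⟨?_, fun hA b hb hEA => ?_⟩
  · rw [Subgroup.commutator_le]
    intro x hx y hy
    refine ⟨?_, Subgroup.mem_centralizer_iff.2 (hW x hx y hy)⟩
    rw [commutatorElement_def]
    exact B.mul_mem (B.mul_mem (B.mul_mem (hDB hx) (hDB hy)) (B.inv_mem (hDB hx))) (B.inv_mem (hDB hy))
  set E := Subgroup.closure {g : G | ∃ a ∈ A, g = b⁻¹ * a * b * a⁻¹} with hE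
  have hgen : ∀ a ∈ A, b⁻¹ * a * b * a⁻¹ ∈ ⁅B, A⁆ := fun a ha => by
    have h := Subgroup.commutator_mem_commutator (B.inv_mem hb) ha
    rwa [commutatorElement_def, inv_inv] at h
  have hED : E ≤ ⁅B, A⁆ := by
    rw [hE, Subgroup.closure_le]
    rintro _ ⟨a, ha, rfl⟩
    exact hgen a ha
  -- elements of `[E, A]` are fixed by `A`
  have hfix : ∀ s ∈ ⁅E, A⁆, ∀ a ∈ A, a * s * a⁻¹ = s := fun s hs a ha => by
    rw [Subgroup.commutator_eq_bot_iff_le_centralizer] at hEA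
    rw [Subgroup.mem_centralizer_iff.1 (hEA hs) a ha, mul_inv_cancel_right]
  -- conjugating `[b, x]` by `a`
  have hI : ∀ a ∈ A, ∀ x ∈ ⁅B, A⁆,
      ⁅b, x⁆ = ⁅b⁻¹ * a * b * a⁻¹, a * x * a⁻¹⁆ * ⁅b, a * x * a⁻¹⁆ := by
    intro a ha x hx
    have hw : ⁅b, x⁆ ∈ ⁅B, B⁆ := Subgroup.commutator_mem_commutator hb (hDB hx)
    have hy : a * x * a⁻¹ ∈ ⁅B, A⁆ := by
      have h2 : ⁅x, a⁆ ∈ ⁅B, A⁆ := Subgroup.commutator_mem_commutator (hDB hx) ha
      rw [show a * x * a⁻¹ = ⁅x, a⁆⁻¹ * x by simp only [commutatorElement_def]; group]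
      exact mul_mem (inv_mem h2) hx
    have h5 := hW _ (hgen a ha) _ hy b hb
    calc ⁅b, x⁆ = a * ⁅b, x⁆ * a⁻¹ := by rw [hBA _ hw a ha, mul_inv_cancel_right]
      _ = (b * ⁅b⁻¹ * a * b * a⁻¹, a * x * a⁻¹⁆) * b⁻¹ * ⁅b, a * x * a⁻¹⁆ := by
        simp only [commutatorElement_def]; group
      _ = _ := by rw [h5, mul_inv_cancel_right]
  have hadd : ∀ g ∈ B, ∀ x ∈ ⁅B, A⁆, ∀ y ∈ ⁅B, A⁆, ⁅g, x * y⁆ = ⁅g, x⁆ * ⁅g, y⁆ := by
    intro g hg x hx y hy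
    have h1 : x * ⁅g, y⁆ = ⁅g, y⁆ * x :=
      Subgroup.mem_centralizer_iff.1 (hD (Subgroup.commutator_mem_commutator hg (hDB hy))) x hx
    have e : ⁅g, x * y⁆ = ⁅g, x⁆ * (x * ⁅g, y⁆ * x⁻¹) := by simp only [commutatorElement_def]; group
    rw [e, h1, mul_inv_cancel_right]
  have key : ∀ a ∈ A, ∀ a' ∈ A, ⁅b⁻¹ * a * b * a⁻¹, b⁻¹ * a' * b * a'⁻¹⁆ ^ 2 = 1 := by
    intro a ha a' ha'
    have hu := hgen a ha
    have hv := hgen a' ha'
    have huE : b⁻¹ * a * b * a⁻¹ ∈ E := Subgroup.subset_closure ⟨a, ha, rfl⟩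
    have hvE : b⁻¹ * a' * b * a'⁻¹ ∈ E := Subgroup.subset_closure ⟨a', ha', rfl⟩
    have haa : a * a' = a' * a := congrArg Subtype.val (isMulCommutative_iff.1 hA ⟨a, ha⟩ ⟨a', ha'⟩)
    obtain ⟨u, hu'⟩ : ∃ u, u = b⁻¹ * a * b * a⁻¹ := ⟨_, rfl⟩
    obtain ⟨v, hv'⟩ : ∃ v, v = b⁻¹ * a' * b * a'⁻¹ := ⟨_, rfl⟩
    have hI1 := hI a ha
    have hI2 := hI a' ha'
    rw [← hu'] at hu huE hI1 ⊢
    rw [← hv'] at hv hvE hI2 ⊢
    set s := v⁻¹ * (a * v * a⁻¹) with hs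
    set t := u⁻¹ * (a' * u * a'⁻¹) with ht
    have hsE : s ∈ ⁅E, A⁆ := by
      have h := Subgroup.commutator_mem_commutator (E.inv_mem hvE) ha
      rwa [commutatorElement_def, inv_inv, show v⁻¹ * a * v * a⁻¹ = s by rw [hs]; group] at h
    have htE : t ∈ ⁅E, A⁆ := by
      have h := Subgroup.commutator_mem_commutator (E.inv_mem huE) ha'
      rwa [commutatorElement_def, inv_inv, show u⁻¹ * a' * u * a'⁻¹ = t by rw [ht]; group] at h
    have hEA' : ⁅E, A⁆ ≤ ⁅B, A⁆ := Subgroup.commutator_mono (hED.trans hDB) le_rfl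
    have hsD := hEA' hsE
    have htD := hEA' htE
    have hus : ⁅u, s⁆ = 1 := by
      have h := hI1 s hsD
      rw [hfix s hsE a ha] at h
      exact right_eq_mul.1 h
    have hvt : ⁅v, t⁆ = 1 := by
      have h := hI2 t htD
      rw [hfix t htE a' ha'] at h
      exact right_eq_mul.1 h
    have hcomb : ∀ (x y g r : G), x ∈ ⁅B, A⁆ → y ∈ ⁅B, A⁆ → r ∈ ⁅B, A⁆ → ⁅x, r⁆ = 1 → g = y * r →
        ⁅b, y⁆ = ⁅x, g⁆ * ⁅b, g⁆ → ⁅x, y⁆ * ⁅b, r⁆ = 1 := by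
      intro x y g r hx hy hr hxr hg h
      rw [hg, hadd x (hDB hx) y hy r hr, hxr, mul_one, hadd b hb y hy r hr] at h
      have h6 := hW x hx y hy ⁅b, y⁆ (by
        rw [commutatorElement_def]
        exact B.mul_mem (B.mul_mem (B.mul_mem hb (hDB hy)) (B.inv_mem hb)) (B.inv_mem (hDB hy)))
      rw [← mul_assoc, ← h6, mul_assoc] at h
      exact left_eq_mul.1 h
    have h1 := hcomb u v (a * v * a⁻¹) s hu hv hsD hus (by rw [hs, mul_inv_cancel_left]) (hI1 v hv)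
    have h2 := hcomb v u (a' * u * a'⁻¹) t hv hu htD hvt (by rw [ht, mul_inv_cancel_left]) (hI2 u hu)
    have hw : t = ⁅u⁻¹, v⁻¹⁆ * s := by
      rw [ht, hs, commutatorElement_def, hu', hv']
      calc (b⁻¹ * a * b * a⁻¹)⁻¹ * (a' * (b⁻¹ * a * b * a⁻¹) * a'⁻¹)
          = (b⁻¹ * a * b * a⁻¹)⁻¹ * (b⁻¹ * a' * b * a'⁻¹)⁻¹ * (b⁻¹ * (a' * a) * b * (a' * a)⁻¹) := by group
        _ = _ := by rw [← haa]; group
    have hbw : ⁅b, ⁅u⁻¹, v⁻¹⁆⁆ = 1 :=
      commutatorElement_eq_one_iff_mul_comm.2 (hW _ (inv_mem hu) _ (inv_mem hv) b hb)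
    have hwD : ⁅u⁻¹, v⁻¹⁆ ∈ ⁅B, A⁆ := by
      rw [commutatorElement_def, inv_inv, inv_inv]
      exact mul_mem (mul_mem (mul_mem (inv_mem hu) (inv_mem hv)) hu) hv
    rw [hw, hadd b hb _ hwD s hsD, hbw, one_mul] at h2
    have h3 : ⁅u, v⁆ = ⁅v, u⁆ := mul_right_cancel (h1.trans h2.symm)
    rw [pow_two]
    nth_rw 2 [h3]
    rw [← commutatorElement_inv u v, mul_inv_cancel]
  -- the set of squares-trivial central elements is closed
  have hEE : ∀ x ∈ E, ∀ y ∈ E, ⁅x, y⁆ ^ 2 = 1 := by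
    have hcc : ∀ x ∈ ⁅B, A⁆, ∀ y ∈ ⁅B, A⁆, ∀ x' ∈ ⁅B, A⁆, ∀ y' ∈ ⁅B, A⁆,
        Commute ⁅x, y⁆ ⁅x', y'⁆ := fun x hx y hy x' hx' y' hy' =>
      (hW x hx y hy _ (by
        rw [commutatorElement_def]
        exact B.mul_mem (B.mul_mem (B.mul_mem (hDB hx') (hDB hy')) (B.inv_mem (hDB hx'))) (B.inv_mem (hDB hy')))).symm
    have hright : ∀ g ∈ ⁅B, A⁆, ∀ x ∈ ⁅B, A⁆, ∀ y ∈ ⁅B, A⁆, ⁅g, x⁆ ^ 2 = 1 → ⁅g, y⁆ ^ 2 = 1 →
        ⁅g, x * y⁆ ^ 2 = 1 := fun g hg x hx y hy h1 h2 => by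
      rw [hadd g (hDB hg) x hx y hy, (hcc g hg x hx g hg y hy).mul_pow, h1, h2, one_mul]
    intro x hx y hy
    induction hx, hy using Subgroup.closure_induction₂ with
    | mem x y hx hy =>
      obtain ⟨a, ha, rfl⟩ := hx
      obtain ⟨a', ha', rfl⟩ := hy
      exact key a ha a' ha'
    | one_left y _ => simp
    | one_right x _ => simp
    | mul_left x y z hx hy hz h1 h2 =>
      rw [← commutatorElement_inv, inv_pow, hright z (hED hz) x (hED hx) y (hED hy)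
        (by rw [← commutatorElement_inv, inv_pow, h1, inv_one])
        (by rw [← commutatorElement_inv, inv_pow, h2, inv_one]), inv_one]
    | mul_right y z x hy hz hx h1 h2 => exact hright _ (hED hx) _ (hED hy) _ (hED hz) h1 h2
    | inv_left x y hx hy h =>
      have e : ⁅x⁻¹, y⁆ = x⁻¹ * ⁅x, y⁆⁻¹ * x := by simp only [commutatorElement_def]; group
      rw [e, mul_assoc, show ⁅x, y⁆⁻¹ * x = x * ⁅x, y⁆⁻¹ from
        ((show Commute x ⁅x, y⁆ from hW _ (hED hx) _ (hED hy) x (hDB (hED hx))).inv_right).eq.symm,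
        inv_mul_cancel_left, inv_pow, h, inv_one]
    | inv_right x y hx hy h =>
      have e : ⁅x, y⁻¹⁆ = y⁻¹ * ⁅x, y⁆⁻¹ * y := by simp only [commutatorElement_def]; group
      rw [e, mul_assoc, show ⁅x, y⁆⁻¹ * y = y * ⁅x, y⁆⁻¹ from
        ((show Commute y ⁅x, y⁆ from hW _ (hED hx) _ (hED hy) y (hDB (hED hy))).inv_right).eq.symm,
        inv_mul_cancel_left, inv_pow, h, inv_one]
  intro w hw
  have hgoal : w ∈ Subgroup.centralizer ((⁅E, E⁆ : Subgroup G) : Set G) ∧ w ^ 2 = 1 := by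
    induction hw using Subgroup.closure_induction with
    | mem z hz =>
      obtain ⟨x, hx, y, hy, rfl⟩ := hz
      exact ⟨Subgroup.mem_centralizer_iff.2 fun g hg => hW x (hED hx) y (hED hy) g (by
        exact (Subgroup.commutator_le.2 fun p hp q hq => by
          rw [commutatorElement_def]
          exact B.mul_mem (B.mul_mem (B.mul_mem (hDB (hED hp)) (hDB (hED hq)))
            (B.inv_mem (hDB (hED hp)))) (B.inv_mem (hDB (hED hq)))) hg), hEE x hx y hy⟩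
    | one => exact ⟨one_mem _, one_pow 2⟩
    | mul x y hx hy h1 h2 =>
      exact ⟨mul_mem h1.1 h2.1, by
        rw [(show Commute x y from (Subgroup.mem_centralizer_iff.1 h1.1 y hy).symm).mul_pow, h1.2,
          h2.2, one_mul]⟩
    | inv x _ h => exact ⟨inv_mem h.1, by rw [inv_pow, h.2, inv_one]⟩
  exact hgoal.2

end Cfsg.Agent.S0648
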