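import Cfsg.Statements.S0650
import Cfsg.Agent.Lib.Fusion.Replacement

set_option autoImplicit false
open Cfsg

namespace Cfsg.Agent.S0650

/-- The Glauberman replacement Theorem: from an abelian A ⊇ [B, B] not normalized by the normal subgroup B and a suitable b ∈ B one gets the abelian subgroup A* = (A ∩ b⁻¹Ab)[A, b] of the same order, containing [B, B], meeting B strictly more than A does but not containing B, mutually normalizing with A, with strictly larger normalizer containing b, and (p odd) of no larger exponent. -/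
theorem result {S : Type*} [Group S] [Finite S] {p : ℕ} [Fact p.Prime] (hS : IsPGroup p S) (B : Subgroup S) [B.Normal] (hB2 : p = 2 → IsMulCommutative B) (A : Subgroup S) (hA : IsMulCommutative A) (hBA : ⁅B, B⁆ ≤ A) (hnot : ¬ B ≤ Subgroup.normalizer (A : Set S)) (b : S) (hb : b ∈ B) (hbN : b ∈ Subgroup.normalizer ((Subgroup.normalizer (A : Set S)) : Set S)) (hbA : b ∉ Subgroup.normalizer (A : Set S)) : Nat.card ↥((A ⊓ A.map (MulAut.conj (b⁻¹)).toMonoidHom) ⊔ Subgroup.closure {g : S | ∃ a ∈ A, g = a * b⁻¹ * a⁻¹ * b}) = Nat.card A ∧ IsMulCommutative ↥((A ⊓ A.map (MulAut.conj (b⁻¹)).toMonoidHom) ⊔ Subgroup.closure {g : S | ∃ a ∈ A, g = a * b⁻¹ * a⁻¹ * b}) ∧ ⁅B, B⁆ ≤ ((A ⊓ A.map (MulAut.conj (b⁻¹)).toMonoidHom) ⊔ Subgroup.closure {g : S | ∃ a ∈ A, g = a * b⁻¹ * a⁻¹ * b}) ∧ A ⊓ B < ((A ⊓ A.map (MulAut.conj (b⁻¹)).toMonoidHom) ⊔ Subgroup.closure {g : S | ∃ a ∈ A, g = a * b⁻¹ *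 a⁻¹ * b}) ⊓ B ∧ ((A ⊓ A.map (MulAut.conj (b⁻¹)).toMonoidHom) ⊔ Subgroup.closure {g : S | ∃ a ∈ A, g = a * b⁻¹ * a⁻¹ * b}) ⊓ B < B ∧ A ≤ Subgroup.normalizer (((A ⊓ A.map (MulAut.conj (b⁻¹)).toMonoidHom) ⊔ Subgroup.closure {g : S | ∃ a ∈ A, g = a * b⁻¹ * a⁻¹ * b} : Subgroup S) : Set S) ∧ ((A ⊓ A.map (MulAut.conj (b⁻¹)).toMonoidHom) ⊔ Subgroup.closure {g : S | ∃ a ∈ A, g = a * b⁻¹ * a⁻¹ * b}) ≤ Subgroup.normalizer (A : Set S) ∧ b ∈ Subgroup.normalizer (((A ⊓ A.map (MulAut.conj (b⁻¹)).toMonoidHom) ⊔ Subgroup.closure {g : S | ∃ a ∈ A, g = a * b⁻¹ * a⁻¹ * b} : Subgroup S) : Set S) ∧ Subgroup.normalizer (A : Set S) < Subgroup.normalizer (((A ⊓ A.map (MulAut.conj (b⁻¹)).toMonoidHom) ⊔ Subgroup.closure {g : S | ∃ a ∈ A, g = a * b⁻¹ * a⁻¹ * b} : Subgroup S) : Set S) ∧ (p ≠ 2 → Monoid.exponent ↥((A ⊓ A.map (MulAut.conj (b⁻¹)).toMonoidHom) ⊔ Subgroup.closure {g : S | ∃ a ∈ A, g = a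 * b⁻¹ * a⁻¹ * b}) ∣ Monoid.exponent A) := by
  have h : CfsgLib.Fusion.RStep p A B b := ⟨hS, ‹_›, hB2,
    fun x hx y hy => congrArg Subtype.val (hA.is_comm.comm (⟨x, hx⟩ : A) ⟨y, hy⟩), hBA, hb, hbN⟩
  refine ⟨h.card_rstar, h.isMulCommutative_rstar, h.derived_le_rstar, h.inf_lt_rstar_inf hbA,
    h.inf_lt hnot, h.le_normalizer, h.rstar_le_normalizer, h.b_mem_normalizer_rstar,
    h.normalizer_lt hbA, fun hp2 => ?_⟩
  obtain ⟨n, hn⟩ := (Monoid.exponent_dvd_of_forall_pow_eq_one fun a : A => by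
    have hk := hS.exists_card_eq.choose_spec
    exact Subtype.ext (by
      rw [Subgroup.coe_pow, Subgroup.coe_one]
      exact orderOf_dvd_iff_pow_eq_one.1 (hk ▸ orderOf_dvd_natCard (a : S))) : Monoid.exponent A ∣ p ^ (hS.exists_card_eq).choose)
    |> (Nat.dvd_prime_pow (Fact.out : p.Prime)).1
  refine Monoid.exponent_dvd_of_forall_pow_eq_one fun g => Subtype.ext ?_
  rw [Subgroup.coe_pow, Subgroup.coe_one]
  exact h.pow_eq_one_of_odd (hn.2 ▸ ((Fact.out : p.Prime).odd_of_ne_two hp2).pow)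
    (fun a ha => congrArg Subtype.val (Monoid.pow_exponent_eq_one (⟨a, ha⟩ : A))) g.2

end Cfsg.Agent.S0650
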