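import Cfsg.Statements.S0655
import Cfsg.Agent.Lib.Fusion.ZJFamilies

set_option autoImplicit false
open Cfsg

namespace Cfsg.Agent.S0655

/-- In a p-group the intersection of all elementary abelian subgroups of largest order is the subgroup generated by the elements of order dividing p in the centre (equivalently the centralizer) of the elementary-version Thompson subgroup. -/
theorem result {S : Type*} [Group S] [Finite S] {p : ℕ} [Fact p.Prime] (hS : IsPGroup p S) : sInf (Cfsg.maxElementaryAbelianSubgroups p S) = Cfsg.omegaCenterThompson p S ∧ Cfsg.omegaCenterThompson p S = Cfsg.omegaOne p (Subgroup.centralizer (Cfsg.thompsonSubgroup p S : Set S)) := by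
  have h1 : sInf (Cfsg.maxElementaryAbelianSubgroups p S) = ⨅ A ∈ CfsgLib.Fusion.maxEA p (⊤ : Subgroup S), A := by
    rw [sInf_eq_iInf]
    refine le_antisymm (le_iInf₂ fun A hA => iInf₂_le A ⟨hA.2.1, fun B hB => hA.2.2 B le_top hB⟩)
      (le_iInf₂ fun A hA => iInf₂_le A ⟨le_top, hA.1, fun B _ hB => hA.2 B hB⟩)
  have hJ : Cfsg.thompsonSubgroupOf p (⊤ : Subgroup S) = Cfsg.thompsonSubgroup p S := by
    rw [CfsgLib.Fusion.thompsonSubgroupOf_eq, Cfsg.thompsonSubgroup]
    refine le_antisymm (sSup_le fun A hA => le_sSup ⟨hA.2.1, fun B hB => hA.2.2 B le_top hB⟩)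
      (sSup_le fun A hA => le_sSup ⟨le_top, hA.1, fun B _ hB => hA.2 B hB⟩)
  have h2 : (⨅ A ∈ CfsgLib.Fusion.maxEA p (⊤ : Subgroup S), A) = Cfsg.omegaCenterThompson p S := by
    rw [CfsgLib.Fusion.iInf_maxEA, Cfsg.omegaCenterThompson, Cfsg.centerThompsonOf, hJ]
  refine ⟨h1.trans h2, le_antisymm ?_ ?_⟩
  · exact Subgroup.closure_mono fun x hx => ⟨hx.1.2, hx.2⟩
  · rw [Cfsg.omegaOne, Subgroup.closure_le, ← h2]
    exact fun x hx => CfsgLib.Fusion.mem_iInf_maxEA_iff.2 ⟨Subgroup.mem_top x, hx.2, hJ ▸ hx.1⟩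

end Cfsg.Agent.S0655
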