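import Cfsg.Statements.S0656
import Cfsg.Agent.Lib.Qd.Unstable

set_option autoImplicit false
open Cfsg

namespace Cfsg.Agent.S0656

/-- For odd p, a faithful group on an elementary abelian p-group with no nontrivial normal p-subgroup in which some nontrivial p-element acts quadratically has a section isomorphic to SL(2, p). -/
theorem result {G : Type*} [Group G] [Finite G] {p : ℕ} [Fact p.Prime] (hp : p ≠ 2) (V H : Subgroup G) (hV : Cfsg.IsElementaryAbelian p V) (hHV : H ≤ Subgroup.normalizer (V : Set G)) (hf : H ⊓ Subgroup.centralizer (V : Set G) = ⊥) (hO : Cfsg.pCore p ↥H = ⊥) (x : G) (hxH : x ∈ H) (hx1 : x ≠ 1) (hxp : ∃ k : ℕ, orderOf x = p ^ k) (hq : ⁅⁅V, Subgroup.zpowers x⁆, Subgroup.zpowers x⁆ = ⊥) : ∃ (K L : Subgroup G) (hL : (L.subgroupOf K).Normal), K ≤ H ∧ Nonempty ((K ⧸ L.subgroupOf K) ≃* Matrix.SpecialLinearGroup (Fin 2) (ZMod p)) := by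
  haveI : Finite H := inferInstance
  obtain ⟨g, y, hy, hye⟩ := CfsgLib.Qd.exists_pair_of_not_mem (p := p) (MonoidHom.id H)
    Function.surjective_id (a := ⟨x, hxH⟩) (by
      rw [hO, Subgroup.mem_bot]
      exact fun h => hx1 (congrArg Subtype.val h))
  have hy' : (y : G) ∈ Subgroup.closure {x, (g : G) * x * (g : G)⁻¹} := by
    have := Subgroup.mem_map_of_mem H.subtype hy
    rwa [MonoidHom.map_closure, Set.image_pair] at this
  have hle : Subgroup.closure {x, (g : G) * x * (g : G)⁻¹} ≤ H :=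
    (Subgroup.closure_le _).2 (by
      rintro z (rfl | rfl)
      · exact hxH
      · exact mul_mem (mul_mem g.2 hxH) (inv_mem g.2))
  obtain ⟨-, K, L, hL, hK, he⟩ := CfsgLib.Qd.sections_of_pair hp V
    (fun v => ⟨1, Subtype.ext (by simpa using hV.2 v v.2)⟩) (hHV hxH)
    (hHV (mul_mem (mul_mem g.2 hxH) (inv_mem g.2))) hq (CfsgLib.Qd.quadratic_conj (hHV g.2) hq)
    ⟨_, hy', fun e he => hye e (Subtype.ext (Subgroup.mem_bot.1 (hf ▸
      (⟨pow_mem y.2 _, he⟩ : (y : G) ^ p ^ e ∈ H ⊓ Subgroup.centralizer (V : Set G)))))⟩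
  exact ⟨K, L, hL, hK.trans hle, he⟩

end Cfsg.Agent.S0656
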