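import Cfsg.Statements.S0657
import Cfsg.Agent.Lib.Qd.Unstable

set_option autoImplicit false
open Cfsg

namespace Cfsg.Agent.S0657

/-- For odd p, a group that fails to be p-stable modulo its largest normal subgroup of order prime to p, and whose upper p-series does not stop there, has a section isomorphic to SL(2, p). -/
theorem result {G : Type*} [Group G] [Finite G] {p : ℕ} [Fact p.Prime] (hp : p ≠ 2) (hO : Cfsg.pPrimeCore p G < Cfsg.pPrimePCore p G) (hns : ¬ Cfsg.IsPStable p (G ⧸ Cfsg.pPrimeCore p G)) : ∃ (K L : Subgroup G) (hL : (L.subgroupOf K).Normal), K ≤ ⊤ ∧ Nonempty ((K ⧸ L.subgroupOf K) ≃* Matrix.SpecialLinearGroup (Fin 2) (ZMod p)) := by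
  classical
  haveI : (Cfsg.pPrimeCore p G).Normal := inferInstance
  set Q := G ⧸ Cfsg.pPrimeCore p G
  have hodd : Odd p := (Fact.out : p.Prime).odd_of_ne_two hp
  have hne : Cfsg.pCore p Q ≠ ⊥ := fun h => hO.ne (by
    rw [Cfsg.pPrimePCore, h, MonoidHom.comap_bot, QuotientGroup.ker_mk'])
  replace hns := fun h => hns ⟨hodd, hne, h⟩
  simp only [imp_false, not_forall] at hns
  obtain ⟨A, P, hA, hP, hAP, -, -, hq, hns⟩ := hns
  obtain ⟨z, hz, hzn⟩ := SetLike.not_le_iff_exists.1 hns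
  obtain ⟨a, haA, rfl⟩ := hz
  have hza : Subgroup.zpowers (a : Q) ≤ A := Subgroup.zpowers_le.2 haA
  obtain ⟨-, K, L, hn, -, ⟨e⟩⟩ := CfsgLib.Qd.sections_of_not_mem hp P hP a.2
    (le_bot_iff.1 (hq ▸ Subgroup.commutator_mono (Subgroup.commutator_mono le_rfl hza) hza)) hzn
  obtain ⟨K', L', hn', he'⟩ := CfsgLib.Fusion.involves_of_surjective
    (QuotientGroup.mk' (Cfsg.pPrimeCore p G)) (QuotientGroup.mk'_surjective _)
    (⟨K, L, hn, ⟨e⟩⟩ : Cfsg.Involves (Matrix.SpecialLinearGroup (Fin 2) (ZMod p)) Q)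
  exact ⟨K', L', hn', le_top, he'⟩

end Cfsg.Agent.S0657
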