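import Cfsg.Statements.S0658
import Cfsg.Agent.Lib.Fusion.System.AutStableLocal

set_option autoImplicit false
open Cfsg

namespace Cfsg.Agent.S0658

/-- In a group of characteristic p type all of whose p-locals are p-stable (p odd), the normalizer of Z(J(P)) contains the normalizer of every nontrivial subgroup of the Sylow p-subgroup P. -/
theorem result {G : Type*} [Group G] [Finite G] {p : ℕ} [Fact p.Prime] (hp : p ≠ 2) (hloc : ∀ Q : Subgroup G, IsPGroup p Q → Q ≠ ⊥ → Cfsg.pPrimeCore p ↥(Subgroup.normalizer (Q : Set G)) = ⊥ ∧ Cfsg.IsPConstrained p ↥(Subgroup.normalizer (Q : Set G)) ∧ Cfsg.IsPStable p ↥(Subgroup.normalizer (Q : Set G))) (P : Sylow p G) (Q : Subgroup G) (hQP : Q ≤ (P : Subgroup G)) (hQ1 : Q ≠ ⊥) : Subgroup.normalizer (Q : Set G) ≤ Subgroup.normalizer (Cfsg.centerThompsonAOf ((P : Subgroup G)) : Set G) := by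
  have hst := CfsgLib.Fusion.autStable_of_localPStable P fun Q h1 h2 => ⟨(hloc Q h1 h2).1, (hloc Q h1 h2).2.2⟩
  have hW := (CfsgLib.Fusion.isNormal_centres_of_stable hp P
    (D := (P : Subgroup G)) ⟨le_rfl, fun _ _ _ h => h⟩ hst
    fun U hU hU1 => (hloc U (P.2.to_le hU) hU1).2.1).1
  exact CfsgLib.Fusion.normalizer_le_of_localCharacteristic P hW
    (fun Q h1 h2 => ⟨(hloc Q h1 h2).1, (hloc Q h1 h2).2.1⟩) hQP hQ1

end Cfsg.Agent.S0658
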