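import Cfsg.Statements.S0662
import Cfsg.Agent.Lib.PGroup.MaxClassSeries

set_option autoImplicit false
open Cfsg

namespace Cfsg.Agent.S0662

/-- In a p-group of maximal class of order at least p³ the normal subgroups of index at least p² are exactly the terms of the lower central series, and there are exactly p + 1 normal subgroups of index p. -/
theorem result {G : Type*} [Group G] [Finite G] {p : ℕ} [Fact p.Prime] (n : ℕ) (hG : Nat.card G = p ^ n) (hcl : Group.nilpotencyClass G = n - 1) (hn : 3 ≤ n) : (∀ (N : Subgroup G) [N.Normal] (r : ℕ), 2 ≤ r → N.index = p ^ r → N = (⊤ : Subgroup G).lowerCentralSeries (r - 1)) ∧ Nat.card {N : Subgroup G // N.Normal ∧ N.index = p} = p + 1 := by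
  have hp : IsPGroup p G := IsPGroup.of_card hG
  have hidx := CfsgLib.PGroup.index_lowerCentralSeries_of_maximal hp hG hn hcl
  refine ⟨fun N _ r hr hN => ?_, ?_⟩
  · have hle := CfsgLib.PGroup.lowerCentralSeries_le_of_index hp hr hN
    have hrn : r ≤ n := by
      have h1 := hN ▸ hG ▸ N.index_dvd_card
      exact (Nat.pow_dvd_pow_iff_le_right (Fact.out : p.Prime).one_lt).1 h1
    have h2 := hidx (r - 1) (by omega) (by omega)
    rw [show r - 1 + 1 = r by omega] at h2
    refine le_antisymm ?_ hle
    have h3 := Subgroup.relIndex_mul_index hle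
    rw [h2, hN] at h3
    exact Subgroup.relIndex_eq_one.1 ((Nat.mul_eq_right (pow_pos (Fact.out : p.Prime).pos r).ne').1 h3)
  · have hQ : Nat.card (G ⧸ commutator G) = p ^ 2 := by
      rw [← Subgroup.index_eq_card, ← Subgroup.top_lowerCentralSeries_one]
      exact hidx 1 le_rfl (by omega)
    have hnc : ¬ IsCyclic (G ⧸ commutator G) := fun h => by
      haveI := CfsgLib.PGroup.isCyclic_of_cyclic_abelianization hp h
      have h1 : (⊤ : Subgroup G).lowerCentralSeries 1 = ⊥ := by
        rw [Subgroup.lowerCentralSeries_succ, Subgroup.commutator_eq_bot_iff_le_centralizer]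
        exact fun g _ => Subgroup.mem_centralizer_iff.2 fun y _ => IsCyclic.commGroup.mul_comm y g
      haveI := hp.isNilpotent
      have := Subgroup.lowerCentralSeries_eq_bot_iff_nilpotencyClass_le.1 h1
      omega
    rw [← CfsgLib.PGroup.card_subgroups_prime_of_sq hQ hnc]
    have hπ := QuotientGroup.mk'_surjective (commutator G)
    have hle : ∀ N : Subgroup G, N.Normal → N.index = p → commutator G ≤ N := fun N hN hi =>
      haveI := hN
      hN.quotient_commutative_iff_commutator_le.1 (by
        haveI := isCyclic_of_prime_card (p := p) (α := G ⧸ N) hi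
        exact IsCyclic.isMulCommutative)
    have hcard : ∀ H : Subgroup (G ⧸ commutator G), Nat.card H = p ↔ H.index = p := fun H => by
      have h1 := H.card_mul_index
      rw [hQ, pow_two] at h1
      constructor <;> intro h2 <;> rw [h2] at h1
      · exact Nat.eq_of_mul_eq_mul_left (Fact.out : p.Prime).pos h1
      · exact Nat.eq_of_mul_eq_mul_right (Fact.out : p.Prime).pos h1
    refine Nat.card_congr ⟨fun N => ⟨N.1.map (QuotientGroup.mk' (commutator G)), (hcard _).2 ?_⟩,
      fun H => ⟨H.1.comap (QuotientGroup.mk' (commutator G)), ?_, ?_⟩, fun N => Subtype.ext ?_,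
      fun H => Subtype.ext ?_⟩
    · rw [Subgroup.index_map_eq _ hπ (by rw [QuotientGroup.ker_mk']; exact hle N.1 N.2.1 N.2.2)]
      exact N.2.2
    · exact (Subgroup.Normal.comap ⟨fun x hx g => by
        have hc : g * x = x * g := by
          obtain ⟨a, rfl⟩ := hπ g
          obtain ⟨b, rfl⟩ := hπ x
          rw [← commutatorElement_eq_one_iff_mul_comm, ← map_commutatorElement]
          exact (QuotientGroup.eq_one_iff _).2
            (Subgroup.commutator_mem_commutator (Subgroup.mem_top a) (Subgroup.mem_top b))
        rw [hc, mul_inv_cancel_right]; exact hx⟩ _)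
    · rw [Subgroup.index_comap_of_surjective _ hπ]
      exact (hcard _).1 H.2
    · exact Subgroup.comap_map_eq_self (by rw [QuotientGroup.ker_mk']; exact hle N.1 N.2.1 N.2.2)
    · exact Subgroup.map_comap_eq_self_of_surjective hπ _

end Cfsg.Agent.S0662
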