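import Cfsg.Statements.S0663
import Mathlib

set_option autoImplicit false
open Cfsg
open scoped commutatorElement

namespace Cfsg.Agent.S0663

theorem eq_bot_of_le_commutator {L : Type*} [Group L] [Finite L] {p : ℕ} [Fact p.Prime]
    {P H : Subgroup L} (hP : IsPGroup p P) (hH : H ≤ P) (h : H ≤ ⁅H, P⁆) : H = ⊥ := by
  haveI := hP.isNilpotent
  obtain ⟨k, hk⟩ := (Subgroup.isNilpotent_iff_lowerCentralSeries P).1 inferInstance
  have key : ∀ j, H ≤ P.lowerCentralSeries j := by
    intro j
    induction j with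
    | zero => exact hH
    | succ j ih => exact h.trans (Subgroup.commutator_mono ih le_rfl)
  rw [← le_bot_iff]
  exact (key k).trans hk.le

/-- A p-group acts uniserially on a p-group N of order p^n exactly when the iterated commutator chain from N has length n; in that case the chain terms are all the invariant subgroups of N and they are normal in N. -/
theorem result {L : Type*} [Group L] [Finite L] {p : ℕ} [Fact p.Prime] (N G : Subgroup L) (hN : IsPGroup p N) (hG : IsPGroup p G) (hGN : G ≤ Subgroup.normalizer (N : Set L)) (n : ℕ) (hn : Nat.card N = p ^ n) : ((∀ H : Subgroup L, H ≤ N → G ≤ Subgroup.normalizer (H : Set L) → H ≠ ⊥ → (⁅H, G⁆).relIndex H = p) ↔ Cfsg.iterCommutator N G (n - 1) ≠ ⊥ ∨ n = 0) ∧ ((∀ H : Subgroup L, H ≤ N → G ≤ Subgroup.normalizer (H : Set L) → H ≠ ⊥ → (⁅H, G⁆).relIndex H = p) → ∀ H : Subgroup L, H ≤ N → G ≤ Subgroup.normalizer (H : Set L) → (∃ i ≤ n, H = Cfsg.iterCommutator N G i) ∧ N ≤ Subgroup.normalizer (H : Set L)) := by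
  have hp : p.Prime := Fact.out
  have hp2 := hp.two_le
  set P := N ⊔ G with hPdef
  have hP : IsPGroup p P := hN.to_sup_of_normal_left' hG hGN
  have hNn : P ≤ Subgroup.normalizer (N : Set L) := sup_le Subgroup.le_normalizer hGN
  -- invariant subgroups lose at least a factor of p
  have hstep : ∀ (X H : Subgroup L), X ≤ P → H ≤ N → X ≤ Subgroup.normalizer (H : Set L) →
      ⁅H, X⁆ ≤ H ∧ X ≤ Subgroup.normalizer ((⁅H, X⁆ : Subgroup L) : Set L) ∧
        (H = ⊥ ∨ p * Nat.card ↥(⁅H, X⁆) ≤ Nat.card H) := by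
    intro X H hX hHN hXH
    have h1 : ⁅H, X⁆ ≤ H := Subgroup.le_normalizer_iff_commutator_le_left.1 hXH
    refine ⟨h1, ?_, ?_⟩
    · exact Subgroup.normalizer_commutator_ge_right H X
    · by_cases hb : H = ⊥
      · exact Or.inl hb
      right
      have hne : ¬ H ≤ ⁅H, X⁆ := fun hle => hb (eq_bot_of_le_commutator hP (hHN.trans le_sup_left)
        (hle.trans (Subgroup.commutator_mono le_rfl hX)))
      obtain ⟨a, ha⟩ := IsPGroup.iff_card.1 (hN.to_le hHN)
      obtain ⟨b, hb'⟩ := IsPGroup.iff_card.1 (hN.to_le (h1.trans hHN))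
      have hlt : Nat.card ↥(⁅H, X⁆) < Nat.card H := by
        refine lt_of_le_of_ne (Subgroup.card_le_of_le h1) fun e => hne ?_
        exact (Subgroup.eq_of_le_of_card_ge h1 e.ge).ge
      rw [ha, hb'] at hlt ⊢
      rw [← pow_succ']
      exact Nat.pow_le_pow_right hp.pos (Nat.succ_le_of_lt ((Nat.pow_lt_pow_iff_right hp.one_lt).1 hlt))
  let γ : ℕ → Subgroup L := Cfsg.iterCommutator N G
  let δ : ℕ → Subgroup L := Cfsg.iterCommutator N P
  have hbase : ∀ (X : Subgroup L), X ≤ P → ∀ i, Cfsg.iterCommutator N X i ≤ N ∧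
      X ≤ Subgroup.normalizer (Cfsg.iterCommutator N X i : Set L) := by
    intro X hX i
    induction i with
    | zero => exact ⟨le_rfl, hX.trans hNn⟩
    | succ i ih =>
        obtain ⟨h1, h2, -⟩ := hstep X _ hX ih.1 ih.2
        exact ⟨h1.trans ih.1, h2⟩
  have hdec : ∀ (X : Subgroup L), X ≤ P → ∀ i j, i ≤ j →
      Cfsg.iterCommutator N X j ≤ Cfsg.iterCommutator N X i := by
    intro X hX i j hij
    induction hij with
    | refl => exact le_rfl
    | step _ ih => exact (hstep X _ hX (hbase X hX _).1 (hbase X hX _).2).1.trans ih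
  have hcard : ∀ (X : Subgroup L), X ≤ P → ∀ i, Cfsg.iterCommutator N X i = ⊥ ∨
      p ^ i * Nat.card ↥(Cfsg.iterCommutator N X i) ≤ p ^ n := by
    intro X hX i
    induction i with
    | zero => right; simp [Cfsg.iterCommutator, hn]
    | succ i ih =>
        obtain ⟨hc1, hc2, hc3⟩ := hstep X _ hX (hbase X hX i).1 (hbase X hX i).2
        rcases hc3 with hc3 | hc3
        · exact Or.inl (le_bot_iff.1 (hc1.trans hc3.le))
        rcases ih with ih | ih
        · exact Or.inl (le_bot_iff.1 (hc1.trans ih.le))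
        right
        calc p ^ (i + 1) * Nat.card ↥(Cfsg.iterCommutator N X (i + 1))
            = p ^ i * (p * Nat.card ↥(⁅Cfsg.iterCommutator N X i, X⁆)) := by
              rw [pow_succ, mul_assoc]; rfl
          _ ≤ p ^ i * Nat.card ↥(Cfsg.iterCommutator N X i) := Nat.mul_le_mul_left _ hc3
          _ ≤ p ^ n := ih
  have hbotn : ∀ (X : Subgroup L), X ≤ P → Cfsg.iterCommutator N X n = ⊥ := fun X hX => by
    rcases hcard X hX n with h | h
    · exact h
    · refine Subgroup.card_eq_one.1 (le_antisymm ?_ Nat.card_pos)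
      exact Nat.le_of_mul_le_mul_left (h.trans (mul_one _).ge) (pow_pos hp.pos n)
  -- the hypothesis gives the exact orders
  have hfwd : (∀ H : Subgroup L, H ≤ N → G ≤ Subgroup.normalizer (H : Set L) → H ≠ ⊥ →
      (⁅H, G⁆).relIndex H = p) → ∀ i ≤ n, Nat.card ↥(γ i) = p ^ (n - i) := by
    intro hu i hi
    induction i with
    | zero => simpa [γ, Cfsg.iterCommutator] using hn
    | succ i ih =>
        have h1 := ih (by omega)
        obtain ⟨hN1, hG1⟩ := hbase G le_sup_right i
        have hne : γ i ≠ ⊥ := fun h => by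
          rw [h, Subgroup.card_bot] at h1
          exact absurd h1.symm (by simp [hp.ne_one]; omega)
        have h2 := hu _ hN1 hG1 hne
        have h3 := Subgroup.relIndex_mul_relIndex ⊥ ⁅γ i, G⁆ (γ i) bot_le
          (hdec G le_sup_right i (i + 1) (by omega))
        rw [Subgroup.relIndex_bot_left, Subgroup.relIndex_bot_left, h2, h1,
          show n - i = n - (i + 1) + 1 by omega, pow_succ] at h3
        exact Nat.eq_of_mul_eq_mul_right hp.pos h3
  -- a long chain gives the exact orders
  have hbwd : Cfsg.iterCommutator N G (n - 1) ≠ ⊥ ∨ n = 0 →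
      ∀ i ≤ n, Nat.card ↥(γ i) = p ^ (n - i) ∧ γ i = δ i := by
    intro hl i hi
    rcases eq_or_lt_of_le hi with rfl | hi'
    · rw [show γ i = ⊥ from hbotn G le_sup_right, show δ i = ⊥ from hbotn P le_rfl, Nat.sub_self,
        pow_zero, Subgroup.card_bot]
      exact ⟨rfl, rfl⟩
    have hl' : Cfsg.iterCommutator N G (n - 1) ≠ ⊥ := hl.resolve_right (by omega)
    have hge : ∀ j, j ≤ n - 1 → p ^ (n - (n - 1 - j)) ≤ Nat.card ↥(γ (n - 1 - j)) := by
      intro j hj
      induction j with
      | zero =>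
          rw [Nat.sub_zero, show n - (n - 1) = 1 by omega, pow_one]
          obtain ⟨a, ha⟩ := IsPGroup.iff_card.1 (hN.to_le (hbase G le_sup_right (n - 1)).1)
          rw [show Nat.card ↥(γ (n - 1)) = _ from ha]
          refine Nat.le_self_pow (fun e => hl' (Subgroup.card_eq_one.1 ?_)) p
          rw [ha, e, pow_zero]
      | succ j ih =>
          have ih' := ih (by omega)
          obtain ⟨hc1, -, hc3⟩ := hstep G _ le_sup_right (hbase G le_sup_right (n - 1 - (j + 1))).1
            (hbase G le_sup_right (n - 1 - (j + 1))).2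
          have e : n - 1 - j = n - 1 - (j + 1) + 1 := by omega
          rcases hc3 with hc3 | hc3
          · exact absurd (le_bot_iff.1 ((hdec G le_sup_right _ (n - 1) (by omega)).trans hc3.le)) hl'
          rw [e] at ih'
          calc p ^ (n - (n - 1 - (j + 1))) = p * p ^ (n - (n - 1 - (j + 1) + 1)) := by
                rw [← pow_succ']; congr 1; omega
            _ ≤ p * Nat.card ↥(γ (n - 1 - (j + 1) + 1)) := Nat.mul_le_mul_left _ ih'
            _ ≤ _ := hc3
    have h1 := hge (n - 1 - i) (by omega)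
    rw [show n - 1 - (n - 1 - i) = i by omega] at h1
    have hle : ∀ j, γ j ≤ δ j := by
      intro j
      induction j with
      | zero => exact le_rfl
      | succ j ih => exact Subgroup.commutator_mono ih le_sup_right
    have h2 : Nat.card ↥(δ i) ≤ p ^ (n - i) := by
      rcases hcard P le_rfl i with h | h
      · rw [show δ i = ⊥ from h, Subgroup.card_bot]; exact Nat.one_le_pow _ _ hp.pos
      · refine Nat.le_of_mul_le_mul_left (h.trans (le_of_eq ?_)) (pow_pos hp.pos i)
        rw [← pow_add]; congr 1; omega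
    have h3 : γ i = δ i := Subgroup.eq_of_le_of_card_ge (hle i) (h2.trans h1)
    exact ⟨le_antisymm ((congrArg (fun S : Subgroup L => Nat.card S) h3).le.trans h2) h1, h3⟩
  have huni : Cfsg.iterCommutator N G (n - 1) ≠ ⊥ ∨ n = 0 → ∀ H : Subgroup L, H ≤ N →
      G ≤ Subgroup.normalizer (H : Set L) → ∃ i ≤ n, H = γ i := by
    intro hl H hHN hHG
    classical
    have hnorm : ∀ j ≤ n, N ≤ Subgroup.normalizer (γ j : Set L) := fun j hj => by
      rw [(hbwd hl j hj).2]; exact le_sup_left.trans (hbase P le_rfl j).2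
    set i := Nat.findGreatest (fun i => H ≤ γ i) n with hidef
    have hHi : H ≤ γ i := Nat.findGreatest_spec (P := fun i => H ≤ γ i) (Nat.zero_le n) hHN
    have hin : i ≤ n := Nat.findGreatest_le n
    refine ⟨i, hin, le_antisymm hHi ?_⟩
    have key : ∀ d, i + d ≤ n → γ i ≤ H ⊔ γ (i + d) ∧ (i + d < n → γ (i + d) ≤ H ⊔ γ (i + d + 1)) := by
      intro d
      induction d with
      | zero =>
          intro _
          refine ⟨le_sup_right, fun hlt => ?_⟩
          have hnot : ¬ H ≤ γ (i + 1) := Nat.findGreatest_is_greatest (P := fun i => H ≤ γ i)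
            (Nat.lt_succ_self i) (by omega)
          have hle : H ⊔ γ (i + 1) ≤ γ i := sup_le hHi (hdec G le_sup_right i (i + 1) (by omega))
          refine (Subgroup.eq_of_le_of_card_ge hle ?_).ge
          rw [(hbwd hl i hin).1, show n - i = n - (i + 1) + 1 by omega, pow_succ']
          obtain ⟨a, ha⟩ := IsPGroup.iff_card.1 (hN.to_le (hle.trans (hbase G le_sup_right i).1))
          have hlt' : Nat.card ↥(γ (i + 1)) < Nat.card ↥(H ⊔ γ (i + 1)) := by
            refine lt_of_le_of_ne (Subgroup.card_le_of_le le_sup_right) fun e => hnot ?_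
            exact le_sup_left.trans (Subgroup.eq_of_le_of_card_ge le_sup_right e.ge).ge
          rw [(hbwd hl (i + 1) (by omega)).1, ha] at hlt'
          rw [← pow_succ', ha]
          exact Nat.pow_le_pow_right hp.pos
            (Nat.succ_le_of_lt ((Nat.pow_lt_pow_iff_right hp.one_lt).1 hlt'))
      | succ d ih =>
          intro hd
          obtain ⟨h1, h2⟩ := ih (by omega)
          have h3 := h2 (by omega)
          refine ⟨h1.trans (sup_le le_sup_left h3), fun hlt => ?_⟩
          show ⁅γ (i + d), G⁆ ≤ _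
          rw [Subgroup.commutator_le]
          intro x hx g hg
          have hx' := h3 hx
          rw [← SetLike.mem_coe,
            Subgroup.coe_mul_of_left_le_normalizer_right H _ (hHN.trans (hnorm _ (by omega)))] at hx'
          obtain ⟨h, hh, k, hk, rfl⟩ := hx'
          show ⁅h * k, g⁆ ∈ _
          rw [show ⁅h * k, g⁆ = h * ⁅k, g⁆ * h⁻¹ * ⁅h, g⁆ by simp only [commutatorElement_def]; group]
          refine mul_mem (Subgroup.mem_sup_right ?_) (Subgroup.mem_sup_left ?_)
          · exact (Subgroup.mem_normalizer_iff.1 (hnorm (i + (d + 1) + 1) hlt (hHN hh)) _).1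
              (Subgroup.commutator_mem_commutator hk hg)
          · exact Subgroup.le_normalizer_iff_commutator_le_left.1 hHG
              (Subgroup.commutator_mem_commutator hh hg)
    have := (key (n - i) (by omega)).1
    rwa [show i + (n - i) = n by omega, show γ n = ⊥ from hbotn G le_sup_right, sup_bot_eq] at this
  have hiff : (∀ H : Subgroup L, H ≤ N → G ≤ Subgroup.normalizer (H : Set L) → H ≠ ⊥ →
      (⁅H, G⁆).relIndex H = p) ↔ Cfsg.iterCommutator N G (n - 1) ≠ ⊥ ∨ n = 0 := by
    constructor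
    · intro hu
      by_cases h0 : n = 0
      · exact Or.inr h0
      refine Or.inl fun h => ?_
      have := hfwd hu (n - 1) (by omega)
      rw [show γ (n - 1) = ⊥ from h, Subgroup.card_bot, show n - (n - 1) = 1 by omega, pow_one] at this
      omega
    · intro hl H hHN hHG hH
      obtain ⟨i, hi, rfl⟩ := huni hl H hHN hHG
      have hin : i < n := lt_of_le_of_ne hi fun e => hH (by rw [e]; exact hbotn G le_sup_right)
      have h3 := Subgroup.relIndex_mul_relIndex ⊥ ⁅γ i, G⁆ (γ i) bot_le
        (hdec G le_sup_right i (i + 1) (by omega))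
      rw [Subgroup.relIndex_bot_left, Subgroup.relIndex_bot_left, (hbwd hl i hi).1,
        show ⁅γ i, G⁆ = γ (i + 1) from rfl, (hbwd hl (i + 1) hin).1,
        show n - i = n - (i + 1) + 1 by omega, pow_succ] at h3
      exact Nat.eq_of_mul_eq_mul_left (pow_pos hp.pos _) h3
  refine ⟨hiff, fun hu H hHN hHG => ?_⟩
  obtain ⟨i, hi, rfl⟩ := huni (hiff.1 hu) H hHN hHG
  refine ⟨⟨i, hi, rfl⟩, ?_⟩
  rw [(hbwd (hiff.1 hu) i hi).2]
  exact le_sup_left.trans (hbase P le_rfl i).2
end Cfsg.Agent.S0663
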