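import Cfsg.Statements.S0666
import Cfsg.Agent.Lib.Coprime.Frobenius
import Cfsg.Agent.Lib.Char.FrobeniusFixed

set_option autoImplicit false
open Cfsg

namespace Cfsg.Agent.S0666

/-- A Frobenius group acting on a nontrivial abelian group of order prime to that of its kernel, with the kernel acting without nontrivial fixed points, has a complement with a nontrivial fixed point. -/
theorem result {G : Type*} [Group G] [Finite G] (V F : Subgroup G) (hVab : IsMulCommutative V) (hV1 : V ≠ ⊥) (hFV : F ≤ Subgroup.normalizer (V : Set G)) (H : Subgroup ↥F) (hH : Cfsg.IsFrobeniusComplement H) (hcop : (Nat.card V).Coprime (Nat.card (Cfsg.frobeniusKernel H))) (hCK : V ⊓ Subgroup.centralizer (Subtype.val '' Cfsg.frobeniusKernel H : Set G) = ⊥) : V ⊓ Subgroup.centralizer ((H.map F.subtype : Subgroup G) : Set G) ≠ ⊥ := by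
  classical
  obtain ⟨U, hUK, hUn, hc⟩ := CfsgLib.Coprime.frob_kernel_subgroup hH
  haveI := hUn
  haveI := hVab
  letI : CommGroup V := { (inferInstance : Group V) with mul_comm := fun a b => mul_comm' a b }
  letI := Fintype.ofFinite F
  intro hH1
  let c : F → V → V := fun x v =>
    ⟨(x : G) * v * (x : G)⁻¹, (Subgroup.mem_normalizer_iff.1 (hFV x.2) v).1 v.2⟩
  have c_mul : ∀ x y v, c (x * y) v = c x (c y v) := fun x y v => Subtype.ext (by
    show (↑(x * y) : G) * v * (↑(x * y) : G)⁻¹ = (x : G) * ((y : G) * v * (y : G)⁻¹) * (x : G)⁻¹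
    rw [Subgroup.coe_mul]; group)
  let cH : ∀ _ : F, V →* V := fun x => MonoidHom.mk' (c x) (fun a b => Subtype.ext (by
    show (x : G) * (↑(a * b) : G) * (x : G)⁻¹ = (x : G) * a * (x : G)⁻¹ * ((x : G) * b * (x : G)⁻¹)
    rw [Subgroup.coe_mul]; group))
  -- a product over a subgroup is fixed by it
  have hfix : ∀ (S : Subgroup F) (v : V), (∀ w : V, (∀ s ∈ S, c s w = w) → w = 1) →
      ∏ s : S, c s v = 1 := by
    intro S v hS
    refine hS _ fun s hs => ?_
    show cH s (∏ t : S, c t v) = _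
    rw [map_prod]
    refine Fintype.prod_equiv (Equiv.mulLeft (⟨s, hs⟩ : S)) _ _ fun t => ?_
    exact (c_mul s t v).symm
  have hK1 : ∀ w : V, (∀ s ∈ U, c s w = w) → w = 1 := by
    intro w hw
    have : (w : G) ∈ V ⊓ Subgroup.centralizer (Subtype.val '' Cfsg.frobeniusKernel H : Set G) := by
      refine Subgroup.mem_inf.2 ⟨w.2, Subgroup.mem_centralizer_iff.2 ?_⟩
      rintro _ ⟨s, hs, rfl⟩
      have := congrArg Subtype.val (hw s (by rw [← SetLike.mem_coe, hUK]; exact hs))
      exact mul_inv_eq_iff_eq_mul.1 this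
    rw [hCK, Subgroup.mem_bot] at this
    exact Subtype.ext this
  have hE1 : ∀ w : V, (∀ s ∈ H, c s w = w) → w = 1 := by
    intro w hw
    have : (w : G) ∈ V ⊓ Subgroup.centralizer ((H.map F.subtype : Subgroup G) : Set G) := by
      refine Subgroup.mem_inf.2 ⟨w.2, Subgroup.mem_centralizer_iff.2 ?_⟩
      rintro _ ⟨s, hs, rfl⟩
      have := congrArg Subtype.val (hw s hs)
      exact mul_inv_eq_iff_eq_mul.1 this
    rw [hH1, Subgroup.mem_bot] at this
    exact Subtype.ext this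
  refine hV1 ((Subgroup.eq_bot_iff_forall _).2 fun v hv => ?_)
  have hfpf : ∀ e ∈ H, e ≠ 1 → ∀ u ∈ U, e * u = u * e → u = 1 := fun e he he1 u hu h =>
    CfsgLib.Coprime.frob_kernel_inter (by rw [← hUK]; exact hu)
      (CfsgLib.Coprime.frob_mem_of_commute hH he he1 h)
  have hkey := CfsgLib.Char.sum_frobenius (M := Additive V) U H hc.disjoint.eq_bot hc.sup_eq_top hfpf
    (fun x => Additive.ofMul (c x ⟨v, hv⟩))
  simp only [← ofMul_prod, ← ofMul_pow, ← ofMul_mul] at hkey
  have hkey' := Additive.ofMul.injective hkey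
  have h1 : c 1 ⟨v, hv⟩ = ⟨v, hv⟩ := Subtype.ext (by simp [c])
  have h2 : ∀ u : F, ∏ e : H, c (u * (e : F) * u⁻¹) ⟨v, hv⟩ = 1 := fun u => by
    have : ∀ e : H, c (u * (e : F) * u⁻¹) ⟨v, hv⟩ = cH u (c e (c u⁻¹ ⟨v, hv⟩)) := fun e => by
      rw [c_mul, c_mul]; rfl
    rw [Finset.prod_congr rfl fun e _ => this e, ← map_prod, hfix H _ hE1, map_one]
  have h3 : ∏ x : F, c x ⟨v, hv⟩ = 1 := by
    refine hK1 _ fun s hs => ?_
    show cH s (∏ x : F, c x ⟨v, hv⟩) = _
    rw [map_prod]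
    exact Fintype.prod_equiv (Equiv.mulLeft s) _ _ fun t => (c_mul s t _).symm
  rw [h3, one_mul, hfix U _ hK1, one_mul, h1] at hkey'
  rw [Finset.prod_congr rfl (g := fun _ => (1 : V)) fun (u : U) _ => h2 (u : F),
    Finset.prod_const_one] at hkey'
  have h4 : orderOf (⟨v, hv⟩ : V) ∣ Nat.gcd (Nat.card V) (Nat.card U) :=
    Nat.dvd_gcd (orderOf_dvd_natCard _) (orderOf_dvd_of_pow_eq_one hkey')
  have h5 : Nat.card U = Nat.card (Cfsg.frobeniusKernel H) := by rw [← hUK]; rfl
  rw [h5, hcop.gcd_eq_one, Nat.dvd_one, orderOf_eq_one_iff] at h4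
  exact congrArg Subtype.val h4

end Cfsg.Agent.S0666
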