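import Cfsg.Statements.S0668
import Mathlib

set_option autoImplicit false
open Cfsg

namespace Cfsg.Agent.S0668

/-- The equivariant linear maps between the permutation modules of two finite `G`-sets form a space whose dimension is the number of `G`-orbits on the product of the two sets. -/
theorem result {G : Type*} [Group G] {K : Type*} [Field K] {Ω₁ Ω₂ : Type*} [Fintype Ω₁] [Fintype Ω₂] [MulAction G Ω₁] [MulAction G Ω₂] : Module.finrank K ((Cfsg.permRep K G Ω₁).linHom (Cfsg.permRep K G Ω₂)).invariants = Nat.card (MulAction.orbitRel.Quotient G (Ω₁ × Ω₂)) := by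
  classical
  haveI : Fintype (MulAction.orbitRel.Quotient G (Ω₁ × Ω₂)) := Fintype.ofFinite _
  have hsingle : ∀ (g : G) (a : Ω₁), Cfsg.permRep K G Ω₁ g⁻¹ (Pi.single (g • a) 1) = Pi.single a 1 := by
    intro g a
    funext x
    show (Pi.single (g • a) 1 : Ω₁ → K) (g⁻¹⁻¹ • x) = _
    rw [inv_inv]
    by_cases h : x = a
    · simp [h]
    · rw [Pi.single_eq_of_ne h, Pi.single_eq_of_ne (fun hh => h (MulAction.injective g hh))]
  have hinv : ∀ f ∈ ((Cfsg.permRep K G Ω₁).linHom (Cfsg.permRep K G Ω₂)).invariants, ∀ (g : G) (x : Ω₁ × Ω₂),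
      f (Pi.single (g • x).1 1) (g • x).2 = f (Pi.single x.1 1) x.2 := by
    intro f hf g x
    have h1 := congrFun (LinearMap.congr_fun (hf g) (Pi.single (g • x.1) 1)) (g • x.2)
    rw [Representation.linHom_apply, LinearMap.comp_apply, LinearMap.comp_apply, hsingle] at h1
    simp only [Cfsg.permRep, MonoidHom.coe_mk, OneHom.coe_mk, LinearMap.coe_mk, AddHom.coe_mk, inv_smul_smul] at h1
    exact h1.symm
  let back : (MulAction.orbitRel.Quotient G (Ω₁ × Ω₂) → K) →ₗ[K] ((Ω₁ → K) →ₗ[K] (Ω₂ → K)) :=
    { toFun := fun φ =>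
        { toFun := fun v b => ∑ a, φ (Quotient.mk'' (a, b)) * v a
          map_add' := fun v w => funext fun b => by simp [mul_add, Finset.sum_add_distrib]
          map_smul' := fun c v => funext fun b => by simp [Finset.mul_sum, mul_left_comm] }
      map_add' := fun φ ψ => LinearMap.ext fun v => funext fun b => by simp [add_mul, Finset.sum_add_distrib]
      map_smul' := fun c φ => LinearMap.ext fun v => funext fun b => by simp [Finset.mul_sum, mul_assoc] }
  have hback : ∀ φ, back φ ∈ ((Cfsg.permRep K G Ω₁).linHom (Cfsg.permRep K G Ω₂)).invariants := by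
    intro φ g
    refine LinearMap.ext fun v => funext fun b => ?_
    rw [Representation.linHom_apply]
    show ∑ a, φ (Quotient.mk'' (a, g⁻¹ • b)) * v (g⁻¹⁻¹ • a) = ∑ a, φ (Quotient.mk'' (a, b)) * v a
    refine Fintype.sum_equiv (MulAction.toPerm g) _ _ fun a => ?_
    rw [inv_inv]
    congr 2
    refine (Quotient.sound' ?_).symm
    exact ⟨g, Prod.ext rfl (smul_inv_smul g b)⟩
  let e : ((Cfsg.permRep K G Ω₁).linHom (Cfsg.permRep K G Ω₂)).invariants ≃ₗ[K]
      (MulAction.orbitRel.Quotient G (Ω₁ × Ω₂) → K) :=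
    { toFun := fun f o => Quotient.liftOn' o (fun x => f.1 (Pi.single x.1 1) x.2) (by
        rintro x y ⟨g, rfl⟩
        exact hinv f.1 f.2 g y)
      map_add' := fun f g => funext fun o => Quotient.inductionOn' o fun x => rfl
      map_smul' := fun c f => funext fun o => Quotient.inductionOn' o fun x => rfl
      invFun := fun φ => ⟨back φ, hback φ⟩
      left_inv := fun f => by
        apply Subtype.ext
        refine LinearMap.ext fun v => funext fun b => ?_
        show ∑ a, f.1 (Pi.single a 1) b * v a = f.1 v b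
        conv_rhs => rw [pi_eq_sum_univ' v]
        rw [map_sum, Finset.sum_apply]
        exact Finset.sum_congr rfl fun a _ => by rw [map_smul, Pi.smul_apply, smul_eq_mul, mul_comm]
      right_inv := fun φ => funext fun o => Quotient.inductionOn' o fun x => by
        show ∑ a, φ (Quotient.mk'' (a, x.2)) * (Pi.single x.1 1 : Ω₁ → K) a = φ (Quotient.mk'' x)
        rw [Finset.sum_eq_single x.1 (fun a _ ha => by rw [Pi.single_eq_of_ne ha, mul_zero])
          (fun h => absurd (Finset.mem_univ _) h), Pi.single_eq_same, mul_one] }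
  rw [e.finrank_eq, Module.finrank_fintype_fun_eq_card, Nat.card_eq_fintype_card]

end Cfsg.Agent.S0668
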