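import Cfsg.Statements.S0669
-- import your own Cfsg.Agent.* helpers here

set_option autoImplicit false
open Cfsg

namespace Cfsg.Agent.S0669

/-- The rank of a transitive action: orbits on ordered pairs correspond to orbits of a point stabiliser. -/
theorem result {G : Type*} [Group G] {Ω : Type*} [Finite Ω] [MulAction G Ω] [MulAction.IsPretransitive G Ω] (a : Ω) : Nat.card (MulAction.orbitRel.Quotient G (Ω × Ω)) = Nat.card (MulAction.orbitRel.Quotient (MulAction.stabilizer G a) Ω) := by
  refine (Nat.card_congr (Equiv.ofBijective (Quotient.map' (fun w : Ω => ((a, w) : Ω × Ω)) fun x y h => ?_) ⟨?_, ?_⟩)).symm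
  · obtain ⟨g, hg⟩ := h
    exact ⟨(g : G), Prod.ext g.2 hg⟩
  · intro x y
    induction x using Quotient.inductionOn' with
    | h x =>
      induction y using Quotient.inductionOn' with
      | h y =>
        intro h
        rw [Quotient.map'_mk'', Quotient.map'_mk''] at h
        obtain ⟨g, hg⟩ := Quotient.exact' h
        exact Quotient.sound' ⟨⟨g, congrArg Prod.fst hg⟩, congrArg Prod.snd hg⟩
  · intro z
    induction z using Quotient.inductionOn' with
    | h z =>
      obtain ⟨g, hg⟩ := MulAction.exists_smul_eq G z.1 a
      exact ⟨Quotient.mk'' (g • z.2), Quotient.sound' ⟨g, Prod.ext hg rfl⟩⟩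

end Cfsg.Agent.S0669
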