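import Cfsg.Statements.S0670
import Mathlib
-- import your own Cfsg.Agent.* helpers here

set_option autoImplicit false
open Cfsg

namespace Cfsg.Agent.S0670

/-- In characteristic `p`, the permutation module of a transitive action of degree `p ^ f` has the line of constant functions as its only irreducible submodule: every non-zero subrepresentation contains it. -/
theorem result {G : Type*} [Group G] [Finite G] {K : Type*} [Field K] {p f : ℕ} [Fact p.Prime] [CharP K p] {Ω : Type*} [Fintype Ω] [MulAction G Ω] [MulAction.IsPretransitive G Ω] (hf : 1 ≤ f) (hcard : Fintype.card Ω = p ^ f) (W : Subrepresentation (Cfsg.permRep K G Ω)) (hW : W.toSubmodule ≠ ⊥) : (Cfsg.permConstants K G Ω).toSubmodule ≤ W.toSubmodule := by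
  classical
  haveI : Fintype G := Fintype.ofFinite G
  letI : Algebra (ZMod p) K := ZMod.algebra K p
  obtain ⟨P⟩ : Nonempty (Sylow p G) := inferInstance
  have hp := (Fact.out : p.Prime)
  -- the Sylow subgroup is transitive
  have hPorb : ∀ a b : Ω, ∃ x ∈ (P : Subgroup G), x • a = b := by
    intro a
    have h1 : p ^ f ∣ Nat.card (MulAction.orbit (↥(P : Subgroup G)) a) := by
      have e1 := Nat.card_congr (MulAction.orbitProdStabilizerEquivGroup (↥(P : Subgroup G)) a)
      have e2 : (MulAction.stabilizer (↥(P : Subgroup G)) a).map (P : Subgroup G).subtype ≤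
          MulAction.stabilizer G a := by rintro _ ⟨x, hx, rfl⟩; exact hx
      have e3 := Subgroup.card_dvd_of_le e2
      rw [Subgroup.card_map_of_injective (P : Subgroup G).subtype_injective] at e3
      have e4 : Nat.card G = p ^ f * Nat.card (MulAction.stabilizer G a) := by
        rw [← hcard, ← Nat.card_eq_fintype_card (α := Ω), ← Nat.card_congr (MulAction.orbitProdStabilizerEquivGroup G a),
          Nat.card_prod, MulAction.orbit_eq_univ, Nat.card_coe_set_eq, Set.ncard_univ]
      rw [Nat.card_prod] at e1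
      obtain ⟨c, hc⟩ := IsPGroup.iff_card.1 (P.isPGroup'.to_subgroup (MulAction.stabilizer (↥(P : Subgroup G)) a))
      have hfac : p ^ f * p ^ c ∣ Nat.card G := e4 ▸ Nat.mul_dvd_mul_left _ (hc ▸ e3)
      rw [← pow_add] at hfac
      have h5 : p ^ (f + c) ∣ Nat.card (P : Subgroup G) := P.pow_dvd_card_of_pow_dvd_card hfac
      rw [← e1, hc, pow_add] at h5
      exact Nat.dvd_of_mul_dvd_mul_right (pow_pos hp.pos c) h5
    have h2 := Nat.le_of_dvd (Nat.card_pos_iff.2 ⟨⟨⟨a, MulAction.mem_orbit_self a⟩⟩, inferInstance⟩) h1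
    rw [← hcard, ← Nat.card_eq_fintype_card, Nat.card_coe_set_eq] at h2
    have huniv := Set.eq_of_subset_of_ncard_le (Set.subset_univ (MulAction.orbit (↥(P : Subgroup G)) a)) (by rw [Set.ncard_univ]; exact h2)
    intro b
    obtain ⟨x, hx⟩ := (huniv ▸ Set.mem_univ b : b ∈ MulAction.orbit (↥(P : Subgroup G)) a)
    exact ⟨x, x.2, hx⟩
  obtain ⟨v, hv, hv0⟩ := Submodule.exists_mem_ne_zero_of_ne_bot hW
  -- the finite span of the conjugates of `v` over the prime field
  let L : (G → ZMod p) →+ (Ω → K) :=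
    { toFun := fun c => ∑ g, (algebraMap (ZMod p) K (c g)) • Cfsg.permRep K G Ω g v
      map_zero' := by simp
      map_add' := fun c d => by simp [add_smul, Finset.sum_add_distrib] }
  have hLW : ∀ c, L c ∈ W.toSubmodule := fun c =>
    Submodule.sum_mem _ fun g _ => Submodule.smul_mem _ _ (W.apply_mem_toSubmodule g hv)
  let S : AddSubgroup (Ω → K) := L.range
  have hSinv : ∀ (x : G) (w : Ω → K), w ∈ S → Cfsg.permRep K G Ω x w ∈ S := by
    rintro x _ ⟨c, rfl⟩
    refine ⟨fun g => c (x⁻¹ * g), ?_⟩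
    show ∑ g, _ = Cfsg.permRep K G Ω x (∑ g, _)
    rw [map_sum, ← Equiv.sum_comp (Equiv.mulLeft x)]
    refine Finset.sum_congr rfl fun g _ => ?_
    rw [map_smul]
    simp only [Equiv.coe_mulLeft]
    rw [inv_mul_cancel_left, map_mul]
    rfl
  let φ : MulAction (P : Subgroup G) S :=
    { smul := fun x w => ⟨Cfsg.permRep K G Ω (x : G) w, hSinv _ _ w.2⟩
      one_smul := fun w => Subtype.ext (by show Cfsg.permRep K G Ω ((1 : (P : Subgroup G)) : G) _ = _; simp)
      mul_smul := fun x y w => Subtype.ext (by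
        show Cfsg.permRep K G Ω ((x * y : (P : Subgroup G)) : G) _ = Cfsg.permRep K G Ω _ (Cfsg.permRep K G Ω _ _)
        simp [map_mul]) }
  haveI : Finite S := Set.finite_range L |>.to_subtype
  have hS1 : p ∣ Nat.card S := by
    have hv' : v ∈ S := ⟨Pi.single 1 1, by
      show ∑ g, _ = v
      rw [Finset.sum_eq_single (1 : G)]
      · simp
      · intro g _ hg; simp [hg]
      · intro h; exact absurd (Finset.mem_univ _) h⟩
    have hne : Nat.card S ≠ 1 := fun h => hv0 (by
      have := (Nat.card_eq_one_iff_unique.1 h).1.elim (⟨v, hv'⟩ : S) 0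
      exact congrArg Subtype.val this)
    have hdvd : Nat.card S ∣ p ^ Fintype.card G := by
      have := AddSubgroup.card_range_dvd L
      rw [Nat.card_fun, Nat.card_zmod, Nat.card_eq_fintype_card (α := G)] at this
      exact this
    obtain ⟨i, -, hi⟩ := (Nat.dvd_prime_pow hp).1 hdvd
    rcases i with _ | i
    · exact absurd (hi.trans (pow_zero p)) hne
    · exact hi ▸ dvd_pow_self p i.succ_ne_zero
  have h0 : (0 : S) ∈ MulAction.fixedPoints (P : Subgroup G) S := fun x => Subtype.ext (map_zero _)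
  obtain ⟨w, hw, hw0⟩ := P.isPGroup'.exists_fixed_point_of_prime_dvd_card_of_fixed_point S hS1 h0
  obtain ⟨a⟩ : Nonempty Ω := Fintype.card_pos_iff.1 (by rw [hcard]; exact pow_pos hp.pos f)
  have hconst : (w : Ω → K) = fun _ => (w : Ω → K) a := funext fun b => by
    obtain ⟨x, hx, hxb⟩ := hPorb b a
    have h1 := congrFun (congrArg Subtype.val (hw ⟨x, hx⟩)) a
    change (w : Ω → K) (x⁻¹ • a) = _ at h1
    rw [show x⁻¹ • a = b by rw [← hxb, inv_smul_smul]] at h1
    exact h1
  have ha : (w : Ω → K) a ≠ 0 := fun h => hw0 (Subtype.ext (by rw [hconst, h]; rfl))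
  refine (Submodule.span_singleton_le_iff_mem _ _).2 ?_
  have hwW : (w : Ω → K) ∈ W.toSubmodule := by
    obtain ⟨c, hc⟩ := w.2
    exact hc ▸ hLW c
  have h1 := W.toSubmodule.smul_mem ((w : Ω → K) a)⁻¹ hwW
  convert h1 using 1
  funext b
  rw [Pi.smul_apply, congrFun hconst b, smul_eq_mul, inv_mul_cancel₀ ha]

end Cfsg.Agent.S0670
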