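import Cfsg.Statements.S0680
import Mathlib
import Cfsg.Agent.Lib.Perm.Groups.SharplyTwo
-- import your own Cfsg.Agent.* helpers here

set_option autoImplicit false
open Cfsg

namespace Cfsg.Agent.S0680

/-- A finite sharply doubly transitive permutation group has degree a prime power `p ^ j`; a Sylow `p`-subgroup is normal, elementary abelian and regular, and consists of the identity together with the elements without fixed points. (Frobenius' Theorem is not needed.) -/
theorem result {α : Type*} [Fintype α] [DecidableEq α] (G : Subgroup (Equiv.Perm α)) [MulAction.IsMultiplyPretransitive G α 2] (hsharp : ∀ x : Fin 2 ↪ α, MulAction.stabilizer G x = ⊥) (h2 : 2 ≤ Fintype.card α) : ∃ p j : ℕ, p.Prime ∧ 1 ≤ j ∧ Fintype.card α = p ^ j ∧ ∀ (hp : Fact p.Prime) (P : Sylow p G), (P : Subgroup G).Normal ∧ IsMulCommutative (P : Subgroup G) ∧ (∀ x ∈ (P : Subgroup G), x ^ p = 1) ∧ MulAction.IsPretransitive (P : Subgroup G) α ∧ (∀ a : α, MulAction.stabilizer (P : Subgroup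 G) a = ⊥) ∧ ∀ g : G, g ∈ (P : Subgroup G) ↔ g = 1 ∨ ∀ a : α, g • a ≠ a := by
  classical
  obtain ⟨p, K, hp, hKn, hKc, hKp, hKmem, hKreg, hcard⟩ :=
    CfsgLib.Perm.Groups.sharp_two_kernel (G := G) inferInstance hsharp h2
  haveI := Fact.mk hp
  have hKP : IsPGroup p K := fun x => ⟨1, Subtype.ext (by rw [pow_one, SubmonoidClass.coe_pow, hKp x x.2]; rfl)⟩
  obtain ⟨j, hj⟩ := IsPGroup.iff_card.1 hKP
  obtain ⟨a⟩ : Nonempty α := Fintype.card_pos_iff.1 (by omega)
  have hKn' : Nat.card K = Fintype.card α := by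
    rw [← Nat.card_eq_fintype_card]
    refine Nat.card_congr (Equiv.ofBijective (fun x : K => (x : G) • a) ⟨fun x y h => ?_, fun b => ?_⟩)
    · obtain ⟨z, -, hz⟩ := hKreg a ((x : G) • a)
      exact (hz x rfl).trans (hz y h.symm).symm
    · obtain ⟨x, hx, -⟩ := hKreg a b
      exact ⟨x, hx⟩
  have hj1 : 1 ≤ j := by
    rcases j with _ | j
    · rw [pow_zero] at hj; omega
    · omega
  refine ⟨p, j, hp, hj1, by rw [← hKn', hj], fun _ P => ?_⟩
  haveI := hKn
  have hidx : ¬ p ∣ K.index := by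
    have h1 := Subgroup.index_mul_card K
    rw [hKn', hcard, mul_comm] at h1
    rw [Nat.eq_of_mul_eq_mul_left (by omega) h1]
    intro hd
    have hpn : p ∣ Fintype.card α := by
      rw [← hKn', hj]; exact dvd_pow_self p (by omega)
    have := Nat.dvd_sub hpn hd
    rw [show Fintype.card α - (Fintype.card α - 1) = 1 by omega, Nat.dvd_one] at this
    exact hp.ne_one this
  obtain ⟨Q, hQ⟩ : ∃ Q : Sylow p G, (Q : Subgroup G) = K :=
    ⟨hKP.toSylow (fun h => hidx (by simpa using h)), rfl⟩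
  haveI : (Q : Subgroup G).Normal := hQ ▸ hKn
  haveI := Sylow.unique_of_normal Q inferInstance
  have hPK : (P : Subgroup G) = K := by rw [Subsingleton.elim P Q, hQ]
  rw [hPK]
  refine ⟨hKn, ⟨⟨fun x y => Subtype.ext (hKc x x.2 y y.2)⟩⟩, hKp, ⟨fun x y => ?_⟩, fun b => ?_, hKmem⟩
  · obtain ⟨z, hz, -⟩ := hKreg x y
    exact ⟨z, hz⟩
  · refine (Subgroup.eq_bot_iff_forall _).2 fun z hz => ?_
    obtain ⟨w, -, hw⟩ := hKreg b b
    exact (hw z hz).trans (hw 1 (one_smul _ _)).symm

end Cfsg.Agent.S0680
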