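import Cfsg.Statements.S0681
-- import your own Cfsg.Agent.* helpers here

set_option autoImplicit false
open Cfsg

namespace Cfsg.Agent.S0681

/-- The affine maps `x ↦ x * a + b`, `a ≠ 0`, of a near-field form a sharply doubly transitive permutation group. -/
theorem result {F : Type*} [Cfsg.NearField F] : ∃ H : Subgroup (Equiv.Perm F), (∀ σ : Equiv.Perm F, σ ∈ H ↔ ∃ a b : F, a ≠ 0 ∧ ∀ x : F, σ x = x * a + b) ∧ MulAction.IsMultiplyPretransitive H F 2 ∧ ∀ x : Fin 2 ↪ F, MulAction.stabilizer H x = ⊥ := by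
  have hz : ∀ a : F, (0 : F) * a = 0 := fun a => by
    have h := Cfsg.NearField.right_distrib (0 : F) 0 a
    rw [add_zero] at h
    exact left_eq_add.1 h
  have hn : ∀ x a : F, (-x) * a = -(x * a) := fun x a => by
    have h := Cfsg.NearField.right_distrib (-x) x a
    rw [neg_add_cancel, hz] at h
    exact eq_neg_of_add_eq_zero_left h.symm
  let H : Subgroup (Equiv.Perm F) :=
    { carrier := {σ | ∃ a b : F, a ≠ 0 ∧ ∀ x : F, σ x = x * a + b}
      one_mem' := ⟨1, 0, fun h => Cfsg.NearField.zero_ne_one h.symm, fun x => by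
        rw [Equiv.Perm.one_apply, mul_one, add_zero]⟩
      mul_mem' := by
        rintro σ τ ⟨c, d, hc, hσ⟩ ⟨a, b, ha, hτ⟩
        refine ⟨a * c, b * c + d, fun h => ha ?_, fun x => ?_⟩
        · obtain ⟨e, he, -⟩ := Cfsg.NearField.exists_inv c hc
          rw [← mul_one a, ← he, ← mul_assoc, h, hz]
        · rw [Equiv.Perm.mul_apply, hτ, hσ, Cfsg.NearField.right_distrib, mul_assoc, add_assoc]
      inv_mem' := by
        rintro σ ⟨a, b, ha, hσ⟩
        obtain ⟨e, he, he'⟩ := Cfsg.NearField.exists_inv a ha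
        refine ⟨e, -(b * e), fun h => Cfsg.NearField.zero_ne_one (by
          rw [← he', h, hz]), fun y => ?_⟩
        rw [Equiv.Perm.inv_eq_iff_eq, hσ, Cfsg.NearField.right_distrib, hn, mul_assoc, mul_assoc b e, he', mul_one,
          mul_one, neg_add_cancel_right] }
  refine ⟨H, fun σ => Iff.rfl, ?_, ?_⟩
  · rw [MulAction.is_two_pretransitive_iff]
    intro x y u v hxy huv
    obtain ⟨e, he, he'⟩ := Cfsg.NearField.exists_inv (y - x) (sub_ne_zero.2 (Ne.symm hxy))
    obtain ⟨a, hadef⟩ : ∃ a, a = e * (v - u) := ⟨_, rfl⟩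
    have hkey : (y - x) * a = v - u := by rw [hadef, ← mul_assoc, he, one_mul]
    have ha : a ≠ 0 := fun h => huv (by
      rw [h, Cfsg.NearField.mul_zero] at hkey
      exact (sub_eq_zero.1 hkey.symm).symm)
    obtain ⟨ai, hai, hai'⟩ := Cfsg.NearField.exists_inv a ha
    let σ : Equiv.Perm F :=
      { toFun := fun w => w * a + (-(x * a) + u)
        invFun := fun w => (w + -(-(x * a) + u)) * ai
        left_inv := fun w => by
          show (w * a + (-(x * a) + u) + -(-(x * a) + u)) * ai = w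
          rw [add_neg_cancel_right, mul_assoc, hai, mul_one]
        right_inv := fun w => by
          show (w + -(-(x * a) + u)) * ai * a + (-(x * a) + u) = w
          rw [mul_assoc, hai', mul_one, neg_add_cancel_right] }
    refine ⟨⟨σ, a, _, ha, fun w => rfl⟩, ?_, ?_⟩
    · show x * a + (-(x * a) + u) = u
      rw [add_neg_cancel_left]
    · show y * a + (-(x * a) + u) = v
      rw [← hn x, ← add_assoc, ← Cfsg.NearField.right_distrib, ← sub_eq_add_neg, hkey, sub_add_cancel]
  · intro x
    rw [eq_bot_iff]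
    rintro ⟨σ, a, b, ha, hσ⟩ hfix
    have h0 : x 0 * a + b = x 0 := (hσ _).symm.trans (DFunLike.congr_fun hfix 0)
    have h1 : x 1 * a + b = x 1 := (hσ _).symm.trans (DFunLike.congr_fun hfix 1)
    have hd : (x 1 - x 0) * a = x 1 - x 0 := by
      conv_rhs => rw [← h0, ← h1]
      rw [sub_eq_add_neg, Cfsg.NearField.right_distrib, hn, sub_eq_add_neg, neg_add_rev, add_assoc (x 1 * a),
        add_neg_cancel_left]
    obtain ⟨e, -, he'⟩ := Cfsg.NearField.exists_inv (x 1 - x 0)
      (sub_ne_zero.2 fun h => absurd (x.injective h) (by decide))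
    have ha1 : a = 1 := by rw [← one_mul a, ← he', mul_assoc, hd]
    rw [ha1, mul_one, add_eq_left] at h0
    refine Subgroup.mem_bot.2 (Subtype.ext (Equiv.ext fun w => ?_))
    rw [hσ, ha1, h0, mul_one, add_zero]
    rfl

end Cfsg.Agent.S0681
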