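import Cfsg.Statements.S0682
import Mathlib
-- import your own Cfsg.Agent.* helpers here

set_option autoImplicit false
open Cfsg

namespace Cfsg.Agent.S0682

/-- A finite near-field has prime-power order; its additive group is commutative of prime exponent. -/
theorem result {F : Type*} [Cfsg.NearField F] [Finite F] : ∃ p j : ℕ, p.Prime ∧ 1 ≤ j ∧ Nat.card F = p ^ j ∧ (∀ x y : F, x + y = y + x) ∧ ∀ x : F, p • x = 0 := by
  classical
  haveI : Nontrivial F := ⟨⟨0, 1, Cfsg.NearField.zero_ne_one⟩⟩
  obtain ⟨p, hp, hpd⟩ := Nat.exists_prime_and_dvd (Finite.one_lt_card (α := F)).ne'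
  haveI := Fact.mk hp
  haveI : Finite (Multiplicative F) := Finite.of_equiv F Multiplicative.ofAdd
  obtain ⟨z, hz⟩ := exists_prime_orderOf_dvd_card' (G := Multiplicative F) p
    (by rwa [Nat.card_congr Multiplicative.toAdd])
  have hz0 : Multiplicative.toAdd z ≠ 0 := fun h => by
    rw [show z = 1 from Multiplicative.toAdd.injective h, orderOf_one] at hz
    exact hp.ne_one hz.symm
  -- right multiplications are endomorphisms, transitive on non-zero elements
  have hsm : ∀ (k : ℕ) (x a : F), k • (x * a) = (k • x) * a := by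
    intro k x a
    induction k with
    | zero =>
      rw [zero_smul, zero_smul]
      have h := Cfsg.NearField.right_distrib (0 : F) 0 a
      rw [add_zero] at h
      exact (left_eq_add.1 h).symm
    | succ k ih => rw [succ_nsmul, succ_nsmul, ih, Cfsg.NearField.right_distrib]
  have hreach : ∀ c x : F, c ≠ 0 → ∃ a, c * a = x := fun c x hc => by
    obtain ⟨e, he, -⟩ := Cfsg.NearField.exists_inv c hc
    exact ⟨e * x, by rw [← mul_assoc, he, one_mul]⟩
  have hexp : ∀ x : F, p • x = 0 := fun x => by
    obtain ⟨a, rfl⟩ := hreach _ x hz0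
    have h1 : p • Multiplicative.toAdd z = 0 := by
      have h2 := congrArg Multiplicative.toAdd (hz ▸ pow_orderOf_eq_one z : z ^ p = 1)
      rwa [toAdd_pow, toAdd_one] at h2
    have h0 := hsm 0 0 a
    rw [zero_smul, zero_smul] at h0
    rw [hsm, h1, ← h0]
  have hP : IsPGroup p (Multiplicative F) := fun x => ⟨1, by
    rw [pow_one]
    exact Multiplicative.toAdd.injective (by rw [toAdd_pow, toAdd_one, hexp])⟩
  haveI : Nontrivial (Multiplicative F) := Multiplicative.toAdd.nontrivial
  haveI : Nontrivial (Subgroup.center (Multiplicative F)) := hP.center_nontrivial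
  obtain ⟨⟨c, hc⟩, hc1⟩ := exists_ne (1 : Subgroup.center (Multiplicative F))
  have hc0 : Multiplicative.toAdd c ≠ 0 := fun h => hc1 (Subtype.ext (Multiplicative.toAdd.injective h))
  have hcomm : ∀ x y : F, x + y = y + x := fun x y => by
    obtain ⟨a, rfl⟩ := hreach _ x hc0
    by_cases ha : a = 0
    · rw [ha, Cfsg.NearField.mul_zero, zero_add, add_zero]
    obtain ⟨e, -, he'⟩ := Cfsg.NearField.exists_inv a ha
    have hy : y = y * e * a := by rw [mul_assoc, he', mul_one]
    rw [hy, ← Cfsg.NearField.right_distrib, ← Cfsg.NearField.right_distrib]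
    exact congrArg (· * a) (congrArg Multiplicative.toAdd (Subgroup.mem_center_iff.1 hc (Multiplicative.ofAdd (y * e)))).symm
  obtain ⟨j, hj⟩ := IsPGroup.iff_card.1 hP
  rw [Nat.card_congr Multiplicative.toAdd] at hj
  exact ⟨p, j, hp, Nat.one_le_iff_ne_zero.2 fun h => (Finite.one_lt_card (α := F)).ne' (by rw [hj, h, pow_zero]),
    hj, hcomm, hexp⟩

end Cfsg.Agent.S0682
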