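import Cfsg.Statements.S0683
import Mathlib
import Cfsg.Agent.Lib.Perm.Groups.SharplyTwo
-- import your own Cfsg.Agent.* helpers here

set_option autoImplicit false
open Cfsg

namespace Cfsg.Agent.S0683

/-- A finite sharply doubly transitive permutation group is the affine group of a near-field: the permuted set carries a near-field structure for which the group consists exactly of the maps `x ↦ x * a + b` with `a ≠ 0`. -/
theorem result {α : Type*} [Fintype α] [DecidableEq α] (H : Subgroup (Equiv.Perm α)) [MulAction.IsMultiplyPretransitive H α 2] (hsharp : ∀ x : Fin 2 ↪ α, MulAction.stabilizer H x = ⊥) (h2 : 2 ≤ Fintype.card α) : ∃ _ : Cfsg.NearField α, ∀ σ : Equiv.Perm α, σ ∈ H ↔ ∃ a b : α, a ≠ 0 ∧ ∀ x : α, σ x = x * a + b := by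
  classical
  obtain ⟨p, K, hp, hKn, hKc, -, -, hKreg, -⟩ :=
    CfsgLib.Perm.Groups.sharp_two_kernel (G := H) inferInstance hsharp h2
  obtain ⟨o, e, hoe⟩ := Fintype.exists_pair_of_one_lt_card (show 1 < Fintype.card α by omega)
  haveI := hKn
  -- translations
  choose T hT hTu using fun a => hKreg o a
  have hT0 : T o = 1 := (hTu o 1 (one_smul _ _)).symm
  have hTadd : ∀ a b, T ((T a : H) • b) = T a * T b := fun a b => by
    refine (hTu _ _ ?_).symm
    show ((T a : H) * (T b : H)) • o = _
    rw [mul_smul, hT]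
  -- multiplications
  have hmul : ∀ a, a ≠ o → ∃! g : H, g • o = o ∧ g • e = a := by
    intro a ha
    obtain ⟨g, h1, h2'⟩ := MulAction.is_two_pretransitive_iff.1 (inferInstance : MulAction.IsMultiplyPretransitive H α 2) hoe (Ne.symm ha)
    refine ⟨g, ⟨h1, h2'⟩, fun g' hg' => (inv_mul_eq_one.1 ?_).symm⟩
    exact CfsgLib.Perm.Groups.sharp_two_fix hsharp hoe (g := g⁻¹ * g')
      (by rw [mul_smul, hg'.1, inv_smul_eq_iff, h1]) (by rw [mul_smul, hg'.2, inv_smul_eq_iff, h2'])
  choose M hM hMu using hmul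
  let mul' : α → α → α := fun x a => if h : a = o then o else M a h • x
  have hmul_o : ∀ x, mul' x o = o := fun x => dif_pos rfl
  have hmul_ne : ∀ x a (h : a ≠ o), mul' x a = M a h • x := fun x a h => dif_neg h
  have hMconj : ∀ (a : α) (h : a ≠ o) (x : α), M a h * (T x : H) * (M a h)⁻¹ = T (M a h • x) := by
    intro a h x
    have hmem : M a h * (T x : H) * (M a h)⁻¹ ∈ K := hKn.conj_mem _ (T x).2 _
    have hfix : (M a h)⁻¹ • o = o := by rw [inv_smul_eq_iff, (hM a h).1]
    exact congrArg Subtype.val (hTu _ ⟨_, hmem⟩ (by show (M a h * (T x : H) * (M a h)⁻¹) • o = M a h • x; rw [mul_smul, mul_smul, hfix, hT]))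
  have hadd_mul : ∀ x y a, mul' ((T x : H) • y) a = (T (mul' x a) : H) • mul' y a := by
    intro x y a
    by_cases h : a = o
    · subst h; rw [hmul_o, hmul_o, hmul_o, hT0]; exact (one_smul _ _).symm
    · rw [hmul_ne _ _ h, hmul_ne _ _ h, hmul_ne _ _ h, ← hMconj a h x, smul_smul, smul_smul, inv_mul_cancel_right]
  have hassoc : ∀ x a b, mul' (mul' x a) b = mul' x (mul' a b) := by
    intro x a b
    by_cases hb : b = o
    · subst hb; rw [hmul_o, hmul_o, hmul_o]
    by_cases ha : a = o
    · subst ha; rw [hmul_o, hmul_ne _ _ hb, (hM b hb).1, hmul_o]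
    have hab : mul' a b ≠ o := by
      rw [hmul_ne _ _ hb]
      exact fun h => ha (MulAction.injective (M b hb) (h.trans (hM b hb).1.symm))
    rw [hmul_ne _ _ hb, hmul_ne _ _ ha, hmul_ne _ _ hab, smul_smul]
    congr 1
    refine hMu _ hab _ ⟨by rw [mul_smul, (hM a ha).1, (hM b hb).1], ?_⟩
    rw [mul_smul, (hM a ha).2, hmul_ne _ _ hb]
  have hMe : M e hoe.symm = 1 := (hMu e hoe.symm 1 ⟨one_smul _ _, one_smul _ _⟩).symm
  letI : Zero α := ⟨o⟩
  letI : Add α := ⟨fun a b => (T a : H) • b⟩
  letI : Neg α := ⟨fun a => ((T a : H))⁻¹ • o⟩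
  let nf : Cfsg.NearField α :=
    { zero := o
      add := fun a b => (T a : H) • b
      neg := fun a => ((T a : H))⁻¹ • o
      zero_add := fun a => by
        show (T o : H) • a = a
        rw [hT0]; exact one_smul _ _
      add_zero := fun a => hT a
      add_assoc := fun a b c => by
        show (T ((T a : H) • b) : H) • c = (T a : H) • ((T b : H) • c)
        rw [hTadd, Subgroup.coe_mul, mul_smul]
      neg_add_cancel := fun a => by
        show (T ((T a : H)⁻¹ • o) : H) • a = o
        rw [← hTu ((T a : H)⁻¹ • o) (T a)⁻¹ rfl]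
        show (T a : H)⁻¹ • a = o
        conv_lhs => arg 2; rw [← hT a]
        rw [inv_smul_smul]
      nsmul := nsmulRec
      zsmul := zsmulRec
      one := e
      mul := mul'
      mul_assoc := hassoc
      one_mul := fun a => by
        show mul' e a = a
        by_cases h : a = o
        · rw [h, hmul_o]
        · rw [hmul_ne _ _ h, (hM a h).2]
      mul_one := fun a => by
        show mul' a e = a
        rw [hmul_ne _ _ hoe.symm, hMe, one_smul]
      right_distrib := hadd_mul
      mul_zero := hmul_o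
      zero_ne_one := hoe
      exists_inv := fun a ha => by
        have ha' : a ≠ o := ha
        obtain ⟨b, hb⟩ : ∃ b, M a ha' • b = e := ⟨(M a ha')⁻¹ • e, smul_inv_smul _ _⟩
        have hbo : b ≠ o := fun h => hoe (by rw [← hb, h, (hM a ha').1])
        have hba : mul' b a = e := by rw [hmul_ne _ _ ha', hb]
        refine ⟨b, ?_, hba⟩
        show mul' a b = e
        obtain ⟨c, hc⟩ : ∃ c, M b hbo • c = e := ⟨(M b hbo)⁻¹ • e, smul_inv_smul _ _⟩
        have hcb : mul' c b = e := by rw [hmul_ne _ _ hbo, hc]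
        have hca : c = a := by
          calc c = mul' c e := by rw [hmul_ne _ _ hoe.symm, hMe, one_smul]
            _ = mul' c (mul' b a) := by rw [hba]
            _ = mul' (mul' c b) a := (hassoc _ _ _).symm
            _ = mul' e a := by rw [hcb]
            _ = a := by rw [hmul_ne _ _ ha', (hM a ha').2]
        rw [← hca, hcb] }
  refine ⟨nf, fun σ => ⟨fun hσ => ?_, ?_⟩⟩
  · obtain ⟨g, hg⟩ : ∃ g : H, g = (T ((⟨σ, hσ⟩ : H) • o) : H)⁻¹ * ⟨σ, hσ⟩ := ⟨_, rfl⟩
    have hgo : g • o = o := by
      rw [hg, mul_smul, inv_smul_eq_iff, hT]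
    have hge : g • e ≠ o := fun h => hoe (MulAction.injective g (hgo.trans h.symm))
    have hgM : g = M (g • e) hge := hMu _ hge g ⟨hgo, rfl⟩
    refine ⟨g • e, σ o, hge, fun x => ?_⟩
    show σ x = (T (mul' x (g • e)) : H) • σ o
    rw [hmul_ne _ _ hge, ← hgM]
    have hb : (T (σ o) : H) • o = σ o := hT _
    conv_rhs => rw [← hb]
    rw [smul_smul]
    rw [show (T (g • x) : H) * (T (σ o) : H) = (T (σ o) : H) * (T (g • x) : H) from hKc _ (T _).2 _ (T _).2,
      mul_smul, hT, ← mul_smul]
    show σ x = ((T (σ o) : H) * g) • x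
    rw [hg, show ((⟨σ, hσ⟩ : H) • o) = σ o from rfl, mul_inv_cancel_left]
    rfl
  · rintro ⟨a, b, ha, hσ⟩
    have ha' : a ≠ o := ha
    have heq : σ = (((T b : H) * M a ha' : H) : Equiv.Perm α) := by
      refine Equiv.ext fun x => ?_
      rw [hσ x]
      show (T (mul' x a) : H) • b = ((T b : H) * M a ha') • x
      rw [hmul_ne _ _ ha', mul_smul]
      conv_lhs => arg 2; rw [← hT b]
      rw [smul_smul, show (T (M a ha' • x) : H) * (T b : H) = (T b : H) * (T (M a ha' • x) : H) from
        hKc _ (T _).2 _ (T _).2, mul_smul, hT]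
    rw [heq]
    exact Subtype.mem _

end Cfsg.Agent.S0683
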