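import Cfsg.Statements.S0686
-- import your own Cfsg.Agent.* helpers here
import Mathlib
import Cfsg.Agent.Lib.Perm.Groups.RegularIrreducible
import Cfsg.Agent.Lib.Char.Zassenhaus.Main
import Cfsg.Agent.Lib.Char.Zassenhaus.OfAut

set_option autoImplicit false
set_option linter.all false
open Cfsg

namespace Cfsg.Agent.S0686

/-- In a linear group over the prime field that is regular on non-zero vectors and has no irreducible cyclic normal subgroup, let `A` be a maximal normal abelian subgroup and `N` a normal subgroup centralising `A` that is minimal among non-abelian normal subgroups centralising `A`. Then `N` is quaternion of order 8 or isomorphic to `SL(2,5)`. -/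
theorem result {p : ℕ} [Fact p.Prime] {V : Type*} [AddCommGroup V] [Module (ZMod p) V] [Finite V] (H : Subgroup (V ≃ₗ[ZMod p] V)) (hreg : ∀ v w : V, v ≠ 0 → w ≠ 0 → ∃! h : H, (h : V ≃ₗ[ZMod p] V) v = w) (hI : ∀ A : Subgroup H, A.Normal → IsCyclic A → ∃ W : Submodule (ZMod p) V, W ≠ ⊥ ∧ W ≠ ⊤ ∧ ∀ a ∈ A, ∀ v ∈ W, ((a : H) : V ≃ₗ[ZMod p] V) v ∈ W) (A : Subgroup H) (hAn : A.Normal) (hAc : IsMulCommutative A) (hAmax : ∀ B : Subgroup H, B.Normal → IsMulCommutative B → A ≤ B → B = A) (N : Subgroup H) (hNn : N.Normal) (hNle : N ≤ Subgroup.centralizer (A : Set H)) (hNna : ¬ IsMulCommutative N) (hNmin : ∀ M : Subgroup H, M.Normal → M ≤ N → ¬ IsMulCommutative M → M = N) : Nonempty (N ≃* QuaternionGroup 2) ∨ Nonempty (N ≃* Matrix.SpecialLinearGroup (Fin 2) (ZMod 5)) := by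
  classical
  haveI := CfsgLib.Perm.RegLin.nontrivial_of_hyp hI
  haveI : Finite H := inferInstance
  -- the fixed point free action
  obtain ⟨φ, hφ⟩ : ∃ φ : H →* MulAut (Multiplicative V),
      ∀ (h : H) (v : Multiplicative V), φ h v = Multiplicative.ofAdd ((h : V ≃ₗ[ZMod p] V) v.toAdd) :=
    ⟨MonoidHom.mk' (fun h => AddEquiv.toMultiplicative (h : V ≃ₗ[ZMod p] V).toAddEquiv)
      (fun a b => MulEquiv.ext fun v => rfl), fun h v => rfl⟩
  obtain ⟨ψ⟩ := CfsgLib.Char.Zassenhaus.exists_zrep_of_fpf (G := N) (φ.comp N.subtype) fun g hg k hk => by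
    by_contra hk1
    refine hg (Subtype.ext (CfsgLib.Perm.RegLin.eq_one_of_fix hreg (v := k.toAdd) (fun h => hk1 ?_) ?_))
    · rw [← ofAdd_toAdd k, h, ofAdd_zero]
    · have := congrArg Multiplicative.toAdd hk
      rwa [MonoidHom.comp_apply, hφ, toAdd_ofAdd] at this
  haveI : Nontrivial N := by
    by_contra h
    rw [not_nontrivial_iff_subsingleton] at h
    exact hNna ⟨⟨fun a b => Subsingleton.elim _ _⟩⟩
  by_cases hperf : commutator N = ⊤
  · exact Or.inr (CfsgLib.Char.Zassenhaus.perfect_equiv_sl25 ψ hperf)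
  refine Or.inl ?_
  haveI := hNn
  haveI := hAn
  obtain ⟨M, hM⟩ : ∃ M : Subgroup H, M = ⁅N, N⁆ := ⟨_, rfl⟩
  have hMmap : (commutator N).map N.subtype = M := by
    rw [hM, Subgroup.map_subtype_commutator]
  haveI hMn : M.Normal := hM ▸ Subgroup.commutator_normal N N
  have hMN : M ≤ N := hMmap ▸ Subgroup.map_subtype_le _
  have hMc : IsMulCommutative M := by
    by_contra hna
    refine hperf (Subgroup.map_injective N.subtype_injective ?_)
    rw [hMmap, hNmin M hMn hMN hna, ← MonoidHom.range_eq_map, Subgroup.range_subtype]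
  have hAA : A ≤ Subgroup.centralizer (A : Set H) := fun a ha => Subgroup.mem_centralizer_iff.2 fun b hb =>
    congrArg Subtype.val (hAc.is_comm.comm (⟨b, hb⟩ : A) ⟨a, ha⟩)
  have hMM : M ≤ Subgroup.centralizer (M : Set H) := fun a ha => Subgroup.mem_centralizer_iff.2 fun b hb =>
    congrArg Subtype.val (hMc.is_comm.comm (⟨b, hb⟩ : M) ⟨a, ha⟩)
  have hMA : M ≤ Subgroup.centralizer (A : Set H) := hMN.trans hNle
  have hself : A ⊔ M ≤ Subgroup.centralizer ((A ⊔ M : Subgroup H) : Set H) :=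
    sup_le (Subgroup.le_centralizer_iff.1 (sup_le hAA hMA))
      (Subgroup.le_centralizer_iff.1 (sup_le (Subgroup.le_centralizer_iff.1 hMA) hMM))
  have hMleA : M ≤ A := by
    have h := hAmax (A ⊔ M) inferInstance
      ⟨⟨fun a b => Subtype.ext (Subgroup.mem_centralizer_iff.1 (hself b.2) a a.2)⟩⟩ le_sup_left
    exact le_sup_right.trans h.le
  -- nilpotency
  have hcz : commutator N ≤ Subgroup.center N := by
    intro x hx
    have hxA : (x : H) ∈ A := hMleA (hMmap ▸ ⟨x, hx, rfl⟩)
    rw [Subgroup.mem_center_iff]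
    exact fun y => Subtype.ext (Subgroup.mem_centralizer_iff.1 (hNle y.2) (x : H) hxA).symm
  haveI : IsMulCommutative (N ⧸ Subgroup.center N) := ⟨⟨fun a b => by
    induction a using QuotientGroup.induction_on with | H a => ?_
    induction b using QuotientGroup.induction_on with | H b => ?_
    rw [← QuotientGroup.mk_mul, ← QuotientGroup.mk_mul, QuotientGroup.eq]
    have hc : b⁻¹ * a⁻¹ * b * a ∈ Subgroup.center N := by
      have := Subgroup.commutator_mem_commutator (Subgroup.mem_top b⁻¹) (Subgroup.mem_top a⁻¹)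
      rw [commutatorElement_def, inv_inv, inv_inv] at this
      exact hcz this
    rwa [show (a * b)⁻¹ * (b * a) = b⁻¹ * a⁻¹ * b * a by group]⟩⟩
  haveI : Group.IsNilpotent (N ⧸ Subgroup.center N) := by
    letI : CommGroup (N ⧸ Subgroup.center N) :=
      { (inferInstance : Group (N ⧸ Subgroup.center N)) with mul_comm := fun a b => IsMulCommutative.is_comm.comm a b }
    exact CommGroup.isNilpotent
  haveI hnil : Group.IsNilpotent N := Subgroup.isNilpotent_of_ker_le_center (QuotientGroup.mk' (Subgroup.center N))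
    (by rw [QuotientGroup.ker_mk'])
  have hsylow : ∀ (q : ℕ) (P : Sylow q N) (hq : Fact q.Prime), (P : Subgroup N).Normal :=
    fun q P hq => by
      have h := (isNilpotent_of_finite_tfae (G := N)).out 0 3
      exact h.1 hnil q hq P
  obtain ⟨q, hq, P, hP⟩ : ∃ (q : ℕ) (_ : Fact q.Prime) (P : Sylow q N), ¬ IsMulCommutative (P : Subgroup N) := by
    by_contra hall
    push Not at hall
    obtain ⟨e⟩ : Nonempty ((∀ q : (Nat.card N).primeFactors, ∀ P : Sylow q N, (P : Subgroup N)) ≃* N) :=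
      ⟨Sylow.directProductOfNormal (G := N) fun {q} hq P => hsylow q P hq⟩
    refine hNna ⟨⟨fun a b => e.symm.injective ?_⟩⟩
    rw [map_mul, map_mul]
    funext q P
    exact (hall q ⟨Nat.prime_of_mem_primeFactors q.2⟩ P).is_comm.comm _ _
  haveI := hsylow q P hq
  haveI : (P : Subgroup N).Characteristic := P.characteristic_of_normal inferInstance
  have hPN : (P : Subgroup N).map N.subtype = N := by
    refine hNmin _ ConjAct.normal_of_characteristic_of_normal (Subgroup.map_subtype_le _) fun hc => hP ?_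
    refine ⟨⟨fun a b => ?_⟩⟩
    have h := congrArg Subtype.val
      (hc.is_comm.comm (⟨_, ⟨a, a.2, rfl⟩⟩ : (P : Subgroup N).map N.subtype) ⟨_, ⟨b, b.2, rfl⟩⟩)
    exact Subtype.ext (Subtype.ext h)
  have hPtop : (P : Subgroup N) = ⊤ := Subgroup.map_injective N.subtype_injective (by
    rw [hPN, ← MonoidHom.range_eq_map, Subgroup.range_subtype])
  have hNp : IsPGroup q (⊤ : Subgroup N) := hPtop ▸ P.isPGroup'
  have hncyc : ¬ IsCyclic (⊤ : Subgroup N) := fun hc => by
    haveI : IsCyclic N := isCyclic_of_surjective (Subgroup.topEquiv : (⊤ : Subgroup N) ≃* N).toMonoidHom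
      (Subgroup.topEquiv : (⊤ : Subgroup N) ≃* N).surjective
    exact hNna (by
      letI := IsCyclic.commGroup (α := N)
      exact ⟨⟨mul_comm⟩⟩)
  rcases CfsgLib.Coprime.cyclic_or_quaternion_of_unique hNp
    (CfsgLib.Char.Zassenhaus.uniqueOrderP_sylow ψ ⊤ hNp) with hc | ⟨hq2, n, ⟨e⟩⟩
  · exact absurd hc hncyc
  have e' : N ≃* QuaternionGroup (2 ^ n) := Subgroup.topEquiv.symm.trans e
  rcases Nat.lt_trichotomy n 1 with hn | hn | hn
  · exfalso
    obtain rfl : n = 0 := by omega
    haveI : Fact (Nat.Prime 2) := ⟨Nat.prime_two⟩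
    have hcard : Nat.card (QuaternionGroup (2 ^ 0)) = 2 ^ 2 := by
      rw [Nat.card_eq_fintype_card, QuaternionGroup.card]; norm_num
    refine hNna ⟨⟨fun a b => e'.injective ?_⟩⟩
    letI := IsPGroup.commGroupOfCardEqPrimeSq (p := 2) hcard
    rw [map_mul, map_mul]
    exact mul_comm _ _
  · subst hn
    exact ⟨e'⟩
  · exfalso
    have hcz' : ∀ x y z : QuaternionGroup (2 ^ n), (x * y * x⁻¹ * y⁻¹) * z = z * (x * y * x⁻¹ * y⁻¹) := by
      intro x y z
      have h := Subgroup.mem_center_iff.1 (hcz (Subgroup.commutator_mem_commutator (Subgroup.mem_top (e'.symm x))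
        (Subgroup.mem_top (e'.symm y)))) (e'.symm z)
      have h2 := congrArg e' h
      simp only [commutatorElement_def, map_mul, map_inv, MulEquiv.apply_symm_apply] at h2
      exact h2.symm
    have h := hcz' (QuaternionGroup.xa 0) (QuaternionGroup.a 1) (QuaternionGroup.xa 0)
    have i1 : (QuaternionGroup.xa (0 : ZMod (2 * 2 ^ n)))⁻¹ = QuaternionGroup.xa ((2 ^ n : ℕ) : ZMod (2 * 2 ^ n)) := by
      refine inv_eq_of_mul_eq_one_right ?_
      rw [QuaternionGroup.xa_mul_xa, QuaternionGroup.one_def]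
      congr 1
      have h0 : ((2 * 2 ^ n : ℕ) : ZMod (2 * 2 ^ n)) = 0 := ZMod.natCast_self _
      push_cast at h0 ⊢
      linear_combination h0
    have i2 : (QuaternionGroup.a (1 : ZMod (2 * 2 ^ n)))⁻¹ = QuaternionGroup.a (-1) := by
      refine inv_eq_of_mul_eq_one_right ?_
      rw [QuaternionGroup.a_mul_a, QuaternionGroup.one_def, add_neg_cancel]
    rw [i1, i2] at h
    simp [QuaternionGroup.xa_mul_a, QuaternionGroup.a_mul_xa, QuaternionGroup.a_mul_a,
      QuaternionGroup.xa_mul_xa] at h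
    have h4 : ((4 : ℕ) : ZMod (2 * 2 ^ n)) = 0 := by
      have h0 : ((2 * 2 ^ n : ℕ) : ZMod (2 * 2 ^ n)) = 0 := ZMod.natCast_self _
      push_cast at h0 ⊢
      linear_combination h + 2 * h0
    rw [ZMod.natCast_eq_zero_iff] at h4
    have h8 : 8 ≤ 2 * 2 ^ n := by
      have := Nat.pow_le_pow_right (show 1 ≤ 2 by norm_num) (show 2 ≤ n by omega)
      omega
    have := Nat.le_of_dvd (by norm_num) h4
    omega

end Cfsg.Agent.S0686
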