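import Cfsg.Statements.S0688
-- import your own Cfsg.Agent.* helpers here
import Mathlib
import Cfsg.Agent.S0686
import Cfsg.Agent.S0687
import Cfsg.Agent.Lib.PGroup.TIHallStructure
import Cfsg.Agent.Lib.Invol.GLTwoThree

set_option autoImplicit false
set_option linter.all false
open Cfsg

namespace Cfsg.Agent.S0688

/-- the automorphism group of the quaternion group of order 8 has order 24 -/
theorem card_mulAut : Nat.card (MulAut (QuaternionGroup 2)) = 24 := by
  refine le_antisymm CfsgLib.GLTwoThree.card_mulAut_le ?_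
  have hcard : Fintype.card {p : QuaternionGroup 2 × QuaternionGroup 2 //
      p.1 * p.1 ≠ 1 ∧ p.2 ≠ 1 ∧ p.2 ≠ p.1 ∧ p.2 ≠ p.1 * p.1 ∧ p.2 ≠ p.1 * p.1 * p.1} = 24 := by
    decide +kernel
  obtain ⟨f, hf, hhom⟩ : ∃ f : QuaternionGroup 2 × QuaternionGroup 2 → QuaternionGroup 2 → QuaternionGroup 2,
      (∀ p, f p (.a 1) = p.1 ∧ f p (.xa 0) = p.2) ∧
      ∀ p : QuaternionGroup 2 × QuaternionGroup 2,
        (p.1 * p.1 ≠ 1 ∧ p.2 ≠ 1 ∧ p.2 ≠ p.1 ∧ p.2 ≠ p.1 * p.1 ∧ p.2 ≠ p.1 * p.1 * p.1) →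
        (∀ u v, f p (u * v) = f p u * f p v) ∧ ∀ u v, f p u = f p v → u = v := by
    refine ⟨fun p q => match q with | .a i => p.1 ^ i.val | .xa i => p.2 * p.1 ^ i.val, fun p => ?_, ?_⟩
    · exact ⟨pow_one _, (by show p.2 * p.1 ^ 0 = p.2; rw [pow_zero, mul_one])⟩
    · decide +kernel
  rw [← hcard, ← Nat.card_eq_fintype_card]
  refine Nat.card_le_card_of_injective (fun p => MulEquiv.ofBijective (MonoidHom.mk' (f p.1) (hhom p.1 p.2).1)
    (Finite.injective_iff_bijective.1 (hhom p.1 p.2).2)) fun p p' h => ?_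
  have h1 := congrArg (fun σ : MulAut (QuaternionGroup 2) => σ (.a 1)) h
  have h2 := congrArg (fun σ : MulAut (QuaternionGroup 2) => σ (.xa 0)) h
  have h1' : f p.1 (.a 1) = f p'.1 (.a 1) := h1
  have h2' : f p.1 (.xa 0) = f p'.1 (.xa 0) := h2
  rw [(hf _).1, (hf _).1] at h1'
  rw [(hf _).2, (hf _).2] at h2'
  exact Subtype.ext (Prod.ext h1' h2')

/-- Degrees of the soluble exceptional sharply doubly transitive groups: if a solvable linear group over the prime field is regular on the non-zero vectors of `V` and has no irreducible cyclic normal subgroup, then `V` has 25, 49, 121 or 529 elements. -/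
theorem result {p : ℕ} [Fact p.Prime] {V : Type*} [AddCommGroup V] [Module (ZMod p) V] [Finite V] (H : Subgroup (V ≃ₗ[ZMod p] V)) (hreg : ∀ v w : V, v ≠ 0 → w ≠ 0 → ∃! h : H, (h : V ≃ₗ[ZMod p] V) v = w) (hI : ∀ A : Subgroup H, A.Normal → IsCyclic A → ∃ W : Submodule (ZMod p) V, W ≠ ⊥ ∧ W ≠ ⊤ ∧ ∀ a ∈ A, ∀ v ∈ W, ((a : H) : V ≃ₗ[ZMod p] V) v ∈ W) (hsolv : Group.IsSolvable H) : Nat.card V = 25 ∨ Nat.card V = 49 ∨ Nat.card V = 121 ∨ Nat.card V = 529 := by
  classical
  haveI := CfsgLib.Perm.RegLin.nontrivial_of_hyp hI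
  haveI : Finite H := inferInstance
  -- a maximal normal abelian subgroup and a minimal non-abelian normal subgroup centralising it
  obtain ⟨A, ⟨hAn, hAc⟩, hAmax'⟩ := exists_maximal_of_wellFoundedGT
    (fun A : Subgroup H => A.Normal ∧ IsMulCommutative A)
    ⟨⊥, inferInstance, ⟨⟨fun a b => Subsingleton.elim _ _⟩⟩⟩
  have hAmax : ∀ B : Subgroup H, B.Normal → IsMulCommutative B → A ≤ B → B = A := fun B hB hBc hle =>
    le_antisymm (hAmax' ⟨hB, hBc⟩ hle) hle
  haveI := hAn
  obtain ⟨-, hCna⟩ := CfsgLib.Perm.RegLin.lt_centralizer hreg hI A hAn hAc hAmax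
  obtain ⟨N, ⟨hNn, hNle, hNna⟩, hNmin'⟩ := (wellFounded_lt (α := Subgroup H)).has_min
    {M : Subgroup H | M.Normal ∧ M ≤ Subgroup.centralizer (A : Set H) ∧ ¬ IsMulCommutative M}
    ⟨_, Subgroup.normal_centralizer, le_rfl, hCna⟩
  have hNmin : ∀ M : Subgroup H, M.Normal → M ≤ N → ¬ IsMulCommutative M → M = N := fun M hM hle hna =>
    eq_of_le_of_not_lt hle (hNmin' M ⟨hM, hle.trans hNle, hna⟩)
  obtain ⟨hirr, hCN⟩ := Cfsg.Agent.S0687.result H hreg hI A hAn hAc hAmax N hNn hNle hNna hNmin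
  obtain ⟨e⟩ : Nonempty (N ≃* QuaternionGroup 2) := by
    rcases Cfsg.Agent.S0686.result H hreg hI A hAn hAc hAmax N hNn hNle hNna hNmin with h | ⟨⟨e⟩⟩
    · exact h
    · exfalso
      haveI := hsolv
      haveI : Group.IsSolvable N := inferInstance
      exact CfsgLib.PGroup.TIHall.not_isSolvable_sl25 (Group.isSolvable_of_surjective (f := e.toMonoidHom) e.surjective)
  -- the linear maps
  obtain ⟨L, hL⟩ : ∃ L : H →* Module.End (ZMod p) V, ∀ (h : H) (v : V), L h v = (h : V ≃ₗ[ZMod p] V) v :=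
    ⟨{ toFun := fun h => ((h : V ≃ₗ[ZMod p] V) : V →ₗ[ZMod p] V)
       map_one' := LinearMap.ext fun v => rfl
       map_mul' := fun a b => LinearMap.ext fun v => rfl }, fun h v => rfl⟩
  have hLinj : ∀ h : H, ∀ v : V, v ≠ 0 → L h v = v → h = 1 := fun h v hv hh =>
    CfsgLib.Perm.RegLin.eq_one_of_fix hreg hv (by rwa [hL] at hh)
  obtain ⟨g, hg⟩ : ∃ g : QuaternionGroup 2 →* Module.End (ZMod p) V, ∀ q, g q = L ((e.symm q : N) : H) :=
    ⟨L.comp (N.subtype.comp e.symm.toMonoidHom), fun q => rfl⟩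
  have hginj : ∀ q v, v ≠ 0 → g q v = v → q = 1 := fun q v hv hq => by
    have h1 := hLinj _ v hv (by rwa [hg] at hq)
    exact e.symm.injective (by rw [map_one]; exact Subtype.ext h1)
  have hz : g (.a 2) = -1 := by
    refine LinearMap.ext fun v => ?_
    have h2 : g (.a 2) (v + g (.a 2) v) = v + g (.a 2) v := by
      have hh : g (.a 2) (g (.a 2) v) = v := by
        rw [← Module.End.mul_apply, ← map_mul, show (QuaternionGroup.a 2 : QuaternionGroup 2) * .a 2 = 1 by decide,
          map_one, Module.End.one_apply]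
      rw [map_add, hh, add_comm]
    by_contra hne
    have hne' : v + g (.a 2) v ≠ 0 := fun h => hne (by
      rw [LinearMap.neg_apply, Module.End.one_apply]; exact eq_neg_of_add_eq_zero_right h)
    exact absurd (hginj _ _ hne' h2) (by decide)
  obtain ⟨v₀, hv₀⟩ := exists_ne (0 : V)
  have hp := (Fact.out : p.Prime)
  have hp2 : p ≠ 2 := by
    rintro rfl
    have : g (.a 2) v₀ = v₀ := by
      rw [hz, LinearMap.neg_apply, Module.End.one_apply, neg_eq_iff_add_eq_zero, ← two_smul (ZMod 2),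
        show (2 : ZMod 2) = 0 from rfl, zero_smul]
    exact absurd (hginj _ _ hv₀ this) (by decide)
  have h2ne : (2 : ZMod p) ≠ 0 := by
    intro h
    have : ((2 : ℕ) : ZMod p) = 0 := by exact_mod_cast h
    rw [ZMod.natCast_eq_zero_iff] at this
    exact hp2 ((Nat.prime_dvd_prime_iff_eq hp Nat.prime_two).1 this)
  obtain ⟨I, hI'⟩ : ∃ I, I = g (.a 1) := ⟨_, rfl⟩
  obtain ⟨J, hJ'⟩ : ∃ J, J = g (.xa 0) := ⟨_, rfl⟩
  have hII : I * I = -1 := by rw [hI', ← map_mul, show (QuaternionGroup.a 1 : QuaternionGroup 2) * .a 1 = .a 2 by decide, hz]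
  have hJJ : J * J = -1 := by rw [hJ', ← map_mul, show (QuaternionGroup.xa 0 : QuaternionGroup 2) * .xa 0 = .a 2 by decide, hz]
  have hJI : J * I = -(I * J) := by
    rw [hI', hJ', ← map_mul, ← map_mul, show (QuaternionGroup.xa 0 : QuaternionGroup 2) * .a 1 = .a 2 * (.a 1 * .xa 0) by decide,
      map_mul, hz, neg_one_mul]
  obtain ⟨a, b, hab⟩ := ZMod.sq_add_sq p (-1)
  obtain ⟨u, hu⟩ : ∃ u, u = a • I + b • J := ⟨_, rfl⟩
  obtain ⟨K, hK⟩ : ∃ K, K = I * J := ⟨_, rfl⟩
  have huu : u * u = 1 := by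
    have key : u * u = (-(a ^ 2 + b ^ 2)) • (1 : Module.End (ZMod p) V) := by
      rw [hu]
      simp only [add_mul, mul_add, smul_mul_assoc, mul_smul_comm, smul_smul, hII, hJJ, hJI, smul_neg]
      module
    rw [key, hab, neg_neg, one_smul]
  have hKK : K * K = -1 := by
    rw [hK, show I * J * (I * J) = I * (J * I) * J by noncomm_ring, hJI,
      show I * -(I * J) * J = -((I * I) * (J * J)) by noncomm_ring, hII, hJJ]
    noncomm_ring
  have hIK : I * K = -J := by rw [hK, ← mul_assoc, hII, neg_one_mul]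
  have hJK : J * K = I := by rw [hK, ← mul_assoc, hJI, neg_mul, mul_assoc, hJJ, mul_neg_one, neg_neg]
  have hKI : K * I = J := by rw [hK, mul_assoc, hJI, mul_neg, ← mul_assoc, hII, neg_one_mul, neg_neg]
  have hKJ : K * J = -I := by rw [hK, mul_assoc, hJJ, mul_neg_one]
  have huK : u * K = -(K * u) := by
    rw [hu]
    simp only [add_mul, mul_add, smul_mul_assoc, mul_smul_comm, hIK, hJK, hKI, hKJ, smul_neg]
    abel
  have hIu : I = -(a • u + b • (u * K)) := by
    have key : a • u + b • (u * K) = (a ^ 2 + b ^ 2) • I := by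
      rw [hu]
      simp only [add_mul, smul_mul_assoc, hIK, hJK, smul_neg, smul_add, smul_smul]
      module
    rw [key, hab, neg_one_smul, neg_neg]
  have hJu : J = -(b • u + (-a) • (u * K)) := by
    have key : b • u + (-a) • (u * K) = (a ^ 2 + b ^ 2) • J := by
      rw [hu]
      simp only [add_mul, smul_mul_assoc, hIK, hJK, smul_neg, smul_add, smul_smul]
      module
    rw [key, hab, neg_one_smul, neg_neg]
  -- an eigenvector
  have hKinj : ∀ w, K w = 0 → w = 0 := fun w hw => by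
    have := LinearMap.congr_fun hKK w
    rw [Module.End.mul_apply, hw, map_zero, LinearMap.neg_apply, Module.End.one_apply] at this
    exact neg_eq_zero.1 this.symm
  obtain ⟨v, hv, huv⟩ : ∃ v, v ≠ 0 ∧ u v = v := by
    by_contra hno
    push Not at hno
    have hneg : ∀ w, u w = -w := fun w => by
      by_contra hne
      refine hno (w + u w) (fun h => hne (eq_neg_of_add_eq_zero_right h)) ?_
      rw [map_add, ← Module.End.mul_apply, huu, Module.End.one_apply, add_comm]
    have h := LinearMap.congr_fun huK v₀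
    rw [Module.End.mul_apply, LinearMap.neg_apply, Module.End.mul_apply, hneg, hneg, map_neg, neg_neg] at h
    have h0 : (2 : ZMod p) • K v₀ = 0 := by
      rw [two_smul]; nth_rewrite 1 [← h]; exact neg_add_cancel _
    exact hv₀ (hKinj _ ((smul_eq_zero.1 h0).resolve_left h2ne))
  have huKv : u (K v) = -(K v) := by
    rw [← Module.End.mul_apply, huK, LinearMap.neg_apply, Module.End.mul_apply, huv]
  have hKKv : K (K v) = -v := by rw [← Module.End.mul_apply, hKK, LinearMap.neg_apply, Module.End.one_apply]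
  obtain ⟨W, hW⟩ : ∃ W, W = Submodule.span (ZMod p) (Set.range ![v, K v]) := ⟨_, rfl⟩
  have hvW : v ∈ W := hW ▸ Submodule.subset_span ⟨0, rfl⟩
  have hKvW : K v ∈ W := hW ▸ Submodule.subset_span ⟨1, rfl⟩
  have hmap : ∀ T : Module.End (ZMod p) V, T v ∈ W → T (K v) ∈ W → ∀ w ∈ W, T w ∈ W := fun T h1 h2 w hw => by
    have hle : W ≤ W.comap T := by
      conv_lhs => rw [hW]
      rw [Submodule.span_le]
      rintro _ ⟨i, rfl⟩
      fin_cases i
      · exact h1
      · exact h2
    exact hle hw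
  have huW : ∀ w ∈ W, u w ∈ W := hmap u (huv.symm ▸ hvW) (huKv.symm ▸ W.neg_mem hKvW)
  have hKW : ∀ w ∈ W, K w ∈ W := hmap K hKvW (hKKv.symm ▸ W.neg_mem hvW)
  have hIW : ∀ w ∈ W, I w ∈ W := fun w hw => by
    rw [hIu, LinearMap.neg_apply, LinearMap.add_apply, LinearMap.smul_apply, LinearMap.smul_apply, Module.End.mul_apply]
    exact W.neg_mem (W.add_mem (W.smul_mem _ (huW w hw)) (W.smul_mem _ (huW _ (hKW w hw))))
  have hJW : ∀ w ∈ W, J w ∈ W := fun w hw => by
    rw [hJu, LinearMap.neg_apply, LinearMap.add_apply, LinearMap.smul_apply, LinearMap.smul_apply, Module.End.mul_apply]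
    exact W.neg_mem (W.add_mem (W.smul_mem _ (huW w hw)) (W.smul_mem _ (huW _ (hKW w hw))))
  have hIpow : ∀ (k : ℕ), ∀ w ∈ W, (I ^ k) w ∈ W := fun k => by
    induction k with
    | zero => intro w hw; simpa using hw
    | succ k ih => intro w hw; rw [pow_succ', Module.End.mul_apply]; exact hIW _ (ih w hw)
  have hgW : ∀ q, ∀ w ∈ W, g q w ∈ W := fun q w hw => by
    obtain ⟨k, rfl | rfl⟩ : ∃ k : ℕ, q = (QuaternionGroup.a 1) ^ k ∨ q = .xa 0 * (QuaternionGroup.a 1) ^ k := by
      rcases q with i | i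
      · exact ⟨i.val, Or.inl (by rw [QuaternionGroup.a_one_pow, ZMod.natCast_val, ZMod.cast_id])⟩
      · exact ⟨i.val, Or.inr (by rw [QuaternionGroup.a_one_pow, ZMod.natCast_val, ZMod.cast_id,
          QuaternionGroup.xa_mul_a, zero_add])⟩
    · rw [map_pow, ← hI']; exact hIpow k w hw
    · rw [map_mul, map_pow, ← hI', ← hJ', Module.End.mul_apply]; exact hJW _ (hIpow k w hw)
  have hWtop : W = ⊤ := by
    refine (hirr W fun n hn w hw => ?_).resolve_left fun h => hv (by rw [h] at hvW; simpa using hvW)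
    have h := hgW (e ⟨n, hn⟩) w hw
    rwa [hg, e.symm_apply_apply, hL] at h
  have hli : LinearIndependent (ZMod p) ![v, K v] := by
    rw [LinearIndependent.pair_iff]
    intro s t hst
    have h1 := congrArg u hst
    rw [map_add, map_smul, map_smul, huv, huKv, map_zero, smul_neg] at h1
    have hs : ((2 : ZMod p) * s) • v = 0 := by
      rw [show ((2 : ZMod p) * s) • v = (s • v + t • K v) + (s • v + -(t • K v)) by module, hst, h1, add_zero]
    have hs0 : s = 0 := (mul_eq_zero.1 ((smul_eq_zero.1 hs).resolve_right hv)).resolve_left h2ne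
    rw [hs0, zero_smul, zero_add] at hst
    exact ⟨hs0, (smul_eq_zero.1 hst).resolve_right fun h => hv (hKinj _ h)⟩
  have hdim : Module.finrank (ZMod p) V = 2 := by
    rw [← finrank_top, ← hWtop, hW, finrank_span_eq_card hli, Fintype.card_fin]
  have hcardV : Nat.card V = p ^ 2 := by
    rw [Module.natCard_eq_pow_finrank (K := ZMod p) (V := V), Nat.card_zmod, hdim]
  have hcardH : Nat.card H = p ^ 2 - 1 := by
    have h1 : Nat.card H = Nat.card {w : V // w ≠ 0} := by
      refine Nat.card_congr (Equiv.ofBijective (fun h : H => (⟨(h : V ≃ₗ[ZMod p] V) v₀, by simpa using hv₀⟩ : {w : V // w ≠ 0})) ⟨?_, ?_⟩)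
      · intro h h' he
        have he' := congrArg Subtype.val he
        exact (hreg v₀ _ hv₀ (by simpa using hv₀)).unique he' rfl
      · intro w
        obtain ⟨h, hh, -⟩ := hreg v₀ w.1 hv₀ w.2
        exact ⟨h, Subtype.ext hh⟩
    haveI := Fintype.ofFinite V
    rw [h1, Nat.card_eq_fintype_card, Fintype.card_subtype_compl, Fintype.card_subtype_eq, ← Nat.card_eq_fintype_card,
      hcardV]
  -- the centraliser consists of scalars
  have hscal : ∀ x : A, ∃ c : ZMod p, L (x : H) = c • 1 ∧ c ≠ 0 := by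
    intro x
    have hcomm : ∀ q, L (x : H) * g q = g q * L (x : H) := fun q => by
      rw [hg, ← map_mul, ← map_mul, Subgroup.mem_centralizer_iff.1 (hNle (e.symm q).2) (x : H) x.2]
    have hcI : L (x : H) * I = I * L (x : H) := hI' ▸ hcomm _
    have hcJ : L (x : H) * J = J * L (x : H) := hJ' ▸ hcomm _
    have hcu : L (x : H) * u = u * L (x : H) := by
      rw [hu, mul_add, add_mul, mul_smul_comm, mul_smul_comm, smul_mul_assoc, smul_mul_assoc, hcI, hcJ]
    have hcK : L (x : H) * K = K * L (x : H) := by rw [hK, ← mul_assoc, hcI, mul_assoc, hcJ, ← mul_assoc]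
    obtain ⟨f, hf⟩ := Submodule.mem_span_range_iff_exists_fun (ZMod p) |>.1
      (show L (x : H) v ∈ Submodule.span (ZMod p) (Set.range ![v, K v]) by rw [← hW, hWtop]; exact Submodule.mem_top)
    simp only [Fin.sum_univ_two, Matrix.cons_val_zero, Matrix.cons_val_one] at hf
    have h1 := LinearMap.congr_fun hcu v
    rw [Module.End.mul_apply, Module.End.mul_apply, huv, ← hf, map_add, map_smul, map_smul, huv, huKv, smul_neg] at h1
    have hf1 : f 1 = 0 := by
      have h0 : ((2 : ZMod p) * f 1) • K v = 0 := by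
        rw [show ((2 : ZMod p) * f 1) • K v = (f 0 • v + f 1 • K v) - (f 0 • v + -(f 1 • K v)) by module, ← h1, sub_self]
      exact (mul_eq_zero.1 ((smul_eq_zero.1 h0).resolve_right fun h => hv (hKinj _ h))).resolve_left h2ne
    rw [hf1, zero_smul, add_zero] at hf
    refine ⟨f 0, ?_, fun h0 => ?_⟩
    · refine LinearMap.ext_on (hW ▸ hWtop : Submodule.span (ZMod p) (Set.range ![v, K v]) = ⊤) ?_
      rintro _ ⟨i, rfl⟩
      fin_cases i
      · show L (x : H) v = (f 0 • (1 : Module.End (ZMod p) V)) v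
        rw [← hf]; rfl
      · show L (x : H) (K v) = (f 0 • (1 : Module.End (ZMod p) V)) (K v)
        rw [← Module.End.mul_apply, hcK, Module.End.mul_apply, ← hf, map_smul]; rfl
    · rw [h0, zero_smul, hL] at hf
      exact hv (((x : H) : V ≃ₗ[ZMod p] V).map_eq_zero_iff.1 hf.symm)
  choose c hc hc0 using hscal
  obtain ⟨ch, hch⟩ : ∃ ch : A →* (ZMod p)ˣ, ∀ x, (ch x : ZMod p) = c x :=
    ⟨MonoidHom.mk' (fun x => Units.mk0 (c x) (hc0 x)) (fun x y => Units.ext (by
      show c (x * y) = c x * c y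
      refine smul_left_injective (ZMod p) hv₀ ?_
      have h := LinearMap.congr_fun (map_mul L (x : H) (y : H)) v₀
      rw [← Subgroup.coe_mul, hc, hc, hc] at h
      simpa [smul_smul, mul_comm] using h)), fun x => rfl⟩
  have hchinj : Function.Injective ch := fun x y hxy => by
    have h : L (x : H) = L (y : H) := by rw [hc, hc, ← hch, ← hch, hxy]
    have h' := LinearMap.congr_fun h v₀
    rw [hL, hL] at h'
    exact Subtype.ext ((hreg v₀ _ hv₀ (by simpa using hv₀)).unique h' rfl)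
  have hAdvd : Nat.card A ∣ p - 1 := by
    have h := Subgroup.card_dvd_of_injective ch hchinj
    rwa [Nat.card_eq_fintype_card (α := (ZMod p)ˣ), ZMod.card_units p] at h
  -- the action on the quaternion group
  haveI := hNn
  obtain ⟨φ, hφ⟩ : ∃ φ : H →* MulAut (QuaternionGroup 2), φ = (MulAut.congr e).toMonoidHom.comp MulAut.conjNormal :=
    ⟨_, rfl⟩
  have hker : φ.ker = A := by
    rw [← hCN]
    ext h
    rw [MonoidHom.mem_ker, hφ, MonoidHom.comp_apply, MulEquiv.coe_toMonoidHom, MulEquiv.map_eq_one_iff,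
      Subgroup.mem_centralizer_iff]
    constructor
    · intro hh n hn
      have h1 := congrArg (fun σ : MulAut N => ((σ ⟨n, hn⟩ : N) : H)) hh
      simp only [MulAut.conjNormal_apply, MulAut.one_apply] at h1
      exact (mul_inv_eq_iff_eq_mul.1 h1).symm
    · intro hh
      refine MulEquiv.ext fun n => Subtype.ext ?_
      rw [MulAut.conjNormal_apply, MulAut.one_apply, ← hh n n.2, mul_inv_cancel_right]
  obtain ⟨r, hr⟩ : ∃ r, r = Nat.card φ.range := ⟨_, rfl⟩
  have hr24 : r ∣ 24 := by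
    rw [hr, ← card_mulAut]
    exact Subgroup.card_subgroup_dvd_card _
  have hprod : Nat.card A * r = p ^ 2 - 1 := by
    rw [hr, ← hcardH, ← Subgroup.index_ker, hker, Subgroup.card_mul_index]
  obtain ⟨k, hk⟩ := hAdvd
  obtain ⟨P, rfl⟩ : ∃ P, p = P + 1 := ⟨p - 1, by have := hp.one_lt; omega⟩
  rw [Nat.add_sub_cancel] at hk
  have hsq : (P + 1) ^ 2 - 1 = P * (P + 2) := by
    rw [show (P + 1) ^ 2 = P * (P + 2) + 1 by ring, Nat.add_sub_cancel]
  rw [hsq] at hprod
  have hApos : 0 < Nat.card A := Nat.card_pos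
  have hrk : r = k * (P + 2) := Nat.eq_of_mul_eq_mul_left hApos (by rw [hprod]; nth_rewrite 1 [hk]; ring)
  have hP24 : P + 2 ∣ 24 := (Dvd.intro_left k hrk.symm).trans hr24
  have hPle : P + 2 ≤ 24 := Nat.le_of_dvd (by norm_num) hP24
  rw [hcardV]
  by_cases hP2 : P = 2
  · -- nine vectors
    exfalso
    subst hP2
    obtain ⟨C, hC⟩ : ∃ C : Subgroup H, C = Subgroup.zpowers (((e.symm (.a 1) : N)) : H) := ⟨_, rfl⟩
    have hCcard : Nat.card C = 4 := by
      rw [hC, Nat.card_zpowers, Subgroup.orderOf_coe, e.symm.orderOf_eq, QuaternionGroup.orderOf_a_one]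
    have hCn : C.Normal := by
      refine Subgroup.normal_of_index_eq_two ?_
      have h := C.card_mul_index
      rw [hCcard, hcardH] at h
      omega
    obtain ⟨U, hU0, hU1, hUi⟩ := hI C hCn (hC ▸ inferInstance)
    obtain ⟨w, hw, hw0⟩ := Submodule.exists_mem_ne_zero_of_ne_bot hU0
    have hIw : I w ∈ U := by
      rw [hI', hg, hL]
      exact hUi _ (hC ▸ Subgroup.mem_zpowers _) w hw
    have hUdim : Module.finrank (ZMod (2 + 1)) U = 1 := by
      have h1 := Submodule.finrank_lt hU1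
      rw [hdim] at h1
      have h2 : 0 < Module.finrank (ZMod (2 + 1)) U := by
        haveI := Submodule.nontrivial_iff_ne_bot.2 hU0
        exact Module.finrank_pos
      omega
    obtain ⟨s, hs⟩ := (finrank_eq_one_iff_of_nonzero' (⟨w, hw⟩ : U) (fun h => hw0 (congrArg Subtype.val h))).1 hUdim ⟨I w, hIw⟩
    have hs' : s • w = I w := congrArg Subtype.val hs
    have h := LinearMap.congr_fun hII w
    rw [Module.End.mul_apply, ← hs', map_smul, ← hs', smul_smul, LinearMap.neg_apply, Module.End.one_apply,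
      eq_neg_iff_add_eq_zero] at h
    have h' : (s * s + 1) • w = 0 := by rw [add_smul, one_smul]; exact h
    have hne : ∀ t : Fin 3, t * t + 1 ≠ 0 := by decide
    exact hne s ((smul_eq_zero.1 h').resolve_right hw0)
  have hP22 : P ≤ 22 := by omega
  interval_cases P <;> first | (exact absurd hP24 (by decide)) | omega | (norm_num at hp; done) | norm_num

end Cfsg.Agent.S0688
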