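import Cfsg.Statements.S0691
import Mathlib
import Cfsg.Agent.Lib.Perm.Groups.RegularGL2

set_option autoImplicit false
open Cfsg

namespace Cfsg.Agent.S0691

/-- An exceptional sharply doubly transitive group of degree 5^2: the listed matrices generate a subgroup of GL(2,5) of order 24 acting regularly on the non-zero vectors. -/
theorem result (A : Matrix.GeneralLinearGroup (Fin 2) (ZMod 5)) (B : Matrix.GeneralLinearGroup (Fin 2) (ZMod 5)) (C : Matrix.GeneralLinearGroup (Fin 2) (ZMod 5)) (hA : (A : Matrix (Fin 2) (Fin 2) (ZMod 5)) = !![2, 0; 0, -2]) (hB : (B : Matrix (Fin 2) (Fin 2) (ZMod 5)) = !![0, -1; 1, 0]) (hC : (C : Matrix (Fin 2) (Fin 2) (ZMod 5)) = !![1, 2; 1, -2]) : Nat.card (Subgroup.closure ({A, B, C} : Set (Matrix.GeneralLinearGroup (Fin 2) (ZMod 5)))) = 24 ∧ ∀ v w : Fin 2 → ZMod 5, v ≠ 0 → w ≠ 0 → ∃! h : Subgroup.closure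 ({A, B, C} : Set (Matrix.GeneralLinearGroup (Fin 2) (ZMod 5))), Matrix.mulVec ((h : Matrix.GeneralLinearGroup (Fin 2) (ZMod 5)) : Matrix (Fin 2) (Fin 2) (ZMod 5)) v = w := by
  refine @CfsgLib.Perm.Groups.regular_of_list 5 ⟨by norm_num⟩ _
    [(2, 0, 0, 3), (0, 4, 1, 0), (1, 2, 1, 3)]
    [(1, 0, 0, 1), (2, 0, 0, 3), (0, 4, 1, 0), (1, 2, 1, 3), (4, 0, 0, 4), (0, 2, 2, 0), (2, 1, 2, 4), (0, 3, 3,
      0), (2, 4, 3, 4), (4, 2, 1, 2), (3, 3, 4, 1), (3, 0, 0, 2), (0, 1, 4, 0), (4, 3, 4, 2), (3, 1, 2, 1),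
      (1, 4, 3, 3), (1, 3, 4, 3), (3, 2, 1, 1), (3, 4, 3, 1), (1, 1, 2, 3), (2, 2, 1, 4), (2, 3, 4, 4), (4, 4,
      3, 2), (4, 1, 2, 2)]
    [[], [(2, 0, 0, 3)], [(0, 4, 1, 0)], [(1, 2, 1, 3)], [(2, 0, 0, 3), (2, 0, 0, 3)], [(0, 4, 1, 0), (2, 0, 0,
      3)], [(1, 2, 1, 3), (2, 0, 0, 3)], [(2, 0, 0, 3), (0, 4, 1, 0)], [(1, 2, 1, 3), (0, 4, 1, 0)], [(0, 4,
      1, 0), (1, 2, 1, 3)], [(1, 2, 1, 3), (1, 2, 1, 3)], [(2, 0, 0, 3), (2, 0, 0, 3), (2, 0, 0, 3)], [(0, 4,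
      1, 0), (2, 0, 0, 3), (2, 0, 0, 3)], [(1, 2, 1, 3), (2, 0, 0, 3), (2, 0, 0, 3)], [(0, 4, 1, 0), (1, 2, 1,
      3), (2, 0, 0, 3)], [(1, 2, 1, 3), (1, 2, 1, 3), (2, 0, 0, 3)], [(1, 2, 1, 3), (2, 0, 0, 3), (0, 4, 1,
      0)], [(1, 2, 1, 3), (1, 2, 1, 3), (0, 4, 1, 0)], [(2, 0, 0, 3), (0, 4, 1, 0), (1, 2, 1, 3)], [(1, 2, 1,
      3), (0, 4, 1, 0), (1, 2, 1, 3)], [(1, 2, 1, 3), (1, 2, 1, 3), (2, 0, 0, 3), (2, 0, 0, 3)], [(1, 2, 1,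
      3), (0, 4, 1, 0), (1, 2, 1, 3), (2, 0, 0, 3)], [(1, 2, 1, 3), (1, 2, 1, 3), (2, 0, 0, 3), (0, 4, 1, 0)],
      [(1, 2, 1, 3), (2, 0, 0, 3), (0, 4, 1, 0), (1, 2, 1, 3)]]
    ?_ ?_ ?_ ?_ ?_ ?_ ?_ ?_ ?_
  · intro g hg
    rcases hg with rfl | rfl | rfl
    · rw [CfsgLib.Perm.Groups.quadOf, hA]; simp <;> decide
    · rw [CfsgLib.Perm.Groups.quadOf, hB]; simp <;> decide
    · rw [CfsgLib.Perm.Groups.quadOf, hC]; simp <;> decide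
  · intro x hx
    simp only [List.mem_cons, List.not_mem_nil, or_false] at hx
    rcases hx with rfl | rfl | rfl
    · exact ⟨A, by simp, by rw [CfsgLib.Perm.Groups.quadOf, hA]; simp <;> decide⟩
    · exact ⟨B, by simp, by rw [CfsgLib.Perm.Groups.quadOf, hB]; simp <;> decide⟩
    · exact ⟨C, by simp, by rw [CfsgLib.Perm.Groups.quadOf, hC]; simp <;> decide⟩
  · decide +kernel
  · decide +kernel
  · decide +kernel
  · decide +kernel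
  · decide +kernel
  · decide +kernel
  · decide +kernel

end Cfsg.Agent.S0691
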