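import Cfsg.Statements.S0693
-- import your own Cfsg.Agent.* helpers here
import Mathlib
import Cfsg.Agent.Lib.Perm.Groups.RegularGL2Scalar

set_option autoImplicit false
set_option linter.all false
open Cfsg

namespace Cfsg.Agent.S0693

/-- An exceptional sharply doubly transitive group of degree 59^2: the listed matrices generate a subgroup of GL(2,59) of order 3480 acting regularly on the non-zero vectors. -/
theorem result (A : Matrix.GeneralLinearGroup (Fin 2) (ZMod 59)) (B : Matrix.GeneralLinearGroup (Fin 2) (ZMod 59)) (C : Matrix.GeneralLinearGroup (Fin 2) (ZMod 59)) (hA : (A : Matrix (Fin 2) (Fin 2) (ZMod 59)) = !![0, -1; 1, 0]) (hB : (B : Matrix (Fin 2) (Fin 2) (ZMod 59)) = !![9, 15; -10, -10]) (hC : (C : Matrix (Fin 2) (Fin 2) (ZMod 59)) = !![4, 0; 0, 4]) : Nat.card (Subgroup.closure ({A, B, C} : Set (Matrix.GeneralLinearGroup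 (Fin 2) (ZMod 59)))) = 3480 ∧ ∀ v w : Fin 2 → ZMod 59, v ≠ 0 → w ≠ 0 → ∃! h : Subgroup.closure ({A, B, C} : Set (Matrix.GeneralLinearGroup (Fin 2) (ZMod 59))), Matrix.mulVec ((h : Matrix.GeneralLinearGroup (Fin 2) (ZMod 59)) : Matrix (Fin 2) (Fin 2) (ZMod 59)) v = w := by
  haveI : Fact (Nat.Prime 59) := ⟨by norm_num⟩
  have hC' : (C : Matrix (Fin 2) (Fin 2) (ZMod 59)) = !![((4 : ℕ) : ZMod 59), 0; 0, ((4 : ℕ) : ZMod 59)] := by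
    rw [hC]; norm_num
  have hord : orderOf C = 29 := by
    haveI : Fact (Nat.Prime 29) := ⟨by norm_num⟩
    refine orderOf_eq_prime (Units.ext ?_) ?_
    · rw [Units.val_pow_eq_pow_val, hC,
        show (!![(4 : ZMod 59), 0; 0, 4]) = Matrix.diagonal (fun _ : Fin 2 => (4 : ZMod 59)) from by
          ext i j; fin_cases i <;> fin_cases j <;> simp [Matrix.diagonal],
        Matrix.diagonal_pow, Units.val_one, ← Matrix.diagonal_one]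
      congr 1
    · intro h
      have h1 := congrArg (fun g : Matrix.GeneralLinearGroup (Fin 2) (ZMod 59) =>
        (g : Matrix (Fin 2) (Fin 2) (ZMod 59)) 0 0) h
      rw [hC] at h1
      simp at h1
      have h2 : ((4 : ℕ) : ZMod 59) = ((1 : ℕ) : ZMod 59) := by simpa using h1
      rw [ZMod.natCast_eq_natCast_iff'] at h2
      omega
  exact CfsgLib.Perm.Groups.regular_of_natList_scalar (p := 59) A B C (0, 58, 1, 0) (9, 15, 49, 49) 4 29 120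
    [(1, 0, 0, 1), (0, 58, 1, 0), (9, 15, 49, 49), (58, 0, 0, 58), (15, 50, 49, 10), (10, 10, 9, 15),
      (49, 44, 10, 9), (0, 1, 58, 0), (50, 44, 10, 10), (10, 49, 15, 50), (44, 10, 9, 49), (48, 20, 46, 45),
      (49, 50, 49, 44), (44, 9, 10, 49), (49, 49, 50, 44), (10, 15, 49, 50), (20, 11, 45, 13),
      (50, 10, 44, 10), (13, 14, 48, 20), (1, 29, 4, 58), (55, 48, 23, 4), (49, 10, 44, 9), (15, 49, 50, 10),
      (11, 39, 13, 14), (10, 9, 10, 15), (14, 46, 20, 11), (29, 58, 58, 55), (48, 4, 4, 36),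
      (11, 13, 39, 14), (55, 1, 1, 29), (36, 55, 55, 48), (14, 20, 46, 11), (39, 48, 14, 46),
      (9, 49, 15, 49), (46, 45, 11, 39), (58, 30, 55, 1), (4, 11, 36, 55), (13, 48, 14, 20), (1, 4, 29, 58),
      (55, 23, 48, 4), (20, 45, 11, 13), (35, 32, 31, 25), (38, 31, 30, 54), (28, 35, 34, 32),
      (45, 13, 39, 48), (30, 1, 1, 4), (11, 55, 55, 23), (48, 46, 20, 45), (4, 58, 58, 30), (23, 4, 4, 11),
      (45, 39, 13, 48), (32, 24, 25, 28), (31, 21, 54, 29), (35, 31, 32, 25), (28, 34, 35, 32),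
      (29, 5, 38, 31), (25, 27, 28, 35), (54, 28, 29, 38), (46, 11, 45, 39), (58, 55, 30, 1),
      (4, 36, 11, 55), (39, 14, 48, 46), (24, 27, 28, 34), (21, 28, 29, 5), (31, 24, 25, 27),
      (34, 31, 32, 24), (5, 30, 31, 21), (27, 34, 35, 31), (28, 5, 38, 30), (10, 19, 19, 48),
      (5, 38, 38, 53), (30, 21, 54, 28), (27, 35, 34, 31), (28, 38, 5, 30), (24, 28, 27, 34),
      (31, 25, 24, 27), (30, 54, 21, 28), (34, 32, 31, 24), (5, 31, 30, 21), (19, 49, 48, 40),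
      (38, 54, 53, 21), (21, 29, 28, 5), (40, 11, 10, 19), (21, 6, 5, 38), (25, 16, 42, 34),
      (18, 19, 45, 41), (25, 28, 27, 35), (54, 29, 28, 38), (32, 25, 24, 28), (31, 54, 21, 29),
      (49, 40, 40, 11), (54, 21, 21, 6), (29, 38, 5, 31), (11, 19, 19, 49), (6, 38, 38, 54),
      (16, 34, 34, 17), (19, 41, 41, 14), (38, 30, 31, 54), (17, 25, 25, 16), (14, 18, 18, 19),
      (40, 10, 11, 19), (21, 5, 6, 38), (19, 48, 49, 40), (38, 53, 54, 21), (34, 43, 17, 25),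
      (41, 40, 14, 18), (25, 42, 16, 34), (18, 45, 19, 41), (40, 18, 18, 45), (56, 52, 52, 3),
      (42, 34, 34, 43), (48, 40, 40, 10), (53, 21, 21, 5), (43, 25, 25, 42), (45, 41, 41, 40), (52, 3, 3, 7),
      (34, 17, 43, 25), (41, 14, 40, 18), (7, 56, 56, 52), (3, 7, 7, 56)]
    [[], [(0, 58, 1, 0)], [(9, 15, 49, 49)], [(0, 58, 1, 0), (0, 58, 1, 0)],
      [(9, 15, 49, 49), (0, 58, 1, 0)], [(0, 58, 1, 0), (9, 15, 49, 49)], [(9, 15, 49, 49), (9, 15, 49, 49)],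
      [(0, 58, 1, 0), (0, 58, 1, 0), (0, 58, 1, 0)], [(9, 15, 49, 49), (0, 58, 1, 0), (0, 58, 1, 0)],
      [(0, 58, 1, 0), (9, 15, 49, 49), (0, 58, 1, 0)], [(9, 15, 49, 49), (9, 15, 49, 49), (0, 58, 1, 0)],
      [(9, 15, 49, 49), (0, 58, 1, 0), (9, 15, 49, 49)], [(0, 58, 1, 0), (9, 15, 49, 49), (9, 15, 49, 49)],
      [(9, 15, 49, 49), (0, 58, 1, 0), (0, 58, 1, 0), (0, 58, 1, 0)],
      [(0, 58, 1, 0), (9, 15, 49, 49), (0, 58, 1, 0), (0, 58, 1, 0)],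
      [(9, 15, 49, 49), (9, 15, 49, 49), (0, 58, 1, 0), (0, 58, 1, 0)],
      [(9, 15, 49, 49), (0, 58, 1, 0), (9, 15, 49, 49), (0, 58, 1, 0)],
      [(0, 58, 1, 0), (9, 15, 49, 49), (9, 15, 49, 49), (0, 58, 1, 0)],
      [(0, 58, 1, 0), (9, 15, 49, 49), (0, 58, 1, 0), (9, 15, 49, 49)],
      [(9, 15, 49, 49), (9, 15, 49, 49), (0, 58, 1, 0), (9, 15, 49, 49)],
      [(9, 15, 49, 49), (0, 58, 1, 0), (9, 15, 49, 49), (9, 15, 49, 49)],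
      [(0, 58, 1, 0), (9, 15, 49, 49), (0, 58, 1, 0), (0, 58, 1, 0), (0, 58, 1, 0)],
      [(9, 15, 49, 49), (9, 15, 49, 49), (0, 58, 1, 0), (0, 58, 1, 0), (0, 58, 1, 0)],
      [(9, 15, 49, 49), (0, 58, 1, 0), (9, 15, 49, 49), (0, 58, 1, 0), (0, 58, 1, 0)],
      [(0, 58, 1, 0), (9, 15, 49, 49), (9, 15, 49, 49), (0, 58, 1, 0), (0, 58, 1, 0)],
      [(0, 58, 1, 0), (9, 15, 49, 49), (0, 58, 1, 0), (9, 15, 49, 49), (0, 58, 1, 0)],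
      [(9, 15, 49, 49), (9, 15, 49, 49), (0, 58, 1, 0), (9, 15, 49, 49), (0, 58, 1, 0)],
      [(9, 15, 49, 49), (0, 58, 1, 0), (9, 15, 49, 49), (9, 15, 49, 49), (0, 58, 1, 0)],
      [(9, 15, 49, 49), (0, 58, 1, 0), (9, 15, 49, 49), (0, 58, 1, 0), (9, 15, 49, 49)],
      [(0, 58, 1, 0), (9, 15, 49, 49), (9, 15, 49, 49), (0, 58, 1, 0), (9, 15, 49, 49)],
      [(0, 58, 1, 0), (9, 15, 49, 49), (0, 58, 1, 0), (9, 15, 49, 49), (9, 15, 49, 49)],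
      [(9, 15, 49, 49), (9, 15, 49, 49), (0, 58, 1, 0), (9, 15, 49, 49), (9, 15, 49, 49)],
      [(9, 15, 49, 49), (0, 58, 1, 0), (9, 15, 49, 49), (0, 58, 1, 0), (0, 58, 1, 0), (0, 58, 1, 0)],
      [(0, 58, 1, 0), (9, 15, 49, 49), (9, 15, 49, 49), (0, 58, 1, 0), (0, 58, 1, 0), (0, 58, 1, 0)],
      [(0, 58, 1, 0), (9, 15, 49, 49), (0, 58, 1, 0), (9, 15, 49, 49), (0, 58, 1, 0), (0, 58, 1, 0)],
      [(9, 15, 49, 49), (9, 15, 49, 49), (0, 58, 1, 0), (9, 15, 49, 49), (0, 58, 1, 0), (0, 58, 1, 0)],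
      [(9, 15, 49, 49), (0, 58, 1, 0), (9, 15, 49, 49), (9, 15, 49, 49), (0, 58, 1, 0), (0, 58, 1, 0)],
      [(9, 15, 49, 49), (0, 58, 1, 0), (9, 15, 49, 49), (0, 58, 1, 0), (9, 15, 49, 49), (0, 58, 1, 0)],
      [(0, 58, 1, 0), (9, 15, 49, 49), (9, 15, 49, 49), (0, 58, 1, 0), (9, 15, 49, 49), (0, 58, 1, 0)],
      [(0, 58, 1, 0), (9, 15, 49, 49), (0, 58, 1, 0), (9, 15, 49, 49), (9, 15, 49, 49), (0, 58, 1, 0)],
      [(9, 15, 49, 49), (9, 15, 49, 49), (0, 58, 1, 0), (9, 15, 49, 49), (9, 15, 49, 49), (0, 58, 1, 0)],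
      [(9, 15, 49, 49), (9, 15, 49, 49), (0, 58, 1, 0), (9, 15, 49, 49), (0, 58, 1, 0), (9, 15, 49, 49)],
      [(9, 15, 49, 49), (0, 58, 1, 0), (9, 15, 49, 49), (9, 15, 49, 49), (0, 58, 1, 0), (9, 15, 49, 49)],
      [(9, 15, 49, 49), (0, 58, 1, 0), (9, 15, 49, 49), (0, 58, 1, 0), (9, 15, 49, 49), (9, 15, 49, 49)],
      [(0, 58, 1, 0), (9, 15, 49, 49), (0, 58, 1, 0), (9, 15, 49, 49), (0, 58, 1, 0), (0, 58, 1, 0), (0, 58, 1, 0)],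
      [(9, 15, 49, 49), (9, 15, 49, 49), (0, 58, 1, 0), (9, 15, 49, 49), (0, 58, 1, 0), (0, 58, 1, 0), (0, 58, 1, 0)],
      [(9, 15, 49, 49), (0, 58, 1, 0), (9, 15, 49, 49), (9, 15, 49, 49), (0, 58, 1, 0), (0, 58, 1, 0), (0, 58, 1, 0)],
      [(9, 15, 49, 49), (0, 58, 1, 0), (9, 15, 49, 49), (0, 58, 1, 0), (9, 15, 49, 49), (0, 58, 1, 0), (0, 58, 1, 0)],
      [(0, 58, 1, 0), (9, 15, 49, 49), (9, 15, 49, 49), (0, 58, 1, 0), (9, 15, 49, 49), (0, 58, 1, 0), (0, 58, 1, 0)],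
      [(0, 58, 1, 0), (9, 15, 49, 49), (0, 58, 1, 0), (9, 15, 49, 49), (9, 15, 49, 49), (0, 58, 1, 0), (0, 58, 1, 0)],
      [(9, 15, 49, 49), (9, 15, 49, 49), (0, 58, 1, 0), (9, 15, 49, 49), (9, 15, 49, 49), (0, 58, 1, 0), (0, 58, 1, 0)],
      [(9, 15, 49, 49), (9, 15, 49, 49), (0, 58, 1, 0), (9, 15, 49, 49), (0, 58, 1, 0), (9, 15, 49, 49), (0, 58, 1, 0)],
      [(9, 15, 49, 49), (0, 58, 1, 0), (9, 15, 49, 49), (9, 15, 49, 49), (0, 58, 1, 0), (9, 15, 49, 49), (0, 58, 1, 0)],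
      [(9, 15, 49, 49), (0, 58, 1, 0), (9, 15, 49, 49), (0, 58, 1, 0), (9, 15, 49, 49), (9, 15, 49, 49), (0, 58, 1, 0)],
      [(0, 58, 1, 0), (9, 15, 49, 49), (9, 15, 49, 49), (0, 58, 1, 0), (9, 15, 49, 49), (0, 58, 1, 0), (9, 15, 49, 49)],
      [(0, 58, 1, 0), (9, 15, 49, 49), (0, 58, 1, 0), (9, 15, 49, 49), (9, 15, 49, 49), (0, 58, 1, 0), (9, 15, 49, 49)],
      [(9, 15, 49, 49), (9, 15, 49, 49), (0, 58, 1, 0), (9, 15, 49, 49), (9, 15, 49, 49), (0, 58, 1, 0), (9, 15, 49, 49)],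
      [(9, 15, 49, 49), (9, 15, 49, 49), (0, 58, 1, 0), (9, 15, 49, 49), (0, 58, 1, 0), (9, 15, 49, 49), (9, 15, 49, 49)],
      [(9, 15, 49, 49), (0, 58, 1, 0), (9, 15, 49, 49), (0, 58, 1, 0), (9, 15, 49, 49), (0, 58, 1, 0), (0, 58, 1, 0), (0, 58, 1, 0)],
      [(0, 58, 1, 0), (9, 15, 49, 49), (9, 15, 49, 49), (0, 58, 1, 0), (9, 15, 49, 49), (0, 58, 1, 0), (0, 58, 1, 0), (0, 58, 1, 0)],
      [(0, 58, 1, 0), (9, 15, 49, 49), (0, 58, 1, 0), (9, 15, 49, 49), (9, 15, 49, 49), (0, 58, 1, 0), (0, 58, 1, 0), (0, 58, 1, 0)],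
      [(9, 15, 49, 49), (9, 15, 49, 49), (0, 58, 1, 0), (9, 15, 49, 49), (9, 15, 49, 49), (0, 58, 1, 0), (0, 58, 1, 0), (0, 58, 1, 0)],
      [(9, 15, 49, 49), (9, 15, 49, 49), (0, 58, 1, 0), (9, 15, 49, 49), (0, 58, 1, 0), (9, 15, 49, 49), (0, 58, 1, 0), (0, 58, 1, 0)],
      [(9, 15, 49, 49), (0, 58, 1, 0), (9, 15, 49, 49), (9, 15, 49, 49), (0, 58, 1, 0), (9, 15, 49, 49), (0, 58, 1, 0), (0, 58, 1, 0)],
      [(9, 15, 49, 49), (0, 58, 1, 0), (9, 15, 49, 49), (0, 58, 1, 0), (9, 15, 49, 49), (9, 15, 49, 49), (0, 58, 1, 0), (0, 58, 1, 0)],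
      [(0, 58, 1, 0), (9, 15, 49, 49), (9, 15, 49, 49), (0, 58, 1, 0), (9, 15, 49, 49), (0, 58, 1, 0), (9, 15, 49, 49), (0, 58, 1, 0)],
      [(0, 58, 1, 0), (9, 15, 49, 49), (0, 58, 1, 0), (9, 15, 49, 49), (9, 15, 49, 49), (0, 58, 1, 0), (9, 15, 49, 49), (0, 58, 1, 0)],
      [(9, 15, 49, 49), (9, 15, 49, 49), (0, 58, 1, 0), (9, 15, 49, 49), (9, 15, 49, 49), (0, 58, 1, 0), (9, 15, 49, 49), (0, 58, 1, 0)],
      [(9, 15, 49, 49), (9, 15, 49, 49), (0, 58, 1, 0), (9, 15, 49, 49), (0, 58, 1, 0), (9, 15, 49, 49), (9, 15, 49, 49), (0, 58, 1, 0)],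
      [(9, 15, 49, 49), (0, 58, 1, 0), (9, 15, 49, 49), (9, 15, 49, 49), (0, 58, 1, 0), (9, 15, 49, 49), (0, 58, 1, 0), (9, 15, 49, 49)],
      [(9, 15, 49, 49), (0, 58, 1, 0), (9, 15, 49, 49), (0, 58, 1, 0), (9, 15, 49, 49), (9, 15, 49, 49), (0, 58, 1, 0), (9, 15, 49, 49)],
      [(0, 58, 1, 0), (9, 15, 49, 49), (9, 15, 49, 49), (0, 58, 1, 0), (9, 15, 49, 49), (0, 58, 1, 0), (9, 15, 49, 49), (9, 15, 49, 49)],
      [(9, 15, 49, 49), (9, 15, 49, 49), (0, 58, 1, 0), (9, 15, 49, 49), (0, 58, 1, 0), (9, 15, 49, 49), (0, 58, 1, 0), (0, 58, 1, 0), (0, 58, 1, 0)],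
      [(9, 15, 49, 49), (0, 58, 1, 0), (9, 15, 49, 49), (9, 15, 49, 49), (0, 58, 1, 0), (9, 15, 49, 49), (0, 58, 1, 0), (0, 58, 1, 0), (0, 58, 1, 0)],
      [(9, 15, 49, 49), (0, 58, 1, 0), (9, 15, 49, 49), (0, 58, 1, 0), (9, 15, 49, 49), (9, 15, 49, 49), (0, 58, 1, 0), (0, 58, 1, 0), (0, 58, 1, 0)],
      [(0, 58, 1, 0), (9, 15, 49, 49), (9, 15, 49, 49), (0, 58, 1, 0), (9, 15, 49, 49), (0, 58, 1, 0), (9, 15, 49, 49), (0, 58, 1, 0), (0, 58, 1, 0)],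
      [(0, 58, 1, 0), (9, 15, 49, 49), (0, 58, 1, 0), (9, 15, 49, 49), (9, 15, 49, 49), (0, 58, 1, 0), (9, 15, 49, 49), (0, 58, 1, 0), (0, 58, 1, 0)],
      [(9, 15, 49, 49), (9, 15, 49, 49), (0, 58, 1, 0), (9, 15, 49, 49), (9, 15, 49, 49), (0, 58, 1, 0), (9, 15, 49, 49), (0, 58, 1, 0), (0, 58, 1, 0)],
      [(9, 15, 49, 49), (9, 15, 49, 49), (0, 58, 1, 0), (9, 15, 49, 49), (0, 58, 1, 0), (9, 15, 49, 49), (9, 15, 49, 49), (0, 58, 1, 0), (0, 58, 1, 0)],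
      [(9, 15, 49, 49), (0, 58, 1, 0), (9, 15, 49, 49), (9, 15, 49, 49), (0, 58, 1, 0), (9, 15, 49, 49), (0, 58, 1, 0), (9, 15, 49, 49), (0, 58, 1, 0)],
      [(9, 15, 49, 49), (0, 58, 1, 0), (9, 15, 49, 49), (0, 58, 1, 0), (9, 15, 49, 49), (9, 15, 49, 49), (0, 58, 1, 0), (9, 15, 49, 49), (0, 58, 1, 0)],
      [(0, 58, 1, 0), (9, 15, 49, 49), (9, 15, 49, 49), (0, 58, 1, 0), (9, 15, 49, 49), (0, 58, 1, 0), (9, 15, 49, 49), (9, 15, 49, 49), (0, 58, 1, 0)],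
      [(0, 58, 1, 0), (9, 15, 49, 49), (0, 58, 1, 0), (9, 15, 49, 49), (9, 15, 49, 49), (0, 58, 1, 0), (9, 15, 49, 49), (0, 58, 1, 0), (9, 15, 49, 49)],
      [(9, 15, 49, 49), (9, 15, 49, 49), (0, 58, 1, 0), (9, 15, 49, 49), (9, 15, 49, 49), (0, 58, 1, 0), (9, 15, 49, 49), (0, 58, 1, 0), (9, 15, 49, 49)],
      [(9, 15, 49, 49), (9, 15, 49, 49), (0, 58, 1, 0), (9, 15, 49, 49), (0, 58, 1, 0), (9, 15, 49, 49), (9, 15, 49, 49), (0, 58, 1, 0), (9, 15, 49, 49)],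
      [(9, 15, 49, 49), (0, 58, 1, 0), (9, 15, 49, 49), (9, 15, 49, 49), (0, 58, 1, 0), (9, 15, 49, 49), (0, 58, 1, 0), (9, 15, 49, 49), (9, 15, 49, 49)],
      [(0, 58, 1, 0), (9, 15, 49, 49), (9, 15, 49, 49), (0, 58, 1, 0), (9, 15, 49, 49), (0, 58, 1, 0), (9, 15, 49, 49), (0, 58, 1, 0), (0, 58, 1, 0), (0, 58, 1, 0)],
      [(0, 58, 1, 0), (9, 15, 49, 49), (0, 58, 1, 0), (9, 15, 49, 49), (9, 15, 49, 49), (0, 58, 1, 0), (9, 15, 49, 49), (0, 58, 1, 0), (0, 58, 1, 0), (0, 58, 1, 0)],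
      [(9, 15, 49, 49), (9, 15, 49, 49), (0, 58, 1, 0), (9, 15, 49, 49), (9, 15, 49, 49), (0, 58, 1, 0), (9, 15, 49, 49), (0, 58, 1, 0), (0, 58, 1, 0), (0, 58, 1, 0)],
      [(9, 15, 49, 49), (9, 15, 49, 49), (0, 58, 1, 0), (9, 15, 49, 49), (0, 58, 1, 0), (9, 15, 49, 49), (9, 15, 49, 49), (0, 58, 1, 0), (0, 58, 1, 0), (0, 58, 1, 0)],
      [(9, 15, 49, 49), (0, 58, 1, 0), (9, 15, 49, 49), (9, 15, 49, 49), (0, 58, 1, 0), (9, 15, 49, 49), (0, 58, 1, 0), (9, 15, 49, 49), (0, 58, 1, 0), (0, 58, 1, 0)],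
      [(9, 15, 49, 49), (0, 58, 1, 0), (9, 15, 49, 49), (0, 58, 1, 0), (9, 15, 49, 49), (9, 15, 49, 49), (0, 58, 1, 0), (9, 15, 49, 49), (0, 58, 1, 0), (0, 58, 1, 0)],
      [(0, 58, 1, 0), (9, 15, 49, 49), (9, 15, 49, 49), (0, 58, 1, 0), (9, 15, 49, 49), (0, 58, 1, 0), (9, 15, 49, 49), (9, 15, 49, 49), (0, 58, 1, 0), (0, 58, 1, 0)],
      [(0, 58, 1, 0), (9, 15, 49, 49), (0, 58, 1, 0), (9, 15, 49, 49), (9, 15, 49, 49), (0, 58, 1, 0), (9, 15, 49, 49), (0, 58, 1, 0), (9, 15, 49, 49), (0, 58, 1, 0)],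
      [(9, 15, 49, 49), (9, 15, 49, 49), (0, 58, 1, 0), (9, 15, 49, 49), (9, 15, 49, 49), (0, 58, 1, 0), (9, 15, 49, 49), (0, 58, 1, 0), (9, 15, 49, 49), (0, 58, 1, 0)],
      [(9, 15, 49, 49), (9, 15, 49, 49), (0, 58, 1, 0), (9, 15, 49, 49), (0, 58, 1, 0), (9, 15, 49, 49), (9, 15, 49, 49), (0, 58, 1, 0), (9, 15, 49, 49), (0, 58, 1, 0)],
      [(9, 15, 49, 49), (0, 58, 1, 0), (9, 15, 49, 49), (9, 15, 49, 49), (0, 58, 1, 0), (9, 15, 49, 49), (0, 58, 1, 0), (9, 15, 49, 49), (9, 15, 49, 49), (0, 58, 1, 0)],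
      [(9, 15, 49, 49), (0, 58, 1, 0), (9, 15, 49, 49), (0, 58, 1, 0), (9, 15, 49, 49), (9, 15, 49, 49), (0, 58, 1, 0), (9, 15, 49, 49), (0, 58, 1, 0), (9, 15, 49, 49)],
      [(0, 58, 1, 0), (9, 15, 49, 49), (9, 15, 49, 49), (0, 58, 1, 0), (9, 15, 49, 49), (0, 58, 1, 0), (9, 15, 49, 49), (9, 15, 49, 49), (0, 58, 1, 0), (9, 15, 49, 49)],
      [(0, 58, 1, 0), (9, 15, 49, 49), (0, 58, 1, 0), (9, 15, 49, 49), (9, 15, 49, 49), (0, 58, 1, 0), (9, 15, 49, 49), (0, 58, 1, 0), (9, 15, 49, 49), (9, 15, 49, 49)],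
      [(9, 15, 49, 49), (0, 58, 1, 0), (9, 15, 49, 49), (9, 15, 49, 49), (0, 58, 1, 0), (9, 15, 49, 49), (0, 58, 1, 0), (9, 15, 49, 49), (0, 58, 1, 0), (0, 58, 1, 0), (0, 58, 1, 0)],
      [(9, 15, 49, 49), (0, 58, 1, 0), (9, 15, 49, 49), (0, 58, 1, 0), (9, 15, 49, 49), (9, 15, 49, 49), (0, 58, 1, 0), (9, 15, 49, 49), (0, 58, 1, 0), (0, 58, 1, 0), (0, 58, 1, 0)],
      [(0, 58, 1, 0), (9, 15, 49, 49), (0, 58, 1, 0), (9, 15, 49, 49), (9, 15, 49, 49), (0, 58, 1, 0), (9, 15, 49, 49), (0, 58, 1, 0), (9, 15, 49, 49), (0, 58, 1, 0), (0, 58, 1, 0)],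
      [(9, 15, 49, 49), (9, 15, 49, 49), (0, 58, 1, 0), (9, 15, 49, 49), (9, 15, 49, 49), (0, 58, 1, 0), (9, 15, 49, 49), (0, 58, 1, 0), (9, 15, 49, 49), (0, 58, 1, 0), (0, 58, 1, 0)],
      [(9, 15, 49, 49), (9, 15, 49, 49), (0, 58, 1, 0), (9, 15, 49, 49), (0, 58, 1, 0), (9, 15, 49, 49), (9, 15, 49, 49), (0, 58, 1, 0), (9, 15, 49, 49), (0, 58, 1, 0), (0, 58, 1, 0)],
      [(9, 15, 49, 49), (0, 58, 1, 0), (9, 15, 49, 49), (9, 15, 49, 49), (0, 58, 1, 0), (9, 15, 49, 49), (0, 58, 1, 0), (9, 15, 49, 49), (9, 15, 49, 49), (0, 58, 1, 0), (0, 58, 1, 0)],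
      [(0, 58, 1, 0), (9, 15, 49, 49), (9, 15, 49, 49), (0, 58, 1, 0), (9, 15, 49, 49), (0, 58, 1, 0), (9, 15, 49, 49), (9, 15, 49, 49), (0, 58, 1, 0), (9, 15, 49, 49), (0, 58, 1, 0)],
      [(0, 58, 1, 0), (9, 15, 49, 49), (0, 58, 1, 0), (9, 15, 49, 49), (9, 15, 49, 49), (0, 58, 1, 0), (9, 15, 49, 49), (0, 58, 1, 0), (9, 15, 49, 49), (9, 15, 49, 49), (0, 58, 1, 0)],
      [(9, 15, 49, 49), (9, 15, 49, 49), (0, 58, 1, 0), (9, 15, 49, 49), (0, 58, 1, 0), (9, 15, 49, 49), (9, 15, 49, 49), (0, 58, 1, 0), (9, 15, 49, 49), (0, 58, 1, 0), (9, 15, 49, 49)],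
      [(9, 15, 49, 49), (0, 58, 1, 0), (9, 15, 49, 49), (9, 15, 49, 49), (0, 58, 1, 0), (9, 15, 49, 49), (0, 58, 1, 0), (9, 15, 49, 49), (9, 15, 49, 49), (0, 58, 1, 0), (9, 15, 49, 49)],
      [(9, 15, 49, 49), (0, 58, 1, 0), (9, 15, 49, 49), (0, 58, 1, 0), (9, 15, 49, 49), (9, 15, 49, 49), (0, 58, 1, 0), (9, 15, 49, 49), (0, 58, 1, 0), (9, 15, 49, 49), (9, 15, 49, 49)],
      [(0, 58, 1, 0), (9, 15, 49, 49), (0, 58, 1, 0), (9, 15, 49, 49), (9, 15, 49, 49), (0, 58, 1, 0), (9, 15, 49, 49), (0, 58, 1, 0), (9, 15, 49, 49), (0, 58, 1, 0), (0, 58, 1, 0), (0, 58, 1, 0)],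
      [(9, 15, 49, 49), (9, 15, 49, 49), (0, 58, 1, 0), (9, 15, 49, 49), (9, 15, 49, 49), (0, 58, 1, 0), (9, 15, 49, 49), (0, 58, 1, 0), (9, 15, 49, 49), (0, 58, 1, 0), (0, 58, 1, 0), (0, 58, 1, 0)],
      [(9, 15, 49, 49), (9, 15, 49, 49), (0, 58, 1, 0), (9, 15, 49, 49), (0, 58, 1, 0), (9, 15, 49, 49), (9, 15, 49, 49), (0, 58, 1, 0), (9, 15, 49, 49), (0, 58, 1, 0), (0, 58, 1, 0), (0, 58, 1, 0)],
      [(0, 58, 1, 0), (9, 15, 49, 49), (0, 58, 1, 0), (9, 15, 49, 49), (9, 15, 49, 49), (0, 58, 1, 0), (9, 15, 49, 49), (0, 58, 1, 0), (9, 15, 49, 49), (9, 15, 49, 49), (0, 58, 1, 0), (0, 58, 1, 0)],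
      [(9, 15, 49, 49), (0, 58, 1, 0), (9, 15, 49, 49), (9, 15, 49, 49), (0, 58, 1, 0), (9, 15, 49, 49), (0, 58, 1, 0), (9, 15, 49, 49), (9, 15, 49, 49), (0, 58, 1, 0), (9, 15, 49, 49), (0, 58, 1, 0)],
      [(9, 15, 49, 49), (0, 58, 1, 0), (9, 15, 49, 49), (0, 58, 1, 0), (9, 15, 49, 49), (9, 15, 49, 49), (0, 58, 1, 0), (9, 15, 49, 49), (0, 58, 1, 0), (9, 15, 49, 49), (9, 15, 49, 49), (0, 58, 1, 0)],
      [(0, 58, 1, 0), (9, 15, 49, 49), (9, 15, 49, 49), (0, 58, 1, 0), (9, 15, 49, 49), (0, 58, 1, 0), (9, 15, 49, 49), (9, 15, 49, 49), (0, 58, 1, 0), (9, 15, 49, 49), (0, 58, 1, 0), (9, 15, 49, 49)],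
      [(0, 58, 1, 0), (9, 15, 49, 49), (0, 58, 1, 0), (9, 15, 49, 49), (9, 15, 49, 49), (0, 58, 1, 0), (9, 15, 49, 49), (0, 58, 1, 0), (9, 15, 49, 49), (9, 15, 49, 49), (0, 58, 1, 0), (9, 15, 49, 49)],
      [(9, 15, 49, 49), (9, 15, 49, 49), (0, 58, 1, 0), (9, 15, 49, 49), (0, 58, 1, 0), (9, 15, 49, 49), (9, 15, 49, 49), (0, 58, 1, 0), (9, 15, 49, 49), (0, 58, 1, 0), (9, 15, 49, 49), (9, 15, 49, 49)]]
    (by rw [CfsgLib.Perm.Groups.quadOf, hA]; simp [CfsgLib.Perm.Groups.quadCast] <;> decide +revert)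
    (by rw [CfsgLib.Perm.Groups.quadOf, hB]; simp [CfsgLib.Perm.Groups.quadCast] <;> decide +revert)
    hC' hord (by decide +kernel) (by decide +kernel) (by decide +kernel) (by decide +kernel) (by decide +kernel)
    (by decide +kernel) (by decide +kernel) (by decide +kernel) (by decide +kernel) (by decide +kernel)

end Cfsg.Agent.S0693
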