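import Cfsg.Statements.S0694
import Mathlib

set_option autoImplicit false
open Cfsg

namespace Cfsg.Agent.S0694

/-- The Dickson pair condition: for a prime power `q` and `n > 1`, (every prime factor of `n` divides `q - 1`, and `4 ∣ n → 4 ∣ q - 1`) holds exactly when `q ^ n ≡ 1` modulo `n * (q - 1)` but `q ^ i` is not, for `0 < i < n`. -/
theorem result (q n : ℕ) (hq : IsPrimePow q) (hn : 1 < n) : ((∀ r : ℕ, r.Prime → r ∣ n → r ∣ q - 1) ∧ (4 ∣ n → 4 ∣ q - 1)) ↔ (q ^ n ≡ 1 [MOD n * (q - 1)] ∧ ∀ i : ℕ, 0 < i → i < n → ¬ q ^ i ≡ 1 [MOD n * (q - 1)]) := by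
  have hq2 : 2 ≤ q := hq.one_lt
  obtain ⟨t, rfl⟩ : ∃ t, q = t + 1 := ⟨q - 1, by omega⟩
  simp only [Nat.add_sub_cancel]
  have ht : 0 < t := by omega
  have hS : ∀ i, (t + 1) ^ i ≡ 1 [MOD n * t] ↔ n ∣ ∑ k ∈ Finset.range i, (t + 1) ^ k := by
    intro i
    rw [Nat.ModEq.comm, Nat.modEq_iff_dvd' (Nat.one_le_pow _ _ (by omega)), ← geom_sum_mul_add t i,
      Nat.add_sub_cancel, Nat.mul_dvd_mul_iff_right ht]
  have hsplit : ∀ i j, ∑ k ∈ Finset.range (i + j), (t + 1) ^ k =
      (∑ k ∈ Finset.range i, (t + 1) ^ k) + (t + 1) ^ i * ∑ k ∈ Finset.range j, (t + 1) ^ k := by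
    intro i j
    rw [Finset.sum_range_add, Finset.mul_sum]
    simp [pow_add]
  simp only [hS]
  constructor
  · rintro ⟨hr, h4⟩
    have key : ∀ (r : ℕ), r.Prime → ∀ (e : ℕ), ∀ (q' i : ℕ), r ∣ q' → (2 ≤ e → r = 2 → 4 ∣ q') →
        (r ^ e ∣ ∑ k ∈ Finset.range i, (q' + 1) ^ k ↔ r ^ e ∣ i) := by
      intro r hrp e
      induction e with
      | zero => simp
      | succ e ih =>
        intro q' i hrq h2
        haveI := Fact.mk hrp
        have hmod : ∀ j, ((∑ k ∈ Finset.range j, (q' + 1) ^ k : ℕ) : ZMod r) = (j : ZMod r) := by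
          intro j
          push_cast
          rw [(ZMod.natCast_eq_zero_iff q' r).2 hrq]
          simp
        have hiff : r ∣ ∑ k ∈ Finset.range i, (q' + 1) ^ k ↔ r ∣ i := by
          rw [← ZMod.natCast_eq_zero_iff, ← ZMod.natCast_eq_zero_iff, hmod]
        rcases Nat.eq_zero_or_pos e with rfl | he
        · simpa using hiff
        by_cases hri : r ∣ i
        · obtain ⟨j, rfl⟩ := hri
          obtain ⟨Q, hQ⟩ : ∃ Q, Q + 1 = (q' + 1) ^ r :=
            ⟨(q' + 1) ^ r - 1, Nat.sub_add_cancel (Nat.one_le_pow _ _ (by omega))⟩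
          have hprod : ∑ k ∈ Finset.range (r * j), (q' + 1) ^ k =
              (∑ k ∈ Finset.range r, (q' + 1) ^ k) * ∑ k ∈ Finset.range j, (Q + 1) ^ k := by
            rw [hQ]
            clear hiff
            induction j with
            | zero => simp
            | succ j ihj =>
              rw [Nat.mul_succ, Finset.sum_range_add, Finset.sum_range_succ _ j, mul_add, ihj]
              congr 1
              rw [Finset.sum_mul]
              exact Finset.sum_congr rfl fun k _ => by ring
          -- the first factor is exactly divisible by `r`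
          have hfac : ((∑ k ∈ Finset.range r, (q' + 1) ^ k : ℕ) : ZMod (r ^ 2)) = r := by
            obtain ⟨s, rfl⟩ := hrq
            push_cast
            have hx2 : ((r : ZMod (r ^ 2)) * s) ^ 2 = 0 := by
              have h0 : ((r ^ 2 : ℕ) : ZMod (r ^ 2)) = 0 := ZMod.natCast_self _
              rw [mul_pow, ← Nat.cast_pow, h0, zero_mul]
            have hpow : ∀ k : ℕ, ((r : ZMod (r ^ 2)) * s + 1) ^ k = 1 + k * (r * s) := by
              intro k
              induction k with
              | zero => simp
              | succ k ihk =>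
                rw [pow_succ _ k, ihk]
                push_cast
                linear_combination (k : ZMod (r ^ 2)) * hx2
            rw [Finset.sum_congr rfl fun k _ => hpow k, Finset.sum_add_distrib, ← Finset.sum_mul]
            simp only [Finset.sum_const, Finset.card_range, nsmul_eq_mul, mul_one]
            rw [← Nat.cast_sum, add_eq_left, ← Nat.cast_mul, ← Nat.cast_mul, ZMod.natCast_eq_zero_iff,
              pow_two]
            rcases hrp.eq_two_or_odd with h | h
            · subst h
              obtain ⟨s', hs'⟩ := h2 (by omega) rfl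
              simp [Finset.sum_range_succ]
              omega
            · obtain ⟨m, hm⟩ : ∃ m, r = 2 * m + 1 := ⟨r / 2, by omega⟩
              have hsum : ∑ k ∈ Finset.range r, k = r * m := by
                have := Finset.sum_range_id_mul_two r
                rw [hm] at this ⊢
                simp only [Nat.add_sub_cancel] at this
                linarith
              rw [hsum]
              exact ⟨m * s, by ring⟩
          obtain ⟨c, hc⟩ : r ∣ ∑ k ∈ Finset.range r, (q' + 1) ^ k := by
            rw [← ZMod.natCast_eq_zero_iff, hmod, ZMod.natCast_self]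
          have hcr : ¬ r ∣ c := by
            intro hcd
            have h0 : ((∑ k ∈ Finset.range r, (q' + 1) ^ k : ℕ) : ZMod (r ^ 2)) = 0 := by
              rw [ZMod.natCast_eq_zero_iff, hc, pow_two]
              exact Nat.mul_dvd_mul_left r hcd
            rw [hfac, ZMod.natCast_eq_zero_iff] at h0
            have := Nat.le_of_dvd hrp.pos h0
            have := hrp.two_le
            nlinarith
          rw [hprod, hc, pow_succ', mul_assoc, Nat.mul_dvd_mul_iff_left hrp.pos,
            Nat.mul_dvd_mul_iff_left hrp.pos,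
            (Nat.Coprime.dvd_mul_left (Nat.Coprime.pow_left e (hrp.coprime_iff_not_dvd.2 hcr)))]
          refine ih Q j ?_ ?_
          · rw [← ZMod.natCast_eq_zero_iff]
            have h := congrArg (Nat.cast (R := ZMod r)) hQ
            push_cast at h
            rw [(ZMod.natCast_eq_zero_iff q' r).2 hrq, zero_add, one_pow, add_eq_right] at h
            exact h
          · intro _ hr2
            subst hr2
            obtain ⟨s, rfl⟩ := h2 (by omega) rfl
            exact ⟨s * (4 * s + 2), by nlinarith [hQ]⟩
        · exact iff_of_false (fun h => hri (hiff.1 ((dvd_pow_self r (Nat.succ_ne_zero e)).trans h)))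
            (fun h => hri ((dvd_pow_self r (Nat.succ_ne_zero e)).trans h))
    have hdiv : ∀ i, (n ∣ ∑ k ∈ Finset.range i, (t + 1) ^ k ↔ n ∣ i) := by
      intro i
      have h2 : ∀ r e, r.Prime → r ^ e ∣ n → (2 ≤ e → r = 2 → 4 ∣ t) := by
        rintro r e - hd he rfl
        exact h4 ((pow_dvd_pow 2 he).trans hd)
      rw [Nat.dvd_iff_prime_pow_dvd_dvd, Nat.dvd_iff_prime_pow_dvd_dvd i n]
      refine forall_congr' fun r => forall_congr' fun e => forall_congr' fun hrp => imp_congr_right fun hd => ?_
      rcases Nat.eq_zero_or_pos e with rfl | he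
      · simp
      · exact key r hrp e t i (hr r hrp ((dvd_pow_self r he.ne').trans hd)) (h2 r e hrp hd)
    refine ⟨(hdiv n).2 dvd_rfl, fun i hi hin h => ?_⟩
    have := Nat.le_of_dvd hi ((hdiv i).1 h)
    omega
  · rintro ⟨hn', hmin⟩
    haveI : NeZero n := ⟨by omega⟩
    have hcop : (t + 1).Coprime n := by
      rw [Nat.coprime_iff_gcd_eq_one]
      by_contra hne
      obtain ⟨r, hr, hd⟩ := Nat.exists_prime_and_dvd hne
      have h1 : r ∣ (t + 1) ^ n - 1 := by
        rw [← geom_sum_mul_add t n, Nat.add_sub_cancel]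
        exact Dvd.dvd.mul_right ((hd.trans (Nat.gcd_dvd_right _ _)).trans hn') t
      have h2 : r ∣ (t + 1) ^ n := dvd_pow (hd.trans (Nat.gcd_dvd_left _ _)) (by omega)
      have h3 := Nat.dvd_sub h2 h1
      rw [Nat.sub_sub_self (Nat.one_le_pow _ _ (by omega))] at h3
      exact hr.one_lt.ne' (Nat.dvd_one.1 h3)
    have hbij : Function.Bijective (fun i : Fin n => ((∑ k ∈ Finset.range i.val, (t + 1) ^ k : ℕ) : ZMod n)) := by
      apply Function.Injective.bijective_of_nat_card_le
      · intro i j h
        by_contra hne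
        wlog hij : i.val < j.val generalizing i j
        · exact this h.symm (Ne.symm hne) (by have := Fin.val_ne_of_ne hne; omega)
        obtain ⟨d, hd⟩ : ∃ d, j.val = i.val + d := ⟨j.val - i.val, by omega⟩
        simp only at h
        rw [hd, hsplit, Nat.cast_add, left_eq_add, ZMod.natCast_eq_zero_iff,
          (Nat.Coprime.dvd_mul_left (Nat.Coprime.pow_right _ hcop.symm))] at h
        exact hmin d (by omega) (by omega) h
      · simp
    have hred : ∀ m, m ∣ n → ∀ x : ℕ, ∃ i, ((∑ k ∈ Finset.range i, (t + 1) ^ k : ℕ) : ZMod m) = x := by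
      intro m hm x
      obtain ⟨i, hi⟩ := hbij.2 (x : ZMod n)
      refine ⟨i.val, ?_⟩
      have := congrArg (ZMod.castHom hm (ZMod m)) hi
      rw [map_natCast, map_natCast] at this
      exact this
    constructor
    · intro r hr hrn
      haveI := Fact.mk hr
      by_contra hrt
      have ht0 : (t : ZMod r) ≠ 0 := fun h => hrt ((ZMod.natCast_eq_zero_iff t r).1 h)
      obtain ⟨i, hi⟩ := hred r hrn (-(t : ZMod r)⁻¹).val
      rw [ZMod.natCast_zmod_val] at hi
      have h1 := congrArg (Nat.cast (R := ZMod r)) (geom_sum_mul_add t i)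
      rw [Nat.cast_add, Nat.cast_mul, hi, neg_mul, inv_mul_cancel₀ ht0, Nat.cast_one, neg_add_cancel,
        eq_comm, ZMod.natCast_eq_zero_iff] at h1
      have := Nat.eq_one_of_dvd_coprimes hcop (hr.dvd_of_dvd_pow h1) hrn
      exact hr.one_lt.ne' this
    · intro h4n
      by_contra h4
      have hodd : (t + 1) % 2 = 1 := by
        by_contra h
        have h2 : 2 ∣ t + 1 := by omega
        have := Nat.eq_one_of_dvd_coprimes hcop h2 (dvd_trans (by norm_num) h4n)
        omega
      have ht4 : ((t + 1 : ℕ) : ZMod 4) = -1 := by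
        have h2 : ((t + 1 + 1 : ℕ) : ZMod 4) = 0 := (ZMod.natCast_eq_zero_iff _ _).2 (by omega)
        rw [Nat.cast_add, Nat.cast_one] at h2
        linear_combination h2
      obtain ⟨i, hi⟩ := hred 4 h4n 2
      have hval : ∀ j, ((∑ k ∈ Finset.range j, (t + 1) ^ k : ℕ) : ZMod 4) = if Even j then 0 else 1 := by
        intro j
        induction j with
        | zero => simp
        | succ j ihj =>
          rw [Finset.sum_range_succ, Nat.cast_add, ihj, Nat.cast_pow, ht4]
          rcases Nat.even_or_odd j with h | h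
          · simp [h, h.neg_one_pow, Nat.even_add_one]
          · simp [Nat.not_even_iff_odd.2 h, h.neg_one_pow, Nat.even_add_one]
      rw [hval] at hi
      split_ifs at hi <;> exact absurd hi (by decide)

end Cfsg.Agent.S0694
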