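import Cfsg.Statements.S0695
import Cfsg.Agent.Lib.Perm.Groups.RegularNormal
import Cfsg.Agent.Lib.Perm.Groups.JordanNormal

set_option autoImplicit false
open Cfsg

namespace Cfsg.Agent.S0695

/-- A regular normal subgroup of a doubly primitive group of finite degree at least 2 is an elementary abelian 2-group (and the degree is a power of 2), unless the degree is 3. -/
theorem result {G : Type*} [Group G] {X : Type*} [Fintype X] [MulAction G X] (hX : 2 ≤ Fintype.card X) (h2 : MulAction.IsMultiplyPreprimitive G X 2) (N : Subgroup G) [N.Normal] (htrans : MulAction.IsPretransitive N X) (hreg : ∀ x : X, MulAction.stabilizer N x = ⊥) : Fintype.card X = 3 ∨ (IsMulCommutative N ∧ (∀ n ∈ N, n ^ 2 = 1) ∧ ∃ m : ℕ, Fintype.card X = 2 ^ m) := by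
  classical
  haveI := htrans
  haveI := h2
  haveI : MulAction.IsMultiplyPreprimitive G X (Nat.succ 1) := h2
  obtain ⟨p, hp, hall, hpg, hcard⟩ := CfsgLib.Perm.Groups.regular_prime_order h2.isMultiplyPretransitive htrans hreg
    (by rwa [Nat.card_eq_fintype_card])
  rw [Nat.card_eq_fintype_card (α := X)] at hcard
  by_cases hp2 : p = 2
  · subst hp2
    have hsq : ∀ n : N, n ^ 2 = 1 := fun n => by
      by_cases hn : n = 1
      · rw [hn, one_pow]
      · rw [← hall n hn, pow_orderOf_eq_one]
    refine Or.inr ⟨⟨⟨fun x y => ?_⟩⟩, fun n hn => congrArg Subtype.val (hsq ⟨n, hn⟩), ?_⟩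
    · have hinv : ∀ m : N, m⁻¹ = m := fun m => inv_eq_of_mul_eq_one_left (by rw [← pow_two, hsq])
      calc x * y = (x * y)⁻¹ := (hinv _).symm
        _ = y * x := by rw [mul_inv_rev, hinv, hinv]
    · obtain ⟨a⟩ : Nonempty X := Fintype.card_pos_iff.1 (by omega)
      haveI : Finite N := Finite.of_injective (fun n : N => (n : G) • a) fun n m h =>
        CfsgLib.Perm.Groups.regular_smul_inj hreg h
      haveI := Fact.mk hp
      obtain ⟨m, hm⟩ := IsPGroup.iff_card.1 hpg
      exact ⟨m, hcard ▸ hm⟩
  · left
    obtain ⟨a⟩ : Nonempty X := Fintype.card_pos_iff.1 (by omega)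
    haveI : MulAction.IsPretransitive G X := by
      haveI := h2.isMultiplyPretransitive
      exact MulAction.isPretransitive_of_is_two_pretransitive
    haveI : MulAction.IsPreprimitive (MulAction.stabilizer G a) (SubMulAction.ofStabilizer G a) :=
      (MulAction.is_one_preprimitive_iff _ _).1 (MulAction.isMultiplyPreprimitive_ofStabilizer (M := G) (α := X) (n := 1) (a := a))
    have hbij : Function.Bijective (fun n : N => (n : G) • a) :=
      ⟨fun n m h => CfsgLib.Perm.Groups.regular_smul_inj hreg h, fun x => htrans.exists_smul_eq a x⟩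
    let e : N ≃ X := Equiv.ofBijective _ hbij
    have he1 : e 1 = a := by simp [e]
    have hmap : ∀ x : X, x ≠ a → e (e.symm x)⁻¹ ≠ a := fun x hx h => hx (by
      rw [← he1] at h
      have h1 : e.symm x = 1 := inv_eq_one.1 (e.injective h)
      rw [← e.apply_symm_apply x, h1, he1])
    have hmem : ∀ x : X, x ∈ SubMulAction.ofStabilizer G a ↔ x ≠ a := fun x => SubMulAction.mem_ofStabilizer_iff G a
    let f : SubMulAction.ofStabilizer G a → SubMulAction.ofStabilizer G a := fun x =>
      ⟨e (e.symm x.1)⁻¹, (hmem _).2 (hmap _ ((hmem _).1 x.2))⟩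
    obtain ⟨b, hb⟩ := Fintype.exists_ne_of_one_lt_card (by omega) a
    have hfx : f ⟨b, (hmem b).2 hb⟩ ≠ ⟨b, (hmem b).2 hb⟩ := fun h => by
      have h1 : (e.symm b)⁻¹ = e.symm b := by
        apply e.injective
        rw [e.apply_symm_apply]
        exact congrArg Subtype.val h
      have h2' : e.symm b ≠ 1 := fun h' => hb (by rw [← e.apply_symm_apply b, h', he1])
      have h3 : e.symm b ^ 2 = 1 := by rw [pow_two]; exact inv_eq_iff_mul_eq_one.1 h1
      have := orderOf_dvd_of_pow_eq_one h3
      rw [hall _ h2'] at this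
      exact hp2 ((Nat.prime_dvd_prime_iff_eq hp Nat.prime_two).1 this)
    have hall2 := CfsgLib.Perm.Groups.eq_or_eq_of_commuting_invol (M := MulAction.stabilizer G a) (f := f)
      (fun x => Subtype.ext (by simp [f])) (fun g x => Subtype.ext (by
        show (g : G) • e (e.symm x.1)⁻¹ = e (e.symm ((g : G) • x.1))⁻¹
        obtain ⟨n, hn⟩ := e.surjective x.1
        rw [← hn, Equiv.symm_apply_apply]
        let m : N := ⟨g * n * (g : G)⁻¹, Subgroup.Normal.conj_mem inferInstance _ n.2 g⟩
        have h1 : (g : G) • e n = e m := CfsgLib.Perm.Groups.stab_smul_conj g.2 (n : G)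
        rw [h1, Equiv.symm_apply_apply]
        refine (CfsgLib.Perm.Groups.stab_smul_conj g.2 ((n⁻¹ : N) : G)).trans ?_
        show _ = ((m⁻¹ : N) : G) • a
        congr 1
        simp [m, mul_assoc])) (x := ⟨b, (hmem b).2 hb⟩) hfx
    have huniv : (Finset.univ : Finset X) = {a, b, (f ⟨b, (hmem b).2 hb⟩ : X)} := by
      ext y
      simp only [Finset.mem_univ, Finset.mem_insert, Finset.mem_singleton, true_iff]
      by_cases hy : y = a
      · exact Or.inl hy
      · right
        rcases hall2 ⟨y, (hmem y).2 hy⟩ with h | h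
        · exact Or.inl (congrArg Subtype.val h)
        · exact Or.inr (congrArg Subtype.val h)
    rw [← Finset.card_univ, huniv, Finset.card_eq_three]
    exact ⟨a, b, _, hb.symm, fun h => (hmem _).1 (f ⟨b, (hmem b).2 hb⟩).2 h.symm,
      fun h => hfx (Subtype.ext h.symm), rfl⟩

end Cfsg.Agent.S0695
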