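import Cfsg.Statements.S0696
import Cfsg.Agent.Lib.Perm.Groups.RegularNormal
import Cfsg.Agent.Lib.Perm.Groups.JordanNormal

set_option autoImplicit false
open Cfsg

namespace Cfsg.Agent.S0696

/-- A triply primitive group of degree at least 3 having a regular normal subgroup has degree 3 or 4. -/
theorem result {G : Type*} [Group G] {X : Type*} [Fintype X] [MulAction G X] (hX : 3 ≤ Fintype.card X) (h3 : MulAction.IsMultiplyPreprimitive G X 3) (N : Subgroup G) [N.Normal] (htrans : MulAction.IsPretransitive N X) (hreg : ∀ x : X, MulAction.stabilizer N x = ⊥) : Fintype.card X = 3 ∨ Fintype.card X = 4 := by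
  classical
  haveI := htrans
  by_contra hcon
  push_neg at hcon
  have hn : 5 ≤ Fintype.card X := by omega
  have hsq := CfsgLib.Perm.Groups.regular_sq_eq_one h3.isMultiplyPretransitive htrans hreg (by omega)
  obtain ⟨a⟩ : Nonempty X := Fintype.card_pos_iff.1 (by omega)
  obtain ⟨b, hb⟩ := Fintype.exists_ne_of_one_lt_card (by omega) a
  haveI : MulAction.IsPreprimitive (fixingSubgroup G ({a, b} : Set X))
      (SubMulAction.ofFixingSubgroup G ({a, b} : Set X)) :=
    h3.isPreprimitive_ofFixingSubgroup (by rw [Set.encard_pair hb.symm]; norm_num)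
  obtain ⟨u, hu⟩ := htrans.exists_smul_eq a b
  change (u : G) • a = b at hu
  have hbij : Function.Bijective (fun n : N => (n : G) • a) :=
    ⟨fun n m h => CfsgLib.Perm.Groups.regular_smul_inj hreg h, fun x => htrans.exists_smul_eq a x⟩
  let e : N ≃ X := Equiv.ofBijective _ hbij
  have he : ∀ n : N, e n = (n : G) • a := fun n => rfl
  have hu2 : u * u = 1 := by rw [← pow_two, hsq]
  have hmem : ∀ x : X, x ∈ SubMulAction.ofFixingSubgroup G ({a, b} : Set X) ↔ x ≠ a ∧ x ≠ b := fun x => by
    rw [SubMulAction.mem_ofFixingSubgroup_iff]; simp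
  have he1 : e 1 = a := by simp [he]
  have hmap : ∀ x : X, x ≠ a ∧ x ≠ b → e (u * e.symm x) ≠ a ∧ e (u * e.symm x) ≠ b := by
    intro x hx
    constructor
    · intro h
      rw [← he1] at h
      apply hx.2
      rw [← e.apply_symm_apply x, eq_inv_of_mul_eq_one_right (e.injective h),
        inv_eq_of_mul_eq_one_left hu2, he, hu]
    · intro h
      rw [← hu, ← he u] at h
      apply hx.1
      rw [← e.apply_symm_apply x, mul_eq_left.1 (e.injective h), he1]
  let f : SubMulAction.ofFixingSubgroup G ({a, b} : Set X) → SubMulAction.ofFixingSubgroup G ({a, b} : Set X) :=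
    fun x => ⟨e (u * e.symm x.1), (hmem _).2 (hmap _ ((hmem _).1 x.2))⟩
  obtain ⟨c, hc⟩ : ∃ c, c ∉ ({a, b} : Finset X) := by
    by_contra h
    push_neg at h
    have := Finset.card_le_card (show Finset.univ ⊆ _ from fun x _ => h x)
    have := Finset.card_le_two (a := a) (b := b)
    rw [Finset.card_univ] at *
    omega
  simp only [Finset.mem_insert, Finset.mem_singleton, not_or] at hc
  have hu1 : u ≠ 1 := by rintro rfl; exact hb (by simpa using hu.symm)
  have hfx : f ⟨c, (hmem c).2 hc⟩ ≠ ⟨c, (hmem c).2 hc⟩ := fun h => by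
    have h1 : e (u * e.symm c) = e (e.symm c) := by rw [e.apply_symm_apply]; exact congrArg Subtype.val h
    exact hu1 (mul_eq_right.1 (e.injective h1))
  have hall := CfsgLib.Perm.Groups.eq_or_eq_of_commuting_invol (M := fixingSubgroup G ({a, b} : Set X)) (f := f)
    (fun x => Subtype.ext (by
      show e (u * e.symm (e (u * e.symm x.1))) = x.1
      rw [Equiv.symm_apply_apply, ← mul_assoc, hu2, one_mul, e.apply_symm_apply]))
    (fun g x => Subtype.ext (by
      have ga : (g : G) • a = a := (mem_fixingSubgroup_iff G).1 g.2 a (by simp)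
      have gb : (g : G) • b = b := (mem_fixingSubgroup_iff G).1 g.2 b (by simp)
      show (g : G) • e (u * e.symm x.1) = e (u * e.symm ((g : G) • x.1))
      obtain ⟨n, hn⟩ := e.surjective x.1
      rw [← hn, Equiv.symm_apply_apply]
      let m : N := ⟨g * n * (g : G)⁻¹, Subgroup.Normal.conj_mem inferInstance _ n.2 g⟩
      have h1 : (g : G) • e n = e m := CfsgLib.Perm.Groups.stab_smul_conj ga (n : G)
      have h2 : (g : G) * u * (g : G)⁻¹ = u := CfsgLib.Perm.Groups.regular_fix_iff hreg ga (m := u) (by rw [hu, gb])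
      rw [h1, Equiv.symm_apply_apply]
      refine (CfsgLib.Perm.Groups.stab_smul_conj ga ((u * n : N) : G)).trans ?_
      show _ = ((u * m : N) : G) • a
      congr 1
      simp only [Subgroup.coe_mul, m]
      conv_rhs => rw [← h2]
      group)) (x := ⟨c, (hmem c).2 hc⟩) hfx
  obtain ⟨z, hz⟩ : ∃ z, z ∉ ({a, b, c, (f ⟨c, (hmem c).2 hc⟩ : X)} : Finset X) := by
    by_contra h
    push_neg at h
    have := Finset.card_le_card (show Finset.univ ⊆ _ from fun x _ => h x)
    have := Finset.card_le_four (a := a) (b := b) (c := c) (d := (f ⟨c, (hmem c).2 hc⟩ : X))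
    rw [Finset.card_univ] at *
    omega
  simp only [Finset.mem_insert, Finset.mem_singleton, not_or] at hz
  rcases hall ⟨z, (hmem z).2 ⟨hz.1, hz.2.1⟩⟩ with h | h
  · exact hz.2.2.1 (congrArg Subtype.val h)
  · exact hz.2.2.2 (congrArg Subtype.val h)

end Cfsg.Agent.S0696
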