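import Cfsg.Statements.S0701
-- import your own Cfsg.Agent.* helpers here

set_option autoImplicit false
open Cfsg

namespace Cfsg.Agent.S0701

/-- The centraliser in the full symmetric group of a transitive permutation group `G` is semiregular, and it is transitive if and only if `G` is regular. -/
theorem result {α : Type*} (G : Subgroup (Equiv.Perm α)) [MulAction.IsPretransitive G α] : (∀ c ∈ Subgroup.centralizer (G : Set (Equiv.Perm α)), ∀ a : α, c a = a → c = 1) ∧ (MulAction.IsPretransitive (Subgroup.centralizer (G : Set (Equiv.Perm α))) α ↔ ∀ a : α, MulAction.stabilizer G a = ⊥) := by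
  have comm : ∀ c ∈ Subgroup.centralizer (G : Set (Equiv.Perm α)), ∀ (g : G) (x : α),
      c ((g : Equiv.Perm α) x) = (g : Equiv.Perm α) (c x) := fun c hc g x =>
    (DFunLike.congr_fun (Subgroup.mem_centralizer_iff.1 hc g g.2) x).symm
  refine ⟨fun c hc a ha => ?_, fun ht a => ?_, fun hreg => ⟨fun x y => ?_⟩⟩
  · refine Equiv.ext fun x => ?_
    obtain ⟨g, rfl⟩ := MulAction.exists_smul_eq G a x
    show c ((g : Equiv.Perm α) a) = (g : Equiv.Perm α) a
    rw [comm c hc, ha]
  · rw [eq_bot_iff]
    intro g hg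
    refine Subgroup.mem_bot.2 (Subtype.ext (Equiv.ext fun x => ?_))
    obtain ⟨c, hc⟩ := MulAction.exists_smul_eq (Subgroup.centralizer (G : Set (Equiv.Perm α))) a x
    show (g : Equiv.Perm α) x = x
    rw [← hc]
    show (g : Equiv.Perm α) ((c : Equiv.Perm α) a) = (c : Equiv.Perm α) a
    rw [← comm c c.2]
    exact congrArg _ hg
  · obtain ⟨h, hh⟩ := MulAction.exists_smul_eq G x y
    have hinj : Function.Injective fun g : G => g • x := fun g g' (e : g • x = g' • x) => by
      have h1 : g'⁻¹ * g ∈ MulAction.stabilizer G x := by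
        rw [MulAction.mem_stabilizer_iff, mul_smul, e, inv_smul_smul]
      rw [hreg, Subgroup.mem_bot, inv_mul_eq_one] at h1
      exact h1.symm
    let e : G ≃ α := Equiv.ofBijective _ ⟨hinj, fun z => MulAction.exists_smul_eq G x z⟩
    have he : ∀ g, e g = g • x := fun _ => rfl
    let c : Equiv.Perm α := e.symm.trans ((Equiv.mulRight h).trans e)
    have hc : c ∈ Subgroup.centralizer (G : Set (Equiv.Perm α)) := by
      rw [Subgroup.mem_centralizer_iff]
      intro g hg
      refine Equiv.ext fun z => ?_
      obtain ⟨k, rfl⟩ := e.surjective z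
      have h2 : g (e k) = e (⟨g, hg⟩ * k) := by rw [he, he, mul_smul]; rfl
      show g (c (e k)) = c (g (e k))
      rw [h2]
      show g (e (e.symm (e k) * h)) = e (e.symm (e (⟨g, hg⟩ * k)) * h)
      rw [Equiv.symm_apply_apply, Equiv.symm_apply_apply, mul_assoc]
      rw [he, he, mul_smul (⟨g, hg⟩ : G)]
      rfl
    refine ⟨⟨c, hc⟩, ?_⟩
    show e (e.symm x * h) = y
    rw [show e.symm x = 1 from e.symm_apply_eq.2 (by rw [he, one_smul]), one_mul, he, hh]

end Cfsg.Agent.S0701
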