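import Cfsg.Statements.S0702
import Mathlib

set_option autoImplicit false
open Cfsg

namespace Cfsg.Agent.S0702

/-- For a transitive permutation group `G` on a finite set, the centraliser of `G` in the symmetric group is isomorphic to `N_G(G_ω)/G_ω`, and its orbit of `ω` is the set of fixed points of `G_ω`. -/
theorem result {α : Type*} [Finite α] (G : Subgroup (Equiv.Perm α)) [MulAction.IsPretransitive G α] (a : α) : Nonempty (Subgroup.centralizer (G : Set (Equiv.Perm α)) ≃* Subgroup.normalizer ((MulAction.stabilizer G a : Subgroup G) : Set G) ⧸ (MulAction.stabilizer G a).subgroupOf (Subgroup.normalizer ((MulAction.stabilizer G a : Subgroup G) : Set G))) ∧ MulAction.orbit (Subgroup.centralizer (G : Set (Equiv.Perm α))) a = MulAction.fixedPoints (MulAction.stabilizer G a) α := by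
  classical
  have hq : ∀ x : α, ∃ g : G, g • a = x := MulAction.exists_smul_eq G a
  choose q hq using hq
  -- fixed points of the stabilizer are moved consistently
  have hwd : ∀ b ∈ MulAction.fixedPoints (MulAction.stabilizer G a) α, ∀ g : G, q (g • a) • b = g • b := by
    intro b hb g
    have h1 : (q (g • a))⁻¹ * g ∈ MulAction.stabilizer G a := by
      rw [MulAction.mem_stabilizer_iff, mul_smul, inv_smul_eq_iff, hq]
    have h2 := hb ⟨_, h1⟩
    rw [Subgroup.mk_smul, mul_smul, inv_smul_eq_iff] at h2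
    exact h2.symm
  have hmapN : ∀ n ∈ Subgroup.normalizer ((MulAction.stabilizer G a : Subgroup G) : Set G),
      n • a ∈ MulAction.fixedPoints (MulAction.stabilizer G a) α := by
    intro n hn s
    have h1 : n⁻¹ * (s : G) * n⁻¹⁻¹ ∈ MulAction.stabilizer G a :=
      (Subgroup.mem_normalizer_iff.1 (inv_mem hn) (s : G)).1 s.2
    rw [inv_inv, MulAction.mem_stabilizer_iff, mul_smul, mul_smul, inv_smul_eq_iff] at h1
    exact h1
  let c : Subgroup.normalizer ((MulAction.stabilizer G a : Subgroup G) : Set G) → α → α :=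
    fun n x => q x • ((n : G)⁻¹ • a)
  have hc : ∀ n (g : G), c n (g • a) = g • ((n : G)⁻¹ • a) := fun n g =>
    hwd _ (hmapN _ (inv_mem n.2)) g
  have hc_mul : ∀ m n x, c (m * n) x = c m (c n x) := by
    intro m n x
    obtain ⟨g, rfl⟩ := MulAction.exists_smul_eq G a x
    rw [hc, hc]
    conv_rhs => rw [← mul_smul g ((n : G)⁻¹) a, hc, mul_smul]
    rw [Subgroup.coe_mul, mul_inv_rev, mul_smul]
  have hc_one : ∀ x, c 1 x = x := fun x => by simp [c, hq]
  let toP : Subgroup.normalizer ((MulAction.stabilizer G a : Subgroup G) : Set G) →* Equiv.Perm α :=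
    MonoidHom.mk' (fun n => ⟨c n, c n⁻¹, fun x => by rw [← hc_mul, inv_mul_cancel, hc_one],
      fun x => by rw [← hc_mul, mul_inv_cancel, hc_one]⟩) (fun m n => Equiv.ext fun x => hc_mul m n x)
  have hcent : ∀ n, toP n ∈ Subgroup.centralizer (G : Set (Equiv.Perm α)) := by
    intro n g hg
    refine Equiv.ext fun x => ?_
    obtain ⟨h, rfl⟩ := MulAction.exists_smul_eq G a x
    show g (c n (h • a)) = c n ((⟨g, hg⟩ : G) • h • a)
    rw [← mul_smul, hc, hc, mul_smul]
    rfl
  let φ := toP.codRestrict _ hcent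
  have hfix : ∀ cc ∈ Subgroup.centralizer (G : Set (Equiv.Perm α)),
      cc a ∈ MulAction.fixedPoints (MulAction.stabilizer G a) α := by
    intro cc hcc s
    have h1 : ((s : G) : Equiv.Perm α) * cc = cc * ((s : G) : Equiv.Perm α) := hcc _ (s : G).2
    show ((s : G) : Equiv.Perm α) (cc a) = cc a
    rw [← Equiv.Perm.mul_apply, h1, Equiv.Perm.mul_apply, show ((s : G) : Equiv.Perm α) a = a from s.2]
  have hnorm : ∀ g : G, g • a ∈ MulAction.fixedPoints (MulAction.stabilizer G a) α →
      g ∈ Subgroup.normalizer ((MulAction.stabilizer G a : Subgroup G) : Set G) := by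
    intro g hg
    have heq : MulAction.stabilizer G a = MulAction.stabilizer G (g • a) := by
      refine Subgroup.eq_of_le_of_card_ge (fun s hs => hg ⟨s, hs⟩) (le_of_eq ?_)
      rw [MulAction.stabilizer_smul_eq_stabilizer_map_conj]
      exact (Nat.card_congr (Subgroup.equivMapOfInjective _ _ (MulAut.conj g).injective).toEquiv).symm
    rw [Subgroup.mem_normalizer_iff]
    intro s
    constructor
    · intro hs
      rw [heq, MulAction.stabilizer_smul_eq_stabilizer_map_conj]
      exact ⟨s, hs, rfl⟩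
    · intro hs
      rw [heq, MulAction.stabilizer_smul_eq_stabilizer_map_conj] at hs
      obtain ⟨s', hs', he⟩ := hs
      exact (MulAut.conj g).injective he ▸ hs'
  have hsurj : Function.Surjective φ := by
    intro cc
    obtain ⟨g, hg⟩ := MulAction.exists_smul_eq G a (cc.1 a)
    have hgn := hnorm g (hg.symm ▸ hfix cc.1 cc.2)
    refine ⟨⟨g⁻¹, inv_mem hgn⟩, Subtype.ext (Equiv.ext fun x => ?_)⟩
    obtain ⟨h, rfl⟩ := MulAction.exists_smul_eq G a x
    show c ⟨g⁻¹, inv_mem hgn⟩ (h • a) = cc.1 (h • a)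
    rw [hc, inv_inv, hg]
    exact DFunLike.congr_fun (cc.2 _ h.2) a
  have hker : φ.ker = (MulAction.stabilizer G a).subgroupOf
      (Subgroup.normalizer ((MulAction.stabilizer G a : Subgroup G) : Set G)) := by
    rw [MonoidHom.ker_codRestrict]
    ext n
    rw [MonoidHom.mem_ker, Subgroup.mem_subgroupOf, MulAction.mem_stabilizer_iff]
    constructor
    · intro h
      have h1 : c n ((1 : G) • a) = (1 : G) • a := DFunLike.congr_fun h _
      rw [hc, one_smul, one_smul, inv_smul_eq_iff] at h1
      exact h1.symm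
    · intro h
      refine Equiv.ext fun x => ?_
      obtain ⟨g, rfl⟩ := MulAction.exists_smul_eq G a x
      show c n (g • a) = g • a
      rw [hc, inv_smul_eq_iff.2 h.symm]
  refine ⟨⟨((QuotientGroup.quotientMulEquivOfEq hker).symm.trans
    (QuotientGroup.quotientKerEquivOfSurjective φ hsurj)).symm⟩, ?_⟩
  ext b
  rw [MulAction.mem_orbit_iff]
  constructor
  · rintro ⟨cc, rfl⟩
    exact hfix cc.1 cc.2
  · intro hb
    obtain ⟨g, rfl⟩ := MulAction.exists_smul_eq G a b
    refine ⟨φ ⟨g⁻¹, inv_mem (hnorm g hb)⟩, ?_⟩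
    show c ⟨g⁻¹, inv_mem (hnorm g hb)⟩ a = g • a
    conv_lhs => arg 2; rw [← one_smul G a]
    rw [hc, inv_inv, one_smul]

end Cfsg.Agent.S0702
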