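import Cfsg.Statements.S0703
import Mathlib
-- import your own Cfsg.Agent.* helpers here

set_option autoImplicit false
open Cfsg

namespace Cfsg.Agent.S0703

/-- a group of permutations commuting with a transitive set is semiregular -/
theorem semireg {α : Type*} {G : Subgroup (Equiv.Perm α)} (N : Subgroup G) (hN : MulAction.IsPretransitive N α)
    (c : Equiv.Perm α) (hc : ∀ n ∈ N, (n : Equiv.Perm α) * c = c * n) {a : α} (ha : c a = a) : c = 1 := by
  refine Equiv.ext fun x => ?_
  obtain ⟨⟨n, hn⟩, rfl⟩ := MulAction.exists_smul_eq N a x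
  show c ((n : Equiv.Perm α) a) = (n : Equiv.Perm α) a
  have := DFunLike.congr_fun (hc n hn) a
  rw [Equiv.Perm.mul_apply, Equiv.Perm.mul_apply, ha] at this
  exact this.symm

/-- the centraliser of a transitive group is a transitive subgroup commuting with it -/
theorem centralizer_eq {α : Type*} {G : Subgroup (Equiv.Perm α)} (M N : Subgroup G)
    (hN : MulAction.IsPretransitive N α) (hM : MulAction.IsPretransitive M α)
    (hcomm : ∀ m ∈ M, ∀ n ∈ N, n * m = m * n) :
    Subgroup.centralizer ((N.map G.subtype : Subgroup (Equiv.Perm α)) : Set (Equiv.Perm α)) = M.map G.subtype := by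
  refine le_antisymm (fun c hc => ?_) ?_
  · rcases isEmpty_or_nonempty α with h | ⟨⟨a⟩⟩
    · rw [show c = 1 from Equiv.ext fun x => h.elim x]; exact one_mem _
    obtain ⟨⟨m, hm⟩, hma⟩ := MulAction.exists_smul_eq M a (c a)
    have hma' : (m : Equiv.Perm α) a = c a := hma
    refine ⟨m, hm, ?_⟩
    have hcN : ∀ n ∈ N, (n : Equiv.Perm α) * ((m : Equiv.Perm α)⁻¹ * c) = (m : Equiv.Perm α)⁻¹ * c * n := by
      intro n hn
      have h1 : Commute (n : Equiv.Perm α) c := Subgroup.mem_centralizer_iff.1 hc _ ⟨n, hn, rfl⟩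
      have h2 : Commute (n : Equiv.Perm α) (m : Equiv.Perm α) := by
        have := congrArg Subtype.val (hcomm m hm n hn)
        exact this
      exact (h2.inv_right.mul_right h1).eq
    have := semireg N hN _ hcN (a := a) (by rw [Equiv.Perm.mul_apply, ← hma']; simp)
    rw [inv_mul_eq_one] at this
    exact this
  · rintro _ ⟨m, hm, rfl⟩
    rw [Subgroup.mem_centralizer_iff]
    rintro _ ⟨n, hn, rfl⟩
    exact congrArg Subtype.val (hcomm m hm n hn)

/-- An abelian transitive minimal normal subgroup `M` of a permutation group on a finite set is self-centralising in the symmetric group, regular, elementary abelian, and is the unique minimal normal subgroup. -/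
theorem result {α : Type*} [Finite α] (G : Subgroup (Equiv.Perm α)) (M : Subgroup G) [M.Normal] (hM : M ≠ ⊥) (hmin : ∀ L : Subgroup G, L.Normal → L ≤ M → L = ⊥ ∨ L = M) (hab : IsMulCommutative M) (htrans : MulAction.IsPretransitive M α) : Subgroup.centralizer ((M.map G.subtype : Subgroup (Equiv.Perm α)) : Set (Equiv.Perm α)) = M.map G.subtype ∧ (∀ a : α, MulAction.stabilizer M a = ⊥) ∧ (∃ p : ℕ, p.Prime ∧ ∀ m ∈ M, m ^ p = 1) ∧ ∀ L : Subgroup G, L.Normal → L ≠ ⊥ → (∀ L' : Subgroup G, L'.Normal → L' ≤ L → L' = ⊥ ∨ L' = L) → L = M := by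
  classical
  obtain ⟨hab⟩ := hab
  have hcomm : ∀ m ∈ M, ∀ n ∈ M, n * m = m * n := fun m hm n hn => congrArg Subtype.val (hab.comm ⟨n, hn⟩ ⟨m, hm⟩)
  have hreg : ∀ a : α, MulAction.stabilizer M a = ⊥ := fun a => by
    refine (Subgroup.eq_bot_iff_forall _).2 fun m hm => Subtype.ext (Subtype.ext ?_)
    exact semireg M htrans _ (fun n hn => congrArg Subtype.val (hcomm m.1 m.2 n hn)) (a := a) hm
  haveI : Nontrivial M := (Subgroup.nontrivial_iff_ne_bot M).2 hM
  refine ⟨centralizer_eq M M htrans htrans hcomm, hreg, ?_, fun L hL hLb hLmin => ?_⟩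
  · obtain ⟨p, hp, hpd⟩ := Nat.exists_prime_and_dvd (Finite.one_lt_card (α := M)).ne'
    haveI := Fact.mk hp
    obtain ⟨z, hz⟩ := exists_prime_orderOf_dvd_card' (G := M) p hpd
    refine ⟨p, hp, ?_⟩
    let A : Subgroup G :=
      { carrier := {m | m ∈ M ∧ m ^ p = 1}
        one_mem' := ⟨one_mem _, one_pow _⟩
        mul_mem' := fun {a b} ha hb => ⟨mul_mem ha.1 hb.1, by
          rw [(show Commute a b from hcomm b hb.1 a ha.1).mul_pow, ha.2, hb.2, one_mul]⟩
        inv_mem' := fun {a} ha => ⟨inv_mem ha.1, by rw [inv_pow, ha.2, inv_one]⟩ }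
    have hA : A.Normal := ⟨fun m hm g => ⟨Subgroup.Normal.conj_mem inferInstance m hm.1 g, by
      rw [conj_pow, hm.2, mul_one, mul_inv_cancel]⟩⟩
    rcases hmin A hA (fun m hm => hm.1) with h | h
    · exfalso
      have hzA : (z : G) ∈ A := ⟨z.2, by rw [← SubmonoidClass.coe_pow, ← hz, pow_orderOf_eq_one]; rfl⟩
      rw [h, Subgroup.mem_bot] at hzA
      rw [show z = 1 from Subtype.ext hzA, orderOf_one] at hz
      exact hp.ne_one hz.symm
    · intro m hm
      exact ((h ▸ hm : m ∈ A)).2
  · rcases hLmin (L ⊓ M) inferInstance inf_le_left with h | h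
    · exfalso
      have hle : L ≤ M := by
        intro l hl
        have h1 : (l : Equiv.Perm α) ∈
            Subgroup.centralizer ((M.map G.subtype : Subgroup (Equiv.Perm α)) : Set (Equiv.Perm α)) := by
          rw [Subgroup.mem_centralizer_iff]
          rintro _ ⟨m, hm, rfl⟩
          exact congrArg Subtype.val
            (Subgroup.commute_of_normal_of_disjoint L M hL inferInstance (disjoint_iff.2 h) l m hl hm).symm.eq
        rw [centralizer_eq M M htrans htrans hcomm] at h1
        obtain ⟨m, hm, he⟩ := h1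
        exact (Subtype.ext he : m = l) ▸ hm
      rw [inf_eq_left.2 hle] at h
      exact hLb h
    · exact (hmin L hL (inf_eq_left.1 h)).resolve_left hLb

end Cfsg.Agent.S0703
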