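import Cfsg.Statements.S0704
import Mathlib
-- import your own Cfsg.Agent.* helpers here

set_option autoImplicit false
open Cfsg

namespace Cfsg.Agent.S0704

/-- a group of permutations commuting with a transitive set is semiregular -/
theorem semireg {α : Type*} {G : Subgroup (Equiv.Perm α)} (N : Subgroup G) (hN : MulAction.IsPretransitive N α)
    (c : Equiv.Perm α) (hc : ∀ n ∈ N, (n : Equiv.Perm α) * c = c * n) {a : α} (ha : c a = a) : c = 1 := by
  refine Equiv.ext fun x => ?_
  obtain ⟨⟨n, hn⟩, rfl⟩ := MulAction.exists_smul_eq N a x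
  show c ((n : Equiv.Perm α) a) = (n : Equiv.Perm α) a
  have := DFunLike.congr_fun (hc n hn) a
  rw [Equiv.Perm.mul_apply, Equiv.Perm.mul_apply, ha] at this
  exact this.symm

/-- the centraliser of a transitive group is a transitive subgroup commuting with it -/
theorem centralizer_eq {α : Type*} {G : Subgroup (Equiv.Perm α)} (M N : Subgroup G)
    (hN : MulAction.IsPretransitive N α) (hM : MulAction.IsPretransitive M α)
    (hcomm : ∀ m ∈ M, ∀ n ∈ N, n * m = m * n) :
    Subgroup.centralizer ((N.map G.subtype : Subgroup (Equiv.Perm α)) : Set (Equiv.Perm α)) = M.map G.subtype := by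
  refine le_antisymm (fun c hc => ?_) ?_
  · rcases isEmpty_or_nonempty α with h | ⟨⟨a⟩⟩
    · rw [show c = 1 from Equiv.ext fun x => h.elim x]; exact one_mem _
    obtain ⟨⟨m, hm⟩, hma⟩ := MulAction.exists_smul_eq M a (c a)
    have hma' : (m : Equiv.Perm α) a = c a := hma
    refine ⟨m, hm, ?_⟩
    have hcN : ∀ n ∈ N, (n : Equiv.Perm α) * ((m : Equiv.Perm α)⁻¹ * c) = (m : Equiv.Perm α)⁻¹ * c * n := by
      intro n hn
      have h1 : Commute (n : Equiv.Perm α) c := Subgroup.mem_centralizer_iff.1 hc _ ⟨n, hn, rfl⟩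
      have h2 : Commute (n : Equiv.Perm α) (m : Equiv.Perm α) := by
        have := congrArg Subtype.val (hcomm m hm n hn)
        exact this
      exact (h2.inv_right.mul_right h1).eq
    have := semireg N hN _ hcN (a := a) (by rw [Equiv.Perm.mul_apply, ← hma']; simp)
    rw [inv_mul_eq_one] at this
    exact this
  · rintro _ ⟨m, hm, rfl⟩
    rw [Subgroup.mem_centralizer_iff]
    rintro _ ⟨n, hn, rfl⟩
    exact congrArg Subtype.val (hcomm m hm n hn)

/-- Two distinct transitive minimal normal subgroups `M`, `N` of a permutation group are regular, non-abelian, isomorphic, each other's centraliser in the symmetric group, and the only minimal normal subgroups. -/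
theorem result {α : Type*} (G : Subgroup (Equiv.Perm α)) (M N : Subgroup G) [M.Normal] [N.Normal] (hM : M ≠ ⊥) (hN : N ≠ ⊥) (hMmin : ∀ L : Subgroup G, L.Normal → L ≤ M → L = ⊥ ∨ L = M) (hNmin : ∀ L : Subgroup G, L.Normal → L ≤ N → L = ⊥ ∨ L = N) (hMN : M ≠ N) (hMt : MulAction.IsPretransitive M α) (hNt : MulAction.IsPretransitive N α) : (∀ a : α, MulAction.stabilizer M a = ⊥) ∧ (∀ a : α, MulAction.stabilizer N a = ⊥) ∧ ¬ IsMulCommutative M ∧ Nonempty (M ≃* N) ∧ Subgroup.centralizer ((M.map G.subtype : Subgroup (Equiv.Perm α)) : Set (Equiv.Perm α)) = N.map G.subtype ∧ Subgroup.centralizer ((N.map G.subtype : Subgroup (Equiv.Perm α)) : Set (Equiv.Perm α)) = M.map G.subtype ∧ ∀ L : Subgroup G, L.Normal → L ≠ ⊥ → (∀ L' : Subgroup G, L'.Normal → L' ≤ L → L' = ⊥ ∨ L' = L) → L = M ∨ L = N := by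
  classical
  have hd : M ⊓ N = ⊥ := by
    rcases hMmin (M ⊓ N) inferInstance inf_le_left with h | h
    · exact h
    · exact absurd ((hNmin M inferInstance (inf_eq_left.1 h)).resolve_left hM) hMN
  have hcomm : ∀ m ∈ M, ∀ n ∈ N, n * m = m * n := fun m hm n hn =>
    (Subgroup.commute_of_normal_of_disjoint M N inferInstance inferInstance (disjoint_iff.2 hd) m n hm hn).symm.eq
  have hMreg : ∀ a : α, MulAction.stabilizer M a = ⊥ := fun a => by
    refine (Subgroup.eq_bot_iff_forall _).2 fun m hm => Subtype.ext (Subtype.ext ?_)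
    exact semireg N hNt _ (fun n hn => congrArg Subtype.val (hcomm m.1 m.2 n hn)) (a := a) hm
  have hNreg : ∀ a : α, MulAction.stabilizer N a = ⊥ := fun a => by
    refine (Subgroup.eq_bot_iff_forall _).2 fun n hn => Subtype.ext (Subtype.ext ?_)
    exact semireg M hMt _ (fun m hm => congrArg Subtype.val (hcomm m hm n.1 n.2).symm) (a := a) hn
  have hCN := centralizer_eq M N hNt hMt hcomm
  have hCM := centralizer_eq N M hMt hNt fun n hn m hm => (hcomm m hm n hn).symm
  obtain ⟨a, ha⟩ : ∃ a : α, True := by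
    by_contra h
    refine hM ((Subgroup.eq_bot_iff_forall _).2 fun m _ => Subtype.ext (Equiv.ext fun x => ?_))
    exact absurd ⟨x, trivial⟩ h
  refine ⟨hMreg, hNreg, fun hab => hMN ?_, ?_, hCM, hCN, fun L hL hLb hLmin => ?_⟩
  · obtain ⟨hab⟩ := hab
    have hMM := centralizer_eq M M hMt hMt fun m hm n hn => congrArg Subtype.val (hab.comm ⟨n, hn⟩ ⟨m, hm⟩)
    exact Subgroup.map_injective G.subtype_injective (hMM.symm.trans hCM)
  · have key : ∀ m : M, ∃! n : N, n • a = m⁻¹ • a := by
      intro m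
      obtain ⟨n, hn⟩ := MulAction.exists_smul_eq N a (m⁻¹ • a)
      refine ⟨n, hn, fun n' hn' => ?_⟩
      have h1 : n⁻¹ * n' ∈ MulAction.stabilizer N a := by
        rw [MulAction.mem_stabilizer_iff, mul_smul, hn', ← hn, inv_smul_smul]
      rw [hNreg, Subgroup.mem_bot, inv_mul_eq_one] at h1
      exact h1.symm
    choose f hf hfu using key
    refine ⟨MulEquiv.ofBijective (MonoidHom.mk' f fun m₁ m₂ => ?_) ⟨fun m₁ m₂ he => ?_, fun n => ?_⟩⟩
    · refine (hfu _ _ ?_).symm
      have hc : ((f m₁ : N) : G) * ((m₂⁻¹ : M) : G) = ((m₂⁻¹ : M) : G) * ((f m₁ : N) : G) :=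
        hcomm _ (m₂⁻¹).2 _ (f m₁).2
      show (f m₁ * f m₂) • a = (m₁ * m₂)⁻¹ • a
      rw [_root_.mul_inv_rev, mul_smul, mul_smul, hf, ← hf m₁]
      show (((f m₁ : N) : G)) • (((m₂⁻¹ : M) : G) • a) = ((m₂⁻¹ : M) : G) • (((f m₁ : N) : G) • a)
      rw [smul_smul, smul_smul, hc]
    · have he' : m₁⁻¹ • a = m₂⁻¹ • a := by rw [← hf m₁, ← hf m₂, show f m₁ = f m₂ from he]
      have h1 : m₁ * m₂⁻¹ ∈ MulAction.stabilizer M a := by
        rw [MulAction.mem_stabilizer_iff, mul_smul, ← he', smul_inv_smul]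
      rw [hMreg, Subgroup.mem_bot, mul_inv_eq_one] at h1
      exact h1
    · obtain ⟨m, hm⟩ := MulAction.exists_smul_eq M a (n • a)
      exact ⟨m⁻¹, ((hfu m⁻¹ n (by rw [inv_inv, hm])).symm)⟩
  · by_contra hcon
    push Not at hcon
    have hdis : ∀ K : Subgroup G, K.Normal → (∀ A : Subgroup G, A.Normal → A ≤ K → A = ⊥ ∨ A = K) → L ≠ K →
        L ⊓ K = ⊥ := fun K hK hKmin hne => by
      rcases hLmin (L ⊓ K) inferInstance inf_le_left with h | h
      · exact h
      · exact absurd ((hKmin L hL (inf_eq_left.1 h)).resolve_left hLb) hne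
    have h1 := hdis M inferInstance hMmin hcon.1
    have h2 := hdis N inferInstance hNmin hcon.2
    have hle : L ≤ M := by
      intro l hl
      have h3 : (l : Equiv.Perm α) ∈
          Subgroup.centralizer ((N.map G.subtype : Subgroup (Equiv.Perm α)) : Set (Equiv.Perm α)) := by
        rw [Subgroup.mem_centralizer_iff]
        rintro _ ⟨n, hn, rfl⟩
        exact congrArg Subtype.val
          (Subgroup.commute_of_normal_of_disjoint L N hL inferInstance (disjoint_iff.2 h2) l n hl hn).symm.eq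
      rw [hCN] at h3
      obtain ⟨m, hm, he⟩ := h3
      exact (Subtype.ext he : m = l) ▸ hm
    exact hLb (by rwa [inf_eq_left.2 hle] at h1)

end Cfsg.Agent.S0704
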