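import Cfsg.Statements.S0705
import Cfsg.Agent.Lib.Perm.Groups.Transit
-- import your own Cfsg.Agent.* helpers here

set_option autoImplicit false
open scoped Pointwise
open Cfsg

namespace Cfsg.Agent.S0705

/-- A generously `k`-transitive permutation group (every `(k+1)`-subset has its full symmetric group induced by the setwise stabiliser) of degree greater than `k` is `k`-transitive, and for a `k`-subset the setwise and pointwise stabilisers have the same orbits outside it. -/
theorem result {α : Type*} [Fintype α] [DecidableEq α] (G : Subgroup (Equiv.Perm α)) {k : ℕ} (hk : k < Fintype.card α) (hgen : ∀ s : Finset α, s.card = k + 1 → ∀ σ : Equiv.Perm ↥s, ∃ g ∈ G, ∀ x : ↥s, g (x : α) = σ x) : MulAction.IsMultiplyPretransitive G α k ∧ ∀ s : Finset α, s.card = k → ∀ a b : α, a ∉ s → b ∉ s → (∃ g ∈ G, g • s = s ∧ g a = b) → ∃ g ∈ G, (∀ x ∈ s, g x = x) ∧ g a = b := by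
  classical
  constructor
  · refine CfsgLib.Perm.Groups.multiplyPretransitive_of_fix_trans k fun s hs x y hx hy => ?_
    rcases eq_or_ne x y with rfl | hxy
    · exact ⟨1, fun a _ => one_smul _ a, one_smul _ _⟩
    obtain ⟨t, hst, htc⟩ := Finset.exists_superset_card_eq (s := insert x (insert y s)) (n := k + 1) (by
      have := Finset.card_insert_le x (insert y s)
      have := Finset.card_insert_le y s
      omega) (by omega)
    have hxt : x ∈ t := hst (Finset.mem_insert_self _ _)
    have hyt : y ∈ t := hst (Finset.mem_insert_of_mem (Finset.mem_insert_self _ _))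
    obtain ⟨g, hg, hge⟩ := hgen t htc (Equiv.swap ⟨x, hxt⟩ ⟨y, hyt⟩)
    refine ⟨⟨g, hg⟩, fun a ha => ?_, ?_⟩
    · have hat : a ∈ t := hst (Finset.mem_insert_of_mem (Finset.mem_insert_of_mem ha))
      have h1 := hge ⟨a, hat⟩
      rw [Equiv.swap_apply_of_ne_of_ne (fun e : (⟨a, hat⟩ : ↥t) = ⟨x, hxt⟩ => hx (by have e' : a = x := congrArg Subtype.val e; exact e' ▸ ha))
        (fun e : (⟨a, hat⟩ : ↥t) = ⟨y, hyt⟩ => hy (by have e' : a = y := congrArg Subtype.val e; exact e' ▸ ha))] at h1
      exact h1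
    · have h1 := hge ⟨x, hxt⟩
      rw [Equiv.swap_apply_left] at h1
      exact h1
  · rintro s hs a b ha hb ⟨g, hgG, hgs, hgab⟩
    have hmem : ∀ x, x ∈ s ↔ g x ∈ s := fun x => by
      conv_rhs => rw [← hgs]
      exact (Finset.smul_mem_smul_finset_iff g).symm
    let π : Equiv.Perm α := Equiv.Perm.ofSubtype (p := fun x => x ∈ s) (g⁻¹.subtypePerm (fun x => by
      conv_lhs => rw [hmem (g⁻¹ x)]
      simp))
    have hπb : π b = b := Equiv.Perm.ofSubtype_apply_of_not_mem _ hb
    have hπs : ∀ x ∈ s, π x = g⁻¹ x := fun x hx => Equiv.Perm.ofSubtype_apply_of_mem _ hx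
    have hcard : (insert b s).card = k + 1 := by rw [Finset.card_insert_of_notMem hb, hs]
    obtain ⟨h, hh, hhe⟩ := hgen (insert b s) hcard (π.subtypePerm fun x => by
      simp only [Finset.mem_insert]
      by_cases hx : x ∈ s
      · rw [hπs x hx]
        have : g⁻¹ x ∈ s := (hmem _).2 (by simpa using hx)
        simp [hx]
        exact Or.inr this
      · rw [Equiv.Perm.ofSubtype_apply_of_not_mem _ hx])
    refine ⟨h * g, mul_mem hh hgG, fun x hx => ?_, ?_⟩
    · have hgx : g x ∈ s := (hmem x).1 hx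
      have h1 : h (g x) = π (g x) := hhe ⟨g x, Finset.mem_insert_of_mem hgx⟩
      rw [Equiv.Perm.mul_apply, h1, hπs _ hgx]
      simp
    · have h1 : h b = π b := hhe ⟨b, Finset.mem_insert_self _ _⟩
      rw [Equiv.Perm.mul_apply, hgab, h1, hπb]

end Cfsg.Agent.S0705
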