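import Cfsg.Statements.S0706
import Mathlib
-- import your own Cfsg.Agent.* helpers here

set_option autoImplicit false
open Cfsg

namespace Cfsg.Agent.S0706

variable {α : Type*} [Fintype α] [DecidableEq α]

theorem exists_agree (G : Subgroup (Equiv.Perm α)) {k : ℕ}
    (hgen : ∀ s : Finset α, s.card = k + 1 → ∀ σ : Equiv.Perm ↥s, ∃ g ∈ G, ∀ x : ↥s, g (x : α) = σ x)
    (s : Finset α) (hs : s.card = k + 1) (c : Equiv.Perm α) (hc : ∀ x, c x ∈ s ↔ x ∈ s) :
    ∃ g : G, ∀ x ∈ s, (g : Equiv.Perm α) x = c x := by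
  obtain ⟨g, hg, h⟩ := hgen s hs (c.subtypePerm hc)
  exact ⟨⟨g, hg⟩, fun x hx => h ⟨x, hx⟩⟩

theorem exists_map_finset (G : Subgroup (Equiv.Perm α)) {k : ℕ}
    (hgen : ∀ s : Finset α, s.card = k + 1 → ∀ σ : Equiv.Perm ↥s, ∃ g ∈ G, ∀ x : ↥s, g (x : α) = σ x) :
    ∀ m : ℕ, ∀ s t : Finset α, s.card = k → t.card = k → (t \ s).card = m →
      ∃ g : G, s.image (fun x => (g : Equiv.Perm α) x) = t := by
  intro m
  induction m with
  | zero =>
    intro s t hs ht hm
    have hsub : t ⊆ s := Finset.sdiff_eq_empty_iff_subset.1 (Finset.card_eq_zero.1 hm)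
    have := Finset.eq_of_subset_of_card_le hsub (by omega)
    exact ⟨1, by simp [this]⟩
  | succ m ih =>
    intro s t hs ht hm
    have h1 : (t \ s).Nonempty := Finset.card_pos.1 (by omega)
    obtain ⟨y, hy⟩ := h1
    have hy' := Finset.mem_sdiff.1 hy
    have h2 : (s \ t).Nonempty := by
      rw [← Finset.card_pos]
      have e1 := Finset.card_sdiff_add_card_inter t s
      have e2 := Finset.card_sdiff_add_card_inter s t
      rw [Finset.inter_comm] at e2
      omega
    obtain ⟨x, hx⟩ := h2
    have hx' := Finset.mem_sdiff.1 hx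
    have hcard : (insert y s).card = k + 1 := by rw [Finset.card_insert_of_notMem hy'.2, hs]
    have hc : ∀ z, Equiv.swap x y z ∈ insert y s ↔ z ∈ insert y s := by
      intro z
      rcases eq_or_ne z x with e | e
      · simp [e, hx'.1]
      rcases eq_or_ne z y with e' | e'
      · simp [e', hx'.1]
      rw [Equiv.swap_apply_of_ne_of_ne e e']
    obtain ⟨g, hg⟩ := exists_agree G hgen _ hcard _ hc
    have himg : s.image (fun z => (g : Equiv.Perm α) z) = insert y (s.erase x) := by
      ext z
      simp only [Finset.mem_image, Finset.mem_insert, Finset.mem_erase]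
      constructor
      · rintro ⟨w, hw, rfl⟩
        rw [hg w (Finset.mem_insert_of_mem hw)]
        rcases eq_or_ne w x with e | e
        · left; rw [e, Equiv.swap_apply_left]
        · have : w ≠ y := fun e' => hy'.2 (e' ▸ hw)
          rw [Equiv.swap_apply_of_ne_of_ne e this]
          exact Or.inr ⟨e, hw⟩
      · rintro (e | ⟨e, hz⟩)
        · exact ⟨x, hx'.1, by rw [hg x (Finset.mem_insert_of_mem hx'.1), Equiv.swap_apply_left, e]⟩
        · refine ⟨z, hz, ?_⟩
          rw [hg z (Finset.mem_insert_of_mem hz),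
            Equiv.swap_apply_of_ne_of_ne e (fun e' => hy'.2 (by rw [← e']; exact hz))]
    have hcard' : (insert y (s.erase x)).card = k := by
      rw [← himg, Finset.card_image_of_injective _ (g : Equiv.Perm α).injective, hs]
    have hdiff : t \ insert y (s.erase x) = (t \ s).erase y := by
      ext z
      simp only [Finset.mem_sdiff, Finset.mem_insert, Finset.mem_erase]
      constructor
      · rintro ⟨h1, h2⟩
        exact ⟨fun e => h2 (Or.inl e), h1, fun h => h2 (Or.inr ⟨fun e => hx'.2 (e ▸ h1), h⟩)⟩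
      · rintro ⟨h1, h2, h3⟩
        exact ⟨h2, fun h => h.elim h1 (fun h => h3 h.2)⟩
    obtain ⟨g', hg'⟩ := ih _ t hcard' ht (by rw [hdiff, Finset.card_erase_of_mem hy]; omega)
    refine ⟨g' * g, ?_⟩
    rw [← hg', ← himg, Finset.image_image]
    rfl

theorem card_fixing_eq (G : Subgroup (Equiv.Perm α)) {k : ℕ}
    (hgen : ∀ s : Finset α, s.card = k + 1 → ∀ σ : Equiv.Perm ↥s, ∃ g ∈ G, ∀ x : ↥s, g (x : α) = σ x)
    (s t : Finset α) (hs : s.card = k) (ht : t.card = k) :
    Nat.card (fixingSubgroup G (t : Set α)) ∣ Nat.card (fixingSubgroup G (s : Set α)) := by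
  obtain ⟨g, hg⟩ := exists_map_finset G hgen _ s t hs ht rfl
  have hle : (fixingSubgroup G (t : Set α)).map (MulAut.conj g⁻¹).toMonoidHom ≤
      fixingSubgroup G (s : Set α) := by
    rintro _ ⟨u, hu, rfl⟩
    rw [mem_fixingSubgroup_iff]
    intro x hx
    have hgx : (g : Equiv.Perm α) x ∈ t := by
      rw [← hg]; exact Finset.mem_image_of_mem _ hx
    have e1 := (mem_fixingSubgroup_iff G).1 hu _ hgx
    change (g⁻¹ * u * g⁻¹⁻¹) • x = x
    rw [inv_inv, mul_smul, mul_smul, show (g • x) = (g : Equiv.Perm α) x from rfl, e1]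
    exact inv_smul_smul g x
  have h := Subgroup.card_dvd_of_le hle
  rwa [Subgroup.card_map_of_injective (MulEquiv.injective (MulAut.conj g⁻¹))] at h

/-- In a generously `k`-transitive permutation group, for a prime `p ≤ k` and a `k`-set `Γ`, there are no `p` points outside `Γ` lying in distinct orbits of the pointwise stabiliser of `Γ` all of length prime to `p` (at most `p - 1` such orbits). -/
theorem result {α : Type*} [Fintype α] [DecidableEq α] (G : Subgroup (Equiv.Perm α)) {k : ℕ} (hk : k < Fintype.card α) (hgen : ∀ s : Finset α, s.card = k + 1 → ∀ σ : Equiv.Perm ↥s, ∃ g ∈ G, ∀ x : ↥s, g (x : α) = σ x) {p : ℕ} (hp : p.Prime) (hpk : p ≤ k) (Γ : Finset α) (hΓ : Γ.card = k) (f : Fin p → α) (hf : ∀ i, f i ∉ Γ) (hdist : ∀ i j, i ≠ j → f j ∉ MulAction.orbit (fixingSubgroup G (Γ : Set α)) (f i)) : ∃ i, p ∣ Nat.card (MulAction.orbit (fixingSubgroup G (Γ : Set α)) (f i)) := by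
  classical
  by_contra hcon
  push Not at hcon
  haveI := Fact.mk hp
  obtain ⟨Δ, hΔ, hΔc⟩ := Finset.exists_subset_card_eq (s := Γ) (n := p) (by omega)
  set K : Subgroup G := fixingSubgroup G (Γ : Set α) with hK
  let H : Subgroup G :=
    { carrier := {g | (∀ x, (g : Equiv.Perm α) x ∈ Γ ↔ x ∈ Γ) ∧
        ∀ x ∈ Γ \ Δ, (g : Equiv.Perm α) x = x}
      one_mem' := by simp
      mul_mem' := by
        intro a b ha hb
        refine ⟨fun x => ?_, fun x hx => ?_⟩
        · change (a : Equiv.Perm α) ((b : Equiv.Perm α) x) ∈ Γ ↔ x ∈ Γ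
          rw [ha.1, hb.1]
        · change (a : Equiv.Perm α) ((b : Equiv.Perm α) x) = x
          rw [hb.2 x hx, ha.2 x hx]
      inv_mem' := by
        intro a ha
        refine ⟨fun x => ?_, fun x hx => ?_⟩
        · change (a : Equiv.Perm α).symm x ∈ Γ ↔ x ∈ Γ
          conv_rhs => rw [← (a : Equiv.Perm α).apply_symm_apply x]
          rw [ha.1]
        · change (a : Equiv.Perm α).symm x = x
          rw [Equiv.symm_apply_eq, ha.2 x hx] }
  have hmemK : ∀ g : G, g ∈ K ↔ ∀ x ∈ Γ, (g : Equiv.Perm α) x = x := fun g =>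
    mem_fixingSubgroup_iff G
  have hKH : K ≤ H := by
    intro g hg
    rw [hmemK] at hg
    refine ⟨fun x => ⟨fun h => ?_, fun h => by rw [hg x h]; exact h⟩,
      fun x hx => hg x (Finset.mem_sdiff.1 hx).1⟩
    have := hg _ h
    rw [EmbeddingLike.apply_eq_iff_eq] at this
    rwa [this] at h
  -- `H` preserves every orbit of `K` outside `Γ`
  have horb : ∀ h ∈ H, ∀ x, x ∉ Γ → (h : Equiv.Perm α) x ∈ MulAction.orbit K x := by
    intro h hh x hx
    have hcard : (insert x Γ).card = k + 1 := by rw [Finset.card_insert_of_notMem hx, hΓ]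
    let c : Equiv.Perm α := Equiv.Perm.ofSubtype ((h : Equiv.Perm α).subtypePerm hh.1 :
      Equiv.Perm {y // y ∈ Γ})
    have hc1 : ∀ y ∈ Γ, c y = (h : Equiv.Perm α) y := fun y hy =>
      Equiv.Perm.ofSubtype_apply_of_mem _ hy
    have hc2 : ∀ y, y ∉ Γ → c y = y := fun y hy =>
      Equiv.Perm.ofSubtype_apply_of_not_mem _ hy
    have hc : ∀ y, c y ∈ insert x Γ ↔ y ∈ insert x Γ := by
      intro y
      by_cases hy : y ∈ Γ
      · rw [hc1 y hy]; simp [hy, (hh.1 y).2 hy]
      · rw [hc2 y hy]
    obtain ⟨g, hg⟩ := exists_agree G hgen _ hcard c hc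
    have hgx : (g : Equiv.Perm α) x = x := by
      rw [hg x (Finset.mem_insert_self _ _), hc2 x hx]
    refine ⟨⟨h * g⁻¹, (hmemK _).2 fun y hy => ?_⟩, ?_⟩
    · change (h : Equiv.Perm α) ((g : Equiv.Perm α).symm y) = y
      have hy' : (h : Equiv.Perm α).symm y ∈ Γ := by
        rw [← hh.1, Equiv.apply_symm_apply]; exact hy
      have e : (g : Equiv.Perm α) ((h : Equiv.Perm α).symm y) = y := by
        rw [hg _ (Finset.mem_insert_of_mem hy'), hc1 _ hy', Equiv.apply_symm_apply]
      rw [(Equiv.symm_apply_eq _).2 e.symm, Equiv.apply_symm_apply]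
    · change (h : Equiv.Perm α) ((g : Equiv.Perm α).symm x) = (h : Equiv.Perm α) x
      rw [(Equiv.symm_apply_eq _).2 hgx.symm]
  -- `p` divides the index of `K` in `H`
  have hindex : p * Nat.card K ∣ Nat.card H := by
    obtain ⟨x₀, hx₀⟩ : ∃ x, x ∉ Γ := by
      by_contra hall
      push Not at hall
      have : Finset.univ ⊆ Γ := fun x _ => hall x
      have := Finset.card_le_card this
      rw [Finset.card_univ] at this
      omega
    have hcard : (insert x₀ Γ).card = k + 1 := by rw [Finset.card_insert_of_notMem hx₀, hΓ]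
    set l := Δ.toList with hl
    have hnd : l.Nodup := Δ.nodup_toList
    have hlen : l.length = p := by rw [hl, Finset.length_toList, hΔc]
    set c := l.formPerm with hcdef
    have hcout : ∀ y, y ∉ Δ → c y = y := fun y hy =>
      List.formPerm_apply_of_notMem (by rwa [hl, Finset.mem_toList])
    have hcin : ∀ y, y ∈ Δ → c y ∈ Δ := fun y hy => by
      have := List.formPerm_apply_mem_of_mem (l := l) (x := y) (by rwa [hl, Finset.mem_toList])
      rwa [hl, Finset.mem_toList] at this
    have hcT : ∀ T : Finset α, Δ ⊆ T → ∀ y, c y ∈ T ↔ y ∈ T := by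
      intro T hT y
      by_cases hy : y ∈ Δ
      · exact iff_of_true (hT (hcin y hy)) (hT hy)
      · rw [hcout y hy]
    obtain ⟨g, hg⟩ := exists_agree G hgen _ hcard c
      (hcT _ (hΔ.trans (Finset.subset_insert _ _)))
    have hgΓ : ∀ y ∈ Γ, (g : Equiv.Perm α) y = c y := fun y hy =>
      hg y (Finset.mem_insert_of_mem hy)
    have hgH : g ∈ H := by
      refine ⟨fun y => ⟨fun h => ?_, fun h => by rw [hgΓ y h, hcT Γ hΔ]; exact h⟩, fun y hy => ?_⟩
      · have hz : c.symm ((g : Equiv.Perm α) y) ∈ Γ := by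
          rw [← hcT Γ hΔ, Equiv.apply_symm_apply]; exact h
        have := hgΓ _ hz
        rw [Equiv.apply_symm_apply, EmbeddingLike.apply_eq_iff_eq] at this
        rwa [this] at hz
      · rw [hgΓ y (Finset.mem_sdiff.1 hy).1, hcout y (Finset.mem_sdiff.1 hy).2]
    have hgpow : ∀ n : ℕ, ∀ y ∈ Γ, ((g ^ n : G) : Equiv.Perm α) y = (c ^ n) y := by
      intro n
      induction n with
      | zero => simp
      | succ n ih =>
        intro y hy
        rw [pow_succ, pow_succ, Subgroup.coe_mul, Equiv.Perm.mul_apply, Equiv.Perm.mul_apply,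
          hgΓ y hy, ih _ ((hcT Γ hΔ y).2 hy)]
    haveI : (K.subgroupOf H).Normal := by
      refine ⟨fun u hu v => ?_⟩
      rw [Subgroup.mem_subgroupOf, hmemK] at hu ⊢
      intro y hy
      change ((v : G) : Equiv.Perm α) (((u : G) : Equiv.Perm α)
        (((v : G) : Equiv.Perm α).symm y)) = y
      have hy' : ((v : G) : Equiv.Perm α).symm y ∈ Γ := by
        rw [← v.2.1, Equiv.apply_symm_apply]; exact hy
      rw [hu _ hy', Equiv.apply_symm_apply]
    have hord : orderOf (QuotientGroup.mk (⟨g, hgH⟩ : H) : H ⧸ K.subgroupOf H) = p := by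
      apply orderOf_eq_prime
      · rw [← QuotientGroup.mk_pow, QuotientGroup.eq_one_iff, Subgroup.mem_subgroupOf, hmemK]
        intro y hy
        rw [SubmonoidClass.coe_pow, hgpow p y hy, hcdef, ← hlen,
          List.formPerm_pow_length_eq_one_of_nodup (l := l) hnd, Equiv.Perm.one_apply]
      · intro h1
        rw [QuotientGroup.eq_one_iff, Subgroup.mem_subgroupOf, hmemK] at h1
        have hc1 : c = 1 := by
          ext y
          by_cases hy : y ∈ Δ
          · rw [← hgΓ y (hΔ hy)]; exact h1 y (hΔ hy)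
          · exact hcout y hy
        rw [hcdef, List.formPerm_eq_one_iff (l := l) hnd, hlen] at hc1
        exact absurd hc1 (not_le.2 hp.one_lt)
    have h2 : p ∣ Nat.card (H ⧸ K.subgroupOf H) := hord ▸ orderOf_dvd_natCard _
    rw [Subgroup.card_eq_card_quotient_mul_card_subgroup (K.subgroupOf H),
      Nat.card_congr (Subgroup.subgroupOfEquivOfLe hKH).toEquiv]
    exact mul_dvd_mul h2 dvd_rfl
  -- a Sylow subgroup of `H` fixes a point in each orbit
  obtain ⟨Q⟩ : Nonempty (Sylow p H) := inferInstance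
  have hfix : ∀ i, ∃ b ∈ MulAction.orbit K (f i), ∀ q : (Q : Subgroup H),
      (((q : H) : G) : Equiv.Perm α) b = b := by
    intro i
    let S : SubMulAction (Q : Subgroup H) α :=
      { carrier := MulAction.orbit K (f i)
        smul_mem' := by
          intro q x hx
          have hxΓ : x ∉ Γ := by
            obtain ⟨u, rfl⟩ := hx
            intro hmem
            have := (hmemK _).1 (K.inv_mem u.2) _ hmem
            change ((u : G) : Equiv.Perm α).symm (((u : G) : Equiv.Perm α) (f i)) =
              ((u : G) : Equiv.Perm α) (f i) at this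
            rw [Equiv.symm_apply_apply] at this
            have hm : ((u : G) : Equiv.Perm α) (f i) ∈ Γ := hmem
            rw [← this] at hm
            exact hf i hm
          exact (MulAction.orbit_eq_iff.2 hx) ▸ horb _ (q : H).2 x hxΓ }
    obtain ⟨b, hb⟩ := Q.isPGroup'.nonempty_fixed_point_of_prime_not_dvd_card S (hcon i)
    exact ⟨b, b.2, fun q => congrArg Subtype.val (hb q)⟩
  choose b hb1 hb2 using hfix
  have hbinj : Function.Injective b := by
    intro i j hij
    by_contra hne
    apply hdist i j hne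
    rw [← MulAction.orbit_eq_iff.2 (hb1 i), hij, MulAction.orbit_eq_iff.2 (hb1 j)]
    exact MulAction.mem_orbit_self _
  have hbΓ : ∀ i, b i ∉ Γ := by
    intro i hmem
    obtain ⟨u, hu⟩ := hb1 i
    have h1 := (hmemK _).1 u.2 _ hmem
    have h2 : ((u : G) : Equiv.Perm α) (f i) = b i := hu
    rw [← h2, EmbeddingLike.apply_eq_iff_eq] at h1
    rw [← h2, h1] at hmem
    exact hf i hmem
  let Γ' : Finset α := (Γ \ Δ) ∪ Finset.univ.image b
  have hΓ' : Γ'.card = k := by
    rw [Finset.card_union_of_disjoint, Finset.card_image_of_injective _ hbinj, Finset.card_univ,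
      Fintype.card_fin, Finset.card_sdiff_of_subset hΔ, hΔc, hΓ]
    · omega
    · rw [Finset.disjoint_left]
      intro x hx hx'
      obtain ⟨i, -, rfl⟩ := Finset.mem_image.1 hx'
      exact hbΓ i (Finset.mem_sdiff.1 hx).1
  have hQle : (Q : Subgroup H).map H.subtype ≤ fixingSubgroup G (Γ' : Set α) := by
    rintro _ ⟨q, hq, rfl⟩
    rw [mem_fixingSubgroup_iff]
    intro x hx
    rcases Finset.mem_union.1 hx with hx | hx
    · exact q.2.2 x hx
    · obtain ⟨i, -, rfl⟩ := Finset.mem_image.1 hx
      exact hb2 i ⟨q, hq⟩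
  have hdvd : p ^ (Nat.card H).factorization p ∣ Nat.card K := by
    have h := (Subgroup.card_dvd_of_le hQle).trans (card_fixing_eq G hgen Γ Γ' hΓ hΓ')
    rwa [Subgroup.card_map_of_injective H.subtype_injective, Q.card_eq_multiplicity] at h
  have hfinal : p ^ ((Nat.card H).factorization p + 1) ∣ Nat.card H := by
    rw [pow_succ']
    exact (mul_dvd_mul dvd_rfl hdvd).trans hindex
  exact Nat.pow_succ_factorization_not_dvd Nat.card_pos.ne' hp hfinal

end Cfsg.Agent.S0706
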