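import Cfsg.Statements.S0707
import Mathlib
-- import your own Cfsg.Agent.* helpers here

set_option autoImplicit false
open Cfsg

namespace Cfsg.Agent.S0707

open scoped Pointwise

/-- In a primitive permutation group, distinct points have distinct stabilisers unless the group is regular of prime degree. -/
theorem result {α : Type*} (G : Subgroup (Equiv.Perm α)) [MulAction.IsPreprimitive G α] (h : ¬ (Nat.card α).Prime ∨ ∃ a : α, MulAction.stabilizer G a ≠ ⊥) {a b : α} (hab : a ≠ b) : MulAction.stabilizer G a ≠ MulAction.stabilizer G b := by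
  classical
  intro heq
  haveI : Nontrivial α := ⟨⟨a, b, hab⟩⟩
  have hblock : MulAction.IsBlock G {x : α | MulAction.stabilizer G x = MulAction.stabilizer G a} := by
    rw [MulAction.isBlock_iff_smul_eq_of_nonempty]
    intro g ⟨x, ⟨y, hy, hyx⟩, hx⟩
    have hy' : MulAction.stabilizer G y = MulAction.stabilizer G a := hy
    have hx' : MulAction.stabilizer G x = MulAction.stabilizer G a := hx
    ext z
    rw [Set.mem_smul_set_iff_inv_smul_mem, Set.mem_setOf_eq, Set.mem_setOf_eq]
    rw [← hyx, MulAction.stabilizer_smul_eq_stabilizer_map_conj, hy'] at hx'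
    rw [MulAction.stabilizer_smul_eq_stabilizer_map_conj]
    refine ⟨fun h => ?_, fun h => ?_⟩
    · apply Subgroup.map_injective (f := (MulAut.conj g⁻¹).toMonoidHom) (MulAut.conj g⁻¹).injective
      rw [h]
      conv_rhs => rw [← hx', Subgroup.map_map]
      symm
      convert Subgroup.map_id _ using 2
      ext w
      simp [mul_assoc]
    · rw [h]
      conv_lhs => rw [← hx', Subgroup.map_map]
      convert Subgroup.map_id _ using 2
      ext w
      simp [mul_assoc]
  rcases MulAction.IsPreprimitive.isTrivialBlock_of_isBlock hblock with hs | hu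
  · exact hab (hs rfl heq.symm)
  have hall : ∀ x, MulAction.stabilizer G x = MulAction.stabilizer G a := fun x => Set.eq_univ_iff_forall.1 hu x
  have hbot : MulAction.stabilizer G a = ⊥ := by
    rw [eq_bot_iff]
    exact fun g hg => Subgroup.mem_bot.2 (Subtype.ext (Equiv.ext fun x => ((hall x).ge hg : g • x = x)))
  have hco : IsCoatom (⊥ : Subgroup G) := hbot ▸ MulAction.IsPreprimitive.isCoatom_stabilizer_of_isPreprimitive (G := G) a
  rcases h with h | ⟨c, hc⟩
  swap
  · exact hc ((hall c).trans hbot)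
  refine h ?_
  have hbij : Function.Bijective fun g : G => g • a := by
    refine ⟨fun g g' (e : g • a = g' • a) => ?_, fun z => MulAction.exists_smul_eq G a z⟩
    have h1 : g'⁻¹ * g ∈ MulAction.stabilizer G a := by
      rw [MulAction.mem_stabilizer_iff, mul_smul, e, inv_smul_smul]
    rw [hbot, Subgroup.mem_bot, inv_mul_eq_one] at h1
    exact h1.symm
  rw [← Nat.card_congr (Equiv.ofBijective _ hbij)]
  obtain ⟨g, hg⟩ : ∃ g : G, g ≠ 1 := by
    by_contra hcon
    push Not at hcon
    obtain ⟨k, hk⟩ := MulAction.exists_smul_eq G a b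
    exact hab (by rw [← hk, hcon k, one_smul])
  have htop : ∀ k : G, k ≠ 1 → Subgroup.zpowers k = ⊤ := fun k hk =>
    hco.2 _ (bot_lt_iff_ne_bot.2 (Subgroup.zpowers_ne_bot.2 hk))
  have hfin : orderOf g ≠ 0 := by
    intro h0
    have hinj := injective_zpow_iff_not_isOfFinOrder.2 (orderOf_eq_zero_iff.1 h0)
    have h2 : g ^ (2 : ℤ) ≠ 1 := fun h2 => by
      have := hinj (a₁ := 2) (a₂ := 0) (by show g ^ (2 : ℤ) = g ^ (0 : ℤ); rw [zpow_zero]; exact h2)
      omega
    obtain ⟨k, hk⟩ := Subgroup.mem_zpowers_iff.1 (htop _ h2 ▸ Subgroup.mem_top g)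
    have := hinj (a₁ := 2 * k) (a₂ := 1) (by show g ^ (2 * k) = g ^ (1 : ℤ); rw [zpow_mul, zpow_one]; exact hk)
    omega
  obtain ⟨p, hp, hpd⟩ := Nat.exists_prime_and_dvd (fun h1 : orderOf g = 1 => hg (orderOf_eq_one_iff.1 h1))
  have hord := orderOf_pow_orderOf_div hfin hpd
  have hk : g ^ (orderOf g / p) ≠ 1 := fun h1 => by
    rw [h1, orderOf_one] at hord; exact hp.ne_one hord.symm
  rw [← Subgroup.card_top, ← htop _ hk, Nat.card_zpowers, hord]
  exact hp

end Cfsg.Agent.S0707
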