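import Cfsg.Statements.S0708
-- import your own Cfsg.Agent.* helpers here
import Mathlib

set_option autoImplicit false
set_option linter.all false
open Cfsg

namespace Cfsg.Agent.S0708

/-- Tits' argument: a sharply 4-transitive group (no finiteness assumed) has finite degree at most 11, and at most 6 when the degree is even. -/
theorem result {G : Type*} [Group G] {Ω : Type*} [MulAction G Ω] (h4 : MulAction.IsMultiplyPretransitive G Ω 4) (hsharp : ∀ x : Fin 4 ↪ Ω, MulAction.stabilizer G x = ⊥) (hne : Nonempty (Fin 4 ↪ Ω)) : Finite Ω ∧ Nat.card Ω ≤ 11 ∧ (Even (Nat.card Ω) → Nat.card Ω ≤ 6) := by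
  classical
  obtain ⟨x₀⟩ := hne
  -- two elements agreeing on four distinct points are equal
  have huniq : ∀ (g h : G) (a b c d : Ω), a ≠ b → a ≠ c → a ≠ d → b ≠ c → b ≠ d → c ≠ d →
      g • a = h • a → g • b = h • b → g • c = h • c → g • d = h • d → g = h := by
    intro g h a b c d hab hac had hbc hbd hcd ea eb ec ed
    obtain ⟨e, he⟩ : ∃ e : Fin 4 ↪ Ω, (e : Fin 4 → Ω) = ![a, b, c, d] :=
      ⟨⟨![a, b, c, d], by
        intro i j hij
        fin_cases i <;> fin_cases j <;>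
          simp_all [hab.symm, hac.symm, had.symm, hbc.symm, hbd.symm, hcd.symm]⟩, rfl⟩
    have hmem : h⁻¹ * g ∈ MulAction.stabilizer G e := by
      rw [MulAction.mem_stabilizer_iff]
      refine DFunLike.ext _ _ fun i => ?_
      rw [Function.Embedding.smul_apply, he]
      fin_cases i <;> simp [mul_smul, inv_smul_eq_iff, ea, eb, ec, ed]
    rw [hsharp e, Subgroup.mem_bot, inv_mul_eq_one] at hmem
    exact hmem.symm
  -- four distinct points can be moved to four distinct points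
  have hex : ∀ a b c d a' b' c' d' : Ω, a ≠ b → a ≠ c → a ≠ d → b ≠ c → b ≠ d → c ≠ d →
      a' ≠ b' → a' ≠ c' → a' ≠ d' → b' ≠ c' → b' ≠ d' → c' ≠ d' →
      ∃ g : G, g • a = a' ∧ g • b = b' ∧ g • c = c' ∧ g • d = d' := by
    intro a b c d a' b' c' d' h1 h2 h3 h4' h5 h6 k1 k2 k3 k4 k5 k6
    obtain ⟨e, he⟩ : ∃ e : Fin 4 ↪ Ω, (e : Fin 4 → Ω) = ![a, b, c, d] :=
      ⟨⟨![a, b, c, d], by
        intro i j hij
        fin_cases i <;> fin_cases j <;>
          simp_all [h1.symm, h2.symm, h3.symm, h4'.symm, h5.symm, h6.symm]⟩, rfl⟩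
    obtain ⟨e', he'⟩ : ∃ e' : Fin 4 ↪ Ω, (e' : Fin 4 → Ω) = ![a', b', c', d'] :=
      ⟨⟨![a', b', c', d'], by
        intro i j hij
        fin_cases i <;> fin_cases j <;>
          simp_all [k1.symm, k2.symm, k3.symm, k4.symm, k5.symm, k6.symm]⟩, rfl⟩
    obtain ⟨g, hg⟩ := @MulAction.exists_smul_eq G (Fin 4 ↪ Ω) _ h4 e e'
    have key : ∀ i, g • (e i) = e' i := fun i => by rw [← hg, Function.Embedding.smul_apply]
    refine ⟨g, ?_, ?_, ?_, ?_⟩
    · simpa [he, he'] using key 0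
    · simpa [he, he'] using key 1
    · simpa [he, he'] using key 2
    · simpa [he, he'] using key 3
  -- the involution
  obtain ⟨a, ha⟩ : ∃ a, a = x₀ 0 := ⟨_, rfl⟩
  obtain ⟨b, hb⟩ : ∃ b, b = x₀ 1 := ⟨_, rfl⟩
  obtain ⟨c, hc⟩ : ∃ c, c = x₀ 2 := ⟨_, rfl⟩
  obtain ⟨d, hd⟩ : ∃ d, d = x₀ 3 := ⟨_, rfl⟩
  have hab : a ≠ b := by rw [ha, hb]; exact x₀.injective.ne (by decide)
  have hac : a ≠ c := by rw [ha, hc]; exact x₀.injective.ne (by decide)
  have had : a ≠ d := by rw [ha, hd]; exact x₀.injective.ne (by decide)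
  have hbc : b ≠ c := by rw [hb, hc]; exact x₀.injective.ne (by decide)
  have hbd : b ≠ d := by rw [hb, hd]; exact x₀.injective.ne (by decide)
  have hcd : c ≠ d := by rw [hc, hd]; exact x₀.injective.ne (by decide)
  obtain ⟨t, hta, htb, htc, htd⟩ := hex a b c d b a c d hab hac had hbc hbd hcd hab.symm hbc hbd hac had hcd
  have htt : ∀ x : Ω, t • t • x = x := by
    have h : t * t = 1 := huniq _ _ a b c d hab hac had hbc hbd hcd
      (by rw [mul_smul, hta, htb, one_smul]) (by rw [mul_smul, htb, hta, one_smul])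
      (by rw [mul_smul, htc, htc, one_smul]) (by rw [mul_smul, htd, htd, one_smul])
    intro x; rw [← mul_smul, h, one_smul]
  obtain ⟨F, hF⟩ : ∃ F : Set Ω, ∀ x, x ∈ F ↔ t • x = x := ⟨{x | t • x = x}, fun x => Iff.rfl⟩
  have hFsub : (F \ {c, d}).Subsingleton := by
    intro e he e' he'
    by_contra hne
    obtain ⟨he1, he2⟩ := he
    obtain ⟨he1', he2'⟩ := he'
    simp only [Set.mem_insert_iff, Set.mem_singleton_iff, not_or] at he2 he2'
    have h1 : t = 1 := huniq _ _ c d e e' hcd (Ne.symm he2.1) (Ne.symm he2'.1) (Ne.symm he2.2) (Ne.symm he2'.2) hne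
      (by rw [htc, one_smul]) (by rw [htd, one_smul]) (by rw [(hF e).1 he1, one_smul]) (by rw [(hF e').1 he1', one_smul])
    rw [h1, one_smul] at hta
    exact hab hta
  have hFfin : F.Finite :=
    ((hFsub.finite).union ((Set.finite_singleton d).insert c)).subset fun x hx => by
      by_cases h : x ∈ ({c, d} : Set Ω)
      · exact Or.inr h
      · exact Or.inl ⟨hx, h⟩
  obtain ⟨Ff, hFf⟩ : ∃ Ff : Finset Ω, ∀ x, x ∈ Ff ↔ t • x = x :=
    ⟨hFfin.toFinset, fun x => by rw [Set.Finite.mem_toFinset, hF]⟩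
  have hFcard : Ff.card ≤ 3 := by
    have hsub : Ff ⊆ {c, d} ∪ (hFsub.finite).toFinset := fun x hx => by
      by_cases h : x = c ∨ x = d
      · exact Finset.mem_union_left _ (by simpa using h)
      · exact Finset.mem_union_right _ ((Set.Finite.mem_toFinset _).2
          ⟨(hF x).2 ((hFf x).1 hx), by simpa using h⟩)
    refine (Finset.card_le_card hsub).trans ((Finset.card_union_le _ _).trans ?_)
    have h1 : ({c, d} : Finset Ω).card ≤ 2 := Finset.card_le_two
    have h2 : (hFsub.finite).toFinset.card ≤ 1 := Finset.card_le_one.2 fun u hu v hv =>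
      hFsub ((Set.Finite.mem_toFinset _).1 hu) ((Set.Finite.mem_toFinset _).1 hv)
    omega
  have hcF : c ∈ Ff := (hFf c).2 htc
  have hdF : d ∈ Ff := (hFf d).2 htd
  -- the other moved points
  obtain ⟨Y, hY⟩ : ∃ Y : Set Ω, ∀ x, x ∈ Y ↔ t • x ≠ x ∧ x ≠ a ∧ x ≠ b :=
    ⟨{x | t • x ≠ x ∧ x ≠ a ∧ x ≠ b}, fun x => Iff.rfl⟩
  have hmv : ∀ y ∈ Y, a ≠ y ∧ a ≠ t • y ∧ b ≠ y ∧ b ≠ t • y ∧ y ≠ t • y := by
    intro y hy
    obtain ⟨h1, h2, h3⟩ := (hY y).1 hy
    refine ⟨Ne.symm h2, fun h => h3 ?_, Ne.symm h3, fun h => h2 ?_, Ne.symm h1⟩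
    · rw [← hta, h, htt]
    · rw [← htb, h, htt]
  have hYfin : Y.Finite ∧ Y.ncard ≤ Ff.card * Ff.card - Ff.card := by
    rcases Y.eq_empty_or_nonempty with h | ⟨y₀, hy₀⟩
    · rw [h]; exact ⟨Set.finite_empty, by simp⟩
    obtain ⟨h01, h02, h03, h04, h05⟩ := hmv y₀ hy₀
    have hchoose : ∀ y : Y, ∃ g : G, g • a = a ∧ g • b = b ∧ g • y₀ = (y : Ω) ∧ g * t = t * g := by
      intro y
      obtain ⟨k1, k2, k3, k4, k5⟩ := hmv y y.2
      obtain ⟨g, g1, g2, g3, g4⟩ := hex a b y₀ (t • y₀) a b (y : Ω) (t • (y : Ω)) hab h01 h02 h03 h04 h05 hab k1 k2 k3 k4 k5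
      refine ⟨g, g1, g2, g3, huniq _ _ a b y₀ (t • y₀) hab h01 h02 h03 h04 h05 ?_ ?_ ?_ ?_⟩
      · rw [mul_smul, mul_smul, hta, g2, g1, hta]
      · rw [mul_smul, mul_smul, htb, g1, g2, htb]
      · rw [mul_smul, mul_smul, g4, g3]
      · rw [mul_smul, mul_smul, g4, htt, g3, htt]
    choose g g1 g2 g3 g4 using hchoose
    have hfix : ∀ (y : Y) (u : Ω), t • u = u → t • (g y • u) = g y • u := fun y u hu => by
      rw [← mul_smul, ← g4, mul_smul, hu]
    obtain ⟨φ, hφ⟩ : ∃ φ : Y → Ff.offDiag, ∀ y, (φ y : Ω × Ω) = (g y • c, g y • d) :=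
      ⟨fun y => ⟨(g y • c, g y • d), Finset.mem_offDiag.2 ⟨(hFf _).2 (hfix y c htc), (hFf _).2 (hfix y d htd),
        fun h => hcd (MulAction.injective _ h)⟩⟩, fun y => rfl⟩
    have hinj : Function.Injective φ := by
      intro y y' h
      have h' := congrArg Subtype.val h
      rw [hφ, hφ, Prod.mk.injEq] at h'
      have hg : g y = g y' := huniq _ _ a b c d hab hac had hbc hbd hcd
        (by rw [g1, g1]) (by rw [g2, g2]) h'.1 h'.2
      exact Subtype.ext (by rw [← g3 y, hg, g3])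
    haveI : Finite Y := Finite.of_injective φ hinj
    refine ⟨Set.toFinite Y, ?_⟩
    rw [← Nat.card_coe_set_eq]
    refine (Nat.card_le_card_of_injective φ hinj).trans ?_
    rw [Nat.card_eq_fintype_card, Fintype.card_coe, Finset.offDiag_card]
  have huniv : (Set.univ : Set Ω) = (Ff : Set Ω) ∪ {a, b} ∪ Y := by
    refine (Set.eq_univ_of_forall fun x => ?_).symm
    by_cases h1 : t • x = x
    · exact Or.inl (Or.inl ((hFf x).2 h1))
    · by_cases h2 : x = a ∨ x = b
      · exact Or.inl (Or.inr (by simpa using h2))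
      · push Not at h2
        exact Or.inr ((hY x).2 ⟨h1, h2⟩)
  have hfinite : Finite Ω := Set.finite_univ_iff.1 (by
    rw [huniv]; exact ((Ff.finite_toSet.union ((Set.finite_singleton b).insert a)).union hYfin.1))
  have hn : Nat.card Ω ≤ Ff.card + 2 + (Ff.card * Ff.card - Ff.card) := by
    rw [← Set.ncard_univ, huniv]
    refine (Set.ncard_union_le _ _).trans (add_le_add ((Set.ncard_union_le _ _).trans ?_) hYfin.2)
    rw [Set.ncard_coe_finset, Set.ncard_pair hab]
  have hF2 : 2 ≤ Ff.card := by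
    have h := Finset.card_le_card (show ({c, d} : Finset Ω) ⊆ Ff by
      simp [Finset.insert_subset_iff, hcF, hdF])
    rwa [Finset.card_pair hcd] at h
  refine ⟨hfinite, ?_, fun heven => ?_⟩
  · interval_cases Ff.card <;> omega
  · haveI := Fintype.ofFinite Ω
    have hodd : 2 ∣ ((MulAction.toPerm t : Equiv.Perm Ω)).support.card :=
      Equiv.Perm.two_dvd_card_support (Equiv.ext fun x => by
        rw [sq, Equiv.Perm.mul_apply]
        exact htt x)
    have hsupp : (MulAction.toPerm t : Equiv.Perm Ω).support = Ffᶜ := by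
      ext x
      rw [Equiv.Perm.mem_support, Finset.mem_compl, hFf]
      rfl
    rw [hsupp, Finset.card_compl] at hodd
    rw [Nat.card_eq_fintype_card] at heven hn ⊢
    have hle : Ff.card ≤ Fintype.card Ω := Finset.card_le_univ _
    obtain ⟨m, hm⟩ := heven
    interval_cases Ff.card <;> omega

end Cfsg.Agent.S0708
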