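import Cfsg.Statements.S0710
import Mathlib
import Cfsg.Agent.Lib.Perm.Groups.PrimeNormalizer

set_option autoImplicit false
open Cfsg

namespace Cfsg.Agent.S0710

/-- No transitive permutation group on 13 points has order `13 * 12 * 11 * 10 * 9 * 8`. -/
theorem result {α : Type*} [Fintype α] [DecidableEq α] (hα : Fintype.card α = 13) (G : Subgroup (Equiv.Perm α)) [MulAction.IsPretransitive G α] : Nat.card G ≠ 13 * 12 * 11 * 10 * 9 * 8 := by
  intro hcard
  haveI : Fact (Nat.Prime 13) := ⟨by norm_num⟩
  obtain ⟨P⟩ : Nonempty (Sylow 13 G) := inferInstance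
  have hP : Nat.card (P : Subgroup G) = 13 := by
    rw [Sylow.card_eq_multiplicity, hcard, Nat.factorization_def _ (by norm_num : Nat.Prime 13),
      show 13 * 12 * 11 * 10 * 9 * 8 = 13 * 95040 by norm_num, padicValNat.mul (by norm_num) (by norm_num),
      padicValNat.self (by norm_num), padicValNat.eq_zero_of_not_dvd (by norm_num : ¬ 13 ∣ 95040)]
    norm_num
  have hPS : Nat.card ((P : Subgroup G).map G.subtype) = 13 := by
    rw [← Nat.card_congr (Subgroup.equivMapOfInjective _ _ G.subtype_injective).toEquiv, hP]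
  have hN : Nat.card (Subgroup.normalizer ((P : Subgroup G) : Set G)) ∣ 13 * 12 := by
    have h := CfsgLib.Perm.Groups.card_normalizer_of_card_prime (α := α) (by omega) _ hPS
    rw [hα] at h
    have hle := Subgroup.le_normalizer_map (H := (P : Subgroup G)) G.subtype
    have h2 := Subgroup.card_dvd_of_le hle
    rw [← Nat.card_congr (Subgroup.equivMapOfInjective _ _ G.subtype_injective).toEquiv] at h2
    rw [h] at h2
    simpa using h2
  have hidx := (Subgroup.normalizer ((P : Subgroup G) : Set G)).card_mul_index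
  have hsyl : Nat.card (Sylow 13 G) = (Subgroup.normalizer ((P : Subgroup G) : Set G)).index :=
    P.card_eq_index_normalizer
  rw [← hsyl, hcard] at hidx
  have hmod := card_sylow_modEq_one 13 G
  obtain ⟨c, hc⟩ : 13 ∣ Nat.card (Subgroup.normalizer ((P : Subgroup G) : Set G)) :=
    by
      have h1 := Subgroup.card_dvd_of_le (Subgroup.le_normalizer (H := (P : Subgroup G)))
      rwa [hP] at h1
  have hc12 : c ∣ 12 := by
    rw [hc] at hN
    exact Nat.dvd_of_mul_dvd_mul_left (by norm_num) hN
  rw [hc] at hidx
  have hcle : c ≤ 12 := Nat.le_of_dvd (by norm_num) hc12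
  rw [Nat.ModEq] at hmod
  interval_cases c <;> omega

end Cfsg.Agent.S0710
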