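import Cfsg.Statements.S0712
import Mathlib
import Cfsg.Agent.Lib.Perm.Groups.RegularNormal

set_option autoImplicit false
open Cfsg

namespace Cfsg.Agent.S0712

/-- Jordan: a primitive group in which the pointwise stabiliser of a set `s` is doubly transitive on the complement of `s` (which has at least 2 points) is `(|s| + 2)`-transitive. -/
theorem result {α : Type*} [Fintype α] [DecidableEq α] (G : Subgroup (Equiv.Perm α)) (hG : MulAction.IsPreprimitive G α) (s : Set α) {m : ℕ} (hsm : s.ncard = m) (hm : m + 2 ≤ Fintype.card α) (h2 : MulAction.IsMultiplyPretransitive (fixingSubgroup G s) (SubMulAction.ofFixingSubgroup G s) 2) : MulAction.IsMultiplyPretransitive G α (m + 2) := by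
  classical
  have hGm : MulAction.IsMultiplyPretransitive G α m := by
    rcases Nat.eq_zero_or_pos m with rfl | hm0
    · exact MulAction.is_zero_pretransitive
    · obtain ⟨n, rfl⟩ : ∃ n, m = n + 1 := ⟨m - 1, by omega⟩
      have h := hG.isMultiplyPreprimitive (n := n) hsm (by rw [Nat.card_eq_fintype_card]; omega)
        (MulAction.isPreprimitive_of_is_two_pretransitive h2)
      haveI := h.isMultiplyPretransitive
      exact MulAction.isMultiplyPretransitive_of_le (n := n + 2) (by omega)
        (by rw [Nat.card_eq_fintype_card]; omega)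
  let e : Fin m ≃ ↥s.toFinset := (Fintype.equivFinOfCardEq (by
    rw [Fintype.card_coe, ← Set.ncard_eq_toFinset_card', hsm])).symm
  have he : Function.Injective (fun i => (e i : α)) := Subtype.val_injective.comp e.injective
  rw [MulAction.isMultiplyPretransitive_iff]
  intro x y
  obtain ⟨g₀, hg₀⟩ := CfsgLib.Perm.Groups.exists_smul_tuple hGm (x := fun i => x (Fin.castAdd 2 i))
    (y := fun i => (e i : α)) (x.injective.comp (Fin.castAdd_injective _ _)) he
  obtain ⟨g₁, hg₁⟩ := CfsgLib.Perm.Groups.exists_smul_tuple hGm (x := fun i => y (Fin.castAdd 2 i))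
    (y := fun i => (e i : α)) (y.injective.comp (Fin.castAdd_injective _ _)) he
  have hout : ∀ (g : G) (z : Fin (m + 2) ↪ α), (∀ i, g • z (Fin.castAdd 2 i) = e i) → ∀ j : Fin 2,
      g • z (Fin.natAdd m j) ∈ SubMulAction.ofFixingSubgroup G s := by
    intro g z hz j
    rw [SubMulAction.mem_ofFixingSubgroup_iff]
    intro hmem
    obtain ⟨i, hi⟩ := e.surjective ⟨_, Set.mem_toFinset.2 hmem⟩
    have h1 : g • z (Fin.castAdd 2 i) = g • z (Fin.natAdd m j) := (hz i).trans (congrArg Subtype.val hi)
    have h2' := congrArg Fin.val (z.injective (MulAction.injective g h1))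
    simp only [Fin.val_castAdd, Fin.val_natAdd] at h2'
    have := i.2
    omega
  obtain ⟨h, hh⟩ := CfsgLib.Perm.Groups.exists_smul_tuple h2
    (x := fun j => ⟨g₀ • x (Fin.natAdd m j), hout g₀ x hg₀ j⟩)
    (y := fun j => ⟨g₁ • y (Fin.natAdd m j), hout g₁ y hg₁ j⟩)
    (fun i j hij => Fin.natAdd_injective _ _ (x.injective (MulAction.injective g₀ (congrArg Subtype.val hij))))
    (fun i j hij => Fin.natAdd_injective _ _ (y.injective (MulAction.injective g₁ (congrArg Subtype.val hij))))
  refine ⟨g₁⁻¹ * (h : G) * g₀, ?_⟩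
  ext i
  show (g₁⁻¹ * (h : G) * g₀) • x i = y i
  rw [mul_smul, mul_smul, inv_smul_eq_iff]
  refine Fin.addCases (fun i => ?_) (fun j => ?_) i
  · rw [hg₀, hg₁]
    exact (mem_fixingSubgroup_iff G).1 h.2 _ (Set.mem_toFinset.1 (e i).2)
  · exact congrArg Subtype.val (hh j)

end Cfsg.Agent.S0712
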