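import Cfsg.Statements.S0721
import Mathlib
import Cfsg.Agent.Lib.Perm.Groups.PowerSimple
-- import your own Cfsg.Agent.* helpers here

set_option autoImplicit false
open Cfsg

namespace Cfsg.Agent.S0721

/-- A minimal normal subgroup of a finite group is isomorphic to a direct power `T ^ m` of a simple group `T` (possibly of prime order). -/
theorem result {H : Type*} [Group H] [Finite H] (N : Subgroup H) [N.Normal] (hN : N ≠ ⊥) (hmin : ∀ M : Subgroup H, M.Normal → M ≤ N → M = ⊥ ∨ M = N) : ∃ (T : Type) (_ : Group T) (m : ℕ), IsSimpleGroup T ∧ 0 < m ∧ Nonempty (N ≃* (Fin m → T)) := by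
  haveI : Nontrivial N := (Subgroup.nontrivial_iff_ne_bot N).2 hN
  obtain ⟨S, iS, hS, n, hn, he⟩ := CfsgLib.Perm.Groups.exists_power_of_charSimple (G := N) fun K hK => by
    haveI : (K.map N.subtype).Normal := ConjAct.normal_of_characteristic_of_normal
    rcases hmin _ inferInstance (Subgroup.map_subtype_le K) with h | h
    · exact Or.inl ((Subgroup.map_eq_bot_iff_of_injective K N.subtype_injective).1 h)
    · refine Or.inr (Subgroup.map_injective N.subtype_injective (h.trans ?_))
      rw [← MonoidHom.range_eq_map, Subgroup.range_subtype]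
  exact ⟨S, iS, n, hS, hn, he⟩

end Cfsg.Agent.S0721
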