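import Cfsg.Statements.S0723
-- import your own Cfsg.Agent.* helpers here
import Mathlib
import Cfsg.Agent.Lib.Perm.Groups.ScottLemma
import Cfsg.Agent.S0721
import Cfsg.Agent.S0722

set_option autoImplicit false
set_option linter.all false
open Cfsg

namespace Cfsg.Agent.S0723

/-- The core of the O'Nan–Scott Theorem. Let `H` be a primitive permutation group on a finite set whose unique minimal normal subgroup `N` is non-abelian, and `K` a point stabiliser. Then there are a non-abelian simple group `T` and an isomorphism `N ≃* T^m` (`m ≥ 1`) under which `K ⊓ N` becomes either a product `∏ K_i` of proper subgroups `K_i < T`, or the set of functions constant on each block of a partition of the index set into blocks of one common size `k ≥ 2`. -/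
theorem result {α : Type*} [Finite α] (H : Subgroup (Equiv.Perm α)) [MulAction.IsPreprimitive H α] (N : Subgroup H) [N.Normal] (hN : N ≠ ⊥) (hmin : ∀ M : Subgroup H, M.Normal → M ≤ N → M = ⊥ ∨ M = N) (huniq : ∀ L : Subgroup H, L.Normal → L ≠ ⊥ → (∀ M : Subgroup H, M.Normal → M ≤ L → M = ⊥ ∨ M = L) → L = N) (hnab : ¬ IsMulCommutative N) (a : α) : ∃ (T : Type) (_ : Group T) (m : ℕ) (e : N ≃* (Fin m → T)), IsSimpleGroup T ∧ ¬ IsMulCommutative T ∧ 0 < m ∧ ((∃ K : Fin m → Subgroup T, (∀ i, K i ≠ ⊤) ∧ ∀ n : N, (n : H) ∈ MulAction.stabilizer H a ↔ ∀ i, e n i ∈ K i) ∨ (∃ (k : ℕ) (c : Fin m → Fin m), 2 ≤ k ∧ (∀ j : Fin m, Nat.card {i : Fin m // c i = j} = k ∨ Nat.card {i : Fin m // c i = j} = 0) ∧ ∀ n : N, (n : H) ∈ MulAction.stabilizer H a ↔ ∀ i j : Fin m, c i = c j → e n i = e n j)) := by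
  classical
  haveI : Nontrivial α := by
    by_contra h
    rw [not_nontrivial_iff_subsingleton] at h
    exact hN ((Subgroup.eq_bot_iff_forall N).2 fun n _ => Subtype.ext (Equiv.ext fun x => Subsingleton.elim _ _))
  obtain ⟨T, _, m, hT, hm, ⟨e⟩⟩ := Cfsg.Agent.S0721.result N hN hmin
  haveI := hT
  have hTn : ¬ IsMulCommutative T := fun hc => hnab ⟨⟨fun x y => e.injective (funext fun i => by
    simp only [map_mul, Pi.mul_apply]
    exact hc.is_comm.comm _ _)⟩⟩
  obtain ⟨A, hA⟩ : ∃ A, A = MulAction.stabilizer H a := ⟨_, rfl⟩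
  -- the socle is transitive
  have hfp : MulAction.fixedPoints N α ≠ Set.univ := fun h => hN ((Subgroup.eq_bot_iff_forall N).2 fun n hn => by
    refine Subtype.ext (Equiv.ext fun x => ?_)
    exact (h.ge (Set.mem_univ x) : x ∈ MulAction.fixedPoints N α) ⟨n, hn⟩)
  haveI : MulAction.IsPretransitive N α := MulAction.IsQuasiPreprimitive.isPretransitive_of_normal hfp
  have hdec : ∀ h : H, ∃ n : N, ∃ b ∈ A, h = (n : H) * b := fun h => by
    obtain ⟨n, hn⟩ := MulAction.exists_smul_eq N a (h • a)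
    refine ⟨n, (n : H)⁻¹ * h, hA ▸ ?_, by group⟩
    rw [MulAction.mem_stabilizer_iff, mul_smul, ← hn]
    exact inv_smul_smul (n : H) a
  obtain ⟨φ, hφ⟩ : ∃ φ : H → ((Fin m → T) ≃* (Fin m → T)), ∀ h x, φ h x = e (MulAut.conjNormal h (e.symm x)) :=
    ⟨fun h => e.symm.trans ((MulAut.conjNormal h).trans e), fun h x => rfl⟩
  choose σ β hσ using fun h => CfsgLib.Perm.Scott.exists_perm hTn (φ h)
  -- subgroups of the power invariant under the point stabiliser
  have hsub : ∀ S : Subgroup (Fin m → T), ((S.comap e.toMonoidHom).map N.subtype) ≤ N :=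
    fun S => Subgroup.map_subtype_le _
  have hinv : ∀ S : Subgroup (Fin m → T), (∀ h ∈ A, ∀ x ∈ S, φ h x ∈ S) →
      A ≤ Subgroup.normalizer (((S.comap e.toMonoidHom).map N.subtype : Subgroup H) : Set H) := by
    intro S hS h hh
    have h1 : ∀ h ∈ A, ∀ w ∈ (S.comap e.toMonoidHom).map N.subtype, h * w * h⁻¹ ∈ (S.comap e.toMonoidHom).map N.subtype := by
      rintro h hh _ ⟨n, hn, rfl⟩
      refine ⟨MulAut.conjNormal h n, ?_, MulAut.conjNormal_apply h n⟩
      show e (MulAut.conjNormal h n) ∈ S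
      have := hS h hh (e n) hn
      rwa [hφ, e.symm_apply_apply] at this
    rw [Subgroup.mem_normalizer_iff]
    intro w
    refine ⟨h1 h hh w, fun hw => ?_⟩
    have h2 := h1 h⁻¹ (A.inv_mem hh) _ hw
    simpa [mul_assoc] using h2
  -- transitivity on the factors
  have htrans : ∀ i j, ∃ h ∈ A, σ h i = j := by
    intro i j
    obtain ⟨O, hO⟩ : ∃ O : Set (Fin m), O = {k | ∃ h ∈ A, σ h i = k} := ⟨_, rfl⟩
    obtain ⟨u, hu⟩ := exists_ne (1 : T)
    have hσmul : ∀ h h' k, σ (h * h') k = σ h (σ h' k) := by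
      intro h h' k
      by_contra hne
      have e1 : φ (h * h') (Pi.mulSingle k u) = φ h (φ h' (Pi.mulSingle k u)) := by
        simp [hφ, map_mul]
      have e2 := congrFun e1 (σ (h * h') k)
      rw [hσ, Pi.mulSingle_eq_same] at e2
      obtain ⟨l, hl⟩ := (σ h).surjective (σ (h * h') k)
      rw [← hl, hσ] at e2
      obtain ⟨l', hl'⟩ := (σ h').surjective l
      rw [← hl', hσ, Pi.mulSingle_eq_of_ne (fun hk => hne (by rw [← hl, ← hl', hk])), map_one, map_one] at e2
      exact hu (by simpa using e2)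
    have hOinv : ∀ h ∈ A, ∀ k, σ h k ∈ O → k ∈ O := by
      intro h hh k hk
      rw [hO] at hk ⊢
      obtain ⟨h', hh', hk'⟩ := hk
      refine ⟨h⁻¹ * h', A.mul_mem (A.inv_mem hh) hh', (σ h).injective ?_⟩
      rw [← hσmul, mul_inv_cancel_left, hk']
    obtain ⟨S, hS⟩ : ∃ S : Subgroup (Fin m → T), ∀ x, x ∈ S ↔ ∀ k ∉ O, x k = 1 :=
      ⟨Subgroup.pi Oᶜ fun _ => ⊥, fun x => by simp [Subgroup.mem_pi]⟩
    have hSinv : ∀ h ∈ A, ∀ x ∈ S, φ h x ∈ S := by
      intro h hh x hx
      rw [hS] at hx ⊢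
      intro k hk
      obtain ⟨l, rfl⟩ := (σ h).surjective k
      rw [hσ, hx l (fun hl => hk ?_), map_one]
      rw [hO] at hl ⊢
      obtain ⟨h', hh', hl'⟩ := hl
      exact ⟨h * h', A.mul_mem hh hh', by rw [hσmul, hl']⟩
    have hSn : S.Normal := ⟨fun x hx g => (hS _).2 fun k hk => by simp [(hS x).1 hx k hk]⟩
    have hMn : ((S.comap e.toMonoidHom).map N.subtype).Normal := by
      refine ⟨fun w hw h => ?_⟩
      obtain ⟨n, b, hb, rfl⟩ := hdec h
      have h1 : b * w * b⁻¹ ∈ (S.comap e.toMonoidHom).map N.subtype :=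
        (Subgroup.mem_normalizer_iff.1 (hinv S hSinv hb) w).1 hw
      obtain ⟨v, hv, hve⟩ := h1
      refine ⟨n * v * n⁻¹, (hSn.comap e.toMonoidHom).conj_mem v hv n, ?_⟩
      rw [map_mul, map_mul, map_inv, hve, Subgroup.coe_subtype]
      group
    have hi : i ∈ O := hO ▸ ⟨1, A.one_mem, by
      have h1 : φ 1 (Pi.mulSingle i u) = Pi.mulSingle i u := by simp [hφ]
      by_contra hne
      have h2 := congrFun h1 (σ 1 i)
      rw [hσ, Pi.mulSingle_eq_same, Pi.mulSingle_eq_of_ne hne] at h2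
      exact hu (by simpa using h2)⟩
    rcases hmin _ hMn (hsub S) with h0 | h0
    · exfalso
      have hmem : (N.subtype (e.symm (Pi.mulSingle i u))) ∈ (S.comap e.toMonoidHom).map N.subtype :=
        ⟨_, by
          show e (e.symm (Pi.mulSingle i u)) ∈ S
          rw [e.apply_symm_apply, hS]
          intro k hk
          have hki : k ≠ i := fun h => hk (h ▸ hi)
          rw [Pi.mulSingle_eq_of_ne hki], rfl⟩
      rw [h0, Subgroup.mem_bot, Subgroup.coe_subtype, OneMemClass.coe_eq_one, MulEquiv.map_eq_one_iff] at hmem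
      exact hu (by simpa using congrFun hmem i)
    · have hmem : (N.subtype (e.symm (Pi.mulSingle j u))) ∈ (S.comap e.toMonoidHom).map N.subtype := by
        rw [h0]; exact Subtype.mem _
      obtain ⟨v, hv, hve⟩ := hmem
      rw [N.subtype_injective hve] at hv
      have hv' : e (e.symm (Pi.mulSingle j u)) ∈ S := hv
      rw [e.apply_symm_apply, hS] at hv'
      by_contra hj
      have := hv' j (fun hjO => hj (by rw [hO] at hjO; exact hjO))
      simp at this
      exact hu this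
  -- the trace of the stabiliser
  obtain ⟨K, hK⟩ : ∃ K : Subgroup (Fin m → T), ∀ n : N, e n ∈ K ↔ (n : H) ∈ A :=
    ⟨(A.subgroupOf N).map e.toMonoidHom, fun n => by
      simp [Subgroup.mem_map, Subgroup.mem_subgroupOf]⟩
  have hKinv : ∀ h ∈ A, ∀ x ∈ K, φ h x ∈ K := by
    intro h hh x hx
    rw [hφ, hK, MulAut.conjNormal_apply]
    refine A.mul_mem (A.mul_mem hh ?_) (A.inv_mem hh)
    rw [← hK, e.apply_symm_apply]
    exact hx
  obtain ⟨R, hR⟩ : ∃ R : Fin m → Subgroup T, ∀ i, R i = K.map (Pi.evalMonoidHom (fun _ : Fin m => T) i) := ⟨_, fun i => rfl⟩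
  have hRmove : ∀ h ∈ A, ∀ i, R i ≤ (R (σ h i)).comap (β h i).toMonoidHom := by
    intro h hh i t ht
    rw [hR] at ht
    obtain ⟨x, hx, rfl⟩ := ht
    rw [Subgroup.mem_comap, hR]
    exact ⟨φ h x, hKinv h hh x hx, hσ h x i⟩
  refine ⟨T, inferInstance, m, ?_⟩
  by_cases hall : ∀ i, R i ≠ ⊤
  · refine ⟨e, hT, hTn, hm, Or.inl ⟨R, hall, fun n => ?_⟩⟩
    obtain ⟨S, hS⟩ : ∃ S : Subgroup (Fin m → T), ∀ x, x ∈ S ↔ ∀ i, x i ∈ R i :=
      ⟨Subgroup.pi Set.univ R, fun x => by simp [Subgroup.mem_pi]⟩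
    have hSinv : ∀ h ∈ A, ∀ x ∈ S, φ h x ∈ S := by
      intro h hh x hx
      rw [hS] at hx ⊢
      intro k
      obtain ⟨l, rfl⟩ := (σ h).surjective k
      rw [hσ]
      exact hRmove h hh l (hx l)
    have hKS : K ≤ S := fun x hx => (hS x).2 fun i => hR i ▸ ⟨x, hx, rfl⟩
    rw [← hA]
    refine ⟨fun hn i => (hS _).1 (hKS ((hK n).2 hn)) i, fun hn => ?_⟩
    rcases Cfsg.Agent.S0722.result H N hN hmin a ((S.comap e.toMonoidHom).map N.subtype) (hsub S) (fun w hw => by
        rw [← hA] at hw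
        exact ⟨⟨w, hw.2⟩, hKS ((hK _).2 hw.1), rfl⟩) (hA ▸ hinv S hSinv) with h | h
    · have hmem : (n : H) ∈ (S.comap e.toMonoidHom).map N.subtype := ⟨n, (hS _).2 hn, rfl⟩
      rw [h, ← hA] at hmem
      exact hmem.1
    · exfalso
      refine hall ⟨0, hm⟩ (eq_top_iff.2 fun t _ => ?_)
      have hmem : (N.subtype (e.symm (Pi.mulSingle ⟨0, hm⟩ t))) ∈ (S.comap e.toMonoidHom).map N.subtype := by
        rw [h]; exact Subtype.mem _
      obtain ⟨v, hv, hve⟩ := hmem
      rw [N.subtype_injective hve] at hv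
      have hv' : e (e.symm (Pi.mulSingle ⟨0, hm⟩ t)) ∈ S := hv
      rw [e.apply_symm_apply, hS] at hv'
      simpa using hv' ⟨0, hm⟩
  · push Not at hall
    obtain ⟨i₀, hi₀⟩ := hall
    have htop : ∀ i t, ∃ x ∈ K, x i = t := by
      intro i t
      obtain ⟨h, hh, rfl⟩ := htrans i₀ i
      obtain ⟨s, rfl⟩ := (β h i₀).surjective t
      have := hRmove h hh i₀ (hi₀ ▸ Subgroup.mem_top s)
      rw [Subgroup.mem_comap, hR] at this
      obtain ⟨x, hx, hxe⟩ := this
      exact ⟨x, hx, hxe⟩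
    obtain ⟨c, γ, hc, hdiag⟩ := CfsgLib.Perm.Scott.subdirect_eq_diagonals hTn htop
    refine ⟨e.trans (MulEquiv.piCongrRight γ), hT, hTn, hm, Or.inr ?_⟩
    have hrel : ∀ h ∈ A, ∀ i j, c i = c j → c (σ h i) = c (σ h j) := by
      intro h hh i j hij
      refine (hc _ _).2 fun x hx hx1 => ?_
      have h1 := hKinv h⁻¹ (A.inv_mem hh) x hx
      obtain ⟨y, hy, hyx⟩ : ∃ y ∈ K, φ h y = x := ⟨_, h1, by simp [hφ]⟩
      subst hyx
      rw [hσ] at hx1 ⊢
      rw [((hc i j).1 hij) y hy ((β h i).map_eq_one_iff.1 hx1), map_one]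
    have hcls : ∀ i h, h ∈ A → Nat.card {j // c j = c i} ≤ Nat.card {j // c j = c (σ h i)} := fun i h hh =>
      Nat.card_le_card_of_injective (fun j => (⟨σ h j.1, hrel h hh _ _ j.2⟩ : {j // c j = c (σ h i)}))
        (fun j j' hjj => Subtype.ext ((σ h).injective (congrArg Subtype.val hjj)))
    have hconst : ∀ i j, Nat.card {l // c l = c i} = Nat.card {l // c l = c j} := fun i j => by
      obtain ⟨h, hh, rfl⟩ := htrans i j
      obtain ⟨h', hh', hji⟩ := htrans (σ h i) i
      exact le_antisymm (hcls i h hh) ((hcls (σ h i) h' hh').trans (le_of_eq (by rw [hji])))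
    refine ⟨Nat.card {l // c l = c ⟨0, hm⟩}, c, ?_, fun j => ?_, fun n => ?_⟩
    · by_contra hk
      have hinjc : Function.Injective c := by
        intro i j hij
        by_contra hne
        refine hk ((Finite.one_lt_card_iff_nontrivial.2 ⟨⟨i, rfl⟩, ⟨j, hij.symm⟩, fun h => hne (congrArg Subtype.val h)⟩).trans_le
          (le_of_eq (hconst i ⟨0, hm⟩)) : 1 < _)
      refine hfp (Set.eq_univ_of_forall fun x n => ?_)
      obtain ⟨g, hg⟩ := MulAction.exists_smul_eq N a x
      have hall' : ∀ w : N, (w : H) • a = a := fun w => by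
        have : e w ∈ K := (hdiag _).2 fun i j hij => by rw [hinjc hij]
        rw [hK, hA] at this
        exact this
      have hx : x = a := hg.symm.trans (hall' g)
      rw [hx]
      exact hall' n
    · by_cases hj : ∃ i, c i = j
      · obtain ⟨i, rfl⟩ := hj
        exact Or.inl (hconst i _)
      · refine Or.inr ?_
        haveI : IsEmpty {i // c i = j} := ⟨fun i => hj ⟨i.1, i.2⟩⟩
        exact Nat.card_of_isEmpty
    · rw [← hA, ← hK, hdiag]
      rfl

end Cfsg.Agent.S0723
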