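import Cfsg.Statements.S0724
import Cfsg.Agent.Lib.Perm.Groups.Transit
-- import your own Cfsg.Agent.* helpers here

set_option autoImplicit false
open Cfsg

namespace Cfsg.Agent.S0724

/-- Blichfeldt's Theorem: if a finite set `L` of natural numbers contains the number of fixed points of every non-identity element of a permutation group `G` of degree `n`, then the order of `G` divides `∏ (n - l)` over `l ∈ L`. -/
theorem result {α : Type*} [Fintype α] [DecidableEq α] (G : Subgroup (Equiv.Perm α)) (L : Finset ℕ) (hL : ∀ g ∈ G, g ≠ 1 → Nat.card (MulAction.fixedBy α g) ∈ L) : Nat.card G ∣ ∏ l ∈ L, (Fintype.card α - l) := by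
  classical
  have key : ∀ (L' : Finset ℕ) (j : ℕ), (Nat.card G : ℤ) ∣
      ∑ g : G, (Nat.card (MulAction.fixedBy α g) : ℤ) ^ j *
        ∏ l ∈ L', ((Nat.card (MulAction.fixedBy α g) : ℤ) - l) := by
    intro L'
    induction L' using Finset.induction_on with
    | empty =>
      intro j
      simpa using Int.natCast_dvd_natCast.2 (CfsgLib.Perm.Groups.dvd_sum_card_fixedBy_pow (G := G) (α := α) j)
    | @insert l L' hl ih =>
      intro j
      have h := dvd_sub (ih (j + 1)) (dvd_mul_of_dvd_right (ih j) (l : ℤ))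
      rw [Finset.mul_sum, ← Finset.sum_sub_distrib] at h
      refine Eq.mp (congrArg _ (Finset.sum_congr rfl fun g _ => ?_)) h
      rw [Finset.prod_insert hl]
      ring
  have h := key L 0
  rw [← Finset.add_sum_erase _ _ (Finset.mem_univ (1 : G))] at h
  have hzero : ∀ g ∈ (Finset.univ : Finset G).erase 1,
      (Nat.card (MulAction.fixedBy α g) : ℤ) ^ 0 * ∏ l ∈ L, ((Nat.card (MulAction.fixedBy α g) : ℤ) - l) = 0 := by
    intro g hg
    have hne : (g : Equiv.Perm α) ≠ 1 := fun e => Finset.ne_of_mem_erase hg (Subtype.ext e)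
    have hmem := hL (g : Equiv.Perm α) g.2 hne
    rw [show MulAction.fixedBy α (g : Equiv.Perm α) = MulAction.fixedBy α g from rfl] at hmem
    rw [Finset.prod_eq_zero hmem (sub_self _), mul_zero]
  rw [Finset.sum_eq_zero hzero, add_zero, pow_zero, one_mul] at h
  have h1 : (Nat.card (MulAction.fixedBy α (1 : G)) : ℕ) = Fintype.card α := by
    rw [MulAction.fixedBy_one_eq_univ, Nat.card_coe_set_eq, Set.ncard_univ, Nat.card_eq_fintype_card]
  rw [h1] at h
  by_cases hle : ∀ l ∈ L, l ≤ Fintype.card α
  · rw [← Int.natCast_dvd_natCast, Nat.cast_prod]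
    convert h using 1
    exact Finset.prod_congr rfl fun l hl => by rw [Nat.cast_sub (hle l hl)]
  · push Not at hle
    obtain ⟨l, hl, hlt⟩ := hle
    rw [Finset.prod_eq_zero hl (by omega)]
    exact dvd_zero _

end Cfsg.Agent.S0724
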