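import Cfsg.Statements.S0726
-- import your own Cfsg.Agent.* helpers here

set_option autoImplicit false
open Cfsg

namespace Cfsg.Agent.S0726

/-- The left and right regular permutation representations of a group are each other's centralisers in the symmetric group: the centraliser of the left regular image is the right regular image, and a transitive subgroup centralising the left regular image is the whole right regular image. -/
theorem result {G : Type*} [Group G] : Subgroup.centralizer ((MulAction.toPermHom G G).range : Set (Equiv.Perm G)) = (MulAction.toPermHom Gᵐᵒᵖ G).range ∧ ∀ H : Subgroup (Equiv.Perm G), H ≤ Subgroup.centralizer ((MulAction.toPermHom G G).range : Set (Equiv.Perm G)) → MulAction.IsPretransitive H G → H = (MulAction.toPermHom Gᵐᵒᵖ G).range := by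
  have hC : ∀ c ∈ Subgroup.centralizer ((MulAction.toPermHom G G).range : Set (Equiv.Perm G)),
      ∀ x, c x = x * c 1 := fun c hc x => by
    have h := DFunLike.congr_fun (Subgroup.mem_centralizer_iff.1 hc _ ⟨x, rfl⟩) 1
    simp at h
    exact h.symm
  have hR : (MulAction.toPermHom Gᵐᵒᵖ G).range ≤
      Subgroup.centralizer ((MulAction.toPermHom G G).range : Set (Equiv.Perm G)) := by
    rintro _ ⟨m, rfl⟩
    rw [Subgroup.mem_centralizer_iff]
    rintro _ ⟨k, rfl⟩
    ext x
    simp [mul_assoc]
  have hmem : ∀ c ∈ Subgroup.centralizer ((MulAction.toPermHom G G).range : Set (Equiv.Perm G)),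
      c ∈ (MulAction.toPermHom Gᵐᵒᵖ G).range := fun c hc =>
    ⟨MulOpposite.op (c 1), Equiv.ext fun x => by rw [hC c hc x]; simp⟩
  refine ⟨le_antisymm hmem hR, fun H hH hT => le_antisymm (fun c hc => hmem c (hH hc)) ?_⟩
  rintro _ ⟨m, rfl⟩
  obtain ⟨k, hk⟩ := MulAction.exists_smul_eq H (1 : G) m.unop
  have : (k : Equiv.Perm G) = MulAction.toPermHom Gᵐᵒᵖ G m := by
    ext x
    rw [hC k (hH k.2) x, show (k : Equiv.Perm G) 1 = m.unop from hk]
    simp
  exact this ▸ k.2

end Cfsg.Agent.S0726
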