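import Cfsg.Statements.S0729
-- import your own Cfsg.Agent.* helpers here
import Cfsg.Agent.Lib.Perm.Zassenhaus.SharpThree
import Cfsg.Agent.Lib.Perm.Groups.RegularNormal

set_option autoImplicit false
open Cfsg

namespace Cfsg.Agent.S0729


/-- In a sharply triply transitive group of even degree at least 6, the two-point stabiliser `H = G_{a,b}` has a normal subgroup of index 2 that is normalised by the element `s` interchanging `a, b` and fixing a third point `c`. -/
theorem result {α : Type*} [Fintype α] [DecidableEq α] (heven : Even (Fintype.card α)) (h6 : 6 ≤ Fintype.card α) (G : Subgroup (Equiv.Perm α)) (h3 : MulAction.IsMultiplyPretransitive G α 3) (hsharp : ∀ x : Fin 3 ↪ α, MulAction.stabilizer G x = ⊥) {a b c : α} (hab : a ≠ b) (hac : a ≠ c) (hbc : b ≠ c) (s : G) (hsa : s • a = b) (hsb : s • b = a) (hsc : s • c = c) : ∃ N : Subgroup G, N ≤ MulAction.stabilizer G a ⊓ MulAction.stabilizer G b ∧ (N.subgroupOf (MulAction.stabilizer G a ⊓ MulAction.stabilizer G b)).Normal ∧ N.relIndex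 (MulAction.stabilizer G a ⊓ MulAction.stabilizer G b) = 2 ∧ ∀ n ∈ N, s * n * s⁻¹ ∈ N := by
  classical
  have hthree : ∀ g : G, ∀ x y z : α, x ≠ y → y ≠ z → x ≠ z → g • x = x → g • y = y → g • z = z → g = 1 := by
    intro g x y z hxy hyz hxz hx hy hz
    have h : g ∈ MulAction.stabilizer G (⟨![x, y, z], CfsgLib.Perm.Groups.injective_three hxy hxz hyz⟩ : Fin 3 ↪ α) := by
      rw [MulAction.mem_stabilizer_iff]
      ext i
      fin_cases i <;> assumption
    rwa [hsharp, Subgroup.mem_bot] at h
  haveI : MulAction.IsMultiplyPretransitive G α 3 := h3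
  have h2 : MulAction.IsMultiplyPretransitive G α 2 :=
    MulAction.isMultiplyPretransitive_of_le (n := 3) (by omega) (by rw [Nat.card_eq_fintype_card]; omega)
  have he : Nat.card ↥(MulAction.stabilizer G a ⊓ MulAction.stabilizer G b) + 2 = Fintype.card α := by
    have hne : ∀ d : ↥(MulAction.stabilizer G a ⊓ MulAction.stabilizer G b), (d : G) • c ≠ a ∧ (d : G) • c ≠ b :=
      fun d => ⟨fun e => hac (smul_left_cancel _ (d.2.1.trans e.symm)), fun e => hbc (smul_left_cancel _ (d.2.2.trans e.symm))⟩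
    rw [Nat.card_eq_of_bijective (fun d : ↥(MulAction.stabilizer G a ⊓ MulAction.stabilizer G b) => (⟨(d : G) • c, hne d⟩ : {z : α // z ≠ a ∧ z ≠ b})) ⟨fun g h e => ?_, fun z => ?_⟩,
      Nat.card_eq_fintype_card, Fintype.card_subtype,
      show Finset.univ.filter (fun z : α => z ≠ a ∧ z ≠ b) = Finset.univ \ {a, b} by ext z; simp,
      Finset.card_sdiff_of_subset (Finset.subset_univ _), Finset.card_pair hab, Finset.card_univ]
    · omega
    · have e' : (g : G) • c = (h : G) • c := congrArg Subtype.val e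
      refine Subtype.ext (inv_mul_eq_one.1 (hthree _ a b c hab hbc hac ?_ ?_ ?_)).symm
      · rw [mul_smul, show (g : G) • a = a from g.2.1, inv_smul_eq_iff, show (h : G) • a = a from h.2.1]
      · rw [mul_smul, show (g : G) • b = b from g.2.2, inv_smul_eq_iff, show (h : G) • b = b from h.2.2]
      · rw [mul_smul, e', inv_smul_smul]
    · obtain ⟨g, hg⟩ := CfsgLib.Perm.Groups.exists_smul_tuple h3 (x := ![a, b, c]) (y := ![a, b, z.1])
        (CfsgLib.Perm.Groups.injective_three hab hac hbc)
        (CfsgLib.Perm.Groups.injective_three hab z.2.1.symm z.2.2.symm)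
      exact ⟨⟨g, hg 0, hg 1⟩, Subtype.ext (hg 2)⟩
  have hss : s * s = 1 := hthree _ a b c hab hbc hac (by rw [mul_smul, hsa, hsb]) (by rw [mul_smul, hsb, hsa])
    (by rw [mul_smul, hsc, hsc])
  have hev : Even (Nat.card ↥(MulAction.stabilizer G a ⊓ MulAction.stabilizer G b)) := by
    obtain ⟨r, hr⟩ := heven
    exact ⟨r - 1, by omega⟩
  obtain ⟨ν, hν, hinv⟩ := CfsgLib.Perm.ZSharp.exists_invariant_hom h2 hthree hab he hev hsa hsb hss
  refine ⟨ν.ker.map (Subgroup.subtype _), Subgroup.map_subtype_le _, ?_, ?_, ?_⟩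
  · rw [Subgroup.subgroupOf, Subgroup.comap_map_eq_self_of_injective (Subgroup.subtype_injective _)]
    infer_instance
  · rw [Subgroup.relIndex, Subgroup.subgroupOf, Subgroup.comap_map_eq_self_of_injective (Subgroup.subtype_injective _),
      Subgroup.index_ker]
    obtain ⟨d, hd⟩ := hν
    have hd' : ν d = Multiplicative.ofAdd 1 := (CfsgLib.Perm.ZSharp.z2_cases _).resolve_left hd
    have htop : ν.range = ⊤ := by
      rw [Subgroup.eq_top_iff']
      intro x
      rcases CfsgLib.Perm.ZSharp.z2_cases x with rfl | rfl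
      · exact one_mem _
      · exact ⟨d, hd'⟩
    rw [htop, Subgroup.card_top, Nat.card_eq_fintype_card]
    rfl
  · rintro _ ⟨⟨n, hn⟩, hnk, rfl⟩
    have hsi : s⁻¹ = s := inv_eq_of_mul_eq_one_left hss
    have hm : s * n * s ∈ MulAction.stabilizer G a ⊓ MulAction.stabilizer G b :=
      ⟨by show (s * n * s) • a = a; rw [mul_smul, mul_smul, hsa, show n • b = b from hn.2, hsb],
        by show (s * n * s) • b = b; rw [mul_smul, mul_smul, hsb, show n • a = a from hn.1, hsa]⟩
    refine ⟨⟨_, hm⟩, ?_, by rw [hsi]; rfl⟩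
    exact (hinv ⟨n, hn⟩ ⟨_, hm⟩ rfl).trans hnk

end Cfsg.Agent.S0729
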