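import Cfsg.Statements.S0733
import Mathlib
-- import your own Cfsg.Agent.* helpers here

set_option autoImplicit false
open Cfsg

namespace Cfsg.Agent.S0733

open scoped Pointwise

/-- A permutation group of affine type — generated by the translations of a finite vector space `V` over `ZMod p` together with a group `G₀` of linear automorphisms — is primitive on `V` if and only if `G₀` is irreducible on `V`. -/
theorem result {p : ℕ} [Fact p.Prime] {V : Type*} [AddCommGroup V] [Module (ZMod p) V] [Finite V] [Nontrivial V] (G₀ : Subgroup (V ≃ₗ[ZMod p] V)) (G : Subgroup (Equiv.Perm V)) (hG : ∀ σ : Equiv.Perm V, σ ∈ G ↔ ∃ g ∈ G₀, ∃ b : V, ∀ x : V, σ x = (g : V ≃ₗ[ZMod p] V) x + b) : MulAction.IsPreprimitive G V ↔ ∀ W : Submodule (ZMod p) V, (∀ g ∈ G₀, ∀ v ∈ W, (g : V ≃ₗ[ZMod p] V) v ∈ W) → W = ⊥ ∨ W = ⊤ := by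
  classical
  have htr : ∀ b : V, (Equiv.addRight b) ∈ G := fun b =>
    (hG _).2 ⟨1, G₀.one_mem, b, fun x => rfl⟩
  have hlin : ∀ g ∈ G₀, (g : V ≃ₗ[ZMod p] V).toEquiv ∈ G := fun g hg =>
    (hG _).2 ⟨g, hg, 0, fun x => by rw [add_zero]; rfl⟩
  haveI : MulAction.IsPretransitive G V := ⟨fun x y => ⟨⟨_, htr (-x + y)⟩, by
    show x + (-x + y) = y
    rw [add_neg_cancel_left]⟩⟩
  constructor
  · intro hprim W hW
    have hblock : MulAction.IsBlock G (W : Set V) := by
      rw [MulAction.isBlock_iff_smul_eq_of_nonempty]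
      rintro ⟨σ, hσ⟩ ⟨x, ⟨w, hw, rfl⟩, hx⟩
      obtain ⟨g, hg, b, hgb⟩ := (hG σ).1 hσ
      have hb : b ∈ W := by
        have h1 : σ w ∈ W := hx
        rw [hgb] at h1
        have h2 := W.sub_mem h1 (hW g hg w hw)
        rwa [add_sub_cancel_left] at h2
      ext z
      constructor
      · rintro ⟨v, hv, rfl⟩
        show σ v ∈ W
        rw [hgb]
        exact W.add_mem (hW g hg v hv) hb
      · intro hz
        refine ⟨(g : V ≃ₗ[ZMod p] V).symm (z - b), ?_, ?_⟩
        · exact hW g⁻¹ (G₀.inv_mem hg) _ (W.sub_mem hz hb)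
        · show σ _ = z
          rw [hgb, LinearEquiv.apply_symm_apply, sub_add_cancel]
    rcases hprim.isTrivialBlock_of_isBlock hblock with hs | hu
    · exact Or.inl ((Submodule.eq_bot_iff _).2 fun w hw => hs hw W.zero_mem)
    · exact Or.inr (Submodule.eq_top_iff'.2 fun w => Set.eq_univ_iff_forall.1 hu w)
  · intro h
    refine MulAction.IsPreprimitive.of_isTrivialBlock_base (0 : V) fun {B} h0 hB => ?_
    have hstab : ∀ σ ∈ G, ∀ x ∈ B, σ x ∈ B → ∀ v ∈ B, σ v ∈ B := by
      intro σ hσ x hx hσx v hv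
      have h1 : (⟨σ, hσ⟩ : G) • B = B :=
        MulAction.isBlock_iff_smul_eq_of_nonempty.1 hB ⟨σ x, ⟨x, hx, rfl⟩, hσx⟩
      exact h1 ▸ ⟨v, hv, rfl⟩
    let A : AddSubgroup V :=
      { carrier := B
        zero_mem' := h0
        add_mem' := fun {u v} hu hv => hstab _ (htr v) 0 h0 (show (0 : V) + v ∈ B by rwa [zero_add]) u hu
        neg_mem' := fun {v} hv => by
          have h1 := hstab _ (htr (-v)) v hv (show v + -v ∈ B by rwa [add_neg_cancel]) 0 h0
          change (0 : V) + -v ∈ B at h1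
          rwa [zero_add] at h1 }
    let W : Submodule (ZMod p) V := AddSubgroup.toZModSubmodule p A
    have hWB : (W : Set V) = B := rfl
    rcases h W (fun g hg v hv => hstab _ (hlin g hg) 0 h0 (show (g : V ≃ₗ[ZMod p] V) 0 ∈ B by rwa [map_zero]) v hv)
      with hb | ht
    · exact Or.inl (by rw [← hWB, hb]; exact Set.subsingleton_singleton)
    · exact Or.inr (by rw [← hWB, ht]; rfl)

end Cfsg.Agent.S0733
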