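import Cfsg.Statements.S0734
import Mathlib
-- import your own Cfsg.Agent.* helpers here

set_option autoImplicit false
open Cfsg

namespace Cfsg.Agent.S0734

open scoped Pointwise

/-- Higman's criterion for primitivity: a transitive action on a finite set is primitive if and only if every non-trivial orbital graph (edges = images of a fixed pair of distinct points) is connected. -/
theorem result {G : Type*} [Group G] {Ω : Type*} [Finite Ω] [MulAction G Ω] [MulAction.IsPretransitive G Ω] [Nontrivial Ω] : MulAction.IsPreprimitive G Ω ↔ ∀ a b : Ω, a ≠ b → (SimpleGraph.fromRel fun x y : Ω => ∃ g : G, g • a = x ∧ g • b = y).Connected := by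
  constructor
  · intro hprim a b hab
    let Γ : SimpleGraph Ω := SimpleGraph.fromRel fun x y : Ω => ∃ g : G, g • a = x ∧ g • b = y
    have hadj : ∀ (k : G) {x y : Ω}, Γ.Adj x y → Γ.Adj (k • x) (k • y) := by
      rintro k x y ⟨hne, h⟩
      refine ⟨fun e => hne (MulAction.injective k e), ?_⟩
      rcases h with ⟨g, h1, h2⟩ | ⟨g, h1, h2⟩
      · exact Or.inl ⟨k * g, by rw [mul_smul, h1], by rw [mul_smul, h2]⟩
      · exact Or.inr ⟨k * g, by rw [mul_smul, h1], by rw [mul_smul, h2]⟩
    have hreach : ∀ (k : G) {x y : Ω}, Γ.Reachable x y → Γ.Reachable (k • x) (k • y) := fun k x y h =>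
      h.map ⟨fun z => k • z, fun h => hadj k h⟩
    have hblock : MulAction.IsBlock G {x : Ω | Γ.Reachable a x} := by
      rw [MulAction.isBlock_iff_smul_eq_of_nonempty]
      rintro k ⟨x, ⟨y, hy, rfl⟩, hx⟩
      have hka : Γ.Reachable a (k • a) := SimpleGraph.Reachable.trans hx (hreach k hy).symm
      ext z
      constructor
      · rintro ⟨w, hw, rfl⟩
        exact hka.trans (hreach k hw)
      · intro hz
        refine ⟨k⁻¹ • z, ?_, smul_inv_smul k z⟩
        have h1 := hreach k⁻¹ (hka.symm.trans hz)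
        rwa [inv_smul_smul] at h1
    rcases hprim.isTrivialBlock_of_isBlock hblock with hs | hu
    · have hb : Γ.Reachable a b :=
        SimpleGraph.Adj.reachable ⟨hab, Or.inl ⟨1, one_smul _ _, one_smul _ _⟩⟩
      exact absurd (hs (SimpleGraph.Reachable.refl a) hb) hab
    · haveI : Nonempty Ω := ⟨a⟩
      exact ⟨fun x y => ((Set.eq_univ_iff_forall.1 hu x).symm.trans (Set.eq_univ_iff_forall.1 hu y))⟩
  · intro h
    refine ⟨fun {B} hB => ?_⟩
    by_cases hs : B.Subsingleton
    · exact Or.inl hs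
    right
    obtain ⟨a, ha, b, hb, hab⟩ := Set.not_subsingleton_iff.1 hs
    have hcl : ∀ x y, x ∈ B → (∃ g : G, (g • a = x ∧ g • b = y) ∨ (g • a = y ∧ g • b = x)) → y ∈ B := by
      rintro x y hx ⟨g, hg⟩
      have hgB : g • B = B := by
        refine MulAction.isBlock_iff_smul_eq_of_nonempty.1 hB ⟨x, ?_, hx⟩
        rcases hg with ⟨h1, -⟩ | ⟨-, h2⟩
        · exact ⟨a, ha, h1⟩
        · exact ⟨b, hb, h2⟩
      rcases hg with ⟨-, h2⟩ | ⟨h1, -⟩
      · exact hgB ▸ ⟨b, hb, h2⟩
      · exact hgB ▸ ⟨a, ha, h1⟩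
    refine Set.eq_univ_iff_forall.2 fun z => ?_
    obtain ⟨w⟩ := (h a b hab).preconnected a z
    suffices key : ∀ {u v : Ω} (_ : (SimpleGraph.fromRel fun x y : Ω => ∃ g : G, g • a = x ∧ g • b = y).Walk u v),
        u ∈ B → v ∈ B from key w ha
    intro u v w
    induction w with
    | nil => exact id
    | @cons x y z hxy _ ih =>
      intro hx
      refine ih (hcl x y hx ?_)
      rcases hxy.2 with ⟨g, h1, h2⟩ | ⟨g, h1, h2⟩
      · exact ⟨g, Or.inl ⟨h1, h2⟩⟩
      · exact ⟨g, Or.inr ⟨h1, h2⟩⟩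

end Cfsg.Agent.S0734
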