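import Cfsg.Statements.S0735
import Mathlib
-- import your own Cfsg.Agent.* helpers here

set_option autoImplicit false
open Cfsg

namespace Cfsg.Agent.S0735

open scoped Pointwise

/-- A 2-homogeneous permutation group (transitive on 2-subsets) of even order is doubly transitive; a non-trivial 2-homogeneous group is primitive. -/
theorem result {α : Type*} [Fintype α] [DecidableEq α] (G : Subgroup (Equiv.Perm α)) (h2 : MulAction.IsPretransitive G (Set.powersetCard α 2)) (hα : 3 ≤ Fintype.card α) : (Even (Nat.card G) → MulAction.IsMultiplyPretransitive G α 2) ∧ (G ≠ ⊥ → MulAction.IsPreprimitive G α) := by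
  classical
  have hpair : ∀ a b c d : α, a ≠ b → c ≠ d →
      ∃ g : G, (g • a = c ∧ g • b = d) ∨ (g • a = d ∧ g • b = c) := by
    intro a b c d hab hcd
    obtain ⟨g, hg⟩ := h2.exists_smul_eq ⟨{a, b}, Finset.card_pair hab⟩ ⟨{c, d}, Finset.card_pair hcd⟩
    have h1 : g • ({a, b} : Finset α) = {c, d} := congrArg Subtype.val hg
    rw [Finset.smul_finset_insert, Finset.smul_finset_singleton] at h1
    refine ⟨g, ?_⟩
    have ha : g • a ∈ ({c, d} : Finset α) := h1 ▸ Finset.mem_insert_self _ _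
    have hb : g • b ∈ ({c, d} : Finset α) := h1 ▸ Finset.mem_insert_of_mem (Finset.mem_singleton_self _)
    simp only [Finset.mem_insert, Finset.mem_singleton] at ha hb
    have hne : g • a ≠ g • b := fun e => hab (MulAction.injective g e)
    rcases ha with ha | ha <;> rcases hb with hb | hb
    · exact absurd (ha.trans hb.symm) hne
    · exact Or.inl ⟨ha, hb⟩
    · exact Or.inr ⟨ha, hb⟩
    · exact absurd (ha.trans hb.symm) hne
  constructor
  · intro heven
    obtain ⟨t, ht⟩ := exists_prime_orderOf_dvd_card' (G := G) 2 (even_iff_two_dvd.1 heven)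
    obtain ⟨x, hx⟩ : ∃ x : α, t • x ≠ x := by
      by_contra hcon
      push Not at hcon
      have h1 : t = 1 := Subtype.ext (Equiv.ext hcon)
      rw [h1, orderOf_one] at ht
      omega
    have htt : t • (t • x) = x := by
      rw [smul_smul, ← sq, ← ht, pow_orderOf_eq_one, one_smul]
    rw [MulAction.is_two_pretransitive_iff]
    intro a b c d hab hcd
    obtain ⟨g, hg⟩ := hpair a b c d hab hcd
    rcases hg with hg | ⟨ha, hb⟩
    · exact ⟨g, hg⟩
    -- an element exchanging `c` and `d`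
    obtain ⟨k, hk⟩ := hpair x (t • x) c d hx.symm hcd
    refine ⟨k * t * k⁻¹ * g, ?_, ?_⟩
    · rw [mul_smul, ha]
      rcases hk with ⟨h1, h2⟩ | ⟨h1, h2⟩
      · rw [← h2, mul_smul, mul_smul, inv_smul_smul, htt, h1]
      · rw [← h1, mul_smul, mul_smul, inv_smul_smul, h2]
    · rw [mul_smul, hb]
      rcases hk with ⟨h1, h2⟩ | ⟨h1, h2⟩
      · rw [← h1, mul_smul, mul_smul, inv_smul_smul, h2]
      · rw [← h2, mul_smul, mul_smul, inv_smul_smul, htt, h1]
  · intro hG
    obtain ⟨g₀, hg₀⟩ : ∃ g : G, g ≠ 1 := by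
      by_contra hcon
      push Not at hcon
      exact hG ((Subgroup.eq_bot_iff_forall _).2 fun g hg => congrArg Subtype.val (hcon ⟨g, hg⟩))
    obtain ⟨u, hu⟩ : ∃ u : α, g₀ • u ≠ u := by
      by_contra hcon
      push Not at hcon
      exact hg₀ (Subtype.ext (Equiv.ext hcon))
    haveI : MulAction.IsPretransitive G α := by
      have hmem : ∀ a b c d : α, a ≠ b → c ≠ d → b ∈ MulAction.orbit G a → d ∈ MulAction.orbit G c := by
        rintro a b c d hab hcd ⟨k, rfl⟩
        obtain ⟨g, ⟨h1, h2⟩ | ⟨h1, h2⟩⟩ := hpair a (k • a) c d hab hcd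
        · exact ⟨g * k * g⁻¹, by show (g * k * g⁻¹) • c = d; rw [← h1, mul_smul, mul_smul, inv_smul_smul, h2]⟩
        · refine ⟨g * k⁻¹ * g⁻¹, ?_⟩
          show (g * k⁻¹ * g⁻¹) • c = d
          rw [← h2, mul_smul, mul_smul, inv_smul_smul, inv_smul_smul, h1]
      refine ⟨fun c d => ?_⟩
      rcases eq_or_ne c d with rfl | hcd
      · exact ⟨1, one_smul _ _⟩
      exact MulAction.mem_orbit_iff.1 (hmem u (g₀ • u) c d (Ne.symm hu) hcd ⟨g₀, rfl⟩)
    refine ⟨fun {B} hB => ?_⟩
    by_cases hs : B.Subsingleton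
    · exact Or.inl hs
    right
    obtain ⟨a, ha, b, hb, hab⟩ := Set.not_subsingleton_iff.1 hs
    refine Set.eq_univ_iff_forall.2 fun c => ?_
    rcases eq_or_ne c a with rfl | hca
    · exact ha
    obtain ⟨g, hg⟩ := hpair a b a c hab (Ne.symm hca)
    have hgB : g • B = B := by
      refine MulAction.isBlock_iff_smul_eq_of_nonempty.1 hB ⟨a, ?_, ha⟩
      rcases hg with ⟨h1, -⟩ | ⟨-, h2⟩
      · exact ⟨a, ha, h1⟩
      · exact ⟨b, hb, h2⟩
    rcases hg with ⟨-, h2⟩ | ⟨h1, -⟩
    · exact hgB ▸ ⟨b, hb, h2⟩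
    · exact hgB ▸ ⟨a, ha, h1⟩

end Cfsg.Agent.S0735
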