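import Cfsg.Statements.S0740
import Mathlib


set_option autoImplicit false
open Cfsg

namespace Cfsg.Agent.S0740

/-- In a finite Zassenhaus group any two points `a ≠ b` are swapped by an involution; every such involution has exactly one fixed point when the degree is odd and 0 or 2 fixed points when the degree is even; and if the two-point stabiliser has even order, some such involution has exactly 2 fixed points. -/
theorem result {G Ω : Type*} [Group G] [Finite G] [MulAction G Ω] [Fintype Ω] (hZ : Cfsg.IsZassenhausGroup G Ω) {a b : Ω} (hab : a ≠ b) : (∃ s : G, orderOf s = 2 ∧ s • a = b ∧ s • b = a) ∧ (∀ s : G, orderOf s = 2 → s • a = b → s • b = a → (Odd (Fintype.card Ω) → Nat.card (MulAction.fixedBy Ω s) = 1) ∧ (Even (Fintype.card Ω) → Nat.card (MulAction.fixedBy Ω s) = 0 ∨ Nat.card (MulAction.fixedBy Ω s) = 2)) ∧ (Even (Fintype.card Ω) → Even (Nat.card ↥(MulAction.stabilizer G a ⊓ MulAction.stabilizer G b)) → ∃ s : G, orderOf s = 2 ∧ s • a = b ∧ s • b = a ∧ Nat.card (MulAction.fixedBy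 Ω s) = 2) := by
  classical
  obtain ⟨hfaith, h2, hthree, ⟨g₀, hg₀, u, v, huv, hgu, hgv⟩, -⟩ := hZ
  haveI := hfaith
  haveI := h2
  haveI : Fintype G := Fintype.ofFinite G
  haveI : MulAction.IsPretransitive G Ω := MulAction.isPretransitive_of_is_two_pretransitive
  obtain ⟨n, hn⟩ : ∃ n, n = Fintype.card Ω := ⟨_, rfl⟩
  have htwo : ∀ {x y : Ω}, x ≠ y → ∃ g : G, g • x = a ∧ g • y = b := fun h => MulAction.is_two_pretransitive_iff.1 h2 h hab
  -- an element moving the two points
  obtain ⟨r, hra, hrb⟩ := MulAction.is_two_pretransitive_iff.1 h2 hab hab.symm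
  have heven : 2 ∣ Nat.card G := by
    have h1 : MulAction.period r a = 2 := by
      have hdvd : MulAction.period r a ∣ 2 := MulAction.pow_smul_eq_iff_period_dvd.1 (by rw [pow_two, mul_smul, hra, hrb])
      rcases (Nat.dvd_prime Nat.prime_two).1 hdvd with h | h
      · exact absurd (by rw [← pow_one r, ← h, MulAction.pow_period_smul]) (hra.symm ▸ hab.symm : r • a ≠ a)
      · exact h
    rw [← h1]
    exact (MulAction.period_dvd_orderOf r a).trans (orderOf_dvd_natCard r)
  haveI : Fact (Nat.Prime 2) := ⟨Nat.prime_two⟩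
  obtain ⟨t, ht⟩ := exists_prime_orderOf_dvd_card' 2 heven
  have hsq : ∀ s : G, orderOf s = 2 → ∀ x : Ω, s • s • x = x := fun s hs x => by
    rw [← mul_smul, ← pow_two, ← hs, pow_orderOf_eq_one, one_smul]
  have hmove : ∀ s : G, orderOf s = 2 → ∃ x, s • x ≠ x := fun s hs => by
    by_contra hc
    push_neg at hc
    have : s = 1 := eq_of_smul_eq_smul (α := Ω) fun x => by rw [hc x, one_smul]
    rw [this, orderOf_one] at hs
    omega
  have hle : ∀ s : G, orderOf s = 2 → Nat.card (MulAction.fixedBy Ω s) ≤ 2 ∧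
      (Nat.card (MulAction.fixedBy Ω s) % 2 = n % 2) := by
    intro s hs
    constructor
    · by_contra hc
      push_neg at hc
      rw [Nat.card_eq_fintype_card] at hc
      obtain ⟨x, y, z, hxy, hxz, hyz⟩ := Fintype.two_lt_card_iff.1 hc
      have := hthree s x y z (Subtype.coe_injective.ne hxy) (Subtype.coe_injective.ne hyz)
        (Subtype.coe_injective.ne hxz) x.2 y.2 z.2
      rw [this, orderOf_one] at hs
      omega
    · let σ : Equiv.Perm Ω := MulAction.toPerm s
      have hσ : orderOf σ = 2 := by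
        rw [← hs]
        exact orderOf_injective (MulAction.toPermHom G Ω) MulAction.toPerm_injective s
      obtain ⟨j, hj⟩ := Equiv.Perm.cycleType_prime_order (hσ.symm ▸ Nat.prime_two)
      have hsum := σ.sum_cycleType
      rw [hj, hσ, Multiset.sum_replicate, smul_eq_mul] at hsum
      have hf : Nat.card (MulAction.fixedBy Ω s) + σ.support.card = n := by
        rw [Nat.card_eq_fintype_card, Fintype.card_subtype, hn, ← Finset.card_univ (α := Ω),
          ← Finset.card_union_of_disjoint]
        · congr 1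
          ext x
          simp [σ, Equiv.Perm.mem_support]
          exact em _
        · rw [Finset.disjoint_left]
          simp [σ, Equiv.Perm.mem_support]
      omega
  have hconj : ∀ s : G, orderOf s = 2 → ∀ x : Ω, s • x ≠ x → ∃ s' : G, orderOf s' = 2 ∧ s' • a = b ∧ s' • b = a ∧
      Nat.card (MulAction.fixedBy Ω s') = Nat.card (MulAction.fixedBy Ω s) := by
    intro s hs x hx
    obtain ⟨g, hga, hgb⟩ := htwo hx.symm
    refine ⟨g * s * g⁻¹, ?_, ?_, ?_, ?_⟩
    · rw [← hs]
      exact orderOf_injective (MulAut.conj g).toMonoidHom (MulAut.conj g).injective s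
    · rw [mul_smul, mul_smul, inv_smul_eq_iff.2 hga.symm, hgb]
    · rw [mul_smul, mul_smul, inv_smul_eq_iff.2 hgb.symm, hsq s hs, hga]
    · refine Nat.card_congr ((MulAction.toPerm g).subtypeEquiv fun (y : Ω) => ?_).symm
      show s • y = y ↔ (g * s * g⁻¹) • (g • y) = g • y
      rw [mul_smul, mul_smul, inv_smul_smul, smul_left_cancel_iff]
  refine ⟨?_, fun s hs _ _ => ⟨fun hodd => ?_, fun hev => ?_⟩, fun hev hH => ?_⟩
  · obtain ⟨x, hx⟩ := hmove t ht
    obtain ⟨s', h1, h2', h3, -⟩ := hconj t ht x hx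
    exact ⟨s', h1, h2', h3⟩
  · obtain ⟨h1, h2'⟩ := hle s hs
    rw [← hn, Nat.odd_iff] at hodd
    omega
  · obtain ⟨h1, h2'⟩ := hle s hs
    rw [← hn, Nat.even_iff] at hev
    omega
  · obtain ⟨i, hi⟩ := exists_prime_orderOf_dvd_card' 2 (even_iff_two_dvd.1 hH)
    rw [← Subgroup.orderOf_coe] at hi
    obtain ⟨x, hx⟩ := hmove _ hi
    obtain ⟨s', h1, h2', h3, h4⟩ := hconj _ hi x hx
    refine ⟨s', h1, h2', h3, ?_⟩
    rw [h4]
    obtain ⟨hle2, hpar⟩ := hle _ hi
    have hpos : 1 < Nat.card (MulAction.fixedBy Ω (i : G)) := by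
      rw [Nat.card_eq_fintype_card, Fintype.one_lt_card_iff]
      exact ⟨⟨a, i.2.1⟩, ⟨b, i.2.2⟩, fun h => hab (congrArg Subtype.val h)⟩
    omega

end Cfsg.Agent.S0740
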