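import Cfsg.Statements.S0744
import Cfsg.Agent.Lib.Perm.Groups.Transit
-- import your own Cfsg.Agent.* helpers here

set_option autoImplicit false
open Cfsg

namespace Cfsg.Agent.S0744

/-- If for some `k > 1` the pointwise stabilisers of all `(k-1)`-subsets have the same order `> 1` and those of all `k`-subsets have the same order, then the group is `(k-1)`-transitive. -/
theorem result {α : Type*} [Fintype α] [DecidableEq α] (G : Subgroup (Equiv.Perm α)) {k : ℕ} (hk : 1 < k) (hkn : k ≤ Fintype.card α) (l m : ℕ) (hl : 1 < l) (hkm1 : ∀ s : Finset α, s.card = k - 1 → Nat.card (fixingSubgroup G (s : Set α)) = l) (hkm : ∀ s : Finset α, s.card = k → Nat.card (fixingSubgroup G (s : Set α)) = m) : MulAction.IsMultiplyPretransitive G α (k - 1) := by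
  classical
  refine CfsgLib.Perm.Groups.multiplyPretransitive_of_fix_trans (k - 1) fun s hs x y hx hy => ?_
  refine CfsgLib.Perm.Groups.fix_trans_of_card_eq (j := k - 2) (by omega) (fun s hs x y hx hy => ?_) s (by omega) x y
    hx hy
  -- orbit lengths
  have hfixins : ∀ (t : Finset α) (z : α), fixingSubgroup G ((insert z t : Finset α) : Set α) =
      fixingSubgroup G (t : Set α) ⊓ MulAction.stabilizer G z := fun t z => by
    ext u
    simp only [mem_fixingSubgroup_iff, Subgroup.mem_inf, MulAction.mem_stabilizer_iff, Finset.coe_insert,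
      Set.mem_insert_iff, forall_eq_or_imp, Finset.mem_coe]
    exact and_comm
  have horb : ∀ (K : Subgroup G) (z : α),
      Nat.card (MulAction.orbit K z) * Nat.card (K ⊓ MulAction.stabilizer G z : Subgroup G) = Nat.card K := by
    intro K z
    rw [← Nat.card_congr (MulAction.orbitProdStabilizerEquivGroup K z), Nat.card_prod]
    congr 1
    rw [← Subgroup.card_map_of_injective (f := K.subtype) (K := MulAction.stabilizer K z) K.subtype_injective]
    refine congrArg (fun A : Subgroup G => Nat.card A) ?_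
    ext u
    simp only [Subgroup.mem_map, Subgroup.mem_inf, MulAction.mem_stabilizer_iff]
    exact ⟨fun hu => ⟨⟨u, hu.1⟩, hu.2, rfl⟩, fun ⟨w, hw, e⟩ => e ▸ ⟨w.2, hw⟩⟩
  obtain ⟨K, hK⟩ : ∃ K, K = fixingSubgroup G (s : Set α) := ⟨_, rfl⟩
  have hxs := hx
  have hys := hy
  by_cases hyO : y ∈ MulAction.orbit K x
  · obtain ⟨g, hg⟩ := hyO
    exact ⟨g, fun a ha => (mem_fixingSubgroup_iff G).1 (hK ▸ g.2) a ha, hg⟩
  exfalso
  -- one point stabiliser in K
  have hout : ∀ z, z ∉ s → Nat.card (fixingSubgroup G ((insert z s : Finset α) : Set α)) = l := fun z hz =>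
    hkm1 _ (by rw [Finset.card_insert_of_notMem hz]; omega)
  have hu : ∀ z, z ∉ s → Nat.card (MulAction.orbit K z) * l = Nat.card K := fun z hz => by
    rw [← hout z hz, hfixins, ← hK, horb]
  obtain ⟨L, hL⟩ : ∃ L, L = fixingSubgroup G ((insert x s : Finset α) : Set α) := ⟨_, rfl⟩
  have hLK : L = K ⊓ MulAction.stabilizer G x := by rw [hL, hfixins, hK]
  have hv : ∀ z, z ∉ insert x s → Nat.card (MulAction.orbit L z) * m = Nat.card L := fun z hz => by
    rw [← horb L z, hL, ← hfixins, hkm _ (by
      rw [Finset.card_insert_of_notMem hz, Finset.card_insert_of_notMem hxs]; omega)]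
  have hLc : Nat.card L = l := hL ▸ hout x hxs
  have hm0 : 0 < m := by
    by_contra h0
    have h1 := hv y (by rw [Finset.mem_insert]; rintro (rfl | h) <;> [exact hyO (MulAction.mem_orbit_self y); exact hys h])
    rw [Nat.eq_zero_of_not_pos h0, mul_zero] at h1
    exact Nat.card_pos.ne' h1.symm
  have hml : m < l := by
    by_contra hle
    have hfix : ∀ u ∈ L, ∀ z : α, u • z = z := by
      intro u hu' z
      by_cases hz : z ∈ insert x s
      · exact (mem_fixingSubgroup_iff G).1 (hL ▸ hu') z hz
      have h1 := hv z hz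
      rw [hLc] at h1
      have h2 : Nat.card (MulAction.orbit L z) = 1 := by
        have h3 : 0 < Nat.card (MulAction.orbit L z) :=
          Nat.card_pos_iff.2 ⟨⟨⟨z, MulAction.mem_orbit_self z⟩⟩, inferInstance⟩
        by_contra hne
        have : 2 * m ≤ l := h1 ▸ Nat.mul_le_mul_right m (by omega)
        omega
      have := (Nat.card_eq_one_iff_unique.1 h2).1.elim ⟨z, MulAction.mem_orbit_self z⟩ ⟨u • z, ⟨⟨u, hu'⟩, rfl⟩⟩
      exact (congrArg Subtype.val this).symm
    have hbot : L = ⊥ := (Subgroup.eq_bot_iff_forall _).2 fun u hu' => Subtype.ext (Equiv.ext (hfix u hu'))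
    rw [hbot, Subgroup.card_bot] at hLc
    omega
  obtain ⟨v, hv'⟩ : ∃ v, v * m = l := ⟨_, (hv y (by
    rw [Finset.mem_insert]; rintro (rfl | h) <;> [exact hyO (MulAction.mem_orbit_self y); exact hys h])).trans hLc⟩
  have hv1 : 1 < v := by
    by_contra hle
    interval_cases v <;> omega
  -- orbits of `L` inside an orbit of `K`
  have hdvd : ∀ (z : α) (D : Finset α), (∀ u ∈ L, ∀ w ∈ D, u • w ∈ D) → Disjoint D (insert x s) →
      v ∣ D.card := by
    intro z D hinv hdis
    let S : SubMulAction L α :=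
      { carrier := (D : Set α)
        smul_mem' := fun u w hw => hinv u u.2 w hw }
    have hsum := Nat.card_congr (MulAction.selfEquivSigmaOrbits L S)
    rw [Nat.card_sigma] at hsum
    have hS : Nat.card S = D.card := Nat.card_eq_finsetCard D
    rw [← hS, hsum]
    refine Finset.dvd_sum fun q _ => ?_
    have h1 := hv (q.out : S).1 (Finset.disjoint_left.1 hdis (q.out : S).2)
    rw [hLc, ← hv'] at h1
    have h2 : Nat.card (MulAction.orbit L (q.out : S)) = v := by
      rw [← Nat.eq_of_mul_eq_mul_right hm0 h1, Nat.card_coe_set_eq, Nat.card_coe_set_eq,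
        ← SubMulAction.val_image_orbit, Set.ncard_image_of_injective _ Subtype.val_injective]
    rw [h2]
  have hOs : ∀ z, z ∉ s → ∀ w ∈ MulAction.orbit K z, w ∉ s := by
    rintro z hz _ ⟨g, rfl⟩ hmem
    have : (g : G)⁻¹ • ((g : G) • z) = (g : G) • z :=
      (mem_fixingSubgroup_iff G).1 (hK ▸ K.inv_mem g.2) _ hmem
    rw [inv_smul_smul] at this
    exact hz (this ▸ hmem)
  have hdy := hdvd y (MulAction.orbit K y).toFinset (fun u hu' w hw => by
      rw [Set.mem_toFinset] at hw ⊢
      exact MulAction.mem_orbit_of_mem_orbit (⟨u, (hLK ▸ hu' : u ∈ K ⊓ MulAction.stabilizer G x).1⟩ : K) hw)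
    (Finset.disjoint_left.2 fun w hw hw' => by
      rw [Set.mem_toFinset] at hw
      rcases Finset.mem_insert.1 hw' with rfl | hws
      · exact hyO (MulAction.orbit_eq_iff.1 ((MulAction.orbit_eq_iff.2 hw).symm))
      · exact hOs y hys w hw hws)
  have hdx := hdvd x ((MulAction.orbit K x).toFinset.erase x) (fun u hu' w hw => by
      rw [Finset.mem_erase, Set.mem_toFinset] at hw ⊢
      have hu2 := (hLK ▸ hu' : u ∈ K ⊓ MulAction.stabilizer G x)
      refine ⟨fun he => hw.1 ?_, MulAction.mem_orbit_of_mem_orbit (⟨u, hu2.1⟩ : K) hw.2⟩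
      exact MulAction.injective u (he.trans hu2.2.symm))
    (Finset.disjoint_left.2 fun w hw hw' => by
      rw [Finset.mem_erase, Set.mem_toFinset] at hw
      rcases Finset.mem_insert.1 hw' with rfl | hws
      · exact hw.1 rfl
      · exact hOs x hxs w hw.2 hws)
  rw [Finset.card_erase_of_mem (Set.mem_toFinset.2 (MulAction.mem_orbit_self x)), ← Set.ncard_eq_toFinset_card',
    ← Nat.card_coe_set_eq] at hdx
  rw [← Set.ncard_eq_toFinset_card', ← Nat.card_coe_set_eq] at hdy
  have heq : Nat.card (MulAction.orbit K x) = Nat.card (MulAction.orbit K y) :=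
    Nat.eq_of_mul_eq_mul_right (by omega : 0 < l) ((hu x hxs).trans (hu y hys).symm)
  have hpos : 0 < Nat.card (MulAction.orbit K x) :=
    Nat.card_pos_iff.2 ⟨⟨⟨x, MulAction.mem_orbit_self x⟩⟩, inferInstance⟩
  rw [← heq] at hdy
  have h1 := Nat.dvd_sub hdy hdx
  rw [show Nat.card (MulAction.orbit K x) - (Nat.card (MulAction.orbit K x) - 1) = 1 by omega, Nat.dvd_one] at h1
  omega

end Cfsg.Agent.S0744
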