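import Mathlib
import Cfsg.Statements.S0753


set_option autoImplicit false
open Cfsg

namespace Cfsg.Agent.S0753

/-- If σ is a ring endomorphism of the field F other than the identity and B is a σ-sesquilinear conjugate-symmetric form with B v v = 0 for every v, then B = 0. -/
theorem result {F V : Type*} [Field F] [AddCommGroup V] [Module F V] (σ : F →+* F) (hσ : σ ≠ RingHom.id F) (B : V →ₛₗ[σ] V →ₗ[F] F) (hS : B.IsSymm) (h0 : ∀ v : V, B v v = 0) : B = 0 := by
  classical
  refine LinearMap.ext fun v => LinearMap.ext fun w => ?_
  by_contra hb
  simp only [LinearMap.zero_apply] at hb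
  have hsym : ∀ x y, σ (B x y) = B y x := LinearMap.isSymm_def.1 hS
  have key : ∀ w : V, B v w + σ (B v w) = 0 := fun w => by
    rw [hsym]
    have := h0 (v + w)
    simp only [map_add, LinearMap.add_apply, h0, add_zero, zero_add] at this
    linear_combination this
  have hall : ∀ x : F, x + σ x = 0 := by
    intro x
    have := key ((x / B v w) • w)
    rwa [map_smul, smul_eq_mul, div_mul_cancel₀ _ hb] at this
  refine hσ (RingHom.ext fun x => ?_)
  have h1 := hall 1
  rw [map_one] at h1
  rw [RingHom.id_apply]
  linear_combination hall x - x * h1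

end Cfsg.Agent.S0753
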