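import Mathlib
import Cfsg.Statements.S0754


set_option autoImplicit false
open Cfsg

namespace Cfsg.Agent.S0754

/-- In a field F with q^2 elements, every non-zero μ with μ^q = μ (that is, μ in the subfield of order q) has exactly q + 1 solutions λ of λ^(q+1) = μ. -/
theorem result {F : Type*} [Field F] [Fintype F] {q : ℕ} (hF : Fintype.card F = q ^ 2) (μ : F) (hμ : μ ≠ 0) (hμq : μ ^ q = μ) : Nat.card {x : F // x ^ (q + 1) = μ} = q + 1 := by
  classical
  have hq : 1 ≤ q := by
    rcases Nat.eq_zero_or_pos q with rfl | h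
    · simp at hF
    · exact h
  obtain ⟨a, rfl⟩ : ∃ a, q = a + 1 := ⟨q - 1, by omega⟩
  have hU : Nat.card Fˣ = (a + 1 + 1) * a := by
    rw [Nat.card_units, Nat.card_eq_fintype_card, hF,
      show (a + 1) ^ 2 = (a + 1 + 1) * a + 1 by ring, Nat.add_sub_cancel]
  set N : Fˣ →* Fˣ := powMonoidHom (a + 1 + 1) with hN
  have hker : Nat.card N.ker = a + 1 + 1 := by
    rw [hN, IsCyclic.card_powMonoidHom_ker, hU, Nat.gcd_comm, Nat.gcd_mul_right_right]
  have hrange : N.range = (powMonoidHom a : Fˣ →* Fˣ).ker := by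
    refine Subgroup.eq_of_le_of_card_ge ?_ ?_
    · rintro _ ⟨x, rfl⟩
      rw [MonoidHom.mem_ker, hN, powMonoidHom_apply, powMonoidHom_apply, ← pow_mul, ← hU, pow_card_eq_one']
    · have h1 := Subgroup.card_mul_index N.ker
      rw [Subgroup.index_ker, hker, hU] at h1
      rw [Nat.eq_of_mul_eq_mul_left (by omega) h1, IsCyclic.card_powMonoidHom_ker, hU]
      rcases Nat.eq_zero_or_pos a with rfl | ha
      · simp
      · exact Nat.gcd_le_right _ ha
  set u : Fˣ := Units.mk0 μ hμ
  have hu : u ∈ N.range := by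
    rw [hrange, MonoidHom.mem_ker, powMonoidHom_apply]
    refine mul_right_cancel (b := u) ?_
    rw [← pow_succ, one_mul]
    exact Units.ext hμq
  obtain ⟨x₀, hx₀⟩ := hu
  have hx₀' : (x₀ : F) ^ (a + 1 + 1) = μ := by
    have := congrArg Units.val hx₀
    simpa [hN, u] using this
  let f : N.ker → {x : F // x ^ (a + 1 + 1) = μ} := fun k => ⟨(k.1 : F) * x₀, by
    have hk : (k.1 : F) ^ (a + 1 + 1) = 1 := by
      have := congrArg Units.val (MonoidHom.mem_ker.1 k.2)
      simpa [hN] using this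
    rw [mul_pow, hk, hx₀', one_mul]⟩
  have hf : Function.Bijective f := by
    refine ⟨fun k l h => Subtype.ext (Units.ext (mul_right_cancel₀ x₀.ne_zero (congrArg Subtype.val h))), fun y => ?_⟩
    have hy0 : y.1 ≠ 0 := fun h => hμ (by rw [← y.2, h, zero_pow (by omega)])
    refine ⟨⟨Units.mk0 y.1 hy0 * x₀⁻¹, ?_⟩, Subtype.ext ?_⟩
    · rw [MonoidHom.mem_ker]
      apply Units.ext
      simp [hN, mul_pow, y.2, hx₀', hμ]
    · simp [f]
  rw [← Nat.card_eq_of_bijective f hf, hker]

end Cfsg.Agent.S0754
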