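import Cfsg.Statements.S0755
import Mathlib
import Cfsg.Agent.Lib.Descent.Hilbert90

set_option autoImplicit false
open Cfsg

namespace Cfsg.Agent.S0755

/-- Classification of Hermitian forms over finite fields: if σ is a non-identity involutive automorphism of the finite field F and B is a non-degenerate conjugate-symmetric σ-sesquilinear form on the finite-dimensional space V, then V has a B-orthonormal basis. -/
theorem result {F V : Type*} [Field F] [Finite F] [AddCommGroup V] [Module F V] [FiniteDimensional F V] (σ : F →+* F) (hσ : σ ≠ RingHom.id F) (hσ2 : ∀ a : F, σ (σ a) = a) (B : V →ₛₗ[σ] V →ₗ[F] F) (hS : B.IsSymm) (hB : B.Nondegenerate) : ∃ b : Module.Basis (Fin (Module.finrank F V)) F V, ∀ i j, B (b i) (b j) = if i = j then 1 else 0 := by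
  classical
  cases nonempty_fintype F
  let τ : RingAut F := RingEquiv.ofBijective σ (Finite.injective_iff_bijective.1 σ.injective)
  have hτ : orderOf τ = 2 := by
    refine orderOf_eq_prime (RingEquiv.ext fun x => ?_) fun h => hσ (RingHom.ext fun x => ?_)
    · rw [sq]; exact hσ2 x
    · exact congrArg (fun t : RingAut F => t x) h
  have hnorm : ∀ c : F, σ c = c → c ≠ 0 → ∃ r : F, σ r * r = c := by
    intro c hc hc0
    obtain ⟨a, -, ha⟩ := CfsgLib.Descent.exists_norm_eq hτ two_pos hc0 (show τ c = c from hc)
    rw [Finset.prod_range_succ, Finset.prod_range_one, pow_zero, pow_one] at ha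
    exact ⟨a, by rw [mul_comm]; exact ha⟩
  have hsym : ∀ x y, σ (B x y) = B y x := fun x y => hS.eq x y
  obtain ⟨a₀, ha₀⟩ : ∃ a : F, σ a ≠ a := by
    by_contra hc
    push Not at hc
    exact hσ (RingHom.ext hc)
  have main : ∀ (k : ℕ) (W : Submodule F V), Module.finrank F W = k →
      (∀ x ∈ W, (∀ y ∈ W, B x y = 0) → x = 0) →
      ∃ v : Fin k → V, (∀ i, v i ∈ W) ∧ ∀ i j, B (v i) (v j) = if i = j then 1 else 0 := by
    intro k
    induction k with
    | zero => exact fun W _ _ => ⟨Fin.elim0, fun i => i.elim0, fun i => i.elim0⟩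
    | succ k ih =>
      intro W hW hN
      haveI : Nontrivial W := Module.nontrivial_of_finrank_pos (R := F) (by omega)
      obtain ⟨v₀, hv₀W, hv₀⟩ : ∃ v ∈ W, B v v ≠ 0 := by
        by_contra hc
        push Not at hc
        obtain ⟨x, hx⟩ := exists_ne (0 : W)
        refine hx (Subtype.ext (hN x.1 x.2 fun y hy => ?_))
        have tr : ∀ a : F, a * B x.1 y + σ (a * B x.1 y) = 0 := fun a => by
          have h := hc _ (W.add_mem x.2 (W.smul_mem a hy))
          simp [map_add, LinearMap.map_smulₛₗ, hc x.1 x.2, hc y hy] at h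
          rw [map_mul, hsym]
          linear_combination h
        have h1 := tr 1
        have h2 := tr a₀
        rw [one_mul] at h1
        rw [map_mul] at h2
        have h3 : (a₀ - σ a₀) * B x.1 y = 0 := by linear_combination h2 - σ a₀ * h1
        exact (mul_eq_zero.1 h3).resolve_left (sub_ne_zero.2 (Ne.symm ha₀))
      obtain ⟨r, hr⟩ := hnorm (B v₀ v₀)⁻¹ (by rw [map_inv₀, hsym]) (inv_ne_zero hv₀)
      set u := r • v₀ with hu'
      have huW : u ∈ W := W.smul_mem r hv₀W
      have hu : B u u = 1 := by
        simp only [hu', LinearMap.map_smulₛₗ, LinearMap.smul_apply, map_smul, smul_eq_mul]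
        rw [← mul_assoc, mul_comm r (σ r), hr, inv_mul_cancel₀ hv₀]
      clear_value u
      let L : W →ₗ[F] F := (B u).comp W.subtype
      have hr' : LinearMap.range L = ⊤ := LinearMap.range_eq_top.2 fun c => ⟨c • ⟨u, huW⟩, by simp [L, hu]⟩
      have h1 := L.finrank_range_add_finrank_ker
      rw [hr', finrank_top, Module.finrank_self, hW] at h1
      have e : (LinearMap.ker L).map W.subtype = W ⊓ LinearMap.ker (B u) := by
        ext x
        constructor
        · rintro ⟨y, hy, rfl⟩; exact ⟨y.2, hy⟩
        · rintro ⟨hx, hxu⟩; exact ⟨⟨x, hx⟩, hxu, rfl⟩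
      have hfr : Module.finrank F ↥(W ⊓ LinearMap.ker (B u)) = k := by
        rw [← e, Submodule.finrank_map_subtype_eq]; omega
      obtain ⟨w, hw, hwo⟩ := ih _ hfr fun x hx hxy => by
        have hxu : B x u = 0 := by rw [← hsym, show B u x = 0 from hx.2, map_zero]
        refine hN x hx.1 fun y hy => ?_
        have h := hxy (y - B u y • u) ⟨W.sub_mem hy (W.smul_mem _ huW), by
          show B u _ = 0
          rw [map_sub, map_smul, hu, smul_eq_mul, mul_one, sub_self]⟩
        simp only [map_sub, map_smul, hxu, smul_zero, sub_zero] at h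
        exact h
      refine ⟨Fin.cons u w, fun i => ?_, fun i j => ?_⟩
      · refine Fin.cases ?_ (fun i => ?_) i
        · exact huW
        · exact (hw i).1
      · refine Fin.cases ?_ (fun i => ?_) i <;> refine Fin.cases ?_ (fun j => ?_) j
        · simp [hu]
        · simp [LinearMap.mem_ker.1 (hw j).2, (Fin.succ_ne_zero j).symm]
        · simp [← hsym u (w i), LinearMap.mem_ker.1 (hw i).2, Fin.succ_ne_zero i]
        · simp [hwo]
  obtain ⟨v, -, hv⟩ := main _ ⊤ (finrank_top F V) fun x _ hx => hB.1 x fun y => hx y Submodule.mem_top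
  have hli : LinearIndependent F v := by
    rw [Fintype.linearIndependent_iff]
    intro g hg i
    have := congrArg (B (v i)) hg
    simpa [hv] using this
  refine ⟨Module.Basis.mk hli ?_, fun i j => by rw [Module.Basis.mk_apply, Module.Basis.mk_apply]; exact hv i j⟩
  rw [hli.span_eq_top_of_card_eq_finrank' (by simp)]

end Cfsg.Agent.S0755
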