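import Mathlib
import Cfsg.Statements.S0757


set_option autoImplicit false
open Cfsg

namespace Cfsg.Agent.S0757

/-- The two diagonal forms Σ x_i^2 and Σ_(i<n) x_i^2 + α x_n^2 on F^(n+1), with α a non-square and 2 ≠ 0 in F, are inequivalent quadratic forms (so over a finite field of odd order there are exactly two classes of non-singular symmetric bilinear forms in each dimension). -/
theorem result {F : Type*} [Field F] (h2 : (2 : F) ≠ 0) (n : ℕ) (α : F) (hα : ¬ IsSquare α) : ¬ (QuadraticMap.weightedSumSquares F (fun _ : Fin (n + 1) => (1 : F))).Equivalent (QuadraticMap.weightedSumSquares F (fun i : Fin (n + 1) => if i = Fin.last n then α else (1 : F))) := by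
  rintro ⟨e⟩
  classical
  set w : Fin (n + 1) → F := fun i => if i = Fin.last n then α else (1 : F) with hw
  set M : Matrix (Fin (n + 1)) (Fin (n + 1)) F := LinearMap.toMatrix' e.toLinearEquiv.toLinearMap with hM
  have hMv : ∀ x, M.mulVec x = e x := fun x => by
    rw [hM, LinearMap.toMatrix'_mulVec]; rfl
  have key : M.transpose * Matrix.diagonal w * M = 1 := by
    ext i j
    have h1 := e.map_app (Pi.single i 1 + Pi.single j 1)
    have hi := e.map_app (Pi.single i (1 : F))
    have hj := e.map_app (Pi.single j (1 : F))
    rw [map_add, ← hMv, ← hMv] at h1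
    rw [← hMv] at hi hj
    simp only [QuadraticMap.weightedSumSquares_apply, smul_eq_mul, Matrix.mulVec_single_one,
      Matrix.col_apply, Pi.add_apply, one_mul] at h1 hi hj
    simp only [mul_add, add_mul, Finset.sum_add_distrib] at h1
    try simp only [Finset.sum_add_distrib] at h1
    rw [hi, hj] at h1
    have h3 : ∑ k, w k * (M k i * M k j) = ∑ k, w k * (M k j * M k i) :=
      Finset.sum_congr rfl fun k _ => by ring
    have h4 : ∑ k, (Pi.single i (1 : F) : Fin (n + 1) → F) k * (Pi.single j (1 : F) : Fin (n + 1) → F) k =
        if i = j then 1 else 0 := by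
      rcases eq_or_ne i j with rfl | hij
      · simp [Pi.single_apply]
      · simp [Pi.single_apply, hij, Ne.symm hij]
    have h5 : ∑ k, (Pi.single j (1 : F) : Fin (n + 1) → F) k * (Pi.single i (1 : F) : Fin (n + 1) → F) k =
        if i = j then 1 else 0 := (Finset.sum_congr rfl fun k _ => mul_comm _ _).trans h4
    rw [h4, h5] at h1
    rw [Matrix.one_apply, Matrix.mul_apply]
    simp only [Matrix.mul_diagonal, Matrix.transpose_apply]
    have h6 : ∑ k, M k i * w k * M k j = ∑ k, w k * (M k i * M k j) :=
      Finset.sum_congr rfl fun k _ => by ring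
    rw [h6]
    apply mul_left_cancel₀ h2
    linear_combination h1 + h3
  have hd := congrArg Matrix.det key
  rw [Matrix.det_mul, Matrix.det_mul, Matrix.det_transpose, Matrix.det_diagonal, Matrix.det_one] at hd
  have hp : ∏ i, w i = α := by simp [hw]
  rw [hp] at hd
  have hM0 : M.det ≠ 0 := fun h => by simp [h] at hd
  exact hα ⟨M.det⁻¹, by field_simp; linear_combination hd⟩

end Cfsg.Agent.S0757
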