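import Mathlib
import Cfsg.Statements.S0758


set_option autoImplicit false
open Cfsg

namespace Cfsg.Agent.S0758

/-- For a finite field F of odd order q and a non-square α: the form x² + y² is isotropic iff q ≡ 1 mod 4, and the form x² + α y² is isotropic iff q ≡ 3 mod 4. -/
theorem result {F : Type*} [Field F] [Fintype F] (h2 : (2 : F) ≠ 0) (α : F) (hα : ¬ IsSquare α) : ((∃ x y : F, (x ≠ 0 ∨ y ≠ 0) ∧ x ^ 2 + y ^ 2 = 0) ↔ Fintype.card F % 4 = 1) ∧ ((∃ x y : F, (x ≠ 0 ∨ y ≠ 0) ∧ x ^ 2 + α * y ^ 2 = 0) ↔ Fintype.card F % 4 = 3) := by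
  classical
  have hodd : Fintype.card F % 2 = 1 := FiniteField.odd_card_of_char_ne_two (fun h => h2 (by
    haveI : CharP F 2 := by rw [← h]; exact ringChar.charP F
    exact CharTwo.two_eq_zero))
  have iff1 : (∃ x y : F, (x ≠ 0 ∨ y ≠ 0) ∧ x ^ 2 + y ^ 2 = 0) ↔ IsSquare (-1 : F) := by
    refine ⟨fun ⟨x, y, hxy, h⟩ => ?_, fun ⟨r, hr⟩ => ⟨r, 1, Or.inr one_ne_zero, by linear_combination -hr⟩⟩
    have hy : y ≠ 0 := fun e => by
      subst e
      simp at h
      simp [h] at hxy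
    exact ⟨x / y, by field_simp; linear_combination -h⟩
  have iff2 : (∃ x y : F, (x ≠ 0 ∨ y ≠ 0) ∧ x ^ 2 + α * y ^ 2 = 0) ↔ IsSquare (-α) := by
    refine ⟨fun ⟨x, y, hxy, h⟩ => ?_, fun ⟨r, hr⟩ => ⟨r, 1, Or.inr one_ne_zero, by linear_combination -hr⟩⟩
    have hy : y ≠ 0 := fun e => by
      subst e
      simp at h
      simp [h] at hxy
    exact ⟨x / y, by field_simp; linear_combination -h⟩
  have hsq := FiniteField.isSquare_neg_one_iff (F := F)
  have hchar : ringChar F ≠ 2 := fun h => h2 (by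
    haveI : CharP F 2 := by rw [← h]; exact ringChar.charP F
    exact CharTwo.two_eq_zero)
  have hα0 : α ≠ 0 := fun h => hα (by rw [h]; exact IsSquare.zero)
  have hneg : IsSquare (-α) ↔ ¬ IsSquare (-1 : F) := by
    have hm : ∀ x : F, x ≠ 0 → (quadraticChar F x = 1 ↔ IsSquare x) := fun x hx =>
      quadraticChar_one_iff_isSquare hx
    have h1 : quadraticChar F α = -1 := quadraticChar_neg_one_iff_not_isSquare.2 hα
    rw [← hm _ (neg_ne_zero.2 hα0), ← quadraticChar_neg_one_iff_not_isSquare,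
      show -α = (-1) * α by ring, map_mul, h1]
    constructor <;> intro h <;> linarith
  rw [iff1, iff2, hneg, hsq]
  omega

end Cfsg.Agent.S0758
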