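import Cfsg.Statements.S0759
import Cfsg.Agent.Lib.Classical.TensorForms

set_option autoImplicit false
open Cfsg

namespace Cfsg.Agent.S0759

/-- Type of the orthonormal form: over a finite field of odd order q and for m ≥ 1, the quadratic form Σ_(i<2m) x_i² on F^(2m) admits an m-dimensional subspace on which it vanishes identically if and only if it is not the case that q ≡ 3 (mod 4) and m is odd. -/
theorem result {F : Type*} [Field F] [Fintype F] (h2 : (2 : F) ≠ 0) (m : ℕ) (hm : 1 ≤ m) : (∃ W : Submodule F (Fin (2 * m) → F), Module.finrank F W = m ∧ ∀ w ∈ W, ∑ i, w i ^ 2 = 0) ↔ ¬ (Fintype.card F % 4 = 3 ∧ Odd m) := by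
  classical
  open CfsgLib.Classical.TensorForms in
  have hodd : Odd (Fintype.card F) := Nat.odd_iff.2 (FiniteField.odd_card_of_char_ne_two fun h => h2 (by
    haveI : CharP F 2 := ringChar.of_eq h
    exact CharTwo.two_eq_zero))
  let B : LinearMap.BilinForm F (Fin (2 * m) → F) := Matrix.toBilin' 1
  have hB : ∀ u v, B u v = ∑ i, u i * v i := fun u v => by simp [B, Matrix.toBilin'_apply', dotProduct]
  have hS : B.IsSymm := ⟨fun u v => by simp [hB, mul_comm]⟩
  have hM : LinearMap.BilinForm.toMatrix (Pi.basisFun F (Fin (2 * m))) B = 1 := by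
    ext i j
    rcases eq_or_ne i j with rfl | h
    · simp [LinearMap.BilinForm.toMatrix_apply, hB, Pi.single_apply]
    · simp [LinearMap.BilinForm.toMatrix_apply, hB, Pi.single_apply, h, h.symm]
  have hN : B.Nondegenerate := (LinearMap.BilinForm.nondegenerate_iff_det_ne_zero (Pi.basisFun F (Fin (2 * m)))).2
    (by rw [hM, Matrix.det_one]; exact one_ne_zero)
  have hd : Module.finrank F (Fin (2 * m) → F) = 2 * m := by simp
  have hsq : (∃ W : Submodule F (Fin (2 * m) → F), Module.finrank F W = m ∧ ∀ w ∈ W, ∑ i, w i ^ 2 = 0) ↔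
      IsSquare ((-1 : F) ^ m) := by
    constructor
    · rintro ⟨W, hW, hW0⟩
      have := CfsgLib.Classical.TensorForms.isSquare_of_isotropic B hS hd W hW (fun x hx y hy => by
        rw [hB]
        have h1 := hW0 _ (W.add_mem hx hy)
        have h3 : ∑ i, (x i + y i) ^ 2 = ∑ i, x i ^ 2 + 2 * ∑ i, x i * y i + ∑ i, y i ^ 2 := by
          rw [Finset.mul_sum, ← Finset.sum_add_distrib, ← Finset.sum_add_distrib]
          exact Finset.sum_congr rfl fun i _ => by ring
        simp only [Pi.add_apply] at h1
        rw [h3, hW0 x hx, hW0 y hy, zero_add, add_zero] at h1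
        exact (mul_eq_zero.1 h1).resolve_left h2) (Pi.basisFun F (Fin (2 * m)))
      rwa [hM, Matrix.det_one, mul_one] at this
    · intro h
      obtain ⟨X, hX, hX0⟩ := CfsgLib.Classical.TensorForms.exists_isotropic_half h2 m B hS hN hd
        (Pi.basisFun F (Fin (2 * m))) (by rwa [hM, Matrix.det_one, mul_one])
      exact ⟨X, hX, fun w hw => by simpa [hB, pow_two] using hX0 w hw w hw⟩
  rw [hsq]
  rcases Nat.even_or_odd m with he | ho
  · simp [he.neg_one_pow, Nat.not_odd_iff_even.2 he]
  · rw [ho.neg_one_pow, FiniteField.isSquare_neg_one_iff]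
    simp [ho]

end Cfsg.Agent.S0759
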