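import Mathlib
import Cfsg.Statements.S0761


set_option autoImplicit false
open Cfsg

namespace Cfsg.Agent.S0761

/-- Hyperbolic partners: let B be a non-degenerate bilinear form on a finite-dimensional space, either alternating, or symmetric with 2 ≠ 0. If Z is a subspace on which B vanishes, x ∉ Z is isotropic and orthogonal to Z, then there is an isotropic y with B x y = 1 which is orthogonal to Z. -/
theorem result {F V : Type*} [Field F] [AddCommGroup V] [Module F V] [FiniteDimensional F V] (B : LinearMap.BilinForm F V) (hB : B.Nondegenerate) (hform : B.IsAlt ∨ (B.IsSymm ∧ (2 : F) ≠ 0)) (x : V) (Z : Submodule F V) (hxZ : x ∉ Z) (hx : B x x = 0) (hxz : ∀ z ∈ Z, B x z = 0) (hZ : ∀ z ∈ Z, ∀ z' ∈ Z, B z z' = 0) : ∃ y : V, B y y = 0 ∧ B x y = 1 ∧ ∀ z ∈ Z, B z y = 0 := by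
  classical
  obtain ⟨f, hfx, hfZ⟩ := Submodule.exists_dual_map_eq_bot_of_notMem hxZ inferInstance
  set f' : Module.Dual F V := (f x)⁻¹ • f with hf'
  have h1 : f' x = 1 := by simp [hf', inv_mul_cancel₀ hfx]
  have h2 : ∀ z ∈ Z, f' z = 0 := fun z hz => by
    have : f z ∈ Z.map f := ⟨z, hz, rfl⟩
    rw [hfZ, Submodule.mem_bot] at this
    simp [hf', this]
  obtain ⟨y₀, hy₀⟩ : ∃ y₀, ∀ w, B w y₀ = f' w := by
    refine ⟨(B.flip.toDual hB.flip).symm f', fun w => ?_⟩
    exact LinearMap.BilinForm.apply_toDual_symm_apply (hB := hB.flip) f' w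
  rcases hform with halt | ⟨hsymm, h2F⟩
  · exact ⟨y₀, halt y₀, by rw [hy₀, h1], fun z hz => by rw [hy₀, h2 z hz]⟩
  · have hxy : B y₀ x = 1 := by rw [← hsymm.eq x y₀, hy₀, h1]
    refine ⟨y₀ - (B y₀ y₀ / 2) • x, ?_, ?_, fun z hz => ?_⟩
    · simp only [map_sub, map_smul, LinearMap.sub_apply, LinearMap.smul_apply, smul_eq_mul, hx, hxy, hy₀ x, h1]
      field_simp
      ring
    · simp [hy₀, h1, hx]
    · have : B z x = 0 := by rw [← hsymm.eq x z, hxz z hz]
      simp [hy₀, h2 z hz, this]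

end Cfsg.Agent.S0761
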