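import Mathlib
import Cfsg.Statements.S0762


set_option autoImplicit false
open Cfsg

namespace Cfsg.Agent.S0762

/-- In characteristic two over a finite field, a quadratic form on a space of dimension at least 3 vanishes on some non-zero vector. -/
theorem result {F V : Type*} [Field F] [Finite F] [CharP F 2] [AddCommGroup V] [Module F V] [FiniteDimensional F V] (Q : QuadraticForm F V) (h3 : 3 ≤ Module.finrank F V) : ∃ v : V, v ≠ 0 ∧ Q v = 0 := by
  classical
  haveI := Fintype.ofFinite F
  obtain ⟨v, hv⟩ : ∃ v : V, v ≠ 0 := by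
    haveI : Nontrivial V := Module.nontrivial_of_finrank_pos (R := F) (by omega)
    exact exists_ne 0
  by_cases hQv : Q v = 0
  · exact ⟨v, hv, hQv⟩
  let f : V →ₗ[F] F := QuadraticMap.polarBilin Q v
  have hk : 2 ≤ Module.finrank F f.ker := by
    have h1 := f.finrank_range_add_finrank_ker
    have h2 := Submodule.finrank_le f.range
    rw [Module.finrank_self] at h2
    omega
  obtain ⟨w, hwk, hw⟩ : ∃ w ∈ f.ker, w ∉ Submodule.span F {v} := by
    by_contra h
    simp only [not_exists, not_and, not_not] at h
    have h1 := Submodule.finrank_mono (show f.ker ≤ Submodule.span F {v} from h)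
    rw [finrank_span_singleton hv] at h1
    omega
  obtain ⟨a, ha⟩ : IsSquare (Q w / Q v) := FiniteField.isSquare_of_char_two (ringChar.eq F 2) _
  refine ⟨a • v + w, fun h => hw ?_, ?_⟩
  · rw [eq_neg_of_add_eq_zero_right h]
    exact neg_mem (Submodule.smul_mem _ _ (Submodule.mem_span_singleton_self v))
  · rw [QuadraticMap.map_add (⇑Q), QuadraticMap.map_smul, QuadraticMap.polar_smul_left]
    have : QuadraticMap.polar Q v w = 0 := hwk
    rw [this, smul_zero, add_zero, smul_eq_mul, ← ha, div_mul_cancel₀ _ hQv, CharTwo.add_self_eq_zero]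

end Cfsg.Agent.S0762
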