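import Cfsg.Statements.S0763

set_option autoImplicit false
open Cfsg

namespace Cfsg.Agent.S0763

/-- Binary quadratic forms in characteristic two over a finite field: if Q is a quadratic form on a 2-dimensional space whose polar form is non-degenerate, then either there are vectors v, w with Q v = Q w = 0 and polar value 1 (Q is xy in these coordinates), or there are v, w and μ with Q v = 1, Q w = μ, polar value 1 and x² + x + μ without roots in F (Q is x² + xy + μy²). -/
theorem result {F V : Type*} [Field F] [Finite F] [CharP F 2] [AddCommGroup V] [Module F V] (Q : QuadraticForm F V) (h2 : Module.finrank F V = 2) (hQ : (QuadraticMap.polarBilin Q).Nondegenerate) : (∃ v w : V, LinearIndependent F ![v, w] ∧ Q v = 0 ∧ Q w = 0 ∧ QuadraticMap.polar Q v w = 1) ∨ (∃ (v w : V) (μ : F), LinearIndependent F ![v, w] ∧ (∀ x : F, x ^ 2 + x + μ ≠ 0) ∧ Q v = 1 ∧ Q w = μ ∧ QuadraticMap.polar Q v w = 1) := by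
  classical
  haveI := Fintype.ofFinite F
  haveI : FiniteDimensional F V := Module.finite_of_finrank_pos (by omega)
  haveI : Nontrivial V := Module.nontrivial_of_finrank_pos (R := F) (by omega)
  have hself : ∀ v : V, QuadraticMap.polar Q v v = 0 := fun v => by
    rw [QuadraticMap.polar_self, two_nsmul, CharTwo.add_self_eq_zero]
  have hpair : ∀ v : V, v ≠ 0 → ∃ w, QuadraticMap.polar Q v w = 1 := fun v hv => by
    obtain ⟨u, hu⟩ : ∃ u, QuadraticMap.polar Q v u ≠ 0 := by
      by_contra h
      push Not at h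
      exact hv (hQ.1 v h)
    exact ⟨(QuadraticMap.polar Q v u)⁻¹ • u, by rw [QuadraticMap.polar_smul_right, smul_eq_mul, inv_mul_cancel₀ hu]⟩
  have hli : ∀ v w : V, QuadraticMap.polar Q v w = 1 → LinearIndependent F ![v, w] := fun v w h => by
    refine LinearIndependent.pair_iff.2 fun s t hst => ?_
    have h1 := congrArg (fun x => QuadraticMap.polar Q v x) hst
    have h2 := congrArg (fun x => QuadraticMap.polar Q x w) hst
    simp [QuadraticMap.polar_add_right, QuadraticMap.polar_smul_right, QuadraticMap.polar_zero_right, hself, h] at h1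
    simp [QuadraticMap.polar_add_left, QuadraticMap.polar_smul_left, QuadraticMap.polar_zero_left, hself, h] at h2
    exact ⟨h2, h1⟩
  have hadd : ∀ v w : V, Q (v + w) = Q v + Q w + QuadraticMap.polar Q v w := fun v w => by
    rw [QuadraticMap.polar]; ring
  by_cases h0 : ∃ v, v ≠ 0 ∧ Q v = 0
  · obtain ⟨v, hv, hv0⟩ := h0
    obtain ⟨w, hw⟩ := hpair v hv
    have hw' : QuadraticMap.polar Q v ((Q w) • v + w) = 1 := by
      rw [QuadraticMap.polar_add_right, QuadraticMap.polar_smul_right, hself, hw, smul_zero, zero_add]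
    refine Or.inl ⟨v, (Q w) • v + w, hli _ _ hw', hv0, ?_, hw'⟩
    rw [hadd, QuadraticMap.map_smul, hv0, QuadraticMap.polar_smul_left, hw, smul_eq_mul, smul_eq_mul, mul_zero, zero_add,
      mul_one, CharTwo.add_self_eq_zero]
  · push Not at h0
    obtain ⟨u, hu⟩ := exists_ne (0 : V)
    obtain ⟨t, ht⟩ := FiniteField.isSquare_of_char_two (ringChar.eq F 2) (Q u)
    have ht0 : t ≠ 0 := fun e => h0 u hu (by rw [ht, e, mul_zero])
    have hv : Q (t⁻¹ • u) = 1 := by
      rw [QuadraticMap.map_smul, ht, smul_eq_mul]; field_simp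
    obtain ⟨w, hw⟩ := hpair (t⁻¹ • u) (smul_ne_zero (inv_ne_zero ht0) hu)
    refine Or.inr ⟨t⁻¹ • u, w, Q w, hli _ _ hw, fun x hx => ?_, hv, rfl, hw⟩
    have hne : x • t⁻¹ • u + w ≠ 0 := fun h => by
      simpa using (LinearIndependent.pair_iff.1 (hli _ _ hw) x 1 (by rw [one_smul]; exact h)).2
    refine h0 _ hne ?_
    rw [hadd, QuadraticMap.map_smul, QuadraticMap.polar_smul_left, hv, hw, smul_eq_mul, smul_eq_mul]
    linear_combination hx

end Cfsg.Agent.S0763
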