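import Cfsg.Statements.S0769
import Cfsg.Agent.Lib.Classical.QuadBasic

set_option autoImplicit false
open Cfsg

namespace Cfsg.Agent.S0769

/-- Order of the Borel subgroup of GL_n(q): the invertible lower-triangular n × n matrices over a field with q elements number q^(n(n-1)/2) (q-1)^n (unitriangular part times the diagonal torus). -/
theorem result {F : Type*} [Field F] [Fintype F] {q : ℕ} (hF : Fintype.card F = q) (n : ℕ) : Nat.card {g : Matrix.GeneralLinearGroup (Fin n) F // ∀ i j : Fin n, i < j → (g : Matrix (Fin n) (Fin n) F) i j = 0} = q ^ (n * (n - 1) / 2) * (q - 1) ^ n := by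
  classical
  have hinv : ∀ g : Matrix.GeneralLinearGroup (Fin n) F,
      (∀ i j : Fin n, i < j → (g : Matrix (Fin n) (Fin n) F) i j = 0) →
      ∀ i, (g : Matrix (Fin n) (Fin n) F) i i ≠ 0 := by
    intro g hg i
    have hd : (g : Matrix (Fin n) (Fin n) F).det ≠ 0 :=
      ((Matrix.isUnit_iff_isUnit_det _).1 g.isUnit).ne_zero
    rw [Matrix.det_of_lowerTriangular _ (fun a b hab => hg a b hab)] at hd
    exact Finset.prod_ne_zero_iff.1 hd i (Finset.mem_univ _)
  let M : (Fin n → Fˣ) × ({p : Fin n × Fin n // p.2 < p.1} → F) → Matrix (Fin n) (Fin n) F :=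
    fun x => Matrix.of fun i j => if h : j < i then x.2 ⟨(i, j), h⟩ else if i = j then (x.1 i : F) else 0
  have hup : ∀ x i j, i < j → M x i j = 0 := fun x i j h => by
    simp [M, h.not_gt, h.ne]
  have hd : ∀ x, (M x).det ≠ 0 := fun x => by
    rw [Matrix.det_of_lowerTriangular _ (fun a b hab => hup x a b hab)]
    exact Finset.prod_ne_zero_iff.2 fun i _ => by simp [M]
  let e : {g : Matrix.GeneralLinearGroup (Fin n) F // ∀ i j : Fin n, i < j → (g : Matrix (Fin n) (Fin n) F) i j = 0}
      ≃ (Fin n → Fˣ) × ({p : Fin n × Fin n // p.2 < p.1} → F) :=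
    { toFun := fun g => (fun i => Units.mk0 _ (hinv g.1 g.2 i), fun p => (g.1 : Matrix (Fin n) (Fin n) F) p.1.1 p.1.2)
      invFun := fun x => ⟨Matrix.GeneralLinearGroup.mkOfDetNeZero (M x) (hd x), hup x⟩
      left_inv := fun g => Subtype.ext (Units.ext (Matrix.ext fun i j => by
        rcases lt_trichotomy j i with h | h | h
        · exact dif_pos h
        · subst h; exact (dif_neg (lt_irrefl j)).trans (if_pos rfl)
        · exact (hup _ i j h).trans (g.2 i j h).symm))
      right_inv := fun x => Prod.ext (funext fun i => Units.ext (by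
          exact (dif_neg (lt_irrefl i)).trans (if_pos rfl)))
        (funext fun p => dif_pos p.2) }
  have hpairs : Fintype.card {p : Fin n × Fin n // p.2 < p.1} = n * (n - 1) / 2 := by
    rw [Fintype.card_congr (Equiv.subtypeProdEquivSigmaSubtype fun i j : Fin n => j < i),
      Fintype.card_sigma, ← Finset.sum_range_id, ← Fin.sum_univ_eq_sum_range (fun i => i) n]
    refine Finset.sum_congr rfl fun i _ => ?_
    rw [Fintype.card_subtype, Finset.filter_gt_eq_Iio, Fin.card_Iio]
  rw [Nat.card_congr e, Nat.card_prod, Nat.card_pi, Finset.prod_const, Nat.card_eq_fintype_card,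
    Nat.card_eq_fintype_card, Fintype.card_fun, Fintype.card_units, hpairs, hF, Finset.card_fin, mul_comm]

end Cfsg.Agent.S0769
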