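import Cfsg.Statements.S0770
import Cfsg.Agent.Lib.Classical.QuadBasic

set_option autoImplicit false
open Cfsg

namespace Cfsg.Agent.S0770

/-- For a field with at least 3 elements, an invertible matrix normalises the subgroup of invertible diagonal matrices of GL_n if and only if it is monomial (exactly one non-zero entry in each row). -/
theorem result {F : Type*} [Field F] (hF : ∃ a : F, a ≠ 0 ∧ a ≠ 1) (n : ℕ) (g : Matrix.GeneralLinearGroup (Fin n) F) : g ∈ Subgroup.normalizer ((Units.map (Matrix.diagonalRingHom (Fin n) F).toMonoidHom).range : Subgroup (Matrix.GeneralLinearGroup (Fin n) F)) ↔ ∀ i : Fin n, ∃! j : Fin n, (g : Matrix (Fin n) (Fin n) F) i j ≠ 0 := by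
  classical
  set D := (Units.map (Matrix.diagonalRingHom (Fin n) F).toMonoidHom).range
  have hmem : ∀ h : Matrix.GeneralLinearGroup (Fin n) F, h ∈ D ↔ ∃ d : (Fin n → F)ˣ,
      (h : Matrix (Fin n) (Fin n) F) = Matrix.diagonal (d : Fin n → F) := fun h =>
    ⟨fun ⟨d, hd⟩ => ⟨d, by rw [← hd]; rfl⟩, fun ⟨d, hd⟩ => ⟨d, Units.ext (hd.symm ▸ rfl)⟩⟩
  have hdet : (g : Matrix (Fin n) (Fin n) F).det ≠ 0 :=
    ((Matrix.isUnit_iff_isUnit_det _).1 g.isUnit).ne_zero
  have key : ∀ (d e : (Fin n → F)ˣ), (∀ i j, (g : Matrix (Fin n) (Fin n) F) i j * (d : Fin n → F) j =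
      (e : Fin n → F) i * (g : Matrix (Fin n) (Fin n) F) i j) →
      g * Units.map (Matrix.diagonalRingHom (Fin n) F).toMonoidHom d * g⁻¹ =
        Units.map (Matrix.diagonalRingHom (Fin n) F).toMonoidHom e := fun d e h => by
    rw [mul_inv_eq_iff_eq_mul]
    refine Units.ext (Matrix.ext fun i j => ?_)
    show ((g : Matrix (Fin n) (Fin n) F) * Matrix.diagonal (d : Fin n → F)) i j =
      (Matrix.diagonal (e : Fin n → F) * (g : Matrix (Fin n) (Fin n) F)) i j
    rw [Matrix.mul_diagonal, Matrix.diagonal_mul, h]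
  rw [Subgroup.mem_normalizer_iff]
  constructor
  · intro hN i
    obtain ⟨j, hj⟩ : ∃ j, (g : Matrix (Fin n) (Fin n) F) i j ≠ 0 := by
      by_contra hc
      push Not at hc
      exact hdet (Matrix.det_eq_zero_of_row_eq_zero i hc)
    refine ⟨j, hj, fun k hk => ?_⟩
    by_contra hkj
    obtain ⟨a, ha0, ha1⟩ := hF
    let d : (Fin n → F)ˣ := MulEquiv.piUnits.symm fun l => if l = j then Units.mk0 a ha0 else 1
    obtain ⟨e, he⟩ := (hmem _).1 ((hN _).1 ⟨d, rfl⟩)
    have he2 : (g : Matrix (Fin n) (Fin n) F) * Matrix.diagonal (d : Fin n → F) =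
        Matrix.diagonal (e : Fin n → F) * (g : Matrix (Fin n) (Fin n) F) := by
      rw [← he, Units.val_mul, Units.val_mul, mul_assoc _ _ (g : Matrix (Fin n) (Fin n) F), ← Units.val_mul g⁻¹,
        inv_mul_cancel, Units.val_one, mul_one]
      rfl
    have e1 := congrFun (congrFun he2 i) j
    have e2 := congrFun (congrFun he2 i) k
    rw [Matrix.mul_diagonal, Matrix.diagonal_mul, mul_comm] at e1 e2
    have hdj : (d : Fin n → F) j = a := by simp [d, MulEquiv.piUnits]
    have hdk : (d : Fin n → F) k = 1 := by simp [d, MulEquiv.piUnits, hkj]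
    have e1' := mul_right_cancel₀ hj e1
    have e2' := mul_right_cancel₀ hk e2
    exact ha1 (by rw [← hdj, e1', ← e2', hdk])
  · intro hm
    choose σ hσ hσu using hm
    have hσb : Function.Bijective σ := by
      rw [Finite.injective_iff_bijective.symm]
      rw [Finite.injective_iff_surjective]
      intro j
      by_contra hc
      push Not at hc
      refine hdet (Matrix.det_eq_zero_of_column_eq_zero j fun i => ?_)
      by_contra hne
      exact hc i (hσu i j hne).symm
    let π : Fin n ≃ Fin n := Equiv.ofBijective σ hσb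
    have hrel : ∀ d : Fin n → F, ∀ i j, (g : Matrix (Fin n) (Fin n) F) i j * d j =
        d (σ i) * (g : Matrix (Fin n) (Fin n) F) i j := fun d i j => by
      by_cases h : (g : Matrix (Fin n) (Fin n) F) i j = 0
      · simp [h]
      · rw [hσu i j h, mul_comm]
    intro h
    constructor
    · rintro ⟨d, rfl⟩
      let e : (Fin n → F)ˣ := MulEquiv.piUnits.symm fun i => MulEquiv.piUnits d (σ i)
      exact ⟨e, (key d e fun i j => by rw [hrel]; rfl).symm⟩
    · rintro ⟨e, he⟩
      let d : (Fin n → F)ˣ := MulEquiv.piUnits.symm fun j => MulEquiv.piUnits e (π.symm j)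
      refine ⟨d, ?_⟩
      have h2 := key d e fun i j => by
        rw [hrel]
        congr 1
        show (e : Fin n → F) (π.symm (π i)) = _
        rw [Equiv.symm_apply_apply]
      have := (he.symm.trans h2.symm).symm
      exact mul_left_cancel (mul_right_cancel this)

end Cfsg.Agent.S0770
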