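import Cfsg.Statements.S0773
import Cfsg.Agent.Lib.Classical.GLStab

set_option autoImplicit false
open Cfsg

namespace Cfsg.Agent.S0773

/-- The stabilisers in GL_n(F), F finite, of the coordinate subspaces of dimensions k and n − k are isomorphic groups, but when 2k ≠ n (and 0 < k < n) no element of GL_n conjugates one onto the other. -/
theorem result {F : Type*} [Field F] [Finite F] (n k : ℕ) (hk0 : 0 < k) (hkn : k < n) (h2 : 2 * k ≠ n) : Nonempty (↥(Cfsg.stabilizing (Cfsg.glToMat (Fin n) F) {v : Fin n → F | ∀ i : Fin n, k ≤ (i : ℕ) → v i = 0}) ≃* ↥(Cfsg.stabilizing (Cfsg.glToMat (Fin n) F) {v : Fin n → F | ∀ i : Fin n, n - k ≤ (i : ℕ) → v i = 0})) ∧ ∀ g : Matrix.GeneralLinearGroup (Fin n) F, (Cfsg.stabilizing (Cfsg.glToMat (Fin n) F) {v : Fin n → F | ∀ i : Fin n, k ≤ (i : ℕ) → v i = 0}).map (MulAut.conj g).toMonoidHom ≠ Cfsg.stabilizing (Cfsg.glToMat (Fin n) F) {v : Fin n → F | ∀ i : Fin n, n - k ≤ (i : ℕ) → v i = 0} := by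
  classical
  open CfsgLib.GLStab Matrix in
  refine ⟨CfsgLib.GLStab.stab_equiv hkn.le, fun g hg => ?_⟩
  have hinv : ∀ a ∈ stab F n (n - k), ∀ v ∈ (coord F n k).map (g : Matrix (Fin n) (Fin n) F).mulVecLin,
      (a : Matrix (Fin n) (Fin n) F) *ᵥ v ∈ (coord F n k).map (g : Matrix (Fin n) (Fin n) F).mulVecLin := by
    rintro a ha _ ⟨w, hw, rfl⟩
    change a ∈ Cfsg.stabilizing (Cfsg.glToMat (Fin n) F) {v : Fin n → F | ∀ i : Fin n, n - k ≤ (i : ℕ) → v i = 0} at ha
    rw [← hg] at ha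
    obtain ⟨s, hs, rfl⟩ := ha
    refine ⟨(s : Matrix (Fin n) (Fin n) F) *ᵥ w, (hs w).1 hw, ?_⟩
    show _ = ((g * s * g⁻¹ : Matrix.GeneralLinearGroup (Fin n) F) : Matrix (Fin n) (Fin n) F) *ᵥ _
    rw [Matrix.mulVecLin_apply, Matrix.mulVecLin_apply, Matrix.mulVec_mulVec, Matrix.mulVec_mulVec, ← Units.val_mul,
      ← Units.val_mul, inv_mul_cancel_right]
  have hd : Module.finrank F ((coord F n k).map (g : Matrix (Fin n) (Fin n) F).mulVecLin) = k := by
    rw [← (Submodule.equivMapOfInjective _ (Matrix.mulVec_injective_iff_isUnit.2 g.isUnit) _).finrank_eq, finrank_coord hkn.le]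
  rcases invariant_le (show 0 < n - k by omega) _ hinv with h | h
  · rw [h, finrank_top, Module.finrank_fin_fun] at hd
    omega
  · rcases lt_or_gt_of_ne h2 with hlt | hlt
    swap
    · have := Submodule.finrank_mono h
      rw [hd, finrank_coord (by omega)] at this
      omega
    · exact CfsgLib.GLStab.proper_sub_not_invariant (show n - k ≤ n by omega) _ h (by omega) (by omega) hinv

end Cfsg.Agent.S0773
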