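import Cfsg.Statements.S0777
import Mathlib

set_option autoImplicit false
open Cfsg

namespace Cfsg.Agent.S0777

/-- Weyl group of type C_m: for q ≥ 4 the diagonal matrices of Sp_2m(q) form a torus T ≅ (C_(q−1))^m (the elements stabilising every coordinate axis), and the normaliser of T in Sp_2m(q) has order 2^m · m! · (q − 1)^m. -/
theorem result {F : Type*} [Field F] [Fintype F] {q : ℕ} (hF : Fintype.card F = q) (hq : 4 ≤ q) (m : ℕ) : Nat.card ↥(Subgroup.normalizer (⨅ i : Fin m ⊕ Fin m, Cfsg.stabilizing (Cfsg.spToMat m F) ((Submodule.span F {(Pi.single i (1 : F) : Fin m ⊕ Fin m → F)} : Submodule F (Fin m ⊕ Fin m → F)) : Set (Fin m ⊕ Fin m → F)) : Set (Matrix.symplecticGroup (Fin m) F))) = 2 ^ m * Nat.factorial m * (q - 1) ^ m := by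
  classical
  obtain ⟨T, hT⟩ : ∃ T, T = ⨅ i : Fin m ⊕ Fin m, Cfsg.stabilizing (Cfsg.spToMat m F)
      ((Submodule.span F {(Pi.single i (1 : F) : Fin m ⊕ Fin m → F)} : Submodule F (Fin m ⊕ Fin m → F)) :
        Set (Fin m ⊕ Fin m → F)) := ⟨_, rfl⟩
  rw [show (⨅ i : Fin m ⊕ Fin m, ((Cfsg.stabilizing (Cfsg.spToMat m F)
      ((Submodule.span F {(Pi.single i (1 : F) : Fin m ⊕ Fin m → F)} : Submodule F (Fin m ⊕ Fin m → F)) :
        Set (Fin m ⊕ Fin m → F))) : Set (Matrix.symplecticGroup (Fin m) F))) = (T : Set (Matrix.symplecticGroup (Fin m) F))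
    from by rw [hT, Subgroup.coe_iInf, Set.iInf_eq_iInter]]
  have hdet : ∀ g : Matrix.symplecticGroup (Fin m) F, IsUnit g.1.det := fun g => SymplecticGroup.symplectic_det g.2
  have hcol : ∀ (g : Matrix.symplecticGroup (Fin m) F) b, ∃ a, g.1 a b ≠ 0 := fun g b => by
    by_contra h; push Not at h
    exact (hdet g).ne_zero (Matrix.det_eq_zero_of_column_eq_zero b h)
  have hrow : ∀ (g : Matrix.symplecticGroup (Fin m) F) a, ∃ b, g.1 a b ≠ 0 := fun g a => by
    by_contra h; push Not at h
    exact (hdet g).ne_zero (Matrix.det_eq_zero_of_row_eq_zero a h)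
  have hTmem : ∀ g : Matrix.symplecticGroup (Fin m) F, g ∈ T ↔ ∀ a b, a ≠ b → g.1 a b = 0 := by
    intro g
    rw [hT, Subgroup.mem_iInf]
    constructor
    · intro h a b hab
      have := (h b (Pi.single b 1)).1 (Submodule.mem_span_singleton_self _)
      obtain ⟨c, hc⟩ := Submodule.mem_span_singleton.1 this
      have := congrFun hc a
      simp [Cfsg.spToMat, hab] at this
      exact this.symm
    · intro h i v
      have hd : ∀ a, g.1 a a ≠ 0 := fun a => by
        obtain ⟨b, hb⟩ := hcol g a
        rcases eq_or_ne b a with rfl | hne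
        · exact hb
        · exact absurd (h b a hne) hb
      have hv : ∀ a, (g.1.mulVec v) a = g.1 a a * v a := fun a => by
        simp only [Matrix.mulVec, dotProduct]
        exact Finset.sum_eq_single a (fun b _ hb => by rw [h a b hb.symm, zero_mul]) (by simp)
      have key : ∀ w : Fin m ⊕ Fin m → F, w ∈ (Submodule.span F {(Pi.single i (1 : F) : Fin m ⊕ Fin m → F)}) ↔
          ∀ a, a ≠ i → w a = 0 := fun w => by
        rw [Submodule.mem_span_singleton]
        refine ⟨fun ⟨c, hc⟩ a ha => by rw [← hc]; simp [ha], fun hw => ⟨w i, funext fun a => ?_⟩⟩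
        rcases eq_or_ne a i with rfl | ha
        · simp
        · simp [ha, hw a ha]
      show v ∈ Submodule.span F _ ↔ g.1.mulVec v ∈ Submodule.span F _
      rw [key, key]
      simp only [hv, mul_eq_zero, hd, false_or]
  obtain ⟨sw, hsw⟩ : ∃ sw : Fin m → Bool → Fin m ⊕ Fin m, sw = fun i e => if e then .inr i else .inl i := ⟨_, rfl⟩
  let π : Equiv.Perm (Fin m) × (Fin m → Bool) → (Fin m ⊕ Fin m) → (Fin m ⊕ Fin m) := fun p =>
    Sum.elim (fun i => sw (p.1 i) (p.2 i)) (fun i => sw (p.1 i) (!p.2 i))
  let w : (Fin m → Bool) × (Fin m → Fˣ) → (Fin m ⊕ Fin m) → F := fun p =>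
    Sum.elim (fun i => (p.2 i : F)) (fun i => if p.1 i then -((p.2 i : F))⁻¹ else ((p.2 i : F))⁻¹)
  have hsw_inj : ∀ i j e f, sw i e = sw j f → i = j ∧ e = f := by
    intro i j e f h
    cases e <;> cases f <;> simp [hsw] at h <;> simp [h]
  have hπ : ∀ p, Function.Injective (π p) := by
    rintro ⟨σ, ε⟩ (i | i) (j | j) h <;> obtain ⟨h1, h2⟩ := hsw_inj _ _ _ _ h <;> obtain rfl := σ.injective h1
    · rfl
    · exact absurd h2 (by cases ε i <;> simp)
    · exact absurd h2 (by cases ε i <;> simp)
    · rfl
  have j11 : ∀ i j, Matrix.J (Fin m) F (.inl i) (.inl j) = 0 := fun i j => rfl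
  have j22 : ∀ i j, Matrix.J (Fin m) F (.inr i) (.inr j) = 0 := fun i j => rfl
  have j12 : ∀ i j, Matrix.J (Fin m) F (.inl i) (.inr j) = if i = j then -1 else 0 := fun i j => by
    show (-(1 : Matrix (Fin m) (Fin m) F)) i j = _
    rw [Matrix.neg_apply, Matrix.one_apply]; split_ifs <;> simp
  have j21 : ∀ i j, Matrix.J (Fin m) F (.inr i) (.inl j) = if i = j then 1 else 0 := fun i j => by
    show (1 : Matrix (Fin m) (Fin m) F) i j = _
    rw [Matrix.one_apply]
  have hJ : ∀ σ ε c a b, w (ε, c) a * Matrix.J (Fin m) F a b * w (ε, c) b =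
      Matrix.J (Fin m) F (π (σ, ε) a) (π (σ, ε) b) := by
    intro σ ε c a b
    rcases a with i | i <;> rcases b with j | j <;> rcases eq_or_ne i j with rfl | hij <;>
      simp only [π, w, Sum.elim_inl, Sum.elim_inr, hsw]
    all_goals cases hi : ε i
    all_goals try (cases hj : ε j)
    all_goals simp_all only [Bool.not_false, Bool.not_true, if_true, if_false, Bool.false_eq_true, j11, j12, j21, j22,
      EmbeddingLike.apply_eq_iff_eq, mul_zero, zero_mul]
    all_goals simp
  let M : (Equiv.Perm (Fin m) × (Fin m → Bool)) → (Fin m → Fˣ) → Matrix (Fin m ⊕ Fin m) (Fin m ⊕ Fin m) F :=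
    fun p c => Matrix.of fun a b => if a = π p b then w (p.2, c) b else 0
  have hM : ∀ p c, M p c ∈ Matrix.symplecticGroup (Fin m) F := by
    intro p c
    rw [SymplecticGroup.mem_iff]
    ext a b
    obtain ⟨a', rfl⟩ := (Finite.injective_iff_surjective.1 (hπ p)) a
    obtain ⟨b', rfl⟩ := (Finite.injective_iff_surjective.1 (hπ p)) b
    rw [Matrix.mul_apply, Finset.sum_eq_single b' (fun x _ hx => by
        simp [M, Matrix.transpose_apply, (hπ p).ne hx.symm]) (by simp),
      Matrix.mul_apply, Finset.sum_eq_single a' (fun x _ hx => by simp [M, (hπ p).ne hx.symm]) (by simp)]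
    simp [M, Matrix.transpose_apply, ← hJ p.1 p.2 c]
  have hwne : ∀ p a, w p a ≠ 0 := by
    intro p a
    rcases a with i | i <;> simp only [w, Sum.elim_inl, Sum.elim_inr]
    · exact Units.ne_zero _
    · split_ifs <;> simp
  have hMN : ∀ p c, (⟨M p c, hM p c⟩ : Matrix.symplecticGroup (Fin m) F) ∈ Subgroup.normalizer (T : Set (Matrix.symplecticGroup (Fin m) F)) := by
    intro p c
    refine Subgroup.mem_normalizer_fintype fun t ht => ?_
    obtain ⟨g, hg⟩ : ∃ g : Matrix.symplecticGroup (Fin m) F, g = ⟨M p c, hM p c⟩ := ⟨_, rfl⟩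
    rw [← hg]
    obtain ⟨s, hs⟩ : ∃ s, s = g * t * g⁻¹ := ⟨_, rfl⟩
    rw [← hs]
    rw [SetLike.mem_coe, hTmem] at ht ⊢
    have hst : s.1 * g.1 = g.1 * t.1 := congrArg Subtype.val (show s * g = g * t by rw [hs, inv_mul_cancel_right])
    intro a b hab
    obtain ⟨b', rfl⟩ := (Finite.injective_iff_surjective.1 (hπ p)) b
    have h1 := congrFun (congrFun hst a) b'
    rw [Matrix.mul_apply, Matrix.mul_apply, Finset.sum_eq_single (π p b') (fun x _ hx => by
        rw [hg]; simp [M, hx]) (by simp), Finset.sum_eq_single b' (fun x _ hx => by rw [ht x b' hx, mul_zero]) (by simp),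
      hg] at h1
    simp [M, hab, hwne] at h1
    exact h1
  let Ψ : (Equiv.Perm (Fin m) × (Fin m → Bool)) × (Fin m → Fˣ) →
      Subgroup.normalizer (T : Set (Matrix.symplecticGroup (Fin m) F)) := fun p => ⟨⟨M p.1 p.2, hM p.1 p.2⟩, hMN p.1 p.2⟩
  obtain ⟨u, hu⟩ : ∃ u : F, u ≠ 0 ∧ u * u ≠ 1 := by
    by_contra h; push Not at h
    have hsub : (Finset.univ : Finset F) ⊆ {0, 1, -1} := fun a _ => by
      rcases eq_or_ne a 0 with ha | ha
      · simp [ha]
      · rcases mul_self_eq_one_iff.1 (h a ha) with e | e <;> simp [e]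
    have := (Finset.card_le_card hsub).trans Finset.card_le_three
    rw [Finset.card_univ, hF] at this
    omega
  have hbij : Function.Bijective Ψ := by
    constructor
    · rintro ⟨⟨σ, ε⟩, c⟩ ⟨⟨σ', ε'⟩, c'⟩ h
      have hm : M (σ, ε) c = M (σ', ε') c' := congrArg (fun x => x.1.1) h
      have h1 : ∀ b, π (σ, ε) b = π (σ', ε') b ∧ w (ε, c) b = w (ε', c') b := fun b => by
        have := congrFun (congrFun hm (π (σ, ε) b)) b
        simp only [M, Matrix.of_apply, if_true] at this
        split_ifs at this with e
        · exact ⟨e, this⟩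
        · exact absurd this (hwne _ _)
      have h2 : σ = σ' ∧ ε = ε' := ⟨Equiv.ext fun i => (hsw_inj _ _ _ _ (h1 (.inl i)).1).1,
        funext fun i => (hsw_inj _ _ _ _ (h1 (.inl i)).1).2⟩
      obtain ⟨rfl, rfl⟩ := h2
      exact Prod.ext rfl (funext fun i => Units.ext (h1 (.inl i)).2)
    · rintro ⟨g, hg⟩
      let tor : (Fin m → Fˣ) → Matrix.symplecticGroup (Fin m) F := fun c => ⟨M (1, fun _ => false) c, hM _ _⟩
      have hid : ∀ b, π ((1 : Equiv.Perm (Fin m)), fun _ => false) b = b := by
        rintro (i | i) <;> simp [π, hsw]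
      have htor : ∀ c, tor c ∈ T := fun c => (hTmem _).2 fun a b hab => by simp [tor, M, hid, hab]
      have huniq : ∀ a a' b, g.1 a b ≠ 0 → g.1 a' b ≠ 0 → a = a' := by
        intro a a' b ha ha'
        by_contra hne
        obtain ⟨i, hi⟩ : ∃ i, i = Sum.elim id id a := ⟨_, rfl⟩
        obtain ⟨t', ht'⟩ : ∃ t', t' = g⁻¹ * tor (Function.update 1 i (Units.mk0 u hu.1)) * g := ⟨_, rfl⟩
        have htT : t' ∈ T := by
          rw [ht']
          have := (Subgroup.mem_normalizer_iff.1 (inv_mem hg) (tor (Function.update 1 i (Units.mk0 u hu.1)))).1 (htor _)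
          rwa [inv_inv] at this
        have heq : (tor (Function.update 1 i (Units.mk0 u hu.1))).1 * g.1 = g.1 * t'.1 :=
          congrArg Subtype.val (show tor (Function.update 1 i (Units.mk0 u hu.1)) * g = g * t' by rw [ht']; group)
        have hval : ∀ x, g.1 x b ≠ 0 → w (fun _ => false, Function.update 1 i (Units.mk0 u hu.1)) x = t'.1 b b := by
          intro x hx
          have h1 := congrFun (congrFun heq x) b
          rw [Matrix.mul_apply, Matrix.mul_apply, Finset.sum_eq_single x (fun y _ hy => by
              simp [tor, M, hid, hy.symm]) (by simp),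
            Finset.sum_eq_single b (fun y _ hy => by rw [(hTmem _).1 htT y b hy, mul_zero]) (by simp),
            mul_comm (g.1 x b)] at h1
          simp [tor, M, hid] at h1
          exact h1.resolve_right hx
        have he := (hval a ha).trans (hval a' ha').symm
        obtain ⟨hu0, hu2⟩ := hu
        have hu1 : u ≠ 1 := fun h => hu2 (by rw [h, one_mul])
        have hu1' : u⁻¹ ≠ 1 := fun h => hu1 (inv_eq_one.1 h)
        have huu : u ≠ u⁻¹ := fun h => hu2 (by
          have h2 := mul_inv_cancel₀ hu0
          rwa [← h] at h2)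
        have hwl : ∀ k, w (fun _ => false, Function.update 1 i (Units.mk0 u hu0)) (.inl k) =
            if k = i then u else 1 := fun k => by
          by_cases hk : k = i
          · subst hk; simp [w]
          · simp [w, hk]
        have hwr : ∀ k, w (fun _ => false, Function.update 1 i (Units.mk0 u hu0)) (.inr k) =
            if k = i then u⁻¹ else 1 := fun k => by
          by_cases hk : k = i
          · subst hk; simp [w]
          · simp [w, hk]
        cases a with
        | inl k =>
          have hik : k = i := hi.symm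
          rw [hwl, if_pos hik] at he
          cases a' with
          | inl k' =>
            rw [hwl, if_neg (fun e => hne (by rw [hik, e]))] at he
            exact hu1 he
          | inr k' =>
            rw [hwr] at he
            split_ifs at he
            · exact huu he
            · exact hu1 he
        | inr k =>
          have hik : k = i := hi.symm
          rw [hwr, if_pos hik] at he
          cases a' with
          | inr k' =>
            rw [hwr, if_neg (fun e => hne (by rw [hik, e]))] at he
            exact hu1' he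
          | inl k' =>
            rw [hwl] at he
            split_ifs at he
            · exact huu he.symm
            · exact hu1' he
      choose f hf using hcol g
      have hf' : ∀ a b, g.1 a b ≠ 0 → a = f b := fun a b h => huniq a (f b) b h (hf b)
      have hfs : Function.Surjective f := fun a => by
        obtain ⟨b, hb⟩ := hrow g a
        exact ⟨b, (hf' a b hb).symm⟩
      have hfi : Function.Injective f := Finite.injective_iff_surjective.2 hfs
      have hz : ∀ a b, a ≠ f b → g.1 a b = 0 := fun a b h => by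
        by_contra h'; exact h (hf' a b h')
      have hJ' : ∀ a b, g.1 (f a) a * Matrix.J (Fin m) F a b * g.1 (f b) b = Matrix.J (Fin m) F (f a) (f b) := by
        intro a b
        have h1 := congrFun (congrFun (SymplecticGroup.mem_iff.1 g.2) (f a)) (f b)
        rwa [Matrix.mul_apply, Finset.sum_eq_single b (fun x _ hx => by
            rw [Matrix.transpose_apply, hz _ _ (hfi.ne hx.symm), mul_zero]) (by simp),
          Matrix.mul_apply, Finset.sum_eq_single a (fun x _ hx => by rw [hz _ _ (hfi.ne hx.symm), zero_mul]) (by simp),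
          Matrix.transpose_apply] at h1
      obtain ⟨σ₀, ε, hfl⟩ : ∃ (σ : Fin m → Fin m) (ε : Fin m → Bool), ∀ i, f (.inl i) = sw (σ i) (ε i) :=
        ⟨fun i => Sum.elim id id (f (.inl i)), fun i => (f (.inl i)).isRight, fun i => by
          cases h : f (.inl i) <;> simp [hsw, h]⟩
      have hfr : ∀ i, f (.inr i) = sw (σ₀ i) (!ε i) := by
        intro i
        have h1 := hJ' (.inl i) (.inr i)
        have hne : Matrix.J (Fin m) F (f (.inl i)) (f (.inr i)) ≠ 0 := by
          rw [← h1]
          refine mul_ne_zero (mul_ne_zero (hf _) ?_) (hf _)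
          simp [Matrix.J]
        rw [hfl i] at hne
        cases he : ε i <;> rcases hr : f (.inr i) with j | j <;> rw [he, hr] at hne <;>
          simp [hsw, Matrix.J, Matrix.one_apply] at hne <;> simp [hsw, hne]
      have hσ : Function.Injective σ₀ := fun i j h => by
        by_cases he : ε i = ε j
        · exact Sum.inl_injective (hfi (by rw [hfl, hfl, h, he]))
        · exact absurd (hfi (show f (.inl i) = f (.inr j) by
            rw [hfl, hfr, h]; congr 1; revert he; cases ε i <;> cases ε j <;> simp)) (by simp)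
      obtain ⟨σ, hσe⟩ : ∃ σ : Equiv.Perm (Fin m), ∀ i, σ i = σ₀ i :=
        ⟨Equiv.ofBijective σ₀ (Finite.injective_iff_bijective.1 hσ), fun i => rfl⟩
      refine ⟨((σ, ε), fun i => Units.mk0 (g.1 (f (.inl i)) (.inl i)) (hf _)), Subtype.ext (Subtype.ext ?_)⟩
      ext a b
      have hfb : π (σ, ε) b = f b := by rcases b with i | i <;> simp [π, hσe, hfl, hfr]
      show (if a = π (σ, ε) b then _ else _) = g.1 a b
      rw [hfb]
      split_ifs with h
      · subst h
        rcases b with i | i
        · simp [w]
        · have h1 := hJ' (.inl i) (.inr i)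
          have hc : g.1 (f (.inl i)) (.inl i) ≠ 0 := hf _
          have h2 : Matrix.J (Fin m) F (f (.inl i)) (f (.inr i)) = if ε i then 1 else -1 := by
            rw [hfl, hfr]
            cases ε i <;> simp [hsw, j12, j21]
          rw [h2, j12, if_pos rfl] at h1
          show (if ε i then -((g.1 (f (.inl i)) (.inl i)))⁻¹ else ((g.1 (f (.inl i)) (.inl i)))⁻¹) = _
          split_ifs with he
          · rw [if_pos he] at h1
            field_simp
            linear_combination h1
          · rw [if_neg he] at h1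
            field_simp
            linear_combination h1
      · exact (hz a b h).symm
  rw [← Nat.card_congr (Equiv.ofBijective Ψ hbij), Nat.card_prod, Nat.card_prod, Nat.card_perm, Nat.card_pi, Nat.card_pi]
  simp only [Finset.prod_const, Finset.card_univ, Fintype.card_fin, Nat.card_eq_fintype_card, Fintype.card_bool,
    Fintype.card_units, hF]
  ring

end Cfsg.Agent.S0777
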