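import Cfsg.Statements.S0778
import Cfsg.Agent.Lib.Classical.QuadBasic

set_option autoImplicit false
open Cfsg

namespace Cfsg.Agent.S0778

/-- The elements of Sp_2m(F) stabilising both W = ⟨e_1..e_m⟩ and U = ⟨f_1..f_m⟩ form a subgroup isomorphic to GL_m(F) (block-diagonal matrices diag(X, X^(−ᵀ)) up to the sign convention of J), for m ≥ 1 or m = 0 alike. -/
theorem result {F : Type*} [Field F] (m : ℕ) : Nonempty (↥(Cfsg.stabilizing (Cfsg.spToMat m F) {v : Fin m ⊕ Fin m → F | ∀ i : Fin m, v (Sum.inr i) = 0} ⊓ Cfsg.stabilizing (Cfsg.spToMat m F) {v : Fin m ⊕ Fin m → F | ∀ i : Fin m, v (Sum.inl i) = 0}) ≃* Matrix.GeneralLinearGroup (Fin m) F) := by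
  classical
  set H := Cfsg.stabilizing (Cfsg.spToMat m F) {v : Fin m ⊕ Fin m → F | ∀ i : Fin m, v (Sum.inr i) = 0} ⊓
    Cfsg.stabilizing (Cfsg.spToMat m F) {v : Fin m ⊕ Fin m → F | ∀ i : Fin m, v (Sum.inl i) = 0}
  have hblock : ∀ A D : Matrix (Fin m) (Fin m) F,
      Matrix.fromBlocks A 0 0 D ∈ Matrix.symplecticGroup (Fin m) F ↔ A * D.transpose = 1 := by
    intro A D
    rw [SymplecticGroup.mem_iff]
    simp only [Matrix.J, Matrix.fromBlocks_transpose, Matrix.fromBlocks_multiply, Matrix.transpose_zero,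
      Matrix.mul_zero, Matrix.zero_mul, add_zero, zero_add, Matrix.mul_neg, Matrix.neg_mul, Matrix.mul_one,
      Matrix.fromBlocks_inj, neg_inj, true_and, and_true]
    refine ⟨fun h => h.1, fun h => ⟨h, ?_⟩⟩
    simpa using congrArg Matrix.transpose h
  have hmv : ∀ (A D : Matrix (Fin m) (Fin m) F) (v : Fin m ⊕ Fin m → F) (i : Fin m),
      Matrix.mulVec (Matrix.fromBlocks A 0 0 D) v (Sum.inl i) = Matrix.mulVec A (v ∘ Sum.inl) i ∧
      Matrix.mulVec (Matrix.fromBlocks A 0 0 D) v (Sum.inr i) = Matrix.mulVec D (v ∘ Sum.inr) i := by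
    intro A D v i
    rw [Matrix.fromBlocks_mulVec]
    simp
  have hcancel : ∀ (A : Matrix (Fin m) (Fin m) F), IsUnit A → ∀ w : Fin m → F,
      (∀ i, Matrix.mulVec A w i = 0) → ∀ i, w i = 0 := fun A hA w h i => by
    have := Matrix.mulVec_injective_of_isUnit hA (a₁ := w) (a₂ := 0) (funext fun i => by simp [h i])
    simp [this]
  let Φ : Matrix.GeneralLinearGroup (Fin m) F → H := fun X =>
    ⟨⟨Matrix.fromBlocks X.1 0 0 (X⁻¹).1.transpose, (hblock _ _).2 (by
      rw [Matrix.transpose_transpose]; exact Units.mul_inv X)⟩, by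
      constructor <;> intro v <;> show _ ↔ ∀ i : Fin m, Matrix.mulVec (Matrix.fromBlocks _ 0 0 _) v _ = 0
      · simp only [(hmv _ _ v _).2]
        refine ⟨fun h i => ?_, fun h => hcancel _ ((Matrix.isUnit_transpose _).2 (X⁻¹).isUnit) _ h⟩
        rw [show v ∘ Sum.inr = 0 from funext h]; simp
      · simp only [(hmv _ _ v _).1]
        refine ⟨fun h i => ?_, fun h => hcancel _ X.isUnit _ h⟩
        rw [show v ∘ Sum.inl = 0 from funext h]; simp⟩
  have hmul : ∀ X Y, Φ (X * Y) = Φ X * Φ Y := fun X Y => by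
    refine Subtype.ext (Subtype.ext ?_)
    show Matrix.fromBlocks _ 0 0 _ = Matrix.fromBlocks _ 0 0 _ * Matrix.fromBlocks _ 0 0 _
    simp [Matrix.fromBlocks_multiply, mul_inv_rev, Matrix.transpose_mul]
  refine ⟨(MulEquiv.ofBijective (MonoidHom.mk' Φ hmul) ⟨fun X Y h => ?_, fun h => ?_⟩).symm⟩
  · have := congrArg (fun g : H => (g.1.1).toBlocks₁₁) h
    exact Units.ext (by simpa [Φ] using this)
  · obtain ⟨⟨M, hM⟩, hW, hU⟩ := h
    have h21 : M.toBlocks₂₁ = 0 := by
      ext i j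
      have := (hW (Pi.single (Sum.inl j) 1)).1 (fun i => by simp) i
      simpa [Cfsg.spToMat, Matrix.mulVec_single_one, Matrix.toBlocks₂₁] using this
    have h12 : M.toBlocks₁₂ = 0 := by
      ext i j
      have := (hU (Pi.single (Sum.inr j) 1)).1 (fun i => by simp) i
      simpa [Cfsg.spToMat, Matrix.mulVec_single_one, Matrix.toBlocks₁₂] using this
    have hMb : M = Matrix.fromBlocks M.toBlocks₁₁ 0 0 M.toBlocks₂₂ := by
      conv_lhs => rw [← Matrix.fromBlocks_toBlocks M]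
      rw [h21, h12]
    have hAD := (hblock _ _).1 (hMb ▸ hM)
    refine ⟨⟨M.toBlocks₁₁, M.toBlocks₂₂.transpose, hAD, mul_eq_one_comm.1 hAD⟩, Subtype.ext (Subtype.ext ?_)⟩
    show Matrix.fromBlocks M.toBlocks₁₁ 0 0 M.toBlocks₂₂.transpose.transpose = M
    rw [Matrix.transpose_transpose]; exact hMb.symm

end Cfsg.Agent.S0778
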