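import Cfsg.Statements.S0782
import Cfsg.Agent.Lib.Classical.HermIsoCount

set_option autoImplicit false
open Cfsg

namespace Cfsg.Agent.S0782

/-- Maximal parabolics of SU_n(q): if W is a k-dimensional subspace of F^n (n ≥ 1, |F| = q²) on which the Hermitian form vanishes, then (q + 1) times the order of its stabiliser in SU_n(q) equals q^(k(2n−3k)) · |GL_k(q²)| · |GU_(n−2k)(q)|, where |GU_m(q)| = q^(m(m−1)/2) Π_(i=1..m) (q^i − (−1)^i). -/
theorem result {F : Type*} [Field F] [Fintype F] {q : ℕ} (hF : Fintype.card F = q ^ 2) (n k : ℕ) (hn : 1 ≤ n) (hk : 2 * k ≤ n) (W : Submodule F (Fin n → F)) (hWk : Module.finrank F W = k) (hW : ∀ u ∈ W, ∀ v ∈ W, Cfsg.hermForm n F q u v = 0) : (q + 1) * Nat.card ↥((Cfsg.stabilizing (Cfsg.slToMat n F) (W : Set (Fin n → F))).subgroupOf (Cfsg.SU n F q)) = q ^ (k * (2 * n - 3 * k)) * (∏ i : Fin k, ((q ^ 2) ^ k - (q ^ 2) ^ (i : ℕ))) * (q ^ ((n - 2 * k) * ((n - 2 * k) - 1) / 2) * ∏ i ∈ Finset.range (n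 - 2 * k), (if Even i then q ^ (i + 1) + 1 else q ^ (i + 1) - 1)) := by
  classical
  obtain ⟨C⟩ := CfsgLib.Classical.uctx_exists hF
  have hh : ∀ u v : Fin n → F, Cfsg.hermForm n F q u v = C.form u v := C.hermForm_eq
  simp only [hh] at *
  rw [CfsgLib.Classical.HermIsoCount.card_stab_su C hF hn W hW]
  obtain ⟨r, rfl⟩ : ∃ r, n = 2 * k + r := ⟨n - 2 * k, by omega⟩
  rw [Nat.add_sub_cancel_left]
  have hq := CfsgLib.Classical.two_le_q hF
  have h := congrArg (fun x : ℕ => (x : ℤ)) (CfsgLib.Classical.HermIsoCount.card_stab_gu C W hWk hW)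
  have hm := CfsgLib.Classical.HermIsoCount.frame_mul C hF k r _ rfl
  simp only [Nat.cast_mul, CfsgLib.Classical.card_gu_formula C hF, hF] at h
  have hG := fun N => CfsgLib.Classical.HermIsoCount.guOrd_cast (q := q) (by omega) N
  simp only [Nat.cast_mul] at hG
  refine Nat.cast_injective (R := ℤ) ?_
  simp only [Nat.cast_mul]
  rw [hG, ← hm] at h
  rw [hG, Nat.cast_pow q (k * _)]
  refine mul_right_cancel₀ (b := (Nat.card (CfsgLib.Classical.HermIsoCount.Frame C k (2 * k + r)) : ℤ)) (fun h0 => ?_)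
    (h.trans (by ring))
  have hpos : (0 : ℤ) < Nat.card ↥(Cfsg.GU (2 * k + r) F q) := by exact_mod_cast Nat.card_pos
  rw [CfsgLib.Classical.card_gu_formula C hF, Nat.cast_mul, hG, ← hm,
    h0, zero_mul, zero_mul] at hpos
  exact lt_irrefl 0 hpos

end Cfsg.Agent.S0782
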