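import Cfsg.Statements.S0783
import Cfsg.Agent.Lib.Classical.HermStab
import Cfsg.Agent.Lib.SU.CenterCard

set_option autoImplicit false
open Cfsg

namespace Cfsg.Agent.S0783

/-- PGU_n(q)/PSU_n(q) is cyclic of order (n, q+1): for n ≥ 2 and |F| = q² there is a surjective homomorphism from GU_n(q) onto the cyclic group of order gcd(n, q + 1) whose kernel is generated by the determinant-one elements together with the centre. -/
theorem result {F : Type*} [Field F] [Fintype F] {q : ℕ} (hF : Fintype.card F = q ^ 2) (n : ℕ) (hn : 2 ≤ n) : ∃ φ : ↥(Cfsg.GU n F q) →* Multiplicative (ZMod (Nat.gcd n (q + 1))), Function.Surjective φ ∧ φ.ker = (Matrix.GeneralLinearGroup.det : Matrix.GeneralLinearGroup (Fin n) F →* Fˣ).ker.subgroupOf (Cfsg.GU n F q) ⊔ Subgroup.center ↥(Cfsg.GU n F q) := by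
  classical
  obtain ⟨C⟩ := CfsgLib.Classical.uctx_exists hF
  let P : Subgroup C.unitOne := (powMonoidHom n : C.unitOne →* C.unitOne).range
  have hcard : Nat.card (C.unitOne ⧸ P) = Nat.gcd n (q + 1) := by
    have h1 := Subgroup.card_eq_card_quotient_mul_card_subgroup P
    have h2 := Subgroup.card_eq_card_quotient_mul_card_subgroup (powMonoidHom n : C.unitOne →* C.unitOne).ker
    rw [Nat.card_congr (QuotientGroup.quotientKerEquivRange (powMonoidHom n : C.unitOne →* C.unitOne)).toEquiv,
      IsCyclic.card_powMonoidHom_ker, C.card_unitOne hF, Nat.gcd_comm, mul_comm] at h2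
    rw [C.card_unitOne hF] at h1
    have : 0 < Nat.card P := Nat.card_pos
    exact mul_right_cancel₀ this.ne' (h1.symm.trans h2)
  haveI : IsCyclic (C.unitOne ⧸ P) := isCyclic_of_surjective (QuotientGroup.mk' P) (QuotientGroup.mk'_surjective _)
  let e := (zmodCyclicMulEquiv (inferInstance : IsCyclic (C.unitOne ⧸ P))).symm.trans
    (AddEquiv.toMultiplicative (ZMod.ringEquivCongr hcard).toAddEquiv)
  refine ⟨e.toMonoidHom.comp ((QuotientGroup.mk' P).comp (C.detHom (n := n))),
    e.surjective.comp ((QuotientGroup.mk'_surjective P).comp (C.detHom_surjective (by omega))), ?_⟩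
  have hk : (e.toMonoidHom.comp ((QuotientGroup.mk' P).comp (C.detHom (n := n)))).ker = P.comap (C.detHom (n := n)) := by
    ext g
    rw [MonoidHom.mem_ker, MonoidHom.comp_apply, MulEquiv.coe_toMonoidHom, MulEquiv.map_eq_one_iff,
      MonoidHom.comp_apply, QuotientGroup.mk'_apply, QuotientGroup.eq_one_iff]
    rfl
  rw [hk]
  refine le_antisymm ?_ (sup_le ?_ ?_)
  · rintro g ⟨c, hc⟩
    have hg : g = (g * (C.gscal c)⁻¹) * C.gscal c := by group
    rw [hg]
    refine Subgroup.mul_mem_sup ?_ (Subgroup.mem_center_iff.2 fun x => Subtype.ext (C.gscal_comm c x.1))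
    rw [Subgroup.mem_subgroupOf, MonoidHom.mem_ker]
    have h1 : (C.detHom (n := n)) (g * (C.gscal c)⁻¹) = 1 := by
      rw [map_mul, map_inv, mul_inv_eq_one, ← hc]
      refine Subtype.ext (Units.ext ?_)
      rw [C.detHom_val, C.gscal_val, Matrix.det_smul, Matrix.det_one, mul_one, Fintype.card_fin]
      simp
    exact congrArg Subtype.val h1
  · intro g hg
    rw [Subgroup.mem_subgroupOf, MonoidHom.mem_ker] at hg
    rw [Subgroup.mem_comap, show (C.detHom (n := n)) g = 1 from Subtype.ext hg]
    exact one_mem _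
  · intro g hg
    obtain ⟨c, hc⟩ := CfsgLib.Classical.HermStab.scalar_of_center C hn hF hg
    rw [Subgroup.mem_comap, hc]
    refine ⟨c, Subtype.ext (Units.ext ?_)⟩
    rw [C.detHom_val, C.gscal_val, Matrix.det_smul, Matrix.det_one, mul_one, Fintype.card_fin]
    simp

end Cfsg.Agent.S0783
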