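import Cfsg.Statements.S0787
import Cfsg.Agent.Lib.Orth.SameClass

set_option autoImplicit false
open Cfsg

namespace Cfsg.Agent.S0787

/-- Existence and uniqueness of Ω: if F is finite, n ≥ 2, Q is a quadratic form on F^n with non-degenerate polar form and (|F|, n) ≠ (2, 4), then the group of isometries of determinant one has a unique subgroup of index 2. -/
theorem result {F : Type*} [Field F] [Fintype F] {n : ℕ} (hn : 2 ≤ n) (Q : QuadraticForm F (Fin n → F)) (hQ : (QuadraticMap.polarBilin Q).Nondegenerate) (h : Fintype.card F ≠ 2 ∨ n ≠ 4) : ∃! H : Subgroup ↥(Cfsg.specialIsometryGroup F ⇑Q), H.index = 2 := by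
  classical
  have hQ' := CfsgLib.Orth.nd_of_qf Q hQ
  have hn' : 2 ≤ Fintype.card (Fin n) := by simpa using hn
  by_cases h2 : (2 : F) = 0
  · -- characteristic two: determinant one everywhere
    haveI : CharP F 2 := CharTwo.of_one_ne_zero_of_two_eq_zero one_ne_zero h2
    have hex : Fintype.card F ≠ 2 ∨ Fintype.card (Fin n) ≠ 4 := by simpa using h
    have hall : ∀ g : ↥(Cfsg.isometryGroup F ⇑Q), g ∈ Cfsg.specialIsometryGroup F ⇑Q := fun g => by
      show Matrix.GeneralLinearGroup.det g.1 = 1
      refine Units.ext ?_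
      rw [Matrix.GeneralLinearGroup.val_det_apply, CfsgLib.Orth.det_eq_neg_one_pow hQ' hex g.2, CharTwo.neg_eq,
        one_pow, Units.val_one]
    have htop : Cfsg.specialIsometryGroup F ⇑Q = ⊤ := eq_top_iff.2 fun g _ => hall g
    have hidx := CfsgLib.Orth.omega_index_two hQ' hn' hex h2
    refine ⟨(Cfsg.Omega F ⇑Q).subgroupOf _, ?_, fun H hH => ?_⟩
    · show (Cfsg.Omega F ⇑Q).relIndex (Cfsg.specialIsometryGroup F ⇑Q) = 2
      rw [htop, Subgroup.relIndex_top_right, hidx]
    · have hidx' : (H.map (Cfsg.specialIsometryGroup F ⇑Q).subtype).index = 2 := by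
        rw [Subgroup.index_map_subtype, hH, htop, Subgroup.index_top]
      have hle : Cfsg.Omega F ⇑Q ≤ H.map (Cfsg.specialIsometryGroup F ⇑Q).subtype := by
        haveI := Subgroup.normal_of_index_eq_two hidx'
        show commutator ↥(Cfsg.isometryGroup F ⇑Q) ≤ _
        rw [commutator_def, Subgroup.commutator_le]
        intro a _ b _
        rw [← QuotientGroup.eq_one_iff, commutatorElement_def, QuotientGroup.mk_mul, QuotientGroup.mk_mul,
          QuotientGroup.mk_mul, QuotientGroup.mk_inv, QuotientGroup.mk_inv]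
        haveI : Fact (Nat.Prime 2) := ⟨Nat.prime_two⟩
        have hc : Nat.card (↥(Cfsg.isometryGroup F ⇑Q) ⧸ H.map (Cfsg.specialIsometryGroup F ⇑Q).subtype) = 2 := hidx'
        haveI := isCyclic_of_prime_card hc
        letI := IsCyclic.commGroup (α := ↥(Cfsg.isometryGroup F ⇑Q) ⧸ H.map (Cfsg.specialIsometryGroup F ⇑Q).subtype)
        exact commutatorElement_eq_one_iff_mul_comm.2 (mul_comm _ _)
      have heq : H.map (Cfsg.specialIsometryGroup F ⇑Q).subtype = Cfsg.Omega F ⇑Q := by
        rcases eq_or_lt_of_le hle with e | e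
        · exact e.symm
        · have := Subgroup.index_strictAnti e
          omega
      rw [Subgroup.subgroupOf, ← heq, Subgroup.comap_map_eq_self_of_injective (Subgroup.subtype_injective _)]
  · have hex : Fintype.card F ≠ 2 ∨ Fintype.card (Fin n) ≠ 4 := CfsgLib.Orth.hex_of_two h2
    let θ : ↥(Cfsg.specialIsometryGroup F ⇑Q) →* CfsgLib.Orth.SqClass F :=
      (CfsgLib.Orth.spnHom hQ' hex).comp (Cfsg.specialIsometryGroup F ⇑Q).subtype
    have hθ : Function.Surjective θ := by
      intro c
      obtain ⟨g, hg⟩ := CfsgLib.Orth.clsHom_surjective hQ' hn' hex (c, 1)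
      have hg1 : CfsgLib.Orth.spnHom hQ' hex g = c := congrArg Prod.fst hg
      have hg2 : CfsgLib.Orth.parHom hQ' hex g = 1 := congrArg Prod.snd hg
      refine ⟨⟨g, ?_⟩, hg1⟩
      rw [CfsgLib.Orth.parHom_eq_one_iff, ← CfsgLib.Orth.det_eq_one_iff hQ' h2 g.2] at hg2
      show Matrix.GeneralLinearGroup.det g.1 = 1
      exact Units.ext (by rw [Matrix.GeneralLinearGroup.val_det_apply, hg2, Units.val_one])
    refine ⟨θ.ker, ?_, fun H hH => ?_⟩
    · show θ.ker.index = 2
      rw [Subgroup.index_ker, MonoidHom.range_eq_top.2 hθ, Subgroup.card_top, CfsgLib.Orth.card_sqClass_odd h2]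
    · ext g
      rw [CfsgLib.Orth.special_index_two_eq hQ' h2 hn' H hH, MonoidHom.mem_ker]
      rfl

end Cfsg.Agent.S0787
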