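import Cfsg.Statements.S0792
import Cfsg.Agent.Lib.Orth.ReflProducts

set_option autoImplicit false
open Cfsg

namespace Cfsg.Agent.S0792

/-- For q odd and Q with non-degenerate polar form on F^n, the determinant-one isometries form the subgroup generated by all products r_u r_v of two reflections (Q(u), Q(v) ≠ 0). -/
theorem result {F : Type*} [Field F] [Fintype F] (h2 : (2 : F) ≠ 0) {n : ℕ} (Q : QuadraticForm F (Fin n → F)) (hQ : (QuadraticMap.polarBilin Q).Nondegenerate) : Cfsg.specialIsometryGroup F ⇑Q = Subgroup.closure {g : ↥(Cfsg.isometryGroup F ⇑Q) | ∃ u v : Fin n → F, Q u ≠ 0 ∧ Q v ≠ 0 ∧ ((g : Matrix.GeneralLinearGroup (Fin n) F) : Matrix (Fin n) (Fin n) F) = Cfsg.reflectionMatrix ⇑Q u * Cfsg.reflectionMatrix ⇑Q v} := by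
  have hQ' := CfsgLib.Orth.nd_of_qf Q hQ
  rcases Nat.eq_zero_or_pos n with rfl | hn
  · have hs : ∀ g : ↥(Cfsg.isometryGroup F ⇑Q), g = 1 := fun g =>
      Subtype.ext (Units.ext (Matrix.ext fun i => i.elim0))
    ext g
    rw [hs g]
    simp [one_mem]
  ext g
  rw [CfsgLib.Orth.even_mem_closure_pairs hQ (by simp; omega) (CfsgLib.Orth.hex_of_two h2),
    ← CfsgLib.Orth.det_eq_one_iff hQ' h2 g.2]
  show Matrix.GeneralLinearGroup.det g.1 = 1 ↔ _
  rw [Units.ext_iff, Matrix.GeneralLinearGroup.val_det_apply, Units.val_one]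

end Cfsg.Agent.S0792
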