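import Mathlib
import Cfsg.Statements.S0796


set_option autoImplicit false
open Cfsg

namespace Cfsg.Agent.S0796

/-- If G is finite and acts faithfully and primitively on X, H is the stabiliser of a point, A is a normal subgroup of H whose normal closure in G is G, then for every non-trivial normal subgroup K of G the quotient G ⧸ K is isomorphic to A ⧸ B for some normal subgroup B of A. -/
theorem result {G X : Type*} [Group G] [Finite G] [MulAction G X] [FaithfulSMul G X] (hprim : MulAction.IsPreprimitive G X) (x : X) (A : Subgroup G) (hA : A ≤ MulAction.stabilizer G x) (hAn : (A.subgroupOf (MulAction.stabilizer G x)).Normal) (hgen : Subgroup.normalClosure (A : Set G) = ⊤) (K : Subgroup G) [K.Normal] (hK : K ≠ ⊥) : ∃ (B : Subgroup A) (_ : B.Normal), Nonempty (G ⧸ K ≃* A ⧸ B) := by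
  classical
  have hKt : ∀ y : X, ∃ k ∈ K, k • x = y := by
    haveI := hprim
    haveI : MulAction.IsPretransitive K X := by
      apply MulAction.IsPreprimitive.isQuasiPreprimitive.isPretransitive_of_normal
      intro hfix
      apply hK
      rw [eq_bot_iff]
      intro k hk
      rw [Subgroup.mem_bot]
      apply FaithfulSMul.eq_of_smul_eq_smul (α := X)
      intro y
      have hy : y ∈ MulAction.fixedPoints K X := by rw [hfix]; exact Set.mem_univ y
      rw [one_smul]
      exact hy ⟨k, hk⟩
    intro y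
    obtain ⟨k, hk⟩ := MulAction.exists_smul_eq K x y
    exact ⟨k.1, k.2, hk⟩
  have hconj : ∀ g : G, ∀ a ∈ A, g * a * g⁻¹ ∈ K ⊔ A := by
    intro g a ha
    obtain ⟨k, hk, hkx⟩ := hKt (g • x)
    have hs : k⁻¹ * g ∈ MulAction.stabilizer G x := by
      rw [MulAction.mem_stabilizer_iff, mul_smul, ← hkx, inv_smul_smul]
    have h1 : (k⁻¹ * g) * a * (k⁻¹ * g)⁻¹ ∈ A := by
      have := hAn.conj_mem ⟨a, hA ha⟩ ha ⟨_, hs⟩
      exact this
    have e : g * a * g⁻¹ = k * ((k⁻¹ * g) * a * (k⁻¹ * g)⁻¹) * k⁻¹ := by group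
    rw [e]
    exact mul_mem (mul_mem (Subgroup.mem_sup_left hk) (Subgroup.mem_sup_right h1))
      (Subgroup.mem_sup_left (inv_mem hk))
  have htop : K ⊔ A = ⊤ := by
    rw [eq_top_iff, ← hgen, Subgroup.normalClosure, Subgroup.closure_le]
    intro y hy
    obtain ⟨a, ha, hay⟩ := Group.mem_conjugatesOfSet_iff.1 hy
    obtain ⟨g, rfl⟩ := isConj_iff.1 hay
    exact hconj g a ha
  let f : A →* G ⧸ K := (QuotientGroup.mk' K).comp A.subtype
  have hf : Function.Surjective f := by
    intro y
    obtain ⟨g, rfl⟩ := QuotientGroup.mk'_surjective K y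
    have hg : g ∈ ((K ⊔ A : Subgroup G) : Set G) := by rw [htop]; trivial
    rw [Subgroup.normal_mul] at hg
    obtain ⟨k, hk, a, ha, rfl⟩ := Set.mem_mul.1 hg
    refine ⟨⟨a, ha⟩, ?_⟩
    show QuotientGroup.mk' K a = QuotientGroup.mk' K (k * a)
    rw [map_mul, show (QuotientGroup.mk' K) k = 1 from (QuotientGroup.eq_one_iff k).2 hk, one_mul]
  exact ⟨f.ker, inferInstance, ⟨(QuotientGroup.quotientKerEquivOfSurjective f hf).symm⟩⟩

end Cfsg.Agent.S0796
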