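import Cfsg.Statements.S0797
import Cfsg.Agent.Lib.Orth.ReflProducts

set_option autoImplicit false
open Cfsg

namespace Cfsg.Agent.S0797

/-- O^ε_2m(q) ≅ Ω.2² for q odd: if F is finite of odd characteristic, n ≥ 2 is even and Q has non-degenerate polar form on F^n, the isometry group of Q has exactly three subgroups of index 2. -/
theorem result {F : Type*} [Field F] [Fintype F] (h2 : (2 : F) ≠ 0) {n : ℕ} (hn : 2 ≤ n) (heven : Even n) (Q : QuadraticForm F (Fin n → F)) (hQ : (QuadraticMap.polarBilin Q).Nondegenerate) : Nat.card {H : Subgroup ↥(Cfsg.isometryGroup F ⇑Q) // H.index = 2} = 3 := by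
  classical
  have hQ' := CfsgLib.Orth.nd_of_qf Q hQ
  have hn' : 2 ≤ Fintype.card (Fin n) := by simpa using hn
  have hex : Fintype.card F ≠ 2 ∨ Fintype.card (Fin n) ≠ 4 := CfsgLib.Orth.hex_of_two h2
  let T := CfsgLib.Orth.SqClass F × Multiplicative (ZMod 2)
  have hT : Nat.card T = 4 := by
    simp only [T, Nat.card_prod, CfsgLib.Orth.card_sqClass_odd h2]
    simp [Nat.card_eq_fintype_card, Fintype.card_multiplicative, ZMod.card]
  haveI : Finite T := Nat.finite_of_card_ne_zero (by omega)
  have hsq : ∀ x : T, x * x = 1 := by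
    rintro ⟨a, b⟩
    have hc := CfsgLib.Orth.card_sqClass_odd (F := F) h2
    haveI : Finite (CfsgLib.Orth.SqClass F) := Nat.finite_of_card_ne_zero (by omega)
    refine Prod.ext ?_ ?_
    · have := pow_card_eq_one' (x := a)
      rwa [hc, pow_two] at this
    · have := pow_card_eq_one' (x := b)
      rwa [Nat.card_eq_fintype_card, Fintype.card_multiplicative, ZMod.card, pow_two] at this
  have hord : ∀ x : T, x ≠ 1 → orderOf x = 2 := fun x hx =>
    orderOf_eq_prime (by rw [pow_two]; exact hsq x) hx
  let f := CfsgLib.Orth.clsHom hQ' hex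
  have hf : Function.Surjective f := CfsgLib.Orth.clsHom_surjective hQ' hn' hex
  have hker : f.ker = Cfsg.Omega F ⇑Q := CfsgLib.Orth.clsHom_ker hQ' hn' hex
  have hidx : ∀ x : T, x ≠ 1 → ((Subgroup.zpowers x).comap f).index = 2 := fun x hx => by
    rw [Subgroup.index_comap_of_surjective _ hf]
    have h1 := Subgroup.card_mul_index (Subgroup.zpowers x)
    rw [Nat.card_zpowers, hord x hx, hT] at h1
    omega
  have hbij : Function.Bijective (fun x : {x : T // x ≠ 1} =>
      (⟨(Subgroup.zpowers x.1).comap f, hidx x.1 x.2⟩ : {H : Subgroup ↥(Cfsg.isometryGroup F ⇑Q) // H.index = 2})) := by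
    constructor
    · rintro ⟨x, hx⟩ ⟨y, hy⟩ hxy
      have h1 : (Subgroup.zpowers x).comap f = (Subgroup.zpowers y).comap f := congrArg Subtype.val hxy
      have h2 : x ∈ Subgroup.zpowers y := Subgroup.comap_injective hf h1 ▸ Subgroup.mem_zpowers x
      obtain ⟨k, hk⟩ := Subgroup.mem_zpowers_iff.1 h2
      rcases Int.even_or_odd' k with ⟨j, rfl | rfl⟩
      · exact absurd (by rw [← hk, zpow_mul, zpow_two, hsq, one_zpow]) hx
      · exact Subtype.ext (hk.symm.trans (by rw [zpow_add_one, zpow_mul, zpow_two, hsq, one_zpow, one_mul]))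
    · rintro ⟨H, hH⟩
      have hle : f.ker ≤ H := by
        haveI := Subgroup.normal_of_index_eq_two hH
        rw [hker]
        show commutator _ ≤ H
        rw [commutator_def, Subgroup.commutator_le]
        intro a _ b _
        rw [← QuotientGroup.eq_one_iff, commutatorElement_def, QuotientGroup.mk_mul, QuotientGroup.mk_mul,
          QuotientGroup.mk_mul, QuotientGroup.mk_inv, QuotientGroup.mk_inv]
        haveI : Fact (Nat.Prime 2) := ⟨Nat.prime_two⟩
        have hc : Nat.card (↥(Cfsg.isometryGroup F ⇑Q) ⧸ H) = 2 := hH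
        haveI := isCyclic_of_prime_card hc
        letI := IsCyclic.commGroup (α := ↥(Cfsg.isometryGroup F ⇑Q) ⧸ H)
        exact commutatorElement_eq_one_iff_mul_comm.2 (mul_comm _ _)
      have hcard : Nat.card (H.map f) = 2 := by
        have h1 := Subgroup.card_mul_index (H.map f)
        rw [Subgroup.index_map, MonoidHom.range_eq_top.2 hf, Subgroup.index_top, mul_one, sup_eq_left.2 hle, hH,
          hT] at h1
        omega
      obtain ⟨⟨x, hxH⟩, hx⟩ : ∃ x : H.map f, x ≠ 1 := by
        haveI : Nontrivial (H.map f) := Finite.one_lt_card_iff_nontrivial.1 (by rw [hcard]; norm_num)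
        exact exists_ne 1
      have hx1 : x ≠ 1 := fun e => hx (Subtype.ext e)
      refine ⟨⟨x, hx1⟩, Subtype.ext ?_⟩
      show (Subgroup.zpowers x).comap f = H
      rw [show Subgroup.zpowers x = H.map f from Subgroup.eq_of_le_of_card_ge (Subgroup.zpowers_le.2 hxH)
        (by rw [hcard, Nat.card_zpowers, hord x hx1]), Subgroup.comap_map_eq, sup_eq_left.2 hle]
  rw [← Nat.card_eq_of_bijective _ hbij]
  haveI := Fintype.ofFinite T
  rw [Nat.card_eq_fintype_card, Fintype.card_subtype_compl, Fintype.card_subtype_eq, ← Nat.card_eq_fintype_card, hT]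

end Cfsg.Agent.S0797
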