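import Cfsg.Statements.S0798
import Cfsg.Agent.Lib.Orth.NormClass

set_option autoImplicit false
open Cfsg

namespace Cfsg.Agent.S0798

/-- For q odd, n ≥ 2 even, Q with non-degenerate polar form (n, |F|) ≠ (4, 3), and a fixed c ≠ 0: the subgroup of the isometry group generated by the reflections r_v with Q(v) ∈ c·(F^×)² has index 2. -/
theorem result {F : Type*} [Field F] [Fintype F] (h2 : (2 : F) ≠ 0) {n : ℕ} (hn : 2 ≤ n) (heven : Even n) (Q : QuadraticForm F (Fin n → F)) (hQ : (QuadraticMap.polarBilin Q).Nondegenerate) (h43 : ¬ (n = 4 ∧ Fintype.card F = 3)) (c : F) (hc : c ≠ 0) : (Subgroup.closure {g : ↥(Cfsg.isometryGroup F ⇑Q) | ∃ (v : Fin n → F) (t : F), t ≠ 0 ∧ Q v = c * t ^ 2 ∧ ((g : Matrix.GeneralLinearGroup (Fin n) F) : Matrix (Fin n) (Fin n) F) = Cfsg.reflectionMatrix ⇑Q v}).index = 2 := by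
  classical
  have hQ' := CfsgLib.Orth.nd_of_qf Q hQ
  have key := CfsgLib.Orth.classGroup_index hQ' h2 (by simpa using hn) (by simpa using heven) (by simpa using h43) hc
  convert key using 2
  have hset : ∀ (v : Fin n → F) (t : F), t ≠ 0 → Q v = c * t ^ 2 →
      Q v ≠ 0 ∧ CfsgLib.Orth.sqc (Q v) = CfsgLib.Orth.sqc c := fun v t ht hv => by
    refine ⟨hv ▸ mul_ne_zero hc (pow_ne_zero _ ht), ?_⟩
    rw [hv, show c * t ^ 2 = t * c * t by ring, CfsgLib.Orth.sqc_sq_mul ht hc]
  apply le_antisymm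
  · rw [Subgroup.closure_le]
    rintro g ⟨v, t, ht, hv, hg⟩
    obtain ⟨h1, h2'⟩ := hset v t ht hv
    exact Subgroup.subset_closure ⟨g.2, v, h1, h2', CfsgLib.Orth.isRefl_reflectionMatrix hg⟩
  · rintro ⟨g, hg⟩ hgc
    change g ∈ CfsgLib.Orth.classGroup ⇑Q (CfsgLib.Orth.sqc c) at hgc
    induction hgc using Subgroup.closure_induction with
    | mem r hr =>
      obtain ⟨hri, v, hv, hvc, hrv⟩ := hr
      have hsq : IsSquare (Q v * c) := by
        rw [← CfsgLib.Orth.sqc_eq_one_iff (mul_ne_zero hv hc), CfsgLib.Orth.sqc_mul hv hc, hvc,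
          CfsgLib.Orth.sqc_mul_self hc]
      obtain ⟨k, hk⟩ := hsq
      have hk0 : k ≠ 0 := fun e => mul_ne_zero hv hc (by rw [hk, e, mul_zero])
      obtain ⟨s, hs, hsv⟩ := CfsgLib.Orth.exists_reflIso hQ hv
      refine Subgroup.subset_closure ⟨v, k / c, div_ne_zero hk0 hc, ?_, ?_⟩
      · field_simp
        linear_combination hk
      · show (r : Matrix (Fin n) (Fin n) F) = _
        rw [hrv.unique hsv, hs]
    | one => exact one_mem _
    | mul a b ha hb iha ihb =>
      exact mul_mem (iha (CfsgLib.Orth.classGroup_le _ ha)) (ihb (CfsgLib.Orth.classGroup_le _ hb))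
    | inv a ha iha => exact inv_mem (iha (CfsgLib.Orth.classGroup_le _ ha))

end Cfsg.Agent.S0798
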