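import Cfsg.Statements.S0800
import Cfsg.Agent.Lib.Classical.SL2Sylow

set_option autoImplicit false
open Cfsg

namespace Cfsg.Agent.S0800

/-- Tori of SL_2(q): if g ∈ SL_2(q) has order coprime to the characteristic p, then the order of g divides q − 1 or q + 1. -/
theorem result {F : Type*} [Field F] [Fintype F] {q : ℕ} (hF : Fintype.card F = q) (p : ℕ) [Fact p.Prime] [CharP F p] (g : Matrix.SpecialLinearGroup (Fin 2) F) (hg : Nat.Coprime (orderOf g) p) : orderOf g ∣ q - 1 ∨ orderOf g ∣ q + 1 := by
  classical
  set M : Matrix (Fin 2) (Fin 2) F := g.1 with hM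
  set t : F := M 0 0 + M 1 1 with ht
  have hdet : M 0 0 * M 1 1 - M 0 1 * M 1 0 = 1 := by rw [← Matrix.det_fin_two]; exact g.2
  have hCH : M * M = t • M - 1 := by
    ext i j
    fin_cases i <;> fin_cases j <;> simp [Matrix.mul_apply, Fin.sum_univ_two, ht] <;>
      first | linear_combination hdet | linear_combination -hdet | ring
  open Polynomial in
  have hord : ∀ k : ℕ, M ^ k = 1 → orderOf g ∣ k := fun k hk =>
    orderOf_dvd_of_pow_eq_one (Subtype.ext (by rw [Matrix.SpecialLinearGroup.coe_pow]; exact hk))
  have haev : ∀ r : F, r * r - t * r + 1 = 0 → (M - r • 1) * (M - (t - r) • 1) = 0 := by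
    intro r hr
    rw [sub_mul, mul_sub, mul_sub, hCH, smul_mul_assoc, smul_mul_assoc, one_mul, one_mul, mul_smul_comm, mul_one,
      smul_smul, show r * (t - r) = 1 by linear_combination -hr, one_smul, sub_smul]
    abel
  open Polynomial in
  by_cases hr : ∃ r : F, r * r - t * r + 1 = 0
  · left
    obtain ⟨r, hr⟩ := hr
    have hrs : r * (t - r) = 1 := by linear_combination -hr
    have hr0 : r ≠ 0 := left_ne_zero_of_mul_eq_one hrs
    have hs0 : t - r ≠ 0 := right_ne_zero_of_mul_eq_one hrs
    have hq : ∀ a : F, a ≠ 0 → a ^ (q - 1) = 1 := fun a ha => by rw [← hF]; exact FiniteField.pow_card_sub_one_eq_one a ha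
    by_cases hne : r = t - r
    · -- unipotent times scalar
      have hA : (M - r • 1) * (M - r • 1) = 0 := by
        have := haev r hr
        rwa [← hne] at this
      have hp := (Fact.out : p.Prime)
      have hpow : M ^ p = (r • (1 : Matrix (Fin 2) (Fin 2) F)) ^ p := by
        have h1 := sub_pow_char_of_commute p ((Commute.one_right M).smul_right r)
        rw [pow_eq_zero_of_le hp.two_le (by rw [sq]; exact hA)] at h1
        exact sub_eq_zero.1 h1.symm
      have h1 : M ^ (p * (q - 1)) = 1 := by
        rw [pow_mul, hpow, ← pow_mul, _root_.smul_pow, one_pow, mul_comm, pow_mul, hq r hr0, one_pow, one_smul]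
      exact (Nat.Coprime.dvd_mul_left hg).1 (hord _ h1)
    · refine hord _ ?_
      have hdvd : (X - C r) * (X - C (t - r)) ∣ (X : F[X]) ^ (q - 1) - 1 := by
        refine IsCoprime.mul_dvd (isCoprime_X_sub_C_of_isUnit_sub (sub_ne_zero.2 hne).isUnit) ?_ ?_
        · rw [dvd_iff_isRoot]; simp [hq r hr0]
        · rw [dvd_iff_isRoot]; simp [hq _ hs0]
      obtain ⟨c, hc⟩ := hdvd
      have := congrArg (Polynomial.aeval M) hc
      simp only [map_sub, map_mul, map_pow, map_one, aeval_X, aeval_C, Algebra.algebraMap_eq_smul_one] at this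
      have hz := haev r hr
      rw [sub_smul] at hz
      rw [hz, zero_mul] at this
      exact sub_eq_zero.1 this
  · right
    push Not at hr
    refine hord _ ?_
    set f : F[X] := X ^ 2 - C t * X + 1 with hf
    have hdeg : f.natDegree = 2 := by rw [hf]; compute_degree!
    have hroots : ∀ r : F, ¬ f.IsRoot r := fun r h => hr r (by simpa [hf, sq] using h)
    have hirr : Irreducible f := by
      refine (Polynomial.irreducible_iff_roots_eq_zero_of_degree_le_three (by omega) (by omega)).2 ?_
      refine Multiset.eq_zero_of_forall_notMem fun r h => hroots r (Polynomial.isRoot_of_mem_roots h)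
    haveI := Fact.mk hirr
    set x : AdjoinRoot f := AdjoinRoot.root f with hxdef
    set τ : AdjoinRoot f := algebraMap F (AdjoinRoot f) t with hτ
    have hx : x ^ 2 - τ * x + 1 = 0 := by
      have h : AdjoinRoot.mk f f = 0 := AdjoinRoot.mk_self
      simpa [hf, hxdef, hτ] using h
    have hyq : (x ^ q) ^ 2 - τ * x ^ q + 1 = 0 := by
      have := congrArg (FiniteField.frobeniusAlgHom F (AdjoinRoot f)) hx
      simp only [map_sub, map_add, map_mul, map_pow, map_one, map_zero, hτ, AlgHom.commutes] at this
      rw [hτ, ← hF]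
      simpa using this
    have hne : x ^ q ≠ x := by
      intro he
      have hmem : ∀ a : F, algebraMap F (AdjoinRoot f) a ≠ x := by
        intro a ha
        refine hroots a ((algebraMap F (AdjoinRoot f)).injective ?_)
        rw [map_zero, ← hx, ← ha, hτ]
        simp [hf]
      have hP : ((X : (AdjoinRoot f)[X]) ^ q - X) ≠ 0 :=
        FiniteField.X_pow_card_sub_X_ne_zero _ (hF ▸ Fintype.one_lt_card)
      have hle := Polynomial.card_le_degree_of_subset_roots
        (Z := insert x (Finset.univ.image (algebraMap F (AdjoinRoot f)))) (p := X ^ q - X) (by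
          intro z hz
          rw [Finset.mem_val, Finset.mem_insert, Finset.mem_image] at hz
          rw [Polynomial.mem_roots hP]
          rcases hz with rfl | ⟨a, -, rfl⟩
          · simp [he]
          · simp [← map_pow, ← hF, FiniteField.pow_card])
      rw [Finset.card_insert_of_notMem (by simpa using hmem),
        Finset.card_image_of_injective _ (algebraMap F (AdjoinRoot f)).injective, Finset.card_univ, hF,
        FiniteField.X_pow_card_sub_X_natDegree_eq _ (hF ▸ Fintype.one_lt_card)] at hle
      omega
    have hsum : x ^ q = τ - x := by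
      have : (x ^ q - x) * (x ^ q + x - τ) = 0 := by linear_combination hyq - hx
      linear_combination (mul_eq_zero.1 this).resolve_left (sub_ne_zero.2 hne)
    have h1 : x ^ (q + 1) = 1 := by rw [pow_succ, hsum]; linear_combination -hx
    have hdvd : f ∣ (X : F[X]) ^ (q + 1) - 1 := by
      rw [← AdjoinRoot.mk_eq_zero, map_sub, map_pow, map_one, AdjoinRoot.mk_X, h1, sub_self]
    obtain ⟨c, hc⟩ := hdvd
    have := congrArg (Polynomial.aeval M) hc
    simp only [map_sub, map_mul, map_add, map_pow, map_one, aeval_X, aeval_C, Algebra.algebraMap_eq_smul_one,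
      hf] at this
    rw [sq, hCH, smul_mul_assoc, one_mul] at this
    rw [← sub_eq_zero, this]
    simp

end Cfsg.Agent.S0800
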