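import Cfsg.Statements.S0803
-- import your own Cfsg.Agent.* helpers here
import Mathlib
import Cfsg.Agent.Lib.Perm.Dickson.KleinCount

set_option autoImplicit false
set_option linter.all false
open Cfsg

namespace Cfsg.Agent.S0803

open CfsgLib.Perm.Dickson

/-- PSL_2(q) has a subgroup isomorphic to S_4 iff q² ≡ 1 (mod 16). -/
theorem result {F : Type*} [Field F] [Fintype F] {q : ℕ} (hF : Fintype.card F = q) : (∃ H : Subgroup (Matrix.ProjectiveSpecialLinearGroup (Fin 2) F), Nonempty (H ≃* Equiv.Perm (Fin 4))) ↔ q ^ 2 % 16 = 1 := by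
  classical
  haveI := finite_G2 (F := F)
  obtain ⟨p, hpc⟩ := CharP.exists F
  haveI : Fact p.Prime := ⟨CharP.char_is_prime F p⟩
  have hq : Nat.card F = q := by rw [Nat.card_eq_fintype_card, hF]
  have hmod : q ^ 2 % 16 = 1 ↔ q % 8 = 1 ∨ q % 8 = 7 := by
    rw [Nat.pow_mod]
    have : q % 16 < 16 := Nat.mod_lt _ (by norm_num)
    have e : q % 8 = q % 16 % 8 := (Nat.mod_mod_of_dvd q (by norm_num)).symm
    rw [e]
    interval_cases (q % 16) <;> simp
  rw [hmod]
  constructor
  · rintro ⟨H, ⟨e⟩⟩
    obtain ⟨σ, hσ⟩ : ∃ σ : Equiv.Perm (Fin 4), orderOf σ = 4 :=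
      ⟨finRotate 4, orderOf_eq_prime_pow (p := 2) (n := 1) (by decide) (by decide)⟩
    set g : G2 F := incl ((e.symm σ : H) : S2P F)
    have hg : orderOf g = 4 := by
      rw [orderOf_injective _ incl_injective, Subgroup.orderOf_coe]
      exact (orderOf_injective e.symm.toMonoidHom e.symm.injective σ).trans hσ
    rcases psl_order_cases p (incl_mem _ : g ∈ psl F) with h | h | h <;> rw [hg] at h
    · rw [hq] at h
      rcases Nat.even_or_odd q with ⟨t, ht⟩ | ho
      · exfalso
        have := dvd_trans (show 2 ∣ 4 by norm_num) (h.trans (Nat.div_dvd_of_dvd (Nat.gcd_dvd_right _ _)))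
        have := card_pos_lt (F := F)
        omega
      · rw [← hq, gcd_odd (by rwa [hq])] at h
        rw [hq] at h
        obtain ⟨t, ht⟩ := h
        obtain ⟨s, hs⟩ := ho
        left; omega
    · rw [hq] at h
      rcases Nat.even_or_odd q with ⟨t, ht⟩ | ho
      · exfalso
        rw [← hq, gcd_even (by rw [hq]; exact ⟨t, ht⟩), Nat.div_one, hq] at h
        omega
      · rw [← hq, gcd_odd (by rwa [hq])] at h
        rw [hq] at h
        obtain ⟨t, ht⟩ := h
        obtain ⟨s, hs⟩ := ho
        right; omega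
    · exact absurd (h ▸ (Fact.out : p.Prime)) (by norm_num)
  · intro h
    refine exists_s4 (two_is_square_iff.2 (by rw [hq]; omega)) ?_
    rw [hq, Nat.odd_iff]
    omega

end Cfsg.Agent.S0803
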