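import Cfsg.Statements.S0805
-- import your own Cfsg.Agent.* helpers here
import Mathlib
import Cfsg.Agent.Lib.Perm.Dickson.ExcMax

set_option autoImplicit false
set_option linter.all false
open Cfsg

namespace Cfsg.Agent.S0805

open CfsgLib.Perm.Dickson

/-- Subfield subgroups: let F be a finite field of odd order q and K a finite field with |K|^m = q, m ≥ 1. Then PSL_2(F) has a subgroup isomorphic to PSL_2(K), and has a subgroup isomorphic to PGL_2(K) if and only if m is even. -/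
theorem result {F K : Type*} [Field F] [Fintype F] [Field K] [Fintype K] {q : ℕ} (hF : Fintype.card F = q) (hodd : Odd q) (m : ℕ) (hm : 1 ≤ m) (hK : Fintype.card K ^ m = q) : (∃ H : Subgroup (Matrix.ProjectiveSpecialLinearGroup (Fin 2) F), Nonempty (H ≃* Matrix.ProjectiveSpecialLinearGroup (Fin 2) K)) ∧ ((∃ H : Subgroup (Matrix.ProjectiveSpecialLinearGroup (Fin 2) F), Nonempty (H ≃* Matrix.ProjGenLinGroup (Fin 2) K)) ↔ Even m) := by
  classical
  haveI := finite_G2 (F := F)
  obtain ⟨p, hpc⟩ := CharP.exists F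
  haveI : Fact p.Prime := ⟨CharP.char_is_prime F p⟩
  have hK' : Nat.card K ^ m = Nat.card F := by rw [Nat.card_eq_fintype_card, hK, Nat.card_eq_fintype_card, hF]
  have ho : Odd (Nat.card F) := by rw [Nat.card_eq_fintype_card, hF]; exact hodd
  obtain ⟨F1, ⟨e⟩⟩ := exists_subfield_ringEquiv (F := F) (K := K) p hm hK'
  have hc : Nat.card F1 = Nat.card K := Nat.card_congr e.toEquiv
  refine ⟨⟨down (pslSub F1), ⟨(downEquiv (pslSub_le_psl F1)).trans (pslSubEquiv F1 e)⟩⟩, ?_, ?_⟩
  · rintro ⟨H, ⟨f⟩⟩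
    by_contra hodd'
    rw [Nat.not_even_iff_odd] at hodd'
    obtain ⟨l, hlc⟩ := CharP.exists K
    haveI : Fact l.Prime := ⟨CharP.char_is_prime K l⟩
    obtain ⟨a, b, hg, hcard⟩ := exists_elliptic (F := K) l
    haveI := isCyclic_pairFix (F := K) hg.1
    obtain ⟨y, hy⟩ := IsCyclic.exists_ofOrder_eq_natCard (α := pairFix a b)
    rw [hcard, ← Subgroup.orderOf_coe] at hy
    set c := Nat.card K with hcdef
    set g : G2 F := incl ((f.symm (y : G2 K)) : S2P F) with hgdef
    have hog : orderOf g = c + 1 := by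
      rw [hgdef, orderOf_injective _ incl_injective, Subgroup.orderOf_coe, ← orderOf_le_of_equiv, hy]
    have hco : Odd c := hc ▸ odd_subfield ho F1
    have h2c : 2 ≤ c := hc ▸ two_le_card_subfield F1
    obtain ⟨t, ht⟩ := hodd'
    have hmod : Nat.card F ≡ c [MOD 2 * (c + 1)] := by
      have h2 : c ^ 2 ≡ 1 [MOD 2 * (c + 1)] := by
        obtain ⟨s, hs⟩ := hco
        refine ((Nat.modEq_iff_dvd' (Nat.one_le_pow _ _ (by omega))).2 ⟨s, ?_⟩).symm
        have : c ^ 2 = 2 * (c + 1) * s + 1 := by rw [hs]; ring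
        omega
      have := (h2.pow t).mul_right c
      rwa [one_pow, one_mul, ← pow_mul, ← pow_succ, ← ht, hK'] at this
    have h1 : 2 * (c + 1) ∣ Nat.card F + 1 → False := fun h => by
      have h' : (c + 1) ≡ 0 [MOD 2 * (c + 1)] := (hmod.add_right 1).symm.trans (Nat.modEq_zero_iff_dvd.2 h)
      have := Nat.le_of_dvd (by omega) (Nat.modEq_zero_iff_dvd.1 h')
      omega
    obtain ⟨r, hr⟩ := ho
    rcases psl_order_cases p (incl_mem _ : g ∈ psl F) with h | h | h
    · rw [hog, gcd_odd ⟨r, hr⟩] at h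
      have hdvd : c + 1 ∣ Nat.card F + 1 := by
        have : (c + 1) ∣ c ^ m + 1 ^ m := Odd.nat_add_dvd_pow_add_pow c 1 ⟨t, ht⟩
        rwa [one_pow, hK'] at this
      have hdvd' : c + 1 ∣ Nat.card F - 1 := h.trans (Nat.div_dvd_of_dvd ⟨r, by omega⟩)
      have := Nat.le_of_dvd (by omega) ((Nat.dvd_sub hdvd hdvd').trans (dvd_of_eq (show Nat.card F + 1 - (Nat.card F - 1) = 2 by omega)))
      omega
    · rw [hog, gcd_odd ⟨r, hr⟩] at h
      refine h1 ?_
      obtain ⟨s, hs⟩ := h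
      exact ⟨s, by rw [mul_assoc, ← hs]; omega⟩
    · rw [hog] at h
      obtain ⟨s, hs⟩ := hco
      have := (Fact.out : p.Prime).even_iff.1 ⟨s + 1, by omega⟩
      omega
  · intro hev
    exact ⟨down (pglSub F1), ⟨(downEquiv (pglSub_le_psl F1 (m := m) (by rw [hc, hK']) (Or.inl hev))).trans (pglSubEquiv F1 e)⟩⟩

end Cfsg.Agent.S0805
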