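import Cfsg.Statements.S0807
-- import your own Cfsg.Agent.* helpers here
import Mathlib
import Cfsg.Agent.Lib.Perm.Dickson.KleinCount

set_option autoImplicit false
set_option linter.all false
open Cfsg

namespace Cfsg.Agent.S0807

open CfsgLib.Perm.Dickson

/-- For q odd, twelve times the number of Klein four-subgroups of PSL_2(q) equals the order of PSL_2(q). -/
theorem result {F : Type*} [Field F] [Fintype F] {q : ℕ} (hF : Fintype.card F = q) (hodd : Odd q) : 12 * Nat.card {V : Subgroup (Matrix.ProjectiveSpecialLinearGroup (Fin 2) F) // IsKleinFour V} = Nat.card (Matrix.ProjectiveSpecialLinearGroup (Fin 2) F) := by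
  classical
  haveI := finite_G2 (F := F)
  have hq : Nat.card F = q := by rw [Nat.card_eq_fintype_card, hF]
  have ho : Odd (Nat.card F) := by rw [hq]; exact hodd
  obtain ⟨Q⟩ := exists_qpar (two_ne_zero_of_odd ho)
  have key : ∀ V : Subgroup (S2P F), IsKleinFour V → up V ∈ kleinSet F := by
    intro V hV
    refine ⟨up_le V, by rw [card_up]; exact hV.card_four, ?_⟩
    rintro _ ⟨g, hg, rfl⟩
    have e := Monoid.pow_exponent_eq_one (⟨g, hg⟩ : V)
    rw [hV.exponent_two, pow_two] at e
    rw [← map_mul, show g * g = 1 from congrArg Subtype.val e, map_one]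
  let e : {V : Subgroup (S2P F) // IsKleinFour V} ≃ kleinSet F :=
    { toFun := fun V => ⟨up V.1, key V.1 V.2⟩
      invFun := fun W => ⟨down W.1, by
        refine ⟨by rw [Nat.card_congr (downEquiv W.2.1).toEquiv]; exact W.2.2.1, ?_⟩
        haveI : Nontrivial (down W.1) := by
          haveI : Nontrivial W.1 := Finite.one_lt_card_iff_nontrivial.1 (by rw [W.2.2.1]; norm_num)
          exact (downEquiv W.2.1).toEquiv.nontrivial
        refine (Monoid.exponent_eq_prime_iff Nat.prime_two).2 fun g hg => orderOf_eq_prime ?_ hg
        rw [pow_two]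
        exact Subtype.ext (incl_injective (by
          rw [Subgroup.coe_mul, map_mul, Subgroup.coe_one, map_one]; exact W.2.2.2 _ g.2))⟩
      left_inv := fun V => Subtype.ext (down_up V.1)
      right_inv := fun W => Subtype.ext (up_down W.2.1) }
  have h := card_kleinSet Q
  rw [← Nat.card_congr e] at h
  have h2 := psl_index (F := F)
  rw [gcd_odd ho] at h2
  show 12 * Nat.card {V : Subgroup (S2P F) // IsKleinFour V} = Nat.card (S2P F)
  rw [card_S2P]
  omega

end Cfsg.Agent.S0807
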