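import Cfsg.Statements.S0808
-- import your own Cfsg.Agent.* helpers here
import Mathlib
import Cfsg.Agent.Lib.Perm.Dickson.KleinCount

set_option autoImplicit false
set_option linter.all false
open Cfsg

namespace Cfsg.Agent.S0808

open CfsgLib.Perm.Dickson

/-- Conjugacy classes of four-groups in PSL_2(q), q odd: if q ≡ 3 or 5 (mod 8) all Klein four-subgroups are conjugate; if q ≡ 1 or 7 (mod 8) there are two Klein four-subgroups which are not conjugate, and every Klein four-subgroup is conjugate to one of them. -/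
theorem result {F : Type*} [Field F] [Fintype F] {q : ℕ} (hF : Fintype.card F = q) (hodd : Odd q) : ((q % 8 = 3 ∨ q % 8 = 5) → ∀ V W : Subgroup (Matrix.ProjectiveSpecialLinearGroup (Fin 2) F), IsKleinFour V → IsKleinFour W → ∃ g : Matrix.ProjectiveSpecialLinearGroup (Fin 2) F, W = V.map (MulAut.conj g).toMonoidHom) ∧ ((q % 8 = 1 ∨ q % 8 = 7) → ∃ V₁ V₂ : Subgroup (Matrix.ProjectiveSpecialLinearGroup (Fin 2) F), IsKleinFour V₁ ∧ IsKleinFour V₂ ∧ (¬ ∃ g : Matrix.ProjectiveSpecialLinearGroup (Fin 2) F, V₂ = V₁.map (MulAut.conj g).toMonoidHom) ∧ ∀ W : Subgroup (Matrix.ProjectiveSpecialLinearGroup (Fin 2) F), IsKleinFour W → (∃ g : Matrix.ProjectiveSpecialLinearGroup (Fin 2) F, W = V₁.map (MulAut.conj g).toMonoidHom) ∨ (∃ g : Matrix.ProjectiveSpecialLinearGroup (Fin 2) F, W = V₂.map (MulAut.conj g).toMonoidHom)) := by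
  classical
  haveI := finite_G2 (F := F)
  have hq : Nat.card F = q := by rw [Nat.card_eq_fintype_card, hF]
  have ho : Odd (Nat.card F) := by rw [hq]; exact hodd
  obtain ⟨Q⟩ := exists_qpar (two_ne_zero_of_odd ho)
  have key : ∀ V : Subgroup (S2P F), IsKleinFour V → up V ∈ kleinSet F := by
    intro V hV
    refine ⟨up_le V, by rw [card_up]; exact hV.card_four, ?_⟩
    rintro _ ⟨g, hg, rfl⟩
    have e := Monoid.pow_exponent_eq_one (⟨g, hg⟩ : V)
    rw [hV.exponent_two, pow_two] at e
    rw [← map_mul, show g * g = 1 from congrArg Subtype.val e, map_one]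
  have kdown : ∀ W ∈ kleinSet F, IsKleinFour (down W) := by
    intro W hW
    refine ⟨by rw [Nat.card_congr (downEquiv hW.1).toEquiv]; exact hW.2.1, ?_⟩
    haveI : Nontrivial W := Finite.one_lt_card_iff_nontrivial.1 (by rw [hW.2.1]; norm_num)
    haveI : Nontrivial (down W) := (downEquiv hW.1).toEquiv.nontrivial
    refine (Monoid.exponent_eq_prime_iff Nat.prime_two).2 fun g hg => orderOf_eq_prime ?_ hg
    rw [pow_two]
    exact Subtype.ext (incl_injective (by
      rw [Subgroup.coe_mul, map_mul, Subgroup.coe_one, map_one]; exact hW.2.2 _ g.2))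
  -- conjugation upstairs
  have hup : ∀ (g : S2P F) (V : Subgroup (S2P F)), up (V.map (MulAut.conj g).toMonoidHom) = conjG (incl g) (up V) := by
    intro g V
    rw [up, up, conjG, Subgroup.map_map, Subgroup.map_map]
    congr 1
    ext x
    simp
  have hback : ∀ (V W : Subgroup (S2P F)) (s : G2 F), s ∈ psl F → up W = conjG s (up V) →
      ∃ g : S2P F, W = V.map (MulAut.conj g).toMonoidHom := by
    intro V W s hs e
    rw [← incl_range] at hs
    obtain ⟨g, rfl⟩ := hs
    exact ⟨g, up_injective (by rw [hup, e])⟩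
  have hV : ∀ V : Subgroup (S2P F), IsKleinFour V → ∃ s : G2 F, up V = conjG s Q.V := by
    intro V hV
    obtain ⟨σ, hσ⟩ := Q.exists_conj_V (key V hV).1 (key V hV).2.1 (key V hV).2.2
    exact ⟨σ⁻¹, by rw [← hσ, ← conjG_mul, inv_mul_cancel, conjG_one]⟩
  constructor
  · intro hmod V W hVk hWk
    have hns : QPar.gW Q.two ∉ psl F := fun h => by
      have := two_is_square_iff.1 ((QPar.gW_mem_iff Q.two).1 h)
      omega
    obtain ⟨a, ha⟩ := hV V hVk
    obtain ⟨b, hb⟩ := hV W hWk
    -- adjust by an element of the normaliser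
    obtain ⟨n, hn, hmem⟩ : ∃ n ∈ Q.N, b * n * a⁻¹ ∈ psl F := by
      by_cases h : b * a⁻¹ ∈ psl F
      · exact ⟨1, one_mem _, by rwa [mul_one]⟩
      · refine ⟨QPar.gW Q.two, Q.gW_mem_N, ?_⟩
        have e : b * QPar.gW Q.two * a⁻¹ = b * a⁻¹ * (a * QPar.gW Q.two * a⁻¹) := by group
        rw [e, mul_mem_psl_iff ho]
        refine ⟨fun hh => absurd hh h, fun hh => absurd ?_ hns⟩
        have := (psl_normal F).conj_mem _ hh a⁻¹
        simpa [mul_assoc] using this
    refine hback V W _ hmem ?_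
    rw [ha, ← conjG_mul, inv_mul_cancel_right, conjG_mul, conjG_fix_iff.2 hn, hb]
  · intro hmod
    have hs : IsSquare (2 : F) := two_is_square_iff.2 (by omega)
    obtain ⟨ν, hν⟩ := exists_nonsquare ho
    have hν' : di ν ∉ psl F := fun h => hν ((di_mem_psl_iff ν).1 h)
    have hk1 := kdown _ Q.V_mem_kleinSet
    have hk2 := kdown _ (conjG_mem_kleinSet (σ := di ν) Q.V_mem_kleinSet)
    have u1 := up_down Q.V_le_psl
    have u2 := up_down (conjG_mem_kleinSet (σ := di ν) Q.V_mem_kleinSet).1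
    refine ⟨down Q.V, down (conjG (di ν) Q.V), hk1, hk2, ?_, ?_⟩
    · rintro ⟨g, e⟩
      have e' := congrArg up e
      rw [hup, u1, u2] at e'
      have hn : (incl g)⁻¹ * di ν ∈ Q.N := conjG_fix_iff.1 (by
        rw [conjG_mul, e', ← conjG_mul, inv_mul_cancel, conjG_one])
      apply hν'
      have := mul_mem (incl_mem g) (Q.N_inf_psl_of_sq hs hn)
      rwa [mul_inv_cancel_left] at this
    · intro W hW
      obtain ⟨b, hb⟩ := hV W hW
      by_cases h : b ∈ psl F
      · exact Or.inl (hback _ W b h (by rw [u1, hb]))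
      · right
        refine hback _ W (b * (di ν)⁻¹) ?_ (by rw [u2, ← conjG_mul, inv_mul_cancel_right, hb])
        rw [mul_mem_psl_iff ho]
        exact ⟨fun hh => absurd hh h, fun hh => absurd ((psl F).inv_mem_iff.1 hh) hν'⟩

end Cfsg.Agent.S0808
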