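import Cfsg.Statements.S0810
-- import your own Cfsg.Agent.* helpers here
import Mathlib
import Cfsg.Agent.Lib.Perm.Dickson.Minimal

set_option autoImplicit false
set_option linter.all false
open Cfsg

namespace Cfsg.Agent.S0810

open CfsgLib.Perm.Dickson

/-- PSL_2(q) is minimal simple iff q is 2^r (r prime), 3^r (r an odd prime), a prime greater than 5 congruent to 2 or 3 mod 5, or 5. -/
theorem result {F : Type*} [Field F] [Fintype F] {q : ℕ} (hF : Fintype.card F = q) : Cfsg.IsMinimalSimple (Matrix.ProjectiveSpecialLinearGroup (Fin 2) F) ↔ ((∃ r : ℕ, r.Prime ∧ q = 2 ^ r) ∨ (∃ r : ℕ, r.Prime ∧ r ≠ 2 ∧ q = 3 ^ r) ∨ (q.Prime ∧ 5 < q ∧ (q % 5 = 2 ∨ q % 5 = 3)) ∨ q = 5) := by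
  classical
  haveI := finite_G2 (F := F)
  haveI : Finite (S2P F) := Finite.of_equiv _ (pslEquiv F).symm.toEquiv
  have hq' : Nat.card F = q := by rw [Nat.card_eq_fintype_card, hF]
  obtain ⟨p, hpc⟩ := CharP.exists F
  haveI : Fact p.Prime := ⟨CharP.char_is_prime F p⟩
  have hp : p.Prime := Fact.out
  obtain ⟨n, hn, hqn⟩ := card_eq_pow (F := F) p
  rw [hq'] at hqn
  constructor
  · rintro ⟨hs, hnc, hsolv⟩
    have bad : ∀ H : Subgroup (G2 F), H < psl F → ¬ Group.IsSolvable H → False := by
      intro H hlt hns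
      have hd : down H ≠ ⊤ := fun e => hlt.ne (by rw [← up_down hlt.le, e, up_top])
      haveI := hsolv _ hd
      exact hns (Group.isSolvable_of_surjective (f := (downEquiv hlt.le).toMonoidHom) (downEquiv hlt.le).surjective)
    have hA5 : 5 ∣ Nat.card (psl F) → 60 < Nat.card (psl F) → Odd q → False := by
      intro h5 hbig ho
      obtain ⟨τ, hτ⟩ := exists_tau_of_dvd p h5
      obtain ⟨Q⟩ := exists_qpar (two_ne_zero_of_odd (hq'.symm ▸ ho))
      obtain ⟨e⟩ := Q.icosa_a5 hτ
      refine bad (Q.icosa hτ) (lt_of_le_of_ne (Q.icosa_le_psl hτ) fun e' => ?_) fun h => ?_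
      · have : Nat.card (Q.icosa hτ) = 60 := by rw [Nat.card_congr e.toEquiv, Nat.card_eq_fintype_card]; rfl
        rw [e'] at this; omega
      · haveI := h
        haveI : Group.IsSolvable (alternatingGroup (Fin 5)) := Group.isSolvable_of_surjective (f := e.toMonoidHom) e.surjective
        have := IsSimpleGroup.comm_iff_isSolvable.2 this
          (⟨Equiv.swap 0 1 * Equiv.swap 1 2, Equiv.Perm.mem_alternatingGroup.2 (by decide +kernel)⟩ : alternatingGroup (Fin 5))
          ⟨Equiv.swap 0 1 * Equiv.swap 2 3, Equiv.Perm.mem_alternatingGroup.2 (by decide +kernel)⟩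
        revert this
        decide +kernel
    have hc := card_psl F
    rw [hq'] at hc
    have hsub : ∀ k, 1 ≤ k → k ∣ n → k ≠ n → 4 ≤ p ^ k → False := by
      intro k hk hkn hne h4
      obtain ⟨m, rfl⟩ := hkn
      have hm : 1 ≤ m := by
        rcases Nat.eq_zero_or_pos m with rfl | h
        · omega
        · exact h
      haveI : Finite (GaloisField p k) := Module.finite_of_finite (ZMod p)
      obtain ⟨F1, ⟨e⟩⟩ := exists_subfield_ringEquiv (F := F) (K := GaloisField p k) p hm
        (by rw [GaloisField.card p k (by omega), ← pow_mul, hq', hqn])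
      have hc1 : Nat.card F1 = p ^ k := by rw [Nat.card_congr e.toEquiv, GaloisField.card p k (by omega)]
      refine bad (pslSub F1) (lt_of_le_of_ne (pslSub_le_psl F1) fun he => ?_) fun h => ?_
      · have h1 := card_pslSub F1
        rw [card_pglSub, he] at h1
        have hlt : Nat.card F1 < q := by
          rw [hc1, hqn]
          exact Nat.pow_lt_pow_right hp.one_lt (lt_of_le_of_ne (Nat.le_mul_of_pos_right _ hm) hne)
        have h2 : Nat.card F1 * (Nat.card F1 - 1) * (Nat.card F1 + 1) < q * ((q - 1) * (q + 1)) := by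
          rw [mul_assoc]
          exact Nat.mul_lt_mul'' hlt (Nat.mul_lt_mul'' (by omega) (by omega))
        rcases Nat.even_or_odd (Nat.card F) with he' | ho'
        · have g2 := gcd_even he'
          rw [hq'] at g2
          rw [g2] at hc
          have he1 : Nat.gcd 2 (Nat.card F1 - 1) * Nat.card (psl F) ≥ 1 * Nat.card (psl F) :=
            Nat.mul_le_mul_right _ (Nat.gcd_pos_of_pos_left _ (by norm_num))
          omega
        · have g1 := gcd_odd (odd_subfield ho' F1)
          have g2 := gcd_odd ho'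
          rw [g1] at h1
          rw [hq'] at g2
          rw [g2] at hc
          omega
      · haveI := h
        exact psl_not_solvable (F := F1) (by rw [hc1]; exact h4)
          (Group.isSolvable_of_surjective (f := (pslSubEquiv F1 (RingEquiv.refl F1)).toMonoidHom) (pslSubEquiv F1 (RingEquiv.refl F1)).surjective)
    have hq4 : 4 ≤ q := by
      by_contra hcon
      push Not at hcon
      have h2 := card_pos_lt (F := F)
      rw [hq'] at h2
      have hd : Nat.gcd 2 (q - 1) = q - 1 := by interval_cases q <;> rfl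
      rw [hd] at hc
      have hcard : Nat.card (S2P F) ∣ 24 := by
        rw [card_S2P]
        have : Nat.card (psl F) = 6 ∨ Nat.card (psl F) = 12 := by interval_cases q <;> omega
        rcases this with e | e <;> rw [e] <;> norm_num
      haveI := solvable_of_card_dvd_24 hcard
      exact hnc ⟨⟨fun a b => IsSimpleGroup.comm_iff_isSolvable.2 inferInstance a b⟩⟩
    by_cases hn1 : n = 1
    · subst hn1
      rw [pow_one] at hqn
      subst hqn
      rcases Nat.lt_or_ge 5 q with h5 | h5
      · refine Or.inr (Or.inr (Or.inl ⟨hp, h5, ?_⟩))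
        by_contra hcon
        have ho : Odd q := hp.odd_of_ne_two (by omega)
        have h50 : q % 5 ≠ 0 := fun e => by
          have := (Nat.prime_dvd_prime_iff_eq (by norm_num : Nat.Prime 5) hp).1 (Nat.dvd_of_mod_eq_zero e); omega
        have g2 := gcd_odd (F := F) (hq'.symm ▸ ho)
        rw [hq'] at g2
        rw [g2] at hc
        obtain ⟨t, ht⟩ := id ho
        have := Nat.mul_le_mul (show 7 ≤ q by omega) (Nat.mul_le_mul (show 6 ≤ q - 1 by omega) (show 8 ≤ q + 1 by omega))
        refine hA5 ((by norm_num : Nat.Coprime 5 2).dvd_of_dvd_mul_left ?_) (by omega) ho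
        rw [hc]
        refine Dvd.dvd.mul_left ?_ _
        rcases (show q % 5 = 1 ∨ q % 5 = 4 by omega) with e | e
        · exact Dvd.dvd.mul_right (by omega) _
        · exact Dvd.dvd.mul_left (by omega) _
      · exact Or.inr (Or.inr (Or.inr (by
          rcases Nat.lt_or_ge q 5 with h | h
          · obtain rfl : q = 4 := by omega
            norm_num at hp
          · omega)))
    by_cases hnp : n.Prime
    · by_cases hp2 : p = 2
      · exact Or.inl ⟨n, hnp, by rw [hqn, hp2]⟩
      by_cases hp3 : p = 3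
      · subst hp3
        by_cases hn2 : n = 2
        · subst hn2
          norm_num at hqn
          subst hqn
          have g2 := gcd_odd (F := F) (by rw [hq']; exact ⟨4, rfl⟩)
          rw [hq'] at g2
          rw [g2] at hc
          simp only [Nat.reduceSub, Nat.reduceAdd, Nat.reduceMul] at hc
          exact (hA5 (by omega) (by omega) ⟨4, rfl⟩).elim
        · exact Or.inr (Or.inl ⟨n, hnp, hn2, hqn⟩)
      refine (hsub 1 le_rfl (one_dvd _) (Ne.symm hn1) ?_).elim
      have := hp.two_le
      have : p ≠ 4 := fun e => by rw [e] at hp; norm_num at hp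
      rw [pow_one]
      omega
    · obtain ⟨k, hkn, hk1, hkne⟩ := Nat.exists_dvd_of_not_prime (by omega) hnp
      have hk0 : k ≠ 0 := by rintro rfl; obtain rfl := zero_dvd_iff.1 hkn; omega
      refine (hsub k (by omega) hkn hkne ?_).elim
      calc 4 = 2 ^ 2 := by norm_num
        _ ≤ p ^ 2 := Nat.pow_le_pow_left hp.two_le _
        _ ≤ p ^ k := Nat.pow_le_pow_right hp.pos (by omega)
  · intro hlist
    have hprop : 4 ≤ q ∧ (q % 2 = 1 → q % 5 ≠ 1 ∧ q % 5 ≠ 4) ∧ (n.Prime ∨ n = 1) ∧
        ((n = 1 ∧ 5 ≤ p) ∨ p = 2 ∨ p = 3) := by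
      have huniq : ∀ a b : ℕ, a.Prime → 1 ≤ b → q = a ^ b → p = a ∧ n = b := by
        intro a b ha hb e
        have e' : p ^ n = a ^ b := hqn.symm.trans e
        have hpa : p = a := (Nat.prime_dvd_prime_iff_eq hp ha).1 (hp.dvd_of_dvd_pow (e' ▸ dvd_pow_self p (by omega)))
        subst hpa
        exact ⟨rfl, Nat.pow_right_injective hp.two_le e'⟩
      rcases hlist with ⟨r, hr, e⟩ | ⟨r, hr, hr2, e⟩ | ⟨hqp, h5, hm⟩ | e
      · obtain ⟨e1, e2⟩ := huniq 2 r Nat.prime_two hr.one_le e
        subst e2 e1
        refine ⟨?_, fun h => ?_, Or.inl hr, Or.inr (Or.inl rfl)⟩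
        · rw [e]; exact le_trans (by norm_num) (Nat.pow_le_pow_right two_pos hr.two_le)
        · obtain ⟨t, rfl⟩ : ∃ t, n = t + 1 := ⟨n - 1, by omega⟩
          rw [e, pow_succ] at h; omega
      · obtain ⟨e1, e2⟩ := huniq 3 r Nat.prime_three hr.one_le e
        subst e2 e1
        refine ⟨?_, fun _ => ?_, Or.inl hr, Or.inr (Or.inr rfl)⟩
        · rw [e]; exact le_trans (by norm_num) (Nat.pow_le_pow_right (by norm_num) hr.two_le)
        · obtain ⟨t, rfl⟩ := hr.odd_of_ne_two hr2
          have : ∀ s : ℕ, 3 ^ (2 * s + 1) % 5 = 3 ∨ 3 ^ (2 * s + 1) % 5 = 2 := by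
            intro s
            induction s with
            | zero => norm_num
            | succ s ih => rw [show 2 * (s + 1) + 1 = 2 * s + 1 + 2 by ring, pow_add, show (3 : ℕ) ^ 2 = 9 by norm_num]; omega
          rw [e]
          rcases this t with h | h <;> rw [h] <;> omega
      · obtain ⟨e1, e2⟩ := huniq q 1 hqp le_rfl (pow_one q).symm
        exact ⟨by omega, fun _ => by omega, Or.inr e2, Or.inl ⟨e2, by omega⟩⟩
      · obtain ⟨e1, e2⟩ := huniq 5 1 (by norm_num) le_rfl e
        exact ⟨by omega, fun _ => by omega, Or.inr e2, Or.inl ⟨e2, by omega⟩⟩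
    obtain ⟨hq4, hmod, hnprime, hp23⟩ := hprop
    obtain ⟨hs, hnc⟩ := psl_simple_noncomm (F := F) (by omega)
    refine ⟨hs, hnc, fun H hH => ?_⟩
    have hlt : up H < psl F := lt_of_le_of_ne (up_le H) fun e => hH (up_injective (e.trans up_top.symm))
    have hsv : Group.IsSolvable (up H) := by
      rcases classify_finite p (up H) with ⟨x, hx⟩ | ⟨a, b, hg, h, -⟩ | ⟨a, b, hg, h, -, -⟩ | ⟨hN, -, -, -⟩ |
        ⟨hN, -, -, -⟩ | ⟨hN, hp2, hp5, -⟩ | ⟨σ, F1, h3, h⟩
      · exact solvable_of_fixed hx
      · exact solvable_of_pairSet hg.1 fun g hg' => mem_pairSet.2 (Or.inl (mem_pairFix.1 (h hg')))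
      · exact solvable_of_pairSet hg.1 h
      · exact solvable_of_card_dvd_24 (by rw [hN]; norm_num)
      · exact solvable_of_card_dvd_24 (by rw [hN])
      · exfalso
        have h60 := Subgroup.card_dvd_of_le hlt.le
        rw [hN] at h60
        have hc := card_psl F
        rw [hq'] at hc
        have ho : Odd q := hqn ▸ (hp.odd_of_ne_two hp2).pow
        have h5 : 5 ∣ q * ((q - 1) * (q + 1)) := hc ▸ Dvd.dvd.mul_left ((by norm_num : 5 ∣ 60).trans h60) _
        obtain ⟨t, ht⟩ := ho
        have h2 := hmod (by omega)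
        rcases (Nat.Prime.dvd_mul (by norm_num : Nat.Prime 5)).1 h5 with h | h
        · rw [hqn] at h
          exact hp5 ((Nat.prime_dvd_prime_iff_eq (by norm_num) hp).1 ((by norm_num : Nat.Prime 5).dvd_of_dvd_pow h)).symm
        · rcases (Nat.Prime.dvd_mul (by norm_num : Nat.Prime 5)).1 h with h | h <;> omega
      · have hne : Nat.card F1 ≠ q := hq' ▸ subfield_ne_top (σ := σ) hlt (by
          rcases h with e | ⟨-, e⟩
          · rw [e]; exact pslSub_le_pglSub F1
          · exact e ▸ le_rfl)
        obtain ⟨m, hm, hpow⟩ := exists_card_pow F1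
        rw [hq', hqn] at hpow
        obtain ⟨i, hi, hFi⟩ := (Nat.dvd_prime_pow hp).1 (hpow ▸ dvd_pow_self (Nat.card F1) (by omega : m ≠ 0))
        rw [hFi, ← pow_mul] at hpow
        have him : i * m = n := Nat.pow_right_injective hp.two_le hpow
        have hin : i ≠ n := fun e => hne (by rw [hFi, e, hqn])
        have hi1 : i = 1 := by
          rcases hnprime with hpr | rfl
          · exact (hpr.eq_one_or_self_of_dvd i ⟨m, him.symm⟩).resolve_right hin
          · exact absurd (Nat.eq_one_of_mul_eq_one_right him) hin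
        subst hi1
        rw [pow_one] at hFi
        obtain rfl : p = 3 := by rcases hp23 with ⟨rfl, -⟩ | rfl | rfl <;> omega
        have hle : conjG σ (up H) ≤ pglSub F1 := by
          rcases h with e | ⟨-, e⟩
          · exact e.le
          · rw [e]; exact pslSub_le_pglSub F1
        refine solvable_of_card_dvd_24 ?_
        rw [← card_conjG (G := up H) σ]
        have := Subgroup.card_dvd_of_le hle
        rw [card_pglSub, hFi] at this
        exact this
    haveI := hsv
    exact Group.isSolvable_of_isSolvable_injective (f := (upEquiv H).toMonoidHom) (upEquiv H).injective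

end Cfsg.Agent.S0810
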