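import Cfsg.Statements.S0815
import Cfsg.Agent.Lib.SU.CenterCard
import Cfsg.Agent.Lib.AutPSL.Field

set_option autoImplicit false
open Cfsg

namespace Cfsg.Agent.S0815

/-- |Aut(PSU_n(q))| = gcd(n, q+1) · 2f · |PSU_n(q)| for q = p^f, n ≥ 3, (n, q) ≠ (3, 2); the form is realised over F with |F| = q². -/
theorem result {F : Type*} [Field F] [Fintype F] (p f : ℕ) [Fact p.Prime] (hf : 1 ≤ f) {q : ℕ} (hq : q = p ^ f) (hF : Fintype.card F = q ^ 2) (n : ℕ) (hn : 3 ≤ n) (h32 : ¬ (n = 3 ∧ q = 2)) : Nat.card (MulAut (Cfsg.PSU n F q)) = Nat.gcd n (q + 1) * (2 * f) * Nat.card (Cfsg.PSU n F q) := by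
  classical
  obtain ⟨C, hC⟩ := CfsgLib.SU.classify hq hf hF hn h32
  have hR := C.card_indHom_range (n := n) hF hn
  have hFf : Fintype.card F = p ^ (2 * f) := by rw [hF, hq, ← pow_mul, mul_comm]
  rw [mul_right_comm, ← hR, ← CfsgLib.AutPSL.card_ringAut hFf, ← Nat.card_prod]
  refine (Nat.card_congr (Equiv.ofBijective
    (fun x : (C.indHom (n := n)).range × RingAut F => x.1.1 * C.ind 1 x.2) ⟨?_, ?_⟩)).symm
  · rintro ⟨⟨_, g, rfl⟩, σ⟩ ⟨⟨_, h, rfl⟩, τ⟩ he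
    change C.indHom g * C.fieldHom σ = C.indHom h * C.fieldHom τ at he
    have h1 : C.indHom (h⁻¹ * g) * C.fieldHom (σ * τ⁻¹) = 1 := by
      rw [map_mul, map_mul, mul_assoc, ← mul_assoc (C.indHom g), he, map_inv, map_inv,
        mul_assoc (C.indHom h), mul_inv_cancel, mul_one, inv_mul_cancel]
    change C.ind (h⁻¹ * g) 1 * C.ind 1 (σ * τ⁻¹) = 1 at h1
    rw [C.ind_mul, one_mul, map_one, mul_one] at h1
    obtain rfl : σ = τ := mul_inv_eq_one.1 (C.eq_one_of_ind_eq_one hn h1).1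
    exact Prod.ext (Subtype.ext (mul_right_cancel he)) rfl
  · intro β
    obtain ⟨g, σ, rfl⟩ := hC β
    refine ⟨⟨⟨_, g, rfl⟩, σ⟩, ?_⟩
    show C.ind g 1 * C.ind 1 σ = C.ind g σ
    rw [C.ind_mul, map_one, mul_one, one_mul]

end Cfsg.Agent.S0815
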