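import Cfsg.Statements.S0816
import Cfsg.Agent.Lib.Orth.Aut.CardAut

set_option autoImplicit false
open Cfsg

namespace Cfsg.Agent.S0816

/-- |Aut(PΩ_(2m+1)(q))| = 2 f · |PΩ_(2m+1)(q)| for q = p^f odd and m ≥ 3 (for the form quadFormOdd). -/
theorem result {F : Type*} [Field F] [Fintype F] (p f : ℕ) [Fact p.Prime] (hf : 1 ≤ f) (hF : Fintype.card F = p ^ f) (hodd : Odd p) (m : ℕ) (hm : 3 ≤ m) : Nat.card (MulAut (Cfsg.POmega F (Cfsg.quadFormOdd m F))) = 2 * f * Nat.card (Cfsg.POmega F (Cfsg.quadFormOdd m F)) := by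
  have h2 : (2 : F) ≠ 0 := fun e => by
    obtain ⟨k, rfl⟩ := hodd
    have := (CfsgLib.Orth.two_eq_zero_iff_of_card hF).1 e
    omega
  have hn : 5 ≤ Fintype.card (Unit ⊕ (Fin m ⊕ Fin m)) := by simp; omega
  have hQ := CfsgLib.Perm.Trans.Quad.quadFormOdd_nd (F := F) (m := m) h2
  rw [CfsgLib.Orth.card_mulAut_of_top hQ hn
      (CfsgLib.Orth.Aut.gamma_top_odd (hF ▸ hodd.pow) hm)
      (fun σ => ⟨1, CfsgLib.Orth.semisim_field (CfsgLib.Orth.quadFormOdd_field σ)⟩) hF,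
    CfsgLib.Orth.card_pgo_odd hQ hn h2 ⟨m, by simp; omega⟩]
  ring

end Cfsg.Agent.S0816
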