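import Cfsg.Statements.S0819
import Cfsg.Agent.Lib.Classical.ThreeSpectra

set_option autoImplicit false
open Cfsg

namespace Cfsg.Agent.S0819

/-- No element of PSL_3(4) has order 15. -/
theorem result {F : Type*} [Field F] [Fintype F] (hF : Fintype.card F = 4) (g : Matrix.ProjectiveSpecialLinearGroup (Fin 3) F) : orderOf g ≠ 15 := by
  classical
  intro h15
  haveI := Fact.mk Nat.prime_two
  haveI : CharP F 2 := charP_of_card_eq_prime_pow (f := 2) (by rw [hF]; rfl)
  have h := CfsgLib.Classical.ThreeSpectra.psl_upper 2 g
  simp only [hF, h15] at h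
  norm_num at h

end Cfsg.Agent.S0819
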