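import Cfsg.Statements.S0821
import Cfsg.Agent.Lib.Classical.SpInvolClasses
import Cfsg.Agent.Lib.Classical.OmegaInvolRanks
import Cfsg.Agent.Lib.Classical.QuadOrder

set_option autoImplicit false
open Cfsg

namespace Cfsg.Agent.S0821

/-- PSp_2m(q) ≇ PΩ_(2m+1)(q) for q odd and m ≥ 3 (they have the same order). -/
theorem result {F : Type*} [Field F] [Fintype F] (hodd : Odd (Fintype.card F)) (m : ℕ) (hm : 3 ≤ m) : IsEmpty (Cfsg.PSp m F ≃* Cfsg.POmega F (Cfsg.quadFormOdd m F)) := by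
  have h2 := CfsgLib.Orth.two_ne_zero_of_odd hodd
  rw [← CfsgLib.Classical.oddQ_coe]
  obtain ⟨u, hu, hu'⟩ := CfsgLib.Classical.OmegaInvolRanks.exists_nonconj (CfsgLib.Classical.oddQ m F) h2
    (CfsgLib.Classical.oddQ_nondeg h2 m) m (by omega) (by simp; omega)
  obtain ⟨f, hf⟩ := CfsgLib.Classical.SpInvolClasses.exists_invariant (F := F) (m := m) h2 (by omega)
  refine ⟨fun e => ?_⟩
  obtain ⟨k, l, hkl, hf'⟩ := Fintype.exists_ne_map_eq_of_card_lt (fun k => f (e.symm (u k))) (by simp; omega)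
  refine hkl (hu' k l ?_)
  have h := hf _ _ (by rw [MulEquiv.orderOf_eq]; exact hu k) (by rw [MulEquiv.orderOf_eq]; exact hu l) hf'
  simpa using MonoidHom.map_isConj e.toMonoidHom h

end Cfsg.Agent.S0821
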