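import Cfsg.Statements.S0823
import Cfsg.Agent.Lib.Classical.OrthEmbed

set_option autoImplicit false
open Cfsg Matrix

namespace Cfsg.Agent.S0823

/-- SO_3(3) ≅ S_4: the determinant-one isometries of the form x_0² + x_1y_1 over the field with 3 elements form a group isomorphic to the symmetric group on 4 letters. -/
theorem result {F : Type*} [Field F] [Fintype F] (hF : Fintype.card F = 3) : Nonempty (↥(Cfsg.specialIsometryGroup F (Cfsg.quadFormOdd 1 F)) ≃* Equiv.Perm (Fin 4)) := by
  classical
  have h3 : (3 : F) = 0 := by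
    have := Nat.cast_card_eq_zero F
    rwa [hF] at this
  have h2 : (2 : F) ≠ 0 := fun h => one_ne_zero (show (1 : F) = 0 by linear_combination h3 - h)
  let S : (Fin 4 → F) →ₗ[F] F := ∑ i, LinearMap.proj i
  have hS : ∀ x : Fin 4 → F, x ∈ LinearMap.ker S ↔ ∑ i, x i = 0 := fun x => by simp [S, LinearMap.mem_ker, LinearMap.sum_apply]
  let co : (Unit ⊕ (Fin 1 ⊕ Fin 1) → F) ≃ₗ[F] LinearMap.ker S :=
    { toFun := fun v => ⟨![v (.inr (.inl 0)), v (.inl ()) + v (.inr (.inl 0)) - v (.inr (.inr 0)),
          -v (.inl ()) + v (.inr (.inl 0)) - v (.inr (.inr 0)), -v (.inr (.inr 0))], (hS _).2 (by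
            simp [Fin.sum_univ_four]
            linear_combination (v (.inr (.inl 0)) - v (.inr (.inr 0))) * h3)⟩
      map_add' := fun u v => Subtype.ext (funext fun i => by fin_cases i <;> simp <;> ring)
      map_smul' := fun c v => Subtype.ext (funext fun i => by fin_cases i <;> simp <;> ring)
      invFun := fun x => Sum.elim (fun _ => x.1 1 - x.1 0 - x.1 3) (Sum.elim (fun _ => x.1 0) (fun _ => -x.1 3))
      left_inv := fun v => by
        funext i
        rcases i with i | i | i
        · simp; ring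
        · fin_cases i; simp
        · fin_cases i; simp
      right_inv := fun x => by
        have h0 := (hS _).1 x.2
        rw [Fin.sum_univ_four] at h0
        refine Subtype.ext (funext fun i => ?_)
        fin_cases i <;> simp <;> first | linear_combination (x.1 0 + x.1 3) * h3 - h0 | ring }
  let ρ : Equiv.Perm (Fin 4) →* Module.End F (LinearMap.ker S) :=
    { toFun := fun p =>
        { toFun := fun x => ⟨x.1 ∘ p.symm, (hS _).2 ((Equiv.sum_comp p.symm x.1).trans ((hS _).1 x.2))⟩
          map_add' := fun _ _ => rfl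
          map_smul' := fun _ _ => rfl }
      map_one' := rfl
      map_mul' := fun _ _ => rfl }
  have hQ : ∀ v, ∑ i, (co v).1 i ^ 2 = -Cfsg.quadFormOdd 1 F v := fun v => by
    simp [co, Cfsg.quadFormOdd, Fin.sum_univ_four]
    linear_combination (v (.inr (.inl 0)) ^ 2 + v (.inr (.inr 0)) ^ 2 - v (.inr (.inl 0)) * v (.inr (.inr 0)) + v (.inl ()) ^ 2) * h3
  obtain ⟨φ, hφ⟩ := CfsgLib.Classical.OrthEmbed.hom_of_action (Cfsg.quadFormOdd 1 F) co ρ (fun g x => by
    have h := hQ (co.symm (ρ g (co x)))
    rw [LinearEquiv.apply_symm_apply] at h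
    have h' : ∑ i, (ρ g (co x)).1 i ^ 2 = ∑ i, (co x).1 i ^ 2 := Equiv.sum_comp g.symm fun i => (co x).1 i ^ 2
    rw [h', hQ] at h
    exact (neg_injective h).symm) (fun p r h => by
    refine Equiv.symm_bijective.injective (Equiv.ext fun a => ?_)
    by_contra hne
    have key : ∀ a b : Fin 4, a ≠ b → ∃ c : Fin 4, c ≠ a ∧ c ≠ b := by decide
    obtain ⟨c, hc1, hc2⟩ := key _ _ hne
    let x : Fin 4 → F := fun i => (if i = p.symm a then 1 else 0) - (if i = c then 1 else 0)
    have hx : x ∈ LinearMap.ker S := (hS _).2 (by simp [x, Finset.sum_sub_distrib])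
    have := congrFun (congrArg Subtype.val (LinearMap.congr_fun h ⟨x, hx⟩)) a
    change x (p.symm a) = x (r.symm a) at this
    simp [x, hc1.symm, hc2.symm, Ne.symm hne] at this)
  let d : ↥(Cfsg.isometryGroup F (Cfsg.quadFormOdd 1 F)) →* Fˣ :=
    Matrix.GeneralLinearGroup.det.comp (Cfsg.isometryGroup F (Cfsg.quadFormOdd 1 F)).subtype
  have hsq : ∀ u : Fˣ, u * u = 1 := fun u => by
    have h := FiniteField.pow_card_sub_one_eq_one (u : F) u.ne_zero
    rw [hF] at h
    exact Units.ext (by rw [Units.val_mul, Units.val_one]; linear_combination h)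
  let κ : Fˣ →* ↥(Cfsg.isometryGroup F (Cfsg.quadFormOdd 1 F)) :=
    { toFun := fun u => ⟨⟨Matrix.scalar _ (u : F), Matrix.scalar _ (u : F), by rw [← map_mul, ← Units.val_mul, hsq, Units.val_one, map_one],
          by rw [← map_mul, ← Units.val_mul, hsq, Units.val_one, map_one]⟩, CfsgLib.Classical.mem_isometryGroup_iff.2 fun v => by
          have hu : (u : F) * u = 1 := by rw [← Units.val_mul, hsq, Units.val_one]
          simp [Cfsg.quadFormOdd, Matrix.mulVec_diagonal]
          linear_combination (v (.inl ()) ^ 2 + v (.inr (.inl 0)) * v (.inr (.inr 0))) * hu⟩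
      map_one' := Subtype.ext (Units.ext (by simp))
      map_mul' := fun u w => Subtype.ext (Units.ext (map_mul (Matrix.scalar _) (u : F) (w : F))) }
  have hκc : ∀ u g, Commute (κ u) g := fun u g => Subtype.ext (Units.ext (Matrix.scalar_commute _ (fun _ => Commute.all _ _) g.1.1).eq)
  have hdκ : ∀ u, d (κ u) = u := fun u => Units.ext (by
    show Matrix.det (Matrix.scalar _ (u : F)) = (u : F)
    have hu : (u : F) * u = 1 := by rw [← Units.val_mul, hsq, Units.val_one]
    simp
    linear_combination (u : F) * hu)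
  let ψ : Equiv.Perm (Fin 4) →* ↥(Cfsg.specialIsometryGroup F (Cfsg.quadFormOdd 1 F)) :=
    { toFun := fun p => ⟨κ (d (φ p)) * φ p, by
        show d (κ (d (φ p)) * φ p) = 1
        rw [map_mul, hdκ, hsq]⟩
      map_one' := Subtype.ext (by show κ (d (φ 1)) * φ 1 = 1; simp)
      map_mul' := fun p r => Subtype.ext (by
        show κ (d (φ (p * r))) * φ (p * r) = κ (d (φ p)) * φ p * (κ (d (φ r)) * φ r)
        rw [map_mul, map_mul, map_mul, Commute.mul_mul_mul_comm (hκc _ _)]) }
  have hψ : Function.Injective ψ := (injective_iff_map_eq_one ψ).2 fun p hp => by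
    have h : κ (d (φ p)) * φ p = 1 := congrArg Subtype.val hp
    have hc : p ∈ Subgroup.center (Equiv.Perm (Fin 4)) := Subgroup.mem_center_iff.2 fun r => hφ (by
      rw [map_mul, map_mul, eq_inv_of_mul_eq_one_right h]
      exact ((hκc _ (φ r)).inv_left.eq).symm)
    refine Equiv.ext fun a => ?_
    by_contra hne
    have key : ∀ a b : Fin 4, b ≠ a → ∃ c, c ≠ a ∧ c ≠ b := by decide
    obtain ⟨c, hc1, hc2⟩ := key a (p a) hne
    have h2 := Equiv.congr_fun (Subgroup.mem_center_iff.1 hc (Equiv.swap (p a) c)) a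
    simp only [Equiv.Perm.mul_apply, Equiv.swap_apply_left] at h2
    rw [Equiv.swap_apply_of_ne_of_ne (show a ≠ p a from Ne.symm hne) hc1.symm] at h2
    exact hc2 h2
  have hsurj : Function.Surjective d := fun u => ⟨κ u, hdκ u⟩
  have hcard : Nat.card ↥(Cfsg.specialIsometryGroup F (Cfsg.quadFormOdd 1 F)) = Nat.card (Equiv.Perm (Fin 4)) := by
    have h1 : Nat.card d.ker * d.ker.index = _ := Subgroup.card_mul_index d.ker
    rw [Subgroup.index_ker, MonoidHom.range_eq_top.2 hsurj, Subgroup.card_top, Nat.card_units, Nat.card_eq_fintype_card (α := F), hF,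
      CfsgLib.Classical.card_iso_odd h2 1, hF] at h1
    rw [Nat.card_perm, Nat.card_fin]
    show Nat.card d.ker = Nat.factorial 4
    norm_num [Nat.factorial] at h1 ⊢
    omega
  exact ⟨(MulEquiv.ofBijective ψ ((Nat.bijective_iff_injective_and_card ψ).2 ⟨hψ, hcard.symm⟩)).symm⟩

end Cfsg.Agent.S0823
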