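import Cfsg.Statements.S0824
import Cfsg.Agent.Lib.Classical.SmallOrth

set_option autoImplicit false
open Cfsg

namespace Cfsg.Agent.S0824

/-- O⁻_4(2) ≅ S_5: the isometry group of the form x y + z_1² + z_1 z_2 + z_2² over the field with 2 elements is isomorphic to the symmetric group on 5 letters. -/
theorem result {F : Type*} [Field F] [Fintype F] (hF : Fintype.card F = 2) : Nonempty (↥(Cfsg.isometryGroup F (Cfsg.quadFormMinus 1 F 1 1)) ≃* Equiv.Perm (Fin 5)) := by
  obtain ⟨φ, hφ⟩ := CfsgLib.Classical.SmallOrth.permFive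
  have hc : Nat.card ↥(Cfsg.isometryGroup (ZMod 2) (Cfsg.quadFormMinus 1 (ZMod 2) 1 1)) = Nat.card (Equiv.Perm (Fin 5)) := by
    rw [CfsgLib.Classical.card_iso_minus (F := ZMod 2) (by decide) 1, Nat.card_perm, Nat.card_fin, ZMod.card]
    simp [Nat.factorial]
  have hbij : Function.Bijective φ := (Nat.bijective_iff_injective_and_card φ).2 ⟨hφ, hc.symm⟩
  let e : ZMod 2 ≃+* F := FiniteField.ringEquivOfCardEq (by rw [ZMod.card, hF])
  exact ⟨(CfsgLib.Classical.SmallOrth.isoEquiv e (fun v => by simp only [Cfsg.quadFormMinus, map_add, map_mul, map_sum, map_pow, map_one])).symm.trans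
    (MulEquiv.ofBijective φ hbij).symm⟩

end Cfsg.Agent.S0824
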