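import Cfsg.Statements.S0829
import Cfsg.Agent.Lib.Classical.HermIsoCount

set_option autoImplicit false
open Cfsg

namespace Cfsg.Agent.S0829

/-- The unitary quadrangle of PSU_4(q): with |F| = q², the number of 2-dimensional subspaces of F^4 on which the Hermitian form Σ x_i y_i^q vanishes is (q + 1)(q³ + 1). -/
theorem result {F : Type*} [Field F] [Fintype F] {q : ℕ} (hF : Fintype.card F = q ^ 2) : Nat.card {W : Submodule F (Fin 4 → F) // Module.finrank F W = 2 ∧ ∀ u ∈ W, ∀ v ∈ W, Cfsg.hermForm 4 F q u v = 0} = (q + 1) * (q ^ 3 + 1) := by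
  classical
  obtain ⟨C⟩ := CfsgLib.Classical.uctx_exists hF
  have hh : ∀ u v : Fin 4 → F, Cfsg.hermForm 4 F q u v = C.form u v := C.hermForm_eq
  simp only [hh] at *
  have h2 : (2 : ℤ) ≤ q := by exact_mod_cast CfsgLib.Classical.two_le_q hF
  have h := CfsgLib.Classical.HermIsoCount.card_subspaces C 2 4
  rw [CfsgLib.Classical.HermIsoCount.card_frame_succ C (r := 2) (by rfl),
    CfsgLib.Classical.HermIsoCount.card_frame_succ C (r := 4) (by rfl),
    CfsgLib.Classical.HermIsoCount.card_frame_zero C] at h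
  have h' := congrArg (fun x : ℕ => (x : ℤ)) h
  simp only [Nat.cast_mul, Fin.prod_univ_two, hF, Fin.val_zero, Fin.val_one, pow_zero, pow_one, one_mul,
    CfsgLib.Classical.HermIsoCount.isoCount_eq C hF] at h'
  have h1 : 1 ≤ (q ^ 2) ^ 2 := Nat.one_le_pow _ _ (by have := CfsgLib.Classical.two_le_q hF; positivity)
  have hle : q ^ 2 ≤ (q ^ 2) ^ 2 := Nat.le_self_pow two_ne_zero _
  push_cast [h1, hle] at h'
  refine Nat.cast_injective (R := ℤ) ?_
  rw [Nat.cast_mul]
  refine mul_right_cancel₀ (b := (((q : ℤ) ^ 2) ^ 2 - 1) * (((q : ℤ) ^ 2) ^ 2 - (q : ℤ) ^ 2)) ?_ ?_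
  swap
  · rw [h']; push_cast; ring
  refine mul_ne_zero (ne_of_gt ?_) (ne_of_gt ?_) <;> nlinarith [mul_le_mul h2 h2 (by norm_num) (by linarith)]

end Cfsg.Agent.S0829
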