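import Cfsg.Statements.S0831
import Cfsg.Agent.Lib.Classical.LagParity
import Cfsg.Agent.Lib.Orth.Field.Base
import Cfsg.Agent.Lib.Orth.StdSing

set_option autoImplicit false
open Cfsg

namespace Cfsg.Agent.S0831

/-- The two families of maximal totally singular subspaces of the hyperbolic quadric: for the form Σ x_i y_i on F^(2m), m ≥ 1, and m-dimensional subspaces U, W, X on which it vanishes, the parities of m − dim(U ∩ W), m − dim(W ∩ X) and m − dim(U ∩ X) sum to an even number (so 'even codimension of the intersection' is an equivalence relation), and there exist two such subspaces meeting in codimension 1 (so there are exactly two classes). -/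
theorem result {F : Type*} [Field F] (m : ℕ) (hm : 1 ≤ m) : (∀ U W X : Submodule F (Fin m ⊕ Fin m → F), (Module.finrank F U = m ∧ ∀ w ∈ U, Cfsg.quadFormPlus m F w = 0) → (Module.finrank F W = m ∧ ∀ w ∈ W, Cfsg.quadFormPlus m F w = 0) → (Module.finrank F X = m ∧ ∀ w ∈ X, Cfsg.quadFormPlus m F w = 0) → Even ((m - Module.finrank F ↥(U ⊓ W)) + (m - Module.finrank F ↥(W ⊓ X)) + (m - Module.finrank F ↥(U ⊓ X)))) ∧ ∃ U W : Submodule F (Fin m ⊕ Fin m → F), (Module.finrank F U = m ∧ ∀ w ∈ U, Cfsg.quadFormPlus m F w = 0) ∧ (Module.finrank F W = m ∧ ∀ w ∈ W, Cfsg.quadFormPlus m F w = 0) ∧ Module.finrank F ↥(U ⊓ W) + 1 = m := by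
  classical
  obtain ⟨B, hB⟩ := CfsgLib.Orth.FieldCls.exists_qf (CfsgLib.Perm.Trans.Quad.quadFormPlus_nd (F := F) (m := m))
  have hnd : LinearMap.BilinForm.Nondegenerate (QuadraticMap.polarBilin B) := by
    have h := (CfsgLib.Perm.Trans.Quad.quadFormPlus_nd (F := F) (m := m)).nondegenerate
    refine ⟨fun x hx => by_contra fun hx0 => ?_, fun x hx => by_contra fun hx0 => ?_⟩
    · obtain ⟨-, y, hy⟩ := h x hx0
      exact hy (hB ▸ hx y)
    · obtain ⟨⟨y, hy⟩, -⟩ := h x hx0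
      exact hy (hB ▸ hx y)
  have hdim : Module.finrank F (Fin m ⊕ Fin m → F) = m + m := by simp
  have hstd : CfsgLib.LagParity.Lag B m (LinearMap.ker (LinearMap.funLeft F F (Sum.inr : Fin m → Fin m ⊕ Fin m))) :=
    ⟨(CfsgLib.Orth.std_singular m).1, fun x hx => hB ▸ (CfsgLib.Orth.std_singular m).2 x hx⟩
  refine ⟨fun U W X hU hW hX => CfsgLib.LagParity.parity_triangle hnd hdim ⟨hU.1, fun x hx => hB.symm ▸ hU.2 x hx⟩
    ⟨hW.1, fun x hx => hB.symm ▸ hW.2 x hx⟩ ⟨hX.1, fun x hx => hB.symm ▸ hX.2 x hx⟩, ?_⟩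
  obtain ⟨U, hUd, hUs⟩ : ∃ U : Submodule F (Fin m ⊕ Fin m → F), Module.finrank F U + 1 = m ∧ ∀ x ∈ U, B x = 0 := by
    obtain ⟨e, he⟩ : ∃ e : (Fin (m - 1) → F) →ₗ[F] ↥(LinearMap.ker (LinearMap.funLeft F F (Sum.inr : Fin m → Fin m ⊕ Fin m))),
        Function.Injective e := finrank_le_iff_exists_linearMap.1 (by rw [Module.finrank_fin_fun, hstd.1]; omega)
    refine ⟨LinearMap.range ((Submodule.subtype _).comp e), ?_, ?_⟩
    · rw [LinearMap.finrank_range_of_inj (Subtype.val_injective.comp he), Module.finrank_fin_fun]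
      omega
    · rintro _ ⟨x, rfl⟩
      exact hstd.2 _ (e x).2
  obtain ⟨⟨W, hW, hUW⟩, ⟨W', hW', hUW'⟩, hne, -⟩ := Nat.card_eq_two_iff.1 (CfsgLib.LagParity.card_lag_ge hnd hdim hstd hUd hUs)
  refine ⟨W, W', ⟨hW.1, fun x hx => hB ▸ hW.2 x hx⟩, ⟨hW'.1, fun x hx => hB ▸ hW'.2 x hx⟩, ?_⟩
  have h1 := Submodule.finrank_mono (le_inf hUW hUW')
  by_contra h2
  have h3 : Module.finrank F ↥(W ⊓ W') ≤ m := (Submodule.finrank_mono inf_le_left).trans hW.1.le
  have h4 : W ⊓ W' = W := Submodule.eq_of_le_of_finrank_le inf_le_left (by rw [hW.1]; omega)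
  exact hne (Subtype.ext (Submodule.eq_of_le_of_finrank_le (inf_eq_left.1 h4) (by rw [hW.1, hW'.1])))

end Cfsg.Agent.S0831
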