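import Cfsg.Statements.S0832
import Cfsg.Agent.Lib.Classical.LagParity
import Cfsg.Agent.Lib.Orth.Field.Base
import Cfsg.Agent.Lib.Orth.StdSing

set_option autoImplicit false
open Cfsg

namespace Cfsg.Agent.S0832

/-- For the form Σ x_i y_i on F^(2m) over a finite field, m ≥ 1: an (m−1)-dimensional subspace on which the form vanishes is contained in exactly two m-dimensional subspaces on which it vanishes. -/
theorem result {F : Type*} [Field F] [Finite F] (m : ℕ) (hm : 1 ≤ m) (U : Submodule F (Fin m ⊕ Fin m → F)) (hU : Module.finrank F U + 1 = m ∧ ∀ u ∈ U, Cfsg.quadFormPlus m F u = 0) : Nat.card {W : Submodule F (Fin m ⊕ Fin m → F) // Module.finrank F W = m ∧ (∀ w ∈ W, Cfsg.quadFormPlus m F w = 0) ∧ U ≤ W} = 2 := by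
  classical
  obtain ⟨B, hB⟩ := CfsgLib.Orth.FieldCls.exists_qf (CfsgLib.Perm.Trans.Quad.quadFormPlus_nd (F := F) (m := m))
  have hnd : LinearMap.BilinForm.Nondegenerate (QuadraticMap.polarBilin B) := by
    have h := (CfsgLib.Perm.Trans.Quad.quadFormPlus_nd (F := F) (m := m)).nondegenerate
    refine ⟨fun x hx => by_contra fun hx0 => ?_, fun x hx => by_contra fun hx0 => ?_⟩
    · obtain ⟨-, y, hy⟩ := h x hx0
      exact hy (hB ▸ hx y)
    · obtain ⟨⟨y, hy⟩, -⟩ := h x hx0
      exact hy (hB ▸ hx y)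
  have hdim : Module.finrank F (Fin m ⊕ Fin m → F) = m + m := by simp
  have hstd : CfsgLib.LagParity.Lag B m (LinearMap.ker (LinearMap.funLeft F F (Sum.inr : Fin m → Fin m ⊕ Fin m))) :=
    ⟨(CfsgLib.Orth.std_singular m).1, fun x hx => hB ▸ (CfsgLib.Orth.std_singular m).2 x hx⟩
  rw [← CfsgLib.LagParity.card_lag_ge hnd hdim hstd hU.1 (hB.symm ▸ hU.2)]
  exact Nat.card_congr (Equiv.subtypeEquivRight fun W => by rw [CfsgLib.LagParity.Lag, hB, and_assoc])

end Cfsg.Agent.S0832
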