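import Cfsg.Statements.S0835
import Cfsg.Agent.Lib.Classical.TensorForms

set_option autoImplicit false
open Cfsg

namespace Cfsg.Agent.S0835

/-- Over a finite field with 2 ≠ 0: if B₁ on U (dim 2k, k ≥ 1) is non-degenerate symmetric of minus type (no totally isotropic k-subspace) and B₂ on W (dim 2l + 1) is non-degenerate symmetric, then B₁ ⊗ B₂ (dimension 2k(2l+1)) admits no totally isotropic subspace of dimension k(2l+1) (minus type). -/
theorem result {F U W : Type*} [Field F] [Fintype F] [AddCommGroup U] [Module F U] [FiniteDimensional F U] [AddCommGroup W] [Module F W] [FiniteDimensional F W] (h2 : (2 : F) ≠ 0) (B₁ : LinearMap.BilinForm F U) (B₂ : LinearMap.BilinForm F W) (h₁ : B₁.Nondegenerate) (h₂ : B₂.Nondegenerate) (hS₁ : B₁.IsSymm) (hS₂ : B₂.IsSymm) (k l : ℕ) (hk : 1 ≤ k) (hU : Module.finrank F U = 2 * k) (hW : Module.finrank F W = 2 * l + 1) (hm₁ : ¬ (∃ X : Submodule F (U), Module.finrank F X = k ∧ ∀ x ∈ X, ∀ y ∈ X, (B₁) x y = 0)) : ¬ (∃ X : Submodule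 F (TensorProduct F U W), Module.finrank F X = k * (2 * l + 1) ∧ ∀ x ∈ X, ∀ y ∈ X, (B₁.tmul B₂) x y = 0) := by
  classical
  rintro ⟨X, hX, hX0⟩
  let b := Module.finBasisOfFinrankEq F U hU
  let c := Module.finBasisOfFinrankEq F W hW
  have hd := CfsgLib.Classical.TensorForms.isSquare_of_isotropic (B₁.tmul B₂) ⟨fun x y => by simpa using (LinearMap.IsSymm.tmul (B₁ := B₁) (B₂ := B₂) ⟨fun a b => by simpa using hS₁.eq a b⟩ ⟨fun a b => by simpa using hS₂.eq a b⟩).eq x y⟩
    (by rw [Module.finrank_tensorProduct, hU, hW]; ring) X hX hX0 (b.tensorProduct c)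
  rw [CfsgLib.Classical.TensorForms.det_tmul] at hd
  simp only [Fintype.card_fin] at hd
  refine hm₁ (CfsgLib.Classical.TensorForms.exists_isotropic_half h2 k B₁ hS₁ h₁ hU b ?_)
  have hb := (LinearMap.BilinForm.nondegenerate_iff_det_ne_zero b).1 h₁
  have hc := (LinearMap.BilinForm.nondegenerate_iff_det_ne_zero c).1 h₂
  set x := (LinearMap.BilinForm.toMatrix b B₁).det
  set y := (LinearMap.BilinForm.toMatrix c B₂).det
  rw [← CfsgLib.Classical.isSquare_mul_sq_iff (x := (-1 : F) ^ k * x)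
    (mul_ne_zero (mul_ne_zero (pow_ne_zero (k * l) (neg_ne_zero.2 one_ne_zero)) (pow_ne_zero l hb)) (pow_ne_zero k hc))]
  convert hd using 1
  ring

end Cfsg.Agent.S0835
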