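import Mathlib
import Cfsg.Statements.S0836
import Cfsg.Agent.Lib.Classical.SLBasic

set_option autoImplicit false
open Cfsg

namespace Cfsg.Agent.S0836

/-- For i ≠ j and any scalar c, the elementary transvection 1 + c E_ij is a commutator ⁅g, h⁆ of two elements of SL_n(F) provided n ≥ 3, or n = 2 and F contains x ≠ 0 with x² ≠ 1. -/
theorem result {F : Type*} [Field F] (n : ℕ) (hn : 3 ≤ n ∨ (n = 2 ∧ ∃ x : F, x ≠ 0 ∧ x ^ 2 ≠ 1)) (i j : Fin n) (hij : i ≠ j) (c : F) (t : Matrix.SpecialLinearGroup (Fin n) F) (ht : (t : Matrix (Fin n) (Fin n) F) = Matrix.transvection i j c) : t ∈ commutatorSet (Matrix.SpecialLinearGroup (Fin n) F) := by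
  have ht' : t = Matrix.SpecialLinearGroup.transvection hij c := Subtype.ext ht
  subst ht'
  by_cases h3 : 3 ≤ n
  · obtain ⟨k, hki, hkj⟩ : ∃ k : Fin n, k ≠ i ∧ k ≠ j := by
      by_contra hc
      simp only [not_exists, not_and, not_not] at hc
      have : (Finset.univ : Finset (Fin n)) ⊆ {i, j} := fun k _ => by
        rcases eq_or_ne k i with rfl | hk
        · simp
        · simp [hc k hk]
      have h2 := (Finset.card_le_card this).trans Finset.card_le_two
      simp at h2
      omega
    rw [← one_mul c, ← CfsgLib.Classical.commutator_transvection hki.symm hkj hij]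
    exact commutator_mem_commutatorSet _ _
  obtain ⟨rfl, a, ha, ha2⟩ := hn.resolve_left h3
  set b := c / (a ^ 2 - 1) with hb
  have hcb : c = b * (a ^ 2 - 1) := (div_mul_cancel₀ c (sub_ne_zero.2 ha2)).symm
  refine ⟨Matrix.SpecialLinearGroup.diag2n hij a ha, Matrix.SpecialLinearGroup.transvection hij b, ?_⟩
  rw [commutatorElement_def, mul_inv_eq_iff_eq_mul, mul_inv_eq_iff_eq_mul]
  rw [← Matrix.SpecialLinearGroup.transvection_add]
  apply Subtype.ext
  show Matrix.diagonal (fun k => if k = i then a else if k = j then a⁻¹ else 1) * (1 + Matrix.single i j b) =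
    (1 + Matrix.single i j (c + b)) * Matrix.diagonal (fun k => if k = i then a else if k = j then a⁻¹ else 1)
  ext k l
  rw [Matrix.diagonal_mul, Matrix.mul_diagonal]
  by_cases hk : k = i
  · subst hk
    by_cases hl : l = j
    · subst hl
      simp [hij, hij.symm]
      field_simp
      linear_combination -hcb
    · by_cases hlk : l = k
      · subst hlk; simp [Ne.symm hij]
      · simp [Ne.symm hl, Ne.symm hlk]
  · by_cases hl : l = k
    · subst hl; simp [hk, Ne.symm hk]
    · simp [hk, Ne.symm hk, Ne.symm hl]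

end Cfsg.Agent.S0836
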