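import Cfsg.Statements.S0838
import Cfsg.Agent.Lib.Classical.SymmDiag
import Cfsg.Agent.Lib.Classical.QuadBasic

set_option autoImplicit false
open Cfsg

namespace Cfsg.Agent.S0838

/-- Over a finite field with 2 ≠ 0 and n odd: two quadratic forms Q₁, Q₂ on F^n with non-degenerate polar forms are similar — there are an invertible linear map g and a scalar c ≠ 0 with Q₂ (g v) = c · Q₁ v for all v. -/
theorem result {F : Type*} [Field F] [Fintype F] (h2 : (2 : F) ≠ 0) {n : ℕ} (hn : Odd n) (Q₁ Q₂ : QuadraticForm F (Fin n → F)) (h₁ : (QuadraticMap.polarBilin Q₁).Nondegenerate) (h₂ : (QuadraticMap.polarBilin Q₂).Nondegenerate) : ∃ (g : (Fin n → F) ≃ₗ[F] (Fin n → F)) (c : F), c ≠ 0 ∧ ∀ v, Q₂ (g v) = c * Q₁ v := by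
  classical
  obtain ⟨m, rfl⟩ : ∃ m, n = m + 1 := ⟨n - 1, by have := hn.pos; omega⟩
  have hF : ringChar F ≠ 2 := fun h => h2 (by
    have : CharP F 2 := ringChar.of_eq h
    exact CharTwo.two_eq_zero)
  obtain ⟨α, hα⟩ := FiniteField.exists_nonsquare hF
  have hα0 : α ≠ 0 := fun h => hα (h ▸ IsSquare.zero)
  set B₁ := QuadraticMap.polarBilin Q₁
  set B₂ := QuadraticMap.polarBilin Q₂
  have hS : ∀ Q : QuadraticForm F (Fin (m + 1) → F), LinearMap.BilinForm.IsSymm (QuadraticMap.polarBilin Q) :=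
    fun Q => ⟨fun x y => QuadraticMap.polar_comm _ x y⟩
  have hS' : LinearMap.BilinForm.IsSymm (α • B₁) := ⟨fun x y => by
    show α • B₁ x y = α • B₁ y x
    rw [show B₁ x y = B₁ y x from QuadraticMap.polar_comm _ x y]⟩
  have hnd : (α • B₁).Nondegenerate := by
    refine ⟨fun x hx => h₁.1 x fun y => ?_, fun y hy => h₁.2 y fun x => ?_⟩
    · exact (mul_eq_zero.1 (show α * B₁ x y = 0 from hx y)).resolve_left hα0
    · exact (mul_eq_zero.1 (show α * B₁ x y = 0 from hy x)).resolve_left hα0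
  have hdim : Module.finrank F (Fin (m + 1) → F) = m + 1 := Module.finrank_fin_fun F
  obtain ⟨b₁, o₁, f₁, l₁⟩ := CfsgLib.Classical.exists_orthogonal_one_or_nonsquare h2 B₁ (hS Q₁) h₁ hdim α hα
  obtain ⟨b₂, o₂, f₂, l₂⟩ := CfsgLib.Classical.exists_orthogonal_one_or_nonsquare h2 B₂ (hS Q₂) h₂ hdim α hα
  obtain ⟨b₃, o₃, f₃, l₃⟩ := CfsgLib.Classical.exists_orthogonal_one_or_nonsquare h2 (α • B₁) hS' hnd hdim α hα
  -- transporting one diagonal form to another
  have trans : ∀ (c : F) (b c' : Module.Basis (Fin (m + 1)) F (Fin (m + 1) → F)),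
      (∀ i j, B₂ (c' i) (c' j) = c * B₁ (b i) (b j)) →
      ∀ v, Q₂ (b.equiv c' (Equiv.refl _) v) = c * Q₁ v := by
    intro c b c' h v
    have hb : B₂.compl₁₂ (b.equiv c' (Equiv.refl _)).toLinearMap (b.equiv c' (Equiv.refl _)).toLinearMap = c • B₁ :=
      b.ext fun i => b.ext fun j => by simp [h i j]
    have := congrArg (fun B : LinearMap.BilinForm F (Fin (m + 1) → F) => B v v) hb
    simp only [LinearMap.compl₁₂_apply, LinearEquiv.coe_coe, LinearMap.smul_apply, smul_eq_mul, B₁, B₂,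
      QuadraticMap.polarBilin_apply_apply, CfsgLib.Classical.polar_self_two] at this
    exact mul_left_cancel₀ h2 (by linear_combination this)
  have hdiag : ∀ (B B' : LinearMap.BilinForm F (Fin (m + 1) → F))
      (b c : Module.Basis (Fin (m + 1)) F (Fin (m + 1) → F)),
      (∀ i j, i ≠ j → B (b i) (b j) = 0) → (∀ i j, i ≠ j → B' (c i) (c j) = 0) →
      (∀ i, i ≠ Fin.last m → B (b i) (b i) = 1) → (∀ i, i ≠ Fin.last m → B' (c i) (c i) = 1) →
      B (b (Fin.last m)) (b (Fin.last m)) = B' (c (Fin.last m)) (c (Fin.last m)) →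
      ∀ i j, B' (c i) (c j) = B (b i) (b j) := by
    intro B B' b c o o' f f' hl i j
    rcases eq_or_ne i j with rfl | h
    · by_cases h : i = Fin.last m
      · rw [h, hl]
      · rw [f i h, f' i h]
    · rw [o i j h, o' i j h]
  have hne : B₁ (b₁ (Fin.last m)) (b₁ (Fin.last m)) ≠ (α • B₁) (b₃ (Fin.last m)) (b₃ (Fin.last m)) := by
    intro he
    have key := hdiag B₁ (α • B₁) b₁ b₃ o₁ o₃ f₁ f₃ he
    set G := CfsgLib.Classical.polarGram Q₁
    set e := LinearMap.toMatrix' (b₁.equiv b₃ (Equiv.refl _)).toLinearMap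
    have hb : (α • B₁).compl₁₂ (b₁.equiv b₃ (Equiv.refl _)).toLinearMap (b₁.equiv b₃ (Equiv.refl _)).toLinearMap = B₁ :=
      b₁.ext fun i => b₁.ext fun j => by simpa using key i j
    have hmat : α • (e.transpose * G * e) = G := by
      ext i j
      have h := congrArg (fun B : LinearMap.BilinForm F (Fin (m + 1) → F) => B (Pi.single i 1) (Pi.single j 1)) hb
      simp only [LinearMap.compl₁₂_apply, LinearEquiv.coe_coe, LinearMap.smul_apply, smul_eq_mul, B₁,
        QuadraticMap.polarBilin_apply_apply] at h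
      rw [← CfsgLib.Classical.dotProduct_polarGram_mulVec] at h
      rw [show G i j = QuadraticMap.polar ⇑Q₁ (Pi.single i 1) (Pi.single j 1) from rfl, ← h, Matrix.smul_apply,
        smul_eq_mul, Matrix.mul_assoc, Matrix.mul_apply]
      congr 1
    have hdet := congrArg Matrix.det hmat
    rw [Matrix.det_smul, Fintype.card_fin, Matrix.det_mul, Matrix.det_mul, Matrix.det_transpose] at hdet
    have h1 : α ^ (m + 1) * (e.det * e.det) = 1 :=
      mul_right_cancel₀ (CfsgLib.Classical.det_polarGram_ne_zero Q₁ h₁) (by linear_combination hdet)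
    obtain ⟨k, hk⟩ := hn
    have hed : e.det ≠ 0 := fun h0 => by simp [h0] at h1
    apply hα
    refine ⟨(α ^ k * e.det)⁻¹, ?_⟩
    rw [show α ^ (m + 1) = α ^ k * α ^ k * α by rw [hk]; ring] at h1
    field_simp
    linear_combination h1
  by_cases hl : B₁ (b₁ (Fin.last m)) (b₁ (Fin.last m)) = B₂ (b₂ (Fin.last m)) (b₂ (Fin.last m))
  · exact ⟨b₁.equiv b₂ (Equiv.refl _), 1, one_ne_zero, trans 1 b₁ b₂ fun i j => by
      rw [one_mul]; exact hdiag B₁ B₂ b₁ b₂ o₁ o₂ f₁ f₂ hl i j⟩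
  · refine ⟨b₃.equiv b₂ (Equiv.refl _), α, hα0, trans α b₃ b₂ fun i j => ?_⟩
    refine hdiag (α • B₁) B₂ b₃ b₂ o₃ o₂ f₃ f₂ ?_ i j
    rcases l₁ with a | a <;> rcases l₂ with b | b <;> rcases l₃ with c | c <;>
      first
      | exact c.trans b.symm
      | exact absurd (a.trans b.symm) hl
      | exact absurd (a.trans c.symm) hne

end Cfsg.Agent.S0838
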