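import Mathlib
import Cfsg.Statements.S0839
import Cfsg.Agent.Lib.LinDeg.Core

set_option autoImplicit false
open Cfsg

namespace Cfsg.Agent.S0839

/-- Every transvection t ∈ SL_(n+2)(F) (rank(t − 1) = 1, (t − 1)² = 0) is conjugate in SL_(n+2)(F) to 1 + v·e_0ᵀ for some column vector v with v_0 = 0 (the group A of matrices that are the identity except in the first column below the diagonal); the dimension is written n + 2 ≥ 2. -/
theorem result {F : Type*} [Field F] (n : ℕ) (t : Matrix.SpecialLinearGroup (Fin (n + 2)) F) (ht : Cfsg.IsTransvection (t : Matrix (Fin (n + 2)) (Fin (n + 2)) F)) : ∃ (g : Matrix.SpecialLinearGroup (Fin (n + 2)) F) (v : Fin (n + 2) → F), v 0 = 0 ∧ ((g⁻¹ * t * g : Matrix.SpecialLinearGroup (Fin (n + 2)) F) : Matrix (Fin (n + 2)) (Fin (n + 2)) F) = 1 + Matrix.vecMulVec v (Pi.single 0 1) := by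
  classical
  obtain ⟨hr, hsq⟩ := ht
  set A := (t : Matrix (Fin (n + 2)) (Fin (n + 2)) F) - 1 with hA
  obtain ⟨u, hu, hspan⟩ := finrank_eq_one_iff'.1 (show Module.finrank F (LinearMap.range A.mulVecLin) = 1 from hr)
  choose f hf using fun j => hspan ⟨A.mulVec (Pi.single j 1), ⟨_, rfl⟩⟩
  obtain ⟨uv, huv⟩ : ∃ uv : Fin (n + 2) → F, (u : Fin (n + 2) → F) = uv := ⟨_, rfl⟩
  have hAe : A = Matrix.vecMulVec (u : Fin (n + 2) → F) f := by
    ext i j
    have := congrArg (fun w : LinearMap.range A.mulVecLin => (w : Fin (n + 2) → F) i) (hf j)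
    simp [Matrix.col_apply] at this
    rw [Matrix.vecMulVec_apply, mul_comm, this]
  rw [huv] at hAe
  have hu0 : uv ≠ 0 := fun h => hu (Subtype.ext (huv.trans h))
  have hf0 : f ≠ 0 := fun h => by
    rw [hAe, h, Matrix.vecMulVec_zero, Matrix.rank_zero] at hr
    exact zero_ne_one hr
  have hfu : f ⬝ᵥ uv = 0 := by
    rw [hAe, Matrix.vecMulVec_mul_vecMulVec] at hsq
    by_contra h
    obtain ⟨i, hi⟩ := Function.ne_iff.1 hu0
    obtain ⟨j, hj⟩ := Function.ne_iff.1 hf0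
    have := congrFun (congrFun hsq i) j
    rw [Matrix.vecMulVec_apply, Pi.smul_apply, smul_eq_mul, Matrix.zero_apply] at this
    exact mul_ne_zero hi (mul_ne_zero h hj) this
  obtain ⟨M, hM, hMf⟩ := CfsgLib.LinDeg.exists_det_one_mulVec (show 2 ≤ n + 2 by omega) hf0
    (w' := Pi.single (0 : Fin (n + 2)) (1 : F)) (by simp)
  let g : Matrix.SpecialLinearGroup (Fin (n + 2)) F := ⟨M.1.transpose, by rw [Matrix.det_transpose, hM]⟩
  have hfg : Matrix.vecMul f g.1 = Pi.single 0 1 := by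
    show Matrix.vecMul f M.1.transpose = _
    rw [Matrix.vecMul_transpose, hMf]
  have hgg : g.1 * (g⁻¹).1 = 1 := by
    rw [← Matrix.SpecialLinearGroup.coe_mul, mul_inv_cancel, Matrix.SpecialLinearGroup.coe_one]
  have hgg' : (g⁻¹).1 * g.1 = 1 := by
    rw [← Matrix.SpecialLinearGroup.coe_mul, inv_mul_cancel, Matrix.SpecialLinearGroup.coe_one]
  refine ⟨g, (g⁻¹).1.mulVec uv, ?_, ?_⟩
  · have e : (Matrix.vecMul f g.1) ⬝ᵥ ((g⁻¹).1.mulVec uv) = 0 := by
      rw [← Matrix.dotProduct_mulVec, Matrix.mulVec_mulVec, hgg, Matrix.one_mulVec, hfu]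
    rw [hfg] at e
    simpa using e
  · have ht' : (t : Matrix (Fin (n + 2)) (Fin (n + 2)) F) = 1 + A := by rw [hA]; abel
    show (g⁻¹).1 * t.1 * g.1 = _
    rw [ht', hAe, mul_add, add_mul, mul_one, hgg', Matrix.mul_vecMulVec, Matrix.vecMulVec_mul, hfg]

end Cfsg.Agent.S0839
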