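import Cfsg.Statements.S0841
import Mathlib



set_option autoImplicit false
open Cfsg

namespace Cfsg.Agent.S0841

/-- If the commutator subgroup of G lies in the centre, then for all x, y in G and every natural number n one has (x * y) ^ n = x ^ n * y ^ n * c ^ (n * (n - 1) / 2) with c = y⁻¹ * x⁻¹ * y * x. -/
theorem result {G : Type*} [Group G] (hG : commutator G ≤ Subgroup.center G) (x y : G) (n : ℕ) : (x * y) ^ n = x ^ n * y ^ n * (y⁻¹ * x⁻¹ * y * x) ^ (n * (n - 1) / 2) := by
  have key : ∀ z : G, z ∈ commutator G → ∀ g : G, Commute z g := fun z hz g =>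
    ((Subgroup.mem_center_iff.mp (hG hz)) g).symm
  have hc : (y⁻¹ * x⁻¹ * y * x) ∈ commutator G := by
    rw [commutator_def]
    have := Subgroup.commutator_mem_commutator (Subgroup.mem_top y⁻¹) (Subgroup.mem_top x⁻¹)
    simpa [commutatorElement_def, mul_assoc] using this
  generalize hcdef : y⁻¹ * x⁻¹ * y * x = c at hc ⊢
  have hyx : y * x = x * y * c := by rw [← hcdef]; group
  have hpow : ∀ m : ℕ, y ^ m * x = x * y ^ m * c ^ m := by
    intro m
    induction m with
    | zero => simp
    | succ m ih =>
      have h1 : Commute c (y ^ m) := key c hc _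
      have h2 : Commute (c ^ m) y := (key c hc y).pow_left m
      calc y ^ (m + 1) * x = y * (y ^ m * x) := by rw [pow_succ', mul_assoc]
        _ = (y * x) * (y ^ m * c ^ m) := by rw [ih]; group
        _ = x * y * (c * y ^ m) * c ^ m := by rw [hyx]; group
        _ = x * y ^ (m + 1) * c ^ (m + 1) := by rw [h1.eq, pow_succ', pow_succ' c]; group
  induction n with
  | zero => simp
  | succ n ih =>
    have h3 : (n + 1) * (n + 1 - 1) / 2 = n * (n - 1) / 2 + n := by
      rcases n with _ | k
      · rfl
      · simp only [Nat.add_sub_cancel]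
        rw [show (k + 1 + 1) * (k + 1) = (k + 1) * k + (k + 1) * 2 by ring,
          Nat.add_mul_div_right _ _ two_pos]
    rw [h3, pow_succ (x * y), ih, pow_add c]
    set C := c ^ (n * (n - 1) / 2) with hC
    have h4 : ∀ g, Commute C g := fun g => (key c hc g).pow_left _
    have h5 : Commute (c ^ n) y := (key c hc y).pow_left n
    calc x ^ n * y ^ n * C * (x * y) = x ^ n * (y ^ n * x) * y * C := by
          rw [mul_assoc _ C, (h4 (x * y)).eq]; group
      _ = x ^ (n + 1) * y ^ (n + 1) * (C * c ^ n) := by
          rw [hpow, mul_assoc (x ^ n), mul_assoc (x * y ^ n), h5.eq, pow_succ, pow_succ y,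
            (h4 (c ^ n)).eq]
          group

end Cfsg.Agent.S0841
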