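import Cfsg.Statements.S0845
import Cfsg.Agent.Lib.Char.QuaternionSylow

set_option autoImplicit false
open Cfsg

namespace Cfsg.Agent.S0845

/-- Suppose a Sylow 2-subgroup S of the finite group G is generalized quaternion of order at least 16. Then G has a normal subgroup M of even order such that G / M is non-abelian, that is, M does not contain the commutator subgroup of G. -/
theorem result {G : Type*} [Group G] [Finite G] (S : Sylow 2 G) (n : ℕ) (e : (S : Subgroup G) ≃* QuaternionGroup (2 ^ (n + 2))) : ∃ M : Subgroup G, M.Normal ∧ Even (Nat.card M) ∧ ¬ commutator G ≤ M := by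
  haveI : NeZero (2 ^ (n + 2)) := ⟨by positivity⟩
  obtain ⟨M, hMn, -, ⟨x, hx, hxM⟩, h4⟩ := CfsgLib.Char.exists_normal_two_odd_of_quaternion S e
  refine ⟨M, hMn, even_iff_two_dvd.2 (hx ▸ Subgroup.orderOf_dvd_natCard M hxM), fun hle => h4 ?_⟩
  set u : (S : Subgroup G) := e.symm (.xa 0) with hu
  set v : (S : Subgroup G) := e.symm (.a 1) with hv
  have hcM : ((u * v * u⁻¹ * v⁻¹ : (S : Subgroup G)) : G) ∈ M := hle (by
    rw [← commutatorElement_def, commutator_def]
    exact Subgroup.commutator_mem_commutator (Subgroup.mem_top (u : G)) (Subgroup.mem_top (v : G)))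
  set c : QuaternionGroup (2 ^ (n + 2)) := .xa 0 * .a 1 * (.xa 0)⁻¹ * (.a 1)⁻¹ with hc
  have he : u * v * u⁻¹ * v⁻¹ = e.symm c := by
    simp only [hu, hv, hc, map_mul, map_inv]
  have h2 : c = .a (-2) := by
    rw [hc, mul_inv_eq_iff_eq_mul, mul_inv_eq_iff_eq_mul, QuaternionGroup.xa_mul_a,
      QuaternionGroup.a_mul_a, QuaternionGroup.a_mul_xa]
    congr 1
    ring
  have ho : 4 ∣ orderOf c := by
    have hp : c ^ (2 : ℕ) ≠ 1 := by
      rw [h2, pow_two, QuaternionGroup.a_mul_a, QuaternionGroup.one_def]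
      intro h
      injection h with h
      have h' : ((4 : ℕ) : ZMod (2 * 2 ^ (n + 2))) = 0 := by
        push_cast; linear_combination -h
      rw [ZMod.natCast_eq_zero_iff] at h'
      have := Nat.le_of_dvd (by norm_num) h'
      have : 4 ≤ 2 ^ (n + 2) := by
        calc (4 : ℕ) = 2 ^ 2 := rfl
          _ ≤ 2 ^ (n + 2) := Nat.pow_le_pow_right (by norm_num) (by omega)
      omega
    obtain ⟨k, hk⟩ := (S.isPGroup').exists_card_eq
    have hdvd : orderOf c ∣ 2 ^ k := hk ▸ (orderOf_injective e.symm.toMonoidHom e.symm.injective c).symm ▸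
      orderOf_dvd_natCard _
    obtain ⟨j, -, hj⟩ := (Nat.dvd_prime_pow Nat.prime_two).1 hdvd
    have : 2 ≤ j := by
      by_contra hj2
      refine hp (orderOf_dvd_iff_pow_eq_one.1 ?_)
      rw [hj]
      exact (Nat.pow_dvd_pow 2 (show j ≤ 1 by omega)).trans (dvd_refl 2)
    rw [hj]
    exact Nat.pow_dvd_pow 2 this
  refine ho.trans ?_
  have := Subgroup.orderOf_dvd_natCard M hcM
  rwa [Subgroup.orderOf_coe, he, MulEquiv.orderOf_eq] at this

end Cfsg.Agent.S0845
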