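import Cfsg.Statements.S0846
import Cfsg.Agent.Lib.Char.QuaternionSylow

set_option autoImplicit false
open Cfsg

namespace Cfsg.Agent.S0846

/-- Suppose a Sylow 2-subgroup S of the finite group G is generalized quaternion of order at least 16. Then every Sylow 2-subgroup of the subgroup generated by the involutions of G is cyclic. -/
theorem result {G : Type*} [Group G] [Finite G] (S : Sylow 2 G) (n : ℕ) (e : (S : Subgroup G) ≃* QuaternionGroup (2 ^ (n + 2))) (Q : Sylow 2 ↥(Subgroup.closure {g : G | orderOf g = 2})) : IsCyclic Q := by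
  haveI : NeZero (2 ^ (n + 2)) := ⟨by positivity⟩
  haveI : Fact (Nat.Prime 2) := ⟨Nat.prime_two⟩
  obtain ⟨M, hMn, hinv, -, h4⟩ := CfsgLib.Char.exists_normal_two_odd_of_quaternion S e
  have hle : Subgroup.closure {g : G | orderOf g = 2} ≤ M := (Subgroup.closure_le M).2 fun g hg => hinv g hg
  obtain ⟨k, hk⟩ := Q.isPGroup'.exists_card_eq
  have h1 : 2 ^ k ∣ Nat.card M :=
    hk ▸ (Subgroup.card_subgroup_dvd_card (Q : Subgroup _)).trans (Subgroup.card_dvd_of_le hle)
  have hk1 : k ≤ 1 := by
    by_contra hk1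
    exact h4 ((Nat.pow_dvd_pow 2 (show 2 ≤ k by omega)).trans h1)
  rcases Nat.le_one_iff_eq_zero_or_eq_one.1 hk1 with rfl | rfl
  · haveI : Subsingleton Q := (Nat.card_eq_one_iff_unique.1 (by simpa using hk)).1
    infer_instance
  · exact isCyclic_of_prime_card (p := 2) (by simpa using hk)

end Cfsg.Agent.S0846
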