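import Cfsg.Statements.S0857
import Cfsg.Agent.Lib.Char.ChiefFactor

set_option autoImplicit false
open Cfsg

namespace Cfsg.Agent.S0857

/-- Let L < K be normal subgroups of the finite group G with no normal subgroup of G strictly between them and with K / L abelian (the commutator subgroup of K lies in L). Let ϑ be an irreducible character of K invariant under conjugation by G. Then the restriction of ϑ to L is irreducible; or it equals e times an irreducible character of L with e ^ 2 equal to the index of L in K; or it is the sum of a family of pairwise distinct irreducible characters of L indexed by a set whose size is the index of L in K. -/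
theorem result {G : Type*} [Group G] [Fintype G] (K L : Subgroup G) [hK : K.Normal] [L.Normal] (hLK : L < K) (hchief : ∀ M : Subgroup G, M.Normal → L ≤ M → M ≤ K → M = L ∨ M = K) (hab : ⁅K, K⁆ ≤ L) (ϑ : K → ℂ) (hϑ : Cfsg.IsIrrCharacter K ϑ) (hinv : ∀ (g : G) (n : K), ϑ ⟨g * n * g⁻¹, hK.conj_mem (n : G) n.2 g⟩ = ϑ n) : Cfsg.IsIrrCharacter L (fun x : L => ϑ ⟨(x : G), hLK.le x.2⟩) ∨ (∃ (φ : L → ℂ) (e : ℕ), Cfsg.IsIrrCharacter L φ ∧ (fun x : L => ϑ ⟨(x : G), hLK.le x.2⟩) = (e : ℂ) • φ ∧ e ^ 2 = L.relIndex K) ∨ (∃ F : Finset (L → ℂ), (∀ φ ∈ F, Cfsg.IsIrrCharacter L φ) ∧ F.card = L.relIndex K ∧ (fun x : L => ϑ ⟨(x : G), hLK.le x.2⟩) = ∑ φ ∈ F, φ) := by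
  classical
  letI : Fintype K := Fintype.ofFinite _
  set Lk := L.subgroupOf K with hLk
  letI : Fintype Lk := Fintype.ofFinite _
  haveI : Lk.Normal := inferInstance
  have hidx : Lk.index = L.relIndex K := rfl
  let E : L ≃* Lk := (Subgroup.subgroupOfEquivOfLe hLK.le).symm
  have hE : ∀ x : L, ((E x : K) : G) = x := fun x => rfl
  have hirr : ∀ φ : Lk → ℂ, IsIrrCharacter Lk φ → IsIrrCharacter L (fun x => φ (E x)) := fun φ h =>
    CfsgLib.Char.isIrrCharacter_comp_surjective h E.toMonoidHom E.surjective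
  have hab' : ∀ a b : K, a * b * a⁻¹ * b⁻¹ ∈ Lk := fun a b =>
    hab (Subgroup.commutator_mem_commutator a.2 b.2)
  have key := CfsgLib.Char.ChiefFactor.restrict_trichotomy Lk hab'
    (Set.range fun g : G => (MulAut.conjNormal g : MulAut K)) ?_ ?_ hϑ ?_
  · rcases key with h | ⟨φ, e, hφ, he, he2⟩ | ⟨F, hF, hFc, hFs⟩
    · exact Or.inl (hirr _ h)
    · refine Or.inr (Or.inl ⟨fun x => φ (E x), e, hirr φ hφ, ?_, hidx ▸ he2⟩)
      funext x
      exact congrFun he (E x)
    · have hinj : Function.Injective (fun (φ : Lk → ℂ) (x : L) => φ (E x)) := fun φ ψ h => funext fun y => by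
        have := congrFun h (E.symm y)
        simpa using this
      refine Or.inr (Or.inr ⟨F.image (fun φ x => φ (E x)), ?_, ?_, ?_⟩)
      · intro φ hφ
        obtain ⟨ψ, hψ, rfl⟩ := Finset.mem_image.1 hφ
        exact hirr ψ (hF ψ hψ)
      · rw [Finset.card_image_of_injective _ hinj, hFc, hidx]
      · rw [Finset.sum_image fun a _ b _ h => hinj h]
        funext x
        have := congrFun hFs (E x)
        simp only [Finset.sum_apply] at this ⊢
        exact this
  · rintro _ ⟨g, rfl⟩ x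
    show (x : G) ∈ L ↔ g * x * g⁻¹ ∈ L
    exact ⟨fun h => Subgroup.Normal.conj_mem ‹_› _ h g, fun h => by
      simpa [mul_assoc] using Subgroup.Normal.conj_mem ‹_› _ h g⁻¹⟩
  · intro M hLM hM
    have hMn : (M.map K.subtype).Normal := ⟨by
      rintro _ ⟨m, hm, rfl⟩ g
      exact ⟨_, hM _ ⟨g, rfl⟩ m hm, rfl⟩⟩
    have hle : L ≤ M.map K.subtype := fun x hx => ⟨⟨x, hLK.le hx⟩, hLM hx, rfl⟩
    rcases hchief _ hMn hle (Subgroup.map_subtype_le M) with h | h
    · left
      rw [hLk, ← h, Subgroup.subgroupOf, Subgroup.comap_map_eq_self_of_injective K.subtype_injective]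
    · right
      refine eq_top_iff.2 fun x _ => ?_
      obtain ⟨y, hy, hyx⟩ : (x : G) ∈ M.map K.subtype := h.symm ▸ x.2
      exact Subtype.ext hyx ▸ hy
  · rintro _ ⟨g, rfl⟩ x
    exact hinv g x

end Cfsg.Agent.S0857
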