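import Cfsg.Statements.S0859
import Cfsg.Agent.Lib.Char.RelativeMonomial

set_option autoImplicit false
open Cfsg

namespace Cfsg.Agent.S0859

/-- Let G be a finite solvable group and N a normal subgroup such that for every prime p every Sylow p-subgroup of N is abelian. Suppose every irreducible character of G is induced from an irreducible character of some subgroup containing N whose restriction to N is irreducible. Then every irreducible character of G is induced from a character of degree 1 of some subgroup. -/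
theorem result {G : Type*} [Group G] [Fintype G] [Group.IsSolvable G] (N : Subgroup G) [N.Normal] (hab : ∀ (p : ℕ) [Fact p.Prime] (P : Sylow p N), ∀ a ∈ P, ∀ b ∈ P, a * b = b * a) (hrel : ∀ χ : G → ℂ, Cfsg.IsIrrCharacter G χ → ∃ (H : Subgroup G) (hNH : N ≤ H) (ψ : H → ℂ), Cfsg.IsIrrCharacter H ψ ∧ Cfsg.indFun H ψ = χ ∧ Cfsg.IsIrrCharacter N (fun n : N => ψ ⟨(n : G), hNH n.2⟩)) (χ : G → ℂ) (hχ : Cfsg.IsIrrCharacter G χ) : ∃ (U : Subgroup G) (lam : U → ℂ), Cfsg.IsCharacter U lam ∧ lam 1 = 1 ∧ Cfsg.indFun U lam = χ := by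
  classical
  obtain ⟨H, hNH, ψ, hψ, hind, hres⟩ := hrel χ hχ
  haveI := Fintype.ofFinite H
  let N' : Subgroup H := N.subgroupOf H
  let e : N' ≃* N := Subgroup.subgroupOfEquivOfLe hNH
  haveI : Group.IsSolvable N' := Group.isSolvable_of_isSolvable_injective (f := e.toMonoidHom) e.injective
  have hab' : ∀ (p : ℕ), p.Prime → ∀ S : Subgroup H, S ≤ N' → IsPGroup p S →
      ∀ a ∈ S, ∀ b ∈ S, a * b = b * a := by
    intro p hp S hS hSp a ha b hb
    haveI := Fact.mk hp
    obtain ⟨P, hP⟩ := IsPGroup.exists_le_sylow ((hSp.of_equiv (Subgroup.subgroupOfEquivOfLe hS).symm).map e.toMonoidHom)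
    have := hab p P (e ⟨a, hS ha⟩) (hP ⟨⟨a, hS ha⟩, ha, rfl⟩) (e ⟨b, hS hb⟩) (hP ⟨⟨b, hS hb⟩, hb, rfl⟩)
    rw [← map_mul, ← map_mul] at this
    exact congrArg (fun z : N' => (z : H)) (e.injective this)
  have hres' : Cfsg.IsIrrCharacter N' (fun x : N' => ψ x) :=
    CfsgLib.Char.isIrrCharacter_comp_surjective hres e.toMonoidHom e.surjective
  obtain ⟨U, lam, hU⟩ := CfsgLib.Char.RelativeMonomial.monomial_of_restrict_irr H N' hab' ψ hψ hres'
  refine ⟨U.map H.subtype, fun u => (lam ((CfsgLib.Char.mapSubtypeEquiv H U).symm u) : ℂ), ?_, ?_, ?_⟩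
  · exact CfsgLib.Char.isCharacter_of_isIrr (CfsgLib.Char.isIrrCharacter_lin
      (lam.comp (CfsgLib.Char.mapSubtypeEquiv H U).symm.toMonoidHom))
  · simp
  · rw [← hind, hU, CfsgLib.Char.indFun_map]

end Cfsg.Agent.S0859
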