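import Cfsg.Statements.S0862

import Cfsg.Agent.Lib.Char.ExtendCriteria

set_option autoImplicit false
open Cfsg

namespace Cfsg.Agent.S0862

/-- Let N be a normal subgroup of the finite group G and ϑ an irreducible character of N of degree d coprime to the index of N, which is the restriction of some irreducible character of G. Let μ be a character of G of degree 1 whose restriction to N is the determinantal character of ϑ. Then there is exactly one irreducible character χ of G restricting to ϑ whose determinantal character is μ. -/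
theorem result {G : Type*} [Group G] [Finite G] (N : Subgroup G) [N.Normal] (ϑ : N → ℂ) (hϑ : Cfsg.IsIrrCharacter N ϑ) (d : ℕ) (hd : ϑ 1 = d) (hcop : Nat.Coprime N.index d) (hext : ∃ η : G → ℂ, Cfsg.IsIrrCharacter G η ∧ (∀ n : N, η n = ϑ n)) (μ : G → ℂ) (hμ : Cfsg.IsCharacter G μ ∧ μ 1 = 1) (hμN : ∀ n : N, μ n = Cfsg.detChar ϑ n) : ∃! χ : G → ℂ, Cfsg.IsIrrCharacter G χ ∧ (∀ n : N, χ n = ϑ n) ∧ Cfsg.detChar χ = μ := by
  obtain ⟨m, ρ, hρ, rfl⟩ := hϑ
  rw [Representation.char_one, Module.finrank_fin_fun, Nat.cast_inj] at hd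
  subst hd
  obtain ⟨η, hη, hres⟩ := hext
  obtain ⟨σ, hσ, -⟩ :=
    CfsgLib.Char.exists_rep_extension_top N ρ (CfsgLib.Char.isCharacter_of_isIrr hη) hres
  obtain ⟨f, rfl⟩ := CfsgLib.Char.exists_hom_of_linear hμ.1 hμ.2
  have hf : f.comp N.subtype = CfsgLib.Char.detHom ρ := MonoidHom.ext fun n => Units.ext (by
    have h := hμN n
    rw [CfsgLib.Char.detChar_eq] at h
    exact h)
  obtain ⟨σ', hσ', hdet⟩ := CfsgLib.Char.exists_extension_with_det N ρ hcop hσ f hf
  refine ⟨σ'.character, ⟨CfsgLib.Char.isIrrCharacter_of_extends N ρ hσ',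
    fun n => congrArg (LinearMap.trace ℂ _) (hσ' n), ?_⟩, ?_⟩
  · rw [CfsgLib.Char.detChar_eq, hdet]
  · rintro χ ⟨hχ, hχN, hχd⟩
    obtain ⟨σ'', hσ'', rfl⟩ :=
      CfsgLib.Char.exists_rep_extension_top N ρ (CfsgLib.Char.isCharacter_of_isIrr hχ) hχN
    rw [CfsgLib.Char.extension_det_unique N ρ hcop hσ' hσ'' ?_]
    refine MonoidHom.ext fun g => Units.ext ?_
    rw [CfsgLib.Char.detChar_eq] at hχd
    rw [hdet]
    exact (congrFun hχd g).symm

end Cfsg.Agent.S0862
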