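import Cfsg.Statements.S0865

import Cfsg.Agent.Lib.Char.ExtendCriteria

set_option autoImplicit false
open Cfsg

namespace Cfsg.Agent.S0865

/-- Let N be a normal subgroup of the finite group G and λ a character of N of degree 1, invariant under conjugation by G, whose order (under pointwise multiplication) is coprime to the index of N. Then there is a character μ of G of degree 1 restricting to λ with the same order as λ, and μ is the only degree-1 character of G restricting to λ whose order is coprime to the index of N. -/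
theorem result {G : Type*} [Group G] [Finite G] (N : Subgroup G) [hN : N.Normal] (lam : N → ℂ) (hlam : Cfsg.IsCharacter N lam ∧ lam 1 = 1) (hinv : ∀ (g : G) (n : N), lam ⟨g * n * g⁻¹, hN.conj_mem (n : G) n.2 g⟩ = lam n) (hcop : Nat.Coprime N.index (orderOf lam)) : ∃ μ : G → ℂ, (Cfsg.IsCharacter G μ ∧ μ 1 = 1 ∧ (∀ n : N, μ n = lam n) ∧ orderOf μ = orderOf lam) ∧ ∀ μ' : G → ℂ, Cfsg.IsCharacter G μ' ∧ μ' 1 = 1 → (∀ n : N, μ' n = lam n) → Nat.Coprime N.index (orderOf μ') → μ' = μ := by
  obtain ⟨f, hf⟩ := CfsgLib.Char.exists_linear_ext N lam hlam hinv fun p hp h1 h2 =>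
    (hp.one_lt.ne' (Nat.dvd_one.mp (hcop.gcd_eq_one ▸ Nat.dvd_gcd h1 h2))).elim
  have ho : orderOf lam = orderOf (f.comp N.subtype) := by
    rw [← CfsgLib.Char.orderOf_fun_hom (f.comp N.subtype)]
    exact congrArg orderOf (funext fun n => (hf n).symm)
  obtain ⟨μ, hμN, hμo⟩ := CfsgLib.Char.exists_linear_extension_same_order N f (ho ▸ hcop)
  refine ⟨fun g => (μ g : ℂ), ⟨CfsgLib.Char.isCharacter_hom μ, by simp, fun n => ?_, ?_⟩, ?_⟩
  · rw [← hf n]
    exact congrArg Units.val (DFunLike.congr_fun hμN n)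
  · rw [CfsgLib.Char.orderOf_fun_hom, hμo, ho]
  · rintro μ' ⟨hc, h1⟩ hres hco
    obtain ⟨ν, rfl⟩ := CfsgLib.Char.exists_hom_of_linear hc h1
    rw [CfsgLib.Char.orderOf_fun_hom] at hco
    rw [CfsgLib.Char.linear_extension_unique N (μ := μ) (μ' := ν) ?_ ?_ hco]
    · rw [hμN]
      exact MonoidHom.ext fun n => Units.ext ((hf n).trans (hres n).symm)
    · rw [hμo, ← ho]
      exact hcop

end Cfsg.Agent.S0865
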