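import Cfsg.Statements.S0867

import Cfsg.Agent.Lib.Char.ExtendCriteria

set_option autoImplicit false
open Cfsg

namespace Cfsg.Agent.S0867

/-- Let N be a normal subgroup of the finite group G and ϑ an irreducible character of N of degree d, invariant under conjugation by G, such that the index of N is coprime to the product of d and the determinantal order of ϑ. Then there is an irreducible character χ of G restricting to ϑ whose determinantal order equals that of ϑ, and χ is the only irreducible character of G restricting to ϑ whose determinantal order is coprime to the index of N. -/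
theorem result {G : Type*} [Group G] [Finite G] (N : Subgroup G) [hN : N.Normal] (ϑ : N → ℂ) (hϑ : Cfsg.IsIrrCharacter N ϑ) (hinv : ∀ (g : G) (n : N), ϑ ⟨g * n * g⁻¹, hN.conj_mem (n : G) n.2 g⟩ = ϑ n) (d : ℕ) (hd : ϑ 1 = d) (hcop : Nat.Coprime N.index (Cfsg.detOrder ϑ * d)) : ∃ χ : G → ℂ, (Cfsg.IsIrrCharacter G χ ∧ (∀ n : N, χ n = ϑ n) ∧ Cfsg.detOrder χ = Cfsg.detOrder ϑ) ∧ ∀ χ' : G → ℂ, Cfsg.IsIrrCharacter G χ' → (∀ n : N, χ' n = ϑ n) → Nat.Coprime N.index (Cfsg.detOrder χ') → χ' = χ := by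
  obtain ⟨m, ρ, hρ, rfl⟩ := hϑ
  rw [Representation.char_one, Module.finrank_fin_fun, Nat.cast_inj] at hd
  subst hd
  have ho : Cfsg.detOrder ρ.character = orderOf (CfsgLib.Char.detHom ρ) := by
    rw [Cfsg.detOrder, CfsgLib.Char.detChar_eq, CfsgLib.Char.orderOf_fun_hom]
  rw [ho] at hcop ⊢
  obtain ⟨σ, hσ⟩ := CfsgLib.Char.extends_of_sylow N ρ hinv fun p hp h1 h2 =>
    (hp.one_lt.ne' (Nat.dvd_one.mp (hcop.gcd_eq_one ▸
      Nat.dvd_gcd h1 (by rwa [mul_comm] at h2)))).elim
  have hdetN := CfsgLib.Char.detHom_comp N ρ hσ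
  obtain ⟨μ, hμN, hμo⟩ := CfsgLib.Char.exists_linear_extension_same_order N (CfsgLib.Char.detHom σ)
    (hdetN ▸ hcop.coprime_mul_right_right)
  rw [hdetN] at hμN hμo
  obtain ⟨σ', hσ', hdet⟩ := CfsgLib.Char.exists_extension_with_det N ρ hcop.coprime_mul_left_right
    hσ μ hμN
  refine ⟨σ'.character, ⟨CfsgLib.Char.isIrrCharacter_of_extends N ρ hσ',
    fun n => congrArg (LinearMap.trace ℂ _) (hσ' n), ?_⟩, ?_⟩
  · rw [Cfsg.detOrder, CfsgLib.Char.detChar_eq, CfsgLib.Char.orderOf_fun_hom, hdet, hμo]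
  · intro χ' hχ' hres hco
    obtain ⟨σ'', hσ'', rfl⟩ :=
      CfsgLib.Char.exists_rep_extension_top N ρ (CfsgLib.Char.isCharacter_of_isIrr hχ') hres
    rw [Cfsg.detOrder, CfsgLib.Char.detChar_eq, CfsgLib.Char.orderOf_fun_hom] at hco
    rw [CfsgLib.Char.extension_det_unique N ρ hcop.coprime_mul_left_right hσ' hσ'' ?_]
    rw [hdet]
    refine (CfsgLib.Char.linear_extension_unique N (μ := μ) ?_ ?_ hco).symm
    · rw [hμN, CfsgLib.Char.detHom_comp N ρ hσ'']
    · rw [hμo]
      exact hcop.coprime_mul_right_right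

end Cfsg.Agent.S0867
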