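import Cfsg.Statements.S0876
import Cfsg.Agent.Lib.Block.RegularIndicator

set_option autoImplicit false
open Cfsg

namespace Cfsg.Agent.S0876

/-- Let G be a finite group, p a prime and M a maximal ideal of the ring of algebraic integers containing p. Let x, y be elements with p-parts a and b (so a⁻¹ * x and b⁻¹ * y are their p-regular parts). Then a⁻¹ * x and b⁻¹ * y are conjugate in G if and only if, for every irreducible character χ, the difference χ x - χ y lies in the local ideal at M. -/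
theorem result {G : Type*} [Group G] [Finite G] (p : ℕ) (M : Ideal Cfsg.AlgInt) (hM : Cfsg.IsPModular p M) (x y a b : G) (ha : Cfsg.IsPPart p x a) (hb : Cfsg.IsPPart p y b) : IsConj (a⁻¹ * x) (b⁻¹ * y) ↔ ∀ χ : Cfsg.IrrCharacter G, Cfsg.MemLocalIdeal M ((χ : G → ℂ) x - (χ : G → ℂ) y) := by
  classical
  haveI : M.IsMaximal := hM.2.1
  letI := Fintype.ofFinite G
  letI : Fintype (IrrCharacter G) := Fintype.ofFinite _
  obtain ⟨u, hu, hcu, ⟨k, hk⟩, hun⟩ := ha
  obtain ⟨v, hv, hcv, ⟨l, hl⟩, hvn⟩ := hb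
  have eu : a⁻¹ * x = u := by rw [← hu, inv_mul_cancel_left]
  have ev : b⁻¹ * y = v := by rw [← hv, inv_mul_cancel_left]
  rw [eu, ev]
  have hcong : ∀ χ : IrrCharacter G, CfsgLib.Block.res M (CfsgLib.Block.irrLoc M χ x) =
      CfsgLib.Block.res M (CfsgLib.Block.irrLoc M χ u) ∧
      CfsgLib.Block.res M (CfsgLib.Block.irrLoc M χ y) = CfsgLib.Block.res M (CfsgLib.Block.irrLoc M χ v) := by
    intro χ
    rw [← hu, ← hv]
    exact ⟨CfsgLib.Block.res_irr_regularPart hM χ hcu (k := k) (by rw [← hk, pow_orderOf_eq_one]),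
      CfsgLib.Block.res_irr_regularPart hM χ hcv (k := l) (by rw [← hl, pow_orderOf_eq_one])⟩
  constructor
  · intro h χ
    refine (CfsgLib.Block.memLocalIdeal_sub_iff (CfsgLib.Block.irrLoc M χ x) (CfsgLib.Block.irrLoc M χ y)).2 ?_
    rw [(hcong χ).1, (hcong χ).2]
    congr 1
    obtain ⟨c, hc⟩ := isConj_iff.1 h
    refine Subtype.ext ?_
    show (χ : G → ℂ) u = (χ : G → ℂ) v
    rw [← hc]
    exact (CfsgLib.Char.isClassFunction_of_isCharacter (CfsgLib.Char.isCharacter_irr χ) u c).symm
  · intro h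
    by_contra hc
    obtain ⟨α, hα⟩ := CfsgLib.Block.exists_regularIndicator hM hun
    have h1 := hα u hun
    have h2 := hα v hvn
    rw [if_pos (IsConj.refl u)] at h1
    rw [if_neg (fun e => hc e.symm)] at h2
    have e1 : ∑ χ : IrrCharacter G, α χ * CfsgLib.Block.irrLoc M χ u = 1 := Subtype.ext (by
      push_cast [CfsgLib.Block.coe_irrLoc]
      exact h1)
    have e2 : ∑ χ : IrrCharacter G, α χ * CfsgLib.Block.irrLoc M χ v = 0 := Subtype.ext (by
      push_cast [CfsgLib.Block.coe_irrLoc]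
      exact h2)
    have e3 := congrArg (CfsgLib.Block.res M) e1
    have e4 := congrArg (CfsgLib.Block.res M) e2
    simp only [map_sum, map_mul, map_one, map_zero] at e3 e4
    refine one_ne_zero (α := CfsgLib.Block.ResField M) ?_
    rw [← e3, ← e4]
    refine Finset.sum_congr rfl fun χ _ => ?_
    rw [← (hcong χ).1, ← (hcong χ).2]
    exact congrArg _ ((CfsgLib.Block.memLocalIdeal_sub_iff _ _).1 (h χ))

end Cfsg.Agent.S0876
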