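import Cfsg.Statements.S0880
import Cfsg.Agent.Lib.Char.ZassenhausCount

set_option autoImplicit false
open Cfsg

namespace Cfsg.Agent.S0880

/-- Let G be a finite simple Zassenhaus group on Ω with n points whose two-point stabilizer E has odd order less than n - 2. Then there are two elements of G, each fixing no point of Ω, that are not conjugate. -/
theorem result {G Ω : Type*} [Group G] [Finite G] [MulAction G Ω] [Fintype Ω] (hZ : Cfsg.IsZassenhausGroup G Ω) {a b : Ω} (hab : a ≠ b) [IsSimpleGroup G] (hodd : Odd (Nat.card ↥(MulAction.stabilizer G a ⊓ MulAction.stabilizer G b : Subgroup G))) (hlt : Nat.card ↥(MulAction.stabilizer G a ⊓ MulAction.stabilizer G b : Subgroup G) < Fintype.card Ω - 2) : ∃ x y : G, (∀ c : Ω, x • c ≠ c) ∧ (∀ c : Ω, y • c ≠ c) ∧ ¬ IsConj x y := by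
  classical
  have h3 := CfsgLib.Char.zassenhaus_three_le hZ
  have hcf := CfsgLib.Char.ZassenhausOdd.two_mul_card_fpf hZ hab
  have hG := CfsgLib.Char.ZassenhausOdd.card_group hZ hab
  have hne := CfsgLib.Char.ZassenhausOdd.pairStab_ne_bot hZ hab
  unfold CfsgLib.Char.ZassenhausOdd.pairStab at hcf hG hne
  have he2 : 1 < Nat.card ↥(MulAction.stabilizer G a ⊓ MulAction.stabilizer G b : Subgroup G) := by
    rwa [Subgroup.one_lt_card_iff_ne_bot]
  set N := Nat.card {g : G // ∀ c : Ω, g • c ≠ c} with hN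
  set e := Nat.card ↥(MulAction.stabilizer G a ⊓ MulAction.stabilizer G b : Subgroup G) with he
  obtain ⟨n, hn⟩ : ∃ n, Fintype.card Ω = n + 1 := ⟨_, (Nat.succ_pred_eq_of_pos (by omega)).symm⟩
  obtain ⟨r, hr⟩ := hodd
  rw [hn] at hcf hG hlt
  rw [hn] at h3
  simp only [Nat.add_sub_cancel] at hcf hG
  rw [hr] at hG
  have hN' : N = n * ((n + 1) * r + 1) := by
    rw [hG] at hcf
    have : 2 * N = 2 * (n * ((n + 1) * r + 1)) := by
      have e1 : (n + 1) * n * (2 * r + 1) + 2 * n = 2 * (n * ((n + 1) * r + 1)) + n * (n + 1) := by ring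
      omega
    omega
  by_contra hcon
  push Not at hcon
  obtain ⟨x, hx⟩ : Nonempty {g : G // ∀ c : Ω, g • c ≠ c} := by
    rw [← Finite.card_pos_iff, ← hN, hN']
    exact Nat.mul_pos (by omega) (Nat.succ_pos _)
  have hclass : N = (Subgroup.centralizer ({x} : Set G)).index := by
    rw [← CfsgLib.Char.card_isConj, hN]
    refine Nat.card_congr (Equiv.subtypeEquivRight fun g => ⟨fun hg => hcon x g hx hg, fun hg c hc => ?_⟩)
    obtain ⟨k, rfl⟩ := isConj_iff.1 hg
    refine hx (k⁻¹ • c) ?_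
    rwa [mul_smul, mul_smul, smul_eq_iff_eq_inv_smul] at hc
  have hdvd : N ∣ Nat.card G := hclass ▸ Subgroup.index_dvd_card _
  rw [hN', hG, show (n + 1) * n * (2 * r + 1) = n * ((n + 1) * (2 * r + 1)) by ring] at hdvd
  have h1 := Nat.dvd_of_mul_dvd_mul_left (by omega) hdvd
  have hcop : Nat.Coprime ((n + 1) * r + 1) (n + 1) := by
    simp [Nat.coprime_mul_left_add_left, mul_comm]
  have h2 := Nat.le_of_dvd (by omega) (hcop.dvd_of_dvd_mul_left h1)
  have h4 : n + 1 ≤ (n + 1) * r := Nat.le_mul_of_pos_right _ (by omega)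
  omega

end Cfsg.Agent.S0880
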