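import Cfsg.Statements.S0901
import Cfsg.Agent.Lib.Block.Local

set_option autoImplicit false
open Cfsg

namespace Cfsg.Agent.S0901

/-- Let M be a maximal ideal of the ring of algebraic integers containing the prime p, and let U be the set of complex roots of unity of order prime to p. Then reduction modulo M is injective on U, and every algebraic integer not in M is congruent modulo M to an element of U (so U maps bijectively onto the nonzero residues). -/
theorem result (p : ℕ) [Fact p.Prime] (M : Ideal Cfsg.AlgInt) (hM : Cfsg.IsPModular p M) : (∀ ε₁ ε₂ : Cfsg.AlgInt, (∃ m : ℕ, ¬ p ∣ m ∧ (ε₁ : ℂ) ^ m = 1) → (∃ m : ℕ, ¬ p ∣ m ∧ (ε₂ : ℂ) ^ m = 1) → ε₁ - ε₂ ∈ M → ε₁ = ε₂) ∧ (∀ a : Cfsg.AlgInt, a ∉ M → ∃ ε : Cfsg.AlgInt, (∃ m : ℕ, ¬ p ∣ m ∧ (ε : ℂ) ^ m = 1) ∧ a - ε ∈ M) := by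
  have := hM.2.1
  constructor
  · rintro ε₁ ε₂ ⟨m₁, hm₁, h₁⟩ ⟨m₂, hm₂, h₂⟩ h
    have hm : ¬ p ∣ m₁ * m₂ := fun hd => (hM.1.dvd_mul.mp hd).elim hm₁ hm₂
    have := CfsgLib.Block.res_rootOfUnity_injective hM hm
      (x := CfsgLib.Block.algToLoc M ε₁) (y := CfsgLib.Block.algToLoc M ε₂)
      (Subtype.ext (by push_cast; simp [pow_mul, h₁]))
      (Subtype.ext (by push_cast; simp [mul_comm m₁, pow_mul, h₂]))
      (by simp only [CfsgLib.Block.res_algToLoc]; exact Ideal.Quotient.eq.mpr h)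
    exact Subtype.ext (congrArg Subtype.val this :)
  · intro a ha
    obtain ⟨m, z, hm, hz, hres⟩ := CfsgLib.Block.exists_rootOfUnity_lift hM
      (x := Ideal.Quotient.mk M a) (fun h => ha (Ideal.Quotient.eq_zero_iff_mem.mp h))
    have hzC : (z : ℂ) ^ m = 1 := by simpa using congrArg Subtype.val hz
    have hint := CfsgLib.Block.isIntegral_of_pow_eq_one
      (n := m) (Nat.pos_of_ne_zero (fun h : m = 0 => hm (h ▸ dvd_zero p))) hzC
    refine ⟨CfsgLib.Block.toAlgInt hint, ⟨m, hm, by simpa using hzC⟩, ?_⟩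
    rw [← Ideal.Quotient.eq, ← hres, ← CfsgLib.Block.res_algToLoc]
    congr 1

end Cfsg.Agent.S0901
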