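import Cfsg.Statements.S0902
import Cfsg.Agent.Lib.Block.Okuyama
import Cfsg.Agent.Lib.Block.DefectFusion

/-!
# Blocks do not depend on the maximal ideal
-/

set_option autoImplicit false
open Cfsg

namespace Cfsg.Agent.S0902

open CfsgLib CfsgLib.Block
open scoped ComplexConjugate

/-- If two irreducible characters of a finite group lie in the same block relative to one maximal ideal M of the algebraic integers containing the prime p, then at every element the difference of their central characters is an algebraic integer lying in every maximal ideal containing p; in particular they lie in the same block relative to any such ideal. -/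
theorem result {G : Type*} [Group G] [Finite G] (p : ℕ) [Fact p.Prime] (M : Ideal Cfsg.AlgInt) (hM : Cfsg.IsPModular p M) (χ ψ : Cfsg.IrrCharacter G) (h : Cfsg.SameBlock M (χ : G → ℂ) (ψ : G → ℂ)) (M' : Ideal Cfsg.AlgInt) (hM' : Cfsg.IsPModular p M') (g : G) : ∃ r : Cfsg.AlgInt, r ∈ M' ∧ (r : ℂ) = Cfsg.centralChar (χ : G → ℂ) g - Cfsg.centralChar (ψ : G → ℂ) g := by
  classical
  have := hM.2.1
  have := hM'.2.1
  let _ := Fintype.ofFinite G
  let _ := Fintype.ofFinite (IrrCharacter G)
  let _ := Fintype.ofFinite (ConjClasses G)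
  set B := blockOf M (χ : G → ℂ) with hBdef
  have hB : IsPBlock M B := isPBlock_blockOf χ
  obtain ⟨χ₀, hχ₀, h0⟩ := exists_height_zero hM hB
  have hB0 : B = blockOf M (χ₀ : G → ℂ) := isPBlock_eq_of_mem hB (isPBlock_blockOf χ₀) hχ₀ (self_mem_blockOf χ₀)
  rw [hB0] at h0
  have key : ∀ η ∈ B, SameBlock M' (η : G → ℂ) (χ₀ : G → ℂ) := by
    intro η hη
    rw [hB0] at hη
    have hN := (mem_iff_regN_ne_zero hM h0 η).mp hη
    obtain ⟨R, hR, hRres⟩ := exists_regN_lift (p := p) (M := M) η χ₀
    by_contra hne
    have hz : regInner p η χ₀ = 0 := regInner_eq_zero_of_not_mem hM' (.of_isPBlock (isPBlock_blockOf η))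
      (self_mem_blockOf η) hne
    rw [hz, mul_zero, mul_eq_zero, or_iff_left (Char.irr_one_ne_zero η)] at hR
    exact hN (by rw [← hRres, show R = 0 from Subtype.ext hR, map_zero])
  have hs := sameBlock_trans (key χ (self_mem_blockOf χ)) (sameBlock_symm (key ψ h)) g
  obtain ⟨r, hr⟩ : ∃ r : AlgInt, (r : ℂ) = centralChar (χ : G → ℂ) g - centralChar (ψ : G → ℂ) g :=
    ⟨⟨_, (isIntegral_centralChar χ.2 g).sub (isIntegral_centralChar ψ.2 g)⟩, rfl⟩
  rw [← hr, memLocalIdeal_algInt] at hs
  exact ⟨r, hs, hr⟩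

end Cfsg.Agent.S0902
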