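import Cfsg.Statements.S0903
import Cfsg.Agent.Lib.Block.Defect
-- import your own Cfsg.Agent.* helpers here

set_option autoImplicit false
open Cfsg CfsgLib.Block

open Cfsg

namespace Cfsg.Agent.S0903

/-- Let P be a p-subgroup of the finite group G, let c centralize P and let g, h ∈ G. The number of pairs (x, y) with x conjugate to g, y conjugate to h and x * y = c is congruent modulo p to the number of such pairs in which x and y both centralize P. (This is why the Brauer map on class sums is multiplicative.) -/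
theorem result {G : Type*} [Group G] [Finite G] (p : ℕ) [Fact p.Prime] (P : Subgroup G) (hP : IsPGroup p P) (c : G) (hc : c ∈ Subgroup.centralizer (P : Set G)) (g h : G) : Nat.card {xy : G × G // IsConj g xy.1 ∧ IsConj h xy.2 ∧ xy.1 * xy.2 = c} ≡ Nat.card {xy : G × G // IsConj g xy.1 ∧ IsConj h xy.2 ∧ xy.1 * xy.2 = c ∧ xy.1 ∈ Subgroup.centralizer (P : Set G) ∧ xy.2 ∈ Subgroup.centralizer (P : Set G)} [MOD p] := by
  classical
  letI := Fintype.ofFinite G
  let X := {xy : G × G // IsConj g xy.1 ∧ IsConj h xy.2 ∧ xy.1 * xy.2 = c}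
  letI : MulAction P X :=
    { smul := fun u x => ⟨((u : G) * x.1.1 * (u : G)⁻¹, (u : G) * x.1.2 * (u : G)⁻¹),
        x.2.1.trans (isConj_iff.mpr ⟨u, rfl⟩), x.2.2.1.trans (isConj_iff.mpr ⟨u, rfl⟩), by
          rw [show (u : G) * x.1.1 * (u : G)⁻¹ * ((u : G) * x.1.2 * (u : G)⁻¹) =
            (u : G) * (x.1.1 * x.1.2) * (u : G)⁻¹ by group, x.2.2.2,
            Subgroup.mem_centralizer_iff.mp hc u u.2, mul_inv_cancel_right]⟩
      one_smul := fun x => Subtype.ext (Prod.ext (by show ((1 : P) : G) * _ * _ = _; simp)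
        (by show ((1 : P) : G) * _ * _ = _; simp))
      mul_smul := fun a b x => Subtype.ext (Prod.ext
        (by show ((a * b : P) : G) * _ * _ = (a : G) * ((b : G) * _ * _) * _; simp [mul_assoc])
        (by show ((a * b : P) : G) * _ * _ = (a : G) * ((b : G) * _ * _) * _; simp [mul_assoc])) }
  refine (hP.card_modEq_card_fixedPoints X).trans (congrArg (· % p) (Nat.card_congr ?_))
  refine
    { toFun := fun x => ⟨x.1.1, x.1.2.1, x.1.2.2.1, x.1.2.2.2, ?_, ?_⟩
      invFun := fun x => ⟨⟨x.1, x.2.1, x.2.2.1, x.2.2.2.1⟩, fun u => Subtype.ext (Prod.ext ?_ ?_)⟩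
      left_inv := fun _ => rfl
      right_inv := fun _ => rfl }
  · exact Subgroup.mem_centralizer_iff.mpr fun u hu => mul_inv_eq_iff_eq_mul.mp
      (congrArg (fun y : X => y.1.1) (x.2 ⟨u, hu⟩))
  · exact Subgroup.mem_centralizer_iff.mpr fun u hu => mul_inv_eq_iff_eq_mul.mp
      (congrArg (fun y : X => y.1.2) (x.2 ⟨u, hu⟩))
  · exact mul_inv_eq_iff_eq_mul.mpr (Subgroup.mem_centralizer_iff.mp x.2.2.2.2.1 u u.2)
  · exact mul_inv_eq_iff_eq_mul.mpr (Subgroup.mem_centralizer_iff.mp x.2.2.2.2.2 u u.2)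

end Cfsg.Agent.S0903
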