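import Cfsg.Statements.S0905
import Cfsg.Agent.Lib.Block.Nilpotent
import Cfsg.Agent.Lib.Coprime.Core
-- import your own Cfsg.Agent.* helpers here

set_option autoImplicit false
open Cfsg CfsgLib.Block

open Cfsg

namespace Cfsg.Agent.S0905

/-- Let F be a field of characteristic p and let g be an element of the finite group G no conjugate of which centralizes O_p(G). Then the class sum of g is a nilpotent element of the group algebra F[G]. -/
theorem result {G : Type*} [Group G] [Finite G] (p : ℕ) [Fact p.Prime] (F : Type*) [Field F] [CharP F p] (g : G) (hg : ∀ x : G, IsConj g x → x ∉ Subgroup.centralizer (Cfsg.pCore p G : Set G)) : IsNilpotent (∑ᶠ x ∈ ConjClasses.carrier (ConjClasses.mk g), MonoidAlgebra.single x (1 : F) : MonoidAlgebra F G) := by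
  classical
  letI := Fintype.ofFinite G
  have := CfsgLib.Coprime.pCore_normal' (G := G) p
  have hQ := CfsgLib.Coprime.pCore_isPGroup (G := G) p
  set Q := Cfsg.pCore p G with hQdef
  letI := Fintype.ofFinite Q
  set s : MonoidAlgebra F G :=
    ∑ᶠ x ∈ ConjClasses.carrier (ConjClasses.mk g), MonoidAlgebra.single x (1 : F) with hs
  have hcoeff : ∀ y, s.coeff y = if IsConj g y then 1 else 0 := fun y => by
    rw [hs, finsum_mem_eq_toFinset_sum, coeff_sum_apply]
    simp only [MonoidAlgebra.coeff_single, Finsupp.single_apply, Finset.sum_ite_eq']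
    refine if_congr ?_ rfl rfl
    rw [Set.mem_toFinset, ConjClasses.mem_carrier_iff_mk_eq, ConjClasses.mk_eq_mk_iff_isConj]
    exact ⟨IsConj.symm, IsConj.symm⟩
  refine exists_pow_eq_zero_of_cosetSums hQ fun x => ?_
  letI hact : MulAction Q Q :=
    { smul := fun u q => ⟨x⁻¹ * ((u : G) * (x * q) * (u : G)⁻¹), by
        have : x⁻¹ * ((u : G) * (x * q) * (u : G)⁻¹) = (x⁻¹ * u * x⁻¹⁻¹) * q * (u : G)⁻¹ := by group
        rw [this]
        exact Q.mul_mem (Q.mul_mem (Subgroup.Normal.conj_mem inferInstance _ u.2 _) q.2)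
          (Q.inv_mem u.2)⟩
      one_smul := fun q => Subtype.ext (by show x⁻¹ * _ = _; simp)
      mul_smul := fun a b q => Subtype.ext (by
        show x⁻¹ * _ = x⁻¹ * (_ * (x * (x⁻¹ * _)) * _)
        rw [mul_inv_cancel_left, Subgroup.coe_mul]
        group) }
  rw [sum_eq_sum_fixedPoints (p := p) (X := Q) hQ]
  · refine Finset.sum_eq_zero fun q hq => ?_
    have hfix := (Finset.mem_filter.mp hq).2
    rw [hcoeff, if_neg]
    intro hc
    refine hg _ hc (Subgroup.mem_centralizer_iff.mpr fun u hu => ?_)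
    have h1 : x⁻¹ * (u * (x * q) * u⁻¹) = q := congrArg Subtype.val (hfix ⟨u, hu⟩)
    rwa [inv_mul_eq_iff_eq_mul, mul_inv_eq_iff_eq_mul] at h1
  · intro u q
    rw [hcoeff, hcoeff]
    refine if_congr ?_ rfl rfl
    show IsConj g (x * (x⁻¹ * ((u : G) * (x * q) * (u : G)⁻¹))) ↔ _
    rw [mul_inv_cancel_left]
    have h : IsConj (x * (q : G)) ((u : G) * (x * q) * (u : G)⁻¹) := isConj_iff.mpr ⟨u, rfl⟩
    exact ⟨fun e => e.trans h.symm, fun e => e.trans h⟩

end Cfsg.Agent.S0905
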