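import Cfsg.Statements.S0911
import Cfsg.Agent.Lib.Block.Defect

set_option autoImplicit false
open Cfsg CfsgLib.Block

namespace Cfsg.Agent.S0911

/-- The min–max Theorem for defect classes. Let B be a block of the finite group G relative to a maximal ideal M of the algebraic integers containing the prime p, let g represent a defect class of B and let D be a Sylow p-subgroup of the centralizer of g (viewed in G). For any h: (a) if the idempotent coefficient of B at h is a local integer outside the local ideal, then some conjugate of D contains a Sylow p-subgroup of the centralizer of h; (b) if the central character of some member of B at h is outside the local ideal, then some conjugate of D is contained in a Sylow p-subgroup of the centralizer of h. -/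
theorem result {G : Type*} [Group G] [Finite G] (p : ℕ) [Fact p.Prime] (M : Ideal Cfsg.AlgInt) (hM : Cfsg.IsPModular p M) (B : Set (Cfsg.IrrCharacter G)) (hB : Cfsg.IsPBlock M B) (g : G) (hg : Cfsg.IsDefectClass M B g) (D : Sylow p (Subgroup.centralizer ({g} : Set G))) (h : G) : (Cfsg.MemLocalRing M (Cfsg.blockCoeff B h) → ¬ Cfsg.MemLocalIdeal M (Cfsg.blockCoeff B h) → ∃ (x : G) (Q : Sylow p (Subgroup.centralizer ({h} : Set G))), (Q : Subgroup (Subgroup.centralizer ({h} : Set G))).map (Subgroup.centralizer ({h} : Set G)).subtype ≤ ((D : Subgroup (Subgroup.centralizer ({g} : Set G))).map (Subgroup.centralizer ({g} : Set G)).subtype).map (MulAut.conj x).toMonoidHom) ∧ ((∃ χ ∈ B, ¬ Cfsg.MemLocalIdeal M (Cfsg.centralChar (χ : G → ℂ) h)) → ∃ (x : G) (Q : Sylow p (Subgroup.centralizer ({h} : Set G))), ((D : Subgroup (Subgroup.centralizer ({g} : Set G))).map (Subgroup.centralizer ({g} : Set G)).subtype).map (MulAut.conj x).toMonoidHom ≤ (Q : Subgroup (Subgroup.centralizer ({h} : Set G))).map (Subgroup.centralizer ({h} : Set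 G)).subtype) := by
  classical
  have := hM.2.1
  letI := Fintype.ofFinite G
  obtain ⟨hgc, hgω⟩ := (isDefectClass_iff hM hB).mp hg
  have hD := isSylowCent_map D
  obtain ⟨E, hE⟩ := exists_isSylowCent p h
  obtain ⟨Q, rfl⟩ := hE.exists_sylow
  obtain ⟨χ₀, hχ₀⟩ := isPBlock_nonempty hB
  refine ⟨fun hr hne => ?_, fun ⟨χ, hχ, hne⟩ => ?_⟩
  · have hc : coeffRes M B h ≠ 0 :=
      fun h0 => hne ((coeffRes_eq_zero_iff hM (IsBlockUnion.of_isPBlock hB) h).mp h0)
    obtain ⟨x, hx⟩ := conjLE_iff.mp (sylowCent_conjLE hM hB hc hχ₀ (hgω χ₀ hχ₀) hE hD)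
    exact ⟨x⁻¹, Q, fun u hu => ⟨_, hx u hu, by simp [mul_assoc]⟩⟩
  · obtain ⟨x, hx⟩ := sylowCent_conjLE hM hB hgc hχ (mt (centralRes_eq_zero_iff χ h).mp hne) hD hE
    exact ⟨x, Q, hx⟩

end Cfsg.Agent.S0911
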