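import Cfsg.Statements.S0916
import Cfsg.Agent.Lib.Block.MaxPairs
import Cfsg.Agent.Lib.Block.FirstMain
-- import your own Cfsg.Agent.* helpers here

set_option autoImplicit false
open Cfsg CfsgLib.Block

open Cfsg

namespace Cfsg.Agent.S0916

/-- Let P be a p-subgroup of the finite group G, C its centralizer and N its normalizer. Say that a conjugacy class (of G, or of N) has defect group P when P is a Sylow p-subgroup of the centralizer (in G, respectively in N) of some element of the class. Then: (i) if the class of g in G has defect group P, the elements of that class lying in C form a single N-class, again with defect group P; (ii) every N-class with defect group P arises this way from exactly one G-class with defect group P. -/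
theorem result {G : Type*} [Group G] [Finite G] (p : ℕ) [Fact p.Prime] (P : Subgroup G) (hP : IsPGroup p P) : (∀ g : G, (∃ S : Sylow p (Subgroup.centralizer ({g} : Set G)), (S : Subgroup (Subgroup.centralizer ({g} : Set G))).map (Subgroup.centralizer ({g} : Set G)).subtype = P) → (∃ c : G, IsConj g c ∧ c ∈ Subgroup.centralizer (P : Set G)) ∧ (∀ c₁ c₂ : G, IsConj g c₁ → IsConj g c₂ → c₁ ∈ Subgroup.centralizer (P : Set G) → c₂ ∈ Subgroup.centralizer (P : Set G) → ∃ n ∈ Subgroup.normalizer (P : Set G), n * c₁ * n⁻¹ = c₂)) ∧ (∀ c : G, c ∈ Subgroup.centralizer (P : Set G) → (∃ S : Sylow p (Subgroup.centralizer ({c} : Set G) ⊓ Subgroup.normalizer (P : Set G) : Subgroup G), (S : Subgroup ↥(Subgroup.centralizer ({c} : Set G) ⊓ Subgroup.normalizer (P : Set G))).map (Subgroup.centralizer ({c} : Set G) ⊓ Subgroup.normalizer (P : Set G)).subtype = P) → ∃ S : Sylow p (Subgroup.centralizer ({c} : Set G)), (S : Subgroup (Subgroup.centralizer ({c} : Set G))).map (Subgroup.centralizer ({c} : Set G)).subtype = P) := by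
  classical
  letI := Fintype.ofFinite G
  refine ⟨fun g hS => ?_, fun c hc hS => ?_⟩
  · obtain ⟨S, hSP⟩ := hS
    have hg : IsSylowCent p g P := hSP ▸ isSylowCent_map S
    refine ⟨⟨g, IsConj.refl g, Subgroup.mem_centralizer_iff.mpr fun u hu => (hg.commute u hu).eq⟩,
      fun c₁ c₂ h1 h2 hc1 hc2 => ?_⟩
    obtain ⟨n, hn, hne⟩ := exists_normalizer_conj_of_isSylowCent hg h1 hc1
    obtain ⟨m, hm, hme⟩ := exists_normalizer_conj_of_isSylowCent hg h2 hc2
    refine ⟨m * n⁻¹, mul_mem hm (inv_mem hn), ?_⟩
    rw [← hne, ← hme]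
    group
  · obtain ⟨S, hSP⟩ := hS
    have h : IsSylowCent p c P := isSylowCent_of_normalizer hP
      (fun u hu => Subgroup.mem_centralizer_iff.mp hc u hu) fun T hT hPT hTN hTc => ?_
    · obtain ⟨S', hS'⟩ := h.exists_sylow
      exact ⟨S', hS'.symm⟩
    · have hle : T ≤ Subgroup.centralizer ({c} : Set G) ⊓ Subgroup.normalizer (P : Set G) :=
        fun t ht => ⟨Subgroup.mem_centralizer_singleton_iff.mpr (hTc t ht).eq, hTN ht⟩
      have hST : (S : Subgroup ↥(Subgroup.centralizer ({c} : Set G) ⊓ Subgroup.normalizer (P : Set G))) ≤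
          T.subgroupOf _ := fun s hs => Subgroup.mem_subgroupOf.mpr (hPT (le_of_eq hSP
          (Subgroup.mem_map_of_mem (Subgroup.centralizer ({c} : Set G) ⊓
            Subgroup.normalizer (P : Set G)).subtype hs)))
      have heq := S.is_maximal' (hT.of_equiv (Subgroup.subgroupOfEquivOfLe hle).symm) hST
      rw [← hSP, ← heq, Subgroup.map_subgroupOf_eq_of_le hle]

end Cfsg.Agent.S0916
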