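import Cfsg.Statements.S0923
import Cfsg.Agent.Lib.Block.SecondMain
import Cfsg.Agent.Lib.Block.Principal
-- import your own Cfsg.Agent.* helpers here

set_option autoImplicit false
open Cfsg CfsgLib.Block

namespace Cfsg.Agent.S0923

/-- Brauer's Second Main Theorem, in terms of ordinary characters. Let x be a p-element of the finite group G with centralizer C, let χ lie in the block B of G and let b be a block of C that does not induce B (relative to a maximal ideal M of the algebraic integers containing p). Form the class function ϑ(c) = χ(x c) on C and its b-part (the sum over ψ ∈ b of the inner product of ϑ with ψ, times ψ). Then the b-part of ϑ vanishes at every p-regular element of C. (Equivalently, the generalized decomposition numbers of χ with respect to b are zero.) -/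
theorem result {G : Type*} [Group G] [Finite G] (p : ℕ) [Fact p.Prime] (M : Ideal Cfsg.AlgInt) (hM : Cfsg.IsPModular p M) (x : G) (hx : ∃ k : ℕ, orderOf x = p ^ k) (B : Set (Cfsg.IrrCharacter G)) (hB : Cfsg.IsPBlock M B) (χ : Cfsg.IrrCharacter G) (hχ : χ ∈ B) (b : Set (Cfsg.IrrCharacter (Subgroup.centralizer ({x} : Set G)))) (hb : Cfsg.IsPBlock M b) (hnot : ¬ Cfsg.IsInducedBlock M (Subgroup.centralizer ({x} : Set G)) b B) (y : Subgroup.centralizer ({x} : Set G)) (hy : ¬ p ∣ orderOf y) : Cfsg.blockPart b (fun c : Subgroup.centralizer ({x} : Set G) => (χ : G → ℂ) (x * (c : G))) y = 0 := by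
  classical
  have := hM.2.1
  letI := Fintype.ofFinite G
  letI := Fintype.ofFinite (Subgroup.centralizer ({x} : Set G))
  obtain ⟨k, hk⟩ := hx
  have hP : IsPGroup p (Subgroup.zpowers x) := IsPGroup.of_card (n := k) (by
    rw [Nat.card_zpowers, hk])
  have hCP : Subgroup.centralizer (Subgroup.zpowers x : Set G) = Subgroup.centralizer ({x} : Set G) := by
    rw [Subgroup.zpowers_eq_closure, Subgroup.centralizer_closure]
  have hPH : Subgroup.zpowers x ≤ Subgroup.centralizer ({x} : Set G) := by
    rw [Subgroup.zpowers_le, Subgroup.mem_centralizer_singleton_iff]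
  have hN : Subgroup.centralizer ({x} : Set G) ≤ Subgroup.normalizer (Subgroup.zpowers x : Set G) :=
    hCP ▸ Subgroup.centralizer_le_normalizer _
  obtain ⟨B1, hB1⟩ := exists_inducedBlock hP hCP.le hN hM hPH hb
  have hne : χ ∉ B1 := fun h => hnot (by rwa [isPBlock_eq_of_mem hB hB1.2.1 hχ h])
  have hxy : Commute x (y : G) := (Subgroup.mem_centralizer_singleton_iff.mp y.2).symm
  have hmem : x * (y : G) ∈ Subgroup.centralizer ({x} : Set G) := by
    rw [Subgroup.mem_centralizer_singleton_iff, mul_assoc, hxy.eq]
  have h0 := second_main_theorem hM hB1 (h := ⟨x * (y : G), hmem⟩)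
    (z := x) ⟨(y : G), rfl, hxy, ⟨k, hk⟩, by rwa [Subgroup.orderOf_coe]⟩
    (fun t ht => Subgroup.mem_centralizer_singleton_iff.mpr ht.eq) hne
  rw [blockPart_eq_sum b (f := fun c : Subgroup.centralizer ({x} : Set G) => (χ : G → ℂ) (x * (c : G))) (fun a v => ?_) y, ← h0]
  · refine Finset.sum_congr rfl fun t _ => ?_
    have ht : Commute x (t : G) := (Subgroup.mem_centralizer_singleton_iff.mp t.2).symm
    simp only [Subgroup.coe_mul, ← mul_assoc, ht.eq]
  · have hv : Commute x (v : G) := (Subgroup.mem_centralizer_singleton_iff.mp v.2).symm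
    simp only [Subgroup.coe_mul, Subgroup.coe_inv]
    rw [show x * ((v : G) * a * (v : G)⁻¹) = (v : G) * (x * a) * (v : G)⁻¹ by
      simp only [← mul_assoc, hv.eq], CfsgLib.Char.isClassFunction_irr χ]


end Cfsg.Agent.S0923
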