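import Cfsg.Statements.S0926
import Cfsg.Agent.Lib.Block.Sections

set_option autoImplicit false
open Cfsg CfsgLib.Block

namespace Cfsg.Agent.S0926

/-- Let B be a block of the finite group G with defect group D (relative to a maximal ideal M of the algebraic integers containing p), let χ ∈ B have height zero, and let x be a p-element. Then some conjugate of x lies in D if and only if χ does not vanish on the whole p-section of x (the elements whose p-part is conjugate to x). -/
theorem result {G : Type*} [Group G] [Finite G] (p : ℕ) [Fact p.Prime] (M : Ideal Cfsg.AlgInt) (hM : Cfsg.IsPModular p M) (B : Set (Cfsg.IrrCharacter G)) (hB : Cfsg.IsPBlock M B) (D : Subgroup G) (hD : Cfsg.IsDefectGroup p M B D) (χ : Cfsg.IrrCharacter G) (hχ : χ ∈ B) (h0 : Cfsg.blockHeight p B (χ : G → ℂ) = 0) (x : G) (hx : ∃ k : ℕ, orderOf x = p ^ k) : (∃ g : G, g * x * g⁻¹ ∈ D) ↔ ∃ u : G, (∃ z : G, Cfsg.IsPPart p u z ∧ IsConj x z) ∧ (χ : G → ℂ) u ≠ 0 := by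
  classical
  have := hM.2.1
  letI := Fintype.ofFinite G
  constructor
  · rintro ⟨c, hc⟩
    obtain ⟨g, hg, hgc, hgω⟩ := exists_isSylowCent_of_isDefectGroup hM hB hD
    have hu := hg.commute _ hc
    obtain ⟨k, hk⟩ := hx
    have hk' : orderOf (c * x * c⁻¹) = p ^ k := by
      rw [← hk]; exact MulEquiv.orderOf_eq (MulAut.conj c) x
    refine ⟨c * x * c⁻¹ * g, ⟨_, ⟨g, rfl, hu, ⟨k, hk'⟩,
      regular_of_coeffRes_ne_zero hM (.of_isPBlock hB) hgc⟩, isConj_iff.mpr ⟨c, rfl⟩⟩, fun h => ?_⟩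
    refine res_irr_ne_zero_of_height_zero hM hB hgc hgω hχ h0 hu (k := k)
      (by rw [← hk', pow_orderOf_eq_one]) ?_
    rw [show irrLoc M χ (c * x * c⁻¹ * g) = 0 from Subtype.ext h, map_zero]
  · rintro ⟨u, ⟨z, hz, hxz⟩, hne⟩
    by_contra hno
    push Not at hno
    obtain ⟨c₀, rfl⟩ := isConj_iff.mp hxz
    refine hne (irr_eq_zero_of_not_mem_defect hM hB hD hz (fun c hc => hno (c * c₀) ?_) hχ)
    simpa [mul_assoc] using hc

end Cfsg.Agent.S0926
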