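import Cfsg.Statements.S0927
import Cfsg.Agent.Lib.Block.Defect

set_option autoImplicit false
open Cfsg CfsgLib.Block

namespace Cfsg.Agent.S0927

/-- Let B be a block of the finite group G relative to a maximal ideal M of the algebraic integers containing p, let y represent a defect class of B and let P be a Sylow p-subgroup of the centralizer of y. (a) If x ∈ P and χ ∈ B has height zero, then χ (x * y) is not in the local ideal at M. (b) If x lies in the centre of P, then for every χ ∈ B the central character of χ at x * y is not in the local ideal at M. -/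
theorem result {G : Type*} [Group G] [Finite G] (p : ℕ) [Fact p.Prime] (M : Ideal Cfsg.AlgInt) (hM : Cfsg.IsPModular p M) (B : Set (Cfsg.IrrCharacter G)) (hB : Cfsg.IsPBlock M B) (y : G) (hy : Cfsg.IsDefectClass M B y) (P : Sylow p (Subgroup.centralizer ({y} : Set G))) (x : Subgroup.centralizer ({y} : Set G)) (hx : x ∈ (P : Subgroup (Subgroup.centralizer ({y} : Set G)))) : (∀ χ ∈ B, Cfsg.blockHeight p B (χ : G → ℂ) = 0 → ¬ Cfsg.MemLocalIdeal M ((χ : G → ℂ) ((x : G) * y))) ∧ ((∀ w ∈ (P : Subgroup (Subgroup.centralizer ({y} : Set G))), x * w = w * x) → ∀ χ ∈ B, ¬ Cfsg.MemLocalIdeal M (Cfsg.centralChar (χ : G → ℂ) ((x : G) * y))) := by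
  classical
  have := hM.2.1
  letI := Fintype.ofFinite G
  obtain ⟨hyc, hyω⟩ := (isDefectClass_iff hM hB).mp hy
  have hS := IsBlockUnion.of_isPBlock hB
  have hD := isSylowCent_map P
  have hreg := regular_of_coeffRes_ne_zero hM hS hyc
  have hxy : Commute (x : G) y := Subgroup.mem_centralizer_singleton_iff.mp x.2
  obtain ⟨k, hk⟩ := P.2 ⟨x, hx⟩
  have hxk : (x : G) ^ p ^ k = 1 := by
    have h1 := congrArg Subtype.val (congrArg Subtype.val hk)
    simpa using h1
  have hmin := isLeast_degVal hM hB hyc hyω
  have hpt : ∀ χ ∈ B, blockHeight p B (χ : G → ℂ) = 0 →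
      res M (irrLoc M χ y) ≠ 0 ∧ degVal p χ = (Subgroup.centralizer ({y} : Set G)).index.factorization p := by
    intro χ hχ h0
    have hdeg : degVal p χ = (Subgroup.centralizer ({y} : Set G)).index.factorization p := by
      have h1 := hmin.2 ⟨χ, hχ, rfl⟩
      rw [blockHeight, hmin.csInf_eq] at h0
      simp only [degVal] at *
      omega
    refine ⟨fun h => ?_, hdeg⟩
    -- the central character is a unit, so is the value
    have hω := hyω χ hχ
    apply hω
    rw [centralRes_eq_zero_iff]
    have hi : ((Subgroup.centralizer ({y} : Set G)).index : ℂ) / (charDegree (χ : G → ℂ) : ℂ) ∈ locRing M := by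
      obtain ⟨hd, hd0⟩ := charDegree_eq χ
      set i := (Subgroup.centralizer ({y} : Set G)).index
      set d := charDegree (χ : G → ℂ)
      have e1 : (d : ℂ) = (p : ℂ) ^ d.factorization p * (ordCompl[p] d : ℕ) := by
        exact_mod_cast (Nat.ordProj_mul_ordCompl_eq_self d p).symm
      have e2 : (i : ℂ) = (p : ℂ) ^ i.factorization p * (ordCompl[p] i : ℕ) := by
        exact_mod_cast (Nat.ordProj_mul_ordCompl_eq_self i p).symm
      have hp0 : (p : ℂ) ≠ 0 := Nat.cast_ne_zero.mpr hM.1.ne_zero
      have hnd := Nat.not_dvd_ordCompl hM.1 hd0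
      have hdeg' : d.factorization p = i.factorization p := hdeg
      generalize ordCompl[p] d = d' at e1 hnd
      generalize ordCompl[p] i = i' at e2
      rw [e1, e2, hdeg', mul_div_mul_left _ _ (pow_ne_zero _ hp0), div_eq_mul_inv]
      exact Subring.mul_mem _ (natCast_mem _ _) (inv_natCast_mem hM hnd)
    rw [centralChar, (charDegree_eq χ).1, mul_div_right_comm]
    refine memLocalIdeal_iff.mpr ⟨Subring.mul_mem _ hi (irr_mem_locRing M χ y), ?_⟩
    rw [show (⟨_, Subring.mul_mem _ hi (irr_mem_locRing M χ y)⟩ : locRing M) =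
      ⟨_, hi⟩ * irrLoc M χ y from rfl, map_mul, h, mul_zero]
  refine ⟨fun χ hχ h0 hmem => (hpt χ hχ h0).1 ?_, fun hxP χ hχ hmem => ?_⟩
  · rw [← res_irr_regularPart hM χ hxy hxk, ← memLocalIdeal_coe, coe_irrLoc]
    exact hmem
  · -- a height zero character
    obtain ⟨χ₀, hχ₀, hv⟩ := hmin.1
    have h0 : blockHeight p B (χ₀ : G → ℂ) = 0 := by
      rw [blockHeight, hmin.csInf_eq]
      exact Nat.sub_eq_zero_of_le hv.le
    obtain ⟨hne, hdeg⟩ := hpt χ₀ hχ₀ h0
    have hres : res M (irrLoc M χ₀ ((x : G) * y)) ≠ 0 := by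
      rw [res_irr_regularPart hM χ₀ hxy hxk]; exact hne
    -- the Sylow subgroup of `C(y)` centralizes `x * y`
    set D := (P : Subgroup (Subgroup.centralizer ({y} : Set G))).map
      (Subgroup.centralizer ({y} : Set G)).subtype with hDdef
    have hDxy : D ≤ Subgroup.centralizer ({(x : G) * y} : Set G) := by
      rintro _ ⟨w, hw, rfl⟩
      rw [Subgroup.mem_centralizer_singleton_iff]
      have h1 : Commute (w : G) (x : G) :=
        (congrArg (fun z : Subgroup.centralizer ({y} : Set G) => (z : G)) (hxP w hw)).symm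
      exact (h1.mul_right (Subgroup.mem_centralizer_singleton_iff.mp w.2)).eq
    have hidx : (Subgroup.centralizer ({(x : G) * y} : Set G)).index.factorization p ≤
        (Subgroup.centralizer ({y} : Set G)).index.factorization p := by
      have h1 := Subgroup.card_dvd_of_le hDxy
      rw [hD.card_eq, hM.1.pow_dvd_iff_le_factorization Nat.card_pos.ne'] at h1
      have e := fun g : G => congrArg (fun n => n.factorization p)
        (Subgroup.index_mul_card (Subgroup.centralizer ({g} : Set G)))
      have e1 := e ((x : G) * y)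
      have e2 := e y
      simp only [Nat.factorization_mul Subgroup.index_ne_zero_of_finite Nat.card_pos.ne',
        Finsupp.add_apply] at e1 e2
      omega
    have hsame : centralRes M χ₀ ((x : G) * y) = 0 := by
      rw [centralRes_eq_of_mem hB hχ₀ hχ, centralRes_eq_zero_iff]; exact hmem
    apply hres
    have hid : (χ₀ : G → ℂ) ((x : G) * y) = (charDegree (χ₀ : G → ℂ) : ℂ) /
        ((Subgroup.centralizer ({(x : G) * y} : Set G)).index : ℂ) *
          centralChar (χ₀ : G → ℂ) ((x : G) * y) := by
      obtain ⟨hd, hd0⟩ := charDegree_eq χ₀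
      have : ((Subgroup.centralizer ({(x : G) * y} : Set G)).index : ℂ) ≠ 0 :=
        Nat.cast_ne_zero.mpr Subgroup.index_ne_zero_of_finite
      have := CfsgLib.Char.irr_one_ne_zero χ₀
      rw [centralChar, ← hd]
      field_simp
    set d := charDegree (χ₀ : G → ℂ) with hd
    set i := (Subgroup.centralizer ({(x : G) * y} : Set G)).index with hi
    have hp0 : (p : ℂ) ≠ 0 := Nat.cast_ne_zero.mpr hM.1.ne_zero
    have hle : i.factorization p ≤ d.factorization p := le_of_le_of_eq hidx hdeg.symm
    obtain ⟨e, he⟩ := Nat.exists_eq_add_of_le hle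
    have hloc : (d : ℂ) / (i : ℂ) ∈ locRing M := by
      have e1 : (d : ℂ) = (p : ℂ) ^ d.factorization p * (ordCompl[p] d : ℕ) := by
        exact_mod_cast (Nat.ordProj_mul_ordCompl_eq_self d p).symm
      have e2 : (i : ℂ) = (p : ℂ) ^ i.factorization p * (ordCompl[p] i : ℕ) := by
        exact_mod_cast (Nat.ordProj_mul_ordCompl_eq_self i p).symm
      have hnd := Nat.not_dvd_ordCompl hM.1 (show i ≠ 0 from Subgroup.index_ne_zero_of_finite)
      generalize ordCompl[p] d = d' at e1
      generalize ordCompl[p] i = i' at e2 hnd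
      rw [e1, e2, he, pow_add, mul_assoc, mul_div_mul_left _ _ (pow_ne_zero _ hp0), div_eq_mul_inv]
      exact Subring.mul_mem _ (Subring.mul_mem _ (Subring.pow_mem _ (natCast_mem _ _) _) (natCast_mem _ _))
        (inv_natCast_mem hM hnd)
    rw [show irrLoc M χ₀ ((x : G) * y) = ⟨_, hloc⟩ * ⟨_, centralChar_mem χ₀ ((x : G) * y)⟩ from
      Subtype.ext hid, map_mul]
    show _ * centralRes M χ₀ _ = 0
    rw [hsame, mul_zero]

end Cfsg.Agent.S0927
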