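import Cfsg.Statements.S0928
import Cfsg.Agent.Lib.Block.Knorr
-- import your own Cfsg.Agent.* helpers here

set_option autoImplicit false
open Cfsg CfsgLib.Block

open Cfsg

namespace Cfsg.Agent.S0928

/-- Let χ be an irreducible character of the finite group G and p a prime. If χ g = 0 for every element g of order p, then the exponent of p in the degree χ(1) equals the exponent of p in the order of G (χ has p-defect zero). -/
theorem result {G : Type*} [Group G] [Finite G] (p : ℕ) [Fact p.Prime] (χ : Cfsg.IrrCharacter G) (hvan : ∀ g : G, orderOf g = p → (χ : G → ℂ) g = 0) : (Cfsg.charDegree (χ : G → ℂ)).factorization p = (Nat.card G).factorization p := by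
  classical
  obtain ⟨M, hM⟩ := exists_pModular (Fact.out : p.Prime)
  have := hM.2.1
  letI := Fintype.ofFinite G
  have := Fintype.ofFinite (IrrCharacter G)
  have hd := blockDefect_eq_zero_of_vanishes hM (isPBlock_blockOf (M := M) χ) (self_mem_blockOf χ) hvan
  have h1 := minDeg_le (p := p) (self_mem_blockOf (M := M) χ)
  have h2 := degVal_le_card (p := p) χ
  have h3 : (Nat.card G).factorization p - minDeg p (blockOf M (χ : G → ℂ)) = 0 := hd
  show degVal p χ = _
  omega

end Cfsg.Agent.S0928
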