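import Cfsg.Statements.S0933
import Cfsg.Agent.Lib.Block.InducedChar
-- import your own Cfsg.Agent.* helpers here

set_option autoImplicit false
open Cfsg CfsgLib.Block

open Cfsg

namespace Cfsg.Agent.S0933

/-- Let H be a subgroup of the finite group G and ξ an irreducible character of H such that the induced function ξ^G is an irreducible character of G. Then, relative to any maximal ideal M of the algebraic integers containing the prime p, the block of ξ induces the block of ξ^G. -/
theorem result {G : Type*} [Group G] [Fintype G] (p : ℕ) [Fact p.Prime] (M : Ideal Cfsg.AlgInt) (hM : Cfsg.IsPModular p M) (H : Subgroup G) (ξ : Cfsg.IrrCharacter H) (hind : Cfsg.IsIrrCharacter G (Cfsg.indFun H (ξ : H → ℂ))) : Cfsg.IsInducedBlock M H (Cfsg.blockOf M (ξ : H → ℂ)) (Cfsg.blockOf M (Cfsg.indFun H (ξ : H → ℂ))) := by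
  classical
  have := hM.2.1
  refine isInducedBlock_blockOf (χ := (⟨_, hind⟩ : IrrCharacter G)) fun z => ?_
  have := Fintype.ofFinite (ConjClasses G)
  rw [zk_eq_sum z, map_sum, map_sum, map_sum]
  refine Finset.sum_congr rfl fun C _ => ?_
  rw [map_smul, omegaBar_smul, omegaBar_smul]
  congr 1
  refine (memLocalIdeal_induced_iff ξ (⟨_, hind⟩ : IrrCharacter G) _).mp ?_
  rw [inducedCentralChar_eq_centralChar_indFun H (CfsgLib.Char.irr_one_ne_zero ξ), sub_self]
  exact memLocalIdeal_iff.mpr ⟨zero_mem _, map_zero _⟩

end Cfsg.Agent.S0933
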