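import Cfsg.Statements.S0934
import Cfsg.Agent.Lib.Block.InducedDegree
-- import your own Cfsg.Agent.* helpers here

set_option autoImplicit false
open Cfsg CfsgLib.Block

open Cfsg

namespace Cfsg.Agent.S0934

/-- Let H be a subgroup of the finite group G and fix a maximal ideal M of the algebraic integers containing the prime p. If the block b of H induces the block B of G and ξ ∈ b, then there is χ ∈ B whose restriction to H has nonzero inner product with ξ. -/
theorem result {G : Type*} [Group G] [Fintype G] (p : ℕ) [Fact p.Prime] (M : Ideal Cfsg.AlgInt) (hM : Cfsg.IsPModular p M) (H : Subgroup G) [Fintype H] (b : Set (Cfsg.IrrCharacter H)) (B : Set (Cfsg.IrrCharacter G)) (hind : Cfsg.IsInducedBlock M H b B) (ξ : Cfsg.IrrCharacter H) (hξ : ξ ∈ b) : ∃ χ ∈ B, Cfsg.classInner (fun h : H => (χ : G → ℂ) h) (ξ : H → ℂ) ≠ 0 := by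
  classical
  have := hM.2.1
  by_contra hall
  push Not at hall
  have h := blockPart_indFun_one hM hind.2.1 ξ
  have h0 : blockPart B (indFun H (ξ : H → ℂ)) 1 = 0 := by
    rw [blockPart]
    refine finsum_mem_eq_zero_of_forall_eq_zero fun χ hχ => ?_
    have hz : classInner (indFun H (ξ : H → ℂ)) (χ : G → ℂ) = 0 := by
      rw [CfsgLib.Char.classInner_indFun H _ _ (CfsgLib.Char.isClassFunction_irr χ),
        ← CfsgLib.Char.classInner_conj, hall χ hχ, map_zero]
    convert zero_mul ((χ : G → ℂ) 1)
    convert hz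
  rw [h0, CfsgLib.Char.indFun_one, eq_comm, mul_eq_zero] at h
  rcases h with h | h
  · exact mul_ne_zero (Nat.cast_ne_zero.mpr Subgroup.FiniteIndex.index_ne_zero)
      (CfsgLib.Char.irr_one_ne_zero ξ) h
  · have hres := res_omegaLoc_resHL hM hind hind.2.1 hξ
    rw [show omegaLoc M ξ (resHL M H (blockIdem M B)) = 0 from Subtype.ext h, map_zero, if_pos rfl]
      at hres
    exact zero_ne_one hres

end Cfsg.Agent.S0934
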