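import Cfsg.Statements.S0935
import Cfsg.Agent.Lib.Block.Okuyama
-- import your own Cfsg.Agent.* helpers here

set_option autoImplicit false
open Cfsg CfsgLib.Block

open Cfsg

namespace Cfsg.Agent.S0935

/-- Let H be a subgroup of the finite group G and χ an irreducible character of G whose restriction to H is irreducible; fix a maximal ideal M of the algebraic integers containing the prime p and suppose χ and its restriction have height zero in their blocks B and b. If e is a block of H whose induced block is defined, then e induces B if and only if e = b. -/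
theorem result {G : Type*} [Group G] [Finite G] (p : ℕ) [Fact p.Prime] (M : Ideal Cfsg.AlgInt) (hM : Cfsg.IsPModular p M) (H : Subgroup G) (χ : Cfsg.IrrCharacter G) (hres : Cfsg.IsIrrCharacter H (fun h : H => (χ : G → ℂ) h)) (hχ0 : Cfsg.blockHeight p (Cfsg.blockOf M (χ : G → ℂ)) (χ : G → ℂ) = 0) (hψ0 : Cfsg.blockHeight p (Cfsg.blockOf M (fun h : H => (χ : G → ℂ) h)) (fun h : H => (χ : G → ℂ) h) = 0) (e : Set (Cfsg.IrrCharacter H)) (he : Cfsg.InducedBlockDefined M H e) : Cfsg.IsInducedBlock M H e (Cfsg.blockOf M (χ : G → ℂ)) ↔ e = Cfsg.blockOf M (fun h : H => (χ : G → ℂ) h) := by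
  classical
  have := hM.2.1
  letI := Fintype.ofFinite G
  have := Fintype.ofFinite (IrrCharacter G)
  have := Fintype.ofFinite (IrrCharacter H)
  have := Fintype.ofFinite (ConjClasses G)
  have := Fintype.ofFinite (ConjClasses H)
  let ψ : IrrCharacter H := ⟨_, hres⟩
  have heb : IsPBlock M e := he.choose_spec.1
  obtain ⟨B', hB'⟩ := he
  obtain ⟨-, hBp, hω⟩ := isInducedBlock_iff.mp hB'
  obtain ⟨φ, hφ⟩ := isPBlock_nonempty heb
  obtain ⟨η, hη⟩ := isPBlock_nonempty hBp
  have key : regN p M φ ψ = regN p M η χ := by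
    rw [← omegaBar_regZ, ← omegaBar_regZ, ← hω φ hφ η hη, resHK_regZ χ ψ fun _ => rfl]
  constructor
  · intro h
    have hη' : η ∈ blockOf M (χ : G → ℂ) := by rw [inducedBlock_unique h hB']; exact hη
    have h1 := (mem_iff_regN_ne_zero hM hχ0 η).mp hη'
    rw [← key] at h1
    exact isPBlock_eq_of_mem heb (isPBlock_blockOf ψ) hφ ((mem_iff_regN_ne_zero hM hψ0 φ).mpr h1)
  · intro h
    have h1 := (mem_iff_regN_ne_zero (χ := ψ) hM hψ0 φ).mp (by rw [← show e = _ from h]; exact hφ)
    rw [key] at h1
    rwa [← isPBlock_eq_of_mem hBp (isPBlock_blockOf χ) hη ((mem_iff_regN_ne_zero hM hχ0 η).mpr h1)]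

end Cfsg.Agent.S0935
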