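import Cfsg.Statements.S0939
import Cfsg.Agent.Lib.Block.CoprimeKernel
import Cfsg.Agent.Lib.Coprime.Core
-- import your own Cfsg.Agent.* helpers here

set_option autoImplicit false
open Cfsg CfsgLib.Block

open Cfsg

namespace Cfsg.Agent.S0939

/-- Let G be a finite group with a normal p-complement (the largest normal subgroup O_p'(G) of order prime to p has p-power index). Then, relative to any maximal ideal M of the algebraic integers containing p, the principal block of G is the set of irreducible characters χ with χ n = χ 1 for every n ∈ O_p'(G). -/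
theorem result {G : Type*} [Group G] [Finite G] (p : ℕ) [Fact p.Prime] (M : Ideal Cfsg.AlgInt) (hM : Cfsg.IsPModular p M) (hnc : ∃ k : ℕ, (Cfsg.pPrimeCore p G).index = p ^ k) : Cfsg.principalBlock M G = {χ : Cfsg.IrrCharacter G | ∀ n ∈ Cfsg.pPrimeCore p G, (χ : G → ℂ) n = (χ : G → ℂ) 1} := by
  classical
  have := hM.2.1
  letI := Fintype.ofFinite G
  have : (Cfsg.pPrimeCore p G).Normal := Subgroup.sSup_normal _ (fun _ h => h.1)
  letI := Fintype.ofFinite (Cfsg.pPrimeCore p G)
  have hN := CfsgLib.Coprime.pPrimeCore_not_dvd (G := G) hM.1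
  ext χ
  constructor
  · intro h n hn
    exact trivial_of_sameBlock hM hN (χ := oneChar G) (show SameBlock M _ _ from h) (fun m _ => rfl) hn
  · intro h
    have hc := classInner_one_ne_zero (N := Cfsg.pPrimeCore p G) χ h
    have h1 := classInner_one_ne_zero (N := Cfsg.pPrimeCore p G) (oneChar G) fun m _ => rfl
    exact (sameBlock_iff_common_constituent hM hN hnc (oneChar G) χ).mpr ⟨_, h1, hc⟩

end Cfsg.Agent.S0939
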