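import Cfsg.Statements.S0942
import Cfsg.Agent.Lib.Invol.PrincipalBlock
import Cfsg.Agent.Lib.Coprime.Core
-- import your own Cfsg.Agent.* helpers here

set_option autoImplicit false
open Cfsg CfsgLib.Block

open Cfsg

namespace Cfsg.Agent.S0942

/-- Let u be a p-element of the finite group G, let v lie in the largest normal subgroup of C_G(u) of order prime to p, and let χ belong to the principal block (relative to a maximal ideal M of the algebraic integers containing p). Then χ (u * v) = χ u. -/
theorem result {G : Type*} [Group G] [Finite G] (p : ℕ) [Fact p.Prime] (M : Ideal Cfsg.AlgInt) (hM : Cfsg.IsPModular p M) (u : G) (hu : ∃ k : ℕ, orderOf u = p ^ k) (v : G) (hv : v ∈ Cfsg.centralizerPPrimeCore p u) (χ : Cfsg.IrrCharacter G) (hχ : χ ∈ Cfsg.principalBlock M G) : (χ : G → ℂ) (u * v) = (χ : G → ℂ) u := by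
  classical
  have := hM.2.1
  letI := Fintype.ofFinite G
  set C := Subgroup.centralizer ({u} : Set G) with hC
  letI := Fintype.ofFinite C
  letI := Fintype.ofFinite (IrrCharacter C)
  have : (Cfsg.pPrimeCore p C).Normal := Subgroup.sSup_normal _ (fun _ h => h.1)
  obtain ⟨w, hw, rfl⟩ := hv
  have hN := CfsgLib.Coprime.pPrimeCore_not_dvd (G := C) hM.1
  have hreg : ¬ p ∣ orderOf w := fun hd => hN (hd.trans (by
    rw [← Subgroup.orderOf_mk w hw]; exact orderOf_dvd_natCard _))
  have h := CfsgLib.Invol.irr_secElt_mul hM hu (fun t => Subgroup.mem_centralizer_singleton_iff) hχ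
    (Cfsg.pPrimeCore p C) hN (y := 1) hw (by rw [orderOf_one]; exact hM.1.not_dvd_one)
    (by rwa [one_mul])
  simpa using h

end Cfsg.Agent.S0942
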