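import Cfsg.Statements.S0943
import Cfsg.Agent.Lib.Char.Integrality
import Cfsg.Agent.Lib.Block.InducedChar
-- import your own Cfsg.Agent.* helpers here

set_option autoImplicit false
open Cfsg CfsgLib.Block

open Cfsg

namespace Cfsg.Agent.S0943

/-- Let χ be an irreducible character of the finite group G and u, v ∈ G. If χ (x * y) = χ (u * v) whenever x is conjugate to u and y is conjugate to v, then χ u * χ v = χ 1 * χ (u * v). (Multiply the class sums of u and v and apply the central character of χ.) -/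
theorem result {G : Type*} [Group G] [Finite G] (χ : Cfsg.IrrCharacter G) (u v : G) (hc : ∀ x y : G, IsConj u x → IsConj v y → (χ : G → ℂ) (x * y) = (χ : G → ℂ) (u * v)) : (χ : G → ℂ) u * (χ : G → ℂ) v = (χ : G → ℂ) 1 * (χ : G → ℂ) (u * v) := by
  classical
  letI := Fintype.ofFinite G
  have h := CfsgLib.Char.omega_mul χ u v
  have hsum : ∑ z : G, (CfsgLib.Char.classConst u v z : ℂ) * (χ : G → ℂ) z / (χ : G → ℂ) 1 =
      (χ : G → ℂ) (u * v) / (χ : G → ℂ) 1 *
        ((Nat.card {x : G // IsConj u x} : ℂ) * (Nat.card {x : G // IsConj v x} : ℂ)) := by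
    have hcount : ∑ z : G, (CfsgLib.Char.classConst u v z : ℂ) =
        (Nat.card {x : G // IsConj u x} : ℂ) * (Nat.card {x : G // IsConj v x} : ℂ) := by
      rw [← Nat.cast_mul, ← Nat.cast_sum, ← Nat.card_prod]
      simp only [CfsgLib.Char.classConst]
      rw [← Nat.card_sigma]
      refine congrArg Nat.cast (Nat.card_congr ?_)
      exact {
        toFun := fun s => (⟨s.2.1.1, s.2.2.1⟩, ⟨s.2.1.2, s.2.2.2.1⟩)
        invFun := fun t => ⟨t.1.1 * t.2.1, ⟨(t.1.1, t.2.1), t.1.2, t.2.2, rfl⟩⟩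
        left_inv := by rintro ⟨z, ⟨⟨a, b⟩, ha, hb, rfl⟩⟩; rfl
        right_inv := fun _ => rfl }
    rw [← hcount, Finset.mul_sum]
    refine Finset.sum_congr rfl fun z _ => ?_
    by_cases hz : CfsgLib.Char.classConst u v z = 0
    · simp [hz]
    · obtain ⟨⟨⟨a, b⟩, ha, hb, hab⟩⟩ := (Nat.card_ne_zero.mp hz).1
      rw [← hab, hc a b ha hb]
      ring
  rw [hsum] at h
  have h0 := CfsgLib.Char.irr_one_ne_zero χ
  have hu : (Nat.card {x : G // IsConj u x} : ℂ) ≠ 0 :=
    Nat.cast_ne_zero.mpr (@Nat.card_pos {x : G // IsConj u x} ⟨⟨u, IsConj.refl u⟩⟩ inferInstance).ne'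
  have hv : (Nat.card {x : G // IsConj v x} : ℂ) ≠ 0 :=
    Nat.cast_ne_zero.mpr (@Nat.card_pos {x : G // IsConj v x} ⟨⟨v, IsConj.refl v⟩⟩ inferInstance).ne'
  simp only [CfsgLib.Char.omega] at h
  field_simp at h
  linear_combination h

end Cfsg.Agent.S0943
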