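import Cfsg.Statements.S0945
import Mathlib
-- import your own Cfsg.Agent.* helpers here

set_option autoImplicit false
open Cfsg

open Cfsg

namespace Cfsg.Agent.S0945

/-- Let P be a Sylow 2-subgroup of the finite group G isomorphic to Z/2^m × Z/2^m with m ≥ 1. Then (i) the index of C_G(P) in N_G(P) is 1 or 3, and (ii) if it is not 1, then for every z ≠ 1 in P, C_G(z) ∩ N_G(P) = C_G(P). -/
theorem result {G : Type*} [Group G] [Finite G] (P : Sylow 2 G) (m : ℕ) (hm : 1 ≤ m) (e : (P : Subgroup G) ≃* Multiplicative (ZMod (2 ^ m) × ZMod (2 ^ m))) : ((Subgroup.centralizer (P : Set G)).relIndex (Subgroup.normalizer (P : Set G)) = 1 ∨ (Subgroup.centralizer (P : Set G)).relIndex (Subgroup.normalizer (P : Set G)) = 3) ∧ ((Subgroup.centralizer (P : Set G)).relIndex (Subgroup.normalizer (P : Set G)) ≠ 1 → ∀ z ∈ (P : Subgroup G), z ≠ 1 → Subgroup.centralizer ({z} : Set G) ⊓ Subgroup.normalizer (P : Set G) = Subgroup.centralizer (P : Set G)) := by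
  classical
  have : Fact (Nat.Prime 2) := ⟨Nat.prime_two⟩
  set n := 2 ^ m with hn
  have : NeZero n := ⟨pow_ne_zero m two_ne_zero⟩
  set C := Subgroup.centralizer ((P : Subgroup G) : Set G) with hC
  set N := Subgroup.normalizer ((P : Subgroup G) : Set G) with hN
  have hcomm : ∀ a b : (P : Subgroup G), a * b = b * a := fun a b =>
    e.injective (by rw [map_mul, map_mul, mul_comm])
  -- at most three involutions
  let Ω := {w : (P : Subgroup G) // w ^ 2 = 1 ∧ w ≠ 1}
  have := Fintype.ofFinite Ω
  have hΩ : Fintype.card Ω ≤ 3 := by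
    set S : Finset (ZMod n) := Finset.univ.filter fun a => -a = a with hS
    have hS2 : S.card ≤ 2 := by
      refine (Finset.card_le_card (t := ({0, ((n / 2 : ℕ) : ZMod n)} : Finset (ZMod n))) fun a ha => ?_).trans Finset.card_le_two
      rw [Finset.mem_insert, Finset.mem_singleton]
      rcases (ZMod.neg_eq_self_iff a).mp (Finset.mem_filter.mp ha).2 with h | h
      · exact Or.inl h
      · refine Or.inr ?_
        have h' : n / 2 = a.val := by omega
        rw [h', ZMod.natCast_val, ZMod.cast_id]
    have h3 : ((S ×ˢ S).erase 0).card ≤ 3 := by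
      rw [Finset.card_erase_of_mem (by simp [hS]), Finset.card_product]
      have := Nat.mul_le_mul hS2 hS2
      omega
    refine le_trans ?_ h3
    refine Finset.card_le_card_of_injOn (fun w : Ω => (e w.1).toAdd) (fun w _ => ?_) fun a _ b _ h => Subtype.ext (e.injective (Multiplicative.toAdd.injective h))
    simp only [Finset.mem_coe, Finset.mem_erase, Finset.mem_product, hS, Finset.mem_filter, Finset.mem_univ, true_and]
    refine ⟨fun h => w.2.2 (e.injective (Multiplicative.toAdd.injective (h.trans (by simp)))), ?_⟩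
    have h2 : (e w.1).toAdd + (e w.1).toAdd = 0 := by
      rw [← toAdd_mul, ← map_mul, ← pow_two, w.2.1, map_one]; rfl
    have h4 := neg_eq_of_add_eq_zero_left h2
    exact ⟨congrArg Prod.fst h4, congrArg Prod.snd h4⟩
  let f : N →* MulAut (P : Subgroup G) := Subgroup.normalizerMonoidHom _
  have hker : ∀ g : N, (g : G) ∈ C ↔ ∀ x : (P : Subgroup G), f g x = x := by
    intro g
    rw [hC, Subgroup.mem_centralizer_iff]
    constructor
    · intro h x
      apply Subtype.ext
      show (g : G) * x * (g : G)⁻¹ = x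
      rw [← h x x.2, mul_inv_cancel_right]
    · intro h x hx
      exact (mul_inv_eq_iff_eq_mul.mp (congrArg Subtype.val (h ⟨x, hx⟩))).symm
  let π : MulAut (P : Subgroup G) → Equiv.Perm Ω := fun α =>
    α.toEquiv.subtypeEquiv fun w => by
      show w ^ 2 = 1 ∧ w ≠ 1 ↔ (α w) ^ 2 = 1 ∧ α w ≠ 1
      rw [← map_pow, MulEquiv.map_eq_one_iff, Ne, Ne, MulEquiv.map_eq_one_iff]
  let ψ : N →* Equiv.Perm Ω :=
    { toFun := fun g => π (f g)
      map_one' := Equiv.ext fun w => Subtype.ext (by show f 1 w.1 = w.1; rw [map_one]; rfl)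
      map_mul' := fun a b => Equiv.ext fun w => Subtype.ext (by
        show f (a * b) w.1 = f a (f b w.1); rw [map_mul]; rfl) }
  -- the kernel of the action on involutions
  have hψker : ∀ g : N, Odd (orderOf (f g)) → (∀ w : Ω, ψ g w = w) → (g : G) ∈ C := by
    intro g hodd hfix
    rw [hker]
    set α := f g
    have hw : ∀ w : (P : Subgroup G), w ^ 2 = 1 → α w = w := by
      intro w hw
      by_cases hw1 : w = 1
      · rw [hw1, map_one]
      · exact congrArg Subtype.val (hfix ⟨w, hw, hw1⟩)
    have key : ∀ (k : ℕ) (x : (P : Subgroup G)), x ^ 2 ^ k = 1 → α x = x := by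
      intro k
      induction k with
      | zero => intro x hx; rw [pow_zero, pow_one] at hx; rw [hx, map_one]
      | succ k ih =>
        intro x hx
        have h2 : α (x ^ 2) = x ^ 2 := ih _ (by rwa [← pow_mul, ← pow_succ'])
        set w := x⁻¹ * α x with hwd
        have hw2 : w ^ 2 = 1 := by
          rw [hwd, (show Commute x⁻¹ (α x) from hcomm _ _).mul_pow, ← map_pow, h2, inv_pow, inv_mul_cancel]
        have hx' : α x = x * w := by rw [hwd, mul_inv_cancel_left]
        have hj : ∀ j : ℕ, (α ^ j) x = x * w ^ j := by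
          intro j
          induction j with
          | zero => simp
          | succ j ihj => rw [pow_succ', MulAut.mul_apply, ihj, map_mul, map_pow, hw w hw2, hx', mul_assoc, ← pow_succ']
        obtain ⟨i, hi⟩ := hodd
        have h := hj (orderOf α)
        rw [pow_orderOf_eq_one, MulAut.one_apply, left_eq_mul, hi, pow_succ, pow_mul, hw2, one_pow, one_mul] at h
        rw [hx', h, mul_one]
    intro x
    obtain ⟨k, hk⟩ := IsPGroup.iff_orderOf.mp P.isPGroup' x
    exact key k x (hk ▸ pow_orderOf_eq_one x)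
  have hPC : (P : Subgroup G) ≤ C := fun x hx => by
    rw [hC, Subgroup.mem_centralizer_iff]
    exact fun y hy => congrArg Subtype.val (hcomm ⟨y, hy⟩ ⟨x, hx⟩)
  have hrel : C.relIndex N = Nat.card f.range := by
    rw [Subgroup.relIndex, ← Subgroup.index_ker]
    congr 1
    ext g
    rw [Subgroup.mem_subgroupOf, MonoidHom.mem_ker, hker]
    exact ⟨fun h => MulEquiv.ext h, fun h x => by rw [h]; rfl⟩
  have hodd : Odd (C.relIndex N) := by
    rw [← Nat.not_even_iff_odd, even_iff_two_dvd]
    intro h
    refine P.not_dvd_index (h.trans ((Subgroup.relIndex_dvd_of_le_left N hPC).trans ?_))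
    exact Subgroup.relIndex_dvd_index_of_le Subgroup.le_normalizer
  have hord : ∀ g : N, Odd (orderOf (f g)) := fun g => by
    refine Odd.of_dvd_nat (hrel ▸ hodd) ?_
    rw [← Subgroup.orderOf_mk (H := f.range) (f g) ⟨g, rfl⟩]
    exact orderOf_dvd_natCard _
  have hψrel : C.relIndex N = Nat.card ψ.range := by
    rw [Subgroup.relIndex, ← Subgroup.index_ker]
    congr 1
    ext g
    rw [Subgroup.mem_subgroupOf, MonoidHom.mem_ker]
    exact ⟨fun h => Equiv.ext fun w => Subtype.ext ((hker g).mp h w.1),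
      fun h => hψker g (hord g) fun w => by rw [h]; rfl⟩
  have h6 : C.relIndex N ∣ 6 := by
    rw [hψrel]
    refine (Subgroup.card_subgroup_dvd_card _).trans ?_
    rw [Nat.card_eq_fintype_card, Fintype.card_perm]
    exact (Nat.factorial_dvd_factorial hΩ).trans (by decide)
  refine ⟨?_, fun h1 z hz hz1 => ?_⟩
  · have hle : C.relIndex N ≤ 6 := Nat.le_of_dvd (by norm_num) h6
    obtain ⟨i, hi⟩ := hodd
    interval_cases hc : C.relIndex N <;> omega
  refine le_antisymm ?_ (le_inf (fun x hx => ?_) ?_)
  · rintro g ⟨hgz, hgN⟩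
    refine hψker ⟨g, hgN⟩ (hord _) ?_
    set α := f ⟨g, hgN⟩
    have hαz : α ⟨z, hz⟩ = ⟨z, hz⟩ := Subtype.ext (by
      show g * z * g⁻¹ = z
      rw [mul_inv_eq_iff_eq_mul]
      exact Subgroup.mem_centralizer_singleton_iff.mp hgz)
    -- an involution fixed by `α`
    obtain ⟨w₀, hw₀⟩ : ∃ w₀ : Ω, ψ ⟨g, hgN⟩ w₀ = w₀ := by
      obtain ⟨k, hk⟩ := IsPGroup.iff_orderOf.mp P.isPGroup' (⟨z, hz⟩ : (P : Subgroup G))
      obtain ⟨k, rfl⟩ := Nat.exists_eq_succ_of_ne_zero (n := k) fun h0 => by
        rw [h0, pow_zero, orderOf_eq_one_iff] at hk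
        exact hz1 (congrArg Subtype.val hk)
      refine ⟨⟨(⟨z, hz⟩ : (P : Subgroup G)) ^ 2 ^ k, ?_, ?_⟩, Subtype.ext ?_⟩
      · rw [← pow_mul, ← pow_succ, ← hk, pow_orderOf_eq_one]
      · intro h
        have := orderOf_dvd_of_pow_eq_one h
        rw [hk, Nat.pow_dvd_pow_iff_le_right (le_refl 2)] at this
        omega
      · show α _ = _
        rw [map_pow, hαz]
    intro w
    by_contra hw
    set σ := ψ ⟨g, hgN⟩ with hσ
    have hoddσ : Odd (orderOf σ) := by
      refine Odd.of_dvd_nat (hψrel ▸ hodd) ?_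
      rw [← Subgroup.orderOf_mk (H := ψ.range) σ ⟨_, rfl⟩]
      exact orderOf_dvd_natCard _
    have hσ1 : σ ≠ 1 := fun h => hw (by rw [h]; rfl)
    have hsupp : σ.support.card ≤ 2 := by
      have : σ.support ⊆ Finset.univ.erase w₀ := fun v hv => Finset.mem_erase.mpr
        ⟨fun h => Equiv.Perm.mem_support.mp hv (by rw [h, hw₀]), Finset.mem_univ v⟩
      refine (Finset.card_le_card this).trans ?_
      rw [Finset.card_erase_of_mem (Finset.mem_univ _), Finset.card_univ]
      omega
    have h2 := le_antisymm hsupp (Equiv.Perm.one_lt_card_support_of_ne_one hσ1)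
    have := (Equiv.Perm.card_support_eq_two.mp h2).orderOf
    rw [this] at hoddσ
    exact absurd hoddσ (by decide)
  · exact Subgroup.mem_centralizer_singleton_iff.mpr
      (((Subgroup.mem_centralizer_iff.mp hx) z hz).symm)
  · intro x hx
    refine Subgroup.mem_normalizer_iff.mpr fun y => ?_
    constructor
    · intro hy
      rwa [show x * y * x⁻¹ = y by rw [← (Subgroup.mem_centralizer_iff.mp hx) y hy, mul_inv_cancel_right]]
    · intro hy
      have h1 := (Subgroup.mem_centralizer_iff.mp hx) _ hy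
      have h2 : x * y * x⁻¹ = y := by
        have h3 : x * y * x⁻¹ * x = x * (x * y * x⁻¹) := h1
        rw [inv_mul_cancel_right] at h3
        exact (mul_left_cancel h3).symm
      rwa [h2] at hy

end Cfsg.Agent.S0945
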