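import Cfsg.Statements.S0946
import Mathlib
import Cfsg.Agent.Lib.Coprime.FpfAction

set_option autoImplicit false
open Cfsg

namespace Cfsg.Agent.S0946

/-- Let P be a Sylow 2-subgroup of the finite group G isomorphic to Z/2^m × Z/2^m with m ≥ 1. Then either P has a normal complement in G, or all involutions of G are conjugate. -/
theorem result {G : Type*} [Group G] [Finite G] (P : Sylow 2 G) (m : ℕ) (hm : 1 ≤ m) (e : (P : Subgroup G) ≃* Multiplicative (ZMod (2 ^ m) × ZMod (2 ^ m))) : (∃ N : Subgroup G, N.Normal ∧ Subgroup.IsComplement' N (P : Subgroup G)) ∨ ∀ s t : G, orderOf s = 2 → orderOf t = 2 → IsConj s t := by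
  classical
  have := Fintype.ofFinite G
  haveI hab : IsMulCommutative (P : Subgroup G) :=
    ⟨⟨fun a b => e.injective (by rw [map_mul, map_mul, mul_comm])⟩⟩
  by_cases hP : Subgroup.normalizer ((P : Subgroup G) : Set G) ≤ Subgroup.centralizer ((P : Subgroup G) : Set G)
  · exact Or.inl ⟨_, MonoidHom.normal_ker _, MonoidHom.ker_transferSylow_isComplement' P hP⟩
  right
  obtain ⟨n, hn, hnC⟩ : ∃ n ∈ Subgroup.normalizer ((P : Subgroup G) : Set G),
      n ∉ Subgroup.centralizer ((P : Subgroup G) : Set G) := by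
    by_contra hall
    push Not at hall
    exact hP hall
  set C := Subgroup.centralizer ((P : Subgroup G) : Set G) with hCdef
  have hPC : (P : Subgroup G) ≤ C := fun u hu => Subgroup.mem_centralizer_iff.mpr fun v hv =>
    congrArg Subtype.val (mul_comm' (⟨v, hv⟩ : (P : Subgroup G)) ⟨u, hu⟩)
  -- an element of odd order outside the centralizer
  obtain ⟨k, d, hd, hkd⟩ := Nat.exists_eq_two_pow_mul_odd (orderOf_pos n).ne'
  have hy : n ^ 2 ^ k ∉ C := by
    intro hmem
    set N := Subgroup.normalizer ((P : Subgroup G) : Set G)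
    haveI : (C.subgroupOf N).Normal := Subgroup.normal_subgroupOf_iff_le_normalizer
      (Subgroup.centralizer_le_normalizer _) |>.mpr fun g hg => by
        rw [Subgroup.mem_normalizer_iff]
        intro c
        simp only [SetLike.mem_coe, hCdef, Subgroup.mem_centralizer_iff]
        have h := Subgroup.mem_normalizer_iff.mp hg
        constructor
        · intro hc u hu
          have h1 : g⁻¹ * u * g ∈ (P : Subgroup G) := by
            have h2 := (h (g⁻¹ * u * g)).mpr (by simpa [mul_assoc] using hu)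
            exact h2
          calc u * (g * c * g⁻¹) = g * ((g⁻¹ * u * g) * c) * g⁻¹ := by group
            _ = g * (c * (g⁻¹ * u * g)) * g⁻¹ := by rw [hc _ h1]
            _ = g * c * g⁻¹ * u := by group
        · intro hc u hu
          have h1 : g * u * g⁻¹ ∈ (P : Subgroup G) := (h u).mp hu
          have h3 := hc _ h1
          calc u * c = g⁻¹ * ((g * u * g⁻¹) * (g * c * g⁻¹)) * g := by group
            _ = g⁻¹ * ((g * c * g⁻¹) * (g * u * g⁻¹)) * g := by rw [h3]
            _ = c * u := by group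
    set q : N ⧸ C.subgroupOf N := QuotientGroup.mk (⟨n, hn⟩ : N)
    have h1 : q ^ 2 ^ k = 1 := by
      rw [← QuotientGroup.mk_pow, QuotientGroup.eq_one_iff, Subgroup.mem_subgroupOf]
      exact hmem
    have h2 : ¬ 2 ∣ Nat.card (N ⧸ C.subgroupOf N) := fun h => P.not_dvd_index
      (h.trans ((Subgroup.relIndex_dvd_of_le_left N hPC).trans
        (Subgroup.relIndex_dvd_index_of_le Subgroup.le_normalizer)))
    have h3 : (orderOf q).Coprime (Nat.card (N ⧸ C.subgroupOf N)) → False := fun h => by
      have h4 : q = 1 := by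
        rw [← orderOf_eq_one_iff]
        exact (Nat.gcd_eq_left (orderOf_dvd_natCard q)).symm.trans h
      rw [QuotientGroup.eq_one_iff, Subgroup.mem_subgroupOf] at h4
      exact hnC h4
    obtain ⟨j, -, hj⟩ := (Nat.dvd_prime_pow Nat.prime_two).mp (orderOf_dvd_of_pow_eq_one h1)
    exact h3 (hj ▸ (Nat.prime_two.coprime_iff_not_dvd.mpr h2).pow_left j)
  set y := n ^ 2 ^ k with hydef
  have hyN : y ∈ Subgroup.normalizer ((P : Subgroup G) : Set G) := pow_mem hn _
  have hyodd : y ^ d = 1 := by rw [hydef, ← pow_mul, ← hkd, pow_orderOf_eq_one]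
  have hycop : (orderOf y).Coprime (Nat.card (P : Subgroup G)) := by
    obtain ⟨j, hj⟩ := IsPGroup.iff_card.mp P.2
    rw [hj]
    exact Nat.Coprime.pow_right _
      (((Nat.prime_two.coprime_iff_not_dvd.mpr (Nat.two_dvd_ne_zero.mpr (Nat.odd_iff.mp hd))).symm).coprime_dvd_left
        (orderOf_dvd_of_pow_eq_one hyodd))
  -- it moves an involution
  obtain ⟨a, haP, ha, hay⟩ : ∃ a ∈ (P : Subgroup G), orderOf a = 2 ∧ ¬ Commute y a := by
    by_contra hall
    push Not at hall
    refine hy (Subgroup.mem_centralizer_iff.mpr fun v hv =>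
      (CfsgLib.Coprime.commute_of_fix_prime_order hyN hycop (fun w hw hpr => hall w hw ?_) v hv).symm.eq)
    obtain ⟨j, hj⟩ := IsPGroup.iff_orderOf.mp P.2 ⟨w, hw⟩
    rw [Subgroup.orderOf_mk] at hj
    exact (Nat.prime_dvd_prime_iff_eq hpr Nat.prime_two).mp (hpr.dvd_of_dvd_pow (dvd_of_eq hj))
  -- at most three involutions in `P`
  set S := Finset.univ.filter fun v : G => v ∈ (P : Subgroup G) ∧ orderOf v = 2 with hS
  have hcard : S.card ≤ 3 := by
    let A := Multiplicative (ZMod (2 ^ m) × ZMod (2 ^ m))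
    set B := Finset.univ.filter fun z : ZMod (2 ^ m) => (2 : ℕ) • z = 0 with hB
    have hB2 : B.card ≤ 2 := IsAddCyclic.card_nsmul_eq_zero_le (by norm_num)
    have h1 : (insert 1 S).card ≤ (B ×ˢ B).card := by
      refine Finset.card_le_card_of_injOn (fun v => if h : v ∈ (P : Subgroup G) then
        Multiplicative.toAdd (e ⟨v, h⟩) else 0) (fun v hv => ?_) ?_
      · have hvP : v ∈ (P : Subgroup G) ∧ v ^ 2 = 1 := by
          rcases Finset.mem_insert.mp hv with rfl | h
          · exact ⟨one_mem _, one_pow 2⟩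
          · obtain ⟨h1, h2⟩ := (Finset.mem_filter.mp h).2
            exact ⟨h1, h2 ▸ pow_orderOf_eq_one v⟩
        have h2 : (2 : ℕ) • Multiplicative.toAdd (e ⟨v, hvP.1⟩) = 0 := by
          rw [← toAdd_pow, ← map_pow, show (⟨v, hvP.1⟩ : (P : Subgroup G)) ^ 2 = 1 from
            Subtype.ext hvP.2, map_one, toAdd_one]
        simp only [Finset.coe_product, Set.mem_prod, Finset.mem_coe, hB, Finset.mem_filter,
          Finset.mem_univ, true_and, dif_pos hvP.1]
        exact ⟨by simpa using congrArg Prod.fst h2, by simpa using congrArg Prod.snd h2⟩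
      · intro v hv w hw h
        have hmem : ∀ x ∈ insert 1 S, x ∈ (P : Subgroup G) := fun x hx => by
          rcases Finset.mem_insert.mp hx with rfl | h
          · exact one_mem _
          · exact (Finset.mem_filter.mp h).2.1
        simp only [dif_pos (hmem v (Finset.mem_coe.mp hv)), dif_pos (hmem w (Finset.mem_coe.mp hw))] at h
        exact congrArg Subtype.val (e.injective (Multiplicative.toAdd.injective h))
    rw [Finset.card_insert_of_notMem (by simp [hS]), Finset.card_product] at h1
    nlinarith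
  -- they are `a` and its two conjugates under `y`
  have hmemS : ∀ v ∈ S, y * v * y⁻¹ ∈ S := fun v hv => by
    obtain ⟨h1, h2⟩ := (Finset.mem_filter.mp hv).2
    refine Finset.mem_filter.mpr ⟨Finset.mem_univ _, (Subgroup.mem_normalizer_iff.mp hyN v).mp h1, ?_⟩
    rw [← show MulAut.conj y v = y * v * y⁻¹ from rfl, MulEquiv.orderOf_eq, h2]
  have haS : a ∈ S := Finset.mem_filter.mpr ⟨Finset.mem_univ _, haP, ha⟩
  set b := y * a * y⁻¹ with hb
  set c := y * b * y⁻¹ with hc
  have hab' : b ≠ a := fun h => hay (mul_inv_eq_iff_eq_mul.mp h)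
  have hbc : c ≠ b := fun h => hab' (mul_left_cancel (mul_right_cancel (h : y * b * y⁻¹ = y * a * y⁻¹)))
  have hca : c ≠ a := by
    intro h
    have h2 : Commute (y ^ 2) a := by
      refine mul_inv_eq_iff_eq_mul.mp ?_
      calc y ^ 2 * a * (y ^ 2)⁻¹ = c := by rw [hc, hb, sq]; group
        _ = a := h
    obtain ⟨i, hi⟩ := hd
    refine hay ?_
    have h3 : y = (y ^ 2) ^ (i + 1) := by
      rw [← pow_mul, show 2 * (i + 1) = d + 1 by omega, pow_succ, hyodd, one_mul]
    rw [h3]
    exact h2.pow_left _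
  have hSeq : {a, b, c} = S := by
    refine Finset.eq_of_subset_of_card_le (fun v hv => ?_) ?_
    · simp only [Finset.mem_insert, Finset.mem_singleton] at hv
      rcases hv with rfl | rfl | rfl
      · exact haS
      · exact hmemS _ haS
      · exact hmemS _ (hmemS _ haS)
    · rw [Finset.card_eq_three.mpr ⟨a, b, c, hab'.symm, hca.symm, hbc.symm, rfl⟩]
      exact hcard
  have key : ∀ s : G, orderOf s = 2 → IsConj a s := by
    intro s hs
    have hsp : IsPGroup 2 (Subgroup.zpowers s) :=
      IsPGroup.of_card (n := 1) (by rw [Nat.card_zpowers, hs, pow_one])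
    obtain ⟨Q, hQ⟩ := hsp.exists_le_sylow
    obtain ⟨g, hg⟩ := MulAction.exists_smul_eq G Q P
    have hsP : g * s * g⁻¹ ∈ (P : Subgroup G) := by
      rw [← hg]
      exact ⟨s, hQ (Subgroup.mem_zpowers s), by simp⟩
    have hsS : g * s * g⁻¹ ∈ S := Finset.mem_filter.mpr ⟨Finset.mem_univ _, hsP, by
      rw [← show MulAut.conj g s = g * s * g⁻¹ from rfl, MulEquiv.orderOf_eq, hs]⟩
    rw [← hSeq, Finset.mem_insert, Finset.mem_insert, Finset.mem_singleton] at hsS
    refine IsConj.trans ?_ (isConj_iff.mpr ⟨g, rfl⟩ : IsConj s (g * s * g⁻¹)).symm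
    rcases hsS with h | h | h <;> rw [h]
    · exact isConj_iff.mpr ⟨y, rfl⟩
    · exact (isConj_iff.mpr ⟨y, rfl⟩ : IsConj a b).trans (isConj_iff.mpr ⟨y, rfl⟩)
  exact fun s t hs ht => (key s hs).symm.trans (key t ht)

end Cfsg.Agent.S0946
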