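import Cfsg.Statements.S0947
import Cfsg.Agent.Lib.Block.SubsectionCount
import Cfsg.Agent.Lib.Coprime.Core
-- import your own Cfsg.Agent.* helpers here

set_option autoImplicit false
open Cfsg CfsgLib.Block
open scoped ComplexConjugate

namespace Cfsg.Agent.S0947

/-- Let z ≠ 1 be a p-element of the finite group G with centralizer H, and fix a maximal ideal M of the algebraic integers containing p. (i) For every y ∈ H of order prime to p, the sum over ζ in the principal block of G of |ζ (z * y)|² equals the sum over χ in the principal block of H of |χ y|². (ii) If moreover H has a normal p-complement (its largest normal subgroup of order prime to p has p-power index), that common value is the largest power of p dividing the order of H. -/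
theorem result {G : Type*} [Group G] [Finite G] (p : ℕ) [Fact p.Prime] (M : Ideal Cfsg.AlgInt) (hM : Cfsg.IsPModular p M) (z : G) (hz : ∃ k : ℕ, orderOf z = p ^ k) (hz1 : z ≠ 1) (y : Subgroup.centralizer ({z} : Set G)) (hy : ¬ p ∣ orderOf y) : (∑ᶠ ζ ∈ Cfsg.principalBlock M G, ‖(ζ : G → ℂ) (z * (y : G))‖ ^ 2 = ∑ᶠ χ ∈ Cfsg.principalBlock M (Subgroup.centralizer ({z} : Set G)), ‖(χ : Subgroup.centralizer ({z} : Set G) → ℂ) y‖ ^ 2) ∧ ((∃ k : ℕ, (Cfsg.pPrimeCore p (Subgroup.centralizer ({z} : Set G))).index = p ^ k) → ∑ᶠ ζ ∈ Cfsg.principalBlock M G, ‖(ζ : G → ℂ) (z * (y : G))‖ ^ 2 = ((p ^ (Nat.card (Subgroup.centralizer ({z} : Set G))).factorization p : ℕ) : ℝ)) := by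
  classical
  have := hM.2.1
  letI := Fintype.ofFinite G
  have := Fintype.ofFinite (IrrCharacter G)
  letI := Fintype.ofFinite (Subgroup.centralizer ({z} : Set G))
  have := Fintype.ofFinite (IrrCharacter (Subgroup.centralizer ({z} : Set G)))
  have := Fintype.ofFinite (ConjClasses (Subgroup.centralizer ({z} : Set G)))
  have h := sum_principal_secFun hM hz (fun t => Subgroup.mem_centralizer_singleton_iff) hy hy
  rw [finsum_mem_eq_toFinset_sum, finsum_mem_eq_toFinset_sum] at h
  have h1 : ∑ᶠ ζ ∈ Cfsg.principalBlock M G, ‖(ζ : G → ℂ) (z * (y : G))‖ ^ 2 =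
      ∑ᶠ χ ∈ Cfsg.principalBlock M (Subgroup.centralizer ({z} : Set G)), ‖(χ : (Subgroup.centralizer ({z} : Set G)) → ℂ) y‖ ^ 2 := by
    rw [finsum_mem_eq_toFinset_sum, finsum_mem_eq_toFinset_sum]
    apply Complex.ofReal_injective
    simp only [Complex.ofReal_sum, Complex.ofReal_pow, ← Complex.mul_conj']
    exact h
  refine ⟨h1, fun ⟨k, hk⟩ => ?_⟩
  have hcomp : Cfsg.HasNormalPComplement p (Subgroup.centralizer ({z} : Set G)) := by
    obtain ⟨S⟩ : Nonempty (Sylow p (Subgroup.centralizer ({z} : Set G))) := inferInstance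
    exact ⟨S, _, (show (Cfsg.pPrimeCore p _).Normal from @Subgroup.normal_of_characteristic _ _ _ (CfsgLib.Coprime.pPrimeCore_characteristic p)), CfsgLib.Fusion.isComplement'_sylow_of_card _
      (CfsgLib.Coprime.pPrimeCore_not_dvd Fact.out) hk S⟩
  rw [h1, finsum_mem_eq_toFinset_sum]
  apply Complex.ofReal_injective
  simp only [Complex.ofReal_sum, Complex.ofReal_pow, ← Complex.mul_conj', Complex.ofReal_natCast]
  rw [← sum_sq_principal_of_complement hM hcomp]
  refine Finset.sum_congr (by ext; simp) fun χ hχ => ?_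
  rw [irr_eq_one_of_regular hM hcomp (by simpa using hχ) hy, CfsgLib.Char.conj_irr_one]

end Cfsg.Agent.S0947
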