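import Cfsg.Statements.S0950
import Cfsg.Agent.Lib.Fusion.PComplement
import Cfsg.Agent.Lib.Invol.QuasiDihedralSubgroups
-- import your own Cfsg.Agent.* helpers here

set_option autoImplicit false
open Cfsg


open Cfsg

namespace Cfsg.Agent.S0950

/-- Let S be a Sylow 2-subgroup of the finite group G that is isomorphic to the quaternion group of order 8, and suppose S has no normal complement in G. Then any two subgroups of order 4 of S are conjugate by an element of the normalizer of S. -/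
theorem result {G : Type*} [Group G] [Finite G] (S : Sylow 2 G) (e : (S : Subgroup G) ≃* QuaternionGroup 2) (hnc : ∀ N : Subgroup G, N.Normal → ¬ Subgroup.IsComplement' N (S : Subgroup G)) (A B : Subgroup G) (hA : A ≤ S) (hB : B ≤ S) (hA4 : Nat.card A = 4) (hB4 : Nat.card B = 4) : ∃ n ∈ Subgroup.normalizer ((S : Subgroup G) : Set G), B = A.map (MulAut.conj n).toMonoidHom := by
  have : Fact (Nat.Prime 2) := ⟨Nat.prime_two⟩
  obtain ⟨hS8, hS4, huniq⟩ := CfsgLib.Invol.quaternion_eight_facts e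
  obtain ⟨hsplit, hodd⟩ : (∀ x y : S, x ^ 2 ≠ 1 → y ^ 2 ≠ 1 → y ≠ x → y ≠ x⁻¹ →
      ∀ z : S, z ^ 2 ≠ 1 → z = x ∨ z = x⁻¹ ∨ z = y ∨ z = y⁻¹ ∨ z = x * y ∨ z = (x * y)⁻¹) ∧
      (∀ x y : S, x ^ 2 ≠ 1 → y ^ 2 ≠ 1 → y ≠ x → y ≠ x⁻¹ → ∀ z : S, z = 1 ∨ z = x ^ 2 ∨ z = x ∨
        z = x⁻¹ ∨ z = y ∨ z = y⁻¹ ∨ z = x * y ∨ z = (x * y)⁻¹) := by
    have k1 : ∀ x y : QuaternionGroup 2, x ^ 2 ≠ 1 → y ^ 2 ≠ 1 → y ≠ x → y ≠ x⁻¹ →
        ∀ z : QuaternionGroup 2, z ^ 2 ≠ 1 → z ∈ [x, x⁻¹, y, y⁻¹, x * y, (x * y)⁻¹] := by decide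
    have k2 : ∀ x y : QuaternionGroup 2, x ^ 2 ≠ 1 → y ^ 2 ≠ 1 → y ≠ x → y ≠ x⁻¹ →
        ∀ z : QuaternionGroup 2, z ∈ [1, x ^ 2, x, x⁻¹, y, y⁻¹, x * y, (x * y)⁻¹] := by decide
    have tr : ∀ x : S, x ^ 2 ≠ 1 → e x ^ 2 ≠ 1 := fun x h h' => h (e.injective (by rw [map_pow, h', map_one]))
    refine ⟨fun x y hx hy h1 h2 z hz => ?_, fun x y hx hy h1 h2 z => ?_⟩
    · simpa only [List.mem_cons, List.not_mem_nil, or_false, ← map_inv, ← map_mul, e.injective.eq_iff] using (k1 (e x) (e y) (tr x hx) (tr y hy)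
        (e.injective.ne h1) (by rw [← map_inv]; exact e.injective.ne h2) (e z) (tr z hz))
    · simpa only [List.mem_cons, List.not_mem_nil, or_false, ← map_inv, ← map_mul, ← map_pow, e.injective.eq_iff, EmbeddingLike.map_eq_one_iff] using
        k2 (e x) (e y) (tr x hx) (tr y hy) (e.injective.ne h1) (by rw [← map_inv]; exact e.injective.ne h2) (e z)
  -- subgroups of order four are cyclic
  have hgen : ∀ T : Subgroup G, T ≤ S → Nat.card T = 4 →
      ∃ t : S, t ^ 2 ≠ 1 ∧ T = Subgroup.zpowers (t : G) := by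
    intro T hT hT4
    have := Fintype.ofFinite T
    obtain ⟨t, ht, ht2⟩ : ∃ t : S, (t : G) ∈ T ∧ t ^ 2 ≠ 1 := by
      by_contra hno
      push Not at hno
      obtain ⟨a, b, c, hab, hac, hbc⟩ := Fintype.two_lt_card_iff.mp (by
        rw [← Nat.card_eq_fintype_card, hT4]; norm_num : 2 < Fintype.card T)
      have h2 : ∀ u : T, u ≠ 1 → ∀ v : T, v ≠ 1 → u = v := fun u hu v hv =>
        Subtype.ext (congrArg (fun z : S => (z : G)) (huniq (⟨u, hT u.2⟩ : S) ⟨v, hT v.2⟩
          (hno ⟨u, hT u.2⟩ u.2) (hno ⟨v, hT v.2⟩ v.2)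
          (fun h => hu (Subtype.ext (congrArg (fun z : S => (z : G)) h :)))
          (fun h => hv (Subtype.ext (congrArg (fun z : S => (z : G)) h :)))) :)
      by_cases ha : a = 1
      · exact hbc (h2 b (fun h => hab (ha.trans h.symm)) c (fun h => hac (ha.trans h.symm)))
      by_cases hb : b = 1
      · exact hac (h2 a ha c (fun h => hbc (hb.trans h.symm)))
      exact hab (h2 a ha b hb)
    refine ⟨t, ht2, (Subgroup.eq_of_le_of_card_ge (Subgroup.zpowers_le.mpr ht) ?_).symm⟩
    rw [hT4, Nat.card_zpowers, Subgroup.orderOf_coe]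
    exact (orderOf_eq_prime_pow (p := 2) (n := 1) (by simpa using ht2) (hS4 t)).ge
  -- some element of odd order acts non-trivially
  obtain ⟨g, hgN, hgodd, hgC⟩ : ∃ g ∈ Subgroup.normalizer ((S : Subgroup G) : Set G),
      Nat.Coprime (orderOf g) 2 ∧ g ∉ Subgroup.centralizer ((S : Subgroup G) : Set G) := by
    by_contra hno
    push Not at hno
    have hloc : CfsgLib.Fusion.LocallyPNilpotentAction 2 (S : Subgroup G) := by
      intro Q hQ g hg hg2
      by_cases hQS : Q = (S : Subgroup G)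
      · subst hQS; exact hno g hg hg2
      have hlt : Nat.card Q < 8 := by
        rw [← hS8]
        exact lt_of_le_of_ne (Subgroup.card_le_of_le hQ) fun h => hQS (Subgroup.eq_of_le_of_card_ge hQ h.ge)
      have hdvd : Nat.card Q ∣ 2 ^ 3 := by rw [show (2 : ℕ) ^ 3 = 8 from rfl, ← hS8]; exact Subgroup.card_dvd_of_le hQ
      obtain ⟨k, -, hk⟩ := (Nat.dvd_prime_pow Nat.prime_two).mp hdvd
      have hcyc : IsCyclic Q := by
        by_cases h2 : k ≤ 1
        · interval_cases k
          · have : Subsingleton Q := (Nat.card_eq_one_iff_unique.mp (by simpa using hk)).1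
            exact isCyclic_of_subsingleton
          · exact isCyclic_of_prime_card (p := 2) (by simpa using hk)
        · have hk2 : k = 2 := by
            have : 2 ^ k < 2 ^ 3 := by rw [← hk]; simpa using hlt
            have := (Nat.pow_lt_pow_iff_right (by norm_num)).mp this
            omega
          obtain ⟨t, -, rfl⟩ := hgen Q hQ (by rw [hk, hk2]; norm_num)
          infer_instance
      let φ : Subgroup.normalizer (Q : Set G) →* MulAut Q := Subgroup.normalizerMonoidHom Q
      have h1 : orderOf (φ ⟨g, hg⟩) ∣ Nat.card (MulAut Q) := orderOf_dvd_natCard _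
      have h2 : orderOf (φ ⟨g, hg⟩) ∣ orderOf g := by
        rw [← Subgroup.orderOf_mk g hg]; exact orderOf_map_dvd φ _
      rw [IsCyclic.card_mulAut, hk] at h1
      have h3 : orderOf (φ ⟨g, hg⟩) = 1 := by
        rcases Nat.eq_zero_or_pos k with rfl | hkpos
        · simpa using h1
        rw [Nat.totient_prime_pow Nat.prime_two hkpos, Nat.mul_one] at h1
        exact Nat.eq_one_of_dvd_coprimes ((hg2.pow_right (k - 1))) h2 h1
      refine CfsgLib.Fusion.mem_centralizer_iff'.mpr fun x hx => ?_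
      exact congrArg Subtype.val (congrArg (fun f : MulAut Q => f ⟨x, hx⟩) (orderOf_eq_one_iff.mp h3))
    obtain ⟨P, N, hN, hc⟩ := CfsgLib.Fusion.hasNormalPComplement_of_locallyPNilpotentAction S hloc
    refine hnc N hN (Subgroup.isComplement'_of_coprime ?_ ?_)
    · rw [Nat.card_congr (Sylow.equiv S P).toEquiv, hc.card_mul_card]
    · have hcop : Nat.Coprime (Nat.card N) (Nat.card (P : Subgroup G)) := by
        obtain ⟨k, hk⟩ := P.isPGroup'.exists_card_eq
        have hind : (P : Subgroup G).index = Nat.card N := Subgroup.IsComplement'.index_eq_card hc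
        rw [hk, ← hind]
        exact ((Nat.Prime.coprime_iff_not_dvd Nat.prime_two).mpr P.not_dvd_index).symm.pow_right k
      rwa [Nat.card_congr (Sylow.equiv S P).toEquiv]
  -- the action on the Sylow subgroup
  let α : MulAut (S : Subgroup G) := Subgroup.normalizerMonoidHom _ ⟨g, hgN⟩
  have hα : ∀ x : S, ((α x : S) : G) = g * x * g⁻¹ := fun x => rfl
  obtain ⟨k, hk⟩ : Odd (orderOf α) := by
    refine Nat.coprime_two_right.mp (hgodd.coprime_dvd_left ?_)
    rw [← Subgroup.orderOf_mk g hgN]; exact orderOf_map_dvd _ _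
  have hpow : ∀ x : S, (α ^ (2 * k + 1)) x = x := fun x => by rw [← hk, pow_orderOf_eq_one]; rfl
  have hfix : ∀ x : S, α (α x) = x ∨ α (α x) = x⁻¹ → α x = x ∨ α x = x⁻¹ := by
    intro x hx
    have h2 : ∀ j, (α ^ (2 * j)) x = x ∨ (α ^ (2 * j)) x = x⁻¹ := by
      intro j
      induction j with
      | zero => exact Or.inl rfl
      | succ j ih =>
        rw [show 2 * (j + 1) = 1 + (1 + 2 * j) by ring, pow_add, pow_add, pow_one, MulAut.mul_apply, MulAut.mul_apply]
        rcases ih with h | h <;> rcases hx with h' | h' <;> simp [h, h', map_inv]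
    have h3 := hpow x
    rw [add_comm, pow_add, pow_one, MulAut.mul_apply] at h3
    rcases h2 k with h | h <;> rw [h] at h3
    · exact Or.inl h3
    · rw [map_inv, inv_eq_iff_eq_inv] at h3; exact Or.inr h3
  have hneq : ∀ x : S, x ^ 2 ≠ 1 → α x ≠ x ∧ α x ≠ x⁻¹ := by
    intro x hx
    have hx' : α x ≠ x⁻¹ := fun h => by
      have hx2 : α (α x) = x := by rw [h, map_inv, h, inv_inv]
      have h3 := hpow x
      have h2 : ∀ j, (α ^ (2 * j)) x = x := by
        intro j
        induction j with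
        | zero => rfl
        | succ j ih =>
          rw [show 2 * (j + 1) = 1 + (1 + 2 * j) by ring, pow_add, pow_add, pow_one, MulAut.mul_apply,
            MulAut.mul_apply, ih, hx2]
      rw [add_comm, pow_add, pow_one, MulAut.mul_apply, h2, h] at h3
      exact hx (by rw [pow_two]; exact inv_eq_iff_mul_eq_one.mp h3)
    refine ⟨fun h => ?_, hx'⟩
    -- a fixed element of order four forces a trivial action
    obtain ⟨y, hy, hy1, hy2⟩ : ∃ y : S, y ^ 2 ≠ 1 ∧ y ≠ x ∧ y ≠ x⁻¹ := by
      have hex : ∀ a : QuaternionGroup 2, ∃ b, b ^ 2 ≠ 1 ∧ b ≠ a ∧ b ≠ a⁻¹ := by decide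
      obtain ⟨b, h1, h2, h3⟩ := hex (e x)
      exact ⟨e.symm b, fun hb => h1 (by have := congrArg e hb; simpa using this),
        fun hb => h2 (by rw [← hb, MulEquiv.apply_symm_apply]),
        fun hb => h3 (by rw [← map_inv, ← hb, MulEquiv.apply_symm_apply])⟩
    have hαy : α y = y := by
      have h1 : α y ≠ x := fun h' => hy1 (α.injective (h'.trans h.symm))
      have h2 : α y ≠ x⁻¹ := fun h' => hy2 (α.injective (by rw [h', map_inv, h]))
      have hsq : (α y) ^ 2 ≠ 1 := fun h' => hy (α.injective (by rw [map_pow, h', map_one]))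
      have hiter : α (α y) = y ∨ α (α y) = y⁻¹ := by
        rcases hsplit x y hx hy hy1 hy2 (α y) hsq with c | c | c | c | c | c
        · exact absurd c h1
        · exact absurd c h2
        · exact Or.inl (by rw [c, c])
        · exact Or.inl (by rw [c, map_inv, c, inv_inv])
        · right
          rw [c, map_mul, h, c, ← mul_assoc]
          have key : ∀ a b : QuaternionGroup 2, a ^ 2 ≠ 1 → b ^ 2 ≠ 1 → b ≠ a → b ≠ a⁻¹ → a * a * b = b⁻¹ := by decide
          refine e.injective ?_
          rw [map_mul, map_mul, map_inv]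
          exact key _ _ (fun h' => hx (e.injective (by rw [map_pow, h', map_one])))
            (fun h' => hy (e.injective (by rw [map_pow, h', map_one]))) (e.injective.ne hy1)
            (by rw [← map_inv]; exact e.injective.ne hy2)
        · right
          rw [c, map_inv, map_mul, h, c]
          have key : ∀ a b : QuaternionGroup 2, a ^ 2 ≠ 1 → b ^ 2 ≠ 1 → b ≠ a → b ≠ a⁻¹ → (a * (a * b)⁻¹)⁻¹ = b⁻¹ := by decide
          refine e.injective ?_
          rw [map_inv, map_inv, map_mul, map_inv, map_mul]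
          exact key _ _ (fun h' => hx (e.injective (by rw [map_pow, h', map_one])))
            (fun h' => hy (e.injective (by rw [map_pow, h', map_one]))) (e.injective.ne hy1)
            (by rw [← map_inv]; exact e.injective.ne hy2)
      rcases hfix y hiter with h' | h'
      · exact h'
      · exfalso
        have h2' : ∀ j, (α ^ (2 * j)) y = y := by
          intro j
          induction j with
          | zero => rfl
          | succ j ih =>
            rw [show 2 * (j + 1) = 1 + (1 + 2 * j) by ring, pow_add, pow_add, pow_one, MulAut.mul_apply,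
              MulAut.mul_apply, ih, h', map_inv, h', inv_inv]
        have h3 := hpow y
        rw [add_comm, pow_add, pow_one, MulAut.mul_apply, h2', h'] at h3
        exact hy (by rw [pow_two]; exact inv_eq_iff_mul_eq_one.mp h3)
    refine hgC (CfsgLib.Fusion.mem_centralizer_iff'.mpr fun z hz => ?_)
    have := hodd x y hx hy hy1 hy2 ⟨z, hz⟩
    suffices h' : α ⟨z, hz⟩ = ⟨z, hz⟩ from congrArg Subtype.val h'
    rcases this with c | c | c | c | c | c | c | c <;> rw [c] <;> simp [h, hαy]
  obtain ⟨a, ha, rfl⟩ := hgen A hA hA4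
  obtain ⟨b, hb, rfl⟩ := hgen B hB hB4
  have ha1 : (α a) ^ 2 ≠ 1 := fun h => ha (α.injective (by rw [map_pow, h, map_one]))
  have ha2 : (α (α a)) ^ 2 ≠ 1 := fun h => ha1 (α.injective (by rw [map_pow, h, map_one]))
  have hmap : ∀ (n : G) (c : S), n * a * n⁻¹ = (c : G) →
      Subgroup.zpowers (c : G) = (Subgroup.zpowers (a : G)).map (MulAut.conj n).toMonoidHom := by
    intro n c hc
    rw [MonoidHom.map_zpowers, ← hc]; rfl
  have hinv : ∀ c : S, Subgroup.zpowers ((c⁻¹ : S) : G) = Subgroup.zpowers (c : G) := fun c => by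
    rw [Subgroup.coe_inv, Subgroup.zpowers_inv]
  have hg2 : g * g ∈ Subgroup.normalizer ((S : Subgroup G) : Set G) := mul_mem hgN hgN
  have hc1 : g * g * a * (g * g)⁻¹ = ((α (α a) : S) : G) := by rw [hα, hα]; group
  obtain ⟨hn1, hn2⟩ := hneq a ha
  obtain ⟨hm1, hm2⟩ := hneq (α a) ha1
  have hna : α (α a) ≠ a ∧ α (α a) ≠ a⁻¹ :=
    ⟨fun h => (hfix a (Or.inl h)).elim hn1 hn2, fun h => (hfix a (Or.inr h)).elim hn1 hn2⟩
  rcases hsplit a (α a) ha ha1 hn1 hn2 b hb with c | c | c | c | c | c
  · exact ⟨1, one_mem _, by rw [c]; exact hmap 1 a (by simp)⟩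
  · exact ⟨1, one_mem _, by rw [c, hinv]; exact hmap 1 a (by simp)⟩
  · exact ⟨g, hgN, by rw [c]; exact hmap g _ (hα a).symm⟩
  · exact ⟨g, hgN, by rw [c, hinv]; exact hmap g _ (hα a).symm⟩
  all_goals
    refine ⟨g * g, hg2, ?_⟩
    rcases hsplit a (α a) ha ha1 hn1 hn2 (α (α a)) ha2 with d | d | d | d | d | d
    · exact absurd d hna.1
    · exact absurd d hna.2
    · exact absurd d hm1
    · exact absurd d hm2
    · first
        | (rw [c, ← d]; exact hmap _ _ hc1)
        | (rw [c, hinv, ← d]; exact hmap _ _ hc1)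
    · first
        | (rw [c, ← d]; exact hmap _ _ hc1)
        | (rw [c, ← hinv (a * α a), ← d]; exact hmap _ _ hc1)

end Cfsg.Agent.S0950
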