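import Cfsg.Statements.S0951
import Cfsg.Agent.Lib.Block.KleinFour
import Cfsg.Agent.Lib.Block.CentralQuot
import Cfsg.Agent.Lib.Block.Principal
import Cfsg.Agent.Lib.Char.QuaternionSylow
import Cfsg.Agent.Lib.Invol.ThreePoint
import Cfsg.Agent.Lib.Fusion.PComplement
import Cfsg.Agent.Lib.PGroup.Basic
import Cfsg.Agent.Lib.Coprime.Core

set_option autoImplicit false
open Cfsg

namespace Cfsg.Agent.S0951

namespace Aux

open CfsgLib.Block CfsgLib.Invol CfsgLib.Block.Cyclic

theorem q8_inv_conj : ∀ q : QuaternionGroup 2, ∃ c, c * q * c⁻¹ = q⁻¹ := by decide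

set_option synthInstance.maxSize 2048 in
set_option synthInstance.maxHeartbeats 200000 in
theorem q8_six : ∀ x y t : QuaternionGroup 2, x * x ≠ 1 → y * y ≠ 1 → t * t ≠ 1 → y ≠ x → y ≠ x⁻¹ →
    t = x ∨ t = x⁻¹ ∨ t = y ∨ t = y⁻¹ ∨ t = x * y ∨ t = (x * y)⁻¹ := by decide +kernel

theorem q8_pow4 : ∀ q : QuaternionGroup 2, q * q * (q * q) = 1 := by decide

theorem q8_cent : ∀ x y : QuaternionGroup 2, y * y ≠ 1 → x * y = y * x →
    x = 1 ∨ x = y ∨ x = y * y ∨ x = y * y * y := by decide +kernel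

theorem q8_sq : ∀ q : QuaternionGroup 2, q * q = 1 → q = 1 ∨ q = .a 2 := by decide

universe u

section
variable {G : Type u} [Group G] [Finite G] (S : Sylow 2 G) (e : (S : Subgroup G) ≃* QuaternionGroup 2)

theorem not_complement (hO : ∀ N : Subgroup G, N.Normal → Odd (Nat.card N) → N = ⊥)
    (hG : (S : Subgroup G) ≠ ⊤) : ¬ Cfsg.HasNormalPComplement 2 G := by
  haveI : Fact (Nat.Prime 2) := ⟨Nat.prime_two⟩
  rintro ⟨P, N, hN, hc⟩
  have hodd : Odd (Nat.card N) := by
    rw [← hc.index_eq_card, ← Nat.not_even_iff_odd, even_iff_two_dvd]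
    exact P.not_dvd_index
  have hb := hO N hN hodd
  subst hb
  have hP : (P : Subgroup G) = ⊤ := Subgroup.isComplement'_bot_left.1 hc
  refine hG (Subgroup.eq_top_of_card_eq _ ?_)
  rw [S.card_eq_multiplicity, ← P.card_eq_multiplicity, hP, Subgroup.card_top]

include e in
theorem exists_central (hO : ∀ N : Subgroup G, N.Normal → Odd (Nat.card N) → N = ⊥) :
    ∃ z : G, z ∈ (S : Subgroup G) ∧ orderOf z = 2 ∧ (∀ g : G, Commute g z) ∧
      ∀ x : G, x * x = 1 → x = 1 ∨ x = z := by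
  haveI : Fact (Nat.Prime 2) := ⟨Nat.prime_two⟩
  set z' : (S : Subgroup G) := e.symm (.a 2) with hz'
  have hz'o : orderOf z' = 2 := by
    rw [invol_iff]
    refine ⟨e.injective ?_, fun h => ?_⟩
    · rw [map_mul, hz', e.apply_symm_apply, map_one]; decide
    · have := congrArg e h
      rw [hz', e.apply_symm_apply, map_one] at this
      exact absurd this (by decide)
  have huniq : ∀ x : G, x ∈ (S : Subgroup G) → x * x = 1 → x = 1 ∨ x = (z' : G) := fun x hx h => by
    have h1 : e ⟨x, hx⟩ * e ⟨x, hx⟩ = 1 := by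
      rw [← map_mul, ← map_one e]; exact congrArg e (Subtype.ext h)
    rcases q8_sq _ h1 with h2 | h2
    · exact Or.inl (congrArg Subtype.val (e.injective (h2.trans (map_one e).symm)))
    · right
      rw [hz', ← h2, e.symm_apply_apply]
  have hzo : orderOf (z' : G) = 2 := by rw [Subgroup.orderOf_coe, hz'o]
  have hzc := zcentral_of_unique_invol S hzo fun x hx hxo =>
    (huniq x hx (invol_mul_self hxo)).resolve_left (invol_ne_one hxo)
  have hbot : Cfsg.pPrimeCore 2 G = ⊥ := by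
    haveI := CfsgLib.Coprime.pPrimeCore_characteristic (G := G) 2
    refine hO _ inferInstance ?_
    exact Nat.coprime_two_right.1 (CfsgLib.PGroup.card_pPrimeCore_coprime (G := G) 2)
  have hcomm : ∀ g : G, Commute g (z' : G) := fun g => by
    have h1 := hzc g
    rw [hbot, Subgroup.mem_bot, mul_inv_eq_one, mul_inv_eq_iff_eq_mul] at h1
    exact h1.symm
  refine ⟨z', z'.2, hzo, hcomm, fun x hx => ?_⟩
  by_cases hx1 : x = 1
  · exact Or.inl hx1
  right
  have hxo : orderOf x = 2 := invol_iff.2 ⟨hx, hx1⟩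
  obtain ⟨g, hg⟩ := CfsgLib.Invol.exists_conj_le_sylow (Q := Subgroup.zpowers x)
    (IsPGroup.of_card (n := 1) (by rw [Nat.card_zpowers, hxo, pow_one])) S
  have h2 := (huniq _ (hg x (Subgroup.mem_zpowers x)) (invol_mul_self (invol_conj hxo g))).resolve_left
    (invol_ne_one (invol_conj hxo g))
  have h3 : x = g⁻¹ * (z' : G) * g := by rw [← h2]; group
  rw [h3, mul_assoc, ← (hcomm g).eq, ← mul_assoc, inv_mul_cancel, one_mul]

include e in
theorem four_in_sylow {q : G} (hq : q ∈ (S : Subgroup G)) : q * q * (q * q) = 1 :=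
  congrArg Subtype.val (e.injective (a₁ := ⟨q, hq⟩ * ⟨q, hq⟩ * (⟨q, hq⟩ * ⟨q, hq⟩)) (a₂ := 1)
    (by simp only [map_mul, map_one]; exact q8_pow4 _))

include e in
theorem conj_four (hO : ∀ N : Subgroup G, N.Normal → Odd (Nat.card N) → N = ⊥)
    (hG : (S : Subgroup G) ≠ ⊤) {s t : G} (hs : s ∈ (S : Subgroup G)) (ht : t ∈ (S : Subgroup G))
    (hs2 : s * s ≠ 1) (ht2 : t * t ≠ 1) : IsConj s t := by
  haveI : Fact (Nat.Prime 2) := ⟨Nat.prime_two⟩
  obtain ⟨z, -, -, hzc, hz1⟩ := exists_central S e hO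
  have hloc : ¬ CfsgLib.Fusion.LocallyPNilpotentAction 2 (S : Subgroup G) := fun h =>
    not_complement S hO hG (CfsgLib.Fusion.hasNormalPComplement_of_locallyPNilpotentAction S h)
  simp only [CfsgLib.Fusion.LocallyPNilpotentAction, not_forall] at hloc
  obtain ⟨Q, hQ, g, hgN, hgc, hgC⟩ := hloc
  have hcj : ∀ {a : G}, a ∈ Q → g * a * g⁻¹ ∈ Q := fun ha =>
    (Subgroup.mem_normalizer_iff.1 hgN _).1 ha
  have hodd : Odd (orderOf g) := Nat.coprime_two_right.1 hgc
  have hpow : ∀ a : G, Commute (g ^ 4) a → Commute g a := fun a h => by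
    obtain ⟨m, hm⟩ : ∃ m, (g ^ 4) ^ m = g :=
      exists_pow_eq_self_of_coprime (Nat.Coprime.pow_left 2 hgc.symm : Nat.Coprime (2 ^ 2) _)
    rw [← hm]
    exact h.pow_left m
  -- an element moved out of its class in `S`
  obtain ⟨x, hxQ, hx1, hx2⟩ : ∃ x ∈ Q, g * x * g⁻¹ ≠ x ∧ g * x * g⁻¹ ≠ x⁻¹ := by
    by_contra hcon
    push_neg at hcon
    refine hgC (Subgroup.mem_centralizer_iff.2 fun a ha => (hpow a ?_).eq.symm)
    have h2 : Commute (g ^ 2) a := by
      by_cases h : g * a * g⁻¹ = a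
      · exact Commute.pow_left (mul_inv_eq_iff_eq_mul.1 h) 2
      · have h1 := hcon a ha h
        have h3 : g ^ 2 * a * (g ^ 2)⁻¹ = a := by
          rw [show g ^ 2 * a * (g ^ 2)⁻¹ = g * (g * a * g⁻¹) * g⁻¹ by simp only [pow_two, mul_inv_rev, mul_assoc], h1,
            show g * a⁻¹ * g⁻¹ = (g * a * g⁻¹)⁻¹ by group, h1, inv_inv]
        exact mul_inv_eq_iff_eq_mul.1 h3
    rw [show (g ^ 4) = (g ^ 2) ^ 2 by rw [← pow_mul]]
    exact h2.pow_left 2
  set y := g * x * g⁻¹ with hy
  have hyQ : y ∈ Q := hcj hxQ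
  set w := g * y * g⁻¹ with hw
  have hwQ : w ∈ Q := hcj hyQ
  have hxx : x * x ≠ 1 := fun h => by
    rcases hz1 x h with rfl | rfl
    · exact hx1 (by rw [hy]; group)
    · exact hx1 (by rw [hy, (hzc g).eq]; group)
  have hyy : y * y ≠ 1 := fun h => hxx (by
    rw [hy, show g * x * g⁻¹ * (g * x * g⁻¹) = g * (x * x) * g⁻¹ by group, mul_inv_eq_one] at h
    simpa using h)
  have hww : w * w ≠ 1 := fun h => hyy (by
    rw [hw, show g * y * g⁻¹ * (g * y * g⁻¹) = g * (y * y) * g⁻¹ by group, mul_inv_eq_one] at h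
    simpa using h)
  have hwy : w ≠ y ∧ w ≠ y⁻¹ := by
    refine ⟨fun h => hx1 (mul_left_cancel (mul_right_cancel (h : g * y * g⁻¹ = g * x * g⁻¹))), fun h => hx2 ?_⟩
    have : g * y * g⁻¹ = g * x⁻¹ * g⁻¹ := by
      rw [← hw, h, hy]; group
    exact mul_left_cancel (mul_right_cancel this)
  have hwx : w ≠ x ∧ w ≠ x⁻¹ := by
    have hc : Commute (g ^ 4) x → False := fun h => hx1 (mul_inv_eq_iff_eq_mul.2 (hpow x h).eq)
    have e2 : g ^ 2 * x * (g ^ 2)⁻¹ = w := by
      rw [hw, hy]; simp only [pow_two, mul_inv_rev, mul_assoc]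
    refine ⟨fun h => hc ?_, fun h => hc ?_⟩
    · rw [show (g ^ 4) = (g ^ 2) ^ 2 by rw [← pow_mul]]
      exact Commute.pow_left (mul_inv_eq_iff_eq_mul.1 (e2.trans h)) 2
    · refine mul_inv_eq_iff_eq_mul.1 ?_
      rw [show g ^ 4 * x * (g ^ 4)⁻¹ = g ^ 2 * (g ^ 2 * x * (g ^ 2)⁻¹) * (g ^ 2)⁻¹ by group, e2, h,
        show g ^ 2 * x⁻¹ * (g ^ 2)⁻¹ = (g ^ 2 * x * (g ^ 2)⁻¹)⁻¹ by group, e2, h, inv_inv]
  have hinv : ∀ a : G, a ∈ (S : Subgroup G) → IsConj a a⁻¹ := fun a ha => by
    obtain ⟨c, hc⟩ := q8_inv_conj (e ⟨a, ha⟩)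
    refine isConj_iff.2 ⟨(e.symm c : G), ?_⟩
    have := congrArg e.symm hc
    simp only [map_mul, map_inv, e.symm_apply_apply] at this
    exact congrArg Subtype.val this
  have hxyc : IsConj x y := isConj_iff.2 ⟨g, hy.symm⟩
  have hxwc : IsConj x w := hxyc.trans (isConj_iff.2 ⟨g, hw.symm⟩)
  have six : ∀ t : G, t ∈ (S : Subgroup G) → t * t ≠ 1 →
      t = x ∨ t = x⁻¹ ∨ t = y ∨ t = y⁻¹ ∨ t = x * y ∨ t = (x * y)⁻¹ := fun t ht ht2 => by
    have key : ∀ {a b : (S : Subgroup G)}, e a = e b → (a : G) = b := fun h =>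
      congrArg Subtype.val (e.injective h)
    have hne : ∀ (a : G) (ha : a ∈ (S : Subgroup G)), a * a ≠ 1 → e ⟨a, ha⟩ * e ⟨a, ha⟩ ≠ 1 :=
      fun a ha h h' => h (key (a := ⟨a, ha⟩ * ⟨a, ha⟩) (b := 1) (by rw [map_mul, map_one, h']))
    rcases q8_six _ _ _ (hne x (hQ hxQ) hxx) (hne y (hQ hyQ) hyy) (hne t ht ht2)
      (fun h => hx1 (key (a := ⟨y, hQ hyQ⟩) (b := ⟨x, hQ hxQ⟩) h))
      (fun h => hx2 (key (a := ⟨y, hQ hyQ⟩) (b := ⟨x, hQ hxQ⟩⁻¹) (by rw [map_inv]; exact h)))
      with h | h | h | h | h | h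
    all_goals (try simp only [← map_inv, ← map_mul] at h)
    all_goals (have := key h; try simp only [Subgroup.coe_mul, InvMemClass.coe_inv] at this; tauto)
  have hwxy : w = x * y ∨ w = (x * y)⁻¹ := by
    rcases six w (hQ hwQ) hww with h | h | h | h | h
    exacts [absurd h hwx.1, absurd h hwx.2, absurd h hwy.1, absurd h hwy.2, h]
  have hall : ∀ t : G, t ∈ (S : Subgroup G) → t * t ≠ 1 → IsConj x t := fun t ht ht2 => by
    rcases six t ht ht2 with rfl | rfl | rfl | rfl | h | h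
    · exact IsConj.refl _
    · exact hinv _ (hQ hxQ)
    · exact hxyc
    · exact hxyc.trans (hinv _ (hQ hyQ))
    all_goals
      rcases hwxy with h' | h'
      all_goals first
        | (rw [h, ← h']; exact hxwc)
        | (rw [h, show x * y = w⁻¹ by rw [h', inv_inv]]; exact hxwc.trans (hinv _ (hQ hwQ)))
        | (rw [h, ← h']; exact hxwc.trans (hinv _ (hQ hwQ)))
  exact (hall s hs hs2).symm.trans (hall t ht ht2)

include e in
theorem conj_four_global (hO : ∀ N : Subgroup G, N.Normal → Odd (Nat.card N) → N = ⊥)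
    (hG : (S : Subgroup G) ≠ ⊤) {a b : G} (ha : ∃ k : ℕ, orderOf a = 2 ^ k) (hb : ∃ k : ℕ, orderOf b = 2 ^ k)
    (ha2 : a * a ≠ 1) (hb2 : b * b ≠ 1) : IsConj a b := by
  haveI : Fact (Nat.Prime 2) := ⟨Nat.prime_two⟩
  have mv : ∀ c : G, (∃ k : ℕ, orderOf c = 2 ^ k) → c * c ≠ 1 →
      ∃ c' ∈ (S : Subgroup G), c' * c' ≠ 1 ∧ IsConj c c' := fun c ⟨k, hk⟩ h => by
    obtain ⟨g, hg⟩ := CfsgLib.Invol.exists_conj_le_sylow (Q := Subgroup.zpowers c)
      (IsPGroup.of_card (n := k) (by rw [Nat.card_zpowers, hk])) S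
    refine ⟨_, hg c (Subgroup.mem_zpowers c), fun h' => h ?_, isConj_iff.2 ⟨g, rfl⟩⟩
    rw [show g * c * g⁻¹ * (g * c * g⁻¹) = g * (c * c) * g⁻¹ by group, mul_inv_eq_one] at h'
    simpa using h'
  obtain ⟨a', ha', ha'2, hac⟩ := mv a ha ha2
  obtain ⟨b', hb', hb'2, hbc⟩ := mv b hb hb2
  exact hac.trans ((conj_four S e hO hG ha' hb' ha'2 hb'2).trans hbc.symm)

end

open scoped Classical in
/-- Passing to the quotient by a central subgroup of order `p` keeps the rank of the principal block. -/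
theorem blockRank_principal_quotient {p : ℕ} [Fact p.Prime] {M : Ideal AlgInt} [M.IsMaximal]
    {A : Type u} [Group A] [Fintype A] [Fintype (IrrCharacter A)]
    {Z : Subgroup A} [Z.Normal] [Fintype (A ⧸ Z)] [Fintype (IrrCharacter (A ⧸ Z))]
    (hM : IsPModular p M) (hZcard : Nat.card Z = p) (hZc : Z ≤ Subgroup.center A) :
    blockRank p (principalBlock M A) = blockRank p (principalBlock M (A ⧸ Z)) := by
  have hZp : IsPGroup p Z := IsPGroup.of_card (n := 1) (by rw [hZcard, pow_one])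
  have hq : quotSet Z (principalBlock M A) = principalBlock M (A ⧸ Z) :=
    Set.ext fun θ => inflQ_mem_principalBlock_iff hM hZp hZc θ
  have h1 := (blockRank_le_card_quotSet hM hZcard hZc (isPBlock_principalBlock (M := M) (G := A))).2
  rw [hq] at h1
  refine Nat.cast_injective (R := ℂ) ?_
  rw [h1, blockRank_eq_sum_regInner hM (.of_isPBlock isPBlock_principalBlock), Finset.mul_sum]
  refine Finset.sum_congr rfl fun θ _ => ?_
  rw [regInner, regInner]
  refine (classInner_pushReg hZcard hZc (inflQ θ : A → ℂ) (θ : A ⧸ Z → ℂ)).symm.trans ?_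
  congr 1
  funext q
  by_cases hq : p ∣ orderOf q
  · rw [pushReg_singular _ hq, regFun, if_pos hq]
  · obtain ⟨y, hy, rfl⟩ := exists_regular_lift hZp hq
    rw [pushReg_mk hZp hZc _ hy, regFun, if_neg hq, inflQ_apply]

open scoped Classical in
theorem rank_three {M : Ideal AlgInt} {G : Type u} [Group G] [Finite G] (hM : IsPModular 2 M)
    (S : Sylow 2 G) (e : (S : Subgroup G) ≃* QuaternionGroup 2)
    (hO : ∀ N : Subgroup G, N.Normal → Odd (Nat.card N) → N = ⊥) (hG : (S : Subgroup G) ≠ ⊤) :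
    blockRank 2 (principalBlock M G) = 3 := by
  haveI : Fact (Nat.Prime 2) := ⟨Nat.prime_two⟩
  haveI := hM.2.1
  haveI := Fintype.ofFinite G
  haveI := Fintype.ofFinite (IrrCharacter G)
  obtain ⟨z, hzS, hzo, hzc, hz1⟩ := exists_central S e hO
  set Z : Subgroup G := Subgroup.zpowers z with hZ
  have hZc : Z ≤ Subgroup.center G := Subgroup.zpowers_le.2 (Subgroup.mem_center_iff.2 fun g => (hzc g).eq)
  haveI hZn : Z.Normal := ⟨fun n hn g => by
    rw [Subgroup.mem_center_iff.1 (hZc hn) g]; simpa using hn⟩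
  have hZcard : Nat.card Z = 2 := by rw [hZ, Nat.card_zpowers, hzo]
  haveI := Fintype.ofFinite (G ⧸ Z)
  haveI := Fintype.ofFinite (IrrCharacter (G ⧸ Z))
  rw [blockRank_principal_quotient hM hZcard hZc]
  have hmem : ∀ q : G, q * q = 1 → q ∈ Z := fun q hq => by
    rcases hz1 q hq with rfl | rfl
    exacts [one_mem _, Subgroup.mem_zpowers _]
  set P : Sylow 2 (G ⧸ Z) := S.mapSurjective (QuotientGroup.mk'_surjective Z)
  have hP : Nat.card P = 4 := by
    show Nat.card ((S : Subgroup G).map (QuotientGroup.mk' Z)) = 4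
    have h8 : Nat.card (S : Subgroup G) = 8 := by
      rw [Nat.card_congr e.toEquiv, Nat.card_eq_fintype_card, QuaternionGroup.card]
    set f := (QuotientGroup.mk' Z).comp (S : Subgroup G).subtype with hf
    have hr : f.range = (S : Subgroup G).map (QuotientGroup.mk' Z) := by
      rw [hf, MonoidHom.range_comp, Subgroup.range_subtype]
    have hk : f.ker = Z.subgroupOf (S : Subgroup G) := by
      rw [hf, ← MonoidHom.comap_ker, QuotientGroup.ker_mk']; rfl
    have h := Subgroup.card_eq_card_quotient_mul_card_subgroup f.ker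
    rw [Nat.card_congr (QuotientGroup.quotientKerEquivRange f).toEquiv, hr, hk,
      Nat.card_congr (Subgroup.subgroupOfEquivOfLe (Subgroup.zpowers_le.2 hzS)).toEquiv, hZcard, h8] at h
    omega
  have hexp : ∀ v ∈ (P : Subgroup (G ⧸ Z)), v * v = 1 := by
    rintro v ⟨s, hs, rfl⟩
    rw [← map_mul, QuotientGroup.mk'_apply, QuotientGroup.eq_one_iff]
    exact hmem _ (four_in_sylow S e hs)
  have hlift : ∀ a : G ⧸ Z, orderOf a = 2 →
      ∃ g : G, (g : G ⧸ Z) = a ∧ g * g ≠ 1 ∧ ∃ k : ℕ, orderOf g = 2 ^ k := by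
    intro a ha
    obtain ⟨g, rfl⟩ := QuotientGroup.mk_surjective a
    obtain ⟨h1, h2⟩ := invol_iff.1 ha
    have hgg : g * g ∈ Z := (QuotientGroup.eq_one_iff _).1 (by rw [QuotientGroup.mk_mul]; exact h1)
    have h4 : (g * g) ^ 2 = 1 := orderOf_dvd_iff_pow_eq_one.1 (hZcard ▸ Subgroup.orderOf_dvd_natCard Z hgg)
    refine ⟨g, rfl, fun h => h2 ((QuotientGroup.eq_one_iff g).2 (hmem g h)), ?_⟩
    obtain ⟨k, -, hk⟩ := (Nat.dvd_prime_pow Nat.prime_two (m := 2)).1
      (orderOf_dvd_of_pow_eq_one (show g ^ 4 = 1 by rw [show 4 = 2 * 2 from rfl, pow_mul, pow_two g]; exact h4))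
    exact ⟨k, hk⟩
  obtain ⟨u, hu, s, hs⟩ := exists_kleinData hM P hP hexp fun a b ha hb => by
    obtain ⟨g, rfl, hg, hgp⟩ := hlift a ha
    obtain ⟨g', rfl, hg', hg'p⟩ := hlift b hb
    exact MonoidHom.map_isConj (QuotientGroup.mk' Z) (conj_four_global S e hO hG hgp hg'p hg hg')
  exact hs.blockRank_eq hM hu

open scoped Classical in
theorem rank_three_top {M : Ideal AlgInt} {G : Type u} [Group G] [Finite G] (hM : IsPModular 2 M)
    (S : Sylow 2 G) (e : (S : Subgroup G) ≃* QuaternionGroup 2)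
    (hO : ∀ N : Subgroup G, N.Normal → Odd (Nat.card N) → N = ⊥) (hG : (S : Subgroup G) ≠ ⊤)
    {H : Subgroup G} (hH : H = ⊤) : blockRank 2 (principalBlock M H) = 3 := by
  subst hH
  have hle : (S : Subgroup G) ≤ ⊤ := le_top
  refine rank_three hM (S.subtype hle) ((Subgroup.subgroupOfEquivOfLe hle).trans e) (fun N hN hodd => ?_) ?_
  · have h := hO (N.map (⊤ : Subgroup G).subtype) (hN.map _ fun g => ⟨⟨g, trivial⟩, rfl⟩)
      (by rwa [Subgroup.card_map_of_injective Subtype.val_injective])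
    exact (Subgroup.map_eq_bot_iff_of_injective _ Subtype.val_injective).1 h
  · intro h
    exact hG (top_le_iff.1 ((Subgroup.subgroupOf_eq_top).1 h))

open scoped Classical in
theorem rank_one {M : Ideal AlgInt} {G : Type u} [Group G] [Finite G] (hM : IsPModular 2 M)
    (S : Sylow 2 G) (e : (S : Subgroup G) ≃* QuaternionGroup 2) {i : G}
    (hi : ∃ k : ℕ, orderOf i = 2 ^ k) (hii : i * i ≠ 1) :
    blockRank 2 (principalBlock M (Subgroup.centralizer ({i} : Set G))) = 1 := by
  haveI : Fact (Nat.Prime 2) := ⟨Nat.prime_two⟩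
  haveI := hM.2.1
  haveI := Fintype.ofFinite G
  haveI := Fintype.ofFinite (IrrCharacter (Subgroup.centralizer ({i} : Set G)))
  set C := Subgroup.centralizer ({i} : Set G) with hC
  have hiC : i ∈ C := Subgroup.mem_centralizer_singleton_iff.2 rfl
  refine (blockRank_principal_eq_one_iff hM).2 ?_
  obtain ⟨T⟩ : Nonempty (Sylow 2 C) := inferInstance
  refine CfsgLib.Invol.hasNormalPComplement_two_of_isCyclic T ?_
  have hiT : (⟨i, hiC⟩ : C) ∈ (T : Subgroup C) := by
    haveI : (Subgroup.zpowers (⟨i, hiC⟩ : C)).Normal := ⟨fun n hn c => by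
      obtain ⟨m, rfl⟩ := Subgroup.mem_zpowers_iff.1 hn
      have hc : Commute c ⟨i, hiC⟩ := Subtype.ext (Subgroup.mem_centralizer_singleton_iff.1 c.2)
      rw [(hc.zpow_right m).eq, mul_inv_cancel_right]
      exact Subgroup.zpow_mem_zpowers _ m⟩
    obtain ⟨k, hk⟩ := hi
    exact IsPGroup.le_sylow_of_normal (IsPGroup.of_card (n := k) (by
      rw [Nat.card_zpowers, ← Subgroup.orderOf_coe, hk])) T (Subgroup.mem_zpowers _)
  obtain ⟨g, hg⟩ := CfsgLib.Invol.exists_conj_le_sylow (T.isPGroup'.map C.subtype) S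
  set j : (S : Subgroup G) := ⟨g * i * g⁻¹, hg i ⟨_, hiT, rfl⟩⟩
  let f : (T : Subgroup C) →* QuaternionGroup 2 :=
    { toFun := fun t => e ⟨g * ((t : C) : G) * g⁻¹, hg _ ⟨_, t.2, rfl⟩⟩
      map_one' := by
        rw [← map_one e]
        congr 1
        exact Subtype.ext (by simp)
      map_mul' := fun a b => by
        rw [← map_mul]
        congr 1
        exact Subtype.ext (by simp only [Subgroup.coe_mul]; group) }
  have hf : Function.Injective f := fun a b h => by
    have := congrArg Subtype.val (e.injective h)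
    exact Subtype.ext (Subtype.ext (mul_left_cancel (mul_right_cancel this)))
  have hrange : f.range ≤ Subgroup.zpowers (e j) := by
    rintro _ ⟨t, rfl⟩
    have hj : e j * e j ≠ 1 := fun h => hii (by
      rw [← map_mul, ← map_one e] at h
      have h' : g * i * g⁻¹ * (g * i * g⁻¹) = 1 := congrArg Subtype.val (e.injective h)
      rw [show g * i * g⁻¹ * (g * i * g⁻¹) = g * (i * i) * g⁻¹ by group, mul_inv_eq_one] at h'
      simpa using h')
    have hcom : f t * e j = e j * f t := by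
      show e _ * e j = e j * e _
      rw [← map_mul, ← map_mul]
      congr 1
      refine Subtype.ext ?_
      show g * ((t : C) : G) * g⁻¹ * (g * i * g⁻¹) = g * i * g⁻¹ * (g * ((t : C) : G) * g⁻¹)
      rw [show g * ((t : C) : G) * g⁻¹ * (g * i * g⁻¹) = g * (((t : C) : G) * i) * g⁻¹ by group,
        Subgroup.mem_centralizer_singleton_iff.1 (t : C).2]
      group
    rcases q8_cent _ _ hj hcom with h | h | h | h <;> rw [h]
    · exact one_mem _
    · exact Subgroup.mem_zpowers _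
    · exact mul_mem (Subgroup.mem_zpowers _) (Subgroup.mem_zpowers _)
    · exact mul_mem (mul_mem (Subgroup.mem_zpowers _) (Subgroup.mem_zpowers _)) (Subgroup.mem_zpowers _)
  haveI : IsCyclic f.range := Subgroup.isCyclic_of_le hrange
  exact isCyclic_of_surjective (MonoidHom.ofInjective hf).symm.toMonoidHom (MonoidHom.ofInjective hf).symm.surjective

end Aux

/-- Let S be a Sylow 2-subgroup of the finite group G isomorphic to the quaternion group of order 8. Suppose G has no nontrivial normal subgroup of odd order and G ≠ S. Then, relative to any maximal ideal M of the algebraic integers containing 2, the principal block of G consists of exactly 7 irreducible characters. -/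
theorem result {G : Type*} [Group G] [Finite G] (M : Ideal Cfsg.AlgInt) (hM : Cfsg.IsPModular 2 M) (S : Sylow 2 G) (e : (S : Subgroup G) ≃* QuaternionGroup 2) (hO : ∀ N : Subgroup G, N.Normal → Odd (Nat.card N) → N = ⊥) (hG : (S : Subgroup G) ≠ ⊤) : Nat.card (Cfsg.principalBlock M G) = 7 := by
  classical
  haveI : Fact (Nat.Prime 2) := ⟨Nat.prime_two⟩
  haveI := hM.2.1
  haveI := Fintype.ofFinite G
  haveI : ∀ H : Subgroup G, Fintype H := fun H => Fintype.ofFinite H
  haveI := Fintype.ofFinite (IrrCharacter G)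
  haveI : ∀ H : Subgroup G, Fintype (IrrCharacter H) := fun H => Fintype.ofFinite _
  obtain ⟨z, hzS, hzo, hzc, hz1⟩ := Aux.exists_central S e hO
  set j : (S : Subgroup G) := e.symm (.a 1) with hj
  set i : G := (j : G) with hi
  have hii : i * i ≠ 1 := fun h => by
    have h' := congrArg e (Subtype.ext h : j * j = 1)
    rw [map_mul, hj, e.apply_symm_apply, map_one] at h'
    exact absurd h' (by decide)
  have hzz : z * z = 1 := CfsgLib.Invol.invol_mul_self hzo
  have hz_ne : z ≠ 1 := CfsgLib.Invol.invol_ne_one hzo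
  have hip : ∃ k : ℕ, orderOf i = 2 ^ k := by
    obtain ⟨k, hk⟩ := (IsPGroup.iff_orderOf.1 S.isPGroup') j
    exact ⟨k, by rw [hi, Subgroup.orderOf_coe, hk]⟩
  have h1i : (1 : G) ≠ i := fun h => hii (by rw [← h, one_mul])
  have hzi : z ≠ i := fun h => hii (h ▸ hzz)
  have hX : ∀ x ∈ ({1, z, i} : Finset G), ∃ k : ℕ, orderOf x = 2 ^ k := by
    intro x hx
    simp only [Finset.mem_insert, Finset.mem_singleton] at hx
    rcases hx with rfl | rfl | rfl
    exacts [⟨0, orderOf_one⟩, ⟨1, hzo⟩, hip]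
  have hXrep : ∀ g : G, (∃ k : ℕ, orderOf g = 2 ^ k) →
      ∃! x, x ∈ ({1, z, i} : Finset G) ∧ IsConj g x := by
    intro g hg
    have hmem : ∀ x : G, x ∈ ({1, z, i} : Finset G) ↔ x = 1 ∨ x = z ∨ x = i := fun x => by simp
    by_cases hgg : g * g = 1
    · rcases hz1 g hgg with rfl | rfl
      · refine ⟨1, ⟨(hmem _).2 (Or.inl rfl), IsConj.refl _⟩, fun x hx => (isConj_one_right.1 hx.2)⟩
      · refine ⟨g, ⟨(hmem _).2 (Or.inr (Or.inl rfl)), IsConj.refl _⟩, fun x hx => ?_⟩
        obtain ⟨c, hc⟩ := isConj_iff.1 hx.2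
        rw [← hc, (hzc c).eq, mul_inv_cancel_right]
    · refine ⟨i, ⟨(hmem _).2 (Or.inr (Or.inr rfl)), Aux.conj_four_global S e hO hG hg hip hgg hii⟩,
        fun x hx => ?_⟩
      obtain ⟨c, hc⟩ := isConj_iff.1 hx.2
      have hne : x * x ≠ 1 := fun h => hgg (by
        rw [← hc, show c * g * c⁻¹ * (c * g * c⁻¹) = c * (g * g) * c⁻¹ by group, mul_inv_eq_one] at h
        simpa using h)
      rcases (hmem x).1 hx.1 with rfl | rfl | rfl
      exacts [absurd (one_mul _) hne, absurd hzz hne, rfl]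
  have hB := CfsgLib.Block.isPBlock_principalBlock (M := M) (G := G)
  have hset : ∀ x : G, (∃ k : ℕ, orderOf x = 2 ^ k) →
      (∑ᶠ b ∈ {b : Set (IrrCharacter (Subgroup.centralizer ({x} : Set G))) |
        IsInducedBlock M (Subgroup.centralizer ({x} : Set G)) b (principalBlock M G)}, blockRank 2 b) =
      blockRank 2 (principalBlock M (Subgroup.centralizer ({x} : Set G))) := by
    intro x hx
    have hC : ∀ t : G, t ∈ Subgroup.centralizer ({x} : Set G) ↔ Commute t x := fun t =>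
      Subgroup.mem_centralizer_singleton_iff
    have : {b : Set (IrrCharacter (Subgroup.centralizer ({x} : Set G))) |
        IsInducedBlock M (Subgroup.centralizer ({x} : Set G)) b (principalBlock M G)} =
        {principalBlock M (Subgroup.centralizer ({x} : Set G))} := by
      ext b
      constructor
      · exact fun hb => (CfsgLib.Block.isInducedBlock_principal_iff hM hb).1 rfl
      · rintro rfl
        obtain ⟨B, hB⟩ := CfsgLib.Block.exists_induced_centralizer hM hx hC
          (CfsgLib.Block.isPBlock_principalBlock (M := M))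
        rwa [(CfsgLib.Block.isInducedBlock_principal_iff hM hB).mpr rfl] at hB
    rw [this, finsum_mem_singleton]
  have htop : ∀ x : G, (∀ g : G, Commute g x) → Subgroup.centralizer ({x} : Set G) = ⊤ := fun x h =>
    top_le_iff.1 fun g _ => Subgroup.mem_centralizer_singleton_iff.2 (h g).eq
  rw [CfsgLib.Block.card_block_eq_sum_rank hM hB {1, z, i} hX hXrep,
    Finset.sum_congr rfl fun x hx => hset x (hX x hx),
    Finset.sum_insert (by simp [hz_ne.symm, h1i]), Finset.sum_pair hzi,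
    Aux.rank_three_top hM S e hO hG (htop 1 Commute.one_right),
    Aux.rank_three_top hM S e hO hG (htop z hzc), Aux.rank_one hM S e hip hii]
  norm_num


end Cfsg.Agent.S0951
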