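import Cfsg.Statements.S0952
import Cfsg.Agent.Lib.Block.Orthogonality

set_option autoImplicit false
open scoped ComplexConjugate
open Cfsg CfsgLib.Block

namespace Cfsg.Agent.S0952

/-- Let χ and ψ be irreducible characters of the finite group G lying in different blocks relative to a maximal ideal M of the algebraic integers containing the prime p. Then the sum of χ x * conj (ψ x) over the elements x of order prime to p is zero. -/
theorem result {G : Type*} [Group G] [Finite G] (p : ℕ) [Fact p.Prime] (M : Ideal Cfsg.AlgInt) (hM : Cfsg.IsPModular p M) (χ ψ : Cfsg.IrrCharacter G) (h : ¬ Cfsg.SameBlock M (χ : G → ℂ) (ψ : G → ℂ)) : ∑ᶠ x ∈ {x : G | ¬ p ∣ orderOf x}, (χ : G → ℂ) x * conj ((ψ : G → ℂ) x) = 0 := by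
  classical
  have := hM.2.1
  letI := Fintype.ofFinite G
  have := Fintype.ofFinite (IrrCharacter G)
  let B := blockOf M (χ : G → ℂ)
  have hB : IsBlockUnion M B := IsBlockUnion.of_isPBlock (isPBlock_blockOf χ)
  have hχB : χ ∈ B := self_mem_blockOf χ
  have hψB : ψ ∉ B := h
  rw [finsum_mem_eq_toFinset_sum]
  set R := ({x : G | ¬ p ∣ orderOf x} : Set G).toFinset with hR
  let K : G → G → ℂ := fun x g => ∑ θ ∈ B.toFinset, (θ : G → ℂ) x * conj ((θ : G → ℂ) g)
  have hK : ∀ x g, ¬ p ∣ orderOf x → p ∣ orderOf g → K x g = 0 := fun x g hx hg => by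
    have h := blockUnion_orthogonal_regular_singular hM hB hx hg
    rwa [finsum_mem_eq_toFinset_sum] at h
  have hK' : ∀ x g, p ∣ orderOf x → ¬ p ∣ orderOf g → K x g = 0 := fun x g hx hg => by
    have h := congrArg conj (hK g x hg hx)
    simp only [K, map_sum, map_mul, Complex.conj_conj, map_zero] at h
    rw [← h]
    exact Finset.sum_congr rfl fun θ _ => mul_comm _ _
  have hG : (Nat.card G : ℂ) ≠ 0 := Nat.cast_ne_zero.mpr Nat.card_pos.ne'
  have hinner : ∀ θ φ : IrrCharacter G,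
      ∑ g : G, (θ : G → ℂ) g * conj ((φ : G → ℂ) g) = if θ = φ then (Nat.card G : ℂ) else 0 := by
    intro θ φ
    have h := CfsgLib.Char.classInner_irr θ φ
    rw [classInner, inv_mul_eq_iff_eq_mul₀ hG] at h
    rw [h]
    split_ifs <;> simp
  have h1 : ∀ x, ¬ p ∣ orderOf x →
      (Nat.card G : ℂ) * (χ : G → ℂ) x = ∑ g ∈ R, (χ : G → ℂ) g * K x g := by
    intro x hx
    rw [Finset.sum_subset (Finset.subset_univ R) fun g _ hg => by
      rw [hK x g hx (by simpa [hR] using hg), mul_zero]]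
    simp only [K, Finset.mul_sum]
    rw [Finset.sum_comm, Finset.sum_congr rfl fun (θ : IrrCharacter G) _ => show
      ∑ g : G, (χ : G → ℂ) g * ((θ : G → ℂ) x * conj ((θ : G → ℂ) g)) =
        if χ = θ then (Nat.card G : ℂ) * (θ : G → ℂ) x else 0 by
      rw [Finset.sum_congr rfl fun g _ => show (χ : G → ℂ) g * ((θ : G → ℂ) x * conj ((θ : G → ℂ) g)) =
        (θ : G → ℂ) x * ((χ : G → ℂ) g * conj ((θ : G → ℂ) g)) by ring, ← Finset.mul_sum, hinner]
      split_ifs <;> simp [mul_comm]]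
    simp [hχB]
  have h2 : ∀ g, ¬ p ∣ orderOf g → ∑ x ∈ R, conj ((ψ : G → ℂ) x) * K x g = 0 := by
    intro g hg
    rw [Finset.sum_subset (Finset.subset_univ R) fun x _ hx => by
      rw [hK' x g (by simpa [hR] using hx) hg, mul_zero]]
    simp only [K, Finset.mul_sum]
    rw [Finset.sum_comm]
    refine Finset.sum_eq_zero fun θ hθ => ?_
    rw [Finset.sum_congr rfl fun x _ => show conj ((ψ : G → ℂ) x) * ((θ : G → ℂ) x * conj ((θ : G → ℂ) g)) =
      conj ((θ : G → ℂ) g) * ((θ : G → ℂ) x * conj ((ψ : G → ℂ) x)) by ring, ← Finset.mul_sum, hinner,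
      if_neg (fun (e : θ = ψ) => hψB (e ▸ Set.mem_toFinset.mp hθ)), mul_zero]
  apply mul_left_cancel₀ hG
  rw [mul_zero, Finset.mul_sum]
  rw [Finset.sum_congr rfl fun x hx => show
    (Nat.card G : ℂ) * ((χ : G → ℂ) x * conj ((ψ : G → ℂ) x)) =
      ∑ g ∈ R, (χ : G → ℂ) g * (conj ((ψ : G → ℂ) x) * K x g) by
    rw [← mul_assoc, h1 x (by simpa [hR] using hx), Finset.sum_mul]
    exact Finset.sum_congr rfl fun g _ => by ring]
  rw [Finset.sum_comm]
  refine Finset.sum_eq_zero fun g hg => ?_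
  rw [← Finset.mul_sum, h2 g (by simpa [hR] using hg), mul_zero]

end Cfsg.Agent.S0952
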