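import Cfsg.Statements.S0955
import Cfsg.Agent.Lib.Block.FirstMain
import Cfsg.Agent.Lib.Coprime.Core
-- import your own Cfsg.Agent.* helpers here

set_option autoImplicit false
open Cfsg CfsgLib.Block
open scoped CfsgLib.Block.Pair

namespace Cfsg.Agent.S0955

/-- Let D be a defect group of a block of the finite group G relative to a maximal ideal M of the algebraic integers containing the prime p. Then D is the largest normal p-subgroup of its own normalizer: O_p(N_G(D)) = D. -/
theorem result {G : Type*} [Group G] [Finite G] (p : ℕ) [Fact p.Prime] (M : Ideal Cfsg.AlgInt) (hM : Cfsg.IsPModular p M) (B : Set (Cfsg.IrrCharacter G)) (hB : Cfsg.IsPBlock M B) (D : Subgroup G) (hD : Cfsg.IsDefectGroup p M B D) : (Cfsg.pCore p (Subgroup.normalizer (D : Set G))).map (Subgroup.normalizer (D : Set G)).subtype = D := by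
  classical
  have := hM.2.1
  letI := Fintype.ofFinite G
  obtain ⟨b, ⟨hb, hbD, -⟩, -⟩ := existsUnique_normalizer_block hM hB hD
  have hDp := isPGroup_defectGroup hM hB hD
  have hle : D ≤ Subgroup.normalizer (D : Set G) := Subgroup.le_normalizer
  have h1 : D.subgroupOf (Subgroup.normalizer (D : Set G)) =
      Cfsg.pCore p (Subgroup.normalizer (D : Set G)) := by
    refine le_antisymm ?_ ?_
    · exact le_sSup ⟨Subgroup.normal_in_normalizer, hDp.of_equiv (Subgroup.subgroupOfEquivOfLe hle).symm⟩
    · have := CfsgLib.Coprime.pCore_normal' (G := Subgroup.normalizer (D : Set G)) p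
      exact normal_le_defectGroup hM hb hbD (CfsgLib.Coprime.pCore_isPGroup p)
  rw [← h1, Subgroup.map_subgroupOf_eq_of_le hle]

end Cfsg.Agent.S0955
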