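import Cfsg.Statements.S0957
import Cfsg.Agent.Lib.Block.Defect
-- import your own Cfsg.Agent.* helpers here

set_option autoImplicit false
open Cfsg CfsgLib.Block
open scoped ComplexConjugate

open Cfsg

namespace Cfsg.Agent.S0957

/-- Let P be a Sylow p-subgroup of the finite group G, let g, h ∈ G and let p ^ d be the order of a Sylow p-subgroup of the centralizer of g. Then the number of pairs (y, z) with y conjugate to g, z conjugate to h and z * y⁻¹ ∈ P is divisible by the order of P divided by p ^ d. -/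
theorem result {G : Type*} [Group G] [Finite G] (p : ℕ) [Fact p.Prime] (P : Sylow p G) (g h : G) (S : Sylow p (Subgroup.centralizer ({g} : Set G))) : Nat.card P / Nat.card S ∣ Nat.card {yz : G × G // IsConj g yz.1 ∧ IsConj h yz.2 ∧ yz.2 * yz.1⁻¹ ∈ (P : Subgroup G)} := by
  classical
  let X := {yz : G × G // IsConj g yz.1 ∧ IsConj h yz.2 ∧ yz.2 * yz.1⁻¹ ∈ (P : Subgroup G)}
  letI : MulAction (P : Subgroup G) X :=
    { smul := fun u x => ⟨((u : G) * x.1.1 * (u : G)⁻¹, (u : G) * x.1.2 * (u : G)⁻¹),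
        x.2.1.trans (isConj_iff.mpr ⟨u, rfl⟩), x.2.2.1.trans (isConj_iff.mpr ⟨u, rfl⟩), by
          rw [show (u : G) * x.1.2 * (u : G)⁻¹ * ((u : G) * x.1.1 * (u : G)⁻¹)⁻¹ =
            (u : G) * (x.1.2 * x.1.1⁻¹) * (u : G)⁻¹ by group]
          exact mul_mem (mul_mem u.2 x.2.2.2) (inv_mem u.2)⟩
      one_smul := fun x => Subtype.ext (Prod.ext (by show ((1 : (P : Subgroup G)) : G) * _ * _ = _; simp)
        (by show ((1 : (P : Subgroup G)) : G) * _ * _ = _; simp))
      mul_smul := fun a b x => Subtype.ext (Prod.ext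
        (by show ((a * b : (P : Subgroup G)) : G) * _ * _ = (a : G) * ((b : G) * _ * _) * _; simp [mul_assoc])
        (by show ((a * b : (P : Subgroup G)) : G) * _ * _ = (a : G) * ((b : G) * _ * _) * _; simp [mul_assoc])) }
  have := Fintype.ofFinite (Quotient (MulAction.orbitRel (P : Subgroup G) X))
  show _ ∣ Nat.card X
  rw [Nat.card_congr (MulAction.selfEquivSigmaOrbits (P : Subgroup G) X), Nat.card_sigma]
  refine Finset.dvd_sum fun ω _ => ?_
  have hst : Nat.card (MulAction.stabilizer (P : Subgroup G) ω.out) ∣ Nat.card S := by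
    obtain ⟨c, hc⟩ := isConj_iff.mp ω.out.2.1
    have hle : ((MulAction.stabilizer (P : Subgroup G) ω.out).map (P : Subgroup G).subtype).map
        (MulAut.conj c⁻¹).toMonoidHom ≤ Subgroup.centralizer ({g} : Set G) := by
      rintro _ ⟨_, ⟨u, hu, rfl⟩, rfl⟩
      have h1 : (u : G) * ω.out.1.1 * (u : G)⁻¹ = ω.out.1.1 := congrArg (fun y : X => y.1.1) hu
      rw [Subgroup.mem_centralizer_singleton_iff]
      rw [← hc, mul_inv_eq_iff_eq_mul] at h1
      show c⁻¹ * (u : G) * c⁻¹⁻¹ * g = g * (c⁻¹ * (u : G) * c⁻¹⁻¹)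
      calc c⁻¹ * (u : G) * c⁻¹⁻¹ * g = c⁻¹ * ((u : G) * (c * g * c⁻¹)) * c := by group
        _ = c⁻¹ * ((c * g * c⁻¹) * (u : G)) * c := by rw [h1]
        _ = g * (c⁻¹ * (u : G) * c⁻¹⁻¹) := by group
    have h2 := Subgroup.card_dvd_of_le hle
    rw [Subgroup.card_map_of_injective (f := (MulAut.conj c⁻¹).toMonoidHom) (MulAut.conj c⁻¹).injective,
      Subgroup.card_map_of_injective (Subgroup.subtype_injective _)] at h2
    obtain ⟨k, hk⟩ := IsPGroup.iff_card.mp (P.2.to_subgroup (MulAction.stabilizer (P : Subgroup G) ω.out))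
    rw [S.card_eq_multiplicity, hk]
    rw [hk] at h2
    exact Nat.pow_dvd_pow p ((Fact.out : p.Prime).pow_dvd_iff_le_factorization Nat.card_pos.ne' |>.mp h2)
  have horb := Nat.card_congr (MulAction.orbitProdStabilizerEquivGroup (P : Subgroup G) ω.out)
  rw [Nat.card_prod] at horb
  refine Nat.dvd_trans ?_ (dvd_of_eq rfl)
  rw [Nat.div_dvd_iff_dvd_mul ?_ Nat.card_pos]
  · rw [← horb, mul_comm]
    exact Nat.mul_dvd_mul_right hst _
  · obtain ⟨k, hk⟩ := IsPGroup.iff_card.mp S.2
    obtain ⟨a, ha⟩ := IsPGroup.iff_card.mp P.2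
    rw [hk, ha]
    refine Nat.pow_dvd_pow p ?_
    have h3 : p ^ k ∣ Nat.card G := hk ▸ (Subgroup.card_subgroup_dvd_card (S : Subgroup (Subgroup.centralizer ({g} : Set G)))).trans
      (Subgroup.card_subgroup_dvd_card (Subgroup.centralizer ({g} : Set G)))
    have h4 : a = (Nat.card G).factorization p := Nat.pow_right_injective (Fact.out : p.Prime).two_le
      (ha.symm.trans P.card_eq_multiplicity)
    exact h4 ▸ ((Fact.out : p.Prime).pow_dvd_iff_le_factorization Nat.card_pos.ne' |>.mp h3)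

end Cfsg.Agent.S0957
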