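import Cfsg.Statements.S0961
import Cfsg.Agent.Lib.Block.Cartan
-- import your own Cfsg.Agent.* helpers here

set_option autoImplicit false
open Cfsg CfsgLib.Block

open Cfsg

namespace Cfsg.Agent.S0961

/-- Let χ be an irreducible character of the finite group G and let p ^ a be the largest power of the prime p dividing the order of G. Then the function equal to p ^ a * χ x at elements x of order prime to p and to 0 elsewhere is a generalized character (a difference of characters). -/
theorem result {G : Type*} [Group G] [Finite G] (p : ℕ) [Fact p.Prime] (χ : Cfsg.IrrCharacter G) : Cfsg.IsGeneralizedCharacter G (fun x : G => if p ∣ orderOf x then 0 else ((p ^ (Nat.card G).factorization p : ℕ) : ℂ) * (χ : G → ℂ) x) := by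
  classical
  obtain ⟨M, hM⟩ := exists_pModular (Fact.out : p.Prime)
  have := hM.2.1
  letI := Fintype.ofFinite G
  have := Fintype.ofFinite (IrrCharacter G)
  have := Fintype.ofFinite (ConjClasses G)
  have e : (fun x : G => if p ∣ orderOf x then 0 else
      ((p ^ (Nat.card G).factorization p : ℕ) : ℂ) * (χ : G → ℂ) x) =
      ((p : ℂ) ^ (Nat.card G).factorization p) • regFun p (χ : G → ℂ) := funext fun x => by
    by_cases hx : p ∣ orderOf x <;> simp [regFun, hx]
  rw [e]
  refine CfsgLib.Char.isGeneralizedCharacter_of_int_inner (fun g h => ?_) fun ψ => ?_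
  · simp only [Pi.smul_apply, isClassFunction_regFun p (CfsgLib.Char.isClassFunction_irr χ) g h]
  · obtain ⟨I, hI, -⟩ := regInner_valuation hM χ ψ
    refine ⟨I, ?_⟩
    rw [CfsgLib.Char.classInner_smul_left, ← hI]
    rfl

end Cfsg.Agent.S0961
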