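import Cfsg.Statements.S0962
import Cfsg.Agent.Lib.Block.BlockCount
-- import your own Cfsg.Agent.* helpers here

set_option autoImplicit false
open Cfsg CfsgLib.Block

open Cfsg

namespace Cfsg.Agent.S0962

/-- Fix a maximal ideal M of the algebraic integers containing the prime p and a natural number d. The number of blocks of the finite group G of defect at least d is at most the number of conjugacy classes of p-regular elements of G of defect at least d, where the defect of a class is the exponent of p in the order of the centralizer of any of its elements. -/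
theorem result {G : Type*} [Group G] [Finite G] (p : ℕ) [Fact p.Prime] (M : Ideal Cfsg.AlgInt) (hM : Cfsg.IsPModular p M) (d : ℕ) : Nat.card {B : Set (Cfsg.IrrCharacter G) // Cfsg.IsPBlock M B ∧ d ≤ Cfsg.blockDefect p B} ≤ Nat.card {C : ConjClasses G // ∃ g : G, ConjClasses.mk g = C ∧ Cfsg.IsPRegular p g ∧ d ≤ (Nat.card (Subgroup.centralizer ({g} : Set G))).factorization p} := by
  classical
  have := hM.2.1
  letI := Fintype.ofFinite G
  refine (card_blocks_defect_ge_le hM d).trans (le_of_eq (Nat.card_congr
    (Equiv.subtypeEquivRight fun C => ⟨fun h => ⟨rep C, mk_rep C, h.1, h.2⟩, ?_⟩)))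
  rintro ⟨g, rfl, h1, h2⟩
  exact IsRegClassGE.congr ⟨h1, h2⟩ (isConj_rep g).symm

end Cfsg.Agent.S0962
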