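import Cfsg.Statements.S0967
import Cfsg.Agent.Lib.Block.CoprimeKernel
-- import your own Cfsg.Agent.* helpers here

set_option autoImplicit false
open Cfsg CfsgLib.Block

open Cfsg

namespace Cfsg.Agent.S0967

/-- Let N be a normal subgroup of the finite group G of order prime to p and fix a maximal ideal M of the algebraic integers containing p. If χ is an irreducible character of G ⧸ N and ψ lies in the block of its inflation χ ∘ (quotient map), then ψ is itself inflated from an irreducible character ψ' of G ⧸ N lying in the block of χ. (Over a normal p'-subgroup, blocks of the quotient are whole blocks of G.) -/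
theorem result {G : Type*} [Group G] [Finite G] (p : ℕ) [Fact p.Prime] (M : Ideal Cfsg.AlgInt) (hM : Cfsg.IsPModular p M) (N : Subgroup G) [N.Normal] (hN : ¬ p ∣ Nat.card N) (χ : Cfsg.IrrCharacter (G ⧸ N)) (ψ : Cfsg.IrrCharacter G) (hψ : ψ ∈ Cfsg.blockOf M ((χ : G ⧸ N → ℂ) ∘ QuotientGroup.mk)) : ∃ ψ' : Cfsg.IrrCharacter (G ⧸ N), (ψ : G → ℂ) = (ψ' : G ⧸ N → ℂ) ∘ QuotientGroup.mk ∧ Cfsg.SameBlock M (χ : G ⧸ N → ℂ) (ψ' : G ⧸ N → ℂ) := by
  classical
  have := hM.2.1
  letI := Fintype.ofFinite G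
  letI := Fintype.ofFinite N
  letI := Fintype.ofFinite (G ⧸ N)
  let χi : IrrCharacter G := ⟨(χ : G ⧸ N → ℂ) ∘ QuotientGroup.mk,
    CfsgLib.Char.isIrrCharacter_comp_surjective χ.2 (QuotientGroup.mk' N) (QuotientGroup.mk'_surjective N)⟩
  have h : SameBlock M (χi : G → ℂ) (ψ : G → ℂ) := hψ
  have hker : ∀ n ∈ N, (χi : G → ℂ) n = (χi : G → ℂ) 1 := fun n hn => by
    simp [χi, (QuotientGroup.eq_one_iff n).mpr hn]
  obtain ⟨ψ', hψ'⟩ := exists_deflate (N := N) ψ fun z hz => trivial_of_sameBlock hM hN h hker hz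
  have he : (ψ : G → ℂ) = (ψ' : G ⧸ N → ℂ) ∘ QuotientGroup.mk := funext fun g => (hψ' g).symm
  refine ⟨ψ', he, sameBlock_of_inflated hM hN ?_⟩
  rw [← he]
  exact h

end Cfsg.Agent.S0967
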