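import Cfsg.Statements.S0971
import Cfsg.Agent.Lib.Block.CoveringCriterion

/-!
# Blocks over the product of a normal `p`-subgroup and its centralizer
-/

set_option autoImplicit false
open Cfsg

namespace Cfsg.Agent.S0971

open CfsgLib CfsgLib.Block
open scoped ComplexConjugate

/-- Let Q be a normal p-subgroup of the finite group G, let N = Q ⊔ C_G(Q) (a normal subgroup) and let b be a block of N relative to a maximal ideal M of the algebraic integers containing p. Then b induces some block of G, and every block B of G containing a character whose restriction to N has a constituent in b is induced by b. -/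
theorem result {G : Type*} [Group G] [Fintype G] (p : ℕ) [Fact p.Prime] (M : Ideal Cfsg.AlgInt) (hM : Cfsg.IsPModular p M) (Q : Subgroup G) [Q.Normal] (hQ : IsPGroup p Q) [Fintype ↥(Q ⊔ Subgroup.centralizer (Q : Set G))] (b : Set (Cfsg.IrrCharacter ↥(Q ⊔ Subgroup.centralizer (Q : Set G)))) (hb : Cfsg.IsPBlock M b) : Cfsg.InducedBlockDefined M (Q ⊔ Subgroup.centralizer (Q : Set G)) b ∧ ∀ B : Set (Cfsg.IrrCharacter G), Cfsg.IsPBlock M B → (∃ χ ∈ B, ∃ θ ∈ b, Cfsg.classInner (fun n : ↥(Q ⊔ Subgroup.centralizer (Q : Set G)) => (χ : G → ℂ) n) (θ : ↥(Q ⊔ Subgroup.centralizer (Q : Set G)) → ℂ) ≠ 0) → Cfsg.IsInducedBlock M (Q ⊔ Subgroup.centralizer (Q : Set G)) b B := by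
  classical
  haveI : M.IsMaximal := hM.2.1
  revert b
  set N := Q ⊔ Subgroup.centralizer (Q : Set G) with hNdef
  intro b hb
  haveI : (Subgroup.centralizer (Q : Set G)).Normal := Subgroup.normal_centralizer
  haveI hNn : N.Normal := Subgroup.sup_normal Q _
  refine ⟨exists_inducedBlock hQ le_sup_right ?_ hM le_sup_left hb, fun B hB hcov => ⟨hb, hB, ?_⟩⟩
  · rw [Subgroup.normalizer_eq_top_iff.mpr inferInstance]
    exact le_top
  intro ξ hξ χ hχ g
  by_cases hg : g ∈ N
  · have h := (HeightZeroOrbit.covers_iff hM hB hb).mp (by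
      obtain ⟨χ₁, hχ₁, θ₁, hθ₁, hc⟩ := hcov
      exact ⟨χ₁, hχ₁, θ₁, hθ₁, by convert hc⟩) χ hχ ξ hξ ⟨g, hg⟩
    simpa using memLocalIdeal_neg h
  · have hzero : inducedCentralChar N (ξ : N → ℂ) g = 0 := by
      rw [inducedCentralChar, finsum_mem_eq_finite_toFinset_sum _ (Set.toFinite _)]
      refine Finset.sum_eq_zero fun h hh => absurd ?_ hg
      have hc : IsConj g (h : G) := by simpa using hh
      obtain ⟨c, hc⟩ := isConj_iff.mp hc.symm
      rw [← hc]
      exact hNn.conj_mem _ h.2 c
    rw [hzero, zero_sub]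
    refine memLocalIdeal_neg ((centralRes_eq_zero_iff χ g).mp ?_)
    exact centralRes_eq_zero_of_not_centralize hM χ hQ fun h => hg (le_sup_right (a := Q) h)

end Cfsg.Agent.S0971
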