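import Cfsg.Statements.S0973
import Cfsg.Agent.Lib.Block.FirstMain
-- import your own Cfsg.Agent.* helpers here

set_option autoImplicit false
open Cfsg CfsgLib.Block
open scoped CfsgLib.Block.Pair

namespace Cfsg.Agent.S0973

/-- Let B be a block of the finite group G with defect group P (relative to a maximal ideal M of the algebraic integers containing p), and let L = P ⊔ C_G(P). Then (i) some block b of L with defect group P (viewed in L) induces B, and (ii) if b and b' are blocks of L both inducing B, there is n ∈ N_G(P) carrying b to b': for every θ ∈ b there is θ' ∈ b' with θ' x = θ (n x n⁻¹) for all x ∈ L. -/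
theorem result {G : Type*} [Group G] [Finite G] (p : ℕ) [Fact p.Prime] (M : Ideal Cfsg.AlgInt) (hM : Cfsg.IsPModular p M) (B : Set (Cfsg.IrrCharacter G)) (hB : Cfsg.IsPBlock M B) (P : Subgroup G) (hP : Cfsg.IsDefectGroup p M B P) : (∃ b : Set (Cfsg.IrrCharacter ↥(P ⊔ Subgroup.centralizer (P : Set G))), Cfsg.IsDefectGroup p M b (P.subgroupOf (P ⊔ Subgroup.centralizer (P : Set G))) ∧ Cfsg.IsInducedBlock M (P ⊔ Subgroup.centralizer (P : Set G)) b B) ∧ ∀ b b' : Set (Cfsg.IrrCharacter ↥(P ⊔ Subgroup.centralizer (P : Set G))), Cfsg.IsInducedBlock M (P ⊔ Subgroup.centralizer (P : Set G)) b B → Cfsg.IsInducedBlock M (P ⊔ Subgroup.centralizer (P : Set G)) b' B → ∃ n ∈ Subgroup.normalizer (P : Set G), ∀ θ ∈ b, ∃ θ' ∈ b', ∀ x : ↥(P ⊔ Subgroup.centralizer (P : Set G)), ∀ hx : n * (x : G) * n⁻¹ ∈ P ⊔ Subgroup.centralizer (P : Set G), (θ' : ↥(P ⊔ Subgroup.centralizer (P : Set G)) → ℂ) x = (θ : ↥(P ⊔ Subgroup.centralizer (P : Set G)) → ℂ) ⟨n * (x : G) * n⁻¹, hx⟩ := by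
  classical
  have := hM.2.1
  letI := Fintype.ofFinite G
  set L := P ⊔ Subgroup.centralizer (P : Set G) with hL
  have hN : L ≤ Subgroup.normalizer (P : Set G) :=
    sup_le Subgroup.le_normalizer (Subgroup.centralizer_le_normalizer _)
  have hC : Subgroup.centralizer (P : Set G) ≤ L := le_sup_right
  have hPL : P ≤ L := le_sup_left
  have hn : ∀ n ∈ Subgroup.normalizer (P : Set G), ∀ g, g ∈ L ↔ n * g * n⁻¹ ∈ L := by
    intro n hn g
    have h1 : cjS n L = L := by
      rw [hL, cjS, Subgroup.map_sup]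
      congr 1
      · exact cjS_eq_of_mem_normalizer hn
      · exact cjS_eq_of_mem_normalizer (Subgroup.mem_normalizer_iff.mpr (cq_conj_iff hn))
    conv_rhs => rw [← h1]
    exact conj_mem_cjS.symm
  refine ⟨?_, fun b b' hb hb' => ?_⟩
  · obtain ⟨b, hb⟩ := (exists_induced_iff_conjLE hM (isPGroup_defectGroup hM hB hP) hPL hC hN hB
      hP).mpr (conjLE_of_le le_rfl)
    exact ⟨b, isDefectGroup_of_induces hM hPL hN hb hP, hb⟩
  · obtain ⟨n, hnN, hne⟩ := exists_conj_of_induced_defect hM hPL hC hN hn hP hb hb'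
    refine ⟨n⁻¹, inv_mem hnN, fun θ hθ => ?_⟩
    rw [← hne, conjSet_eq_image (hn n hnN)]
    refine ⟨_, Set.mem_image_of_mem _ hθ, fun x hx => ?_⟩
    rw [irrEquiv_apply]
    refine congrArg (θ : _ → ℂ) ((MulEquiv.symm_apply_eq (cjHom (hn n hnN))).mpr ?_)
    exact Subtype.ext (by simp [cjHom, mul_assoc])

end Cfsg.Agent.S0973
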