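import Cfsg.Statements.S0975
-- import your own Cfsg.Agent.* helpers here
import Mathlib
import Cfsg.Agent.Lib.Perm.Small.PrimeTest

set_option autoImplicit false
set_option linter.all false
open Cfsg

namespace Cfsg.Agent.S0975

/-- No finite simple group has order 3744 = 2^5 * 3^2 * 13. -/
theorem result {G : Type*} [Group G] [Finite G] [IsSimpleGroup G] : Nat.card G ≠ 3744 := by
  haveI : Fact (Nat.Prime 13) := ⟨by norm_num⟩
  exact CfsgLib.Perm.PrimeBlock.card_ne_of_refutedAll 3744 13 288 62 (by norm_num) (by norm_num) (by norm_num)
    (by norm_num) (by norm_num) (by decide +kernel)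

end Cfsg.Agent.S0975
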