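import Cfsg.Statements.S0980
-- import your own Cfsg.Agent.* helpers here
import Mathlib
import Cfsg.Agent.Lib.Perm.Small.InvolutionCriterion

set_option autoImplicit false
set_option linter.all false
open Cfsg

namespace Cfsg.Agent.S0980

/-- No finite simple group has order 5760 = 2^7 * 3^2 * 5. -/
theorem result {G : Type*} [Group G] [Finite G] [IsSimpleGroup G] : Nat.card G ≠ 5760 := by
  haveI : Fact (Nat.Prime 5) := ⟨by norm_num⟩
  exact CfsgLib.Perm.PrimeBlock.card_ne_of_refutedTwo 5760 5 1152 76 128 (by norm_num) (by norm_num)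
    (by norm_num) (by norm_num) (by norm_num) (by norm_num) ⟨7, rfl⟩ (by norm_num) (by decide +kernel)

end Cfsg.Agent.S0980
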