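import Cfsg.Statements.S0986
import Mathlib
import Cfsg.Agent.Lib.Perm.Small.Count

set_option autoImplicit false
open Cfsg

namespace Cfsg.Agent.S0986

/-- Let P and Q be distinct Sylow p-subgroups of a finite group G chosen so that the order of P ∩ Q is as large as possible among intersections of two distinct Sylow p-subgroups, and let N be the normalizer of P ∩ Q. Then N has more than one Sylow p-subgroup, any two distinct Sylow p-subgroups of N intersect exactly in P ∩ Q, and each Sylow p-subgroup of N lies in exactly one Sylow p-subgroup of G. -/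
theorem result {G : Type*} [Group G] [Finite G] (p : ℕ) [Fact p.Prime] (P Q : Sylow p G) (hPQ : P ≠ Q) (hmax : ∀ P' Q' : Sylow p G, P' ≠ Q' → Nat.card ↥((P' : Subgroup G) ⊓ (Q' : Subgroup G)) ≤ Nat.card ↥((P : Subgroup G) ⊓ (Q : Subgroup G))) : 1 < Nat.card (Sylow p ↥(Subgroup.normalizer (((P : Subgroup G) ⊓ (Q : Subgroup G) : Subgroup G) : Set G))) ∧ (∀ S T : Sylow p ↥(Subgroup.normalizer (((P : Subgroup G) ⊓ (Q : Subgroup G) : Subgroup G) : Set G)), S ≠ T → (S : Subgroup _) ⊓ (T : Subgroup _) = ((P : Subgroup G) ⊓ (Q : Subgroup G)).subgroupOf (Subgroup.normalizer (((P : Subgroup G) ⊓ (Q : Subgroup G) : Subgroup G) : Set G))) ∧ ∀ S : Sylow p ↥(Subgroup.normalizer (((P : Subgroup G) ⊓ (Q : Subgroup G) : Subgroup G) : Set G)), ∃! T : Sylow p G, (S : Subgroup _).map (Subgroup.normalizer (((P : Subgroup G) ⊓ (Q : Subgroup G) : Subgroup G) : Set G)).subtype ≤ (T : Subgroup G) := by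
  classical
  obtain ⟨D, hD⟩ : ∃ D : Subgroup G, D = (P : Subgroup G) ⊓ (Q : Subgroup G) := ⟨_, rfl⟩
  rw [← hD] at hmax ⊢
  obtain ⟨N, hN⟩ : ∃ N : Subgroup G, N = Subgroup.normalizer (D : Set G) := ⟨_, rfl⟩
  rw [← hN]
  have hDN : D ≤ N := hN ▸ Subgroup.le_normalizer
  have hDpg : IsPGroup p D := P.isPGroup'.to_le (hD ▸ inf_le_left)
  -- the normalizer grows in both Sylow subgroups
  have hgrow : ∀ R : Sylow p G, D ≤ (R : Subgroup G) → D ≠ (R : Subgroup G) → D < (R : Subgroup G) ⊓ N := by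
    intro R hDR hne
    refine lt_of_le_of_ne (le_inf hDR hDN) fun heq => hne ?_
    haveI := R.isPGroup'.isNilpotent
    have hnc := Group.normalizerCondition_of_isNilpotent (G := (R : Subgroup G))
    by_contra hne'
    have hlt : D.subgroupOf (R : Subgroup G) < ⊤ := by
      rw [lt_top_iff_ne_top, Ne, Subgroup.subgroupOf_eq_top]
      exact fun hle => hne' (le_antisymm hDR hle)
    obtain ⟨x, hx, hxD⟩ := SetLike.exists_of_lt (hnc _ hlt)
    apply hxD
    rw [Subgroup.mem_subgroupOf, heq]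
    refine ⟨x.2, ?_⟩
    rw [hN]
    show (x : G) ∈ Subgroup.normalizer (D : Set G)
    rw [← Subgroup.subgroupOf_normalizer_eq hDR] at hx
    exact hx
  have hPD : D ≠ (P : Subgroup G) := by
    intro heq
    apply hPQ
    refine Sylow.ext (Subgroup.eq_of_le_of_card_ge ?_ ?_)
    · rw [← heq, hD]; exact inf_le_right
    · rw [P.card_eq_multiplicity, Q.card_eq_multiplicity]
  have hQD : D ≠ (Q : Subgroup G) := by
    intro heq
    apply hPQ
    refine (Sylow.ext (Subgroup.eq_of_le_of_card_ge ?_ ?_)).symm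
    · rw [← heq, hD]; exact inf_le_left
    · rw [P.card_eq_multiplicity, Q.card_eq_multiplicity]
  -- lifting p-subgroups of the normalizer
  have hbig : ∀ T : Sylow p G, D < (P : Subgroup G) ⊓ (T : Subgroup G) → T = P := by
    intro T hT
    by_contra hne
    have h1 := hmax P T (Ne.symm hne)
    have h2 : D = (P : Subgroup G) ⊓ (T : Subgroup G) := Subgroup.eq_of_le_of_card_ge hT.le h1
    exact hT.ne h2
  have hbigQ : ∀ T : Sylow p G, D < (Q : Subgroup G) ⊓ (T : Subgroup G) → T = Q := by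
    intro T hT
    by_contra hne
    have h1 := hmax Q T (Ne.symm hne)
    exact hT.ne (Subgroup.eq_of_le_of_card_ge hT.le h1)
  have hlift : ∀ S : Sylow p N, ∃ T : Sylow p G, (S : Subgroup N).map N.subtype ≤ (T : Subgroup G) := fun S =>
    (S.isPGroup'.map N.subtype).exists_le_sylow
  have hone : 1 < Nat.card (Sylow p N) := by
    by_contra hc
    push_neg at hc
    haveI : Subsingleton (Sylow p N) := Finite.card_le_one_iff_subsingleton.1 hc
    obtain ⟨S⟩ : Nonempty (Sylow p N) := inferInstance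
    obtain ⟨T, hT⟩ := hlift S
    have hin : ∀ R : Sylow p G, (R : Subgroup G) ⊓ N ≤ (T : Subgroup G) := by
      intro R
      refine le_trans ?_ hT
      have hpg : IsPGroup p (((R : Subgroup G) ⊓ N).subgroupOf N) :=
        (R.isPGroup'.to_le inf_le_left).comap_of_injective N.subtype N.subtype_injective
      obtain ⟨S', hS'⟩ := hpg.exists_le_sylow
      rw [Subsingleton.elim S' S] at hS'
      intro x hx
      exact ⟨⟨x, hx.2⟩, hS' hx, rfl⟩
    have h1 : T = P := hbig T (lt_of_lt_of_le (hgrow P (hD ▸ inf_le_left) hPD) (le_inf inf_le_left (hin P)))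
    have h2 : T = Q := hbigQ T (lt_of_lt_of_le (hgrow Q (hD ▸ inf_le_right) hQD) (le_inf inf_le_left (hin Q)))
    exact hPQ (h1.symm.trans h2)
  have hnorm : (D.subgroupOf N).Normal := by
    subst hN
    exact Subgroup.normal_in_normalizer
  haveI : (Subgroup.comap N.subtype D).Normal := hnorm
  have hDS : ∀ S : Sylow p N, D.subgroupOf N ≤ (S : Subgroup N) := fun S =>
    IsPGroup.le_sylow_of_normal (hDpg.comap_of_injective N.subtype N.subtype_injective) S
  refine ⟨hone, fun S T hST => ?_, fun S => ?_⟩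
  · obtain ⟨S', hS'⟩ := hlift S
    obtain ⟨T', hT'⟩ := hlift T
    have hne : S' ≠ T' := by
      rintro rfl
      apply hST
      have hpg : IsPGroup p ((S' : Subgroup G).subgroupOf N) := S'.isPGroup'.comap_of_injective N.subtype N.subtype_injective
      have h1 : (S : Subgroup N) ≤ (S' : Subgroup G).subgroupOf N := fun x hx => hS' ⟨x, hx, rfl⟩
      have h2 : (T : Subgroup N) ≤ (S' : Subgroup G).subgroupOf N := fun x hx => hT' ⟨x, hx, rfl⟩
      exact Sylow.ext ((S.is_maximal' hpg h1).symm.trans (T.is_maximal' hpg h2))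
    refine le_antisymm ?_ (le_inf (hDS S) (hDS T))
    have hcard : Nat.card ↥((S' : Subgroup G) ⊓ (T' : Subgroup G)) ≤ Nat.card D := hmax S' T' hne
    have hDle : D ≤ (S' : Subgroup G) ⊓ (T' : Subgroup G) := by
      intro x hx
      exact ⟨hS' ⟨⟨x, hDN hx⟩, hDS S hx, rfl⟩, hT' ⟨⟨x, hDN hx⟩, hDS T hx, rfl⟩⟩
    have heq := Subgroup.eq_of_le_of_card_ge hDle hcard
    intro x hx
    rw [Subgroup.mem_subgroupOf, heq]
    exact ⟨hS' ⟨x, hx.1, rfl⟩, hT' ⟨x, hx.2, rfl⟩⟩
  · obtain ⟨T, hT⟩ := hlift S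
    refine ⟨T, hT, fun T' hT' => ?_⟩
    by_contra hne
    have hcard := hmax T' T hne
    have hDle : D ≤ (T' : Subgroup G) ⊓ (T : Subgroup G) := fun x hx =>
      ⟨hT' ⟨⟨x, hDN hx⟩, hDS S hx, rfl⟩, hT ⟨⟨x, hDN hx⟩, hDS S hx, rfl⟩⟩
    have heq := Subgroup.eq_of_le_of_card_ge hDle hcard
    have hSD : (S : Subgroup N) = D.subgroupOf N := by
      refine le_antisymm (fun x hx => ?_) (hDS S)
      rw [Subgroup.mem_subgroupOf, heq]
      exact ⟨hT' ⟨x, hx, rfl⟩, hT ⟨x, hx, rfl⟩⟩
    haveI : (S : Subgroup N).Normal := hSD ▸ hnorm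
    haveI : Unique (Sylow p N) := Sylow.unique_of_normal S inferInstance
    rw [Nat.card_unique] at hone
    exact lt_irrefl _ hone

end Cfsg.Agent.S0986
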