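import Cfsg.Statements.S0987
import Mathlib
import Cfsg.Agent.Lib.Perm.Small.Count

set_option autoImplicit false
open Cfsg

namespace Cfsg.Agent.S0987

/-- If a finite group has order pqr for primes p < q < r, then its Sylow r-subgroups are normal. -/
theorem result {G : Type*} [Group G] [Finite G] (p q r : ℕ) (hp : p.Prime) (hq : q.Prime) [Fact r.Prime] (hpq : p < q) (hqr : q < r) (hG : Nat.card G = p * q * r) (R : Sylow r G) : (R : Subgroup G).Normal := by
  classical
  haveI := Fact.mk hq
  have hR : ∀ R : Sylow r G, Nat.card (R : Subgroup G) = r := fun R =>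
    CfsgLib.Perm.Small.card_sylow_prime (m := p * q) (by rw [hG]; ring)
      (fun h => by
        rcases (Fact.out : r.Prime).dvd_mul.1 h with h | h
        · exact absurd (Nat.le_of_dvd hp.pos h) (by omega)
        · exact absurd (Nat.le_of_dvd hq.pos h) (by omega)) R
  have hQ : ∀ Q : Sylow q G, Nat.card (Q : Subgroup G) = q := fun Q =>
    CfsgLib.Perm.Small.card_sylow_prime (m := p * r) (by rw [hG]; ring)
      (fun h => by
        rcases hq.dvd_mul.1 h with h | h
        · exact absurd (Nat.le_of_dvd hp.pos h) (by omega)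
        · have := (Nat.prime_dvd_prime_iff_eq hq (Fact.out : r.Prime)).1 h; omega) Q
  by_contra hnn
  have hn1 : Nat.card (Sylow r G) ≠ 1 := by
    intro h1
    haveI : Subsingleton (Sylow r G) := Finite.card_le_one_iff_subsingleton.1 h1.le
    exact hnn R.normal_of_subsingleton
  have hdiv := R.card_dvd_index
  have hidx : (R : Subgroup G).index = p * q := by
    have := (R : Subgroup G).card_mul_index
    rw [hR, hG] at this
    exact Nat.eq_of_mul_eq_mul_left (Fact.out : r.Prime).pos (by rw [this]; ring)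
  rw [hidx] at hdiv
  have hmod := card_sylow_modEq_one r G
  have hnr : Nat.card (Sylow r G) = p * q := by
    obtain ⟨d₁, d₂, hd₁, hd₂, hd⟩ := Nat.dvd_mul.1 hdiv
    have hsmall : ∀ s, s < r → Nat.card (Sylow r G) = s → s ≠ 1 → False := by
      intro s hs hcs hs1
      rw [hcs] at hmod
      rcases Nat.eq_zero_or_pos s with rfl | h0
      · rw [Nat.ModEq, Nat.zero_mod, Nat.one_mod_eq_one.2 (Fact.out : r.Prime).ne_one] at hmod
        exact absurd hmod (by norm_num)
      · rw [Nat.ModEq, Nat.mod_eq_of_lt hs, Nat.one_mod_eq_one.2 (Fact.out : r.Prime).ne_one] at hmod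
        exact hs1 hmod
    rcases (Nat.dvd_prime hp).1 hd₁ with e1 | e1 <;> rcases (Nat.dvd_prime hq).1 hd₂ with e2 | e2 <;>
      rw [e1, e2] at hd <;> rw [← hd] at hn1
    · exact absurd rfl hn1
    · exact (hsmall q hqr (by rw [← hd, one_mul]) hq.ne_one).elim
    · exact (hsmall p (by omega) (by rw [← hd, mul_one]) hp.ne_one).elim
    · exact hd.symm
  have hNR : Nat.card (Subgroup.normalizer ((R : Subgroup G) : Set G)) = r := by
    have h := CfsgLib.Perm.Small.card_sylow_mul_card_normalizer R
    rw [hnr, hG] at h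
    exact Nat.eq_of_mul_eq_mul_left (Nat.mul_pos hp.pos hq.pos) h
  obtain ⟨Q⟩ : Nonempty (Sylow q G) := inferInstance
  have hnq : Nat.card (Sylow q G) = 1 := by
    by_contra hne
    have hmodq := card_sylow_modEq_one q G
    have hdivq := Q.card_dvd_index
    have hidxq : (Q : Subgroup G).index = p * r := by
      have := (Q : Subgroup G).card_mul_index
      rw [hQ, hG] at this
      exact Nat.eq_of_mul_eq_mul_left hq.pos (by rw [this]; ring)
    rw [hidxq] at hdivq
    obtain ⟨d₁, d₂, hd₁, hd₂, hd⟩ := Nat.dvd_mul.1 hdivq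
    have hge : r ≤ Nat.card (Sylow q G) := by
      rcases (Nat.dvd_prime hp).1 hd₁ with e1 | e1 <;> rcases (Nat.dvd_prime (Fact.out : r.Prime)).1 hd₂ with e2 | e2 <;>
        rw [e1, e2] at hd
      · exact absurd hd.symm hne
      · rw [← hd, one_mul]
      · exfalso
        rw [mul_one] at hd
        rw [← hd, Nat.ModEq, Nat.mod_eq_of_lt hpq, Nat.one_mod_eq_one.2 hq.ne_one] at hmodq
        exact hp.ne_one hmodq
      · rw [← hd]; exact Nat.le_mul_of_pos_left r hp.pos
    have h1 := CfsgLib.Perm.Small.card_orderOf_eq_prime (G := G) hR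
    have h2 := CfsgLib.Perm.Small.card_orderOf_eq_prime (G := G) hQ
    haveI := Fintype.ofFinite G
    rw [Nat.card_eq_fintype_card, Fintype.card_subtype] at h1 h2
    have hdis : Disjoint (Finset.univ.filter fun g : G => orderOf g = r) (Finset.univ.filter fun g : G => orderOf g = q) :=
      Finset.disjoint_filter.2 fun g _ hr' hq' => by omega
    have hle := Finset.card_le_card (Finset.subset_univ
      (insert (1 : G) ((Finset.univ.filter fun g : G => orderOf g = r) ∪ (Finset.univ.filter fun g : G => orderOf g = q))))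
    rw [Finset.card_insert_of_notMem (by simp [hq.ne_one.symm, (Fact.out : r.Prime).ne_one.symm]),
      Finset.card_union_of_disjoint hdis, h1, h2, hnr, Finset.card_univ, ← Nat.card_eq_fintype_card, hG] at hle
    obtain ⟨q', rfl⟩ : ∃ q', q = q' + 1 := ⟨q - 1, by omega⟩
    obtain ⟨r', rfl⟩ : ∃ r', r = r' + 1 := ⟨r - 1, by omega⟩
    simp only [Nat.add_sub_cancel, Nat.mul_add, mul_one] at hle
    have h3 := Nat.mul_le_mul_right q' hge
    have h4 := Nat.mul_le_mul_right q' (show q' + 2 ≤ r' + 1 by omega)
    have h5 := Nat.mul_le_mul_right (q' + 1) (show p ≤ q' by omega)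
    nlinarith
  haveI : Subsingleton (Sylow q G) := Finite.card_le_one_iff_subsingleton.1 hnq.le
  haveI := Q.normal_of_subsingleton
  haveI : IsCyclic (Q : Subgroup G) := isCyclic_of_prime_card (hQ Q)
  have haut : Nat.card (MulAut (Q : Subgroup G)) = q - 1 := by
    rw [IsCyclic.card_mulAut, hQ, Nat.totient_prime hq]
  have hcomm : ∀ x ∈ (R : Subgroup G), ∀ y ∈ (Q : Subgroup G), x * y * x⁻¹ = y := by
    intro x hx y hy
    have h1 : orderOf (MulAut.conjNormal (H := (Q : Subgroup G)) x) ∣ r := by
      refine (orderOf_map_dvd _ x).trans ?_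
      rw [← hR R, ← Subgroup.orderOf_mk x hx]
      exact orderOf_dvd_natCard _
    have h2 : orderOf (MulAut.conjNormal (H := (Q : Subgroup G)) x) ∣ q - 1 := haut ▸ orderOf_dvd_natCard _
    have h3 : MulAut.conjNormal (H := (Q : Subgroup G)) x = 1 := by
      rw [← orderOf_eq_one_iff]
      refine ((Nat.dvd_prime (Fact.out : r.Prime)).1 h1).resolve_right fun h => ?_
      rw [h] at h2
      have := Nat.le_of_dvd (by have := hq.two_le; omega) h2
      omega
    have h4 := MulAut.conjNormal_apply x (⟨y, hy⟩ : (Q : Subgroup G))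
    rw [h3] at h4
    exact h4.symm
  have hle : (Q : Subgroup G) ≤ Subgroup.normalizer ((R : Subgroup G) : Set G) := by
    intro y hy
    rw [Subgroup.mem_normalizer_iff]
    have hfix : ∀ x ∈ (R : Subgroup G), y * x * y⁻¹ = x := fun x hx => by
      conv_lhs => rw [← hcomm x hx y hy]
      have := hcomm x hx y⁻¹ (inv_mem hy)
      calc x * y * x⁻¹ * x * (x * y * x⁻¹)⁻¹ = x * y * (x⁻¹ * x) * (x * y⁻¹ * x⁻¹) := by group
        _ = x * y * (x⁻¹ * x) * y⁻¹ := by rw [this]
        _ = x := by group
    intro x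
    refine ⟨fun hx => by rw [hfix x hx]; exact hx, fun hx => ?_⟩
    have := hfix _ hx
    have h' : y * x * y⁻¹ = x := mul_right_cancel (mul_left_cancel (a := y) (by simpa [mul_assoc] using this))
    rwa [h'] at hx
  have := Subgroup.card_dvd_of_le hle
  rw [hQ, hNR] at this
  have := (Nat.prime_dvd_prime_iff_eq hq (Fact.out : r.Prime)).1 this
  omega

end Cfsg.Agent.S0987
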