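import Cfsg.Statements.S0988
-- import your own Cfsg.Agent.* helpers here
import Mathlib
import Cfsg.Agent.Lib.Char.Burnside
import Cfsg.Agent.Lib.Char.TransLinear.AutCard
import Cfsg.Agent.Lib.Invol.SmallSimple
import Cfsg.Agent.Lib.Perm.Small.Count
import Cfsg.Agent.Lib.Perm.Small.PrimeTest

set_option autoImplicit false
set_option linter.all false
open Cfsg

namespace Cfsg.Agent.S0988

/-- If a finite simple group has order p^2 * q * r with p, q and r prime, then its order is 60. -/
theorem result {G : Type*} [Group G] [Finite G] [IsSimpleGroup G] (p q r : ℕ) (hp : p.Prime) (hq : q.Prime) (hr : r.Prime) (hG : Nat.card G = p ^ 2 * q * r) : Nat.card G = 60 := by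
  classical
  have hnab : ¬ IsMulCommutative G := fun hc => by
    haveI := hc
    letI : CommGroup G :=
      { (inferInstance : Group G) with mul_comm := fun a b => IsMulCommutative.is_comm.comm a b }
    have h2 := IsSimpleGroup.prime_card (α := G)
    rw [hG] at h2
    rcases (Nat.prime_mul_iff.1 h2) with ⟨-, h⟩ | ⟨-, h⟩
    · exact hr.ne_one h
    · exact hq.ne_one (Nat.eq_one_of_mul_eq_one_left h)
  -- two primes only would give a solvable group
  have hsol : ∀ a b i j : ℕ, a.Prime → b.Prime → Nat.card G ≠ a ^ i * b ^ j := fun a b i j ha hb h => by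
    have := CfsgLib.Char.isSolvable_of_card_two_primes ha hb G i j h
    exact hnab ⟨⟨(IsSimpleGroup.comm_iff_isSolvable.2 this)⟩⟩
  have hpq : p ≠ q := fun h => hsol p r 3 1 hp hr (by rw [hG, h]; ring)
  have hpr : p ≠ r := fun h => hsol p q 3 1 hp hq (by rw [hG, h]; ring)
  have hqr : q ≠ r := fun h => hsol p q 2 2 hp hq (by rw [hG, h]; ring)
  have hmain : ∀ q r : ℕ, q.Prime → r.Prime → q ≠ p → r ≠ p → q < r → Nat.card G = p ^ 2 * q * r →
      Nat.card G = 60 := by
    intro q r hq hr hqp hrp hlt hG
    have hdiv : ∀ l : ℕ, l.Prime → l ∣ Nat.card G → l = p ∨ l = q ∨ l = r := by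
      intro l hl h
      rw [hG, hl.dvd_mul, hl.dvd_mul] at h
      rcases h with (h | h) | h
      · exact Or.inl ((Nat.prime_dvd_prime_iff_eq hl hp).1 (hl.dvd_of_dvd_pow h))
      · exact Or.inr (Or.inl ((Nat.prime_dvd_prime_iff_eq hl hq).1 h))
      · exact Or.inr (Or.inr ((Nat.prime_dvd_prime_iff_eq hl hr).1 h))
    have hcyc : ∀ l : ℕ, l.Prime → (Nat.card G).minFac = l → ∀ P : Sylow l G, IsCyclic (P : Subgroup G) → False := by
      intro l hl hmin P hPcyc
      haveI : Fact l.Prime := ⟨hl⟩
      have hcompl := IsCyclic.isComplement' hmin (P := P) hPcyc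
      have hdvd : l ∣ Nat.card G := hmin ▸ Nat.minFac_dvd _
      rcases IsSimpleGroup.eq_bot_or_eq_top_of_normal
        (MonoidHom.transferSylow P (IsCyclic.normalizer_le_centralizer hmin hPcyc)).ker inferInstance with h | h
      · rw [h] at hcompl
        have hPt := Subgroup.isComplement'_bot_left.1 hcompl
        exact CfsgLib.Invol.not_isPGroup_of_simple hnab (p := l) fun g => by
          obtain ⟨k, hk⟩ := P.2 ⟨g, hPt ▸ Subgroup.mem_top g⟩
          exact ⟨k, congrArg Subtype.val hk⟩
      · rw [h] at hcompl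
        exact P.ne_bot_of_dvd_card hdvd (Subgroup.isComplement'_top_left.1 hcompl)
    have hne1 : Nat.card G ≠ 1 := Finite.one_lt_card.ne'
    have hpdvd : p ∣ Nat.card G := hG ▸ ((dvd_pow_self p two_ne_zero).mul_right q).mul_right r
    have hqdvd : q ∣ Nat.card G := hG ▸ (dvd_mul_left q _).mul_right r
    -- the square prime is the smallest
    have hlt' : p < q := by
      rcases lt_or_gt_of_ne hqp.symm with h | h
      · exact h
      exfalso
      haveI : Fact q.Prime := ⟨hq⟩
      have hmin : (Nat.card G).minFac = q := by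
        rcases hdiv _ (Nat.minFac_prime hne1) (Nat.minFac_dvd _) with e | e | e <;>
          have hle := Nat.minFac_le_of_dvd hq.two_le hqdvd <;> omega
      obtain ⟨P⟩ : Nonempty (Sylow q G) := inferInstance
      haveI : IsCyclic (P : Subgroup G) := isCyclic_of_prime_card (p := q) (CfsgLib.Perm.Small.card_sylow_prime
        (m := p ^ 2 * r) (by rw [hG]; ring) (fun h1 => by
          rcases hq.dvd_mul.1 h1 with h1 | h1
          · exact hqp ((Nat.prime_dvd_prime_iff_eq hq hp).1 (hq.dvd_of_dvd_pow h1))
          · exact hlt.ne ((Nat.prime_dvd_prime_iff_eq hq hr).1 h1)) P)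
      exact hcyc q hq hmin P inferInstance
    have hmin : (Nat.card G).minFac = p := by
      rcases hdiv _ (Nat.minFac_prime hne1) (Nat.minFac_dvd _) with e | e | e <;>
        have hle := Nat.minFac_le_of_dvd hp.two_le hpdvd <;> omega
    haveI : Fact p.Prime := ⟨hp⟩
    obtain ⟨P⟩ : Nonempty (Sylow p G) := inferInstance
    have hfac : (Nat.card G).factorization p = 2 := by
      rw [hG, mul_assoc, Nat.factorization_mul (pow_ne_zero _ hp.ne_zero) (Nat.mul_ne_zero hq.ne_zero hr.ne_zero),
        Finsupp.add_apply, hp.factorization_pow, Finsupp.single_eq_same,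
        Nat.factorization_eq_zero_of_not_dvd (fun h => by
          rcases hp.dvd_mul.1 h with h | h
          · exact hqp ((Nat.prime_dvd_prime_iff_eq hp hq).1 h).symm
          · exact hrp ((Nat.prime_dvd_prime_iff_eq hp hr).1 h).symm)]
    have hPc : Nat.card (P : Subgroup G) = p ^ 2 := by rw [P.card_eq_multiplicity, hfac]
    haveI hPcomm : IsMulCommutative (P : Subgroup G) := IsPGroup.isMulCommutative_of_card_eq_prime_sq hPc
    have hexp : ∀ x : (P : Subgroup G), x ^ p = 1 := by
      intro x
      have h := orderOf_dvd_natCard x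
      rw [hPc] at h
      obtain ⟨k, hk, hxk⟩ := (Nat.dvd_prime_pow hp).1 h
      rcases (by omega : k ≤ 1 ∨ k = 2) with hk1 | rfl
      · refine orderOf_dvd_iff_pow_eq_one.1 (hxk ▸ ?_)
        calc p ^ k ∣ p ^ 1 := pow_dvd_pow p hk1
          _ = p := pow_one p
      · exact (hcyc p hp hmin P (isCyclic_of_orderOf_eq_card x (hxk.trans hPc.symm))).elim
    -- the automiser
    set N := Subgroup.normalizer ((P : Subgroup G) : Set G) with hN
    set C := Subgroup.centralizer ((P : Subgroup G) : Set G) with hC
    set e := C.relIndex N with he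
    have he1 : e ≠ 1 := by
      intro h
      have hNC : N ≤ C := Subgroup.relIndex_eq_one.1 h
      have hcompl := MonoidHom.ker_transferSylow_isComplement' P hNC
      rcases IsSimpleGroup.eq_bot_or_eq_top_of_normal (MonoidHom.transferSylow P hNC).ker inferInstance with h | h
      · rw [h] at hcompl
        have hPt := Subgroup.isComplement'_bot_left.1 hcompl
        exact CfsgLib.Invol.not_isPGroup_of_simple hnab (p := p) fun g => by
          obtain ⟨k, hk⟩ := P.2 ⟨g, hPt ▸ Subgroup.mem_top g⟩
          exact ⟨k, congrArg Subtype.val hk⟩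
      · rw [h] at hcompl
        exact P.ne_bot_of_dvd_card hpdvd (Subgroup.isComplement'_top_left.1 hcompl)
    have heqr : e ∣ q * r := by
      have hPC : (P : Subgroup G) ≤ C := Subgroup.le_centralizer _
      have hCN : C ≤ N := Subgroup.centralizer_le_normalizer _
      have h1 := Subgroup.relIndex_mul_relIndex (P : Subgroup G) C N hPC hCN
      have h2 : (P : Subgroup G).relIndex N ∣ (P : Subgroup G).index :=
        Subgroup.relIndex_dvd_index_of_le Subgroup.le_normalizer
      have h3 := (P : Subgroup G).card_mul_index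
      rw [hPc, hG, mul_assoc] at h3
      rw [Nat.eq_of_mul_eq_mul_left (pow_pos hp.pos 2) h3] at h2
      exact (Dvd.intro_left _ h1).trans h2
    have heaut : e ∣ (p ^ 2 - 1) * (p ^ 2 - p) := by
      have h1 : (MonoidHom.ker (Subgroup.normalizerMonoidHom (P : Subgroup G))).index ∣
          Nat.card (MulAut (P : Subgroup G)) := by
        rw [Subgroup.index_ker]; exact Subgroup.card_subgroup_dvd_card _
      rw [Subgroup.normalizerMonoidHom_ker] at h1
      letI : CommGroup (P : Subgroup G) :=
        { (inferInstance : Group (P : Subgroup G)) with mul_comm := fun a b => hPcomm.is_comm.comm a b }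
      rw [CfsgLib.Char.card_mulAut_of_exponent_prime hexp hPc,
        CfsgLib.Char.glCard] at h1
      rw [he, hC, hN, Subgroup.relIndex]
      simpa [Finset.prod_range_succ] using h1
    obtain ⟨l, hl, hle⟩ := Nat.exists_prime_and_dvd he1
    have hlqr : l = q ∨ l = r := by
      rcases hl.dvd_mul.1 (hle.trans heqr) with h | h
      · exact Or.inl ((Nat.prime_dvd_prime_iff_eq hl hq).1 h)
      · exact Or.inr ((Nat.prime_dvd_prime_iff_eq hl hr).1 h)
    have hpl : p < l := by rcases hlqr with e | e <;> omega
    have hl1 : l ∣ p + 1 := by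
      have h := hle.trans heaut
      have h2 : (p ^ 2 - 1) * (p ^ 2 - p) = ((p + 1) * (p - 1)) * (p * (p - 1)) := by
        rw [show p ^ 2 - 1 = (p + 1) * (p - 1) by rw [← Nat.sq_sub_sq, one_pow],
          show p ^ 2 - p = p * (p - 1) by rw [Nat.mul_sub_one, pow_two]]
      rw [h2, hl.dvd_mul, hl.dvd_mul, hl.dvd_mul] at h
      rcases h with (h | h) | h | h
      · exact h
      all_goals exact absurd (Nat.le_of_dvd (by have := hp.two_le; omega) h) (by omega)
    have hl2 : l = p + 1 := le_antisymm (Nat.le_of_dvd (by omega) hl1) (by omega)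
    have hp2 : p = 2 := by
      by_contra h2
      have h3 := hp.odd_of_ne_two h2
      have h4 := hl.odd_of_ne_two (by have := hp.two_le; omega)
      obtain ⟨a, ha⟩ := h3
      obtain ⟨b, hb⟩ := h4
      omega
    subst hp2
    have hq3 : q = 3 := by rcases hlqr with e | e <;> omega
    subst hq3
    by_cases hr5 : r = 5
    · rw [hG, hr5]; norm_num
    exfalso
    haveI : Fact r.Prime := ⟨hr⟩
    have hrd : r ∣ Nat.card G := hG ▸ dvd_mul_left r _
    obtain ⟨R⟩ : Nonempty (Sylow r G) := inferInstance
    have hn1 := CfsgLib.Invol.one_lt_card_sylow hnab (p := r) hrd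
    have hn2 : Nat.card (Sylow r G) % r = 1 := by
      have := card_sylow_modEq_one r G
      rwa [Nat.ModEq, Nat.mod_eq_of_lt hr.one_lt] at this
    have hn3 : Nat.card (Sylow r G) ∣ 12 := by
      have h1 := R.card_dvd_index
      have h2 := (R : Subgroup G).card_mul_index
      have h5 : ¬ r ∣ 12 := fun h => by
        have := (hr.dvd_mul (m := 4) (n := 3)).1 h
        rcases this with h | h
        · have := Nat.le_of_dvd (by norm_num) h
          interval_cases r <;> first | omega | norm_num at hr
        · have := Nat.le_of_dvd (by norm_num) h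
          omega
      rw [CfsgLib.Perm.Small.card_sylow_prime (m := 12) (by rw [hG]; ring) h5 R, hG,
        show 2 ^ 2 * 3 * r = r * 12 by ring] at h2
      rwa [Nat.eq_of_mul_eq_mul_left hr.pos h2] at h1
    have hr11 : r = 11 := by
      obtain ⟨n, hn⟩ : ∃ n, n = Nat.card (Sylow r G) := ⟨_, rfl⟩
      rw [← hn] at hn1 hn2 hn3
      have hn12 := Nat.le_of_dvd (by norm_num) hn3
      have hrn : r ≤ n - 1 := Nat.le_of_dvd (by omega) (by
        rw [← Nat.modEq_iff_dvd' (by omega), Nat.ModEq, hn2, Nat.mod_eq_of_lt hr.one_lt])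
      have hr12 : r ≤ 11 := by omega
      have key : ∀ r < 12, ∀ n < 13, (3 < r ∧ r ≠ 5 ∧ 1 < n ∧ 12 % n = 0 ∧ n % r = 1) → r = 11 := by
        decide +kernel
      exact key r (by omega) n (by omega) ⟨hlt, hr5, hn1, Nat.mod_eq_zero_of_dvd hn3, hn2⟩
    subst hr11
    exact CfsgLib.Perm.PrimeBlock.card_ne_of_refutedAll 132 11 12 12 (by norm_num) (by norm_num)
      (by norm_num) (by norm_num) (by norm_num) (by decide +kernel) (by rw [hG]; norm_num)
  rcases lt_or_gt_of_ne hqr with h | h
  · exact hmain q r hq hr hpq.symm hpr.symm h hG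
  · exact hmain r q hr hq hpr.symm hpq.symm h (by rw [hG]; ring)

end Cfsg.Agent.S0988
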