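import Cfsg.Statements.S0990
import Mathlib
import Cfsg.Agent.Lib.Perm.Groups.PrimeNormalizer

set_option autoImplicit false
open Cfsg

namespace Cfsg.Agent.S0990

/-- Let p be an odd prime and P a Sylow p-subgroup of the symmetric group on a finite set with at least two elements. Then P is contained in the alternating group, and twice the order of the normalizer of P inside the alternating group equals the order of the normalizer of P in the symmetric group. -/
theorem result {α : Type*} [Fintype α] [DecidableEq α] (hα : 2 ≤ Fintype.card α) (p : ℕ) [Fact p.Prime] (hp : p ≠ 2) (P : Sylow p (Equiv.Perm α)) : (P : Subgroup (Equiv.Perm α)) ≤ alternatingGroup α ∧ 2 * Nat.card ↥(Subgroup.normalizer ((((P : Subgroup (Equiv.Perm α)).subgroupOf (alternatingGroup α) : Subgroup ↥(alternatingGroup α)) : Set ↥(alternatingGroup α)))) = Nat.card ↥(Subgroup.normalizer ((P : Subgroup (Equiv.Perm α)) : Set (Equiv.Perm α))) := by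
  classical
  have hP : (P : Subgroup (Equiv.Perm α)) ≤ alternatingGroup α := by
    intro x hx
    obtain ⟨k, hk⟩ := IsPGroup.iff_orderOf.1 P.isPGroup' ⟨x, hx⟩
    rw [Subgroup.orderOf_mk] at hk
    have hodd : Odd (orderOf x) := by
      rw [hk]
      exact (((Fact.out : p.Prime).odd_of_ne_two hp)).pow
    rw [Equiv.Perm.mem_alternatingGroup]
    rcases Int.units_eq_one_or (Equiv.Perm.sign x) with h | h
    · exact h
    · exfalso
      have h1 : Equiv.Perm.sign x ^ orderOf x = 1 := by rw [← map_pow, pow_orderOf_eq_one, map_one]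
      rw [h, hodd.neg_one_pow] at h1
      exact absurd h1 (by decide)
  refine ⟨hP, ?_⟩
  haveI : Nontrivial α := Fintype.one_lt_card_iff_nontrivial.1 (by omega)
  rw [← Subgroup.subgroupOf_normalizer_eq hP]
  obtain ⟨N, hN⟩ : ∃ N : Subgroup (Equiv.Perm α), N = Subgroup.normalizer ((P : Subgroup (Equiv.Perm α)) : Set (Equiv.Perm α)) :=
    ⟨_, rfl⟩
  rw [← hN]
  let f : N →* ℤˣ := Equiv.Perm.sign.comp N.subtype
  have hodd : ∃ g ∈ N, Equiv.Perm.sign g = -1 := by
    by_contra hcon
    push_neg at hcon
    have hNA : N ≤ alternatingGroup α := fun g hg =>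
      Equiv.Perm.mem_alternatingGroup.2 ((Int.units_eq_one_or _).resolve_right (hcon g hg))
    have h1 : N ⊔ alternatingGroup α = ⊤ := by
      rw [hN]
      exact Sylow.normalizer_sup_eq_top' (N := alternatingGroup α) P hP
    rw [sup_eq_right.2 hNA] at h1
    obtain ⟨a, b, hab⟩ := exists_pair_ne α
    have h2 : Equiv.swap a b ∈ alternatingGroup α := by rw [h1]; trivial
    rw [Equiv.Perm.mem_alternatingGroup, Equiv.Perm.sign_swap hab] at h2
    exact absurd h2 (by decide)
  have hf : f.range = ⊤ := by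
    rw [MonoidHom.range_eq_top]
    intro u
    obtain ⟨g, hg, hs⟩ := hodd
    rcases Int.units_eq_one_or u with rfl | rfl
    · exact ⟨1, map_one f⟩
    · exact ⟨⟨g, hg⟩, hs⟩
  have hcard := f.ker.card_mul_index
  rw [Subgroup.index_ker, hf, Subgroup.card_top, Nat.card_eq_fintype_card (α := ℤˣ), Fintype.card_units_int] at hcard
  rw [← hcard, mul_comm]
  congr 1
  exact Nat.card_congr
    ⟨fun x => ⟨⟨x.1.1, x.2⟩, Equiv.Perm.mem_alternatingGroup.1 x.1.2⟩,
      fun x => ⟨⟨x.1.1, Equiv.Perm.mem_alternatingGroup.2 x.2⟩, x.1.2⟩, fun x => rfl, fun x => rfl⟩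

end Cfsg.Agent.S0990
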