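import Cfsg.Statements.S0994
import Mathlib
import Cfsg.Agent.Lib.Perm.Small.Count
import Cfsg.Agent.Lib.Perm.Groups.PrimeNormalizer
import Cfsg.Agent.Lib.Invol.SmallSimple

set_option autoImplicit false
open Cfsg

namespace Cfsg.Agent.S0994

/-- No finite simple group has order 1188 = 2^2 * 3^3 * 11. -/
theorem result {G : Type*} [Group G] [Finite G] [IsSimpleGroup G] : Nat.card G ≠ 1188 := by
  classical
  intro hcard
  haveI : Fact (Nat.Prime 11) := ⟨by norm_num⟩
  have hG : ¬ IsMulCommutative G := by
    intro hc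
    haveI := hc
    letI : CommGroup G := { (inferInstance : Group G) with mul_comm := fun a b => IsMulCommutative.is_comm.comm a b }
    have hp : (Nat.card G).Prime := IsSimpleGroup.prime_card
    rw [hcard] at hp
    norm_num at hp
  obtain ⟨P⟩ : Nonempty (Sylow 11 G) := inferInstance
  have hP : Nat.card (P : Subgroup G) = 11 := CfsgLib.Perm.Small.card_sylow_prime (m := 108) (by rw [hcard]) (by norm_num) P
  have hidx : (P : Subgroup G).index = 108 := by
    have := (P : Subgroup G).card_mul_index
    rw [hP, hcard] at this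
    omega
  have hd : Nat.card (Sylow 11 G) ∣ 108 := hidx ▸ P.card_dvd_index
  have hm : Nat.card (Sylow 11 G) % 11 = 1 := card_sylow_modEq_one 11 G
  have h1 := CfsgLib.Invol.one_lt_card_sylow hG (p := 11) (by rw [hcard]; norm_num)
  have h12 : Nat.card (Sylow 11 G) = 12 := by
    have hmem : Nat.card (Sylow 11 G) ∈ Nat.divisors 108 := Nat.mem_divisors.2 ⟨hd, by norm_num⟩
    revert hmem hm h1
    generalize Nat.card (Sylow 11 G) = c
    intro hm h1 hmem
    have hle := Nat.divisor_le hmem
    have hall : ∀ c ∈ Nat.divisors 108, c % 11 = 1 → 1 < c → c = 12 := by decide +kernel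
    exact hall c hmem hm h1
  haveI : Fintype (Sylow 11 G) := Fintype.ofFinite _
  have hker : Function.Injective (MulAction.toPermHom G (Sylow 11 G)) := by
    rw [← MonoidHom.ker_eq_bot_iff]
    refine (IsSimpleGroup.eq_bot_or_eq_top_of_normal _ inferInstance).resolve_right fun h => ?_
    obtain ⟨Q, R, hQR⟩ := (Finite.one_lt_card_iff_nontrivial.1 h1).exists_pair_ne
    obtain ⟨g, hg⟩ := MulAction.exists_smul_eq G Q R
    exact hQR ((Equiv.Perm.congr_fun (MonoidHom.mem_ker.1 (h ▸ Subgroup.mem_top g :
      g ∈ (MulAction.toPermHom G (Sylow 11 G)).ker)) Q).symm.trans hg)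
  have hN : Nat.card (Subgroup.normalizer ((P : Subgroup G) : Set G)) = 99 := by
    have := CfsgLib.Perm.Small.card_sylow_mul_card_normalizer P
    rw [h12, hcard] at this
    omega
  have hle := Subgroup.le_normalizer_map (H := (P : Subgroup G)) (MulAction.toPermHom G (Sylow 11 G))
  have h := Subgroup.card_dvd_of_le hle
  rw [← Nat.card_congr (Subgroup.equivMapOfInjective _ _ hker).toEquiv, hN,
    CfsgLib.Perm.Groups.card_normalizer_of_card_prime (p := 11) (by rw [← Nat.card_eq_fintype_card, h12]; norm_num) _
      (by rw [← Nat.card_congr (Subgroup.equivMapOfInjective _ _ hker).toEquiv, hP]),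
    ← Nat.card_eq_fintype_card, h12] at h
  norm_num [Nat.factorial] at h

end Cfsg.Agent.S0994
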