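import Cfsg.Statements.S0995
import Mathlib
import Cfsg.Agent.Lib.Perm.Small.Count

set_option autoImplicit false
open Cfsg

namespace Cfsg.Agent.S0995
open scoped Pointwise

/-- Let G be a finite perfect group containing an element z of prime order p whose centralizer is the cyclic group it generates. Let t be the number of conjugacy classes of elements of order p. Then t divides p - 1, the number of Sylow p-subgroups has the form 1 + n * p, and |G| * t = (p - 1) * p * (1 + n * p). -/
theorem result {G : Type*} [Group G] [Finite G] (hperf : commutator G = ⊤) (p : ℕ) [Fact p.Prime] (z : G) (hz : orderOf z = p) (hC : Subgroup.centralizer ({z} : Set G) = Subgroup.zpowers z) : ∃ n t : ℕ, t = Nat.card {c : ConjClasses G // ∃ g : G, ConjClasses.mk g = c ∧ orderOf g = p} ∧ t ∣ p - 1 ∧ Nat.card (Sylow p G) = 1 + n * p ∧ Nat.card G * t = (p - 1) * p * (1 + n * p) := by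
  classical
  have hp := (Fact.out : p.Prime)
  haveI := Fintype.ofFinite G
  have hzne : z ≠ 1 := fun h => by rw [h, orderOf_one] at hz; exact hp.one_lt.ne hz
  have hpg : IsPGroup p (Subgroup.zpowers z) := IsPGroup.of_card (n := 1) (by rw [Nat.card_zpowers, hz, pow_one])
  obtain ⟨P, hzP⟩ := hpg.exists_le_sylow
  have hP : (P : Subgroup G) = Subgroup.zpowers z := by
    refine le_antisymm ?_ hzP
    haveI : Nontrivial (P : Subgroup G) := ⟨⟨⟨z, hzP (Subgroup.mem_zpowers z)⟩, 1, fun h => hzne (congrArg Subtype.val h)⟩⟩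
    haveI : Nontrivial (Subgroup.center (P : Subgroup G)) := P.isPGroup'.center_nontrivial
    obtain ⟨c, hc⟩ := exists_ne (1 : Subgroup.center (P : Subgroup G))
    have hcc := Subgroup.mem_center_iff.1 c.2
    have hcz : (c.1 : G) ∈ Subgroup.centralizer ({z} : Set G) :=
      Subgroup.mem_centralizer_singleton_iff.2 (congrArg Subtype.val (hcc ⟨z, hzP (Subgroup.mem_zpowers z)⟩)).symm
    rw [hC] at hcz
    have hgen := CfsgLib.Perm.Small.zpowers_eq_of_mem (p := p) (H := Subgroup.zpowers z) (by rw [Nat.card_zpowers, hz]) hcz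
      (fun h => hc (Subtype.ext (Subtype.ext h)))
    intro x hx
    rw [← hC, Subgroup.mem_centralizer_singleton_iff]
    obtain ⟨k, hk⟩ : z ∈ Subgroup.zpowers (c.1 : G) := hgen.symm ▸ Subgroup.mem_zpowers z
    have hxc : Commute x (c.1 : G) := congrArg Subtype.val (hcc ⟨x, hx⟩)
    rw [← hk]
    exact (hxc.zpow_right k).eq
  have hS : ∀ Q : Sylow p G, Nat.card (Q : Subgroup G) = p := by
    intro Q
    rw [Q.card_eq_multiplicity, ← P.card_eq_multiplicity, hP, Nat.card_zpowers, hz]
  have hcount := CfsgLib.Perm.Small.card_orderOf_eq_prime (G := G) hS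
  have hcl : ∀ y : G, orderOf y = p → Nat.card {g : G // IsConj y g} * p = Nat.card G := by
    intro y hy
    have hcent : Subgroup.centralizer ({y} : Set G) = Subgroup.zpowers y := by
      have hyQ : IsPGroup p (Subgroup.zpowers y) := IsPGroup.of_card (n := 1) (by rw [Nat.card_zpowers, hy, pow_one])
      obtain ⟨Q, hQ⟩ := hyQ.exists_le_sylow
      obtain ⟨g, hg⟩ := MulAction.exists_smul_eq G P Q
      have hyg : g⁻¹ * y * g ∈ Subgroup.zpowers z := by
        rw [← hP]
        have h1 : y ∈ ((g • P : Sylow p G) : Subgroup G) := hg.symm ▸ hQ (Subgroup.mem_zpowers y)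
        rw [Sylow.coe_subgroup_smul, Subgroup.mem_pointwise_smul_iff_inv_smul_mem] at h1
        simpa [MulAut.smul_def] using h1
      have hgen := CfsgLib.Perm.Small.zpowers_eq_of_mem (p := p) (H := Subgroup.zpowers z) (by rw [Nat.card_zpowers, hz]) hyg
        (fun h => by
          have h1 : y = g * (g⁻¹ * y * g) * g⁻¹ := by group
          rw [h, mul_one, mul_inv_cancel] at h1
          rw [h1, orderOf_one] at hy
          exact hp.one_lt.ne hy)
      refine le_antisymm (fun x hx => ?_) (fun x hx => ?_)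
      · rw [Subgroup.mem_centralizer_singleton_iff] at hx
        obtain ⟨k, hk⟩ : z ∈ Subgroup.zpowers (g⁻¹ * y * g) := hgen.symm ▸ Subgroup.mem_zpowers z
        have hc1 : Commute (g⁻¹ * x * g) (g⁻¹ * y * g) := by
          show g⁻¹ * x * g * (g⁻¹ * y * g) = g⁻¹ * y * g * (g⁻¹ * x * g)
          calc g⁻¹ * x * g * (g⁻¹ * y * g) = g⁻¹ * (x * y) * g := by group
            _ = g⁻¹ * (y * x) * g := by rw [hx]
            _ = _ := by group
        have hmem : g⁻¹ * x * g ∈ Subgroup.centralizer ({z} : Set G) :=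
          Subgroup.mem_centralizer_singleton_iff.2 (hk ▸ (hc1.zpow_right k).eq)
        rw [hC, ← hgen] at hmem
        obtain ⟨j, hj⟩ := hmem
        refine ⟨j, ?_⟩
        have h1 : (g⁻¹ * y * g) ^ j = g⁻¹ * y ^ j * g := by
          simpa using conj_zpow (a := g⁻¹) (b := y) (i := j)
        show y ^ j = x
        have hj' : (g⁻¹ * y * g) ^ j = g⁻¹ * x * g := hj
        rw [h1] at hj'
        exact mul_left_cancel (mul_right_cancel hj')
      · obtain ⟨j, rfl⟩ := hx
        exact Subgroup.mem_centralizer_singleton_iff.2 ((Commute.refl y).zpow_left j).eq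
    have h := CfsgLib.Perm.Small.card_class_mul_card_centralizer y
    rwa [hcent, Nat.card_zpowers, hy] at h
  obtain ⟨t, ht⟩ : ∃ t, t = Nat.card {c : ConjClasses G // ∃ g : G, ConjClasses.mk g = c ∧ orderOf g = p} := ⟨_, rfl⟩
  have htot : t * Nat.card G = Nat.card (Sylow p G) * (p - 1) * p := by
    rw [← hcount, Nat.card_eq_fintype_card (α := {g : G // orderOf g = p}), Fintype.card_subtype,
      Finset.card_eq_sum_card_fiberwise (f := ConjClasses.mk)
        (t := Finset.univ.filter fun c : ConjClasses G => ∃ g : G, ConjClasses.mk g = c ∧ orderOf g = p)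
        (fun g hg => Finset.mem_filter.2 ⟨Finset.mem_univ _, g, rfl, (Finset.mem_filter.1 hg).2⟩),
      Finset.sum_mul, Finset.sum_congr rfl (g := fun _ => Nat.card G) fun c hc => ?_, Finset.sum_const, smul_eq_mul, ht,
      Nat.card_eq_fintype_card, Fintype.card_subtype]
    obtain ⟨y, rfl, hy⟩ := (Finset.mem_filter.1 hc).2
    rw [← hcl y hy]
    congr 1
    rw [Nat.card_eq_fintype_card, Fintype.card_subtype, Finset.filter_filter]
    congr 1
    ext g
    simp only [Finset.mem_filter, Finset.mem_univ, true_and, ConjClasses.mk_eq_mk_iff_isConj]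
    refine ⟨fun h => h.2.symm, fun h => ⟨?_, h.symm⟩⟩
    obtain ⟨u, rfl⟩ := isConj_iff.1 h
    rw [← hy]
    exact orderOf_injective (MulAut.conj u).toMonoidHom (MulAut.conj u).injective y
  have hmod := card_sylow_modEq_one p G
  have hpos : 0 < Nat.card (Sylow p G) := Nat.card_pos
  obtain ⟨m, hm⟩ : p ∣ Nat.card (Sylow p G) - 1 := (Nat.modEq_iff_dvd' hpos).1 hmod.symm
  refine ⟨m, t, ht, ?_, by rw [mul_comm m p]; omega, ?_⟩
  · obtain ⟨e, he⟩ : p ∣ Nat.card (Subgroup.normalizer ((P : Subgroup G) : Set G)) := by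
      have h := Subgroup.card_dvd_of_le (Subgroup.le_normalizer (H := (P : Subgroup G)))
      rwa [hS P] at h
    have hNG := CfsgLib.Perm.Small.card_sylow_mul_card_normalizer P
    rw [← hNG, he] at htot
    refine ⟨e, Nat.eq_of_mul_eq_mul_left (Nat.mul_pos hpos hp.pos) ?_⟩
    calc Nat.card (Sylow p G) * p * (p - 1) = t * (Nat.card (Sylow p G) * (p * e)) := by rw [htot]; ring
      _ = Nat.card (Sylow p G) * p * (t * e) := by ring
  · rw [mul_comm, htot, show Nat.card (Sylow p G) = 1 + m * p by rw [mul_comm m p]; omega]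
    ring

end Cfsg.Agent.S0995
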