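import Cfsg.Statements.S1001
import Cfsg.Agent.Lib.Block.SelfCentralPrime
import Cfsg.Agent.Lib.Char.Burnside
-- import your own Cfsg.Agent.* helpers here

set_option autoImplicit false
open Cfsg

namespace Cfsg.Agent.S1001

/-- In a finite simple group whose order has the form p * 3^a * 2^b with p prime, the centralizer of any element of order p is the cyclic group it generates. -/
theorem result {G : Type*} [Group G] [Finite G] [IsSimpleGroup G] (p a b : ℕ) (hp : p.Prime) (hG : Nat.card G = p * 3 ^ a * 2 ^ b) (x : G) (hx : orderOf x = p) : Subgroup.centralizer ({x} : Set G) = Subgroup.zpowers x := by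
  haveI : Fact p.Prime := ⟨hp⟩
  have hzle : Subgroup.zpowers x ≤ Subgroup.centralizer ({x} : Set G) :=
    Subgroup.zpowers_le.2 (Subgroup.mem_centralizer_singleton_iff.2 rfl)
  by_cases hp23 : p = 2 ∨ p = 3
  · haveI hsolv : Group.IsSolvable G := by
      rcases hp23 with rfl | rfl
      · exact CfsgLib.Char.isSolvable_of_card_two_primes Nat.prime_two Nat.prime_three G (b + 1) a
          (by rw [hG]; ring)
      · exact CfsgLib.Char.isSolvable_of_card_two_primes Nat.prime_two Nat.prime_three G b (a + 1)
          (by rw [hG]; ring)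
    have hcomm : ∀ u v : G, u * v = v * u := IsSimpleGroup.comm_iff_isSolvable.2 hsolv
    letI : CommGroup G := { (inferInstance : Group G) with mul_comm := hcomm }
    have hGp : Nat.card (Subgroup.zpowers x) = Nat.card G := by
      rw [Nat.card_zpowers, hx]
      exact (Nat.prime_dvd_prime_iff_eq hp IsSimpleGroup.prime_card).1 (hx ▸ orderOf_dvd_natCard x)
    rw [Subgroup.eq_top_of_card_eq _ hGp]
    exact le_antisymm le_top (by rw [← Subgroup.eq_top_of_card_eq _ hGp]; exact hzle)
  push Not at hp23
  have hcard : Nat.card G = 2 ^ b * 3 ^ a * p := by rw [hG]; ring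
  have hf : (Nat.card G).factorization p = 1 := by
    have h2 : (2 : ℕ) ^ b * 3 ^ a ≠ 0 := by positivity
    rw [hcard, Nat.factorization_mul h2 hp.ne_zero, Finsupp.add_apply, hp.factorization_self,
      Nat.factorization_eq_zero_of_not_dvd (fun h => ?_)]
    rcases (Nat.Prime.dvd_mul hp).1 h with h' | h'
    · exact hp23.1 ((Nat.prime_dvd_prime_iff_eq hp Nat.prime_two).1 (hp.dvd_of_dvd_pow h'))
    · exact hp23.2 ((Nat.prime_dvd_prime_iff_eq hp Nat.prime_three).1 (hp.dvd_of_dvd_pow h'))
  let S : Sylow p G := Sylow.ofCard (Subgroup.zpowers x)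
    (by rw [Nat.card_zpowers, hx, hf, pow_one])
  have h := CfsgLib.Block.SelfCentralPrime.centralizer_sylow_eq (a := b) (b := a)
    Nat.prime_two Nat.prime_three hp23.1.symm hp23.2.symm hcard S
  rw [show ((S : Subgroup G)) = Subgroup.zpowers x from rfl] at h
  change Subgroup.centralizer ((Subgroup.zpowers x : Subgroup G) : Set G) = _ at h
  rwa [Subgroup.zpowers_eq_closure, Subgroup.centralizer_closure,
    ← Subgroup.zpowers_eq_closure] at h

end Cfsg.Agent.S1001
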