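import Cfsg.Statements.S1008
import Mathlib
import Cfsg.Agent.Lib.Perm.Small.Card168Klein

set_option autoImplicit false
open Cfsg

namespace Cfsg.Agent.S1008
open scoped Pointwise

/-- In a simple group of order 168 every maximal subgroup is either isomorphic to the symmetric group of degree 4 or non-abelian of order 21; the maximal subgroups of order 21 form one conjugacy class and those isomorphic to the symmetric group of degree 4 form exactly two conjugacy classes. -/
theorem result {G : Type*} [Group G] [Finite G] [IsSimpleGroup G] (h : Nat.card G = 168) : (∀ M : Subgroup G, IsCoatom M → Nonempty (↥M ≃* Equiv.Perm (Fin 4)) ∨ (Nat.card ↥M = 21 ∧ ¬ IsMulCommutative ↥M)) ∧ (∀ M M' : Subgroup G, IsCoatom M → IsCoatom M' → Nat.card ↥M = 21 → Nat.card ↥M' = 21 → ∃ g : G, M' = M.map (MulAut.conj g).toMonoidHom) ∧ ∃ M₁ M₂ : Subgroup G, IsCoatom M₁ ∧ IsCoatom M₂ ∧ Nonempty (↥M₁ ≃* Equiv.Perm (Fin 4)) ∧ Nonempty (↥M₂ ≃* Equiv.Perm (Fin 4)) ∧ (∀ g : G, M₂ ≠ M₁.map (MulAut.conj g).toMonoidHom) ∧ ∀ M : Subgroup G, IsCoatom M → Nonempty (↥M ≃* Equiv.Perm (Fin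 4)) → ∃ g : G, M = M₁.map (MulAut.conj g).toMonoidHom ∨ M = M₂.map (MulAut.conj g).toMonoidHom := by
  classical
  haveI : Fact (Nat.Prime 2) := ⟨Nat.prime_two⟩
  haveI : Fact (Nat.Prime 3) := ⟨by norm_num⟩
  haveI : Fact (Nat.Prime 7) := ⟨by norm_num⟩
  haveI := Fintype.ofFinite G
  have hle := fun (H : Subgroup G) (hH : H ≠ ⊤) => CfsgLib.Perm.Small.s168_card_le h hH
  have hdvd := fun (H : Subgroup G) => h ▸ Subgroup.card_subgroup_dvd_card H
  -- proper subgroups of order 21 or 24 are maximal
  have hmax : ∀ H : Subgroup G, Nat.card H = 21 ∨ Nat.card H = 24 → IsCoatom H := by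
    intro H hH
    refine ⟨fun he => by rw [he, Subgroup.card_top, h] at hH; omega, fun K hK => ?_⟩
    by_contra hKt
    have h1 := hle K hKt
    obtain ⟨c, hc⟩ := Subgroup.card_dvd_of_le hK.le
    have hc2 : 2 ≤ c := by
      by_contra hlt
      refine hK.ne (Subgroup.eq_of_le_of_card_ge hK.le ?_)
      rw [hc]
      exact (Nat.mul_le_mul_left _ (show c ≤ 1 by omega)).trans (mul_one _).le
    have := Nat.mul_le_mul_left (Nat.card H) hc2
    omega
  -- normalizers of Klein groups
  have hN24 : ∀ U : Subgroup G, IsKleinFour U → Nat.card (Subgroup.normalizer (U : Set G)) = 24 :=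
    fun U hU => (CfsgLib.Perm.Small.s168_klein_normalizer h hU).1
  have hN7 : ∀ P : Sylow 7 G, Nat.card (Subgroup.normalizer ((P : Subgroup G) : Set G)) = 21 := by
    intro P
    have := CfsgLib.Perm.Small.card_sylow_mul_card_normalizer P
    rw [CfsgLib.Perm.Small.s168_n_seven h, h] at this
    omega
  -- a normal subgroup of order four is a Klein group
  have hfour : ∀ (M Q : Subgroup G), Q ≤ M → Nat.card Q = 4 → M ≤ Subgroup.normalizer (Q : Set G) → 8 < Nat.card M →
      IsKleinFour Q := by
    intro M Q hQM hQ hMN hM
    refine ⟨hQ, ?_⟩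
    refine (Nat.dvd_prime Nat.prime_two).1 (Monoid.exponent_dvd_of_forall_pow_eq_one fun u : Q => ?_) |>.resolve_left
      fun he => ?_
    · by_contra hu
      have ho : orderOf u = 4 := by
        have hd := orderOf_dvd_natCard u
        rw [hQ] at hd
        obtain ⟨i, hi, hi'⟩ := (Nat.dvd_prime_pow Nat.prime_two).1 (show _ ∣ 2 ^ 2 from hd)
        interval_cases i
        · exact absurd (by rw [orderOf_eq_one_iff.1 hi', one_pow]) hu
        · exact absurd (by rw [← orderOf_dvd_iff_pow_eq_one, hi']; norm_num) hu
        · rw [hi']; norm_num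
      have hu2 : orderOf ((u : G) ^ 2) = 2 := by
        rw [orderOf_pow, Subgroup.orderOf_coe, ho]; norm_num
      obtain ⟨R, -, -, hR⟩ := CfsgLib.Perm.Small.s168_invol_sylow h hu2
      have hgen : Subgroup.zpowers u = ⊤ := Subgroup.eq_top_of_card_eq _ (by rw [Nat.card_zpowers, ho, hQ])
      have hMR : M ≤ (R : Subgroup G) := by
        intro g hg
        rw [← hR, Subgroup.mem_centralizer_singleton_iff]
        have hgu : g * (u : G) * g⁻¹ ∈ Q := (Subgroup.mem_normalizer_iff.1 (hMN hg) u).1 u.2
        obtain ⟨j, hj⟩ : (⟨_, hgu⟩ : Q) ∈ Subgroup.zpowers u := hgen ▸ Subgroup.mem_top _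
        have hj' : (u : G) ^ j = g * (u : G) * g⁻¹ := congrArg Subtype.val hj
        refine mul_inv_eq_iff_eq_mul.1 ?_
        have hconj : g * (u : G) ^ 2 * g⁻¹ = (u : G) ^ (2 * j) := by
          rw [pow_two, two_mul, zpow_add, hj']; group
        rw [hconj]
        have hu4 : (u : G) ^ (4 : ℤ) = 1 := by
          rw [show (4 : ℤ) = ((4 : ℕ) : ℤ) from rfl, zpow_natCast, ← ho, ← Subgroup.orderOf_coe, pow_orderOf_eq_one]
        rcases Int.even_or_odd j with ⟨l, rfl⟩ | ⟨l, rfl⟩
        · exfalso
          have h1 : (g * (u : G) * g⁻¹) ^ 2 = 1 := by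
            rw [← hj', ← zpow_natCast, ← zpow_mul, show (l + l) * ((2 : ℕ) : ℤ) = 4 * l by push_cast; ring, zpow_mul,
              hu4, one_zpow]
          have := orderOf_dvd_of_pow_eq_one h1
          rw [CfsgLib.Perm.Small.orderOf_conj', Subgroup.orderOf_coe, ho] at this
          norm_num at this
        · rw [show 2 * (2 * l + 1) = 4 * l + 2 by ring, zpow_add, zpow_mul, hu4, one_zpow, one_mul]
          exact zpow_natCast _ 2
      have := Nat.le_of_dvd (by norm_num) (CfsgLib.Perm.Small.s168_sylow_two h R ▸ Subgroup.card_dvd_of_le hMR)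
      omega
    · rw [Monoid.exp_eq_one_iff] at he
      haveI := he
      rw [Nat.card_eq_one_iff_unique.2 ⟨inferInstance, inferInstance⟩] at hQ
      omega
  -- subgroups of order 24
  have h24 : ∀ M : Subgroup G, Nat.card M = 24 → ∀ T : Sylow 2 G, (T : Subgroup G) ≤ M →
      ∃ U : Subgroup G, IsKleinFour U ∧ U ≤ (T : Subgroup G) ∧ M = Subgroup.normalizer (U : Set G) := by
    intro M hM T hT
    let f : M →* Equiv.Perm (M ⧸ (T : Subgroup G).subgroupOf M) := MulAction.toPermHom M _
    have hidx : ((T : Subgroup G).subgroupOf M).index = 3 := by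
      have h1 := ((T : Subgroup G).subgroupOf M).card_mul_index
      rw [Nat.card_congr (Subgroup.subgroupOfEquivOfLe hT).toEquiv, CfsgLib.Perm.Small.s168_sylow_two h T, hM] at h1
      omega
    have hker : f.ker ≤ (T : Subgroup G).subgroupOf M := by
      intro m hm
      have h1 := Equiv.Perm.congr_fun (MonoidHom.mem_ker.1 hm) ((1 : M) : M ⧸ (T : Subgroup G).subgroupOf M)
      have h2 : ((m * 1 : M) : M ⧸ (T : Subgroup G).subgroupOf M) = ((1 : M) : M ⧸ (T : Subgroup G).subgroupOf M) := h1
      rw [mul_one, QuotientGroup.eq, mul_one] at h2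
      simpa using inv_mem h2
    have hk8 : Nat.card f.ker ∣ 8 := by
      have := Subgroup.card_dvd_of_le hker
      rwa [Nat.card_congr (Subgroup.subgroupOfEquivOfLe hT).toEquiv, CfsgLib.Perm.Small.s168_sylow_two h T] at this
    have hk := f.ker.card_mul_index
    rw [Subgroup.index_ker, hM] at hk
    have hr := Subgroup.card_subgroup_dvd_card f.range
    rw [Nat.card_perm, show Nat.card (M ⧸ (T : Subgroup G).subgroupOf M) = 3 from hidx] at hr
    obtain ⟨Q, hQ⟩ : ∃ Q : Subgroup G, Q = f.ker.map M.subtype := ⟨_, rfl⟩
    have hQc : Nat.card Q = Nat.card f.ker := by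
      rw [hQ]
      exact (Nat.card_congr (Subgroup.equivMapOfInjective _ _ M.subtype_injective).toEquiv).symm
    have hQM : Q ≤ M := hQ ▸ Subgroup.map_subtype_le _
    have hQN : M ≤ Subgroup.normalizer (Q : Set G) := by
      intro g hg
      rw [Subgroup.mem_normalizer_iff]
      intro y
      simp only [hQ, Subgroup.mem_map]
      constructor
      · rintro ⟨k, hk', rfl⟩
        exact ⟨⟨g, hg⟩ * k * ⟨g, hg⟩⁻¹, Subgroup.Normal.conj_mem inferInstance _ hk' _, rfl⟩
      · rintro ⟨k, hk', he⟩
        refine ⟨⟨g, hg⟩⁻¹ * k * ⟨g, hg⟩, ?_, ?_⟩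
        · have := Subgroup.Normal.conj_mem (inferInstance : f.ker.Normal) _ hk' (⟨g, hg⟩⁻¹)
          rwa [inv_inv] at this
        · show g⁻¹ * (k : G) * g = y
          have he' : (k : G) = g * y * g⁻¹ := he
          rw [he']; group
    have hk4 : Nat.card f.ker = 4 := by
      have hr' : Nat.card f.range ≤ 6 := Nat.le_of_dvd (by norm_num) (hr.trans (dvd_of_eq (by decide)))
      have hkle := Nat.le_of_dvd (by norm_num) hk8
      have hne8 : Nat.card f.ker ≠ 8 := by
        intro h8
        have heq : Q = (T : Subgroup G) := Subgroup.eq_of_le_of_card_ge (by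
          rw [hQ]; rintro _ ⟨k, hk', rfl⟩; exact hker hk') (by rw [hQc, h8, CfsgLib.Perm.Small.s168_sylow_two h T])
        have := Subgroup.card_dvd_of_le hQN
        rw [heq, CfsgLib.Perm.Small.s168_norm_two h T, CfsgLib.Perm.Small.s168_sylow_two h T, hM] at this
        norm_num at this
      have h46 : 4 ≤ Nat.card f.ker := by
        by_contra hlt
        have := Nat.mul_le_mul (show Nat.card f.ker ≤ 3 by omega) hr'
        rw [hk] at this
        omega
      have hd4 : ∀ c : ℕ, c ∣ 8 → c ≤ 8 → 4 ≤ c → c ≠ 8 → c = 4 := by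
        intro c hc h1 h2 h3
        interval_cases c <;> omega
      exact hd4 _ hk8 hkle h46 hne8
    have hK := hfour M Q hQM (hQc.trans hk4) hQN (by omega)
    refine ⟨Q, hK, ?_, Subgroup.eq_of_le_of_card_ge hQN (by rw [hN24 Q hK, hM])⟩
    rw [hQ]
    rintro _ ⟨k, hk', rfl⟩
    exact hker hk'
  -- classification
  have hclass : ∀ M : Subgroup G, IsCoatom M → Nat.card M = 21 ∨ Nat.card M = 24 := by
    intro M hM
    have h1 := hle M hM.1
    have h2 := hdvd M
    by_contra hcon
    push_neg at hcon
    by_cases h7 : 7 ∣ Nat.card M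
    · -- a unique Sylow 7-subgroup
      obtain ⟨y, hy⟩ := exists_prime_orderOf_dvd_card' (G := M) 7 h7
      rw [← Subgroup.orderOf_coe] at hy
      obtain ⟨P, hP⟩ := (IsPGroup.of_card (p := 7) (n := 1) (G := Subgroup.zpowers (y : G))
        (by rw [Nat.card_zpowers, hy, pow_one])).exists_le_sylow
      have hyP : Subgroup.zpowers (y : G) = (P : Subgroup G) := Subgroup.eq_of_le_of_card_ge hP
        (by rw [CfsgLib.Perm.Small.s168_sylow_seven h P, Nat.card_zpowers, hy])
      have hPM : (P : Subgroup G) ≤ M := hyP ▸ Subgroup.zpowers_le.2 y.2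
      obtain ⟨c, hc⟩ := h7
      have hS7 : ∀ R : Sylow 7 M, Nat.card (R : Subgroup M) = 7 := fun R =>
        CfsgLib.Perm.Small.card_sylow_prime (m := c) hc (fun hd => by have := Nat.le_of_dvd (Nat.pos_of_ne_zero fun h0 => by
          rw [h0, mul_zero] at hc; exact (Nat.card_pos (α := M)).ne' hc) hd; omega) R
      have hsub : Subsingleton (Sylow 7 M) := by
        refine Finite.card_le_one_iff_subsingleton.1 ?_
        have e1 := (P.subtype hPM).card_dvd_index
        have e2 := ((P.subtype hPM : Sylow 7 M) : Subgroup M).card_mul_index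
        rw [hS7, hc] at e2
        have e3 : Nat.card (Sylow 7 M) % 7 = 1 := card_sylow_modEq_one 7 M
        rw [show ((P.subtype hPM : Sylow 7 M) : Subgroup M).index = c by omega] at e1
        have hc0 : 0 < c := Nat.pos_of_ne_zero fun h0 => by
          rw [h0, mul_zero] at hc; exact (Nat.card_pos (α := M)).ne' hc
        have := Nat.le_of_dvd hc0 e1
        omega
      have hMN : M ≤ Subgroup.normalizer ((P : Subgroup G) : Set G) := by
        intro g hg
        have h3 := Sylow.smul_eq_iff_mem_normalizer.1 (Subsingleton.elim ((⟨g, hg⟩ : M) • P.subtype hPM) (P.subtype hPM))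
        replace h3 := (Subgroup.mem_normalizer_iff (H := ((P.subtype hPM : Sylow 7 M) : Subgroup M))).1 h3
        rw [Subgroup.mem_normalizer_iff]
        intro u
        constructor
        · intro hu
          exact (h3 ⟨u, hPM hu⟩).1 hu
        · intro hu
          have hu' : u ∈ M := by
            have := M.mul_mem (M.mul_mem (M.inv_mem hg) (hPM hu)) hg
            simpa [mul_assoc] using this
          exact (h3 ⟨u, hu'⟩).2 hu
      have hlt : M < Subgroup.normalizer ((P : Subgroup G) : Set G) := lt_of_le_of_ne hMN fun he => hcon.1 (he ▸ hN7 P)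
      have := hM.2 _ hlt
      have h4 := hN7 P
      rw [this, Subgroup.card_top, h] at h4
      omega
    · have hd24 : Nat.card M ∣ 24 := by
        refine (Nat.Coprime.dvd_of_dvd_mul_right ((Nat.Prime.coprime_iff_not_dvd (by norm_num)).2 h7).symm ?_)
        rw [show 24 * 7 = 168 by norm_num]
        exact h2
      by_cases h3 : 3 ∣ Nat.card M
      · obtain ⟨y, hy⟩ := exists_prime_orderOf_dvd_card' (G := M) 3 h3
        rw [← Subgroup.orderOf_coe] at hy
        -- a subgroup of order four normal in M, or M in the normalizer of a Sylow 3-subgroup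
        have hlist : Nat.card M = 3 ∨ Nat.card M = 6 ∨ Nat.card M = 12 := by
          have := hcon.2
          interval_cases hc : Nat.card M <;> omega
        have hS3 : ∀ R : Sylow 3 M, Nat.card (R : Subgroup M) = 3 := fun R => by
          obtain ⟨c, hc⟩ := h3
          exact CfsgLib.Perm.Small.card_sylow_prime (m := c) hc (fun ⟨d, hd⟩ => by omega) R
        obtain ⟨R⟩ : Nonempty (Sylow 3 M) := inferInstance
        by_cases hn3 : Nat.card (Sylow 3 M) = 1
        · -- M normalizes a Sylow 3-subgroup, which lies in an S4
          haveI : Subsingleton (Sylow 3 M) := Finite.card_le_one_iff_subsingleton.1 hn3.le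
          haveI := R.normal_of_subsingleton
          obtain ⟨P, hP⟩ := (IsPGroup.of_card (p := 3) (n := 1) (G := Subgroup.zpowers (y : G))
            (by rw [Nat.card_zpowers, hy, pow_one])).exists_le_sylow
          have hyP : Subgroup.zpowers (y : G) = (P : Subgroup G) := Subgroup.eq_of_le_of_card_ge hP
            (by rw [CfsgLib.Perm.Small.s168_sylow_three h P, Nat.card_zpowers, hy])
          have hPM : (P : Subgroup G) ≤ M := hyP ▸ Subgroup.zpowers_le.2 y.2
          have hMP : M ≤ Subgroup.normalizer ((P : Subgroup G) : Set G) := by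
            intro g hg
            have h5 := Sylow.smul_eq_iff_mem_normalizer.1 (Subsingleton.elim ((⟨g, hg⟩ : M) • P.subtype hPM) (P.subtype hPM))
            replace h5 := (Subgroup.mem_normalizer_iff (H := ((P.subtype hPM : Sylow 3 M) : Subgroup M))).1 h5
            rw [Subgroup.mem_normalizer_iff]
            intro u
            constructor
            · intro hu
              exact (h5 ⟨u, hPM hu⟩).1 hu
            · intro hu
              have hu' : u ∈ M := by
                have := M.mul_mem (M.mul_mem (M.inv_mem hg) (hPM hu)) hg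
                simpa [mul_assoc] using this
              exact (h5 ⟨u, hu'⟩).2 hu
          -- an S4 containing a conjugate of that Sylow subgroup
          obtain ⟨T⟩ : Nonempty (Sylow 2 G) := inferInstance
          obtain ⟨⟨U, -, hU⟩⟩ : Nonempty {U : Subgroup G // U ≤ (T : Subgroup G) ∧ IsKleinFour ↥U} :=
            (Nat.card_pos_iff.1 (by rw [CfsgLib.Perm.Small.s168_klein_card_eq_two h T]; norm_num)).1
          obtain ⟨N, hN⟩ : ∃ N, N = Subgroup.normalizer (U : Set G) := ⟨_, rfl⟩
          have hNc : Nat.card N = 24 := hN ▸ hN24 U hU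
          obtain ⟨w, hw⟩ := exists_prime_orderOf_dvd_card' (G := N) 3 (by rw [hNc]; norm_num)
          rw [← Subgroup.orderOf_coe] at hw
          obtain ⟨P', hP'⟩ := (IsPGroup.of_card (p := 3) (n := 1) (G := Subgroup.zpowers (w : G))
            (by rw [Nat.card_zpowers, hw, pow_one])).exists_le_sylow
          have hwP : Subgroup.zpowers (w : G) = (P' : Subgroup G) := Subgroup.eq_of_le_of_card_ge hP'
            (by rw [CfsgLib.Perm.Small.s168_sylow_three h P', Nat.card_zpowers, hw])
          have hP'N : (P' : Subgroup G) ≤ N := hwP ▸ Subgroup.zpowers_le.2 w.2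
          have hNP' : Subgroup.normalizer ((P' : Subgroup G) : Set G) ≤ N := by
            -- both normalizers have order six
            have e1 := CfsgLib.Perm.Small.card_sylow_mul_card_normalizer P'
            rw [CfsgLib.Perm.Small.s168_n_three h, h] at e1
            have hS : ∀ S : Sylow 3 N, Nat.card (S : Subgroup N) = 3 := fun S =>
              CfsgLib.Perm.Small.card_sylow_prime (m := 8) (by rw [hNc]) (by norm_num) S
            have e2 := CfsgLib.Perm.Small.card_sylow_mul_card_normalizer (P'.subtype hP'N)
            rw [hNc] at e2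
            have e3 : Nat.card (Sylow 3 N) ∣ 8 := by
              have := (P'.subtype hP'N).card_dvd_index
              have e4 := ((P'.subtype hP'N : Sylow 3 N) : Subgroup N).card_mul_index
              rw [hS, hNc] at e4
              rwa [show ((P'.subtype hP'N : Sylow 3 N) : Subgroup N).index = 8 by omega] at this
            have e5 : Nat.card (Sylow 3 N) % 3 = 1 := card_sylow_modEq_one 3 N
            have hle' : (Subgroup.normalizer (((P'.subtype hP'N : Sylow 3 N) : Subgroup N) : Set N)).map N.subtype ≤
                Subgroup.normalizer ((P' : Subgroup G) : Set G) := by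
              rintro _ ⟨n, hn, rfl⟩
              rw [SetLike.mem_coe, Subgroup.mem_normalizer_iff] at hn
              rw [Subgroup.mem_normalizer_iff]
              intro u
              constructor
              · intro hu
                exact (hn ⟨u, hP'N hu⟩).1 hu
              · intro hu
                have hu' : u ∈ N := by
                  have := N.mul_mem (N.mul_mem (N.inv_mem n.2) (hP'N hu)) n.2
                  simpa [mul_assoc] using this
                exact (hn ⟨u, hu'⟩).2 hu
            have e6 := Subgroup.card_dvd_of_le hle'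
            rw [← Nat.card_congr (Subgroup.equivMapOfInjective _ _ N.subtype_injective).toEquiv] at e6
            have e6' := Nat.le_of_dvd Nat.card_pos e6
            have e7 := Nat.le_of_dvd (by norm_num) e3
            have e8 : Nat.card (Sylow 3 N) = 4 := by
              interval_cases hcc : Nat.card (Sylow 3 N) <;> omega
            rw [e8] at e2
            have := Subgroup.eq_of_le_of_card_ge hle'
              (by rw [← Nat.card_congr (Subgroup.equivMapOfInjective _ _ N.subtype_injective).toEquiv]; omega)
            rw [← this]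
            exact Subgroup.map_subtype_le _
          obtain ⟨g, hg⟩ := MulAction.exists_smul_eq G P P'
          have hMg : M ≤ N.comap (MulAut.conj g).toMonoidHom := by
            intro m hm
            show g * m * g⁻¹ ∈ N
            apply hNP'
            have h5 : (g * m * g⁻¹) • P' = P' := by
              rw [← hg, ← mul_smul, mul_assoc, inv_mul_cancel, mul_one, mul_smul,
                Sylow.smul_eq_iff_mem_normalizer.2 (hMP hm)]
            exact Sylow.smul_eq_iff_mem_normalizer.1 h5
          have hNc' : Nat.card (N.comap (MulAut.conj g).toMonoidHom) = 24 := by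
            rw [← hNc]
            exact Nat.card_congr ((MulAut.conj g).toEquiv.subtypeEquiv fun _ => Iff.rfl)
          have hlt : M < N.comap (MulAut.conj g).toMonoidHom :=
            lt_of_le_of_ne hMg fun he => by rw [← he] at hNc'; omega
          rw [hM.2 _ hlt, Subgroup.card_top, h] at hNc'
          omega
        · -- M has order 12
          have e1 := R.card_dvd_index
          have e2 := (R : Subgroup M).card_mul_index
          rw [hS3] at e2
          have e3 : Nat.card (Sylow 3 M) % 3 = 1 := card_sylow_modEq_one 3 M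
          have hM12 : Nat.card M = 12 ∧ Nat.card (Sylow 3 M) = 4 := by
            have hi : 0 < (R : Subgroup M).index := Nat.pos_of_ne_zero Subgroup.index_ne_zero_of_finite
            have := Nat.le_of_dvd hi e1
            have hub : Nat.card (Sylow 3 M) ≤ 4 := by
              rcases hlist with hl | hl | hl <;> omega
            rcases hlist with hl | hl | hl <;> rw [hl] at e2 <;>
              interval_cases hcc : Nat.card (Sylow 3 M) <;> omega
          have hc3 := CfsgLib.Perm.Small.card_orderOf_eq_prime (G := M) hS3
          rw [hM12.2] at hc3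
          obtain ⟨Q⟩ : Nonempty (Sylow 2 M) := inferInstance
          have hQ4 : Nat.card (Q : Subgroup M) = 4 := by
            rw [Q.card_eq_multiplicity, hM12.1, show (12 : ℕ) = 2 ^ 2 * 3 by norm_num,
              Nat.factorization_mul (by norm_num) (by norm_num), Finsupp.add_apply, Nat.prime_two.factorization_pow,
              Finsupp.single_eq_same, Nat.factorization_eq_zero_of_not_dvd (by norm_num)]
            norm_num
          haveI := Fintype.ofFinite M
          have huniq : ∀ S : Sylow 2 M, (Finset.univ.filter fun g => g ∈ (S : Subgroup M)) =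
              Finset.univ.filter fun g => orderOf g ≠ 3 := by
            intro S
            refine Finset.eq_of_subset_of_card_le (fun g hg => ?_) ?_
            · simp only [Finset.mem_filter, Finset.mem_univ, true_and] at hg ⊢
              intro h3'
              have := Subgroup.orderOf_dvd_natCard _ hg
              rw [h3', S.card_eq_multiplicity, ← Q.card_eq_multiplicity, hQ4] at this
              norm_num at this
            · have hS4 : Nat.card (S : Subgroup M) = 4 := by rw [S.card_eq_multiplicity, ← Q.card_eq_multiplicity, hQ4]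
              rw [Nat.card_eq_fintype_card, Fintype.card_subtype] at hc3
              rw [Finset.filter_not, Finset.card_sdiff_of_subset (Finset.filter_subset _ _), Finset.card_univ,
                ← Nat.card_eq_fintype_card, hM12.1, hc3, ← Fintype.card_subtype, ← Nat.card_eq_fintype_card]
              exact le_of_eq hS4.symm
          have hQnormal : (Q : Subgroup M).Normal := by
            haveI : Subsingleton (Sylow 2 M) := ⟨fun S S' => Sylow.ext (SetLike.ext fun g => by
              have := congrArg (fun F : Finset M => g ∈ F) ((huniq S).trans (huniq S').symm)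
              simpa using this)⟩
            exact Q.normal_of_subsingleton
          have hQN : M ≤ Subgroup.normalizer (((Q : Subgroup M).map M.subtype : Subgroup G) : Set G) := by
            intro g hg
            rw [Subgroup.mem_normalizer_iff]
            intro u
            simp only [Subgroup.mem_map]
            constructor
            · rintro ⟨k, hk', rfl⟩
              exact ⟨⟨g, hg⟩ * k * ⟨g, hg⟩⁻¹, hQnormal.conj_mem _ hk' _, rfl⟩
            · rintro ⟨k, hk', he⟩
              refine ⟨⟨g, hg⟩⁻¹ * k * ⟨g, hg⟩, ?_, ?_⟩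
              · have := hQnormal.conj_mem _ hk' (⟨g, hg⟩⁻¹)
                rwa [inv_inv] at this
              · show g⁻¹ * (k : G) * g = u
                have he' : (k : G) = g * u * g⁻¹ := he
                rw [he']; group
          have hQc : Nat.card ((Q : Subgroup M).map M.subtype : Subgroup G) = 4 :=
            (Nat.card_congr (Subgroup.equivMapOfInjective _ _ M.subtype_injective).toEquiv).symm.trans hQ4
          have hK := hfour M _ (Subgroup.map_subtype_le _) hQc hQN (by omega)
          have hlt := lt_of_le_of_ne hQN fun he => by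
            have := hN24 _ hK
            rw [← he] at this
            omega
          have := hN24 _ hK
          rw [hM.2 _ hlt, Subgroup.card_top, h] at this
          omega
      · -- M is a 2-group
        have h8 : Nat.card M ∣ 8 := by
          refine (Nat.Coprime.dvd_of_dvd_mul_right ((Nat.Prime.coprime_iff_not_dvd (by norm_num)).2 h3).symm ?_)
          rw [show 8 * 3 = 24 by norm_num]
          exact hd24
        obtain ⟨i, -, hi⟩ := (Nat.dvd_prime_pow Nat.prime_two).1 (show Nat.card M ∣ 2 ^ 3 from h8)
        obtain ⟨T, hT⟩ := (IsPGroup.of_card (p := 2) (n := i) (G := M) hi).exists_le_sylow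
        obtain ⟨⟨U, hUT, hU⟩⟩ : Nonempty {U : Subgroup G // U ≤ (T : Subgroup G) ∧ IsKleinFour ↥U} :=
          (Nat.card_pos_iff.1 (by rw [CfsgLib.Perm.Small.s168_klein_card_eq_two h T]; norm_num)).1
        obtain ⟨z, hz, hz2, hzc, -⟩ := CfsgLib.Perm.Small.s168_center h T
        obtain ⟨-, hn, -⟩ := CfsgLib.Perm.Small.s168_klein_in h T hU hUT hz hz2 hzc
        have hTN : (T : Subgroup G) ≤ Subgroup.normalizer (U : Set G) := by
          intro t ht
          rw [Subgroup.mem_normalizer_iff]
          refine fun u => ⟨hn t ht u, fun hu => ?_⟩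
          have := hn t⁻¹ (inv_mem ht) _ hu
          simpa [mul_assoc] using this
        have hlt := lt_of_le_of_ne (hT.trans hTN) fun he => by
          have := hN24 _ hU
          rw [← he] at this
          exact hcon.2 this
        have := hN24 _ hU
        rw [hM.2 _ hlt, Subgroup.card_top, h] at this
        omega
  have hS4 : ∀ M : Subgroup G, Nonempty (M ≃* Equiv.Perm (Fin 4)) → Nat.card M = 24 := by
    rintro M ⟨e⟩
    rw [Nat.card_congr e.toEquiv, Nat.card_perm, Nat.card_fin]
    rfl
  refine ⟨fun M hM => ?_, ?_, ?_⟩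
  · rcases hclass M hM with h' | h'
    · refine Or.inr ⟨h', fun hc => ?_⟩
      obtain ⟨x, hx⟩ := exists_prime_orderOf_dvd_card' (G := M) 7 (by rw [h']; norm_num)
      obtain ⟨w, hw⟩ := exists_prime_orderOf_dvd_card' (G := M) 3 (by rw [h']; norm_num)
      rw [← Subgroup.orderOf_coe] at hx hw
      have hmem : (w : G) ∈ Subgroup.centralizer ({(x : G)} : Set G) :=
        Subgroup.mem_centralizer_singleton_iff.2 (congrArg Subtype.val (hc.is_comm.comm w x))
      rw [CfsgLib.Perm.Small.s168_cent_seven h hx] at hmem
      have := Subgroup.orderOf_dvd_natCard _ hmem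
      rw [Nat.card_zpowers, hx, hw] at this
      norm_num at this
    · exact Or.inl (Cfsg.Agent.S1012.result h' fun g => by
        rw [← Subgroup.orderOf_coe]; exact CfsgLib.Perm.Small.s168_no_six h _)
  · intro M M' hM hM' h21 h21'
    have hnorm : ∀ L : Subgroup G, Nat.card L = 21 → ∃ P : Sylow 7 G, L = Subgroup.normalizer ((P : Subgroup G) : Set G) := by
      intro L hL
      have hS : ∀ S : Sylow 7 L, Nat.card (S : Subgroup L) = 7 := fun S =>
        CfsgLib.Perm.Small.card_sylow_prime (m := 3) (by rw [hL]) (by norm_num) S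
      obtain ⟨S⟩ : Nonempty (Sylow 7 L) := inferInstance
      have hsub : Subsingleton (Sylow 7 L) := by
        refine Finite.card_le_one_iff_subsingleton.1 ?_
        have e1 := S.card_dvd_index
        have e2 := (S : Subgroup L).card_mul_index
        rw [hS, hL] at e2
        rw [show (S : Subgroup L).index = 3 by omega] at e1
        have e3 : Nat.card (Sylow 7 L) % 7 = 1 := card_sylow_modEq_one 7 L
        have := Nat.le_of_dvd (by norm_num) e1
        omega
      obtain ⟨P, hP⟩ := (S.isPGroup'.map L.subtype).exists_le_sylow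
      have heq : (S : Subgroup L).map L.subtype = (P : Subgroup G) := Subgroup.eq_of_le_of_card_ge hP (by
        rw [← Nat.card_congr (Subgroup.equivMapOfInjective _ _ L.subtype_injective).toEquiv, hS,
          CfsgLib.Perm.Small.s168_sylow_seven h P])
      refine ⟨P, Subgroup.eq_of_le_of_card_ge ?_ (by rw [hN7, hL])⟩
      intro g hg
      haveI := S.normal_of_subsingleton
      rw [← heq, Subgroup.mem_normalizer_iff]
      intro u
      simp only [Subgroup.mem_map]
      constructor
      · rintro ⟨k, hk', rfl⟩
        exact ⟨⟨g, hg⟩ * k * ⟨g, hg⟩⁻¹, Subgroup.Normal.conj_mem inferInstance _ hk' _, rfl⟩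
      · rintro ⟨k, hk', he⟩
        refine ⟨⟨g, hg⟩⁻¹ * k * ⟨g, hg⟩, ?_, ?_⟩
        · have := Subgroup.Normal.conj_mem (inferInstance : (S : Subgroup L).Normal) _ hk' (⟨g, hg⟩⁻¹)
          rwa [inv_inv] at this
        · show g⁻¹ * (k : G) * g = u
          have he' : (k : G) = g * u * g⁻¹ := he
          rw [he']; group
    obtain ⟨P, rfl⟩ := hnorm M h21
    obtain ⟨P', rfl⟩ := hnorm M' h21'
    obtain ⟨g, rfl⟩ := MulAction.exists_smul_eq G P P'
    refine ⟨g, SetLike.ext fun x => ?_⟩
    rw [Subgroup.mem_map_equiv]
    refine Iff.trans (Sylow.smul_eq_iff_mem_normalizer (P := g • P)).symm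
      (Iff.trans ?_ (Sylow.smul_eq_iff_mem_normalizer (P := P)))
    show x • g • P = g • P ↔ (g⁻¹ * x * g) • P = P
    rw [mul_smul, mul_smul, inv_smul_eq_iff]
  · obtain ⟨T⟩ : Nonempty (Sylow 2 G) := inferInstance
    have h2K := CfsgLib.Perm.Small.s168_klein_card_eq_two h T
    haveI := Fintype.ofFinite {U : Subgroup G // U ≤ (T : Subgroup G) ∧ IsKleinFour ↥U}
    rw [Nat.card_eq_fintype_card, ← Finset.card_univ, Finset.card_eq_two] at h2K
    obtain ⟨⟨U, hUT, hU⟩, ⟨W, hWT, hW⟩, hUW, huniv⟩ := h2K
    have hne : U ≠ W := fun he => hUW (Subtype.ext he)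
    refine ⟨Subgroup.normalizer (U : Set G), Subgroup.normalizer (W : Set G), hmax _ (Or.inr (hN24 U hU)),
      hmax _ (Or.inr (hN24 W hW)), (CfsgLib.Perm.Small.s168_klein_normalizer h hU).2,
      (CfsgLib.Perm.Small.s168_klein_normalizer h hW).2, ?_, ?_⟩
    · intro g hg
      -- a normal four-group of an S4 is unique
      obtain ⟨z, hz, hz2, hzc, -⟩ := CfsgLib.Perm.Small.s168_center h T
      obtain ⟨U', hU'⟩ : ∃ U', U' = U.map (MulAut.conj g).toMonoidHom := ⟨_, rfl⟩
      have hU'4 : Nat.card U' = 4 := by
        rw [hU', ← Nat.card_congr (Subgroup.equivMapOfInjective _ _ (MulAut.conj g).injective).toEquiv]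
        exact hU.card_four
      have hU'N : Subgroup.normalizer (W : Set G) ≤ Subgroup.normalizer (U' : Set G) := by
        rw [hg, hU']
        exact Subgroup.le_normalizer_map _
      have hW8 : (T : Subgroup G) ≤ Subgroup.normalizer (W : Set G) := by
        obtain ⟨-, hn, -⟩ := CfsgLib.Perm.Small.s168_klein_in h T hW hWT hz hz2 hzc
        intro t ht
        rw [Subgroup.mem_normalizer_iff]
        refine fun u => ⟨hn t ht u, fun hu => ?_⟩
        have := hn t⁻¹ (inv_mem ht) _ hu
        simpa [mul_assoc] using this
      have hpg : IsPGroup 2 ↥((T : Subgroup G) ⊔ U') := T.isPGroup'.to_sup_of_normal_right'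
        (IsPGroup.of_card (p := 2) (n := 2) (by rw [hU'4]; norm_num)) (hW8.trans hU'N)
      have hU'T : U' ≤ (T : Subgroup G) := (T.is_maximal' hpg le_sup_left).le.trans' le_sup_right
      have hU'K : IsKleinFour U' := hfour (Subgroup.normalizer (W : Set G)) U'
        (hU'T.trans hW8) hU'4 hU'N (by rw [hN24 W hW]; norm_num)
      have e1 : U = U' := CfsgLib.Perm.Small.s168_klein_not_conj h T hUT hU'T hU hU'K hU'.symm
      have e2 : W ≤ Subgroup.normalizer (W : Set G) := Subgroup.le_normalizer
      -- then U and W have the same normalizer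
      rw [← e1] at hU'N
      have hsame : Subgroup.normalizer (W : Set G) = Subgroup.normalizer (U : Set G) :=
        Subgroup.eq_of_le_of_card_ge hU'N (by rw [hN24 U hU, hN24 W hW])
      -- the intersection of the Sylow subgroups of the S4
      obtain ⟨-, -, r, hrW, hr1, hrz, -⟩ := CfsgLib.Perm.Small.s168_klein_in h T hW hWT hz hz2 hzc
      obtain ⟨T', -, hT'c, hT'⟩ := CfsgLib.Perm.Small.s168_invol_sylow h
        (CfsgLib.Perm.Small.s168_invol_of_sq ((CfsgLib.Perm.Small.s168_klein_facts hW).2 r hrW) hr1)
      have hWT' : W ≤ (T' : Subgroup G) := by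
        rw [← hT']
        intro u hu
        rw [Subgroup.mem_centralizer_singleton_iff]
        have hinv : ∀ w ∈ W, w⁻¹ = w := fun w hw =>
          inv_eq_of_mul_eq_one_left ((CfsgLib.Perm.Small.s168_klein_facts hW).2 w hw)
        rw [← hinv (u * r) (mul_mem hu hrW), mul_inv_rev, hinv u hu, hinv r hrW]
      obtain ⟨z', hz', hz'2, hz'c, -⟩ := CfsgLib.Perm.Small.s168_center h T'
      obtain ⟨-, hn', -⟩ := CfsgLib.Perm.Small.s168_klein_in h T' hW hWT' hz' hz'2 hz'c
      have hT'N : (T' : Subgroup G) ≤ Subgroup.normalizer (W : Set G) := by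
        intro t ht
        rw [Subgroup.mem_normalizer_iff]
        refine fun u => ⟨hn' t ht u, fun hu => ?_⟩
        have := hn' t⁻¹ (inv_mem ht) _ hu
        simpa [mul_assoc] using this
      have hpg' : IsPGroup 2 ↥((T' : Subgroup G) ⊔ U) := T'.isPGroup'.to_sup_of_normal_right'
        (IsPGroup.of_card (p := 2) (n := 2) (by rw [hU.card_four]; norm_num)) (hT'N.trans hsame.le)
      have hUT' : U ≤ (T' : Subgroup G) := (T'.is_maximal' hpg' le_sup_left).le.trans' le_sup_right
      have hmeet : (T : Subgroup G) ⊓ (T' : Subgroup G) = W := by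
        refine (Subgroup.eq_of_le_of_card_ge (le_inf hWT hWT') ?_).symm
        have hd := Subgroup.card_dvd_of_le (inf_le_left : (T : Subgroup G) ⊓ (T' : Subgroup G) ≤ _)
        rw [CfsgLib.Perm.Small.s168_sylow_two h T] at hd
        have h8 : Nat.card ↥((T : Subgroup G) ⊓ (T' : Subgroup G)) ≠ 8 := by
          intro h8
          have he := Subgroup.eq_of_le_of_card_ge (inf_le_left : (T : Subgroup G) ⊓ (T' : Subgroup G) ≤ _)
            (by rw [h8, CfsgLib.Perm.Small.s168_sylow_two h T])
          have hTT' : (T : Subgroup G) ≤ (T' : Subgroup G) := he.ge.trans inf_le_right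
          obtain ⟨z'', _, _, _, huniq'', _⟩ := CfsgLib.Perm.Small.s168_center h T
          have e1 := huniq'' r (hWT hrW) hr1 fun t ht => hT'c t (hTT' ht)
          have e2 := huniq'' z hz (fun hh => by rw [hh, orderOf_one] at hz2; norm_num at hz2) hzc
          exact hrz (e1.trans e2.symm)
        have := Nat.le_of_dvd (by norm_num) hd
        rw [hW.card_four]
        interval_cases hcc : Nat.card ↥((T : Subgroup G) ⊓ (T' : Subgroup G)) <;> omega
      apply hne
      refine Subgroup.eq_of_le_of_card_ge ((le_inf hUT hUT').trans hmeet.le) ?_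
      rw [hU.card_four, hW.card_four]
    · intro M _ hM4
      have hMc := hS4 M hM4
      obtain ⟨S⟩ : Nonempty (Sylow 2 M) := inferInstance
      obtain ⟨T', hT'⟩ := (S.isPGroup'.map M.subtype).exists_le_sylow
      have hS8 : Nat.card ((S : Subgroup M).map M.subtype) = 8 := by
        rw [← Nat.card_congr (Subgroup.equivMapOfInjective _ _ M.subtype_injective).toEquiv, S.card_eq_multiplicity,
          hMc, show (24 : ℕ) = 2 ^ 3 * 3 by norm_num, Nat.factorization_mul (by norm_num) (by norm_num), Finsupp.add_apply,
          Nat.prime_two.factorization_pow, Finsupp.single_eq_same, Nat.factorization_eq_zero_of_not_dvd (by norm_num)]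
        rfl
      have hT'M : (T' : Subgroup G) ≤ M := by
        rw [← Subgroup.eq_of_le_of_card_ge hT' (by rw [hS8, CfsgLib.Perm.Small.s168_sylow_two h T'])]
        exact Subgroup.map_subtype_le _
      obtain ⟨V, hV, hVT, hMV⟩ := h24 M hMc T' hT'M
      obtain ⟨g, hg⟩ := MulAction.exists_smul_eq G T T'
      obtain ⟨V', hV'⟩ : ∃ V', V' = V.comap (MulAut.conj g).toMonoidHom := ⟨_, rfl⟩
      have hV'T : V' ≤ (T : Subgroup G) := by
        intro x hx
        rw [hV'] at hx
        have h1 : g * x * g⁻¹ ∈ ((g • T : Sylow 2 G) : Subgroup G) := by rw [hg]; exact hVT hx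
        obtain ⟨t, ht, he⟩ := CfsgLib.Perm.Small.exists_conj_of_mem_smul g T h1
        rwa [← mul_left_cancel (mul_right_cancel he)]
      have hV'K : IsKleinFour V' := by
        have e : V' ≃* V := hV' ▸ ((MulAut.conj g).subgroupMap (V.comap (MulAut.conj g).toMonoidHom)).trans
          (MulEquiv.subgroupCongr (Subgroup.map_comap_eq_self_of_surjective (MulAut.conj g).surjective V))
        exact ⟨(Nat.card_congr e.toEquiv).trans hV.card_four, (Monoid.exponent_eq_of_mulEquiv e).trans hV.exponent_two⟩
      have hVmap : V = V'.map (MulAut.conj g).toMonoidHom := by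
        rw [hV']
        exact (Subgroup.map_comap_eq_self_of_surjective (MulAut.conj g).surjective V).symm
      have hmem : (⟨V', hV'T, hV'K⟩ : {U : Subgroup G // U ≤ (T : Subgroup G) ∧ IsKleinFour ↥U}) ∈
          (Finset.univ : Finset _) := Finset.mem_univ _
      rw [huniv, Finset.mem_insert, Finset.mem_singleton] at hmem
      refine ⟨g, hmem.imp (fun he => ?_) (fun he => ?_)⟩ <;>
      · have he' := congrArg Subtype.val he
        simp only at he'
        rw [← he', hMV, hVmap, Subgroup.map_equiv_normalizer_eq]

end Cfsg.Agent.S1008
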