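import Cfsg.Statements.S1013
-- import your own Cfsg.Agent.* helpers here
import Mathlib
import Mathlib

set_option autoImplicit false
set_option linter.all false
open Cfsg

namespace Cfsg.Agent.S1013

/-- Let G be a transitive permutation group of prime degree p having more than one Sylow p-subgroup, and suppose a Sylow p-subgroup P has prime index in its normalizer. Then G is simple. -/
theorem result {α : Type*} [Fintype α] [DecidableEq α] {p : ℕ} [Fact p.Prime] (hα : Fintype.card α = p) (G : Subgroup (Equiv.Perm α)) [MulAction.IsPretransitive ↥G α] (P : Sylow p ↥G) (hn : 1 < Nat.card (Sylow p ↥G)) (ht : (((P : Subgroup ↥G).subgroupOf (Subgroup.normalizer ((P : Subgroup ↥G) : Set ↥G))).index).Prime) : IsSimpleGroup ↥G := by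
  classical
  have hp : p.Prime := Fact.out
  haveI : MulAction.IsPreprimitive ↥G α := MulAction.IsPreprimitive.of_prime_card (by
    rw [Nat.card_eq_fintype_card, hα]; exact hp)
  haveI : FaithfulSMul ↥G α := ⟨fun {a b} h => Subtype.ext (Equiv.ext h)⟩
  haveI : Nontrivial ↥G := by
    obtain ⟨Q, R, hQR⟩ := (Finite.one_lt_card_iff_nontrivial.1 hn).exists_pair_ne
    by_contra hcon
    haveI : Subsingleton ↥G := not_nontrivial_iff_subsingleton.1 hcon
    exact hQR (Sylow.ext (Subsingleton.elim _ _))
  have hpG : p ∣ Nat.card ↥G := by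
    obtain ⟨a⟩ : Nonempty α := Fintype.card_pos_iff.1 (hα ▸ hp.pos)
    have h := (MulAction.stabilizer ↥G a).index_dvd_card
    rwa [MulAction.index_stabilizer_of_transitive, Nat.card_eq_fintype_card, hα] at h
  have hsq : ¬ p ^ 2 ∣ Nat.card ↥G := by
    intro h
    have h2 := h.trans (Subgroup.card_subgroup_dvd_card G)
    rw [Nat.card_perm, Nat.card_eq_fintype_card, hα] at h2
    rw [pow_two, ← Nat.mul_factorial_pred hp.ne_zero] at h2
    have h3 := Nat.dvd_of_mul_dvd_mul_left hp.pos h2
    have h4 := hp.dvd_factorial.1 h3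
    have := hp.one_lt
    omega
  have hPc : ∀ Q : Sylow p ↥G, Nat.card (Q : Subgroup ↥G) = p := by
    intro Q
    obtain ⟨k, hk⟩ := Q.2.exists_card_eq
    have h1 : p ∣ Nat.card (Q : Subgroup ↥G) := Q.dvd_card_of_dvd_card hpG
    rcases k with _ | _ | k
    · rw [hk, pow_zero] at h1; exact absurd (Nat.dvd_one.1 h1) hp.one_lt.ne'
    · simpa using hk
    · exfalso
      have h3 := Subgroup.card_subgroup_dvd_card (Q : Subgroup ↥G)
      rw [hk] at h3
      exact hsq ((pow_dvd_pow p (by omega)).trans h3)
  refine { eq_bot_or_eq_top_of_normal := fun K hK => ?_ }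
  rw [or_iff_not_imp_left]
  intro hne
  haveI := hK
  haveI : MulAction.IsPretransitive K α := MulAction.IsQuasiPreprimitive.isPretransitive_of_normal (G := ↥G) fun h => by
    refine hne ((Subgroup.eq_bot_iff_forall _).2 fun k hk => ?_)
    refine FaithfulSMul.eq_of_smul_eq_smul (α := α) fun a => ?_
    have ha : a ∈ MulAction.fixedPoints K α := h ▸ Set.mem_univ a
    rw [one_smul]
    exact ha ⟨k, hk⟩
  have hpK : p ∣ Nat.card K := by
    obtain ⟨a⟩ : Nonempty α := Fintype.card_pos_iff.1 (hα ▸ hp.pos)
    have h := (MulAction.stabilizer K a).index_dvd_card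
    rwa [MulAction.index_stabilizer_of_transitive, Nat.card_eq_fintype_card, hα] at h
  -- every Sylow subgroup lies in `K`
  have hPK : (P : Subgroup ↥G) ≤ K := by
    obtain ⟨Q⟩ : Nonempty (Sylow p K) := inferInstance
    obtain ⟨R, hR⟩ := Q.exists_comap_subtype_eq
    obtain ⟨g, hg⟩ := MulAction.exists_smul_eq ↥G R P
    obtain ⟨y, hy⟩ := exists_prime_orderOf_dvd_card' (G := (Q : Subgroup K)) p (Q.dvd_card_of_dvd_card hpK)
    have hyR : ((y : K) : ↥G) ∈ (R : Subgroup ↥G) := by
      have h' : (y : K) ∈ (R : Subgroup ↥G).comap K.subtype := hR.ge y.2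
      exact h'
    have hyo : orderOf ((y : K) : ↥G) = p := by rw [Subgroup.orderOf_coe, Subgroup.orderOf_coe, hy]
    have hgen : Subgroup.zpowers ((y : K) : ↥G) = (R : Subgroup ↥G) :=
      Subgroup.eq_of_le_of_card_ge (Subgroup.zpowers_le.2 hyR) (by rw [hPc R, Nat.card_zpowers, hyo])
    rw [← hg, Sylow.coe_subgroup_smul, ← hgen]
    rintro _ ⟨z, hz, rfl⟩
    exact hK.conj_mem _ ((Subgroup.zpowers_le.2 (y : K).2) hz) g
  set N := Subgroup.normalizer ((P : Subgroup ↥G) : Set ↥G) with hN
  -- Frattini
  have hfr : N ⊔ K = ⊤ := by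
    have h := Sylow.normalizer_sup_eq_top (P.subtype hPK)
    rwa [Sylow.coe_subtype, Subgroup.map_subgroupOf_eq_of_le hPK] at h
  have hPle : (P : Subgroup ↥G) ≤ N ⊓ K := le_inf Subgroup.le_normalizer hPK
  have hNK : N ≤ K := by
    have hrel := Subgroup.relIndex_mul_relIndex (P : Subgroup ↥G) (N ⊓ K) N hPle inf_le_left
    have ht' : ((P : Subgroup ↥G).relIndex N).Prime := ht
    rcases (Nat.dvd_prime ht').1 (hrel ▸ dvd_mul_right _ _ : (P : Subgroup ↥G).relIndex (N ⊓ K) ∣ (P : Subgroup ↥G).relIndex N) with h1 | h1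
    · -- `P` is self-normalizing in `K`: a normal complement would be normal of order prime to `p`
      exfalso
      have hNKP : N ⊓ K ≤ (P : Subgroup ↥G) := Subgroup.relIndex_eq_one.1 h1
      let PK : Sylow p K := P.subtype hPK
      haveI : IsMulCommutative (PK : Subgroup K) := (isCyclic_of_prime_card (p := p) (by
        rw [Sylow.coe_subtype, Nat.card_congr (Subgroup.subgroupOfEquivOfLe hPK).toEquiv, hPc P])).isMulCommutative
      have hle : Subgroup.normalizer ((PK : Subgroup K) : Set K) ≤ Subgroup.centralizer ((PK : Subgroup K) : Set K) := by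
        intro k hk
        refine Subgroup.le_centralizer (PK : Subgroup K) ?_
        rw [Sylow.coe_subtype, Subgroup.mem_subgroupOf]
        refine hNKP ⟨Subgroup.mem_normalizer_iff.2 fun w => ?_, k.2⟩
        constructor
        · intro hw
          exact (Subgroup.mem_normalizer_iff.1 hk ⟨w, hPK hw⟩).1 hw
        · intro hw
          have hwK : w ∈ K := by
            have h := K.mul_mem (K.mul_mem (K.inv_mem k.2) (hPK hw)) k.2
            rwa [show (k : ↥G)⁻¹ * ((k : ↥G) * w * (k : ↥G)⁻¹) * (k : ↥G) = w by group] at h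
          exact (Subgroup.mem_normalizer_iff.1 hk ⟨w, hwK⟩).2 hw
      have hcompl := MonoidHom.ker_transferSylow_isComplement' PK hle
      set L := (MonoidHom.transferSylow PK hle).ker with hL
      have hndvd : ¬ p ∣ Nat.card L := MonoidHom.not_dvd_card_ker_transferSylow PK hle
      have hidxK : L.index = p := by
        rw [hcompl.symm.index_eq_card, Sylow.coe_subtype,
          Nat.card_congr (Subgroup.subgroupOfEquivOfLe hPK).toEquiv, hPc P]
      -- `L` consists of the elements of order prime to `p`
      have hchar : ∀ k : K, k ∈ L ↔ ¬ p ∣ orderOf k := by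
        intro k
        refine ⟨fun hk h => hndvd (h.trans (Subgroup.orderOf_dvd_natCard _ hk)), fun hk => ?_⟩
        have h1 : orderOf (QuotientGroup.mk' L k) ∣ p := by
          have := orderOf_dvd_natCard (QuotientGroup.mk' L k)
          rwa [show Nat.card (K ⧸ L) = p from hidxK] at this
        have h2 := orderOf_map_dvd (QuotientGroup.mk' L) k
        rcases (Nat.dvd_prime hp).1 h1 with h3 | h3
        · exact (QuotientGroup.eq_one_iff k).1 (orderOf_eq_one_iff.1 h3)
        · rw [h3] at h2; exact absurd h2 hk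
      have hLn : (L.map K.subtype).Normal := by
        refine ⟨fun l hl g => ?_⟩
        obtain ⟨k, hk, rfl⟩ := hl
        refine ⟨⟨g * k * g⁻¹, hK.conj_mem _ k.2 g⟩, (hchar _).2 ?_, rfl⟩
        rw [← Subgroup.orderOf_coe]
        show ¬ p ∣ orderOf (g * (k : ↥G) * g⁻¹)
        rw [show orderOf (g * (k : ↥G) * g⁻¹) = orderOf k from
          ((MulAut.conj g).orderOf_eq (k : ↥G)).trans (Subgroup.orderOf_coe k)]
        exact (hchar k).1 hk
      have hLbot : L = ⊥ := by
        by_contra hLne
        haveI := hLn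
        haveI : MulAction.IsPretransitive (L.map K.subtype) α :=
          MulAction.IsQuasiPreprimitive.isPretransitive_of_normal (G := ↥G) fun h => by
            refine hLne ((Subgroup.eq_bot_iff_forall _).2 fun l hl => Subtype.ext ?_)
            refine FaithfulSMul.eq_of_smul_eq_smul (α := α) fun a => ?_
            have ha : a ∈ MulAction.fixedPoints (L.map K.subtype) α := h ▸ Set.mem_univ a
            rw [OneMemClass.coe_one, one_smul]
            exact ha ⟨_, Subgroup.mem_map_of_mem _ hl⟩
        obtain ⟨a⟩ : Nonempty α := Fintype.card_pos_iff.1 (hα ▸ hp.pos)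
        have h := (MulAction.stabilizer (L.map K.subtype) a).index_dvd_card
        rw [MulAction.index_stabilizer_of_transitive, Nat.card_eq_fintype_card, hα,
          Subgroup.card_subtype] at h
        exact hndvd h
      have hKP : K ≤ (P : Subgroup ↥G) := by
        rw [hLbot] at hcompl
        intro k hk
        have h : (⟨k, hk⟩ : K) ∈ (PK : Subgroup K) :=
          (Subgroup.isComplement'_bot_left.1 hcompl).symm ▸ Subgroup.mem_top _
        exact h
      have : (P : Subgroup ↥G).Normal := le_antisymm hKP hPK ▸ hK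
      haveI := Sylow.unique_of_normal P this
      rw [Nat.card_unique] at hn
      exact lt_irrefl _ hn
    · rw [h1] at hrel
      have h2 : (N ⊓ K).relIndex N = 1 := Nat.eq_of_mul_eq_mul_left ht'.pos (by rw [hrel, mul_one])
      exact le_trans (Subgroup.relIndex_eq_one.1 h2) inf_le_right
  rw [← hfr, sup_eq_right.2 hNK]

end Cfsg.Agent.S1013
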