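import Cfsg.Statements.S1014
import Mathlib
import Cfsg.Agent.Lib.Perm.Small.Count
import Cfsg.Agent.Lib.Perm.Groups.PrimeNormalizer
import Cfsg.Agent.Lib.Invol.SmallSimple
import Cfsg.Agent.S0990

set_option autoImplicit false
open Cfsg

namespace Cfsg.Agent.S1014

/-- No finite simple group has order 1104 = 2^4 * 3 * 23. -/
theorem result {G : Type*} [Group G] [Finite G] [IsSimpleGroup G] : Nat.card G ≠ 1104 := by
  classical
  intro hcard
  haveI : Fact (Nat.Prime 23) := ⟨by norm_num⟩
  have hG : ¬ IsMulCommutative G := by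
    intro hc
    haveI := hc
    letI : CommGroup G := { (inferInstance : Group G) with mul_comm := fun a b => IsMulCommutative.is_comm.comm a b }
    have hp : (Nat.card G).Prime := IsSimpleGroup.prime_card
    rw [hcard] at hp
    norm_num at hp
  obtain ⟨P⟩ : Nonempty (Sylow 23 G) := inferInstance
  have hP : Nat.card (P : Subgroup G) = 23 := CfsgLib.Perm.Small.card_sylow_prime (m := 48) (by rw [hcard]) (by norm_num) P
  have hidx : (P : Subgroup G).index = 48 := by
    have := (P : Subgroup G).card_mul_index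
    rw [hP, hcard] at this
    omega
  have hd : Nat.card (Sylow 23 G) ∣ 48 := hidx ▸ P.card_dvd_index
  have hm : Nat.card (Sylow 23 G) % 23 = 1 := card_sylow_modEq_one 23 G
  have h1 := CfsgLib.Invol.one_lt_card_sylow hG (p := 23) (by rw [hcard]; norm_num)
  have h24 : Nat.card (Sylow 23 G) = 24 := by
    have hall : ∀ c ∈ Nat.divisors 48, c % 23 = 1 → 1 < c → c = 24 := by decide +kernel
    exact hall _ (Nat.mem_divisors.2 ⟨hd, by norm_num⟩) hm h1
  haveI : Fintype (Sylow 23 G) := Fintype.ofFinite _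
  obtain ⟨f, hf⟩ : ∃ f : G →* Equiv.Perm (Sylow 23 G), f = MulAction.toPermHom G (Sylow 23 G) := ⟨_, rfl⟩
  have hker : Function.Injective f := by
    rw [← MonoidHom.ker_eq_bot_iff]
    refine (IsSimpleGroup.eq_bot_or_eq_top_of_normal _ inferInstance).resolve_right fun h => ?_
    obtain ⟨Q, R, hQR⟩ := (Finite.one_lt_card_iff_nontrivial.1 h1).exists_pair_ne
    obtain ⟨g, hg⟩ := MulAction.exists_smul_eq G Q R
    subst hf
    exact hQR ((Equiv.Perm.congr_fun (MonoidHom.mem_ker.1 (h ▸ Subgroup.mem_top g :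
      g ∈ (MulAction.toPermHom G (Sylow 23 G)).ker)) Q).symm.trans hg)
  have halt : ∀ g, f g ∈ alternatingGroup (Sylow 23 G) := by
    intro g
    rw [Equiv.Perm.mem_alternatingGroup]
    let s := Equiv.Perm.sign.comp f
    rcases IsSimpleGroup.eq_bot_or_eq_top_of_normal s.ker inferInstance with h | h
    · refine absurd ⟨⟨fun a b => ?_⟩⟩ hG
      exact (MonoidHom.ker_eq_bot_iff s).1 h (by rw [map_mul, map_mul, mul_comm])
    · exact MonoidHom.mem_ker.1 (show g ∈ s.ker from h ▸ Subgroup.mem_top g)
  have hN : Nat.card (Subgroup.normalizer ((P : Subgroup G) : Set G)) = 46 := by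
    have := CfsgLib.Perm.Small.card_sylow_mul_card_normalizer P
    rw [h24, hcard] at this
    omega
  have hfP : Nat.card ((P : Subgroup G).map f) = 23 := by
    rw [← Nat.card_congr (Subgroup.equivMapOfInjective _ _ hker).toEquiv, hP]
  have hc24 : Fintype.card (Sylow 23 G) = 24 := by rw [← Nat.card_eq_fintype_card, h24]
  obtain ⟨T, hT⟩ := (IsPGroup.of_card (p := 23) (n := 1) (G := ((P : Subgroup G).map f)) (by rw [hfP, pow_one])).exists_le_sylow
  have hTc : Nat.card (T : Subgroup (Equiv.Perm (Sylow 23 G))) = 23 :=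
    CfsgLib.Perm.Groups.card_sylow_perm (by rw [hc24]; norm_num) (by rw [hc24]; norm_num) T
  have heq : (P : Subgroup G).map f = (T : Subgroup (Equiv.Perm (Sylow 23 G))) :=
    Subgroup.eq_of_le_of_card_ge hT (by rw [hfP, hTc])
  obtain ⟨hTA, hTN⟩ := Cfsg.Agent.S0990.result (α := Sylow 23 G) (by rw [hc24]; norm_num) 23 (by norm_num) T
  have hNT := CfsgLib.Perm.Groups.card_normalizer_of_card_prime (α := Sylow 23 G) (by rw [hc24]; norm_num) _ hTc
  rw [hNT, hc24] at hTN
  let f' : G →* alternatingGroup (Sylow 23 G) := f.codRestrict _ halt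
  have hker' : Function.Injective f' := fun a b hab => hker (congrArg Subtype.val hab)
  have hmap : (P : Subgroup G).map f' = (T : Subgroup (Equiv.Perm (Sylow 23 G))).subgroupOf (alternatingGroup (Sylow 23 G)) := by
    rw [← heq]
    ext x
    simp only [Subgroup.mem_map, Subgroup.mem_subgroupOf]
    exact exists_congr fun g => and_congr_right fun _ => ⟨fun hh => hh ▸ rfl, fun hh => Subtype.ext hh⟩
  have h := Subgroup.card_dvd_of_le (Subgroup.le_normalizer_map (H := (P : Subgroup G)) f')
  rw [← Nat.card_congr (Subgroup.equivMapOfInjective _ _ hker').toEquiv, hN, hmap] at h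
  have h2 := mul_dvd_mul_left 2 h
  rw [hTN] at h2
  norm_num [Nat.factorial] at h2

end Cfsg.Agent.S1014
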