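import Cfsg.Statements.S1015
import Mathlib
import Cfsg.Agent.Lib.Perm.Small.Count
import Cfsg.Agent.Lib.Invol.SmallSimple
import Cfsg.Agent.S0985

set_option autoImplicit false
open Cfsg

namespace Cfsg.Agent.S1015

/-- No finite simple group has order 1200 = 2^4 * 3 * 5^2. -/
theorem result {G : Type*} [Group G] [Finite G] [IsSimpleGroup G] : Nat.card G ≠ 1200 := by
  classical
  intro hcard
  haveI : Fact (Nat.Prime 5) := ⟨by norm_num⟩
  have hG : ¬ IsMulCommutative G := by
    intro hc
    haveI := hc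
    letI : CommGroup G := { (inferInstance : Group G) with mul_comm := fun a b => IsMulCommutative.is_comm.comm a b }
    have hp : (Nat.card G).Prime := IsSimpleGroup.prime_card
    rw [hcard] at hp
    norm_num at hp
  have hP : ∀ P : Sylow 5 G, Nat.card (P : Subgroup G) = 25 := by
    intro P
    rw [P.card_eq_multiplicity, hcard]
    have : (1200 : ℕ).factorization 5 = 2 := by
      rw [show (1200 : ℕ) = 5 ^ 2 * 48 by norm_num, Nat.factorization_mul (by norm_num) (by norm_num), Finsupp.add_apply,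
        Nat.Prime.factorization_pow (by norm_num : Nat.Prime 5), Finsupp.single_eq_same,
        Nat.factorization_eq_zero_of_not_dvd (by norm_num)]
    rw [this]
    norm_num
  obtain ⟨P⟩ : Nonempty (Sylow 5 G) := inferInstance
  have hd : Nat.card (Sylow 5 G) ∣ 48 := by
    have h1 := P.card_dvd_index
    have h2 := (P : Subgroup G).card_mul_index
    rw [hP, hcard] at h2
    rwa [show (P : Subgroup G).index = 48 by omega] at h1
  have hm : Nat.card (Sylow 5 G) % 5 = 1 := card_sylow_modEq_one 5 G
  have h1 := CfsgLib.Invol.one_lt_card_sylow hG (p := 5) (by rw [hcard]; norm_num)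
  have h16 : Nat.card (Sylow 5 G) = 16 := by
    have hall : ∀ c ∈ Nat.divisors 48, c % 5 = 1 → 1 < c → c = 6 ∨ c = 16 := by decide +kernel
    refine (hall _ (Nat.mem_divisors.2 ⟨hd, by norm_num⟩) hm h1).resolve_left fun h6 => ?_
    have h := CfsgLib.Invol.sylow_dvd_factorial hG (p := 5) (by rw [hcard]; norm_num)
    rw [h6, hcard] at h
    norm_num [Nat.factorial] at h
  obtain ⟨R, S, hRS, hidx⟩ := Cfsg.Agent.S0985.result (G := G) 5 2 (by rw [h16]; decide)
  obtain ⟨D, hD⟩ : ∃ D : Subgroup G, D = (R : Subgroup G) ⊓ (S : Subgroup G) := ⟨_, rfl⟩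
  have hDne : D ≠ ⊥ := by
    intro hb
    have h0 : (S : Subgroup G).subgroupOf (R : Subgroup G) = ⊥ := by
      rw [Subgroup.subgroupOf_eq_bot, disjoint_iff, inf_comm, ← hD, hb]
    rw [h0, Subgroup.index_bot, hP R] at hidx
    norm_num at hidx
  haveI hcomm : ∀ Q : Sylow 5 G, IsMulCommutative (Q : Subgroup G) := fun Q =>
    IsPGroup.isMulCommutative_of_card_eq_prime_sq (p := 5) (by rw [hP Q]; norm_num)
  have hle : ∀ Q : Sylow 5 G, D ≤ (Q : Subgroup G) → (Q : Subgroup G) ≤ Subgroup.centralizer (D : Set G) := by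
    intro Q hQ x hx
    rw [Subgroup.mem_centralizer_iff]
    intro d hd'
    exact congrArg Subtype.val ((hcomm Q).is_comm.comm (⟨d, hQ hd'⟩ : (Q : Subgroup G)) ⟨x, hx⟩)
  obtain ⟨C, hC⟩ : ∃ C, C = Subgroup.centralizer (D : Set G) := ⟨_, rfl⟩
  have hRC : (R : Subgroup G) ≤ C := hC ▸ hle R (hD ▸ inf_le_left)
  have hSC : (S : Subgroup G) ≤ C := hC ▸ hle S (hD ▸ inf_le_right)
  have hCtop : C ≠ ⊤ := by
    intro ht
    have hDc : D ≤ Subgroup.center G := fun d hd' => Subgroup.mem_center_iff.2 fun g => by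
      have hg : g ∈ C := ht ▸ Subgroup.mem_top g
      rw [hC, Subgroup.mem_centralizer_iff] at hg
      exact (hg d hd').symm
    rcases IsSimpleGroup.eq_bot_or_eq_top_of_normal (Subgroup.center G) inferInstance with hb | ht'
    · exact hDne (le_bot_iff.1 (hb ▸ hDc))
    · exact hG ⟨⟨fun a b => (Subgroup.mem_center_iff.1 (ht' ▸ Subgroup.mem_top b : b ∈ Subgroup.center G) a)⟩⟩
  -- at least six Sylow subgroups inside the centralizer
  have hn : 6 ≤ Nat.card (Sylow 5 C) := by
    have hm5 : Nat.card (Sylow 5 C) % 5 = 1 := card_sylow_modEq_one 5 C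
    by_contra hlt
    have hsub : Subsingleton (Sylow 5 C) := Finite.card_le_one_iff_subsingleton.1 (by omega)
    apply hRS
    have h := Subsingleton.elim (R.subtype hRC) (S.subtype hSC)
    apply Sylow.ext
    have h' := congrArg (fun Q : Sylow 5 C => (Q : Subgroup C).map C.subtype) h
    simpa [Sylow.coe_subtype, Subgroup.subgroupOf_map_subtype, inf_eq_left.2 hRC, inf_eq_left.2 hSC] using h'
  obtain ⟨m, hmC⟩ : 25 ∣ Nat.card C := hP R ▸ Subgroup.card_dvd_of_le hRC
  have hm48 : m ∣ 48 := by
    have := Subgroup.card_subgroup_dvd_card C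
    rw [hmC, hcard] at this
    exact Nat.dvd_of_mul_dvd_mul_left (by norm_num : 0 < 25) (by simpa using this)
  have hn_dvd : Nat.card (Sylow 5 C) ∣ m := by
    have h1' := (R.subtype hRC).card_dvd_index
    have h2' := ((R.subtype hRC : Sylow 5 C) : Subgroup C).card_mul_index
    rw [Sylow.coe_subtype, Nat.card_congr (Subgroup.subgroupOfEquivOfLe hRC).toEquiv, hP, hmC] at h2'
    rw [Sylow.coe_subtype] at h1'
    rwa [show ((R : Subgroup G).subgroupOf C).index = m by omega] at h1'
  have hm6 : 6 ≤ m := le_trans hn (Nat.le_of_dvd (Nat.pos_of_ne_zero fun h0 => by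
    rw [h0, mul_zero] at hmC; exact (Nat.card_pos (α := C)).ne' hmC) hn_dvd)
  have hindex : C.index * m = 48 := by
    have := C.card_mul_index
    rw [hmC, hcard] at this
    nlinarith
  have hfac := CfsgLib.Invol.two_mul_card_dvd_factorial hG (α := G ⧸ C) (by
    by_contra hall
    push_neg at hall
    apply hCtop
    rw [eq_top_iff]
    intro g _
    have h := hall g ((1 : G) : G ⧸ C)
    change ((g * 1 : G) : G ⧸ C) = ((1 : G) : G ⧸ C) at h
    rw [mul_one, QuotientGroup.eq, mul_one] at h
    simpa using inv_mem h)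
  rw [hcard, show Nat.card (G ⧸ C) = C.index from rfl] at hfac
  have hib : C.index ≤ 8 := by nlinarith
  have hi0 : 0 < C.index := Nat.pos_of_ne_zero fun h0 => by rw [h0] at hindex; simp at hindex
  have hn16 : Nat.card (Sylow 5 C) % 5 = 1 := card_sylow_modEq_one 5 C
  interval_cases hci : C.index <;> first
    | (norm_num [Nat.factorial] at hfac)
    | (have hm' : m = 6 := by omega
       omega)

end Cfsg.Agent.S1015
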