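import Cfsg.Statements.S1018
import Mathlib
import Cfsg.Agent.Lib.Perm.Small.Count

set_option autoImplicit false
open Cfsg

namespace Cfsg.Agent.S1018
open scoped Pointwise

/-- Let P be a Sylow p-subgroup of order p of a finite group G, and consider the action of G on the left cosets of the normalizer N of P. Then every element of order p fixes exactly one coset, and an element of N that does not centralize P fixes at most as many cosets as there are orbits of P. -/
theorem result {G : Type*} [Group G] [Finite G] (p : ℕ) [Fact p.Prime] (P : Sylow p G) (hP : Nat.card ↥(P : Subgroup G) = p) : (∀ y : G, orderOf y = p → Nat.card (MulAction.fixedBy (G ⧸ Subgroup.normalizer ((P : Subgroup G) : Set G)) y) = 1) ∧ ∀ x : G, x ∈ Subgroup.normalizer ((P : Subgroup G) : Set G) → x ∉ Subgroup.centralizer ((P : Subgroup G) : Set G) → Nat.card (MulAction.fixedBy (G ⧸ Subgroup.normalizer ((P : Subgroup G) : Set G)) x) ≤ Nat.card (MulAction.orbitRel.Quotient ↥(P : Subgroup G) (G ⧸ Subgroup.normalizer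 ((P : Subgroup G) : Set G))) := by
  classical
  obtain ⟨N, hN⟩ : ∃ N, N = Subgroup.normalizer ((P : Subgroup G) : Set G) := ⟨_, rfl⟩
  rw [← hN]
  have hS : ∀ Q : Sylow p G, Nat.card (Q : Subgroup G) = p := fun Q => by
    rw [Q.card_eq_multiplicity, ← P.card_eq_multiplicity, hP]
  have hfix : ∀ (y g : G), y • ((g : G) : G ⧸ N) = (g : G ⧸ N) ↔ g⁻¹ * y * g ∈ N := by
    intro y g
    show ((y * g : G) : G ⧸ N) = (g : G ⧸ N) ↔ _
    rw [eq_comm, QuotientGroup.eq]
    simp [mul_assoc]
  -- elements of the normalizer of order p lie in P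
  have hNP : ∀ y ∈ N, orderOf y = p → Subgroup.zpowers y = (P : Subgroup G) := by
    intro y hy hyp
    have hpg : IsPGroup p (Subgroup.zpowers y) := IsPGroup.of_card (n := 1) (by rw [Nat.card_zpowers, hyp, pow_one])
    have h1 : Subgroup.zpowers y ≤ (P : Subgroup G) := by
      refine le_trans (le_inf le_rfl ?_) ((IsPGroup.inf_normalizer_sylow hpg P).le.trans inf_le_right)
      rw [hN] at hy
      exact Subgroup.zpowers_le.2 hy
    exact Subgroup.eq_of_le_of_card_ge h1 (by rw [Nat.card_zpowers, hyp, hP])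
  refine ⟨fun y hy => ?_, fun x hxN hxC => ?_⟩
  · rw [Nat.card_eq_one_iff_unique]
    refine ⟨⟨?_⟩, ?_⟩
    · rintro ⟨a, ha⟩ ⟨b, hb⟩
      obtain ⟨g, rfl⟩ := QuotientGroup.mk_surjective a
      obtain ⟨h, rfl⟩ := QuotientGroup.mk_surjective b
      apply Subtype.ext
      show (g : G ⧸ N) = (h : G ⧸ N)
      have horder : ∀ u : G, orderOf (u⁻¹ * y * u) = p := fun u => by
        rw [← hy]
        simpa using orderOf_injective (MulAut.conj u⁻¹).toMonoidHom (MulAut.conj u⁻¹).injective y
      have h1 := hNP _ ((hfix y g).1 ha) (horder g)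
      have h2 := hNP _ ((hfix y h).1 hb) (horder h)
      rw [QuotientGroup.eq, hN, Subgroup.mem_normalizer_iff]
      intro z
      have hcz : ∀ u : G, ∀ z, z ∈ Subgroup.zpowers (u⁻¹ * y * u) ↔ u * z * u⁻¹ ∈ Subgroup.zpowers y := by
        intro u z
        have hzp : ∀ i : ℤ, (u⁻¹ * y * u) ^ i = u⁻¹ * y ^ i * u := fun i => by
          simpa using conj_zpow (a := u⁻¹) (b := y) (i := i)
        simp only [Subgroup.mem_zpowers_iff, hzp]
        exact exists_congr fun i => by
          constructor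
          · intro he; rw [← he]; group
          · intro he; rw [he]; group
      have key1 : ∀ z, z ∈ (P : Subgroup G) ↔ g * z * g⁻¹ ∈ Subgroup.zpowers y := fun z => by rw [← h1, hcz]
      have key2 : ∀ z, z ∈ (P : Subgroup G) ↔ h * z * h⁻¹ ∈ Subgroup.zpowers y := fun z => by rw [← h2, hcz]
      rw [key2, key1]
      have : g * (g⁻¹ * h * z * (g⁻¹ * h)⁻¹) * g⁻¹ = h * z * h⁻¹ := by group
      rw [this]
    · have hpg : IsPGroup p (Subgroup.zpowers y) := IsPGroup.of_card (n := 1) (by rw [Nat.card_zpowers, hy, pow_one])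
      obtain ⟨Q, hQ⟩ := hpg.exists_le_sylow
      obtain ⟨g, hg⟩ := MulAction.exists_smul_eq G P Q
      refine ⟨⟨(g : G ⧸ N), (hfix y g).2 ?_⟩⟩
      rw [hN]
      apply Subgroup.le_normalizer
      have h1 : y ∈ ((g • P : Sylow p G) : Subgroup G) := hg.symm ▸ hQ (Subgroup.mem_zpowers y)
      rw [Sylow.coe_subgroup_smul, Subgroup.mem_pointwise_smul_iff_inv_smul_mem] at h1
      simpa [MulAut.smul_def] using h1
  · refine Nat.card_le_card_of_injective
      (fun a : MulAction.fixedBy (G ⧸ N) x => (Quotient.mk'' a.1 : MulAction.orbitRel.Quotient (P : Subgroup G) (G ⧸ N))) ?_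
    rintro ⟨a, ha⟩ ⟨b, hb⟩ h
    apply Subtype.ext
    show a = b
    obtain ⟨u, rfl⟩ : a ∈ MulAction.orbit (P : Subgroup G) b := Quotient.exact' h
    by_contra hne
    apply hxC
    have hu1 : (u : G) ≠ 1 := fun h1 => hne (by show (u : G) • b = b; rw [h1, one_smul])
    have hgen := CfsgLib.Perm.Small.zpowers_eq_of_mem (hS P) u.2 hu1
    have hxu : x * u * x⁻¹ ∈ (P : Subgroup G) := (Subgroup.mem_normalizer_iff.1 (hN ▸ hxN) _).1 u.2
    have hfixd : ((u : G)⁻¹ * (x * u * x⁻¹)) • b = b := by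
      have hb' : x • b = b := hb
      have ha' : x • (u : G) • b = (u : G) • b := ha
      rw [mul_smul, mul_smul, mul_smul, inv_smul_eq_iff, inv_smul_eq_iff.2 hb'.symm]
      exact ha'
    have heq : x * u * x⁻¹ = u := by
      by_contra hne'
      have hd : (u : G)⁻¹ * (x * u * x⁻¹) ≠ 1 := fun h1 => hne' (inv_mul_eq_one.1 h1).symm
      have hgd := CfsgLib.Perm.Small.zpowers_eq_of_mem (hS P) (mul_mem (inv_mem u.2) hxu) hd
      obtain ⟨i, hi⟩ : (u : G) ∈ Subgroup.zpowers ((u : G)⁻¹ * (x * u * x⁻¹)) := hgd.symm ▸ u.2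
      apply hne
      show (u : G) • b = b
      rw [← hi]
      exact MulAction.mem_stabilizer_iff.1 (zpow_mem (MulAction.mem_stabilizer_iff.2 hfixd) i)
    rw [Subgroup.mem_centralizer_iff]
    intro z hz
    obtain ⟨i, rfl⟩ : z ∈ Subgroup.zpowers (u : G) := hgen.symm ▸ hz
    exact ((show Commute x (u : G) from mul_inv_eq_iff_eq_mul.1 heq).zpow_right i).eq.symm

end Cfsg.Agent.S1018
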