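import Cfsg.Statements.S1019
import Mathlib
import Cfsg.Agent.Lib.Perm.Small.Count

set_option autoImplicit false
open Cfsg

namespace Cfsg.Agent.S1019

/-- Let H be a subgroup of a finite group G and x an element of H. In the action of G on the left cosets of H, the number of cosets fixed by x, multiplied by the size of the conjugacy class of x, equals the index of H multiplied by the number of conjugates of x that lie in H. -/
theorem result {G : Type*} [Group G] [Finite G] (H : Subgroup G) (x : G) (hx : x ∈ H) : Nat.card (MulAction.fixedBy (G ⧸ H) x) * Nat.card {g : G // IsConj x g} = H.index * Nat.card {g : G // IsConj x g ∧ g ∈ H} := by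
  classical
  haveI := Fintype.ofFinite G
  haveI : Fintype (G ⧸ H) := Fintype.ofFinite _
  have hC := CfsgLib.Perm.Small.card_class_mul_card_centralizer x
  have hcpos : 0 < Nat.card (Subgroup.centralizer ({x} : Set G)) := Nat.card_pos
  -- count the elements conjugating x into H
  obtain ⟨S, hS⟩ : ∃ S : Finset G, S = Finset.univ.filter fun g => g⁻¹ * x * g ∈ H := ⟨_, rfl⟩
  have hSmem : ∀ g, g ∈ S ↔ g⁻¹ * x * g ∈ H := fun g => by rw [hS]; simp
  have hmk : ∀ g : G, x • ((g : G) : G ⧸ H) = (g : G ⧸ H) ↔ g⁻¹ * x * g ∈ H := by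
    intro g
    show ((x * g : G) : G ⧸ H) = (g : G ⧸ H) ↔ _
    rw [eq_comm, QuotientGroup.eq]
    simp [mul_assoc]
  have h1 : S.card = Nat.card (MulAction.fixedBy (G ⧸ H) x) * Nat.card H := by
    rw [Finset.card_eq_sum_card_fiberwise (f := fun g : G => (g : G ⧸ H))
      (t := Finset.univ.filter fun a : G ⧸ H => x • a = a)
      (fun g hg => Finset.mem_filter.2 ⟨Finset.mem_univ _, (hmk g).2 ((hSmem g).1 hg)⟩),
      Finset.sum_congr rfl (g := fun _ => Nat.card H) fun a ha => ?_, Finset.sum_const, smul_eq_mul,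
      Nat.card_eq_fintype_card (α := MulAction.fixedBy (G ⧸ H) x), Fintype.card_subtype]
    · rfl
    · obtain ⟨g₀, rfl⟩ := QuotientGroup.mk_surjective a
      have hg₀ := (hmk g₀).1 (Finset.mem_filter.1 ha).2
      rw [Nat.card_eq_fintype_card, Fintype.card_subtype]
      symm
      refine Finset.card_bij (fun c _ => g₀ * c) ?_ (fun a _ b _ h => mul_left_cancel h) ?_
      · intro c hc
        simp only [Finset.mem_filter, Finset.mem_univ, true_and] at hc
        simp only [Finset.mem_filter, hSmem, QuotientGroup.mk_mul_of_mem g₀ hc, and_true]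
        have : (g₀ * c)⁻¹ * x * (g₀ * c) = c⁻¹ * (g₀⁻¹ * x * g₀) * c := by group
        rw [this]
        exact H.mul_mem (H.mul_mem (H.inv_mem hc) hg₀) hc
      · intro g hg
        simp only [Finset.mem_filter, hSmem] at hg
        refine ⟨g₀⁻¹ * g, ?_, by rw [mul_inv_cancel_left]⟩
        simp only [Finset.mem_filter, Finset.mem_univ, true_and]
        exact QuotientGroup.eq.1 hg.2.symm
  have h2 : S.card = Nat.card {g : G // IsConj x g ∧ g ∈ H} * Nat.card (Subgroup.centralizer ({x} : Set G)) := by
    rw [Finset.card_eq_sum_card_fiberwise (f := fun g : G => g⁻¹ * x * g)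
      (t := Finset.univ.filter fun y : G => IsConj x y ∧ y ∈ H)
      (fun g hg => Finset.mem_filter.2 ⟨Finset.mem_univ _, isConj_iff.2 ⟨g⁻¹, by rw [inv_inv]⟩, (hSmem g).1 hg⟩),
      Finset.sum_congr rfl (g := fun _ => Nat.card (Subgroup.centralizer ({x} : Set G))) fun y hy => ?_,
      Finset.sum_const, smul_eq_mul, Nat.card_eq_fintype_card (α := {g : G // IsConj x g ∧ g ∈ H}), Fintype.card_subtype]
    obtain ⟨hxy, hyH⟩ := (Finset.mem_filter.1 hy).2
    obtain ⟨k, hk⟩ := isConj_iff.1 hxy
    rw [Nat.card_eq_fintype_card, Fintype.card_subtype]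
    symm
    refine Finset.card_bij (fun c _ => c * k⁻¹) ?_ (fun a _ b _ h => mul_right_cancel h) ?_
    · intro c hc
      simp only [Finset.mem_filter, Finset.mem_univ, true_and, Subgroup.mem_centralizer_singleton_iff] at hc
      have he : (c * k⁻¹)⁻¹ * x * (c * k⁻¹) = y := by
        rw [← hk]
        calc (c * k⁻¹)⁻¹ * x * (c * k⁻¹) = k * c⁻¹ * (x * c) * k⁻¹ := by group
          _ = k * c⁻¹ * (c * x) * k⁻¹ := by rw [hc]
          _ = k * x * k⁻¹ := by group
      simp only [Finset.mem_filter, hSmem]
      exact ⟨he.symm ▸ hyH, he⟩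
    · intro g hg
      simp only [Finset.mem_filter, hSmem] at hg
      refine ⟨g * k, ?_, by group⟩
      simp only [Finset.mem_filter, Finset.mem_univ, true_and, Subgroup.mem_centralizer_singleton_iff]
      calc g * k * x = g * (k * x * k⁻¹) * k := by group
        _ = g * (g⁻¹ * x * g) * k := by rw [hk, hg.2]
        _ = x * (g * k) := by group
  have hidx := H.card_mul_index
  apply Nat.eq_of_mul_eq_mul_right hcpos
  apply Nat.eq_of_mul_eq_mul_right (show 0 < Nat.card H from Nat.card_pos)
  calc Nat.card (MulAction.fixedBy (G ⧸ H) x) * Nat.card {g : G // IsConj x g} *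
        Nat.card (Subgroup.centralizer ({x} : Set G)) * Nat.card H
      = (Nat.card (MulAction.fixedBy (G ⧸ H) x) * Nat.card H) * Nat.card G := by rw [← hC]; ring
    _ = S.card * (Nat.card H * H.index) := by rw [h1, hidx]
    _ = _ := by rw [h2]; ring

end Cfsg.Agent.S1019
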