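import Cfsg.Statements.S1025
import Cfsg.Agent.Lib.Lie.Chev.FullAll
import Cfsg.Agent.Lib.Lie.Chev.Unip2

set_option autoImplicit false
open Cfsg
open CfsgLib.Lie.Chev

namespace Cfsg.Agent.S1025

/-- Chevalley's commutator formula: for roots `s ≠ ±r`, `x_s(u) x_r(t) = x_r(t) x_s(u) · ∏_{i,j>0} x_{ir+js}(C_{ijrs} (-t)^i u^j)`, the product (in order of increasing `i + j`) and the constants being those of `commWord`. -/
theorem result {F : Type*} [Field F] (D : Cfsg.Lie.ChevalleyDatum) (hD : D ∈ [Cfsg.Lie.chevG2, Cfsg.Lie.chevB2, Cfsg.Lie.chevD4, Cfsg.Lie.chevF4, Cfsg.Lie.chevE6, Cfsg.Lie.chevE7, Cfsg.Lie.chevE8]) (r s : ℕ) (hr : r < D.nroots) (hs : s < D.nroots)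
    (hrs : s ≠ r) (hneg : s ≠ D.neg r) (t u : F) :
    D.x F s u * D.x F r t = D.x F r t * D.x F s u * D.wordMat F (D.commWord F r s t u) := by
  have C := fullOf hD
  obtain ⟨r, rfl⟩ : ∃ r' : Fin D.nroots, r'.val = r := ⟨⟨r, hr⟩, rfl⟩
  obtain ⟨s, rfl⟩ : ∃ s' : Fin D.nroots, s'.val = s := ⟨⟨s, hs⟩, rfl⟩
  have h := C.commAt r s (fun e => hrs (congrArg Fin.val e))
    (fun e => hneg ((congrArg Fin.val e).trans (C.G.negr_val r))) t u
  unfold CommAt at h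
  rw [C.G.x_eq_xu, C.G.x_eq_xu, C.G.coe_xu, C.G.coe_xu, h]
  congr 1
  rw [Lie.ChevalleyDatum.wordMat, Lie.ChevalleyDatum.commWord, wordR, cwR]
  congr 1
  refine List.map_congr_left fun p hp => ?_
  obtain ⟨c, hc, rfl⟩ := List.mem_map.1 hp
  obtain ⟨-, -, hlt, -⟩ := C.commTerms_weight hc
  rw [xN, dif_pos hlt, ← C.G.coe_xu, ← C.G.x_eq_xu]

end Cfsg.Agent.S1025
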