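import Cfsg.Statements.S1026
import Cfsg.Agent.Lib.Lie.Chev.FullAll
import Cfsg.Agent.Lib.Lie.Chev.Unip2

set_option autoImplicit false
open Cfsg
open CfsgLib.Lie.Chev

namespace Cfsg.Agent.S1026

/-- Every element of `U` has a unique expression `∏_{r ∈ Φ⁺} x_r(t_r)`, the product over the positive roots in increasing index order (the coefficient family `t`, supported on the positive roots, exists and is unique); and conversely every such ordered product is the matrix of an element of `U`. -/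
theorem result {F : Type*} [Field F] (D : Cfsg.Lie.ChevalleyDatum) (hD : D ∈ [Cfsg.Lie.chevG2, Cfsg.Lie.chevB2, Cfsg.Lie.chevD4, Cfsg.Lie.chevF4, Cfsg.Lie.chevE6, Cfsg.Lie.chevE7, Cfsg.Lie.chevE8]) :
    (∀ g : GL D.Idx F, g ∈ D.posUnipotent F →
      ∃! t : ℕ → F, (∀ r, ¬ D.IsPosRoot r → t r = 0) ∧
        (g : Matrix D.Idx D.Idx F) = D.wordMat F (D.posRoots.map fun r => (r, t r))) ∧
    (∀ t : ℕ → F, ∃ g : GL D.Idx F, g ∈ D.posUnipotent F ∧
      (g : Matrix D.Idx D.Idx F) = D.wordMat F (D.posRoots.map fun r => (r, t r))) := by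
  have C := fullOf hD
  refine ⟨fun g hg => ?_, fun t => ⟨C.uprod 0 fun r => t r.val, ?_, ?_⟩⟩
  · rw [C.G.posUnipotent_eq] at hg
    obtain ⟨t, ht⟩ := C.exists_uprod D.nroots 0 (Nat.zero_add _) g hg
    refine ⟨fun r => if h : D.IsPosRoot r then t ⟨r, h.1⟩ else 0, ⟨fun r hr => dif_neg hr, ?_⟩, ?_⟩
    · rw [C.wordMat_uprod, ht]
      refine congrArg Units.val (C.uprod_congr fun r _ hr => ?_)
      simp [hr]
    · rintro t' ⟨h0, h1⟩
      funext r
      by_cases hr : D.IsPosRoot r
      · rw [C.wordMat_uprod, ht] at h1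
        have := C.uprod_inj D.nroots 0 (Nat.zero_add _) _ _ (Units.ext h1) ⟨r, hr.1⟩ (Nat.zero_le _) hr
        simp only at this
        simp [hr, this]
      · rw [h0 r hr]; simp [hr]
  · rw [C.G.posUnipotent_eq]; exact C.uprod_mem 0 _
  · exact (C.wordMat_uprod t).symm

end Cfsg.Agent.S1026
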