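import Cfsg.Statements.S1034
import Cfsg.Agent.Lib.Lie.Chev.All
import Cfsg.Agent.Lib.Lie.Chev.Borel

set_option autoImplicit false
open Cfsg
open CfsgLib.Lie.Chev

namespace Cfsg.Agent.S1034

/-- Every element of `H` is a product `h_{p_1}(c_1) ⋯ h_{p_l}(c_l)` over the fundamental roots, with non-zero `c_i`. -/
theorem result {F : Type*} [Field F] (D : Cfsg.Lie.ChevalleyDatum) (hD : D ∈ [Cfsg.Lie.chevG2, Cfsg.Lie.chevB2, Cfsg.Lie.chevD4, Cfsg.Lie.chevF4, Cfsg.Lie.chevE6, Cfsg.Lie.chevE7, Cfsg.Lie.chevE8]) (g : GL D.Idx F) (hg : g ∈ D.diagonalSubgroup F) :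
    ∃ c : ℕ → F, (∀ i < D.rank, c i ≠ 0) ∧
      (g : Matrix D.Idx D.Idx F) = D.wordMat F ((List.range D.rank).flatMap fun i => D.hWord (D.simple i) (c i)) := by
  have G := goodOf hD
  rw [G.diagonal_eq_range] at hg
  obtain ⟨c, rfl⟩ := hg
  refine ⟨fun i => if h : i < D.rank then (c ⟨i, h⟩ : F) else 1, fun i hi => by simp [hi], ?_⟩
  rw [G.torθ_eq_prod, ← List.map_coe_finRange_eq_range]
  induction List.finRange D.rank with
  | nil => rfl
  | cons a l ih =>
    rw [List.map_cons, List.prod_cons, Units.val_mul, ih, List.map_cons, List.flatMap_cons,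
      Lie.ChevalleyDatum.wordMat, Lie.ChevalleyDatum.wordMat, List.map_append, List.prod_append]
    congr 1
    show _ = D.hMat F (D.simple a.val) _
    rw [← G.simp_val]
    simp only [a.isLt, dif_pos, Fin.eta]
    rw [G.hMat_diag _ (c a).ne_zero, Units.mk0_val]

end Cfsg.Agent.S1034
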