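import Cfsg.Statements.S1035
import Cfsg.Agent.Lib.Lie.Chev.All
import Cfsg.Agent.Lib.Lie.Chev.TorData
-- import your own Cfsg.Agent.* helpers here

set_option autoImplicit false
open Cfsg
open CfsgLib.Lie.Chev

namespace Cfsg.Agent.S1035

/-- `d · |H| = (q - 1)^rank` over a field with `q` elements, with `d = 1` (G₂, F₄, E₈), `gcd(3, q-1)` (E₆), `gcd(2, q-1)` (E₇, B₂), `gcd(2, q-1)²` (D₄). -/
theorem result {F : Type*} [Field F] [Fintype F] {q : ℕ} (hq : Fintype.card F = q)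
    (p : Cfsg.Lie.ChevalleyDatum × ℕ)
    (hp : p ∈ [(Cfsg.Lie.chevG2, 1), (Cfsg.Lie.chevF4, 1), (Cfsg.Lie.chevE8, 1), (Cfsg.Lie.chevE6, Nat.gcd 3 (q - 1)),
      (Cfsg.Lie.chevE7, Nat.gcd 2 (q - 1)), (Cfsg.Lie.chevB2, Nat.gcd 2 (q - 1)), (Cfsg.Lie.chevD4, Nat.gcd 2 (q - 1) ^ 2)]) :
    p.2 * Nat.card (p.1.diagonalSubgroup F) = (q - 1) ^ p.1.rank := by
  subst hq
  simp only [List.mem_cons, List.not_mem_nil, or_false] at hp
  rcases hp with rfl | rfl | rfl | rfl | rfl | rfl | rfl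
  · simpa [kerG2] using (goodOf (D := Cfsg.Lie.chevG2) (by simp)).card_diagonal kerG2 kerG2_ok
  · simpa [kerF4] using (goodOf (D := Cfsg.Lie.chevF4) (by simp)).card_diagonal kerF4 kerF4_ok
  · simpa [kerE8] using (goodOf (D := Cfsg.Lie.chevE8) (by simp)).card_diagonal kerE8 kerE8_ok
  · simpa [kerE6] using (goodOf (D := Cfsg.Lie.chevE6) (by simp)).card_diagonal kerE6 kerE6_ok
  · simpa [kerE7] using (goodOf (D := Cfsg.Lie.chevE7) (by simp)).card_diagonal kerE7 kerE7_ok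
  · simpa [kerB2] using (goodOf (D := Cfsg.Lie.chevB2) (by simp)).card_diagonal kerB2 kerB2_ok
  · simpa [kerD4] using (goodOf (D := Cfsg.Lie.chevD4) (by simp)).card_diagonal kerD4 kerD4_ok

end Cfsg.Agent.S1035
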