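import Cfsg.Statements.S1041
import Cfsg.Agent.Lib.Lie.Chev.All

set_option autoImplicit false
open Cfsg
open CfsgLib.Lie.Chev

namespace Cfsg.Agent.S1041

/-- `U` and `V` generate the whole Chevalley group. -/
theorem result {F : Type*} [Field F] (D : Cfsg.Lie.ChevalleyDatum) (hD : D ∈ [Cfsg.Lie.chevG2, Cfsg.Lie.chevB2, Cfsg.Lie.chevD4, Cfsg.Lie.chevF4, Cfsg.Lie.chevE6, Cfsg.Lie.chevE7, Cfsg.Lie.chevE8]) : D.posUnipotent F ⊔ D.negUnipotent F = D.group F := by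
  have G := goodOf hD
  refine le_antisymm (sup_le ?_ ?_) ?_
  · rw [Lie.ChevalleyDatum.posUnipotent, Subgroup.closure_le]
    rintro g ⟨r, t, hr, hg⟩
    rw [show g = G.xu ⟨r, hr.1⟩ t from Units.ext (hg.trans (G.x_eq_xu ⟨r, hr.1⟩ t))]
    exact G.xu_mem _ t
  · rw [Lie.ChevalleyDatum.negUnipotent, Subgroup.closure_le]
    rintro g ⟨r, t, hr, hg⟩
    rw [show g = G.xu ⟨r, hr.1⟩ t from Units.ext (hg.trans (G.x_eq_xu ⟨r, hr.1⟩ t))]
    exact G.xu_mem _ t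
  · rw [G.group_eq, Subgroup.closure_le]
    rintro g ⟨r, t, rfl⟩
    by_cases hp : D.IsPosRoot r.val
    · exact Subgroup.mem_sup_left (Subgroup.subset_closure ⟨r.val, t, hp, (G.x_eq_xu r t).symm⟩)
    · exact Subgroup.mem_sup_right (Subgroup.subset_closure
        ⟨r.val, t, (G.isNegRoot_iff_not_pos r).2 hp, (G.x_eq_xu r t).symm⟩)

end Cfsg.Agent.S1041
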