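import Cfsg.Statements.S1044
import Cfsg.Agent.Lib.Lie.Chev.FullAll
import Cfsg.Agent.Lib.Lie.Chev.Borel

set_option autoImplicit false
open Cfsg
open CfsgLib.Lie.Chev

namespace Cfsg.Agent.S1044

/-- For a fundamental root `p` the set `B ∪ B n_p B` is (the carrier of) a subgroup of the general linear group. -/
theorem result {F : Type*} [Field F] (D : Cfsg.Lie.ChevalleyDatum) (hD : D ∈ [Cfsg.Lie.chevG2, Cfsg.Lie.chevB2, Cfsg.Lie.chevD4, Cfsg.Lie.chevF4, Cfsg.Lie.chevE6, Cfsg.Lie.chevE7, Cfsg.Lie.chevE8]) (i : ℕ) (hi : i < D.rank) (n : GL D.Idx F)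
    (hn : (n : Matrix D.Idx D.Idx F) = D.nMat F (D.simple i) 1) :
    ∃ P : Subgroup (GL D.Idx F), (P : Set (GL D.Idx F)) =
      (D.borelSubgroup F : Set (GL D.Idx F)) ∪ DoubleCoset.doubleCoset n (D.borelSubgroup F : Set (GL D.Idx F)) (D.borelSubgroup F) := by
  have C := fullOf hD
  obtain ⟨i, rfl⟩ : ∃ i' : Fin D.rank, i'.val = i := ⟨⟨i, hi⟩, rfl⟩
  obtain rfl : n = C.G.nU i := Units.ext (hn.trans (C.G.nMat_simple i))
  have hsq : C.G.nU i * C.G.nU i ∈ D.borelSubgroup F := Subgroup.mem_sup_right (C.G.nU_sq i)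
  have hss : ∀ b ∈ D.borelSubgroup F, C.G.nU i * b * C.G.nU i ∈ (D.borelSubgroup F : Set _) ∪
      DoubleCoset.doubleCoset (C.G.nU i) (D.borelSubgroup F : Set (GL D.Idx F)) (D.borelSubgroup F) := by
    intro b hb
    rcases C.mul_mem_union i (C.G.nU_mem_monomial i) hb with h | h
    · left
      obtain ⟨a, ha, c, hc, e⟩ := DoubleCoset.mem_doubleCoset.1 h
      rw [SetLike.mem_coe, e]
      exact mul_mem (mul_mem ha hsq) hc
    · exact Or.inr h
  refine ⟨{ carrier := (D.borelSubgroup F : Set (GL D.Idx F)) ∪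
      DoubleCoset.doubleCoset (C.G.nU i) (D.borelSubgroup F : Set (GL D.Idx F)) (D.borelSubgroup F)
            one_mem' := Or.inl (one_mem _)
            mul_mem' := ?_
            inv_mem' := ?_ }, rfl⟩
  · rintro x y (hx | hx) (hy | hy)
    · exact Or.inl (mul_mem hx hy)
    · obtain ⟨a, ha, c, hc, rfl⟩ := DoubleCoset.mem_doubleCoset.1 hy
      exact Or.inr (DoubleCoset.mem_doubleCoset.2 ⟨x * a, mul_mem hx ha, c, hc, by group⟩)
    · obtain ⟨a, ha, c, hc, rfl⟩ := DoubleCoset.mem_doubleCoset.1 hx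
      exact Or.inr (DoubleCoset.mem_doubleCoset.2 ⟨a, ha, c * y, mul_mem hc hy, by group⟩)
    · obtain ⟨a, ha, c, hc, rfl⟩ := DoubleCoset.mem_doubleCoset.1 hx
      obtain ⟨a', ha', c', hc', rfl⟩ := DoubleCoset.mem_doubleCoset.1 hy
      have e : a * C.G.nU i * c * (a' * C.G.nU i * c') =
          a * (C.G.nU i * (c * a') * C.G.nU i) * c' := by group
      rw [e]
      rcases hss (c * a') (mul_mem hc ha') with h | h
      · exact Or.inl (mul_mem (mul_mem ha h) hc')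
      · obtain ⟨p, hp, q, hq, e2⟩ := DoubleCoset.mem_doubleCoset.1 h
        exact Or.inr (DoubleCoset.mem_doubleCoset.2
          ⟨a * p, mul_mem ha hp, q * c', mul_mem hq hc', by rw [e2]; group⟩)
  · rintro x (hx | hx)
    · exact Or.inl (inv_mem hx)
    · obtain ⟨a, ha, c, hc, rfl⟩ := DoubleCoset.mem_doubleCoset.1 hx
      exact Or.inr (DoubleCoset.mem_doubleCoset.2 ⟨c⁻¹ * (C.G.nU i * C.G.nU i)⁻¹,
        mul_mem (inv_mem hc) (inv_mem hsq), a⁻¹, inv_mem ha, by group⟩)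

end Cfsg.Agent.S1044
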