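import Cfsg.Statements.S1045
import Cfsg.Agent.Lib.Lie.Chev.FullAll
import Cfsg.Agent.Lib.Lie.Chev.Borel

set_option autoImplicit false
open Cfsg
open CfsgLib.Lie.Chev

namespace Cfsg.Agent.S1045

/-- For a fundamental root `p`, the subgroup `U_p` generated by the `X_s`, `s` positive and `s ≠ p`, is normalised by `X_p` and `X_{-p}`, and `U = U_p ⊔ X_p`. -/
theorem result {F : Type*} [Field F] (D : Cfsg.Lie.ChevalleyDatum) (hD : D ∈ [Cfsg.Lie.chevG2, Cfsg.Lie.chevB2, Cfsg.Lie.chevD4, Cfsg.Lie.chevF4, Cfsg.Lie.chevE6, Cfsg.Lie.chevE7, Cfsg.Lie.chevE8]) (i : ℕ) (hi : i < D.rank) :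
    D.rootSubgroup F (D.simple i) ⊔ D.rootSubgroup F (D.neg (D.simple i)) ≤
        Subgroup.normalizer (Subgroup.closure {g : GL D.Idx F | ∃ (s : ℕ) (t : F), D.IsPosRoot s ∧ s ≠ D.simple i ∧
          (g : Matrix D.Idx D.Idx F) = D.x F s t} : Set (GL D.Idx F)) ∧
      Subgroup.closure {g : GL D.Idx F | ∃ (s : ℕ) (t : F), D.IsPosRoot s ∧ s ≠ D.simple i ∧
          (g : Matrix D.Idx D.Idx F) = D.x F s t} ⊔ D.rootSubgroup F (D.simple i) = D.posUnipotent F := by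
  have C := fullOf hD
  obtain ⟨i, rfl⟩ : ∃ i' : Fin D.rank, i'.val = i := ⟨⟨i, hi⟩, rfl⟩
  have hU : Subgroup.closure {g : GL D.Idx F | ∃ (s : ℕ) (t : F), D.IsPosRoot s ∧ s ≠ D.simple i.val ∧
      (g : Matrix D.Idx D.Idx F) = D.x F s t} = Uex C.G i := by
    rw [Uex]
    congr 1
    ext g
    constructor
    · rintro ⟨s, t, hs, hne, hg⟩
      exact ⟨⟨s, hs.1⟩, t, ⟨hs, fun e => hne ((congrArg Fin.val e).trans (C.G.simp_val i))⟩,
        Units.ext (hg.trans (C.G.x_eq_xu ⟨s, hs.1⟩ t))⟩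
    · rintro ⟨r, t, ⟨hr, hne⟩, rfl⟩
      exact ⟨r.val, t, hr, fun e => hne (Fin.ext (e.trans (C.G.simp_val i).symm)), (C.G.x_eq_xu r t).symm⟩
  rw [hU, ← C.G.simp_val, C.G.neg_val]
  have hroot : ∀ r : Fin D.nroots, (r = C.G.simp' i ∨ r = C.G.negr (C.G.simp' i)) →
      D.rootSubgroup F r.val ≤ Subgroup.normalizer ((Uex C.G i : Subgroup (GL D.Idx F)) : Set _) := by
    intro r hr
    rw [Lie.ChevalleyDatum.rootSubgroup, Subgroup.closure_le]
    rintro g ⟨t, hg⟩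
    rw [show g = C.G.xu r t from Units.ext (hg.trans (C.G.x_eq_xu r t))]
    exact C.xu_mem_normalizer_Uex i hr t
  refine ⟨sup_le (hroot _ (Or.inl rfl)) (hroot _ (Or.inr rfl)), le_antisymm (sup_le (C.G.Uex_le i) ?_) ?_⟩
  · rw [Lie.ChevalleyDatum.rootSubgroup, Subgroup.closure_le]
    rintro g ⟨t, hg⟩
    rw [show g = C.G.xu (C.G.simp' i) t from Units.ext (hg.trans (C.G.x_eq_xu _ t))]
    exact C.G.xu_mem_U (C.G.simp_pos i) t
  · intro g hg
    obtain ⟨v, hv, t, rfl⟩ := C.exists_Uex_mul i hg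
    exact mul_mem (Subgroup.mem_sup_left hv)
      (Subgroup.mem_sup_right (Subgroup.subset_closure ⟨t, (C.G.x_eq_xu _ t).symm⟩))

end Cfsg.Agent.S1045
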