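import Cfsg.Statements.S1046
import Cfsg.Agent.Lib.Lie.Chev.FullAll
import Cfsg.Agent.Lib.Lie.Chev.Bruhat

set_option autoImplicit false
open Cfsg
open CfsgLib.Lie.Chev

namespace Cfsg.Agent.S1046

/-- Two elements of `H` conjugate in the Chevalley group are conjugate by an element of `N`. -/
theorem result {F : Type*} [Field F] (D : Cfsg.Lie.ChevalleyDatum) (hD : D ∈ [Cfsg.Lie.chevG2, Cfsg.Lie.chevB2, Cfsg.Lie.chevD4, Cfsg.Lie.chevF4, Cfsg.Lie.chevE6, Cfsg.Lie.chevE7, Cfsg.Lie.chevE8]) (h₁ h₂ g : GL D.Idx F) (h1 : h₁ ∈ D.diagonalSubgroup F) (h2 : h₂ ∈ D.diagonalSubgroup F)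
    (hg : g ∈ D.group F) (hc : g * h₁ * g⁻¹ = h₂) :
    ∃ n ∈ D.monomialSubgroup F, n * h₁ * n⁻¹ = h₂ := by
  have C := fullOf hD
  obtain ⟨b, hb, n, hn, π, hπ, u, hu, rfl⟩ := C.refined_exists hg
  obtain ⟨v, hv, d, hd', rfl⟩ := C.G.mem_borel_iff.1 hb
  refine ⟨n, hn, ?_⟩
  have hn1 : n * h₁ * n⁻¹ ∈ D.diagonalSubgroup F :=
    (Subgroup.mem_normalizer_iff.1 (C.G.monomial_le_normalizer hn) h₁).1 h1
  have e : h₂ * (v * d) * n * u = v * d * (n * h₁ * n⁻¹) * n * (h₁⁻¹ * u * h₁⁻¹⁻¹) := by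
    rw [← hc]; group
  obtain ⟨e1, -⟩ := C.refined_unique (mul_mem (Subgroup.mem_sup_right h2) hb)
    (mul_mem hb (Subgroup.mem_sup_right hn1)) hπ hu (C.G.Uinv_congr_H (inv_mem h1) π hu) e
  have e2 : v⁻¹ * (h₂ * v * h₂⁻¹) * (h₂ * d * (d * (n * h₁ * n⁻¹))⁻¹) = 1 := by
    calc v⁻¹ * (h₂ * v * h₂⁻¹) * (h₂ * d * (d * (n * h₁ * n⁻¹))⁻¹)
        = v⁻¹ * (h₂ * (v * d)) * (d * (n * h₁ * n⁻¹))⁻¹ := by group
      _ = v⁻¹ * (v * d * (n * h₁ * n⁻¹)) * (d * (n * h₁ * n⁻¹))⁻¹ := by rw [e1]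
      _ = 1 := by group
  obtain ⟨-, e3⟩ := C.G.eq_one_of_U_H
    (mul_mem (inv_mem hv) ((Subgroup.mem_normalizer_iff.1 (C.G.H_normalizes_U h2) v).1 hv))
    (mul_mem (mul_mem h2 hd') (inv_mem (mul_mem hd' hn1))) e2
  rw [mul_inv_eq_one, C.G.diagonal_comm h2 hd'] at e3
  exact (mul_left_cancel e3).symm

end Cfsg.Agent.S1046
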