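import Cfsg.Statements.S1050
import Cfsg.Agent.Lib.Lie.Chev.FullAll
import Cfsg.Agent.Lib.Lie.Chev.Borel
import Cfsg.Agent.Lib.Lie.Chev.Unip2

set_option autoImplicit false
open Cfsg
open CfsgLib.Lie.Chev

namespace Cfsg.Agent.S1050

/-- `B = UH` is solvable (U nilpotent, H abelian, U ⊴ B). -/
theorem result {F : Type*} [Field F] (D : Cfsg.Lie.ChevalleyDatum) (hD : D ∈ [Cfsg.Lie.chevG2, Cfsg.Lie.chevB2, Cfsg.Lie.chevD4, Cfsg.Lie.chevF4, Cfsg.Lie.chevE6, Cfsg.Lie.chevE7, Cfsg.Lie.chevE8]) : Group.IsSolvable ↥(D.borelSubgroup F) := by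
  have C := fullOf hD
  have hU : Group.IsNilpotent (D.posUnipotent F) := C.posUnipotent_nilpotent
  have hn : D.borelSubgroup F ≤ Subgroup.normalizer (D.posUnipotent F : Set (GL D.Idx F)) :=
    sup_le Subgroup.le_normalizer C.G.H_normalizes_U
  have hle : D.posUnipotent F ≤ D.borelSubgroup F := le_sup_left
  haveI := (Subgroup.normal_subgroupOf_iff_le_normalizer hle).2 hn
  set N := (D.posUnipotent F).subgroupOf (D.borelSubgroup F)
  haveI : Group.IsNilpotent N :=
    Group.nilpotent_of_mulEquiv (Subgroup.subgroupOfEquivOfLe hle).symm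
  haveI : Group.IsSolvable N := inferInstance
  haveI : Group.IsSolvable (↥(D.borelSubgroup F) ⧸ N) := by
    apply Group.isSolvable_of_comm
    intro a b
    induction a using QuotientGroup.induction_on with | _ a => ?_
    induction b using QuotientGroup.induction_on with | _ b => ?_
    obtain ⟨u, hu, h, hh, ea⟩ := C.G.mem_borel_iff.1 a.2
    obtain ⟨v, hv, k, hk, eb⟩ := C.G.mem_borel_iff.1 b.2
    have ea' : (a : ↥(D.borelSubgroup F) ⧸ N) =
        ((⟨h, Subgroup.mem_sup_right hh⟩ : ↥(D.borelSubgroup F)) : ↥(D.borelSubgroup F) ⧸ N) := by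
      rw [eq_comm, QuotientGroup.eq, Subgroup.mem_subgroupOf]
      show h⁻¹ * (a : GL D.Idx F) ∈ _
      rw [ea, ← mul_assoc]
      exact (Subgroup.mem_normalizer_iff''.1 (C.G.H_normalizes_U hh) u).1 hu
    have eb' : (b : ↥(D.borelSubgroup F) ⧸ N) =
        ((⟨k, Subgroup.mem_sup_right hk⟩ : ↥(D.borelSubgroup F)) : ↥(D.borelSubgroup F) ⧸ N) := by
      rw [eq_comm, QuotientGroup.eq, Subgroup.mem_subgroupOf]
      show k⁻¹ * (b : GL D.Idx F) ∈ _
      rw [eb, ← mul_assoc]
      exact (Subgroup.mem_normalizer_iff''.1 (C.G.H_normalizes_U hk) v).1 hv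
    rw [ea', eb', ← QuotientGroup.mk_mul, ← QuotientGroup.mk_mul]
    exact congrArg _ (Subtype.ext (C.G.diagonal_comm hh hk))
  exact Group.isSolvable_of_ker_le_range N.subtype (QuotientGroup.mk' N) (by simp)

end Cfsg.Agent.S1050
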