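import Cfsg.Statements.S1051
import Cfsg.Agent.Lib.Lie.Chev.All
import Cfsg.Agent.Lib.Lie.Chev.Borel

set_option autoImplicit false
open Cfsg
open CfsgLib.Lie.Chev

namespace Cfsg.Agent.S1051

/-- `⋂_g g B g⁻¹ = 1`: the normal core of `B` in the Chevalley group is trivial. -/
theorem result {F : Type*} [Field F] (D : Cfsg.Lie.ChevalleyDatum) (hD : D ∈ [Cfsg.Lie.chevG2, Cfsg.Lie.chevB2, Cfsg.Lie.chevD4, Cfsg.Lie.chevF4, Cfsg.Lie.chevE6, Cfsg.Lie.chevE7, Cfsg.Lie.chevE8]) : ((D.borelSubgroup F).subgroupOf (D.group F)).normalCore = ⊥ := by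
  have G := goodOf hD
  rw [eq_bot_iff]
  intro x hx
  obtain ⟨l, hl⟩ := G.exists_longest
  have hmem : ∀ (g : GL D.Idx F) (hg : g ∈ D.group F), g * (x : GL D.Idx F) * g⁻¹ ∈ D.borelSubgroup F :=
    fun g hg => hx ⟨g, hg⟩
  have hB : (x : GL D.Idx F) ∈ D.borelSubgroup F := by simpa using hmem 1 (one_mem _)
  obtain ⟨u, hu, h, hh, e⟩ := G.mem_borel_iff.1 (hmem (G.nw l) (G.monomial_le_group (G.nw_mem_monomial l)))
  have hn := G.nw_mem_monomial (K := F) l
  have hxH : ∀ y : GL D.Idx F, (∀ g ∈ D.group F, g * y * g⁻¹ ∈ D.borelSubgroup F) →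
      y ∈ D.diagonalSubgroup F := by
    intro y hy
    -- `y` lies in `B` and, conjugated by the longest element, in `V H`
    have h1 : y ∈ D.borelSubgroup F := by simpa using hy 1 (one_mem _)
    obtain ⟨u', hu', h', hh', e'⟩ := G.mem_borel_iff.1
      (hy (G.nw l)⁻¹ (inv_mem (G.monomial_le_group (G.nw_mem_monomial l))))
    rw [inv_inv] at e'
    have e2 : y = (G.nw l * u' * (G.nw l)⁻¹) * (G.nw l * h' * (G.nw l)⁻¹) := by
      rw [show G.nw l * u' * (G.nw l)⁻¹ * (G.nw l * h' * (G.nw l)⁻¹) =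
        G.nw l * (u' * h') * (G.nw l)⁻¹ by group, ← e']
      group
    have hv : G.nw l * u' * (G.nw l)⁻¹ ∈ D.negUnipotent F := by
      clear e' e2
      rw [G.posUnipotent_eq_closure] at hu'
      induction hu' using Subgroup.closure_induction with
      | one => simp
      | mul a b _ _ ha hb =>
        rw [show G.nw l * (a * b) * (G.nw l)⁻¹ =
          (G.nw l * a * (G.nw l)⁻¹) * (G.nw l * b * (G.nw l)⁻¹) by group]
        exact mul_mem ha hb
      | inv a _ ha =>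
        rw [show G.nw l * a⁻¹ * (G.nw l)⁻¹ = (G.nw l * a * (G.nw l)⁻¹)⁻¹ by group]
        exact inv_mem ha
      | mem z hz =>
        obtain ⟨r, t, hr, rfl⟩ := hz
        obtain ⟨c, hc⟩ := G.nPerm_nw (K := F) l r
        rw [hc]
        exact G.xu_mem_V ((G.isNegRoot_iff_not_pos _).2 (hl r hr)) _
    have hh2 : G.nw l * h' * (G.nw l)⁻¹ ∈ D.diagonalSubgroup F :=
      (Subgroup.mem_normalizer_iff.1 (G.monomial_le_normalizer hn) h').1 hh'
    rw [← G.B_inf_VH]
    exact Subgroup.mem_inf.2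
      ⟨h1, e2 ▸ mul_mem (Subgroup.mem_sup_left hv) (Subgroup.mem_sup_right hh2)⟩
  have hX : (x : GL D.Idx F) ∈ D.diagonalSubgroup F := hxH _ hmem
  obtain ⟨c, hc⟩ := G.exists_tor hX
  have hchi : ∀ r : Fin D.nroots, G.chi c (G.rho r) = 1 := by
    intro r
    have hy := hxH (G.xu r (1 : F) * (x : GL D.Idx F) * (G.xu r (1 : F))⁻¹) (fun g hg => by
      have := hmem (g * G.xu r (1 : F)) (mul_mem hg (G.xu_mem r 1))
      rw [mul_inv_rev] at this
      rw [show g * (G.xu r (1 : F) * (x : GL D.Idx F) * (G.xu r (1 : F))⁻¹) * g⁻¹ =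
        g * G.xu r (1 : F) * (x : GL D.Idx F) * ((G.xu r (1 : F))⁻¹ * g⁻¹) by group]
      exact this)
    have hz : G.xu r (1 + -((G.chi c (G.rho r) : F) * 1)) ∈ D.diagonalSubgroup F := by
      have := mul_mem hy (inv_mem hX)
      rw [hc] at this
      rw [show G.xu r 1 * G.tor c * (G.xu r 1)⁻¹ * (G.tor c)⁻¹ =
        G.xu r 1 * (G.tor c * G.xu r 1 * (G.tor c)⁻¹)⁻¹ by group, G.tor_conj_xu, G.xu_inv,
        ← G.xu_add] at this
      exact this
    by_cases hp : D.IsPosRoot r.val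
    · have h1 : G.xu r (1 + -((G.chi c (G.rho r) : F) * 1)) = 1 :=
        Subgroup.mem_bot.1 (G.U_inf_H (K := F) ▸ Subgroup.mem_inf.2 ⟨G.xu_mem_U hp _, hz⟩)
      rw [G.xu_eq_one_iff, mul_one, ← sub_eq_add_neg, sub_eq_zero] at h1
      exact Units.ext h1.symm
    · have h1 : G.xu r (1 + -((G.chi c (G.rho r) : F) * 1)) = 1 :=
        Subgroup.mem_bot.1 (G.B_inf_V (K := F) ▸ Subgroup.mem_inf.2
          ⟨Subgroup.mem_sup_right hz, G.xu_mem_V ((G.isNegRoot_iff_not_pos r).2 hp) _⟩)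
      rw [G.xu_eq_one_iff, mul_one, ← sub_eq_add_neg, sub_eq_zero] at h1
      exact Units.ext h1.symm
  refine Subgroup.mem_bot.2 (Subtype.ext (hc.trans (Units.ext ?_)))
  rw [G.coe_tor]
  ext a b
  by_cases hab : a = b
  · subst hab
    rw [Matrix.diagonal_apply_eq]
    rcases a with j | s
    · simp [weight, Good.chi]
    · simp [weight, hchi s]
  · rw [Matrix.diagonal_apply_ne _ hab]; simp [Matrix.one_apply_ne hab]

end Cfsg.Agent.S1051
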