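import Cfsg.Statements.S1053
import Cfsg.Agent.Lib.Lie.Chev.All
import Cfsg.Agent.Lib.Lie.Chev.Borel

set_option autoImplicit false
open Cfsg
open CfsgLib.Lie.Chev

namespace Cfsg.Agent.S1053

/-- There is `n₀ ∈ N` with `n₀ U n₀⁻¹ = V` (a representative of the longest element of the Weyl group). -/
theorem result {F : Type*} [Field F] (D : Cfsg.Lie.ChevalleyDatum) (hD : D ∈ [Cfsg.Lie.chevG2, Cfsg.Lie.chevB2, Cfsg.Lie.chevD4, Cfsg.Lie.chevF4, Cfsg.Lie.chevE6, Cfsg.Lie.chevE7, Cfsg.Lie.chevE8]) :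
    ∃ n ∈ D.monomialSubgroup F, (D.posUnipotent F).map (MulAut.conj n).toMonoidHom = D.negUnipotent F := by
  have G := goodOf hD
  obtain ⟨l, hl⟩ := G.exists_longest
  refine ⟨G.nw l, G.nw_mem_monomial l, ?_⟩
  rw [G.posUnipotent_eq_closure, G.negUnipotent_eq_closure, MonoidHom.map_closure]
  congr 1
  ext g
  constructor
  · rintro ⟨x, ⟨r, t, hr, rfl⟩, rfl⟩
    obtain ⟨c, hc⟩ := G.nPerm_nw (K := F) l r
    exact ⟨_, _, (G.isNegRoot_iff_not_pos _).2 (hl r hr), hc t⟩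
  · rintro ⟨r, t, hr, rfl⟩
    have hp : D.IsPosRoot ((G.pw l)⁻¹ r).val := by
      by_contra hn
      apply (G.isNegRoot_iff_not_pos r).1 hr
      have := hl _ ((G.negr_pos_iff _).2 hn)
      rw [G.pw_negr, G.negr_pos_iff, not_not, show G.pw l ((G.pw l)⁻¹ r) = r from
        (G.pw l).apply_symm_apply r] at this
      exact this
    obtain ⟨c, hc⟩ := G.nPerm_nw (K := F) l ((G.pw l)⁻¹ r)
    refine ⟨_, ⟨(G.pw l)⁻¹ r, ((c⁻¹ : Fˣ) : F) * t, hp, rfl⟩, ?_⟩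
    simp only [MulEquiv.coe_toMonoidHom, MulAut.conj_apply]
    rw [hc, Units.mul_inv_cancel_left, show G.pw l ((G.pw l)⁻¹ r) = r from
        (G.pw l).apply_symm_apply r]

end Cfsg.Agent.S1053
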