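import Cfsg.Statements.S1057
import Cfsg.Agent.Lib.Lie.Chev.Small.G2Two
import Cfsg.Agent.S1059

set_option autoImplicit false
open Cfsg

namespace Cfsg.Agent.S1057

/-- G₂(2)′ ≅ PSU₃(3). -/
theorem result {F K : Type*} [Field F] [Fintype F] [Field K] [Fintype K] (hF : Fintype.card F = 2) (hK : Fintype.card K = 9) :
    Nonempty (↥(commutator ↥(Cfsg.Lie.chevG2.group F)) ≃* Cfsg.PSU 3 K 3) := by
  classical
  let e₂ : ZMod 2 ≃+* F := ZMod.ringEquivOfPrime F Nat.prime_two hF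
  obtain ⟨C⟩ := CfsgLib.Lie.Chev.nonempty_full (D := Cfsg.Lie.chevG2) (by simp)
  obtain ⟨e⟩ := C.G.nonempty_groupEquiv e₂
  haveI : Fact (Nat.Prime 2) := ⟨Nat.prime_two⟩
  have h12096 : Nat.card ↥(Cfsg.Lie.chevG2.group (ZMod 2)) = 12096 := by
    rw [Cfsg.Agent.S1059.result (ZMod.card 2)]; norm_num
  obtain ⟨f⟩ := CfsgLib.Lie.Chev.Small.G2Two.g2_two_derived hK h12096
  have hmap : (commutator ↥(Cfsg.Lie.chevG2.group F)).map e.symm.toMonoidHom =
      commutator ↥(Cfsg.Lie.chevG2.group (ZMod 2)) := by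
    rw [commutator_def, Subgroup.map_commutator,
      Subgroup.map_top_of_surjective _ e.symm.surjective, commutator_def]
  exact ⟨((e.symm.subgroupMap (commutator ↥(Cfsg.Lie.chevG2.group F))).trans (MulEquiv.subgroupCongr hmap)).trans f⟩

end Cfsg.Agent.S1057
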