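import Cfsg.Statements.S1075
import Cfsg.Agent.Lib.Lie.Chev.Tw.Ree.AutSetup
import Cfsg.Agent.Lib.Lie.Chev.Tw.Ree.Group
import Cfsg.Agent.Lib.Fusion.Transfer
import Cfsg.Agent.S1011
import Mathlib.GroupTheory.Transfer
import Mathlib.GroupTheory.PGroup

set_option autoImplicit false
set_option maxRecDepth 100000
open Cfsg
open Cfsg.Lie CfsgLib.Lie.Chev
open CfsgLib.Lie.Chev.TG2
open scoped MatrixGroups

namespace Cfsg.Agent.S1075

theorem relIndex_mul_inf {G : Type*} [Group G] (M N : Subgroup G) :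
    Nat.card ↥(N ⊓ M) * M.relIndex N = Nat.card ↥N := by
  rw [← Subgroup.inf_relIndex_right, inf_comm M N, Subgroup.relIndex,
    ← Nat.card_congr (Subgroup.subgroupOfEquivOfLe (inf_le_left : N ⊓ M ≤ N)).toEquiv]
  exact Subgroup.card_mul_index _

theorem index_dvd_of_sup_eq_top {G : Type*} [Group G] (M N : Subgroup G) [M.Normal]
    (h : N ⊔ M = ⊤) : M.index ∣ Nat.card ↥N := by
  rw [← Subgroup.relIndex_top_right, ← h, Subgroup.relIndex_sup_right]
  exact Subgroup.relIndex_dvd_card _ _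

/-- an element of order seven commutes with no nontrivial element of `A` -/
theorem no_seven {D : Type*} [Group D] [Finite D] (A : Subgroup D)
    (hN : Nat.card ↥(Subgroup.normalizer (A : Set D)) = 18)
    (hTI : ∀ a ∈ A, a ≠ 1 → ∀ g : D, g * a * g⁻¹ ∈ A → g ∈ Subgroup.normalizer (A : Set D))
    {a y : D} (ha : a ∈ A) (ha1 : a ≠ 1) (hy : orderOf y = 7) (h : Commute y a) : False := by
  have hm : y ∈ Subgroup.normalizer (A : Set D) :=
    hTI a ha ha1 y (by rw [h.eq, mul_inv_cancel_right]; exact ha)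
  have := Subgroup.orderOf_dvd_natCard _ hm
  rw [hy, hN] at this
  omega

/-- simplicity from the Sylow `3`-subgroup -/
theorem simple_504 {D : Type*} [Group D] [Finite D] (hD : Nat.card D = 504) (A : Subgroup D)
    (hA : Nat.card ↥A = 9) (hN : Nat.card ↥(Subgroup.normalizer (A : Set D)) = 18)
    (hTI : ∀ a ∈ A, a ≠ 1 → ∀ g : D, g * a * g⁻¹ ∈ A → g ∈ Subgroup.normalizer (A : Set D))
    (hinv : ∃ a₀ ∈ A, ∀ g ∈ Subgroup.normalizer (A : Set D), Commute g a₀ → g ∈ A) :
    IsSimpleGroup D := by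
  haveI := Fact.mk Nat.prime_three
  haveI : Fact (Nat.Prime 7) := ⟨by norm_num⟩
  haveI : Nontrivial D := Finite.one_lt_card_iff_nontrivial.1 (by omega)
  have hAidx : A.index = 56 := by
    have := A.card_mul_index
    rw [hA, hD] at this
    omega
  let S : Sylow 3 D := (IsPGroup.of_card (n := 2) (by rw [hA]; norm_num)).toSylow
    (show ¬ 3 ∣ A.index by rw [hAidx]; norm_num)
  have hS : (S : Subgroup D) = A := rfl
  -- a Sylow `7`-normalizer has order `14`
  have h7 : ∀ Q : Sylow 7 D, Nat.card ↥(Subgroup.normalizer ((Q : Subgroup D) : Set D)) = 14 := by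
    intro Q
    have hQ : Nat.card ↥(Q : Subgroup D) = 7 := by
      rw [Sylow.card_eq_multiplicity, hD, show (504 : ℕ) = 7 ^ 1 * 72 by norm_num,
        Nat.factorization_mul (by norm_num) (by norm_num), Nat.factorization_pow,
        Finsupp.add_apply, Nat.factorization_eq_zero_of_not_dvd (show ¬ 7 ∣ 72 by norm_num)]
      simp [(show Nat.Prime 7 by norm_num).factorization_self]
    set N := Subgroup.normalizer ((Q : Subgroup D) : Set D)
    have hc : Nat.card (Sylow 7 D) = N.index := Q.card_eq_index_normalizer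
    have hmod : Nat.card (Sylow 7 D) % 7 = 1 := card_sylow_modEq_one 7 D
    have hd := Q.card_dvd_index
    have hQi : (Q : Subgroup D).index = 72 := by
      have := (Q : Subgroup D).card_mul_index
      rw [hQ, hD] at this
      omega
    rw [hQi] at hd
    have hNi := N.card_mul_index
    rw [hD, ← hc] at hNi
    have h9 : ¬ 9 ∣ Nat.card ↥N := by
      intro h9
      obtain ⟨K, hK⟩ := Sylow.exists_subgroup_card_pow_prime (G := ↥N) 3 (n := 2) (by simpa using h9)
      have hK' : Nat.card ↥(K.map N.subtype) = 9 := by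
        rw [← Nat.card_congr (K.equivMapOfInjective _ N.subtype_injective).toEquiv, hK]; norm_num
      obtain ⟨P, hP⟩ := (IsPGroup.of_card (n := 2) (by rw [hK']; norm_num) :
        IsPGroup 3 ↥(K.map N.subtype)).exists_le_sylow
      obtain ⟨g, hg⟩ := MulAction.exists_smul_eq D S P
      -- two elements act on `y` in the same way
      haveI : Nontrivial ↥(Q : Subgroup D) := Finite.one_lt_card_iff_nontrivial.1 (by omega)
      obtain ⟨⟨y, hy⟩, hy1⟩ := exists_ne (1 : ↥(Q : Subgroup D))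
      have hy7 : orderOf y = 7 := by
        have h1 := Subgroup.orderOf_dvd_natCard _ hy
        rw [hQ] at h1
        rcases (Nat.dvd_prime (by norm_num)).1 h1 with h | h
        · exact absurd (Subtype.ext (orderOf_eq_one_iff.1 h)) hy1
        · exact h
      let f : ↥(K.map N.subtype) → ↥(Q : Subgroup D) := fun b => ⟨b.1 * y * b.1⁻¹, by
        obtain ⟨x, -, hx⟩ := b.2
        exact (Subgroup.mem_normalizer_iff.1 (hx ▸ x.2) y).1 hy⟩
      have hf : ¬ Function.Injective f := fun hi => by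
        have := Nat.card_le_card_of_injective f hi
        omega
      obtain ⟨b, c, hbc, hne⟩ := Function.not_injective_iff.1 hf
      have e : b.1 * y * b.1⁻¹ = c.1 * y * c.1⁻¹ := congrArg Subtype.val hbc
      set d := c.1⁻¹ * b.1 with hd'
      have hdy : Commute y d := by
        show y * (c.1⁻¹ * b.1) = c.1⁻¹ * b.1 * y
        calc y * (c.1⁻¹ * b.1) = c.1⁻¹ * (c.1 * y * c.1⁻¹) * b.1 := by group
          _ = c.1⁻¹ * (b.1 * y * b.1⁻¹) * b.1 := by rw [e]
          _ = c.1⁻¹ * b.1 * y := by group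
      have hdP : d ∈ (P : Subgroup D) := mul_mem (inv_mem (hP c.2)) (hP b.2)
      rw [← hg, Sylow.coe_subgroup_smul, Subgroup.mem_pointwise_smul_iff_inv_smul_mem] at hdP
      simp only [MulAut.smul_def, ← map_inv, MulAut.conj_apply, inv_inv, hS] at hdP
      refine no_seven A hN hTI hdP ?_ (y := g⁻¹ * y * g) ?_ ?_
      · intro h
        refine hne (Subtype.ext ?_)
        have h' : d = 1 := by simpa using conj_eq_one_iff.1 (show g⁻¹ * d * g⁻¹⁻¹ = 1 by simpa using h)
        exact (inv_mul_eq_one.1 (hd' ▸ h')).symm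
      · rw [← hy7]
        simpa using (MulAut.conj g⁻¹).orderOf_eq y
      · have := hdy.map (MulAut.conj g⁻¹).toMonoidHom
        simpa using this
    have hn : Nat.card (Sylow 7 D) ≤ 72 := Nat.le_of_dvd (by norm_num) hd
    obtain ⟨k, hk⟩ : ∃ k, Nat.card (Sylow 7 D) = k := ⟨_, rfl⟩
    rw [hk] at hNi hmod hd hn
    interval_cases k <;> omega
  constructor
  intro M hM
  by_contra! hcon
  obtain ⟨hbot, htop⟩ := hcon
  haveI := hM
  -- Frattini, for 3 and for 7
  have f3 : 3 ∣ Nat.card ↥M → M.index ∣ 18 := by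
    intro h3
    obtain ⟨P⟩ := (inferInstance : Nonempty (Sylow 3 ↥M))
    obtain ⟨T, hT⟩ := (P.2.map M.subtype).exists_le_sylow
    obtain ⟨g, hg⟩ := MulAction.exists_smul_eq D S T
    have hne : (P : Subgroup ↥M).map M.subtype ≠ ⊥ := by
      rw [Ne, Subgroup.map_eq_bot_iff_of_injective _ M.subtype_injective]
      exact P.ne_bot_of_dvd_card h3
    obtain ⟨a, haP, ha1⟩ := (Subgroup.ne_bot_iff_exists_ne_one.1 hne).elim
      (fun x hx => (⟨x.1, x.2, fun e => hx (Subtype.ext e)⟩ : ∃ a, a ∈ (P : Subgroup ↥M).map M.subtype ∧ a ≠ 1))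
    have hle : Subgroup.normalizer (((P : Subgroup ↥M).map M.subtype : Subgroup D) : Set D) ≤
        (Subgroup.normalizer (A : Set D)).map (MulAut.conj g).toMonoidHom := by
      intro z hz
      have h1 := hT haP
      have h2 := hT ((Subgroup.mem_normalizer_iff.1 hz a).1 haP)
      rw [← hg, Sylow.coe_subgroup_smul, Subgroup.mem_pointwise_smul_iff_inv_smul_mem] at h1 h2
      simp only [MulAut.smul_def, ← map_inv, MulAut.conj_apply, inv_inv, hS] at h1 h2
      have h3 := hTI _ h1 (fun e => ha1 (by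
        simpa using conj_eq_one_iff.1 (show g⁻¹ * a * g⁻¹⁻¹ = 1 by simpa using e)))
        (g⁻¹ * z * g) (by convert h2 using 1; group)
      exact ⟨_, h3, by simp [mul_assoc]⟩
    have hf := index_dvd_of_sup_eq_top M _ (top_le_iff.1
      ((Sylow.normalizer_sup_eq_top P).ge.trans (sup_le_sup_right hle M)))
    rwa [Subgroup.card_map_of_injective (MulAut.conj g).injective, hN] at hf
  have f7 : 7 ∣ Nat.card ↥M → M.index ∣ 14 := by
    intro h7'
    obtain ⟨P⟩ := (inferInstance : Nonempty (Sylow 7 ↥M))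
    obtain ⟨T, hT⟩ := (P.2.map M.subtype).exists_le_sylow
    have hT7 : Nat.card ↥(T : Subgroup D) ∣ 7 := by
      have := h7 T
      have h1 := Subgroup.card_dvd_of_le (Subgroup.le_normalizer (H := (T : Subgroup D)))
      rw [this] at h1
      obtain ⟨k, hk⟩ := T.2.exists_card_eq
      rw [hk] at h1 ⊢
      exact Nat.Coprime.dvd_of_dvd_mul_left (Nat.Coprime.pow_left k (by norm_num : Nat.Coprime 7 2))
        (h1.trans (by norm_num : 14 ∣ 2 * 7))
    have hPT : (P : Subgroup ↥M).map M.subtype = (T : Subgroup D) := by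
      refine Subgroup.eq_of_le_of_card_ge hT ?_
      rw [Subgroup.card_map_of_injective M.subtype_injective]
      exact (Nat.le_of_dvd (by norm_num) hT7).trans
        (Nat.le_of_dvd Nat.card_pos (P.dvd_card_of_dvd_card h7'))
    have hf := index_dvd_of_sup_eq_top M _ (Sylow.normalizer_sup_eq_top P)
    rwa [hPT, h7 T] at hf
  have hcard := M.card_mul_index
  rw [hD] at hcard
  have hidx : M.index ≠ 1 := fun h => htop (Subgroup.index_eq_one.1 h)
  by_cases h2 : 3 ∣ Nat.card ↥M ∨ 7 ∣ Nat.card ↥M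
  · -- index two
    have hboth : 3 ∣ Nat.card ↥M ∧ 7 ∣ Nat.card ↥M := by
      rcases h2 with h | h
      · refine ⟨h, ?_⟩
        rcases (Nat.Prime.dvd_mul (by norm_num : Nat.Prime 7)).1 (hcard ▸ (by norm_num : 7 ∣ 504)) with h' | h'
        · exact h'
        · exact absurd (h'.trans (f3 h)) (by norm_num)
      · refine ⟨?_, h⟩
        rcases Nat.prime_three.dvd_mul.1 (hcard ▸ (by norm_num : 3 ∣ 504)) with h' | h'
        · exact h'
        · exact absurd (h'.trans (f7 h)) (by norm_num)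
    have hi2 : M.index = 2 := by
      have := Nat.dvd_gcd (f3 hboth.1) (f7 hboth.2)
      rcases (Nat.dvd_prime Nat.prime_two).1 (by simpa using this) with h | h
      exacts [absurd h hidx, h]
    have hM252 : Nat.card ↥M = 252 := by rw [hi2] at hcard; omega
    have hAM : A ≤ M := by
      intro a ha
      have h9 : a ^ 9 = 1 := by
        have := pow_card_eq_one' (G := ↥A) (x := ⟨a, ha⟩)
        rw [hA] at this
        exact congrArg Subtype.val this
      have := M.sq_mem_of_index_two hi2 (a ^ 5)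
      rwa [← pow_mul, show 5 * 2 = 9 + 1 by norm_num, pow_add, h9, one_mul, pow_one] at this
    set A' := A.subgroupOf M with hA'
    have hA'c : Nat.card ↥A' = 9 := by rw [Nat.card_congr (Subgroup.subgroupOfEquivOfLe hAM).toEquiv, hA]
    have hA'i : A'.index = 28 := by
      have := A'.card_mul_index
      rw [hA'c, hM252] at this
      omega
    let P : Sylow 3 ↥M := (IsPGroup.of_card (n := 2) (by rw [hA'c]; norm_num)).toSylow
      (show ¬ 3 ∣ A'.index by rw [hA'i]; norm_num)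
    have hnM : ∀ x : ↥M, x ∈ Subgroup.normalizer (A' : Set ↥M) → x.1 ∈ Subgroup.normalizer (A : Set D) := by
      intro x hx
      haveI : Nontrivial ↥A := Finite.one_lt_card_iff_nontrivial.1 (by omega)
      obtain ⟨a, ha⟩ := exists_ne (1 : ↥A)
      exact hTI a a.2 (fun e => ha (Subtype.ext e)) x
        ((Subgroup.mem_normalizer_iff.1 hx ⟨a, hAM a.2⟩).1 a.2)
    have hNM : Subgroup.normalizer (A : Set D) ⊓ M = A := by
      refine (Subgroup.eq_of_le_of_card_ge (le_inf Subgroup.le_normalizer hAM) ?_).symm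
      have h := relIndex_mul_inf M (Subgroup.normalizer (A : Set D))
      have hr : M.relIndex (Subgroup.normalizer (A : Set D)) = 2 := by
        rw [← Subgroup.relIndex_sup_right, show Subgroup.normalizer (A : Set D) ⊔ M = ⊤ from ?_,
          Subgroup.relIndex_top_right, hi2]
        refine top_le_iff.1 ((Sylow.normalizer_sup_eq_top P).ge.trans (sup_le_sup_right ?_ M))
        show Subgroup.normalizer ((A'.map M.subtype : Subgroup D) : Set D) ≤ _
        rw [hA', Subgroup.subgroupOf_map_subtype, inf_of_le_left hAM]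
      rw [hr, hN] at h
      omega
    have hP : Subgroup.normalizer ((P : Subgroup ↥M) : Set ↥M) ≤
        Subgroup.centralizer ((P : Subgroup ↥M) : Set ↥M) := by
      intro x hx
      refine Subgroup.mem_centralizer_iff.2 fun z hz => ?_
      have hxA : x.1 ∈ A := hNM ▸ Subgroup.mem_inf.2 ⟨hnM x hx, x.2⟩
      have hc := (IsPGroup.commutative_of_card_eq_prime_sq (p := 3) (G := ↥A) (by rw [hA]; norm_num))
        ⟨z.1, hz⟩ ⟨x.1, hxA⟩
      exact Subtype.ext (show z.1 * x.1 = x.1 * z.1 from congrArg Subtype.val hc)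
    set K := (MonoidHom.transferSylow P hP).ker
    have hKc : Nat.card ↥K = 28 := by
      have := (MonoidHom.ker_transferSylow_isComplement' P hP).card_mul
      rw [show Nat.card ↥(P : Subgroup ↥M) = 9 from hA'c, hM252] at this
      change Nat.card ↥K * 9 = 252 at this
      omega
    obtain ⟨Q⟩ := (inferInstance : Nonempty (Sylow 7 ↥K))
    have hQ7 : 7 ∣ Nat.card ↥(Q : Subgroup ↥K) := Q.dvd_card_of_dvd_card (by rw [hKc]; norm_num)
    haveI : Subsingleton (Sylow 7 ↥K) := by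
      refine Finite.card_le_one_iff_subsingleton.1 ?_
      have hm : Nat.card (Sylow 7 ↥K) % 7 = 1 := card_sylow_modEq_one 7 ↥K
      have hd := Q.card_dvd_index
      have hq := (Q : Subgroup ↥K).card_mul_index
      obtain ⟨r, hr⟩ := hQ7
      rw [hKc, hr, mul_assoc] at hq
      have : Nat.card (Sylow 7 ↥K) ∣ 4 := hd.trans ⟨r, by rw [mul_comm]; omega⟩
      have h4 := Nat.le_of_dvd (by norm_num) this
      omega
    haveI : ((Q : Subgroup ↥K).map K.subtype).Normal := inferInstance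
    set Q' := ((Q : Subgroup ↥K).map K.subtype).map M.subtype
    obtain ⟨T, hT⟩ := ((Q.2.map K.subtype).map M.subtype).exists_le_sylow
    have hT' : Q' = (T : Subgroup D) := by
      refine Subgroup.eq_of_le_of_card_ge hT ?_
      have h1 := Subgroup.card_dvd_of_le (Subgroup.le_normalizer (H := (T : Subgroup D)))
      rw [h7 T] at h1
      obtain ⟨k, hk⟩ := T.2.exists_card_eq
      rw [hk] at h1
      have h2 : 7 ^ k ∣ 7 := Nat.Coprime.dvd_of_dvd_mul_left (Nat.Coprime.pow_left k (by norm_num : Nat.Coprime 7 2))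
        (h1.trans (by norm_num : 14 ∣ 2 * 7))
      rw [Subgroup.card_map_of_injective M.subtype_injective,
        Subgroup.card_map_of_injective K.subtype_injective, hk]
      exact (Nat.le_of_dvd (by norm_num) h2).trans (Nat.le_of_dvd Nat.card_pos hQ7)
    have hMle : M ≤ Subgroup.normalizer ((T : Subgroup D) : Set D) := by
      have h := (Subgroup.le_normalizer_map (H := (Q : Subgroup ↥K).map K.subtype) M.subtype)
      rw [Subgroup.normalizer_eq_top, ← MonoidHom.range_eq_map, Subgroup.range_subtype] at h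
      change M ≤ Subgroup.normalizer (Q' : Set D) at h
      rw [hT'] at h
      exact h
    have := Subgroup.card_dvd_of_le hMle
    rw [h7 T, hM252] at this
    norm_num at this
  · -- a normal `2`-group
    push Not at h2
    have h8 : Nat.card ↥M ∣ 8 := by
      have h63 : Nat.Coprime (Nat.card ↥M) 63 := by
        rw [show (63 : ℕ) = 3 ^ 2 * 7 by norm_num]
        exact Nat.Coprime.mul_right (Nat.Coprime.pow_right _ ((Nat.prime_three.coprime_iff_not_dvd.2 h2.1).symm))
          (((by norm_num : Nat.Prime 7).coprime_iff_not_dvd.2 h2.2).symm)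
      exact h63.dvd_of_dvd_mul_right (⟨M.index, by rw [hcard]⟩)
    have hAM : A ⊓ M = ⊥ := Subgroup.inf_eq_bot_of_coprime (by
      rw [hA, show (9 : ℕ) = 3 ^ 2 by norm_num]
      exact Nat.Coprime.pow_left _ (Nat.prime_three.coprime_iff_not_dvd.2 h2.1))
    haveI : Nontrivial ↥M := (Subgroup.nontrivial_iff_ne_bot M).2 hbot
    obtain ⟨m, hm1⟩ := exists_ne (1 : ↥M)
    let f : ↥A → ↥M := fun a => ⟨a.1 * m.1 * a.1⁻¹, hM.conj_mem _ m.2 _⟩
    have hf : ¬ Function.Injective f := fun hi => by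
      have h1 := Nat.card_le_card_of_injective f hi
      have h2 := Nat.le_of_dvd (by norm_num) h8
      omega
    obtain ⟨b, c, hbc, hne⟩ := Function.not_injective_iff.1 hf
    have e : b.1 * m.1 * b.1⁻¹ = c.1 * m.1 * c.1⁻¹ := congrArg Subtype.val hbc
    set a := c.1⁻¹ * b.1 with hadef
    have ham : Commute m.1 a := by
      show m.1 * (c.1⁻¹ * b.1) = c.1⁻¹ * b.1 * m.1
      calc m.1 * (c.1⁻¹ * b.1) = c.1⁻¹ * (c.1 * m.1 * c.1⁻¹) * b.1 := by group
        _ = c.1⁻¹ * (b.1 * m.1 * b.1⁻¹) * b.1 := by rw [e]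
        _ = c.1⁻¹ * b.1 * m.1 := by group
    have haA : a ∈ A := mul_mem (inv_mem c.2) b.2
    have hmN : m.1 ∈ Subgroup.normalizer (A : Set D) :=
      hTI a haA (fun h => hne (Subtype.ext (inv_mul_eq_one.1 (hadef ▸ h)).symm)) m.1
        (by rw [ham.eq, mul_inv_cancel_right]; exact haA)
    obtain ⟨a₀, ha₀, hca₀⟩ := hinv
    have hcomm : m.1 * a₀ * m.1⁻¹ * a₀⁻¹ = 1 := by
      rw [← Subgroup.mem_bot, ← hAM, Subgroup.mem_inf]
      refine ⟨mul_mem ((Subgroup.mem_normalizer_iff.1 hmN a₀).1 ha₀) (inv_mem ha₀), ?_⟩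
      rw [mul_assoc, mul_assoc, ← mul_assoc a₀]
      exact mul_mem m.2 (hM.conj_mem _ (inv_mem m.2) _)
    have hmA := hca₀ m.1 hmN (mul_inv_eq_iff_eq_mul.1 (mul_inv_eq_one.1 hcomm))
    exact hm1 (Subtype.ext (Subgroup.mem_bot.1 (hAM ▸ Subgroup.mem_inf.2 ⟨hmA, m.2⟩)))

abbrev F3 := ZMod 3

theorem ree3 : Ree (RingEquiv.refl (ZMod 3)) 0 where
  cu x := by revert x; decide
  pw x := by simp
  neg := by rintro ⟨a, ha⟩; revert a; decide
  big := by simp

theorem units3 (c : (ZMod 3)ˣ) : c = 1 ∨ c = -1 := by revert c; decide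

theorem wHom3 (c : (ZMod 3)ˣ) : (wHom (RingEquiv.refl (ZMod 3)) c : ZMod 3) = c := by
  rw [wHom_val]
  have h : (c : ZMod 3) ≠ 0 := c.ne_zero
  show (c : ZMod 3) ^ 2 * (c : ZMod 3)⁻¹ = c
  field_simp

theorem chiHom3 (c : (ZMod 3)ˣ) : (chiHom (RingEquiv.refl (ZMod 3)) c : ZMod 3) = 1 := by
  rw [chiHom_val]
  show (c : ZMod 3) * (c : ZMod 3)⁻¹ = 1
  exact mul_inv_cancel₀ c.ne_zero

abbrev G3 : Type := ↥(twistedG2 (ZMod 3) (3 ^ 0))

theorem pe_mul3 (t u v t' u' v' : ZMod 3) : ∃ w, pe ree3 t u v * pe ree3 t' u' v' =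
    pe ree3 (t + t') (u + u' - t' * t) w :=
  ⟨_, pe_mul ree3 t u v t' u' v'⟩

theorem he_conj3 (c : (ZMod 3)ˣ) (t u v : ZMod 3) :
    he ree3 c * pe ree3 t u v * (he ree3 c)⁻¹ = pe ree3 ((c : ZMod 3) * t) u ((c : ZMod 3) * v) := by
  rw [he_conj, wHom3, chiHom3, one_mul]

theorem pe_inv3 (t u v : ZMod 3) : ∃ w, (pe ree3 t u v)⁻¹ = pe ree3 (-t) (-u - t * t) w := by
  obtain ⟨t', u', v', e⟩ := (mem_gU_iff ree3).1 (inv_mem ((mem_gU_iff ree3).2 ⟨t, u, v, rfl⟩))
  obtain ⟨w, hw⟩ := pe_mul3 t u v t' u' v'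
  rw [← e, mul_inv_cancel, ← pe_zero ree3] at hw
  obtain ⟨h1, h2, -⟩ := pe_inj ree3 hw
  refine ⟨v', e.trans ?_⟩
  obtain rfl : t' = -t := by linear_combination -h1
  rw [show u' = -u - t * t by linear_combination -h2]

theorem id1 : ∀ t t' : ZMod 3, t * t + t' * t' - t' * t = (t + t') * (t + t') := by decide

theorem id2 : ∀ t : ZMod 3, -(t * t) - t * t = -t * -t := by decide

theorem id3 : ∀ c t u t' u' : ZMod 3, c ≠ 0 →
    u + u' - t' * t + (-u - t * t + (-u' - t' * t') - -t' * (c * -t)) - (c * -t + -t') * (t + t') =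
      (t + t' + (c * -t + -t')) * (t + t' + (c * -t + -t')) := by decide

/-- the hyperplane containing the focal subgroup -/
noncomputable def focK : Subgroup G3 where
  carrier := {g | ∃ t v, g = pe ree3 t (t * t) v}
  one_mem' := ⟨0, 0, by rw [mul_zero, pe_zero]⟩
  mul_mem' := by
    rintro _ _ ⟨t, v, rfl⟩ ⟨t', v', rfl⟩
    obtain ⟨w, hw⟩ := pe_mul3 t (t * t) v t' (t' * t') v'
    refine ⟨t + t', w, hw.trans ?_⟩
    rw [id1]
  inv_mem' := by
    rintro _ ⟨t, v, rfl⟩
    obtain ⟨w, hw⟩ := pe_inv3 t (t * t) v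
    refine ⟨-t, w, hw.trans ?_⟩
    rw [id2]

theorem comm_mem_focK {x b : G3} (hx : x ∈ ree3.gp.gU) (hb : b ∈ ree3.gp.gB) :
    x * b * x⁻¹ * b⁻¹ ∈ focK := by
  obtain ⟨t, u, v, rfl⟩ := (mem_gU_iff ree3).1 hx
  obtain ⟨p, hp, h, hh, rfl⟩ := (TwGp.mem_gB_iff _).1 hb
  obtain ⟨t', u', v', rfl⟩ := (mem_gU_iff ree3).1 hp
  obtain ⟨c, rfl⟩ := (mem_gH_iff ree3).1 hh
  obtain ⟨w1, e1⟩ := pe_inv3 t u v
  obtain ⟨w2, e2⟩ := pe_inv3 t' u' v'
  obtain ⟨w3, e3⟩ := pe_mul3 t u v t' u' v'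
  obtain ⟨w4, e4⟩ := pe_mul3 ((c : ZMod 3) * -t) (-u - t * t) ((c : ZMod 3) * w1) (-t') (-u' - t' * t') w2
  obtain ⟨w5, e5⟩ := pe_mul3 (t + t') (u + u' - t' * t) w3 ((c : ZMod 3) * -t + -t')
    ((-u - t * t) + (-u' - t' * t') - -t' * ((c : ZMod 3) * -t)) w4
  have e : pe ree3 t u v * (pe ree3 t' u' v' * he ree3 c) * (pe ree3 t u v)⁻¹ *
      (pe ree3 t' u' v' * he ree3 c)⁻¹ =
      (pe ree3 t u v * pe ree3 t' u' v') *
        ((he ree3 c * (pe ree3 t u v)⁻¹ * (he ree3 c)⁻¹) * (pe ree3 t' u' v')⁻¹) := by group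
  rw [e, e1, he_conj3, e2, e4, e3, e5]
  refine ⟨_, w5, congrArg₂ (fun a b => pe ree3 a b w5) rfl ?_⟩
  exact id3 _ _ _ _ _ c.ne_zero

/-- The derived subgroup of ²G₂(3) (θ = identity over the field with three elements) has order 504 = 1512/3 and is isomorphic to PSL₂ over the field with eight elements. -/
theorem result {L : Type*} [Field L] [Fintype L] (hL : Fintype.card L = 8) :
    Nat.card ↥(commutator ↥(Cfsg.Lie.twistedG2 (ZMod 3) 1)) = 504 ∧
      Nonempty (↥(commutator ↥(Cfsg.Lie.twistedG2 (ZMod 3) 1)) ≃* Matrix.ProjectiveSpecialLinearGroup (Fin 2) L) := by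
  show Nat.card ↥(commutator G3) = 504 ∧ Nonempty (↥(commutator G3) ≃* _)
  classical
  set U := ree3.gp.gU with hUdef
  set B := ree3.gp.gB with hBdef
  have hK : Fintype.card (ZMod 3) = 3 ^ (2 * 0 + 1) := ree3.big
  obtain ⟨-, ⟨-, hU0⟩, -, hG0, -⟩ := summary hK
  have hG : Nat.card G3 = 1512 := by rw [hG0]; norm_num
  have hU : Nat.card ↥U = 27 := by
    rw [hUdef, TwGp.gU, ← Subgroup.inf_subgroupOf_right,
      Nat.card_congr (Subgroup.subgroupOfEquivOfLe inf_le_right).toEquiv, hU0]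
    norm_num
  have hUi : U.index = 56 := by
    have := U.card_mul_index
    rw [hU, hG] at this
    omega
  let S : Sylow 3 G3 := (IsPGroup.of_card (n := 3) (by rw [hU]; norm_num)).toSylow
    (show ¬ 3 ∣ U.index by rw [hUi]; norm_num)
  have hNU : Subgroup.normalizer (U : Set G3) = B := TwGp.normalizer_gU _
  have hTI : ∀ x ∈ U, x ≠ 1 → ∀ g : G3, g * x * g⁻¹ ∈ U → g ∈ B := by
    intro x hx hx1 g hg
    rw [← hNU]
    refine (Sylow.smul_eq_iff_mem_normalizer (P := S)).1 ?_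
    by_contra hne
    have hb := sylow_three_inter hK (g • S) S hne
    refine hx1 (conj_eq_one_iff.1 (show g * x * g⁻¹ = 1 from ?_))
    rw [← Subgroup.mem_bot, ← hb, Subgroup.mem_inf]
    refine ⟨?_, hg⟩
    rw [Sylow.coe_subgroup_smul]
    exact Subgroup.smul_mem_pointwise_smul x (MulAut.conj g) U hx
  have memB : ∀ {g : G3}, g ∈ B ↔ ∃ t u v, ∃ c, g = pe ree3 t u v * he ree3 c := by
    intro g
    rw [hBdef, TwGp.mem_gB_iff]
    constructor
    · rintro ⟨p, hp, h, hh, rfl⟩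
      obtain ⟨t, u, v, rfl⟩ := (mem_gU_iff ree3).1 hp
      obtain ⟨c, rfl⟩ := (mem_gH_iff ree3).1 hh
      exact ⟨t, u, v, c, rfl⟩
    · rintro ⟨t, u, v, c, rfl⟩
      exact ⟨_, (mem_gU_iff ree3).2 ⟨t, u, v, rfl⟩, _, (mem_gH_iff ree3).2 ⟨c, rfl⟩, rfl⟩
  have hiU : he ree3 (-1) ∉ U := by
    intro h
    obtain ⟨t, u, v, e⟩ := (mem_gU_iff ree3).1 h
    have h1 := he_conj3 (-1) 1 0 0
    rw [e] at h1
    obtain ⟨w, hw⟩ := pe_mul3 t u v 1 0 0
    obtain ⟨w', hw'⟩ := pe_inv3 t u v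
    obtain ⟨w'', hw''⟩ := pe_mul3 (t + 1) (u + 0 - 1 * t) w (-t) (-u - t * t) w'
    rw [hw, hw', hw''] at h1
    have := (pe_inj ree3 h1).1
    simp at this
    exact absurd this (by decide)
  have hiB : he ree3 (-1) ∈ B := TwGp.gH_le_gB _ ((mem_gH_iff ree3).2 ⟨_, rfl⟩)
  have hBc : Nat.card ↥B = 54 := by
    have hle : Nat.card ↥B ≤ 54 := by
      have h := Nat.card_le_card_of_surjective
        (fun x : ↥U × (ZMod 3)ˣ => (⟨x.1.1 * he ree3 x.2, mul_mem (TwGp.gU_le_gB _ x.1.2)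
          (TwGp.gH_le_gB _ ((mem_gH_iff ree3).2 ⟨_, rfl⟩))⟩ : ↥B)) (by
          rintro ⟨g, hg⟩
          obtain ⟨t, u, v, c, rfl⟩ := memB.1 hg
          exact ⟨(⟨_, (mem_gU_iff ree3).2 ⟨t, u, v, rfl⟩⟩, c), rfl⟩)
      rw [Nat.card_prod, hU, Nat.card_units, Nat.card_zmod] at h
      exact h
    have hlt : 27 < Nat.card ↥B := by
      by_contra h
      exact hiU ((Subgroup.eq_of_le_of_card_ge (show U ≤ B from TwGp.gU_le_gB _) (by rw [hU]; omega)).symm ▸ hiB)
    obtain ⟨k, hk⟩ : 27 ∣ Nat.card ↥B := hU ▸ Subgroup.card_dvd_of_le (show U ≤ B from TwGp.gU_le_gB _)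
    omega
  -- the focal subgroup
  have hfoc : commutator G3 ⊓ U ≤ focK := by
    rw [show U = (S : Subgroup G3) from rfl,
      CfsgLib.Fusion.commutator_inf_eq_focal (CfsgLib.Fusion.coprime_card_focalQuotient S)]
    refine (CfsgLib.Fusion.focalSubgroup_le_of_control (N := B) ?_).trans (Subgroup.commutator_le.2 ?_)
    · intro x hx g hg
      rcases eq_or_ne x 1 with rfl | hx1
      · exact ⟨1, one_mem _, by simp⟩
      · exact ⟨g, hTI x hx hx1 g hg, rfl⟩
    · intro x hx b hb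
      rw [commutatorElement_def]
      exact comm_mem_focK hx hb
  set D := commutator G3 with hDdef
  -- an element of order nine
  set a := he ree3 (-1) * pe ree3 1 0 0 * (he ree3 (-1))⁻¹ * (pe ree3 1 0 0)⁻¹ with hadef
  have haD : a ∈ D := Subgroup.commutator_mem_commutator (Subgroup.mem_top _) (Subgroup.mem_top _)
  obtain ⟨wa, ha⟩ : ∃ w, a = pe ree3 1 1 w := by
    obtain ⟨w, hw⟩ := pe_inv3 1 0 0
    obtain ⟨w', hw'⟩ := pe_mul3 (((-1 : (ZMod 3)ˣ) : ZMod 3) * 1) 0 (((-1 : (ZMod 3)ˣ) : ZMod 3) * 0)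
      (-1) (-0 - 1 * 1) w
    refine ⟨w', ?_⟩
    rw [hadef, he_conj3, hw, hw', Units.val_neg, Units.val_one]
    congr 1 <;> decide
  have haU : a ∈ U := (mem_gU_iff ree3).2 ⟨_, _, _, ha⟩
  have ha3 : a ^ 3 ≠ 1 := by
    rw [ha, pe_cube, ← pe_zero ree3]
    intro h
    have := (pe_inj ree3 h).2.2
    simp at this
  have hUD : Nat.card ↥(U ⊓ D) = 9 := by
    obtain ⟨k, hk, hk'⟩ := (Nat.dvd_prime_pow Nat.prime_three).1
      (show Nat.card ↥(U ⊓ D) ∣ 3 ^ 3 by
        have := Subgroup.card_dvd_of_le (inf_le_left : U ⊓ D ≤ U)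
        rwa [hU] at this)
    have h1 : k ≠ 3 := by
      intro h
      subst h
      have he' := Subgroup.eq_of_le_of_card_ge (inf_le_left : U ⊓ D ≤ U) (by rw [hk', hU]; norm_num)
      have hm : pe ree3 0 1 0 ∈ U ⊓ D := he'.symm ▸ (mem_gU_iff ree3).2 ⟨_, _, _, rfl⟩
      obtain ⟨t, v, e⟩ := hfoc (inf_comm U D ▸ hm)
      obtain ⟨e1, e2, -⟩ := pe_inj ree3 e
      rw [← e1] at e2
      simp at e2
    have h2 : 2 ≤ k := by
      by_contra h
      have hd := Subgroup.orderOf_dvd_natCard _ (Subgroup.mem_inf.2 ⟨haU, haD⟩ : a ∈ U ⊓ D)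
      rw [hk'] at hd
      exact ha3 (orderOf_dvd_iff_pow_eq_one.1
        (hd.trans (by simpa using pow_dvd_pow 3 (by omega : k ≤ 1))))
    rw [hk', show k = 2 by omega]
    norm_num
  -- `U` and `D` generate
  have hsup : U ⊔ D = ⊤ := by
    have hn : (U ⊔ D).Normal := Subgroup.Normal.of_commutator_le (G := G3) le_sup_right
    set N := (U ⊔ D)
    have hUN : ∀ g : G3, g ∈ ree3.gp.gU → g ∈ N := fun g hg => Subgroup.mem_sup_left hg
    have hVN : ∀ g : G3, g ∈ ree3.gp.gV → g ∈ N := by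
      intro g hg
      rw [← TwGp.map_gU ree3.gp] at hg
      obtain ⟨x, hx, rfl⟩ := hg
      exact hn.conj_mem x (hUN x hx) _
    have hgen : twistedG2 (ZMod 3) (3 ^ 0) ≤ N.map (twistedG2 (ZMod 3) (3 ^ 0)).subtype := by
      refine (C.G.gen_le_UV (S := g2Words (ZMod 3) (3 ^ 0)) fun w hw => ?_).trans
        ((Subgroup.closure_le _).2 ?_)
      · have hp : ∀ r : Fin chevG2.nroots, chevG2.IsPosRoot r.val ↔ 6 ≤ r.val := fun r => by
          rw [C.G.pos_iff_half, show chevG2.nroots / 2 = 6 from by decide +kernel]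
        obtain ⟨t, u, v, hw⟩ := hw
        have hθ : ∀ x : ZMod 3, RingEquiv.refl (ZMod 3) x = x ^ 3 ^ 0 := ree3.pw
        rcases hw with rfl | rfl
        · exact ⟨[(rt 7, t), (rt 6, t), (rt 8, t * t + u), (rt 9, t * t * t + v), (rt 10, u),
            (rt 11, v)], wordU_eq (RingEquiv.refl (ZMod 3)) hθ t u v, Or.inl (by simp [hp, rt])⟩
        · exact ⟨[(rt 4, -t), (rt 5, -t), (rt 3, -(t * t + u)), (rt 2, -(t * t * t + v)),
            (rt 1, -u), (rt 0, -v)], wordV_eq (RingEquiv.refl (ZMod 3)) hθ t u v, Or.inr (by simp [hp, rt])⟩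
      · rintro g (⟨hg, hgU⟩ | ⟨hg, hgV⟩)
        · exact ⟨⟨g, hg⟩, hUN ⟨g, hg⟩ hgU, rfl⟩
        · exact ⟨⟨g, hg⟩, hVN ⟨g, hg⟩ hgV, rfl⟩
    rw [eq_top_iff]
    intro g _
    obtain ⟨x, hx, e⟩ := hgen g.2
    exact Subtype.ext e ▸ hx
  have hDi : D.index = 3 := by
    have h := relIndex_mul_inf D U
    rw [← Subgroup.relIndex_sup_right, hsup, Subgroup.relIndex_top_right, hUD, hU] at h
    omega
  have hD : Nat.card ↥D = 504 := by
    have := D.card_mul_index
    rw [hDi, hG] at this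
    omega
  have hiD : he ree3 (-1) ∈ D := by
    have h := Subgroup.pow_index_mem D (he ree3 (-1))
    rwa [hDi, ← map_pow, show (-1 : (ZMod 3)ˣ) ^ 3 = -1 by decide] at h
  -- the normalizer of the Sylow subgroup of `D`
  set A : Subgroup ↥D := U.subgroupOf D with hAdef
  have hA : Nat.card ↥A = 9 := by
    rw [hAdef, ← Subgroup.inf_subgroupOf_right,
      Nat.card_congr (Subgroup.subgroupOfEquivOfLe inf_le_right).toEquiv, hUD]
  have hBA : ∀ g : ↥D, (g : G3) ∈ B → g ∈ Subgroup.normalizer (A : Set ↥D) := by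
    intro g hg
    rw [← hNU] at hg
    exact Subgroup.mem_normalizer_iff.2 fun x => Subgroup.mem_normalizer_iff.1 hg x.1
  have hAB : ∀ g ∈ Subgroup.normalizer (A : Set ↥D), (g : G3) ∈ B := by
    intro g hg
    have ha' : (⟨a, haD⟩ : ↥D) ∈ A := haU
    exact hTI a haU (fun e => ha3 (by rw [e, one_pow])) g
      ((Subgroup.mem_normalizer_iff.1 hg ⟨a, haD⟩).1 ha')
  have hN : Nat.card ↥(Subgroup.normalizer (A : Set ↥D)) = 18 := by
    have hle : (Subgroup.normalizer (A : Set ↥D)).map D.subtype ≤ B := by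
      rintro _ ⟨g, hg, rfl⟩
      exact hAB g hg
    have h1 := Subgroup.card_dvd_of_le hle
    rw [Subgroup.card_map_of_injective D.subtype_injective, hBc] at h1
    have h2 := Subgroup.card_subgroup_dvd_card (Subgroup.normalizer (A : Set ↥D))
    rw [hD] at h2
    have h3 : Nat.card ↥(Subgroup.normalizer (A : Set ↥D)) ∣ 18 := by
      simpa using Nat.dvd_gcd h1 h2
    have h4 := Subgroup.card_dvd_of_le (Subgroup.le_normalizer (H := A))
    rw [hA] at h4
    have h5 : Nat.card ↥(Subgroup.normalizer (A : Set ↥D)) ≠ 9 := by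
      intro h
      have e := Subgroup.eq_of_le_of_card_ge (Subgroup.le_normalizer (H := A)) (by rw [hA, h])
      exact hiU (show (⟨_, hiD⟩ : ↥D) ∈ A from e.symm ▸ hBA ⟨_, hiD⟩ hiB)
    have h6 := Nat.le_of_dvd (by norm_num) h3
    obtain ⟨k, hk⟩ := h4
    have h7 : 0 < Nat.card ↥(Subgroup.normalizer (A : Set ↥D)) := Nat.card_pos
    omega
  haveI := simple_504 hD A hA hN (fun x hx hx1 g hg => hBA g
    (hTI x.1 hx (fun e => hx1 (Subtype.ext e)) g.1 hg)) ⟨⟨a, haD⟩, haU, fun g hg hc => by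
      show (g : G3) ∈ U
      obtain ⟨t, u, v, c, e⟩ := memB.1 (hAB g hg)
      rcases units3 c with rfl | rfl
      · rw [e, map_one, mul_one]
        exact (mem_gU_iff ree3).2 ⟨_, _, _, rfl⟩
      · exfalso
        have hc' : (g : G3) * a = a * g := by
          have h := congrArg D.subtype hc.eq
          rw [map_mul, map_mul] at h
          exact h
        rw [e, ha] at hc'
        have h1 : pe ree3 t u v * (he ree3 (-1) * pe ree3 1 1 wa * (he ree3 (-1))⁻¹) =
            pe ree3 1 1 wa * pe ree3 t u v := by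
          calc _ = (pe ree3 t u v * he ree3 (-1)) * pe ree3 1 1 wa * (he ree3 (-1))⁻¹ := by group
            _ = _ := by rw [hc']; group
        rw [he_conj3] at h1
        obtain ⟨w, hw⟩ := pe_mul3 t u v (((-1 : (ZMod 3)ˣ) : ZMod 3) * 1) 1 (((-1 : (ZMod 3)ˣ) : ZMod 3) * wa)
        obtain ⟨w', hw'⟩ := pe_mul3 1 1 wa t u v
        rw [hw, hw'] at h1
        have := (pe_inj ree3 h1).1
        rw [Units.val_neg, Units.val_one, add_comm] at this
        exact absurd (add_right_cancel this) (by decide)⟩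
  exact ⟨hD, Cfsg.Agent.S1011.result hD hL⟩

end Cfsg.Agent.S1075
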