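import Cfsg.Statements.S1077
import Cfsg.Agent.Lib.Lie.Chev.CoverTorus
-- import your own Cfsg.Agent.* helpers here

set_option autoImplicit false
open Cfsg
open CfsgLib.Lie.Chev

namespace Cfsg.Agent.S1077

/-- Steinberg's Theorem: there is a homomorphism `x̄_r(t) ↦ x_r(t)` from the presented group onto the Chevalley group whose kernel is precisely the centre; hence `L(K) ≅ Ḡ/Z(Ḡ)`. -/
theorem result {K : Type*} [Field K] (D : Cfsg.Lie.ChevalleyDatum) (hD : D ∈ [Cfsg.Lie.chevG2, Cfsg.Lie.chevB2, Cfsg.Lie.chevD4, Cfsg.Lie.chevF4, Cfsg.Lie.chevE6, Cfsg.Lie.chevE7, Cfsg.Lie.chevE8]) :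
    ∃ θ : D.SteinbergGroup K →* ↥(D.group K), Function.Surjective θ ∧ θ.ker = Subgroup.center (D.SteinbergGroup K) ∧
      ∀ (r : ℕ) (t : K), r < D.nroots → ((θ (D.stGen K r t) : GL D.Idx K) : Matrix D.Idx D.Idx K) = D.x K r t := by
  have C := fullOf hD
  have hmem : ∀ g, (C.thetaSt (K := K)) g ∈ D.group K := fun g => by
    rw [← C.thetaSt_range (K := K)]; exact ⟨g, rfl⟩
  refine ⟨(C.thetaSt (K := K)).codRestrict (D.group K) hmem, ?_, ?_, fun r t hr => ?_⟩
  · intro g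
    obtain ⟨x, hx⟩ : (g : GL D.Idx K) ∈ (C.thetaSt (K := K)).range := by
      rw [C.thetaSt_range]; exact g.2
    exact ⟨x, Subtype.ext hx⟩
  · rw [← C.kerSt_eq_center (hasPair_tab hD C)]
    ext g
    simp only [MonoidHom.mem_ker]
    exact ⟨fun h => congrArg Subtype.val h, fun h => Subtype.ext h⟩
  · show ((C.thetaSt (D.stGen K r t) : GL D.Idx K) : Matrix D.Idx D.Idx K) = _
    rw [C.thetaSt_stGen ⟨r, hr⟩]
    exact (C.G.x_eq_xu ⟨r, hr⟩ t).symm


end Cfsg.Agent.S1077
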