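import Cfsg.Statements.S1078
import Cfsg.Agent.Lib.Lie.Chev.CoverTorus
import Cfsg.Agent.Lib.Lie.Chev.TorData
-- import your own Cfsg.Agent.* helpers here

set_option autoImplicit false
open Cfsg
open CfsgLib.Lie.Chev

namespace Cfsg.Agent.S1078

/-- For G₂, F₄, E₈ the presented group has trivial centre (the universal and adjoint groups coincide). -/
theorem result {K : Type*} [Field K] (D : Cfsg.Lie.ChevalleyDatum) (hD : D ∈ [Cfsg.Lie.chevG2, Cfsg.Lie.chevF4, Cfsg.Lie.chevE8]) :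
    Subgroup.center (D.SteinbergGroup K) = ⊥ := by
  have hD' : D ∈ [Cfsg.Lie.chevG2, Cfsg.Lie.chevB2, Cfsg.Lie.chevD4, Cfsg.Lie.chevF4,
      Cfsg.Lie.chevE6, Cfsg.Lie.chevE7, Cfsg.Lie.chevE8] := by
    simp only [List.mem_cons, List.not_mem_nil, or_false] at hD ⊢
    rcases hD with rfl | rfl | rfl <;> simp
  have C := fullOf hD'
  have hP := hasPair_tab hD' C
  rw [← C.kerSt_eq_center hP, C.kerSt_eq hP]
  have hk : (C.G.torθ (K := K)).ker = ⊥ := by
    simp only [List.mem_cons, List.not_mem_nil, or_false] at hD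
    rcases hD with rfl | rfl | rfl
    · exact C.G.torθ_ker_eq_bot kerG2 kerG2_ok rfl
    · exact C.G.torθ_ker_eq_bot kerF4 kerF4_ok rfl
    · exact C.G.torθ_ker_eq_bot kerE8 kerE8_ok rfl
  rw [hk, Subgroup.map_bot]


end Cfsg.Agent.S1078
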