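import Cfsg.Statements.S1079
import Cfsg.Agent.Lib.Lie.Chev.Univ.CenterEmb
-- import your own Cfsg.Agent.* helpers here

set_option autoImplicit false
open Cfsg

namespace Cfsg.Agent.S1079

/-- `|Z(Ḡ)| = gcd(3, q-1)` for E₆ and `gcd(2, q-1)` for E₇ over a field with `q` elements (the centre is dual to the weight lattice modulo the root lattice). -/
theorem result {K : Type*} [Field K] [Fintype K] {q : ℕ} (hq : Fintype.card K = q)
    (p : Cfsg.Lie.ChevalleyDatum × ℕ) (hp : p ∈ [(Cfsg.Lie.chevE6, 3), (Cfsg.Lie.chevE7, 2)]) :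
    Nat.card (Subgroup.center (p.1.SteinbergGroup K)) = Nat.gcd p.2 (q - 1) := by
  subst hq
  simp only [List.mem_cons, List.not_mem_nil, or_false] at hp
  have key : ∀ {D : Cfsg.Lie.ChevalleyDatum} {e : ℕ → ℕ} (CD : CfsgLib.Lie.Chev.Full D)
      (CE : CfsgLib.Lie.Chev.Full Cfsg.Lie.chevE8) (_ : CfsgLib.Lie.Chev.Univ.embChk D Cfsg.Lie.chevE8 e = true)
      (hP : ∀ i, CD.HasPair i) (T : CfsgLib.Lie.Chev.KerData D.rank) (_ : T.Ok (CfsgLib.Lie.Chev.cmat D))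
      (_ : T.k = 1),
      Nat.card (Subgroup.center (D.SteinbergGroup K)) = Nat.gcd T.d (Fintype.card K - 1) := by
    intro D e CD CE h hP T hT hk
    rw [← CD.kerSt_eq_center hP, CD.kerSt_eq hP, Subgroup.card_map_of_injective
      (CfsgLib.Lie.Chev.Univ.torSt_injective_of_emb CD CE h hP
        (CE.G.torθ_ker_eq_bot _ CfsgLib.Lie.Chev.kerE8_ok rfl))]
    exact (CfsgLib.Lie.Chev.Univ.torθ_ker_cyclic CD T hT hk).2
  rcases hp with rfl | rfl
  · exact key (CfsgLib.Lie.Chev.fullOf (by simp)) (CfsgLib.Lie.Chev.fullOf (by simp))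
      CfsgLib.Lie.Chev.Univ.embE6_ok (CfsgLib.Lie.Chev.hasPair_tab (by simp) _)
      _ CfsgLib.Lie.Chev.kerE6_ok rfl
  · exact key (CfsgLib.Lie.Chev.fullOf (by simp)) (CfsgLib.Lie.Chev.fullOf (by simp))
      CfsgLib.Lie.Chev.Univ.embE7_ok (CfsgLib.Lie.Chev.hasPair_tab (by simp) _)
      _ CfsgLib.Lie.Chev.kerE7_ok rfl

end Cfsg.Agent.S1079
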