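import Cfsg.Statements.S1080
import Cfsg.Agent.Lib.Lie.Chev.All

set_option autoImplicit false
open Cfsg
open CfsgLib.Lie.Chev

namespace Cfsg.Agent.S1080

/-- Field automorphisms: for every field automorphism `f` there is a group automorphism sending each `x_r(t)` to `x_r(f t)`. -/
theorem result {F : Type*} [Field F] (D : Cfsg.Lie.ChevalleyDatum) (hD : D ∈ [Cfsg.Lie.chevG2, Cfsg.Lie.chevB2, Cfsg.Lie.chevD4, Cfsg.Lie.chevF4, Cfsg.Lie.chevE6, Cfsg.Lie.chevE7, Cfsg.Lie.chevE8]) (f : F ≃+* F) :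
    ∃ α : ↥(D.group F) ≃* ↥(D.group F), ∀ (g : ↥(D.group F)) (r : ℕ) (t : F), r < D.nroots →
      ((g : GL D.Idx F) : Matrix D.Idx D.Idx F) = D.x F r t → ((α g : GL D.Idx F) : Matrix D.Idx D.Idx F) = D.x F r (f t) := by
  have G := goodOf hD
  let e : GL D.Idx F ≃* GL D.Idx F := Units.mapEquiv f.mapMatrix.toMulEquiv
  have he : ∀ (r : Fin D.nroots) (t : F), e (G.xu r t) = G.xu r (f t) := fun r t =>
    Units.ext (xg_map (f : F →+* F) r t)
  have hgrp : (D.group F).map (e : GL D.Idx F →* GL D.Idx F) = D.group F := by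
    rw [G.group_eq, MonoidHom.map_closure]
    congr 1
    ext g
    constructor
    · rintro ⟨x, ⟨r, t, rfl⟩, rfl⟩; exact ⟨r, f t, he r t⟩
    · rintro ⟨r, t, rfl⟩
      exact ⟨G.xu r (f.symm t), ⟨r, _, rfl⟩, by rw [MonoidHom.coe_coe, he, f.apply_symm_apply]⟩
  refine ⟨(e.subgroupMap (D.group F)).trans (MulEquiv.subgroupCongr hgrp), fun g r t hr h => ?_⟩
  obtain ⟨r, rfl⟩ : ∃ r' : Fin D.nroots, r'.val = r := ⟨⟨r, hr⟩, rfl⟩
  rw [G.x_eq_xu] at h ⊢
  have hg : (g : GL D.Idx F) = G.xu r t := Units.ext h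
  show ((e (g : GL D.Idx F) : GL D.Idx F) : Matrix D.Idx D.Idx F) = _
  rw [hg, he]

end Cfsg.Agent.S1080
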