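import Cfsg.Statements.S1081
import Cfsg.Agent.Lib.Lie.Chev.Tw.Aut
import Cfsg.Agent.Lib.Lie.Chev.Tw.DataE6
import Cfsg.Agent.Lib.Lie.Chev.Tw.DataD4
-- import your own Cfsg.Agent.* helpers here

set_option autoImplicit false
open Cfsg
open CfsgLib.Lie.Chev

namespace Cfsg.Agent.S1081

/-- Graph automorphisms: for E₆ with ρ = (p₁ p₆)(p₃ p₅) and for D₄ with ρ the 3-cycle on the outer nodes there is a group automorphism sending `x_p(t) ↦ x_{ρ(p)}(t)` and `x_{-p}(t) ↦ x_{-ρ(p)}(t)` for every fundamental root `p`. -/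
theorem result {F : Type*} [Field F] (p : Cfsg.Lie.ChevalleyDatum × List ℕ)
    (hp : p ∈ [(Cfsg.Lie.chevE6, [5, 1, 4, 3, 2, 0]), (Cfsg.Lie.chevD4, [2, 1, 3, 0]), (Cfsg.Lie.chevD4, [3, 1, 0, 2])]) :
    ∃ α : ↥(p.1.group F) ≃* ↥(p.1.group F), ∀ (g : ↥(p.1.group F)) (i : ℕ) (t : F), i < p.1.rank →
      (((g : GL p.1.Idx F) : Matrix p.1.Idx p.1.Idx F) = p.1.x F (p.1.simple i) t →
        ((α g : GL p.1.Idx F) : Matrix p.1.Idx p.1.Idx F) = p.1.x F (p.1.simple (p.2.getD i 0)) t) ∧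
      (((g : GL p.1.Idx F) : Matrix p.1.Idx p.1.Idx F) = p.1.x F (p.1.neg (p.1.simple i)) t →
        ((α g : GL p.1.Idx F) : Matrix p.1.Idx p.1.Idx F) = p.1.x F (p.1.neg (p.1.simple (p.2.getD i 0))) t) := by
  simp only [List.mem_cons, List.not_mem_nil, or_false] at hp
  rcases hp with rfl | rfl | rfl
  · obtain ⟨α, hα⟩ := emb_graphE6.exists_aut_of_all (K := F) rfl (fun a => by revert a; decide +kernel)
      (fun a => by revert a; decide +kernel) (emb_graphE6.proot_surjective (by decide +kernel)) (by decide +kernel)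
    have hd : ∀ i : Fin Cfsg.Lie.chevE6.rank,
        (graphE6.eps.get (Cfsg.Lie.chevE6.simple i.val) = false ∧
          graphE6.p.get (Cfsg.Lie.chevE6.simple i.val) = Cfsg.Lie.chevE6.simple (([5, 1, 4, 3, 2, 0] : List ℕ).getD i.val 0) ∧
          graphE6.lam.get (Cfsg.Lie.chevE6.simple i.val) = 1) ∧
        (graphE6.eps.get (Cfsg.Lie.chevE6.neg (Cfsg.Lie.chevE6.simple i.val)) = false ∧
          graphE6.p.get (Cfsg.Lie.chevE6.neg (Cfsg.Lie.chevE6.simple i.val)) =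
            Cfsg.Lie.chevE6.neg (Cfsg.Lie.chevE6.simple (([5, 1, 4, 3, 2, 0] : List ℕ).getD i.val 0)) ∧
          graphE6.lam.get (Cfsg.Lie.chevE6.neg (Cfsg.Lie.chevE6.simple i.val)) = 1) := by decide +kernel
    have hn : ∀ i : Fin Cfsg.Lie.chevE6.rank, Cfsg.Lie.chevE6.simple i.val < Cfsg.Lie.chevE6.nroots ∧
        Cfsg.Lie.chevE6.neg (Cfsg.Lie.chevE6.simple i.val) < Cfsg.Lie.chevE6.nroots := by decide +kernel
    refine ⟨α, fun g i t hi => ⟨fun h => ?_, fun h => ?_⟩⟩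
    · exact ((emb_graphE6.aut_x hα (hn ⟨i, hi⟩).1 h (hd ⟨i, hi⟩).1).trans (by rw [pow_one]))
    · exact ((emb_graphE6.aut_x hα (hn ⟨i, hi⟩).2 h (hd ⟨i, hi⟩).2).trans (by rw [pow_one]))
  · obtain ⟨α, hα⟩ := emb_graphD4.exists_aut_of_all (K := F) rfl (fun a => by revert a; decide +kernel)
      (fun a => by revert a; decide +kernel) (emb_graphD4.proot_surjective (by decide +kernel)) (by decide +kernel)
    have hd : ∀ i : Fin Cfsg.Lie.chevD4.rank,
        (graphD4.eps.get (Cfsg.Lie.chevD4.simple i.val) = false ∧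
          graphD4.p.get (Cfsg.Lie.chevD4.simple i.val) = Cfsg.Lie.chevD4.simple (([2, 1, 3, 0] : List ℕ).getD i.val 0) ∧
          graphD4.lam.get (Cfsg.Lie.chevD4.simple i.val) = 1) ∧
        (graphD4.eps.get (Cfsg.Lie.chevD4.neg (Cfsg.Lie.chevD4.simple i.val)) = false ∧
          graphD4.p.get (Cfsg.Lie.chevD4.neg (Cfsg.Lie.chevD4.simple i.val)) =
            Cfsg.Lie.chevD4.neg (Cfsg.Lie.chevD4.simple (([2, 1, 3, 0] : List ℕ).getD i.val 0)) ∧
          graphD4.lam.get (Cfsg.Lie.chevD4.neg (Cfsg.Lie.chevD4.simple i.val)) = 1) := by decide +kernel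
    have hn : ∀ i : Fin Cfsg.Lie.chevD4.rank, Cfsg.Lie.chevD4.simple i.val < Cfsg.Lie.chevD4.nroots ∧
        Cfsg.Lie.chevD4.neg (Cfsg.Lie.chevD4.simple i.val) < Cfsg.Lie.chevD4.nroots := by decide +kernel
    refine ⟨α, fun g i t hi => ⟨fun h => ?_, fun h => ?_⟩⟩
    · exact ((emb_graphD4.aut_x hα (hn ⟨i, hi⟩).1 h (hd ⟨i, hi⟩).1).trans (by rw [pow_one]))
    · exact ((emb_graphD4.aut_x hα (hn ⟨i, hi⟩).2 h (hd ⟨i, hi⟩).2).trans (by rw [pow_one]))
  · obtain ⟨α, hα⟩ := emb_graphD4i.exists_aut_of_all (K := F) rfl (fun a => by revert a; decide +kernel)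
      (fun a => by revert a; decide +kernel) (emb_graphD4i.proot_surjective (by decide +kernel)) (by decide +kernel)
    have hd : ∀ i : Fin Cfsg.Lie.chevD4.rank,
        (graphD4i.eps.get (Cfsg.Lie.chevD4.simple i.val) = false ∧
          graphD4i.p.get (Cfsg.Lie.chevD4.simple i.val) = Cfsg.Lie.chevD4.simple (([3, 1, 0, 2] : List ℕ).getD i.val 0) ∧
          graphD4i.lam.get (Cfsg.Lie.chevD4.simple i.val) = 1) ∧
        (graphD4i.eps.get (Cfsg.Lie.chevD4.neg (Cfsg.Lie.chevD4.simple i.val)) = false ∧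
          graphD4i.p.get (Cfsg.Lie.chevD4.neg (Cfsg.Lie.chevD4.simple i.val)) =
            Cfsg.Lie.chevD4.neg (Cfsg.Lie.chevD4.simple (([3, 1, 0, 2] : List ℕ).getD i.val 0)) ∧
          graphD4i.lam.get (Cfsg.Lie.chevD4.neg (Cfsg.Lie.chevD4.simple i.val)) = 1) := by decide +kernel
    have hn : ∀ i : Fin Cfsg.Lie.chevD4.rank, Cfsg.Lie.chevD4.simple i.val < Cfsg.Lie.chevD4.nroots ∧
        Cfsg.Lie.chevD4.neg (Cfsg.Lie.chevD4.simple i.val) < Cfsg.Lie.chevD4.nroots := by decide +kernel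
    refine ⟨α, fun g i t hi => ⟨fun h => ?_, fun h => ?_⟩⟩
    · exact ((emb_graphD4i.aut_x hα (hn ⟨i, hi⟩).1 h (hd ⟨i, hi⟩).1).trans (by rw [pow_one]))
    · exact ((emb_graphD4i.aut_x hα (hn ⟨i, hi⟩).2 h (hd ⟨i, hi⟩).2).trans (by rw [pow_one]))

end Cfsg.Agent.S1081
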