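import Cfsg.Statements.S1094
import Cfsg.Agent.Lib.Lie.Chev.CoxAll
-- import your own Cfsg.Agent.* helpers here

set_option autoImplicit false
open Cfsg
open CfsgLib.Lie.Chev

namespace Cfsg.Agent.S1094

/-- The Coxeter element `s₁ s₂ ⋯ s_l` of the Coxeter group of type B₂, G₂, D₄, F₄, E₆, E₇, E₈ has order `h = 2N/l` = 4, 6, 6, 12, 12, 18, 30. -/
theorem result (p : (Σ n : ℕ, CoxeterMatrix (Fin n)) × ℕ)
    (hp : p ∈ [(⟨2, CoxeterMatrix.B 2⟩, 4), (⟨2, CoxeterMatrix.G₂⟩, 6), (⟨4, Cfsg.Lie.coxeterD4⟩, 6), (⟨4, CoxeterMatrix.F₄⟩, 12),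
      (⟨6, CoxeterMatrix.E₆⟩, 12), (⟨7, CoxeterMatrix.E₇⟩, 18), (⟨8, CoxeterMatrix.E₈⟩, 30)]) :
    orderOf ((List.finRange p.1.1).map p.1.2.simple).prod = p.2 := by
  simp only [List.mem_cons, List.not_mem_nil, or_false] at hp
  rcases hp with rfl | rfl | rfl | rfl | rfl | rfl | rfl
  · obtain ⟨ψ, hψ⟩ := exists_equivB2 goodB2
    rw [← orderOf_injective ψ.toMonoidHom ψ.injective, ← Subgroup.orderOf_coe]
    exact (congrArg orderOf (goodB2.coxeter_prod _ rankB2 ψ hψ)).trans (orderCoxB2 goodB2)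
  · obtain ⟨ψ, hψ⟩ := exists_equivG2 goodG2
    rw [← orderOf_injective ψ.toMonoidHom ψ.injective, ← Subgroup.orderOf_coe]
    exact (congrArg orderOf (goodG2.coxeter_prod _ rankG2 ψ hψ)).trans (orderCoxG2 goodG2)
  · obtain ⟨ψ, hψ⟩ := exists_equivD4 goodD4
    rw [← orderOf_injective ψ.toMonoidHom ψ.injective, ← Subgroup.orderOf_coe]
    exact (congrArg orderOf (goodD4.coxeter_prod _ rankD4 ψ hψ)).trans (orderCoxD4 goodD4)
  · obtain ⟨ψ, hψ⟩ := exists_equivF4 goodF4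
    rw [← orderOf_injective ψ.toMonoidHom ψ.injective, ← Subgroup.orderOf_coe]
    exact (congrArg orderOf (goodF4.coxeter_prod _ rankF4 ψ hψ)).trans (orderCoxF4 goodF4)
  · obtain ⟨ψ, hψ⟩ := exists_equivE6 goodE6
    rw [← orderOf_injective ψ.toMonoidHom ψ.injective, ← Subgroup.orderOf_coe]
    exact (congrArg orderOf (goodE6.coxeter_prod _ rankE6 ψ hψ)).trans (orderCoxE6 goodE6)
  · obtain ⟨ψ, hψ⟩ := exists_equivE7 goodE7
    rw [← orderOf_injective ψ.toMonoidHom ψ.injective, ← Subgroup.orderOf_coe]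
    exact (congrArg orderOf (goodE7.coxeter_prod _ rankE7 ψ hψ)).trans (orderCoxE7 goodE7)
  · obtain ⟨ψ, hψ⟩ := exists_equivE8 goodE8
    rw [← orderOf_injective ψ.toMonoidHom ψ.injective, ← Subgroup.orderOf_coe]
    exact (congrArg orderOf (goodE8.coxeter_prod _ rankE8 ψ hψ)).trans (orderCoxE8 goodE8)

end Cfsg.Agent.S1094
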