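import Cfsg.Statements.S1095
import Cfsg.Agent.Lib.Lie.Chev.All

set_option autoImplicit false
open Cfsg
open CfsgLib.Lie.Chev

namespace Cfsg.Agent.S1095

/-- `n_p` (p = p_{i+1} fundamental) is the signed monomial matrix `h_{p_j} ↦ h_{p_j} - A_{p_j,p} h_p`, `e_s ↦ η_s e_{w_p(s)}`, with `η_s = ±1`, `η_p = η_{-p} = -1`, `η_s η_{w_p(s)} = (-1)^{A_{p,s}}`, `η_s η_{-s} = 1`. -/
theorem result {F : Type*} [Field F] (D : Cfsg.Lie.ChevalleyDatum) (hD : D ∈ [Cfsg.Lie.chevG2, Cfsg.Lie.chevB2, Cfsg.Lie.chevD4, Cfsg.Lie.chevF4, Cfsg.Lie.chevE6, Cfsg.Lie.chevE7, Cfsg.Lie.chevE8]) (i : ℕ) (hi : i < D.rank) :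
    ∃ η : ℕ → ℤ, (∀ s < D.nroots, η s = 1 ∨ η s = -1) ∧ η (D.simple i) = -1 ∧ η (D.neg (D.simple i)) = -1 ∧
      (∀ s < D.nroots, η s * η (D.reflectRoot i s) = (-1) ^ (D.cartan i s).natAbs ∧ η s * η (D.neg s) = 1) ∧
      D.nMat F (D.simple i) 1 = Matrix.of (fun (row col : D.Idx) =>
        Sum.elim
          (fun j' : Fin D.rank => Sum.elim
            (fun j : Fin D.rank => (if j' = j then (1 : F) else 0) - (if (j' : ℕ) = i then ((D.cartan j (D.simple i) : ℤ) : F) else 0))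
            (fun _ => (0 : F)) col)
          (fun s' : Fin D.nroots => Sum.elim
            (fun _ => (0 : F))
            (fun s : Fin D.nroots => if (s' : ℕ) = D.reflectRoot i s then ((η s : ℤ) : F) else 0) col)
          row) := by
  have G := goodOf hD
  obtain ⟨i, rfl⟩ : ∃ i' : Fin D.rank, i'.val = i := ⟨⟨i, hi⟩, rfl⟩
  refine ⟨fun s => if hs : s < D.nroots then G.eta i ⟨s, hs⟩ else 1, ?_, ?_, ?_, ?_, ?_⟩
  · intro s hs; simp only [dif_pos hs]; exact G.eta_unit i _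
  · simp only [← G.simp_val, dif_pos (G.simp' i).isLt]; exact G.eta_simp i
  · simp only [← G.simp_val, G.neg_val, dif_pos (G.negr (G.simp' i)).isLt]
    have h := G.eta_negr i (G.simp' i)
    rw [G.eta_simp] at h
    rcases G.eta_unit i (G.negr (G.simp' i)) with e | e <;> simp_all
  · intro s hs
    obtain ⟨s, rfl⟩ : ∃ s' : Fin D.nroots, s'.val = s := ⟨⟨s, hs⟩, rfl⟩
    simp only [G.reflect_eq, G.neg_val, dif_pos s.isLt, dif_pos (G.w i s).isLt,
      dif_pos (G.negr s).isLt]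
    exact ⟨G.eta_w i s, G.eta_negr i s⟩
  · rw [G.nMat_simple, G.coe_nU]
    ext row col
    rcases row with a | a <;> rcases col with b | b
    · have e : D.cartan b.val (D.simple i.val) = cart D b (G.simp' i) := by rw [← G.simp_val]; rfl
      simp [Good.nZ, nmat, e, Fin.ext_iff, apply_ite (Int.cast : ℤ → F)]
    · simp [Good.nZ, nmat]
    · simp [Good.nZ, nmat]
    · simp [Good.nZ, nmat, G.reflect_eq, Fin.ext_iff, apply_ite (Int.cast : ℤ → F)]

end Cfsg.Agent.S1095
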