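import Cfsg.Statements.S1097
import Cfsg.Agent.Lib.Lie.Chev.CoverTorus
-- import your own Cfsg.Agent.* helpers here

set_option autoImplicit false
open Cfsg
open CfsgLib.Lie.Chev

namespace Cfsg.Agent.S1097

/-- Any homomorphism from the presented group to the Chevalley group with `x̄_r(t) ↦ x_r(t)` has kernel contained in `H̄ = ⟨h̄_p(t) : p fundamental, t ≠ 0⟩`. -/
theorem result {K : Type*} [Field K] (D : Cfsg.Lie.ChevalleyDatum) (hD : D ∈ [Cfsg.Lie.chevG2, Cfsg.Lie.chevB2, Cfsg.Lie.chevD4, Cfsg.Lie.chevF4, Cfsg.Lie.chevE6, Cfsg.Lie.chevE7, Cfsg.Lie.chevE8]) (θ : D.SteinbergGroup K →* ↥(D.group K))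
    (hθ : ∀ (r : ℕ) (t : K), r < D.nroots → ((θ (D.stGen K r t) : GL D.Idx K) : Matrix D.Idx D.Idx K) = D.x K r t) :
    θ.ker ≤ Subgroup.closure {h | ∃ (i : ℕ) (t : K), i < D.rank ∧ t ≠ 0 ∧ h = PresentedGroup.mk (D.steinbergRels K) (D.stH (D.simple i) t)} := by
  have C := fullOf hD
  have hval : (Subgroup.subtype (D.group K)).comp θ = C.thetaSt := by
    refine PresentedGroup.ext fun p => ?_
    obtain ⟨r, t⟩ := p
    have e : D.stGen K r.val t = PresentedGroup.of (r, t) := by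
      rw [Cfsg.Lie.ChevalleyDatum.stGen, Cfsg.Lie.ChevalleyDatum.stX, dif_pos r.isLt]; rfl
    apply Units.ext
    rw [← e, C.thetaSt_stGen]
    exact (hθ r.val t r.isLt).trans (C.G.x_eq_xu r t)
  intro g hg
  obtain ⟨x, rfl⟩ := C.toSt_surjective g
  rw [MonoidHom.mem_ker] at hg
  have h1 : C.theta x = 1 := by
    rw [← C.thetaSt_toSt, ← hval, MonoidHom.comp_apply, hg, map_one]
  have hx := C.ker_le_Hc (hasPair_tab hD C) (MonoidHom.mem_ker.2 h1)
  have hle : C.G.Hc (K := K) ≤ (Subgroup.closure {h | ∃ (i : ℕ) (t : K), i < D.rank ∧ t ≠ 0 ∧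
      h = PresentedGroup.mk (D.steinbergRels K) (D.stH (D.simple i) t)}).comap C.toSt := by
    rw [Good.Hc, Subgroup.closure_le]
    rintro _ ⟨i, t, ht, rfl⟩
    exact Subgroup.subset_closure ⟨i.val, t, i.isLt, ht, C.toSt_hc i t⟩
  exact hle hx


end Cfsg.Agent.S1097
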