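import Cfsg.Statements.S1098
import Cfsg.Agent.Lib.Lie.Chev.Tw.Aut
import Cfsg.Agent.Lib.Lie.Chev.Tw.DataB2
import Cfsg.Agent.Lib.Lie.Chev.Tw.DataF4
-- import your own Cfsg.Agent.* helpers here

set_option autoImplicit false
open Cfsg
open CfsgLib.Lie.Chev

namespace Cfsg.Agent.S1098

/-- Graph automorphisms in characteristic 2 (K perfect): for B₂ (a short, b long) `x_a(t) ↦ x_b(t²)`, `x_b(t) ↦ x_a(t)`, and for F₄ (p₁, p₂ short, p₃, p₄ long) `x_{p₁}(t) ↦ x_{p₄}(t²)`, `x_{p₂}(t) ↦ x_{p₃}(t²)`, `x_{p₃}(t) ↦ x_{p₂}(t)`, `x_{p₄}(t) ↦ x_{p₁}(t)`, likewise on the negatives, extend to an automorphism of the group. -/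
theorem result {K : Type*} [Field K] [CharP K 2] (hperf : ∀ x : K, ∃ y : K, y ^ 2 = x)
    (p : Cfsg.Lie.ChevalleyDatum × List (ℕ × ℕ))
    (hp : p ∈ [(Cfsg.Lie.chevB2, [(1, 2), (0, 1)]), (Cfsg.Lie.chevF4, [(3, 2), (2, 2), (1, 1), (0, 1)])]) :
    ∃ α : ↥(p.1.group K) ≃* ↥(p.1.group K), ∀ (g : ↥(p.1.group K)) (i : ℕ) (t : K), i < p.1.rank →
      (((g : GL p.1.Idx K) : Matrix p.1.Idx p.1.Idx K) = p.1.x K (p.1.simple i) t →
        ((α g : GL p.1.Idx K) : Matrix p.1.Idx p.1.Idx K) = p.1.x K (p.1.simple (p.2.getD i (0, 1)).1) (t ^ (p.2.getD i (0, 1)).2)) ∧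
      (((g : GL p.1.Idx K) : Matrix p.1.Idx p.1.Idx K) = p.1.x K (p.1.neg (p.1.simple i)) t →
        ((α g : GL p.1.Idx K) : Matrix p.1.Idx p.1.Idx K) = p.1.x K (p.1.neg (p.1.simple (p.2.getD i (0, 1)).1)) (t ^ (p.2.getD i (0, 1)).2)) := by
  simp only [List.mem_cons, List.not_mem_nil, or_false] at hp
  rcases hp with rfl | rfl
  · let C : Full Cfsg.Lie.chevB2 := ⟨goodB2, fastB2, rowsOK chkRows_B2, chkComm_B2⟩
    have h : Emb C.G fastB2 graphB2 := emb_graphB2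
    obtain ⟨α, hα⟩ := h.exists_aut_of_witness (K := K) 2 rfl connectedB2 (fun L _ ha => inDerB2 _ ha)
      (h.proot_surjective (by decide +kernel)) ⟨0, by decide +kernel⟩ (Sum.inr ⟨0, by decide +kernel⟩)
      (Sum.inr ⟨7, by decide +kernel⟩) (by decide +kernel) (by decide +kernel) hperf
    have hd : ∀ i : Fin Cfsg.Lie.chevB2.rank,
        (graphB2.eps.get (Cfsg.Lie.chevB2.simple i.val) = false ∧
          graphB2.p.get (Cfsg.Lie.chevB2.simple i.val) =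
            Cfsg.Lie.chevB2.simple (([(1, 2), (0, 1)] : List (ℕ × ℕ)).getD i.val (0, 1)).1 ∧
          graphB2.lam.get (Cfsg.Lie.chevB2.simple i.val) = (([(1, 2), (0, 1)] : List (ℕ × ℕ)).getD i.val (0, 1)).2) ∧
        (graphB2.eps.get (Cfsg.Lie.chevB2.neg (Cfsg.Lie.chevB2.simple i.val)) = false ∧
          graphB2.p.get (Cfsg.Lie.chevB2.neg (Cfsg.Lie.chevB2.simple i.val)) =
            Cfsg.Lie.chevB2.neg (Cfsg.Lie.chevB2.simple (([(1, 2), (0, 1)] : List (ℕ × ℕ)).getD i.val (0, 1)).1) ∧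
          graphB2.lam.get (Cfsg.Lie.chevB2.neg (Cfsg.Lie.chevB2.simple i.val)) =
            (([(1, 2), (0, 1)] : List (ℕ × ℕ)).getD i.val (0, 1)).2) := by decide +kernel
    have hn : ∀ i : Fin Cfsg.Lie.chevB2.rank, Cfsg.Lie.chevB2.simple i.val < Cfsg.Lie.chevB2.nroots ∧
        Cfsg.Lie.chevB2.neg (Cfsg.Lie.chevB2.simple i.val) < Cfsg.Lie.chevB2.nroots := by decide +kernel
    exact ⟨α, fun g i t hi => ⟨fun hg => h.aut_x hα (hn ⟨i, hi⟩).1 hg (hd ⟨i, hi⟩).1,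
      fun hg => h.aut_x hα (hn ⟨i, hi⟩).2 hg (hd ⟨i, hi⟩).2⟩⟩
  · let C : Full Cfsg.Lie.chevF4 := ⟨goodF4, fastF4, rowsOK chkRows_F4, chkComm_F4⟩
    have h : Emb C.G fastF4 graphF4 := emb_graphF4
    obtain ⟨α, hα⟩ := h.exists_aut_of_witness (K := K) 2 rfl connectedF4 (fun L _ _ => inDerF4 _)
      (h.proot_surjective (by decide +kernel)) ⟨0, by decide +kernel⟩ (Sum.inr ⟨1, by decide +kernel⟩)
      (Sum.inr ⟨24, by decide +kernel⟩) (by decide +kernel) (by decide +kernel) hperf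
    have hd : ∀ i : Fin Cfsg.Lie.chevF4.rank,
        (graphF4.eps.get (Cfsg.Lie.chevF4.simple i.val) = false ∧
          graphF4.p.get (Cfsg.Lie.chevF4.simple i.val) =
            Cfsg.Lie.chevF4.simple (([(3, 2), (2, 2), (1, 1), (0, 1)] : List (ℕ × ℕ)).getD i.val (0, 1)).1 ∧
          graphF4.lam.get (Cfsg.Lie.chevF4.simple i.val) = (([(3, 2), (2, 2), (1, 1), (0, 1)] : List (ℕ × ℕ)).getD i.val (0, 1)).2) ∧
        (graphF4.eps.get (Cfsg.Lie.chevF4.neg (Cfsg.Lie.chevF4.simple i.val)) = false ∧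
          graphF4.p.get (Cfsg.Lie.chevF4.neg (Cfsg.Lie.chevF4.simple i.val)) =
            Cfsg.Lie.chevF4.neg (Cfsg.Lie.chevF4.simple (([(3, 2), (2, 2), (1, 1), (0, 1)] : List (ℕ × ℕ)).getD i.val (0, 1)).1) ∧
          graphF4.lam.get (Cfsg.Lie.chevF4.neg (Cfsg.Lie.chevF4.simple i.val)) =
            (([(3, 2), (2, 2), (1, 1), (0, 1)] : List (ℕ × ℕ)).getD i.val (0, 1)).2) := by decide +kernel
    have hn : ∀ i : Fin Cfsg.Lie.chevF4.rank, Cfsg.Lie.chevF4.simple i.val < Cfsg.Lie.chevF4.nroots ∧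
        Cfsg.Lie.chevF4.neg (Cfsg.Lie.chevF4.simple i.val) < Cfsg.Lie.chevF4.nroots := by decide +kernel
    exact ⟨α, fun g i t hi => ⟨fun hg => h.aut_x hα (hn ⟨i, hi⟩).1 hg (hd ⟨i, hi⟩).1,
      fun hg => h.aut_x hα (hn ⟨i, hi⟩).2 hg (hd ⟨i, hi⟩).2⟩⟩

end Cfsg.Agent.S1098
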