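import Cfsg.Statements.S1099
import Cfsg.Agent.Lib.Lie.Chev.Tw.Aut
import Cfsg.Agent.Lib.Lie.Chev.Tw.DataG2
-- import your own Cfsg.Agent.* helpers here

set_option autoImplicit false
open Cfsg
open CfsgLib.Lie.Chev

namespace Cfsg.Agent.S1099

/-- Graph automorphism of G₂ in characteristic 3 (K perfect): `x_a(t) ↦ x_b(t³)`, `x_b(t) ↦ x_a(t)`, `x_{-a}(t) ↦ x_{-b}(t³)`, `x_{-b}(t) ↦ x_{-a}(t)` extend to an automorphism of the group. -/
theorem result {K : Type*} [Field K] [CharP K 3] (hperf : ∀ x : K, ∃ y : K, y ^ 3 = x) :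
    ∃ α : ↥(Cfsg.Lie.chevG2.group K) ≃* ↥(Cfsg.Lie.chevG2.group K), ∀ (g : ↥(Cfsg.Lie.chevG2.group K)) (t : K),
      (((g : GL Cfsg.Lie.chevG2.Idx K) : Matrix _ _ K) = Cfsg.Lie.chevG2.x K Cfsg.Lie.g2a t →
        ((α g : GL Cfsg.Lie.chevG2.Idx K) : Matrix _ _ K) = Cfsg.Lie.chevG2.x K Cfsg.Lie.g2b (t ^ 3)) ∧
      (((g : GL Cfsg.Lie.chevG2.Idx K) : Matrix _ _ K) = Cfsg.Lie.chevG2.x K Cfsg.Lie.g2b t →
        ((α g : GL Cfsg.Lie.chevG2.Idx K) : Matrix _ _ K) = Cfsg.Lie.chevG2.x K Cfsg.Lie.g2a t) ∧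
      (((g : GL Cfsg.Lie.chevG2.Idx K) : Matrix _ _ K) = Cfsg.Lie.chevG2.x K Cfsg.Lie.g2ma t →
        ((α g : GL Cfsg.Lie.chevG2.Idx K) : Matrix _ _ K) = Cfsg.Lie.chevG2.x K Cfsg.Lie.g2mb (t ^ 3)) ∧
      (((g : GL Cfsg.Lie.chevG2.Idx K) : Matrix _ _ K) = Cfsg.Lie.chevG2.x K Cfsg.Lie.g2mb t →
        ((α g : GL Cfsg.Lie.chevG2.Idx K) : Matrix _ _ K) = Cfsg.Lie.chevG2.x K Cfsg.Lie.g2ma t) := by
  let C : Full Cfsg.Lie.chevG2 := ⟨goodG2, fastG2, rowsOK chkRows_G2, chkComm_G2⟩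
  have h : Emb C.G fastG2 graphG2 := emb_graphG2
  obtain ⟨α, hα⟩ := h.exists_aut_of_witness (K := K) 3 rfl connectedG2 (fun L _ ha => inDerG2 _ ha)
    (h.proot_surjective (by decide +kernel)) ⟨0, by decide +kernel⟩ (Sum.inr ⟨1, by decide +kernel⟩)
    (Sum.inr ⟨6, by decide +kernel⟩) (by decide +kernel) (by decide +kernel) hperf
  refine ⟨α, fun g t => ⟨fun hg => ?_, fun hg => ?_, fun hg => ?_, fun hg => ?_⟩⟩
  · exact h.aut_x hα (by decide +kernel) hg ⟨by decide +kernel, by decide +kernel, by decide +kernel⟩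
  · exact (h.aut_x hα (by decide +kernel) hg (s := Cfsg.Lie.g2a) (e := 1)
      ⟨by decide +kernel, by decide +kernel, by decide +kernel⟩).trans (by rw [pow_one])
  · exact h.aut_x hα (by decide +kernel) hg ⟨by decide +kernel, by decide +kernel, by decide +kernel⟩
  · exact (h.aut_x hα (by decide +kernel) hg (s := Cfsg.Lie.g2ma) (e := 1)
      ⟨by decide +kernel, by decide +kernel, by decide +kernel⟩).trans (by rw [pow_one])

end Cfsg.Agent.S1099
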