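import Cfsg.Statements.S1100
import Cfsg.Agent.Lib.Lie.Chev.FullAll
import Cfsg.Agent.Lib.Lie.Chev.Bruhat

set_option autoImplicit false
open Cfsg
open CfsgLib.Lie.Chev

namespace Cfsg.Agent.S1100

/-- Canonical form `g = b n_w u` (`b ∈ B`, `u ∈ U_w⁻ = ⟨X_r : r > 0, n_w X_r n_w⁻¹ ≤ V⟩`): such a decomposition exists for every element of the group; the coset `n_w H` is determined by `g`; and for a fixed representative `n_w` the factors `b`, `u` are unique. -/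
theorem result {F : Type*} [Field F] (D : Cfsg.Lie.ChevalleyDatum) (hD : D ∈ [Cfsg.Lie.chevG2, Cfsg.Lie.chevB2, Cfsg.Lie.chevD4, Cfsg.Lie.chevF4, Cfsg.Lie.chevE6, Cfsg.Lie.chevE7, Cfsg.Lie.chevE8]) :
    (∀ g ∈ D.group F, ∃ b ∈ D.borelSubgroup F, ∃ n ∈ D.monomialSubgroup F,
      ∃ u ∈ Subgroup.closure {x : GL D.Idx F | ∃ (r : ℕ) (t : F), D.IsPosRoot r ∧
            (D.rootSubgroup F r).map (MulAut.conj n).toMonoidHom ≤ D.negUnipotent F ∧ (x : Matrix D.Idx D.Idx F) = D.x F r t},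
        g = b * n * u) ∧
    (∀ (b b' n n' u u' : GL D.Idx F), b ∈ D.borelSubgroup F → b' ∈ D.borelSubgroup F →
      n ∈ D.monomialSubgroup F → n' ∈ D.monomialSubgroup F →
      u ∈ Subgroup.closure {x : GL D.Idx F | ∃ (r : ℕ) (t : F), D.IsPosRoot r ∧
            (D.rootSubgroup F r).map (MulAut.conj n).toMonoidHom ≤ D.negUnipotent F ∧ (x : Matrix D.Idx D.Idx F) = D.x F r t} →
      u' ∈ Subgroup.closure {x : GL D.Idx F | ∃ (r : ℕ) (t : F), D.IsPosRoot r ∧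
            (D.rootSubgroup F r).map (MulAut.conj n').toMonoidHom ≤ D.negUnipotent F ∧ (x : Matrix D.Idx D.Idx F) = D.x F r t} →
      b * n * u = b' * n' * u' → n⁻¹ * n' ∈ D.diagonalSubgroup F ∧ (n = n' → b = b' ∧ u = u')) := by
  have C := fullOf hD
  have hset : ∀ {n : GL D.Idx F} {π : Equiv.Perm (Fin D.nroots)}, C.G.NPerm n π →
      Subgroup.closure {x : GL D.Idx F | ∃ (r : ℕ) (t : F), D.IsPosRoot r ∧
        (D.rootSubgroup F r).map (MulAut.conj n).toMonoidHom ≤ D.negUnipotent F ∧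
          (x : Matrix D.Idx D.Idx F) = D.x F r t} = Uinv C.G π := by
    intro n π hn
    have key : ∀ r : Fin D.nroots,
        (D.rootSubgroup F r.val).map (MulAut.conj n).toMonoidHom ≤ D.negUnipotent F ↔
          ¬ D.IsPosRoot (π r).val := by
      intro r
      obtain ⟨c, hc⟩ := hn r
      constructor
      · intro h hpos
        have h1 : n * C.G.xu r 1 * n⁻¹ ∈ D.negUnipotent F :=
          h ⟨C.G.xu r 1, Subgroup.subset_closure ⟨1, (C.G.x_eq_xu r 1).symm⟩, rfl⟩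
        rw [hc] at h1
        have h2 : C.G.xu (π r) ((c : F) * 1) = 1 := Subgroup.mem_bot.1
          (C.G.U_inf_V_eq (K := F) ▸ Subgroup.mem_inf.2 ⟨C.G.xu_mem_U hpos _, h1⟩)
        rw [C.G.xu_eq_one_iff] at h2
        exact c.ne_zero (by simpa using h2)
      · intro h
        rw [Lie.ChevalleyDatum.rootSubgroup, MonoidHom.map_closure, Subgroup.closure_le]
        rintro x ⟨y, ⟨t, ht⟩, rfl⟩
        rw [show y = C.G.xu r t from Units.ext (ht.trans (C.G.x_eq_xu r t))]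
        simp only [MulEquiv.coe_toMonoidHom, MulAut.conj_apply, SetLike.mem_coe]
        rw [hc]
        exact C.G.xu_mem_V ((C.G.isNegRoot_iff_not_pos _).2 h) _
    rw [Uinv]
    congr 1
    ext x
    constructor
    · rintro ⟨r, t, hr, h, hx⟩
      exact ⟨⟨r, hr.1⟩, t, ⟨hr, (key ⟨r, hr.1⟩).1 h⟩, Units.ext (hx.trans (C.G.x_eq_xu ⟨r, hr.1⟩ t))⟩
    · rintro ⟨r, t, ⟨hr, h⟩, rfl⟩
      exact ⟨r.val, t, hr, (key r).2 h, (C.G.x_eq_xu r t).symm⟩
  refine ⟨fun g hg => ?_, fun b b' n n' u u' hb hb' hn hn' hu hu' h => ?_⟩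
  · obtain ⟨b, hb, n, hn, π, hπ, u, hu, e⟩ := C.refined_exists hg
    exact ⟨b, hb, n, hn, u, by rw [hset hπ]; exact hu, e⟩
  · obtain ⟨l, hl⟩ := C.G.exists_nPerm hn
    obtain ⟨l', hl'⟩ := C.G.exists_nPerm hn'
    rw [hset hl] at hu
    rw [hset hl'] at hu'
    refine ⟨C.eqv_mem_H hn hn' hb hb' (Subgroup.mem_sup_left (C.G.Uinv_le _ hu))
      (Subgroup.mem_sup_left (C.G.Uinv_le _ hu')) h, fun e => ?_⟩
    subst e
    exact C.refined_unique hb hb' hl hu (Good.NPerm.unique C.G hl' hl ▸ hu') h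

end Cfsg.Agent.S1100
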