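import Cfsg.Statements.S1118
import Cfsg.Agent.Lib.RootSub.Setup


set_option autoImplicit false
open Cfsg

namespace Cfsg.Agent.S1118

open CfsgLib.RootSub MulAction

/-- In the rank-one set-up (`G` finite and doubly transitive on `Ω`, `t` an involution moving `a`, `Q` normal in `G_a` with `G_a = Q D`, `Q ⊓ D = 1` for the two-point stabiliser `D = G_a ⊓ G_{t • a}`, `|Q|` even, `|D|` odd), the normaliser of a subset of `Q` containing a non-identity element lies in `G_a`; consequently `N_G(Q) = N_G(G_a) = G_a`. -/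
theorem result {G Ω : Type*} [Group G] [Finite G] [MulAction G Ω] {a : Ω} {t : G} {Q : Subgroup G}
    (hS : Cfsg.IsRankOneSetup G Ω a t Q) :
    (∀ X : Set G, X ⊆ (Q : Set G) → (∃ x ∈ X, x ≠ 1) → Subgroup.normalizer X ≤ MulAction.stabilizer G a) ∧
      Subgroup.normalizer (Q : Set G) = MulAction.stabilizer G a ∧
      Subgroup.normalizer (MulAction.stabilizer G a : Set G) = MulAction.stabilizer G a := by
  obtain ⟨x0, hx0⟩ : ∃ x : G, x ∈ Q ∧ x ≠ 1 := by
    by_contra h
    push Not at h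
    have := hS.even_card
    rw [(Subgroup.eq_bot_iff_forall Q).2 h, Subgroup.card_bot] at this
    exact absurd this (by decide)
  refine ⟨?_, le_antisymm ?_ ?_, le_antisymm ?_ Subgroup.le_normalizer⟩
  · rintro X hX ⟨x, hxX, hx1⟩ n hn
    have h1 : n * x * n⁻¹ ∈ Q := hX ((Subgroup.mem_set_normalizer_iff.1 hn x).1 hxX)
    refine mem_stabilizer_iff.2 (Setup.eq_a_of_fix hS h1 (fun e => hx1 (conj_eq_one_iff.1 e)) ?_)
    rw [mul_smul, mul_smul, inv_smul_smul, Setup.fix_a hS (hX hxX)]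
  · intro n hn
    have h1 : n * x0 * n⁻¹ ∈ Q := (Subgroup.mem_normalizer_iff.1 hn x0).1 hx0.1
    refine mem_stabilizer_iff.2 (Setup.eq_a_of_fix hS h1 (fun e => hx0.2 (conj_eq_one_iff.1 e)) ?_)
    rw [mul_smul, mul_smul, inv_smul_smul, Setup.fix_a hS hx0.1]
  · exact fun h hh => Subgroup.mem_normalizer_iff.2 fun x => ⟨hS.conj_mem h hh x, fun hx => by
      simpa [mul_assoc] using hS.conj_mem h⁻¹ (inv_mem hh) _ hx⟩
  · intro n hn
    refine mem_stabilizer_iff.2 (Setup.eq_a_of_fix hS hx0.1 hx0.2 ?_)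
    have h1 : n⁻¹ * x0 * n ∈ stabilizer G a := by
      have h2 := (Subgroup.mem_normalizer_iff.1 (inv_mem hn) x0).1 (hS.le hx0.1)
      rwa [inv_inv] at h2
    conv_rhs => rw [← mem_stabilizer_iff.1 h1]
    rw [mul_smul, mul_smul, smul_inv_smul]

end Cfsg.Agent.S1118
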