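import Cfsg.Statements.S1126
import Cfsg.Agent.Lib.RootSub.Setup2
import Cfsg.Agent.Lib.Coprime.Core
import Cfsg.Agent.Lib.Coprime.Action


set_option autoImplicit false
open Cfsg

namespace Cfsg.Agent.S1126

open CfsgLib.RootSub MulAction

/-- In the rank-one set-up (`G` finite and doubly transitive on `Ω`, `t` an involution moving `a`, `Q` normal in `G_a` with `G_a = Q D`, `Q ⊓ D = 1` for the two-point stabiliser `D = G_a ⊓ G_{t • a}`, `|Q|` even, `|D|` odd), a subset `X ⊆ D` fixing at least three points of `Ω` is conjugate by an element of `D` into `V = C_D(t)`. -/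
theorem result {G Ω : Type*} [Group G] [Finite G] [MulAction G Ω] {a : Ω} {t : G} {Q : Subgroup G}
    (hS : Cfsg.IsRankOneSetup G Ω a t Q)
    (X : Set G) (hX : X ⊆ ((MulAction.stabilizer G a ⊓ MulAction.stabilizer G (t • a)) : Set G))
    (h3 : ∃ b c d : Ω, b ≠ c ∧ b ≠ d ∧ c ≠ d ∧ ∀ x ∈ X, x • b = b ∧ x • c = c ∧ x • d = d) :
    ∃ k ∈ (MulAction.stabilizer G a ⊓ MulAction.stabilizer G (t • a)), ∀ x ∈ X, (k * x * k⁻¹) * t = t * (k * x * k⁻¹) := by
  obtain ⟨u, hu, hu2, hua, hub⟩ := Setup.exists_swap hS hX h3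
  have hd : u * t ∈ stabilizer G a ⊓ stabilizer G (t • a) := Subgroup.mem_inf.2
    ⟨mem_stabilizer_iff.2 (by rw [mul_smul, hub]), mem_stabilizer_iff.2 (by rw [mul_smul, Setup.t_t hS, hua])⟩
  have hJ : u * t ∈ Cfsg.invertedBy (stabilizer G a ⊓ stabilizer G (t • a)) t := by
    refine ⟨hd, ?_⟩
    rw [mul_assoc, mul_assoc u t, mul_inv_cancel, mul_one, mul_inv_rev, Setup.t_inv hS,
      inv_eq_of_mul_eq_one_right hu2]
  obtain ⟨k, hk, hkk⟩ := Setup.exists_sqrt hS hJ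
  refine ⟨k⁻¹, inv_mem hk.1, fun x hx => ?_⟩
  have h1 : t * k * t = k⁻¹ := Setup.inverted_conj hS hk
  have htk : k * t = t * k⁻¹ := by
    rw [← h1, show t * (t * k * t) = (t * t) * (k * t) by group, hS.mul_self, one_mul]
  have hu' : u = k * k * t := by rw [hkk, mul_assoc, hS.mul_self, mul_one]
  have hut : k⁻¹ * u * k = t := by
    rw [hu', show k⁻¹ * (k * k * t) * k = (k * t) * k by group, htk]
    group
  calc k⁻¹ * x * k⁻¹⁻¹ * t = k⁻¹ * x * k * (k⁻¹ * u * k) := by rw [hut, inv_inv]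
    _ = k⁻¹ * (x * u) * k := by group
    _ = k⁻¹ * (u * x) * k := by rw [Subgroup.mem_centralizer_iff.1 hu x hx]
    _ = k⁻¹ * u * k * (k⁻¹ * x * k⁻¹⁻¹) := by group
    _ = t * (k⁻¹ * x * k⁻¹⁻¹) := by rw [hut]

end Cfsg.Agent.S1126
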