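import Cfsg.Statements.S1147
-- import your own Cfsg.Agent.* helpers here
import Cfsg.Agent.Lib.Char.SuzukiZassenhaus.Main
import Cfsg.Agent.S1139

set_option autoImplicit false
open Cfsg

namespace Cfsg.Agent.S1147


/-- Let a finite simple Zassenhaus group `G` on `Ω` have a normal subgroup `U` of `G_a`, regular on `Ω` minus `a`, which is a non-abelian 2-group. Then `|Ω| = 2^(2n) + 1` with `n` odd, `n > 1`, a two-point stabiliser `G_a ⊓ G_b` is cyclic of order `2^n - 1`, and `U` is isomorphic to the type-A group over a field with `2^n` elements for some field automorphism `φ`. -/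
theorem result {G Ω : Type*} [Group G] [Finite G] [MulAction G Ω] [Finite Ω]
    (hZ : Cfsg.IsZassenhausGroup G Ω) [IsSimpleGroup G] {a b : Ω} (hab : a ≠ b)
    (U : Subgroup G) (hUle : U ≤ MulAction.stabilizer G a)
    (hUn : ∀ h ∈ MulAction.stabilizer G a, ∀ u ∈ U, h * u * h⁻¹ ∈ U)
    (hreg : ∀ c d : Ω, c ≠ a → d ≠ a → ∃! u : U, (u : G) • c = d)
    (hU2 : IsPGroup 2 U) (hUna : ∃ u ∈ U, ∃ v ∈ U, u * v ≠ v * u) :
    ∃ n : ℕ, Odd n ∧ 1 < n ∧ Nat.card Ω = 2 ^ (2 * n) + 1 ∧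
      IsCyclic ↥(MulAction.stabilizer G a ⊓ MulAction.stabilizer G b) ∧
      Nat.card ↥(MulAction.stabilizer G a ⊓ MulAction.stabilizer G b) = 2 ^ n - 1 ∧
      ∃ (F : Type) (_ : Field F) (_ : Fintype F) (φ : F ≃+* F), Fintype.card F = 2 ^ n ∧
        Nonempty (U ≃* Cfsg.suzukiTypeA F (φ : F →+* F)) := by
  classical
  haveI : Fintype Ω := Fintype.ofFinite Ω
  have hcard : Nat.card U + 1 = Fintype.card Ω := by
    have hne : ∀ u : U, (u : G) • b ≠ a := fun u e =>
      hab.symm (smul_left_cancel _ (e.trans (hUle u.2 : (u : G) • a = a).symm))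
    have hbij : Function.Bijective (fun u : U => (⟨(u : G) • b, hne u⟩ : {y : Ω // y ≠ a})) :=
      ⟨fun u v e => (hreg b ((u : G) • b) hab.symm (hne u)).unique rfl (congrArg Subtype.val e).symm,
        fun y => (hreg b y.1 hab.symm y.2).exists.imp fun u hu => Subtype.ext hu⟩
    rw [Nat.card_eq_of_bijective _ hbij, Nat.card_eq_fintype_card, Fintype.card_subtype_compl,
      Fintype.card_subtype_eq]
    have := CfsgLib.Char.zassenhaus_three_le hZ
    omega
  have hfix : ∀ u ∈ U, u ≠ 1 → ∀ c : Ω, u • c = c → c = a := by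
    intro u hu hu1 c hc
    by_contra hca
    exact hu1 (congrArg Subtype.val ((hreg c c hca hca).unique (y₁ := ⟨u, hu⟩) (y₂ := 1) hc (one_smul G c)))
  have hna : ∃ u v : U, u * v ≠ v * u := by
    obtain ⟨u, hu, v, hv, h⟩ := hUna
    exact ⟨⟨u, hu⟩, ⟨v, hv⟩, fun e => h (congrArg Subtype.val e)⟩
  rcases Nat.even_or_odd (Nat.card ↥(MulAction.stabilizer G a ⊓ MulAction.stabilizer G b : Subgroup G)) with he | ho
  · exfalso
    obtain ⟨p, f, K, _, _, hp, hp2, -, hΩ, -, -⟩ := CfsgLib.Perm.ZSimple.iso_psl hZ hab he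
    haveI : Fact (Nat.Prime 2) := ⟨Nat.prime_two⟩
    obtain ⟨k, hk⟩ := IsPGroup.iff_card.1 hU2
    obtain ⟨l, hl⟩ := (hp.odd_of_ne_two hp2).pow (n := f)
    rcases Nat.eq_zero_or_pos k with rfl | hk0
    · obtain ⟨u, v, huv⟩ := hna
      haveI := (Nat.card_eq_one_iff_unique.1 (hk.trans (pow_zero 2))).1
      exact huv (Subsingleton.elim _ _)
    · obtain ⟨j, hj⟩ := dvd_pow_self 2 hk0.ne'
      omega
  have P : CfsgLib.Char.FeitZ.Pt G a b U := ⟨hZ, hab, hUle, hcard, hfix, ho⟩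
  obtain ⟨n, S, hn, hc⟩ := CfsgLib.Char.SuzZ.exists_square_kernel P hU2 hna
  obtain ⟨F, i1, i2, φ, hF, -, -, hiso⟩ := Cfsg.Agent.S1139.result S.suz (by rw [hc, S.card_center])
  have hp : Nat.card ↥(MulAction.stabilizer G a ⊓ MulAction.stabilizer G b : Subgroup G) + 1 = 2 ^ n := S.card_pair
  refine ⟨n, hn, S.two, ?_, (CfsgLib.Perm.ZSimple.cyclic_inverted hZ hab).1, by omega, F, i1, i2, φ,
    hF.trans S.card_center, hiso⟩
  rw [Nat.card_eq_fintype_card, ← hcard, hc, ← pow_mul, mul_comm n 2]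


end Cfsg.Agent.S1147
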