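import Cfsg.Statements.S1160
import Cfsg.Agent.Lib.PGroup.NormalRankTwo
import Cfsg.Agent.Lib.Char.PGroupChar
-- import your own Cfsg.Agent.* helpers here

set_option autoImplicit false
open Cfsg


namespace Cfsg.Agent.S1160

variable {P E : Type*} [Group P] [Finite P] [AddCommGroup E] [Finite E] [DistribMulAction P E]
  [FaithfulSMul P E] {p q : ℕ} [Fact p.Prime]

theorem central_fpf (hpq : p ≠ q) (hP : IsPGroup p P) (hq : q.Prime) (hE : ∀ e : E, q • e = 0)
    (hconst : ∀ a b : E, a ≠ 0 → b ≠ 0 →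
      Nat.card (MulAction.stabilizer P a) = Nat.card (MulAction.stabilizer P b))
    {w : P} (hw : ∀ x : P, x * w = w * x) {a : E} (ha : a ≠ 0) (hwa : w • a = a) : w = 1 := by
  have hfix : ∀ u : E, w • (w • u - u) = w • u - u → w • u - u = 0 := by
    intro u h
    have hn : ∀ n : ℕ, w ^ n • u = u + n • (w • u - u) := by
      intro n
      induction n with
      | zero => simp
      | succ n ih =>
        rw [pow_succ', mul_smul, ih, smul_add, smul_comm w n (w • u - u), h, succ_nsmul']
        abel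
    obtain ⟨k, hk⟩ := hP w
    have h1 := hn (p ^ k)
    rw [hk, one_smul, eq_comm, add_eq_left] at h1
    have h2 := Nat.eq_one_of_dvd_coprimes
      (((Nat.coprime_primes (Fact.out : p.Prime) hq).2 hpq).pow_left k)
      (addOrderOf_dvd_iff_nsmul_eq_zero.2 h1) (addOrderOf_dvd_iff_nsmul_eq_zero.2 (hE _))
    exact AddMonoid.addOrderOf_eq_one_iff.1 h2
  by_contra hw1
  obtain ⟨u, hu⟩ : ∃ u : E, w • u - u ≠ 0 := by
    by_contra h
    push Not at h
    exact hw1 (eq_of_smul_eq_smul fun e => by rw [one_smul]; exact sub_eq_zero.1 (h e))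
  have hsplit : ∀ x : P, x • (a + (w • u - u)) = a + (w • u - u) →
      x • a = a ∧ x • (w • u - u) = w • u - u := by
    intro x hx
    rw [smul_add] at hx
    have h1 : w • (x • a) = x • a := by rw [← mul_smul, ← hw x, mul_smul, hwa]
    have h2 : x • a - a = w • (u - x • u) - (u - x • u) := by
      rw [smul_sub w, ← mul_smul, ← hw x, mul_smul]
      rw [show x • a = a + (w • u - u) - x • (w • u - u) from eq_sub_of_add_eq hx, smul_sub x]
      abel
    have h3 : x • a - a = 0 := by
      rw [h2]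
      apply hfix
      rw [← h2, smul_sub, h1, hwa]
    rw [sub_eq_zero] at h3
    exact ⟨h3, by rw [h3] at hx; exact add_left_cancel hx⟩
  set b := w • u - u with hb
  have hab : a + b ≠ 0 := fun h => hu (hfix u (by
    rw [← hb, show b = -a from eq_neg_of_add_eq_zero_right h, smul_neg, hwa]))
  have heq : MulAction.stabilizer P (a + b) = MulAction.stabilizer P a ⊓ MulAction.stabilizer P b := by
    ext x
    simp only [Subgroup.mem_inf, MulAction.mem_stabilizer_iff]
    exact ⟨hsplit x, fun h => by rw [smul_add, h.1, h.2]⟩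
  have h1 : MulAction.stabilizer P a ⊓ MulAction.stabilizer P b = MulAction.stabilizer P a := by
    refine Subgroup.eq_of_le_of_card_ge inf_le_left ?_
    rw [← heq, hconst _ _ hab ha]
  have h2 : w ∈ MulAction.stabilizer P b :=
    (inf_eq_left.1 h1) (MulAction.mem_stabilizer_iff.2 hwa)
  exact hu (hfix u (MulAction.mem_stabilizer_iff.1 h2))

/-- the norm of a cyclic subgroup of order dividing `p` -/
theorem norm_fixed (y : P) (hy : y ^ p = 1) (v : E) :
    y • (∑ i ∈ Finset.range p, y ^ i • v) = ∑ i ∈ Finset.range p, y ^ i • v := by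
  have h1 := Finset.sum_range_succ (fun i => y ^ i • v) p
  have h2 := Finset.sum_range_succ' (fun i => y ^ i • v) p
  rw [h1, hy, pow_zero] at h2
  rw [Finset.smul_sum]
  simp only [← mul_smul, ← pow_succ']
  exact (add_right_cancel h2).symm

theorem norm_of_fixed (y : P) (v : E) (hv : y • v = v) :
    ∑ i ∈ Finset.range p, y ^ i • v = p • v := by
  have h : ∀ i : ℕ, y ^ i • v = v := fun i => by
    induction i with
    | zero => simp
    | succ i ih => rw [pow_succ, mul_smul, hv, ih]
  simp [h]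

theorem cancel_nsmul (hpq : p ≠ q) (hq : q.Prime) (hE : ∀ e : E, q • e = 0) {v : E}
    (h : p • v = 0) : v = 0 :=
  AddMonoid.addOrderOf_eq_one_iff.1 (Nat.eq_one_of_dvd_coprimes
    ((Nat.coprime_primes (Fact.out : p.Prime) hq).2 hpq)
    (addOrderOf_dvd_iff_nsmul_eq_zero.2 h) (addOrderOf_dvd_iff_nsmul_eq_zero.2 (hE v)))

omit [AddCommGroup E] [Finite E] [DistribMulAction P E] [FaithfulSMul P E] in
theorem conj_eq_self (hP : IsPGroup p P) {y g : P} (hy : orderOf y = p)
    (h : g * y * g⁻¹ ∈ Subgroup.zpowers y) : g * y * g⁻¹ = y := by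
  obtain ⟨m, hm⟩ := Subgroup.mem_zpowers_iff.1 h
  have hn : ∀ n : ℕ, g ^ n * y * (g ^ n)⁻¹ = y ^ (m ^ n) := by
    intro n
    induction n with
    | zero => simp
    | succ n ih =>
      rw [pow_succ', show g * g ^ n * y * (g * g ^ n)⁻¹ = g * (g ^ n * y * (g ^ n)⁻¹) * g⁻¹ by group, ih,
        ← conj_zpow, ← hm, ← zpow_mul, pow_succ']
  obtain ⟨k, hk⟩ := hP g
  have h1 := hn (p ^ k)
  rw [hk, one_mul, inv_one, mul_one] at h1
  have h2 : y ^ (m ^ p ^ k) = y ^ (1 : ℤ) := by rw [← h1, zpow_one]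
  rw [zpow_eq_zpow_iff_modEq, hy, ← ZMod.intCast_eq_intCast_iff] at h2
  push_cast at h2
  rw [ZMod.pow_card_pow] at h2
  have h3 : y ^ m = y ^ (1 : ℤ) := by
    rw [zpow_eq_zpow_iff_modEq, hy, ← ZMod.intCast_eq_intCast_iff]
    exact_mod_cast h2
  rw [← hm, h3, zpow_one]


/-- Let `p ≠ 2` be prime and `P` a finite `p`-group acting faithfully by additive automorphisms on a finite elementary abelian `q`-group `E` (`q` prime), such that `|P_a|` is the same for all `a ≠ 0`. Then `P` is cyclic and every non-identity element of `P` fixes only `0`. -/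
theorem result {P E : Type*} [Group P] [Finite P]
    [AddCommGroup E] [Finite E] [DistribMulAction P E] [FaithfulSMul P E]
    {p q : ℕ} [Fact p.Prime] (hp2 : p ≠ 2) (hP : IsPGroup p P) (hq : q.Prime) (hE : ∀ e : E, q • e = 0)
    (hconst : ∀ a b : E, a ≠ 0 → b ≠ 0 →
      Nat.card (MulAction.stabilizer P a) = Nat.card (MulAction.stabilizer P b)) :
    IsCyclic P ∧ ∀ g : P, g ≠ 1 → ∀ a : E, g • a = a → a = 0 := by
  classical
  have hpp : p.Prime := Fact.out
  suffices hcyc : IsCyclic P ∧ ∀ g : P, g ≠ 1 → ∀ a : E, g • a = a → a = 0 from hcyc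
  by_cases hpq : p = q
  · subst hpq
    have hP1 : ∀ g : P, g = 1 := by
      rcases subsingleton_or_nontrivial E with h | h
      · exact fun g => eq_of_smul_eq_smul fun e : E => Subsingleton.elim _ _
      have hEp : IsPGroup p (Multiplicative E) :=
        fun x => ⟨1, by rw [pow_one]; exact hE x.toAdd⟩
      obtain ⟨n, hn⟩ := IsPGroup.iff_card.1 hEp
      have hdvd : p ∣ Nat.card E := by
        rcases Nat.eq_zero_or_pos n with h0 | h0
        · rw [h0, pow_zero] at hn
          exact absurd (Finite.one_lt_card (α := E)) (by rw [show Nat.card E = 1 from hn]; exact lt_irrefl 1)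
        · exact (show Nat.card E = p ^ n from hn) ▸ dvd_pow_self p h0.ne'
      obtain ⟨a, ha, ha0⟩ := hP.exists_fixed_point_of_prime_dvd_card_of_fixed_point E hdvd
        (a := (0 : E)) (fun g => smul_zero g)
      have htop : MulAction.stabilizer P a = ⊤ := eq_top_iff.2 fun g _ => ha g
      intro g
      refine eq_of_smul_eq_smul fun e : E => ?_
      rw [one_smul]
      by_cases he : e = 0
      · rw [he, smul_zero]
      have h1 := hconst e a he (fun h => ha0 h.symm)
      rw [htop, Subgroup.card_top] at h1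
      exact MulAction.mem_stabilizer_iff.1 ((Subgroup.card_eq_iff_eq_top _).1 h1 ▸ Subgroup.mem_top g)
    haveI : Subsingleton P := ⟨fun a b => (hP1 a).trans (hP1 b).symm⟩
    exact ⟨isCyclic_of_subsingleton, fun g hg => absurd (hP1 g) hg⟩
  have hcent := fun {w : P} hw {a : E} ha hwa =>
    central_fpf hpq hP hq hE hconst (w := w) hw (a := a) ha hwa
  suffices hcyc : IsCyclic P by
    refine ⟨hcyc, fun g hg a hga => by_contra fun ha => hg (hcent ?_ ha hga)⟩
    letI := hcyc.commGroup
    exact fun x => mul_comm x g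
  by_contra hnc
  obtain ⟨A, -, hAn, hAe, hA2⟩ := CfsgLib.PGroup.exists_normal_rank_two hP hp2 (⊤ : Subgroup P)
    (fun h => hnc ((Subgroup.topEquiv.isCyclic).1 h))
  haveI := hAn
  haveI := hAe.1
  have hA : A ≠ ⊥ := fun h => by
    rw [h, Subgroup.card_bot] at hA2
    exact (one_lt_pow₀ hpp.one_lt two_ne_zero).ne hA2
  obtain ⟨z, hzA, hzc, hzo⟩ := CfsgLib.Char.exists_central_prime_order hP A hA
  have hzcomm : ∀ x : P, x * z = z * x := Subgroup.mem_center_iff.1 hzc
  have hz1 : z ≠ 1 := fun h => by rw [h, orderOf_one] at hzo; exact hpp.ne_one hzo.symm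
  have hzfix : ∀ a : E, z • a = a → a = 0 := fun a h => by_contra fun ha => hz1 (hcent hzcomm ha h)
  have hzp : z ^ p = 1 := hzo ▸ pow_orderOf_eq_one z
  obtain ⟨y₀, hy₀A, hy₀⟩ : ∃ y, y ∈ A ∧ y ∉ Subgroup.zpowers z := by
    by_contra h
    push Not at h
    have := Subgroup.card_dvd_of_le (show A ≤ Subgroup.zpowers z from h)
    rw [hA2, Nat.card_zpowers, hzo] at this
    have := Nat.le_of_dvd hpp.pos this
    have := hpp.one_lt
    nlinarith
  have hcommA : ∀ u ∈ A, ∀ v ∈ A, u * v = v * u := fun u hu v hv =>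
    congrArg Subtype.val (hAe.1.is_comm.comm (⟨u, hu⟩ : A) ⟨v, hv⟩)
  -- some line of `A` other than the central one fixes a point
  obtain ⟨y, a, hyA, hy, ha, hya⟩ : ∃ (y : P) (a : E), y ∈ A ∧ y ∉ Subgroup.zpowers z ∧ a ≠ 0 ∧ y • a = a := by
    by_contra hno
    push Not at hno
    obtain ⟨v, hv⟩ : ∃ v : E, v ≠ 0 := by
      by_contra h
      push Not at h
      exact hz1 (eq_of_smul_eq_smul fun e : E => by rw [h e, smul_zero, one_smul])
    have hN : ∀ j : ℕ, ∑ i ∈ Finset.range p, (y₀ * z ^ j) ^ i • v = 0 := fun j => by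
      by_contra h
      refine hno (y₀ * z ^ j) _ (mul_mem hy₀A (pow_mem hzA j)) (fun hm => hy₀ ?_) h
        (norm_fixed _ (hAe.2 _ (mul_mem hy₀A (pow_mem hzA j))) v)
      simpa using mul_mem hm (inv_mem (pow_mem (Subgroup.mem_zpowers z) j))
    have hsum : ∑ j ∈ Finset.range p, ∑ i ∈ Finset.range p, (y₀ * z ^ j) ^ i • v = p • v := by
      rw [Finset.sum_comm, Finset.sum_eq_single 0]
      · simp
      · intro i hi hi0
        have hz0 : ∑ j ∈ Finset.range p, (z ^ i) ^ j • v = 0 := by
          refine by_contra fun h => pow_ne_one_of_lt_orderOf hi0 (hzo.symm ▸ Finset.mem_range.1 hi)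
            (hcent (fun x => (Commute.pow_right (hzcomm x) i).eq) h (norm_fixed _ ?_ v))
          rw [← pow_mul, mul_comm, pow_mul, hzp, one_pow]
        calc ∑ j ∈ Finset.range p, (y₀ * z ^ j) ^ i • v
            = ∑ j ∈ Finset.range p, y₀ ^ i • (z ^ i) ^ j • v := Finset.sum_congr rfl fun j _ => by
              rw [← mul_smul, (show Commute y₀ (z ^ j) from hcommA _ hy₀A _ (pow_mem hzA j)).mul_pow,
                ← pow_mul, ← pow_mul, mul_comm i j]
          _ = 0 := by rw [← Finset.smul_sum, hz0, smul_zero]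
      · intro h; exact absurd (Finset.mem_range.2 hpp.pos) h
    simp only [hN, Finset.sum_const_zero] at hsum
    have h2 := Nat.eq_one_of_dvd_coprimes ((Nat.coprime_primes hpp hq).2 hpq)
      (addOrderOf_dvd_iff_nsmul_eq_zero.2 hsum.symm) (addOrderOf_dvd_iff_nsmul_eq_zero.2 (hE v))
    exact hv (AddMonoid.addOrderOf_eq_one_iff.1 h2)
  -- `y` is not central; take `g` with `g y g⁻¹ = y z^k`
  have hy1 : y ≠ 1 := fun h => hy (h ▸ one_mem _)
  obtain ⟨g, hg⟩ : ∃ g : P, g * y * g⁻¹ ≠ y := by
    by_contra h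
    push Not at h
    exact hy1 (hcent (fun x => mul_inv_eq_iff_eq_mul.1 (h x)) ha hya)
  have hord : ∀ u ∈ A, u ≠ 1 → orderOf u = p := fun u hu hu1 => orderOf_eq_prime (hAe.2 u hu) hu1
  -- a point is fixed by one line only
  have hline : ∀ u ∈ A, ∀ w ∈ A, w ≠ 1 → ∀ v : E, v ≠ 0 → u • v = v → w • v = v → u ∈ Subgroup.zpowers w := by
    intro u hu w hw hw1 v hv huv hwv
    by_contra hnot
    set S := A ⊓ MulAction.stabilizer P v
    have hS : Subgroup.zpowers w < S :=
      lt_of_le_of_ne (Subgroup.zpowers_le.2 ⟨hw, hwv⟩) fun e => hnot (e ▸ ⟨hu, huv⟩)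
    have h1 := Subgroup.card_dvd_of_le (inf_le_left : S ≤ A)
    rw [hA2] at h1
    obtain ⟨i, hi, hS2⟩ := (Nat.dvd_prime_pow hpp).1 h1
    have h2 : p < Nat.card S := by
      have := Subgroup.card_le_of_le hS.le
      rw [Nat.card_zpowers, hord w hw hw1] at this
      refine lt_of_le_of_ne this fun e => hS.ne (Subgroup.eq_of_le_of_card_ge hS.le ?_)
      rw [Nat.card_zpowers, hord w hw hw1, e]
    have hi2 : i = 2 := by
      rw [hS2] at h2
      have := (Nat.pow_lt_pow_iff_right hpp.one_lt).1 (show p ^ 1 < p ^ i by rwa [pow_one])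
      omega
    have hSA : S = A := Subgroup.eq_of_le_of_card_ge inf_le_left (by rw [hS2, hi2, hA2])
    exact hv (hzfix v (MulAction.mem_stabilizer_iff.1 (inf_eq_left.1 hSA hzA)))
  -- the norm of a line kills the points of the other lines
  have hkill : ∀ u ∈ A, ∀ w ∈ A, w ≠ 1 → u ∉ Subgroup.zpowers w → ∀ v : E, w • v = v →
      ∑ i ∈ Finset.range p, u ^ i • v = 0 := by
    intro u hu w hw hw1 hnot v hwv
    by_contra h
    refine hnot (hline u hu w hw hw1 _ h (norm_fixed u (hAe.2 u hu) v) ?_)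
    rw [Finset.smul_sum]
    refine Finset.sum_congr rfl fun i _ => ?_
    rw [← mul_smul, hcommA w hw _ (pow_mem hu i), mul_smul, hwv]
  set y' := g * y * g⁻¹ with hy'
  have hy'A : y' ∈ A := hAn.conj_mem y hyA g
  have hy'1 : y' ≠ 1 := fun h => hy1 (conj_eq_one_iff.1 h)
  have hyy : y' ∉ Subgroup.zpowers y := fun h => hg (conj_eq_self hP (hord y hyA hy1) h)
  have hyy2 : y ∉ Subgroup.zpowers y' := by
    intro h
    refine hyy ?_
    have e : Subgroup.zpowers y = Subgroup.zpowers y' := Subgroup.eq_of_le_of_card_ge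
      (Subgroup.zpowers_le.2 h) (by rw [Nat.card_zpowers, Nat.card_zpowers, hord y hyA hy1, hord y' hy'A hy'1])
    exact e.symm ▸ Subgroup.mem_zpowers y'
  set b := g • a with hb
  have hb0 : b ≠ 0 := fun h => ha ((smul_eq_zero_iff_eq g).1 h)
  have hyb : y' • b = b := by rw [hb, ← mul_smul, hy', inv_mul_cancel_right, mul_smul, hya]
  have hsplit : ∀ x : P, x • (a + b) = a + b → x • a = a := by
    intro x hx
    rw [smul_add] at hx
    set u := x * y * x⁻¹ with hu
    set u' := x * y' * x⁻¹ with hu'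
    have huA : u ∈ A := hAn.conj_mem y hyA x
    have hu'A : u' ∈ A := hAn.conj_mem y' hy'A x
    have hu1 : u ≠ 1 := fun h => hy1 (conj_eq_one_iff.1 h)
    have hu'1 : u' ≠ 1 := fun h => hy'1 (conj_eq_one_iff.1 h)
    have hua : u • x • a = x • a := by rw [← mul_smul, hu, inv_mul_cancel_right, mul_smul, hya]
    have hub : u' • x • b = x • b := by rw [← mul_smul, hu', inv_mul_cancel_right, mul_smul, hyb]
    have hN : ∀ w : P, ∑ i ∈ Finset.range p, w ^ i • x • a + ∑ i ∈ Finset.range p, w ^ i • x • b =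
        ∑ i ∈ Finset.range p, w ^ i • a + ∑ i ∈ Finset.range p, w ^ i • b := fun w => by
      simp only [← Finset.sum_add_distrib, ← smul_add, hx]
    have hcl : ∀ v ∈ A, ∀ w ∈ A, v ≠ 1 → v ∈ Subgroup.zpowers w → w ∈ Subgroup.zpowers v :=
      fun v hv w hw hv1 h => by
        have hw1 : w ≠ 1 := fun e => hv1 (by rw [e, Subgroup.zpowers_one_eq_bot, Subgroup.mem_bot] at h; exact h)
        have e : Subgroup.zpowers v = Subgroup.zpowers w := Subgroup.eq_of_le_of_card_ge
          (Subgroup.zpowers_le.2 h) (by rw [Nat.card_zpowers, Nat.card_zpowers, hord v hv hv1, hord w hw hw1])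
        exact e.symm ▸ Subgroup.mem_zpowers w
    by_cases hc : u ∈ Subgroup.zpowers y
    · have e1 : u = y := conj_eq_self hP (hord y hyA hy1) hc
      have hc' : y ∉ Subgroup.zpowers u' := by
        intro h
        refine hyy ?_
        have h2 := hcl y hyA u' hu'A hy1 h
        obtain ⟨n, hn⟩ := Subgroup.mem_zpowers_iff.1 h2
        refine ⟨n, ?_⟩
        show y ^ n = y'
        have h3 : x⁻¹ * u' * x = y' := by rw [hu']; group
        have hcm : Commute x y := mul_inv_eq_iff_eq_mul.1 (hu ▸ e1)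
        rw [← h3, ← hn, mul_assoc, ← (hcm.zpow_right n).eq, inv_mul_cancel_left]
      have h1 := hN y
      rw [norm_of_fixed y a hya, norm_of_fixed y (x • a) (e1 ▸ hua),
        hkill y hyA y' hy'A hy'1 hyy2 b hyb, hkill y hyA u' hu'A hu'1 hc' (x • b) hub,
        add_zero, add_zero] at h1
      exact sub_eq_zero.1 (cancel_nsmul hpq hq hE (by rw [nsmul_sub, h1, sub_self]))
    · exfalso
      have hc0 : y ∉ Subgroup.zpowers u := fun h => hc (hcl y hyA u huA hy1 h)
      have hd : u' ∈ Subgroup.zpowers y := by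
        by_contra hd
        have h1 := hN y
        rw [norm_of_fixed y a hya, hkill y hyA u huA hu1 hc0 _ hua,
          hkill y hyA y' hy'A hy'1 hyy2 b hyb,
          hkill y hyA u' hu'A hu'1 (fun h => hd (hcl y hyA u' hu'A hy1 h)) _ hub, add_zero, add_zero] at h1
        exact ha (cancel_nsmul hpq hq hE h1.symm)
      have hd' : u ∈ Subgroup.zpowers y' := by
        by_contra hd'
        have h1 := hN y'
        rw [norm_of_fixed y' b hyb, hkill y' hy'A u huA hu1 (fun h => hd' (hcl y' hy'A u huA hy'1 h)) _ hua,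
          hkill y' hy'A y hyA hy1 hyy a hya,
          hkill y' hy'A u' hu'A hu'1 (fun h => hyy ?_) _ hub, zero_add, zero_add] at h1
        · exact hb0 (cancel_nsmul hpq hq hE h1.symm)
        · obtain ⟨n, hn⟩ := Subgroup.mem_zpowers_iff.1 h
          exact hn ▸ zpow_mem hd n
      -- `x` would interchange the two lines
      obtain ⟨n, hn⟩ := Subgroup.mem_zpowers_iff.1 hd'
      obtain ⟨n', hn'⟩ := Subgroup.mem_zpowers_iff.1 hd
      have hx2 : x * x * y * (x * x)⁻¹ ∈ Subgroup.zpowers y := by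
        rw [show x * x * y * (x * x)⁻¹ = x * u * x⁻¹ by rw [hu]; group, ← hn, ← conj_zpow, ← hu', ← hn',
          ← zpow_mul]
        exact ⟨_, rfl⟩
      have hx3 : Commute (x * x) y := mul_inv_eq_iff_eq_mul.1 (conj_eq_self hP (hord y hyA hy1) hx2)
      have hodd : Odd (orderOf x) := by
        obtain ⟨k, hk⟩ := IsPGroup.iff_orderOf.1 hP x
        rw [hk]; exact (hpp.odd_of_ne_two hp2).pow
      obtain ⟨j, hj⟩ := hodd
      have hx4 : Commute x y := by
        have : (x * x) ^ (j + 1) = x := by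
          rw [← pow_two, ← pow_mul, show 2 * (j + 1) = orderOf x + 1 by omega, pow_succ,
            pow_orderOf_eq_one, one_mul]
        exact this ▸ hx3.pow_left (j + 1)
      exact hc (by rw [hu, hx4.eq, mul_inv_cancel_right]; exact Subgroup.mem_zpowers y)
  have hab : a + b ≠ 0 := by
    intro h
    have e : b = -a := eq_neg_of_add_eq_zero_right h
    exact hyy2 (hline y hyA y' hy'A hy'1 b hb0 (by rw [e, smul_neg, hya]) hyb)
  have heq : MulAction.stabilizer P (a + b) = MulAction.stabilizer P a ⊓ MulAction.stabilizer P b := by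
    ext x
    simp only [Subgroup.mem_inf, MulAction.mem_stabilizer_iff]
    refine ⟨fun h => ⟨hsplit x h, ?_⟩, fun h => by rw [smul_add, h.1, h.2]⟩
    have := hsplit x h
    rw [smul_add, this] at h
    exact add_left_cancel h
  have h1 : MulAction.stabilizer P a ⊓ MulAction.stabilizer P b = MulAction.stabilizer P a :=
    Subgroup.eq_of_le_of_card_ge inf_le_left (by rw [← heq, hconst _ _ hab ha])
  exact hyy2 (hline y hyA y' hy'A hy'1 b hb0
    (MulAction.mem_stabilizer_iff.1 ((inf_eq_left.1 h1) (MulAction.mem_stabilizer_iff.2 hya))) hyb)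

end Cfsg.Agent.S1160
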