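import Cfsg.Statements.S1163
import Cfsg.Agent.Lib.Lie.Suz.Twisted
-- import your own Cfsg.Agent.* helpers here

set_option autoImplicit false
open Cfsg
open CfsgLib.Lie

namespace Cfsg.Agent.S1163

/-- For the Suzuki group Sz(q), q = 2^(2m+1) ≥ 8, realised as the elements g of Sp₄(F) with g* = g^θ (θ the 2^(m+1)-th power map, so that θ² is squaring): `|Sz(q)| = q² (q - 1) (q² + 1)`, and there is a Sylow 2-subgroup `S` whose normaliser `H` has order `q²(q-1)` and index `q² + 1`, the action of `Sz(q)` on the cosets of `H` is doubly transitive, and `S` acts regularly on the cosets other than `H` itself. -/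
theorem result {F : Type*} [Field F] [Fintype F] {m : ℕ} (hm : 1 ≤ m) (hF : Fintype.card F = 2 ^ (2 * m + 1)) :
    Nat.card ↥(Cfsg.Lie.Sz F (2 ^ (m + 1))) = (2 ^ (2 * m + 1)) ^ 2 * (2 ^ (2 * m + 1) - 1) * ((2 ^ (2 * m + 1)) ^ 2 + 1) ∧
    ∃ S : Sylow 2 ↥(Cfsg.Lie.Sz F (2 ^ (m + 1))),
      Nat.card (Subgroup.normalizer ((S : Subgroup ↥(Cfsg.Lie.Sz F (2 ^ (m + 1)))) : Set ↥(Cfsg.Lie.Sz F (2 ^ (m + 1))))) = (2 ^ (2 * m + 1)) ^ 2 * (2 ^ (2 * m + 1) - 1) ∧
      (Subgroup.normalizer ((S : Subgroup ↥(Cfsg.Lie.Sz F (2 ^ (m + 1)))) : Set ↥(Cfsg.Lie.Sz F (2 ^ (m + 1))))).index = (2 ^ (2 * m + 1)) ^ 2 + 1 ∧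
      MulAction.IsMultiplyPretransitive ↥(Cfsg.Lie.Sz F (2 ^ (m + 1))) (↥(Cfsg.Lie.Sz F (2 ^ (m + 1))) ⧸ Subgroup.normalizer ((S : Subgroup ↥(Cfsg.Lie.Sz F (2 ^ (m + 1)))) : Set ↥(Cfsg.Lie.Sz F (2 ^ (m + 1))))) 2 ∧
      ∀ x y : ↥(Cfsg.Lie.Sz F (2 ^ (m + 1))) ⧸ Subgroup.normalizer ((S : Subgroup ↥(Cfsg.Lie.Sz F (2 ^ (m + 1)))) : Set ↥(Cfsg.Lie.Sz F (2 ^ (m + 1)))),
        x ≠ (QuotientGroup.mk 1) → y ≠ (QuotientGroup.mk 1) → ∃! s : ↥(S : Subgroup ↥(Cfsg.Lie.Sz F (2 ^ (m + 1)))), (s : ↥(Cfsg.Lie.Sz F (2 ^ (m + 1)))) • x = y := by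
  classical
  haveI : Fact (Nat.Prime 2) := ⟨Nat.prime_two⟩
  have hS := Suz.isSuzField hF
  obtain ⟨e⟩ := Suz.exists_twEquiv hm hF
  set G := ↥(Cfsg.Lie.Sz F (2 ^ (m + 1))) with hG
  haveI : Finite G := Finite.of_equiv _ e.toEquiv
  set V : Subgroup G := (Suz.U hF).map e.toMonoidHom with hV
  have hVp : IsPGroup 2 V := (Suz.U_isPGroup hF).map _
  have hVi : ¬ 2 ∣ V.index := by
    rw [hV, Subgroup.index_map_of_bijective e.bijective]
    exact Suz.U_index_not_dvd hm hF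
  set B := MulAction.stabilizer (Cfsg.Sz F m) (Cfsg.suzukiPointInfinity F) with hB
  have hUB : Suz.U hF ≤ B := by
    rintro g ⟨a, b, h⟩
    rw [hB, MulAction.mem_stabilizer_iff, Subgroup.smul_def, h]
    exact Suz.T_inf a b
  have hN0 : Subgroup.normalizer ((Suz.U hF : Subgroup (Cfsg.Sz F m)) : Set (Cfsg.Sz F m)) = B := by
    refine le_antisymm (fun g hg => ?_) (fun g hg => ?_)
    · rw [hB, MulAction.mem_stabilizer_iff, Subgroup.smul_def]
      rcases (Suz.ovoid_iff _).1 (Suz.smul_mem_ovoid g.2 Suz.ovoid_inf) with h | ⟨a, b, h⟩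
      · exact h
      · exfalso
        have h1 : g⁻¹ * Suz.TS hF 1 0 * g ∈ Suz.U hF := by
          simpa using (Subgroup.mem_normalizer_iff.1 (inv_mem hg) (Suz.TS hF 1 0)).1 (Suz.TS_mem_U hF 1 0)
        have h2 := hUB h1
        rw [hB, MulAction.mem_stabilizer_iff, mul_smul, mul_smul, inv_smul_eq_iff,
          Subgroup.smul_def, Subgroup.smul_def, h] at h2
        have h3 : Suz.T m (1 : F) 0 • Suz.pt m a b = Suz.pt m a b := h2
        rw [Suz.T_pt hS] at h3
        exact one_ne_zero (add_eq_left.1 (Suz.pt_inj h3).1)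
    · obtain ⟨a, b, k, rfl⟩ := (Suz.mem_stab_inf hm hF).1 hg
      refine mul_mem (Subgroup.le_normalizer (Suz.TS_mem_U hF a b)) ?_
      have key : ∀ k : Fˣ, ∀ v ∈ Suz.U hF, Suz.HS hF k * v * (Suz.HS hF k)⁻¹ ∈ Suz.U hF := by
        rintro k v ⟨a, b, h⟩
        rw [show v = Suz.TS hF a b from Subtype.ext h, Suz.H_conj_T hF]
        exact Suz.TS_mem_U hF _ _
      rw [Subgroup.mem_normalizer_iff]
      intro v
      refine ⟨key k v, fun h => ?_⟩
      have := key k⁻¹ _ h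
      rw [show (Suz.HS hF k⁻¹ : Cfsg.Sz F m) = (Suz.HS hF k)⁻¹ from Subtype.ext (Suz.H_inv k)] at this
      simpa [mul_assoc] using this
  refine ⟨?_, hVp.toSylow hVi, ?_⟩
  · rw [← Nat.card_congr e.toEquiv, Suz.card_Sz hm hF, hF]
    ring
  set N := Subgroup.normalizer (((hVp.toSylow hVi : Sylow 2 G) : Subgroup G) : Set G) with hN
  have hN' : N = B.map e.toMonoidHom := by
    rw [hN, show ((hVp.toSylow hVi : Sylow 2 G) : Subgroup G) = V from rfl, hV, ← hN0]
    exact (Subgroup.map_equiv_normalizer_eq _ e).symm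
  have hcardN : Nat.card N = (2 ^ (2 * m + 1)) ^ 2 * (2 ^ (2 * m + 1) - 1) := by
    rw [hN', Subgroup.card_map_of_injective e.injective, hB, Suz.card_stab_inf hm hF, hF]
  have hidx : N.index = (2 ^ (2 * m + 1)) ^ 2 + 1 := by
    rw [hN', Subgroup.index_map_of_bijective e.bijective, hB, MulAction.index_stabilizer,
      Suz.orbit_inf hF, ← Nat.card_coe_set_eq, Suz.card_ovoid hF, hF]
  -- cosets correspond to the points of the ovoid
  let pt : G → Cfsg.suzukiOvoid F m := fun g =>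
    ⟨((e.symm g : Cfsg.Sz F m) : Matrix.SpecialLinearGroup (Fin 4) F) • Cfsg.suzukiPointInfinity F,
      Suz.smul_mem_ovoid (e.symm g).2 Suz.ovoid_inf⟩
  have hpt : ∀ g g' : G, (QuotientGroup.mk g : G ⧸ N) = QuotientGroup.mk g' ↔ pt g = pt g' := by
    intro g g'
    rw [QuotientGroup.eq, hN', Subgroup.mem_map_equiv, hB, MulAction.mem_stabilizer_iff, map_mul, map_inv,
      mul_smul, inv_smul_eq_iff, Subtype.ext_iff]
    exact eq_comm
  have hmul : ∀ g g' : G, pt (g * g') = e.symm g • pt g' := fun g g' => by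
    apply Subtype.ext
    show ((e.symm (g * g') : Cfsg.Sz F m) : Matrix.SpecialLinearGroup (Fin 4) F) • _ = _
    rw [map_mul, Subgroup.coe_mul, mul_smul]
    rfl
  refine ⟨hcardN, hidx, ?_, ?_⟩
  · rw [MulAction.is_two_pretransitive_iff]
    intro x y x' y' hxy hxy'
    obtain ⟨a, rfl⟩ := QuotientGroup.mk_surjective x
    obtain ⟨b, rfl⟩ := QuotientGroup.mk_surjective y
    obtain ⟨a', rfl⟩ := QuotientGroup.mk_surjective x'
    obtain ⟨b', rfl⟩ := QuotientGroup.mk_surjective y'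
    obtain ⟨c, hc1, hc2⟩ := MulAction.is_two_pretransitive_iff.1 (Suz.two_trans hF (m := m))
      (show pt a ≠ pt b from fun h => hxy ((hpt a b).2 h))
      (show pt a' ≠ pt b' from fun h => hxy' ((hpt a' b').2 h))
    refine ⟨e c, ?_, ?_⟩
    · show (QuotientGroup.mk (e c * a) : G ⧸ N) = QuotientGroup.mk a'
      rw [hpt, hmul, e.symm_apply_apply, hc1]
    · show (QuotientGroup.mk (e c * b) : G ⧸ N) = QuotientGroup.mk b'
      rw [hpt, hmul, e.symm_apply_apply, hc2]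
  · intro x y hx hy
    obtain ⟨a, rfl⟩ := QuotientGroup.mk_surjective x
    obtain ⟨b, rfl⟩ := QuotientGroup.mk_surjective y
    have haff : ∀ g : G, (QuotientGroup.mk g : G ⧸ N) ≠ QuotientGroup.mk 1 →
        ∃ p q : F, (pt g : Projectivization F (Fin 4 → F)) = Suz.pt m p q := by
      intro g hg
      rcases (Suz.ovoid_iff _).1 (pt g).2 with h | h
      · refine absurd ((hpt g 1).2 (Subtype.ext ?_)) hg
        rw [h]
        show _ = ((e.symm 1 : Cfsg.Sz F m) : Matrix.SpecialLinearGroup (Fin 4) F) • Cfsg.suzukiPointInfinity F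
        rw [map_one, Subgroup.coe_one, one_smul]
      · exact h
    obtain ⟨p, q, hp⟩ := haff a hx
    obtain ⟨p', q', hp'⟩ := haff b hy
    set c := p' + p
    set d := q' + q + Suz.th m c * p
    have hmem : e (Suz.TS hF c d) ∈ V := ⟨_, Suz.TS_mem_U hF c d, rfl⟩
    refine ⟨⟨e (Suz.TS hF c d), hmem⟩, ?_, ?_⟩
    · show (QuotientGroup.mk (e (Suz.TS hF c d) * a) : G ⧸ N) = QuotientGroup.mk b
      rw [hpt, hmul, e.symm_apply_apply]
      apply Subtype.ext
      show Suz.T m c d • (pt a : Projectivization F (Fin 4 → F)) = pt b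
      rw [hp, hp', Suz.T_pt hS]
      congr 1
      · linear_combination p * Suz.two_eq_zero hS
      · linear_combination (q + Suz.th m c * p) * Suz.two_eq_zero hS
    · rintro ⟨s, ⟨u, ⟨c', d', hu⟩, rfl⟩⟩ hs
      have hs' : (QuotientGroup.mk (e u * a) : G ⧸ N) = QuotientGroup.mk b := hs
      rw [hpt, hmul, e.symm_apply_apply, Subtype.ext_iff] at hs'
      have h3 : (u : Matrix.SpecialLinearGroup (Fin 4) F) • (pt a : Projectivization F (Fin 4 → F)) = pt b := hs'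
      rw [hu, hp, hp', Suz.T_pt hS] at h3
      obtain ⟨h4, h5⟩ := Suz.pt_inj h3
      have hc' : c' = c := by linear_combination h4 - p * Suz.two_eq_zero hS
      subst hc'
      have hd' : d' = d := by linear_combination h5 - (q + Suz.th m c * p) * Suz.two_eq_zero hS
      subst hd'
      exact Subtype.ext (congrArg e (Subtype.ext hu))

end Cfsg.Agent.S1163
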