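import Cfsg.Statements.S1165
import Cfsg.Agent.Lib.RootSub.Setup


set_option autoImplicit false
open Cfsg

namespace Cfsg.Agent.S1165

open CfsgLib.RootSub MulAction

/-- In the rank-one set-up (`G` finite and doubly transitive on `Ω`, `t` an involution moving `a`, `Q` normal in `G_a` with `G_a = Q D`, `Q ⊓ D = 1` for the two-point stabiliser `D = G_a ⊓ G_{t • a}`, `|Q|` even, `|D|` odd): every `x ∈ Q`, `x ≠ 1`, determines unique `g, f ∈ Q`, `h ∈ D` with `t x t = g h t f` (a consequence of the canonical form). For these: (H1) the `f`-part of `x⁻¹` is `g⁻¹`; (H2) the `f`-part of `f` is `x`; (H3) for `a ∈ D` the `f`-part of `a⁻¹ x a` is `(t a t)⁻¹ f (t a t)`; (H4) the `h`-part of `a⁻¹ x a` is `(t a t)⁻¹ h a`, that of `x⁻¹` is `t h⁻¹ t`, and that of `f` is `h⁻¹`. -/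
theorem result {G Ω : Type*} [Group G] [Finite G] [MulAction G Ω] {a : Ω} {t : G} {Q : Subgroup G}
    (hS : Cfsg.IsRankOneSetup G Ω a t Q)
    (x g h f : G) (hx : x ∈ Q) (hx1 : x ≠ 1) (hg : g ∈ Q) (hh : h ∈ (MulAction.stabilizer G a ⊓ MulAction.stabilizer G (t • a))) (hf : f ∈ Q)
    (heq : t * x * t = g * h * t * f) :
    (∀ g₁ h₁ f₁ : G, g₁ ∈ Q → h₁ ∈ (MulAction.stabilizer G a ⊓ MulAction.stabilizer G (t • a)) → f₁ ∈ Q → t * x⁻¹ * t = g₁ * h₁ * t * f₁ →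
        f₁ = g⁻¹ ∧ h₁ = t * h⁻¹ * t) ∧
      (∀ g₂ h₂ f₂ : G, g₂ ∈ Q → h₂ ∈ (MulAction.stabilizer G a ⊓ MulAction.stabilizer G (t • a)) → f₂ ∈ Q → t * f * t = g₂ * h₂ * t * f₂ →
        f₂ = x ∧ h₂ = h⁻¹) ∧
      ∀ c ∈ (MulAction.stabilizer G a ⊓ MulAction.stabilizer G (t • a)), ∀ g₃ h₃ f₃ : G, g₃ ∈ Q → h₃ ∈ (MulAction.stabilizer G a ⊓ MulAction.stabilizer G (t • a)) → f₃ ∈ Q →
        t * (c⁻¹ * x * c) * t = g₃ * h₃ * t * f₃ →
          f₃ = (t * c * t)⁻¹ * f * (t * c * t) ∧ h₃ = (t * c * t)⁻¹ * h * c := by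
  have ht : t⁻¹ = t := Setup.t_inv hS
  refine ⟨fun g₁ h₁ f₁ hg₁ hh₁ hf₁ he => ?_, fun g₂ h₂ f₂ hg₂ hh₂ hf₂ he => ?_,
    fun c hc g₃ h₃ f₃ hg₃ hh₃ hf₃ he => ?_⟩
  · have hd := Setup.conj_t_mem_D hS (inv_mem hh)
    have e : f⁻¹ * (t * h⁻¹ * t) * t * g⁻¹ = g₁ * h₁ * t * f₁ := by
      rw [← he]
      calc f⁻¹ * (t * h⁻¹ * t) * t * g⁻¹ = f⁻¹ * t * h⁻¹ * (t * t) * g⁻¹ := by group
        _ = f⁻¹ * t⁻¹ * h⁻¹ * g⁻¹ := by rw [hS.mul_self, ht, mul_one]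
        _ = (g * h * t * f)⁻¹ := by group
        _ = (t * x * t)⁻¹ := by rw [heq]
        _ = t⁻¹ * x⁻¹ * t⁻¹ := by group
        _ = t * x⁻¹ * t := by rw [ht]
    obtain ⟨-, e2, e3⟩ := Setup.ghtf_unique hS (inv_mem hf) hg₁ hd hh₁ (inv_mem hg) hf₁ e
    exact ⟨e3.symm, e2.symm⟩
  · have hgg : h⁻¹ * g⁻¹ * h ∈ Q := (Setup.Q_normalized hS hh (inv_mem hg)).2
    have htf : t * f = h⁻¹ * g⁻¹ * (t * x * t) := by rw [heq]; group
    have e : h⁻¹ * g⁻¹ * h * h⁻¹ * t * x = g₂ * h₂ * t * f₂ := by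
      rw [← he, htf, show h⁻¹ * g⁻¹ * (t * x * t) * t = h⁻¹ * g⁻¹ * t * x * (t * t) by group,
        hS.mul_self]
      group
    obtain ⟨-, e2, e3⟩ := Setup.ghtf_unique hS hgg hg₂ (inv_mem hh) hh₂ hx hf₂ e
    exact ⟨e3.symm, e2.symm⟩
  · have hd : t * c * t ∈ stabilizer G a ⊓ stabilizer G (t • a) := Setup.conj_t_mem_D hS hc
    set e := t * c * t with he'
    have h1 : (t * c⁻¹ * t) * (t * x * t) * (t * c * t) = t * (c⁻¹ * x * c) * t := by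
      rw [show (t * c⁻¹ * t) * (t * x * t) * (t * c * t) = t * c⁻¹ * (t * t) * x * (t * t) * c * t by group,
        hS.mul_self]
      group
    have h2 : t * c⁻¹ * t = e⁻¹ := by rw [he', mul_inv_rev, mul_inv_rev, ht, mul_assoc]
    have h3 : t * e = c * t := by
      rw [he', show t * (t * c * t) = (t * t) * (c * t) by group, hS.mul_self, one_mul]
    have h4 : (e⁻¹ * g * e) * (e⁻¹ * h * c) * t * (e⁻¹ * f * e) = g₃ * h₃ * t * f₃ := by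
      rw [← he, ← h1, h2, heq]
      calc (e⁻¹ * g * e) * (e⁻¹ * h * c) * t * (e⁻¹ * f * e) = e⁻¹ * g * h * (c * t) * e⁻¹ * f * e := by group
        _ = e⁻¹ * g * h * (t * e) * e⁻¹ * f * e := by rw [h3]
        _ = e⁻¹ * (g * h * t * f) * (t * c * t) := by rw [← he']; group
    obtain ⟨-, e2, e3⟩ := Setup.ghtf_unique hS (Setup.Q_normalized hS hd hg).2 hg₃
      (mul_mem (mul_mem (inv_mem hd) hh) hc) hh₃ (Setup.Q_normalized hS hd hf).2 hf₃ h4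
    exact ⟨e3.symm, e2.symm⟩

end Cfsg.Agent.S1165
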