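import Cfsg.Statements.S1166
import Cfsg.Agent.Lib.RootSub.Setup


set_option autoImplicit false
open Cfsg

namespace Cfsg.Agent.S1166

open CfsgLib.RootSub MulAction

/-- In the rank-one set-up (`G` finite and doubly transitive on `Ω`, `t` an involution moving `a`, `Q` normal in `G_a` with `G_a = Q D`, `Q ⊓ D = 1` for the two-point stabiliser `D = G_a ⊓ G_{t • a}`, `|Q|` even, `|D|` odd), with `t x t = g_x h_x t f_x` and `t y t = g_y h_y t f_y` (`g, f ∈ Q`, `h ∈ D`) for `x, y ∈ Q ∖ 1` with `x y ≠ 1`: then `z = f_x g_y ≠ 1`, and if `t z t = g_z h_z t f_z` and `t (x y) t = g' h' t f'` then `f' = (t h_y t)⁻¹ f_z (t h_y t) f_y` and `h' = h_x h_z h_y` (H6). -/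
theorem result {G Ω : Type*} [Group G] [Finite G] [MulAction G Ω] {a : Ω} {t : G} {Q : Subgroup G}
    (hS : Cfsg.IsRankOneSetup G Ω a t Q)
    (x y gx hx fx gy hy fy : G) (hxQ : x ∈ Q) (hx1 : x ≠ 1) (hyQ : y ∈ Q) (hy1 : y ≠ 1) (hxy : x * y ≠ 1)
    (hgx : gx ∈ Q) (hhx : hx ∈ (MulAction.stabilizer G a ⊓ MulAction.stabilizer G (t • a))) (hfx : fx ∈ Q) (ex : t * x * t = gx * hx * t * fx)
    (hgy : gy ∈ Q) (hhy : hy ∈ (MulAction.stabilizer G a ⊓ MulAction.stabilizer G (t • a))) (hfy : fy ∈ Q) (ey : t * y * t = gy * hy * t * fy) :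
    fx * gy ≠ 1 ∧
      ∀ gz hz fz g' h' f' : G, gz ∈ Q → hz ∈ (MulAction.stabilizer G a ⊓ MulAction.stabilizer G (t • a)) → fz ∈ Q → t * (fx * gy) * t = gz * hz * t * fz →
        g' ∈ Q → h' ∈ (MulAction.stabilizer G a ⊓ MulAction.stabilizer G (t • a)) → f' ∈ Q → t * (x * y) * t = g' * h' * t * f' →
          f' = (t * hy * t)⁻¹ * fz * (t * hy * t) * fy ∧ h' = hx * hz * hy := by
  have ht : t⁻¹ = t := Setup.t_inv hS
  have he : t * hy * t ∈ stabilizer G a ⊓ stabilizer G (t • a) := Setup.conj_t_mem_D hS hhy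
  have hprod : t * (x * y) * t = gx * hx * (t * (fx * gy) * t) * (t * hy * t) * fy := by
    calc t * (x * y) * t = t * x * (t * t) * y * t := by rw [hS.mul_self]; group
      _ = (t * x * t) * (t * y * t) := by group
      _ = gx * hx * t * fx * (gy * hy * t * fy) := by rw [ex, ey]
      _ = gx * hx * (t * (fx * gy) * (t * t) * hy * t) * fy := by rw [hS.mul_self]; group
      _ = gx * hx * (t * (fx * gy) * t) * (t * hy * t) * fy := by group
  refine ⟨fun h1 => hxy ?_, fun gz hz fz g' h' f' hgz hhz hfz hez hg' hh' hf' he2 => ?_⟩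
  · have hmem : t * (x * y) * t ∈ stabilizer G a := by
      rw [hprod, h1, show t * 1 * t = t * t by group, hS.mul_self, mul_one]
      exact mul_mem (mul_mem (mul_mem (hS.le hgx) (Subgroup.mem_inf.1 hhx).1) (Subgroup.mem_inf.1 he).1) (hS.le hfy)
    refine Setup.eq_one_of_fix hS (mul_mem hxQ hyQ) (Setup.ta_ne hS) ?_
    have h2 := congrArg (fun u => t • u) (mem_stabilizer_iff.1 hmem)
    simp only [mul_smul, Setup.t_t hS] at h2
    rwa [mul_smul]
  · set e := t * hy * t with hedef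
    have h3 : t * e = hy * t := by
      rw [hedef, show t * (t * hy * t) = (t * t) * (hy * t) by group, hS.mul_self, one_mul]
    have h4 : (gx * (hx * gz * hx⁻¹)) * (hx * hz * hy) * t * (e⁻¹ * fz * e * fy) = g' * h' * t * f' := by
      rw [← he2, hprod, hez]
      calc (gx * (hx * gz * hx⁻¹)) * (hx * hz * hy) * t * (e⁻¹ * fz * e * fy)
          = gx * hx * gz * hz * (hy * t) * e⁻¹ * fz * e * fy := by group
        _ = gx * hx * gz * hz * (t * e) * e⁻¹ * fz * e * fy := by rw [h3]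
        _ = gx * hx * (gz * hz * t * fz) * e * fy := by group
    obtain ⟨-, e2, e3⟩ := Setup.ghtf_unique hS (mul_mem hgx (Setup.Q_normalized hS hhx hgz).1) hg'
      (mul_mem (mul_mem hhx hhz) hhy) hh' (mul_mem (Setup.Q_normalized hS he hfz).2 hfy) hf' h4
    exact ⟨e3.symm, e2.symm⟩

end Cfsg.Agent.S1166
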