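import Cfsg.Statements.S1172
import Cfsg.Agent.Lib.ProdFusion.Direct

set_option autoImplicit false
open Cfsg

namespace Cfsg.Agent.S1172

/-- Let G be a finite group with no nontrivial normal subgroup of odd order and no proper normal subgroup of odd index, whose Sylow 2-subgroup S is not commutative and is the internal direct product of two subgroups each isomorphic to a dihedral group of order at least 4 and each strongly closed in S with respect to G (product fusion). Then G is the internal direct product of two normal subgroups G₁, G₂, and S is the internal direct product of dihedral subgroups R₁ ≤ G₁ and R₂ ≤ G₂ of odd index in G₁ and G₂ respectively (so R_i is a Sylow 2-subgroup of G_i). -/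
theorem result {G : Type*} [Group G] [Finite G] (hO : Cfsg.oddCore G = ⊥) (hO' : ∀ N : Subgroup G, N.Normal → Odd N.index → N = ⊤) (S : Sylow 2 G) (hS : ¬ IsMulCommutative (S : Subgroup G)) (S₁ S₂ : Subgroup G) (hprod : Cfsg.IsInternalDirectProduct S₁ S₂ (S : Subgroup G)) (m₁ m₂ : ℕ) (hm₁ : 2 ≤ m₁) (hm₂ : 2 ≤ m₂) (e₁ : S₁ ≃* DihedralGroup m₁) (e₂ : S₂ ≃* DihedralGroup m₂) (hcl₁ : Cfsg.IsStronglyClosed S₁ (S : Subgroup G)) (hcl₂ : Cfsg.IsStronglyClosed S₂ (S : Subgroup G)) : ∃ G₁ G₂ : Subgroup G, G₁.Normal ∧ G₂.Normal ∧ Cfsg.IsInternalDirectProduct G₁ G₂ ⊤ ∧ ∃ R₁ R₂ : Subgroup G, Cfsg.IsInternalDirectProduct R₁ R₂ (S : Subgroup G) ∧ (∃ n₁, 2 ≤ n₁ ∧ Nonempty (R₁ ≃* DihedralGroup n₁)) ∧ (∃ n₂, 2 ≤ n₂ ∧ Nonempty (R₂ ≃* DihedralGroup n₂)) ∧ R₁ ≤ G₁ ∧ R₂ ≤ G₂ ∧ Odd (R₁.relIndex G₁) ∧ Odd (R₂.relIndex G₂) := by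
  set N₁ := Subgroup.normalClosure (S₁ : Set G) with hN₁
  set N₂ := Subgroup.normalClosure (S₂ : Set G) with hN₂
  obtain ⟨-, -, hcomm, hdisj, hsup⟩ := hprod
  have hle := CfsgLib.ProdFusion.commutator_normalClosure_le S hcl₁ hcl₂ hcomm hdisj
  have hO2 : Cfsg.pPrimeCore 2 G = ⊥ := hO
  rw [hO2, le_bot_iff, Subgroup.commutator_eq_bot_iff_le_centralizer] at hle
  have hc : ∀ u ∈ N₁, ∀ v ∈ N₂, Commute u v := fun u hu v hv =>
    (Subgroup.mem_centralizer_iff.1 (hle hu) v hv).symm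
  have hSN : (S : Subgroup G) ≤ N₁ ⊔ N₂ :=
    hsup ▸ sup_le_sup Subgroup.subset_normalClosure Subgroup.subset_normalClosure
  have htop : N₁ ⊔ N₂ = ⊤ := by
    refine hO' _ inferInstance ?_
    rw [← Nat.not_even_iff_odd, even_iff_two_dvd]
    exact fun h2 => S.not_dvd_index (h2.trans (Subgroup.index_dvd_of_le hSN))
  have h1 := CfsgLib.ProdFusion.normalClosure_inf_eq S hcl₁ hcl₂ hdisj hsup hc htop
  have h2 := CfsgLib.ProdFusion.normalClosure_inf_eq S hcl₂ hcl₁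
    ((inf_comm S₂ S₁).trans hdisj) ((sup_comm S₂ S₁).trans hsup)
    (fun u hu v hv => (hc v hv u hu).symm) ((sup_comm N₂ N₁).trans htop)
  -- the intersection is a central `2`-group inside the Sylow subgroup
  have hZ : N₁ ⊓ N₂ = ⊥ := by
    have hab : ∀ u ∈ N₁ ⊓ N₂, ∀ v ∈ N₁ ⊓ N₂, Commute u v := fun u hu v hv => hc u hu.1 v hv.2
    have h2g : IsPGroup 2 (N₁ ⊓ N₂ : Subgroup G) :=
      CfsgLib.ProdFusion.isPGroup_of_abelian_normal hO2 hab
    obtain ⟨g, hg⟩ := CfsgLib.Invol.exists_conj_le_sylow h2g S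
    rw [eq_bot_iff]
    intro u hu
    have h3 := hg u hu
    have h4 : g * u * g⁻¹ ∈ S₁ ⊓ S₂ :=
      ⟨h1 ▸ ⟨Subgroup.normalClosure_normal.conj_mem u hu.1 g, h3⟩,
        h2 ▸ ⟨Subgroup.normalClosure_normal.conj_mem u hu.2 g, h3⟩⟩
    rw [hdisj, Subgroup.mem_bot, mul_inv_eq_one, mul_eq_left] at h4
    exact Subgroup.mem_bot.2 h4
  have hodd : ∀ (N R : Subgroup G), N.Normal → N ⊓ (S : Subgroup G) = R → Odd (R.relIndex N) := by
    intro N R hN e
    subst e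
    rw [Subgroup.inf_relIndex_left, ← Nat.not_even_iff_odd, even_iff_two_dvd]
    exact fun h3 => S.not_dvd_index
      (h3.trans (CfsgLib.ProdFusion.relIndex_dvd_of_normal (S : Subgroup G) N))
  refine ⟨N₁, N₂, inferInstance, inferInstance,
    ⟨le_top, le_top, fun u hu v hv => (hc u hu v hv).eq, hZ, htop⟩, S₁, S₂,
    ⟨hcl₁.1, hcl₂.1, hcomm, hdisj, hsup⟩, ⟨m₁, hm₁, ⟨e₁⟩⟩, ⟨m₂, hm₂, ⟨e₂⟩⟩,
    Subgroup.subset_normalClosure, Subgroup.subset_normalClosure,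
    hodd N₁ S₁ inferInstance h1, hodd N₂ S₂ inferInstance h2⟩

end Cfsg.Agent.S1172
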