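import Cfsg.Statements.S1176
import Cfsg.Agent.Lib.Invol.Basic
import Mathlib.GroupTheory.Commutator.Basic
import Mathlib.Tactic.Group
import Mathlib.Tactic.Ring


set_option autoImplicit false
open Cfsg
open scoped commutatorElement

namespace Cfsg.Agent.S1176

/-- Let x₀ be an involution of the finite group G and D its conjugacy class. Assume (a) for each x ∈ D the subgroup W(x) generated by the members of D commuting with x is a 2-group of nilpotency class at most 2, and (b) the product of two distinct commuting members of D again lies in D. Then for all x, y ∈ D, if xy has even order greater than 2, its order is 4. -/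
theorem result {G : Type*} [Group G] [Finite G] (x₀ : G) (hx₀ : orderOf x₀ = 2) (ha : ∀ x : G, IsConj x₀ x → IsPGroup 2 ↥(Subgroup.closure {y : G | IsConj x₀ y ∧ Commute y x}) ∧ ⁅⁅Subgroup.closure {y : G | IsConj x₀ y ∧ Commute y x}, Subgroup.closure {y : G | IsConj x₀ y ∧ Commute y x}⁆, Subgroup.closure {y : G | IsConj x₀ y ∧ Commute y x}⁆ = ⊥) (hb : ∀ x y : G, IsConj x₀ x → IsConj x₀ y → x ≠ y → Commute x y → IsConj x₀ (x * y)) (x y : G) (hx : IsConj x₀ x) (hy : IsConj x₀ y) (heven : Even (orderOf (x * y))) (hgt : 2 < orderOf (x * y)) : orderOf (x * y) = 4 := by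
  have hx2 : orderOf x = 2 := by
    obtain ⟨g, rfl⟩ := isConj_iff.1 hx; exact CfsgLib.Invol.invol_conj hx₀ g
  have hy2 : orderOf y = 2 := by
    obtain ⟨g, rfl⟩ := isConj_iff.1 hy; exact CfsgLib.Invol.invol_conj hx₀ g
  obtain ⟨r, hr⟩ : ∃ r, r = x * y := ⟨_, rfl⟩
  rw [← hr] at heven hgt ⊢
  have hxr : x * r * x⁻¹ = r⁻¹ := hr ▸ CfsgLib.Invol.invol_conj_mul hx2 hy2
  have hyr : y * r * y⁻¹ = r⁻¹ := hr ▸ CfsgLib.Invol.invol_conj_mul' hx2 hy2
  obtain ⟨u, hu⟩ : ∃ u, u = r ^ (orderOf r / 2) := ⟨_, rfl⟩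
  have hu2 : orderOf u = 2 := hu ▸ CfsgLib.Invol.orderOf_pow_half heven
  have hux : Commute u x := hu ▸ CfsgLib.Invol.commute_pow_half hxr heven
  have huy : Commute u y := hu ▸ CfsgLib.Invol.commute_pow_half hyr heven
  have hxr' : x * r = y := by rw [hr, ← mul_assoc, CfsgLib.Invol.invol_mul_self hx2, one_mul]
  have hconj : ∀ (w : G), orderOf w = 2 → w * r * w⁻¹ = r⁻¹ → ∀ j : ℤ, IsConj w (w * r ^ (2 * j)) := by
    intro w hw hwr j
    refine isConj_iff.2 ⟨r ^ (-j), ?_⟩
    rw [CfsgLib.Invol.zpow_mul_invol hw hwr, mul_assoc, ← zpow_neg, ← zpow_add]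
    congr 2; ring
  have huD : IsConj x₀ u := by
    have hxu : IsConj x₀ (x * u) := by
      rcases Nat.even_or_odd (orderOf r / 2) with ⟨j, hj⟩ | ⟨j, hj⟩
      · refine hx.trans ?_
        have h := hconj x hx2 hxr (j : ℤ)
        rwa [show r ^ (2 * (j : ℤ)) = u by
          rw [hu, hj, ← zpow_natCast]; congr 1; push_cast; ring] at h
      · refine hy.trans ?_
        have h := hconj y hy2 hyr (j : ℤ)
        rwa [show y * r ^ (2 * (j : ℤ)) = x * u by
          rw [hu, hj, ← zpow_natCast, ← hxr', mul_assoc, ← zpow_one_add]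
          congr 2; push_cast; ring] at h
    have hne : x ≠ x * u := fun h => CfsgLib.Invol.invol_ne_one hu2 (mul_eq_left.1 h.symm)
    have h := hb x (x * u) hx hxu hne ((Commute.refl x).mul_right hux.symm)
    rwa [← mul_assoc, CfsgLib.Invol.invol_mul_self hx2, one_mul] at h
  obtain ⟨-, hcl⟩ := ha u huD
  have hxW : x ∈ Subgroup.closure {w : G | IsConj x₀ w ∧ Commute w u} :=
    Subgroup.subset_closure ⟨hx, hux.symm⟩
  have hyW : y ∈ Subgroup.closure {w : G | IsConj x₀ w ∧ Commute w u} :=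
    Subgroup.subset_closure ⟨hy, huy.symm⟩
  have hcm := Subgroup.commutator_mem_commutator (Subgroup.commutator_mem_commutator hxW hyW) hxW
  rw [hcl, Subgroup.mem_bot, commutatorElement_eq_one_iff_mul_comm] at hcm
  have hc : ⁅x, y⁆ = r * r := by
    rw [commutatorElement_def, CfsgLib.Invol.invol_inv hx2, CfsgLib.Invol.invol_inv hy2, hr]; group
  rw [hc] at hcm
  have h4 : r ^ 4 = 1 := by
    have h1 : x * (r * r) * x⁻¹ = (r * r)⁻¹ := by
      rw [show x * (r * r) * x⁻¹ = (x * r * x⁻¹) * (x * r * x⁻¹) by group, hxr, mul_inv_rev]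
    rw [← hcm, mul_inv_cancel_right] at h1
    have h2 : r * r * (r * r) = 1 := mul_eq_one_iff_eq_inv.2 h1
    simpa [pow_succ, mul_assoc] using h2
  have hle := Nat.le_of_dvd (by norm_num) (orderOf_dvd_of_pow_eq_one h4)
  obtain ⟨m, hm⟩ := heven
  omega

end Cfsg.Agent.S1176
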