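import Cfsg.Statements.S1178
import Cfsg.Agent.Lib.Invol.WeaklyClosed


set_option autoImplicit false
open Cfsg

namespace Cfsg.Agent.S1178

/-- Let A be a subgroup of a Sylow 2-subgroup S of the finite group G which is weakly closed in S. If a conjugate g A g⁻¹ commutes elementwise with A, then g A g⁻¹ = A. -/
theorem result {G : Type*} [Group G] [Finite G] (S : Sylow 2 G) (A : Subgroup G) (hW : Cfsg.IsWeaklyClosed A (S : Subgroup G)) (g : G) (hc : ∀ a ∈ A, ∀ b ∈ A.map (MulAut.conj g).toMonoidHom, a * b = b * a) : A.map (MulAut.conj g).toMonoidHom = A := by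
  set B := A.map (MulAut.conj g).toMonoidHom with hBdef
  have hp : IsPGroup 2 A := S.2.to_le hW.1
  have hN : A ≤ Subgroup.normalizer (B : Set G) := by
    intro x hx
    rw [Subgroup.mem_normalizer_iff]
    intro y
    constructor
    · intro hy
      rw [hc x hx y hy, mul_inv_cancel_right]; exact hy
    · intro hy
      have h1 := hc x⁻¹ (inv_mem hx) _ hy
      have e : y = x * y * x⁻¹ * x⁻¹ * x := by
        calc y = x⁻¹ * (x * y * x⁻¹) * x := by group
          _ = _ := by rw [h1]
      have h2 : y = x * y * x⁻¹ := by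
        rw [mul_assoc _ x⁻¹ x, inv_mul_cancel, mul_one] at e; exact e
      rw [h2]; exact hy
  have hsup : IsPGroup 2 (A ⊔ B : Subgroup G) := hp.to_sup_of_normal_right' (hp.map _) hN
  have h1 := CfsgLib.Invol.conj_eq_of_le_pGroup S hW hsup (a := g) (b := 1) le_sup_right
    (by rw [CfsgLib.Invol.conj_map_one]; exact le_sup_left)
  rwa [CfsgLib.Invol.conj_map_one] at h1

end Cfsg.Agent.S1178
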