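import Cfsg.Statements.S1181
import Cfsg.Agent.Lib.Invol.Isolated


set_option autoImplicit false
open Cfsg

namespace Cfsg.Agent.S1181

/-- Let z be an isolated involution of the finite group G and N a normal subgroup with z ∉ N. Then the centralizer of zN in G/N is the image of C_G(z), and zN is an isolated involution of G/N. -/
theorem result {G : Type*} [Group G] [Finite G] (z : G) (hz : Cfsg.IsIsolatedInvolution z) (N : Subgroup G) [N.Normal] (hzN : z ∉ N) : Subgroup.centralizer ({(QuotientGroup.mk z : G ⧸ N)} : Set (G ⧸ N)) = (Subgroup.centralizer ({z} : Set G)).map (QuotientGroup.mk' N) ∧ Cfsg.IsIsolatedInvolution (QuotientGroup.mk z : G ⧸ N) := by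
  set q := QuotientGroup.mk' N with hq
  have hzq : orderOf (q z) = 2 := by
    rw [CfsgLib.Invol.invol_iff, ← map_mul, CfsgLib.Invol.invol_mul_self hz.1, map_one]
    exact ⟨rfl, fun h => hzN ((QuotientGroup.eq_one_iff z).1 h)⟩
  refine ⟨?_, hzq, fun c hc => ?_⟩
  · refine le_antisymm (fun c hc => ?_) ?_
    · obtain ⟨g, rfl⟩ := QuotientGroup.mk_surjective c
      rw [Subgroup.mem_centralizer_singleton_iff] at hc
      obtain ⟨d, hd, h⟩ := CfsgLib.Invol.exists_conj_zpowers hz g
      have hmem : z * (g * z * g⁻¹) ∈ N := by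
        rw [← QuotientGroup.eq_one_iff]
        show q (z * (g * z * g⁻¹)) = 1
        have hc' : q g * q z = q z * q g := hc
        rw [map_mul, map_mul, map_mul, map_inv, hc', mul_inv_cancel_right,
          CfsgLib.Invol.invol_mul_self hzq]
      have hdN : d ∈ N := Subgroup.zpowers_le.2 hmem hd
      refine Subgroup.mem_map.2 ⟨d⁻¹ * g, Subgroup.mem_centralizer_singleton_iff.2 ?_, ?_⟩
      · calc d⁻¹ * g * z = d⁻¹ * (g * z * g⁻¹) * g := by group
          _ = d⁻¹ * (d * z * d⁻¹) * g := by rw [h]
          _ = z * (d⁻¹ * g) := by group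
      · show q (d⁻¹ * g) = q g
        have h1 : q d = 1 := (QuotientGroup.eq_one_iff d).2 hdN
        rw [map_mul, map_inv, h1, inv_one, one_mul]
    · rintro _ ⟨g, hg, rfl⟩
      rw [Subgroup.mem_centralizer_singleton_iff]
      have h := congrArg q (Subgroup.mem_centralizer_singleton_iff.1 hg)
      rw [map_mul, map_mul] at h
      exact h
  · obtain ⟨g, rfl⟩ := QuotientGroup.mk_surjective c
    have hc' : Commute (q z) (q (g * z * g⁻¹)) := by rw [map_mul, map_mul, map_inv]; exact hc
    have hodd := CfsgLib.Invol.odd_mul_conj hz g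
    have ho : orderOf (q (g * z * g⁻¹)) = 2 := by
      rw [map_mul, map_mul, map_inv]; exact CfsgLib.Invol.invol_conj hzq _
    have hd : orderOf (q (z * (g * z * g⁻¹))) ∣ 2 := by
      apply orderOf_dvd_of_pow_eq_one
      rw [map_mul, hc'.mul_pow, pow_two, pow_two, CfsgLib.Invol.invol_mul_self hzq,
        CfsgLib.Invol.invol_mul_self ho, one_mul]
    have h1 : q (z * (g * z * g⁻¹)) = 1 :=
      CfsgLib.Invol.eq_one_of_odd_of_pow_two (k := 1)
        (hodd.of_dvd_nat (orderOf_map_dvd q _)) (orderOf_dvd_iff_pow_eq_one.1 hd)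
    rw [map_mul, map_mul, map_mul, map_inv] at h1
    exact (inv_eq_of_mul_eq_one_right h1).symm.trans (CfsgLib.Invol.invol_inv hzq)

end Cfsg.Agent.S1181
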