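import Cfsg.Statements.S1182
import Cfsg.Agent.Lib.Invol.Isolated


set_option autoImplicit false
open Cfsg

namespace Cfsg.Agent.S1182

/-- Let z be an isolated involution of the finite group G and H a subgroup normalized by z. If x, y ∈ H both commute with z and y = h x h⁻¹ for some h ∈ H, then y = c x c⁻¹ for some c ∈ H commuting with z. -/
theorem result {G : Type*} [Group G] [Finite G] (z : G) (hz : Cfsg.IsIsolatedInvolution z) (H : Subgroup G) (hzH : z ∈ Subgroup.normalizer (H : Set G)) (x y : G) (hx : x ∈ H) (hy : y ∈ H) (hxz : Commute x z) (hyz : Commute y z) (h : G) (hh : h ∈ H) (hconj : h * x * h⁻¹ = y) : ∃ c ∈ H, Commute c z ∧ c * x * c⁻¹ = y := by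
  set v := h⁻¹ * z * h with hv
  obtain ⟨d, hd, hdz⟩ := CfsgLib.Invol.exists_conj_zpowers hz h⁻¹
  rw [inv_inv, ← hv] at hd hdz
  have hzi : z * h⁻¹ * z⁻¹ ∈ H := (Subgroup.mem_normalizer_iff.1 hzH h⁻¹).1 (inv_mem hh)
  have hmem : z * v ∈ H := by
    rw [CfsgLib.Invol.invol_inv hz.1] at hzi
    have : z * v = z * h⁻¹ * z * h := by rw [hv]; group
    rw [this]; exact mul_mem hzi hh
  have hzy : z * y = y * z := hyz.symm.eq
  have hvx : Commute v x := by
    show h⁻¹ * z * h * x = x * (h⁻¹ * z * h)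
    calc h⁻¹ * z * h * x = h⁻¹ * (z * (h * x * h⁻¹)) * h := by group
      _ = h⁻¹ * (h * x * h⁻¹ * z) * h := by rw [hconj, hzy]
      _ = x * (h⁻¹ * z * h) := by group
  have hdx : Commute d x := by
    obtain ⟨k, rfl⟩ := Subgroup.mem_zpowers_iff.1 hd
    exact ((hxz.symm.mul_left hvx).zpow_left k)
  refine ⟨h * d, mul_mem hh (Subgroup.zpowers_le.2 hmem hd), ?_, ?_⟩
  · show h * d * z = z * (h * d)
    calc h * d * z = h * (d * z * d⁻¹) * d := by group
      _ = h * (h⁻¹ * z * h) * d := by rw [hdz, hv]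
      _ = z * (h * d) := by group
  · calc h * d * x * (h * d)⁻¹ = h * (d * x) * (d⁻¹ * h⁻¹) := by group
      _ = h * (x * d) * (d⁻¹ * h⁻¹) := by rw [hdx.eq]
      _ = h * x * h⁻¹ := by group
      _ = y := hconj

end Cfsg.Agent.S1182
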