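import Cfsg.Statements.S1184
import Cfsg.Agent.Lib.Invol.Isolated


set_option autoImplicit false
open Cfsg

namespace Cfsg.Agent.S1184

/-- Let z be an isolated involution of the finite group G. If s and t are distinct conjugates of z, then st does not commute with z. -/
theorem result {G : Type*} [Group G] [Finite G] (z : G) (hz : Cfsg.IsIsolatedInvolution z) (g h : G) (hne : g * z * g⁻¹ ≠ h * z * h⁻¹) : ¬ Commute (g * z * g⁻¹ * (h * z * h⁻¹)) z := by
  intro hc
  set v := g * z * g⁻¹ with hv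
  set w := h * z * h⁻¹ with hw
  have hvo : orderOf v = 2 := CfsgLib.Invol.invol_conj hz.1 g
  have hwo : orderOf w = 2 := CfsgLib.Invol.invol_conj hz.1 h
  set a := v * w with ha
  have hodd : Odd (orderOf a) := CfsgLib.Invol.odd_conj_mul_conj hz g h
  set b := z * v with hb
  obtain ⟨m, hm⟩ := CfsgLib.Invol.odd_mul_conj hz g
  have hzi : z * a * z⁻¹ = a := by rw [← hc.eq, mul_inv_cancel_right]
  have hba : b * a * b⁻¹ = a⁻¹ := by
    calc b * a * b⁻¹ = z * (v * a * v⁻¹) * z⁻¹ := by rw [hb]; group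
      _ = z * a⁻¹ * z⁻¹ := by rw [ha, CfsgLib.Invol.invol_conj_mul hvo hwo]
      _ = (z * a * z⁻¹)⁻¹ := by group
      _ = a⁻¹ := by rw [hzi]
  have hb2 : Commute (b ^ 2) a := by
    have : b ^ 2 * a * (b ^ 2)⁻¹ = a := by
      calc b ^ 2 * a * (b ^ 2)⁻¹ = b * (b * a * b⁻¹) * b⁻¹ := by rw [pow_two]; group
        _ = b * a⁻¹ * b⁻¹ := by rw [hba]
        _ = (b * a * b⁻¹)⁻¹ := by group
        _ = a := by rw [hba, inv_inv]
    exact mul_inv_eq_iff_eq_mul.1 this
  have hbc : Commute b a := by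
    have hbo : b ^ (2 * m + 1) = 1 := by
      rw [← hm]; exact pow_orderOf_eq_one _
    have : b = (b ^ 2) ^ (m + 1) := by
      rw [← pow_mul, show 2 * (m + 1) = (2 * m + 1) + 1 by ring, pow_succ, hbo, one_mul]
    rw [this]; exact hb2.pow_left _
  rw [hbc.eq, mul_inv_cancel_right] at hba
  have ha1 : a = 1 := CfsgLib.Invol.eq_one_of_odd_of_pow_two (k := 1) hodd
    (by rw [pow_one, pow_two]; nth_rewrite 2 [hba]; exact mul_inv_cancel _)
  exact hne ((inv_eq_of_mul_eq_one_right ha1).symm.trans (CfsgLib.Invol.invol_inv hvo)).symm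

end Cfsg.Agent.S1184
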