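import Cfsg.Statements.S1189
import Cfsg.Agent.Lib.Invol.QuasiDihedralSubgroups


set_option autoImplicit false
open Cfsg

namespace Cfsg.Agent.S1189

/-- A quasi-dihedral 2-group has exactly two conjugacy classes of elements of order 2 and exactly two conjugacy classes of elements of order 4. -/
theorem result {S : Type*} [Group S] [Finite S] (hS : Cfsg.IsQuasiDihedral S) : Nat.card {C : ConjClasses S // ∃ t : S, orderOf t = 2 ∧ ConjClasses.mk t = C} = 2 ∧ Nat.card {C : ConjClasses S // ∃ t : S, orderOf t = 4 ∧ ConjClasses.mk t = C} = 2 := by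
  obtain ⟨k, a, b, -, -, Q⟩ := CfsgLib.Invol.exists_qdFrame hS
  set h : ℤ := 2 ^ (k - 2)
  have hne : ∀ (n : ℕ) (u v : S), ¬ IsConj u v → orderOf u = n → orderOf v = n →
      (∀ t : S, orderOf t = n → IsConj t u ∨ IsConj t v) →
      Nat.card {C : ConjClasses S // ∃ t : S, orderOf t = n ∧ ConjClasses.mk t = C} = 2 := by
    intro n u v huv hu hv hall
    have hset : {C : ConjClasses S | ∃ t : S, orderOf t = n ∧ ConjClasses.mk t = C} =
        {ConjClasses.mk u, ConjClasses.mk v} := by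
      ext C
      constructor
      · rintro ⟨t, ht, rfl⟩
        rcases hall t ht with h' | h'
        · exact Or.inl (ConjClasses.mk_eq_mk_iff_isConj.2 h')
        · exact Or.inr (ConjClasses.mk_eq_mk_iff_isConj.2 h')
      · rintro (rfl | rfl)
        · exact ⟨u, hu, rfl⟩
        · exact ⟨v, hv, rfl⟩
    calc Nat.card {C : ConjClasses S // ∃ t : S, orderOf t = n ∧ ConjClasses.mk t = C}
        = ({C : ConjClasses S | ∃ t : S, orderOf t = n ∧ ConjClasses.mk t = C}).ncard :=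
          Nat.card_coe_set_eq _
      _ = 2 := by rw [hset, Set.ncard_pair fun e => huv (ConjClasses.mk_eq_mk_iff_isConj.1 e)]
  refine ⟨hne 2 (a ^ (2 * h)) (a ^ (0 : ℤ) * b) ?_ Q.orderOf_center (Q.orderOf_ref_even ⟨0, rfl⟩) ?_,
    hne 4 (a ^ h) (a ^ (1 : ℤ) * b) ?_ Q.orderOf_quarter (Q.orderOf_ref_odd (by omega)) ?_⟩
  · intro hc
    obtain ⟨g, hg⟩ := isConj_iff.1 hc
    rw [Q.center_commute g, mul_inv_cancel_right] at hg
    exact Q.ne_mul _ _ hg
  · intro t ht
    rcases Q.invol_cases (by rw [← ht, pow_orderOf_eq_one]) with rfl | rfl | ⟨i, hi, rfl⟩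
    · rw [orderOf_one] at ht; omega
    · exact Or.inl (IsConj.refl _)
    · obtain ⟨l, hl⟩ := Q.exists_conj_ref (i := i) (j := 0) (by omega)
      exact Or.inr (isConj_iff.2 ⟨_, hl⟩)
  · intro hc
    obtain ⟨g, hg⟩ := isConj_iff.1 hc
    rcases Q.conj_quarter g with h' | h' <;> rw [h'] at hg <;> exact Q.ne_mul _ _ hg
  · intro t ht
    have hsq : t ^ 2 ≠ 1 := fun e => by
      have := orderOf_dvd_of_pow_eq_one e; rw [ht] at this; norm_num at this
    rcases Q.order_four_cases (by rw [← ht, pow_orderOf_eq_one]) hsq with rfl | rfl | ⟨i, hi, rfl⟩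
    · exact Or.inl (IsConj.refl _)
    · refine Or.inl (isConj_iff.2 ⟨a ^ (0 : ℤ) * b, ?_⟩)
      obtain ⟨u, hu⟩ := Q.even
      rw [mul_inv_eq_iff_eq_mul, Q.ref_rot, CfsgLib.Invol.CyclicFrame.rot_mul_ref, Q.ref_eq_iff]
      exact ⟨u, by rw [hu]; ring⟩
    · obtain ⟨l, hl⟩ := Q.exists_conj_ref (i := i) (j := 1) (by omega)
      exact Or.inr (isConj_iff.2 ⟨_, hl⟩)

end Cfsg.Agent.S1189
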