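import Cfsg.Statements.S1191
import Cfsg.Agent.Lib.Invol.QuasiDihedralSubgroups


set_option autoImplicit false
open Cfsg

namespace Cfsg.Agent.S1191

/-- In a quasi-dihedral 2-group S, any two subgroups isomorphic to the quaternion group of order 8 are conjugate, and each such subgroup Q satisfies C_S(Q) = Z(Q) and |N_S(Q) : Q| = 2. -/
theorem result {S : Type*} [Group S] [Finite S] (hS : Cfsg.IsQuasiDihedral S) : (∀ Q₁ Q₂ : Subgroup S, Nonempty (Q₁ ≃* QuaternionGroup 2) → Nonempty (Q₂ ≃* QuaternionGroup 2) → ∃ s : S, Q₁.map (MulAut.conj s).toMonoidHom = Q₂) ∧ (∀ Q : Subgroup S, Nonempty (Q ≃* QuaternionGroup 2) → Subgroup.centralizer (Q : Set S) = (Subgroup.center Q).map Q.subtype ∧ Q.relIndex (Subgroup.normalizer (Q : Set S)) = 2) := by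
  obtain ⟨k, a, b, hk, hcard, Q⟩ := CfsgLib.Invol.exists_qdFrame hS
  set h : ℤ := 2 ^ (k - 2) with hh
  have h2 : IsPGroup 2 S := IsPGroup.of_card (n := k + 1) hcard
  haveI : Fact (Nat.Prime 2) := ⟨Nat.prime_two⟩
  refine ⟨fun Q₁ Q₂ h₁ h₂ => ?_, fun R hR => ?_⟩
  · obtain ⟨i, hi, hi'⟩ := Q.quaternion_eq Q₁ h₁
    obtain ⟨j, hj, hj'⟩ := Q.quaternion_eq Q₂ h₂
    obtain ⟨l, hl⟩ := Q.exists_conj_ref (i := i) (j := j) (by omega)
    obtain ⟨U₁, a1, b1, c1⟩ := Q.exists_sub (i := i) (d := h) ⟨2, by ring⟩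
    obtain ⟨U₂, a2, b2, c2⟩ := Q.exists_sub (i := j) (d := h) ⟨2, by ring⟩
    obtain rfl := hi' U₁ a1 b1 c1
    obtain rfl := hj' U₂ a2 b2 c2
    refine ⟨a ^ l, Subgroup.eq_of_le_of_card_ge ?_ ?_⟩
    · rintro _ ⟨x, hx, rfl⟩
      show a ^ l * x * (a ^ l)⁻¹ ∈ Q₂
      obtain ⟨q, rfl | rfl⟩ := Q.exists_eq x
      · rw [((Commute.refl a).zpow_zpow l q).eq, mul_inv_cancel_right]
        exact (a2 q).2 ((a1 q).1 hx)
      · rw [show q = (q - i) + i by ring, zpow_add, mul_assoc (a ^ (q - i)),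
          show a ^ l * (a ^ (q - i) * (a ^ i * b)) * (a ^ l)⁻¹ =
            (a ^ l * a ^ (q - i)) * (a ^ i * b) * (a ^ l)⁻¹ by group,
          ((Commute.refl a).zpow_zpow l (q - i)).eq, mul_assoc, mul_assoc (a ^ (q - i)), ← mul_assoc (a ^ l),
          hl, CfsgLib.Invol.CyclicFrame.rot_mul_ref]
        exact (b2 _).2 (by simpa using (b1 q).1 hx)
    · rw [Subgroup.card_map_of_injective (MulAut.conj _).injective, c1 4 (by push_cast; ring),
        c2 4 (by push_cast; ring)]
  · obtain ⟨i, hi, hi'⟩ := Q.quaternion_eq R hR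
    obtain ⟨U, a1, b1, c1⟩ := Q.exists_sub (i := i) (d := h) ⟨2, by ring⟩
    obtain rfl := hi' U a1 b1 c1
    have hzR : a ^ (2 * h) ∈ R := (a1 _).2 ⟨2, by ring⟩
    have hnd : ¬ 2 * h ∣ h := fun hd => by
      have := Q.two_le
      have := Int.le_of_dvd (by omega) hd
      omega
    have hC : Subgroup.centralizer (R : Set S) = Subgroup.zpowers (a ^ (2 * h)) := by
      refine le_antisymm (fun x hx => ?_) (Subgroup.zpowers_le.2
        (Subgroup.mem_centralizer_iff.2 fun y _ => Q.center_commute y))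
      have h1 := Subgroup.mem_centralizer_iff.1 hx (a ^ i * b) ((b1 i).2 (by simp))
      obtain ⟨j, rfl | rfl⟩ := Q.exists_eq x
      · obtain ⟨q, hq⟩ := Q.rot_ref_commute_iff.1 h1.symm
        exact Subgroup.mem_zpowers_iff.2 ⟨q, by rw [← zpow_mul, hq]⟩
      · exact absurd (Q.rot_ref_commute_iff.1
          (Subgroup.mem_centralizer_iff.1 hx (a ^ h) ((a1 h).2 dvd_rfl))) hnd
    refine ⟨?_, ?_⟩
    · rw [hC]
      refine le_antisymm (Subgroup.zpowers_le.2 ?_) ?_
      · exact ⟨⟨_, hzR⟩, Subgroup.mem_center_iff.2 fun y => Subtype.ext (Q.center_commute y), rfl⟩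
      · rw [← hC]
        rintro _ ⟨c, hc, rfl⟩
        exact Subgroup.mem_centralizer_iff.2 fun y hy =>
          congrArg Subtype.val (Subgroup.mem_center_iff.1 hc ⟨y, hy⟩)
    · set N := Subgroup.normalizer (R : Set S)
      obtain ⟨u, hu⟩ := Q.even
      obtain ⟨V, a3, b3, c3⟩ := Q.exists_sub (i := i) (d := u) ⟨4, by rw [hu]; ring⟩
      have hNV : N ≤ V := fun g hg => by
        have h1 := (Subgroup.mem_normalizer_iff.1 hg _).1 ((b1 i).2 (by simp))
        obtain ⟨l, rfl | rfl⟩ := Q.exists_eq g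
        · rw [CfsgLib.Invol.CyclicFrame.rot_mul_ref, ← zpow_neg, Q.ref_rot, b1] at h1
          refine (a3 l).2 ?_
          rw [show l + i + (2 * h - 1) * -l - i = 2 * l - h * (2 * l) by ring, dvd_sub_left (dvd_mul_right h _),
            hu, mul_dvd_mul_iff_left two_ne_zero] at h1
          exact h1
        · have h5 : a ^ l * b * (a ^ i * b) * (a ^ l * b)⁻¹ = a ^ (l + (2 * h - 1) * (i - l)) * b := by
            rw [mul_inv_eq_iff_eq_mul, Q.ref_ref, Q.ref_ref, Q.zpow_eq_iff]
            exact ⟨0, by ring⟩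
          rw [h5, b1] at h1
          refine (b3 l).2 ?_
          rw [show l + (2 * h - 1) * (i - l) - i = 2 * (l - i) + h * (2 * (i - l)) by ring,
            dvd_add_left (dvd_mul_right h _), hu, mul_dvd_mul_iff_left two_ne_zero] at h1
          exact h1
      have hle : R ≤ N := Subgroup.le_normalizer
      have hN16 : Nat.card N ∣ 16 := by
        have := c3 8 (by rw [hu]; push_cast; ring)
        rw [show 16 = 2 * 8 from rfl, ← this]; exact Subgroup.card_dvd_of_le hNV
      have hR8 : Nat.card R = 8 := c1 4 (by push_cast; ring)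
      have hlt : R < ⊤ := by
        refine lt_top_iff_ne_top.2 fun e => ?_
        rw [e, Subgroup.card_top, hcard] at hR8
        have : 2 ^ 4 ≤ 2 ^ (k + 1) := Nat.pow_le_pow_right two_pos (by omega)
        omega
      haveI : Group.IsNilpotent S := h2.isNilpotent
      have hne := Group.normalizerCondition_of_isNilpotent (G := S) R hlt
      have h1 := (R.subgroupOf N).card_mul_index
      rw [Nat.card_congr (Subgroup.subgroupOfEquivOfLe hle).toEquiv, hR8] at h1
      have h2' : 8 < Nat.card N := by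
        refine hR8 ▸ lt_of_le_of_ne (Subgroup.card_le_of_le hle) fun e => ?_
        exact hne.ne (Subgroup.eq_of_le_of_card_ge hle e.ge)
      have := Nat.le_of_dvd (by norm_num) hN16
      show (R.subgroupOf N).index = 2
      omega

end Cfsg.Agent.S1191
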