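import Cfsg.Statements.S1192
import Cfsg.Agent.Lib.Invol.QuasiDihedralMaximal


set_option autoImplicit false
open Cfsg

namespace Cfsg.Agent.S1192

/-- A quasi-dihedral group S of order 2^(n+1) has exactly three maximal subgroups; one is cyclic, one is isomorphic to the generalized quaternion group of order 2^n and one to the dihedral group of order 2^n. -/
theorem result {S : Type*} [Group S] [Finite S] (hS : Cfsg.IsQuasiDihedral S) (n : ℕ) (hn : Nat.card S = 2 ^ (n + 1)) : ∃ M₁ M₂ M₃ : Subgroup S, IsCoatom M₁ ∧ IsCoatom M₂ ∧ IsCoatom M₃ ∧ M₁ ≠ M₂ ∧ M₁ ≠ M₃ ∧ M₂ ≠ M₃ ∧ (∀ M : Subgroup S, IsCoatom M → M = M₁ ∨ M = M₂ ∨ M = M₃) ∧ IsCyclic M₁ ∧ Nonempty (M₂ ≃* QuaternionGroup (2 ^ (n - 2))) ∧ Nonempty (M₃ ≃* DihedralGroup (2 ^ (n - 1))) := by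
  obtain ⟨k, a, b, hk, hc, Q⟩ := CfsgLib.Invol.exists_qdFrame hS
  obtain rfl : n = k := by
    have := Nat.pow_right_injective (le_refl 2) (hn.symm.trans hc)
    omega
  have h2 : IsPGroup 2 S := IsPGroup.of_card (n := n + 1) hc
  set h : ℤ := 2 ^ (n - 2) with hh
  obtain ⟨N, hN, F⟩ := Q.frame
  obtain ⟨u, hu⟩ := Q.even
  obtain ⟨U, a2, b2, c2⟩ := Q.exists_sub (i := 1) (d := 2) (dvd_mul_right 2 h)
  obtain ⟨V, a3, b3, c3⟩ := Q.exists_sub (i := 0) (d := 2) (dvd_mul_right 2 h)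
  set t : ℕ := 2 ^ (n - 1) with ht
  have htz : (4 : ℤ) * h = 2 * (t : ℤ) := by
    rw [hh, ht]; push_cast
    rw [show n - 1 = n - 2 + 1 by omega, pow_succ]; ring
  have hN2 : Nat.card S = 2 * t * 2 := by
    rw [hc, ht, show n + 1 = n - 1 + 2 by omega, pow_add]; ring
  have hU : U.index = 2 := by
    have := U.card_mul_index
    rw [c2 t htz, hN2] at this
    exact Nat.eq_of_mul_eq_mul_left (by positivity) this
  have hV : V.index = 2 := by
    have := V.card_mul_index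
    rw [c3 t htz, hN2] at this
    exact Nat.eq_of_mul_eq_mul_left (by positivity) this
  have hA : ∀ {i : ℤ}, a ^ i * b ∉ Subgroup.zpowers a := fun {i} => F.zpowers_mem_iff
  refine ⟨Subgroup.zpowers a, U, V, CfsgLib.Invol.isCoatom_of_index_two F.index_two,
    CfsgLib.Invol.isCoatom_of_index_two hU, CfsgLib.Invol.isCoatom_of_index_two hV, ?_, ?_, ?_, ?_,
    inferInstance, ?_, ?_⟩
  · intro e; exact hA (e.ge ((b2 1).2 (by simp)))
  · intro e; exact hA (e.ge ((b3 0).2 (by simp)))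
  · intro e
    have h1 := (b3 1).1 (e.le ((b2 1).2 (by simp)))
    omega
  · intro M hM
    rcases Q.coatom_cases h2 hM with e | e
    · exact Or.inl e
    · by_cases h0 : a ^ (0 : ℤ) * b ∈ M
      · exact Or.inr (Or.inr (e V 0 (Or.inl rfl) h0 a3 b3))
      · by_cases ha : a ^ (1 : ℤ) ∈ M
        · refine Or.inl ?_
          rcases (CfsgLib.Invol.isCoatom_of_index_two F.index_two).le_iff.1
            (Subgroup.zpowers_le.2 (by simpa using ha)) with h' | h'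
          · exact absurd h' hM.1
          · exact h'
        · refine Or.inr (Or.inl (e U 1 (Or.inr rfl) ?_ a2 b2))
          rw [show a ^ (1 : ℤ) * b = a ^ (1 : ℤ) * (a ^ (0 : ℤ) * b) by simp,
            Subgroup.mul_mem_iff_of_index_two (CfsgLib.Invol.index_coatom_two h2 hM)]
          exact iff_of_false ha h0
  · -- the quaternion one
    have ha2 : a ^ (2 : ℤ) ∈ U := (a2 _).2 dvd_rfl
    have hab : a ^ (1 : ℤ) * b ∈ U := (b2 1).2 (by simp)
    have F' : CfsgLib.Invol.CyclicFrame (2 * 2 ^ (n - 2)) (-1) ((2 ^ (n - 2) : ℕ) : ℤ)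
        (⟨_, ha2⟩ : U) (⟨_, hab⟩ : U) := by
      have htt : 2 * 2 ^ (n - 2) = t := by rw [ht, ← pow_succ']; congr 1; omega
      have hnat : ((2 ^ (n - 2) : ℕ) : ℤ) = h := by rw [hh]; push_cast; rfl
      refine ⟨?_, by rw [c2 t htz, htt], ?_, ?_, ?_, by positivity⟩
      · rw [Subgroup.orderOf_mk, htt]
        have key : ∀ m : ℕ, (a ^ (2 : ℤ)) ^ m = 1 ↔ t ∣ m := by
          intro m
          rw [← zpow_natCast, ← zpow_mul, Q.zpow_eq_one_iff, htz, mul_dvd_mul_iff_left two_ne_zero,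
            Int.natCast_dvd_natCast]
        exact Nat.dvd_antisymm (orderOf_dvd_of_pow_eq_one ((key t).2 dvd_rfl))
          ((key _).1 (pow_orderOf_eq_one _))
      · intro hmem
        obtain ⟨j, hj⟩ := Subgroup.mem_zpowers_iff.1 hmem
        have hj' : (a ^ (2 : ℤ)) ^ j = a ^ (1 : ℤ) * b := by simpa using congrArg Subtype.val hj
        rw [← zpow_mul] at hj'
        exact Q.ne_mul _ _ hj'
      · refine Subtype.ext ?_
        show a ^ (1 : ℤ) * b * a ^ (2 : ℤ) * (a ^ (1 : ℤ) * b)⁻¹ = ((⟨a ^ (2 : ℤ), ha2⟩ : U) ^ (-1 : ℤ) : U)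
        rw [F.ref_conj_rot, SubgroupClass.coe_zpow, ← zpow_mul, Q.zpow_eq_iff]
        exact ⟨-1, by ring⟩
      · refine Subtype.ext ?_
        show a ^ (1 : ℤ) * b * (a ^ (1 : ℤ) * b) = (((⟨a ^ (2 : ℤ), ha2⟩ : U) ^ ((2 ^ (n - 2) : ℕ) : ℤ) : U) : S)
        rw [← pow_two, Q.ref_sq, SubgroupClass.coe_zpow, ← zpow_mul, hnat]
        congr 1; ring
    exact F'.quaternionEquiv
  · -- the dihedral one
    have ha2 : a ^ (2 : ℤ) ∈ V := (a3 _).2 dvd_rfl
    have hab : a ^ (0 : ℤ) * b ∈ V := (b3 0).2 (by simp)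
    have F' : CfsgLib.Invol.CyclicFrame (2 ^ (n - 1)) (-1) 0 (⟨_, ha2⟩ : V) (⟨_, hab⟩ : V) := by
      refine ⟨?_, c3 t htz, ?_, ?_, ?_, by positivity⟩
      · rw [Subgroup.orderOf_mk]
        have key : ∀ m : ℕ, (a ^ (2 : ℤ)) ^ m = 1 ↔ t ∣ m := by
          intro m
          rw [← zpow_natCast, ← zpow_mul, Q.zpow_eq_one_iff, htz, mul_dvd_mul_iff_left two_ne_zero,
            Int.natCast_dvd_natCast]
        exact Nat.dvd_antisymm (orderOf_dvd_of_pow_eq_one ((key t).2 dvd_rfl))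
          ((key _).1 (pow_orderOf_eq_one _))
      · intro hmem
        obtain ⟨j, hj⟩ := Subgroup.mem_zpowers_iff.1 hmem
        have hj' : (a ^ (2 : ℤ)) ^ j = a ^ (0 : ℤ) * b := by simpa using congrArg Subtype.val hj
        rw [← zpow_mul] at hj'
        exact Q.ne_mul _ _ hj'
      · refine Subtype.ext ?_
        show a ^ (0 : ℤ) * b * a ^ (2 : ℤ) * (a ^ (0 : ℤ) * b)⁻¹ = ((⟨a ^ (2 : ℤ), ha2⟩ : V) ^ (-1 : ℤ) : V)
        rw [F.ref_conj_rot, SubgroupClass.coe_zpow, ← zpow_mul, Q.zpow_eq_iff]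
        exact ⟨-1, by ring⟩
      · refine Subtype.ext ?_
        show a ^ (0 : ℤ) * b * (a ^ (0 : ℤ) * b) = (((⟨a ^ (2 : ℤ), ha2⟩ : V) ^ (0 : ℤ) : V) : S)
        rw [← pow_two, Q.ref_sq]; simp
    exact F'.dihedralEquiv

end Cfsg.Agent.S1192
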