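import Cfsg.Statements.S1193
import Cfsg.Agent.Lib.Invol.QuasiDihedralMaximal


set_option autoImplicit false
open Cfsg

namespace Cfsg.Agent.S1193

/-- Let S be quasi-dihedral of order 2^(n+1). Then S' = Φ(S) is cyclic of order 2^(n-1), the centre of S has order 2, and the subgroup generated by the involutions of S is dihedral of order 2^n. -/
theorem result {S : Type*} [Group S] [Finite S] (hS : Cfsg.IsQuasiDihedral S) (n : ℕ) (hn : Nat.card S = 2 ^ (n + 1)) : commutator S = frattini S ∧ IsCyclic (commutator S) ∧ Nat.card (commutator S) = 2 ^ (n - 1) ∧ Nat.card (Subgroup.center S) = 2 ∧ Nonempty (↥(Subgroup.closure {x : S | orderOf x = 2}) ≃* DihedralGroup (2 ^ (n - 1))) := by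
  obtain ⟨k, a, b, hk, hc, Q⟩ := CfsgLib.Invol.exists_qdFrame hS
  obtain rfl : n = k := by
    have := Nat.pow_right_injective (le_refl 2) (hn.symm.trans hc)
    omega
  have h2 : IsPGroup 2 S := IsPGroup.of_card (n := n + 1) hc
  haveI : Fact (Nat.Prime 2) := ⟨Nat.prime_two⟩
  set h : ℤ := 2 ^ (n - 2) with hh
  obtain ⟨N, hN, F⟩ := Q.frame
  set t : ℕ := 2 ^ (n - 1) with ht
  have htz : (4 : ℤ) * h = 2 * (t : ℤ) := by
    rw [hh, ht]; push_cast
    rw [show n - 1 = n - 2 + 1 by omega, pow_succ]; ring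
  have ho : orderOf (a ^ (2 : ℤ)) = t := by
    have key : ∀ m : ℕ, (a ^ (2 : ℤ)) ^ m = 1 ↔ t ∣ m := by
      intro m
      rw [← zpow_natCast, ← zpow_mul, Q.zpow_eq_one_iff, htz, mul_dvd_mul_iff_left two_ne_zero,
        Int.natCast_dvd_natCast]
    exact Nat.dvd_antisymm (orderOf_dvd_of_pow_eq_one ((key t).2 dvd_rfl))
      ((key _).1 (pow_orderOf_eq_one _))
  refine ⟨by rw [Q.commutator_eq, Q.frattini_eq h2], by rw [Q.commutator_eq]; infer_instance,
    by rw [Q.commutator_eq, Nat.card_zpowers, ho], Q.card_center, ?_⟩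
  obtain ⟨V, a3, b3, c3⟩ := Q.exists_sub (i := 0) (d := 2) (dvd_mul_right 2 h)
  have hclos : Subgroup.closure {x : S | orderOf x = 2} = V := by
    refine le_antisymm ((Subgroup.closure_le _).2 fun x hx => ?_) fun x hx => ?_
    · rcases Q.invol_cases (by rw [← show orderOf x = 2 from hx, pow_orderOf_eq_one]) with rfl | rfl | ⟨i, hi, rfl⟩
      · exact one_mem _
      · exact (a3 _).2 ⟨h, rfl⟩
      · exact (b3 _).2 (by simpa using hi)
    · have hr : ∀ i : ℤ, 2 ∣ i → a ^ i * b ∈ Subgroup.closure {x : S | orderOf x = 2} :=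
        fun i hi => Subgroup.subset_closure (Q.orderOf_ref_even hi)
      obtain ⟨j, rfl | rfl⟩ := Q.exists_eq x
      · have hm := mul_mem (hr j ((a3 j).1 hx)) (hr 0 ⟨0, rfl⟩)
        rw [Q.ref_ref] at hm
        simpa using hm
      · exact hr j (by simpa using (b3 j).1 hx)
  rw [hclos]
  have ha2 : a ^ (2 : ℤ) ∈ V := (a3 _).2 dvd_rfl
  have hab : a ^ (0 : ℤ) * b ∈ V := (b3 0).2 (by simp)
  have F' : CfsgLib.Invol.CyclicFrame (2 ^ (n - 1)) (-1) 0 (⟨_, ha2⟩ : V) (⟨_, hab⟩ : V) := by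
    refine ⟨by rw [Subgroup.orderOf_mk, ho], c3 t htz, ?_, ?_, ?_, by positivity⟩
    · intro hmem
      obtain ⟨j, hj⟩ := Subgroup.mem_zpowers_iff.1 hmem
      have hj' : (a ^ (2 : ℤ)) ^ j = a ^ (0 : ℤ) * b := by simpa using congrArg Subtype.val hj
      rw [← zpow_mul] at hj'
      exact Q.ne_mul _ _ hj'
    · refine Subtype.ext ?_
      show a ^ (0 : ℤ) * b * a ^ (2 : ℤ) * (a ^ (0 : ℤ) * b)⁻¹ = ((⟨a ^ (2 : ℤ), ha2⟩ : V) ^ (-1 : ℤ) : V)
      rw [F.ref_conj_rot, SubgroupClass.coe_zpow, ← zpow_mul, Q.zpow_eq_iff]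
      exact ⟨-1, by ring⟩
    · refine Subtype.ext ?_
      show a ^ (0 : ℤ) * b * (a ^ (0 : ℤ) * b) = (((⟨a ^ (2 : ℤ), ha2⟩ : V) ^ (0 : ℤ) : V) : S)
      rw [← pow_two, Q.ref_sq]; simp
  exact F'.dihedralEquiv

end Cfsg.Agent.S1193
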