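import Cfsg.Statements.S1194
import Cfsg.Agent.Lib.Invol.QuasiDihedralMaximal


set_option autoImplicit false
open Cfsg

namespace Cfsg.Agent.S1194

/-- In a quasi-dihedral 2-group S, every proper normal subgroup is either a maximal subgroup or a cyclic subgroup contained in the derived subgroup S'. -/
theorem result {S : Type*} [Group S] [Finite S] (hS : Cfsg.IsQuasiDihedral S) (N : Subgroup S) [N.Normal] (hN : N ≠ ⊤) : IsCoatom N ∨ (IsCyclic N ∧ N ≤ commutator S) := by
  obtain ⟨k, a, b, hk, hc, Q⟩ := CfsgLib.Invol.exists_qdFrame hS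
  set h : ℤ := 2 ^ (k - 2) with hh
  obtain ⟨M, hM, F⟩ := Q.frame
  by_cases hle : ∀ i : ℤ, a ^ i * b ∉ N
  · have hNA : N ≤ Subgroup.zpowers a := fun x hx => by
      obtain ⟨i, rfl | rfl⟩ := F.exists_eq x
      · exact Subgroup.zpow_mem_zpowers a i
      · exact absurd hx (hle i)
    by_cases hodd : ∃ j : ℤ, a ^ j ∈ N ∧ ¬ 2 ∣ j
    · obtain ⟨j, hj, hj2⟩ := hodd
      left
      have hcop : IsCoprime ((M : ℤ)) j := by
        rw [hM, hh, show (4 : ℤ) = 2 ^ 2 by norm_num, ← pow_add]
        exact IsCoprime.pow_left (Int.prime_two.coprime_iff_not_dvd.2 hj2)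
      obtain ⟨c, d, hcd⟩ := hcop
      have hN' : Subgroup.zpowers a ≤ N := Subgroup.zpowers_le.2 (by
        have h1 := zpow_mem hj d
        rw [← zpow_mul] at h1
        rwa [show a ^ (j * d) = a from by
          conv_rhs => rw [← zpow_one a]
          rw [Q.zpow_eq_iff]
          exact ⟨c, by rw [← hM]; linarith⟩] at h1)
      rw [le_antisymm hNA hN']
      exact CfsgLib.Invol.isCoatom_of_index_two F.index_two
    · push Not at hodd
      right
      refine ⟨?_, ?_⟩
      · exact isCyclic_of_injective (Subgroup.inclusion hNA) (Subgroup.inclusion_injective hNA)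
      · rw [Q.commutator_eq]
        intro x hx
        obtain ⟨j, rfl⟩ := Subgroup.mem_zpowers_iff.1 (hNA hx)
        obtain ⟨l, rfl⟩ := hodd j hx
        rw [zpow_mul]; exact Subgroup.zpow_mem_zpowers _ _
  · push Not at hle
    obtain ⟨i, hi⟩ := hle
    left
    -- `a² ∈ N`, and `N` has index two
    have h1 : a ^ (2 * (h - 1)) ∈ N := by
      have h' := mul_mem hi ((inferInstance : N.Normal).conj_mem _ (inv_mem hi) (a ^ (1 : ℤ)))
      rw [show a ^ i * b * (a ^ (1 : ℤ) * (a ^ i * b)⁻¹ * (a ^ (1 : ℤ))⁻¹) =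
        a ^ i * b * a ^ (1 : ℤ) * (a ^ i * b)⁻¹ * (a ^ (1 : ℤ))⁻¹ by group, F.ref_conj_rot, ← zpow_neg,
        ← zpow_add] at h'
      rwa [show (2 * h - 1) * 1 + -1 = 2 * (h - 1) by ring] at h'
    obtain ⟨u, hu⟩ := Q.even
    have ha2 : ∀ l : ℤ, a ^ (2 * l) ∈ N := fun l => by
      have := zpow_mem h1 ((2 * u - 1) * l)
      rw [← zpow_mul] at this
      rwa [show a ^ (2 * (h - 1) * ((2 * u - 1) * l)) = a ^ (2 * l) from
        Q.zpow_eq_iff.2 ⟨l * (1 - u), by rw [hu]; ring⟩] at this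
    have ha1 : a ^ (1 : ℤ) ∉ N := fun ha => hN (top_le_iff.1 fun x _ => by
      have hall : ∀ j : ℤ, a ^ j ∈ N := fun j => by simpa using zpow_mem ha j
      obtain ⟨j, rfl | rfl⟩ := F.exists_eq x
      · exact hall j
      · have := mul_mem (hall (j - i)) hi
        rwa [CfsgLib.Invol.CyclicFrame.rot_mul_ref, sub_add_cancel] at this)
    refine CfsgLib.Invol.isCoatom_of_index_two ?_
    rw [Subgroup.index_eq_two_iff_exists_notMem_and']
    refine ⟨a ^ (1 : ℤ), ha1, fun x => ?_⟩
    have hall : ∀ j : ℤ, a ^ j ∈ N ∨ a ^ (1 + j) ∈ N := by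
      intro j
      rcases Int.even_or_odd' j with ⟨l, rfl | rfl⟩
      · exact Or.inl (ha2 l)
      · exact Or.inr (by rw [show 1 + (2 * l + 1) = 2 * (l + 1) by ring]; exact ha2 _)
    obtain ⟨j, rfl | rfl⟩ := F.exists_eq x
    · rcases hall j with h' | h'
      · exact Or.inr h'
      · exact Or.inl (by rw [← zpow_add]; exact h')
    · rcases hall (j - i) with h' | h'
      · refine Or.inr ?_
        have := mul_mem h' hi
        rwa [CfsgLib.Invol.CyclicFrame.rot_mul_ref, sub_add_cancel] at this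
      · refine Or.inl ?_
        have := mul_mem h' hi
        rw [CfsgLib.Invol.CyclicFrame.rot_mul_ref, show 1 + (j - i) + i = 1 + j by ring] at this
        rwa [CfsgLib.Invol.CyclicFrame.rot_mul_ref]

end Cfsg.Agent.S1194
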