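import Cfsg.Statements.S1195
import Cfsg.Agent.Lib.Invol.WreathedFacts


set_option autoImplicit false
open Cfsg

namespace Cfsg.Agent.S1195

/-- A wreathed 2-group has exactly three conjugacy classes of elements of order 2. -/
theorem result {S : Type*} [Group S] [Finite S] (hS : Cfsg.IsWreathed S) : Nat.card {C : ConjClasses S // ∃ t : S, orderOf t = 2 ∧ ConjClasses.mk t = C} = 3 := by
  obtain ⟨n, x, y, z, hn, hcard, W⟩ := CfsgLib.Invol.exists_wrFrame hS
  set m : ℤ := 2 ^ (n - 1)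
  set u := x ^ m * y ^ m with hu
  set v := x ^ m * y ^ (0 : ℤ) with hv
  set w := x ^ (0 : ℤ) * y ^ (0 : ℤ) * z with hw
  have hord : ∀ g : S, g ^ 2 = 1 → g ≠ 1 → orderOf g = 2 := fun g h1 h2 => orderOf_eq_prime h1 h2
  have hset : {C : ConjClasses S | ∃ t : S, orderOf t = 2 ∧ ConjClasses.mk t = C} =
      {ConjClasses.mk u, ConjClasses.mk v, ConjClasses.mk w} := by
    ext C
    constructor
    · rintro ⟨t, ht, rfl⟩
      have ht2 : t ^ 2 = 1 := by rw [← ht, pow_orderOf_eq_one]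
      obtain ⟨i, j, rfl | rfl⟩ := W.exists_eq t
      · obtain ⟨hi, hj⟩ := W.rot_sq_eq_one_iff.1 ht2
        rcases W.half_cases hi with hi | hi <;> rcases W.half_cases hj with hj | hj
        · exfalso
          rw [(W.eq_one i j).2 ⟨hi, hj⟩, orderOf_one] at ht
          omega
        · refine Or.inr (Or.inl (ConjClasses.mk_eq_mk_iff_isConj.2
            (isConj_iff.2 ⟨x ^ (0 : ℤ) * y ^ (0 : ℤ) * z, ?_⟩)))
          rw [W.out_conj_rot, hv, W.rot_eq_iff]
          exact ⟨hj, by simpa using hi⟩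
        · refine Or.inr (Or.inl (congrArg ConjClasses.mk ?_))
          rw [hv, W.rot_eq_iff]
          exact ⟨hi, by simpa using hj⟩
        · exact Or.inl (congrArg ConjClasses.mk (W.rot_eq_iff.2 ⟨hi, hj⟩))
      · obtain ⟨k, hk⟩ := W.conj_out_invol (i' := 0) (j' := 0) (W.out_sq_eq_one_iff.1 ht2) (by simp)
        exact Or.inr (Or.inr (ConjClasses.mk_eq_mk_iff_isConj.2 (isConj_iff.2 ⟨_, hk⟩)))
    · rintro (rfl | rfl | rfl)
      · exact ⟨u, W.orderOf_central_invol, rfl⟩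
      · refine ⟨v, hord _ (W.rot_sq_eq_one_iff.2 ⟨dvd_rfl, dvd_zero m⟩) ?_, rfl⟩
        rw [hv, Ne, W.eq_one]; exact fun h => W.not_dvd_half h.1
      · refine ⟨w, hord _ (W.out_sq_eq_one_iff.2 (by simp)) ?_, rfl⟩
        intro h; exact W.rot_ne_out 0 0 0 0 (by simpa [hw] using h.symm)
  have hu' : ∀ g, g * u * g⁻¹ = u := fun g => by
    rw [Subgroup.mem_center_iff.1 (W.mem_center_iff.2 ⟨m, rfl⟩) g, mul_inv_cancel_right]
  have huv : ConjClasses.mk u ≠ ConjClasses.mk v := fun h => by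
    obtain ⟨g, hg⟩ := isConj_iff.1 (ConjClasses.mk_eq_mk_iff_isConj.1 h)
    rw [hu' g, hu, hv, W.rot_eq_iff] at hg
    exact W.not_dvd_half (by simpa using hg.2)
  have huw : ConjClasses.mk u ≠ ConjClasses.mk w := fun h => by
    obtain ⟨g, hg⟩ := isConj_iff.1 (ConjClasses.mk_eq_mk_iff_isConj.1 h)
    rw [hu' g] at hg
    exact W.rot_ne_out _ _ _ _ hg
  have hvw : ConjClasses.mk v ≠ ConjClasses.mk w := fun h => by
    obtain ⟨g, hg⟩ := isConj_iff.1 (ConjClasses.mk_eq_mk_iff_isConj.1 h)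
    obtain ⟨k, l, rfl | rfl⟩ := W.exists_eq g
    · rw [hv, (W.rot_commute k l m 0).eq, mul_inv_cancel_right] at hg
      exact W.rot_ne_out _ _ _ _ hg
    · rw [hv, W.out_conj_rot] at hg
      exact W.rot_ne_out _ _ _ _ hg
  calc Nat.card {C : ConjClasses S // ∃ t : S, orderOf t = 2 ∧ ConjClasses.mk t = C}
      = ({C : ConjClasses S | ∃ t : S, orderOf t = 2 ∧ ConjClasses.mk t = C}).ncard :=
        Nat.card_coe_set_eq _
    _ = 3 := by
      rw [hset]
      exact Set.ncard_eq_three.2 ⟨_, _, _, huv, huw, hvw, rfl⟩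

end Cfsg.Agent.S1195
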