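import Cfsg.Statements.S1196
import Cfsg.Agent.Lib.Invol.WreathedFacts


set_option autoImplicit false
open Cfsg

namespace Cfsg.Agent.S1196

/-- A wreathed 2-group S of order 2^(2n+1) has a unique commutative subgroup of order 2^(2n), and this subgroup is isomorphic to the direct product of two cyclic groups of order 2^n. -/
theorem result {S : Type*} [Group S] [Finite S] (hS : Cfsg.IsWreathed S) (n : ℕ) (hn : Nat.card S = 2 ^ (2 * n + 1)) : (∃! U : Subgroup S, IsMulCommutative U ∧ Nat.card U = 2 ^ (2 * n)) ∧ ∀ U : Subgroup S, IsMulCommutative U → Nat.card U = 2 ^ (2 * n) → Nonempty (U ≃* Multiplicative (ZMod (2 ^ n) × ZMod (2 ^ n))) := by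
  obtain ⟨k, x, y, z, hk, hcard, W⟩ := CfsgLib.Invol.exists_wrFrame hS
  obtain rfl : n = k := by
    have := Nat.pow_right_injective (le_refl 2) (hn.symm.trans hcard)
    omega
  set m : ℤ := 2 ^ (n - 1) with hm
  have hN : ((2 ^ n : ℕ) : ℤ) = 2 * m := by
    rw [hm]; push_cast; rw [← pow_succ']; congr 1; omega
  have hB : Nat.card W.base = 2 ^ (2 * n) := by
    have := W.base.card_mul_index
    rw [W.index_base, hn, pow_succ] at this
    omega
  have huniq : ∀ U : Subgroup S, IsMulCommutative U → Nat.card U = 2 ^ (2 * n) → U = W.base := by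
    intro U hU hc
    refine Subgroup.eq_of_le_of_card_ge (fun g hg => ?_) (by rw [hB, hc])
    obtain ⟨i, j, rfl | rfl⟩ := W.exists_eq g
    · exact W.rot_mem_base i j
    · exfalso
      have hle : U ≤ W.diffSub (2 * m) (i - j) := by
        intro u hu
        have hc' : u * (x ^ i * y ^ j * z) = x ^ i * y ^ j * z * u :=
          congrArg Subtype.val (hU.is_comm.comm ⟨u, hu⟩ ⟨_, hg⟩)
        obtain ⟨k, l, rfl | rfl⟩ := W.exists_eq u
        · exact (W.rot_mem_diffSub dvd_rfl).2 (W.rot_out_commute_iff.1 hc')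
        · exact (W.out_mem_diffSub dvd_rfl).2 (W.out_out_commute_iff.1 hc')
      have h1 := Subgroup.card_le_of_le hle
      rw [hc, W.card_diffSub (N := 2 ^ n) (t := 1) hN (by push_cast; ring), mul_one] at h1
      have h2 : (4 : ℕ) ≤ 2 ^ n := by
        calc (4 : ℕ) = 2 ^ 2 := by norm_num
          _ ≤ 2 ^ n := Nat.pow_le_pow_right two_pos hk
      rw [two_mul n, pow_add] at h1
      nlinarith
  refine ⟨⟨W.base, ⟨W.base_comm, hB⟩, fun U hU => huniq U hU.1 hU.2⟩, fun U hU hc => ?_⟩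
  obtain rfl := huniq U hU hc
  haveI : NeZero (2 ^ n) := ⟨by positivity⟩
  let f : Multiplicative (ZMod (2 ^ n) × ZMod (2 ^ n)) →* W.base :=
    { toFun := fun p => ⟨x ^ (p.toAdd.1.val : ℤ) * y ^ (p.toAdd.2.val : ℤ), W.rot_mem_base _ _⟩
      map_one' := Subtype.ext (by simp)
      map_mul' := fun p q => Subtype.ext (by
        show x ^ ((p.toAdd.1 + q.toAdd.1).val : ℤ) * y ^ ((p.toAdd.2 + q.toAdd.2).val : ℤ) = _ * _
        rw [W.mul_rot, W.rot_eq_iff, ← hN]
        constructor <;> rw [← ZMod.intCast_zmod_eq_zero_iff_dvd] <;> push_cast <;>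
          simp only [ZMod.natCast_val, ZMod.cast_id', id_eq, sub_self]) }
  refine ⟨(MulEquiv.ofBijective f ((Nat.bijective_iff_injective_and_card f).2 ⟨?_, ?_⟩)).symm⟩
  · intro p q h
    have h' : x ^ (p.toAdd.1.val : ℤ) * y ^ (p.toAdd.2.val : ℤ) =
      x ^ (q.toAdd.1.val : ℤ) * y ^ (q.toAdd.2.val : ℤ) := congrArg Subtype.val h
    rw [W.rot_eq_iff, ← hN, ← ZMod.intCast_zmod_eq_zero_iff_dvd, ← ZMod.intCast_zmod_eq_zero_iff_dvd] at h'
    push_cast at h'
    simp only [ZMod.natCast_val, ZMod.cast_id', id_eq, sub_eq_zero] at h'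
    exact Multiplicative.toAdd.injective (Prod.ext h'.1 h'.2)
  · rw [hB, Nat.card_congr Multiplicative.toAdd, Nat.card_prod, Nat.card_zmod, ← pow_add, two_mul]

end Cfsg.Agent.S1196
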