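import Cfsg.Statements.S1197
import Cfsg.Agent.Lib.Invol.WreathedFacts


set_option autoImplicit false
open Cfsg

namespace Cfsg.Agent.S1197

/-- Let S be a wreathed 2-group of order 2^(2n+1). Then Z(S) is cyclic of order 2^n, the derived subgroup S' is cyclic of order 2^n, and S/Z(S) is isomorphic to the dihedral group of order 2^(n+1). -/
theorem result {S : Type*} [Group S] [Finite S] (hS : Cfsg.IsWreathed S) (n : ℕ) (hn : Nat.card S = 2 ^ (2 * n + 1)) : IsCyclic (Subgroup.center S) ∧ Nat.card (Subgroup.center S) = 2 ^ n ∧ IsCyclic (commutator S) ∧ Nat.card (commutator S) = 2 ^ n ∧ Nonempty (S ⧸ Subgroup.center S ≃* DihedralGroup (2 ^ n)) := by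
  obtain ⟨k, x, y, z, hk, hcard, W⟩ := CfsgLib.Invol.exists_wrFrame hS
  obtain rfl : n = k := by
    have := Nat.pow_right_injective (le_refl 2) (hn.symm.trans hcard)
    omega
  set m : ℤ := 2 ^ (n - 1) with hm
  have hN : ((2 ^ n : ℕ) : ℤ) = 2 * m := by
    rw [hm]; push_cast; rw [← pow_succ']; congr 1; omega
  have ho : ∀ e : ℤ, e = 1 ∨ e = -1 → orderOf (x ^ (1 : ℤ) * y ^ e) = 2 ^ n := by
    intro e he
    refine W.orderOf_rot fun k => ?_
    rw [one_mul, hN]
    rcases he with rfl | rfl <;> simp [dvd_neg]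
  have hc : Nat.card (Subgroup.center S) = 2 ^ n := by
    rw [W.center_eq, Nat.card_zpowers, ho 1 (Or.inl rfl)]
  refine ⟨by rw [W.center_eq]; infer_instance, hc, by rw [W.commutator_eq]; infer_instance,
    by rw [W.commutator_eq, Nat.card_zpowers, ho (-1) (Or.inr rfl)], ?_⟩
  set π := QuotientGroup.mk' (Subgroup.center S) with hπ
  have hker : ∀ i j : ℤ, π (x ^ i * y ^ j) = 1 ↔ 2 * m ∣ i - j := by
    intro i j
    rw [hπ, QuotientGroup.mk'_apply, QuotientGroup.eq_one_iff, W.mem_center_iff]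
    constructor
    · rintro ⟨l, hl⟩
      obtain ⟨h1, h2⟩ := W.rot_eq_iff.1 hl
      have := dvd_sub h1 h2
      ring_nf at this ⊢; exact this
    · exact fun h => ⟨i, W.rot_eq_iff.2 ⟨by simp, by rw [← dvd_neg, neg_sub]; exact h⟩⟩
  have hpow : ∀ k : ℤ, π (x ^ (1 : ℤ) * y ^ (0 : ℤ)) ^ k = 1 ↔ 2 * m ∣ k := by
    intro k
    rw [← map_zpow, W.rot_zpow, hker]; simp
  have F : CfsgLib.Invol.CyclicFrame (2 ^ n) (-1) 0 (π (x ^ (1 : ℤ) * y ^ (0 : ℤ)))
      (π (x ^ (0 : ℤ) * y ^ (0 : ℤ) * z)) := by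
    refine ⟨?_, ?_, ?_, ?_, ?_, by positivity⟩
    · have key : ∀ k : ℕ, π (x ^ (1 : ℤ) * y ^ (0 : ℤ)) ^ k = 1 ↔ 2 ^ n ∣ k := by
        intro k
        rw [← zpow_natCast, hpow, ← hN, Int.natCast_dvd_natCast]
      exact Nat.dvd_antisymm (orderOf_dvd_of_pow_eq_one ((key _).2 dvd_rfl))
        ((key _).1 (pow_orderOf_eq_one _))
    · have := (Subgroup.center S).card_mul_index
      rw [Subgroup.index_eq_card, hc, hn] at this
      refine Nat.eq_of_mul_eq_mul_left (n := 2 ^ n) (by positivity) ?_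
      rw [this, pow_succ, two_mul n, pow_add]; ring
    · intro h
      obtain ⟨k, hk⟩ := Subgroup.mem_zpowers_iff.1 h
      rw [← map_zpow, W.rot_zpow, eq_comm, hπ, QuotientGroup.mk'_apply, QuotientGroup.mk'_apply,
        eq_comm, QuotientGroup.eq, W.rot_inv, W.rot_mul_out, W.mem_center_iff] at hk
      obtain ⟨l, hl⟩ := hk
      exact W.rot_ne_out _ _ _ _ hl.symm
    · rw [zpow_neg_one, ← map_inv, ← map_inv, ← map_mul, ← map_mul, W.out_conj_rot, W.rot_inv, hπ,
        QuotientGroup.mk'_apply, QuotientGroup.mk'_apply, QuotientGroup.eq, W.rot_inv, W.mul_rot,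
        W.mem_center_iff]
      exact ⟨-1, by norm_num⟩
    · rw [← map_mul, W.out_mul_out, zpow_zero]; simp
  exact F.dihedralEquiv

end Cfsg.Agent.S1197
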