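import Cfsg.Statements.S1198
import Cfsg.Agent.Lib.Invol.WreathedFacts


set_option autoImplicit false
open Cfsg

namespace Cfsg.Agent.S1198

/-- A wreathed 2-group S has a normal Klein four-subgroup T such that every Klein four-subgroup of S other than T is conjugate in S to any other such subgroup; in particular S has exactly two conjugacy classes of Klein four-subgroups. -/
theorem result {S : Type*} [Group S] [Finite S] (hS : Cfsg.IsWreathed S) : ∃ T : Subgroup S, IsKleinFour T ∧ T.Normal ∧ (∃ T₀ : Subgroup S, IsKleinFour T₀ ∧ T₀ ≠ T) ∧ ∀ T₁ T₂ : Subgroup S, IsKleinFour T₁ → IsKleinFour T₂ → T₁ ≠ T → T₂ ≠ T → ∃ s : S, T₁.map (MulAut.conj s).toMonoidHom = T₂ := by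
  obtain ⟨n, x, y, z, hn, hcard, W⟩ := CfsgLib.Invol.exists_wrFrame hS
  set m : ℤ := 2 ^ (n - 1)
  haveI : Fact (Nat.Prime 2) := ⟨Nat.prime_two⟩
  let T : Subgroup S :=
    { carrier := {g | ∃ i j : ℤ, m ∣ i ∧ m ∣ j ∧ g = x ^ i * y ^ j}
      one_mem' := ⟨0, 0, dvd_zero m, dvd_zero m, by simp⟩
      mul_mem' := by
        rintro _ _ ⟨i, j, hi, hj, rfl⟩ ⟨k, l, hk, hl, rfl⟩
        exact ⟨_, _, dvd_add hi hk, dvd_add hj hl, W.mul_rot i j k l⟩
      inv_mem' := by
        rintro _ ⟨i, j, hi, hj, rfl⟩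
        exact ⟨_, _, dvd_neg.2 hi, dvd_neg.2 hj, W.rot_inv i j⟩ }
  -- a criterion for four-groups
  have mk4 : ∀ (V : Subgroup S) (p q : S), p ∈ V → q ∈ V → p ≠ 1 → q ≠ 1 → p ≠ q →
      (∀ g ∈ V, g = 1 ∨ g = p ∨ g = q ∨ g = p * q) → (∀ g ∈ V, g ^ 2 = 1) →
      IsKleinFour V ∧ Nat.card V = 4 := by
    intro V p q hp hq hp1 hq1 hpq hall hsq
    have hpi : p⁻¹ = p := inv_eq_of_mul_eq_one_left (by rw [← pow_two, hsq p hp])
    have hpq1 : p * q ≠ 1 := fun h => hpq (by rw [← hpi]; exact (eq_inv_of_mul_eq_one_right h).symm)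
    have hpq2 : p * q ≠ p := fun h => hq1 (mul_eq_left.1 h)
    have hpq3 : p * q ≠ q := fun h => hp1 (mul_eq_right.1 h)
    have hset : (V : Set S) = {1, p, q, p * q} := by
      ext g
      refine ⟨fun hg => by simpa using hall g hg, ?_⟩
      rintro (rfl | rfl | rfl | rfl)
      exacts [one_mem V, hp, hq, mul_mem hp hq]
    have h4 : Nat.card V = 4 := by
      show Nat.card (V : Set S) = 4
      rw [Nat.card_coe_set_eq, hset]
      rw [Set.ncard_insert_of_notMem (by simp [hp1.symm, hq1.symm, hpq1.symm]),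
        Set.ncard_insert_of_notMem (by simp [hpq, hpq2.symm]), Set.ncard_pair hpq3.symm]
    refine ⟨{ card_four := h4, exponent_two := ?_ }, h4⟩
    haveI : Nontrivial V := ⟨⟨p, hp⟩, 1, fun h => hp1 (congrArg Subtype.val h)⟩
    rcases (Nat.dvd_prime Nat.prime_two).1 (Monoid.exponent_dvd_of_forall_pow_eq_one
      fun g : V => (Subtype.ext (by simpa using hsq g g.2) : g ^ 2 = 1)) with h1 | h1
    · exact absurd (Monoid.exp_eq_one_iff.1 h1) (not_subsingleton V)
    · exact h1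
  have hTcases : ∀ g ∈ T, g = 1 ∨ g = x ^ m * y ^ (0 : ℤ) ∨ g = x ^ m * y ^ m ∨
      g = x ^ m * y ^ (0 : ℤ) * (x ^ m * y ^ m) := by
    rintro _ ⟨i, j, hi, hj, rfl⟩
    rcases W.half_cases hi with hi | hi <;> rcases W.half_cases hj with hj | hj
    · exact Or.inl ((W.eq_one i j).2 ⟨hi, hj⟩)
    · refine Or.inr (Or.inr (Or.inr ?_))
      rw [W.mul_rot, W.rot_eq_iff]
      refine ⟨?_, by simpa using hj⟩
      have := dvd_sub hi (dvd_refl (2 * m))
      ring_nf at this ⊢; exact this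
    · exact Or.inr (Or.inl (W.rot_eq_iff.2 ⟨hi, by simpa using hj⟩))
    · exact Or.inr (Or.inr (Or.inl (W.rot_eq_iff.2 ⟨hi, hj⟩)))
  have hTsq : ∀ g ∈ T, g ^ 2 = 1 := by
    rintro _ ⟨i, j, hi, hj, rfl⟩; exact W.rot_sq_eq_one_iff.2 ⟨hi, hj⟩
  have hT4 := mk4 T (x ^ m * y ^ (0 : ℤ)) (x ^ m * y ^ m) ⟨_, _, dvd_rfl, dvd_zero m, rfl⟩
    ⟨_, _, dvd_rfl, dvd_rfl, rfl⟩ (fun h => W.not_dvd_half ((W.eq_one _ _).1 h).1)
    (fun h => W.not_dvd_half ((W.eq_one _ _).1 h).1)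
    (fun h => W.not_dvd_half (by simpa using (W.rot_eq_iff.1 h).2)) hTcases hTsq
  -- the standard nonnormal four-group
  have hstd : ∀ i j : ℤ, 2 * m ∣ i + j → ∃ V : Subgroup S, IsKleinFour V ∧ x ^ i * y ^ j * z ∈ V := by
    intro i j hij
    have hc : x ^ m * y ^ m * (x ^ i * y ^ j * z) = x ^ i * y ^ j * z * (x ^ m * y ^ m) :=
      (Subgroup.mem_center_iff.1 (W.mem_center_iff.2 ⟨m, rfl⟩) _).symm
    set p := x ^ m * y ^ m
    set g := x ^ i * y ^ j * z
    have hp2 : p * p = 1 := by rw [← pow_two]; exact W.rot_sq_eq_one_iff.2 ⟨dvd_rfl, dvd_rfl⟩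
    have hg2 : g * g = 1 := by rw [← pow_two]; exact W.out_sq_eq_one_iff.2 hij
    have hpc : Commute p g := hc
    let V : Subgroup S :=
      { carrier := {h | ∃ a b : ℕ, h = p ^ a * g ^ b}
        one_mem' := ⟨0, 0, by simp⟩
        mul_mem' := by
          rintro _ _ ⟨a, b, rfl⟩ ⟨c, d, rfl⟩
          exact ⟨a + c, b + d, by rw [pow_add, pow_add, (hpc.symm.pow_pow b c).mul_mul_mul_comm]⟩
        inv_mem' := by
          rintro _ ⟨a, b, rfl⟩
          refine ⟨a, b, inv_eq_of_mul_eq_one_left ?_⟩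
          rw [(hpc.symm.pow_pow b a).mul_mul_mul_comm, ← pow_add, ← pow_add, ← two_mul, ← two_mul,
            pow_mul, pow_mul, pow_two, pow_two, hp2, hg2, one_pow, one_pow, one_mul] }
    refine ⟨V, (mk4 V p g ⟨1, 0, by simp⟩ ⟨0, 1, by simp⟩ (fun h => W.not_dvd_half ((W.eq_one _ _).1 h).1)
      (fun h => W.rot_ne_out 0 0 i j (by simpa using h.symm)) (W.rot_ne_out _ _ _ _) ?_ ?_).1, ⟨0, 1, by simp⟩⟩
    · rintro _ ⟨a, b, rfl⟩
      rcases Nat.even_or_odd' a with ⟨a, rfl | rfl⟩ <;> rcases Nat.even_or_odd' b with ⟨b, rfl | rfl⟩ <;>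
        simp [pow_succ, pow_mul, pow_two, hp2, hg2]
    · rintro _ ⟨a, b, rfl⟩
      rw [((hpc.pow_pow a b)).mul_pow, ← pow_mul, ← pow_mul, mul_comm a, mul_comm b, pow_mul, pow_mul,
        pow_two, pow_two, hp2, hg2, one_pow, one_pow, one_mul]
  obtain ⟨T₀, hT₀, hT₀g⟩ := hstd 0 0 (by simp)
  refine ⟨T, hT4.1, ⟨?_⟩, ⟨T₀, hT₀, fun e => ?_⟩, ?_⟩
  · rintro _ ⟨i, j, hi, hj, rfl⟩ g
    obtain ⟨k, l, rfl | rfl⟩ := W.exists_eq g
    · rw [(W.rot_commute k l i j).eq, mul_inv_cancel_right]; exact ⟨i, j, hi, hj, rfl⟩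
    · rw [W.out_conj_rot]; exact ⟨j, i, hj, hi, rfl⟩
  · rw [e] at hT₀g
    obtain ⟨i, j, -, -, h⟩ := hT₀g
    exact W.rot_ne_out _ _ _ _ h.symm
  · -- other four-groups are determined by an outer involution
    have hform : ∀ V : Subgroup S, IsKleinFour V → V ≠ T → ∃ i j : ℤ, 2 * m ∣ i + j ∧
        x ^ i * y ^ j * z ∈ V ∧ ∀ g ∈ V, g = 1 ∨ g = x ^ m * y ^ m ∨ g = x ^ i * y ^ j * z ∨
          g = x ^ m * y ^ m * (x ^ i * y ^ j * z) := by
      intro V hV hVT
      have hsq : ∀ g ∈ V, g ^ 2 = 1 := fun g hg => by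
        have := Monoid.pow_exponent_eq_one (⟨g, hg⟩ : V)
        rw [hV.exponent_two] at this
        simpa using congrArg Subtype.val this
      obtain ⟨i, j, hij⟩ : ∃ i j : ℤ, x ^ i * y ^ j * z ∈ V := by
        by_contra hall
        push Not at hall
        refine hVT (Subgroup.eq_of_le_of_card_ge (fun g hg => ?_) (by rw [hT4.2, hV.card_four]))
        obtain ⟨i, j, rfl | rfl⟩ := W.exists_eq g
        · obtain ⟨h1, h2⟩ := W.rot_sq_eq_one_iff.1 (hsq _ hg); exact ⟨i, j, h1, h2, rfl⟩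
        · exact absurd hg (hall i j)
      have hd := W.out_sq_eq_one_iff.1 (hsq _ hij)
      refine ⟨i, j, hd, hij, fun g hg => ?_⟩
      have hcomm : ∀ g ∈ V, g * (x ^ i * y ^ j * z) = x ^ i * y ^ j * z * g := fun g hg => by
        have h1 := hsq _ (mul_mem hg hij)
        have hgi : g⁻¹ = g := inv_eq_of_mul_eq_one_left (by rw [← pow_two, hsq g hg])
        have hbi : (x ^ i * y ^ j * z)⁻¹ = x ^ i * y ^ j * z :=
          inv_eq_of_mul_eq_one_left (by rw [← pow_two, hsq _ hij])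
        calc g * (x ^ i * y ^ j * z) = (g * (x ^ i * y ^ j * z))⁻¹ :=
              (inv_eq_of_mul_eq_one_left (by rw [← pow_two]; exact h1)).symm
          _ = x ^ i * y ^ j * z * g := by rw [mul_inv_rev, hgi, hbi]
      have hrot : ∀ k l : ℤ, x ^ k * y ^ l ∈ V → x ^ k * y ^ l = 1 ∨ x ^ k * y ^ l = x ^ m * y ^ m := by
        intro k l hkl
        have h1 := W.rot_out_commute_iff.1 (hcomm _ hkl)
        rcases W.half_cases (W.rot_sq_eq_one_iff.1 (hsq _ hkl)).1 with hk | hk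
        · refine Or.inl ((W.eq_one k l).2 ⟨hk, ?_⟩)
          have := dvd_sub hk h1
          ring_nf at this ⊢; exact this
        · refine Or.inr (W.rot_eq_iff.2 ⟨hk, ?_⟩)
          have := dvd_sub hk h1
          ring_nf at this ⊢; exact this
      obtain ⟨k, l, rfl | rfl⟩ := W.exists_eq g
      · rcases hrot k l hg with h | h
        · exact Or.inl h
        · exact Or.inr (Or.inl h)
      · have h1 := mul_mem hg hij
        have hbb : x ^ i * y ^ j * z * (x ^ i * y ^ j * z) = 1 := by rw [← pow_two, hsq _ hij]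
        obtain ⟨k', l', hkl⟩ : ∃ k' l' : ℤ, x ^ k * y ^ l * z * (x ^ i * y ^ j * z) = x ^ k' * y ^ l' :=
          ⟨_, _, W.out_mul_out k l i j⟩
        have hge : x ^ k * y ^ l * z = x ^ k' * y ^ l' * (x ^ i * y ^ j * z) := by
          rw [← hkl, mul_assoc (x ^ k * y ^ l * z), hbb, mul_one]
        rw [hkl] at h1
        rcases hrot k' l' h1 with h | h
        · refine Or.inr (Or.inr (Or.inl ?_))
          rw [hge, h, one_mul]
        · refine Or.inr (Or.inr (Or.inr ?_))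
          rw [hge, h]
    intro T₁ T₂ h₁ h₂ hne₁ hne₂
    obtain ⟨i, j, hij, hg₁, hall₁⟩ := hform T₁ h₁ hne₁
    obtain ⟨i', j', hij', hg₂, hall₂⟩ := hform T₂ h₂ hne₂
    obtain ⟨k, hk⟩ := W.conj_out_invol hij hij'
    refine ⟨x ^ k * y ^ (0 : ℤ), Subgroup.eq_of_le_of_card_ge ?_ ?_⟩
    · have hcT₂ : x ^ m * y ^ m ∈ T₂ := by
        by_contra hc
        have hle : (T₂ : Set S) ⊆ {1, x ^ i' * y ^ j' * z, x ^ m * y ^ m * (x ^ i' * y ^ j' * z)} := by
          intro g hg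
          rcases hall₂ g hg with h | h | h | h
          · exact Or.inl h
          · exact absurd (h ▸ hg) hc
          · exact Or.inr (Or.inl h)
          · exact Or.inr (Or.inr h)
        have h3 := Set.ncard_le_ncard hle (Set.toFinite _)
        rw [← Nat.card_coe_set_eq] at h3
        rw [show Nat.card (T₂ : Set S) = 4 from h₂.card_four] at h3
        have h4 : Set.ncard ({1, x ^ i' * y ^ j' * z, x ^ m * y ^ m * (x ^ i' * y ^ j' * z)} : Set S) ≤ 3 :=
          (Set.ncard_insert_le _ _).trans (Nat.add_le_add_right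
            ((Set.ncard_insert_le _ _).trans (by rw [Set.ncard_singleton])) 1)
        omega
      rintro _ ⟨g, hg, rfl⟩
      show x ^ k * y ^ (0 : ℤ) * g * (x ^ k * y ^ (0 : ℤ))⁻¹ ∈ T₂
      have hpp : x ^ k * y ^ (0 : ℤ) * (x ^ m * y ^ m) * (x ^ k * y ^ (0 : ℤ))⁻¹ = x ^ m * y ^ m := by
        rw [(W.rot_commute k 0 m m).eq, mul_inv_cancel_right]
      rcases hall₁ g hg with h | h | h | h <;> rw [h]
      · rw [mul_one, mul_inv_cancel]; exact one_mem _
      · rw [hpp]; exact hcT₂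
      · rw [hk]; exact hg₂
      · rw [← conj_mul, hpp, hk]; exact mul_mem hcT₂ hg₂
    · rw [Subgroup.card_map_of_injective (MulAut.conj _).injective, h₁.card_four, h₂.card_four]

end Cfsg.Agent.S1198
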