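import Cfsg.Statements.S1199
import Cfsg.Agent.Lib.Invol.WreathedFacts


set_option autoImplicit false
open Cfsg

namespace Cfsg.Agent.S1199

/-- A wreathed 2-group S of order 2^(2n+1) has exactly one subgroup of order 2^(n+1) isomorphic to a generalized quaternion group, and that subgroup is normal in S. -/
theorem result {S : Type*} [Group S] [Finite S] (hS : Cfsg.IsWreathed S) (n : ℕ) (hn : Nat.card S = 2 ^ (2 * n + 1)) : (∃! Y : Subgroup S, Nat.card Y = 2 ^ (n + 1) ∧ Nonempty (Y ≃* QuaternionGroup (2 ^ (n - 1)))) ∧ ∀ Y : Subgroup S, Nat.card Y = 2 ^ (n + 1) → Nonempty (Y ≃* QuaternionGroup (2 ^ (n - 1))) → Y.Normal := by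
  obtain ⟨k, x, y, z, hk, hcard, W⟩ := CfsgLib.Invol.exists_wrFrame hS
  obtain rfl : n = k := by
    have := Nat.pow_right_injective (le_refl 2) (hn.symm.trans hcard)
    omega
  haveI : Fact (Nat.Prime 2) := ⟨Nat.prime_two⟩
  set m : ℤ := 2 ^ (n - 1) with hm
  have hN : ((2 ^ n : ℕ) : ℤ) = 2 * m := by
    rw [hm]; push_cast; rw [← pow_succ']; congr 1; omega
  have hmn : ((2 ^ (n - 1) : ℕ) : ℤ) = m := by rw [hm]; push_cast; rfl
  have hs : 2 * m ∣ 2 * m := dvd_rfl
  set Y₀ := W.sumSub (2 * m) m dvd_rfl with hY₀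
  have hY₀c : Nat.card Y₀ = 2 ^ (n + 1) := by
    rw [hY₀, W.card_sumSub (N := 2 ^ n) (t := 1) hN (by push_cast; ring), mul_one, pow_succ']
  have haY : x ^ (1 : ℤ) * y ^ (-1 : ℤ) ∈ Y₀ := (W.rot_mem_sumSub hs).2 (by norm_num)
  have hbY : x ^ m * y ^ (0 : ℤ) * z ∈ Y₀ := (W.out_mem_sumSub hs).2 (by simp)
  have hao : orderOf (x ^ (1 : ℤ) * y ^ (-1 : ℤ)) = 2 ^ n := W.orderOf_rot fun k => by
    rw [one_mul, hN, neg_one_mul, dvd_neg, and_self_iff]
  have hiso : Nonempty (Y₀ ≃* QuaternionGroup (2 ^ (n - 1))) := by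
    have h2 : 2 * 2 ^ (n - 1) = 2 ^ n := by rw [← pow_succ']; congr 1; omega
    have F : CfsgLib.Invol.CyclicFrame (2 * 2 ^ (n - 1)) (-1) ((2 ^ (n - 1) : ℕ) : ℤ)
        (⟨_, haY⟩ : Y₀) (⟨_, hbY⟩ : Y₀) := by
      refine ⟨by rw [Subgroup.orderOf_mk, hao, h2], by rw [hY₀c, h2, pow_succ'], ?_, ?_, ?_, by positivity⟩
      · intro h
        obtain ⟨l, hl⟩ := Subgroup.mem_zpowers_iff.1 h
        have hl' := congrArg Subtype.val hl
        rw [SubgroupClass.coe_zpow, W.rot_zpow] at hl'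
        exact W.rot_ne_out _ _ _ _ hl'
      · refine Subtype.ext ?_
        show x ^ m * y ^ (0 : ℤ) * z * (x ^ (1 : ℤ) * y ^ (-1 : ℤ)) * (x ^ m * y ^ (0 : ℤ) * z)⁻¹ = (((⟨_, haY⟩ : Y₀) ^ (-1 : ℤ) : Y₀) : S)
        rw [W.out_conj_rot, SubgroupClass.coe_zpow, W.rot_zpow, W.rot_eq_iff]; simp
      · refine Subtype.ext ?_
        show x ^ m * y ^ (0 : ℤ) * z * (x ^ m * y ^ (0 : ℤ) * z) = (((⟨_, haY⟩ : Y₀) ^ ((2 ^ (n - 1) : ℕ) : ℤ) : Y₀) : S)
        rw [SubgroupClass.coe_zpow, W.rot_zpow, W.out_mul_out, W.rot_eq_iff, hmn]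
        exact ⟨by simp, ⟨1, by ring⟩⟩
    exact F.quaternionEquiv
  have huniq : ∀ Y : Subgroup S, Nat.card Y = 2 ^ (n + 1) →
      Nonempty (Y ≃* QuaternionGroup (2 ^ (n - 1))) → Y = Y₀ := by
    rintro Y hYc ⟨e⟩
    haveI : NeZero (2 ^ (n - 1)) := ⟨by positivity⟩
    have F := CfsgLib.Invol.quaternion_frame (2 ^ (n - 1))
    set A : Y := e.symm (QuaternionGroup.a 1) with hA
    set B : Y := e.symm (QuaternionGroup.xa 0) with hB
    have h2 : 2 * 2 ^ (n - 1) = 2 ^ n := by rw [← pow_succ']; congr 1; omega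
    have hAo : orderOf A = 2 ^ n := by rw [hA, MulEquiv.orderOf_eq, F.ord, h2]
    have hcen : ∀ g : Y, g ^ 2 = 1 → ∀ h : Y, g * h = h * g := by
      intro g hg h
      apply e.injective
      rw [map_mul, map_mul]
      have hg' : (e g) ^ 2 = 1 := by rw [← map_pow, hg, map_one]
      generalize e g = u at hg'
      generalize e h = v
      obtain ⟨i, rfl | rfl⟩ := F.exists_eq u
      · obtain ⟨j, rfl | rfl⟩ := F.exists_eq v
        · rw [← zpow_add, ← zpow_add, add_comm]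
        · rw [← zpow_natCast, ← zpow_mul, F.zpow_eq_one_iff, ← ZMod.intCast_zmod_eq_zero_iff_dvd] at hg'
          rw [F.ref_mul_rot, CfsgLib.Invol.CyclicFrame.rot_mul_ref, F.mul_b_eq_iff]
          push_cast at hg' ⊢
          linear_combination hg'
      · exfalso
        rw [F.ref_sq, F.zpow_eq_one_iff] at hg'
        push_cast at hg'
        rw [show (0 : ℤ) * i + 2 ^ (n - 1) = 2 ^ (n - 1) by ring] at hg'
        have hp : (0 : ℤ) < 2 ^ (n - 1) := by positivity
        have := Int.le_of_dvd hp hg'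
        omega
    have hzB : ∀ i j : ℤ, x ^ i * y ^ j ∈ Y → (x ^ i * y ^ j) ^ 2 = 1 → ∀ g ∈ Y,
        x ^ i * y ^ j * g = g * (x ^ i * y ^ j) := fun i j hij hsq g hg =>
      congrArg Subtype.val (hcen ⟨_, hij⟩ (Subtype.ext (by simpa using hsq)) ⟨g, hg⟩)
    obtain ⟨k, l, hkl⟩ : ∃ k l : ℤ, x ^ k * y ^ l * z ∈ Y := by
      by_contra hall
      push Not at hall
      have hbase : ∀ g ∈ Y, g ∈ W.base := fun g hg => by
        obtain ⟨i, j, rfl | rfl⟩ := W.exists_eq g
        · exact W.rot_mem_base i j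
        · exact absurd hg (hall i j)
      have hc : A * B = B * A := Subtype.ext
        (congrArg Subtype.val (W.base_comm.is_comm.comm ⟨_, hbase _ A.2⟩ ⟨_, hbase _ B.2⟩) :)
      have h1 : B * A * B⁻¹ = A := by rw [← hc, mul_inv_cancel_right]
      have h3 : B * A * B⁻¹ = A⁻¹ := by
        rw [hA, hB, ← map_inv, ← map_mul, ← map_mul, ← map_inv, F.conj, zpow_neg_one]
      rw [h1] at h3
      have h4 : A ^ 2 = 1 := by rw [pow_two]; nth_rewrite 1 [h3]; exact inv_mul_cancel A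
      have h5 := orderOf_dvd_of_pow_eq_one h4
      rw [hAo] at h5
      have := Nat.le_of_dvd two_pos h5
      have : 2 ^ 2 ≤ 2 ^ n := Nat.pow_le_pow_right two_pos hk
      omega
    -- rotations in `Y` squaring to 1 are diagonal, so the diagonal meets `Y` in the centre only
    have hsymm : ∀ i j : ℤ, x ^ i * y ^ j ∈ Y → (x ^ i * y ^ j) ^ 2 = 1 → 2 * m ∣ i - j :=
      fun i j hij hsq => W.rot_out_commute_iff.1 (hzB i j hij hsq _ hkl)
    obtain ⟨i₀, j₀, hu₀, hnd₀⟩ : ∃ i j : ℤ, x ^ i * y ^ j ∈ Y ∧ ¬ 2 * m ∣ i - j := by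
      by_contra hall
      push Not at hall
      -- otherwise `Y` is abelian
      have hcomm : ∀ g ∈ Y, ∀ h ∈ Y, g * h = h * g := by
        have hd : ∀ i j : ℤ, x ^ i * y ^ j ∈ Y → x ^ i * y ^ j ∈ Subgroup.center S := fun i j h =>
          W.mem_center_iff.2 ⟨i, W.rot_eq_iff.2 ⟨by simp, by rw [← dvd_neg, neg_sub]; exact hall i j h⟩⟩
        intro g hg h hh
        obtain ⟨i, j, rfl | rfl⟩ := W.exists_eq g
        · exact (Subgroup.mem_center_iff.1 (hd i j hg) h).symm
        obtain ⟨i', j', rfl | rfl⟩ := W.exists_eq h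
        · exact Subgroup.mem_center_iff.1 (hd i' j' hh) _
        have hr := mul_mem hg (inv_mem hh)
        rw [W.out_inv, W.out_mul_out] at hr
        refine W.out_out_commute_iff.2 ?_
        have := hall _ _ hr
        ring_nf at this ⊢; exact this
      have h1 : B * A * B⁻¹ = A := by
        rw [show B * A = A * B from Subtype.ext (hcomm _ B.2 _ A.2), mul_inv_cancel_right]
      have h3 : B * A * B⁻¹ = A⁻¹ := by
        rw [hA, hB, ← map_inv, ← map_mul, ← map_mul, ← map_inv, F.conj, zpow_neg_one]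
      rw [h1] at h3
      have h4 : A ^ 2 = 1 := by rw [pow_two]; nth_rewrite 1 [h3]; exact inv_mul_cancel A
      have h5 := orderOf_dvd_of_pow_eq_one h4
      rw [hAo] at h5
      have := Nat.le_of_dvd two_pos h5
      have : 2 ^ 2 ≤ 2 ^ n := Nat.pow_le_pow_right two_pos hk
      omega
    have hanti : ∀ i j : ℤ, x ^ i * y ^ j ∈ Y → ¬ 2 * m ∣ i - j → 2 * m ∣ i + j := by
      intro i j hij hnd
      obtain ⟨p, hp | hp⟩ := F.exists_eq (e ⟨_, hij⟩)
      · have key : e ⟨_, hkl⟩ * e ⟨_, hij⟩ * (e ⟨_, hkl⟩)⁻¹ = e ⟨_, hij⟩ ∨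
            e ⟨_, hkl⟩ * e ⟨_, hij⟩ * (e ⟨_, hkl⟩)⁻¹ = (e ⟨_, hij⟩)⁻¹ := by
          rw [hp]
          obtain ⟨q, hq | hq⟩ := F.exists_eq (e ⟨_, hkl⟩) <;> rw [hq]
          · exact Or.inl (by rw [← zpow_neg, ← zpow_add, ← zpow_add]; congr 1; ring)
          · exact Or.inr (by rw [F.ref_conj_rot, ← zpow_neg]; congr 1; ring)
        rw [← map_inv, ← map_inv, ← map_mul, ← map_mul, e.injective.eq_iff, e.injective.eq_iff,
          Subtype.ext_iff, Subtype.ext_iff] at key
        simp only [Subgroup.coe_mul, InvMemClass.coe_inv] at key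
        rw [W.out_conj_rot, W.rot_inv, W.rot_eq_iff, W.rot_eq_iff] at key
        rcases key with ⟨h1, -⟩ | ⟨h1, -⟩
        · exact absurd (by rw [← dvd_neg, neg_sub]; exact h1) hnd
        · have := h1; ring_nf at this ⊢; exact this
      · have h4 : ((x ^ i * y ^ j) ^ 2) ^ 2 = 1 := by
          have : ((⟨_, hij⟩ : Y) ^ 2) ^ 2 = 1 := e.injective (by
            rw [map_pow, map_pow, hp, map_one, F.ref_sq, ← zpow_natCast, ← zpow_mul, F.zpow_eq_one_iff]
            exact ⟨1, by push_cast; ring⟩)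
          simpa using congrArg Subtype.val this
        rw [W.rot_pow] at h4
        have hd := hsymm _ _ (W.rot_pow i j 2 ▸ pow_mem hij 2) h4
        rw [W.rot_sq_eq_one_iff] at h4
        have hne2 : ¬ 2 * m ∣ i * ((2 : ℕ) : ℤ) := by
          intro h2
          have h1 : (⟨_, hij⟩ : Y) ^ 2 = 1 := Subtype.ext (by
            show (x ^ i * y ^ j) ^ 2 = ((1 : Y) : S)
            rw [W.rot_pow, OneMemClass.coe_one, W.eq_one]
            refine ⟨h2, ?_⟩
            have := dvd_sub h2 hd; ring_nf at this ⊢; exact this)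
          have h1' : e ⟨_, hij⟩ ^ 2 = 1 := by rw [← map_pow, h1, map_one]
          rw [hp, F.ref_sq, F.zpow_eq_one_iff] at h1'
          push_cast at h1'
          rw [show (0 : ℤ) * p + 2 ^ (n - 1) = 2 ^ (n - 1) by ring] at h1'
          have hpp : (0 : ℤ) < 2 ^ (n - 1) := by positivity
          have := Int.le_of_dvd hpp h1'
          omega
        push_cast at hd h4 hne2
        have hd' : m ∣ i - j := by
          rw [show i * 2 - j * 2 = 2 * (i - j) by ring, mul_dvd_mul_iff_left two_ne_zero] at hd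
          exact hd
        rcases W.half_cases hd' with h | h
        · exact absurd h hnd
        rcases W.half_cases h4.1 with h' | h'
        · exact absurd h' hne2
        have := dvd_sub h' h; ring_nf at this ⊢; exact this
    have hrot : ∀ i j : ℤ, x ^ i * y ^ j ∈ Y → 2 * m ∣ i + j := by
      intro i j hij
      by_cases hnd : 2 * m ∣ i - j
      · have h2 := mul_mem hij hu₀
        rw [W.mul_rot] at h2
        have h3 := hanti _ _ h2 (fun h => hnd₀ (by
          have := dvd_sub h hnd; ring_nf at this ⊢; exact this))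
        have := dvd_sub h3 (hanti i₀ j₀ hu₀ hnd₀)
        ring_nf at this ⊢; exact this
      · exact hanti i j hij hnd
    refine Subgroup.eq_of_le_of_card_ge (fun g hg => ?_) (by rw [hY₀c, hYc])
    obtain ⟨i, j, rfl | rfl⟩ := W.exists_eq g
    · exact (W.rot_mem_sumSub hs).2 (hrot i j hg)
    · refine (W.out_mem_sumSub hs).2 ?_
      have h1 := hrot _ _ (W.out_sq i j ▸ pow_mem hg 2)
      have h2 : m ∣ i + j := by
        rw [← two_mul, mul_dvd_mul_iff_left two_ne_zero] at h1; exact h1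
      rcases W.half_cases h2 with h | h
      · exfalso
        have hsq : (⟨_, hg⟩ : Y) ^ 2 = 1 := Subtype.ext (by simpa using W.out_sq_eq_one_iff.2 h)
        have hc := congrArg Subtype.val (hcen _ hsq ⟨_, hu₀⟩)
        exact hnd₀ (W.rot_out_commute_iff.1 hc.symm)
      · exact h
  exact ⟨⟨Y₀, ⟨hY₀c, hiso⟩, fun Y hY => huniq Y hY.1 hY.2⟩, fun Y h1 h2 => huniq Y h1 h2 ▸ W.sumSub_normal hs⟩

end Cfsg.Agent.S1199
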