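import Cfsg.Statements.S1200
import Cfsg.Agent.Lib.Invol.WreathedFacts


set_option autoImplicit false
open Cfsg

namespace Cfsg.Agent.S1200

/-- Let S be a wreathed 2-group of order 2^(2n+1) and Ω the subgroup generated by its involutions. Then Ω has order 2^(n+2) and S/Ω is cyclic: some s ∈ S together with Ω generates S. -/
theorem result {S : Type*} [Group S] [Finite S] (hS : Cfsg.IsWreathed S) (n : ℕ) (hn : Nat.card S = 2 ^ (2 * n + 1)) : Nat.card (Subgroup.closure {x : S | orderOf x = 2}) = 2 ^ (n + 2) ∧ ∃ s : S, Subgroup.closure {x : S | orderOf x = 2} ⊔ Subgroup.zpowers s = ⊤ := by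
  obtain ⟨k, x, y, z, hk, hcard, W⟩ := CfsgLib.Invol.exists_wrFrame hS
  obtain rfl : n = k := by
    have := Nat.pow_right_injective (le_refl 2) (hn.symm.trans hcard)
    omega
  set m : ℤ := 2 ^ (n - 1) with hm
  have hN : ((2 ^ n : ℕ) : ℤ) = 2 * m := by
    rw [hm]; push_cast; rw [← pow_succ']; congr 1; omega
  have hs : m ∣ 2 * m := dvd_mul_left m 2
  set O := W.sumSub m 0 (by simp) with hO
  have hclos : Subgroup.closure {g : S | orderOf g = 2} = O := by
    refine le_antisymm ((Subgroup.closure_le _).2 fun g hg => ?_) fun g hg => ?_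
    · have hg2 : g ^ 2 = 1 := by rw [← show orderOf g = 2 from hg, pow_orderOf_eq_one]
      obtain ⟨i, j, rfl | rfl⟩ := W.exists_eq g
      · obtain ⟨h1, h2⟩ := W.rot_sq_eq_one_iff.1 hg2
        exact (W.rot_mem_sumSub hs).2 (dvd_add h1 h2)
      · refine (W.out_mem_sumSub hs).2 ?_
        rw [sub_zero]; exact hs.trans (W.out_sq_eq_one_iff.1 hg2)
    · have hr : ∀ i j : ℤ, 2 * m ∣ i + j → x ^ i * y ^ j * z ∈ Subgroup.closure {g : S | orderOf g = 2} :=
        fun i j h => Subgroup.subset_closure (orderOf_eq_prime (W.out_sq_eq_one_iff.2 h)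
          (fun e => W.rot_ne_out 0 0 i j (by simpa using e.symm)))
      have hv : x ^ m * y ^ (0 : ℤ) ∈ Subgroup.closure {g : S | orderOf g = 2} := by
        refine Subgroup.subset_closure (orderOf_eq_prime (W.rot_sq_eq_one_iff.2 ⟨dvd_rfl, dvd_zero m⟩) ?_)
        rw [Ne, W.eq_one]; exact fun h => W.not_dvd_half h.1
      have hanti : ∀ i j : ℤ, 2 * m ∣ i + j → x ^ i * y ^ j ∈ Subgroup.closure {g : S | orderOf g = 2} := by
        intro i j h
        have := mul_mem (hr i j h) (hr 0 0 (by simp))
        rw [W.out_mul_out] at this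
        simpa using this
      obtain ⟨i, j, rfl | rfl⟩ := W.exists_eq g
      · rcases W.half_cases ((W.rot_mem_sumSub hs).1 hg) with h | h
        · exact hanti i j h
        · have := mul_mem hv (hanti (i - m) j (by have := h; ring_nf at this ⊢; exact this))
          rw [W.mul_rot] at this
          simpa using this
      · have h0 : m ∣ i + j := by simpa using (W.out_mem_sumSub hs).1 hg
        rcases W.half_cases h0 with h | h
        · exact hr i j h
        · have := mul_mem hv (hr (i - m) j (by have := h; ring_nf at this ⊢; exact this))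
          rw [W.rot_mul_out] at this
          simpa using this
  rw [hclos]
  refine ⟨?_, x ^ (1 : ℤ) * y ^ (0 : ℤ), top_le_iff.1 fun g _ => ?_⟩
  · rw [hO, W.card_sumSub (N := 2 ^ n) (t := 2) hN (by push_cast; ring), ← pow_succ, ← pow_succ']
  · set H := O ⊔ Subgroup.zpowers (x ^ (1 : ℤ) * y ^ (0 : ℤ))
    have h1 : ∀ i j : ℤ, x ^ i * y ^ j ∈ H := by
      intro i j
      have e : x ^ (-j) * y ^ j * (x ^ (1 : ℤ) * y ^ (0 : ℤ)) ^ (i + j) = x ^ i * y ^ j := by
        rw [W.rot_zpow, W.mul_rot, W.rot_eq_iff]; simp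
      rw [← e]
      exact mul_mem (Subgroup.mem_sup_left ((W.rot_mem_sumSub hs).2 (by simp)))
        (Subgroup.mem_sup_right (Subgroup.zpow_mem_zpowers _ _))
    have h2 : x ^ (0 : ℤ) * y ^ (0 : ℤ) * z ∈ H :=
      Subgroup.mem_sup_left ((W.out_mem_sumSub hs).2 (by simp))
    obtain ⟨i, j, rfl | rfl⟩ := W.exists_eq g
    · exact h1 i j
    · have := mul_mem (h1 i j) h2
      rw [W.rot_mul_out] at this
      simpa using this

end Cfsg.Agent.S1200
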