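import Cfsg.Statements.S1201
import Cfsg.Agent.Lib.Invol.WreathedFacts


set_option autoImplicit false
open Cfsg

namespace Cfsg.Agent.S1201

/-- If X is a non-commutative subgroup of a wreathed 2-group S, then Z(X) ≤ Z(S). -/
theorem result {S : Type*} [Group S] [Finite S] (hS : Cfsg.IsWreathed S) (X : Subgroup S) (hX : ¬ IsMulCommutative X) : (Subgroup.center X).map X.subtype ≤ Subgroup.center S := by
  obtain ⟨n, x, y, z, hn, hcard, W⟩ := CfsgLib.Invol.exists_wrFrame hS
  set m : ℤ := 2 ^ (n - 1)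
  obtain ⟨k, l, hkl⟩ : ∃ k l : ℤ, x ^ k * y ^ l * z ∈ X := by
    by_contra hall
    push Not at hall
    refine hX (isMulCommutative_iff.2 fun u v => Subtype.ext ?_)
    obtain ⟨i, j, hu | hu⟩ := W.exists_eq (u : S)
    · obtain ⟨i', j', hv | hv⟩ := W.exists_eq (v : S)
      · show (u : S) * v = v * u
        rw [hu, hv]; exact (W.rot_commute i j i' j').eq
      · exact absurd (hv ▸ v.2) (hall i' j')
    · exact absurd (hu ▸ u.2) (hall i j)
  rintro _ ⟨w, hw, rfl⟩
  obtain ⟨i, j, hij | hij⟩ := W.exists_eq (w : S)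
  · have h := congrArg Subtype.val (Subgroup.mem_center_iff.1 hw ⟨_, hkl⟩)
    simp only [Subgroup.coe_mul] at h
    rw [hij] at h
    show (w : S) ∈ Subgroup.center S
    rw [hij]
    exact W.mem_center_iff.2 ⟨i, W.rot_eq_iff.2 ⟨by simp, by
      rw [← dvd_neg, neg_sub]; exact W.rot_out_commute_iff.1 h.symm⟩⟩
  · exfalso
    have hcom : ∀ u : X, (u : S) * (x ^ i * y ^ j * z) = x ^ i * y ^ j * z * u := fun u => by
      have h := congrArg Subtype.val (Subgroup.mem_center_iff.1 hw u)
      simpa [hij] using h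
    refine hX (isMulCommutative_iff.2 fun u v => Subtype.ext ?_)
    show (u : S) * v = v * u
    have hu := hcom u
    have hv := hcom v
    obtain ⟨a, b, ha | ha⟩ := W.exists_eq (u : S) <;> obtain ⟨c, d, hc | hc⟩ := W.exists_eq (v : S) <;>
      rw [ha] at hu ⊢ <;> rw [hc] at hv ⊢
    · exact (W.rot_commute a b c d).eq
    · exact W.rot_out_commute_iff.2 (W.rot_out_commute_iff.1 hu)
    · exact (W.rot_out_commute_iff.2 (W.rot_out_commute_iff.1 hv)).symm
    · refine W.out_out_commute_iff.2 ?_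
      have := dvd_sub (W.out_out_commute_iff.1 hu) (W.out_out_commute_iff.1 hv)
      ring_nf at this ⊢; exact this

end Cfsg.Agent.S1201
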