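import Cfsg.Statements.S1204
import Cfsg.Agent.Lib.Invol.QDTransfer


set_option autoImplicit false
open Cfsg

namespace Cfsg.Agent.S1204

theorem relIndex_facts {G : Type*} [Group G] [Finite G] {S : Sylow 2 G}
    (hS : Cfsg.IsQuasiDihedral (S : Subgroup G)) {T : Subgroup G} (hT : IsKleinFour T)
    (hTS : T ≤ S) {Q : Subgroup G} (hQS : Q ≤ S) (eQ : Q ≃* QuaternionGroup 2) :
    ∃ (h : ℤ) (a b : (S : Subgroup G)) (_ : CfsgLib.Invol.QDFrame h a b),
      ((Subgroup.centralizer (T : Set G)).relIndex (Subgroup.normalizer (T : Set G)) = 6 ↔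
        CfsgLib.Invol.FusedTwo a b h) ∧
      ((Q ⊔ Subgroup.centralizer (Q : Set G)).relIndex (Subgroup.normalizer (Q : Set G)) = 6 ↔
        CfsgLib.Invol.FusedFour a b h) := by
  obtain ⟨k, a, b, -, -, F⟩ := CfsgLib.Invol.exists_qdFrame hS
  exact ⟨_, a, b, F, (F.four_relIndex hT hTS).2, (F.quat_relIndex eQ hQS).2⟩

/-- Let G be a finite group with quasi-dihedral Sylow 2-subgroup S, T a Klein four-subgroup and Q a quaternion subgroup of order 8 of S, with |N_G(T) : C_G(T)| = 6 and |N_G(Q) : Q C_G(Q)| = 6. Then G has no subgroup of index 2, exactly one conjugacy class of involutions and exactly one conjugacy class of elements of order 4. -/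
theorem result {G : Type*} [Group G] [Finite G] (S : Sylow 2 G) (hS : Cfsg.IsQuasiDihedral (S : Subgroup G)) (T : Subgroup G) (hT : IsKleinFour T) (hTS : T ≤ S) (Q : Subgroup G) (hQS : Q ≤ S) (eQ : Q ≃* QuaternionGroup 2) (h₁ : (Subgroup.centralizer (T : Set G)).relIndex (Subgroup.normalizer (T : Set G)) = 6) (h₂ : (Q ⊔ Subgroup.centralizer (Q : Set G)).relIndex (Subgroup.normalizer (Q : Set G)) = 6) : (∀ H : Subgroup G, H.index ≠ 2) ∧ Nat.card {C : ConjClasses G // ∃ t : G, orderOf t = 2 ∧ ConjClasses.mk t = C} = 1 ∧ Nat.card {C : ConjClasses G // ∃ t : G, orderOf t = 4 ∧ ConjClasses.mk t = C} = 1 := by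
  obtain ⟨h, a, b, F, i2, i4⟩ := relIndex_facts hS hT hTS hQS eQ
  exact ⟨F.index_ne_two (i2.1 h₁) (i4.1 h₂), F.card_invol_classes.1 (i2.1 h₁),
    F.card_four_classes.1 (i4.1 h₂)⟩

end Cfsg.Agent.S1204
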