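import Cfsg.Statements.S1209
import Cfsg.Agent.Lib.Invol.WreathedTransfer


set_option autoImplicit false
open Cfsg

namespace Cfsg.Agent.S1209

/-- Let G be a finite group whose Sylow 2-subgroup S is wreathed of order 2^(2n+1), U the commutative subgroup of index 2 in S, Q a quaternion subgroup of order 8 of S and V = Q Z(S). If |N_G(U) : C_G(U)| = 6 and |N_G(V) : V C_G(V)| = 6, then G has no subgroup of index 2 and exactly one conjugacy class of involutions. -/
theorem result {G : Type*} [Group G] [Finite G] (S : Sylow 2 G) (hS : Cfsg.IsWreathed (S : Subgroup G)) (n : ℕ) (hn : Nat.card S = 2 ^ (2 * n + 1)) (U : Subgroup G) (hUS : U ≤ S) (hUab : IsMulCommutative U) (hUcard : Nat.card U = 2 ^ (2 * n)) (Q : Subgroup G) (hQS : Q ≤ S) (eQ : Q ≃* QuaternionGroup 2) (h₁ : (Subgroup.centralizer (U : Set G)).relIndex (Subgroup.normalizer (U : Set G)) = 6) (h₂ : ((Q ⊔ ((Subgroup.center (S : Subgroup G)).map (S : Subgroup G).subtype)) ⊔ Subgroup.centralizer ((Q ⊔ ((Subgroup.center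 (S : Subgroup G)).map (S : Subgroup G).subtype) : Subgroup G) : Set G)).relIndex (Subgroup.normalizer ((Q ⊔ ((Subgroup.center (S : Subgroup G)).map (S : Subgroup G).subtype) : Subgroup G) : Set G)) = 6) : (∀ H : Subgroup G, H.index ≠ 2) ∧ Nat.card {C : ConjClasses G // ∃ t : G, orderOf t = 2 ∧ ConjClasses.mk t = C} = 1 := by
  obtain ⟨m, x, y, z, N, W⟩ := CfsgLib.Invol.exists_wrSylow hS
  obtain ⟨-, hN, rfl, k, hk⟩ := W.local_indices hn hUS hUab hUcard hQS eQ
  change (Q ⊔ CfsgLib.Invol.centerG S ⊔ Subgroup.centralizer ((Q ⊔ CfsgLib.Invol.centerG S : Subgroup G) : Set G)).relIndex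
    (Subgroup.normalizer ((Q ⊔ CfsgLib.Invol.centerG S : Subgroup G) : Set G)) = _ at h₂
  rw [hk] at h₂
  have hA : W.FusedA := W.base_relIndex.2.1 h₁
  have hW : W.FusedW := (W.quat_relIndex k).2.1 h₂
  exact ⟨W.index_ne_two hA hW, W.card_classes_both hA hW⟩

end Cfsg.Agent.S1209
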