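import Cfsg.Statements.S1219
import Cfsg.Agent.Lib.Classical.PSL3Invol


set_option autoImplicit false
open scoped MatrixGroups
open Cfsg

namespace Cfsg.Agent.S1219

/-- Let F be a finite field of odd order q and t an involution of PSL(3,F). Then C(t) is isomorphic to the quotient of GL(2,F) by a central subgroup of order gcd(q−1, 3). -/
theorem result {F : Type*} [Field F] [Fintype F] (hF : Odd (Fintype.card F)) (t : Matrix.ProjectiveSpecialLinearGroup (Fin 3) F) (ht : orderOf t = 2) : ∃ (Z : Subgroup (GL (Fin 2) F)) (_ : Z.Normal), Z ≤ Subgroup.center (GL (Fin 2) F) ∧ Nat.card Z = Nat.gcd (Fintype.card F - 1) 3 ∧ Nonempty (↥(Subgroup.centralizer ({t} : Set (Matrix.ProjectiveSpecialLinearGroup (Fin 3) F))) ≃* GL (Fin 2) F ⧸ Z) := by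
  refine CfsgLib.PSL3Invol.main ?_ t ht
  intro h
  haveI : Fact (Nat.Prime 2) := ⟨Nat.prime_two⟩
  haveI : CharP F 2 := CharTwo.of_one_ne_zero_of_two_eq_zero one_ne_zero h
  obtain ⟨n, -, hn⟩ := FiniteField.card F 2
  exact Nat.not_even_iff_odd.2 hF (hn ▸ (Nat.even_pow.2 ⟨even_two, n.ne_zero⟩))

end Cfsg.Agent.S1219
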