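import Cfsg.Statements.S1229
import Cfsg.Agent.Lib.Invol.ElementaryTransitive


set_option autoImplicit false
open Cfsg

namespace Cfsg.Agent.S1229

/-- Let G be a finite group with a Sylow 2-subgroup T that is neither cyclic nor normal, such that the centralizer of every involution is an elementary abelian 2-group; put H = N_G(T) and X = G/H. Then G is triply transitive on X, an element fixing three distinct points of X is the identity, and T acts regularly on X minus the point H. -/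
theorem result {G : Type*} [Group G] [Finite G] (T : Sylow 2 G) (hnc : ¬ IsCyclic (T : Subgroup G)) (hnn : ¬ (T : Subgroup G).Normal) (hC : ∀ t : G, orderOf t = 2 → IsMulCommutative (Subgroup.centralizer ({t} : Set G)) ∧ ∀ c ∈ Subgroup.centralizer ({t} : Set G), c ^ 2 = 1) : (∀ x₁ x₂ x₃ y₁ y₂ y₃ : G ⧸ Subgroup.normalizer ((T : Subgroup G) : Set G), x₁ ≠ x₂ → x₁ ≠ x₃ → x₂ ≠ x₃ → y₁ ≠ y₂ → y₁ ≠ y₃ → y₂ ≠ y₃ → ∃ g : G, g • x₁ = y₁ ∧ g • x₂ = y₂ ∧ g • x₃ = y₃) ∧ (∀ g : G, ∀ x₁ x₂ x₃ : G ⧸ Subgroup.normalizer ((T : Subgroup G) : Set G), x₁ ≠ x₂ → x₁ ≠ x₃ → x₂ ≠ x₃ → g • x₁ = x₁ → g • x₂ = x₂ → g • x₃ = x₃ → g = 1) ∧ (∀ x y : G ⧸ Subgroup.normalizer ((T : Subgroup G) : Set G), x ≠ QuotientGroup.mk 1 → y ≠ QuotientGroup.mk 1 → ∃! t : G, t ∈ T ∧ t • x = y) := by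
  have h : CfsgLib.Invol.ElemCentralizers T := ⟨hnc, hnn, hC⟩
  obtain ⟨u, hu, hux⟩ := h.exists_move_out
  refine ⟨?_, fun g x₁ x₂ x₃ h12 h13 h23 e1 e2 e3 => h.three_fixed h12 h13 h23 e1 e2 e3,
    fun x y hx hy => h.exists_fix_base_move hx hy⟩
  intro x₁ x₂ x₃ y₁ y₂ y₃ h12 h13 h23 k12 k13 k23
  obtain ⟨a, ha1, ha2, ha3⟩ : ∃ a : G, a • x₁ = QuotientGroup.mk 1 ∧
      a • x₂ ≠ QuotientGroup.mk 1 ∧ a • x₃ ≠ QuotientGroup.mk 1 := by
    obtain ⟨a, ha⟩ := MulAction.exists_smul_eq G x₁ (QuotientGroup.mk 1)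
    exact ⟨a, ha, fun e => h12 (MulAction.injective a (ha.trans e.symm)),
      fun e => h13 (MulAction.injective a (ha.trans e.symm))⟩
  obtain ⟨t, ⟨ht, ht2⟩, -⟩ := h.exists_fix_base_move ha2 hux
  have htx : t • (QuotientGroup.mk 1 : G ⧸ Subgroup.normalizer ((T : Subgroup G) : Set G)) =
      QuotientGroup.mk 1 := CfsgLib.Invol.fixed_one_iff.2 (Subgroup.le_normalizer ht)
  have hP₀ : t • a • x₃ ≠ QuotientGroup.mk 1 :=
    fun e => ha3 (MulAction.injective t (e.trans htx.symm))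
  have hP₀y : t • a • x₃ ≠ u • QuotientGroup.mk 1 := fun e =>
    h23 (MulAction.injective a (MulAction.injective t (ht2.trans e.symm)))
  obtain ⟨g, g1, g2, g3⟩ := h.three_transitive h12 h13 h23 hu hux hP₀ hP₀y
  obtain ⟨k, k1, k2, k3⟩ := h.three_transitive k12 k13 k23 hu hux hP₀ hP₀y
  refine ⟨k⁻¹ * g, ?_, ?_, ?_⟩
  · rw [mul_smul, g1, ← k1, inv_smul_smul]
  · rw [mul_smul, g2, ← k2, inv_smul_smul]
  · rw [mul_smul, g3, ← k3, inv_smul_smul]

end Cfsg.Agent.S1229
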