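import Cfsg.Statements.S1231
import Cfsg.Agent.Lib.Fusion.Sylow
import Cfsg.Agent.Lib.Invol.NormalizerCriterion
import Mathlib.Tactic.Group


set_option autoImplicit false
open Cfsg

namespace Cfsg.Agent.S1231

/-- Let H be a subgroup of the finite group G, p a prime, k ≥ 1, and P a Sylow p-subgroup of H whose p-rank is at least k. Then N_G(X) ≤ H for every subgroup X of P of p-rank at least k if and only if H ∩ gHg⁻¹ has p-rank less than k for every g ∉ H. -/
theorem result {G : Type*} [Group G] [Finite G] {p : ℕ} [Fact p.Prime] (k : ℕ) (hk : 1 ≤ k) (H : Subgroup G) (P : Sylow p ↥H) (hP : ¬ Cfsg.PRankLE p (k - 1) ↥(P : Subgroup ↥H)) : (∀ X : Subgroup G, X ≤ (P : Subgroup ↥H).map H.subtype → ¬ Cfsg.PRankLE p (k - 1) ↥X → Subgroup.normalizer (X : Set G) ≤ H) ↔ (∀ g : G, g ∉ H → Cfsg.PRankLE p (k - 1) ↥(H ⊓ H.map (MulAut.conj g).toMonoidHom)) := by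
  obtain ⟨P0, hP0⟩ : ∃ P0 : Subgroup G, P0 = (P : Subgroup ↥H).map H.subtype := ⟨_, rfl⟩
  rw [← hP0]
  have hP0H : P0 ≤ H := hP0 ▸ Subgroup.map_subtype_le _
  have hP0p : IsPGroup p P0 := hP0 ▸ P.2.map _
  have hP0i : ¬ p ∣ P0.relIndex H := by
    rw [hP0, Subgroup.relIndex, Subgroup.subgroupOf, Subgroup.comap_map_eq_self_of_injective H.subtype_injective]
    exact P.not_dvd_index
  have mono : ∀ {X Y : Subgroup G}, X ≤ Y → ¬ Cfsg.PRankLE p (k - 1) X → ¬ Cfsg.PRankLE p (k - 1) Y := by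
    intro X Y hXY hX hY
    refine hX fun A hA hAp => ?_
    have h := hY (A.map (Subgroup.inclusion hXY)) ⟨⟨?_⟩⟩ ?_
    · rwa [Subgroup.card_map_of_injective (Subgroup.inclusion_injective hXY)] at h
    · rintro ⟨_, u, hu, rfl⟩ ⟨_, v, hv, rfl⟩
      refine Subtype.ext ?_
      show Subgroup.inclusion hXY u * Subgroup.inclusion hXY v = Subgroup.inclusion hXY v * Subgroup.inclusion hXY u
      rw [← map_mul, ← map_mul]
      exact congrArg _ (congrArg Subtype.val (hA.is_comm.comm ⟨u, hu⟩ ⟨v, hv⟩))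
    · rintro _ ⟨u, hu, rfl⟩
      rw [← map_pow, hAp u hu, map_one]
  constructor
  · intro hN g hg
    by_contra hI
    obtain ⟨I, hI'⟩ : ∃ I, I = H ⊓ H.map (MulAut.conj g).toMonoidHom := ⟨_, rfl⟩
    rw [← hI'] at hI
    simp only [Cfsg.PRankLE, not_forall] at hI
    obtain ⟨A, hA, hAp, hAc⟩ := hI
    have hAp' : IsPGroup p (A.map I.subtype) := IsPGroup.map (fun a => ⟨1, Subtype.ext (by simpa using hAp a a.2)⟩) _
    obtain ⟨Q, hAQ, hQI, hQp, hQi⟩ := CfsgLib.Fusion.exists_le_not_dvd_relIndex hAp' (Subgroup.map_subtype_le A)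
    have hQr : ¬ Cfsg.PRankLE p (k - 1) Q := by
      refine mono hAQ fun h => hAc ?_
      have h2 := h ⊤ ⟨⟨?_⟩⟩ ?_
      · rwa [Subgroup.card_top, Subgroup.card_subtype] at h2
      · rintro ⟨⟨_, u, hu, rfl⟩, -⟩ ⟨⟨_, v, hv, rfl⟩, -⟩
        refine Subtype.ext (Subtype.ext ?_)
        show I.subtype u * I.subtype v = I.subtype v * I.subtype u
        rw [← map_mul, ← map_mul]
        exact congrArg _ (congrArg Subtype.val (hA.is_comm.comm ⟨u, hu⟩ ⟨v, hv⟩))
      · rintro ⟨_, u, hu, rfl⟩ -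
        refine Subtype.ext ?_
        show (I.subtype u) ^ p = 1
        rw [← map_pow, hAp u hu, map_one]
    have hQH : Q ≤ H := hQI.trans (hI' ▸ inf_le_left)
    have hQg : Q ≤ CfsgLib.Fusion.conjBy g H := hQI.trans (hI' ▸ inf_le_right)
    obtain ⟨h, hh, hhQ⟩ := CfsgLib.Fusion.exists_conj_le_of_not_dvd_relIndex hP0p hP0H hP0i hQp hQH
    have hQr' : ¬ Cfsg.PRankLE p (k - 1) (CfsgLib.Fusion.conjBy h Q : Subgroup G) := by
      intro hc
      refine hQr fun B hB hBp => ?_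
      have e := (Q.equivMapOfInjective (MulAut.conj h).toMonoidHom (MulAut.conj h).injective)
      have h2 := hc (B.map e.toMonoidHom) ⟨⟨?_⟩⟩ ?_
      · rwa [Subgroup.card_map_of_injective (show Function.Injective e.toMonoidHom from e.injective)] at h2
      · rintro ⟨_, u, hu, rfl⟩ ⟨_, v, hv, rfl⟩
        refine Subtype.ext ?_
        show e.toMonoidHom u * e.toMonoidHom v = e.toMonoidHom v * e.toMonoidHom u
        rw [← map_mul, ← map_mul]
        exact congrArg _ (congrArg Subtype.val (hB.is_comm.comm ⟨u, hu⟩ ⟨v, hv⟩))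
      · rintro _ ⟨u, hu, rfl⟩
        rw [← map_pow, hBp u hu, map_one]
    have hNQ : Subgroup.normalizer (Q : Set G) ≤ H := by
      have h1 : CfsgLib.Fusion.conjBy h (Subgroup.normalizer (Q : Set G)) ≤ H := by
        rw [CfsgLib.Fusion.conjBy_normalizer]; exact hN _ hhQ hQr'
      have h2 := CfsgLib.Fusion.conjBy_mono (g := h⁻¹) h1
      rw [CfsgLib.Fusion.conjBy_inv_conjBy, CfsgLib.Fusion.conjBy_eq_iff.2 (Subgroup.le_normalizer (inv_mem hh))] at h2
      exact h2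
    -- `Q` is a Sylow subgroup of `H^g`
    obtain ⟨T, hQT, hTg, hTp, hTi⟩ := CfsgLib.Fusion.exists_le_not_dvd_relIndex hQp hQg
    have hTQ : T = Q := by
      by_contra hne
      obtain ⟨x, hxT, hxN, hxQ⟩ := CfsgLib.Invol.exists_mem_normalizer_notMem hTp hQT (fun h => hne (le_antisymm h hQT))
      have hR : Q ⊔ Subgroup.zpowers x ≤ T := sup_le hQT (Subgroup.zpowers_le.2 hxT)
      have hRI : Q ⊔ Subgroup.zpowers x ≤ I :=
        sup_le hQI (Subgroup.zpowers_le.2 (hI' ▸ ⟨hNQ hxN, hTg hxT⟩))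
      have := CfsgLib.Fusion.eq_of_le_of_isPGroup_of_not_dvd_relIndex (hTp.to_le hR) le_sup_left hRI hQi
      exact hxQ (this.le (Subgroup.mem_sup_right (Subgroup.mem_zpowers x)))
    subst hTQ
    -- move it back into `P0`
    have hgT : CfsgLib.Fusion.conjBy g⁻¹ T ≤ H := by
      have := CfsgLib.Fusion.conjBy_mono (g := g⁻¹) hTg
      rwa [CfsgLib.Fusion.conjBy_inv_conjBy] at this
    obtain ⟨h', hh', hh'T⟩ := CfsgLib.Fusion.exists_conj_le_of_not_dvd_relIndex hP0p hP0H hP0i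
      (CfsgLib.Fusion.isPGroup_conjBy g⁻¹ hTp) hgT
    have hTi' : ¬ p ∣ (CfsgLib.Fusion.conjBy h' (CfsgLib.Fusion.conjBy g⁻¹ T)).relIndex H := by
      have h1 := CfsgLib.Fusion.not_dvd_relIndex_conjBy h' (CfsgLib.Fusion.not_dvd_relIndex_conjBy g⁻¹ hTi)
      rwa [CfsgLib.Fusion.conjBy_inv_conjBy, CfsgLib.Fusion.conjBy_eq_iff.2 (Subgroup.le_normalizer hh')] at h1
    have e1 : P0 = CfsgLib.Fusion.conjBy h' (CfsgLib.Fusion.conjBy g⁻¹ T) :=
      CfsgLib.Fusion.eq_of_le_of_isPGroup_of_not_dvd_relIndex hP0p hh'T hP0H hTi'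
    have hcT : Nat.card P0 = Nat.card T := by
      rw [e1, CfsgLib.Fusion.card_conjBy, CfsgLib.Fusion.card_conjBy]
    have e2 : CfsgLib.Fusion.conjBy h T = P0 :=
      Subgroup.eq_of_le_of_card_ge hhQ (by rw [CfsgLib.Fusion.card_conjBy, hcT])
    have hn : h' * g⁻¹ * h⁻¹ ∈ Subgroup.normalizer (P0 : Set G) := by
      refine CfsgLib.Fusion.conjBy_eq_iff.1 ?_
      conv_rhs => rw [e1, CfsgLib.Fusion.conjBy_conjBy]
      rw [← e2, CfsgLib.Fusion.conjBy_conjBy]
      congr 1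
      group
    have hP0r : ¬ Cfsg.PRankLE p (k - 1) P0 := e2 ▸ hQr'
    have h1 := hN P0 le_rfl hP0r hn
    refine hg ?_
    have h2 := H.mul_mem (H.mul_mem (H.inv_mem hh') h1) hh
    have h3 : g⁻¹ ∈ H := by simpa [mul_assoc] using h2
    simpa using H.inv_mem h3
  · intro hI X hX hXr g hg
    by_contra hgH
    refine mono (le_inf (hX.trans hP0H) ?_) hXr (hI g hgH)
    exact (CfsgLib.Fusion.conjBy_eq_iff.2 hg).ge.trans (CfsgLib.Fusion.conjBy_mono (g := g) (hX.trans hP0H))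

end Cfsg.Agent.S1231
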