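import Cfsg.Statements.S1234
import Cfsg.Agent.Lib.PGroup.SelfCentEight.Main

set_option autoImplicit false
open Cfsg

namespace Cfsg.Agent.S1234

/-- Let S be a finite 2-group and Q ≤ S a subgroup of order 32 having an elementary abelian subgroup E of order 16 and an involution s ∉ E whose centralizer in E has order 4 (so Q ≅ (Z₂ × Z₂) ≀ Z₂). If C_S(Z(Q)) = Q, then every section of S has 2-rank at most 4. -/
theorem result {S : Type*} [Group S] [Finite S] (hS : IsPGroup 2 S) (Q E : Subgroup S) (hEQ : E ≤ Q) (hE : Cfsg.IsElementaryAbelian 2 E) (hE16 : Nat.card E = 16) (hQ32 : Nat.card Q = 32) (s : S) (hsQ : s ∈ Q) (hsE : s ∉ E) (hs : orderOf s = 2) (hfix : Nat.card ↥(E ⊓ Subgroup.centralizer ({s} : Set S)) = 4) (hC : Subgroup.centralizer (((Subgroup.center Q).map Q.subtype : Subgroup S) : Set S) = Q) : Cfsg.SectionalPRankLE 2 4 S := by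
  obtain ⟨-, hE2⟩ := hE
  have hss : s * s = 1 := by rw [← pow_two, ← hs, pow_orderOf_eq_one]
  have hidx : (E.subgroupOf Q).index = 2 := by
    have h1 := (E.subgroupOf Q).index_mul_card
    rw [Nat.card_congr (Subgroup.subgroupOfEquivOfLe hEQ).toEquiv, hE16, hQ32] at h1
    omega
  have hsplit : ∀ x ∈ Q, x ∈ E ∨ s * x ∈ E := by
    intro x hx
    by_cases hxE : x ∈ E
    · exact Or.inl hxE
    · have h1 := Subgroup.mul_mem_iff_of_index_two hidx (a := (⟨s, hsQ⟩ : Q)) (b := ⟨x, hx⟩)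
      simp only [Subgroup.mem_subgroupOf, Subgroup.coe_mul] at h1
      exact Or.inr (h1.2 (iff_of_false hsE hxE))
  set A := Q ⊓ Subgroup.centralizer ({s} : Set S) with hA
  have hsA : s ∈ A := ⟨hsQ, Subgroup.mem_centralizer_singleton_iff.2 rfl⟩
  have hexp : ∀ a ∈ A, a ^ 2 = 1 := by
    intro a ha
    rcases hsplit a ha.1 with h | h
    · exact hE2 a h
    · have hc : Commute s a := (Subgroup.mem_centralizer_singleton_iff.1 ha.2).symm
      have h2 := hE2 _ h
      rwa [hc.mul_pow, pow_two s, hss, one_mul] at h2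
  have hAE : A ⊓ E = E ⊓ Subgroup.centralizer ({s} : Set S) := by
    rw [hA, inf_assoc, inf_comm _ E, ← inf_assoc, inf_eq_right.2 hEQ]
  have hcard : Nat.card A = 8 := by
    have h2 : ((A ⊓ E).subgroupOf A).index = 2 := by
      refine Subgroup.index_eq_two_iff.2 ⟨⟨s, hsA⟩, fun b => ?_⟩
      simp only [Subgroup.mem_subgroupOf, Subgroup.coe_mul, Subgroup.mem_inf]
      rcases hsplit b b.2.1 with h | h
      · exact Or.inr ⟨⟨b.2, h⟩, fun h' => hsE ((mul_mem_cancel_left h).1 h'.2)⟩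
      · refine Or.inl ⟨⟨mul_mem b.2 hsA, ?_⟩, fun h' => hsE ((mul_mem_cancel_right h'.2).1 h)⟩
        rw [Subgroup.mem_centralizer_singleton_iff.1 b.2.2]
        exact h
    have h1 := ((A ⊓ E).subgroupOf A).index_mul_card
    rw [Nat.card_congr (Subgroup.subgroupOfEquivOfLe inf_le_left).toEquiv, h2, hAE, hfix] at h1
    omega
  refine CfsgLib.PGroup.SelfCentEight.sectional_of_eight (A := A) ⟨hS, hexp, hcard, ?_⟩
  refine le_antisymm (fun x hx => ?_) fun a ha => Subgroup.mem_centralizer_iff.2 fun b hb =>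
    (CfsgLib.PGroup.SelfCentEight.sq_comm hexp hb ha).eq
  refine ⟨?_, Subgroup.mem_centralizer_singleton_iff.2
    (Subgroup.mem_centralizer_iff.1 hx s hsA).symm⟩
  rw [← hC]
  refine Subgroup.mem_centralizer_iff.2 ?_
  rintro _ ⟨z, hz, rfl⟩
  refine Subgroup.mem_centralizer_iff.1 hx _ ?_
  have hzc : ∀ y ∈ Q, y * (z : S) = z * y := fun y hy => by
    exact congrArg Subtype.val (Subgroup.mem_center_iff.1 hz ⟨y, hy⟩)
  exact ⟨z.2, Subgroup.mem_centralizer_singleton_iff.2 (hzc s hsQ).symm⟩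

end Cfsg.Agent.S1234
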