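import Cfsg.Statements.S1236
import Cfsg.Agent.Lib.Invol.QuasiDihedralMaximal


set_option autoImplicit false
open Cfsg

namespace Cfsg.Agent.S1236

/-- Let R be a finite group, t a central involution of R such that R ⧸ ⟨t⟩ is dihedral (of order ≥ 4) or quasi-dihedral, and A ≤ R an elementary abelian subgroup of order 8 containing t. Then C_R(A) = A. -/
theorem result {R : Type*} [Group R] [Finite R] (t : R) (ht : orderOf t = 2) (htz : t ∈ Subgroup.center R) [(Subgroup.zpowers t).Normal] (hq : (∃ m : ℕ, 2 ≤ m ∧ Nonempty (R ⧸ Subgroup.zpowers t ≃* DihedralGroup m)) ∨ Cfsg.IsQuasiDihedral (R ⧸ Subgroup.zpowers t)) (A : Subgroup R) (hA : Cfsg.IsElementaryAbelian 2 A) (hA8 : Nat.card A = 8) (htA : t ∈ A) : Subgroup.centralizer (A : Set R) = A := by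
  set Z := Subgroup.zpowers t
  set π := QuotientGroup.mk' Z with hπ
  have hZA : Z ≤ A := Subgroup.zpowers_le.2 htA
  set E := A.map π with hE
  have hE4 : Nat.card E = 4 := by
    have h1 := (Z.subgroupOf A).card_mul_index
    rw [Nat.card_congr (Subgroup.subgroupOfEquivOfLe hZA).toEquiv, Nat.card_zpowers, ht, hA8] at h1
    have h2 : Nat.card E = (Z.subgroupOf A).index := by
      rw [hE, ← Subgroup.relIndex_bot_left, ← Subgroup.relIndex_comap, MonoidHom.comap_bot, hπ,
        QuotientGroup.ker_mk']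
      rfl
    omega
  have hE2 : ∀ x ∈ E, x ^ 2 = 1 := by
    rintro _ ⟨x, hx, rfl⟩; rw [← map_pow, hA.2 x hx, map_one]
  -- four-subgroups of the quotient are self-centralizing
  have hself : Subgroup.centralizer (E : Set (R ⧸ Z)) ≤ E := by
    obtain ⟨M, r, e, a, b, F, hex⟩ : ∃ (M : ℕ) (r e : ℤ) (a b : R ⧸ Z),
        CfsgLib.Invol.CyclicFrame M r e a b ∧ ∀ i : ℤ, (a ^ i * b) ^ 2 = 1 → ∀ x : R ⧸ Z,
          x * (a ^ i * b) = a ^ i * b * x → x ^ 2 = 1 := by
      rcases hq with ⟨m, hm, ⟨f⟩⟩ | hq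
      · haveI : NeZero m := ⟨by omega⟩
        have FD := CfsgLib.Invol.dihedral_frame m
        refine ⟨m, -1, 0, f.symm (DihedralGroup.r 1), f.symm (DihedralGroup.sr 0),
          ⟨?_, ?_, ?_, ?_, ?_, FD.pos⟩, ?_⟩
        · rw [MulEquiv.orderOf_eq, FD.ord]
        · rw [Nat.card_congr f.toEquiv, FD.card]
        · intro hmem
          obtain ⟨j, hj⟩ := Subgroup.mem_zpowers_iff.1 hmem
          refine FD.notMem (Subgroup.mem_zpowers_iff.2 ⟨j, f.symm.injective ?_⟩)
          rw [map_zpow, hj]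
        · rw [← map_inv, ← map_mul, ← map_mul, FD.conj, map_zpow]
        · rw [← map_mul, FD.sq, map_zpow]
        · intro i _ x hx
          rw [← map_zpow, ← map_mul] at hx
          obtain ⟨y, rfl⟩ := f.symm.surjective x
          rw [← map_mul, ← map_mul, f.symm.injective.eq_iff] at hx
          rw [← map_pow, MulEquiv.map_eq_one_iff]
          obtain ⟨j, rfl | rfl⟩ := FD.exists_eq y
          · rw [CfsgLib.Invol.CyclicFrame.rot_mul_ref, FD.ref_mul_rot, FD.mul_b_eq_iff] at hx
            rw [← zpow_natCast, ← zpow_mul, FD.zpow_eq_one_iff, ← ZMod.intCast_zmod_eq_zero_iff_dvd]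
            push_cast at hx ⊢
            linear_combination hx
          · rw [FD.ref_sq, FD.zpow_eq_one_iff]; simp
      · obtain ⟨k, a, b, hk, hc, Q⟩ := CfsgLib.Invol.exists_qdFrame hq
        obtain ⟨M, hM, F⟩ := Q.frame
        refine ⟨M, _, 0, a, b, F, fun i hi x hx => ?_⟩
        obtain ⟨j, rfl | rfl⟩ := Q.exists_eq x
        · exact Q.rot_sq_eq_one_iff.2 (Q.rot_ref_commute_iff.1 hx)
        · refine Q.ref_sq_eq_one_iff.2 ?_
          have h1 := Q.ref_ref_commute_iff.1 hx
          have h2 := Q.ref_sq_eq_one_iff.1 hi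
          have h3 : (2 : ℤ) ∣ i - j := (dvd_mul_right 2 _).trans h1
          omega
    obtain ⟨i, hi⟩ : ∃ i : ℤ, a ^ i * b ∈ E := by
      by_contra hall
      push Not at hall
      have hle : E ≤ Subgroup.zpowers a := fun x hx => by
        obtain ⟨i, rfl | rfl⟩ := F.exists_eq x
        · exact Subgroup.zpow_mem_zpowers a i
        · exact absurd hx (hall i)
      haveI : IsCyclic E := isCyclic_of_injective (Subgroup.inclusion hle) (Subgroup.inclusion_injective hle)
      haveI := F.finite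
      obtain ⟨q, hq'⟩ := IsCyclic.exists_generator (α := E)
      rw [← orderOf_eq_card_of_forall_mem_zpowers hq'] at hE4
      have := Nat.le_of_dvd two_pos (orderOf_dvd_of_pow_eq_one
        (Subtype.ext (by simpa using hE2 _ q.2) : q ^ 2 = 1))
      omega
    set C := Subgroup.centralizer ({a ^ i * b} : Set (R ⧸ Z)) with hC
    have hEC : E ≤ C := fun x hx => Subgroup.mem_centralizer_singleton_iff.2 (by
      have h1 := hE2 _ (mul_mem hx hi)
      have hxi : x⁻¹ = x := inv_eq_of_mul_eq_one_left (by rw [← pow_two, hE2 x hx])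
      have hbi : (a ^ i * b)⁻¹ = a ^ i * b := inv_eq_of_mul_eq_one_left (by rw [← pow_two, hE2 _ hi])
      calc x * (a ^ i * b) = (x * (a ^ i * b))⁻¹ := (inv_eq_of_mul_eq_one_left (by rw [← pow_two]; exact h1)).symm
        _ = a ^ i * b * x := by rw [mul_inv_rev, hxi, hbi])
    have hC4 : Nat.card C ≤ 4 := CfsgLib.Invol.card_le_four_of_frame F C fun x hx =>
      hex i (hE2 _ hi) x (Subgroup.mem_centralizer_singleton_iff.1 hx)
    have heq : E = C := Subgroup.eq_of_le_of_card_ge hEC (by omega)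
    intro x hx
    rw [heq]
    exact Subgroup.mem_centralizer_singleton_iff.2 ((Subgroup.mem_centralizer_iff.1 hx _ hi).symm)
  refine le_antisymm (fun x hx => ?_) (fun x hx => Subgroup.mem_centralizer_iff.2 fun y hy =>
    congrArg Subtype.val (hA.1.is_comm.comm ⟨y, hy⟩ ⟨x, hx⟩))
  have h1 : π x ∈ E := hself (Subgroup.mem_centralizer_iff.2 (by
    rintro _ ⟨y, hy, rfl⟩
    rw [← map_mul, ← map_mul, Subgroup.mem_centralizer_iff.1 hx y hy]))
  obtain ⟨y, hy, hyx⟩ := h1
  have h3 : y⁻¹ * x ∈ A := hZA (QuotientGroup.eq.1 hyx)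
  simpa using mul_mem hy h3

end Cfsg.Agent.S1236
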