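import Cfsg.Statements.S1243
import Cfsg.Agent.Lib.Invol.WeaklyClosed


set_option autoImplicit false
open Cfsg

namespace Cfsg.Agent.S1243

/-- Let T be a Sylow p-subgroup of the finite group G and W ≤ T a subgroup weakly closed in T. If d and g d g⁻¹ both centralize W, then g d g⁻¹ = h d h⁻¹ for some h ∈ N_G(W). -/
theorem result {G : Type*} [Group G] [Finite G] {p : ℕ} [Fact p.Prime] (T : Sylow p G) (W : Subgroup G) (hW : Cfsg.IsWeaklyClosed W (T : Subgroup G)) (d g : G) (hd : d ∈ Subgroup.centralizer (W : Set G)) (hgd : g * d * g⁻¹ ∈ Subgroup.centralizer (W : Set G)) : ∃ h ∈ Subgroup.normalizer (W : Set G), h * d * h⁻¹ = g * d * g⁻¹ := by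
  have hd' := Subgroup.mem_centralizer_iff.1 hd
  have hgd' := Subgroup.mem_centralizer_iff.1 hgd
  have h1 : W ≤ Subgroup.centralizer ({d} : Set G) := fun w hw =>
    Subgroup.mem_centralizer_singleton_iff.2 (hd' w hw)
  have h2 : W.map (MulAut.conj g⁻¹).toMonoidHom ≤ Subgroup.centralizer ({d} : Set G) := by
    intro w hw
    rw [CfsgLib.Invol.mem_conj_map, inv_inv] at hw
    rw [Subgroup.mem_centralizer_singleton_iff]
    have := hgd' _ hw
    calc w * d = g⁻¹ * (g * w * g⁻¹ * (g * d * g⁻¹)) * g := by group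
      _ = g⁻¹ * (g * d * g⁻¹ * (g * w * g⁻¹)) * g := by rw [this]
      _ = d * w := by group
  obtain ⟨c, hc, hce⟩ := CfsgLib.Invol.exists_mem_conj_eq T hW h1 h2
  refine ⟨g * c, CfsgLib.Invol.mem_normalizer_of_conj_map_eq ?_, ?_⟩
  · rw [← CfsgLib.Invol.conj_map_conj_map, hce, CfsgLib.Invol.conj_map_conj_map, mul_inv_cancel,
      CfsgLib.Invol.conj_map_one]
  · rw [Subgroup.mem_centralizer_singleton_iff] at hc
    calc g * c * d * (g * c)⁻¹ = g * (c * d) * (c⁻¹ * g⁻¹) := by group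
      _ = g * (d * c) * (c⁻¹ * g⁻¹) := by rw [hc]
      _ = g * d * g⁻¹ := by group

end Cfsg.Agent.S1243
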