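import Cfsg.Statements.S1247
import Cfsg.Agent.Lib.Coprime.LargeSubnormal
import Cfsg.Agent.Lib.PGroup.CharPLocal


set_option autoImplicit false
open Cfsg

namespace Cfsg.Agent.S1247

/-- Let G be a non-abelian finite simple group, A a maximal subgroup, F = F*(A) its generalized Fitting subgroup (viewed in G), and S ≤ F a subgroup subnormal in F with C_F(S) ≤ S. Let B be any subgroup of G containing S. Then (a) for every prime q not dividing |F(A)|, O_q(B) ∩ A = 1; and (b) for every prime p dividing |F(A)|, O_p(B) commutes elementwise with the subgroup of F generated by its elements of order prime to p. -/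
theorem result {G : Type*} [Group G] [Finite G] [IsSimpleGroup G] (hna : ¬ IsMulCommutative G) (A : Subgroup G) (hA : IsCoatom A) (S : Subgroup G) (hSF : S ≤ (Cfsg.generalizedFittingSubgroup ↥A).map A.subtype) (hSsn : (S.subgroupOf ((Cfsg.generalizedFittingSubgroup ↥A).map A.subtype)).IsSubnormal) (hSC : (Cfsg.generalizedFittingSubgroup ↥A).map A.subtype ⊓ Subgroup.centralizer (S : Set G) ≤ S) (B : Subgroup G) (hSB : S ≤ B) : (∀ q : ℕ, q.Prime → ¬ q ∣ Nat.card (Cfsg.fittingSubgroup ↥A) → (Cfsg.pCore q ↥B).map B.subtype ⊓ A = ⊥) ∧ (∀ p : ℕ, p.Prime → p ∣ Nat.card (Cfsg.fittingSubgroup ↥A) → ∀ x ∈ (Cfsg.pCore p ↥B).map B.subtype, ∀ y ∈ (Cfsg.pResidual p ↥(Cfsg.generalizedFittingSubgroup ↥A)).map ((Cfsg.generalizedFittingSubgroup ↥A).subtype) , x * (A.subtype y) = (A.subtype y) * x) := by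
  classical
  set F := Cfsg.generalizedFittingSubgroup ↥A with hF
  haveI hFn : F.Normal := CfsgLib.Coprime.generalizedFitting_normal
  have hSA : S ≤ A := hSF.trans (Subgroup.map_subtype_le _)
  set S' := S.subgroupOf A with hS'
  have hS'F : S' ≤ F := by
    intro s hs
    obtain ⟨f, hf, hfs⟩ := hSF (Subgroup.mem_subgroupOf.1 hs)
    exact Subtype.ext hfs ▸ hf
  have hsn : (S'.subgroupOf F).IsSubnormal := by
    have h := hSsn.comap (F.equivMapOfInjective A.subtype A.subtype_injective).toMonoidHom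
    exact h
  have hC : ∀ f ∈ F, (∀ s ∈ S', Commute f s) → f ∈ S' := by
    intro f hf hcomm
    refine Subgroup.mem_subgroupOf.2 (hSC ⟨⟨f, hf, rfl⟩, Subgroup.mem_centralizer_iff.2 fun s hs => ?_⟩)
    exact congrArg Subtype.val (hcomm ⟨s, hSA hs⟩ (Subgroup.mem_subgroupOf.2 hs)).eq.symm
  have hE := CfsgLib.Coprime.Large.layer_le hS'F hsn hC
  have hnorm : ∀ W : Subgroup ↥A, W.Normal → W ≠ ⊥ → ∀ u : G, (∀ w ∈ W, (w : G) * u = u * w) → u ∈ A := by
    intro W hW hW1 u hu
    set W' := W.map A.subtype with hW'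
    have hAN : A ≤ Subgroup.normalizer (W' : Set G) := by
      intro a ha
      refine Subgroup.mem_normalizer_iff.2 fun z => ⟨?_, ?_⟩
      · rintro ⟨w, hw, rfl⟩
        exact ⟨_, hW.conj_mem w hw ⟨a, ha⟩, rfl⟩
      · rintro ⟨w, hw, hwz⟩
        have hwz' : (w : G) = a * z * a⁻¹ := hwz
        refine ⟨_, hW.conj_mem w hw ⟨a, ha⟩⁻¹, ?_⟩
        show a⁻¹ * (w : G) * a⁻¹⁻¹ = z
        rw [hwz']; group
    have hne : Subgroup.normalizer (W' : Set G) ≠ ⊤ := by
      intro htop
      haveI : W'.Normal := Subgroup.normalizer_eq_top_iff.1 htop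
      rcases (‹W'.Normal›).eq_bot_or_eq_top with h | h
      · exact hW1 ((Subgroup.map_eq_bot_iff_of_injective _ A.subtype_injective).1 h)
      · exact hA.1 (top_unique (h ▸ Subgroup.map_subtype_le _))
    have heq : Subgroup.normalizer (W' : Set G) = A := ((eq_or_lt_of_le hAN).resolve_right fun h => hne (hA.2 _ h)).symm
    rw [← heq]
    refine Subgroup.centralizer_le_normalizer _ (Subgroup.mem_centralizer_iff.2 ?_)
    rintro _ ⟨w, hw, rfl⟩
    exact hu w hw
  have hBnorm : ∀ (p : ℕ), S' ≤ Subgroup.normalizer ((((Cfsg.pCore p ↥B).map B.subtype).subgroupOf A : Subgroup ↥A) : Set ↥A) := by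
    intro p s hs
    haveI := CfsgLib.Coprime.pCore_normal' (G := ↥B) p
    have hsB : (s : G) ∈ B := hSB (Subgroup.mem_subgroupOf.1 hs)
    refine Subgroup.mem_normalizer_iff.2 fun z => ⟨?_, ?_⟩
    · intro hz
      obtain ⟨b, hb, hbz⟩ := Subgroup.mem_subgroupOf.1 hz
      have hbz' : (b : G) = z := hbz
      refine Subgroup.mem_subgroupOf.2 ⟨_, (‹(Cfsg.pCore p ↥B).Normal›).conj_mem b hb ⟨s, hsB⟩, ?_⟩
      show (s : G) * b * (s : G)⁻¹ = _
      rw [hbz']; rfl
    · intro hz
      obtain ⟨b, hb, hbz⟩ := Subgroup.mem_subgroupOf.1 hz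
      have hbz' : (b : G) = (s : G) * z * (s : G)⁻¹ := hbz
      refine Subgroup.mem_subgroupOf.2 ⟨_, (‹(Cfsg.pCore p ↥B).Normal›).conj_mem b hb ⟨s, hsB⟩⁻¹, ?_⟩
      show (s : G)⁻¹ * b * ((s : G)⁻¹)⁻¹ = _
      rw [hbz']; group
  have hcomm : ∀ (p : ℕ) [Fact p.Prime], ∀ x : ↥A, (x : G) ∈ (Cfsg.pCore p ↥B).map B.subtype →
      (∀ s ∈ S', x * s * x⁻¹ * s⁻¹ ∈ Cfsg.pCore p ↥A) ∧
      (∀ s ∈ S', (orderOf s).Coprime p → Commute x s) ∧
      (∀ y ∈ F, (orderOf y).Coprime p → Commute x y) := by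
    intro p _ x hx
    have hPp : IsPGroup p (((Cfsg.pCore p ↥B).map B.subtype).subgroupOf A) :=
      ((CfsgLib.Coprime.pCore_isPGroup p).map _).comap_of_injective _ A.subtype_injective
    have h1 : ∀ s ∈ S', x * s * x⁻¹ * s⁻¹ ∈ Cfsg.pCore p ↥A := fun s hs =>
      CfsgLib.Coprime.Large.commutator_mem_core hS'F hE hPp (hBnorm p) (Subgroup.mem_subgroupOf.2 hx) hs
    have h2 : ∀ s ∈ S', (orderOf s).Coprime p → Commute x s := fun s hs hsc =>
      CfsgLib.Coprime.Large.commute_of_commutator_mem hS'F hs hsc (h1 s hs)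
    obtain ⟨a, ha⟩ := hPp ⟨x, Subgroup.mem_subgroupOf.2 hx⟩
    exact ⟨h1, h2, CfsgLib.Coprime.Large.commute_gen_of_commute hS'F hE hC (congrArg Subtype.val ha) h2⟩
  refine ⟨fun q hq hqd => ?_, fun p hp hpd x hx y hy => ?_⟩
  · haveI := Fact.mk hq
    have hO : Cfsg.pCore q ↥A = ⊥ := by
      obtain ⟨k, hk⟩ := (CfsgLib.Coprime.pCore_isPGroup q : IsPGroup q (Cfsg.pCore q ↥A)).exists_card_eq
      rcases Nat.eq_zero_or_pos k with rfl | hkp
      · exact Subgroup.card_eq_one.1 (by rw [hk, pow_zero])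
      · exact absurd ((dvd_pow_self q hkp.ne').trans (hk ▸ Subgroup.card_dvd_of_le (CfsgLib.Coprime.pCore_le_fitting q))) hqd
    rw [eq_bot_iff]
    rintro g ⟨hg, hgA⟩
    set x : ↥A := ⟨g, hgA⟩
    obtain ⟨-, -, h3⟩ := hcomm q x hg
    have hxC : x ∈ Subgroup.centralizer (F : Set ↥A) := by
      refine Subgroup.mem_centralizer_iff.2 fun f hf => ?_
      obtain ⟨e, he, o, ho, k, hk, rfl⟩ := CfsgLib.Coprime.Large.exists_decomp (p := q) hf
      rw [hO, Subgroup.mem_bot] at ho
      subst ho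
      rw [one_mul]
      have hEc : Cfsg.layer ↥A ≤ Subgroup.centralizer ({x} : Set ↥A) :=
        CfsgLib.Coprime.Large.layer_le_of_coprime (S := F) CfsgLib.Coprime.layer_le_generalizedFitting
          fun s hs hsc => Subgroup.mem_centralizer_singleton_iff.2 (h3 s hs hsc).symm
      exact ((show Commute e x from Subgroup.mem_centralizer_singleton_iff.1 (hEc he)).mul_left
        (h3 k (CfsgLib.Coprime.fitting_le_generalizedFitting hk.1) (CfsgLib.Coprime.Large.orderOf_coprime_fitPrime hk)).symm).eq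
    have hxF : x ∈ F := CfsgLib.Coprime.centralizer_generalizedFitting_le hxC
    have hxfit : x ∈ Cfsg.fittingSubgroup ↥A := by
      rw [← CfsgLib.Coprime.generalizedFitting_inf_centralizer_layer]
      exact ⟨hxF, Subgroup.centralizer_le CfsgLib.Coprime.layer_le_generalizedFitting hxC⟩
    obtain ⟨b, hb, hbg⟩ := hg
    obtain ⟨k, hk⟩ := (CfsgLib.Coprime.pCore_isPGroup q : IsPGroup q (Cfsg.pCore q ↥B)) ⟨b, hb⟩
    have hxp : x ^ q ^ k = 1 := by
      refine Subtype.ext ?_
      show g ^ q ^ k = 1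
      rw [← hbg, ← map_pow, show b ^ q ^ k = 1 from congrArg Subtype.val hk, map_one]
    obtain ⟨j, hj, hjo⟩ := (Nat.dvd_prime_pow hq).1 (orderOf_dvd_of_pow_eq_one hxp)
    rcases Nat.eq_zero_or_pos j with rfl | hjp
    · rw [pow_zero, orderOf_eq_one_iff] at hjo
      exact congrArg Subtype.val hjo
    · exact absurd ((dvd_pow_self q hjp.ne').trans (hjo ▸ Subgroup.orderOf_dvd_natCard _ hxfit)) hqd
  · haveI := Fact.mk hp
    by_cases htriv : ∀ f ∈ F, (orderOf f).Coprime p → f = 1
    · obtain ⟨y', hy', rfl⟩ := hy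
      have : Cfsg.pResidual p ↥F ≤ ⊥ := (Subgroup.closure_le _).2 fun f hf => Subgroup.mem_bot.2
        (Subtype.ext (htriv f f.2 (by rw [Subgroup.orderOf_coe]; exact hf)))
      rw [Subgroup.mem_bot.1 (this hy')]
      simp
    have hOne : Cfsg.pCore p ↥A ≠ ⊥ := by
      intro h0
      haveI := CfsgLib.Coprime.fitting_isNilpotent (G := ↥A)
      obtain ⟨f, hf⟩ := exists_prime_orderOf_dvd_card' (G := Cfsg.fittingSubgroup ↥A) p hpd
      obtain ⟨o, ho, k, hk, hok⟩ := CfsgLib.Coprime.Large.exists_decomp_fitting (p := p) f.2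
      rw [h0, Subgroup.mem_bot] at ho
      rw [ho, one_mul] at hok
      have hc := CfsgLib.Coprime.Large.orderOf_coprime_fitPrime hk
      rw [hok, Subgroup.orderOf_coe, hf, Nat.coprime_self] at hc
      exact hp.ne_one hc
    haveI hOn := CfsgLib.Coprime.pCore_normal' (G := ↥A) p
    haveI : Group.IsNilpotent (Cfsg.pCore p ↥A) := (CfsgLib.Coprime.pCore_isPGroup p).isNilpotent
    haveI : Nontrivial (Cfsg.pCore p ↥A) := (Subgroup.nontrivial_iff_ne_bot _).2 hOne
    set Z := (Subgroup.center (Cfsg.pCore p ↥A)).map (Cfsg.pCore p ↥A).subtype with hZ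
    have hZn : Z.Normal := CfsgLib.Coprime.map_subtype_normal_of_characteristic _ _
    have hZ1 : Z ≠ ⊥ := fun h => by
      rw [hZ, Subgroup.map_eq_bot_iff_of_injective _ (Subgroup.subtype_injective _)] at h
      exact (bot_lt_iff_ne_bot.1 (IsPGroup.bot_lt_center (CfsgLib.Coprime.pCore_isPGroup p))) h
    have hZS : ∀ z ∈ Z, z ∈ S' ⊓ Cfsg.pCore p ↥A := by
      rintro _ ⟨z, hz, rfl⟩
      refine ⟨CfsgLib.Coprime.Large.mem_of_commute hS'F hE hC
        ((CfsgLib.Coprime.pCore_le_fitting p).trans CfsgLib.Coprime.fitting_le_generalizedFitting z.2)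
        (fun s hs hsc => (CfsgLib.Coprime.Large.commute_core_of_coprime (hS'F hs) hsc z.2).symm)
        (fun o ho => (congrArg Subtype.val (Subgroup.mem_center_iff.1 hz ⟨o, ho.2⟩)).symm), z.2⟩
    -- `O_p(B)` centralizes the elements of `S` of order prime to `p`
    set P := (Cfsg.pCore p ↥B).map B.subtype with hP
    have hBP : B ≤ Subgroup.normalizer (P : Set G) := by
      intro b hb
      haveI := CfsgLib.Coprime.pCore_normal' (G := ↥B) p
      refine Subgroup.mem_normalizer_iff.2 fun z => ⟨?_, ?_⟩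
      · rintro ⟨w, hw, rfl⟩
        exact ⟨_, (‹(Cfsg.pCore p ↥B).Normal›).conj_mem w hw ⟨b, hb⟩, rfl⟩
      · rintro ⟨w, hw, hwz⟩
        have hwz' : (w : G) = b * z * b⁻¹ := hwz
        refine ⟨_, (‹(Cfsg.pCore p ↥B).Normal›).conj_mem w hw ⟨b, hb⟩⁻¹, ?_⟩
        show b⁻¹ * (w : G) * b⁻¹⁻¹ = z
        rw [hwz']; group
    have hPs : ∀ s ∈ S', (orderOf s).Coprime p → ∀ u ∈ P, (s : G) * u = u * s := by
      intro s hs hsc u hu
      set P' := (S' ⊓ Cfsg.pCore p ↥A).map A.subtype with hP'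
      set Q := Subgroup.zpowers (s : G) with hQ
      have hP'S : P' ≤ S := by
        rintro _ ⟨o, ho, rfl⟩
        exact Subgroup.mem_subgroupOf.1 ho.1
      have h := CfsgLib.Coprime.pq_lemma (p := p) (P := P') (Q := Q) (U := P)
        (((CfsgLib.Coprime.pCore_isPGroup p).to_le inf_le_right).map _)
        (by rw [hQ, Nat.card_zpowers, Subgroup.orderOf_coe]; exact hsc)
        ((CfsgLib.Coprime.pCore_isPGroup p).map _)
        (by
          rintro _ ⟨o, ho, rfl⟩
          rw [hQ, ← CfsgLib.CharPLoc.centralizer_singleton_eq, Subgroup.mem_centralizer_singleton_iff]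
          exact congrArg Subtype.val (CfsgLib.Coprime.Large.commute_core_of_coprime (hS'F hs) hsc ho.2).eq.symm)
        ((hP'S.trans hSB).trans hBP)
        ((Subgroup.zpowers_le.2 (hSB (Subgroup.mem_subgroupOf.1 hs))).trans hBP)
        (by
          rintro v ⟨hv, hvc⟩
          have hvA : v ∈ A := hnorm Z hZn hZ1 v fun z hz => by
            exact Subgroup.mem_centralizer_iff.1 hvc (z : G) ⟨z, hZS z hz, rfl⟩
          rw [hQ, ← CfsgLib.CharPLoc.centralizer_singleton_eq, Subgroup.mem_centralizer_singleton_iff]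
          exact congrArg Subtype.val ((hcomm p ⟨v, hvA⟩ hv).2.1 s hs hsc).eq)
      exact (Subgroup.mem_centralizer_iff.1 (h (Subgroup.mem_zpowers _)) u hu).symm
    have hPA : ∀ u ∈ P, u ∈ A := by
      intro u hu
      by_cases hL : Cfsg.layer ↥A = ⊥
      · haveI hKn := CfsgLib.Coprime.Large.fitPrime_normal (H := ↥A) (p := p)
        set K := CfsgLib.Coprime.Large.fitPrime p ↥A with hK
        haveI : Group.IsNilpotent K := by
          haveI := CfsgLib.Coprime.fitting_isNilpotent (G := ↥A)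
          exact CfsgLib.Coprime.isNilpotent_of_le (inf_le_left : K ≤ Cfsg.fittingSubgroup ↥A) inferInstance
        have hK1 : K ≠ ⊥ := fun h => htriv fun f hf hfc => by
          have := CfsgLib.Coprime.Large.mem_of_coprime hf hfc
          rw [hL, ← hK, h, bot_sup_eq] at this
          exact Subgroup.mem_bot.1 this
        haveI : Nontrivial K := (Subgroup.nontrivial_iff_ne_bot _).2 hK1
        set Z' := (Subgroup.center K).map K.subtype with hZ'
        refine hnorm Z' (CfsgLib.Coprime.map_subtype_normal_of_characteristic _ _) (fun h => ?_) u ?_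
        · rw [hZ', Subgroup.map_eq_bot_iff_of_injective _ (Subgroup.subtype_injective _)] at h
          exact CfsgLib.Coprime.nilpotent_inf_center_ne_bot (⊤ : Subgroup K) (by simp) (by rw [top_inf_eq]; exact h)
        · rintro _ ⟨z, hz, rfl⟩
          refine hPs _ (CfsgLib.Coprime.Large.mem_of_commute (p := p) hS'F hE hC
            (CfsgLib.Coprime.fitting_le_generalizedFitting z.2.1) (fun s hs hsc => ?_)
            (fun o ho => (CfsgLib.Coprime.Large.commute_core_fitPrime ho.2 z.2).symm))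
            (CfsgLib.Coprime.Large.orderOf_coprime_fitPrime z.2) u hu
          have hsK := CfsgLib.Coprime.Large.mem_of_coprime (hS'F hs) hsc
          rw [hL, bot_sup_eq] at hsK
          exact (congrArg Subtype.val (Subgroup.mem_center_iff.1 hz ⟨s, hsK⟩)).symm
      · refine hnorm _ CfsgLib.Coprime.layer_normal hL u fun w hw => ?_
        have h4 := CfsgLib.Coprime.Large.layer_le_of_coprime (p := p) (C := (Subgroup.centralizer ({u} : Set G)).comap A.subtype) hE
          fun s hs hsc => Subgroup.mem_centralizer_singleton_iff.2 (hPs s hs hsc u hu)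
        exact Subgroup.mem_centralizer_singleton_iff.1 (h4 hw)
    obtain ⟨y', hy', rfl⟩ := hy
    obtain ⟨-, -, h3⟩ := hcomm p ⟨x, hPA x hx⟩ hx
    have hle : Cfsg.pResidual p ↥F ≤ (Subgroup.centralizer ({x} : Set G)).comap (A.subtype.comp F.subtype) :=
      (Subgroup.closure_le _).2 fun f hf => Subgroup.mem_centralizer_singleton_iff.2
        (congrArg Subtype.val (h3 f f.2 (by rw [Subgroup.orderOf_coe]; exact hf)).eq.symm)
    exact (Subgroup.mem_centralizer_singleton_iff.1 (hle hy')).symm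

end Cfsg.Agent.S1247
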