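import Cfsg.Statements.S1248
import Cfsg.Agent.Lib.SU.UnitalModel

set_option autoImplicit false
open Cfsg

namespace Cfsg.Agent.S1248

/-- Let F be a field with 16 elements and S a Sylow 2-subgroup of PSU(3) over F (the unitary group U₃(4)). Then |S| = 64; the centre Z(S) is a Klein four-group and coincides with the subgroup generated by the involutions of S and with the derived subgroup; and every element of S ⧸ Z(S) squares to the identity, S ⧸ Z(S) having order 16. -/
theorem result {F : Type*} [Field F] [Fintype F] (hF : Fintype.card F = 16) (S : Sylow 2 (Cfsg.PSU 3 F 4)) : Nat.card S = 64 ∧ IsKleinFour (Subgroup.center (S : Subgroup (Cfsg.PSU 3 F 4))) ∧ Subgroup.center (S : Subgroup (Cfsg.PSU 3 F 4)) = Subgroup.closure {x : (S : Subgroup (Cfsg.PSU 3 F 4)) | orderOf x = 2} ∧ Subgroup.center (S : Subgroup (Cfsg.PSU 3 F 4)) = commutator (S : Subgroup (Cfsg.PSU 3 F 4)) ∧ Nat.card ((S : Subgroup (Cfsg.PSU 3 F 4)) ⧸ Subgroup.center (S : Subgroup (Cfsg.PSU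 3 F 4))) = 16 ∧ ∀ x : (S : Subgroup (Cfsg.PSU 3 F 4)) ⧸ Subgroup.center (S : Subgroup (Cfsg.PSU 3 F 4)), x ^ 2 = 1 := by
  haveI : Fact (Nat.Prime 2) := ⟨Nat.prime_two⟩
  haveI : CharP F 2 := charP_of_card_eq_prime_pow (f := 4) (by rw [hF]; norm_num)
  obtain ⟨U', -⟩ := CfsgLib.SU.unital_sylow_psu (n := 2) (by norm_num) (by rw [hF]; norm_num) S
  have U : CfsgLib.SU.Unital ↥(S : Subgroup (Cfsg.PSU 3 F 4)) F := U'
  have hN : Nat.card F = 4 ^ 2 := by rw [Nat.card_eq_fintype_card, hF]; norm_num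
  have hc := U.card_center_eq (q := 4) hN
  have hsq : ∀ x : ↥(Subgroup.center ↥(S : Subgroup (Cfsg.PSU 3 F 4))), x ^ 2 = 1 := fun x =>
    Subtype.ext (by
      rw [SubgroupClass.coe_pow, sq]
      exact U.mul_self_eq_one_iff.2 (U.mem_center_iff.1 x.2))
  refine ⟨(U.card_eq (q := 4) hN).trans (by norm_num), ⟨hc, ?_⟩, ?_, ?_, (U.card_quotient).trans
    (by rw [Nat.card_eq_fintype_card, hF]), ?_⟩
  · haveI : Nontrivial ↥(Subgroup.center ↥(S : Subgroup (Cfsg.PSU 3 F 4))) :=
      Finite.one_lt_card_iff_nontrivial.1 (by rw [hc]; norm_num)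
    exact (Monoid.exponent_eq_prime_iff Nat.prime_two).2 fun g hg =>
      orderOf_eq_prime (hsq g) hg
  · refine le_antisymm (fun x hx => ?_) ((Subgroup.closure_le _).2 fun x hx => ?_)
    · by_cases h1 : x = 1
      · exact h1 ▸ one_mem _
      refine Subgroup.subset_closure (orderOf_eq_prime ?_ h1)
      rw [sq]
      exact U.mul_self_eq_one_iff.2 (U.mem_center_iff.1 hx)
    · show x ∈ Subgroup.center _
      rw [U.mem_center_iff, ← U.mul_self_eq_one_iff, ← sq]
      exact (congrArg (x ^ ·) (hx : orderOf x = 2)).symm.trans (pow_orderOf_eq_one x)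
  · ext x
    rw [U.mem_center_iff, U.mem_commutator_iff]
  · intro x
    refine Quotient.inductionOn x fun a => ?_
    show ((a ^ 2 : ↥(S : Subgroup (Cfsg.PSU 3 F 4))) :
      ↥(S : Subgroup (Cfsg.PSU 3 F 4)) ⧸ Subgroup.center _) = 1
    rw [QuotientGroup.eq_one_iff, U.mem_center_iff, sq, U.pi_mul_self]

end Cfsg.Agent.S1248
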