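import Cfsg.Statements.S1249
import Cfsg.Agent.Lib.Invol.Basic


set_option autoImplicit false
open Cfsg

namespace Cfsg.Agent.S1249

/-- Let P and Q be Sylow p-subgroups of the finite group G both containing the subgroup A. If A is strongly closed in P, then A is strongly closed in Q. -/
theorem result {G : Type*} [Group G] [Finite G] {p : ℕ} [Fact p.Prime] (P Q : Sylow p G) (A : Subgroup G) (hAQ : A ≤ Q) (hA : Cfsg.IsStronglyClosed A (P : Subgroup G)) : Cfsg.IsStronglyClosed A (Q : Subgroup G) := by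
  refine ⟨hAQ, fun x hx g hg => ?_⟩
  obtain ⟨k, hk⟩ := MulAction.exists_smul_eq G P Q
  subst hk
  have hQ : ∀ y, y ∈ ((k • P : Sylow p G) : Subgroup G) → k⁻¹ * y * k ∈ (P : Subgroup G) := by
    intro y hy
    rw [Sylow.coe_subgroup_smul, Subgroup.mem_pointwise_smul_iff_inv_smul_mem] at hy
    simpa [MulAut.smul_def, ← map_inv, MulAut.conj_apply] using hy
  have hin : ∀ a ∈ A, k⁻¹ * a * k ∈ A := fun a ha => by
    have h1 := hA.2 a ha k⁻¹ (by rw [inv_inv]; exact hQ a (hAQ ha))
    rwa [inv_inv] at h1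
  have hsurj : ∀ y, k⁻¹ * y * k ∈ A → y ∈ A := by
    intro y hy
    let f : A → A := fun a => ⟨k⁻¹ * a.1 * k, hin _ a.2⟩
    have hf : Function.Injective f := fun a b h =>
      Subtype.ext (mul_left_cancel (mul_right_cancel (congrArg Subtype.val h)))
    obtain ⟨a, ha⟩ := (Finite.injective_iff_surjective.1 hf) ⟨_, hy⟩
    have := mul_left_cancel (mul_right_cancel (congrArg Subtype.val ha))
    rw [← this]; exact a.2
  apply hsurj
  have e : k⁻¹ * (g * x * g⁻¹) * k = (k⁻¹ * g) * x * (k⁻¹ * g)⁻¹ := by group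
  rw [e]
  exact hA.2 x hx _ (e ▸ hQ _ hg)

end Cfsg.Agent.S1249
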