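import Cfsg.Statements.S1254
import Cfsg.Agent.Lib.Invol.DihedralSylow
import Cfsg.Agent.Lib.Fusion.PComplement
import Cfsg.Agent.Lib.Coprime.Action


set_option autoImplicit false
open Cfsg

namespace Cfsg.Agent.S1254

/-- Let X be a finite group whose Sylow 2-subgroup S is dihedral (of order at least 4). Then X has a normal 2-complement if and only if, for every Klein four-subgroup U ≤ S, the normalizer N_X(U) is generated by C_X(U) and N_S(U). -/
theorem result {X : Type*} [Group X] [Finite X] (S : Sylow 2 X) (m : ℕ) (hm : 2 ≤ m) (eS : (S : Subgroup X) ≃* DihedralGroup m) : Cfsg.HasNormalPComplement 2 X ↔ ∀ U : Subgroup X, U ≤ S → IsKleinFour U → Subgroup.normalizer (U : Set X) = Subgroup.centralizer (U : Set X) ⊔ ((S : Subgroup X) ⊓ Subgroup.normalizer (U : Set X)) := by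
  classical
  haveI : Fact (Nat.Prime 2) := ⟨Nat.prime_two⟩
  haveI : NeZero m := ⟨by omega⟩
  constructor
  · intro h U hUS _
    set K := Cfsg.pResidual 2 X with hK
    haveI : K.Normal := CfsgLib.Fusion.pResidual_normal (G := X) (p := 2)
    have hKS := CfsgLib.Fusion.hasNormalPComplement_iff_forall_sylow.1 h S
    refine le_antisymm (fun x hx => ?_) (sup_le (Subgroup.centralizer_le_normalizer _) inf_le_right)
    have htop : x ∈ K ⊔ (S : Subgroup X) := hKS.sup_eq_top.symm ▸ Subgroup.mem_top x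
    obtain ⟨k, hk, s, hs, rfl⟩ := Subgroup.mem_sup_of_normal_left.1 htop
    have hdis : ∀ y ∈ K, y ∈ (S : Subgroup X) → y = 1 := fun y hy hy' =>
      Subgroup.disjoint_def.1 hKS.disjoint hy hy'
    have key : ∀ u ∈ U, k * (s * u * s⁻¹) * k⁻¹ = s * u * s⁻¹ := by
      intro u hu
      have h1 : k * (s * u * s⁻¹) * k⁻¹ ∈ U := by
        have := (Subgroup.mem_normalizer_iff.1 hx u).1 hu
        rwa [show k * s * u * (k * s)⁻¹ = k * (s * u * s⁻¹) * k⁻¹ by group] at this
      refine mul_inv_eq_one.1 (hdis _ ?_ (mul_mem (hUS h1) (inv_mem (mul_mem (mul_mem hs (hUS hu))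
        (inv_mem hs)))))
      rw [show k * (s * u * s⁻¹) * k⁻¹ * (s * u * s⁻¹)⁻¹ =
        k * ((s * u * s⁻¹) * k⁻¹ * (s * u * s⁻¹)⁻¹) by group]
      exact mul_mem hk (Subgroup.Normal.conj_mem inferInstance _ (inv_mem hk) _)
    have hsn : s ∈ Subgroup.normalizer (U : Set X) :=
      Subgroup.mem_normalizer_iff.2 fun u => ⟨fun hu => by
        rw [← key u hu, show k * (s * u * s⁻¹) * k⁻¹ = k * s * u * (k * s)⁻¹ by group]
        exact (Subgroup.mem_normalizer_iff.1 hx u).1 hu, fun hu => by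
        obtain ⟨u', hu', he⟩ : ∃ u' ∈ U, k * s * u' * (k * s)⁻¹ = s * u * s⁻¹ :=
          ⟨(k * s)⁻¹ * (s * u * s⁻¹) * (k * s), (Subgroup.mem_normalizer_iff.1 hx _).2
            (by group at hu ⊢; simpa using hu), by group⟩
        rw [show k * s * u' * (k * s)⁻¹ = k * (s * u' * s⁻¹) * k⁻¹ by group, key u' hu'] at he
        rwa [← mul_left_cancel (mul_right_cancel he)]⟩
    refine mul_mem (Subgroup.mem_sup_left ?_) (Subgroup.mem_sup_right ⟨hs, hsn⟩)
    refine CfsgLib.Fusion.mem_centralizer_iff'.2 fun u hu => ?_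
    have := key (s⁻¹ * u * s) ((Subgroup.mem_normalizer_iff.1 hsn _).2 (by group; simpa using hu))
    rwa [show s * (s⁻¹ * u * s) * s⁻¹ = u by group] at this
  intro h
  refine CfsgLib.Fusion.hasNormalPComplement_of_locallyPNilpotentAction S fun Q hQ g hg hgo => ?_
  let φ : Q →* DihedralGroup m := eS.toMonoidHom.comp (Subgroup.inclusion hQ)
  have hφ : Function.Injective φ := eS.injective.comp (Subgroup.inclusion_injective hQ)
  set σ := Subgroup.normalizerMonoidHom Q ⟨g, hg⟩ with hσ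
  have h1 : σ ^ orderOf g = 1 := by
    rw [hσ, ← map_pow, show (⟨g, hg⟩ : Subgroup.normalizer (Q : Set X)) ^ orderOf g = 1 from
      Subtype.ext (by simp [pow_orderOf_eq_one]), map_one]
  rcases CfsgLib.Invol.aut_eq_one_or_isKleinFour (S.2.to_le hQ) φ hφ σ
    (Nat.coprime_two_right.1 hgo) h1 with h2 | h2
  · refine Subgroup.mem_centralizer_iff.2 fun q hq => ?_
    have h3 : ((σ ⟨q, hq⟩ : Q) : X) = q := by rw [h2]; rfl
    have h4 : g * q * g⁻¹ = q := h3
    exact (mul_inv_eq_iff_eq_mul.1 h4).symm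
  set N := Subgroup.normalizer (Q : Set X) with hN
  set C := (Subgroup.centralizer (Q : Set X)).subgroupOf N with hC
  haveI : C.Normal := Subgroup.normal_subgroupOf_of_le_normalizer
    (CfsgLib.Coprime.normalizer_le_normalizer_centralizer Q)
  have hgm : g ∈ Subgroup.centralizer (Q : Set X) ⊔ ((S : Subgroup X) ⊓ N) := h Q hQ h2 ▸ hg
  have hgm' : (⟨g, hg⟩ : N) ∈ C ⊔ ((S : Subgroup X) ⊓ N).subgroupOf N := by
    rw [hC, ← Subgroup.subgroupOf_sup (Subgroup.centralizer_le_normalizer _) inf_le_right]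
    exact hgm
  obtain ⟨c, hc, t, ht, hct⟩ := Subgroup.mem_sup_of_normal_left.1 hgm'
  obtain ⟨i, hi⟩ := S.2 ⟨_, (Subgroup.mem_subgroupOf.1 ht).1⟩
  set π := QuotientGroup.mk' C
  have hπ : π ⟨g, hg⟩ = π t := by
    rw [← hct, map_mul, show π c = 1 from (QuotientGroup.eq_one_iff c).2 hc, one_mul]
  have hone : π ⟨g, hg⟩ = 1 := by
    refine orderOf_eq_one_iff.1 (Nat.eq_one_of_dvd_coprimes (hgo.pow_right i) ?_ ?_)
    · have h9 := orderOf_map_dvd π (⟨g, hg⟩ : N)
      rwa [Subgroup.orderOf_mk] at h9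
    · refine orderOf_dvd_of_pow_eq_one ?_
      have hval := congrArg Subtype.val hi
      rw [hπ, ← map_pow, show t ^ 2 ^ i = 1 from Subtype.ext (by simpa using hval), map_one]
  exact Subgroup.mem_subgroupOf.1 ((QuotientGroup.eq_one_iff _).1 hone)

end Cfsg.Agent.S1254
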