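import Cfsg.Statements.S1255
import Cfsg.Agent.Lib.Invol.DihedralSylow
import Cfsg.Agent.Lib.Invol.Isolated
import Cfsg.Agent.Lib.Fusion.Tate
import Cfsg.Agent.Lib.Fusion.PComplement
import Cfsg.Agent.Lib.Coprime.Action


set_option autoImplicit false
open Cfsg

namespace Cfsg.Agent.S1255

/-- Let X be a finite group whose Sylow 2-subgroup S is dihedral of order 2m ≥ 4. Then X has no subgroup of index 2 and no isolated involution if and only if either all involutions of X are conjugate, or for every Klein four-subgroup U ≤ S the index |N_X(U) : C_X(U)| equals 3 when |S| = 4 and equals 6 when |S| > 4. -/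
theorem result {X : Type*} [Group X] [Finite X] (S : Sylow 2 X) (m : ℕ) (hm : 2 ≤ m) (eS : (S : Subgroup X) ≃* DihedralGroup m) : ((∀ H : Subgroup X, H.index ≠ 2) ∧ (∀ z : X, ¬ Cfsg.IsIsolatedInvolution z)) ↔ ((∀ a b : X, orderOf a = 2 → orderOf b = 2 → IsConj a b) ∨ (∀ U : Subgroup X, U ≤ S → IsKleinFour U → (Subgroup.centralizer (U : Set X)).relIndex (Subgroup.normalizer (U : Set X)) = (if Nat.card S = 4 then 3 else 6))) := by
  classical
  haveI : Fact (Nat.Prime 2) := ⟨Nat.prime_two⟩
  haveI : NeZero m := ⟨by omega⟩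
  obtain ⟨c, b, hcS, hbS, hc, hb, hbc, hcen⟩ := CfsgLib.Invol.exists_dihedral_invols hm eS
  have hto : ∀ u : X, orderOf u = 2 → ∃ g : X, g * u * g⁻¹ ∈ (S : Subgroup X) := fun u hu => by
    obtain ⟨g, hg⟩ := CfsgLib.Invol.exists_conj_le_sylow
      (IsPGroup.of_card (n := 1) (by rw [Nat.card_zpowers, hu, pow_one]) :
        IsPGroup 2 (Subgroup.zpowers u)) S
    exact ⟨g, hg u (Subgroup.mem_zpowers u)⟩
  -- one class of involutions suffices
  have hone : (∀ a b : X, orderOf a = 2 → orderOf b = 2 → IsConj a b) →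
      (∀ H : Subgroup X, H.index ≠ 2) ∧ (∀ z : X, ¬ Cfsg.IsIsolatedInvolution z) := by
    intro h1
    refine ⟨fun H hH => ?_, fun z hz => ?_⟩
    · haveI := Subgroup.normal_of_index_eq_two hH
      have hcH : c ∈ H ∨ b ∈ H ∨ c * b ∈ H := by
        by_cases hc' : c ∈ H
        · exact Or.inl hc'
        by_cases hb' : b ∈ H
        · exact Or.inr (Or.inl hb')
        exact Or.inr (Or.inr ((Subgroup.mul_mem_iff_of_index_two hH).2 (iff_of_false hc' hb')))
      have hcb : orderOf (c * b) = 2 := by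
        rw [CfsgLib.Invol.invol_iff]
        refine ⟨?_, fun e => hbc ?_⟩
        · rw [mul_assoc, ← mul_assoc b c b, (hcen b hbS).eq, mul_assoc c b b,
            CfsgLib.Invol.invol_mul_self hb, mul_one, CfsgLib.Invol.invol_mul_self hc]
        · rw [← inv_eq_of_mul_eq_one_right e, CfsgLib.Invol.invol_inv hc]
      obtain ⟨v, hv, hvH⟩ : ∃ v : X, orderOf v = 2 ∧ v ∈ H := by
        rcases hcH with h | h | h
        exacts [⟨c, hc, h⟩, ⟨b, hb, h⟩, ⟨_, hcb, h⟩]
      have hall : ∀ u : X, orderOf u = 2 → u ∈ H := fun u hu => by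
        obtain ⟨g, hg⟩ := isConj_iff.1 (h1 v u hv hu)
        exact hg ▸ Subgroup.Normal.conj_mem inferInstance v hvH g
      have hSH : (S : Subgroup X) ≤ H := by
        have hsr : ∀ i, ((eS.symm (DihedralGroup.sr i) : (S : Subgroup X)) : X) ∈ H := fun i =>
          hall _ (by rw [Subgroup.orderOf_coe, MulEquiv.orderOf_eq, DihedralGroup.orderOf_sr])
        intro x hx
        rw [show x = ((eS.symm (eS ⟨x, hx⟩) : (S : Subgroup X)) : X) by rw [MulEquiv.symm_apply_apply]]
        cases eS ⟨x, hx⟩ with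
        | sr i => exact hsr i
        | r i =>
          have h2 := mul_mem (hsr 0) (hsr i)
          rw [← Subgroup.coe_mul, ← map_mul, DihedralGroup.sr_mul_sr, sub_zero] at h2
          exact h2
      have h9 := Subgroup.index_dvd_of_le hSH
      rw [hH] at h9
      exact S.not_dvd_index h9
    · obtain ⟨g, hg⟩ := hto z hz.1
      have key : ∀ a' b' : X, orderOf a' = 2 → orderOf b' = 2 → Commute a' b' → a' = b' := by
        intro a' b' ha' hb' hcomm
        obtain ⟨g₁, hg₁⟩ := isConj_iff.1 (h1 z a' hz.1 ha')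
        obtain ⟨g₂, hg₂⟩ := isConj_iff.1 (h1 z b' hz.1 hb')
        rw [← hg₁, ← hg₂]
        exact CfsgLib.Invol.eq_of_commute_conj hz g₁ g₂ (by rw [hg₁, hg₂]; exact hcomm)
      exact hbc (key b c hb hc (hcen b hbS))
  constructor
  · rintro ⟨hidx, -⟩
    refine Or.inl ?_
    set R := (Subgroup.zpowers (DihedralGroup.r (1 : ZMod m))).comap eS.toMonoidHom with hR
    set R' := R.map (S : Subgroup X).subtype with hR'
    have hR'S : R' ≤ (S : Subgroup X) := Subgroup.map_subtype_le R
    have hRi : R'.relIndex (S : Subgroup X) = 2 := by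
      rw [hR', Subgroup.relIndex, Subgroup.subgroupOf, Subgroup.comap_map_eq_self_of_injective
        (Subgroup.subtype_injective _), hR, Subgroup.index_comap_of_surjective _ eS.surjective]
      have h1 := Subgroup.card_mul_index (Subgroup.zpowers (DihedralGroup.r (1 : ZMod m)))
      rw [Nat.card_zpowers, DihedralGroup.orderOf_r_one, Nat.card_eq_fintype_card,
        DihedralGroup.card, mul_comm 2] at h1
      exact Nat.eq_of_mul_eq_mul_left (by omega) h1
    have hrot : ∀ u : X, orderOf u = 2 → u ∈ R' →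
        ∃ k : ZMod m, k + k = 0 ∧ k ≠ 0 ∧ ∃ hu : u ∈ (S : Subgroup X), eS ⟨u, hu⟩ = DihedralGroup.r k := by
      rintro _ ho ⟨v, hv, rfl⟩
      obtain ⟨j, hj⟩ := Subgroup.mem_zpowers_iff.1 hv
      rw [DihedralGroup.r_zpow] at hj
      have hvo : orderOf (eS v) = 2 := by
        rw [MulEquiv.orderOf_eq, ← Subgroup.orderOf_coe]; exact ho
      refine ⟨_, ?_, ?_, v.2, hj.symm⟩
      · rw [CfsgLib.Invol.invol_iff, show eS v = _ from hj.symm, DihedralGroup.r_mul_r,
          DihedralGroup.one_def, DihedralGroup.r.injEq] at hvo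
        exact hvo.1
      · intro h0
        rw [show eS v = _ from hj.symm, h0, DihedralGroup.r_zero, orderOf_one] at hvo
        omega
    have hall : ∀ u : X, orderOf u = 2 → ∃ g : X, g * u * g⁻¹ ∈ R' := by
      intro u hu
      by_contra hno
      push Not at hno
      obtain ⟨M, -, hMi, -⟩ := CfsgLib.Fusion.thompson_transfer S hR'S hRi
        (u := u) (by rw [← hu, pow_orderOf_eq_one]) hno
      exact hidx M hMi
    intro a' b' ha' hb'
    obtain ⟨g₁, hg₁⟩ := hall a' ha'
    obtain ⟨g₂, hg₂⟩ := hall b' hb'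
    obtain ⟨k₁, e1, n1, p1, q1⟩ := hrot _ (CfsgLib.Invol.invol_conj ha' g₁) hg₁
    obtain ⟨k₂, e2, n2, p2, q2⟩ := hrot _ (CfsgLib.Invol.invol_conj hb' g₂) hg₂
    rw [CfsgLib.Invol.add_self_eq_zero_unique e1 e2 n1 n2, ← q2] at q1
    have h12 := congrArg Subtype.val (eS.injective q1)
    have h13 : g₁ * a' * g₁⁻¹ = g₂ * b' * g₂⁻¹ := h12
    exact (isConj_iff.2 ⟨g₁, h13⟩).trans (isConj_iff.2 ⟨g₂, rfl⟩ : IsConj b' (g₂ * b' * g₂⁻¹)).symm
  rintro (h1 | h3)
  · exact hone h1
  refine hone ?_
  suffices key : ∀ u : X, orderOf u = 2 → IsConj u c from fun a' b' ha' hb' =>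
    (key a' ha').trans (key b' hb').symm
  intro u₀ hu₀
  obtain ⟨g, hgS⟩ := hto u₀ hu₀
  refine (isConj_iff.2 ⟨g, rfl⟩).trans ?_
  set u := g * u₀ * g⁻¹
  have hu : orderOf u = 2 := CfsgLib.Invol.invol_conj hu₀ g
  by_cases huc : u = c
  · rw [huc]
  set U := Subgroup.closure ({c, u} : Set X) with hU
  have hUS : U ≤ (S : Subgroup X) := (Subgroup.closure_le _).2 (by
    rintro x (rfl | rfl)
    exacts [hcS, hgS])
  have hK : IsKleinFour U := CfsgLib.Invol.isKleinFour_closure_pair hc hu (Ne.symm huc) (hcen u hgS).symm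
  set N := Subgroup.normalizer (U : Set X) with hN
  set C := (Subgroup.centralizer (U : Set X)).subgroupOf N with hC
  haveI : C.Normal := Subgroup.normal_subgroupOf_of_le_normalizer
    (CfsgLib.Coprime.normalizer_le_normalizer_centralizer U)
  have hidx : 3 ∣ Nat.card (N ⧸ C) := by
    rw [← Subgroup.index_eq_card]
    show 3 ∣ (Subgroup.centralizer (U : Set X)).relIndex N
    rw [h3 U hUS hK]
    split_ifs <;> norm_num
  haveI : Fact (Nat.Prime 3) := ⟨Nat.prime_three⟩
  obtain ⟨q, hq⟩ := exists_prime_orderOf_dvd_card' 3 hidx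
  obtain ⟨n, rfl⟩ := QuotientGroup.mk'_surjective C q
  have hn3 : (n ^ 3 : N) ∈ C := by
    rw [← QuotientGroup.eq_one_iff, ← QuotientGroup.mk'_apply, map_pow, ← hq, pow_orderOf_eq_one]
  have hn1 : n ∉ C := fun h => by
    rw [QuotientGroup.mk'_apply, (QuotientGroup.eq_one_iff n).2 h, orderOf_one] at hq
    norm_num at hq
  set π : X → X := fun x => (n : X) * x * (n : X)⁻¹ with hπ
  have hπU : ∀ x ∈ U, π x ∈ U := fun x hx => (Subgroup.mem_normalizer_iff.1 n.2 x).1 hx
  have hπinj : Function.Injective π := fun x y h => mul_left_cancel (mul_right_cancel h)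
  have hπ3 : ∀ x ∈ U, π (π (π x)) = x := by
    intro x hx
    have := (CfsgLib.Fusion.mem_centralizer_iff'.1 (Subgroup.mem_subgroupOf.1 hn3)) x hx
    rw [show π (π (π x)) = ((n ^ 3 : N) : X) * x * ((n ^ 3 : N) : X)⁻¹ by
      simp only [hπ, Subgroup.coe_pow, pow_succ, pow_zero, one_mul, Subgroup.coe_mul]; group]
    exact this
  have hcU : c ∈ U := Subgroup.subset_closure (by simp)
  have huU : u ∈ U := Subgroup.subset_closure (by simp)
  have hmem : ∀ x ∈ U, x = 1 ∨ x = c ∨ x = u ∨ x = c * u := fun x hx =>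
    CfsgLib.Invol.mem_klein hc hu (Ne.symm huc) (hcen u hgS).symm hx
  have hne1 : ∀ x, x ≠ 1 → π x ≠ 1 := fun x hx h => hx (hπinj (h.trans (by simp [hπ])))
  by_contra hconj
  have hπc : ∀ x, IsConj x (π x) := fun x => isConj_iff.2 ⟨n, rfl⟩
  -- `u` is not conjugate to `c`, so the permutation of order three must fix one and then all
  have hcu : c * u ≠ 1 := fun e => huc (by
    rw [← inv_eq_of_mul_eq_one_right e, CfsgLib.Invol.invol_inv hc])
  have hc1 : π c = c ∨ π c = c * u := by
    rcases hmem _ (hπU c hcU) with h | h | h | h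
    · exact absurd h (hne1 c (CfsgLib.Invol.invol_ne_one hc))
    · exact Or.inl h
    · exact absurd (h ▸ hπc c : IsConj c u).symm hconj
    · exact Or.inr h
  have hπmul : ∀ x y, π (x * y) = π x * π y := fun x y => by simp [hπ, mul_assoc]
  rcases hc1 with hc1 | hc1
  · rcases hmem _ (hπU u huU) with h | h | h | h
    · exact hne1 u (CfsgLib.Invol.invol_ne_one hu) h
    · exact huc (hπinj (h.trans hc1.symm))
    · refine hn1 (Subgroup.mem_subgroupOf.2 (CfsgLib.Fusion.mem_centralizer_iff'.2 fun x hx => ?_))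
      show π x = x
      rcases hmem x hx with rfl | rfl | rfl | rfl
      · simp [hπ]
      · exact hc1
      · exact h
      · rw [hπmul, hc1, h]
    · have h2 := hπ3 u huU
      rw [h, hπmul c u, hc1, h, ← mul_assoc c c u, CfsgLib.Invol.invol_mul_self hc, one_mul, h] at h2
      exact CfsgLib.Invol.invol_ne_one hc (mul_eq_right.1 h2)
  · have h2 := hπ3 c hcU
    rw [hc1] at h2
    rcases hmem _ (hπU (c * u) (mul_mem hcU huU)) with h | h | h | h
    · exact hne1 _ hcu h
    · rw [h, hc1] at h2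
      exact CfsgLib.Invol.invol_ne_one hu (mul_eq_left.1 h2)
    · have h5 := hπc (c * u)
      rw [h] at h5
      have h6 := hπc c
      rw [hc1] at h6
      have h4 : IsConj c u := h6.trans h5
      exact hconj h4.symm
    · rw [h, h] at h2
      exact CfsgLib.Invol.invol_ne_one hu (mul_eq_left.1 h2)

end Cfsg.Agent.S1255
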