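import Cfsg.Statements.S1256
import Cfsg.Agent.S1254
import Cfsg.Agent.Lib.Invol.DihedralSylow
import Cfsg.Agent.Lib.Fusion.PComplement


set_option autoImplicit false
open Cfsg

namespace Cfsg.Agent.S1256

open DihedralGroup CfsgLib.Invol

universe u

variable {X : Type u} [Group X]

theorem map_conj_closure_pair (x a b : X) :
    (Subgroup.closure ({a, b} : Set X)).map (MulAut.conj x).toMonoidHom =
      Subgroup.closure ({x * a * x⁻¹, x * b * x⁻¹} : Set X) := by
  rw [MonoidHom.map_closure, Set.image_pair]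
  rfl

theorem larger_case [Finite X] (S : Sylow 2 X) (h q : ℕ) (hq : 1 ≤ q) (hh : h = 2 * q)
    [NeZero (2 * h)] (eS : (S : Subgroup X) ≃* DihedralGroup (2 * h)) :
    ∃ U₁ U₂ : Subgroup X, IsKleinFour U₁ ∧ IsKleinFour U₂ ∧
      ¬ (∃ x : X, U₁.map (MulAut.conj x).toMonoidHom = U₂) ∧ ∀ V : Subgroup X, IsKleinFour V →
        (∃ x : X, V.map (MulAut.conj x).toMonoidHom = U₁) ∨
        (∃ x : X, V.map (MulAut.conj x).toMonoidHom = U₂) := by
  classical
  haveI : Fact (Nat.Prime 2) := ⟨Nat.prime_two⟩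
  subst hh
  set i : ZMod (2 * (2 * q)) := ((2 * q : ℕ) : ZMod (2 * (2 * q))) with hi
  set k₀ : ZMod (2 * (2 * q)) := ((q : ℕ) : ZMod (2 * (2 * q))) with hk₀
  have hk2 : k₀ + k₀ = i := by rw [hk₀, hi, ← Nat.cast_add, ← two_mul]
  have hii : i + i = 0 := by
    rw [hi, ← Nat.cast_add, ← two_mul]
    exact ZMod.natCast_self _
  have hni : -i = i := by rw [← add_eq_zero_iff_neg_eq]; exact hii
  have hi0 : i ≠ 0 := by
    rw [hi, Ne, ZMod.natCast_eq_zero_iff]
    intro hd
    have := Nat.le_of_dvd (by omega) hd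
    omega
  let ε : ZMod (2 * (2 * q)) →+* ZMod 2 := ZMod.castHom (dvd_mul_right 2 _) (ZMod 2)
  have hεi : ε i = 0 := by
    rw [hi, map_natCast, ZMod.natCast_eq_zero_iff]
    exact dvd_mul_right 2 q
  let f : DihedralGroup (2 * (2 * q)) →* X := (S : Subgroup X).subtype.comp eS.symm.toMonoidHom
  have hf : Function.Injective f := Subtype.val_injective.comp eS.symm.injective
  have hfS : ∀ d, f d ∈ (S : Subgroup X) := fun d => (eS.symm d).2
  have hfsurj : ∀ s ∈ (S : Subgroup X), ∃ d, f d = s := fun s hs =>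
    ⟨eS ⟨s, hs⟩, by simp [f]⟩
  set z := f (r i) with hz
  set w : ZMod (2 * (2 * q)) → X := fun j => f (sr j) with hw
  have hzo : orderOf z = 2 := by
    rw [hz, orderOf_injective f hf, invol_iff, r_mul_r, hii, one_def]
    exact ⟨rfl, fun e => hi0 (DihedralGroup.r.inj e)⟩
  have hwo : ∀ j, orderOf (w j) = 2 := fun j => by
    show orderOf (f (sr j)) = 2
    rw [orderOf_injective f hf, orderOf_sr]
  have hzw : ∀ j, z ≠ w j := fun j e => by have := hf e; simp at this
  have hmul : ∀ j, z * w j = w (j + i) := fun j => by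
    show f (r i) * f (sr j) = f (sr (j + i))
    rw [← map_mul, r_mul_sr, sub_eq_add_neg, hni]
  have hmul' : ∀ j, w j * z = w (j + i) := fun j => by
    show f (sr j) * f (r i) = f (sr (j + i))
    rw [← map_mul, sr_mul_r]
  have hcomm : ∀ j, Commute z (w j) := fun j => (hmul j).trans (hmul' j).symm
  have hconj : ∀ k j, f (r k) * w j * (f (r k))⁻¹ = w (j - (k + k)) := fun k j => by
    show f (r k) * f (sr j) * (f (r k))⁻¹ = f (sr (j - (k + k)))
    rw [← map_inv, ← map_mul, ← map_mul, r_mul_sr, inv_r, sr_mul_r, ← sub_eq_add_neg, sub_sub]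
  have hconjz : ∀ k, f (r k) * z * (f (r k))⁻¹ = z := fun k => by
    rw [mul_inv_eq_iff_eq_mul, hz, ← map_mul, ← map_mul, r_mul_r, r_mul_r, add_comm]
  set U : ZMod (2 * (2 * q)) → Subgroup X := fun j => Subgroup.closure ({z, w j} : Set X) with hU
  have hUz : ∀ j, z ∈ U j := fun j => Subgroup.subset_closure (by simp)
  have hUw : ∀ j, w j ∈ U j := fun j => Subgroup.subset_closure (by simp)
  have hUK : ∀ j, IsKleinFour (U j) := fun j =>
    isKleinFour_closure_pair hzo (hwo j) (hzw j) (hcomm j)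
  have hUS : ∀ j, U j ≤ (S : Subgroup X) := fun j => (Subgroup.closure_le _).2 (by
    rintro x (rfl | rfl)
    exacts [hfS _, hfS _])
  have hmem : ∀ j, ∀ x ∈ U j, x = 1 ∨ x = z ∨ x = w j ∨ x = w (j + i) := fun j x hx => by
    rw [← hmul]
    exact mem_klein hzo (hwo j) (hzw j) (hcomm j) hx
  set t := f (r k₀) with ht
  have htw : ∀ j, t * w j * t⁻¹ = z * w j := fun j => by
    rw [hconj, hk2, hmul, sub_eq_add_neg, hni]
  have hfour : ∀ V : Subgroup X, IsKleinFour V → V ≤ (S : Subgroup X) → ∃ j, V = U j := by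
    intro V hV hVS
    have hsq : ∀ x ∈ V, x * x = 1 := fun x hx =>
      congrArg Subtype.val (IsKleinFour.mul_self (⟨x, hx⟩ : V))
    obtain ⟨j, hj⟩ : ∃ j, w j ∈ V := by
      by_contra hno
      push Not at hno
      have hle : V ≤ Subgroup.zpowers z := by
        intro x hx
        obtain ⟨d, rfl⟩ := hfsurj x (hVS hx)
        cases d with
        | sr j => exact absurd hx (hno j)
        | r a =>
          rcases eq_or_ne a 0 with rfl | ha
          · rw [r_zero, map_one]; exact one_mem _
          · have h1 := hsq _ hx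
            rw [← map_mul, r_mul_r, ← f.map_one] at h1
            have h2 : a + a = 0 := DihedralGroup.r.inj ((hf h1).trans one_def)
            rw [add_self_eq_zero_unique h2 hii ha hi0]
            exact Subgroup.mem_zpowers _
      have h1 := Subgroup.card_dvd_of_le hle
      rw [hV.card_four, Nat.card_zpowers, hzo] at h1
      norm_num at h1
    have hcV : ∀ x ∈ V, ∀ y ∈ V, Commute x y := fun x hx y hy =>
      congrArg Subtype.val (mul_comm_of_exponent_two hV.exponent_two (⟨x, hx⟩ : V) ⟨y, hy⟩)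
    have hle : V ≤ U j := by
      intro x hx
      have hxS := hVS hx
      obtain ⟨d, rfl⟩ := hfsurj x hxS
      have hxz : Commute (f d) z := by
        refine (Commute.map ?_ f)
        cases d with
        | r a => show r a * r i = r i * r a; rw [r_mul_r, r_mul_r, add_comm]
        | sr a => show sr a * r i = r i * sr a; rw [sr_mul_r, r_mul_sr, sub_eq_add_neg, hni]
      have hback : ∀ a b, Commute (f a) (f b) → Commute a b := fun a b e =>
        hf (by rw [map_mul, map_mul]; exact e.eq)
      have h4 := mem_four_of_commute (φ := MonoidHom.id (DihedralGroup (2 * (2 * q))))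
        Function.injective_id (a := r i) (b := sr j) ((orderOf_injective f hf _).symm.trans hzo)
        (orderOf_sr j) (by simp) ((hback _ _) (hcomm j))
        ((hback _ _) hxz) ((hback _ _) (hcV _ hx _ hj))
      rcases h4 with h | h | h | h <;> rw [h]
      · rw [map_one]; exact one_mem _
      · exact hUz j
      · exact hUw j
      · rw [map_mul]; exact mul_mem (hUz j) (hUw j)
    exact ⟨j, Subgroup.eq_of_le_of_card_ge hle (by rw [(hUK j).card_four, hV.card_four])⟩
  refine ⟨U 0, U 1, hUK 0, hUK 1, ?_, fun V hV => ?_⟩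
  · rintro ⟨x, hx⟩
    have hxmem : ∀ u ∈ U 0, x * u * x⁻¹ ∈ U 1 := fun u hu => hx ▸ ⟨u, hu, rfl⟩
    obtain ⟨y, hyz, hy⟩ : ∃ y : X, y * z * y⁻¹ = z ∧ ∀ u ∈ U 0, y * u * y⁻¹ ∈ U 1 := by
      by_cases hxz : x * z * x⁻¹ = z
      · exact ⟨x, hxz, hxmem⟩
      set z' := x * z * x⁻¹ with hz'
      have hz'o : orderOf z' = 2 := invol_conj hzo x
      have hz'U : z' ∈ U 1 := hxmem z (hUz 0)
      set t' := x * t * x⁻¹ with ht'
      have htU : ∀ j, ∀ u ∈ U j, t * u * t⁻¹ ∈ U j := by
        intro j u hu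
        rcases hmem j u hu with rfl | rfl | rfl | rfl
        · simp
        · rw [hconjz]; exact hUz j
        · rw [htw]; exact mul_mem (hUz j) (hUw j)
        · rw [htw, ← hmul, ← mul_assoc, invol_mul_self hzo, one_mul]; exact hUw j
      have ht'U : ∀ u ∈ U 1, t' * u * t'⁻¹ ∈ U 1 := by
        intro u hu
        obtain ⟨v, hv, rfl⟩ := hx.symm ▸ hu
        exact hx ▸ ⟨t * v * t⁻¹, htU 0 v hv, by simp [ht', mul_assoc]⟩
      have h1 : t * z' * t⁻¹ = z * z' := by
        rcases hmem 1 z' hz'U with h | h | h | h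
        · exact absurd h (invol_ne_one hz'o)
        · exact absurd h hxz
        · rw [h]; exact htw 1
        · rw [h]; exact htw _
      obtain ⟨v, hv, hvo⟩ : z * z' ∈ (U 0).map (MulAut.conj x).toMonoidHom :=
        hx ▸ mul_mem (hUz 1) hz'U
      have hvo' : x * v * x⁻¹ = z * z' := hvo
      have h2 : t * v * t⁻¹ = z * v := by
        rcases hmem 0 v hv with h | h | h | h
        · rw [h, mul_one, mul_inv_cancel] at hvo'
          exact absurd ((inv_eq_of_mul_eq_one_right hvo'.symm).symm.trans (invol_inv hzo)) hxz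
        · rw [h, ← hz'] at hvo'
          exact absurd (mul_eq_right.1 hvo'.symm) (invol_ne_one hzo)
        · rw [h]; exact htw 0
        · rw [h]; exact htw _
      have h3 : t' * (z * z') * t'⁻¹ = z := by
        calc t' * (z * z') * t'⁻¹ = x * (t * v * t⁻¹) * x⁻¹ := by rw [← hvo', ht']; group
          _ = z' * (z * z') := by rw [h2, ← hvo', hz']; group
          _ = z := by
            have hc : Commute z z' := by
              rcases hmem 1 z' hz'U with h | h | h | h
              · rw [h]; exact Commute.one_right z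
              · rw [h]
              · rw [h]; exact hcomm 1
              · rw [h]; exact hcomm _
            rw [← mul_assoc, ← hc.eq, mul_assoc, invol_mul_self hz'o, mul_one]
      refine ⟨t' * t * x, ?_, fun u hu => ?_⟩
      · rw [show t' * t * x * z * (t' * t * x)⁻¹ = t' * (t * z' * t⁻¹) * t'⁻¹ by rw [hz']; group,
          h1, h3]
      · rw [show t' * t * x * u * (t' * t * x)⁻¹ = t' * (t * (x * u * x⁻¹) * t⁻¹) * t'⁻¹ by group]
        exact ht'U _ (htU 1 _ (hxmem u hu))
    -- the centraliser of `z` has a normal 2-complement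
    set C := Subgroup.centralizer ({z} : Set X) with hC
    have hSC : (S : Subgroup X) ≤ C := fun s hs => by
      obtain ⟨d, rfl⟩ := hfsurj s hs
      rw [hC, Subgroup.mem_centralizer_singleton_iff]
      cases d with
      | r a => rw [hz, ← map_mul, ← map_mul, r_mul_r, r_mul_r, add_comm]
      | sr a => rw [hz, ← map_mul, ← map_mul, sr_mul_r, r_mul_sr, sub_eq_add_neg, hni]
    set S' := S.subtype hSC with hS'
    let eS' : (S' : Subgroup C) ≃* DihedralGroup (2 * (2 * q)) :=
      (Subgroup.subgroupOfEquivOfLe hSC).trans eS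
    have hcompl : Cfsg.HasNormalPComplement 2 C := by
      refine (Cfsg.Agent.S1254.result S' (2 * (2 * q)) (by omega) eS').2 fun V hVS hV => ?_
      refine le_antisymm (fun n hn => ?_)
        (sup_le (Subgroup.centralizer_le_normalizer _) inf_le_right)
      set V' := V.map C.subtype with hV'
      have hV'K : IsKleinFour V' := by
        have e := (V.equivMapOfInjective C.subtype C.subtype_injective).symm
        exact ⟨(Nat.card_congr e.toEquiv).trans hV.card_four,
          (Monoid.exponent_eq_of_mulEquiv e).trans hV.exponent_two⟩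
      obtain ⟨j, hj⟩ := hfour V' hV'K (by
        rintro _ ⟨v, hv, rfl⟩; exact hVS hv)
      have hnU : ∀ u ∈ U j, (n : X) * u * (n : X)⁻¹ ∈ U j := by
        intro u hu
        rw [← hj] at hu ⊢
        obtain ⟨v, hv, rfl⟩ := hu
        exact ⟨n * v * n⁻¹, (Subgroup.mem_normalizer_iff.1 hn v).1 hv, rfl⟩
      have hnz : (n : X) * z * (n : X)⁻¹ = z := by
        rw [mul_inv_eq_iff_eq_mul]
        exact Subgroup.mem_centralizer_singleton_iff.1 n.2
      have key : ∀ a : C, (a : X) * z * (a : X)⁻¹ = z → (a : X) * w j * (a : X)⁻¹ = w j →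
          a ∈ Subgroup.centralizer (V : Set C) := by
        intro a ha hb
        refine CfsgLib.Fusion.mem_centralizer_iff'.2 fun v hv => Subtype.ext ?_
        show (a : X) * (v : X) * (a : X)⁻¹ = (v : X)
        rcases hmem j (v : X) (hj ▸ ⟨v, hv, rfl⟩) with h | h | h | h <;> rw [h]
        · simp
        · exact ha
        · exact hb
        · rw [← hmul, ← conj_mul, ha, hb]
      rcases hmem j _ (hnU _ (hUw j)) with h | h | h | h
      · exact absurd (conj_eq_one_iff.1 h) (invol_ne_one (hwo j))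
      · exact absurd (mul_left_cancel (mul_right_cancel (h.trans hnz.symm))).symm (hzw j)
      · exact Subgroup.mem_sup_left (key n hnz h)
      · have htC : t ∈ C := hSC (hfS _)
        have htN : (⟨t, htC⟩ : C) ∈ (S' : Subgroup C) ⊓ Subgroup.normalizer (V : Set C) := by
          refine Subgroup.mem_inf.2 ⟨hfS _, ?_⟩
          have hle : ∀ v ∈ V, (⟨t, htC⟩ : C) * v * (⟨t, htC⟩ : C)⁻¹ ∈ V := by
            intro v hv
            have h5 : t * (v : X) * t⁻¹ ∈ V' := by
              rw [hj]
              rcases hmem j (v : X) (hj ▸ ⟨v, hv, rfl⟩) with h | h | h | h <;> rw [h]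
              · simp
              · rw [hconjz]; exact hUz j
              · rw [htw]; exact mul_mem (hUz j) (hUw j)
              · rw [htw, ← hmul, ← mul_assoc, invol_mul_self hzo, one_mul]; exact hUw j
            obtain ⟨v', hv', he⟩ := h5
            obtain rfl : v' = (⟨t, htC⟩ : C) * v * (⟨t, htC⟩ : C)⁻¹ := Subtype.ext he
            exact hv'
          refine Subgroup.mem_normalizer_iff.2 fun v => ⟨hle v, fun hv => ?_⟩
          let F : V → V := fun x => ⟨_, hle x x.2⟩
          have hF : Function.Injective F := fun a b e =>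
            Subtype.ext (mul_left_cancel (mul_right_cancel (congrArg Subtype.val e)))
          obtain ⟨⟨v', hv'⟩, he⟩ := (Finite.injective_iff_surjective.1 hF) ⟨_, hv⟩
          rwa [← show v' = v from mul_left_cancel (mul_right_cancel (congrArg Subtype.val he))]
        have h6 : (⟨t, htC⟩ : C) * n ∈ Subgroup.centralizer (V : Set C) := by
          refine key _ ?_ ?_
          · show t * (n : X) * z * (t * (n : X))⁻¹ = z
            rw [show t * (n : X) * z * (t * (n : X))⁻¹ = t * ((n : X) * z * (n : X)⁻¹) * t⁻¹ by group,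
              hnz, hconjz]
          · show t * (n : X) * w j * (t * (n : X))⁻¹ = w j
            rw [show t * (n : X) * w j * (t * (n : X))⁻¹ =
              t * ((n : X) * w j * (n : X)⁻¹) * t⁻¹ by group, h, htw, ← hmul, ← mul_assoc,
              invol_mul_self hzo, one_mul]
        rw [show n = (⟨t, htC⟩ : C)⁻¹ * ((⟨t, htC⟩ : C) * n) by group]
        exact mul_mem (Subgroup.mem_sup_right (inv_mem htN)) (Subgroup.mem_sup_left h6)
    have hKS := CfsgLib.Fusion.hasNormalPComplement_iff_forall_sylow.1 hcompl S'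
    set K := Cfsg.pResidual 2 C with hK
    haveI : K.Normal := CfsgLib.Fusion.pResidual_normal (G := C) (p := 2)
    have hyC : y ∈ C := by
      rw [hC, Subgroup.mem_centralizer_singleton_iff]
      exact mul_inv_eq_iff_eq_mul.1 hyz
    obtain ⟨k, hk, s, hs, hks⟩ := Subgroup.mem_sup_of_normal_left.1
      (hKS.sup_eq_top.symm ▸ Subgroup.mem_top (⟨y, hyC⟩ : C) : (⟨y, hyC⟩ : C) ∈ K ⊔ (S' : Subgroup C))
    set u : C := ⟨w 0, hSC (hfS _)⟩ with hu
    have hsu : s * u * s⁻¹ ∈ (S' : Subgroup C) := mul_mem (mul_mem hs (hfS _)) (inv_mem hs)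
    have hyu : (⟨y, hyC⟩ : C) * u * (⟨y, hyC⟩ : C)⁻¹ ∈ (S' : Subgroup C) :=
      hUS 1 (hy _ (hUw 0))
    have hfix : (⟨y, hyC⟩ : C) * u * (⟨y, hyC⟩ : C)⁻¹ = s * u * s⁻¹ := by
      rw [← hks] at hyu ⊢
      refine mul_inv_eq_one.1 (Subgroup.disjoint_def.1 hKS.disjoint ?_
        (mul_mem hyu (inv_mem hsu)))
      rw [show k * s * u * (k * s)⁻¹ * (s * u * s⁻¹)⁻¹ =
        k * ((s * u * s⁻¹) * k⁻¹ * (s * u * s⁻¹)⁻¹) by group]
      exact mul_mem hk (Subgroup.Normal.conj_mem inferInstance _ (inv_mem hk) _)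
    have hfix' : (s : X) * w 0 * (s : X)⁻¹ ∈ U 1 := by
      have h7 : y * w 0 * y⁻¹ = (s : X) * w 0 * (s : X)⁻¹ := congrArg Subtype.val hfix
      exact h7 ▸ hy _ (hUw 0)
    obtain ⟨d, hd⟩ := hfsurj (s : X) hs
    obtain ⟨j, hj, hjε⟩ : ∃ j, (s : X) * w 0 * (s : X)⁻¹ = w j ∧ ε j = 0 := by
      have h2 : ∀ a : ZMod 2, a + a = 0 := CharTwo.add_self_eq_zero
      cases d with
      | r a => exact ⟨_, by rw [← hd]; exact hconj a 0, by
          rw [zero_sub, map_neg, map_add, h2, neg_zero]⟩
      | sr a =>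
        refine ⟨a + a, ?_, by rw [map_add, h2]⟩
        rw [← hd]
        show f (sr a) * f (sr 0) * (f (sr a))⁻¹ = f (sr (a + a))
        rw [← map_inv, ← map_mul, ← map_mul, sr_mul_sr, inv_sr, r_mul_sr, zero_sub, sub_neg_eq_add]
    rw [hj] at hfix'
    rcases hmem 1 _ hfix' with h | h | h | h
    · exact invol_ne_one (hwo j) h
    · exact hzw j h.symm
    · rw [DihedralGroup.sr.inj (hf h), map_one] at hjε
      exact one_ne_zero hjε
    · rw [DihedralGroup.sr.inj (hf h), map_add, map_one, hεi, add_zero] at hjε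
      exact one_ne_zero hjε
  · obtain ⟨g, hg⟩ := exists_conj_le_sylow
      (IsPGroup.of_card (n := 2) (hV.card_four) : IsPGroup 2 V) S
    have hV'K : IsKleinFour (V.map (MulAut.conj g).toMonoidHom) := by
      have e := (V.equivMapOfInjective (MulAut.conj g).toMonoidHom (MulAut.conj g).injective).symm
      exact ⟨(Nat.card_congr e.toEquiv).trans hV.card_four,
        (Monoid.exponent_eq_of_mulEquiv e).trans hV.exponent_two⟩
    obtain ⟨j, hj⟩ := hfour _ hV'K (by rintro _ ⟨v, hv, rfl⟩; exact hg v hv)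
    have hstep : ∀ a, (U j).map (MulAut.conj (f (r a))).toMonoidHom = U (j - (a + a)) := fun a => by
      simp only [hU, map_conj_closure_pair, hconjz, hconj]
    have htrans : ∀ a, V.map (MulAut.conj (f (r a) * g)).toMonoidHom = U (j - (a + a)) := fun a => by
      rw [← hstep, ← hj, Subgroup.map_map]
      congr 1
      ext v
      simp [mul_assoc]
    have hval := ZMod.natCast_zmod_val j
    rcases Nat.even_or_odd' j.val with ⟨c, hc | hc⟩
    · refine Or.inl ⟨f (r (c : ZMod (2 * (2 * q)))) * g, (htrans _).trans ?_⟩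
      have h5 : j = (c : ZMod (2 * (2 * q))) + c := by
        refine hval.symm.trans ?_
        rw [hc]; push_cast; ring
      rw [h5, sub_self]
    · refine Or.inr ⟨f (r (c : ZMod (2 * (2 * q)))) * g, (htrans _).trans ?_⟩
      have h5 : j = (c : ZMod (2 * (2 * q))) + c + 1 := by
        refine hval.symm.trans ?_
        rw [hc]; push_cast; ring
      rw [h5, add_sub_cancel_left]

/-- Let X be a finite group whose Sylow 2-subgroup S is dihedral of order 2m ≥ 4. If |S| = 4, any two Klein four-subgroups of X are conjugate; if |S| > 4, there are Klein four-subgroups U₁, U₂ of X that are not conjugate, and every Klein four-subgroup of X is conjugate to U₁ or to U₂. -/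
theorem result {X : Type*} [Group X] [Finite X] (S : Sylow 2 X) (m : ℕ) (hm : 2 ≤ m) (eS : (S : Subgroup X) ≃* DihedralGroup m) : (Nat.card S = 4 → ∀ U V : Subgroup X, IsKleinFour U → IsKleinFour V → (∃ x : X, U.map (MulAut.conj x).toMonoidHom = V)) ∧ (4 < Nat.card S → ∃ U₁ U₂ : Subgroup X, IsKleinFour U₁ ∧ IsKleinFour U₂ ∧ ¬ (∃ x : X, U₁.map (MulAut.conj x).toMonoidHom = U₂) ∧ ∀ V : Subgroup X, IsKleinFour V → (∃ x : X, V.map (MulAut.conj x).toMonoidHom = U₁) ∨ (∃ x : X, V.map (MulAut.conj x).toMonoidHom = U₂)) := by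
  haveI : Fact (Nat.Prime 2) := ⟨Nat.prime_two⟩
  refine ⟨fun h4 U V hU hV => ?_, fun h4 => ?_⟩
  · have hsyl : ∀ W : Subgroup X, IsKleinFour W → ∃ P : Sylow 2 X, (P : Subgroup X) = W := fun W hW =>
      ⟨Sylow.ofCard W (by
        rw [hW.card_four]
        exact h4.symm.trans S.card_eq_multiplicity), rfl⟩
    obtain ⟨P, rfl⟩ := hsyl U hU
    obtain ⟨Q, rfl⟩ := hsyl V hV
    obtain ⟨g, rfl⟩ := MulAction.exists_smul_eq X P Q
    exact ⟨g, rfl⟩
  · haveI : NeZero m := ⟨by omega⟩
    obtain ⟨k, hk⟩ := S.2.exists_card_eq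
    have hc : Nat.card S = 2 * m := by
      rw [Nat.card_congr eS.toEquiv, Nat.card_eq_fintype_card, DihedralGroup.card]
    have hk' : 2 ^ k = 2 * m := hk.symm.trans hc
    obtain ⟨k, rfl⟩ : ∃ l, k = l + 3 := by
      rcases k with _ | _ | _ | k
      · omega
      · omega
      · norm_num at hk'; omega
      · exact ⟨k, rfl⟩
    obtain rfl : m = 2 * (2 * 2 ^ k) := Nat.eq_of_mul_eq_mul_left two_pos
      (hk'.symm.trans (by ring))
    exact larger_case S (2 * 2 ^ k) (2 ^ k) Nat.one_le_two_pow rfl eS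

end Cfsg.Agent.S1256
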