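import Cfsg.Statements.S1258
import Cfsg.Agent.Lib.Coprime.Component

set_option autoImplicit false
open Cfsg
open scoped commutatorElement

namespace Cfsg.Agent.S1258

/-- If the central quotient of a finite group X is non-abelian simple, then X = X' Z(X) and the commutator subgroup X' is quasisimple. -/
theorem result {X : Type*} [Group X] [Finite X] (hs : IsSimpleGroup (X ⧸ Subgroup.center X)) (hna : ¬ IsMulCommutative (X ⧸ Subgroup.center X)) : commutator X ⊔ Subgroup.center X = ⊤ ∧ Cfsg.IsQuasisimple ↥(commutator X) := by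
  open Subgroup in
  haveI := hs
  have hsurj := QuotientGroup.mk'_surjective (center X)
  have h1 : commutator X ⊔ center X = ⊤ := by
    haveI : ((commutator X).map (QuotientGroup.mk' (center X))).Normal := Normal.map inferInstance _ hsurj
    rcases IsSimpleGroup.eq_bot_or_eq_top_of_normal
        ((commutator X).map (QuotientGroup.mk' (center X))) inferInstance with e | e
    · refine absurd ?_ hna
      refine ⟨⟨fun a b => ?_⟩⟩
      obtain ⟨x, rfl⟩ := hsurj a
      obtain ⟨y, rfl⟩ := hsurj b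
      have h := (mem_bot.1 (e ▸ mem_map_of_mem (QuotientGroup.mk' (center X))
        (commutator_mem_commutator (mem_top x) (mem_top y)) :
          QuotientGroup.mk' (center X) ⁅x, y⁆ ∈ (⊥ : Subgroup _)))
      rw [map_commutatorElement, commutatorElement_eq_one_iff_mul_comm] at h
      exact h
    · have h := congrArg (Subgroup.comap (QuotientGroup.mk' (center X))) e
      rwa [Subgroup.comap_map_eq, QuotientGroup.ker_mk', Subgroup.comap_top] at h
  refine ⟨h1, ?_⟩
  haveI hperf : Group.IsPerfect (commutator X) := by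
    rw [Subgroup.isPerfect_iff]
    refine le_antisymm (commutator_le_self _) ?_
    conv_lhs => rw [commutator_def]
    rw [commutator_le]
    intro a _ b _
    have ha : a ∈ ((commutator X ⊔ center X : Subgroup X) : Set X) := h1 ▸ mem_top a
    have hb : b ∈ ((commutator X ⊔ center X : Subgroup X) : Set X) := h1 ▸ mem_top b
    rw [mul_normal] at ha hb
    obtain ⟨a', ha', z, hz, rfl⟩ := ha
    obtain ⟨b', hb', w, hw, rfl⟩ := hb
    have hz' : ∀ g : X, g * z = z * g := mem_center_iff.1 hz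
    have hw' : ∀ g : X, g * w = w * g := mem_center_iff.1 hw
    have key : ⁅a' * z, b' * w⁆ = ⁅a', b'⁆ := by
      simp only [commutatorElement_def, mul_inv_rev]
      calc a' * z * (b' * w) * (z⁻¹ * a'⁻¹) * (w⁻¹ * b'⁻¹)
          = a' * (z * (b' * w)) * z⁻¹ * a'⁻¹ * w⁻¹ * b'⁻¹ := by group
        _ = a' * ((b' * w) * z) * z⁻¹ * a'⁻¹ * w⁻¹ * b'⁻¹ := by rw [hz']
        _ = a' * b' * (w * a'⁻¹) * w⁻¹ * b'⁻¹ := by group
        _ = a' * b' * (a'⁻¹ * w) * w⁻¹ * b'⁻¹ := by rw [hw']
        _ = a' * b' * a'⁻¹ * b'⁻¹ := by group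
    show ⁅a' * z, b' * w⁆ ∈ _
    rw [key]
    exact commutator_mem_commutator ha' hb'
  haveI : Nontrivial (commutator X) := by
    refine (Subgroup.nontrivial_iff_ne_bot _).2 fun e => hna ⟨⟨fun a b => ?_⟩⟩
    obtain ⟨x, rfl⟩ := hsurj a
    obtain ⟨y, rfl⟩ := hsurj b
    rw [← map_mul, ← map_mul, ← commutatorElement_eq_one_iff_mul_comm.1 (mem_bot.1
      (e ▸ commutator_mem_commutator (mem_top x) (mem_top y) : ⁅x, y⁆ ∈ (⊥ : Subgroup X)))]
  refine CfsgLib.Coprime.isQuasisimple_of_normal_le_center fun N hN => ?_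
  have hsub : ((N.map (commutator X).subtype)).IsSubnormal :=
    hN.isSubnormal.trans' (Subgroup.Normal.isSubnormal inferInstance)
  rcases (hsub.quotient (K := center X)).eq_bot_or_top_of_isSimpleGroup hs with e | e
  · right
    rw [Subgroup.map_eq_bot_iff, QuotientGroup.ker_mk'] at e
    intro x hx
    exact mem_center_iff.2 fun y => Subtype.ext (mem_center_iff.1 (e (mem_map_of_mem _ hx)) y)
  · left
    have h := congrArg (Subgroup.comap (QuotientGroup.mk' (center X))) e
    rw [Subgroup.comap_map_eq, QuotientGroup.ker_mk', Subgroup.comap_top] at h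
    refine eq_top_iff.2 (le_trans hperf.commutator_eq_top.ge ?_)
    refine (commutator_le (H₁ := (⊤ : Subgroup ↥(commutator X))) (H₂ := ⊤)).2 ?_
    intro a _ b _
    have ha : (a : X) ∈ ((N.map (commutator X).subtype ⊔ center X : Subgroup X) : Set X) :=
      h ▸ mem_top _
    have hb : (b : X) ∈ ((N.map (commutator X).subtype ⊔ center X : Subgroup X) : Set X) :=
      h ▸ mem_top _
    rw [mul_normal] at ha hb
    obtain ⟨_, ⟨a', ha', rfl⟩, z, hz, hza⟩ := ha
    obtain ⟨_, ⟨b', hb', rfl⟩, w, hw, hwb⟩ := hb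
    have key : ⁅a, b⁆ = ⁅a', b'⁆ := by
      apply Subtype.ext
      have hz' : ∀ g : X, g * z = z * g := mem_center_iff.1 hz
      have hw' : ∀ g : X, g * w = w * g := mem_center_iff.1 hw
      simp only [commutatorElement_def, Subgroup.coe_mul, Subgroup.coe_inv, ← hza, ← hwb,
        Subgroup.coe_subtype, mul_inv_rev]
      calc (a' : X) * z * (b' * w) * (z⁻¹ * (a' : X)⁻¹) * (w⁻¹ * (b' : X)⁻¹)
          = a' * (z * (b' * w)) * z⁻¹ * (a' : X)⁻¹ * w⁻¹ * (b' : X)⁻¹ := by group
        _ = a' * ((b' * w) * z) * z⁻¹ * (a' : X)⁻¹ * w⁻¹ * (b' : X)⁻¹ := by rw [hz']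
        _ = a' * b' * (w * (a' : X)⁻¹) * w⁻¹ * (b' : X)⁻¹ := by group
        _ = a' * b' * ((a' : X)⁻¹ * w) * w⁻¹ * (b' : X)⁻¹ := by rw [hw']
        _ = a' * b' * (a' : X)⁻¹ * (b' : X)⁻¹ := by group
    rw [key, commutatorElement_def]
    exact mul_mem (mul_mem (mul_mem ha' hb') (inv_mem ha')) (inv_mem hb')

end Cfsg.Agent.S1258
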