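import Cfsg.Statements.S1263
import Cfsg.Agent.Lib.Coprime.Component
import Cfsg.Agent.Lib.Coprime.Action

set_option autoImplicit false
open Cfsg

namespace Cfsg.Agent.S1263

/-- For a finite group G, Z(E(G)) is the subgroup generated by the centres Z(L) of the components L of G (all viewed as subgroups of G). -/
theorem result {G : Type*} [Group G] [Finite G] : (Subgroup.center ↥(Cfsg.layer G)).map (Cfsg.layer G).subtype = ⨆ L : {K : Subgroup G // Cfsg.IsComponent K}, (Subgroup.center ↥(L : Subgroup G)).map (L : Subgroup G).subtype := by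
  classical
  haveI : Fintype {K : Subgroup G // Cfsg.IsComponent K} := Fintype.ofFinite _
  refine le_antisymm ?_ (iSup_le fun L => ?_)
  · have key : ∀ S : Finset {K : Subgroup G // Cfsg.IsComponent K}, ∀ x ∈ S.sup (fun K => (K : Subgroup G)),
        (∀ y ∈ S.sup (fun K => (K : Subgroup G)), x * y = y * x) →
        x ∈ ⨆ L : {K : Subgroup G // Cfsg.IsComponent K},
          (Subgroup.center ↥(L : Subgroup G)).map (L : Subgroup G).subtype := by
      intro S
      induction S using Finset.induction_on with
      | empty =>
        intro x hx _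
        rw [Finset.sup_empty, Subgroup.mem_bot] at hx
        rw [hx]; exact one_mem _
      | @insert K S hKS ih =>
        intro x hx hc
        rw [Finset.sup_insert] at hx hc
        have hcomm : S.sup (fun K => (K : Subgroup G)) ≤
            Subgroup.centralizer ((K : Subgroup G) : Set G) := Finset.sup_le fun L hL =>
          Subgroup.commutator_eq_bot_iff_le_centralizer.1
            (CfsgLib.Coprime.components_commute L.2 K.2 fun h => hKS (Subtype.ext h ▸ hL))
        obtain ⟨k, hk, o, ho, rfl⟩ := CfsgLib.Coprime.mem_sup_exists
          (hcomm.trans (CfsgLib.Coprime.centralizer_le_normalizer_self _)) hx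
        have hoK : ∀ y ∈ (K : Subgroup G), o * y = y * o := fun y hy =>
          (Subgroup.mem_centralizer_iff.1 (hcomm ho) y hy).symm
        refine Subgroup.mul_mem _ ?_ (ih o ho fun y hy => ?_)
        · refine Subgroup.mem_iSup_of_mem K ⟨⟨k, hk⟩, Subgroup.mem_center_iff.2 fun y => Subtype.ext ?_, rfl⟩
          have h := hc y (Subgroup.mem_sup_left y.2)
          rw [mul_assoc, hoK y y.2, ← mul_assoc, ← mul_assoc] at h
          exact (mul_right_cancel h).symm
        · have h := hc y (Subgroup.mem_sup_right hy)
          have hky : k * y = y * k := Subgroup.mem_centralizer_iff.1 (hcomm hy) k hk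
          rw [mul_assoc, ← mul_assoc y, ← hky, mul_assoc] at h
          exact mul_left_cancel h
    rintro _ ⟨z, hz, rfl⟩
    have hall : Cfsg.layer G ≤
        (Finset.univ : Finset {K : Subgroup G // Cfsg.IsComponent K}).sup (fun K => (K : Subgroup G)) :=
      sSup_le fun K hK => Finset.le_sup (f := fun K : {K : Subgroup G // Cfsg.IsComponent K} =>
        (K : Subgroup G)) (Finset.mem_univ ⟨K, hK⟩)
    have hge : (Finset.univ : Finset {K : Subgroup G // Cfsg.IsComponent K}).sup
        (fun K => (K : Subgroup G)) ≤ Cfsg.layer G :=
      Finset.sup_le fun K _ => CfsgLib.Coprime.component_le_layer K.2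
    exact key _ _ (hall z.2) fun y hy =>
      (congrArg Subtype.val (Subgroup.mem_center_iff.1 hz ⟨y, hge hy⟩)).symm
  · rintro _ ⟨z, hz, rfl⟩
    refine ⟨⟨z, CfsgLib.Coprime.component_le_layer L.2 z.2⟩, Subgroup.mem_center_iff.2 fun g => ?_, rfl⟩
    refine Subtype.ext ?_
    have hle : Cfsg.layer G ≤ Subgroup.centralizer ({(z : G)} : Set G) := sSup_le fun K hK => by
      by_cases h : K = (L : Subgroup G)
      · subst h
        intro y hy
        exact Subgroup.mem_centralizer_singleton_iff.2
          (congrArg Subtype.val (Subgroup.mem_center_iff.1 hz ⟨y, hy⟩))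
      · intro y hy
        have := Subgroup.commutator_eq_bot_iff_le_centralizer.1
          (CfsgLib.Coprime.components_commute hK L.2 h) hy
        exact Subgroup.mem_centralizer_singleton_iff.2 (Subgroup.mem_centralizer_iff.1 this _ z.2).symm
    exact Subgroup.mem_centralizer_singleton_iff.1 (hle g.2)
end Cfsg.Agent.S1263
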