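import Cfsg.Statements.S1266
import Cfsg.Agent.Lib.Coprime.LBalance.LocalBalance
import Cfsg.Agent.Lib.Coprime.LBalance.Main

set_option autoImplicit false
open Cfsg

namespace Cfsg.Agent.S1266

open scoped commutatorElement

/-- Let P be a p-subgroup of the finite group G and N = N_G(P). Then the preimage in N of E(N / O_{p'}(N)) centralizes O_p(G). -/
theorem result {G : Type*} [Group G] [Finite G] (p : ℕ) [Fact p.Prime] (P : Subgroup G) (hP : IsPGroup p ↥P) : (((Cfsg.layer (↥(Subgroup.normalizer ((P : Subgroup G) : Set G)) ⧸ Cfsg.pPrimeCore p ↥(Subgroup.normalizer ((P : Subgroup G) : Set G)))).comap (QuotientGroup.mk' (Cfsg.pPrimeCore p ↥(Subgroup.normalizer ((P : Subgroup G) : Set G))))).map (Subgroup.normalizer ((P : Subgroup G) : Set G)).subtype) ≤ Subgroup.centralizer (Cfsg.pCore p G : Set G) := by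
  have hB : ∀ {X : Type _} [Group X] [Finite X] (R : Subgroup X), IsPGroup p R →
      (Cfsg.pPrimeCore p ↥(Subgroup.normalizer (R : Set X))).map (Subgroup.normalizer (R : Set X)).subtype ≤
        CfsgLib.Coprime.coreIn p (Subgroup.centralizer (R : Set X)) := by
    intro X _ _ R hR
    obtain ⟨B, hBdef⟩ : ∃ B, B = CfsgLib.Coprime.coreIn p (Subgroup.normalizer (R : Set X)) := ⟨_, rfl⟩
    have hBN : B ≤ Subgroup.normalizer (R : Set X) := hBdef ▸ CfsgLib.Coprime.coreIn_le _ _
    have hNB : Subgroup.normalizer (R : Set X) ≤ Subgroup.normalizer (B : Set X) :=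
      hBdef ▸ Subgroup.le_normalizer.trans (CfsgLib.Coprime.normalizer_le_normalizer_coreIn _ _)
    have hcop : (Nat.card B).Coprime p :=
      hBdef ▸ CfsgLib.Coprime.coprime_card_coreIn (Fact.out : p.Prime) _
    have hBC : B ≤ Subgroup.centralizer (R : Set X) := by
      rw [← Subgroup.commutator_eq_bot_iff_le_centralizer, eq_bot_iff,
        ← CfsgLib.Coprime.pPrime_inf_pGroup_eq_bot hcop hR, Subgroup.commutator_le]
      intro b hb r hr
      rw [commutatorElement_def]
      refine Subgroup.mem_inf.2 ⟨?_, ?_⟩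
      · rw [show b * r * b⁻¹ * r⁻¹ = b * (r * b⁻¹ * r⁻¹) by group]
        exact mul_mem hb ((Subgroup.mem_normalizer_iff.1 (hNB (Subgroup.le_normalizer hr)) _).1 (inv_mem hb))
      · exact mul_mem ((Subgroup.mem_normalizer_iff.1 (hBN hb) _).1 hr) (inv_mem hr)
    show CfsgLib.Coprime.coreIn p (Subgroup.normalizer (R : Set X)) ≤ _
    rw [← hBdef]
    exact CfsgLib.Coprime.le_coreIn hBC ((Subgroup.centralizer_le_normalizer _).trans hNB) hcop
  obtain ⟨N, hN⟩ : ∃ N, N = Subgroup.normalizer (P : Set G) := ⟨_, rfl⟩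
  rw [← CfsgLib.Coprime.map_pLayer, Subgroup.comap_map_eq, QuotientGroup.ker_mk', Subgroup.map_sup]
  refine sup_le (Subgroup.map_le_iff_le_comap.2 (sSup_le fun J₀ hJ₀ => Subgroup.map_le_iff_le_comap.1 ?_)) ?_
  · exact (CfsgLib.Coprime.pComponent_normalizer_data hP hJ₀ _ rfl).2.2.2.1
  · exact (hB P hP).trans (CfsgLib.Coprime.coreCentralizer_data hP _ rfl).2.2.1

end Cfsg.Agent.S1266
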