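import Cfsg.Statements.S1267
import Cfsg.Agent.Lib.Coprime.PConstrained

set_option autoImplicit false
open Cfsg

namespace Cfsg.Agent.S1267

/-- Let G be finite and P ≤ O_p(G). Then E(N_G(P)) = E(G). -/
theorem result {G : Type*} [Group G] [Finite G] (p : ℕ) [Fact p.Prime] (P : Subgroup G) (hP : P ≤ Cfsg.pCore p G) : (Cfsg.layer ↥(Subgroup.normalizer ((P : Subgroup G) : Set G))).map (Subgroup.normalizer ((P : Subgroup G) : Set G)).subtype = Cfsg.layer G := by
  set N := Subgroup.normalizer (P : Set G) with hN
  haveI hUn := CfsgLib.Coprime.pCore_normal' (G := G) p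
  set U := Cfsg.pCore p G
  have hU : IsPGroup p U := CfsgLib.Coprime.pCore_isPGroup p
  have hPp : IsPGroup p P := hU.to_le hP
  have hUnorm : ∀ X : Subgroup G, X ≤ Subgroup.normalizer (U : Set G) := fun X => by
    rw [Subgroup.normalizer_eq_top (H := U)]; exact le_top
  refine le_antisymm ?_ (sSup_le fun K hK => ?_)
  · rw [Subgroup.map_le_iff_le_comap]
    refine sSup_le fun K hK => ?_
    rw [← Subgroup.map_le_iff_le_comap]
    have hKN : K.map N.subtype ≤ N := Subgroup.map_subtype_le _
    have hperf : ⁅K.map N.subtype, K.map N.subtype⁆ = K.map N.subtype := by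
      rw [← Subgroup.map_commutator, CfsgLib.Coprime.commutator_self_of_isComponent hK]
    have hcomm : ∀ A : Subgroup G, A ≤ N → IsPGroup p A → N ≤ Subgroup.normalizer (A : Set G) →
        A ≤ Subgroup.centralizer (K.map N.subtype : Set G) := by
      intro A hAN hA hn
      have hA' : IsPGroup p (A.subgroupOf N) := hA.comap_subtype
      haveI : Group.IsNilpotent (A.subgroupOf N) := hA'.isNilpotent
      haveI : (A.subgroupOf N).Normal := (Subgroup.normal_subgroupOf_iff_le_normalizer hAN).2 hn
      have h := congrArg (Subgroup.map N.subtype)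
        (CfsgLib.Coprime.component_commutator_solvable_eq_bot hK
        (inferInstance : Group.IsSolvable (A.subgroupOf N))
        (by rw [Subgroup.normalizer_eq_top]; exact le_top))
      rw [Subgroup.map_commutator, Subgroup.map_bot, Subgroup.map_subgroupOf_eq_of_le hAN,
        Subgroup.commutator_comm, Subgroup.commutator_eq_bot_iff_le_centralizer] at h
      exact h
    have hfix : U ⊓ Subgroup.centralizer (P : Set G) ≤ N :=
      inf_le_right.trans (CfsgLib.Coprime.centralizer_le_normalizer_self P)
    have h1 := CfsgLib.Coprime.perfect_le_centralizer_of_fixed hPp hU hperf (hUnorm _) (hUnorm _)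
      (hcomm P Subgroup.le_normalizer hPp le_rfl)
      (hcomm _ hfix (hU.to_le inf_le_left) (CfsgLib.Coprime.inf_le_normalizer (hUnorm _)
        (CfsgLib.Coprime.normalizer_le_normalizer_centralizer P)))
    set C := Subgroup.centralizer (U : Set G) with hC
    have hCN : C ≤ N := (Subgroup.centralizer_le hP).trans
      (CfsgLib.Coprime.centralizer_le_normalizer_self P)
    have hKC : K ≤ C.subgroupOf N := fun x hx =>
      Subgroup.mem_subgroupOf.2 (h1 (Subgroup.mem_map_of_mem _ hx))
    have h2 := CfsgLib.Coprime.isComponent_subgroupOf hK hKC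
    have h3 := CfsgLib.Coprime.isComponent_map_equiv (Subgroup.subgroupOfEquivOfLe hCN) h2
    haveI : C.Normal := inferInstance
    have h4 := (CfsgLib.Coprime.isComponent_map_subtype_iff
      (Subgroup.Normal.isSubnormal inferInstance) _).2 h3
    refine le_trans (fun x hx => ?_) (CfsgLib.Coprime.component_le_layer h4)
    obtain ⟨y, hy, rfl⟩ := hx
    exact ⟨_, ⟨⟨y, hKC hy⟩, Subgroup.mem_subgroupOf.2 hy, rfl⟩, rfl⟩
  · have h : K ≤ N := by
      have h1 := CfsgLib.Coprime.le_centralizer_pCore_of_isComponent (p := p) hK
      exact (h1.trans (Subgroup.centralizer_le hP)).trans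
        (CfsgLib.Coprime.centralizer_le_normalizer_self P)
    exact CfsgLib.Coprime.component_le_layer_subgroup hK h
end Cfsg.Agent.S1267
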