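import Cfsg.Statements.S1268
import Cfsg.Agent.Lib.Coprime.LBalance.LocalBalance
import Cfsg.Agent.Lib.Coprime.LBalance.Main

set_option autoImplicit false
open Cfsg

namespace Cfsg.Agent.S1268

/-- Let G be finite with F*(G) = O_p(G). Then F*(N) = O_p(N) for N the normalizer of any p-subgroup P of G. -/
theorem result {G : Type*} [Group G] [Finite G] (p : ℕ) [Fact p.Prime] (h : Cfsg.generalizedFittingSubgroup G = Cfsg.pCore p G) (P : Subgroup G) (hP : IsPGroup p ↥P) : Cfsg.generalizedFittingSubgroup ↥(Subgroup.normalizer ((P : Subgroup G) : Set G)) = Cfsg.pCore p ↥(Subgroup.normalizer ((P : Subgroup G) : Set G)) := by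
  have hL : Cfsg.layer G = ⊥ := le_bot_iff.1 (sSup_le fun K hK => absurd
    ((CfsgLib.Coprime.component_le_layer hK).trans
      (CfsgLib.Coprime.layer_le_generalizedFitting.trans h.le))
    (CfsgLib.Coprime.not_le_of_isComponent_of_isSolvable hK (by
      haveI : Group.IsNilpotent (Cfsg.pCore p G) := (CfsgLib.Coprime.pCore_isPGroup p).isNilpotent
      infer_instance)))
  have hC : Subgroup.centralizer (Cfsg.pCore p G : Set G) ≤ Cfsg.pCore p G := by
    rw [← h]; exact CfsgLib.Coprime.centralizer_generalizedFitting_le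
  obtain ⟨hO, hE⟩ := CfsgLib.Coprime.local_of_centralizer_pCore_le hC hP
  rw [Cfsg.generalizedFittingSubgroup, hE, bot_sup_eq,
    CfsgLib.Coprime.fitting_eq_pCore_of_pPrimeCore_eq_bot hO]

end Cfsg.Agent.S1268
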