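import Cfsg.Statements.S1270
import Cfsg.Agent.Lib.Coprime.LBalance.LocalBalance

set_option autoImplicit false
open Cfsg

namespace Cfsg.Agent.S1270

open scoped commutatorElement

/-- Let G be finite with O_{p'}(G) = 1, x of order p, and L a component with ⁅L, ⟨x⟩⁆ ≠ L. Then ⁅L, O_{p'}(C_G(x))⁆ = 1. -/
theorem result {G : Type*} [Group G] [Finite G] (p : ℕ) [Fact p.Prime] (hO : Cfsg.pPrimeCore p G = ⊥) (x : G) (hx : orderOf x = p) (L : Subgroup G) (hL : Cfsg.IsComponent L) (hne : ⁅L, Subgroup.zpowers x⁆ ≠ L) : ⁅L, Cfsg.centralizerPPrimeCore p x⁆ = ⊥ := by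
  have hxp : x ^ p = 1 := hx ▸ pow_orderOf_eq_one x
  rw [Subgroup.commutator_comm, Subgroup.commutator_eq_bot_iff_le_centralizer]
  by_cases hxL : x ∈ Subgroup.normalizer (L : Set G)
  · refine CfsgLib.Coprime.coreCentralizer_le_centralizer_of_centralized hO hL ?_
    have hle : ⁅L, Subgroup.zpowers x⁆ ≤ L := Subgroup.commutator_le.2 fun a ha b hb => by
      rw [commutatorElement_def, show a * b * a⁻¹ * b⁻¹ = a * (b * a⁻¹ * b⁻¹) by group]
      exact mul_mem ha ((Subgroup.mem_normalizer_iff.1 (Subgroup.zpowers_le.2 hxL hb) _).1 (inv_mem ha))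
    have hsn : (⁅L, Subgroup.zpowers x⁆).IsSubnormal := Subgroup.IsSubnormal.trans hle
      (Subgroup.Normal.isSubnormal ((Subgroup.normal_subgroupOf_iff_le_normalizer hle).2
        (Subgroup.normalizer_commutator_ge_left L _))) hL.1
    have hc := CfsgLib.Coprime.subgroupOf_le_center hle
      ((CfsgLib.Coprime.eq_or_le_center_of_le_component hL hsn hle).resolve_left hne)
    refine CfsgLib.Coprime.mem_centralizer_of_commutator_central
      (CfsgLib.Coprime.commutator_self_of_isComponent hL) fun k hk => ?_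
    have h1 := inv_mem (Subgroup.commutator_mem_commutator hk (Subgroup.mem_zpowers x))
    rw [commutatorElement_inv, commutatorElement_def] at h1
    exact Subgroup.mem_inf.2 ⟨hle h1, hc h1⟩
  · exact CfsgLib.Coprime.coreCentralizer_le_centralizer_of_moved hO hxp hL hxL

end Cfsg.Agent.S1270
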