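import Cfsg.Statements.S1273
import Cfsg.Agent.Lib.Coprime.PComponent

set_option autoImplicit false
open Cfsg

namespace Cfsg.Agent.S1273

/-- Let K be a p-component of the finite group X and N a normal subgroup of K whose index in K is prime to p. Then N = K. -/
theorem result {X : Type*} [Group X] [Finite X] (p : ℕ) [Fact p.Prime] (K : Subgroup X) (hK : Cfsg.IsPComponent p K) (N : Subgroup ↥K) [N.Normal] (hidx : (N.index).Coprime p) : N = ⊤ := by
  have hsub : (N.map K.subtype).IsSubnormal :=
    (Subgroup.Normal.isSubnormal inferInstance).trans' hK.1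
  have hrel : (N.map K.subtype).relIndex K = N.index := by
    rw [Subgroup.relIndex, Subgroup.subgroupOf,
      Subgroup.comap_map_eq_self_of_injective K.subtype_injective]
  have h := CfsgLib.Coprime.pClosure_le_of_isSubnormal (p := p) (Y := K) hsub (by
    rw [hrel]
    exact fun hd => (Fact.out : p.Prime).not_dvd_one (hidx ▸ Nat.dvd_gcd hd dvd_rfl))
  rw [CfsgLib.Coprime.pClosure_pComponent hK] at h
  rw [eq_top_iff]
  intro x _
  obtain ⟨y, hy, hyx⟩ := h x.2
  rwa [Subtype.ext (show (x : X) = y from hyx.symm)]

end Cfsg.Agent.S1273
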