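import Cfsg.Statements.S1275
import Cfsg.Agent.Lib.Coprime.PComponent

set_option autoImplicit false
open Cfsg

namespace Cfsg.Agent.S1275

/-- For a 2-component K of a finite group X, the quotient of K by its core O(K) is quasisimple. -/
theorem result {X : Type*} [Group X] [Finite X] (K : Subgroup X) (hK : Cfsg.IsPComponent 2 K) : Cfsg.IsQuasisimple (↥K ⧸ Cfsg.oddCore ↥K) := by
  haveI : Fact (Nat.Prime 2) := ⟨Nat.prime_two⟩
  obtain ⟨f, hf⟩ : ∃ f : ↥K →* ↥(K.map (QuotientGroup.mk' (Cfsg.pPrimeCore 2 X))),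
      f = (QuotientGroup.mk' (Cfsg.pPrimeCore 2 X)).subgroupMap K := ⟨_, rfl⟩
  have hker : f.ker = Cfsg.oddCore ↥K := by
    refine Subgroup.map_injective K.subtype_injective ?_
    rw [CfsgLib.Coprime.map_pPrimeCore_of_isSubnormal hK.1, hf]
    ext x
    constructor
    · rintro ⟨y, hy, rfl⟩
      exact ⟨(QuotientGroup.eq_one_iff (y : X)).1 (congrArg Subtype.val (MonoidHom.mem_ker.1 hy)), y.2⟩
    · intro hx
      exact ⟨⟨x, hx.2⟩, MonoidHom.mem_ker.2 (Subtype.ext ((QuotientGroup.eq_one_iff x).2 hx.1)), rfl⟩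
  have hsur : Function.Surjective f := hf ▸ MonoidHom.subgroupMap_surjective _ K
  exact CfsgLib.Coprime.isQuasisimple_congr
    ((QuotientGroup.quotientMulEquivOfEq hker.symm).trans
      (QuotientGroup.quotientKerEquivOfSurjective f hsur)).symm hK.2.1.2

end Cfsg.Agent.S1275
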