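import Cfsg.Statements.S1276
import Cfsg.Agent.Lib.Coprime.PComponent

set_option autoImplicit false
open Cfsg

namespace Cfsg.Agent.S1276

/-- Let K be a 2-component of the finite group X. Then K is quasisimple if and only if ⁅K, O(K)⁆ = 1. -/
theorem result {X : Type*} [Group X] [Finite X] (K : Subgroup X) (hK : Cfsg.IsPComponent 2 K) : Cfsg.IsQuasisimple ↥K ↔ ⁅K, ((Cfsg.oddCore ↥K).map K.subtype)⁆ = ⊥ := by
  haveI : Fact (Nat.Prime 2) := ⟨Nat.prime_two⟩
  have hperfK := CfsgLib.Coprime.commutator_self_pComponent hK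
  have hcore := CfsgLib.Coprime.map_pPrimeCore_of_isSubnormal (p := 2) hK.1
  constructor
  · intro hq
    rcases CfsgLib.Coprime.subnormal_eq_top_or_le_center hq
      (Subgroup.Normal.isSubnormal (inferInstance : (Cfsg.oddCore ↥K).Normal)) with h | h
    · exfalso
      have h2 : (2 : ℕ) ∣ Nat.card (Cfsg.oddCore ↥K) := by
        rw [h, Subgroup.card_top]; exact CfsgLib.Coprime.dvd_card_pComponent hK
      exact CfsgLib.Coprime.pPrimeCore_not_dvd Nat.prime_two h2
    · rw [Subgroup.commutator_eq_bot_iff_le_centralizer]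
      intro k hk
      rw [Subgroup.mem_centralizer_iff]
      rintro _ ⟨c, hc, rfl⟩
      exact (congrArg Subtype.val (Subgroup.mem_center_iff.1 (h hc) ⟨k, hk⟩)).symm
  · intro hcm
    obtain ⟨f, hf⟩ : ∃ f, f = QuotientGroup.mk' (Cfsg.pPrimeCore 2 X) := ⟨_, rfl⟩
    have hcomp := hK.2.1
    rw [← hf] at hcomp
    have hfs : Function.Surjective f := hf ▸ QuotientGroup.mk'_surjective _
    haveI : Group.IsPerfect K := Subgroup.isPerfect_iff.2 hperfK
    haveI : Nontrivial K := (Subgroup.nontrivial_iff_ne_bot K).2 fun e =>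
      CfsgLib.Coprime.pComponent_not_le_pPrimeCore hK (e ▸ bot_le)
    refine CfsgLib.Coprime.isQuasisimple_of_normal_le_center fun N hN => ?_
    have hNsub : (N.map K.subtype).IsSubnormal := (Subgroup.Normal.isSubnormal hN).trans' hK.1
    rcases CfsgLib.Coprime.eq_or_le_center_of_le_component hcomp (hNsub.map hfs)
      (Subgroup.map_mono (Subgroup.map_subtype_le N)) with h | h
    · refine Or.inl (Subgroup.map_injective K.subtype_injective ?_)
      rw [hK.2.2 _ hNsub (Subgroup.map_subtype_le N) (hf ▸ h), ← MonoidHom.range_eq_map,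
        Subgroup.range_subtype]
    · refine Or.inr fun n hn => Subgroup.mem_center_iff.2 fun k => Subtype.ext ?_
      have hc := CfsgLib.Coprime.subgroupOf_le_center
        (Subgroup.map_mono (Subgroup.map_subtype_le N)) h
      have hD : ⁅⁅N.map K.subtype, K⁆, K⁆ = ⊥ := by
        have h3 : ⁅N.map K.subtype, K⁆ ≤ (Cfsg.oddCore ↥K).map K.subtype := by
          rw [hcore]
          refine le_inf ?_ ((Subgroup.commutator_mono (Subgroup.map_subtype_le N) le_rfl).trans
            (Subgroup.commutator_le_self K))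
          rw [← QuotientGroup.ker_mk' (Cfsg.pPrimeCore 2 X), ← hf, ← Subgroup.map_eq_bot_iff,
            Subgroup.map_commutator, Subgroup.commutator_eq_bot_iff_le_centralizer]
          exact hc
        rw [eq_bot_iff, ← hcm, Subgroup.commutator_comm K]
        exact Subgroup.commutator_mono h3 le_rfl
      exact (CfsgLib.Coprime.commutator_eq_bot_iff_forall.1
        (CfsgLib.Coprime.commutator_eq_bot_of_perfect hperfK hD) n ⟨n, hn, rfl⟩ k k.2).symm

end Cfsg.Agent.S1276
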