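import Cfsg.Statements.S1277
import Cfsg.Agent.Lib.Coprime.PComponent

set_option autoImplicit false
open Cfsg

namespace Cfsg.Agent.S1277

/-- For a finite group X with core O(X): the image of E(X) in X / O(X) is all of E(X / O(X)) if and only if every 2-component of X is a component, i.e. L_{2'}(X) ≤ E(X). -/
theorem result {X : Type*} [Group X] [Finite X] : (Cfsg.layer X).map (QuotientGroup.mk' (Cfsg.oddCore X)) = Cfsg.layer (X ⧸ Cfsg.oddCore X) ↔ Cfsg.pLayer 2 X ≤ Cfsg.layer X := by
  haveI : Fact (Nat.Prime 2) := ⟨Nat.prime_two⟩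
  obtain ⟨f, hf⟩ : ∃ f, f = QuotientGroup.mk' (Cfsg.oddCore X) := ⟨_, rfl⟩
  have hfs : Function.Surjective f := hf ▸ QuotientGroup.mk'_surjective _
  rw [← hf]
  have himg : ∀ L : Subgroup X, Cfsg.IsComponent L →
      L.map f = ⊥ ∨ Cfsg.IsComponent (L.map f) := by
    intro L hL
    by_cases h : L.map f = ⊥
    · exact Or.inl h
    refine Or.inr ⟨hL.1.map hfs, ?_⟩
    haveI := hL.2.1
    haveI : Group.IsPerfect (L.map f) :=
      Group.IsPerfect.ofSurjective (f := f.subgroupMap L) (f.subgroupMap_surjective L)
    haveI : Nontrivial (L.map f) := (Subgroup.nontrivial_iff_ne_bot _).2 h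
    refine CfsgLib.Coprime.isQuasisimple_of_normal_le_center fun M hM => ?_
    rcases CfsgLib.Coprime.subnormal_eq_top_or_le_center hL.2
      (Subgroup.Normal.isSubnormal (hM.comap (f.subgroupMap L))) with e | e
    · refine Or.inl ?_
      rw [← Subgroup.map_comap_eq_self_of_surjective (f.subgroupMap_surjective L) M, e,
        Subgroup.map_top_of_surjective _ (f.subgroupMap_surjective L)]
    · refine Or.inr fun y hy => Subgroup.mem_center_iff.2 fun z => ?_
      obtain ⟨a, rfl⟩ := f.subgroupMap_surjective L y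
      obtain ⟨b, rfl⟩ := f.subgroupMap_surjective L z
      rw [← map_mul, ← map_mul, Subgroup.mem_center_iff.1 (e hy) b]
  have hle : (Cfsg.layer X).map f ≤ Cfsg.layer (X ⧸ Cfsg.oddCore X) :=
    Subgroup.map_le_iff_le_comap.2 (sSup_le fun L hL => Subgroup.map_le_iff_le_comap.1
      ((himg L hL).elim (fun e => e ▸ bot_le) CfsgLib.Coprime.component_le_layer))
  constructor
  · intro heq
    refine sSup_le fun K hK => ?_
    have hcomp : Cfsg.IsComponent (K.map f) := hf ▸ hK.2.1
    have hmem : ∃ L : Subgroup X, Cfsg.IsComponent L ∧ L.map f = K.map f := by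
      by_contra hc
      push Not at hc
      have h1 : Cfsg.layer X ≤ (Subgroup.centralizer ((K.map f : Subgroup _) : Set _)).comap f := by
        refine sSup_le fun L hL => Subgroup.map_le_iff_le_comap.1 ?_
        rcases himg L hL with e | e
        · exact e ▸ bot_le
        · exact Subgroup.commutator_eq_bot_iff_le_centralizer.1
            (CfsgLib.Coprime.components_commute e hcomp (hc L hL))
      have h2 : K.map f ≤ Subgroup.centralizer ((K.map f : Subgroup _) : Set _) :=
        ((CfsgLib.Coprime.component_le_layer hcomp).trans heq.ge).trans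
          (Subgroup.map_le_iff_le_comap.2 h1)
      refine CfsgLib.Coprime.not_isSolvable_of_isComponent hcomp
        (Group.isSolvable_of_comm fun a b => Subtype.ext ?_)
      exact (Subgroup.mem_centralizer_iff.1 (h2 b.2) a a.2)
    obtain ⟨L, hL, he⟩ := hmem
    rw [hf] at he
    refine le_trans ?_ (CfsgLib.Coprime.component_le_layer hL)
    rw [CfsgLib.Coprime.eq_pComponentOver hK]
    exact CfsgLib.Coprime.pComponentOver_le_of_map_eq hL.1 he
  · intro hL
    refine le_antisymm hle ?_
    rw [show Cfsg.layer (X ⧸ Cfsg.oddCore X) = (Cfsg.pLayer 2 X).map f from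
      hf ▸ CfsgLib.Coprime.map_pLayer.symm]
    exact Subgroup.map_mono hL

end Cfsg.Agent.S1277
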