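import Cfsg.Statements.S1278
import Cfsg.Agent.Lib.Coprime.PComponent

set_option autoImplicit false
open Cfsg

namespace Cfsg.Agent.S1278

open scoped commutatorElement

/-- Let K ≠ L be 2-components of the finite group X. Then ⁅K, L⁆ ≤ O(K) ⊓ O(L), and if K is quasisimple then ⁅K, L⁆ = 1. -/
theorem result {X : Type*} [Group X] [Finite X] (K L : Subgroup X) (hK : Cfsg.IsPComponent 2 K) (hL : Cfsg.IsPComponent 2 L) (hne : K ≠ L) : ⁅K, L⁆ ≤ ((Cfsg.oddCore ↥K).map K.subtype) ⊓ ((Cfsg.oddCore ↥L).map L.subtype) ∧ (Cfsg.IsQuasisimple ↥K → ⁅K, L⁆ = ⊥) := by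
  haveI : Fact (Nat.Prime 2) := ⟨Nat.prime_two⟩
  have hKL : ⁅K, L⁆ ≤ Cfsg.pPrimeCore 2 X := by
    rw [← QuotientGroup.ker_mk' (Cfsg.pPrimeCore 2 X), ← Subgroup.map_eq_bot_iff,
      Subgroup.map_commutator]
    exact CfsgLib.Coprime.components_commute hK.2.1 hL.2.1
      fun e => hne (CfsgLib.Coprime.IsPComponent_unique hK hL e)
  have h1 : ⁅K, L⁆ ≤ K := by
    rw [Subgroup.commutator_le]
    intro a ha b hb
    have hn := CfsgLib.Coprime.pLayer_le_normalizer_pComponent hK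
      (CfsgLib.Coprime.pComponent_le_pLayer hL hb)
    rw [commutatorElement_def, show a * b * a⁻¹ * b⁻¹ = a * (b * a⁻¹ * b⁻¹) by group]
    exact mul_mem ha ((Subgroup.mem_normalizer_iff.1 hn _).1 (inv_mem ha))
  have h2 : ⁅K, L⁆ ≤ L := by
    rw [Subgroup.commutator_le]
    intro a ha b hb
    have hn := CfsgLib.Coprime.pLayer_le_normalizer_pComponent hL
      (CfsgLib.Coprime.pComponent_le_pLayer hK ha)
    rw [commutatorElement_def]
    exact mul_mem ((Subgroup.mem_normalizer_iff.1 hn _).1 hb) (inv_mem hb)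
  refine ⟨le_inf ?_ ?_, fun hq => ?_⟩
  · rw [CfsgLib.Coprime.map_pPrimeCore_of_isSubnormal hK.1]; exact le_inf hKL h1
  · rw [CfsgLib.Coprime.map_pPrimeCore_of_isSubnormal hL.1]; exact le_inf hKL h2
  have hcent : ⁅⁅L, K⁆, K⁆ = ⊥ := by
    rw [Subgroup.commutator_eq_bot_iff_le_centralizer, Subgroup.commutator_comm L K]
    have hcore : ⁅K, L⁆ ≤ (Cfsg.pPrimeCore 2 ↥K).map K.subtype := by
      rw [CfsgLib.Coprime.map_pPrimeCore_of_isSubnormal hK.1]; exact le_inf hKL h1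
    refine hcore.trans ?_
    rcases CfsgLib.Coprime.subnormal_eq_top_or_le_center hq
      (Subgroup.Normal.isSubnormal (inferInstance : (Cfsg.pPrimeCore 2 ↥K).Normal)) with h | h
    · exfalso
      have hd : (2 : ℕ) ∣ Nat.card (Cfsg.pPrimeCore 2 ↥K) := by
        rw [h, Subgroup.card_top]; exact CfsgLib.Coprime.dvd_card_pComponent hK
      exact CfsgLib.Coprime.pPrimeCore_not_dvd Nat.prime_two hd
    · rintro _ ⟨c, hc, rfl⟩
      rw [Subgroup.mem_centralizer_iff]
      exact fun k hk => congrArg Subtype.val (Subgroup.mem_center_iff.1 (h hc) ⟨k, hk⟩)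
  rw [Subgroup.commutator_comm]
  exact CfsgLib.Coprime.commutator_eq_bot_of_perfect
    (CfsgLib.Coprime.commutator_self_pComponent hK) hcent

end Cfsg.Agent.S1278
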