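import Cfsg.Statements.S1285
import Cfsg.Agent.Lib.Invol.SignalizerTransitivity


set_option autoImplicit false
open Cfsg

namespace Cfsg.Agent.S1285

/-- Let θ be a solvable A-signalizer functor on the finite group G with A elementary abelian of rank at least 3, and suppose that for some prime q every θ a (a ∈ A non-identity) is a q-group. Then θ is complete. -/
theorem result {G : Type*} [Group G] [Finite G] (p : ℕ) [Fact p.Prime] (A : Subgroup G) (hA : Cfsg.IsElementaryAbelian p A) (hA3 : p ^ 3 ≤ Nat.card ↥A) (θ : G → Subgroup G) (hθ : Cfsg.IsSolvableSignalizerFunctor p A θ) (q : ℕ) [Fact q.Prime] (hq : ∀ a ∈ A, a ≠ 1 → IsPGroup q ↥(θ a)) : Cfsg.IsCompleteSignalizerFunctor p A θ := by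
  open CfsgLib.Invol in
  exact (by
    rcases eq_or_ne q p with e | hqp
    · subst e
      refine ⟨hθ.1, ⊥, fun b hb x hx => ?_, ?_, fun a ha ha1 => ?_⟩
      · rw [Subgroup.mem_bot] at hx ⊢
        rw [hx, mul_one, mul_inv_cancel]
      · rw [Subgroup.card_bot]
        exact (Fact.out : q.Prime).not_dvd_one
      · rw [bot_inf_eq]
        obtain ⟨n, hn⟩ := IsPGroup.iff_card.1 (hq a ha ha1)
        refine (Subgroup.eq_bot_of_card_eq _ ?_).symm
        rcases n with _ | n
        · simpa using hn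
        · exact absurd (hn ▸ dvd_pow_self q (Nat.succ_ne_zero n)) (hθ.1.2.1 a ha ha1)
    obtain ⟨Q, hQ⟩ := exists_maxMember (p := p) (A := A) (θ := θ) (q := q)
    refine ⟨hθ.1, Q, hQ.1.2.2.1, hQ.1.2.1, fun a ha ha1 => ?_⟩
    have hz : Subgroup.zpowers a ≤ A := Subgroup.zpowers_le.2 ha
    have hS := isSylowIn_inf_centralizer hA hA3 hθ hqp hz
      (by rwa [Ne, Subgroup.zpowers_eq_bot]) hQ
    have hinf : Cfsg.signalizerInf (Subgroup.zpowers a) θ = θ a := by
      refine le_antisymm (signalizerInf_le_theta (Subgroup.mem_zpowers a) ha1) fun x hx => ?_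
      refine Subgroup.mem_iInf.2 fun d => hθ.1.2.2.2 a ha ha1 d.1 (hz d.2.1) d.2.2 ⟨hx, ?_⟩
      rw [centralizer_eq_of_mem_zpowers hA ha d.2.1 d.2.2]
      exact hθ.1.1 a ha ha1 hx
    rw [hinf] at hS
    have hcz : Subgroup.centralizer (Subgroup.zpowers a : Set G) =
        Subgroup.centralizer ({a} : Set G) := by
      rw [Subgroup.zpowers_eq_closure, Subgroup.centralizer_closure]
    rw [hcz] at hS
    refine Subgroup.eq_of_le_of_card_ge hS.1 (le_of_eq ?_)
    obtain ⟨n, hn⟩ := IsPGroup.iff_card.1 (hq a ha ha1)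
    rw [hS.2, hn, Nat.Prime.factorization_pow (Fact.out : q.Prime), Finsupp.single_eq_same])

end Cfsg.Agent.S1285
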