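import Cfsg.Statements.S1286
import Mathlib.GroupTheory.Perm.Fin
import Mathlib.GroupTheory.Solvable

set_option autoImplicit false
open Cfsg

namespace Cfsg.Agent.S1286

/-- There exist a finite group X, an elementary abelian subgroup A of order 4 and a solvable A-signalizer functor θ on X for the prime 2 which is not complete. -/
theorem result : ∃ (X : Type) (_ : Group X) (_ : Finite X) (A : Subgroup X) (θ : X → Subgroup X), Cfsg.IsElementaryAbelian 2 A ∧ Nat.card ↥A = 4 ∧ Cfsg.IsSolvableSignalizerFunctor 2 A θ ∧ ¬ Cfsg.IsCompleteSignalizerFunctor 2 A θ := by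
  classical
  let a1 : Equiv.Perm (Fin 5) := Equiv.swap 0 1
  let a2 : Equiv.Perm (Fin 5) := Equiv.swap 2 3
  let c1 : Equiv.Perm (Fin 5) := Equiv.swap 2 3 * Equiv.swap 3 4
  let c2 : Equiv.Perm (Fin 5) := Equiv.swap 0 1 * Equiv.swap 1 4
  let A : Subgroup (Equiv.Perm (Fin 5)) :=
    { carrier := {g | g = 1 ∨ g = a1 ∨ g = a2 ∨ g = a1 * a2}
      one_mem' := Or.inl rfl
      mul_mem' := fun {x y} hx hy => by
        rcases hx with rfl | rfl | rfl | rfl <;> rcases hy with rfl | rfl | rfl | rfl <;>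
          simp only [Set.mem_setOf_eq] <;> decide
      inv_mem' := fun {x} hx => by
        rcases hx with rfl | rfl | rfl | rfl <;> simp only [Set.mem_setOf_eq] <;> decide }
  let θ : Equiv.Perm (Fin 5) → Subgroup (Equiv.Perm (Fin 5)) := fun x =>
    if x = a1 then Subgroup.zpowers c1 else if x = a2 then Subgroup.zpowers c2 else ⊥
  have hA : ∀ {x}, x ∈ A → x = 1 ∨ x = a1 ∨ x = a2 ∨ x = a1 * a2 := fun h => h
  have h3 : ∀ c : Equiv.Perm (Fin 5), c ^ 3 = 1 → c ≠ 1 → ∀ x ∈ Subgroup.zpowers c,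
      x = 1 ∨ x = c ∨ x = c * c := by
    intro c hc hc1 x hx
    obtain ⟨n, hn, rfl⟩ := Finset.mem_image.1 ((mem_zpowers_iff_mem_range_orderOf).1 hx)
    rw [orderOf_eq_prime hc hc1, Finset.mem_range] at hn
    interval_cases n
    · exact Or.inl (pow_zero c)
    · exact Or.inr (Or.inl (pow_one c))
    · exact Or.inr (Or.inr (pow_two c))
  have hθ : ∀ a x, x ∈ θ a → (x = 1) ∨ (a = a1 ∧ (x = c1 ∨ x = c1 * c1)) ∨ (a = a2 ∧ (x = c2 ∨ x = c2 * c2)) := by
    intro a x hx
    simp only [θ] at hx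
    split_ifs at hx with e1 e2
    · rcases h3 c1 (by decide) (by decide) x hx with h | h
      · exact Or.inl h
      · exact Or.inr (Or.inl ⟨e1, h⟩)
    · rcases h3 c2 (by decide) (by decide) x hx with h | h
      · exact Or.inl h
      · exact Or.inr (Or.inr ⟨e2, h⟩)
    · exact Or.inl (Subgroup.mem_bot.1 hx)
  have hcard : ∀ a, Nat.card (θ a) ∣ 3 := by
    intro a
    simp only [θ]
    split_ifs
    · rw [Nat.card_zpowers]; exact orderOf_dvd_of_pow_eq_one (by decide)
    · rw [Nat.card_zpowers]; exact orderOf_dvd_of_pow_eq_one (by decide)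
    · simp
  have hmem : ∀ a x, (a = a1 ∧ (x = c1 ∨ x = c1 * c1)) ∨ (a = a2 ∧ (x = c2 ∨ x = c2 * c2)) → x ∈ θ a := by
    rintro a x (⟨rfl, h⟩ | ⟨rfl, h⟩)
    · simp only [θ, if_true]
      rcases h with rfl | rfl
      exacts [Subgroup.mem_zpowers _, mul_mem (Subgroup.mem_zpowers _) (Subgroup.mem_zpowers _)]
    · simp only [θ, show a2 ≠ a1 by decide, if_true, if_false]
      rcases h with rfl | rfl
      exacts [Subgroup.mem_zpowers _, mul_mem (Subgroup.mem_zpowers _) (Subgroup.mem_zpowers _)]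
  have hsig : Cfsg.IsSignalizerFunctor 2 A θ := by
    refine ⟨fun a _ _ x hx => Subgroup.mem_centralizer_singleton_iff.2 ?_,
      fun a _ _ hd => absurd (hd.trans (hcard a)) (by norm_num), fun a ha ha1 b hb x hx => ?_,
      fun a ha ha1 b hb hb1 x hx => ?_⟩
    · rcases hθ a x hx with rfl | ⟨rfl, rfl | rfl⟩ | ⟨rfl, rfl | rfl⟩
      · simp
      all_goals decide
    · rcases hθ a x hx with rfl | ⟨rfl, rfl | rfl⟩ | ⟨rfl, rfl | rfl⟩
      · simp
      all_goals
        rcases hA hb with rfl | rfl | rfl | rfl <;>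
          (first | exact hmem _ _ (Or.inl ⟨rfl, Or.inl (by decide)⟩)
                 | exact hmem _ _ (Or.inl ⟨rfl, Or.inr (by decide)⟩)
                 | exact hmem _ _ (Or.inr ⟨rfl, Or.inl (by decide)⟩)
                 | exact hmem _ _ (Or.inr ⟨rfl, Or.inr (by decide)⟩))
    · obtain ⟨hx1, hx2⟩ := Subgroup.mem_inf.1 hx
      have hx3 := Subgroup.mem_centralizer_singleton_iff.1 hx2
      rcases hθ a x hx1 with rfl | ⟨rfl, rfl | rfl⟩ | ⟨rfl, rfl | rfl⟩
      · exact one_mem _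
      all_goals
        rcases hA hb with rfl | rfl | rfl | rfl <;>
          (first | exact absurd rfl hb1
                 | exact hx1
                 | exact absurd hx3 (by decide))
  refine ⟨Equiv.Perm (Fin 5), inferInstance, inferInstance, A, θ, ?_, ?_, ⟨hsig, fun a _ _ => ?_⟩, ?_⟩
  · refine ⟨⟨⟨fun x y => Subtype.ext ?_⟩⟩, fun x hx => ?_⟩
    · show (x : Equiv.Perm (Fin 5)) * y = y * x
      rcases hA x.2 with e | e | e | e <;> rcases hA y.2 with e' | e' | e' | e' <;> rw [e, e'] <;> decide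
    · rcases hA hx with rfl | rfl | rfl | rfl <;> decide
  · rw [Nat.card_eq_fintype_card,
      Fintype.card_of_subtype {1, a1, a2, a1 * a2} (fun x => by
        simp only [Finset.mem_insert, Finset.mem_singleton]; exact Iff.rfl)]
    decide
  · refine Group.isSolvable_of_comm fun x y => Subtype.ext ?_
    show (x : Equiv.Perm (Fin 5)) * y = y * x
    rcases hθ a _ x.2 with e | ⟨e0, e | e⟩ | ⟨e0, e | e⟩ <;>
      rcases hθ a _ y.2 with e' | ⟨e0', e' | e'⟩ | ⟨e0', e' | e'⟩ <;> rw [e, e'] <;>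
      (first | exact absurd (e0.symm.trans e0') (by decide) | simp | group)
  · rintro ⟨-, X, -, hX, hXθ⟩
    have h1 : c1 ∈ X ⊓ Subgroup.centralizer {a1} := by
      rw [hXθ a1 (Or.inr (Or.inl rfl)) (by decide)]; exact hmem _ _ (Or.inl ⟨rfl, Or.inl rfl⟩)
    have h2 : c2 ∈ X ⊓ Subgroup.centralizer {a2} := by
      rw [hXθ a2 (Or.inr (Or.inr (Or.inl rfl))) (by decide)]; exact hmem _ _ (Or.inr ⟨rfl, Or.inl rfl⟩)
    have hc1 := (Subgroup.mem_inf.1 h1).1
    have hc2 := (Subgroup.mem_inf.1 h2).1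
    have hw : c1 * c1 * c2 * c1 * c2 ∈ X :=
      mul_mem (mul_mem (mul_mem (mul_mem hc1 hc1) hc2) hc1) hc2
    refine hX ?_
    haveI : Fact (Nat.Prime 2) := ⟨Nat.prime_two⟩
    have ho : orderOf (c1 * c1 * c2 * c1 * c2) = 2 := orderOf_eq_prime (by decide) (by decide)
    exact ho ▸ Subgroup.orderOf_dvd_natCard X hw

end Cfsg.Agent.S1286
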