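import Cfsg.Statements.S1287
import Cfsg.Agent.Lib.Coprime.Action
import Cfsg.Agent.Lib.PGroup.Measure
import Mathlib

set_option autoImplicit false
open scoped Pointwise
open Cfsg

namespace Cfsg.Agent.S1287

open Subgroup CfsgLib.Coprime
open scoped commutatorElement

/-- The case of a `q`-group: products of fixed points of the nontrivial elements. -/
theorem qgroup_factor {H : Type*} [Group H] [Finite H] {q : ℕ} [Fact q.Prime] (A Q Q1 Q2 : Subgroup H)
    [IsMulCommutative A] (hA : ¬ IsCyclic A) (hQ : IsPGroup q Q) (hQ1 : Q1 ≤ Q) (hQ2 : Q2 ≤ Q)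
    (hAQ : A ≤ normalizer (Q : Set H)) (hcop : (Nat.card A).Coprime (Nat.card Q))
    (h : ∀ a ∈ A, a ≠ 1 → ∀ z ∈ Q ⊓ centralizer {a}, z ∈ (Q1 : Set H) * (Q2 : Set H)) :
    (Q : Set H) ⊆ (Q1 : Set H) * (Q2 : Set H) := by
  set N : ℕ → Subgroup H := fun k => Q.lowerCentralSeries k with hNdef
  have hNsucc : ∀ k, N (k + 1) ≤ N k := fun k => Q.lowerCentralSeries_antitone k.le_succ
  have hNQ : ∀ k, N k ≤ Q := fun k => Q.lowerCentralSeries_antitone k.zero_le
  have hNn : ∀ k, Q ≤ normalizer (N k : Set H) ∧ A ≤ normalizer (N k : Set H) := by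
    intro k
    induction k with
    | zero => exact ⟨le_normalizer, hAQ⟩
    | succ k ih =>
      have key : ∀ g : H, g ∈ normalizer (N k : Set H) → g ∈ normalizer (Q : Set H) →
          g ∈ normalizer (N (k + 1) : Set H) := by
        intro g h1 h2
        rw [mem_normalizer_iff_map_conj_eq] at h1 h2 ⊢
        show (⁅N k, Q⁆).map _ = ⁅N k, Q⁆
        rw [map_commutator, h1, h2]
      exact ⟨fun g hg => key g (ih.1 hg) (le_normalizer hg), fun g hg => key g (ih.2 hg) (hAQ hg)⟩
  -- `Q` lies in `Q1 (N k) Q2`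
  have main : ∀ k, ∀ z ∈ Q, ∃ x ∈ Q1, ∃ m ∈ N k, ∃ y ∈ Q2, z = x * m * y := by
    intro k
    induction k with
    | zero => exact fun z hz => ⟨1, one_mem _, z, hz, 1, one_mem _, by group⟩
    | succ k ih =>
      set M := N (k + 1) with hM
      have hMN : M ≤ N k := hNsucc k
      have hcomm : ∀ u ∈ N k, ∀ v ∈ Q, ⁅u, v⁆ ∈ M := fun u hu v hv => commutator_mem_commutator hu hv
      have hMQ : ∀ v ∈ Q, ∀ m ∈ M, v * m * v⁻¹ ∈ M := fun v hv m hm =>
        (Subgroup.mem_normalizer_iff.1 ((hNn (k + 1)).1 hv) m).1 hm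
      let T : Submonoid H :=
        { carrier := {n | n ∈ N k ∧ ∃ x ∈ Q1, ∃ m ∈ M, ∃ y ∈ Q2, n = x * m * y}
          one_mem' := ⟨one_mem _, 1, one_mem _, 1, one_mem _, 1, one_mem _, by group⟩
          mul_mem' := by
            rintro n n' ⟨hn, x, hx, m, hm, y, hy, rfl⟩ ⟨hn', x', hx', m', hm', y', hy', e⟩
            refine ⟨mul_mem hn hn', x * x', mul_mem hx hx', ?_⟩
            -- move `n'` past `y`
            have hc : ⁅y, n'⁆ ∈ M := by
              rw [← commutatorElement_inv]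
              exact inv_mem (hcomm _ hn' _ (hQ2 hy))
            have e2 : x * m * y * n' = x * x' * (x'⁻¹ * (m * ⁅y, n'⁆) * x' * m') * (y' * y) := by
              rw [commutatorElement_def, e]; group
            refine ⟨_, mul_mem ?_ hm', y' * y, mul_mem hy' hy, e2⟩
            have := hMQ x'⁻¹ (inv_mem (hQ1 hx')) _ (mul_mem hm hc)
            rwa [inv_inv] at this }
      let W : Subgroup H :=
        { T with
          inv_mem' := fun {n} hn => by
            have hn' : n ∈ T := hn
            show n⁻¹ ∈ T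
            obtain ⟨j, hj⟩ : ∃ j : ℕ, n⁻¹ = n ^ j := ⟨orderOf n - 1, by
              apply inv_eq_of_mul_eq_one_right
              rw [← pow_succ', Nat.sub_add_cancel (orderOf_pos n), pow_orderOf_eq_one]⟩
            rw [hj]; exact pow_mem hn' j }
      have hNW : N k ≤ W := by
        refine le_of_centralizers_le hA (hNn k).2
          (hcop.coprime_dvd_right (card_dvd_of_le (hNQ k))) fun a ha ha1 z hz => ?_
        obtain ⟨x, hx, y, hy, e⟩ := h a ha ha1 z ⟨hNQ k hz.1, hz.2⟩
        exact ⟨hz.1, x, hx, 1, one_mem _, y, hy, by rw [← e]; group⟩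
      intro z hz
      obtain ⟨x, hx, n, hn, y, hy, rfl⟩ := ih z hz
      obtain ⟨-, x', hx', m, hm, y', hy', rfl⟩ := hNW hn
      exact ⟨x * x', mul_mem hx hx', m, hm, y' * y, mul_mem hy' hy, by group⟩
  haveI : Group.IsNilpotent Q := hQ.isNilpotent
  obtain ⟨k, hk⟩ := (Subgroup.isNilpotent_iff_lowerCentralSeries Q).1 (inferInstance : Group.IsNilpotent Q)
  intro z hz
  obtain ⟨x, hx, m, hm, y, hy, rfl⟩ := main k z hz
  have hm1 : m ∈ (⊥ : Subgroup H) := hk ▸ hm
  rw [mem_bot] at hm1
  subst hm1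
  exact ⟨x, hx, y, hy, by group⟩

/-- Let A be a noncyclic elementary abelian p-subgroup of a finite group H normalizing a subgroup K of order prime to p, and X, Y ≤ K subgroups normalized by A with C_K(a) = C_X(a) C_Y(a) (as sets) for every non-identity a ∈ A, where X is also normalized by C_K(A). Then K = XY as sets. -/
theorem result {H : Type*} [Group H] [Finite H] (p : ℕ) [Fact p.Prime] (A K X Y : Subgroup H) (hA : Cfsg.IsElementaryAbelian p A) (hA2 : p ^ 2 ≤ Nat.card ↥A) (hK : ¬ p ∣ Nat.card ↥K) (hAK : A ≤ Subgroup.normalizer (K : Set H)) (hX : X ≤ K) (hY : Y ≤ K) (hAX : A ≤ Subgroup.normalizer (X : Set H)) (hAY : A ≤ Subgroup.normalizer (Y : Set H)) (hCX : K ⊓ Subgroup.centralizer (A : Set H) ≤ Subgroup.normalizer (X : Set H)) (hfac : ∀ a ∈ A, a ≠ 1 → ((K ⊓ Subgroup.centralizer {a} : Subgroup H) : Set H) = ((X ⊓ Subgroup.centralizer {a} : Subgroup H) : Set H) * ((Y ⊓ Subgroup.centralizer {a} : Subgroup H) : Set H)) : (K : Set H) = (X : Set H) * (Y : Set H) := by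
  obtain ⟨hAc, hexp⟩ := hA
  haveI := hAc
  have hp : p.Prime := Fact.out
  have hAp : IsPGroup p A := fun a => ⟨1, by rw [pow_one]; exact Subtype.ext (hexp a a.2)⟩
  have hncyc : ¬ IsCyclic A := by
    rintro ⟨g, hg⟩
    have h1 : orderOf g = Nat.card A := orderOf_eq_card_of_forall_mem_zpowers hg
    have h2 : orderOf g ∣ p := orderOf_dvd_of_pow_eq_one (Subtype.ext (hexp g g.2))
    have h3 := Nat.le_of_dvd hp.pos h2
    have h4 : p < p ^ 2 := by nlinarith [hp.two_le]
    omega
  have hcop : (Nat.card A).Coprime (Nat.card K) := by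
    obtain ⟨n, hn⟩ := IsPGroup.iff_card.1 hAp
    rw [hn]
    exact Nat.Coprime.pow_left _ (hp.coprime_iff_not_dvd.2 hK)
  have hsol : Group.IsSolvable A := isSolvable_of_isMulCommutative hAc
  set D := X ⊓ Y with hD
  have hAD : A ≤ normalizer (D : Set H) := inf_le_normalizer hAX hAY
  have hprod : Nat.card ↥((X : Set H) * (Y : Set H)) * Nat.card D = Nat.card X * Nat.card Y :=
    CfsgLib.CDLat.card_prod_mul_card_inf X Y
  have hsub : (X : Set H) * (Y : Set H) ⊆ (K : Set H) := by
    rintro _ ⟨x, hx, y, hy, rfl⟩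
    exact mul_mem (hX hx) (hY hy)
  -- the key divisibility
  have key : Nat.card K * Nat.card D ∣ Nat.card X * Nat.card Y := by
    rw [← Nat.factorization_le_iff_dvd (mul_ne_zero Nat.card_pos.ne' Nat.card_pos.ne')
      (mul_ne_zero Nat.card_pos.ne' Nat.card_pos.ne')]
    intro q
    by_cases hq : q.Prime
    swap
    · simp [Nat.factorization_eq_zero_of_not_prime _ hq]
    haveI := Fact.mk hq
    rw [Nat.factorization_mul Nat.card_pos.ne' Nat.card_pos.ne',
      Nat.factorization_mul Nat.card_pos.ne' Nat.card_pos.ne', Finsupp.add_apply, Finsupp.add_apply]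
    obtain ⟨R, hR, hRA⟩ := exists_invariant_sylow hAD
      (hcop.coprime_dvd_right (card_dvd_of_le (inf_le_left.trans hX))) (Or.inl hsol) q
    obtain ⟨QY, hQY, hRQY, hQYA⟩ := le_invariant_sylow hAY (hcop.coprime_dvd_right (card_dvd_of_le hY))
      (Or.inl hsol) (hR.1.trans inf_le_right) hR.isPGroup hRA
    obtain ⟨Q, hQ, hQYQ, hQA⟩ := le_invariant_sylow hAK hcop (Or.inl hsol)
      (hQY.1.trans hY) hQY.isPGroup hQYA
    obtain ⟨QX₀, hQX₀, hQX₀A⟩ := exists_invariant_sylow hAX
      (hcop.coprime_dvd_right (card_dvd_of_le hX)) (Or.inl hsol) q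
    obtain ⟨Q', hQ', hQXQ', hQ'A⟩ := le_invariant_sylow hAK hcop (Or.inl hsol)
      (hQX₀.1.trans hX) hQX₀.isPGroup hQX₀A
    obtain ⟨c, hc, hcQ⟩ := invariant_sylow_conj hAK hcop (Or.inl hsol) hQ' hQ hQ'A hQA
    have hQX := hQX₀.conjBy (hCX hc)
    set QX := CfsgLib.Coprime.conjBy c QX₀
    have hQXQ : QX ≤ Q := hcQ ▸ (map_mono hQXQ')
    -- orders of intersections
    have hle : ∀ (S T : Subgroup H), IsSylowIn q S T → ∀ U : Subgroup H, IsPGroup q U → U ≤ T →
        Nat.card U ≤ Nat.card S := by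
      intro S T hS U hU hUT
      obtain ⟨n, hn⟩ := IsPGroup.iff_card.1 hU
      rw [hn, hS.2]
      refine Nat.pow_le_pow_right hq.pos ?_
      exact (hq.pow_dvd_iff_le_factorization Nat.card_pos.ne').1 (hn ▸ card_dvd_of_le hUT)
    have hX1 : Q ⊓ X = QX := (Subgroup.eq_of_le_of_card_ge (le_inf hQXQ hQX.1)
      (hle _ _ hQX _ (hQ.isPGroup.to_le inf_le_left) inf_le_right)).symm
    have hY1 : Q ⊓ Y = QY := (Subgroup.eq_of_le_of_card_ge (le_inf hQYQ hQY.1)
      (hle _ _ hQY _ (hQ.isPGroup.to_le inf_le_left) inf_le_right)).symm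
    have hD1 : QX ⊓ QY = R := (Subgroup.eq_of_le_of_card_ge
      (le_inf (hX1 ▸ le_inf (hRQY.trans hQYQ) (hR.1.trans inf_le_left)) hRQY)
      (hle _ _ hR _ (hQX.isPGroup.to_le inf_le_left)
        (le_inf (inf_le_left.trans hQX.1) (inf_le_right.trans hQY.1)))).symm
    -- centralizers of elements
    have hQcov : (Q : Set H) ⊆ (QX : Set H) * (QY : Set H) := by
      refine qgroup_factor A Q QX QY hncyc hQ.isPGroup hQXQ hQYQ hQA
        (hcop.coprime_dvd_right (card_dvd_of_le hQ.1)) fun a ha ha1 => ?_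
      set B := Subgroup.zpowers a with hB
      have hBA : B ≤ A := zpowers_le.2 ha
      have hBcop := hcop.coprime_dvd_left (card_dvd_of_le hBA)
      have hBsol : Group.IsSolvable B := isSolvable_of_le hBA hsol
      have hCB : ∀ S : Subgroup H, S ⊓ centralizer (B : Set H) = S ⊓ centralizer {a} := fun S => by
        rw [hB, zpowers_eq_closure, centralizer_closure]
      -- Sylow subgroups of the centralizers
      have hsyl : ∀ (T S : Subgroup H), T ≤ K → A ≤ normalizer (T : Set H) → IsSylowIn q S T →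
          A ≤ normalizer (S : Set H) → IsSylowIn q (S ⊓ centralizer {a}) (T ⊓ centralizer {a}) := by
        intro T S hTK hAT hS hAS
        have hc' := hBcop.coprime_dvd_right (card_dvd_of_le hTK)
        have hBC : B ≤ normalizer ((T ⊓ centralizer (B : Set H) : Subgroup H) : Set H) :=
          inf_le_normalizer (hBA.trans hAT) (centralizer_le_normalizer_self B |>.trans le_rfl |> fun h =>
            (le_normalizer.trans (normalizer_le_normalizer_centralizer B)))
        obtain ⟨U, hU, hUB⟩ := exists_invariant_sylow hBC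
          (hc'.coprime_dvd_right (card_dvd_of_le inf_le_left)) (Or.inl hBsol) q
        obtain ⟨V, hV, hUV, hVB⟩ := le_invariant_sylow (hBA.trans hAT) hc' (Or.inl hBsol)
          (hU.1.trans inf_le_left) hU.isPGroup hUB
        obtain ⟨c, hc, hcV⟩ := invariant_sylow_conj (hBA.trans hAT) hc' (Or.inl hBsol) hV hS hVB
          (hBA.trans hAS)
        rw [← hCB, ← hCB]
        refine ⟨inf_le_inf_right _ hS.1, le_antisymm ?_ ?_⟩
        · rw [← hU.2]
          exact hle _ _ hU _ (hS.isPGroup.to_le inf_le_left) (inf_le_inf_right _ hS.1)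
        · rw [← hU.2, ← card_conjBy c U]
          refine Nat.le_of_dvd Nat.card_pos (card_dvd_of_le ?_)
          intro z hz
          obtain ⟨u, hu, rfl⟩ := hz
          refine ⟨hcV ▸ mem_map_of_mem _ (hUV hu), ?_⟩
          show c * u * c⁻¹ ∈ centralizer (B : Set H)
          exact mul_mem (mul_mem hc.2 (hU.1 hu).2) (inv_mem hc.2)
      have sK := hsyl K Q le_rfl hAK hQ hQA
      have sX := hsyl X QX hX hAX hQX (hX1 ▸ inf_le_normalizer hQA hAX)
      have sY := hsyl Y QY hY hAY hQY hQYA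
      have sD := hsyl D R (inf_le_left.trans hX) hAD hR hRA
      -- orders
      have e1 := CfsgLib.CDLat.card_prod_mul_card_inf (X ⊓ centralizer {a}) (Y ⊓ centralizer {a})
      rw [← hfac a ha ha1, SetLike.coe_sort_coe, ← inf_inf_distrib_right, ← hD] at e1
      have e2 := CfsgLib.CDLat.card_prod_mul_card_inf (QX ⊓ centralizer {a}) (QY ⊓ centralizer {a})
      rw [← inf_inf_distrib_right, hD1, sD.2, sX.2, sY.2] at e2
      have e3 := congrArg (fun n : ℕ => n.factorization q) e1
      simp only [Nat.factorization_mul Nat.card_pos.ne' Nat.card_pos.ne', Finsupp.add_apply] at e3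
      rw [← pow_add, ← e3, pow_add, ← sK.2] at e2
      have e4 := Nat.eq_of_mul_eq_mul_right (pow_pos hq.pos _) e2
      have hs : ((QX ⊓ centralizer {a} : Subgroup H) : Set H) * ((QY ⊓ centralizer {a} : Subgroup H) : Set H)
          ⊆ ((Q ⊓ centralizer {a} : Subgroup H) : Set H) := by
        rintro _ ⟨x, hx, y, hy, rfl⟩
        exact mul_mem (inf_le_inf_right _ hQXQ hx) (inf_le_inf_right _ hQYQ hy)
      have hs' := Set.eq_of_subset_of_ncard_le hs (le_of_eq (by
        rw [← Nat.card_coe_set_eq, ← Nat.card_coe_set_eq, SetLike.coe_sort_coe, e4]))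
      intro z hz
      have hz' : z ∈ ((Q ⊓ centralizer {a} : Subgroup H) : Set H) := hz
      rw [← hs'] at hz'
      obtain ⟨x, hx, y, hy, rfl⟩ := hz'
      exact ⟨x, hx.1, y, hy.1, rfl⟩
    have e := CfsgLib.CDLat.card_prod_mul_card_inf QX QY
    rw [hD1] at e
    have hcard : Nat.card Q ≤ Nat.card ↥((QX : Set H) * (QY : Set H)) :=
      Nat.card_mono (Set.toFinite _) hQcov
    have e5 : Nat.card Q * Nat.card R ≤ Nat.card QX * Nat.card QY :=
      (Nat.mul_le_mul_right _ hcard).trans e.le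
    rw [hQ.2, hR.2, hQX.2, hQY.2, ← pow_add, ← pow_add] at e5
    exact (Nat.pow_le_pow_iff_right hq.one_lt).1 e5
  have h1 := Nat.le_of_dvd (Nat.mul_pos Nat.card_pos Nat.card_pos) key
  rw [← hprod] at h1
  refine (Set.eq_of_subset_of_ncard_le hsub ?_).symm
  rw [← Nat.card_coe_set_eq, ← Nat.card_coe_set_eq, SetLike.coe_sort_coe]
  exact Nat.le_of_mul_le_mul_right h1 Nat.card_pos

end Cfsg.Agent.S1287
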