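import Cfsg.Statements.S1288
import Cfsg.Agent.Lib.Coprime.Hyperplanes
import Cfsg.Agent.Lib.Coprime.Solvable
import Cfsg.Agent.Lib.Coprime.PConstrained

set_option autoImplicit false
open Cfsg

namespace Cfsg.Agent.S1288

open scoped commutatorElement

/-- Let A be a noncyclic elementary abelian p-subgroup of a finite group H normalizing a solvable subgroup K of order prime to p, q a prime dividing |K|, and U ≤ K a subgroup of order prime to q such that ⁅U, C_K(B)⁆ has order prime to q for every subgroup B of index p in A. Then U ≤ O_{q'}(K). -/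
theorem result {H : Type*} [Group H] [Finite H] (p : ℕ) [Fact p.Prime] (A K : Subgroup H) (hA : Cfsg.IsElementaryAbelian p A) (hA2 : p ^ 2 ≤ Nat.card ↥A) (hK : ¬ p ∣ Nat.card ↥K) (hKs : Group.IsSolvable ↥K) (hAK : A ≤ Subgroup.normalizer (K : Set H)) (q : ℕ) [Fact q.Prime] (hqK : q ∣ Nat.card ↥K) (U : Subgroup H) (hU : U ≤ K) (hUq : ¬ q ∣ Nat.card ↥U) (hcomm : ∀ B : Subgroup H, B ≤ A → B.relIndex A = p → ¬ q ∣ Nat.card ↥⁅U, K ⊓ Subgroup.centralizer (B : Set H)⁆) : U ≤ (Cfsg.pPrimeCore q ↥K).map K.subtype := by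
  have hq : q.Prime := Fact.out
  haveI := hKs
  set O := Cfsg.pPrimeCore q ↥K with hO
  haveI : O.Normal := Subgroup.sSup_normal _ fun _ h => h.1
  have hOc : ¬ q ∣ Nat.card O := CfsgLib.Coprime.pPrimeCore_not_dvd hq
  set π := QuotientGroup.mk' O with hπ
  have hπs := QuotientGroup.mk'_surjective O
  set V := Cfsg.pCore q (↥K ⧸ O) with hV
  have hVp : IsPGroup q V := CfsgLib.Coprime.pCore_isPGroup q
  set P := V.comap π with hP
  set PK := P.map K.subtype with hPK
  have hPKK : PK ≤ K := Subgroup.map_subtype_le P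
  -- invariance of `P`
  have hPchar : ∀ φ : ↥K ≃* ↥K, ∀ y ∈ P, φ y ∈ P := by
    intro φ y hy
    set φb := QuotientGroup.congr O O φ (CfsgLib.Coprime.map_pPrimeCore_equiv φ q)
    have h1 : φb (π y) ∈ V :=
      (CfsgLib.Coprime.map_pCore_equiv φb q).le (Subgroup.mem_map_of_mem _ hy)
    exact h1
  have hAP : A ≤ Subgroup.normalizer (PK : Set H) := by
    have h : ∀ a ∈ A, ∀ z ∈ PK, a * z * a⁻¹ ∈ PK := by
      rintro a ha _ ⟨z, hz, rfl⟩
      exact ⟨K.normalizerMonoidHom ⟨a, hAK ha⟩ z, hPchar _ z hz, rfl⟩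
    exact fun a ha => Subgroup.mem_normalizer_iff.2 fun z => ⟨h a ha z, fun hz => by
      have := h _ (A.inv_mem ha) _ hz
      rwa [show a⁻¹ * (a * z * a⁻¹) * a⁻¹⁻¹ = z by group] at this⟩
  have hAp : IsPGroup p A := fun a => ⟨1, by rw [pow_one]; exact Subtype.ext (hA.2 a a.2)⟩
  have hcop : (Nat.card A).Coprime (Nat.card PK) := by
    obtain ⟨k, hk⟩ := IsPGroup.iff_card.1 hAp
    rw [hk]
    exact ((Fact.out (p := p.Prime)).coprime_iff_not_dvd.2 fun h =>
      hK (h.trans (Subgroup.card_dvd_of_le hPKK))).pow_left k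
  haveI := hA.1
  obtain ⟨Q, hQ, hAQ⟩ := CfsgLib.Coprime.exists_invariant_sylow hAP hcop
    (Or.inl (CfsgLib.Coprime.isSolvable_of_isMulCommutative inferInstance)) q
  -- the subgroup centralizing `U` modulo `O`
  set UK := U.subgroupOf K with hUK
  set C := (Subgroup.centralizer ((UK.map π : Subgroup (↥K ⧸ O)) : Set (↥K ⧸ O))).comap π with hC
  have hQC : Q ≤ C.map K.subtype := by
    refine CfsgLib.Coprime.le_of_hyperplanes hA hA2
      (fun h => hK (h.trans (Subgroup.card_dvd_of_le (hQ.1.trans hPKK)))) hAQ fun B hB hBi => ?_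
    rintro x ⟨hxQ, hxB⟩
    obtain ⟨y, hy, rfl⟩ := hQ.1 hxQ
    refine ⟨y, Subgroup.mem_centralizer_iff.2 ?_, rfl⟩
    rintro _ ⟨u, hu, rfl⟩
    have hmem : ⁅(u : H), (y : H)⁆ ∈ ⁅U, K ⊓ Subgroup.centralizer (B : Set H)⁆ :=
      Subgroup.commutator_mem_commutator hu ⟨y.2, hxB⟩
    have hq' : (orderOf ⁅u, y⁆).Coprime q := by
      rw [← orderOf_injective K.subtype K.subtype_injective, map_commutatorElement]
      exact Nat.Coprime.coprime_dvd_left (Subgroup.orderOf_dvd_natCard _ hmem)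
        (hq.coprime_iff_not_dvd.2 (hcomm B hB hBi)).symm
    have hV' : π ⁅u, y⁆ ∈ V := by
      haveI := CfsgLib.Coprime.pCore_normal' (G := ↥K ⧸ O) q
      rw [map_commutatorElement, commutatorElement_def]
      exact V.mul_mem ((inferInstance : V.Normal).conj_mem _ hy _) (V.inv_mem hy)
    obtain ⟨k, hk⟩ := IsPGroup.iff_orderOf.1 hVp ⟨_, hV'⟩
    rw [Subgroup.orderOf_mk] at hk
    have h1 : π ⁅u, y⁆ = 1 := orderOf_eq_one_iff.1 (Nat.eq_one_of_dvd_coprimes (hq'.pow_right k)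
      (orderOf_map_dvd π _) hk.dvd)
    rw [map_commutatorElement, commutatorElement_eq_one_iff_mul_comm] at h1
    exact h1
  -- hence `P` centralizes `U` modulo `O`
  have hPC : P ≤ C := by
    have hOC : O ≤ P ⊓ C := fun o ho => by
      have h1 : π o = 1 := (QuotientGroup.eq_one_iff o).2 ho
      refine ⟨show π o ∈ V from h1 ▸ V.one_mem, ?_⟩
      show π o ∈ Subgroup.centralizer ((UK.map π : Subgroup (↥K ⧸ O)) : Set (↥K ⧸ O))
      rw [h1]; exact one_mem _
    have hQ' : Q.subgroupOf K ≤ P ⊓ C := fun x hx => by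
      obtain ⟨y, hy, hxy⟩ := hQ.1 (Subgroup.mem_subgroupOf.1 hx)
      obtain ⟨z, hz, hxz⟩ := hQC (Subgroup.mem_subgroupOf.1 hx)
      rw [K.subtype_injective hxy] at hy
      rw [K.subtype_injective hxz] at hz
      exact ⟨hy, hz⟩
    obtain ⟨n, hn⟩ := IsPGroup.iff_card.1 hVp
    have hcardP : Nat.card P = Nat.card O * q ^ n := by
      rw [CfsgLib.Coprime.card_eq_card_mul_card_map_mk' O (hOC.trans inf_le_left), ← hn, hP]
      rw [Subgroup.map_comap_eq_self_of_surjective hπs]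
    have hdvd : Nat.card P ∣ Nat.card ↥(P ⊓ C) := by
      rw [hcardP]
      refine Nat.Coprime.mul_dvd_of_dvd_of_dvd ((hq.coprime_iff_not_dvd.2 hOc).symm.pow_right n)
        (Subgroup.card_dvd_of_le hOC) (dvd_trans ?_ (Subgroup.card_dvd_of_le hQ'))
      rw [Nat.card_congr (Subgroup.subgroupOfEquivOfLe (hQ.1.trans hPKK)).toEquiv, hQ.2, hPK,
        Subgroup.card_map_of_injective K.subtype_injective, hcardP]
      exact (hq.pow_dvd_iff_le_factorization (by rw [← hcardP]; exact Nat.card_pos.ne')).1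
        (dvd_mul_left _ _) |> pow_dvd_pow q
    exact (Subgroup.eq_of_le_of_card_ge (inf_le_left : P ⊓ C ≤ P)
      (Nat.le_of_dvd Nat.card_pos hdvd)).ge.trans inf_le_right
  -- conclude
  intro u hu
  refine ⟨⟨u, hU hu⟩, ?_, rfl⟩
  set uq : ↥K := ⟨u, hU hu⟩
  have hmem : π uq ∈ UK.map π := Subgroup.mem_map_of_mem _ (Subgroup.mem_subgroupOf.2 hu)
  have hcen : π uq ∈ Subgroup.centralizer (V : Set (↥K ⧸ O)) := Subgroup.mem_centralizer_iff.2
    fun v hv => by
      obtain ⟨y, rfl⟩ := hπs v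
      exact (Subgroup.mem_centralizer_iff.1 (hPC hv) _ hmem).symm
  have huV : π uq ∈ V := CfsgLib.Coprime.centralizer_pCore_le
    (CfsgLib.Coprime.pPrimeCore_quotient_eq_bot hq) hcen
  obtain ⟨k, hk⟩ := IsPGroup.iff_orderOf.1 hVp ⟨_, huV⟩
  rw [Subgroup.orderOf_mk] at hk
  refine (QuotientGroup.eq_one_iff uq).1 (show π uq = 1 from orderOf_eq_one_iff.1
    (Nat.eq_one_of_dvd_coprimes ((hq.coprime_iff_not_dvd.2 hUq).symm.pow_right k)
      ((orderOf_map_dvd π uq).trans ?_) hk.dvd))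
  rw [Subgroup.orderOf_mk]
  exact Subgroup.orderOf_dvd_natCard _ hu
end Cfsg.Agent.S1288
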