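import Cfsg.Statements.S1289
import Cfsg.Agent.Lib.Coprime.PComponent

set_option autoImplicit false
open Cfsg

namespace Cfsg.Agent.S1289

/-- A p-component K of the finite group X is subnormal, perfect, of order divisible by p, and minimal among the subnormal perfect subgroups of X of order divisible by p. -/
theorem result {X : Type*} [Group X] [Finite X] (p : ℕ) [Fact p.Prime] (K : Subgroup X) (hK : Cfsg.IsPComponent p K) : K.IsSubnormal ∧ ⁅K, K⁆ = K ∧ p ∣ Nat.card ↥K ∧ ∀ H : Subgroup X, H ≤ K → H.IsSubnormal → ⁅H, H⁆ = H → p ∣ Nat.card ↥H → H = K := by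
  refine ⟨hK.1, CfsgLib.Coprime.commutator_self_pComponent hK,
    CfsgLib.Coprime.dvd_card_pComponent hK, fun H hle hH hperf hd => ?_⟩
  obtain ⟨f, hf⟩ : ∃ f, f = QuotientGroup.mk' (Cfsg.pPrimeCore p X) := ⟨_, rfl⟩
  have hcomp := hK.2.1
  rw [← hf] at hcomp
  have hfs : Function.Surjective f := hf ▸ QuotientGroup.mk'_surjective _
  rcases CfsgLib.Coprime.eq_or_le_center_of_le_component hcomp (hH.map hfs)
    (Subgroup.map_mono hle) with h | h
  · exact hK.2.2 H hH hle (hf ▸ h)
  · exfalso
    have h1 : ⁅H.map f, H.map f⁆ = ⊥ := by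
      rw [eq_bot_iff]
      refine (Subgroup.commutator_mono le_rfl (Subgroup.map_mono hle)).trans (le_of_eq ?_)
      rw [Subgroup.commutator_eq_bot_iff_le_centralizer]
      exact CfsgLib.Coprime.subgroupOf_le_center (Subgroup.map_mono hle) h
    rw [← Subgroup.map_commutator, hperf, Subgroup.map_eq_bot_iff, hf, QuotientGroup.ker_mk'] at h1
    exact CfsgLib.Coprime.pPrimeCore_not_dvd (Fact.out : p.Prime)
      (hd.trans (Subgroup.card_dvd_of_le h1))

end Cfsg.Agent.S1289
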