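import Cfsg.Statements.S1292
import Cfsg.Agent.Lib.PGroup.CharPLocal

set_option autoImplicit false
open Cfsg

namespace Cfsg.Agent.S1292

/-- Let G be a finite group such that F*(C_G(t)) = O_2(C_G(t)) for every involution t. Then F*(N_G(T)) = O_2(N_G(T)) for every nontrivial 2-subgroup T of G. -/
theorem result {G : Type*} [Group G] [Finite G] (h : ∀ t : G, orderOf t = 2 → Cfsg.generalizedFittingSubgroup ↥(Subgroup.centralizer ({t} : Set G)) = Cfsg.pCore 2 ↥(Subgroup.centralizer ({t} : Set G))) (T : Subgroup G) (hT : IsPGroup 2 ↥T) (hT1 : T ≠ ⊥) : Cfsg.generalizedFittingSubgroup ↥(Subgroup.normalizer (T : Set G)) = Cfsg.pCore 2 ↥(Subgroup.normalizer (T : Set G)) := by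
  obtain ⟨k, hk⟩ := IsPGroup.iff_card.1 hT
  have h2 : 2 ∣ Nat.card T := by
    rcases k with _ | k
    · exact absurd (Subgroup.eq_bot_of_card_eq T (by simpa using hk)) hT1
    · exact hk ▸ dvd_pow_self 2 k.succ_ne_zero
  obtain ⟨z, hz⟩ := exists_prime_orderOf_dvd_card' 2 h2
  rw [← Subgroup.orderOf_coe] at hz
  exact CfsgLib.CharPLoc.fStar_eq_pCore_iff.2 (CfsgLib.CharPLoc.pClean_normalizer_of_central hT z.2
    (CfsgLib.CharPLoc.fStar_eq_pCore_iff.1 (h _ hz)))
end Cfsg.Agent.S1292
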