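import Cfsg.Statements.S1294
import Cfsg.Agent.Lib.SolvSignalizer.Main
import Cfsg.Agent.Lib.Coprime.LBalance.Cores

set_option autoImplicit false
open Cfsg

namespace Cfsg.Agent.S1294

/-- A point lies in an elementary abelian subgroup of order at least `p ^ 3`. -/
theorem exists_big {G : Type*} [Group G] [Finite G] {p : ℕ} [Fact p.Prime] {E : Subgroup G}
    (hE : Cfsg.IsElementaryAbelian p E)
    (hr : ¬ Cfsg.PRankLE p 2 ↥(Subgroup.centralizer (E : Set G))) :
    ∃ B : Subgroup G, E ≤ B ∧ Cfsg.IsElementaryAbelian p B ∧ p ^ 3 ≤ Nat.card B := by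
  obtain ⟨A', hA'c, hA'e, hA'card⟩ : ∃ A' : Subgroup ↥(Subgroup.centralizer (E : Set G)),
      IsMulCommutative A' ∧ (∀ a ∈ A', a ^ p = 1) ∧ p ^ 2 < Nat.card A' := by
    by_contra hc
    push Not at hc
    exact hr fun A' h1 h2 => hc A' h1 h2
  set A₀ := A'.map (Subgroup.centralizer (E : Set G)).subtype with hA₀
  have hA₀e : Cfsg.IsElementaryAbelian p A₀ := by
    refine ⟨⟨⟨?_⟩⟩, ?_⟩
    · rintro ⟨_, a, ha, rfl⟩ ⟨_, b, hb, rfl⟩
      refine Subtype.ext ?_
      show (a : G) * b = b * a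
      exact congrArg Subtype.val (congrArg Subtype.val (hA'c.is_comm.comm (⟨a, ha⟩ : A') ⟨b, hb⟩))
    · rintro _ ⟨a, ha, rfl⟩
      exact congrArg Subtype.val (hA'e a ha)
  have hcomm : ∀ a ∈ E, ∀ b ∈ A₀, a * b = b * a := fun a ha b hb =>
    Subgroup.mem_centralizer_iff.1 (Subgroup.map_subtype_le A' hb) a ha
  have hBe := CfsgLib.EABasic.isElementaryAbelian_sup hE hA₀e hcomm
  refine ⟨E ⊔ A₀, le_sup_left, hBe, ?_⟩
  obtain ⟨k, hk⟩ := IsPGroup.iff_card.1 (CfsgLib.EABasic.isPGroup_of_isElementaryAbelian hA₀e)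
  have hlt : p ^ 2 < p ^ k := by
    rw [← hk, hA₀, Subgroup.card_map_of_injective (Subgroup.subtype_injective _)]
    exact hA'card
  calc p ^ 3 ≤ p ^ k := Nat.pow_le_pow_right (Fact.out : p.Prime).pos
        ((Nat.pow_lt_pow_iff_right (Fact.out : p.Prime).one_lt).1 hlt)
    _ = Nat.card A₀ := hk.symm
    _ ≤ _ := Subgroup.card_le_of_le le_sup_right

/-- The statement. -/
theorem aux {G : Type*} [Group G] [Finite G] (p : ℕ) [Fact p.Prime]
    (hO : Cfsg.pPrimeCore p G = ⊥) (hconn : Cfsg.IsRankGraphConnected p 2 G) (θ : G → Subgroup G)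
    (hC : ∀ a : G, (orderOf a = p ∧ ¬ Cfsg.PRankLE p 2 ↥(Subgroup.centralizer ({a} : Set G))) →
      θ a ≤ Subgroup.centralizer ({a} : Set G) ∧ ¬ p ∣ Nat.card ↥(θ a) ∧ Group.IsSolvable ↥(θ a))
    (heq : ∀ a g : G, (orderOf a = p ∧ ¬ Cfsg.PRankLE p 2 ↥(Subgroup.centralizer ({a} : Set G))) →
      θ (g * a * g⁻¹) = (θ a).map (MulAut.conj g).toMonoidHom)
    (hbal : ∀ a b : G, (orderOf a = p ∧ ¬ Cfsg.PRankLE p 2 ↥(Subgroup.centralizer ({a} : Set G))) →
      (orderOf b = p ∧ ¬ Cfsg.PRankLE p 2 ↥(Subgroup.centralizer ({b} : Set G))) →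
      a * b = b * a → θ a ⊓ Subgroup.centralizer {b} ≤ θ b)
    (a : G) (ha : orderOf a = p ∧ ¬ Cfsg.PRankLE p 2 ↥(Subgroup.centralizer ({a} : Set G))) :
    θ a = ⊥ := by
  classical
  have hp : p.Prime := Fact.out
  -- points of a big elementary subgroup
  have hbig : ∀ {B : Subgroup G}, Cfsg.IsElementaryAbelian p B → p ^ 3 ≤ Nat.card B →
      ∀ x ∈ B, x ≠ 1 → orderOf x = p ∧ ¬ Cfsg.PRankLE p 2 ↥(Subgroup.centralizer ({x} : Set G)) := by
    intro B hB hB3 x hx hx1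
    refine ⟨orderOf_eq_prime (hB.2 x hx) hx1, fun hr => ?_⟩
    have hle : B ≤ Subgroup.centralizer ({x} : Set G) := fun y hy =>
      Subgroup.mem_centralizer_singleton_iff.2 (CfsgLib.EABasic.comm_of_isElementaryAbelian hB hy hx)
    have h1 := hr (B.subgroupOf (Subgroup.centralizer ({x} : Set G)))
      ⟨⟨fun s t => Subtype.ext (Subtype.ext (CfsgLib.EABasic.comm_of_isElementaryAbelian hB s.2 t.2))⟩⟩
      fun s hs => Subtype.ext (hB.2 _ hs)
    rw [Nat.card_congr (Subgroup.subgroupOfEquivOfLe hle).toEquiv] at h1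
    exact absurd (hB3.trans h1) (not_le.2 (Nat.pow_lt_pow_right hp.one_lt (by norm_num)))
  -- the functor on a big subgroup
  have hfun : ∀ {B : Subgroup G}, Cfsg.IsElementaryAbelian p B → p ^ 3 ≤ Nat.card B →
      Cfsg.IsSolvableSignalizerFunctor p B θ := by
    intro B hB hB3
    refine ⟨⟨fun x hx hx1 => (hC x (hbig hB hB3 x hx hx1)).1,
      fun x hx hx1 => (hC x (hbig hB hB3 x hx hx1)).2.1, fun x hx hx1 b hb y hy => ?_,
      fun x hx hx1 b hb hb1 => hbal x b (hbig hB hB3 x hx hx1) (hbig hB hB3 b hb hb1)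
        (CfsgLib.EABasic.comm_of_isElementaryAbelian hB hx hb)⟩,
      fun x hx hx1 => (hC x (hbig hB hB3 x hx hx1)).2.2⟩
    have h1 := heq x b (hbig hB hB3 x hx hx1)
    rw [show b * x * b⁻¹ = x by
      rw [CfsgLib.EABasic.comm_of_isElementaryAbelian hB hb hx, mul_inv_cancel_right]] at h1
    rw [h1]
    exact ⟨y, hy, rfl⟩
  set W : Subgroup G → Subgroup G := fun E => ⨆ e : {e : G // e ∈ E ∧ e ≠ 1}, θ (e : G) with hW
  -- a noncyclic subgroup of a big one gives the same closure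
  have hsub : ∀ {E B : Subgroup G}, Cfsg.IsElementaryAbelian p E → p ^ 2 ≤ Nat.card E →
      Cfsg.IsElementaryAbelian p B → p ^ 3 ≤ Nat.card B → E ≤ B →
      W E = W B ∧ ¬ p ∣ Nat.card (W B) := by
    intro E B hE hE2 hB hB3 hEB
    have hθ := hfun hB hB3
    obtain ⟨X, hX, hXθ⟩ := CfsgLib.SolvSignalizer.exists_complete hB hB3 hθ
    have hWX : W B ≤ X := iSup_le fun e => hXθ e e.2.1 e.2.2
    refine ⟨le_antisymm (iSup_le fun e =>
      le_iSup (fun e : {e : G // e ∈ B ∧ e ≠ 1} => θ (e : G)) ⟨e, hEB e.2.1, e.2.2⟩)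
      (iSup_le fun b => ?_), fun hd => hX.2.1 (hd.trans (Subgroup.card_dvd_of_le hWX))⟩
    refine CfsgLib.SolvSignalizer.le_of_fixed_points hE hE2
      (hEB.trans (CfsgLib.Invol.family_normalizer (CfsgLib.Invol.theta_mem_family hθ b.2.1 b.2.2)))
      (hθ.1.2.1 b b.2.1 b.2.2) fun e he he1 => ?_
    exact (hθ.1.2.2.2 b b.2.1 b.2.2 e (hEB he) he1).trans
      (le_iSup (fun e : {e : G // e ∈ E ∧ e ≠ 1} => θ (e : G)) ⟨e, he, he1⟩)
  -- the closure is constant on the graph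
  have hstep : ∀ {E E' : Subgroup G}, Cfsg.IsRankGraphVertex p 2 E → Cfsg.IsRankGraphVertex p 2 E' →
      (∀ x ∈ E, ∀ y ∈ E', x * y = y * x) → W E = W E' := by
    intro E E' hE hE' hc
    have hB := CfsgLib.EABasic.isElementaryAbelian_sup hE.1 hE'.1 hc
    obtain ⟨k, hk⟩ := IsPGroup.iff_card.1 (CfsgLib.EABasic.isPGroup_of_isElementaryAbelian hB)
    rcases Nat.lt_or_ge k 3 with hk3 | hk3
    · have hle : Nat.card (E ⊔ E' : Subgroup G) ≤ p ^ 2 :=
        hk ▸ Nat.pow_le_pow_right hp.pos (by omega)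
      rw [Subgroup.eq_of_le_of_card_ge (le_sup_left : E ≤ E ⊔ E') (hle.trans hE.2.1),
        ← Subgroup.eq_of_le_of_card_ge (le_sup_right : E' ≤ E ⊔ E') (hle.trans hE'.2.1)]
    · have h3 : p ^ 3 ≤ Nat.card (E ⊔ E' : Subgroup G) := hk ▸ Nat.pow_le_pow_right hp.pos hk3
      rw [(hsub hE.1 hE.2.1 hB h3 le_sup_left).1, (hsub hE'.1 hE'.2.1 hB h3 le_sup_right).1]
  -- a vertex through `a`
  have hza : Cfsg.IsElementaryAbelian p (Subgroup.zpowers a) := ⟨inferInstance, fun x hx => by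
    obtain ⟨i, rfl⟩ := hx
    show (a ^ i) ^ p = 1
    rw [← zpow_natCast, ← zpow_mul, mul_comm, zpow_mul, zpow_natCast, ← ha.1, pow_orderOf_eq_one,
      one_zpow]⟩
  obtain ⟨B, haB, hB, hB3⟩ := exists_big hza (by
    rw [CfsgLib.Coprime.centralizer_zpowers_eq]; exact ha.2)
  have hBv : Cfsg.IsRankGraphVertex p 2 B := by
    refine ⟨hB, le_trans (Nat.pow_le_pow_right hp.pos (by norm_num)) hB3, fun hr => ?_⟩
    have hle : B ≤ Subgroup.centralizer (B : Set G) := fun y hy =>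
      Subgroup.mem_centralizer_iff.2 fun z hz => CfsgLib.EABasic.comm_of_isElementaryAbelian hB hz hy
    have h1 := hr (B.subgroupOf (Subgroup.centralizer (B : Set G)))
      ⟨⟨fun s t => Subtype.ext (Subtype.ext (CfsgLib.EABasic.comm_of_isElementaryAbelian hB s.2 t.2))⟩⟩
      fun s hs => Subtype.ext (hB.2 _ hs)
    rw [Nat.card_congr (Subgroup.subgroupOfEquivOfLe hle).toEquiv] at h1
    exact absurd (hB3.trans h1) (not_le.2 (Nat.pow_lt_pow_right hp.one_lt (by norm_num)))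
  have hWp : ¬ p ∣ Nat.card (W B) := (hsub hB hBv.2.1 hB hB3 le_rfl).2
  have hconst : ∀ E, Cfsg.IsRankGraphVertex p 2 E → W B = W E := by
    intro E hE
    have h1 := hconn B E hBv hE
    clear hE
    induction h1 with
    | refl => rfl
    | tail _ hlast ihh => exact ihh.trans (hstep hlast.1 hlast.2.1 hlast.2.2)
  -- it is normal
  have hconj : ∀ g : G, (W B).map (MulAut.conj g).toMonoidHom = W B := by
    intro g
    set B' := B.map (MulAut.conj g).toMonoidHom with hB'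
    have hB'e : Cfsg.IsElementaryAbelian p B' := by
      refine ⟨⟨⟨?_⟩⟩, ?_⟩
      · rintro ⟨_, s, hs, rfl⟩ ⟨_, t, ht, rfl⟩
        refine Subtype.ext ?_
        show MulAut.conj g s * MulAut.conj g t = MulAut.conj g t * MulAut.conj g s
        rw [← map_mul, ← map_mul, CfsgLib.EABasic.comm_of_isElementaryAbelian hB hs ht]
      · rintro _ ⟨s, hs, rfl⟩
        rw [← map_pow, hB.2 s hs, map_one]
    have hB'3 : p ^ 3 ≤ Nat.card B' := by
      rwa [hB', Subgroup.card_map_of_injective (MulAut.conj g).injective]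
    have hv : Cfsg.IsRankGraphVertex p 2 B' := by
      refine ⟨hB'e, le_trans (Nat.pow_le_pow_right hp.pos (by norm_num)) hB'3, fun hr => ?_⟩
      have hle : B' ≤ Subgroup.centralizer (B' : Set G) := fun y hy =>
        Subgroup.mem_centralizer_iff.2 fun z hz =>
          CfsgLib.EABasic.comm_of_isElementaryAbelian hB'e hz hy
      have h1 := hr (B'.subgroupOf (Subgroup.centralizer (B' : Set G)))
        ⟨⟨fun s t => Subtype.ext (Subtype.ext
          (CfsgLib.EABasic.comm_of_isElementaryAbelian hB'e s.2 t.2))⟩⟩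
        fun s hs => Subtype.ext (hB'e.2 _ hs)
      rw [Nat.card_congr (Subgroup.subgroupOfEquivOfLe hle).toEquiv] at h1
      exact absurd (hB'3.trans h1) (not_le.2 (Nat.pow_lt_pow_right hp.one_lt (by norm_num)))
    refine (Subgroup.eq_of_le_of_card_ge ?_ ?_)
    · rw [hW, Subgroup.map_iSup]
      refine iSup_le fun e => ?_
      refine le_trans ?_ (hconst B' hv).ge
      rw [← heq _ g (hbig hB hB3 _ e.2.1 e.2.2)]
      exact le_iSup (fun e : {e : G // e ∈ B' ∧ e ≠ 1} => θ (e : G)) ⟨g * e * g⁻¹, ⟨e, e.2.1, rfl⟩,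
        fun h => e.2.2 (conj_eq_one_iff.1 h)⟩
    · rw [Subgroup.card_map_of_injective (MulAut.conj g).injective]
  haveI : (W B).Normal := ⟨fun x hx g => by
    rw [← hconj g]
    exact ⟨x, hx, rfl⟩⟩
  have h0 : W B ≤ ⊥ := hO ▸ CfsgLib.Coprime.le_pPrimeCore_of_not_dvd hp hWp
  refine le_bot_iff.1 (le_trans ?_ h0)
  exact le_iSup (fun e : {e : G // e ∈ B ∧ e ≠ 1} => θ (e : G))
    ⟨a, haB (Subgroup.mem_zpowers a), fun e => hp.ne_one (ha.1.symm.trans (orderOf_eq_one_iff.2 e))⟩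


/-- Let G be finite with O_{p'}(G) = 1 and p-rank at least 3, whose reduced rank-2 commuting graph for p is connected. Let θ assign to every element a of order p with m_p(C_G(a)) ≥ 3 a solvable subgroup θ a ≤ C_G(a) of order prime to p, so that θ (g a g⁻¹) = g (θ a) g⁻¹ for all g and θ a ∩ C_G(b) ≤ θ b for commuting such a, b. Then θ a = 1 for every such a. -/
theorem result {G : Type*} [Group G] [Finite G] (p : ℕ) [Fact p.Prime] (hO : Cfsg.pPrimeCore p G = ⊥) (hrk : ¬ Cfsg.PRankLE p 2 G) (hconn : Cfsg.IsRankGraphConnected p 2 G) (θ : G → Subgroup G) (hC : ∀ a : G, (orderOf a = p ∧ ¬ Cfsg.PRankLE p 2 ↥(Subgroup.centralizer ({a} : Set G))) → θ a ≤ Subgroup.centralizer ({a} : Set G) ∧ ¬ p ∣ Nat.card ↥(θ a) ∧ Group.IsSolvable ↥(θ a)) (heq : ∀ a g : G, (orderOf a = p ∧ ¬ Cfsg.PRankLE p 2 ↥(Subgroup.centralizer ({a} : Set G))) → θ (g * a * g⁻¹) = (θ a).map (MulAut.conj g).toMonoidHom) (hbal : ∀ a b : G, (orderOf a = p ∧ ¬ Cfsg.PRankLE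 p 2 ↥(Subgroup.centralizer ({a} : Set G))) → (orderOf b = p ∧ ¬ Cfsg.PRankLE p 2 ↥(Subgroup.centralizer ({b} : Set G))) → a * b = b * a → θ a ⊓ Subgroup.centralizer {b} ≤ θ b) (a : G) (ha : (orderOf a = p ∧ ¬ Cfsg.PRankLE p 2 ↥(Subgroup.centralizer ({a} : Set G)))) : θ a = ⊥ := by
  exact aux p hO hconn θ hC heq hbal a ha

end Cfsg.Agent.S1294
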