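import Cfsg.Statements.S1295
import Cfsg.Agent.S1293
import Cfsg.Agent.S1294
import Cfsg.Agent.Lib.PGroup.CharPLocal
import Cfsg.Agent.Lib.Coprime.Solvable

set_option autoImplicit false
open Cfsg

namespace Cfsg.Agent.S1295

open Subgroup in
/-- Balance for points with trivial `p`-layer. -/
theorem balance {G : Type*} [Group G] [Finite G] {p : ℕ} [Fact p.Prime] {a b : G}
    (ha : orderOf a = p) (hL : Cfsg.pLayer p ↥(centralizer ({b} : Set G)) = ⊥) (hab : a * b = b * a) :
    Cfsg.centralizerPPrimeCore p a ⊓ centralizer {b} ≤ Cfsg.centralizerPPrimeCore p b := by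
  have hp : p.Prime := Fact.out
  set C := centralizer ({b} : Set G) with hC
  have haC : a ∈ C := mem_centralizer_singleton_iff.2 hab
  set P : Subgroup C := zpowers ⟨a, haC⟩ with hP
  have hPp : IsPGroup p P := IsPGroup.of_card (n := 1) (by rw [Nat.card_zpowers, orderOf_mk, ha, pow_one])
  have hP1 : P ≠ ⊥ := fun e => by
    have h1 : (⟨a, haC⟩ : C) = 1 := mem_bot.1 (e ▸ mem_zpowers _)
    have h2 : a = 1 := congrArg Subtype.val h1
    rw [h2, orderOf_one] at ha
    exact hp.ne_one ha.symm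
  have h1 := (Cfsg.Agent.S1293.result p hL P hPp hP1).2
  set N := normalizer (P : Set C) with hN
  set X := Cfsg.centralizerPPrimeCore p a with hX
  have hXa : X ≤ centralizer ({a} : Set G) := map_subtype_le _
  have hXn : ∀ g : G, g ∈ normalizer (zpowers a : Set G) → g ∈ normalizer (X : Set G) := fun g hg => by
    rw [hX, CfsgLib.Coprime.centralizerPPrimeCore_eq]
    exact CfsgLib.Coprime.normalizer_le_normalizer_coreIn p _
      (CfsgLib.Coprime.normalizer_le_normalizer_centralizer _ hg)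
  intro x hx
  have hxC : x ∈ C := hx.2
  have hxN : (⟨x, hxC⟩ : C) ∈ N := by
    refine CfsgLib.Coprime.centralizer_le_normalizer_self P (mem_centralizer_iff.2 fun y hy => ?_)
    obtain ⟨k, rfl⟩ := mem_zpowers_iff.1 hy
    refine ((show Commute (⟨a, haC⟩ : C) ⟨x, hxC⟩ from Subtype.ext ?_).zpow_left k).eq
    exact (mem_centralizer_singleton_iff.1 (hXa hx.1)).symm
  set Y : Subgroup N := ((X ⊓ C).subgroupOf C).subgroupOf N with hY
  haveI : Y.Normal := by
    refine ⟨fun y hy g => ?_⟩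
    have hg : (((g : C) : G)) ∈ normalizer (zpowers a : Set G) := by
      have e : P.map C.subtype = zpowers a := by rw [hP, MonoidHom.map_zpowers]; rfl
      rw [← e]
      exact le_normalizer_map C.subtype ⟨(g : C), g.2, rfl⟩
    exact mem_inf.2 ⟨(mem_normalizer_iff.1 (hXn _ hg) _).1 (show (((y : C) : G)) ∈ X from hy.1),
      ((g * y * g⁻¹ : N) : C).2⟩
  have hYp : ¬ p ∣ Nat.card Y := by
    intro hd
    have h2 : Nat.card (((Y.map N.subtype).map C.subtype)) ∣ Nat.card X := by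
      refine card_dvd_of_le ?_
      rintro _ ⟨_, ⟨y, hy, rfl⟩, rfl⟩
      exact hy.1
    rw [card_map_of_injective C.subtype_injective, card_map_of_injective N.subtype_injective] at h2
    have h3 := hd.trans h2
    rw [hX, Cfsg.centralizerPPrimeCore, card_map_of_injective (Subgroup.subtype_injective _)] at h3
    exact CfsgLib.Coprime.pPrimeCore_not_dvd hp h3
  exact ⟨⟨x, hxC⟩, h1 ⟨⟨⟨x, hxC⟩, hxN⟩,
    CfsgLib.Coprime.le_pPrimeCore_of_not_dvd hp hYp (mem_inf.2 ⟨hx.1, hxC⟩), rfl⟩, rfl⟩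

/-- The statement. -/
theorem aux {G : Type*} [Group G] [Finite G] (p : ℕ) [Fact p.Prime] (hO : Cfsg.pPrimeCore p G = ⊥)
    (hrk : ¬ Cfsg.PRankLE p 2 G) (hconn : Cfsg.IsRankGraphConnected p 2 G)
    (hL : ∀ a : G, (orderOf a = p ∧ ¬ Cfsg.PRankLE p 2 ↥(Subgroup.centralizer ({a} : Set G))) →
      Cfsg.pLayer p ↥(Subgroup.centralizer ({a} : Set G)) = ⊥ ∧
        Group.IsSolvable ↥(Cfsg.centralizerPPrimeCore p a))
    (a : G) (ha : orderOf a = p ∧ ¬ Cfsg.PRankLE p 2 ↥(Subgroup.centralizer ({a} : Set G))) :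
    Cfsg.generalizedFittingSubgroup ↥(Subgroup.centralizer ({a} : Set G)) =
      Cfsg.pCore p ↥(Subgroup.centralizer ({a} : Set G)) := by
  have hp : p.Prime := Fact.out
  have h0 := Cfsg.Agent.S1294.result p hO hrk hconn (fun x => Cfsg.centralizerPPrimeCore p x)
    (fun x hx => ⟨Subgroup.map_subtype_le _, ?_, (hL x hx).2⟩) (fun x g hx => ?_)
    (fun x y hx hy hxy => balance hx.1 (hL y hy).1 hxy) a ha
  · have h1 : Cfsg.pPrimeCore p ↥(Subgroup.centralizer ({a} : Set G)) = ⊥ :=
      (Subgroup.map_eq_bot_iff_of_injective _ (Subgroup.subtype_injective _)).1 h0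
    have h2 := (hL a ha).1
    rw [CfsgLib.Coprime.pLayer_eq_layer h1] at h2
    rw [Cfsg.generalizedFittingSubgroup, h2, bot_sup_eq,
      CfsgLib.Coprime.fitting_eq_pCore_of_pPrimeCore_eq_bot h1]
  · rw [Cfsg.centralizerPPrimeCore, Subgroup.card_map_of_injective (Subgroup.subtype_injective _)]
    exact CfsgLib.Coprime.pPrimeCore_not_dvd hp
  · show CfsgLib.Coprime.coreIn p (Subgroup.centralizer {g * x * g⁻¹}) =
      (CfsgLib.Coprime.coreIn p (Subgroup.centralizer {x})).map (MulAut.conj g).toMonoidHom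
    rw [CfsgLib.Coprime.map_coreIn_equiv, CfsgLib.CharPLoc.centralizer_singleton_map]


/-- Let G be finite with O_{p'}(G) = 1 and p-rank at least 3, whose reduced rank-2 commuting graph for p is connected. Suppose that for every element a of order p with m_p(C_G(a)) ≥ 3 the p-layer of C_G(a) is trivial and O_{p'}(C_G(a)) is solvable. Then F*(C_G(a)) = O_p(C_G(a)) for every such a. -/
theorem result {G : Type*} [Group G] [Finite G] (p : ℕ) [Fact p.Prime] (hO : Cfsg.pPrimeCore p G = ⊥) (hrk : ¬ Cfsg.PRankLE p 2 G) (hconn : Cfsg.IsRankGraphConnected p 2 G) (hL : ∀ a : G, (orderOf a = p ∧ ¬ Cfsg.PRankLE p 2 ↥(Subgroup.centralizer ({a} : Set G))) → Cfsg.pLayer p ↥(Subgroup.centralizer ({a} : Set G)) = ⊥ ∧ Group.IsSolvable ↥(Cfsg.centralizerPPrimeCore p a)) (a : G) (ha : (orderOf a = p ∧ ¬ Cfsg.PRankLE p 2 ↥(Subgroup.centralizer ({a} : Set G)))) : Cfsg.generalizedFittingSubgroup ↥(Subgroup.centralizer ({a} : Set G)) = Cfsg.pCore p ↥(Subgroup.centralizer ({a} : Set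 G)) := by
  exact aux p hO hrk hconn hL a ha

end Cfsg.Agent.S1295
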