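import Cfsg.Statements.S1300
import Cfsg.Agent.Lib.Coprime.LBalance.LocalBalance

set_option autoImplicit false
open Cfsg

namespace Cfsg.Agent.S1300

/-- For a finite group G, balance in the sense of commuting involutions is the same as 1-balance for the prime 2. -/
theorem result {G : Type*} [Group G] [Finite G] : Cfsg.IsBalanced G ↔ Cfsg.IsKBalanced 2 1 G := by
  haveI : Fact (Nat.Prime 2) := ⟨Nat.prime_two⟩
  constructor
  · intro hbal A hA hcard b hb hab
    rw [pow_one] at hcard
    haveI : Nontrivial A := Finite.one_lt_card_iff_nontrivial.1 (by rw [hcard]; norm_num)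
    obtain ⟨⟨a, ha⟩, ha1⟩ := exists_ne (1 : A)
    have ha1' : a ≠ 1 := fun e => ha1 (Subtype.ext e)
    refine le_trans (inf_le_inf_right _ (iInf_le (fun y : {y : G // y ∈ A ∧ y ≠ 1} =>
      Cfsg.centralizerPPrimeCore 2 (y : G)) ⟨a, ha, ha1'⟩)) ?_
    show Cfsg.centralizerPPrimeCore 2 a ⊓ Subgroup.centralizer {b} ≤ _
    rw [hbal a b (orderOf_eq_prime (hA.2 a ha) ha1') hb (hab a ha)]
    exact inf_le_left
  · intro h
    have key : ∀ x y : G, orderOf x = 2 → orderOf y = 2 → x * y = y * x →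
        Cfsg.centralizerPPrimeCore 2 x ⊓ Subgroup.centralizer {y} ≤ Cfsg.centralizerPPrimeCore 2 y := by
      intro x y hx hy hxy
      have hx2 : x ^ 2 = 1 := hx ▸ pow_orderOf_eq_one x
      have hel : Cfsg.IsElementaryAbelian 2 (Subgroup.zpowers x) := by
        refine ⟨⟨⟨fun a b => ?_⟩⟩, fun a ha => ?_⟩
        · obtain ⟨i, hi⟩ := Subgroup.mem_zpowers_iff.1 a.2
          obtain ⟨j, hj⟩ := Subgroup.mem_zpowers_iff.1 b.2
          exact Subtype.ext (by show (a : G) * b = b * a; rw [← hi, ← hj, zpow_mul_comm])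
        · obtain ⟨i, rfl⟩ := Subgroup.mem_zpowers_iff.1 ha
          rw [← zpow_natCast, ← zpow_mul, mul_comm, zpow_mul, zpow_natCast, hx2, one_zpow]
      refine le_trans (inf_le_inf_right _ (le_iInf ?_))
        (h _ hel (by rw [Nat.card_zpowers, hx, pow_one]) y hy fun a ha => ?_)
      · rintro ⟨a, ha, ha1⟩
        have hzeq : Subgroup.zpowers a = Subgroup.zpowers x :=
          Subgroup.eq_of_le_of_card_ge (Subgroup.zpowers_le.2 ha) (by
            rw [Nat.card_zpowers, Nat.card_zpowers, hx, orderOf_eq_prime (hel.2 a ha) ha1])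
        show Cfsg.centralizerPPrimeCore 2 x ≤ Cfsg.centralizerPPrimeCore 2 a
        rw [CfsgLib.Coprime.centralizerPPrimeCore_eq, CfsgLib.Coprime.centralizerPPrimeCore_eq, hzeq]
      · obtain ⟨i, rfl⟩ := Subgroup.mem_zpowers_iff.1 ha
        exact ((show Commute x y from hxy).zpow_left i).eq
    intro x y hx hy hxy
    exact le_antisymm
      (le_inf (key x y hx hy hxy) (inf_le_left.trans (CfsgLib.Coprime.coreIn_le 2 (Subgroup.centralizer ({x} : Set G)))))
      (le_inf (key y x hy hx hxy.symm) (inf_le_left.trans (CfsgLib.Coprime.coreIn_le 2 (Subgroup.centralizer ({y} : Set G)))))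

end Cfsg.Agent.S1300
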