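import Cfsg.Statements.S1303
import Cfsg.Agent.Lib.Classical.SL23Structure
import Cfsg.Agent.Lib.Invol.PConstrained

set_option autoImplicit false
open Cfsg

namespace Cfsg.Agent.S1303

/-- The group X = SL(2, 3): it is 2-constrained, O_{2'}(X) = 1, its centre A = Z(X) contains every involution of X = C_X(A), and X has a subgroup of order 3 (normalized by A) not contained in O_{2'}(X). -/
theorem result : Cfsg.IsPConstrained 2 (Matrix.SpecialLinearGroup (Fin 2) (ZMod 3)) ∧ Cfsg.pPrimeCore 2 (Matrix.SpecialLinearGroup (Fin 2) (ZMod 3)) = ⊥ ∧ (∀ t : Matrix.SpecialLinearGroup (Fin 2) (ZMod 3), orderOf t = 2 → t ∈ Subgroup.center (Matrix.SpecialLinearGroup (Fin 2) (ZMod 3))) ∧ ∃ Q : Subgroup (Matrix.SpecialLinearGroup (Fin 2) (ZMod 3)), Nat.card ↥Q = 3 ∧ ¬ (Q ≤ Cfsg.pPrimeCore 2 (Matrix.SpecialLinearGroup (Fin 2) (ZMod 3))) := by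
  have hq2 : IsPGroup 2 ↥CfsgLib.Classical.SL23Structure.quat :=
    IsPGroup.of_card (n := 3) CfsgLib.Classical.SL23Structure.card_quat
  haveI hqn : CfsgLib.Classical.SL23Structure.quat.Normal :=
    CfsgLib.Classical.SL23Structure.commutator_eq ▸ inferInstance
  have hqc := CfsgLib.Coprime.le_pCore (p := 2) hq2
  have hclean : CfsgLib.Invol.PClean 2 (Matrix.SpecialLinearGroup (Fin 2) (ZMod 3)) := by
    intro y hy hc
    have h3 : orderOf y ∣ 3 := by
      have h24 : orderOf y ∣ 2 ^ 3 * 3 := by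
        have := orderOf_dvd_natCard y
        rwa [CfsgLib.Classical.SL23Structure.card_all] at this
      exact (hy.pow_right 3).dvd_of_dvd_mul_left h24
    exact (show ∀ y : Matrix.SpecialLinearGroup (Fin 2) (ZMod 3), y ^ 3 = 1 →
      (∀ q, q ^ 4 = 1 → q * y = y * q) → y = 1 by decide +kernel) y
      (orderOf_dvd_iff_pow_eq_one.1 h3) fun q hq => Subgroup.mem_centralizer_iff.1 hc q (hqc hq)
  have hO : Cfsg.pPrimeCore 2 (Matrix.SpecialLinearGroup (Fin 2) (ZMod 3)) = ⊥ := by
    haveI : Fact (Nat.Prime 2) := ⟨Nat.prime_two⟩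
    refine le_bot_iff.1 fun y hy => ?_
    have hy2 : (orderOf y).Coprime 2 := Nat.Coprime.coprime_dvd_left
      (Subgroup.orderOf_dvd_natCard (s := Cfsg.pPrimeCore 2 _) hy)
      (CfsgLib.Coprime.pPrimeCore_coprime Nat.prime_two)
    haveI := CfsgLib.Coprime.pCore_normal' (G := Matrix.SpecialLinearGroup (Fin 2) (ZMod 3)) 2
    refine Subgroup.mem_bot.2 (hclean y hy2 (Subgroup.mem_centralizer_iff.2 fun q hq => ?_))
    haveI : (Cfsg.pPrimeCore 2 (Matrix.SpecialLinearGroup (Fin 2) (ZMod 3))).Normal :=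
      Subgroup.sSup_normal _ fun _ h => h.1
    refine Subgroup.commute_of_normal_of_disjoint _ _ inferInstance inferInstance ?_ q y hq hy
    exact Subgroup.disjoint_of_coprime_natCard (by
      obtain ⟨k, hk⟩ := (CfsgLib.Coprime.pCore_isPGroup
        (G := Matrix.SpecialLinearGroup (Fin 2) (ZMod 3)) 2).exists_card_eq
      rw [hk]
      exact ((CfsgLib.Coprime.pPrimeCore_coprime Nat.prime_two).symm).pow_left k)
  refine ⟨CfsgLib.Invol.isPConstrained_iff.2 (CfsgLib.Invol.pCons_of_pClean hclean), hO, ?_, ?_⟩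
  · intro t ht
    have h := orderOf_eq_iff (two_pos) |>.1 ht
    exact Subgroup.mem_center_iff.2 ((show ∀ t : Matrix.SpecialLinearGroup (Fin 2) (ZMod 3),
      t ^ 2 = 1 → ∀ g, g * t = t * g by decide +kernel) t h.1)
  · haveI : Fact (Nat.Prime 3) := ⟨Nat.prime_three⟩
    obtain ⟨y, hy⟩ := exists_prime_orderOf_dvd_card' (G := Matrix.SpecialLinearGroup (Fin 2) (ZMod 3)) 3
      (by rw [CfsgLib.Classical.SL23Structure.card_all]; decide)
    refine ⟨Subgroup.zpowers y, by rw [Nat.card_zpowers, hy], fun h => ?_⟩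
    rw [hO, le_bot_iff, Subgroup.zpowers_eq_bot] at h
    rw [h, orderOf_one] at hy
    exact absurd hy (by decide)
end Cfsg.Agent.S1303
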