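import Cfsg.Statements.S1305
import Cfsg.Agent.Lib.Invol.MaxComponent
import Cfsg.Agent.Lib.CFun.OddZgroupLength
import Cfsg.Prelude.Def_CaseTheorems

set_option autoImplicit false
open Cfsg

namespace Cfsg.Agent.S1305

/-- Let G be a finite group of component type with the B-property and no nontrivial normal subgroup of odd order. Let a be an involution and K a component of C_G(a) such that (a) |K| is maximal among the orders of components of centralizers of involutions of G, (b) subject to (a) the 2-rank of the centralizer of K in C_G(a) is as large as possible, and (c) K has 2-rank at least 2. If B is an elementary abelian 2-subgroup of that centralizer of the largest possible order, then K is a component of C_G(b) for every non-identity b ∈ B. -/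
theorem result {G : Type*} [Group G] [Finite G] (hO : Cfsg.oddCore G = ⊥) (hB : Cfsg.HasBProperty G) (hct : Cfsg.IsComponentType G) (a : G) (ha : orderOf a = 2) (K : Subgroup G) (hKa : K ≤ Subgroup.centralizer ({a} : Set G)) (hK : Cfsg.IsComponent (K.subgroupOf (Subgroup.centralizer ({a} : Set G)))) (hmax : ∀ y : G, orderOf y = 2 → ∀ K' : Subgroup G, K' ≤ Subgroup.centralizer ({y} : Set G) → Cfsg.IsComponent (K'.subgroupOf (Subgroup.centralizer ({y} : Set G))) → Nat.card ↥K' ≤ Nat.card ↥K ∧ (Nat.card ↥K' = Nat.card ↥K → ∀ k : ℕ, Cfsg.PRankLE 2 k ↥(Subgroup.centralizer ({a} : Set G) ⊓ Subgroup.centralizer (K : Set G)) → Cfsg.PRankLE 2 k ↥(Subgroup.centralizer ({y} : Set G) ⊓ Subgroup.centralizer (K' : Set G)))) (hrk : ¬ Cfsg.PRankLE 2 1 ↥K) (B : Subgroup G) (hBle : B ≤ Subgroup.centralizer ({a} : Set G) ⊓ Subgroup.centralizer (K : Set G)) (hBel : Cfsg.IsElementaryAbelian 2 B) (hBmax : ∀ B' : Subgroup G, B' ≤ Subgroup.centralizer ({a} : Set G) ⊓ Subgroup.centralizer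 (K : Set G) → Cfsg.IsElementaryAbelian 2 B' → Nat.card ↥B' ≤ Nat.card ↥B) (b : G) (hb : b ∈ B) (hb1 : b ≠ 1) : K ≤ Subgroup.centralizer ({b} : Set G) ∧ Cfsg.IsComponent (K.subgroupOf (Subgroup.centralizer ({b} : Set G))) := by
  haveI : Fact (Nat.Prime 2) := ⟨Nat.prime_two⟩
  have hcen : ∀ {g h : G}, g ∈ Subgroup.centralizer ({h} : Set G) → Commute g h := fun hg =>
    Subgroup.mem_centralizer_singleton_iff.1 hg
  have hmem : ∀ {g h : G}, Commute g h → g ∈ Subgroup.centralizer ({h} : Set G) := fun hg =>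
    Subgroup.mem_centralizer_singleton_iff.2 hg
  have hB2 : ∀ x ∈ B, x * x = 1 := fun x hx => by rw [← pow_two]; exact hBel.2 x hx
  have hBc : ∀ x ∈ B, ∀ y ∈ B, Commute x y := fun x hx y hy =>
    congrArg Subtype.val (hBel.1.is_comm.comm (⟨x, hx⟩ : B) ⟨y, hy⟩)
  have hBK : ∀ x ∈ B, ∀ k ∈ K, Commute k x := fun x hx k hk =>
    Subgroup.mem_centralizer_iff.1 (hBle hx).2 k hk
  have hba : Commute b a := hcen (hBle hb).1
  have hb2 : orderOf b = 2 := orderOf_eq_prime (hBel.2 b hb) hb1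
  set Y := Subgroup.centralizer ({b} : Set G) with hY
  have hKY : K ≤ Y := fun k hk => hmem (hBK b hb k hk)
  have haY : a ∈ Y := hmem hba.symm
  refine ⟨hKY, ?_⟩
  set aY : Y := ⟨a, haY⟩ with haYdef
  have ha1 : a * a = 1 := by rw [← pow_two, ← ha]; exact pow_orderOf_eq_one a
  set K' := K.subgroupOf Y with hK'
  set H := Subgroup.centralizer ({aY} : Set Y) with hH
  set Ca := Subgroup.centralizer ({a} : Set G) with hCa
  have hK'H : K' ≤ H := fun k hk => Subgroup.mem_centralizer_singleton_iff.2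
    (Subtype.ext (hcen (hKa (Subgroup.mem_subgroupOf.1 hk))))
  let φ : H →* Ca := ((Y.subtype).comp H.subtype).codRestrict Ca fun u =>
    hmem (congrArg Subtype.val (Subgroup.mem_centralizer_singleton_iff.1 u.2))
  have hφ : Function.Injective φ := fun u v e =>
    Subtype.ext (Subtype.ext (congrArg (fun q : Ca => (q : G)) e))
  -- `K` is a component of `C(a) ∩ C(b)`
  have hK'c : Cfsg.IsComponent (K'.subgroupOf H) := by
    have e : (K.subgroupOf Ca).comap φ = K'.subgroupOf H := rfl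
    refine ⟨e ▸ hK.1.comap φ, CfsgLib.Coprime.isQuasisimple_congr ?_ hK.2⟩
    exact ((Subgroup.subgroupOfEquivOfLe hKa).trans (Subgroup.subgroupOfEquivOfLe hKY).symm).trans
      (Subgroup.subgroupOfEquivOfLe hK'H).symm
  obtain ⟨W, hWc, hW2, hWcard⟩ : ∃ W : Subgroup K, IsMulCommutative W ∧ (∀ w ∈ W, w ^ 2 = 1) ∧
      2 ^ 1 < Nat.card W := by
    by_contra hc
    push Not at hc
    exact hrk hc
  obtain ⟨w, hw, hw1⟩ : ∃ w ∈ W, w ≠ 1 := by
    haveI : Nontrivial W := Finite.one_lt_card_iff_nontrivial.1 (by omega)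
    obtain ⟨w, hw⟩ := exists_ne (1 : W)
    exact ⟨w, w.2, fun e => hw (Subtype.ext e)⟩
  have hKeven : 2 ∣ Nat.card K :=
    (orderOf_eq_prime (hW2 w hw) hw1) ▸ orderOf_dvd_natCard w
  -- it is a `2`-component there
  have hK'p : Cfsg.IsPComponent 2 (K'.subgroupOf H) := by
    set π := QuotientGroup.mk' (Cfsg.pPrimeCore 2 H)
    haveI : Nontrivial ((K'.subgroupOf H).map π) := (Subgroup.nontrivial_iff_ne_bot _).2 fun e => by
      rw [Subgroup.map_eq_bot_iff, QuotientGroup.ker_mk'] at e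
      have h1 := Subgroup.card_dvd_of_le e
      rw [Nat.card_congr (Subgroup.subgroupOfEquivOfLe hK'H).toEquiv,
        Nat.card_congr (Subgroup.subgroupOfEquivOfLe hKY).toEquiv] at h1
      exact CfsgLib.Coprime.pPrimeCore_not_dvd Nat.prime_two (hKeven.trans h1)
    have hq := CfsgLib.Invol.BLayer.isQuasisimple_of_surjective hK'c.2
      (π.subgroupMap_surjective (K'.subgroupOf H))
    refine ⟨hK'c.1, ⟨hK'c.1.map (QuotientGroup.mk'_surjective _), hq⟩, fun U hU hUK e => ?_⟩
    refine (CfsgLib.Coprime.eq_or_le_center_of_le_component hK'c hU hUK).resolve_right fun hz => ?_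
    refine CfsgLib.Coprime.center_ne_top_of_isQuasisimple hq (top_unique fun x _ => ?_)
    obtain ⟨u, hu, hux⟩ := (e.symm ▸ x.2 : (x : H ⧸ Cfsg.pPrimeCore 2 H) ∈ U.map π)
    refine Subgroup.mem_center_iff.2 fun y => Subtype.ext ?_
    obtain ⟨v, hv, hvy⟩ := y.2
    show (y : H ⧸ Cfsg.pPrimeCore 2 H) * x = x * y
    rw [← hux, ← hvy, ← map_mul, ← map_mul]
    exact congrArg π (Subgroup.mem_centralizer_iff.1
      (CfsgLib.Coprime.subgroupOf_le_center hUK hz hu) v hv)
  -- L-balance and the B-property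
  have hlay : Cfsg.pLayer 2 Y ≤ Cfsg.layer Y := sSup_le fun J hJ => by
    refine CfsgLib.Coprime.component_le_layer (CfsgLib.Coprime.isComponent_of_centralizes_core hJ ?_)
    refine le_bot_iff.1 ((Subgroup.commutator_mono (CfsgLib.Coprime.pComponent_le_pLayer hJ) le_rfl).trans ?_)
    rw [← Subgroup.map_le_map_iff_of_injective Y.subtype_injective, Subgroup.map_bot, ← hO]
    exact hB b hb2
  have hK'E : K' ≤ Cfsg.layer Y := by
    refine le_trans ?_ hlay
    have hT : IsPGroup 2 (Subgroup.zpowers aY) := by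
      refine IsPGroup.of_card (n := 1) ?_
      rw [Nat.card_zpowers, ← Subgroup.orderOf_coe, pow_one]
      exact ha
    have hc : Subgroup.centralizer (Subgroup.zpowers aY : Set Y) = H := by
      rw [hH, Subgroup.zpowers_eq_closure, Subgroup.centralizer_closure]
    have h1 := CfsgLib.Coprime.lBalance_two (Subgroup.zpowers aY) hT
    rw [hc] at h1
    refine le_trans ?_ h1
    rw [← Subgroup.map_subgroupOf_eq_of_le hK'H]
    exact Subgroup.map_mono (CfsgLib.Coprime.pComponent_le_pLayer hK'p)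
  have hcardK : Nat.card K' = Nat.card K := Nat.card_congr (Subgroup.subgroupOfEquivOfLe hKY).toEquiv
  have hcomp : ∀ L : Subgroup Y, Cfsg.IsComponent L → Nat.card L ≤ Nat.card K ∧ (Nat.card L = Nat.card K →
      ∀ k : ℕ, Cfsg.PRankLE 2 k ↥(Ca ⊓ Subgroup.centralizer (K : Set G)) →
      Cfsg.PRankLE 2 k ↥(Y ⊓ Subgroup.centralizer ((L.map Y.subtype : Subgroup G) : Set G))) := by
    intro L hL
    have e : (L.map Y.subtype).subgroupOf Y = L :=
      Subgroup.comap_map_eq_self_of_injective Y.subtype_injective L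
    have h := hmax b hb2 (L.map Y.subtype) (Subgroup.map_subtype_le L) (by rw [e]; exact hL)
    rwa [Subgroup.card_map_of_injective Y.subtype_injective] at h
  rcases CfsgLib.Invol.MaxComp.pump_two (a := aY) (Subtype.ext ha1) hK'H hK'c hK'E
    (fun L hL => hcardK.symm ▸ (hcomp L hL).1) with h | ⟨L, hD⟩
  · exact h
  exfalso
  set M := L.map Y.subtype with hM
  have hMY : M ≤ Y := Subgroup.map_subtype_le L
  set Ma := L.map (MulAut.conj aY).toMonoidHom with hMa
  -- `B` permutes the two components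
  have hcomLa : ∀ s ∈ L, ∀ t ∈ Ma, Commute s t := fun s hs t ht =>
    CfsgLib.Coprime.commutator_eq_bot_iff_forall.1
      (CfsgLib.Coprime.components_commute hD.comp hD.comp' (Ne.symm hD.moved)) s hs t ht
  have hperm : ∀ (c : G) (hcB : c ∈ B) (hcY : c ∈ Y),
      L.map (MulAut.conj (⟨c, hcY⟩ : Y)).toMonoidHom = L ∨
      L.map (MulAut.conj (⟨c, hcY⟩ : Y)).toMonoidHom = Ma := by
    intro c hcB hcY
    set cY : Y := ⟨c, hcY⟩
    set L2 := L.map (MulAut.conj cY).toMonoidHom with hL2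
    by_contra hne
    push Not at hne
    have hL2c : Cfsg.IsComponent L2 := CfsgLib.Coprime.isComponent_map_equiv _ hD.comp
    refine hD.not_central fun k hk => Subgroup.mem_centralizer_iff.2 fun t ht => ?_
    obtain ⟨s, hs, hsk⟩ := hD.surj k hk
    have h2 : cY * t * cY⁻¹ ∈ L2 := ⟨t, ht, rfl⟩
    have c1 : Commute (cY * t * cY⁻¹) s := CfsgLib.Coprime.commutator_eq_bot_iff_forall.1
      (CfsgLib.Coprime.components_commute hL2c hD.comp hne.1) _ h2 s hs
    have c2 : Commute (cY * t * cY⁻¹) (aY * s * aY⁻¹) := CfsgLib.Coprime.commutator_eq_bot_iff_forall.1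
      (CfsgLib.Coprime.components_commute hL2c hD.comp' hne.2) _ h2 _ ⟨s, hs, rfl⟩
    have c3 : Commute (cY * t * cY⁻¹) k := hsk ▸ c1.mul_right c2
    have c4 : Commute k cY := Subtype.ext (hBK c hcB k (Subgroup.mem_subgroupOf.1 hk))
    have c5 := ((Commute.conj_iff cY⁻¹).2 c3)
    have e1 : cY⁻¹ * (cY * t * cY⁻¹) * cY⁻¹⁻¹ = t := by group
    have e2 : cY⁻¹ * k * cY⁻¹⁻¹ = k := by rw [inv_inv, mul_assoc, c4.eq, inv_mul_cancel_left]
    rw [e1, e2] at c5
    exact c5
  set N := (Subgroup.normalizer (L : Set Y)).map Y.subtype with hN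
  set B0 := B ⊓ N with hB0
  have hBY : ∀ c ∈ B, c ∈ Y := fun c hc => hmem (hBc c hc b hb)
  have haB : a ∈ B := by
    by_contra haB
    have hanorm : Subgroup.zpowers a ≤ Subgroup.normalizer (B : Set G) := by
      refine Subgroup.zpowers_le.2 (Subgroup.centralizer_le_normalizer _ (Subgroup.mem_centralizer_iff.2 ?_))
      exact fun x hx => hcen (hBle hx).1
    have hac : a ∈ Subgroup.centralizer ({a} : Set G) ⊓ Subgroup.centralizer (K : Set G) :=
      ⟨hmem (Commute.refl a), Subgroup.mem_centralizer_iff.2 fun k hk => hcen (hKa hk)⟩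
    have hB' : Cfsg.IsElementaryAbelian 2 (B ⊔ Subgroup.zpowers a) := by
      have hval : ∀ x ∈ B ⊔ Subgroup.zpowers a, ∃ u ∈ B, x = u ∨ x = u * a := by
        intro x hx
        obtain ⟨u, hu, v, hv, rfl⟩ := CfsgLib.Coprime.mem_sup_exists hanorm hx
        obtain ⟨n, rfl⟩ := Subgroup.mem_zpowers_iff.1 hv
        rcases Int.even_or_odd n with ⟨m, rfl⟩ | ⟨m, rfl⟩
        · exact ⟨u, hu, Or.inl (by
            rw [← two_mul, zpow_mul, zpow_two, ha1, one_zpow, mul_one])⟩
        · exact ⟨u, hu, Or.inr (by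
            rw [zpow_add_one, zpow_mul, zpow_two, ha1, one_zpow, one_mul])⟩
      have hua : ∀ u ∈ B, Commute u a := fun u hu => hcen (hBle hu).1
      refine ⟨⟨⟨fun x y => Subtype.ext ?_⟩⟩, fun x hx => ?_⟩
      · obtain ⟨u, hu, hx'⟩ := hval x x.2
        obtain ⟨v, hv, hy'⟩ := hval y y.2
        show Commute (x : G) (y : G)
        rcases hx' with hx' | hx' <;> rcases hy' with hy' | hy' <;> rw [hx', hy']
        · exact hBc u hu v hv
        · exact (hBc u hu v hv).mul_right (hua u hu)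
        · exact (hBc u hu v hv).mul_left (hua v hv).symm
        · exact ((hBc u hu v hv).mul_left (hua v hv).symm).mul_right ((hua u hu).mul_left (Commute.refl a))
      · obtain ⟨u, hu, rfl | rfl⟩ := hval x hx
        · exact hBel.2 x hu
        · rw [(hua u hu).mul_pow, hBel.2 u hu, one_mul, pow_two, ha1]
    exact haB ((Subgroup.eq_of_le_of_card_ge le_sup_left
      (hBmax _ (sup_le hBle (Subgroup.zpowers_le.2 hac)) hB')).symm ▸
        Subgroup.mem_sup_right (Subgroup.mem_zpowers a))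
  have hBle2 : Nat.card B ≤ 2 * Nat.card B0 := by
    have hcov : B ≤ Subgroup.zpowers a ⊔ B0 := by
      intro c hc
      rcases hperm c hc (hBY c hc) with h | h
      · exact Subgroup.mem_sup_right ⟨hc, ⟨⟨c, hBY c hc⟩, CfsgLib.Coprime.conjBy_eq_self_iff.1 h, rfl⟩⟩
      · have h' : L.map (MulAut.conj (aY⁻¹ * ⟨c, hBY c hc⟩ : Y)).toMonoidHom = L := by
          have := congrArg (Subgroup.map (MulAut.conj aY⁻¹).toMonoidHom) h
          rw [hMa, ← CfsgLib.Coprime.conjBy, ← CfsgLib.Coprime.conjBy, ← CfsgLib.Coprime.conjBy,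
            ← CfsgLib.Coprime.conjBy, CfsgLib.Coprime.conjBy_conjBy, CfsgLib.Coprime.conjBy_conjBy,
            inv_mul_cancel, CfsgLib.Coprime.conjBy_one] at this
          exact this
        have h2 : a⁻¹ * c ∈ B0 := ⟨B.mul_mem (B.inv_mem haB) hc,
          ⟨aY⁻¹ * ⟨c, hBY c hc⟩, CfsgLib.Coprime.conjBy_eq_self_iff.1 h', rfl⟩⟩
        have h3 := (Subgroup.zpowers a ⊔ B0).mul_mem (Subgroup.mem_sup_left (Subgroup.mem_zpowers a))
          (Subgroup.mem_sup_right h2)
        rwa [mul_inv_cancel_left] at h3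
    have hn : B0 ≤ Subgroup.normalizer (Subgroup.zpowers a : Set G) := fun c hc => by
      refine Subgroup.centralizer_le_normalizer _ ?_
      rw [Subgroup.zpowers_eq_closure, Subgroup.centralizer_closure]
      exact (hBle hc.1).1
    refine (Nat.le_of_dvd Nat.card_pos (Subgroup.card_dvd_of_le hcov)).trans ?_
    rw [← ha, ← Nat.card_zpowers, sup_comm]
    refine (Nat.le_of_dvd (Nat.mul_pos Nat.card_pos Nat.card_pos)
      (CfsgLib.Coprime.card_sup_dvd_of_le_normalizer hn)).trans ?_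
    rw [mul_comm]
  -- `B0` centralizes both components
  have hB0L : ∀ (c : G) (hc : c ∈ B0), ∀ t ∈ L,
      Commute (⟨c, hBY c hc.1⟩ : Y) t ∧ Commute (⟨c, hBY c hc.1⟩ : Y) (aY * t * aY⁻¹) := by
    intro c hc t ht
    obtain ⟨cY, hcN, e⟩ := hc.2
    have e' : (⟨c, hBY c hc.1⟩ : Y) = cY := Subtype.ext e.symm
    rw [e']
    have hct : cY * t * cY⁻¹ ∈ L := (Subgroup.mem_normalizer_iff.1 hcN t).1 ht
    have hca : Commute cY aY := Subtype.ext (e' ▸ hcen (hBle hc.1).1 : Commute (cY : G) a)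
    have h1 : cY * t * cY⁻¹ = t := by
      refine hD.inj _ hct t ht ?_
      have hk := Subgroup.mem_subgroupOf.1 (hD.mem t ht)
      have h2 : cY * (t * (aY * t * aY⁻¹)) * cY⁻¹ = t * (aY * t * aY⁻¹) := by
        rw [mul_inv_eq_iff_eq_mul]
        exact Subtype.ext (e' ▸ (hBK c hc.1 _ hk).symm :
          Commute (cY : G) ((t * (aY * t * aY⁻¹) : Y) : G))
      calc cY * t * cY⁻¹ * (aY * (cY * t * cY⁻¹) * aY⁻¹)
          = cY * t * cY⁻¹ * ((aY * cY) * t * (aY * cY)⁻¹) := by group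
        _ = cY * (t * (aY * t * aY⁻¹)) * cY⁻¹ := by rw [← hca.eq]; group
        _ = _ := h2
    rw [mul_inv_eq_iff_eq_mul] at h1
    exact ⟨h1, (hca.mul_right h1).mul_right hca.inv_right⟩
  -- a four-group in the other component
  let ι : L →* G := Y.subtype.comp ((MulAut.conj aY).toMonoidHom.comp L.subtype)
  let δ : L →* G :=
    { toFun := fun t => (((t : Y) * (aY * t * aY⁻¹) : Y) : G)
      map_one' := by simp
      map_mul' := fun s t => by
        have e := (hcomLa t t.2 (aY * s * aY⁻¹) ⟨s, s.2, rfl⟩).eq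
        rw [← Subgroup.coe_mul]
        refine congrArg (fun q : Y => (q : G)) ?_
        show (s : Y) * t * (aY * (s * t) * aY⁻¹) = _
        calc (s : Y) * t * (aY * (s * t) * aY⁻¹)
            = s * ((t : Y) * (aY * s * aY⁻¹)) * (aY * t * aY⁻¹) := by group
          _ = s * (aY * s * aY⁻¹) * (t * (aY * t * aY⁻¹)) := by rw [e]; group }
  have hδ : Function.Injective δ := fun s t e =>
    Subtype.ext (hD.inj s s.2 t t.2 (Subtype.ext e))
  set P := (W.map K.subtype).comap δ with hP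
  have hPcard : Nat.card P = Nat.card W := by
    rw [← Subgroup.card_map_of_injective hδ, hP, Subgroup.map_comap_eq_self ?_,
      Subgroup.card_map_of_injective K.subtype_injective]
    rintro _ ⟨k, -, rfl⟩
    obtain ⟨t, ht, e⟩ := hD.surj ⟨(k : G), hKY k.2⟩ (Subgroup.mem_subgroupOf.2 k.2)
    exact ⟨⟨t, ht⟩, congrArg Subtype.val e⟩
  have hP2 : ∀ t ∈ P, t ^ 2 = 1 := by
    intro t ht
    obtain ⟨k, hk, e⟩ := Subgroup.mem_comap.1 ht
    exact hδ (by rw [map_pow, map_one, ← e, ← map_pow, hW2 k hk, map_one])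
  have hPc : ∀ s ∈ P, ∀ t ∈ P, Commute s t := fun s hs t ht => hδ (by
    obtain ⟨k, hk, e⟩ := Subgroup.mem_comap.1 hs
    obtain ⟨l, hl, e'⟩ := Subgroup.mem_comap.1 ht
    rw [map_mul, map_mul, ← e, ← e', ← map_mul, ← map_mul]
    exact congrArg K.subtype (congrArg Subtype.val (hWc.is_comm.comm (⟨k, hk⟩ : W) ⟨l, hl⟩)))
  have hι : Function.Injective ι := fun s t e =>
    Subtype.ext (mul_left_cancel (mul_right_cancel (Subtype.ext e)))
  set Pa := P.map ι with hPa
  have hB0c : ∀ c ∈ B0, ∀ t : L, Commute c ((t : Y) : G) ∧ Commute c (ι t) := fun c hc t =>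
    ⟨congrArg Subtype.val (hB0L c hc t t.2).1, congrArg Subtype.val (hB0L c hc t t.2).2⟩
  have hcomm : ∀ c ∈ B0, ∀ q ∈ Pa, Commute c q := by
    rintro c hc _ ⟨t, -, rfl⟩
    exact (hB0c c hc t).2
  have hnorm : Pa ≤ Subgroup.normalizer (B0 : Set G) := fun q hq =>
    Subgroup.centralizer_le_normalizer _ (Subgroup.mem_centralizer_iff.2 fun c hc => hcomm c hc q hq)
  set S := B0 ⊔ Pa with hS
  have hinf : B0 ⊓ Pa = ⊥ := by
    refine (Subgroup.eq_bot_iff_forall _).2 ?_
    rintro _ ⟨hc, t, htP, rfl⟩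
    have hca : Commute (ι t) a := hcen (hBle hc.1).1
    have e : (aY * (t : Y) * aY⁻¹) = t := by
      have e1 : Commute (aY * (t : Y) * aY⁻¹) aY := Subtype.ext hca
      have e2 : aY * aY = 1 := Subtype.ext ha1
      calc aY * (t : Y) * aY⁻¹ = aY * (aY * (t : Y) * aY⁻¹) * aY⁻¹ := by
            rw [← e1.eq, mul_inv_cancel_right]
        _ = (aY * aY) * (t : Y) * (aY * aY)⁻¹ := by group
        _ = t := by rw [e2, one_mul, inv_one, mul_one]
    have h2 : δ t = δ 1 := by
      rw [map_one]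
      show (((t : Y) * (aY * t * aY⁻¹) : Y) : G) = 1
      rw [e, ← Subgroup.coe_mul, ← pow_two]
      exact congrArg (fun q : L => (((q : L) : Y) : G)) (hP2 t htP)
    rw [hδ h2, map_one]
  have hSY : S ≤ Y ⊓ Subgroup.centralizer (M : Set G) := by
    refine sup_le (fun c hc => ⟨hBY c hc.1, ?_⟩) ?_
    · refine Subgroup.mem_centralizer_iff.2 ?_
      rintro _ ⟨t, ht, rfl⟩
      exact (hB0c c hc ⟨t, ht⟩).1.symm
    · rintro _ ⟨t, -, rfl⟩
      refine ⟨SetLike.coe_mem _, Subgroup.mem_centralizer_iff.2 ?_⟩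
      rintro _ ⟨u, hu, rfl⟩
      exact congrArg Subtype.val (hcomLa u hu _ ⟨(t : Y), t.2, rfl⟩).eq
  have hSval : ∀ x ∈ S, ∃ c ∈ B0, ∃ t ∈ P, x = c * ι t := by
    intro x hx
    obtain ⟨c, hc, q, hq, rfl⟩ := CfsgLib.Coprime.mem_sup_exists hnorm hx
    obtain ⟨t, ht, rfl⟩ := hq
    exact ⟨c, hc, t, ht, rfl⟩
  have hS2 : ∀ x ∈ S, x ^ 2 = 1 := by
    intro x hx
    obtain ⟨c, hc, t, ht, rfl⟩ := hSval x hx
    rw [(hB0c c hc t).2.mul_pow, hBel.2 c hc.1, one_mul, ← map_pow, hP2 t ht, map_one]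
  have hSc : ∀ x ∈ S, ∀ y ∈ S, Commute x y := by
    intro x hx y hy
    obtain ⟨c, hc, t, ht, rfl⟩ := hSval x hx
    obtain ⟨d, hd, u, hu, rfl⟩ := hSval y hy
    exact ((hBc c hc.1 d hd.1).mul_left (hB0c d hd t).2.symm).mul_right
      ((hB0c c hc u).2.mul_left ((hPc t ht u hu).map ι))
  obtain ⟨k, hk⟩ := IsPGroup.iff_card.1
    (fun x : B => ⟨1, Subtype.ext (by simpa using hBel.2 x x.2)⟩ : IsPGroup 2 B)
  have hrank : Cfsg.PRankLE 2 k ↥(Ca ⊓ Subgroup.centralizer (K : Set G)) := by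
    intro U hU hU2
    rw [← hk, ← Subgroup.card_map_of_injective (Subgroup.subtype_injective _)]
    refine hBmax _ (Subgroup.map_subtype_le U) ⟨⟨⟨?_⟩⟩, ?_⟩
    · rintro ⟨_, x, hx, rfl⟩ ⟨_, y, hy, rfl⟩
      exact Subtype.ext (congrArg (fun q : U => ((q : ↥(Ca ⊓ Subgroup.centralizer (K : Set G))) : G))
        (hU.is_comm.comm ⟨x, hx⟩ ⟨y, hy⟩))
    · rintro _ ⟨x, hx, rfl⟩
      rw [← map_pow, hU2 x hx, map_one]
  have hle := (hcomp L hD.comp).2 (hD.card_eq.trans hcardK) k hrank (S.subgroupOf _)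
    ⟨⟨fun x y => Subtype.ext (Subtype.ext (hSc _ x.2 _ y.2))⟩⟩
    (fun x hx => Subtype.ext (hS2 _ hx))
  rw [Nat.card_congr (Subgroup.subgroupOfEquivOfLe hSY).toEquiv, ← hk, hS,
    CfsgLib.CFun.ZLen.card_sup_eq hnorm hinf, hPa, Subgroup.card_map_of_injective hι, hPcard] at hle
  have hpos : 0 < Nat.card B0 := Nat.card_pos
  have h3 : Nat.card B0 * 3 ≤ Nat.card B0 * Nat.card W := Nat.mul_le_mul_left _ (by omega)
  omega

end Cfsg.Agent.S1305
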