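import Cfsg.Statements.S1306
import Cfsg.Agent.Lib.Coprime.Component
import Cfsg.Agent.Lib.Coprime.Action
import Mathlib.Tactic.Group

set_option autoImplicit false
open Cfsg

namespace Cfsg.Agent.S1306

open Subgroup CfsgLib.Coprime

variable {G : Type*} [Group G] [Finite G]

theorem standard (x : G) (hx : orderOf x = 2) (L : Subgroup G)
    (hLx : L ≤ centralizer ({x} : Set G))
    (hL : Cfsg.IsComponent (L.subgroupOf (centralizer ({x} : Set G))))
    (hne : ∀ y : G, orderOf y = 2 → y ∈ centralizer (L : Set G) → L ≤ centralizer ({y} : Set G) ∧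
      Cfsg.IsComponent (L.subgroupOf (centralizer ({y} : Set G))))
    (hnc : ∀ g : G, L.map (MulAut.conj g).toMonoidHom ≠ L →
      ⁅L, L.map (MulAut.conj g).toMonoidHom⁆ ≠ ⊥) : Cfsg.IsStandardSubgroup L := by
  set C := centralizer (L : Set G) with hC
  have hxC : x ∈ C := mem_centralizer_iff.2 fun l hl => mem_centralizer_singleton_iff.1 (hLx hl)
  have heq : ∀ g y : G, orderOf y = 2 → y ∈ C → g⁻¹ * y * g ∈ C →
      L.map (MulAut.conj g).toMonoidHom = L := by
    intro g y hy hyC hzC
    set z := g⁻¹ * y * g with hz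
    have hz2 : orderOf z = 2 := by
      rw [← hy, hz, show g⁻¹ * y * g = (MulAut.conj g⁻¹).toMonoidHom y by simp,
        orderOf_injective _ (MulAut.conj g⁻¹).injective]
    obtain ⟨hLy, hLyc⟩ := hne y hy hyC
    obtain ⟨hLz, hLzc⟩ := hne z hz2 hzC
    have hmapc : (centralizer ({z} : Set G)).map (MulAut.conj g).toMonoidHom =
        centralizer ({y} : Set G) := by
      ext w
      simp only [mem_map, mem_centralizer_singleton_iff]
      constructor
      · rintro ⟨v, hv, rfl⟩
        show g * v * g⁻¹ * y = y * (g * v * g⁻¹)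
        calc g * v * g⁻¹ * y = g * (v * z) * g⁻¹ := by rw [hz]; group
          _ = y * (g * v * g⁻¹) := by rw [hv, hz]; group
      · intro hw
        refine ⟨g⁻¹ * w * g, ?_, by show g * (g⁻¹ * w * g) * g⁻¹ = w; group⟩
        calc g⁻¹ * w * g * z = g⁻¹ * (w * y) * g := by rw [hz]; group
          _ = z * (g⁻¹ * w * g) := by rw [hw, hz]; group
    let e := ((MulAut.conj g).subgroupMap (centralizer ({z} : Set G))).trans
      (MulEquiv.subgroupCongr hmapc)
    have hK := isComponent_map_equiv e hLzc
    have hle : L.map (MulAut.conj g).toMonoidHom ≤ centralizer ({y} : Set G) :=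
      hmapc ▸ Subgroup.map_mono hLz
    have hmap : ((L.subgroupOf (centralizer ({z} : Set G))).map e.toMonoidHom) =
        (L.map (MulAut.conj g).toMonoidHom).subgroupOf (centralizer ({y} : Set G)) := by
      ext w
      constructor
      · rintro ⟨v, hv, rfl⟩
        exact ⟨v, hv, rfl⟩
      · rintro ⟨v, hv, hvw⟩
        exact ⟨⟨v, hLz hv⟩, hv, Subtype.ext hvw⟩
    rw [hmap] at hK
    by_contra hg
    refine hnc g hg ?_
    have hne' : (L.map (MulAut.conj g).toMonoidHom).subgroupOf (centralizer ({y} : Set G)) ≠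
        L.subgroupOf (centralizer ({y} : Set G)) := fun h => hg (by
      rw [← map_subgroupOf_eq_of_le hle, h, map_subgroupOf_eq_of_le hLy])
    have h := congrArg (Subgroup.map (centralizer ({y} : Set G)).subtype)
      (components_commute hLyc hK hne'.symm)
    rwa [map_commutator, map_subgroupOf_eq_of_le hle, map_subgroupOf_eq_of_le hLy,
      Subgroup.map_bot] at h
  have hnorm : normalizer (L : Set G) = normalizer (C : Set G) := by
    refine le_antisymm (normalizer_le_normalizer_centralizer L) fun g hg => ?_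
    refine conj_smul_eq_iff.1 (heq g x hx hxC ?_)
    simpa using (mem_normalizer_iff.1 ((normalizer (C : Set G)).inv_mem hg) x).1 hxC
  refine ⟨isQuasisimple_congr (subgroupOfEquivOfLe hLx) hL.2, ⟨?_, fun g hg => ?_⟩, hnc, hnorm⟩
  · exact even_iff_two_dvd.2 (hx ▸ orderOf_dvd_natCard C hxC)
  · by_contra hodd
    rw [Nat.not_odd_iff_even, even_iff_two_dvd] at hodd
    haveI : Fact (Nat.Prime 2) := ⟨Nat.prime_two⟩
    obtain ⟨w, hw⟩ := exists_prime_orderOf_dvd_card' 2 hodd
    rw [← Subgroup.orderOf_coe] at hw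
    obtain ⟨y, hy1, v, hv, hvy⟩ := w
    have hy2 : orderOf y = 2 := hw
    refine hg ?_
    rw [← hnorm]
    refine conj_smul_eq_iff.1 (heq g y hy2 hy1 ?_)
    rwa [← hvy, show g⁻¹ * ((MulAut.conj g).toMonoidHom v) * g = v by simp [mul_assoc]]
where
  conj_smul_eq_iff {L : Subgroup G} {g : G} :
      L.map (MulAut.conj g).toMonoidHom = L ↔ g ∈ normalizer (L : Set G) := by
    rw [mem_normalizer_iff]
    constructor
    · intro h y
      constructor
      · intro hy; rw [← h]; exact ⟨y, hy, rfl⟩
      · intro hy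
        rw [← h] at hy
        obtain ⟨v, hv, e⟩ := hy
        exact (MulAut.conj g).injective e ▸ hv
    · intro h
      ext y
      constructor
      · rintro ⟨v, hv, rfl⟩; exact (h v).1 hv
      · intro hy
        exact ⟨g⁻¹ * y * g, (h _).2 (by simpa [mul_assoc] using hy), by simp [mul_assoc]⟩


/-- Let G be finite, x an involution and L ≤ C_G(x) a component of C_G(x). Suppose L is a component of C_G(y) for every involution y ∈ C_G(L), and ⁅L, g L g⁻¹⁆ ≠ 1 whenever g L g⁻¹ ≠ L. Then L is a standard subgroup of G. -/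
theorem result {G : Type*} [Group G] [Finite G] (x : G) (hx : orderOf x = 2) (L : Subgroup G) (hLx : L ≤ Subgroup.centralizer ({x} : Set G)) (hL : Cfsg.IsComponent (L.subgroupOf (Subgroup.centralizer ({x} : Set G)))) (hne : ∀ y : G, orderOf y = 2 → y ∈ Subgroup.centralizer (L : Set G) → L ≤ Subgroup.centralizer ({y} : Set G) ∧ Cfsg.IsComponent (L.subgroupOf (Subgroup.centralizer ({y} : Set G)))) (hnc : ∀ g : G, L.map (MulAut.conj g).toMonoidHom ≠ L → ⁅L, L.map (MulAut.conj g).toMonoidHom⁆ ≠ ⊥) : Cfsg.IsStandardSubgroup L := by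
  exact standard x hx L hLx hL hne hnc

end Cfsg.Agent.S1306
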