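import Cfsg.Statements.S1307
import Cfsg.Agent.Lib.Coprime.UniqueOrderP
import Cfsg.Agent.Lib.Invol.BrauerSuzuki
import Cfsg.Agent.Lib.Invol.KleinPair
import Cfsg.Agent.Lib.Invol.PTerminal.Orbit

set_option autoImplicit false
open Cfsg

namespace Cfsg.Agent.S1307

/-- Let G be finite, x an involution and L ≤ C_G(x) a component of C_G(x) of even order and 2-rank 1, such that L is a component of C_G(y) for every involution y ∈ C_G(L). Then some involution of L is a classical involution of G. -/
theorem result {G : Type*} [Group G] [Finite G] (x : G) (hx : orderOf x = 2) (L : Subgroup G) (hLx : L ≤ Subgroup.centralizer ({x} : Set G)) (hL : Cfsg.IsComponent (L.subgroupOf (Subgroup.centralizer ({x} : Set G)))) (heven : Even (Nat.card ↥L)) (hrk : Cfsg.PRankLE 2 1 ↥L) (hne : ∀ y : G, orderOf y = 2 → y ∈ Subgroup.centralizer (L : Set G) → L ≤ Subgroup.centralizer ({y} : Set G) ∧ Cfsg.IsComponent (L.subgroupOf (Subgroup.centralizer ({y} : Set G)))) : ∃ t ∈ L, Cfsg.IsClassicalInvolution t := by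
  haveI : Fact (Nat.Prime 2) := ⟨Nat.prime_two⟩
  have hq : Cfsg.IsQuasisimple ↥L :=
    CfsgLib.Coprime.isQuasisimple_congr (Subgroup.subgroupOfEquivOfLe hLx) hL.2
  haveI := hq.1
  have hnk : ∀ E : Subgroup L, ¬ IsKleinFour E := by
    intro E hE
    haveI := hE
    have hsq : ∀ u : E, u * u = 1 := fun u => by
      rw [← pow_two, ← hE.exponent_two]; exact Monoid.pow_exponent_eq_one u
    have hinv : ∀ u : E, u⁻¹ = u := fun u => inv_eq_of_mul_eq_one_right (hsq u)
    have h1 := hrk E ⟨⟨fun a b => by
      calc a * b = (a * b)⁻¹ := (hinv _).symm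
        _ = b * a := by rw [mul_inv_rev, hinv, hinv]⟩⟩
      fun u hu => by rw [pow_two]; exact congrArg Subtype.val (hsq ⟨u, hu⟩)
    rw [hE.card_four] at h1
    omega
  obtain ⟨z, hz, hzc⟩ := CfsgLib.Invol.exists_zcentral_of_no_klein (G := L) heven hnk
  have hO : Cfsg.pPrimeCore 2 ↥L ≤ Subgroup.center ↥L := by
    haveI := CfsgLib.Coprime.pPrimeCore_characteristic (G := ↥L) 2
    refine (CfsgLib.Coprime.subnormal_eq_top_or_le_center hq
      (Subgroup.Normal.isSubnormal inferInstance)).resolve_left fun e => ?_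
    have h := CfsgLib.Coprime.pPrimeCore_not_dvd (G := ↥L) Nat.prime_two
    rw [e, Subgroup.card_top] at h
    exact h heven.two_dvd
  have hzcen : z ∈ Subgroup.center ↥L := by
    refine CfsgLib.Invol.PTerminal.mem_center_of_commutator_mem hq fun t => hO ?_
    rw [commutatorElement_def]
    exact hzc t
  have hall : ∀ u : L, u ^ 2 = 1 → u ≠ 1 → u = z := by
    intro u hu hu1
    by_contra hne'
    exact hnk _ (CfsgLib.Invol.isKleinFour_closure_pair (orderOf_eq_prime hu hu1) hz hne'
      (Subgroup.mem_center_iff.1 hzcen u))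
  have hz2 : orderOf (z : G) = 2 := by rw [Subgroup.orderOf_coe]; exact hz
  have hzL : (z : G) ∈ Subgroup.centralizer (L : Set G) := Subgroup.mem_centralizer_iff.2 fun u hu =>
    congrArg Subtype.val (Subgroup.mem_center_iff.1 hzcen ⟨u, hu⟩)
  obtain ⟨hLz, hLzc⟩ := hne _ hz2 hzL
  obtain ⟨S⟩ : Nonempty (Sylow 2 ↥L) := inferInstance
  have hu : CfsgLib.Coprime.UniqueOrderP 2 (S : Subgroup L) := by
    intro a b ha hb ha1
    by_cases hb1 : b = 1
    · rw [hb1]; exact Subgroup.one_mem _
    · have e1 := hall (a : L) (congrArg Subtype.val ha) fun e => ha1 (Subtype.ext e)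
      have e2 := hall (b : L) (congrArg Subtype.val hb) fun e => hb1 (Subtype.ext e)
      rw [show b = a from Subtype.ext (e2.trans e1.symm)]
      exact Subgroup.mem_zpowers a
  have hncyc : ¬ IsCyclic (S : Subgroup L) := by
    intro hc
    have hmin : (Nat.card L).minFac = 2 := Nat.minFac_eq_two_iff _ |>.2 heven.two_dvd
    have hcomp := hc.isComplement' hmin
    have htop : (MonoidHom.transferSylow S (hc.normalizer_le_centralizer hmin)).ker = ⊤ := by
      refine top_unique (le_trans (le_of_eq (Group.IsPerfect.commutator_eq_top (G := L)).symm) ?_)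
      rw [commutator_def, Subgroup.commutator_le]
      intro a _ b _
      rw [MonoidHom.mem_ker, map_commutatorElement, commutatorElement_eq_one_iff_mul_comm]
      exact hc.commutative.is_comm.comm _ _
    rw [htop, Subgroup.isComplement'_top_left] at hcomp
    have h := S.dvd_card_of_dvd_card heven.two_dvd
    rw [hcomp, Subgroup.card_bot] at h
    omega
  obtain ⟨n, hn⟩ := (CfsgLib.Coprime.cyclic_or_quaternion_of_unique_two S.2 hu).resolve_left hncyc
  refine ⟨z, z.2, hz2, L, hLz, z.2, hLzc.1, S, ?_⟩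
  rcases n with _ | m
  · obtain ⟨e⟩ := hn
    haveI : IsCyclic (QuaternionGroup (2 ^ 0)) := QuaternionGroup.quaternionGroup_one_isCyclic
    exact absurd (isCyclic_of_surjective e.symm.toMonoidHom e.symm.surjective) hncyc
  · exact ⟨m, hn⟩

end Cfsg.Agent.S1307
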