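import Cfsg.Statements.S1312
import Cfsg.Agent.Lib.Coprime.BenderPair

set_option autoImplicit false
open Cfsg

namespace Cfsg.Agent.S1312

/-- Let G be a non-abelian finite simple group and M ≠ N maximal subgroups of G with F*(M) ≤ N and F*(N) ≤ M. Then there is a prime p such that F*(M) and F*(N) are both p-groups. -/
theorem result {G : Type*} [Group G] [Finite G] [IsSimpleGroup G] (hna : ¬ IsMulCommutative G) (M N : Subgroup G) (hM : IsCoatom M) (hN : IsCoatom N) (hMN : M ≠ N) (h1 : (Cfsg.generalizedFittingSubgroup ↥M).map M.subtype ≤ N) (h2 : (Cfsg.generalizedFittingSubgroup ↥N).map N.subtype ≤ M) : ∃ p : ℕ, p.Prime ∧ IsPGroup p ↥(Cfsg.generalizedFittingSubgroup ↥M) ∧ IsPGroup p ↥(Cfsg.generalizedFittingSubgroup ↥N) := by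
  have hnorm : ∀ (A X : Subgroup G), IsCoatom X → A ≠ ⊥ → A ≤ X →
      X ≤ Subgroup.normalizer (A : Set G) → Subgroup.normalizer (A : Set G) = X := by
    intro A X hX hA hle hn
    rcases eq_or_lt_of_le hn with e | e
    · exact e.symm
    · exfalso
      haveI : A.Normal := Subgroup.normalizer_eq_top_iff.1 (hX.2 _ e)
      rcases (inferInstance : A.Normal).eq_bot_or_eq_top with h | h
      · exact hA h
      · exact hX.1 (top_le_iff.1 (h ▸ hle))
  have hP : CfsgLib.Coprime.BenderPair.Pair M N := fun A hA hle =>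
    ⟨fun h => by rw [hnorm A M hM hA (hle.trans inf_le_left) h, inf_comm],
      fun h => by rw [hnorm A N hN hA (hle.trans inf_le_right) h]⟩
  obtain ⟨p, hp, e₁, e₂⟩ := CfsgLib.Coprime.BenderPair.bender_pair hMN hP h1 h2
  haveI := Fact.mk hp
  exact ⟨p, hp, e₁ ▸ CfsgLib.Coprime.pCore_isPGroup p, e₂ ▸ CfsgLib.Coprime.pCore_isPGroup p⟩

end Cfsg.Agent.S1312
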