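import Cfsg.Statements.S1313
import Cfsg.Agent.Lib.Coprime.Component

set_option autoImplicit false
open Cfsg

namespace Cfsg.Agent.S1313

/-- For a finite group H, |H| ≤ |F*(H)|!. -/
theorem result {H : Type*} [Group H] [Finite H] : Nat.card H ≤ Nat.factorial (Nat.card ↥(Cfsg.generalizedFittingSubgroup H)) := by
  open Subgroup CfsgLib.Coprime in
  classical
  set F := Cfsg.generalizedFittingSubgroup H with hF
  haveI : F.Normal := generalizedFitting_normal
  have := Fintype.ofFinite F
  let φ : H →* MulAut F := MulAut.conjNormal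
  have hker : φ.ker ≤ F := by
    intro h hh
    refine centralizer_generalizedFitting_le (mem_centralizer_iff.2 fun x hx => ?_)
    have h1 : ((φ h) ⟨x, hx⟩ : H) = x := by rw [MonoidHom.mem_ker.1 hh]; rfl
    rw [MulAut.conjNormal_apply, mul_inv_eq_iff_eq_mul] at h1
    exact h1.symm
  have hcard : Nat.card H ≤ Nat.card F * Nat.card φ.range := by
    rw [← card_mul_index φ.ker, index_ker]
    exact Nat.mul_le_mul_right _ (card_le_of_le hker)
  let ψ : MulAut F → Equiv.Perm {x : F // x ≠ 1} := fun a =>
    a.toEquiv.subtypeEquiv fun x => by simp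
  have hψ : Function.Injective ψ := by
    intro a b hab
    ext x
    by_cases hx : x = 1
    · simp [hx]
    · have := congrArg (fun e : Equiv.Perm {x : F // x ≠ 1} => ((e ⟨x, hx⟩ : F) : H)) hab
      exact this
  have h2 : Nat.card φ.range ≤ (Nat.card F - 1).factorial := by
    refine (card_le_card_group φ.range).trans ((Nat.card_le_card_of_injective ψ hψ).trans (le_of_eq ?_))
    rw [Nat.card_eq_fintype_card, Fintype.card_perm]
    congr 1
    rw [Fintype.card_subtype_compl, Fintype.card_subtype_eq, Nat.card_eq_fintype_card]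
  calc Nat.card H ≤ Nat.card F * Nat.card φ.range := hcard
    _ ≤ Nat.card F * (Nat.card F - 1).factorial := Nat.mul_le_mul_left _ h2
    _ = (Nat.card F).factorial := Nat.mul_factorial_pred Nat.card_pos.ne'

end Cfsg.Agent.S1313
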