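import Cfsg.Statements.S1314
import Mathlib.GroupTheory.Commutator.Basic
import Cfsg.Agent.Lib.Coprime.Action

set_option autoImplicit false
open Cfsg

namespace Cfsg.Agent.S1314

open scoped commutatorElement Pointwise

/-- Let x be an involution of a group G and L a perfect subgroup with ⁅L, x L x⁻¹⁆ = 1. Then l ↦ l (x l x⁻¹) is a group homomorphism π from L to G whose kernel is central in L and whose image lies in C_G(x); and the commutator subgroup of C_{L ⊔ xLx⁻¹}(x) equals the image of π. -/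
theorem result {G : Type*} [Group G] [Finite G] (x : G) (hx : orderOf x = 2) (L : Subgroup G) (hperf : ⁅L, L⁆ = L) (hcomm : ⁅L, L.map (MulAut.conj x).toMonoidHom⁆ = ⊥) : ∃ π : ↥L →* G, (∀ l : ↥L, π l = (l : G) * (x * (l : G) * x⁻¹)) ∧ π.ker ≤ Subgroup.center ↥L ∧ π.range ≤ Subgroup.centralizer ({x} : Set G) ∧ ⁅(L ⊔ L.map (MulAut.conj x).toMonoidHom) ⊓ Subgroup.centralizer ({x} : Set G), (L ⊔ L.map (MulAut.conj x).toMonoidHom) ⊓ Subgroup.centralizer ({x} : Set G)⁆ = π.range := by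
  set L' := L.map (MulAut.conj x).toMonoidHom with hL'
  have hc : ∀ a ∈ L, ∀ b ∈ L, Commute a (x * b * x⁻¹) := fun a ha b hb =>
    (commutatorElement_eq_one_iff_mul_comm.1 (Subgroup.mem_bot.1 (hcomm ▸
      Subgroup.commutator_mem_commutator ha (Subgroup.mem_map_of_mem _ hb))))
  have hxx : x * x = 1 := by rw [← pow_two, ← hx, pow_orderOf_eq_one]
  have hxi : x⁻¹ = x := inv_eq_of_mul_eq_one_right hxx
  let π : ↥L →* G := MonoidHom.mk' (fun l => (l : G) * (x * (l : G) * x⁻¹)) fun a b => by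
    have h := hc b b.2 a a.2
    calc ((a * b : L) : G) * (x * ((a * b : L) : G) * x⁻¹)
        = (a : G) * ((b : G) * (x * (a : G) * x⁻¹)) * (x * (b : G) * x⁻¹) := by
          rw [Subgroup.coe_mul]; group
      _ = (a : G) * ((x * (a : G) * x⁻¹) * (b : G)) * (x * (b : G) * x⁻¹) := by rw [h.eq]
      _ = _ := by group
  have hrC : π.range ≤ Subgroup.centralizer ({x} : Set G) := by
    rintro _ ⟨l, rfl⟩
    rw [Subgroup.mem_centralizer_singleton_iff]
    show (l : G) * (x * (l : G) * x⁻¹) * x = x * ((l : G) * (x * (l : G) * x⁻¹))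
    calc (l : G) * (x * (l : G) * x⁻¹) * x = (x * (l : G) * x⁻¹) * (l : G) * x := by
          rw [(hc l l.2 l l.2).eq]
      _ = x * ((l : G) * (x⁻¹ * (l : G) * x)) := by group
      _ = _ := by rw [hxi]
  have hperf' : ⁅π.range, π.range⁆ = π.range := by
    have h : L.subtype.range = L := L.range_subtype
    have h1 : (⁅(⊤ : Subgroup L), ⊤⁆) = ⊤ :=
      Subgroup.map_injective L.subtype_injective (by
        rw [Subgroup.map_commutator, ← MonoidHom.range_eq_map, h, hperf])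
    rw [MonoidHom.range_eq_map, ← Subgroup.map_commutator, h1]
  refine ⟨π, fun l => rfl, fun k hk => Subgroup.mem_center_iff.2 fun a => ?_, hrC, ?_⟩
  · have hk' : (k : G) = (x * (k : G) * x⁻¹)⁻¹ := eq_inv_of_mul_eq_one_left hk
    refine Subtype.ext ?_
    show (a : G) * k = k * a
    have := (hc a a.2 k k.2).inv_right
    rw [← hk'] at this
    exact this.eq
  · set X := L ⊔ L' with hX
    set C := X ⊓ Subgroup.centralizer ({x} : Set G) with hC
    have hLX : L ≤ X := le_sup_left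
    have hrX : π.range ≤ C := le_inf (by
      rintro _ ⟨l, rfl⟩
      exact X.mul_mem (hLX l.2) (Subgroup.mem_sup_right (Subgroup.mem_map_of_mem _ l.2))) hrC
    refine le_antisymm ?_ (hperf'.ge.trans (Subgroup.commutator_mono hrX hrX))
    -- every element of C is π(l) times a central element of X
    have hdec : ∀ c ∈ C, ∃ r ∈ π.range, ∃ w : G, (∀ y ∈ X, Commute w y) ∧ c = r * w := by
      rintro c ⟨hcX, hcx⟩
      have hnorm : L' ≤ Subgroup.normalizer (L : Set G) := by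
        rintro _ ⟨b, hb, rfl⟩
        refine Subgroup.mem_normalizer_iff.2 fun g => ?_
        simp only [MulEquiv.coe_toMonoidHom, MulAut.conj_apply]
        constructor
        · intro hg
          rwa [← (hc g hg b hb).eq, mul_inv_cancel_right]
        · intro hg
          have h := (hc _ hg b hb).eq
          rw [inv_mul_cancel_right] at h
          exact (mul_left_cancel h) ▸ hg
      obtain ⟨a, ha, _, ⟨b, hb, rfl⟩, e⟩ := CfsgLib.Coprime.mem_sup_exists hnorm hcX
      subst e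
      simp only [MulEquiv.coe_toMonoidHom, MulAut.conj_apply, SetLike.mem_coe] at hcx hb ha ⊢
      replace hcx : a * (x * b * x⁻¹) * x = x * (a * (x * b * x⁻¹)) :=
        Subgroup.mem_centralizer_singleton_iff.1 hcx
      have hfix : (x * a * x⁻¹) * b = a * (x * b * x⁻¹) := by
        calc (x * a * x⁻¹) * b = x * (a * (x⁻¹ * b * x)) * x⁻¹ := by group
          _ = (x * (a * (x * b * x⁻¹))) * x⁻¹ := by rw [hxi]
          _ = _ := by rw [← hcx, mul_inv_cancel_right]
      have hL : x * (a⁻¹ * b) * x⁻¹ = b * a⁻¹ := by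
        have h := (hc b hb a ha).eq
        have h2 : a⁻¹ * b = x * (b * a⁻¹) * x⁻¹ := by
          calc a⁻¹ * b = a⁻¹ * (b * (x * a * x⁻¹)) * (x * a * x⁻¹)⁻¹ := by group
            _ = a⁻¹ * (a * (x * b * x⁻¹)) * (x * a * x⁻¹)⁻¹ := by rw [h, hfix]
            _ = _ := by group
        calc x * (a⁻¹ * b) * x⁻¹ = (x * x) * (b * a⁻¹) * (x⁻¹ * x⁻¹) := by rw [h2]; group
          _ = b * a⁻¹ := by rw [hxx, hxi, hxx, one_mul, mul_one]
      refine ⟨π ⟨a, ha⟩, ⟨_, rfl⟩, x * (a⁻¹ * b) * x⁻¹, fun y hy => ?_, ?_⟩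
      · have hle : X ≤ Subgroup.centralizer ({x * (a⁻¹ * b) * x⁻¹} : Set G) := by
          refine sup_le (fun l hl => ?_) ?_
          · rw [Subgroup.mem_centralizer_singleton_iff]
            exact (hc l hl _ (L.mul_mem (L.inv_mem ha) hb)).eq
          · rintro _ ⟨l, hl, rfl⟩
            rw [Subgroup.mem_centralizer_singleton_iff, hL]
            exact (hc _ (L.mul_mem hb (L.inv_mem ha)) l hl).eq.symm
        exact (Subgroup.mem_centralizer_singleton_iff.1 (hle hy)).symm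
      · show a * (x * b * x⁻¹) = a * (x * a * x⁻¹) * (x * (a⁻¹ * b) * x⁻¹)
        group
    refine Subgroup.commutator_le.2 fun c₁ h₁ c₂ h₂ => ?_
    obtain ⟨r₁, hr₁, w₁, hw₁, rfl⟩ := hdec c₁ h₁
    obtain ⟨r₂, hr₂, w₂, hw₂, rfl⟩ := hdec c₂ h₂
    have hX1 : r₁ ∈ X := (hrX hr₁).1
    have hX2 : r₂ ∈ X := (hrX hr₂).1
    have hw2X : w₂ ∈ X := by simpa using X.mul_mem (X.inv_mem hX2) h₂.1
    have e : ⁅r₁ * w₁, r₂ * w₂⁆ = ⁅r₁, r₂⁆ := by
      have q1 := (hw₁ _ (X.mul_mem hX2 hw2X)).eq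
      have q2 := (hw₂ _ hX1).eq
      simp only [commutatorElement_def]
      calc r₁ * w₁ * (r₂ * w₂) * (r₁ * w₁)⁻¹ * (r₂ * w₂)⁻¹
          = r₁ * ((w₁ * (r₂ * w₂)) * w₁⁻¹) * r₁⁻¹ * w₂⁻¹ * r₂⁻¹ := by group
        _ = r₁ * r₂ * ((w₂ * r₁⁻¹) * w₂⁻¹) * r₂⁻¹ := by rw [q1]; group
        _ = r₁ * r₂ * r₁⁻¹ * r₂⁻¹ := by rw [(hw₂ _ (X.inv_mem hX1)).eq]; group
    rw [e]
    exact π.range.mul_mem (π.range.mul_mem (π.range.mul_mem hr₁ hr₂) (π.range.inv_mem hr₁))
      (π.range.inv_mem hr₂)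

end Cfsg.Agent.S1314
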