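import Cfsg.Statements.S1316
import Cfsg.Agent.Lib.Coprime.Component

set_option autoImplicit false
open Cfsg

namespace Cfsg.Agent.S1316

/-- For a finite group X, E(X) equals the intersection of the derived series of F*(X) (its last term). -/
theorem result {X : Type*} [Group X] [Finite X] : (⨅ n : ℕ, (derivedSeries ↥(Cfsg.generalizedFittingSubgroup X) n).map (Cfsg.generalizedFittingSubgroup X).subtype) = Cfsg.layer X := by
  open Subgroup CfsgLib.Coprime in
  set F := Cfsg.generalizedFittingSubgroup X with hF
  refine le_antisymm ?_ (le_iInf fun n => ?_)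
  · haveI := layer_normal (G := X)
    haveI := fitting_isNilpotent (G := X)
    let f : Cfsg.fittingSubgroup X →* X ⧸ Cfsg.layer X :=
      (QuotientGroup.mk' _).comp (Cfsg.fittingSubgroup X).subtype
    haveI : Group.IsSolvable f.range :=
      Group.isSolvable_of_surjective f.rangeRestrict_surjective
    have hr : ((QuotientGroup.mk' (Cfsg.layer X)).comp F.subtype).range ≤ f.range := by
      rintro _ ⟨⟨x, hx⟩, rfl⟩
      obtain ⟨e, he, w, hw, rfl⟩ := exists_mul_of_mem_generalizedFitting hx
      refine ⟨⟨w, hw⟩, ?_⟩
      show ((w : X) : X ⧸ Cfsg.layer X) = ((e * w : X) : X ⧸ Cfsg.layer X)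
      rw [QuotientGroup.mk_mul, (QuotientGroup.eq_one_iff e).2 he, one_mul]
    let g : F →* f.range := ((QuotientGroup.mk' (Cfsg.layer X)).comp F.subtype).codRestrict _
      fun x => hr ⟨x, rfl⟩
    obtain ⟨n, hn⟩ := Group.IsSolvable.solvable (G := f.range)
    refine (iInf_le _ n).trans ?_
    rintro _ ⟨x, hx, rfl⟩
    have h1 := map_derivedSeries_le_derivedSeries g n (mem_map_of_mem g hx)
    rw [hn, mem_bot] at h1
    exact (QuotientGroup.eq_one_iff _).1 (congrArg Subtype.val h1)
  · induction n with
    | zero => rw [derivedSeries_zero, ← MonoidHom.range_eq_map, range_subtype]; exact le_sup_left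
    | succ n ih =>
      rw [derivedSeries_succ, map_commutator, ← layer_isPerfect]
      exact commutator_mono ih ih

end Cfsg.Agent.S1316
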