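import Cfsg.Statements.S1317
import Cfsg.Agent.Lib.Coprime.Component

set_option autoImplicit false
open Cfsg

namespace Cfsg.Agent.S1317

/-- For a finite group X, the centre of the layer E(X) is F(X) ∩ E(X). -/
theorem result {X : Type*} [Group X] [Finite X] : (Subgroup.center ↥(Cfsg.layer X)).map (Cfsg.layer X).subtype = Cfsg.fittingSubgroup X ⊓ Cfsg.layer X := by
  rw [← CfsgLib.Coprime.layer_inf_centralizer_layer_eq]
  refine le_antisymm ?_ fun x hx => ⟨⟨x, hx.1⟩, Subgroup.mem_center_iff.2 fun y =>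
    Subtype.ext (Subgroup.mem_centralizer_iff.1 hx.2 y y.2), rfl⟩
  rintro _ ⟨x, hx, rfl⟩
  exact ⟨x.2, Subgroup.mem_centralizer_iff.2 fun y hy =>
    congrArg Subtype.val (Subgroup.mem_center_iff.1 hx ⟨y, hy⟩)⟩

end Cfsg.Agent.S1317
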