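import Cfsg.Statements.S1318
import Cfsg.Agent.Lib.Coprime.Component
import Cfsg.Agent.Lib.Coprime.Action

set_option autoImplicit false
open Cfsg

namespace Cfsg.Agent.S1318

/-- Let X be finite and S ≤ F*(X) a subgroup subnormal in F*(X). Then F(S) = F(X) ∩ S (inside X) and S = F(S)E(S). -/
theorem result {X : Type*} [Group X] [Finite X] (S : Subgroup X) (hS : S ≤ Cfsg.generalizedFittingSubgroup X) (hsn : (S.subgroupOf (Cfsg.generalizedFittingSubgroup X)).IsSubnormal) : (Cfsg.fittingSubgroup ↥S).map S.subtype = Cfsg.fittingSubgroup X ⊓ S ∧ Cfsg.fittingSubgroup ↥S ⊔ Cfsg.layer ↥S = ⊤ := by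
  open CfsgLib.Coprime in
  haveI := generalizedFitting_normal (G := X)
  open CfsgLib.Coprime in
  have hSX : S.IsSubnormal := by
    have h := (isSubnormal_map_subtype_iff (Subgroup.Normal.isSubnormal
      (H := Cfsg.generalizedFittingSubgroup X) inferInstance) _).2 hsn
    rwa [Subgroup.map_subgroupOf_eq_of_le hS] at h
  haveI := CfsgLib.Coprime.fitting_normal (G := X)
  set F := Cfsg.fittingSubgroup X with hF
  have hFS : F.subgroupOf S ≤ Cfsg.fittingSubgroup ↥S := by
    haveI := CfsgLib.Coprime.fitting_isNilpotent (G := X)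
    refine CfsgLib.Coprime.le_fitting ?_
    exact (by
      let f : ↥(F.subgroupOf S) →* ↥F :=
        { toFun := fun x => ⟨((x : ↥S) : X), x.2⟩
          map_one' := rfl
          map_mul' := fun _ _ => rfl }
      exact Subgroup.isNilpotent_of_ker_le_center f ((f.ker_eq_bot_iff.2 fun a b h =>
        Subtype.ext (Subtype.ext (congrArg (Subtype.val (p := fun y => y ∈ F)) h))).le.trans bot_le))
  refine ⟨le_antisymm (le_inf (CfsgLib.Coprime.fitting_map_subtype_le_of_isSubnormal hSX)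
    (Subgroup.map_subtype_le _)) ?_, eq_top_iff.2 fun s _ => ?_⟩
  · rw [← Subgroup.subgroupOf_map_subtype]
    exact Subgroup.map_mono hFS
  set ES := sSup {K : Subgroup X | Cfsg.IsComponent K ∧ K ≤ S} with hES
  set E' := sSup {K : Subgroup X | Cfsg.IsComponent K ∧ ¬ K ≤ S} with hE'
  have hESS : ES ≤ S := sSup_le fun K hK => hK.2
  have hE'S : E' ≤ Subgroup.centralizer (S : Set X) := sSup_le fun K hK =>
    Subgroup.commutator_eq_bot_iff_le_centralizer.1
      ((CfsgLib.Coprime.component_le_or_commutator_eq_bot hK.1 hSX).resolve_left hK.2)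
  have hsup : Cfsg.layer X ≤ ES ⊔ E' := sSup_le fun K hK =>
    (em (K ≤ S)).elim (fun h => (le_sSup (show K ∈ {K : Subgroup X | Cfsg.IsComponent K ∧ K ≤ S} from
      ⟨hK, h⟩)).trans le_sup_left) fun h => (le_sSup (show K ∈ {K : Subgroup X |
        Cfsg.IsComponent K ∧ ¬ K ≤ S} from ⟨hK, h⟩)).trans le_sup_right
  have hEE : ES ⊔ E' ≤ Cfsg.layer X :=
    sup_le (sSup_le fun K hK => CfsgLib.Coprime.component_le_layer hK.1)
      (sSup_le fun K hK => CfsgLib.Coprime.component_le_layer hK.1)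
  have hE'N : E' ≤ Subgroup.normalizer (ES : Set X) :=
    (hE'S.trans (Subgroup.centralizer_le hESS)).trans
      (CfsgLib.Coprime.centralizer_le_normalizer_self ES)
  obtain ⟨e, he, f, hf, hef⟩ :=
    CfsgLib.Coprime.exists_mul_of_mem_generalizedFitting (hS s.2)
  obtain ⟨e1, he1, e2, he2, rfl⟩ := CfsgLib.Coprime.mem_sup_exists hE'N (hsup he)
  have hy : e2 * f ∈ S := by
    have := S.mul_mem (S.inv_mem (hESS he1)) s.2
    rwa [← hef, mul_assoc, inv_mul_cancel_left] at this
  have hcF : ∀ x ∈ Cfsg.layer X, ∀ z ∈ F, x * z = z * x := fun x hx z hz =>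
    (Subgroup.mem_centralizer_iff.1 (CfsgLib.Coprime.layer_le_centralizer_fitting hx) z hz).symm
  have he2c : e2 ∈ Subgroup.centralizer (Cfsg.layer X : Set X) := by
    refine Subgroup.centralizer_le hsup ?_
    rw [SetLike.mem_coe.symm]
    refine Subgroup.mem_centralizer_iff.2 fun k hk' => ?_
    obtain ⟨k1, hk1, k, hk, rfl⟩ := CfsgLib.Coprime.mem_sup_exists hE'N hk'
    rw [mul_assoc]
    suffices hk2 : k * e2 = e2 * k by
      rw [hk2, ← mul_assoc, Subgroup.mem_centralizer_iff.1 (Subgroup.centralizer_le hESS (hE'S he2)) k1 hk1,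
        mul_assoc]
    have h1 : (e2 * f) * k = k * (e2 * f) :=
      (Subgroup.mem_centralizer_iff.1 (hE'S hk) _ hy)
    have h2 := hcF k (hEE (Subgroup.mem_sup_right hk)) f hf
    exact mul_right_cancel (b := f) (by rw [mul_assoc, mul_assoc, ← h1, mul_assoc, h2])
  have he2F : e2 ∈ F := by
    haveI := CfsgLib.Coprime.layer_normal (G := X)
    haveI : IsMulCommutative ↥(Cfsg.layer X ⊓ Subgroup.centralizer (Cfsg.layer X : Set X)) :=
      ⟨⟨fun a b => Subtype.ext (Subgroup.mem_centralizer_iff.1 b.2.2 a a.2.1)⟩⟩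
    haveI : (Cfsg.layer X ⊓ Subgroup.centralizer (Cfsg.layer X : Set X)).Normal := inferInstance
    haveI : Group.IsNilpotent ↥(Cfsg.layer X ⊓ Subgroup.centralizer (Cfsg.layer X : Set X)) := by
      letI : CommGroup ↥(Cfsg.layer X ⊓ Subgroup.centralizer (Cfsg.layer X : Set X)) :=
        { mul_comm := fun a b => mul_comm' a b }
      infer_instance
    exact CfsgLib.Coprime.le_fitting
      (N := Cfsg.layer X ⊓ Subgroup.centralizer (Cfsg.layer X : Set X)) inferInstance
      ⟨hEE (Subgroup.mem_sup_right he2), he2c⟩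
  have hs : s = ⟨e1, hESS he1⟩ * ⟨e2 * f, hy⟩ := Subtype.ext (by
    rw [Subgroup.coe_mul, ← hef, mul_assoc])
  rw [hs, sup_comm]
  refine Subgroup.mul_mem_sup ?_ (hFS (Subgroup.mem_subgroupOf.2 (F.mul_mem he2F hf)))
  have h3 : ES ≤ (Cfsg.layer ↥S).map S.subtype :=
    sSup_le fun K hK => CfsgLib.Coprime.component_le_layer_subgroup hK.1 hK.2
  obtain ⟨z, hz, hz'⟩ := h3 he1
  exact (Subtype.ext hz' : z = ⟨e1, hESS he1⟩) ▸ hz
end Cfsg.Agent.S1318
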