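import Cfsg.Statements.S1321
import Cfsg.Agent.Lib.Coprime.Component

set_option autoImplicit false
open Cfsg

namespace Cfsg.Agent.S1321

/-- Let X be finite and U ≤ X. Then E(X) is generated by C_{E(X)}(U) together with ⁅E(X), U⁆ (indeed it is their product, ⁅E(X), U⁆ being normal in E(X)). -/
theorem result {X : Type*} [Group X] [Finite X] (U : Subgroup X) : Cfsg.layer X = (Cfsg.layer X ⊓ Subgroup.centralizer (U : Set X)) ⊔ ⁅Cfsg.layer X, U⁆ ∧ ⁅Cfsg.layer X, U⁆ ≤ Cfsg.layer X := by
  haveI := CfsgLib.Coprime.layer_normal (G := X)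
  set E := Cfsg.layer X with hE
  have hle : ⁅E, U⁆ ≤ E := Subgroup.commutator_le_left E U
  refine ⟨le_antisymm (sSup_le fun K hK => ?_) (sup_le inf_le_left hle), hle⟩
  have hKE : K ≤ E := CfsgLib.Coprime.component_le_layer hK
  haveI : (⁅E, U⁆.subgroupOf E).Normal :=
    (Subgroup.normal_subgroupOf_iff_le_normalizer hle).2 (Subgroup.normalizer_commutator_ge_left _ _)
  have hsn : (⁅E, U⁆).IsSubnormal := by
    have h := (CfsgLib.Coprime.isSubnormal_map_subtype_iff
      (Subgroup.Normal.isSubnormal (H := E) inferInstance) _).2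
      (Subgroup.Normal.isSubnormal (H := ⁅E, U⁆.subgroupOf E) inferInstance)
    rwa [Subgroup.map_subgroupOf_eq_of_le hle] at h
  rcases CfsgLib.Coprime.component_le_or_commutator_eq_bot hK hsn with h | h
  · exact h.trans le_sup_right
  · refine le_trans ?_ le_sup_left
    refine le_inf hKE ?_
    rw [← Subgroup.commutator_eq_bot_iff_le_centralizer]
    have h1 : ⁅⁅K, U⁆, K⁆ = ⊥ := le_bot_iff.1 (by
      rw [Subgroup.commutator_comm, ← h]
      exact Subgroup.commutator_mono le_rfl (Subgroup.commutator_mono hKE le_rfl))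
    have h2 : ⁅⁅U, K⁆, K⁆ = ⊥ := by rwa [Subgroup.commutator_comm U K]
    have h3 := Subgroup.commutator_commutator_eq_bot_of_rotate h1 h2
    rwa [CfsgLib.Coprime.commutator_self_of_isComponent hK] at h3
end Cfsg.Agent.S1321
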