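import Cfsg.Statements.S1323
import Cfsg.Agent.Lib.Coprime.Component
import Mathlib

set_option autoImplicit false
open Cfsg

namespace Cfsg.Agent.S1323

open Equiv Subgroup
open scoped commutatorElement

/-- The three-cycle `x ↦ y ↦ z ↦ x`. -/
theorem exists_cycle {α : Type*} [Fintype α] [DecidableEq α] {x y z : α} (hxy : x ≠ y) (hxz : x ≠ z) (hyz : y ≠ z) :
    ∃ c : Perm α, c ∈ alternatingGroup α ∧ c x = y ∧ c y = z ∧ c z = x ∧
      ∀ w, w ≠ x → w ≠ y → w ≠ z → c w = w := by
  refine ⟨swap x y * swap y z, ?_, ?_, ?_, ?_, fun w h1 h2 h3 => ?_⟩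
  · rw [Perm.mem_alternatingGroup, Perm.sign_mul, Perm.sign_swap hxy, Perm.sign_swap hyz]; rfl
  · rw [Perm.mul_apply, swap_apply_of_ne_of_ne hxy hxz, swap_apply_left]
  · rw [Perm.mul_apply, swap_apply_left, swap_apply_of_ne_of_ne hxz.symm hyz.symm]
  · rw [Perm.mul_apply, swap_apply_right, swap_apply_right]
  · rw [Perm.mul_apply, swap_apply_of_ne_of_ne h2 h3, swap_apply_of_ne_of_ne h1 h2]

/-- An even permutation moving at most three points has cube one. -/
theorem cube_eq_one {α : Type*} [Fintype α] [DecidableEq α] {h : Perm α} (he : h ∈ alternatingGroup α)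
    (hc : h.support.card ≤ 3) : h ^ 3 = 1 := by
  rcases h.support.card.eq_zero_or_pos with h0 | h0
  · rw [Perm.card_support_eq_zero.1 h0, one_pow]
  have h1 : h.support.card ≠ 1 := Perm.card_support_ne_one _
  have h2 : h.support.card ≠ 2 := fun e => by
    have := (Perm.card_support_eq_two.1 e).sign_eq
    rw [Perm.mem_alternatingGroup] at he
    rw [he] at this
    exact absurd this (by decide)
  have h3 : h.support.card = 3 := by omega
  rw [← (card_support_eq_three_iff.1 h3).orderOf, pow_orderOf_eq_one]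

/-- For n ≥ 9, the subgroup of the alternating group on Fin n fixing each of the points 0, 1, 2, 3 is a standard subgroup. -/
theorem result (n : ℕ) (h4 : 4 ≤ n) (hn : 9 ≤ n) : Cfsg.IsStandardSubgroup (⨅ i : Fin 4, MulAction.stabilizer ↥(alternatingGroup (Fin n)) (Fin.castLE h4 i : Fin n)) := by
  classical
  set G := alternatingGroup (Fin n) with hG
  set L : Subgroup G := ⨅ i : Fin 4, MulAction.stabilizer G (Fin.castLE h4 i : Fin n) with hL
  have memL : ∀ g : G, g ∈ L ↔ ∀ x : Fin n, (x : ℕ) < 4 → (g : Perm (Fin n)) x = x := by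
    intro g
    rw [hL, Subgroup.mem_iInf]
    constructor
    · intro h x hx
      have := h ⟨x, hx⟩
      rw [MulAction.mem_stabilizer_iff] at this
      exact this
    · intro h i
      rw [MulAction.mem_stabilizer_iff]
      exact h _ i.2
  -- many points outside
  set D : Finset (Fin n) := Finset.univ.filter (fun x : Fin n => (x : ℕ) < 4) with hDdef
  have hD : D.card = 4 := by
    have : D = (Finset.univ : Finset (Fin 4)).map ⟨Fin.castLE h4, Fin.castLE_injective h4⟩ := by
      ext x
      simp only [hDdef, Finset.mem_filter, Finset.mem_univ, true_and, Finset.mem_map, Function.Embedding.coeFn_mk]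
      exact ⟨fun h => ⟨⟨x, h⟩, Fin.ext rfl⟩, by rintro ⟨a, rfl⟩; exact a.2⟩
    rw [this, Finset.card_map, Finset.card_univ, Fintype.card_fin]
  have memD : ∀ x, x ∈ D ↔ (x : ℕ) < 4 := fun x => by simp [hDdef]
  have hout : (Dᶜ).card = n - 4 := by rw [Finset.card_compl, Fintype.card_fin, hD]
  have pick : ∀ (S T : Finset (Fin n)), T.card < S.card → ∃ y ∈ S, y ∉ T := fun S T h => by
    by_contra hcon
    push Not at hcon
    exact absurd (Finset.card_le_card hcon) (not_le.2 h)
  -- the three-cycles of `L`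
  have cyc : ∀ x y z : Fin n, x ∉ D → y ∉ D → z ∉ D → x ≠ y → x ≠ z → y ≠ z → ∃ c ∈ L,
      (c : Perm (Fin n)) x = y ∧ (c : Perm (Fin n)) y = z ∧ (c : Perm (Fin n)) z = x ∧
      ∀ w, w ≠ x → w ≠ y → w ≠ z → (c : Perm (Fin n)) w = w := by
    intro x y z hx hy hz hxy hxz hyz
    obtain ⟨c, hc, a, b, d, e⟩ := exists_cycle hxy hxz hyz
    refine ⟨⟨c, hc⟩, (memL _).2 fun w hw => e w ?_ ?_ ?_, a, b, d, e⟩
    · rintro rfl; exact hx ((memD _).2 hw)
    · rintro rfl; exact hy ((memD _).2 hw)
    · rintro rfl; exact hz ((memD _).2 hw)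
  -- the centralizer
  set C := centralizer (L : Set G) with hCdef
  have memC : ∀ g : G, g ∈ C ↔ ∀ x, x ∉ D → (g : Perm (Fin n)) x = x := by
    intro g
    constructor
    · intro hg x hx
      have key : ∀ y z, y ∉ D → z ∉ D → x ≠ y → x ≠ z → y ≠ z →
          (g : Perm (Fin n)) x = x ∨ (g : Perm (Fin n)) x = y ∨ (g : Perm (Fin n)) x = z := by
        intro y z hy hz hxy hxz hyz
        obtain ⟨c, hc, a, b, d, e⟩ := cyc x y z hx hy hz hxy hxz hyz
        by_contra hcon
        push Not at hcon
        have h1 := e _ hcon.1 hcon.2.1 hcon.2.2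
        have h2 := congrArg (fun w : G => (w : Perm (Fin n)) x) (mem_centralizer_iff.1 hg c hc)
        simp only [Subgroup.coe_mul, Perm.mul_apply] at h2
        rw [h1, a] at h2
        exact hxy ((g : Perm (Fin n)).injective h2)
      obtain ⟨y, hy, hy'⟩ := pick Dᶜ {x} (by rw [Finset.card_singleton]; omega)
      obtain ⟨z, hz, hz'⟩ := pick Dᶜ {x, y} (by have := Finset.card_le_two (a := x) (b := y); omega)
      obtain ⟨u, hu, hu'⟩ := pick Dᶜ {x, y, z} (by have := Finset.card_le_three (a := x) (b := y) (c := z); omega)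
      obtain ⟨v, hv, hv'⟩ := pick Dᶜ {x, y, z, u} (by have := Finset.card_le_four (a := x) (b := y) (c := z) (d := u); omega)
      simp only [Finset.mem_singleton, Finset.mem_insert, not_or] at hy' hz' hu' hv'
      rw [Finset.mem_compl] at hy hz hu hv
      rcases key y z hy hz (Ne.symm hy') (Ne.symm hz'.1) (Ne.symm hz'.2) with h | h | h
      · exact h
      · rcases key u v hu hv (Ne.symm hu'.1) (Ne.symm hv'.1) (Ne.symm hv'.2.2.2) with h' | h' | h'
        · exact h'
        · exact absurd (h.symm.trans h').symm hu'.2.1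
        · exact absurd (h.symm.trans h').symm hv'.2.1
      · rcases key u v hu hv (Ne.symm hu'.1) (Ne.symm hv'.1) (Ne.symm hv'.2.2.2) with h' | h' | h'
        · exact h'
        · exact absurd (h.symm.trans h').symm hu'.2.2
        · exact absurd (h.symm.trans h').symm hv'.2.2.1
    · intro hg
      rw [hCdef, mem_centralizer_iff]
      intro c hc
      have hc' := (memL c).1 hc
      apply Subtype.ext
      ext x
      simp only [Subgroup.coe_mul, Perm.mul_apply]
      by_cases hx : x ∈ D
      · have hgx : (g : Perm (Fin n)) x ∈ D := by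
          by_contra h
          exact h (((g : Perm (Fin n)).injective (hg _ h)).symm ▸ hx)
        rw [hc' _ ((memD _).1 hgx), hc' _ ((memD _).1 hx)]
      · have hcx : (c : Perm (Fin n)) x ∉ D := fun h =>
          hx (((c : Perm (Fin n)).injective (hc' _ ((memD _).1 h))) ▸ h)
        rw [hg x hx, hg _ hcx]
  -- set stabilizer
  have hpres : ∀ g : G, (∀ x ∈ D, (g : Perm (Fin n)) x ∈ D) → ∀ x, x ∉ D → (g : Perm (Fin n)) x ∉ D := by
    intro g h x hx hgx
    have hi : D.image (g : Perm (Fin n)) = D := Finset.eq_of_subset_of_card_le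
      (Finset.image_subset_iff.2 h) (by rw [Finset.card_image_of_injective _ (g : Perm (Fin n)).injective])
    rw [← hi, Finset.mem_image] at hgx
    obtain ⟨w, hw, e⟩ := hgx
    exact hx ((g : Perm (Fin n)).injective e ▸ hw)
  have hpres' : ∀ g : G, (∀ x, x ∉ D → (g : Perm (Fin n)) x ∉ D) → ∀ x ∈ D, (g : Perm (Fin n)) x ∈ D := by
    intro g h x hx
    by_contra hgx
    have hi : (Dᶜ).image (g : Perm (Fin n)) = Dᶜ := Finset.eq_of_subset_of_card_le
      (Finset.image_subset_iff.2 fun w hw => Finset.mem_compl.2 (h w (Finset.mem_compl.1 hw)))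
      (by rw [Finset.card_image_of_injective _ (g : Perm (Fin n)).injective])
    rw [← Finset.mem_compl, ← hi, Finset.mem_image] at hgx
    obtain ⟨w, hw, e⟩ := hgx
    exact Finset.mem_compl.1 hw ((g : Perm (Fin n)).injective e ▸ hx)
  have hinv : ∀ g : G, (∀ x ∈ D, (g : Perm (Fin n)) x ∈ D) → ∀ x ∈ D, ((g⁻¹ : G) : Perm (Fin n)) x ∈ D := by
    intro g h x hx
    by_contra hh
    have h2 := hpres g h _ hh
    rw [Subgroup.coe_inv, Perm.coe_inv, Equiv.apply_symm_apply] at h2
    exact h2 hx
  have hD4 : ∀ x ∈ D, ∃ c ∈ C, (c : Perm (Fin n)) x ≠ x := by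
    intro x hx
    obtain ⟨y, hy, hy'⟩ := pick D {x} (by rw [Finset.card_singleton]; omega)
    obtain ⟨z, hz, hz'⟩ := pick D {x, y} (by have := Finset.card_le_two (a := x) (b := y); omega)
    simp only [Finset.mem_singleton, Finset.mem_insert, not_or] at hy' hz'
    obtain ⟨c, hc, a, -, -, e⟩ := exists_cycle (Ne.symm hy') (Ne.symm hz'.1) (Ne.symm hz'.2)
    refine ⟨⟨c, hc⟩, (memC _).2 fun w hw => e w ?_ ?_ ?_, fun h => hy' (a.symm.trans h)⟩
    · rintro rfl; exact hw hx
    · rintro rfl; exact hw hy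
    · rintro rfl; exact hw hz
  have hNC : ∀ g : G, g ∈ normalizer (C : Set G) ↔ ∀ x ∈ D, (g : Perm (Fin n)) x ∈ D := by
    intro g
    constructor
    · intro hg x hx
      obtain ⟨c, hc, hcx⟩ := hD4 x hx
      by_contra hgx
      have h := (memC _).1 ((mem_normalizer_iff.1 hg c).1 hc) _ hgx
      simp only [Subgroup.coe_mul, Perm.mul_apply, Subgroup.coe_inv, Perm.coe_inv, Equiv.symm_apply_apply] at h
      exact hcx ((g : Perm (Fin n)).injective h)
    · intro hg
      have one : ∀ g : G, (∀ x ∈ D, (g : Perm (Fin n)) x ∈ D) → ∀ c ∈ C, g * c * g⁻¹ ∈ C := by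
        intro g hg c hc
        refine (memC _).2 fun x hx => ?_
        simp only [Subgroup.coe_mul, Perm.mul_apply]
        have h' : ((g⁻¹ : G) : Perm (Fin n)) x ∉ D := fun h => hx (by
          have := hg _ h
          rwa [Subgroup.coe_inv, Perm.coe_inv, Equiv.apply_symm_apply] at this)
        rw [(memC c).1 hc _ h', Subgroup.coe_inv, Perm.coe_inv, Equiv.apply_symm_apply]
      rw [mem_normalizer_iff]
      intro c
      refine ⟨one g hg c, fun h => ?_⟩
      have := one g⁻¹ (hinv g hg) _ h
      rwa [show g⁻¹ * (g * c * g⁻¹) * g⁻¹⁻¹ = c by group] at this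
  have hNL : ∀ g : G, g ∈ normalizer (L : Set G) ↔ ∀ x ∈ D, (g : Perm (Fin n)) x ∈ D := by
    intro g
    constructor
    · intro hg
      refine hpres' g fun x hx hgx => ?_
      obtain ⟨y, hy, hy'⟩ := pick Dᶜ {x} (by rw [Finset.card_singleton]; omega)
      obtain ⟨z, hz, hz'⟩ := pick Dᶜ {x, y} (by have := Finset.card_le_two (a := x) (b := y); omega)
      simp only [Finset.mem_singleton, Finset.mem_insert, not_or] at hy' hz'
      rw [Finset.mem_compl] at hy hz
      obtain ⟨c, hc, a, -, -, -⟩ := cyc x y z hx hy hz (Ne.symm hy') (Ne.symm hz'.1) (Ne.symm hz'.2)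
      have h := (memL _).1 ((mem_normalizer_iff.1 hg c).1 hc) _ ((memD _).1 hgx)
      simp only [Subgroup.coe_mul, Perm.mul_apply, Subgroup.coe_inv, Perm.coe_inv, Equiv.symm_apply_apply, a] at h
      exact hy' ((g : Perm (Fin n)).injective h)
    · intro hg
      have one : ∀ g : G, (∀ x ∈ D, (g : Perm (Fin n)) x ∈ D) → ∀ c ∈ L, g * c * g⁻¹ ∈ L := by
        intro g hg c hc
        refine (memL _).2 fun x hx => ?_
        simp only [Subgroup.coe_mul, Perm.mul_apply]
        have h' := (memD _).1 (hinv g hg x ((memD _).2 hx))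
        rw [(memL c).1 hc _ h', Subgroup.coe_inv, Perm.coe_inv, Equiv.apply_symm_apply]
      rw [mem_normalizer_iff]
      intro c
      refine ⟨one g hg c, fun h => ?_⟩
      have := one g⁻¹ (hinv g hg) _ h
      rwa [show g⁻¹ * (g * c * g⁻¹) * g⁻¹⁻¹ = c by group] at this
  refine ⟨?_, ⟨?_, ?_⟩, ?_, ?_⟩
  · -- `L` is alternating of degree `n - 4`
    let S := {x : Fin n // x ∉ D}
    let f : alternatingGroup S →* G :=
      { toFun := fun σ => ⟨Perm.ofSubtype (σ : Perm S), by
          rw [hG, Perm.mem_alternatingGroup, Perm.sign_ofSubtype]; exact σ.2⟩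
        map_one' := Subtype.ext (map_one _)
        map_mul' := fun a b => Subtype.ext (map_mul _ _ _) }
    have hf : Function.Injective f := fun a b h =>
      Subtype.ext (Perm.ofSubtype_injective (congrArg Subtype.val h))
    have hr : f.range = L := by
      ext g
      constructor
      · rintro ⟨σ, rfl⟩
        refine (memL _).2 fun x hx => ?_
        show Perm.ofSubtype (σ : Perm S) x = x
        exact Perm.ofSubtype_apply_of_not_mem _ (by simpa using (memD x).2 hx)
      · intro hg
        have hg' := (memL g).1 hg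
        have hiff : ∀ x, ((g : Perm (Fin n)) x ∉ D) ↔ x ∉ D := by
          intro x
          refine ⟨fun h hx => h (by rw [hg' x ((memD x).1 hx)]; exact hx),
            hpres g (fun w hw => by rw [hg' w ((memD w).1 hw)]; exact hw) x⟩
        have hsupp : ∀ x, (g : Perm (Fin n)) x ≠ x → x ∉ D := fun x hx h => hx (hg' x ((memD x).1 h))
        refine ⟨⟨(g : Perm (Fin n)).subtypePerm hiff, ?_⟩, Subtype.ext ?_⟩
        · rw [Perm.mem_alternatingGroup, Perm.sign_subtypePerm _ hiff hsupp]
          exact g.2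
        · exact Perm.ofSubtype_subtypePerm hiff hsupp
    have h5 : 5 ≤ Nat.card S := by
      rw [Nat.card_eq_fintype_card, Fintype.card_subtype_compl, Fintype.card_fin, Fintype.card_coe, hD]
      omega
    haveI hs : IsSimpleGroup (alternatingGroup S) := alternatingGroup.isSimpleGroup h5
    have hnc : ∃ a b : alternatingGroup S, a * b ≠ b * a := by
      obtain ⟨x, hx, -⟩ := pick Dᶜ ∅ (by rw [Finset.card_empty]; omega)
      obtain ⟨y, hy, hy'⟩ := pick Dᶜ {x} (by rw [Finset.card_singleton]; omega)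
      obtain ⟨z, hz, hz'⟩ := pick Dᶜ {x, y} (by have := Finset.card_le_two (a := x) (b := y); omega)
      obtain ⟨u, hu, hu'⟩ := pick Dᶜ {x, y, z} (by have := Finset.card_le_three (a := x) (b := y) (c := z); omega)
      simp only [Finset.mem_singleton, Finset.mem_insert, not_or] at hy' hz' hu'
      rw [Finset.mem_compl] at hx hy hz hu
      obtain ⟨c, hc, a, -, -, -⟩ := cyc x y z hx hy hz (Ne.symm hy') (Ne.symm hz'.1) (Ne.symm hz'.2)
      obtain ⟨d, hd, a', b', -, e'⟩ := cyc y z u hy hz hu (Ne.symm hz'.2) (Ne.symm hu'.2.1) (Ne.symm hu'.2.2)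
      rw [← hr] at hc hd
      obtain ⟨A, rfl⟩ := hc
      obtain ⟨B, rfl⟩ := hd
      refine ⟨A, B, fun h => ?_⟩
      have h2 := congrArg (fun w => ((f w : G) : Perm (Fin n)) x) h
      simp only [map_mul, Subgroup.coe_mul, Perm.mul_apply] at h2
      rw [e' x (Ne.symm hy') (Ne.symm hz'.1) (Ne.symm hu'.1), a, a'] at h2
      exact hz'.2 h2.symm
    haveI : Group.IsPerfect (alternatingGroup S) := ⟨by
      rcases hs.eq_bot_or_eq_top_of_normal (commutator (alternatingGroup S)) inferInstance with h | h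
      · exfalso
        obtain ⟨a, b, hab⟩ := hnc
        refine hab (commutatorElement_eq_one_iff_mul_comm.1 ?_)
        have hm : ⁅a, b⁆ ∈ commutator (alternatingGroup S) := commutator_mem_commutator (mem_top a) (mem_top b)
        rwa [h, mem_bot] at hm
      · exact h⟩
    refine CfsgLib.Coprime.isQuasisimple_congr ((MonoidHom.ofInjective hf).trans (MulEquiv.subgroupCongr hr))
      (CfsgLib.Coprime.isQuasisimple_of_normal_le_center fun N hN => ?_)
    exact (hs.eq_bot_or_eq_top_of_normal N hN).symm.imp id fun h => h.le.trans bot_le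
  · -- even order
    obtain ⟨a, ha, -⟩ := pick D ∅ (by rw [Finset.card_empty]; omega)
    obtain ⟨b, hb, hb'⟩ := pick D {a} (by rw [Finset.card_singleton]; omega)
    obtain ⟨c, hc, hc'⟩ := pick D {a, b} (by have := Finset.card_le_two (a := a) (b := b); omega)
    obtain ⟨d, hd, hd'⟩ := pick D {a, b, c} (by have := Finset.card_le_three (a := a) (b := b) (c := c); omega)
    simp only [Finset.mem_singleton, Finset.mem_insert, not_or] at hb' hc' hd'
    have hmem : swap a b * swap c d ∈ G := by
      rw [hG, Perm.mem_alternatingGroup, Perm.sign_mul, Perm.sign_swap (Ne.symm hb'), Perm.sign_swap (Ne.symm hd'.2.2)]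
      rfl
    have htC : (⟨_, hmem⟩ : G) ∈ C := (memC _).2 fun x hx => by
      have h1 : x ≠ a := fun e => hx (e ▸ ha)
      have h2 : x ≠ b := fun e => hx (e ▸ hb)
      have h3 : x ≠ c := fun e => hx (e ▸ hc)
      have h4 : x ≠ d := fun e => hx (e ▸ hd)
      show (swap a b * swap c d) x = x
      rw [Perm.mul_apply, swap_apply_of_ne_of_ne h3 h4, swap_apply_of_ne_of_ne h1 h2]
    have h2 : orderOf (⟨⟨_, hmem⟩, htC⟩ : C) = 2 := by
      rw [orderOf_mk, orderOf_mk, orderOf_eq_prime_iff]
      refine ⟨?_, fun h => ?_⟩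
      · have hc2 : Commute (swap a b) (swap c d) := (Perm.disjoint_swap_swap (x := a) (y := b) (z := c) (t := d)
          (by simp [Ne.symm hb', Ne.symm hc'.1, Ne.symm hc'.2, Ne.symm hd'.1, Ne.symm hd'.2.1, Ne.symm hd'.2.2])).commute
        rw [hc2.mul_pow, sq, sq, swap_mul_self, swap_mul_self, one_mul]
      · have := congrArg (fun w : Perm (Fin n) => w a) h
        simp only [Perm.mul_apply, Perm.one_apply] at this
        rw [swap_apply_of_ne_of_ne (Ne.symm hc'.1) (Ne.symm hd'.1), swap_apply_left] at this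
        exact hb' this
    exact even_iff_two_dvd.2 (h2 ▸ orderOf_dvd_natCard _)
  · -- tight embedding
    intro g hg
    obtain ⟨e, heD, hge⟩ : ∃ e ∈ D, ((g⁻¹ : G) : Perm (Fin n)) e ∉ D := by
      by_contra h
      push Not at h
      refine hg ((hNC g).2 ?_)
      have h' := hinv g⁻¹ h
      rwa [inv_inv] at h'
    haveI : Fact (Nat.Prime 3) := ⟨Nat.prime_three⟩
    have h3 : IsPGroup 3 ↥(C ⊓ C.map (MulAut.conj g).toMonoidHom) := by
      rintro ⟨h, hh1, c, hc, rfl⟩
      refine ⟨1, Subtype.ext (Subtype.ext ?_)⟩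
      rw [pow_one]
      simp only [SubgroupClass.coe_pow, OneMemClass.coe_one]
      refine cube_eq_one (SetLike.coe_mem _) ?_
      have hsub : (((MulAut.conj g).toMonoidHom c : G) : Perm (Fin n)).support ⊆ D.erase e := by
        intro x hx
        rw [Perm.mem_support] at hx
        rw [Finset.mem_erase]
        refine ⟨?_, by_contra fun h => hx ((memC _).1 hh1 x h)⟩
        rintro rfl
        apply hx
        show (((g * c * g⁻¹ : G)) : Perm (Fin n)) x = x
        simp only [Subgroup.coe_mul, Perm.mul_apply]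
        rw [(memC c).1 hc _ hge, Subgroup.coe_inv, Perm.coe_inv, Equiv.apply_symm_apply]
      exact (Finset.card_le_card hsub).trans (by rw [Finset.card_erase_of_mem heD, hD])
    obtain ⟨k, hk⟩ := IsPGroup.iff_card.1 h3
    rw [hk]
    exact Odd.pow (by decide)
  · -- conjugates do not commute
    intro g _ hbot
    have hgA : ∀ x, x ∈ (Dᶜ).image (g : Perm (Fin n)) → ∃ x', x' ∉ D ∧ (g : Perm (Fin n)) x' = x := fun x hx => by
      obtain ⟨x', h1, h2⟩ := Finset.mem_image.1 hx
      exact ⟨x', Finset.mem_compl.1 h1, h2⟩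
    have hcard : ((Dᶜ).image (g : Perm (Fin n))).card = n - 4 := by
      rw [Finset.card_image_of_injective _ (g : Perm (Fin n)).injective, hout]
    obtain ⟨x, hx, hxD⟩ := pick ((Dᶜ).image (g : Perm (Fin n))) D (by omega)
    obtain ⟨y, hy, hy'⟩ := pick Dᶜ {x} (by rw [Finset.card_singleton]; omega)
    obtain ⟨z, hz, hz'⟩ := pick Dᶜ {x, y} (by have := Finset.card_le_two (a := x) (b := y); omega)
    obtain ⟨u, hu, hu'⟩ := pick ((Dᶜ).image (g : Perm (Fin n))) {x, y, z}
      (by have := Finset.card_le_three (a := x) (b := y) (c := z); omega)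
    obtain ⟨v, hv, hv'⟩ := pick ((Dᶜ).image (g : Perm (Fin n))) {x, u}
      (by have := Finset.card_le_two (a := x) (b := u); omega)
    simp only [Finset.mem_singleton, Finset.mem_insert, not_or] at hy' hz' hu' hv'
    rw [Finset.mem_compl] at hy hz
    obtain ⟨x', hx', rfl⟩ := hgA x hx
    obtain ⟨u1, hu1, rfl⟩ := hgA u hu
    obtain ⟨v1, hv1, rfl⟩ := hgA v hv
    obtain ⟨c, hc, a, b, d, e⟩ := cyc _ y z hxD hy hz (Ne.symm hy') (Ne.symm hz'.1) (Ne.symm hz'.2)
    obtain ⟨c', hc', a', -, -, -⟩ := cyc x' u1 v1 hx' hu1 hv1 (fun h => hu'.1 (by rw [h]))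
      (fun h => hv'.1 (by rw [h])) (fun h => hv'.2 (by rw [h]))
    have hm := commutator_mem_commutator hc (mem_map_of_mem (MulAut.conj g).toMonoidHom hc')
    rw [hbot, mem_bot, commutatorElement_eq_one_iff_mul_comm] at hm
    have h2 := congrArg (fun w : G => (w : Perm (Fin n)) ((g : Perm (Fin n)) x')) hm
    have hd1 : (((MulAut.conj g).toMonoidHom c' : G) : Perm (Fin n)) ((g : Perm (Fin n)) x') = (g : Perm (Fin n)) u1 := by
      show (((g * c' * g⁻¹ : G)) : Perm (Fin n)) _ = _
      simp only [Subgroup.coe_mul, Perm.mul_apply, Subgroup.coe_inv, Perm.coe_inv, Equiv.symm_apply_apply, a']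
    simp only [Subgroup.coe_mul, Perm.mul_apply] at h2
    rw [hd1, e _ hu'.1 hu'.2.1 hu'.2.2, a] at h2
    exact hy' ((((MulAut.conj g).toMonoidHom c' : G) : Perm (Fin n)).injective (h2.symm.trans hd1.symm))
  · ext g
    rw [hNL, hNC]

end Cfsg.Agent.S1323
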