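import Cfsg.Statements.S1324
import Cfsg.Agent.Lib.Coprime.Action

set_option autoImplicit false
open Cfsg

namespace Cfsg.Agent.S1324

/-- Let A be a noncyclic elementary abelian p-subgroup of a finite group H normalizing a subgroup X of order prime to p. Then X is generated by the subgroups X ∩ C_H(B), B ranging over the subgroups of A of index at most p. -/
theorem result {H : Type*} [Group H] [Finite H] (p : ℕ) [Fact p.Prime] (A X : Subgroup H) (hA : Cfsg.IsElementaryAbelian p A) (hA2 : p ^ 2 ≤ Nat.card ↥A) (hX : ¬ p ∣ Nat.card ↥X) (hAX : A ≤ Subgroup.normalizer (X : Set H)) : X = ⨆ B : {B : Subgroup H // B ≤ A ∧ B.relIndex A ≤ p}, X ⊓ Subgroup.centralizer ((B : Subgroup H) : Set H) := by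
  classical
  set W := ⨆ B : {B : Subgroup H // B ≤ A ∧ B.relIndex A ≤ p},
    X ⊓ Subgroup.centralizer ((B : Subgroup H) : Set H) with hW
  have hWX : W ≤ X := iSup_le fun B => inf_le_left
  refine le_antisymm ?_ hWX
  have hp : p.Prime := Fact.out
  obtain ⟨hAc, hAe⟩ := hA
  haveI := hAc
  have hAp : IsPGroup p A := fun a => ⟨1, Subtype.ext (by rw [pow_one]; exact hAe a a.2)⟩
  suffices key : ∀ (n : ℕ) (C : Subgroup H), C ≤ A → Nat.card A - Nat.card C = n →
      X ⊓ Subgroup.centralizer (C : Set H) ≤ W by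
    refine le_trans (le_inf le_rfl fun x _ => ?_) (key _ ⊥ bot_le rfl)
    simp [Subgroup.mem_centralizer_iff]
  intro n
  induction n using Nat.strongRecOn with
  | ind n ih =>
  intro C hCA hn
  by_cases hC : C.relIndex A ≤ p
  · exact le_iSup (fun B : {B : Subgroup H // B ≤ A ∧ B.relIndex A ≤ p} =>
      X ⊓ Subgroup.centralizer ((B : Subgroup H) : Set H)) ⟨C, hCA, hC⟩
  obtain ⟨E, ⟨hEA, hEC⟩, hEmax⟩ := exists_maximal_of_wellFoundedGT
    (fun E : Subgroup H => E ≤ A ∧ E ⊓ C = ⊥) ⟨⊥, bot_le, bot_inf_eq _⟩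
  have hsup : A ≤ E ⊔ C := by
    intro a ha
    by_contra hna
    have hle : E ⊔ Subgroup.zpowers a ≤ A := sup_le hEA (Subgroup.zpowers_le.2 ha)
    refine hna (Subgroup.mem_sup_left (hEmax ⟨hle, ?_⟩ le_sup_left
      (Subgroup.mem_sup_right (Subgroup.mem_zpowers a))))
    refine (Subgroup.eq_bot_iff_forall _).2 fun x hx => ?_
    obtain ⟨hx1, hxC⟩ := Subgroup.mem_inf.1 hx
    have hnorm : Subgroup.zpowers a ≤ Subgroup.normalizer (E : Set H) := fun g hg => by
      refine Subgroup.centralizer_le_normalizer _ (Subgroup.mem_centralizer_iff.2 fun e he => ?_)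
      exact congrArg Subtype.val
        (hAc.is_comm.comm (⟨e, hEA he⟩ : A) ⟨g, Subgroup.zpowers_le.2 ha hg⟩)
    obtain ⟨e, he, b, hb, rfl⟩ := CfsgLib.Coprime.mem_sup_exists hnorm hx1
    by_cases hb1 : b = 1
    · subst hb1
      rw [mul_one] at hxC ⊢
      exact Subgroup.mem_bot.1 (hEC.le (Subgroup.mem_inf.2 ⟨he, hxC⟩))
    · exfalso
      refine hna ?_
      have h1 : b ∈ E ⊔ C := by
        rw [show b = e⁻¹ * (e * b) by group]
        exact mul_mem (Subgroup.mem_sup_left (inv_mem he)) (Subgroup.mem_sup_right hxC)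
      obtain ⟨i, rfl⟩ := Subgroup.mem_zpowers_iff.1 hb
      have hpi : ¬ (p : ℤ) ∣ i := by
        rintro ⟨j, rfl⟩
        rw [zpow_mul, zpow_natCast, hAe a ha, one_zpow] at hb1
        exact hb1 rfl
      obtain ⟨u, v, huv⟩ := (Nat.prime_iff_prime_int.1 hp).coprime_iff_not_dvd.2 hpi
      have : a = (a ^ i) ^ v := by
        conv_lhs => rw [← zpow_one a, ← huv, zpow_add, mul_comm u, zpow_mul, zpow_natCast,
          hAe a ha, one_zpow, one_mul, mul_comm v, zpow_mul]
      rw [this]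
      exact zpow_mem h1 v
  have hEn : ¬ IsCyclic E := by
    intro hc
    refine hC ?_
    obtain ⟨⟨g, hg⟩, hgen⟩ := IsCyclic.exists_generator (α := E)
    have hEcard : Nat.card E ≤ p := by
      rw [← orderOf_eq_card_of_forall_mem_zpowers hgen]
      exact Nat.le_of_dvd hp.pos (orderOf_dvd_of_pow_eq_one (Subtype.ext (hAe g (hEA hg))))
    refine le_trans ?_ hEcard
    rw [show A = E ⊔ C from le_antisymm hsup (sup_le hEA hCA)]
    haveI : (C.subgroupOf (E ⊔ C)).Normal := by
      refine Subgroup.normal_subgroupOf_of_le_normalizer (sup_le ?_ Subgroup.le_normalizer)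
      intro g hg
      refine Subgroup.centralizer_le_normalizer _ (Subgroup.mem_centralizer_iff.2 fun e he => ?_)
      exact congrArg Subtype.val (hAc.is_comm.comm (⟨e, hCA he⟩ : A) ⟨g, hEA hg⟩)
    rw [← Subgroup.relIndex_subgroupOf (le_refl (E ⊔ C)),
      Subgroup.subgroupOf_sup le_sup_left le_sup_right, Subgroup.relIndex_sup_right,
      Subgroup.relIndex_subgroupOf le_sup_left]
    exact Nat.le_of_dvd Nat.card_pos (Subgroup.relIndex_dvd_card _ _)
  haveI : IsMulCommutative E := ⟨⟨fun a b => Subtype.ext (congrArg Subtype.val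
    (hAc.is_comm.comm (⟨a, hEA a.2⟩ : A) ⟨b, hEA b.2⟩) :)⟩⟩
  have hEY : E ≤ Subgroup.normalizer ((X ⊓ Subgroup.centralizer (C : Set H) : Subgroup H) : Set H) :=
    CfsgLib.Coprime.inf_le_normalizer (hEA.trans hAX) ((fun g hg => Subgroup.centralizer_le_normalizer _
      (Subgroup.mem_centralizer_iff.2 fun c hc => congrArg Subtype.val
        (hAc.is_comm.comm (⟨c, hCA hc⟩ : A) ⟨g, hEA hg⟩)) : E ≤ Subgroup.normalizer (C : Set H)) |> fun h => le_trans h
      (CfsgLib.Coprime.normalizer_le_normalizer_centralizer C))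
  refine CfsgLib.Coprime.le_of_centralizers_le hEn hEY ?_ fun a ha ha1 => ?_
  · obtain ⟨k, hk⟩ := (hAp.to_le hEA).exists_card_eq
    rw [hk]
    exact ((hp.coprime_iff_not_dvd.2 hX).coprime_dvd_right
      (Subgroup.card_dvd_of_le inf_le_left)).pow_left k
  · have haC : a ∉ C := fun h => ha1 (Subgroup.mem_bot.1 (hEC.le (Subgroup.mem_inf.2 ⟨ha, h⟩)))
    have hle : C ⊔ Subgroup.zpowers a ≤ A := sup_le hCA (Subgroup.zpowers_le.2 (hEA ha))
    have hlt : Nat.card C < Nat.card ↥(C ⊔ Subgroup.zpowers a) :=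
      Set.Finite.card_lt_card (Set.toFinite _) (SetLike.coe_ssubset_coe.2 (lt_of_le_of_ne le_sup_left
        fun e => haC (e.ge (Subgroup.mem_sup_right (Subgroup.mem_zpowers a)))))
    have h1 := Nat.le_of_dvd Nat.card_pos (Subgroup.card_dvd_of_le hle)
    refine le_trans ?_ (ih _ (by omega) _ hle rfl)
    rintro x ⟨⟨hxX, hxC⟩, hxa⟩
    refine Subgroup.mem_inf.2 ⟨hxX, ?_⟩
    have : C ⊔ Subgroup.zpowers a ≤ Subgroup.centralizer ({x} : Set H) :=
      sup_le (fun c hc => Subgroup.mem_centralizer_singleton_iff.2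
          (Subgroup.mem_centralizer_iff.1 hxC c hc))
        (Subgroup.zpowers_le.2 (Subgroup.mem_centralizer_singleton_iff.2
          (Subgroup.mem_centralizer_singleton_iff.1 hxa).symm))
    exact Subgroup.mem_centralizer_iff.2 fun c hc =>
      Subgroup.mem_centralizer_singleton_iff.1 (this hc)

end Cfsg.Agent.S1324
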