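import Cfsg.Statements.S1326
import Cfsg.Agent.Lib.Coprime.Component

set_option autoImplicit false
open Cfsg

namespace Cfsg.Agent.S1326

/-- For a finite group X: the Fitting subgroup contains its centralizer if and only if the layer of X is trivial. -/
theorem result {X : Type*} [Group X] [Finite X] : Subgroup.centralizer (Cfsg.fittingSubgroup X : Set X) ≤ Cfsg.fittingSubgroup X ↔ Cfsg.layer X = ⊥ := by
  refine ⟨fun h => le_bot_iff.1 (sSup_le fun L hL => ?_),
    CfsgLib.Coprime.centralizer_fitting_le_of_layer_eq_bot⟩
  haveI := CfsgLib.Coprime.fitting_isNilpotent (G := X)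
  exact absurd ((CfsgLib.Coprime.component_le_layer hL).trans
      (CfsgLib.Coprime.layer_le_centralizer_fitting.trans h))
    (CfsgLib.Coprime.not_le_of_isComponent_of_isSolvable hL inferInstance)

end Cfsg.Agent.S1326
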