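import Cfsg.Statements.S1327
import Cfsg.Agent.Lib.Coprime.PConstrained

set_option autoImplicit false
open Cfsg

namespace Cfsg.Agent.S1327

/-- A finite group X is p-constrained if and only if its p-layer L_{p'}(X) is trivial (equivalently X / O_{p'}(X) has trivial layer). -/
theorem result {X : Type*} [Group X] [Finite X] (p : ℕ) [Fact p.Prime] : Cfsg.IsPConstrained p X ↔ Cfsg.pLayer p X = ⊥ := by
  rw [CfsgLib.Coprime.pLayer_eq_bot_iff_layer, CfsgLib.Coprime.layer_eq_bot_iff_centralizer_pCore_le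
    (CfsgLib.Coprime.pPrimeCore_quotient_eq_bot (Fact.out : p.Prime))]
  obtain ⟨π, hπ⟩ : ∃ π, π = QuotientGroup.mk' (Cfsg.pPrimeCore p X) := ⟨_, rfl⟩
  have hπs : Function.Surjective π := hπ ▸ QuotientGroup.mk'_surjective _
  obtain ⟨f, hf⟩ : ∃ f : ↥(Cfsg.pPrimePCore p X) →* ↥(Cfsg.pCore p (X ⧸ Cfsg.pPrimeCore p X)),
      f = ((QuotientGroup.mk' (Cfsg.pPrimeCore p X)).comp (Cfsg.pPrimePCore p X).subtype).codRestrict
        _ (fun x => x.2) := ⟨_, rfl⟩
  have hfs : Function.Surjective f := by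
    intro y
    obtain ⟨x, hx⟩ := QuotientGroup.mk'_surjective (Cfsg.pPrimeCore p X) (y : X ⧸ Cfsg.pPrimeCore p X)
    refine ⟨⟨x, show QuotientGroup.mk' _ x ∈ Cfsg.pCore p _ from hx ▸ y.2⟩, ?_⟩
    rw [hf]; exact Subtype.ext hx
  have himg : ∀ P : Sylow p ↥(Cfsg.pPrimePCore p X),
      ((P : Subgroup _).map (Cfsg.pPrimePCore p X).subtype).map π =
        Cfsg.pCore p (X ⧸ Cfsg.pPrimeCore p X) := by
    intro P
    have htop : ((P.mapSurjective hfs : Sylow p ↥(Cfsg.pCore p (X ⧸ Cfsg.pPrimeCore p X))) :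
        Subgroup ↥(Cfsg.pCore p (X ⧸ Cfsg.pPrimeCore p X))) = ⊤ :=
      ((P.mapSurjective hfs).is_maximal' (fun x => by
        obtain ⟨k, hk⟩ := CfsgLib.Coprime.pCore_isPGroup (G := X ⧸ Cfsg.pPrimeCore p X) p x.1
        exact ⟨k, Subtype.ext hk⟩) le_top).symm
    refine le_antisymm ?_ fun y hy => ?_
    · rintro _ ⟨_, ⟨x, _, rfl⟩, rfl⟩
      exact hπ ▸ x.2
    · have hy' : (⟨y, hy⟩ : ↥(Cfsg.pCore p (X ⧸ Cfsg.pPrimeCore p X))) ∈
          (P.mapSurjective hfs : Subgroup _) := htop ▸ Subgroup.mem_top _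
      obtain ⟨x, hx, hxy⟩ := hy'
      refine ⟨x, ⟨x, hx, rfl⟩, ?_⟩
      rw [hπ]; rw [hf] at hxy
      exact congrArg Subtype.val hxy
  constructor
  · intro hcon q hq
    obtain ⟨P⟩ : Nonempty (Sylow p ↥(Cfsg.pPrimePCore p X)) := inferInstance
    obtain ⟨P', hP'⟩ : ∃ P', P' = (P : Subgroup _).map (Cfsg.pPrimePCore p X).subtype := ⟨_, rfl⟩
    have hP'p : IsPGroup p P' := hP' ▸ P.2.map _
    obtain ⟨g, rfl⟩ := QuotientGroup.mk'_surjective (Cfsg.pPrimeCore p X) q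
    have hgn : QuotientGroup.mk' (Cfsg.pPrimeCore p X) g ∈
        Subgroup.normalizer ((P'.map (QuotientGroup.mk' (Cfsg.pPrimeCore p X)) : Subgroup _) : Set _) := by
      rw [← hπ, hP', himg P]
      exact hπ ▸ Subgroup.centralizer_le_normalizer _ hq
    obtain ⟨o, ho, hn⟩ := CfsgLib.Coprime.exists_mem_normalizer_lift
      (CfsgLib.Coprime.pPrimeCore_not_dvd (Fact.out : p.Prime)) hP'p hgn
    have hoq : QuotientGroup.mk' (Cfsg.pPrimeCore p X) (o * g) =
        QuotientGroup.mk' (Cfsg.pPrimeCore p X) g := by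
      rw [map_mul, show QuotientGroup.mk' (Cfsg.pPrimeCore p X) o = 1 from
        (QuotientGroup.eq_one_iff o).2 ho, one_mul]
    have hc : o * g ∈ Subgroup.centralizer (P' : Set X) := by
      rw [Subgroup.mem_centralizer_iff]
      intro x hx
      obtain ⟨c, hc⟩ : ∃ c, c = (o * g) * x * (o * g)⁻¹ * x⁻¹ := ⟨_, rfl⟩
      have hcP : c ∈ P' := hc ▸ mul_mem ((Subgroup.mem_normalizer_iff.1 hn x).1 hx) (inv_mem hx)
      have hcO : c ∈ Cfsg.pPrimeCore p X := by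
        rw [← QuotientGroup.eq_one_iff, ← QuotientGroup.mk'_apply, hc, map_mul, map_mul, map_mul, map_inv, map_inv, hoq]
        have hxm : QuotientGroup.mk' (Cfsg.pPrimeCore p X) x ∈
            Cfsg.pCore p (X ⧸ Cfsg.pPrimeCore p X) := by
          rw [← himg P, ← hP', hπ]; exact Subgroup.mem_map_of_mem _ hx
        rw [← Subgroup.mem_centralizer_iff.1 hq _ hxm, mul_inv_cancel_right,
          mul_inv_cancel]
      have hc1 : c ∈ (⊥ : Subgroup X) := CfsgLib.Coprime.pPrime_inf_pGroup_eq_bot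
        (CfsgLib.Coprime.pPrimeCore_coprime (Fact.out : p.Prime)) hP'p ▸ ⟨hcO, hcP⟩
      rw [Subgroup.mem_bot, hc, mul_inv_eq_one, mul_inv_eq_iff_eq_mul] at hc1
      exact hc1.symm
    have h := hcon P (hP' ▸ hc)
    rwa [← hoq]
  · intro hC P g hg
    refine Subgroup.mem_comap.2 (hC ?_)
    rw [Subgroup.mem_centralizer_iff]
    intro y hy
    rw [← himg P] at hy
    obtain ⟨x, hx, rfl⟩ := hy
    rw [hπ, ← map_mul, ← map_mul, Subgroup.mem_centralizer_iff.1 hg x hx]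

end Cfsg.Agent.S1327
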