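import Cfsg.Statements.S1328
import Cfsg.Agent.Lib.Coprime.BenderUniqueness
import Cfsg.Agent.Lib.Coprime.PComponent
import Cfsg.Agent.Lib.Coprime.LBalance.Cores
import Cfsg.Agent.Lib.Invol.MaxComponent

set_option autoImplicit false
set_option maxHeartbeats 1000000
open Cfsg

namespace Cfsg.Agent.S1328

/-- Let G be finite, H ≤ G with O(H) = 1, t an involution of G normalizing H, and Y a nontrivial subgroup of O(C_H(t)). Then some component E of H is normalized by t and by Y and centralized by neither t nor Y. -/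
theorem result {G : Type*} [Group G] [Finite G] (H : Subgroup G) (hO : Cfsg.oddCore ↥H = ⊥) (t : G) (ht : orderOf t = 2) (htH : t ∈ Subgroup.normalizer (H : Set G)) (Y : Subgroup G) (hY1 : Y ≠ ⊥) (hY : Y ≤ (Cfsg.oddCore ↥(H ⊓ Subgroup.centralizer ({t} : Set G))).map (H ⊓ Subgroup.centralizer ({t} : Set G)).subtype) : ∃ E : Subgroup ↥H, Cfsg.IsComponent E ∧ (E.map H.subtype).map (MulAut.conj t).toMonoidHom = E.map H.subtype ∧ Y ≤ Subgroup.normalizer ((E.map H.subtype : Subgroup G) : Set G) ∧ ¬ (t ∈ Subgroup.centralizer ((E.map H.subtype : Subgroup G) : Set G)) ∧ ¬ (Y ≤ Subgroup.centralizer ((E.map H.subtype : Subgroup G) : Set G)) := by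
  haveI : Fact (Nat.Prime 2) := ⟨Nat.prime_two⟩
  have ht1 : t * t = 1 := by rw [← pow_two, ← ht]; exact pow_orderOf_eq_one t
  have hti : t⁻¹ = t := inv_eq_of_mul_eq_one_right ht1
  set C := H ⊓ Subgroup.centralizer ({t} : Set G) with hC
  set OC := CfsgLib.Coprime.coreIn 2 C with hOC
  have hYO : Y ≤ OC := hY
  have hYC : Y ≤ C := hYO.trans (CfsgLib.Coprime.coreIn_le 2 C)
  have hOCp : ¬ 2 ∣ Nat.card OC := by
    rw [hOC, CfsgLib.Coprime.coreIn, Subgroup.card_map_of_injective C.subtype_injective]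
    exact CfsgLib.Coprime.pPrimeCore_not_dvd Nat.prime_two
  have hOCn : C ≤ Subgroup.normalizer (OC : Set G) := by
    haveI := CfsgLib.Coprime.pPrimeCore_characteristic (G := C) 2
    exact CfsgLib.Coprime.BenderPair.le_normalizer_map_subtype C _
  -- a `2`-element in an odd group is trivial
  have hodd : ∀ (N : Subgroup G), ¬ 2 ∣ Nat.card N → ∀ x ∈ N, ∀ k : ℕ, x ^ 2 ^ k = 1 → x = 1 := by
    intro N hN x hx k hk
    obtain ⟨i, -, hi⟩ := (Nat.dvd_prime_pow Nat.prime_two).1 (orderOf_dvd_of_pow_eq_one hk)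
    rcases i.eq_zero_or_pos with h | h
    · exact orderOf_eq_one_iff.1 (by rw [hi, h, pow_zero])
    · exact absurd ((dvd_pow_self 2 h.ne').trans (hi ▸ N.orderOf_dvd_natCard hx)) hN
  -- `Y` centralizes `O_2(H)`
  set U := (Cfsg.pCore 2 ↥H).map H.subtype with hU
  have hUn : H ≤ Subgroup.normalizer (U : Set G) := by
    haveI := CfsgLib.Coprime.pCore_normal' (G := ↥H) 2
    exact CfsgLib.Coprime.BenderPair.le_normalizer_map_subtype H _
  have hUp : IsPGroup 2 U := (CfsgLib.Coprime.pCore_isPGroup 2).map _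
  have htU : Subgroup.zpowers t ≤ Subgroup.normalizer (U : Set G) := by
    rw [Subgroup.zpowers_le, ← CfsgLib.Coprime.conjBy_eq_self_iff]
    have e : (Cfsg.pCore 2 ↥H).map (H.normalizerMonoidHom ⟨t, htH⟩ : ↥H ≃* ↥H).toMonoidHom =
        Cfsg.pCore 2 ↥H := CfsgLib.Coprime.map_pCore_equiv _ 2
    conv_rhs => rw [hU, ← e]
    rw [CfsgLib.Coprime.conjBy, hU, Subgroup.map_map, Subgroup.map_map]
    rfl
  have hYU : Y ≤ Subgroup.centralizer (U : Set G) := by
    refine CfsgLib.Coprime.pq_lemma (P := Subgroup.zpowers t) (IsPGroup.of_card (n := 1) ?_) ?_ hUp ?_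
      htU ((hYC.trans inf_le_left).trans hUn) ?_
    · rw [Nat.card_zpowers, ht, pow_one]
    · exact Nat.Coprime.symm ((Nat.Prime.coprime_iff_not_dvd Nat.prime_two).2 fun h =>
        hOCp (h.trans (Subgroup.card_dvd_of_le hYO)))
    · exact Subgroup.zpowers_le.2 (Subgroup.mem_centralizer_iff.2 fun y hy =>
        Subgroup.mem_centralizer_singleton_iff.1 (hYC hy).2)
    · intro u hu
      refine Subgroup.mem_centralizer_iff.2 fun y hy => ?_
      have huC : u ∈ C := ⟨Subgroup.map_subtype_le _ hu.1, Subgroup.mem_centralizer_singleton_iff.2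
        (Subgroup.mem_centralizer_iff.1 hu.2 t (Subgroup.mem_zpowers t)).symm⟩
      have h1 : y * u * y⁻¹ * u⁻¹ ∈ U :=
        U.mul_mem ((Subgroup.mem_normalizer_iff.1 (hUn (hYC hy).1) u).1 hu.1) (U.inv_mem hu.1)
      have h2 : y * u * y⁻¹ * u⁻¹ ∈ OC := by
        rw [show y * u * y⁻¹ * u⁻¹ = y * (u * y⁻¹ * u⁻¹) by group]
        exact OC.mul_mem (hYO hy) ((Subgroup.mem_normalizer_iff.1 (hOCn huC) _).1 (OC.inv_mem (hYO hy)))
      obtain ⟨k, hk⟩ := hUp ⟨_, h1⟩
      have h3 := hodd OC hOCp _ h2 k (congrArg Subtype.val hk)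
      rwa [mul_inv_eq_one, mul_inv_eq_iff_eq_mul] at h3
  -- components inside `G`
  have hcc : ∀ {D D' : Subgroup ↥H}, Cfsg.IsComponent D → Cfsg.IsComponent D' → D ≠ D' →
      ∀ a ∈ D.map H.subtype, ∀ b ∈ D'.map H.subtype, Commute a b := by
    rintro D D' hD hD' hne _ ⟨a, ha, rfl⟩ _ ⟨b, hb, rfl⟩
    exact (show Commute a b from CfsgLib.Coprime.commutator_eq_bot_iff_forall.1
      (CfsgLib.Coprime.components_commute hD hD' hne) a ha b hb).map H.subtype
  have heven : ∀ {D : Subgroup ↥H}, Cfsg.IsComponent D → 2 ∣ Nat.card D := fun hD =>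
    CfsgLib.Coprime.dvd_card_of_isComponent hO hD
  -- a subgroup of `C` of even order that is a component of `C` commutes with `Y`
  have hcompC : ∀ R : Subgroup G, R ≤ C → Cfsg.IsComponent (R.subgroupOf C) → 2 ∣ Nat.card R →
      ∀ y ∈ Y, ∀ r ∈ R, Commute y r := by
    intro R hRC hR hRe y hy r hr
    haveI : (OC.subgroupOf C).Normal :=
      (Subgroup.normal_subgroupOf_iff_le_normalizer (CfsgLib.Coprime.coreIn_le 2 C)).2 hOCn
    have h := (CfsgLib.Coprime.component_le_or_commutator_eq_bot hR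
      (inferInstance : (OC.subgroupOf C).Normal).isSubnormal).resolve_left fun h => by
        refine hOCp (hRe.trans (Subgroup.card_dvd_of_le ?_))
        exact fun x hx => Subgroup.mem_subgroupOf.1 (h (x := ⟨x, hRC hx⟩) (Subgroup.mem_subgroupOf.2 hx))
    exact (congrArg Subtype.val (CfsgLib.Coprime.commutator_eq_bot_iff_forall.1 h ⟨r, hRC hr⟩
      (Subgroup.mem_subgroupOf.2 hr) ⟨y, hYC hy⟩ (Subgroup.mem_subgroupOf.2 (hYO hy)))).symm
  set τ : ↥H ≃* ↥H := H.normalizerMonoidHom ⟨t, htH⟩ with hτ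
  have hτv : ∀ d : ↥H, (τ d : G) = t * d * t⁻¹ := fun d => rfl
  have hττ : ∀ d : ↥H, τ (τ d) = d := fun d => Subtype.ext (by
    rw [hτv, hτv, hti]
    calc t * (t * (d : G) * t) * t = (t * t) * d * (t * t) := by group
      _ = d := by rw [ht1, one_mul, mul_one])
  by_contra hcon
  push Not at hcon
  -- `Y` centralizes every component
  have hYall : ∀ D : Subgroup ↥H, Cfsg.IsComponent D →
      Y ≤ Subgroup.centralizer ((D.map H.subtype : Subgroup G) : Set G) := by
    intro D hD
    have hperf := CfsgLib.Coprime.commutator_self_of_isComponent hD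
    by_cases hfix : (D.map H.subtype).map (MulAut.conj t).toMonoidHom = D.map H.subtype
    · by_cases htc : t ∈ Subgroup.centralizer ((D.map H.subtype : Subgroup G) : Set G)
      · have hDC : D.map H.subtype ≤ C := fun d hd => ⟨Subgroup.map_subtype_le _ hd,
          Subgroup.mem_centralizer_singleton_iff.2 (Subgroup.mem_centralizer_iff.1 htc d hd)⟩
        intro y hy
        refine Subgroup.mem_centralizer_iff.2 fun d hd => ?_
        refine (hcompC _ hDC
          (CfsgLib.Coprime.BenderUniqueness.component_restrict inf_le_left hD hDC) ?_ y hy d hd).eq.symm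
        rw [Subgroup.card_map_of_injective H.subtype_injective]
        exact heven hD
      · refine hcon D hD hfix (fun y hy => ?_) htc
        by_contra hny
        set yH : ↥H := ⟨y, (hYC hy).1⟩
        set D' := D.map (MulAut.conj yH).toMonoidHom with hD'
        have hD'c : Cfsg.IsComponent D' := CfsgLib.Coprime.isComponent_map_equiv _ hD
        have hne : D ≠ D' := fun e => hny (by
          rw [← CfsgLib.Coprime.conjBy_eq_self_iff, CfsgLib.Coprime.conjBy]
          conv_rhs => rw [e, hD', Subgroup.map_map]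
          rw [Subgroup.map_map]; rfl)
        set N := D.map H.subtype ⊔ Subgroup.zpowers t with hN
        have htN : t ∈ Subgroup.normalizer ((D.map H.subtype : Subgroup G) : Set G) :=
          CfsgLib.Coprime.conjBy_eq_self_iff.1 hfix
        have hND : N ≤ Subgroup.normalizer ((D.map H.subtype : Subgroup G) : Set G) :=
          sup_le Subgroup.le_normalizer (Subgroup.zpowers_le.2 htN)
        have hT : IsPGroup 2 ((Subgroup.zpowers t).subgroupOf N) := by
          refine IsPGroup.of_card (n := 1) ?_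
          rw [Nat.card_congr (Subgroup.subgroupOfEquivOfLe (le_sup_right : Subgroup.zpowers t ≤ N)).toEquiv,
            Nat.card_zpowers, ht, pow_one]
        obtain ⟨S, hS⟩ := hT.exists_le_sylow
        obtain ⟨x, n, hn, hx⟩ := CfsgLib.Coprime.exists_pElement_not_mem_center hD.2 (heven hD)
        have hxN : ((x : ↥H) : G) ∈ N := Subgroup.mem_sup_left (Subgroup.mem_map_of_mem _ x.2)
        have hxp : IsPGroup 2 (Subgroup.zpowers (⟨_, hxN⟩ : N)) := by
          rintro ⟨_, j, rfl⟩
          refine ⟨n, Subtype.ext ?_⟩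
          show ((⟨_, hxN⟩ : N) ^ j) ^ 2 ^ n = 1
          rw [← zpow_natCast, ← zpow_mul, mul_comm, zpow_mul, zpow_natCast]
          have : ((x : ↥H) : G) ^ 2 ^ n = 1 := congrArg (fun d : D => ((d : ↥H) : G)) hn
          rw [show (⟨_, hxN⟩ : N) ^ 2 ^ n = 1 from Subtype.ext this, one_zpow]
        obtain ⟨S', hS'⟩ := hxp.exists_le_sylow
        obtain ⟨g, hg⟩ := MulAction.exists_smul_eq N S' S
        have hxS : g * ⟨_, hxN⟩ * g⁻¹ ∈ (S : Subgroup N) := by
          rw [← hg]; exact ⟨_, hS' (Subgroup.mem_zpowers _), rfl⟩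
        set u₀ : G := (g : G) * ((x : ↥H) : G) * (g : G)⁻¹ with hu₀
        have hgN := hND g.2
        have hu₀D : u₀ ∈ D.map H.subtype :=
          (Subgroup.mem_normalizer_iff.1 hgN _).1 (Subgroup.mem_map_of_mem _ x.2)
        set DG := D.map H.subtype with hDG
        set Z := DG ⊓ Subgroup.centralizer (DG : Set G) with hZ
        have hu₀Z : u₀ ∉ Z := fun h => hx (by
          have h2 := (Subgroup.mem_normalizer_iff.1
            (CfsgLib.Coprime.normalizer_le_normalizer_centralizer DG hgN) ((x : ↥H) : G)).2 h.2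
          refine Subgroup.mem_center_iff.2 fun d => Subtype.ext (Subtype.ext ?_)
          exact Subgroup.mem_centralizer_iff.1 h2 _ (Subgroup.mem_map_of_mem H.subtype d.2))
        have h2el : ∀ a : G, (∃ h : a ∈ N, (⟨a, h⟩ : N) ∈ (S : Subgroup N)) → ∃ k : ℕ, a ^ 2 ^ k = 1 := by
          rintro a ⟨h, ha⟩
          obtain ⟨k, hk⟩ := S.2 ⟨_, ha⟩
          exact ⟨k, congrArg (fun q : (S : Subgroup N) => ((q : N) : G)) hk⟩
        -- a noncentral `2`-element of `D`, fixed by `t` modulo the centre
        obtain ⟨u, huD, huZ, ⟨k, huk⟩, hut⟩ : ∃ u ∈ DG, u ∉ Z ∧ (∃ k : ℕ, u ^ 2 ^ k = 1) ∧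
            u⁻¹ * (t * u * t⁻¹) ∈ Z := by
          set v := u₀⁻¹ * (t * u₀ * t⁻¹) with hv
          have hvD : v ∈ DG := DG.mul_mem (DG.inv_mem hu₀D) ((Subgroup.mem_normalizer_iff.1 htN _).1 hu₀D)
          have hu₀S : ∃ h : u₀ ∈ N, (⟨u₀, h⟩ : N) ∈ (S : Subgroup N) := ⟨(g * ⟨_, hxN⟩ * g⁻¹).2, hxS⟩
          by_cases hvZ : v ∈ Z
          · exact ⟨u₀, hu₀D, hu₀Z, h2el _ hu₀S, hvZ⟩
          have hvS : ∃ h : v ∈ N, (⟨v, h⟩ : N) ∈ (S : Subgroup N) := by
            obtain ⟨h, hh⟩ := hu₀S
            have htS : (⟨t, Subgroup.mem_sup_right (Subgroup.mem_zpowers t)⟩ : N) ∈ (S : Subgroup N) :=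
              hS (Subgroup.mem_subgroupOf.2 (Subgroup.mem_zpowers t))
            exact ⟨_, (S : Subgroup N).mul_mem ((S : Subgroup N).inv_mem hh)
              ((S : Subgroup N).mul_mem ((S : Subgroup N).mul_mem htS hh) ((S : Subgroup N).inv_mem htS))⟩
          obtain ⟨m, hm⟩ := h2el v hvS
          have hinv : t * v * t⁻¹ = v⁻¹ := by
            have hgen : ∀ a : G, t * (a⁻¹ * (t * a * t⁻¹)) * t⁻¹ = (a⁻¹ * (t * a * t⁻¹))⁻¹ := by
              intro a
              rw [hti, mul_inv_rev, mul_inv_rev, mul_inv_rev, inv_inv, hti]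
              calc t * (a⁻¹ * (t * a * t)) * t = t * a⁻¹ * t * a * (t * t) := by group
                _ = t * (a⁻¹ * t) * a := by rw [ht1]; group
            exact hgen u₀
          have hex : ∃ i, v ^ 2 ^ i ∈ Z := ⟨m, by rw [hm]; exact Z.one_mem⟩
          classical
          obtain ⟨i, hi⟩ : ∃ i, Nat.find hex = i + 1 := by
            rcases h : Nat.find hex with _ | i
            · exact absurd (by simpa [h] using Nat.find_spec hex) hvZ
            · exact ⟨i, rfl⟩
          refine ⟨v ^ 2 ^ i, DG.pow_mem hvD _, Nat.find_min hex (by omega), ⟨m, ?_⟩, ?_⟩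
          · rw [← pow_mul, mul_comm, pow_mul, hm, one_pow]
          · have := hi ▸ Nat.find_spec hex
            rw [← conj_pow, hinv, inv_pow, ← mul_inv_rev, ← pow_two, ← pow_mul, ← pow_succ]
            exact Z.inv_mem this
        set z := u⁻¹ * (t * u * t⁻¹) with hz
        have huH : u ∈ H := Subgroup.map_subtype_le _ huD
        -- `y` centralizes `z`
        have hyz : y * z * y⁻¹ = z := by
          have hzU : z ∈ U := by
            obtain ⟨zH, hzH, e⟩ := hut.1
            refine ⟨zH, ?_, e⟩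
            rw [← CfsgLib.Coprime.fitting_eq_pCore_of_pPrimeCore_eq_bot hO]
            refine CfsgLib.Coprime.layer_inf_centralizer_layer_le_fitting
              ⟨CfsgLib.Coprime.component_le_layer hD hzH, Subgroup.mem_centralizer_iff.2 fun l hl => ?_⟩
            refine (Subgroup.mem_centralizer_singleton_iff.1
              ((sSup_le fun L hL => ?_ : Cfsg.layer ↥H ≤ Subgroup.centralizer {zH}) hl))
            intro l hl
            refine Subgroup.mem_centralizer_singleton_iff.2 ?_
            by_cases hLD : L = D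
            · subst hLD
              exact Subtype.ext ((Subgroup.mem_centralizer_iff.1 (e.symm ▸ hut.2 :
                H.subtype zH ∈ Subgroup.centralizer (DG : Set G))) _ (Subgroup.mem_map_of_mem _ hl))
            · exact CfsgLib.Coprime.commutator_eq_bot_iff_forall.1
                (CfsgLib.Coprime.components_commute hL hD hLD) l hl zH hzH
          rw [mul_inv_eq_iff_eq_mul]
          exact (Subgroup.mem_centralizer_iff.1 (hYU hy) z hzU).symm
        set w := y * u * y⁻¹ with hw
        have hwD : w ∈ D'.map H.subtype := by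
          obtain ⟨uH, huH', e⟩ := huD
          exact ⟨yH * uH * yH⁻¹, ⟨uH, huH', rfl⟩, by rw [hw, ← e]; rfl⟩
        have huw : Commute u w := hcc hD hD'c hne u huD w hwD
        have hyt : y * t = t * y := Subgroup.mem_centralizer_singleton_iff.1 (hYC hy).2
        have hwt : t * w * t⁻¹ = w * z := by
          calc t * w * t⁻¹ = (t * y) * u * (t * y)⁻¹ := by rw [hw]; group
            _ = y * (t * u * t⁻¹) * y⁻¹ := by rw [← hyt]; group
            _ = w * (y * z * y⁻¹) := by rw [hw, hz]; group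
            _ = w * z := by rw [hyz]
        -- `y` and its conjugate by `u` are in the core of `C ∩ C(z)`
        set C₀ := C ⊓ Subgroup.centralizer ({z} : Set G) with hC₀
        have hyC₀ : y ∈ C₀ := ⟨hYC hy,
          Subgroup.mem_centralizer_singleton_iff.2 (mul_inv_eq_iff_eq_mul.1 hyz)⟩
        have hzu : Commute u z := Subgroup.mem_centralizer_iff.1 hut.2 u huD
        have hC₀n : ∀ a : G, (a = u ∨ a = u⁻¹) → ∀ c ∈ C₀, a * c * a⁻¹ ∈ C₀ := by
          intro a ha c hc
          have hcz : Commute c z := Subgroup.mem_centralizer_singleton_iff.1 hc.2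
          have haz : Commute a z := by rcases ha with rfl | rfl; exacts [hzu, hzu.inv_left]
          have haH : a ∈ H := by rcases ha with rfl | rfl; exacts [huH, H.inv_mem huH]
          have hat : t * a * t⁻¹ = a * z ∨ t * a * t⁻¹ = a * z⁻¹ := by
            rcases ha with rfl | rfl
            · left; rw [hz]; group
            · right; rw [show t * u⁻¹ * t⁻¹ = (t * u * t⁻¹)⁻¹ by group,
                show t * u * t⁻¹ = u * z by rw [hz]; group, mul_inv_rev,
                hzu.inv_inv.symm.eq]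
          refine ⟨⟨H.mul_mem (H.mul_mem haH hc.1.1) (H.inv_mem haH), Subgroup.mem_centralizer_singleton_iff.2 ?_⟩,
            Subgroup.mem_centralizer_singleton_iff.2 ((haz.mul_left hcz).mul_left haz.inv_left).eq⟩
          have htc : t * c * t⁻¹ = c := by
            rw [mul_inv_eq_iff_eq_mul]; exact (Subgroup.mem_centralizer_singleton_iff.1 hc.1.2).symm
          refine (mul_inv_eq_iff_eq_mul.1 (?_ : t * (a * c * a⁻¹) * t⁻¹ = a * c * a⁻¹)).symm
          calc t * (a * c * a⁻¹) * t⁻¹ = (t * a * t⁻¹) * (t * c * t⁻¹) * (t * a * t⁻¹)⁻¹ := by group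
            _ = a * c * a⁻¹ := by
              rw [htc]
              rcases hat with h | h <;> rw [h]
              · calc a * z * c * (a * z)⁻¹ = a * (z * c) * z⁻¹ * a⁻¹ := by group
                  _ = a * c * a⁻¹ := by rw [← hcz.eq]; group
              · calc a * z⁻¹ * c * (a * z⁻¹)⁻¹ = a * (z⁻¹ * c) * z * a⁻¹ := by group
                  _ = a * c * a⁻¹ := by rw [← hcz.inv_right.eq]; group
        have hC₀N : u ∈ Subgroup.normalizer (C₀ : Set G) :=
          Subgroup.mem_normalizer_iff.2 fun c => ⟨hC₀n u (Or.inl rfl) c, fun h => by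
            have := hC₀n u⁻¹ (Or.inr rfl) _ h
            rwa [show u⁻¹ * (u * c * u⁻¹) * u⁻¹⁻¹ = c by group] at this⟩
        set N₀ := OC ⊓ C₀ with hN₀
        have hN₀n : C₀ ≤ Subgroup.normalizer (N₀ : Set G) :=
          CfsgLib.Coprime.inf_le_normalizer (inf_le_left.trans hOCn) Subgroup.le_normalizer
        have hN₀p : (Nat.card N₀).Coprime 2 := Nat.Coprime.symm
          ((Nat.Prime.coprime_iff_not_dvd Nat.prime_two).2 fun h =>
            hOCp (h.trans (Subgroup.card_dvd_of_le inf_le_left)))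
        set N₁ := CfsgLib.Coprime.conjBy u N₀ with hN₁
        have hN₁le : N₁ ≤ C₀ := by
          rintro _ ⟨c, hc, rfl⟩
          exact hC₀n u (Or.inl rfl) c hc.2
        have hN₁n : C₀ ≤ Subgroup.normalizer (N₁ : Set G) := by
          intro c hc
          have h1 : u⁻¹ * c * u ∈ C₀ := (Subgroup.mem_normalizer_iff''.1 hC₀N c).1 hc
          rw [← CfsgLib.Coprime.conjBy_eq_self_iff, hN₁, CfsgLib.Coprime.conjBy_conjBy,
            show c * u = u * (u⁻¹ * c * u) by group, ← CfsgLib.Coprime.conjBy_conjBy,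
            CfsgLib.Coprime.conjBy_eq_self_iff.2 (hN₀n h1)]
        have hN₁p : (Nat.card N₁).Coprime 2 := by rw [hN₁, CfsgLib.Coprime.card_conjBy]; exact hN₀p
        have hy₁ : y ∈ N₀ := ⟨hYO hy, hyC₀⟩
        have hmem : u * y⁻¹ * u⁻¹ ∈ N₁ := ⟨y⁻¹, N₀.inv_mem hy₁, rfl⟩
        have hx : y * (u * y⁻¹ * u⁻¹) ∈ CfsgLib.Coprime.coreIn 2 C₀ :=
          Subgroup.mul_mem _ (CfsgLib.Coprime.le_coreIn inf_le_right hN₀n hN₀p hy₁)
            (CfsgLib.Coprime.le_coreIn hN₁le hN₁n hN₁p hmem)
        have hwu : y * (u * y⁻¹ * u⁻¹) = w * u⁻¹ := by rw [hw]; group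
        rw [hwu] at hx
        have h3 := hodd (CfsgLib.Coprime.coreIn 2 C₀) (by
          rw [CfsgLib.Coprime.coreIn, Subgroup.card_map_of_injective C₀.subtype_injective]
          exact CfsgLib.Coprime.pPrimeCore_not_dvd Nat.prime_two) _ hx k (by
          rw [huw.symm.inv_right.mul_pow, inv_pow, huk, inv_one, mul_one, hw, conj_pow, huk, mul_one,
            mul_inv_cancel])
        rw [mul_inv_eq_one] at h3
        refine huZ ⟨huD, Subgroup.mem_centralizer_iff.2 fun d hd => ?_⟩
        exact (hcc hD hD'c hne d hd u (h3 ▸ hwD)).eq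
    · set D₁ := D.map τ.toMonoidHom with hD₁
      have hD₁c : Cfsg.IsComponent D₁ := CfsgLib.Coprime.isComponent_map_equiv _ hD
      have hne : D ≠ D₁ := fun e => hfix (by
        conv_rhs => rw [e, hD₁, Subgroup.map_map]
        rw [Subgroup.map_map]; rfl)
      have hcom : ∀ a ∈ D, ∀ b ∈ D₁, Commute a b := fun a ha b hb =>
        CfsgLib.Coprime.commutator_eq_bot_iff_forall.1
          (CfsgLib.Coprime.components_commute hD hD₁c hne) a ha b hb
      let Δ : D →* ↥H :=
        { toFun := fun d => (d : ↥H) * τ d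
          map_one' := by simp
          map_mul' := fun a b => by
            show ((a : ↥H) * b) * τ ((a : ↥H) * b) = (a : ↥H) * τ a * ((b : ↥H) * τ b)
            rw [map_mul]
            calc ((a : ↥H) * b) * (τ a * τ b) = a * ((b : ↥H) * τ a) * τ b := by group
              _ = a * τ a * (b * τ b) := by rw [(hcom b b.2 (τ a) ⟨a, a.2, rfl⟩).eq]; group }
      have hΔC : ∀ d, ((Δ d : ↥H) : G) ∈ C := fun d => ⟨(Δ d).2,
        Subgroup.mem_centralizer_singleton_iff.2 (by
          have h1 : τ (Δ d) = Δ d := by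
            show τ ((d : ↥H) * τ d) = d * τ d
            rw [map_mul, hττ]
            exact (hcom d d.2 (τ d) ⟨d, d.2, rfl⟩).eq.symm
          have h2 := congrArg (fun q : ↥H => (q : G)) h1
          rw [hτv, mul_inv_eq_iff_eq_mul] at h2
          exact h2.symm)⟩
      set R := (Δ.range).map H.subtype with hR
      have hRC : R ≤ C := by rintro _ ⟨_, ⟨d, rfl⟩, rfl⟩; exact hΔC d
      have hker : Δ.ker ≤ Subgroup.center D := by
        intro d hd
        refine Subgroup.mem_center_iff.2 fun e => Subtype.ext ?_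
        have h1 : (d : ↥H) = (τ d)⁻¹ := eq_inv_of_mul_eq_one_left hd
        show (e : ↥H) * d = d * e
        rw [h1]
        exact (hcom e e.2 _ (D₁.inv_mem ⟨d, d.2, rfl⟩)).eq
      haveI : Nontrivial Δ.range := (Subgroup.nontrivial_iff_ne_bot _).2 fun e => by
        rw [MonoidHom.range_eq_bot_iff, ← MonoidHom.ker_eq_top_iff] at e
        exact CfsgLib.Coprime.center_ne_top_of_isQuasisimple hD.2 (top_unique (e ▸ hker))
      have hRq : Cfsg.IsQuasisimple R := CfsgLib.Coprime.isQuasisimple_congr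
        (Δ.range.equivMapOfInjective _ H.subtype_injective)
        (CfsgLib.Invol.BLayer.isQuasisimple_of_surjective hD.2 Δ.rangeRestrict_surjective)
      have hRe : 2 ∣ Nat.card R := by
        obtain ⟨x, n, hn, hx⟩ := CfsgLib.Coprime.exists_pElement_not_mem_center hD.2 (heven hD)
        rw [hR, Subgroup.card_map_of_injective H.subtype_injective]
        have h1 : Δ.rangeRestrict x ≠ 1 := fun e => hx (hker (congrArg Subtype.val e))
        obtain ⟨i, -, hi⟩ := (Nat.dvd_prime_pow Nat.prime_two).1 (orderOf_dvd_of_pow_eq_one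
          (show Δ.rangeRestrict x ^ 2 ^ n = 1 by rw [← map_pow, hn, map_one]))
        have : i ≠ 0 := fun e => h1 (orderOf_eq_one_iff.1 (by rw [hi, e, pow_zero]))
        exact (dvd_pow_self 2 this).trans (hi ▸ orderOf_dvd_natCard _)
      have hRs : (R.subgroupOf C).IsSubnormal := by
        haveI := CfsgLib.Coprime.layer_normal (G := ↥H)
        set LC := ((Cfsg.layer ↥H).map H.subtype).subgroupOf C with hLC
        haveI hLn : LC.Normal := ⟨fun a ha c =>
          (Subgroup.mem_normalizer_iff.1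
            (CfsgLib.Coprime.BenderPair.le_normalizer_map_subtype H (Cfsg.layer ↥H) c.2.1) _).1 ha⟩
        have hle : R.subgroupOf C ≤ LC := Subgroup.comap_mono (by
          rintro _ ⟨_, ⟨d, rfl⟩, rfl⟩
          exact Subgroup.mem_map_of_mem _ (Subgroup.mul_mem _ (CfsgLib.Coprime.component_le_layer hD d.2)
            (CfsgLib.Coprime.component_le_layer hD₁c ⟨d, d.2, rfl⟩)))
        refine Subgroup.IsSubnormal.trans hle (Subgroup.Normal.isSubnormal ?_) (Subgroup.Normal.isSubnormal hLn)
        refine ⟨?_⟩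
        rintro ⟨r, hr⟩ hrR ⟨c, hc⟩
        obtain ⟨_, ⟨d, rfl⟩, ed⟩ := (Subgroup.mem_subgroupOf.1 (Subgroup.mem_subgroupOf.1 hrR) :)
        obtain ⟨cH, hcH, ec⟩ := Subgroup.mem_subgroupOf.1 hc
        have hcn : cH ∈ Subgroup.normalizer (D : Set ↥H) :=
          CfsgLib.Coprime.layer_le_normalizer_component hD hcH
        have hct : τ cH = cH := Subtype.ext (by
          rw [hτv, mul_inv_eq_iff_eq_mul, show (cH : G) = (c : G) from ec]
          exact (Subgroup.mem_centralizer_singleton_iff.1 c.2.2).symm)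
        refine Subgroup.mem_subgroupOf.2 (Subgroup.mem_subgroupOf.2
          ⟨_, ⟨⟨cH * d * cH⁻¹, (Subgroup.mem_normalizer_iff.1 hcn _).1 d.2⟩, rfl⟩, ?_⟩)
        show ((cH * (d : ↥H) * cH⁻¹ * τ (cH * (d : ↥H) * cH⁻¹) : ↥H) : G) = (c : G) * (r : G) * (c : G)⁻¹
        rw [map_mul, map_mul, map_inv, hct, ← ed, ← show (cH : G) = (c : G) from ec]
        show ((cH * (d : ↥H) * cH⁻¹ * (cH * τ d * cH⁻¹) : ↥H) : G) = _
        rw [show cH * (d : ↥H) * cH⁻¹ * (cH * τ d * cH⁻¹) = cH * ((d : ↥H) * τ d) * cH⁻¹ by group]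
        rfl
      have hRcomp : Cfsg.IsComponent (R.subgroupOf C) :=
        ⟨hRs, CfsgLib.Coprime.isQuasisimple_congr (Subgroup.subgroupOfEquivOfLe hRC).symm hRq⟩
      intro y hy
      set yH : ↥H := ⟨y, (hYC hy).1⟩ with hyH
      have hyΔ : ∀ d : D, Commute yH (Δ d) := fun d => Subtype.ext
        (hcompC R hRC hRcomp hRe y hy _ (Subgroup.mem_map_of_mem _ ⟨d, rfl⟩)).eq
      have hyt : τ yH = yH := Subtype.ext (by
        rw [hτv, mul_inv_eq_iff_eq_mul]
        exact (Subgroup.mem_centralizer_singleton_iff.1 (hYC hy).2).symm)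
      -- `y` normalizes `D`
      have hperm : ∀ a : ↥H, τ a = a → (∀ d : D, Commute a (Δ d)) →
          D.map (MulAut.conj a).toMonoidHom = D ∨ D.map (MulAut.conj a).toMonoidHom = D₁ := by
        intro a hat haΔ
        by_contra hne'
        push Not at hne'
        have hc' : Cfsg.IsComponent (D.map (MulAut.conj a).toMonoidHom) :=
          CfsgLib.Coprime.isComponent_map_equiv _ hD
        refine CfsgLib.Coprime.center_ne_top_of_isQuasisimple hD.2 (top_unique fun b _ => ?_)
        refine Subgroup.mem_center_iff.2 fun d => Subtype.ext ?_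
        have hb : a * (b : ↥H) * a⁻¹ ∈ D.map (MulAut.conj a).toMonoidHom := ⟨b, b.2, rfl⟩
        have h1 : Commute (a * (b : ↥H) * a⁻¹) ((d : ↥H) * τ d) :=
          Commute.mul_right (CfsgLib.Coprime.commutator_eq_bot_iff_forall.1
            (CfsgLib.Coprime.components_commute hc' hD hne'.1) _ hb _ d.2)
            (CfsgLib.Coprime.commutator_eq_bot_iff_forall.1
              (CfsgLib.Coprime.components_commute hc' hD₁c hne'.2) _ hb _ ⟨d, d.2, rfl⟩)
        have h2 : a * ((d : ↥H) * τ d) * a⁻¹ = (d : ↥H) * τ d := by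
          rw [(show Commute a ((d : ↥H) * τ d) from haΔ d).eq, mul_inv_cancel_right]
        rw [← h2, Commute.conj_iff] at h1
        have h3 : Commute (b : ↥H) (τ d) := hcom b b.2 _ ⟨d, d.2, rfl⟩
        have h4 := h1.mul_right h3.inv_right
        rw [mul_inv_cancel_right] at h4
        exact h4.eq.symm
      have hyN : yH ∈ Subgroup.normalizer (D : Set ↥H) := by
        rcases hperm yH hyt hyΔ with h | h
        · exact CfsgLib.Coprime.conjBy_eq_self_iff.1 h
        · exfalso
          have h2 : D₁.map (MulAut.conj yH).toMonoidHom = D := by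
            have e : ∀ v : ↥H, MulAut.conj yH (τ v) = τ (MulAut.conj yH v) := fun v => by
              simp only [MulAut.conj_apply, map_mul, map_inv, hyt]
            have h3 := congrArg (Subgroup.map τ.toMonoidHom) h
            rw [Subgroup.map_map, hD₁, Subgroup.map_map] at h3
            have e2 : τ.toMonoidHom.comp (MulAut.conj yH).toMonoidHom =
                (MulAut.conj yH).toMonoidHom.comp τ.toMonoidHom := MonoidHom.ext fun v => (e v).symm
            have e3 : τ.toMonoidHom.comp τ.toMonoidHom = MonoidHom.id ↥H := MonoidHom.ext hττ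
            rw [e2, e3, Subgroup.map_id] at h3
            rw [hD₁, Subgroup.map_map]
            exact h3
          have hsq : yH * yH ∈ Subgroup.normalizer (D : Set ↥H) := by
            rw [← CfsgLib.Coprime.conjBy_eq_self_iff, ← CfsgLib.Coprime.conjBy_conjBy,
              show CfsgLib.Coprime.conjBy yH D = D₁ from h]
            exact h2
          have hcop : (orderOf yH).Coprime 2 := by
            rw [← Subgroup.orderOf_coe]
            exact Nat.Coprime.symm ((Nat.Prime.coprime_iff_not_dvd Nat.prime_two).2 fun hd =>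
              hOCp (hd.trans (OC.orderOf_dvd_natCard (hYO hy))))
          obtain ⟨j, hj⟩ := exists_pow_eq_self_of_coprime (x := yH) (n := 2) hcop.symm
          have h4 : yH ∈ Subgroup.normalizer (D : Set ↥H) := by
            rw [← hj, pow_two]; exact Subgroup.pow_mem _ hsq j
          exact hne ((CfsgLib.Coprime.conjBy_eq_self_iff.2 h4).symm.trans h)
      have hyc : yH ∈ Subgroup.centralizer (D : Set ↥H) := by
        refine CfsgLib.Invol.MaxComp.mem_centralizer_of_central_commutators hperf fun d hd => ?_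
        set d' := yH * d * yH⁻¹ with hd'
        have hd'D : d' ∈ D := (Subgroup.mem_normalizer_iff.1 hyN d).1 hd
        have h1 : d' * τ d' = d * τ d := by
          have hc' : Commute yH (d * τ d) := hyΔ ⟨d, hd⟩
          calc d' * τ d' = yH * (d * τ d) * yH⁻¹ := by
                rw [hd', map_mul, map_mul, map_inv, hyt]; group
            _ = d * τ d := by rw [hc'.eq, mul_inv_cancel_right]
        have hwz : d' * d⁻¹ ∈ Subgroup.centralizer (D : Set ↥H) := by
          have e : d'⁻¹ * d = τ d' * (τ d)⁻¹ := by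
            rw [eq_mul_inv_iff_mul_eq, mul_assoc, ← h1, inv_mul_cancel_left]
          have h5 : d'⁻¹ * d ∈ Subgroup.centralizer (D : Set ↥H) := by
            refine Subgroup.mem_centralizer_iff.2 fun b hb => (hcom b hb _ ?_).eq
            rw [e]
            exact D₁.mul_mem ⟨d', hd'D, rfl⟩ (D₁.inv_mem ⟨d, hd, rfl⟩)
          have h6 := (Subgroup.centralizer (D : Set ↥H)).inv_mem h5
          have h7 := Subgroup.mem_centralizer_iff.1 h6 d hd
          rw [mul_inv_rev, inv_inv, mul_inv_cancel_left] at h7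
          rw [show d' * d⁻¹ = d⁻¹ * d' by rw [mul_inv_eq_iff_eq_mul]; exact h7]
          simpa [mul_inv_rev] using h6
        exact ⟨d' * d⁻¹, hwz, D.mul_mem hd'D (D.inv_mem hd), (inv_mul_cancel_right d' d).symm⟩
      refine Subgroup.mem_centralizer_iff.2 ?_
      rintro _ ⟨d, hd, rfl⟩
      exact congrArg Subtype.val (Subgroup.mem_centralizer_iff.1 hyc d hd)
  -- hence `Y` lies in its own annihilator
  refine hY1 ((Subgroup.eq_bot_iff_forall _).2 fun y hy => ?_)
  set yH : ↥H := ⟨y, (hYC hy).1⟩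
  have hF : Cfsg.fittingSubgroup ↥H = Cfsg.pCore 2 ↥H :=
    CfsgLib.Coprime.fitting_eq_pCore_of_pPrimeCore_eq_bot hO
  have hcent : yH ∈ Subgroup.centralizer (Cfsg.generalizedFittingSubgroup ↥H : Set ↥H) := by
    rw [← Subgroup.zpowers_le, Subgroup.le_centralizer_iff, Cfsg.generalizedFittingSubgroup, hF]
    refine sup_le (sSup_le fun D hD => ?_) ?_
    · rw [Subgroup.le_centralizer_iff, Subgroup.zpowers_le, Subgroup.mem_centralizer_iff]
      exact fun d hd => Subtype.ext
        (Subgroup.mem_centralizer_iff.1 (hYall D hD hy) _ (Subgroup.mem_map_of_mem _ hd))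
    · rw [Subgroup.le_centralizer_iff, Subgroup.zpowers_le, Subgroup.mem_centralizer_iff]
      exact fun d hd => Subtype.ext
        (Subgroup.mem_centralizer_iff.1 (hYU hy) _ (Subgroup.mem_map_of_mem _ hd))
  have h1 : yH ∈ Cfsg.fittingSubgroup ↥H := by
    rw [← CfsgLib.Coprime.generalizedFitting_inf_centralizer_layer]
    exact ⟨CfsgLib.Coprime.centralizer_generalizedFitting_le hcent,
      Subgroup.centralizer_le CfsgLib.Coprime.layer_le_generalizedFitting hcent⟩
  rw [hF] at h1
  obtain ⟨k, hk⟩ := hUp ⟨y, ⟨yH, h1, rfl⟩⟩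
  exact hodd OC hOCp y (hYO hy) k (congrArg Subtype.val hk)

end Cfsg.Agent.S1328
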