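import Cfsg.Statements.S1331
import Cfsg.Agent.Lib.Coprime.Action
import Cfsg.Agent.Lib.CFun.OddZgroupLength

set_option autoImplicit false
open Cfsg

namespace Cfsg.Agent.S1331

/-- Let θ be a solvable A-signalizer functor on the finite group G for the prime p, A elementary abelian of rank at least 3, X a member of the family of θ, and B ≤ A with |B| ≥ p². Then X is generated by the subgroups X ∩ ⋂_{d ∈ D, d ≠ 1} θ d, D ranging over the subgroups of index p in B. -/
theorem result {G : Type*} [Group G] [Finite G] (p : ℕ) [Fact p.Prime] (A : Subgroup G) (hA : Cfsg.IsElementaryAbelian p A) (hA3 : p ^ 3 ≤ Nat.card ↥A) (θ : G → Subgroup G) (hθ : Cfsg.IsSolvableSignalizerFunctor p A θ) (X : Subgroup G) (hX : X ∈ Cfsg.signalizerFamily p A θ) (B : Subgroup G) (hB : B ≤ A) (hB2 : p ^ 2 ≤ Nat.card ↥B) : X = ⨆ D : {D : Subgroup G // D ≤ B ∧ D.relIndex B = p}, X ⊓ Cfsg.signalizerInf (D : Subgroup G) θ := by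
  obtain ⟨hAc, hAe⟩ := hA
  obtain ⟨hXs, hXp, hXinv, hXθ⟩ := hX
  haveI := hAc
  set W := ⨆ D : {D : Subgroup G // D ≤ B ∧ D.relIndex B = p}, X ⊓ Cfsg.signalizerInf (D : Subgroup G) θ
  refine le_antisymm ?_ (iSup_le fun D => inf_le_left)
  have hAN : A ≤ Subgroup.normalizer (X : Set G) := fun b hb =>
    Subgroup.mem_normalizer_iff.2 fun u => ⟨fun hu => hXinv b hb u hu, fun hu => by
      have := hXinv b⁻¹ (A.inv_mem hb) _ hu
      rwa [show b⁻¹ * (b * u * b⁻¹) * b⁻¹⁻¹ = u by group] at this⟩
  have hab : ∀ a ∈ A, ∀ b ∈ A, Commute a b := fun a ha b hb =>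
    congrArg Subtype.val (hAc.is_comm.comm (⟨a, ha⟩ : A) ⟨b, hb⟩)
  have hord : ∀ a ∈ A, a ≠ 1 → orderOf a = p := fun a ha h1 => orderOf_eq_prime (hAe a ha) h1
  have key : ∀ E : Subgroup G, E ≤ B → E < B → X ⊓ Subgroup.centralizer (E : Set G) ≤ W := by
    intro E
    induction E using WellFoundedGT.induction with
    | _ E ih =>
      intro hEB hlt
      obtain ⟨C, -, hC⟩ := exists_maximal_ge_of_wellFoundedGT
        (fun Y : Subgroup G => Y ≤ B ∧ E ⊓ Y = ⊥) ⊥ ⟨bot_le, inf_bot_eq E⟩
      obtain ⟨hCB, hEC⟩ := hC.prop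
      have hnorm : ∀ Y Z : Subgroup G, Y ≤ B → Z ≤ B → Z ≤ Subgroup.normalizer (Y : Set G) :=
        fun Y Z hY hZ z hz => Subgroup.mem_normalizer_iff.2 fun y => by
          constructor
          · intro hy
            rwa [(hab z (hB (hZ hz)) y (hB (hY hy))).eq, mul_inv_cancel_right]
          · intro hy
            have h := (hab z (hB (hZ hz)) _ (hB (hY hy))).eq
            rw [inv_mul_cancel_right] at h
            exact (mul_left_cancel h) ▸ hy
      have hsup : E ⊔ C = B := by
        refine le_antisymm (sup_le hEB hCB) fun y hy => ?_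
        by_contra hyEC
        have hle : C ⊔ Subgroup.zpowers y ≤ B := sup_le hCB (Subgroup.zpowers_le.2 hy)
        have hmeet : E ⊓ (C ⊔ Subgroup.zpowers y) = ⊥ := by
          refine le_bot_iff.1 fun e he => ?_
          obtain ⟨c, hc, z, hz, rfl⟩ := CfsgLib.Coprime.mem_sup_exists
            (hnorm C _ hCB (Subgroup.zpowers_le.2 hy)) he.2
          by_cases hz1 : z = 1
          · rw [hz1, mul_one] at he ⊢
            exact hEC.le ⟨he.1, hc⟩
          · exfalso
            have hzA : z ∈ A := hB (Subgroup.zpowers_le.2 hy hz)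
            have hz' : z ∈ E ⊔ C := by
              have := (E ⊔ C).mul_mem ((E ⊔ C).inv_mem (Subgroup.mem_sup_right hc))
                (Subgroup.mem_sup_left he.1 : c * z ∈ E ⊔ C)
              rwa [inv_mul_cancel_left] at this
            refine hyEC ((Subgroup.zpowers_le.2 hz') ?_)
            have heq : Subgroup.zpowers z = Subgroup.zpowers y := Subgroup.eq_of_le_of_card_ge
              (Subgroup.zpowers_le.2 hz) (by
                rw [Nat.card_zpowers, Nat.card_zpowers, hord z hzA hz1]
                exact Nat.le_of_dvd (Fact.out (p := p.Prime)).pos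
                  (orderOf_dvd_of_pow_eq_one (hAe y (hB hy))))
            rw [heq]; exact Subgroup.mem_zpowers y
        have := hC.eq_of_le ⟨hle, hmeet⟩ le_sup_left
        exact hyEC (Subgroup.mem_sup_right (this ▸ Subgroup.mem_sup_right (Subgroup.mem_zpowers y)))
      have hCp : IsPGroup p C := fun c => ⟨1, by
        rw [pow_one]; exact Subtype.ext (hAe _ (hB (hCB c.2)))⟩
      have hCc : IsMulCommutative C := ⟨⟨fun a b => Subtype.ext (hab _ (hB (hCB a.2)) _ (hB (hCB b.2))).eq⟩⟩
      haveI := hCc
      by_cases hcyc : IsCyclic C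
      · -- E is a hyperplane
        have hCne : C ≠ ⊥ := fun h => hlt.ne (by rw [← hsup, h, sup_bot_eq])
        obtain ⟨g, hg⟩ := hcyc.exists_generator
        have hgC : C = Subgroup.zpowers (g : G) := le_antisymm (fun c hc => by
          obtain ⟨k, hk⟩ := hg ⟨c, hc⟩
          exact ⟨k, congrArg Subtype.val hk⟩) (Subgroup.zpowers_le.2 g.2)
        have hcard : Nat.card C = p := by
          rw [hgC, Nat.card_zpowers]
          refine hord _ (hB (hCB g.2)) fun h => hCne ?_
          rw [hgC, h, Subgroup.zpowers_one_eq_bot]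
        have hidx : E.relIndex B = p := by
          have h1 := Subgroup.card_mul_index (E.subgroupOf B)
          rw [Nat.card_congr (Subgroup.subgroupOfEquivOfLe hEB).toEquiv] at h1
          have h2 : Nat.card B = Nat.card E * Nat.card C := by
            rw [← hsup]; exact CfsgLib.CFun.ZLen.card_sup_eq (hnorm E C hEB hCB) hEC
          rw [h2, hcard] at h1
          exact Nat.eq_of_mul_eq_mul_left Nat.card_pos h1
        refine le_trans ?_ (le_iSup (fun D : {D : Subgroup G // D ≤ B ∧ D.relIndex B = p} =>
          X ⊓ Cfsg.signalizerInf (D : Subgroup G) θ) ⟨E, hEB, hidx⟩)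
        refine le_inf inf_le_left (le_iInf fun a => ?_)
        exact (inf_le_inf_left X (Subgroup.centralizer_le (Set.singleton_subset_iff.2 a.2.1))).trans
          (hXθ a (hB (hEB a.2.1)) a.2.2)
      · have hCN : C ≤ Subgroup.normalizer ((X ⊓ Subgroup.centralizer (E : Set G) : Subgroup G) : Set G) :=
          CfsgLib.Coprime.inf_le_normalizer ((hCB.trans hB).trans hAN)
            ((hnorm E C hEB hCB).trans (CfsgLib.Coprime.normalizer_le_normalizer_centralizer E))
        have hcop : (Nat.card C).Coprime (Nat.card ↥(X ⊓ Subgroup.centralizer (E : Set G))) := by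
          obtain ⟨k, hk⟩ := IsPGroup.iff_card.1 hCp
          rw [hk]
          exact ((Fact.out (p := p.Prime)).coprime_iff_not_dvd.2 fun h =>
            hXp (h.trans (Subgroup.card_dvd_of_le inf_le_left))).pow_left k
        refine CfsgLib.Coprime.le_of_centralizers_le hcyc hCN hcop fun a ha ha1 => ?_
        have hanot : a ∉ E := fun h => ha1 (Subgroup.mem_bot.1 (hEC.le ⟨h, ha⟩))
        set E' := E ⊔ Subgroup.zpowers a
        have hE'B : E' ≤ B := sup_le hEB (Subgroup.zpowers_le.2 (hCB ha))
        refine le_trans ?_ (ih E' (lt_of_le_of_ne le_sup_left fun h =>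
          hanot (h ▸ Subgroup.mem_sup_right (Subgroup.mem_zpowers a))) hE'B
          (lt_of_le_of_ne hE'B fun h => hcyc ?_))
        · refine le_inf (inf_le_left.trans inf_le_left) ?_
          rw [Subgroup.le_centralizer_iff]
          refine sup_le ?_ (Subgroup.zpowers_le.2 ?_)
          · rw [Subgroup.le_centralizer_iff]; exact inf_le_left.trans inf_le_right
          · exact Subgroup.mem_centralizer_iff.2 fun u hu =>
              Subgroup.mem_centralizer_singleton_iff.1 hu.2
        · have hCa : C = Subgroup.zpowers a := le_antisymm (fun c hc => by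
            obtain ⟨e, he, z, hz, rfl⟩ := CfsgLib.Coprime.mem_sup_exists
              (hnorm E _ hEB (Subgroup.zpowers_le.2 (hCB ha))) (h.ge (hCB hc))
            have heC : e ∈ C := by
              have := C.mul_mem hc (C.inv_mem (Subgroup.zpowers_le.2 ha hz))
              rwa [mul_inv_cancel_right] at this
            rw [Subgroup.mem_bot.1 (hEC.le ⟨he, heC⟩), one_mul]; exact hz)
            (Subgroup.zpowers_le.2 ha)
          rw [hCa]; infer_instance
  have hBne : (⊥ : Subgroup G) < B := bot_lt_iff_ne_bot.2 fun h => by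
    rw [h, Subgroup.card_bot] at hB2
    exact absurd hB2 (not_le.2 (Nat.one_lt_pow two_ne_zero (Fact.out (p := p.Prime)).one_lt))
  refine le_trans ?_ (key ⊥ bot_le hBne)
  exact le_inf le_rfl fun x _ => Subgroup.mem_centralizer_iff.2 fun y hy => by
    rw [Subgroup.mem_bot.1 hy, one_mul, mul_one]
end Cfsg.Agent.S1331
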