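import Cfsg.Statements.S1335
import Cfsg.Agent.Lib.Block.BrauerPairs

set_option autoImplicit false
open Cfsg

namespace Cfsg.Agent.S1335

/-- Let H be a subgroup of the finite group G, p a prime, k ≥ 1, P a Sylow p-subgroup of H of p-rank at least k, and suppose N_G(X) ≤ H for every subgroup X ≤ P of p-rank at least k. Then P is a Sylow p-subgroup of G. -/
theorem result {G : Type*} [Group G] [Finite G] {p : ℕ} [Fact p.Prime] (k : ℕ) (hk : 1 ≤ k) (H : Subgroup G) (P : Sylow p ↥H) (hP : ¬ Cfsg.PRankLE p (k - 1) ↥(P : Subgroup ↥H)) (hΓ : (∀ X : Subgroup G, X ≤ (P : Subgroup ↥H).map H.subtype → ¬ Cfsg.PRankLE p (k - 1) ↥X → Subgroup.normalizer (X : Set G) ≤ H)) : ∃ Q : Sylow p G, (Q : Subgroup G) = (P : Subgroup ↥H).map H.subtype := by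
  set R := (P : Subgroup ↥H).map H.subtype with hRdef
  have hRp : IsPGroup p R := P.2.map _
  have hrk : ¬ Cfsg.PRankLE p (k - 1) ↥R := by
    intro h
    refine hP fun A hAc hAe => ?_
    set e := (P : Subgroup ↥H).equivMapOfInjective H.subtype H.subtype_injective
    have h1 := h (A.map e.toMonoidHom) (Subgroup.map_isMulCommutative A _) (by
      rintro _ ⟨a, ha, rfl⟩
      rw [← map_pow, hAe a ha, map_one])
    rwa [Subgroup.card_map_of_injective e.injective] at h1
  obtain ⟨Q, hQ⟩ := hRp.exists_le_sylow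
  refine ⟨Q, (eq_of_le_of_not_lt hQ fun hlt => ?_).symm⟩
  haveI := Fintype.ofFinite G
  classical
  have h1 := CfsgLib.Block.lt_normalizer_inf Q.2 hlt
  set T := Subgroup.normalizer (R : Set G) ⊓ (Q : Subgroup G)
  have hTH : T ≤ H := inf_le_left.trans (hΓ R le_rfl hrk)
  have hT : IsPGroup p (T.subgroupOf H) := (Q.2.to_le inf_le_right).comap_subtype
  have hPT : (P : Subgroup ↥H) ≤ T.subgroupOf H := fun x hx =>
    Subgroup.mem_subgroupOf.2 (h1.le (Subgroup.mem_map_of_mem _ hx))
  have h2 := P.3 hT hPT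
  refine h1.ne (le_antisymm h1.le ?_)
  rw [hRdef, ← h2, Subgroup.map_subgroupOf_eq_of_le hTH]
end Cfsg.Agent.S1335
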