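import Cfsg.Statements.S1336
import Cfsg.Agent.Lib.Coprime.Action

set_option autoImplicit false
open Cfsg

namespace Cfsg.Agent.S1336

/-- Let G be finite and p prime. Then G has a proper subgroup H with p ∣ |H| and p ∤ |H ∩ gHg⁻¹| for every g ∉ H (a strongly p-embedded subgroup) if and only if G is not 1-connected for p. -/
theorem result {G : Type*} [Group G] [Finite G] (p : ℕ) [Fact p.Prime] : (∃ H : Subgroup G, H ≠ ⊤ ∧ p ∣ Nat.card ↥H ∧ ∀ g : G, g ∉ H → ¬ p ∣ Nat.card ↥(H ⊓ H.map (MulAut.conj g).toMonoidHom)) ↔ ¬ Cfsg.IsKConnected p 1 G := by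
  classical
  have hp : p.Prime := Fact.out
  let R : Subgroup G → Subgroup G → Prop := fun A B =>
    Cfsg.IsElementaryAbelian p A ∧ p ^ 1 ≤ Nat.card ↥A ∧ Cfsg.IsElementaryAbelian p B ∧
      p ^ 1 ≤ Nat.card ↥B ∧ ∀ a ∈ A, ∀ b ∈ B, a * b = b * a
  have hsymm : ∀ {A B : Subgroup G}, Relation.ReflTransGen R A B → Relation.ReflTransGen R B A :=
    fun {A B} h => by
      induction h with
      | refl => exact Relation.ReflTransGen.refl
      | tail _ hR ih =>
        obtain ⟨h1, h2, h3, h4, h5⟩ := hR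
        exact ih.head ⟨h3, h4, h1, h2, fun b hb a ha => (h5 a ha b hb).symm⟩
  have hline : ∀ a : G, orderOf a = p →
      Cfsg.IsElementaryAbelian p (Subgroup.zpowers a) ∧ p ^ 1 ≤ Nat.card (Subgroup.zpowers a) := fun a ha =>
    ⟨⟨inferInstance, fun x hx => by
      obtain ⟨i, rfl⟩ := Subgroup.mem_zpowers_iff.1 hx
      show (a ^ i) ^ p = 1
      rw [← zpow_natCast, ← zpow_mul, mul_comm, zpow_mul, zpow_natCast, ← ha, pow_orderOf_eq_one, one_zpow]⟩,
      by rw [pow_one, Nat.card_zpowers, ha]⟩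
  have hne : ∀ {E : Subgroup G}, Cfsg.IsElementaryAbelian p E → p ^ 1 ≤ Nat.card E →
      ∃ a ∈ E, orderOf a = p := by
    intro E hE hc
    have hnb : E ≠ ⊥ := fun e => by
      rw [e, Subgroup.card_bot, pow_one] at hc; exact absurd hc (not_le.2 hp.one_lt)
    obtain ⟨⟨a, ha⟩, ha1⟩ := (Subgroup.ne_bot_iff_exists_ne_one).1 hnb
    exact ⟨a, ha, orderOf_eq_prime (hE.2 a ha) fun e => ha1 (Subtype.ext e)⟩
  have hedge : ∀ {E : Subgroup G} {a : G}, Cfsg.IsElementaryAbelian p E → p ^ 1 ≤ Nat.card E → a ∈ E →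
      orderOf a = p → R E (Subgroup.zpowers a) := fun {E a} hE hc ha hao =>
    ⟨hE, hc, (hline a hao).1, (hline a hao).2, fun x hx y hy =>
      congrArg Subtype.val (hE.1.is_comm.comm (⟨x, hx⟩ : E) ⟨y, Subgroup.zpowers_le.2 ha hy⟩)⟩
  constructor
  · rintro ⟨H, hHtop, hpH, hH⟩ hconn
    have key : ∀ {x : G} (g : G), orderOf x = p → x ∈ H → g⁻¹ * x * g ∈ H → g ∈ H := by
      intro x g hxo hx hxg
      by_contra hg
      refine hH g hg ?_
      have hmem : x ∈ H ⊓ H.map (MulAut.conj g).toMonoidHom :=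
        Subgroup.mem_inf.2 ⟨hx, ⟨_, hxg, show g * (g⁻¹ * x * g) * g⁻¹ = x by group⟩⟩
      exact hxo ▸ Subgroup.orderOf_dvd_natCard _ hmem
    obtain ⟨⟨a₀, ha₀⟩, ha₀o⟩ := exists_prime_orderOf_dvd_card' p hpH
    replace ha₀o : orderOf a₀ = p := by rw [← ha₀o, Subgroup.orderOf_mk]
    have hall : ∀ E : Subgroup G, Relation.ReflTransGen R (Subgroup.zpowers a₀) E → E ≤ H := by
      intro E h
      induction h with
      | refl => exact Subgroup.zpowers_le.2 ha₀
      | @tail A B _ hR ih =>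
        obtain ⟨hA, hAc, -, -, hAB⟩ := hR
        obtain ⟨a, ha, hao⟩ := hne hA hAc
        intro g hg
        refine key g hao (ih ha) ?_
        rw [mul_assoc, hAB a ha g hg, inv_mul_cancel_left]
        exact ih ha
    refine hHtop (eq_top_iff.2 fun g _ => key g ha₀o ha₀ ?_)
    have ho : orderOf (g⁻¹ * a₀ * g) = p := by
      rw [← ha₀o]
      simpa using orderOf_injective (MulAut.conj g⁻¹).toMonoidHom (MulAut.conj g⁻¹).injective a₀
    exact hall _ (hconn _ _ (hline _ ha₀o).1 (hline _ ha₀o).2 (hline _ ho).1 (hline _ ho).2)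
      (Subgroup.mem_zpowers _)
  · intro hnc
    unfold Cfsg.IsKConnected at hnc
    push Not at hnc
    obtain ⟨E₁, E₂, hE₁, hc₁, hE₂, hc₂, hdis⟩ := hnc
    obtain ⟨S⟩ := (inferInstance : Nonempty (Sylow p G))
    obtain ⟨a₁, ha₁, ha₁o⟩ := hne hE₁ hc₁
    have hpG : p ∣ Nat.card G := ha₁o ▸ orderOf_dvd_natCard a₁
    have hS0 : Nontrivial (S : Subgroup G) := Finite.one_lt_card_iff_nontrivial.1
      (lt_of_lt_of_le hp.one_lt (Nat.le_of_dvd Nat.card_pos (S.dvd_card_of_dvd_card hpG)))
    haveI := S.2.center_nontrivial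
    obtain ⟨z, hz⟩ : ∃ z : Subgroup.center (S : Subgroup G), orderOf z = p := by
      refine exists_prime_orderOf_dvd_card' p ?_
      obtain ⟨k, hk⟩ := IsPGroup.iff_card.1 (S.2.to_subgroup (Subgroup.center (S : Subgroup G)))
      rcases k with _ | k
      · exact absurd (hk.trans (pow_zero p)) Finite.one_lt_card.ne'
      · exact hk ▸ dvd_pow_self p k.succ_ne_zero
    set z₀ : G := ((z : (S : Subgroup G)) : G)
    have hz₀ : orderOf z₀ = p := by rw [show z₀ = _ from rfl, Subgroup.orderOf_coe, Subgroup.orderOf_coe, hz]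
    set E₀ := Subgroup.zpowers z₀
    have hzc : ∀ b ∈ (S : Subgroup G), b * z₀ = z₀ * b := fun b hb =>
      congrArg Subtype.val (Subgroup.mem_center_iff.1 z.2 ⟨b, hb⟩)
    let c : G → Subgroup G → Subgroup G := fun g E => E.map (MulAut.conj g).toMonoidHom
    have hcz : ∀ (g x : G), c g (Subgroup.zpowers x) = Subgroup.zpowers (g * x * g⁻¹) := fun g x =>
      MonoidHom.map_zpowers _ _
    have hcc : ∀ (g h : G) (E : Subgroup G), c g (c h E) = c (g * h) E :=
      fun g h E => CfsgLib.Coprime.conjBy_conjBy g h E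
    have hcR : ∀ (g : G) {A B : Subgroup G}, R A B → R (c g A) (c g B) := by
      intro g A B ⟨hA, hAc, hB, hBc, hAB⟩
      have he : ∀ {E : Subgroup G}, Cfsg.IsElementaryAbelian p E → Cfsg.IsElementaryAbelian p (c g E) :=
        fun {E} hE => ⟨by haveI := hE.1; show IsMulCommutative ↥(E.map _); infer_instance, by
          rintro _ ⟨x, hx, rfl⟩; rw [← map_pow, hE.2 x hx, map_one]⟩
      have hcard : ∀ E : Subgroup G, Nat.card (c g E) = Nat.card E :=
        fun E => Subgroup.card_map_of_injective (MulAut.conj g).injective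
      refine ⟨he hA, by rw [hcard]; exact hAc, he hB, by rw [hcard]; exact hBc, ?_⟩
      rintro _ ⟨a, ha, rfl⟩ _ ⟨b, hb, rfl⟩
      rw [← map_mul, hAB a ha b hb, map_mul]
    have hcC : ∀ (g : G) {A B : Subgroup G}, Relation.ReflTransGen R A B →
        Relation.ReflTransGen R (c g A) (c g B) := fun g {A B} h => h.lift (c g) fun _ _ h => hcR g h
    have hSz : ∀ b ∈ (S : Subgroup G), orderOf b = p → Relation.ReflTransGen R (Subgroup.zpowers b) E₀ :=
      fun b hb hbo => Relation.ReflTransGen.single ⟨(hline b hbo).1, (hline b hbo).2, (hline z₀ hz₀).1,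
        (hline z₀ hz₀).2, fun x hx y hy => by
          obtain ⟨i, rfl⟩ := Subgroup.mem_zpowers_iff.1 hx
          obtain ⟨j, rfl⟩ := Subgroup.mem_zpowers_iff.1 hy
          exact ((show Commute b z₀ from hzc b hb).zpow_zpow i j).eq⟩
    let H : Subgroup G :=
      { carrier := {g | Relation.ReflTransGen R E₀ (c g E₀)}
        one_mem' := by
          show Relation.ReflTransGen R E₀ (c 1 E₀)
          rw [show c 1 E₀ = E₀ from CfsgLib.Coprime.conjBy_one E₀]
        mul_mem' := fun {g h} hg hh => by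
          show Relation.ReflTransGen R E₀ (c (g * h) E₀)
          rw [← hcc]; exact hg.trans (hcC g hh)
        inv_mem' := fun {g} hg => by
          have h1 := hcC g⁻¹ (hsymm hg)
          rw [hcc, inv_mul_cancel, show c 1 E₀ = E₀ from CfsgLib.Coprime.conjBy_one E₀] at h1
          exact h1 }
    have hSH : (S : Subgroup G) ≤ H := fun g hg => by
      show Relation.ReflTransGen R E₀ (c g E₀)
      rw [hcz, hzc g hg, mul_inv_cancel_right]
    have hH : ∀ x ∈ H, orderOf x = p → Relation.ReflTransGen R (Subgroup.zpowers x) E₀ := by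
      intro x hx hxo
      obtain ⟨T, hT⟩ := (IsPGroup.of_card (p := p) (n := 1) (G := Subgroup.zpowers (⟨x, hx⟩ : H))
        (by rw [Nat.card_zpowers, Subgroup.orderOf_mk, hxo, pow_one])).exists_le_sylow
      obtain ⟨h, hh⟩ := MulAction.exists_smul_eq H (S.subtype hSH) T
      have h1 := hT (Subgroup.mem_zpowers _)
      rw [← hh, Sylow.coe_subgroup_smul] at h1
      obtain ⟨b, hb, e⟩ := h1
      have e' : (h : G) * (b : G) * (h : G)⁻¹ = x := congrArg Subtype.val e
      have hbo : orderOf (b : G) = p := by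
        rw [← hxo, ← e']
        exact (orderOf_injective (MulAut.conj (h : G)).toMonoidHom (MulAut.conj (h : G)).injective _).symm
      have h2 := hcC (h : G) (hSz b hb hbo)
      rw [hcz, e'] at h2
      exact h2.trans (hsymm h.2)
    refine ⟨H, fun hHtop => hdis ?_, (S.dvd_card_of_dvd_card hpG).trans (Subgroup.card_dvd_of_le hSH),
      fun g hg hd => hg ?_⟩
    · have hE : ∀ {E : Subgroup G}, Cfsg.IsElementaryAbelian p E → p ^ 1 ≤ Nat.card E →
          Relation.ReflTransGen R E E₀ := fun {E} hE hc => by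
        obtain ⟨a, ha, hao⟩ := hne hE hc
        exact Relation.ReflTransGen.head (hedge hE hc ha hao) (hH a (hHtop ▸ Subgroup.mem_top a) hao)
      exact (hE hE₁ hc₁).trans (hsymm (hE hE₂ hc₂))
    · obtain ⟨⟨x, hx⟩, hxo⟩ := exists_prime_orderOf_dvd_card' p hd
      replace hxo : orderOf x = p := by rw [← hxo, Subgroup.orderOf_mk]
      obtain ⟨hxH, y, hy, hyx⟩ := Subgroup.mem_inf.1 hx
      have hyx' : g * y * g⁻¹ = x := hyx
      have hyo : orderOf y = p := by
        rw [← hxo, ← hyx']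
        exact (orderOf_injective (MulAut.conj g).toMonoidHom (MulAut.conj g).injective y).symm
      have h2 := hcC g (hH y hy hyo)
      rw [hcz, hyx'] at h2
      exact (hsymm (hH x hxH hxo)).trans h2

end Cfsg.Agent.S1336
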