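import Cfsg.Statements.S1337
import Cfsg.Agent.Lib.CFun.OddUniqueness
import Cfsg.Agent.Lib.Invol.NormalFourExists
import Mathlib

set_option autoImplicit false
open Cfsg

namespace Cfsg.Agent.S1337

open Subgroup

/-- The commuting relation on elementary abelian subgroups of order at least `p²`. -/
abbrev Adj {P : Type*} [Group P] (p : ℕ) (A B : Subgroup P) : Prop :=
  Cfsg.IsElementaryAbelian p A ∧ p ^ 2 ≤ Nat.card ↥A ∧ Cfsg.IsElementaryAbelian p B ∧
    p ^ 2 ≤ Nat.card ↥B ∧ ∀ a ∈ A, ∀ b ∈ B, a * b = b * a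

theorem elementary_of_le {P : Type*} [Group P] {p : ℕ} {A B : Subgroup P} (hA : Cfsg.IsElementaryAbelian p A)
    (h : B ≤ A) : Cfsg.IsElementaryAbelian p B :=
  ⟨⟨⟨fun a b => Subtype.ext (congrArg Subtype.val (hA.1.is_comm.comm ⟨a, h a.2⟩ ⟨b, h b.2⟩) :)⟩⟩,
    fun a ha => hA.2 a (h ha)⟩

theorem elementary_sup {P : Type*} [Group P] {p : ℕ} {A B : Subgroup P} (hA : Cfsg.IsElementaryAbelian p A)
    (hB : Cfsg.IsElementaryAbelian p B) (hAB : ∀ a ∈ A, ∀ b ∈ B, a * b = b * a) :
    Cfsg.IsElementaryAbelian p (A ⊔ B : Subgroup P) := by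
  have hAA : ∀ a ∈ A, ∀ b ∈ A, a * b = b * a := fun a ha b hb =>
    congrArg Subtype.val (hA.1.is_comm.comm ⟨a, ha⟩ ⟨b, hb⟩)
  have hBB : ∀ a ∈ B, ∀ b ∈ B, a * b = b * a := fun a ha b hb =>
    congrArg Subtype.val (hB.1.is_comm.comm ⟨a, ha⟩ ⟨b, hb⟩)
  rw [Subgroup.sup_eq_closure]
  have hcomm : ∀ x ∈ ((A : Set P) ∪ B), ∀ y ∈ ((A : Set P) ∪ B), x * y = y * x := by
    rintro x (hx | hx) y (hy | hy)
    · exact hAA x hx y hy
    · exact hAB x hx y hy
    · exact (hAB y hy x hx).symm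
    · exact hBB x hx y hy
  have hc : IsMulCommutative (Subgroup.closure ((A : Set P) ∪ B)) :=
    Subgroup.isMulCommutative_closure hcomm
  refine ⟨hc, fun x hx => ?_⟩
  induction hx using Subgroup.closure_induction with
  | mem x hx => exact hx.elim (hA.2 x) (hB.2 x)
  | one => exact one_pow p
  | mul x y hx hy hx' hy' =>
    have hxy : Commute x y := congrArg Subtype.val (hc.is_comm.comm ⟨x, hx⟩ ⟨y, hy⟩)
    rw [hxy.mul_pow, hx', hy', one_mul]
  | inv x _ hx' => rw [inv_pow, hx', inv_one]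

/-- Let P be a finite p-group of p-rank greater than 2. Then P has a normal elementary abelian subgroup U of order p², and for every elementary abelian X ≤ P with |X| ≥ p²: X is joined to U by a chain of pairwise commuting elementary abelian subgroups of order ≥ p² if and only if C_P(X) has p-rank greater than 2. -/
theorem result {P : Type*} [Group P] [Finite P] (p : ℕ) [Fact p.Prime] (hP : IsPGroup p P) (hrk : ¬ Cfsg.PRankLE p 2 P) : ∃ U : Subgroup P, U.Normal ∧ Cfsg.IsElementaryAbelian p U ∧ Nat.card ↥U = p ^ 2 ∧ ∀ X : Subgroup P, Cfsg.IsElementaryAbelian p X → p ^ 2 ≤ Nat.card ↥X → (Relation.ReflTransGen (fun A B : Subgroup P => Cfsg.IsElementaryAbelian p A ∧ p ^ 2 ≤ Nat.card ↥A ∧ Cfsg.IsElementaryAbelian p B ∧ p ^ 2 ≤ Nat.card ↥B ∧ ∀ a ∈ A, ∀ b ∈ B, a * b = b * a) X U ↔ ¬ Cfsg.PRankLE p 2 ↥(Subgroup.centralizer (X : Set P))) := by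
  classical
  have hp : p.Prime := Fact.out
  obtain ⟨A₀, hA₀c, hA₀e, hA₀⟩ : ∃ A : Subgroup P, IsMulCommutative A ∧ (∀ a ∈ A, a ^ p = 1) ∧
      p ^ 2 < Nat.card A := by
    by_contra h
    push Not at h
    exact hrk fun A h1 h2 => h A h1 h2
  obtain ⟨U, hUn, hUe, hU2⟩ : ∃ U : Subgroup P, U.Normal ∧ Cfsg.IsElementaryAbelian p U ∧ Nat.card U = p ^ 2 := by
    by_cases hp2 : p = 2
    · subst hp2
      obtain ⟨U, hn, hc, he⟩ := CfsgLib.Invol.exists_normal_four hP A₀ hA₀e hA₀
      refine ⟨U, hn, ⟨⟨⟨fun a b => Subtype.ext ?_⟩⟩, he⟩, hc⟩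
      have ha := he a a.2
      have hb := he b b.2
      have hab := he _ (mul_mem a.2 b.2)
      rw [sq] at ha hb hab
      show (a : P) * b = b * a
      calc (a : P) * b = (a : P)⁻¹ * (b : P)⁻¹ := by rw [inv_eq_of_mul_eq_one_left ha, inv_eq_of_mul_eq_one_left hb]
        _ = ((b : P) * a)⁻¹ := (mul_inv_rev _ _).symm
        _ = b * a := by
          have hba := he _ (mul_mem b.2 a.2)
          rw [sq] at hba
          exact inv_eq_of_mul_eq_one_left hba
    · have hnc : ¬ IsCyclic (⊤ : Subgroup P) := by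
        intro h
        haveI := h
        haveI : IsCyclic A₀ := isCyclic_of_injective (Subgroup.inclusion (le_top : A₀ ≤ ⊤))
          (Subgroup.inclusion_injective _)
        obtain ⟨q, hq⟩ := IsCyclic.exists_generator (α := A₀)
        rw [← orderOf_eq_card_of_forall_mem_zpowers hq] at hA₀
        have h1 : orderOf q ∣ p := orderOf_dvd_of_pow_eq_one (Subtype.ext (hA₀e q q.2))
        have h2 := Nat.le_of_dvd hp.pos h1
        have h3 : p ≤ p ^ 2 := Nat.le_self_pow two_ne_zero p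
        omega
      obtain ⟨E, -, hn, he, hc⟩ := CfsgLib.CFun.exists_normal_elementary_two hp2
        (hP.to_subgroup ⊤) hnc
      exact ⟨E, normalizer_eq_top_iff.1 (top_le_iff.1 hn), he, hc⟩
  haveI := hUn
  refine ⟨U, hUn, hUe, hU2, fun X hX hX2 => ?_⟩
  -- large elementary subgroups are joined to `U`
  have key : ∀ A : Subgroup P, Cfsg.IsElementaryAbelian p A → p ^ 2 < Nat.card A →
      p ^ 2 ≤ Nat.card ↥(A ⊓ centralizer (U : Set P)) ∧ Relation.ReflTransGen (Adj p) A U := by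
    intro A hA hA3
    have hAp : IsPGroup p A := hP.to_subgroup A
    have h1 := CfsgLib.CFun.card_le_mul_inf_centralizer hAp
      ((le_top : A ≤ ⊤).trans (normalizer_eq_top_iff.2 hUn).ge) hUe hU2
    obtain ⟨k, hk⟩ := IsPGroup.iff_card.1 hAp
    obtain ⟨j, hj⟩ := IsPGroup.iff_card.1 (hP.to_subgroup (A ⊓ centralizer (U : Set P)))
    rw [hk] at hA3
    have hk3 : 3 ≤ k := by
      by_contra hlt
      exact absurd hA3 (not_lt.2 (Nat.pow_le_pow_right hp.pos (by omega)))
    rw [hk, hj, ← pow_succ'] at h1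
    have hkj := (Nat.pow_le_pow_iff_right hp.one_lt).1 h1
    have h2 : p ^ 2 ≤ Nat.card ↥(A ⊓ centralizer (U : Set P)) := by
      rw [hj]; exact Nat.pow_le_pow_right hp.pos (by omega)
    have he := elementary_of_le hA (inf_le_left : A ⊓ centralizer (U : Set P) ≤ A)
    refine ⟨h2, (Relation.ReflTransGen.single (r := Adj p) (a := A) (b := A ⊓ centralizer (U : Set P))
      ⟨hA, hk ▸ hA3.le, he, h2, fun a ha b hb =>
      congrArg Subtype.val (hA.1.is_comm.comm ⟨a, ha⟩ ⟨b, hb.1⟩)⟩).tail ⟨he, h2, hUe, hU2.ge, fun a ha b hb =>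
      (mem_centralizer_iff.1 ha.2 b hb).symm⟩⟩
  -- `C(U)` has rank at least three
  have hCU : ∀ C : Subgroup P, centralizer (U : Set P) ≤ C → ¬ Cfsg.PRankLE p 2 C := by
    intro C hC hrank
    have hA : Cfsg.IsElementaryAbelian p A₀ := ⟨hA₀c, hA₀e⟩
    obtain ⟨h2, -⟩ := key A₀ hA hA₀
    set B := A₀ ⊓ centralizer (U : Set P) with hB
    have hBU := elementary_sup (elementary_of_le hA (inf_le_left : B ≤ A₀)) hUe
      (fun a ha b hb => (mem_centralizer_iff.1 ha.2 b hb).symm)
    have hUc : U ≤ centralizer (U : Set P) := fun x hx => mem_centralizer_iff.2 fun y hy =>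
      congrArg Subtype.val (hUe.1.is_comm.comm ⟨y, hy⟩ ⟨x, hx⟩)
    have hle : B ⊔ U ≤ C := (sup_le inf_le_right hUc).trans hC
    have hcard : Nat.card ↥(B ⊔ U) ≤ p ^ 2 := by
      rw [← Nat.card_congr (subgroupOfEquivOfLe hle).toEquiv]
      exact hrank _ ⟨⟨fun a b => Subtype.ext (Subtype.ext (congrArg Subtype.val
        (hBU.1.is_comm.comm ⟨_, a.2⟩ ⟨_, b.2⟩) :))⟩⟩ (fun a ha => Subtype.ext (hBU.2 _ ha))
    have e1 : B = B ⊔ U := Subgroup.eq_of_le_of_card_ge le_sup_left (hcard.trans h2)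
    have hUA : U ≤ A₀ := (le_sup_right.trans e1.ge).trans inf_le_left
    have hAB : B = A₀ := inf_eq_left.2 fun a ha => mem_centralizer_iff.2 fun y hy =>
      congrArg Subtype.val (hA.1.is_comm.comm ⟨y, hUA hy⟩ ⟨a, ha⟩)
    rw [← e1, hAB] at hcard
    exact absurd hcard (not_le.2 hA₀)
  constructor
  · intro h hrank
    have hstay : ∀ Y, Relation.ReflTransGen (Adj p) X Y → Y = X := by
      intro Y hY
      induction hY with
      | refl => rfl
      | tail _ hlast ih =>
        rename_i b c _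
        subst ih
        obtain ⟨-, -, hc, hc2, hcomm⟩ := hlast
        have hsup := elementary_sup hX hc hcomm
        have hXc : b ≤ centralizer (b : Set P) := fun x hx => mem_centralizer_iff.2 fun y hy =>
          congrArg Subtype.val (hX.1.is_comm.comm ⟨y, hy⟩ ⟨x, hx⟩)
        have hle : b ⊔ c ≤ centralizer (b : Set P) := sup_le hXc fun x hx =>
          mem_centralizer_iff.2 fun y hy => hcomm y hy x hx
        have hcard : Nat.card ↥(b ⊔ c) ≤ p ^ 2 := by
          rw [← Nat.card_congr (subgroupOfEquivOfLe hle).toEquiv]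
          exact hrank _ ⟨⟨fun a b => Subtype.ext (Subtype.ext (congrArg Subtype.val
            (hsup.1.is_comm.comm ⟨_, a.2⟩ ⟨_, b.2⟩) :))⟩⟩ (fun a ha => Subtype.ext (hsup.2 _ ha))
        have e1 := Subgroup.eq_of_le_of_card_ge le_sup_left (hcard.trans hX2)
        have e2 := Subgroup.eq_of_le_of_card_ge le_sup_right (hcard.trans hc2)
        exact e2.trans e1.symm
    have hUX := hstay U h
    subst hUX
    exact hCU _ le_rfl hrank
  · intro hrank
    obtain ⟨A, hAc, hAe, hA3⟩ : ∃ A : Subgroup (centralizer (X : Set P)), IsMulCommutative A ∧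
        (∀ a ∈ A, a ^ p = 1) ∧ p ^ 2 < Nat.card A := by
      by_contra h
      push Not at h
      exact hrank fun A h1 h2 => h A h1 h2
    set A' := A.map (centralizer (X : Set P)).subtype with hA'
    have hA'e : Cfsg.IsElementaryAbelian p A' := by
      haveI := hAc
      refine ⟨inferInstance, ?_⟩
      rintro _ ⟨a, ha, rfl⟩
      rw [← map_pow, hAe a ha, map_one]
    have hA'3 : p ^ 2 < Nat.card A' := by
      rw [hA', card_map_of_injective (centralizer (X : Set P)).subtype_injective]; exact hA3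
    refine Relation.ReflTransGen.head ⟨hX, hX2, hA'e, hA'3.le, ?_⟩ (key A' hA'e hA'3).2
    rintro x hx _ ⟨a, -, rfl⟩
    exact mem_centralizer_iff.1 a.2 x hx

end Cfsg.Agent.S1337
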