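import Cfsg.Statements.S1338
import Cfsg.Agent.Lib.PGroup.NormalRankFour
import Cfsg.Agent.Lib.PGroup.ElementaryBasic
-- import your own Cfsg.Agent.* helpers here

set_option autoImplicit false
open Cfsg

namespace Cfsg.Agent.S1338

/-- A finite 3-group of 3-rank at least 4 is 2-connected for the prime 3: its commuting graph on elementary abelian subgroups of order ≥ 9 is connected. -/
theorem result {P : Type*} [Group P] [Finite P] (hP : IsPGroup 3 P) (hrk : ¬ Cfsg.PRankLE 3 3 P) : Cfsg.IsKConnected 3 2 P := by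
  haveI : Fact (Nat.Prime 3) := ⟨Nat.prime_three⟩
  obtain ⟨E₀, hE₀, hE₀4⟩ : ∃ E₀ : Subgroup P, Cfsg.IsElementaryAbelian 3 E₀ ∧ Nat.card E₀ = 3 ^ 4 := by
    unfold Cfsg.PRankLE at hrk
    push Not at hrk
    obtain ⟨A, hAc, hA3, hA⟩ := hrk
    obtain ⟨k, hk⟩ := (hP.to_subgroup A).exists_card_eq
    rw [hk, Nat.pow_lt_pow_iff_right (by norm_num : 1 < 3)] at hA
    obtain ⟨B, hB⟩ := Sylow.exists_subgroup_card_pow_prime 3 (G := A) (n := 4) (hk ▸ pow_dvd_pow 3 hA)
    refine ⟨B.map A.subtype, CfsgLib.EABasic.isElementaryAbelian_le ⟨hAc, hA3⟩ (Subgroup.map_subtype_le _), ?_⟩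
    rw [Subgroup.card_map_of_injective A.subtype_injective, hB]
  obtain ⟨V, hVn, hV, hV4⟩ :=
    CfsgLib.PGroup.RankFour.exists_normal (Nat.card P) P hP (by norm_num) E₀ hE₀ hE₀4 rfl
  haveI := hVn
  have hvc : ∀ {u v : P}, u ∈ V → v ∈ V → u * v = v * u := fun hu hv =>
    CfsgLib.EABasic.comm_of_isElementaryAbelian hV hu hv
  let R : Subgroup P → Subgroup P → Prop := fun A B => Cfsg.IsElementaryAbelian 3 A ∧ 3 ^ 2 ≤ Nat.card A ∧
    Cfsg.IsElementaryAbelian 3 B ∧ 3 ^ 2 ≤ Nat.card B ∧ ∀ a ∈ A, ∀ b ∈ B, a * b = b * a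
  have hsymm : ∀ A B, R A B → R B A := fun A B h =>
    ⟨h.2.2.1, h.2.2.2.1, h.1, h.2.1, fun b hb a ha => (h.2.2.2.2 a ha b hb).symm⟩
  have hVle : (3 : ℕ) ^ 2 ≤ Nat.card V := by rw [hV4]; norm_num
  have key : ∀ E : Subgroup P, Cfsg.IsElementaryAbelian 3 E → 3 ^ 2 ≤ Nat.card E → Relation.ReflTransGen R E V := by
    intro E hE hE2
    by_cases hEV : ∀ a ∈ E, ∀ b ∈ V, a * b = b * a
    · exact Relation.ReflTransGen.single ⟨hE, hE2, hV, hVle, hEV⟩
    push Not at hEV
    obtain ⟨x, hx, b, hb, hxb⟩ := hEV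
    have hxV : x ∉ V := fun h => hxb (hvc h hb)
    have hx3 : x ^ 3 = 1 := hE.2 x hx
    -- a fixed point of `E` on `V`
    obtain ⟨c, hc, hc1⟩ : ∃ c ∈ V ⊓ Subgroup.centralizer (E : Set P), c ≠ 1 := by
      haveI : Group.IsNilpotent ↥(V ⊔ E) := (hP.to_subgroup _).isNilpotent
      have hne : V.subgroupOf (V ⊔ E) ≠ ⊥ := fun e => by
        have h1 := Nat.card_congr (Subgroup.subgroupOfEquivOfLe (le_sup_left : V ≤ V ⊔ E)).toEquiv
        rw [e, Subgroup.card_bot, hV4] at h1
        norm_num at h1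
      obtain ⟨c, hc, hc1⟩ := (Subgroup.bot_or_exists_ne_one _).resolve_left
        (CfsgLib.Coprime.nilpotent_inf_center_ne_bot _ hne)
      refine ⟨c.1, Subgroup.mem_inf.2 ⟨hc.1, Subgroup.mem_centralizer_iff.2 fun e he => ?_⟩,
        fun e => hc1 (Subtype.ext e)⟩
      exact congrArg Subtype.val (Subgroup.mem_center_iff.1 hc.2 ⟨e, Subgroup.mem_sup_right he⟩)
    have hxc : x * c = c * x := Subgroup.mem_centralizer_iff.1 hc.2 x hx
    obtain ⟨E', hE'⟩ : ∃ E', E' = Subgroup.zpowers x ⊔ Subgroup.zpowers c := ⟨_, rfl⟩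
    have hE'el : Cfsg.IsElementaryAbelian 3 E' := hE' ▸ CfsgLib.EABasic.isElementaryAbelian_sup
      (CfsgLib.EABasic.isElementaryAbelian_zpowers hx3) (CfsgLib.EABasic.isElementaryAbelian_zpowers (hV.2 c hc.1))
      (fun u hu v hv => by
        obtain ⟨i, rfl⟩ := Subgroup.mem_zpowers_iff.1 hu
        obtain ⟨j, rfl⟩ := Subgroup.mem_zpowers_iff.1 hv
        exact ((show Commute x c from hxc).zpow_zpow i j).eq)
    have hE'2 : 3 ^ 2 ≤ Nat.card E' := by
      have hlt : Subgroup.zpowers c < E' := by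
        refine lt_of_le_of_ne (hE' ▸ le_sup_right) fun e => hxV ?_
        exact Subgroup.zpowers_le.2 hc.1 (e.ge (hE' ▸ Subgroup.mem_sup_left (Subgroup.mem_zpowers x)))
      have h1 : Nat.card (Subgroup.zpowers c) < Nat.card E' := by
        by_contra hle
        exact hlt.ne (Subgroup.eq_of_le_of_card_ge hlt.le (not_lt.1 hle))
      rw [Nat.card_zpowers, orderOf_eq_prime (hV.2 c hc.1) hc1] at h1
      obtain ⟨i, hi⟩ := (hP.to_subgroup E').exists_card_eq
      rw [hi] at h1 ⊢
      refine Nat.pow_le_pow_right (by norm_num) ?_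
      by_contra h
      have := Nat.pow_le_pow_right (show 0 < 3 by norm_num) (show i ≤ 1 by omega)
      omega
    obtain ⟨Cx, hCx⟩ : ∃ Cx, Cx = V ⊓ Subgroup.centralizer ({x} : Set P) := ⟨_, rfl⟩
    have hCxel : Cfsg.IsElementaryAbelian 3 Cx := hCx ▸ CfsgLib.EABasic.isElementaryAbelian_le hV inf_le_left
    have hCx2 : 3 ^ 2 ≤ Nat.card Cx := by
      let f : V →* V :=
        { toFun := fun v => ⟨x * v.1 * x⁻¹ * v.1⁻¹, mul_mem (hVn.conj_mem _ v.2 x) (inv_mem v.2)⟩
          map_one' := Subtype.ext (by simp)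
          map_mul' := fun u v => Subtype.ext (by
            show x * (u.1 * v.1) * x⁻¹ * (u.1 * v.1)⁻¹ = x * u.1 * x⁻¹ * u.1⁻¹ * (x * v.1 * x⁻¹ * v.1⁻¹)
            rw [show x * (u.1 * v.1) * x⁻¹ * (u.1 * v.1)⁻¹ = x * u.1 * x⁻¹ * (x * v.1 * x⁻¹ * v.1⁻¹) * u.1⁻¹ by group,
              mul_assoc, hvc (mul_mem (hVn.conj_mem _ v.2 x) (inv_mem v.2)) (inv_mem u.2), ← mul_assoc]) }
      have hker : Nat.card f.ker = Nat.card Cx := by
        rw [hCx, ← Nat.card_congr (Subgroup.subgroupOfEquivOfLe (inf_le_left :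
          V ⊓ Subgroup.centralizer ({x} : Set P) ≤ V)).toEquiv]
        refine Nat.card_congr (MulEquiv.subgroupCongr ?_).toEquiv
        ext v
        rw [MonoidHom.mem_ker, Subgroup.mem_subgroupOf, Subgroup.mem_inf,
          Subgroup.mem_centralizer_singleton_iff, Subtype.ext_iff]
        show x * v.1 * x⁻¹ * v.1⁻¹ = 1 ↔ _
        rw [mul_inv_eq_one, mul_inv_eq_iff_eq_mul]
        exact ⟨fun h => ⟨v.2, h.symm⟩, fun h => h.2.symm⟩
      have hcube : ∀ v : V, f (f (f v)) = 1 := by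
        intro v
        have hv3 : ∀ w : V, w * w * w = 1 := fun w => Subtype.ext (by
          show w.1 * w.1 * w.1 = 1
          rw [← pow_two, ← pow_succ]; exact hV.2 w.1 w.2)
        let g : V → V := fun w => ⟨x * w.1 * x⁻¹, hVn.conj_mem _ w.2 x⟩
        have hg : ∀ w, g w = f w * w := fun w => Subtype.ext (by
          show x * w.1 * x⁻¹ = x * w.1 * x⁻¹ * w.1⁻¹ * w.1
          rw [inv_mul_cancel_right])
        have h1 : g (g (g v)) = v := Subtype.ext (by
          show x * (x * (x * v.1 * x⁻¹) * x⁻¹) * x⁻¹ = v.1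
          rw [show x * (x * (x * v.1 * x⁻¹) * x⁻¹) * x⁻¹ = x ^ 3 * v.1 * (x ^ 3)⁻¹ by
            simp only [pow_succ, pow_zero, one_mul, mul_inv_rev, mul_assoc], hx3]
          simp)
        simp only [hg, map_mul] at h1
        letI : CommGroup V := { toGroup := inferInstance, mul_comm := fun u w => Subtype.ext (hvc u.2 w.2) }
        have h2 : f (f (f v)) * (f (f v) * f (f v) * f (f v)) * (f v * f v * f v) * v = v := by
          refine Eq.trans ?_ h1
          ac_rfl
        rwa [hv3, hv3, mul_one, mul_one, mul_eq_right] at h2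
      have hr : ∀ g' : Subgroup V, Nat.card g' ≤ Nat.card (g' ⊓ f.ker : Subgroup V) * Nat.card (g'.map f) := by
        intro g'
        have h1 := Subgroup.card_eq_card_quotient_mul_card_subgroup (f.comp g'.subtype).ker
        rw [Nat.card_congr (QuotientGroup.quotientKerEquivRange _).toEquiv, MonoidHom.range_comp,
          Subgroup.range_subtype, mul_comm] at h1
        rw [h1]
        refine Nat.mul_le_mul_right _ (le_of_eq ?_)
        refine (Nat.card_congr ((f.comp g'.subtype).ker.equivMapOfInjective _ g'.subtype_injective).toEquiv).trans ?_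
        rw [← MonoidHom.comap_ker, Subgroup.map_comap_eq, Subgroup.range_subtype]
      have h1 := hr ⊤
      have h2 := hr ((⊤ : Subgroup V).map f)
      rw [top_inf_eq, Subgroup.card_top, hV4] at h1
      have h3 : (((⊤ : Subgroup V).map f).map f) ≤ f.ker := by
        rintro _ ⟨_, ⟨v, -, rfl⟩, rfl⟩
        exact hcube v
      have h4 := Subgroup.card_le_of_le h3
      have h5 := Subgroup.card_le_of_le (inf_le_right : ((⊤ : Subgroup V).map f) ⊓ f.ker ≤ _)
      rw [hker] at h1 h4 h5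
      obtain ⟨i, hi⟩ := (hP.to_subgroup Cx).exists_card_eq
      rw [hi] at h1 h4 h5 ⊢
      refine Nat.pow_le_pow_right (by norm_num) ?_
      by_contra h
      have h6 : (3 : ℕ) ^ i ≤ 3 := le_trans (Nat.pow_le_pow_right (by norm_num) (show i ≤ 1 by omega)) (by norm_num)
      have h7 := h2.trans (Nat.mul_le_mul h5 h4)
      have h8 := h7.trans (Nat.mul_le_mul h6 h6)
      have h9 := h1.trans (Nat.mul_le_mul h6 h8)
      norm_num at h9
    refine Relation.ReflTransGen.head (b := E') ⟨hE, hE2, hE'el, hE'2, fun e he y hy => ?_⟩ ?_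
    · subst hE'
      have hle : Subgroup.zpowers x ⊔ Subgroup.zpowers c ≤ Subgroup.centralizer ({e} : Set P) :=
        sup_le (Subgroup.zpowers_le.2 (Subgroup.mem_centralizer_singleton_iff.2
            (CfsgLib.EABasic.comm_of_isElementaryAbelian hE hx he)))
          (Subgroup.zpowers_le.2 (Subgroup.mem_centralizer_singleton_iff.2
            (Subgroup.mem_centralizer_iff.1 hc.2 e he).symm))
      exact (Subgroup.mem_centralizer_singleton_iff.1 (hle hy)).symm
    refine Relation.ReflTransGen.head (b := Cx) ⟨hE'el, hE'2, hCxel, hCx2, fun y hy v hv => ?_⟩ ?_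
    · subst hE' hCx
      have hle : Subgroup.zpowers x ⊔ Subgroup.zpowers c ≤ Subgroup.centralizer ({v} : Set P) :=
        sup_le (Subgroup.zpowers_le.2 (Subgroup.mem_centralizer_singleton_iff.2
            (Subgroup.mem_centralizer_singleton_iff.1 hv.2).symm))
          (Subgroup.zpowers_le.2 (Subgroup.mem_centralizer_singleton_iff.2 (hvc hc.1 hv.1)))
      exact Subgroup.mem_centralizer_singleton_iff.1 (hle hy)
    exact Relation.ReflTransGen.single ⟨hCxel, hCx2, hV, hVle, fun u hu v hv => hvc (hCx ▸ hu).1 hv⟩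
  intro E E' hE hE2 hE' hE'2
  have hrev : ∀ {A B : Subgroup P}, Relation.ReflTransGen R A B → Relation.ReflTransGen R B A := by
    intro A B h
    induction h with
    | refl => exact Relation.ReflTransGen.refl
    | tail _ h ih => exact Relation.ReflTransGen.head (hsymm _ _ h) ih
  exact (key E hE hE2).trans (hrev (key E' hE' hE'2))

end Cfsg.Agent.S1338
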