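import Cfsg.Statements.S1339
import Cfsg.Agent.Lib.PGroup.CharPLocal
import Mathlib

set_option autoImplicit false
open Cfsg

namespace Cfsg.Agent.S1339

open Matrix Subgroup

/-- The matrix of an element of a subgroup of `SL`. -/
abbrev mat {F : Type*} [CommRing F] {n : ℕ} {C : Subgroup (Matrix.SpecialLinearGroup (Fin n) F)} (g : C) :
    Matrix (Fin n) (Fin n) F := ((g : Matrix.SpecialLinearGroup (Fin n) F) : Matrix (Fin n) (Fin n) F)

theorem mat_mul {F : Type*} [CommRing F] {n : ℕ} {C : Subgroup (Matrix.SpecialLinearGroup (Fin n) F)}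
    (g h : C) : mat (g * h) = mat g * mat h := rfl

theorem mat_one {F : Type*} [CommRing F] {n : ℕ} {C : Subgroup (Matrix.SpecialLinearGroup (Fin n) F)} :
    mat (1 : C) = 1 := rfl

theorem mat_pow {F : Type*} [CommRing F] {n : ℕ} {C : Subgroup (Matrix.SpecialLinearGroup (Fin n) F)}
    (g : C) (k : ℕ) : mat (g ^ k) = mat g ^ k := by
  induction k with
  | zero => rw [pow_zero, pow_zero, mat_one]
  | succ k ih => rw [pow_succ, pow_succ, mat_mul, ih]

theorem two_elems {F : Type*} [Field F] [Fintype F] [DecidableEq F] (hF : Fintype.card F = 2) (x : F) :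
    x = 0 ∨ x = 1 := by
  have h : (Finset.univ : Finset F) = {0, 1} :=
    (Finset.eq_univ_of_card _ (by rw [Finset.card_pair zero_ne_one, hF])).symm
  have := Finset.mem_univ x
  rw [h] at this
  simpa using this

/-- Let F be a field with 2 elements, n ≥ 3, and t ∈ SL(n, F) a transvection (t = 1 + E_{ij}, i ≠ j). Then the generalized Fitting subgroup of C(t) is O_2(C(t)). -/
theorem result {F : Type*} [Field F] [Fintype F] [DecidableEq F] (hF : Fintype.card F = 2) (n : ℕ) (hn : 3 ≤ n) (i j : Fin n) (hij : i ≠ j) (t : Matrix.SpecialLinearGroup (Fin n) F) (ht : (t : Matrix (Fin n) (Fin n) F) = Matrix.transvection i j 1) : Cfsg.generalizedFittingSubgroup ↥(Subgroup.centralizer ({t} : Set (Matrix.SpecialLinearGroup (Fin n) F))) = Cfsg.pCore 2 ↥(Subgroup.centralizer ({t} : Set (Matrix.SpecialLinearGroup (Fin n) F))) := by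
  classical
  haveI : Fact (Nat.Prime 2) := ⟨Nat.prime_two⟩
  haveI : Finite (Matrix.SpecialLinearGroup (Fin n) F) := inferInstance
  have h2 : (1 : F) + 1 = 0 := by
    rcases two_elems hF (1 + 1) with h | h
    · exact h
    · exact absurd (add_eq_left.1 h) one_ne_zero
  set C := centralizer ({t} : Set (Matrix.SpecialLinearGroup (Fin n) F)) with hC
  -- the shape of elements of the centralizer
  have hcomm : ∀ g : C, ((mat g) * single i j (1 : F)) = single i j (1 : F) * (mat g) := by
    intro g
    have h : mat g * (t : Matrix (Fin n) (Fin n) F) = (t : Matrix (Fin n) (Fin n) F) * mat g :=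
      congrArg (fun z : Matrix.SpecialLinearGroup (Fin n) F => (z : Matrix (Fin n) (Fin n) F))
        (mem_centralizer_singleton_iff.1 g.2)
    simp only [ht, Matrix.transvection, mul_add, mul_one, add_mul, one_mul] at h
    exact add_left_cancel h
  have hcol : ∀ (g : C) a, a ≠ i → (mat g) a i = 0 := fun g a ha => by
    have := congrFun (congrFun (hcomm g) a) j
    simpa [ha, ha.symm] using this
  have hrow : ∀ (g : C) b, b ≠ j → (mat g) j b = 0 := fun g b hb => by
    have := congrFun (congrFun (hcomm g) i) b
    simpa [hb, hb.symm] using this.symm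
  have hii : ∀ g : C, (mat g) i i = 1 := fun g => by
    rcases two_elems hF ((mat g) i i) with h | h
    · exfalso
      have hdet : (mat g).det = 1 := Matrix.SpecialLinearGroup.det_coe _
      rw [Matrix.det_eq_zero_of_column_eq_zero i (fun a => by
        by_cases ha : a = i
        · rw [ha, h]
        · exact hcol g a ha)] at hdet
      exact zero_ne_one hdet
    · exact h
  have hjj : ∀ g : C, (mat g) j j = 1 := fun g => by
    have h := congrFun (congrFun (hcomm g) i) j
    simp [hii g] at h
    exact h.symm
  -- the subgroup acting trivially on the middle section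
  let Q : Subgroup C :=
    { carrier := {g | ∀ a b, a ≠ i → b ≠ j → (mat g) a b = (1 : Matrix (Fin n) (Fin n) F) a b}
      one_mem' := fun a b _ _ => rfl
      mul_mem' := by
        intro g h hg hh a b ha hb
        show ((mat g) * (mat h)) a b = _
        rw [Matrix.mul_apply]
        calc ∑ c, (mat g) a c * (mat h) c b
            = ∑ c, (1 : Matrix (Fin n) (Fin n) F) a c * (1 : Matrix (Fin n) (Fin n) F) c b := by
              refine Finset.sum_congr rfl fun c _ => ?_
              by_cases hci : c = i
              · subst hci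
                rw [hcol g a ha, zero_mul, Matrix.one_apply_ne ha, zero_mul]
              by_cases hcj : c = j
              · subst hcj
                rw [hrow h b hb, mul_zero, Matrix.one_apply_ne hb.symm, mul_zero]
              rw [hg a c ha hcj, hh c b hci hb]
          _ = ((1 : Matrix (Fin n) (Fin n) F) * (1 : Matrix (Fin n) (Fin n) F)) a b := (Matrix.mul_apply).symm
          _ = _ := by rw [mul_one]
      inv_mem' := by
        intro g hg a b ha hb
        have h := congrFun (congrFun (congrArg (fun x : C => mat x) (mul_inv_cancel g)) a) b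
        simp only [mat_mul, Matrix.mul_apply, mat_one] at h
        rw [← h]
        symm
        calc ∑ c, (mat g) a c * (mat (g⁻¹ : C)) c b
            = ∑ c, (1 : Matrix (Fin n) (Fin n) F) a c * (mat (g⁻¹ : C)) c b := by
              refine Finset.sum_congr rfl fun c _ => ?_
              by_cases hcj : c = j
              · subst hcj
                rw [hrow g⁻¹ b hb, mul_zero, mul_zero]
              rw [hg a c ha hcj]
          _ = ((1 : Matrix (Fin n) (Fin n) F) * (mat (g⁻¹ : C))) a b := (Matrix.mul_apply).symm
          _ = _ := by rw [one_mul] }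
  have hQ : ∀ g : C, g ∈ Q ↔ ∀ a b, a ≠ i → b ≠ j → (mat g) a b = (1 : Matrix (Fin n) (Fin n) F) a b :=
    fun g => Iff.rfl
  haveI hQn : Q.Normal := ⟨fun g hg x => (hQ _).2 fun a b ha hb => by
    have hx := congrArg (fun z : C => (mat z)) (mul_inv_cancel x)
    simp only [mat_mul, mat_one] at hx
    rw [mat_mul, mat_mul]
    rw [← hx, Matrix.mul_apply, Matrix.mul_apply]
    refine Finset.sum_congr rfl fun c _ => ?_
    by_cases hcj : c = j
    · subst hcj
      rw [hrow x⁻¹ b hb, mul_zero, mul_zero]
    congr 1
    rw [Matrix.mul_apply]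
    calc ∑ d, (mat x) a d * (mat g) d c = ∑ d, (mat x) a d * (1 : Matrix (Fin n) (Fin n) F) d c := by
          refine Finset.sum_congr rfl fun d _ => ?_
          by_cases hdi : d = i
          · subst hdi
            rw [hcol x a ha, zero_mul, zero_mul]
          rw [hg d c hdi hcj]
      _ = ((mat x) * (1 : Matrix (Fin n) (Fin n) F)) a c := (Matrix.mul_apply).symm
      _ = _ := by rw [mul_one]⟩
  have hQp : IsPGroup 2 Q := by
    intro g
    refine ⟨2, ?_⟩
    have hg := (hQ _).1 g.2
    set N : Matrix (Fin n) (Fin n) F := (mat (g : C)) - 1 with hN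
    have hN0 : ∀ a b, a ≠ i → b ≠ j → N a b = 0 := fun a b ha hb => by
      rw [hN, Matrix.sub_apply, hg a b ha hb, sub_self]
    have hNi : ∀ a, N a i = 0 := fun a => by
      by_cases ha : a = i
      · rw [hN, Matrix.sub_apply, ha, hii, Matrix.one_apply_eq, sub_self]
      · exact hN0 a i ha hij
    have hNj : ∀ b, N j b = 0 := fun b => by
      by_cases hb : b = j
      · rw [hN, Matrix.sub_apply, hb, hjj, Matrix.one_apply_eq, sub_self]
      · exact hN0 j b hij.symm hb
    have hN2 : ∀ a b, a ≠ i → (N * N) a b = 0 := fun a b ha => by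
      rw [Matrix.mul_apply]
      refine Finset.sum_eq_zero fun c _ => ?_
      by_cases hcj : c = j
      · rw [hcj, hNj, mul_zero]
      · rw [hN0 a c ha hcj, zero_mul]
    have hN3 : N * N * N = 0 := by
      ext a b
      rw [mul_assoc, Matrix.mul_apply, Matrix.zero_apply]
      refine Finset.sum_eq_zero fun c _ => ?_
      by_cases hci : c = i
      · rw [hci, hNi, zero_mul]
      · rw [hN2 c b hci, mul_zero]
    have hgN : (mat (g : C)) = 1 + N := by rw [hN, add_sub_cancel]
    have hsq : (1 + N) * (1 + N) = 1 + N * N := by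
      have : N + N = 0 := by ext a b; rw [Matrix.add_apply, Matrix.zero_apply, ← two_mul,
        show (2 : F) = 1 + 1 by norm_num, h2, zero_mul]
      calc (1 + N) * (1 + N) = 1 + (N + N) + N * N := by noncomm_ring
        _ = _ := by rw [this, add_zero]
    apply Subtype.ext; apply Subtype.ext; apply Subtype.ext
    show mat ((g : C) ^ 2 ^ 2) = mat (1 : C)
    rw [mat_pow, mat_one]
    rw [hgN, show (2 : ℕ) ^ 2 = 2 * 2 from rfl, pow_mul, sq, sq, hsq]
    have hz : N * N + N * N = 0 := by ext a b; rw [Matrix.add_apply, Matrix.zero_apply, ← two_mul,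
      show (2 : F) = 1 + 1 by norm_num, h2, zero_mul]
    calc (1 + N * N) * (1 + N * N) = 1 + (N * N + N * N) + N * N * N * N := by noncomm_ring
      _ = 1 := by rw [hz, hN3, zero_mul, add_zero, add_zero]
  rw [CfsgLib.CharPLoc.fStar_eq_pCore_iff]
  intro g hord hg
  have hgc : g ∈ centralizer (Q : Set C) :=
    centralizer_le (SetLike.coe_subset_coe.2 (CfsgLib.Coprime.le_pCore hQp)) hg
  have hgQ : g ∈ Q := by
    -- elementary matrices in `Q`
    have key : ∀ a b : Fin n, a ≠ b → a ≠ j → b ≠ i → (a = i ∨ b = j) →
        (mat g) * single a b (1 : F) = single a b (1 : F) * (mat g) := by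
      intro a b hab haj hbi hor
      let e : Matrix.SpecialLinearGroup (Fin n) F := ⟨Matrix.transvection a b 1, Matrix.det_transvection_of_ne _ _ hab _⟩
      have heC : e ∈ C := mem_centralizer_singleton_iff.2 (Subtype.ext (by
        show Matrix.transvection a b (1 : F) * (t : Matrix (Fin n) (Fin n) F) = (t : Matrix (Fin n) (Fin n) F) * Matrix.transvection a b 1
        rw [ht]
        simp only [Matrix.transvection, mul_add, add_mul, mul_one, one_mul]
        rw [Matrix.single_mul_single_of_ne _ _ _ _ hbi, Matrix.single_mul_single_of_ne _ _ _ _ haj.symm]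
        abel))
      have heQ : (⟨e, heC⟩ : C) ∈ Q := (hQ _).2 fun c d hc hd => by
        show Matrix.transvection a b (1 : F) c d = _
        rw [Matrix.transvection, Matrix.add_apply, Matrix.single_apply_of_ne, add_zero]
        rintro ⟨rfl, rfl⟩
        rcases hor with h | h
        · exact hc h
        · exact hd h
      have h := congrArg (fun z : C => (mat z)) (mem_centralizer_iff.1 hgc _ heQ)
      simp only [mat_mul] at h
      show (mat g) * single a b (1 : F) = _
      change Matrix.transvection a b 1 * (mat g) = (mat g) * Matrix.transvection a b 1 at h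
      simp only [Matrix.transvection, mul_add, mul_one, add_mul, one_mul] at h
      exact (add_left_cancel h).symm
    refine (hQ _).2 fun a b ha hb => ?_
    by_cases hab : a = b
    · subst hab
      have h := congrFun (congrFun (key i a ha.symm hij ha (Or.inl rfl)) i) a
      simp [hii g] at h
      rw [Matrix.one_apply_eq, ← h]
    · rw [Matrix.one_apply_ne hab]
      have h := congrFun (congrFun (key i a ha.symm hij ha (Or.inl rfl)) i) b
      simpa [hab, Ne.symm hab] using h.symm
  obtain ⟨k, hk⟩ := IsPGroup.iff_orderOf.1 hQp ⟨g, hgQ⟩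
  rw [orderOf_mk] at hk
  rw [hk] at hord
  rcases k with _ | k
  · rwa [pow_zero, orderOf_eq_one_iff] at hk
  · exact absurd (Nat.eq_one_of_dvd_coprimes hord (dvd_pow_self 2 k.succ_ne_zero) dvd_rfl) (by decide)

end Cfsg.Agent.S1339
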