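import Cfsg.Statements.S1340
import Cfsg.Agent.Lib.Classical.SLNormalized
import Cfsg.Agent.Lib.Invol.BLayer.General

set_option autoImplicit false
open Cfsg

namespace Cfsg.Agent.S1340

/-- Let F be a finite field of odd order and n ≥ 3 with (n, |F|) ≠ (3, 3). Then GL(n, F) has a non-central involution t such that C(t) / O(C(t)) has a component. -/
theorem result {F : Type*} [Field F] [Fintype F] [DecidableEq F] (hF : Odd (Fintype.card F)) (n : ℕ) (hn : 3 ≤ n) (h33 : ¬ (n = 3 ∧ Fintype.card F = 3)) : ∃ t : Matrix.GeneralLinearGroup (Fin n) F, orderOf t = 2 ∧ t ∉ Subgroup.center (Matrix.GeneralLinearGroup (Fin n) F) ∧ Cfsg.HasComponent (↥(Subgroup.centralizer ({t} : Set (Matrix.GeneralLinearGroup (Fin n) F))) ⧸ Cfsg.oddCore ↥(Subgroup.centralizer ({t} : Set (Matrix.GeneralLinearGroup (Fin n) F)))) := by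
  obtain ⟨m, rfl⟩ : ∃ m, n = m + 1 := ⟨n - 1, by omega⟩
  haveI : Fact (Nat.Prime 2) := ⟨Nat.prime_two⟩
  have h2 : (2 : F) ≠ 0 := by
    intro h
    have h2' : ringChar F ∣ 2 := (ringChar.spec F 2).1 h
    have h3 : ringChar F = 2 :=
      ((Nat.dvd_prime Nat.prime_two).1 h2').resolve_left (CharP.ringChar_ne_one (R := F))
    exact Nat.not_even_iff_odd.2 hF (Nat.even_iff.2 (FiniteField.even_card_of_char_two h3))
  let R := Matrix.reindexAlgEquiv F F (finSumFinEquiv : Fin m ⊕ Fin 1 ≃ Fin (m + 1))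
  have hRdet : ∀ M, (R M).det = M.det := fun M => Matrix.det_reindexAlgEquiv _ _ _ M
  set dM : Matrix (Fin m ⊕ Fin 1) (Fin m ⊕ Fin 1) F := Matrix.fromBlocks 1 0 0 (-1) with hdM
  have hdd : dM * dM = 1 := by
    simp [hdM, Matrix.fromBlocks_multiply, Matrix.fromBlocks_one]
  let t : Matrix.GeneralLinearGroup (Fin (m + 1)) F :=
    ⟨R dM, R dM, by rw [← map_mul, hdd, map_one], by rw [← map_mul, hdd, map_one]⟩
  have ht1 : t ≠ 1 := fun e => by
    have h1 : R dM = R 1 := by rw [map_one]; exact congrArg Units.val e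
    have h3 := congrFun (congrFun (R.injective h1) (Sum.inr 0)) (Sum.inr 0)
    simp [hdM] at h3
    exact h2 (by linear_combination -h3)
  have hto : orderOf t = 2 := orderOf_eq_prime (by
    rw [pow_two]; exact Units.ext (by show R dM * R dM = 1; rw [← map_mul, hdd, map_one])) ht1
  -- the embedded special linear group
  let emb : Matrix.SpecialLinearGroup (Fin m) F →* Matrix (Fin (m + 1)) (Fin (m + 1)) F :=
    { toFun := fun s => R (Matrix.fromBlocks s.1 0 0 1)
      map_one' := by simp [Matrix.fromBlocks_one]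
      map_mul' := fun a b => by
        show R (Matrix.fromBlocks (a * b).1 0 0 1) = _
        rw [← map_mul, Matrix.fromBlocks_multiply, Matrix.SpecialLinearGroup.coe_mul]
        simp }
  let e : Matrix.SpecialLinearGroup (Fin m) F →* Matrix.GeneralLinearGroup (Fin (m + 1)) F := emb.toHomUnits
  set C := Subgroup.centralizer ({t} : Set (Matrix.GeneralLinearGroup (Fin (m + 1)) F)) with hC
  have heC : ∀ s, e s ∈ C := fun s => Subgroup.mem_centralizer_singleton_iff.2 (Units.ext (by
    show R (Matrix.fromBlocks s.1 0 0 1) * R dM = R dM * R (Matrix.fromBlocks s.1 0 0 1)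
    rw [← map_mul, ← map_mul, hdM, Matrix.fromBlocks_multiply, Matrix.fromBlocks_multiply]
    simp))
  let f : Matrix.SpecialLinearGroup (Fin m) F →* C := e.codRestrict C heC
  -- the shape of elements of the centralizer
  have hblock : ∀ g : C, ∃ A D, (g : Matrix.GeneralLinearGroup (Fin (m + 1)) F).1 =
      R (Matrix.fromBlocks A 0 0 D) := by
    intro g
    obtain ⟨M, hM⟩ := R.surjective (g : Matrix.GeneralLinearGroup (Fin (m + 1)) F).1
    have h1 : R M * R dM = R dM * R M := by
      rw [hM]; exact congrArg Units.val (Subgroup.mem_centralizer_singleton_iff.1 g.2)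
    rw [← map_mul, ← map_mul] at h1
    have h3 := R.injective h1
    rw [← Matrix.fromBlocks_toBlocks M, hdM, Matrix.fromBlocks_multiply, Matrix.fromBlocks_multiply,
      Matrix.fromBlocks_inj] at h3
    simp only [Matrix.mul_one, Matrix.one_mul, Matrix.mul_zero, Matrix.zero_mul, add_zero, zero_add,
      Matrix.mul_neg, Matrix.neg_mul] at h3
    obtain ⟨-, hB, hC', -⟩ := h3
    refine ⟨M.toBlocks₁₁, M.toBlocks₂₂, ?_⟩
    rw [← hM]
    congr 1
    have hz : ∀ x : F, x = -x → x = 0 := fun x hx =>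
      (mul_eq_zero.1 (show (2 : F) * x = 0 by linear_combination hx)).resolve_left h2
    have hB0 : M.toBlocks₁₂ = 0 := Matrix.ext fun i j => by
      have := congrFun (congrFun hB i) j
      simp at this
      exact hz _ (by linear_combination -this)
    have hC0 : M.toBlocks₂₁ = 0 := Matrix.ext fun i j => by
      have := congrFun (congrFun hC' i) j
      simp at this
      exact hz _ (by linear_combination this)
    conv_lhs => rw [← Matrix.fromBlocks_toBlocks M, hB0, hC0]
  have hnormal : f.range.Normal := by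
    refine ⟨?_⟩
    rintro _ ⟨s, rfl⟩ g
    obtain ⟨A, D, hg⟩ := hblock g
    obtain ⟨A', D', hg'⟩ := hblock g⁻¹
    have hmul : R (Matrix.fromBlocks A 0 0 D) * R (Matrix.fromBlocks A' 0 0 D') = 1 := by
      rw [← hg, ← hg', ← Units.val_mul, ← Subgroup.coe_mul, mul_inv_cancel]
      rfl
    rw [← map_mul, Matrix.fromBlocks_multiply, ← map_one R] at hmul
    have hm := R.injective hmul
    rw [← Matrix.fromBlocks_one, Matrix.fromBlocks_inj] at hm
    simp only [Matrix.mul_zero, Matrix.zero_mul, add_zero, zero_add] at hm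
    have hdet : (A * s.1 * A').det = 1 := by
      rw [Matrix.det_mul, Matrix.det_mul, mul_comm A.det, mul_assoc, ← Matrix.det_mul, hm.1, Matrix.det_one,
        mul_one, s.2]
    refine ⟨⟨A * s.1 * A', hdet⟩, Subtype.ext (Units.ext ?_)⟩
    rw [Subgroup.coe_mul, Subgroup.coe_mul, Units.val_mul, Units.val_mul, hg, hg']
    show R (Matrix.fromBlocks (A * s.1 * A') 0 0 1) =
      R (Matrix.fromBlocks A 0 0 D) * R (Matrix.fromBlocks s.1 0 0 1) * R (Matrix.fromBlocks A' 0 0 D')
    rw [← map_mul, ← map_mul, Matrix.fromBlocks_multiply, Matrix.fromBlocks_multiply]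
    simp [hm.2.2.2]
  have hm2 : 2 ≤ m := by omega
  have hex : ¬ (m = 2 ∧ Fintype.card F ≤ 3) := by
    rintro ⟨rfl, hq⟩
    refine h33 ⟨rfl, ?_⟩
    rcases hF with ⟨k, hk⟩
    have := Fintype.one_lt_card (α := F)
    omega
  obtain ⟨hperf, hsimp⟩ := CfsgLib.Classical.sl_perfect_and_psl_simple (F := F) hm2 hex
  have hq : Cfsg.IsQuasisimple (Matrix.SpecialLinearGroup (Fin m) F) := ⟨⟨hperf⟩, hsimp⟩
  set π := QuotientGroup.mk' (Cfsg.oddCore ↥C) with hπ
  refine ⟨t, hto, fun hc => ?_, (π.comp f).range, ?_, ?_⟩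
  · -- not central
    obtain ⟨k, hk⟩ : ∃ k, m = k + 1 := ⟨m - 1, by omega⟩
    let σ := Equiv.swap (Sum.inl ⟨0, by omega⟩ : Fin m ⊕ Fin 1) (Sum.inr 0)
    let P : Matrix (Fin m ⊕ Fin 1) (Fin m ⊕ Fin 1) F := σ.toPEquiv.toMatrix
    have hPP : P * P = 1 := by
      rw [← PEquiv.toMatrix_trans, ← Equiv.toPEquiv_trans]
      have : σ.trans σ = Equiv.refl _ := by ext x; simp [σ]
      rw [this, Equiv.toPEquiv_refl, PEquiv.toMatrix_refl]
    let g : Matrix.GeneralLinearGroup (Fin (m + 1)) F :=
      ⟨R P, R P, by rw [← map_mul, hPP, map_one], by rw [← map_mul, hPP, map_one]⟩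
    have h1 : R P * R dM = R dM * R P := congrArg Units.val (Subgroup.mem_center_iff.1 hc g)
    rw [← map_mul, ← map_mul] at h1
    have h3 := congrFun (congrFun (R.injective h1) (Sum.inl ⟨0, by omega⟩)) (Sum.inr 0)
    simp [P, σ, hdM, PEquiv.toMatrix_toPEquiv_mul, PEquiv.mul_toMatrix_toPEquiv, Matrix.fromBlocks] at h3
    exact h2 (by linear_combination -h3)
  · rw [MonoidHom.range_comp]
    exact (Subgroup.Normal.isSubnormal hnormal).map (QuotientGroup.mk'_surjective _)
  · haveI : Nontrivial (π.comp f).range := (Subgroup.nontrivial_iff_ne_bot _).2 fun h => by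
      have hall : ∀ s, f s ∈ Cfsg.oddCore ↥C := fun s => (QuotientGroup.eq_one_iff (f s)).1
        ((Subgroup.mem_bot).1 (h ▸ (⟨s, rfl⟩ : π (f s) ∈ (π.comp f).range)))
      obtain ⟨i, j, hij⟩ : ∃ i j : Fin m, i ≠ j := ⟨⟨0, by omega⟩, ⟨1, by omega⟩, by simp⟩
      let w : Fin m → F := fun x => if x = i ∨ x = j then -1 else 1
      have hw : ∀ x, w x * w x = 1 := fun x => by by_cases hx : x = i ∨ x = j <;> simp [w, hx]
      have hdetw : (Matrix.diagonal w).det = 1 := by
        rw [Matrix.det_diagonal, ← Finset.mul_prod_erase _ _ (Finset.mem_univ i),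
          ← Finset.mul_prod_erase _ _ (Finset.mem_erase.2 ⟨Ne.symm hij, Finset.mem_univ j⟩),
          Finset.prod_eq_one fun x hx => by
            rw [Finset.mem_erase, Finset.mem_erase] at hx
            simp [w, hx.1, hx.2.1]]
        simp [w]
      let u : Matrix.SpecialLinearGroup (Fin m) F := ⟨Matrix.diagonal w, hdetw⟩
      have hu : u * u = 1 := Subtype.ext (by
        show Matrix.diagonal w * Matrix.diagonal w = 1
        rw [Matrix.diagonal_mul_diagonal, ← Matrix.diagonal_one]
        exact congrArg _ (funext hw))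
      have hfu : f u ≠ 1 := fun h1 => by
        have h3 : R (Matrix.fromBlocks u.1 0 0 1) = R 1 := by
          rw [map_one]; exact congrArg (fun c : C => (c : Matrix.GeneralLinearGroup (Fin (m + 1)) F).1) h1
        have h4 := congrFun (congrFun (R.injective h3) (Sum.inl i)) (Sum.inl i)
        simp [u, w] at h4
        exact h2 (by linear_combination -h4)
      have ho : orderOf (f u) = 2 := orderOf_eq_prime (by rw [pow_two, ← map_mul, hu, map_one]) hfu
      have hd := (Cfsg.oddCore ↥C).orderOf_dvd_natCard (hall u)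
      rw [ho] at hd
      exact CfsgLib.Coprime.pPrimeCore_not_dvd (G := ↥C) Nat.prime_two hd
    exact CfsgLib.Invol.BLayer.isQuasisimple_of_surjective hq (π.comp f).rangeRestrict_surjective

end Cfsg.Agent.S1340
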