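import Cfsg.Statements.S1343
import Cfsg.Agent.Lib.Coprime.ExtendedTwoLayer

set_option autoImplicit false
open Cfsg

namespace Cfsg.Agent.S1343

/-- Let X be finite. Then L*_{2'}(X) = L_{2'}(X) ⊔ F for some subgroup F of odd order normalized by a Sylow 2-subgroup of X. -/
theorem result {X : Type*} [Group X] [Finite X] : ∃ F : Subgroup X, Odd (Nat.card ↥F) ∧ (∃ S : Sylow 2 X, (S : Subgroup X) ≤ Subgroup.normalizer (F : Set X)) ∧ Cfsg.extendedTwoLayer X = Cfsg.pLayer 2 X ⊔ F := by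
  haveI : Fact (Nat.Prime 2) := ⟨Nat.prime_two⟩
  haveI := CfsgLib.Coprime.pLayer_normal (G := X) (p := 2)
  haveI hM : (CfsgLib.Coprime.twoM X).Normal := CfsgLib.Coprime.pLayer_sup_pPrimePCore_normal
  obtain ⟨S⟩ : Nonempty (Sylow 2 X) := inferInstance
  have hSp : IsPGroup 2 ↥(((S : Subgroup X) ⊓ CfsgLib.Coprime.twoM X).subgroupOf (CfsgLib.Coprime.twoM X)) :=
    (S.2.to_le inf_le_left).comap_subtype
  obtain ⟨T, hT⟩ : ∃ T : Sylow 2 ↥(CfsgLib.Coprime.twoM X), (T : Subgroup ↥(CfsgLib.Coprime.twoM X)) =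
      ((S : Subgroup X) ⊓ CfsgLib.Coprime.twoM X).subgroupOf (CfsgLib.Coprime.twoM X) :=
    ⟨hSp.toSylow (CfsgLib.Fusion.not_dvd_relIndex_inf_of_normal S _), rfl⟩
  have hTmap : (T : Subgroup ↥(CfsgLib.Coprime.twoM X)).map (CfsgLib.Coprime.twoM X).subtype =
      (S : Subgroup X) ⊓ CfsgLib.Coprime.twoM X := by
    rw [hT, Subgroup.map_subgroupOf_eq_of_le inf_le_right]
  refine ⟨Cfsg.oddCore X ⊔ CfsgLib.Coprime.centCore (CfsgLib.Coprime.twoM X) T, ?_, ⟨S, ?_⟩, ?_⟩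
  · rw [Nat.odd_iff, ← Nat.two_dvd_ne_zero]
    intro h
    rw [sup_comm] at h
    have h' := h.trans (CfsgLib.Coprime.card_sup_dvd_of_normal _ (Cfsg.oddCore X))
    rcases Nat.prime_two.dvd_mul.1 h' with h' | h'
    · exact (Nat.prime_two.coprime_iff_not_dvd.1
        (CfsgLib.Coprime.coprime_card_coreIn Nat.prime_two _).symm) h'
    · exact CfsgLib.Coprime.pPrimeCore_not_dvd Nat.prime_two h'
  · refine CfsgLib.Coprime.sup_le_normalizer (by rw [Subgroup.normalizer_eq_top (Cfsg.oddCore X)]; exact le_top) ?_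
    refine le_trans ?_ ((CfsgLib.Coprime.normalizer_le_normalizer_centralizer _).trans
      (CfsgLib.Coprime.normalizer_le_normalizer_coreIn _ _))
    rw [hTmap]
    exact CfsgLib.Coprime.inf_le_normalizer Subgroup.le_normalizer
      (by rw [Subgroup.normalizer_eq_top (CfsgLib.Coprime.twoM X)]; exact le_top)
  · rw [CfsgLib.Coprime.extendedTwoLayer_eq T, sup_assoc]

end Cfsg.Agent.S1343
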