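import Cfsg.Statements.S1344
import Cfsg.Agent.Lib.Coprime.ExtendedTwoLayer

set_option autoImplicit false
open Cfsg

namespace Cfsg.Agent.S1344

/-- Let K be a 2-component of the finite group X. Then K ≤ L*_{2'}(X) and K is normal in L*_{2'}(X). -/
theorem result {X : Type*} [Group X] [Finite X] (K : Subgroup X) (hK : Cfsg.IsPComponent 2 K) : K ≤ Cfsg.extendedTwoLayer X ∧ (K.subgroupOf (Cfsg.extendedTwoLayer X)).Normal := by
  haveI : Fact (Nat.Prime 2) := ⟨Nat.prime_two⟩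
  haveI := CfsgLib.Coprime.pLayer_normal (G := X) (p := 2)
  haveI hM : (CfsgLib.Coprime.twoM X).Normal := CfsgLib.Coprime.pLayer_sup_pPrimePCore_normal
  obtain ⟨S⟩ : Nonempty (Sylow 2 X) := inferInstance
  have hSp : IsPGroup 2 ↥(((S : Subgroup X) ⊓ CfsgLib.Coprime.twoM X).subgroupOf (CfsgLib.Coprime.twoM X)) :=
    (S.2.to_le inf_le_left).comap_subtype
  obtain ⟨T, hT⟩ : ∃ T : Sylow 2 ↥(CfsgLib.Coprime.twoM X), (T : Subgroup ↥(CfsgLib.Coprime.twoM X)) =
      ((S : Subgroup X) ⊓ CfsgLib.Coprime.twoM X).subgroupOf (CfsgLib.Coprime.twoM X) :=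
    ⟨hSp.toSylow (CfsgLib.Fusion.not_dvd_relIndex_inf_of_normal S _), rfl⟩
  have hTmap : (T : Subgroup ↥(CfsgLib.Coprime.twoM X)).map (CfsgLib.Coprime.twoM X).subtype =
      (S : Subgroup X) ⊓ CfsgLib.Coprime.twoM X := by
    rw [hT, Subgroup.map_subgroupOf_eq_of_le inf_le_right]
  have hle : K ≤ Cfsg.pLayer 2 X := CfsgLib.Coprime.pComponent_le_pLayer hK
  rw [CfsgLib.Coprime.extendedTwoLayer_eq T]
  refine ⟨(hle.trans le_sup_left).trans le_sup_left,
    (Subgroup.normal_subgroupOf_iff_le_normalizer ((hle.trans le_sup_left).trans le_sup_left)).2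
      (sup_le (sup_le (CfsgLib.Coprime.pLayer_le_normalizer_pComponent hK)
        (CfsgLib.Coprime.pPrimeCore_le_normalizer_pComponent hK)) fun u hu => ?_)⟩
  refine CfsgLib.Coprime.mem_normalizer_pComponent hK ?_
  obtain ⟨f, hf⟩ : ∃ f, f = QuotientGroup.mk' (Cfsg.pPrimeCore 2 X) := ⟨_, rfl⟩
  have hcomp := hK.2.1
  rw [← hf] at hcomp ⊢
  obtain ⟨R, hR⟩ : ∃ R, R = ((S : Subgroup X) ⊓ K).map f := ⟨_, rfl⟩
  have hRp : IsPGroup 2 R := hR ▸ (S.2.to_le inf_le_left).map f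
  have hRK : R ≤ K.map f := hR ▸ Subgroup.map_mono inf_le_right
  have hRdvd : ¬ 2 ∣ R.relIndex (K.map f) := fun h => by
    refine CfsgLib.Coprime.not_dvd_relIndex_inf_of_isSubnormal S hK.1 (h.trans ?_)
    have e : R.subgroupOf (K.map f) = (((S : Subgroup X) ⊓ K).subgroupOf K).map (f.subgroupMap K) := by
      refine Subgroup.map_injective (K.map f).subtype_injective ?_
      rw [Subgroup.map_subgroupOf_eq_of_le hRK, Subgroup.map_map,
        show (K.map f).subtype.comp (f.subgroupMap K) = f.comp K.subtype from rfl,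
        ← Subgroup.map_map, Subgroup.map_subgroupOf_eq_of_le inf_le_right, hR]
    rw [Subgroup.relIndex, e]
    exact Subgroup.index_map_dvd _ (f.subgroupMap_surjective K)
  by_contra hn
  obtain ⟨L, hL⟩ : ∃ L, L = (K.map f).map (MulAut.conj (f u)).toMonoidHom := ⟨_, rfl⟩
  have hLne : K.map f ≠ L := fun e => hn (CfsgLib.Fusion.conjBy_eq_iff.1 (hL.symm.trans e.symm))
  have hc := CfsgLib.Coprime.components_commute hcomp
    (hL ▸ CfsgLib.Coprime.isComponent_map_equiv _ hcomp) hLne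
  have hRL : R ≤ L := by
    rintro y hy
    rw [hR] at hy
    obtain ⟨x, hx, rfl⟩ := hy
    have hxT : x ∈ (T : Subgroup ↥(CfsgLib.Coprime.twoM X)).map (CfsgLib.Coprime.twoM X).subtype := by
      rw [hTmap]
      exact ⟨hx.1, (hle.trans le_sup_left) hx.2⟩
    rw [hL]
    refine ⟨f x, Subgroup.mem_map_of_mem f hx.2, ?_⟩
    have hcomm := Subgroup.mem_centralizer_iff.1 (CfsgLib.Coprime.coreIn_le _ _ hu) x hxT
    show f u * f x * (f u)⁻¹ = f x
    rw [← map_mul, ← hcomm, map_mul, mul_inv_cancel_right]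
  obtain ⟨x, k, hk, hx⟩ := CfsgLib.Coprime.exists_pElement_not_mem_center (p := 2) hcomp.2
    (CfsgLib.Coprime.dvd_card_of_isComponent
      (CfsgLib.Coprime.pPrimeCore_quotient_eq_bot Nat.prime_two) hcomp)
  refine hx (Subgroup.mem_center_iff.2 fun y => Subtype.ext ?_)
  obtain ⟨g, hg, hgx⟩ := CfsgLib.Fusion.exists_conj_le_of_not_dvd_relIndex hRp hRK hRdvd
    (R := Subgroup.zpowers (x : X ⧸ Cfsg.pPrimeCore 2 X)) (IsPGroup.of_card (n := (Nat.log 2
      (Nat.card (Subgroup.zpowers (x : X ⧸ Cfsg.pPrimeCore 2 X))))) (by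
      obtain ⟨j, _, hj⟩ := (Nat.dvd_prime_pow Nat.prime_two).1
        (orderOf_dvd_of_pow_eq_one (show (x : X ⧸ Cfsg.pPrimeCore 2 X) ^ 2 ^ k = 1 by
          simpa using congrArg Subtype.val hk))
      rw [Nat.card_zpowers, hj, Nat.log_pow (by norm_num)])) (Subgroup.zpowers_le.2 x.2)
  have hz : g * (x : X ⧸ Cfsg.pPrimeCore 2 X) * g⁻¹ ∈ R :=
    hgx (CfsgLib.Fusion.conj_mem_conjBy (Subgroup.mem_zpowers _))
  have h := CfsgLib.Coprime.commutator_eq_bot_iff_forall.1 hc (g * y * g⁻¹)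
    (mul_mem (mul_mem hg y.2) (inv_mem hg)) _ (hRL hz)
  have h2 := congrArg (fun z => g⁻¹ * z * g) h
  simpa [mul_assoc] using h2

end Cfsg.Agent.S1344
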