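import Cfsg.Statements.S1348
import Cfsg.Agent.S1306
import Cfsg.Agent.Lib.Classical.SLNormalized
import Cfsg.Agent.Lib.Coprime.Component
import Mathlib

set_option autoImplicit false
open Cfsg

namespace Cfsg.Agent.S1348

open Matrix

variable {F : Type*} [Field F] [Fintype F] [DecidableEq F] {m : ℕ}

/-- reindexing of block matrices -/
abbrev blk : Matrix (Fin m ⊕ Fin 1) (Fin m ⊕ Fin 1) F ≃ₐ[F] Matrix (Fin (m + 1)) (Fin (m + 1)) F :=
  Matrix.reindexAlgEquiv F F finSumFinEquiv

/-- the block embedding of `SL m` in `SL (m+1)` -/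
noncomputable def slEmb : Matrix.SpecialLinearGroup (Fin m) F →* Matrix.SpecialLinearGroup (Fin (m + 1)) F where
  toFun s := ⟨blk (Matrix.fromBlocks s.1 0 0 1), by
    rw [Matrix.det_reindexAlgEquiv, Matrix.det_fromBlocks_zero₂₁, s.2, Matrix.det_one, mul_one]⟩
  map_one' := Subtype.ext (by simp [Matrix.fromBlocks_one])
  map_mul' a b := Subtype.ext (by
    show blk (Matrix.fromBlocks (a * b).1 0 0 1) =
      blk (Matrix.fromBlocks a.1 0 0 1) * blk (Matrix.fromBlocks b.1 0 0 1)
    rw [← map_mul, Matrix.fromBlocks_multiply, Matrix.SpecialLinearGroup.coe_mul]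
    simp)

theorem slEmb_injective : Function.Injective (slEmb (F := F) (m := m)) := fun a b h => by
  have h1 : blk (Matrix.fromBlocks a.1 0 0 1) = blk (Matrix.fromBlocks b.1 0 0 1) := congrArg Subtype.val h
  exact Subtype.ext (Matrix.fromBlocks_inj.1 (blk.injective h1)).1

/-- elements commuting with the embedded `SL m` are scalar on the hyperplane -/
theorem shape_of_commutes (hm : 2 ≤ m) (g : Matrix.SpecialLinearGroup (Fin (m + 1)) F)
    (hg : g ∈ Subgroup.centralizer ((slEmb (F := F) (m := m)).range : Set _)) :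
    ∃ (a : F) (D : Matrix (Fin 1) (Fin 1) F),
      g.1 = blk (Matrix.fromBlocks (Matrix.scalar (Fin m) a) 0 0 D) := by
  obtain ⟨M, hM⟩ := (blk (F := F) (m := m)).surjective g.1
  have key : ∀ u : Matrix.TransvectionStruct (Fin m) F,
      u.toMatrix * M.toBlocks₁₁ = M.toBlocks₁₁ * u.toMatrix ∧
      u.toMatrix * M.toBlocks₁₂ = M.toBlocks₁₂ ∧ M.toBlocks₂₁ = M.toBlocks₂₁ * u.toMatrix := by
    intro u
    let s : Matrix.SpecialLinearGroup (Fin m) F := ⟨u.toMatrix, u.det⟩
    have h : blk (Matrix.fromBlocks u.toMatrix 0 0 1) * blk M = blk M * blk (Matrix.fromBlocks u.toMatrix 0 0 1) := by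
      rw [hM]
      exact congrArg Subtype.val (Subgroup.mem_centralizer_iff.1 hg (slEmb s) ⟨s, rfl⟩)
    rw [← map_mul, ← map_mul] at h
    have h3 := blk.injective h
    rw [← Matrix.fromBlocks_toBlocks M, Matrix.fromBlocks_multiply, Matrix.fromBlocks_multiply,
      Matrix.fromBlocks_inj] at h3
    simp only [Matrix.mul_one, Matrix.one_mul, Matrix.mul_zero, Matrix.zero_mul, add_zero, zero_add] at h3
    exact ⟨h3.1, h3.2.1, h3.2.2.1⟩
  haveI : Nontrivial (Fin m) := Fin.nontrivial_iff_two_le.2 hm
  have hQ : M.toBlocks₁₂ = 0 := Matrix.ext fun j k => by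
    obtain ⟨i, hi⟩ := exists_ne j
    have h := congrFun (congrFun (key ⟨i, j, hi, 1⟩).2.1 i) k
    rw [Matrix.TransvectionStruct.toMatrix_mk, Matrix.transvection, Matrix.add_mul, Matrix.one_mul,
      Matrix.add_apply, Matrix.single_mul_apply_same, one_mul] at h
    simpa using h
  have hR : M.toBlocks₂₁ = 0 := Matrix.ext fun k i => by
    obtain ⟨j, hj⟩ := exists_ne i
    have h := congrFun (congrFun (key ⟨i, j, hj.symm, 1⟩).2.2 k) j
    rw [Matrix.TransvectionStruct.toMatrix_mk, Matrix.transvection, Matrix.mul_add, Matrix.mul_one,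
      Matrix.add_apply, Matrix.mul_single_apply_same, mul_one] at h
    simpa using h
  obtain ⟨a, ha⟩ := Matrix.mem_range_scalar_of_commute_transvectionStruct (M := M.toBlocks₁₁)
    fun u => (key u).1
  refine ⟨a, M.toBlocks₂₂, ?_⟩
  rw [← hM, ha]
  conv_lhs => rw [← Matrix.fromBlocks_toBlocks M, hQ, hR]



/-- Let F be a finite field of odd order, n ≥ 7 odd, and t ∈ SL(n, F) the diagonal matrix with entries −1, …, −1, 1. Then E(C(t)) is a standard subgroup of SL(n, F). -/
theorem result {F : Type*} [Field F] [Fintype F] [DecidableEq F] (hF : Odd (Fintype.card F)) (n : ℕ) (hn : 7 ≤ n) (hodd : Odd n) (t : Matrix.SpecialLinearGroup (Fin n) F) (ht : (t : Matrix (Fin n) (Fin n) F) = Matrix.diagonal (fun i : Fin n => if (i : ℕ) + 1 = n then (1 : F) else -1)) : Cfsg.IsStandardSubgroup ((Cfsg.layer ↥(Subgroup.centralizer ({t} : Set (Matrix.SpecialLinearGroup (Fin n) F)))).map (Subgroup.centralizer ({t} : Set (Matrix.SpecialLinearGroup (Fin n) F))).subtype) := by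
  obtain ⟨m, rfl⟩ : ∃ m, n = m + 1 := ⟨n - 1, by omega⟩
  have hmE : Even m := by
    rcases Nat.even_or_odd m with h | h
    · exact h
    · exact absurd hodd (Nat.not_odd_iff_even.2 h.add_one)
  have h2 : (2 : F) ≠ 0 := by
    intro h
    have h2' : ringChar F ∣ 2 := (ringChar.spec F 2).1 h
    have h3 : ringChar F = 2 :=
      ((Nat.dvd_prime Nat.prime_two).1 h2').resolve_left (CharP.ringChar_ne_one (R := F))
    exact Nat.not_even_iff_odd.2 hF (Nat.even_iff.2 (FiniteField.even_card_of_char_two h3))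
  haveI : Finite (Matrix.SpecialLinearGroup (Fin (m + 1)) F) := Subtype.finite
  haveI : Finite (Matrix.SpecialLinearGroup (Fin m) F) := Subtype.finite
  set dM : Matrix (Fin m ⊕ Fin 1) (Fin m ⊕ Fin 1) F := Matrix.fromBlocks (-1) 0 0 1 with hdM
  have hdd : dM * dM = 1 := by
    simp [hdM, Matrix.fromBlocks_multiply, Matrix.fromBlocks_one]
  have htR : t.1 = blk dM := by
    rw [ht]
    ext i j
    obtain ⟨x, rfl⟩ := (finSumFinEquiv (m := m) (n := 1)).surjective i
    obtain ⟨y, rfl⟩ := (finSumFinEquiv (m := m) (n := 1)).surjective j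
    simp only [blk, Matrix.coe_reindexAlgEquiv, Matrix.reindex_apply, Matrix.submatrix_apply,
      Equiv.symm_apply_apply, hdM]
    rcases x with x | x <;> rcases y with y | y
    · have := x.isLt
      simp only [Matrix.fromBlocks_apply₁₁, Matrix.neg_apply, Matrix.one_apply, Matrix.diagonal_apply,
        finSumFinEquiv_apply_left, Fin.castAdd, Fin.ext_iff, Fin.coe_castLE]
      by_cases hxy : (x : ℕ) = y
      · have := y.isLt
        simp [hxy, show (y : ℕ) ≠ m by omega]
      · simp [hxy]
    · have := x.isLt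
      have := y.isLt
      simp [Matrix.diagonal_apply, Fin.ext_iff]
      omega
    · have := x.isLt
      have := y.isLt
      simp [Matrix.diagonal_apply, Fin.ext_iff]
      omega
    · simp [Subsingleton.elim x y, Matrix.diagonal_apply]
  have ht1 : t ≠ 1 := fun e => by
    have h1 : blk dM = blk 1 := by rw [map_one, ← htR, e]; rfl
    have h3 := congrFun (congrFun (blk.injective h1) (Sum.inl ⟨0, by omega⟩)) (Sum.inl ⟨0, by omega⟩)
    simp [hdM] at h3
    exact h2 (by linear_combination -h3)
  have hto : orderOf t = 2 := orderOf_eq_prime (by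
    rw [pow_two]; exact Subtype.ext (by show t.1 * t.1 = 1; rw [htR, ← map_mul, hdd, map_one])) ht1
  set C := Subgroup.centralizer ({t} : Set (Matrix.SpecialLinearGroup (Fin (m + 1)) F)) with hC
  set L : Subgroup (Matrix.SpecialLinearGroup (Fin (m + 1)) F) := slEmb.range with hL
  have hLC : L ≤ C := by
    rintro _ ⟨s, rfl⟩
    refine Subgroup.mem_centralizer_singleton_iff.2 (Subtype.ext ?_)
    show blk (Matrix.fromBlocks s.1 0 0 1) * t.1 = t.1 * blk (Matrix.fromBlocks s.1 0 0 1)
    rw [htR, ← map_mul, ← map_mul, hdM, Matrix.fromBlocks_multiply, Matrix.fromBlocks_multiply]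
    simp
  have hblock : ∀ g ∈ C, ∃ A D, g.1 = blk (Matrix.fromBlocks A 0 0 D) := by
    intro g hg
    obtain ⟨M, hM⟩ := (blk (F := F) (m := m)).surjective g.1
    have h1 : blk M * blk dM = blk dM * blk M := by
      rw [hM, ← htR]; exact congrArg (fun z : Matrix.SpecialLinearGroup (Fin (m + 1)) F => z.1)
        (Subgroup.mem_centralizer_singleton_iff.1 hg)
    rw [← map_mul, ← map_mul] at h1
    have h3 := blk.injective h1
    rw [← Matrix.fromBlocks_toBlocks M, hdM, Matrix.fromBlocks_multiply, Matrix.fromBlocks_multiply,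
      Matrix.fromBlocks_inj] at h3
    simp only [Matrix.mul_one, Matrix.one_mul, Matrix.mul_zero, Matrix.zero_mul, add_zero, zero_add,
      Matrix.mul_neg, Matrix.neg_mul] at h3
    obtain ⟨-, hB, hC', -⟩ := h3
    refine ⟨M.toBlocks₁₁, M.toBlocks₂₂, ?_⟩
    rw [← hM]
    have hz : ∀ x : F, x = -x → x = 0 := fun x hx =>
      (mul_eq_zero.1 (show (2 : F) * x = 0 by linear_combination hx)).resolve_left h2
    have hB0 : M.toBlocks₁₂ = 0 := Matrix.ext fun i j => by
      have := congrFun (congrFun hB i) j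
      simp at this
      exact hz _ (by linear_combination this)
    have hC0 : M.toBlocks₂₁ = 0 := Matrix.ext fun i j => by
      have := congrFun (congrFun hC' i) j
      simp at this
      exact hz _ (by linear_combination -this)
    conv_lhs => rw [← Matrix.fromBlocks_toBlocks M, hB0, hC0]
  have hLn : (L.subgroupOf C).Normal := by
    refine ⟨?_⟩
    intro x hx g
    obtain ⟨s, hs⟩ := Subgroup.mem_subgroupOf.1 hx
    obtain ⟨A, D, hg⟩ := hblock g.1 g.2
    obtain ⟨A', D', hg'⟩ := hblock (g.1⁻¹) (C.inv_mem g.2)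
    have hmul : blk (Matrix.fromBlocks A 0 0 D) * blk (Matrix.fromBlocks A' 0 0 D') = 1 := by
      rw [← hg, ← hg', ← Matrix.SpecialLinearGroup.coe_mul, mul_inv_cancel,
        Matrix.SpecialLinearGroup.coe_one]
    rw [← map_mul, Matrix.fromBlocks_multiply, ← map_one blk] at hmul
    have hm := blk.injective hmul
    rw [← Matrix.fromBlocks_one, Matrix.fromBlocks_inj] at hm
    simp only [Matrix.mul_zero, Matrix.zero_mul, add_zero, zero_add] at hm
    have hdet : (A * s.1 * A').det = 1 := by
      rw [Matrix.det_mul, Matrix.det_mul, mul_comm A.det, mul_assoc, ← Matrix.det_mul, hm.1, Matrix.det_one,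
        mul_one, s.2]
    refine Subgroup.mem_subgroupOf.2 ⟨⟨A * s.1 * A', hdet⟩, Subtype.ext ?_⟩
    rw [Subgroup.coe_mul, Subgroup.coe_mul, Subgroup.coe_inv, ← hs]
    show blk (Matrix.fromBlocks (A * s.1 * A') 0 0 1) =
      (g.1 * slEmb s * g.1⁻¹ : Matrix.SpecialLinearGroup (Fin (m + 1)) F).1
    rw [Matrix.SpecialLinearGroup.coe_mul, Matrix.SpecialLinearGroup.coe_mul, hg, hg']
    show _ = blk (Matrix.fromBlocks A 0 0 D) * blk (Matrix.fromBlocks s.1 0 0 1) *
      blk (Matrix.fromBlocks A' 0 0 D')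
    rw [← map_mul, ← map_mul, Matrix.fromBlocks_multiply, Matrix.fromBlocks_multiply]
    simp [hm.2.2.2]
  have hm2 : 2 ≤ m := by omega
  obtain ⟨hperf, hsimp⟩ := CfsgLib.Classical.sl_perfect_and_psl_simple (F := F) hm2 (by omega)
  have hLq : Cfsg.IsQuasisimple L :=
    CfsgLib.Coprime.isQuasisimple_congr (MonoidHom.ofInjective slEmb_injective)
      ⟨⟨hperf⟩, hsimp⟩
  have hLcomp : Cfsg.IsComponent (L.subgroupOf C) :=
    ⟨hLn.isSubnormal, CfsgLib.Coprime.isQuasisimple_congr (Subgroup.subgroupOfEquivOfLe hLC).symm hLq⟩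
  have hshape := shape_of_commutes (F := F) hm2
  have hab : ∀ a ∈ Subgroup.centralizer (L : Set (Matrix.SpecialLinearGroup (Fin (m + 1)) F)),
      ∀ b ∈ Subgroup.centralizer (L : Set (Matrix.SpecialLinearGroup (Fin (m + 1)) F)),
      a * b = b * a := by
    intro a ha b hb
    obtain ⟨x, D, hx⟩ := hshape a ha
    obtain ⟨y, E, hy⟩ := hshape b hb
    refine Subtype.ext ?_
    rw [Matrix.SpecialLinearGroup.coe_mul, Matrix.SpecialLinearGroup.coe_mul, hx, hy, ← map_mul,
      ← map_mul, Matrix.fromBlocks_multiply, Matrix.fromBlocks_multiply]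
    simp only [Matrix.mul_zero, Matrix.zero_mul, add_zero, zero_add, ← map_mul, mul_comm x y]
    congr 2
    ext i j
    simp [Matrix.mul_apply, Subsingleton.elim i 0, Subsingleton.elim j 0, mul_comm]
  have hLnab : ∀ K : Subgroup (Matrix.SpecialLinearGroup (Fin (m + 1)) F), Nonempty (L ≃* K) →
      K ≤ Subgroup.centralizer (L : Set _) → False := by
    rintro K ⟨e⟩ hK
    refine CfsgLib.Coprime.not_isSolvable_of_isQuasisimple hLq (Group.isSolvable_of_comm fun a b =>
      e.injective ?_)
    rw [map_mul, map_mul]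
    exact Subtype.ext (hab _ (hK (e a).2) _ (hK (e b).2))
  have hlayer : Cfsg.layer ↥C = L.subgroupOf C := by
    refine le_antisymm (sSup_le fun K hK => ?_) (CfsgLib.Coprime.component_le_layer hLcomp)
    by_cases hKL : K = L.subgroupOf C
    · exact hKL.le
    exfalso
    have hc := CfsgLib.Coprime.commutator_eq_bot_iff_forall.1
      (CfsgLib.Coprime.components_commute hK hLcomp hKL)
    have hKc : ∀ k ∈ K, (k : Matrix.SpecialLinearGroup (Fin (m + 1)) F) ∈ Subgroup.centralizer (L : Set _) :=
      fun k hk => Subgroup.mem_centralizer_iff.2 fun l hl =>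
        (congrArg Subtype.val (hc k hk ⟨l, hLC hl⟩ hl)).symm
    exact CfsgLib.Coprime.not_isSolvable_of_isComponent hK (Group.isSolvable_of_comm fun a b =>
      Subtype.ext (Subtype.ext (hab _ (hKc _ a.2) _ (hKc _ b.2))))
  rw [hlayer, Subgroup.map_subgroupOf_eq_of_le hLC]
  refine Cfsg.Agent.S1306.standard t hto L hLC hLcomp (fun y hy hyL => ?_) (fun g hg h => ?_)
  · have hyt : y = t := by
      obtain ⟨a, D, hyM⟩ := hshape y hyL
      have hy1 : y ≠ 1 := fun e => by rw [e, orderOf_one] at hy; omega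
      have hyy : y * y = 1 := by
        have h := pow_orderOf_eq_one y
        rwa [hy, pow_two] at h
      have hsq : blk (Matrix.fromBlocks (Matrix.scalar (Fin m) a) 0 0 D) *
          blk (Matrix.fromBlocks (Matrix.scalar (Fin m) a) 0 0 D) = blk 1 := by
        rw [map_one, ← hyM, ← Matrix.SpecialLinearGroup.coe_mul, hyy, Matrix.SpecialLinearGroup.coe_one]
      rw [← map_mul, Matrix.fromBlocks_multiply] at hsq
      have hm := blk.injective hsq
      rw [← Matrix.fromBlocks_one, Matrix.fromBlocks_inj] at hm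
      simp only [Matrix.mul_zero, Matrix.zero_mul, add_zero, zero_add, ← map_mul] at hm
      have haa : a * a = 1 := by
        have := congrFun (congrFun hm.1 ⟨0, by omega⟩) ⟨0, by omega⟩
        simpa [Matrix.scalar_apply] using this
      have hdet : a ^ m * D 0 0 = 1 := by
        have h := y.2
        rw [hyM, Matrix.det_reindexAlgEquiv, Matrix.det_fromBlocks_zero₂₁, Matrix.det_fin_one,
          Matrix.scalar_apply, Matrix.det_diagonal, Finset.prod_const, Finset.card_univ,
          Fintype.card_fin] at h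
        exact h
      have hD : D = 1 := by
        obtain ⟨k, rfl⟩ := hmE
        rw [← two_mul, pow_mul, pow_two, haa, one_pow, one_mul] at hdet
        ext i j
        rw [Subsingleton.elim i 0, Subsingleton.elim j 0, hdet, Matrix.one_apply_eq]
      rcases mul_self_eq_one_iff.1 haa with rfl | rfl
      · refine absurd (Subtype.ext ?_) hy1
        rw [hyM, hD, map_one, Matrix.fromBlocks_one, map_one]
        rfl
      · refine Subtype.ext ?_
        rw [hyM, hD, htR, hdM, map_neg, map_one]
    subst hyt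
    exact ⟨hLC, hLcomp⟩
  · refine hLnab _ ⟨Subgroup.equivMapOfInjective L (MulAut.conj g).toMonoidHom (MulAut.conj g).injective⟩
      fun k hk => ?_
    exact Subgroup.mem_centralizer_iff.2 fun l hl =>
      CfsgLib.Coprime.commutator_eq_bot_iff_forall.1 h l hl k hk

end Cfsg.Agent.S1348
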