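import Cfsg.Statements.S4408
import Cfsg.Agent.Lib.Coprime.Solvable
import Cfsg.Agent.Lib.PGroup.ElementaryBasic

set_option autoImplicit false
open Cfsg

namespace Cfsg.Agent.S4408

open Subgroup

variable {S : Type*} [Group S] [Finite S]

theorem mem_normalizer_of_conj {H : Subgroup S} {g : S} (h : ∀ u ∈ H, g * u * g⁻¹ ∈ H) :
    g ∈ normalizer (H : Set S) := by
  have heq : H.map (MulAut.conj g).toMonoidHom = H :=
    eq_of_le_of_card_ge (by rintro _ ⟨u, hu, rfl⟩; exact h u hu)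
      (by rw [Subgroup.card_map_of_injective (MulAut.conj g).injective])
  refine mem_normalizer_iff.2 fun u => ⟨h u, fun hu => ?_⟩
  obtain ⟨v, hv, hvu⟩ := heq.ge hu
  exact (MulAut.conj g).injective hvu ▸ hv

theorem exists_abelian_faithful [Group.IsSolvable S] (F : Subgroup S) (hFe : F = Cfsg.fittingSubgroup S)
    (hodd : Odd (Nat.card F)) (I : Subgroup S) (hI : Cfsg.IsElementaryAbelian 2 I) :
    ∃ A : Subgroup S, A ≤ F ∧ (∀ a ∈ A, ∀ b ∈ A, a * b = b * a) ∧ I ≤ normalizer (A : Set S) ∧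
      I ⊓ centralizer (A : Set S) = ⊥ := by
  classical
  haveI hFn : F.Normal := hFe ▸ CfsgLib.Coprime.fitting_normal
  haveI hFnil : Group.IsNilpotent F := hFe ▸ CfsgLib.Coprime.fitting_isNilpotent
  have hII : ∀ i ∈ I, i * i = 1 := fun i hi => by rw [← pow_two]; exact hI.2 i hi
  have hIinv : ∀ i ∈ I, i⁻¹ = i := fun i hi => inv_eq_of_mul_eq_one_left (hII i hi)
  obtain ⟨A, -, hA⟩ := Finite.exists_le_maximal
    (p := fun A : Subgroup S => A ≤ F ∧ (∀ a ∈ A, ∀ b ∈ A, a * b = b * a) ∧ F ≤ normalizer (A : Set S) ∧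
      I ≤ normalizer (A : Set S)) (a := ⊥)
    ⟨bot_le, fun a ha b hb => by rw [mem_bot.1 ha, mem_bot.1 hb], (fun g _ => mem_normalizer_of_conj fun u hu => by rw [mem_bot] at hu ⊢; rw [hu]; group),
      (fun g _ => mem_normalizer_of_conj fun u hu => by rw [mem_bot] at hu ⊢; rw [hu]; group)⟩
  obtain ⟨hAF, hAc, hFA, hIA⟩ := hA.prop
  have hFA' : ∀ f ∈ F, ∀ a ∈ A, f * a * f⁻¹ ∈ A := fun f hf a ha => ((mem_normalizer_iff).1 (hFA hf) a).1 ha
  have hIA' : ∀ i ∈ I, ∀ a ∈ A, i * a * i⁻¹ ∈ A := fun i hi a ha => ((mem_normalizer_iff).1 (hIA hi) a).1 ha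
  have hCA : F ⊓ centralizer (A : Set S) ≤ A := by
    by_contra hnot
    set C := F ⊓ centralizer (A : Set S)
    have hCI : ∀ i ∈ I, ∀ x ∈ C, i * x * i⁻¹ ∈ C := fun i hi x hx =>
      ⟨hFn.conj_mem x hx.1 i, mem_centralizer_iff.2 fun a ha => by
        have h1 := mem_centralizer_iff.1 hx.2 _ (hIA' i hi a ha)
        have h2 := mem_centralizer_iff.1 hx.2 (i⁻¹ * a * i⁻¹⁻¹) (hIA' i⁻¹ (inv_mem hi) a ha)
        calc a * (i * x * i⁻¹) = i * ((i⁻¹ * a * i⁻¹⁻¹) * x) * i⁻¹ := by group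
          _ = i * (x * (i⁻¹ * a * i⁻¹⁻¹)) * i⁻¹ := by rw [h2]
          _ = i * x * i⁻¹ * a := by group⟩
    haveI : (A.subgroupOf F).Normal := ⟨fun a ha f => mem_subgroupOf.2 (hFA' f f.2 a ha)⟩
    haveI : (C.subgroupOf F).Normal := ⟨fun x hx f => mem_subgroupOf.2 ⟨hFn.conj_mem _ hx.1 _,
      mem_centralizer_iff.2 fun a ha => by
        have h2 := mem_centralizer_iff.1 hx.2 ((f : S)⁻¹ * a * (f : S)⁻¹⁻¹) (hFA' _ (inv_mem f.2) a ha)
        simp only [Subgroup.coe_subtype] at h2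
        calc a * ((f : S) * x * (f : S)⁻¹) = f * (((f : S)⁻¹ * a * (f : S)⁻¹⁻¹) * x) * (f : S)⁻¹ := by group
          _ = f * (x * ((f : S)⁻¹ * a * (f : S)⁻¹⁻¹)) * (f : S)⁻¹ := by rw [h2]
          _ = f * x * (f : S)⁻¹ * a := by group⟩⟩
    set π := QuotientGroup.mk' (A.subgroupOf F)
    haveI : Group.IsNilpotent (F ⧸ A.subgroupOf F) :=
      Group.nilpotent_of_surjective π (QuotientGroup.mk'_surjective _)
    haveI : ((C.subgroupOf F).map π).Normal := Normal.map inferInstance π (QuotientGroup.mk'_surjective _)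
    have hne : (C.subgroupOf F).map π ≠ ⊥ := fun e => hnot fun x hx => by
      rw [Subgroup.map_eq_bot_iff, QuotientGroup.ker_mk'] at e
      exact e (show (⟨x, hx.1⟩ : F) ∈ C.subgroupOf F from mem_subgroupOf.2 hx)
    obtain ⟨q, hq, hq1⟩ : ∃ q ∈ (C.subgroupOf F).map π ⊓ center _, q ≠ 1 := by
      by_contra! h
      exact CfsgLib.Coprime.nilpotent_inf_center_ne_bot _ hne (eq_bot_iff.2 fun z hz => mem_bot.2 (h z hz))
    obtain ⟨⟨x₀, hx₀, rfl⟩, hqc⟩ := hq
    -- elements central in `F` modulo `A`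
    let Q : S → Prop := fun x => x ∈ C ∧ x ∉ A ∧ ∀ f ∈ F, f * x * f⁻¹ * x⁻¹ ∈ A
    have hQ₀ : Q x₀ := by
      refine ⟨mem_subgroupOf.1 hx₀, fun h => hq1 ((QuotientGroup.eq_one_iff _).2 (mem_subgroupOf.2 h)), fun f hf => ?_⟩
      have h := mem_center_iff.1 hqc (π ⟨f, hf⟩)
      have h2 : π (⟨f, hf⟩ * x₀ * (⟨f, hf⟩ : F)⁻¹ * x₀⁻¹) = 1 := by
        rw [map_mul, map_mul, map_mul, map_inv, map_inv, h]; group
      exact mem_subgroupOf.1 ((QuotientGroup.eq_one_iff _).1 h2)
    have key : ∀ s : Finset S, (∀ i ∈ s, i ∈ I) →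
        ∃ x, Q x ∧ ∀ i ∈ s, i * x * i⁻¹ * x⁻¹ ∈ A ∨ i * x * i⁻¹ * x ∈ A := by
      intro s
      induction s using Finset.induction with
      | empty => exact fun _ => ⟨_, hQ₀, fun i hi => absurd hi (Finset.notMem_empty i)⟩
      | insert i s _ ih =>
        intro hs
        obtain ⟨x, hx, hxs⟩ := ih fun j hj => hs j (Finset.mem_insert_of_mem hj)
        have hi := hs i (Finset.mem_insert_self i s)
        by_cases hix : i * x * i⁻¹ * x ∈ A
        · exact ⟨x, hx, fun j hj => (Finset.mem_insert.1 hj).elim (fun e => Or.inr (e ▸ hix)) (hxs j)⟩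
        obtain ⟨z, hz⟩ : ∃ z, z = i * x * i⁻¹ := ⟨_, rfl⟩
        have hxF : x ∈ F := hx.1.1
        have hzF : z ∈ F := hz ▸ hFn.conj_mem x hxF i
        have hzc : ∀ f ∈ F, f * z * f⁻¹ * z⁻¹ ∈ A := fun f hf => by
          have := hIA' i hi _ (hx.2.2 (i⁻¹ * f * i) (by simpa using hFn.conj_mem f hf i⁻¹))
          rw [hz]
          convert this using 1
          group
        refine ⟨z * x, ⟨mul_mem (hz ▸ hCI i hi x hx.1) hx.1, hz ▸ hix, fun f hf => ?_⟩, fun j hj => ?_⟩
        · rw [show f * (z * x) * f⁻¹ * (z * x)⁻¹ = (f * z * f⁻¹ * z⁻¹) * (z * (f * x * f⁻¹ * x⁻¹) * z⁻¹) by group]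
          exact mul_mem (hzc f hf) (hFA' z hzF _ (hx.2.2 f hf))
        · rcases Finset.mem_insert.1 hj with rfl | hj
          · left
            have hzi : j * z * j⁻¹ = x := by
              rw [hz, hIinv j hi, show j * (j * x * j) * j = (j * j) * x * (j * j) by group, hII j hi, one_mul, mul_one]
            rw [show j * (z * x) * j⁻¹ = (j * z * j⁻¹) * (j * x * j⁻¹) by group, hzi, ← hz,
              show x * z * (z * x)⁻¹ = (z * x * z⁻¹ * x⁻¹)⁻¹ by group]
            exact inv_mem (hx.2.2 z hzF)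
          · have hjI := hs j (Finset.mem_insert_of_mem hj)
            have hij : i * j = j * i := congrArg Subtype.val (hI.1.is_comm.comm (⟨i, hi⟩ : I) ⟨j, hjI⟩)
            rcases hxs j hj with h | h
            · left
              obtain ⟨a, ha, hae⟩ : ∃ a ∈ A, j * x * j⁻¹ = a * x := ⟨_, h, by group⟩
              have hjz : j * z * j⁻¹ = (i * a * i⁻¹) * z := by
                rw [hz, show j * (i * x * i⁻¹) * j⁻¹ = (j * i) * x * (j * i)⁻¹ by group, ← hij,
                  show i * j * x * (i * j)⁻¹ = i * (j * x * j⁻¹) * i⁻¹ by group, hae]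
                group
              rw [show j * (z * x) * j⁻¹ = (j * z * j⁻¹) * (j * x * j⁻¹) by group, hjz, hae,
                show i * a * i⁻¹ * z * (a * x) * (z * x)⁻¹ = (i * a * i⁻¹) * (z * a * z⁻¹) by group]
              exact mul_mem (hIA' i hi a ha) (hFA' z hzF a ha)
            · right
              obtain ⟨a, ha, hae⟩ : ∃ a ∈ A, j * x * j⁻¹ = a * x⁻¹ := ⟨_, h, by group⟩
              have hjz : j * z * j⁻¹ = (i * a * i⁻¹) * z⁻¹ := by
                rw [hz, show j * (i * x * i⁻¹) * j⁻¹ = (j * i) * x * (j * i)⁻¹ by group, ← hij,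
                  show i * j * x * (i * j)⁻¹ = i * (j * x * j⁻¹) * i⁻¹ by group, hae]
                group
              rw [show j * (z * x) * j⁻¹ = (j * z * j⁻¹) * (j * x * j⁻¹) by group, hjz, hae,
                show i * a * i⁻¹ * z⁻¹ * (a * x⁻¹) * (z * x) =
                  (i * a * i⁻¹) * (z⁻¹ * a * z⁻¹⁻¹) * (z⁻¹ * x⁻¹ * z⁻¹⁻¹ * x⁻¹⁻¹) by group]
              refine mul_mem (mul_mem (hIA' i hi a ha) (hFA' _ (inv_mem hzF) a ha)) ?_
              have h3 := inv_mem (hx.2.2 _ (inv_mem hzF))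
              have h4 := hFA' _ (inv_mem hxF) _ h3
              convert h4 using 1
              group
    haveI := Fintype.ofFinite I
    obtain ⟨x, hx, hxI⟩ := key ((Finset.univ : Finset I).image (fun i : I => (i : S)))
      (fun i hi => by obtain ⟨j, -, rfl⟩ := Finset.mem_image.1 hi; exact j.2)
    set B := A ⊔ zpowers x with hB
    have hxB : x ∈ B := mem_sup_right (mem_zpowers x)
    have hnorm : ∀ g, (∀ a ∈ A, g * a * g⁻¹ ∈ A) → g * x * g⁻¹ ∈ B → g ∈ normalizer (B : Set S) := by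
      intro g h1 h2
      refine mem_normalizer_of_conj fun u hu => ?_
      have hle : B.map (MulAut.conj g).toMonoidHom ≤ B := by
        rw [hB, Subgroup.map_sup, MonoidHom.map_zpowers]
        exact sup_le (by rintro _ ⟨a, ha, rfl⟩; exact mem_sup_left (h1 a ha)) (zpowers_le.2 h2)
      exact hle ⟨u, hu, rfl⟩
    have hBle : B ≤ A := hA.le_of_ge ⟨sup_le hAF (zpowers_le.2 hx.1.1), ?_, ?_, ?_⟩ le_sup_left
    · exact hx.2.1 (hBle hxB)
    · have h1 : B ≤ centralizer (A : Set S) := sup_le (fun a ha => mem_centralizer_iff.2 fun b hb => hAc b hb a ha)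
        (zpowers_le.2 hx.1.2)
      have h2 : B ≤ centralizer ({x} : Set S) := sup_le
        (fun a ha => mem_centralizer_singleton_iff.2 (mem_centralizer_iff.1 hx.1.2 a ha))
        (zpowers_le.2 (mem_centralizer_singleton_iff.2 rfl))
      have h3 : B ≤ centralizer (B : Set S) := by
        rw [le_centralizer_iff, hB]
        refine sup_le (fun a ha => mem_centralizer_iff.2 fun b hb => ?_) (zpowers_le.2 (mem_centralizer_iff.2 fun b hb => ?_))
        · exact (mem_centralizer_iff.1 (h1 hb) a ha).symm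
        · exact mem_centralizer_singleton_iff.1 (h2 hb)
      exact fun a ha b hb => (mem_centralizer_iff.1 (h3 ha) b hb).symm
    · exact fun f hf => hnorm f (hFA' f hf) (by
        rw [show f * x * f⁻¹ = (f * x * f⁻¹ * x⁻¹) * x by group]
        exact mul_mem (mem_sup_left (hx.2.2 f hf)) hxB)
    · intro i hi
      refine hnorm i (hIA' i hi) ?_
      rcases hxI i (Finset.mem_image.2 ⟨⟨i, hi⟩, Finset.mem_univ _, rfl⟩) with h | h
      · rw [show i * x * i⁻¹ = (i * x * i⁻¹ * x⁻¹) * x by group]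
        exact mul_mem (mem_sup_left h) hxB
      · rw [show i * x * i⁻¹ = (i * x * i⁻¹ * x) * x⁻¹ by group]
        exact mul_mem (mem_sup_left h) (inv_mem hxB)
  refine ⟨A, hAF, hAc, hIA, eq_bot_iff.2 ?_⟩
  rintro i ⟨hi, hiA⟩
  replace hi : i ∈ I := hi
  have hiC : ∀ a ∈ A, a * i = i * a := mem_centralizer_iff.1 hiA
  have hsq1 : ∀ g ∈ F, g * g = 1 → g = 1 := by
    intro g hg hgg
    have h1 : orderOf (⟨g, hg⟩ : F) ∣ 2 := orderOf_dvd_of_pow_eq_one (Subtype.ext (by
      rw [SubmonoidClass.coe_pow, pow_two]; exact hgg))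
    have h2 := Nat.dvd_gcd h1 (orderOf_dvd_natCard (⟨g, hg⟩ : F))
    rw [Nat.Coprime.gcd_eq_one (Nat.coprime_two_left.2 hodd), Nat.dvd_one] at h2
    exact congrArg Subtype.val (orderOf_eq_one_iff.1 h2)
  have hiF : i ∈ centralizer (F : Set S) := by
    refine mem_centralizer_iff.2 fun f hf => ?_
    replace hf : f ∈ F := hf
    set g := i * f * i⁻¹ * f⁻¹ with hg
    have hgA : g ∈ A := by
      refine hCA ⟨(show g ∈ F from mul_mem (hFn.conj_mem f hf i) (inv_mem hf)), mem_centralizer_iff.2 fun a ha => ?_⟩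
      have h1 := hiC a ha
      have h2 := hiC (f⁻¹ * a * f⁻¹⁻¹) (hFA' f⁻¹ (inv_mem hf) a ha)
      calc a * g = (a * i) * f * i⁻¹ * f⁻¹ := by rw [hg]; group
        _ = i * a * f * i⁻¹ * f⁻¹ := by rw [h1]
        _ = i * f * ((f⁻¹ * a * f⁻¹⁻¹) * i) * (i⁻¹ * i⁻¹) * f⁻¹ := by group
        _ = i * f * (i * (f⁻¹ * a * f⁻¹⁻¹)) * (i⁻¹ * i⁻¹) * f⁻¹ := by rw [h2]
        _ = g * a := by rw [hg, hIinv i hi, hII i hi]; group
          
    have h3 : i * g * i⁻¹ = g := by rw [← hiC g hgA, mul_inv_cancel_right]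
    have h4 : g * g = 1 := by
      calc g * g = (i * g * i⁻¹) * g := by rw [h3]
        _ = (i * i) * f * (i * i)⁻¹ * f⁻¹ := by rw [hg]; group
        _ = 1 := by rw [hII i hi]; group
    have h5 := hsq1 g (hAF hgA) h4
    rw [hg, mul_inv_eq_one, mul_inv_eq_iff_eq_mul] at h5
    exact h5.symm
  have hiF' : i ∈ F := by
    rw [hFe] at hiF ⊢
    exact CfsgLib.Coprime.centralizer_fitting_le hiF
  exact mem_bot.2 (hsq1 i hiF' (hII i hi))

/-- Let S be a finite solvable group whose Fitting subgroup F(S) has odd order, and let I be an elementary abelian 2-subgroup of S of order 2ⁿ with n ≥ 1. Then F(S) contains subgroups A₁, …, Aₙ of prime order, each normalized by I, pairwise commuting and generating a subgroup A of order |A₁|⋯|Aₙ| (their internal direct product), such that no non-identity element of I centralizes A. -/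
theorem result {S : Type*} [Group S] [Finite S]
    [Group.IsSolvable S] (hF : Odd (Nat.card ↥(Cfsg.fittingSubgroup S)))
    (I : Subgroup S) (hI : Cfsg.IsElementaryAbelian 2 I) (n : ℕ) (hn : 1 ≤ n) (hIn : Nat.card ↥I = 2 ^ n) :
    ∃ f : Fin n → Subgroup S, (∀ i, (Nat.card ↥(f i)).Prime) ∧ (∀ i, f i ≤ Cfsg.fittingSubgroup S) ∧
      (∀ i, I ≤ Subgroup.normalizer ((f i) : Set S)) ∧ (∀ i j, i ≠ j → ∀ a ∈ f i, ∀ b ∈ f j, a * b = b * a) ∧
      Nat.card ↥(⨆ i, f i) = ∏ i, Nat.card ↥(f i) ∧ I ⊓ Subgroup.centralizer ((⨆ i, f i : Subgroup S) : Set S) = ⊥ := by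
  classical
  obtain ⟨A, hAF, hAc, hIA, hfaith⟩ := exists_abelian_faithful _ rfl hF I hI
  have hII : ∀ i ∈ I, i * i = 1 := fun i hi => by rw [← pow_two]; exact hI.2 i hi
  have hIc : ∀ i ∈ I, ∀ j ∈ I, i * j = j * i := fun i hi j hj =>
    congrArg Subtype.val (hI.1.is_comm.comm (⟨i, hi⟩ : I) ⟨j, hj⟩)
  have hsq1 : ∀ g ∈ A, g * g = 1 → g = 1 := by
    intro g hg hgg
    have h1 : orderOf (⟨g, hAF hg⟩ : Cfsg.fittingSubgroup S) ∣ 2 := orderOf_dvd_of_pow_eq_one (Subtype.ext (by
      rw [SubmonoidClass.coe_pow, pow_two]; exact hgg))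
    have h2 := Nat.dvd_gcd h1 (orderOf_dvd_natCard (⟨g, hAF hg⟩ : Cfsg.fittingSubgroup S))
    rw [Nat.Coprime.gcd_eq_one (Nat.coprime_two_left.2 hF), Nat.dvd_one] at h2
    exact congrArg Subtype.val (orderOf_eq_one_iff.1 h2)
  have main : ∀ m, m ≤ n → ∃ f : Fin m → Subgroup S, (∀ i, (Nat.card ↥(f i)).Prime) ∧ (∀ i, f i ≤ A) ∧
      (∀ i, I ≤ normalizer ((f i) : Set S)) ∧ Nat.card ↥(⨆ i, f i) = ∏ i, Nat.card ↥(f i) ∧
      Nat.card ↥(I ⊓ centralizer ((⨆ i, f i : Subgroup S) : Set S)) = 2 ^ (n - m) := by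
    intro m
    induction m with
    | zero =>
      refine fun _ => ⟨Fin.elim0, fun i => i.elim0, fun i => i.elim0, fun i => i.elim0, ?_, ?_⟩
      · rw [iSup_of_empty, Subgroup.card_bot]; simp
      · rw [iSup_of_empty, inf_eq_left.2 (fun i _ => mem_centralizer_iff.2 fun u hu => by
          rw [mem_bot.1 hu, one_mul, mul_one]), Nat.sub_zero, hIn]
    | succ m ih =>
      intro hm
      obtain ⟨f, hfp, hfA, hfI, hfc, hK⟩ := ih (by omega)
      set Sg := ⨆ i, f i with hSg
      set K := I ⊓ centralizer (Sg : Set S) with hKdef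
      have hSgA : Sg ≤ A := iSup_le hfA
      obtain ⟨j, hjK, hj1⟩ : ∃ j ∈ K, j ≠ 1 := by
        by_contra! h
        have h1 : K = ⊥ := eq_bot_iff.2 fun u hu => mem_bot.2 (h u hu)
        rw [h1, Subgroup.card_bot] at hK
        exact (Nat.one_lt_pow (by omega : n - m ≠ 0) one_lt_two).ne hK
      have hjI : j ∈ I := hjK.1
      obtain ⟨a, ha, haj⟩ : ∃ a ∈ A, a * j ≠ j * a := by
        by_contra! h
        exact hj1 (mem_bot.1 (hfaith.le ⟨hjI, mem_centralizer_iff.2 h⟩))
      have hconjA : ∀ i ∈ I, ∀ u ∈ A, i * u * i⁻¹ ∈ A := fun i hi u hu => (mem_normalizer_iff.1 (hIA hi) u).1 hu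
      have hiinv : ∀ i ∈ I, i⁻¹ = i := fun i hi => inv_eq_of_mul_eq_one_left (hII i hi)
      have key : ∀ s : Finset S, (∀ i ∈ s, i ∈ I) → ∃ b ∈ A, b ≠ 1 ∧ j * b * j⁻¹ = b⁻¹ ∧
          ∀ i ∈ s, i * b * i⁻¹ = b ∨ i * b * i⁻¹ = b⁻¹ := by
        intro s
        induction s using Finset.induction with
        | empty =>
          refine fun _ => ⟨a⁻¹ * (j * a * j⁻¹), mul_mem (inv_mem ha) (hconjA j hjI a ha), fun h => haj ?_, ?_,
            fun i hi => absurd hi (Finset.notMem_empty i)⟩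
          · have h2 : j * a * j⁻¹ = a := (inv_mul_eq_one.1 h).symm
            exact (mul_inv_eq_iff_eq_mul.1 h2).symm
          · rw [hiinv j hjI]
            calc j * (a⁻¹ * (j * a * j)) * j = j * a⁻¹ * j * a * (j * j) := by group
              _ = j⁻¹ * a⁻¹ * j⁻¹ * a := by rw [hII j hjI, mul_one, hiinv j hjI]
              _ = (a⁻¹ * (j * a * j))⁻¹ := by group
        | insert i s _ ih =>
          intro hs
          obtain ⟨b, hbA, hb1, hbj, hbs⟩ := ih fun k hk => hs k (Finset.mem_insert_of_mem hk)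
          have hi := hs i (Finset.mem_insert_self i s)
          by_cases hib : i * b * i⁻¹ = b⁻¹
          · exact ⟨b, hbA, hb1, hbj, fun k hk => (Finset.mem_insert.1 hk).elim (fun e => Or.inr (e ▸ hib)) (hbs k)⟩
          obtain ⟨c, hc⟩ : ∃ c, c = i * b * i⁻¹ := ⟨_, rfl⟩
          have hcA : c ∈ A := hc ▸ hconjA i hi b hbA
          have hconjc : ∀ k ∈ I, k * c * k⁻¹ = i * (k * b * k⁻¹) * i⁻¹ := fun k hk => by
            rw [hc, show k * (i * b * i⁻¹) * k⁻¹ = (k * i) * b * (k * i)⁻¹ by group, hIc k hk i hi]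
            group
          refine ⟨c * b, mul_mem hcA hbA, fun h => hib (hc ▸ eq_inv_of_mul_eq_one_left h), ?_, fun k hk => ?_⟩
          · rw [show j * (c * b) * j⁻¹ = (j * c * j⁻¹) * (j * b * j⁻¹) by group, hconjc j hjI, hbj,
              show i * b⁻¹ * i⁻¹ = c⁻¹ by rw [hc]; group, mul_inv_rev, hAc _ (inv_mem hcA) _ (inv_mem hbA)]
          · rcases Finset.mem_insert.1 hk with rfl | hk
            · left
              have hkc : k * c * k⁻¹ = b := by
                rw [hc, hiinv k hi, show k * (k * b * k) * k = (k * k) * b * (k * k) by group, hII k hi, one_mul, mul_one]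
              rw [show k * (c * b) * k⁻¹ = (k * c * k⁻¹) * (k * b * k⁻¹) by group, hkc, ← hc]
              exact hAc _ hbA _ hcA
            · have hkI := hs k (Finset.mem_insert_of_mem hk)
              rcases hbs k hk with h | h
              · left
                rw [show k * (c * b) * k⁻¹ = (k * c * k⁻¹) * (k * b * k⁻¹) by group, hconjc k hkI, h, ← hc]
              · right
                rw [show k * (c * b) * k⁻¹ = (k * c * k⁻¹) * (k * b * k⁻¹) by group, hconjc k hkI, h,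
                  show i * b⁻¹ * i⁻¹ = c⁻¹ by rw [hc]; group, mul_inv_rev, hAc _ (inv_mem hcA) _ (inv_mem hbA)]
      haveI := Fintype.ofFinite I
      obtain ⟨b, hbA, hb1, hbj, hbI⟩ := key ((Finset.univ : Finset I).image (fun i : I => (i : S)))
        (fun i hi => by obtain ⟨k, -, rfl⟩ := Finset.mem_image.1 hi; exact k.2)
      obtain ⟨q, hq, k, hk⟩ : ∃ q, q.Prime ∧ ∃ k, orderOf b = q * k := by
        obtain ⟨q, hq, k, hk⟩ := Nat.exists_prime_and_dvd (fun h => hb1 (orderOf_eq_one_iff.1 h) : orderOf b ≠ 1)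
        exact ⟨q, hq, k, hk⟩
      haveI := Fact.mk hq
      obtain ⟨c, hcdef⟩ : ∃ c, c = b ^ k := ⟨_, rfl⟩
      have hco : orderOf c = q := by
        refine orderOf_eq_prime (by rw [hcdef, ← pow_mul, mul_comm, ← hk, pow_orderOf_eq_one]) fun h => ?_
        rw [hcdef] at h
        have h1 := Nat.le_of_dvd (Nat.pos_of_ne_zero fun h0 => by
          rw [h0, mul_zero] at hk; exact (orderOf_pos b).ne' hk) (orderOf_dvd_of_pow_eq_one h)
        rw [hk] at h1
        have h2 : 0 < k := Nat.pos_of_ne_zero fun h0 => by rw [h0, mul_zero] at hk; exact (orderOf_pos b).ne' hk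
        nlinarith [hq.two_le]
      have hcA : c ∈ A := hcdef ▸ pow_mem hbA k
      have hcj : j * c * j⁻¹ = c⁻¹ := by
        rw [hcdef, ← conj_pow, hbj, inv_pow]
      have hcI : ∀ i ∈ I, i * c * i⁻¹ = c ∨ i * c * i⁻¹ = c⁻¹ := fun i hi => by
        rcases hbI i (Finset.mem_image.2 ⟨⟨i, hi⟩, Finset.mem_univ _, rfl⟩) with h | h
        · exact Or.inl (by rw [hcdef, ← conj_pow, h])
        · exact Or.inr (by rw [hcdef, ← conj_pow, h, inv_pow])
      have hc1 : c ≠ 1 := fun h => hq.ne_one (hco.symm.trans (orderOf_eq_one_iff.2 h))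
      have hsup : (⨆ i, Fin.snoc (α := fun _ => Subgroup S) f (zpowers c) i) = Sg ⊔ zpowers c := by
        refine le_antisymm (iSup_le fun i => ?_) (sup_le (iSup_le fun i => ?_) ?_)
        · refine Fin.lastCases ?_ (fun i => ?_) i
          · rw [Fin.snoc_last]; exact le_sup_right
          · rw [Fin.snoc_castSucc]; exact le_sup_of_le_left (le_iSup f i)
        · exact le_trans (le_of_eq (Fin.snoc_castSucc (α := fun _ => Subgroup S) (zpowers c) f i).symm) (le_iSup _ i.castSucc)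
        · exact le_trans (le_of_eq (Fin.snoc_last (α := fun _ => Subgroup S) (zpowers c) f).symm) (le_iSup _ (Fin.last m))
      refine ⟨Fin.snoc f (zpowers c), fun i => ?_, fun i => ?_, fun i => ?_, ?_, ?_⟩
      · refine Fin.lastCases ?_ (fun i => ?_) i
        · rw [Fin.snoc_last, Nat.card_zpowers, hco]; exact hq
        · rw [Fin.snoc_castSucc]; exact hfp i
      · refine Fin.lastCases ?_ (fun i => ?_) i
        · rw [Fin.snoc_last]; exact zpowers_le.2 hcA
        · rw [Fin.snoc_castSucc]; exact hfA i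
      · refine Fin.lastCases ?_ (fun i => ?_) i
        · rw [Fin.snoc_last]
          intro i hi
          refine mem_normalizer_of_conj fun u hu => ?_
          obtain ⟨z, rfl⟩ := mem_zpowers_iff.1 hu
          rw [← conj_zpow]
          rcases hcI i hi with h | h <;> rw [h]
          exacts [zpow_mem (mem_zpowers c) z, zpow_mem (inv_mem (mem_zpowers c)) z]
        · rw [Fin.snoc_castSucc]; exact hfI i
      · rw [hsup, Fin.prod_univ_castSucc]
        simp only [Fin.snoc_castSucc, Fin.snoc_last]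
        rw [← hfc]
        have hle : zpowers c ≤ normalizer (Sg : Set S) := fun u hu => mem_normalizer_of_conj fun v hv => by
          rw [hAc u (zpowers_le.2 hcA hu) v (hSgA hv), mul_inv_cancel_right]; exact hv
        have h1 := CfsgLib.EABasic.card_sup_mul_card_inf_of_le_normalizer hle
        have h2 : zpowers c ⊓ Sg = ⊥ := by
          rw [eq_bot_iff]
          rintro u ⟨hu, huSg⟩
          refine mem_bot.2 (hsq1 u (hSgA huSg) ?_)
          obtain ⟨z, rfl⟩ := mem_zpowers_iff.1 hu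
          have h3 := mem_centralizer_iff.1 hjK.2 _ huSg
          have h4 : j * c ^ z * j⁻¹ = (c ^ z)⁻¹ := by rw [← conj_zpow, hcj, inv_zpow]
          rw [← h3, mul_inv_cancel_right] at h4
          nth_rewrite 1 [h4]
          exact inv_mul_cancel _
        rw [h2, Subgroup.card_bot, mul_one, sup_comm] at h1
        rw [h1, mul_comm]
      · rw [hsup]
        set K' := I ⊓ centralizer ((Sg ⊔ zpowers c : Subgroup S) : Set S)
        have hmem : ∀ u, u ∈ K' ↔ u ∈ K ∧ u * c * u⁻¹ = c := by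
          intro u
          constructor
          · rintro ⟨h1, h2⟩
            refine ⟨⟨h1, mem_centralizer_iff.2 fun v hv => mem_centralizer_iff.1 h2 v (mem_sup_left hv)⟩, ?_⟩
            rw [← mem_centralizer_iff.1 h2 c (mem_sup_right (mem_zpowers c)), mul_inv_cancel_right]
          · rintro ⟨⟨h1, h2⟩, h3⟩
            refine ⟨h1, ?_⟩
            have h4 : Sg ⊔ zpowers c ≤ centralizer ({u} : Set S) := sup_le
              (fun v hv => mem_centralizer_singleton_iff.2 (mem_centralizer_iff.1 h2 v hv))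
              (zpowers_le.2 (mem_centralizer_singleton_iff.2 (mul_inv_eq_iff_eq_mul.1 h3).symm))
            exact mem_centralizer_iff.2 fun v hv => mem_centralizer_singleton_iff.1 (h4 hv)
        have hle : K' ≤ K := fun u hu => ((hmem u).1 hu).1
        have hcc : c ≠ c⁻¹ := fun h => hc1 (hsq1 c hcA (by nth_rewrite 2 [h]; exact mul_inv_cancel c))
        have hidx : (K'.subgroupOf K).index = 2 := by
          refine index_eq_two_iff.2 ⟨⟨j, hjK⟩, fun u => ?_⟩
          rw [mem_subgroupOf, mem_subgroupOf, hmem, hmem]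
          have hu : (u : S) * c * (u : S)⁻¹ = c ∨ (u : S) * c * (u : S)⁻¹ = c⁻¹ := hcI u u.2.1
          have hprod : ((u : S) * j) * c * ((u : S) * j)⁻¹ = ((u : S) * c * (u : S)⁻¹)⁻¹ := by
            rw [show ((u : S) * j) * c * ((u : S) * j)⁻¹ = u * (j * c * j⁻¹) * (u : S)⁻¹ by group, hcj]; group
          rcases hu with h | h
          · exact Or.inr ⟨⟨u.2, h⟩, fun h' => hcc (by
              have h6 : ((u : S) * j) * c * ((u : S) * j)⁻¹ = c := h'.2
              rw [hprod, h] at h6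
              exact h6.symm)⟩
          · exact Or.inl ⟨⟨mul_mem u.2 hjK, show ((u : S) * j) * c * ((u : S) * j)⁻¹ = c by rw [hprod, h, inv_inv]⟩,
              fun h' => hcc (h'.2.symm.trans h)⟩
        have h1 := (K'.subgroupOf K).card_mul_index
        rw [hidx, Nat.card_congr (subgroupOfEquivOfLe hle).toEquiv, hK, show n - m = n - (m + 1) + 1 by omega, pow_succ] at h1
        omega
  obtain ⟨f, hfp, hfA, hfI, hfc, hK⟩ := main n le_rfl
  refine ⟨f, hfp, fun i => (hfA i).trans hAF, hfI, fun i j _ a ha b hb => hAc a (hfA i ha) b (hfA j hb), hfc, ?_⟩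
  rw [Nat.sub_self, pow_zero] at hK
  exact Subgroup.card_eq_one.1 hK

end Cfsg.Agent.S4408
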