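import Cfsg.Statements.S1349
import Cfsg.Agent.S4408
import Cfsg.Agent.Lib.PGroup.QBaer
import Cfsg.Agent.Lib.PGroup.ShortTools
import Cfsg.Agent.Lib.Invol.Basic
import Cfsg.Agent.Lib.PGroup.Measure
import Mathlib

set_option autoImplicit false
open Cfsg
open scoped Pointwise

namespace Cfsg.Agent.S1349

open Subgroup

/-- An involution normalizing a subgroup of prime order inverts or centralizes it. -/
theorem invert_or_commute {G : Type*} [Group G] [Finite G] {P : Subgroup G} (hP : (Nat.card P).Prime) {a l : G}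
    (ha : a * a = 1) (hn : a ∈ normalizer (P : Set G)) (hl : l ∈ P) :
    a * l = l * a ∨ a * l * a⁻¹ = l⁻¹ := by
  haveI := Fact.mk hP
  by_cases hl1 : l = 1
  · left; subst hl1; simp
  have hgen : zpowers l = P := Subgroup.eq_of_le_of_card_ge (zpowers_le.2 hl) (by
    rw [Nat.card_zpowers]
    rcases (Nat.dvd_prime hP).1 (orderOf_dvd_natCard (⟨l, hl⟩ : P)) with h | h
    · exact absurd (congrArg Subtype.val (orderOf_eq_one_iff.1 h)) hl1
    · rw [orderOf_mk] at h; exact h.ge)
  have hmem : a * l * a⁻¹ ∈ zpowers l := by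
    rw [hgen]; exact (mem_normalizer_iff.1 hn l).1 hl
  obtain ⟨k, hk⟩ := mem_zpowers_iff.1 hmem
  have hord : orderOf l = Nat.card P := by rw [← Nat.card_zpowers, hgen]
  have hkk : l ^ (k * k) = l ^ (1 : ℤ) := by
    rw [zpow_mul, hk, conj_zpow, hk, zpow_one]
    calc a * (a * l * a⁻¹) * a⁻¹ = (a * a) * l * (a * a)⁻¹ := by group
      _ = l := by rw [ha]; group
  rw [zpow_eq_zpow_iff_modEq, hord, Int.modEq_iff_dvd] at hkk
  have h2 : ((Nat.card P : ℕ) : ℤ) ∣ (1 - k) * (1 + k) := by
    rwa [show (1 - k) * (1 + k) = 1 - k * k by ring]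
  rcases (Nat.prime_iff_prime_int.1 hP).dvd_or_dvd h2 with h | h
  · left
    have e : l ^ k = l ^ (1 : ℤ) := by
      rw [zpow_eq_zpow_iff_modEq, hord, Int.modEq_iff_dvd]; exact h
    rw [zpow_one] at e
    rw [← mul_inv_eq_iff_eq_mul, ← hk, e]
  · right
    have e : l ^ k = l ^ (-1 : ℤ) := by
      rw [zpow_eq_zpow_iff_modEq, hord, Int.modEq_iff_dvd,
        show (-1 : ℤ) - k = -(1 + k) by ring, dvd_neg]; exact h
    rw [← hk, e, zpow_neg_one]

/-- Let G be finite, L ≤ G solvable of odd order, and A an elementary abelian 2-subgroup of order 2^d (d ≥ 1) normalizing L with C_A(L) = 1. Then there are subgroups A_1, …, A_d of A of order 2 generating A and subgroups L_1, …, L_d of L such that each A_i ⊔ L_i is dihedral of order 2 n_i with n_i odd and at least 3, and A_i ⊔ L_i commutes elementwise with A_j ⊔ L_j for i ≠ j. -/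
theorem result {G : Type*} [Group G] [Finite G] (L A : Subgroup G) (hLs : Group.IsSolvable ↥L) (hLodd : Odd (Nat.card ↥L)) (hA : Cfsg.IsElementaryAbelian 2 A) (d : ℕ) (hd : 1 ≤ d) (hAd : Nat.card ↥A = 2 ^ d) (hAL : A ≤ Subgroup.normalizer (L : Set G)) (hfaith : A ⊓ Subgroup.centralizer (L : Set G) = ⊥) : ∃ (Ai : Fin d → Subgroup G) (Li : Fin d → Subgroup G) (n : Fin d → ℕ), (∀ i, Ai i ≤ A ∧ Nat.card ↥(Ai i) = 2 ∧ Li i ≤ L ∧ Odd (n i) ∧ 3 ≤ n i ∧ Nonempty (↥(Ai i ⊔ Li i) ≃* DihedralGroup (n i))) ∧ (⨆ i, Ai i) = A ∧ ∀ i j, i ≠ j → ∀ x ∈ Ai i ⊔ Li i, ∀ y ∈ Ai j ⊔ Li j, x * y = y * x := by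
  classical
  have hp2 : Fact (Nat.Prime 2) := ⟨Nat.prime_two⟩
  obtain ⟨hAc, hexp⟩ := hA
  set S := A ⊔ L with hS
  have hSL : S ≤ normalizer (L : Set G) := sup_le hAL le_normalizer
  set L' := L.subgroupOf S with hL'
  set A' := A.subgroupOf S with hA'
  haveI : L'.Normal := (normal_subgroupOf_iff_le_normalizer le_sup_right).2 hSL
  have hAL' : A' ⊔ L' = ⊤ := by
    rw [hA', hL', ← subgroupOf_sup le_sup_left le_sup_right, subgroupOf_self]
  have hLodd' : Odd (Nat.card L') := by
    rwa [Nat.card_congr (subgroupOfEquivOfLe le_sup_right).toEquiv]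
  have hA'card : Nat.card A' = 2 ^ d := by
    rw [Nat.card_congr (subgroupOfEquivOfLe le_sup_left).toEquiv, hAd]
  have hA'e : Cfsg.IsElementaryAbelian 2 A' := ⟨⟨⟨fun a b => Subtype.ext (Subtype.ext
    (congrArg Subtype.val (hAc.is_comm.comm ⟨((a : S) : G), a.2⟩ ⟨((b : S) : G), b.2⟩) :))⟩⟩,
    fun a ha => Subtype.ext (hexp a ha)⟩
  -- the quotient is generated by the image of `A`
  have hquot : ∀ x : S, ∃ a ∈ A', x⁻¹ * a ∈ L' := by
    intro x
    have hx : x ∈ A' ⊔ L' := by rw [hAL']; trivial
    obtain ⟨a, ha, l, hl, rfl⟩ := Subgroup.mem_sup_of_normal_right.1 hx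
    exact ⟨a, ha, by rw [mul_inv_rev, mul_assoc, inv_mul_cancel, mul_one]; exact inv_mem hl⟩
  have hsq : ∀ x : S, x ^ 2 ∈ L' := by
    intro x
    obtain ⟨a, ha, hxa⟩ := hquot x
    rw [← QuotientGroup.eq_one_iff, QuotientGroup.mk_pow, QuotientGroup.eq.2 hxa, ← QuotientGroup.mk_pow,
      hA'e.2 a ha, QuotientGroup.mk_one]
  haveI : Group.IsSolvable S := by
    haveI : Group.IsSolvable L' := solvable_of_solvable_injective
      (f := (subgroupOfEquivOfLe (le_sup_right : L ≤ S)).toMonoidHom) (MulEquiv.injective _)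
    haveI : Group.IsSolvable (S ⧸ L') := by
      have h2 : IsPGroup 2 (S ⧸ L') := by
        intro y
        induction y using QuotientGroup.induction_on with
        | _ x => exact ⟨1, by rw [pow_one, ← QuotientGroup.mk_pow, QuotientGroup.eq_one_iff]; exact hsq x⟩
      haveI : Group.IsNilpotent (S ⧸ L') := h2.isNilpotent
      infer_instance
    exact solvable_of_ker_le_range L'.subtype (QuotientGroup.mk' L')
      (by rw [QuotientGroup.ker_mk', range_subtype])
  -- the Fitting subgroup has odd order and lies in `L`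
  have hFodd : ∀ x ∈ Cfsg.fittingSubgroup S, x ^ 2 = 1 → x = 1 := by
    intro x hx hx2
    have hmem : x ∈ Cfsg.pCore 2 S := CfsgLib.PGroup.QBaer.mem_pCore_of_mem_fitting (k := 1) (by simpa using hx2) hx
    set P := Cfsg.pCore 2 S
    have hPp : IsPGroup 2 P := CfsgLib.Coprime.pCore_isPGroup 2
    haveI : P.Normal := Subgroup.sSup_normal _ (fun N hN => hN.1)
    have hdisj : Disjoint P L' := by
      rw [disjoint_iff]
      obtain ⟨n, hn⟩ := IsPGroup.iff_card.1 hPp
      refine inf_eq_bot_of_coprime ?_
      rw [hn]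
      exact Nat.Coprime.pow_left _ (Nat.coprime_two_left.2 hLodd')
    have hPA : P ≤ A' := by
      have hA'p : IsPGroup 2 A' := IsPGroup.of_card hA'card
      have hsup : IsPGroup 2 ↥(A' ⊔ P) := hA'p.to_sup_of_normal_right hPp
      have h1 : Nat.card ↥(A' ⊔ P) ∣ 2 ^ d := by
        obtain ⟨n, hn⟩ := IsPGroup.iff_card.1 hsup
        rw [hn]
        have h2 : Nat.card S ∣ 2 ^ d * Nat.card L' := by
          have := CfsgLib.CDLat.card_prod_mul_card_inf A' L'
          have hset : ((A' : Set S) * (L' : Set S)) = Set.univ := by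
            rw [← Subgroup.mul_normal A' L', hAL', coe_top]
          rw [hset, Nat.card_univ, hA'card] at this
          exact ⟨_, this.symm⟩
        have h3 : 2 ^ n ∣ 2 ^ d * Nat.card L' := (hn ▸ card_subgroup_dvd_card _).trans h2
        exact (Nat.Coprime.pow_left _ (Nat.coprime_two_left.2 hLodd')).dvd_of_dvd_mul_right h3
      have h2 : A' = A' ⊔ P := Subgroup.eq_of_le_of_card_ge le_sup_left
        (hA'card.symm ▸ Nat.le_of_dvd (by positivity) h1)
      exact le_sup_right.trans h2.ge
    have hxA : (x : G) ∈ A ⊓ centralizer (L : Set G) := by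
      refine ⟨hPA hmem, mem_centralizer_iff.2 fun l hl => ?_⟩
      have := Subgroup.commute_of_normal_of_disjoint _ _ inferInstance inferInstance hdisj x ⟨l, mem_sup_right hl⟩ hmem hl
      exact (congrArg Subtype.val this.eq).symm
    rw [hfaith, mem_bot] at hxA
    exact Subtype.ext hxA
  have hF : Odd (Nat.card ↥(Cfsg.fittingSubgroup S)) := by
    rw [← Nat.not_even_iff_odd, even_iff_two_dvd]
    intro h
    obtain ⟨x, hx⟩ := exists_prime_orderOf_dvd_card' 2 h
    have e : (x : S) = 1 := hFodd x x.2 (congrArg Subtype.val (hx ▸ pow_orderOf_eq_one x))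
    have e' : x = 1 := Subtype.ext e
    rw [e', orderOf_one] at hx
    exact absurd hx (by decide)
  obtain ⟨f, hfp, hfF, hfn, hfc, -, hfA⟩ := Cfsg.Agent.S4408.result hF A' hA'e d hd hA'card
  have hfL : ∀ i, f i ≤ L' := by
    intro i x hx
    have hodd : Odd (orderOf x) := by
      refine hF.of_dvd_nat ?_
      have := orderOf_dvd_natCard (⟨x, hfF i hx⟩ : Cfsg.fittingSubgroup S)
      rwa [orderOf_mk] at this
    obtain ⟨k, hk⟩ := hodd
    have e : x = (x ^ 2) ^ (k + 1) := by
      rw [← pow_mul, show 2 * (k + 1) = orderOf x + 1 by omega, pow_succ, pow_orderOf_eq_one, one_mul]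
    rw [e]
    exact pow_mem (hsq x) _
  -- characters
  have hsq1 : ∀ a ∈ A', a * a = 1 := fun a ha => by rw [← sq]; exact hA'e.2 a ha
  have hcases : ∀ a ∈ A', ∀ i, a ∈ centralizer (f i : Set S) ∨ ∀ l ∈ f i, a * l * a⁻¹ = l⁻¹ := by
    intro a ha i
    by_cases hc : a ∈ centralizer (f i : Set S)
    · exact Or.inl hc
    · right
      intro l hl
      rcases invert_or_commute (hfp i) (hsq1 a ha) (hfn i ha) hl with h | h
      · by_cases hl1 : l = 1
        · subst hl1; simp
        exfalso
        apply hc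
        haveI := Fact.mk (hfp i)
        have hgen : zpowers l = f i := Subgroup.eq_of_le_of_card_ge (zpowers_le.2 hl) (by
          rw [Nat.card_zpowers]
          rcases (Nat.dvd_prime (hfp i)).1 (orderOf_dvd_natCard (⟨l, hl⟩ : f i)) with h' | h'
          · exact absurd (congrArg Subtype.val (orderOf_eq_one_iff.1 h')) hl1
          · rw [orderOf_mk] at h'; exact h'.ge)
        rw [← hgen, zpowers_eq_closure, centralizer_closure, mem_centralizer_singleton_iff]
        exact h
      · exact h
  let Φ : A' → (Fin d → Bool) := fun a i => decide ((a : S) ∈ centralizer (f i : Set S))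
  have hΦ : Function.Injective Φ := by
    intro a b e
    have hab : (a : S) * b ∈ A' ⊓ centralizer ((⨆ i, f i : Subgroup S) : Set S) := by
      refine ⟨mul_mem a.2 b.2, ?_⟩
      have hle : (⨆ i, f i) ≤ centralizer ({(a : S) * b} : Set S) := iSup_le fun i l hl => by
        rw [mem_centralizer_singleton_iff]
        have ei := congrFun e i
        simp only [Φ] at ei
        rcases hcases a a.2 i with ha | ha
        · have hb : (b : S) ∈ centralizer (f i : Set S) := of_decide_eq_true (ei ▸ decide_eq_true ha)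
          exact ((mem_centralizer_iff.1 (mul_mem ha hb)) l hl)
        · rcases hcases b b.2 i with hb | hb
          · have ha' : (a : S) ∈ centralizer (f i : Set S) := of_decide_eq_true (ei.symm ▸ decide_eq_true hb)
            exact ((mem_centralizer_iff.1 (mul_mem ha' hb)) l hl)
          · symm
            rw [← mul_inv_eq_iff_eq_mul, show (a : S) * b * l * ((a : S) * b)⁻¹ = a * (b * l * (b : S)⁻¹) * (a : S)⁻¹ by group,
              hb l hl, ha _ (inv_mem hl), inv_inv]
      exact mem_centralizer_iff.2 fun l hl => mem_centralizer_singleton_iff.1 (hle hl)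
    rw [hfA, mem_bot] at hab
    apply Subtype.ext
    calc (a : S) = a * (b * b) := by rw [hsq1 _ b.2, mul_one]
      _ = b := by rw [← mul_assoc, hab, one_mul]
  have hΦs : Function.Surjective Φ := by
    haveI : Fintype A' := Fintype.ofFinite _
    exact (hΦ.bijective_of_nat_card_le (by rw [Nat.card_fun, Nat.card_fin, Nat.card_eq_fintype_card (α := Bool), Fintype.card_bool, hA'card])).2
  choose e he using fun i : Fin d => hΦs (fun j => decide (j ≠ i))
  have he1 : ∀ i j, j ≠ i → (e i : S) ∈ centralizer (f j : Set S) := fun i j h =>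
    of_decide_eq_true ((congrFun (he i) j).trans (decide_eq_true h))
  have he2 : ∀ i, (e i : S) ∉ centralizer (f i : Set S) := fun i =>
    of_decide_eq_false ((congrFun (he i) i).trans (by simp))
  have heo : ∀ i, orderOf ((e i : S) : G) = 2 := fun i => by
    rw [orderOf_eq_prime_iff]
    refine ⟨hexp _ (e i).2, fun h => he2 i ?_⟩
    rw [show (e i : S) = 1 from Subtype.ext h]
    exact one_mem _
  have hne : ∀ i, f i ≠ ⊥ := fun i h => by
    have := hfp i; rw [h, Subgroup.card_bot] at this; exact Nat.not_prime_one this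
  choose l hl hl1 using fun i => (Subgroup.bot_or_exists_ne_one (f i)).resolve_left (hne i)
  have hgen : ∀ i, zpowers (l i) = f i := fun i => Subgroup.eq_of_le_of_card_ge (zpowers_le.2 (hl i)) (by
    rw [Nat.card_zpowers]
    haveI := Fact.mk (hfp i)
    rcases (Nat.dvd_prime (hfp i)).1 (orderOf_dvd_natCard (⟨l i, hl i⟩ : f i)) with h' | h'
    · exact absurd (congrArg Subtype.val (orderOf_eq_one_iff.1 h')) (hl1 i)
    · rw [orderOf_mk] at h'; exact h'.ge)
  refine ⟨fun i => zpowers ((e i : S) : G), fun i => (f i).map S.subtype, fun i => Nat.card (f i),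
    fun i => ⟨zpowers_le.2 (e i).2, by rw [Nat.card_zpowers, heo], ?_, ?_, ?_, ?_⟩, ?_, ?_⟩
  · rintro _ ⟨x, hx, rfl⟩
    exact hfL i hx
  · exact hF.of_dvd_nat (card_dvd_of_le (hfF i))
  · have h := hF.of_dvd_nat (card_dvd_of_le (hfF i))
    rcases (hfp i).eq_two_or_odd with h2 | h2
    · rw [h2] at h; exact absurd h (by decide)
    · show 3 ≤ Nat.card (f i)
      have := (hfp i).two_le; omega
  · set x : G := ((e i : S) : G)
    set y : G := x * (l i : G) with hy
    have hinv : x * (l i : G) * x⁻¹ = (l i : G)⁻¹ := by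
      have := ((hcases _ (e i).2 i).resolve_left (he2 i)) (l i) (hl i)
      exact congrArg Subtype.val this
    have hxx : x * x = 1 := CfsgLib.Invol.invol_mul_self (heo i)
    have hyo : orderOf y = 2 := by
      rw [orderOf_eq_prime_iff]
      refine ⟨?_, fun h => ?_⟩
      · rw [sq, hy, show x * (l i : G) * (x * (l i : G)) = (x * (l i : G) * x⁻¹) * (x * x) * (l i : G) by group, hinv, hxx]
        group
      · apply he2 i
        have hel : (e i : S) = (l i)⁻¹ := Subtype.ext (eq_inv_of_mul_eq_one_left h)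
        rw [hel, ← hgen i]
        exact inv_mem (mem_centralizer_iff.2 fun z hz => by
          obtain ⟨k, rfl⟩ := hz; exact ((Commute.refl (l i)).zpow_left k).eq)
    have hord : orderOf (x * y) = Nat.card (f i) := by
      rw [hy, ← mul_assoc, hxx, one_mul, orderOf_coe, ← Nat.card_zpowers, hgen]
    have hcl : Subgroup.closure ({x, y} : Set G) = zpowers x ⊔ (f i).map S.subtype := by
      rw [← hgen i, MonoidHom.map_zpowers, zpowers_eq_closure, zpowers_eq_closure, ← Subgroup.closure_union]
      refine le_antisymm ((closure_le _).2 ?_) ((closure_le _).2 ?_)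
      · rintro z (rfl | rfl)
        · exact subset_closure (Or.inl rfl)
        · exact mul_mem (subset_closure (Or.inl rfl)) (subset_closure (Or.inr rfl))
      · rintro z (rfl | rfl)
        · exact subset_closure (Or.inl rfl)
        · have : ((l i : S) : G) = x * y := by rw [hy, ← mul_assoc, hxx, one_mul]
          show ((l i : S) : G) ∈ _
          rw [this]
          exact mul_mem (subset_closure (Or.inl rfl)) (subset_closure (Or.inr rfl))
    exact ⟨(MulEquiv.subgroupCongr hcl).symm.trans
      ((CfsgLib.Invol.dihedralEquiv (heo i) hyo).trans (by rw [hord]))⟩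
  · refine le_antisymm (iSup_le fun i => zpowers_le.2 (e i).2) fun a ha => ?_
    set W := ⨆ i, zpowers ((e i : S) : G)
    suffices h : ∀ (T : Finset (Fin d)) (a : A'),
        (∀ i, i ∉ T → (a : S) ∈ centralizer (f i : Set S)) → ((a : S) : G) ∈ W by
      exact h Finset.univ ⟨⟨a, mem_sup_left ha⟩, ha⟩ (fun i hi => absurd (Finset.mem_univ i) hi)
    intro T
    induction T using Finset.induction with
    | empty =>
      intro a h
      have : a = (1 : A') := hΦ (funext fun i => by
        simp only [Φ]
        rw [decide_eq_true (h i (by simp)), decide_eq_true (by simp [one_mem])])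
      rw [this]; exact one_mem _
    | insert i T hi ih =>
      intro a h
      by_cases hc : (a : S) ∈ centralizer (f i : Set S)
      · refine ih a fun j hj => ?_
        by_cases hji : j = i
        · exact hji ▸ hc
        · exact h j (by simp [hji, hj])
      · have h' := ih (a * e i) fun j hj => by
          show (a : S) * (e i : S) ∈ _
          by_cases hji : j = i
          · subst hji
            refine mem_centralizer_iff.2 fun z hz => ?_
            symm
            rw [← mul_inv_eq_iff_eq_mul,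
              show (a : S) * (e j : S) * z * ((a : S) * (e j : S))⁻¹ = a * ((e j : S) * z * (e j : S)⁻¹) * (a : S)⁻¹ by group,
              ((hcases _ (e j).2 j).resolve_left (he2 j)) z hz,
              ((hcases _ a.2 j).resolve_left hc) _ (inv_mem hz), inv_inv]
          · exact mul_mem (h j (by simp [hji, hj])) (he1 i j hji)
        have e' : ((a : S) : G) = ((a : S) : G) * ((e i : S) : G) * ((e i : S) : G) := by
          rw [mul_assoc, CfsgLib.Invol.invol_mul_self (heo i), mul_one]
        rw [e']
        exact mul_mem h' (le_iSup (fun i => zpowers ((e i : S) : G)) i (mem_zpowers _))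
  · intro i j hij
    suffices h : ((f i).map S.subtype ⊔ zpowers ((e i : S) : G)) ≤
        centralizer (((f j).map S.subtype ⊔ zpowers ((e j : S) : G) : Subgroup G) : Set G) by
      intro x hx y hy
      rw [sup_comm] at hx hy
      exact ((mem_centralizer_iff.1 (h hx)) y hy).symm
    refine sup_le ?_ (zpowers_le.2 ?_) <;>
      rw [Subgroup.sup_eq_closure, centralizer_closure]
    · rintro _ ⟨x, hx, rfl⟩
      rw [mem_centralizer_iff]
      rintro z (⟨y, hy, rfl⟩ | ⟨k, rfl⟩)
      · exact congrArg Subtype.val (hfc j i hij.symm y hy x hx)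
      · have := mem_centralizer_iff.1 (zpow_mem (he1 j i hij) k) x hx
        simpa using (congrArg Subtype.val this).symm
    · rw [mem_centralizer_iff]
      rintro z (⟨y, hy, rfl⟩ | ⟨k, rfl⟩)
      · exact congrArg Subtype.val (mem_centralizer_iff.1 (he1 i j hij.symm) y hy)
      · exact (Commute.zpow_left (congrArg Subtype.val (hAc.is_comm.comm ⟨_, (e j).2⟩ ⟨_, (e i).2⟩) :
          Commute ((e j : S) : G) ((e i : S) : G)) k).eq

end Cfsg.Agent.S1349
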