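import Cfsg.Statements.S1350
import Cfsg.Agent.Lib.CFun.OddSigmaHall

set_option autoImplicit false
open Cfsg

namespace Cfsg.Agent.S1350

/-- Let G be a minimal simple group of odd order and M a maximal subgroup. Then M_σ (the largest normal σ(M)-subgroup of M) is a Hall σ(M)-subgroup of M and also of G, and every Hall σ(M)-subgroup of M that is normal in M equals M_σ. -/
theorem result {G : Type*} [Group G] [Finite G] (hG : Cfsg.IsMinSimpleOddOrder G)
    (M : Subgroup G) (hM : IsCoatom M) :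
    Cfsg.IsPiHallOf (Cfsg.sigma M) (Cfsg.sigmaCore M) M ∧ Cfsg.IsPiHall (Cfsg.sigma M) (Cfsg.sigmaCore M) ∧
      ∀ N : Subgroup G, M ≤ Subgroup.normalizer (N : Set G) → Cfsg.IsPiHallOf (Cfsg.sigma M) N M →
        N = Cfsg.sigmaCore M := by
  obtain ⟨h1, h2⟩ := CfsgLib.CFun.sigmaCore_hall hG hM
  refine ⟨h1, h2, fun N hN hNh => ?_⟩
  obtain ⟨hNM, hNπ, hNi⟩ := hNh
  haveI : (N.subgroupOf M).Normal := (Subgroup.normal_subgroupOf_iff_le_normalizer hNM).2 hN
  have hle : N ≤ Cfsg.sigmaCore M := by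
    rw [← Subgroup.map_subgroupOf_eq_of_le hNM]
    refine Subgroup.map_mono (CfsgLib.Coprime.le_piCore fun q hq hd => hNπ q hq ?_)
    rwa [Nat.card_congr (Subgroup.subgroupOfEquivOfLe hNM).toEquiv] at hd
  refine le_antisymm hle (Subgroup.relIndex_eq_one.1 ?_)
  by_contra hne
  obtain ⟨q, hq, hqd⟩ := Nat.exists_prime_and_dvd hne
  refine hNi q hq (h1.2.1 q hq (hqd.trans ?_)) (hqd.trans ?_)
  · exact (Subgroup.index_dvd_card _)
  · exact Dvd.intro _ (Subgroup.relIndex_mul_relIndex N (Cfsg.sigmaCore M) M hle h1.1)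
end Cfsg.Agent.S1350
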