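import Cfsg.Statements.S1351
import Cfsg.Agent.Lib.CFun.OddKappa

set_option autoImplicit false
open Cfsg

namespace Cfsg.Agent.S1351

open Subgroup
open CfsgLib.Coprime (conjBy IsHallIn)
open CfsgLib.CFun CfsgLib.CFun.TauTwo CfsgLib.CFun.Kappa


/-- Let G be a minimal simple group of odd order and M a maximal subgroup. Then M possesses a Hall κ(M)-subgroup, and every Hall κ(M)-subgroup of M is cyclic. -/
theorem result {G : Type*} [Group G] [Finite G] (hG : Cfsg.IsMinSimpleOddOrder G)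
    (M : Subgroup G) (hM : IsCoatom M) :
    (∃ K : Subgroup G, Cfsg.IsPiHallOf (Cfsg.kappa M) K M) ∧
      ∀ K : Subgroup G, Cfsg.IsPiHallOf (Cfsg.kappa M) K M → IsCyclic K := by
  obtain ⟨K, hKM, h1, h2⟩ := CfsgLib.Coprime.exists_hallIn (Cfsg.kappa M) (ms_solvable hG hM.1)
  exact ⟨⟨K, hKM, h1, fun p hp hpκ hd => h2 p hp hd hpκ⟩, fun K hK => hall_cyclic hG hM hK⟩

end Cfsg.Agent.S1351
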