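import Cfsg.Statements.S1358
import Cfsg.Agent.Lib.CFun.OddKappaDecomp
import Cfsg.Agent.Lib.CFun.OddTauTwoElement

set_option autoImplicit false
open Cfsg

namespace Cfsg.Agent.S1358

open Subgroup
open CfsgLib.Coprime (conjBy IsHallIn)
open CfsgLib.CFun CfsgLib.CFun.TauTwo CfsgLib.CFun.Kappa


/-- Let G be a minimal simple group of odd order and M a maximal subgroup with standard factorisation M = K U M_σ. Then for every prime p, every Sylow p-subgroup of U is abelian and has no elementary abelian subgroup of order p ^ 3. -/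
theorem result {G : Type*} [Group G] [Finite G] (hG : Cfsg.IsMinSimpleOddOrder G)
    (M : Subgroup G) (hM : IsCoatom M) (K U : Subgroup G) (hKU : Cfsg.IsSigmaDecomposition M K U) :
    ∀ (p : ℕ), p.Prime → ∀ P : Sylow p U, IsMulCommutative (P : Subgroup U) ∧ Cfsg.PRankLE p 2 (P : Subgroup U) := by
  intro p hp P
  haveI : Fact p.Prime := ⟨hp⟩
  set T := (P : Subgroup U).map U.subtype with hT
  have hTU : T ≤ U := map_subtype_le _
  have hTp : IsPGroup p T := P.isPGroup'.map U.subtype
  have hE := Decomp.compl hG hM hKU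
  refine ⟨?_, RankTwoTower.pRankLE_of_injective
    (f := (inclusion (le_sup_right : U ≤ K ⊔ U)).comp (P : Subgroup U).subtype)
    ((inclusion_injective (le_sup_right : U ≤ K ⊔ U)).comp (P : Subgroup U).subtype_injective)
    (Compl.compl_rank hG hM hE p hp)⟩
  by_cases hd : p ∣ Nat.card U
  · haveI := isMulCommutative_of_not_sigma hG hM (Decomp.primes hG hM hKU hp hd).1 hTp
      (hTU.trans hKU.compl.1)
    exact ⟨⟨fun a b => by
      have := (congrArg Subtype.val (mul_comm' (⟨_, mem_map_of_mem U.subtype a.2⟩ : T)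
        ⟨_, mem_map_of_mem U.subtype b.2⟩) :)
      exact Subtype.ext (Subtype.ext this)⟩⟩
  · have e : (P : Subgroup U) = ⊥ := eq_bot_of_not_dvd (G := U) P.isPGroup' fun h =>
      hd (h.trans (card_subgroup_dvd_card _))
    exact ⟨⟨fun a b => Subtype.ext (by
      rw [Subgroup.coe_mul, Subgroup.coe_mul, mem_bot.1 (e.le a.2), mem_bot.1 (e.le b.2)])⟩⟩

end Cfsg.Agent.S1358
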