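import Cfsg.Statements.S1372
import Cfsg.Agent.Lib.CFun.OddFittingTI

set_option autoImplicit false
open Cfsg

namespace Cfsg.Agent.S1372

/-- Let G be a minimal simple group of odd order and M a maximal subgroup with standard factorisation M = K U M_σ, K ≠ 1 and U ≠ 1. Then K has prime order, and the Fitting subgroup F(M) contains M_σ and is a TI-subset of G. -/
theorem result {G : Type*} [Group G] [Finite G] (hG : Cfsg.IsMinSimpleOddOrder G)
    (M : Subgroup G) (hM : IsCoatom M) (K U : Subgroup G) (hKU : Cfsg.IsSigmaDecomposition M K U) (hK1 : K ≠ ⊥) (hU1 : U ≠ ⊥) :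
    (Nat.card K).Prime ∧ Cfsg.IsTISubset (Cfsg.fittingOf M : Set G) ∧ Cfsg.sigmaCore M ≤ Cfsg.fittingOf M := by
  refine ⟨(CfsgLib.CFun.Partner.prime_of_U_ne_bot hG hM hKU hK1 hU1).1,
    CfsgLib.CFun.FitTI.ti_of_not_meet hG hM fun g x h =>
      CfsgLib.CFun.FitTI.false_of_U_ne_bot hG hM hKU h hK1 hU1, ?_⟩
  rw [← CfsgLib.CFun.Cosets.fittingHallOf_eq hG hM
    (CfsgLib.CFun.Partner.nilpotent_of_U_ne_bot hG hM hKU hU1).1]
  exact CfsgLib.CFun.Chain.fittingHallOf_le_fittingOf M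

end Cfsg.Agent.S1372
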