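import Cfsg.Statements.S1374
import Cfsg.Agent.Lib.CFun.OddSigmaTilde

set_option autoImplicit false
open Cfsg

namespace Cfsg.Agent.S1374

open Subgroup
open CfsgLib.Coprime (conjBy)
open CfsgLib.CFun CfsgLib.CFun.TauTwo CfsgLib.CFun.Cosets CfsgLib.CFun.Tilde

/-- Let G be a minimal simple group of odd order, M a maximal subgroup and x a non-identity element of M_σ. Then C_M(x) has order coprime to its index in C_G(x), and C_G(x) has a normal subgroup R complementing C_M(x) such that for every conjugate gMg⁻¹ containing x there is exactly one r ∈ R with rMr⁻¹ = gMg⁻¹. -/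
theorem result {G : Type*} [Group G] [Finite G] (hG : Cfsg.IsMinSimpleOddOrder G)
    (M : Subgroup G) (hM : IsCoatom M) (x : G) (hx : x ∈ Cfsg.sigmaCore M) (hx1 : x ≠ 1) :
    (Nat.card ↥(M ⊓ Subgroup.centralizer ({x} : Set G))).Coprime ((M ⊓ Subgroup.centralizer ({x} : Set G)).relIndex (Subgroup.centralizer ({x} : Set G))) ∧
      ∃ R : Subgroup G, Subgroup.centralizer ({x} : Set G) ≤ Subgroup.normalizer (R : Set G) ∧ Cfsg.IsComplIn (M ⊓ Subgroup.centralizer ({x} : Set G)) R (Subgroup.centralizer ({x} : Set G)) ∧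
        ∀ g : G, x ∈ M.map (MulAut.conj g).toMonoidHom → ∃! r : G, r ∈ R ∧ M.map (MulAut.conj r).toMonoidHom = M.map (MulAut.conj g).toMonoidHom := by
  obtain ⟨hC, hN, hcop⟩ := centralizer_split hG hM hx hx1
  refine ⟨?_, Cfsg.supportR M x, hN, hC, fun g hg => existsUnique_conj hG hM hx hx1 hg⟩
  set D := M ⊓ centralizer ({x} : Set G)
  set R := Cfsg.supportR M x
  refine Nat.coprime_of_dvd fun p hp h1 h2 => ?_
  have h3 : Nat.card D * D.relIndex (centralizer ({x} : Set G)) ∣ Nat.card D * Nat.card R := by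
    rw [CfsgLib.Coprime.card_mul_relIndex inf_le_right]
    refine (card_dvd_of_le ?_).trans (CfsgLib.Coprime.card_sup_dvd_of_le_normalizer
      (inf_le_right.trans hN))
    intro c hc
    obtain ⟨a, ha, b, hb, rfl⟩ := hC.2.2.2 c hc
    exact mul_mem (mem_sup_left ha) (mem_sup_right hb)
  exact hp.not_dvd_one ((Nat.dvd_gcd h1 (h2.trans
    (Nat.dvd_of_mul_dvd_mul_left Nat.card_pos h3))).trans (dvd_of_eq hcop))

end Cfsg.Agent.S1374
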