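import Cfsg.Statements.S1375
import Cfsg.Agent.Lib.CFun.OddSigmaTilde

set_option autoImplicit false
open Cfsg

namespace Cfsg.Agent.S1375

open Subgroup
open CfsgLib.Coprime (conjBy)
open CfsgLib.CFun CfsgLib.CFun.TauTwo CfsgLib.CFun.Cosets CfsgLib.CFun.Tilde

/-- Let G be a minimal simple group of odd order, M a maximal subgroup, x ≠ 1 in M_σ with C_G(x) not contained in M. Then exactly one maximal subgroup N contains C_G(x); for it N_σ = N_F, C_{N_σ}(x) is a normal subgroup of C_G(x) complementing C_M(x), M ∩ N is a complement to N_σ in N, and for every standard factorisation N = K' U' N_σ one has U' ≠ 1 and x ∈ A(N) with x ∉ N_σ. -/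
theorem result {G : Type*} [Group G] [Finite G] (hG : Cfsg.IsMinSimpleOddOrder G)
    (M : Subgroup G) (hM : IsCoatom M) (x : G) (hx : x ∈ Cfsg.sigmaCore M) (hx1 : x ≠ 1) (hxM : ¬ Subgroup.centralizer ({x} : Set G) ≤ M) :
    ∃ N : Subgroup G, (IsCoatom N ∧ Subgroup.centralizer ({x} : Set G) ≤ N) ∧ (∀ L : Subgroup G, IsCoatom L → Subgroup.centralizer ({x} : Set G) ≤ L → L = N) ∧
        Cfsg.sigmaCore N = Cfsg.fittingHallOf N ∧
        Subgroup.centralizer ({x} : Set G) ≤ Subgroup.normalizer ((Cfsg.sigmaCore N ⊓ Subgroup.centralizer ({x} : Set G) : Subgroup G) : Set G) ∧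
        Cfsg.IsComplIn (M ⊓ Subgroup.centralizer ({x} : Set G)) (Cfsg.sigmaCore N ⊓ Subgroup.centralizer ({x} : Set G)) (Subgroup.centralizer ({x} : Set G)) ∧
        Cfsg.IsComplIn (M ⊓ N) (Cfsg.sigmaCore N) N ∧
        ∀ K' U' : Subgroup G, Cfsg.IsSigmaDecomposition N K' U' → U' ≠ ⊥ ∧ x ∈ Cfsg.sigmaA N U' ∧ x ∉ Cfsg.sigmaCore N := by
  obtain ⟨N, hN, hxN, huniq, -, htau, hD, hnil⟩ := ElemCent.exists_data hG hM hx hx1 hxM
  have hxD : x ∈ M ⊓ N := mem_inf.2
    ⟨map_subtype_le _ hx, hxN (mem_centralizer_singleton_iff.2 rfl)⟩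
  have hsplit := ElemCent.centralizer_compl hG hD hxD hxN
  have e : M ⊓ N ⊓ centralizer ({x} : Set G) = M ⊓ centralizer ({x} : Set G) := by
    rw [inf_assoc, inf_eq_right.2 hxN]
  rw [e] at hsplit
  refine ⟨N, ⟨hN, hxN⟩, huniq, (fittingHallOf_eq hG hN hnil).symm,
    CfsgLib.Coprime.inf_le_normalizer (hxN.trans (sigmaCore_normal hG N)) le_normalizer,
    hsplit, hD, fun K' U' hKU => ?_⟩
  have hxσ : x ∉ Cfsg.sigmaCore N := fun h => by
    obtain ⟨p, hp, hpd⟩ := Nat.exists_prime_and_dvd fun e => hx1 (orderOf_eq_one_iff.1 e)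
    exact (htau p hp hpd).2.1 (sigma_of_mem hG hN h hp hpd)
  set V := U' ⊔ Cfsg.sigmaCore N with hV
  have hUN : U' ≤ N := hKU.compl.1
  have hKN : K' ≤ N := hKU.hall.1
  have hNV : N ≤ normalizer (V : Set G) := by
    intro n hn
    obtain ⟨u, hu, b, hb, rfl⟩ := hKU.compl.2.2.2 n hn
    refine mul_mem (le_normalizer (mem_sup_left hu)) ?_
    exact sup_le (CfsgLib.Coprime.sup_le_normalizer hKU.normal (hKN.trans (sigmaCore_normal hG N)))
      (le_sup_right.trans le_normalizer) hb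
  have hVN : V ≤ N := sup_le hUN (map_subtype_le _)
  have hxV : x ∈ V := by
    haveI : (V.subgroupOf N).Normal := normal_subgroupOf_of_le_normalizer hNV
    have h1 : (zpowers x).subgroupOf N ≤ V.subgroupOf N := le_normal_of_coprime_index (by
      rw [Nat.card_congr (subgroupOfEquivOfLe (zpowers_le.2 hxD.2)).toEquiv, Nat.card_zpowers]
      refine Nat.coprime_of_dvd fun p hp h1 h2 => ?_
      have h3 : (V.subgroupOf N).index ∣ Nat.card K' := by
        have hN' : Nat.card N ∣ Nat.card K' * Nat.card V := by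
          refine (card_dvd_of_le (K := K' ⊔ V) fun n hn => ?_).trans
            (CfsgLib.Coprime.card_sup_dvd_of_le_normalizer (hKN.trans hNV))
          obtain ⟨u, hu, b, hb, rfl⟩ := hKU.compl.2.2.2 n hn
          exact mul_mem (mem_sup_right (mem_sup_left hu))
            ((sup_le le_sup_left (le_sup_right.trans le_sup_right) :
              K' ⊔ Cfsg.sigmaCore N ≤ K' ⊔ V) hb)
        rw [← CfsgLib.Coprime.card_mul_relIndex hVN, mul_comm (Nat.card K')] at hN'
        exact Nat.dvd_of_mul_dvd_mul_left Nat.card_pos hN'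
      obtain ⟨-, hpN, -, hκ⟩ := hKU.hall.2.1 p hp (h2.trans h3)
      haveI : Fact p.Prime := ⟨hp⟩
      obtain ⟨hpσ, -, hr1⟩ := mem_tau_iff.1 (htau p hp h1)
      obtain ⟨P⟩ := (inferInstance : Nonempty (Sylow p N))
      refine hr1 (pRankLE_of_sylow P fun B hBc hBe => ?_)
      haveI := (hκ P).1
      haveI : IsCyclic ↥((P : Subgroup N).map N.subtype) :=
        isCyclic_of_surjective ((P : Subgroup N).equivMapOfInjective N.subtype
          N.subtype_injective).toMonoidHom (MulEquiv.surjective _)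
      exact (card_le_of_cyclic (C := B) inferInstance le_rfl fun y hy => hBe y hy).trans
        (le_of_eq (pow_one p).symm))
    exact h1 (show (⟨x, hxD.2⟩ : N) ∈ (zpowers x).subgroupOf N from mem_zpowers x)
  refine ⟨fun hU => ?_, ⟨⟨hxD.2, ?_⟩, hxV⟩, hxσ⟩
  · rw [hV, hU, bot_sup_eq] at hxV
    exact hxσ hxV
  · obtain ⟨c, hc, hcM⟩ := SetLike.not_le_iff_exists.1 hxM
    obtain ⟨a, ha, b, hb, rfl⟩ := hsplit.2.2.2 c hc
    exact ⟨b, hb.1, fun e => hcM (by rw [e, mul_one]; exact ha.1),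
      (mem_centralizer_singleton_iff.1 hb.2).symm⟩

end Cfsg.Agent.S1375
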