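import Cfsg.Statements.S1376
import Cfsg.Agent.Lib.CFun.OddTypeTwoSource
import Cfsg.Agent.S1435

set_option autoImplicit false
open Cfsg

namespace Cfsg.Agent.S1376

open Subgroup
open CfsgLib.CFun CfsgLib.CFun.TauTwo CfsgLib.CFun.Lines CfsgLib.CFun.Kappa CfsgLib.CFun.Partner



/-- Let G be a minimal simple group of odd order, M a maximal subgroup, x ≠ 1 in M_σ with C_G(x) not contained in M, and N a maximal subgroup containing C_G(x) with κ(N) nonempty. Then κ(M) is empty, M has a cyclic Frobenius complement (M is a Frobenius group), and M_F is not a TI-subset of G. -/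
theorem result {G : Type*} [Group G] [Finite G] (hG : Cfsg.IsMinSimpleOddOrder G)
    (M : Subgroup G) (hM : IsCoatom M) (x : G) (hx : x ∈ Cfsg.sigmaCore M) (hx1 : x ≠ 1) (hxM : ¬ Subgroup.centralizer ({x} : Set G) ≤ M)
    (N : Subgroup G) (hN : IsCoatom N) (hxN : Subgroup.centralizer ({x} : Set G) ≤ N) (hkN : (Cfsg.kappa N).Nonempty) :
    Cfsg.kappa M = ∅ ∧ (∃ E : Subgroup ↥M, Cfsg.IsFrobeniusComplement E ∧ IsCyclic E) ∧ ¬ Cfsg.IsTISubset (Cfsg.fittingHallOf M : Set G) := by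
  obtain ⟨N', hN', hxN', huniq, hnc, hτ, -, -⟩ := ElemCent.exists_data hG hM hx hx1 hxM
  obtain rfl : N = N' := huniq N hN hxN
  obtain ⟨K, U, d⟩ := Chain.exists_decomposition hG hN
  obtain ⟨l, hl⟩ := hkN
  have hK1 : K ≠ ⊥ := fun e => UFixed.kappa_empty d e l hl
  obtain ⟨q, hq, hqx⟩ := Nat.exists_prime_and_dvd (fun e : orderOf x = 1 => hx1 (orderOf_eq_one_iff.1 e))
  haveI : Fact q.Prime := ⟨hq⟩
  have hqN := hτ q hq hqx
  have hqM : q ∈ Cfsg.sigma M := Cosets.sigma_of_mem hG hM hx hq hqx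
  obtain ⟨B, hBU, hBe, hB2⟩ := TwoNeighbour.exists_torus_le_U hG hN d hK1 hqN
  have hqU : q ∣ Nat.card U := (hB2 ▸ dvd_pow_self q two_ne_zero).trans (card_dvd_of_le hBU)
  have hU1 : U ≠ ⊥ := fun e => by rw [e, card_bot] at hqU; exact hq.not_dvd_one hqU
  obtain ⟨hp, -⟩ := prime_of_U_ne_bot hG hN d hK1 hU1
  haveI : Fact (Nat.card K).Prime := ⟨hp⟩
  obtain ⟨k, -, -, -, hk⟩ := exists_gen (t := Nat.card K) (W := K) rfl
  obtain ⟨Ns, hNs, hKst, hKstH⟩ := exists_partner hG hN d.hall hK1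
  haveI := Decomp.isMulCommutative hG hN d hK1
  obtain ⟨R⟩ := (inferInstance : Nonempty (Sylow q U))
  haveI : (R : Subgroup U).Normal := ⟨fun a ha b => by rwa [mul_comm' b a, mul_inv_cancel_right]⟩
  haveI := Sylow.characteristic_of_normal R ‹_›
  have hR1 : (R : Subgroup U).map U.subtype ≠ ⊥ := fun e => by
    rw [map_eq_bot_iff_of_injective _ U.subtype_injective] at e
    exact R.ne_bot_of_dvd_card hqU e
  obtain ⟨H, hH, hNR⟩ := exists_coatom_normalizer hG hR1 fun e => hN.1 <| top_le_iff.1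
    (e ▸ (map_subtype_le _).trans d.compl.1)
  obtain ⟨-, hUσ, -⟩ :=
    Cfsg.Agent.S1435.result hG N hN K U d hK1 hU1 Ns hNs hKst hKstH q hqU R H hH hNR
  have hqH : q ∈ Cfsg.sigma H :=
    (sigmaCore_hall hG hH).1.2.1 q hq (hqU.trans (card_dvd_of_le hUσ))
  have hncH : ∀ g : G, CfsgLib.Coprime.conjBy g N ≠ H := fun g hg =>
    (Decomp.primes hG hN d hq hqU).1 (ElemCent.mem_sigma_conjBy hG hN (g := g) (hg.symm ▸ hqH))
  have hs : TwoNeighbour.Setup N K U Ns H k (Nat.card K) := ⟨hN, d, hK1, hU1, hNs, hKst, hKstH,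
    rfl, hk, hH, (CfsgLib.PGroup.normalizer_le_normalizer_map_char _ _).trans hNR, hncH⟩
  obtain ⟨g, hg⟩ := Disjoint.exists_conj_of_sigma hG hM hH hqM hqH
  have hτ2 : ∀ r, r ∉ Cfsg.tau2 M := fun r hr => by
    haveI : Fact r.Prime := ⟨hr.1⟩
    exact hs.tau2_empty hG hqN r (hg ▸ Neighbour.tau2_conjBy hG hM g hr)
  have hκ : Cfsg.kappa M = ∅ := by
    by_contra hne
    obtain ⟨h, hh | hh⟩ := Zhat.kappa_conj hG hN d.hall hK1 hNs hKst hM
      (Set.nonempty_iff_ne_empty.2 hne)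
    · refine hnc h⁻¹ ?_
      rw [← hh, CfsgLib.Coprime.conjBy_conjBy, inv_mul_cancel, CfsgLib.Coprime.conjBy_one]
    · refine hs.not_sigma_p hG (ElemCent.mem_sigma_conjBy hG hH (g := (g * h)⁻¹) ?_)
      rw [← hg, ← hh, CfsgLib.Coprime.conjBy_conjBy, CfsgLib.Coprime.conjBy_conjBy,
        show (g * h)⁻¹ * g * h = 1 by group, CfsgLib.Coprime.conjBy_one]
      exact (hs.star_facts hG).2.1
  obtain ⟨E, hE, -⟩ := exists_complement hG hM (bot_le : (⊥ : Subgroup G) ≤ M) fun r hr hrd => by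
    rw [card_bot] at hrd; exact absurd hrd hr.not_dvd_one
  have hE1 : E ≠ ⊥ := fun e => by
    have hMσ : M ≤ Cfsg.sigmaCore M := fun m hm => by
      obtain ⟨a, ha, b, hb, rfl⟩ := hE.2.2.2 m hm
      rw [e, mem_bot] at ha
      rwa [ha, one_mul]
    exact (FifteenTwo.derived_lt hG hM).not_ge (hMσ.trans (sigmaCore_le_derived hG hM))
  have hall : ∀ r : ℕ, r.Prime → r ∣ Nat.card E → r ∈ Cfsg.tau1 M := fun r hr hrd => by
    haveI : Fact r.Prime := ⟨hr⟩
    rcases compl_tau_cases hG hM hE hrd with (h | h) | h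
    · exact h
    · exact absurd h (Neighbour.not_tau3 hG hM hN hqM hqN)
    · exact absurd h (hτ2 r)
  have hEc : IsCyclic E := Compl.tau1_hall hG hM hE (E₁ := E)
    ⟨le_rfl, hall, fun r hr _ hd => by
      rw [relIndex_self] at hd; exact hr.not_dvd_one hd⟩
  have hreg : ∀ a ∈ E, a ≠ 1 → Cfsg.sigmaCore M ⊓ centralizer ({a} : Set G) = ⊥ := by
    intro a ha ha1
    obtain ⟨r, W, hr, hW, hWc⟩ := exists_prime_line (H := zpowers a)
      (fun e => ha1 (zpowers_eq_bot.1 e))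
    haveI : Fact r.Prime := ⟨hr⟩
    have h1 := hall r hr (hWc ▸ card_dvd_of_le (hW.trans (zpowers_le.2 ha)))
    refine le_bot_iff.1 ((inf_le_inf_left _ ?_).trans (line_regular hG hM
      ((hW.trans (zpowers_le.2 ha)).trans hE.1) hWc h1.2.1
      (by rw [hκ]; exact Set.notMem_empty _) h1.2.2.2.2).le)
    rw [← TauTwo.centralizer_zpowers]
    exact centralizer_le hW
  have hnil : Group.IsNilpotent (Cfsg.sigmaCore M) := by
    obtain ⟨r, W, hr, hW, hWc⟩ := exists_prime_line hE1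
    haveI : Fact r.Prime := ⟨hr⟩
    obtain ⟨a, ha, ha1, har, -⟩ := exists_gen hWc
    exact Decomp.isNilpotent_of_fpf hr har (sigmaCore_normal hG M (hE.1 (hW ha)))
      (hreg a (hW ha) ha1)
  refine ⟨hκ, ⟨E.subgroupOf M, TwoNeighbour.frobenius_compl hG hM hE hE1 hreg, ?_⟩, fun hTI => ?_⟩
  · exact (subgroupOfEquivOfLe hE.1).isCyclic.2 hEc
  · rw [Cosets.fittingHallOf_eq hG hM hnil] at hTI
    obtain ⟨c, hc, hcM⟩ := SetLike.not_le_iff_exists.1 hxM
    refine hx1 (hTI c (fun hn => hcM ?_) x hx ?_)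
    · have := ms_normalizer_eq hG hM (map_subtype_le _) (sigmaCore_ne_bot hG hM)
        (sigmaCore_normal hG M)
      exact this ▸ hn
    · rw [← mem_centralizer_iff.1 hc x (Set.mem_singleton x), mul_inv_cancel_right]
      exact hx

end Cfsg.Agent.S1376
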