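import Cfsg.Statements.S1378
import Cfsg.Agent.Lib.CFun.OddSigmaDisjoint

set_option autoImplicit false
open Cfsg

namespace Cfsg.Agent.S1378

open CfsgLib.CFun CfsgLib.CFun.TauTwo

/-- Let G be a minimal simple group of odd order. Then every prime dividing the order of G belongs to σ(M) for some maximal subgroup M, and if σ(M) and σ(N) have a prime in common for maximal subgroups M, N then N is conjugate to M; so the sets σ(M_i) over representatives of the conjugacy classes of maximal subgroups partition the prime divisors of #G. -/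
theorem result {G : Type*} [Group G] [Finite G] (hG : Cfsg.IsMinSimpleOddOrder G) :
    (∀ p : ℕ, p.Prime → p ∣ Nat.card G → ∃ M : Subgroup G, IsCoatom M ∧ p ∈ Cfsg.sigma M) ∧
      ∀ M N : Subgroup G, IsCoatom M → IsCoatom N → (Cfsg.sigma M ∩ Cfsg.sigma N).Nonempty → ∃ g : G, N = M.map (MulAut.conj g).toMonoidHom := by
  refine ⟨fun p hp hpG => ?_, fun M N hM hN hne => ?_⟩
  · haveI : Fact p.Prime := ⟨hp⟩
    obtain ⟨S⟩ := (inferInstance : Nonempty (Sylow p G))
    have hS1 : (S : Subgroup G) ≠ ⊥ := fun e => by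
      have h1 : (S : Subgroup G).index = Nat.card G := by rw [e, Subgroup.index_bot]
      exact S.not_dvd_index (h1 ▸ hpG)
    obtain ⟨M, hM, hNM⟩ := exists_coatom_normalizer hG hS1 (ms_isPGroup_ne_top hG S.2)
    have hSM : (S : Subgroup G) ≤ M := Subgroup.le_normalizer.trans hNM
    exact ⟨M, hM, sigma_of_sylow hG hM S hSM hNM (mem_of_isPGroup S.2 hS1 hSM)⟩
  · obtain ⟨q, hqM, hqN⟩ := hne
    obtain ⟨g, hg⟩ := Disjoint.exists_conj_of_sigma hG hM hN hqM hqN
    exact ⟨g, hg.symm⟩

end Cfsg.Agent.S1378
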