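import Cfsg.Statements.S1384
import Cfsg.Agent.Lib.CFun.OddHallFusion
import Cfsg.Agent.Lib.CFun.OddSigmaNeighbour
import Cfsg.Agent.Lib.CFun.OddFittingChain

set_option autoImplicit false
open Cfsg

namespace Cfsg.Agent.S1384

open Subgroup
open CfsgLib.CFun CfsgLib.CFun.TauTwo CfsgLib.CFun.Lines CfsgLib.CFun.Kappa CfsgLib.CFun.Partner
open CfsgLib.Coprime (conjBy IsHallIn)

/-- The Sylow subgroups of a Hall subgroup are Sylow subgroups. -/
theorem hall_sylow {G : Type*} [Group G] [Finite G] (H : Subgroup G)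
    (hHall : (Nat.card H).Coprime H.index) (q : ℕ) [Fact q.Prime] (hq : q ∣ Nat.card H) :
    ∃ S : Sylow q G, (S : Subgroup G) ≤ H := by
  obtain ⟨P⟩ := (inferInstance : Nonempty (Sylow q H))
  have hq' : q.Prime := Fact.out
  have hP : IsPGroup q ↥((P : Subgroup H).map H.subtype) := P.2.map _
  obtain ⟨S, hS⟩ := hP.exists_le_sylow
  refine ⟨S, ?_⟩
  have hcard : Nat.card ↥(S : Subgroup G) = Nat.card ↥((P : Subgroup H).map H.subtype) := by
    rw [card_map_of_injective H.subtype_injective, Sylow.card_eq_multiplicity,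
      Sylow.card_eq_multiplicity, ← H.card_mul_index, Nat.factorization_mul Nat.card_pos.ne'
      index_ne_zero_of_finite, Finsupp.add_apply,
      Nat.factorization_eq_zero_of_not_dvd fun hd : q ∣ H.index =>
        hq'.one_lt.ne' (Nat.eq_one_of_dvd_coprimes hHall hq hd), add_zero]
  rw [← eq_of_le_of_card_ge hS hcard.le]
  exact map_subtype_le _

/-- A nilpotent Hall subgroup lies in some `M_σ`. -/
theorem exists_over {G : Type*} [Group G] [Finite G] (hG : Cfsg.IsMinSimpleOddOrder G)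
    (H : Subgroup G) (hH1 : H ≠ ⊥) (hHn : Group.IsNilpotent H)
    (hHall : (Nat.card H).Coprime H.index) :
    ∃ M : Subgroup G, IsCoatom M ∧ H ≤ Cfsg.sigmaCore M := by
  haveI := hHn
  obtain ⟨p, hp, hpH⟩ := Nat.exists_prime_and_dvd fun e => hH1 (card_eq_one.1 e)
  haveI : Fact p.Prime := ⟨hp⟩
  obtain ⟨S, hSH⟩ := hall_sylow H hHall p hpH
  have hS1 : (S : Subgroup G) ≠ ⊥ := S.ne_bot_of_dvd_card (hpH.trans (card_subgroup_dvd_card H))
  have hStop : (S : Subgroup G) ≠ ⊤ := ms_isPGroup_ne_top hG S.2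
  obtain ⟨M, hM, hNS⟩ := exists_coatom_normalizer hG hS1 hStop
  have hSM : (S : Subgroup G) ≤ M := le_normalizer.trans hNS
  have hpM : p ∈ Cfsg.sigma M := sigma_of_sylow hG hM S hSM hNS
    ((S.dvd_card_of_dvd_card (hpH.trans (card_subgroup_dvd_card H))).trans (card_dvd_of_le hSM))
  have hSσ : (S : Subgroup G) ≤ Cfsg.sigmaCore M := isPGroup_le_sigmaCore hG hM hpM S.2 hSM
  have hcomm : ∀ (q : ℕ) [Fact q.Prime], q ≠ p → ∀ x ∈ H, (∃ n : ℕ, x ^ q ^ n = 1) →
      x ∈ centralizer ((S : Subgroup G) : Set G) := by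
    intro q _ hqp x hx ⟨n, hn⟩
    refine mem_centralizer_iff.2 fun s hs => ?_
    obtain ⟨i, hi⟩ := S.2 ⟨s, hs⟩
    exact (congrArg Subtype.val (CfsgLib.CFun.commute_of_coprime_order (x := (⟨s, hSH hs⟩ : H))
      (y := ⟨x, hx⟩) (Nat.Coprime.of_dvd
        (orderOf_dvd_of_pow_eq_one (n := p ^ i) (Subtype.ext (congrArg Subtype.val hi :)))
        (orderOf_dvd_of_pow_eq_one (n := q ^ n) (Subtype.ext hn))
        (((Nat.coprime_primes hp Fact.out).2 hqp.symm).pow i n))).eq :)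
  have hpart : ∀ (q : ℕ) [Fact q.Prime], q ≠ p → ∀ Q : Subgroup G, IsPGroup q Q → Q ≤ H →
      Q ≤ M ⊓ centralizer ((S : Subgroup G) : Set G) := by
    intro q _ hqp Q hQ hQH x hx
    obtain ⟨n, hn⟩ := hQ ⟨x, hx⟩
    have := hcomm q hqp x (hQH hx) ⟨n, congrArg Subtype.val hn⟩
    exact mem_inf.2 ⟨hNS (CfsgLib.Coprime.centralizer_le_normalizer_self _ this), this⟩
  refine ⟨M, hM, CfsgLib.Fusion.le_of_forall_prime_pow fun q hq x hx hxq => ?_⟩
  haveI : Fact q.Prime := ⟨hq⟩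
  by_cases hx1 : x = 1
  · rw [hx1]; exact one_mem _
  obtain ⟨n, hn⟩ := hxq
  obtain ⟨hxp, hqx, -⟩ := exists_line_pow (t := q) ⟨n, hn⟩ hx1
  have hqH : q ∣ Nat.card H := hqx.trans (Subgroup.orderOf_dvd_natCard H hx)
  rcases eq_or_ne q p with hqp | hqp
  · subst hqp
    have hxS : x ∈ (S : Subgroup G) := by
      obtain ⟨T, hT⟩ := (hxp.of_equiv
        (subgroupOfEquivOfLe (zpowers_le.2 hx)).symm).exists_le_sylow
      have hnorm : ∀ (t : ℕ) (_ : Fact t.Prime) (T : Sylow t H), (T : Subgroup H).Normal :=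
        ((Group.isNilpotent_of_finite_tfae (G := H)).out 0 3).1 hHn
      haveI := Sylow.unique_of_normal T (hnorm _ ‹_› T)
      have hxT := hT (show (⟨x, hx⟩ : H) ∈ (zpowers x).subgroupOf H from mem_zpowers x)
      rw [Subsingleton.elim T (S.subtype hSH)] at hxT
      exact hxT
    exact hSσ hxS
  suffices hqσ : q ∈ Cfsg.sigma M from isPGroup_le_sigmaCore hG hM hqσ hxp
    ((hpart q hqp _ hxp (zpowers_le.2 hx)).trans inf_le_left) (mem_zpowers x)
  by_contra hqσ
  obtain ⟨T, hTH⟩ := hall_sylow H hHall q hqH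
  have hTC := hpart q hqp _ T.2 hTH
  have hTM : (T : Subgroup G) ≤ M := hTC.trans inf_le_left
  have hqT : q ∣ Nat.card ↥(T : Subgroup G) :=
    T.dvd_card_of_dvd_card (hqH.trans (card_subgroup_dvd_card H))
  obtain ⟨W, hWT, hWc⟩ := exists_line_of_dvd hqT
  obtain ⟨E, hE, hWE⟩ := exists_complement hG hM (hWT.trans hTM) fun r hr hrd => by
    rw [hWc] at hrd
    rwa [(Nat.prime_dvd_prime_iff_eq hr hq).1 hrd]
  have hSC : (S : Subgroup G) ≤ Cfsg.sigmaCore M ⊓ centralizer (W : Set G) :=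
    le_inf hSσ (le_centralizer_iff.1 (hWT.trans (hTC.trans inf_le_right)))
  rcases compl_tau_cases hG hM hE (hWc ▸ card_dvd_of_le hWE) with h13 | h2
  · have hr1 : Cfsg.PRankLE q 1 M := h13.elim (fun h1 => h1.2.2.2.2) fun h3 => h3.2.2.2
    by_cases hκ : q ∈ Cfsg.kappa M
    · obtain ⟨K, U, d⟩ := Chain.exists_decomposition hG hM
      obtain ⟨m, hm, hmW⟩ := IsHallIn.exists_conj_le (π := Cfsg.kappa M) (H := K) (L := M)
        ⟨d.hall.1, d.hall.2.1, fun t ht htd htκ => d.hall.2.2 t ht htκ htd⟩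
        (ms_solvable hG hM.1) (hWT.trans hTM) (fun t ht htd => by
          rw [hWc] at htd
          rwa [(Nat.prime_dvd_prime_iff_eq ht hq).1 htd])
      obtain ⟨w, hw, hw1, -, -⟩ := exists_gen hWc
      refine HallFusion.kappa_free hG hM d hSσ hS1 ?_ (hmW ⟨w, hw, rfl⟩)
        (fun e => hw1 ((MulAut.conj m).injective (e.trans (map_one _).symm))) hm ?_
      · exact S.card_coprime_index.coprime_dvd_right (Dvd.intro _ (relIndex_mul_index hSσ))
      · rintro _ ⟨s, hs, rfl⟩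
        refine mem_centralizer_singleton_iff.2 ?_
        have h1 : s * w = w * s := (mem_centralizer_iff.1 (mem_inf.1 (hSC hs)).2 w hw).symm
        simp only [MulEquiv.coe_toMonoidHom, ← map_mul, h1]
    · exact hS1 (le_bot_iff.1 ((hSC.trans
        (line_regular hG hM (hWT.trans hTM) hWc hqσ hκ hr1).le)))
  · obtain ⟨A, hAE, hAe, hA2⟩ := Compl.exists_elementary_compl hG hM hE h2
    obtain ⟨T', hT'⟩ : ∃ T' : Sylow q M, (T' : Subgroup M) = (T : Subgroup G).subgroupOf M :=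
      ⟨T.subtype hTM, rfl⟩
    obtain ⟨P', hP'⟩ := ((CfsgLib.CFun.isPGroup_of_elementary hAe).of_equiv
      (subgroupOfEquivOfLe (hAE.trans hE.1)).symm).exists_le_sylow
    obtain ⟨m, hm⟩ := MulAction.exists_smul_eq M P' T'
    have hAT : conjBy (m : G) A ≤ (T : Subgroup G) := by
      rintro _ ⟨a, ha, rfl⟩
      have h1 : m * (⟨a, hE.1 (hAE ha)⟩ : M) * m⁻¹ ∈ ((m • P' : Sylow q M) : Subgroup M) :=
        ⟨_, hP' (show (⟨a, hE.1 (hAE ha)⟩ : M) ∈ A.subgroupOf M from ha), rfl⟩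
      rw [hm, hT'] at h1
      exact h1
    have hAe' := Neighbour.elementary_conjBy hAe (m : G)
    have hA2' : Nat.card ↥(conjBy (m : G) A) = q ^ 2 := by
      rw [CfsgLib.Coprime.card_conjBy]; exact hA2
    refine hS1 (le_bot_iff.1 ?_)
    rw [← tau_fixed_eq_bot hG hM h2 (hAT.trans hTM) hAe' hA2']
    exact le_inf hSσ (le_centralizer_iff.1 (hAT.trans (hTC.trans inf_le_right)))



/-- Let G be a minimal simple group of odd order and H a nilpotent subgroup whose order is coprime to its index. If x ∈ H and gxg⁻¹ ∈ H for some g ∈ G, then nxn⁻¹ = gxg⁻¹ for some n in the normalizer of H. -/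
theorem result {G : Type*} [Group G] [Finite G] (hG : Cfsg.IsMinSimpleOddOrder G)
    (H : Subgroup G) (hHn : Group.IsNilpotent H) (hHall : (Nat.card H).Coprime H.index) :
    ∀ x ∈ H, ∀ g : G, g * x * g⁻¹ ∈ H → ∃ n ∈ Subgroup.normalizer (H : Set G), n * x * n⁻¹ = g * x * g⁻¹ := by
  intro x hx g hg
  by_cases hH1 : H = ⊥
  · subst hH1
    rw [mem_bot] at hx
    exact ⟨1, one_mem _, by simp [hx]⟩
  obtain ⟨M, hM, hle⟩ := exists_over hG H hH1 hHn hHall
  obtain ⟨K, U, d⟩ := Chain.exists_decomposition hG hM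
  obtain ⟨n, hn, e⟩ := HallFusion.fusion hG hM d hle hH1
    (hHall.coprime_dvd_right (Dvd.intro _ (relIndex_mul_index hle))) hx hg
  exact ⟨n, (mem_inf.1 hn).2, e⟩

end Cfsg.Agent.S1384
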