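import Cfsg.Statements.S1389
import Cfsg.Agent.Lib.CFun.OddTypeClassify

set_option autoImplicit false
open Cfsg

namespace Cfsg.Agent.S1389

/-- Let G be a minimal simple group of odd order and M a maximal subgroup, and let M_s be M' if M is of Type III or IV and M_F otherwise. Then N_G(P) ≤ M for every nontrivial Sylow subgroup P of M_s, and both M_F and M_s have order coprime to their index in G. -/
theorem result {G : Type*} [Group G] [Finite G] (hG : Cfsg.IsMinSimpleOddOrder G)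
    (M : Subgroup G) (hM : IsCoatom M) :
    (∀ (p : ℕ), p.Prime → ∀ (P : Sylow p ↥(Cfsg.typeCore M)), (P : Subgroup ↥(Cfsg.typeCore M)) ≠ ⊥ →
        Subgroup.normalizer ((((P : Subgroup ↥(Cfsg.typeCore M)).map (Cfsg.typeCore M).subtype : Subgroup G)) : Set G) ≤ M) ∧
      (Nat.card (Cfsg.fittingHallOf M)).Coprime (Cfsg.fittingHallOf M).index ∧
      (Nat.card (Cfsg.typeCore M)).Coprime (Cfsg.typeCore M).index := by
  have hFσ := CfsgLib.CFun.Cosets.fittingHallOf_le hG hM
  have hFM := CfsgLib.CFun.TypeClass.hall_relIndex M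
  have hFs : (Nat.card (Cfsg.fittingHallOf M)).Coprime
      ((Cfsg.fittingHallOf M).relIndex (Cfsg.sigmaCore M)) :=
    hFM.coprime_dvd_right (Dvd.intro _
      (Subgroup.relIndex_mul_relIndex _ _ _ hFσ (Subgroup.map_subtype_le _)))
  obtain ⟨K, U, d⟩ := CfsgLib.CFun.Chain.exists_decomposition hG hM
  have key : Cfsg.typeCore M ≤ Cfsg.sigmaCore M ∧
      (Nat.card (Cfsg.typeCore M)).Coprime ((Cfsg.typeCore M).relIndex (Cfsg.sigmaCore M)) ∧
      (Nat.card (Cfsg.typeCore M)).Coprime ((Cfsg.typeCore M).relIndex M) := by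
    unfold Cfsg.typeCore
    split_ifs with h
    · obtain ⟨hK1, hU, -⟩ := CfsgLib.CFun.TypeClass.of_typeIII_or_IV hG hM d h
      rw [CfsgLib.CFun.KappaDerived.derived_eq hG hM d hK1, hU, bot_sup_eq]
      refine ⟨le_rfl, by rw [Subgroup.relIndex_self]; exact Nat.coprime_one_right _, ?_⟩
      exact Nat.coprime_of_dvd fun r hr h1 h2 =>
        (CfsgLib.CFun.sigmaCore_hall hG hM).1.2.2 r hr
          ((CfsgLib.CFun.sigmaCore_hall hG hM).1.2.1 r hr h1) h2
    · exact ⟨hFσ, hFs, hFM⟩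
  refine ⟨fun p hp P hP => ?_, CfsgLib.CFun.TypeClass.coprime_index hG hM hFσ hFM,
    CfsgLib.CFun.TypeClass.coprime_index hG hM key.1 key.2.2⟩
  haveI := Fact.mk hp
  exact CfsgLib.CFun.TypeClass.sylow_normalizer_le hG hM key.1 key.2.1 P hP

end Cfsg.Agent.S1389
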