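import Cfsg.Agent.S1420
-- Template for statement S1390 (row 1390; see /opt/grader/pristine/manifest.json for weights).
-- Copy to Cfsg/Agent/S1390.lean and replace the sorry. The statement below is byte-identical to the frozen
-- statement Cfsg.CfsgFrozen.S1390 (Cfsg/Statements/S1390.lean; the theorem Cfsg.minsimple_odd_type_one_two_complement_properties);
-- the grader kernel-checks Cfsg.Agent.S1390.result against that frozen type. Keep the theorem IN THIS FILE
-- (a `result` declared elsewhere and merely imported here is not credited); helpers may live anywhere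
-- under Cfsg/Agent/.
import Cfsg.Statements.S1390
import Cfsg.Agent.Lib.CFun.OddTypeClassify

set_option autoImplicit false
open Cfsg

namespace Cfsg.Agent.S1390

/-- Let G be a minimal simple group of odd order, M a maximal subgroup and H = M_F; suppose M is of Type I and U is a complement to H in M, or M is of Type II and U is a complement to H in M'. Then every Sylow subgroup of U is abelian with no elementary abelian subgroup of order p ^ 3; for every nonempty set X of non-identity elements of U centralizing a non-identity element of H, C_G(X) ≤ M and M is the unique maximal subgroup containing C_G(X); and A(M) with A₁(M) removed is a TI-subset of G. -/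
theorem result {G : Type*} [Group G] [Finite G] (hG : Cfsg.IsMinSimpleOddOrder G)
    (M : Subgroup G) (hM : IsCoatom M) (U : Subgroup G)
    (hU : (Cfsg.IsOfTypeI M ∧ Cfsg.IsComplIn (Cfsg.fittingHallOf M) U M) ∨ (Cfsg.IsOfTypeII M ∧ Cfsg.IsComplIn (Cfsg.fittingHallOf M) U ⁅M, M⁆)) :
    (∀ (p : ℕ), p.Prime → ∀ P : Sylow p U, IsMulCommutative (P : Subgroup U) ∧ Cfsg.PRankLE p 2 (P : Subgroup U)) ∧
      (∀ X : Set G, X ⊆ (U : Set G) \ {1} → X.Nonempty → Cfsg.fittingHallOf M ⊓ Subgroup.centralizer X ≠ ⊥ →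
        Subgroup.centralizer X ≤ M ∧ ∀ L : Subgroup G, IsCoatom L → Subgroup.centralizer X ≤ L → L = M) ∧
      Cfsg.IsTISubset (Cfsg.typeA M \ Cfsg.typeA1 M) := by
  obtain ⟨K, V, d⟩ := CfsgLib.CFun.Chain.exists_decomposition hG hM
  obtain ⟨x, hxσ, hxV, hFσ, hUM, hA, hcop⟩ :
      ∃ x ∈ Cfsg.sigmaCore M, CfsgLib.Coprime.conjBy x U = V ∧
        Cfsg.fittingHallOf M = Cfsg.sigmaCore M ∧ U ≤ M ∧
        Cfsg.typeA M \ Cfsg.typeA1 M = Cfsg.sigmaA M V \ (Cfsg.sigmaCore M : Set G) ∧
        (Nat.card U).Coprime (Nat.card (Cfsg.sigmaCore M)) := by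
    obtain ⟨W, hW, hcard, hVW, hFσ, hU', hset⟩ : ∃ W : Subgroup G, W = V ⊔ Cfsg.sigmaCore M ∧
        Nat.card W = Nat.card V * Nat.card (Cfsg.sigmaCore M) ∧ W ≤ M ∧
        Cfsg.fittingHallOf M = Cfsg.sigmaCore M ∧
        Cfsg.IsComplIn (Cfsg.sigmaCore M) U W ∧
        Cfsg.typeA M = {a | a ∈ W ∧ a ≠ 1 ∧ ∃ y ∈ Cfsg.sigmaCore M, y ≠ 1 ∧ a * y = y * a} := by
      rcases hU with ⟨hI, hc⟩ | ⟨hII, hc⟩
      · have hK : K = ⊥ := by
          by_contra hK
          exact CfsgLib.CFun.TypeClass.not_typeI hG hM d hK hI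
        have hFσ : Cfsg.fittingHallOf M = Cfsg.sigmaCore M := by
          by_contra h
          exact (CfsgLib.CFun.FifteenTwo.bot_of_ne hG hM d h).2 hK
        have h1 := CfsgLib.CFun.UFixed.compl_of_bot hG hM d hK
        have hW : M = V ⊔ Cfsg.sigmaCore M := by
          refine le_antisymm (fun m hm => ?_) (sup_le h1.1 h1.2.1)
          obtain ⟨a, ha, b, hb, rfl⟩ := h1.2.2.2 m hm
          exact Subgroup.mul_mem_sup ha hb
        refine ⟨M, hW, CfsgLib.CFun.Kappa.card_of_compl h1, le_rfl, hFσ, hFσ ▸ hc, ?_⟩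
        rw [Cfsg.typeA, if_pos hI, hFσ]
      · obtain ⟨hK, hV⟩ := CfsgLib.CFun.TypeClass.of_typeII hG hM d hII
        have hFσ : Cfsg.fittingHallOf M = Cfsg.sigmaCore M := by
          by_contra h
          exact hV (CfsgLib.CFun.FifteenTwo.bot_of_ne hG hM d h).1
        refine ⟨⁅M, M⁆, CfsgLib.CFun.KappaDerived.derived_eq hG hM d hK,
          CfsgLib.CFun.TypeClass.derived_card_eq hG hM d hK, Subgroup.commutator_le_self M,
          hFσ, hFσ ▸ hc, ?_⟩
        have h34 : ¬ (Cfsg.IsOfTypeIII M ∨ Cfsg.IsOfTypeIV M) := fun h =>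
          hV (CfsgLib.CFun.TypeClass.of_typeIII_or_IV hG hM d h).2.1
        rw [Cfsg.typeA, if_neg (CfsgLib.CFun.TypeClass.not_typeI hG hM d hK), Cfsg.typeCore,
          if_neg h34, hFσ]
    have h34 : ¬ (Cfsg.IsOfTypeIII M ∨ Cfsg.IsOfTypeIV M) := fun h =>
      (CfsgLib.CFun.TypeClass.of_typeIII_or_IV hG hM d h).2.2 hFσ
    have hcV : (Nat.card V).Coprime (Nat.card (Cfsg.sigmaCore M)) :=
      Nat.coprime_of_dvd fun p hp h1 h2 => (CfsgLib.CFun.Decomp.primes hG hM d hp h1).1
        ((CfsgLib.CFun.sigmaCore_hall hG hM).1.2.1 p hp h2)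
    have hc : Nat.card U = Nat.card V := by
      have h1 := CfsgLib.CFun.Kappa.card_of_compl hU'
      rw [hcard, mul_comm] at h1
      exact (Nat.eq_of_mul_eq_mul_left Nat.card_pos h1).symm
    obtain ⟨x, hx, hxV⟩ := CfsgLib.Coprime.sz_conj_in (B := U)
      (d.compl.1.trans (CfsgLib.CFun.TauTwo.sigmaCore_normal hG M)) hcV.symm
      (hU'.2.1.trans hW.le) hc
      (Or.inr (CfsgLib.CFun.TauTwo.sigmaCore_solvable hG hM))
    refine ⟨x, hx, hxV, hFσ, hU'.2.1.trans hVW, ?_, hc ▸ hcV⟩
    rw [hset, Cfsg.typeA1, Cfsg.typeCore, if_neg h34, hFσ, Cfsg.sigmaA, Cfsg.sigmaHat, hW]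
    ext a
    simp only [Set.mem_diff, Set.mem_inter_iff, Set.mem_setOf_eq, SetLike.mem_coe,
      Set.mem_singleton_iff]
    constructor
    · rintro ⟨⟨haW, ha1, hy⟩, hn⟩
      exact ⟨⟨⟨(hW ▸ hVW) haW, hy⟩, haW⟩, fun h => hn ⟨h, ha1⟩⟩
    · rintro ⟨⟨⟨-, hy⟩, haW⟩, hn⟩
      exact ⟨⟨haW, fun e => hn (e ▸ one_mem _), hy⟩, fun h => hn h.1⟩
  refine ⟨fun p hp P => ?_, fun X hX hXne hfix => ?_, hA ▸ CfsgLib.CFun.UFixed.sigmaA_ti hG hM d⟩
  · haveI := Fact.mk hp
    refine ⟨?_, ?_⟩
    · have hPM : (P : Subgroup U).map U.subtype ≤ M := (Subgroup.map_subtype_le _).trans hUM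
      obtain ⟨E, hE, -⟩ : ∃ E : Subgroup G,
          Cfsg.IsComplIn E (Cfsg.sigmaCore M) M ∧ True :=
        ⟨K ⊔ V, CfsgLib.CFun.Decomp.compl hG hM d, trivial⟩
      have hnil : Group.IsNilpotent ↥((P : Subgroup U).map U.subtype) :=
        (P.2.map U.subtype).isNilpotent
      haveI := (Cfsg.Agent.S1420.result hG M hM E hE).1 _ hPM hnil fun q hq hqd hqσ =>
        hq.one_lt.ne' (Nat.eq_one_of_dvd_coprimes hcop
          (hqd.trans (Subgroup.card_dvd_of_le (Subgroup.map_subtype_le _)))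
          (by
            have h1 := CfsgLib.Coprime.card_mul_relIndex
              (Subgroup.map_subtype_le _ : Cfsg.sigmaCore M ≤ M)
            refine (hq.dvd_mul.1 (h1 ▸ hqd.trans (Subgroup.card_dvd_of_le hPM))).resolve_right ?_
            exact (CfsgLib.CFun.sigmaCore_hall hG hM).1.2.2 q hq hqσ))
      refine ⟨⟨fun a b => Subtype.ext (Subtype.ext ?_)⟩⟩
      exact congrArg (fun z : ↥((P : Subgroup U).map U.subtype) => (z : G)) (IsMulCommutative.is_comm.comm
        (⟨_, Subgroup.mem_map_of_mem U.subtype a.2⟩ : ↥((P : Subgroup U).map U.subtype))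
        ⟨_, Subgroup.mem_map_of_mem U.subtype b.2⟩)
    · by_cases hpU : p ∣ Nat.card U
      · have hpσ : p ∉ Cfsg.sigma M := fun hσ => by
          have h1 := CfsgLib.Coprime.card_mul_relIndex
            (Subgroup.map_subtype_le _ : Cfsg.sigmaCore M ≤ M)
          refine hp.one_lt.ne' (Nat.eq_one_of_dvd_coprimes hcop hpU
            ((hp.dvd_mul.1 (h1 ▸ hpU.trans (Subgroup.card_dvd_of_le hUM))).resolve_right ?_))
          exact (CfsgLib.CFun.sigmaCore_hall hG hM).1.2.2 p hp hσ
        exact CfsgLib.CFun.RankTwoTower.pRankLE_of_injective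
          (f := (Subgroup.inclusion hUM).comp (P : Subgroup U).subtype)
          ((Subgroup.inclusion_injective hUM).comp (P : Subgroup U).subtype_injective)
          (CfsgLib.CFun.pRankLE_two_of_not_alpha hp fun h =>
            hpσ (CfsgLib.CFun.alpha_subset_sigma hG hM h))
      · intro A hA _
        obtain ⟨j, hj⟩ := IsPGroup.iff_card.1 P.2
        have h1 := Subgroup.card_subgroup_dvd_card A
        have h2 : Nat.card (P : Subgroup U) = 1 := by
          rcases Nat.eq_zero_or_pos j with h | h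
          · rw [hj, h, pow_zero]
          · exact absurd ((dvd_pow_self p h.ne').trans
              (hj ▸ Subgroup.card_subgroup_dvd_card (P : Subgroup U))) hpU
        rw [h2, Nat.dvd_one] at h1
        rw [h1]
        exact Nat.one_le_pow _ _ hp.pos
  · obtain ⟨X₀, hX₀⟩ := hXne
    set Y := Subgroup.closure X with hYdef
    have hYU : Y ≤ U := (Subgroup.closure_le U).2 fun z hz => (hX hz).1
    have hY1 : CfsgLib.Coprime.conjBy x Y ≠ ⊥ := fun e => by
      have h1 := CfsgLib.Coprime.conj_mem_conjBy (g := x)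
        (Subgroup.subset_closure hX₀ : X₀ ∈ Y)
      rw [e, Subgroup.mem_bot, conj_eq_one_iff] at h1
      exact (hX hX₀).2 h1
    rw [hFσ, ← Subgroup.centralizer_closure, ← hYdef] at hfix
    have hxM : x ∈ M := Subgroup.map_subtype_le _ hxσ
    obtain ⟨h1, h2⟩ := CfsgLib.CFun.UFixed.centralizer_unique hG hM d
      (X := CfsgLib.Coprime.conjBy x Y)
      (by rw [← hxV]; exact Subgroup.map_mono hYU) hY1
      (CfsgLib.CFun.Kappa.fixed_ne_bot_conj hG hM hxM hfix)
    rw [← Subgroup.centralizer_closure, ← hYdef]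
    have hconj : ∀ z ∈ Subgroup.centralizer (Y : Set G),
        x * z * x⁻¹ ∈ Subgroup.centralizer (CfsgLib.Coprime.conjBy x Y : Set G) := by
      intro z hz
      refine Subgroup.mem_centralizer_iff.2 ?_
      rintro _ ⟨y, hy, rfl⟩
      show x * y * x⁻¹ * (x * z * x⁻¹) = x * z * x⁻¹ * (x * y * x⁻¹)
      have hc : y * z = z * y := Subgroup.mem_centralizer_iff.1 hz y hy
      calc x * y * x⁻¹ * (x * z * x⁻¹) = x * (y * z) * x⁻¹ := by group
        _ = _ := by rw [hc]; group
    have hMx : ∀ z : G, x * z * x⁻¹ ∈ M → z ∈ M := fun z hz => by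
      have h3 := mul_mem (mul_mem (inv_mem hxM) hz) hxM
      simpa [mul_assoc] using h3
    refine ⟨fun z hz => hMx z (h1 (hconj z hz)), fun L hL hle => ?_⟩
    have h3 := h2 (CfsgLib.Coprime.conjBy x L) (CfsgLib.CFun.TauTwo.isCoatom_conjBy x hL) fun z hz => by
      refine ⟨x⁻¹ * z * x, hle (Subgroup.mem_centralizer_iff.2 fun y hy => ?_), ?_⟩
      · have hc : x * y * x⁻¹ * z = z * (x * y * x⁻¹) :=
          Subgroup.mem_centralizer_iff.1 hz _ (CfsgLib.Coprime.conj_mem_conjBy hy)
        calc y * (x⁻¹ * z * x) = x⁻¹ * (x * y * x⁻¹ * z) * x := by group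
          _ = _ := by rw [hc]; group
      · show x * (x⁻¹ * z * x) * x⁻¹ = z
        group
    have hxN : CfsgLib.Coprime.conjBy x M = M :=
      CfsgLib.Coprime.conjBy_eq_self_iff.2 (Subgroup.le_normalizer hxM)
    exact Subgroup.map_injective (MulAut.conj x).injective (h3.trans hxN.symm)

end Cfsg.Agent.S1390
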