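import Cfsg.Statements.S1407
import Cfsg.Agent.Lib.CFun.OddAlpha

set_option autoImplicit false
open Cfsg

namespace Cfsg.Agent.S1407

/-- Let G be a minimal simple group of odd order, M a maximal subgroup with M_α ≠ 1, p a prime dividing the order of M but not in σ(M), and P a Sylow p-subgroup of M. Then there is an element x of order p in the centre of P such that M_α ∩ C_G(x) has all Sylow subgroups cyclic and M is not the unique maximal subgroup of G containing C_G(x). -/
theorem result {G : Type*} [Group G] [Finite G] (hG : Cfsg.IsMinSimpleOddOrder G)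
    (M : Subgroup G) (hM : IsCoatom M) (hMα : Cfsg.alphaCore M ≠ ⊥) (p : ℕ) [Fact p.Prime] (hpM : p ∣ Nat.card M) (hp : p ∉ Cfsg.sigma M) (P : Sylow p M) :
    ∃ x : G, x ∈ ((Subgroup.center ↥(P : Subgroup M)).map (P : Subgroup M).subtype).map M.subtype ∧ orderOf x = p ∧
        IsZGroup ↥(Cfsg.alphaCore M ⊓ Subgroup.centralizer ({x} : Set G)) ∧
        ¬ (Subgroup.centralizer ({x} : Set G) ≤ M ∧ ∀ L : Subgroup G, IsCoatom L → Subgroup.centralizer ({x} : Set G) ≤ L → L = M) := by
  obtain ⟨x, hx, hxo, hbad⟩ := CfsgLib.CFun.exists_central_not_unique hG hM hpM hp P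
  refine ⟨x, hx, hxo, ?_, hbad⟩
  have e : Subgroup.centralizer ((Subgroup.zpowers x : Subgroup G) : Set G) =
      Subgroup.centralizer ({x} : Set G) := by
    rw [Subgroup.zpowers_eq_closure, Subgroup.centralizer_closure]
  have hxM : x ∈ M := by
    obtain ⟨y, -, rfl⟩ := hx
    exact y.2
  rw [← e]
  refine CfsgLib.CFun.alpha_centralizer_zgroup hG hM (Subgroup.zpowers_le.2 hxM) ?_
    (Subgroup.zpowers_ne_bot.2 ?_) (by rwa [e])
  · intro q hq hd hqa
    rw [Nat.card_zpowers, hxo, Nat.prime_dvd_prime_iff_eq hq Fact.out] at hd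
    exact hp (hd ▸ CfsgLib.CFun.alpha_subset_sigma hG hM hqa)
  · intro h1
    rw [h1, orderOf_one] at hxo
    exact (Fact.out : p.Prime).one_lt.ne hxo

end Cfsg.Agent.S1407
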