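import Cfsg.Statements.S1413
import Cfsg.Agent.Lib.CFun.OddSylowFusion

set_option autoImplicit false
open Cfsg

namespace Cfsg.Agent.S1413

/-- Let G be a minimal simple group of odd order, p a prime and P a Sylow p-subgroup. (c) If Q ≤ P and xQx⁻¹ ≤ P then xQx⁻¹ = yQy⁻¹ for some y ∈ N_G(P). (d) For every Q ≤ P, p does not divide the index of N_P(Q) in N_G(Q). (e) If R is a p-subgroup and Q ≤ P ∩ R is normal in N_G(P), then Q is normal in N_G(R). -/
theorem result {G : Type*} [Group G] [Finite G] (hG : Cfsg.IsMinSimpleOddOrder G) (p : ℕ) [Fact p.Prime] (P : Sylow p G) :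
    (∀ (Q : Subgroup G) (x : G), Q ≤ (P : Subgroup G) → Q.map (MulAut.conj x).toMonoidHom ≤ (P : Subgroup G) →
        ∃ y ∈ Subgroup.normalizer ((P : Subgroup G) : Set G), Q.map (MulAut.conj x).toMonoidHom = Q.map (MulAut.conj y).toMonoidHom) ∧
      (∀ Q : Subgroup G, Q ≤ (P : Subgroup G) →
        ¬ p ∣ ((P : Subgroup G) ⊓ Subgroup.normalizer (Q : Set G)).relIndex (Subgroup.normalizer (Q : Set G))) ∧
      (∀ (R Q : Subgroup G), IsPGroup p R → Q ≤ (P : Subgroup G) ⊓ R →
        Subgroup.normalizer ((P : Subgroup G) : Set G) ≤ Subgroup.normalizer (Q : Set G) →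
        Subgroup.normalizer (R : Set G) ≤ Subgroup.normalizer (Q : Set G)) := by
  refine ⟨fun Q x hQ hx => ?_, fun Q hQ => CfsgLib.CFun.sylow_normalizer_not_dvd hG P hQ,
    fun R Q hR hQ hNQ n hn => ?_⟩
  · obtain ⟨y, hy, c, hc, rfl⟩ := CfsgLib.CFun.sylow_fusion hG P hQ (g := x) hx
    refine ⟨y, hy, ?_⟩
    show CfsgLib.Coprime.conjBy (y * c) Q = CfsgLib.Coprime.conjBy y Q
    rw [← CfsgLib.Coprime.conjBy_conjBy, CfsgLib.Coprime.conjBy_eq_self_iff.2
      (CfsgLib.Coprime.centralizer_le_normalizer_self Q hc)]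
  · obtain ⟨R', hR'⟩ := hR.exists_le_sylow
    obtain ⟨h, hh⟩ := MulAction.exists_smul_eq G R' P
    have hhR : CfsgLib.Coprime.conjBy h R ≤ (P : Subgroup G) := by
      rw [← hh]; exact Subgroup.map_mono hR'
    have key : ∀ k : G, CfsgLib.Coprime.conjBy k R ≤ (P : Subgroup G) → k ∈ Subgroup.normalizer (Q : Set G) := by
      intro k hk
      obtain ⟨y, hy, c, hc, rfl⟩ := CfsgLib.CFun.sylow_fusion hG P (hQ.trans inf_le_left) (g := k)
        ((Subgroup.map_mono (hQ.trans inf_le_right)).trans hk)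
      exact mul_mem (hNQ hy) (CfsgLib.Coprime.centralizer_le_normalizer_self Q hc)
    have h2 := key (h * n) (by
      rw [← CfsgLib.Coprime.conjBy_conjBy, CfsgLib.Coprime.conjBy_eq_self_iff.2 hn]; exact hhR)
    have h3 := mul_mem (inv_mem (key h hhR)) h2
    rwa [inv_mul_cancel_left] at h3

end Cfsg.Agent.S1413
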