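import Cfsg.Statements.S1416
import Cfsg.Agent.Lib.CFun.OddTauTwoMain

set_option autoImplicit false
open Cfsg

namespace Cfsg.Agent.S1416

/-- Let G be a minimal simple group of odd order, M a maximal subgroup, p a prime and A ≤ M elementary abelian of order p ^ 2. Then C_G(A) ≤ M. If moreover for every subgroup A₀ of A of order p, M is not the unique maximal subgroup containing N_G(A₀), then p ∈ σ(M), M_α = 1 and M_σ is nilpotent. -/
theorem result {G : Type*} [Group G] [Finite G] (hG : Cfsg.IsMinSimpleOddOrder G)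
    (M : Subgroup G) (hM : IsCoatom M) (p : ℕ) [Fact p.Prime] (A : Subgroup G) (hA : (A ≤ M ∧ Cfsg.IsElementaryAbelian p A ∧ Nat.card A = p ^ 2)) :
    Subgroup.centralizer (A : Set G) ≤ M ∧
      ((∀ A₀ : Subgroup G, A₀ ≤ A → Nat.card A₀ = p →
          ¬ (Subgroup.normalizer (A₀ : Set G) ≤ M ∧ ∀ L : Subgroup G, IsCoatom L → Subgroup.normalizer (A₀ : Set G) ≤ L → L = M)) →
        p ∈ Cfsg.sigma M ∧ Cfsg.alphaCore M = ⊥ ∧ Group.IsNilpotent (Cfsg.sigmaCore M)) := by
  obtain ⟨hAM, hAe, hA2⟩ := hA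
  by_cases h : ∀ A₀ : Subgroup G, A₀ ≤ A → Nat.card A₀ = p →
      ¬ (Subgroup.normalizer (A₀ : Set G) ≤ M ∧ ∀ L : Subgroup G, IsCoatom L → Subgroup.normalizer (A₀ : Set G) ≤ L → L = M)
  · have hbad : ∀ A₀ : Subgroup G, A₀ ≤ A → Nat.card A₀ = p →
        ∃ L : Subgroup G, IsCoatom L ∧ L ≠ M ∧ Subgroup.normalizer (A₀ : Set G) ≤ L := by
      intro A₀ hA₀ hc
      by_contra hno
      simp only [not_exists, not_and] at hno
      have hAp : IsPGroup p A₀ := IsPGroup.of_card (hc.trans (pow_one p).symm)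
      have hne : Subgroup.normalizer (A₀ : Set G) ≠ ⊤ := CfsgLib.CFun.ms_normalizer_ne_top hG
        (CfsgLib.CFun.TauTwo.line_ne_bot hc) (CfsgLib.CFun.ms_isPGroup_ne_top hG hAp)
      have hall : ∀ L : Subgroup G, IsCoatom L → Subgroup.normalizer (A₀ : Set G) ≤ L → L = M :=
        fun L hL hNL => by_contra fun hLM => hno L hL hLM hNL
      obtain ⟨L, hL, hNL⟩ := (eq_top_or_exists_le_coatom _).resolve_left hne
      exact h A₀ hA₀ hc ⟨hall L hL hNL ▸ hNL, hall⟩
    have hα := CfsgLib.CFun.TauTwo.alpha_empty hG hM hAM hAe hA2 hbad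
    refine ⟨CfsgLib.CFun.TauTwo.centralizer_le_max hG hM hAM hAe hA2 hbad, fun _ =>
      ⟨CfsgLib.CFun.TauTwo.sigma_mem hG hM hAM hAe hA2 hbad, ?_, ?_⟩⟩
    · refine Subgroup.card_eq_one.1 (by_contra fun hne => ?_)
      obtain ⟨r, hr, hrd⟩ := Nat.exists_prime_and_dvd hne
      exact hα r ((CfsgLib.CFun.alphaCore_hall hG hM).1.2.1 r hr hrd)
    · haveI := CfsgLib.CFun.TauTwo.derived_nilpotent hG hM hα
      exact CfsgLib.Coprime.isNilpotent_of_le (CfsgLib.CFun.sigmaCore_le_derived hG hM) inferInstance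
  · refine ⟨?_, fun h' => absurd h' h⟩
    simp only [not_forall, Classical.not_not] at h
    obtain ⟨A₀, hA₀, -, hN, -⟩ := h
    exact (Subgroup.centralizer_le hA₀).trans
      ((CfsgLib.Coprime.centralizer_le_normalizer_self A₀).trans hN)

end Cfsg.Agent.S1416
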