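import Cfsg.Statements.S1417
import Cfsg.Agent.Lib.CFun.OddTauTwoStructure

set_option autoImplicit false
open Cfsg

namespace Cfsg.Agent.S1417

/-- Let G be a minimal simple group of odd order, M a maximal subgroup, p ∈ τ₂(M) and A ≤ M elementary abelian of order p ^ 2. Then (a) M_σ is nilpotent; (b) every Sylow p-subgroup P of M is abelian, and if A ≤ P then the elements of P of order dividing p are exactly those of A and N_G(P) is not contained in M; (c) M normalizes M_σA; (d) M_σ ∩ C_G(A) = 1; (e) M_σ ∩ M* = 1 for every maximal subgroup M* ≠ M containing A; (f) M_σ ∩ C_G(A₁) = 1 for some subgroup A₁ ≤ A of order p. -/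
theorem result {G : Type*} [Group G] [Finite G] (hG : Cfsg.IsMinSimpleOddOrder G)
    (M : Subgroup G) (hM : IsCoatom M) (p : ℕ) [Fact p.Prime] (hp : p ∈ Cfsg.tau2 M) (A : Subgroup G) (hA : (A ≤ M ∧ Cfsg.IsElementaryAbelian p A ∧ Nat.card A = p ^ 2)) :
    Group.IsNilpotent (Cfsg.sigmaCore M) ∧
      (∀ P : Sylow p M, IsMulCommutative (P : Subgroup M) ∧
        (A ≤ (P : Subgroup M).map M.subtype →
          (∀ x ∈ (P : Subgroup M).map M.subtype, x ^ p = 1 ↔ x ∈ A) ∧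
          ¬ Subgroup.normalizer ((((P : Subgroup M).map M.subtype : Subgroup G)) : Set G) ≤ M)) ∧
      M ≤ Subgroup.normalizer ((Cfsg.sigmaCore M ⊔ A : Subgroup G) : Set G) ∧
      Cfsg.sigmaCore M ⊓ Subgroup.centralizer (A : Set G) = ⊥ ∧
      (∀ Mstar : Subgroup G, IsCoatom Mstar → Mstar ≠ M → A ≤ Mstar → Cfsg.sigmaCore M ⊓ Mstar = ⊥) ∧
      ∃ A₁ : Subgroup G, A₁ ≤ A ∧ Nat.card A₁ = p ∧ Cfsg.sigmaCore M ⊓ Subgroup.centralizer (A₁ : Set G) = ⊥ := by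
  obtain ⟨hAM, hAe, hA2⟩ := hA
  obtain ⟨D, hDA, hDc, hD⟩ := CfsgLib.CFun.TauTwo.tau_fixed_point_free hG hM hp hAM hAe hA2
  refine ⟨CfsgLib.CFun.TauTwo.tau_nilpotent hG hM hp hAM hAe hA2, fun P => ⟨?_, fun hAP => ?_⟩,
    CfsgLib.CFun.TauTwo.tau_normal_sup hG hM hp hAM hAe hA2,
    CfsgLib.CFun.TauTwo.tau_fixed_eq_bot hG hM hp hAM hAe hA2,
    fun L hL hLM hAL => CfsgLib.CFun.TauTwo.tau_inf_eq_bot hG hM hp hAM hAe hA2 hL hLM hAL,
    D, hDA, hDc, hD⟩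
  · obtain ⟨Q, hQ⟩ := ((CfsgLib.CFun.isPGroup_of_elementary hAe).of_equiv
      (Subgroup.subgroupOfEquivOfLe hAM).symm).exists_le_sylow
    obtain ⟨hab, -⟩ := CfsgLib.CFun.TauTwo.tau_sylow_abelian hG hM hp hAM hAe hA2 (Q.2.map M.subtype)
      (Subgroup.map_subtype_le _) (fun a ha => ⟨⟨a, hAM ha⟩, hQ ha, rfl⟩)
      fun U hU hUM hle => CfsgLib.CFun.sylow_map_max Q hU hUM hle
    let e := (P.equiv Q).trans ((Q : Subgroup M).equivMapOfInjective M.subtype M.subtype_injective)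
    exact ⟨⟨fun a b => e.injective (by rw [map_mul, map_mul]; exact hab.is_comm.comm _ _)⟩⟩
  · obtain ⟨-, hTC, -, hN⟩ := CfsgLib.CFun.TauTwo.tau_sylow_abelian hG hM hp hAM hAe hA2
      (P.2.map M.subtype) (Subgroup.map_subtype_le _) hAP
      fun U hU hUM hle => CfsgLib.CFun.sylow_map_max P hU hUM hle
    exact ⟨fun x hx => ⟨fun hxp => CfsgLib.CFun.TauTwo.mem_of_pow hAe hA2
      (fun _ => CfsgLib.CFun.TauTwo.tau_max hG hM hp hAM hAe hA2) hxp (hTC hx),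
      fun h => hAe.2 x h⟩, hN⟩

end Cfsg.Agent.S1417
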