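import Cfsg.Statements.S1427
import Cfsg.Agent.Lib.CFun.OddPrimeActionCore

set_option autoImplicit false
open Cfsg

namespace Cfsg.Agent.S1427

open Subgroup
open CfsgLib.Coprime (IsSylowIn)
open CfsgLib.CFun CfsgLib.CFun.TauTwo

/-- Let G be a minimal simple group of odd order, M a maximal subgroup, E a complement to M_σ in M, and S a nontrivial cyclic Sylow subgroup of E (for some prime). Then M_σ ∩ C_G(x) = M_σ ∩ C_G(S) for every non-identity x ∈ S. -/
theorem result {G : Type*} [Group G] [Finite G] (hG : Cfsg.IsMinSimpleOddOrder G)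
    (M : Subgroup G) (hM : IsCoatom M) (E : Subgroup G) (hE : Cfsg.IsComplIn E (Cfsg.sigmaCore M) M) (p : ℕ) [Fact p.Prime] (S : Sylow p E) (hS1 : (S : Subgroup E) ≠ ⊥) (hSc : IsCyclic (S : Subgroup E)) :
    ∀ x ∈ (S : Subgroup E).map E.subtype, x ≠ 1 →
        Cfsg.sigmaCore M ⊓ Subgroup.centralizer ({x} : Set G) = Cfsg.sigmaCore M ⊓ Subgroup.centralizer (((S : Subgroup E).map E.subtype : Subgroup G) : Set G) := by
  set T := (S : Subgroup E).map E.subtype with hTdef
  have hT : IsPGroup p T := S.2.map _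
  have hTM : T ≤ M := (map_subtype_le _).trans hE.1
  have hT1 : T ≠ ⊥ := fun e => hS1 ((Subgroup.map_eq_bot_iff_of_injective _ E.subtype_injective).1 e)
  have hTc : IsCyclic T := by
    haveI := hSc
    exact isCyclic_of_surjective ((S : Subgroup E).equivMapOfInjective E.subtype
      E.subtype_injective).toMonoidHom (MulEquiv.surjective _)
  have hpE : p ∣ Nat.card E := mem_of_isPGroup hT hT1 (map_subtype_le _)
  have hpσ : p ∉ Cfsg.sigma M := Compl.compl_not_sigma hG hM hE hpE
  have hr1 : Cfsg.PRankLE p 1 M := by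
    have hS := TauTwo.isSylowIn_of_relIndex (CfsgLib.Coprime.isSylowIn_map S) hE.1
      (Compl.compl_not_dvd hG hM hE hpσ)
    refine pRankLE_of_sylow hS.toSylow ?_
    rw [hS.map_toSylow]
    intro V hVc hVe
    haveI := hTc
    exact (card_le_of_cyclic (C := V) inferInstance le_rfl fun y hy => hVe y hy).trans
      (le_of_eq (pow_one p).symm)
  obtain ⟨z, hzo⟩ := exists_prime_orderOf_dvd_card' p (mem_of_isPGroup hT hT1 le_rfl)
  set P := zpowers (z : G) with hPdef
  have hPc : Nat.card P = p := by rw [hPdef, Nat.card_zpowers, orderOf_coe, hzo]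
  have hPT : P ≤ T := zpowers_le.2 z.2
  obtain ⟨L, hL, hNP⟩ := exists_coatom_normalizer hG (line_ne_bot hPc)
    (ms_isPGroup_ne_top hG (IsPGroup.of_card (n := 1) (by rw [hPc, pow_one])))
  have hTab : T ≤ centralizer (P : Set G) := fun t ht => mem_centralizer_iff.2 fun y hy => by
    haveI := hTc
    obtain ⟨g, hg⟩ := IsCyclic.exists_generator (α := T)
    obtain ⟨i, hi⟩ := mem_zpowers_iff.1 (hg ⟨t, ht⟩)
    obtain ⟨j, hj⟩ := mem_zpowers_iff.1 (hg ⟨y, hPT hy⟩)
    have e : (⟨y, hPT hy⟩ : T) * ⟨t, ht⟩ = ⟨t, ht⟩ * ⟨y, hPT hy⟩ := by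
      rw [← hi, ← hj]; exact ((Commute.refl g).zpow_zpow j i).eq
    exact (congrArg Subtype.val e :)
  have hTL : T ≤ L :=
    hTab.trans ((CfsgLib.Coprime.centralizer_le_normalizer_self _).trans hNP)
  have hC := centralizes_of_normalizer hG hM hL hpσ hr1 hPc hNP hT hTM hTL hPT
  intro x hx hx1
  refine le_antisymm (le_inf inf_le_left ?_) (inf_le_inf_left _ (centralizer_le (by simpa using hx)))
  have hPx : P ≤ zpowers x := by
    obtain ⟨k, hk⟩ := hT ⟨x, hx⟩
    obtain ⟨i, -, hi⟩ := (Nat.dvd_prime_pow Fact.out).1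
      (orderOf_dvd_of_pow_eq_one (congrArg Subtype.val hk :) : orderOf x ∣ p ^ k)
    have hi1 : i ≠ 0 := fun e => hx1 (orderOf_eq_one_iff.1 (by rw [hi, e, pow_zero]))
    obtain ⟨y, hy⟩ := exists_prime_orderOf_dvd_card' (G := zpowers x) p
      (by rw [Nat.card_zpowers, hi]; exact dvd_pow_self p hi1)
    have hy1 : (y : G) ≠ 1 := fun e => by
      have h1 : orderOf y = 1 := orderOf_eq_one_iff.2 (Subtype.ext e)
      exact (Fact.out : p.Prime).ne_one (hy.symm.trans h1)
    refine le_trans ?_ (zpowers_le.2 y.2 : zpowers (y : G) ≤ zpowers x)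
    exact eq_of_cyclic (q := p) hTc ((zpowers_le.2 y.2).trans (zpowers_le.2 hx)) hPT
      (fun w hw => orderOf_dvd_iff_pow_eq_one.1
        ((orderOf_dvd_natCard _ hw).trans (by rw [Nat.card_zpowers, orderOf_coe, hy])))
      (fun w hw => orderOf_dvd_iff_pow_eq_one.1 (hPc ▸ orderOf_dvd_natCard P hw))
      (fun e => hy1 (mem_bot.1 (e ▸ mem_zpowers (y : G))))
  refine le_trans (le_inf inf_le_left (inf_le_right.trans ?_)) (le_centralizer_iff.1 hC)
  rw [← centralizer_zpowers]
  exact (centralizer_le hPx).trans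
    ((CfsgLib.Coprime.centralizer_le_normalizer_self _).trans hNP)

end Cfsg.Agent.S1427
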