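import Cfsg.Statements.S1429
import Cfsg.Agent.Lib.CFun.OddKappaPartner
import Cfsg.Agent.Lib.CFun.OddTypeFComplement

set_option autoImplicit false
open Cfsg

namespace Cfsg.Agent.S1429

open Subgroup
open CfsgLib.Coprime (conjBy)
open CfsgLib.CFun CfsgLib.CFun.TauTwo CfsgLib.CFun.Lines CfsgLib.CFun.Kappa CfsgLib.CFun.Partner


/-- Let G be a minimal simple group of odd order and M a maximal subgroup such that κ(M) is not the whole of the primes of M outside σ(M) (M is not of type P₁). Let p divide the order of M with p ∉ σ(M) ∪ κ(M), S a Sylow p-subgroup of M, and A the subgroup generated by the elements of S of order dividing p. Then A has order at most p ^ 2, M_σ ∩ C_G(A) = 1, and M_σ is nilpotent. -/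
theorem result {G : Type*} [Group G] [Finite G] (hG : Cfsg.IsMinSimpleOddOrder G)
    (M : Subgroup G) (hM : IsCoatom M) (hP1 : ¬ (∀ q : ℕ, q.Prime → q ∣ Nat.card M → q ∉ Cfsg.sigma M → q ∈ Cfsg.kappa M))
    (p : ℕ) [Fact p.Prime] (hpM : p ∣ Nat.card M) (hp : p ∉ Cfsg.sigma M ∪ Cfsg.kappa M) (S : Sylow p M) :
    Nat.card ↥(Subgroup.closure {x : G | x ∈ (S : Subgroup M).map M.subtype ∧ x ^ p = 1}) ≤ p ^ 2 ∧
      Cfsg.sigmaCore M ⊓ Subgroup.centralizer ((Subgroup.closure {x : G | x ∈ (S : Subgroup M).map M.subtype ∧ x ^ p = 1} : Subgroup G) : Set G) = ⊥ ∧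
      Group.IsNilpotent (Cfsg.sigmaCore M) := by
  have hpp : p.Prime := Fact.out
  have hpσ : p ∉ Cfsg.sigma M := fun h => hp (Or.inl h)
  have hpκ : p ∉ Cfsg.kappa M := fun h => hp (Or.inr h)
  set T := (S : Subgroup M).map M.subtype with hTdef
  have hTM : T ≤ M := map_subtype_le _
  have hTp : IsPGroup p T := S.isPGroup'.map M.subtype
  have hTc := isMulCommutative_of_not_sigma hG hM hpσ hTp hTM
  have hcomm : ∀ x ∈ T, ∀ y ∈ T, x * y = y * x := fun x hx y hy =>
    (congrArg Subtype.val (hTc.is_comm.comm ⟨x, hx⟩ ⟨y, hy⟩) :)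
  let A : Subgroup G :=
    { carrier := {x : G | x ∈ T ∧ x ^ p = 1}
      mul_mem' := fun {x y} hx hy => ⟨mul_mem hx.1 hy.1, by
        rw [(show Commute x y from hcomm x hx.1 y hy.1).mul_pow, hx.2, hy.2, one_mul]⟩
      one_mem' := ⟨one_mem _, one_pow _⟩
      inv_mem' := fun {x} hx => ⟨inv_mem hx.1, by rw [inv_pow, hx.2, inv_one]⟩ }
  have hA : Subgroup.closure {x : G | x ∈ T ∧ x ^ p = 1} = A := closure_eq A
  rw [hA]
  have hAM : A ≤ M := fun x hx => hTM hx.1
  have hAT : A ≤ T := fun x hx => hx.1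
  have hAe : Cfsg.IsElementaryAbelian p A :=
    ⟨⟨⟨fun x y => Subtype.ext (hcomm _ (hAT x.2) _ (hAT y.2))⟩⟩, fun x hx => hx.2⟩
  have hr2 : Cfsg.PRankLE p 2 M :=
    pRankLE_two_of_not_alpha hpp fun h => hpσ (alpha_subset_sigma hG hM h)
  have hle : Nat.card A ≤ p ^ 2 := by
    have h := hr2 (A.subgroupOf M)
      ⟨⟨fun x y => Subtype.ext (Subtype.ext (hcomm _ (hAT x.2) _ (hAT y.2)))⟩⟩
      (fun x hx => Subtype.ext hx.2)
    rwa [Nat.card_congr (subgroupOfEquivOfLe hAM).toEquiv] at h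
  refine ⟨hle, ?_⟩
  obtain ⟨j, hj⟩ := (hTp.to_le hAT).exists_card_eq
  by_cases hr1 : Cfsg.PRankLE p 1 M
  · have hd : p ∣ Nat.card T := by
      rw [hTdef, card_map_of_injective M.subtype_injective]
      exact S.dvd_card_of_dvd_card hpM
    obtain ⟨W, hWT, hWc⟩ := exists_line_of_dvd hd
    have hWA : W ≤ A := fun x hx =>
      ⟨hWT hx, orderOf_dvd_iff_pow_eq_one.1 (hWc ▸ orderOf_dvd_natCard W hx)⟩
    have hreg := line_regular hG hM (hWT.trans hTM) hWc hpσ hpκ hr1
    refine ⟨le_bot_iff.1 ((inf_le_inf_left _ (centralizer_le hWA)).trans hreg.le), ?_⟩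
    obtain ⟨w, hw, hw1, hwp, hgen⟩ := exists_gen hWc
    refine Decomp.isNilpotent_of_fpf hpp hwp (sigmaCore_normal hG M (hTM (hWT hw))) ?_
    rwa [← hgen, centralizer_zpowers] at hreg
  · have hA2 : Nat.card A = p ^ 2 := by
      refine le_antisymm hle (not_lt.1 fun h => hr1 (pRankLE_of_sylow S fun B hBc hBe => ?_))
      have hBA : B.map T.subtype ≤ A := by
        rintro _ ⟨x, hx, rfl⟩
        exact ⟨x.2, (congrArg Subtype.val (hBe x hx) :)⟩
      have h1 : Nat.card B ≤ Nat.card A := by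
        rw [← card_map_of_injective (K := B) T.subtype_injective]
        exact Nat.le_of_dvd Nat.card_pos (card_dvd_of_le hBA)
      refine h1.trans ?_
      rw [hj] at h ⊢
      have hj1 : j < 2 := (Nat.pow_lt_pow_iff_right hpp.one_lt).1 h
      exact Nat.pow_le_pow_right hpp.pos (by omega)
    have hpt : p ∈ Cfsg.tau2 M := mem_tau_iff.2 ⟨hpσ, hr2, hr1⟩
    exact ⟨tau_fixed_eq_bot hG hM hpt hAM hAe hA2, tau_nilpotent hG hM hpt hAM hAe hA2⟩

end Cfsg.Agent.S1429
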