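import Cfsg.Statements.S1434
import Cfsg.Agent.Lib.CFun.OddKappaPair

set_option autoImplicit false
open Cfsg

namespace Cfsg.Agent.S1434

open Subgroup
open CfsgLib.Coprime (conjBy IsHallIn)
open CfsgLib.CFun CfsgLib.CFun.TauTwo CfsgLib.CFun.Kappa CfsgLib.CFun.Partner CfsgLib.CFun.Inter


/-- Let G be a minimal simple group of odd order, M a maximal subgroup with standard factorisation M = K U M_σ, K ≠ 1, K* = M_σ ∩ C_G(K), and M* a maximal subgroup with K = M*_σ ∩ C_G(K*) and K* a Hall κ(M*)-subgroup of M*. Then κ(M) = τ₁(M); K* is a Hall σ(M)-subgroup of M*; for non-identity x ∈ K and y ∈ K*, C_M(x), C_{M*}(y) and C_G(xy) all equal K K*; the set Ẑ of elements of K K* outside K ∪ K* meets no gMg⁻¹ with g ∉ M; and with k = #K, k* = #K*, the union of the conjugates of Ẑ has k·k*·(number of elements) = (k k* − k − k* + 1)·#G and more than #G / 2 elements. -/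
theorem result {G : Type*} [Group G] [Finite G] (hG : Cfsg.IsMinSimpleOddOrder G)
    (M : Subgroup G) (hM : IsCoatom M) (K U : Subgroup G) (hKU : Cfsg.IsSigmaDecomposition M K U) (hK1 : K ≠ ⊥) (Mstar : Subgroup G) (hMstar : IsCoatom Mstar)
    (hKst : K = Cfsg.sigmaCore Mstar ⊓ Subgroup.centralizer ((Cfsg.sigmaCore M ⊓ Subgroup.centralizer (K : Set G)) : Set G))
    (hKstH : Cfsg.IsPiHallOf (Cfsg.kappa Mstar) (Cfsg.sigmaCore M ⊓ Subgroup.centralizer (K : Set G)) Mstar) :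
    Cfsg.kappa M = Cfsg.tau1 M ∧ Cfsg.IsPiHallOf (Cfsg.sigma M) (Cfsg.sigmaCore M ⊓ Subgroup.centralizer (K : Set G)) Mstar ∧
      (∀ x ∈ K, x ≠ 1 → ∀ y ∈ (Cfsg.sigmaCore M ⊓ Subgroup.centralizer (K : Set G)), y ≠ 1 →
        M ⊓ Subgroup.centralizer ({x} : Set G) = K ⊔ (Cfsg.sigmaCore M ⊓ Subgroup.centralizer (K : Set G)) ∧ Mstar ⊓ Subgroup.centralizer ({y} : Set G) = K ⊔ (Cfsg.sigmaCore M ⊓ Subgroup.centralizer (K : Set G)) ∧
        Subgroup.centralizer ({x * y} : Set G) = K ⊔ (Cfsg.sigmaCore M ⊓ Subgroup.centralizer (K : Set G))) ∧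
      (∀ g : G, g ∉ M → ∀ z ∈ ((↑(K ⊔ (Cfsg.sigmaCore M ⊓ Subgroup.centralizer (K : Set G))) : Set G) \ ((K : Set G) ∪ ↑(Cfsg.sigmaCore M ⊓ Subgroup.centralizer (K : Set G)))), z ∉ M.map (MulAut.conj g).toMonoidHom) ∧
      Nat.card K * Nat.card ↥(Cfsg.sigmaCore M ⊓ Subgroup.centralizer (K : Set G)) * Set.ncard {a : G | ∃ g : G, ∃ z ∈ ((↑(K ⊔ (Cfsg.sigmaCore M ⊓ Subgroup.centralizer (K : Set G))) : Set G) \ ((K : Set G) ∪ ↑(Cfsg.sigmaCore M ⊓ Subgroup.centralizer (K : Set G)))), a = g * z * g⁻¹} =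
        (Nat.card K * Nat.card ↥(Cfsg.sigmaCore M ⊓ Subgroup.centralizer (K : Set G)) - Nat.card K - Nat.card ↥(Cfsg.sigmaCore M ⊓ Subgroup.centralizer (K : Set G)) + 1) * Nat.card G ∧
      Nat.card G < 2 * Set.ncard {a : G | ∃ g : G, ∃ z ∈ ((↑(K ⊔ (Cfsg.sigmaCore M ⊓ Subgroup.centralizer (K : Set G))) : Set G) \ ((K : Set G) ∪ ↑(Cfsg.sigmaCore M ⊓ Subgroup.centralizer (K : Set G)))), a = g * z * g⁻¹} := by
  have hK := hKU.hall
  obtain ⟨hKst', h1, h2, hne⟩ := of_hyp hG hM hK hK1 hMstar hKst hKstH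
  obtain ⟨t, W, ht, hWK, hWc⟩ := CfsgLib.CFun.Lines.exists_prime_line hK1
  obtain ⟨Us, ds⟩ := Decomp.exists_decomp hG hMstar hKstH
  refine ⟨kappa_eq_tau1 hG hM ⟨t, hK.2.1 t ht (hWc ▸ card_dvd_of_le hWK)⟩,
    ⟨hKstH.1, fun p hp hd => (sigmaCore_hall hG hM).1.2.1 p hp (hd.trans (card_dvd_of_le inf_le_left)),
      fun p hp hpσ => sigma_not_dvd_relIndex hG hM hK hK1 hMstar hKst hKstH hp hpσ⟩,
    fun x hx hx1 y hy hy1 => ⟨Decomp.centralizer_eq hG hM hKU hx hx1, ?_,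
      centralizer_mul_eq hG hM hK hK1 hMstar hKst hKstH hx hx1 hy hy1⟩,
    fun g hg z hz hzg => hg (mem_of_zhat_mem hG hM hK hK1 hz hzg), ?_,
    Zhat.card_lt_two_mul hG hM hK hK1⟩
  · rw [Decomp.centralizer_eq hG hMstar ds hy hy1, ← hKst', sup_comm]
  · have h := Zhat.ncard_orbit hG hM hK hK1
    have h' := Zhat.ncard_zhat hG hM hK
    set k := Nat.card K
    set ks := Nat.card ↥(Cfsg.sigmaCore M ⊓ centralizer (K : Set G))
    have e : k * ks - k - ks + 1 = (Zhat.zhat M K).ncard := by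
      have hpos : 0 < k * ks := Nat.mul_pos Nat.card_pos Nat.card_pos
      have hz : 0 < (Zhat.zhat M K).ncard :=
        (Set.ncard_pos (Set.toFinite _)).2 (Pair.zhat_nonempty hG hM hK hK1)
      omega
    rw [e, mul_comm (k * ks), mul_comm (Zhat.zhat M K).ncard]
    exact h

end Cfsg.Agent.S1434
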