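import Cfsg.Statements.S1441
import Cfsg.Agent.Lib.Coprime.Action

set_option autoImplicit false
open Cfsg

namespace Cfsg.Agent.S1441

open scoped commutatorElement

/-- Let G be a finite group, H a solvable subgroup and A a subgroup normalizing H. Suppose there is a chain H = H₀ ≥ H₁ ≥ ⋯ ≥ H_n = 1 of subgroups normal in H and normalized by A such that A acts trivially on each factor H_{i-1}/H_i (that is, [H_{i-1}, A] ≤ H_i). Then every prime dividing the index of C_A(H) in A divides the order of H. -/
theorem result {G : Type*} [Group G] [Finite G] (H A : Subgroup G) (hH : Group.IsSolvable H) (hA : (A ≤ Subgroup.normalizer (H : Set G)))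
    (n : ℕ) (c : Fin (n + 1) → Subgroup G) (hc0 : c 0 = H) (hcn : c (Fin.last n) = ⊥) (hanti : Antitone c)
    (hcN : ∀ i, H ≤ Subgroup.normalizer ((c i : Subgroup G) : Set G)) (hcA : ∀ i, A ≤ Subgroup.normalizer ((c i : Subgroup G) : Set G))
    (htriv : ∀ i : Fin n, ⁅c i.castSucc, A⁆ ≤ c i.succ) :
    ∀ p : ℕ, p.Prime → p ∣ (A ⊓ Subgroup.centralizer (H : Set G)).relIndex A → p ∣ Nat.card H := by
  intro p hp hdvd
  by_contra hpH
  haveI : Fact p.Prime := ⟨hp⟩
  obtain ⟨P⟩ : Nonempty (Sylow p ↥A) := inferInstance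
  have hP : (P : Subgroup ↥A) ≤ (A ⊓ Subgroup.centralizer (H : Set G)).subgroupOf A := by
    intro a ha
    obtain ⟨k, hk⟩ := IsPGroup.iff_orderOf.1 P.2 ⟨a, ha⟩
    rw [Subgroup.orderOf_mk] at hk
    have hcop : (orderOf (a : G)).Coprime (Nat.card H) := by
      rw [← Subgroup.orderOf_coe a] at hk
      rw [hk]
      exact (hp.coprime_iff_not_dvd.2 hpH).pow_left k
    have key : ∀ m : ℕ, ∀ i : Fin (n + 1), n - (i : ℕ) = m →
        ∀ h ∈ c i, (a : G) * h * (a : G)⁻¹ = h := by
      intro m
      induction m with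
      | zero =>
        intro i hi h hh
        have : i = Fin.last n := Fin.ext (by have := i.isLt; simp [Fin.last]; omega)
        rw [this, hcn] at hh
        rw [Subgroup.mem_bot.1 hh]; group
      | succ m ih =>
        intro i hi h hh
        have hlt : (i : ℕ) < n := by omega
        have hu : ⁅h, (a : G)⁆ ∈ c (Fin.succ ⟨i, hlt⟩) :=
          htriv ⟨i, hlt⟩ (Subgroup.commutator_mem_commutator hh a.2)
        have hfix := ih _ (by simp only [Fin.val_succ]; omega) _
          ((c _).inv_mem hu)
        have hmem : ⁅h, (a : G)⁆⁻¹ ∈ H := hc0 ▸ hanti (Fin.zero_le _) ((c _).inv_mem hu)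
        have h1 := CfsgLib.Coprime.eq_one_of_conj_eq_mul (a := (a : G)) (x := h)
          (u := ⁅h, (a : G)⁆⁻¹) (by rw [commutatorElement_def]; group) hfix
          (hcop.coprime_dvd_right (by
            simpa using Subgroup.orderOf_dvd_natCard (s := H) hmem))
        rw [inv_eq_one, commutatorElement_eq_one_iff_mul_comm] at h1
        rw [← h1, mul_inv_cancel_right]
    refine Subgroup.mem_subgroupOf.2 ⟨a.2, Subgroup.mem_centralizer_iff.2 fun h hh => ?_⟩
    have h2 := key n 0 (by simp) h (hc0.symm ▸ hh)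
    calc h * (a : G) = ((a : G) * h * (a : G)⁻¹) * a := by rw [h2]
      _ = (a : G) * h := inv_mul_cancel_right _ _
  exact P.not_dvd_index (hdvd.trans (Subgroup.index_dvd_of_le hP))
end Cfsg.Agent.S1441
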