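import Cfsg.Statements.S1443
import Cfsg.Agent.Lib.Coprime.StabilizeSelf
import Cfsg.Agent.Lib.PGroup.OmegaOdd

set_option autoImplicit false
open Cfsg

namespace Cfsg.Agent.S1443

/-- Let G be a finite group, p an odd prime, H a p-subgroup, E an elementary abelian subgroup of H, and A a subgroup of order coprime to p normalizing H. If A centralizes every element of order p in H ∩ C_G(E), then A centralizes H. -/
theorem result {G : Type*} [Group G] [Finite G] (p : ℕ) [Fact p.Prime] (hp : p ≠ 2) (H E A : Subgroup G) (hH : IsPGroup p H) (hE : E ≤ H) (hEe : Cfsg.IsElementaryAbelian p E)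
    (hA : (A ≤ Subgroup.normalizer (H : Set G))) (hcop : (Nat.card A).Coprime p)
    (hfix : ∀ x ∈ (H ⊓ Subgroup.centralizer (E : Set G)), orderOf x = p → A ≤ Subgroup.centralizer ({x} : Set G)) :
    A ≤ Subgroup.centralizer (H : Set G) := by
  have hcop' : (Nat.card A).Coprime (Nat.card H) := by
    obtain ⟨k, hk⟩ := IsPGroup.iff_card.1 hH
    rw [hk]; exact hcop.pow_right k
  haveI := hEe.1
  have hfix1 : ∀ x ∈ H ⊓ Subgroup.centralizer (E : Set G), x ^ p = 1 → ∀ a ∈ A, Commute a x := by
    intro x hx hxp a ha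
    by_cases hx1 : x = 1
    · rw [hx1]; exact Commute.one_right a
    · exact (Subgroup.mem_centralizer_iff.1 (hfix x hx (orderOf_eq_prime hxp hx1) ha) x rfl).symm
  have hEC : E ≤ H ⊓ Subgroup.centralizer (A : Set G) := fun e he =>
    ⟨hE he, Subgroup.mem_centralizer_iff.2 fun a ha =>
      hfix1 e ⟨hE he, Subgroup.le_centralizer E he⟩ (hEe.2 e he) a ha⟩
  refine CfsgLib.Coprime.le_centralizer_of_fixed_selfCentralizing hH.isNilpotent hA hcop' ?_
  have h1 : H ⊓ Subgroup.centralizer ((H ⊓ Subgroup.centralizer (A : Set G) : Subgroup G) : Set G) ≤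
      H ⊓ Subgroup.centralizer (E : Set G) :=
    inf_le_inf_left H (Subgroup.centralizer_le hEC)
  refine h1.trans (le_inf inf_le_left fun x hx => Subgroup.mem_centralizer_iff.2 fun a ha => ?_)
  have hAn : a ∈ Subgroup.normalizer ((H ⊓ Subgroup.centralizer (E : Set G) : Subgroup G) : Set G) := by
    refine CfsgLib.Coprime.inf_le_normalizer hA
      (le_trans (fun b hb => ?_) (CfsgLib.Coprime.centralizer_le_normalizer_self E) |>.trans
        (CfsgLib.Coprime.normalizer_le_normalizer_centralizer E)) ha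
    exact Subgroup.mem_centralizer_iff.2 fun e he =>
      (Subgroup.mem_centralizer_iff.1 (hEC he).2 b hb).symm
  refine CfsgLib.PGroup.commute_of_fix_omega_odd hp (hH.to_le inf_le_left) hAn ?_
    (fun y hy hyp => hfix1 y hy hyp a ha) x hx
  exact fun h => (Nat.Prime.coprime_iff_not_dvd (Fact.out)).1 hcop.symm
    (h.trans (Subgroup.orderOf_dvd_natCard (s := A) ha))
end Cfsg.Agent.S1443
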