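import Cfsg.Statements.S1447
import Cfsg.Agent.Lib.CFun.OddMetacyclicAction

set_option autoImplicit false
open Cfsg
open scoped commutatorElement

namespace Cfsg.Agent.S1447

/-- Let G be a finite group, p an odd prime, R a metacyclic p-subgroup and A a subgroup of order coprime to p normalizing R. Then [R, A] is abelian; R is generated by [R, A] and R ∩ C_G(A), which meet trivially; and if R is non-abelian and A does not centralize R, then [R, A] and R ∩ C_G(A) are nontrivial cyclic groups and [R, R] ≤ [R, A]. -/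
theorem result {G : Type*} [Group G] [Finite G] (p : ℕ) [Fact p.Prime] (hp : p ≠ 2) (R A : Subgroup G) (hR : IsPGroup p R) (hRm : Cfsg.IsMetacyclic R)
    (hA : (A ≤ Subgroup.normalizer (R : Set G))) (hcop : (Nat.card A).Coprime p) :
    IsMulCommutative ↥⁅R, A⁆ ∧ ⁅R, A⁆ ⊔ (R ⊓ Subgroup.centralizer (A : Set G)) = R ∧ ⁅R, A⁆ ⊓ (R ⊓ Subgroup.centralizer (A : Set G)) = ⊥ ∧
      (¬ IsMulCommutative R → ¬ A ≤ Subgroup.centralizer (R : Set G) →
        ⁅R, A⁆ ≠ ⊥ ∧ IsCyclic ↥⁅R, A⁆ ∧ (R ⊓ Subgroup.centralizer (A : Set G)) ≠ ⊥ ∧ IsCyclic ↥(R ⊓ Subgroup.centralizer (A : Set G)) ∧ ⁅R, R⁆ ≤ ⁅R, A⁆) := by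
  obtain ⟨n, hn⟩ := IsPGroup.iff_card.1 hR
  have hcop' : (Nat.card A).Coprime (Nat.card R) := hn ▸ hcop.pow_right n
  haveI : Group.IsNilpotent R := hR.isNilpotent
  have hsolv : Group.IsSolvable A ∨ Group.IsSolvable R :=
    Or.inr (CfsgLib.Coprime.isSolvable_of_isNilpotent inferInstance)
  set Q := ⁅R, A⁆ with hQ
  set C := R ⊓ Subgroup.centralizer (A : Set G) with hC
  have hsup : Q ⊔ C = R := CfsgLib.Coprime.commutator_sup_centralizer hA hcop' hsolv
  have hQR : Q ≤ R := hsup ▸ le_sup_left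
  have hQQ : ⁅Q, A⁆ = Q := CfsgLib.Coprime.commutator_commutator_eq hA hcop' hsolv
  have hQn : A ≤ Subgroup.normalizer (Q : Set G) := Subgroup.normalizer_commutator_ge_right R A
  have hRn : R ≤ Subgroup.normalizer (Q : Set G) := Subgroup.normalizer_commutator_ge_left R A
  have hQm : Cfsg.IsMetacyclic Q := CfsgLib.RankTwoThree.metacyclic_of_surjective
    (Subgroup.subgroupOfEquivOfLe hQR).toMonoidHom (Subgroup.subgroupOfEquivOfLe hQR).surjective
    (CfsgLib.CFun.MetaAct.metacyclic_subgroup hRm (Q.subgroupOf R))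
  have hQc : IsMulCommutative Q :=
    CfsgLib.CFun.MetaAct.isMulCommutative_of_commutator_eq hp (hR.to_le hQR) hQm hQn hcop hQQ
  have hinf : Q ⊓ C = ⊥ := by
    have h := CfsgLib.Coprime.centralizer_inf_commutator_eq_bot hQc hQn
      (hcop'.coprime_dvd_right (Subgroup.card_dvd_of_le hQR))
    rw [hQQ] at h
    refine le_bot_iff.1 (fun x hx => h.le ⟨⟨hx.1, hx.2.2⟩, hx.1⟩)
  refine ⟨hQc, hsup, hinf, fun hna hAC => ?_⟩
  have hQ1 : Q ≠ ⊥ := fun h => hAC (by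
    rwa [← Subgroup.commutator_eq_bot_iff_le_centralizer, Subgroup.commutator_comm])
  have hC1 : C ≠ ⊥ := fun h => hna (by
    rw [h, sup_bot_eq] at hsup
    exact hsup ▸ hQc)
  have hCc : IsCyclic C := CfsgLib.CFun.MetaAct.isCyclic_of_avoid hp hR hRm inf_le_left hQR
    ((inf_comm _ _).trans hinf) hQ1
  refine ⟨hQ1, CfsgLib.CFun.MetaAct.isCyclic_of_avoid hp hR hRm hQR inf_le_left hinf hC1, hC1, hCc,
    ?_⟩
  have hcomm : ∀ x ∈ C, ∀ y ∈ C, x * y = y * x := fun x hx y hy => by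
    obtain ⟨g, hg⟩ := hCc.exists_generator
    obtain ⟨i, hi⟩ := hg ⟨x, hx⟩
    obtain ⟨j, hj⟩ := hg ⟨y, hy⟩
    rw [show x = ((g : G)) ^ i from (congrArg Subtype.val hi).symm,
      show y = ((g : G)) ^ j from (congrArg Subtype.val hj).symm]
    exact (Commute.zpow_zpow_self (g : G) i j).eq
  rw [Subgroup.commutator_le]
  intro a ha b hb
  obtain ⟨qa, hqa, ca, hca, rfl⟩ := CfsgLib.Coprime.mem_sup_exists
    ((inf_le_left : C ≤ R).trans hRn) (hsup.ge ha)
  obtain ⟨qb, hqb, cb, hcb, rfl⟩ := CfsgLib.Coprime.mem_sup_exists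
    ((inf_le_left : C ≤ R).trans hRn) (hsup.ge hb)
  have hq : ∀ {c q : G}, c ∈ C → q ∈ Q → c * q * c⁻¹ ∈ Q := fun hc hq =>
    CfsgLib.Coprime.conj_mem_of_le_normalizer hRn hc.1 hq
  rw [commutatorElement_def,
    show qa * ca * (qb * cb) * (qa * ca)⁻¹ * (qb * cb)⁻¹ =
      qa * (ca * qb * ca⁻¹) * ((ca * cb * ca⁻¹) * qa⁻¹ * (ca * cb * ca⁻¹)⁻¹) *
        ((ca * cb * ca⁻¹) * cb⁻¹) * qb⁻¹ by group,
    hcomm _ hca _ hcb, mul_inv_cancel_right, mul_inv_cancel, mul_one]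
  exact mul_mem (mul_mem (mul_mem hqa (hq hca hqb)) (hq hcb (inv_mem hqa))) (inv_mem hqb)

end Cfsg.Agent.S1447
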