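import Cfsg.Agent.Lib.CFun.OddPLengthOne
import Cfsg.Statements.S1450
-- import your own Cfsg.Agent.* helpers here

set_option autoImplicit false
open Cfsg

namespace Cfsg.Agent.S1450

/-- Let G be a solvable group of odd order, p a prime dividing its order with G having no elementary abelian subgroup of order p ^ 3. Then every prime dividing the index of O_{p'}(G) is at most p; if p = 3 or p is the smallest prime divisor of #G then G has a normal p-complement; the derived subgroup G' has a normal p-complement; every subgroup of G' of order coprime to p lies in O_{p'}(G'); and G/O_{p',p}(G) is abelian of order coprime to p. -/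
theorem result {G : Type*} [Group G] [Finite G] [Group.IsSolvable G] (hodd : Odd (Nat.card G)) (p : ℕ) [Fact p.Prime] (hpG : p ∣ Nat.card G) (hr : Cfsg.PRankLE p 2 G) :
    (∀ q : ℕ, q.Prime → q ∣ (Cfsg.pPrimeCore p G).index → q ≤ p) ∧
      ((p = 3 ∨ ∀ q : ℕ, q.Prime → q ∣ Nat.card G → p ≤ q) → Cfsg.HasNormalPComplement p G) ∧
      Cfsg.HasNormalPComplement p ↥(commutator G) ∧
      (∀ L : Subgroup ↥(commutator G), (Nat.card L).Coprime p → L ≤ Cfsg.pPrimeCore p ↥(commutator G)) ∧
      commutator G ≤ Cfsg.pPrimePCore p G ∧ ((Cfsg.pPrimePCore p G).index).Coprime p := by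
  have hp : p ≠ 2 := fun h => by
    subst h
    exact Nat.not_even_iff_odd.2 hodd (even_iff_two_dvd.2 hpG)
  set O := Cfsg.pPrimeCore p G with hO
  haveI : O.Normal := Subgroup.sSup_normal _ fun _ h => h.1
  have hOc : ¬ p ∣ Nat.card O := CfsgLib.Coprime.pPrimeCore_not_dvd Fact.out
  have hle := fun (q : ℕ) (hq : q.Prime) (hd : q ∣ O.index) =>
    CfsgLib.CFun.le_of_dvd_index_pPrimeCore hp hodd hr hq hd
  obtain ⟨hcomm, hidx⟩ := CfsgLib.CFun.commutator_le_pPrimePCore hp hodd hr
  obtain ⟨hcp, -⟩ := CfsgLib.CFun.rankTwo_data hp hodd hr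
  -- the derived group modulo `O`
  have hq' : IsPGroup p (↥(commutator G) ⧸ O.subgroupOf (commutator G)) := by
    intro y
    obtain ⟨x, rfl⟩ := QuotientGroup.mk'_surjective _ y
    have hmap : ∀ g ∈ commutator G, QuotientGroup.mk' O g ∈ commutator (G ⧸ O) := fun g hg => by
      have h1 := Subgroup.mem_map_of_mem (QuotientGroup.mk' O) hg
      rw [_root_.commutator_def, Subgroup.map_commutator] at h1
      rw [_root_.commutator_def]
      exact Subgroup.commutator_mono le_top le_top h1
    have hx := hmap (x : G) x.2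
    obtain ⟨k, hk⟩ := hcp ⟨_, hx⟩
    refine ⟨k, (QuotientGroup.eq_one_iff _).2 ?_⟩
    show ((x ^ p ^ k : ↥(commutator G)) : G) ∈ O
    rw [Subgroup.coe_pow, ← QuotientGroup.eq_one_iff]
    exact congrArg Subtype.val hk
  have hNd : ¬ p ∣ Nat.card (O.subgroupOf (commutator G)) := fun h => hOc (h.trans (by
    rw [← Subgroup.card_map_of_injective (commutator G).subtype_injective]
    exact Subgroup.card_dvd_of_le (by rintro _ ⟨a, ha, rfl⟩; exact ha)))
  refine ⟨hle, fun h => CfsgLib.CFun.normalPComplement_of_quotient O hOc ?_,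
    CfsgLib.CFun.normalPComplement_of_quotient _ hNd hq', fun L hL => ?_, hcomm, ?_⟩
  · refine IsPGroup.of_card (n := O.index.primeFactorsList.length) ?_
    rw [← Subgroup.index_eq_card]
    refine Nat.eq_prime_pow_of_unique_prime_dvd Subgroup.index_ne_zero_of_finite fun {q} hq hd => ?_
    have hqG : q ∣ Nat.card G := hd.trans (Subgroup.index_dvd_card O)
    rcases h with h3 | h3
    · subst h3
      have h1 := hle q hq hd
      have h2 := hq.two_le
      interval_cases q
      · exact absurd (even_iff_two_dvd.2 hqG) (Nat.not_even_iff_odd.2 hodd)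
      · rfl
    · exact le_antisymm (hle q hq hd) (h3 q hq hqG)
  · refine le_trans (fun x hx => ?_) (CfsgLib.Coprime.le_pPrimeCore_of_not_dvd Fact.out hNd)
    rw [← QuotientGroup.eq_one_iff]
    obtain ⟨k, hk⟩ := hq' (QuotientGroup.mk x)
    exact orderOf_eq_one_iff.1 (Nat.eq_one_of_dvd_coprimes (hL.pow_right k)
      ((orderOf_map_dvd (QuotientGroup.mk' (O.subgroupOf (commutator G))) x).trans
        (Subgroup.orderOf_dvd_natCard L hx)) (orderOf_dvd_of_pow_eq_one hk))
  · rw [Cfsg.pPrimePCore, Subgroup.index_comap_of_surjective _ (QuotientGroup.mk'_surjective _)]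
    exact ((Fact.out : p.Prime).coprime_iff_not_dvd.2 hidx).symm

end Cfsg.Agent.S1450
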