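import Cfsg.Statements.S1454
import Cfsg.Agent.Lib.CFun.OddNarrowAut
import Cfsg.Agent.Lib.CFun.OddRankTwoAction
import Cfsg.Agent.S1449

set_option autoImplicit false
open Cfsg
open scoped commutatorElement

namespace Cfsg.Agent.S1454

/-- Let G be a finite group, p an odd prime, R a narrow p-subgroup and A a solvable subgroup of odd order normalizing R with A ∩ C_G(R) = 1. Then [A, A] ≤ O_p(A) and the index of O_p(A) in A is coprime to p; if R has an elementary abelian subgroup of order p ^ 3 then the order of every element of A of order coprime to p divides p − 1; and if the order of A is a prime not dividing p(p − 1), then 2·#A divides p + 1, and if in addition [R, A] = R and R is non-abelian then #R = p ^ 3. -/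
theorem result {G : Type*} [Group G] [Finite G] (p : ℕ) [Fact p.Prime] (hp : p ≠ 2) (R A : Subgroup G) (hR : IsPGroup p R) (hRn : Cfsg.IsNarrow p R)
    (hA : (A ≤ Subgroup.normalizer (R : Set G))) (hAs : Group.IsSolvable A) (hAodd : Odd (Nat.card A)) (hfaith : A ⊓ Subgroup.centralizer (R : Set G) = ⊥) :
    (commutator ↥A ≤ Cfsg.pCore p ↥A ∧ ((Cfsg.pCore p ↥A).index).Coprime p) ∧
      (¬ Cfsg.PRankLE p 2 R → ∀ a ∈ A, (orderOf a).Coprime p → orderOf a ∣ p - 1) ∧
      ((Nat.card A).Prime → ¬ Nat.card A ∣ p * (p - 1) →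
        2 * Nat.card A ∣ p + 1 ∧ (⁅R, A⁆ = R → ¬ IsMulCommutative R → Nat.card R = p ^ 3)) := by
  have hkill : ∀ x ∈ A, x ∈ Subgroup.centralizer (R : Set G) → x = 1 := fun x hx hxc =>
    Subgroup.mem_bot.1 (hfaith ▸ ⟨hx, hxc⟩)
  have hbig : ∀ a ∈ A, ¬ Cfsg.PRankLE p 2 R → (orderOf a).Coprime p → a ^ (p - 1) = 1 := fun a ha hr hap =>
    hkill _ (A.pow_mem ha _) (CfsgLib.CFun.Narrow.scalarless_centralizes hp hR hr hRn hA
      (Or.inr ⟨a, ha, rfl⟩) (hap.coprime_dvd_left (orderOf_pow_dvd _)))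
  have hder : IsPGroup p ↥⁅A, A⁆ := by
    by_cases hr : Cfsg.PRankLE p 2 R
    · exact Cfsg.Agent.S1449.result p hp R A hR hr hA hAs hAodd hfaith
    · refine CfsgLib.CFun.isPGroup_of_no_coprime fun x hx hxp => hkill x (Subgroup.commutator_le_self A hx)
        (CfsgLib.CFun.Narrow.scalarless_centralizes hp hR hr hRn hA (Or.inl hx) hxp)
  refine ⟨?_, fun hr a ha hap => orderOf_dvd_of_pow_eq_one (hbig a ha hr hap), fun hq hqd => ?_⟩
  · have hc : IsPGroup p ↥(commutator A) := by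
      have h2 : (⁅A, A⁆ : Subgroup G) = (commutator A).map A.subtype := by
        rw [_root_.commutator_def, Subgroup.map_commutator, ← MonoidHom.range_eq_map,
          Subgroup.range_subtype]
      exact (h2 ▸ hder).of_equiv
        ((commutator A).equivMapOfInjective A.subtype A.subtype_injective).symm
    have hle : commutator A ≤ Cfsg.pCore p A := CfsgLib.PGroup.le_pCore inferInstance hc
    refine ⟨hle, Nat.Coprime.symm ((Fact.out : p.Prime).coprime_iff_not_dvd.2 fun hd => ?_)⟩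
    obtain ⟨P⟩ : Nonempty (Sylow p A) := inferInstance
    have hPn : ((P : Subgroup A) ⊔ Cfsg.pCore p A).Normal :=
      CfsgLib.CFun.MetaAct.normal_of_commutator_le (hle.trans le_sup_right)
    haveI := CfsgLib.Coprime.pCore_normal' (G := A) p
    have hPc : (P : Subgroup A) ≤ Cfsg.pCore p A := le_sup_left.trans
      (CfsgLib.PGroup.le_pCore hPn (P.2.to_sup_of_normal_right (CfsgLib.PGroup.isPGroup_pCore p A)))
    exact P.not_dvd_index (hd.trans (Subgroup.index_dvd_of_le hPc))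
  haveI : Fact (Nat.card A).Prime := ⟨hq⟩
  obtain ⟨a, ha⟩ := exists_prime_orderOf_dvd_card' (G := A) (Nat.card A) dvd_rfl
  have hqp : Nat.card A ≠ p := fun e => hqd (e ▸ Dvd.intro _ rfl)
  have hqcop : (Nat.card A).Coprime p := (Nat.coprime_primes hq Fact.out).2 hqp
  have hr : Cfsg.PRankLE p 2 R := by
    by_contra hr
    have h1 := orderOf_dvd_of_pow_eq_one (hbig (a : G) a.2 hr (by rw [Subgroup.orderOf_coe, ha]; exact hqcop))
    rw [Subgroup.orderOf_coe, ha] at h1
    exact hqd (h1.trans (Dvd.intro_left _ rfl))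
  have hinj : Function.Injective (CfsgLib.CFun.MetaAct.operHom hA) :=
    (injective_iff_map_eq_one _).2 fun x hx => Subtype.ext (hkill x x.2
      (Subgroup.mem_centralizer_iff.2 fun y hy => by
        have h1 : ((x : G) * y * (x : G)⁻¹) = y := congrArg Subtype.val (DFunLike.congr_fun hx (⟨y, hy⟩ : R))
        calc y * (x : G) = (x : G) * y * (x : G)⁻¹ * x := by rw [h1]
          _ = (x : G) * y := by group))
  have hdvd := (Cfsg.Agent.S0640.result hp hR hr (Nat.card A) hq hqp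
    (Subgroup.card_dvd_of_injective _ hinj)).1
  have hq1 : Nat.card A ∣ p + 1 := by
    rw [show p ^ 2 - 1 = (p + 1) * (p - 1) by simpa using Nat.sq_sub_sq p 1] at hdvd
    exact (hq.dvd_mul.1 hdvd).resolve_right fun h => hqd (h.trans (Dvd.intro_left _ rfl))
  refine ⟨Nat.Coprime.mul_dvd_of_dvd_of_dvd (Nat.Coprime.symm (hq.coprime_iff_not_dvd.2 fun h => ?_))
    (even_iff_two_dvd.1 ((Fact.out : p.Prime).odd_of_ne_two hp).add_one) hq1, fun hRA hna => ?_⟩
  · have h2 := (Nat.prime_dvd_prime_iff_eq hq Nat.prime_two).1 h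
    exact Nat.not_even_iff_odd.2 hAodd (h2 ▸ even_two)
  haveI : Nontrivial R := by
    by_contra hnt
    rw [not_nontrivial_iff_subsingleton] at hnt
    exact hna ⟨⟨fun _ _ => Subsingleton.elim _ _⟩⟩
  obtain ⟨-, h⟩ := CfsgLib.CFun.RankTwoMoves.structure_of_moves hp hR hr
    (Θ := (CfsgLib.CFun.MetaAct.operHom hA).range) (hAodd.of_dvd_nat (Subgroup.card_range_dvd _))
    (hqcop.coprime_dvd_left (Subgroup.card_range_dvd _))
    (CfsgLib.CFun.MetaAct.moves_of_commutator_eq hA hRA)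
  obtain ⟨E, z, ζ, htop, hzC, -, hE3, hexp, hζz, hζo, hEE⟩ := h.resolve_left hna
  have hzc : ∀ e ∈ E, Commute e z := fun e he => Subgroup.mem_centralizer_iff.1 hzC e he
  haveI hEn : E.Normal := Subgroup.normalizer_eq_top_iff.1 (eq_top_iff.2 (htop ▸ sup_le
    Subgroup.le_normalizer ((Subgroup.zpowers_le.2 hzC).trans
      (CfsgLib.Coprime.centralizer_le_normalizer_self E))))
  have hζE : ζ ∈ E := Subgroup.commutator_le_self E (hEE ▸ Subgroup.mem_zpowers ζ)
  have hE : ∀ x : R, x ^ p = 1 → x ∈ E := by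
    intro x hx
    obtain ⟨e, he, _, ⟨i, rfl⟩, rfl⟩ :=
      CfsgLib.CFun.MetaAct.exists_mul_of_normal_left (htop.ge (Subgroup.mem_top x))
    refine mul_mem he ?_
    show z ^ i ∈ E
    have hzp : (z ^ i) ^ p = 1 := by
      rw [((hzc e he).zpow_right i).mul_pow, hexp e he, one_mul] at hx
      exact hx
    have hW : Nat.card ↥(Subgroup.zpowers ζ ⊔ Subgroup.zpowers (z ^ i)) ≤ p := by
      refine CfsgLib.MetacyclicOmega.card_pow_eq_one_le (A := Subgroup.zpowers z) _
        (sup_le (Subgroup.zpowers_le.2 hζz) (Subgroup.zpowers_le.2 (Subgroup.zpow_mem_zpowers z i))) ?_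
      intro w hw
      refine Subgroup.closure_induction (p := fun w _ => w ^ p = 1 ∧ w ∈ Subgroup.zpowers z)
        (k := ({ζ, z ^ i} : Set R)) ?_ ⟨one_pow p, one_mem _⟩ ?_ ?_ ?_ |>.1
      · rintro w (rfl | rfl)
        · exact ⟨hζo ▸ pow_orderOf_eq_one _, hζz⟩
        · exact ⟨hzp, Subgroup.zpow_mem_zpowers z i⟩
      · rintro u v - - ⟨hu, hu'⟩ ⟨hv, hv'⟩
        obtain ⟨j, rfl⟩ := hu'
        obtain ⟨k, rfl⟩ := hv'
        refine ⟨?_, mul_mem (Subgroup.zpow_mem_zpowers z j) (Subgroup.zpow_mem_zpowers z k)⟩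
        show (z ^ j * z ^ k) ^ p = 1
        rw [(Commute.zpow_zpow_self z j k).mul_pow, hu, hv, one_mul]
      · rintro u - ⟨hu, hu'⟩
        exact ⟨by rw [inv_pow, hu, inv_one], inv_mem hu'⟩
      · refine (sup_le ?_ ?_ : Subgroup.zpowers ζ ⊔ Subgroup.zpowers (z ^ i) ≤ _) hw
        · exact Subgroup.zpowers_le.2 (Subgroup.subset_closure (Or.inl rfl))
        · exact Subgroup.zpowers_le.2 (Subgroup.subset_closure (Or.inr rfl))
    exact (Subgroup.zpowers_le.2 hζE) ((Subgroup.eq_of_le_of_card_ge le_sup_left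
      (by rw [Nat.card_zpowers, hζo]; exact hW)).ge (Subgroup.mem_sup_right (Subgroup.mem_zpowers _)))
  -- the operators act trivially on the cyclic quotient
  set Θ := (CfsgLib.CFun.MetaAct.operHom hA).range
  have hmap : ∀ θ ∈ Θ, E.map (θ : R ≃* R).toMonoidHom = E := fun θ _ => by
    refine Subgroup.eq_of_le_of_card_ge ?_ (Subgroup.card_map_of_injective (MulEquiv.injective θ)).ge
    rintro _ ⟨x, hx, rfl⟩
    refine hE _ ?_
    show θ x ^ p = 1
    rw [← map_pow, hexp x hx, map_one]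
  haveI : IsCyclic (↥R ⧸ E) := by
    refine isCyclic_of_surjective ((QuotientGroup.mk' E).comp (Subgroup.zpowers z).subtype) fun y => ?_
    obtain ⟨y, rfl⟩ := QuotientGroup.mk'_surjective E y
    obtain ⟨e, he, v, hv, rfl⟩ :=
      CfsgLib.CFun.MetaAct.exists_mul_of_normal_left (htop.ge (Subgroup.mem_top y))
    refine ⟨⟨v, hv⟩, ?_⟩
    rw [map_mul, show QuotientGroup.mk' E e = 1 from (QuotientGroup.eq_one_iff e).2 he, one_mul]
    rfl
  set φ : A →* MulAut (↥R ⧸ E) :=
    (CfsgLib.CFun.MetaAct.quotHom Θ E hmap).comp (CfsgLib.CFun.MetaAct.operHom hA).rangeRestrict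
  have hφ : ∀ y : A, φ y = 1 := fun y => by
    refine orderOf_eq_one_iff.1 (Nat.eq_one_of_dvd_coprimes ?_ (orderOf_dvd_natCard (φ y))
      ((orderOf_map_dvd φ y).trans (orderOf_dvd_natCard y)))
    obtain ⟨n, hn⟩ := IsPGroup.iff_card.1 (hR.to_quotient E)
    rw [Nat.card_congr (IsCyclic.mulAutMulEquiv (↥R ⧸ E)).toEquiv, hn, Nat.card_eq_fintype_card,
      ZMod.card_units_eq_totient]
    rcases n with _ | n
    · rw [pow_zero, Nat.totient_one]; exact Nat.coprime_one_left _
    rw [Nat.totient_prime_pow Fact.out n.succ_pos]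
    exact Nat.Coprime.mul_left (hqcop.symm.pow_left _) (Nat.Coprime.symm (hq.coprime_iff_not_dvd.2
      fun h => hqd (h.trans (Dvd.intro_left _ rfl))))
  have hall : R ≤ E.map R.subtype := by
    conv_lhs => rw [← hRA]
    rw [Subgroup.commutator_le]
    intro r hr b hb
    have h1 : ((CfsgLib.CFun.MetaAct.operHom hA ⟨b, hb⟩ (⟨r, hr⟩⁻¹ : R) : R) : ↥R ⧸ E) = ((⟨r, hr⟩⁻¹ : R) : ↥R ⧸ E) :=
      DFunLike.congr_fun (hφ ⟨b, hb⟩) ((⟨r, hr⟩⁻¹ : R) : ↥R ⧸ E)
    rw [eq_comm, QuotientGroup.eq] at h1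
    refine ⟨_, h1, ?_⟩
    show (r⁻¹)⁻¹ * (b * r⁻¹ * b⁻¹) = _
    rw [commutatorElement_def]
    group
  have h1 := Subgroup.card_le_of_le hall
  rw [Subgroup.card_map_of_injective R.subtype_injective, hE3] at h1
  exact le_antisymm h1 (hE3 ▸ Nat.card_le_card_of_injective _ E.subtype_injective)

end Cfsg.Agent.S1454
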