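import Cfsg.Statements.S1455
import Cfsg.Agent.Lib.CFun.OddNarrowPLength
import Cfsg.Agent.Lib.CFun.OddUniqueBase

set_option autoImplicit false
open Cfsg

namespace Cfsg.Agent.S1455

/-- Let G be a solvable group of odd order, p a prime dividing its order, and S a Sylow p-subgroup of G that is narrow; if S has an elementary abelian subgroup of order p ^ 3 assume also G = O_{p',p,p'}(G). Then every prime dividing the index of O_{p'}(G) is at most p; if p = 3 or p is the smallest prime divisor of #G then G has a normal p-complement; G' has a normal p-complement; every subgroup of G' of order coprime to p lies in O_{p'}(G'); and G' ≤ O_{p',p}(G) with the index of O_{p',p}(G) coprime to p. -/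
theorem result {G : Type*} [Group G] [Finite G] [Group.IsSolvable G] (hodd : Odd (Nat.card G)) (p : ℕ) [Fact p.Prime] (hpG : p ∣ Nat.card G) (S : Sylow p G) (hS : Cfsg.IsNarrow p ↥(S : Subgroup G))
    (hpl : ¬ Cfsg.PRankLE p 2 ↥(S : Subgroup G) → Cfsg.PLengthLE p 1 G) :
    (∀ q : ℕ, q.Prime → q ∣ (Cfsg.pPrimeCore p G).index → q ≤ p) ∧
      ((p = 3 ∨ ∀ q : ℕ, q.Prime → q ∣ Nat.card G → p ≤ q) → Cfsg.HasNormalPComplement p G) ∧
      Cfsg.HasNormalPComplement p ↥(commutator G) ∧
      (∀ L : Subgroup ↥(commutator G), (Nat.card L).Coprime p → L ≤ Cfsg.pPrimeCore p ↥(commutator G)) ∧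
      commutator G ≤ Cfsg.pPrimePCore p G ∧ ((Cfsg.pPrimePCore p G).index).Coprime p := by
  have hp : p ≠ 2 := fun h => by
    subst h
    exact Nat.not_even_iff_odd.2 hodd (even_iff_two_dvd.2 hpG)
  by_cases hr : Cfsg.PRankLE p 2 ↥(S : Subgroup G)
  · have hrG : Cfsg.PRankLE p 2 G := fun A hAc hAp => by
      obtain ⟨P, hP⟩ := (show IsPGroup p A from fun a => ⟨1, Subtype.ext (by rw [pow_one]; exact hAp a a.2)⟩).exists_le_sylow
      haveI := hAc
      set e := P.equiv S
      have h1 := hr ((A.subgroupOf (P : Subgroup G)).map e.toMonoidHom)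
        (by haveI : IsMulCommutative (A.subgroupOf (P : Subgroup G)) :=
              ⟨⟨fun a b => Subtype.ext (Subtype.ext (show ((a : (P : Subgroup G)) : G) * (b : (P : Subgroup G)) = (b : (P : Subgroup G)) * (a : (P : Subgroup G)) from congrArg Subtype.val
                (hAc.is_comm.comm (⟨_, a.2⟩ : A) ⟨_, b.2⟩)))⟩⟩
            infer_instance)
        (by rintro _ ⟨a, ha, rfl⟩; rw [← map_pow, show a ^ p = 1 from Subtype.ext (hAp _ ha), map_one])
      rwa [Subgroup.card_map_of_injective e.injective,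
        Nat.card_congr (Subgroup.subgroupOfEquivOfLe hP).toEquiv] at h1
    obtain ⟨hcp, -⟩ := CfsgLib.CFun.rankTwo_data hp hodd hrG
    have hle := fun (q : ℕ) (hq : q.Prime) (hd : q ∣ (Cfsg.pPrimeCore p G).index) =>
      CfsgLib.CFun.le_of_dvd_index_pPrimeCore hp hodd hrG hq hd
    obtain ⟨⟨h5, h6⟩, h3, h4, h2⟩ := CfsgLib.CFun.Narrow.narrow_consequences hp hcp hle
    exact ⟨hle, h2 hodd, h3, h4, h5, h6⟩
  obtain ⟨hcp, hexp⟩ := CfsgLib.CFun.Narrow.narrow_data hp S hS hr (hpl hr)
  have hle : ∀ q : ℕ, q.Prime → q ∣ (Cfsg.pPrimeCore p G).index → q ≤ p := by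
    intro q hq hd
    rcases eq_or_ne q p with e | hqp
    · exact e.le
    haveI : Fact q.Prime := ⟨hq⟩
    haveI : (Cfsg.pPrimeCore p G).Normal := Subgroup.sSup_normal _ fun _ h => h.1
    rw [Subgroup.index_eq_card] at hd
    obtain ⟨x, hx⟩ := exists_prime_orderOf_dvd_card' q hd
    have h1 := orderOf_dvd_of_pow_eq_one (hexp x (hx ▸ (Nat.coprime_primes hq Fact.out).2 hqp))
    rw [hx] at h1
    have := Nat.le_of_dvd (by have := (Fact.out : p.Prime).two_le; omega) h1
    omega
  obtain ⟨⟨h5, h6⟩, h3, h4, h2⟩ := CfsgLib.CFun.Narrow.narrow_consequences hp hcp hle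
  exact ⟨hle, h2 hodd, h3, h4, h5, h6⟩

end Cfsg.Agent.S1455
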