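import Cfsg.Agent.Lib.CFun.OddStable
import Cfsg.Statements.S1458
-- import your own Cfsg.Agent.* helpers here

set_option autoImplicit false
open Cfsg

namespace Cfsg.Agent.S1458

/-- Let G be a solvable group of odd order, p a prime and S a Sylow p-subgroup of G. Then the subgroup generated by the centre of the Thompson subgroup of S and O_{p'}(G) is normal in G. -/
theorem result {G : Type*} [Group G] [Finite G] [Group.IsSolvable G] (hodd : Odd (Nat.card G)) (p : ℕ) [Fact p.Prime] (S : Sylow p G) :
    (Cfsg.centerThompsonOf p (S : Subgroup G) ⊔ Cfsg.pPrimeCore p G).Normal := by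
  rcases eq_or_ne p 2 with rfl | hp
  · obtain ⟨k, hk⟩ := IsPGroup.iff_card.1 S.2
    have hS : (S : Subgroup G) = ⊥ := by
      rcases k with _ | k
      · exact Subgroup.card_eq_one.1 (by rw [hk, pow_zero])
      · exact absurd (even_iff_two_dvd.2 ((dvd_pow_self 2 k.succ_ne_zero).trans
          (hk ▸ Subgroup.card_subgroup_dvd_card _))) (Nat.not_even_iff_odd.2 hodd)
    have hZ : Cfsg.centerThompsonOf 2 (S : Subgroup G) = ⊥ :=
      le_bot_iff.1 ((inf_le_left.trans (CfsgLib.Fusion.thompsonSubgroupOf_le _)).trans hS.le)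
    rw [hZ, bot_sup_eq]
    exact Subgroup.sSup_normal _ fun _ h => h.1
  · rw [sup_comm]
    exact CfsgLib.CFun.zjE_factor hp hodd S

end Cfsg.Agent.S1458
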