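import Cfsg.Statements.S1459
import Cfsg.Agent.Lib.CFun.OddPLengthProper

set_option autoImplicit false
open Cfsg

namespace Cfsg.Agent.S1459

open Subgroup

private theorem cop_card {G : Type*} [Group G] [Finite G] {H K : Subgroup G}
    (hcop : (Nat.card H).Coprime H.index) (hK : Subgroup.IsComplement' H K) :
    (Nat.card H).Coprime (Nat.card K) := by rwa [← hK.symm.index_eq_card]

private theorem part_a {G : Type*} [Group G] [Finite G] [Group.IsSolvable G] (H K : Subgroup G)
    [H.Normal] (hcop : (Nat.card H).Coprime H.index) (hK : Subgroup.IsComplement' H K)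
    (hH : H ≤ _root_.commutator G) :
    H = ⁅H, K⁆ ∧ H ⊓ Subgroup.centralizer (K : Set G) ≤ ⁅H, H⁆ := by
  have hc := cop_card hcop hK
  have e := CfsgLib.CFun.eq_commutator_of_le_derived hc hK.sup_eq_top hH
  refine ⟨e, ?_⟩
  set π := QuotientGroup.mk' (⁅H, H⁆ : Subgroup G)
  set A := H.map π
  set B := K.map π
  have hA : IsMulCommutative A := ⟨⟨by
    rintro ⟨_, a, ha, rfl⟩ ⟨_, b, hb, rfl⟩
    refine Subtype.ext (show π a * π b = π b * π a from commutatorElement_eq_one_iff_mul_comm.1 ?_)
    rw [← map_commutatorElement]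
    exact (QuotientGroup.eq_one_iff _).2 (commutator_mem_commutator ha hb)⟩⟩
  have hBA : B ≤ normalizer (A : Set (G ⧸ (⁅H, H⁆ : Subgroup G))) := by
    haveI : A.Normal := (inferInstance : H.Normal).map π (QuotientGroup.mk'_surjective _)
    rw [normalizer_eq_top]; exact le_top
  have h1 := CfsgLib.Coprime.centralizer_inf_commutator_eq_bot hA hBA
    ((hc.symm.coprime_dvd_left (card_map_dvd _ _)).coprime_dvd_right (card_map_dvd _ _))
  rintro x ⟨hxH, hxK⟩
  refine (QuotientGroup.eq_one_iff x).1 (mem_bot.1 (h1.le (mem_inf.2 ⟨mem_inf.2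
    ⟨mem_map_of_mem π hxH, mem_centralizer_iff.2 ?_⟩, ?_⟩)))
  · rintro _ ⟨k, hk, rfl⟩
    show π k * π x = π x * π k
    rw [← map_mul, ← map_mul, mem_centralizer_iff.1 hxK k hk]
  · rw [← map_commutator, ← e]; exact mem_map_of_mem π hxH

/-- Let G be a finite solvable group. (a) If H is a normal subgroup of order coprime to its index, K is a complement to H, and H ≤ G', then H = [H, K] and H ∩ C_G(K) ≤ [H, H]. (b) If G' is nilpotent and has prime index in G, then the order of G' is coprime to its index and G' = [G, K] (the subgroup generated by commutators of elements of G with elements of K) for every complement K of G'. -/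
theorem result {G : Type*} [Group G] [Finite G] [Group.IsSolvable G] :
    (∀ (H K : Subgroup G), H.Normal → (Nat.card H).Coprime H.index → Subgroup.IsComplement' H K → H ≤ commutator G →
        H = ⁅H, K⁆ ∧ H ⊓ Subgroup.centralizer (K : Set G) ≤ ⁅H, H⁆) ∧
      (Group.IsNilpotent ↥(commutator G) → (commutator G).index.Prime →
        (Nat.card ↥(commutator G)).Coprime (commutator G).index ∧
        ∀ K : Subgroup G, Subgroup.IsComplement' (commutator G) K → commutator G = ⁅(⊤ : Subgroup G), K⁆) := by
  refine ⟨fun H K hn hcop hK hH => part_a H K hcop hK hH, fun hnil hpr => ?_⟩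
  set N := _root_.commutator G with hN
  set q := N.index
  haveI : Fact q.Prime := ⟨hpr⟩
  have hcop : (Nat.card N).Coprime q := by
    rw [Nat.coprime_comm, hpr.coprime_iff_not_dvd]
    intro hd
    set O := (Cfsg.pPrimeCore q N).map N.subtype
    haveI : (Cfsg.pPrimeCore q N).Characteristic := CfsgLib.Coprime.pPrimeCore_characteristic q
    haveI hOn : O.Normal := normalizer_eq_top_iff.1 (eq_top_iff.2 (le_trans
      (by rw [normalizer_eq_top])
      (CfsgLib.PGroup.normalizer_le_normalizer_map_char N (Cfsg.pPrimeCore q N))))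
    haveI := hnil
    have hOq : ¬ q ∣ Nat.card O := by
      rw [card_map_of_injective N.subtype_injective]
      exact CfsgLib.Coprime.pPrimeCore_not_dvd hpr
    have hON : O ≤ N := map_subtype_le _
    set π := QuotientGroup.mk' O
    have hpow : ∀ g : G, ∃ k : ℕ, g ^ q ^ k ∈ O := by
      intro g
      have h1 : g ^ q ∈ N := by
        have h2 : (g : G ⧸ N) ^ Nat.card (G ⧸ N) = 1 := pow_card_eq_one'
        rw [← index_eq_card] at h2
        exact (QuotientGroup.eq_one_iff _).1 (by rw [QuotientGroup.mk_pow]; exact h2)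
      obtain ⟨a, b, hab, hb⟩ : ∃ a b : ℕ, orderOf (⟨g ^ q, h1⟩ : N) = q ^ a * b ∧ ¬ q ∣ b :=
        ⟨_, _, (Nat.ordProj_mul_ordCompl_eq_self _ q).symm,
          Nat.not_dvd_ordCompl hpr (orderOf_pos _).ne'⟩
      refine ⟨1 + a, ⟨(⟨g ^ q, h1⟩ : N) ^ q ^ a, ?_, by
        rw [coe_subtype, SubmonoidClass.coe_pow, ← pow_mul, pow_add, pow_one]⟩⟩
      set z : N := (⟨g ^ q, h1⟩ : N) ^ q ^ a
      have hz : z ^ b = 1 := by rw [← pow_mul, ← hab, pow_orderOf_eq_one]
      have hpi : CfsgLib.Coprime.IsPiNum {t : ℕ | t ≠ q} (Nat.card (zpowers z)) :=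
        fun t ht hdt e => hb (e ▸ (hdt.trans (by
          rw [Nat.card_zpowers]; exact orderOf_dvd_of_pow_eq_one hz)))
      have h3 := CfsgLib.Coprime.isPiNum_le_piCore_of_isSubnormal
        (CfsgLib.PGroup.isSubnormal_of_isNilpotent (zpowers z)) hpi (mem_zpowers z)
      rw [← CfsgLib.Coprime.pPrimeCore_eq_piCore hpr] at h3
      exact h3
    have hP : IsPGroup q (G ⧸ O) := fun y => by
      obtain ⟨g, rfl⟩ := QuotientGroup.mk'_surjective O y
      obtain ⟨k, hk⟩ := hpow g
      exact ⟨k, by rw [← map_pow]; exact (QuotientGroup.eq_one_iff _).2 hk⟩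
    have hder : _root_.commutator (G ⧸ O) = N.map π := by
      rw [_root_.commutator_def, hN, _root_.commutator_def, map_commutator,
        map_top_of_surjective _ (QuotientGroup.mk'_surjective O)]
    have hidx : (N.map π).index = q :=
      Subgroup.index_map_eq N (QuotientGroup.mk'_surjective O) (by rw [QuotientGroup.ker_mk']; exact hON)
    obtain ⟨g, hg⟩ : ∃ g : G ⧸ O, g ∉ N.map π := by
      by_contra h
      push Not at h
      rw [show N.map π = ⊤ from eq_top_iff.2 fun g _ => h g, index_top] at hidx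
      exact hpr.one_lt.ne hidx
    have hcyc : zpowers g = ⊤ := by
      by_contra hne
      obtain ⟨M, hM, hgM⟩ := (IsCoatomic.eq_top_or_exists_le_coatom _).resolve_left hne
      haveI : Fact q.Prime := ⟨hpr⟩
      have hle : N.map π ≤ M :=
        hder.ge.trans ((CfsgLib.Coprime.commutator_le_frattini hP).trans (frattini_le_coatom hM))
      have h1 := index_dvd_of_le hle
      rw [hidx] at h1
      rcases (Nat.dvd_prime hpr).1 h1 with h2 | h2
      · exact hM.1 (index_eq_one.1 h2)
      · exact hg ((eq_of_le_of_card_ge hle (Nat.le_of_eq (Nat.eq_of_mul_eq_mul_right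
          (index_ne_zero_of_finite (H := M)).bot_lt
          ((card_mul_index M).trans ((card_mul_index (N.map π)).symm.trans (by rw [hidx, h2])))))).symm ▸
            zpowers_le.1 hgM)
    have hab : _root_.commutator (G ⧸ O) = ⊥ := by
      rw [eq_bot_iff, _root_.commutator_def, commutator_le]
      intro a _ b _
      obtain ⟨i, rfl⟩ := mem_zpowers_iff.1 (hcyc.ge (mem_top a))
      obtain ⟨j, rfl⟩ := mem_zpowers_iff.1 (hcyc.ge (mem_top b))
      exact mem_bot.2 (commutatorElement_eq_one_iff_mul_comm.2 (zpow_mul_comm g i j))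
    rw [hder, Subgroup.map_eq_bot_iff, QuotientGroup.ker_mk'] at hab
    exact hOq (hd.trans (card_dvd_of_le hab))
  refine ⟨hcop, fun K hK => le_antisymm ?_ ?_⟩
  · conv_lhs => rw [(part_a N K hcop hK le_rfl).1]
    exact commutator_mono le_top le_rfl
  · rw [hN, _root_.commutator_def]; exact commutator_mono le_rfl le_top

end Cfsg.Agent.S1459
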