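import Cfsg.Statements.S1460
import Cfsg.Agent.Lib.Coprime.Action

set_option autoImplicit false
open Cfsg

namespace Cfsg.Agent.S1460

open scoped commutatorElement
open CfsgLib.Coprime

/-- Let G be a finite solvable group, K a normal subgroup and U a subgroup with G = KU, and H ≤ U a subgroup whose order is coprime to that of K. Then H ∩ G' = H ∩ U'; N_G(H) is generated by K ∩ C_G(H) and U ∩ N_G(H); and if gHg⁻¹ ≤ U for some g ∈ G then g = u c with u ∈ U and c ∈ K ∩ C_G(H). -/
theorem result {G : Type*} [Group G] [Finite G] [Group.IsSolvable G] (K U H : Subgroup G) [K.Normal] (hKU : K ⊔ U = ⊤) (hH : H ≤ U) (hcop : (Nat.card H).Coprime (Nat.card K)) :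
    H ⊓ commutator G = H ⊓ ⁅U, U⁆ ∧
      Subgroup.normalizer (H : Set G) = (K ⊓ Subgroup.centralizer (H : Set G)) ⊔ (U ⊓ Subgroup.normalizer (H : Set G)) ∧
      ∀ g : G, H.map (MulAut.conj g).toMonoidHom ≤ U → ∃ u ∈ U, ∃ c ∈ K ⊓ Subgroup.centralizer (H : Set G), g = u * c := by
  have conjcl : ∀ g : G, H.map (MulAut.conj g).toMonoidHom ≤ U →
      ∃ u ∈ U, ∃ c ∈ K ⊓ Subgroup.centralizer (H : Set G), g = u * c := by
    intro g hg
    obtain ⟨u, hu, k, hk, rfl⟩ := Subgroup.mem_sup_of_normal_right.1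
      (show g ∈ U ⊔ K by rw [sup_comm, hKU]; exact Subgroup.mem_top g)
    have hHN : H ≤ Subgroup.normalizer ((K ⊓ U : Subgroup G) : Set G) :=
      inf_le_normalizer (by rw [Subgroup.normalizer_eq_top]; exact le_top)
        (hH.trans Subgroup.le_normalizer)
    have hB : conjBy k H ≤ H ⊔ (K ⊓ U) := by
      intro x hx
      rw [mem_conjBy] at hx
      have hxU : x ∈ U := by
        have h1 := hg ⟨_, hx, rfl⟩
        simp only [MulEquiv.coe_toMonoidHom, MulAut.conj_apply] at h1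
        have h2 := U.mul_mem (U.mul_mem (U.inv_mem hu) h1) hu
        rwa [show u⁻¹ * (u * k * (k⁻¹ * x * k) * (u * k)⁻¹) * u = x by group] at h2
      have hz : (k⁻¹ * x * k)⁻¹ * x ∈ K ⊓ U := by
        refine ⟨?_, U.mul_mem (U.inv_mem (hH hx)) hxU⟩
        rw [show (k⁻¹ * x * k)⁻¹ * x = k⁻¹ * (x⁻¹ * k * x) by group]
        refine K.mul_mem (K.inv_mem hk) ?_
        have h3 := (inferInstance : K.Normal).conj_mem k hk x⁻¹
        rwa [inv_inv] at h3
      have := Subgroup.mul_mem_sup hx hz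
      rwa [mul_inv_cancel_left] at this
    obtain ⟨x, hx, hxe⟩ := sz_conj_in hHN
      ((hcop.symm.coprime_dvd_left (Subgroup.card_dvd_of_le inf_le_left))) hB (card_conjBy _ _)
      (Or.inl inferInstance)
    rw [conjBy_conjBy, conjBy_eq_self_iff] at hxe
    refine ⟨u * x⁻¹, U.mul_mem hu (U.inv_mem hx.2), x * k, ⟨K.mul_mem hx.1 hk, ?_⟩, by group⟩
    exact mem_centralizer_of_mem_normalizer (by rw [Subgroup.normalizer_eq_top]; exact le_top) hcop
      (K.mul_mem hx.1 hk) hxe
  refine ⟨le_antisymm ?_ ?_, le_antisymm ?_ ?_, conjcl⟩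
  · intro h hh
    refine ⟨hh.1, ?_⟩
    set N' := ⁅U, U⁆ with hN'
    have hN'U : N' ≤ U := Subgroup.commutator_le.2 fun a ha b hb =>
      U.mul_mem (U.mul_mem (U.mul_mem ha hb) (U.inv_mem ha)) (U.inv_mem hb)
    haveI : (N'.subgroupOf U).Normal := (Subgroup.normal_subgroupOf_iff_le_normalizer hN'U).2
      (Subgroup.normalizer_commutator_ge_left U U)
    set π := QuotientGroup.mk' K with hπ
    have hsur : ∀ a : G, ∃ n ∈ U, π n = π a := fun a => by
      obtain ⟨u, hu, k, hk, rfl⟩ := Subgroup.mem_sup_of_normal_right.1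
        (show a ∈ U ⊔ K by rw [sup_comm, hKU]; exact Subgroup.mem_top a)
      exact ⟨u, hu, by rw [map_mul, show π k = 1 from (QuotientGroup.eq_one_iff k).2 hk, mul_one]⟩
    have hle : commutator G ≤ K ⊔ N' := by
      rw [_root_.commutator_def, Subgroup.commutator_le]
      intro a _ b _
      obtain ⟨n, hn, hna⟩ := hsur a
      obtain ⟨m, hm, hmb⟩ := hsur b
      have hz : ⁅a, b⁆ * ⁅n, m⁆⁻¹ ∈ K := by
        rw [← QuotientGroup.eq_one_iff]
        show π _ = 1
        rw [map_mul, map_inv, map_commutatorElement, map_commutatorElement, hna, hmb, mul_inv_cancel]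
      have := mul_mem (Subgroup.mem_sup_left hz : _ ∈ K ⊔ N')
        (Subgroup.mem_sup_right (Subgroup.commutator_mem_commutator hn hm) : _ ∈ K ⊔ N')
      rwa [inv_mul_cancel_right] at this
    obtain ⟨o, ho, n, hn, e⟩ := mem_sup_exists
      (by rw [Subgroup.normalizer_eq_top]; exact le_top) (hle hh.2)
    have hoU : o ∈ U := by
      have := mul_mem (hH hh.1) (inv_mem (hN'U hn))
      rwa [← e, mul_inv_cancel_right] at this
    set φ := QuotientGroup.mk' (N'.subgroupOf U) with hφ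
    have hsφ : φ ⟨h, hH hh.1⟩ = φ ⟨o, hoU⟩ := by
      have h1 : φ ⟨n, hN'U hn⟩ = 1 := (QuotientGroup.eq_one_iff _).2 (Subgroup.mem_subgroupOf.2 hn)
      rw [← mul_one (φ ⟨o, hoU⟩), ← h1, ← map_mul]
      exact congrArg φ (Subtype.ext e.symm)
    have h1 : φ ⟨h, hH hh.1⟩ = 1 := orderOf_eq_one_iff.1 (Nat.eq_one_of_dvd_coprimes hcop
      ((orderOf_map_dvd φ _).trans
        ((Subgroup.orderOf_mk h (hH hh.1)).symm ▸ Subgroup.orderOf_dvd_natCard (s := H) hh.1))
      ((hsφ ▸ orderOf_map_dvd φ ⟨o, hoU⟩).trans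
        ((Subgroup.orderOf_mk o hoU).symm ▸ Subgroup.orderOf_dvd_natCard (s := K) ho)))
    exact Subgroup.mem_subgroupOf.1 ((QuotientGroup.eq_one_iff _).1 h1)
  · rw [_root_.commutator_def]
    exact inf_le_inf_left H (Subgroup.commutator_mono le_top le_top)
  · intro g hg
    obtain ⟨u, hu, c, hc, rfl⟩ := conjcl g (by
      exact (le_of_eq (Subgroup.mem_normalizer_iff_map_conj_eq.1 hg)).trans hH)
    rw [sup_comm]
    refine Subgroup.mul_mem_sup ⟨hu, ?_⟩ hc
    have := mul_mem hg (inv_mem (centralizer_le_normalizer_self H hc.2))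
    rwa [mul_inv_cancel_right] at this
  · exact sup_le (inf_le_right.trans (centralizer_le_normalizer_self H)) inf_le_right
end Cfsg.Agent.S1460
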