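import Cfsg.Statements.S1461
import Cfsg.Agent.Lib.CFun.OddStable
import Cfsg.Agent.Lib.CFun.OddCriteria

set_option autoImplicit false
open Cfsg

namespace Cfsg.Agent.S1461

open scoped commutatorElement

/-- Let G be a finite solvable group, p a prime with G = O_{p',p,p'}(G), and S a Sylow p-subgroup. Then: if S ≤ G' then S ≤ [N_G(S), N_G(S)]; if Y ⊆ S and xYx⁻¹ ⊆ S then x = g c for some g ∈ N_G(S) and c centralizing Y; and for every p-subgroup Q there is x ∈ C_G(Q ∩ S) with xQx⁻¹ ≤ S. -/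
theorem result {G : Type*} [Group G] [Finite G] [Group.IsSolvable G] (p : ℕ) [Fact p.Prime] (hpl : Cfsg.PLengthLE p 1 G) (S : Sylow p G) :
    ((S : Subgroup G) ≤ commutator G → (S : Subgroup G) ≤ ⁅Subgroup.normalizer ((S : Subgroup G) : Set G), Subgroup.normalizer ((S : Subgroup G) : Set G)⁆) ∧
      (∀ (Y : Set G) (x : G), Y ⊆ (S : Subgroup G) → (fun y => x * y * x⁻¹) '' Y ⊆ (S : Subgroup G) →
        ∃ g ∈ Subgroup.normalizer ((S : Subgroup G) : Set G), ∃ c ∈ Subgroup.centralizer Y, g * c = x) ∧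
      ∀ Q : Subgroup G, IsPGroup p Q → ∃ x ∈ Subgroup.centralizer ((Q ⊓ (S : Subgroup G) : Subgroup G) : Set G), Q.map (MulAut.conj x).toMonoidHom ≤ (S : Subgroup G) := by
  have hp : p.Prime := Fact.out
  set O := Cfsg.pPrimeCore p G with hO
  haveI : O.Normal := Subgroup.sSup_normal _ fun _ h => h.1
  have hOc : (Nat.card O).Coprime p := CfsgLib.Coprime.pPrimeCore_coprime hp
  set π := QuotientGroup.mk' O with hπ
  have hπs := QuotientGroup.mk'_surjective O
  haveI := CfsgLib.Coprime.pCore_normal' (G := G ⧸ O) p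
  set V := Cfsg.pCore p (G ⧸ O) with hV
  have hVp : IsPGroup p V := CfsgLib.Coprime.pCore_isPGroup p
  have hSm : ((S : Subgroup G).map π).Normal := by
    set Sb := S.mapSurjective hπs
    have hVS : V ≤ (Sb : Subgroup (G ⧸ O)) :=
      le_sup_left.trans (Sb.3 (hVp.to_sup_of_normal_left Sb.2) le_sup_right).le
    have he : (Sb : Subgroup (G ⧸ O)) = V :=
      (hVp.toSylow (CfsgLib.CFun.not_dvd_index_of_pLengthLE_one hpl)).3 Sb.2 hVS
    rw [← Sylow.coe_mapSurjective hπs S, he]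
    infer_instance
  have htop := (CfsgLib.CFun.sup_normalizer_of_map_normal S.2 hSm).2
  set N := Subgroup.normalizer ((S : Subgroup G) : Set G) with hN
  have hdec : ∀ g : G, ∃ o ∈ O, ∃ n ∈ N, o * n = g := fun g =>
    CfsgLib.Coprime.mem_sup_exists (by rw [Subgroup.normalizer_eq_top]; exact le_top)
      (show g ∈ O ⊔ N by rw [htop]; exact Subgroup.mem_top g)
  have hOS : ∀ z, z ∈ O → z ∈ (S : Subgroup G) → z = 1 := fun z hz hzS => by
    obtain ⟨k, hk⟩ := IsPGroup.iff_orderOf.1 S.2 ⟨z, hzS⟩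
    rw [Subgroup.orderOf_mk] at hk
    exact orderOf_eq_one_iff.1 (Nat.eq_one_of_dvd_coprimes (hOc.pow_right k)
      (Subgroup.orderOf_dvd_natCard (s := O) hz) hk.dvd)
  have hcomm : ∀ o ∈ O, ∀ y ∈ (S : Subgroup G), o * y * o⁻¹ ∈ (S : Subgroup G) → o * y = y * o := by
    intro o ho y hy hy'
    have h1 : o * y * o⁻¹ * y⁻¹ = 1 := by
      refine hOS _ ?_ (mul_mem hy' (inv_mem hy))
      rw [show o * y * o⁻¹ * y⁻¹ = o * (y * o⁻¹ * y⁻¹) by group]
      exact mul_mem ho ((inferInstance : O.Normal).conj_mem _ (inv_mem ho) y)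
    rw [mul_inv_eq_one] at h1
    exact mul_inv_eq_iff_eq_mul.1 h1
  refine ⟨fun hS s hs => ?_, fun Y x hY hxY => ?_, fun Q hQ => ?_⟩
  · have hle : commutator G ≤ O ⊔ ⁅N, N⁆ := by
      have hsur : ∀ q : G ⧸ O, ∃ n ∈ N, π n = q := fun q => by
        obtain ⟨g, rfl⟩ := hπs q
        obtain ⟨o, ho, n, hn, rfl⟩ := hdec g
        refine ⟨n, hn, ?_⟩
        rw [map_mul, show π o = 1 from (QuotientGroup.eq_one_iff o).2 ho, one_mul]
      rw [_root_.commutator_def, Subgroup.commutator_le]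
      intro a _ b _
      obtain ⟨n, hn, hna⟩ := hsur (π a)
      obtain ⟨m, hm, hmb⟩ := hsur (π b)
      have hz : ⁅a, b⁆ * ⁅n, m⁆⁻¹ ∈ O := by
        rw [← QuotientGroup.eq_one_iff]
        show π _ = 1
        rw [map_mul, map_inv, map_commutatorElement, map_commutatorElement, hna, hmb, mul_inv_cancel]
      have := mul_mem (Subgroup.mem_sup_left hz : _ ∈ O ⊔ ⁅N, N⁆)
        (Subgroup.mem_sup_right (Subgroup.commutator_mem_commutator hn hm) : _ ∈ O ⊔ ⁅N, N⁆)
      rwa [inv_mul_cancel_right] at this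
    obtain ⟨o, ho, n, hn, e⟩ := CfsgLib.Coprime.mem_sup_exists
      (by rw [Subgroup.normalizer_eq_top]; exact le_top) (hle (hS hs))
    set N' := ⁅N, N⁆ with hN'
    have hN'N : N' ≤ N := Subgroup.commutator_le.2 fun a ha b hb => N.mul_mem (N.mul_mem (N.mul_mem ha hb) (N.inv_mem ha)) (N.inv_mem hb)
    haveI hN'n : (N'.subgroupOf N).Normal := (Subgroup.normal_subgroupOf_iff_le_normalizer hN'N).2
      (Subgroup.normalizer_commutator_ge_left N N)
    have hsN : s ∈ N := Subgroup.le_normalizer hs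
    have hoN : o ∈ N := by
      have := mul_mem hsN (inv_mem (hN'N hn))
      rwa [← e, mul_inv_cancel_right] at this
    set φ := QuotientGroup.mk' (N'.subgroupOf N) with hφ
    have hsφ : φ ⟨s, hsN⟩ = φ ⟨o, hoN⟩ := by
      have h1 : φ ⟨n, hN'N hn⟩ = 1 := (QuotientGroup.eq_one_iff _).2 (Subgroup.mem_subgroupOf.2 hn)
      rw [← mul_one (φ ⟨o, hoN⟩), ← h1, ← map_mul]
      exact congrArg φ (Subtype.ext e.symm)
    obtain ⟨k, hk⟩ := IsPGroup.iff_orderOf.1 S.2 ⟨s, hs⟩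
    rw [Subgroup.orderOf_mk] at hk
    have h1 : φ ⟨s, hsN⟩ = 1 := orderOf_eq_one_iff.1 (Nat.eq_one_of_dvd_coprimes (hOc.pow_right k)
      ((hsφ ▸ orderOf_map_dvd φ ⟨o, hoN⟩).trans
        ((Subgroup.orderOf_mk o hoN).symm ▸ Subgroup.orderOf_dvd_natCard (s := O) ho))
      ((orderOf_map_dvd φ _).trans (by rw [Subgroup.orderOf_mk, hk])))
    exact Subgroup.mem_subgroupOf.1 ((QuotientGroup.eq_one_iff _).1 h1)
  · obtain ⟨o, ho, n, hn, rfl⟩ := hdec x
    refine ⟨n, hn, n⁻¹ * o * n, Subgroup.mem_centralizer_iff.2 fun y hy => ?_, by group⟩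
    have ho' : n⁻¹ * o * n ∈ O := by
      have := (inferInstance : O.Normal).conj_mem o ho n⁻¹
      rwa [inv_inv] at this
    refine (hcomm _ ho' y (hY hy) ?_).symm
    have h1 : (o * n) * y * (o * n)⁻¹ ∈ (S : Subgroup G) := hxY ⟨y, hy, rfl⟩
    have h2 := (Subgroup.mem_normalizer_iff''.1 hn _).1 h1
    convert h2 using 1
    group
  · obtain ⟨T, hT⟩ := hQ.exists_le_sylow
    obtain ⟨g, hg⟩ := MulAction.exists_smul_eq G T S
    obtain ⟨o, ho, n, hn, e⟩ := hdec g⁻¹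
    obtain rfl : g = (o * n)⁻¹ := by rw [e, inv_inv]
    have hconj : ∀ z ∈ Q, o⁻¹ * z * o⁻¹⁻¹ ∈ (S : Subgroup G) := by
      intro z hz
      have h1 : (n⁻¹ * o⁻¹) * z * (n⁻¹ * o⁻¹)⁻¹ ∈ (S : Subgroup G) := by
        rw [← hg, Sylow.coe_subgroup_smul, ← mul_inv_rev]
        exact ⟨z, hT hz, by simp [mul_assoc]⟩
      have h2 := (Subgroup.mem_normalizer_iff.1 hn _).1 h1
      convert h2 using 1
      group
    refine ⟨o⁻¹, Subgroup.mem_centralizer_iff.2 fun y hy =>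
      (hcomm _ (inv_mem ho) y hy.2 (hconj y hy.1)).symm, ?_⟩
    rintro _ ⟨z, hz, rfl⟩
    exact hconj z hz
end Cfsg.Agent.S1461
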