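import Cfsg.Statements.S1462
import Cfsg.Agent.Lib.Coprime.OmegaPQ

set_option autoImplicit false
open Cfsg

namespace Cfsg.Agent.S1462

/-- Let G be a finite solvable group, p an odd prime with G = O_{p',p,p'}(G), E an elementary abelian p-subgroup contained in no larger elementary abelian p-subgroup of G, and L a subgroup of order coprime to p normalized by E. Then L ≤ O_{p'}(G). -/
theorem result {G : Type*} [Group G] [Finite G] [Group.IsSolvable G] (p : ℕ) [Fact p.Prime] (hp : p ≠ 2) (hpl : Cfsg.PLengthLE p 1 G) (E L : Subgroup G) (hE : Cfsg.IsElementaryAbelian p E)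
    (hEmax : ∀ B : Subgroup G, Cfsg.IsElementaryAbelian p B → E ≤ B → B = E) (hL : (Nat.card L).Coprime p) (hEL : E ≤ Subgroup.normalizer (L : Set G)) :
    L ≤ Cfsg.pPrimeCore p G := by
  refine CfsgLib.Coprime.le_pPrimeCore_of_omega hp CfsgLib.CFun.pCons_of_isSolvable
    (A := E) (fun e => ⟨1, by rw [pow_one]; exact Subtype.ext (hE.2 e e.2)⟩) (fun x hx hxp => ?_) hL hEL
  haveI := hE.1
  have hxE : ∀ e ∈ E, Commute e x := fun e he => Subgroup.mem_centralizer_iff.1 hx e he
  have hc : IsMulCommutative ↥(E ⊔ Subgroup.zpowers x) := by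
    refine Subgroup.le_centralizer_iff_isMulCommutative.1 (sup_le ?_ ?_)
    · rw [Subgroup.le_centralizer_iff]
      exact sup_le (Subgroup.le_centralizer E) (Subgroup.zpowers_le.2 hx)
    · rw [Subgroup.le_centralizer_iff]
      refine sup_le ?_ (Subgroup.le_centralizer _)
      rw [Subgroup.le_centralizer_iff]
      exact Subgroup.zpowers_le.2 hx
  have hpow : ∀ y ∈ E ⊔ Subgroup.zpowers x, y ^ p = 1 := by
    intro y hy
    obtain ⟨e, he, z, hz, rfl⟩ := CfsgLib.Coprime.mem_sup_exists
      ((Subgroup.zpowers_le.2 hx).trans (CfsgLib.Coprime.centralizer_le_normalizer_self E)) hy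
    obtain ⟨k, rfl⟩ := hz
    rw [((hxE e he).zpow_right k).mul_pow, hE.2 e he, one_mul, ← zpow_natCast, ← zpow_mul,
      mul_comm, zpow_mul, zpow_natCast, hxp, one_zpow]
  exact (hEmax _ ⟨hc, hpow⟩ le_sup_left).le (Subgroup.mem_sup_right (Subgroup.mem_zpowers x))
end Cfsg.Agent.S1462
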