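import Cfsg.Statements.S1463
import Cfsg.Agent.Lib.CFun.OddLinearIrreducible
import Cfsg.Agent.Lib.CFun.OddRankTwoTower

set_option autoImplicit false
open scoped MatrixGroups
open Cfsg

namespace Cfsg.Agent.S1463

/-- Let F be a field of odd characteristic p and H a finite subgroup of odd order of GL(2, F) that leaves no 1-dimensional subspace of F² invariant. Then p does not divide the order of H. -/
theorem result {F : Type*} [Field F] (p : ℕ) [Fact p.Prime] [CharP F p] (hp : p ≠ 2)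
    (H : Subgroup (GL (Fin 2) F)) [Finite H] (hodd : Odd (Nat.card H))
    (hirr : ∀ v : Fin 2 → F, v ≠ 0 → ∃ g ∈ H, (g : Matrix (Fin 2) (Fin 2) F).mulVec v ∉ Submodule.span F {v}) :
    ¬ p ∣ Nat.card H := by
  classical
  intro hpH
  set D : GL (Fin 2) F →* Fˣ := Units.map (Matrix.detMonoidHom : Matrix (Fin 2) (Fin 2) F →* F)
  let d : H →* Fˣ := D.comp H.subtype
  set K := d.ker with hKdef
  let R : K →* Matrix (Fin 2) (Fin 2) F :=
    ((Units.coeHom _).comp H.subtype).comp K.subtype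
  have hR : Function.Injective R :=
    (Units.val_injective.comp H.subtype_injective).comp K.subtype_injective
  have hdet : ∀ x, (R x).det = 1 := fun x => congrArg Units.val (MonoidHom.mem_ker.1 x.2)
  have hodd' : Odd (Nat.card K) := hodd.of_dvd_nat (Subgroup.card_subgroup_dvd_card K)
  obtain ⟨x₀, hx₀⟩ := exists_prime_orderOf_dvd_card' p hpH
  have hxK : x₀ ∈ K := by
    rw [hKdef, MonoidHom.mem_ker]
    have h1 : ((d x₀ : Fˣ) : F) ^ p = 1 := by
      rw [← Units.val_pow_eq_pow_val, ← map_pow, ← hx₀, pow_orderOf_eq_one, map_one, Units.val_one]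
    refine Units.ext ?_
    rw [Units.val_one, ← sub_eq_zero]
    refine eq_zero_of_pow_eq_zero (n := p) ?_
    rw [sub_pow_char, h1, one_pow, sub_self]
  have hpK : p ∣ Nat.card K := by
    rw [← hx₀, ← Subgroup.orderOf_mk x₀ hxK]
    exact orderOf_dvd_natCard _
  obtain ⟨P⟩ := (inferInstance : Nonempty (Sylow p K))
  haveI hPn : (P : Subgroup K).Normal :=
    Subgroup.normalizer_eq_top_iff.1
      (CfsgLib.CFun.LinearOdd.sylow_normal hp hodd' hR hdet hpK P)
  have hP1 : (P : Subgroup K) ≠ ⊥ := fun e =>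
    P.not_dvd_index (by rw [e, Subgroup.index_bot]; exact hpK)
  haveI : Nontrivial (P : Subgroup K) := (Subgroup.nontrivial_iff_ne_bot _).2 hP1
  haveI := P.2.center_nontrivial
  obtain ⟨⟨z₀, hz₀⟩, hz₀1⟩ := exists_ne (1 : Subgroup.center (P : Subgroup K))
  have hz1 : (z₀ : K) ≠ 1 := fun e => hz₀1 (Subtype.ext (Subtype.ext e))
  have hexp : ∀ u ∈ (P : Subgroup K), (R u - 1) * (R u - 1) = 0 := by
    intro u hu
    haveI : CharP (Matrix (Fin 2) (Fin 2) F) p := Matrix.charP p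
    obtain ⟨n, hn⟩ := P.2 ⟨u, hu⟩
    refine CfsgLib.CFun.LinearOdd.sq_eq_zero_of_pow (n := p ^ n) ?_
    rw [sub_pow_char_pow_of_commute (p := p) n (Commute.one_right _), one_pow, ← map_pow,
      show u ^ p ^ n = 1 from congrArg Subtype.val hn, map_one, sub_self]
  have hN0 : R z₀ - 1 ≠ 0 := fun e => hz1 (hR (by rw [sub_eq_zero.1 e, map_one]))
  obtain ⟨j, hj⟩ : ∃ j, (fun i => (R z₀ - 1 : Matrix (Fin 2) (Fin 2) F) i j) ≠ 0 := by
    by_contra hno
    push Not at hno
    exact hN0 (Matrix.ext fun i j => congrFun (hno j) i)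
  set v : Fin 2 → F := fun i => (R z₀ - 1 : Matrix (Fin 2) (Fin 2) F) i j
  have hNv : (R z₀ - 1).mulVec v = 0 :=
    funext fun i => congrFun (congrFun (hexp _ z₀.2) i) j
  have hfixP : ∀ u ∈ (P : Subgroup K), (R u - 1).mulVec v = 0 := by
    intro u hu
    have hc : R u * R z₀ = R z₀ * R u := by
      rw [← map_mul, ← map_mul]
      exact congrArg R (congrArg Subtype.val (Subgroup.mem_center_iff.1 hz₀ ⟨u, hu⟩) :)
    obtain ⟨c, hc'⟩ := CfsgLib.CFun.LinearOdd.kernel_line hN0 hj hNv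
      (w := (R u - 1).mulVec v) (by
        rw [Matrix.mulVec_mulVec,
          show (R z₀ - 1) * (R u - 1) = (R u - 1) * (R z₀ - 1) by
            simp only [mul_sub, sub_mul, mul_one, one_mul, hc]; abel,
          ← Matrix.mulVec_mulVec, hNv, Matrix.mulVec_zero])
    have h2 := congrArg (fun m => Matrix.mulVec m v) (hexp u hu)
    simp only [← Matrix.mulVec_mulVec, hc', Matrix.mulVec_smul, smul_smul, Matrix.zero_mulVec,
      smul_eq_zero, mul_self_eq_zero] at h2
    rw [hc', h2.resolve_right hj, zero_smul]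
  obtain ⟨g, hg, hgv⟩ := hirr v hj
  refine hgv ?_
  haveI : (K).Normal := by rw [hKdef]; infer_instance
  have hyK : (⟨g, hg⟩ : H)⁻¹ * (z₀ : K) * (⟨g, hg⟩ : H) ∈ K := by
    have h1 := Subgroup.Normal.conj_mem (inferInstanceAs K.Normal) _ (z₀ : K).2 (⟨g, hg⟩ : H)⁻¹
    rwa [inv_inv] at h1
  set y : K := ⟨_, hyK⟩ with hy
  have hyP : y ∈ (P : Subgroup K) := by
    obtain ⟨n, hn⟩ := P.2 z₀
    have hn' : ((z₀ : K) : H) ^ p ^ n = 1 := congrArg Subtype.val (congrArg Subtype.val hn)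
    refine CfsgLib.CFun.RankTwoTower.mem_sylow_of_normal P ⟨n, Subtype.ext ?_⟩
    show ((⟨g, hg⟩ : H)⁻¹ * (z₀ : K) * (⟨g, hg⟩ : H)) ^ p ^ n = 1
    have h2 := conj_pow (i := p ^ n) (a := (⟨g, hg⟩ : H)⁻¹) (b := ((z₀ : K) : H))
    rw [inv_inv] at h2
    rw [h2, hn', mul_one, inv_mul_cancel]
  obtain ⟨c, hc⟩ := CfsgLib.CFun.LinearOdd.kernel_line hN0 hj hNv
    (w := (g : Matrix (Fin 2) (Fin 2) F).mulVec v) (by
      have e : (R z₀ - 1) * (g : Matrix (Fin 2) (Fin 2) F) =
          (g : Matrix (Fin 2) (Fin 2) F) * (R y - 1) := by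
        have e1 : (g : Matrix (Fin 2) (Fin 2) F) * R y = R z₀ * (g : Matrix (Fin 2) (Fin 2) F) := by
          show ((g * (g⁻¹ * _ * g) : GL (Fin 2) F) : Matrix (Fin 2) (Fin 2) F) = ((_ * g : GL (Fin 2) F) : Matrix (Fin 2) (Fin 2) F)
          rw [show g * (g⁻¹ * (((z₀ : K) : H) : GL (Fin 2) F) * g) =
            (((z₀ : K) : H) : GL (Fin 2) F) * g by group]
          rfl
        rw [mul_sub, mul_one, e1, sub_mul, one_mul]
      rw [Matrix.mulVec_mulVec, e, ← Matrix.mulVec_mulVec, hfixP y hyP, Matrix.mulVec_zero])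
  exact hc ▸ Submodule.smul_mem _ c (Submodule.mem_span_singleton_self v)

end Cfsg.Agent.S1463
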