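import Cfsg.Statements.S1471
import Cfsg.Agent.Lib.CFun.AppendixCField

set_option autoImplicit false
open Cfsg

namespace Cfsg.Agent.S1471

open Cfsg.Agent.Lib.CFun.AppendixC

theorem norm_eq_one_iff {p q : ℕ} [Fact p.Prime] (hq : q ≠ 0) (a : GaloisField p q) :
    Algebra.norm (ZMod p) a = 1 ↔ a ^ normExp p q = 1 := by
  rw [← (algebraMap (ZMod p) (GaloisField p q)).injective.eq_iff,
    FiniteField.algebraMap_norm_eq_pow, map_one, GaloisField.card p q hq, Nat.card_zmod]
  rfl


/-- Let p and q be odd primes with (p^q − 1)/(p − 1) coprime to p − 1. Then there are at least two elements a of the field with p ^ q elements such that both a and 2 − a have norm 1 to the prime field. -/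
theorem result (p q : ℕ) [Fact p.Prime] [Fact q.Prime] (hp : p ≠ 2) (hq : q ≠ 2) (hA : Nat.Coprime ((p ^ q - 1) / (p - 1)) (p - 1)) :
    2 ≤ Set.ncard {a : GaloisField p q | Algebra.norm (ZMod p) a = 1 ∧ Algebra.norm (ZMod p) (2 - a) = 1} := by
  haveI := Fintype.ofFinite (GaloisField p q)
  have hq0 : q ≠ 0 := (Fact.out : q.Prime).ne_zero
  have hF : Fintype.card (GaloisField p q) = p ^ q := by
    rw [← Nat.card_eq_fintype_card, GaloisField.card p q hq0]
  obtain ⟨a, h1, h2, ha⟩ := exists_pair hF hp (Fact.out : q.Prime) hq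
  rw [Nat.succ_le_iff, Set.one_lt_ncard]
  exact ⟨a, ⟨(norm_eq_one_iff hq0 _).2 h1, (norm_eq_one_iff hq0 _).2 h2⟩, 1,
    ⟨map_one _, (norm_eq_one_iff hq0 _).2 (by norm_num)⟩, ha⟩
end Cfsg.Agent.S1471
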