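import Cfsg.Statements.S1474
import Cfsg.Prelude.Def_OddOrderLocal
import Cfsg.Agent.Lib.Coprime.MinimalNonNilpotent
import Cfsg.Agent.Lib.Coprime.FpfAction
import Cfsg.Agent.Lib.Coprime.Frobenius
import Cfsg.Agent.Lib.Coprime.Fitting
import Cfsg.Agent.Lib.Coprime.Solvable
import Mathlib.Tactic.Group

set_option autoImplicit false
open Cfsg

namespace Cfsg.Agent.S1474

open Subgroup CfsgLib.Coprime

variable {G : Type*} [Group G] [Finite G]

theorem cn_frobenius (hCN : Cfsg.IsCNGroup G) (hnn : ¬ Group.IsNilpotent G) {p : ℕ} [Fact p.Prime]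
    (P : Sylow p G) (hP1 : (P : Subgroup G) ≠ ⊥) (hPn : (P : Subgroup G).Normal) :
    Cfsg.fittingHall G ≠ ⊥ ∧ Cfsg.fittingHall G ≠ ⊤ ∧
      (∃ E : Subgroup G, Subgroup.IsComplement' (Cfsg.fittingHall G) E ∧
        Cfsg.IsFrobeniusComplement E ∧
        ∀ e ∈ E, e ≠ 1 → Cfsg.fittingHall G ⊓ centralizer ({e} : Set G) = ⊥) ∧
      Group.IsNilpotent (G ⧸ Cfsg.fittingHall G) := by
  haveI := hPn
  haveI := P.2.isNilpotent
  have hp : p.Prime := Fact.out
  have hcent : ∀ {k e : G}, k ≠ 1 → e * k = k * e → (orderOf e).Coprime p →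
      ∀ z ∈ (P : Subgroup G), z * k = k * z → e * z = z * e := by
    intro k e hk hek he z hz hzk
    haveI : Group.IsNilpotent (centralizer ({k} : Set G)) := hCN k hk
    exact congrArg Subtype.val (commute_of_coprime_pow (p := p)
      (b := (⟨e, mem_centralizer_singleton_iff.2 hek⟩ : centralizer ({k} : Set G)))
      (y := ⟨z, mem_centralizer_singleton_iff.2 hzk⟩) (by rwa [← Subgroup.orderOf_coe])
      (P.2.comap_subtype (K := centralizer ({k} : Set G))) hz).eq
  set C := centralizer ((P : Subgroup G) : Set G) with hC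
  haveI : C.Normal := inferInstance
  obtain ⟨⟨⟨z, hzP⟩, hzc⟩, hz1⟩ : ∃ z : center (P : Subgroup G), z ≠ 1 := by
    haveI : Nontrivial (P : Subgroup G) := (nontrivial_iff_ne_bot _).2 hP1
    haveI := P.2.center_nontrivial
    exact exists_ne 1
  have hz1' : z ≠ 1 := fun e => hz1 (Subtype.ext (Subtype.ext e))
  have hzcom : ∀ w ∈ (P : Subgroup G), w * z = z * w := fun w hw =>
    congrArg Subtype.val (mem_center_iff.1 hzc ⟨w, hw⟩)
  -- elements of order prime to `p` centralizing a non-identity element of `P` centralize `P`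
  have hkey : ∀ {k e : G}, k ∈ (P : Subgroup G) → k ≠ 1 → e * k = k * e → (orderOf e).Coprime p →
      e ∈ C := by
    intro k e hk hk1 hek he
    have hez := hcent hk1 hek he z hzP (hzcom k hk).symm
    exact mem_centralizer_iff.2 fun w hw => (hcent hz1' hez he w hw (hzcom w hw)).symm
  have hpelt : ∀ {x : G}, IsPGroup p (zpowers x) → x ∈ (P : Subgroup G) := by
    intro x hx
    obtain ⟨Q, hQ⟩ := hx.exists_le_sylow
    haveI := P.unique_of_normal hPn
    rw [Subsingleton.elim P Q]
    exact hQ (mem_zpowers x)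
  -- every nilpotent normal subgroup lies in `P C`
  set K := (P : Subgroup G) ⊔ C with hK
  have hmax : ∀ N : Subgroup G, N.Normal → Group.IsNilpotent N → N ≤ K := by
    intro N hNn hN x hxN
    refine CfsgLib.PGroup.mem_of_forall_prime_pow_mem (S := K) fun q hq => ?_
    haveI := Fact.mk hq
    obtain ⟨a, k, hk, hxk⟩ := Nat.exists_eq_pow_mul_and_not_dvd (orderOf_pos x).ne' q hq.ne_one
    refine ⟨k, hk, ?_⟩
    have hpow : (x ^ k) ^ q ^ a = 1 := by
      rw [← pow_mul, mul_comm, ← hxk, pow_orderOf_eq_one]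
    have hord := orderOf_dvd_of_pow_eq_one hpow
    by_cases hqp : q = p
    · refine mem_sup_left (hpelt ?_)
      obtain ⟨j, -, hj⟩ := (Nat.dvd_prime_pow hq).1 hord
      exact IsPGroup.of_card (n := j) (by rw [Nat.card_zpowers, hj, hqp])
    refine mem_sup_right ?_
    have he : (orderOf (x ^ k)).Coprime p :=
      (((Nat.coprime_primes hq hp).2 hqp).pow_left a).coprime_dvd_left hord
    haveI := hNn
    haveI := hN
    by_cases h0 : N ⊓ (P : Subgroup G) = ⊥
    · exact mem_centralizer_iff.2 fun w hw => (Subgroup.commute_of_normal_of_disjoint N _ hNn hPn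
        (disjoint_iff.2 h0) (x ^ k) w (pow_mem hxN k) hw).eq.symm
    obtain ⟨⟨w, hwN, hwP⟩, hw1⟩ := Subgroup.ne_bot_iff_exists_ne_one.1 h0
    refine hkey hwP (fun e => hw1 (Subtype.ext e)) ?_ he
    exact congrArg Subtype.val (commute_of_coprime_pow (p := p) (b := (⟨x ^ k, pow_mem hxN k⟩ : N))
      (y := ⟨w, hwN⟩) (by rwa [← Subgroup.orderOf_coe]) (P.2.comap_subtype (K := N)) hwP).eq
  have hCnil : Group.IsNilpotent C := isNilpotent_of_le
    (fun c hc => mem_centralizer_singleton_iff.2 (mem_centralizer_iff.1 hc z hzP).symm) (hCN z hz1')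
  haveI hKn : Group.IsNilpotent K := isNilpotent_of_le
    (sup_le (le_fitting P.2.isNilpotent) (le_fitting hCnil)) fitting_isNilpotent
  have hcomm : ∀ k ∈ K, (orderOf k).Coprime p → k ∈ C := fun k hk he =>
    mem_centralizer_iff.2 fun w hw => (congrArg Subtype.val (commute_of_coprime_pow (p := p)
      (b := (⟨k, hk⟩ : K)) (y := ⟨w, mem_sup_left hw⟩) (by rwa [← Subgroup.orderOf_coe])
      (P.2.comap_subtype (K := K)) hw).eq).symm
  have hHall : (Nat.card K).Coprime K.index := by
    refine Nat.coprime_of_dvd fun q hq hqK hqi => ?_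
    haveI := Fact.mk hq
    have hqp : q ≠ p := by
      intro e
      refine P.not_dvd_index (Nat.dvd_trans ?_ (hqi.trans (index_dvd_of_le le_sup_left)))
      exact (dvd_of_eq e.symm)
    obtain ⟨S⟩ : Nonempty (Sylow q K) := inferInstance
    obtain ⟨Q, hQ⟩ := (S.2.map K.subtype).exists_le_sylow
    haveI := Q.2.isNilpotent
    have hS0 : ((S : Subgroup K).map K.subtype) ≠ ⊥ := fun e =>
      S.ne_bot_of_dvd_card hqK ((Subgroup.map_eq_bot_iff_of_injective _ K.subtype_injective).1 e)
    have hn0 : K.subgroupOf (Q : Subgroup G) ≠ ⊥ := fun e => hS0 ((eq_bot_iff_forall _).2 fun w hw => by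
      have h1 : (⟨w, hQ hw⟩ : (Q : Subgroup G)) ∈ K.subgroupOf (Q : Subgroup G) :=
        mem_subgroupOf.2 (map_subtype_le (S : Subgroup K) hw)
      rw [e, mem_bot] at h1
      exact congrArg Subtype.val h1)
    obtain ⟨⟨⟨u, huQ⟩, huK, huc⟩, hu1⟩ := Subgroup.ne_bot_iff_exists_ne_one.1
      (nilpotent_inf_center_ne_bot _ hn0)
    have hu1' : u ≠ 1 := fun e => hu1 (Subtype.ext (Subtype.ext e))
    have hcop : ∀ x ∈ (Q : Subgroup G), (orderOf x).Coprime p := by
      intro x hx
      obtain ⟨b, hb⟩ := Q.2 ⟨x, hx⟩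
      exact (((Nat.coprime_primes hq hp).2 hqp).pow_left b).coprime_dvd_left
        (orderOf_dvd_of_pow_eq_one (congrArg Subtype.val hb))
    have huC := hcomm u huK (hcop u huQ)
    refine Q.not_dvd_index (hqi.trans (index_dvd_of_le fun x hx => mem_sup_right ?_))
    exact mem_centralizer_iff.2 fun w hw => (hcent hu1' (congrArg Subtype.val
      (mem_center_iff.1 huc ⟨x, hx⟩)) (hcop x hx) w hw (mem_centralizer_iff.1 huC w hw)).symm
  have hKeq : Cfsg.fittingHall G = K := le_antisymm (sSup_le fun N hN => hmax N hN.1 hN.2.1)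
    (le_sSup ⟨inferInstance, hKn, hHall⟩)
  obtain ⟨E, hE⟩ := exists_right_complement'_of_coprime (N := K) hHall
  have hKtop : K ≠ ⊤ := by
    intro e
    refine hnn ?_
    haveI : Group.IsNilpotent (⊤ : Subgroup G) := e ▸ hKn
    exact Group.nilpotent_of_mulEquiv (Subgroup.topEquiv (G := G))
  have hK0 : K ≠ ⊥ := fun e => hP1 (le_bot_iff.1 (e ▸ (le_sup_left : (P : Subgroup G) ≤ K)))
  have hE0 : E ≠ ⊥ := fun e => hKtop (by simpa [e] using hE.sup_eq_top)
  have hfpf : IsFpfOn E K := by
    intro e he he1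
    refine (eq_bot_iff_forall _).2 fun k hk => ?_
    by_contra hk1
    have hek : e * k = k * e := (mem_centralizer_singleton_iff.1 hk.2).symm
    have hep : (orderOf e).Coprime p := by
      refine (hp.coprime_iff_not_dvd.2 fun hd => P.not_dvd_index ?_).symm
      exact hd.trans ((Subgroup.orderOf_dvd_natCard E he).trans
        (hE.symm.index_eq_card ▸ index_dvd_of_le le_sup_left))
    refine he1 (mem_bot.1 (hE.disjoint.eq_bot ▸ (⟨mem_sup_right ?_, he⟩ : e ∈ K ⊓ E)))
    by_cases hkp : (orderOf k).Coprime p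
    · exact mem_centralizer_iff.2 fun w hw => (hcent hk1 hek hep w hw
        (mem_centralizer_iff.1 (hcomm k hk.1 hkp) w hw)).symm
    · have hd : p ∣ orderOf k := by
        by_contra hd
        exact hkp (hp.coprime_iff_not_dvd.2 hd).symm
      have ho := orderOf_pow_orderOf_div (orderOf_pos k).ne' hd
      refine hkey (k := k ^ (orderOf k / p)) (hpelt (IsPGroup.of_card (n := 1) ?_)) ?_ ?_ hep
      · rw [Nat.card_zpowers, ho, pow_one]
      · intro e1; rw [e1, orderOf_one] at ho; exact hp.ne_one ho.symm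
      · exact ((show Commute e k from hek).pow_right _).eq
  haveI hEnil : Group.IsNilpotent E := by
    obtain ⟨⟨⟨c, hcE⟩, hc⟩, hc1⟩ := Subgroup.ne_bot_iff_exists_ne_one.1
      (frob_complement_center_ne_bot hE hK0 hE0 hfpf)
    exact isNilpotent_of_le (fun x hx => mem_centralizer_singleton_iff.2
      (congrArg Subtype.val (mem_center_iff.1 hc ⟨x, hx⟩)))
      (hCN c fun e => hc1 (Subtype.ext (Subtype.ext e)))
  refine ⟨hKeq ▸ hK0, hKeq ▸ hKtop, ⟨E, hKeq ▸ hE, (frob_iff_fixed_point_free hE hK0 hE0).2 hfpf,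
    fun e he he1 => hKeq.symm ▸ hfpf e he he1⟩, ?_⟩
  have hnil : Group.IsNilpotent (G ⧸ K) := by
    refine Group.nilpotent_of_surjective ((QuotientGroup.mk' K).comp E.subtype) fun y => ?_
    obtain ⟨g, rfl⟩ := QuotientGroup.mk'_surjective K y
    obtain ⟨⟨a, b⟩, hab⟩ := hE.2 g
    refine ⟨b, ?_⟩
    show QuotientGroup.mk' K (b : G) = QuotientGroup.mk' K g
    rw [← hab, map_mul, show QuotientGroup.mk' K (a : G) = 1 from (QuotientGroup.eq_one_iff _).2 a.2,
      one_mul]
  exact Group.nilpotent_of_mulEquiv (QuotientGroup.quotientMulEquivOfEq hKeq.symm)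


/-- Let G be a finite group in which every non-identity element has nilpotent centralizer, not itself nilpotent, and having a nontrivial normal Sylow p-subgroup for some prime p. Let H be the largest normal nilpotent Hall subgroup of G. Then H is a nontrivial proper normal subgroup with a complement E that is a Frobenius complement in G (no non-identity element of E centralizes a non-identity element of H), and G/H is nilpotent. -/
theorem result {G : Type*} [Group G] [Finite G] (hCN : Cfsg.IsCNGroup G) (hnn : ¬ Group.IsNilpotent G) (p : ℕ) [Fact p.Prime] (P : Sylow p G)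
    (hP1 : (P : Subgroup G) ≠ ⊥) (hPn : (P : Subgroup G).Normal) :
    Cfsg.fittingHall G ≠ ⊥ ∧ Cfsg.fittingHall G ≠ ⊤ ∧
      (∃ E : Subgroup G, Subgroup.IsComplement' (Cfsg.fittingHall G) E ∧ Cfsg.IsFrobeniusComplement E ∧
        ∀ e ∈ E, e ≠ 1 → Cfsg.fittingHall G ⊓ Subgroup.centralizer ({e} : Set G) = ⊥) ∧
      Group.IsNilpotent (G ⧸ Cfsg.fittingHall G) := by
  exact cn_frobenius hCN hnn P hP1 hPn

end Cfsg.Agent.S1474
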