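import Cfsg.Statements.S1475
import Cfsg.Agent.Lib.Coprime.FpfAction
import Cfsg.Agent.Lib.Coprime.Hall
import Cfsg.Agent.Lib.Coprime.Fitting
import Mathlib.Tactic.Group

set_option autoImplicit false
open Cfsg

namespace Cfsg.Agent.S1475

open Subgroup CfsgLib.Coprime

variable {G : Type*} [Group G] [Finite G] [Group.IsSolvable G]

theorem two_primes (h : ∀ g : G, IsPrimePow (orderOf g) ∨ g = 1) :
    (Nat.card G).primeFactors.card ≤ 2 := by
  classical
  have hord : ∀ (g : G) (a b : ℕ), a.Prime → b.Prime → a ≠ b → orderOf g = a * b → False := by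
    intro g a b ha hb hab he
    rcases h g with h1 | h1
    · obtain ⟨r, k, hr, -, hrk⟩ := (isPrimePow_nat_iff _).1 h1
      have ea := (Nat.prime_dvd_prime_iff_eq ha hr).1 (ha.dvd_of_dvd_pow (hrk ▸ he ▸ dvd_mul_right a b))
      have eb := (Nat.prime_dvd_prime_iff_eq hb hr).1 (hb.dvd_of_dvd_pow (hrk ▸ he ▸ dvd_mul_left b a))
      exact hab (ea.trans eb.symm)
    · rw [h1, orderOf_one] at he
      exact ha.ne_one (Nat.eq_one_of_mul_eq_one_right he.symm)
  by_contra hlt
  push Not at hlt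
  rcases subsingleton_or_nontrivial G with hs | hs
  · rw [Nat.card_of_subsingleton (1 : G)] at hlt; simp at hlt
  obtain ⟨N, hNn, hN0, -, hmin⟩ := exists_minimal_normal_le (N := (⊤ : Subgroup G)) top_ne_bot
  haveI := hNn
  obtain ⟨hNc, p, hp, hNp⟩ := minimal_normal_solvable hN0 hmin
  haveI : IsMulCommutative N := ⟨⟨fun a b => Subtype.ext (hNc a a.2 b b.2)⟩⟩
  obtain ⟨H, -, hHp, hHi⟩ := exists_hallIn (π := ({p}ᶜ : Set ℕ)) (L := (⊤ : Subgroup G)) inferInstance
  have hfpf : IsFpfOn H N := by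
    intro a ha ha1
    refine (eq_bot_iff_forall _).2 fun v hv => ?_
    by_contra hv1
    have hnep : orderOf a ≠ 1 := fun e => ha1 (orderOf_eq_one_iff.1 e)
    obtain ⟨r, hr, hrd⟩ := Nat.exists_prime_and_dvd hnep
    have hrp : r ≠ p := fun e =>
      hHp r hr (hrd.trans (Subgroup.orderOf_dvd_natCard H ha)) (by simpa using e)
    set b := a ^ (orderOf a / r)
    have hb : orderOf b = r := orderOf_pow_orderOf_div (orderOf_pos a).ne' hrd
    haveI := Fact.mk hp
    have hv' : orderOf v = p := orderOf_eq_prime (hNp v hv.1) hv1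
    have hc : Commute b v := (show Commute v a from mem_centralizer_singleton_iff.1 hv.2).symm.pow_left _
    refine hord (b * v) r p hr hp hrp ?_
    rw [hc.orderOf_mul_eq_mul_orderOf_of_coprime (by rw [hb, hv']; exact (Nat.coprime_primes hr hp).2 hrp),
      hb, hv']
  have hHN : H ≤ normalizer (N : Set G) := by rw [normalizer_eq_top (H := N)]; exact le_top
  -- two further primes
  obtain ⟨q, r, hq, hr, hqr, hqH, hrH⟩ : ∃ q r : ℕ, q.Prime ∧ r.Prime ∧ q ≠ r ∧
      q ∣ Nat.card H ∧ r ∣ Nat.card H := by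
    have hcard := card_mul_relIndex (le_top : H ≤ ⊤)
    rw [Subgroup.card_top] at hcard
    have key : ∀ q ∈ (Nat.card G).primeFactors.erase p, q.Prime ∧ q ∣ Nat.card H := by
      intro q hq
      obtain ⟨hqp, hq'⟩ := Finset.mem_erase.1 hq
      have hqP := Nat.prime_of_mem_primeFactors hq'
      refine ⟨hqP, (hqP.dvd_mul.1 (hcard ▸ Nat.dvd_of_mem_primeFactors hq')).resolve_right fun hd => ?_⟩
      exact hHi q hqP hd (by simpa using hqp)
    have h2 : 1 < ((Nat.card G).primeFactors.erase p).card := by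
      have := Finset.pred_card_le_card_erase (a := p) (s := (Nat.card G).primeFactors)
      omega
    obtain ⟨q, hq, r, hr, hqr⟩ := Finset.one_lt_card.1 h2
    exact ⟨q, r, (key q hq).1, (key r hr).1, hqr, (key q hq).2, (key r hr).2⟩
  haveI : Nontrivial H := (nontrivial_iff_ne_bot _).2 fun e => by
    rw [e, Subgroup.card_bot] at hqH
    exact hq.ne_one (Nat.dvd_one.1 hqH)
  obtain ⟨M, hMn, hM0, -, hMmin⟩ := exists_minimal_normal_le (N := (⊤ : Subgroup H)) top_ne_bot
  haveI := hMn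
  obtain ⟨hMc, s, hs, hMs⟩ := minimal_normal_solvable hM0 hMmin
  haveI := Fact.mk hs
  set M' := M.map H.subtype with hM'
  haveI : IsMulCommutative M' := ⟨⟨fun ⟨a, a', ha', ea⟩ ⟨b, b', hb', eb⟩ => Subtype.ext (by
    show a * b = b * a
    rw [← ea, ← eb, ← map_mul, ← map_mul, hMc a' ha' b' hb'])⟩⟩
  haveI := (hfpf.mono (map_subtype_le M) le_rfl).isCyclic ((map_subtype_le M).trans hHN) hN0
  obtain ⟨⟨m, hm⟩, hgen⟩ := IsCyclic.exists_generator (α := M')
  have hm1 : m ≠ 1 := by
    intro e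
    refine hM0 ((Subgroup.map_eq_bot_iff_of_injective M H.subtype_injective).1
      ((eq_bot_iff_forall _).2 fun x hx => ?_))
    obtain ⟨j, hj⟩ := mem_zpowers_iff.1 (hgen ⟨x, hx⟩)
    have := congrArg Subtype.val hj
    simp only [SubgroupClass.coe_zpow, e, one_zpow] at this
    exact this.symm
  have hms : orderOf m = s := by
    obtain ⟨m', hm', rfl⟩ := hm
    exact orderOf_eq_prime (congrArg Subtype.val (hMs m' hm')) hm1
  obtain ⟨t, ht, hts, htH⟩ : ∃ t : ℕ, t.Prime ∧ t ≠ s ∧ t ∣ Nat.card H := by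
    by_cases e : q = s
    · exact ⟨r, hr, fun e' => hqr (e.trans e'.symm), hrH⟩
    · exact ⟨q, hq, e, hqH⟩
  haveI := Fact.mk ht
  obtain ⟨⟨y, hyH⟩, hy⟩ := exists_prime_orderOf_dvd_card' t htH
  rw [Subgroup.orderOf_mk] at hy
  have hym : y * m * y⁻¹ ∈ zpowers m := by
    obtain ⟨m', hm', e⟩ := hm
    have h1 : y * m * y⁻¹ ∈ M' := ⟨_, hMn.conj_mem m' hm' ⟨y, hyH⟩, by rw [← e]; rfl⟩
    obtain ⟨j, hj⟩ := mem_zpowers_iff.1 (hgen ⟨_, h1⟩)
    exact mem_zpowers_iff.2 ⟨j, congrArg Subtype.val hj⟩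
  have hcomm := hfpf.commute_of_prime hHN hN0 (map_subtype_le M hm) hyH (hms ▸ hs) (hy ▸ ht) hym
  refine hord (y * m) t s ht hs hts ?_
  rw [hcomm.orderOf_mul_eq_mul_orderOf_of_coprime (by rw [hy, hms]; exact (Nat.coprime_primes ht hs).2 hts),
    hy, hms]


/-- Let G be a finite solvable group such that the order of every element is a prime power (1 included). Then at most two distinct primes divide the order of G. -/
theorem result {G : Type*} [Group G] [Finite G] [Group.IsSolvable G] (h : ∀ g : G, IsPrimePow (orderOf g) ∨ g = 1) :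
    (Nat.card G).primeFactors.card ≤ 2 := by
  exact two_primes h

end Cfsg.Agent.S1475
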