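import Cfsg.Statements.S1476
import Cfsg.Agent.S1474
import Cfsg.Agent.Lib.Char.CNLocal
import Cfsg.Agent.Lib.Char.CNOdd
import Cfsg.Agent.Lib.Coprime.Component
import Cfsg.Agent.Lib.Coprime.Core
import Cfsg.Agent.Lib.Coprime.Hall

set_option autoImplicit false
open Cfsg

namespace Cfsg.Agent.S1476

open Subgroup CfsgLib.Coprime CfsgLib.Char

universe v

theorem quaternion_or_cyclic {G : Type v} [Group G] [Finite G] {E : Subgroup G}
    (hn : Group.IsNilpotent E)
    (hs : ∀ (r : ℕ), r.Prime → ∀ R : Sylow r E,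
      IsCyclic R ∨ (r = 2 ∧ ∃ n : ℕ, Nonempty (R ≃* QuaternionGroup (2 ^ n)))) :
    IsCyclic E ∨ ∃ C Q : Subgroup G, C ⊔ Q = E ∧ (∀ a ∈ C, ∀ b ∈ Q, a * b = b * a) ∧ IsCyclic C ∧
      Odd (Nat.card C) ∧ ∃ n : ℕ, Nonempty (↥Q ≃* QuaternionGroup (2 ^ n)) := by
  haveI := hn
  haveI : Fact (Nat.Prime 2) := ⟨Nat.prime_two⟩
  let S : Sylow 2 E := default
  rcases hs 2 Nat.prime_two S with hc | ⟨-, n, ⟨e⟩⟩
  · left
    haveI : IsZGroup E := by
      refine ⟨fun r hr R => ?_⟩
      haveI := Fact.mk hr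
      rcases hs r hr R with h | ⟨rfl, -⟩
      · exact h
      · haveI := hc
        exact isCyclic_of_surjective (S.equiv R) (S.equiv R).surjective
    infer_instance
  · right
    obtain ⟨C, hC⟩ := exists_right_complement'_of_coprime (N := (S : Subgroup E)) S.card_coprime_index
    have hcop : ¬ 2 ∣ Nat.card C := by
      rw [← hC.symm.index_eq_card]
      exact S.not_dvd_index
    haveI : IsCyclic C := by
      haveI : IsZGroup C := by
        refine ⟨fun r hr R => ?_⟩
        haveI := Fact.mk hr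
        by_cases hr1 : r ∣ Nat.card C
        · have hr2 : r ≠ 2 := fun h => hcop (h ▸ hr1)
          obtain ⟨T, hT⟩ := ((R.2.map C.subtype)).exists_le_sylow
          rcases hs r hr T with h | ⟨h, -⟩
          · haveI := h
            haveI : IsCyclic ((R : Subgroup C).map C.subtype) := isCyclic_of_le hT
            exact isCyclic_of_surjective
              ((R : Subgroup C).equivMapOfInjective C.subtype C.subtype_injective).symm
              (MulEquiv.surjective _)
          · exact absurd h hr2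
        · have : (R : Subgroup C) = ⊥ := by
            rw [← card_eq_one, Sylow.card_eq_multiplicity, Nat.factorization_eq_zero_of_not_dvd hr1,
              pow_zero]
          rw [this]
          infer_instance
      infer_instance
    refine ⟨C.map E.subtype, (S : Subgroup E).map E.subtype, ?_, ?_, ?_, ?_, n,
      ⟨((S : Subgroup E).equivMapOfInjective E.subtype E.subtype_injective).symm.trans e⟩⟩
    · rw [← Subgroup.map_sup, sup_comm, hC.sup_eq_top, ← MonoidHom.range_eq_map, range_subtype]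
    · rintro _ ⟨a, ha, rfl⟩ _ ⟨b, hb, rfl⟩
      have ha2 : (orderOf a).Coprime 2 :=
        ((Nat.prime_two.coprime_iff_not_dvd).2 fun h =>
          hcop (h.trans (orderOf_dvd_natCard _ ha))).symm
      exact congrArg (E.subtype) (commute_of_coprime_pow ha2 S.2 hb).eq
    · exact isCyclic_of_surjective (C.equivMapOfInjective E.subtype E.subtype_injective)
        (MulEquiv.surjective _)
    · rw [card_map_of_injective E.subtype_injective, Nat.odd_iff]
      omega

theorem threeStep {G : Type v} [Group G] [Finite G] [Group.IsSolvable G]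
    (hCN : Cfsg.IsCNGroup G) (hnn : ¬ Group.IsNilpotent G)
    (hns : ∀ (r : ℕ) [Fact r.Prime] (R : Sylow r G), (R : Subgroup G) ≠ ⊥ →
      ¬ (R : Subgroup G).Normal) :
    ∃ p : ℕ, p.Prime ∧ Cfsg.IsThreeStepGroup p G := by
  haveI : Nontrivial G := by
    rw [← not_subsingleton_iff_nontrivial]
    exact fun h => hnn inferInstance
  obtain ⟨M, p, hMn, hM0, hp, hMp, -⟩ := exists_normal_pGroup_of_isSolvable (G := G)
  haveI := Fact.mk hp
  have hD : Cfsg.pCore p G ≠ ⊥ := fun h => hM0 (le_bot_iff.1 (h ▸ CfsgLib.Coprime.le_pCore (hN := hMn) hMp))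
  have hn : ∀ R : Sylow p G, ¬ (R : Subgroup G).Normal := fun R =>
    hns p R fun h => hD (le_bot_iff.1 (h ▸ pCore_le_sylow R))
  set D := Cfsg.pCore p G with hDdef
  haveI hDn : D.Normal := by rw [hDdef]; infer_instance
  have hDp : IsPGroup p D := CfsgLib.Coprime.pCore_isPGroup p
  have hCD : centralizer (D : Set G) ≤ D := cn_centralizer_pCore_le hCN hD hn
  have hfpf : ∀ y : G, y ≠ 1 → (orderOf y).Coprime p → ∀ d ∈ D, y * d = d * y → d = 1 :=
    fun y h1 h2 d h3 h4 => cn_fpf hDp hCD hCN h1 h2 h3 h4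
  -- a p'-element commuting with a nontrivial p-element is trivial
  have hL : ∀ b y : G, b ≠ 1 → IsPGroup p (zpowers b) → y * b = b * y → (orderOf y).Coprime p →
      y = 1 := by
    intro b y hb1 hb hyb hy
    by_contra hy1
    have hS : IsPGroup p ↥(zpowers b ⊔ D) := hb.to_sup_of_normal_right hDp
    haveI : Group.IsNilpotent ↥(zpowers b ⊔ D) := hS.isNilpotent
    have hne : D.subgroupOf (zpowers b ⊔ D) ≠ ⊥ := by
      intro h
      rw [subgroupOf_eq_bot, disjoint_iff, inf_eq_left.2 le_sup_right] at h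
      exact hD h
    obtain ⟨⟨d, hdS⟩, hd, hd1⟩ := (bot_or_exists_ne_one _).resolve_left
      (nilpotent_inf_center_ne_bot (D.subgroupOf (zpowers b ⊔ D)) hne)
    obtain ⟨hd2, hd3⟩ := mem_inf.1 hd
    have hdb : d * b = b * d :=
      (congrArg Subtype.val (mem_center_iff.1 hd3 ⟨b, le_sup_left (a := zpowers b) (mem_zpowers b)⟩)).symm
    have hdy := cn_commute hCN hb1 hyb hdb hy (isPGroup_zpowers_of_mem hDp (mem_subgroupOf.1 hd2))
    exact hd1 (Subtype.ext (hfpf y hy1 hy d (mem_subgroupOf.1 hd2) hdy))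
  have hLp : ∀ b y : G, b ≠ 1 → IsPGroup p (zpowers b) → y * b = b * y →
      IsPGroup p (zpowers y) := by
    intro b y hb1 hb hyb
    have ho := (orderOf_pos y).ne'
    have hm : y ^ (p ^ (orderOf y).factorization p) = 1 := by
      refine hL b _ hb1 hb ((show Commute y b from hyb).pow_left _).eq ?_
      rw [orderOf_pow_of_dvd (pow_ne_zero _ hp.ne_zero) (Nat.ordProj_dvd _ p)]
      exact (Nat.coprime_ordCompl hp ho).symm
    obtain ⟨j, -, hj⟩ := (Nat.dvd_prime_pow hp).1 (orderOf_dvd_of_pow_eq_one hm)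
    exact IsPGroup.of_card (by rw [Nat.card_zpowers, hj])
  -- the Fitting subgroup of the quotient
  set f := QuotientGroup.mk' D with hf
  have hfs : Function.Surjective f := QuotientGroup.mk'_surjective D
  set Fb := Cfsg.fittingSubgroup (G ⧸ D) with hFb
  haveI hFbn : Fb.Normal := fitting_normal
  haveI : Group.IsNilpotent Fb := fitting_isNilpotent
  have hFbp : ¬ p ∣ Nat.card Fb := by
    intro hdvd
    let S : Sylow p Fb := default
    have hSn : ((S : Subgroup Fb).map Fb.subtype).Normal := by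
      haveI : (S : Subgroup Fb).Characteristic := S.characteristic_of_normal inferInstance
      exact ConjAct.normal_of_characteristic_of_normal
    have h1 := CfsgLib.Coprime.le_pCore (hN := hSn) (S.2.map Fb.subtype)
    rw [pCore_quotient_eq_bot p, le_bot_iff, map_eq_bot_iff_of_injective _ Fb.subtype_injective] at h1
    exact S.ne_bot_of_dvd_card hdvd h1
  haveI : Group.IsSolvable (G ⧸ D) := inferInstance
  have hpidx : p ∣ D.index := by
    by_contra h
    exact hn (hDp.toSylow h) (by simpa using hDn)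
  set K := Fb.comap f with hK
  haveI hKn : K.Normal := hFbn.comap f
  have hDK : D ≤ K := fun d hd => mem_comap.2 (by
    rw [show f d = 1 from (QuotientGroup.eq_one_iff d).2 hd]; exact Fb.one_mem)
  have hKs : Group.IsSolvable K := inferInstance
  obtain ⟨A, hA⟩ := exists_hallIn ({p}ᶜ : Set ℕ) hKs
  have hKF : K.map f = Fb := map_comap_eq_self_of_surjective hfs Fb
  have hcardK : Nat.card K = Nat.card D * Nat.card Fb := by
    rw [← card_mul_relIndex hDK]
    congr 1
    have h1 : (⊥ : Subgroup (G ⧸ D)).comap f = D := by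
      rw [MonoidHom.comap_bot, QuotientGroup.ker_mk']
    exact (congrArg (fun S => Subgroup.relIndex S K) h1).symm.trans
      (by rw [relIndex_comap, hKF, relIndex_bot_left])
  obtain ⟨hAK, hAπ, hAidx⟩ := hA
  have hAp : (Nat.card A).Coprime p := by
    rw [Nat.coprime_comm, hp.coprime_iff_not_dvd]
    exact fun h => hAπ p hp h rfl
  have hDA : D ⊓ A = ⊥ := by
    obtain ⟨a, ha⟩ := IsPGroup.iff_card.1 hDp
    rw [inf_eq_bot_of_coprime]
    rw [ha]
    exact (hAp.symm.pow_left a)
  have hcardA : Nat.card A = Nat.card Fb := by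
    obtain ⟨a, ha⟩ := IsPGroup.iff_card.1 hDp
    obtain ⟨c, hc⟩ : ∃ c, A.relIndex K = p ^ c :=
      ⟨_, Nat.eq_prime_pow_of_unique_prime_dvd (fun h0 => by
          have := card_mul_relIndex hAK
          rw [h0, mul_zero] at this
          exact Nat.card_pos.ne' this.symm)
        fun {r} hr hrd => by
          by_contra hne
          exact hAidx r hr hrd hne⟩
    have h := card_mul_relIndex hAK
    rw [hcardK, ha, hc] at h
    exact Nat.dvd_antisymm
      ((hAp.pow_right a).dvd_of_dvd_mul_left (h ▸ dvd_mul_right _ _))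
      ((((hp.coprime_iff_not_dvd).2 hFbp).pow_left c).symm.dvd_of_dvd_mul_right
        (h.symm ▸ dvd_mul_left _ _))
  have hAinj : ∀ a ∈ A, f a = 1 → a = 1 := fun a ha h =>
    (mem_bot).1 (hDA ▸ mem_inf.2 ⟨(QuotientGroup.eq_one_iff a).1 h, ha⟩)
  have hAmap : A.map f = Fb := by
    refine eq_of_le_of_card_ge (map_le_iff_le_comap.2 hAK) (le_of_eq ?_)
    rw [← hcardA]
    refine Nat.card_congr (Equiv.ofBijective (fun a : A => (⟨f a, ⟨a, a.2, rfl⟩⟩ : A.map f)) ⟨?_, ?_⟩)
    · intro a b hab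
      have h : f ((a : G)⁻¹ * b) = 1 := by
        rw [map_mul, map_inv, show f a = f b from congrArg Subtype.val hab, inv_mul_cancel]
      exact Subtype.ext (inv_mul_eq_one.1 (hAinj _ (mul_mem (inv_mem a.2) b.2) h))
    · rintro ⟨_, a, ha, rfl⟩; exact ⟨⟨a, ha⟩, rfl⟩
  have hKeq : ∀ k ∈ K, ∃ d ∈ D, ∃ a ∈ A, k = d * a := by
    intro k hk
    obtain ⟨a, ha, hak⟩ : f k ∈ A.map f := hAmap ▸ mem_comap.1 hk
    exact ⟨k * a⁻¹, (QuotientGroup.eq_one_iff _).1
      (show f (k * a⁻¹) = 1 by rw [map_mul, map_inv, hak, mul_inv_cancel]), a, ha, by group⟩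
  have hKsup : D ⊔ A = K := le_antisymm (sup_le hDK hAK) fun k hk => by
    obtain ⟨d, hd, a, ha, rfl⟩ := hKeq k hk
    exact mul_mem_sup hd ha
  have hA1 : A ≠ ⊥ := by
    intro h
    rw [h, Subgroup.map_bot] at hAmap
    have h2 := centralizer_fitting_le (G := G ⧸ D)
    rw [← hFb, ← hAmap] at h2
    have h3 : (⊤ : Subgroup (G ⧸ D)) ≤ ⊥ := le_trans (fun x _ => mem_centralizer_iff.2 fun z hz => by
      simp [mem_bot.1 hz]) h2
    have : Nat.card (G ⧸ D) = 1 := card_eq_one.2 (le_bot_iff.1 h3) ▸ card_top.symm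
    rw [← index_eq_card] at this
    exact hp.not_dvd_one (this ▸ hpidx)
  have hAD : A ≤ normalizer (D : Set G) := by rw [normalizer_eq_top (H := D)]; exact le_top
  have hAfpf : IsFpfOn A D := by
    intro a ha ha1
    rw [eq_bot_iff]
    intro d hd
    obtain ⟨hdD, hdc⟩ := mem_inf.1 hd
    exact mem_bot.2 (hfpf a ha1 (Nat.Coprime.of_dvd_left (orderOf_dvd_natCard _ ha) hAp) d hdD
      (mem_centralizer_iff.1 hdc a rfl))
  set N := normalizer (A : Set G) with hN
  have hGN : ∀ g : G, ∃ d ∈ D, ∃ n ∈ N, g = d * n := by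
    intro g
    have h := hall_frattini (L := K) hKs hAK (by
      obtain ⟨a, ha⟩ := IsPGroup.iff_card.1 hDp
      have h := card_mul_relIndex hAK
      rw [hcardK, ← hcardA, mul_comm (Nat.card D)] at h
      rw [Nat.eq_of_mul_eq_mul_left Nat.card_pos h, ha]
      exact hAp.pow_right a)
    obtain ⟨k, hk, n, hn, rfl⟩ := mem_sup_exists (N := K) (H := N)
      (by rw [normalizer_eq_top (H := K)]; exact le_top) (x := g) (by rw [h]; trivial)
    obtain ⟨d, hd, a, ha, rfl⟩ := hKeq k hk
    exact ⟨d, hd, a * n, mul_mem (le_normalizer ha) hn, by group⟩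
  have hND : ∀ x ∈ N, x ∈ D → x = 1 := by
    intro x hxN hxD
    obtain ⟨a, ha, ha1⟩ := (bot_or_exists_ne_one A).resolve_left hA1
    refine hAfpf.eq_one ha ha1 hxD ?_
    have h1 : a * x * a⁻¹ * x⁻¹ ∈ D :=
      mul_mem (hDn.conj_mem x hxD a) (inv_mem hxD)
    have h2 : a * x * a⁻¹ * x⁻¹ ∈ A := by
      rw [mul_assoc, mul_assoc]
      refine mul_mem ha ?_
      rw [← mul_assoc]
      exact (mem_normalizer_iff.1 hxN a⁻¹).1 (inv_mem ha)
    exact mul_inv_eq_one.1 (mem_bot.1 (hDA ▸ mem_inf.2 ⟨h1, h2⟩))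
  obtain ⟨b, hbN, hb1, hb⟩ : ∃ b ∈ N, b ≠ 1 ∧ IsPGroup p (zpowers b) := by
    have hdvd : p ∣ Nat.card (G ⧸ D) := by rw [← index_eq_card]; exact hpidx
    obtain ⟨x, hx⟩ := exists_prime_orderOf_dvd_card' p hdvd
    obtain ⟨g, rfl⟩ := hfs x
    obtain ⟨d, hd, n, hn, rfl⟩ := hGN g
    have hfn : f (d * n) = f n := by
      rw [map_mul, show f d = 1 from (QuotientGroup.eq_one_iff d).2 hd, one_mul]
    rw [hfn] at hx
    have hnp : n ^ p = 1 := hND _ (pow_mem hn p) ((QuotientGroup.eq_one_iff _).1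
      (show f (n ^ p) = 1 by rw [map_pow, ← hx, pow_orderOf_eq_one]))
    have hn1 : n ≠ 1 := fun h => by
      rw [h, map_one, orderOf_one] at hx
      exact hp.ne_one hx.symm
    exact ⟨n, hn, hn1, IsPGroup.of_card (n := 1)
      (by rw [Nat.card_zpowers, orderOf_eq_prime hnp hn1, pow_one])⟩
  have hodd : Odd (Nat.card A) := by
    rw [Nat.odd_iff]
    by_contra h2
    haveI : Fact (Nat.Prime 2) := ⟨Nat.prime_two⟩
    obtain ⟨s, hs⟩ := exists_prime_orderOf_dvd_card' (G := A) 2 (by omega)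
    have hs' : orderOf (s : G) = 2 := by rw [Subgroup.orderOf_coe, hs]
    have hbs : b * (s : G) * b⁻¹ = s := by
      refine hAfpf.unique_involution hAD hD s.2 ((mem_normalizer_iff.1 hbN _).1 s.2) hs' ?_
      rw [← hs']
      exact (MulAut.conj b).orderOf_eq (s : G)
    have h1 := hL b (s : G) hb1 hb (mul_inv_eq_iff_eq_mul.1 hbs).symm
      (Nat.Coprime.of_dvd_left (orderOf_dvd_natCard _ s.2) hAp)
    rw [h1, orderOf_one] at hs'
    omega
  haveI : Group.IsNilpotent A := by
    haveI : Group.IsNilpotent (A.map f) := by rw [hAmap]; infer_instance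
    exact Group.nilpotent_of_mulEquiv
      (MulEquiv.ofBijective (f.subgroupMap A) ⟨fun a c hac => by
        have h : f ((a : G)⁻¹ * c) = 1 := by
          rw [map_mul, map_inv, show f a = f c from congrArg Subtype.val hac, inv_mul_cancel]
        exact Subtype.ext (inv_mul_eq_one.1 (hAinj _ (mul_mem (inv_mem a.2) c.2) h)),
        f.subgroupMap_surjective A⟩).symm
  haveI hAc : IsCyclic A := by
    haveI : IsZGroup A := by
      refine ⟨fun r hr R => ?_⟩
      haveI := Fact.mk hr
      rcases hAfpf.sylow_cyclic_or_quaternion hAD hD R with h | ⟨rfl, k, ⟨e⟩⟩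
      · exact h
      · exfalso
        have h1 : Nat.card R ∣ Nat.card A := card_subgroup_dvd_card _
        rw [Nat.card_congr e.toEquiv, Nat.card_eq_fintype_card, QuaternionGroup.card] at h1
        exact (Nat.not_even_iff_odd.2 hodd) (even_iff_two_dvd.2 ((dvd_mul_right 2 _).trans
          ((by ring_nf; exact dvd_refl _ : (2 * (2 * 2 ^ k)) ∣ 4 * 2 ^ k).trans h1)))
    infer_instance
  have hCA : ∀ n ∈ N, (∀ a ∈ A, n * a = a * n) → n ∈ A := by
    intro n hn hc
    have h1 : f n ∈ centralizer (Fb : Set (G ⧸ D)) := by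
      rw [mem_centralizer_iff]
      rintro _ hz
      obtain ⟨a, ha, rfl⟩ : _ ∈ A.map f := hAmap ▸ hz
      rw [← map_mul, ← map_mul, hc a ha]
    obtain ⟨d, hd, a, ha, e⟩ := hKeq n (mem_comap.2 (centralizer_fitting_le h1))
    have hd1 : d = 1 := hND d (by
      rw [show d = n * a⁻¹ by rw [e]; group]
      exact mul_mem hn (inv_mem (le_normalizer ha))) hd
    rw [e, hd1, one_mul]
    exact ha
  have habel : ∀ m ∈ N, ∀ n ∈ N, m * n * m⁻¹ * n⁻¹ ∈ A := by
    intro m hm n hn
    refine hCA _ (mul_mem (mul_mem (mul_mem hm hn) (inv_mem hm)) (inv_mem hn)) fun a ha => ?_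
    obtain ⟨g, hg⟩ := hAc.exists_generator (α := A)
    have hpow : ∀ x ∈ N, ∃ k : ℤ, ∀ c ∈ A, x * c * x⁻¹ = c ^ k := by
      intro x hx
      obtain ⟨k, hk⟩ := mem_zpowers_iff.1 (hg ⟨x * g * x⁻¹, (mem_normalizer_iff.1 hx _).1 g.2⟩)
      refine ⟨k, fun c hc => ?_⟩
      obtain ⟨i, hi⟩ := mem_zpowers_iff.1 (hg ⟨c, hc⟩)
      have hi' : (g : G) ^ i = c := (congrArg Subtype.val hi :)
      have hk' : (g : G) ^ k = x * g * x⁻¹ := (congrArg Subtype.val hk :)
      rw [← hi', ← conj_zpow, ← hk', ← zpow_mul, ← zpow_mul, mul_comm]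
    obtain ⟨k, hk⟩ := hpow m hm
    obtain ⟨l, hl⟩ := hpow n hn
    obtain ⟨c, hc, rfl⟩ : ∃ c ∈ A, a = n * m * c * (n * m)⁻¹ :=
      ⟨(n * m)⁻¹ * a * (n * m), by
        have := (mem_normalizer_iff.1 (inv_mem (mul_mem hn hm)) a).1 ha
        simpa using this, by group⟩
    have e : m * n * c * (m * n)⁻¹ = n * m * c * (n * m)⁻¹ := by
      rw [show m * n * c * (m * n)⁻¹ = m * (n * c * n⁻¹) * m⁻¹ by group,
        show n * m * c * (n * m)⁻¹ = n * (m * c * m⁻¹) * n⁻¹ by group,
        hl c hc, hk c hc, hk _ (zpow_mem hc l), hl _ (zpow_mem hc k),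
        ← zpow_mul, ← zpow_mul, mul_comm]
    calc m * n * m⁻¹ * n⁻¹ * (n * m * c * (n * m)⁻¹)
        = (m * n * c * (m * n)⁻¹) * (m * n * m⁻¹ * n⁻¹) := by group
      _ = _ := by rw [e]
  have hNp : ∀ h ∈ N, ∃ j : ℕ, h ^ p ^ j ∈ A := by
    intro h hh
    let φ : A → A := fun a => ⟨(a : G)⁻¹ * b * a * b⁻¹, by
      rw [mul_assoc, mul_assoc, ← mul_assoc b]
      exact mul_mem (inv_mem a.2) ((mem_normalizer_iff.1 hbN _).1 a.2)⟩
    have hφ : Function.Injective φ := by
      intro a c hac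
      have h1 : (a : G)⁻¹ * b * a = (c : G)⁻¹ * b * c :=
        mul_right_cancel (congrArg Subtype.val hac :)
      have h2 : ((c : G) * (a : G)⁻¹) * b = b * ((c : G) * (a : G)⁻¹) := by
        calc (c : G) * (a : G)⁻¹ * b = c * ((a : G)⁻¹ * b * a) * (a : G)⁻¹ := by group
          _ = _ := by rw [h1]; group
      exact Subtype.ext (mul_inv_eq_one.1 (hL b _ hb1 hb h2 (Nat.Coprime.of_dvd_left
        (orderOf_dvd_natCard _ (mul_mem c.2 (inv_mem a.2))) hAp))).symm
    obtain ⟨a, ha⟩ := (Finite.injective_iff_surjective.1 hφ)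
      ⟨h * b * h⁻¹ * b⁻¹, habel h hh b hbN⟩
    have h1 : (a : G)⁻¹ * b * a = h * b * h⁻¹ := mul_right_cancel (congrArg Subtype.val ha :)
    have hc : ((a : G) * h) * b = b * ((a : G) * h) := by
      calc (a : G) * h * b = a * (h * b * h⁻¹) * h := by group
        _ = _ := by rw [← h1]; group
    obtain ⟨j, hj⟩ := IsPGroup.iff_card.1 (hLp b _ hb1 hb hc)
    rw [Nat.card_zpowers] at hj
    refine ⟨j, ?_⟩
    have key : ∀ m : ℕ, ∃ a' ∈ A, ((a : G) * h) ^ m = a' * h ^ m := by
      intro m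
      induction m with
      | zero => exact ⟨1, A.one_mem, by simp⟩
      | succ m ih =>
        obtain ⟨a', ha', e⟩ := ih
        refine ⟨a' * (h ^ m * a * (h ^ m)⁻¹),
          mul_mem ha' ((mem_normalizer_iff.1 (pow_mem hh m) _).1 a.2), ?_⟩
        rw [pow_succ, e, pow_succ]; group
    obtain ⟨a', ha', e⟩ := key (p ^ j)
    rw [← hj, pow_orderOf_eq_one, hj] at e
    rw [eq_inv_of_mul_eq_one_right e.symm]
    exact inv_mem ha'
  refine ⟨p, hp, hD, A, hA1, hAc, hodd, hAp, ?_⟩
  rw [← hDdef, hKsup]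
  refine ⟨hKn, ?_, ?_, fun a ha ha1 => hAfpf a ha ha1, ?_⟩
  · intro hKT
    have h : Fb = ⊤ := by rw [← hKF, hKT, map_top_of_surjective f hfs]
    apply hFbp
    rw [h, card_top, ← index_eq_card]
    exact hpidx
  · have hq : IsPGroup p (G ⧸ K) := by
      intro x
      obtain ⟨g, rfl⟩ := QuotientGroup.mk'_surjective K x
      obtain ⟨d, hd, n, hn, rfl⟩ := hGN g
      obtain ⟨j, hj⟩ := hNp n hn
      refine ⟨j, ?_⟩
      rw [map_mul, show QuotientGroup.mk' K d = 1 from (QuotientGroup.eq_one_iff d).2 (hDK hd),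
        one_mul, ← map_pow]
      exact (QuotientGroup.eq_one_iff _).2 (hAK hj)
    obtain ⟨j, hj⟩ := IsPGroup.iff_card.1 hq
    exact ⟨j, by rw [index_eq_card]; exact hj⟩
  · intro x hx a ha ha1 hxa
    obtain ⟨d, hd, n, hn, rfl⟩ := hGN x
    apply hx
    refine mul_mem (hDK hd) (hAK ?_)
    have hf1 : f (d * n * a * (d * n)⁻¹ * a⁻¹) = 1 := (QuotientGroup.eq_one_iff _).2 hxa
    simp only [map_mul, map_inv, show f d = 1 from (QuotientGroup.eq_one_iff d).2 hd, one_mul] at hf1
    have h3 : n * a * n⁻¹ * a⁻¹ = 1 :=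
      hAinj _ (mul_mem ((mem_normalizer_iff.1 hn a).1 ha) (inv_mem ha))
        (by rw [map_mul, map_mul, map_mul, map_inv, map_inv]; exact hf1)
    obtain ⟨k, hk, hkp⟩ := exists_pow_isPGroup p n
    have hc : n * a = a * n := mul_inv_eq_iff_eq_mul.1 (mul_inv_eq_one.1 h3)
    have hnk : n ^ k = 1 := by
      by_contra hne
      exact ha1 (hL _ a hne hkp ((show Commute n a from hc).pow_left k).eq.symm
        (Nat.Coprime.of_dvd_left (orderOf_dvd_natCard _ ha) hAp))
    obtain ⟨j, hj⟩ := hNp n hn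
    have hcop : (orderOf n).Coprime (p ^ j) :=
      (Nat.Coprime.of_dvd_left (orderOf_dvd_of_pow_eq_one hnk)
        ((hp.coprime_iff_not_dvd).2 hk).symm).pow_right j
    obtain ⟨m, hm⟩ := exists_pow_eq_self_of_coprime hcop.symm
    rw [← hm]
    exact pow_mem hj m


/-- Let G be a finite solvable group in which every non-identity element has nilpotent centralizer. Then either G is nilpotent; or G has a normal subgroup K with a Frobenius complement E (K E = G, K ∩ E = 1, E meets its conjugates by outside elements trivially) such that E is cyclic or E is generated by two elementwise-commuting subgroups, one cyclic of odd order and one isomorphic to a generalized quaternion group; or G is a three-step group with respect to some prime p. -/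
theorem result {G : Type*} [Group G] [Finite G] [Group.IsSolvable G] (hCN : Cfsg.IsCNGroup G) :
    Group.IsNilpotent G ∨
      (∃ K E : Subgroup G, K.Normal ∧ Subgroup.IsComplement' K E ∧ Cfsg.IsFrobeniusComplement E ∧
        (IsCyclic E ∨ ∃ C Q : Subgroup G, C ⊔ Q = E ∧ (∀ a ∈ C, ∀ b ∈ Q, a * b = b * a) ∧ IsCyclic C ∧ Odd (Nat.card C) ∧
          ∃ n : ℕ, Nonempty (↥Q ≃* QuaternionGroup (2 ^ n)))) ∨
      ∃ p : ℕ, p.Prime ∧ Cfsg.IsThreeStepGroup p G := by
  by_cases hnn : Group.IsNilpotent G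
  · exact Or.inl hnn
  right
  by_cases h : ∃ (r : ℕ) (_ : Fact r.Prime) (R : Sylow r G),
      (R : Subgroup G) ≠ ⊥ ∧ (R : Subgroup G).Normal
  · left
    obtain ⟨r, hr, R, hR1, hRn⟩ := h
    obtain ⟨hK1, hKT, ⟨E, hE, hEF, hfpf⟩, hq⟩ := Cfsg.Agent.S1474.result hCN hnn r R hR1 hRn
    refine ⟨Cfsg.fittingHall G, E, inferInstance, hE, hEF, ?_⟩
    haveI : Group.IsNilpotent E := by
      haveI := hq
      exact Group.nilpotent_of_mulEquiv hE.symm.QuotientMulEquiv
    refine quaternion_or_cyclic inferInstance fun s hs S => ?_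
    haveI := Fact.mk hs
    exact IsFpfOn.sylow_cyclic_or_quaternion (K := Cfsg.fittingHall G)
      (by rw [normalizer_eq_top (H := Cfsg.fittingHall G)]; exact le_top) hfpf hK1 S
  · right
    push Not at h
    exact threeStep hCN hnn fun r hr R hR => h r hr R hR
end Cfsg.Agent.S1476
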