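import Cfsg.Statements.S1477
import Cfsg.Prelude.Def_LieExceptional
import Cfsg.Agent.Lib.Coprime.MinimalNonNilpotent
import Cfsg.Agent.Lib.Coprime.Fitting
import Cfsg.Agent.Lib.Coprime.Solvable
import Cfsg.Agent.Lib.PGroup.Basic
import Mathlib.Tactic.Group

set_option autoImplicit false
open Cfsg

namespace Cfsg.Agent.S1477

open Subgroup CfsgLib.Coprime

section CN

variable {G : Type*} [Group G] [Finite G]

/-- Commuting of elements in a nilpotent subgroup. -/
theorem comm_in {L : Subgroup G} (hL : Group.IsNilpotent L) {p : ℕ} [Fact p.Prime] {b y : G}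
    (hb : b ∈ L) (hy : y ∈ L) (hbp : (orderOf b).Coprime p) (hyp : IsPGroup p (zpowers y)) :
    b * y = y * b := by
  haveI := hL
  exact congrArg Subtype.val (commute_of_coprime_pow (p := p) (b := (⟨b, hb⟩ : L)) (y := ⟨y, hy⟩)
    (by rwa [← Subgroup.orderOf_coe]) (hyp.comap_subtype (K := L)) (mem_zpowers y)).eq

theorem coprime_of_isPGroup {p q : ℕ} [hp : Fact p.Prime] [hq : Fact q.Prime] {x : G} (h : q ≠ p)
    (hx : IsPGroup q (zpowers x)) : (orderOf x).Coprime p := by
  obtain ⟨n, hn⟩ := IsPGroup.iff_card.1 hx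
  rw [Nat.card_zpowers] at hn
  rw [hn]
  exact ((Nat.coprime_primes hq.out hp.out).2 h).pow_left n

variable (hCN : Cfsg.IsCNGroup G) (H : Subgroup G) (hH : Group.IsNilpotent H)
  (hmax : ∀ L : Subgroup G, Group.IsNilpotent L → H ≤ L → L = H)

include hCN hH hmax

theorem centralizer_central {h : G} (h1 : h ≠ 1) (hc : ∀ w ∈ H, w * h = h * w) :
    centralizer ({h} : Set G) = H :=
  hmax _ (hCN h h1) fun w hw => mem_centralizer_singleton_iff.2 (hc w hw)

theorem exists_central (p : ℕ) [Fact p.Prime] (hp : p ∣ Nat.card H) :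
    ∃ z ∈ H, z ≠ 1 ∧ IsPGroup p (zpowers z) ∧ ∀ w ∈ H, w * z = z * w := by
  haveI := hH
  obtain ⟨S⟩ : Nonempty (Sylow p H) := inferInstance
  haveI : (S : Subgroup H).Normal :=
    Sylow.normal_of_normalizerCondition Group.normalizerCondition_of_isNilpotent S
  obtain ⟨⟨z, hzS, hzc⟩, hz1⟩ := Subgroup.ne_bot_iff_exists_ne_one.1
    (nilpotent_inf_center_ne_bot (S : Subgroup H) (S.ne_bot_of_dvd_card hp))
  refine ⟨z, z.2, fun e => hz1 (Subtype.ext (Subtype.ext e)), ?_,
    fun w hw => congrArg Subtype.val (mem_center_iff.1 hzc ⟨w, hw⟩)⟩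
  rw [show zpowers (z : G) = (zpowers z).map H.subtype from (MonoidHom.map_zpowers H.subtype z).symm]
  exact (S.2.to_le (zpowers_le.2 hzS)).map _

theorem sylow_le (p : ℕ) [Fact p.Prime] (hp : p ∣ Nat.card H) :
    ∃ S : Sylow p G, (S : Subgroup G) ≤ H := by
  haveI := hH
  obtain ⟨S₀⟩ : Nonempty (Sylow p H) := inferInstance
  obtain ⟨S, hS⟩ := (S₀.2.map H.subtype).exists_le_sylow
  refine ⟨S, ?_⟩
  haveI : Nontrivial (S : Subgroup G) := (nontrivial_iff_ne_bot _).2 fun e =>
    S₀.ne_bot_of_dvd_card hp ((Subgroup.map_eq_bot_iff_of_injective _ H.subtype_injective).1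
      (le_bot_iff.1 (e ▸ hS)))
  haveI := S.2.center_nontrivial
  obtain ⟨⟨⟨u, huS⟩, huc⟩, hu1⟩ := exists_ne (1 : center (S : Subgroup G))
  have hu1' : u ≠ 1 := fun e => hu1 (Subtype.ext (Subtype.ext e))
  have huS' : ∀ w ∈ (S : Subgroup G), w * u = u * w := fun w hw =>
    congrArg Subtype.val (mem_center_iff.1 huc ⟨w, hw⟩)
  have hpu : IsPGroup p (zpowers u) := S.2.to_le (zpowers_le.2 huS)
  have hpS : ∀ w ∈ H, IsPGroup p (zpowers w) → w ∈ (S : Subgroup G) := by
    intro w hw hwp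
    obtain ⟨T, hT⟩ := (hwp.comap_subtype (K := H)).exists_le_sylow
    haveI : (S₀ : Subgroup H).Normal :=
      Sylow.normal_of_normalizerCondition Group.normalizerCondition_of_isNilpotent S₀
    haveI := S₀.unique_of_normal inferInstance
    rw [Subsingleton.elim T S₀] at hT
    exact hS ⟨⟨w, hw⟩, hT (mem_zpowers w), rfl⟩
  obtain ⟨z, hzH, hz1, hzp, hzc⟩ := exists_central hCN H hH hmax p hp
  have huH : u ∈ H := by
    rw [← centralizer_central hCN H hH hmax hz1 hzc]
    exact mem_centralizer_singleton_iff.2 (huS' z (hpS z hzH hzp)).symm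
  have huc' : ∀ w ∈ H, w * u = u * w := by
    intro w hw
    refine mem_centralizer_singleton_iff.1 (CfsgLib.PGroup.mem_of_forall_prime_pow_mem
      (S := centralizer ({u} : Set G)) fun q hq => ?_)
    haveI := Fact.mk hq
    obtain ⟨a, k, hk, hxk⟩ := Nat.exists_eq_pow_mul_and_not_dvd (orderOf_pos w).ne' q hq.ne_one
    refine ⟨k, hk, mem_centralizer_singleton_iff.2 ?_⟩
    have hwk : IsPGroup q (zpowers (w ^ k)) := by
      obtain ⟨j, -, hj⟩ := (Nat.dvd_prime_pow hq).1 (orderOf_dvd_of_pow_eq_one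
        (x := w ^ k) (n := q ^ a) (by rw [← pow_mul, mul_comm, ← hxk, pow_orderOf_eq_one]))
      exact IsPGroup.of_card (n := j) (by rw [Nat.card_zpowers, hj])
    by_cases hqp : q = p
    · exact huS' _ (hpS _ (pow_mem hw k) (hqp ▸ hwk))
    · exact comm_in hH (pow_mem hw k) huH (coprime_of_isPGroup hqp hwk) hpu
  rw [← centralizer_central hCN H hH hmax hu1' huc']
  exact fun w hw => mem_centralizer_singleton_iff.2 (huS' w hw)

theorem hall : (Nat.card H).Coprime H.index := by
  refine Nat.coprime_of_dvd fun p hp hpH hpi => ?_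
  haveI := Fact.mk hp
  obtain ⟨S, hS⟩ := sylow_le hCN H hH hmax p hpH
  exact S.not_dvd_index (hpi.trans (index_dvd_of_le hS))

theorem ti (h1 : ¬ IsPrimePow (Nat.card H)) (h2 : Nat.card H ≠ 1) :
    ∀ g : G, H.map (MulAut.conj g).toMonoidHom ≠ H → H ⊓ H.map (MulAut.conj g).toMonoidHom = ⊥ := by
  intro g hg
  by_contra hne
  set H' := H.map (MulAut.conj g).toMonoidHom with hH'
  have hcard : Nat.card H' = Nat.card H :=
    card_map_of_injective (MulAut.conj g).injective
  have hH'n : Group.IsNilpotent H' := by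
    haveI := hH
    exact Group.nilpotent_of_mulEquiv (H.equivMapOfInjective _ (MulAut.conj g).injective)
  obtain ⟨p, hp, hpd⟩ := Nat.exists_prime_and_dvd (fun e => hne (Subgroup.eq_bot_of_card_eq _ e))
  haveI := Fact.mk hp
  obtain ⟨w, hw⟩ := exists_prime_orderOf_dvd_card' p hpd
  rw [← Subgroup.orderOf_coe] at hw
  obtain ⟨x, hxH, hxH'⟩ := w
  change orderOf x = p at hw
  have hx1 : x ≠ 1 := fun e => hp.ne_one (by rw [← hw, e, orderOf_one])
  have hxp : IsPGroup p (zpowers x) := IsPGroup.of_card (n := 1) (by rw [Nat.card_zpowers, hw, pow_one])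
  have hpH : p ∣ Nat.card H := hw ▸ Subgroup.orderOf_dvd_natCard H hxH
  obtain ⟨q, hq, hqH, hqp⟩ : ∃ q : ℕ, q.Prime ∧ q ∣ Nat.card H ∧ q ≠ p := by
    by_contra hc
    push Not at hc
    have := Nat.eq_prime_pow_of_unique_prime_dvd Nat.card_pos.ne' (fun {d} hd hdd => hc d hd hdd)
    refine h1 (this ▸ hp.isPrimePow.pow ?_)
    intro e
    rw [e, pow_zero] at this
    exact h2 this
  haveI := Fact.mk hq
  obtain ⟨y, hyH, hy1, hyp, hyc⟩ := exists_central hCN H hH hmax q hqH
  have hmax' : ∀ L : Subgroup G, Group.IsNilpotent L → H' ≤ L → L = H' := by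
    intro L hL hle
    haveI := hL
    have h := hmax (L.map (MulAut.conj g⁻¹).toMonoidHom)
      (Group.nilpotent_of_mulEquiv (L.equivMapOfInjective _ (MulAut.conj g⁻¹).injective))
      (fun v hv => ⟨g * v * g⁻¹, hle ⟨v, hv, rfl⟩, by simp [mul_assoc]⟩)
    rw [hH', ← h, Subgroup.map_map]
    refine (Subgroup.map_id L).symm.trans (congrArg (fun φ => L.map φ) ?_)
    ext v
    simp [mul_assoc]
  obtain ⟨z', hz'H, hz'1, hz'p, hz'c⟩ := exists_central hCN H' hH'n hmax' p (hcard ▸ hpH)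
  have hC : Group.IsNilpotent (centralizer ({x} : Set G)) := hCN x hx1
  have hCx : ∀ {L : Subgroup G}, Group.IsNilpotent L → x ∈ L → ∀ v ∈ L, (orderOf v).Coprime p →
      v ∈ centralizer ({x} : Set G) := fun hL hx v hv hvp =>
    mem_centralizer_singleton_iff.2 (comm_in hL hv hx hvp hxp)
  have hyC := hCx hH hxH y hyH (coprime_of_isPGroup hqp hyp)
  have hyH' : y ∈ H' := by
    rw [← centralizer_central hCN H' hH'n hmax' hz'1 hz'c]
    refine mem_centralizer_singleton_iff.2 (comm_in hC hyC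
      (mem_centralizer_singleton_iff.2 (hz'c x hxH').symm) (coprime_of_isPGroup hqp hyp) hz'p)
  refine hg (hmax' H hH ?_).symm
  intro w hw
  refine CfsgLib.PGroup.mem_of_forall_prime_pow_mem (S := H) fun r hr => ?_
  haveI := Fact.mk hr
  obtain ⟨a, k, hk, hxk⟩ := Nat.exists_eq_pow_mul_and_not_dvd (orderOf_pos w).ne' r hr.ne_one
  refine ⟨k, hk, ?_⟩
  have hwk : IsPGroup r (zpowers (w ^ k)) := by
    obtain ⟨j, -, hj⟩ := (Nat.dvd_prime_pow hr).1 (orderOf_dvd_of_pow_eq_one
      (x := w ^ k) (n := r ^ a) (by rw [← pow_mul, mul_comm, ← hxk, pow_orderOf_eq_one]))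
    exact IsPGroup.of_card (n := j) (by rw [Nat.card_zpowers, hj])
  by_cases hrp : r = p
  · rw [← centralizer_central hCN H hH hmax hy1 hyc]
    exact mem_centralizer_singleton_iff.2 (comm_in hH'n hyH' (pow_mem hw k)
      (coprime_of_isPGroup hqp hyp) (hrp ▸ hwk)).symm
  · by_cases hr0 : r ∣ Nat.card H
    · obtain ⟨S, hS⟩ := sylow_le hCN H hH hmax r hr0
      have hSC : (S : Subgroup G) ≤ centralizer ({x} : Set G) := fun v hv =>
        hCx hH hxH v (hS hv) (coprime_of_isPGroup hrp (S.2.to_le (zpowers_le.2 hv)))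
      haveI := hC
      haveI := (S.subtype hSC).unique_of_normal
        (Sylow.normal_of_normalizerCondition Group.normalizerCondition_of_isNilpotent _)
      obtain ⟨T, hT⟩ := (hwk.comap_subtype (K := centralizer ({x} : Set G))).exists_le_sylow
      rw [Subsingleton.elim T (S.subtype hSC)] at hT
      exact hS (mem_subgroupOf.1 (hT (show (⟨w ^ k, hCx hH'n hxH' _ (pow_mem hw k)
        (coprime_of_isPGroup hrp hwk)⟩ : centralizer ({x} : Set G)) ∈ _ from mem_zpowers (w ^ k))))
    · obtain ⟨j, hj⟩ := IsPGroup.iff_card.1 hwk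
      rw [Nat.card_zpowers] at hj
      have hd : r ^ j ∣ Nat.card H := hj ▸ hcard ▸ Subgroup.orderOf_dvd_natCard H' (pow_mem hw k)
      rcases Nat.eq_zero_or_pos j with h0 | h0
      · rw [h0, pow_zero, orderOf_eq_one_iff] at hj
        rw [hj]; exact H.one_mem
      · exact absurd ((dvd_pow_self r h0.ne').trans hd) hr0

theorem cent (hti : ∀ g : G, H.map (MulAut.conj g).toMonoidHom ≠ H →
    H ⊓ H.map (MulAut.conj g).toMonoidHom = ⊥) :
    ∀ x ∈ H, x ≠ 1 → centralizer ({x} : Set G) ≤ H := by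
  intro x₀ hx₀ hx₀1 c₀ hc₀
  obtain ⟨p, hp, hpd⟩ := Nat.exists_prime_and_dvd (fun e => hx₀1 (orderOf_eq_one_iff.1 e))
  haveI := Fact.mk hp
  set x := x₀ ^ (orderOf x₀ / p) with hxdef
  have hxo : orderOf x = p := orderOf_pow_orderOf_div (orderOf_pos x₀).ne' hpd
  have hxH : x ∈ H := pow_mem hx₀ _
  have hx1 : x ≠ 1 := fun e => hp.ne_one (by rw [← hxo, e, orderOf_one])
  have hxp : IsPGroup p (zpowers x) := IsPGroup.of_card (n := 1) (by rw [Nat.card_zpowers, hxo, pow_one])
  have hpH : p ∣ Nat.card H := hxo ▸ Subgroup.orderOf_dvd_natCard H hxH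
  obtain ⟨z, hzH, hz1, hzp, hzc⟩ := exists_central hCN H hH hmax p hpH
  have hC : Group.IsNilpotent (centralizer ({x} : Set G)) := hCN x hx1
  refine CfsgLib.PGroup.mem_of_forall_prime_pow_mem (S := H) fun r hr => ?_
  haveI := Fact.mk hr
  obtain ⟨a, k, hk, hxk⟩ := Nat.exists_eq_pow_mul_and_not_dvd (orderOf_pos c₀).ne' r hr.ne_one
  refine ⟨k, hk, ?_⟩
  set c := c₀ ^ k with hcdef
  have hcx : c * x = x * c :=
    ((show Commute c₀ x₀ from mem_centralizer_singleton_iff.1 hc₀).pow_pow k _).eq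
  have hcr : IsPGroup r (zpowers c) := by
    obtain ⟨j, -, hj⟩ := (Nat.dvd_prime_pow hr).1 (orderOf_dvd_of_pow_eq_one
      (x := c) (n := r ^ a) (by rw [hcdef, ← pow_mul, mul_comm, ← hxk, pow_orderOf_eq_one]))
    exact IsPGroup.of_card (n := j) (by rw [Nat.card_zpowers, hj])
  by_cases hrp : r = p
  swap
  · rw [← centralizer_central hCN H hH hmax hz1 hzc]
    exact mem_centralizer_singleton_iff.2 (comm_in hC (mem_centralizer_singleton_iff.2 hcx)
      (mem_centralizer_singleton_iff.2 (hzc x hxH).symm) (coprime_of_isPGroup hrp hcr) hzp)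
  have hconj : H.map (MulAut.conj c).toMonoidHom = H := by
    by_contra hne
    have hmem : x ∈ H ⊓ H.map (MulAut.conj c).toMonoidHom :=
      ⟨hxH, x, hxH, by show c * x * c⁻¹ = x; rw [hcx, mul_inv_cancel_right]⟩
    rw [hti c hne, mem_bot] at hmem
    exact hx1 hmem
  obtain ⟨S, hS⟩ := sylow_le hCN H hH hmax p hpH
  haveI := hH
  set SH : Sylow p H := S.subtype hS with hSH
  haveI hSn : (SH : Subgroup H).Normal :=
    Sylow.normal_of_normalizerCondition Group.normalizerCondition_of_isNilpotent SH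
  haveI := SH.unique_of_normal hSn
  have hcS : c ∈ normalizer ((S : Subgroup G) : Set G) := by
    have hle : ∀ d : G, H.map (MulAut.conj d).toMonoidHom = H → ∀ v ∈ (S : Subgroup G),
        d * v * d⁻¹ ∈ (S : Subgroup G) := by
      intro d hd v hv
      have h1 : d * v * d⁻¹ ∈ H := hd ▸ (⟨v, hS hv, rfl⟩ : d * v * d⁻¹ ∈ H.map (MulAut.conj d).toMonoidHom)
      have h2 : IsPGroup p (zpowers (d * v * d⁻¹)) := by
        have := (S.2.to_le (zpowers_le.2 hv)).map (MulAut.conj d).toMonoidHom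
        rwa [MonoidHom.map_zpowers] at this
      obtain ⟨T, hT⟩ := (h2.comap_subtype (K := H)).exists_le_sylow
      rw [Subsingleton.elim T SH] at hT
      exact mem_subgroupOf.1 (hT (show (⟨_, h1⟩ : H) ∈ _ from mem_zpowers _))
    have hc' : H.map (MulAut.conj c⁻¹).toMonoidHom = H := by
      conv_lhs => rw [← hconj]
      rw [Subgroup.map_map]
      refine (congrArg (fun φ => H.map φ) ?_).trans (Subgroup.map_id H)
      ext v
      simp [mul_assoc]
    refine mem_normalizer_iff.2 fun v => ⟨hle c hconj v, fun hv => ?_⟩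
    have := hle _ hc' _ hv
    simpa [mul_assoc] using this
  have hcp : IsPGroup p (zpowers c) := hrp ▸ hcr
  have hsup := hcp.to_sup_of_normal_right' S.2 (zpowers_le.2 hcS)
  exact hS (S.3 hsup le_sup_right ▸ mem_sup_left (mem_zpowers c))

end CN


/-- Let G be a finite group in which every non-identity element has nilpotent centralizer, and H a nilpotent subgroup not properly contained in any nilpotent subgroup. Then the order of H is coprime to its index; if the order of H is not a prime power then H ∩ gHg⁻¹ = 1 whenever gHg⁻¹ ≠ H; and if H ∩ gHg⁻¹ = 1 whenever gHg⁻¹ ≠ H, then C_G(x) ≤ H for every non-identity x ∈ H. -/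
theorem result {G : Type*} [Group G] [Finite G] (hCN : Cfsg.IsCNGroup G) (H : Subgroup G) (hH : Group.IsNilpotent H)
    (hmax : ∀ L : Subgroup G, Group.IsNilpotent L → H ≤ L → L = H) :
    (Nat.card H).Coprime H.index ∧
      (¬ IsPrimePow (Nat.card H) → Nat.card H ≠ 1 → ∀ g : G, H.map (MulAut.conj g).toMonoidHom ≠ H → H ⊓ H.map (MulAut.conj g).toMonoidHom = ⊥) ∧
      ((∀ g : G, H.map (MulAut.conj g).toMonoidHom ≠ H → H ⊓ H.map (MulAut.conj g).toMonoidHom = ⊥) → ∀ x ∈ H, x ≠ 1 → Subgroup.centralizer ({x} : Set G) ≤ H) := by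
  exact ⟨hall hCN H hH hmax, fun h1 h2 => ti hCN H hH hmax h1 h2, fun h1 => cent hCN H hH hmax h1⟩

end Cfsg.Agent.S1477
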