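import Cfsg.Statements.S1480
import Cfsg.Agent.Lib.CFun.Transitivity

set_option autoImplicit false
open Cfsg

namespace Cfsg.Agent.S1480

/-- Let G be a finite group and p a prime such that the normalizer of every nontrivial p-subgroup of G is p-constrained; if p = 2 assume also that the Sylow 2-subgroups of G have nilpotency class at most 2. Let E be an abelian p-subgroup containing an elementary abelian subgroup of order p ^ 3 and containing every element of p-power order of C_G(E). Then for every prime q ≠ p, any two maximal E-invariant q-subgroups of G are conjugate by an element of O_{p'}(C_G(E)). -/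
theorem result {G : Type*} [Group G] [Finite G] (p : ℕ) [Fact p.Prime]
    (hloc : ∀ T : Subgroup G, IsPGroup p T → T ≠ ⊥ → Cfsg.IsPConstrained p ↥(Subgroup.normalizer (T : Set G)))
    (h2 : p = 2 → ∀ S : Sylow p G, Group.IsNilpotent (S : Subgroup G) ∧ Group.nilpotencyClass (S : Subgroup G) ≤ 2)
    (E : Subgroup G) (hEp : IsPGroup p E) (hEc : IsMulCommutative E) (hE3 : ¬ Cfsg.PRankLE p 2 E)
    (hEfull : ∀ x ∈ Subgroup.centralizer (E : Set G), IsPGroup p (Subgroup.zpowers x) → x ∈ E)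
    (q : ℕ) [Fact q.Prime] (hqp : q ≠ p) :
    ∀ Q₁ ∈ Cfsg.maxInvSubgroups ⊤ E {q}, ∀ Q₂ ∈ Cfsg.maxInvSubgroups ⊤ E {q},
        ∃ k ∈ Cfsg.piCoreOf (Cfsg.primesNotDvd p) (Subgroup.centralizer (E : Set G)), Q₂ = Q₁.map (MulAut.conj k).toMonoidHom := by
  intro Q₁ hQ₁ Q₂ hQ₂
  classical
  simp only [Cfsg.PRankLE, not_forall, not_le] at hE3
  obtain ⟨A, hAc, hAexp, hAcard⟩ := hE3
  have hclass : p = 2 → ∀ T : Subgroup G, IsPGroup p T → ⁅⁅T, T⁆, T⁆ = ⊥ := by
    intro hp2 T hT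
    obtain ⟨S, hS⟩ := hT.exists_le_sylow
    obtain ⟨hn, hcl⟩ := h2 hp2 S
    haveI := hn
    have h := congrArg (Subgroup.map (S : Subgroup G).subtype)
      (Subgroup.lowerCentralSeries_eq_bot_iff_nilpotencyClass_le.2 hcl)
    rw [Subgroup.top_subtype_lowerCentralSeries, Subgroup.map_bot] at h
    simp only [Subgroup.lowerCentralSeries_succ, Subgroup.lowerCentralSeries_zero] at h
    exact le_bot_iff.1 (h ▸ Subgroup.commutator_mono (Subgroup.commutator_mono hS hS) hS)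
  set A' := A.map E.subtype
  have hA' : Cfsg.IsElementaryAbelian p A' := ⟨by haveI := hAc; infer_instance, by
    rintro _ ⟨a, ha, rfl⟩
    rw [← map_pow, hAexp a ha, map_one]⟩
  have hA3 : p ^ 3 ≤ Nat.card A' := by
    rw [Subgroup.card_map_of_injective E.subtype_injective]
    obtain ⟨k, hk⟩ := IsPGroup.iff_card.1 ((hEp.to_subgroup A))
    rw [hk] at hAcard ⊢
    exact Nat.pow_le_pow_right (Fact.out : p.Prime).pos
      ((Nat.pow_lt_pow_iff_right (Fact.out : p.Prime).one_lt).1 hAcard)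
  have hmax : ∀ Q ∈ Cfsg.maxInvSubgroups ⊤ E {q}, IsPGroup q ↥Q ∧ E ≤ Subgroup.normalizer (Q : Set G) ∧
      ∀ R : Subgroup G, IsPGroup q ↥R → E ≤ Subgroup.normalizer (R : Set G) → Q ≤ R → R = Q := by
    rintro Q ⟨⟨-, hQ, hEQ⟩, hmx⟩
    refine ⟨CfsgLib.Coprime.isPGroup_iff_isPiNum.2 hQ, hEQ, fun R hR hER hle => hmx R ⟨le_top, ?_, hER⟩ hle⟩
    exact CfsgLib.Coprime.isPGroup_iff_isPiNum.1 hR
  obtain ⟨c, hc, e⟩ := CfsgLib.CFun.transitive_of_locals hloc hclass hEp hEc
    (Subgroup.map_subtype_le A) hA' hA3 hEfull hqp _ Q₁ Q₂ (hmax Q₁ hQ₁) (hmax Q₂ hQ₂) rfl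
  refine ⟨c, ?_, e⟩
  have hset : Cfsg.pPrimeCore p ↥(Subgroup.centralizer (E : Set G)) ≤
      Cfsg.piCore (Cfsg.primesNotDvd p) ↥(Subgroup.centralizer (E : Set G)) := by
    refine CfsgLib.Coprime.le_piCore (hN := Subgroup.sSup_normal _ fun _ h => h.1) fun r hr hdvd => ?_
    refine ⟨hr, fun hrp => ?_⟩
    rw [(Nat.prime_dvd_prime_iff_eq hr Fact.out).1 hrp] at hdvd
    exact CfsgLib.Coprime.pPrimeCore_not_dvd Fact.out hdvd
  exact Subgroup.map_mono hset hc

end Cfsg.Agent.S1480
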