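import Cfsg.Statements.S1481
import Cfsg.Agent.Lib.CFun.BenderInvariant

set_option autoImplicit false
open Cfsg

namespace Cfsg.Agent.S1481

/-- Let G be a finite group and H a local subgroup (the normalizer of a nontrivial subgroup of prime-power order) not properly contained in any local subgroup; let F = F(H), suppose at least two primes divide #F, put X = H ∩ C_G(F), let M ≤ F with F ∩ C_G(M) ≤ M, and let R be a solvable subgroup normalized by M and by X. Then for every prime q not dividing #F there is exactly one maximal M-invariant q-subgroup of R, and it is a Sylow q-subgroup of the largest normal subgroup of R of order coprime to #F. -/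
theorem result {G : Type*} [Group G] [Finite G] (H : Subgroup G) (hH : Cfsg.IsLocalSubgroup H) (hHmax : ∀ L : Subgroup G, Cfsg.IsLocalSubgroup L → H ≤ L → L = H)
    (hF2 : 2 ≤ (Nat.card (Cfsg.fittingOf H)).primeFactors.card)
    (M : Subgroup G) (hM : M ≤ Cfsg.fittingOf H) (hCM : Cfsg.fittingOf H ⊓ Subgroup.centralizer (M : Set G) ≤ M)
    (R : Subgroup G) (hR : Group.IsSolvable R) (hMR : M ≤ Subgroup.normalizer (R : Set G))
    (hXR : H ⊓ Subgroup.centralizer (Cfsg.fittingOf H : Set G) ≤ Subgroup.normalizer (R : Set G))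
    (q : ℕ) [Fact q.Prime] (hq : ¬ q ∣ Nat.card (Cfsg.fittingOf H)) :
    ∃! Q : Subgroup G, Q ∈ Cfsg.maxInvSubgroups R M {q} ∧
      (∀ Q' : Subgroup G, Q' ∈ Cfsg.maxInvSubgroups R M {q} →
        Q' ≤ Cfsg.piCoreOf (Cfsg.primesNotDvd (Nat.card (Cfsg.fittingOf H))) R ∧
        ¬ q ∣ Q'.relIndex (Cfsg.piCoreOf (Cfsg.primesNotDvd (Nat.card (Cfsg.fittingOf H))) R)) := by
  classical
  obtain ⟨p, T, hp, hT, hT1, hHT⟩ := id hH
  set n := Nat.card (Cfsg.fittingOf H) with hn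
  have d : CfsgLib.CFun.BenderInvariant.Data H M R := by
    refine ⟨hF2, fun r hr => ?_, hM, hCM, hR, hMR, hXR⟩
    haveI : Fact r.Prime := ⟨Nat.prime_of_mem_primeFactors hr⟩
    refine (CfsgLib.Coprime.centralizer_le_normalizer_self _).trans (le_of_eq (hHmax _
      ⟨r, CfsgLib.CFun.zCore H r, Fact.out, CfsgLib.CFun.isPGroup_core.to_le CfsgLib.CFun.zCore_le,
        CfsgLib.CFun.zCore_ne_bot
          (CfsgLib.CFun.core_ne_bot_of_dvd (Nat.dvd_of_mem_primeFactors hr)), rfl⟩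
      CfsgLib.CFun.le_normalizer_zCore))
  set O := Cfsg.piCoreOf (Cfsg.primesNotDvd n) R with hO
  have hπ : CfsgLib.Coprime.IsPiNum (Cfsg.primesNotDvd n) (Nat.card O) :=
    CfsgLib.CFun.isPiNum_piCoreOf R
  have hOR : O ≤ R := CfsgLib.CFun.piCoreOf_le R
  have hMO : M ≤ Subgroup.normalizer (O : Set G) := d.le_normalizer_piCoreOf
  have hcop : (Nat.card M).Coprime (Nat.card O) := d.coprime le_rfl hπ
  have hsol : Group.IsSolvable M ∨ Group.IsSolvable O := Or.inr (d.solvable hOR)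
  have hC : O ⊓ Subgroup.centralizer (M : Set G) = ⊥ := by
    obtain ⟨r, hr⟩ := Finset.card_pos.1 (lt_of_lt_of_le Nat.two_pos hF2)
    exact le_bot_iff.1 ((inf_le_inf le_rfl (Subgroup.centralizer_le inf_le_left)).trans
      (le_of_eq (d.inf_centralizer_eq_bot hOR hMO hπ hr)))
  have hmem : ∀ Q : Subgroup G, Q ∈ Cfsg.invSubgroups R M {q} → IsPGroup q Q ∧ Q ≤ O := by
    rintro Q ⟨hQR, hQ, hMQ⟩
    refine ⟨CfsgLib.Coprime.isPGroup_iff_isPiNum.2 hQ, d.le_piCore hQR hMQ fun t ht htd => ?_⟩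
    rw [Set.mem_singleton_iff.1 (hQ t ht htd)]
    exact ⟨Fact.out, hq⟩
  obtain ⟨P, hP, hMP⟩ := CfsgLib.Coprime.exists_invariant_sylow hMO hcop hsol q
  have hPi : P ∈ Cfsg.invSubgroups R M {q} :=
    ⟨hP.1.trans hOR, CfsgLib.Coprime.isPGroup_iff_isPiNum.1 hP.isPGroup, hMP⟩
  have huniq : ∀ Q ∈ Cfsg.maxInvSubgroups R M {q}, Q = P := by
    rintro Q ⟨hQi, hQmax⟩
    obtain ⟨P', hP', hQP', hMP'⟩ := CfsgLib.Coprime.le_invariant_sylow hMO hcop hsol
      (hmem Q hQi).2 (hmem Q hQi).1 hQi.2.2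
    have e := hQmax P' ⟨hP'.1.trans hOR, CfsgLib.Coprime.isPGroup_iff_isPiNum.1 hP'.isPGroup,
      hMP'⟩ hQP'
    obtain ⟨c, hc, hc'⟩ := CfsgLib.Coprime.invariant_sylow_conj hMO hcop hsol hP' hP hMP' hMP
    rw [hC, Subgroup.mem_bot] at hc
    rw [← e, ← hc', hc, CfsgLib.Coprime.conjBy_one]
  have hPmax : P ∈ Cfsg.maxInvSubgroups R M {q} := by
    refine ⟨hPi, fun Q hQ hPQ => ?_⟩
    obtain ⟨P', hP', hQP', -⟩ := CfsgLib.Coprime.le_invariant_sylow hMO hcop hsol
      (hmem Q hQ).2 (hmem Q hQ).1 hQ.2.2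
    refine (Subgroup.eq_of_le_of_card_ge hPQ ?_).symm
    rw [hP.2, ← hP'.2]
    exact Nat.card_le_card_of_injective _ (Subgroup.inclusion_injective hQP')
  refine ⟨P, ⟨hPmax, fun Q hQ => ?_⟩, fun Q hQ => huniq Q hQ.1⟩
  rw [huniq Q hQ]
  refine ⟨hP.1, ?_⟩
  rw [Subgroup.relIndex, ← hP.map_toSylow, Subgroup.subgroupOf,
    Subgroup.comap_map_eq_self_of_injective O.subtype_injective]
  exact Sylow.not_dvd_index _

end Cfsg.Agent.S1481
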