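import Cfsg.Agent.Lib.CFun.OddFitting
import Cfsg.Statements.S1482
-- import your own Cfsg.Agent.* helpers here

set_option autoImplicit false
open Cfsg

namespace Cfsg.Agent.S1482

/-- Let G be a minimal simple group of odd order, H a maximal subgroup whose Fitting subgroup F has at least two prime divisors, and M a subgroup of F containing the centre of F such that the only M-invariant subgroup of G of order coprime to #F is the trivial one. Then H is the only maximal subgroup of G containing M. -/
theorem result {G : Type*} [Group G] [Finite G] (hG : Cfsg.IsMinSimpleOddOrder G) (H : Subgroup G) (hH : IsCoatom H) (hF2 : 2 ≤ (Nat.card (Cfsg.fittingOf H)).primeFactors.card)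
    (M : Subgroup G) (hM : M ≤ Cfsg.fittingOf H) (hZM : Cfsg.fittingOf H ⊓ Subgroup.centralizer (Cfsg.fittingOf H : Set G) ≤ M)
    (hinv : ∀ Y ∈ Cfsg.invSubgroups ⊤ M (Cfsg.primesNotDvd (Nat.card (Cfsg.fittingOf H))), Y = ⊥) :
    ∀ L : Subgroup G, IsCoatom L → M ≤ L → L = H := by
  intro L hL hML
  refine CfsgLib.CFun.unique_of_inv hG hH hF2 (hM.trans CfsgLib.CFun.fittingOf_le)
    (fun s hs => ?_) (fun Y hMY hY => hinv Y ⟨le_top, fun r hr hd => ⟨hr, fun hdF => hY r
      (Nat.mem_primeFactors.2 ⟨hr, hdF, Nat.card_pos.ne'⟩) hd⟩, hMY⟩) hL hML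
  haveI : Fact s.Prime := ⟨hs⟩
  exact CfsgLib.CFun.zCore_le_center.trans hZM

end Cfsg.Agent.S1482
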