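import Cfsg.Statements.S1485

import Cfsg.Agent.Lib.Char.Clifford

set_option autoImplicit false
open Cfsg

namespace Cfsg.Agent.S1485

/-- Let H be a normal subgroup of the finite group G and θ an irreducible character of H. On H, the function induced from θ equals r times the sum of the distinct G-conjugates of θ, where r is the number of elements of G fixing θ under conjugation divided by the order of H (the index of H in the inertia group). -/
theorem result {G : Type*} [Group G] [Fintype G] (H : Subgroup G) [hN : H.Normal] (θ : H → ℂ) (hθ : Cfsg.IsIrrCharacter H θ) : (fun h : H => Cfsg.indFun H θ h) = ((Nat.card {g : G // ∀ h : H, θ ⟨g * h * g⁻¹, hN.conj_mem h h.2 g⟩ = θ h} : ℂ) / (Nat.card H : ℂ)) • ∑ᶠ ψ ∈ {ψ : H → ℂ | ∃ g : G, ψ = fun h : H => θ ⟨g * h * g⁻¹, hN.conj_mem h h.2 g⟩}, ψ := by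
  classical
  have := Fintype.ofFinite H
  have hc : Nat.card {g : G // ∀ h : H, θ ⟨g * h * g⁻¹, hN.conj_mem h h.2 g⟩ = θ h} =
      Nat.card (CfsgLib.Char.inertia H θ) :=
    Nat.card_congr (Equiv.subtypeEquivRight fun g =>
      ⟨fun h => funext h, fun h n => congrFun h n⟩)
  have hset : {ψ : H → ℂ | ∃ g : G, ψ = fun h : H => θ ⟨g * h * g⁻¹, hN.conj_mem h h.2 g⟩} =
      ↑(Finset.univ.image (CfsgLib.Char.conjFun H θ)) :=
    Set.ext fun ψ => by
      rw [Finset.coe_image, Finset.coe_univ, Set.image_univ, Set.mem_range, Set.mem_setOf_eq]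
      exact ⟨fun ⟨g, hg⟩ => ⟨g, hg.symm⟩, fun ⟨g, hg⟩ => ⟨g, hg.symm⟩⟩
  rw [CfsgLib.Char.restrict_indFun, hc, hset, finsum_mem_coe_finset, div_eq_inv_mul, mul_smul]
  congr 1
  rw [Finset.smul_sum, ← Finset.sum_fiberwise_of_maps_to (g := CfsgLib.Char.conjFun H θ)
    (t := Finset.univ.image (CfsgLib.Char.conjFun H θ))
    (fun x _ => Finset.mem_image_of_mem _ (Finset.mem_univ x))]
  refine Finset.sum_congr rfl fun ψ hψ => ?_
  obtain ⟨g, -, rfl⟩ := Finset.mem_image.mp hψ
  rw [Finset.sum_congr rfl (g := fun _ => CfsgLib.Char.conjFun H θ g)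
    fun x hx => (Finset.mem_filter.mp hx).2, Finset.sum_const, ← Fintype.card_subtype,
    ← Nat.card_eq_fintype_card, CfsgLib.Char.card_fiber_conjFun, Nat.cast_smul_eq_nsmul]

end Cfsg.Agent.S1485
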