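import Cfsg.Statements.S1486

import Cfsg.Agent.Lib.Char.Clifford

set_option autoImplicit false
open Cfsg

namespace Cfsg.Agent.S1486

/-- Let H be a normal subgroup of the finite group G and θ, φ irreducible characters of H. If φ is a G-conjugate of θ then the functions induced from θ and φ coincide; if φ is not a G-conjugate of θ then the induced functions are orthogonal. -/
theorem result {G : Type*} [Group G] [Fintype G] (H : Subgroup G) [hN : H.Normal] (θ φ : H → ℂ) (hθ : Cfsg.IsIrrCharacter H θ) (hφ : Cfsg.IsIrrCharacter H φ) : ((∃ g : G, φ = fun h : H => θ ⟨g * h * g⁻¹, hN.conj_mem h h.2 g⟩) → Cfsg.indFun H φ = Cfsg.indFun H θ) ∧ ((¬ ∃ g : G, φ = fun h : H => θ ⟨g * h * g⁻¹, hN.conj_mem h h.2 g⟩) → Cfsg.classInner (Cfsg.indFun H φ) (Cfsg.indFun H θ) = 0) := by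
  classical
  have := Fintype.ofFinite H
  refine ⟨fun ⟨g, hg⟩ => ?_, fun h => ?_⟩
  · funext y
    by_cases hy : y ∈ H
    · rw [show Cfsg.indFun H φ y = Cfsg.indFun H φ (⟨y, hy⟩ : H) from rfl,
        show Cfsg.indFun H θ y = Cfsg.indFun H θ (⟨y, hy⟩ : H) from rfl,
        CfsgLib.Char.indFun_normal_mem, CfsgLib.Char.indFun_normal_mem, hg]
      congr 1
      refine Fintype.sum_bijective (fun x => g * x) (Group.mulLeft_bijective g) _ _ fun x => ?_
      show θ ⟨g * (x * y * x⁻¹) * g⁻¹, _⟩ = θ _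
      congr 1
      apply Subtype.ext
      show g * (x * y * x⁻¹) * g⁻¹ = g * x * y * (g * x)⁻¹
      group
    · rw [CfsgLib.Char.indFun_normal_not_mem H φ hy, CfsgLib.Char.indFun_normal_not_mem H θ hy]
  · rw [CfsgLib.Char.classInner_indFun H φ _ (CfsgLib.Char.isClassFunction_indFun H θ),
      ← CfsgLib.Char.classInner_conj, CfsgLib.Char.classInner_restrict_indFun H hθ hφ]
    have he : IsEmpty {x : G // CfsgLib.Char.conjFun H θ x = φ} := ⟨fun x => h ⟨x.1, x.2.symm⟩⟩
    simp

end Cfsg.Agent.S1486
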