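import Cfsg.Statements.S1487

import Cfsg.Agent.Lib.Char.Clifford
import Cfsg.Agent.Lib.Char.Integrality

set_option autoImplicit false
open Cfsg

namespace Cfsg.Agent.S1487

/-- Let A ≤ H be normal subgroups of the finite group G and θ an irreducible character of H. Then θ takes the value θ 1 on all of A if and only if the function induced from θ to G takes its value at 1 on all of A. -/
theorem result {G : Type*} [Group G] [Fintype G] (A H : Subgroup G) [A.Normal] [H.Normal] (hAH : A ≤ H) (θ : H → ℂ) (hθ : Cfsg.IsIrrCharacter H θ) : (∀ a : H, (a : G) ∈ A → θ a = θ 1) ↔ (∀ a : G, a ∈ A → Cfsg.indFun H θ a = Cfsg.indFun H θ 1) := by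
  classical
  obtain ⟨m, ρ, hρ, rfl⟩ := hθ
  have hG : (Nat.card G : ℂ) ≠ 0 := by exact_mod_cast Nat.card_pos.ne'
  have hH : (Nat.card H : ℂ) ≠ 0 := by exact_mod_cast Nat.card_pos.ne'
  have hidx : (H.index : ℂ) * Nat.card H = Nat.card G := by exact_mod_cast H.index_mul_card
  constructor
  · intro h a ha
    rw [show Cfsg.indFun H ρ.character a = Cfsg.indFun H ρ.character (⟨a, hAH ha⟩ : H) from rfl,
      CfsgLib.Char.indFun_normal_mem, CfsgLib.Char.indFun_one,
      Finset.sum_congr rfl fun x _ =>
        h ⟨x * a * x⁻¹, _⟩ (Subgroup.Normal.conj_mem inferInstance a ha x),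
      Finset.sum_const, Finset.card_univ, nsmul_eq_mul, ← Nat.card_eq_fintype_card, ← hidx]
    field_simp
  · intro h a ha
    have h1 := h a ha
    rw [CfsgLib.Char.indFun_normal_mem, CfsgLib.Char.indFun_one, Representation.char_one,
      inv_mul_eq_iff_eq_mul₀ hH] at h1
    have h2 : ∑ x : G, (ρ.character ⟨x * a * x⁻¹, Subgroup.Normal.conj_mem inferInstance (a : G) a.2 x⟩).re
        = ∑ _x : G, (Module.finrank ℂ (Fin m → ℂ) : ℝ) := by
      rw [← Complex.re_sum, h1, Finset.sum_const, Finset.card_univ, nsmul_eq_mul,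
        ← Nat.card_eq_fintype_card, ← H.index_mul_card]
      push_cast
      simp only [Complex.mul_re, Complex.natCast_re, Complex.natCast_im, Complex.mul_im]
      ring
    have h3 := (Finset.sum_eq_sum_iff_of_le fun x _ => (Complex.re_le_norm _).trans
      (CfsgLib.Char.norm_char_le ρ _)).mp h2 1 (Finset.mem_univ _)
    simp only [one_mul, inv_one, mul_one, Subtype.coe_eta] at h3
    have h4 := CfsgLib.Char.norm_char_le ρ a
    have h5 : (ρ.character a).im = 0 := by
      have h6 := Complex.sq_norm (ρ.character a)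
      rw [Complex.normSq_apply, h3] at h6
      have : ‖ρ.character a‖ ^ 2 ≤ (Module.finrank ℂ (Fin m → ℂ) : ℝ) ^ 2 := by gcongr
      nlinarith [sq_nonneg (ρ.character a).im]
    rw [Representation.char_one]
    exact Complex.ext (by rw [h3, Complex.natCast_re]) (by rw [h5, Complex.natCast_im])

end Cfsg.Agent.S1487
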