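import Cfsg.Statements.S1488

import Cfsg.Agent.Lib.Char.Induction

set_option autoImplicit false
open Cfsg

namespace Cfsg.Agent.S1488

/-- Let A be a normal subgroup of the finite group G contained in the subgroup H, let θ be a function on H and θ₁ a function on the image of H in G ⧸ A whose composite with the projection is θ. Then the function induced from θ₁ to G ⧸ A, composed with the projection G → G ⧸ A, equals the function induced from θ to G. -/
theorem result {G : Type*} [Group G] [Fintype G] (A H : Subgroup G) [A.Normal] (hAH : A ≤ H) [Fintype (G ⧸ A)] [Fintype ↥(H.map (QuotientGroup.mk' A))] (θ : H → ℂ) (θ₁ : ↥(H.map (QuotientGroup.mk' A)) → ℂ) (hθ : ∀ x : H, θ₁ ⟨QuotientGroup.mk' A x, Subgroup.mem_map_of_mem _ x.2⟩ = θ x) (g : G) : Cfsg.indFun (H.map (QuotientGroup.mk' A)) θ₁ (QuotientGroup.mk' A g) = Cfsg.indFun H θ g := by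
  classical
  have hmem : ∀ y : G, (QuotientGroup.mk' A) y ∈ (H.map (QuotientGroup.mk' A)) ↔ y ∈ H := by
    intro y
    rw [← Subgroup.mem_comap, Subgroup.comap_map_eq_self (by rw [QuotientGroup.ker_mk']; exact hAH)]
  have hval : ∀ y : G, Cfsg.extendByZero (H.map (QuotientGroup.mk' A)) θ₁ ((QuotientGroup.mk' A) y) = Cfsg.extendByZero H θ y := by
    intro y
    by_cases hy : y ∈ H
    · rw [CfsgLib.Char.extendByZero_mem H θ hy, CfsgLib.Char.extendByZero_mem (H.map (QuotientGroup.mk' A)) θ₁ ((hmem y).mpr hy)]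
      exact hθ ⟨y, hy⟩
    · rw [CfsgLib.Char.extendByZero_not_mem H θ hy,
        CfsgLib.Char.extendByZero_not_mem (H.map (QuotientGroup.mk' A)) θ₁ (fun h => hy ((hmem y).mp h))]
  simp only [Cfsg.indFun]
  have hsum : ∑ x : G, Cfsg.extendByZero H θ (x⁻¹ * g * x) = (Nat.card A : ℂ) *
      ∑ q : G ⧸ A, Cfsg.extendByZero (H.map (QuotientGroup.mk' A)) θ₁ (q⁻¹ * (QuotientGroup.mk' A) g * q) := by
    rw [← Finset.sum_fiberwise Finset.univ (QuotientGroup.mk' A), Finset.mul_sum]
    refine Finset.sum_congr rfl fun q _ => ?_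
    obtain ⟨x₀, rfl⟩ := QuotientGroup.mk'_surjective A q
    rw [Finset.sum_congr rfl (g := fun _ => Cfsg.extendByZero (H.map (QuotientGroup.mk' A)) θ₁ (((QuotientGroup.mk' A) x₀)⁻¹ * (QuotientGroup.mk' A) g * (QuotientGroup.mk' A) x₀))
      fun x hx => ?_, Finset.sum_const, nsmul_eq_mul, ← Fintype.card_subtype, ← Nat.card_eq_fintype_card]
    · congr 2
      refine Nat.card_congr
        { toFun := fun x => ⟨x₀⁻¹ * x.1, QuotientGroup.eq.mp x.2.symm⟩
          invFun := fun a => ⟨x₀ * a.1, (QuotientGroup.eq.mpr (by simp)).symm⟩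
          left_inv := fun x => Subtype.ext (mul_inv_cancel_left _ _)
          right_inv := fun a => by simp }
    · rw [← hval, map_mul, map_mul, map_inv, (Finset.mem_filter.mp hx).2]
  have hcard : Nat.card H = Nat.card A * Nat.card (H.map (QuotientGroup.mk' A)) := by
    have h1 := (A.subgroupOf H).card_mul_index
    rw [Nat.card_congr (Subgroup.subgroupOfEquivOfLe hAH).toEquiv] at h1
    rw [← h1]
    congr 1
    have h2 : ((QuotientGroup.mk' A).subgroupMap H).ker = A.subgroupOf H := by
      ext x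
      rw [MonoidHom.mem_ker, Subgroup.mem_subgroupOf, Subtype.ext_iff]
      exact QuotientGroup.eq_one_iff (x : G)
    rw [← h2, Subgroup.index_eq_card, Nat.card_congr (QuotientGroup.quotientKerEquivOfSurjective
      ((QuotientGroup.mk' A).subgroupMap H) ((QuotientGroup.mk' A).subgroupMap_surjective H)).toEquiv]
  have hA0 : (Nat.card A : ℂ) ≠ 0 := by exact_mod_cast Nat.card_pos.ne'
  rw [hsum, hcard, Nat.cast_mul, mul_inv, mul_comm (Nat.card A : ℂ)⁻¹, mul_assoc,
    inv_mul_cancel_left₀ hA0]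

end Cfsg.Agent.S1488
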