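import Cfsg.Statements.S1489

import Cfsg.Agent.Lib.Char.Correspondence

set_option autoImplicit false
open Cfsg

namespace Cfsg.Agent.S1489

/-- Let H be a normal subgroup of the finite group G, θ an irreducible character of H, and T the inertia group of θ (the elements g with θ(g h g⁻¹) = θ(h) for all h ∈ H). If ψ and ψ' are irreducible characters of T having nonzero inner product with the function induced from θ to T, then the function induced from ψ to G is an irreducible character of G, and it equals the one induced from ψ' only if ψ = ψ'. -/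
theorem result {G : Type*} [Group G] [Fintype G] (H T : Subgroup G) [hN : H.Normal] [Fintype T] (θ : H → ℂ) (hθ : Cfsg.IsIrrCharacter H θ) (hT : ∀ g : G, g ∈ T ↔ ∀ h : H, θ ⟨g * h * g⁻¹, hN.conj_mem h h.2 g⟩ = θ h) (hHT : H ≤ T) (ψ ψ' : T → ℂ) (hψ : Cfsg.IsIrrCharacter T ψ) (hψ' : Cfsg.IsIrrCharacter T ψ') (hc : Cfsg.classInner (Cfsg.indFun (H.subgroupOf T) (fun x => θ ⟨(x : T), Subgroup.mem_subgroupOf.mp x.2⟩)) ψ ≠ 0) (hc' : Cfsg.classInner (Cfsg.indFun (H.subgroupOf T) (fun x => θ ⟨(x : T), Subgroup.mem_subgroupOf.mp x.2⟩)) ψ' ≠ 0) : Cfsg.IsIrrCharacter G (Cfsg.indFun T ψ) ∧ (Cfsg.indFun T ψ = Cfsg.indFun T ψ' → ψ = ψ') := by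
  classical
  have := Fintype.ofFinite H
  have hTeq : CfsgLib.Char.inertia H θ = T := Subgroup.ext fun g => by
    rw [hT, CfsgLib.Char.mem_inertia]
    exact ⟨fun h n => congrFun h n, funext⟩
  subst hTeq
  have := Fintype.ofFinite (H.subgroupOf (CfsgLib.Char.inertia H θ))
  have key : ∀ φ : CfsgLib.Char.inertia H θ → ℂ, Cfsg.IsIrrCharacter (CfsgLib.Char.inertia H θ) φ →
      Cfsg.classInner (Cfsg.indFun (H.subgroupOf (CfsgLib.Char.inertia H θ))
        (fun x => θ ⟨(x : CfsgLib.Char.inertia H θ), Subgroup.mem_subgroupOf.mp x.2⟩)) φ ≠ 0 →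
      Cfsg.classInner (fun n : H => φ (Subgroup.inclusion hHT n)) θ ≠ 0 := by
    intro φ hφ h h0
    apply h
    rw [CfsgLib.Char.classInner_indFun _ _ _
      (CfsgLib.Char.isClassFunction_of_isCharacter (CfsgLib.Char.isCharacter_of_isIrr hφ)),
      ← CfsgLib.Char.classInner_conj]
    show (starRingEnd ℂ) (Cfsg.classInner (fun x : H.subgroupOf (CfsgLib.Char.inertia H θ) => φ x)
      (CfsgLib.Char.subOfFun H θ)) = 0
    rw [CfsgLib.Char.classInner_subOfFun H hHT, h0, map_zero]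
  refine ⟨(CfsgLib.Char.correspondence_irr H hθ hHT ⟨ψ, hψ⟩ (key ψ hψ hc)).1, fun h => ?_⟩
  exact congrArg Subtype.val (CfsgLib.Char.correspondence_injective H hθ hHT ⟨ψ, hψ⟩ ⟨ψ', hψ'⟩
    (key ψ hψ hc) (key ψ' hψ' hc') h)

end Cfsg.Agent.S1489
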