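import Cfsg.Statements.S1492

import Cfsg.Agent.Lib.Char.Inertia
import Cfsg.Agent.Lib.Char.Integrality
import Cfsg.Agent.Lib.Char.Determine
import Cfsg.Agent.Lib.Char.Scalar

set_option autoImplicit false
open Cfsg

namespace Cfsg.Agent.S1492

/-- Let ψ be an irreducible character of the finite group G and B ≤ D ≤ C subgroups with B normal in C, every commutator of an element of D with an element of C lying in B (so D/B is central in C/B), and ψ constant equal to ψ 1 on B. Then ψ(1) ^ 2 * |C| * |D| ≤ |G| ^ 2. -/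
theorem result {G : Type*} [Group G] [Finite G] (ψ : G → ℂ) (hψ : Cfsg.IsIrrCharacter G ψ) (B C D : Subgroup G) (hBD : B ≤ D) (hDC : D ≤ C) (hBn : ∀ c ∈ C, ∀ b ∈ B, c * b * c⁻¹ ∈ B) (hcent : ∀ d ∈ D, ∀ c ∈ C, d * c * d⁻¹ * c⁻¹ ∈ B) (hker : ∀ b ∈ B, ψ b = ψ 1) : ‖ψ 1‖ ^ 2 * (Nat.card C : ℝ) * (Nat.card D : ℝ) ≤ (Nat.card G : ℝ) ^ 2 := by
  classical
  obtain ⟨m, ρ, hρ, rfl⟩ := hψ
  have := Fintype.ofFinite G
  have := Fintype.ofFinite C
  have := Fintype.ofFinite D
  have hρC : Cfsg.IsCharacter C (fun c : C => ρ.character c) :=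
    CfsgLib.Char.isCharacter_comp ⟨m, ρ, rfl⟩ C.subtype
  have hne : (fun c : C => ρ.character c) ≠ 0 := fun e =>
    CfsgLib.Char.irr_one_ne_zero ⟨_, m, ρ, hρ, rfl⟩ (congrFun e 1)
  obtain ⟨φ, hφ⟩ := CfsgLib.Char.exists_irr_inner_ne_zero hρC hne
  obtain ⟨φ, k, τ, hτ, rfl⟩ := φ
  obtain ⟨f, hf⟩ := CfsgLib.Char.exists_injective_of_inner_ne_zero (ρ.comp C.subtype) τ hφ
  have hBτ : ∀ b : C, (b : G) ∈ B → τ b = LinearMap.id := fun b hb => LinearMap.ext fun v => hf (by
    have h1 : f (τ b v) = ρ (b : G) (f v) := Representation.IntertwiningMap.isIntertwining _ _ f b v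
    rw [h1, (CfsgLib.Char.char_eq_degree_iff ρ (b : G)).mp
      ((hker _ hb).trans (Representation.char_one ρ))]
    rfl)
  have hscal : ∀ d : C, (d : G) ∈ D → ∃ c : ℂ, τ d = c • LinearMap.id := fun d hd =>
    CfsgLib.Char.schur_scalar τ _ fun c => by
      have h1 := hBτ (d * c * d⁻¹ * c⁻¹) (hcent _ hd _ c.2)
      calc τ d * τ c = τ (d * c * d⁻¹ * c⁻¹ * (c * d)) := by
            rw [← map_mul]; congr 1; group
        _ = τ c * τ d := by rw [map_mul, h1, map_mul]; rfl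
  have hnorm := CfsgLib.Char.classInner_irr_self ⟨τ.character, k, τ, hτ, rfl⟩
  rw [CfsgLib.Char.classInner_self, Complex.ofReal_eq_one,
    inv_mul_eq_one₀ (by exact_mod_cast Nat.card_pos.ne')] at hnorm
  have hk2 : (k : ℝ) ^ 2 * Nat.card D ≤ Nat.card C := by
    rw [hnorm]
    refine le_trans (le_of_eq ?_) (Finset.sum_le_sum_of_subset_of_nonneg
      (Finset.subset_univ (Finset.univ.map ⟨Subgroup.inclusion hDC, Subgroup.inclusion_injective hDC⟩))
      fun _ _ _ => sq_nonneg _)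
    rw [Finset.sum_map, Finset.sum_congr rfl (g := fun _ => (k : ℝ) ^ 2) fun d _ => ?_,
      Finset.sum_const, Finset.card_univ, nsmul_eq_mul, ← Nat.card_eq_fintype_card, mul_comm]
    show ‖τ.character (Subgroup.inclusion hDC d)‖ ^ 2 = _
    rw [(CfsgLib.Char.norm_char_eq_iff τ _).mpr (hscal _ d.2), Module.finrank_fin_fun]
  have hτ1 : τ.character 1 = (k : ℂ) := by rw [Representation.char_one, Module.finrank_fin_fun]
  obtain ⟨hle, -⟩ := CfsgLib.Char.degree_le_of_constituent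
    (CfsgLib.Char.isCharacter_indFun C (θ := τ.character) ⟨k, τ, rfl⟩)
    (⟨_, m, ρ, hρ, rfl⟩ : Cfsg.IrrCharacter G) (a := C.index * k) (b := m) (by
      rw [CfsgLib.Char.classInner_indFun C _ _ (CfsgLib.Char.isClassFunction_irr ⟨_, m, ρ, hρ, rfl⟩),
        ← CfsgLib.Char.classInner_conj]
      exact fun h => hφ (by simpa using h)) (by
      rw [CfsgLib.Char.indFun_one, hτ1, Nat.cast_mul])
    ((Representation.char_one ρ).trans (by rw [Module.finrank_fin_fun]))
  rw [Representation.char_one, Module.finrank_fin_fun, Complex.norm_natCast]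
  have hG : (Nat.card G : ℝ) = (C.index : ℝ) * Nat.card C := by exact_mod_cast C.index_mul_card.symm
  have hle' : (m : ℝ) ≤ (C.index : ℝ) * k := by exact_mod_cast hle
  calc (m : ℝ) ^ 2 * Nat.card C * Nat.card D ≤ ((C.index : ℝ) * k) ^ 2 * Nat.card C * Nat.card D := by
        gcongr
    _ = (C.index : ℝ) ^ 2 * Nat.card C * ((k : ℝ) ^ 2 * Nat.card D) := by ring
    _ ≤ (C.index : ℝ) ^ 2 * Nat.card C * Nat.card C := by gcongr
    _ = (Nat.card G : ℝ) ^ 2 := by rw [hG]; ring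

end Cfsg.Agent.S1492
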