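import Cfsg.Statements.S1494

import Cfsg.Agent.Lib.Char.Linear
import Cfsg.Agent.Lib.Char.Virtual

set_option autoImplicit false
open Cfsg

namespace Cfsg.Agent.S1494

/-- Let χ be a generalized character of the finite group G, p a prime, x an element of order p and y an element commuting with x. Then χ(x * y) − χ(y) = (1 − ε) * ω for some algebraic integer ω, where ε = exp(2πi/p). -/
theorem result {G : Type*} [Group G] [Finite G] (χ : G → ℂ) (hχ : Cfsg.IsGeneralizedCharacter G χ) (p : ℕ) (hp : p.Prime) (x y : G) (hx : orderOf x = p) (hxy : x * y = y * x) : ∃ ω : ℂ, IsIntegral ℤ ω ∧ χ (x * y) - χ y = (1 - Complex.exp (2 * Real.pi * Complex.I / p)) * ω := by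
  classical
  set ζ := Complex.exp (2 * Real.pi * Complex.I / p) with hζd
  have hζ : IsPrimitiveRoot ζ p := Complex.isPrimitiveRoot_exp p hp.ne_zero
  let A : Subgroup G := Subgroup.closure {x, y}
  have hA : ∀ a b : A, a * b = b * a := by
    have hc := Subgroup.isMulCommutative_closure (k := ({x, y} : Set G)) (by
      intro u hu v hv
      rcases hu with rfl | rfl <;> rcases hv with rfl | rfl <;> first | rfl | exact hxy | exact hxy.symm)
    exact fun a b => hc.is_comm.comm a b
  let xA : A := ⟨x, Subgroup.subset_closure (Set.mem_insert _ _)⟩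
  let yA : A := ⟨y, Subgroup.subset_closure (Set.mem_insert_of_mem _ rfl)⟩
  have key : ∀ φ : G → ℂ, Cfsg.IsCharacter G φ →
      ∃ ω : ℂ, IsIntegral ℤ ω ∧ φ (x * y) - φ y = (1 - ζ) * ω := by
    intro φ hφ
    obtain ⟨l, hl⟩ := CfsgLib.Char.exists_list_irr (CfsgLib.Char.isCharacter_comp hφ A.subtype)
    have h1 : φ (x * y) - φ y = (l.map fun ψ : Cfsg.IrrCharacter A => (ψ : A → ℂ) (xA * yA) - (ψ : A → ℂ) yA).sum := by
      have e1 := congrFun hl (xA * yA)
      have e2 := congrFun hl yA
      change φ (x * y) = _ at e1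
      change φ y = _ at e2
      rw [e1, e2]
      clear e1 e2 hl
      induction l with
      | nil => simp
      | cons a l ih =>
        simp at ih ⊢
        linear_combination ih
    rw [h1]
    clear h1 hl
    induction l with
    | nil => exact ⟨0, isIntegral_zero, by simp⟩
    | cons ψ l ih =>
      obtain ⟨w, hw, hwe⟩ := ih
      obtain ⟨f, hf⟩ : ∃ f : A →* ℂˣ, (ψ : A → ℂ) = fun a => (f a : ℂ) := by
        obtain ⟨f, hf⟩ := CfsgLib.Char.linearCharEquiv.surjective
          ⟨ψ, CfsgLib.Char.degree_one_of_comm hA ψ⟩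
        exact ⟨f, (congrArg (fun z => ((z.1 : Cfsg.IrrCharacter A) : A → ℂ)) hf).symm⟩
      have hpow : ∀ (a : A) (n : ℕ), a ^ n = 1 → (f a : ℂ) ^ n = 1 := fun a n h => by
        rw [← Units.val_pow_eq_pow_val, ← map_pow, h, map_one, Units.val_one]
      obtain ⟨i, -, hi⟩ := (haveI : NeZero p := ⟨hp.ne_zero⟩
        hζ.eq_pow_of_pow_eq_one (hpow xA p (Subtype.ext (hx ▸ pow_orderOf_eq_one x))))
      refine ⟨-(∑ j ∈ Finset.range i, ζ ^ j) * (f yA : ℂ) + w, ((IsIntegral.sum _ fun j _ =>
        (hζ.isIntegral hp.pos).pow j).neg.mul (CfsgLib.Char.isIntegral_of_pow_eq_one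
        (orderOf_pos yA).ne' (hpow yA _ (pow_orderOf_eq_one yA)))).add hw, ?_⟩
      rw [List.map_cons, List.sum_cons, hwe, hf]
      simp only [map_mul, Units.val_mul]
      rw [← hi]
      linear_combination -(f yA : ℂ) * (mul_neg_geom_sum ζ i).symm
  obtain ⟨a, b, ha, hb, rfl⟩ := hχ
  obtain ⟨w, hw, hwe⟩ := key a ha
  obtain ⟨v, hv, hve⟩ := key b hb
  exact ⟨w - v, hw.sub hv, by simp only [Pi.sub_apply]; linear_combination hwe - hve⟩

end Cfsg.Agent.S1494
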