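import Cfsg.Statements.S1495

import Cfsg.Agent.Lib.Char.Basic

set_option autoImplicit false
open Cfsg

namespace Cfsg.Agent.S1495

/-- Let p be a prime, ε = exp(2πi/p), and n an integer such that n = (1 − ε) * ω for some algebraic integer ω. Then p divides n. -/
theorem result (p : ℕ) (hp : p.Prime) (n : ℤ) (ω : ℂ) (hω : IsIntegral ℤ ω) (h : (n : ℂ) = (1 - Complex.exp (2 * Real.pi * Complex.I / p)) * ω) : (p : ℤ) ∣ n := by
  by_contra hn
  set ζ := Complex.exp (2 * Real.pi * Complex.I / p) with hζd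
  have hζ : IsPrimitiveRoot ζ p := Complex.isPrimitiveRoot_exp p hp.ne_zero
  have hone : ∃ t : ℂ, IsIntegral ℤ t ∧ (1 - ζ) * t = 1 := by
    obtain ⟨a, b, hab⟩ := (Nat.prime_iff_prime_int.mp hp).coprime_iff_not_dvd.mpr hn
    refine ⟨(a : ℂ) * (∏ i ∈ (Finset.range (p - 1)).erase 0, (1 - ζ ^ (i + 1))) + (b : ℂ) * ω,
      ((isIntegral_algebraMap (R := ℤ) (x := a)).mul
        (IsIntegral.prod _ fun i _ => isIntegral_one.sub ((hζ.isIntegral hp.pos).pow (i + 1)))).add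
        ((isIntegral_algebraMap (R := ℤ) (x := b)).mul hω), ?_⟩
    have hprod : (1 - ζ) * ∏ i ∈ (Finset.range (p - 1)).erase 0, (1 - ζ ^ (i + 1)) = (p : ℂ) := by
      have h0 : 0 ∈ Finset.range (p - 1) := Finset.mem_range.mpr (by have := hp.two_le; omega)
      rw [show (1 : ℂ) - ζ = 1 - ζ ^ (0 + 1) by rw [zero_add, pow_one],
        Finset.mul_prod_erase _ (fun i => 1 - ζ ^ (i + 1)) h0]
      have hp1 : p - 1 + 1 = p := Nat.sub_add_cancel hp.pos
      have h := IsPrimitiveRoot.prod_one_sub_pow_eq_order (R := ℂ) (μ := ζ) (n := p - 1) (by rwa [hp1])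
      rw [h]
      exact_mod_cast hp1
    have hab' : (a : ℂ) * (p : ℂ) + (b : ℂ) * (n : ℂ) = 1 := by exact_mod_cast hab
    rw [mul_add, mul_left_comm, hprod, mul_left_comm, ← h]
    linear_combination hab'
  obtain ⟨t, ht, hte⟩ := hone
  -- `(1 - ζ) ^ p` is a multiple of `p` among algebraic integers
  let R := integralClosure ℤ ℂ
  let z : R := ⟨ζ, hζ.isIntegral hp.pos⟩
  obtain ⟨r, hr⟩ := exists_add_pow_prime_eq hp (1 : R) (-z)
  have hdiv : ∃ s : R, (1 : R) + (-z) ^ p = (p : R) * s := by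
    have hz : z ^ p = 1 := Subtype.ext hζ.pow_eq_one
    rcases hp.eq_two_or_odd' with rfl | hodd
    · exact ⟨1, by rw [neg_sq, hz]; norm_num⟩
    · exact ⟨0, by rw [hodd.neg_pow, hz]; simp⟩
  obtain ⟨s, hs⟩ := hdiv
  rw [one_pow, hs] at hr
  have hC : (1 - ζ) ^ p = (p : ℂ) * ((s : ℂ) + -ζ * (r : ℂ)) := by
    have := congrArg Subtype.val hr
    push_cast at this
    rw [sub_eq_add_neg, this]
    ring
  have hint : IsIntegral ℤ ((1 / (p : ℚ) : ℚ) : ℂ) := by
    rw [show ((1 / (p : ℚ) : ℚ) : ℂ) = ((s : ℂ) + -ζ * (r : ℂ)) * t ^ p by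
      push_cast
      rw [div_eq_iff (by exact_mod_cast hp.ne_zero)]
      linear_combination (t ^ p) * hC - (by rw [← mul_pow, hte, one_pow] : (1 - ζ) ^ p * t ^ p = 1)]
    exact (s.2.add ((hζ.isIntegral hp.pos).neg.mul r.2)).mul (ht.pow p)
  rw [← eq_ratCast (algebraMap ℚ ℂ), isIntegral_algebraMap_iff (algebraMap ℚ ℂ).injective,
    IsIntegrallyClosed.isIntegral_iff] at hint
  obtain ⟨z', hz'⟩ := hint
  rw [eq_intCast, eq_div_iff (by exact_mod_cast hp.ne_zero)] at hz'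
  have h1 : z' * (p : ℤ) = 1 := by exact_mod_cast hz'
  have h2 := Int.eq_one_of_mul_eq_one_left (by positivity) h1
  exact hp.ne_one (by exact_mod_cast h2)

end Cfsg.Agent.S1495
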