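import Cfsg.Statements.S1497

import Cfsg.Agent.Lib.Char.DadeBasic

set_option autoImplicit false
open Cfsg

namespace Cfsg.Agent.S1497

/-- Let A be a nonempty subset of the finite group G not containing 1 and L a subgroup. Then A is a TI-subset whose normaliser is L if and only if the Dade hypothesis holds for A, L and the constant choice H(a) = ⊥. -/
theorem result {G : Type*} [Group G] [Finite G] (A : Set G) (hA : A.Nonempty) (h1 : (1 : G) ∉ A) (L : Subgroup G) : (Cfsg.IsTISubset A ∧ Subgroup.normalizer A = L) ↔ Cfsg.DadeHypothesis A L (fun _ => ⊥) := by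
  have hN : ∀ g : G, g ∈ Subgroup.normalizer A ↔ ∀ n : G, n ∈ A ↔ g * n * g⁻¹ ∈ A := fun g =>
    Subgroup.mem_set_normalizer_iff
  constructor
  · rintro ⟨hTI, rfl⟩
    have key : ∀ a ∈ A, ∀ g : G, g * a * g⁻¹ ∈ A → g ∈ Subgroup.normalizer A := fun a ha g hg => by
      by_contra hn
      exact h1 (hTI g hn a ha hg ▸ ha)
    have hC : ∀ a ∈ A, Subgroup.centralizer ({a} : Set G) ≤ Subgroup.normalizer A := fun a ha c hc =>
      key a ha c (by rwa [Subgroup.mem_centralizer_singleton_iff.mp hc, mul_inv_cancel_right])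
    refine ⟨h1, fun a ha => hC a ha (Subgroup.mem_centralizer_singleton_iff.mpr rfl),
      fun x hx a ha => ((hN x).mp hx a).mp ha, fun a ha g hg => ⟨g, key a ha g hg, rfl⟩,
      fun a _ => bot_le, fun a _ c _ u hu => ?_, fun a _ => bot_inf_eq _, fun a ha => ?_,
      fun a _ b _ => ?_⟩
    · rw [Subgroup.mem_bot] at hu ⊢
      rw [hu, mul_one, mul_inv_cancel]
    · rw [bot_sup_eq, inf_eq_right.mpr (hC a ha)]
    · rw [Subgroup.card_bot]
      exact Nat.coprime_one_left _
  · intro hD
    have hC : ∀ a ∈ A, Subgroup.centralizer ({a} : Set G) ≤ L := fun a ha => by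
      rw [← hD.sup_eq a ha, bot_sup_eq]
      exact inf_le_left
    have key : ∀ a ∈ A, ∀ g : G, g * a * g⁻¹ ∈ A → g ∈ L := fun a ha g hg => by
      obtain ⟨x, hx, hxa⟩ := hD.fusion a ha g hg
      have hc : x⁻¹ * g ∈ Subgroup.centralizer ({a} : Set G) :=
        Subgroup.mem_centralizer_singleton_iff.mpr (by
          calc x⁻¹ * g * a = x⁻¹ * (g * a * g⁻¹) * g := by group
            _ = a * (x⁻¹ * g) := by rw [← hxa]; group)
      simpa using L.mul_mem hx (hC a ha hc)
    have hLN : L ≤ Subgroup.normalizer A := fun x hx => (hN x).mpr fun n =>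
      ⟨fun hn => hD.conj_mem x hx n hn, fun hn => by
        have h := hD.conj_mem x⁻¹ (L.inv_mem hx) _ hn
        rwa [show x⁻¹ * (x * n * x⁻¹) * x⁻¹⁻¹ = n by group] at h⟩
    refine ⟨fun g hg a ha hga => (hg (hLN (key a ha g hga))).elim, le_antisymm (fun g hg => ?_) hLN⟩
    obtain ⟨a, ha⟩ := hA
    exact key a ha g (((hN g).mp hg a).mp ha)

end Cfsg.Agent.S1497
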