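import Cfsg.Statements.S1504

import Cfsg.Agent.Lib.Char.CyclicTIBasic

set_option autoImplicit false
open Cfsg

namespace Cfsg.Agent.S1504

/-- Let W₁, W₂ be subgroups of a finite group with W₁ ⊓ W₂ = ⊥ whose elements commute, and W = W₁ ⊔ W₂. For linear characters φ, ψ of W with φ trivial on W₂ and ψ trivial on W₁, the function (1 − φ)(1 − ψ) vanishes on W₁ ∪ W₂; and the family of these functions, indexed by pairs (φ, ψ) with φ ≠ 1 ≠ ψ, is linearly independent over ℂ. -/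
theorem result {G : Type*} [Group G] [Finite G] (W₁ W₂ : Subgroup G) (hdisj : W₁ ⊓ W₂ = ⊥) (hcomm : ∀ a ∈ W₁, ∀ b ∈ W₂, a * b = b * a) : (∀ φ ψ : ↥(W₁ ⊔ W₂) →* ℂˣ, (∀ w : ↥(W₁ ⊔ W₂), (w : G) ∈ W₂ → φ w = 1) → (∀ w : ↥(W₁ ⊔ W₂), (w : G) ∈ W₁ → ψ w = 1) → ∀ w : ↥(W₁ ⊔ W₂), ((w : G) ∈ W₁ ∨ (w : G) ∈ W₂) → (1 - (φ w : ℂ) - (ψ w : ℂ) + (φ w : ℂ) * (ψ w : ℂ)) = 0) ∧ LinearIndependent ℂ (fun p : {p : (↥(W₁ ⊔ W₂) →* ℂˣ) × (↥(W₁ ⊔ W₂) →* ℂˣ) // p.1 ≠ 1 ∧ p.2 ≠ 1 ∧ (∀ w : ↥(W₁ ⊔ W₂), (w : G) ∈ W₂ → p.1 w = 1) ∧ (∀ w : ↥(W₁ ⊔ W₂), (w : G) ∈ W₁ → p.2 w = 1)} => fun w : ↥(W₁ ⊔ W₂) => 1 - (p.1.1 w : ℂ) - (p.1.2 w : ℂ) + (p.1.1 w : ℂ) * (p.1.2 w : ℂ)) := by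
  classical
  let _ : Fintype ↥(W₁ ⊔ W₂) := Fintype.ofFinite _
  refine ⟨fun φ ψ hφ hψ w hw => CfsgLib.Char.alphaFun_outside hφ hψ w hw, ?_⟩
  rw [linearIndependent_iff']
  intro s c hs i hi
  have hinj := @CfsgLib.Char.trivOn_mul_inj G _ W₁ W₂ hdisj hcomm
  have one₁ := (CfsgLib.Char.trivOn (W₁ ⊔ W₂) W₁).one_mem
  have one₂ := (CfsgLib.Char.trivOn (W₁ ⊔ W₂) W₂).one_mem
  have hsep : ∀ p q : {p : (↥(W₁ ⊔ W₂) →* ℂˣ) × (↥(W₁ ⊔ W₂) →* ℂˣ) // p.1 ≠ 1 ∧ p.2 ≠ 1 ∧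
      (∀ w : ↥(W₁ ⊔ W₂), (w : G) ∈ W₂ → p.1 w = 1) ∧ (∀ w : ↥(W₁ ⊔ W₂), (w : G) ∈ W₁ → p.2 w = 1)},
      Cfsg.classInner (CfsgLib.Char.alphaFun W₁ W₂ p.1.1 p.1.2) (CfsgLib.Char.lc (q.1.1 * q.1.2)) =
        if p = q then 1 else 0 := by
    rintro ⟨⟨a, b⟩, ha1, hb1, ha, hb⟩ ⟨⟨a', b'⟩, ha1', hb1', ha', hb'⟩
    have n1 : (1 : ↥(W₁ ⊔ W₂) →* ℂˣ) ≠ a' * b' := fun e =>
      ha1' (hinj one₂ ha' one₁ hb' ((one_mul _).trans e)).1.symm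
    have n2 : a ≠ a' * b' := fun e => hb1' (hinj ha ha' one₁ hb' ((mul_one _).trans e)).2.symm
    have n3 : b ≠ a' * b' := fun e => ha1' (hinj one₂ ha' hb hb' ((one_mul _).trans e)).1.symm
    rw [CfsgLib.Char.alphaFun_eq, CfsgLib.Char.classInner_add_left,
      CfsgLib.Char.classInner_sub_left, CfsgLib.Char.classInner_sub_left]
    simp only [CfsgLib.Char.classInner_lc, if_neg n1, if_neg n2, if_neg n3, sub_zero, zero_add,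
      Subtype.mk.injEq, Prod.mk.injEq]
    refine if_congr ⟨fun e => hinj ha ha' hb hb' e, fun e => ?_⟩ rfl rfl
    rw [e.1, e.2]
  have h := congrArg (fun f => Cfsg.classInner f (CfsgLib.Char.lc (i.1.1 * i.1.2))) hs
  simp only [CfsgLib.Char.classInner_sum_left, CfsgLib.Char.classInner_smul_left,
    CfsgLib.Char.classInner_zero_left] at h
  rw [Finset.sum_eq_single i ?_ fun hni => absurd hi hni] at h
  · erw [hsep i i] at h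
    simpa using h
  · intro j _ hji
    erw [hsep j i]
    simp [hji]

end Cfsg.Agent.S1504
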