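import Cfsg.Statements.S1509

import Cfsg.Agent.Lib.Char.CyclicTIConseq

set_option autoImplicit false
open Cfsg

namespace Cfsg.Agent.S1509

/-- Let α, β, γ, δ be functions on a finite group X each of which is an irreducible character or the negative of one, and u, v nonzero real numbers. Suppose ⟨α, β⟩ = ⟨γ, δ⟩ = 0, ⟨α − β, uγ − vδ⟩ = 0, α 1 = β 1 and u γ 1 = v δ 1. Then also ⟨α, γ⟩ = ⟨α, δ⟩ = ⟨β, γ⟩ = ⟨β, δ⟩ = 0. -/
theorem result {X : Type*} [Group X] [Fintype X] (α β γ δ : X → ℂ) (hα : Cfsg.IsIrrCharacter X α ∨ Cfsg.IsIrrCharacter X (-α)) (hβ : Cfsg.IsIrrCharacter X β ∨ Cfsg.IsIrrCharacter X (-β)) (hγ : Cfsg.IsIrrCharacter X γ ∨ Cfsg.IsIrrCharacter X (-γ)) (hδ : Cfsg.IsIrrCharacter X δ ∨ Cfsg.IsIrrCharacter X (-δ)) (u v : ℝ) (hu : u ≠ 0) (hv : v ≠ 0) (hab : Cfsg.classInner α β = 0) (hcd : Cfsg.classInner γ δ = 0) (hmix : Cfsg.classInner (α - β) ((u : ℂ) • γ - (v : ℂ) • δ) = 0) (h1 : α 1 = β 1) (h2 : (u : ℂ) *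 γ 1 = (v : ℂ) * δ 1) : Cfsg.classInner α γ = 0 ∧ Cfsg.classInner α δ = 0 ∧ Cfsg.classInner β γ = 0 ∧ Cfsg.classInner β δ = 0 := by
  classical
  suffices key : ∀ (α β γ δ : X → ℂ), (Cfsg.IsIrrCharacter X α ∨ Cfsg.IsIrrCharacter X (-α)) →
      (Cfsg.IsIrrCharacter X β ∨ Cfsg.IsIrrCharacter X (-β)) →
      (Cfsg.IsIrrCharacter X γ ∨ Cfsg.IsIrrCharacter X (-γ)) →
      (Cfsg.IsIrrCharacter X δ ∨ Cfsg.IsIrrCharacter X (-δ)) → ∀ u v : ℂ, u ≠ 0 → v ≠ 0 →
      u * u + v * v ≠ 0 → starRingEnd ℂ u = u → starRingEnd ℂ v = v →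
      Cfsg.classInner α β = 0 → Cfsg.classInner γ δ = 0 →
      Cfsg.classInner (α - β) (u • γ - v • δ) = 0 → α 1 = β 1 → u * γ 1 = v * δ 1 →
      Cfsg.classInner α γ = 0 by
    have hu' : (u : ℂ) ≠ 0 := by exact_mod_cast hu
    have hv' : (v : ℂ) ≠ 0 := by exact_mod_cast hv
    have hq : (u : ℂ) * u + (v : ℂ) * v ≠ 0 := by
      have hp : 0 < u * u + v * v := add_pos (mul_self_pos.mpr hu) (mul_self_pos.mpr hv)
      intro h
      exact hp.ne' (by exact_mod_cast h)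
    have hab' : Cfsg.classInner β α = 0 := by
      rw [← CfsgLib.Char.classInner_conj, hab, map_zero]
    have hcd' : Cfsg.classInner δ γ = 0 := by
      rw [← CfsgLib.Char.classInner_conj, hcd, map_zero]
    have m1 : Cfsg.classInner (β - α) ((u : ℂ) • γ - (v : ℂ) • δ) = 0 := by
      rw [← neg_sub α β, CfsgLib.Char.classInner_neg_left, hmix, neg_zero]
    have m2 : Cfsg.classInner (α - β) ((v : ℂ) • δ - (u : ℂ) • γ) = 0 := by
      rw [← neg_sub ((u : ℂ) • γ), CfsgLib.Char.classInner_neg_right, hmix, neg_zero]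
    have m3 : Cfsg.classInner (β - α) ((v : ℂ) • δ - (u : ℂ) • γ) = 0 := by
      rw [← neg_sub ((u : ℂ) • γ), CfsgLib.Char.classInner_neg_right, m1, neg_zero]
    exact ⟨key α β γ δ hα hβ hγ hδ u v hu' hv' hq (Complex.conj_ofReal u) (Complex.conj_ofReal v)
        hab hcd hmix h1 h2,
      key α β δ γ hα hβ hδ hγ v u hv' hu' (by rwa [add_comm]) (Complex.conj_ofReal v)
        (Complex.conj_ofReal u) hab hcd' m2 h1 h2.symm,
      key β α γ δ hβ hα hγ hδ u v hu' hv' hq (Complex.conj_ofReal u) (Complex.conj_ofReal v)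
        hab' hcd m1 h1.symm h2,
      key β α δ γ hβ hα hδ hγ v u hv' hu' (by rwa [add_comm]) (Complex.conj_ofReal v)
        (Complex.conj_ofReal u) hab' hcd' m3 h1.symm h2.symm⟩
  intro α β γ δ hα hβ hγ hδ u v hu hv hq cu cv hab hcd hmix h1 h2
  by_contra hne
  obtain ⟨s, hs, es, is⟩ := CfsgLib.Char.signed_irr_inner_zero hα hγ hne
  have had : Cfsg.classInner α δ = 0 := by
    rw [es, CfsgLib.Char.classInner_smul_left, hcd, mul_zero]
  have hbg : Cfsg.classInner β γ = 0 := by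
    have h : Cfsg.classInner β α = 0 := by rw [← CfsgLib.Char.classInner_conj, hab, map_zero]
    rw [es, CfsgLib.Char.classInner_smul_right] at h
    rcases hs with rfl | rfl <;> simpa using h
  simp only [CfsgLib.Char.classInner_sub_left, CfsgLib.Char.classInner_sub_right,
    CfsgLib.Char.classInner_smul_right, cu, cv, had, hbg, is, sub_zero, zero_sub] at hmix
  have hbd : Cfsg.classInner β δ ≠ 0 := fun h => by
    rw [h] at hmix
    rcases hs with rfl | rfl <;> simp [hu] at hmix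
  obtain ⟨t, -, et, it⟩ := CfsgLib.Char.signed_irr_inner_zero hβ hδ hbd
  rw [it] at hmix
  rw [es, et] at h1
  simp only [Pi.smul_apply, smul_eq_mul] at h1
  have hγ1 : γ 1 ≠ 0 := by
    rcases hγ with h | h
    · exact CfsgLib.Char.irr_one_ne_zero ⟨γ, h⟩
    · simpa using CfsgLib.Char.irr_one_ne_zero ⟨-γ, h⟩
  have : (u * u + v * v) * (s * γ 1) = 0 := by
    linear_combination (s * u) * h2 + (v * v) * h1 + (v * δ 1) * hmix
  rcases hs with rfl | rfl <;> simp [hq, hγ1] at this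

end Cfsg.Agent.S1509
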