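import Cfsg.Statements.S1515

import Cfsg.Agent.Lib.Char.CoherenceSystem

set_option autoImplicit false
open Cfsg

namespace Cfsg.Agent.S1515

/-- Let (S, τ, R) be a coherence system from L to G, χ ∈ S, and ψ an integer combination of S with ⟨χ, ψ⟩ = ⟨conj χ, ψ⟩ = 0. Let τ₁ be a linear isometry on the integer combinations of χ − ψ and χ − conj χ, with virtual-character values, agreeing with τ on integer multiples of χ − conj χ. Then the sum over α ∈ R χ of the squared absolute values of ⟨τ₁(χ − ψ), α⟩ is at least ⟨χ, χ⟩; and if ⟨τ₁(χ − ψ), τ₁(χ − ψ)⟩ minus that sum is at least ⟨ψ, ψ⟩, then the sum equals ⟨χ, χ⟩ and every ⟨τ₁(χ − ψ), α⟩ with α ∈ R χ is 0 or 1. -/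
theorem result {L : Type*} [Group L] [Fintype L] {G : Type*} [Group G] [Fintype G] (S : Set (L → ℂ)) (τ : (L → ℂ) → (G → ℂ)) (R : (L → ℂ) → Finset (G → ℂ)) (hS : Cfsg.IsCoherenceSystem S τ R) (χ : L → ℂ) (hχ : χ ∈ S) (ψ : L → ℂ) (hψ : ψ ∈ Cfsg.zspan S) (h1 : Cfsg.classInner χ ψ = 0) (h2 : Cfsg.classInner (Cfsg.conjFun χ) ψ = 0) (τ₁ : (L → ℂ) → (G → ℂ)) (hτ₁ : Cfsg.IsLinearIsometryOn (Cfsg.zspan {χ - ψ, χ - Cfsg.conjFun χ}) τ₁) (hagree : ∀ n : ℤ, τ₁ (n • (χ - Cfsg.conjFun χ)) = τ (n • (χ - Cfsg.conjFun χ))) : (Cfsg.classInner χ χ).re ≤ ∑ α ∈ R χ, ‖Cfsg.classInner (τ₁ (χ - ψ)) α‖ ^ 2 ∧ ((Cfsg.classInner ψ ψ).re ≤ (Cfsg.classInner (τ₁ (χ - ψ)) (τ₁ (χ - ψ))).re - ∑ α ∈ R χ, ‖Cfsg.classInner (τ₁ (χ - ψ)) α‖ ^ 2 → (∑ α ∈ R χ, ‖Cfsg.classInner (τ₁ (χ - ψ)) α‖ ^ 2 = (Cfsg.classInner χ χ).re ∧ ∀ α ∈ R χ, Cfsg.classInner (τ₁ (χ - ψ)) α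 = 0 ∨ Cfsg.classInner (τ₁ (χ - ψ)) α = 1)) := by
  obtain ⟨c, hc, hsum, hle⟩ := CfsgLib.Char.cs_projection hS hχ hψ h1 h2 τ₁ hτ₁ (by
    simpa using hagree 1)
  have hnorm : ∀ α ∈ R χ, ‖Cfsg.classInner (τ₁ (χ - ψ)) α‖ ^ 2 = ((c α ^ 2 : ℤ) : ℝ) := fun α hα => by
    rw [hc α hα, Complex.norm_intCast, sq_abs]; push_cast; ring
  rw [Finset.sum_congr rfl hnorm, ← Int.cast_sum]
  have hre : (Cfsg.classInner χ χ).re = ((∑ α ∈ R χ, c α : ℤ) : ℝ) := by rw [hsum, Complex.intCast_re]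
  have h12 : ((∑ α ∈ R χ, c α : ℤ) : ℝ) ≤ ((∑ α ∈ R χ, c α ^ 2 : ℤ) : ℝ) := by
    exact_mod_cast Finset.sum_le_sum fun α _ => Int.le_self_sq (c α)
  refine ⟨hre ▸ h12, fun hb => ?_⟩
  have hm : χ - ψ ∈ Cfsg.zspan ({χ - ψ, χ - Cfsg.conjFun χ} : Set (L → ℂ)) :=
    CfsgLib.Char.zspan_subset_mem (Set.mem_insert _ _)
  rw [hτ₁.2.2.1 _ hm _ hm, CfsgLib.Char.classInner_sub_left, CfsgLib.Char.classInner_sub_right,
    CfsgLib.Char.classInner_sub_right, ← CfsgLib.Char.classInner_conj χ ψ, h1, map_zero] at hb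
  simp only [Complex.sub_re, sub_zero, zero_sub, Complex.neg_re] at hb
  have heq : ((∑ α ∈ R χ, c α ^ 2 : ℤ) : ℝ) = ((∑ α ∈ R χ, c α : ℤ) : ℝ) := by linarith
  refine ⟨hre ▸ heq, fun α hα => ?_⟩
  rcases CfsgLib.Char.int_zero_or_one_of_sum_le (R χ) c (le_of_eq (by exact_mod_cast heq)) α hα with h | h
  · exact Or.inl (by rw [hc α hα, h, Int.cast_zero])
  · exact Or.inr (by rw [hc α hα, h, Int.cast_one])

end Cfsg.Agent.S1515
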