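import Cfsg.Statements.S1518

import Cfsg.Agent.Lib.Char.DadeVirtual
import Cfsg.Agent.Lib.Char.NormTwo

set_option autoImplicit false
open Cfsg

namespace Cfsg.Agent.S1518

/-- Under the Dade hypothesis for (A, L, H): if χ is an irreducible character of L vanishing at every non-identity element of L outside A, then the Dade image of χ − conj χ equals μ − conj μ for some irreducible character μ of G. -/
theorem result {G : Type*} [Group G] [Fintype G] (A : Set G) (L : Subgroup G) [Fintype L] (H : G → Subgroup G) (hD : Cfsg.DadeHypothesis A L H) (χ : L → ℂ) (hχ : Cfsg.IsIrrCharacter L χ) (hsupp : ∀ x : L, x ≠ 1 → (x : G) ∉ A → χ x = 0) : ∃ μ : G → ℂ, Cfsg.IsIrrCharacter G μ ∧ Cfsg.dadeIsometry A L H (χ - Cfsg.conjFun χ) = μ - Cfsg.conjFun μ := by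
  classical
  set c : L → ℂ := Cfsg.conjFun χ with hc
  have hcirr : Cfsg.IsIrrCharacter L c := CfsgLib.Char.isIrrCharacter_starFun ⟨χ, hχ⟩
  set α : L → ℂ := χ - c with hα
  have hgen : Cfsg.IsGeneralizedCharacter L α :=
    ⟨χ, c, CfsgLib.Char.isCharacter_of_isIrr hχ, CfsgLib.Char.isCharacter_of_isIrr hcirr, rfl⟩
  have hαA : ∀ x : L, (x : G) ∉ A → α x = 0 := by
    intro x hx
    show χ x - (starRingEnd ℂ) (χ x) = 0
    by_cases h1 : x = 1
    · rw [h1, CfsgLib.Char.conj_irr_one ⟨χ, hχ⟩, sub_self]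
    · rw [hsupp x h1 hx, map_zero, sub_self]
  have hneg : ∀ g, (starRingEnd ℂ) (Cfsg.dadeIsometry A L H α g) = -Cfsg.dadeIsometry A L H α g := by
    intro g
    unfold Cfsg.dadeIsometry
    split_ifs
    · simp [hα, hc, Cfsg.conjFun]
    · simp
  set f := Cfsg.dadeIsometry A L H α with hf
  have hfgen : Cfsg.IsGeneralizedCharacter G f :=
    CfsgLib.Char.isGeneralizedCharacter_dadeIsometry hD hgen hαA
  by_cases heq : c = χ
  · refine ⟨fun _ => 1, CfsgLib.Char.isIrrCharacter_one, ?_⟩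
    have h0 : α = 0 := by rw [hα, heq, sub_self]
    funext g
    rw [hf, h0]
    unfold Cfsg.dadeIsometry
    split_ifs <;> simp [Cfsg.conjFun]
  have hne : (⟨χ, hχ⟩ : Cfsg.IrrCharacter L) ≠ ⟨c, hcirr⟩ := fun h => heq (congrArg Subtype.val h).symm
  have h2 : Cfsg.classInner f f = 2 := by
    rw [hf, CfsgLib.Char.dade_isometry hD (CfsgLib.Char.isClassFunction_of_isGeneralized hgen) hαA
      (CfsgLib.Char.isClassFunction_of_isGeneralized hgen), hα, CfsgLib.Char.classInner_sub_left,
      CfsgLib.Char.classInner_sub_right, CfsgLib.Char.classInner_sub_right,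
      CfsgLib.Char.classInner_irr_self ⟨χ, hχ⟩, CfsgLib.Char.classInner_irr_self ⟨c, hcirr⟩,
      CfsgLib.Char.classInner_irr_ne hne, CfsgLib.Char.classInner_irr_ne hne.symm]
    norm_num
  have h1 : f 1 = 0 := by
    refine CfsgLib.Char.dadeIsometry_eq_zero fun a ha haL x u hu he => hD.one_not_mem ?_
    have hau : a * u = 1 := by rw [← he]; group
    have ha' : a⁻¹ ∈ H a := by rw [inv_eq_of_mul_eq_one_right hau]; exact hu
    have : a ∈ H a ⊓ (L ⊓ Subgroup.centralizer ({a} : Set G)) :=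
      ⟨by simpa using (H a).inv_mem ha', haL, Subgroup.mem_centralizer_singleton_iff.mpr rfl⟩
    rw [hD.inf_eq_bot a ha, Subgroup.mem_bot] at this
    exact this ▸ ha
  obtain ⟨μ, ν, hμν, hfe⟩ := CfsgLib.Char.exists_sub_of_norm_two hfgen h2 h1
  refine ⟨μ, μ.2, ?_⟩
  let μc : Cfsg.IrrCharacter G := ⟨_, CfsgLib.Char.isIrrCharacter_starFun μ⟩
  let νc : Cfsg.IrrCharacter G := ⟨_, CfsgLib.Char.isIrrCharacter_starFun ν⟩
  have hrel : (μc : G → ℂ) - (νc : G → ℂ) = (ν : G → ℂ) - (μ : G → ℂ) := funext fun g => by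
    have := hneg g
    rw [hfe, Pi.sub_apply, map_sub, neg_sub] at this
    exact this
  have hμνc : μc ≠ νc := fun h => hμν (Subtype.ext (funext fun g => by
    have := congrFun (congrArg Subtype.val h) g
    exact (starRingEnd ℂ).injective this))
  have hi := congrArg (fun F : G → ℂ => Cfsg.classInner F (μc : G → ℂ)) hrel
  simp only [CfsgLib.Char.classInner_sub_left, CfsgLib.Char.classInner_irr_self,
    CfsgLib.Char.classInner_irr_ne hμνc.symm, sub_zero, CfsgLib.Char.classInner_irr] at hi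
  have hνμ : ν = μc := by
    by_contra h
    rw [if_neg h] at hi
    split_ifs at hi <;> norm_num at hi
  rw [hfe, hνμ]

end Cfsg.Agent.S1518
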