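import Cfsg.Statements.S1524

import Cfsg.Agent.Lib.Char.SibleyMain

set_option autoImplicit false
open Cfsg

namespace Cfsg.Agent.S1524

/-- Let G be a finite group and H ≤ L subgroups with L of odd order, H ≠ ⊥ nilpotent and normal in L with a nontrivial complement W₁ in L (H ⊓ W₁ = ⊥, H ⊔ W₁ = L) acting on H without non-identity fixed points (L is a Frobenius group with kernel H), and suppose the underlying set of H is a TI-subset of G whose normaliser is L. Let S be the set of functions on L induced from the non-principal irreducible characters of H. Then (S, L minus 1, induction to G) is coherent. -/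
theorem result {G : Type*} [Group G] [Fintype G] (H L W₁ : Subgroup G) [Fintype L] (hodd : Odd (Nat.card L)) (hHL : H ≤ L) (hW₁L : W₁ ≤ L) (hH1 : H ≠ ⊥) (hW1 : W₁ ≠ ⊥) (hnil : Group.IsNilpotent H) (hHn : ∀ x ∈ L, ∀ h ∈ H, x * h * x⁻¹ ∈ H) (hinf : H ⊓ W₁ = ⊥) (hsup : H ⊔ W₁ = L) (hfpf : ∀ w ∈ W₁, w ≠ 1 → ∀ h ∈ H, w * h = h * w → h = 1) (hTI : Cfsg.IsTISubset (H : Set G)) (hN : Subgroup.normalizer (H : Set G) = L) : Cfsg.IsCoherent (Cfsg.inducedIrrAbove (H.subgroupOf L) ⊥) {1}ᶜ (fun α : L → ℂ => Cfsg.indFun L α) := by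
  subst hN
  haveI := Subgroup.normal_in_normalizer (H := H)
  have hlt : H < Subgroup.normalizer (H : Set G) := lt_of_le_of_ne hHL fun h => hW1 <| by
    rw [← le_bot_iff, ← hinf]
    exact le_inf (hW₁L.trans h.ge) le_rfl
  refine CfsgLib.Char.sibley_coherence H hTI hodd hnil hH1 (fun k hk hk1 x hx => ?_) hlt
  set K := H.subgroupOf (Subgroup.normalizer (H : Set G)) with hK
  set W := W₁.subgroupOf (Subgroup.normalizer (H : Set G)) with hW
  have hsupN : K ⊔ W = ⊤ := by
    rw [hK, hW, ← Subgroup.subgroupOf_sup hHL hW₁L, hsup, Subgroup.subgroupOf_self]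
  obtain ⟨u, hu, w, hw, he⟩ := CfsgLib.Char.frob_decomp K W hsupN (⟨x, hx.1⟩ : ↥(Subgroup.normalizer (H : Set G)))
  by_cases hw1 : w = 1
  · rw [hw1, mul_one] at he
    have h := congrArg Subtype.val he
    exact Set.mem_of_eq_of_mem (show x = ((u : ↥(Subgroup.normalizer (H : Set G))) : G) from h.symm) hu
  exfalso
  refine hk1 (congrArg Subtype.val (CfsgLib.Char.frob_fixed_eq_one K W (fun a ha ha1 b hb hab => ?_) hw hw1 hu
    (k := (⟨k, Subgroup.le_normalizer hk⟩ : ↥(Subgroup.normalizer (H : Set G)))) hk ?_))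
  · exact Subtype.ext (hfpf a ha (fun e => ha1 (Subtype.ext e)) b hb (congrArg Subtype.val hab))
  · rw [he]
    exact Subtype.ext (Subgroup.mem_centralizer_singleton_iff.1 hx.2)

end Cfsg.Agent.S1524
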