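import Cfsg.Statements.S1525

import Cfsg.Agent.Lib.Char.DadeMap

set_option autoImplicit false
open Cfsg

namespace Cfsg.Agent.S1525

/-- Under the Dade hypothesis for (A, L, H), let χ be a class function of G and let ψ be a function on L whose value at each a ∈ A is the average of χ over the coset a·H(a). Then (1/|G|) Σ |χ g|² over the elements g of G conjugate into some coset a·H(a) with a ∈ A is at least (1/|L|) Σ_{a ∈ A ∩ L} |ψ a|². -/
theorem result {G : Type*} [Group G] [Fintype G] (A : Set G) (L : Subgroup G) [Fintype L] (H : G → Subgroup G) (hD : Cfsg.DadeHypothesis A L H) (χ : G → ℂ) (hχ : Cfsg.IsClassFunction G χ) (ψ : L → ℂ) (hψ : ∀ a : L, (a : G) ∈ A → ψ a = (Nat.card (H a) : ℂ)⁻¹ * ∑ᶠ u ∈ (H a : Set G), χ (a * u)) : (Nat.card L : ℝ)⁻¹ * ∑ᶠ a ∈ {a : L | (a : G) ∈ A}, ‖ψ a‖ ^ 2 ≤ (Nat.card G : ℝ)⁻¹ * ∑ᶠ g ∈ {g : G | ∃ a ∈ A, ∃ u ∈ H a, ∃ x : G, x * g * x⁻¹ = a * u}, ‖χ g‖ ^ 2 := by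
  classical
  let ind : L → ℂ := fun x => if (x : G) ∈ A then 1 else 0
  have hcf : Cfsg.IsClassFunction L ind := fun a b => by
    simp only [ind]
    refine if_congr ⟨fun h => ?_, fun h => hD.conj_mem b b.2 a h⟩ rfl rfl
    have := hD.conj_mem (b : G)⁻¹ (L.inv_mem b.2) _ h
    simpa [mul_assoc] using this
  have hindA : ∀ x : L, (x : G) ∉ A → ind x = 0 := fun x hx => if_neg hx
  let F : G → ℂ := fun g => ((‖χ g‖ ^ 2 : ℝ) : ℂ)
  have hF : Cfsg.IsClassFunction G F := fun a b => by simp only [F, hχ a b]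
  let P : L → ℝ := fun a => (Nat.card (H a) : ℝ)⁻¹ * ∑ u ∈ (Set.toFinset (H (a : G) : Set G)), ‖χ (a * u)‖ ^ 2
  have hadj := CfsgLib.Char.dade_adjunction hD hcf hindA hF (ψ := fun a => (P a : ℂ)) fun a _ => by
    rw [finsum_mem_eq_toFinset_sum]
    simp [P, F]
  have hV : ∀ g : G, Cfsg.dadeIsometry A L H ind g =
      if g ∈ {g : G | ∃ a ∈ A, ∃ u ∈ H a, ∃ x : G, x * g * x⁻¹ = a * u} then 1 else 0 := by
    intro g
    by_cases hg : g ∈ {g : G | ∃ a ∈ A, ∃ u ∈ H a, ∃ x : G, x * g * x⁻¹ = a * u}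
    · obtain ⟨a, ha, u, hu, x, hx⟩ := hg
      rw [if_pos ⟨a, ha, u, hu, x, hx⟩, CfsgLib.Char.dadeIsometry_eq hD hcf ha hu hx,
        CfsgLib.Char.valOn_mem ind (hD.subset ha)]
      exact if_pos ha
    · rw [if_neg hg, CfsgLib.Char.dadeIsometry_eq_zero fun a ha _ x u hu h => hg ⟨a, ha, u, hu, x, h⟩]
  have hreal : (Nat.card G : ℝ)⁻¹ * (∑ g : G,
      if g ∈ {g : G | ∃ a ∈ A, ∃ u ∈ H a, ∃ x : G, x * g * x⁻¹ = a * u} then ‖χ g‖ ^ 2 else 0) =
      (Nat.card L : ℝ)⁻¹ * ∑ a : L, if (a : G) ∈ A then P a else 0 := by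
    simp only [Cfsg.classInner, hV, F, Complex.conj_ofReal, ite_mul, one_mul, zero_mul, ind] at hadj
    apply Complex.ofReal_injective
    rw [Complex.ofReal_mul, Complex.ofReal_mul, Complex.ofReal_inv, Complex.ofReal_inv,
      Complex.ofReal_natCast, Complex.ofReal_natCast, Complex.ofReal_sum, Complex.ofReal_sum]
    simp only [apply_ite Complex.ofReal, Complex.ofReal_zero]
    exact hadj
  rw [finsum_mem_eq_toFinset_sum, finsum_mem_eq_toFinset_sum, Set.toFinset_setOf, Set.toFinset_setOf,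
    Finset.sum_filter, Finset.sum_filter]
  refine le_trans (le_of_le_of_eq ?_ hreal.symm) (le_of_eq ?_)
  · refine mul_le_mul_of_nonneg_left (Finset.sum_le_sum fun a _ => ?_) (by positivity)
    split_ifs with ha
    · rw [hψ a ha, finsum_mem_eq_toFinset_sum]
      set s := Set.toFinset (H (a : G) : Set G) with hs
      have hcard : (Nat.card (H a) : ℝ) = s.card := by
        rw [hs, Set.toFinset_card, ← Nat.card_eq_fintype_card]
        rfl
      show ‖_‖ ^ 2 ≤ (Nat.card (H a) : ℝ)⁻¹ * ∑ u ∈ s, ‖χ (a * u)‖ ^ 2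
      rw [norm_mul, norm_inv, Complex.norm_natCast, mul_pow, hcard, inv_pow]
      have hpos : (0 : ℝ) < s.card := by rw [← hcard]; exact_mod_cast Nat.card_pos
      have h1 : ‖∑ u ∈ s, χ (a * u)‖ ^ 2 ≤ (s.card : ℝ) * ∑ u ∈ s, ‖χ (a * u)‖ ^ 2 :=
        (pow_le_pow_left₀ (norm_nonneg _) (norm_sum_le _ _) 2).trans sq_sum_le_card_mul_sum_sq
      calc ((s.card : ℝ) ^ 2)⁻¹ * ‖∑ u ∈ s, χ (a * u)‖ ^ 2
          ≤ ((s.card : ℝ) ^ 2)⁻¹ * ((s.card : ℝ) * ∑ u ∈ s, ‖χ (a * u)‖ ^ 2) := by gcongr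
        _ = _ := by field_simp
    · exact le_rfl
  · congr 1

end Cfsg.Agent.S1525
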