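import Cfsg.Statements.S1527



set_option autoImplicit false
open Cfsg

namespace Cfsg.Agent.S1527

/-- Let G be a finite group and H i (i in a finite index type) subgroups of pairwise coprime orders, each of whose underlying sets is a TI-subset of G, such that every non-identity element of G is conjugate to an element of some H i. Then Nat.card G − 1 = Σ_i [G : N_G(H i)] · (Nat.card (H i) − 1). -/
theorem result {G : Type*} [Group G] [Finite G] {ι : Type*} [Fintype ι] (H : ι → Subgroup G) (hcop : ∀ i j, i ≠ j → Nat.Coprime (Nat.card (H i)) (Nat.card (H j))) (hTI : ∀ i, Cfsg.IsTISubset (H i : Set G)) (hcover : ∀ g : G, g ≠ 1 → ∃ i, ∃ x : G, x * g * x⁻¹ ∈ H i) : Nat.card G - 1 = ∑ i, (Subgroup.normalizer (H i : Set G)).index * (Nat.card (H i) - 1) := by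
  classical
  have := Fintype.ofFinite G
  let S : ι → Finset G := fun i => Finset.univ.filter fun g => g ≠ 1 ∧ ∃ x : G, x * g * x⁻¹ ∈ H i
  have hcard : ∀ i, (S i).card = (Subgroup.normalizer (H i : Set G)).index * (Nat.card (H i) - 1) := by
    intro i
    rw [Subgroup.index_eq_card, ← Fintype.card_subtype, ← Nat.card_eq_fintype_card]
    have hsub : Nat.card {h : H i // h ≠ 1} = Nat.card (H i) - 1 := by
      have := Fintype.ofFinite (H i)
      simp [Nat.card_eq_fintype_card, Fintype.card_subtype_compl]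
    rw [← hsub, ← Nat.card_prod]
    symm
    refine Nat.card_eq_of_bijective
      (fun p => (⟨p.1.out * ((p.2.1 : H i) : G) * p.1.out⁻¹, fun e => p.2.2 (Subtype.ext (by
        simpa using e)), p.1.out⁻¹, by simp [mul_assoc]⟩ :
          {g : G // g ≠ 1 ∧ ∃ x : G, x * g * x⁻¹ ∈ H i})) ⟨?_, ?_⟩
    · rintro ⟨q, h⟩ ⟨q', h'⟩ he
      have he' : q.out * ((h.1 : H i) : G) * q.out⁻¹ = q'.out * ((h'.1 : H i) : G) * q'.out⁻¹ :=
        congrArg Subtype.val he
      have hmem : (q'.out⁻¹ * q.out) * ((h.1 : H i) : G) * (q'.out⁻¹ * q.out)⁻¹ = ((h'.1 : H i) : G) := by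
        calc _ = q'.out⁻¹ * (q.out * ((h.1 : H i) : G) * q.out⁻¹) * q'.out := by group
          _ = _ := by rw [he']; group
      have hN : q'.out⁻¹ * q.out ∈ Subgroup.normalizer (H i : Set G) := by
        by_contra hn
        exact h.2 (Subtype.ext (hTI i _ hn _ h.1.2 (by rw [hmem]; exact h'.1.2)))
      have hq : q' = q := by
        rw [← q'.out_eq', ← q.out_eq', QuotientGroup.eq]
        exact hN
      subst hq
      exact Prod.ext rfl (Subtype.ext (Subtype.ext (mul_left_cancel (mul_right_cancel he'))))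
    · rintro ⟨g, hg1, x, hx⟩
      set q : G ⧸ Subgroup.normalizer (H i : Set G) := QuotientGroup.mk x⁻¹ with hq
      obtain ⟨n, hn⟩ := QuotientGroup.mk_out_eq_mul (Subgroup.normalizer (H i : Set G)) x⁻¹
      have hn' := Subgroup.mem_normalizer_iff.mp ((Subgroup.normalizer (H i : Set G)).inv_mem n.2)
        (x * g * x⁻¹)
      refine ⟨(q, ⟨⟨_, hn'.mp hx⟩, fun e => hg1 ?_⟩), Subtype.ext ?_⟩
      · have e' := congrArg Subtype.val e
        simp only [OneMemClass.coe_one, inv_inv] at e'
        calc g = x⁻¹ * (n : G) * ((n : G)⁻¹ * (x * g * x⁻¹) * (n : G)) * ((n : G)⁻¹ * x) := by group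
          _ = 1 := by rw [e']; group
      · show q.out * ((n : G)⁻¹ * (x * g * x⁻¹) * (n : G)⁻¹⁻¹) * q.out⁻¹ = g
        rw [show q.out = x⁻¹ * n from hn]
        group
  have hdisj : ((Finset.univ : Finset ι) : Set ι).PairwiseDisjoint S := by
    intro i _ j _ hij
    rw [Function.onFun, Finset.disjoint_left]
    intro g hgi hgj
    obtain ⟨hg1, x, hx⟩ := (Finset.mem_filter.mp hgi).2
    obtain ⟨-, y, hy⟩ := (Finset.mem_filter.mp hgj).2
    have ho : ∀ (z : G) (K : Subgroup G), z * g * z⁻¹ ∈ K → orderOf g ∣ Nat.card K := fun z K hz => by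
      rw [← orderOf_injective (MulAut.conj z).toMonoidHom (MulAut.conj z).injective g]
      show orderOf (z * g * z⁻¹) ∣ _
      rw [← Subgroup.orderOf_mk _ hz]
      exact orderOf_dvd_natCard _
    exact hg1 (orderOf_eq_one_iff.mp
      (Nat.dvd_one.mp ((hcop i j hij).gcd_eq_one ▸ Nat.dvd_gcd (ho x _ hx) (ho y _ hy))))
  rw [← Finset.sum_congr rfl fun i _ => hcard i, ← Finset.card_biUnion hdisj]
  have huniv : Finset.univ.biUnion S = Finset.univ.erase 1 := by
    ext g
    simp only [Finset.mem_biUnion, Finset.mem_univ, true_and, Finset.mem_erase, and_true, S,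
      Finset.mem_filter]
    exact ⟨fun ⟨i, h, _⟩ => h, fun h => (hcover g h).imp fun i hi => ⟨h, hi⟩⟩
  rw [huniv, Finset.card_erase_of_mem (Finset.mem_univ _), Finset.card_univ, Nat.card_eq_fintype_card]

end Cfsg.Agent.S1527
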