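import Cfsg.Statements.S1528

import Cfsg.Agent.Lib.Char.Inertia
import Cfsg.Agent.Lib.Char.Counting
import Cfsg.Agent.Lib.Char.IndMap
import Cfsg.Agent.Lib.Char.Determine

set_option autoImplicit false
open Cfsg

namespace Cfsg.Agent.S1528

/-- Let N be a normal subgroup of the finite group G such that every element of G commuting with a non-identity element of N lies in N. If χ is an irreducible character of G with χ n ≠ χ 1 for some n ∈ N, then χ is the function induced from some irreducible character of N. -/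
theorem result {G : Type*} [Group G] [Fintype G] (N : Subgroup G) [N.Normal] (hC : ∀ n ∈ N, n ≠ 1 → Subgroup.centralizer ({n} : Set G) ≤ N) (χ : G → ℂ) (hχ : Cfsg.IsIrrCharacter G χ) (hker : ∃ n ∈ N, χ n ≠ χ 1) : ∃ φ : N → ℂ, Cfsg.IsIrrCharacter N φ ∧ χ = Cfsg.indFun N φ := by
  classical
  have := Fintype.ofFinite N
  have hne : (fun n : N => χ n) ≠ 0 := fun e => CfsgLib.Char.irr_one_ne_zero ⟨χ, hχ⟩ (congrFun e 1)
  have hres : Cfsg.IsCharacter N (fun n : N => χ n) :=
    CfsgLib.Char.isCharacter_comp (CfsgLib.Char.isCharacter_of_isIrr hχ) N.subtype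
  obtain ⟨θ, hθ⟩ := CfsgLib.Char.exists_irr_inner_ne_zero hres hne
  -- the constituent is not principal
  have hθ1 : (θ : N → ℂ) ≠ fun _ => 1 := by
    intro e
    obtain ⟨n₀, hn₀, hneq⟩ := hker
    have h := CfsgLib.Char.clifford N hχ θ.2 hθ
    rw [show {ψ : N → ℂ | ∃ g : G, ψ = CfsgLib.Char.conjFun N (θ : N → ℂ) g} = {fun _ => 1} from
      Set.ext fun ψ => ⟨fun ⟨g, hg⟩ => by rw [Set.mem_singleton_iff, hg, e]; rfl,
        fun h => ⟨1, by rw [Set.mem_singleton_iff.mp h, e]; rfl⟩⟩, finsum_mem_singleton] at h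
    have h1 := congrFun h ⟨n₀, hn₀⟩
    have h2 := congrFun h 1
    simp only [Pi.smul_apply, OneMemClass.coe_one] at h1 h2
    exact hneq (h1.trans h2.symm)
  have hI : CfsgLib.Char.inertia N (θ : N → ℂ) = N := by
    refine le_antisymm (fun g hg => ?_)
      (CfsgLib.Char.le_inertia N (CfsgLib.Char.isClassFunction_irr θ))
    by_contra hgN
    let α : N ≃* N := MulEquiv.ofBijective (CfsgLib.Char.normalConjHom N g)
      ⟨fun a b e => Subtype.ext (by simpa [CfsgLib.Char.normalConjHom] using congrArg Subtype.val e),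
        CfsgLib.Char.normalConjHom_surjective N g⟩
    have hcount := CfsgLib.Char.card_fixed_classes_aut α
    have hfix : ∀ C : ConjClasses N, ConjClasses.map α.toMonoidHom C = C → C = ConjClasses.mk 1 := by
      intro C hfx
      obtain ⟨y, rfl⟩ := ConjClasses.exists_rep C
      obtain ⟨u, hu⟩ := isConj_iff.mp (ConjClasses.mk_eq_mk_iff_isConj.mp hfx)
      have e : (u : G) * (g * y * g⁻¹) * (u : G)⁻¹ = y := congrArg Subtype.val hu
      by_contra hy
      have hy1 : (y : G) ≠ 1 := fun h => hy (congrArg ConjClasses.mk (Subtype.ext h))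
      have hmem : (u : G) * g ∈ Subgroup.centralizer ({(y : G)} : Set G) :=
        Subgroup.mem_centralizer_singleton_iff.mpr (by
          conv_rhs => rw [← e]
          group)
      have := hC _ y.2 hy1 hmem
      exact hgN (by simpa using N.mul_mem (N.inv_mem u.2) this)
    have hle : Nat.card {C : ConjClasses N // ConjClasses.map α.toMonoidHom C = C} ≤ 1 :=
      Finite.card_le_one_iff_subsingleton.mpr
        ⟨fun a b => Subtype.ext ((hfix a.1 a.2).trans (hfix b.1 b.2).symm)⟩
    rw [hcount] at hle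
    have hs := Finite.card_le_one_iff_subsingleton.mp hle
    exact hθ1 (congrArg (fun z => ((z.1 : Cfsg.IrrCharacter N) : N → ℂ))
      (Subsingleton.elim (⟨θ, hg⟩ : {χ : Cfsg.IrrCharacter N // (χ : N → ℂ) ∘ α = (χ : N → ℂ)})
        ⟨⟨fun _ => 1, CfsgLib.Char.isIrrCharacter_one⟩, rfl⟩))
  obtain ⟨ψ, hψ, hχψ⟩ := CfsgLib.Char.exists_inertia_correspondent N hχ θ.2 hθ
  refine ⟨fun n => ψ ⟨n, hI.symm ▸ n.2⟩, ?_, ?_⟩
  · exact CfsgLib.Char.isIrrCharacter_comp_surjective hψ (MulEquiv.subgroupCongr hI.symm).toMonoidHom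
      (MulEquiv.subgroupCongr hI.symm).surjective
  · rw [hχψ]
    exact CfsgLib.Char.indFun_congr hI _ _ fun x hx hx' => rfl

end Cfsg.Agent.S1528
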