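import Cfsg.Statements.S1537
import Cfsg.Agent.Lib.Char.OddType.Dade
-- import your own Cfsg.Agent.* helpers here

set_option autoImplicit false
open Cfsg

namespace Cfsg.Agent.S1537

/-- Let G be a minimal simple group of odd order and M a maximal subgroup. For A equal to A₁(M), A(M) or A₀(M): the set normaliser of A is M, and the Dade hypothesis holds for A, M and the function a ↦ R(a). -/
theorem result {G : Type*} [Group G] [Finite G] (hG : Cfsg.IsMinSimpleOddOrder G) (M : Subgroup G) (hM : IsCoatom M) (A : Set G) (hA : A = Cfsg.typeA1 M ∨ A = Cfsg.typeA M ∨ A = Cfsg.typeA0 M) : Subgroup.normalizer A = M ∧ Cfsg.DadeHypothesis A M (Cfsg.supportR M) := by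
  obtain ⟨hsub, hne, hinv⟩ : A ⊆ Cfsg.typeA0 M ∧ A.Nonempty ∧
      ∀ m ∈ M, ∀ a ∈ A, m * a * m⁻¹ ∈ A := by
    obtain ⟨K, U, d⟩ := CfsgLib.CFun.Chain.exists_decomposition hG hM
    obtain ⟨x, hx⟩ := CfsgLib.Char.OddType.typeA1_nonempty hG hM
    rcases hA with rfl | rfl | rfl
    · exact ⟨CfsgLib.Char.OddType.typeA1_subset_typeA0 hG hM, ⟨x, hx⟩, fun m hm a ha => CfsgLib.Char.OddType.conj_mem_typeA1 hm ha⟩
    · exact ⟨fun a ha => Or.inl ha, ⟨x, CfsgLib.Char.OddType.typeA1_subset hG hM d hx⟩,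
        fun m hm a ha => CfsgLib.Char.OddType.conj_mem_typeA hm ha⟩
    · exact ⟨subset_rfl, ⟨x, Or.inl (CfsgLib.Char.OddType.typeA1_subset hG hM d hx)⟩,
        fun m hm a ha => CfsgLib.Char.OddType.conj_mem_typeA0 hm ha⟩
  exact ⟨CfsgLib.Char.OddType.normalizer_eq hG hM hsub hne hinv,
    CfsgLib.Char.OddType.dadeHypothesis hG hM hsub hinv⟩

end Cfsg.Agent.S1537
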