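import Cfsg.Statements.S1538
import Cfsg.Agent.Lib.Char.OddType.Dade
-- import your own Cfsg.Agent.* helpers here

set_option autoImplicit false
open Cfsg

namespace Cfsg.Agent.S1538

/-- Let G be a minimal simple group of odd order and M a maximal subgroup of Type II. Then each of A₀(M), A(M), A₁(M) is a TI-subset of G whose set normaliser is M. -/
theorem result {G : Type*} [Group G] [Finite G] (hG : Cfsg.IsMinSimpleOddOrder G) (M : Subgroup G) (hM : IsCoatom M) (hII : Cfsg.IsOfTypeII M) : (Cfsg.IsTISubset (Cfsg.typeA0 M) ∧ Subgroup.normalizer (Cfsg.typeA0 M) = M) ∧ (Cfsg.IsTISubset (Cfsg.typeA M) ∧ Subgroup.normalizer (Cfsg.typeA M) = M) ∧ (Cfsg.IsTISubset (Cfsg.typeA1 M) ∧ Subgroup.normalizer (Cfsg.typeA1 M) = M) := by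
  obtain ⟨K, U, d⟩ := CfsgLib.CFun.Chain.exists_decomposition hG hM
  obtain ⟨x, hx⟩ := CfsgLib.Char.OddType.typeA1_nonempty hG hM
  have h1 := CfsgLib.Char.OddType.typeA1_subset_typeA0 hG hM
  have h2 : Cfsg.typeA M ⊆ Cfsg.typeA0 M := fun a ha => Or.inl ha
  have i0 := fun m (hm : m ∈ M) a (ha : a ∈ Cfsg.typeA0 M) =>
    CfsgLib.Char.OddType.conj_mem_typeA0 hm ha
  have i2 := fun m (hm : m ∈ M) a (ha : a ∈ Cfsg.typeA M) =>
    CfsgLib.Char.OddType.conj_mem_typeA hm ha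
  have i1 := fun m (hm : m ∈ M) a (ha : a ∈ Cfsg.typeA1 M) =>
    CfsgLib.Char.OddType.conj_mem_typeA1 hm ha
  have hxA := CfsgLib.Char.OddType.typeA1_subset hG hM d hx
  exact ⟨⟨CfsgLib.Char.OddType.ti_of_typeII hG hM hII subset_rfl i0,
      CfsgLib.Char.OddType.normalizer_eq hG hM subset_rfl ⟨x, h1 hx⟩ i0⟩,
    ⟨CfsgLib.Char.OddType.ti_of_typeII hG hM hII h2 i2,
      CfsgLib.Char.OddType.normalizer_eq hG hM h2 ⟨x, hxA⟩ i2⟩,
    CfsgLib.Char.OddType.ti_of_typeII hG hM hII h1 i1,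
      CfsgLib.Char.OddType.normalizer_eq hG hM h1 ⟨x, hx⟩ i1⟩

end Cfsg.Agent.S1538
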