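import Cfsg.Statements.S1546



set_option autoImplicit false
open Cfsg

namespace Cfsg.Agent.S1546

/-- Let p and q be odd primes and N = (p ^ q − 1) / (p − 1) = 1 + p + ⋯ + p^(q−1). Then N is odd; if p ≡ 1 (mod q) then q ∣ N; and if p is not ≡ 1 (mod q) then N is coprime to p − 1 and every divisor of N is ≡ 1 (mod q). -/
theorem result (p q : ℕ) (hp : p.Prime) (hq : q.Prime) (hp2 : p ≠ 2) (hq2 : q ≠ 2) : Odd ((p ^ q - 1) / (p - 1)) ∧ (p % q = 1 → q ∣ (p ^ q - 1) / (p - 1)) ∧ (p % q ≠ 1 → Nat.Coprime ((p ^ q - 1) / (p - 1)) (p - 1) ∧ ∀ x : ℕ, x ∣ (p ^ q - 1) / (p - 1) → x % q = 1) := by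
  obtain ⟨hp1, hq1⟩ := And.intro hp.two_le hq.two_le
  set n := (p ^ q - 1) / (p - 1) with hn
  have hgeom : n = ∑ i ∈ Finset.range q, p ^ i := (Nat.geomSum_eq hp1 q).symm
  have hmodp : ∀ r : ℕ, p ≡ 1 [MOD r] → n ≡ q [MOD r] := by
    intro r h
    rw [hgeom]
    refine (ZMod.natCast_eq_natCast_iff _ _ _).mp ?_
    have h' : (p : ZMod r) = 1 := by simpa using (ZMod.natCast_eq_natCast_iff _ _ _).mpr h
    push_cast
    rw [h']
    simp
  refine ⟨?_, fun h => ?_, fun h => ⟨?_, ?_⟩⟩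
  · have hodd : Odd p := hp.odd_of_ne_two hp2
    have hqo : Odd q := hq.odd_of_ne_two hq2
    rw [Nat.odd_iff] at hodd hqo ⊢
    have := hmodp 2 (show p % 2 = 1 % 2 by rw [hodd])
    rw [Nat.ModEq] at this
    omega
  · have := hmodp q (show p % q = 1 % q by rw [h, Nat.mod_eq_of_lt hq.one_lt])
    exact Nat.dvd_of_mod_eq_zero (Eq.trans this (Nat.mod_self q))
  · have hmod : p ≡ 1 [MOD p - 1] := ((Nat.modEq_iff_dvd' (by omega)).mpr dvd_rfl).symm
    rw [Nat.Coprime, Nat.ModEq.gcd_eq (hmodp _ hmod)]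
    refine (hq.coprime_iff_not_dvd).mpr fun hd => h ?_
    have : p ≡ 1 [MOD q] := ((Nat.modEq_iff_dvd' (by omega)).mpr hd).symm
    rw [Nat.ModEq, Nat.mod_eq_of_lt hq.one_lt] at this
    exact this
  · have hprime : ∀ r : ℕ, r.Prime → r ∣ n → r ≡ 1 [MOD q] := by
      intro r hr hrn
      have : Fact r.Prime := ⟨hr⟩
      have : Fact q.Prime := ⟨hq⟩
      have hpq : (p : ZMod r) ^ q = 1 := by
        have h1 : p - 1 ∣ p ^ q - 1 := by simpa using Nat.sub_dvd_pow_sub_pow p 1 q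
        have h2 : r ∣ p ^ q - 1 := by
          rw [← Nat.mul_div_cancel' h1]
          exact Dvd.dvd.mul_left hrn _
        have h3 : (1 : ℕ) ≡ p ^ q [MOD r] := (Nat.modEq_iff_dvd' (Nat.one_le_pow _ _ (by omega))).mpr h2
        have h4 := (ZMod.natCast_eq_natCast_iff _ _ _).mpr h3
        push_cast at h4
        exact h4.symm
      have hne : (p : ZMod r) ≠ 1 := by
        intro he
        have he' : p ≡ 1 [MOD r] := (ZMod.natCast_eq_natCast_iff _ _ _).mp (by simpa using he)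
        have hrq : r ∣ q := Nat.modEq_zero_iff_dvd.mp ((hmodp r he').symm.trans (Nat.modEq_zero_iff_dvd.mpr hrn))
        rw [(Nat.prime_dvd_prime_iff_eq hr hq).mp hrq, Nat.ModEq, Nat.mod_eq_of_lt hq.one_lt] at he'
        exact h he'
      have hord : orderOf (p : ZMod r) = q :=
        orderOf_eq_prime hpq hne
      have hp0 : (p : ZMod r) ≠ 0 := fun e => by
        rw [e, zero_pow hq.ne_zero] at hpq
        exact zero_ne_one hpq
      have := ZMod.orderOf_dvd_card_sub_one hp0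
      rw [hord] at this
      exact ((Nat.modEq_iff_dvd' hr.one_lt.le).mpr this).symm
    intro x hx
    induction x using Nat.recOnMul with
    | zero =>
      exfalso
      rw [zero_dvd_iff, hgeom, Finset.sum_eq_zero_iff] at hx
      exact absurd (hx 0 (Finset.mem_range.mpr hq.pos)) (by simp)
    | one => exact Nat.mod_eq_of_lt hq.one_lt
    | prime r hr =>
      have := hprime r hr hx
      rwa [Nat.ModEq, Nat.mod_eq_of_lt hq.one_lt] at this
    | mul a b ha hb =>
      rw [Nat.mul_mod, ha (dvd_trans (dvd_mul_right a b) hx), hb (dvd_trans (dvd_mul_left b a) hx), one_mul,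
        Nat.mod_eq_of_lt hq.one_lt]

end Cfsg.Agent.S1546
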