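import Cfsg.Statements.S1573
import Cfsg.Agent.Lib.Spor.Leech.Census

set_option autoImplicit false
open Cfsg

namespace Cfsg.Agent.S1573

/-- Census of minimal vectors by inner product with a fixed minimal vector: 4600 have customary inner product −2, 47104 have −1, and 93150 are orthogonal. -/
theorem result (v : Cfsg.GolayPt → ℤ) (hv : v ∈ Cfsg.leechLattice) (hvn : Cfsg.sqNorm v = 32) : {w : Cfsg.GolayPt → ℤ | w ∈ Cfsg.leechLattice ∧ Cfsg.sqNorm w = 32 ∧ Cfsg.dotInt v w = -16}.ncard = 4600 ∧ {w : Cfsg.GolayPt → ℤ | w ∈ Cfsg.leechLattice ∧ Cfsg.sqNorm w = 32 ∧ Cfsg.dotInt v w = -8}.ncard = 47104 ∧ {w : Cfsg.GolayPt → ℤ | w ∈ Cfsg.leechLattice ∧ Cfsg.sqNorm w = 32 ∧ Cfsg.dotInt v w = 0}.ncard = 93150 := by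
  obtain ⟨h1, h2, h3⟩ := CfsgLib.Spor.Leech.census (v := ⟨v, hv⟩) hvn
  have key : ∀ n : ℤ, {w : Cfsg.GolayPt → ℤ | w ∈ Cfsg.leechLattice ∧ Cfsg.sqNorm w = 32 ∧ Cfsg.dotInt v w = n} =
      Subtype.val '' CfsgLib.Spor.Leech.dotSet ⟨v, hv⟩ n := fun n => Set.ext fun w =>
    ⟨fun ⟨a, b, c⟩ => ⟨⟨w, a⟩, ⟨b, c⟩, rfl⟩, fun ⟨x, ⟨b, c⟩, e⟩ => e ▸ ⟨x.2, b, c⟩⟩
  refine ⟨?_, ?_, ?_⟩ <;> rw [key, Set.ncard_image_of_injective _ Subtype.val_injective] <;> assumption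

end Cfsg.Agent.S1573
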