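import Cfsg.Statements.S1581
import Cfsg.Agent.Lib.Spor.Leech.Census.McLConfig
import Cfsg.Agent.Lib.Spor.Leech.Census.Sets

set_option autoImplicit false
open Cfsg

namespace Cfsg.Agent.S1581

/-- The McLaughlin group acts with rank 3 and subdegrees 1, 112, 162 on its 275 points: the point stabiliser has two orbits on the remaining points, distinguished by customary inner product 1 or 2 with the fixed point. -/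
theorem result (u v x : ↥Cfsg.leechLattice) (hu : Cfsg.sqNorm (u : Cfsg.GolayPt → ℤ) = 48) (hv : Cfsg.sqNorm (v : Cfsg.GolayPt → ℤ) = 32 ∧ Cfsg.sqNorm ((u - v) : Cfsg.GolayPt → ℤ) = 32) (hx : x ∈ {x : ↥Cfsg.leechLattice | Cfsg.sqNorm (x : Cfsg.GolayPt → ℤ) = 32 ∧ Cfsg.sqNorm ((u - x) : Cfsg.GolayPt → ℤ) = 32 ∧ Cfsg.dotInt (v : Cfsg.GolayPt → ℤ) (x : Cfsg.GolayPt → ℤ) = 16}) : {y : ↥Cfsg.leechLattice | y ∈ {x : ↥Cfsg.leechLattice | Cfsg.sqNorm (x : Cfsg.GolayPt → ℤ) = 32 ∧ Cfsg.sqNorm ((u - x) : Cfsg.GolayPt → ℤ) = 32 ∧ Cfsg.dotInt (v : Cfsg.GolayPt → ℤ) (x : Cfsg.GolayPt → ℤ) = 16} ∧ Cfsg.dotInt (x : Cfsg.GolayPt → ℤ) (y : Cfsg.GolayPt → ℤ) = 8}.ncard = 112 ∧ {y : ↥Cfsg.leechLattice | y ∈ {x : ↥Cfsg.leechLattice | Cfsg.sqNorm (x : Cfsg.GolayPt → ℤ) = 32 ∧ Cfsg.sqNorm ((u - x) : Cfsg.GolayPt → ℤ) = 32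 ∧ Cfsg.dotInt (v : Cfsg.GolayPt → ℤ) (x : Cfsg.GolayPt → ℤ) = 16} ∧ y ≠ x ∧ Cfsg.dotInt (x : Cfsg.GolayPt → ℤ) (y : Cfsg.GolayPt → ℤ) = 16}.ncard = 162 ∧ ∀ y ∈ {x : ↥Cfsg.leechLattice | Cfsg.sqNorm (x : Cfsg.GolayPt → ℤ) = 32 ∧ Cfsg.sqNorm ((u - x) : Cfsg.GolayPt → ℤ) = 32 ∧ Cfsg.dotInt (v : Cfsg.GolayPt → ℤ) (x : Cfsg.GolayPt → ℤ) = 16}, ∀ y' ∈ {x : ↥Cfsg.leechLattice | Cfsg.sqNorm (x : Cfsg.GolayPt → ℤ) = 32 ∧ Cfsg.sqNorm ((u - x) : Cfsg.GolayPt → ℤ) = 32 ∧ Cfsg.dotInt (v : Cfsg.GolayPt → ℤ) (x : Cfsg.GolayPt → ℤ) = 16}, y ≠ x → y' ≠ x → Cfsg.dotInt (x : Cfsg.GolayPt → ℤ) (y : Cfsg.GolayPt → ℤ) = Cfsg.dotInt (x : Cfsg.GolayPt → ℤ) (y' : Cfsg.GolayPt → ℤ) → ∃ g : ↥Cfsg.Co0, g • u = u ∧ g • v = v ∧ g • x = x ∧ g • y = y' := by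
  have e := CfsgLib.Spor.Leech.Census32.pickL_decomp (v := v) hu 16
  rw [← e] at hx ⊢
  obtain ⟨c8, c16, hcase, htr⟩ := CfsgLib.Spor.Leech.Census32.mcl_slices hu hv hx
  refine ⟨?_, ?_, fun y hy y' hy' hne hne' heq => ?_⟩
  · refine Eq.trans (congrArg Set.ncard (Set.ext fun y => ?_)) c8
    exact CfsgLib.Spor.Leech.Census32.mem_snoc.symm
  · refine Eq.trans (congrArg Set.ncard (Set.ext fun y => ?_)) c16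
    rw [CfsgLib.Spor.Leech.Census32.mem_snoc]
    refine ⟨fun h => ⟨h.1, h.2.2⟩, fun h => ⟨h.1, ?_, h.2⟩⟩
    rintro rfl
    have := CfsgLib.Spor.Leech.Census32.self_dot h.1.1
    omega
  · rcases hcase y hy hne with h | h
    · exact htr 8 (Or.inl rfl) y (CfsgLib.Spor.Leech.Census32.mem_snoc.2 ⟨hy, h⟩) y' (CfsgLib.Spor.Leech.Census32.mem_snoc.2 ⟨hy', heq.symm.trans h⟩)
    · exact htr 16 (Or.inr rfl) y (CfsgLib.Spor.Leech.Census32.mem_snoc.2 ⟨hy, h⟩) y' (CfsgLib.Spor.Leech.Census32.mem_snoc.2 ⟨hy', heq.symm.trans h⟩)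

end Cfsg.Agent.S1581
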