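import Cfsg.Statements.S1584
import Cfsg.Agent.Lib.Spor.Leech.Census.HSConfig
import Cfsg.Agent.Lib.Spor.Leech.Census.Sets

set_option autoImplicit false
open Cfsg

namespace Cfsg.Agent.S1584

/-- The Higman–Sims group acts with rank 3 and subdegrees 1, 22, 77 on its 100 points, the orbits of a point stabiliser being distinguished by customary inner product 1 with the fixed point. -/
theorem result (v w x : ↥Cfsg.leechLattice) (hv : Cfsg.sqNorm (v : Cfsg.GolayPt → ℤ) = 48) (hw : Cfsg.sqNorm (w : Cfsg.GolayPt → ℤ) = 48) (hvw : Cfsg.dotInt (v : Cfsg.GolayPt → ℤ) (w : Cfsg.GolayPt → ℤ) = -32) (hx : x ∈ {x : ↥Cfsg.leechLattice | Cfsg.sqNorm (x : Cfsg.GolayPt → ℤ) = 32 ∧ Cfsg.dotInt (v : Cfsg.GolayPt → ℤ) (x : Cfsg.GolayPt → ℤ) = 24 ∧ Cfsg.dotInt (w : Cfsg.GolayPt → ℤ) (x : Cfsg.GolayPt → ℤ) = -24}) : {y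 : ↥Cfsg.leechLattice | y ∈ {x : ↥Cfsg.leechLattice | Cfsg.sqNorm (x : Cfsg.GolayPt → ℤ) = 32 ∧ Cfsg.dotInt (v : Cfsg.GolayPt → ℤ) (x : Cfsg.GolayPt → ℤ) = 24 ∧ Cfsg.dotInt (w : Cfsg.GolayPt → ℤ) (x : Cfsg.GolayPt → ℤ) = -24} ∧ Cfsg.dotInt (x : Cfsg.GolayPt → ℤ) (y : Cfsg.GolayPt → ℤ) = 8}.ncard = 22 ∧ {y : ↥Cfsg.leechLattice | y ∈ {x : ↥Cfsg.leechLattice | Cfsg.sqNorm (x : Cfsg.GolayPt → ℤ) = 32 ∧ Cfsg.dotInt (v : Cfsg.GolayPt → ℤ) (x : Cfsg.GolayPt → ℤ) = 24 ∧ Cfsg.dotInt (w : Cfsg.GolayPt → ℤ) (x : Cfsg.GolayPt → ℤ) = -24} ∧ y ≠ x ∧ Cfsg.dotInt (x : Cfsg.GolayPt → ℤ) (y : Cfsg.GolayPt → ℤ) ≠ 8}.ncard = 77 ∧ ∀ y ∈ {x : ↥Cfsg.leechLattice | Cfsg.sqNorm (x : Cfsg.GolayPt → ℤ) = 32 ∧ Cfsg.dotInt (v : Cfsg.GolayPt → ℤ) (x : Cfsg.GolayPt → ℤ) = 24 ∧ Cfsg.dotInt (w : Cfsg.GolayPt → ℤ) (x : Cfsg.GolayPt →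 ℤ) = -24}, ∀ y' ∈ {x : ↥Cfsg.leechLattice | Cfsg.sqNorm (x : Cfsg.GolayPt → ℤ) = 32 ∧ Cfsg.dotInt (v : Cfsg.GolayPt → ℤ) (x : Cfsg.GolayPt → ℤ) = 24 ∧ Cfsg.dotInt (w : Cfsg.GolayPt → ℤ) (x : Cfsg.GolayPt → ℤ) = -24}, y ≠ x → y' ≠ x → (Cfsg.dotInt (x : Cfsg.GolayPt → ℤ) (y : Cfsg.GolayPt → ℤ) = 8 ↔ Cfsg.dotInt (x : Cfsg.GolayPt → ℤ) (y' : Cfsg.GolayPt → ℤ) = 8) → ∃ g : ↥Cfsg.Co0, g • v = v ∧ g • w = w ∧ g • x = x ∧ g • y = y' := by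
  have e := CfsgLib.Spor.Leech.Census32.pickL_two v w 24 (-24)
  rw [← e] at hx ⊢
  obtain ⟨c8, c16, hcase, htr⟩ := CfsgLib.Spor.Leech.Census32.hundred_slice hv hw hvw hx
  have h16 : ∀ y, y ∈ CfsgLib.Spor.Leech.Census32.pickL [(v, (24 : ℤ)), (w, -24)] →
      ((y ≠ x ∧ Cfsg.dotInt (x : Cfsg.GolayPt → ℤ) (y : Cfsg.GolayPt → ℤ) ≠ 8) ↔
        Cfsg.dotInt (x : Cfsg.GolayPt → ℤ) (y : Cfsg.GolayPt → ℤ) = 16) := fun y hy => by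
    constructor
    · rintro ⟨a, b⟩; exact (hcase y hy a).resolve_left b
    · intro h
      refine ⟨?_, by omega⟩
      rintro rfl
      rw [CfsgLib.Spor.Leech.Census32.self_dot hy.1] at h
      omega
  refine ⟨?_, ?_, fun y hy y' hy' hne hne' hiff => ?_⟩
  · refine Eq.trans (congrArg Set.ncard (Set.ext fun y => ?_)) c8
    exact CfsgLib.Spor.Leech.Census32.mem_snoc.symm
  · refine Eq.trans (congrArg Set.ncard (Set.ext fun y => ?_)) c16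
    rw [CfsgLib.Spor.Leech.Census32.mem_snoc]
    exact ⟨fun h => ⟨h.1, (h16 y h.1).1 h.2⟩, fun h => ⟨h.1, (h16 y h.1).2 h.2⟩⟩
  · rcases hcase y hy hne with h | h
    · exact htr 8 (Or.inl rfl) y (CfsgLib.Spor.Leech.Census32.mem_snoc.2 ⟨hy, h⟩) y' (CfsgLib.Spor.Leech.Census32.mem_snoc.2 ⟨hy', hiff.1 h⟩)
    · have h' := (hcase y' hy' hne').resolve_left fun h' => by have := hiff.2 h'; omega
      exact htr 16 (Or.inr rfl) y (CfsgLib.Spor.Leech.Census32.mem_snoc.2 ⟨hy, h⟩) y' (CfsgLib.Spor.Leech.Census32.mem_snoc.2 ⟨hy', h'⟩)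

end Cfsg.Agent.S1584
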