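import Cfsg.Statements.S1587


set_option autoImplicit false
open Matrix
open Cfsg

namespace Cfsg.Agent.S1587

/-- First step of the characterisation of the rank-24 lattice: in an even lattice without roots, norm-8 vectors congruent modulo 2 are equal, opposite or orthogonal. -/
theorem result (B : Matrix (Fin 24) (Fin 24) ℤ) (hsymm : B.IsSymm) (hpos : ∀ x : Fin 24 → ℤ, x ≠ 0 → 0 < x ⬝ᵥ (B *ᵥ x)) (heven : ∀ x : Fin 24 → ℤ, (2 : ℤ) ∣ x ⬝ᵥ (B *ᵥ x)) (h2 : ∀ x : Fin 24 → ℤ, x ⬝ᵥ (B *ᵥ x) ≠ 2) (x y : Fin 24 → ℤ) (hx : x ⬝ᵥ (B *ᵥ x) = 8) (hy : y ⬝ᵥ (B *ᵥ y) = 8) (hc : ∀ i, (2 : ℤ) ∣ (x - y) i) : y = x ∨ y = -x ∨ x ⬝ᵥ (B *ᵥ y) = 0 := by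
  obtain ⟨z, hz⟩ : ∃ z : Fin 24 → ℤ, x - y = (2 : ℤ) • z :=
    ⟨fun i => (x - y) i / 2, funext fun i => (Int.mul_ediv_cancel' (hc i)).symm⟩
  set Q : (Fin 24 → ℤ) → ℤ := fun v => v ⬝ᵥ (B *ᵥ v) with hQ
  have hsym : y ⬝ᵥ (B *ᵥ x) = x ⬝ᵥ (B *ᵥ y) := by
    rw [Matrix.dotProduct_mulVec, dotProduct_comm, ← Matrix.mulVec_transpose, hsymm.eq]
  have hzero : ∀ v, v ≠ 0 → 4 ≤ Q v := fun v hv => by
    have := hpos v hv
    have := heven v
    have := h2 v
    simp only [hQ]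
    omega
  have e1 : 4 * Q z = 16 - 2 * (x ⬝ᵥ (B *ᵥ y)) := by
    have : Q (x - y) = 4 * Q z := by
      rw [hz]
      simp only [hQ, Matrix.mulVec_smul, dotProduct_smul, smul_dotProduct, smul_eq_mul]
      ring
    rw [← this]
    simp only [hQ, Matrix.mulVec_sub, dotProduct_sub, sub_dotProduct, hx, hy, hsym]
    ring
  have e2 : 4 * Q (x - z) = 16 + 2 * (x ⬝ᵥ (B *ᵥ y)) := by
    have hxy : x + y = (2 : ℤ) • (x - z) := by
      rw [smul_sub, ← hz, two_smul]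
      abel
    have : Q (x + y) = 4 * Q (x - z) := by
      rw [hxy]
      simp only [hQ, Matrix.mulVec_smul, dotProduct_smul, smul_dotProduct, smul_eq_mul]
      ring
    rw [← this]
    simp only [hQ, Matrix.mulVec_add, dotProduct_add, add_dotProduct, hx, hy, hsym]
    ring
  by_cases h0 : z = 0
  · left
    rw [h0, smul_zero, sub_eq_zero] at hz
    exact hz.symm
  by_cases h1 : x - z = 0
  · right; left
    rw [sub_eq_zero] at h1
    rw [← h1, two_smul] at hz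
    funext i
    have := congrFun hz i
    simp only [Pi.sub_apply, Pi.add_apply] at this
    simp only [Pi.neg_apply]
    omega
  · right; right
    have := hzero z h0
    have := hzero (x - z) h1
    omega

end Cfsg.Agent.S1587
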