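import Cfsg.Statements.S1595
import Cfsg.Agent.Lib.Spor.SteinerMeets

set_option autoImplicit false
open Cfsg

namespace Cfsg.Agent.S1595

/-- Leech triangle of S(5, 6, 12): blocks meet in 0, 2, 3 or 4 points, and a block is met exactly in a given 2-, 3- or 4-subset by 3, 2, 3 blocks respectively. -/
theorem result {α : Type*} [Fintype α] [DecidableEq α] (hα : Fintype.card α = 12) {B : Set (Finset α)} (hB : Cfsg.IsSteinerSystem 5 6 B) (b : Finset α) (hb : b ∈ B) : (∀ c ∈ B, c ≠ b → (b ∩ c).card = 0 ∨ (b ∩ c).card = 2 ∨ (b ∩ c).card = 3 ∨ (b ∩ c).card = 4) ∧ ∀ s ⊆ b, (s.card = 2 → {c : Finset α | c ∈ B ∧ b ∩ c = s}.ncard = 3) ∧ (s.card = 3 → {c : Finset α | c ∈ B ∧ b ∩ c = s}.ncard = 2) ∧ (s.card = 4 → {c : Finset α | c ∈ B ∧ b ∩ c = s}.ncard = 3) := by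
    classical
    have hk : ∀ x ∈ B.toFinset, x.card = 6 := fun x hx => hB.1 x (Set.mem_toFinset.1 hx)
    have hu : ∀ F : Finset α, F.card = 5 → ∃! x, x ∈ B.toFinset ∧ F ⊆ x := fun F hF => by
      simpa only [Set.mem_toFinset] using hB.2 F hF
    refine ⟨fun c hc hne => ?_, fun s hs => ?_⟩
    · obtain ⟨-, h1, -⟩ := CfsgLib.Spor.Steiner.meet_twelve hα hk hu (Set.mem_toFinset.2 hb)
      have e1 := CfsgLib.Spor.Steiner.meetNum_eq_zero h1 (Set.mem_toFinset.2 hc) hne
      have hlt := CfsgLib.Spor.Steiner.meet_lt hk hu (Set.mem_toFinset.2 hb) (Set.mem_toFinset.2 hc) hne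
      rw [Finset.inter_comm]
      omega
    · have h := CfsgLib.Spor.Steiner.exact_trace hα hk hu (Set.mem_toFinset.2 hb) s hs
      have e : s.card ≤ 4 → {c : Finset α | c ∈ B ∧ b ∩ c = s}.ncard =
          ((B.toFinset.erase b).filter fun c => c ∩ b = s).card := by
        intro h4
        rw [← Set.ncard_coe_finset]
        congr 1
        ext c
        simp only [Finset.coe_filter, Finset.mem_erase, Set.mem_toFinset]
        constructor
        · rintro ⟨hc, hcs⟩
          refine ⟨⟨?_, hc⟩, by rw [Finset.inter_comm, hcs]⟩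
          rintro rfl
          rw [Finset.inter_self] at hcs
          have := hB.1 c hc
          rw [hcs] at this
          omega
        · rintro ⟨⟨-, hc⟩, hcs⟩
          exact ⟨hc, by rw [Finset.inter_comm, hcs]⟩
      exact ⟨fun h2 => (e (by omega)).trans (h.1 h2), fun h3 => (e (by omega)).trans (h.2.1 h3),
        fun h4 => (e (by omega)).trans (h.2.2 h4)⟩

end Cfsg.Agent.S1595
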