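import Cfsg.Statements.S1598
import Cfsg.Agent.Lib.Spor.QuartetStab

set_option autoImplicit false
open scoped Pointwise
open Cfsg

namespace Cfsg.Agent.S1598

/-- A quartet stabiliser inside the dodecad stabiliser has order 432, a normal subgroup of order 9 with quotient GL(2, 3), and is transitive on the dodecad. -/
theorem result (d : Finset Cfsg.GolayPt) (hd : d ∈ Cfsg.dodecads) (Q : Finset (Finset Cfsg.GolayPt)) (hQ : Q ∈ Cfsg.quartets d) : Nat.card ↥(MulAction.stabilizer Cfsg.M24 d ⊓ MulAction.stabilizer Cfsg.M24 Q) = 432 ∧ (∃ (N : Subgroup ↥(MulAction.stabilizer Cfsg.M24 d ⊓ MulAction.stabilizer Cfsg.M24 Q)) (_ : N.Normal), Nat.card N = 9 ∧ Nonempty (↥(MulAction.stabilizer Cfsg.M24 d ⊓ MulAction.stabilizer Cfsg.M24 Q) ⧸ N ≃* GL (Fin 2) (ZMod 3))) ∧ ∀ p ∈ d, ∀ q ∈ d, ∃ g ∈ (MulAction.stabilizer Cfsg.M24 d ⊓ MulAction.stabilizer Cfsg.M24 Q), ((g : ↥Cfsg.M24) : Equiv.Perm Cfsg.GolayPt) p =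 q := by
  classical
  obtain ⟨g, hg, hgd, hgQ⟩ := CfsgLib.Spor.QuartetStab.exists_frame hd hQ
  let e := CfsgLib.Spor.QuartetStab.toSt hg hgd hgQ
  refine ⟨(Nat.card_congr e.toEquiv).symm.trans CfsgLib.Spor.QuartetStab.card_H₀, ?_, fun p hp q hq => ?_⟩
  · obtain ⟨N, hN, h9, ⟨f⟩⟩ := CfsgLib.Spor.QuartetStab.exists_quotient
    haveI := hN
    haveI hN' : (N.map e.toMonoidHom).Normal := hN.map _ e.surjective
    refine ⟨N.map e.toMonoidHom, hN', (Subgroup.card_map_of_injective e.injective).trans h9, ⟨?_⟩⟩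
    exact (QuotientGroup.congr N (N.map e.toMonoidHom) e rfl).symm.trans f
  · rw [← hgd, ← Finset.inv_smul_mem_iff] at hp hq
    obtain ⟨h, hh, hpq⟩ := CfsgLib.Spor.QuartetStab.transitive hp hq
    refine ⟨_, (e ⟨h, hh⟩).2, ?_⟩
    show g (h (g⁻¹ p)) = q
    rw [show h (g⁻¹ p) = g⁻¹ q from hpq, Equiv.Perm.inv_def, Equiv.apply_symm_apply]

end Cfsg.Agent.S1598
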