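import Cfsg.Statements.S1599
import Cfsg.Agent.Lib.Spor.QuartetStab

set_option autoImplicit false
open scoped Pointwise
open Cfsg

namespace Cfsg.Agent.S1599

/-- A quartet stabiliser has five orbits on the quartets of its dodecad, of sizes 1, 12, 27, 72, 108. -/
theorem result (d : Finset Cfsg.GolayPt) (hd : d ∈ Cfsg.dodecads) (Q : Finset (Finset Cfsg.GolayPt)) (hQ : Q ∈ Cfsg.quartets d) : ∃ X₁ ∈ Cfsg.quartets d, ∃ X₂ ∈ Cfsg.quartets d, ∃ X₃ ∈ Cfsg.quartets d, ∃ X₄ ∈ Cfsg.quartets d, (MulAction.orbit ↥(MulAction.stabilizer Cfsg.M24 d ⊓ MulAction.stabilizer Cfsg.M24 Q) X₁).ncard = 12 ∧ (MulAction.orbit ↥(MulAction.stabilizer Cfsg.M24 d ⊓ MulAction.stabilizer Cfsg.M24 Q) X₂).ncard = 27 ∧ (MulAction.orbit ↥(MulAction.stabilizer Cfsg.M24 d ⊓ MulAction.stabilizer Cfsg.M24 Q) X₃).ncard = 72 ∧ (MulAction.orbit ↥(MulAction.stabilizer Cfsg.M24 d ⊓ MulAction.stabilizer Cfsg.M24 Q)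 X₄).ncard = 108 ∧ Cfsg.quartets d = {Q} ∪ MulAction.orbit ↥(MulAction.stabilizer Cfsg.M24 d ⊓ MulAction.stabilizer Cfsg.M24 Q) X₁ ∪ MulAction.orbit ↥(MulAction.stabilizer Cfsg.M24 d ⊓ MulAction.stabilizer Cfsg.M24 Q) X₂ ∪ MulAction.orbit ↥(MulAction.stabilizer Cfsg.M24 d ⊓ MulAction.stabilizer Cfsg.M24 Q) X₃ ∪ MulAction.orbit ↥(MulAction.stabilizer Cfsg.M24 d ⊓ MulAction.stabilizer Cfsg.M24 Q) X₄ := by
  classical
  obtain ⟨g, hg, hgd, hgQ⟩ := CfsgLib.Spor.QuartetStab.exists_frame hd hQ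
  obtain ⟨X₁, h1, X₂, h2, X₃, h3, X₄, h4, c1, c2, c3, c4, hall⟩ := CfsgLib.Spor.QuartetStab.model_orbits
  have ho := fun X => CfsgLib.Spor.QuartetStab.orbit_toSt hg hgd hgQ X
  have hc : ∀ X, (MulAction.orbit ↥(MulAction.stabilizer Cfsg.M24 d ⊓ MulAction.stabilizer Cfsg.M24 Q) (g • X)).ncard
      = (MulAction.orbit CfsgLib.Spor.QuartetStab.H₀ X).ncard := fun X => by
    rw [ho, Set.ncard_image_of_injective _ (MulAction.injective g)]
  refine ⟨g • X₁, CfsgLib.Spor.smul_mem_quartets hg hgd h1, g • X₂, CfsgLib.Spor.smul_mem_quartets hg hgd h2,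
    g • X₃, CfsgLib.Spor.smul_mem_quartets hg hgd h3, g • X₄, CfsgLib.Spor.smul_mem_quartets hg hgd h4,
    (hc _).trans c1, (hc _).trans c2, (hc _).trans c3, (hc _).trans c4, ?_⟩
  have himg : Cfsg.quartets d = (fun Y => g • Y) '' Cfsg.quartets (CfsgLib.Spor.pts CfsgLib.Spor.baseDodecad) := by
    ext Y
    refine ⟨fun hY => ⟨g⁻¹ • Y, CfsgLib.Spor.smul_mem_quartets (Cfsg.M24.inv_mem hg)
      (by rw [← hgd, inv_smul_smul]) hY, smul_inv_smul g Y⟩, ?_⟩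
    rintro ⟨X, hX, rfl⟩
    exact CfsgLib.Spor.smul_mem_quartets hg hgd hX
  rw [himg, hall, ho, ho, ho, ho]
  simp only [Set.image_union, Set.image_singleton, hgQ]

end Cfsg.Agent.S1599
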