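import Cfsg.Statements.S1601
import Cfsg.Agent.Lib.Spor.M11Outer

set_option autoImplicit false
open scoped Pointwise
open Cfsg

namespace Cfsg.Agent.S1601

/-- In the 3-transitive action of the smallest Mathieu group on the complementary dodecad, a point stabiliser is isomorphic to PSL(2, 11). -/
theorem result (d : Finset Cfsg.GolayPt) (hd : d ∈ Cfsg.dodecads) (p q : Cfsg.GolayPt) (hp : p ∈ d) (hq : q ∉ d) : Nonempty (↥(MulAction.stabilizer Cfsg.M24 d ⊓ MulAction.stabilizer Cfsg.M24 p ⊓ MulAction.stabilizer Cfsg.M24 q) ≃* Matrix.ProjectiveSpecialLinearGroup (Fin 2) (ZMod 11)) := by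
  classical
  obtain ⟨e⟩ := CfsgLib.Spor.M11Outer.exists_transport hd hp (t := ({q} : Finset Cfsg.GolayPt))
    (s := CfsgLib.Spor.pts CfsgLib.Spor.M11Outer.pointMask)
    (Finset.disjoint_left.2 (by simp [hq]))
    (fun u hu h => CfsgLib.Spor.M11Outer.point_listed.2.2 u hu (h.trans (Finset.card_singleton q)))
  obtain ⟨e'⟩ := CfsgLib.Spor.M11Outer.point_psl
  have h : MulAction.stabilizer Cfsg.M24 ({q} : Finset Cfsg.GolayPt) = MulAction.stabilizer Cfsg.M24 q := by
    ext g
    simp [MulAction.mem_stabilizer_iff, Finset.smul_finset_singleton]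
  rw [h] at e
  exact ⟨e.trans e'⟩

end Cfsg.Agent.S1601
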