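import Cfsg.Statements.S1602
import Cfsg.Agent.Lib.Spor.M11Outer

set_option autoImplicit false
open scoped Pointwise
open Cfsg

namespace Cfsg.Agent.S1602

/-- In the 12-point action of the smallest Mathieu group the setwise stabiliser of a pair is isomorphic to the symmetric group of degree 5. -/
theorem result (d : Finset Cfsg.GolayPt) (hd : d ∈ Cfsg.dodecads) (p q q' : Cfsg.GolayPt) (hp : p ∈ d) (hq : q ∉ d) (hq' : q' ∉ d) (hqq' : q ≠ q') : Nonempty (↥(MulAction.stabilizer Cfsg.M24 d ⊓ MulAction.stabilizer Cfsg.M24 p ⊓ MulAction.stabilizer Cfsg.M24 ({q, q'} : Finset Cfsg.GolayPt)) ≃* Equiv.Perm (Fin 5)) := by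
  classical
  have hc : ({q, q'} : Finset Cfsg.GolayPt).card = 2 := Finset.card_pair hqq'
  obtain ⟨e⟩ := CfsgLib.Spor.M11Outer.exists_transport hd hp (t := ({q, q'} : Finset Cfsg.GolayPt))
    (s := CfsgLib.Spor.pts CfsgLib.Spor.M11Outer.pairMask)
    (Finset.disjoint_left.2 (by simp [hq, hq']))
    (fun u hu h => CfsgLib.Spor.M11Outer.pair_listed.2.2 u hu (h.trans hc))
  obtain ⟨e'⟩ := CfsgLib.Spor.M11Outer.pair_perm
  exact ⟨e.trans e'⟩

end Cfsg.Agent.S1602
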