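import Cfsg.Statements.S1606
import Cfsg.Agent.Lib.Spor.IndexSubgroups

set_option autoImplicit false
open scoped Pointwise
open Cfsg

namespace Cfsg.Agent.S1606

/-- The stabiliser of two points in the group of the length-24 code has no subgroups of index 56 or 210. -/
theorem result (p q : Cfsg.GolayPt) (hpq : p ≠ q) (H : Subgroup ↥(MulAction.stabilizer Cfsg.M24 p ⊓ MulAction.stabilizer Cfsg.M24 q)) : H.index ≠ 56 ∧ H.index ≠ 210 := by
  obtain ⟨K, hK⟩ : ∃ K : Subgroup (Equiv.Perm GolayPt), K = (H.map (Subgroup.subtype _)).map M24.subtype :=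
    ⟨_, rfl⟩
  have hle : K ≤ M24 := hK ▸ Subgroup.map_subtype_le _
  have hfix : ∀ g ∈ K, g p = p ∧ g q = q := by
    rw [hK]
    rintro _ ⟨_, ⟨x, -, rfl⟩, rfl⟩
    exact ⟨x.2.1, x.2.2⟩
  have hc : Nat.card K * H.index = 443520 := by
    rw [hK, Subgroup.card_map_of_injective M24.subtype_injective,
      Subgroup.card_map_of_injective (Subgroup.subtype_injective _), Subgroup.card_mul_index,
      CfsgLib.Spor.card_stabilizer_two_points p q hpq]
  have h1 := CfsgLib.Spor.IndexSub.no_7920 hle hpq (fun g hg => (hfix g hg).1) (fun g hg => (hfix g hg).2)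
  have h2 := CfsgLib.Spor.IndexSub.no_2112 hle hpq (fun g hg => (hfix g hg).1) (fun g hg => (hfix g hg).2)
  refine ⟨fun e => ?_, fun e => ?_⟩ <;> rw [e] at hc
  · exact h1 (by omega)
  · exact h2 (by omega)

end Cfsg.Agent.S1606
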