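import Cfsg.Statements.S1609
import Cfsg.Agent.Lib.Spor.IndexSubgroups

set_option autoImplicit false
open scoped Pointwise
open Cfsg

namespace Cfsg.Agent.S1609

/-- Subgroups of index 253 in the Mathieu group of degree 23 are exactly the duad stabilisers and the heptad stabilisers. -/
theorem result (x : Cfsg.GolayPt) (H : Subgroup ↥(MulAction.stabilizer Cfsg.M24 x)) (hH : H.index = 253) : (∃ s : Finset Cfsg.GolayPt, s.card = 2 ∧ x ∉ s ∧ H = (MulAction.stabilizer Cfsg.M24 s).subgroupOf (MulAction.stabilizer Cfsg.M24 x)) ∨ ∃ o ∈ Cfsg.octads, x ∈ o ∧ H = (MulAction.stabilizer Cfsg.M24 o).subgroupOf (MulAction.stabilizer Cfsg.M24 x) := by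
  let emb : Subgroup ↥(MulAction.stabilizer Cfsg.M24 x) → Subgroup (Equiv.Perm GolayPt) := fun L => (L.map (MulAction.stabilizer Cfsg.M24 x).subtype).map M24.subtype
  have hcard : ∀ L : Subgroup ↥(MulAction.stabilizer Cfsg.M24 x), Nat.card (emb L) = Nat.card L := fun L => by
    simp only [emb]
    rw [Subgroup.card_map_of_injective M24.subtype_injective,
      Subgroup.card_map_of_injective (Subgroup.subtype_injective _)]
  have hle : ∀ L : Subgroup ↥(MulAction.stabilizer Cfsg.M24 x), emb L ≤ M24 := fun L => Subgroup.map_subtype_le _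
  have hfix : ∀ L : Subgroup ↥(MulAction.stabilizer Cfsg.M24 x), ∀ g ∈ emb L, g x = x := fun L => by
    rintro _ ⟨_, ⟨z, -, rfl⟩, rfl⟩
    exact z.2
  have hmem : ∀ z ∈ H, ((z : ↥Cfsg.M24) : Equiv.Perm GolayPt) ∈ emb H := fun z hz =>
    ⟨(z : ↥Cfsg.M24), ⟨z, hz, rfl⟩, rfl⟩
  have hc : Nat.card H = 40320 := by
    have h := H.card_mul_index
    rw [hH, CfsgLib.Spor.card_stabilizer_point x] at h
    omega
  rcases CfsgLib.Spor.IndexSub.index_253 (hle H) (hfix H) ((hcard H).trans hc) with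
    ⟨u, v, huv, hux, hvx, h⟩ | ⟨o, ho, hxo, h⟩
  · refine Or.inl ⟨{u, v}, Finset.card_pair huv, by simp [Ne.symm hux, Ne.symm hvx], ?_⟩
    refine Subgroup.eq_of_le_of_card_ge (fun z hz => ?_) ?_
    · exact Subgroup.mem_subgroupOf.2 (h _ (hmem z hz))
    · rw [hc, ← hcard]
      refine CfsgLib.Spor.IndexSub.card_pair_point (hle _) huv hux hvx ?_ (hfix _)
      rintro _ ⟨_, ⟨z, hz, rfl⟩, rfl⟩
      exact Subgroup.mem_subgroupOf.1 hz
  · refine Or.inr ⟨o, ho, hxo, Subgroup.eq_of_le_of_card_ge (fun z hz => ?_) ?_⟩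
    · exact Subgroup.mem_subgroupOf.2 (h _ (hmem z hz))
    · rw [hc, ← hcard]
      refine CfsgLib.Spor.IndexSub.card_octad_point (hle _) ho.2 ?_ hxo (hfix _)
      rintro _ ⟨_, ⟨z, hz, rfl⟩, rfl⟩
      exact Subgroup.mem_subgroupOf.1 hz

end Cfsg.Agent.S1609
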