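import Cfsg.Statements.S1614
import Cfsg.Agent.Lib.Invol.TriSolv.Main

set_option autoImplicit false
open Cfsg

namespace Cfsg.Agent.S1614

/-- If the commuting transpositions of one transposition generate a solvable group, a Fischer 3-transposition group is S5, S6, PSU(4, 2) or PSU(5, 2). -/
theorem result {G : Type*} [Group G] [Finite G] (hsol : ∀ N : Subgroup G, N.Normal → Group.IsSolvable ↥N → N = ⊥) (hperf : ⁅commutator G, commutator G⁆ = commutator G) {D : Set G} (hD : Cfsg.IsThreeTranspositionClass D) (x : G) (hx : x ∈ D) (hs : Group.IsSolvable ↥(Subgroup.closure {y : G | y ∈ D ∧ y ≠ x ∧ Commute x y})) : Nonempty (G ≃* Equiv.Perm (Fin 5)) ∨ Nonempty (G ≃* Equiv.Perm (Fin 6)) ∨ ∃ (F : Type) (_ : Field F) (_ : Fintype F), Fintype.card F = 4 ∧ (Nonempty (G ≃* Cfsg.PSU 4 F 2) ∨ Nonempty (G ≃* Cfsg.PSU 5 F 2)) := by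
  have h := CfsgLib.Spor.Tri.hyp_of_class hD
  by_cases hO : Cfsg.oddCore ↥(Subgroup.closure {y : G | y ∈ D ∧ y ≠ x ∧ Commute x y}) ≤
      Subgroup.center ↥(Subgroup.closure {y : G | y ∈ D ∧ y ≠ x ∧ Commute x y})
  · have hZ : Subgroup.center G = ⊥ :=
      hsol _ inferInstance (Group.isSolvable_of_comm fun a b => Subtype.ext (Subgroup.mem_center_iff.1 b.2 a.1))
    have htwo : ∃ a ∈ D, ∃ b ∈ D, a ≠ b := by
      by_contra hcon
      push Not at hcon
      have hone : x = 1 := by
        rw [← Subgroup.mem_bot, ← hZ, Subgroup.mem_center_iff]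
        intro y
        have hy : y ∈ Subgroup.centralizer ({x} : Set G) := by
          refine (?_ : (⊤ : Subgroup G) ≤ _) (Subgroup.mem_top y)
          rw [← h.gen, Subgroup.closure_le]
          intro d hd
          rw [SetLike.mem_coe, Subgroup.mem_centralizer_singleton_iff, hcon d hd x hx]
        rw [Subgroup.mem_centralizer_singleton_iff] at hy
        exact hy
      exact (h.ne_one hx) hone
    have hL : CfsgLib.Invol.TriSolv.Loc D x :=
      ⟨⟨h, CfsgLib.Spor.Tri.centralRadical_of_sol hsol, hperf⟩, hx, htwo, hs, hO⟩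
    rcases hL.cases hZ with h6 | h4 | h5
    · exact Or.inr (Or.inl h6)
    · exact Or.inr (Or.inr ⟨CfsgLib.Spor.Fi22.U6.Four, inferInstance, inferInstance,
        CfsgLib.Spor.Fi22.U6.Four.card_four, Or.inl h4⟩)
    · exact Or.inr (Or.inr ⟨CfsgLib.Spor.Fi22.U6.Four, inferInstance, inferInstance,
        CfsgLib.Spor.Fi22.U6.Four.card_four, Or.inr h5⟩)
  · exact Or.inl (CfsgLib.Invol.TriOddCore.sym_five h hperf hsol hx hO)

end Cfsg.Agent.S1614
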