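import Cfsg.Statements.S1617
import Cfsg.Agent.Lib.RankThreeClass.Main
import Cfsg.Agent.Lib.Invol.ZStar
import Cfsg.Agent.Lib.Invol.InvertedOdd
import Cfsg.Agent.S0205

set_option autoImplicit false
open Cfsg

namespace Cfsg.Agent.S1617


open CfsgLib.Invol

/-- Without a solvable radical a centraliser-free class of involutions is excluded. -/
theorem exists_commuting {G : Type*} [Group G] [Finite G] {D : Set G}
    (hsol : ∀ N : Subgroup G, N.Normal → Group.IsSolvable ↥N → N = ⊥)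
    (hinv : ∀ d ∈ D, orderOf d = 2) (hcl : ∀ g : G, ∀ d ∈ D, g * d * g⁻¹ ∈ D) {x : G} (hx : x ∈ D) :
    ∃ y ∈ D, x ≠ y ∧ Commute x y := by
  classical
  by_contra hcon
  push Not at hcon
  have hiso : Cfsg.IsIsolatedInvolution x :=
    ⟨hinv x hx, fun g hg => by_contra fun h => hcon _ (hcl g x hx) (Ne.symm h) hg⟩
  haveI := CfsgLib.Coprime.pPrimeCore_characteristic (G := G) 2
  have hO : Cfsg.pPrimeCore 2 G = ⊥ := hsol _ inferInstance (Cfsg.Agent.S0205.result (Nat.odd_iff.2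
    (Nat.two_dvd_ne_zero.1 (CfsgLib.Coprime.pPrimeCore_not_dvd Nat.prime_two))))
  have hc : x ∈ Subgroup.center G := Subgroup.mem_center_iff.2 fun g => by
    have h := CfsgLib.Invol.zstar hiso g
    rw [hO, Subgroup.mem_bot, mul_inv_eq_one, mul_inv_eq_iff_eq_mul] at h
    exact h.symm
  have hZ := hsol (Subgroup.center G) inferInstance
    (CfsgLib.Coprime.isSolvable_of_isMulCommutative inferInstance)
  rw [hZ, Subgroup.mem_bot] at hc
  exact invol_ne_one (hinv x hx) hc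

/-- If every product has order dividing four the class lies in a normal two-subgroup. -/
theorem four_false {G : Type*} [Group G] [Finite G] {D : Set G}
    (hsol : ∀ N : Subgroup G, N.Normal → Group.IsSolvable ↥N → N = ⊥)
    (hinv : ∀ d ∈ D, orderOf d = 2) (hcl : ∀ g : G, ∀ d ∈ D, g * d * g⁻¹ ∈ D) {x : G} (hx : x ∈ D)
    (h : ∀ d ∈ D, ∀ e ∈ D, (d * e) ^ 4 = 1) : False := by
  classical
  haveI : Fact (Nat.Prime 2) := ⟨Nat.prime_two⟩
  obtain ⟨N, hN, hNp, hxN⟩ := exists_normal_pGroup_mem (p := 2) (x := x) fun g => by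
    obtain ⟨s, -, hs⟩ := (Nat.dvd_prime_pow Nat.prime_two).1
      (orderOf_dvd_of_pow_eq_one (show (x * (g * x * g⁻¹)) ^ 2 ^ 2 = 1 from h x hx _ (hcl g x hx)))
    exact two_group_of_pair (hinv x hx) (hinv _ (hcl g x hx)) hs
  haveI := hNp.isNilpotent
  have := hsol N hN inferInstance
  rw [this, Subgroup.mem_bot] at hxN
  exact invol_ne_one (hinv x hx) hxN


/-- A generating conjugacy class of involutions on which the group (with trivial solvable radical) acts with rank 3 is a class of 3-transpositions. -/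
theorem result {G : Type*} [Group G] [Finite G] (hsol : ∀ N : Subgroup G, N.Normal → Group.IsSolvable ↥N → N = ⊥) {D : Set G} (hinv : ∀ d ∈ D, orderOf d = 2) (hconj : ∃ d ∈ D, D = conjugatesOf d) (hgen : Subgroup.closure D = ⊤) (hrank : ∀ x ∈ D, ∃ y ∈ D, ∃ z ∈ D, {w : G | ∃ g : G, Commute g x ∧ g * y * g⁻¹ = w} ≠ {w : G | ∃ g : G, Commute g x ∧ g * x * g⁻¹ = w} ∧ {w : G | ∃ g : G, Commute g x ∧ g * z * g⁻¹ = w} ≠ {w : G | ∃ g : G, Commute g x ∧ g * x * g⁻¹ = w} ∧ {w : G | ∃ g : G, Commute g x ∧ g * y * g⁻¹ = w} ≠ {w : G | ∃ g : G, Commute g x ∧ g * z * g⁻¹ = w} ∧ D = {w : G | ∃ g : G, Commute g x ∧ g * x * g⁻¹ = w} ∪ {w : G | ∃ g : G, Commute g x ∧ g * y * g⁻¹ = w} ∪ {w : G | ∃ g : G, Commute g x ∧ g * z * g⁻¹ = w}) : Cfsg.IsThreeTranspositionClass D := by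
  classical
  obtain ⟨d₀, hd₀, hD⟩ := hconj
  have hcl : ∀ g : G, ∀ d ∈ D, g * d * g⁻¹ ∈ D := fun g d hd => by
    rw [hD, conjugatesOf, Set.mem_setOf_eq] at hd ⊢
    exact hd.trans (isConj_iff.2 ⟨g, rfl⟩)
  have htrans : ∀ a ∈ D, ∀ b ∈ D, ∃ g : G, g * a * g⁻¹ = b := fun a ha b hb => by
    rw [hD, conjugatesOf, Set.mem_setOf_eq] at ha hb
    exact isConj_iff.1 (ha.symm.trans hb)
  refine ⟨⟨hinv, ?_⟩, ⟨d₀, hd₀, hD⟩, hgen⟩
  obtain ⟨y, hy, z, hz, hyx, hzx, hyz, hcov⟩ := hrank d₀ hd₀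
  -- the product with `d₀` takes two values
  have hord : ∀ w ∈ D, w ≠ d₀ → orderOf (d₀ * w) = orderOf (d₀ * y) ∨ orderOf (d₀ * w) = orderOf (d₀ * z) := by
    intro w hw hne
    have key : ∀ v : G, (∃ g : G, Commute g d₀ ∧ g * v * g⁻¹ = w) → orderOf (d₀ * w) = orderOf (d₀ * v) := by
      rintro v ⟨g, hg, rfl⟩
      rw [show d₀ * (g * v * g⁻¹) = MulAut.conj g (d₀ * v) from ?_, MulEquiv.orderOf_eq]
      rw [map_mul, MulAut.conj_apply, MulAut.conj_apply, hg.eq, mul_assoc d₀ g, mul_inv_cancel, mul_one]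
    rw [hcov] at hw
    rcases hw with (⟨g, hg, rfl⟩ | hw) | hw
    · exact absurd (by rw [hg.eq, mul_assoc, mul_inv_cancel, mul_one]) hne
    · exact Or.inl (key y hw)
    · exact Or.inr (key z hw)
  have hred : ∀ d ∈ D, ∀ e ∈ D, d ≠ e → ∃ w ∈ D, w ≠ d₀ ∧ orderOf (d * e) = orderOf (d₀ * w) := by
    intro d hd e he hne
    obtain ⟨g, rfl⟩ := htrans d hd d₀ hd₀
    refine ⟨g * e * g⁻¹, hcl g e he, fun h => hne (mul_left_cancel (mul_right_cancel h)).symm, ?_⟩
    rw [show g * d * g⁻¹ * (g * e * g⁻¹) = MulAut.conj g (d * e) by simp [MulAut.conj_apply, mul_assoc],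
      MulEquiv.orderOf_eq]
  have hsq : ∀ d ∈ D, d * d = 1 := fun d hd => invol_mul_self (hinv d hd)
  have hcomm2 : ∀ d ∈ D, ∀ e ∈ D, d ≠ e → (Commute d e ↔ orderOf (d * e) = 2) := by
    intro d hd e he hne
    constructor
    · intro hc
      haveI : Fact (Nat.Prime 2) := ⟨Nat.prime_two⟩
      refine orderOf_eq_prime (by rw [hc.mul_pow, pow_two, pow_two, hsq d hd, hsq e he, one_mul]) fun h => hne ?_
      rw [← invol_inv (hinv e he)]
      exact eq_inv_of_mul_eq_one_left h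
    · intro h
      have h1 := pow_orderOf_eq_one (d * e)
      rw [h, pow_two] at h1
      show d * e = e * d
      rw [eq_inv_of_mul_eq_one_left h1, mul_inv_rev, invol_inv (hinv d hd), invol_inv (hinv e he)]
  -- some product is an involution
  obtain ⟨v, hv, hv0, hvc⟩ := exists_commuting hsol hinv hcl hd₀
  have hv2 : orderOf (d₀ * v) = 2 := (hcomm2 _ hd₀ _ hv hv0).1 hvc
  obtain ⟨y₁, n, hy₁D, horb, hn⟩ : ∃ (y₁ : G) (n : ℕ), y₁ ∈ D ∧
      (∀ w ∈ D, w ≠ d₀ → orderOf (d₀ * w) = 2 → n ≠ 2 → ∃ g : G, Commute g d₀ ∧ g * y₁ * g⁻¹ = w) ∧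
      ∀ w ∈ D, w ≠ d₀ → orderOf (d₀ * w) = 2 ∨ orderOf (d₀ * w) = n := by
    have horbit : ∀ a b : G, (∀ w ∈ D, w ≠ d₀ →
          (∃ g : G, Commute g d₀ ∧ g * a * g⁻¹ = w) ∨ ∃ g : G, Commute g d₀ ∧ g * b * g⁻¹ = w) →
        ∀ w ∈ D, w ≠ d₀ → orderOf (d₀ * w) = 2 → orderOf (d₀ * b) ≠ 2 →
          ∃ g : G, Commute g d₀ ∧ g * a * g⁻¹ = w := by
      intro a b hab w hw hne h2 hb
      rcases hab w hw hne with h | ⟨g, hg, rfl⟩
      · exact h
      · refine absurd ?_ hb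
        rw [← h2, show d₀ * (g * b * g⁻¹) = MulAut.conj g (d₀ * b) from ?_, MulEquiv.orderOf_eq]
        rw [map_mul, MulAut.conj_apply, MulAut.conj_apply, hg.eq, mul_assoc d₀ g, mul_inv_cancel, mul_one]
    have hmem : ∀ w ∈ D, w ≠ d₀ →
        (∃ g : G, Commute g d₀ ∧ g * y * g⁻¹ = w) ∨ ∃ g : G, Commute g d₀ ∧ g * z * g⁻¹ = w := by
      intro w hw hne
      rw [hcov] at hw
      rcases hw with (⟨g, hg, rfl⟩ | hw) | hw
      · exact absurd (by rw [hg.eq, mul_assoc, mul_inv_cancel, mul_one]) hne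
      · exact Or.inl hw
      · exact Or.inr hw
    rcases hord v hv hv0.symm with h | h <;> rw [hv2] at h
    · exact ⟨y, orderOf (d₀ * z), hy, horbit y z hmem, fun w hw hne =>
        (hord w hw hne).imp (fun e => e.trans h.symm) id⟩
    · exact ⟨z, orderOf (d₀ * y), hz, horbit z y (fun w hw hne => (hmem w hw hne).symm), fun w hw hne =>
        (hord w hw hne).symm.imp (fun e => e.trans h.symm) id⟩
  have hall : ∀ d ∈ D, ∀ e ∈ D, d ≠ e → orderOf (d * e) = 2 ∨ orderOf (d * e) = n := by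
    intro d hd e he hne
    obtain ⟨w, hw, hw0, ho⟩ := hred d hd e he hne
    rw [ho]; exact hn w hw hw0
  -- some product is not an involution
  obtain ⟨c, hc, hc0, hcn, hn2⟩ : ∃ c ∈ D, c ≠ d₀ ∧ orderOf (d₀ * c) = n ∧ n ≠ 2 := by
    by_contra hcon
    push Not at hcon
    refine four_false hsol hinv hcl hd₀ fun d hd e he => ?_
    by_cases hne : d = e
    · rw [hne, hsq e he, one_pow]
    obtain ⟨w, hw, hw0, ho⟩ := hred d hd e he hne
    have h2 : orderOf (d * e) = 2 := by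
      rw [ho]
      rcases hn w hw hw0 with h | h
      · exact h
      · exact h.trans (hcon w hw hw0 h)
    exact orderOf_dvd_iff_pow_eq_one.1 (by rw [h2]; norm_num)
  have hn0 : 0 < n := hcn ▸ orderOf_pos _
  have hn1 : n ≠ 1 := fun h => hc0 (by
    have := orderOf_eq_one_iff.1 (hcn.trans h)
    rw [← invol_inv (hinv c hc)]
    exact (eq_inv_of_mul_eq_one_left this).symm)
  -- a power of the product is the product with a conjugate
  have hpow : ∀ j : ℕ, orderOf ((d₀ * c) ^ (2 * j)) ∈ ({1, 2, n} : Set ℕ) := by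
    intro j
    set r := d₀ * c
    have hr : d₀ * r * d₀⁻¹ = r⁻¹ := invol_conj_mul (hinv _ hd₀) (hinv c hc)
    have e : d₀ * (r ^ j * d₀ * (r ^ j)⁻¹) = (r⁻¹) ^ (2 * j) := by
      rw [two_mul, pow_add]
      calc d₀ * (r ^ j * d₀ * (r ^ j)⁻¹) = d₀ * r ^ j * d₀⁻¹ * (r ^ j)⁻¹ := by
            rw [invol_inv (hinv _ hd₀)]; group
        _ = (r⁻¹) ^ j * (r⁻¹) ^ j := by rw [← conj_pow, hr, inv_pow]
    rw [show orderOf (r ^ (2 * j)) = orderOf (d₀ * (r ^ j * d₀ * (r ^ j)⁻¹)) by rw [e, inv_pow, orderOf_inv]]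
    by_cases h : r ^ j * d₀ * (r ^ j)⁻¹ = d₀
    · left; rw [h, hsq _ hd₀, orderOf_one]
    · rcases hn _ (hcl _ _ hd₀) h with h' | h'
      · exact Or.inr (Or.inl h')
      · exact Or.inr (Or.inr h')
  have hodd : Odd n := by
    rcases Nat.even_or_odd n with ⟨k, hk⟩ | h
    swap; · exact h
    exfalso
    have ho : orderOf ((d₀ * c) ^ (2 * 1)) = k := by
      rw [orderOf_pow, hcn, mul_one, Nat.gcd_eq_right ⟨k, by omega⟩]; omega
    have hk' := hpow 1
    rw [ho] at hk'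
    simp only [Set.mem_insert_iff, Set.mem_singleton_iff] at hk'
    have hn4 : n = 4 := by omega
    refine four_false hsol hinv hcl hd₀ fun d hd e he => ?_
    by_cases hne : d = e
    · rw [hne, hsq e he, one_pow]
    rcases hall d hd e he hne with h | h
    · exact orderOf_dvd_iff_pow_eq_one.1 (by rw [h]; norm_num)
    · exact orderOf_dvd_iff_pow_eq_one.1 (by rw [h, hn4])
  have hp : n.Prime := by
    refine Nat.prime_def.2 ⟨by omega, fun k hk => ?_⟩
    obtain ⟨l, hl⟩ := hk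
    have ho : orderOf ((d₀ * c) ^ (2 * l)) = k := by
      rw [orderOf_pow, hcn]
      have hco : Nat.gcd n (2 * l) = l := by
        have h2 : Nat.Coprime 2 n := (Nat.coprime_two_left.2 hodd)
        rw [Nat.Coprime.gcd_mul_left_cancel_right _ h2]
        exact Nat.gcd_eq_right ⟨k, by rw [hl]; ring⟩
      rw [hco, hl, Nat.mul_div_cancel]
      rcases Nat.eq_zero_or_pos l with h | h
      · subst h; simp at hl; omega
      · exact h
    have hk' := hpow l
    rw [ho] at hk'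
    simp only [Set.mem_insert_iff, Set.mem_singleton_iff] at hk'
    rcases hk' with h | h | h
    · exact Or.inl h
    · subst h
      exact absurd hodd (Nat.not_odd_iff_even.2 ⟨l, by omega⟩)
    · exact Or.inr h
  intro d hd e he
  by_cases hde : d = e
  · left; rw [hde, hsq e he, one_pow]
  rcases hall d hd e he hde with h | h
  · left; rw [← h]; exact pow_orderOf_eq_one _
  by_cases h3 : n = 3
  · right; rw [← h3, ← h]; exact pow_orderOf_eq_one _
  exfalso
  have hn3 : 3 < n := by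
    rcases hodd with ⟨k, hk⟩
    omega
  have hTwo : CfsgLib.RankThreeClass.TwoP D n := ⟨hinv, hcl, fun a ha b hb => by
    by_cases hab : a = b
    · exact Or.inl (hab ▸ Commute.refl a)
    · exact (hall a ha b hb hab).imp (hcomm2 a ha b hb hab).2 id⟩
  refine CfsgLib.RankThreeClass.false_of_twoP hTwo hp hn3 hgen hsol htrans ?_ ⟨d₀, hd₀, v, hv, hv0, hvc⟩
  intro a ha b hb b' hb' hab hcab hab' hcab'
  obtain ⟨g, hg⟩ := htrans a ha d₀ hd₀
  have hmove : ∀ w ∈ D, a ≠ w → Commute a w → ∃ k : G, Commute k d₀ ∧ k * y₁ * k⁻¹ = g * w * g⁻¹ := by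
    intro w hw haw hcw
    have hne : g * w * g⁻¹ ≠ d₀ := by
      rw [← hg]; exact fun h => haw (mul_left_cancel (mul_right_cancel h)).symm
    refine horb _ (hcl g w hw) hne ?_ (by omega)
    rw [← hg, show g * a * g⁻¹ * (g * w * g⁻¹) = MulAut.conj g (a * w) by simp [MulAut.conj_apply, mul_assoc],
      MulEquiv.orderOf_eq]
    exact (hcomm2 a ha w hw haw).1 hcw
  obtain ⟨k, hk, hkb⟩ := hmove b hb hab hcab
  obtain ⟨k', hk', hkb'⟩ := hmove b' hb' hab' hcab'
  refine ⟨g⁻¹ * (k' * k⁻¹) * g, ?_, ?_⟩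
  · have := (hk'.mul_left hk.inv_left).map (MulAut.conj g⁻¹).toMonoidHom
    simp only [MulEquiv.coe_toMonoidHom, MulAut.conj_apply, inv_inv] at this
    rwa [← hg, show g⁻¹ * (g * a * g⁻¹) * g = a by group] at this
  · calc g⁻¹ * (k' * k⁻¹) * g * b * (g⁻¹ * (k' * k⁻¹) * g)⁻¹
        = g⁻¹ * (k' * (k⁻¹ * (g * b * g⁻¹) * k) * k'⁻¹) * g := by group
      _ = g⁻¹ * (k' * y₁ * k'⁻¹) * g := by rw [← hkb]; group
      _ = b' := by rw [hkb']; group

end Cfsg.Agent.S1617
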