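import Cfsg.Statements.S1618
import Cfsg.Agent.Lib.Invol.PrimePowerClass


set_option autoImplicit false
open Cfsg

namespace Cfsg.Agent.S1618

/-- A group generated by a class of involutions whose pairwise products (of distinct members) have p-power order for a fixed odd prime p has nilpotent derived subgroup. -/
theorem result {G : Type*} [Group G] [Finite G] (p : ℕ) (hp : p.Prime) (hodd : p ≠ 2) {D : Set G} (hinv : ∀ d ∈ D, orderOf d = 2) (hconj : ∃ d ∈ D, D = conjugatesOf d) (hgen : Subgroup.closure D = ⊤) (hprod : ∀ x ∈ D, ∀ y ∈ D, x ≠ y → ∃ k : ℕ, orderOf (x * y) = p ^ k) : Group.IsNilpotent ↥(commutator G) := by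
  obtain ⟨d, hdD, hD⟩ := hconj
  haveI : Fact p.Prime := ⟨hp⟩
  have hd := hinv d hdD
  have hmem : ∀ g : G, g * d * g⁻¹ ∈ D := fun g => by
    rw [hD]; exact (isConj_iff.2 ⟨g, rfl⟩)
  have key := CfsgLib.Invol.mul_conj_mem_pCore hp hodd hd fun g => by
    by_cases he : d = g * d * g⁻¹
    · exact ⟨0, by rw [← he, CfsgLib.Invol.invol_mul_self hd, orderOf_one, pow_zero]⟩
    · exact hprod d hdD _ (hmem g) he
  haveI := CfsgLib.Coprime.pCore_normal' (G := G) p
  set π := QuotientGroup.mk' (Cfsg.pCore p G) with hπ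
  have himg : ∀ x ∈ D, π x = π d := by
    intro x hx
    rw [hD] at hx
    obtain ⟨g, rfl⟩ := isConj_iff.1 (hx)
    have h := (QuotientGroup.eq_one_iff _).2 (key g)
    rw [← QuotientGroup.mk'_apply, ← hπ, map_mul] at h
    rw [eq_inv_of_mul_eq_one_right h, ← map_inv, CfsgLib.Invol.invol_inv hd]
  have hrange : ∀ x : G, π x ∈ Subgroup.zpowers (π d) := by
    intro x
    have hle : Subgroup.closure D ≤ (Subgroup.zpowers (π d)).comap π :=
      (Subgroup.closure_le _).2 fun y hy => by
        show π y ∈ Subgroup.zpowers (π d)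
        rw [himg y hy]; exact Subgroup.mem_zpowers _
    exact hle (hgen.symm ▸ Subgroup.mem_top x)
  have hle : commutator G ≤ Cfsg.pCore p G := by
    rw [commutator_def, Subgroup.commutator_le]
    intro a _ b _
    rw [← QuotientGroup.eq_one_iff, ← QuotientGroup.mk'_apply, ← hπ, map_commutatorElement,
      commutatorElement_eq_one_iff_commute]
    obtain ⟨i, hi⟩ := Subgroup.mem_zpowers_iff.1 (hrange a)
    obtain ⟨j, hj⟩ := Subgroup.mem_zpowers_iff.1 (hrange b)
    rw [← hi, ← hj]
    exact Commute.zpow_zpow_self _ i j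
  exact ((CfsgLib.Coprime.pCore_isPGroup (G := G) p).to_le hle).isNilpotent

end Cfsg.Agent.S1618
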