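import Cfsg.Statements.S1623
import Cfsg.Agent.Lib.Char.J2.ReflCentralizer

set_option autoImplicit false
open Quaternion
open Cfsg

namespace Cfsg.Agent.S1623

theorem extraspecial_congr {P Q : Type*} [Group P] [Group Q] (e : P ≃* Q) {p : ℕ}
    (h : Cfsg.IsExtraspecial p P) : Cfsg.IsExtraspecial p Q := by
  obtain ⟨⟨hp, hf, hc⟩, hcard⟩ := h
  have hcen : (Subgroup.center P).map e.toMonoidHom = Subgroup.center Q := by
    ext y
    obtain ⟨x, rfl⟩ := e.surjective y
    rw [show e x = e.toMonoidHom x from rfl, Subgroup.mem_map_iff_mem e.injective,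
      Subgroup.mem_center_iff, Subgroup.mem_center_iff]
    constructor
    · intro h g
      obtain ⟨g, rfl⟩ := e.surjective g
      show e g * e x = e x * e g
      rw [← map_mul, ← map_mul, h g]
    · intro h g
      exact e.injective (by rw [map_mul, map_mul]; exact h (e g))
  refine ⟨⟨hp.of_equiv e, ?_, ?_⟩, ?_⟩
  · rw [← hcen, ← hf]
    exact (OrderIso.map_radical (e.mapSubgroup)).symm
  · rw [← hcen, ← hc, map_commutator_eq, MonoidHom.range_eq_top.2 e.surjective, commutator_def]
  · rw [← hcen, Subgroup.card_map_of_injective e.injective]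
    exact hcard

/-- A reflection centraliser in the Hall–Janko group is an extension of an extraspecial group of order 32 by the alternating group of degree 5. -/
theorem result (f : Equiv.Perm ↥Cfsg.Spor.icoLeech) (hf : Cfsg.Spor.IsIcoReflection f) (hfm : f ∈ Cfsg.Spor.twoJ2) : ∃ (Q : Subgroup ↥(Subgroup.centralizer {(QuotientGroup.mk ⟨f, hfm⟩ : Cfsg.Spor.J2)})) (_ : Q.Normal), Nat.card Q = 32 ∧ Cfsg.IsExtraspecial 2 Q ∧ Nonempty (↥(Subgroup.centralizer {(QuotientGroup.mk ⟨f, hfm⟩ : Cfsg.Spor.J2)}) ⧸ Q ≃* alternatingGroup (Fin 5)) := by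
  obtain ⟨e⟩ := CfsgLib.Char.J2.exists_centralizer_equiv (x := ⟨f, hfm⟩) hf
  obtain ⟨ψ, hr, hk, hE⟩ := CfsgLib.Char.J2.stab100_structure
  set φ := ψ.comp e.toMonoidHom with hφ
  have hker : φ.ker = ψ.ker.map e.symm.toMonoidHom := by
    ext y
    rw [Subgroup.mem_map_equiv, MonoidHom.mem_ker, MonoidHom.mem_ker]
    rfl
  refine ⟨φ.ker, inferInstance, ?_, ?_, ⟨(QuotientGroup.quotientKerEquivRange φ).trans
    (MulEquiv.subgroupCongr ?_)⟩⟩
  · rw [hker, Subgroup.card_map_of_injective e.symm.injective, hk]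
  · exact extraspecial_congr ((Subgroup.equivMapOfInjective _ _ e.symm.injective).trans
      (MulEquiv.subgroupCongr hker.symm)) hE
  · rw [hφ, MonoidHom.range_comp, MonoidHom.range_eq_top.2 e.surjective, ← MonoidHom.range_eq_map, hr]

end Cfsg.Agent.S1623
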