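import Cfsg.Statements.S1624
import Cfsg.Agent.Lib.Char.J2.PSUStab
import Cfsg.Agent.Lib.Char.SU33.Degrees

set_option autoImplicit false
open Quaternion
open Cfsg

namespace Cfsg.Agent.S1624

/-- The Hall–Janko group contains PSU(3, 3) with index 100 and acts on the 100 cosets with rank 3 and subdegrees 1, 36, 63. -/
theorem result : ∃ H : Subgroup Cfsg.Spor.J2, H.index = 100 ∧ (∃ (F : Type) (_ : Field F) (_ : Fintype F), Fintype.card F = 9 ∧ Nonempty (↥H ≃* Cfsg.PSU 3 F 3)) ∧ ∃ c₁ c₂ : Cfsg.Spor.J2 ⧸ H, (MulAction.orbit ↥H c₁).ncard = 36 ∧ (MulAction.orbit ↥H c₂).ncard = 63 := by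
  classical
  let F := GaloisField 3 2
  have : Fintype F := Fintype.ofFinite F
  have hF : Fintype.card F = 9 := by
    rw [← Nat.card_eq_fintype_card, GaloisField.card 3 2 (by norm_num)]; norm_num
  obtain ⟨R⟩ := CfsgLib.Char.SU33.exists_root hF
  obtain ⟨e⟩ := CfsgLib.Char.J2.nonempty_blockStab_equiv R
  set φ := CfsgLib.Char.J2.equivP100
  set K := CfsgLib.Char.J2.blockStab
  set H : Subgroup Cfsg.Spor.J2 := K.comap φ.toMonoidHom
  let eH : ↥H ≃* ↥K :=
    { toFun := fun h => ⟨φ h.1, h.2⟩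
      invFun := fun k => ⟨φ.symm k.1, by
        show φ (φ.symm k.1) ∈ K
        rw [φ.apply_symm_apply]; exact k.2⟩
      left_inv := fun h => Subtype.ext (φ.symm_apply_apply _)
      right_inv := fun k => Subtype.ext (φ.apply_symm_apply _)
      map_mul' := fun a b => Subtype.ext (map_mul φ a.1 b.1) }
  let ψ : Cfsg.Spor.J2 ⧸ H → Fin 100 := Quotient.lift (fun g => (φ g).1 0) fun a b hab => by
    replace hab : a⁻¹ * b ∈ H := QuotientGroup.leftRel_apply.1 hab
    have h : (φ (a⁻¹ * b)).1 0 = 0 := CfsgLib.Char.J2.mem_blockStab.1 hab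
    rw [map_mul, map_inv] at h
    simp only [Subgroup.coe_mul, Subgroup.coe_inv, Equiv.Perm.mul_apply, Equiv.Perm.inv_def,
      Equiv.symm_apply_eq] at h
    exact h.symm
  have hψ : Function.Bijective ψ := by
    constructor
    · intro x y
      induction x using QuotientGroup.induction_on with | _ a => ?_
      induction y using QuotientGroup.induction_on with | _ b => ?_
      intro h
      apply QuotientGroup.eq.2
      show φ (a⁻¹ * b) ∈ K
      rw [CfsgLib.Char.J2.mem_blockStab, map_mul, map_inv]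
      simp only [Subgroup.coe_mul, Subgroup.coe_inv, Equiv.Perm.mul_apply, Equiv.Perm.inv_def,
        Equiv.symm_apply_eq]
      exact h.symm
    · intro b
      obtain ⟨g, hg⟩ := CfsgLib.Char.J2.blockStab_pretransitive b
      exact ⟨QuotientGroup.mk (φ.symm g), by show (φ (φ.symm g)).1 0 = b; rw [φ.apply_symm_apply, hg]⟩
  have horb : ∀ L ∈ [CfsgLib.Char.J2.orbit36, CfsgLib.Char.J2.orbit63],
      ∃ c : Cfsg.Spor.J2 ⧸ H, (MulAction.orbit ↥H c).ncard = L.length := by
    intro L hL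
    obtain ⟨b, hb⟩ := CfsgLib.Char.J2.ncard_listed_orbit hL
    obtain ⟨c, rfl⟩ := hψ.2 b
    refine ⟨c, ?_⟩
    rw [← hb, ← Set.ncard_image_of_injective _ hψ.1]
    congr 1
    have key : ∀ h : ↥H, ψ (h • c) = (φ h.1).1 (ψ c) := by
      intro h
      induction c using QuotientGroup.induction_on with | _ a => ?_
      show (φ (h.1 * a)).1 0 = _
      rw [map_mul]; rfl
    ext x
    simp only [Set.mem_image, MulAction.mem_orbit_iff, Set.mem_range, exists_exists_eq_and, key]
    exact ⟨fun ⟨h, hh⟩ => ⟨eH h, hh⟩, fun ⟨k, hk⟩ => ⟨eH.symm k, by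
      show (φ (φ.symm k.1)).1 (ψ c) = x
      rw [φ.apply_symm_apply, hk]⟩⟩
  refine ⟨H, ?_, ⟨F, inferInstance, inferInstance, hF, ⟨eH.trans (e.symm.trans
    ((QuotientGroup.quotientMulEquivOfEq (CfsgLib.Char.SU33.center_eq_bot R)).trans
      QuotientGroup.quotientBot).symm)⟩⟩, ?_⟩
  · rw [Subgroup.index, Nat.card_congr (Equiv.ofBijective ψ hψ), Nat.card_fin]
  · obtain ⟨c₁, h₁⟩ := horb _ (List.mem_cons_self ..)
    obtain ⟨c₂, h₂⟩ := horb _ (List.mem_cons_of_mem _ (List.mem_cons_self ..))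
    exact ⟨c₁, c₂, h₁.trans CfsgLib.Char.J2.orbit_check.2.1, h₂.trans CfsgLib.Char.J2.orbit_check.2.2⟩

end Cfsg.Agent.S1624
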