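import Cfsg.Statements.S1716
import Cfsg.Agent.Lib.Spor.HeldTri.Main
import Cfsg.Agent.Lib.Spor.HeldTri.EBranchIso

set_option autoImplicit false
open Cfsg

namespace Cfsg.Agent.S1716

/-- Groups with the involution centraliser of SL(5, 2), at the level of isomorphism: let G be a finite group with an involution z whose centraliser is isomorphic to the centraliser of a transvection s of SL(5, 2), and suppose some conjugate of z different from z lies in O₂ of the centraliser of z. Then G is isomorphic to the stabiliser in SL(5, 2) of a non-zero vector of the natural module, or to SL(5, 2), or to the Mathieu group M₂₄, or to the presented Held group. -/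
theorem result {G : Type*} [Group G] [Finite G] (s : Matrix.SpecialLinearGroup (Fin 5) (ZMod 2)) (hs : (s : Matrix (Fin 5) (Fin 5) (ZMod 2)) = Matrix.transvection 0 1 1) (z : G) (hz : orderOf z = 2) (e : (Subgroup.centralizer ({z} : Set G)) ≃* Subgroup.centralizer ({s} : Set (Matrix.SpecialLinearGroup (Fin 5) (ZMod 2)))) (hnwc : ∃ g : G, (∃ hq : g * z * g⁻¹ ∈ Subgroup.centralizer ({z} : Set G), (⟨g * z * g⁻¹, hq⟩ : Subgroup.centralizer ({z} : Set G)) ∈ Cfsg.pCore 2 (Subgroup.centralizer ({z} : Set G))) ∧ g * z * g⁻¹ ≠ z) : (∃ v : Fin 5 → ZMod 2, v ≠ 0 ∧ Nonempty (G ≃* MulAction.stabilizer (Matrix.SpecialLinearGroup (Fin 5) (ZMod 2)) v)) ∨ Nonempty (G ≃* Matrix.SpecialLinearGroup (Fin 5) (ZMod 2)) ∨ Nonempty (G ≃* Cfsg.M24) ∨ Cfsg.Spor.IsoHe G := by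
  obtain ⟨e', he'⟩ := CfsgLib.Spor.HeldTri.exists_model_of_equiv s hz hs e
  obtain ⟨g, ⟨hq, -⟩, hne⟩ := hnwc
  rcases CfsgLib.Spor.HeldTri.four_cases hz s hs e' he'
      (CfsgLib.Spor.HeldTri.patt_ne_zero_of_fused hz e' he' ⟨g, hq, hne⟩) with ⟨e'', he'', h⟩ | h
  · exact Or.inl (CfsgLib.Spor.HeldTri.stabilizer_of_pattern_one e'' he'' hz h)
  · exact Or.inr h

end Cfsg.Agent.S1716
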