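import Cfsg.Statements.S1722
import Cfsg.Agent.Lib.Invol.JTwo.Bridge
import Cfsg.Agent.Lib.Invol.JTwo.Five

set_option autoImplicit false
open Cfsg

namespace Cfsg.Agent.S1722

/-- Sylow 5-structure of a group of Hall–Janko type (large-extraspecial hypothesis with Q of order 32, quotient Ω⁻(4, 2), z not weakly closed in Q, more than one class of involutions): a Sylow 5-subgroup P is its own centraliser, has order 25, its normaliser has order 300, and the subgroups of order 5 fall into exactly two conjugacy classes. -/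
theorem result {G : Type*} [Group G] [Finite G] (z : G) (hz : orderOf z = 2) (Q : Subgroup (Subgroup.centralizer ({z} : Set G))) [Q.Normal] (hF : Cfsg.generalizedFittingSubgroup (Subgroup.centralizer ({z} : Set G)) = Q) (hQ : Cfsg.IsExtraspecial 2 Q) (hcard : Nat.card Q = 2 ^ 5) (e : (Subgroup.centralizer ({z} : Set G)) ⧸ Q ≃* Cfsg.Omega (ZMod 2) (Cfsg.quadFormMinus 1 (ZMod 2) 1 1)) (hnwc : ∃ g : G, (∃ hq : g * z * g⁻¹ ∈ Subgroup.centralizer ({z} : Set G), (⟨g * z * g⁻¹, hq⟩ : Subgroup.centralizer ({z} : Set G)) ∈ Q) ∧ g * z * g⁻¹ ≠ z) (hcl : ∃ x y : G, orderOf x = 2 ∧ orderOf y = 2 ∧ ¬ IsConj x y) (P : Sylow 5 G) : Subgroup.centralizer ((P : Subgroup G) : Set G) = P ∧ Nat.card P = 25 ∧ Nat.card (Subgroup.normalizer ((P : Subgroup G) : Set G)) = 300 ∧ ∃ X Y : Subgroup G, Nat.card X = 5 ∧ Nat.card Y = 5 ∧ (∀ g : G, X.map (MulAut.conj g).toMonoidHom ≠ Y) ∧ ∀ W : Subgroup G, Nat.card W = 5 → ∃ g : G, W.map (MulAut.conj g).toMonoidHom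 = X ∨ W.map (MulAut.conj g).toMonoidHom = Y := by
  obtain ⟨Q', h⟩ : ∃ Q', CfsgLib.Invol.JTwo.Hyp z Q' := ⟨_, CfsgLib.Invol.JTwo.hyp_of z hz Q hF hQ hcard e hnwc hcl⟩
  haveI : Fact (Nat.Prime 5) := ⟨Nat.prime_five⟩
  obtain ⟨h1, h2, h3⟩ := h.sylow_five P
  refine ⟨h1, h2, h3, ?_⟩
  obtain ⟨g, hG⟩ := h.exists_gee
  obtain ⟨R, hR⟩ := (IsPGroup.of_card (p := 5) (n := 1) (G := Subgroup.zpowers g)
    (by rw [Nat.card_zpowers, hG.ord, pow_one])).exists_le_sylow
  obtain ⟨-, -, -, l, hlR, hlo, ⟨u, hu, hul⟩, -, -, hall⟩ := h.five_main hG (hR (Subgroup.mem_zpowers g))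
  refine ⟨Subgroup.zpowers g, Subgroup.zpowers l, by rw [Nat.card_zpowers, hG.ord],
    by rw [Nat.card_zpowers, hlo], fun n hn => ?_, fun W hW => ?_⟩
  · rw [MonoidHom.map_zpowers] at hn
    have hC := CfsgLib.Invol.JTwo.centralizer_of_zpowers_eq hn
    have hmem : u ∈ Subgroup.centralizer ({n * g * n⁻¹} : Set G) := by
      have := Subgroup.mem_centralizer_singleton_iff.2 hul
      rw [← hC] at this
      simpa using this
    exact hG.noz _ (CfsgLib.Invol.JTwo.mem_centralizer_conj.1 hmem)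
      (hu.trans (isConj_iff.2 ⟨n⁻¹, by group⟩))
  · obtain ⟨S, hS⟩ := (IsPGroup.of_card (p := 5) (n := 1) (G := W) (by rw [hW, pow_one])).exists_le_sylow
    obtain ⟨c, hc⟩ := MulAction.exists_smul_eq G S R
    haveI : IsCyclic W := isCyclic_of_prime_card hW
    obtain ⟨⟨x, hx⟩, hgen⟩ := IsCyclic.exists_generator (α := W)
    have hWx : W = Subgroup.zpowers x := by
      refine le_antisymm (fun w hw => ?_) (Subgroup.zpowers_le.2 hx)
      obtain ⟨k, hk⟩ := Subgroup.mem_zpowers_iff.1 (hgen ⟨w, hw⟩)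
      exact Subgroup.mem_zpowers_iff.2 ⟨k, congrArg Subtype.val hk⟩
    have hxR : c * x * c⁻¹ ∈ (R : Subgroup G) := by
      rw [← hc, Sylow.coe_subgroup_smul]; exact ⟨x, hS hx, rfl⟩
    have hxo : orderOf x = 5 := by rw [← Nat.card_zpowers, ← hWx, hW]
    obtain ⟨d, hd⟩ := hall _ hxR
      ((orderOf_injective (MulAut.conj c).toMonoidHom (MulAut.conj c).injective x).trans hxo)
    refine ⟨d * c, ?_⟩
    rw [hWx, MonoidHom.map_zpowers, MulEquiv.coe_toMonoidHom, MulAut.conj_apply]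
    rw [show d * c * x * (d * c)⁻¹ = d * (c * x * c⁻¹) * d⁻¹ by group]
    exact hd

end Cfsg.Agent.S1722
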