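import Cfsg.Statements.S1725
import Cfsg.Agent.Lib.Spor.SuzType.YCent.Normal
import Cfsg.Agent.Lib.Spor.SuzType.YCent.ElevenMain

set_option autoImplicit false
open Cfsg

namespace Cfsg.Agent.S1725

/-- A 3-local step in the uniqueness proof for the sporadic Suzuki group: let G satisfy the large-extraspecial hypothesis with Q of order 2 ^ 7, quotient Ω⁻(6, 2) and z not weakly closed in Q, and let X be a subgroup of order 3 of the centraliser C of z with the commutator subgroup of Q and X of order 8 and non-abelian (a quaternion group). Then for any Sylow 3-subgroup P of the normaliser of X in G, P is a Sylow 3-subgroup of G (its index in G is prime to 3), and P contains an elementary abelian subgroup A of order 3 ^ 5 with C_G(A) = A and N_G(A) / A isomorphic to the Mathieu group M₁₁. -/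
theorem result {G : Type*} [Group G] [Finite G] (z : G) (hz : orderOf z = 2) (Q : Subgroup (Subgroup.centralizer ({z} : Set G))) [Q.Normal] (hF : Cfsg.generalizedFittingSubgroup (Subgroup.centralizer ({z} : Set G)) = Q) (hQ : Cfsg.IsExtraspecial 2 Q) (hcard : Nat.card Q = 2 ^ 7) (e : (Subgroup.centralizer ({z} : Set G)) ⧸ Q ≃* Cfsg.Omega (ZMod 2) (Cfsg.quadFormMinus 2 (ZMod 2) 1 1)) (hnwc : ∃ g : G, (∃ hq : g * z * g⁻¹ ∈ Subgroup.centralizer ({z} : Set G), (⟨g * z * g⁻¹, hq⟩ : Subgroup.centralizer ({z} : Set G)) ∈ Q) ∧ g * z * g⁻¹ ≠ z) (X : Subgroup (Subgroup.centralizer ({z} : Set G))) (hX : Nat.card X = 3) (hQX : Nat.card ↥⁅Q, X⁆ = 8) (hQXna : ¬ IsMulCommutative ↥⁅Q, X⁆) (P : Sylow 3 ↥(Subgroup.normalizer ((X.map (Subgroup.subtype (Subgroup.centralizer ({z} : Set G))) : Subgroup G) : Set G))) : ¬ 3 ∣ (((P : Subgroup ↥(Subgroup.normalizer ((X.map (Subgroup.subtype (Subgroup.centralizer ({z} : Set G))) : Subgroup G) : Set G))).map (Subgroup.subtype (Subgroup.normalizer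 ((X.map (Subgroup.subtype (Subgroup.centralizer ({z} : Set G))) : Subgroup G) : Set G)))).index) ∧ ∃ A : Subgroup G, A ≤ (P : Subgroup ↥(Subgroup.normalizer ((X.map (Subgroup.subtype (Subgroup.centralizer ({z} : Set G))) : Subgroup G) : Set G))).map (Subgroup.subtype (Subgroup.normalizer ((X.map (Subgroup.subtype (Subgroup.centralizer ({z} : Set G))) : Subgroup G) : Set G))) ∧ Cfsg.IsElementaryAbelian 3 A ∧ Nat.card A = 3 ^ 5 ∧ Subgroup.centralizer (A : Set G) = A ∧ ∃ _ : (A.subgroupOf (Subgroup.normalizer (A : Set G))).Normal, Cfsg.Spor.IsoM11 (↥(Subgroup.normalizer (A : Set G)) ⧸ A.subgroupOf (Subgroup.normalizer (A : Set G))) := by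
  classical
  haveI : Fact (Nat.Prime 3) := ⟨Nat.prime_three⟩
  obtain ⟨v, ρ, S⟩ := CfsgLib.Spor.SuzType.exists_setup z hz Q hF hQ hcard e
  have hinj : Function.Injective (Subgroup.centralizer ({z} : Set G)).subtype := (Subgroup.centralizer ({z} : Set G)).subtype_injective
  have hXc : Nat.card (X.map (Subgroup.centralizer ({z} : Set G)).subtype) = 3 := by rw [Subgroup.card_map_of_injective hinj]; exact hX
  obtain ⟨y, hXeq, hy3, hyC⟩ : ∃ y : G, (X.map (Subgroup.centralizer ({z} : Set G)).subtype) = Subgroup.zpowers y ∧ y ^ 3 = 1 ∧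
      y ∈ Subgroup.centralizer ({z} : Set G) := by
    obtain ⟨y, hy⟩ := (isCyclic_iff_exists_zpowers_eq_top.1 (isCyclic_of_prime_card hXc) : ∃ y : (X.map (Subgroup.centralizer ({z} : Set G)).subtype), Subgroup.zpowers y = ⊤)
    have hXeq : (X.map (Subgroup.centralizer ({z} : Set G)).subtype) = Subgroup.zpowers (y : G) := by
      have := congrArg (Subgroup.map (X.map (Subgroup.centralizer ({z} : Set G)).subtype).subtype) hy
      rw [MonoidHom.map_zpowers, ← MonoidHom.range_eq_map, Subgroup.range_subtype] at this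
      exact this.symm
    have hy3 : (y : G) ^ 3 = 1 := by
      rw [← SubgroupClass.coe_pow, ← hXc, pow_card_eq_one', Subgroup.coe_one]
    exact ⟨y, hXeq, hy3, Subgroup.map_subtype_le X y.2⟩
  have hcomm : ⁅Q.map (Subgroup.centralizer ({z} : Set G)).subtype, Subgroup.zpowers y⁆ = (⁅Q, X⁆).map (Subgroup.centralizer ({z} : Set G)).subtype := by
    rw [← hXeq, Subgroup.map_commutator]
  have h8 : Nat.card (⁅Q.map (Subgroup.centralizer ({z} : Set G)).subtype, Subgroup.zpowers y⁆ : Subgroup G) = 8 := by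
    rw [hcomm, Subgroup.card_map_of_injective hinj, hQX]
  have hna : ∃ a ∈ ⁅Q.map (Subgroup.centralizer ({z} : Set G)).subtype, Subgroup.zpowers y⁆,
      ∃ b ∈ ⁅Q.map (Subgroup.centralizer ({z} : Set G)).subtype, Subgroup.zpowers y⁆, a * b ≠ b * a := by
    by_contra h
    push Not at h
    refine hQXna ⟨⟨fun a b => Subtype.ext (hinj ?_)⟩⟩
    rw [Subgroup.coe_mul, Subgroup.coe_mul, map_mul, map_mul]
    exact h _ (hcomm ▸ Subgroup.mem_map_of_mem _ a.2) _ (hcomm ▸ Subgroup.mem_map_of_mem _ b.2)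
  obtain ⟨v', ρ', S', himg⟩ := CfsgLib.Spor.SuzType.YCent.exists_normal S hyC hy3 h8 hna
  have D : CfsgLib.Spor.SuzType.YCent.Data z (Q.map (Subgroup.centralizer ({z} : Set G)).subtype) v' ρ' y := ⟨S', hyC, hy3, himg⟩
  have hnwc' : ∃ g : G, g * z * g⁻¹ ∈ Q.map (Subgroup.centralizer ({z} : Set G)).subtype ∧ g * z * g⁻¹ ≠ z := by
    obtain ⟨g, ⟨hq, hgQ⟩, hne⟩ := hnwc
    exact ⟨g, ⟨_, hgQ, rfl⟩, hne⟩
  revert P
  rw [hXeq]
  exact D.three_local hnwc'

end Cfsg.Agent.S1725
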