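import Cfsg.Statements.S1741
import Cfsg.Agent.Lib.Invol.MTwelveType.Real
import Cfsg.Agent.Lib.Invol.MTwelveType.Signal
import Cfsg.Agent.Lib.Invol.MTwelveType.Endgame
import Cfsg.Agent.Lib.Invol.MTwelveType.Recog

set_option autoImplicit false
set_option linter.style.haveILetI false
open Cfsg

namespace Cfsg.Agent.S1741

open CfsgLib.Invol.MTwelveType in
/-- Let G be a finite simple group whose Sylow 2-subgroups are isomorphic to a Sylow 2-subgroup of the Mathieu group of degree 12, and suppose G has two involutions that are not conjugate. Then G is isomorphic to the Mathieu group of degree 12. -/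
theorem result {G : Type*} [Group G] [Finite G] [IsSimpleGroup G]
    (S : Sylow 2 G) (P : Sylow 2 ↥Cfsg.Spor.M12) (hS : Nonempty (↥(S : Subgroup G) ≃* ↥(P : Subgroup ↥Cfsg.Spor.M12)))
    (h2 : ∃ x y : G, orderOf x = 2 ∧ orderOf y = 2 ∧ ¬ IsConj x y) : Cfsg.Spor.IsoM12 G := by
  obtain ⟨F⟩ := exists_frame S P hS
  have hno : ∀ H : Subgroup G, H.index ≠ 2 := by
    intro H hH
    haveI := Subgroup.normal_of_index_eq_two hH
    rcases Subgroup.Normal.eq_bot_or_eq_top (inferInstance : H.Normal) with rfl | rfl
    · rw [Subgroup.index_bot] at hH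
      have h := Subgroup.card_subgroup_dvd_card (F.T : Subgroup G)
      rw [F.card_T, hH] at h
      norm_num at h
    · rw [Subgroup.index_top] at hH
      omega
  have key : ∀ F' : Frame G, F'.Core → Cfsg.Spor.IsoM12 G := fun F' hC => by
    obtain ⟨W, hW⟩ := hC.exists_signal hC.toFactor
    exact F'.iso_of_theta_bot hC hC.toFactor (F'.theta_bot_of_signal hC hC.toFactor hW)
  obtain ⟨h0, H0⟩ := F.exists_turn0 F.isConj_z_u
  rcases F.exists_turn H0 with ⟨h', H⟩ | ⟨h', H⟩
  · rcases F.exists_core hno H h2 with hC | hC <;> exact key _ hC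
  · rcases F.shift.exists_core hno H h2 with hC | hC <;> exact key _ hC

end Cfsg.Agent.S1741
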