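import Cfsg.Statements.S1753
import Cfsg.Agent.Lib.Invol.Basic


set_option autoImplicit false
universe u
open Cfsg

namespace Cfsg.Agent.S1753

/-- Let K be any property of groups. (1) If G is a minimal counterexample relative to K — a finite non-abelian simple group not satisfying K such that every finite non-abelian simple group of smaller order satisfies K — then every proper subgroup of G is a K-group (all its non-abelian simple sections satisfy K), since such sections have smaller order than G. (2) Consequently (induction on the order), if every finite non-abelian simple group all of whose proper subgroups are K-groups satisfies K, then every finite non-abelian simple group satisfies K. -/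
theorem result (K : ∀ (X : Type u) [Group X], Prop) :
    (∀ (G : Type u) [Group G], Cfsg.IsMinCounterexampleWith K G → Cfsg.IsKProperWith K G) ∧
      ((∀ (X : Type u) [Group X] [Finite X], IsSimpleGroup X → ¬ IsMulCommutative X → Cfsg.IsKProperWith K X → K X) →
        ∀ (G : Type u) [Group G] [Finite G], IsSimpleGroup G → ¬ IsMulCommutative G → K G) := by
  constructor
  · rintro G _ ⟨hfin, -, -, -, hmin⟩ H hH L M _hM hs hnc
    refine hmin (L ⧸ M) hs hnc (lt_of_le_of_lt (b := Nat.card H) ?_ ?_)
    · exact (Nat.card_le_card_of_surjective _ (QuotientGroup.mk_surjective (s := M))).trans (Subgroup.card_le_card_group L)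
    · exact lt_of_le_of_ne (Subgroup.card_le_card_group H) fun h => hH (Subgroup.eq_top_of_card_eq H h)
  · intro hK G _ _ hs hnc
    suffices ∀ n, ∀ (X : Type u) [Group X] [Finite X],
        Nat.card X = n → IsSimpleGroup X → ¬ IsMulCommutative X → K X from this _ G rfl hs hnc
    intro n
    induction n using Nat.strong_induction_on with
    | _ n ih =>
      intro X _ _ hn hs hnc
      refine hK X hs hnc fun H hH L M _hM hs' hnc' => ?_
      refine ih _ ?_ _ rfl hs' hnc'
      subst hn
      exact lt_of_le_of_lt ((Nat.card_le_card_of_surjective _ (QuotientGroup.mk_surjective (s := M))).trans (Subgroup.card_le_card_group L))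
        (lt_of_le_of_ne (Subgroup.card_le_card_group H) fun h => hH (Subgroup.eq_top_of_card_eq H h))

end Cfsg.Agent.S1753
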