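import Cfsg.Statements.S1755
import Cfsg.Agent.Lib.Coprime.Component
import Cfsg.Agent.Lib.Coprime.Fitting
import Cfsg.Agent.Lib.Invol.TI
import Cfsg.Agent.Lib.Invol.TwoClasses
import Mathlib.Tactic.Group


set_option autoImplicit false
open Cfsg

namespace Cfsg.Agent.S1755

/-- Let G be a finite group and let z be an involution of G such that Q, the generalized Fitting subgroup of the centralizer C of z, is a 2-group of symplectic type (every characteristic abelian subgroup of Q is cyclic). Let B be a characteristic abelian subgroup of Q, viewed as a subgroup of G. Then for every g in G, the conjugate of B by g either equals B or meets B trivially. -/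
theorem result {G : Type*} [Group G] [Finite G] (z : G) (hz : orderOf z = 2) (hQ : Cfsg.IsOfSymplecticType ↥(Cfsg.generalizedFittingSubgroup ↥(Subgroup.centralizer ({z} : Set G))))
    (B : Subgroup ↥(Cfsg.generalizedFittingSubgroup ↥(Subgroup.centralizer ({z} : Set G)))) (hBc : B.Characteristic) (hBa : IsMulCommutative ↥B) (g : G) :
    ((B.map (Cfsg.generalizedFittingSubgroup ↥(Subgroup.centralizer ({z} : Set G))).subtype).map (Subgroup.centralizer ({z} : Set G)).subtype).map (MulAut.conj g).toMonoidHom =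
        (B.map (Cfsg.generalizedFittingSubgroup ↥(Subgroup.centralizer ({z} : Set G))).subtype).map (Subgroup.centralizer ({z} : Set G)).subtype ∨
      ((B.map (Cfsg.generalizedFittingSubgroup ↥(Subgroup.centralizer ({z} : Set G))).subtype).map (Subgroup.centralizer ({z} : Set G)).subtype).map (MulAut.conj g).toMonoidHom ⊓
        (B.map (Cfsg.generalizedFittingSubgroup ↥(Subgroup.centralizer ({z} : Set G))).subtype).map (Subgroup.centralizer ({z} : Set G)).subtype = ⊥ := by
  haveI : Fact (Nat.Prime 2) := ⟨Nat.prime_two⟩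
  obtain ⟨hQp, hchar⟩ := hQ
  haveI hBcyc : IsCyclic B := hchar B hBc hBa
  haveI hFn : (Cfsg.generalizedFittingSubgroup ↥(Subgroup.centralizer ({z} : Set G))).Normal :=
    CfsgLib.Coprime.generalizedFitting_normal
  haveI hZcyc : IsCyclic (Subgroup.center ↥(Cfsg.generalizedFittingSubgroup ↥(Subgroup.centralizer ({z} : Set G)))) :=
    hchar _ inferInstance inferInstance
  by_cases hB : B = ⊥
  · exact Or.inl (by simp [hB])
  -- `z` lies in `Q`
  obtain ⟨c, hc⟩ : ∃ c : Subgroup.centralizer ({z} : Set G), (c : G) = z :=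
    ⟨⟨z, Subgroup.mem_centralizer_singleton_iff.2 rfl⟩, rfl⟩
  have hcZ : ∀ x : Subgroup.centralizer ({z} : Set G), x * c = c * x := fun x => Subtype.ext (by
    show (x : G) * c = c * x
    rw [hc]; exact Subgroup.mem_centralizer_singleton_iff.1 x.2)
  have hcQ : c ∈ Cfsg.generalizedFittingSubgroup ↥(Subgroup.centralizer ({z} : Set G)) := by
    refine CfsgLib.Coprime.fitting_le_generalizedFitting (CfsgLib.Coprime.le_fitting
      (N := Subgroup.center ↥(Subgroup.centralizer ({z} : Set G))) (Subgroup.isNilpotent_of_ker_le_center (1 : ↥(Subgroup.center ↥(Subgroup.centralizer ({z} : Set G))) →* Multiplicative (ZMod 1)) (fun x _ => Subgroup.mem_center_iff.2 fun y => Subtype.ext (Subgroup.mem_center_iff.1 x.2 y))) (Subgroup.mem_center_iff.2 hcZ))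
  obtain ⟨q, hq⟩ : ∃ q : Cfsg.generalizedFittingSubgroup ↥(Subgroup.centralizer ({z} : Set G)),
      (q : Subgroup.centralizer ({z} : Set G)) = c := ⟨⟨c, hcQ⟩, rfl⟩
  have hqord : orderOf q = 2 := by rw [← Subgroup.orderOf_coe, hq, ← Subgroup.orderOf_coe, hc, hz]
  have hqc : q ∈ Subgroup.center ↥(Cfsg.generalizedFittingSubgroup ↥(Subgroup.centralizer ({z} : Set G))) :=
    Subgroup.mem_center_iff.2 fun x => Subtype.ext (by
      show (x : Subgroup.centralizer ({z} : Set G)) * q = q * x
      rw [hq]; exact hcZ x)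
  -- the involution of a cyclic group is unique
  have huniq : ∀ {K : Subgroup ↥(Cfsg.generalizedFittingSubgroup ↥(Subgroup.centralizer ({z} : Set G)))}, IsCyclic K →
      ∀ u ∈ K, ∀ v ∈ K, orderOf u = 2 → orderOf v = 2 → u = v := by
    intro K hK u hu v hv hu2 hv2
    obtain ⟨w, hw⟩ := IsCyclic.exists_generator (α := K)
    exact congrArg Subtype.val (CfsgLib.Invol.invol_zpowers_unique (z := (⟨u, hu⟩ : K)) (z' := ⟨v, hv⟩)
      (by rw [← Subgroup.orderOf_coe]; exact hu2) (by rw [← Subgroup.orderOf_coe]; exact hv2) (hw _) (hw _))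
  haveI := hBc
  haveI hBn : B.Normal := Subgroup.normal_of_characteristic B
  have hBq : ∀ b ∈ B, orderOf b = 2 → b = q := by
    intro b hb hb2
    refine huniq hZcyc b (Subgroup.mem_center_iff.2 fun x => ?_) q hqc hb2 hqord
    have := huniq hBcyc (x * b * x⁻¹) (hBn.conj_mem b hb x) b hb (CfsgLib.Invol.invol_conj hb2 x) hb2
    exact mul_inv_eq_iff_eq_mul.1 this
  obtain ⟨B', hB'⟩ : ∃ B' : Subgroup G, B' = (B.map (Cfsg.generalizedFittingSubgroup ↥(Subgroup.centralizer ({z} : Set G))).subtype).map (Subgroup.centralizer ({z} : Set G)).subtype := ⟨_, rfl⟩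
  rw [← hB']
  by_cases hmeet : B'.map (MulAut.conj g).toMonoidHom ⊓ B' = ⊥
  · exact Or.inr hmeet
  refine Or.inl ?_
  have hB'p : IsPGroup 2 B' := hB' ▸ (((hQp.to_subgroup B).map _).map _)
  have hinvol : ∀ x ∈ B', orderOf x = 2 → x = z := by
    intro x hx hx2
    rw [hB'] at hx
    obtain ⟨_, ⟨b, hb, rfl⟩, rfl⟩ := hx
    have hb2 : orderOf b = 2 := by rw [← Subgroup.orderOf_coe, ← Subgroup.orderOf_coe]; exact hx2
    rw [hBq b hb hb2]
    show ((q : Subgroup.centralizer ({z} : Set G)) : G) = z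
    rw [hq, hc]
  obtain ⟨x, hx, hx2⟩ : ∃ x ∈ B'.map (MulAut.conj g).toMonoidHom ⊓ B', orderOf x = 2 := by
    refine CfsgLib.Invol.exists_invol_mem ?_
    obtain ⟨k, hk⟩ := (hB'p.to_le (inf_le_right (a := B'.map (MulAut.conj g).toMonoidHom))).exists_card_eq
    rw [hk, Nat.even_pow]
    refine ⟨even_two, fun h0 => hmeet ?_⟩
    rw [h0, pow_zero] at hk
    exact Subgroup.card_eq_one.1 hk
  obtain ⟨⟨y, hy, hyx⟩, hx'⟩ := hx
  have hy2 : orderOf y = 2 := by
    rw [← hx2, ← hyx, MulEquiv.coe_toMonoidHom, MulEquiv.orderOf_eq]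
  have hgC : g ∈ Subgroup.centralizer ({z} : Set G) := by
    rw [Subgroup.mem_centralizer_singleton_iff]
    have h1 : g * z * g⁻¹ = z := by
      have := hinvol _ hx' hx2
      rw [← hyx, hinvol y hy hy2] at this
      exact this
    exact mul_inv_eq_iff_eq_mul.1 h1
  haveI : (B.map (Cfsg.generalizedFittingSubgroup ↥(Subgroup.centralizer ({z} : Set G))).subtype).Normal :=
    CfsgLib.Coprime.map_subtype_normal_of_characteristic _ B
  apply CfsgLib.Invol.conj_map_eq_of_mem_normalizer
  rw [Subgroup.mem_normalizer_iff]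
  intro x
  rw [hB']
  constructor
  · rintro ⟨b, hb, rfl⟩
    exact ⟨⟨g, hgC⟩ * b * ⟨g, hgC⟩⁻¹, (inferInstance : (B.map (Cfsg.generalizedFittingSubgroup ↥(Subgroup.centralizer ({z} : Set G))).subtype).Normal).conj_mem b hb _, rfl⟩
  · rintro ⟨b, hb, hbx⟩
    refine ⟨⟨g, hgC⟩⁻¹ * b * ⟨g, hgC⟩, ?_, ?_⟩
    · simpa using (inferInstance : (B.map (Cfsg.generalizedFittingSubgroup ↥(Subgroup.centralizer ({z} : Set G))).subtype).Normal).conj_mem b hb ⟨g, hgC⟩⁻¹
    · show g⁻¹ * (b : G) * g = x
      rw [show (b : G) = g * x * g⁻¹ from hbx]; group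

end Cfsg.Agent.S1755
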