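import Cfsg.Statements.S1756
import Cfsg.Agent.Lib.Invol.Basic
import Mathlib.GroupTheory.IndexNormal
import Mathlib.GroupTheory.FiniteAbelian.Duality
import Mathlib.RingTheory.RootsOfUnity.AlgebraicallyClosed
import Mathlib.Analysis.Complex.Polynomial.Basic
import Mathlib.GroupTheory.Abelianization.Defs
import Mathlib.Tactic.Group


set_option autoImplicit false
open Cfsg

namespace Cfsg.Agent.S1756

/-- Let Q be an extraspecial 2-subgroup of the finite group G (special with centre of order 2) and t an involution of G normalizing Q such that the centralizer of t in Q has index at most 2 in Q. Then t lies in the product of Q with the centralizer of Q. -/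
theorem result {G : Type*} [Group G] [Finite G] (Q : Subgroup G)
    (hQ : Cfsg.IsExtraspecial 2 ↥Q) (t : G) (ht : orderOf t = 2) (htN : t ∈ Subgroup.normalizer (Q : Set G))
    (hi : (Subgroup.centralizer ({t} : Set G) ⊓ Q).relIndex Q ≤ 2) :
    t ∈ Q ⊔ Subgroup.centralizer (Q : Set G) := by
  classical
  haveI : Fact (Nat.Prime 2) := ⟨Nat.prime_two⟩
  obtain ⟨⟨hQp, hΦ, hcomm⟩, hZ⟩ := hQ
  have ht2 : t * t = 1 := CfsgLib.Invol.invol_mul_self ht
  have hti : t⁻¹ = t := CfsgLib.Invol.invol_inv ht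
  -- the automorphism induced by `t`
  let f : Q →* Q :=
    { toFun := fun x => ⟨t * x * t⁻¹, (Subgroup.mem_normalizer_iff.1 htN x).1 x.2⟩
      map_one' := Subtype.ext (by simp)
      map_mul' := fun a b => Subtype.ext (by simp [mul_assoc]) }
  have hf : ∀ x : Q, ((f x : Q) : G) = t * x * t⁻¹ := fun x => rfl
  obtain ⟨M, hM⟩ : ∃ M : Subgroup Q, M = (Subgroup.centralizer ({t} : Set G) ⊓ Q).subgroupOf Q := ⟨_, rfl⟩
  have hMfix : ∀ x : Q, x ∈ M ↔ f x = x := by
    intro x
    rw [hM, Subgroup.mem_subgroupOf, Subgroup.mem_inf, Subgroup.mem_centralizer_singleton_iff, Subtype.ext_iff, hf,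
      mul_inv_eq_iff_eq_mul]
    exact ⟨fun h => h.1.symm, fun h => ⟨h.symm, x.2⟩⟩
  by_cases htop : M = ⊤
  · refine Subgroup.mem_sup_right (Subgroup.mem_centralizer_iff.2 fun x hx => ?_)
    have h1 : f ⟨x, hx⟩ = ⟨x, hx⟩ := (hMfix _).1 (htop ▸ Subgroup.mem_top _)
    have h2 : t * x * t⁻¹ = x := congrArg Subtype.val h1
    exact (mul_inv_eq_iff_eq_mul.1 h2).symm
  have hM2 : M.index = 2 := by
    have h1 : M.index ≠ 1 := fun h => htop (Subgroup.index_eq_one.1 h)
    have h0 : M.index ≠ 0 := Subgroup.index_ne_zero_of_finite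
    rw [hM] at h1 h0 ⊢
    simp only [Subgroup.relIndex] at hi
    omega
  obtain ⟨x, -, hx⟩ := SetLike.exists_of_lt (lt_top_iff_ne_top.2 htop)
  obtain ⟨m, hm⟩ : ∃ m, m = x⁻¹ * f x := ⟨_, rfl⟩
  have hff : ∀ y, f (f y) = y := fun y => Subtype.ext (by
    rw [hf, hf, hti]
    calc t * (t * (y : G) * t) * t = (t * t) * y * (t * t) := by group
      _ = y := by rw [ht2, one_mul, mul_one])
  have hfx : f x ∉ M := fun h => hx (by
    have := (hMfix _).1 h
    rw [hff] at this
    exact (hMfix x).2 this.symm)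
  haveI : M.Normal := Subgroup.normal_of_index_eq_two hM2
  have hmM : m ∈ M := by
    rw [hm, Subgroup.mul_mem_iff_of_index_two hM2, inv_mem_iff]
    exact iff_of_false hx hfx
  have hxm : f x = x * m := by rw [hm]; group
  have hmne : m ≠ 1 := fun h => hx ((hMfix x).2 (by rw [hxm, h, mul_one]))
  have hmc : ∀ a ∈ M, m * a = a * m := by
    intro a ha
    have h1 : f (x * a * x⁻¹) = x * a * x⁻¹ := (hMfix _).1 ((inferInstance : M.Normal).conj_mem a ha x)
    rw [map_mul, map_mul, map_inv, (hMfix a).1 ha, hxm] at h1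
    apply mul_left_cancel (a := x)
    apply mul_right_cancel (b := m⁻¹ * x⁻¹)
    calc x * (m * a) * (m⁻¹ * x⁻¹) = x * m * a * (x * m)⁻¹ := by group
      _ = x * a * x⁻¹ := h1
      _ = _ := by group
  have hm2 : m * m = 1 := by
    have h1 := hff x
    rw [hxm, map_mul, hxm, (hMfix m).1 hmM, mul_assoc] at h1
    exact mul_eq_left.1 h1
  have hmx : m * x = x * m := by
    have h1 : f (x * x) = x * x := (hMfix _).1 (by rw [Subgroup.mul_mem_iff_of_index_two hM2])
    rw [map_mul, hxm] at h1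
    calc m * x = x⁻¹ * (x * m * (x * m)) * m⁻¹ := by group
      _ = x * m⁻¹ := by rw [h1]; group
      _ = x * m := by rw [inv_eq_of_mul_eq_one_right hm2]
  have hmZ : m ∈ Subgroup.center Q := Subgroup.mem_center_iff.2 fun y => by
    by_cases hy : y ∈ M
    · exact (hmc y hy).symm
    · have h1 : x⁻¹ * y ∈ M := by
        rw [Subgroup.mul_mem_iff_of_index_two hM2, inv_mem_iff]; exact iff_of_false hx hy
      calc y * m = x * ((x⁻¹ * y) * m) := by group
        _ = x * (m * (x⁻¹ * y)) := by rw [hmc _ h1]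
        _ = (x * m) * (x⁻¹ * y) := by group
        _ = (m * x) * (x⁻¹ * y) := by rw [hmx]
        _ = m * y := by group
  have hZel : ∀ u ∈ Subgroup.center Q, u = 1 ∨ u = m := by
    intro u hu
    by_contra hc
    push Not at hc
    haveI := Fintype.ofFinite (Subgroup.center Q)
    classical
    have h3 : ({⟨1, one_mem _⟩, ⟨m, hmZ⟩, ⟨u, hu⟩} : Finset (Subgroup.center Q)).card ≤ 2 := by
      rw [← hZ, Nat.card_eq_fintype_card]; exact Finset.card_le_univ _
    rw [Finset.card_insert_of_notMem (by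
        simp only [Finset.mem_insert, Finset.mem_singleton, Subtype.mk.injEq, not_or]
        exact ⟨Ne.symm hmne, Ne.symm hc.1⟩),
      Finset.card_insert_of_notMem (by
        simp only [Finset.mem_singleton, Subtype.mk.injEq]
        exact Ne.symm hc.2), Finset.card_singleton] at h3
    omega
  -- some inner automorphism agrees with `f`
  have hcl : ∀ u v : Q, u * v * u⁻¹ * v⁻¹ ∈ Subgroup.center Q := fun u v => by
    rw [← hcomm, ← commutatorElement_def]
    exact Subgroup.commutator_mem_commutator (Subgroup.mem_top u) (Subgroup.mem_top v)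
  obtain ⟨σ, hσ⟩ : ∃ σ : Q → ℂˣ, ∀ u, σ u = if u = 1 then 1 else -1 := ⟨_, fun u => rfl⟩
  have hσmul : ∀ u ∈ Subgroup.center Q, ∀ v ∈ Subgroup.center Q, σ (u * v) = σ u * σ v := by
    intro u hu v hv
    rcases hZel u hu with h | h <;> rcases hZel v hv with h' | h' <;>
      rw [h, h'] <;> simp [hσ, hmne, hm2]
  have hhom : ∀ e : Q, ∃ φ : Q →* ℂˣ, ∀ y, φ y = σ (e * y * e⁻¹ * y⁻¹) := by
    intro e
    refine ⟨MonoidHom.mk' (fun y => σ (e * y * e⁻¹ * y⁻¹)) fun a b => ?_, fun y => rfl⟩
    rw [← hσmul _ (hcl e a) _ (hcl e b)]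
    congr 1
    have h := Subgroup.mem_center_iff.1 (hcl e b) a
    calc e * (a * b) * e⁻¹ * (a * b)⁻¹ = (e * a * e⁻¹ * a⁻¹) * (a * (e * b * e⁻¹ * b⁻¹)) * a⁻¹ := by group
      _ = (e * a * e⁻¹ * a⁻¹) * ((e * b * e⁻¹ * b⁻¹) * a) * a⁻¹ := by rw [h]
      _ = _ := by group
  choose φ hφ using hhom
  let Ψ : Q ⧸ Subgroup.center Q → (Abelianization Q →* ℂˣ) := fun q => Abelianization.lift (φ q.out)
  have hinj : Function.Injective Ψ := by
    intro q q' h
    rw [← Quotient.out_eq' q, ← Quotient.out_eq' q', Quotient.eq'', QuotientGroup.leftRel_apply,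
      Subgroup.mem_center_iff]
    intro y
    have h1 : φ q.out y = φ q'.out y := by
      have := congrArg (fun ψ : Abelianization Q →* ℂˣ => ψ (Abelianization.of y)) h
      simpa [Ψ] using this
    rw [hφ, hφ] at h1
    have h2 : q.out * y * q.out⁻¹ * y⁻¹ = q'.out * y * q'.out⁻¹ * y⁻¹ := by
      have hne : (1 : ℂˣ) ≠ -1 := fun h0 => by
        have := congrArg Units.val h0; norm_num at this
      rcases hZel _ (hcl q.out y) with e | e <;> rcases hZel _ (hcl q'.out y) with e' | e' <;>
        rw [e, e'] at h1 ⊢ <;> simp [hσ, hmne, hne, hne.symm] at h1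
    have h3 : q.out * y * q.out⁻¹ = q'.out * y * q'.out⁻¹ := mul_right_cancel h2
    calc y * (q.out⁻¹ * q'.out) = q.out⁻¹ * (q.out * y * q.out⁻¹) * q'.out := by group
      _ = q.out⁻¹ * (q'.out * y * q'.out⁻¹) * q'.out := by rw [h3]
      _ = _ := by group
  letI : CommGroup (Abelianization Q) := inferInstance
  haveI : Finite (Abelianization Q) := Quotient.finite _
  haveI : NeZero (Monoid.exponent (Abelianization Q)) := ⟨Monoid.ExponentExists.of_finite.exponent_ne_zero⟩
  have hcard : Nat.card (Abelianization Q →* ℂˣ) = Nat.card (Q ⧸ Subgroup.center Q) := by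
    rw [CommGroup.card_monoidHom_of_hasEnoughRootsOfUnity, ← hcomm]; rfl
  haveI : Finite (Abelianization Q →* ℂˣ) := Nat.finite_of_card_ne_zero (by rw [hcard]; exact Nat.card_pos.ne')
  have hbij := (Nat.bijective_iff_injective_and_card Ψ).2 ⟨hinj, hcard.symm⟩
  let θ : Q →* ℂˣ := MonoidHom.mk' (fun y => if y ∈ M then 1 else -1) (fun a b => by
    by_cases ha : a ∈ M <;> by_cases hb : b ∈ M <;> simp [ha, hb, Subgroup.mul_mem_iff_of_index_two hM2])
  obtain ⟨q, hq⟩ := hbij.2 (Abelianization.lift θ)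
  obtain ⟨e, he⟩ : ∃ e, e = q.out := ⟨_, rfl⟩
  have hey : ∀ y : Q, e * y * e⁻¹ = f y := by
    intro y
    have h1 : φ e y = θ y := by
      have := congrArg (fun ψ : Abelianization Q →* ℂˣ => ψ (Abelianization.of y)) hq
      simpa [Ψ, ← he] using this
    have hne : (1 : ℂˣ) ≠ -1 := fun h0 => by
      have := congrArg Units.val h0; norm_num at this
    rw [hφ] at h1
    simp only [θ, MonoidHom.mk'_apply] at h1
    have hfy : f y = if y ∈ M then y else m * y := by
      split_ifs with hy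
      · exact (hMfix y).1 hy
      · have h2 : x⁻¹ * y ∈ M := by
          rw [Subgroup.mul_mem_iff_of_index_two hM2, inv_mem_iff]; exact iff_of_false hx hy
        calc f y = f x * f (x⁻¹ * y) := by rw [← map_mul]; congr 1; group
          _ = (x * m) * (x⁻¹ * y) := by rw [hxm, (hMfix _).1 h2]
          _ = (m * x) * (x⁻¹ * y) := by rw [hmx]
          _ = m * y := by group
    rw [hfy]
    rcases hZel _ (hcl e y) with h | h <;> rw [h] at h1 <;> rw [mul_inv_eq_iff_eq_mul] at h <;>
      split_ifs with hy <;> simp [hσ, hmne, hy, hne, hne.symm] at h1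
    · rw [h, one_mul]
    · exact h
  have hfin : (e : G)⁻¹ * t ∈ Subgroup.centralizer (Q : Set G) := by
    rw [Subgroup.mem_centralizer_iff]
    intro y hy
    have h1 : (e : G) * y * (e : G)⁻¹ = t * y * t⁻¹ := congrArg Subtype.val (hey ⟨y, hy⟩)
    calc y * ((e : G)⁻¹ * t) = (e : G)⁻¹ * ((e : G) * y * (e : G)⁻¹) * t := by group
      _ = (e : G)⁻¹ * (t * y * t⁻¹) * t := by rw [h1]
      _ = _ := by group
  have := Subgroup.mul_mem_sup e.2 hfin
  rwa [mul_inv_cancel_left] at this

end Cfsg.Agent.S1756
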