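import Cfsg.Statements.S1774
import Cfsg.Agent.Lib.Invol.SymplecticExpFour
import Cfsg.Agent.Lib.Coprime.Component
import Cfsg.Agent.Lib.Coprime.Fitting

set_option autoImplicit false
open Cfsg

namespace Cfsg.Agent.S1774

open Subgroup
open scoped commutatorElement

variable {G : Type*} [Group G]

/-- What is used of `Q = F*(C(z))`. -/
structure Large (z : G) (Q : Subgroup G) : Prop where
  mem : z ∈ Q
  sq_one : z ^ 2 = 1
  ne_one : z ≠ 1
  le : ∀ q ∈ Q, Commute q z
  normal : ∀ c : G, Commute c z → ∀ q ∈ Q, c * q * c⁻¹ ∈ Q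
  sq : ∀ q ∈ Q, q ^ 2 = 1 ∨ q ^ 2 = z
  comm : ∀ q ∈ Q, ∀ r ∈ Q, ⁅q, r⁆ = 1 ∨ ⁅q, r⁆ = z
  cent : ∀ u ∈ Q, u ^ 2 = 1 → (∀ r ∈ Q, Commute r u) → u = 1 ∨ u = z
  self : ∀ c : G, Commute c z → (∀ q ∈ Q, Commute q c) → c ∈ Q
  two : (∀ c : G, Commute c z → c ^ 4 ∈ Q) → ∀ c : G, Commute c z → c ∈ Q

theorem Large.map {z : G} {Q : Subgroup G} (h : Large z Q) (g : G) :
    Large (g * z * g⁻¹) (Q.map (MulAut.conj g).toMonoidHom) := by
  have hm : ∀ {x : G}, x ∈ Q.map (MulAut.conj g).toMonoidHom → g⁻¹ * x * g ∈ Q := by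
    rintro _ ⟨y, hy, rfl⟩
    simpa [mul_assoc] using hy
  have hi : ∀ {x : G}, g⁻¹ * x * g ∈ Q → x ∈ Q.map (MulAut.conj g).toMonoidHom := fun {x} hx =>
    ⟨_, hx, by simp [mul_assoc]⟩
  have hcj : ∀ {x y : G}, Commute x y → Commute (g⁻¹ * x * g) (g⁻¹ * y * g) := fun {x y} hxy => by
    simpa using hxy.map (MulAut.conj g⁻¹).toMonoidHom
  have hcz : ∀ {x : G}, Commute x (g * z * g⁻¹) → Commute (g⁻¹ * x * g) z := fun {x} hx => by
    simpa [mul_assoc] using hcj hx
  refine ⟨⟨z, h.mem, rfl⟩, by rw [conj_pow, h.sq_one]; group, fun e => h.ne_one (conj_eq_one_iff.1 e),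
    ?_, fun c hc q hq => hi ?_, ?_, ?_, fun u hu hu2 hr => ?_, fun c hc hq => hi ?_, fun hall c hc => hi ?_⟩
  · rintro _ ⟨y, hy, rfl⟩
    exact (h.le y hy).map (MulAut.conj g).toMonoidHom
  · have := h.normal _ (hcz hc) _ (hm hq)
    convert this using 1
    group
  · rintro _ ⟨y, hy, rfl⟩
    rcases h.sq y hy with e | e
    · exact Or.inl (by rw [← map_pow, e, map_one])
    · exact Or.inr (by rw [← map_pow, e]; rfl)
  · rintro _ ⟨y, hy, rfl⟩ _ ⟨w, hw, rfl⟩
    rcases h.comm y hy w hw with e | e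
    · exact Or.inl (by rw [← map_commutatorElement, e, map_one])
    · exact Or.inr (by rw [← map_commutatorElement, e]; rfl)
  · obtain ⟨y, hy, rfl⟩ := hu
    rcases h.cent y hy ((MulAut.conj g).injective (by rw [map_pow, map_one]; exact hu2)) (fun r hr' =>
      Commute.of_map (f := (MulAut.conj g).toMonoidHom) (MulAut.conj g).injective (hr _ ⟨r, hr', rfl⟩))
      with e | e
    · exact Or.inl (by rw [e, map_one])
    · exact Or.inr (by rw [e]; rfl)
  · exact h.self _ (hcz hc) fun q hq' => by simpa [mul_assoc] using hcj (hq _ ⟨q, hq', rfl⟩)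
  · refine h.two (fun d hd => ?_) _ (hcz hc)
    have := hm (hall (g * d * g⁻¹) (by simpa using hd.map (MulAut.conj g).toMonoidHom))
    rw [conj_pow] at this
    simpa [mul_assoc] using this

/-- An involution of a dihedral group of order eight goes back to its class under a square. -/
theorem sq_fix {φ : G →* G} {z a b : G} {I : G → Prop}
    (hφ : Function.Injective φ) (hz : φ z = z) (hzz : z * z = 1)
    (hI : ∀ r, I r → I (φ r)) (hIc : ∀ r, I r → r = a ∨ r = a * z ∨ r = b ∨ r = b * z)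
    (ha : I a) (hb : I b) (hab : a ≠ b ∧ a ≠ b * z) : φ (φ (φ (φ a))) = a := by
  have back : φ (φ a) = a ∨ φ (φ a) = a * z := by
    have two : ∀ r, r = a ∨ r = a * z → φ r = φ a ∨ φ r = φ a * z := by
      rintro r (rfl | rfl)
      · exact Or.inl rfl
      · exact Or.inr (by rw [map_mul, hz])
    have inpair : φ a = a ∨ φ a = a * z → φ (φ a) = a ∨ φ (φ a) = a * z := by
      rintro (e | e) <;> simp only [e, map_mul, hz, mul_assoc, hzz, mul_one, or_true, true_or]
    rcases hIc _ (hI a ha) with e | e | e | e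
    · exact inpair (Or.inl e)
    · exact inpair (Or.inr e)
    all_goals
      have hne : φ b = a ∨ φ b = a * z := by
        rcases hIc _ (hI b hb) with f | f | f | f
        · exact Or.inl f
        · exact Or.inr f
        all_goals
          exfalso
          rcases hab with ⟨h1, h2⟩
          first
          | exact h1 (hφ (e.trans f.symm))
          | (refine h2 (hφ ?_); rw [map_mul, hz, f, e]; done)
          | (refine h2 (hφ ?_); rw [map_mul, hz, f, e, mul_assoc, hzz, mul_one]; done)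
      rcases hne with f | f <;>
        simp only [e, f, map_mul, hz, mul_assoc, hzz, mul_one, or_true, true_or]
  rcases back with e | e
  · rw [e, e]
  · rw [e, map_mul, map_mul, hz, hz, e, mul_assoc, hzz, mul_one]

/-- The involution lies in the conjugate. -/
theorem mem_conj [Finite G] {z : G} {Q : Subgroup G} (h : Large z Q) {g : G}
    (hne : g * z * g⁻¹ ≠ z) (hin : g * z * g⁻¹ ∈ Q) :
    z ∈ Q.map (MulAut.conj g).toMonoidHom := by
  classical
  have h' := h.map g
  set z' := g * z * g⁻¹ with hz'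
  set Q' := Q.map (MulAut.conj g).toMonoidHom with hQ'
  clear_value z'
  by_contra hzQ'
  have hzz' : Commute z z' := (h.le z' hin).symm
  have hzinv : z⁻¹ = z := inv_eq_of_mul_eq_one_right (by rw [← pow_two, h.sq_one])
  have hz'z : z' * z' = 1 := by rw [← pow_two, h'.sq_one]
  obtain ⟨q, hq, hqz⟩ : ∃ q ∈ Q, q * z' * q⁻¹ = z * z' := by
    by_contra hno
    push Not at hno
    refine (h.cent z' hin h'.sq_one fun r hr => ?_).elim h'.ne_one hne
    rcases h.comm r hr z' hin with e | e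
    · exact commutatorElement_eq_one_iff_commute.1 e
    · exact absurd (by rw [← e, commutatorElement_def]; group) (hno r hr)
  -- the centralizer of `Q₀`
  have hL : ∀ u ∈ Q, u ^ 2 = 1 → (∀ s ∈ Q, Commute s z' → Commute s u) →
      u = 1 ∨ u = z ∨ u = z' ∨ u = z * z' := by
    intro u hu hu2 hs
    have hgen : ∀ v ∈ Q, (∀ s ∈ Q, Commute s z' → Commute s v) → Commute q v →
        ∀ r ∈ Q, Commute r v := by
      intro v hv hvs hvq r hr
      rcases h.comm r hr z' hin with e | e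
      · exact hvs r hr (commutatorElement_eq_one_iff_commute.1 e)
      · have hr' : Commute (q⁻¹ * r) z' := by
          have e1 : r * z' * r⁻¹ = z * z' := by rw [← e, commutatorElement_def]; group
          unfold Commute SemiconjBy
          calc q⁻¹ * r * z' = q⁻¹ * (r * z' * r⁻¹) * r := by group
            _ = q⁻¹ * (q * z' * q⁻¹) * r := by rw [e1, hqz]
            _ = z' * (q⁻¹ * r) := by group
        simpa using hvq.mul_left (hvs _ (mul_mem (inv_mem hq) hr) hr')
    rcases h.comm q hq u hu with e | e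
    · rcases h.cent u hu hu2 (hgen u hu hs (commutatorElement_eq_one_iff_commute.1 e)) with e | e
      · exact Or.inl e
      · exact Or.inr (Or.inl e)
    · have hz'u : Commute z' u := hs z' hin (Commute.refl z')
      have e1 : q * u * q⁻¹ = z * u := by rw [← e, commutatorElement_def]; group
      have hqv : Commute q (u * z') := by
        refine mul_inv_eq_iff_eq_mul.1 ?_
        have huz : Commute u z := h.le u hu
        calc q * (u * z') * q⁻¹ = (q * u * q⁻¹) * (q * z' * q⁻¹) := by group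
          _ = z * u * (z * z') := by rw [e1, hqz]
          _ = u * (z * z) * z' := by rw [← huz.eq]; group
          _ = u * z' := by rw [← pow_two, h.sq_one, mul_one]
      rcases h.cent (u * z') (mul_mem hu hin) (by rw [hz'u.symm.mul_pow, hu2, h'.sq_one, mul_one])
        (hgen _ (mul_mem hu hin) (fun s hsQ hsz => (hs s hsQ hsz).mul_right hsz) hqv) with e | e
      · exact Or.inr (Or.inr (Or.inl (by rw [← mul_one u, ← hz'z, ← mul_assoc, e, one_mul])))
      · exact Or.inr (Or.inr (Or.inr (by rw [← mul_one u, ← hz'z, ← mul_assoc, e])))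
  -- elements of `Q'` moving `z` to `z z'`
  have hcycle : ∀ x ∈ Q', x * z * x⁻¹ ≠ z * z' := by
    intro x hx e
    have hxz' : Commute x z' := h'.le x hx
    set c := g⁻¹ * (q * x) with hc
    have hh : q * x * z * (q * x)⁻¹ = z' := by
      rw [show q * x * z * (q * x)⁻¹ = q * (x * z * x⁻¹) * q⁻¹ by group, e,
        show q * (z * z') * q⁻¹ = q * z * q⁻¹ * (q * z' * q⁻¹) by group, hqz,
        (h.le q hq).eq, mul_inv_cancel_right, ← mul_assoc, ← pow_two, h.sq_one, one_mul]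
    have hcC : Commute c z := by
      have e2 : c * z * c⁻¹ = z := by
        calc c * z * c⁻¹ = g⁻¹ * (q * x * z * (q * x)⁻¹) * g := by rw [hc]; group
          _ = z := by rw [hh, hz']; group
      exact mul_inv_eq_iff_eq_mul.1 e2
    have h1 : z * z' ∈ Q' := ⟨c * z' * c⁻¹, h.normal c hcC z' hin, by
      show g * (c * z' * c⁻¹) * g⁻¹ = z * z'
      rw [show g * (c * z' * c⁻¹) * g⁻¹ = q * (x * z' * x⁻¹) * q⁻¹ by rw [hc]; group, hxz'.eq,
        mul_inv_cancel_right, hqz]⟩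
    refine hzQ' ?_
    have h2 := mul_mem h1 h'.mem
    rwa [mul_assoc, hz'z, mul_one] at h2
  set Z' := zpowers z' with hZ'
  have hZc : ∀ c ∈ Z', ∀ y, Commute y z' → Commute y c := by
    rintro _ ⟨k, rfl⟩ y hy
    exact hy.zpow_right k
  have hZQ : Z' ≤ Q' := zpowers_le.2 h'.mem
  have hZ2 : ∀ c : G, c = 1 ∨ c = z' → c ∈ Z' := by
    rintro c (rfl | rfl)
    · exact one_mem _
    · exact mem_zpowers _
  have hK : ∀ x ∈ Q', x⁻¹ * (z * x * z⁻¹) = 1 ∨ x⁻¹ * (z * x * z⁻¹) = z' → Commute x z := by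
    rintro x hx (e | e)
    · rw [inv_mul_eq_one, eq_mul_inv_iff_mul_eq] at e
      exact e
    · refine absurd ?_ (hcycle x⁻¹ (inv_mem hx))
      rw [hzz'.eq, inv_inv]
      calc x⁻¹ * z * x = (x⁻¹ * (z * x * z⁻¹)) * z := by group
        _ = z' * z := by rw [e]
  have hsqQ' : ∀ a ∈ Q', a ^ 2 ∈ Z' := fun a ha => hZ2 _ (h'.sq a ha)
  have hcmQ' : ∀ a ∈ Q', ∀ b ∈ Q', ⁅a, b⁆ ∈ Z' := fun a ha b hb => hZ2 _ (h'.comm a ha b hb)
  have hZ'2 : ∀ c ∈ Z', c = 1 ∨ c = z' := by
    rintro _ ⟨k, rfl⟩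
    rcases Int.even_or_odd k with ⟨m, rfl⟩ | ⟨m, rfl⟩
    · exact Or.inl (by dsimp only; rw [← two_mul, zpow_mul, zpow_ofNat, h'.sq_one, one_zpow])
    · exact Or.inr (by dsimp only; rw [zpow_add, zpow_mul, zpow_ofNat, h'.sq_one, one_zpow, one_mul, zpow_one])
  have hR : ∀ u ∈ Q, u ∈ Q' → u ∈ Z' := by
    intro u hu hu'
    have h1 : ∀ w, w = 1 ∨ w = z → w ∈ Q' → w = 1 := by
      rintro w (e | e) hw
      · exact e
      · exact absurd (e ▸ hw) hzQ'
    have hu2 : u ^ 2 = 1 := h1 _ (h.sq u hu) (pow_mem hu' 2)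
    have hs : ∀ s ∈ Q, Commute s z' → Commute s u := fun s hs hsz => by
      refine commutatorElement_eq_one_iff_commute.1 (h1 _ (h.comm s hs u hu) ?_)
      rw [commutatorElement_def]
      exact mul_mem (h'.normal s hsz u hu') (inv_mem hu')
    rcases hL u hu hu2 hs with e | e | e | e
    · rw [e]; exact one_mem _
    · exact absurd (e ▸ hu') hzQ'
    · rw [e]; exact mem_zpowers _
    · refine absurd ?_ hzQ'
      have h2 := mul_mem (e ▸ hu' : z * z' ∈ Q') h'.mem
      rwa [mul_assoc, hz'z, mul_one] at h2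
  -- elements centralizing `Q' ∩ C` lie in `C`
  have hM : ∀ y ∈ Q', (∀ p ∈ Q', Commute p z → Commute y p) → Commute y z := by
    intro y hy hyp
    let σ := MulAut.conj z
    have hσQ : ∀ u ∈ Q', σ u ∈ Q' := fun u hu => h'.normal z hzz' u hu
    have hσZ : ∀ c ∈ Z', σ c = c := fun c hc => by
      rw [MulAut.conj_apply, (hZc c hc z hzz').eq, mul_inv_cancel_right]
    have hσσ : ∀ u, σ (σ u) = u := fun u => by
      simp only [σ, MulAut.conj_apply, hzinv]
      rw [← mul_assoc, ← mul_assoc, ← pow_two, h.sq_one, one_mul, mul_assoc, ← pow_two, h.sq_one,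
        mul_one]
    have hv : ∀ u ∈ Q', Commute y (u⁻¹ * σ u) := by
      intro u hu
      have hvQ : u⁻¹ * σ u ∈ Q' := mul_mem (inv_mem hu) (hσQ u hu)
      refine hyp _ hvQ (hK _ hvQ (hZ'2 _ ?_))
      show (u⁻¹ * σ u)⁻¹ * σ (u⁻¹ * σ u) ∈ Z'
      rw [map_mul, map_inv, hσσ, show (u⁻¹ * σ u)⁻¹ * ((σ u)⁻¹ * u) = ((u⁻¹ * σ u) ^ 2)⁻¹ by
        rw [pow_two]; group]
      exact inv_mem (hsqQ' _ hvQ)
    have hwQ : y⁻¹ * σ y ∈ Q' := mul_mem (inv_mem hy) (hσQ y hy)
    have hwc : ∀ u ∈ Q', Commute u (y⁻¹ * σ y) := by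
      intro u hu
      have h1 : ⁅σ y, u⁆ = ⁅y, σ u⁆ := by
        conv_lhs => rw [← hσσ u]
        rw [← map_commutatorElement, hσZ _ (hcmQ' y hy _ (hσQ u hu))]
      have h2 : ⁅y, σ u⁆ = ⁅y, u⁆ := by
        rw [show ⁅y, σ u⁆ = ⁅y, u⁆ * (u * ⁅y, u⁻¹ * σ u⁆ * u⁻¹) by simp only [commutatorElement_def]; group,
          commutatorElement_eq_one_iff_commute.2 (hv u hu)]
        group
      have h3 : ⁅σ y, u⁆ = y * ⁅y⁻¹ * σ y, u⁆ * y⁻¹ * ⁅y, u⁆ := by
        simp only [commutatorElement_def]; group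
      rw [h1, h2, right_eq_mul, conj_eq_one_iff, commutatorElement_eq_one_iff_commute] at h3
      exact h3.symm
    have hw2 : (y⁻¹ * σ y) ^ 2 = 1 := by
      have e1 : (σ y) ^ 2 = y ^ 2 := by rw [← map_pow, hσZ _ (hsqQ' y hy)]
      have e2 : Commute y (y⁻¹ * σ y) := hwc y hy
      rw [show σ y = y * (y⁻¹ * σ y) by group, e2.mul_pow, mul_eq_left] at e1
      exact e1
    exact hK y hy (h'.cent _ hwQ hw2 hwc)
  -- the action of `Q₀`
  have hd : ∀ s ∈ Q, Commute s z' → ∀ x ∈ Q', x⁻¹ * (s * x * s⁻¹) ∈ Q' ∧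
      ∀ t ∈ Q, Commute t z' → (x⁻¹ * (s * x * s⁻¹))⁻¹ * (t * (x⁻¹ * (s * x * s⁻¹)) * t⁻¹) ∈ Z' := by
    intro s hs hsz x hx
    have hP : ∀ p ∈ Q', Commute p z → ∀ t ∈ Q, Commute t z' → p⁻¹ * (t * p * t⁻¹) ∈ Z' := by
      intro p hp hpz t ht htz
      refine hR _ ?_ (mul_mem (inv_mem hp) (h'.normal t htz p hp))
      rw [show p⁻¹ * (t * p * t⁻¹) = p⁻¹ * t * (p⁻¹)⁻¹ * t⁻¹ by group]
      exact mul_mem (h.normal _ hpz.inv_left t ht) (inv_mem ht)
    have hdQ : x⁻¹ * (s * x * s⁻¹) ∈ Q' := mul_mem (inv_mem hx) (h'.normal s hsz x hx)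
    refine ⟨hdQ, fun t ht htz => hP _ hdQ (hM _ hdQ fun p hp hpz => ?_) t ht htz⟩
    have he := hP p hp hpz s⁻¹ (inv_mem hs) hsz.inv_left
    rw [inv_inv] at he
    have hc : ⁅x, s⁻¹ * p * s⁆ = ⁅x, p⁆ := by
      have hcc := hZc _ he x (h'.le x hx)
      rw [show s⁻¹ * p * s = p * (p⁻¹ * (s⁻¹ * p * s)) by group,
        show ⁅x, p * (p⁻¹ * (s⁻¹ * p * s))⁆ = ⁅x, p⁆ * (p * ⁅x, p⁻¹ * (s⁻¹ * p * s)⁆ * p⁻¹) by
          simp only [commutatorElement_def]; group,
        commutatorElement_eq_one_iff_commute.2 hcc]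
      group
    have hcs : ⁅s * x * s⁻¹, p⁆ = ⁅x, p⁆ := by
      have hcZ := hcmQ' x hx p hp
      rw [show ⁅s * x * s⁻¹, p⁆ = s * ⁅x, s⁻¹ * p * s⁆ * s⁻¹ by simp only [commutatorElement_def]; group,
        hc, (hZc _ hcZ s hsz).eq, mul_inv_cancel_right]
    refine commutatorElement_eq_one_iff_commute.1 ?_
    rw [show ⁅x⁻¹ * (s * x * s⁻¹), p⁆ = x⁻¹ * ⁅s * x * s⁻¹, p⁆ * ⁅x, p⁆⁻¹ * x by
      simp only [commutatorElement_def]; group, hcs]
    group
  -- `z` is trivial on `Q'` modulo `z'`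
  suffices key : ∀ y ∈ Q', y⁻¹ * (z * y * z⁻¹) ∈ Z' by
    exact hzQ' (h'.self z hzz' fun y hy => hK y hy (hZ'2 _ (key y hy)))
  have two : ∀ t ∈ Q, Commute t z' → ∀ s ∈ Q, Commute s z' → ∀ x ∈ Q', ∃ c ∈ Z',
      t * s * x * (t * s)⁻¹ = x * (x⁻¹ * (t * x * t⁻¹)) * (x⁻¹ * (s * x * s⁻¹)) * c := by
    intro t ht htz s hs hsz x hx
    exact ⟨_, (hd s hs hsz x hx).2 t ht htz, by group⟩
  by_cases hel : (∃ s ∈ Q, Commute s z' ∧ s ^ 2 = z) ∨
      ∃ s ∈ Q, ∃ t ∈ Q, Commute s z' ∧ Commute t z' ∧ ⁅t, s⁆ = z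
  · intro y hy
    rcases hel with ⟨s, hs, hsz, hs2⟩ | ⟨s, hs, t, ht, hsz, htz, hts⟩
    · obtain ⟨c, hc, e⟩ := two s hs hsz s hs hsz y hy
      rw [← pow_two, hs2] at e
      rw [e, mul_assoc y, ← pow_two, mul_assoc, inv_mul_cancel_left]
      exact mul_mem (hsqQ' _ (hd s hs hsz y hy).1) hc
    · set x := (s * t)⁻¹ * y * (s * t) with hx
      have hxQ : x ∈ Q' := by
        have := h'.normal (s * t)⁻¹ (hsz.mul_left htz).inv_left y hy
        rwa [inv_inv] at this
      obtain ⟨c, hc, e⟩ := two t ht htz s hs hsz x hxQ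
      obtain ⟨c', hc', e'⟩ := two s hs hsz t ht htz x hxQ
      rw [show s * t * x * (s * t)⁻¹ = y by rw [hx]; group] at e'
      have hts' : t * s = z * (s * t) := by rw [← hts, commutatorElement_def]; group
      have ey : z * y * z⁻¹ = t * s * x * (t * s)⁻¹ := by rw [hts', hx]; group
      set a := x⁻¹ * (t * x * t⁻¹)
      set b := x⁻¹ * (s * x * s⁻¹)
      rw [ey, e, e', show (x * b * a * c')⁻¹ * (x * a * b * c) = c'⁻¹ * ⁅a⁻¹, b⁻¹⁆ * c by
        rw [commutatorElement_def]; group]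
      exact mul_mem (mul_mem (inv_mem hc') (hcmQ' _ (inv_mem (hd t ht htz x hxQ).1) _
        (inv_mem (hd s hs hsz x hxQ).1))) hc
  -- otherwise `Q` has order eight
  exfalso
  push Not at hel
  obtain ⟨hel1, hel2⟩ := hel
  have hQ0 : ∀ u ∈ Q, Commute u z' → u = 1 ∨ u = z ∨ u = z' ∨ u = z * z' := fun u hu huz =>
    hL u hu ((h.sq u hu).resolve_right (hel1 u hu huz)) fun s hs hsz =>
      commutatorElement_eq_one_iff_commute.1 ((h.comm s hs u hu).resolve_right (hel2 u hu s hs huz hsz))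
  obtain ⟨b, hb, hb2, hbz⟩ : ∃ b ∈ Q, b ^ 2 = 1 ∧ b * z' * b⁻¹ = z * z' := by
    rcases h.sq q hq with e | e
    · exact ⟨q, hq, e, hqz⟩
    refine ⟨q * z', mul_mem hq hin, ?_, by rw [← hqz]; group⟩
    have e1 : q * z' = z * z' * q := mul_inv_eq_iff_eq_mul.1 hqz
    calc (q * z') ^ 2 = q * z' * (q * z') := pow_two _
      _ = z * z' * q * (q * z') := by nth_rw 1 [e1]
      _ = z * z' * (q ^ 2) * z' := by rw [pow_two]; group
      _ = z * (z' * z) * z' := by rw [e]; group
      _ = 1 := by rw [← hzz'.eq, ← mul_assoc, ← pow_two, h.sq_one, one_mul, hz'z]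
  have hzQ : Commute b z := h.le b hb
  let I : G → Prop := fun r => r ∈ Q ∧ r ^ 2 = 1 ∧ r ≠ 1 ∧ r ≠ z
  have hbI : I b := ⟨hb, hb2, fun e => h.ne_one (by
      rw [e, inv_one, mul_one, one_mul, right_eq_mul] at hbz; exact hbz),
    fun e => h.ne_one (by rw [e, hzz'.eq, mul_inv_cancel_right, left_eq_mul] at hbz; exact hbz)⟩
  have hzI : I z' := ⟨hin, h'.sq_one, h'.ne_one, hne⟩
  have hne2 : ∀ w, Commute w z' → b ≠ w := fun w hw e => h.ne_one (by
    rw [e, hw.eq, mul_inv_cancel_right, right_eq_mul] at hbz; exact hbz)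
  have hIc : ∀ r, I r → r = z' ∨ r = z' * z ∨ r = b ∨ r = b * z := by
    rintro r ⟨hr, hr2, hr1, hrz⟩
    rcases h.comm r hr z' hin with e | e
    · rcases hQ0 r hr (commutatorElement_eq_one_iff_commute.1 e) with e | e | e | e
      · exact absurd e hr1
      · exact absurd e hrz
      · exact Or.inl e
      · exact Or.inr (Or.inl (by rw [e, hzz'.eq]))
    · have e1 : r * z' * r⁻¹ = z * z' := by rw [← e, commutatorElement_def]; group
      have hr' : Commute (b⁻¹ * r) z' := by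
        unfold Commute SemiconjBy
        calc b⁻¹ * r * z' = b⁻¹ * (r * z' * r⁻¹) * r := by group
          _ = b⁻¹ * (b * z' * b⁻¹) * r := by rw [e1, hbz]
          _ = z' * (b⁻¹ * r) := by group
      have hbad : (b * z') ^ 2 = z := by
        have e2 : b * z' = z * z' * b := mul_inv_eq_iff_eq_mul.1 hbz
        calc (b * z') ^ 2 = b * z' * (b * z') := pow_two _
          _ = z * z' * b * (b * z') := by nth_rw 1 [e2]
          _ = z * z' * (b ^ 2) * z' := by rw [pow_two]; group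
          _ = z := by rw [hb2, mul_one, mul_assoc, hz'z, mul_one]
      rcases hQ0 _ (mul_mem (inv_mem hb) hr) hr' with e | e | e | e
      · exact Or.inr (Or.inr (Or.inl (inv_mul_eq_one.1 e).symm))
      · exact Or.inr (Or.inr (Or.inr (inv_mul_eq_iff_eq_mul.1 e)))
      · rw [inv_mul_eq_iff_eq_mul.1 e] at hr2
        exact absurd (hbad.symm.trans hr2) h.ne_one
      · rw [inv_mul_eq_iff_eq_mul.1 e, ← mul_assoc, hzQ.eq, mul_assoc] at hr2
        have hzb : Commute z (b * z') := hzQ.symm.mul_right hzz'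
        rw [hzb.mul_pow, h.sq_one, one_mul] at hr2
        exact absurd (hbad.symm.trans hr2) h.ne_one
  have hC4 : ∀ c : G, Commute c z → c ^ 4 ∈ Q := by
    intro c hc
    let φ := (MulAut.conj c).toMonoidHom
    have hφz : φ z = z := by
      show c * z * c⁻¹ = z
      rw [hc.eq, mul_inv_cancel_right]
    have hI : ∀ r, I r → I (φ r) := fun r ⟨h1, h2, h3, h4⟩ => ⟨h.normal c hc r h1,
      by rw [← map_pow, h2, map_one], fun e => h3 ((MulAut.conj c).injective (e.trans (map_one _).symm)),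
      fun e => h4 ((MulAut.conj c).injective (e.trans hφz.symm))⟩
    have hzz : z * z = 1 := by rw [← pow_two, h.sq_one]
    have hfix : ∀ r, φ (φ (φ (φ r))) = r → Commute (c ^ 4) r := fun r hr => by
      have e : c ^ 4 * r * (c ^ 4)⁻¹ = r := by
        rw [show c ^ 4 * r * (c ^ 4)⁻¹ = c * (c * (c * (c * r * c⁻¹) * c⁻¹) * c⁻¹) * c⁻¹ by
          rw [show c ^ 4 = c * c * c * c by simp [pow_succ, mul_assoc]]; group]
        exact hr
      exact mul_inv_eq_iff_eq_mul.1 e
    have hz4 := hfix z' (sq_fix (MulAut.conj c).injective hφz hzz hI hIc hzI hbI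
      ⟨(hne2 z' (Commute.refl z')).symm, fun e => hne2 (z' * z) ((Commute.refl z').mul_left hzz') (by
        rw [e, mul_assoc, hzz, mul_one])⟩)
    have hb4 := hfix b (sq_fix (MulAut.conj c).injective hφz hzz hI (fun r hr => by
        rcases hIc r hr with e | e | e | e <;> simp [e]) hbI hzI
      ⟨hne2 z' (Commute.refl z'), hne2 (z' * z) ((Commute.refl z').mul_left hzz')⟩)
    refine h.self _ (hc.pow_left 4) fun r hr => ?_
    have hz4' : Commute (c ^ 4) z := hc.pow_left 4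
    have hE : ∀ u, u = 1 ∨ u = z ∨ u = z' ∨ u = z * z' → Commute (c ^ 4) u := by
      rintro u (rfl | rfl | rfl | rfl)
      exacts [Commute.one_right _, hz4', hz4, hz4'.mul_right hz4]
    rcases h.comm r hr z' hin with e | e
    · exact (hE r (hQ0 r hr (commutatorElement_eq_one_iff_commute.1 e))).symm
    · have e1 : r * z' * r⁻¹ = z * z' := by rw [← e, commutatorElement_def]; group
      have hr' : Commute (b⁻¹ * r) z' := by
        unfold Commute SemiconjBy
        calc b⁻¹ * r * z' = b⁻¹ * (r * z' * r⁻¹) * r := by group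
          _ = b⁻¹ * (b * z' * b⁻¹) * r := by rw [e1, hbz]
          _ = z' * (b⁻¹ * r) := by group
      have := hb4.mul_right (hE _ (hQ0 _ (mul_mem (inv_mem hb) hr) hr'))
      rw [mul_inv_cancel_left] at this
      exact this.symm
  -- then `C = Q`, and likewise for the conjugate
  exact hzQ' (h'.two (fun c hc => by
    obtain ⟨d, hd, rfl⟩ : ∃ d, Commute d z ∧ g * d * g⁻¹ = c := ⟨g⁻¹ * c * g, by
      simpa [mul_assoc, hz'] using hc.map (MulAut.conj g⁻¹).toMonoidHom, by group⟩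
    rw [conj_pow]
    exact ⟨d ^ 4, hC4 d hd, rfl⟩) z hzz')

/-- Let G be a finite group and let z be an involution of G such that Q, the generalized Fitting subgroup of the centralizer C of z, is a 2-group of symplectic type (every characteristic abelian subgroup of Q is cyclic); suppose every element of Q has order dividing 4. Let g ∈ G with z' = g z g⁻¹ ≠ z and z' ∈ Q. Then z lies in the conjugate g Q g⁻¹, and the subgroup X generated by Q and g Q g⁻¹ induces every automorphism of the four-group generated by z and z': for any two distinct non-identity elements u, v of that four-group there is x ∈ X with x z x⁻¹ = u and x z' x⁻¹ = v. -/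
theorem result {G : Type*} [Group G] [Finite G] (z : G) (hz : orderOf z = 2) (hQ : Cfsg.IsOfSymplecticType ↥(Cfsg.generalizedFittingSubgroup ↥(Subgroup.centralizer ({z} : Set G))))
    (h4 : ∀ q ∈ (Cfsg.generalizedFittingSubgroup ↥(Subgroup.centralizer ({z} : Set G))).map (Subgroup.centralizer ({z} : Set G)).subtype, q ^ 4 = 1) (g : G) (hne : g * z * g⁻¹ ≠ z) (hin : g * z * g⁻¹ ∈ (Cfsg.generalizedFittingSubgroup ↥(Subgroup.centralizer ({z} : Set G))).map (Subgroup.centralizer ({z} : Set G)).subtype) :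
    z ∈ ((Cfsg.generalizedFittingSubgroup ↥(Subgroup.centralizer ({z} : Set G))).map (Subgroup.centralizer ({z} : Set G)).subtype).map (MulAut.conj g).toMonoidHom ∧
      ∀ u ∈ Subgroup.closure ({z, g * z * g⁻¹} : Set G), ∀ v ∈ Subgroup.closure ({z, g * z * g⁻¹} : Set G),
        u ≠ 1 → v ≠ 1 → u ≠ v →
          ∃ x ∈ (Cfsg.generalizedFittingSubgroup ↥(Subgroup.centralizer ({z} : Set G))).map (Subgroup.centralizer ({z} : Set G)).subtype ⊔ ((Cfsg.generalizedFittingSubgroup ↥(Subgroup.centralizer ({z} : Set G))).map (Subgroup.centralizer ({z} : Set G)).subtype).map (MulAut.conj g).toMonoidHom, x * z * x⁻¹ = u ∧ x * (g * z * g⁻¹) * x⁻¹ = v := by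
  classical
  set F := Cfsg.generalizedFittingSubgroup ↥(Subgroup.centralizer ({z} : Set G)) with hF
  set Q := F.map (Subgroup.centralizer ({z} : Set G)).subtype with hQdef
  haveI hFn : F.Normal := CfsgLib.Coprime.generalizedFitting_normal
  haveI : Fact (Nat.Prime 2) := ⟨Nat.prime_two⟩
  have hC : ∀ {x : G}, x ∈ Subgroup.centralizer ({z} : Set G) ↔ Commute x z := fun {x} =>
    Subgroup.mem_centralizer_singleton_iff
  have hzC : z ∈ Subgroup.centralizer ({z} : Set G) := hC.2 (Commute.refl z)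
  have hcentC : ∀ y : ↥(Subgroup.centralizer ({z} : Set G)), (∀ q ∈ F, q * y = y * q) → y ∈ F :=
    fun y hy => CfsgLib.Coprime.centralizer_generalizedFitting_le (mem_centralizer_iff.2 hy)
  have hzF : (⟨z, hzC⟩ : ↥(Subgroup.centralizer ({z} : Set G))) ∈ F :=
    hcentC _ fun q _ => Subtype.ext (hC.1 q.2)
  set zF : F := ⟨⟨z, hzC⟩, hzF⟩ with hzFdef
  have hz2 : z ^ 2 = 1 := by rw [← hz, pow_orderOf_eq_one]
  have hz1 : z ≠ 1 := fun e => by rw [e, orderOf_one] at hz; exact absurd hz (by norm_num)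
  have hzc : zF ∈ Subgroup.center F := mem_center_iff.2 fun q => Subtype.ext (Subtype.ext (hC.1 (q : ↥(Subgroup.centralizer ({z} : Set G))).2))
  have hzF2 : zF ^ 2 = 1 := Subtype.ext (Subtype.ext hz2)
  have hzF1 : zF ≠ 1 := fun e => hz1 (congrArg (fun q : F => ((q : ↥(Subgroup.centralizer ({z} : Set G))) : G)) e)
  have h4' : ∀ x : F, x ^ 4 = 1 := fun x => Subtype.ext (Subtype.ext (h4 _ ⟨x.1, x.2, rfl⟩))
  obtain ⟨hsq, hcm⟩ := CfsgLib.Invol.SymplecticExpFour.sq_commutator hQ h4' hzc hzF2 hzF1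
  let ι : F →* G := (Subgroup.centralizer ({z} : Set G)).subtype.comp F.subtype
  have hι : Function.Injective ι := (Subgroup.subtype_injective _).comp F.subtype_injective
  have hmem : ∀ {q : G}, q ∈ Q → ∃ a : F, ι a = q := by
    rintro _ ⟨a, ha, rfl⟩; exact ⟨⟨a, ha⟩, rfl⟩
  have hL : Large z Q := by
    refine ⟨⟨_, hzF, rfl⟩, hz2, hz1, ?_, fun c hc q hq => ?_, fun q hq => ?_, fun q hq r hr => ?_,
      fun u hu hu2 hr => ?_, fun c hc hq => ?_, fun hall c hc => ?_⟩
    · rintro _ ⟨a, -, rfl⟩; exact hC.1 a.2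
    · obtain ⟨a, ha, rfl⟩ := hq
      exact ⟨⟨c, hC.2 hc⟩ * a * ⟨c, hC.2 hc⟩⁻¹, hFn.conj_mem a ha _, rfl⟩
    · obtain ⟨a, rfl⟩ := hmem hq
      exact (hsq a).imp (fun e => by rw [← map_pow, e, map_one]) fun e => by rw [← map_pow, e]; rfl
    · obtain ⟨a, rfl⟩ := hmem hq
      obtain ⟨b, rfl⟩ := hmem hr
      exact (hcm a b).imp (fun e => by rw [← map_commutatorElement, e, map_one])
        fun e => by rw [← map_commutatorElement, e]; rfl
    · obtain ⟨a, rfl⟩ := hmem hu
      have ha : a ∈ Subgroup.center F := mem_center_iff.2 fun b => hι (by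
        rw [map_mul, map_mul]; exact hr _ ⟨b, b.2, rfl⟩)
      exact (CfsgLib.Invol.SymplecticExpFour.center_invol hQ hzc hzF2 hzF1 ha (hι (by rw [map_pow, map_one]; exact hu2))).imp
        (fun e => by rw [e, map_one]) fun e => by rw [e]; rfl
    · exact ⟨⟨c, hC.2 hc⟩, hcentC _ fun a ha => Subtype.ext (hq _ ⟨a, ha, rfl⟩), rfl⟩
    · have hp : IsPGroup 2 ↥(Subgroup.centralizer ({z} : Set G)) := by
        intro x
        obtain ⟨a, ha, e⟩ := hall x (hC.1 x.2)
        obtain ⟨j, hj⟩ := hQ.1 ⟨a, ha⟩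
        refine ⟨2 + j, Subtype.ext ?_⟩
        rw [SubmonoidClass.coe_pow, pow_add, pow_mul, show 2 ^ 2 = 4 from rfl, ← e,
          ← map_pow]
        exact congrArg Subtype.val (congrArg Subtype.val hj)
      haveI := hp.isNilpotent
      haveI : Group.IsNilpotent (⊤ : Subgroup ↥(Subgroup.centralizer ({z} : Set G))) :=
        Group.isNilpotent_top.2 inferInstance
      exact ⟨⟨c, hC.2 hc⟩, CfsgLib.Coprime.fitting_le_generalizedFitting (CfsgLib.Coprime.le_fitting
        (N := (⊤ : Subgroup _)) inferInstance (mem_top _)), rfl⟩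
  set z' := g * z * g⁻¹ with hz'
  set Q' := Q.map (MulAut.conj g).toMonoidHom with hQ'
  have hzQ' : z ∈ Q' := mem_conj hL hne hin
  refine ⟨hzQ', ?_⟩
  have hL' := hL.map g
  have moves : ∀ {w u : G} {P : Subgroup G}, Large w P → u ∈ P → u ^ 2 = 1 → u ≠ 1 → u ≠ w →
      ∃ r ∈ P, r * u * r⁻¹ = w * u := by
    intro w u P hP hu hu2 hu1 huw
    by_contra hno
    push Not at hno
    refine (hP.cent u hu hu2 fun r hr => ?_).elim hu1 huw
    rcases hP.comm r hr u hu with e | e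
    · exact commutatorElement_eq_one_iff_commute.1 e
    · exact absurd (by rw [← e, commutatorElement_def]; group) (hno r hr)
  obtain ⟨q, hq, hqz⟩ := moves hL hin hL'.sq_one hL'.ne_one hne
  obtain ⟨x, hx, hxz⟩ := moves hL' hzQ' hz2 hz1 (Ne.symm hne)
  have hqf : q * z * q⁻¹ = z := by rw [(hL.le q hq).eq, mul_inv_cancel_right]
  have hxf : x * z' * x⁻¹ = z' := by rw [(hL'.le x hx).eq, mul_inv_cancel_right]
  have hcm : Commute z z' := (hL.le z' hin).symm
  have hzz : z * z = 1 := by rw [← pow_two, hz2]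
  have hz'z' : z' * z' = 1 := by rw [← pow_two, hL'.sq_one]
  have hE : ∀ u ∈ Subgroup.closure ({z, z'} : Set G), u = 1 ∨ u = z ∨ u = z' ∨ u = z * z' := by
    have a1 : z' * z = z * z' := hcm.eq.symm
    have a2 : ∀ y, z * (z * y) = y := fun y => by rw [← mul_assoc, hzz, one_mul]
    have a3 : ∀ y, z' * (z * y) = z * (z' * y) := fun y => by rw [← mul_assoc, a1, mul_assoc]
    intro u hu
    induction hu using Subgroup.closure_induction with
    | mem y hy => rcases hy with e | e <;> simp [Set.mem_singleton_iff.1 e] at * <;> simp [e]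
    | one => simp
    | mul a b _ _ ha hb =>
      rcases ha with e1 | e1 | e1 | e1 <;> rcases hb with e2 | e2 | e2 | e2 <;>
        simp [e1, e2, mul_assoc, hzz, hz'z', a1, a2, a3]
    | inv a _ ha =>
      rcases ha with e | e | e | e <;> rw [e]
      · simp
      · exact Or.inr (Or.inl (inv_eq_of_mul_eq_one_right hzz))
      · exact Or.inr (Or.inr (Or.inl (inv_eq_of_mul_eq_one_right hz'z')))
      · exact Or.inr (Or.inr (Or.inr (inv_eq_of_mul_eq_one_right (by simp [mul_assoc, a3, a2, hz'z', hzz]))))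
  intro u hu v hv hu1 hv1 huv
  have hqX : q ∈ Q ⊔ Q' := mem_sup_left hq
  have hxX : x ∈ Q ⊔ Q' := mem_sup_right hx
  have hxz2 : x * z * x⁻¹ = z * z' := by rw [hxz, hcm.eq]
  have hhz : (q * x) * z * (q * x)⁻¹ = z' := by
    rw [show q * x * z * (q * x)⁻¹ = q * (x * z * x⁻¹) * q⁻¹ by group, hxz2,
      show q * (z * z') * q⁻¹ = q * z * q⁻¹ * (q * z' * q⁻¹) by group, hqf, hqz, ← mul_assoc, hzz, one_mul]
  have hhz' : (q * x) * z' * (q * x)⁻¹ = z * z' := by
    rw [show q * x * z' * (q * x)⁻¹ = q * (x * z' * x⁻¹) * q⁻¹ by group, hxf, hqz]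
  have hzzz : z' * (z * z') = z := by rw [← mul_assoc, ← hcm.eq, mul_assoc, hz'z', mul_one]
  have hhzz : (q * x) * (z * z') * (q * x)⁻¹ = z := by
    rw [show q * x * (z * z') * (q * x)⁻¹ = (q * x * z * (q * x)⁻¹) * (q * x * z' * (q * x)⁻¹) by group,
      hhz, hhz', hzzz]
  rcases hE u hu with e1 | e1 | e1 | e1
  · exact absurd e1 hu1
  all_goals rcases hE v hv with e2 | e2 | e2 | e2
  all_goals first | exact absurd e2 hv1 | exact absurd (e1.trans e2.symm) huv | (subst u; subst v)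
  · exact ⟨1, one_mem _, by group, by group⟩
  · exact ⟨q, hqX, hqf, hqz⟩
  · refine ⟨q * x * q, mul_mem (mul_mem hqX hxX) hqX, ?_, ?_⟩
    · rw [show q * x * q * z * (q * x * q)⁻¹ = q * x * (q * z * q⁻¹) * (q * x)⁻¹ by group, hqf, hhz]
    · rw [show q * x * q * z' * (q * x * q)⁻¹ = q * x * (q * z' * q⁻¹) * (q * x)⁻¹ by group, hqz, hhzz]
  · exact ⟨q * x, mul_mem hqX hxX, hhz, hhz'⟩
  · refine ⟨q * x * (q * x), mul_mem (mul_mem hqX hxX) (mul_mem hqX hxX), ?_, ?_⟩
    · rw [show q * x * (q * x) * z * (q * x * (q * x))⁻¹ = q * x * (q * x * z * (q * x)⁻¹) * (q * x)⁻¹ by group,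
        hhz, hhz']
    · rw [show q * x * (q * x) * z' * (q * x * (q * x))⁻¹ = q * x * (q * x * z' * (q * x)⁻¹) * (q * x)⁻¹ by group,
        hhz', hhzz]
  · exact ⟨x, hxX, hxz2, hxf⟩

end Cfsg.Agent.S1774
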