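import Cfsg.Statements.S1777
import Cfsg.Agent.Lib.Spor.HSSylow.Transport
import Cfsg.Agent.Lib.Spor.HSSylow.Central
import Cfsg.Agent.Lib.Spor.HSSylow.Core
import Cfsg.Agent.Lib.Spor.HSSylow.OtherEnd
import Cfsg.Agent.Lib.Spor.HSSylow.Recog

set_option autoImplicit false
open Cfsg
open CfsgLib.Spor.HSSylow

namespace Cfsg.Agent.S1777

/-- Let G be a finite simple group whose Sylow 2-subgroups are isomorphic to a Sylow 2-subgroup of the Higman–Sims group. Then G is isomorphic to the Higman–Sims group. -/
theorem result {G : Type*} [Group G] [Finite G] [IsSimpleGroup G]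
    (S : Sylow 2 G) (P : Sylow 2 ↥Cfsg.Spor.HS) (hS : Nonempty (↥(S : Subgroup G) ≃* ↥(P : Subgroup ↥Cfsg.Spor.HS))) :
    Cfsg.Spor.IsoHS G := by
  obtain ⟨F⟩ := exists_frame S P hS
  have hno : ∀ H : Subgroup G, H.index ≠ 2 := by
    intro H hH
    haveI := Subgroup.normal_of_index_eq_two hH
    rcases Subgroup.Normal.eq_bot_or_eq_top (H := H) inferInstance with rfl | rfl
    · rw [Subgroup.index_bot] at hH
      have h := F.card_T ▸ Subgroup.card_subgroup_dvd_card (F.T : Subgroup G)
      rw [hH] at h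
      norm_num at h
    · simp at hH
  have he := Frame.link_zero_three F hno
  obtain ⟨hw, h56⟩ := F.main_cases hno he
  obtain ⟨F', hF⟩ : ∃ F' : Frame G, F'.Fused := by
    rcases h56 with ⟨h5, h6⟩ | ⟨h6, h5⟩
    · exact ⟨F, ⟨F.za hno, F.zb hno, he, h5, hw, (F.seven hno).2, h6,
        fun h => F.not_link_four (by norm_num) h.symm⟩⟩
    · refine ⟨F.twist, ⟨?_, ?_, ?_, ?_, ?_, ?_, ?_, fun h => ?_⟩⟩
      · exact (F.twist_link (a := 0) (b := 1) (by norm_num) (by norm_num)).2 (F.za hno)
      · exact (F.twist_link (a := 0) (b := 2) (by norm_num) (by norm_num)).2 (F.zb hno)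
      · exact (F.twist_link (a := 0) (b := 3) (by norm_num) (by norm_num)).2 he
      · exact (F.twist_link (a := 0) (b := 5) (by norm_num) (by norm_num)).2 h6
      · exact (F.twist_link (a := 0) (b := 8) (by norm_num) (by norm_num)).2 hw
      · exact (F.twist_link (a := 4) (b := 7) (by norm_num) (by norm_num)).2 (F.seven hno).2
      · exact (F.twist_link (a := 4) (b := 6) (by norm_num) (by norm_num)).2 h5
      · exact F.not_link_four (x := 0) (by norm_num)
          ((F.twist_link (a := 0) (b := 4) (by norm_num) (by norm_num)).1 h).symm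
  have hC := F'.central_of_fused hno hF.ze
  exact recognise F' hF hC (core_trivial F' hF hC)

end Cfsg.Agent.S1777
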