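import Cfsg.Statements.S1781
import Cfsg.Agent.Lib.Invol.AbelianTI


set_option autoImplicit false
open Cfsg

namespace Cfsg.Agent.S1781

/-- Let A be an abelian 2-subgroup of the finite group G such that every conjugate of A equals A or meets A trivially, and let g ∈ G with g A g⁻¹ ≠ A. Then either the subgroup of those elements of A that normalize g A g⁻¹ is an elementary abelian 2-group, or A and g A g⁻¹ commute elementwise. -/
theorem result {G : Type*} [Group G] [Finite G] (A : Subgroup G)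
    (hA2 : IsPGroup 2 ↥A) (hAa : IsMulCommutative ↥A)
    (hti : ∀ h : G, A.map (MulAut.conj h).toMonoidHom = A ∨ A.map (MulAut.conj h).toMonoidHom ⊓ A = ⊥)
    (g : G) (hg : A.map (MulAut.conj g).toMonoidHom ≠ A) :
    Cfsg.IsElementaryAbelian 2 (A ⊓ Subgroup.normalizer ((A.map (MulAut.conj g).toMonoidHom : Subgroup G) : Set G)) ∨
      ⁅A, A.map (MulAut.conj g).toMonoidHom⁆ = ⊥ := by
  by_cases hx : ∀ x ∈ A ⊓ Subgroup.normalizer ((A.map (MulAut.conj g).toMonoidHom : Subgroup G) : Set G),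
      x ^ 2 = 1
  · refine Or.inl ⟨⟨⟨fun a b => Subtype.ext ?_⟩⟩, hx⟩
    have h := congrArg Subtype.val (hAa.is_comm.comm (⟨a.1, a.2.1⟩ : A) ⟨b.1, b.2.1⟩)
    exact h
  push Not at hx
  obtain ⟨x, ⟨hxA, hxN⟩, hx2⟩ := hx
  refine Or.inr (CfsgLib.Invol.commutator_conj_eq_bot hA2 hAa hti hg hxA hxN hx2)

end Cfsg.Agent.S1781
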