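import Cfsg.Statements.S1782
import Cfsg.Agent.Lib.Invol.TI
import Mathlib.GroupTheory.Frattini
import Mathlib.GroupTheory.Nilpotent
import Mathlib.Tactic.Group


set_option autoImplicit false
open Cfsg

namespace Cfsg.Agent.S1782

private theorem frattini_eq_bot_of_sq {R : Type*} [Group R] [Finite R] (h : ∀ x : R, x * x = 1) :
    frattini R = ⊥ := by
  rw [eq_bot_iff]
  intro x hx
  rw [Subgroup.mem_bot]
  by_contra hx1
  have hi : ∀ u : R, u⁻¹ = u := fun u => inv_eq_of_mul_eq_one_right (h u)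
  have hc : ∀ u v : R, u * v = v * u := fun u v => by
    have := hi (u * v); rwa [mul_inv_rev, hi, hi, eq_comm] at this
  obtain ⟨M, -, hM⟩ := Finite.exists_le_maximal (p := fun M : Subgroup R => x ∉ M)
    (a := ⊥) (show x ∉ (⊥ : Subgroup R) by rwa [Subgroup.mem_bot])
  have hxK : ∀ K, M < K → x ∈ K := fun K hK => by
    by_contra hc'
    exact hK.not_ge (hM.2 hc' hK.le)
  have hco : IsCoatom M := by
    refine ⟨fun e => hM.1 (e ▸ Subgroup.mem_top x), fun K hK => ?_⟩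
    rw [eq_top_iff]
    intro y _
    by_cases hy : y ∈ M
    · exact hK.le hy
    -- `x` lies in `M ⊔ ⟨y⟩`
    let N : Subgroup R :=
      { carrier := {u | u ∈ M ∨ u * y ∈ M}
        one_mem' := Or.inl (one_mem M)
        mul_mem' := fun {a b} ha hb => by
          rcases ha with ha | ha <;> rcases hb with hb | hb
          · exact Or.inl (mul_mem ha hb)
          · exact Or.inr (by rw [mul_assoc]; exact mul_mem ha hb)
          · refine Or.inr ?_
            rw [mul_assoc, hc b y, ← mul_assoc]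
            exact mul_mem ha hb
          · refine Or.inl ?_
            have h1 := mul_mem ha hb
            rw [show a * y * (b * y) = a * (y * b) * y by group, hc y b,
              show a * (b * y) * y = a * b * (y * y) by group, h y, mul_one] at h1
            exact h1
        inv_mem' := fun {a} ha => by rw [hi a]; exact ha }
    have hxN : x ∈ N := by
      refine hxK N (lt_of_le_of_ne (fun u hu => Or.inl hu) fun e => hy ?_)
      exact e.ge (show y ∈ N from Or.inr (by rw [h y]; exact one_mem M))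
    have hxy : x * y ∈ M := hxN.resolve_left hM.1
    have := mul_mem (inv_mem (hxK K hK)) (hK.le hxy)
    rwa [inv_mul_cancel_left] at this
  exact hM.1 ((frattini_le_coatom hco) hx)

open CfsgLib.Invol in
private theorem commute_members {S : Type*} [Group S] [Finite S] (hS : IsPGroup 2 S)
    (Δ : Set (Subgroup S)) (hinv : ∀ s : S, ∀ R ∈ Δ, R.map (MulAut.conj s).toMonoidHom ∈ Δ)
    (hΦ : ∀ R ∈ Δ, frattini ↥R ≠ ⊥) (hord : ∀ R ∈ Δ, ∀ T ∈ Δ, Nat.card ↥R = Nat.card ↥T)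
    (hti : ∀ R ∈ Δ, ∀ T ∈ Δ, R = T ∨ R ⊓ T = ⊥) :
    ∀ n, ∀ K : Subgroup S, Nat.card K ≤ n → ∀ R ∈ Δ, ∀ T ∈ Δ, R ≤ K → T ≤ K → R ≠ T →
      ∀ r ∈ R, ∀ t ∈ T, r * t = t * r := by
  intro n
  induction n using Nat.strong_induction_on with
  | _ n ih =>
  intro K hKn
  -- conjugates inside `K` commute, by induction
  have horbit : ∀ R ∈ Δ, R ≤ K → ∀ k ∈ K, R.map (MulAut.conj k).toMonoidHom ≠ R →
      ∀ r ∈ R, ∀ r' ∈ R, k * r' * k⁻¹ * r = r * (k * r' * k⁻¹) := by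
    intro R hR hRK k hk hne r hr r' hr'
    have hne' : R.subgroupOf K ≠ ⊤ := fun e => hne (conj_map_eq_of_mem_normalizer
      (Subgroup.le_normalizer ((Subgroup.subgroupOf_eq_top.1 e) hk)))
    obtain ⟨M, hM, hRM⟩ := (eq_top_or_exists_le_coatom (R.subgroupOf K)).resolve_left hne'
    haveI : Group.IsNilpotent K := (hS.to_subgroup K).isNilpotent
    haveI : M.Normal := Subgroup.NormalizerCondition.normal_of_coatom M (Group.normalizerCondition_of_isNilpotent (G := K)) hM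
    have hlt : Nat.card (M.map K.subtype) < n := by
      refine lt_of_lt_of_le ?_ hKn
      rw [Subgroup.card_subtype]
      exact lt_of_le_of_ne (Subgroup.card_le_card_group M) fun e =>
        hM.1 (Subgroup.eq_top_of_card_eq M e)
    have h1 : R ≤ M.map K.subtype := fun u hu =>
      ⟨⟨u, hRK hu⟩, hRM (show (⟨u, hRK hu⟩ : K) ∈ R.subgroupOf K from hu), rfl⟩
    have h2 : R.map (MulAut.conj k).toMonoidHom ≤ M.map K.subtype := by
      rintro _ ⟨u, hu, rfl⟩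
      exact ⟨⟨k, hk⟩ * ⟨u, hRK hu⟩ * ⟨k, hk⟩⁻¹,
        (inferInstance : M.Normal).conj_mem _ (hRM (show (⟨u, hRK hu⟩ : K) ∈ R.subgroupOf K from hu)) _, rfl⟩
    exact ih _ hlt _ le_rfl _ (hinv k R hR) R hR h2 h1 hne _ ⟨r', hr', rfl⟩ r hr
  -- elements moving `T` are involutions
  have hstep : ∀ R ∈ Δ, ∀ T ∈ Δ, R ≤ K → T ≤ K → ∀ r ∈ R, T.map (MulAut.conj r).toMonoidHom ≠ T →
      ∀ t ∈ T, R.map (MulAut.conj t).toMonoidHom ≠ R → r * r = 1 := by
    intro R hR T hT hRK hTK r hr hrT t ht htR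
    by_contra hr2
    obtain ⟨r', hr'⟩ : ∃ r', r' = t * r * t⁻¹ := ⟨_, rfl⟩
    have hR'c : r' * r = r * r' := hr' ▸ horbit R hR hRK t (hTK ht) htR r hr r hr
    have hTc := horbit T hT hTK r (hRK hr) hrT t ht t ht
    have h2 : (t * t) * r * ((t * t))⁻¹ = r' * r' * r⁻¹ := by
      have h3 : (t * t) * r⁻¹ * ((t * t))⁻¹ = r'⁻¹ * r * r'⁻¹ := by
        rw [hr']
        calc (t * t) * r⁻¹ * ((t * t))⁻¹ = (t * r * t⁻¹)⁻¹ * (t * (r * t * r⁻¹)) * ((t * t))⁻¹ := by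
              group
          _ = (t * r * t⁻¹)⁻¹ * (r * t * r⁻¹ * t) * ((t * t))⁻¹ := by rw [hTc]
          _ = _ := by group
      rw [show (t * t) * r * (t * t)⁻¹ = ((t * t) * r⁻¹ * (t * t)⁻¹)⁻¹ by simp [mul_assoc], h3,
        show (r'⁻¹ * r * r'⁻¹)⁻¹ = r' * (r⁻¹ * r') by group,
        mul_assoc r' r', (show Commute r' r from hR'c).inv_right.eq]
    obtain ⟨e, he⟩ := (IsPGroup.iff_orderOf.1 hS) r
    have he2 : 2 ≤ e := by
      by_contra hc
      apply hr2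
      have : r ^ 2 = 1 := orderOf_dvd_iff_pow_eq_one.1 (by
        rw [he]
        rcases (by omega : e = 0 ∨ e = 1) with rfl | rfl <;> norm_num)
      rwa [pow_two] at this
    obtain ⟨f, rfl⟩ : ∃ f, e = f + 2 := ⟨e - 2, by omega⟩
    have h5 : ((t * t) * r * ((t * t))⁻¹) ^ 2 ^ (f + 1) = r⁻¹ ^ 2 ^ (f + 1) := by
      rw [h2, (((show Commute r' r from hR'c).inv_right).mul_left (show Commute r' r from hR'c).inv_right).mul_pow,
        ← pow_two, ← pow_mul, show 2 * 2 ^ (f + 1) = 2 ^ (f + 2) by ring, hr', conj_pow, ← he, pow_orderOf_eq_one]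
      group
    have hne1 : r⁻¹ ^ 2 ^ (f + 1) ≠ 1 := fun h => by
      have h6 := orderOf_dvd_of_pow_eq_one h
      rw [orderOf_inv, he, Nat.pow_dvd_pow_iff_le_right (by norm_num)] at h6
      omega
    have hR2 : R.map (MulAut.conj ((t * t))).toMonoidHom = R := by
      refine ((hti _ (hinv ((t * t)) R hR) R hR).resolve_right fun h => hne1 ?_)
      rw [← Subgroup.mem_bot, ← h]
      refine ⟨⟨r ^ 2 ^ (f + 1), pow_mem hr _, ?_⟩, pow_mem (inv_mem hr) _⟩
      show (t * t) * r ^ 2 ^ (f + 1) * ((t * t))⁻¹ = _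
      rw [← conj_pow, h5]
    have h7 : r' * r' ∈ R := by
      have h8 : (t * t) * r * ((t * t))⁻¹ ∈ R := hR2.le ⟨r, hr, rfl⟩
      rw [h2] at h8
      have := mul_mem h8 hr
      rwa [inv_mul_cancel_right] at this
    have h9 : r' * r' = 1 := by
      rw [← Subgroup.mem_bot, ← (hti _ (hinv t R hR) R hR).resolve_left htR]
      exact ⟨mul_mem ⟨r, hr, hr'.symm⟩ ⟨r, hr, hr'.symm⟩, h7⟩
    apply hr2
    rw [hr', show t * r * t⁻¹ * (t * r * t⁻¹) = t * (r * r) * t⁻¹ by group, mul_inv_eq_one] at h9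
    exact mul_left_cancel (h9.trans (mul_one t).symm)
  -- if `T` normalizes `R`, then they commute
  have hnorm : ∀ R ∈ Δ, ∀ T ∈ Δ, R ≤ K → T ≤ K → R ≠ T →
      (∀ t ∈ T, R.map (MulAut.conj t).toMonoidHom = R) → ∀ r ∈ R, ∀ t ∈ T, r * t = t * r := by
    intro R hR T hT hRK hTK hne hN
    have hRT : R ⊓ T = ⊥ := (hti R hR T hT).resolve_left hne
    by_cases hall : ∀ r ∈ R, T.map (MulAut.conj r).toMonoidHom = T
    · intro r hr t ht
      have h1 : r * t * r⁻¹ * t⁻¹ = 1 := by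
        rw [← Subgroup.mem_bot, ← hRT]
        refine Subgroup.mem_inf.2 ⟨?_, mul_mem ((hall r hr).le ⟨t, ht, rfl⟩) (inv_mem ht)⟩
        rw [show r * t * r⁻¹ * t⁻¹ = r * (t * r⁻¹ * t⁻¹) by group]
        exact mul_mem hr ((hN t ht).le ⟨r⁻¹, inv_mem hr, rfl⟩)
      rw [mul_inv_eq_one, mul_inv_eq_iff_eq_mul] at h1
      exact h1
    push Not at hall
    obtain ⟨r₀, hr₀, hr₀T⟩ := hall
    have hT'T : T.map (MulAut.conj r₀).toMonoidHom ⊓ T = ⊥ := (hti _ (hinv r₀ T hT) T hT).resolve_left hr₀T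
    have hw : ∀ u ∈ T, u⁻¹ * (r₀ * u * r₀⁻¹) ∈ R := by
      intro u hu
      rw [show u⁻¹ * (r₀ * u * r₀⁻¹) = (u⁻¹ * r₀ * u⁻¹⁻¹) * r₀⁻¹ by group]
      exact mul_mem ((hN u⁻¹ (inv_mem hu)).le ⟨r₀, hr₀, rfl⟩) (inv_mem hr₀)
    have hab : ∀ u ∈ T, ∀ v ∈ T, u * v = v * u := by
      intro u hu v hv
      have h1 : v * (u⁻¹ * (r₀ * u * r₀⁻¹)) * v⁻¹ = v * u⁻¹ * v⁻¹ * (r₀ * u * r₀⁻¹) := by
        calc v * (u⁻¹ * (r₀ * u * r₀⁻¹)) * v⁻¹ = v * u⁻¹ * v⁻¹ * (v * (r₀ * u * r₀⁻¹)) * v⁻¹ := by group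
          _ = v * u⁻¹ * v⁻¹ * ((r₀ * u * r₀⁻¹) * v) * v⁻¹ := by
            rw [← horbit T hT hTK r₀ (hRK hr₀) hr₀T v hv u hu]
          _ = _ := by group
      have h2 : v * u⁻¹ * v⁻¹ * u = 1 := by
        rw [← Subgroup.mem_bot, ← hRT]
        refine Subgroup.mem_inf.2 ⟨?_, mul_mem (mul_mem (mul_mem hv (inv_mem hu)) (inv_mem hv)) hu⟩
        rw [show v * u⁻¹ * v⁻¹ * u = (v * u⁻¹ * v⁻¹ * (r₀ * u * r₀⁻¹)) * (u⁻¹ * (r₀ * u * r₀⁻¹))⁻¹ by group,
          ← h1]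
        exact mul_mem ((hN v hv).le ⟨_, hw u hu, rfl⟩) (inv_mem (hw u hu))
      calc u * v = u * v * (v⁻¹ * u⁻¹ * v * u * 1) * 1 := by
            rw [mul_one, mul_one]
            have : v⁻¹ * u⁻¹ * v * u = 1 := by
              have h3 : u⁻¹ * v⁻¹ * u = v⁻¹ := by
                calc u⁻¹ * v⁻¹ * u = v⁻¹ * (v * u⁻¹ * v⁻¹ * u) := by group
                  _ = v⁻¹ := by rw [h2, mul_one]
              calc v⁻¹ * u⁻¹ * v * u = v⁻¹ * (u⁻¹ * v⁻¹ * u)⁻¹ := by group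
                _ = 1 := by rw [h3]; group
            rw [this, mul_one]
        _ = v * u := by group
    let w : T → R := fun u => ⟨(u : S)⁻¹ * (r₀ * u * r₀⁻¹), hw u u.2⟩
    have hwinj : Function.Injective w := by
      intro u v huv
      have h1 : (u : S)⁻¹ * (r₀ * u * r₀⁻¹) = (v : S)⁻¹ * (r₀ * v * r₀⁻¹) := congrArg Subtype.val huv
      have h2 : (v : S) * (u : S)⁻¹ = 1 := by
        rw [← Subgroup.mem_bot, ← hT'T]
        refine Subgroup.mem_inf.2 ⟨?_, mul_mem v.2 (inv_mem u.2)⟩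
        have h3 : (v : S) * (u : S)⁻¹ = (r₀ * v * r₀⁻¹) * (r₀ * u * r₀⁻¹)⁻¹ := by
          rw [show r₀ * (v : S) * r₀⁻¹ = v * ((v : S)⁻¹ * (r₀ * v * r₀⁻¹)) by group, ← h1]; group
        rw [h3]
        exact mul_mem (Subgroup.mem_map_of_mem _ v.2) (Subgroup.inv_mem _ (Subgroup.mem_map_of_mem _ u.2))
      exact Subtype.ext (mul_inv_eq_one.1 h2).symm
    have hsurj : Function.Surjective w :=
      ((Nat.bijective_iff_injective_and_card w).2 ⟨hwinj, hord T hT R hR⟩).2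
    intro r hr t ht
    obtain ⟨u, hu⟩ := hsurj ⟨r, hr⟩
    have hu' : (u : S)⁻¹ * (r₀ * u * r₀⁻¹) = r := congrArg Subtype.val hu
    rw [← hu']
    have hc1 : Commute t (u : S) := hab t ht u u.2
    have hc2 : Commute t (r₀ * u * r₀⁻¹) := (horbit T hT hTK r₀ (hRK hr₀) hr₀T t ht u u.2).symm
    exact (hc1.inv_right.mul_right hc2).symm.eq
  intro R hR T hT hRK hTK hne
  by_cases hA : ∀ t ∈ T, R.map (MulAut.conj t).toMonoidHom = R
  · exact hnorm R hR T hT hRK hTK hne hA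
  by_cases hB : ∀ r ∈ R, T.map (MulAut.conj r).toMonoidHom = T
  · exact fun r hr t ht => (hnorm T hT R hR hTK hRK (Ne.symm hne) hB t ht r hr).symm
  exfalso
  push Not at hA hB
  obtain ⟨t, ht, htR⟩ := hA
  obtain ⟨r, hr, hrT⟩ := hB
  obtain ⟨a₀, ha₀⟩ : ∃ a : R, a * a ≠ 1 := by
    by_contra hc
    push Not at hc
    exact hΦ R hR (frattini_eq_bot_of_sq hc)
  obtain ⟨e, he⟩ := (IsPGroup.iff_orderOf.1 hS) (a₀ : S)
  have he2 : 2 ≤ e := by
    by_contra hc
    apply ha₀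
    refine Subtype.ext ?_
    have : (a₀ : S) ^ 2 = 1 := orderOf_dvd_iff_pow_eq_one.1 (by
      rw [he]
      rcases (by omega : e = 0 ∨ e = 1) with rfl | rfl <;> norm_num)
    rwa [pow_two] at this
  obtain ⟨a, ha⟩ : ∃ a, a = (a₀ : S) ^ 2 ^ (e - 2) := ⟨_, rfl⟩
  have haR : a ∈ R := ha ▸ pow_mem a₀.2 _
  have ha4 : orderOf a = 4 := by
    rw [ha, orderOf_pow, he, Nat.gcd_eq_right (pow_dvd_pow 2 (by omega)),
      Nat.pow_div (by omega) two_pos, show e - (e - 2) = 2 by omega]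
    norm_num
  have ha2 : a * a ≠ 1 := fun h => by
    have := orderOf_dvd_of_pow_eq_one (show a ^ 2 = 1 by rwa [pow_two])
    rw [ha4] at this; norm_num at this
  have haT : T.map (MulAut.conj a).toMonoidHom = T := by
    by_contra h
    exact ha2 (hstep R hR T hT hRK hTK a haR h t ht htR)
  have hraT : T.map (MulAut.conj (r * a)).toMonoidHom ≠ T := fun h => by
    rw [← conj_map_conj_map, haT] at h
    exact hrT h
  have hr2 := hstep R hR T hT hRK hTK r hr hrT t ht htR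
  have hra2 := hstep R hR T hT hRK hTK _ (mul_mem hr haR) hraT t ht htR
  have hinva : r * a * r⁻¹ = a⁻¹ := by
    rw [inv_eq_of_mul_eq_one_right hr2, eq_inv_iff_mul_eq_one, mul_assoc (r * a)]
    exact hra2
  obtain ⟨a', ha'⟩ : ∃ a', a' = t * a * t⁻¹ := ⟨_, rfl⟩
  have hra' : r * a' * r⁻¹ = a' := by
    have h1 : a' * r = r * a' := ha' ▸ horbit R hR hRK t (hTK ht) htR r hr a haR
    rw [← h1, mul_inv_cancel_right]
  have hcT : a⁻¹ * a' ∈ T := by
    rw [ha', show a⁻¹ * (t * a * t⁻¹) = (a⁻¹ * t * a⁻¹⁻¹) * t⁻¹ by group]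
    refine mul_mem ?_ (inv_mem ht)
    have hh : T.map (MulAut.conj a⁻¹).toMonoidHom = T :=
      conj_map_eq_of_mem_normalizer (inv_mem (mem_normalizer_of_conj_map_eq haT))
    exact hh.le ⟨t, ht, rfl⟩
  have hcT' : a * a' ∈ T.map (MulAut.conj r).toMonoidHom := by
    refine ⟨_, hcT, ?_⟩
    show r * (a⁻¹ * a') * r⁻¹ = a * a'
    rw [show r * (a⁻¹ * a') * r⁻¹ = (r * a * r⁻¹)⁻¹ * (r * a' * r⁻¹) by group, hinva, hra', inv_inv]
  have haa' : Commute a' a := ha' ▸ horbit R hR hRK t (hTK ht) htR a haR a haR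
  have h4 : a⁻¹ * a⁻¹ = a * a := by
    rw [← mul_inv_rev, inv_eq_iff_mul_eq_one, ← mul_assoc]
    have := pow_orderOf_eq_one a
    rw [ha4] at this
    simpa [pow_succ, mul_assoc] using this
  have hsq : (a * a') * (a * a') = 1 := by
    rw [← Subgroup.mem_bot, ← (hti _ (hinv r T hT) T hT).resolve_left hrT]
    refine ⟨mul_mem hcT' hcT', ?_⟩
    rw [show a * a' * (a * a') = (a * a) * (a' * a') by
      rw [mul_assoc, ← mul_assoc a', haa'.eq]; group, ← h4,
      show a⁻¹ * a⁻¹ * (a' * a') = (a⁻¹ * a') * (a⁻¹ * a') by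
        rw [mul_assoc a⁻¹ a', ← mul_assoc a', haa'.inv_right.eq]; group]
    exact mul_mem hcT hcT
  have h5 : a' * a' ∈ R := by
    have : a' * a' = (a * a)⁻¹ * (a * a' * (a * a')) := by
      rw [mul_assoc a a', ← mul_assoc a' a a', haa'.eq]; group
    rw [this, hsq, mul_one]
    exact inv_mem (mul_mem haR haR)
  have h6 : a' * a' = 1 := by
    rw [← Subgroup.mem_bot, ← (hti _ (hinv t R hR) R hR).resolve_left htR]
    exact ⟨mul_mem ⟨a, haR, ha'.symm⟩ ⟨a, haR, ha'.symm⟩, h5⟩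
  apply ha2
  rw [ha', show t * a * t⁻¹ * (t * a * t⁻¹) = t * (a * a) * t⁻¹ by group, mul_inv_eq_one] at h6
  exact mul_left_cancel (h6.trans (mul_one t).symm)

/-- Let S be a finite 2-group and Δ a set of subgroups of S closed under conjugation by S, all of the same order, each with nontrivial Frattini subgroup, and such that two distinct members of Δ meet trivially. Then any two distinct members of Δ commute elementwise. -/
theorem result {S : Type*} [Group S] [Finite S] (hS : IsPGroup 2 S)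
    (Δ : Set (Subgroup S)) (hinv : ∀ s : S, ∀ R ∈ Δ, R.map (MulAut.conj s).toMonoidHom ∈ Δ)
    (hΦ : ∀ R ∈ Δ, frattini ↥R ≠ ⊥) (hord : ∀ R ∈ Δ, ∀ T ∈ Δ, Nat.card ↥R = Nat.card ↥T)
    (hti : ∀ R ∈ Δ, ∀ T ∈ Δ, R = T ∨ R ⊓ T = ⊥) :
    ∀ R ∈ Δ, ∀ T ∈ Δ, R ≠ T → ⁅R, T⁆ = ⊥ := by
  exact fun R hR T hT hRT => (commute_members hS Δ hinv hΦ hord hti _ ⊤ le_rfl R hR T hT le_top le_top hRT) |> fun h => by
    rw [Subgroup.commutator_eq_bot_iff_le_centralizer]
    exact fun r hr => Subgroup.mem_centralizer_iff.2 fun t ht => (h r hr t ht).symm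

end Cfsg.Agent.S1782
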