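import Cfsg.Statements.S1783
import Cfsg.Agent.Lib.PGroup.SmallElementsIndex
import Cfsg.Agent.Lib.PGroup.Basic
import Cfsg.Agent.Lib.CFun.Critical
import Cfsg.Agent.Lib.Coprime.Component
import Cfsg.Agent.Lib.Invol.Basic

set_option autoImplicit false
open Cfsg

namespace Cfsg.Agent.S1783

open Subgroup
open scoped commutatorElement

variable {G : Type*} [Group G]

/-- The displacement of `x` under conjugation by `a`. -/
def disp (a x : G) : G := x⁻¹ * (a * x * a⁻¹)

theorem disp_eq_one {a x : G} : disp a x = 1 ↔ Commute a x := by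
  unfold disp Commute SemiconjBy
  rw [inv_mul_eq_one, eq_mul_inv_iff_mul_eq]
  exact eq_comm

theorem disp_mem {N : Subgroup G} [hN : N.Normal] (a : G) {x : G} (hx : x ∈ N) : disp a x ∈ N :=
  mul_mem (inv_mem hx) (hN.conj_mem x hx a)

theorem disp_mem_of_normalizer {A : Subgroup G} {a x : G} (hx : x ∈ normalizer (A : Set G))
    (ha : a ∈ A) : disp a x ∈ A := by
  have h := (mem_normalizer_iff.1 (inv_mem hx) a).1 ha
  rw [inv_inv] at h
  rw [disp, show x⁻¹ * (a * x * a⁻¹) = x⁻¹ * a * x * a⁻¹ by group]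
  exact mul_mem h (inv_mem ha)

theorem pow_mul_eq {a x : G} (h : Commute a (disp a x)) :
    ∀ k : ℕ, a ^ k * x = x * disp a x ^ k * a ^ k := by
  intro k
  induction k with
  | zero => simp
  | succ k ih =>
    have e : a * x = x * disp a x * a := by unfold disp; group
    calc a ^ (k + 1) * x = a * (a ^ k * x) := by rw [pow_succ', mul_assoc]
      _ = a * x * disp a x ^ k * a ^ k := by rw [ih]; group
      _ = x * disp a x * (a * disp a x ^ k) * a ^ k := by rw [e]; group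
      _ = x * disp a x ^ (k + 1) * a ^ (k + 1) := by
        rw [(h.pow_right k).eq, pow_succ', pow_succ']
        group

theorem commute_pow {a x : G} (h : Commute a (disp a x)) {k : ℕ} (hk : disp a x ^ k = 1) :
    Commute (a ^ k) x := by
  unfold Commute SemiconjBy
  rw [pow_mul_eq h k, hk, mul_one]

/-- An element moving a member of a TI subgroup inside it normalizes it. -/
theorem mem_normalizer_of_ti {A : Subgroup G}
    (hti : ∀ h : G, A.map (MulAut.conj h).toMonoidHom = A ∨ A.map (MulAut.conj h).toMonoidHom ⊓ A = ⊥)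
    {h e : G} (he : e ∈ A) (he1 : e ≠ 1) (hmv : h * e * h⁻¹ ∈ A) :
    h ∈ normalizer (A : Set G) := by
  rcases hti h with h1 | h1
  · exact mem_normalizer_iff_map_conj_eq.2 h1
  · exfalso
    apply he1
    have : h * e * h⁻¹ = 1 := by
      rw [← mem_bot, ← h1]
      exact ⟨⟨e, he, rfl⟩, hmv⟩
    exact conj_eq_one_iff.1 this

theorem mem_normalizer_of_commute {A : Subgroup G}
    (hti : ∀ h : G, A.map (MulAut.conj h).toMonoidHom = A ∨ A.map (MulAut.conj h).toMonoidHom ⊓ A = ⊥)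
    {h e : G} (he : e ∈ A) (he1 : e ≠ 1) (hc : Commute e h) : h ∈ normalizer (A : Set G) :=
  mem_normalizer_of_ti hti he he1 (by rwa [← hc.eq, mul_inv_cancel_right])

/-- Displacements descend the lower central series. -/
theorem disp_mem_succ {H : Subgroup G} {n : ℕ} {a x : G} (hx : x ∈ H.lowerCentralSeries n)
    (ha : a ∈ H) : disp a x ∈ H.lowerCentralSeries (n + 1) := by
  have e : disp a x = ⁅x⁻¹, a⁆ := by unfold disp; rw [commutatorElement_def, inv_inv]; group
  rw [e, Subgroup.lowerCentralSeries_succ]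
  exact commutator_mem_commutator (inv_mem hx) ha

theorem exists_iterate_eq_one {H : Subgroup G} (hH : Group.IsNilpotent H) {a : G} (ha : a ∈ H) :
    ∃ k : ℕ, ∀ x ∈ H, (disp a)^[k] x = 1 := by
  obtain ⟨k, hk⟩ := (Subgroup.isNilpotent_iff_lowerCentralSeries H).1 hH
  refine ⟨k, fun x hx => ?_⟩
  have : ∀ n, (disp a)^[n] x ∈ H.lowerCentralSeries n := by
    intro n
    induction n with
    | zero => exact hx
    | succ n ih => rw [Function.iterate_succ_apply']; exact disp_mem_succ ih ha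
  exact mem_bot.1 (hk ▸ this k)

theorem square_mem_pCore [Finite G]
    (hX : Cfsg.generalizedFittingSubgroup G = Cfsg.pCore 2 G) (A : Subgroup G)
    (hA2 : IsPGroup 2 ↥A) (hAc : ∀ a ∈ A, ∀ b ∈ A, Commute a b)
    (hti : ∀ h : G, A.map (MulAut.conj h).toMonoidHom = A ∨ A.map (MulAut.conj h).toMonoidHom ⊓ A = ⊥)
    {C D W : Subgroup G} (hCQ : C ≤ Cfsg.pCore 2 G) (hCn : C.Normal) (hDn : D.Normal) (hWn : W.Normal)
    (hDC : D ≤ C) (hD : ∀ x, x ∈ D ↔ x ∈ C ∧ x ^ 4 = 1) (hWD : W ≤ D)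
    (hW2 : ∀ w ∈ W, w ^ 2 = 1) (hWc : ∀ w ∈ W, ∀ d ∈ D, Commute w d)
    (hsq : ∀ d ∈ D, d ^ 2 ∈ W) (hkW : ∀ d ∈ D, ∀ e ∈ D, ⁅d, e⁆ ∈ W)
    (hself : Cfsg.pCore 2 G ⊓ centralizer (C : Set G) ≤ C)
    {a : G} (ha : a ∈ A) : a ^ 2 ∈ Cfsg.pCore 2 G := by
  classical
  haveI : Fact (Nat.Prime 2) := ⟨Nat.prime_two⟩
  by_cases ha1 : a ^ 2 = 1
  · rw [ha1]; exact one_mem _
  set Q := Cfsg.pCore 2 G with hQdef
  haveI hQn : Q.Normal := hX ▸ CfsgLib.Coprime.generalizedFitting_normal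
  have hQp : IsPGroup 2 Q := CfsgLib.PGroup.isPGroup_pCore 2 G
  have hH : Group.IsNilpotent (Q ⊔ A : Subgroup G) := (hQp.to_sup_of_normal_left hA2).isNilpotent
  obtain ⟨k, hk⟩ := exists_iterate_eq_one hH (mem_sup_right ha : a ∈ Q ⊔ A)
  -- the action of `a ^ 2`
  have key : ∀ d ∈ D, ∃ c ∈ D, a ^ 2 * d * (a ^ 2)⁻¹ = d * c ^ 2 ∧ (d ∈ W → c ^ 2 = 1) := by
    intro d hd
    refine ⟨disp a d, disp_mem a hd, ?_, fun hdW => hW2 _ (disp_mem a hdW)⟩
    suffices hfix : Commute a (disp a d) by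
      rw [pow_mul_eq hfix 2, mul_inv_cancel_right]
    by_cases hAW : ∃ e ∈ A, e ∈ W ∧ e ≠ 1
    · obtain ⟨e, he, heW, he1⟩ := hAW
      exact hAc a ha _ (disp_mem_of_normalizer
        (mem_normalizer_of_commute hti he he1 (hWc e heW d hd)) ha)
    push Not at hAW
    -- the subgroup `W` is centralized
    have hWfix : ∀ w ∈ W, Commute a w := by
      have step : ∀ w ∈ W, Commute a (disp a w) → Commute a w := by
        intro w hw hc
        have h2 := commute_pow hc (hW2 _ (disp_mem a hw))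
        have hn := mem_normalizer_of_commute hti (pow_mem ha 2) ha1 h2
        exact disp_eq_one.1 (hAW _ (disp_mem_of_normalizer hn ha) (disp_mem a hw))
      have : ∀ n, ∀ w ∈ W, (disp a)^[n] w = 1 → Commute a w := by
        intro n
        induction n with
        | zero => intro w _ h; rw [Function.iterate_zero_apply] at h; rw [h]; exact Commute.one_right a
        | succ n ih =>
          intro w hw h
          exact step w hw (ih _ (disp_mem a hw) (by rwa [Function.iterate_succ_apply] at h))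
      exact fun w hw => this k w hw (hk w (mem_sup_left (hCQ (hDC (hWD hw)))))
    have step : ∀ y ∈ D, disp a (disp a (disp a y)) ∈ W → disp a (disp a y) = 1 := by
      intro y hy hm
      set x := disp a y with hx
      set n := disp a x with hn
      have hxD : x ∈ D := disp_mem a hy
      have hnD : n ∈ D := disp_mem a hxD
      have hcn : Commute a n := by
        have h2 := commute_pow (hWfix _ hm) (hW2 _ hm)
        exact disp_eq_one.1 (hAW _ (disp_mem_of_normalizer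
          (mem_normalizer_of_commute hti (pow_mem ha 2) ha1 h2) ha) hm)
      let θ := MulAut.conj a
      have hθW : ∀ w ∈ W, θ w = w := fun w hw => by
        rw [MulAut.conj_apply, (hWfix w hw).eq, mul_inv_cancel_right]
      have hθy : θ y = y * x := by rw [MulAut.conj_apply, hx]; unfold disp; group
      have hθx : θ x = x * n := by rw [MulAut.conj_apply, hn]; unfold disp; group
      have hθn : θ n = n := by rw [MulAut.conj_apply, hcn.eq, mul_inv_cancel_right]
      have hxn : Commute n x := by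
        have h1 : ⁅n, θ y⁆ = ⁅n, y⁆ := by
          conv_lhs => rw [← hθn]
          rw [← map_commutatorElement, hθW _ (hkW n hnD y hy)]
        have h2 : ⁅n, y * x⁆ = ⁅n, y⁆ * ⁅n, x⁆ := by
          rw [show ⁅n, y * x⁆ = ⁅n, y⁆ * (y * ⁅n, x⁆ * y⁻¹) by simp only [commutatorElement_def]; group,
            ← (hWc _ (hkW n hnD x hxD) y hy).eq, mul_inv_cancel_right]
        rw [hθy, h2, mul_eq_left] at h1
        exact commutatorElement_eq_one_iff_mul_comm.1 h1
      have hn2 : n ^ 2 = 1 := by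
        have h1 := hθW _ (hsq x hxD)
        rw [map_pow, hθx, hxn.symm.mul_pow, mul_eq_left] at h1
        exact h1
      have hny : Commute n y := by
        have hx2 := hWc _ (hsq x hxD)
        have h2 : θ (θ y) = y * n * x ^ 2 := by
          rw [hθy, map_mul, hθy, hθx, show y * x * (x * n) = y * (x ^ 2 * n) by rw [pow_two]; group,
            (hx2 n hnD).eq]; group
        have h3 : (θ (θ y)) ^ 2 = y ^ 2 := by
          rw [← map_pow, ← map_pow, hθW _ (hsq y hy), hθW _ (hsq y hy)]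
        rw [h2, ((hx2 _ (mul_mem hy hnD)).symm).mul_pow, ← pow_mul, show 2 * 2 = 4 from rfl,
          ((hD x).1 hxD).2, mul_one, pow_two, pow_two, mul_assoc, mul_right_inj] at h3
        have h4 : n * y * n * n = y * n := by rw [← mul_assoc] at h3; rw [h3]
        rw [mul_assoc (n * y), ← pow_two, hn2, mul_one] at h4
        exact h4
      have h2x := mem_normalizer_of_commute hti (pow_mem ha 2) ha1 (commute_pow hcn hn2)
      have hnA : n ∈ A := disp_mem_of_normalizer h2x ha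
      by_contra hn1
      have hyN := mem_normalizer_of_commute hti hnA hn1 hny
      exact hn1 (disp_eq_one.2 (hAc a ha x (disp_mem_of_normalizer hyN ha)))
    have : ∀ j, ∀ y ∈ D, (disp a)^[j + 2] y ∈ W → disp a (disp a y) = 1 := by
      intro j
      induction j with
      | zero => intro y hy h; exact step y hy (disp_mem a h)
      | succ j ih =>
        intro y hy h
        rw [Function.iterate_succ_apply] at h
        refine step y hy ?_
        rw [ih _ (disp_mem a hy) h]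
        exact one_mem _
    refine disp_eq_one.1 (this k d hd ?_)
    rw [add_comm, Function.iterate_add_apply, hk d (mem_sup_left (hCQ (hDC hd)))]
    exact disp_mem a (disp_mem a (one_mem W))
  -- the stabilizer of the series `1 ≤ W ≤ D`
  let N0 : Subgroup G :=
    { carrier := {g | (∀ w ∈ W, Commute g w) ∧ ∀ d ∈ D, d⁻¹ * (g * d * g⁻¹) ∈ W}
      one_mem' := ⟨fun w _ => Commute.one_left w, fun d _ => by simp⟩
      mul_mem' := fun {g h} hg hh => ⟨fun w hw => (hg.1 w hw).mul_left (hh.1 w hw), fun d hd => by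
        rw [show d⁻¹ * (g * h * d * (g * h)⁻¹)
          = d⁻¹ * (g * d * g⁻¹) * (g * (d⁻¹ * (h * d * h⁻¹)) * g⁻¹) by group]
        exact mul_mem (hg.2 d hd) (hWn.conj_mem _ (hh.2 d hd) g)⟩
      inv_mem' := fun {g} hg => ⟨fun w hw => (hg.1 w hw).inv_left, fun d hd => by
        have h := hWn.conj_mem _ (inv_mem (hg.2 d hd)) g⁻¹
        rw [inv_inv] at h ⊢
        convert h using 1
        group⟩ }
  have hN0n : N0.Normal := ⟨fun g hg h => ⟨fun w hw => by
      have := (hg.1 _ (hWn.conj_mem w hw h⁻¹)).map (MulAut.conj h).toMonoidHom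
      simpa [mul_assoc] using this, fun d hd => by
      have := hWn.conj_mem _ (hg.2 _ (hDn.conj_mem d hd h⁻¹)) h
      convert this using 1
      group⟩⟩
  have hN0p : IsPGroup 2 N0 := by
    intro g
    refine ⟨(orderOf (g : G)).factorization 2, Subtype.ext ?_⟩
    rw [SubmonoidClass.coe_pow, OneMemClass.coe_one]
    set u := (g : G) ^ 2 ^ (orderOf (g : G)).factorization 2 with hu
    have hodd : ¬ 2 ∣ orderOf u := by
      rw [hu, CfsgLib.Invol.odd_dvd_orderOf (Nat.ordProj_dvd _ 2)]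
      exact Nat.not_dvd_ordCompl Nat.prime_two (orderOf_pos _).ne'
    have huN : u ∈ N0 := pow_mem g.2 _
    have fixer : ∀ (V : Subgroup G), IsPGroup 2 V → V.Normal → ∀ x ∈ V,
        Commute u (x⁻¹ * (u * x * u⁻¹)) → Commute u x := by
      intro V hV hVn x hx hc
      haveI := hVn
      let φ : MulAut V := MulAut.conjNormal u
      have := CfsgLib.PGroup.eq_one_of_fixed_iterate (φ := φ) (v := ⟨x, hx⟩)
        (w := ⟨x⁻¹ * (u * x * u⁻¹), mul_mem (inv_mem hx) (hVn.conj_mem x hx u)⟩)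
        (n := orderOf u) Nat.prime_two hV
        (by rw [← map_pow, pow_orderOf_eq_one, map_one]) hodd
        (Subtype.ext (by simp [φ, MulAut.conjNormal_apply]))
        (Subtype.ext (by simp only [φ, MulAut.conjNormal_apply]; rw [hc.eq, mul_inv_cancel_right]))
      exact disp_eq_one.1 (congrArg Subtype.val this)
    have hD1 : ∀ d ∈ D, Commute u d := fun d hd =>
      fixer D (hQp.to_le (hDC.trans hCQ)) hDn d hd (huN.1 _ (huN.2 d hd))
    have hC1 := CfsgLib.PGroup.commute_of_fix_smallExp (p := 2) (H := C) (hQp.to_le hCQ) (g := u)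
      (by rw [normalizer_eq_top C]; exact mem_top _) hodd
      (fun x hx hx4 => hD1 x ((hD x).2 ⟨hx, hx4⟩))
    have hC2 : ∀ c ∈ C, Commute u c := fun c hc => (mem_centralizer_iff.1 hC1 c hc).symm
    have hQ1 : ∀ x ∈ Q, Commute u x := fun x hx => by
      refine fixer Q hQp hQn x hx (hC2 _ (hself ⟨disp_mem u hx, mem_centralizer_iff.2 fun c hc => ?_⟩))
      have h1 := hC2 _ (hCn.conj_mem c hc x)
      calc c * (x⁻¹ * (u * x * u⁻¹)) = x⁻¹ * (x * c * x⁻¹ * u) * x * u⁻¹ := by group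
        _ = x⁻¹ * (u * (x * c * x⁻¹)) * x * u⁻¹ := by rw [h1.eq]
        _ = x⁻¹ * u * x * (c * u⁻¹) := by group
        _ = x⁻¹ * u * x * (u⁻¹ * c) := by rw [(hC2 c hc).inv_left.eq]
        _ = x⁻¹ * (u * x * u⁻¹) * c := by group
    have huQ : u ∈ Q := by
      have h := CfsgLib.Coprime.centralizer_generalizedFitting_le (G := G)
      rw [hX] at h
      exact h (mem_centralizer_iff.2 fun x hx => (hQ1 x hx).eq.symm)
    obtain ⟨j, hj⟩ := hQp ⟨u, huQ⟩
    have hj' : u ^ 2 ^ j = 1 := congrArg Subtype.val hj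
    exact orderOf_eq_one_iff.1 (Nat.eq_one_of_dvd_coprimes
      ((Nat.prime_two.coprime_iff_not_dvd.2 hodd).pow_left j) (orderOf_dvd_of_pow_eq_one hj')
      dvd_rfl)
  refine CfsgLib.PGroup.le_pCore hN0n hN0p ⟨fun w hw => ?_, fun d hd => ?_⟩
  · obtain ⟨c, -, he, hc⟩ := key w (hWD hw)
    rw [hc hw, mul_one, mul_inv_eq_iff_eq_mul] at he
    exact he
  · obtain ⟨c, hc, he, -⟩ := key d hd
    rw [he, inv_mul_cancel_left]
    exact hsq c hc

theorem squares_normalize [Finite G] (A : Subgroup G)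
    (hA2 : IsPGroup 2 ↥A) (hAc : ∀ a ∈ A, ∀ b ∈ A, Commute a b)
    (hti : ∀ h : G, A.map (MulAut.conj h).toMonoidHom = A ∨ A.map (MulAut.conj h).toMonoidHom ⊓ A = ⊥)
    {Q C D W : Subgroup G} (hQn : Q.Normal) (hQp : IsPGroup 2 Q) (hAQ : ∀ a ∈ A, a ^ 2 ∈ Q)
    (hCQ : C ≤ Q) (hCn : C.Normal) (hDn : D.Normal) (hWn : W.Normal)
    (hD : ∀ x, x ∈ D ↔ x ∈ C ∧ x ^ 4 = 1) (hWD : W ≤ D)
    (hW2 : ∀ w ∈ W, w ^ 2 = 1) (hsq : ∀ d ∈ D, d ^ 2 ∈ W)
    (hcenC : ∀ x ∈ C, x ^ 2 ∈ CfsgLib.CFun.cen C)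
    (hk2 : ∀ x ∈ C, ∀ y ∈ C, ⁅x, y⁆ * ⁅x, y⁆ = 1)
    (hself : Q ⊓ centralizer (C : Set G) ≤ C) {a0 : G} (ha0 : a0 ∈ A) (ha4 : a0 ^ 4 ≠ 1)
    {a : G} (ha : a ∈ A) (k : G) : k * a ^ 2 * k⁻¹ ∈ normalizer (A : Set G) := by
  classical
  haveI : Fact (Nat.Prime 2) := ⟨Nat.prime_two⟩
  have hH : Group.IsNilpotent (Q ⊔ A : Subgroup G) := (hQp.to_sup_of_normal_left hA2).isNilpotent
  have h4 : a0 ^ 4 ∈ A := pow_mem ha0 4
  have hDQ : D ≤ Q := fun x hx => hCQ ((hD x).1 hx).1
  -- `D` normalizes `A`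
  have hDN : D ≤ normalizer (A : Set G) := by
    set M := D ⊓ normalizer (A : Set G)
    by_contra hnot
    obtain ⟨K, hK⟩ := (Subgroup.isNilpotent_iff_lowerCentralSeries _).1 hH
    have hex : ∃ n, (Q ⊔ A).lowerCentralSeries n ⊓ D ≤ M := ⟨K, by rw [hK, bot_inf_eq]; exact bot_le⟩
    have hn0 : Nat.find hex ≠ 0 := fun h => by
      have := Nat.find_spec hex
      rw [h, Subgroup.lowerCentralSeries_zero, inf_eq_right.2 (hDQ.trans le_sup_left)] at this
      exact hnot (this.trans inf_le_right)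
    obtain ⟨m, hm⟩ := Nat.exists_eq_succ_of_ne_zero hn0
    obtain ⟨y, hy, hyM⟩ := SetLike.not_le_iff_exists.1 (Nat.find_min hex (show m < Nat.find hex by omega))
    have hyN : y ∉ normalizer (A : Set G) := fun h => hyM ⟨hy.2, h⟩
    have hdN : ∀ z ∈ (Q ⊔ A).lowerCentralSeries m ⊓ D, ∀ b ∈ A,
        z⁻¹ * b * z ∈ normalizer (A : Set G) := by
      intro z hz b hb
      have h1 : disp b z ∈ M := by
        have := Nat.find_spec hex
        rw [hm] at this
        exact this ⟨disp_mem_succ hz.1 (mem_sup_right hb), disp_mem b hz.2⟩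
      rw [show z⁻¹ * b * z = disp b z * b by unfold disp; group]
      exact mul_mem h1.2 (le_normalizer hb)
    have hc : Commute a0 (y⁻¹ * a0 * y) := by
      set c := ⁅a0, y⁻¹ * a0 * y⁆ with hc
      have h1 : c ∈ A := by
        rw [hc, commutatorElement_def, mul_assoc, mul_assoc]
        refine mul_mem ha0 ?_
        rw [← mul_assoc]
        exact (mem_normalizer_iff.1 (hdN y hy a0 ha0) _).1 (inv_mem ha0)
      have h2 : y * c * y⁻¹ ∈ A := by
        rw [show y * c * y⁻¹ = ((y⁻¹)⁻¹ * a0 * y⁻¹) * a0 * ((y⁻¹)⁻¹ * a0 * y⁻¹)⁻¹ * a0⁻¹ by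
          rw [hc, commutatorElement_def]; group]
        exact mul_mem ((mem_normalizer_iff.1 (hdN y⁻¹ (inv_mem hy) a0 ha0) _).1 ha0) (inv_mem ha0)
      by_contra hne
      exact hyN (mem_normalizer_of_ti hti h1
        (fun h => hne (commutatorElement_eq_one_iff_commute.1 h)) h2)
    have hc' : Commute a0 (disp a0 y) := by
      rw [show disp a0 y = y⁻¹ * a0 * y * a0⁻¹ by unfold disp; group]
      exact hc.mul_right (Commute.refl a0).inv_right
    exact hyN (mem_normalizer_of_commute hti h4 ha4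
      (commute_pow hc' ((hD _).1 (disp_mem a0 hy.2)).2))
  -- action of the conjugate square
  have act : ∀ d ∈ D, (d ∈ W ∨ ∀ e ∈ A, e ∈ W → e = 1) → Commute (k * a ^ 2 * k⁻¹) d := by
    intro d hd hor
    have hd' : k⁻¹ * d * k ∈ D := by simpa using hDn.conj_mem d hd k⁻¹
    set c := disp a (k⁻¹ * d * k) with hc
    have hcA : c ∈ A := disp_mem_of_normalizer (hDN hd') ha
    have hc2 : c ^ 2 = 1 := by
      rcases hor with hw | hno
      · exact hW2 _ (disp_mem a (by simpa using hWn.conj_mem d hw k⁻¹))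
      · exact hno _ (pow_mem hcA 2) (hsq _ (disp_mem a hd'))
    have := (commute_pow (hAc a ha c hcA) hc2).map (MulAut.conj k).toMonoidHom
    simpa [mul_assoc] using this
  by_cases hAW : ∃ e ∈ A, e ∈ W ∧ e ≠ 1
  · obtain ⟨e, he, heW, he1⟩ := hAW
    exact mem_normalizer_of_commute hti he he1 (act e (hWD heW) (Or.inl heW)).symm
  push Not at hAW
  by_cases hAD : ∃ e ∈ A, e ∈ D ∧ e ≠ 1
  · obtain ⟨e, he, heD, he1⟩ := hAD
    exact mem_normalizer_of_commute hti he he1 (act e heD (Or.inr hAW)).symm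
  push Not at hAD
  exfalso
  have hDfix : ∀ d ∈ D, Commute a0 d := fun d hd =>
    disp_eq_one.1 (hAD _ (disp_mem_of_normalizer (hDN hd) ha0) (disp_mem a0 hd))
  have hfin : ∀ x ∈ C, disp a0 x ∈ D → Commute a0 x := fun x hx hn =>
    disp_eq_one.1 (hAD _ (disp_mem_of_normalizer (mem_normalizer_of_commute hti h4 ha4
      (commute_pow (hDfix _ hn) ((hD _).1 hn).2)) ha0) hn)
  -- the centre of `C`
  haveI hZn : (CfsgLib.CFun.cen C).Normal := Subgroup.normal_inf_normal C _
  have hZfix : ∀ j, ∀ z ∈ CfsgLib.CFun.cen C, z ^ 2 ^ j = 1 → Commute a0 z := by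
    intro j
    induction j with
    | zero => intro z _ h; rw [pow_zero, pow_one] at h; rw [h]; exact Commute.one_right a0
    | succ j ih =>
      intro z hz h
      have h2 := ih (z ^ 2) (pow_mem hz 2) (by rw [← pow_mul, ← pow_succ']; exact h)
      have hn := disp_mem a0 hz
      refine hfin z hz.1 ((hD _).2 ⟨hn.1, ?_⟩)
      have hcm : Commute z⁻¹ (a0 * z * a0⁻¹) :=
        (CfsgLib.CFun.commute_of_mem_cen hz (hCn.conj_mem z hz.1 a0)).inv_left
      have : disp a0 z ^ 2 = 1 := by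
        rw [disp, hcm.mul_pow, conj_pow, h2.eq, mul_inv_cancel_right, inv_pow, inv_mul_cancel]
      rw [show (4 : ℕ) = 2 * 2 from rfl, pow_mul, this, one_pow]
  have hCfix : ∀ j, ∀ x ∈ C, (disp a0)^[j] x = 1 → Commute a0 x := by
    intro j
    induction j with
    | zero => intro x _ h; rw [Function.iterate_zero_apply] at h; rw [h]; exact Commute.one_right a0
    | succ j ih =>
      intro x hx h
      have hnC := disp_mem a0 hx
      have hn : Commute a0 (disp a0 x) := ih _ hnC (by rwa [Function.iterate_succ_apply] at h)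
      set n := disp a0 x with hndef
      obtain ⟨i, hi⟩ := hQp ⟨x ^ 2, hCQ (pow_mem hx 2)⟩
      have hx2 := hZfix i _ (hcenC x hx) (congrArg Subtype.val hi)
      have e : (x * n) ^ 2 = x ^ 2 := by
        rw [show x * n = a0 * x * a0⁻¹ by rw [hndef]; unfold disp; group, conj_pow, hx2.eq,
          mul_inv_cancel_right]
      rw [pow_two, pow_two, mul_assoc, mul_right_inj] at e
      have hinv : x⁻¹ * n * x = n⁻¹ := by
        refine eq_inv_of_mul_eq_one_right ?_
        rw [show n * (x⁻¹ * n * x) = n * x⁻¹ * n * x by group]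
        have e2 : n * x * n = x := by rw [mul_assoc]; exact e
        calc n * x⁻¹ * n * x = n * (n * x * n)⁻¹ * n * x := by rw [e2]
          _ = 1 := by group
      refine hfin x hx ((hD _).2 ⟨hnC, ?_⟩)
      have h3 := hk2 x⁻¹ (inv_mem hx) n hnC
      rw [commutatorElement_def, inv_inv, hinv] at h3
      rw [← inv_eq_one, ← inv_pow, show (4 : ℕ) = 2 * 2 from rfl, pow_mul, pow_two, pow_two]
      exact h3
  obtain ⟨i, hi⟩ := exists_iterate_eq_one hH (mem_sup_right ha0 : a0 ∈ Q ⊔ A)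
  have hfix : ∀ x ∈ C, Commute a0 x := fun x hx => hCfix i x hx (hi x (mem_sup_left (hCQ hx)))
  have hb : a0 ^ 2 ∈ C := hself ⟨hAQ a0 ha0,
    mem_centralizer_iff.2 fun x hx => ((hfix x hx).pow_left 2).eq.symm⟩
  -- the involution
  obtain ⟨j, hj⟩ := hQp ⟨a0 ^ 2, hCQ hb⟩
  have hj' : (a0 ^ 2) ^ 2 ^ j = 1 := congrArg Subtype.val hj
  have : ∀ j : ℕ, ∀ b ∈ A, b ∈ C → b ^ 2 ^ j = 1 → b = 1 := by
    intro j
    induction j with
    | zero => intro b _ _ h; rwa [pow_zero, pow_one] at h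
    | succ j ih =>
      intro b hbA hbC h
      refine hAD b hbA ((hD b).2 ⟨hbC, ?_⟩)
      rw [show (4 : ℕ) = 2 * 2 from rfl, pow_mul, ih (b ^ 2) (pow_mem hbA 2) (pow_mem hbC 2)
        (by rw [← pow_mul, ← pow_succ']; exact h), one_pow]
  exact ha4 (by rw [show (4 : ℕ) = 2 * 2 from rfl, pow_mul, this j _ (pow_mem ha0 2) hb hj', one_pow])

/-- Let X be a finite group whose generalized Fitting subgroup equals its largest normal 2-subgroup Q, and let A be an abelian 2-subgroup of X such that every conjugate of A equals A or meets A trivially. Let B be the subgroup generated by the squares of the elements of A. Then B lies in Q, and if B is not an elementary abelian 2-group then the normal closure of B in X is commutative. -/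
theorem result {X : Type*} [Group X] [Finite X]
    (hX : Cfsg.generalizedFittingSubgroup X = Cfsg.pCore 2 X) (A : Subgroup X) (hA2 : IsPGroup 2 ↥A) (hAa : IsMulCommutative ↥A)
    (hti : ∀ h : X, A.map (MulAut.conj h).toMonoidHom = A ∨ A.map (MulAut.conj h).toMonoidHom ⊓ A = ⊥) :
    Subgroup.closure ((fun a : X => a ^ 2) '' (A : Set X)) ≤ Cfsg.pCore 2 X ∧
      (¬ Cfsg.IsElementaryAbelian 2 (Subgroup.closure ((fun a : X => a ^ 2) '' (A : Set X))) →
        IsMulCommutative ↥(Subgroup.normalClosure ((fun a : X => a ^ 2) '' (A : Set X)))) := by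
  classical
  haveI : Fact (Nat.Prime 2) := ⟨Nat.prime_two⟩
  haveI := hAa
  have hAc : ∀ a ∈ A, ∀ b ∈ A, Commute a b := fun a ha b hb => setLike_mul_comm ha hb
  haveI hQn : (Cfsg.pCore 2 X).Normal := hX ▸ CfsgLib.Coprime.generalizedFitting_normal
  have hQp := CfsgLib.PGroup.isPGroup_pCore 2 X
  obtain ⟨C, hCQ, hCn, -, hpow, hcc, -, hQC, -⟩ := CfsgLib.CFun.exists_critical_in hQp
  haveI := hCn
  have hself : Cfsg.pCore 2 X ⊓ centralizer (C : Set X) ≤ C := hQC.le.trans inf_le_left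
  have hk1 : ∀ a ∈ C, ∀ b ∈ C, ∀ c ∈ C, Commute c ⁅a, b⁆ := fun a ha b hb c hc =>
    mem_centralizer_iff.1 (hcc (commutator_mem_commutator ha hb)) c hc
  have hk2 : ∀ a ∈ C, ∀ b ∈ C, ⁅a, b⁆ * ⁅a, b⁆ = 1 := fun a ha b hb => by
    have e : ⁅a * a, b⁆ = a * ⁅a, b⁆ * a⁻¹ * ⁅a, b⁆ := by simp only [commutatorElement_def]; group
    rw [(hk1 a ha b hb a ha).eq, mul_inv_cancel_right] at e
    rw [← e, commutatorElement_eq_one_iff_mul_comm, ← pow_two]
    exact (CfsgLib.CFun.commute_of_mem_cen (hpow a ha) hb).eq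
  let D : Subgroup X :=
    { carrier := {x | x ∈ C ∧ x ^ 4 = 1}
      one_mem' := ⟨one_mem C, one_pow 4⟩
      mul_mem' := fun {a b} ha hb => ⟨mul_mem ha.1 hb.1, by
        have hba : b * a = ⁅b, a⁆ * (a * b) := by rw [commutatorElement_def]; group
        rw [CfsgLib.PGroup.mul_pow_of_commute_commutator hba (hk1 b hb.1 a ha.1 a ha.1).symm
          (hk1 b hb.1 a ha.1 b hb.1).symm, ha.2, hb.2, one_mul, one_mul,
          show Nat.choose 4 2 = 2 * 3 from rfl, pow_mul, pow_two, hk2 b hb.1 a ha.1, one_pow]⟩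
      inv_mem' := fun {a} ha => ⟨inv_mem ha.1, by rw [inv_pow, ha.2, inv_one]⟩ }
  have hD : ∀ x, x ∈ D ↔ x ∈ C ∧ x ^ 4 = 1 := fun _ => Iff.rfl
  have hDn : D.Normal := ⟨fun d hd g => ⟨hCn.conj_mem d hd.1 g, by rw [conj_pow, hd.2]; group⟩⟩
  let W : Subgroup X :=
    { carrier := {w | w ∈ D ∧ w ^ 2 = 1 ∧ ∀ d ∈ D, Commute w d}
      one_mem' := ⟨one_mem D, one_pow 2, fun d _ => Commute.one_left d⟩
      mul_mem' := fun {a b} ha hb => ⟨mul_mem ha.1 hb.1, by
        rw [(ha.2.2 b hb.1).mul_pow, ha.2.1, hb.2.1, one_mul],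
        fun d hd => (ha.2.2 d hd).mul_left (hb.2.2 d hd)⟩
      inv_mem' := fun {a} ha => ⟨inv_mem ha.1, by rw [inv_pow, ha.2.1, inv_one],
        fun d hd => (ha.2.2 d hd).inv_left⟩ }
  have hWn : W.Normal := ⟨fun w hw g => ⟨hDn.conj_mem w hw.1 g, by rw [conj_pow, hw.2.1]; group,
    fun d hd => by
      have := (hw.2.2 _ (hDn.conj_mem d hd g⁻¹)).map (MulAut.conj g).toMonoidHom
      simpa [mul_assoc] using this⟩⟩
  have hWD : W ≤ D := fun w hw => hw.1
  have hsq : ∀ d ∈ D, d ^ 2 ∈ W := fun d hd => ⟨pow_mem hd 2, by rw [← pow_mul]; exact hd.2,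
    fun e he => CfsgLib.CFun.commute_of_mem_cen (hpow d hd.1) he.1⟩
  have hkW : ∀ d ∈ D, ∀ e ∈ D, ⁅d, e⁆ ∈ W := fun d hd e he => by
    refine ⟨?_, by rw [pow_two]; exact hk2 d hd.1 e he.1, fun f hf => (hk1 d hd.1 e he.1 f hf.1).symm⟩
    rw [commutatorElement_def]
    exact mul_mem (mul_mem (mul_mem hd he) (inv_mem hd)) (inv_mem he)
  have hBQ : ∀ a ∈ A, a ^ 2 ∈ Cfsg.pCore 2 X := fun a ha =>
    square_mem_pCore hX A hA2 hAc hti hCQ hCn hDn hWn (fun x hx => hx.1) hD hWD
      (fun w hw => hw.2.1) (fun w hw => hw.2.2) hsq hkW hself ha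
  refine ⟨(closure_le _).2 (Set.image_subset_iff.2 fun a ha => hBQ a ha), fun hne => ?_⟩
  obtain ⟨a0, ha0, ha4⟩ : ∃ a0 ∈ A, a0 ^ 4 ≠ 1 := by
    by_contra hno
    push Not at hno
    refine hne ⟨isMulCommutative_closure ?_, fun b hb => ?_⟩
    · rintro _ ⟨a, ha, rfl⟩ _ ⟨b, hb, rfl⟩
      exact hAc _ (pow_mem ha 2) _ (pow_mem hb 2)
    · let S : Subgroup X :=
        { carrier := {x | x ∈ A ∧ x ^ 2 = 1}
          one_mem' := ⟨one_mem A, one_pow 2⟩
          mul_mem' := fun {a b} ha hb => ⟨mul_mem ha.1 hb.1, by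
            rw [(hAc a ha.1 b hb.1).mul_pow, ha.2, hb.2, one_mul]⟩
          inv_mem' := fun {a} ha => ⟨inv_mem ha.1, by rw [inv_pow, ha.2, inv_one]⟩ }
      exact ((closure_le S).2 (by
        rintro _ ⟨a, ha, rfl⟩
        exact ⟨pow_mem ha 2, by rw [← pow_mul]; exact hno a ha⟩) hb).2
  have key : ∀ a ∈ A, ∀ k : X, k * a ^ 2 * k⁻¹ ∈ normalizer (A : Set X) := fun a ha k =>
    squares_normalize A hA2 hAc hti hQn hQp hBQ hCQ hCn hDn hWn hD hWD (fun w hw => hw.2.1) hsq
      hpow hk2 hself ha0 ha4 ha k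
  refine isMulCommutative_closure fun x hx y hy => ?_
  rw [Group.mem_conjugatesOfSet_iff] at hx hy
  obtain ⟨_, ⟨a, ha, rfl⟩, hax⟩ := hx
  obtain ⟨_, ⟨b, hb, rfl⟩, hby⟩ := hy
  obtain ⟨g, rfl⟩ := isConj_iff.1 hax
  obtain ⟨h, rfl⟩ := isConj_iff.1 hby
  set k := g⁻¹ * h with hk
  have hcom : Commute (a ^ 2) (k * b ^ 2 * k⁻¹) := by
    set c := ⁅a ^ 2, k * b ^ 2 * k⁻¹⁆ with hc
    have h1 : c ∈ A := by
      rw [hc, commutatorElement_def, mul_assoc, mul_assoc]
      refine mul_mem (pow_mem ha 2) ?_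
      rw [← mul_assoc]
      exact (mem_normalizer_iff.1 (key b hb k) _).1 (inv_mem (pow_mem ha 2))
    have h2 : k⁻¹ * c * (k⁻¹)⁻¹ ∈ A := by
      rw [show k⁻¹ * c * (k⁻¹)⁻¹ = (k⁻¹ * a ^ 2 * (k⁻¹)⁻¹) * b ^ 2 * (k⁻¹ * a ^ 2 * (k⁻¹)⁻¹)⁻¹
        * (b ^ 2)⁻¹ by rw [hc, commutatorElement_def]; group]
      exact mul_mem ((mem_normalizer_iff.1 (key a ha k⁻¹) _).1 (pow_mem hb 2)) (inv_mem (pow_mem hb 2))
    by_contra hne1
    have hc1 : c ≠ 1 := fun e => hne1 (commutatorElement_eq_one_iff_commute.1 e)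
    have hkN : k ∈ normalizer (A : Set X) := by
      simpa using inv_mem (mem_normalizer_of_ti hti h1 hc1 h2)
    exact hne1 (hAc _ (pow_mem ha 2) _ ((mem_normalizer_iff.1 hkN _).1 (pow_mem hb 2)))
  have := (hcom.map (MulAut.conj g).toMonoidHom).eq
  simpa [hk, mul_assoc] using this

end Cfsg.Agent.S1783
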