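import Cfsg.Statements.S1784
import Cfsg.Agent.Lib.PGroup.ExtraspecialPairing
import Cfsg.Agent.Lib.Coprime.Component


set_option autoImplicit false
open Cfsg

namespace Cfsg.Agent.S1784

/-- Let G be a finite group and let z be an involution of G such that Q, the generalized Fitting subgroup of the centralizer C of z, is a 2-group of symplectic type (every characteristic abelian subgroup of Q is cyclic); suppose Q is extraspecial, and view Q inside G. Let α be an involution of C that is not in Q, and let Q₀ be the subgroup of those q ∈ Q whose commutator with α lies in the subgroup generated by z. Then (a) the subgroup generated by the commutators α q α⁻¹ q⁻¹, q ∈ Q, equals the centre of Q₀; and (b) if Q₀ is not contained in the product of the centralizer of α in Q with the subgroup generated by z, then some element of Q conjugates α to α z. -/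
theorem result {G : Type*} [Group G] [Finite G] (z : G) (hz : orderOf z = 2) (hQ : Cfsg.IsOfSymplecticType ↥(Cfsg.generalizedFittingSubgroup ↥(Subgroup.centralizer ({z} : Set G)))) (hE : Cfsg.IsExtraspecial 2 ↥(Cfsg.generalizedFittingSubgroup ↥(Subgroup.centralizer ({z} : Set G))))
    (α : G) (hα : orderOf α = 2) (hαC : α ∈ Subgroup.centralizer ({z} : Set G)) (hαQ : α ∉ (Cfsg.generalizedFittingSubgroup ↥(Subgroup.centralizer ({z} : Set G))).map (Subgroup.centralizer ({z} : Set G)).subtype)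
    (Q₀ : Subgroup G) (hQ₀ : ∀ q : G, q ∈ Q₀ ↔ (q ∈ (Cfsg.generalizedFittingSubgroup ↥(Subgroup.centralizer ({z} : Set G))).map (Subgroup.centralizer ({z} : Set G)).subtype ∧ α * q * α⁻¹ * q⁻¹ ∈ Subgroup.zpowers z)) :
    Subgroup.closure ((fun q : G => α * q * α⁻¹ * q⁻¹) '' ((Cfsg.generalizedFittingSubgroup ↥(Subgroup.centralizer ({z} : Set G))).map (Subgroup.centralizer ({z} : Set G)).subtype : Set G)) = (Subgroup.center ↥Q₀).map Q₀.subtype ∧
      (¬ Q₀ ≤ ((Cfsg.generalizedFittingSubgroup ↥(Subgroup.centralizer ({z} : Set G))).map (Subgroup.centralizer ({z} : Set G)).subtype ⊓ Subgroup.centralizer ({α} : Set G)) ⊔ Subgroup.zpowers z →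
        ∃ q ∈ (Cfsg.generalizedFittingSubgroup ↥(Subgroup.centralizer ({z} : Set G))).map (Subgroup.centralizer ({z} : Set G)).subtype, q * α * q⁻¹ = α * z) := by
  classical
  haveI : Fact (Nat.Prime 2) := ⟨Nat.prime_two⟩
  set C := Subgroup.centralizer ({z} : Set G) with hC
  set F := Cfsg.generalizedFittingSubgroup ↥C with hF
  haveI : F.Normal := CfsgLib.Coprime.generalizedFitting_normal
  obtain ⟨hP, -⟩ := CfsgLib.PGroup.smallCenter_of_extraspecial hE
  set a : C := ⟨α, hαC⟩ with ha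
  let σ : ↥F ≃* ↥F := MulAut.conjNormal a
  have hσval : ∀ q : F, ((σ q : F) : C) = a * (q : C) * a⁻¹ := fun q => MulAut.conjNormal_apply a q
  have hcent : ∀ w : C, (∀ q ∈ F, q * w = w * q) → w ∈ F := fun w hw =>
    CfsgLib.Coprime.centralizer_generalizedFitting_le (Subgroup.mem_centralizer_iff.2 hw)
  have hzC : z ∈ C := Subgroup.mem_centralizer_singleton_iff.2 rfl
  have hzF : (⟨z, hzC⟩ : C) ∈ F := hcent _ fun q _ => Subtype.ext (Subgroup.mem_centralizer_singleton_iff.1 q.2)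
  set zF : F := ⟨⟨z, hzC⟩, hzF⟩ with hzF'
  have hzZ : zF ∈ Subgroup.center F := Subgroup.mem_center_iff.2 fun q => Subtype.ext (Subtype.ext
    (Subgroup.mem_centralizer_singleton_iff.1 (q : C).2))
  have hz1 : zF ≠ 1 := fun e => by
    have e' : z = 1 := congrArg (fun q : F => ((q : C) : G)) e
    rw [e', orderOf_one] at hz
    exact absurd hz (by norm_num)
  set ι : F →* G := C.subtype.comp F.subtype with hι
  have hιi : Function.Injective ι := C.subtype_injective.comp F.subtype_injective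
  have hQ : F.map C.subtype = (⊤ : Subgroup F).map ι := by
    rw [hι, ← Subgroup.map_map, ← MonoidHom.range_eq_map, Subgroup.range_subtype]
  have hισ : ∀ q : F, ι (σ q * q⁻¹) = α * ι q * α⁻¹ * (ι q)⁻¹ := by
    intro q
    rw [map_mul, map_inv]
    congr 1
  have hzp : ∀ c : F, c ∈ Subgroup.center F ↔ ι c ∈ Subgroup.zpowers z := by
    intro c
    constructor
    · intro hc
      obtain ⟨k, hk⟩ := hP.zpowers_cover hzZ hz1 hc
      exact ⟨k, by rw [← hk]; exact (map_zpow ι zF k).symm⟩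
    · rintro ⟨k, hk⟩
      have : zF ^ k = c := hιi (by rw [map_zpow]; exact hk)
      rw [← this]; exact zpow_mem hzZ k
  have hne : CfsgLib.ESPairing.fixModCenter σ ≠ ⊤ := by
    intro h
    obtain ⟨u, hu⟩ := CfsgLib.ESPairing.exists_inner hP (σ := σ) fun q =>
      (show q ∈ CfsgLib.ESPairing.fixModCenter σ from h.symm ▸ Subgroup.mem_top q)
    have h1 : (u : C)⁻¹ * a ∈ F := hcent _ fun q hq => by
      have e := congrArg (fun w : F => (w : C)) (hu ⟨q, hq⟩)
      simp only [hσval, Subgroup.coe_mul, Subgroup.coe_inv] at e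
      calc q * ((u : C)⁻¹ * a) = (u : C)⁻¹ * ((u : C) * q * (u : C)⁻¹) * a := by group
        _ = (u : C)⁻¹ * (a * q * a⁻¹) * a := by rw [e]
        _ = (u : C)⁻¹ * a * q := by group
    have h2 := mul_mem u.2 h1
    rw [mul_inv_cancel_left] at h2
    exact hαQ ⟨a, h2, rfl⟩
  have hσσ : ∀ q : F, σ (σ q) = q := by
    intro q
    refine Subtype.ext ?_
    rw [hσval, hσval]
    have haa : a * a = 1 := Subtype.ext (by
      show α * α = 1
      rw [← sq, ← hα, pow_orderOf_eq_one])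
    calc a * (a * (q : C) * a⁻¹) * a⁻¹ = (a * a) * (q : C) * (a * a)⁻¹ := by group
      _ = q := by rw [haa, one_mul, inv_one, mul_one]
  have hQ0 : Q₀ = (CfsgLib.ESPairing.fixModCenter σ).map ι := by
    ext q
    rw [hQ₀, hQ]
    constructor
    · rintro ⟨⟨q', -, rfl⟩, h⟩
      exact ⟨q', (hzp _).2 (by rw [hισ]; exact h), rfl⟩
    · rintro ⟨q', hq', rfl⟩
      refine ⟨⟨q', trivial, rfl⟩, ?_⟩
      rw [← hισ]
      exact (hzp _).1 hq'
  refine ⟨?_, fun hnle => ?_⟩
  · have e1 : (fun q : G => α * q * α⁻¹ * q⁻¹) '' (F.map C.subtype : Set G) = ι '' Set.range fun q : F => σ q * q⁻¹ := by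
      rw [hQ]
      ext w
      constructor
      · rintro ⟨_, ⟨q, -, rfl⟩, rfl⟩
        exact ⟨_, ⟨q, rfl⟩, hισ q⟩
      · rintro ⟨_, ⟨q, rfl⟩, rfl⟩
        exact ⟨ι q, ⟨q, trivial, rfl⟩, (hισ q).symm⟩
    rw [e1, ← MonoidHom.map_closure, show Subgroup.closure (Set.range fun q : F => σ q * q⁻¹) = CfsgLib.ESPairing.commGen σ from rfl,
      CfsgLib.ESPairing.commGen_eq hP hσσ hne, hQ0]
    ext w
    constructor
    · rintro ⟨q, ⟨hq1, hq2⟩, rfl⟩
      refine ⟨⟨ι q, q, hq1, rfl⟩, Subgroup.mem_center_iff.2 ?_, rfl⟩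
      rintro ⟨_, r, hr, rfl⟩
      refine Subtype.ext ?_
      show ι r * ι q = ι q * ι r
      rw [← map_mul, ← map_mul, Subgroup.mem_centralizer_iff.1 hq2 r hr]
    · rintro ⟨⟨_, q, hq1, rfl⟩, hc, rfl⟩
      refine ⟨q, ⟨hq1, Subgroup.mem_centralizer_iff.2 fun r hr => hιi ?_⟩, rfl⟩
      rw [map_mul, map_mul]
      exact congrArg Subtype.val (Subgroup.mem_center_iff.1 hc ⟨ι r, r, hr, rfl⟩)
  · obtain ⟨q, hq, hqn⟩ := SetLike.not_le_iff_exists.1 hnle
    obtain ⟨hqQ, k, hk⟩ := (hQ₀ q).1 hq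
    refine ⟨q, hqQ, ?_⟩
    have hne1 : α * q * α⁻¹ * q⁻¹ ≠ 1 := fun e => hqn (Subgroup.mem_sup_left ⟨hqQ,
      Subgroup.mem_centralizer_singleton_iff.2 (mul_inv_eq_iff_eq_mul.1 (mul_inv_eq_one.1 e)).symm⟩)
    have hk' : z ^ k = α * q * α⁻¹ * q⁻¹ := hk
    have hz2 : z ^ (2 : ℤ) = 1 := by rw [zpow_ofNat, ← hz, pow_orderOf_eq_one]
    have he : α * q * α⁻¹ * q⁻¹ = z := by
      rcases Int.even_or_odd k with ⟨m, hm⟩ | ⟨m, hm⟩
      · exact absurd (by rw [← hk', hm, ← two_mul, zpow_mul, hz2, one_zpow]) hne1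
      · rw [← hk', hm, zpow_add, zpow_mul, hz2, one_zpow, one_mul, zpow_one]
    have hαi : α⁻¹ = α := inv_eq_of_mul_eq_one_left (by rw [← sq, ← hα, pow_orderOf_eq_one])
    calc q * α * q⁻¹ = α⁻¹ * (α * q * α⁻¹ * q⁻¹) := by rw [hαi]; nth_rw 2 [← hαi]; group
      _ = α * z := by rw [he, hαi]

end Cfsg.Agent.S1784
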