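import Cfsg.Statements.S1785
import Cfsg.Agent.Lib.Invol.Basic


set_option autoImplicit false
open Cfsg

namespace Cfsg.Agent.S1785

section

variable {X : Type*} [Group X] [Finite X]

local notation "el2" => Cfsg.IsElementaryAbelian 2

/-- The adjacency of the graph. -/
abbrev R8 (C D : Subgroup X) : Prop :=
  Cfsg.IsElementaryAbelian 2 C ∧ Nat.card ↥C = 8 ∧ Cfsg.IsElementaryAbelian 2 D ∧ Nat.card ↥D = 8 ∧
    ⁅C, D⁆ = ⊥

theorem el_of_le {A B : Subgroup X} (hB : Cfsg.IsElementaryAbelian 2 B) (h : A ≤ B) :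
    Cfsg.IsElementaryAbelian 2 A := by
  refine ⟨⟨⟨fun a b => Subtype.ext ?_⟩⟩, fun a ha => hB.2 a (h ha)⟩
  show (a : X) * (b : X) = (b : X) * (a : X)
  exact congrArg Subtype.val (hB.1.is_comm.comm (⟨a, h a.2⟩ : B) ⟨b, h b.2⟩)

theorem el_sup {A B : Subgroup X} (hA : Cfsg.IsElementaryAbelian 2 A)
    (hB : Cfsg.IsElementaryAbelian 2 B) (h : ∀ a ∈ A, ∀ b ∈ B, a * b = b * a) :
    Cfsg.IsElementaryAbelian 2 (A ⊔ B) := by
  have hgen : A ⊔ B = Subgroup.closure ((A : Set X) ∪ B) := by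
    rw [Subgroup.closure_union, Subgroup.closure_eq, Subgroup.closure_eq]
  rw [hgen]
  haveI hc : IsMulCommutative (Subgroup.closure ((A : Set X) ∪ B)) := by
    refine Subgroup.isMulCommutative_closure ?_
    rintro x (hx | hx) y (hy | hy)
    · exact congrArg Subtype.val (hA.1.is_comm.comm (⟨x, hx⟩ : A) ⟨y, hy⟩)
    · exact h x hx y hy
    · exact (h y hy x hx).symm
    · exact congrArg Subtype.val (hB.1.is_comm.comm (⟨x, hx⟩ : B) ⟨y, hy⟩)
  refine ⟨hc, fun a ha => ?_⟩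
  induction ha using Subgroup.closure_induction with
  | mem b hb => rcases hb with hb | hb; exacts [hA.2 b hb, hB.2 b hb]
  | one => exact one_pow 2
  | mul b c hb hc' ihb ihc =>
    have h' := congrArg Subtype.val (hc.is_comm.comm
      (⟨b, hb⟩ : Subgroup.closure ((A : Set X) ∪ B)) ⟨c, hc'⟩)
    rw [Commute.mul_pow h', ihb, ihc, mul_one]
  | inv b _ ih => rw [inv_pow, ih, inv_one]

theorem card_lt_sup {K : Subgroup X} {c : X} (h : c ∉ K) :
    Nat.card K < Nat.card ↥(K ⊔ Subgroup.zpowers c) := by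
  refine lt_of_le_of_ne (Nat.le_of_dvd Nat.card_pos (Subgroup.card_dvd_of_le le_sup_left)) fun e => h ?_
  rw [Subgroup.eq_of_le_of_card_ge le_sup_left e.ge]
  exact Subgroup.mem_sup_right (Subgroup.mem_zpowers c)

theorem eight_le (hX : IsPGroup 2 X) {M : Subgroup X} (h : 4 < Nat.card M) : 8 ≤ Nat.card M := by
  haveI : Fact (Nat.Prime 2) := ⟨Nat.prime_two⟩
  obtain ⟨n, hn⟩ := IsPGroup.iff_card.1 (hX.to_subgroup M)
  rw [hn] at h ⊢
  have : 2 < n := (Nat.pow_lt_pow_iff_right (a := 2) (n := 2) (by norm_num)).1 (by simpa using h)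
  exact le_trans (by norm_num) (Nat.pow_le_pow_right (n := 2) two_pos this)

/-- An involution acting on an elementary abelian group fixes at least its square root. -/
theorem fix_step (hX : IsPGroup 2 X) {E W : Subgroup X} (hE : Cfsg.IsElementaryAbelian 2 E)
    (hWE : W ≤ E) {a : X} (hW : ∀ w ∈ W, a * w * a⁻¹ ∈ W) (ha : a ^ 2 = 1) {k : ℕ}
    (hk : 2 ^ (2 * k - 1) ≤ Nat.card W) :
    2 ^ k ≤ Nat.card ↥(W ⊓ Subgroup.centralizer ({a} : Set X)) := by
  haveI : Fact (Nat.Prime 2) := ⟨Nat.prime_two⟩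
  have hWel := el_of_le hE hWE
  letI : CommGroup W :=
    { (inferInstance : Group W) with mul_comm := hWel.1.is_comm.comm }
  let f : W →* W := MonoidHom.mk' (fun w => w * ⟨a * (w : X) * a⁻¹, hW w w.2⟩) fun w v => by
    rw [mul_mul_mul_comm w]
    congr 1
    refine Subtype.ext ?_
    show a * ((w : X) * v) * a⁻¹ = a * (w : X) * a⁻¹ * (a * (v : X) * a⁻¹)
    group
  set C := W ⊓ Subgroup.centralizer ({a} : Set X) with hC
  have hai : a⁻¹ = a := inv_eq_of_mul_eq_one_right (by rw [← sq]; exact ha)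
  have hker : f.ker.map W.subtype ≤ C := by
    rintro _ ⟨w, hw, rfl⟩
    refine Subgroup.mem_inf.2 ⟨w.2, Subgroup.mem_centralizer_singleton_iff.2 ?_⟩
    have h2 : (w : X) * (a * (w : X) * a⁻¹) = 1 := congrArg Subtype.val (MonoidHom.mem_ker.1 hw)
    have h3 : ((w : X))⁻¹ = (w : X) :=
      inv_eq_of_mul_eq_one_right (by rw [← sq]; exact hWel.2 _ w.2)
    have h4 : a * (w : X) * a⁻¹ = (w : X) := (inv_eq_of_mul_eq_one_right h2).symm.trans h3
    exact (mul_inv_eq_iff_eq_mul.1 h4).symm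
  have hrange : f.range.map W.subtype ≤ C := by
    rintro _ ⟨_, ⟨w, rfl⟩, rfl⟩
    refine Subgroup.mem_inf.2 ⟨(f w).2, Subgroup.mem_centralizer_singleton_iff.2 ?_⟩
    show (w : X) * (a * (w : X) * a⁻¹) * a = a * ((w : X) * (a * (w : X) * a⁻¹))
    have hc : (w : X) * (a * (w : X) * a⁻¹) = (a * (w : X) * a⁻¹) * w :=
      congrArg Subtype.val (hWel.1.is_comm.comm w ⟨_, hW w w.2⟩)
    calc (w : X) * (a * (w : X) * a⁻¹) * a = (a * (w : X) * a⁻¹) * w * a := by rw [hc]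
      _ = a * ((w : X) * (a * (w : X) * a⁻¹)) := by rw [hai]; simp only [mul_assoc]
  have h1 := Nat.le_of_dvd Nat.card_pos (Subgroup.card_dvd_of_le hker)
  have h2 := Nat.le_of_dvd Nat.card_pos (Subgroup.card_dvd_of_le hrange)
  rw [Subgroup.card_map_of_injective W.subtype_injective] at h1 h2
  have h3 : Nat.card W ≤ Nat.card C * Nat.card C := by
    rw [← f.ker.card_mul_index, Subgroup.index_ker]
    exact Nat.mul_le_mul h1 h2
  obtain ⟨n, hn⟩ := IsPGroup.iff_card.1 (hX.to_subgroup C)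
  rw [hn] at h3 ⊢
  rw [← pow_add] at h3
  have := (Nat.pow_le_pow_iff_right (a := 2) (by norm_num)).1 (hk.trans h3)
  exact Nat.pow_le_pow_right two_pos (by omega)

theorem conj_inf {E : Subgroup X} [E.Normal] {A : Subgroup X} (hA : IsMulCommutative A) {a b : X}
    (ha : a ∈ A) (hb : b ∈ A) :
    ∀ w ∈ E ⊓ Subgroup.centralizer ({a} : Set X), b * w * b⁻¹ ∈ E ⊓ Subgroup.centralizer ({a} : Set X) := by
  intro w hw
  obtain ⟨hwE, hwa⟩ := Subgroup.mem_inf.1 hw
  refine Subgroup.mem_inf.2 ⟨Subgroup.Normal.conj_mem inferInstance w hwE b, ?_⟩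
  rw [Subgroup.mem_centralizer_singleton_iff] at hwa ⊢
  have hba : Commute b a := congrArg Subtype.val (hA.is_comm.comm (⟨b, hb⟩ : A) ⟨a, ha⟩)
  exact ((hba.mul_left (show Commute w a from hwa)).mul_left hba.inv_left).eq

theorem mem_centralizer_zpowers {a w : X} (h : w ∈ Subgroup.centralizer ({a} : Set X)) :
    w ∈ Subgroup.centralizer (Subgroup.zpowers a : Set X) := by
  rwa [Subgroup.zpowers_eq_closure, Subgroup.centralizer_closure]

theorem mem_centralizer_sup {A B : Subgroup X} {w : X} (hA : w ∈ Subgroup.centralizer (A : Set X))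
    (hB : w ∈ Subgroup.centralizer (B : Set X)) :
    w ∈ Subgroup.centralizer ((A ⊔ B : Subgroup X) : Set X) := by
  have h : A ⊔ B ≤ Subgroup.centralizer ({w} : Set X) :=
    sup_le (fun a ha => Subgroup.mem_centralizer_singleton_iff.2 (Subgroup.mem_centralizer_iff.1 hA a ha))
      (fun b hb => Subgroup.mem_centralizer_singleton_iff.2 (Subgroup.mem_centralizer_iff.1 hB b hb))
  exact Subgroup.mem_centralizer_iff.2 fun y hy => Subgroup.mem_centralizer_singleton_iff.1 (h hy)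

theorem exists_eight (hX : IsPGroup 2 X) {K M : Subgroup X} (hKM : K ≤ M) (hK : Nat.card K ≤ 8)
    (hM : 8 ≤ Nat.card M) : ∃ B : Subgroup X, K ≤ B ∧ B ≤ M ∧ Nat.card B = 8 := by
  haveI : Fact (Nat.Prime 2) := ⟨Nat.prime_two⟩
  obtain ⟨n, hn⟩ := IsPGroup.iff_card.1 (hX.to_subgroup K)
  obtain ⟨m, hm⟩ := IsPGroup.iff_card.1 (hX.to_subgroup M)
  have hn3 : n ≤ 3 := by
    rw [hn] at hK
    exact (Nat.pow_le_pow_iff_right (a := 2) (m := 3) (by norm_num)).1 (by simpa using hK)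
  have hm3 : 3 ≤ m := by
    rw [hm] at hM
    exact (Nat.pow_le_pow_iff_right (a := 2) (n := 3) (by norm_num)).1 (by simpa using hM)
  obtain ⟨B, hB, hKB⟩ := Sylow.exists_subgroup_card_pow_prime_le (G := M) (p := 2) (m := 3)
    (by rw [hm]; exact pow_dvd_pow 2 hm3) (K.subgroupOf M)
    (by rw [Nat.card_congr (Subgroup.subgroupOfEquivOfLe hKM).toEquiv, hn]) hn3
  refine ⟨B.map M.subtype, ?_, Subgroup.map_subtype_le B, ?_⟩
  · rw [← Subgroup.map_subgroupOf_eq_of_le hKM]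
    exact Subgroup.map_mono hKB
  · rw [Subgroup.card_map_of_injective M.subtype_injective, hB]
    norm_num

theorem edge_of_le {M A B : Subgroup X} (hM : Cfsg.IsElementaryAbelian 2 M) (hA : A ≤ M) (hB : B ≤ M)
    (hA8 : Nat.card A = 8) (hB8 : Nat.card B = 8) : R8 A B := by
  refine ⟨el_of_le hM hA, hA8, el_of_le hM hB, hB8, ?_⟩
  rw [Subgroup.commutator_eq_bot_iff_le_centralizer]
  exact fun a ha => Subgroup.mem_centralizer_iff.2 fun b hb =>
    congrArg Subtype.val (hM.1.is_comm.comm (⟨b, hB hb⟩ : M) ⟨a, hA ha⟩)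

/-- The intersection with `E` grows inside the fixed points. -/
theorem fix_grows (hX : IsPGroup 2 X) {E : Subgroup X} [E.Normal] (hE : Cfsg.IsElementaryAbelian 2 E)
    (hE32 : 32 ≤ Nat.card E) {A : Subgroup X} (hA : Cfsg.IsElementaryAbelian 2 A)
    (hA8 : Nat.card A = 8) (hF : Nat.card ↥(E ⊓ Subgroup.centralizer (A : Set X)) < 8) :
    Nat.card ↥(A ⊓ E) < Nat.card ↥(E ⊓ Subgroup.centralizer (A : Set X)) := by
  set D := A ⊓ E with hD
  set F := E ⊓ Subgroup.centralizer (A : Set X) with hFdef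
  have hDA : D ≤ A := inf_le_left
  have hcD : ∀ w ∈ E, w ∈ Subgroup.centralizer (D : Set X) := fun w hw =>
    Subgroup.mem_centralizer_iff.2 fun d hd =>
      congrArg Subtype.val (hE.1.is_comm.comm (⟨d, hd.2⟩ : E) ⟨w, hw⟩)
  have hnotall : ¬ A ≤ D := by
    intro h
    have h2 : A ≤ F := fun a ha => Subgroup.mem_inf.2 ⟨(h ha).2, Subgroup.mem_centralizer_iff.2
      fun b hb => congrArg Subtype.val (hA.1.is_comm.comm (⟨b, hb⟩ : A) ⟨a, ha⟩)⟩
    have := Nat.le_of_dvd Nat.card_pos (Subgroup.card_dvd_of_le h2)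
    omega
  obtain ⟨a₁, ha₁, ha₁D⟩ := SetLike.not_le_iff_exists.1 hnotall
  set K₁ := D ⊔ Subgroup.zpowers a₁
  have hK₁ : Nat.card D < Nat.card K₁ := card_lt_sup ha₁D
  have hK₁A : K₁ ≤ A := sup_le hDA (Subgroup.zpowers_le.2 ha₁)
  set W₁ := E ⊓ Subgroup.centralizer ({a₁} : Set X) with hW₁
  have hW₁c : 8 ≤ Nat.card W₁ :=
    fix_step hX hE le_rfl (fun w hw => Subgroup.Normal.conj_mem inferInstance w hw a₁)
      (hA.2 a₁ ha₁) (k := 3) (by norm_num; omega)
  have hcent₁ : ∀ w ∈ W₁, w ∈ Subgroup.centralizer (K₁ : Set X) := fun w hw =>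
    mem_centralizer_sup (hcD w hw.1) (mem_centralizer_zpowers hw.2)
  by_cases h₁ : A ≤ K₁
  · exfalso
    have hle : W₁ ≤ F := fun w hw => Subgroup.mem_inf.2
      ⟨hw.1, Subgroup.centralizer_le (SetLike.coe_subset_coe.2 h₁) (hcent₁ w hw)⟩
    have := Nat.le_of_dvd Nat.card_pos (Subgroup.card_dvd_of_le hle)
    omega
  obtain ⟨a₂, ha₂, ha₂K⟩ := SetLike.not_le_iff_exists.1 h₁
  set K₂ := K₁ ⊔ Subgroup.zpowers a₂
  have hK₂ : Nat.card K₁ < Nat.card K₂ := card_lt_sup ha₂K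
  have hK₂A : K₂ ≤ A := sup_le hK₁A (Subgroup.zpowers_le.2 ha₂)
  set W₂ := W₁ ⊓ Subgroup.centralizer ({a₂} : Set X) with hW₂
  have hW₂c : 4 ≤ Nat.card W₂ :=
    fix_step hX hE inf_le_left (conj_inf hA.1 ha₁ ha₂) (hA.2 a₂ ha₂) (k := 2) (le_trans (by norm_num) hW₁c)
  have hcent₂ : ∀ w ∈ W₂, w ∈ Subgroup.centralizer (K₂ : Set X) := fun w hw =>
    mem_centralizer_sup (hcent₁ w hw.1) (mem_centralizer_zpowers hw.2)
  have hpow : ∀ K : Subgroup X, K ≤ A → Nat.card K ∈ ({1, 2, 4, 8} : Finset ℕ) := by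
    intro K hK
    obtain ⟨i, hi, e⟩ := (Nat.dvd_prime_pow Nat.prime_two (m := 3)).1
      (show Nat.card K ∣ 2 ^ 3 by have := Subgroup.card_dvd_of_le hK; rw [hA8] at this; norm_num; exact this)
    interval_cases i <;> simp [e]
  have pD := hpow D hDA
  have p1 := hpow K₁ hK₁A
  have p2 := hpow K₂ hK₂A
  simp only [Finset.mem_insert, Finset.mem_singleton] at pD p1 p2
  by_cases h₂ : A ≤ K₂
  · have hle : W₂ ≤ F := fun w hw => Subgroup.mem_inf.2
      ⟨hw.1.1, Subgroup.centralizer_le (SetLike.coe_subset_coe.2 h₂) (hcent₂ w hw)⟩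
    have h4 := Nat.le_of_dvd Nat.card_pos (Subgroup.card_dvd_of_le hle)
    omega
  obtain ⟨a₃, ha₃, ha₃K⟩ := SetLike.not_le_iff_exists.1 h₂
  set K₃ := K₂ ⊔ Subgroup.zpowers a₃
  have hK₃ : Nat.card K₂ < Nat.card K₃ := card_lt_sup ha₃K
  have hK₃A : K₃ ≤ A := sup_le hK₂A (Subgroup.zpowers_le.2 ha₃)
  have p3 := hpow K₃ hK₃A
  simp only [Finset.mem_insert, Finset.mem_singleton] at p3
  have hK₃eq : K₃ = A := Subgroup.eq_of_le_of_card_ge hK₃A (by omega)
  set W₃ := W₂ ⊓ Subgroup.centralizer ({a₃} : Set X) with hW₃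
  have hconj : ∀ w ∈ W₂, a₃ * w * a₃⁻¹ ∈ W₂ := fun w hw =>
    Subgroup.mem_inf.2 ⟨conj_inf hA.1 ha₁ ha₃ w hw.1,
      (conj_inf hA.1 ha₂ ha₃ w (Subgroup.mem_inf.2 ⟨hw.1.1, hw.2⟩)).2⟩
  have hW₃c : 2 ≤ Nat.card W₃ :=
    fix_step hX hE (inf_le_left.trans inf_le_left) hconj (hA.2 a₃ ha₃) (k := 1) (le_trans (by norm_num) hW₂c)
  have hle : W₃ ≤ F := fun w hw => Subgroup.mem_inf.2
    ⟨hw.1.1.1, hK₃eq ▸ mem_centralizer_sup (hcent₂ w hw.1) (mem_centralizer_zpowers hw.2)⟩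
  have h2 := Nat.le_of_dvd Nat.card_pos (Subgroup.card_dvd_of_le hle)
  omega

theorem toE (hX : IsPGroup 2 X) (E : Subgroup X) [E.Normal] (hE : Cfsg.IsElementaryAbelian 2 E)
    (hE32 : 32 ≤ Nat.card E) :
    ∀ (n : ℕ) (A : Subgroup X), Cfsg.IsElementaryAbelian 2 A → Nat.card A = 8 →
      8 - Nat.card ↥(A ⊓ E) = n →
      ∃ A' : Subgroup X, A' ≤ E ∧ Nat.card A' = 8 ∧ Relation.ReflTransGen R8 A A' := by
  intro n
  induction n using Nat.strongRecOn with
  | ind n ih =>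
  intro A hA hA8 hn
  set F := E ⊓ Subgroup.centralizer (A : Set X) with hFdef
  have hM : Cfsg.IsElementaryAbelian 2 (A ⊔ F) :=
    el_sup hA (el_of_le hE inf_le_left) (fun a ha w hw => Subgroup.mem_centralizer_iff.1 hw.2 a ha)
  by_cases hF : 8 ≤ Nat.card F
  · obtain ⟨B, -, hBF, hB8⟩ := exists_eight hX (bot_le : (⊥ : Subgroup X) ≤ F)
      (by rw [Subgroup.card_bot]; norm_num) hF
    exact ⟨B, hBF.trans inf_le_left, hB8,
      Relation.ReflTransGen.single (edge_of_le hM le_sup_left (hBF.trans le_sup_right) hA8 hB8)⟩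
  · push Not at hF
    have hgrow : Nat.card ↥(A ⊓ E) < Nat.card F := fix_grows hX hE hE32 hA hA8 hF
    obtain ⟨B, hFB, hBM, hB8⟩ := exists_eight hX (le_sup_right : F ≤ A ⊔ F) hF.le
      (hA8 ▸ Nat.le_of_dvd Nat.card_pos (Subgroup.card_dvd_of_le le_sup_left))
    have hB' : Nat.card F ≤ Nat.card ↥(B ⊓ E) :=
      Nat.le_of_dvd Nat.card_pos (Subgroup.card_dvd_of_le (le_inf hFB inf_le_left))
    obtain ⟨A', h1, h2, h3⟩ := ih _ (by omega) B (el_of_le hM hBM) hB8 rfl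
    exact ⟨A', h1, h2, Relation.ReflTransGen.head (edge_of_le hM le_sup_left hBM hA8 hB8) h3⟩

end

/-- Let X be a finite 2-group having a normal elementary abelian subgroup of order at least 32. Then (a) for any two elementary abelian subgroups A, B of X of order 8 there is a chain A = A₁, A₂, …, Aₙ = B of elementary abelian subgroups of order 8 in which consecutive members commute elementwise; and (b) every elementary abelian subgroup of X of order 4 is contained in an elementary abelian subgroup of order 8. -/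
theorem result {X : Type*} [Group X] [Finite X]
    (hX : IsPGroup 2 X) (E : Subgroup X) [E.Normal] (hE : Cfsg.IsElementaryAbelian 2 E) (hE32 : 32 ≤ Nat.card ↥E) :
    (∀ A B : Subgroup X, Cfsg.IsElementaryAbelian 2 A → Nat.card ↥A = 8 → Cfsg.IsElementaryAbelian 2 B → Nat.card ↥B = 8 →
        Relation.ReflTransGen
          (fun C D : Subgroup X => Cfsg.IsElementaryAbelian 2 C ∧ Nat.card ↥C = 8 ∧ Cfsg.IsElementaryAbelian 2 D ∧ Nat.card ↥D = 8 ∧ ⁅C, D⁆ = ⊥)
          A B) ∧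
      (∀ V : Subgroup X, Cfsg.IsElementaryAbelian 2 V → Nat.card ↥V = 4 →
        ∃ A : Subgroup X, V ≤ A ∧ Cfsg.IsElementaryAbelian 2 A ∧ Nat.card ↥A = 8) := by
  haveI : Fact (Nat.Prime 2) := ⟨Nat.prime_two⟩
  refine ⟨fun A B hA hA8 hB hB8 => ?_, fun V hV hV4 => ?_⟩
  · obtain ⟨A', hA'E, hA'8, hA'⟩ := toE hX E hE hE32 _ A hA hA8 rfl
    obtain ⟨B', hB'E, hB'8, hB'⟩ := toE hX E hE hE32 _ B hB hB8 rfl
    have hsymm : ∀ C D : Subgroup X, R8 C D → R8 D C := fun C D h =>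
      ⟨h.2.2.1, h.2.2.2.1, h.1, h.2.1, by rw [Subgroup.commutator_comm]; exact h.2.2.2.2⟩
    have hrev : ∀ {C D : Subgroup X}, Relation.ReflTransGen R8 C D → Relation.ReflTransGen R8 D C := by
      intro C D h
      induction h with
      | refl => exact .refl
      | tail _ h ih => exact .head (hsymm _ _ h) ih
    exact (hA'.trans (Relation.ReflTransGen.single (edge_of_le hE hA'E hB'E hA'8 hB'8))).trans (hrev hB')
  · obtain ⟨a, haV, ha1⟩ : ∃ a ∈ V, a ≠ 1 := (Subgroup.bot_or_exists_ne_one V).resolve_left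
      (fun e => by rw [e, Subgroup.card_bot] at hV4; omega)
    obtain ⟨b, hbV, hb⟩ : ∃ b ∈ V, b ∉ Subgroup.zpowers a := by
      by_contra h
      push Not at h
      have h2 : Nat.card V ∣ Nat.card (Subgroup.zpowers a) := Subgroup.card_dvd_of_le h
      rw [Nat.card_zpowers, orderOf_eq_prime (hV.2 a haV) ha1, hV4] at h2
      norm_num at h2
    have hK : Subgroup.zpowers a ⊔ Subgroup.zpowers b = V := by
      refine Subgroup.eq_of_le_of_card_ge
        (sup_le (Subgroup.zpowers_le.2 haV) (Subgroup.zpowers_le.2 hbV)) ?_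
      have hlt : Nat.card (Subgroup.zpowers a) <
          Nat.card ↥(Subgroup.zpowers a ⊔ Subgroup.zpowers b) := card_lt_sup hb
      rw [Nat.card_zpowers, orderOf_eq_prime (hV.2 a haV) ha1] at hlt
      have hd : Nat.card ↥(Subgroup.zpowers a ⊔ Subgroup.zpowers b) ∣ 4 :=
        hV4 ▸ Subgroup.card_dvd_of_le
          (sup_le (Subgroup.zpowers_le.2 haV) (Subgroup.zpowers_le.2 hbV))
      have h3 := (Nat.dvd_prime_pow Nat.prime_two (i := Nat.card ↥(Subgroup.zpowers a ⊔ Subgroup.zpowers b))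
        (m := 2)).1 hd
      obtain ⟨i, hi, e⟩ := h3
      interval_cases i <;> omega
    obtain ⟨W₁, hW₁, hW₁c⟩ : ∃ W : Subgroup X, W = E ⊓ Subgroup.centralizer ({a} : Set X) ∧
        8 ≤ Nat.card W := ⟨_, rfl, fix_step hX hE le_rfl (fun w hw => Subgroup.Normal.conj_mem inferInstance w hw a)
          (hV.2 a haV) (k := 3) (by omega)⟩
    have hconj : ∀ w ∈ W₁, b * w * b⁻¹ ∈ W₁ := by
      subst hW₁
      exact conj_inf (hV.1) haV hbV
    have hW₂ := fix_step hX hE (W := W₁) (hW₁ ▸ inf_le_left) hconj (hV.2 b hbV) (k := 2) (by omega)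
    have hle : W₁ ⊓ Subgroup.centralizer ({b} : Set X) ≤ E ⊓ Subgroup.centralizer (V : Set X) := by
      intro w hw
      obtain ⟨hw1, hwb⟩ := Subgroup.mem_inf.1 hw
      rw [hW₁] at hw1
      refine Subgroup.mem_inf.2 ⟨hw1.1, ?_⟩
      rw [← hK]
      exact mem_centralizer_sup (mem_centralizer_zpowers hw1.2) (mem_centralizer_zpowers hwb)
    set F := E ⊓ Subgroup.centralizer (V : Set X) with hF
    have hFc : 4 ≤ Nat.card F := hW₂.trans (Nat.le_of_dvd Nat.card_pos (Subgroup.card_dvd_of_le hle))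
    obtain ⟨c, hcF, hcV⟩ : ∃ c ∈ F, c ∉ V := by
      by_contra h
      push Not at h
      have e : F = V := Subgroup.eq_of_le_of_card_ge h (by omega)
      have hVE : V ≤ E := e ▸ inf_le_left
      have h32 : E ≤ F := le_inf le_rfl fun w hw => Subgroup.mem_centralizer_iff.2 fun v hv =>
        congrArg Subtype.val (hE.1.is_comm.comm (⟨v, hVE hv⟩ : E) ⟨w, hw⟩)
      have := Nat.le_of_dvd Nat.card_pos (Subgroup.card_dvd_of_le h32)
      rw [e] at this
      omega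
    have hM : Cfsg.IsElementaryAbelian 2 (V ⊔ F) :=
      el_sup hV ⟨(el_of_le hE inf_le_left).1, (el_of_le hE inf_le_left).2⟩
        (fun v hv w hw => Subgroup.mem_centralizer_iff.1 hw.2 v hv)
    have h8 : 8 ≤ Nat.card ↥(V ⊔ F) := by
      have hlt : Nat.card V < Nat.card ↥(V ⊔ F) := by
        refine lt_of_lt_of_le (card_lt_sup hcV) (Nat.le_of_dvd Nat.card_pos
          (Subgroup.card_dvd_of_le (sup_le le_sup_left ?_)))
        exact le_sup_of_le_right (Subgroup.zpowers_le.2 hcF)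
      exact eight_le hX (hV4 ▸ hlt)
    obtain ⟨A, hVA, hAM, hA8⟩ := exists_eight hX (le_sup_left : V ≤ V ⊔ F) (by omega) h8
    exact ⟨A, hVA, el_of_le hM hAM, hA8⟩

end Cfsg.Agent.S1785
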