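import Cfsg.Statements.S1786
import Cfsg.Agent.Lib.Invol.TIPair.Main
import Cfsg.Agent.Lib.Coprime.Component
import Cfsg.Agent.Lib.JComp.Prelim

set_option autoImplicit false
open Cfsg

namespace Cfsg.Agent.S1786

/-- Let G be a finite group, V an elementary abelian 2-subgroup of G and M the normalizer of V; write Q for the largest normal 2-subgroup of M. Suppose (1) the generalized Fitting subgroup of M equals Q; (2) V is a maximal abelian normal subgroup of M; (3) every conjugate of V equals V or meets V trivially, and for some g ∈ G the conjugate V' = g V g⁻¹ is different from V and contained in Q. Let P be the centralizer of V in Q, W the subgroup generated by V and V', and H the subgroup generated by P and g P g⁻¹. Then: (a) V is contained in g Q g⁻¹; (b) every non-identity element of W lies in exactly one conjugate of V contained in W, H normalizes W, and H modulo the centralizer of W in H is isomorphic to the special linear group of dimension 2 over the field with |V| elements; (c) P = Q, and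 V equals the Frattini subgroup, the centre and the commutator subgroup of Q. -/
theorem result {G : Type*} [Group G] [Finite G] (V : Subgroup G)
    (hV : Cfsg.IsElementaryAbelian 2 V)
    (h1 : (Cfsg.generalizedFittingSubgroup ↥(Subgroup.normalizer (V : Set G))).map (Subgroup.normalizer (V : Set G)).subtype =
      (Cfsg.pCore 2 ↥(Subgroup.normalizer (V : Set G))).map (Subgroup.normalizer (V : Set G)).subtype)
    (h2 : ∀ A : Subgroup G, V ≤ A → A ≤ Subgroup.normalizer (V : Set G) → IsMulCommutative ↥A →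
      (∀ m ∈ Subgroup.normalizer (V : Set G), ∀ a ∈ A, m * a * m⁻¹ ∈ A) → A = V)
    (hti : ∀ x : G, V.map (MulAut.conj x).toMonoidHom = V ∨ V.map (MulAut.conj x).toMonoidHom ⊓ V = ⊥)
    (g : G) (hg : V.map (MulAut.conj g).toMonoidHom ≠ V)
    (hgQ : V.map (MulAut.conj g).toMonoidHom ≤ (Cfsg.pCore 2 ↥(Subgroup.normalizer (V : Set G))).map (Subgroup.normalizer (V : Set G)).subtype) :
    let Q : Subgroup G := (Cfsg.pCore 2 ↥(Subgroup.normalizer (V : Set G))).map (Subgroup.normalizer (V : Set G)).subtype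
    let P : Subgroup G := Q ⊓ Subgroup.centralizer (V : Set G)
    let W : Subgroup G := V ⊔ V.map (MulAut.conj g).toMonoidHom
    let H : Subgroup G := P ⊔ P.map (MulAut.conj g).toMonoidHom
    V ≤ Q.map (MulAut.conj g).toMonoidHom ∧
      (∀ w ∈ W, w ≠ 1 → ∃! U : Subgroup G, (∃ x : G, U = V.map (MulAut.conj x).toMonoidHom) ∧ U ≤ W ∧ w ∈ U) ∧
      H ≤ Subgroup.normalizer (W : Set G) ∧
      (∀ hN : ((Subgroup.centralizer (W : Set G)).subgroupOf H).Normal, ∃ (F : Type) (_ : Field F) (_ : Fintype F), Fintype.card F = Nat.card ↥V ∧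
        Nonempty (↥H ⧸ (Subgroup.centralizer (W : Set G)).subgroupOf H ≃* Matrix.SpecialLinearGroup (Fin 2) F)) ∧
      P = Q ∧ (frattini ↥Q).map Q.subtype = V ∧ (Subgroup.center ↥Q).map Q.subtype = V ∧ (commutator ↥Q).map Q.subtype = V := by
  intro Q P W H
  classical
  haveI : Fact (Nat.Prime 2) := ⟨Nat.prime_two⟩
  set M := Subgroup.normalizer (V : Set G) with hM
  haveI := CfsgLib.Coprime.pCore_normal' (G := M) 2
  have hF : Cfsg.generalizedFittingSubgroup M = Cfsg.pCore 2 M :=
    Subgroup.map_injective M.subtype_injective h1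
  have hyp : CfsgLib.Invol.TIPair.Hyp V Q :=
    { elem := hV
      le := Subgroup.map_subtype_le _
      nrm := by
        rintro m hm _ ⟨a, ha, rfl⟩
        exact ⟨⟨m, hm⟩ * a * ⟨m, hm⟩⁻¹, Subgroup.Normal.conj_mem inferInstance a ha _, rfl⟩
      pgroup := (CfsgLib.Coprime.pCore_isPGroup 2).map _
      core := fun K hK hKp hKn => CfsgLib.JComp.le_pCoreOf hK hKp (CfsgLib.JComp.le_normalizer_of_conj hKn)
      self := fun x hx hc => by
        refine ⟨⟨x, hx⟩, ?_, rfl⟩
        rw [← hF]
        refine CfsgLib.Coprime.centralizer_generalizedFitting_le (Subgroup.mem_centralizer_iff.2 fun y hy => ?_)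
        exact Subtype.ext (hc y ⟨y, hF ▸ hy, rfl⟩).symm
      maxab := fun A hVA hAle hAc hAn => (h2 A hVA hAle ⟨⟨fun a b => Subtype.ext (hAc a a.2 b b.2)⟩⟩ hAn).le
      ti := fun x y w hw hx hy => by
        have hw' : y⁻¹ * w * y ∈ CfsgLib.Invol.TIPair.cj (y⁻¹ * x) V := by
          rw [CfsgLib.Invol.TIPair.mem_cj] at hx ⊢
          simpa [mul_assoc] using hx
        rcases hti (y⁻¹ * x) with e | e
        · calc CfsgLib.Invol.TIPair.cj x V
              = CfsgLib.Invol.TIPair.cj y (CfsgLib.Invol.TIPair.cj (y⁻¹ * x) V) := by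
                rw [CfsgLib.Invol.TIPair.cj_mul, mul_inv_cancel_left]
            _ = CfsgLib.Invol.TIPair.cj y V := congrArg _ e
        · exfalso
          have h0 := (Subgroup.eq_bot_iff_forall _).1 e _ ⟨hw', CfsgLib.Invol.TIPair.mem_cj.1 hy⟩
          refine hw ?_
          calc w = y * (y⁻¹ * w * y) * y⁻¹ := by group
            _ = 1 := by rw [h0]; group }
  have k : CfsgLib.Invol.TIPair.Pair V Q g := ⟨hyp, hg, hgQ⟩
  obtain ⟨hb, hn, hs, hc⟩ := k.main
  refine ⟨k.V_le_conj, fun w hw hw1 => ?_, hn, hs, hc, k.invariants⟩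
  obtain ⟨x, hxW, hwx⟩ := hb w hw hw1
  refine ⟨_, ⟨⟨x, rfl⟩, hxW, hwx⟩, ?_⟩
  rintro U ⟨⟨y, rfl⟩, -, hwy⟩
  exact hyp.ti y x w hw1 hwy hwx

end Cfsg.Agent.S1786
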