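import Cfsg.Statements.S1850
import Cfsg.Agent.Lib.PGroup.CharPLocal


set_option autoImplicit false
open Cfsg

namespace Cfsg.Agent.S1850

/-- Let G be a non-abelian finite simple QTKE-group and T a Sylow 2-subgroup of G. If U is a nontrivial 2-subgroup of G with U ∩ Z(T) ≠ 1, then F*(N_G(U)) = O₂(N_G(U)). -/
theorem result {G : Type*} [Group G] [Finite G] [IsSimpleGroup G]
    (hG : ¬ IsMulCommutative G) (hQ : Cfsg.IsQTKE G) (T : Sylow 2 G) (U : Subgroup G)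
    (hU : IsPGroup 2 ↥U) (hZ : U ⊓ ((T : Subgroup G) ⊓ Subgroup.centralizer ((T : Subgroup G) : Set G)) ≠ ⊥) :
    Subgroup.normalizer (U : Set G) ∈ Cfsg.calHe G := by
  haveI : Fact (Nat.Prime 2) := ⟨Nat.prime_two⟩
  obtain ⟨z, hz, hz1⟩ := (Subgroup.ne_bot_iff_exists_ne_one.1 hZ).elim fun z h => (⟨z.1, z.2, fun e => h (Subtype.ext e)⟩ : ∃ z : G, z ∈ U ⊓ ((T : Subgroup G) ⊓ Subgroup.centralizer ((T : Subgroup G) : Set G)) ∧ z ≠ 1)
  set Z := Subgroup.zpowers z with hZdef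
  have hZp : IsPGroup 2 Z := T.2.to_le (Subgroup.zpowers_le.2 hz.2.1)
  have hTN : (T : Subgroup G) ≤ Subgroup.normalizer (Z : Set G) := by
    refine le_trans ?_ (Subgroup.centralizer_le_normalizer _)
    rw [hZdef, ← CfsgLib.CharPLoc.centralizer_singleton_eq]
    exact fun t ht => Subgroup.mem_centralizer_singleton_iff.2 (Subgroup.mem_centralizer_iff.1 hz.2.2 t ht)
  have h1 := CfsgLib.Invol.pClean_of_centralizer_le
    (hQ.2.2 _ ⟨Z, hZp, fun e => hz1 (Subgroup.zpowers_eq_bot.1 e), rfl⟩ ⟨T, hTN⟩)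
  have h2 := CfsgLib.Invol.pClean_subgroup_congr (CfsgLib.CharPLoc.centralizer_singleton_eq z).symm
    ((CfsgLib.CharPLoc.pClean_normalizer_iff hZp).1 h1)
  exact CfsgLib.CharPLoc.fStar_eq_pCore_iff.2 (CfsgLib.CharPLoc.pClean_normalizer_of_central hU hz.1 h2)

end Cfsg.Agent.S1850
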