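import Cfsg.Statements.S1892
import Cfsg.Agent.Lib.Block.PSolvableOne
import Cfsg.Agent.Lib.Coprime.Action
import Cfsg.Agent.Lib.Coprime.Core

set_option autoImplicit false
open Cfsg

namespace Cfsg.Agent.S1892

/-- Let S be a finite p-solvable group with no nontrivial normal subgroup of order prime to p, A a p-subgroup of S, and Q a nontrivial A-invariant subgroup of order prime to p with [A, Q] = Q. Then the commutator [O_p(S), A, Q] is nontrivial. -/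
theorem result {S : Type*} [Group S] [Finite S] {p : ℕ} [Fact p.Prime]
    (hS : Cfsg.IsPSolvable p S) (hred : Cfsg.pPrimeCore p S = ⊥)
    (A Q : Subgroup S) (hA : IsPGroup p A) (hQ : ¬ p ∣ Nat.card Q) (hQ1 : Q ≠ ⊥)
    (hinv : ∀ a ∈ A, ∀ x ∈ Q, a * x * a⁻¹ ∈ Q) (hAQ : ⁅A, Q⁆ = Q) :
    ⁅⁅Cfsg.pCore p S, A⁆, Q⁆ ≠ ⊥ := by
  intro hbot
  have hp : p.Prime := Fact.out
  set V : Subgroup S := Cfsg.pCore p S with hV
  have hVn : V.Normal := CfsgLib.Coprime.pCore_normal' p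
  have hVp : IsPGroup p V := CfsgLib.Coprime.pCore_isPGroup p
  set W : Subgroup S := ⁅V, A⁆ with hW
  have hQW : Q ≤ Subgroup.centralizer (W : Set S) := by
    rw [← Subgroup.commutator_eq_bot_iff_le_centralizer, Subgroup.commutator_comm]
    exact hbot
  have hAW : A ≤ Subgroup.normalizer (W : Set S) := by
    rw [hW, Subgroup.commutator_comm]; exact Subgroup.normalizer_commutator_ge_left A V
  have hQW' : Q ≤ Subgroup.normalizer (W : Set S) :=
    hQW.trans (Subgroup.centralizer_le_normalizer _)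
  have hcn : ∀ {g x : S}, g ∈ Subgroup.normalizer (W : Set S) → x ∈ W → g * x * g⁻¹ ∈ W :=
    fun hg hx => (Subgroup.mem_normalizer_iff.1 hg _).1 hx
  let T : Subgroup S :=
    { carrier := {g | g ∈ Subgroup.normalizer (W : Set S) ∧ ∀ v ∈ V, g * v * g⁻¹ * v⁻¹ ∈ W}
      one_mem' := ⟨one_mem _, fun v _ => by simpa using one_mem W⟩
      mul_mem' := by
        rintro g h ⟨hg, hg'⟩ ⟨hh, hh'⟩
        refine ⟨mul_mem hg hh, fun v hv => ?_⟩
        rw [show g * h * v * (g * h)⁻¹ * v⁻¹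
          = g * (h * v * h⁻¹ * v⁻¹) * g⁻¹ * (g * v * g⁻¹ * v⁻¹) by group]
        exact mul_mem (hcn hg (hh' v hv)) (hg' v hv)
      inv_mem' := by
        rintro g ⟨hg, hg'⟩
        refine ⟨inv_mem hg, fun v hv => ?_⟩
        rw [show g⁻¹ * v * g⁻¹⁻¹ * v⁻¹ = g⁻¹ * (g * v * g⁻¹ * v⁻¹)⁻¹ * (g⁻¹)⁻¹ by group]
        exact hcn (inv_mem hg) (inv_mem (hg' v hv)) }
  have hAT : ∀ a ∈ A, a ∈ T := fun a ha => ⟨hAW ha, fun v hv => by
    rw [show a * v * a⁻¹ * v⁻¹ = (v * a * v⁻¹ * a⁻¹)⁻¹ by group]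
    exact inv_mem (Subgroup.commutator_mem_commutator hv ha)⟩
  have hTn : ∀ g ∈ Subgroup.normalizer (W : Set S), ∀ t ∈ T, g * t * g⁻¹ ∈ T := by
    rintro g hg t ⟨ht, ht'⟩
    refine ⟨mul_mem (mul_mem hg ht) (inv_mem hg), fun v hv => ?_⟩
    have hu : g⁻¹ * v * g ∈ V := by simpa using hVn.conj_mem v hv g⁻¹
    rw [show g * t * g⁻¹ * v * (g * t * g⁻¹)⁻¹ * v⁻¹
      = g * (t * (g⁻¹ * v * g) * t⁻¹ * (g⁻¹ * v * g)⁻¹) * g⁻¹ by group]
    exact hcn hg (ht' _ hu)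
  have hQT : Q ≤ T := by
    rw [← hAQ, Subgroup.commutator_le]
    intro a ha q hq
    rw [commutatorElement_def, show a * q * a⁻¹ * q⁻¹ = a * (q * a⁻¹ * q⁻¹) by group]
    exact mul_mem (hAT a ha) (hTn q (hQW' hq) _ (inv_mem (hAT a ha)))
  have hVQ : ⁅V, Q⁆ ≤ W := by
    rw [Subgroup.commutator_le]
    intro v hv q hq
    rw [commutatorElement_def, show v * q * v⁻¹ * q⁻¹ = (q * v * q⁻¹ * v⁻¹)⁻¹ by group]
    exact inv_mem ((hQT hq).2 v hv)
  have hcop : (Nat.card Q).Coprime (Nat.card V) := by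
    obtain ⟨n, hn⟩ := IsPGroup.iff_card.1 hVp
    rw [hn]
    exact Nat.Coprime.pow_right n ((hp.coprime_iff_not_dvd.2 hQ).symm)
  have hsol : Group.IsSolvable Q ∨ Group.IsSolvable V :=
    Or.inr (CfsgLib.Coprime.isSolvable_of_isNilpotent hVp.isNilpotent)
  have hQN : Q ≤ Subgroup.normalizer (V : Set S) := by
    rw [Subgroup.normalizer_eq_top (H := V)]; exact le_top
  have hVQ1 : ⁅V, Q⁆ = ⊥ := by
    rw [← CfsgLib.Coprime.commutator_commutator_eq hQN hcop hsol, eq_bot_iff]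
    calc ⁅⁅V, Q⁆, Q⁆ ≤ ⁅W, Q⁆ := Subgroup.commutator_mono hVQ le_rfl
      _ = ⊥ := hbot
  have hQV : Q ≤ V := by
    refine le_trans ?_ (CfsgLib.Block.centralizer_pCore_le_of_isPSolvable hS hred)
    rwa [← Subgroup.commutator_eq_bot_iff_le_centralizer, Subgroup.commutator_comm]
  refine hQ1 (Subgroup.eq_bot_of_card_eq _ ?_)
  have h1 : Nat.card Q ∣ Nat.card V := Subgroup.card_dvd_of_le hQV
  exact Nat.eq_one_of_dvd_coprimes hcop dvd_rfl h1

end Cfsg.Agent.S1892
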