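import Cfsg.Statements.S1897
import Cfsg.Agent.Lib.Invol.UnitaryThreeThree
import Cfsg.Agent.Lib.Char.SmallSpectra

set_option autoImplicit false
open Cfsg

namespace Cfsg.Agent.S1897

/-- The projective special unitary group PSU₃(3) (realised over the field with 9 elements) has a subgroup isomorphic to PSL₂(7). -/
theorem result {F : Type*} [Field F] [Fintype F] (hF : Fintype.card F = 9)
    {K : Type*} [Field K] [Fintype K] (hK : Fintype.card K = 7) :
    ∃ H : Subgroup (Cfsg.PSU 3 F 3), Nonempty (H ≃* Matrix.ProjectiveSpecialLinearGroup (Fin 2) K) := by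
  classical
  haveI : IsSimpleGroup (Matrix.ProjectiveSpecialLinearGroup (Fin 2) K) :=
    Matrix.ProjectiveSpecialLinearGroup.rank_two_simple (by rw [Nat.card_eq_fintype_card, hK]; norm_num)
  have hc : Nat.card (Matrix.ProjectiveSpecialLinearGroup (Fin 2) K) = 168 := by
    have h2 := CfsgLib.Char.TwoChars.card_psl_odd (F := K) (by rw [hK]; decide)
    rw [hK] at h2
    omega
  obtain ⟨e⟩ := CfsgLib.Perm.Small.s168_equiv_model hc
  obtain ⟨ψ, a, b, hab⟩ := CfsgLib.Invol.U33.exists_hom hF
  let χ : Matrix.ProjectiveSpecialLinearGroup (Fin 2) K →* Cfsg.PSU 3 F 3 :=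
    (QuotientGroup.mk' (Subgroup.center (Cfsg.SU 3 F 3))).comp (ψ.comp e.toMonoidHom)
  have hinj : Function.Injective χ := by
    rw [← MonoidHom.ker_eq_bot_iff]
    refine (IsSimpleGroup.eq_bot_or_eq_top_of_normal _ (MonoidHom.normal_ker χ)).resolve_right fun h => ?_
    have h1 : χ (e.symm b) = 1 := by
      rw [← MonoidHom.mem_ker, h]
      exact Subgroup.mem_top _
    have h2 : ψ b ∈ Subgroup.center (Cfsg.SU 3 F 3) := by
      simpa [χ, QuotientGroup.eq_one_iff] using h1
    exact hab (Subgroup.mem_center_iff.1 h2 (ψ a))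
  exact ⟨χ.range, ⟨(MonoidHom.ofInjective hinj).symm⟩⟩

end Cfsg.Agent.S1897
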