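import Cfsg.Statements.S1898
import Mathlib
-- import your own Cfsg.Agent.* helpers here

set_option autoImplicit false
open Cfsg
open scoped commutatorElement

namespace Cfsg.Agent.S1898

/-- Let X be a finite 2-group whose derived subgroup is elementary abelian and central. Then the subgroup generated by the elements of order dividing 4 has exponent dividing 4, and every automorphism of X fixing each element of order dividing 4 has 2-power order. -/
theorem result {X : Type*} [Group X] [Finite X] (hX : IsPGroup 2 X)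
    (hel : Cfsg.IsElementaryAbelian 2 (commutator X)) (hcen : commutator X ≤ Subgroup.center X) :
    (∀ x ∈ Subgroup.closure {g : X | g ^ 4 = 1}, x ^ 4 = 1) ∧
      ∀ φ : MulAut X, (∀ g : X, g ^ 4 = 1 → φ g = g) → ∃ k : ℕ, φ ^ (2 ^ k) = 1 := by
  have hc : ∀ a b : X, ⁅a, b⁆ ∈ Subgroup.center X ∧ ⁅a, b⁆ ^ 2 = 1 := fun a b =>
    ⟨hcen (Subgroup.commutator_mem_commutator (Subgroup.mem_top a) (Subgroup.mem_top b)),
      hel.2 _ (Subgroup.commutator_mem_commutator (Subgroup.mem_top a) (Subgroup.mem_top b))⟩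
  have hsq : ∀ a b : X, (a * b) ^ 2 = ⁅b, a⁆ * (a ^ 2 * b ^ 2) := fun a b => by
    have hba : b * a = ⁅b, a⁆ * (a * b) := by rw [commutatorElement_def]; group
    have hz := Subgroup.mem_center_iff.1 (hc b a).1
    calc (a * b) ^ 2 = a * (b * a) * b := by rw [pow_two]; group
      _ = a * ⁅b, a⁆ * (a * b) * b := by rw [hba]; group
      _ = ⁅b, a⁆ * (a ^ 2 * b ^ 2) := by rw [hz a, pow_two, pow_two]; group
  have hcomm : ∀ a b : X, Commute (a ^ 2) b := fun a b => by
    have hz := Subgroup.mem_center_iff.1 (hc b a).1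
    have h : b * a * b⁻¹ = ⁅b, a⁆ * a := by rw [commutatorElement_def]; group
    have h' : b * a ^ 2 * b⁻¹ = a ^ 2 := by
      rw [← conj_pow, h, Commute.mul_pow (hz a).symm, (hc b a).2, one_mul]
    exact (mul_inv_eq_iff_eq_mul.1 h').symm
  have h4 : ∀ a b : X, (a * b) ^ 4 = a ^ 4 * b ^ 4 := fun a b => by
    rw [show (4 : ℕ) = 2 * 2 from rfl, pow_mul, pow_mul, pow_mul, hsq,
      (Commute.mul_pow (Subgroup.mem_center_iff.1 (hc b a).1 _).symm 2), (hc b a).2, one_mul,
      (hcomm a (b ^ 2)).mul_pow]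
  refine ⟨fun x hx => ?_, fun φ hφ => ?_⟩
  · induction hx using Subgroup.closure_induction with
    | mem g hg => exact hg
    | one => exact one_pow _
    | mul a b _ _ iha ihb => rw [h4, iha, ihb, one_mul]
    | inv a _ iha => rw [inv_pow, iha, inv_one]
  obtain ⟨k, m, hm, hkm⟩ : ∃ k m, ¬ 2 ∣ m ∧ orderOf φ = 2 ^ k * m :=
    ⟨(orderOf φ).factorization 2, orderOf φ / 2 ^ (orderOf φ).factorization 2,
      Nat.not_dvd_ordCompl Nat.prime_two (orderOf_pos φ).ne', (Nat.ordProj_mul_ordCompl_eq_self _ 2).symm⟩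
  refine ⟨k, ?_⟩
  obtain ⟨ψ, hψ⟩ : ∃ ψ, ψ = φ ^ (2 ^ k) := ⟨_, rfl⟩
  have hψm : ψ ^ m = 1 := by rw [hψ, ← pow_mul, ← hkm, pow_orderOf_eq_one]
  have hψf : ∀ g : X, g ^ 4 = 1 → ψ g = g := fun g hg => by
    rw [hψ]
    clear hkm hψ
    induction 2 ^ k with
    | zero => rfl
    | succ j ih => rw [pow_succ, MulAut.mul_apply, hφ g hg, ih]
  rw [← hψ]
  ext x
  obtain ⟨e, he⟩ := hX x
  show ψ x = x
  induction e generalizing x with
  | zero => rw [pow_zero, pow_one] at he; rw [he, map_one]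
  | succ e ih =>
    have h2 : ψ (x ^ 2) = x ^ 2 := ih (x ^ 2) (by rw [← pow_mul, ← pow_succ']; exact he)
    obtain ⟨u, hu⟩ : ∃ u, ψ x = x * u := ⟨x⁻¹ * ψ x, by group⟩
    have hu4 : u ^ 4 = 1 := by
      have h' := h4 x u
      rw [← hu, ← map_pow, show x ^ 4 = (x ^ 2) ^ 2 from pow_mul x 2 2, map_pow, h2] at h'
      exact left_eq_mul.1 h'
    have hj : ∀ j : ℕ, (ψ ^ j) x = x * u ^ j := fun j => by
      induction j with
      | zero => rw [pow_zero, pow_zero, mul_one]; rfl
      | succ j ihj => rw [pow_succ', MulAut.mul_apply, ihj, map_mul, hu, map_pow, hψf u hu4, pow_succ', mul_assoc]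
    have hum : u ^ m = 1 := by
      have := hj m
      rw [hψm] at this
      exact left_eq_mul.1 this
    have h1 := Nat.dvd_gcd (orderOf_dvd_of_pow_eq_one hu4) (orderOf_dvd_of_pow_eq_one hum)
    rw [show Nat.gcd 4 m = 1 from ((Nat.prime_two.coprime_iff_not_dvd.2 hm).pow_left 2)] at h1
    rw [hu, orderOf_eq_one_iff.1 (Nat.dvd_one.1 h1), mul_one]

end Cfsg.Agent.S1898
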