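import Cfsg.Statements.S1899
import Mathlib
-- import your own Cfsg.Agent.* helpers here

set_option autoImplicit false
open Cfsg

namespace Cfsg.Agent.S1899

section

variable {A : Type*} [CommGroup A]

theorem inter_eq_bot {n : ℕ} (hn : Odd n) {d t : MulAut A} (hd : d ^ n = 1) (hdt : t * d * t⁻¹ = d⁻¹)
    (hfix : ∀ a : A, d a = a → a = 1) {e : A ≃* A} (he : ∀ a, e (d a) = d (e a))
    {C : Subgroup A} (hC : ∀ a, a ∈ C ↔ t a = e a) : C ⊓ C.map d.toMonoidHom = ⊥ := by
  rw [eq_bot_iff]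
  rintro x ⟨hx, y, hy, rfl⟩
  change d y ∈ C at hx
  change y ∈ C at hy
  rw [hC] at hx hy
  have h1 : t (d y) = d⁻¹ (t y) := by
    rw [← MulAut.mul_apply, ← MulAut.mul_apply, ← hdt, inv_mul_cancel_right]
  rw [h1, hy, he] at hx
  have h2 : d (d (e y)) = e y := by
    rw [← hx, ← MulAut.mul_apply, mul_inv_cancel]; rfl
  obtain ⟨k, rfl⟩ := hn
  have h3 : ∀ j : ℕ, (d ^ (2 * j)) (e y) = e y := fun j => by
    induction j with
    | zero => rfl
    | succ j ih => rw [mul_add, pow_add, MulAut.mul_apply, mul_one, pow_two, MulAut.mul_apply, h2, ih]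
  have h4 : d (e y) = e y := by
    have := congrArg (fun f : MulAut A => f (e y)) hd
    rw [pow_succ', MulAut.mul_apply, h3] at this
    exact this
  have h5 : y = 1 := e.injective (by rw [hfix _ h4, map_one])
  show d y ∈ (⊥ : Subgroup A)
  rw [h5, map_one]; exact Subgroup.one_mem _

end

/-- Let a dihedral group of order 2n, n odd and n > 1, act on a finite abelian 2-group A through automorphisms d and t with d^n = 1, t² = 1 and t d t⁻¹ = d⁻¹, and suppose that d fixes only the identity. Then A is the internal direct product of C_A(t) and its image under d. -/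
theorem result {A : Type*} [CommGroup A] [Finite A] (hA : IsPGroup 2 A)
    {n : ℕ} (hn : Odd n) (hn1 : 1 < n) (d t : MulAut A) (hd : d ^ n = 1) (ht : t ^ 2 = 1) (hdt : t * d * t⁻¹ = d⁻¹)
    (hfix : ∀ a : A, d a = a → a = 1) :
    (MulEquiv.toMonoidHom t).eqLocus (MonoidHom.id A) ⊓ ((MulEquiv.toMonoidHom t).eqLocus (MonoidHom.id A)).map d.toMonoidHom = ⊥ ∧
      (MulEquiv.toMonoidHom t).eqLocus (MonoidHom.id A) ⊔ ((MulEquiv.toMonoidHom t).eqLocus (MonoidHom.id A)).map d.toMonoidHom = ⊤ := by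
  obtain ⟨C, hCdef⟩ : ∃ C, C = (MulEquiv.toMonoidHom t).eqLocus (MonoidHom.id A) := ⟨_, rfl⟩
  obtain ⟨I, hIdef⟩ : ∃ I, I = (MulEquiv.toMonoidHom t).eqLocus (MulEquiv.inv A).toMonoidHom := ⟨_, rfl⟩
  rw [← hCdef]
  have hC : ∀ a, a ∈ C ↔ t a = (1 : MulAut A) a := fun a => by rw [hCdef]; exact Iff.rfl
  have hI : ∀ a, a ∈ I ↔ t a = MulEquiv.inv A a := fun a => by rw [hIdef]; exact Iff.rfl
  have kC := inter_eq_bot hn hd hdt hfix (e := 1) (fun a => rfl) hC
  have kI := inter_eq_bot hn hd hdt hfix (e := MulEquiv.inv A) (fun a => (map_inv d a).symm) hI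
  refine ⟨kC, ?_⟩
  have htt : ∀ a, t (t a) = a := fun a => by
    rw [← MulAut.mul_apply, ← pow_two, ht]; rfl
  obtain ⟨μ, hμ⟩ : ∃ μ : A →* A, ∀ a, μ a = a * t a := ⟨MonoidHom.id A * t.toMonoidHom, fun a => rfl⟩
  have hrange : μ.range ≤ C := by
    rintro _ ⟨a, rfl⟩
    rw [hC, hμ, map_mul, htt, mul_comm]; rfl
  have hker : μ.ker ≤ I := fun a ha => by
    rw [hI]
    rw [MonoidHom.mem_ker, hμ] at ha
    exact eq_inv_of_mul_eq_one_right ha
  have hA : Nat.card A ≤ Nat.card C * Nat.card I := by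
    rw [Subgroup.card_eq_card_quotient_mul_card_subgroup μ.ker, Nat.card_congr (QuotientGroup.quotientKerEquivRange μ).toEquiv]
    exact Nat.mul_le_mul (Subgroup.card_le_of_le hrange) (Subgroup.card_le_of_le hker)
  have hsq : ∀ D : Subgroup A, D ⊓ D.map d.toMonoidHom = ⊥ → Nat.card ↥(D ⊔ D.map d.toMonoidHom) = Nat.card D * Nat.card D := by
    intro D hD
    have hcd : Nat.card (D.map d.toMonoidHom) = Nat.card D :=
      Nat.card_congr (D.equivMapOfInjective _ d.injective).toEquiv.symm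
    have h := Subgroup.relIndex_sup_right D (D.map d.toMonoidHom)
    have h2 := Subgroup.card_mul_index ((D.map d.toMonoidHom).subgroupOf (D ⊔ D.map d.toMonoidHom))
    rw [Nat.card_congr (Subgroup.subgroupOfEquivOfLe le_sup_right).toEquiv, hcd] at h2
    have h3 : (D.map d.toMonoidHom).relIndex D = Nat.card D := by
      rw [← Subgroup.inf_relIndex_right, inf_comm, hD, Subgroup.relIndex_bot_left]
    rw [← h2]
    congr 1
    rw [← h3, ← h]; rfl
  have h1 := hsq C kC
  have h2 := hsq I kI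
  have l1 : Nat.card C * Nat.card C ≤ Nat.card A := h1 ▸ Subgroup.card_le_card_group _
  have l2 : Nat.card I * Nat.card I ≤ Nat.card A := h2 ▸ Subgroup.card_le_card_group _
  refine Subgroup.eq_top_of_card_eq _ (le_antisymm (Subgroup.card_le_card_group _) ?_)
  rw [h1]
  nlinarith [Nat.mul_le_mul hA hA, (Nat.card_pos : 0 < Nat.card A)]

end Cfsg.Agent.S1899
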