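import Cfsg.Statements.S1900
import Cfsg.Agent.Lib.Coprime.Action
import Cfsg.Agent.Lib.Coprime.Core

set_option autoImplicit false
open Cfsg

namespace Cfsg.Agent.S1900

open scoped commutatorElement

/-- Let S = PQ be a finite group with P a normal Sylow p-subgroup and Q elementary abelian of order q², q a prime different from p. If exactly two subgroups X₁, X₂ of order q in Q have a nontrivial centralizer in P, then P is the internal direct product of C_P(X₁) and C_P(X₂): they commute elementwise, meet trivially and generate P. -/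
theorem result {S : Type*} [Group S] [Finite S] {p q : ℕ} [Fact p.Prime] [Fact q.Prime] (hpq : p ≠ q)
    (P : Sylow p S) [(P : Subgroup S).Normal] (Q : Subgroup S) (hQ : Cfsg.IsElementaryAbelian q Q) (hQc : Nat.card Q = q ^ 2)
    (hS : (P : Subgroup S) ⊔ Q = ⊤)
    (X₁ X₂ : Subgroup S) (h₁ : X₁ ≤ Q) (h₂ : X₂ ≤ Q) (h₁₂ : X₁ ≠ X₂) (hc₁ : Nat.card X₁ = q) (hc₂ : Nat.card X₂ = q)
    (hf₁ : (P : Subgroup S) ⊓ Subgroup.centralizer (X₁ : Set S) ≠ ⊥)
    (hf₂ : (P : Subgroup S) ⊓ Subgroup.centralizer (X₂ : Set S) ≠ ⊥)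
    (honly : ∀ X : Subgroup S, X ≤ Q → Nat.card X = q →
      (P : Subgroup S) ⊓ Subgroup.centralizer (X : Set S) ≠ ⊥ → X = X₁ ∨ X = X₂) :
    ⁅(P : Subgroup S) ⊓ Subgroup.centralizer (X₁ : Set S), (P : Subgroup S) ⊓ Subgroup.centralizer (X₂ : Set S)⁆ = ⊥ ∧
      ((P : Subgroup S) ⊓ Subgroup.centralizer (X₁ : Set S)) ⊓ ((P : Subgroup S) ⊓ Subgroup.centralizer (X₂ : Set S)) = ⊥ ∧
      ((P : Subgroup S) ⊓ Subgroup.centralizer (X₁ : Set S)) ⊔ ((P : Subgroup S) ⊓ Subgroup.centralizer (X₂ : Set S)) = P := by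
  have hp : p.Prime := Fact.out
  have hq : q.Prime := Fact.out
  set PP := (P : Subgroup S) with hPP
  haveI : IsMulCommutative Q := hQ.1
  have hQnc : ¬ IsCyclic Q := by
    intro hcyc
    obtain ⟨g, hg⟩ := hcyc.exists_generator
    have h1 : Nat.card Q ∣ q := by
      rw [← Nat.card_congr (Subgroup.topEquiv (G := Q)).toEquiv,
        ← (show Subgroup.zpowers g = ⊤ from eq_top_iff.2 fun x _ => hg x), Nat.card_zpowers]
      exact orderOf_dvd_of_pow_eq_one (Subtype.ext (by simpa using hQ.2 g g.2))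
    rw [hQc] at h1
    have := Nat.le_of_dvd hq.pos h1
    nlinarith [hq.two_le]
  have hcopP : ∀ K : Subgroup S, K ≤ PP → ∀ A : Subgroup S, A ≤ Q →
      (Nat.card A).Coprime (Nat.card K) := by
    intro K hK A hA
    obtain ⟨n, hn⟩ := IsPGroup.iff_card.1 P.2
    refine Nat.Coprime.coprime_dvd_right (Subgroup.card_dvd_of_le hK) ?_
    refine Nat.Coprime.coprime_dvd_left (Subgroup.card_dvd_of_le hA) ?_
    rw [hn, hQc]
    exact Nat.Coprime.pow _ _ ((Nat.coprime_primes hq hp).2 hpq.symm)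
  have hQab : ∀ a ∈ Q, ∀ b ∈ Q, a * b = b * a := fun a ha b hb =>
    congrArg Subtype.val (mul_comm' (⟨a, ha⟩ : Q) ⟨b, hb⟩)
  set C₁ := PP ⊓ Subgroup.centralizer (X₁ : Set S) with hC₁
  set C₂ := PP ⊓ Subgroup.centralizer (X₂ : Set S) with hC₂
  have hQP : Q ≤ Subgroup.normalizer (PP : Set S) := by
    rw [Subgroup.normalizer_eq_top (H := PP)]; exact le_top
  have hQX : ∀ X : Subgroup S, X ≤ Q → Q ≤ Subgroup.centralizer (X : Set S) := fun X hX a ha =>
    Subgroup.mem_centralizer_iff.2 fun b hb => hQab b (hX hb) a ha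
  have hQC : ∀ X : Subgroup S, X ≤ Q →
      Q ≤ Subgroup.normalizer ((PP ⊓ Subgroup.centralizer (X : Set S) : Subgroup S) : Set S) :=
    fun X hX => CfsgLib.Coprime.inf_le_normalizer hQP ((hQX X hX).trans Subgroup.le_normalizer)
  -- generation
  have hgen : ∀ K : Subgroup S, K ≤ PP → Q ≤ Subgroup.normalizer (K : Set S) →
      K ≤ (K ⊓ Subgroup.centralizer (X₁ : Set S)) ⊔ (K ⊓ Subgroup.centralizer (X₂ : Set S)) := by
    intro K hK hKQ
    refine CfsgLib.Coprime.le_of_centralizers_le (A := Q) hQnc hKQ (hcopP K hK Q le_rfl) fun a ha ha1 => ?_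
    have hXa : Subgroup.zpowers a ≤ Q := Subgroup.zpowers_le.2 ha
    have hXc : Nat.card (Subgroup.zpowers a) = q := by
      rw [Nat.card_zpowers]
      exact orderOf_eq_prime (hQ.2 a ha) ha1
    have hce : Subgroup.centralizer (Subgroup.zpowers a : Set S) = Subgroup.centralizer {a} :=
      (Subgroup.zpowers_eq_closure a) ▸ Subgroup.centralizer_closure _
    by_cases hb : PP ⊓ Subgroup.centralizer (Subgroup.zpowers a : Set S) = ⊥
    · rw [hce] at hb
      exact ((inf_le_inf_right _ hK).trans (le_of_eq hb)).trans bot_le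
    · rcases honly _ hXa hXc hb with h | h
      · rw [← hce, h]; exact le_sup_left
      · rw [← hce, h]; exact le_sup_right
  -- `Q` is generated by `X₁` and `X₂`
  have hQeq : X₁ ⊔ X₂ = Q := by
    refine Subgroup.eq_of_le_of_card_ge (sup_le h₁ h₂) ?_
    obtain ⟨k, hk, hk'⟩ := (Nat.dvd_prime_pow hq).1 (hQc ▸ Subgroup.card_dvd_of_le (sup_le h₁ h₂))
    have hlt : q < q ^ k := by
      rw [← hk', ← hc₁]
      refine lt_of_le_of_ne (Subgroup.card_le_of_le le_sup_left) fun e => h₁₂ ?_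
      have h3 := Subgroup.eq_of_le_of_card_ge le_sup_left e.ge
      exact (Subgroup.eq_of_le_of_card_ge ((le_sup_right : X₂ ≤ X₁ ⊔ X₂).trans h3.ge)
        (by rw [hc₁, hc₂])).symm
    rw [hk', hQc]
    interval_cases k
    · simp at hlt; exact absurd hlt (by linarith [hq.two_le])
    · simp at hlt
    · exact le_rfl
  -- no fixed points for `Q`
  have hfix : PP ⊓ Subgroup.centralizer (Q : Set S) = ⊥ := by
    by_contra hne
    obtain ⟨y, z, hy, hz, hyq, hzq, hne1⟩ : ∃ y z : S, y ∈ X₁ ∧ z ∈ X₂ ∧ y ≠ 1 ∧ z ≠ 1 ∧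
        y * z ∉ X₁ ∧ y * z ∉ X₂ := by
      obtain ⟨⟨y, hy⟩, hy1⟩ : ∃ y : X₁, y ≠ 1 := by
        haveI : Nontrivial X₁ := Finite.one_lt_card_iff_nontrivial.1 (hc₁ ▸ hq.one_lt)
        exact exists_ne 1
      obtain ⟨⟨z, hz⟩, hz1⟩ : ∃ z : X₂, z ≠ 1 := by
        haveI : Nontrivial X₂ := Finite.one_lt_card_iff_nontrivial.1 (hc₂ ▸ hq.one_lt)
        exact exists_ne 1
      have key : ∀ {X Y : Subgroup S}, X ≠ Y → Nat.card X = q → Nat.card Y = q →
          ∀ w ∈ X, w ∈ Y → w = 1 := by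
        intro X Y hne hX hY w hwX hwY
        by_contra hw
        have hw' : (⟨w, hwX⟩ : X) ≠ 1 := fun e => hw (congrArg Subtype.val e)
        have h5 : Nat.card ↥(X ⊓ Y) = q := by
          rcases (Nat.dvd_prime hq).1 (hX ▸ Subgroup.card_dvd_of_le (inf_le_left : X ⊓ Y ≤ X)) with e | e
          · exfalso
            have := Subgroup.eq_bot_of_card_eq _ e
            exact hw (Subgroup.mem_bot.1 (this ▸ (⟨hwX, hwY⟩ : w ∈ X ⊓ Y)))
          · exact e
        exact hne ((Subgroup.eq_of_le_of_card_ge inf_le_left (hX.trans h5.symm).le).symm.trans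
          (Subgroup.eq_of_le_of_card_ge inf_le_right (hY.trans h5.symm).le))
      refine ⟨y, z, hy, hz, fun e => hy1 (Subtype.ext e), fun e => hz1 (Subtype.ext e), ?_, ?_⟩
      · intro h
        have hzX : z ∈ X₁ := by simpa using X₁.mul_mem (X₁.inv_mem hy) h
        exact hz1 (Subtype.ext (key h₁₂ hc₁ hc₂ z hzX hz))
      · intro h
        have hyX : y ∈ X₂ := by simpa using X₂.mul_mem h (X₂.inv_mem hz)
        exact hy1 (Subtype.ext (key h₁₂ hc₁ hc₂ y hy hyX))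
    have hyz : y * z ∈ Q := Q.mul_mem (h₁ hy) (h₂ hz)
    have hyz1 : y * z ≠ 1 := fun e => hne1.1 (e ▸ X₁.one_mem)
    have hXc : Nat.card (Subgroup.zpowers (y * z)) = q := by
      rw [Nat.card_zpowers]; exact orderOf_eq_prime (hQ.2 _ hyz) hyz1
    rcases honly _ (Subgroup.zpowers_le.2 hyz) hXc (fun h => hne (le_bot_iff.1 (le_trans
        (inf_le_inf_left _ (Subgroup.centralizer_le (Subgroup.zpowers_le.2 hyz))) h.le))) with h | h
    · exact hne1.1 (h ▸ Subgroup.mem_zpowers (y * z))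
    · exact hne1.2 (h ▸ Subgroup.mem_zpowers (y * z))
  have hinf : C₁ ⊓ C₂ = ⊥ := by
    rw [← hfix, ← hQeq]
    refine le_antisymm (le_inf (inf_le_left.trans inf_le_left) fun x hx => ?_) (le_inf ?_ ?_)
    · rw [Subgroup.mem_centralizer_iff]
      intro a ha
      have : X₁ ⊔ X₂ ≤ Subgroup.centralizer ({x} : Set S) := sup_le
        (fun b hb => Subgroup.mem_centralizer_singleton_iff.2 (Subgroup.mem_centralizer_iff.1 hx.1.2 b hb))
        (fun b hb => Subgroup.mem_centralizer_singleton_iff.2 (Subgroup.mem_centralizer_iff.1 hx.2.2 b hb))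
      exact Subgroup.mem_centralizer_singleton_iff.1 (this ha)
    · exact inf_le_inf_left _ (Subgroup.centralizer_le (SetLike.coe_subset_coe.2 le_sup_left))
    · exact inf_le_inf_left _ (Subgroup.centralizer_le (SetLike.coe_subset_coe.2 le_sup_right))
  refine ⟨?_, hinf, le_antisymm (sup_le inf_le_left inf_le_left) (hgen PP le_rfl hQP)⟩
  -- the commutator
  haveI : Group.IsNilpotent PP := P.2.isNilpotent
  obtain ⟨n, hn⟩ := Group.IsNilpotent.nilpotent PP
  let Y : ℕ → Subgroup S := fun i => (Subgroup.upperCentralSeries PP i).map PP.subtype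
  have hYn : ∀ i, (Y i).Normal := fun i =>
    CfsgLib.Coprime.map_subtype_normal_of_characteristic PP (Subgroup.upperCentralSeries PP i)
  have hYP : ∀ i, Y i ≤ PP := fun i => Subgroup.map_subtype_le _
  have hstep : ∀ i, ∀ z ∈ Y (i + 1), ∀ u ∈ PP, z * u * z⁻¹ * u⁻¹ ∈ Y i := by
    rintro i _ ⟨z, hz, rfl⟩ u hu
    exact ⟨z * ⟨u, hu⟩ * z⁻¹ * ⟨u, hu⟩⁻¹, Subgroup.mem_upperCentralSeries_succ_iff.1 hz ⟨u, hu⟩,
      by simp⟩
  suffices key : ∀ i, i ≤ n → ⁅C₁, C₂⁆ ≤ Y (n - i) by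
    have := key n le_rfl
    simpa [Y] using this
  intro i
  induction i with
  | zero =>
    intro _
    refine (Subgroup.commutator_le.2 fun a ha b hb => ?_)
    rw [Nat.sub_zero]
    have hmem : a * b * a⁻¹ * b⁻¹ ∈ PP :=
      PP.mul_mem (PP.mul_mem (PP.mul_mem ha.1 hb.1) (PP.inv_mem ha.1)) (PP.inv_mem hb.1)
    exact ⟨⟨_, hmem⟩, by rw [hn]; trivial, by simp [commutatorElement_def]⟩
  | succ i ih =>
    intro hi
    obtain ⟨j, hj⟩ : ∃ j, n - i = j + 1 := ⟨n - i - 1, by omega⟩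
    rw [show n - (i + 1) = j by omega]
    have hCZ : ⁅C₁, C₂⁆ ≤ Y (j + 1) := hj ▸ ih (by omega)
    set M := Y j with hM
    set Z := Y (j + 1) with hZ
    haveI := hYn j
    haveI := hYn (j + 1)
    have hMZ : M ≤ Z := Subgroup.map_mono (Subgroup.upperCentralSeries_mono _ (Nat.le_succ j))
    have hside : ∀ (X X' : Subgroup S), X ≤ Q → X' ≤ Q →
        ((X = X₁ ∧ X' = X₂) ∨ (X = X₂ ∧ X' = X₁)) →
        ∀ c ∈ PP ⊓ Subgroup.centralizer (X : Set S), ∀ d ∈ PP ⊓ Subgroup.centralizer (X' : Set S),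
          c * d * c⁻¹ * d⁻¹ ∈ Z → c * d * c⁻¹ * d⁻¹ ∈ (Z ⊓ Subgroup.centralizer (X' : Set S)) ⊔ M := by
      intro X X' hX hX' hXX' c hc d hd hd0
      set W := (Z ⊓ Subgroup.centralizer (X' : Set S)) ⊔ M with hW
      have hWZ : W ≤ Z := sup_le inf_le_left hMZ
      have hWn : ∀ w ∈ W, ∀ u ∈ PP, u * w * u⁻¹ ∈ W := by
        intro w hw u hu
        rw [show u * w * u⁻¹ = (w * u * w⁻¹ * u⁻¹)⁻¹ * w by group]
        exact W.mul_mem (Subgroup.mem_sup_right (M.inv_mem (hstep j w (hWZ hw) u hu))) hw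
      have hMW : ∀ {m}, m ∈ M → m ∈ W := fun hm => Subgroup.mem_sup_right hm
      -- `[Z, X] ≤ W`
      have hZX : ∀ z ∈ Z, ∀ x ∈ X, x * z * x⁻¹ * z⁻¹ ∈ W := by
        have hle : (Z ⊓ Subgroup.centralizer (X₁ : Set S)) ⊔ (Z ⊓ Subgroup.centralizer (X₂ : Set S))
            = (Z ⊓ Subgroup.centralizer (X : Set S)) ⊔ (Z ⊓ Subgroup.centralizer (X' : Set S)) := by
          rcases hXX' with ⟨rfl, rfl⟩ | ⟨rfl, rfl⟩
          · rfl
          · exact sup_comm _ _
        intro z hz x hx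
        have hz' := hgen Z (hYP _) (by rw [Subgroup.normalizer_eq_top (H := Z)]; exact le_top) hz
        rw [hle] at hz'
        rw [Subgroup.sup_eq_closure] at hz'
        clear hz
        induction hz' using Subgroup.closure_induction with
        | mem w hw =>
          rcases hw with hw | hw
          · rw [show x * w = w * x from Subgroup.mem_centralizer_iff.1 hw.2 x hx]
            simp
          · have h1 : x * w * x⁻¹ ∈ Z ⊓ Subgroup.centralizer (X' : Set S) := by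
              refine ⟨(hYn (j + 1)).conj_mem w hw.1 x, ?_⟩
              exact (Subgroup.mem_normalizer_iff.1 ((hQX X' hX').trans Subgroup.le_normalizer (hX hx)) w).1 hw.2
            exact W.mul_mem (Subgroup.mem_sup_left h1) (W.inv_mem (Subgroup.mem_sup_left hw))
        | one => simp
        | mul a b ha hb iha ihb =>
          rw [← Subgroup.sup_eq_closure] at ha
          have haP : a ∈ PP := hYP _ ((sup_le inf_le_left inf_le_left :
            (Z ⊓ Subgroup.centralizer (X : Set S)) ⊔ (Z ⊓ Subgroup.centralizer (X' : Set S)) ≤ Z) ha)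
          rw [show x * (a * b) * x⁻¹ * (a * b)⁻¹ = x * a * x⁻¹ * a⁻¹ * (a * (x * b * x⁻¹ * b⁻¹) * a⁻¹) by
            group]
          exact W.mul_mem iha (hWn _ ihb a haP)
        | inv a ha iha =>
          rw [← Subgroup.sup_eq_closure] at ha
          have haP : a⁻¹ ∈ PP := PP.inv_mem (hYP _ ((sup_le inf_le_left inf_le_left :
            (Z ⊓ Subgroup.centralizer (X : Set S)) ⊔ (Z ⊓ Subgroup.centralizer (X' : Set S)) ≤ Z) ha))
          rw [show x * a⁻¹ * x⁻¹ * a⁻¹⁻¹ = a⁻¹ * (x * a * x⁻¹ * a⁻¹)⁻¹ * a⁻¹⁻¹ by group]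
          exact hWn _ (W.inv_mem iha) _ haP
      -- the second argument is a commutator with `X`
      set C' := PP ⊓ Subgroup.centralizer (X' : Set S) with hC'
      have hXC : X ≤ Subgroup.normalizer (C' : Set S) := hX.trans (hQC X' hX')
      have hC'0 : C' ⊓ Subgroup.centralizer (X : Set S) = ⊥ := by
        rw [← le_bot_iff, ← hinf]
        rcases hXX' with ⟨rfl, rfl⟩ | ⟨rfl, rfl⟩
        · exact le_inf (le_inf (inf_le_left.trans inf_le_left) inf_le_right) inf_le_left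
        · exact le_inf inf_le_left (le_inf (inf_le_left.trans inf_le_left) inf_le_right)
      have hd' : d ∈ ⁅C', X⁆ := by
        have h2 := CfsgLib.Coprime.commutator_sup_centralizer hXC (hcopP C' inf_le_left X hX)
          (Or.inr (CfsgLib.Coprime.isSolvable_of_isNilpotent (P.2.to_le inf_le_left).isNilpotent))
        rw [hC'0, sup_bot_eq] at h2
        rw [h2]; exact hd
      have hZc : ∀ e ∈ PP ⊓ Subgroup.centralizer (X' : Set S), c * e * c⁻¹ * e⁻¹ ∈ Z := by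
        intro e he
        rcases hXX' with ⟨rfl, rfl⟩ | ⟨rfl, rfl⟩
        · exact hCZ (Subgroup.commutator_mem_commutator hc he)
        · rw [show c * e * c⁻¹ * e⁻¹ = (e * c * e⁻¹ * c⁻¹)⁻¹ by group]
          exact Z.inv_mem (hCZ (Subgroup.commutator_mem_commutator he hc))
      suffices hT : d ∈ C' ∧ c * d * c⁻¹ * d⁻¹ ∈ W from hT.2
      clear hd hd0
      rw [Subgroup.commutator_def] at hd'
      induction hd' using Subgroup.closure_induction with
      | mem u hu =>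
        obtain ⟨e, he, x, hx, rfl⟩ := hu
        rw [commutatorElement_def]
        have hxe : x * e⁻¹ * x⁻¹ ∈ C' := (Subgroup.mem_normalizer_iff.1 (hXC hx) _).1 (C'.inv_mem he)
        refine ⟨?_, ?_⟩
        · rw [show e * x * e⁻¹ * x⁻¹ = e * (x * e⁻¹ * x⁻¹) by group]
          exact C'.mul_mem he hxe
        · set w := c * e⁻¹ * c⁻¹ * (e⁻¹)⁻¹ with hw
          have hwZ : w ∈ Z := hZc _ (C'.inv_mem he)
          have hcx : x * c = c * x := Subgroup.mem_centralizer_iff.1 hc.2 x hx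
          have h1 : c * (x * e⁻¹ * x⁻¹) * c⁻¹ * (x * e⁻¹ * x⁻¹)⁻¹ = x * w * x⁻¹ := by
            calc _ = (c * x) * e⁻¹ * (c * x)⁻¹ * x * e * x⁻¹ := by group
              _ = (x * c) * e⁻¹ * (x * c)⁻¹ * x * e * x⁻¹ := by rw [hcx]
              _ = _ := by rw [hw]; group
          rw [show e * x * e⁻¹ * x⁻¹ = e * (x * e⁻¹ * x⁻¹) by group]
          set u := x * e⁻¹ * x⁻¹ with hu
          have h2 : c * (e * u) * c⁻¹ * (e * u)⁻¹ =
              (c * e * c⁻¹ * e⁻¹) * (e * (c * u * c⁻¹ * u⁻¹) * e⁻¹) := by group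
          rw [h2, h1, show c * e * c⁻¹ * e⁻¹ = e * w⁻¹ * e⁻¹ by rw [hw]; group,
            show e * w⁻¹ * e⁻¹ * (e * (x * w * x⁻¹) * e⁻¹) =
              e * (w⁻¹ * (x * w * x⁻¹ * w⁻¹) * w) * e⁻¹ by group]
          refine hWn _ ?_ e he.1
          have hmem := hWn _ (hZX w hwZ x hx) w⁻¹ (PP.inv_mem (hYP _ hwZ))
          rwa [inv_inv] at hmem
      | one => simp
      | mul a b _ _ iha ihb =>
        refine ⟨C'.mul_mem iha.1 ihb.1, ?_⟩
        rw [show c * (a * b) * c⁻¹ * (a * b)⁻¹ = c * a * c⁻¹ * a⁻¹ * (a * (c * b * c⁻¹ * b⁻¹) * a⁻¹) by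
          group]
        exact W.mul_mem iha.2 (hWn _ ihb.2 a iha.1.1)
      | inv a _ iha =>
        refine ⟨C'.inv_mem iha.1, ?_⟩
        rw [show c * a⁻¹ * c⁻¹ * a⁻¹⁻¹ = a⁻¹ * (c * a * c⁻¹ * a⁻¹)⁻¹ * a⁻¹⁻¹ by group]
        exact hWn _ (W.inv_mem iha.2) _ (PP.inv_mem iha.1.1)
    refine Subgroup.commutator_le.2 fun c hc d hd => ?_
    rw [commutatorElement_def]
    have hzZ : c * d * c⁻¹ * d⁻¹ ∈ Z := hCZ (Subgroup.commutator_mem_commutator hc hd)
    have hA := hside X₁ X₂ h₁ h₂ (Or.inl ⟨rfl, rfl⟩) c hc d hd hzZ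
    have hB := (Subgroup.inv_mem _ (hside X₂ X₁ h₂ h₁ (Or.inr ⟨rfl, rfl⟩) d hd c hc (by
      rw [show d * c * d⁻¹ * c⁻¹ = (c * d * c⁻¹ * d⁻¹)⁻¹ by group]; exact Z.inv_mem hzZ)))
    rw [show (d * c * d⁻¹ * c⁻¹)⁻¹ = c * d * c⁻¹ * d⁻¹ by group] at hB
    set z := c * d * c⁻¹ * d⁻¹ with hz
    have hcos : ∀ X : Subgroup S, X ≤ Q → z ∈ (Z ⊓ Subgroup.centralizer (X : Set S)) ⊔ M →
        ∀ a ∈ X, a * z * a⁻¹ * z⁻¹ ∈ M := by
      intro X _ hzX a ha
      obtain ⟨w, hw, m, hm, he⟩ := Subgroup.mem_sup_of_normal_right.1 hzX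
      rw [← he, show a * (w * m) * a⁻¹ * (w * m)⁻¹ = (a * w) * (m * a⁻¹ * m⁻¹ ) * w⁻¹ by group,
        show a * w = w * a from Subgroup.mem_centralizer_iff.1 hw.2 a ha,
        show w * a * (m * a⁻¹ * m⁻¹) * w⁻¹ = w * (a * m * a⁻¹ * m⁻¹) * w⁻¹ by group]
      exact (hYn j).conj_mem _ (M.mul_mem ((hYn j).conj_mem m hm a) (M.inv_mem hm)) w
    let T : Subgroup S :=
      { carrier := {a | a * z * a⁻¹ * z⁻¹ ∈ M}
        one_mem' := by simp
        mul_mem' := fun {a b} ha hb => by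
          show a * b * z * (a * b)⁻¹ * z⁻¹ ∈ M
          rw [show a * b * z * (a * b)⁻¹ * z⁻¹ = a * (b * z * b⁻¹ * z⁻¹) * a⁻¹ * (a * z * a⁻¹ * z⁻¹) by
            group]
          exact M.mul_mem ((hYn j).conj_mem _ hb a) ha
        inv_mem' := fun {a} ha => by
          show a⁻¹ * z * a⁻¹⁻¹ * z⁻¹ ∈ M
          rw [show a⁻¹ * z * a⁻¹⁻¹ * z⁻¹ = a⁻¹ * (a * z * a⁻¹ * z⁻¹)⁻¹ * a⁻¹⁻¹ by group]
          exact (hYn j).conj_mem _ (M.inv_mem ha) _ }
    have hT : ∀ a ∈ Q, a * z * a⁻¹ * z⁻¹ ∈ M := fun a ha =>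
      (show Q ≤ T from hQeq ▸ sup_le (fun b hb => hcos X₁ h₁ hB b hb)
        (fun b hb => hcos X₂ h₂ hA b hb)) ha
    obtain ⟨m, hm, hzm⟩ := CfsgLib.Coprime.exists_fixed_in_coset (k := z) (A := Q) (N := M)
      (by rw [Subgroup.normalizer_eq_top (H := M)]; exact le_top) (hcopP M (hYP j) Q le_rfl)
      (Or.inl (CfsgLib.Coprime.isSolvable_of_isMulCommutative inferInstance))
      (by rw [Subgroup.normalizer_eq_top (H := M)]; trivial) hT
    have h9 : z * m ∈ PP ⊓ Subgroup.centralizer (Q : Set S) :=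
      ⟨PP.mul_mem (hYP _ hzZ) (hYP _ hm), hzm⟩
    rw [hfix, Subgroup.mem_bot, mul_eq_one_iff_eq_inv] at h9
    rw [h9]
    exact M.inv_mem hm

end Cfsg.Agent.S1900
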