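import Cfsg.Statements.S1901
import Cfsg.Agent.Lib.PGroup.PSolvable
import Cfsg.Agent.Lib.Coprime.Action
import Cfsg.Agent.Lib.Coprime.PConstrained

set_option autoImplicit false
open Cfsg

namespace Cfsg.Agent.S1901

open scoped commutatorElement

universe u

theorem pElement_centralizes {p : ℕ} [hp : Fact p.Prime] {G : Type u} [Group G] [Finite G]
    (hG : Cfsg.IsPSolvable p G) (Q : Subgroup G) (hQ : ¬ p ∣ Nat.card Q) (P : Sylow p G)
    (hQP : Q ≤ Subgroup.normalizer ((P : Subgroup G) : Set G)) (x : G)
    (hx : x ∈ Subgroup.normalizer (Q : Set G)) (hk : ∃ k : ℕ, x ^ p ^ k = 1) :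
    x ∈ Subgroup.centralizer (Q : Set G) := by
  induction hn : Nat.card G using Nat.strongRecOn generalizing G with
  | ind n ih =>
    subst hn
    rcases subsingleton_or_nontrivial G with hs | hs
    · exact Subsingleton.elim (1 : G) x ▸ Subgroup.one_mem _
    -- one step: modulo a nontrivial normal subgroup
    have step : ∀ (M : Subgroup G) [M.Normal], M ≠ ⊥ → ∀ q ∈ Q, ⁅x, q⁆ ∈ M := by
      intro M _ hM q hq
      set π := QuotientGroup.mk' M with hπ
      have hπs := QuotientGroup.mk'_surjective M
      have hlt : Nat.card (G ⧸ M) < Nat.card G := by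
        rw [← M.index_eq_card, ← M.index_mul_card]
        exact lt_mul_of_one_lt_right (Nat.pos_of_ne_zero M.index_ne_zero_of_finite)
          (M.one_lt_card_iff_ne_bot.2 hM)
      obtain ⟨k, hk⟩ := hk
      have h := ih _ hlt (G := G ⧸ M) (CfsgLib.PGroup.isPSolvable_quotient hp.out hG M) (Q.map π)
        (fun h => hQ (h.trans (Subgroup.card_map_dvd _ _))) (P.mapSurjective hπs)
        (by rw [Sylow.coe_mapSurjective]
            exact (Subgroup.map_mono hQP).trans (Subgroup.le_normalizer_map π))
        (π x) (Subgroup.le_normalizer_map π ⟨x, hx, rfl⟩) ⟨k, by rw [← map_pow, hk, map_one]⟩ rfl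
      rw [← QuotientGroup.eq_one_iff]
      show π ⁅x, q⁆ = 1
      rw [map_commutatorElement, commutatorElement_eq_one_iff_mul_comm]
      exact (Subgroup.mem_centralizer_iff.1 h _ (Subgroup.mem_map_of_mem π hq)).symm
    rcases CfsgLib.PGroup.pCore_ne_bot_or_pPrimeCore_ne_bot hG with hO | hK
    · haveI := CfsgLib.Coprime.pCore_normal' (G := G) p
      refine Subgroup.mem_centralizer_iff.2 fun q hq => ?_
      have h1 : ⁅x, q⁆ ∈ Q ⊓ Cfsg.pCore p G := ⟨by
        rw [commutatorElement_def]
        exact Q.mul_mem ((Subgroup.mem_normalizer_iff.1 hx q).1 hq) (Q.inv_mem hq), step _ hO q hq⟩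
      rw [CfsgLib.Coprime.pPrime_inf_pGroup_eq_bot ((hp.out.coprime_iff_not_dvd.2 hQ).symm)
        (CfsgLib.Coprime.pCore_isPGroup p), Subgroup.mem_bot, commutatorElement_eq_one_iff_mul_comm] at h1
      exact h1.symm
    · set M := Cfsg.pPrimeCore p G with hM
      haveI : M.Normal := Subgroup.sSup_normal _ fun _ h => h.1
      set X := Subgroup.zpowers x with hX
      have hXQ : X ≤ Subgroup.normalizer (Q : Set G) := Subgroup.zpowers_le.2 hx
      set Q1 := ⁅Q, X⁆ with hQ1
      have hQ1Q : Q1 ≤ Q := Subgroup.le_normalizer_iff_commutator_le_left.1 hXQ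
      have hxQ1 : x ∈ Subgroup.normalizer (Q1 : Set G) :=
        Subgroup.normalizer_commutator_ge_right Q X (Subgroup.mem_zpowers x)
      obtain ⟨k, hk'⟩ := hk
      have hcop : (Nat.card X).Coprime (Nat.card Q) := by
        rw [hX, Nat.card_zpowers]
        exact Nat.Coprime.coprime_dvd_left (orderOf_dvd_of_pow_eq_one hk')
          ((hp.out.coprime_iff_not_dvd.2 hQ).pow_left k)
      have hQ1M : Q1 ≤ M := by
        rw [hQ1, Subgroup.commutator_le]
        intro q hq y hy
        rw [← commutatorElement_inv]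
        refine M.inv_mem ((QuotientGroup.eq_one_iff _).1 ?_)
        show QuotientGroup.mk' M ⁅y, q⁆ = 1
        obtain ⟨j, rfl⟩ := Subgroup.mem_zpowers_iff.1 hy
        have hc : Commute (QuotientGroup.mk' M x) (QuotientGroup.mk' M q) := by
          refine commutatorElement_eq_one_iff_commute.1 ?_
          rw [← map_commutatorElement]
          exact (QuotientGroup.eq_one_iff _).2 (step M hK q hq)
        rw [map_commutatorElement, map_zpow, commutatorElement_eq_one_iff_commute]
        exact hc.zpow_left j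
      have hPC : (P : Subgroup G) ≤ Subgroup.centralizer (Q1 : Set G) := by
        refine Subgroup.commutator_eq_bot_iff_le_centralizer.1 (le_bot_iff.1 ?_)
        rw [← CfsgLib.Coprime.pPrime_inf_pGroup_eq_bot
          (CfsgLib.Coprime.pPrimeCore_coprime (G := G) hp.out) P.2]
        exact le_inf ((Subgroup.commutator_mono le_rfl hQ1M).trans (Subgroup.commutator_le_right _ _))
          (Subgroup.le_normalizer_iff_commutator_le_left.1 (hQ1Q.trans hQP))
      have hxC : x ∈ Subgroup.centralizer (Q1 : Set G) := by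
        set C := Subgroup.centralizer (Q1 : Set G)
        set N1 := Subgroup.normalizer (Q1 : Set G)
        haveI : (C.subgroupOf N1).Normal :=
          (Subgroup.normal_subgroupOf_iff_le_normalizer (CfsgLib.Coprime.centralizer_le_normalizer_self Q1)).2
            (CfsgLib.Coprime.normalizer_le_normalizer_centralizer Q1)
        refine Subgroup.mem_subgroupOf.1 ((QuotientGroup.eq_one_iff (⟨x, hxQ1⟩ : N1)).1 ?_)
        refine orderOf_eq_one_iff.1 ?_
        set o := orderOf (QuotientGroup.mk' (C.subgroupOf N1) ⟨x, hxQ1⟩)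
        have h1 : o ∣ p ^ k := orderOf_dvd_of_pow_eq_one (by
          rw [← map_pow, show (⟨x, hxQ1⟩ : N1) ^ p ^ k = 1 from Subtype.ext hk', map_one])
        have h2 : ¬ p ∣ Nat.card (↥N1 ⧸ C.subgroupOf N1) := fun h =>
          P.not_dvd_index ((h.trans (Subgroup.index_eq_card _).symm.dvd).trans
            ((dvd_mul_right _ _).trans (Subgroup.relIndex_mul_index
              (CfsgLib.Coprime.centralizer_le_normalizer_self Q1)).dvd) |>.trans
            (Subgroup.index_dvd_of_le hPC))
        exact Nat.eq_one_of_dvd_coprimes ((hp.out.coprime_iff_not_dvd.2 h2).pow_left k) h1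
          (orderOf_dvd_natCard _)
      have h0 : ⁅⁅Q, X⁆, X⁆ = ⊥ := by
        rw [Subgroup.commutator_eq_bot_iff_le_centralizer, Subgroup.le_centralizer_iff]
        exact Subgroup.zpowers_le.2 hxC
      rw [CfsgLib.Coprime.commutator_commutator_eq hXQ hcop
        (Or.inl (CfsgLib.Coprime.isSolvable_of_isMulCommutative inferInstance)),
        Subgroup.commutator_eq_bot_iff_le_centralizer, Subgroup.le_centralizer_iff] at h0
      exact h0 (Subgroup.mem_zpowers x)

/-- Let G be a finite p-solvable group and Q a subgroup of order prime to p such that p divides the index of C_G(Q) in N_G(Q). Then Q normalizes no Sylow p-subgroup of G. -/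
theorem result {G : Type*} [Group G] [Finite G] {p : ℕ} [Fact p.Prime]
    (hG : Cfsg.IsPSolvable p G) (Q : Subgroup G) (hQ : ¬ p ∣ Nat.card Q)
    (hA : p ∣ (Subgroup.centralizer (Q : Set G)).relIndex (Subgroup.normalizer (Q : Set G)))
    (P : Sylow p G) : ¬ Q ≤ Subgroup.normalizer ((P : Subgroup G) : Set G) := by
  intro hQP
  have hne : ¬ ∀ x ∈ Subgroup.normalizer (Q : Set G), (∃ k : ℕ, x ^ p ^ k = 1) →
      x ∈ Subgroup.centralizer (Q : Set G) := by
    intro h
    obtain ⟨S⟩ : Nonempty (Sylow p ↥(Subgroup.normalizer (Q : Set G))) := inferInstance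
    refine S.not_dvd_index (hA.trans (Subgroup.index_dvd_of_le fun x hx => Subgroup.mem_subgroupOf.2 ?_))
    obtain ⟨k, hk⟩ := S.2 ⟨x, hx⟩
    exact h x x.2 ⟨k, by simpa using congrArg Subtype.val (congrArg Subtype.val hk)⟩
  exact hne fun x hx hk => pElement_centralizes hG Q hQ P hQP x hx hk
end Cfsg.Agent.S1901
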