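import Cfsg.Statements.S1902
import Cfsg.Agent.Lib.Block.PSolvableOne
import Cfsg.Agent.Lib.Coprime.OmegaPQ
import Cfsg.Agent.Lib.Fusion.PrimeCoreQuotient
import Cfsg.Agent.Lib.Fusion.Sylow
-- import your own Cfsg.Agent.* helpers here

set_option autoImplicit false
open Cfsg

namespace Cfsg.Agent.S1902

/-- Let p be an odd prime, G a finite p-solvable group, and B an elementary abelian subgroup of order p² such that B is the subgroup generated by the elements of order p of some Sylow p-subgroup of C_G(b₀), for some nontrivial b₀ ∈ B. Then every B-invariant subgroup of G of order prime to p lies in O_{p'}(G). -/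
theorem result {G : Type*} [Group G] [Finite G] {p : ℕ} [Fact p.Prime] (hp : p ≠ 2)
    (hG : Cfsg.IsPSolvable p G) (B : Subgroup G) (hB : Cfsg.IsElementaryAbelian p B) (hBc : Nat.card B = p ^ 2)
    (b₀ : G) (hb₀ : b₀ ∈ B) (hb₁ : b₀ ≠ 1) (P : Sylow p ↥(Subgroup.centralizer ({b₀} : Set G)))
    (hBP : B = Subgroup.closure {x : G | x ∈ ((P : Subgroup ↥(Subgroup.centralizer ({b₀} : Set G))).map
      (Subgroup.centralizer ({b₀} : Set G)).subtype : Subgroup G) ∧ orderOf x = p})
    (Q : Subgroup G) (hQ : ¬ p ∣ Nat.card Q) (hinv : ∀ b ∈ B, ∀ x ∈ Q, b * x * b⁻¹ ∈ Q) :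
    Q ≤ Cfsg.pPrimeCore p G := by
  have hpr : p.Prime := Fact.out
  haveI : (Cfsg.pPrimeCore p G).Normal := Subgroup.sSup_normal _ fun _ h => h.1
  have hsol : Cfsg.IsPSolvable p (G ⧸ Cfsg.pPrimeCore p G) :=
    CfsgLib.Fusion.isPSolvable_of_surjective (QuotientGroup.mk' _) (QuotientGroup.mk'_surjective _) hG
  have hc : CfsgLib.Invol.PCons p G :=
    CfsgLib.Invol.pClean_of_centralizer_le (CfsgLib.Block.centralizer_pCore_le_of_isPSolvable hsol
      (CfsgLib.Coprime.pPrimeCore_quotient_eq_bot hpr))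
  have hBp : IsPGroup p B := IsPGroup.of_card hBc
  refine CfsgLib.Coprime.le_pPrimeCore_of_omega hp hc hBp (fun x hx hxp => ?_)
    (hpr.coprime_iff_not_dvd.2 hQ).symm fun b hb => ?_
  · by_cases hx1 : x = 1
    · rw [hx1]; exact B.one_mem
    have hBH : B ≤ (Subgroup.centralizer ({b₀} : Set G)) := by
      rw [hBP, Subgroup.closure_le]
      exact fun y hy => Subgroup.map_subtype_le _ hy.1
    have hxH : x ∈ (Subgroup.centralizer ({b₀} : Set G)) := Subgroup.mem_centralizer_singleton_iff.2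
      (Subgroup.mem_centralizer_iff.1 hx b₀ hb₀).symm
    have hzp : IsPGroup p (Subgroup.zpowers x) := IsPGroup.of_card (n := 1) (by
      rw [Nat.card_zpowers, orderOf_eq_prime hxp hx1, pow_one])
    have hnor : Subgroup.zpowers x ≤ Subgroup.normalizer (B : Set G) :=
      (Subgroup.zpowers_le.2 hx).trans (Subgroup.centralizer_le_normalizer _)
    have hR : IsPGroup p (B ⊔ Subgroup.zpowers x : Subgroup G) :=
      hBp.to_sup_of_normal_left' hzp hnor
    have hRH : B ⊔ Subgroup.zpowers x ≤ (Subgroup.centralizer ({b₀} : Set G)) := sup_le hBH (Subgroup.zpowers_le.2 hxH)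
    set P₀ := (P : Subgroup ↥(Subgroup.centralizer ({b₀} : Set G))).map (Subgroup.centralizer ({b₀} : Set G)).subtype with hP₀
    have hidx : ¬ p ∣ P₀.relIndex (Subgroup.centralizer ({b₀} : Set G)) := by
      rw [hP₀, Subgroup.relIndex, Subgroup.subgroupOf,
        Subgroup.comap_map_eq_self_of_injective (Subgroup.centralizer ({b₀} : Set G)).subtype_injective]
      exact P.not_dvd_index
    obtain ⟨g, -, hg⟩ := CfsgLib.Fusion.exists_conj_le_of_not_dvd_relIndex
      (P.2.map _) (Subgroup.map_subtype_le _) hidx hR hRH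
    have hmem : ∀ y ∈ B ⊔ Subgroup.zpowers x, y ^ p = 1 → g * y * g⁻¹ ∈ B := fun y hy hyp => by
      by_cases hy1 : y = 1
      · simp [hy1]
      rw [hBP]
      refine Subgroup.subset_closure ⟨hg (CfsgLib.Fusion.conj_mem_conjBy hy), ?_⟩
      refine orderOf_eq_prime ?_ fun h => hy1 (by simpa using h)
      rw [conj_pow, hyp, mul_one, mul_inv_cancel]
    have hle : CfsgLib.Fusion.conjBy g B ≤ B := CfsgLib.Fusion.conjBy_le_iff.2 fun y hy =>
      hmem y (Subgroup.mem_sup_left hy) (hB.2 y hy)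
    have h1 := hmem x (Subgroup.mem_sup_right (Subgroup.mem_zpowers x)) hxp
    rw [← CfsgLib.Fusion.conjBy_eq_of_le hle, CfsgLib.Fusion.mem_conjBy] at h1
    simpa [mul_assoc] using h1
  · refine Subgroup.mem_normalizer_iff.2 fun y => ⟨fun hy => hinv b hb y hy, fun hy => ?_⟩
    simpa [mul_assoc] using hinv b⁻¹ (inv_mem hb) _ hy

end Cfsg.Agent.S1902
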