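import Cfsg.Statements.S1903
import Cfsg.Agent.Lib.CFun.UnitaryFourInvolution

set_option autoImplicit false
open Cfsg

namespace Cfsg.Agent.S1903

/-- A finite group of order 320 whose derived subgroup has order 64 and has centre a Klein four-group is isomorphic to the centralizer of an involution in PSU₃(4). -/
theorem result {G : Type*} [Group G] [Finite G] (hG : Nat.card G = 320) (hD : Nat.card (commutator G) = 64)
    (hZ : IsKleinFour (Subgroup.center (commutator G)))
    {F : Type*} [Field F] [Fintype F] (hF : Fintype.card F = 16) :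
    ∃ t : Cfsg.PSU 3 F 4, orderOf t = 2 ∧ Nonempty (G ≃* Subgroup.centralizer ({t} : Set (Cfsg.PSU 3 F 4))) := by
  obtain ⟨e⟩ := CfsgLib.Char.Unital.exists_psu_equiv hF
  obtain ⟨h1, h2, h3⟩ := CfsgLib.CFun.SU34.centralizer_data
  obtain ⟨φ⟩ := CfsgLib.CFun.Split320.nonempty_mulEquiv hG hD hZ h1 h2 h3
  refine ⟨e.symm CfsgLib.CFun.SU34.tInv, ?_, ?_⟩
  · rw [MulEquiv.orderOf_eq, CfsgLib.CFun.SU34.orderOf_tInv]
  · have hmap : (Subgroup.centralizer ({CfsgLib.CFun.SU34.tInv} : Set CfsgLib.Char.Unital.SU4)).map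
        e.symm.toMonoidHom = Subgroup.centralizer ({e.symm CfsgLib.CFun.SU34.tInv} : Set (Cfsg.PSU 3 F 4)) := by
      ext g
      constructor
      · rintro ⟨a, ha, rfl⟩
        refine Subgroup.mem_centralizer_singleton_iff.2 ?_
        show e.symm a * e.symm _ = e.symm _ * e.symm a
        rw [← map_mul, ← map_mul, Subgroup.mem_centralizer_singleton_iff.1 ha]
      · intro hg
        refine ⟨e g, Subgroup.mem_centralizer_singleton_iff.2 (e.symm.injective ?_), e.symm_apply_apply g⟩
        rw [map_mul, map_mul, e.symm_apply_apply]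
        exact Subgroup.mem_centralizer_singleton_iff.1 hg
    exact ⟨φ.trans ((e.symm.subgroupMap _).trans (MulEquiv.subgroupCongr hmap))⟩

end Cfsg.Agent.S1903
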