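import Cfsg.Statements.S1905
import Cfsg.Agent.Lib.Invol.Basic
import Mathlib.GroupTheory.Nilpotent
import Mathlib.GroupTheory.Sylow

set_option autoImplicit false
open Cfsg

namespace Cfsg.Agent.S1905

/-- Let M be a subgroup of even order of a finite group S such that M contains the centralizer in S of each of its involutions and the normal core of M in S has odd order. Then all involutions of S are conjugate. If moreover N_S(X) ≤ M for a Sylow 2-subgroup X of M and I is an involution in the centre of X, then all involutions of M are conjugate in M and M = M₀ C_M(I) for some subgroup M₀ of M of odd order. -/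
theorem result {S : Type*} [Group S] [Finite S] (M : Subgroup S) (hM : Even (Nat.card M))
    (hC : ∀ i ∈ M, orderOf i = 2 → Subgroup.centralizer ({i} : Set S) ≤ M) (hcore : Odd (Nat.card M.normalCore)) :
    (∀ x y : S, orderOf x = 2 → orderOf y = 2 → IsConj x y) ∧
      ∀ (X : Sylow 2 M) (I : M), I ∈ (Subgroup.center ↥(X : Subgroup ↥M)).map (X : Subgroup ↥M).subtype → orderOf I = 2 →
        Subgroup.normalizer (((X : Subgroup M).map M.subtype : Subgroup S) : Set S) ≤ M →
        (∀ x y : M, orderOf x = 2 → orderOf y = 2 → IsConj x y) ∧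
          ∃ M₀ : Subgroup M, Odd (Nat.card M₀) ∧
            ∀ m : M, ∃ a ∈ M₀, ∃ c ∈ Subgroup.centralizer ({I} : Set M), m = a * c := by
  classical
  haveI : Fact (Nat.Prime 2) := ⟨Nat.prime_two⟩
  haveI : Fintype S := Fintype.ofFinite S
  have hcen : ∀ {a b : S}, a * b = b * a → a ∈ Subgroup.centralizer ({b} : Set S) := fun h =>
    Subgroup.mem_centralizer_singleton_iff.2 h
  -- a dihedral dichotomy
  have hdih : ∀ i ∈ M, orderOf i = 2 → ∀ t : S, orderOf t = 2 → t ∉ M → Odd (orderOf (i * t)) := by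
    intro i hi hi2 t ht htM
    by_contra hev
    rw [Nat.not_odd_iff_even] at hev
    obtain ⟨k, hk⟩ := hev
    have hn : 0 < orderOf (i * t) := orderOf_pos _
    set z := (i * t) ^ k with hz
    have hzz : z * z = 1 := by rw [hz, ← pow_add, ← hk, pow_orderOf_eq_one]
    have hz1 : z ≠ 1 := fun e => by
      have := Nat.le_of_dvd (by omega) (orderOf_dvd_of_pow_eq_one e)
      omega
    have hzo : orderOf z = 2 := CfsgLib.Invol.invol_iff.2 ⟨hzz, hz1⟩
    have ei : i⁻¹ = i := inv_eq_of_mul_eq_one_right (CfsgLib.Invol.invol_mul_self hi2)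
    have et : t⁻¹ = t := inv_eq_of_mul_eq_one_right (CfsgLib.Invol.invol_mul_self ht)
    have ez : z⁻¹ = z := inv_eq_of_mul_eq_one_right hzz
    have h1 : i * z * i⁻¹ = z := by
      conv_rhs => rw [← ez]
      rw [hz, ← inv_pow, ← conj_pow, mul_inv_rev, ei, et, ← mul_assoc i i t,
        CfsgLib.Invol.invol_mul_self hi2, one_mul]
    rw [mul_inv_eq_iff_eq_mul] at h1
    have h2 : t * z * t⁻¹ = z := by
      conv_rhs => rw [← ez]
      rw [hz, ← inv_pow, ← conj_pow, mul_inv_rev, ei, et, mul_assoc, mul_assoc i t t,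
        CfsgLib.Invol.invol_mul_self ht, mul_one]
    rw [mul_inv_eq_iff_eq_mul] at h2
    exact htM (hC z (hC i hi hi2 (hcen h1.symm)) hzo (hcen h2))
  have hone : ∀ x y : S, orderOf x = 2 → orderOf y = 2 → IsConj x y := by
    have key : ∀ x ∈ M, orderOf x = 2 → ∀ y : S, orderOf y = 2 → IsConj x y := by
      intro x hx hx2 y hy2
      by_contra hne
      have hall : ∀ g : S, g * y * g⁻¹ ∈ M := by
        intro g
        by_contra hg
        have hg2 : orderOf (g * y * g⁻¹) = 2 := CfsgLib.Invol.invol_conj hy2 g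
        obtain ⟨d, -, e⟩ := CfsgLib.Invol.exists_conj_eq_of_odd hx2 hg2 (hdih x hx hx2 _ hg2 hg)
        refine hne (isConj_iff.2 ⟨g⁻¹ * d, ?_⟩)
        calc g⁻¹ * d * x * (g⁻¹ * d)⁻¹ = g⁻¹ * (d * x * d⁻¹) * g := by group
          _ = g⁻¹ * (g * y * g⁻¹) * g := by rw [e]
          _ = y := by group
      have h1 : y ∈ M.normalCore := hall
      have h2 := M.normalCore.orderOf_dvd_natCard h1
      rw [hy2] at h2
      exact Nat.not_even_iff_odd.2 hcore (even_iff_two_dvd.2 h2)
    obtain ⟨w, hw⟩ := exists_prime_orderOf_dvd_card' 2 hM.two_dvd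
    rw [← Subgroup.orderOf_coe] at hw
    exact fun x y hx hy => (key _ w.2 hw x hx).symm.trans (key _ w.2 hw y hy)
  refine ⟨hone, fun X I hI hI2 hNX => ?_⟩
  obtain ⟨IX, hIX, rfl⟩ := hI
  set I : S := (((IX : (X : Subgroup M)) : M) : S) with hIdef
  have hIo : orderOf I = 2 := by rw [hIdef, Subgroup.orderOf_coe]; exact hI2
  have hIM : I ∈ M := ((IX : (X : Subgroup M)) : M).2
  set XS := (X : Subgroup M).map M.subtype with hXS
  obtain ⟨P, hP⟩ := (X.2.map M.subtype).exists_le_sylow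
  -- `X` is a Sylow subgroup of `S`
  have hPX : (P : Subgroup S) = XS := by
    refine le_antisymm ?_ hP
    by_contra hne
    haveI : Group.IsNilpotent (P : Subgroup S) := P.2.isNilpotent
    have hne' : XS.subgroupOf (P : Subgroup S) ≠ ⊤ := fun e => hne (Subgroup.subgroupOf_eq_top.1 e)
    obtain ⟨w, hw, hwX⟩ := SetLike.exists_of_lt (Group.normalizerCondition_of_isNilpotent _ hne'.lt_top)
    have hwN : (w : S) ∈ Subgroup.normalizer (XS : Set S) := by
      refine Subgroup.mem_normalizer_iff.2 fun u => ⟨fun hu => ?_, fun hu => ?_⟩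
      · exact (Subgroup.mem_normalizer_iff.1 hw ⟨u, hP hu⟩).1 hu
      · have h1 : (w : S) * u * (w : S)⁻¹ ∈ (P : Subgroup S) := hP hu
        have h2 : u ∈ (P : Subgroup S) := by
          have := (P : Subgroup S).mul_mem ((P : Subgroup S).mul_mem ((P : Subgroup S).inv_mem w.2) h1) w.2
          simpa [mul_assoc] using this
        exact (Subgroup.mem_normalizer_iff.1 hw ⟨u, h2⟩).2 hu
    have hwM : (w : S) ∈ M := hNX hwN
    have h3 : (X : Subgroup M) ≤ (P : Subgroup S).subgroupOf M := fun u hu =>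
      Subgroup.mem_subgroupOf.2 (hP (Subgroup.mem_map_of_mem _ hu))
    have h4 := X.3 (P.2.comap_subtype) h3
    exact hwX (Subgroup.mem_subgroupOf.2 ⟨⟨w, hwM⟩, h4 ▸ (Subgroup.mem_subgroupOf.2 w.2), rfl⟩)
  -- involutions of `M` are conjugate in `M` to `I`
  have hfus : ∀ i ∈ M, orderOf i = 2 → ∃ m ∈ M, m * I * m⁻¹ = i := by
    intro i hi hi2
    obtain ⟨g, hg⟩ := isConj_iff.1 (hone I i hIo hi2)
    refine ⟨g, ?_, hg⟩
    have hXC : ∀ u ∈ XS, g * u * g⁻¹ ∈ M := by
      rintro _ ⟨u, hu, rfl⟩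
      refine hC i hi hi2 (hcen ?_)
      have h1 : Commute (u : S) I :=
        congrArg (fun q : (X : Subgroup M) => ((q : M) : S)) (Subgroup.mem_center_iff.1 hIX ⟨u, hu⟩)
      rw [← hg]
      exact ((Commute.conj_iff g).2 h1).eq
    set PM : Sylow 2 M := X with hPM
    have hQ : IsPGroup 2 ((XS.map (MulAut.conj g).toMonoidHom).subgroupOf M) :=
      ((X.2.map _).map _).comap_subtype
    obtain ⟨Q, hQle⟩ := hQ.exists_le_sylow
    obtain ⟨m, hm⟩ := MulAction.exists_smul_eq M X Q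
    have hsub : XS.map (MulAut.conj g).toMonoidHom ≤ XS.map (MulAut.conj (m : S)).toMonoidHom := by
      rintro _ ⟨u, hu, rfl⟩
      have h1 : (⟨g * u * g⁻¹, hXC u hu⟩ : M) ∈ (Q : Subgroup M) :=
        hQle (Subgroup.mem_subgroupOf.2 ⟨u, hu, rfl⟩)
      rw [← hm] at h1
      obtain ⟨v, hv, e⟩ := h1
      exact ⟨v, Subgroup.mem_map_of_mem _ hv, congrArg Subtype.val e⟩
    have heq := Subgroup.eq_of_le_of_card_ge hsub (by
      exact ((Subgroup.card_map_of_injective (K := XS) (MulAut.conj (m : S)).injective).trans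
        (Subgroup.card_map_of_injective (K := XS) (MulAut.conj g).injective).symm).le)
    have hN : (m : S)⁻¹ * g ∈ Subgroup.normalizer (XS : Set S) := by
      refine Subgroup.mem_normalizer_iff.2 fun u => ⟨fun hu => ?_, fun hu => ?_⟩
      · obtain ⟨v, hv, e⟩ : g * u * g⁻¹ ∈ XS.map (MulAut.conj (m : S)).toMonoidHom := heq ▸ ⟨u, hu, rfl⟩
        have e' : (m : S) * v * (m : S)⁻¹ = g * u * g⁻¹ := e
        rw [show (m : S)⁻¹ * g * u * ((m : S)⁻¹ * g)⁻¹ = (m : S)⁻¹ * (g * u * g⁻¹) * m by group, ← e']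
        simpa [mul_assoc] using hv
      · obtain ⟨v, hv, e⟩ : (m : S) * ((m : S)⁻¹ * g * u * ((m : S)⁻¹ * g)⁻¹) * (m : S)⁻¹ ∈
            XS.map (MulAut.conj g).toMonoidHom := heq.symm ▸ ⟨_, hu, rfl⟩
        have e' : g * v * g⁻¹ = g * u * g⁻¹ := e.trans (by group)
        rwa [← mul_left_cancel (mul_right_cancel e')]
    have := M.mul_mem m.2 (hNX hN)
    rwa [mul_inv_cancel_left] at this
  have hmem : ∀ g : S, ∀ i ∈ M, orderOf i = 2 → g * i * g⁻¹ ∈ M → g ∈ M := by
    intro g i hi hi2 hgi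
    obtain ⟨n, hn, en⟩ := hfus i hi hi2
    obtain ⟨m, hm, em⟩ := hfus _ hgi (CfsgLib.Invol.invol_conj hi2 g)
    have hc : m⁻¹ * g * n ∈ Subgroup.centralizer ({I} : Set S) := hcen (by
      rw [← en] at em
      calc m⁻¹ * g * n * I = m⁻¹ * (g * (n * I * n⁻¹) * g⁻¹) * g * n := by group
        _ = I * (m⁻¹ * g * n) := by rw [← em]; group)
    have := M.mul_mem (M.mul_mem hm (hC I hIM hIo hc)) (M.inv_mem hn)
    simpa [mul_assoc] using this
  -- counting
  obtain ⟨t, htM, ht2, hcount⟩ : ∃ t : S, t ∉ M ∧ orderOf t = 2 ∧ Nat.card {j : S // j ∈ M ∧ orderOf j = 2} ≤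
      Nat.card {u : S // orderOf u = 2 ∧ (QuotientGroup.mk u : S ⧸ M) = QuotientGroup.mk t} := by
    by_contra hno
    push Not at hno
    have hJ : 0 < Nat.card {j : S // j ∈ M ∧ orderOf j = 2} :=
      haveI : Nonempty {j : S // j ∈ M ∧ orderOf j = 2} := ⟨⟨I, hIM, hIo⟩⟩
      Nat.card_pos
    let f : (S ⧸ M) × {j : S // j ∈ M ∧ orderOf j = 2} → {u : S // orderOf u = 2} := fun qj =>
      ⟨qj.1.out * qj.2 * qj.1.out⁻¹, CfsgLib.Invol.invol_conj qj.2.2.2 _⟩
    have hf : Function.Injective f := by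
      rintro ⟨q, j, hj, hj2⟩ ⟨q', j', hj', hj2'⟩ e
      have e' : q.out * j * q.out⁻¹ = q'.out * j' * q'.out⁻¹ := congrArg Subtype.val e
      have h1 : q'.out⁻¹ * q.out ∈ M := hmem _ j hj hj2 (by
        rw [show q'.out⁻¹ * q.out * j * (q'.out⁻¹ * q.out)⁻¹ = q'.out⁻¹ * (q.out * j * q.out⁻¹) * q'.out by group,
          e']
        simpa [mul_assoc] using hj')
      have h2 : q' = q := by
        rw [← QuotientGroup.out_eq' q, ← QuotientGroup.out_eq' q']
        exact QuotientGroup.eq.2 h1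
      subst h2
      simp only [mul_left_inj, mul_right_inj] at e'
      subst e'
      rfl
    have h1 := Nat.card_le_card_of_injective f hf
    let e : {u : S // orderOf u = 2} ≃
        Σ q : S ⧸ M, {u : S // orderOf u = 2 ∧ (QuotientGroup.mk u : S ⧸ M) = q} :=
      { toFun := fun u => ⟨QuotientGroup.mk u.1, ⟨u.1, u.2, rfl⟩⟩
        invFun := fun v => ⟨v.2.1, v.2.2.1⟩
        left_inv := fun u => rfl
        right_inv := fun ⟨q, u, hu, hq⟩ => by subst hq; rfl }
    rw [Nat.card_prod, Nat.card_congr e, Nat.card_sigma, Nat.card_eq_fintype_card (α := S ⧸ M),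
      ← Finset.card_univ, ← smul_eq_mul, ← Finset.sum_const] at h1
    obtain ⟨g, hg⟩ : ∃ g : S, g ∉ M := by
      by_contra hall
      push Not at hall
      have h2 : I ∈ M.normalCore := fun g => hall _
      have h3 := M.normalCore.orderOf_dvd_natCard h2
      rw [hIo] at h3
      exact Nat.not_even_iff_odd.2 hcore (even_iff_two_dvd.2 h3)
    refine absurd h1 (not_le.2 (Finset.sum_lt_sum (fun q _ => ?_) ⟨QuotientGroup.mk g, Finset.mem_univ _, ?_⟩))
    · by_cases hq : ∃ u : S, orderOf u = 2 ∧ (QuotientGroup.mk u : S ⧸ M) = q ∧ u ∉ M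
      · obtain ⟨u, hu, rfl, huM⟩ := hq
        exact (hno u huM hu).le
      · push Not at hq
        refine Nat.card_le_card_of_injective (fun u => ⟨u.1, hq u.1 u.2.1 u.2.2, u.2.1⟩) ?_
        exact fun a b h => Subtype.ext (congrArg (fun x : {j : S // j ∈ M ∧ orderOf j = 2} => (x : S)) h)
    · by_cases hq : ∃ u : S, orderOf u = 2 ∧ (QuotientGroup.mk u : S ⧸ M) = QuotientGroup.mk g
      · obtain ⟨u, hu, huq⟩ := hq
        have huM : u ∉ M := fun h => hg (by
          have := M.mul_mem h (QuotientGroup.eq.1 huq)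
          rwa [mul_inv_cancel_left] at this)
        rw [← huq]
        exact hno u huM hu
      · haveI : IsEmpty {u : S // orderOf u = 2 ∧ (QuotientGroup.mk u : S ⧸ M) = QuotientGroup.mk g} :=
          ⟨fun u => hq ⟨u.1, u.2⟩⟩
        rw [Nat.card_eq_zero.2 (Or.inl inferInstance)]
        exact hJ
  have htt : t * t = 1 := CfsgLib.Invol.invol_mul_self ht2
  have hti : t⁻¹ = t := inv_eq_of_mul_eq_one_right htt
  set D := M ⊓ M.map (MulAut.conj t).toMonoidHom with hD
  have hDodd : Odd (Nat.card D) := by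
    rw [← Nat.not_even_iff_odd]
    intro h
    obtain ⟨i, hi⟩ := exists_prime_orderOf_dvd_card' 2 h.two_dvd
    rw [← Subgroup.orderOf_coe] at hi
    obtain ⟨j, hj, e⟩ := i.2.2
    exact htM (hmem t j hj (by
      have := CfsgLib.Invol.invol_conj hi t⁻¹
      rw [← e] at this
      simpa [mul_assoc] using this) (by
      rw [show t * j * t⁻¹ = (i : S) from e]; exact i.2.1))
  refine ⟨fun x y hx hy => ?_, D.subgroupOf M, ?_, fun m => ?_⟩
  · obtain ⟨a, ha, ea⟩ := hfus x x.2 (by rw [Subgroup.orderOf_coe]; exact hx)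
    obtain ⟨b, hb, eb⟩ := hfus y y.2 (by rw [Subgroup.orderOf_coe]; exact hy)
    refine isConj_iff.2 ⟨⟨b * a⁻¹, M.mul_mem hb (M.inv_mem ha)⟩, Subtype.ext ?_⟩
    show b * a⁻¹ * (x : S) * (b * a⁻¹)⁻¹ = y
    rw [← ea, ← eb]
    group
  · rw [Nat.card_congr (Subgroup.subgroupOfEquivOfLe inf_le_left).toEquiv]
    exact hDodd
  -- involutions of the coset give elements of `D` in distinct cosets of `C(I)`
  have hd : ∀ u : {u : S // orderOf u = 2 ∧ (QuotientGroup.mk u : S ⧸ M) = QuotientGroup.mk t},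
      t * u.1 ∈ D := by
    rintro ⟨u, hu, hq⟩
    have h1 : t * u ∈ M := by
      have := M.inv_mem (QuotientGroup.eq.1 hq)
      rwa [mul_inv_rev, inv_inv, hti] at this
    refine ⟨h1, u * t, ?_, ?_⟩
    · have h2 := M.inv_mem h1
      rwa [mul_inv_rev, hti, inv_eq_of_mul_eq_one_right (CfsgLib.Invol.invol_mul_self hu)] at h2
    · show t * (u * t) * t⁻¹ = t * u
      group
  let ψ : {u : S // orderOf u = 2 ∧ (QuotientGroup.mk u : S ⧸ M) = QuotientGroup.mk t} →
      {j : S // j ∈ M ∧ orderOf j = 2} := fun u =>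
    ⟨(t * u.1) * I * (t * u.1)⁻¹, M.mul_mem (M.mul_mem (hd u).1 hIM) (M.inv_mem (hd u).1),
      CfsgLib.Invol.invol_conj hIo _⟩
  have hψ : Function.Injective ψ := by
    intro u v e
    have e' : t * u.1 * I * (t * u.1)⁻¹ = t * v.1 * I * (t * v.1)⁻¹ := congrArg Subtype.val e
    have hu := u.2.1
    have hui : (u.1)⁻¹ = u.1 := inv_eq_of_mul_eq_one_right (CfsgLib.Invol.invol_mul_self hu)
    have hvi : (v.1)⁻¹ = v.1 := inv_eq_of_mul_eq_one_right (CfsgLib.Invol.invol_mul_self v.2.1)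
    set c := u.1 * v.1 with hc
    have hcI : c * I = I * c := by
      have e2 : c = (t * u.1)⁻¹ * (t * v.1) := by rw [hc, mul_inv_rev, hui]; group
      calc c * I = (t * u.1)⁻¹ * (t * v.1 * I * (t * v.1)⁻¹) * (t * v.1) := by rw [e2]; group
        _ = I * c := by rw [← e', e2]; group
    have hcD : c ∈ D := by
      have e : c = (t * u.1)⁻¹ * (t * v.1) := by rw [hc, mul_inv_rev, hui]; group
      rw [e]
      exact D.mul_mem (D.inv_mem (hd u)) (hd v)
    have hcodd : (orderOf c).Coprime 2 := by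
      rw [Nat.coprime_two_right]
      exact hDodd.of_dvd_nat (D.orderOf_dvd_natCard hcD)
    have huM : u.1 ∉ M := fun h => htM (by
      have h1 := M.mul_mem h (QuotientGroup.eq.1 u.2.2)
      rwa [mul_inv_cancel_left] at h1)
    obtain ⟨w, hw, ew⟩ := CfsgLib.Invol.exists_conj_eq_of_odd hIo hu (hdih I hIM hIo _ hu huM)
    have hinvu : u.1 * c * (u.1)⁻¹ = c⁻¹ := by
      rw [hc, mul_inv_rev, hui, hvi, ← mul_assoc, CfsgLib.Invol.invol_mul_self hu, one_mul]
    have hIc : I * c * I⁻¹ = c := by rw [← hcI, mul_inv_cancel_right]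
    -- powers of `I * u` normalize `⟨c⟩`
    have hnorm : w ∈ Subgroup.normalizer (Subgroup.zpowers c : Set S) := by
      refine (Subgroup.zpowers_le.2 ?_ : Subgroup.zpowers (I * u.1) ≤ _) hw
      refine Subgroup.mul_mem _ ?_ ?_
      · rw [Subgroup.mem_normalizer_iff_map_conj_eq, MonoidHom.map_zpowers]
        exact congrArg Subgroup.zpowers hIc
      · rw [Subgroup.mem_normalizer_iff_map_conj_eq, MonoidHom.map_zpowers]
        exact (congrArg Subgroup.zpowers hinvu).trans Subgroup.zpowers_inv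
    obtain ⟨l, hl⟩ := Subgroup.mem_zpowers_iff.1
      ((Subgroup.mem_normalizer_iff''.1 hnorm c).1 (Subgroup.mem_zpowers c))
    have h5 : Commute I (w⁻¹ * c * w) := hl ▸ ((show Commute I c from hcI.symm).zpow_right l)
    have h6 : Commute u.1 c := by
      have := (Commute.conj_iff w).2 h5
      rw [ew] at this
      simpa [mul_assoc] using this
    rw [h6.eq, mul_inv_cancel_right, eq_inv_iff_mul_eq_one, ← pow_two] at hinvu
    have hc1 : c = 1 :=
      orderOf_eq_one_iff.1 (Nat.eq_one_of_dvd_coprimes hcodd dvd_rfl (orderOf_dvd_of_pow_eq_one hinvu))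
    rw [hc, mul_eq_one_iff_eq_inv, hvi] at hc1
    exact Subtype.ext hc1
  have hsurj : Function.Surjective ψ :=
    ((Nat.bijective_iff_injective_and_card ψ).2 ⟨hψ, le_antisymm (Nat.card_le_card_of_injective ψ hψ) hcount⟩).2
  obtain ⟨u, hu⟩ := hsurj ⟨(m : S) * I * (m : S)⁻¹, M.mul_mem (M.mul_mem m.2 hIM) (M.inv_mem m.2),
    CfsgLib.Invol.invol_conj hIo _⟩
  have hu' : t * u.1 * I * (t * u.1)⁻¹ = (m : S) * I * (m : S)⁻¹ := congrArg Subtype.val hu
  refine ⟨⟨t * u.1, (hd u).1⟩, Subgroup.mem_subgroupOf.2 (hd u), ⟨t * u.1, (hd u).1⟩⁻¹ * m, ?_,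
    (mul_inv_cancel_left _ _).symm⟩
  refine Subgroup.mem_centralizer_singleton_iff.2 (Subtype.ext ?_)
  show (t * u.1)⁻¹ * (m : S) * I = I * ((t * u.1)⁻¹ * m)
  calc (t * u.1)⁻¹ * (m : S) * I = (t * u.1)⁻¹ * ((m : S) * I * (m : S)⁻¹) * m := by group
    _ = I * ((t * u.1)⁻¹ * m) := by rw [← hu']; group

end Cfsg.Agent.S1905
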