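import Cfsg.Statements.S1907
import Cfsg.Agent.Lib.Coprime.PConstrained
import Cfsg.Agent.Lib.Coprime.Core

set_option autoImplicit false
open Cfsg

namespace Cfsg.Agent.S1907

open scoped commutatorElement

/-- Let P be a Sylow p-subgroup of a finite group G, H = P ∩ O_{p',p}(G), N = N_G(H) and D = O_{p'}(G). (a) If y is an element of p-power order of N and d ∈ D with d⁻¹ y d ∈ N, then d = d₁ d₂ with d₁ ∈ C_D(y) and d₂ ∈ C_D(H). (b) Two elements of P that are conjugate in G are conjugate in N. -/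
theorem result {G : Type*} [Group G] [Finite G] {p : ℕ} [Fact p.Prime] (P : Sylow p G) :
    (∀ y ∈ Subgroup.normalizer (((P : Subgroup G) ⊓ Cfsg.pPrimePCore p G : Subgroup G) : Set G), (∃ k : ℕ, orderOf y = p ^ k) →
      ∀ d ∈ Cfsg.pPrimeCore p G, d⁻¹ * y * d ∈ Subgroup.normalizer (((P : Subgroup G) ⊓ Cfsg.pPrimePCore p G : Subgroup G) : Set G) →
        ∃ d₁ ∈ Cfsg.pPrimeCore p G ⊓ Subgroup.centralizer ({y} : Set G),
          ∃ d₂ ∈ Cfsg.pPrimeCore p G ⊓ Subgroup.centralizer (((P : Subgroup G) ⊓ Cfsg.pPrimePCore p G : Subgroup G) : Set G), d = d₁ * d₂) ∧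
    ∀ x y : G, x ∈ (P : Subgroup G) → y ∈ (P : Subgroup G) → IsConj x y →
      ∃ n ∈ Subgroup.normalizer (((P : Subgroup G) ⊓ Cfsg.pPrimePCore p G : Subgroup G) : Set G), n * x * n⁻¹ = y := by
  have hp : p.Prime := Fact.out
  set O := Cfsg.pPrimeCore p G with hO
  haveI : O.Characteristic := CfsgLib.Coprime.pPrimeCore_characteristic p
  have hOn : ¬ p ∣ Nat.card O := CfsgLib.Coprime.pPrimeCore_not_dvd hp
  set K := Cfsg.pPrimePCore p G with hK
  set R := (P : Subgroup G) ⊓ K with hR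
  set f := QuotientGroup.mk' O with hf
  set C := Cfsg.pCore p (G ⧸ O) with hC
  haveI : C.Normal := CfsgLib.Coprime.pCore_normal' p
  haveI : K.Normal := by rw [hK, Cfsg.pPrimePCore]; exact Subgroup.Normal.comap inferInstance _
  have hRp : IsPGroup p R := P.2.to_le inf_le_left
  have hsurj : Function.Surjective f := QuotientGroup.mk'_surjective O
  have hCP : C ≤ ((P : Subgroup G).map f) := by
    let P' : Sylow p (G ⧸ O) := P.mapSurjective hsurj
    have h1 : IsPGroup p (C ⊔ (P' : Subgroup (G ⧸ O)) : Subgroup _) :=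
      (CfsgLib.Coprime.pCore_isPGroup p).to_sup_of_normal_left P'.2
    have h2 := P'.3 h1 le_sup_right
    calc C ≤ C ⊔ (P' : Subgroup (G ⧸ O)) := le_sup_left
      _ = (P' : Subgroup (G ⧸ O)) := h2
      _ = (P : Subgroup G).map f := Sylow.coe_mapSurjective _ _
  have hRmap : R.map f = C := by
    refine le_antisymm ?_ fun c hc => ?_
    · rintro _ ⟨r, hr, rfl⟩; exact hr.2
    · obtain ⟨r, hr, rfl⟩ := hCP hc
      exact ⟨r, ⟨hr, hc⟩, rfl⟩
  have frat : ∀ g : G, ∃ o ∈ O, o * g ∈ Subgroup.normalizer (R : Set G) := fun g =>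
    CfsgLib.Coprime.exists_mem_normalizer_lift hOn hRp (by
      rw [← hf, hRmap, Subgroup.normalizer_eq_top (H := C)]; trivial)
  have h1 : ∀ y ∈ Subgroup.normalizer (R : Set G), (∃ k : ℕ, orderOf y = p ^ k) →
      ∀ d ∈ O, d⁻¹ * y * d ∈ Subgroup.normalizer (R : Set G) →
      ∃ d₁ ∈ O ⊓ Subgroup.centralizer ({y} : Set G),
        ∃ d₂ ∈ O ⊓ Subgroup.centralizer (R : Set G), d = d₁ * d₂ := by
    rintro y hy ⟨k, hk⟩ d hd hy'
    set D := O ⊓ Subgroup.centralizer (R : Set G) with hD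
    set Y := Subgroup.zpowers y with hY
    set y' := d⁻¹ * y * d with hy'def
    have hw : y' * y⁻¹ ∈ D := by
      have hO' : y' * y⁻¹ ∈ O := by
        rw [hy'def, show d⁻¹ * y * d * y⁻¹ = d⁻¹ * (y * d * y⁻¹) by group]
        exact O.mul_mem (O.inv_mem hd) (Subgroup.Normal.conj_mem inferInstance d hd y)
      have hN : y' * y⁻¹ ∈ Subgroup.normalizer (R : Set G) := mul_mem hy' (inv_mem hy)
      refine ⟨hO', Subgroup.mem_centralizer_iff.2 fun r hr => ?_⟩
      have h2 : ⁅y' * y⁻¹, r⁆ ∈ O ⊓ R := by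
        constructor
        · rw [commutatorElement_def, show y' * y⁻¹ * r * (y' * y⁻¹)⁻¹ * r⁻¹
            = y' * y⁻¹ * (r * (y' * y⁻¹)⁻¹ * r⁻¹) by group]
          exact O.mul_mem hO' (Subgroup.Normal.conj_mem inferInstance _ (O.inv_mem hO') r)
        · exact R.mul_mem ((Subgroup.mem_normalizer_iff.1 hN r).1 hr) (R.inv_mem hr)
      rw [CfsgLib.Coprime.pPrime_inf_pGroup_eq_bot
        ((hp.coprime_iff_not_dvd.2 hOn).symm) hRp, Subgroup.mem_bot,
        commutatorElement_eq_one_iff_mul_comm] at h2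
      exact h2.symm
    have hYp : IsPGroup p Y := IsPGroup.of_card (n := k) (by rw [hY, Nat.card_zpowers, hk])
    have hy'p : IsPGroup p (Subgroup.zpowers y') := IsPGroup.of_card (n := k) (by
      rw [Nat.card_zpowers, hy'def]
      simpa [hk] using (MulAut.conj d⁻¹).orderOf_eq y)
    have hYD : Y ≤ Subgroup.normalizer (D : Set G) := Subgroup.zpowers_le.2
      (CfsgLib.Coprime.inf_le_normalizer (A := Y)
        (by rw [Subgroup.normalizer_eq_top (H := O)]; exact le_top)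
        ((Subgroup.zpowers_le.2 hy).trans (CfsgLib.Coprime.normalizer_le_normalizer_centralizer R))
        (Subgroup.mem_zpowers y))
    set M := D ⊔ Y with hM
    have hi : ¬ p ∣ Y.relIndex M := fun h => hOn (h.trans
      (((show Y.relIndex M ∣ Nat.card D by
        rw [Subgroup.relIndex]
        have hc := CfsgLib.Coprime.card_sup_dvd_of_le_normalizer hYD
        rw [← Subgroup.relIndex] 
        have h3 : Nat.card Y * Y.relIndex M = Nat.card M := by
          rw [← Subgroup.relIndex_bot_left (H := Y), ← Subgroup.relIndex_bot_left (H := M)]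
          exact Subgroup.relIndex_mul_relIndex ⊥ Y M bot_le le_sup_right
        rw [sup_comm] at hc
        refine Nat.dvd_of_mul_dvd_mul_left Nat.card_pos (?_ : Nat.card Y * Y.relIndex M ∣ _)
        rw [h3, hM]; exact hc)).trans (Subgroup.card_dvd_of_le inf_le_left)))
    have hy'M : Subgroup.zpowers y' ≤ M := Subgroup.zpowers_le.2 (by
      rw [show y' = y' * y⁻¹ * y by group]
      exact Subgroup.mul_mem_sup hw (Subgroup.mem_zpowers y))
    obtain ⟨m, hm, hm'⟩ := CfsgLib.Fusion.exists_conj_le_of_not_dvd_relIndex hYp le_sup_right hi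
      hy'p hy'M
    obtain ⟨u, hu, z, hz, rfl⟩ := CfsgLib.Coprime.mem_sup_exists hYD hm
    have hz' : z⁻¹ * u * z ∈ D := by
      have := (Subgroup.mem_normalizer_iff''.1 (hYD hz) u).1 hu
      exact this
    set u' := z⁻¹ * u * z with hu'
    have hu'y : u' * y' * u'⁻¹ ∈ Y := by
      have h4 : u * z * y' * (u * z)⁻¹ ∈ Y :=
        hm' (CfsgLib.Fusion.conj_mem_conjBy (Subgroup.mem_zpowers y'))
      rw [hu', show z⁻¹ * u * z * y' * (z⁻¹ * u * z)⁻¹ = z⁻¹ * (u * z * y' * (u * z)⁻¹) * z by group]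
      exact Y.mul_mem (Y.mul_mem (Y.inv_mem hz) h4) hz
    have heq : u' * y' * u'⁻¹ = y := by
      have h5 : u' * y' * u'⁻¹ * y⁻¹ ∈ D ⊓ Y := by
        refine ⟨?_, Y.mul_mem hu'y (Y.inv_mem (Subgroup.mem_zpowers y))⟩
        rw [show u' * y' * u'⁻¹ * y⁻¹ = u' * (y' * y⁻¹) * (y * u'⁻¹ * y⁻¹) by group]
        exact D.mul_mem (D.mul_mem hz' hw)
          ((Subgroup.mem_normalizer_iff.1 (hYD (Subgroup.mem_zpowers y)) _).1 (D.inv_mem hz'))
      have hDc : (Nat.card D).Coprime p :=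
        ((hp.coprime_iff_not_dvd.2 hOn).symm).coprime_dvd_left (Subgroup.card_dvd_of_le inf_le_left)
      rw [CfsgLib.Coprime.pPrime_inf_pGroup_eq_bot hDc hYp, Subgroup.mem_bot, mul_inv_eq_one] at h5
      exact h5
    refine ⟨d * u'⁻¹, ⟨O.mul_mem hd (O.inv_mem hz'.1), Subgroup.mem_centralizer_singleton_iff.2 ?_⟩,
      u', hz', by group⟩
    have e1 : y * (d * u'⁻¹) = d * u'⁻¹ * (u' * y' * u'⁻¹) := by rw [hy'def]; group
    rw [heq] at e1
    first | exact e1 | exact e1.symm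
  refine ⟨h1, fun x y hx hy hxy => ?_⟩
  have hPR : (P : Subgroup G) ≤ Subgroup.normalizer (R : Set G) :=
    CfsgLib.Coprime.inf_le_normalizer Subgroup.le_normalizer
      (by rw [Subgroup.normalizer_eq_top (H := K)]; exact le_top)
  obtain ⟨g, rfl⟩ := isConj_iff.1 hxy
  obtain ⟨o, ho, hn⟩ := frat g
  obtain ⟨k, hk⟩ := P.2 ⟨g * x * g⁻¹, hy⟩
  obtain ⟨j, -, hj⟩ := (Nat.dvd_prime_pow hp).1
    (orderOf_dvd_of_pow_eq_one (congrArg Subtype.val hk : (g * x * g⁻¹) ^ p ^ k = 1))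
  have hd2 : (o⁻¹)⁻¹ * (g * x * g⁻¹) * o⁻¹ ∈ Subgroup.normalizer (R : Set G) := by
    rw [show (o⁻¹)⁻¹ * (g * x * g⁻¹) * o⁻¹ = o * g * x * (o * g)⁻¹ by group]
    exact mul_mem (mul_mem hn (hPR hx)) (inv_mem hn)
  obtain ⟨d₁, hd₁, d₂, hd₂, hd⟩ := h1 (g * x * g⁻¹) (hPR hy) ⟨j, hj⟩ o⁻¹ (O.inv_mem ho) hd2
  refine ⟨d₂ * (o * g), mul_mem (Subgroup.centralizer_le_normalizer _ hd₂.2) hn, ?_⟩
  have hc := Subgroup.mem_centralizer_singleton_iff.1 hd₁.2
  have hod : o = d₂⁻¹ * d₁⁻¹ := by rw [← mul_inv_rev, ← hd, inv_inv]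
  rw [hod, show d₂ * (d₂⁻¹ * d₁⁻¹ * g) * x * (d₂ * (d₂⁻¹ * d₁⁻¹ * g))⁻¹
    = d₁⁻¹ * (g * x * g⁻¹ * d₁) by group, ← hc]
  group

end Cfsg.Agent.S1907
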