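import Cfsg.Statements.S1910
import Cfsg.Agent.Lib.Coprime.ControlLift
import Cfsg.Agent.Lib.Coprime.Action

set_option autoImplicit false
open Cfsg

namespace Cfsg.Agent.S1910

open CfsgLib.Fusion CfsgLib.Coprime.ControlLift
open scoped commutatorElement

variable {G : Type*} [Group G] [Finite G]

local instance factTwo : Fact (Nat.Prime 2) := ⟨Nat.prime_two⟩

theorem eq_of_common (Q : Subgroup G) (hQ : Cfsg.IsTightlyEmbedded Q) (x y : G) {Z : Subgroup G}
    (hZ : IsPGroup 2 Z) (hZ1 : Z ≠ ⊥) (hx : Z ≤ conjBy x Q) (hy : Z ≤ conjBy y Q) :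
    conjBy x Q = conjBy y Q := by
  by_contra hne
  have hk : x⁻¹ * y ∉ Subgroup.normalizer (Q : Set G) := fun h => hne (by
    have := congrArg (conjBy x) (conjBy_eq_iff.2 h)
    rwa [conjBy_conjBy, mul_inv_cancel_left, eq_comm] at this)
  have hodd := hQ.2 _ hk
  have hle : conjBy x⁻¹ Z ≤ Q ⊓ conjBy (x⁻¹ * y) Q := by
    refine le_inf ((conjBy_mono hx).trans (conjBy_inv_conjBy x Q).le) ?_
    rw [← conjBy_conjBy]
    exact conjBy_mono hy
  obtain ⟨n, hn⟩ := IsPGroup.iff_card.1 hZ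
  have h1 : Nat.card Z ∣ Nat.card ↥(Q ⊓ conjBy (x⁻¹ * y) Q) :=
    card_conjBy x⁻¹ Z ▸ Subgroup.card_dvd_of_le hle
  rcases Nat.eq_zero_or_pos n with rfl | hn0
  · exact hZ1 (Subgroup.eq_bot_of_card_eq _ (by simpa using hn))
  · rw [hn] at h1
    exact (Nat.not_even_iff_odd.2 hodd) (even_iff_two_dvd.2 ((dvd_pow_self 2 hn0.ne').trans h1))

theorem core (Q : Subgroup G) (hQ : Cfsg.IsTightlyEmbedded Q) (a b : G)
    (hab : conjBy a Q ≠ conjBy b Q) (T : Subgroup G) (hT1 : T ≠ ⊥) (hTp : IsPGroup 2 T)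
    (hTB : T ≤ conjBy b Q) (hTA : T ≤ Subgroup.normalizer (conjBy a Q : Set G))
    (S : Subgroup G) (hTS : T ≤ S) (hS : S ≤ conjBy a Q ⊔ T) (hSp : IsPGroup 2 S)
    (hSi : ¬ 2 ∣ S.relIndex (conjBy a Q ⊔ T)) :
    let U := S ⊓ Subgroup.normalizer (T : Set G) ⊓ conjBy a Q
    U ≤ Subgroup.normalizer (conjBy b Q : Set G) ∧ T ⊓ conjBy a Q = ⊥ ∧ ⁅T, U⁆ = ⊥ ∧
      T ⊔ U = S ⊓ Subgroup.normalizer (T : Set G) ∧ Nat.card T ≤ Nat.card U ∧
      (Nat.card U ≤ Nat.card T → Nonempty (U ≃* T)) := by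
  intro U
  set A := conjBy a Q with hA
  set B := conjBy b Q with hB
  have hone : ∀ {Z : Subgroup G}, IsPGroup 2 Z → Z ≤ A → Z ≤ B → Z = ⊥ := fun {Z} hZ h1 h2 => by
    by_contra hne
    exact hab (eq_of_common Q hQ a b hZ hne h1 h2)
  have hTA0 : T ⊓ A = ⊥ := hone (hTp.to_le inf_le_left) inf_le_right (inf_le_left.trans hTB)
  have hUp : IsPGroup 2 U := hSp.to_le (inf_le_left.trans inf_le_left)
  have hUB : U ≤ Subgroup.normalizer (B : Set G) := by
    intro u hu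
    rw [← conjBy_eq_iff, hB, conjBy_conjBy]
    refine eq_of_common Q hQ (u * b) b hTp hT1 ?_ hTB
    rw [← conjBy_conjBy, ← hB, ← conjBy_eq_iff.2 hu.1.2]
    exact conjBy_mono hTB
  have hTU : ⁅T, U⁆ = ⊥ := by
    rw [eq_bot_iff, ← hTA0, Subgroup.commutator_le]
    intro t ht u hu
    refine ⟨?_, ?_⟩
    · rw [commutatorElement_def, show t * u * t⁻¹ * u⁻¹ = t * (u * t⁻¹ * u⁻¹) by group]
      exact T.mul_mem ht ((Subgroup.mem_normalizer_iff.1 hu.1.2 t⁻¹).1 (T.inv_mem ht))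
    · rw [commutatorElement_def]
      exact A.mul_mem ((Subgroup.mem_normalizer_iff.1 (hTA ht) u).1 hu.2) (A.inv_mem hu.2)
  have hcomm : ∀ t ∈ T, ∀ u ∈ U, u * t = t * u := fun t ht u hu =>
    (Subgroup.mem_centralizer_iff.1 ((Subgroup.commutator_eq_bot_iff_le_centralizer.1 hTU) ht) u hu)
  have hX : T ⊔ U = S ⊓ Subgroup.normalizer (T : Set G) := by
    refine le_antisymm (sup_le (le_inf hTS Subgroup.le_normalizer) inf_le_left) fun x hx => ?_
    obtain ⟨q, hq, t, ht, rfl⟩ := CfsgLib.Coprime.mem_sup_exists hTA (hS hx.1)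
    refine (T ⊔ U).mul_mem (Subgroup.mem_sup_right ⟨⟨?_, ?_⟩, hq⟩) (Subgroup.mem_sup_left ht)
    · have := S.mul_mem hx.1 (S.inv_mem (hTS ht))
      rwa [mul_inv_cancel_right] at this
    · have := (Subgroup.normalizer (T : Set G)).mul_mem hx.2 ((Subgroup.normalizer (T : Set G)).inv_mem (Subgroup.le_normalizer ht))
      rwa [mul_inv_cancel_right] at this
  refine ⟨hUB, hTA0, hTU, hX, ?_⟩
  by_cases hR : S ⊓ A ≤ U
  · have hRU : S ⊓ A = U := le_antisymm hR (inf_le_inf_right _ inf_le_left)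
    have hRi := not_dvd_relIndex_inf hSp hS hSi le_sup_left
      (sup_le Subgroup.le_normalizer hTA : A ⊔ T ≤ Subgroup.normalizer (A : Set G))
    rw [hRU] at hRi
    have hmove : conjBy (a * b⁻¹) T ≤ A := by
      rw [← conjBy_conjBy]
      exact (conjBy_mono ((conjBy_mono hTB).trans (conjBy_inv_conjBy b Q).le))
    obtain ⟨h, -, hle⟩ := exists_conj_le_of_not_dvd_relIndex hUp (inf_le_right : U ≤ A) hRi
      (isPGroup_conjBy _ hTp) hmove
    rw [conjBy_conjBy] at hle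
    refine ⟨(card_conjBy _ T).ge.trans (Subgroup.card_le_of_le hle), fun hc => ?_⟩
    have heq := Subgroup.eq_of_le_of_card_ge hle (by rw [card_conjBy]; exact hc)
    exact ⟨(MulEquiv.subgroupCongr heq.symm).trans
      (Subgroup.equivMapOfInjective T (MulAut.conj (h * (a * b⁻¹))).toMonoidHom
        (MulAut.conj (h * (a * b⁻¹))).injective).symm⟩
  · set X := T ⊔ U with hXdef
    have hSX : ¬ S ≤ X := fun h => hR fun r hr => by
      have h1 : r ∈ S ⊓ Subgroup.normalizer (T : Set G) := hX.le (h hr.1)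
      exact ⟨h1, hr.2⟩
    obtain ⟨y, hy, hyN, hyX⟩ := exists_normalizer_not_mem hSp (hX.le.trans inf_le_left) hSX
    obtain ⟨r, hr, t₀, ht₀, rfl⟩ := CfsgLib.Coprime.mem_sup_exists hTA (hS hy)
    have hrS : r ∈ S := by
      have := S.mul_mem hy (S.inv_mem (hTS ht₀))
      rwa [mul_inv_cancel_right] at this
    have hrX : r ∈ Subgroup.normalizer (X : Set G) := by
      have := mul_mem hyN (inv_mem (Subgroup.le_normalizer (Subgroup.mem_sup_left ht₀) :
        t₀ ∈ Subgroup.normalizer (X : Set G)))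
      rwa [mul_inv_cancel_right] at this
    have hrU : r ∉ X := fun h => hyX (X.mul_mem h (Subgroup.mem_sup_left ht₀))
    set B' := conjBy r B with hB'
    have hB'B : B' ≠ B := by
      intro he
      refine hrU (Subgroup.mem_sup_right ⟨⟨hrS, conjBy_eq_iff.1 (conjBy_eq_of_le ?_)⟩, hr⟩)
      refine conjBy_le_iff.2 fun t ht => ?_
      have h1 : r * t * r⁻¹ ∈ X := (Subgroup.mem_normalizer_iff.1 hrX t).1 (Subgroup.mem_sup_left ht)
      obtain ⟨t', ht', u, hu, he'⟩ := CfsgLib.Coprime.mem_sup_exists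
        (fun u hu => (hu : u ∈ U).1.2) h1
      have hu' : u = 1 := by
        have huB : u ∈ B := by
          have : r * t * r⁻¹ ∈ B := he ▸ conj_mem_conjBy (hTB ht)
          rw [← he'] at this
          have := B.mul_mem (B.inv_mem (hTB ht')) this
          rwa [inv_mul_cancel_left] at this
        have := hone (hUp.to_le (Subgroup.zpowers_le.2 hu)) (Subgroup.zpowers_le.2 hu.2)
          (Subgroup.zpowers_le.2 huB)
        simpa using this
      rw [← he', hu', mul_one]; exact ht'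
    have hB'A : B' ≠ A := by
      intro he
      apply hab
      calc A = conjBy r⁻¹ A := (conjBy_eq_iff.2 (Subgroup.le_normalizer (A.inv_mem hr))).symm
        _ = B := by rw [← he, hB', conjBy_inv_conjBy]
    have hone' : ∀ {Z : Subgroup G}, IsPGroup 2 Z → Z ≤ conjBy r T → (Z ≤ A ∨ Z ≤ B) → Z = ⊥ := by
      intro Z hZ h1 h2
      by_contra hne
      have h3 : Z ≤ conjBy (r * b) Q := by
        rw [← conjBy_conjBy]; exact h1.trans (conjBy_mono hTB)
      rcases h2 with h2 | h2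
      · exact hB'A (by rw [hB', hB, conjBy_conjBy]; exact eq_of_common Q hQ (r * b) a hZ hne h3 h2)
      · exact hB'B (by rw [hB', hB, conjBy_conjBy]; exact eq_of_common Q hQ (r * b) b hZ hne h3 h2)
    have hdec : ∀ t : T, ∃ t' ∈ T, ∃ u ∈ U, t' * u = r * (t : G) * r⁻¹ := fun t =>
      CfsgLib.Coprime.mem_sup_exists (fun u hu => (hu : u ∈ U).1.2)
        ((Subgroup.mem_normalizer_iff.1 hrX _).1 (Subgroup.mem_sup_left t.2))
    choose f hf g hg hfg using hdec
    have huniq : ∀ {t₁ u₁ t₂ u₂ : G}, t₁ ∈ T → t₂ ∈ T → u₁ ∈ U → u₂ ∈ U →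
        t₁ * u₁ = t₂ * u₂ → u₁ = u₂ := by
      intro t₁ u₁ t₂ u₂ h1 h2 h3 h4 h5
      have h6 : t₂⁻¹ * t₁ ∈ T ⊓ A := by
        refine ⟨T.mul_mem (T.inv_mem h2) h1, ?_⟩
        rw [show t₂⁻¹ * t₁ = t₂⁻¹ * (t₁ * u₁) * u₁⁻¹ by group, h5,
          show t₂⁻¹ * (t₂ * u₂) * u₁⁻¹ = u₂ * u₁⁻¹ by group]
        exact A.mul_mem h4.2 (A.inv_mem h3.2)
      rw [hTA0, Subgroup.mem_bot, inv_mul_eq_one] at h6
      subst h6
      exact mul_left_cancel h5
    let φ : T →* U :=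
      { toFun := fun t => ⟨g t, hg t⟩
        map_one' := Subtype.ext (huniq (hf 1) T.one_mem (hg 1) U.one_mem
          (by rw [hfg]; simp))
        map_mul' := fun s t => Subtype.ext (huniq (hf _) (T.mul_mem (hf s) (hf t)) (hg _)
          (U.mul_mem (hg s) (hg t)) (by
            rw [hfg, Subgroup.coe_mul, Subgroup.coe_mul, show f s * f t * (g s * g t) = f s * (f t * g s) * g t by group,
              ← hcomm (f t) (hf t) (g s) (hg s), show f s * (g s * f t) * g t = (f s * g s) * (f t * g t) by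
                group, hfg, hfg]
            group)) }
    have hinj : Function.Injective φ := by
      refine (injective_iff_map_eq_one φ).2 fun t ht => ?_
      have h1 : g t = 1 := congrArg Subtype.val ht
      have h2 : r * (t : G) * r⁻¹ = f t := by rw [← hfg, h1, mul_one]
      have h3 := hone' (Z := Subgroup.zpowers (r * (t : G) * r⁻¹))
        (hTp.to_le (Subgroup.zpowers_le.2 (h2 ▸ hf t)))
        (Subgroup.zpowers_le.2 (conj_mem_conjBy t.2))
        (Or.inr (Subgroup.zpowers_le.2 (h2 ▸ hTB (hf t))))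
      have h4 : r * (t : G) * r⁻¹ = 1 := by simpa using h3
      exact Subtype.ext (conj_eq_one_iff.1 h4)
    have hcard := Nat.card_le_card_of_injective φ hinj
    exact ⟨hcard, fun hc => ⟨(MulEquiv.ofBijective φ
      ((Nat.bijective_iff_injective_and_card φ).2 ⟨hinj, le_antisymm hcard hc⟩)).symm⟩⟩


/-- Let Q be a tightly embedded subgroup of a finite group G, g an element outside N_G(Q), T a nontrivial Sylow 2-subgroup of Q^g ∩ N_G(Q), and S a Sylow 2-subgroup of QT containing T. Then T ∩ Q = 1, and N_S(T) is the direct product of T and N_S(T) ∩ Q, with N_S(T) ∩ Q isomorphic to T. -/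
theorem result {G : Type*} [Group G] [Finite G] (Q : Subgroup G) (hQ : Cfsg.IsTightlyEmbedded Q)
    (g : G) (hg : g ∉ Subgroup.normalizer (Q : Set G))
    (T : Subgroup G) (hT1 : T ≠ ⊥) (hT : T ≤ Q.map (MulAut.conj g).toMonoidHom ⊓ Subgroup.normalizer (Q : Set G))
    (hTsyl : IsPGroup 2 T ∧ ¬ 2 ∣ T.relIndex (Q.map (MulAut.conj g).toMonoidHom ⊓ Subgroup.normalizer (Q : Set G)))
    (S : Subgroup G) (hTS : T ≤ S) (hS : S ≤ Q ⊔ T) (hSsyl : IsPGroup 2 S ∧ ¬ 2 ∣ S.relIndex (Q ⊔ T)) :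
    T ⊓ Q = ⊥ ∧
      T ⊓ (S ⊓ Subgroup.normalizer (T : Set G) ⊓ Q) = ⊥ ∧
      ⁅T, S ⊓ Subgroup.normalizer (T : Set G) ⊓ Q⁆ = ⊥ ∧
      T ⊔ (S ⊓ Subgroup.normalizer (T : Set G) ⊓ Q) = S ⊓ Subgroup.normalizer (T : Set G) ∧
      Nonempty (↥(S ⊓ Subgroup.normalizer (T : Set G) ⊓ Q) ≃* T) := by
  haveI := factTwo
  have h1 : CfsgLib.Fusion.conjBy (1 : G) Q = Q := CfsgLib.Fusion.conjBy_one Q
  have hne : CfsgLib.Fusion.conjBy (1 : G) Q ≠ CfsgLib.Fusion.conjBy g Q := by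
    rw [h1]; exact fun h => hg (CfsgLib.Fusion.conjBy_eq_iff.1 h.symm)
  obtain ⟨hTB, hTA⟩ := le_inf_iff.1 hT
  obtain ⟨hUB, hTA0, hTU, hX, hle, hiso⟩ := core Q hQ 1 g hne T hT1 hTsyl.1 hTB
    (by rwa [h1]) S hTS (by rwa [h1]) hSsyl.1 (by rw [h1]; exact hSsyl.2)
  rw [h1] at hUB hTA0 hTU hX hle hiso
  set U := S ⊓ Subgroup.normalizer (T : Set G) ⊓ Q with hU
  refine ⟨hTA0, le_bot_iff.1 (hTA0 ▸ le_inf inf_le_left (inf_le_right.trans inf_le_right)), hTU,
    hX, hiso ?_⟩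
  set B := CfsgLib.Fusion.conjBy g Q with hB
  obtain ⟨T', hUT', hT'V, hT'p, -⟩ := CfsgLib.Fusion.exists_le_not_dvd_relIndex (p := 2)
    (hSsyl.1.to_le (inf_le_left.trans inf_le_left) : IsPGroup 2 U)
    (le_inf inf_le_right hUB : U ≤ Q ⊓ Subgroup.normalizer (B : Set G))
  obtain ⟨S', hTS', hS', hS'p, hS'i⟩ := CfsgLib.Fusion.exists_le_not_dvd_relIndex (p := 2)
    hT'p (le_sup_right : T' ≤ B ⊔ T')
  have hT'1 : T' ≠ ⊥ := by
    intro h
    rw [h, le_bot_iff] at hUT'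
    rw [hUT', Subgroup.card_bot] at hle
    exact hT1 (Subgroup.eq_bot_of_card_le _ hle)
  obtain ⟨hU'B, -, -, -, hle', -⟩ := core Q hQ g 1 hne.symm T' hT'1 hT'p
    (by rw [h1]; exact hT'V.trans inf_le_left) (hT'V.trans inf_le_right) S' hTS' hS' hS'p hS'i
  rw [h1] at hU'B
  set U' := S' ⊓ Subgroup.normalizer (T' : Set G) ⊓ B with hU'
  obtain ⟨h, -, hh⟩ := CfsgLib.Fusion.exists_conj_le_of_not_dvd_relIndex hTsyl.1 hT hTsyl.2
    (hS'p.to_le (inf_le_left.trans inf_le_left) : IsPGroup 2 U')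
    (le_inf inf_le_right hU'B)
  have hU'T : Nat.card U' ≤ Nat.card T :=
    (CfsgLib.Fusion.card_conjBy h U').ge.trans (Subgroup.card_le_of_le hh)
  exact (Subgroup.card_le_of_le hUT').trans (hle'.trans hU'T)

end Cfsg.Agent.S1910
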