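import Cfsg.Statements.S1911
import Cfsg.Agent.Lib.Invol.SECriterion.Closure.Tight
import Cfsg.Agent.Lib.Invol.SECriterion.Final

set_option autoImplicit false
open Cfsg

namespace Cfsg.Agent.S1911

/-- Let Q be a tightly embedded subgroup of a finite group G such that Q^g ∩ N_G(Q) has odd order for every g outside N_G(Q), and let K be the normal closure of Q in G. Then Q is normal in G, or K ∩ N_G(Q) is a strongly embedded subgroup of K. -/
theorem result {G : Type*} [Group G] [Finite G] (Q : Subgroup G) (hQ : Cfsg.IsTightlyEmbedded Q)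
    (hodd : ∀ g : G, g ∉ Subgroup.normalizer (Q : Set G) →
      Odd (Nat.card ↥(Q.map (MulAut.conj g).toMonoidHom ⊓ Subgroup.normalizer (Q : Set G)))) :
    Q.Normal ∨
      Cfsg.IsStronglyEmbedded ((Subgroup.normalizer (Q : Set G)).subgroupOf (Subgroup.normalClosure (Q : Set G))) := by
  exact CfsgLib.SECrit.Closure.tight_stronglyEmbedded CfsgLib.SECrit.critThm Q hQ hodd

end Cfsg.Agent.S1911
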