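import Cfsg.Statements.S1915
import Cfsg.Agent.Lib.CFun.FourGroupMaximalClass
import Cfsg.Agent.Lib.Fusion.System.Group
import Cfsg.Agent.Lib.Coprime.Component
import Cfsg.Agent.Lib.Coprime.Solvable
import Cfsg.Agent.Lib.Coprime.Action
import Cfsg.Agent.S0111
import Mathlib

set_option autoImplicit false
open Cfsg

namespace Cfsg.Agent.S1915

open Subgroup
open scoped Classical

variable {G : Type*} [Group G] [Finite G]

theorem mul_self_of_order_two {x : G} (hx : orderOf x = 2) : x * x = 1 := by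
  have h := pow_orderOf_eq_one x
  rwa [hx, pow_two] at h

theorem orderOf_conj' (g x : G) : orderOf (g * x * g⁻¹) = orderOf x :=
  orderOf_injective (MulAut.conj g).toMonoidHom (MulAut.conj g).injective x

/-- elements of the four-group `⟨a, b⟩` -/
theorem mem_four {a b : G} (ha : orderOf a = 2) (hb : orderOf b = 2) (hab : a * b = b * a) {e : G}
    (he : e ∈ zpowers a ⊔ zpowers b) : e = 1 ∨ e = a ∨ e = b ∨ e = a * b := by
  have hle : zpowers b ≤ normalizer (zpowers a : Set G) := by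
    refine zpowers_le.2 (centralizer_le_normalizer _ ?_)
    exact mem_centralizer_iff.2 fun s hs => by
      obtain ⟨k, rfl⟩ := mem_zpowers_iff.1 hs
      exact (Commute.zpow_left hab k).eq
  obtain ⟨n, hn, k, hk, rfl⟩ := CfsgLib.Coprime.mem_sup_exists hle he
  have two : ∀ {x y : G}, orderOf x = 2 → y ∈ zpowers x → y = 1 ∨ y = x := by
    intro x y hx hy
    obtain ⟨j, rfl⟩ := mem_zpowers_iff.1 hy
    rw [← zpow_mod_orderOf, hx]
    have : j % ((2 : ℕ) : ℤ) = 0 ∨ j % ((2 : ℕ) : ℤ) = 1 := by omega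
    rcases this with h | h <;> rw [h] <;> simp
  rcases two ha hn with rfl | rfl <;> rcases two hb hk with rfl | rfl <;> simp

theorem four_sq {a b : G} (ha : orderOf a = 2) (hb : orderOf b = 2) (hab : a * b = b * a) {e : G}
    (he : e ∈ zpowers a ⊔ zpowers b) : e * e = 1 := by
  rcases mem_four ha hb hab he with rfl | rfl | rfl | rfl
  · simp
  · exact mul_self_of_order_two ha
  · exact mul_self_of_order_two hb
  · have h1 : Commute a b := hab
    rw [(show Commute b a from hab.symm).mul_mul_mul_comm a b, mul_self_of_order_two ha, mul_self_of_order_two hb, one_mul]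

theorem card_four {a b : G} (ha : orderOf a = 2) (hb : orderOf b = 2) (hab : a * b = b * a) (hne : a ≠ b) :
    Nat.card ↥(zpowers a ⊔ zpowers b) = 4 := by
  have e : ((zpowers a ⊔ zpowers b : Subgroup G) : Set G) = {1, a, b, a * b} := by
    ext x
    constructor
    · intro hx
      rcases mem_four ha hb hab hx with rfl | rfl | rfl | rfl <;> simp
    · rintro (rfl | rfl | rfl | rfl)
      · exact one_mem _
      · exact mem_sup_left (mem_zpowers _)
      · exact mem_sup_right (mem_zpowers _)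
      · exact mul_mem (mem_sup_left (mem_zpowers _)) (mem_sup_right (mem_zpowers _))
  have ha1 : a ≠ 1 := fun e => by rw [e, orderOf_one] at ha; omega
  have hb1 : b ≠ 1 := fun e => by rw [e, orderOf_one] at hb; omega
  have hab1 : a * b ≠ 1 := fun e => hne (by
    rw [eq_inv_of_mul_eq_one_left e, inv_eq_of_mul_eq_one_right (mul_self_of_order_two hb)])
  show Nat.card ((zpowers a ⊔ zpowers b : Subgroup G) : Set G) = 4
  rw [e, Nat.card_coe_set_eq, Set.ncard_insert_of_notMem, Set.ncard_insert_of_notMem, Set.ncard_pair]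
  · intro e; exact ha1 (mul_eq_right.1 e.symm)
  · simp only [Set.mem_insert_iff, Set.mem_singleton_iff, not_or]
    exact ⟨hne, fun e => hb1 (mul_eq_left.1 e.symm)⟩
  · simp only [Set.mem_insert_iff, Set.mem_singleton_iff, not_or]
    exact ⟨ha1.symm, hb1.symm, hab1.symm⟩

/-- a four-group `U` moving `x` only inside `{x, x z}` has a non-trivial element fixing `x` -/
theorem exists_fixing {U : Subgroup G} (hU : IsKleinFour U) {x z : G} (hz : z * z = 1)
    (hzU : ∀ u ∈ U, u * z = z * u) (h : ∀ u ∈ U, u * x * u⁻¹ = x ∨ u * x * u⁻¹ = x * z) :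
    ∃ v ∈ U, v ≠ 1 ∧ v * x = x * v := by
  haveI := hU
  obtain ⟨u₁, u₂, h1, h2, h12⟩ : ∃ u₁ u₂ : U, u₁ ≠ 1 ∧ u₂ ≠ 1 ∧ u₁ ≠ u₂ := by
    by_contra hcon
    push Not at hcon
    have h4 : Nat.card U = 4 := hU.card_four
    obtain ⟨u, hu⟩ : ∃ u : U, u ≠ 1 := by
      by_contra hc
      push Not at hc
      haveI : Subsingleton U := ⟨fun a b => (hc a).trans (hc b).symm⟩
      rw [Nat.card_of_subsingleton (1 : U)] at h4
      omega
    have hle : Nat.card U ≤ Nat.card ({1, u} : Set U) :=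
      le_of_eq (Nat.card_congr (Equiv.subtypeUnivEquiv fun a => by
        by_cases ha : a = 1
        · exact Or.inl ha
        · exact Or.inr (hcon a u ha hu)).symm)
    have hpair := Set.ncard_insert_le (1 : U) {u}
    rw [Set.ncard_singleton, ← Nat.card_coe_set_eq] at hpair
    omega
  have fix : ∀ u : G, u * x * u⁻¹ = x → u * x = x * u := fun u hu => mul_inv_eq_iff_eq_mul.1 hu
  rcases h u₁ u₁.2 with e1 | e1
  · exact ⟨u₁, u₁.2, fun e => h1 (Subtype.ext e), fix _ e1⟩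
  rcases h u₂ u₂.2 with e2 | e2
  · exact ⟨u₂, u₂.2, fun e => h2 (Subtype.ext e), fix _ e2⟩
  refine ⟨u₁ * u₂, U.mul_mem u₁.2 u₂.2, fun e => h12 ?_, fix _ ?_⟩
  · have h22 : u₂ * u₂ = 1 := IsKleinFour.mul_self u₂
    rw [eq_inv_of_mul_eq_one_left (Subtype.ext e : u₁ * u₂ = 1), inv_eq_of_mul_eq_one_right h22]
  · have hzc : (u₁ : G) * z * (u₁ : G)⁻¹ = z := mul_inv_eq_iff_eq_mul.2 (hzU _ u₁.2)
    calc (u₁ : G) * u₂ * x * ((u₁ : G) * u₂)⁻¹ = u₁ * (u₂ * x * (u₂ : G)⁻¹) * (u₁ : G)⁻¹ := by group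
      _ = (u₁ * x * (u₁ : G)⁻¹) * (u₁ * z * (u₁ : G)⁻¹) := by rw [e2]; group
      _ = x := by rw [e1, hzc, mul_assoc, hz, mul_one]

/-- No four-group of `A` survives. -/
theorem no_four (A : Subgroup G) (hperf : ⁅A, A⁆ = A) (U : Subgroup G) (hU : IsKleinFour U)
    (hUA : U ≤ normalizer (A : Set G))
    (noE : ∀ v ∈ U, v ≠ 1 → ∀ a ∈ A, ∀ b ∈ A, orderOf a = 2 → orderOf b = 2 → a ≠ b →
      a * b = b * a → v * a = a * v → v * b = b * v → False)
    {a₀ b₀ : G} (ha₀A : a₀ ∈ A) (hb₀A : b₀ ∈ A) (ha₀ : orderOf a₀ = 2) (hb₀ : orderOf b₀ = 2)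
    (hne₀ : a₀ ≠ b₀) (hcom₀ : a₀ * b₀ = b₀ * a₀) : False := by
  haveI : Fact (Nat.Prime 2) := ⟨Nat.prime_two⟩
  haveI := hU
  have hU2 : IsPGroup 2 U := IsPGroup.of_card (n := 2) hU.card_four
  set M := A ⊔ U with hM
  have hMA : M ≤ normalizer (A : Set G) := sup_le le_normalizer hUA
  obtain ⟨PM, hPM⟩ := (hU2.of_equiv (subgroupOfEquivOfLe (le_sup_right : U ≤ M)).symm).exists_le_sylow
  set T := (PM : Subgroup M).map M.subtype with hT
  have hTM : T ≤ M := map_subtype_le _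
  have hT2 : IsPGroup 2 T := PM.2.map _
  have hUT : U ≤ T := by
    rw [← map_subgroupOf_eq_of_le (le_sup_right : U ≤ M)]
    exact map_mono hPM
  have hTi : ¬ 2 ∣ T.relIndex M := by
    rw [relIndex, subgroupOf, hT, comap_map_eq_self_of_injective M.subtype_injective]
    exact PM.not_dvd_index
  set S := T ⊓ A with hS
  have hSi : ¬ 2 ∣ S.relIndex A :=
    CfsgLib.Fusion.not_dvd_relIndex_inf_of_le_normalizer hT2 hTM hTi le_sup_left hMA
  have hS2 : IsPGroup 2 S := hT2.to_le inf_le_left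
  have hSA : S ≤ A := inf_le_right
  have hTS : T ≤ normalizer (S : Set G) :=
    CfsgLib.Coprime.inf_le_normalizer le_normalizer (hTM.trans hMA)
  obtain ⟨PS, hPS⟩ := (CfsgLib.Fusion.exists_sylow_eq_subgroupOf_iff hS2 hSA).2 hSi
  have into : ∀ X : Subgroup G, X ≤ A → IsPGroup 2 X → ∃ k ∈ A, ∀ x ∈ X, k * x * k⁻¹ ∈ S := by
    intro X hXA hX
    obtain ⟨Q, hQ⟩ := (hX.of_equiv (subgroupOfEquivOfLe hXA).symm).exists_le_sylow
    obtain ⟨k, hk⟩ := MulAction.exists_smul_eq A Q PS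
    refine ⟨k, k.2, fun x hx => ?_⟩
    have h1 : k * ⟨x, hXA hx⟩ * k⁻¹ ∈ (PS : Subgroup A) := by
      rw [← hk, Sylow.coe_subgroup_smul]
      exact ⟨⟨x, hXA hx⟩, hQ hx, rfl⟩
    rw [hPS] at h1
    exact h1
  -- a four-group inside `S`
  have hfour2 : ∀ a b : G, orderOf a = 2 → orderOf b = 2 → a ≠ b → a * b = b * a →
      IsPGroup 2 ↥(zpowers a ⊔ zpowers b) := fun a b ha hb hne hc =>
    IsPGroup.of_card (n := 2) (card_four ha hb hc hne)
  obtain ⟨k₀, hk₀A, hk₀⟩ := into (zpowers a₀ ⊔ zpowers b₀) (sup_le (zpowers_le.2 ha₀A) (zpowers_le.2 hb₀A))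
    (hfour2 _ _ ha₀ hb₀ hne₀ hcom₀)
  set a := k₀ * a₀ * k₀⁻¹ with hadef
  set b := k₀ * b₀ * k₀⁻¹ with hbdef
  have haS : a ∈ S := hk₀ _ (mem_sup_left (mem_zpowers _))
  have hbS : b ∈ S := hk₀ _ (mem_sup_right (mem_zpowers _))
  have ha : orderOf a = 2 := by rw [hadef, orderOf_conj', ha₀]
  have hb : orderOf b = 2 := by rw [hbdef, orderOf_conj', hb₀]
  have hab : a ≠ b := fun e => hne₀ (mul_left_cancel (mul_right_cancel e))
  have hcomab : a * b = b * a := ((Commute.conj_iff k₀).2 (show Commute a₀ b₀ from hcom₀)).eq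
  -- the central involution
  obtain ⟨z, hzS, hz, hzT⟩ : ∃ z ∈ S, orderOf z = 2 ∧ ∀ p ∈ T, p * z = z * p := by
    haveI : (S.subgroupOf T).Normal := (normal_subgroupOf_iff_le_normalizer inf_le_left).2 hTS
    haveI := hT2.isNilpotent
    have hne : S.subgroupOf T ≠ ⊥ := fun h => by
      have h1 : (⟨a, inf_le_left (b := A) haS⟩ : T) ∈ S.subgroupOf T := mem_subgroupOf.2 haS
      rw [h, mem_bot] at h1
      have h2 : a = 1 := congrArg Subtype.val h1
      rw [h2, orderOf_one] at ha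
      omega
    have hbot := CfsgLib.Coprime.nilpotent_inf_center_ne_bot (S.subgroupOf T) hne
    haveI : Nontrivial ↥(S.subgroupOf T ⊓ center T) := (nontrivial_iff_ne_bot _).2 hbot
    have hd : 2 ∣ Nat.card ↥(S.subgroupOf T ⊓ center T) := by
      obtain ⟨n, hn⟩ := IsPGroup.iff_card.1 (hT2.to_subgroup (S.subgroupOf T ⊓ center T))
      have h1 : 1 < Nat.card ↥(S.subgroupOf T ⊓ center T) := Finite.one_lt_card
      rw [hn] at h1 ⊢
      exact dvd_pow_self 2 (by rintro rfl; simp at h1)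
    obtain ⟨w, hw⟩ := exists_prime_orderOf_dvd_card' 2 hd
    rw [← Subgroup.orderOf_coe, ← Subgroup.orderOf_coe] at hw
    exact ⟨w.1.1, mem_subgroupOf.1 w.2.1, hw, fun p hp =>
      congrArg Subtype.val (mem_center_iff.1 w.2.2 ⟨p, hp⟩)⟩
  have hzz := mul_self_of_order_two hz
  have hz1 : z ≠ 1 := fun e => by rw [e, orderOf_one] at hz; omega
  have hzU : ∀ u ∈ U, u * z = z * u := fun u hu => hzT u (hUT hu)
  have hSC : ∀ s ∈ S, s * z = z * s := fun s hs => hzT s hs.1
  have hzA : z ∈ A := hzS.2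
  -- an involution of `S` other than `z`
  obtain ⟨x₀, hx₀S, hx₀, hx₀z⟩ : ∃ x ∈ S, orderOf x = 2 ∧ x ≠ z := by
    by_cases h : a = z
    · exact ⟨b, hbS, hb, fun e => hab (h.trans e.symm)⟩
    · exact ⟨a, haS, ha, h⟩
  have contra : ∀ x ∈ S, orderOf x = 2 → x ≠ z → ∀ v ∈ U, v ≠ 1 → v * x = x * v → False :=
    fun x hx hxo hxz v hv hv1 hvx =>
      noE v hv hv1 x (hSA hx) z hzA hxo hz hxz (hSC x hx) hvx (hzU v hv)
  obtain ⟨m, hm⟩ := IsPGroup.iff_card.1 hS2
  have hnc : ¬ IsCyclic S := by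
    intro hc
    haveI := hc
    letI := Fintype.ofFinite S
    have hu := IsCyclic.card_orderOf_eq_totient (α := S) (d := 2)
      (by
        rw [← Nat.card_eq_fintype_card]
        have := S.orderOf_dvd_natCard hzS
        rwa [hz] at this)
    rw [Nat.totient_two, Finset.card_eq_one] at hu
    obtain ⟨w, hw⟩ := hu
    have a1 : (⟨x₀, hx₀S⟩ : S) = w := Finset.mem_singleton.1 (hw ▸ Finset.mem_filter.2
      ⟨Finset.mem_univ _, by rw [Subgroup.orderOf_mk]; exact hx₀⟩)
    have a2 : (⟨z, hzS⟩ : S) = w := Finset.mem_singleton.1 (hw ▸ Finset.mem_filter.2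
      ⟨Finset.mem_univ _, by rw [Subgroup.orderOf_mk]; exact hz⟩)
    exact hx₀z (congrArg Subtype.val (a1.trans a2.symm))
  by_cases hcl : Group.nilpotencyClass S = m - 1
  swap
  · obtain ⟨x, hxS, hxo, hxz, hpair⟩ := CfsgLib.CFun.FourMax.exists_invariant_pair hT2 inf_le_left hTS hzS hz
      hzT hnc hm hcl
    obtain ⟨v, hv, hv1, hvx⟩ := exists_fixing hU hzz hzU (x := x) fun u hu => hpair u (hUT hu)
    exact contra x hxS hxo hxz v hv hv1 hvx
  have hconjS : ∀ p ∈ T, ∀ s ∈ S, p * s * p⁻¹ ∈ S := fun p hp s hs =>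
    (mem_normalizer_iff.1 (hTS hp) s).1 hs
  have hzS' : (⟨z, hzS⟩ : S) ∈ center S := mem_center_iff.2 fun s => Subtype.ext (hSC s s.2)
  by_cases hna : IsMulCommutative S
  · -- `S` is a four-group
    haveI := hS2.isNilpotent
    have hm2 : m ≤ 2 := by
      have : Group.nilpotencyClass S ≤ 1 := Subgroup.lowerCentralSeries_eq_bot_iff_nilpotencyClass_le.1 (by
        rw [Subgroup.top_lowerCentralSeries_one, _root_.commutator_def, commutator_eq_bot_iff_le_centralizer]
        intro g _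
        exact mem_centralizer_iff.2 fun h _ => hna.is_comm.comm h g)
      omega
    have hWS : zpowers x₀ ⊔ zpowers z = S := Subgroup.eq_of_le_of_card_ge
      (sup_le (zpowers_le.2 hx₀S) (zpowers_le.2 hzS)) (by
        rw [card_four hx₀ hz (hSC x₀ hx₀S) hx₀z, hm]
        exact le_trans (Nat.pow_le_pow_right two_pos hm2) (by norm_num))
    obtain ⟨v, hv, hv1, hvx⟩ := exists_fixing hU hzz hzU (x := x₀) (fun u hu => by
      have h := hconjS u (hUT hu) x₀ hx₀S
      rw [← hWS] at h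
      rcases mem_four hx₀ hz (hSC x₀ hx₀S) h with e | e | e | e
      · have h1 : x₀ = 1 := by simpa using e
        rw [h1, orderOf_one] at hx₀
        omega
      · exact Or.inl e
      · refine absurd (mul_left_cancel (a := u) ?_) hx₀z
        rw [hzU u hu]
        exact mul_inv_eq_iff_eq_mul.1 e
      · exact Or.inr e)
    exact contra x₀ hx₀S hx₀ hx₀z v hv hv1 hvx
  obtain ⟨hcent', hcard', r', hr'⟩ := CfsgLib.CFun.FourMax.exists_cyclic_frame hm hna hcl
    (z := ⟨z, hzS⟩) (x := ⟨x₀, hx₀S⟩) (by rw [Subgroup.orderOf_mk]; exact hz) hzS'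
    (by rw [Subgroup.orderOf_mk]; exact hx₀) (fun e => hx₀z (congrArg Subtype.val e))
  have hcent : ∀ y ∈ S, orderOf y = 2 → y ≠ z → ∀ s ∈ S, s * y = y * s →
      s ∈ zpowers z ⊔ zpowers y := by
    intro y hyS hy hyz s hs hc
    have h := hcent' ⟨y, hyS⟩ (by rw [Subgroup.orderOf_mk]; exact hy) (fun e => hyz (congrArg Subtype.val e))
      ⟨s, hs⟩ (Subtype.ext hc)
    have h2 := Subgroup.mem_map_of_mem S.subtype h
    rwa [Subgroup.map_sup, MonoidHom.map_zpowers, MonoidHom.map_zpowers] at h2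
  set r : G := (r' : G) with hrdef
  have hrS : r ∈ S := r'.2
  have hR : (zpowers r').map S.subtype = zpowers r := MonoidHom.map_zpowers _ _
  have memR : ∀ s : S, s ∈ zpowers r' ↔ (s : G) ∈ zpowers r := fun s => by
    rw [← hR]; exact (Subgroup.mem_map_iff_mem S.subtype_injective).symm
  have hRS : zpowers r ≤ S := zpowers_le.2 hrS
  have hmulR : ∀ s ∈ S, ∀ t ∈ S, (s * t ∈ zpowers r ↔ (s ∈ zpowers r ↔ t ∈ zpowers r)) :=
    fun s hs t ht => by
      have h := Subgroup.mul_mem_iff_of_index_two hr' (a := ⟨s, hs⟩) (b := ⟨t, ht⟩)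
      rwa [memR, memR, memR] at h
  have hm3 : 3 ≤ m := by
    by_contra h
    refine hna ?_
    interval_cases m
    · haveI : Subsingleton S := (Nat.card_eq_one_iff_unique.1 (by rw [hm, pow_zero])).1
      exact ⟨⟨fun a b => Subsingleton.elim _ _⟩⟩
    · haveI : IsCyclic S := isCyclic_of_prime_card (by rw [hm, pow_one])
      letI := IsCyclic.commGroup (α := S)
      exact ⟨⟨fun a b => mul_comm a b⟩⟩
    · exact ⟨⟨fun a b => IsPGroup.commutative_of_card_eq_prime_sq hm a b⟩⟩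
  have hor : orderOf r = 2 ^ (m - 1) := by
    have h := Subgroup.card_mul_index (zpowers r')
    rw [hr', Nat.card_zpowers, hm, ← Subgroup.orderOf_coe] at h
    have h3 : 2 ^ m = 2 ^ (m - 1) * 2 := by rw [← pow_succ, Nat.sub_add_cancel (by omega)]
    rw [h3] at h
    exact Nat.eq_of_mul_eq_mul_right two_pos h
  -- the unique involution of the cyclic subgroup
  set i₀ := r ^ (2 ^ (m - 2)) with hi₀def
  have hi₀R : i₀ ∈ zpowers r := Subgroup.pow_mem _ (mem_zpowers r) _
  have hi₀ : orderOf i₀ = 2 := by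
    rw [hi₀def, orderOf_pow_of_dvd (by positivity) (by rw [hor]; exact pow_dvd_pow 2 (by omega)), hor,
      Nat.pow_div (by omega) two_pos, show m - 1 - (m - 2) = 1 by omega, pow_one]
  have uniq : ∀ y ∈ zpowers r, orderOf y = 2 → y = i₀ := by
    intro y hy hyo
    letI := Fintype.ofFinite ↥(zpowers r)
    have hu := IsCyclic.card_orderOf_eq_totient (α := ↥(zpowers r)) (d := 2)
      (by
        rw [← Nat.card_eq_fintype_card, Nat.card_zpowers, hor]
        exact dvd_pow_self 2 (by omega))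
    rw [Nat.totient_two, Finset.card_eq_one] at hu
    obtain ⟨w, hw⟩ := hu
    have a1 : (⟨y, hy⟩ : ↥(zpowers r)) = w := Finset.mem_singleton.1 (hw ▸ Finset.mem_filter.2
      ⟨Finset.mem_univ _, by rw [Subgroup.orderOf_mk]; exact hyo⟩)
    have a2 : (⟨i₀, hi₀R⟩ : ↥(zpowers r)) = w := Finset.mem_singleton.1 (hw ▸ Finset.mem_filter.2
      ⟨Finset.mem_univ _, by rw [Subgroup.orderOf_mk]; exact hi₀⟩)
    exact congrArg Subtype.val (a1.trans a2.symm)
  have hiz : i₀ = z := by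
    by_contra hne
    have hRn : (zpowers r').Normal := Subgroup.normal_of_index_eq_two hr'
    have hic : ∀ s ∈ S, s * i₀ = i₀ * s := by
      intro s hs
      refine mul_inv_eq_iff_eq_mul.1 (uniq _ ?_ (by rw [orderOf_conj', hi₀]))
      exact (memR ⟨s * i₀ * s⁻¹, _⟩).1 (hRn.conj_mem ⟨i₀, hRS hi₀R⟩ ((memR _).2 hi₀R) ⟨s, hs⟩)
    have hle : S ≤ zpowers z ⊔ zpowers i₀ := fun s hs => hcent i₀ (hRS hi₀R) hi₀ hne s hs (hic s hs)
    have hc := Nat.le_of_dvd (by norm_num)
      (card_four hz hi₀ (hic z hzS) (Ne.symm hne) ▸ Subgroup.card_dvd_of_le hle)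
    rw [hm] at hc
    have : (2 : ℕ) ^ 3 ≤ 2 ^ m := Nat.pow_le_pow_right two_pos hm3
    omega
  have notR : ∀ y, orderOf y = 2 → y ≠ z → y ∉ zpowers r := fun y hy hyz h =>
    hyz ((uniq y h hy).trans hiz)
  have hRc : ∀ p ∈ zpowers r, ∀ q ∈ zpowers r, p * q = q * p := fun p hp q hq => by
    obtain ⟨i, rfl⟩ := mem_zpowers_iff.1 hp
    obtain ⟨j, rfl⟩ := mem_zpowers_iff.1 hq
    exact ((Commute.refl r).zpow_zpow i j).eq
  set c := r ^ (2 ^ (m - 3)) with hcdef
  have hcR : c ∈ zpowers r := Subgroup.pow_mem _ (mem_zpowers r) _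
  have hc2 : c * c = z := by
    rw [hcdef, ← pow_add, ← two_mul, ← pow_succ', show m - 3 + 1 = m - 2 by omega]
    exact hiz
  have hcc : c ≠ c⁻¹ := fun e => hz1 (by rw [← hc2]; exact mul_eq_one_iff_eq_inv.2 e)
  have hord4 : ∀ d ∈ zpowers r, d * d = z → d = c ∨ d = c⁻¹ := by
    intro d hd hdd
    have h1 : (d * c⁻¹) * (d * c⁻¹) = 1 := by
      rw [(show Commute d c⁻¹ from hRc d hd _ (inv_mem hcR)).symm.mul_mul_mul_comm d c⁻¹, hdd, ← mul_inv_rev,
        hc2, mul_inv_cancel]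
    by_cases he : d * c⁻¹ = 1
    · exact Or.inl (mul_inv_eq_one.1 he)
    · right
      have ho : orderOf (d * c⁻¹) = 2 := orderOf_eq_prime (by rw [pow_two, h1]) he
      have h2 := (uniq _ (mul_mem hd (inv_mem hcR)) ho).trans hiz
      rw [eq_inv_iff_mul_eq_one, ← hzz]
      conv_rhs => arg 1; rw [← h2]
      conv_rhs => arg 2; rw [← hc2]
      group
  have invert : ∀ y ∈ S, orderOf y = 2 → y ≠ z → y * c * y⁻¹ = c⁻¹ := by
    intro y hyS hy hyz
    have hRn : (zpowers r').Normal := Subgroup.normal_of_index_eq_two hr'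
    have h1 : y * c * y⁻¹ ∈ zpowers r :=
      (memR ⟨y * c * y⁻¹, _⟩).1 (hRn.conj_mem ⟨c, hRS hcR⟩ ((memR _).2 hcR) ⟨y, hyS⟩)
    rcases hord4 _ h1 (by
      rw [show y * c * y⁻¹ * (y * c * y⁻¹) = y * (c * c) * y⁻¹ by group, hc2, hSC y hyS]; group) with e | e
    · exfalso
      have h2 := hcent y hyS hy hyz c (hRS hcR) (mul_inv_eq_iff_eq_mul.1 e).symm
      exact hz1 (hc2.symm.trans (four_sq hz hy (hSC y hyS).symm h2))
    · exact e
  -- `T` permutes the two generators of the cyclic group of order four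
  have hTc : ∀ p ∈ T, p * c * p⁻¹ = c ∨ p * c * p⁻¹ = c⁻¹ := by
    intro p hp
    have hdz : p * c * p⁻¹ * (p * c * p⁻¹) = z := by
      rw [show p * c * p⁻¹ * (p * c * p⁻¹) = p * (c * c) * p⁻¹ by group, hc2, hzT p hp]; group
    have hdS : p * c * p⁻¹ ∈ S := hconjS p hp c (hRS hcR)
    by_cases hd : p * c * p⁻¹ ∈ zpowers r
    · exact hord4 _ hd hdz
    exfalso
    set q := p * r * p⁻¹ with hq
    have hqS : q ∈ S := hconjS p hp r hrS
    have hqR : q ∉ zpowers r := fun h => hd (by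
      rw [hcdef, show p * r ^ (2 ^ (m - 3)) * p⁻¹ = q ^ (2 ^ (m - 3)) from
        (map_pow (MulAut.conj p) r _)]
      exact Subgroup.pow_mem _ h _)
    -- `r ^ 2` lies in both cyclic subgroups of index two
    have hq' : (zpowers (⟨q, hqS⟩ : S)).index = 2 := by
      have h := Subgroup.card_mul_index (zpowers (⟨q, hqS⟩ : S))
      rw [Nat.card_zpowers, Subgroup.orderOf_mk, show orderOf q = 2 ^ (m - 1) from (orderOf_conj' p r).trans hor,
        hm] at h
      have h3 : 2 ^ m = 2 ^ (m - 1) * 2 := by rw [← pow_succ, Nat.sub_add_cancel (by omega)]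
      rw [h3] at h
      exact Nat.eq_of_mul_eq_mul_left (pow_pos two_pos _) h
    have hr2q : r ^ 2 ∈ zpowers q := by
      have h := Subgroup.mem_map_of_mem S.subtype (Subgroup.sq_mem_of_index_two hq' r')
      rw [MonoidHom.map_zpowers, map_pow] at h
      exact h
    obtain ⟨i, hi⟩ := mem_zpowers_iff.1 hr2q
    have hqc : q * r ^ 2 = r ^ 2 * q := by
      rw [← hi]; exact ((Commute.refl q).zpow_right i).eq
    have hr2c : x₀ * r ^ 2 = r ^ 2 * x₀ := by
      have h1 : q * x₀ ∈ zpowers r := (hmulR q hqS x₀ hx₀S).2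
        ⟨fun h => absurd h hqR, fun h => absurd h (notR x₀ hx₀ hx₀z)⟩
      have h2 : Commute (q * x₀) (r ^ 2) := hRc _ h1 _ (Subgroup.pow_mem _ (mem_zpowers r) 2)
      have h3 : Commute q⁻¹ (r ^ 2) := (show Commute q (r ^ 2) from hqc).inv_left
      have := h3.mul_left h2
      rwa [inv_mul_cancel_left] at this
    have h4 := four_sq hz hx₀ (hSC x₀ hx₀S).symm
      (hcent x₀ hx₀S hx₀ hx₀z (r ^ 2) (S.pow_mem hrS 2) hr2c.symm)
    have hm3' : m = 3 := by
      have h5 : orderOf r ∣ 4 := orderOf_dvd_of_pow_eq_one (by rw [← h4, ← pow_add])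
      rw [hor] at h5
      have h6 := Nat.le_of_dvd (by norm_num) h5
      have : ¬ 4 ≤ m := fun hh => by
        have : (2 : ℕ) ^ 3 ≤ 2 ^ (m - 1) := Nat.pow_le_pow_right two_pos (by omega)
        omega
      omega
    set d := p * c * p⁻¹ with hddef
    have hρ : d * x₀ ∈ zpowers r := (hmulR d hdS x₀ hx₀S).2
      ⟨fun h => absurd h hd, fun h => absurd h (notR x₀ hx₀ hx₀z)⟩
    have hρc : x₀ * (d * x₀) * x₀⁻¹ = (d * x₀)⁻¹ := by
      have hcr : c = r := by rw [hcdef, hm3', Nat.sub_self, pow_zero, pow_one]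
      obtain ⟨j, hj⟩ := mem_zpowers_iff.1 hρ
      rw [← hj, ← hcr, ← conj_zpow, invert x₀ hx₀S hx₀ hx₀z, inv_zpow]
    refine hz1 (hdz.symm.trans ?_)
    have hxx := mul_self_of_order_two hx₀
    have e1 : d = d * x₀ * x₀ := by rw [mul_assoc, hxx, mul_one]
    rw [e1]
    calc d * x₀ * x₀ * (d * x₀ * x₀) = d * x₀ * (x₀ * (d * x₀) * x₀⁻¹) * (x₀ * x₀) := by group
      _ = 1 := by rw [hρc, hxx, mul_inv_cancel, one_mul]
  obtain ⟨v, hv, hv1, hvc⟩ : ∃ v ∈ U, v ≠ 1 ∧ v * c = c * v := by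
    refine exists_fixing hU hzz hzU fun u hu => ?_
    rcases hTc u (hUT hu) with e | e
    · exact Or.inl e
    · exact Or.inr (by
        rw [e, ← hc2, inv_eq_iff_mul_eq_one, ← mul_assoc, ← mul_assoc, mul_assoc (c * c), hc2, hzz])
  have hvv : v * v = 1 := congrArg Subtype.val (IsKleinFour.mul_self (⟨v, hv⟩ : U))
  -- `v` moves every non-central involution of `S` to its partner
  have swapv : ∀ y ∈ S, orderOf y = 2 → y ≠ z → v * y * v⁻¹ = y * z := by
    intro y hyS hy hyz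
    set y' := v * y * v⁻¹ with hy'
    have hy'S : y' ∈ S := hconjS v (hUT hv) y hyS
    have hy'o : orderOf y' = 2 := by rw [hy', orderOf_conj', hy]
    have hy'z : y' ≠ z := fun e => hyz (by
      have h1 : v * y = z * v := mul_inv_eq_iff_eq_mul.1 e
      rw [← hzU v hv] at h1
      exact mul_left_cancel h1)
    set x := y * y' with hx
    have hxR : x ∈ zpowers r := (hmulR y hyS y' hy'S).2
      ⟨fun h => absurd h (notR y hy hyz), fun h => absurd h (notR y' hy'o hy'z)⟩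
    have hvx : v * x * v⁻¹ = x⁻¹ := by
      have h1 : v * y' * v⁻¹ = y := by
        rw [hy', show v * (v * y * v⁻¹) * v⁻¹ = (v * v) * y * (v * v)⁻¹ by group, hvv]; group
      calc v * x * v⁻¹ = y' * (v * y' * v⁻¹) := by rw [hx, hy']; group
        _ = x⁻¹ := by
          rw [h1, hx, mul_inv_rev, inv_eq_of_mul_eq_one_right (mul_self_of_order_two hy),
            inv_eq_of_mul_eq_one_right (mul_self_of_order_two hy'o)]
    have hx2 : x * x = 1 := by
      by_contra hxx
      obtain ⟨k, hk⟩ := (Nat.dvd_prime_pow Nat.prime_two).1 (show orderOf x ∣ 2 ^ (m - 1) by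
        rw [← hor, ← Nat.card_zpowers r]; exact (zpowers r).orderOf_dvd_natCard hxR)
      obtain ⟨hk1, hk2⟩ := hk
      have hk' : 2 ≤ k := by
        by_contra hh
        refine hxx ?_
        rw [← pow_two]
        refine orderOf_dvd_iff_pow_eq_one.1 ?_
        rw [hk2]
        exact (pow_dvd_pow 2 (show k ≤ 1 by omega)).trans (by norm_num)
      set d := x ^ (2 ^ (k - 2)) with hd
      have hdo : orderOf d = 4 := by
        rw [hd, orderOf_pow_of_dvd (by positivity) (by rw [hk2]; exact pow_dvd_pow 2 (by omega)), hk2,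
          Nat.pow_div (by omega) two_pos, show k - (k - 2) = 2 by omega]; rfl
      have hdd : d * d = z := by
        refine (uniq _ (mul_mem (Subgroup.pow_mem _ hxR _) (Subgroup.pow_mem _ hxR _)) ?_).trans hiz
        rw [← pow_two, orderOf_pow_of_dvd (by norm_num) (by rw [hdo]; norm_num), hdo]
      have hvd : v * d * v⁻¹ = d⁻¹ := by rw [hd, ← conj_pow, hvx, inv_pow]
      have hd1 : d ≠ d⁻¹ := fun e => hz1 (by rw [← hdd]; exact mul_eq_one_iff_eq_inv.2 e)
      rcases hord4 d (Subgroup.pow_mem _ hxR _) hdd with e | e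
      · refine hd1 ?_
        rw [← hvd, e, hvc, mul_inv_cancel_right]
      · refine hd1 ?_
        rw [← hvd, e, (show Commute v c from hvc).inv_right.eq, mul_inv_cancel_right]
    by_cases hx1 : x = 1
    · exfalso
      refine contra y hyS hy hyz v hv hv1 (mul_inv_eq_iff_eq_mul.1 ?_)
      have h2 : y' = y⁻¹ := eq_inv_of_mul_eq_one_right hx1
      exact h2.trans (inv_eq_of_mul_eq_one_right (mul_self_of_order_two hy))
    · have hxz : x = z := (uniq x hxR (orderOf_eq_prime (by rw [pow_two, hx2]) hx1)).trans hiz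
      rw [← hxz, hx, ← mul_assoc, mul_self_of_order_two hy, one_mul]
  set w := v * c⁻¹ with hw
  have hcv : Commute v c := hvc
  have hw2 : w * w = z := by
    rw [hw, hcv.inv_right.symm.mul_mul_mul_comm v c⁻¹, hvv, one_mul, ← mul_inv_rev, hc2,
      inv_eq_of_mul_eq_one_right hzz]
  have hwy : ∀ y ∈ S, orderOf y = 2 → w * y = y * w := by
    intro y hyS hy
    by_cases hyz : y = z
    · subst hyz
      have h1 : Commute v y := hzU v hv
      exact (h1.mul_left (show Commute c y from hSC c (hRS hcR)).inv_left).eq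
    refine mul_inv_eq_iff_eq_mul.1 ?_
    have e1 : c⁻¹ * y * c = y * z := by
      have h3 := invert y hyS hy hyz
      rw [← h3, ← hc2]; group
    calc w * y * w⁻¹ = v * (c⁻¹ * y * c) * v⁻¹ := by rw [hw]; group
      _ = (v * y * v⁻¹) * (v * z * v⁻¹) := by rw [e1]; group
      _ = y := by rw [swapv y hyS hy hyz, hzU v hv]; simp [mul_assoc, hzz]
  have hwA : w ∈ normalizer (A : Set G) :=
    mul_mem (hUA hv) (inv_mem (le_normalizer (hSA (hRS hcR))))
  -- transfer: some non-central involution is conjugate to `z`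
  obtain ⟨g, hgA, hg⟩ : ∃ g ∈ A, g * x₀ * g⁻¹ = z := by
    have hQ : ((zpowers r).subgroupOf A).relIndex (PS : Subgroup A) = 2 := by
      rw [hPS, Subgroup.relIndex_subgroupOf hSA, relIndex, subgroupOf, ← hR,
        comap_map_eq_self_of_injective S.subtype_injective]
      exact hr'
    rcases Cfsg.Agent.S0111.result PS ((zpowers r).subgroupOf A)
      (by rw [hPS]; exact fun s hs => hRS hs) hQ ⟨x₀, hSA hx₀S⟩
      (by rw [Subgroup.orderOf_mk]; exact hx₀) (by rw [hPS]; exact hx₀S)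
      (fun h => notR x₀ hx₀ hx₀z h) with ⟨N, hN, hNi, -⟩ | ⟨g, hg⟩
    · exfalso
      haveI := hN
      have htop : (⊤ : Subgroup A) ≤ N := by
        have e : commutator A = ⊤ := by
          refine Subgroup.map_injective A.subtype_injective ?_
          rw [_root_.commutator_def, map_commutator, ← MonoidHom.range_eq_map, A.range_subtype, hperf]
        rw [← e, _root_.commutator_def, commutator_le]
        intro s _ t _
        rw [commutatorElement_def]
        simp only [Subgroup.mul_mem_iff_of_index_two hNi, inv_mem_iff]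
        tauto
      rw [top_le_iff.1 htop, index_top] at hNi
      omega
    · refine ⟨g, g.2, ?_⟩
      have hg' : (g : G) * x₀ * (g : G)⁻¹ ∈ zpowers r := hg
      exact (uniq _ hg' (by rw [orderOf_conj', hx₀])).trans hiz
  -- move the second involution into `S`
  set y₁ := g * z * g⁻¹ with hy₁
  have hy₁A : y₁ ∈ A := mul_mem (mul_mem hgA hzA) (inv_mem hgA)
  have hy₁z : y₁ * z = z * y₁ := by
    have h := ((show Commute z x₀ from (hSC x₀ hx₀S).symm).conj g).eq
    rwa [hg, ← hy₁] at h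
  obtain ⟨k, hkA, hkz, hkS⟩ : ∃ k ∈ A, k * z = z * k ∧ k * y₁ * k⁻¹ ∈ S := by
    set C := A ⊓ centralizer ({z} : Set G) with hC
    have hSle : S ≤ C := le_inf hSA fun s hs => mem_centralizer_singleton_iff.2 (hSC s hs)
    have hSC' : ¬ 2 ∣ S.relIndex C := fun h => hSi (h.trans
      (Subgroup.relIndex_mul_relIndex S C A hSle inf_le_left ▸ dvd_mul_right _ _))
    obtain ⟨PC, hPC⟩ := (CfsgLib.Fusion.exists_sylow_eq_subgroupOf_iff hS2 hSle).2 hSC'
    have hy₁C : y₁ ∈ C := ⟨hy₁A, mem_centralizer_singleton_iff.2 hy₁z⟩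
    have hyp : IsPGroup 2 ↥(zpowers (⟨y₁, hy₁C⟩ : C)) := IsPGroup.of_card (n := 1) (by
      rw [Nat.card_zpowers, Subgroup.orderOf_mk, hy₁, orderOf_conj', hz, pow_one])
    obtain ⟨Q, hQ⟩ := hyp.exists_le_sylow
    obtain ⟨k, hk⟩ := MulAction.exists_smul_eq C Q PC
    refine ⟨k, k.2.1, mem_centralizer_singleton_iff.1 k.2.2, ?_⟩
    have h1 : k * ⟨y₁, hy₁C⟩ * k⁻¹ ∈ (PC : Subgroup C) := by
      rw [← hk, Sylow.coe_subgroup_smul]
      exact ⟨⟨y₁, hy₁C⟩, hQ (mem_zpowers _), rfl⟩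
    rw [hPC] at h1
    exact h1
  set h := k * g with hh
  have hhA : h ∈ A := mul_mem hkA hgA
  have hhx : h * x₀ * h⁻¹ = z := by
    rw [hh, show k * g * x₀ * (k * g)⁻¹ = k * (g * x₀ * g⁻¹) * k⁻¹ by group, hg, hkz,
      mul_inv_cancel_right]
  set y₂ := h * z * h⁻¹ with hy₂
  have hy₂S : y₂ ∈ S := by
    rw [hy₂, hh, show k * g * z * (k * g)⁻¹ = k * y₁ * k⁻¹ by rw [hy₁]; group]
    exact hkS
  have hy₂o : orderOf y₂ = 2 := by rw [hy₂, orderOf_conj', hz]
  have hy₂z : y₂ ≠ z := fun e => hx₀z (mul_left_cancel (mul_right_cancel (hhx.trans e.symm)))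
  -- the square argument
  set H := (A ⊔ zpowers w) ⊓ centralizer ({z, y₂} : Set G) with hH
  have hwn : zpowers w ≤ normalizer (A : Set G) := zpowers_le.2 hwA
  have hmemC : ∀ s : G, s * z = z * s → s * y₂ = y₂ * s → s ∈ centralizer ({z, y₂} : Set G) := fun s h1 h2 =>
    mem_centralizer_iff.2 fun q hq => by
      rcases hq with rfl | rfl
      · exact h1.symm
      · exact h2.symm
  have hwH : w ∈ H := ⟨mem_sup_right (mem_zpowers w), hmemC w (hwy z hzS hz) (hwy y₂ hy₂S hy₂o)⟩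
  set w' := h * w * h⁻¹ with hw'
  have hw'H : w' ∈ H := ⟨mul_mem (mul_mem (mem_sup_left hhA) (mem_sup_right (mem_zpowers w)))
      ((A ⊔ zpowers w).inv_mem (mem_sup_left hhA)), hmemC w'
      (hhx ▸ ((show Commute w x₀ from hwy x₀ hx₀S hx₀).conj h).eq)
      (hy₂ ▸ ((show Commute w z from hwy z hzS hz).conj h).eq)⟩
  have hw4 : w ^ (2 ^ 2) = 1 := by
    rw [show (2 : ℕ) ^ 2 = 2 * 2 by norm_num, pow_mul, pow_two, pow_two, hw2, hzz]
  have two_el : ∀ e : G, ∀ he : e ∈ H, e ^ (2 ^ 2) = 1 → IsPGroup 2 ↥(zpowers (⟨e, he⟩ : H)) := by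
    intro e he h4
    obtain ⟨i, -, hi⟩ := (Nat.dvd_prime_pow Nat.prime_two).1 (orderOf_dvd_of_pow_eq_one h4)
    exact IsPGroup.of_card (n := i) (by rw [Nat.card_zpowers, Subgroup.orderOf_mk, hi])
  obtain ⟨Q₀, hQ₀⟩ := (two_el w hwH hw4).exists_le_sylow
  obtain ⟨Q₁, hQ₁⟩ := (two_el w' hw'H (by rw [hw', conj_pow, hw4, mul_one, mul_inv_cancel])).exists_le_sylow
  obtain ⟨t, ht⟩ := MulAction.exists_smul_eq H Q₁ Q₀
  set y := (t : G) * w' * (t : G)⁻¹ with hy
  have hyQ : t * ⟨w', hw'H⟩ * t⁻¹ ∈ (Q₀ : Subgroup H) := by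
    rw [← ht, Sylow.coe_subgroup_smul]
    exact ⟨⟨w', hw'H⟩, hQ₁ (mem_zpowers _), rfl⟩
  have htz : (t : G) * y₂ = y₂ * (t : G) := (mem_centralizer_iff.1 t.2.2 y₂ (by simp)).symm
  have hyy : y * y = y₂ := by
    rw [hy, show (t : G) * w' * (t : G)⁻¹ * ((t : G) * w' * (t : G)⁻¹) = (t : G) * (w' * w') * (t : G)⁻¹ by group,
      hw', show h * w * h⁻¹ * (h * w * h⁻¹) = h * (w * w) * h⁻¹ by group, hw2, ← hy₂, htz,
      mul_inv_cancel_right]
  set e := y * w⁻¹ with he
  have heA : e ∈ A := by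
    haveI : (A.subgroupOf (A ⊔ zpowers w)).Normal :=
      (normal_subgroupOf_iff_le_normalizer le_sup_left).2 (sup_le le_normalizer hwn)
    obtain ⟨n, hn, k', hk', hnk⟩ := CfsgLib.Coprime.mem_sup_exists hwn t.2.1
    have hkw : k' * w = w * k' := by
      obtain ⟨i, rfl⟩ := mem_zpowers_iff.1 hk'
      exact ((Commute.refl w).zpow_left i).eq
    have hh' : k' * h * k'⁻¹ ∈ A := (mem_normalizer_iff.1 (hwn hk') h).1 hhA
    have e1 : e = n * (k' * h * k'⁻¹) * (w * (n * (k' * h * k'⁻¹))⁻¹ * w⁻¹) := by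
      rw [he, hy, hw', ← hnk]
      calc n * k' * (h * w * h⁻¹) * (n * k')⁻¹ * w⁻¹
          = n * (k' * h * k'⁻¹) * (k' * w * k'⁻¹) * (k' * h * k'⁻¹)⁻¹ * n⁻¹ * w⁻¹ := by group
        _ = _ := by rw [hkw, mul_inv_cancel_right]; group
    rw [e1]
    have hn' : n * (k' * h * k'⁻¹) ∈ A := mul_mem hn hh'
    exact mul_mem hn' ((mem_normalizer_iff.1 hwA _).1 (inv_mem hn'))
  -- `e` lies in a 2-subgroup of the centralizer of the four-group
  set X := (Q₀ : Subgroup H).map H.subtype ⊓ A with hX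
  have hX2 : IsPGroup 2 X := (Q₀.2.map _).to_le inf_le_left
  have heX : e ∈ X := by
    refine ⟨?_, heA⟩
    exact Subgroup.mul_mem _ ⟨_, hyQ, rfl⟩ (Subgroup.inv_mem _ ⟨_, hQ₀ (mem_zpowers _), rfl⟩)
  have hXc : ∀ s ∈ X, s * z = z * s ∧ s * y₂ = y₂ * s := by
    intro s hs
    obtain ⟨s', -, rfl⟩ := hs.1
    exact ⟨(mem_centralizer_iff.1 s'.2.2 z (by simp)).symm, (mem_centralizer_iff.1 s'.2.2 y₂ (by simp)).symm⟩
  have hF2 := hfour2 z y₂ hz hy₂o (Ne.symm hy₂z) (hSC y₂ hy₂S).symm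
  set F := zpowers z ⊔ zpowers y₂ with hF
  have hFn : X ≤ normalizer (F : Set G) := fun s hs => by
    refine centralizer_le_normalizer _ (mem_centralizer_iff.2 fun f hf => ?_)
    rcases mem_four hz hy₂o (hSC y₂ hy₂S).symm hf with rfl | rfl | rfl | rfl
    · simp
    · exact (hXc s hs).1.symm
    · exact (hXc s hs).2.symm
    · exact (((show Commute s z from (hXc s hs).1).mul_right (hXc s hs).2).eq).symm
  obtain ⟨l, hlA, hl⟩ := into (X ⊔ F) (sup_le inf_le_right (sup_le (zpowers_le.2 hzA) (zpowers_le.2 (hSA hy₂S))))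
    (hX2.to_sup_of_normal_right' hF2 hFn)
  set a₁ := l * z * l⁻¹ with ha₁
  set a₂ := l * y₂ * l⁻¹ with ha₂
  have ha₁o : orderOf a₁ = 2 := by rw [ha₁, orderOf_conj', hz]
  have ha₂o : orderOf a₂ = 2 := by rw [ha₂, orderOf_conj', hy₂o]
  have ha₁S : a₁ ∈ S := hl _ (mem_sup_right (mem_sup_left (mem_zpowers _)))
  have ha₂S : a₂ ∈ S := hl _ (mem_sup_right (mem_sup_right (mem_zpowers _)))
  have ha12 : a₁ * a₂ = a₂ * a₁ := ((show Commute z y₂ from (hSC y₂ hy₂S).symm).conj l).eq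
  have ha12' : a₁ ≠ a₂ := fun e => hy₂z (mul_left_cancel (mul_right_cancel e)).symm
  have hes : l * e * l⁻¹ ∈ S := hl _ (mem_sup_left heX)
  have hes1 : l * e * l⁻¹ * a₁ = a₁ * (l * e * l⁻¹) := ((show Commute e z from (hXc e heX).1).conj l).eq
  have hes2 : l * e * l⁻¹ * a₂ = a₂ * (l * e * l⁻¹) := ((show Commute e y₂ from (hXc e heX).2).conj l).eq
  obtain ⟨q, hqS, hqo, hqz, hqa, hqe⟩ : ∃ q ∈ S, orderOf q = 2 ∧ q ≠ z ∧
      (∀ s ∈ ({a₁, a₂} : Set G), s * q = q * s) ∧ l * e * l⁻¹ * q = q * (l * e * l⁻¹) := by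
    by_cases hh1 : a₁ = z
    · exact ⟨a₂, ha₂S, ha₂o, fun e => ha12' (hh1.trans e.symm), by
        rintro s (rfl | rfl)
        · exact ha12
        · rfl, hes2⟩
    · exact ⟨a₁, ha₁S, ha₁o, hh1, by
        rintro s (rfl | rfl)
        · rfl
        · exact ha12.symm, hes1⟩
  have hWeq : zpowers a₁ ⊔ zpowers a₂ = zpowers z ⊔ zpowers q := Subgroup.eq_of_le_of_card_ge
    (sup_le (zpowers_le.2 (hcent q hqS hqo hqz a₁ ha₁S (hqa a₁ (by simp))))
      (zpowers_le.2 (hcent q hqS hqo hqz a₂ ha₂S (hqa a₂ (by simp)))))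
    (by rw [card_four ha₁o ha₂o ha12 ha12', card_four hz hqo (hSC q hqS).symm (Ne.symm hqz)])
  have hee : e * e = 1 := by
    have h1 : l * e * l⁻¹ * (l * e * l⁻¹) = 1 :=
      four_sq hz hqo (hSC q hqS).symm (hcent q hqS hqo hqz _ hes hqe)
    rwa [show l * e * l⁻¹ * (l * e * l⁻¹) = l * (e * e) * l⁻¹ by group, mul_inv_eq_one, mul_eq_left] at h1
  have hecomm : Commute e w := by
    have hmem : e ∈ F := by
      have h1 : l * e * l⁻¹ ∈ zpowers a₁ ⊔ zpowers a₂ := hWeq.symm ▸ hcent q hqS hqo hqz _ hes hqe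
      have h2 : zpowers a₁ ⊔ zpowers a₂ = F.map (MulAut.conj l).toMonoidHom := by
        rw [hF, Subgroup.map_sup, MonoidHom.map_zpowers, MonoidHom.map_zpowers]
        rfl
      rw [h2] at h1
      obtain ⟨f, hf, hfe⟩ := h1
      have : f = e := (MulAut.conj l).injective hfe
      exact this ▸ hf
    have cz : Commute w z := hwy z hzS hz
    have cy : Commute w y₂ := hwy y₂ hy₂S hy₂o
    rcases mem_four hz hy₂o (hSC y₂ hy₂S).symm hmem with h1 | h1 | h1 | h1 <;> rw [h1]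
    · exact Commute.one_left w
    · exact cz.symm
    · exact cy.symm
    · exact (cz.mul_right cy).symm
  refine hy₂z ?_
  rw [← hyy, show y = e * w by rw [he, inv_mul_cancel_right], hecomm.symm.mul_mul_mul_comm e w, hee, hw2,
    one_mul]



/-- Let A be a semisimple subgroup (A = E(A)) of a finite group and U a Klein four-group normalizing A. If the subgroup of A generated by the normalizers N_A(V) of the nontrivial subgroups V of U has 2-rank exactly 1, then A has 2-rank exactly 1. -/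
theorem result {G : Type*} [Group G] [Finite G] (A : Subgroup G) (hA : Cfsg.layer ↥A = ⊤)
    (U : Subgroup G) (hU : IsKleinFour U) (hUA : U ≤ Subgroup.normalizer (A : Set G))
    (hΓ : Cfsg.PRankLE 2 1 ↥(⨆ V : {V : Subgroup G // V ≤ U ∧ V ≠ ⊥}, A ⊓ Subgroup.normalizer ((V : Subgroup G) : Set G)) ∧
      ¬ Cfsg.PRankLE 2 0 ↥(⨆ V : {V : Subgroup G // V ≤ U ∧ V ≠ ⊥}, A ⊓ Subgroup.normalizer ((V : Subgroup G) : Set G))) :
    Cfsg.PRankLE 2 1 A ∧ ¬ Cfsg.PRankLE 2 0 A := by
  classical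
  haveI : Fact (Nat.Prime 2) := ⟨Nat.prime_two⟩
  set Γ := ⨆ V : {V : Subgroup G // V ≤ U ∧ V ≠ ⊥}, A ⊓ Subgroup.normalizer ((V : Subgroup G) : Set G) with hΓdef
  have hΓA : Γ ≤ A := iSup_le fun V => inf_le_left
  have hperf : ⁅A, A⁆ = A := by
    have h := CfsgLib.Coprime.layer_isPerfect (G := A)
    rw [hA] at h
    have h2 := congrArg (Subgroup.map A.subtype) h
    rwa [Subgroup.map_commutator, ← MonoidHom.range_eq_map, A.range_subtype] at h2
  have noE : ∀ v ∈ U, v ≠ 1 → ∀ a ∈ A, ∀ b ∈ A, orderOf a = 2 → orderOf b = 2 → a ≠ b →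
      a * b = b * a → v * a = a * v → v * b = b * v → False := by
    intro v hv hv1 a haA b hbA ha hb hab hcom hva hvb
    have hV : Subgroup.zpowers v ≤ U ∧ Subgroup.zpowers v ≠ ⊥ :=
      ⟨Subgroup.zpowers_le.2 hv, fun h => hv1 (Subgroup.zpowers_eq_bot.1 h)⟩
    have hmem : ∀ x ∈ A, v * x = x * v → x ∈ Γ := fun x hx hc =>
      Subgroup.mem_iSup_of_mem ⟨Subgroup.zpowers v, hV⟩ ⟨hx, Subgroup.centralizer_le_normalizer _
        (Subgroup.mem_centralizer_iff.2 fun s hs => by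
          obtain ⟨k, rfl⟩ := Subgroup.mem_zpowers_iff.1 hs
          exact (Commute.zpow_left hc k).eq)⟩
    have hB : Subgroup.zpowers a ⊔ Subgroup.zpowers b ≤ Γ :=
      sup_le (Subgroup.zpowers_le.2 (hmem a haA hva)) (Subgroup.zpowers_le.2 (hmem b hbA hvb))
    set B := (Subgroup.zpowers a ⊔ Subgroup.zpowers b).subgroupOf Γ with hBdef
    have h4 : Nat.card B = 4 := by
      rw [Nat.card_congr (Subgroup.subgroupOfEquivOfLe hB).toEquiv]
      exact card_four ha hb hcom hab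
    have hBe : ∀ s ∈ B, s ^ 2 = 1 := fun s hs =>
      Subtype.ext (by rw [pow_two]; exact four_sq ha hb hcom hs)
    have hBc : IsMulCommutative B := ⟨⟨fun s t => IsPGroup.commutative_of_card_eq_prime_sq (p := 2) h4 s t⟩⟩
    have := hΓ.1 B hBc hBe
    rw [h4] at this
    norm_num at this
  refine ⟨?_, ?_⟩
  · intro B hBc hBe
    by_contra hcard
    rw [not_le] at hcard
    obtain ⟨a, ha⟩ : ∃ a : B, a ≠ 1 := by
      haveI : Nontrivial B := Finite.one_lt_card_iff_nontrivial.1 (by omega)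
      exact exists_ne 1
    obtain ⟨b, hb, hba⟩ : ∃ b : B, b ≠ 1 ∧ b ≠ a := by
      by_contra hc
      push Not at hc
      have hle : Nat.card B ≤ Nat.card ({1, a} : Set B) :=
        le_of_eq (Nat.card_congr (Equiv.subtypeUnivEquiv fun s => by
          by_cases hs : s = 1
          · exact Or.inl hs
          · exact Or.inr (hc s hs)).symm)
      have hpair := Set.ncard_insert_le (1 : B) {a}
      rw [Set.ncard_singleton, ← Nat.card_coe_set_eq] at hpair
      omega
    have ord : ∀ s : B, s ≠ 1 → orderOf ((s : A) : G) = 2 := fun s hs =>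
      orderOf_eq_prime (congrArg Subtype.val (hBe s s.2)) (fun e => hs (Subtype.ext (Subtype.ext e)))
    exact no_four A hperf U hU hUA noE a.1.2 b.1.2 (ord a ha) (ord b hb)
      (fun e => hba (Subtype.ext (Subtype.ext e)).symm)
      (congrArg (fun s : B => ((s : A) : G)) (hBc.is_comm.comm a b))
  · intro h0
    refine hΓ.2 fun B hBc hBe => ?_
    have hi : Function.Injective (Subgroup.inclusion hΓA) := Subgroup.inclusion_injective hΓA
    haveI := hBc
    have h := h0 (B.map (Subgroup.inclusion hΓA)) inferInstance (by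
      rintro _ ⟨s, hs, rfl⟩
      rw [← map_pow, hBe s hs, map_one])
    rwa [Subgroup.card_map_of_injective hi] at h

end Cfsg.Agent.S1915
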