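import Cfsg.Statements.S1916
import Cfsg.Agent.Lib.GW.PairGenerate
import Cfsg.Agent.Lib.GW.Final
-- import your own Cfsg.Agent.* helpers here

set_option autoImplicit false
open Cfsg

namespace Cfsg.Agent.S1916

/-- Let L be a non-abelian simple subgroup of a finite group with dihedral Sylow 2-subgroups, and a, b two distinct commuting involutions normalizing L such that C_L(a) and C_L(b) have cyclic Sylow 2-subgroups and L is not contained in the subgroup generated by a, b, C_L(a) and C_L(b). Then ab centralizes L. -/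
theorem result {G : Type*} [Group G] [Finite G] (L : Subgroup G) (hL : IsSimpleGroup L) (hLn : ¬ IsMulCommutative L)
    (hD : ∀ P : Sylow 2 L, ∃ n : ℕ, Nonempty (↥(P : Subgroup L) ≃* DihedralGroup n))
    (a b : G) (ha : orderOf a = 2) (hb : orderOf b = 2) (hab : a ≠ b) (hc : a * b = b * a)
    (haL : a ∈ Subgroup.normalizer (L : Set G)) (hbL : b ∈ Subgroup.normalizer (L : Set G))
    (hCa : ∀ R : Sylow 2 ↥(L ⊓ Subgroup.centralizer ({a} : Set G)), IsCyclic R)
    (hCb : ∀ R : Sylow 2 ↥(L ⊓ Subgroup.centralizer ({b} : Set G)), IsCyclic R)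
    (hgen : ¬ L ≤ Subgroup.closure ({a, b} : Set G) ⊔ (L ⊓ Subgroup.centralizer ({a} : Set G)) ⊔ (L ⊓ Subgroup.centralizer ({b} : Set G))) :
    a * b ∈ Subgroup.centralizer (L : Set G) := by
  exact CfsgLib.GW.pair_generate L hL hD (CfsgLib.GW.gwBelow _) a b ha hb hc haL hbL hLn hCa hCb hgen

end Cfsg.Agent.S1916
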