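import Cfsg.Statements.S1921
import Cfsg.Agent.Lib.Coprime.Component
import Cfsg.Agent.Lib.Coprime.Action

set_option autoImplicit false
open Cfsg

namespace Cfsg.Agent.S1921

open scoped commutatorElement

/-- Let a be an involution of a finite group H and L a component of H with a L a⁻¹ ≠ L; put M = ⟨L, aLa⁻¹⟩ and let J be the subgroup generated by the elements x · a x a⁻¹ with x ∈ L (the diagonal). Then every element of M outside J·Z(M) generates M together with J. -/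
theorem result {H : Type*} [Group H] [Finite H] (a : H) (ha : orderOf a = 2) (L : Subgroup H) (hL : Cfsg.IsComponent L)
    (hLa : L.map (MulAut.conj a).toMonoidHom ≠ L) (x : H) (hxM : x ∈ L ⊔ L.map (MulAut.conj a).toMonoidHom)
    (hxJ : x ∉ Subgroup.closure {y : H | ∃ l ∈ L, y = l * (a * l * a⁻¹)} ⊔
      ((L ⊔ L.map (MulAut.conj a).toMonoidHom) ⊓ Subgroup.centralizer ((L ⊔ L.map (MulAut.conj a).toMonoidHom : Subgroup H) : Set H))) :
    Subgroup.closure {y : H | ∃ l ∈ L, y = l * (a * l * a⁻¹)} ⊔ Subgroup.zpowers x = L ⊔ L.map (MulAut.conj a).toMonoidHom := by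
  set L' := L.map (MulAut.conj a).toMonoidHom with hL'
  set M := L ⊔ L' with hM
  have hL'c : Cfsg.IsComponent L' := CfsgLib.Coprime.isComponent_map_equiv (MulAut.conj a) hL
  have hc : ∀ l ∈ L, ∀ m ∈ L', Commute l m := fun l hl m hm =>
    commutatorElement_eq_one_iff_mul_comm.1 (Subgroup.mem_bot.1
      ((CfsgLib.Coprime.components_commute hL hL'c fun h => hLa h.symm) ▸
        Subgroup.commutator_mem_commutator hl hm))
  set J := Subgroup.closure {y : H | ∃ l ∈ L, y = l * (a * l * a⁻¹)} with hJ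
  set D := J ⊔ Subgroup.zpowers x with hD
  have hgen : ∀ l ∈ L, l * (a * l * a⁻¹) ∈ J := fun l hl => Subgroup.subset_closure ⟨l, hl, rfl⟩
  have hJM : J ≤ M := (Subgroup.closure_le _).2 (by
    rintro _ ⟨l, hl, rfl⟩
    exact M.mul_mem (Subgroup.mem_sup_left hl) (Subgroup.mem_sup_right ⟨l, hl, rfl⟩))
  have hL'N : L' ≤ Subgroup.normalizer (L : Set H) := fun m hm =>
    CfsgLib.Coprime.centralizer_le_normalizer_self L
      (Subgroup.mem_centralizer_iff.2 fun l hl => (hc l hl m hm).eq)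
  obtain ⟨l, hl, _, ⟨m0, hm0, rfl⟩, hx⟩ := CfsgLib.Coprime.mem_sup_exists hL'N hxM
  simp only [MulEquiv.coe_toMonoidHom, MulAut.conj_apply] at hx
  have hl0 : l * m0⁻¹ ∈ L := L.mul_mem hl (L.inv_mem hm0)
  have hx0 : (m0 * (a * m0 * a⁻¹)) * (l * m0⁻¹) = m0 * l * m0⁻¹ * (a * m0 * a⁻¹) := by
    have := hc _ hl0 _ (Subgroup.mem_map_of_mem (MulAut.conj a).toMonoidHom hm0)
    simp only [MulEquiv.coe_toMonoidHom, MulAut.conj_apply] at this
    rw [mul_assoc m0, ← this.eq]; group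
  have hxD : l * m0⁻¹ ∈ D := by
    have h1 : x * (m0 * (a * m0 * a⁻¹))⁻¹ ∈ D := D.mul_mem
      (Subgroup.mem_sup_right (Subgroup.mem_zpowers x))
      (D.inv_mem (Subgroup.mem_sup_left (hgen m0 hm0)))
    have h2 : x * (m0 * (a * m0 * a⁻¹))⁻¹ = l * m0⁻¹ := by rw [← hx]; group
    rwa [h2] at h1
  set K := (D ⊓ L).subgroupOf L with hK
  have hKn : K.Normal := ⟨fun k hk g => by
    have hk' : (k : H) ∈ D ⊓ L := Subgroup.mem_subgroupOf.1 hk
    refine Subgroup.mem_subgroupOf.2 ⟨?_, (g * k * g⁻¹).2⟩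
    have hga : a * (g : H) * a⁻¹ ∈ L' := Subgroup.mem_map_of_mem _ g.2
    have h1 := D.mul_mem (D.mul_mem (Subgroup.mem_sup_left (hgen g g.2)) hk'.1)
      (D.inv_mem (Subgroup.mem_sup_left (hgen g g.2)))
    have h2 : (g : H) * (a * g * a⁻¹) * k * ((g : H) * (a * g * a⁻¹))⁻¹ = g * k * (g : H)⁻¹ := by
      rw [mul_assoc (g : H), ← (hc k hk'.2 _ hga).eq]; group
    rw [h2] at h1
    exact h1⟩
  refine le_antisymm (sup_le hJM (Subgroup.zpowers_le.2 hxM)) ?_
  rcases CfsgLib.Coprime.subnormal_eq_top_or_le_center hL.2 (Subgroup.Normal.isSubnormal hKn) with h | h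
  · have hLD : L ≤ D := (Subgroup.subgroupOf_eq_top.1 h).trans inf_le_left
    refine sup_le hLD ?_
    rintro _ ⟨m, hm, rfl⟩
    have h1 := D.mul_mem (D.inv_mem (hLD hm)) (Subgroup.mem_sup_left (hgen m hm))
    rwa [inv_mul_cancel_left] at h1
  · exfalso
    refine hxJ ?_
    have hz := h (Subgroup.mem_subgroupOf.2 (⟨hxD, hl0⟩ : (l * m0⁻¹) ∈ D ⊓ L) :
      (⟨_, hl0⟩ : L) ∈ K)
    have hzM : l * m0⁻¹ ∈ Subgroup.centralizer (M : Set H) := by
      refine Subgroup.mem_centralizer_iff.2 fun y hy => ?_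
      have hle : M ≤ Subgroup.centralizer ({l * m0⁻¹} : Set H) := by
        refine sup_le (fun y hy => Subgroup.mem_centralizer_singleton_iff.2 ?_)
          (fun y hy => Subgroup.mem_centralizer_singleton_iff.2 (hc _ hl0 y hy).symm.eq)
        exact congrArg Subtype.val (Subgroup.mem_center_iff.1 hz ⟨y, hy⟩)
      exact Subgroup.mem_centralizer_singleton_iff.1 (hle hy)
    have h3 : l * m0⁻¹ * (m0 * (a * m0 * a⁻¹)) = x := by rw [← hx]; group
    rw [← h3]
    exact Subgroup.mul_mem _ (Subgroup.mem_sup_right ⟨Subgroup.mem_sup_left hl0, hzM⟩)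
      (Subgroup.mem_sup_left (hgen m0 hm0))
end Cfsg.Agent.S1921
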