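import Cfsg.Statements.S1922
import Mathlib.GroupTheory.Sylow
import Mathlib.GroupTheory.GroupAction.Quotient

set_option autoImplicit false
open Cfsg

namespace Cfsg.Agent.S1922

/-- Let z be an involution of a finite group G and H a proper subgroup such that z lies in gHg⁻¹ exactly when g ∈ H. Then the following are equivalent: (1) for every conjugate t ≠ z of z commuting with z, the product zt lies in gHg⁻¹ exactly when g ∈ H; (2) z lies in the centre of some Sylow 2-subgroup of G, and for every conjugate t ≠ z of z commuting with z, the centralizer of zt is contained in H. -/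
theorem result {G : Type*} [Group G] [Finite G] (z : G) (hz : orderOf z = 2) (H : Subgroup G) (hH : H ≠ ⊤)
    (h0 : ∀ g : G, z ∈ H.map (MulAut.conj g).toMonoidHom ↔ g ∈ H) :
    (∀ t : G, IsConj z t → t ≠ z → t * z = z * t → ∀ g : G, z * t ∈ H.map (MulAut.conj g).toMonoidHom ↔ g ∈ H) ↔
      ((∃ P : Sylow 2 G, z ∈ (Subgroup.center ↥(P : Subgroup G)).map (P : Subgroup G).subtype) ∧
        ∀ t : G, IsConj z t → t ≠ z → t * z = z * t → Subgroup.centralizer ({z * t} : Set G) ≤ H) := by
  have hz2 : z * z = 1 := by rw [← pow_two, ← hz, pow_orderOf_eq_one]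
  have hzi : z⁻¹ = z := inv_eq_of_mul_eq_one_right hz2
  have memH : ∀ g x : G, x ∈ H.map (MulAut.conj g).toMonoidHom ↔ g⁻¹ * x * g ∈ H := by
    intro g x
    rw [Subgroup.mem_map_equiv]
    simp
  have hpt : ∀ g : G, g⁻¹ * z * g ∈ H ↔ g ∈ H := fun g => (memH g z).symm.trans (h0 g)
  have hzH : z ∈ H := by simpa using (hpt 1).2 H.one_mem
  have hcH : Subgroup.centralizer ({z} : Set G) ≤ H := fun c hc => (hpt c).1 (by
    rw [mul_assoc, ← Subgroup.mem_centralizer_singleton_iff.1 hc, inv_mul_cancel_left]; exact hzH)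
  constructor
  · intro hA
    have hcv : ∀ t : G, IsConj z t → t ≠ z → t * z = z * t →
        Subgroup.centralizer ({z * t} : Set G) ≤ H := by
      intro t ht hne hcomm g hg
      refine (hA t ht hne hcomm g).1 ((memH g _).2 ?_)
      rw [mul_assoc g⁻¹, ← Subgroup.mem_centralizer_singleton_iff.1 hg, inv_mul_cancel_left]
      refine H.mul_mem hzH (hcH ?_)
      rw [Subgroup.mem_centralizer_singleton_iff]; exact hcomm
    refine ⟨?_, hcv⟩
    obtain ⟨g0, hg0⟩ : ∃ g0 : G, g0 ∉ H := by
      by_contra h; push Not at h; exact hH ((Subgroup.eq_top_iff' H).2 h)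
    have hsq : ∀ u : G, IsConj z u → u * u = 1 := fun u hu => by
      obtain ⟨g, rfl⟩ := isConj_iff.1 hu
      rw [show g * z * g⁻¹ * (g * z * g⁻¹) = g * (z * z) * g⁻¹ by group, hz2]; group
    have hconj : ∀ y : G, z * y * z = y⁻¹ → ∀ j : ℕ, (y ^ j)⁻¹ * z * y ^ j = z * y ^ (2 * j) := by
      intro y hy j
      have h1 : z * y ^ j * z = (y ^ j)⁻¹ := by
        calc z * y ^ j * z = z * y ^ j * z⁻¹ := by rw [hzi]
          _ = (z * y * z⁻¹) ^ j := (conj_pow).symm
          _ = (y ^ j)⁻¹ := by rw [hzi, hy, inv_pow]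
      rw [← h1, two_mul, pow_add, mul_assoc (z * y ^ j) z z, hz2, mul_one, mul_assoc]
    -- involutions conjugate to `z` and outside `H` invert a product of odd order
    have hodd : ∀ u : G, IsConj z u → u ∉ H → Odd (orderOf (z * u)) := by
      intro u hu huH
      by_contra hev
      obtain ⟨r, hr⟩ := Nat.not_odd_iff_even.1 hev
      have hu2 := hsq u hu
      have hrpos : 0 < r := by have := orderOf_pos (z * u); omega
      set y := z * u with hy
      have hyi : y⁻¹ = u * z := by
        rw [hy, mul_inv_rev, hzi, inv_eq_of_mul_eq_one_right hu2]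
      have hinv : z * y * z = y⁻¹ := by rw [hyi, hy, ← mul_assoc, hz2, one_mul]
      have hi2 : y ^ r * y ^ r = 1 := by rw [← pow_add, ← hr, pow_orderOf_eq_one]
      have hi1 : y ^ r ≠ 1 := fun h => by
        have := Nat.le_of_dvd hrpos (orderOf_dvd_of_pow_eq_one h); omega
      have hiz : y ^ r * z = z * y ^ r := by
        have h1 : z * y ^ r * z⁻¹ = (y ^ r)⁻¹ := by rw [← conj_pow, hzi, hinv, inv_pow]
        rw [inv_eq_of_mul_eq_one_right hi2, mul_inv_eq_iff_eq_mul] at h1
        exact h1.symm
      -- `z y^r` is conjugate to `z` or to `u`, hence to `z`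
      have hzi' : IsConj z (z * y ^ r) := by
        rcases Nat.even_or_odd r with ⟨s, hs⟩ | ⟨s, hs⟩
        · refine isConj_iff.2 ⟨(y ^ s)⁻¹, ?_⟩
          rw [inv_inv, hconj y hinv s, hs, two_mul]
        · refine hu.trans (isConj_iff.2 ⟨(y ^ s)⁻¹, ?_⟩)
          have hu' : u = z * y := by rw [hy, ← mul_assoc, hz2, one_mul]
          rw [inv_inv, hs, hu', pow_succ]
          calc (y ^ s)⁻¹ * (z * y) * y ^ s = (y ^ s)⁻¹ * z * (y * y ^ s) := by group
            _ = ((y ^ s)⁻¹ * z * y ^ s) * y := by rw [(Commute.self_pow y s).eq]; group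
            _ = _ := by rw [hconj y hinv s, mul_assoc]
      have hne : z * y ^ r ≠ z := fun h => hi1 (mul_left_cancel (h.trans (mul_one z).symm))
      obtain ⟨g, rfl⟩ := isConj_iff.1 hu
      have hg : g ∉ H := fun h => huH (H.mul_mem (H.mul_mem h hzH) (H.inv_mem h))
      refine hg ((hA _ hzi' hne (by rw [mul_assoc, hiz]) g).1 ?_)
      rw [← mul_assoc, hz2, one_mul]
      rw [memH]
      -- `y^r` commutes with `g z g⁻¹`
      refine hcH (Subgroup.mem_centralizer_singleton_iff.2 ?_)
      have h3 : y ^ r * (g * z * g⁻¹) = (g * z * g⁻¹) * y ^ r := by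
        have h4 : g * z * g⁻¹ = z * y := by rw [hy, ← mul_assoc, hz2, one_mul]
        rw [h4, ← mul_assoc, hiz, mul_assoc, mul_assoc, (Commute.self_pow y r).eq]
      calc g⁻¹ * y ^ r * g * z = g⁻¹ * (y ^ r * (g * z * g⁻¹)) * g := by group
        _ = g⁻¹ * ((g * z * g⁻¹) * y ^ r) * g := by rw [h3]
        _ = z * (g⁻¹ * y ^ r * g) := by group
    classical
    haveI : Fintype G := Fintype.ofFinite G
    let C : Finset G := Finset.univ.filter fun u => IsConj z u
    let T : Finset G := C.filter fun u => u ∈ H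
    let Ta : Finset G := C.filter fun u => g0⁻¹ * u * g0 ∈ H
    let Ma : Finset G := C.filter fun u => u * g0 ∈ H
    have memC : ∀ u, u ∈ C ↔ IsConj z u := fun u => by simp [C]
    have cconj : ∀ g u : G, IsConj z u → IsConj z (g * u * g⁻¹) := fun g u hu =>
      hu.trans (isConj_iff.2 ⟨g, rfl⟩)
    have hTa : Ta.card = T.card := by
      refine Finset.card_nbij' (fun u => g0⁻¹ * u * g0) (fun u => g0 * u * g0⁻¹) ?_ ?_ ?_ ?_
      · intro u hu
        simp only [Ta, T, Finset.mem_coe, Finset.mem_filter, memC] at hu ⊢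
        exact ⟨by simpa using cconj g0⁻¹ u hu.1, hu.2⟩
      · intro u hu
        simp only [Ta, T, Finset.mem_coe, Finset.mem_filter, memC] at hu ⊢
        exact ⟨cconj g0 u hu.1, by simpa [mul_assoc] using hu.2⟩
      · intro u _; group
      · intro u _; group
    have hout : ∀ u, IsConj z u → g0⁻¹ * u * g0 ∈ H → u ∉ H := by
      intro u hu h1 h2
      obtain ⟨k, rfl⟩ := isConj_iff.1 hu
      have hk : k⁻¹ ∈ H := by
        refine (hpt k⁻¹).1 ?_
        rwa [inv_inv]
      have : k⁻¹ * g0 ∈ H := (hpt _).1 (by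
        rwa [mul_inv_rev, inv_inv, show g0⁻¹ * k * z * (k⁻¹ * g0) = g0⁻¹ * (k * z * k⁻¹) * g0 by group])
      exact hg0 (by simpa using H.mul_mem (H.inv_mem hk) this)
    have hMout : ∀ m, m * g0 ∈ H → m ∉ H := fun m h h2 =>
      hg0 (by simpa using H.mul_mem (H.inv_mem h2) h)
    have hMa : Ma.card = Ta.card := by
      refine Finset.card_bij (fun m _ => m * z * m) ?_ ?_ ?_
      · intro m hm
        simp only [Ma, Ta, Finset.mem_filter, memC] at hm ⊢
        have hmi : m⁻¹ = m := inv_eq_of_mul_eq_one_right (hsq m hm.1)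
        refine ⟨by simpa [hmi] using cconj m z (IsConj.refl z), ?_⟩
        have : g0⁻¹ * (m * z * m) * g0 = (m * g0)⁻¹ * z * (m * g0) := by
          rw [mul_inv_rev, hmi]; group
        rw [this]
        exact H.mul_mem (H.mul_mem (H.inv_mem hm.2) hzH) hm.2
      · intro m hm m' hm' he
        simp only [Ma, Finset.mem_filter, memC] at hm hm'
        have h1 : (z * m) ^ 2 = (z * m') ^ 2 := by
          rw [pow_two, pow_two]
          calc z * m * (z * m) = z * (m * z * m) := by group
            _ = z * (m' * z * m') := by rw [he]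
            _ = _ := by group
        obtain ⟨j, hj⟩ := hodd m hm.1 (hMout m hm.2)
        obtain ⟨j', hj'⟩ := hodd m' hm'.1 (hMout m' hm'.2)
        have e1 : orderOf (z * m) = orderOf ((z * m) ^ 2) :=
          (Nat.Coprime.orderOf_pow ?_).symm
        have e2 : orderOf (z * m') = orderOf ((z * m') ^ 2) :=
          (Nat.Coprime.orderOf_pow ?_).symm
        · have e : orderOf (z * m) = orderOf (z * m') := by rw [e1, e2, h1]
          have hjj : j = j' := by omega
          refine mul_left_cancel (a := z) ?_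
          have f : ∀ y : G, orderOf y = 2 * j + 1 → (y ^ 2) ^ (j + 1) = y := fun y hy => by
            rw [← pow_mul, show 2 * (j + 1) = orderOf y + 1 by omega, pow_succ, pow_orderOf_eq_one,
              one_mul]
          rw [← f (z * m) hj, ← f (z * m') (by omega), h1]
        · rw [hj']; simp
        · rw [hj]; simp
      · intro u hu
        simp only [Ta, Finset.mem_filter, memC] at hu
        obtain ⟨j, hj⟩ := hodd u hu.1 (hout u hu.1 hu.2)
        set y := z * u with hy
        have hinv : z * y * z = y⁻¹ := by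
          rw [hy, mul_inv_rev, hzi, inv_eq_of_mul_eq_one_right (hsq u hu.1), ← mul_assoc, hz2, one_mul]
        have hy1 : y ^ (2 * (j + 1)) = y := by
          rw [show 2 * (j + 1) = orderOf y + 1 by omega, pow_succ, pow_orderOf_eq_one, one_mul]
        set m := z * y ^ (j + 1) with hm
        have hmc : IsConj z m := by
          refine isConj_iff.2 ⟨(y ^ ((j + 1) * (j + 1)))⁻¹, ?_⟩
          rw [inv_inv, hconj y hinv, hm, ← mul_assoc 2, pow_mul, hy1]
        have hmz : m * z * m = u := by
          calc m * z * m = z * y ^ (j + 1) * (z * z) * y ^ (j + 1) := by rw [hm]; group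
            _ = z * (y ^ (j + 1) * y ^ (j + 1)) := by rw [hz2]; group
            _ = u := by rw [← pow_add, ← two_mul, hy1, hy, ← mul_assoc, hz2, one_mul]
        refine ⟨m, ?_, hmz⟩
        simp only [Ma, Finset.mem_filter, memC]
        refine ⟨hmc, (hpt (m * g0)).1 ?_⟩
        rw [mul_inv_rev, inv_eq_of_mul_eq_one_right (hsq m hmc)]
        have := hu.2
        rw [← hmz] at this
        simpa [mul_assoc] using this
    -- parity
    have par : ∀ (s : Finset G) (a : G), a * a = 1 → (∀ u ∈ s, a * u * a ∈ s) →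
        s.card % 2 = (s.filter fun u => a * u = u * a).card % 2 := by
      intro s a ha hs
      rw [← Finset.card_filter_add_card_filter_not (s := s) (fun u => a * u = u * a)]
      have h2 : 2 ∣ (s.filter fun u => ¬ (a * u = u * a)).card := by
        have := Finset.sum_involution (s := s.filter fun u => ¬ (a * u = u * a))
          (f := fun _ => (1 : ZMod 2)) (fun u _ => a * u * a) (fun _ _ => by decide)
          (fun u hu _ h => (Finset.mem_filter.1 hu).2 (by
            calc a * u = a * (a * u * a) := by rw [h]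
              _ = u * a := by rw [← mul_assoc, ← mul_assoc, ha, one_mul]))
          (fun u hu => by
            refine Finset.mem_filter.2 ⟨hs u (Finset.mem_filter.1 hu).1, fun h => ?_⟩
            refine (Finset.mem_filter.1 hu).2 ?_
            have h' : u * a = a * u := by
              calc u * a = a * (a * u * a) := by rw [← mul_assoc, ← mul_assoc, ha, one_mul]
                _ = (a * u * a) * a := h
                _ = a * u := by rw [mul_assoc, ha, mul_one]
            exact h'.symm)
          (fun u _ => by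
            calc a * (a * u * a) * a = (a * a) * u * (a * a) := by group
              _ = u := by rw [ha, one_mul, mul_one])
        rw [Finset.sum_const, nsmul_one] at this
        exact (ZMod.natCast_eq_zero_iff _ 2).1 this
      omega
    have hMne : Ma.card % 2 = 1 := by
      have hTne : T.Nonempty := ⟨z, Finset.mem_filter.2 ⟨(memC z).2 (IsConj.refl z), hzH⟩⟩
      obtain ⟨m0, hm0⟩ := Finset.card_pos.1 (by rw [hMa, hTa]; exact Finset.card_pos.2 hTne : 0 < Ma.card)
      have hm0' := hm0
      simp only [Ma, Finset.mem_filter, memC] at hm0'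
      have h02 := hsq m0 hm0'.1
      rw [par Ma m0 h02 ?_]
      · rw [Finset.card_eq_one.2 ⟨m0, ?_⟩]
        refine Finset.eq_singleton_iff_unique_mem.2 ⟨Finset.mem_filter.2 ⟨hm0, rfl⟩, fun m hm => ?_⟩
        simp only [Ma, Finset.mem_filter, memC] at hm
        by_contra hne
        obtain ⟨g, hg⟩ := isConj_iff.1 hm0'.1
        have hmi : m⁻¹ = m := inv_eq_of_mul_eq_one_right (hsq m hm.1.1)
        have h0i : m0⁻¹ = m0 := inv_eq_of_mul_eq_one_right h02
        have hv1 : m0 * m ∈ H := by
          have := H.mul_mem hm0'.2 (H.inv_mem hm.1.2)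
          rwa [mul_inv_rev, hmi, mul_assoc, mul_inv_cancel_left] at this
        have hv2 : g0⁻¹ * (m0 * m) * g0 ∈ H := by
          have := H.mul_mem (H.inv_mem hm0'.2) hm.1.2
          rwa [mul_inv_rev, h0i, show g0⁻¹ * m0 * (m * g0) = g0⁻¹ * (m0 * m) * g0 by group] at this
        have hzt : z * (g⁻¹ * m * g) = g⁻¹ * (m0 * m) * g := by rw [← hg]; group
        have htz : g⁻¹ * m * g * z = z * (g⁻¹ * m * g) := by
          rw [hzt, hm.2, ← hg]; group
        have hA' := hA (g⁻¹ * m * g) (by simpa using cconj g⁻¹ m hm.1.1)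
          (fun h => hne (by rw [← hg, ← h]; group)) htz
        have e1 : g⁻¹ ∈ H := (hA' g⁻¹).1 ((memH _ _).2 (by rw [hzt]; simpa [mul_assoc] using hv1))
        have e2 : g⁻¹ * g0 ∈ H := (hA' (g⁻¹ * g0)).1 ((memH _ _).2 (by
          rw [hzt]; simpa [mul_assoc] using hv2))
        exact hg0 (by simpa using H.mul_mem (H.inv_mem e1) e2)
      · intro m hm
        simp only [Ma, Finset.mem_filter, memC] at hm ⊢
        have h0i : m0⁻¹ = m0 := inv_eq_of_mul_eq_one_right h02
        have hmi : m⁻¹ = m := inv_eq_of_mul_eq_one_right (hsq m hm.1)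
        refine ⟨by simpa [h0i] using cconj m0 m hm.1, ?_⟩
        have := H.mul_mem (H.mul_mem hm0'.2 (H.inv_mem hm.2)) hm0'.2
        rw [mul_inv_rev, hmi] at this
        simpa [mul_assoc] using this
    have hCodd : C.card % 2 = 1 := by
      rw [par C z hz2 (fun u hu => (memC _).2 (by simpa [hzi] using cconj z u ((memC u).1 hu)))]
      rw [hMa, hTa] at hMne
      rw [par T z hz2 (fun u hu => by
        simp only [T, Finset.mem_filter, memC] at hu ⊢
        exact ⟨by simpa [hzi] using cconj z u hu.1, H.mul_mem (H.mul_mem hzH hu.2) hzH⟩)] at hMne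
      rw [← hMne]
      congr 2
      ext u
      simp only [T, Finset.mem_filter]
      refine ⟨fun h => ⟨⟨h.1, hcH ?_⟩, h.2⟩, fun h => ⟨h.1.1, h.2⟩⟩
      rw [Subgroup.mem_centralizer_singleton_iff]; exact h.2.symm
    have hidx : ¬ 2 ∣ (Subgroup.centralizer ({z} : Set G)).index := by
      have e : (Subgroup.centralizer ({z} : Set G)).index = C.card := by
        rw [← Nat.card_congr (Equiv.subtypeEquivRight (p := fun u => u ∈ C) (q := fun u => u ∈ C)
          fun _ => Iff.rfl) |>.trans (Nat.card_eq_finsetCard C)]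
        refine Eq.trans ?_ (Nat.card_congr (Equiv.setCongr
          (show MulAction.orbit (ConjAct G) z = {u | u ∈ C} from ?_)))
        · rw [Nat.card_coe_set_eq, ← MulAction.index_stabilizer, ConjAct.stabilizer_eq_centralizer]
          rfl
        · ext u
          rw [ConjAct.mem_orbit_conjAct, Set.mem_setOf_eq, memC]
          exact ⟨IsConj.symm, IsConj.symm⟩
      rw [e]; omega
    obtain ⟨R⟩ : Nonempty (Sylow 2 ↥(Subgroup.centralizer ({z} : Set G))) := inferInstance
    haveI : Fact (Nat.Prime 2) := ⟨Nat.prime_two⟩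
    set R' := (R : Subgroup ↥(Subgroup.centralizer ({z} : Set G))).map (Subgroup.centralizer ({z} : Set G)).subtype with hR'
    have hR'i : ¬ 2 ∣ R'.index := by
      rw [hR', Subgroup.index_map_subtype]
      exact fun h => (Nat.prime_two.dvd_mul.1 h).elim R.not_dvd_index hidx
    set P := (R.2.map _ : IsPGroup 2 R').toSylow hR'i
    have hPR : (P : Subgroup G) = R' := rfl
    have hcomm : ∀ x ∈ R', x * z = z * x := fun x hx => by
      obtain ⟨y, -, rfl⟩ := hx
      exact Subgroup.mem_centralizer_singleton_iff.1 y.2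
    have hzR : z ∈ R' := by
      have hzn : Subgroup.zpowers z ≤ Subgroup.normalizer (R' : Set G) := by
        rw [Subgroup.zpowers_le, Subgroup.mem_normalizer_iff]
        intro x
        constructor
        · intro hx; rwa [← hcomm x hx, mul_inv_cancel_right]
        · intro hx
          have h := hcomm _ hx
          rw [inv_mul_cancel_right] at h
          exact (mul_left_cancel h) ▸ hx
      have hsup : IsPGroup 2 ↥(R' ⊔ Subgroup.zpowers z) :=
        (R.2.map _).to_sup_of_normal_left' (IsPGroup.of_card (n := 1) (by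
          rw [Nat.card_zpowers, hz, pow_one])) hzn
      exact (P.3 hsup le_sup_left).le (Subgroup.mem_sup_right (Subgroup.mem_zpowers z))
    exact ⟨P, ⟨⟨z, hzR⟩, Subgroup.mem_center_iff.2 fun x => Subtype.ext (hcomm x x.2), rfl⟩⟩
  · rintro ⟨⟨P, hzP⟩, hcv⟩ t ht hne hcomm g
    obtain ⟨⟨z', hzP'⟩, hzc, rfl⟩ := hzP
    simp only [Subgroup.coe_subtype] at *
    have htH : t ∈ H := hcH (Subgroup.mem_centralizer_singleton_iff.2 hcomm)
    refine ⟨fun hv => ?_, fun hg => (memH g _).2
      (H.mul_mem (H.mul_mem (H.inv_mem hg) (H.mul_mem hzH htH)) hg)⟩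
    rw [memH] at hv
    haveI : Fact (Nat.Prime 2) := ⟨Nat.prime_two⟩
    have hPH : (P : Subgroup G) ≤ H := fun x hx => hcH (Subgroup.mem_centralizer_singleton_iff.2
      (congrArg Subtype.val (Subgroup.mem_center_iff.1 hzc ⟨x, hx⟩)))
    set v' := g⁻¹ * (z' * t) * g with hv'
    have hv2 : v' * v' = 1 := by
      have ht2 : t * t = 1 := by
        obtain ⟨k, rfl⟩ := isConj_iff.1 ht
        rw [show k * z' * k⁻¹ * (k * z' * k⁻¹) = k * (z' * z') * k⁻¹ by group, hz2]; group
      calc v' * v' = g⁻¹ * (z' * (t * z') * t) * g := by rw [hv']; group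
        _ = g⁻¹ * ((z' * z') * (t * t)) * g := by rw [hcomm]; group
        _ = 1 := by rw [hz2, ht2]; group
    -- a Sylow subgroup of `H` containing `v'` is conjugate to `P` inside `H`
    have hvp : IsPGroup 2 ↥(Subgroup.zpowers (⟨v', hv⟩ : H)) := by
      intro x
      obtain ⟨j, hj⟩ := x.2
      refine ⟨1, Subtype.ext ?_⟩
      rw [pow_one, SubmonoidClass.coe_pow, ← hj, ← zpow_natCast, ← zpow_mul, mul_comm, zpow_mul,
        zpow_natCast, pow_two]
      have : (⟨v', hv⟩ : H) * ⟨v', hv⟩ = 1 := Subtype.ext hv2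
      rw [this, one_zpow]; rfl
    obtain ⟨Q, hQ⟩ := hvp.exists_le_sylow
    obtain ⟨h, hh⟩ := MulAction.exists_smul_eq H (P.subtype hPH) Q
    have hvP : (h : G)⁻¹ * v' * h ∈ (P : Subgroup G) := by
      have := hQ (Subgroup.mem_zpowers _)
      rw [← hh, Sylow.coe_subgroup_smul, Subgroup.mem_pointwise_smul_iff_inv_smul_mem] at this
      simpa [Subgroup.mem_subgroupOf, mul_assoc] using this
    have hc := congrArg Subtype.val (Subgroup.mem_center_iff.1 hzc ⟨_, hvP⟩)
    simp only [Subgroup.coe_mul] at hc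
    set k := g * (h : G) with hk
    have hzv : k * z' * k⁻¹ ∈ Subgroup.centralizer ({z' * t} : Set G) := by
      rw [Subgroup.mem_centralizer_singleton_iff]
      have e : z' * t = k * ((h : G)⁻¹ * v' * h) * k⁻¹ := by rw [hk, hv']; group
      rw [e]
      calc k * z' * k⁻¹ * (k * ((h : G)⁻¹ * v' * h) * k⁻¹) = k * (z' * ((h : G)⁻¹ * v' * h)) * k⁻¹ := by group
        _ = k * (((h : G)⁻¹ * v' * h) * z') * k⁻¹ := by rw [hc]
        _ = _ := by group
    have h1 : k⁻¹ ∈ H := (hpt k⁻¹).1 (by rw [inv_inv]; exact hcv t ht hne hcomm hzv)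
    have h2 := H.mul_mem (H.inv_mem h1) (H.inv_mem h.2)
    rwa [inv_inv, hk, mul_inv_cancel_right] at h2
end Cfsg.Agent.S1922
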