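import Cfsg.Statements.S1935
import Cfsg.Agent.Lib.CFun.OffenderSubnormalQuad

set_option autoImplicit false
open Cfsg

namespace Cfsg.Agent.S1935

open scoped commutatorElement

theorem exists_rep {W H : Type*} [AddCommGroup W] [Group H] {p : ℕ} [Module (ZMod p) W] (c : H → W →+ W)
    (h1 : ∀ v, c 1 v = v) (hm : ∀ g h v, c (g * h) v = c g (c h v)) :
    ∃ ρ : H →* Module.End (ZMod p) W, ∀ g v, ρ g v = c g v :=
  ⟨{ toFun := fun g => (c g).toZModLinearMap p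
     map_one' := LinearMap.ext h1
     map_mul' := fun g h => LinearMap.ext (hm g h) }, fun _ _ => rfl⟩

/-- Let p ≥ 5 be a prime and, inside an ambient finite group, let G be a p-subgroup acting faithfully by conjugation on an elementary abelian p-subgroup V that it normalizes (only the identity of G centralizes V). Suppose V is an F-module for G: some nontrivial elementary abelian subgroup E of G satisfies #E · #C_V(E) ≥ #V. Then G contains such an offender A that moreover acts quadratically on V ([V, A, A] = 1) and is normal in its normal closure in G. -/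
theorem result {Ω : Type*} [Group Ω] [Finite Ω] (p : ℕ) [Fact p.Prime] (hp : 5 ≤ p) (V G : Subgroup Ω) (hV : Cfsg.IsElementaryAbelian p V) (hG : IsPGroup p ↥G) (hGV : G ≤ Subgroup.normalizer (V : Set Ω)) (hfaith : G ⊓ Subgroup.centralizer (V : Set Ω) = ⊥) (hF : ∃ E : Subgroup Ω, E ≤ G ∧ E ≠ ⊥ ∧ Cfsg.IsElementaryAbelian p E ∧ Nat.card ↥V ≤ Nat.card ↥E * Nat.card ↥(V ⊓ Subgroup.centralizer (E : Set Ω))) : ∃ A : Subgroup Ω, A ≤ G ∧ A ≠ ⊥ ∧ Cfsg.IsElementaryAbelian p A ∧ Nat.card ↥V ≤ Nat.card ↥A * Nat.card ↥(V ⊓ Subgroup.centralizer (A : Set Ω)) ∧ ⁅⁅V, A⁆, A⁆ = ⊥ ∧ ∀ g ∈ Subgroup.closure {x : Ω | ∃ h ∈ G, ∃ a ∈ A, x = h * a * h⁻¹}, ∀ a ∈ A, g * a * g⁻¹ ∈ A := by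
  classical
  haveI := hV.1
  letI : CommGroup ↥V := { mul_comm := fun a b => mul_comm' a b }
  have hp0 : ∀ m : Additive ↥V, p • m = 0 := fun m => by
    obtain ⟨a, rfl⟩ : ∃ a, Additive.ofMul a = m := ⟨Additive.toMul m, rfl⟩
    rw [← ofMul_pow, show a ^ p = 1 from Subtype.ext (hV.2 a a.2), ofMul_one]
  letI : Module (ZMod p) (Additive ↥V) := AddCommGroup.zmodModule (n := p) hp0
  have hmem : ∀ g : ↥G, ∀ v : ↥V, (g : Ω) * v * (g : Ω)⁻¹ ∈ V := fun g v =>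
    (Subgroup.mem_normalizer_iff.1 (hGV g.2) v).1 v.2
  let cj : ↥G → Additive ↥V →+ Additive ↥V := fun g => MonoidHom.toAdditive
    { toFun := fun v : ↥V => (⟨(g : Ω) * v * (g : Ω)⁻¹, hmem g v⟩ : ↥V)
      map_one' := Subtype.ext (by simp)
      map_mul' := fun v w => Subtype.ext (by
        show (g : Ω) * (v * w) * (g : Ω)⁻¹ = (g : Ω) * v * (g : Ω)⁻¹ * ((g : Ω) * w * (g : Ω)⁻¹)
        group) }
  have hcj : ∀ (g : ↥G) (v : Additive ↥V), ((cj g v).toMul : Ω) = (g : Ω) * (v.toMul : Ω) * (g : Ω)⁻¹ :=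
    fun g v => rfl
  have hext : ∀ v w : Additive ↥V, (v.toMul : Ω) = (w.toMul : Ω) → v = w := fun v w h =>
    Additive.toMul.injective (Subtype.ext h)
  obtain ⟨ρ, hρv'⟩ := exists_rep (p := p) cj
    (fun v => hext _ _ (by rw [hcj]; simp))
    (fun g h v => hext _ _ (by rw [hcj, hcj, hcj]; push_cast; group))
  have hρv : ∀ (g : ↥G) (v : Additive ↥V), ((ρ g v).toMul : Ω) = (g : Ω) * (v.toMul : Ω) * (g : Ω)⁻¹ :=
    fun g v => by rw [hρv' g v, hcj]
  have hfix1 : ∀ (g : ↥G) (v : Additive ↥V), ρ g v = v ↔ (g : Ω) * (v.toMul : Ω) = (v.toMul : Ω) * g := by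
    intro g v
    rw [← mul_inv_eq_iff_eq_mul, ← hρv g v]
    exact ⟨fun h => by rw [h], hext _ _⟩
  have hρ : Function.Injective ρ := by
    rw [injective_iff_map_eq_one]
    intro g hg
    refine Subtype.ext ((Subgroup.eq_bot_iff_forall _).1 hfaith g ⟨g.2, Subgroup.mem_centralizer_iff.2 fun v hv => ?_⟩)
    exact ((hfix1 g (Additive.ofMul ⟨v, hv⟩)).1 (by rw [hg]; rfl)).symm
  have hcard : ∀ B : Subgroup ↥G, Nat.card (CfsgLib.CFun.TwoSub.fixd ρ B) =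
      Nat.card ↥(V ⊓ Subgroup.centralizer ((B.map G.subtype : Subgroup Ω) : Set Ω)) := fun B =>
    Nat.card_congr
      { toFun := fun v => ⟨(v.1.toMul : Ω), (v.1.toMul).2, Subgroup.mem_centralizer_iff.2 (by
          rintro _ ⟨b, hb, rfl⟩
          exact (hfix1 b v.1).1 (v.2 b hb))⟩
        invFun := fun x => ⟨Additive.ofMul ⟨x.1, x.2.1⟩, fun b hb => (hfix1 b _).2
          (Subgroup.mem_centralizer_iff.1 x.2.2 b (Subgroup.mem_map_of_mem _ hb))⟩
        left_inv := fun v => rfl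
        right_inv := fun x => rfl }
  have hoff : ∀ B : Subgroup ↥G, CfsgLib.CFun.TwoSub.Off ρ B ↔ Nat.card ↥V ≤ Nat.card ↥(B.map G.subtype) *
      Nat.card ↥(V ⊓ Subgroup.centralizer ((B.map G.subtype : Subgroup Ω) : Set Ω)) := fun B => by
    rw [CfsgLib.CFun.TwoSub.Off, hcard, Subgroup.card_map_of_injective G.subtype_injective,
      Nat.card_congr Additive.toMul]
  obtain ⟨E, hEG, hE0, hEel, hEoff⟩ := hF
  have hEmap : (E.subgroupOf G).map G.subtype = E := Subgroup.map_subgroupOf_eq_of_le hEG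
  obtain ⟨A, hA0, hAq, hAo, hAn⟩ := CfsgLib.CFun.TwoSub.exists_two_subnormal ρ (by omega) hρ hG
    (E := E.subgroupOf G) (fun h => hE0 (by rw [← hEmap, h, Subgroup.map_bot]))
    (fun a ha b hb => by
      haveI := hEel.1
      exact Subtype.ext (congrArg (fun z : ↥E => (z : Ω)) (mul_comm' (⟨a.1, ha⟩ : ↥E) ⟨b.1, hb⟩)))
    ((hoff _).2 (by rw [hEmap]; exact hEoff))
  refine ⟨A.map G.subtype, Subgroup.map_subtype_le A, ?_, ?_, (hoff A).1 hAo, ?_, ?_⟩
  · exact fun h => hA0 ((Subgroup.map_eq_bot_iff_of_injective A G.subtype_injective).1 h)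
  · have hexpand : ∀ a ∈ A, ∀ b ∈ A, ρ (a * b) = 1 + ((ρ a - 1) + (ρ b - 1)) := by
      intro a ha b hb
      rw [map_mul, ← sub_eq_iff_eq_add',
        show ρ a * ρ b - 1 = (ρ a - 1) * (ρ b - 1) + ((ρ a - 1) + (ρ b - 1)) by noncomm_ring, hAq a ha b hb, zero_add]
    refine ⟨⟨⟨fun x y => Subtype.ext ?_⟩⟩, ?_⟩
    · obtain ⟨a, ha, hax⟩ := x.2
      obtain ⟨b, hb, hby⟩ := y.2
      have h : a * b = b * a := hρ (by rw [hexpand a ha b hb, hexpand b hb a ha]; abel)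
      show (x : Ω) * y = y * x
      rw [← hax, ← hby]
      exact congrArg Subtype.val h
    · rintro _ ⟨a, ha, rfl⟩
      have h : a ^ p = 1 := hρ (by
        rw [CfsgLib.CFun.TwoSub.rho_pow ρ hAq ha, map_one, ← Nat.cast_smul_eq_nsmul (ZMod p), ZMod.natCast_self,
          zero_smul, add_zero])
      exact congrArg Subtype.val h
  · rw [Subgroup.commutator_eq_bot_iff_le_centralizer, Subgroup.commutator_le]
    rintro v hv _ ⟨a, ha, rfl⟩
    refine Subgroup.mem_centralizer_iff.2 ?_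
    rintro _ ⟨b, hb, rfl⟩
    set w : Additive ↥V := Additive.ofMul ⟨v, hv⟩ with hw
    have h0 : ρ b (ρ a (-w) - -w) = ρ a (-w) - -w :=
      sub_eq_zero.1 (LinearMap.congr_fun (hAq b hb a ha) (-w))
    have h1 := (hfix1 b _).1 h0
    have hval : ((ρ a (-w) - -w).toMul : Ω) = (a : Ω) * v⁻¹ * (a : Ω)⁻¹ * v := by
      rw [toMul_sub, div_eq_mul_inv, Subgroup.coe_mul, Subgroup.coe_inv, hρv, toMul_neg, Subgroup.coe_inv,
        inv_inv]
      rfl
    rw [hval] at h1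
    have hc : (a : Ω) * v⁻¹ * (a : Ω)⁻¹ * v = v * ((a : Ω) * v⁻¹ * (a : Ω)⁻¹) := by
      have h2 : (a : Ω) * v⁻¹ * (a : Ω)⁻¹ ∈ V := hmem a ⟨v⁻¹, V.inv_mem hv⟩
      exact congrArg Subtype.val (mul_comm' (⟨_, h2⟩ : ↥V) ⟨v, hv⟩)
    rw [hc] at h1
    show (b : Ω) * ⁅v, (a : Ω)⁆ = ⁅v, (a : Ω)⁆ * b
    rw [commutatorElement_def, show v * (a : Ω) * v⁻¹ * (a : Ω)⁻¹ = v * ((a : Ω) * v⁻¹ * (a : Ω)⁻¹) by group]
    exact h1
  · have hcl : Subgroup.closure {x : Ω | ∃ h ∈ G, ∃ a ∈ A.map G.subtype, x = h * a * h⁻¹} ≤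
        (Subgroup.normalizer (A : Set ↥G)).map G.subtype := by
      rw [Subgroup.closure_le]
      rintro _ ⟨h, hh, _, ⟨a, ha, rfl⟩, rfl⟩
      exact ⟨⟨h, hh⟩ * a * ⟨h, hh⟩⁻¹, hAn ⟨h, hh⟩ a ha, rfl⟩
    intro g hg
    rintro _ ⟨a, ha, rfl⟩
    obtain ⟨c, hc, rfl⟩ := hcl hg
    exact ⟨c * a * c⁻¹, (Subgroup.mem_normalizer_iff.1 hc a).1 ha, rfl⟩

end Cfsg.Agent.S1935
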