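import Cfsg.Statements.S1939
import Cfsg.Agent.Lib.Coprime.Action

set_option autoImplicit false
open Cfsg

namespace Cfsg.Agent.S1939

/-- Let S be a Sylow p-subgroup of the finite group G and a an element of S that is the only G-conjugate of a lying in S. Then every power of a has the same property: for every n, the only G-conjugate of a^n lying in S is a^n. -/
theorem result {G : Type*} [Group G] [Finite G] {p : ℕ} [Fact p.Prime] (S : Sylow p G) (a : G)
    (haS : a ∈ (S : Subgroup G)) (hwc : ∀ g : G, g * a * g⁻¹ ∈ (S : Subgroup G) → g * a * g⁻¹ = a) (n : ℕ) :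
    ∀ g : G, g * a ^ n * g⁻¹ ∈ (S : Subgroup G) → g * a ^ n * g⁻¹ = a ^ n := by
  intro g hg
  set y := g * a ^ n * g⁻¹
  have hu : ∀ U : Subgroup G, IsPGroup p U → a ∈ U → ∀ h : G, h * a * h⁻¹ ∈ U → h * a * h⁻¹ = a := by
    intro U hU haU h hh
    obtain ⟨T, hT⟩ := hU.exists_le_sylow
    obtain ⟨c, hc⟩ := MulAction.exists_smul_eq G T S
    have hm : ∀ x ∈ U, c * x * c⁻¹ ∈ (S : Subgroup G) := fun x hx => by
      rw [← hc, Sylow.coe_subgroup_smul]
      exact ⟨x, hT hx, rfl⟩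
    have e1 := hwc c (hm a haU)
    have e2 := hwc (c * h) (by simpa [mul_assoc] using hm _ hh)
    have e3 : c * (h * a * h⁻¹) * c⁻¹ = c * a * c⁻¹ := by
      rw [e1]; simpa [mul_assoc] using e2
    simpa using e3
  have hcomm : ∀ s ∈ (S : Subgroup G), s * a * s⁻¹ = a := fun s hs =>
    hu S S.2 haS s (mul_mem (mul_mem hs haS) (inv_mem hs))
  have hay : a ∈ Subgroup.centralizer ({y} : Set G) := by
    rw [Subgroup.mem_centralizer_singleton_iff]
    have h1 : y * a = a * y := mul_inv_eq_iff_eq_mul.1 (hcomm y hg)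
    exact h1.symm
  have hgy : g * a * g⁻¹ ∈ Subgroup.centralizer ({y} : Set G) := by
    rw [Subgroup.mem_centralizer_singleton_iff]
    show g * a * g⁻¹ * (g * a ^ n * g⁻¹) = g * a ^ n * g⁻¹ * (g * a * g⁻¹)
    rw [show g * a * g⁻¹ * (g * a ^ n * g⁻¹) = g * (a * a ^ n) * g⁻¹ by group,
      show g * a ^ n * g⁻¹ * (g * a * g⁻¹) = g * (a ^ n * a) * g⁻¹ by group, (Commute.pow_self a n).eq]
  set C := Subgroup.centralizer ({y} : Set G)
  have hpz : ∀ z : G, z ∈ C → (∃ k : ℕ, z ^ p ^ k = 1) → ∃ T : Sylow p C, ∃ hz : z ∈ C, (⟨z, hz⟩ : C) ∈ (T : Subgroup C) := by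
    intro z hz ⟨k, hk⟩
    obtain ⟨T, hT⟩ := (IsPGroup.of_card (p := p) (n := (orderOf (⟨z, hz⟩ : C)).factorization p)
      (G := Subgroup.zpowers (⟨z, hz⟩ : C)) (by
        rw [Nat.card_zpowers]
        obtain ⟨j, -, hj⟩ := (Nat.dvd_prime_pow Fact.out).1
          (orderOf_dvd_of_pow_eq_one (show (⟨z, hz⟩ : C) ^ p ^ k = 1 from Subtype.ext hk))
        rw [hj, (Fact.out : p.Prime).factorization_pow, Finsupp.single_eq_same])).exists_le_sylow
    exact ⟨T, hz, hT (Subgroup.mem_zpowers _)⟩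
  obtain ⟨k, hk⟩ := S.2 ⟨a, haS⟩
  have hk' : a ^ p ^ k = 1 := congrArg Subtype.val hk
  obtain ⟨T, h1, hT⟩ := hpz a hay ⟨k, hk'⟩
  obtain ⟨T', h2, hT'⟩ := hpz _ hgy ⟨k, by rw [conj_pow, hk', mul_one, mul_inv_cancel]⟩
  obtain ⟨c, hc⟩ := MulAction.exists_smul_eq C T' T
  have hmem : (c : G) * (g * a * g⁻¹) * (c : G)⁻¹ ∈ (T : Subgroup C).map C.subtype := by
    refine ⟨c * ⟨_, h2⟩ * c⁻¹, ?_, rfl⟩
    rw [← hc, Sylow.coe_subgroup_smul]
    exact ⟨_, hT', rfl⟩
  have e := hu _ (T.2.map C.subtype) ⟨_, hT, rfl⟩ ((c : G) * g) (by simpa [mul_assoc] using hmem)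
  have e2 : (c : G) * y * (c : G)⁻¹ = a ^ n := by
    calc (c : G) * y * (c : G)⁻¹ = ((c : G) * g) * a ^ n * ((c : G) * g)⁻¹ := by
          show (c : G) * (g * a ^ n * g⁻¹) * (c : G)⁻¹ = _
          group
      _ = a ^ n := by rw [← conj_pow, e]
  rw [← e2, Subgroup.mem_centralizer_singleton_iff.1 c.2, mul_inv_cancel_right]

end Cfsg.Agent.S1939
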