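import Cfsg.Statements.S1940
import Mathlib.GroupTheory.Sylow
import Mathlib.GroupTheory.GroupAction.Quotient

set_option autoImplicit false
open Cfsg

namespace Cfsg.Agent.S1940

/-- Let the finite group L act by automorphisms on the finite abelian group M, and let N be an L-invariant subgroup of M such that M/N is a p-group on which L acts trivially (every l • m lies in the coset mN). If every element of M is a product of an element of N and an element fixed by a Sylow p-subgroup T of L, then every element of M is a product of an element of N and an element fixed by all of L. -/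
theorem result {L : Type*} [Group L] [Finite L] {M : Type*} [CommGroup M] [Finite M] [MulDistribMulAction L M]
    {p : ℕ} [Fact p.Prime] (N : Subgroup M) (hN : ∀ (l : L) (m : M), m ∈ N → l • m ∈ N)
    (hquot : IsPGroup p (M ⧸ N)) (htriv : ∀ (l : L) (m : M), (l • m) * m⁻¹ ∈ N) (T : Sylow p L)
    (hT : ∀ m : M, ∃ n ∈ N, ∃ c : M, (∀ t ∈ (T : Subgroup L), t • c = c) ∧ m = n * c) :
    ∀ m : M, ∃ n ∈ N, ∃ c : M, (∀ l : L, l • c = c) ∧ m = n * c := by
  classical
  intro m
  obtain ⟨n, hn, c, hc, hm⟩ := hT m
  set H := (T : Subgroup L)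
  haveI : Fintype (L ⧸ H) := Fintype.ofFinite _
  let F : L ⧸ H → M := fun q => Quotient.liftOn' q (fun l => l • c) fun a b hab => by
    have h : a⁻¹ * b ∈ H := QuotientGroup.leftRel_apply.1 hab
    show a • c = b • c
    conv_lhs => rw [← hc _ h, ← mul_smul, mul_inv_cancel_left]
  let u : M := ∏ q : L ⧸ H, F q
  have hu : ∀ l : L, l • u = u := by
    intro l
    show l • (∏ q, F q) = _
    rw [show l • (∏ q, F q) = ∏ q, l • F q from map_prod (MulDistribMulAction.toMonoidHom M l) _ _]
    refine Fintype.prod_equiv (MulAction.toPerm l) _ _ fun q => ?_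
    induction q using Quotient.inductionOn' with
    | h a => show l • a • c = (l * a) • c; rw [mul_smul]
  have hmk : ∀ q, (F q : M ⧸ N) = (m : M ⧸ N) := by
    intro q
    induction q using Quotient.inductionOn' with
    | h a =>
      show ((a • c : M) : M ⧸ N) = _
      rw [QuotientGroup.eq, hm]
      rw [show (a • c)⁻¹ * (n * c) = ((a • c) * c⁻¹)⁻¹ * n by
        rw [mul_inv_rev, inv_inv, mul_comm n c, mul_comm c (a • c)⁻¹, mul_assoc]]
      exact mul_mem (inv_mem (htriv a c)) hn
  have huq : (u : M ⧸ N) = (m : M ⧸ N) ^ H.index := by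
    show (QuotientGroup.mk' N) (∏ q, F q) = _
    rw [map_prod]
    simp only [QuotientGroup.mk'_apply]
    rw [Finset.prod_congr rfl (fun q _ => hmk q), Finset.prod_const, Finset.card_univ,
      Subgroup.index, Nat.card_eq_fintype_card]
  obtain ⟨k, hk⟩ := hquot (m : M ⧸ N)
  have hco : H.index.Coprime (p ^ k) :=
    (((Fact.out : p.Prime).coprime_iff_not_dvd.2 T.not_dvd_index).pow_left k).symm
  obtain ⟨e, he⟩ := exists_pow_eq_self_of_coprime (x := (m : M ⧸ N)) (n := H.index)
    (hco.coprime_dvd_right (orderOf_dvd_of_pow_eq_one hk))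
  refine ⟨m * (u ^ e)⁻¹, ?_, u ^ e, fun l => by rw [smul_pow', hu], by rw [inv_mul_cancel_right]⟩
  rw [← QuotientGroup.eq_one_iff, QuotientGroup.mk_mul, QuotientGroup.mk_inv, QuotientGroup.mk_pow,
    huq, he, mul_inv_cancel]

end Cfsg.Agent.S1940
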