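import Cfsg.Statements.S1941
import Cfsg.Agent.Lib.Coprime.Component
import Cfsg.Agent.Lib.Coprime.Solvable
import Cfsg.Agent.Lib.Coprime.Fitting
import Cfsg.Agent.Lib.Coprime.Core
import Mathlib.Tactic.Group

set_option autoImplicit false
open Cfsg

namespace Cfsg.Agent.S1941

open Subgroup CfsgLib.Coprime
open scoped IsMulCommutative

variable {G : Type*} [Group G] [Finite G] {p : ℕ} [Fact p.Prime]

theorem inner_of_centralizing (hO : Cfsg.pPrimeCore p G = ⊥) (T : Sylow p G) (α : MulAut G)
    (hT : ∀ x ∈ (T : Subgroup G), α x = x) (hE : ∀ x ∈ Cfsg.layer G, α x = x) :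
    ∃ g : G, ∀ x : G, α x = g * x * g⁻¹ := by
  classical
  set F := Cfsg.generalizedFittingSubgroup G with hF
  haveI : (Cfsg.layer G).Normal := layer_normal
  haveI : (Cfsg.fittingSubgroup G).Normal := fitting_normal
  haveI : F.Normal := by rw [hF, Cfsg.generalizedFittingSubgroup]; infer_instance
  have hfix : ∀ x ∈ F, α x = x := by
    intro x hx
    have : F ≤ (α : G →* G).eqLocus (MonoidHom.id G) := by
      rw [hF, Cfsg.generalizedFittingSubgroup, fitting_eq_pCore_of_pPrimeCore_eq_bot hO]
      exact sup_le (fun y hy => hE y hy) (fun y hy => hT y (pCore_le_sylow T hy))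
    exact this hx
  set Z := centralizer (F : Set G) with hZ
  haveI : Z.Normal := inferInstance
  have hZF : Z ≤ F := centralizer_generalizedFitting_le
  haveI hZc : IsMulCommutative Z := ⟨⟨fun a b => Subtype.ext (mem_centralizer_iff.1 b.2 a (hZF a.2))⟩⟩
  have hZp : IsPGroup p Z := by
    haveI : Group.IsNilpotent Z := inferInstance
    refine (pCore_isPGroup p).to_le ?_
    rw [← fitting_eq_pCore_of_pPrimeCore_eq_bot hO]
    exact le_fitting inferInstance
  have hmem : ∀ x : G, α x * x⁻¹ ∈ Z := by
    intro x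
    refine mem_centralizer_iff.2 fun f hf => ?_
    have hf1 : x⁻¹ * f * x ∈ F := by
      simpa using (inferInstance : F.Normal).conj_mem f hf x⁻¹
    have h1 : (α x)⁻¹ * f * α x = x⁻¹ * f * x := by
      rw [← hfix _ hf1, map_mul, map_mul, map_inv, hfix f hf]
    calc f * (α x * x⁻¹) = α x * ((α x)⁻¹ * f * α x) * x⁻¹ := by group
      _ = α x * x⁻¹ * f := by rw [h1]; group
  let ε : G ⧸ (T : Subgroup G) → Z := fun q => Quotient.liftOn' q (fun x => (⟨α x * x⁻¹, hmem x⟩ : Z))
    fun a b hab => by
      rw [QuotientGroup.leftRel_apply] at hab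
      refine Subtype.ext ?_
      show α a * a⁻¹ = α b * b⁻¹
      rw [show b = a * (a⁻¹ * b) by group, map_mul, hT _ hab]
      group
  let c : G → Z →* Z := fun y =>
    { toFun := fun z => ⟨y * z * y⁻¹, (inferInstance : Z.Normal).conj_mem _ z.2 y⟩
      map_one' := Subtype.ext (by simp)
      map_mul' := fun a b => Subtype.ext (by push_cast; group) }
  haveI := Fintype.ofFinite (G ⧸ (T : Subgroup G))
  set P : Z := ∏ q, ε q with hP
  have hkey : ∀ y : G, P = (⟨α y * y⁻¹, hmem y⟩ : Z) ^ (T : Subgroup G).index * c y P := by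
    intro y
    have h1 : ∀ q : G ⧸ (T : Subgroup G), ε (y • q) = (⟨α y * y⁻¹, hmem y⟩ : Z) * c y (ε q) := by
      intro q
      induction q using Quotient.inductionOn' with
      | h x =>
        refine Subtype.ext ?_
        show α (y * x) * (y * x)⁻¹ = α y * y⁻¹ * (y * (α x * x⁻¹) * y⁻¹)
        rw [map_mul]
        group
    calc P = ∏ q, ε (y • q) := (Equiv.prod_comp (MulAction.toPerm y) ε).symm
      _ = _ := by
        simp only [h1, Finset.prod_mul_distrib, Finset.prod_const, Finset.card_univ, map_prod, hP]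
        rw [Subgroup.index_eq_card, Nat.card_eq_fintype_card]
  have hcop : (Nat.card Z).Coprime (T : Subgroup G).index := by
    obtain ⟨k, hk⟩ := IsPGroup.iff_card.1 hZp
    rw [hk]
    exact Nat.Coprime.pow_left k ((Fact.out : p.Prime).coprime_iff_not_dvd.2 T.not_dvd_index)
  set Q : Z := (powCoprime hcop).symm P with hQ
  have hQn : Q ^ (T : Subgroup G).index = P := (powCoprime hcop).apply_symm_apply P
  refine ⟨(Q : G), fun y => ?_⟩
  have h2 : Q = (⟨α y * y⁻¹, hmem y⟩ : Z) * c y Q := by
    refine (powCoprime hcop).injective ?_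
    show Q ^ (T : Subgroup G).index = _ ^ (T : Subgroup G).index
    rw [mul_pow, ← map_pow (c y), hQn]
    exact hkey y
  have h3 : (Q : G) = α y * y⁻¹ * (y * Q * y⁻¹) := congrArg Subtype.val h2
  calc α y = (α y * y⁻¹ * (y * Q * y⁻¹)) * y * (Q : G)⁻¹ := by group
    _ = (Q : G) * y * (Q : G)⁻¹ := by rw [← h3]


/-- Let G be a finite group with no nontrivial normal subgroup of order prime to p, T a Sylow p-subgroup of G and E(G) the layer of G (the subgroup generated by its components). An automorphism of G of p-power order that fixes T and E(G) elementwise is inner. -/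
theorem result {G : Type*} [Group G] [Finite G] {p : ℕ} [Fact p.Prime] (hcore : Cfsg.pPrimeCore p G = ⊥)
    (T : Sylow p G) (α : MulAut G) (hα : ∃ j : ℕ, orderOf α = p ^ j) (hfixT : ∀ x ∈ (T : Subgroup G), α x = x)
    (hfixE : ∀ x ∈ Cfsg.layer G, α x = x) : ∃ g : G, ∀ x : G, α x = g * x * g⁻¹ := by
  exact inner_of_centralizing hcore T α hfixT hfixE

end Cfsg.Agent.S1941
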