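import Cfsg.Statements.S1944
import Cfsg.Agent.Lib.Coprime.Solvable
import Cfsg.Agent.Lib.Coprime.Core
import Cfsg.Agent.Lib.Coprime.Hall
import Cfsg.Agent.Lib.Coprime.Action
import Mathlib.Tactic.Group

set_option autoImplicit false
open Cfsg

namespace Cfsg.Agent.S1944

open Subgroup CfsgLib.Coprime
open scoped IsMulCommutative

variable {G : Type*} [Group G] [Finite G] {p : ℕ} [Fact p.Prime]

theorem center_splits (S : Sylow p G)
    (hZ : ((S : Subgroup G) ⊓ centralizer ((S : Subgroup G) : Set G)) ≤ Cfsg.pPrimePCore p G) :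
    ∃ W K : Subgroup G,
      (∀ x : G, x ∈ W ↔ (x ∈ (S : Subgroup G) ∧
        ∀ g : G, g * x * g⁻¹ ∈ (S : Subgroup G) → g * x * g⁻¹ = x)) ∧
      K ≤ ((S : Subgroup G) ⊓ centralizer ((S : Subgroup G) : Set G)) ∧ W ⊓ K = ⊥ ∧
      W ⊔ K = ((S : Subgroup G) ⊓ centralizer ((S : Subgroup G) : Set G)) := by
  classical
  set Z := (S : Subgroup G) ⊓ centralizer ((S : Subgroup G) : Set G) with hZdef
  set O := Cfsg.pPrimeCore p G with hO
  haveI : O.Normal := pPrimeCore_normal p G
  set π := QuotientGroup.mk' O with hπ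
  have hπs : Function.Surjective π := QuotientGroup.mk'_surjective O
  set Sb : Sylow p (G ⧸ O) := S.mapSurjective hπs with hSb
  have hSbc : (Sb : Subgroup (G ⧸ O)) = (S : Subgroup G).map π := Sylow.coe_mapSurjective hπs S
  have hSO : (S : Subgroup G) ⊓ O = ⊥ := by
    refine disjoint_of_coprime_card ?_
    obtain ⟨k, hk⟩ := IsPGroup.iff_card.1 S.2
    rw [hk]
    exact Nat.Coprime.pow_left k (pPrimeCore_coprime (Fact.out : p.Prime)).symm
  have hinj : ∀ x ∈ (S : Subgroup G), ∀ y ∈ (S : Subgroup G), π x = π y → x = y := by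
    intro x hx y hy h
    have h1 : x⁻¹ * y ∈ (S : Subgroup G) ⊓ O :=
      ⟨mul_mem ((S : Subgroup G).inv_mem hx) hy, QuotientGroup.eq.1 h⟩
    rw [hSO, mem_bot, inv_mul_eq_one] at h1
    exact h1
  set W := (S : Subgroup G) ⊓ (center (G ⧸ O)).comap π with hW
  have hWmem : ∀ x : G, x ∈ W ↔ (x ∈ (S : Subgroup G) ∧
      ∀ g : G, g * x * g⁻¹ ∈ (S : Subgroup G) → g * x * g⁻¹ = x) := by
    intro x
    constructor
    · rintro ⟨hx, hc⟩
      refine ⟨hx, fun g hg => hinj _ hg _ hx ?_⟩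
      rw [map_mul, map_mul, map_inv, mem_center_iff.1 hc (π g), mul_inv_cancel_right]
    · rintro ⟨hx, hw⟩
      have hxZ : x ∈ Z := by
        refine ⟨hx, mem_centralizer_iff.2 fun s hs => ?_⟩
        exact mul_inv_eq_iff_eq_mul.1
          (hw s (mul_mem (mul_mem hs hx) ((S : Subgroup G).inv_mem hs)))
      refine ⟨hx, mem_center_iff.2 fun y => ?_⟩
      obtain ⟨g, rfl⟩ := hπs y
      set y := g * x * g⁻¹ with hy
      have hyX : y ∈ (S : Subgroup G) ⊔ O := by
        have h1 : π y ∈ Cfsg.pCore p (G ⧸ O) := by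
          haveI := pCore_normal' (G := G ⧸ O) p
          rw [hy, map_mul, map_mul, map_inv]
          exact Subgroup.Normal.conj_mem inferInstance _ (show π x ∈ _ from hZ hxZ) _
        have h2 := pCore_le_sylow Sb h1
        rw [hSbc, ← mem_comap, comap_map_eq, hπ, QuotientGroup.ker_mk'] at h2
        exact h2
      set X := (S : Subgroup G) ⊔ O with hX
      have hyp : IsPGroup p (zpowers (⟨y, hyX⟩ : X)) := by
        obtain ⟨k, hk⟩ := S.2 ⟨x, hx⟩
        have hk' : x ^ p ^ k = 1 := by simpa using congrArg Subtype.val hk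
        rintro ⟨_, i, rfl⟩
        refine ⟨k, Subtype.ext ?_⟩
        show (((⟨y, hyX⟩ : X) ^ i) ^ p ^ k) = 1
        rw [← zpow_natCast, ← zpow_mul, mul_comm, zpow_mul, zpow_natCast,
          show (⟨y, hyX⟩ : X) ^ p ^ k = 1 from Subtype.ext (by
            show (g * x * g⁻¹) ^ p ^ k = 1
            rw [conj_pow, hk']; simp), one_zpow]
      obtain ⟨R, hR⟩ := hyp.exists_le_sylow
      obtain ⟨a, ha⟩ := MulAction.exists_smul_eq X (S.subtype (le_sup_left : (S : Subgroup G) ≤ X)) R
      have h3 : (a : G)⁻¹ * y * a ∈ (S : Subgroup G) := by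
        have h4 := hR (mem_zpowers _)
        rw [← ha, Sylow.coe_subgroup_smul, Subgroup.mem_pointwise_smul_iff_inv_smul_mem] at h4
        simpa [MulAut.smul_def, MulAut.conj_inv_apply, mem_subgroupOf] using h4
      have haX : (a : G) ∈ O ⊔ (S : Subgroup G) := by rw [sup_comm]; exact a.2
      obtain ⟨n, hn, k, hk, he⟩ := mem_sup_exists (N := O) (H := (S : Subgroup G))
        (by rw [normalizer_eq_top (H := O)]; exact le_top) haX
      have h5 : (n⁻¹ * g) * x * (n⁻¹ * g)⁻¹ ∈ (S : Subgroup G) := by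
        have h6 := mul_mem (mul_mem hk h3) ((S : Subgroup G).inv_mem hk)
        rw [← he, hy] at h6
        convert h6 using 1
        group
      have h7 := congrArg π (hw _ h5)
      have h8 : π n = 1 := (QuotientGroup.eq_one_iff n).2 hn
      simp only [map_mul, map_inv, mul_inv_rev, inv_inv, h8, inv_one, one_mul, mul_one] at h7
      exact mul_inv_eq_iff_eq_mul.1 h7
  have hWZ : W ≤ Z := fun x hx => ⟨hx.1, mem_centralizer_iff.2 fun s hs =>
    mul_inv_eq_iff_eq_mul.1 (((hWmem x).1 hx).2 s (mul_mem (mul_mem hs hx.1) ((S : Subgroup G).inv_mem hs)))⟩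
  -- the norm
  set C := Cfsg.pCore p (G ⧸ O) with hC
  haveI : C.Normal := pCore_normal' p
  set A := C ⊓ centralizer (C : Set (G ⧸ O)) with hA
  haveI : A.Normal := inferInstance
  haveI : IsMulCommutative A := ⟨⟨fun a b => Subtype.ext (mem_centralizer_iff.1 b.2.2 a a.2.1)⟩⟩
  have hπZ : ∀ z ∈ Z, π z ∈ A ∧ ∀ s ∈ (Sb : Subgroup (G ⧸ O)), s * π z = π z * s := by
    intro z hz
    have hc : ∀ s ∈ (Sb : Subgroup (G ⧸ O)), s * π z = π z * s := by
      intro s hs
      rw [hSbc] at hs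
      obtain ⟨t, ht, rfl⟩ := hs
      rw [← map_mul, ← map_mul, mem_centralizer_iff.1 hz.2 t ht]
    exact ⟨⟨hZ hz, mem_centralizer_iff.2 fun c hc' => hc c (pCore_le_sylow Sb hc')⟩, hc⟩
  let c : Z → (G ⧸ O) ⧸ (Sb : Subgroup (G ⧸ O)) → A := fun z q => Quotient.liftOn' q
    (fun b => (⟨b * π z * b⁻¹, Subgroup.Normal.conj_mem inferInstance _ (hπZ z z.2).1 b⟩ : A))
    fun a b hab => by
      rw [QuotientGroup.leftRel_apply] at hab
      refine Subtype.ext ?_
      show a * π z * a⁻¹ = b * π z * b⁻¹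
      have h := (hπZ z z.2).2 _ hab
      calc a * π z * a⁻¹ = a * ((a⁻¹ * b) * π z * (a⁻¹ * b)⁻¹) * a⁻¹ := by
            rw [h, mul_inv_cancel_right]
        _ = b * π z * b⁻¹ := by group
  haveI := Fintype.ofFinite ((G ⧸ O) ⧸ (Sb : Subgroup (G ⧸ O)))
  let N : Z →* A :=
    { toFun := fun z => ∏ q, c z q
      map_one' := Finset.prod_eq_one fun q _ => by
        induction q using Quotient.inductionOn' with
        | h b => exact Subtype.ext (by show b * π ((1 : Z) : G) * b⁻¹ = 1; simp)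
      map_mul' := fun z w => by
        rw [← Finset.prod_mul_distrib]
        refine Finset.prod_congr rfl fun q _ => ?_
        induction q using Quotient.inductionOn' with
        | h b =>
          refine Subtype.ext ?_
          show b * π ((z : G) * w) * b⁻¹ = b * π z * b⁻¹ * (b * π w * b⁻¹)
          rw [map_mul]
          group }
  have hNc : ∀ z : Z, ((N z : A) : G ⧸ O) ∈ center (G ⧸ O) := by
    intro z
    refine mem_center_iff.2 fun y => ?_
    let cy : A →* A :=
      { toFun := fun a => ⟨y * a * y⁻¹, Subgroup.Normal.conj_mem inferInstance _ a.2 y⟩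
        map_one' := Subtype.ext (by simp)
        map_mul' := fun a b => Subtype.ext (by push_cast; group) }
    have h : cy (N z) = N z := by
      show cy (∏ q, c z q) = ∏ q, c z q
      rw [map_prod]
      conv_rhs => rw [← Equiv.prod_comp (MulAction.toPerm y) (c z)]
      refine Finset.prod_congr rfl fun q _ => ?_
      induction q using Quotient.inductionOn' with
      | h b =>
        refine Subtype.ext ?_
        show y * (b * π z * b⁻¹) * y⁻¹ = (y * b) * π z * (y * b)⁻¹
        group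
    exact mul_inv_eq_iff_eq_mul.1 (congrArg Subtype.val h)
  have hNpow : ∀ z : Z, π z ∈ center (G ⧸ O) →
      ((N z : A) : G ⧸ O) = π z ^ (Sb : Subgroup (G ⧸ O)).index := by
    intro z hz
    show ((∏ q, c z q : A) : G ⧸ O) = _
    rw [Finset.prod_eq_pow_card (b := (⟨π z, (hπZ z z.2).1⟩ : A)) (fun q _ => by
      induction q using Quotient.inductionOn' with
      | h b =>
        refine Subtype.ext ?_
        show b * π z * b⁻¹ = π z
        rw [mem_center_iff.1 hz b, mul_inv_cancel_right]), SubmonoidClass.coe_pow, Finset.card_univ,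
      Subgroup.index_eq_card, Nat.card_eq_fintype_card]
  have hcop : (Nat.card W).Coprime (Sb : Subgroup (G ⧸ O)).index := by
    obtain ⟨k, hk⟩ := IsPGroup.iff_card.1 (S.2.to_le (inf_le_left : W ≤ (S : Subgroup G)))
    rw [hk]
    exact Nat.Coprime.pow_left k ((Fact.out : p.Prime).coprime_iff_not_dvd.2 Sb.not_dvd_index)
  refine ⟨W, N.ker.map Z.subtype, hWmem, map_subtype_le _, ?_, le_antisymm (sup_le hWZ (map_subtype_le _)) ?_⟩
  · refine (eq_bot_iff_forall _).2 ?_
    rintro x ⟨hxW, z, hz, rfl⟩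
    have h1 := hNpow z hxW.2
    rw [MonoidHom.mem_ker.1 hz, OneMemClass.coe_one, ← map_pow] at h1
    have h2 : ((z : G) ^ (Sb : Subgroup (G ⧸ O)).index) = 1 :=
      hinj _ (pow_mem hxW.1 _) _ (one_mem _) (by rw [map_one]; exact h1.symm)
    exact congrArg Subtype.val ((powCoprime hcop).injective (a₁ := (⟨z, hxW⟩ : W)) (a₂ := 1)
      (Subtype.ext (by simpa [powCoprime] using h2)))
  · intro x hx
    have ha : ((N ⟨x, hx⟩ : A) : G ⧸ O) ∈ (Sb : Subgroup (G ⧸ O)) := pCore_le_sylow Sb (N ⟨x, hx⟩).2.1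
    rw [hSbc] at ha
    obtain ⟨w, hw, hwe⟩ := ha
    have hwW : w ∈ W := ⟨hw, by show π w ∈ center (G ⧸ O); rw [hwe]; exact hNc _⟩
    set w₁ : W := (powCoprime hcop).symm ⟨w, hwW⟩
    have hw₁ : (w₁ : G) ^ (Sb : Subgroup (G ⧸ O)).index = w :=
      congrArg Subtype.val ((powCoprime hcop).apply_symm_apply ⟨w, hwW⟩)
    have hk : (⟨x, hx⟩ : Z) * (⟨(w₁ : G), hWZ w₁.2⟩ : Z)⁻¹ ∈ N.ker := by
      rw [MonoidHom.mem_ker, map_mul, map_inv, mul_inv_eq_one]
      refine Subtype.ext ?_
      rw [hNpow ⟨(w₁ : G), hWZ w₁.2⟩ w₁.2.2]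
      show ((N ⟨x, hx⟩ : A) : G ⧸ O) = π (w₁ : G) ^ _
      rw [← map_pow, hw₁, hwe]
    rw [show x = (x * (w₁ : G)⁻¹) * w₁ by group]
    exact mul_mem (mem_sup_right ⟨_, hk, rfl⟩) (mem_sup_left w₁.2)


/-- Let S be a Sylow p-subgroup of the finite group G and suppose that the centre Z(S) lies in O_{p',p}(G). The elements of S each of which is its only G-conjugate in S form a subgroup W of Z(S); W is then a direct factor of Z(S): there is a subgroup K of Z(S) with W ∩ K = 1 and WK = Z(S). -/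
theorem result {G : Type*} [Group G] [Finite G] {p : ℕ} [Fact p.Prime] (S : Sylow p G)
    (hZ : ((S : Subgroup G) ⊓ Subgroup.centralizer ((S : Subgroup G) : Set G)) ≤ Cfsg.pPrimePCore p G) :
    ∃ W K : Subgroup G, (∀ x : G, x ∈ W ↔ (x ∈ (S : Subgroup G) ∧ ∀ g : G, g * x * g⁻¹ ∈ (S : Subgroup G) → g * x * g⁻¹ = x)) ∧
      K ≤ ((S : Subgroup G) ⊓ Subgroup.centralizer ((S : Subgroup G) : Set G)) ∧ W ⊓ K = ⊥ ∧ W ⊔ K = ((S : Subgroup G) ⊓ Subgroup.centralizer ((S : Subgroup G) : Set G)) := by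
  exact center_splits S hZ

end Cfsg.Agent.S1944
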