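import Cfsg.Statements.S1946
import Cfsg.Agent.Lib.Coprime.SmallElementChain
import Cfsg.Agent.Lib.Fusion.PComplement

set_option autoImplicit false
open Cfsg

namespace Cfsg.Agent.S1946

/-- Let P be a Sylow p-subgroup of the finite group G. Then G has a normal p-complement if and only if P controls the fusion of its elements of order dividing p (dividing 4 when p = 2): whenever such an element a of P has a G-conjugate g a g⁻¹ in P, that conjugate is already x a x⁻¹ for some x in P. -/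
theorem result {G : Type*} [Group G] [Finite G] {p : ℕ} [Fact p.Prime] (P : Sylow p G) :
    Cfsg.HasNormalPComplement p G ↔
      ∀ a ∈ (P : Subgroup G), (a ^ p = 1 ∨ (p = 2 ∧ a ^ 4 = 1)) → ∀ g : G, g * a * g⁻¹ ∈ (P : Subgroup G) →
        ∃ x ∈ (P : Subgroup G), g * a * g⁻¹ = x * a * x⁻¹ := by
  have hp : p.Prime := Fact.out
  constructor
  · intro hnc a ha _ g hg
    have hcP := CfsgLib.Fusion.hasNormalPComplement_iff_forall_sylow.1 hnc P
    have hN' : (Cfsg.pResidual p G).Normal := CfsgLib.Fusion.pResidual_normal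
    obtain ⟨x, hx, n, hn, rfl⟩ : ∃ x ∈ (P : Subgroup G), ∃ n ∈ Cfsg.pResidual p G, x * n = g :=
      Subgroup.mem_sup_of_normal_right.1 (by
        rw [sup_comm, CfsgLib.Fusion.pResidual_sup_sylow P]; trivial)
    refine ⟨x, hx, ?_⟩
    have h1 : n * a * n⁻¹ ∈ (P : Subgroup G) := by
      have h := mul_mem (mul_mem (inv_mem hx) hg) hx
      rwa [show x⁻¹ * (x * n * a * (x * n)⁻¹) * x = n * a * n⁻¹ by group] at h
    have h2 : n * a * n⁻¹ * a⁻¹ = 1 := by
      refine Subgroup.disjoint_def.1 hcP.disjoint ?_ (mul_mem h1 (inv_mem ha))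
      rw [show n * a * n⁻¹ * a⁻¹ = n * (a * n⁻¹ * a⁻¹) by group]
      exact mul_mem hn (hN'.conj_mem _ (inv_mem hn) a)
    rw [show x * n * a * (x * n)⁻¹ = x * (n * a * n⁻¹) * x⁻¹ by group, mul_inv_eq_one.1 h2]
  · intro h
    refine CfsgLib.Fusion.hasNormalPComplement_of_locallyPNilpotentAction P ?_
    intro D hD g hg hgc
    have hgp : ¬ p ∣ orderOf g := fun hd => hp.not_dvd_one (hgc ▸ Nat.dvd_gcd hd dvd_rfl)
    haveI : Group.IsNilpotent (P : Subgroup G) := P.isPGroup'.isNilpotent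
    obtain ⟨n, hn⟩ := Group.IsNilpotent.nilpotent (P : Subgroup G)
    refine CfsgLib.Coprime.centralizes_of_small_chain (P.isPGroup'.to_le hD) hg hgp
      (fun i => (Subgroup.upperCentralSeries (P : Subgroup G) i).map (P : Subgroup G).subtype)
      (by simp) (fun i => Subgroup.map_mono (Subgroup.upperCentralSeries_mono _ (Nat.le_succ i)))
      ?_ (n := n) ?_ ?_
    · intro i
      refine hD.trans ?_
      refine le_trans ?_ (Subgroup.le_normalizer_map (P : Subgroup G).subtype)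
      rw [Subgroup.normalizer_eq_top (H := Subgroup.upperCentralSeries (P : Subgroup G) i),
        ← MonoidHom.range_eq_map, Subgroup.range_subtype]
    · intro a ha _
      exact ⟨⟨a, hD ha⟩, by rw [hn]; trivial, rfl⟩
    · rintro i a ha hae ⟨⟨b, hb⟩, hbZ, rfl⟩
      have hsmall : b ^ p = 1 ∨ (p = 2 ∧ b ^ 4 = 1) := by
        rcases eq_or_ne p 2 with h2 | h2
        · exact Or.inr ⟨h2, by simpa [CfsgLib.PGroup.smallExp, h2] using hae⟩
        · exact Or.inl (by simpa [CfsgLib.PGroup.smallExp, h2] using hae)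
      obtain ⟨x, hx, hxb⟩ := h b hb hsmall g (hD ((Subgroup.mem_normalizer_iff.1 hg b).1 ha))
      refine ⟨⟨x, hx⟩ * ⟨b, hb⟩ * ⟨x, hx⟩⁻¹ * ⟨b, hb⟩⁻¹, ?_, ?_⟩
      · have h3 := (Subgroup.mem_upperCentralSeries_succ_iff.1 hbZ ⟨x, hx⟩)
        rw [show (⟨x, hx⟩ : (P : Subgroup G)) * ⟨b, hb⟩ * ⟨x, hx⟩⁻¹ * ⟨b, hb⟩⁻¹
          = (⟨b, hb⟩ * ⟨x, hx⟩ * ⟨b, hb⟩⁻¹ * ⟨x, hx⟩⁻¹)⁻¹ by group]
        exact inv_mem h3
      · simp only [map_mul, map_inv, Subgroup.coe_subtype]
        rw [← hxb]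

end Cfsg.Agent.S1946
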