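import Cfsg.Statements.S1947
import Cfsg.Agent.Lib.Coprime.SmallElementChain
import Cfsg.Agent.Lib.Fusion.PComplement

set_option autoImplicit false
open Cfsg

namespace Cfsg.Agent.S1947

/-- Let G be a finite group and p a prime. If every element of G of order dividing p (dividing 4 when p = 2) lies in some fixed term Z_n(G) of the upper central series, then G has a normal p-complement. -/
theorem result {G : Type*} [Group G] [Finite G] {p : ℕ} [Fact p.Prime] (n : ℕ)
    (h : ∀ a : G, (a ^ p = 1 ∨ (p = 2 ∧ a ^ 4 = 1)) → a ∈ Subgroup.upperCentralSeries G n) : Cfsg.HasNormalPComplement p G := by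
  have hp : p.Prime := Fact.out
  obtain ⟨P⟩ : Nonempty (Sylow p G) := inferInstance
  refine CfsgLib.Fusion.hasNormalPComplement_of_locallyPNilpotentAction P ?_
  intro D hD g hg hgc
  have hgp : ¬ p ∣ orderOf g := fun hd => hp.not_dvd_one (hgc ▸ Nat.dvd_gcd hd dvd_rfl)
  refine CfsgLib.Coprime.centralizes_of_small_chain (P.isPGroup'.to_le hD) hg hgp
    (fun i => Subgroup.upperCentralSeries G i) (Subgroup.upperCentralSeries_zero G)
    (fun i => Subgroup.upperCentralSeries_mono _ (Nat.le_succ i)) ?_ (n := n) ?_ ?_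
  · intro i
    rw [Subgroup.normalizer_eq_top (H := Subgroup.upperCentralSeries G i)]
    exact le_top
  · intro a _ hae
    refine h a ?_
    rcases eq_or_ne p 2 with h2 | h2
    · exact Or.inr ⟨h2, by simpa [CfsgLib.PGroup.smallExp, h2] using hae⟩
    · exact Or.inl (by simpa [CfsgLib.PGroup.smallExp, h2] using hae)
  · intro i a _ _ haZ
    have h3 := Subgroup.mem_upperCentralSeries_succ_iff.1 haZ g
    rw [show g * a * g⁻¹ * a⁻¹ = (a * g * a⁻¹ * g⁻¹)⁻¹ by group]
    exact inv_mem h3

end Cfsg.Agent.S1947
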