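import Cfsg.Statements.S1948
import Cfsg.Agent.Lib.Coprime.Action
import Cfsg.Agent.Lib.Coprime.Core
import Cfsg.Agent.Lib.PGroup.FpfSections

set_option autoImplicit false
open Cfsg

namespace Cfsg.Agent.S1948

/-- Let S be a Sylow p-subgroup of the finite group G. Then G = N_G(S)·O_{p'}(G) if and only if G is p-constrained and N_G(S) controls fusion in S, in the sense that whenever a subgroup Q of S has a conjugate g Q g⁻¹ inside S, the element g is a product n c with n normalizing S and c centralizing Q. -/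
theorem result {G : Type*} [Group G] [Finite G] {p : ℕ} [Fact p.Prime] (S : Sylow p G) :
    Subgroup.normalizer ((S : Subgroup G) : Set G) ⊔ Cfsg.pPrimeCore p G = ⊤ ↔
      (Cfsg.IsPConstrained p G ∧
        ∀ Q : Subgroup G, Q ≤ (S : Subgroup G) → ∀ g : G, Q.map (MulAut.conj g).toMonoidHom ≤ (S : Subgroup G) →
          ∃ n ∈ Subgroup.normalizer ((S : Subgroup G) : Set G), ∃ c ∈ Subgroup.centralizer (Q : Set G), g = n * c) := by
  haveI hOn : (Cfsg.pPrimeCore p G).Normal := Subgroup.sSup_normal _ fun _ h => h.1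
  set O := Cfsg.pPrimeCore p G with hOdef
  have hp : p.Prime := Fact.out
  have hOp : ¬ p ∣ Nat.card O := CfsgLib.Coprime.pPrimeCore_not_dvd hp
  set π := QuotientGroup.mk' O
  haveI hpc : (Cfsg.pCore p (G ⧸ O)).Normal := CfsgLib.Coprime.pCore_normal' p
  set W := Cfsg.pPrimePCore p G with hWdef
  haveI hWn : W.Normal := (inferInstance : (Cfsg.pCore p (G ⧸ O)).Normal).comap π
  have hOW : O ≤ W := fun o ho => by
    show π o ∈ Cfsg.pCore p (G ⧸ O)
    rw [show π o = 1 from (QuotientGroup.eq_one_iff o).2 ho]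
    exact one_mem _
  constructor
  · intro hS
    have hall : ∀ T : Sylow p G, Subgroup.normalizer ((T : Subgroup G) : Set G) ⊔ O = ⊤ := by
      intro T
      obtain ⟨g, hg⟩ := MulAction.exists_smul_eq G S T
      rw [← hg, Sylow.coe_subgroup_smul]
      show Subgroup.normalizer (((S : Subgroup G).map (MulAut.conj g).toMonoidHom : Subgroup G) : Set G) ⊔ O = ⊤
      rw [← Subgroup.map_equiv_normalizer_eq]
      have h1 := congrArg (Subgroup.map (MulAut.conj g).toMonoidHom) hS
      rw [Subgroup.map_sup, Subgroup.map_top_of_surjective _ (MulAut.conj g).surjective] at h1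
      have h2 : (Cfsg.pPrimeCore p G).map (MulAut.conj g).toMonoidHom = O := by
        haveI := CfsgLib.Coprime.pPrimeCore_characteristic (G := G) p
        exact Subgroup.characteristic_iff_map_eq.1 this (MulAut.conj g)
      rw [h2] at h1
      exact h1
    have hTW : ∀ T : Sylow p G, (T : Subgroup G) ≤ W := by
      intro T
      haveI hn : ((T : Subgroup G).map π).Normal := by
        refine Subgroup.normalizer_eq_top_iff.1 (top_le_iff.1 ?_)
        rw [← Subgroup.map_top_of_surjective π (QuotientGroup.mk'_surjective O), ← hall T, Subgroup.map_sup]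
        refine sup_le (Subgroup.le_normalizer_map π) ?_
        rw [show O.map π = ⊥ from (Subgroup.map_eq_bot_iff _).2 (by rw [QuotientGroup.ker_mk'])]
        exact bot_le
      exact fun t ht => CfsgLib.Coprime.le_pCore (N := (T : Subgroup G).map π) (T.2.map π)
        (Subgroup.mem_map_of_mem π ht)
    have hcent : ∀ T : Sylow p G, Subgroup.centralizer ((T : Subgroup G) : Set G) ≤ W := by
      intro T
      set C := Subgroup.centralizer ((T : Subgroup G) : Set G)
      obtain ⟨Z⟩ := (inferInstance : Nonempty (Sylow p C))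
      have hZT : (Z : Subgroup C).map C.subtype ≤ (T : Subgroup G) := by
        have hn : (Z : Subgroup C).map C.subtype ≤ Subgroup.normalizer ((T : Subgroup G) : Set G) :=
          (Subgroup.map_subtype_le _).trans (Subgroup.centralizer_le_normalizer _)
        have h1 := T.3 (T.2.to_sup_of_normal_left' (Z.2.map C.subtype) hn) le_sup_left
        exact le_sup_right.trans h1.le
      have hP : Subgroup.normalizer ((Z : Subgroup C) : Set C) ≤
          Subgroup.centralizer ((Z : Subgroup C) : Set C) := fun c _ =>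
        Subgroup.mem_centralizer_iff.2 fun z hz =>
          Subtype.ext (Subgroup.mem_centralizer_iff.1 c.2 z (hZT (Subgroup.mem_map_of_mem _ hz)))
      have hK := MonoidHom.ker_transferSylow_isComplement' Z hP
      set f := MonoidHom.transferSylow Z hP
      have hKp : ¬ p ∣ Nat.card f.ker := by
        rw [← hK.index_eq_card] at *; exact Z.not_dvd_index
      have hpk : ∀ c : C, (orderOf c).Coprime p → c ∈ f.ker := by
        intro c hc
        obtain ⟨k, hk⟩ := Z.2 (f c)
        exact orderOf_eq_one_iff.1 (Nat.eq_one_of_dvd_coprimes (hc.pow_right k)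
          (orderOf_map_dvd f c) (orderOf_dvd_of_pow_eq_one hk))
      set K := f.ker.map C.subtype
      have hNK : Subgroup.normalizer ((T : Subgroup G) : Set G) ≤ Subgroup.normalizer (K : Set G) := by
        have key : ∀ g ∈ Subgroup.normalizer ((T : Subgroup G) : Set G), ∀ x ∈ K, g * x * g⁻¹ ∈ K := by
          rintro g hg _ ⟨c, hc, rfl⟩
          have hgc : g * (c : G) * g⁻¹ ∈ C := (Subgroup.mem_normalizer_iff.1
            (CfsgLib.Coprime.normalizer_le_normalizer_centralizer _ hg) _).1 c.2
          refine ⟨⟨_, hgc⟩, hpk _ ?_, rfl⟩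
          have ho : orderOf (⟨_, hgc⟩ : C) = orderOf c := by
            rw [← Subgroup.orderOf_coe, ← Subgroup.orderOf_coe c]
            exact orderOf_injective (MulAut.conj g).toMonoidHom (MulAut.conj g).injective (c : G)
          rw [ho]
          exact (hp.coprime_iff_not_dvd.2 fun hd => hKp (hd.trans (Subgroup.orderOf_dvd_natCard _ hc))).symm
        intro g hg
        refine Subgroup.mem_normalizer_iff.2 fun x => ⟨key g hg x, fun h => ?_⟩
        have := key g⁻¹ (inv_mem hg) _ h
        simpa [mul_assoc] using this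
      haveI hn : (K ⊔ O).Normal := by
        refine Subgroup.normalizer_eq_top_iff.1 (top_le_iff.1 ?_)
        rw [← hall T]
        exact sup_le (CfsgLib.Coprime.sup_le_normalizer hNK (by rw [Subgroup.normalizer_eq_top O]; exact le_top))
          (le_sup_right.trans Subgroup.le_normalizer)
      have hKO : K ≤ O := by
        refine le_sup_left.trans (CfsgLib.Coprime.le_pPrimeCore_of_not_dvd (N := K ⊔ O) hp fun hd => ?_)
        obtain ⟨x, hx⟩ := exists_prime_orderOf_dvd_card' p hd
        obtain ⟨k, hk, o, ho, e⟩ := Subgroup.mem_sup_of_normal_right.1 x.2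
        have h1 : orderOf (π (x : G)) ∣ p :=
          (orderOf_map_dvd π _).trans (by rw [Subgroup.orderOf_coe, hx])
        have h2 : orderOf (π (x : G)) ∣ Nat.card K := by
          rw [← e, map_mul, show π o = 1 from (QuotientGroup.eq_one_iff o).2 ho, mul_one]
          exact (orderOf_map_dvd π k).trans (Subgroup.orderOf_dvd_natCard K hk)
        have h3 : (x : G) ∈ O := (QuotientGroup.eq_one_iff _).1 (orderOf_eq_one_iff.1
          (Nat.eq_one_of_dvd_coprimes (hp.coprime_iff_not_dvd.2 (by
            rwa [Subgroup.card_map_of_injective C.subtype_injective])) h1 h2))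
        exact hOp (by rw [← hx, ← Subgroup.orderOf_coe]; exact Subgroup.orderOf_dvd_natCard O h3)
      intro c hc
      obtain ⟨z, hz, k, hk, e⟩ : ∃ z ∈ (Z : Subgroup C), ∃ k ∈ f.ker, z * k = (⟨c, hc⟩ : C) := by
        obtain ⟨⟨⟨k, hk⟩, ⟨z, hz⟩⟩, e⟩ := hK.symm.2 (⟨c, hc⟩ : C)
        exact ⟨k, hk, z, hz, e⟩
      rw [show c = ((z : C) : G) * (k : G) from (congrArg Subtype.val e).symm]
      exact mul_mem (hTW T (hZT (Subgroup.mem_map_of_mem _ hz))) (hOW (hKO (Subgroup.mem_map_of_mem _ hk)))
    refine ⟨fun P => ?_, fun Q hQS g hg => ?_⟩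
    · obtain ⟨T, hT⟩ := (P.2.map W.subtype).exists_le_sylow
      have e : (T : Subgroup G) = (P : Subgroup W).map W.subtype := by
        have h1 := P.3 (T.2.of_equiv (Subgroup.subgroupOfEquivOfLe (hTW T)).symm)
          (fun x hx => hT (Subgroup.mem_map_of_mem W.subtype hx))
        rw [← h1, Subgroup.map_subgroupOf_eq_of_le (hTW T)]
      rw [← e]
      exact hcent T
    · have hg' : g ∈ O ⊔ Subgroup.normalizer ((S : Subgroup G) : Set G) := by
        rw [sup_comm, hS]; exact Subgroup.mem_top g
      obtain ⟨o, ho, n, hn, rfl⟩ := Subgroup.mem_sup_of_normal_left.1 hg'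
      refine ⟨n, hn, n⁻¹ * o * n, Subgroup.mem_centralizer_iff.2 fun q hq => ?_, by group⟩
      set o' := n⁻¹ * o * n
      have ho' : o' ∈ O := by simpa [o'] using hOn.conj_mem o ho n⁻¹
      have h1 : o' * q * o'⁻¹ * q⁻¹ ∈ (S : Subgroup G) ⊓ O := by
        refine Subgroup.mem_inf.2 ⟨mul_mem ?_ (inv_mem (hQS hq)), ?_⟩
        · have h2 := hg (Subgroup.mem_map_of_mem _ hq)
          have h3 := (Subgroup.mem_normalizer_iff.1 (inv_mem hn) _).1 h2
          simpa [o', mul_assoc] using h3
        · rw [show o' * q * o'⁻¹ * q⁻¹ = o' * (q * o'⁻¹ * q⁻¹) by group]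
          exact mul_mem ho' (hOn.conj_mem _ (inv_mem ho') q)
      obtain ⟨k, hk⟩ := IsPGroup.iff_card.1 S.2
      have hbot : (S : Subgroup G) ⊓ O = ⊥ := CfsgLib.Coprime.disjoint_of_coprime_card
        (hk ▸ (hp.coprime_iff_not_dvd.2 hOp).pow_left k)
      rw [hbot, Subgroup.mem_bot, mul_inv_eq_one, mul_inv_eq_iff_eq_mul] at h1
      exact h1.symm
  · rintro ⟨hcon, hfus⟩
    obtain ⟨P₀⟩ := (inferInstance : Nonempty (Sylow p W))
    obtain ⟨T, hT⟩ := (P₀.2.map W.subtype).exists_le_sylow
    obtain ⟨g, hg⟩ := MulAction.exists_smul_eq G T S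
    have hs : CfsgLib.Coprime.IsSylowIn p
        (CfsgLib.Coprime.conjBy g ((P₀ : Subgroup W).map W.subtype)) W :=
      (CfsgLib.Coprime.isSylowIn_map P₀).conjBy (by rw [Subgroup.normalizer_eq_top]; exact Subgroup.mem_top g)
    set P := CfsgLib.Coprime.conjBy g ((P₀ : Subgroup W).map W.subtype)
    have hPS : P ≤ (S : Subgroup G) := by
      rw [← hg, Sylow.coe_subgroup_smul]; exact Subgroup.map_mono hT
    have hC : Subgroup.centralizer (P : Set G) ≤ W := by
      have := hcon hs.toSylow
      rwa [hs.map_toSylow] at this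
    have hWP : W ≤ O ⊔ P := by
      rw [← Subgroup.relIndex_eq_one]
      have h1 : O.relIndex W = Nat.card (Cfsg.pCore p (G ⧸ O)) := by
        have h := Subgroup.relIndex_comap ⊥ π W
        rw [MonoidHom.comap_bot, QuotientGroup.ker_mk', Subgroup.relIndex_bot_left] at h
        rw [h, hWdef, Cfsg.pPrimePCore, Subgroup.map_comap_eq_self_of_surjective (QuotientGroup.mk'_surjective _)]
      obtain ⟨k, hk⟩ := IsPGroup.iff_card.1 (CfsgLib.Coprime.pCore_isPGroup (G := G ⧸ O) p)
      obtain ⟨j, -, hj⟩ := (Nat.dvd_prime_pow hp).1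
        (hk ▸ h1 ▸ Subgroup.relIndex_dvd_of_le_left W (le_sup_left : O ≤ O ⊔ P))
      rcases Nat.eq_zero_or_pos j with rfl | hj0
      · rw [hj, pow_zero]
      · exfalso
        have h2 : ¬ p ∣ P.relIndex W := hs.toSylow.not_dvd_index
        exact h2 ((dvd_pow_self p hj0.ne').trans (hj ▸ Subgroup.relIndex_dvd_of_le_left W le_sup_right))
    rw [eq_top_iff]
    have hfr : Subgroup.normalizer (P : Set G) ⊔ W = ⊤ := by
      have := hs.toSylow.normalizer_sup_eq_top
      rwa [hs.map_toSylow] at this
    rw [← hfr]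
    have hN : Subgroup.normalizer (P : Set G) ≤ Subgroup.normalizer ((S : Subgroup G) : Set G) ⊔ O := by
      intro n hn
      have hmap : P.map (MulAut.conj n).toMonoidHom ≤ (S : Subgroup G) :=
        (CfsgLib.Coprime.conjBy_eq_self_iff.2 hn).le.trans hPS
      obtain ⟨m, hm, c, hc, rfl⟩ := hfus P hPS n hmap
      refine mul_mem (Subgroup.mem_sup_left hm) ?_
      exact (hWP.trans (sup_le le_sup_right (hPS.trans (Subgroup.le_normalizer.trans le_sup_left)))) (hC hc)
    exact sup_le hN (hWP.trans (sup_le le_sup_right (hPS.trans (Subgroup.le_normalizer.trans le_sup_left))))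

end Cfsg.Agent.S1948
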