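import Cfsg.Statements.S1953
import Cfsg.Agent.Lib.CFun.CentricGroup
import Cfsg.Agent.Lib.CFun.StableConstrained
import Cfsg.Agent.Lib.Qd.SLTwo
import Cfsg.Agent.Lib.Qd.Elementary
import Cfsg.Agent.Lib.Fusion.System.QdConstrained
import Cfsg.Agent.Lib.Fusion.System.ControlNormal

set_option autoImplicit false
open Cfsg

namespace Cfsg.Agent.S1953

open Subgroup Matrix
open CfsgLib.Fusion (IsMap isMap_group_iff conjBy conjBy_eq_iff conjBy_eq_of_le conjBy_le_iff mem_of_img_eq)
open CfsgLib.Qd (up lo)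

universe u

variable {G : Type u} [Group G] [Finite G] {p : ℕ} [Fact p.Prime]

/-- Without sections `SL₂(p)` in automizers there is no datum `Qd(p)` in the fusion system. -/
private theorem noQd_of_free (P : Sylow p G)
    (hfree : ∀ Q : Subgroup G, IsPGroup p ↥Q → ¬ ∃ (H K : Subgroup G) (_ : (K.subgroupOf H).Normal),
      centralizer (Q : Set G) ≤ K ∧ K ≤ H ∧ H ≤ normalizer (Q : Set G) ∧
        Nonempty ((↥H ⧸ K.subgroupOf H) ≃* Matrix.SpecialLinearGroup (Fin 2) (ZMod p))) :
    CfsgLib.Fusion.NoQd p (Cfsg.groupFusionSystem (P : Subgroup G)) := by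
  intro Q U a b d
  obtain ⟨hUP, g, hg⟩ := isMap_group_iff.1 d.mapA
  obtain ⟨-, k, hk⟩ := isMap_group_iff.1 d.mapB
  obtain ⟨θ, hθ⟩ := d.cond
  have hgU : g ∈ normalizer (U : Set G) :=
    conjBy_eq_iff.1 (conjBy_eq_of_le (conjBy_le_iff.2 fun x hx => by
      rw [← (hg x hx).2]; exact mem_of_img_eq d.mapA le_rfl d.imgAU hx))
  have hkU : k ∈ normalizer (U : Set G) :=
    conjBy_eq_iff.1 (conjBy_eq_of_le (conjBy_le_iff.2 fun x hx => by
      rw [← (hk x hx).2]; exact mem_of_img_eq d.mapB le_rfl d.imgBU hx))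
  have hnm : ∀ x ∈ normalizer (U : Set G), ∀ u ∈ U, x * u * x⁻¹ ∈ U := fun x hx u hu =>
    (mem_normalizer_iff.1 hx u).1 hu
  let T : Subgroup G :=
    { carrier := {x | x ∈ normalizer (U : Set G) ∧
        ∃ M : Matrix.SpecialLinearGroup (Fin 2) (ZMod p), ∀ u ∈ U, θ (x * u * x⁻¹) = M.1 *ᵥ θ u}
      one_mem' := ⟨one_mem _, 1, fun u _ => by
        rw [one_mul, inv_one, mul_one, Matrix.SpecialLinearGroup.coe_one, Matrix.one_mulVec]⟩
      mul_mem' := by
        rintro x y ⟨hx, M, hM⟩ ⟨hy, M', hM'⟩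
        refine ⟨mul_mem hx hy, M * M', fun u hu => ?_⟩
        rw [show x * y * u * (x * y)⁻¹ = x * (y * u * y⁻¹) * x⁻¹ by group, hM _ (hnm y hy u hu),
          hM' u hu, Matrix.mulVec_mulVec, ← Matrix.SpecialLinearGroup.coe_mul]
      inv_mem' := by
        rintro x ⟨hx, M, hM⟩
        refine ⟨inv_mem hx, M⁻¹, fun u hu => ?_⟩
        have h := hM _ (hnm x⁻¹ (inv_mem hx) u hu)
        rw [show x * (x⁻¹ * u * x⁻¹⁻¹) * x⁻¹ = u by group] at h
        rw [h, Matrix.mulVec_mulVec, ← Matrix.SpecialLinearGroup.coe_mul, inv_mul_cancel,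
          Matrix.SpecialLinearGroup.coe_one, Matrix.one_mulVec] }
  have huniq : ∀ M M' : Matrix.SpecialLinearGroup (Fin 2) (ZMod p),
      (∀ w, M.1 *ᵥ w = M'.1 *ᵥ w) → M = M' := fun M M' h =>
    Subtype.ext (Matrix.ext_of_mulVec_single fun i => h _)
  choose M hM using fun x : T => x.2.2
  have hM' : ∀ (x : T) (N : Matrix.SpecialLinearGroup (Fin 2) (ZMod p)),
      (∀ u ∈ U, θ ((x : G) * u * (x : G)⁻¹) = N.1 *ᵥ θ u) → M x = N := fun x N hN =>
    huniq _ _ fun w => by
      obtain ⟨u, hu, rfl⟩ := hθ.surj w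
      rw [← hM x u hu, hN u hu]
  let ρ : T →* Matrix.SpecialLinearGroup (Fin 2) (ZMod p) := MonoidHom.mk' M fun x y =>
    hM' _ _ fun u hu => by
      rw [Subgroup.coe_mul,
        show (x : G) * y * u * ((x : G) * y)⁻¹ = x * ((y : G) * u * (y : G)⁻¹) * (x : G)⁻¹ by group,
        hM x _ (hnm y y.2.1 u hu), hM y u hu, Matrix.mulVec_mulVec,
        ← Matrix.SpecialLinearGroup.coe_mul]
  have hgA : ∀ u ∈ U, θ (g * u * g⁻¹) = (up (1 : ZMod p)).1 *ᵥ θ u := fun u hu => by
    rw [← (hg u hu).2]; exact hθ.map_a u hu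
  have hkB : ∀ u ∈ U, θ (k * u * k⁻¹) = (lo (1 : ZMod p)).1 *ᵥ θ u := fun u hu => by
    rw [← (hk u hu).2]; exact hθ.map_b u hu
  have hρ : Function.Surjective ρ := by
    refine MonoidHom.range_eq_top.1 (top_le_iff.1 ?_)
    rw [← CfsgLib.Qd.closure_up_lo (one_ne_zero : (1 : ZMod p) ≠ 0), closure_le]
    rintro _ (rfl | rfl)
    · exact ⟨⟨g, hgU, up 1, hgA⟩, hM' ⟨g, hgU, up 1, hgA⟩ _ hgA⟩
    · exact ⟨⟨k, hkU, lo 1, hkB⟩, hM' ⟨k, hkU, lo 1, hkB⟩ _ hkB⟩
  have hC1 : ∀ c ∈ centralizer (U : Set G), ∀ u ∈ U, c * u * c⁻¹ = u := fun c hc u hu => by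
    rw [← mem_centralizer_iff.1 hc u hu, mul_inv_cancel_right]
  have hCT : centralizer (U : Set G) ≤ T := fun c hc =>
    ⟨conjBy_eq_iff.1 (conjBy_eq_of_le (conjBy_le_iff.2 fun u hu => by
      rw [hC1 c hc u hu]; exact hu)), 1, fun u hu => by
      rw [hC1 c hc u hu, Matrix.SpecialLinearGroup.coe_one, Matrix.one_mulVec]⟩
  have hCK : centralizer (U : Set G) ≤ ρ.ker.map T.subtype := fun c hc =>
    ⟨⟨c, hCT hc⟩, MonoidHom.mem_ker.2 (hM' _ 1 fun u hu => by
      show θ (c * u * c⁻¹) = _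
      rw [hC1 c hc u hu, Matrix.SpecialLinearGroup.coe_one, Matrix.one_mulVec]), rfl⟩
  have hker : (ρ.ker.map T.subtype).subgroupOf T = ρ.ker :=
    comap_map_eq_self_of_injective T.subtype_injective _
  haveI hn : ((ρ.ker.map T.subtype).subgroupOf T).Normal := hker.symm ▸ inferInstance
  exact hfree U (P.2.to_le hUP) ⟨T, _, hn, hCK, map_subtype_le _, fun x hx => hx.1,
    ⟨(QuotientGroup.quotientMulEquivOfEq hker).trans
      (QuotientGroup.quotientKerEquivOfSurjective ρ hρ)⟩⟩

/-- Let p be an odd prime and P a Sylow p-subgroup of the finite group G, and suppose that for no p-subgroup Q of G does N_G(Q)/C_G(Q) have a section isomorphic to SL₂(p). Call a subgroup Q of P centric-radical when Z(Q) is a Sylow p-subgroup of C_G(Q) and the only normal subgroup X of N_G(Q) containing Q·C_G(Q) such that the index of Q·C_G(Q) in X is a power of p is Q·C_G(Q) itself (that is, N_G(Q)/Q·C_G(Q) has no nontrivial normal p-subgroup). Then there is a centric-radical subgroup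 Q of P contained in every centric-radical subgroup of P; it is normal in P, and N_G(Q) controls strong fusion in P: whenever a subgroup A of P has g A g⁻¹ ≤ P, the element g is a product h c with h in N_G(Q) and c centralizing A. -/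
theorem result {G : Type*} [Group G] [Finite G] {p : ℕ} [Fact p.Prime] (hp : p ≠ 2) (P : Sylow p G)
    (hfree : ∀ Q : Subgroup G, IsPGroup p ↥Q → ¬ ∃ (H K : Subgroup G) (_ : (K.subgroupOf H).Normal),
      Subgroup.centralizer (Q : Set G) ≤ K ∧ K ≤ H ∧ H ≤ Subgroup.normalizer (Q : Set G) ∧
      Nonempty ((↥H ⧸ K.subgroupOf H) ≃* Matrix.SpecialLinearGroup (Fin 2) (ZMod p)))
    (cr : Subgroup G → Prop)
    (hcr : ∀ Q : Subgroup G, cr Q ↔ (Q ≤ (P : Subgroup G) ∧
      (∃ R : Sylow p ↥(Subgroup.centralizer (Q : Set G)),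
        (R : Subgroup ↥(Subgroup.centralizer (Q : Set G))).map (Subgroup.centralizer (Q : Set G)).subtype = Q ⊓ Subgroup.centralizer (Q : Set G)) ∧
      ∀ X : Subgroup G, X ≤ Subgroup.normalizer (Q : Set G) →
        (∀ n ∈ Subgroup.normalizer (Q : Set G), X.map (MulAut.conj n).toMonoidHom = X) →
        Q ⊔ Subgroup.centralizer (Q : Set G) ≤ X → (∃ k : ℕ, (Q ⊔ Subgroup.centralizer (Q : Set G)).relIndex X = p ^ k) →
        X = Q ⊔ Subgroup.centralizer (Q : Set G))) :
    ∃ Q : Subgroup G, cr Q ∧ (∀ R : Subgroup G, cr R → Q ≤ R) ∧ (∀ x ∈ (P : Subgroup G), Q.map (MulAut.conj x).toMonoidHom = Q) ∧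
      ∀ A : Subgroup G, A ≤ (P : Subgroup G) → ∀ g : G, A.map (MulAut.conj g).toMonoidHom ≤ (P : Subgroup G) →
        ∃ h ∈ Subgroup.normalizer (Q : Set G), ∃ c ∈ Subgroup.centralizer (A : Set G), g = h * c := by
  classical
  set F := Cfsg.groupFusionSystem (P : Subgroup G) with hF
  have hno := noQd_of_free P hfree
  obtain ⟨-, Q₁, hQ₁, hQ₁c⟩ := CfsgLib.Fusion.isConstrained_of_noQd hp P.2
    (CfsgLib.Fusion.isSaturated_group P) hno
  set Q := F.core with hQdef
  have hQ : F.IsNormal Q := CfsgLib.Fusion.isNormal_core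
  have hQP : Q ≤ (P : Subgroup G) := hQ.1
  have hQc : F.IsCentric Q :=
    CfsgLib.Fusion.isCentric_mono hQ₁c (CfsgLib.Fusion.le_core hQ₁) hQP
  set N := normalizer (Q : Set G) with hN
  set C := centralizer (Q : Set G) with hC
  have hPN : (P : Subgroup G) ≤ N := fun s hs => (CfsgLib.Fusion.le_normalizerIn_of_stronglyClosed
    (CfsgLib.Fusion.stronglyClosed_of_isNormal hQ) hs).2
  have hctl := fun (A : Set G) (hA : A ⊆ (P : Subgroup G)) =>
    (CfsgLib.Fusion.controlsStrongFusionOf_of_isNormal P hQ A hA).2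
  refine ⟨Q, ?_, ?_, fun x hx => conjBy_eq_iff.2 (hPN hx), ?_⟩
  · -- centric radical
    obtain ⟨-, -, hcomm, hinf, hsup⟩ := CfsgLib.CFun.centralizer_eq_of_isCentric P hQc
    set D := (Cfsg.pPrimeCore p ↥C).map C.subtype with hD
    refine (hcr Q).2 ⟨hQP, ?_, ?_⟩
    · obtain ⟨R, hR⟩ := ((P.2.to_le hQP).to_le inf_le_left |>.of_equiv
        (subgroupOfEquivOfLe (inf_le_right : Q ⊓ C ≤ C)).symm).exists_le_sylow
      refine ⟨R, le_antisymm ?_ ?_⟩
      · exact le_inf (CfsgLib.CFun.le_of_isCentric_group P hQc (R.2.map _) (map_subtype_le _))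
          (map_subtype_le _)
      · exact (map_subgroupOf_eq_of_le (inf_le_right : Q ⊓ C ≤ C)).ge.trans (map_mono hR)
    · intro X hXN hXinv hQCX hindex
      obtain ⟨k, hk⟩ := hindex
      refine le_antisymm ?_ hQCX
      set T := (P : Subgroup G) ⊓ X with hT
      have hXn : N ≤ normalizer (X : Set G) := fun n hn => conjBy_eq_iff.1 (hXinv n hn)
      have hTi : ¬ p ∣ T.relIndex X :=
        CfsgLib.CFun.not_dvd_relIndex_inf_of_normalizes P hPN hXN hXn
      have hTX : T ≤ X := inf_le_right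
      have hTn : T ≤ normalizer (((Q ⊔ C : Subgroup G)) : Set G) := by
        intro x hx
        refine conjBy_eq_iff.1 ?_
        show (Q ⊔ C).map (MulAut.conj x).toMonoidHom = Q ⊔ C
        rw [Subgroup.map_sup]
        exact congrArg₂ (· ⊔ ·) (conjBy_eq_iff.2 (hPN hx.1)) (conjBy_eq_iff.2
          (CfsgLib.CFun.le_normalizer_centralizer le_rfl (hPN hx.1)))
      -- `X = T (Q C)`
      have hXeq : X ≤ T ⊔ (Q ⊔ C) := by
        have hle : T ⊔ (Q ⊔ C) ≤ X := sup_le hTX hQCX
        have h1 : (T ⊔ (Q ⊔ C)).relIndex X ∣ T.relIndex X :=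
          relIndex_dvd_of_le_left X le_sup_left
        have h2 : (T ⊔ (Q ⊔ C)).relIndex X ∣ (Q ⊔ C).relIndex X :=
          relIndex_dvd_of_le_left X le_sup_right
        rw [hk] at h2
        obtain ⟨i, -, hi⟩ := (Nat.dvd_prime_pow (Fact.out : p.Prime)).1 h2
        rcases Nat.eq_zero_or_pos i with rfl | hi0
        · exact relIndex_eq_one.1 (by rw [hi, pow_zero])
        · exact absurd ((dvd_pow_self p hi0.ne').trans (hi ▸ h1)) hTi
      have hDC : D ≤ C := map_subtype_le _
      have hXTD : X ≤ T ⊔ D := by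
        refine hXeq.trans (sup_le le_sup_left (sup_le ?_ ?_))
        · exact (le_inf hQP (le_sup_left.trans hQCX)).trans le_sup_left
        · exact hsup.ge.trans (sup_le ((le_inf (inf_le_left.trans hQP)
            (inf_le_left.trans (le_sup_left.trans hQCX))).trans le_sup_left) le_sup_right)
      have hDn : N ≤ normalizer (D : Set G) := by
        intro n hn
        haveI := CfsgLib.Coprime.pPrimeCore_characteristic (G := C) p
        have hnC : n ∈ normalizer (C : Set G) := CfsgLib.CFun.le_normalizer_centralizer le_rfl hn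
        refine conjBy_eq_iff.1 (conjBy_eq_of_le (conjBy_le_iff.2 ?_))
        rintro _ ⟨w, hw, rfl⟩
        let φ : C ≃* C :=
          { toFun := fun c => ⟨n * c * n⁻¹, (mem_normalizer_iff.1 hnC c).1 c.2⟩
            invFun := fun c => ⟨n⁻¹ * c * n, (mem_normalizer_iff''.1 hnC c).1 c.2⟩
            left_inv := fun c => Subtype.ext (show n⁻¹ * (n * c * n⁻¹) * n = c by group)
            right_inv := fun c => Subtype.ext (show n * (n⁻¹ * c * n) * n⁻¹ = c by group)
            map_mul' := fun a b => Subtype.ext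
              (show n * ((a : G) * b) * n⁻¹ = n * a * n⁻¹ * (n * b * n⁻¹) by group) }
        exact ⟨φ w, (characteristic_iff_map_eq.1 inferInstance φ).le ⟨w, hw, rfl⟩, rfl⟩
      have hDcop : ∀ x ∈ D, (orderOf x).Coprime p :=
        (CfsgLib.Fusion.not_dvd_card_iff_forall_coprime_orderOf D).1 (by
          rw [← Nat.card_congr ((Cfsg.pPrimeCore p ↥C).equivMapOfInjective C.subtype
            C.subtype_injective).toEquiv]
          exact CfsgLib.Coprime.pPrimeCore_not_dvd Fact.out)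
      have hTnormal : F.IsNormal T := by
        refine CfsgLib.Fusion.isNormal_iff.2 ⟨inf_le_left, fun A f hf => ?_⟩
        obtain ⟨hAP, g, hg⟩ := isMap_group_iff.1 hf
        obtain ⟨n, hn, hne⟩ := hctl (A : Set G) hAP g (by
          rintro _ ⟨a, ha, rfl⟩
          exact (hg a ha).1)
        have himgP : ∀ x ∈ A, n * x * n⁻¹ ∈ (P : Subgroup G) := fun x hx => by
          rw [← hne x hx]; exact (hg x hx).1
        set L := conjBy n (A ⊔ T) with hL
        have hAN : A ≤ normalizer (T : Set G) := fun a ha =>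
          conjBy_eq_iff.1 (conjBy_eq_of_le (conjBy_le_iff.2 fun t ht => mem_inf.2
            ⟨mul_mem (mul_mem (hAP ha) ht.1) (inv_mem (hAP ha)),
              (mem_normalizer_iff.1 (hXn (hPN (hAP ha))) t).1 ht.2⟩))
        have hPD : (P : Subgroup G) ≤ (P : Subgroup G) ⊔ D := le_sup_left
        have hLle : L ≤ (P : Subgroup G) ⊔ D := by
          show (A ⊔ T).map (MulAut.conj n).toMonoidHom ≤ _
          rw [Subgroup.map_sup]
          refine sup_le ?_ ?_
          · rintro _ ⟨a, ha, rfl⟩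
            exact mem_sup_left (himgP a ha)
          · rintro _ ⟨t, ht, rfl⟩
            exact (sup_le_sup_right inf_le_left _ : T ⊔ D ≤ (P : Subgroup G) ⊔ D)
              (hXTD ((mem_normalizer_iff.1 (hXn hn) t).1 ht.2))
        obtain ⟨l, hl, hlle⟩ := CfsgLib.Fusion.exists_conj_le_of_not_dvd_relIndex P.2
          (le_sup_left : (P : Subgroup G) ≤ (P : Subgroup G) ⊔ D)
          (fun hd => P.not_dvd_index (hd.trans (relIndex_dvd_index_of_le le_sup_left)))
          (CfsgLib.Fusion.isPGroup_conjBy n (P.2.to_le (sup_le hAP inf_le_left))) hLle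
        obtain ⟨s, hs, e, he, rfl⟩ : ∃ s ∈ (P : Subgroup G), ∃ e ∈ D, s * e = l := by
          rw [← SetLike.mem_coe,
            coe_mul_of_left_le_normalizer_right _ _ (hPN.trans hDn)] at hl
          exact hl
        have heP : ∀ x ∈ A ⊔ T, e * n * x * (e * n)⁻¹ ∈ (P : Subgroup G) := fun x hx => by
          have h1 := conjBy_le_iff.1 hlle (n * x * n⁻¹) ⟨x, hx, rfl⟩
          convert mul_mem (mul_mem (inv_mem hs) h1) hs using 1
          group
        have heA : ∀ x ∈ A, e * n * x * (e * n)⁻¹ = f x := fun x hx => by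
          rw [(hg x hx).2, hne x hx]
          refine mul_inv_eq_one.1 ?_
          refine CfsgLib.Fusion.eq_one_of_pGroup_of_coprime P.2
            (mul_mem (heP x (mem_sup_left hx)) (inv_mem (himgP x hx))) (hDcop _ ?_)
          rw [show e * n * x * (e * n)⁻¹ * (n * x * n⁻¹)⁻¹ =
            e * ((n * x * n⁻¹) * e⁻¹ * (n * x * n⁻¹)⁻¹) by group]
          exact mul_mem he ((mem_normalizer_iff.1 (hDn (hPN (himgP x hx))) _).1 (inv_mem he))
        have hmap : IsMap F (A ⊔ T) (fun x => e * n * x * (e * n)⁻¹) :=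
          isMap_group_iff.2 ⟨sup_le hAP inf_le_left, e * n, fun x hx => ⟨heP x hx, rfl⟩⟩
        refine ⟨_, hmap, heA, CfsgLib.Fusion.img_eq_of_map_le inf_le_left hmap le_sup_right
          fun t ht => mem_inf.2 ⟨heP t (mem_sup_right ht), ?_⟩⟩
        exact (mem_normalizer_iff.1 (hXn (mul_mem ((hDC.trans (le_sup_right.trans
          (hQCX.trans hXN))) he) hn)) t).1 ht.2
      exact hXeq.trans (sup_le ((CfsgLib.Fusion.le_core hTnormal).trans le_sup_left) le_rfl)
  · -- below every centric radical subgroup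
    intro R hR
    obtain ⟨hRP, hSyl, hrad⟩ := (hcr R).1 hR
    set NR := normalizer (R : Set G) with hNR
    set CR := centralizer (R : Set G) with hCR
    set Y := Q ⊓ NR with hY
    obtain ⟨S, hS⟩ := hSyl
    have hCRN : CR ≤ NR := fun c hc => conjBy_eq_iff.1 (conjBy_eq_of_le (conjBy_le_iff.2
      fun r hr => by rw [← mem_centralizer_iff.1 hc r hr, mul_inv_cancel_right]; exact hr))
    have hNC : NR ≤ normalizer (CR : Set G) := CfsgLib.CFun.le_normalizer_centralizer le_rfl
    have hRC : R ⊔ CR ≤ NR := sup_le le_normalizer hCRN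
    set X := Y ⊔ (R ⊔ CR) with hX
    have hXN : X ≤ NR := sup_le inf_le_right hRC
    have hconj : ∀ n ∈ NR, ∀ y ∈ Y, n * y * n⁻¹ ∈ X := by
      intro n hn y hy
      obtain ⟨h, hh, hhe⟩ := hctl (R : Set G) hRP n (by
        rintro _ ⟨r, hr, rfl⟩
        exact hRP ((mem_normalizer_iff.1 hn r).1 hr))
      set c := h⁻¹ * n with hc
      have hcC : c ∈ CR := mem_centralizer_iff.2 fun r hr => by
        calc r * (h⁻¹ * n) = h⁻¹ * (h * r * h⁻¹) * n := by group
          _ = h⁻¹ * n * r := by rw [← hhe r hr]; group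
      have hhN : h ∈ NR := by
        rw [show h = n * c⁻¹ by rw [hc]; group]
        exact mul_mem hn (inv_mem (hCRN hcC))
      have h1 : h * y * h⁻¹ ∈ Y :=
        mem_inf.2 ⟨(mem_normalizer_iff.1 hh y).1 hy.1, mul_mem (mul_mem hhN hy.2) (inv_mem hhN)⟩
      have h2 : h * (c * y * c⁻¹ * y⁻¹) * h⁻¹ ∈ CR := by
        refine (mem_normalizer_iff.1 (hNC hhN) _).1 ?_
        rw [show c * y * c⁻¹ * y⁻¹ = c * (y * c⁻¹ * y⁻¹) by group]
        exact mul_mem hcC ((mem_normalizer_iff.1 (hNC hy.2) _).1 (inv_mem hcC))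
      rw [show n * y * n⁻¹ = h * (c * y * c⁻¹ * y⁻¹) * h⁻¹ * (h * y * h⁻¹) by rw [hc]; group]
      exact mul_mem (mem_sup_right (mem_sup_right h2)) (mem_sup_left h1)
    have hXinv : ∀ n ∈ NR, conjBy n X = X := by
      intro n hn
      refine conjBy_eq_of_le ?_
      show X.map (MulAut.conj n).toMonoidHom ≤ X
      rw [hX, Subgroup.map_sup, Subgroup.map_sup]
      refine sup_le ?_ (sup_le ?_ ?_)
      · rintro _ ⟨y, hy, rfl⟩; exact hconj n hn y hy
      · exact (conjBy_eq_iff.2 hn).le.trans (le_sup_left.trans le_sup_right)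
      · exact (conjBy_eq_iff.2 (hNC hn)).le.trans (le_sup_right.trans le_sup_right)
    have hindex : ∃ k : ℕ, (R ⊔ CR).relIndex X = p ^ k := by
      haveI : ((R ⊔ CR).subgroupOf NR).Normal := normal_subgroupOf_of_le_normalizer (fun n hn => by
        refine conjBy_eq_iff.1 ?_
        show (R ⊔ CR).map (MulAut.conj n).toMonoidHom = R ⊔ CR
        rw [Subgroup.map_sup]
        exact congrArg₂ (· ⊔ ·) (conjBy_eq_iff.2 hn) (conjBy_eq_iff.2 (hNC hn)))
      set π := QuotientGroup.mk' ((R ⊔ CR).subgroupOf NR) with hπ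
      have h1 : (R ⊔ CR).relIndex X = Nat.card ↥((X.subgroupOf NR).map π) := by
        rw [← Subgroup.relIndex_ker (K := X.subgroupOf NR) π, hπ, QuotientGroup.ker_mk',
          Subgroup.relIndex_subgroupOf hXN]
      have h2 : (X.subgroupOf NR).map π = (Y.subgroupOf NR).map π := by
        have e : X.subgroupOf NR = Y.subgroupOf NR ⊔ (R ⊔ CR).subgroupOf NR := by
          refine Subgroup.map_injective NR.subtype_injective ?_
          rw [Subgroup.map_sup, map_subgroupOf_eq_of_le hXN, map_subgroupOf_eq_of_le inf_le_right,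
            map_subgroupOf_eq_of_le hRC]
        rw [e, Subgroup.map_sup, hπ, QuotientGroup.map_mk'_self, sup_bot_eq]
      have h3 : IsPGroup p ↥((Y.subgroupOf NR).map π) :=
        (((P.2.to_le hQP).to_le inf_le_left).of_equiv (subgroupOfEquivOfLe
          (inf_le_right : Q ⊓ NR ≤ NR)).symm).map π
      obtain ⟨k, hk⟩ := h3.exists_card_eq
      exact ⟨k, by rw [h1, h2, hk]⟩
    have hYR : Y ≤ R := by
      have hXeq := hrad X hXN hXinv le_sup_right hindex
      intro y hy
      have hy' : y ∈ R ⊔ CR := hXeq.le (mem_sup_left hy)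
      rw [← SetLike.mem_coe, coe_mul_of_left_le_normalizer_right _ _
        (le_normalizer.trans hNC : R ≤ normalizer (CR : Set G))] at hy'
      obtain ⟨r, hr, c, hc, rfl⟩ := hy'
      have hcP : c ∈ (P : Subgroup G) := by
        have := mul_mem (inv_mem (hRP hr)) (hQP hy.1)
        rwa [inv_mul_cancel_left] at this
      have hSle : (S : Subgroup ↥CR) ≤ ((P : Subgroup G) ⊓ CR).subgroupOf CR := by
        intro w hw
        have h1 : (w : G) ∈ R ⊓ CR := hS.le ⟨w, hw, rfl⟩
        exact ⟨hRP h1.1, h1.2⟩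
      have heq := S.is_maximal' ((P.2.to_le inf_le_left).of_equiv
        (subgroupOfEquivOfLe (inf_le_right : (P : Subgroup G) ⊓ CR ≤ CR)).symm) hSle
      have hcS : (⟨c, hc⟩ : CR) ∈ (S : Subgroup ↥CR) := heq ▸ ⟨hcP, hc⟩
      exact mul_mem hr (mem_inf.1 (hS.le ⟨_, hcS, rfl⟩)).1
    by_contra hne
    have hlt : R < Q ⊔ R := lt_of_le_of_ne le_sup_right fun e => hne (e.symm ▸ le_sup_left)
    haveI := (P.2.to_le (sup_le hQP hRP)).isNilpotent
    obtain ⟨z, hz, hzR⟩ := SetLike.exists_of_lt (CfsgLib.Fusion.lt_inf_normalizer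
      (P := Q ⊔ R) le_sup_right hlt.ne)
    obtain ⟨hz1, hz2⟩ := mem_inf.1 hz
    rw [← SetLike.mem_coe, sup_comm,
      coe_mul_of_left_le_normalizer_right _ _ (hRP.trans hPN : R ≤ normalizer (Q : Set G))] at hz1
    obtain ⟨r, hr, q, hq, rfl⟩ := hz1
    refine hzR (mul_mem hr (hYR ⟨hq, ?_⟩))
    have := mul_mem (inv_mem (le_normalizer hr : r ∈ NR)) hz2
    rwa [inv_mul_cancel_left] at this
  · intro A hA g hg
    obtain ⟨h, hh, he⟩ := hctl (A : Set G) hA g (by
      rintro _ ⟨a, ha, rfl⟩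
      exact hg ⟨a, ha, rfl⟩)
    refine ⟨h, hh, h⁻¹ * g, mem_centralizer_iff.2 fun a ha => ?_, by group⟩
    calc a * (h⁻¹ * g) = h⁻¹ * (h * a * h⁻¹) * g := by group
      _ = h⁻¹ * g * a := by rw [← he a ha]; group

end Cfsg.Agent.S1953
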