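import Cfsg.Statements.S1958
import Cfsg.Agent.Lib.CFun.OddCores

set_option autoImplicit false
open Cfsg

namespace Cfsg.Agent.S1958

/-- Let `G` be a finite group, `p` a prime, and `x, y` commuting elements of order `p` whose centralizers `C_G(x)` and `C_G(y)` are both solvable. Then `O_{p'}(C_G(x)) ∩ C_G(y) = O_{p'}(C_G(y)) ∩ C_G(x)` (balance). -/
theorem result {G : Type*} [Group G] [Finite G]
    (p : ℕ) [Fact p.Prime] (x y : G) (hx : orderOf x = p) (hy : orderOf y = p) (hxy : x * y = y * x)
    (hCx : Group.IsSolvable ↥(Subgroup.centralizer ({x} : Set G))) (hCy : Group.IsSolvable ↥(Subgroup.centralizer ({y} : Set G))) :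
    Cfsg.centralizerPPrimeCore p x ⊓ Subgroup.centralizer {y} = Cfsg.centralizerPPrimeCore p y ⊓ Subgroup.centralizer {x} := by
  have key : ∀ x y : G, orderOf x = p → x * y = y * x →
      Group.IsSolvable ↥(Subgroup.centralizer ({y} : Set G)) →
      Cfsg.centralizerPPrimeCore p x ⊓ Subgroup.centralizer {y} ≤ Cfsg.centralizerPPrimeCore p y := by
    intro x y hx hxy hsol
    haveI := hsol
    have hcR : Subgroup.centralizer (Subgroup.zpowers x : Set G) = Subgroup.centralizer ({x} : Set G) := by
      rw [Subgroup.zpowers_eq_closure, Subgroup.centralizer_closure]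
    refine CfsgLib.CFun.le_coCore_of_centralizer (r := p) (R := Subgroup.zpowers x)
      (IsPGroup.of_card (n := 1) (by rw [Nat.card_zpowers, hx, pow_one]))
      (fun e => (Fact.out : p.Prime).one_lt.ne (by rw [← hx, Subgroup.zpowers_eq_bot.1 e, orderOf_one]))
      (Subgroup.zpowers_le.2 (Subgroup.mem_centralizer_singleton_iff.2 hxy)) inf_le_right
      (fun hd => CfsgLib.CFun.not_dvd_coCore (hd.trans (Subgroup.card_dvd_of_le inf_le_left))) ?_ ?_
    · rw [hcR]; exact inf_le_left.trans CfsgLib.CFun.coCore_le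
    · rw [hcR]
      exact CfsgLib.Coprime.inf_le_normalizer (inf_le_right.trans CfsgLib.CFun.le_normalizer_coCore)
        (inf_le_left.trans Subgroup.le_normalizer)
  refine le_antisymm (le_inf (key x y hx hxy hCy) ?_) (le_inf (key y x hy hxy.symm hCx) ?_)
  · exact inf_le_left.trans CfsgLib.CFun.coCore_le
  · exact inf_le_left.trans CfsgLib.CFun.coCore_le

end Cfsg.Agent.S1958
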