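import Cfsg.Statements.S1966
import Cfsg.Agent.Lib.CFun.ConjFamily
import Cfsg.Agent.Lib.Coprime.Core

set_option autoImplicit false
open Cfsg

namespace Cfsg.Agent.S1966

/-- Let p be a prime, G a finite group with Sylow p-subgroup S and 𝓕 a conjugation family for S in G. Then the members of 𝓕 containing O_p(G) still form a conjugation family for S in G. -/
theorem result {G : Type*} [Group G] [Finite G] {p : ℕ} [Fact p.Prime] (S : Sylow p G) (𝓕 : Set (Subgroup G)) (h : Cfsg.IsConjugationFamily 𝓕 (S : Subgroup G)) : Cfsg.IsConjugationFamily {T : Subgroup G | T ∈ 𝓕 ∧ Cfsg.pCore p G ≤ T} (S : Subgroup G) := by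
  haveI := CfsgLib.Coprime.pCore_normal' (G := G) p
  exact CfsgLib.CFun.isConjugationFamily_ge S (Cfsg.pCore p G)
    (CfsgLib.Coprime.pCore_isPGroup (G := G) p) h

end Cfsg.Agent.S1966
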