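import Cfsg.Statements.S1967
import Cfsg.Agent.Lib.CFun.FusionGlobal

set_option autoImplicit false
open Cfsg

namespace Cfsg.Agent.S1967

/-- Let p be a prime, G a finite group with Sylow p-subgroup S and W a conjugacy functor for p on G. Then W controls strong fusion in G if and only if, whenever T ≤ S and g ∈ G satisfy gTg⁻¹ ≤ S, one can write g = n c with n ∈ N_G(W(S)) and c ∈ C_G(T). -/
theorem result {G : Type*} [Group G] [Finite G] {p : ℕ} [Fact p.Prime] (S : Sylow p G) (W : Subgroup G → Subgroup G) (hW : Cfsg.IsConjugacyFunctor p W) : Cfsg.ControlsStrongFusionIn p W ⊤ ↔ ∀ (T : Subgroup G) (g : G), T ≤ (S : Subgroup G) → T.map (MulAut.conj g).toMonoidHom ≤ (S : Subgroup G) → ∃ n ∈ Subgroup.normalizer ((W (S : Subgroup G) : Subgroup G) : Set G), ∃ c ∈ Subgroup.centralizer (T : Set G), g = n * c := by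
  have hS : ¬ p ∣ (S : Subgroup G).relIndex ⊤ := by
    rw [Subgroup.relIndex_top_right]; exact S.not_dvd_index
  constructor
  · intro hc T g hTS hgT
    obtain ⟨c, hc', hce⟩ := CfsgLib.CFun.reach_of_control
      (fun W' h => Set.mem_singleton_iff.1 h ▸ hW)
      (CfsgLib.CFun.controlsStrongFusionIn_iff_family.1 hc) le_top S.2 hS (Subgroup.mem_top g)
      (A := (T : Set G)) (fun a ha => hTS ha)
      (fun a ha => CfsgLib.Fusion.conjBy_le_iff.1 hgT a ha)
    have hcN : c ∈ Subgroup.normalizer ((W (S : Subgroup G) : Subgroup G) : Set G) := by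
      clear hce
      induction hc' with
      | one _ => exact one_mem _
      | step c W' w _ hW' hw _ ih =>
        rw [Set.mem_singleton_iff.1 hW'] at hw
        exact mul_mem (Subgroup.mem_inf.1 hw).2 ih
    refine ⟨c, hcN, c⁻¹ * g, Subgroup.mem_centralizer_iff.2 fun a ha => ?_, by group⟩
    have := hce a ha
    calc a * (c⁻¹ * g) = c⁻¹ * (c * a * c⁻¹) * g := by group
      _ = c⁻¹ * g * a := by rw [this]; group
  · intro hf
    refine ⟨S, le_top, S.2, hS, fun A h _ hA hhA => ?_⟩
    obtain ⟨n, hn, c, hc, rfl⟩ := hf (Subgroup.closure A) h ((Subgroup.closure_le _).2 hA) (by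
      rw [MonoidHom.map_closure, Subgroup.closure_le]
      exact hhA)
    refine ⟨n, Subgroup.mem_inf.2 ⟨Subgroup.mem_top n, hn⟩, fun a ha => ?_⟩
    have := Subgroup.mem_centralizer_iff.1 hc a (Subgroup.subset_closure ha)
    calc n * a * n⁻¹ = n * (a * c) * c⁻¹ * n⁻¹ := by group
      _ = n * c * a * (n * c)⁻¹ := by rw [this]; group

end Cfsg.Agent.S1967
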