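import Cfsg.Statements.S1969
import Cfsg.Agent.Lib.CFun.FusionSection

set_option autoImplicit false
universe u
open Cfsg

namespace Cfsg.Agent.S1969

/-- Let p be a prime, G a finite group and W an isomorphism-invariant p-group functor (W assigns to every group Q a subgroup W(Q), nontrivial whenever Q is a nontrivial finite p-group, and every isomorphism from a finite p-group Q onto a group R carries W(Q) onto W(R)). Suppose that W(S*) is normal in G* whenever G* = K/R is a section of G with C_{G*}(O_p(G*)) ≤ O_p(G*) and S* is a Sylow p-subgroup of G*. Then W controls strong fusion in every section of G: for every section K/R and every Sylow p-subgroup T of K/R, the subgroup W(T) controls strong fusion in K/R. -/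
theorem result {G : Type u} [Group G] [Finite G] {p : ℕ} [Fact p.Prime] (W : ∀ (Q : Type u) [Group Q], Subgroup Q) (hW : Cfsg.IsCharPFunctor.{u} p W) (hloc : ∀ (K R : Subgroup G) [hR : (R.subgroupOf K).Normal], Subgroup.centralizer ((Cfsg.pCore p (↥K ⧸ R.subgroupOf K) : Subgroup (↥K ⧸ R.subgroupOf K)) : Set (↥K ⧸ R.subgroupOf K)) ≤ Cfsg.pCore p (↥K ⧸ R.subgroupOf K) → ∀ T : Sylow p (↥K ⧸ R.subgroupOf K), (Cfsg.inducedFunctor (G := (↥K ⧸ R.subgroupOf K)) W ((T : Subgroup (↥K ⧸ R.subgroupOf K)))).Normal) : ∀ (K R : Subgroup G) [hR : (R.subgroupOf K).Normal], ∀ T : Sylow p (↥K ⧸ R.subgroupOf K), Cfsg.ControlsStrongFusion p (Cfsg.inducedFunctor (G := (↥K ⧸ R.subgroupOf K)) W ((T : Subgroup (↥K ⧸ R.subgroupOf K)))) := by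
  intro K R hR T
  refine CfsgLib.CFun.controlsStrongFusion_of_strongAt T (CfsgLib.CFun.strongAt_of_ctrl hW
    (CfsgLib.CFun.strongCtrl_of_constrained hW _ _ rfl fun Y _ _ hY hcon S => ?_) T)
  obtain ⟨A, B, hB, ⟨e⟩⟩ : Cfsg.Involves Y G := CfsgLib.Fusion.involves_of_injective K.subtype
    K.subtype_injective (CfsgLib.Fusion.involves_of_surjective (QuotientGroup.mk' (R.subgroupOf K))
      (QuotientGroup.mk'_surjective _) hY)
  haveI := hB
  have hcon' : Subgroup.centralizer ((Cfsg.pCore p (↥A ⧸ B.subgroupOf A) : Subgroup _) : Set _) ≤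
      Cfsg.pCore p (↥A ⧸ B.subgroupOf A) := by
    intro x hx
    rw [← CfsgLib.Coprime.map_pCore_equiv e.symm]
    refine ⟨e x, hcon (Subgroup.mem_centralizer_iff.2 fun q hq => ?_), e.symm_apply_apply x⟩
    have := Subgroup.mem_centralizer_iff.1 hx (e.symm q) (by
      rw [← CfsgLib.Coprime.map_pCore_equiv e.symm]; exact Subgroup.mem_map_of_mem _ hq)
    simpa using congrArg e this
  let S' : Sylow p (↥A ⧸ B.subgroupOf A) := S.mapSurjective (f := e.symm.toMonoidHom) e.symm.surjective
  have hnor := hloc A B hcon' S'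
  have hmap : (S' : Subgroup (↥A ⧸ B.subgroupOf A)).map e.toMonoidHom = (S : Subgroup Y) := by
    show ((S : Subgroup Y).map e.symm.toMonoidHom).map e.toMonoidHom = _
    rw [Subgroup.map_map]
    ext y
    simp
  rw [← hmap, CfsgLib.CFun.induced_map hW S'.2 e.toMonoidHom e.injective]
  exact hnor.map _ e.surjective

end Cfsg.Agent.S1969
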