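import Cfsg.Statements.S1985
import Cfsg.Agent.Lib.CFun.KQuad

set_option autoImplicit false
universe u
open Cfsg

namespace Cfsg.Agent.S1985

/-- Let p be an odd prime and G a finite group. Then the lower K-infinity subgroup controls weak closure of elements in G: the lower K-infinity subgroup of every p-subgroup P of G contains Z(P), and for some (equivalently, every) Sylow p-subgroup S of G, with K the lower K-infinity subgroup of S, every element of S commuting with all of N_G(K) is weakly closed in S with respect to G (every G-conjugate of it lying in S equals it). -/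
theorem result {G : Type u} [Group G] [Finite G] {p : ℕ} [Fact p.Prime] (hp : p ≠ 2) : Cfsg.ControlsWeakClosureOfElementsIn p (Cfsg.inducedFunctor (G := G) Cfsg.kInfLower) ⊤ := by
  have hp2 : 2 ≤ p - 1 := by
    have := (Fact.out : p.Prime).two_le
    omega
  obtain ⟨T, -, hTH, hT, hTi⟩ := CfsgLib.Fusion.exists_le_not_dvd_relIndex (p := p)
    (IsPGroup.of_bot (G := G) (p := p)) (bot_le (a := (⊤ : Subgroup G)))
  refine ⟨fun P _ => (CfsgLib.CFun.cen_le_induced_kInf P).1, T, hTH, hT, hTi,
    fun x hx h hh hhx => CfsgLib.CFun.weaklyClosed_of_engel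
      (CfsgLib.CFun.isConjugacyFunctor_induced CfsgLib.CFun.kInfLower_isCharPFunctor)
      (fun P _ => (CfsgLib.CFun.cen_le_induced_kInf P).1)
      (fun H T hTH hT hTi hne => ?_) hTH hT hTi hx hh hhx⟩
  obtain ⟨g, hgT, hgQ, h2⟩ := CfsgLib.CFun.kInfLower_quadratic hTH hT hTi hne
  refine ⟨g, hgT, hgQ, fun U V hc hU => ?_⟩
  have hn : Subgroup.zpowers g ≤ Subgroup.normalizer ((U.map H.subtype : Subgroup G) : Set G) := by
    haveI := hc.2.1
    refine Subgroup.zpowers_le.2 (Subgroup.le_normalizer_map H.subtype ?_)
    exact ⟨⟨g, hTH hgT⟩, by rw [Subgroup.normalizer_eq_top U]; exact Subgroup.mem_top _, rfl⟩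
  refine (CfsgLib.CFun.iterCommutator_antitone hn hp2).trans ?_
  exact ((CfsgLib.CFun.iterCommutator_mono hU le_rfl 2).trans h2.le).trans bot_le

end Cfsg.Agent.S1985
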