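import Cfsg.Statements.S1988
import Cfsg.Agent.S1990
import Cfsg.Agent.S1987
import Cfsg.Agent.Lib.CFun.Automizer
import Cfsg.Agent.Lib.CFun.KFunctor

set_option autoImplicit false
universe u
open Cfsg

namespace Cfsg.Agent.S1988

/-- Let p be an odd prime, G a finite group with Sylow p-subgroup S and K the lower K-infinity subgroup of S. If N_G(K) has a normal p-complement, or if N_G(K)/C_G(K) is a p-group (every element of N_G(K) of order prime to p centralizes K), then G has a normal p-complement. -/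
theorem result {G : Type u} [Group G] [Finite G] {p : ℕ} [Fact p.Prime] (hp : p ≠ 2) (S : Sylow p G) (h : Cfsg.HasNormalPComplement p ↥(Subgroup.normalizer ((Cfsg.inducedFunctor Cfsg.kInfLower (S : Subgroup G) : Subgroup G) : Set G)) ∨ ∀ g ∈ Subgroup.normalizer ((Cfsg.inducedFunctor Cfsg.kInfLower (S : Subgroup G) : Subgroup G) : Set G), (orderOf g).Coprime p → g ∈ Subgroup.centralizer ((Cfsg.inducedFunctor Cfsg.kInfLower (S : Subgroup G) : Subgroup G) : Set G)) : Cfsg.HasNormalPComplement p G := by
  refine Cfsg.Agent.S1990.result hp Cfsg.kInfLower CfsgLib.CFun.kInfLower_isCharPFunctor S ?_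
    (fun K R _ hst T => Cfsg.Agent.S1987.result hp hst T)
  rcases h with h | h
  · exact h
  set X := Cfsg.inducedFunctor Cfsg.kInfLower (S : Subgroup G)
  refine CfsgLib.CFun.hasNormalPComplement_normalizer_of_automizer S X ?_ ?_ h
  · exact Subgroup.le_normalizer.trans (CfsgLib.CFun.cfun_normalizer_le
      (CfsgLib.CFun.isConjugacyFunctor_induced CfsgLib.CFun.kInfLower_isCharPFunctor) S.2)
  · intro x hx
    obtain ⟨hxS, hxC⟩ := Subgroup.mem_inf.1 hx
    have hmem : (⟨x, hxS⟩ : (S : Subgroup G)) ∈ Cfsg.kInfLower (S : Subgroup G) :=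
      (CfsgLib.CFun.centralizer_kInf_le S.2).1 (Subgroup.mem_centralizer_iff.2 fun y hy =>
        Subtype.ext (Subgroup.mem_centralizer_iff.1 hxC y (Subgroup.mem_map_of_mem _ hy)))
    exact ⟨_, hmem, rfl⟩

end Cfsg.Agent.S1988
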