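import Cfsg.Statements.S1989
import Cfsg.Agent.Lib.CFun.QdFree
import Cfsg.Agent.Lib.CFun.QdCounterexample

set_option autoImplicit false
universe u
open Cfsg

namespace Cfsg.Agent.S1989

/-- Let p be an odd prime and G a finite group. Then Qd(p) (the natural semidirect product of an elementary abelian group of order p² by SL₂(p)) is not involved in G if and only if, in every section K/R of G and for every Sylow p-subgroup T of K/R, the lower K-infinity subgroup of T controls strong fusion in K/R. -/
theorem result {G : Type u} [Group G] [Finite G] {p : ℕ} [Fact p.Prime] (hp : p ≠ 2) : ¬ Cfsg.Involves ↥(Cfsg.qd p) G ↔ ∀ (K R : Subgroup G) [hR : (R.subgroupOf K).Normal], ∀ T : Sylow p (↥K ⧸ R.subgroupOf K), Cfsg.ControlsStrongFusion p (Cfsg.inducedFunctor (G := (↥K ⧸ R.subgroupOf K)) Cfsg.kInfLower (T : Subgroup (↥K ⧸ R.subgroupOf K))) := by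
  constructor
  · intro hfree K R hR T
    refine CfsgLib.CFun.controlsStrongFusion_of_strongAt T (CfsgLib.CFun.strongAt_of_ctrl
      CfsgLib.CFun.kInfLower_isCharPFunctor (CfsgLib.CFun.strongCtrl_kInf_of_qdFree hp ?_).1 T)
    exact fun h => hfree (CfsgLib.Fusion.involves_of_injective K.subtype K.subtype_injective
      (CfsgLib.Fusion.involves_of_surjective (QuotientGroup.mk' (R.subgroupOf K))
        (QuotientGroup.mk'_surjective _) h))
  · rintro h ⟨K, R, hR, ⟨e⟩⟩
    haveI := hR
    obtain ⟨T⟩ := (inferInstance : Nonempty (Sylow p (↥K ⧸ R.subgroupOf K)))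
    exact CfsgLib.CFun.qd_not_strongCtrl e (CfsgLib.CFun.ctrl_of_strongAt T
      (CfsgLib.CFun.strongAt_of_controlsStrongFusion CfsgLib.CFun.kInfLower_isCharPFunctor T
        (h K R T)))

end Cfsg.Agent.S1989
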