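import Cfsg.Statements.S1992
import Cfsg.Agent.S1991
import Cfsg.Agent.Lib.Char.Burnside
import Mathlib.GroupTheory.Nilpotent
import Mathlib.GroupTheory.Solvable

set_option autoImplicit false
open Cfsg

namespace Cfsg.Agent.S1992

universe u

open Subgroup in
theorem main (n : ℕ) : ∀ (G : Type u) [Group G] [Finite G], Nat.card G = n →
    (∀ q : ℕ, q.Prime → q ∣ Nat.card G → ∀ Q : Sylow q G,
      normalizer ((Q : Subgroup G) : Set G) = Q) → ∃ q : ℕ, q.Prime ∧ IsPGroup q G := by
  induction n using Nat.strong_induction_on with
  | _ n ih =>
    intro G _ _ hn h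
    classical
    by_cases hp : ∀ N : Subgroup G, N.Normal → N = ⊥ ∨ N = ⊤
    · -- no proper normal subgroup
      rcases subsingleton_or_nontrivial G with hs | hs
      · exact ⟨2, Nat.prime_two, fun g => ⟨0, Subsingleton.elim _ _⟩⟩
      haveI : IsSimpleGroup G := ⟨hp⟩
      by_cases h5 : ∃ q, q.Prime ∧ 5 ≤ q ∧ q ∣ Nat.card G
      · obtain ⟨q, hq, hq5, hqd⟩ := h5
        haveI := Fact.mk hq
        obtain ⟨Q⟩ := (inferInstance : Nonempty (Sylow q G))
        have hQ : (Q : Subgroup G) ≠ ⊥ := by
          intro e
          have := Q.not_dvd_index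
          rw [e, Subgroup.index_bot] at this
          exact this hqd
        obtain ⟨N, hN, hNi⟩ := Cfsg.Agent.S1991.result (p := q) hq5 Q hQ (fun g hg hcop => by
          rw [h q hq hqd Q] at hg
          have h1 : g = 1 := by
            obtain ⟨k, hk⟩ := Q.2 ⟨g, hg⟩
            exact orderOf_eq_one_iff.1 (Nat.eq_one_of_dvd_coprimes
              (Nat.Coprime.pow_right k hcop) dvd_rfl
              (orderOf_dvd_of_pow_eq_one (congrArg Subtype.val hk)))
          rw [h1]
          exact one_mem _)
        rcases hp N hN with rfl | rfl
        · rw [Subgroup.index_bot] at hNi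
          exact ⟨q, hq, IsPGroup.of_card (n := 1) (by rw [pow_one, hNi])⟩
        · rw [Subgroup.index_top] at hNi
          exact absurd hNi.symm hq.ne_one
      · push Not at h5
        have hc : Nat.card G = 2 ^ (Nat.card G).factorization 2 * 3 ^ (Nat.card G).factorization 3 := by
          refine Nat.eq_of_factorization_eq Nat.card_pos.ne' (by positivity) fun r => ?_
          rw [Nat.factorization_mul (by positivity) (by positivity), Nat.Prime.factorization_pow
            Nat.prime_two, Nat.Prime.factorization_pow Nat.prime_three, Finsupp.add_apply,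
            Finsupp.single_apply, Finsupp.single_apply]
          by_cases hr : r.Prime ∧ r ∣ Nat.card G
          · have : r < 5 := by
              by_contra hge
              exact h5 r hr.1 (not_lt.1 hge) hr.2
            have h2 := hr.1.two_le
            interval_cases r
            · simp
            · simp
            · exact absurd hr.1 (by norm_num)
          · have h0 : (Nat.card G).factorization r = 0 := by
              rw [not_and_or] at hr
              rcases hr with hr | hr
              · exact Nat.factorization_eq_zero_of_not_prime _ hr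
              · exact Nat.factorization_eq_zero_of_not_dvd hr
            rw [h0]
            by_cases e2 : 2 = r
            · subst e2; simp [h0]
            · by_cases e3 : 3 = r
              · subst e3; simp [h0]
              · simp [e2, e3]
        haveI := CfsgLib.Char.isSolvable_of_card_two_primes Nat.prime_two Nat.prime_three G _ _ hc
        -- a solvable simple group is cyclic of prime order
        have hcomm : commutator G = ⊥ := (hp _ inferInstance).resolve_right
          (Group.IsSolvable.commutator_lt_top_of_nontrivial G).ne
        letI : CommGroup G :=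
          { (inferInstance : Group G) with
            mul_comm := fun a b => commutatorElement_eq_one_iff_mul_comm.1 (Subgroup.mem_bot.1
              (hcomm ▸ Subgroup.commutator_mem_commutator (mem_top a) (mem_top b))) }
        exact ⟨Nat.card G, IsSimpleGroup.prime_card, IsPGroup.of_card (n := 1) (pow_one _).symm⟩
    · push Not at hp
      obtain ⟨N, hN, hNb, hNt⟩ := hp
      haveI := hN
      have hlt : Nat.card (G ⧸ N) < n := by
        have h1 : 1 < Nat.card N := (Subgroup.one_lt_card_iff_ne_bot N).2 hNb
        rw [← hn, Subgroup.card_eq_card_quotient_mul_card_subgroup N]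
        exact lt_mul_of_one_lt_right Nat.card_pos h1
      set π := QuotientGroup.mk' N
      have hπ := QuotientGroup.mk'_surjective N
      have hquot : ∀ q : ℕ, q.Prime → q ∣ Nat.card (G ⧸ N) → ∀ Q : Sylow q (G ⧸ N),
          normalizer ((Q : Subgroup (G ⧸ N)) : Set (G ⧸ N)) = Q := by
        intro q hq hqd Q
        haveI := Fact.mk hq
        obtain ⟨P, hP⟩ := Sylow.mapSurjective_surjective hπ q Q
        subst hP
        refine le_antisymm (fun y hy => ?_) le_normalizer
        obtain ⟨g, rfl⟩ := hπ y
        -- Frattini argument in the preimage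
        set R := ((P : Subgroup G).map π).comap π with hR
        have hPR : (P : Subgroup G) ≤ R := le_comap_map _ _
        have hgR : g ∈ normalizer (R : Set G) := by
          refine mem_normalizer_iff.2 fun z => ?_
          rw [hR, mem_comap, mem_comap, map_mul, map_mul, map_inv]
          exact mem_normalizer_iff.1 hy _
        obtain ⟨m, hm, hle⟩ := CfsgLib.Fusion.exists_conj_le_of_not_dvd_relIndex P.2 hPR
          (fun hd => P.not_dvd_index (hd.trans (relIndex_dvd_index_of_le hPR)))
          (CfsgLib.Fusion.isPGroup_conjBy g P.2) (CfsgLib.Fusion.conjBy_le_iff.2 fun x hx =>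
            (mem_normalizer_iff.1 hgR x).1 (hPR hx))
        rw [CfsgLib.Fusion.conjBy_conjBy] at hle
        have hqG : q ∣ Nat.card G := hqd.trans (Subgroup.card_quotient_dvd_card N)
        have hmg : m * g ∈ (P : Subgroup G) := by
          rw [← h q hq hqG P]
          exact CfsgLib.Fusion.conjBy_eq_iff.1 (CfsgLib.Fusion.conjBy_eq_of_le hle)
        have : g ∈ R := by simpa using mul_mem (inv_mem hm) (hPR hmg)
        exact this
      obtain ⟨r, hr, hrG⟩ := ih _ hlt (G ⧸ N) rfl hquot
      refine ⟨r, hr, ?_⟩
      haveI := Fact.mk hr
      by_contra hG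
      obtain ⟨q, hq, hqd, hqr⟩ : ∃ q, q.Prime ∧ q ∣ Nat.card N ∧ q ≠ r := by
        by_contra hall
        push Not at hall
        refine hG (IsPGroup.of_card (n := (Nat.card G).primeFactorsList.length) ?_)
        refine Nat.eq_prime_pow_of_unique_prime_dvd (Nat.card_pos (α := G)).ne' fun {d} hd hdvd => ?_
        rw [Subgroup.card_eq_card_quotient_mul_card_subgroup N] at hdvd
        rcases (Nat.Prime.dvd_mul hd).1 hdvd with e | e
        · obtain ⟨k, hk⟩ := hrG.exists_card_eq
          exact (Nat.prime_dvd_prime_iff_eq hd hr).1 (hd.dvd_of_dvd_pow (hk ▸ e))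
        · exact hall d hd e
      haveI := Fact.mk hq
      obtain ⟨Q⟩ := (inferInstance : Nonempty (Sylow q G))
      have hQN : (Q : Subgroup G) ≤ N := by
        intro x hx
        obtain ⟨k, hk⟩ := Q.2 ⟨x, hx⟩
        obtain ⟨l, hl⟩ := hrG (π x)
        rw [← QuotientGroup.eq_one_iff]
        refine orderOf_eq_one_iff.1 (Nat.eq_one_of_dvd_coprimes
          (Nat.Coprime.pow k l ((Nat.coprime_primes hq hr).2 hqr))
          (orderOf_dvd_of_pow_eq_one ?_) (orderOf_dvd_of_pow_eq_one hl))
        rw [← QuotientGroup.mk_pow, show x ^ q ^ k = 1 from congrArg Subtype.val hk]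
        rfl
      have := Sylow.normalizer_sup_eq_top' Q hQN
      have e : normalizer (Q : Set G) = (Q : Subgroup G) :=
        h q hq (hqd.trans (Subgroup.card_subgroup_dvd_card N)) Q
      rw [e, sup_eq_right.2 hQN] at this
      exact hNt this

/-- Let G be a finite group in which, for every prime q dividing the order of G, every Sylow q-subgroup is its own normalizer. Then the order of G is a power of a single prime (G is a q-group for some prime q; for G trivial any prime works). -/
theorem result {G : Type*} [Group G] [Finite G] (h : ∀ q : ℕ, q.Prime → q ∣ Nat.card G → ∀ Q : Sylow q G, Subgroup.normalizer ((Q : Subgroup G) : Set G) = Q) : ∃ q : ℕ, q.Prime ∧ IsPGroup q G := by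
  exact Cfsg.Agent.S1992.main _ G rfl h

end Cfsg.Agent.S1992
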