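import Cfsg.Statements.S1993
import Cfsg.Agent.Lib.CFun.QdFree
import Cfsg.Agent.S2795

set_option autoImplicit false
universe u
open Cfsg

namespace Cfsg.Agent.S1993

/-- Let p be a prime, G a finite group with Sylow p-subgroup S, and K the upper K-infinity subgroup of S. If p ≥ 5 then S ∩ G' = S ∩ (N_G(K))'; and if p is odd and every section of G is p-stable in the normalizer form, then K controls strong fusion in G. -/
theorem result {G : Type u} [Group G] [Finite G] {p : ℕ} [Fact p.Prime] (S : Sylow p G) : (5 ≤ p → (S : Subgroup G) ⊓ commutator G = (S : Subgroup G) ⊓ ⁅Subgroup.normalizer ((Cfsg.inducedFunctor Cfsg.kInfUpper (S : Subgroup G) : Subgroup G) : Set G), Subgroup.normalizer ((Cfsg.inducedFunctor Cfsg.kInfUpper (S : Subgroup G) : Subgroup G) : Set G)⁆) ∧ (p ≠ 2 → (∀ (K R : Subgroup G) [hR : (R.subgroupOf K).Normal], Cfsg.IsNormalizerPStable p (↥K ⧸ R.subgroupOf K)) → Cfsg.ControlsStrongFusion p (Cfsg.inducedFunctor Cfsg.kInfUpper (S : Subgroup G)))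 := by
  refine ⟨fun hp => ?_, fun hp hst => CfsgLib.CFun.controlsStrongFusion_of_strongAt S
    (CfsgLib.CFun.strongAt_of_ctrl CfsgLib.CFun.kInfUpper_isCharPFunctor
      (CfsgLib.CFun.strongCtrl_kInf_of_qdFree hp ((Cfsg.Agent.S2795.result hp).2 hst)).2 S)⟩
  have h := (CfsgLib.CFun.ctrl_iff (fun W' hW' => Set.mem_singleton_iff.1 hW' ▸
    CfsgLib.CFun.kInfUpper_isCharPFunctor) S).1
      (CfsgLib.CFun.ctrl_of_quartic (G := G) CfsgLib.CFun.kInfUpper_isCharPFunctor hp
        fun _ _ _ _ hn => Or.inr hn)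
  rw [h]
  simp [CfsgLib.CFun.famSup, CfsgLib.CFun.indFam]

end Cfsg.Agent.S1993
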