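import Cfsg.Statements.S1995
import Cfsg.Agent.Lib.CFun.SectionInd

set_option autoImplicit false
universe u
open Cfsg

namespace Cfsg.Agent.S1995

/-- Let p be a prime, G a finite group and 𝓦 a set of isomorphism-invariant p-group functors (W assigns to every group Q a subgroup W(Q), nontrivial whenever Q is a nontrivial finite p-group, and every isomorphism from a finite p-group Q onto a group R carries W(Q) onto W(R)). If the conjugacy functors induced by 𝓦 control transfer in every section G* = K/R of G with C_{G*}(O_p(G*)) ≤ O_p(G*), then they control transfer in G: S ∩ G' is generated by the subgroups S ∩ (N_G(W(S)))', W ∈ 𝓦, for a Sylow p-subgroup S. -/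
theorem result {G : Type u} [Group G] [Finite G] {p : ℕ} [Fact p.Prime] (𝓦 : Set (∀ (Q : Type u) [Group Q], Subgroup Q)) (h𝓦 : ∀ W ∈ 𝓦, Cfsg.IsCharPFunctor.{u} p W) (hloc : ∀ (K R : Subgroup G) [hR : (R.subgroupOf K).Normal], Subgroup.centralizer ((Cfsg.pCore p (↥K ⧸ R.subgroupOf K) : Subgroup (↥K ⧸ R.subgroupOf K)) : Set (↥K ⧸ R.subgroupOf K)) ≤ Cfsg.pCore p (↥K ⧸ R.subgroupOf K) → Cfsg.FamilyControlsTransferIn p ((fun W => Cfsg.inducedFunctor (G := (↥K ⧸ R.subgroupOf K)) W) '' 𝓦) ⊤) : Cfsg.FamilyControlsTransferIn p ((fun W => Cfsg.inducedFunctor (G := G) W) '' 𝓦) ⊤ := by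
  classical
  by_contra hfail
  rcases 𝓦.eq_empty_or_nonempty with h0 | hne
  · subst h0
    obtain ⟨S⟩ := (inferInstance : Nonempty (Sylow p G))
    refine hfail ((CfsgLib.CFun.ctrl_iff (𝓦 := ∅) (fun _ h => h.elim) S).2 ?_)
    let top' : ∀ (Q : Type u) [Group Q], Subgroup Q := fun Q _ => ⊤
    have htop : Cfsg.IsCharPFunctor.{u} p top' :=
      ⟨fun Q _ _ _ hQ => top_ne_bot, fun Q R _ _ _ _ φ => Subgroup.map_top_of_surjective _ φ.surjective⟩
    have hbot : ∀ (X : Type u) [Group X], CfsgLib.CFun.famSup
        (CfsgLib.CFun.indFam X (∅ : Set (∀ (Q : Type u) [Group Q], Subgroup Q))) = fun _ _ => ⊥ := by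
      intro X _
      funext A B
      simp [CfsgLib.CFun.famSup, CfsgLib.CFun.indFam]
    rw [hbot]
    -- the whole group is controlled by the normalizer of its Sylow subgroup
    have hctrl : CfsgLib.CFun.Ctrl p ({top'} : Set _) G := by
      by_contra hf
      obtain ⟨K', R', hR', hm⟩ := CfsgLib.CFun.exists_minFail (p := p)
        (fun W' hW' => Set.mem_singleton_iff.1 hW' ▸ htop) (Set.singleton_nonempty top') hf
      haveI := hR'
      obtain ⟨T⟩ := (inferInstance : Nonempty (Sylow p (↥K' ⧸ R'.subgroupOf K')))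
      refine hm.not_le T ?_
      have := (CfsgLib.CFun.ctrl_iff (𝓦 := ∅) (fun _ h => h.elim) T).1 (hloc K' R' hm.constrained)
      rw [hbot] at this
      rw [this]
      exact bot_le
    have h1 := (CfsgLib.CFun.ctrl_iff (fun W' hW' => Set.mem_singleton_iff.1 hW' ▸ htop) S).1 hctrl
    rw [h1]
    refine le_bot_iff.1 (iSup₂_le fun W' hW' => ?_)
    obtain ⟨W, hW, rfl⟩ := hW'
    obtain rfl := Set.mem_singleton_iff.1 hW
    -- the normalizer of the Sylow subgroup, modulo its `p'`-core
    set N := Subgroup.normalizer ((S : Subgroup G) : Set G)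
    have hS : Cfsg.inducedFunctor top' (S : Subgroup G) = (S : Subgroup G) := by
      show (⊤ : Subgroup (S : Subgroup G)).map _ = _
      rw [← MonoidHom.range_eq_map, Subgroup.range_subtype]
    simp only [top_inf_eq, hS]
    set P : Sylow p N := S.subtype Subgroup.le_normalizer
    haveI hPn : (P : Subgroup N).Normal := Subgroup.normal_in_normalizer
    haveI := CfsgLib.Coprime.pPrimeCore_characteristic (G := N) p
    have hX : CfsgLib.CFun.Ctrl p (∅ : Set _) N := by
      refine CfsgLib.CFun.ctrl_of_quotient_pPrime (fun _ h => h.elim) _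
        (CfsgLib.Coprime.pPrimeCore_not_dvd Fact.out) ?_
      set X := N ⧸ Cfsg.pPrimeCore p N
      haveI hn : ((Cfsg.pPrimeCore p N).map N.subtype |>.subgroupOf N).Normal := by
        rw [Subgroup.subgroupOf, Subgroup.comap_map_eq_self_of_injective N.subtype_injective]
        infer_instance
      have e : ↥N ⧸ ((Cfsg.pPrimeCore p N).map N.subtype).subgroupOf N ≃* X :=
        QuotientGroup.quotientMulEquivOfEq
          (Subgroup.comap_map_eq_self_of_injective N.subtype_injective _)
      refine CfsgLib.CFun.ctrl_congr (fun _ h => h.elim) e (hloc N _ ?_)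
      obtain ⟨T⟩ := (inferInstance : Nonempty (Sylow p (↥N ⧸ ((Cfsg.pPrimeCore p N).map N.subtype).subgroupOf N)))
      refine CfsgLib.CFun.centralizer_pCore_le_of_inf_le ?_ T ?_
      · rw [← CfsgLib.Coprime.map_pPrimeCore_equiv e.symm,
          CfsgLib.Coprime.pPrimeCore_quotient_eq_bot Fact.out, Subgroup.map_bot]
      · haveI hTn : T.toSubgroup.Normal := by
          set π := QuotientGroup.mk' (((Cfsg.pPrimeCore p N).map N.subtype).subgroupOf N)
          haveI : Subsingleton (Sylow p (↥N ⧸ ((Cfsg.pPrimeCore p N).map N.subtype).subgroupOf N)) :=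
            Sylow.unique_of_normal (P.mapSurjective (QuotientGroup.mk'_surjective _))
              (Subgroup.Normal.map hPn π (QuotientGroup.mk'_surjective _)) |>.instSubsingleton
          rw [Subsingleton.elim T (P.mapSurjective (QuotientGroup.mk'_surjective _))]
          exact Subgroup.Normal.map hPn π (QuotientGroup.mk'_surjective _)
        exact inf_le_left.trans (CfsgLib.Coprime.le_pCore T.2)
    have h2 := (CfsgLib.CFun.ctrl_iff (fun _ h => h.elim) P).1 hX
    rw [hbot] at h2
    have h3 := congrArg (Subgroup.map N.subtype) h2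
    rw [Subgroup.map_inf _ _ _ N.subtype_injective, Subgroup.map_bot,
      N.map_subtype_commutator] at h3
    rw [← h3]
    refine inf_le_inf (le_of_eq ?_) le_rfl
    exact (Subgroup.map_subgroupOf_eq_of_le Subgroup.le_normalizer).symm
  · obtain ⟨K', R', hR', hm⟩ := CfsgLib.CFun.exists_minFail h𝓦 hne hfail
    haveI := hR'
    exact hm.fail (hloc K' R' hm.constrained)

end Cfsg.Agent.S1995
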