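import Cfsg.Statements.S1996
import Cfsg.Agent.Lib.CFun.FamilySection

set_option autoImplicit false
universe u
open Cfsg

namespace Cfsg.Agent.S1996

/-- Let p be a prime, G a finite group and W₁, W₂ two isomorphism-invariant p-group functors (W assigns to every group Q a subgroup W(Q), nontrivial whenever Q is a nontrivial finite p-group, and every isomorphism from a finite p-group Q onto a group R carries W(Q) onto W(R)). Suppose that G* = N_{G*}(W₁(S*)) N_{G*}(W₂(S*)) whenever G* = K/R is a section of G with C_{G*}(O_p(G*)) ≤ O_p(G*) and S* is a Sylow p-subgroup of G*. Then the pair {W₁, W₂} controls strong fusion in G. -/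
theorem result {G : Type u} [Group G] [Finite G] {p : ℕ} [Fact p.Prime] (W₁ W₂ : ∀ (Q : Type u) [Group Q], Subgroup Q) (hW₁ : Cfsg.IsCharPFunctor.{u} p W₁) (hW₂ : Cfsg.IsCharPFunctor.{u} p W₂) (hfac : ∀ (K R : Subgroup G) [hR : (R.subgroupOf K).Normal], Subgroup.centralizer ((Cfsg.pCore p (↥K ⧸ R.subgroupOf K) : Subgroup (↥K ⧸ R.subgroupOf K)) : Set (↥K ⧸ R.subgroupOf K)) ≤ Cfsg.pCore p (↥K ⧸ R.subgroupOf K) → ∀ T : Sylow p (↥K ⧸ R.subgroupOf K), ∀ x : (↥K ⧸ R.subgroupOf K), ∃ a ∈ Subgroup.normalizer ((Cfsg.inducedFunctor (G := (↥K ⧸ R.subgroupOf K)) W₁ (T : Subgroup (↥K ⧸ R.subgroupOf K)) : Subgroup (↥K ⧸ R.subgroupOf K)) : Set (↥K ⧸ R.subgroupOf K)), ∃ b ∈ Subgroup.normalizer ((Cfsg.inducedFunctor (G := (↥K ⧸ R.subgroupOf K)) W₂ (T : Subgroup (↥K ⧸ R.subgroupOf K)) : Subgroup (↥K ⧸ R.subgroupOf K)) : Set (↥K ⧸ R.subgroupOf K)), x = a * b) : Cfsg.FamilyControlsStrongFusionIn p {Cfsg.inducedFunctor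 (G := G) W₁, Cfsg.inducedFunctor (G := G) W₂} ⊤ := by
  have h𝓦 : ∀ W ∈ ({W₁, W₂} : Set (∀ (Q : Type u) [Group Q], Subgroup Q)),
      Cfsg.IsCharPFunctor.{u} p W := by
    rintro W (rfl | rfl) <;> assumption
  have := CfsgLib.CFun.famCtrl_of_sections (G := G) h𝓦 fun K R _ hcon => by
    obtain ⟨T⟩ := (inferInstance : Nonempty (Sylow p (↥K ⧸ R.subgroupOf K)))
    refine CfsgLib.CFun.famCtrl_of_strongAtF T fun A g hA hgA => ?_
    obtain ⟨a, ha, b, hb, rfl⟩ := hfac K R hcon T g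
    set N₁ := Subgroup.normalizer ((Cfsg.inducedFunctor W₁ (T : Subgroup (↥K ⧸ R.subgroupOf K)) :
      Subgroup (↥K ⧸ R.subgroupOf K)) : Set (↥K ⧸ R.subgroupOf K))
    set N₂ := Subgroup.normalizer ((Cfsg.inducedFunctor W₂ (T : Subgroup (↥K ⧸ R.subgroupOf K)) :
      Subgroup (↥K ⧸ R.subgroupOf K)) : Set (↥K ⧸ R.subgroupOf K))
    set T0 : Subgroup (↥K ⧸ R.subgroupOf K) := (T : Subgroup (↥K ⧸ R.subgroupOf K))
    have hT1 : T0 ≤ N₁ := Subgroup.le_normalizer.trans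
      (CfsgLib.CFun.cfun_normalizer_le (CfsgLib.CFun.isConjugacyFunctor_induced hW₁) T.2)
    have hT2 : T0 ≤ N₂ := Subgroup.le_normalizer.trans
      (CfsgLib.CFun.cfun_normalizer_le (CfsgLib.CFun.isConjugacyFunctor_induced hW₂) T.2)
    have hX : CfsgLib.Fusion.conjBy b (Subgroup.closure A) ≤ N₁ ⊓ N₂ := by
      show (Subgroup.closure A).map _ ≤ _
      rw [MonoidHom.map_closure, Subgroup.closure_le]
      rintro _ ⟨x, hx, rfl⟩
      refine Subgroup.mem_inf.2 ⟨?_, mul_mem (mul_mem hb (hT2 (hA x hx))) (inv_mem hb)⟩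
      show b * x * b⁻¹ ∈ N₁
      rw [show b * x * b⁻¹ = a⁻¹ * (a * b * x * (a * b)⁻¹) * a by group]
      exact mul_mem (mul_mem (inv_mem ha) (hT1 (hgA x hx))) ha
    obtain ⟨m, hm, hle⟩ := CfsgLib.Fusion.exists_conj_le_of_not_dvd_relIndex T.2
      (le_inf hT1 hT2)
      (fun hd => T.not_dvd_index (hd.trans (Subgroup.relIndex_dvd_index_of_le (le_inf hT1 hT2))))
      (CfsgLib.Fusion.isPGroup_conjBy b (T.2.to_le ((Subgroup.closure_le _).2 hA))) hX
    obtain ⟨hm1, hm2⟩ := Subgroup.mem_inf.1 hm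
    have hmem : ∀ x ∈ A, m * b * x * (m * b)⁻¹ ∈ T0 := fun x hx => by
      have := CfsgLib.Fusion.conjBy_le_iff.1 hle (b * x * b⁻¹)
        (CfsgLib.Fusion.conj_mem_conjBy (Subgroup.subset_closure hx))
      convert this using 1
      group
    have r₁ : CfsgLib.CFun.Reach (CfsgLib.CFun.indFam (↥K ⧸ R.subgroupOf K) {W₁, W₂}) ⊤ T0 A
        (m * b) :=
      CfsgLib.CFun.reach_step (F := CfsgLib.CFun.indFam (↥K ⧸ R.subgroupOf K) {W₁, W₂}) (W := Cfsg.inducedFunctor W₂) ⟨W₂, Or.inr rfl, rfl⟩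
        (Subgroup.mem_inf.2 ⟨Subgroup.mem_top _, mul_mem hm2 hb⟩) hA hmem
    have r := r₁.trans (k := a * m⁻¹)
      (CfsgLib.CFun.reach_step (F := CfsgLib.CFun.indFam (↥K ⧸ R.subgroupOf K) {W₁, W₂}) (W := Cfsg.inducedFunctor W₁) ⟨W₁, Or.inl rfl, rfl⟩
        (Subgroup.mem_inf.2 ⟨Subgroup.mem_top _, mul_mem ha (inv_mem hm1)⟩)
        (by rintro _ ⟨x, hx, rfl⟩; exact hmem x hx)
        (by
          rintro _ ⟨x, hx, rfl⟩
          convert hgA x hx using 1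
          group))
    rwa [show a * m⁻¹ * (m * b) = a * b by group] at r
  rwa [CfsgLib.CFun.FamCtrl, CfsgLib.CFun.indFam, Set.image_pair] at this

end Cfsg.Agent.S1996
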