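import Cfsg.Statements.S1997
import Cfsg.Agent.Lib.CFun.FamilySection
import Cfsg.Agent.Lib.CFun.StableConstrained

set_option autoImplicit false
universe u
open Cfsg

namespace Cfsg.Agent.S1997

open Subgroup

variable {G : Type u} [Group G] [Finite G] {p : ℕ} [Fact p.Prime]

/-- `Ω₁Z(S)`. -/
abbrev omz {G : Type u} [Group G] (p : ℕ) (S : Subgroup G) : Subgroup G :=
  Cfsg.omegaOne p (S ⊓ Subgroup.centralizer (S : Set G))

theorem omega_le (S : Subgroup G) : (omz p S) ≤ S ⊓ centralizer (S : Set G) :=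
  (closure_le _).2 fun _ hx => hx.1

theorem quotient_core_bot {X : Type u} [Group X] [Finite X] (K : Subgroup X) [K.Normal]
    (hK : K = Cfsg.pPrimeCore p X) :
    Cfsg.pPrimeCore p (X ⧸ K) = ⊥ ∧ ¬ p ∣ Nat.card K := by
  subst hK
  exact ⟨CfsgLib.Coprime.pPrimeCore_quotient_eq_bot Fact.out,
    CfsgLib.Coprime.pPrimeCore_not_dvd Fact.out⟩

/-- The factorization `C(Ω₁Z) N(W)` in the constrained sections. -/
def SemiFac (G : Type u) [Group G] (p : ℕ) (W : ∀ (Q : Type u) [Group Q], Subgroup Q) : Prop :=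
  ∀ (K R : Subgroup G) [(R.subgroupOf K).Normal],
    centralizer ((Cfsg.pCore p (↥K ⧸ R.subgroupOf K) : Subgroup (↥K ⧸ R.subgroupOf K)) :
        Set (↥K ⧸ R.subgroupOf K)) ≤ Cfsg.pCore p (↥K ⧸ R.subgroupOf K) →
      ∀ T : Sylow p (↥K ⧸ R.subgroupOf K), ∀ x : ↥K ⧸ R.subgroupOf K,
        ∃ a ∈ centralizer ((omz p (T : Subgroup (↥K ⧸ R.subgroupOf K))) : Set (↥K ⧸ R.subgroupOf K)),
        ∃ b ∈ normalizer ((Cfsg.inducedFunctor W (T : Subgroup (↥K ⧸ R.subgroupOf K)) :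
          Subgroup (↥K ⧸ R.subgroupOf K)) : Set (↥K ⧸ R.subgroupOf K)), x = a * b

/-- `W` controls the fusion of `Ω₁Z(S)` inside `H`. -/
def CtrlZ (S : Subgroup G) (p : ℕ) (W : ∀ (Q : Type u) [Group Q], Subgroup Q) (H : Subgroup G) :
    Prop :=
  ∀ (A : Set G) (g : G), g ∈ H → (∀ a ∈ A, a ∈ (omz p S)) → (∀ a ∈ A, g * a * g⁻¹ ∈ S) →
    ∃ n ∈ H ⊓ normalizer ((Cfsg.inducedFunctor W S : Subgroup G) : Set G),
      ∀ a ∈ A, n * a * n⁻¹ = g * a * g⁻¹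

theorem one_side (S : Sylow p G) {W : ∀ (Q : Type u) [Group Q], Subgroup Q}
    (hW : Cfsg.IsCharPFunctor.{u} p W) (hfac : SemiFac G p W) {H Q : Subgroup G}
    (hSH : (S : Subgroup G) ≤ H) (hQS : Q ≤ (S : Subgroup G)) (hQn : H ≤ normalizer (Q : Set G))
    (hZQ : (omz p (S : Subgroup G)) ≤ Q)
    (hrec : ∀ H' : Subgroup G, (S : Subgroup G) ≤ H' → H' < H → CtrlZ (S : Subgroup G) p W H') :
    CtrlZ (S : Subgroup G) p W H := by
  intro A g hg hA hgA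
  have hgQ : ∀ {h : G}, h ∈ H → ∀ a ∈ A, h * a * h⁻¹ ∈ Q := fun hh a ha =>
    (mem_normalizer_iff.1 (hQn hh) a).1 (hZQ (hA a ha))
  set C := H ⊓ centralizer (Q : Set G) with hC
  set R := (S : Subgroup G) ⊓ C with hR
  have hHC : H ≤ normalizer (C : Set G) := fun h hh => by
    have h1 := CfsgLib.Coprime.normalizer_le_normalizer_centralizer Q (hQn hh)
    refine mem_normalizer_iff.2 fun z => ?_
    simp only [hC, mem_inf]
    rw [mem_normalizer_iff.1 (le_normalizer hh) z, mem_normalizer_iff.1 h1 z]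
  have hRi : ¬ p ∣ R.relIndex C :=
    CfsgLib.CFun.not_dvd_relIndex_inf_of_normalizes S hSH inf_le_left hHC
  have hSR : (S : Subgroup G) ≤ normalizer (R : Set G) := fun s hs => by
    refine mem_normalizer_iff.2 fun z => ?_
    simp only [hR, mem_inf]
    rw [mem_normalizer_iff.1 (le_normalizer hs) z, mem_normalizer_iff.1 (hHC (hSH hs)) z]
  obtain ⟨c, hc, hcR⟩ := CfsgLib.Fusion.exists_conj_le_of_not_dvd_relIndex
    (S.2.to_le inf_le_left) inf_le_right hRi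
    (CfsgLib.Fusion.isPGroup_conjBy g (S.2.to_le (inf_le_left (b := C))))
    (CfsgLib.Fusion.conjBy_le_iff.2 fun z hz =>
      (mem_normalizer_iff.1 (hHC hg) z).1 (mem_inf.1 hz).2)
  rw [CfsgLib.Fusion.conjBy_conjBy] at hcR
  have hnR : c * g ∈ H ⊓ normalizer (R : Set G) := mem_inf.2
    ⟨mul_mem (mem_inf.1 hc).1 hg,
      CfsgLib.Fusion.conjBy_eq_iff.1 (CfsgLib.Fusion.conjBy_eq_of_le hcR)⟩
  have hsame : ∀ a ∈ A, c * g * a * (c * g)⁻¹ = g * a * g⁻¹ := fun a ha => by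
    have h1 := mem_centralizer_iff.1 (mem_inf.1 hc).2 _ (hgQ hg a ha)
    calc c * g * a * (c * g)⁻¹ = c * (g * a * g⁻¹) * c⁻¹ := by group
      _ = g * a * g⁻¹ := by rw [← h1]; group
  by_cases hNR : H ⊓ normalizer (R : Set G) = H
  swap
  · obtain ⟨n, hn, hne⟩ := hrec _ (le_inf hSH hSR) (lt_of_le_of_ne inf_le_left hNR) A (c * g) hnR
      hA fun a ha => by rw [hsame a ha]; exact hgA a ha
    exact ⟨n, mem_inf.2 ⟨(mem_inf.1 (mem_inf.1 hn).1).1, (mem_inf.1 hn).2⟩,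
      fun a ha => (hne a ha).trans (hsame a ha)⟩
  have hRn : H ≤ normalizer (R : Set G) := hNR.ge.trans inf_le_right
  set S' : Sylow p ↥H := S.subtype hSH
  set R₀ : Subgroup G := (Cfsg.pPrimeCore p ↥H).map H.subtype
  have hK : R₀.subgroupOf H = Cfsg.pPrimeCore p ↥H :=
    comap_map_eq_self_of_injective H.subtype_injective _
  haveI : (R₀.subgroupOf H).Normal := by
    rw [hK]
    haveI := CfsgLib.Coprime.pPrimeCore_characteristic (G := ↥H) p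
    infer_instance
  set K := R₀.subgroupOf H
  obtain ⟨hO, hKp⟩ := quotient_core_bot K hK
  set π := QuotientGroup.mk' K
  have hπ := QuotientGroup.mk'_surjective K
  set S0 : Subgroup ↥H := (S' : Subgroup ↥H) with hS0
  have hS0eq : S0 = (S : Subgroup G).subgroupOf H := rfl
  have hinj : ∀ x ∈ S0, π x = 1 → x = 1 := fun x hx h1 =>
    CfsgLib.Fusion.eq_one_of_pGroup_of_coprime S'.2 hx
      ((CfsgLib.Fusion.not_dvd_card_iff_forall_coprime_orderOf K).1 hKp x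
        ((QuotientGroup.eq_one_iff x).1 h1))
  set T := S'.mapSurjective hπ
  have hcon : centralizer ((Cfsg.pCore p (↥H ⧸ K) : Subgroup (↥H ⧸ K)) : Set (↥H ⧸ K)) ≤
      Cfsg.pCore p (↥H ⧸ K) := by
    refine CfsgLib.CFun.centralizer_pCore_le_of_inf_le hO T ?_
    rintro _ ⟨⟨s, hs, rfl⟩, hsC⟩
    haveI : (Q.subgroupOf H).Normal := normal_subgroupOf_of_le_normalizer hQn
    haveI : (R.subgroupOf H).Normal := normal_subgroupOf_of_le_normalizer hRn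
    haveI := (inferInstance : (Q.subgroupOf H).Normal).map π hπ
    haveI := (inferInstance : (R.subgroupOf H).Normal).map π hπ
    have hQp : IsPGroup p (Q.subgroupOf H) :=
      S'.2.to_le fun q hq => hQS (mem_subgroupOf.1 hq)
    have hRp : IsPGroup p (R.subgroupOf H) :=
      S'.2.to_le fun q hq => (mem_inf.1 (mem_subgroupOf.1 hq)).1
    have hQle : (Q.subgroupOf H).map π ≤ Cfsg.pCore p (↥H ⧸ K) :=
      CfsgLib.Coprime.le_pCore (hQp.map π)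
    have hsR : s ∈ R.subgroupOf H := by
      refine mem_inf.2 ⟨hs, mem_inf.2 ⟨s.2, mem_centralizer_iff.2 fun q hq => ?_⟩⟩
      have hq' : (⟨q, hSH (hQS hq)⟩ : ↥H) ∈ S0 := hQS hq
      have h1 := mem_centralizer_iff.1 hsC _
        (hQle (mem_map_of_mem π (mem_subgroupOf.2 hq : (⟨q, hSH (hQS hq)⟩ : ↥H) ∈ Q.subgroupOf H)))
      have h2 := hinj _ (mul_mem (mul_mem (mul_mem hq' hs) (inv_mem hq')) (inv_mem hs)) (by
        have h1' : π ⟨q, hSH (hQS hq)⟩ * π s = π s * π ⟨q, hSH (hQS hq)⟩ := h1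
        simp only [map_mul, map_inv]
        rw [h1', mul_inv_cancel_right, mul_inv_cancel])
      have h3 := congrArg Subtype.val h2
      simp only [Subgroup.coe_mul, Subgroup.coe_inv, Subgroup.coe_one] at h3
      calc q * (s : G) = q * s * q⁻¹ * (s : G)⁻¹ * ((s : G) * q) := by group
        _ = (s : G) * q := by rw [h3, one_mul]
    exact CfsgLib.Coprime.le_pCore (hRp.map π) (mem_map_of_mem π hsR)
  obtain ⟨a, ha, b, hb, hab⟩ := hfac H R₀ hcon T (π ⟨g, hg⟩)⁻¹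
  let e : S0 ≃* S0.map π :=
    MulEquiv.ofBijective (π.subgroupMap S0) ⟨(injective_iff_map_eq_one _).2 fun x hx =>
      Subtype.ext (hinj x x.2 (congrArg Subtype.val hx)), π.subgroupMap_surjective _⟩
  change b ∈ normalizer ((Cfsg.inducedFunctor W (S0.map π) : Subgroup (↥H ⧸ K)) : Set (↥H ⧸ K)) at hb
  rw [CfsgLib.CFun.induced_of_equiv hW S'.2 e π fun _ => rfl] at hb
  obtain ⟨n, hn, rfl⟩ := CfsgLib.Fusion.normalizer_map_le (p := p) K hKp
    (S'.2.to_le (CfsgLib.CFun.induced_le W _)) hb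
  have hnW : (n : G) ∈ normalizer ((Cfsg.inducedFunctor W (S : Subgroup G) : Subgroup G) : Set G) := by
    have h1 := le_normalizer_map H.subtype (mem_map_of_mem H.subtype hn)
    rw [← CfsgLib.CFun.induced_map hW S'.2 H.subtype H.subtype_injective,
      show (S' : Subgroup ↥H).map H.subtype = (S : Subgroup G) from
        map_subgroupOf_eq_of_le hSH] at h1
    exact h1
  refine ⟨(n : G)⁻¹, mem_inf.2 ⟨inv_mem n.2, inv_mem hnW⟩, fun z hz => ?_⟩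
  have hzS : z ∈ (S : Subgroup G) := hQS (hZQ (hA z hz))
  have hzT : π ⟨z, hSH hzS⟩ ∈ (omz p (T : Subgroup (↥H ⧸ K))) := by
    have hle : (omz p (S : Subgroup G)) ≤ ((omz p (T : Subgroup (↥H ⧸ K))).comap π).map H.subtype := by
      refine (closure_le _).2 fun x hx => ⟨⟨x, hSH (mem_inf.1 hx.1).1⟩, subset_closure ⟨mem_inf.2
        ⟨⟨_, (mem_inf.1 hx.1).1, rfl⟩, ?_⟩, ?_⟩, rfl⟩
      · refine mem_centralizer_iff.2 ?_
        rintro _ ⟨s, hs, rfl⟩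
        rw [← map_mul, ← map_mul]
        exact congrArg π (Subtype.ext (mem_centralizer_iff.1 (mem_inf.1 hx.1).2 _ hs))
      · rw [← map_pow]
        exact (congrArg π (Subtype.ext hx.2 : (⟨x, hSH (mem_inf.1 hx.1).1⟩ : ↥H) ^ p = 1)).trans
          (map_one π)
    obtain ⟨w, hw, hwe⟩ := hle (hA z hz)
    rwa [show w = ⟨z, hSH hzS⟩ from Subtype.ext hwe] at hw
  have hge : π ⟨g, hg⟩ = (π n)⁻¹ * a⁻¹ := by
    rw [← mul_inv_rev, ← hab, inv_inv]
  have hfix : a⁻¹ * π ⟨z, hSH hzS⟩ * a = π ⟨z, hSH hzS⟩ := by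
    rw [mul_assoc, mem_centralizer_iff.1 ha _ hzT, inv_mul_cancel_left]
  have hn' : (n : G)⁻¹ * z * (n : G)⁻¹⁻¹ ∈ Q := hgQ (inv_mem n.2) z hz
  set u : ↥H := n⁻¹ * ⟨z, hSH hzS⟩ * n⁻¹⁻¹ with hu
  set v : ↥H := ⟨g, hg⟩ * ⟨z, hSH hzS⟩ * ⟨g, hg⟩⁻¹ with hv
  have huS : u ∈ S0 := hQS hn'
  have hvS : v ∈ S0 := hgA z hz
  have h1 : u * v⁻¹ = 1 := hinj _ (mul_mem huS (inv_mem hvS)) (by
    have hπv : π v = π u := by
      simp only [hu, hv, map_mul, map_inv, hge]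
      calc _ = (π n)⁻¹ * (a⁻¹ * π ⟨z, hSH hzS⟩ * a) * (π n)⁻¹⁻¹ := by group
        _ = _ := by rw [hfix]
    rw [map_mul, map_inv, hπv, mul_inv_cancel])
  exact congrArg Subtype.val (mul_inv_eq_one.1 h1)

theorem ctrlZ (S : Sylow p G) (W₁ W₂ : ∀ (Q : Type u) [Group Q], Subgroup Q)
    (hW₁ : Cfsg.IsCharPFunctor.{u} p W₁) (hW₂ : Cfsg.IsCharPFunctor.{u} p W₂)
    (h1 : SemiFac G p W₁) (h2 : SemiFac G p W₂)
    (hpair : ∀ H : Subgroup G, Cfsg.FamilyControlsStrongFusionIn p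
      (CfsgLib.CFun.indFam G {W₁, W₂}) H)
    (hZ₁ : (omz p (S : Subgroup G)) ≤ Cfsg.inducedFunctor W₁ (S : Subgroup G))
    (hZ₂ : (omz p (S : Subgroup G)) ≤ Cfsg.inducedFunctor W₂ (S : Subgroup G)) :
    ∀ k (H : Subgroup G), Nat.card H = k → (S : Subgroup G) ≤ H →
      CtrlZ (S : Subgroup G) p W₁ H ∧ CtrlZ (S : Subgroup G) p W₂ H := by
  intro k
  induction k using Nat.strong_induction_on with
  | _ k ih =>
    intro H hk hSH
    have hlt : ∀ H' : Subgroup G, (S : Subgroup G) ≤ H' → H' < H →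
        CtrlZ (S : Subgroup G) p W₁ H' ∧ CtrlZ (S : Subgroup G) p W₂ H' := fun H' hS' hlt =>
      ih _ (hk ▸ lt_of_le_of_ne (card_le_of_le hlt.le) fun e =>
        hlt.ne (eq_of_le_of_card_ge hlt.le e.ge)) H' rfl hS'
    set N₁ := H ⊓ normalizer ((Cfsg.inducedFunctor W₁ (S : Subgroup G) : Subgroup G) : Set G)
      with hN₁
    set N₂ := H ⊓ normalizer ((Cfsg.inducedFunctor W₂ (S : Subgroup G) : Subgroup G) : Set G)
      with hN₂
    have hS₁ : (S : Subgroup G) ≤ N₁ := le_inf hSH (le_normalizer.trans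
      (CfsgLib.CFun.cfun_normalizer_le (CfsgLib.CFun.isConjugacyFunctor_induced hW₁) S.2))
    have hS₂ : (S : Subgroup G) ≤ N₂ := le_inf hSH (le_normalizer.trans
      (CfsgLib.CFun.cfun_normalizer_le (CfsgLib.CFun.isConjugacyFunctor_induced hW₂) S.2))
    by_cases e₁ : N₁ = H
    · exact ⟨fun A g hg _ _ => ⟨g, (hN₁ ▸ e₁.symm ▸ hg : _), fun a _ => rfl⟩,
        one_side S hW₂ h2 hSH (CfsgLib.CFun.induced_le W₁ _) (e₁.ge.trans inf_le_right) hZ₁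
          fun H' a b => (hlt H' a b).2⟩
    by_cases e₂ : N₂ = H
    · exact ⟨one_side S hW₁ h1 hSH (CfsgLib.CFun.induced_le W₂ _) (e₂.ge.trans inf_le_right) hZ₂
          fun H' a b => (hlt H' a b).1,
        fun A g hg _ _ => ⟨g, (hN₂ ▸ e₂.symm ▸ hg : _), fun a _ => rfl⟩⟩
    obtain ⟨p1, q1⟩ := hlt N₁ hS₁ (lt_of_le_of_ne inf_le_left e₁)
    obtain ⟨p2, q2⟩ := hlt N₂ hS₂ (lt_of_le_of_ne inf_le_left e₂)
    suffices key : ∀ (A : Set G) (g : G), g ∈ H → (∀ a ∈ A, a ∈ (omz p (S : Subgroup G))) →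
        (∀ a ∈ A, g * a * g⁻¹ ∈ (S : Subgroup G)) →
        (∃ n ∈ N₁, ∀ a ∈ A, n * a * n⁻¹ = g * a * g⁻¹) ∧
          ∃ n ∈ N₂, ∀ a ∈ A, n * a * n⁻¹ = g * a * g⁻¹ from
      ⟨fun A g a b c => (key A g a b c).1, fun A g a b c => (key A g a b c).2⟩
    intro A g hg hA hgA
    obtain ⟨c, hc, hce⟩ := CfsgLib.CFun.reach_of_control
      (CfsgLib.CFun.indFam_isConjugacyFunctor (by rintro W (rfl | rfl) <;> assumption)) (hpair H)
      hSH S.2 (fun hd => S.not_dvd_index (hd.trans (relIndex_dvd_index_of_le hSH))) hg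
      (fun a ha => (mem_inf.1 (omega_le _ (hA a ha))).1) hgA
    suffices h : (∃ n ∈ N₁, ∀ a ∈ A, n * a * n⁻¹ = c * a * c⁻¹) ∧
        ∃ n ∈ N₂, ∀ a ∈ A, n * a * n⁻¹ = c * a * c⁻¹ by
      obtain ⟨⟨n, hn, hne⟩, m, hm, hme⟩ := h
      exact ⟨⟨n, hn, fun a ha => (hne a ha).trans (hce a ha)⟩,
        m, hm, fun a ha => (hme a ha).trans (hce a ha)⟩
    clear hce
    induction hc with
    | one _ => exact ⟨⟨1, one_mem _, fun a _ => rfl⟩, 1, one_mem _, fun a _ => rfl⟩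
    | step c W w _ hW hw hm ihc =>
      obtain ⟨⟨n, hn, hne⟩, m, hmN, hme⟩ := ihc
      have calc' : ∀ {x : G}, (∀ a ∈ A, x * a * x⁻¹ = c * a * c⁻¹) →
          ∀ a ∈ A, w * x * a * (w * x)⁻¹ = w * c * a * (w * c)⁻¹ := fun {x} hx a ha => by
        calc _ = w * (x * a * x⁻¹) * w⁻¹ := by group
          _ = w * (c * a * c⁻¹) * w⁻¹ := by rw [hx a ha]
          _ = _ := by group
      obtain ⟨V, hV, rfl⟩ := hW
      rcases hV with rfl | rfl
      · have h1 := calc' hne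
        obtain ⟨l, hl, hle⟩ := q1 A (w * n) (mul_mem hw hn) hA
          fun a ha => by rw [h1 a ha]; exact hm a ha
        exact ⟨⟨w * n, mul_mem hw hn, h1⟩, l, mem_inf.2 ⟨(mem_inf.1 (mem_inf.1 hl).1).1,
          (mem_inf.1 hl).2⟩, fun a ha => (hle a ha).trans (h1 a ha)⟩
      · have h1 := calc' hme
        obtain ⟨l, hl, hle⟩ := p2 A (w * m) (mul_mem hw hmN) hA
          fun a ha => by rw [h1 a ha]; exact hm a ha
        exact ⟨⟨l, mem_inf.2 ⟨(mem_inf.1 (mem_inf.1 hl).1).1, (mem_inf.1 hl).2⟩,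
          fun a ha => (hle a ha).trans (h1 a ha)⟩, w * m, mul_mem hw hmN, h1⟩

/-- A product of the two normalizers is controlled by the pair. -/
theorem famCtrl_of_prod {Y : Type u} [Group Y] [Finite Y]
    {W₁ W₂ : ∀ (Q : Type u) [Group Q], Subgroup Q}
    (hW₁ : Cfsg.IsCharPFunctor.{u} p W₁) (hW₂ : Cfsg.IsCharPFunctor.{u} p W₂) (T : Sylow p Y)
    (hprod : ∀ x : Y, ∃ a ∈ normalizer ((Cfsg.inducedFunctor W₁ (T : Subgroup Y) : Subgroup Y) :
      Set Y), ∃ b ∈ normalizer ((Cfsg.inducedFunctor W₂ (T : Subgroup Y) : Subgroup Y) : Set Y),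
        x = a * b) :
    CfsgLib.CFun.FamCtrl p {W₁, W₂} Y := by
  refine CfsgLib.CFun.famCtrl_of_strongAtF T fun A g hA hgA => ?_
  obtain ⟨a, ha, b, hb, rfl⟩ := hprod g
  set N₁ := Subgroup.normalizer ((Cfsg.inducedFunctor W₁ (T : Subgroup Y) :
    Subgroup Y) : Set Y)
  set N₂ := Subgroup.normalizer ((Cfsg.inducedFunctor W₂ (T : Subgroup Y) :
    Subgroup Y) : Set Y)
  set T0 : Subgroup Y := (T : Subgroup Y)
  have hT1 : T0 ≤ N₁ := Subgroup.le_normalizer.trans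
    (CfsgLib.CFun.cfun_normalizer_le (CfsgLib.CFun.isConjugacyFunctor_induced hW₁) T.2)
  have hT2 : T0 ≤ N₂ := Subgroup.le_normalizer.trans
    (CfsgLib.CFun.cfun_normalizer_le (CfsgLib.CFun.isConjugacyFunctor_induced hW₂) T.2)
  have hX : CfsgLib.Fusion.conjBy b (Subgroup.closure A) ≤ N₁ ⊓ N₂ := by
    show (Subgroup.closure A).map _ ≤ _
    rw [MonoidHom.map_closure, Subgroup.closure_le]
    rintro _ ⟨x, hx, rfl⟩
    refine Subgroup.mem_inf.2 ⟨?_, mul_mem (mul_mem hb (hT2 (hA x hx))) (inv_mem hb)⟩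
    show b * x * b⁻¹ ∈ N₁
    rw [show b * x * b⁻¹ = a⁻¹ * (a * b * x * (a * b)⁻¹) * a by group]
    exact mul_mem (mul_mem (inv_mem ha) (hT1 (hgA x hx))) ha
  obtain ⟨m, hm, hle⟩ := CfsgLib.Fusion.exists_conj_le_of_not_dvd_relIndex T.2
    (le_inf hT1 hT2)
    (fun hd => T.not_dvd_index (hd.trans (Subgroup.relIndex_dvd_index_of_le (le_inf hT1 hT2))))
    (CfsgLib.Fusion.isPGroup_conjBy b (T.2.to_le ((Subgroup.closure_le _).2 hA))) hX
  obtain ⟨hm1, hm2⟩ := Subgroup.mem_inf.1 hm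
  have hmem : ∀ x ∈ A, m * b * x * (m * b)⁻¹ ∈ T0 := fun x hx => by
    have := CfsgLib.Fusion.conjBy_le_iff.1 hle (b * x * b⁻¹)
      (CfsgLib.Fusion.conj_mem_conjBy (Subgroup.subset_closure hx))
    convert this using 1
    group
  have r₁ : CfsgLib.CFun.Reach (CfsgLib.CFun.indFam Y {W₁, W₂}) ⊤ T0 A
      (m * b) :=
    CfsgLib.CFun.reach_step (F := CfsgLib.CFun.indFam Y {W₁, W₂}) (W := Cfsg.inducedFunctor W₂) ⟨W₂, Or.inr rfl, rfl⟩
      (Subgroup.mem_inf.2 ⟨Subgroup.mem_top _, mul_mem hm2 hb⟩) hA hmem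
  have r := r₁.trans (k := a * m⁻¹)
    (CfsgLib.CFun.reach_step (F := CfsgLib.CFun.indFam Y {W₁, W₂}) (W := Cfsg.inducedFunctor W₁) ⟨W₁, Or.inl rfl, rfl⟩
      (Subgroup.mem_inf.2 ⟨Subgroup.mem_top _, mul_mem ha (inv_mem hm1)⟩)
      (by rintro _ ⟨x, hx, rfl⟩; exact hmem x hx)
      (by
        rintro _ ⟨x, hx, rfl⟩
        convert hgA x hx using 1
        group))
  rwa [show a * m⁻¹ * (m * b) = a * b by group] at r

theorem pair_of_fac (W₁ W₂ : ∀ (Q : Type u) [Group Q], Subgroup Q)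
    (hW₁ : Cfsg.IsCharPFunctor.{u} p W₁) (hW₂ : Cfsg.IsCharPFunctor.{u} p W₂)
    (hfac : ∀ (K R : Subgroup G) [(R.subgroupOf K).Normal],
      centralizer ((Cfsg.pCore p (↥K ⧸ R.subgroupOf K) : Subgroup (↥K ⧸ R.subgroupOf K)) :
          Set (↥K ⧸ R.subgroupOf K)) ≤ Cfsg.pCore p (↥K ⧸ R.subgroupOf K) →
        ∀ T : Sylow p (↥K ⧸ R.subgroupOf K), ∀ x : ↥K ⧸ R.subgroupOf K,
          ∃ a ∈ normalizer ((Cfsg.inducedFunctor W₁ (T : Subgroup (↥K ⧸ R.subgroupOf K)) :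
            Subgroup (↥K ⧸ R.subgroupOf K)) : Set (↥K ⧸ R.subgroupOf K)),
          ∃ b ∈ normalizer ((Cfsg.inducedFunctor W₂ (T : Subgroup (↥K ⧸ R.subgroupOf K)) :
            Subgroup (↥K ⧸ R.subgroupOf K)) : Set (↥K ⧸ R.subgroupOf K)), x = a * b)
    (H : Subgroup G) :
    Cfsg.FamilyControlsStrongFusionIn p (CfsgLib.CFun.indFam G {W₁, W₂}) H := by
  have h𝓦 : ∀ W ∈ ({W₁, W₂} : Set (∀ (Q : Type u) [Group Q], Subgroup Q)),
      Cfsg.IsCharPFunctor.{u} p W := by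
    rintro W (rfl | rfl) <;> assumption
  refine CfsgLib.CFun.famIn_of_subgroup h𝓦 H
    (CfsgLib.CFun.famCtrl_of_constrained h𝓦 _ H rfl fun Y _ _ hY hcon => ?_)
  obtain ⟨A, B, hB, ⟨e⟩⟩ :=
    CfsgLib.Fusion.involves_of_injective H.subtype H.subtype_injective hY
  haveI := hB
  refine CfsgLib.CFun.famCtrl_congr h𝓦 e ?_
  obtain ⟨T⟩ := (inferInstance : Nonempty (Sylow p (↥A ⧸ B.subgroupOf A)))
  refine famCtrl_of_prod hW₁ hW₂ T (hfac A B (fun x hx => ?_) T)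
  rw [← CfsgLib.Coprime.map_pCore_equiv e.symm]
  refine ⟨e x, hcon (mem_centralizer_iff.2 fun q hq => ?_), e.symm_apply_apply x⟩
  have := mem_centralizer_iff.1 hx (e.symm q) (by
    rw [← CfsgLib.Coprime.map_pCore_equiv e.symm]; exact mem_map_of_mem _ hq)
  simpa using congrArg e this



/-- Let p be a prime, G a finite group with Sylow p-subgroup S, and W₁, W₂ two isomorphism-invariant p-group functors (W assigns to every group Q a subgroup W(Q), nontrivial whenever Q is a nontrivial finite p-group, and every isomorphism from a finite p-group Q onto a group R carries W(Q) onto W(R)). Suppose that G* = C_{G*}(Ω₁Z(S*)) N_{G*}(W₁(S*)) = C_{G*}(Ω₁Z(S*)) N_{G*}(W₂(S*)) = N_{G*}(W₁(S*)) N_{G*}(W₂(S*)) whenever G* = K/R is a section of G with C_{G*}(O_p(G*)) ≤ O_p(G*) and S* is a Sylow p-subgroup of G*, where Ω₁Z denotes the subgroup generated by the elements of order dividing p in the centre.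 Suppose also Ω₁Z(S) ≤ W₁(S) ∩ W₂(S), and let A be the normal closure of Ω₁Z(S) in N_G(W₁(S)). Then A is an elementary abelian subgroup of S, strongly closed in S with respect to G, and A controls strong fusion in G. -/
theorem result {G : Type u} [Group G] [Finite G] {p : ℕ} [Fact p.Prime] (S : Sylow p G) (W₁ W₂ : ∀ (Q : Type u) [Group Q], Subgroup Q) (hW₁ : Cfsg.IsCharPFunctor.{u} p W₁) (hW₂ : Cfsg.IsCharPFunctor.{u} p W₂) (hfac : ∀ (K R : Subgroup G) [hR : (R.subgroupOf K).Normal], Subgroup.centralizer ((Cfsg.pCore p (↥K ⧸ R.subgroupOf K) : Subgroup (↥K ⧸ R.subgroupOf K)) : Set (↥K ⧸ R.subgroupOf K)) ≤ Cfsg.pCore p (↥K ⧸ R.subgroupOf K) → ∀ T : Sylow p (↥K ⧸ R.subgroupOf K), (∀ x : (↥K ⧸ R.subgroupOf K), ∃ a ∈ Subgroup.centralizer ((Cfsg.omegaOne p ((T : Subgroup (↥K ⧸ R.subgroupOf K)) ⊓ Subgroup.centralizer (((T : Subgroup (↥K ⧸ R.subgroupOf K)) : Subgroup (↥K ⧸ R.subgroupOf K)) : Set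 (↥K ⧸ R.subgroupOf K))) : Subgroup (↥K ⧸ R.subgroupOf K)) : Set (↥K ⧸ R.subgroupOf K)), ∃ b ∈ Subgroup.normalizer ((Cfsg.inducedFunctor (G := (↥K ⧸ R.subgroupOf K)) W₁ (T : Subgroup (↥K ⧸ R.subgroupOf K)) : Subgroup (↥K ⧸ R.subgroupOf K)) : Set (↥K ⧸ R.subgroupOf K)), x = a * b) ∧ (∀ x : (↥K ⧸ R.subgroupOf K), ∃ a ∈ Subgroup.centralizer ((Cfsg.omegaOne p ((T : Subgroup (↥K ⧸ R.subgroupOf K)) ⊓ Subgroup.centralizer (((T : Subgroup (↥K ⧸ R.subgroupOf K)) : Subgroup (↥K ⧸ R.subgroupOf K)) : Set (↥K ⧸ R.subgroupOf K))) : Subgroup (↥K ⧸ R.subgroupOf K)) : Set (↥K ⧸ R.subgroupOf K)), ∃ b ∈ Subgroup.normalizer ((Cfsg.inducedFunctor (G := (↥K ⧸ R.subgroupOf K)) W₂ (T : Subgroup (↥K ⧸ R.subgroupOf K)) : Subgroup (↥K ⧸ R.subgroupOf K)) : Set (↥K ⧸ R.subgroupOf K)), x = a * b) ∧ (∀ x : (↥K ⧸ R.subgroupOf K), ∃ a ∈ Subgroup.normalizer ((Cfsg.inducedFunctor (G := (↥K ⧸ R.subgroupOf K)) W₁ (T : Subgroup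 (↥K ⧸ R.subgroupOf K)) : Subgroup (↥K ⧸ R.subgroupOf K)) : Set (↥K ⧸ R.subgroupOf K)), ∃ b ∈ Subgroup.normalizer ((Cfsg.inducedFunctor (G := (↥K ⧸ R.subgroupOf K)) W₂ (T : Subgroup (↥K ⧸ R.subgroupOf K)) : Subgroup (↥K ⧸ R.subgroupOf K)) : Set (↥K ⧸ R.subgroupOf K)), x = a * b)) (hZ : Cfsg.omegaOne p ((S : Subgroup G) ⊓ Subgroup.centralizer (((S : Subgroup G) : Subgroup G) : Set G)) ≤ Cfsg.inducedFunctor (G := G) W₁ (S : Subgroup G) ⊓ Cfsg.inducedFunctor (G := G) W₂ (S : Subgroup G)) (N₁ : Subgroup G) (hN₁ : N₁ = Subgroup.normalizer ((Cfsg.inducedFunctor (G := G) W₁ (S : Subgroup G) : Subgroup G) : Set G)) (A : Subgroup G) (hA : A = (Subgroup.normalClosure (((Cfsg.omegaOne p ((S : Subgroup G) ⊓ Subgroup.centralizer (((S : Subgroup G) : Subgroup G) : Set G))).subgroupOf N₁ : Subgroup ↥N₁) : Set ↥N₁)).map N₁.subtype) : A ≤ (S : Subgroup G) ∧ Cfsg.IsElementaryAbelian p A ∧ Cfsg.IsStronglyClosed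 A (S : Subgroup G) ∧ Cfsg.ControlsStrongFusion p A := by
  have hfam := pair_of_fac W₁ W₂ hW₁ hW₂ fun K R _ hcon T => (hfac K R hcon T).2.2
  have hctrl := ctrlZ S W₁ W₂ hW₁ hW₂ (fun K R _ hcon T => (hfac K R hcon T).1)
    (fun K R _ hcon T => (hfac K R hcon T).2.1) hfam (hZ.trans inf_le_left) (hZ.trans inf_le_right)
    _ ⊤ rfl le_top
  set S0 : Subgroup G := (S : Subgroup G) with hS0
  set Z := Cfsg.omegaOne p (S0 ⊓ centralizer (S0 : Set G)) with hZdef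
  set X₁ := Cfsg.inducedFunctor (G := G) W₁ S0 with hX₁
  set X₂ := Cfsg.inducedFunctor (G := G) W₂ S0 with hX₂
  have hS₁ : S0 ≤ N₁ := hN₁ ▸ le_normalizer.trans
    (CfsgLib.CFun.cfun_normalizer_le (CfsgLib.CFun.isConjugacyFunctor_induced hW₁) S.2)
  have hX₁S : X₁ ≤ S0 := CfsgLib.CFun.induced_le W₁ _
  have hX₂S : X₂ ≤ S0 := CfsgLib.CFun.induced_le W₂ _
  set gens : Set G := {x | ∃ n ∈ N₁, ∃ z ∈ Z, n * z * n⁻¹ = x} with hgens
  have hAc : A = closure gens := by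
    rw [hA, normalClosure, MonoidHom.map_closure]
    congr 1
    ext x
    constructor
    · rintro ⟨y, hy, rfl⟩
      obtain ⟨z, hz, hc⟩ := Group.mem_conjugatesOfSet_iff.1 hy
      obtain ⟨c, hc⟩ := isConj_iff.1 hc
      exact ⟨c, c.2, z, hz, congrArg Subtype.val hc⟩
    · rintro ⟨n, hn, z, hz, rfl⟩
      refine ⟨⟨n, hn⟩ * ⟨z, hS₁ (hX₁S (mem_inf.1 (hZ hz)).1)⟩ * ⟨n, hn⟩⁻¹, ?_, rfl⟩
      exact Group.mem_conjugatesOfSet_iff.2 ⟨_, hz, isConj_iff.2 ⟨⟨n, hn⟩, rfl⟩⟩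
  have hgX : ∀ x ∈ gens, x ∈ X₁ ∧ x ∈ centralizer (X₁ : Set G) ∧ x ^ p = 1 := by
    rintro _ ⟨n, hn, z, hz, rfl⟩
    rw [hN₁] at hn
    refine ⟨(mem_normalizer_iff.1 hn z).1 (mem_inf.1 (hZ hz)).1,
      mem_centralizer_iff.2 fun w hw => ?_, ?_⟩
    · have hw' : n⁻¹ * w * n ∈ X₁ := (mem_normalizer_iff''.1 hn w).1 hw
      have h := mem_centralizer_iff.1 (mem_inf.1 (omega_le _ hz)).2 _ (hX₁S hw')
      calc w * (n * z * n⁻¹) = n * ((n⁻¹ * w * n) * z) * n⁻¹ := by group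
        _ = n * (z * (n⁻¹ * w * n)) * n⁻¹ := by rw [h]
        _ = n * z * n⁻¹ * w := by group
    · rw [conj_pow]
      have hzp : z ^ p = 1 := by
        refine closure_induction (p := fun x _ => x ^ p = 1) (fun x hx => hx.2) (one_pow p)
          (fun x y hx hy h1 h2 => ?_) (fun x _ h => by rw [inv_pow, h, inv_one]) hz
        rw [(Commute.mul_pow (show Commute x y from
          (mem_centralizer_iff.1 (mem_inf.1 (omega_le _ hy)).2 x
            (mem_inf.1 (omega_le _ hx)).1)) p), h1, h2, one_mul]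
      rw [hzp, mul_one, mul_inv_cancel]
  have hAX : A ≤ X₁ := hAc.le.trans ((closure_le _).2 fun x hx => (hgX x hx).1)
  have hAC : A ≤ centralizer (X₁ : Set G) :=
    hAc.le.trans ((closure_le _).2 fun x hx => (hgX x hx).2.1)
  have hcomm : ∀ x ∈ A, ∀ y ∈ A, Commute x y := fun x hx y hy =>
    mem_centralizer_iff.1 (hAC hy) x (hAX hx)
  have hN₁A : N₁ ≤ normalizer (A : Set G) := by
    intro n hn
    refine CfsgLib.Fusion.conjBy_eq_iff.1 (CfsgLib.Fusion.conjBy_eq_of_le ?_)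
    show A.map _ ≤ A
    rw [hAc, MonoidHom.map_closure]
    refine closure_mono ?_
    rintro _ ⟨_, ⟨m, hm, z, hz, rfl⟩, rfl⟩
    exact ⟨n * m, mul_mem hn hm, z, hz, show n * m * z * (n * m)⁻¹ = n * (m * z * m⁻¹) * n⁻¹ by group⟩
  have hg₂ : ∀ x ∈ gens, x ∈ X₂ := by
    rintro _ ⟨n, hn, z, hz, rfl⟩
    have hS : n * z * n⁻¹ ∈ S0 := hX₁S (hgX _ ⟨n, hn, z, hz, rfl⟩).1
    obtain ⟨m, hm, he⟩ := hctrl.2 {z} n (mem_top n) (by rintro a rfl; exact hz)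
      (by rintro a rfl; exact hS)
    rw [← he z rfl]
    exact (mem_normalizer_iff.1 (mem_inf.1 hm).2 z).1 (mem_inf.1 (hZ hz)).2
  have hN₂A : normalizer (X₂ : Set G) ≤ normalizer (A : Set G) := by
    intro n hn
    refine CfsgLib.Fusion.conjBy_eq_iff.1 (CfsgLib.Fusion.conjBy_eq_of_le ?_)
    show A.map _ ≤ A
    rw [hAc, MonoidHom.map_closure]
    refine closure_mono ?_
    rintro _ ⟨_, ⟨m, hm, z, hz, rfl⟩, rfl⟩
    have hS : n * m * z * (n * m)⁻¹ ∈ S0 := by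
      rw [show n * m * z * (n * m)⁻¹ = n * (m * z * m⁻¹) * n⁻¹ by group]
      exact hX₂S ((mem_normalizer_iff.1 hn _).1 (hg₂ _ ⟨m, hm, z, hz, rfl⟩))
    obtain ⟨l, hl, he⟩ := hctrl.1 {z} (n * m) (mem_top _) (by rintro a rfl; exact hz)
      (by rintro a rfl; exact hS)
    exact ⟨l, hN₁ ▸ (mem_inf.1 hl).2, z, hz,
      (he z rfl).trans (show n * m * z * (n * m)⁻¹ = n * (m * z * m⁻¹) * n⁻¹ by group)⟩
  have h𝓦 : ∀ W ∈ ({W₁, W₂} : Set (∀ (Q : Type u) [Group Q], Subgroup Q)),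
      Cfsg.IsCharPFunctor.{u} p W := by
    rintro W (rfl | rfl) <;> assumption
  have key : ∀ (B : Set G) (g : G), (∀ b ∈ B, b ∈ S0) → (∀ b ∈ B, g * b * g⁻¹ ∈ S0) →
      ∃ c ∈ normalizer (A : Set G), ∀ b ∈ B, g * b * g⁻¹ = c * b * c⁻¹ := by
    intro B g hB hgB
    obtain ⟨c, hc, hce⟩ := CfsgLib.CFun.reach_of_control
      (CfsgLib.CFun.indFam_isConjugacyFunctor h𝓦) (hfam ⊤) le_top S.2
      (fun hd => S.not_dvd_index (hd.trans (relIndex_dvd_index_of_le le_top))) (mem_top g) hB hgB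
    refine ⟨c, ?_, fun b hb => (hce b hb).symm⟩
    clear hce
    induction hc with
    | one _ => exact one_mem _
    | step c W w _ hW hw hm ihc =>
      obtain ⟨V, hV, rfl⟩ := hW
      rcases hV with rfl | rfl
      · exact mul_mem (hN₁A (hN₁ ▸ (mem_inf.1 hw).2)) ihc
      · exact mul_mem (hN₂A (mem_inf.1 hw).2) ihc
  refine ⟨hAX.trans hX₁S, ⟨⟨⟨fun x y => Subtype.ext (hcomm x x.2 y y.2)⟩⟩, ?_⟩,
    ⟨hAX.trans hX₁S, fun x hx g hgx => ?_⟩, S, hAX.trans hX₁S, fun B hB => ⟨hB, fun g hgB => ?_⟩⟩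
  · intro x hx
    rw [hAc] at hx
    refine closure_induction (p := fun x _ => x ^ p = 1) (fun x hx => (hgX x hx).2.2) (one_pow p)
      (fun x y hx hy h1 h2 => ?_) (fun x _ h => by rw [inv_pow, h, inv_one]) hx
    rw [(hcomm x (hAc ▸ hx) y (hAc ▸ hy)).mul_pow, h1, h2, one_mul]
  · obtain ⟨c, hc, he⟩ := key {x} g (by rintro a rfl; exact hX₁S (hAX hx))
      (by rintro a rfl; exact hgx)
    rw [he x rfl]
    exact (mem_normalizer_iff.1 hc x).1 hx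
  · exact key B g (fun b hb => hB hb) fun b hb => hgB ⟨b, hb, rfl⟩

end Cfsg.Agent.S1997
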