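import Cfsg.Statements.S1998
import Cfsg.Agent.Lib.CFun.SectionInd

set_option autoImplicit false
universe u
open Cfsg

namespace Cfsg.Agent.S1998

/-- Let p be a prime, G a finite group with Sylow p-subgroup S, and 𝓦 a nonempty set of isomorphism-invariant p-group functors (W assigns to every group Q a subgroup W(Q), nontrivial whenever Q is a nontrivial finite p-group, and every isomorphism from a finite p-group Q onto a group R carries W(Q) onto W(R)). Suppose the induced conjugacy functors control transfer in every section of G other than G itself, but not in G. Let T be the subgroup generated by the S ∩ (N_G(W(S)))', W ∈ 𝓦, and M = N_G(T ∩ O_p(G)). Then: C_G(O_p(G)) ≤ O_p(G); M is a proper subgroup of G containing every proper subgroup of G that contains S (the unique maximal subgroup over S); [O_p(G), M] ≤ O_p(G) ∩ M' ≤ O_p(G) ∩ T; and every element u of S outside O_p(G) satisfies [X, u, …, u] ≰ Y with p − 1 entries u,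 for some chief factor X/Y of G with X ≤ O_p(G). -/
theorem result {G : Type u} [Group G] [Finite G] {p : ℕ} [Fact p.Prime] (S : Sylow p G) (𝓦 : Set (∀ (Q : Type u) [Group Q], Subgroup Q)) (h𝓦 : ∀ W ∈ 𝓦, Cfsg.IsCharPFunctor.{u} p W) (hne : 𝓦.Nonempty) (hsec : ∀ (K R : Subgroup G) [hR : (R.subgroupOf K).Normal], (K = ⊤ → R ≠ ⊥) → Cfsg.FamilyControlsTransferIn p ((fun W => Cfsg.inducedFunctor (G := (↥K ⧸ R.subgroupOf K)) W) '' 𝓦) ⊤) (hG : ¬ Cfsg.FamilyControlsTransferIn p ((fun W => Cfsg.inducedFunctor (G := G) W) '' 𝓦) ⊤) (T M : Subgroup G) (hT : T = (⨆ W ∈ 𝓦, (S : Subgroup G) ⊓ ⁅Subgroup.normalizer ((Cfsg.inducedFunctor (G := G) W (S : Subgroup G) : Subgroup G) : Set G), Subgroup.normalizer ((Cfsg.inducedFunctor (G := G) W (S : Subgroup G) : Subgroup G) : Set G)⁆)) (hM : M = Subgroup.normalizer ((T ⊓ Cfsg.pCore p G : Subgroup G) : Set G)) : Subgroup.centralizer ((Cfsg.pCore p G : Subgroup G) : Set G) ≤ Cfsg.pCore p G ∧ (M ≠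 ⊤ ∧ ∀ H : Subgroup G, (S : Subgroup G) ≤ H → H ≠ ⊤ → H ≤ M) ∧ (⁅Cfsg.pCore p G, M⁆ ≤ Cfsg.pCore p G ⊓ ⁅M, M⁆ ∧ Cfsg.pCore p G ⊓ ⁅M, M⁆ ≤ Cfsg.pCore p G ⊓ T) ∧ ∀ u : G, u ∈ (S : Subgroup G) → u ∉ Cfsg.pCore p G → ∃ U V : Subgroup G, Cfsg.IsChiefFactor U V ∧ U ≤ Cfsg.pCore p G ∧ ¬ Cfsg.iterCommutator U (Subgroup.zpowers u) (p - 1) ≤ V := by
  have hsub : ∀ H : Subgroup G, H ≠ ⊤ →
      Cfsg.FamilyControlsTransferIn p (CfsgLib.CFun.indFam G 𝓦) H := by
    intro H hH
    haveI hn : ((⊥ : Subgroup G).subgroupOf H).Normal := by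
      rw [Subgroup.bot_subgroupOf]; infer_instance
    exact CfsgLib.CFun.famControl_of_ctrl h𝓦 H (CfsgLib.CFun.ctrl_congr h𝓦
      ((QuotientGroup.quotientMulEquivOfEq (Subgroup.bot_subgroupOf H)).trans
        QuotientGroup.quotientBot) (hsec H ⊥ fun e => absurd e hH))
  have hquo : ∀ (N : Subgroup G) [N.Normal], N ≠ ⊥ → CfsgLib.CFun.Ctrl p 𝓦 (G ⧸ N) := by
    intro N _ hN
    haveI hn : (N.subgroupOf (⊤ : Subgroup G)).Normal := inferInstance
    refine CfsgLib.CFun.ctrl_congr h𝓦 (QuotientGroup.congr _ N Subgroup.topEquiv ?_)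
      (hsec ⊤ N fun _ => hN)
    exact Subgroup.map_subgroupOf_eq_of_le le_top
  have h : CfsgLib.CFun.MinFail (G := G) p 𝓦 := ⟨h𝓦, hne, hsub, hquo, hG⟩
  have hT' : T = CfsgLib.CFun.famSup (CfsgLib.CFun.indFam G 𝓦) (S : Subgroup G) ⊤ := by
    rw [hT]
    simp only [CfsgLib.CFun.famSup, CfsgLib.CFun.indFam, iSup_image, top_inf_eq]
  subst hM
  subst hT'
  have hSM := h.le_M S le_rfl (h.sylow_ne_top S)
  refine ⟨h.constrained, ⟨h.M_ne_top S, fun H hSH hH => h.le_M S hSH hH⟩, ⟨?_, ?_⟩,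
    fun u huS huQ => h.no_engel S huS huQ⟩
  · haveI := CfsgLib.Coprime.pCore_normal' (G := G) p
    exact le_inf (Subgroup.commutator_le_left _ _)
      (Subgroup.commutator_mono ((h.pCore_le_sylow S).trans hSM) le_rfl)
  · exact le_inf inf_le_left (h.famSup_le_M S)

end Cfsg.Agent.S1998
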