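import Cfsg.Statements.S2000
import Cfsg.Agent.Lib.FourFree.Fusion
import Cfsg.Agent.Lib.CFun.QdFree
import Cfsg.Agent.S2761
-- import your own Cfsg.Agent.* helpers here

set_option autoImplicit false
universe u
open Cfsg

namespace Cfsg.Agent.S2000

/-- Let p be a prime and G a finite group. Then Qd(p) (the natural semidirect product of an elementary abelian group of order p² by SL₂(p)) is not involved in G if and only if there is a set 𝓦 of isomorphism-invariant p-group functors (each nontrivial on nontrivial finite p-groups and carried onto W(R) by every isomorphism from a finite p-group Q onto R, hence with characteristic values on finite p-groups) whose induced conjugacy functors control strong fusion in every section of G. -/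
theorem result {G : Type u} [Group G] [Finite G] {p : ℕ} [Fact p.Prime] : ¬ Cfsg.Involves ↥(Cfsg.qd p) G ↔ ∃ 𝓦 : Set (∀ (Q : Type u) [Group Q], Subgroup Q), (∀ W ∈ 𝓦, Cfsg.IsCharPFunctor.{u} p W) ∧ ∀ (K R : Subgroup G) [hR : (R.subgroupOf K).Normal], Cfsg.FamilyControlsStrongFusionIn p ((fun W => Cfsg.inducedFunctor (G := (↥K ⧸ R.subgroupOf K)) W) '' 𝓦) ⊤ := by
  constructor
  · intro hfree
    have up : ∀ (K R : Subgroup G) [(R.subgroupOf K).Normal],
        ¬ Cfsg.Involves ↥(Cfsg.qd p) (↥K ⧸ R.subgroupOf K) := fun K R _ h => hfree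
      (CfsgLib.Fusion.involves_of_injective K.subtype K.subtype_injective
        (CfsgLib.Fusion.involves_of_surjective (QuotientGroup.mk' (R.subgroupOf K))
          (QuotientGroup.mk'_surjective _) h))
    rcases eq_or_ne p 2 with rfl | hp
    · refine ⟨CfsgLib.FourFree.pairFamily, CfsgLib.FourFree.isCharPFunctor_pair, fun K R _ => ?_⟩
      refine CfsgLib.FourFree.famCtrl_pair fun h => up K R ?_
      obtain ⟨A, B, hB, ⟨e⟩⟩ := h
      obtain ⟨d⟩ := Cfsg.Agent.S2761.result
      exact ⟨A, B, hB, ⟨e.trans d.symm⟩⟩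
    · refine ⟨{Cfsg.kInfLower}, fun W hW => ?_, fun K R _ => ?_⟩
      · rw [Set.mem_singleton_iff.1 hW]
        exact CfsgLib.CFun.kInfLower_isCharPFunctor
      · rw [Set.image_singleton]
        exact CfsgLib.CFun.controlsStrongFusionIn_iff_family.1
          (CfsgLib.CFun.strongCtrl_kInf_of_qdFree hp (up K R)).1
  · rintro ⟨𝓦, h𝓦, hall⟩ h
    obtain ⟨K, R, hR, hn⟩ := CfsgLib.FourFree.exists_section_not_famCtrl h h𝓦
    haveI := hR
    exact hn (hall K R)

end Cfsg.Agent.S2000
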