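import Cfsg.Statements.S2004
import Cfsg.Agent.Lib.Qd.Unstable

set_option autoImplicit false
open Cfsg

namespace Cfsg.Agent.S2004

/-- Let p be an odd prime and G a finite group such that SL₂(p) is not involved in N_G(P) for any nonidentity p-subgroup P of G. Then every section of G is p-stable in the normalizer form: in each section, whenever an element of the normalizer of a p-subgroup Q acts quadratically on Q, its image in N(Q)/C(Q) lies in O_p(N(Q)/C(Q)). -/
theorem result {G : Type*} [Group G] [Finite G] {p : ℕ} [Fact p.Prime] (hp : p ≠ 2) (h : ∀ P : Subgroup G, IsPGroup p ↥P → P ≠ ⊥ → ¬ Cfsg.Involves (Matrix.SpecialLinearGroup (Fin 2) (ZMod p)) ↥(Subgroup.normalizer ((P : Subgroup G) : Set G))) : ∀ (K R : Subgroup G) [hR : (R.subgroupOf K).Normal], Cfsg.IsNormalizerPStable p (↥K ⧸ R.subgroupOf K) := by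
  intro K R hR P hP g hg hq
  haveI := hR
  by_contra hn
  have hPb : P ≠ ⊥ := by
    rintro rfl
    refine hn ?_
    have e : (QuotientGroup.mk (s := (Subgroup.centralizer ((⊥ : Subgroup (↥K ⧸ R.subgroupOf K)) : Set (↥K ⧸ R.subgroupOf K))).subgroupOf
        (Subgroup.normalizer ((⊥ : Subgroup (↥K ⧸ R.subgroupOf K)) : Set (↥K ⧸ R.subgroupOf K))))
        (⟨g, hg⟩ : ↥(Subgroup.normalizer ((⊥ : Subgroup (↥K ⧸ R.subgroupOf K)) : Set (↥K ⧸ R.subgroupOf K))))) = 1 :=
      (QuotientGroup.eq_one_iff _).2 (Subgroup.mem_centralizer_iff.2 fun x hx => by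
        rw [Subgroup.mem_bot.1 hx, one_mul, mul_one])
    rw [e]
    exact one_mem _
  obtain ⟨-, K', L', hn', hK', hiso⟩ := CfsgLib.Qd.sections_of_not_mem hp P hP hg hq hn
  set π := QuotientGroup.mk' (R.subgroupOf K)
  have hπ := QuotientGroup.mk'_surjective (R.subgroupOf K)
  set L := P.comap π with hL
  obtain ⟨S⟩ := (inferInstance : Nonempty (Sylow p L))
  set S0 : Subgroup K := (S : Subgroup L).map L.subtype with hS0
  have hmap : S0.map π = P := by
    rw [hS0, Subgroup.map_map]
    let f : L →* ↥P := π.subgroupComap P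
    have hf : Function.Surjective f := MonoidHom.subgroupComap_surjective_of_surjective π P hπ
    have h1 : (S : Subgroup L).map f = ⊤ :=
      ((S.mapSurjective hf).is_maximal' (hP.to_subgroup ⊤) le_top).symm
    have h2 : π.comp L.subtype = P.subtype.comp f := rfl
    rw [h2, ← Subgroup.map_map, h1, ← MonoidHom.range_eq_map, Subgroup.range_subtype]
  set P0 : Subgroup G := S0.map K.subtype with hP0
  have hP0p : IsPGroup p P0 := (S.2.map _).map _
  have hP0b : P0 ≠ ⊥ := by
    intro e
    rw [hP0, Subgroup.map_eq_bot_iff_of_injective _ K.subtype_injective] at e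
    rw [e, Subgroup.map_bot] at hmap
    exact hPb hmap.symm
  -- the lift of the normalizer
  set N := Subgroup.normalizer (P : Set (↥K ⧸ R.subgroupOf K))
  have hlift : ∀ y ∈ N, ∃ k ∈ Subgroup.normalizer (S0 : Set K), π k = y := by
    intro y hy
    obtain ⟨k, rfl⟩ := hπ y
    have hLn : k ∈ Subgroup.normalizer (L : Set K) := Subgroup.mem_normalizer_iff.2 fun w => by
      rw [hL, Subgroup.mem_comap, Subgroup.mem_comap, map_mul, map_mul, map_inv]
      exact Subgroup.mem_normalizer_iff.1 hy _
    set M := Subgroup.normalizer (L : Set K)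
    haveI : (L.subgroupOf M).Normal := Subgroup.normal_in_normalizer
    let eL := Subgroup.subgroupOfEquivOfLe (H := L) (K := M) Subgroup.le_normalizer
    let S' : Sylow p (L.subgroupOf M) := S.comapOfInjective eL.toMonoidHom eL.injective
      (fun x _ => ⟨eL.symm x, eL.apply_symm_apply x⟩)
    have htop := Sylow.normalizer_sup_eq_top S'
    have hkM : (⟨k, hLn⟩ : M) ∈ Subgroup.normalizer
        (((S' : Subgroup (L.subgroupOf M)).map (L.subgroupOf M).subtype : Subgroup M) : Set M) ⊔
          L.subgroupOf M := htop.symm ▸ Subgroup.mem_top _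
    obtain ⟨n, hn1, l, hl, e⟩ := Subgroup.mem_sup_of_normal_right.1 hkM
    have himg : ((S' : Subgroup (L.subgroupOf M)).map (L.subgroupOf M).subtype).map M.subtype =
        S0 := by
      ext x
      constructor
      · rintro ⟨_, ⟨z, hz, rfl⟩, rfl⟩
        exact ⟨eL z, hz, rfl⟩
      · rintro ⟨z, hz, rfl⟩
        exact ⟨_, ⟨eL.symm z, show eL (eL.symm z) ∈ (S : Subgroup L) by
          rw [eL.apply_symm_apply]; exact hz, rfl⟩, rfl⟩
    have hnS : (n : K) ∈ Subgroup.normalizer (S0 : Set K) :=
      himg ▸ Subgroup.le_normalizer_map M.subtype ⟨n, hn1, rfl⟩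
    have hlL : (l : K) ∈ L := hl
    rw [hL, Subgroup.mem_comap, ← hmap] at hlL
    obtain ⟨s, hs, hse⟩ := hlL
    refine ⟨n * s, mul_mem hnS (Subgroup.le_normalizer hs), ?_⟩
    rw [map_mul, hse, ← map_mul, ← show (n : K) * l = k from congrArg Subtype.val e]
  set NS := Subgroup.normalizer (S0 : Set K)
  let ρ : NS →* N := (π.comp NS.subtype).codRestrict N fun x =>
    Subgroup.mem_comap.1 (show (x : K) ∈ N.comap π by
      rw [Subgroup.mem_comap]
      have h1 := Subgroup.le_normalizer_map π (Subgroup.mem_map_of_mem π x.2)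
      rwa [hmap] at h1)
  have hρ : Function.Surjective ρ := by
    rintro ⟨y, hy⟩
    obtain ⟨k, hk, rfl⟩ := hlift y hy
    exact ⟨⟨k, hk⟩, rfl⟩
  let j : NS →* ↥(Subgroup.normalizer (P0 : Set G)) :=
    (K.subtype.comp NS.subtype).codRestrict _ fun x =>
      Subgroup.le_normalizer_map K.subtype ⟨x, x.2, rfl⟩
  have hj : Function.Injective j := fun x y h =>
    Subtype.ext (Subtype.ext (congrArg (fun z : ↥(Subgroup.normalizer (P0 : Set G)) => (z : G)) h))
  refine h P0 hP0p hP0b (CfsgLib.Fusion.involves_of_injective j hj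
    (CfsgLib.Fusion.involves_of_surjective ρ hρ ?_))
  obtain ⟨e⟩ := hiso
  let eK := Subgroup.subgroupOfEquivOfLe hK'
  have hsub : ((L'.subgroupOf N).subgroupOf (K'.subgroupOf N)) =
      (L'.subgroupOf K').comap eK.toMonoidHom := rfl
  haveI : ((L'.subgroupOf N).subgroupOf (K'.subgroupOf N)).Normal := hsub ▸ hn'.comap _
  refine ⟨K'.subgroupOf N, L'.subgroupOf N, inferInstance,
    ⟨(QuotientGroup.congr _ _ eK ?_).trans e⟩⟩
  rw [hsub]
  exact Subgroup.map_comap_eq_self_of_surjective eK.surjective _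

end Cfsg.Agent.S2004
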