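import Cfsg.Statements.S2006
-- import your own Cfsg.Agent.* helpers here
import Cfsg.Agent.Lib.CFun.EngelChief

set_option autoImplicit false
universe u
open Cfsg

namespace Cfsg.Agent.S2006


/-- Let p be a prime, G a finite group with Sylow p-subgroup S, and W an isomorphism-invariant p-group functor (W assigns to every group Q a subgroup W(Q), nontrivial whenever Q is a nontrivial finite p-group, and every isomorphism from a finite p-group Q onto a group R carries W(Q) onto W(R)). Suppose N_G(W(S)) has a normal p-complement, and that whenever G* = K/R is a section of G with C_{G*}(O_p(G*)) ≤ O_p(G*) and S* is a Sylow p-subgroup of G* with W(S*) not normal in G*, there are an element g of S* outside O_p(G*) and a chief factor X/Y of G* with X ≤ O_p(G*) such that [X, g, …, g] ≤ Y with p − 1 entries g but [X, g] ≰ Y. Then G has a normal p-complement. -/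
theorem result {G : Type u} [Group G] [Finite G] {p : ℕ} [Fact p.Prime] (W : ∀ (Q : Type u) [Group Q], Subgroup Q) (hW : Cfsg.IsCharPFunctor.{u} p W) (S : Sylow p G) (hN : Cfsg.HasNormalPComplement p ↥(Subgroup.normalizer ((Cfsg.inducedFunctor (G := G) W (S : Subgroup G) : Subgroup G) : Set G))) (hloc : ∀ (K R : Subgroup G) [hR : (R.subgroupOf K).Normal], Subgroup.centralizer ((Cfsg.pCore p (↥K ⧸ R.subgroupOf K) : Subgroup (↥K ⧸ R.subgroupOf K)) : Set (↥K ⧸ R.subgroupOf K)) ≤ Cfsg.pCore p (↥K ⧸ R.subgroupOf K) → ∀ T : Sylow p (↥K ⧸ R.subgroupOf K), ¬ (Cfsg.inducedFunctor (G := (↥K ⧸ R.subgroupOf K)) W ((T : Subgroup (↥K ⧸ R.subgroupOf K)))).Normal → ∃ g : (↥K ⧸ R.subgroupOf K), g ∈ (T : Subgroup (↥K ⧸ R.subgroupOf K)) ∧ g ∉ Cfsg.pCore p (↥K ⧸ R.subgroupOf K) ∧ ∃ U V : Subgroup (↥K ⧸ R.subgroupOf K), Cfsg.IsChiefFactor U V ∧ U ≤ Cfsg.pCore p (↥K ⧸ R.subgroupOf K) ∧ Cfsg.iterCommutator U (Subgroup.zpowers g) (p - 1) ≤ V ∧ ¬ ⁅U, Subgroup.zpowers g⁆ ≤ V) : Cfsg.HasNormalPComplement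 p G := by
  refine CfsgLib.CFun.hasNormalPComplement_of_functor (G₀ := G) hW
    (fun X _ _ T hX hcon hquot hmax _ => ?_) _ G rfl (CfsgLib.CFun.involves_self G) S hN
  obtain ⟨A, B, hB, ⟨e⟩⟩ := hX
  haveI := hB
  haveI hXn := CfsgLib.Coprime.pCore_normal' (G := X) p
  haveI hYn := CfsgLib.Coprime.pCore_normal' (G := ↥A ⧸ B.subgroupOf A) p
  let T' : Sylow p (↥A ⧸ B.subgroupOf A) :=
    T.mapSurjective (f := e.symm.toMonoidHom) e.symm.surjective
  have hTmap : (T' : Subgroup (↥A ⧸ B.subgroupOf A)).map e.toMonoidHom = (T : Subgroup X) := by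
    show ((T : Subgroup X).map e.symm.toMonoidHom).map e.toMonoidHom = _
    rw [Subgroup.map_map]
    ext y
    simp
  have hnor : (Cfsg.inducedFunctor W (T' : Subgroup (↥A ⧸ B.subgroupOf A))).Normal := by
    by_contra hno
    obtain ⟨g, hgT, -, U, V, hch, hU, hE, hne⟩ := hloc A B (fun x hx => by
      rw [← CfsgLib.Coprime.map_pCore_equiv e.symm]
      refine ⟨e x, hcon (Subgroup.mem_centralizer_iff.2 fun q hq => ?_), e.symm_apply_apply x⟩
      have := Subgroup.mem_centralizer_iff.1 hx (e.symm q) (by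
        rw [← CfsgLib.Coprime.map_pCore_equiv e.symm]; exact Subgroup.mem_map_of_mem _ hq)
      simpa using congrArg e this) T' hno
    exact CfsgLib.CFun.Engel.false_of_engel_chief T'
      ((OrderIso.isCoatom_iff e.symm.mapSubgroup (T : Subgroup X)).2 hmax)
      (fun _ => (CfsgLib.Fusion.hasNormalPComplement_congr
        (QuotientGroup.congr _ _ e (CfsgLib.Coprime.map_pCore_equiv e p))).2 (hquot hXn))
      hgT hch hU hE hne
  haveI : (Cfsg.inducedFunctor W (T : Subgroup X)).Normal := by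
    rw [← hTmap, CfsgLib.CFun.induced_map hW T'.2 e.toMonoidHom e.injective]
    exact hnor.map _ e.surjective
  exact fun C g _ _ => ⟨g, by rw [Subgroup.normalizer_eq_top]; exact Subgroup.mem_top g,
    fun _ _ => rfl⟩


end Cfsg.Agent.S2006
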