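import Cfsg.Statements.S2008
import Cfsg.Agent.Lib.CFun.KleinFixedFree

set_option autoImplicit false
open Cfsg

namespace Cfsg.Agent.S2008

/-- Let H be a finite group and z an involution such that every proper normal subgroup of H meets the centralizer of z trivially, and suppose z lies in a Klein four-subgroup E of H all three of whose involutions are conjugate to z in H. Then H has no non-trivial abelian normal subgroup. -/
theorem result {H : Type*} [Group H] [Finite H] (z : H) (hz : orderOf z = 2) (hN : ∀ N : Subgroup H, N.Normal → N ≠ ⊤ → N ⊓ Subgroup.centralizer ({z} : Set H) = ⊥) (E : Subgroup H) (hE : IsKleinFour ↥E) (hzE : z ∈ E) (hc : ∀ e ∈ E, e ≠ 1 → IsConj z e) (N : Subgroup H) [N.Normal] (hab : IsMulCommutative ↥N) : N = ⊥ := by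
  by_cases hT : N = ⊤
  · exfalso
    subst hT
    have hcomm : ∀ a b : H, a * b = b * a := fun a b => congrArg Subtype.val
      (hab.is_comm.comm (⟨a, Subgroup.mem_top a⟩ : (⊤ : Subgroup H)) ⟨b, Subgroup.mem_top b⟩)
    have hle : E ≤ Subgroup.zpowers z := fun e he => by
      by_cases he1 : e = 1
      · exact he1 ▸ one_mem _
      obtain ⟨c, rfl⟩ := isConj_iff.1 (hc e he he1)
      rw [hcomm c z, mul_inv_cancel_right]
      exact Subgroup.mem_zpowers z
    have h1 := Nat.le_of_dvd Nat.card_pos (Subgroup.card_dvd_of_le hle)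
    rw [Nat.card_zpowers, hz, hE.card_four] at h1
    omega
  · exact CfsgLib.CFun.eq_bot_of_klein_fused hz hE hc (hN N inferInstance hT)

end Cfsg.Agent.S2008
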