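import Cfsg.Statements.S2011
import Cfsg.Agent.Lib.CFun.CentricGroup

set_option autoImplicit false
open Cfsg

namespace Cfsg.Agent.S2011

/-- Let G be a finite group with Sylow p-subgroup P and Q ≤ P. Then Q is centric in the fusion system of G on P (C_P(R) ≤ R for every G-conjugate R of Q lying in P) if and only if C_G(Q) is the internal direct product of Z(Q) = Q ∩ C_G(Q) and the largest normal subgroup of C_G(Q) of order prime to p. -/
theorem result {G : Type*} [Group G] [Finite G] (p : ℕ) [Fact p.Prime] (P : Sylow p G) (Q : Subgroup G) (hQ : Q ≤ P) : (Cfsg.groupFusionSystem (P : Subgroup G)).IsCentric Q ↔ Cfsg.IsInternalDirectProduct (Q ⊓ Subgroup.centralizer (Q : Set G)) ((Cfsg.pPrimeCore p ↥(Subgroup.centralizer (Q : Set G))).map (Subgroup.centralizer (Q : Set G)).subtype) (Subgroup.centralizer (Q : Set G)) := by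
  exact ⟨CfsgLib.CFun.centralizer_eq_of_isCentric P, CfsgLib.CFun.isCentric_of_centralizer_eq P hQ⟩

end Cfsg.Agent.S2011
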