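import Cfsg.Statements.S2012
import Cfsg.Agent.Lib.Fusion.AlperinTame

set_option autoImplicit false
open Cfsg

namespace Cfsg.Agent.S2012

open CfsgLib.Fusion

variable {G : Type*} [Group G] {p : ℕ}

/-- A tame chain whose factors are `p`-elements except at `P` itself. -/
inductive PChain (P : Sylow p G) : Subgroup G → G → Prop
  | nil (D : Subgroup G) : PChain P D 1
  | cons {D : Subgroup G} {g : G} (Q : Sylow p G) (x : G) (hT : Tame P Q)
      (hx : x ∈ Subgroup.normalizer ((((P : Subgroup G) ⊓ (Q : Subgroup G)) : Subgroup G) : Set G))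
      (hk : (Q : Subgroup G) = (P : Subgroup G) ∨ ∃ k : ℕ, orderOf x = p ^ k)
      (hD : D ≤ (P : Subgroup G) ⊓ (Q : Subgroup G)) (h : PChain P (conjBy x⁻¹ D) g) :
      PChain P D (x * g)

theorem PChain.mono {P : Sylow p G} {D : Subgroup G} {g : G} (h : PChain P D g) :
    ∀ {D' : Subgroup G}, D' ≤ D → PChain P D' g := by
  induction h with
  | nil D => intro D' _; exact PChain.nil D'
  | cons Q x hT hx hk hD _ ih =>
    intro D' hle
    exact PChain.cons Q x hT hx hk (hle.trans hD) (ih (conjBy_mono hle))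

theorem PChain.comp {P : Sylow p G} {D : Subgroup G} {g : G} (h₁ : PChain P D g) :
    ∀ {h : G}, PChain P (conjBy g⁻¹ D) h → PChain P D (g * h) := by
  induction h₁ with
  | nil D => intro h h₂; rw [inv_one, conjBy_one] at h₂; rwa [one_mul]
  | cons Q x hT hx hk hD _ ih =>
    intro h h₂
    rw [mul_inv_rev, ← conjBy_conjBy] at h₂
    rw [mul_assoc]
    exact PChain.cons Q x hT hx hk hD (ih h₂)

theorem PChain.exists_seq {P : Sylow p G} {D : Subgroup G} {g : G} (h : PChain P D g) :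
    ∀ A : Set G, A ⊆ (D : Set G) →
    ∃ (n : ℕ) (Q : Fin n → Sylow p G) (x : Fin n → G), (List.ofFn x).prod = g ∧
      (∀ i : Fin n, x i ∈ Subgroup.normalizer ((((P : Subgroup G) ⊓ (Q i : Subgroup G)) : Subgroup G) : Set G) ∧
        Tame P (Q i) ∧ ((Q i : Subgroup G) = (P : Subgroup G) ∨ ∃ k : ℕ, orderOf (x i) = p ^ k)) ∧
      (∀ h : 0 < n, A ⊆ (((P : Subgroup G) ⊓ (Q ⟨0, h⟩ : Subgroup G) : Subgroup G) : Set G)) ∧
      ∀ i : Fin n, ∀ h : i.val + 1 < n,
        (fun a => (((List.ofFn x).take (i.val + 1)).prod)⁻¹ * a * ((List.ofFn x).take (i.val + 1)).prod) '' A ⊆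
          (((P : Subgroup G) ⊓ (Q ⟨i.val + 1, h⟩ : Subgroup G) : Subgroup G) : Set G) := by
  induction h with
  | nil D =>
    intro A _
    exact ⟨0, Fin.elim0, Fin.elim0, by simp, fun i => i.elim0, fun h => absurd h (lt_irrefl 0),
      fun i => i.elim0⟩
  | @cons D g Q x hT hx hk hD _ ih =>
    intro A hA
    obtain ⟨n, Q', x', hprod, hmem, h0, hstep⟩ := ih ((fun a => x⁻¹ * a * x) '' A) (by
      rintro _ ⟨a, ha, rfl⟩
      refine ⟨a, hA ha, ?_⟩
      simp)
    refine ⟨n + 1, Fin.cons Q Q', Fin.cons x x', ?_, Fin.cases ⟨hx, hT, hk⟩ hmem,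
      fun _ a ha => hD (hA ha), fun i hi => ?_⟩
    · rw [List.ofFn_cons, List.prod_cons, hprod]
    · rw [List.ofFn_cons, List.take_succ_cons, List.prod_cons]
      obtain ⟨i, hi'⟩ := i
      rintro _ ⟨a, ha, rfl⟩
      have hQ : (Fin.cons Q Q' : Fin (n + 1) → Sylow p G) ⟨i + 1, hi⟩ = Q' ⟨i, by simp only at hi; omega⟩ :=
        rfl
      rw [hQ]
      rcases i with - | j
      · simpa using h0 (by simp only at hi; omega) ⟨a, ha, rfl⟩
      · have h1 := hstep ⟨j, by simp only at hi; omega⟩ (by simp only at hi ⊢; omega)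
          ⟨x⁻¹ * a * x, ⟨a, ha, rfl⟩, rfl⟩
        simp only at h1 ⊢
        convert h1 using 1
        rw [mul_inv_rev]
        simp only [mul_assoc]

theorem card_lt' [Finite G] {H K : Subgroup G} (h : H < K) : Nat.card H < Nat.card K := by
  have := Set.ncard_lt_ncard (SetLike.coe_ssubset_coe.2 h) (Set.toFinite _)
  simpa [← Nat.card_coe_set_eq] using this

theorem exists_pChain [Finite G] [Fact p.Prime] (P : Sylow p G) : ∀ A : Subgroup G,
    A ≤ (P : Subgroup G) → ∀ g : G, conjBy g⁻¹ A ≤ (P : Subgroup G) → PChain P A g := by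
  intro A
  induction hd : Nat.card G - Nat.card A using Nat.strong_induction_on generalizing A with
  | _ d ih =>
  subst hd
  intro hA g hg
  have ih' : ∀ A' : Subgroup G, A' ≤ P → Nat.card A < Nat.card A' →
      ∀ y ∈ Subgroup.normalizer (A' : Set G), PChain P A' y := fun A' hA' hlt y hy =>
    ih _ (by have := Subgroup.card_le_card_group A'; omega) A' rfl hA' y
      (by rw [conjBy_eq_iff.2 (inv_mem hy)]; exact hA')
  obtain ⟨D, hAD, hD⟩ := exists_tameChain P (A : Set G) g hA (by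
    rintro _ ⟨a, ha, rfl⟩
    have := hg (conj_mem_conjBy (g := g⁻¹) ha)
    rwa [inv_inv] at this)
  suffices key : ∀ (A' : Subgroup G) (k : G), TameChain P A' k → Nat.card A ≤ Nat.card A' →
      PChain P A' k from key A g (hD.mono hAD) le_rfl
  intro A' k hk
  induction hk with
  | nil D => intro _; exact PChain.nil D
  | @cons D k Q x hT hx hD' _ ihk =>
    intro hle
    refine PChain.comp ?_ (ihk (by rw [card_conjBy]; exact hle))
    set E := (P : Subgroup G) ⊓ (Q : Subgroup G) with hE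
    by_cases hQP : (Q : Subgroup G) = (P : Subgroup G)
    · simpa using PChain.cons Q x hT hx (Or.inl hQP) hD' (PChain.nil _)
    rcases (hle.trans (Subgroup.card_le_of_le hD')).lt_or_eq with hlt | heq
    · exact (ih' E inf_le_left hlt x hx).mono hD'
    refine PChain.mono ?_ hD'
    set NE := Subgroup.normalizer (E : Set G) with hNE
    set S := (P : Subgroup G) ⊓ NE with hS
    set L := Subgroup.closure {y : G | y ∈ NE ∧ ∃ j : ℕ, orderOf y = p ^ j} with hL
    have hLN : L ≤ NE := (Subgroup.closure_le _).2 fun y hy => hy.1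
    have hpos : ∀ y ∈ L, PChain P E y := by
      intro y hy
      have hy' : y ∈ NE ∧ PChain P E y := by
        rw [hL, ← Subgroup.mem_toSubmonoid, Subgroup.closure_toSubmonoid_of_finite] at hy
        induction hy using Submonoid.closure_induction with
        | mem z hz =>
          refine ⟨hz.1, ?_⟩
          simpa using PChain.cons Q z hT hz.1 (Or.inr hz.2) le_rfl (PChain.nil _)
        | one => exact ⟨one_mem _, PChain.nil E⟩
        | mul a b _ _ iha ihb =>
          refine ⟨mul_mem iha.1 ihb.1, iha.2.comp ?_⟩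
          rw [conjBy_eq_iff.2 (inv_mem iha.1)]
          exact ihb.2
      exact hy'.2
    have hSp : IsPGroup p S := P.2.to_le inf_le_left
    have hSL : S ≤ L := fun s hs => Subgroup.subset_closure ⟨hs.2, by
      obtain ⟨j, hj⟩ := IsPGroup.iff_orderOf.1 hSp ⟨s, hs⟩
      exact ⟨j, by rwa [Subgroup.orderOf_mk] at hj⟩⟩
    have hxS : conjBy x S ≤ L := conjBy_le_iff.2 fun s hs => Subgroup.subset_closure ⟨
      mul_mem (mul_mem hx hs.2) (inv_mem hx), by
      obtain ⟨j, hj⟩ := IsPGroup.iff_orderOf.1 hSp ⟨s, hs⟩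
      refine ⟨j, ?_⟩
      rw [Subgroup.orderOf_mk] at hj
      rw [← hj]
      exact (MulAut.conj x).orderOf_eq s⟩
    obtain ⟨m, hm, hm'⟩ := exists_conj_le_of_not_dvd_relIndex hSp hSL
      (fun h => hT.1 (h.trans (Dvd.intro _ (Subgroup.relIndex_mul_relIndex S L NE hSL hLN))))
      (isPGroup_conjBy x hSp) hxS
    rw [conjBy_conjBy] at hm'
    have hyS : m * x ∈ Subgroup.normalizer (S : Set G) := conjBy_eq_iff.1 (conjBy_eq_of_le hm')
    have hES : E < S := by
      refine lt_of_le_of_ne (le_inf inf_le_left Subgroup.le_normalizer) fun he => hQP ?_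
      haveI : Group.IsNilpotent (P : Subgroup G) := P.2.isNilpotent
      by_cases hPE : (P : Subgroup G) ≤ E
      · exact P.3 Q.2 (hPE.trans inf_le_right)
      · exfalso
        have hlt : E.subgroupOf (P : Subgroup G) < ⊤ := by
          rw [lt_top_iff_ne_top, Ne, Subgroup.subgroupOf_eq_top]; exact hPE
        obtain ⟨y, hy, hyE⟩ := SetLike.exists_of_lt
          (Group.normalizerCondition_of_isNilpotent (G := (P : Subgroup G)) _ hlt)
        refine hyE (show (y : G) ∈ E from ?_)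
        rw [he]
        refine ⟨y.2, Subgroup.mem_normalizer_iff.2 fun z => ?_⟩
        by_cases hz : z ∈ (P : Subgroup G)
        · exact Subgroup.mem_normalizer_iff.1 hy ⟨z, hz⟩
        · exact iff_of_false (fun h => hz h.1) fun h =>
            hz (by simpa [mul_assoc] using mul_mem (mul_mem (inv_mem y.2) h.1) y.2)
    have h1 : PChain P E (m * x) :=
      (ih' S inf_le_left (heq ▸ card_lt' hES) _ hyS).mono hES.le
    have h2 := (hpos m⁻¹ (inv_mem hm)).comp (h := m * x)
      (by rw [inv_inv, conjBy_eq_iff.2 (hLN hm)]; exact h1)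
    rwa [inv_mul_cancel_left] at h2


/-- Alperin's fusion Theorem with the factors taken to be p-elements: let P be a Sylow p-subgroup of a finite group G, A a subset of P and g an element with g⁻¹Ag ⊆ P. Then g = x_1 ⋯ x_n where, for each i, Q_i is a Sylow p-subgroup with P ∩ Q_i a tame intersection (the normalizers in P and in Q_i of P ∩ Q_i are Sylow in N_G(P ∩ Q_i)), x_i normalizes P ∩ Q_i, x_i has p-power order unless Q_i = P, A ⊆ P ∩ Q_1, and (x_1 ⋯ x_i)⁻¹ A (x_1 ⋯ x_i) lies in P ∩ Q_{i+1} for i < n. -/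
theorem result {G : Type*} [Group G] [Finite G] {p : ℕ} [Fact p.Prime] (P : Sylow p G) (A : Set G) (g : G) (hA : A ⊆ (P : Set G)) (hAg : (fun a => g⁻¹ * a * g) '' A ⊆ (P : Set G)) : ∃ (n : ℕ) (Q : Fin n → Sylow p G) (x : Fin n → G), (List.ofFn x).prod = g ∧ (∀ i : Fin n, x i ∈ Subgroup.normalizer ((((P : Subgroup G) ⊓ (Q i : Subgroup G)) : Subgroup G) : Set G) ∧ ¬ p ∣ ((P : Subgroup G) ⊓ Subgroup.normalizer ((((P : Subgroup G) ⊓ (Q i : Subgroup G)) : Subgroup G) : Set G)).relIndex (Subgroup.normalizer ((((P : Subgroup G) ⊓ (Q i : Subgroup G)) : Subgroup G) : Set G)) ∧ ¬ p ∣ ((Q i : Subgroup G) ⊓ Subgroup.normalizer ((((P : Subgroup G) ⊓ (Q i : Subgroup G)) : Subgroup G) : Set G)).relIndex (Subgroup.normalizer ((((P : Subgroup G) ⊓ (Q i : Subgroup G)) : Subgroup G) : Set G)) ∧ ((Q i : Subgroup G) = (P : Subgroup G) ∨ ∃ k : ℕ, orderOf (x i) = p ^ k)) ∧ (∀ h : 0 < n, A ⊆ (((P : Subgroup G) ⊓ (Q ⟨0, h⟩ : Subgroup G) : Subgroup G) : Set G)) ∧ ∀ i : Fin n, ∀ h : i.val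 + 1 < n, (fun a => (((List.ofFn x).take (i.val + 1)).prod)⁻¹ * a * ((List.ofFn x).take (i.val + 1)).prod) '' A ⊆ (((P : Subgroup G) ⊓ (Q ⟨i.val + 1, h⟩ : Subgroup G) : Subgroup G) : Set G) := by
  have hcl : Subgroup.closure A ≤ (P : Subgroup G) := (Subgroup.closure_le _).2 hA
  have h1 := exists_pChain P (Subgroup.closure A) hcl g (by
    rw [CfsgLib.Fusion.conjBy, MonoidHom.map_closure, Subgroup.closure_le]
    rintro _ ⟨a, ha, rfl⟩
    simpa using hAg ⟨a, ha, rfl⟩)
  obtain ⟨n, Q, x, hprod, hmem, h0, hstep⟩ := h1.exists_seq A Subgroup.subset_closure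
  exact ⟨n, Q, x, hprod, fun i => ⟨(hmem i).1, (hmem i).2.1.1, (hmem i).2.1.2, (hmem i).2.2⟩,
    h0, hstep⟩

end Cfsg.Agent.S2012
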