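import Cfsg.Statements.S2014
import Cfsg.Agent.Lib.CFun.LocalGlobal
import Cfsg.Agent.Lib.Fusion.Residual

set_option autoImplicit false
open Cfsg

namespace Cfsg.Agent.S2014

/-- Let P be a Sylow p-subgroup of a finite group G and A, C ≤ P subgroups conjugate in G, with C extremal: N_P(C) is a Sylow p-subgroup of N_G(C). Then there is g with gAg⁻¹ = C and g N_P(A) g⁻¹ ≤ N_P(C); moreover, given any h with hAh⁻¹ = C, g can be chosen so that h g⁻¹ lies in O^p(N_G(C)), the subgroup of N_G(C) generated by its elements of order prime to p. -/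
theorem result {G : Type*} [Group G] [Finite G] (p : ℕ) [Fact p.Prime] (P : Sylow p G) (A C : Subgroup G) (hA : A ≤ P) (hC : C ≤ P) (hext : ¬ p ∣ ((P : Subgroup G) ⊓ Subgroup.normalizer ((C : Subgroup G) : Set G)).relIndex (Subgroup.normalizer ((C : Subgroup G) : Set G))) (h : G) (hh : A.map (MulAut.conj h).toMonoidHom = C) : ∃ g : G, A.map (MulAut.conj g).toMonoidHom = C ∧ ((P : Subgroup G) ⊓ Subgroup.normalizer ((A : Subgroup G) : Set G)).map (MulAut.conj g).toMonoidHom ≤ (P : Subgroup G) ⊓ Subgroup.normalizer ((C : Subgroup G) : Set G) ∧ h * g⁻¹ ∈ (Cfsg.pResidual p ↥(Subgroup.normalizer ((C : Subgroup G) : Set G))).map (Subgroup.normalizer ((C : Subgroup G) : Set G)).subtype := by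
  set N := Subgroup.normalizer ((C : Subgroup G) : Set G) with hN
  set L := (P : Subgroup G) ⊓ N with hL
  haveI : (Cfsg.pResidual p ↥N).Normal := CfsgLib.Fusion.pResidual_normal
  let Q : Sylow p N := ((P.2.to_le inf_le_left).of_equiv
    (Subgroup.subgroupOfEquivOfLe (inf_le_right : L ≤ N)).symm).toSylow hext
  have hX : CfsgLib.Fusion.conjBy h ((P : Subgroup G) ⊓ Subgroup.normalizer (A : Set G)) ≤ N := by
    rw [hN, ← hh, ← CfsgLib.Fusion.conjBy_normalizer]
    exact CfsgLib.Fusion.conjBy_mono inf_le_right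
  obtain ⟨c, hc, hle⟩ := CfsgLib.Fusion.exists_conj_le_of_not_dvd_relIndex
    (P.2.to_le (inf_le_left : L ≤ (P : Subgroup G))) inf_le_right hext
    (CfsgLib.Fusion.isPGroup_conjBy h
      (P.2.to_le (inf_le_left : (P : Subgroup G) ⊓ Subgroup.normalizer (A : Set G) ≤ P))) hX
  have hcQ : (⟨c, hc⟩ : N) ∈ (Q : Subgroup N) ⊔ Cfsg.pResidual p ↥N := by
    rw [sup_comm, CfsgLib.Fusion.pResidual_sup_sylow Q]; exact Subgroup.mem_top _
  obtain ⟨s, hs, o, ho, hso⟩ := Subgroup.mem_sup_of_normal_right.1 hcQ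
  have hsL : (s : G) ∈ L := hs
  have hc' : c = (s : G) * (o : G) := by rw [← Subgroup.coe_mul, hso]
  refine ⟨(o : G) * h, ?_, ?_, ?_⟩
  · show CfsgLib.Fusion.conjBy _ A = C
    rw [← CfsgLib.Fusion.conjBy_conjBy, show CfsgLib.Fusion.conjBy h A = C from hh,
      CfsgLib.Fusion.conjBy_eq_iff]
    exact o.2
  · refine CfsgLib.Fusion.conjBy_le_iff.2 fun x hx => ?_
    have h1 := CfsgLib.Fusion.conjBy_le_iff.1 hle (h * x * h⁻¹)
      (CfsgLib.Fusion.conj_mem_conjBy hx)
    have h2 := mul_mem (mul_mem (inv_mem hsL) h1) hsL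
    rw [hc'] at h2
    convert h2 using 1
    group
  · rw [show h * ((o : G) * h)⁻¹ = (o : G)⁻¹ by group]
    exact inv_mem ⟨o, ho, rfl⟩

end Cfsg.Agent.S2014
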