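import Cfsg.Statements.S2015
import Cfsg.Agent.S1984

set_option autoImplicit false
universe u
open Cfsg

namespace Cfsg.Agent.S2015

/-- For p ≥ 5, every finite p-group P has a characteristic subgroup K containing Z(P), depending only on P, whose normalizer controls transfer wherever P is a Sylow subgroup: for every finite group G and every embedding ι of P onto a Sylow p-subgroup of G, the intersection of ι(P) with the derived subgroup of G equals its intersection with the derived subgroup of N_G(ι(K)). -/
theorem result (p : ℕ) [Fact p.Prime] (hp : 5 ≤ p) (P : Type u) [Group P] [Finite P] (hP : IsPGroup p P) : ∃ K : Subgroup P, K.Characteristic ∧ Subgroup.center P ≤ K ∧ ∀ (G : Type u) [Group G] [Finite G] (ι : P →* G), Function.Injective ι → (∃ T : Sylow p G, (T : Subgroup G) = ι.range) → ι.range ⊓ commutator G = ι.range ⊓ (commutator ↥(Subgroup.normalizer ((K.map ι : Subgroup G) : Set G))).map (Subgroup.normalizer ((K.map ι : Subgroup G) : Set G)).subtype := by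
  haveI : Fact (1 < 2) := ⟨Nat.one_lt_two⟩
  refine ⟨Cfsg.kInfLower P, CfsgLib.CFun.kInfLower_characteristic, CfsgLib.CFun.center_le_kInf.1,
    fun G _ _ ι hι hT => ?_⟩
  obtain ⟨T, hT⟩ := hT
  have h := (CfsgLib.CFun.ctrl_iff (fun W' hW' => Set.mem_singleton_iff.1 hW' ▸
    CfsgLib.CFun.kInfLower_isCharPFunctor) T).1
      (CfsgLib.CFun.controlsTransferIn_iff_ctrl.1 (Cfsg.Agent.S1984.result hp))
  have hK : Cfsg.inducedFunctor Cfsg.kInfLower (T : Subgroup G) = (Cfsg.kInfLower P).map ι := by
    have e1 : (⊤ : Subgroup P).map ι = (T : Subgroup G) := by rw [← MonoidHom.range_eq_map, hT]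
    rw [← e1, CfsgLib.CFun.induced_map CfsgLib.CFun.kInfLower_isCharPFunctor
      (hP.to_subgroup ⊤) ι hι]
    refine congrArg (Subgroup.map ι) ?_
    exact CfsgLib.CFun.kInfLower_equiv Subgroup.topEquiv
  rw [← hT, h, Subgroup.map_subtype_commutator]
  simp [CfsgLib.CFun.famSup, CfsgLib.CFun.indFam, hK]

end Cfsg.Agent.S2015
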