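import Cfsg.Statements.S2034
import Cfsg.Agent.Lib.Lie.Mult.M11
import Cfsg.Agent.Lib.PGroup.StemExtension
-- import your own Cfsg.Agent.* helpers here

set_option autoImplicit false
open Cfsg

namespace Cfsg.Agent.S2034

/-- The Schur multiplier of the Mathieu group M₁₁ (the stabiliser of a dodecad and one of its points in the automorphism group of the length-24 binary code) is trivial; here the Schur multiplier is described through stem extensions, as in the definitions: surjective homomorphisms onto the group from a finite group, whose kernel is central in that finite group and contained in that finite group's commutator subgroup. -/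
theorem result : Cfsg.HasCyclicSchurMultiplier ↥Cfsg.Spor.M11 1 := by
  haveI : Finite ↥Cfsg.Spor.M11 :=
    Nat.finite_of_card_ne_zero (by rw [CfsgLib.Spor.card_sporM11]; norm_num)
  exact CfsgLib.Schur.hasCyclic_one_of_ker_eq_bot fun Γ _ _ σ hσ =>
    CfsgLib.Lie.MultM11.m11_stem_ker hσ

end Cfsg.Agent.S2034
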