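import Cfsg.Statements.S2087
import Cfsg.Agent.Lib.Lie.SLUniv.Main
import Cfsg.Agent.Lib.Lie.Mult.Congr
import Cfsg.Agent.S0255
-- import your own Cfsg.Agent.* helpers here

set_option autoImplicit false
open Cfsg

namespace Cfsg.Agent.S2087

universe u

private theorem mult_three_two {F : Type u} [Field F] [Fintype F] (hF : Fintype.card F = 2) :
    Cfsg.HasCyclicSchurMultiplier (Matrix.ProjectiveSpecialLinearGroup (Fin 3) F) 2 := by
  haveI : Fact (Nat.Prime 7) := ⟨by norm_num⟩
  have hK : Fintype.card (ULift.{u} (ZMod 7)) = 7 := by rw [Fintype.card_ulift, ZMod.card]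
  obtain ⟨e⟩ := Cfsg.Agent.S0255.result (F := ULift.{u} (ZMod 7)) (K := F) hK hF
  have h := CfsgLib.Lie.SLUniv.psl_multiplier (F := ULift.{u} (ZMod 7)) (n := 2) le_rfl
    (fun _ => by omega) (by simp [hK])
  rw [hK] at h
  exact CfsgLib.Lie.Mult.hasSchurMultiplier_congr e h

/-- Exceptional Schur multiplier: over the field with 2 elements, PSL₃ has Schur multiplier cyclic of order 2 (here the Schur multiplier is described through stem extensions, as in the definitions). -/
theorem result {F : Type*} [Field F] [Fintype F] (hF : Fintype.card F = 2) : Cfsg.HasCyclicSchurMultiplier (Matrix.ProjectiveSpecialLinearGroup (Fin 3) F) 2 := by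
  exact mult_three_two hF

end Cfsg.Agent.S2087
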