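import Cfsg.Statements.S2094
import Cfsg.Agent.Lib.Lie.Mult.Orth.Main
-- import your own Cfsg.Agent.* helpers here

set_option autoImplicit false
open Cfsg

namespace Cfsg.Agent.S2094

/-- Schur multipliers of the odd-dimensional orthogonal groups: for m ≥ 3 and a field F of odd order q with (m, q) ≠ (3, 3), the Schur multiplier of PΩ_(2m+1)(F) (for the form x₀² + Σ xᵢyᵢ) is cyclic of order 2 = gcd(2, q − 1); here the Schur multiplier is described through stem extensions, as in the definitions. -/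
theorem result {F : Type*} [Field F] [Fintype F] {q : ℕ} (hF : Fintype.card F = q) (hq : Odd q) (m : ℕ) (hm : 3 ≤ m) (hexc : ¬ (m = 3 ∧ q = 3)) : Cfsg.HasCyclicSchurMultiplier (Cfsg.POmega F (Cfsg.quadFormOdd m F)) 2 := by
  subst hF
  classical
  have h2 : (2 : F) ≠ 0 := CfsgLib.Orth.two_ne_zero_of_odd hq
  have hQ := CfsgLib.Perm.Trans.Quad.quadFormOdd_nd (F := F) (m := m) h2
  have hq' := hq
  rw [Nat.odd_iff] at hq'
  have h1 : 1 < Fintype.card F := Fintype.one_lt_card
  have hcard : Fintype.card (Unit ⊕ (Fin m ⊕ Fin m)) = 2 * m + 1 := by simp; omega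
  refine (CfsgLib.Lie.Mult.Orth.pomega_multiplier hQ h2 (by omega)
    (CfsgLib.Lie.Mult.Orth.bound_odd h2 hQ (by omega))).1 ?_
  rintro ⟨g, hg, hgm⟩
  have hdet := (CfsgLib.Orth.det_eq_one_iff hQ h2 g.2).2
    ((CfsgLib.Orth.mem_omega_iff hQ (by omega) (CfsgLib.Orth.hex_of_two h2) g).1 hg).2
  rw [hgm, Matrix.det_neg, Matrix.det_one, mul_one, Fintype.card_sum, Fintype.card_sum, Fintype.card_fin,
    Fintype.card_unit, (show Odd (1 + (m + m)) from ⟨m, by omega⟩).neg_one_pow] at hdet
  exact h2 (by linear_combination -hdet)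

end Cfsg.Agent.S2094
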