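import Cfsg.Statements.S2096
import Cfsg.Agent.Lib.Lie.Mult.Orth.Main
-- import your own Cfsg.Agent.* helpers here

set_option autoImplicit false
open Cfsg

namespace Cfsg.Agent.S2096

/-- Schur multipliers of the even-dimensional orthogonal groups of plus type and odd rank: for odd l ≥ 5 and a field F with q elements, the Schur multiplier of PΩ⁺_2l(F) (for the form Σ xᵢyᵢ) is cyclic of order gcd(4, q^l − 1); here the Schur multiplier is described through stem extensions, as in the definitions. -/
theorem result {F : Type*} [Field F] [Fintype F] {q : ℕ} (hF : Fintype.card F = q) (l : ℕ) (hl : 5 ≤ l) (hodd : Odd l) : Cfsg.HasCyclicSchurMultiplier (Cfsg.POmega F (Cfsg.quadFormPlus l F)) (Nat.gcd 4 (q ^ l - 1)) := by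
  subst hF
  classical
  have hQ := CfsgLib.Perm.Trans.Quad.quadFormPlus_nd (F := F) (m := l)
  have hcard : Fintype.card (Fin l ⊕ Fin l) = 2 * l := by simp; omega
  have h1 : 1 < Fintype.card F := Fintype.one_lt_card
  by_cases h2 : (2 : F) = 0
  · haveI : CharP F 2 := CharTwo.of_one_ne_zero_of_two_eq_zero one_ne_zero h2
    have he := FiniteField.even_card_of_char_two (ringChar.eq F 2)
    have hp : Fintype.card F ^ l % 2 = 0 := by rw [Nat.pow_mod, he, Nat.zero_pow (by omega)]
    have hp0 : 1 ≤ Fintype.card F ^ l := Nat.one_le_pow _ _ (by omega)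
    rw [CfsgLib.Orth.gcd_four_facts.2.2 (by omega)]
    exact CfsgLib.Lie.Mult.Orth.multiplier_even h2 hQ ⟨l, by omega⟩ (by omega) (Or.inr (by omega))
  · have hq : Odd (Fintype.card F) := Nat.odd_iff.2 (FiniteField.odd_card_of_char_ne_two (F := F) fun e => h2 (by
      haveI := ringChar.of_eq e; exact CharTwo.two_eq_zero))
    have hq' := hq
    rw [Nat.odd_iff] at hq'
    have hx : Fintype.card F ^ l % 2 = 1 := by rw [Nat.pow_mod, hq', one_pow]; rfl
    obtain ⟨hno, hyes⟩ := CfsgLib.Lie.Mult.Orth.pomega_multiplier hQ h2 (by omega)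
      (CfsgLib.Lie.Mult.Orth.bound_odd h2 hQ (by omega))
    have hiff := Cfsg.Agent.S0790.result (F := F) rfl hq l (by omega)
    by_cases h : Fintype.card F ^ l % 4 = 1
    · rw [((CfsgLib.Lie.Mult.Orth.pred_mod_four hx).1 h).1]
      exact (hyes l hcard (hiff.2 h)).1 hodd
    · rw [((CfsgLib.Lie.Mult.Orth.pred_mod_four hx).2 (by omega)).1]
      exact hno fun e => h (hiff.1 e)

end Cfsg.Agent.S2096
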