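import Cfsg.Statements.S2097
import Cfsg.Agent.Lib.Lie.Mult.Orth.Main
-- import your own Cfsg.Agent.* helpers here

set_option autoImplicit false
open Cfsg

namespace Cfsg.Agent.S2097

/-- Schur multipliers of the even-dimensional orthogonal groups of plus type and even rank: for even l ≥ 4 and a field F with q elements, (l, q) ≠ (4, 2), the Schur multiplier of PΩ⁺_2l(F) (for the form Σ xᵢyᵢ) is the product of two cyclic groups of order gcd(2, q^l − 1) (so trivial for q even and a four-group for q odd; here the Schur multiplier is described through stem extensions, as in the definitions). -/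
theorem result {F : Type*} [Field F] [Fintype F] {q : ℕ} (hF : Fintype.card F = q) (l : ℕ) (hl : 4 ≤ l) (heven : Even l) (hexc : ¬ (l = 4 ∧ q = 2)) : Cfsg.HasSchurMultiplier (Cfsg.POmega F (Cfsg.quadFormPlus l F)) (Multiplicative (ZMod (Nat.gcd 2 (q ^ l - 1)) × ZMod (Nat.gcd 2 (q ^ l - 1)))) := by
  subst hF
  classical
  have hQ := CfsgLib.Perm.Trans.Quad.quadFormPlus_nd (F := F) (m := l)
  have hcard : Fintype.card (Fin l ⊕ Fin l) = 2 * l := by simp; omega
  have h1 : 1 < Fintype.card F := Fintype.one_lt_card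
  have hl2 : l % 2 = 0 := Nat.even_iff.1 heven
  by_cases h2 : (2 : F) = 0
  · haveI : CharP F 2 := CharTwo.of_one_ne_zero_of_two_eq_zero one_ne_zero h2
    have he := FiniteField.even_card_of_char_two (ringChar.eq F 2)
    have hp : Fintype.card F ^ l % 2 = 0 := by rw [Nat.pow_mod, he, Nat.zero_pow (by omega)]
    have hp0 : 1 ≤ Fintype.card F ^ l := Nat.one_le_pow _ _ (by omega)
    have hg : Nat.gcd 2 (Fintype.card F ^ l - 1) = 1 := by
      rw [Nat.gcd_rec, show (Fintype.card F ^ l - 1) % 2 = 1 by omega]; rfl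
    rw [hg]
    haveI : Unique (Multiplicative (ZMod 1 × ZMod 1)) :=
      { default := 1, uniq := fun a => Subsingleton.elim (α := ZMod 1 × ZMod 1) _ _ }
    haveI : Unique (Multiplicative (ZMod 1)) :=
      { default := 1, uniq := fun a => Subsingleton.elim (α := ZMod 1) _ _ }
    have h := CfsgLib.Lie.Mult.Orth.multiplier_even h2 hQ ⟨l, by omega⟩ (by omega) (by omega)
    obtain ⟨⟨Γ, iG, iF, π, hπ, ⟨e⟩⟩, hmax⟩ := h
    refine ⟨⟨Γ, iG, iF, π, hπ, ⟨e.trans MulEquiv.ofUnique⟩⟩, fun Γ' _ _ π' hπ' => ?_⟩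
    obtain ⟨f, hf⟩ := hmax Γ' π' hπ'
    exact ⟨f.comp MulEquiv.ofUnique.toMonoidHom, hf.comp MulEquiv.ofUnique.surjective⟩
  · have hq : Odd (Fintype.card F) := Nat.odd_iff.2 (FiniteField.odd_card_of_char_ne_two (F := F) fun e => h2 (by
      haveI := ringChar.of_eq e; exact CharTwo.two_eq_zero))
    have hq' := hq
    rw [Nat.odd_iff] at hq'
    have hx := CfsgLib.Lie.Mult.Orth.pow_odd_four heven hq'
    have hg : Nat.gcd 2 (Fintype.card F ^ l - 1) = 2 := by
      rw [Nat.gcd_rec, show (Fintype.card F ^ l - 1) % 2 = 0 by omega]; rfl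
    have hb : CfsgLib.Lie.Mult.Orth.SBound ↥(Cfsg.Omega F (Cfsg.quadFormPlus l F)) 2 := by
      by_cases hc : l = 4 ∧ Fintype.card F = 3
      · obtain ⟨rfl, h3⟩ := hc
        exact CfsgLib.Lie.Mult.Orth.bound_plus_four_three h3
      · exact CfsgLib.Lie.Mult.Orth.bound_odd h2 hQ (by omega)
    rw [hg]
    exact ((CfsgLib.Lie.Mult.Orth.pomega_multiplier hQ h2 (by omega) hb).2 l hcard
      ((Cfsg.Agent.S0790.result (F := F) rfl hq l (by omega)).2 hx)).2 heven

end Cfsg.Agent.S2097
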