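import Cfsg.Statements.S2099
import Cfsg.Agent.Lib.Lie.Mult.Orth.Main
import Cfsg.Agent.Lib.Lie.MultExc.OMinusEightTwo.Main
import Cfsg.Agent.Lib.Lie.MultExc.OMinusEightThree.Main
-- import your own Cfsg.Agent.* helpers here

set_option autoImplicit false
open Cfsg

namespace Cfsg.Agent.S2099

/-- Schur multipliers of the even-dimensional orthogonal groups of minus type: for l ≥ 4 and a field F with q elements, the Schur multiplier of PΩ⁻_2l(F) (for the form Σ_{i<l−1} xᵢyᵢ + z₁² + a z₁z₂ + b z₂² with the binary part anisotropic) is cyclic of order gcd(4, q^l + 1); here the Schur multiplier is described through stem extensions, as in the definitions. -/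
theorem result {F : Type*} [Field F] [Fintype F] {q : ℕ} (hF : Fintype.card F = q) (l : ℕ) (hl : 4 ≤ l) (a b : F) (hab : ∀ z₁ z₂ : F, z₁ ^ 2 + a * z₁ * z₂ + b * z₂ ^ 2 = 0 → z₁ = 0 ∧ z₂ = 0) : Cfsg.HasCyclicSchurMultiplier (Cfsg.POmega F (Cfsg.quadFormMinus (l - 1) F a b)) (Nat.gcd 4 (q ^ l + 1)) := by
  subst hF
  classical
  obtain ⟨k, rfl⟩ : ∃ k, l = k + 1 := ⟨l - 1, by omega⟩
  have hQ := CfsgLib.Perm.Trans.Quad.quadFormMinus_nd (F := F) (m := k) a b hab
  have hcard : Fintype.card ((Fin k ⊕ Fin k) ⊕ Fin 2) = 2 * (k + 1) := by simp; omega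
  have h1 : 1 < Fintype.card F := Fintype.one_lt_card
  show Cfsg.HasCyclicSchurMultiplier (Cfsg.POmega F (Cfsg.quadFormMinus k F a b)) _
  by_cases h2 : (2 : F) = 0
  · haveI : CharP F 2 := CharTwo.of_one_ne_zero_of_two_eq_zero one_ne_zero h2
    have he := FiniteField.even_card_of_char_two (ringChar.eq F 2)
    have hp : Fintype.card F ^ (k + 1) % 2 = 0 := by rw [Nat.pow_mod, he, Nat.zero_pow (by omega)]
    rw [CfsgLib.Orth.gcd_four_facts.2.2 (by omega)]
    by_cases hc : k = 3 ∧ Fintype.card F = 2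
    · obtain ⟨rfl, hq⟩ := hc
      exact CfsgLib.Lie.MultExc.OMinusEightTwo.multiplier_O8minus2 hq hab
    · exact CfsgLib.Lie.Mult.Orth.multiplier_even h2 hQ ⟨k + 1, by omega⟩ (by omega) (by omega)
  · have hq : Odd (Fintype.card F) := Nat.odd_iff.2 (FiniteField.odd_card_of_char_ne_two (F := F) fun e => h2 (by
      haveI := ringChar.of_eq e; exact CharTwo.two_eq_zero))
    have hq' := hq
    rw [Nat.odd_iff] at hq'
    have hx : Fintype.card F ^ (k + 1) % 2 = 1 := by rw [Nat.pow_mod, hq', one_pow]; rfl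
    have hb : CfsgLib.Lie.Mult.Orth.SBound ↥(Cfsg.Omega F (Cfsg.quadFormMinus k F a b)) 2 := by
      by_cases hc : k = 3 ∧ Fintype.card F = 3
      · obtain ⟨rfl, h3⟩ := hc
        exact CfsgLib.Lie.MultExc.OMinusEightThree.bound h3 hab
      · exact CfsgLib.Lie.Mult.Orth.bound_odd h2 hQ (by omega)
    obtain ⟨hno, hyes⟩ := CfsgLib.Lie.Mult.Orth.pomega_multiplier hQ h2 (by omega) hb
    have hiff := Cfsg.Agent.S0791.result (F := F) rfl hq (k + 1) (by omega) a b hab
    by_cases h : Fintype.card F ^ (k + 1) % 4 = 3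
    · rw [((CfsgLib.Lie.Mult.Orth.pred_mod_four hx).2 h).2]
      refine (hyes (k + 1) hcard (hiff.2 h)).1 ?_
      by_contra hno'
      rw [CfsgLib.Lie.Mult.Orth.pow_odd_four (Nat.not_odd_iff_even.1 hno') hq'] at h
      omega
    · rw [((CfsgLib.Lie.Mult.Orth.pred_mod_four hx).1 (by omega)).2]
      exact hno fun e => h (hiff.1 e)

end Cfsg.Agent.S2099
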