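import Cfsg.Statements.S2105
import Cfsg.Agent.Lib.Lie.Chev.Univ.AllE
import Cfsg.Agent.Lib.Lie.Chev.Univ.CenterEmb
-- import your own Cfsg.Agent.* helpers here

set_option autoImplicit false
open Cfsg

namespace Cfsg.Agent.S2105

/-- Schur multipliers of the (adjoint, simple) Chevalley groups of type E₆: over a field with q elements the Schur multiplier is cyclic of order gcd(3, q − 1) (here the Schur multiplier is described through stem extensions, as in the definitions). -/
theorem result {F : Type*} [Field F] [Fintype F] {q : ℕ} (hF : Fintype.card F = q) : Cfsg.HasCyclicSchurMultiplier ↥(Cfsg.Lie.chevE6.group F) (Nat.gcd 3 (q - 1)) := by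
  subst hF
  let C : CfsgLib.Lie.Chev.Full Cfsg.Lie.chevE6 := CfsgLib.Lie.Chev.fullOf (by simp)
  let C8 : CfsgLib.Lie.Chev.Full Cfsg.Lie.chevE8 := CfsgLib.Lie.Chev.fullOf (by simp)
  exact CfsgLib.Lie.Chev.Univ.hasCyclic_of_lifts C C8 CfsgLib.Lie.Chev.Univ.embE6_ok
    (CfsgLib.Lie.Chev.hasPair_tab (by simp) C)
    (CfsgLib.Lie.Chev.CoverPerfect.cover_perfect _ (by simp) fun h => absurd h (CfsgLib.Lie.Chev.Univ.E_not_small (by simp)))
    (C8.G.torθ_ker_eq_bot _ CfsgLib.Lie.Chev.kerE8_ok rfl) _ CfsgLib.Lie.Chev.kerE6_ok rfl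
    fun Γ _ _ X => CfsgLib.Lie.Chev.Univ.exists_lift_E (by simp) C X

end Cfsg.Agent.S2105
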