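import Cfsg.Statements.S2107
import Cfsg.Agent.Lib.Lie.Chev.Univ.AllE
import Cfsg.Agent.Lib.Lie.Chev.Univ.Multiplier
import Cfsg.Agent.Lib.Lie.Chev.TorData
-- import your own Cfsg.Agent.* helpers here

set_option autoImplicit false
open Cfsg

namespace Cfsg.Agent.S2107

/-- Schur multipliers of the Chevalley groups of type E₈: over every finite field the Schur multiplier of E₈(q) is trivial (here the Schur multiplier is described through stem extensions, as in the definitions). -/
theorem result {F : Type*} [Field F] [Fintype F] : Cfsg.HasCyclicSchurMultiplier ↥(Cfsg.Lie.chevE8.group F) 1 := by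
  let C : CfsgLib.Lie.Chev.Full Cfsg.Lie.chevE8 := CfsgLib.Lie.Chev.fullOf (by simp)
  exact CfsgLib.Lie.Chev.Univ.hasCyclic_one_of_lifts C (CfsgLib.Lie.Chev.hasPair_tab (by simp) C)
    (C.G.torθ_ker_eq_bot _ CfsgLib.Lie.Chev.kerE8_ok rfl)
    fun Γ _ _ X => CfsgLib.Lie.Chev.Univ.exists_lift_E (by simp) C X

end Cfsg.Agent.S2107
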