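import Cfsg.Statements.S2108
import Cfsg.Agent.Lib.Lie.Mult.TE6.Defining
import Cfsg.Agent.Lib.Lie.Mult.TE6.Prime
import Cfsg.Agent.Lib.Lie.Mult.TE6.Cover
import Cfsg.Agent.Lib.PGroup.StemExtension
-- import your own Cfsg.Agent.* helpers here

set_option autoImplicit false
open Cfsg

namespace Cfsg.Agent.S2108

/-- Schur multipliers of the twisted groups of type ²E₆: for a prime power q ≠ 2, with the group realised over the field with q² elements, the Schur multiplier of ²E₆(q) is cyclic of order gcd(3, q + 1) (here the Schur multiplier is described through stem extensions, as in the definitions); q = 2 is exceptional. -/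
theorem result {K : Type*} [Field K] [Fintype K] {q : ℕ} (hq : IsPrimePow q) (hK : Fintype.card K = q ^ 2) (h2 : q ≠ 2) : Cfsg.HasCyclicSchurMultiplier ↥(Cfsg.Lie.twistedE6 K q) (Nat.gcd 3 (q + 1)) := by
  classical
  obtain ⟨θ, hθ⟩ := CfsgLib.Lie.Chev.Frob.exists_powEquiv (K := K) hq hK
  have h2' : ∀ t : K, θ (θ t) = t := fun t => by
    rw [hθ, hθ, ← pow_mul, show q * q = q ^ 2 from (pow_two q).symm, ← hK, FiniteField.pow_card]
  have h3 : 3 ≤ q := by have := hq.one_lt; omega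
  have upper : ∀ (Γ : Type _) [Group Γ] [Finite Γ] (σ : Γ →* ↥(Cfsg.Lie.twistedE6 K q)),
      Cfsg.IsStemExtension σ →
        ∃ π : Multiplicative (ZMod (Nat.gcd 3 (q + 1))) →* σ.ker, Function.Surjective π := by
    intro Γ _ _ σ hσ
    have hdvd : Nat.card σ.ker ∣ Nat.gcd 3 (q + 1) :=
      CfsgLib.Lie.Mult.TE6Prime.card_ker_dvd θ hq hK hθ h2' hσ
        (CfsgLib.Lie.Mult.TE6Def.not_dvd_char θ h2' hθ hK h3 hq hσ)
    have hcyc : IsCyclic σ.ker := by
      rcases (Nat.dvd_prime Nat.prime_three).1 (hdvd.trans (Nat.gcd_dvd_left _ _)) with h | h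
      · haveI := (Nat.card_eq_one_iff_unique.1 h).1
        exact isCyclic_of_subsingleton
      · haveI : Fact (Nat.Prime 3) := ⟨Nat.prime_three⟩
        exact isCyclic_of_prime_card h
    obtain ⟨c, hc⟩ := hcyc.exists_generator
    refine CfsgLib.Schur.exists_surjection_zmod (c : Γ) c.2 ?_ fun x hx => ?_
    · obtain ⟨k, hk⟩ := hdvd
      rw [hk, pow_mul, ← Subgroup.coe_pow, pow_card_eq_one', Subgroup.coe_one, one_pow]
    · obtain ⟨n, hn⟩ := Subgroup.mem_zpowers_iff.1 (hc ⟨x, hx⟩)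
      exact Subgroup.mem_zpowers_iff.2 ⟨n, congrArg Subtype.val hn⟩
  refine ⟨?_, upper⟩
  rcases (Nat.dvd_prime Nat.prime_three).1 (Nat.gcd_dvd_left 3 (q + 1)) with h | h
  · rw [h] at upper ⊢
    exact (CfsgLib.Schur.hasCyclic_one_of_ker_eq_bot fun Γ _ _ σ hσ => by
      obtain ⟨π, hπ⟩ := upper Γ σ hσ
      haveI := hπ.subsingleton
      exact σ.ker.eq_bot_of_subsingleton).1
  · have hq3 : q % 3 = 2 := by
      have := Nat.mod_eq_zero_of_dvd (h ▸ Nat.gcd_dvd_right 3 (q + 1) : 3 ∣ q + 1)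
      omega
    obtain ⟨Γ, iG, iF, σ, hσ, hk⟩ := CfsgLib.Lie.Mult.TE6Cover.exists_cover θ hθ h2' hq hK hq3
    refine ⟨Γ, iG, iF, σ, hσ, ⟨?_⟩⟩
    haveI : Fact (Nat.Prime 3) := ⟨Nat.prime_three⟩
    exact mulEquivOfPrimeCardEq (p := 3) hk (by rw [h]; simp)

end Cfsg.Agent.S2108
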