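import Cfsg.Statements.S2114
import Cfsg.Agent.Lib.Lie.Mult.TF4.Two
import Cfsg.Agent.Lib.Lie.Mult.TF4.Prime

set_option autoImplicit false
open Cfsg

namespace Cfsg.Agent.S2114

/-- Schur multipliers of the large Ree groups: for q = 2^(2m+1) with m ≥ 1 the Schur multiplier of ²F₄(q) is trivial (here the Schur multiplier is described through stem extensions, as in the definitions). -/
theorem result {K : Type*} [Field K] [Fintype K] {m : ℕ} (hm : 1 ≤ m) (hK : Fintype.card K = 2 ^ (2 * m + 1)) : Cfsg.HasCyclicSchurMultiplier ↥(Cfsg.Lie.twistedF4 K (2 ^ m)) 1 := by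
  haveI : Finite ↥(Cfsg.Lie.twistedF4 K (2 ^ m)) := inferInstance
  obtain ⟨hc, θ, hsq, hθ⟩ := CfsgLib.Lie.Chev.TF4.exists_theta hK
  refine CfsgLib.Schur.hasCyclic_one_of_ker_eq_bot fun Γ _ _ τ hτ => ?_
  exact CfsgLib.Lie.Mult.TF4Prime.not_dvd_of_ne θ hsq hθ (CfsgLib.Lie.Chev.TF4.twGp θ hsq hθ) hm hK hτ
    (CfsgLib.Lie.Mult.TF4Rel.not_dvd_two hm hK hτ)

end Cfsg.Agent.S2114
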