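import Cfsg.Statements.S2133
import Cfsg.Agent.Lib.Spor.AffineM24
-- import your own Cfsg.Agent.* helpers here

set_option autoImplicit false
open Cfsg

namespace Cfsg.Agent.S2133

/-- The Mathieu group M₂₄ (the automorphism group of the length-24 binary code) has an involution whose centraliser is isomorphic to the centraliser of a transvection in SL(5, 2) (a group of shape 2^{1+6}:GL(3, 2)). -/
theorem result (s : Matrix.SpecialLinearGroup (Fin 5) (ZMod 2)) (hs : (s : Matrix (Fin 5) (Fin 5) (ZMod 2)) = Matrix.transvection 0 1 1) : ∃ z : ↥Cfsg.M24, orderOf z = 2 ∧ Nonempty (↥(Subgroup.centralizer ({z} : Set ↥Cfsg.M24)) ≃* ↥(Subgroup.centralizer ({s} : Set (Matrix.SpecialLinearGroup (Fin 5) (ZMod 2))))) := by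
  obtain ⟨hc, hsq⟩ := CfsgLib.Spor.ptwise_facts CfsgLib.Spor.baseOctad_mem
  obtain ⟨x, hx, hx1⟩ : ∃ x ∈ CfsgLib.Spor.ptwise (CfsgLib.Spor.pts CfsgLib.Spor.baseOctad), x ≠ 1 := by
    by_contra h
    push Not at h
    rw [(Subgroup.eq_bot_iff_forall _).2 h, Subgroup.card_bot] at hc
    omega
  have hxM : x ∈ Cfsg.M24 := (CfsgLib.Spor.mem_ptwise.1 hx).1
  haveI : Fact (Nat.Prime 2) := ⟨Nat.prime_two⟩
  have hord : orderOf (⟨x, hxM⟩ : ↥Cfsg.M24) = 2 := orderOf_eq_prime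
    (Subtype.ext (by rw [pow_two]; exact hsq x hx)) fun h => hx1 (congrArg Subtype.val h)
  obtain ⟨e1⟩ := CfsgLib.Spor.Affine.exists_model 3 (⟨x, hxM⟩ : ↥Cfsg.M24)
    (CfsgLib.Spor.affine_M24 CfsgLib.Spor.baseOctad_mem _ hx fun h => hx1 (congrArg Subtype.val h))
  obtain ⟨e2⟩ := CfsgLib.Spor.Affine.exists_model 3 s (CfsgLib.Spor.Affine.affine_SL 3 s hs)
  exact ⟨⟨x, hxM⟩, hord, ⟨e1.trans e2.symm⟩⟩

end Cfsg.Agent.S2133
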