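import Cfsg.Statements.S2140
import Cfsg.Agent.Lib.LinDeg.MinIndexPlanes

set_option autoImplicit false
open Cfsg

namespace Cfsg.Agent.S2140

/-- Minimal index of a proper subgroup of the linear groups: for n ≥ 3 and a field F with q elements, (n, q) ≠ (4, 2), every proper subgroup of PSL_n(F) has index at least (q^n − 1)/(q − 1), and some subgroup has exactly that index (the stabiliser of a point of the projective space). -/
theorem result {F : Type*} [Field F] [Fintype F] {q : ℕ} (hF : Fintype.card F = q) (n : ℕ) (hn : 3 ≤ n) (hexc : ¬ (n = 4 ∧ q = 2)) : (∀ H : Subgroup (Matrix.ProjectiveSpecialLinearGroup (Fin n) F), H ≠ ⊤ → (q ^ n - 1) / (q - 1) ≤ H.index) ∧ (∃ H : Subgroup (Matrix.ProjectiveSpecialLinearGroup (Fin n) F), H.index = (q ^ n - 1) / (q - 1)) := by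
  classical
  obtain ⟨m, rfl⟩ : ∃ m, n = m + 1 := ⟨n - 1, by omega⟩
  subst hF
  set q := Fintype.card F with hq'
  have hq : 2 ≤ q := Fintype.one_lt_card
  have hval : (q ^ (m + 1) - 1) / (q - 1) = CfsgLib.LinDeg.geo q (m + 1) := by
    have h1 := CfsgLib.LinDeg.geo_mul_pred q (m + 1) (by omega)
    rw [← h1, Nat.add_sub_cancel, Nat.mul_div_cancel _ (by omega)]
  rw [hval]
  refine ⟨fun H hH => ?_, ?_⟩
  · let X := Matrix.ProjectiveSpecialLinearGroup (Fin (m + 1)) F ⧸ H
    haveI : Finite X := Quotient.finite _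
    letI : Fintype X := Fintype.ofFinite X
    let π : Matrix.SpecialLinearGroup (Fin (m + 1)) F →*
        Matrix.ProjectiveSpecialLinearGroup (Fin (m + 1)) F := QuotientGroup.mk' _
    letI : MulAction (Matrix.SpecialLinearGroup (Fin (m + 1)) F) X := MulAction.compHom X π
    have hπ : Function.Surjective π := QuotientGroup.mk'_surjective _
    haveI : MulAction.IsPretransitive (Matrix.SpecialLinearGroup (Fin (m + 1)) F) X :=
      ⟨fun x y => by
        obtain ⟨g, hg⟩ := MulAction.exists_smul_eq (Matrix.ProjectiveSpecialLinearGroup (Fin (m + 1)) F) x y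
        obtain ⟨a, rfl⟩ := hπ g
        exact ⟨a, hg⟩⟩
    have hne : ∃ (g : Matrix.SpecialLinearGroup (Fin (m + 1)) F) (x : X), g • x ≠ x := by
      by_contra h
      simp only [not_exists, not_not, ne_eq] at h
      refine hH (eq_top_iff.2 fun g _ => ?_)
      obtain ⟨a, rfl⟩ := hπ g
      let x0 : X := QuotientGroup.mk (1 : Matrix.ProjectiveSpecialLinearGroup (Fin (m + 1)) F)
      have h1 : (QuotientGroup.mk (π a * 1) : X) = x0 := h a x0
      rw [mul_one, QuotientGroup.eq, mul_one] at h1
      exact inv_mem_iff.1 h1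
    have := CfsgLib.LinDeg.card_le_action (F := F) (Ω := X) (show 2 ≤ m by omega) hne
      (by rintro ⟨h1, h2⟩; exact hexc ⟨by omega, by omega⟩)
    rwa [← Nat.card_eq_fintype_card (α := X), ← hq'] at this
  · haveI : Finite (Projectivization F (Fin (m + 1) → F)) := Quotient.finite _
    haveI : Nonempty (Projectivization F (Fin (m + 1) → F)) :=
      ⟨Projectivization.mk F (Pi.single 0 1) (by simp)⟩
    refine ⟨MulAction.stabilizer (Matrix.ProjectiveSpecialLinearGroup (Fin (m + 1)) F)
      (Classical.arbitrary (Projectivization F (Fin (m + 1) → F))), ?_⟩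
    rw [MulAction.index_stabilizer_of_transitive,
      Projectivization.card_of_finrank F (Fin (m + 1) → F) (Module.finrank_fin_fun F),
      Nat.card_eq_fintype_card]
    rfl

end Cfsg.Agent.S2140
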