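import Cfsg.Statements.S2141
import Cfsg.Agent.Lib.PGroup.SpIndex.Main

set_option autoImplicit false
open Cfsg

namespace Cfsg.Agent.S2141

/-- Minimal index of a proper subgroup of the symplectic groups over fields with at least 3 elements: for m ≥ 2 and a field F with q ≥ 3 elements, (m, q) ≠ (2, 3), every proper subgroup of PSp_2m(F) has index at least (q^(2m) − 1)/(q − 1), and that index is attained. -/
theorem result {F : Type*} [Field F] [Fintype F] {q : ℕ} (hF : Fintype.card F = q) (m : ℕ) (hm : 2 ≤ m) (hq : 3 ≤ q) (hexc : ¬ (m = 2 ∧ q = 3)) : (∀ H : Subgroup (Cfsg.PSp m F), H ≠ ⊤ → (q ^ (2 * m) - 1) / (q - 1) ≤ H.index) ∧ (∃ H : Subgroup (Cfsg.PSp m F), H.index = (q ^ (2 * m) - 1) / (q - 1)) := by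
  subst hF
  classical
  refine ⟨fun H hH => ?_, ?_⟩
  · by_contra hlt
    rw [not_le] at hlt
    set K := H.comap (QuotientGroup.mk' (Subgroup.center (Matrix.symplecticGroup (Fin m) F))) with hK
    have hidx : K.index = H.index :=
      Subgroup.index_comap_of_surjective H (QuotientGroup.mk'_surjective _)
    have hsmall : CfsgLib.PGroup.SpIndex.Small m F (Matrix.symplecticGroup (Fin m) F ⧸ K) := by
      show Nat.card (Matrix.symplecticGroup (Fin m) F ⧸ K) * (Fintype.card F - 1) < _
      rw [← Subgroup.index_eq_card, hidx]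
      exact lt_of_lt_of_le (Nat.mul_lt_mul_of_pos_right hlt (by omega)) (Nat.div_mul_le_self _ _)
    have hmem : ∀ A ∈ CfsgLib.Perm.Trans.Symp.tvSet m F, A ∈ K := by
      rintro A ⟨w, c, hA⟩
      rw [show A = CfsgLib.Sp.tv w c from Subtype.ext hA]
      have h := CfsgLib.PGroup.SpIndex.small_trivial hm hq hexc hsmall w
        (((1 : Matrix.symplecticGroup (Fin m) F)) : Matrix.symplecticGroup (Fin m) F ⧸ K) c
      rw [MulAction.Quotient.smul_mk, smul_eq_mul, mul_one, QuotientGroup.eq, mul_one] at h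
      exact inv_mem_iff.1 h
    have htop : K = ⊤ := by
      rw [eq_top_iff, ← CfsgLib.Perm.Trans.Symp.closure_tvSet, Subgroup.closure_le]
      exact hmem
    exact hH (Subgroup.comap_injective (QuotientGroup.mk'_surjective _)
      (htop.trans (Subgroup.comap_top _).symm))
  · obtain ⟨H, hc, hH⟩ := CfsgLib.PGroup.SpIndex.exists_index (F := F) (by omega : 1 ≤ m)
    refine ⟨H.map (QuotientGroup.mk' _), ?_⟩
    rw [Subgroup.index_map_eq H (QuotientGroup.mk'_surjective _) (by rw [QuotientGroup.ker_mk']; exact hc), hH]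

end Cfsg.Agent.S2141
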