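import Cfsg.Statements.S2142
import Cfsg.Agent.Lib.PGroup.SpTwoIndex.Main
import Cfsg.Agent.Lib.PGroup.SpTwoIndex.Attain

set_option autoImplicit false
open Cfsg

namespace Cfsg.Agent.S2142

/-- Minimal index of a proper subgroup of the symplectic groups over the field with 2 elements: for m ≥ 3, every proper subgroup of Sp_2m(2) has index at least 2^(m−1)(2^m − 1), and that index is attained. -/
theorem result {F : Type*} [Field F] [Fintype F] (hF : Fintype.card F = 2) (m : ℕ) (hm : 3 ≤ m) : (∀ H : Subgroup (Cfsg.PSp m F), H ≠ ⊤ → 2 ^ (m - 1) * (2 ^ m - 1) ≤ H.index) ∧ (∃ H : Subgroup (Cfsg.PSp m F), H.index = 2 ^ (m - 1) * (2 ^ m - 1)) := by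
  classical
  refine ⟨fun H hH => ?_, ?_⟩
  · by_contra hlt
    rw [not_le] at hlt
    set K := H.comap (QuotientGroup.mk' (Subgroup.center (Matrix.symplecticGroup (Fin m) F))) with hK
    have hidx : K.index = H.index :=
      Subgroup.index_comap_of_surjective H (QuotientGroup.mk'_surjective _)
    haveI : Fintype (Matrix.symplecticGroup (Fin m) F ⧸ K) := Fintype.ofFinite _
    have hsmall : Fintype.card (Matrix.symplecticGroup (Fin m) F ⧸ K) < 2 ^ (m - 1) * (2 ^ m - 1) := by
      rw [← Nat.card_eq_fintype_card, ← Subgroup.index_eq_card, hidx]; exact hlt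
    have hmem : ∀ A ∈ CfsgLib.Perm.Trans.Symp.tvSet m F, A ∈ K := by
      rintro A ⟨w, c, hA⟩
      rw [show A = CfsgLib.Sp.tv w c from Subtype.ext hA]
      rcases CfsgLib.PGroup.SpTwoIndex.eq_zero_or_one hF c with rfl | rfl
      · rw [CfsgLib.Sp.tv_zero]; exact K.one_mem
      · have h := CfsgLib.PGroup.SpTwoIndex.all_fix hF hm hsmall w
          (((1 : Matrix.symplecticGroup (Fin m) F)) : Matrix.symplecticGroup (Fin m) F ⧸ K)
        rw [MulAction.Quotient.smul_mk, smul_eq_mul, mul_one, QuotientGroup.eq, mul_one] at h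
        exact inv_mem_iff.1 h
    have htop : K = ⊤ := by
      rw [eq_top_iff, ← CfsgLib.Perm.Trans.Symp.closure_tvSet, Subgroup.closure_le]
      exact hmem
    exact hH (Subgroup.comap_injective (QuotientGroup.mk'_surjective _)
      (htop.trans (Subgroup.comap_top _).symm))
  · obtain ⟨H, hH⟩ := CfsgLib.PGroup.SpTwoIndex.exists_index hF (by omega : 1 ≤ m)
    refine ⟨H.map (QuotientGroup.mk' _), ?_⟩
    rw [Subgroup.index_map_of_bijective ⟨?_, QuotientGroup.mk'_surjective _⟩, hH]
    rw [← MonoidHom.ker_eq_bot_iff, QuotientGroup.ker_mk', eq_bot_iff]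
    intro A hA
    rw [Subgroup.mem_bot]
    apply Subtype.ext
    rcases CfsgLib.Sp.center_scalar (by omega : 1 ≤ m)
      (fun v _ => (Subgroup.mem_center_iff.1 hA (CfsgLib.Sp.tv v 1)).symm) with h | h
    · exact h
    · have h2 : (-1 : F) = 1 := by
        linear_combination -CfsgLib.PGroup.SpTwoIndex.add_self_eq hF (1 : F)
      rw [h, OneMemClass.coe_one, ← neg_one_smul F (1 : Matrix (Fin m ⊕ Fin m) (Fin m ⊕ Fin m) F), h2, one_smul]

end Cfsg.Agent.S2142
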