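import Cfsg.Statements.S2143
import Cfsg.Agent.Lib.PGroup.OrthIndex.Final
import Cfsg.Agent.Lib.PGroup.OrthSeven.Main
import Cfsg.Agent.Lib.Perm.Trans.QuadStd
import Cfsg.Agent.Lib.Classical.QuadOrder

set_option autoImplicit false
open Cfsg

namespace Cfsg.Agent.S2143

/-- Minimal index of a proper subgroup of the odd-dimensional orthogonal groups: for m ≥ 3 and a field F with q elements, q odd and q ≥ 5, every proper subgroup of PΩ_(2m+1)(F) (for the form x₀² + Σ xᵢyᵢ) has index at least (q^(2m) − 1)/(q − 1), and that index is attained. -/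
theorem result {F : Type*} [Field F] [Fintype F] {q : ℕ} (hF : Fintype.card F = q) (hodd : Odd q) (h5 : 5 ≤ q) (m : ℕ) (hm : 3 ≤ m) : (∀ H : Subgroup (Cfsg.POmega F (Cfsg.quadFormOdd m F)), H ≠ ⊤ → (q ^ (2 * m) - 1) / (q - 1) ≤ H.index) ∧ (∃ H : Subgroup (Cfsg.POmega F (Cfsg.quadFormOdd m F)), H.index = (q ^ (2 * m) - 1) / (q - 1)) := by
  classical
  subst hF
  have h2 : (2 : F) ≠ 0 := Ring.two_ne_zero (fun h =>
    Nat.not_even_iff_odd.2 hodd (Nat.even_iff.2 (FiniteField.even_card_iff_char_two.1 h)))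
  have hQ := CfsgLib.Perm.Trans.Quad.quadFormOdd_nd (m := m) h2
  have hcount : (CfsgLib.PGroup.OrthIndex.sphere (Cfsg.quadFormOdd m F)
      (⊤ : Submodule F (Unit ⊕ (Fin m ⊕ Fin m) → F)) 0).ncard = Fintype.card F ^ (2 * m) := by
    rw [← CfsgLib.Classical.card_sing_odd (F := F) m, ← Nat.card_coe_set_eq]
    exact Nat.card_congr (Equiv.subtypeEquivRight fun v => ⟨fun h => h.2, fun h => ⟨Submodule.mem_top, h⟩⟩)
  have hd : Fintype.card F - 1 ∣ Fintype.card F ^ (2 * m) - 1 := by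
    simpa using Nat.sub_dvd_pow_sub_pow (Fintype.card F) 1 (2 * m)
  have hN : (Fintype.card F ^ (2 * m) - 1) / (Fintype.card F - 1) * (Fintype.card F - 1) =
      (CfsgLib.PGroup.OrthIndex.sphere (Cfsg.quadFormOdd m F)
        (⊤ : Submodule F (Unit ⊕ (Fin m ⊕ Fin m) → F)) 0).ncard - 1 := by
    rw [Nat.div_mul_cancel hd, hcount]
  rcases Nat.lt_or_ge m 4 with hm4 | hm4
  · obtain rfl : m = 3 := by omega
    exact CfsgLib.PGroup.OrthIndex.pomega_min_index_of_bound hQ (by simp)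
      (fun hH => CfsgLib.PGroup.OrthSeven.index_bound hQ h2 h5 (by simp) hcount hH) hN
  · exact CfsgLib.PGroup.OrthIndex.pomega_min_index hQ (by omega)
      (by rw [Fintype.card_sum, Fintype.card_sum, Fintype.card_fin, Fintype.card_unit]; omega) hN

end Cfsg.Agent.S2143
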