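import Cfsg.Statements.S2144
import Cfsg.Agent.Lib.PGroup.OrthOddThree.Main
import Cfsg.Agent.Lib.Perm.Trans.QuadStd
import Cfsg.Agent.Lib.Classical.OddTori

set_option autoImplicit false
open Cfsg

namespace Cfsg.Agent.S2144

/-- Minimal index of a proper subgroup of the odd-dimensional orthogonal groups over the field with 3 elements: for m ≥ 3, every proper subgroup of PΩ_(2m+1)(3) (for the form x₀² + Σ xᵢyᵢ) has index at least 3^m(3^m − 1)/2, and that index is attained. -/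
theorem result {F : Type*} [Field F] [Fintype F] (hF : Fintype.card F = 3) (m : ℕ) (hm : 3 ≤ m) : (∀ H : Subgroup (Cfsg.POmega F (Cfsg.quadFormOdd m F)), H ≠ ⊤ → 3 ^ m * (3 ^ m - 1) / 2 ≤ H.index) ∧ (∃ H : Subgroup (Cfsg.POmega F (Cfsg.quadFormOdd m F)), H.index = 3 ^ m * (3 ^ m - 1) / 2) := by
  classical
  obtain ⟨n, rfl⟩ : ∃ n, m = n + 1 := ⟨m - 1, by omega⟩
  have h2 : (2 : F) ≠ 0 := CfsgLib.PGroup.OrthThreeIndex.two_ne_zero' hF
  have hQ := CfsgLib.Perm.Trans.Quad.quadFormOdd_nd (m := n + 1) h2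
  have hM : CfsgLib.PGroup.OrthOddThree.OddThree (Cfsg.quadFormOdd (n + 1) F) n :=
    ⟨hF, by simp only [Fintype.card_sum, Fintype.card_fin, Fintype.card_unit]; omega, by omega⟩
  obtain ⟨h1, H, hH⟩ := CfsgLib.PGroup.OrthOddThree.pomega_min_index hQ hM
    (CfsgLib.Classical.OddTori.center_eq_bot h2 (by omega))
  have e : 3 ^ (n + 1) * (3 ^ (n + 1) - 1) = 9 * (3 ^ n * 3 ^ n) - 3 * 3 ^ n := by
    rw [Nat.mul_sub, mul_one, pow_succ]
    ring_nf
  rw [e]
  refine ⟨fun K hK => ?_, H, ?_⟩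
  · have := h1 K hK
    omega
  · omega

end Cfsg.Agent.S2144
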