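import Cfsg.Statements.S2145
import Cfsg.Agent.Lib.PGroup.OrthIndex.Final
import Cfsg.Agent.Lib.Perm.Trans.QuadStd
import Cfsg.Agent.Lib.Classical.QuadOrder

set_option autoImplicit false
open Cfsg

namespace Cfsg.Agent.S2145

/-- Minimal index of a proper subgroup of the even-dimensional orthogonal groups of plus type: for m ≥ 4 and a field F with q ≥ 4 elements, every proper subgroup of PΩ⁺_2m(F) (for the form Σ xᵢyᵢ) has index at least (q^m − 1)(q^(m−1) + 1)/(q − 1), and that index is attained (the singular points). -/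
theorem result {F : Type*} [Field F] [Fintype F] {q : ℕ} (hF : Fintype.card F = q) (hq : 4 ≤ q) (m : ℕ) (hm : 4 ≤ m) : (∀ H : Subgroup (Cfsg.POmega F (Cfsg.quadFormPlus m F)), H ≠ ⊤ → (q ^ m - 1) * (q ^ (m - 1) + 1) / (q - 1) ≤ H.index) ∧ (∃ H : Subgroup (Cfsg.POmega F (Cfsg.quadFormPlus m F)), H.index = (q ^ m - 1) * (q ^ (m - 1) + 1) / (q - 1)) := by
  classical
  subst hF
  obtain ⟨k, rfl⟩ : ∃ k, m = k + 1 := ⟨m - 1, by omega⟩
  refine CfsgLib.PGroup.OrthIndex.pomega_min_index CfsgLib.Perm.Trans.Quad.quadFormPlus_nd hq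
    (by rw [Fintype.card_sum, Fintype.card_fin]; omega) ?_
  have hcount : (CfsgLib.PGroup.OrthIndex.sphere (Cfsg.quadFormPlus (k + 1) F)
      (⊤ : Submodule F (Fin (k + 1) ⊕ Fin (k + 1) → F)) 0).ncard =
      Nat.card {v : Fin (k + 1) ⊕ Fin (k + 1) → F // Cfsg.quadFormPlus (k + 1) F v = 0} := by
    rw [← Nat.card_coe_set_eq]
    exact Nat.card_congr (Equiv.subtypeEquivRight fun v => ⟨fun h => h.2, fun h => ⟨Submodule.mem_top, h⟩⟩)
  have hp := CfsgLib.Classical.card_sing_plus (F := F) k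
  rw [← hcount] at hp
  obtain ⟨r, hr⟩ : ∃ r, Fintype.card F = r + 1 := ⟨Fintype.card F - 1, by omega⟩
  rw [hr] at hp ⊢
  rw [Nat.add_sub_cancel, Nat.add_sub_cancel]
  have h1 : 1 ≤ (r + 1) ^ (k + 1) := Nat.one_le_pow _ _ (by omega)
  have hprod : ((r + 1) ^ (k + 1) - 1) * ((r + 1) ^ k + 1) + 1 =
      (CfsgLib.PGroup.OrthIndex.sphere (Cfsg.quadFormPlus (k + 1) F)
        (⊤ : Submodule F (Fin (k + 1) ⊕ Fin (k + 1) → F)) 0).ncard := by
    zify [h1]
    rw [hp]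
    push_cast
    ring
  have hd : r ∣ ((r + 1) ^ (k + 1) - 1) * ((r + 1) ^ k + 1) := by
    refine Dvd.dvd.mul_right ?_ _
    have := Nat.sub_dvd_pow_sub_pow (r + 1) 1 (k + 1)
    rwa [one_pow, Nat.add_sub_cancel] at this
  rw [Nat.div_mul_cancel hd]
  omega

end Cfsg.Agent.S2145
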