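import Cfsg.Statements.S2146
import Cfsg.Agent.Lib.PGroup.OrthTwoIndex.Final

set_option autoImplicit false
open Cfsg

namespace Cfsg.Agent.S2146

/-- Minimal index of a proper subgroup of the even-dimensional orthogonal groups of plus type over the field with 2 elements: for m ≥ 4, every proper subgroup of Ω⁺_2m(2) (for the form Σ xᵢyᵢ) has index at least 2^(m−1)(2^m − 1), and that index is attained. -/
theorem result {F : Type*} [Field F] [Fintype F] (hF : Fintype.card F = 2) (m : ℕ) (hm : 4 ≤ m) : (∀ H : Subgroup (Cfsg.POmega F (Cfsg.quadFormPlus m F)), H ≠ ⊤ → 2 ^ (m - 1) * (2 ^ m - 1) ≤ H.index) ∧ (∃ H : Subgroup (Cfsg.POmega F (Cfsg.quadFormPlus m F)), H.index = 2 ^ (m - 1) * (2 ^ m - 1)) := by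
  classical
  haveI : CfsgLib.PGroup.OrthTwoIndex.Two F := ⟨fun a => by
    have h := FiniteField.pow_card a
    rw [hF, pow_two] at h
    exact (em (a = 0)).imp id fun ha => mul_left_cancel₀ ha (by rw [h, mul_one])⟩
  have hK : 2 ^ (m - 1) = 8 ∨ 16 ≤ 2 ^ (m - 1) := by
    rcases Nat.lt_or_ge 4 m with h | h
    · right
      calc (16 : ℕ) = 2 ^ 4 := by norm_num
        _ ≤ 2 ^ (m - 1) := Nat.pow_le_pow_right (by norm_num) (by omega)
    · left
      obtain rfl : m = 4 := by omega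
      norm_num
  have h := CfsgLib.PGroup.OrthTwoIndex.pomega_min_index_two
    CfsgLib.Perm.Trans.Quad.quadFormPlus_nd (by rw [Fintype.card_sum, Fintype.card_fin]; omega)
    (CfsgLib.PGroup.OrthTwoIndex.space_plus (F := F) hm) hK
  have e : 2 * (2 ^ (m - 1) * 2 ^ (m - 1)) - 2 ^ (m - 1) = 2 ^ (m - 1) * (2 ^ m - 1) := by
    rw [Nat.mul_sub_one, show 2 ^ m = 2 * 2 ^ (m - 1) by rw [← pow_succ']; congr 1; omega]
    congr 1
    ring
  rw [e] at h
  exact h

end Cfsg.Agent.S2146
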