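import Cfsg.Statements.S2147
import Cfsg.Agent.Lib.PGroup.OrthTwoIndex.Final
import Cfsg.Agent.Lib.PGroup.OrthThreeIndex.Main
import Cfsg.Agent.Lib.Perm.Trans.QuadStd
import Cfsg.Agent.Lib.Classical.QuadOrder

set_option autoImplicit false
open Cfsg

namespace Cfsg.Agent.S2147

/-- Minimal index of a proper subgroup of the even-dimensional orthogonal groups of minus type: for m ≥ 4 and a field F with q elements, every proper subgroup of PΩ⁻_2m(F) (for the form Σ_{i<m−1} xᵢyᵢ + z₁² + a z₁z₂ + b z₂² with anisotropic binary part) has index at least (q^m + 1)(q^(m−1) − 1)/(q − 1), and that index is attained. -/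
theorem result {F : Type*} [Field F] [Fintype F] {q : ℕ} (hF : Fintype.card F = q) (m : ℕ) (hm : 4 ≤ m) (a b : F) (hab : ∀ z₁ z₂ : F, z₁ ^ 2 + a * z₁ * z₂ + b * z₂ ^ 2 = 0 → z₁ = 0 ∧ z₂ = 0) : (∀ H : Subgroup (Cfsg.POmega F (Cfsg.quadFormMinus (m - 1) F a b)), H ≠ ⊤ → (q ^ m + 1) * (q ^ (m - 1) - 1) / (q - 1) ≤ H.index) ∧ (∃ H : Subgroup (Cfsg.POmega F (Cfsg.quadFormMinus (m - 1) F a b)), H.index = (q ^ m + 1) * (q ^ (m - 1) - 1) / (q - 1)) := by
  classical
  subst hF
  obtain ⟨k, rfl⟩ : ∃ k, m = k + 1 := ⟨m - 1, by omega⟩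
  simp only [Nat.add_sub_cancel] at hab ⊢
  have hQ := CfsgLib.Perm.Trans.Quad.quadFormMinus_nd (m := k) a b hab
  have hn : 8 ≤ Fintype.card ((Fin k ⊕ Fin k) ⊕ Fin 2) := by
    simp only [Fintype.card_sum, Fintype.card_fin]; omega
  have hcount : (CfsgLib.PGroup.OrthIndex.sphere (Cfsg.quadFormMinus k F a b)
      (⊤ : Submodule F ((Fin k ⊕ Fin k) ⊕ Fin 2 → F)) 0).ncard =
      Nat.card {v : (Fin k ⊕ Fin k) ⊕ Fin 2 → F // Cfsg.quadFormMinus k F a b v = 0} := by
    rw [← Nat.card_coe_set_eq]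
    exact Nat.card_congr (Equiv.subtypeEquivRight fun v => ⟨fun h => h.2, fun h => ⟨Submodule.mem_top, h⟩⟩)
  have hp := CfsgLib.Classical.card_sing_minus hab k
  rw [← hcount] at hp
  set S := (CfsgLib.PGroup.OrthIndex.sphere (Cfsg.quadFormMinus k F a b)
      (⊤ : Submodule F ((Fin k ⊕ Fin k) ⊕ Fin 2 → F)) 0).ncard
  obtain ⟨r, hr⟩ : ∃ r, Fintype.card F = r + 1 := ⟨Fintype.card F - 1, by have := Fintype.card_pos (α := F); omega⟩
  have h1 : 1 ≤ Fintype.card F ^ k := Nat.one_le_pow _ _ Fintype.card_pos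
  have hprod : (Fintype.card F ^ (k + 1) + 1) * (Fintype.card F ^ k - 1) + 1 = S := by
    zify [h1]
    rw [hp]
    ring
  have hd : Fintype.card F - 1 ∣ (Fintype.card F ^ (k + 1) + 1) * (Fintype.card F ^ k - 1) := by
    refine Dvd.dvd.mul_left ?_ _
    simpa using Nat.sub_dvd_pow_sub_pow (Fintype.card F) 1 k
  have hN : (Fintype.card F ^ (k + 1) + 1) * (Fintype.card F ^ k - 1) / (Fintype.card F - 1) *
      (Fintype.card F - 1) = S - 1 := by
    rw [Nat.div_mul_cancel hd]; omega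
  rcases Nat.lt_or_ge (Fintype.card F) 3 with h2 | h3
  · have hF2 : Fintype.card F = 2 := by have := Fintype.one_lt_card (α := F); omega
    haveI : CfsgLib.PGroup.OrthTwoIndex.Two F := ⟨fun c => by
      have h := FiniteField.pow_card c
      rw [hF2, pow_two] at h
      exact (em (c = 0)).imp id fun hc => mul_left_cancel₀ hc (by rw [h, mul_one])⟩
    have hK : 2 ^ k = 8 ∨ 16 ≤ 2 ^ k := by
      rcases Nat.lt_or_ge 3 k with h | h
      · exact Or.inr (le_trans (by norm_num) (Nat.pow_le_pow_right (by norm_num : 1 ≤ 2) h))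
      · obtain rfl : k = 3 := by omega
        exact Or.inl (by norm_num)
    have hsp := CfsgLib.PGroup.OrthTwoIndex.space_minus (F := F) (m := k + 1) hm a b hab
    have h := CfsgLib.PGroup.OrthTwoIndex.pomega_min_index_two_minus hQ hn hsp hK
    have e : 2 * (2 ^ k * 2 ^ k) - 2 ^ k - 1 =
        (Fintype.card F ^ (k + 1) + 1) * (Fintype.card F ^ k - 1) / (Fintype.card F - 1) := by
      rw [hF2, Nat.div_one, pow_succ]
      have : 2 ^ k ≤ 2 ^ k * 2 ^ k := Nat.le_mul_of_pos_left _ (by positivity)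
      zify [Nat.one_le_pow k 2 (by norm_num), show 2 ^ k ≤ 2 * (2 ^ k * 2 ^ k) by omega,
        show 1 ≤ 2 * (2 ^ k * 2 ^ k) - 2 ^ k by have := Nat.one_le_pow k 2 (by norm_num); omega]
      ring
    simp only [Nat.add_sub_cancel] at h
    rw [e] at h
    exact h
  rcases Nat.lt_or_ge (Fintype.card F) 4 with h4 | h4
  · have hF3 : Fintype.card F = 3 := by omega
    refine CfsgLib.PGroup.OrthThreeIndex.pomega_min_index_three hQ (k := k) ⟨hF3, ?_, by omega, ?_⟩ hN
    · simp only [Fintype.card_sum, Fintype.card_fin]; omega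
    · show S + _ = _
      rw [hF3] at hp
      zify
      rw [hp]
      push_cast
      ring
  · exact CfsgLib.PGroup.OrthIndex.pomega_min_index hQ h4 hn hN

end Cfsg.Agent.S2147
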