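import Cfsg.Statements.S2149
import Cfsg.Agent.Lib.SU.Five.Main
import Cfsg.Agent.Lib.SU.Five.Attain

set_option autoImplicit false
open Cfsg

namespace Cfsg.Agent.S2149

/-- Minimal index of a proper subgroup of PSU₃(5), realised over the field with 25 elements: every proper subgroup has index at least 50, and that index is attained. -/
theorem result {F : Type*} [Field F] [Fintype F] (hF : Fintype.card F = 25) : (∀ H : Subgroup (Cfsg.PSU 3 F 5), H ≠ ⊤ → 50 ≤ H.index) ∧ (∃ H : Subgroup (Cfsg.PSU 3 F 5), H.index = 50) := by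
  haveI : Fact (Nat.Prime 5) := ⟨by norm_num⟩
  haveI : CharP F 5 := by
    obtain ⟨p, hp⟩ := CharP.exists F
    haveI := hp
    obtain ⟨n, hpp, hc⟩ := FiniteField.card F p
    have h5 : p ∣ 5 ^ 2 := by
      rw [show 5 ^ 2 = p ^ (n : ℕ) by rw [← hc, hF]; rfl]
      exact dvd_pow_self p n.ne_zero
    rwa [(Nat.prime_dvd_prime_iff_eq hpp (by norm_num)).1 (hpp.dvd_of_dvd_pow h5)] at hp
  have h5 : (5 : F) = 0 := by simpa using CharP.cast_eq_zero F 5
  have h2 : (2 : F) ≠ 0 := by
    intro h
    exact one_ne_zero (α := F) (by linear_combination h5 - 2 * h)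
  obtain ⟨i, hi⟩ : IsSquare (2 : F) := by
    rw [FiniteField.isSquare_iff (by rw [ringChar.eq F 5]; norm_num) h2, hF]
    norm_num
    linear_combination (819 : F) * h5
  exact ⟨CfsgLib.SU.Five.fifty_le_index hi.symm (by rw [hF]; norm_num),
    CfsgLib.SU.Five.exists_index_fifty hi.symm (by rw [hF]; norm_num)⟩

end Cfsg.Agent.S2149
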