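import Cfsg.Statements.S2160
import Cfsg.Agent.Lib.Lie.Chev.All
import Cfsg.Agent.Lib.Lie.Chev.Gen
-- import your own Cfsg.Agent.* helpers here

set_option autoImplicit false
open Cfsg
open CfsgLib.Lie.Chev

namespace Cfsg.Agent.S2160

/-- In a Chevalley group of type G₂, B₂, D₄, F₄, E₆, E₇ or E₈ over a finite field, every field automorphism commutes with every graph automorphism. -/
theorem result {F : Type*} [Field F] [Finite F] (D : Cfsg.Lie.ChevalleyDatum) (hD : D ∈ [Cfsg.Lie.chevG2, Cfsg.Lie.chevB2, Cfsg.Lie.chevD4, Cfsg.Lie.chevF4, Cfsg.Lie.chevE6, Cfsg.Lie.chevE7, Cfsg.Lie.chevE8]) (f g : ↥(D.group F) ≃* ↥(D.group F))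
    (hf : D.IsFieldAut f) (hg : D.IsGraphAut g) (y : ↥(D.group F)) : f (g y) = g (f y) := by
  obtain ⟨G⟩ := nonempty_good hD
  obtain ⟨σ, hσ⟩ := hf
  obtain ⟨π, -, hπ⟩ := hg
  set e : Fin D.rank → ℕ := fun i => D.graphExp (ringChar F) i (π i)
  have hf' : ∀ (r : Fin D.nroots) (t : F), f ⟨G.xu r t, G.xu_mem r t⟩ = ⟨G.xu r (σ t), G.xu_mem r _⟩ :=
    fun r t => Subtype.ext (Units.ext ((hσ _ r.val t r.isLt (G.x_eq_xu r t).symm).trans (G.x_eq_xu r _)))
  have hg1 : ∀ i (t : F), g ⟨G.xu (G.simp' i) t, G.xu_mem _ t⟩ =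
      ⟨G.xu (G.simp' (π i)) (t ^ e i), G.xu_mem _ _⟩ := by
    intro i t
    refine Subtype.ext (Units.ext ?_)
    rw [(hπ _ i t).1 (by rw [← G.simp_val, G.x_eq_xu]), ← G.simp_val, G.x_eq_xu]
  have hg2 : ∀ i (t : F), g ⟨G.xu (G.negr (G.simp' i)) t, G.xu_mem _ t⟩ =
      ⟨G.xu (G.negr (G.simp' (π i))) (t ^ e i), G.xu_mem _ _⟩ := by
    intro i t
    refine Subtype.ext (Units.ext ?_)
    rw [(hπ _ i t).2 (by rw [← G.simp_val, G.neg_val, G.x_eq_xu]), ← G.simp_val, G.neg_val,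
      G.x_eq_xu]
  have key : f.toMonoidHom.comp g.toMonoidHom = g.toMonoidHom.comp f.toMonoidHom := by
    refine G.hom_ext_simple (fun i t => ?_) fun i t => ?_
    · simp only [MonoidHom.comp_apply, MulEquiv.coe_toMonoidHom, hf', hg1, map_pow]
    · simp only [MonoidHom.comp_apply, MulEquiv.coe_toMonoidHom, hf', hg2, map_pow]
  exact DFunLike.congr_fun key y

end Cfsg.Agent.S2160
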