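import Cfsg.Statements.S2161
import Cfsg.Agent.Lib.Lie.Chev.GoodD4
import Cfsg.Agent.Lib.Lie.Chev.GoodE6
import Cfsg.Agent.Lib.Lie.Chev.Borel
-- import your own Cfsg.Agent.* helpers here

set_option autoImplicit false
open Cfsg
open CfsgLib.Lie.Chev

namespace Cfsg.Agent.S2161

/-- the statement for a verified datum with symmetric Cartan matrix -/
theorem aux {F : Type*} [Field F] {D : Cfsg.Lie.ChevalleyDatum} (G : Good D)
    (hco : ∀ (r : Fin D.nroots) (j : Fin D.rank), (D.coroot.getD r.val #[]).getD j.val 0 = G.rho r j)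
    (hsl : ∀ i j : Fin D.rank, i ≠ j → D.cartan i.val (D.simple j.val) = - D.bonds i.val j.val)
    (π : Equiv.Perm (Fin D.rank)) (hπ : D.IsDiagramSymmetry π) (φ : ↥(D.group F) ≃* ↥(D.group F))
    (hφ1 : ∀ i t, φ ⟨G.xu (G.simp' i) t, G.xu_mem _ t⟩ = ⟨G.xu (G.simp' (π i)) t, G.xu_mem _ t⟩)
    (hφ2 : ∀ i t, φ ⟨G.xu (G.negr (G.simp' i)) t, G.xu_mem _ t⟩ =
      ⟨G.xu (G.negr (G.simp' (π i))) t, G.xu_mem _ t⟩)
    (r : Fin D.nroots) :
    ∃ s : Fin D.nroots, D.permRoot π r.val = s.val ∧ ∃ ε : F, (ε = 1 ∨ ε = -1) ∧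
      ∀ t, φ ⟨G.xu r t, G.xu_mem r t⟩ = ⟨G.xu s (ε * t), G.xu_mem s _⟩ := by
  have hcart : ∀ i j, cart D (π i) (G.simp' (π j)) = cart D i (G.simp' j) := by
    intro i j
    rcases eq_or_ne i j with rfl | hne
    · rw [G.cart_simp, G.cart_simp]
    · simp only [cart, G.simp_val]
      rw [hsl _ _ (π.injective.ne hne), hsl _ _ hne, hπ i j hne]
  have key : ∀ r : Fin D.nroots, ∃ s : Fin D.nroots, (∀ j, G.rho s (π j) = G.rho r j) ∧
      ∃ ε : F, (ε = 1 ∨ ε = -1) ∧
        ∀ t, φ ⟨G.xu r t, G.xu_mem r t⟩ = ⟨G.xu s (ε * t), G.xu_mem s _⟩ := by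
    refine G.orbit _ (fun i _ => ⟨G.simp' (π i), fun j => ?_, 1, Or.inl rfl, fun t => by
      rw [hφ1]; simp only [one_mul]⟩) fun i r hr => ?_
    · rw [G.rho_simp, G.rho_simp, Pi.single_apply, Pi.single_apply]
      simp only [π.injective.eq_iff]
    · obtain ⟨s, hs, ε, hε, hε'⟩ := hr
      have hc : cart D (π i) s = cart D i r := by
        rw [G.cart_eq, G.cart_eq i r, ← Equiv.sum_comp π fun j => G.rho s j * cart D (π i) (G.simp' j)]
        simp only [hs, hcart]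
      have hn : φ ⟨G.nU i, G.nU_mem_group i⟩ = ⟨G.nU (π i), G.nU_mem_group _⟩ := by
        have e : ∀ j, (⟨G.nU j, G.nU_mem_group j⟩ : ↥(D.group F)) =
            ⟨G.xu (G.simp' j) 1, G.xu_mem _ _⟩ * ⟨G.xu (G.negr (G.simp' j)) (-1), G.xu_mem _ _⟩ *
              ⟨G.xu (G.simp' j) 1, G.xu_mem _ _⟩ := fun j => rfl
        rw [e, map_mul, map_mul, hφ1, hφ2, e]
      refine ⟨G.w (π i) s, fun j => ?_, (G.eta (π i) s : F) * ε * (G.eta i r : F), ?_, fun t => ?_⟩
      · rw [G.rho_w, G.rho_w, Pi.sub_apply, Pi.sub_apply, hs, hc]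
        simp [Pi.single_apply, π.injective.eq_iff]
      · rcases G.eta_unit (π i) s with e1 | e1 <;> rcases G.eta_unit i r with e2 | e2 <;>
          rcases hε with e3 | e3 <;> simp [e1, e2, e3]
      · have hx : ∀ (j : Fin D.rank) (u : Fin D.nroots) (a : F),
            (⟨G.xu (G.w j u) ((G.eta j u : F) * a), G.xu_mem _ _⟩ : ↥(D.group F)) =
              ⟨G.nU j, G.nU_mem_group j⟩ * ⟨G.xu u a, G.xu_mem _ _⟩ *
                (⟨G.nU j, G.nU_mem_group j⟩)⁻¹ := by
          intro j u a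
          refine Subtype.ext ?_
          show G.xu (G.w j u) _ = G.nU j * G.xu u a * (G.nU j)⁻¹
          rw [G.nU_xu, mul_inv_cancel_right]
        have hη : (G.eta i r : F) * ((G.eta i r : F) * t) = t := by
          rcases G.eta_unit i r with e | e <;> rw [e] <;> simp
        have h := congrArg φ (hx i r ((G.eta i r : F) * t))
        simp only [hη, map_mul, map_inv, hn, hε'] at h
        rw [h, ← hx]
        simp only [mul_assoc]
  obtain ⟨s, hs, hε⟩ := key r
  refine ⟨s, ?_, hε⟩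
  unfold Cfsg.Lie.ChevalleyDatum.permRoot
  set p : ℕ → Bool := fun s => (List.finRange D.rank).all fun i =>
    (D.coroot.getD s #[]).getD (π i).val 0 == (D.coroot.getD r.val #[]).getD i.val 0 with hp
  have hps : p s.val = true := by
    simp only [hp, List.all_eq_true]
    intro i _
    rw [hco, hco, hs i, beq_self_eq_true]
  cases hf : (List.range D.nroots).find? p with
  | none => exact absurd hps (List.find?_eq_none.1 hf s.val (List.mem_range.2 s.isLt))
  | some u =>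
    have hu : u < D.nroots := List.mem_range.1 (List.mem_of_find?_eq_some hf)
    have hpu := List.find?_some hf
    simp only [hp, List.all_eq_true] at hpu
    have : (⟨u, hu⟩ : Fin D.nroots) = s := G.rho_injective (funext fun j => by
      obtain ⟨i, rfl⟩ := π.surjective j
      have h := eq_of_beq (hpu i (List.mem_finRange i))
      rw [hco ⟨u, hu⟩, hco] at h
      rw [h, hs i])
    exact congrArg Fin.val this

theorem co_D4 : ∀ (r : Fin Cfsg.Lie.chevD4.nroots) (j : Fin Cfsg.Lie.chevD4.rank),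
    (Cfsg.Lie.chevD4.coroot.getD r.val #[]).getD j.val 0 = goodD4.rho r j :=
  show ∀ (r : Fin Cfsg.Lie.chevD4.nroots) (j : Fin Cfsg.Lie.chevD4.rank),
    (Cfsg.Lie.chevD4.coroot.getD r.val #[]).getD j.val 0 = rhoD Cfsg.Lie.chevD4 fastD4 r j by
  decide +kernel

theorem sl_D4 : ∀ i j : Fin Cfsg.Lie.chevD4.rank, i ≠ j →
    Cfsg.Lie.chevD4.cartan i.val (Cfsg.Lie.chevD4.simple j.val) = - Cfsg.Lie.chevD4.bonds i.val j.val := by
  decide +kernel

theorem co_E6 : ∀ (r : Fin Cfsg.Lie.chevE6.nroots) (j : Fin Cfsg.Lie.chevE6.rank),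
    (Cfsg.Lie.chevE6.coroot.getD r.val #[]).getD j.val 0 = goodE6.rho r j :=
  show ∀ (r : Fin Cfsg.Lie.chevE6.nroots) (j : Fin Cfsg.Lie.chevE6.rank),
    (Cfsg.Lie.chevE6.coroot.getD r.val #[]).getD j.val 0 = rhoD Cfsg.Lie.chevE6 fastE6 r j by
  decide +kernel

theorem sl_E6 : ∀ i j : Fin Cfsg.Lie.chevE6.rank, i ≠ j →
    Cfsg.Lie.chevE6.cartan i.val (Cfsg.Lie.chevE6.simple j.val) = - Cfsg.Lie.chevE6.bonds i.val j.val := by
  decide +kernel


/-- For the Chevalley groups of types D₄ and E₆ (one root length) over any field: if `π` is a symmetry of the Dynkin diagram and `φ` is an automorphism sending `x_{p_i}(t)` to `x_{p_{π i}}(t)` and `x_{-p_i}(t)` to `x_{-p_{π i}}(t)` for every fundamental root `p_i`, then for every root `r` there is a sign `ε = ±1` with `φ(x_r(t)) = x_{π·r}(ε t)` for all `t`, where `π·r` is the root whose coefficients are those of `r` permuted by `π`. -/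
theorem result {F : Type*} [Field F] (D : Cfsg.Lie.ChevalleyDatum) (hD : D ∈ [Cfsg.Lie.chevD4, Cfsg.Lie.chevE6])
    (π : Equiv.Perm (Fin D.rank)) (hπ : D.IsDiagramSymmetry π) (φ : ↥(D.group F) ≃* ↥(D.group F))
    (hφ : ∀ (g : ↥(D.group F)) (i : Fin D.rank) (t : F),
      (((g : GL D.Idx F) : Matrix D.Idx D.Idx F) = D.x F (D.simple i) t →
        ((φ g : GL D.Idx F) : Matrix D.Idx D.Idx F) = D.x F (D.simple (π i)) t) ∧
      (((g : GL D.Idx F) : Matrix D.Idx D.Idx F) = D.x F (D.neg (D.simple i)) t →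
        ((φ g : GL D.Idx F) : Matrix D.Idx D.Idx F) = D.x F (D.neg (D.simple (π i))) t))
    (r : ℕ) (hr : r < D.nroots) :
    ∃ ε : F, (ε = 1 ∨ ε = -1) ∧ ∀ (g : ↥(D.group F)) (t : F),
      ((g : GL D.Idx F) : Matrix D.Idx D.Idx F) = D.x F r t →
        ((φ g : GL D.Idx F) : Matrix D.Idx D.Idx F) = D.x F (D.permRoot π r) (ε * t) := by
  have main : ∀ G : Good D,
      (∀ (r : Fin D.nroots) (j : Fin D.rank), (D.coroot.getD r.val #[]).getD j.val 0 = G.rho r j) →
      (∀ i j : Fin D.rank, i ≠ j → D.cartan i.val (D.simple j.val) = - D.bonds i.val j.val) →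
      ∃ ε : F, (ε = 1 ∨ ε = -1) ∧ ∀ (g : ↥(D.group F)) (t : F),
        ((g : GL D.Idx F) : Matrix D.Idx D.Idx F) = D.x F r t →
          ((φ g : GL D.Idx F) : Matrix D.Idx D.Idx F) = D.x F (D.permRoot π r) (ε * t) := by
    intro G hco hsl
    obtain ⟨s, hs, ε, hε, h⟩ := aux G hco hsl π hπ φ (fun i t => Subtype.ext (Units.ext (by
      rw [(hφ _ i t).1 (by rw [← G.simp_val, G.x_eq_xu]), ← G.simp_val, G.x_eq_xu])))
      (fun i t => Subtype.ext (Units.ext (by
        rw [(hφ _ i t).2 (by rw [← G.simp_val, G.neg_val, G.x_eq_xu]), ← G.simp_val, G.neg_val,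
          G.x_eq_xu]))) ⟨r, hr⟩
    refine ⟨ε, hε, fun g t hg => ?_⟩
    rw [show g = ⟨G.xu ⟨r, hr⟩ t, G.xu_mem _ t⟩ from
      Subtype.ext (Units.ext (hg.trans (G.x_eq_xu ⟨r, hr⟩ t))), h t, hs, G.x_eq_xu]
  simp only [List.mem_cons, List.not_mem_nil, or_false] at hD
  rcases hD with rfl | rfl
  · exact main goodD4 co_D4 sl_D4
  · exact main goodE6 co_E6 sl_E6

end Cfsg.Agent.S2161
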