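import Cfsg.Statements.S2162
import Cfsg.Agent.Lib.GLClass.Special

set_option autoImplicit false
open Cfsg

namespace Cfsg.Agent.S2162

/-- Conjugacy of involutions in the special linear group over a finite field of characteristic two, in dimension at least 3: two elements of order 2 of SL_n(F) are conjugate in SL_n(F) exactly when the matrices a − 1 and b − 1 have the same rank (the rank of a − 1 is the dimension of the commutator space [V, a]). -/
theorem result {F : Type*} [Field F] [Fintype F] [CharP F 2] {n : ℕ} (hn : 3 ≤ n) (a b : Matrix.SpecialLinearGroup (Fin n) F) (ha : orderOf a = 2) (hb : orderOf b = 2) :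
    IsConj a b ↔ ((a : Matrix (Fin n) (Fin n) F) - 1).rank = ((b : Matrix (Fin n) (Fin n) F) - 1).rank := by
  classical
  have hsq : ∀ x : Matrix.SpecialLinearGroup (Fin n) F, orderOf x = 2 →
      ((x : Matrix (Fin n) (Fin n) F) - 1) * ((x : Matrix (Fin n) (Fin n) F) - 1) = 0 := by
    intro x hx
    have h2 : (x : Matrix (Fin n) (Fin n) F) ^ 2 = 1 := by
      rw [← Matrix.SpecialLinearGroup.coe_pow, ← hx, pow_orderOf_eq_one,
        Matrix.SpecialLinearGroup.coe_one]
    haveI : Fact (Nat.Prime 2) := ⟨Nat.prime_two⟩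
    have h3 := (CfsgLib.GLClass.pow_prime_pow_eq_one_iff 2 (x : Matrix (Fin n) (Fin n) F) 1).1
      (by rw [pow_one, h2])
    rwa [pow_one, pow_two] at h3
  constructor
  · intro h
    obtain ⟨c, hc⟩ := isConj_iff.1 h
    have hM : IsConj (a : Matrix (Fin n) (Fin n) F) (b : Matrix (Fin n) (Fin n) F) := by
      refine ⟨⟨c, (c⁻¹ : Matrix.SpecialLinearGroup (Fin n) F), ?_, ?_⟩, ?_⟩
      · rw [← Matrix.SpecialLinearGroup.coe_mul, mul_inv_cancel, Matrix.SpecialLinearGroup.coe_one]
      · rw [← Matrix.SpecialLinearGroup.coe_mul, inv_mul_cancel, Matrix.SpecialLinearGroup.coe_one]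
      · change (c : Matrix (Fin n) (Fin n) F) * a = b * c
        rw [← Matrix.SpecialLinearGroup.coe_mul, ← Matrix.SpecialLinearGroup.coe_mul,
          mul_inv_eq_iff_eq_mul.1 hc]
    simpa using (CfsgLib.GLClass.isConj_iff_rank_of_unipotent ⟨2, by rw [pow_two, hsq a ha]⟩
      ⟨2, by rw [pow_two, hsq b hb]⟩).1 hM 1
  · intro h
    have h2n := CfsgLib.GLClass.two_mul_rank_le (hsq a ha)
    have hA := CfsgLib.GLClass.isConj_corner (hsq a ha)
    have hB := CfsgLib.GLClass.isConj_corner (hsq b hb)
    rw [← h] at hB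
    set r := ((a : Matrix (Fin n) (Fin n) F) - 1).rank with hr
    refine CfsgLib.GLClass.sl_isConj hA hB fun d hd => ?_
    obtain ⟨c, rfl⟩ := IsSquare.exists_mul_self _ (FiniteField.isSquare_of_char_two
      (ringChar.eq_iff.2 inferInstance) d)
    let i : Fin n := ⟨0, by omega⟩
    let j : Fin n := if h0 : r = 0 then ⟨1, by omega⟩ else ⟨n - r, by omega⟩
    have hij : i ≠ j := by
      simp only [i, j]
      split_ifs <;> simp [Fin.ext_iff] <;> omega
    refine ⟨Matrix.diagonal (fun k => if k = i ∨ k = j then c else 1),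
      CfsgLib.GLClass.diagonal_commute_one_add _ _ fun k l hkl => ?_, ?_⟩
    · simp only [CfsgLib.GLClass.corner, Matrix.of_apply, ne_eq, ite_eq_right_iff, not_forall,
        one_ne_zero, not_false_eq_true, exists_prop, and_true] at hkl
      obtain ⟨h1, h2⟩ := hkl
      simp only [i, j, Fin.ext_iff]
      split_ifs with h3 h4 h5 <;> first
        | rfl
        | (simp only [apply_dite Fin.val] at *; omega)
    · rw [Matrix.det_diagonal, ← Finset.prod_filter,
        show Finset.univ.filter (fun k => k = i ∨ k = j) = {i, j} by ext; simp,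
        Finset.prod_pair hij]

end Cfsg.Agent.S2162
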