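import Cfsg.Statements.S2163
import Cfsg.Agent.Lib.GLClass.Special

set_option autoImplicit false
open Cfsg

namespace Cfsg.Agent.S2163

/-- Over a finite field of characteristic two and for n ≥ 3: for every ℓ with 1 ≤ ℓ and 2ℓ ≤ n, the matrix j_ℓ that is the identity plus the entries 1 in positions (n − ℓ + i, i) for i < ℓ (an identity block of size ℓ in the lower left corner) lies in SL_n(F), has order 2, and j_ℓ − 1 has rank ℓ. Together with the conjugacy criterion by rank, these matrices represent the conjugacy classes of involutions of SL_n(F). -/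
theorem result {F : Type*} [Field F] [Fintype F] [CharP F 2] {n : ℕ} (hn : 3 ≤ n) (ℓ : ℕ) (h1 : 1 ≤ ℓ) (h2 : 2 * ℓ ≤ n) :
    ∃ a : Matrix.SpecialLinearGroup (Fin n) F, (a : Matrix (Fin n) (Fin n) F) = 1 + Matrix.of (fun i j : Fin n => if j.val < ℓ ∧ i.val = j.val + (n - ℓ) then (1 : F) else 0) ∧ orderOf a = 2 ∧ ((a : Matrix (Fin n) (Fin n) F) - 1).rank = ℓ := by
  have hsq := CfsgLib.GLClass.corner_mul_self (F := F) h2
  let N := CfsgLib.GLClass.corner n ℓ F
  have hdet : (1 + N).det = 1 := by
    rw [Matrix.det_of_lowerTriangular]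
    · refine Finset.prod_eq_one fun i _ => ?_
      simp [N, CfsgLib.GLClass.corner]
      omega
    · intro i j hij
      simp only [OrderDual.toDual_lt_toDual] at hij
      have hne : i ≠ j := ne_of_lt hij
      simp [N, CfsgLib.GLClass.corner, Matrix.one_apply_ne hne]
      omega
  refine ⟨⟨1 + N, hdet⟩, rfl, ?_, ?_⟩
  · refine orderOf_eq_prime (Subtype.ext ?_) ?_
    · change (1 + N) ^ 2 = 1
      rw [pow_two, add_mul, mul_add, mul_add, one_mul, one_mul, mul_one, hsq, add_zero,
        add_assoc,
        show N + N = 0 by ext i j; exact CharTwo.add_self_eq_zero _, add_zero]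
    · intro h
      have h3 : N = 0 := by simpa using congrArg Subtype.val h
      have h4 := CfsgLib.GLClass.rank_corner (F := F) (n := n) (ℓ := ℓ) (by omega)
      rw [show CfsgLib.GLClass.corner n ℓ F = 0 from h3, Matrix.rank_zero] at h4
      omega
  · simp only [add_sub_cancel_left]
    exact CfsgLib.GLClass.rank_corner (by omega)

end Cfsg.Agent.S2163
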