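import Cfsg.Statements.S2164
import Cfsg.Agent.Lib.CharTwoInvol.Unitary
import Cfsg.Agent.S2162

set_option autoImplicit false
open Cfsg

namespace Cfsg.Agent.S2164

/-- Conjugacy of involutions in the special unitary group SU_n(q), q even, n ≥ 3, realised over the field F with q² elements as the matrices of determinant 1 preserving the form Σ u_i v_i^q: for two elements of order 2 of SU_n(q) the following are equivalent — they are conjugate in SU_n(q); they are conjugate in SL_n(F); the matrices a − 1 and b − 1 have the same rank. -/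
theorem result {F : Type*} [Field F] [Fintype F] [CharP F 2] {n q : ℕ} (hF : Fintype.card F = q ^ 2) (hn : 3 ≤ n) (a b : ↥(Cfsg.SU n F q)) (ha : orderOf a = 2) (hb : orderOf b = 2) :
    (IsConj a b ↔ IsConj (a : Matrix.SpecialLinearGroup (Fin n) F) (b : Matrix.SpecialLinearGroup (Fin n) F)) ∧
    (IsConj a b ↔ (((a : Matrix.SpecialLinearGroup (Fin n) F) : Matrix (Fin n) (Fin n) F) - 1).rank = (((b : Matrix.SpecialLinearGroup (Fin n) F) : Matrix (Fin n) (Fin n) F) - 1).rank) := by
  classical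
  obtain ⟨C⟩ := CfsgLib.Classical.uctx_exists hF
  have key : IsConj a b ↔ IsConj (a : Matrix.SpecialLinearGroup (Fin n) F)
      (b : Matrix.SpecialLinearGroup (Fin n) F) := by
    refine ⟨fun h => MonoidHom.map_isConj (Cfsg.SU n F q).subtype h, fun h => ?_⟩
    let A : ↥(Cfsg.GU n F q) := CfsgLib.SU.ofSU a
    let B : ↥(Cfsg.GU n F q) := CfsgLib.SU.ofSU b
    obtain ⟨X, hX⟩ := isConj_iff.1 ((CfsgLib.IsometryConj.gu_isConj_iff hF A B).2
      (MonoidHom.map_isConj Matrix.SpecialLinearGroup.toGL h))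
    have hu := C.mem_unitOne.1 (C.detHom X⁻¹).2
    rw [C.detHom_val] at hu
    have ht : a.1.1 * a.1.1 = 1 := by
      have h2 : a * a = 1 := by rw [← pow_two, ← ha, pow_orderOf_eq_one]
      exact congrArg (fun g : ↥(Cfsg.SU n F q) => g.1.1) h2
    obtain ⟨D, hD, hDa, hdet⟩ := CfsgLib.CharTwoInvol.exists_gu_commute_det C (by omega) a.1.1
      ((CfsgLib.IsometryConj.hermAdjoint_iff C A.1).1 A.2) ht _ hu
    let Y : ↥(Cfsg.GU n F q) := X * ⟨D, hD⟩
    have hY : Y.1.1.det = 1 := by
      show (X.1.1 * D.1).det = 1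
      rw [Matrix.det_mul, hdet, ← Matrix.det_mul]
      show (X.1 * X.1⁻¹).1.det = 1
      rw [mul_inv_cancel, Units.val_one, Matrix.det_one]
    have hYA : Y * A = B * Y := by
      have h1 : (⟨D, hD⟩ : ↥(Cfsg.GU n F q)) * A = A * ⟨D, hD⟩ :=
        Subtype.ext (Units.ext hDa.eq)
      rw [show Y = X * ⟨D, hD⟩ from rfl, mul_assoc, h1, ← mul_assoc, mul_inv_eq_iff_eq_mul.1 hX,
        mul_assoc]
    refine isConj_iff.2 ⟨C.mkSU Y.1.1 hY (C.mem_gu_iff.1 Y.2), mul_inv_eq_iff_eq_mul.2
      (Subtype.ext (Subtype.ext ?_))⟩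
    exact congrArg (fun g : ↥(Cfsg.GU n F q) => g.1.1) hYA
  refine ⟨key, key.trans (Cfsg.Agent.S2162.result hn _ _ ?_ ?_)⟩
  · rw [← ha]; exact orderOf_injective (Cfsg.SU n F q).subtype Subtype.coe_injective a
  · rw [← hb]; exact orderOf_injective (Cfsg.SU n F q).subtype Subtype.coe_injective b

end Cfsg.Agent.S2164
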