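import Cfsg.Statements.S2165
import Mathlib

set_option autoImplicit false
open Cfsg

namespace Cfsg.Agent.S2165

/-- In SU_n(q), q even, n ≥ 3 (matrices of determinant 1 over the field with q² elements preserving Σ u_i v_i^q): for every ℓ with 1 ≤ ℓ and 2ℓ ≤ n, the permutation matrix of the involution of {0, …, n−1} exchanging i and n − ℓ + i for each i < ℓ lies in SU_n(q), has order 2, and differs from the identity by a matrix of rank ℓ. So every rank between 1 and n/2 occurs for involutions of SU_n(q). -/
theorem result {F : Type*} [Field F] [Fintype F] [CharP F 2] {n q : ℕ} (hF : Fintype.card F = q ^ 2) (hn : 3 ≤ n) (ℓ : ℕ) (h1 : 1 ≤ ℓ) (h2 : 2 * ℓ ≤ n) :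
    ∃ a : ↥(Cfsg.SU n F q), (((a : Matrix.SpecialLinearGroup (Fin n) F) : Matrix (Fin n) (Fin n) F) = Matrix.of (fun i j : Fin n => if (j.val < ℓ ∧ i.val = j.val + (n - ℓ)) ∨ (i.val < ℓ ∧ j.val = i.val + (n - ℓ)) ∨ (i = j ∧ ℓ ≤ i.val ∧ i.val < n - ℓ) then (1 : F) else 0)) ∧ orderOf a = 2 ∧ ((((a : Matrix.SpecialLinearGroup (Fin n) F) : Matrix (Fin n) (Fin n) F)) - 1).rank = ℓ := by
  classical
  let σ : Fin n → Fin n := fun i =>
    if h : i.val < ℓ then ⟨i.val + (n - ℓ), by omega⟩
    else if h' : n - ℓ ≤ i.val then ⟨i.val - (n - ℓ), by omega⟩ else i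
  have hσ : ∀ i, σ (σ i) = i := by
    intro i
    have := i.isLt
    apply Fin.ext
    simp only [σ]
    by_cases hi : i.val < ℓ
    · rw [dif_pos hi, dif_neg (by simp; omega), dif_pos (by simp)]
      simp
    · by_cases hi' : n - ℓ ≤ i.val
      · rw [dif_neg hi, dif_pos hi', dif_pos (by simp; omega)]
        simp; omega
      · rw [dif_neg hi, dif_neg hi', dif_neg hi, dif_neg hi']
  let π : Equiv.Perm (Fin n) := Function.Involutive.toPerm σ hσ
  let M : Matrix (Fin n) (Fin n) F := Matrix.of fun i j =>
    if (j.val < ℓ ∧ i.val = j.val + (n - ℓ)) ∨ (i.val < ℓ ∧ j.val = i.val + (n - ℓ)) ∨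
      (i = j ∧ ℓ ≤ i.val ∧ i.val < n - ℓ) then (1 : F) else 0
  have hM : ∀ i j, M i j = if j = σ i then 1 else 0 := by
    intro i j
    simp only [M, Matrix.of_apply, σ]
    refine if_congr ?_ rfl rfl
    split_ifs <;> simp [Fin.ext_iff] <;> omega
  have hMP : M = π.permMatrix F := by
    ext i j
    rw [hM]
    simp [Equiv.Perm.permMatrix, PEquiv.toMatrix, Equiv.toPEquiv, π, eq_comm]
    rfl
  have hvec : ∀ v : Fin n → F, M.mulVec v = v ∘ σ := by
    intro v
    funext i
    simp [Matrix.mulVec, dotProduct, hM]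
  have hdet : M.det = 1 := by
    rw [hMP, Matrix.det_permutation]
    rcases Int.units_eq_one_or (Equiv.Perm.sign π) with h | h <;> simp [h, CharTwo.neg_eq]
  have hcorner : (M - 1).rank = ℓ := by
    let A : Matrix (Fin n) (Fin ℓ) F :=
      Matrix.of fun i k => if i.val = k.val ∨ i.val = k.val + (n - ℓ) then 1 else 0
    have hfac : M - 1 = A * A.transpose := by
      ext i j
      simp only [Matrix.sub_apply, hM, Matrix.mul_apply, Matrix.transpose_apply, A, Matrix.of_apply,
        Matrix.one_apply]
      by_cases hi : i.val < ℓ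
      · rw [Finset.sum_eq_single ⟨i.val, hi⟩]
        · simp only [σ, dif_pos hi, Fin.ext_iff]
          split_ifs <;> first | omega | tauto | simp [CharTwo.neg_eq]
        · intro k _ hk
          rw [if_neg (fun h => hk (Fin.ext (by simp; omega))), zero_mul]
        · simp
      · by_cases hi' : n - ℓ ≤ i.val
        · rw [Finset.sum_eq_single ⟨i.val - (n - ℓ), by omega⟩]
          · simp only [σ, dif_neg hi, dif_pos hi', Fin.ext_iff]
            split_ifs <;> first | omega | tauto | simp [CharTwo.neg_eq]
          · intro k _ hk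
            rw [if_neg (fun h => hk (Fin.ext (by simp; omega))), zero_mul]
          · simp
        · rw [Finset.sum_eq_zero fun k _ => by rw [if_neg (by omega), zero_mul]]
          simp only [σ, dif_neg hi, dif_neg hi', Fin.ext_iff]
          split_ifs <;> first | omega | simp
    refine le_antisymm ?_ ?_
    · rw [hfac]
      exact (Matrix.rank_mul_le_left _ _).trans ((Matrix.rank_le_card_width _).trans_eq (by simp))
    · let r : Fin ℓ → Fin n := fun k => ⟨k.val + (n - ℓ), by omega⟩
      let c : Fin ℓ → Fin n := fun k => ⟨k.val, by omega⟩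
      have hs : (M - 1).submatrix r c = 1 := by
        ext a b
        simp only [M, Matrix.submatrix_apply, Matrix.sub_apply, Matrix.of_apply, Matrix.one_apply,
          r, c, Fin.ext_iff]
        split_ifs <;> first | omega | simp
      have hr := Matrix.rank_submatrix_le (M - 1) r c
      rwa [hs, Matrix.rank_one, Fintype.card_fin] at hr
  refine ⟨⟨⟨M, hdet⟩, ?_⟩, rfl, ?_, hcorner⟩
  · intro u v
    change Cfsg.hermForm n F q (M.mulVec u) (M.mulVec v) = Cfsg.hermForm n F q u v
    rw [hvec, hvec]
    exact Equiv.sum_comp π (fun i => u i * v i ^ q)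
  · refine orderOf_eq_prime (Subtype.ext (Subtype.ext ?_)) ?_
    · rw [pow_two]
      change M * M = 1
      ext i j
      rw [Matrix.mul_apply, Finset.sum_eq_single (σ i)]
      · simp [hM, Matrix.one_apply, hσ, eq_comm]
      · intro k _ hk
        simp [hM, hk]
      · simp
    · intro h
      have h0 : M = 1 := congrArg Subtype.val (congrArg Subtype.val h)
      rw [h0, sub_self, Matrix.rank_zero] at hcorner
      omega

end Cfsg.Agent.S2165
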