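import Cfsg.Statements.S2167
import Cfsg.Agent.Lib.Sp.Basic
import Cfsg.Agent.Lib.Perm.Asch.Forms.SpLemmas

set_option autoImplicit false
open Cfsg

namespace Cfsg.Agent.S2167

/-- For an involution t of the symplectic group Sp_{2m}(F), m ≥ 2, F a finite field of characteristic two (matrices A with A J Aᵀ = J acting on column vectors, alternating form f(u, v) = u ⬝ (J v)): the set V(t) of vectors v with f(v, t v) = 0 has either q^{2m} or q^{2m−1} elements, q the order of F (it is a subspace of codimension at most 1), and if it is the whole space then t − 1 has even rank. -/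
theorem result {F : Type*} [Field F] [Fintype F] [CharP F 2] {m : ℕ} (hm : 2 ≤ m) (a : ↥(Matrix.symplecticGroup (Fin m) F)) (ha : orderOf a = 2) :
    (Nat.card {v : Fin m ⊕ Fin m → F // Cfsg.sympForm m F v (Matrix.mulVec ((a : ↥(Matrix.symplecticGroup (Fin m) F)) : Matrix (Fin m ⊕ Fin m) (Fin m ⊕ Fin m) F) v) = 0} = Fintype.card F ^ (2 * m) ∨ Nat.card {v : Fin m ⊕ Fin m → F // Cfsg.sympForm m F v (Matrix.mulVec ((a : ↥(Matrix.symplecticGroup (Fin m) F)) : Matrix (Fin m ⊕ Fin m) (Fin m ⊕ Fin m) F) v) = 0} * Fintype.card F = Fintype.card F ^ (2 * m)) ∧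
    ((∀ v : Fin m ⊕ Fin m → F, Cfsg.sympForm m F v (Matrix.mulVec ((a : ↥(Matrix.symplecticGroup (Fin m) F)) : Matrix (Fin m ⊕ Fin m) (Fin m ⊕ Fin m) F) v) = 0) → Even (((a : ↥(Matrix.symplecticGroup (Fin m) F)) : Matrix (Fin m ⊕ Fin m) (Fin m ⊕ Fin m) F) - 1).rank) := by
  classical
  obtain ⟨A, hA⟩ : ∃ A : Matrix.symplecticGroup (Fin m) F, A = a := ⟨_, rfl⟩
  rw [← hA] at ha ⊢
  obtain ⟨M, hM⟩ : ∃ M, M = (A : Matrix (Fin m ⊕ Fin m) (Fin m ⊕ Fin m) F) := ⟨_, rfl⟩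
  rw [← hM]
  have htt : ∀ v, M.mulVec (M.mulVec v) = v := fun v => by
    have h1 : A * A = 1 := by rw [← sq, ← ha, pow_orderOf_eq_one]
    rw [Matrix.mulVec_mulVec, hM]
    have h2 := congrArg Subtype.val h1
    simp only [Submonoid.coe_mul, Submonoid.coe_one] at h2
    rw [h2, Matrix.one_mulVec]
  have hsp : ∀ u v, CfsgLib.Sp.sf (m := m) (F := F) (M.mulVec u) (M.mulVec v) = CfsgLib.Sp.sf (m := m) (F := F) u v := fun u v => hM ▸ CfsgLib.Sp.sf_sp A u v
  have hcomm : ∀ u v, CfsgLib.Sp.sf (m := m) (F := F) u v = CfsgLib.Sp.sf (m := m) (F := F) v u := fun u v => by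
    rw [CfsgLib.Sp.sf_swap, CharTwo.neg_eq]
  have hsa : ∀ u v, CfsgLib.Sp.sf (m := m) (F := F) u (M.mulVec v) = CfsgLib.Sp.sf (m := m) (F := F) (M.mulVec u) v := fun u v => by
    rw [← hsp u (M.mulVec v), htt]
  change _ ∧ ((∀ v, CfsgLib.Sp.sf v (M.mulVec v) = 0) → _)
  obtain ⟨φ, hφ⟩ : ∃ φ : (Fin m ⊕ Fin m → F) →+ F, ∀ v, φ v = CfsgLib.Sp.sf (m := m) (F := F) v (M.mulVec v) :=
    ⟨AddMonoidHom.mk' (fun v => CfsgLib.Sp.sf (m := m) (F := F) v (M.mulVec v)) (fun u v => by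
      rw [Matrix.mulVec_add, CfsgLib.Sp.sf_add_left, CfsgLib.Sp.sf_add_right, CfsgLib.Sp.sf_add_right,
        hsa v u, hcomm (M.mulVec v) u]
      linear_combination CharTwo.add_self_eq_zero (CfsgLib.Sp.sf (m := m) (F := F) u (M.mulVec v))), fun v => rfl⟩
  have hsmul : ∀ (c : F) v, φ (c • v) = c * c * φ v := fun c v => by
    rw [hφ, hφ, Matrix.mulVec_smul, CfsgLib.Sp.sf_smul_left, CfsgLib.Sp.sf_smul_right, mul_assoc]
  have hcard : Nat.card {v : Fin m ⊕ Fin m → F // CfsgLib.Sp.sf (m := m) (F := F) v (M.mulVec v) = 0} = Nat.card φ.ker :=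
    Nat.card_congr (Equiv.subtypeEquivRight fun v => by rw [AddMonoidHom.mem_ker, hφ])
  have hall : Nat.card (Fin m ⊕ Fin m → F) = Fintype.card F ^ (2 * m) := by
    rw [Nat.card_fun, Nat.card_eq_fintype_card, Nat.card_eq_fintype_card, Fintype.card_sum, Fintype.card_fin, two_mul]
  refine ⟨?_, fun hz => ?_⟩
  · rw [hcard, ← hall]
    by_cases hne : ∃ v, φ v ≠ 0
    · obtain ⟨v, hv⟩ := hne
      refine Or.inr ?_
      have hsur : Function.Surjective φ := fun y => by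
        obtain ⟨c, hc⟩ := FiniteField.isSquare_of_char_two (ringChar.eq F 2) (y / φ v)
        exact ⟨c • v, by rw [hsmul, ← hc, div_mul_cancel₀ _ hv]⟩
      rw [AddSubgroup.card_eq_card_quotient_mul_card_addSubgroup φ.ker,
        Nat.card_congr (QuotientAddGroup.quotientKerEquivOfSurjective φ hsur).toEquiv, Nat.card_eq_fintype_card (α := F), mul_comm]
    · push Not at hne
      exact Or.inl (Nat.card_congr (Equiv.subtypeUnivEquiv fun v => AddMonoidHom.mem_ker.2 (hne v)))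
  obtain ⟨b, hb⟩ : ∃ b : (Fin m ⊕ Fin m → F) → (Fin m ⊕ Fin m → F) → F,
      ∀ u v, b u v = CfsgLib.Sp.sf (m := m) (F := F) u ((M - 1).mulVec v) := ⟨_, fun _ _ => rfl⟩
  have hbb : Cfsg.Geo.IsBilinearForm b := by
    constructor <;> intros <;> simp only [hb, Matrix.mulVec_add, Matrix.mulVec_smul, CfsgLib.Sp.sf_add_left,
      CfsgLib.Sp.sf_add_right, CfsgLib.Sp.sf_smul_left, CfsgLib.Sp.sf_smul_right]
  have hb0 : ∀ v, b v v = 0 := fun v => by
    have h1 := CfsgLib.Sp.sf_add_right v ((M - 1).mulVec v) v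
    rw [Matrix.sub_mulVec, Matrix.one_mulVec, sub_add_cancel, hz, CfsgLib.Sp.sf_self, add_zero] at h1
    rw [hb, Matrix.sub_mulVec, Matrix.one_mulVec, ← h1]
  have hbc : ∀ u v, b u v = b v u := fun u v => by
    rw [CfsgLib.Perm.Asch.bilin_skew hbb hb0, CharTwo.neg_eq]
  obtain ⟨W, hW⟩ := Submodule.exists_isCompl (LinearMap.ker (M - 1).mulVecLin)
  have hWn : Cfsg.Geo.IsNondegenerateOn b W := by
    intro w hw hw0
    by_contra hno
    have hwk : ∀ u ∈ W, b u w = 0 := fun u hu => by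
      by_contra h
      exact hno ⟨⟨u, hu, h⟩, u, hu, by rwa [hbc]⟩
    refine hw0 ((Submodule.disjoint_def.1 hW.disjoint) w ?_ hw)
    rw [LinearMap.mem_ker, Matrix.mulVecLin_apply]
    refine CfsgLib.Sp.eq_zero_of_sf' fun u => ?_
    obtain ⟨k, hk, v, hv, rfl⟩ := Submodule.mem_sup.1 (hW.sup_eq_top.symm ▸ Submodule.mem_top (x := u))
    rw [LinearMap.mem_ker, Matrix.mulVecLin_apply] at hk
    rw [CfsgLib.Sp.sf_add_left, ← hb, ← hb, hwk v hv, add_zero, hbc, hb, hk]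
    simp [Cfsg.sympForm]
  have h1 := CfsgLib.Perm.Asch.even_finrank_of_alternating hbb hb0 hWn
  have h2 := Submodule.finrank_add_eq_of_isCompl hW
  have h3 := LinearMap.finrank_range_add_finrank_ker (M - 1).mulVecLin
  rw [Matrix.rank, show Module.finrank F (LinearMap.range (M - 1).mulVecLin) = Module.finrank F W by omega]
  exact h1

end Cfsg.Agent.S2167
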