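import Cfsg.Statements.S2166
import Cfsg.Agent.Lib.CharTwoInvol.Standard
import Cfsg.Agent.S2167

set_option autoImplicit false
open Cfsg

namespace Cfsg.Agent.S2166

/-- Conjugacy of involutions in the symplectic group Sp_{2m}(F), F a finite field of characteristic two, m ≥ 2 (Sp taken as the matrices A with A J Aᵀ = J, acting on column vectors, with the alternating form f(u, v) = u ⬝ (J v)). For an involution t write V(t) for the set of vectors v with f(v, t v) = 0 (a subspace). Two involutions a, b are conjugate in Sp_{2m}(F) exactly when a − 1 and b − 1 have the same rank and, in case that rank is even, V(a) and V(b) have the same number of elements. -/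
theorem result {F : Type*} [Field F] [Fintype F] [CharP F 2] {m : ℕ} (hm : 2 ≤ m) (a b : ↥(Matrix.symplecticGroup (Fin m) F)) (ha : orderOf a = 2) (hb : orderOf b = 2) :
    IsConj a b ↔ ((((a : ↥(Matrix.symplecticGroup (Fin m) F)) : Matrix (Fin m ⊕ Fin m) (Fin m ⊕ Fin m) F) - 1).rank = (((b : ↥(Matrix.symplecticGroup (Fin m) F)) : Matrix (Fin m ⊕ Fin m) (Fin m ⊕ Fin m) F) - 1).rank ∧
      (Even (((a : ↥(Matrix.symplecticGroup (Fin m) F)) : Matrix (Fin m ⊕ Fin m) (Fin m ⊕ Fin m) F) - 1).rank → Nat.card {v : Fin m ⊕ Fin m → F // Cfsg.sympForm m F v (Matrix.mulVec ((a : ↥(Matrix.symplecticGroup (Fin m) F)) : Matrix (Fin m ⊕ Fin m) (Fin m ⊕ Fin m) F) v) = 0} = Nat.card {v : Fin m ⊕ Fin m → F // Cfsg.sympForm m F v (Matrix.mulVec ((b : ↥(Matrix.symplecticGroup (Fin m) F)) : Matrix (Fin m ⊕ Fin m) (Fin m ⊕ Fin m) F) v) = 0})) := by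
  classical
  have hta := CfsgLib.CharTwoInvol.pow_two_of_order ha
  have htb := CfsgLib.CharTwoInvol.pow_two_of_order hb
  open CfsgLib.CharTwoInvol CfsgLib.Classical.SympCount in
  have key : ∀ (t : ↥(Matrix.symplecticGroup (Fin m) F)) (ht : t ^ 2 = 1), (spInvol t ht).Alt ↔
      Nat.card {v : Fin m ⊕ Fin m → F // Cfsg.sympForm m F v (Matrix.mulVec t.1 v) = 0} = Fintype.card F ^ (2 * m) := by
    intro t ht
    rw [spInvol_alt_iff]
    have hV : Nat.card (Fin m ⊕ Fin m → F) = Fintype.card F ^ (2 * m) := by simp [two_mul]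
    constructor
    · intro h
      rw [Nat.card_congr (Equiv.subtypeUnivEquiv h), hV]
    · intro h v
      by_contra hv
      have hlt := Finite.card_subtype_lt (p := fun v => Cfsg.sympForm m F v (Matrix.mulVec t.1 v) = 0) hv
      rw [h, hV] at hlt
      exact lt_irrefl _ hlt
  rw [CfsgLib.CharTwoInvol.sp_isConj_iff a b hta htb, CfsgLib.CharTwoInvol.spInvol_rank a hta,
    CfsgLib.CharTwoInvol.spInvol_rank b htb]
  refine and_congr_right fun hr => ?_
  have hA := CfsgLib.Classical.SympCount.sB_isAlt (F := F) (m := m)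
  have hB := CfsgLib.Classical.SympCount.sB_nondegenerate (F := F) (m := m)
  constructor
  · intro h _
    rw [key, key] at h
    rcases (Cfsg.Agent.S2167.result hm a ha).1 with h1 | h1
    · rw [h1, h.1 h1]
    · rcases (Cfsg.Agent.S2167.result hm b hb).1 with h2 | h2
      · rw [h2, h.2 h2]
      · exact Nat.eq_of_mul_eq_mul_right Fintype.card_pos (h1.trans h2.symm)
  · intro h
    by_cases he : Even (CfsgLib.CharTwoInvol.spInvol a hta).rank
    · rw [key, key, h he]
    · exact iff_of_false (fun x => he ((CfsgLib.CharTwoInvol.spInvol a hta).even_of_alt hA hB x))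
        (fun x => he (hr ▸ (CfsgLib.CharTwoInvol.spInvol b htb).even_of_alt hA hB x))

end Cfsg.Agent.S2166
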