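import Cfsg.Statements.S2172
import Cfsg.Agent.Lib.CharTwoInvol.Plus

set_option autoImplicit false
open Cfsg

namespace Cfsg.Agent.S2172

/-- Splitting of involution classes from O to Ω for the hyperbolic quadratic form Q = Σ x_i y_i in dimension 2m over a finite field F of characteristic two, m ≥ 4. Let t, s be involutions of the commutator subgroup Ω that are conjugate in the full isometry group O. If it is not the case that t − 1 has rank m and Q(v + t v) = 0 for every vector v, then t and s are conjugate by an element of Ω. If t − 1 has rank m and Q(v + t v) = 0 for all v, then t and s are conjugate by an element of Ω exactly when the intersection of the images of t − 1 and s − 1 has even dimension (so the class of t in O meets at most two classes of Ω). -/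
theorem result {F : Type*} [Field F] [Fintype F] [CharP F 2] {m : ℕ} (hm : 4 ≤ m) (t s : ↥(Cfsg.isometryGroup F (Cfsg.quadFormPlus m F))) (ht : orderOf t = 2) (hs : orderOf s = 2) (htO : t ∈ Cfsg.Omega F (Cfsg.quadFormPlus m F)) (hsO : s ∈ Cfsg.Omega F (Cfsg.quadFormPlus m F)) (hconj : IsConj t s) :
    (¬ (((((t : ↥(Cfsg.isometryGroup F (Cfsg.quadFormPlus m F))) : GL (Fin m ⊕ Fin m) F) : Matrix (Fin m ⊕ Fin m) (Fin m ⊕ Fin m) F) - 1).rank = m ∧ ∀ v : Fin m ⊕ Fin m → F, Cfsg.quadFormPlus m F (v + Matrix.mulVec (((t : ↥(Cfsg.isometryGroup F (Cfsg.quadFormPlus m F))) : GL (Fin m ⊕ Fin m) F) : Matrix (Fin m ⊕ Fin m) (Fin m ⊕ Fin m) F) v) = 0) →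
      ∃ g ∈ Cfsg.Omega F (Cfsg.quadFormPlus m F), g * t * g⁻¹ = s) ∧
    ((((((t : ↥(Cfsg.isometryGroup F (Cfsg.quadFormPlus m F))) : GL (Fin m ⊕ Fin m) F) : Matrix (Fin m ⊕ Fin m) (Fin m ⊕ Fin m) F) - 1).rank = m ∧ ∀ v : Fin m ⊕ Fin m → F, Cfsg.quadFormPlus m F (v + Matrix.mulVec (((t : ↥(Cfsg.isometryGroup F (Cfsg.quadFormPlus m F))) : GL (Fin m ⊕ Fin m) F) : Matrix (Fin m ⊕ Fin m) (Fin m ⊕ Fin m) F) v) = 0) →
      ((∃ g ∈ Cfsg.Omega F (Cfsg.quadFormPlus m F), g * t * g⁻¹ = s) ↔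
        Even (Module.finrank F ↥(LinearMap.range (Matrix.toLin' ((((t : ↥(Cfsg.isometryGroup F (Cfsg.quadFormPlus m F))) : GL (Fin m ⊕ Fin m) F) : Matrix (Fin m ⊕ Fin m) (Fin m ⊕ Fin m) F) - 1)) ⊓ LinearMap.range (Matrix.toLin' ((((s : ↥(Cfsg.isometryGroup F (Cfsg.quadFormPlus m F))) : GL (Fin m ⊕ Fin m) F) : Matrix (Fin m ⊕ Fin m) (Fin m ⊕ Fin m) F) - 1)))))) := by
  classical
  have ht' := CfsgLib.CharTwoInvol.pow_two_of_order ht
  have hs' := CfsgLib.CharTwoInvol.pow_two_of_order hs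
  revert t s
  rw [← CfsgLib.Classical.plusQ_coe]
  intro t s _ _ htO _ hconj ht' hs'
  open CfsgLib.CharTwoInvol in
  have hQ := CfsgLib.Classical.plusQ_nondeg (F := F) m
  have hD := CfsgLib.CharTwoInvol.plus_omegaData (F := F) (m := m) (by omega) (Or.inr (by omega))
  have hspec : ((CfsgLib.CharTwoInvol.oInvol t ht').rank = m ∧ (CfsgLib.CharTwoInvol.oInvol t ht').Alt) ↔
      ((t.1.1 - 1).rank = m ∧ ∀ v, CfsgLib.Classical.plusQ m F (v + t.1.1.mulVec v) = 0) := by
    rw [CfsgLib.CharTwoInvol.oInvol_rank t ht', CfsgLib.CharTwoInvol.oInvol_alt_iff t ht']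
    refine and_congr_right fun _ => forall_congr' fun v => ?_
    rw [Matrix.sub_mulVec, Matrix.one_mulVec, CfsgLib.CharTwoInvol.sub_eq_add_vec (F := F), add_comm]
  refine ⟨fun hne => CfsgLib.CharTwoInvol.exists_omega_conj hQ hD (by simp; omega) t s ht'
    (fun h => hne (hspec.1 h)) hconj, fun hsp => ?_⟩
  obtain ⟨hr, ha⟩ := hspec.2 hsp
  have hev : Even m := hr ▸ (hD.mem_iff t ht').1 htO
  have hmat : ∀ (x : ↥(Cfsg.isometryGroup F ⇑(CfsgLib.Classical.plusQ m F))) (hx : x ^ 2 = 1),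
      Matrix.toLin' (x.1.1 - 1) = (CfsgLib.CharTwoInvol.oInvol x hx).N := fun x hx => LinearMap.ext fun v => by
    rw [Matrix.toLin'_apply, Matrix.sub_mulVec, Matrix.one_mulVec, CfsgLib.CharTwoInvol.sub_eq_add_vec (F := F),
      CfsgLib.CharTwoInvol.oInvol_N]
  rw [hmat t ht', hmat s hs']
  exact CfsgLib.CharTwoInvol.exists_omega_conj_iff hQ hD (Or.inr (by simp; omega)) (by simp; omega)
    (by simp; omega) hev t s ht' hs' hr ha hconj

end Cfsg.Agent.S2172
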