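import Cfsg.Statements.S2174
import Cfsg.Agent.Lib.Lie.CharTwo.CertF4
-- import your own Cfsg.Agent.* helpers here

set_option autoImplicit false
open Cfsg
open CfsgLib.Lie.Chev CfsgLib.Lie.Laced
open CfsgLib.Lie.CharTwo (repsF4 classify nprod_sq repsB_spec not_cj_root)

namespace Cfsg.Agent.S2174

/-- Conjugacy classes of involutions in the Chevalley group of type F₄ over a finite field F of characteristic two (the matrix group generated by the root elements x_r(t)). In this problem's root numbering for type F₄ (the Chevalley data module; fundamental roots p₁, p₂ short and p₃, p₄ long; roots indexed by their coefficient vectors in increasing order) let r = 47 be the highest root (2,4,3,2), s = 44 the highest short root (2,3,2,1), and α = 39 = (1,2,2,1), β = 45 = (2,4,2,1), an orthogonal short/long pair; consider the four elements x_r(1), x_s(1), x_r(1)x_s(1), x_α(1)x_β(1). Then: each invertible matrix equal to one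 of these four products lies in the group and has order 2; every element of order 2 of the group is conjugate in the group to one of them; and no two of them are conjugate in the group (so, the four matrices being distinct, the group has exactly four conjugacy classes of involutions). -/
theorem result {F : Type*} [Field F] [Fintype F] [CharP F 2] :
    (∀ y : GL Cfsg.Lie.chevF4.Idx F, ((y : GL Cfsg.Lie.chevF4.Idx F) : Matrix Cfsg.Lie.chevF4.Idx Cfsg.Lie.chevF4.Idx F) ∈ [Cfsg.Lie.chevF4.x F 47 1, Cfsg.Lie.chevF4.x F 44 1, Cfsg.Lie.chevF4.x F 47 1 * Cfsg.Lie.chevF4.x F 44 1, Cfsg.Lie.chevF4.x F 39 1 * Cfsg.Lie.chevF4.x F 45 1] → y ∈ Cfsg.Lie.chevF4.group F ∧ orderOf y = 2) ∧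
    (∀ g ∈ Cfsg.Lie.chevF4.group F, orderOf g = 2 → ∃ y ∈ Cfsg.Lie.chevF4.group F, ((y : GL Cfsg.Lie.chevF4.Idx F) : Matrix Cfsg.Lie.chevF4.Idx Cfsg.Lie.chevF4.Idx F) ∈ [Cfsg.Lie.chevF4.x F 47 1, Cfsg.Lie.chevF4.x F 44 1, Cfsg.Lie.chevF4.x F 47 1 * Cfsg.Lie.chevF4.x F 44 1, Cfsg.Lie.chevF4.x F 39 1 * Cfsg.Lie.chevF4.x F 45 1] ∧ ∃ h ∈ Cfsg.Lie.chevF4.group F, h * g * h⁻¹ = y) ∧
    (∀ y₁ ∈ Cfsg.Lie.chevF4.group F, ∀ y₂ ∈ Cfsg.Lie.chevF4.group F, ((y₁ : GL Cfsg.Lie.chevF4.Idx F) : Matrix Cfsg.Lie.chevF4.Idx Cfsg.Lie.chevF4.Idx F) ∈ [Cfsg.Lie.chevF4.x F 47 1, Cfsg.Lie.chevF4.x F 44 1, Cfsg.Lie.chevF4.x F 47 1 * Cfsg.Lie.chevF4.x F 44 1, Cfsg.Lie.chevF4.x F 39 1 * Cfsg.Lie.chevF4.x F 45 1] → ((y₂ : GL Cfsg.Lie.chevF4.Idx F) : Matrix Cfsg.Lie.chevF4.Idx Cfsg.Lie.chevF4.Idx F) ∈ [Cfsg.Lie.chevF4.x F 47 1, Cfsg.Lie.chevF4.x F 44 1, Cfsg.Lie.chevF4.x F 47 1 * Cfsg.Lie.chevF4.x F 44 1, Cfsg.Lie.chevF4.x F 39 1 * Cfsg.Lie.chevF4.x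 F 45 1] →
      (∃ h ∈ Cfsg.Lie.chevF4.group F, h * y₁ * h⁻¹ = y₂) → ((y₁ : GL Cfsg.Lie.chevF4.Idx F) : Matrix Cfsg.Lie.chevF4.Idx Cfsg.Lie.chevF4.Idx F) = ((y₂ : GL Cfsg.Lie.chevF4.Idx F) : Matrix Cfsg.Lie.chevF4.Idx Cfsg.Lie.chevF4.Idx F)) := by
  have C : Full Cfsg.Lie.chevF4 := fullOf (by simp)
  have hk := C.keys
  have h := rowsOK checksF4.rows
  have hx : ∀ r : Fin Cfsg.Lie.chevF4.nroots, Cfsg.Lie.chevF4.x F r.val 1 = Units.val (xn C (K := F) r.val) :=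
    fun r => (C.G.x_eq_xu r 1).trans (by rw [xn, dif_pos r.isLt])
  have e1 : Units.val (nprod C (K := F) (repsF4.getD 1 [])) = Cfsg.Lie.chevF4.x F 47 1 := by
    show Units.val (nprod C (K := F) [47]) = _
    rw [hx ⟨47, by decide⟩]; simp [nprod]
  have e2 : Units.val (nprod C (K := F) (repsF4.getD 2 [])) = Cfsg.Lie.chevF4.x F 44 1 := by
    show Units.val (nprod C (K := F) [44]) = _
    rw [hx ⟨44, by decide⟩]; simp [nprod]
  have e3 : Units.val (nprod C (K := F) (repsF4.getD 3 [])) = Cfsg.Lie.chevF4.x F 47 1 * Cfsg.Lie.chevF4.x F 44 1 := by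
    show Units.val (nprod C (K := F) [47, 44]) = _
    rw [hx ⟨47, by decide⟩, hx ⟨44, by decide⟩]; simp [nprod]
  have e4 : Units.val (nprod C (K := F) (repsF4.getD 4 [])) = Cfsg.Lie.chevF4.x F 39 1 * Cfsg.Lie.chevF4.x F 45 1 := by
    show Units.val (nprod C (K := F) [39, 45]) = _
    rw [hx ⟨39, by decide⟩, hx ⟨45, by decide⟩]; simp [nprod]
  have r1 : ((Units.val (nprod C (K := F) (repsF4.getD 1 []))) - 1).rank = 16 := by
    obtain ⟨B, A, P, Q, hr⟩ := CfsgLib.Lie.CharTwo.rankF4_1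
    exact rank_eq C h hr
  have r2 : ((Units.val (nprod C (K := F) (repsF4.getD 2 []))) - 1).rank = 16 := by
    obtain ⟨B, A, P, Q, hr⟩ := CfsgLib.Lie.CharTwo.rankF4_2
    exact rank_eq C h hr
  have r3 : ((Units.val (nprod C (K := F) (repsF4.getD 3 []))) - 1).rank = 21 := by
    obtain ⟨B, A, P, Q, hr⟩ := CfsgLib.Lie.CharTwo.rankF4_3
    exact rank_eq C h hr
  have r4 : ((Units.val (nprod C (K := F) (repsF4.getD 4 []))) - 1).rank = 24 := by
    obtain ⟨B, A, P, Q, hr⟩ := CfsgLib.Lie.CharTwo.rankF4_4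
    exact rank_eq C h hr
  have hcase : ∀ y : GL Cfsg.Lie.chevF4.Idx F, (y : Matrix Cfsg.Lie.chevF4.Idx Cfsg.Lie.chevF4.Idx F) ∈
      [Cfsg.Lie.chevF4.x F 47 1, Cfsg.Lie.chevF4.x F 44 1, Cfsg.Lie.chevF4.x F 47 1 * Cfsg.Lie.chevF4.x F 44 1, Cfsg.Lie.chevF4.x F 39 1 * Cfsg.Lie.chevF4.x F 45 1] →
      ∃ t, 1 ≤ t ∧ t ≤ 4 ∧ y = nprod C (repsF4.getD t []) := by
    intro y hy
    simp only [List.mem_cons, List.not_mem_nil, or_false] at hy
    rcases hy with hy | hy | hy | hy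
    · exact ⟨1, by omega, by omega, Units.ext (hy.trans e1.symm)⟩
    · exact ⟨2, by omega, by omega, Units.ext (hy.trans e2.symm)⟩
    · exact ⟨3, by omega, by omega, Units.ext (hy.trans e3.symm)⟩
    · exact ⟨4, by omega, by omega, Units.ext (hy.trans e4.symm)⟩
  refine ⟨fun y hy => ?_, fun g hg hgg => ?_, fun y₁ _ y₂ _ hy₁ hy₂ hconj => ?_⟩
  · obtain ⟨t, ht1, ht4, rfl⟩ := hcase y hy
    obtain ⟨hp, hc⟩ := repsB_spec h CfsgLib.Lie.CharTwo.repsF4_ok t
    refine ⟨nprod_mem _, orderOf_eq_prime (by rw [pow_two]; exact nprod_sq h hk hp hc) fun e => ?_⟩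
    interval_cases t
    · rw [e, Units.val_one, sub_self, Matrix.rank_zero] at r1; omega
    · rw [e, Units.val_one, sub_self, Matrix.rank_zero] at r2; omega
    · rw [e, Units.val_one, sub_self, Matrix.rank_zero] at r3; omega
    · rw [e, Units.val_one, sub_self, Matrix.rank_zero] at r4; omega
  · obtain ⟨t, ht1, ht4, hcj⟩ := classify (C := C) h hk checksF4 CfsgLib.Lie.CharTwo.skipF4 rfl
      CfsgLib.Lie.CharTwo.repsF4_ok CfsgLib.Lie.CharTwo.redsF4_ok CfsgLib.Lie.CharTwo.treeF4_ok hg hgg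
    refine ⟨_, nprod_mem (repsF4.getD t []), ?_, hcj⟩
    interval_cases t
    · simp only [List.mem_cons]; rw [e1]; simp
    · simp only [List.mem_cons]; rw [e2]; simp
    · simp only [List.mem_cons]; rw [e3]; simp
    · simp only [List.mem_cons]; rw [e4]; simp
  · obtain ⟨s, hs1, hs4, rfl⟩ := hcase y₁ hy₁
    obtain ⟨t, ht1, ht4, rfl⟩ := hcase y₂ hy₂
    obtain ⟨x, hxm, hx'⟩ := hconj
    have hrk := rank_conj hx'
    have hn : ∀ g ∈ Cfsg.Lie.chevF4.group F, g * nprod C (repsF4.getD 2 []) * g⁻¹ ≠ nprod C (K := F) (repsF4.getD 1 []) := by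
      intro g hg e
      refine not_cj_root (C := C) h checksF4 CfsgLib.Lie.CharTwo.longF4 (top := ⟨47, by decide⟩) (s := ⟨44, by decide⟩)
        rfl CfsgLib.Lie.CharTwo.posF4_top.1 CfsgLib.Lie.CharTwo.posF4_top.2 (by decide +kernel) (by decide +kernel)
        CfsgLib.Lie.CharTwo.longF4_closed hg ?_
      have hxu : ∀ r : Fin Cfsg.Lie.chevF4.nroots, nprod C (K := F) [r.val] = C.G.xu r 1 :=
        fun r => by simp [nprod, xn, r.isLt]
      rw [← hxu ⟨44, by decide⟩, ← hxu ⟨47, by decide⟩]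
      exact e
    have hst : s = t := by
      interval_cases s <;> interval_cases t <;> first
        | rfl
        | (simp only [r1, r2, r3, r4] at hrk; omega)
        | exact absurd hx' (hn x hxm)
        | exact absurd (by rw [← hx']; group) (hn x⁻¹ (inv_mem hxm))
    rw [hst]

end Cfsg.Agent.S2174
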