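import Cfsg.Statements.S2175
import Cfsg.Agent.Lib.Lie.Laced.CertE6
-- import your own Cfsg.Agent.* helpers here

set_option autoImplicit false
open Cfsg
open CfsgLib.Lie.Chev CfsgLib.Lie.Laced

namespace Cfsg.Agent.S2175

/-- Conjugacy classes of involutions in the Chevalley group of type E₆ over a finite field F of characteristic two (the matrix group generated by the root elements x_r(t)). In this problem's root numbering for type E₆ (the Chevalley data module; fundamental roots numbered so that p₁–p₃–p₄–p₅–p₆ is the long chain of the diagram and p₂ is joined to p₄; roots indexed by their coefficient vectors in increasing order) let r = 71 be the highest root (1,2,2,3,2,1), α = 68 = (1,1,2,2,1,1), β = 66 = (1,1,1,2,2,1), γ = 55 = (0,1,1,2,2,1), δ = 65 = (1,1,1,2,1,1), ε = 67 = (1,1,2,2,1,0) (α ⊥ β and γ, δ, ε pairwise orthogonal); consider x_r(1), x_α(1)x_β(1) and x_γ(1)x_δ(1)x_ε(1).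 Then: each invertible matrix equal to one of these three products lies in the group and has order 2; every element of order 2 of the group is conjugate in the group to one of them; and no two of them are conjugate in the group (so, the three matrices being distinct, the group has exactly three conjugacy classes of involutions). -/
theorem result {F : Type*} [Field F] [Fintype F] [CharP F 2] :
    (∀ y : GL Cfsg.Lie.chevE6.Idx F, ((y : GL Cfsg.Lie.chevE6.Idx F) : Matrix Cfsg.Lie.chevE6.Idx Cfsg.Lie.chevE6.Idx F) ∈ [Cfsg.Lie.chevE6.x F 71 1, Cfsg.Lie.chevE6.x F 68 1 * Cfsg.Lie.chevE6.x F 66 1, Cfsg.Lie.chevE6.x F 55 1 * Cfsg.Lie.chevE6.x F 65 1 * Cfsg.Lie.chevE6.x F 67 1] → y ∈ Cfsg.Lie.chevE6.group F ∧ orderOf y = 2) ∧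
    (∀ g ∈ Cfsg.Lie.chevE6.group F, orderOf g = 2 → ∃ y ∈ Cfsg.Lie.chevE6.group F, ((y : GL Cfsg.Lie.chevE6.Idx F) : Matrix Cfsg.Lie.chevE6.Idx Cfsg.Lie.chevE6.Idx F) ∈ [Cfsg.Lie.chevE6.x F 71 1, Cfsg.Lie.chevE6.x F 68 1 * Cfsg.Lie.chevE6.x F 66 1, Cfsg.Lie.chevE6.x F 55 1 * Cfsg.Lie.chevE6.x F 65 1 * Cfsg.Lie.chevE6.x F 67 1] ∧ ∃ h ∈ Cfsg.Lie.chevE6.group F, h * g * h⁻¹ = y) ∧
    (∀ y₁ ∈ Cfsg.Lie.chevE6.group F, ∀ y₂ ∈ Cfsg.Lie.chevE6.group F, ((y₁ : GL Cfsg.Lie.chevE6.Idx F) : Matrix Cfsg.Lie.chevE6.Idx Cfsg.Lie.chevE6.Idx F) ∈ [Cfsg.Lie.chevE6.x F 71 1, Cfsg.Lie.chevE6.x F 68 1 * Cfsg.Lie.chevE6.x F 66 1, Cfsg.Lie.chevE6.x F 55 1 * Cfsg.Lie.chevE6.x F 65 1 * Cfsg.Lie.chevE6.x F 67 1] → ((y₂ : GL Cfsg.Lie.chevE6.Idx F) : Matrix Cfsg.Lie.chevE6.Idx Cfsg.Lie.chevE6.Idx F) ∈ [Cfsg.Lie.chevE6.x F 71 1, Cfsg.Lie.chevE6.x F 68 1 * Cfsg.Lie.chevE6.x F 66 1, Cfsg.Lie.chevE6.x F 55 1 * Cfsg.Lie.chevE6.x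 F 65 1 * Cfsg.Lie.chevE6.x F 67 1] →
      (∃ h ∈ Cfsg.Lie.chevE6.group F, h * y₁ * h⁻¹ = y₂) → ((y₁ : GL Cfsg.Lie.chevE6.Idx F) : Matrix Cfsg.Lie.chevE6.Idx Cfsg.Lie.chevE6.Idx F) = ((y₂ : GL Cfsg.Lie.chevE6.Idx F) : Matrix Cfsg.Lie.chevE6.Idx Cfsg.Lie.chevE6.Idx F)) := by
  have C : Full Cfsg.Lie.chevE6 := fullOf (by simp)
  have H := certE6 C
  have e1 : ((nprod C (K := F) (orthE6.reps.getD 1 []) : GL Cfsg.Lie.chevE6.Idx F) :
      Matrix Cfsg.Lie.chevE6.Idx Cfsg.Lie.chevE6.Idx F) = Cfsg.Lie.chevE6.x F 71 1 := by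
    show Units.val (nprod C (K := F) [71]) = _
    rw [show Cfsg.Lie.chevE6.x F 71 1 = Units.val (xn C (K := F) 71) from
      (C.G.x_eq_xu ⟨71, by decide⟩ 1).trans (by rw [xn, dif_pos])]
    simp [nprod_cons, nprod, mul_assoc]
  have e2 : ((nprod C (K := F) (orthE6.reps.getD 2 []) : GL Cfsg.Lie.chevE6.Idx F) :
      Matrix Cfsg.Lie.chevE6.Idx Cfsg.Lie.chevE6.Idx F) = Cfsg.Lie.chevE6.x F 68 1 * Cfsg.Lie.chevE6.x F 66 1 := by
    show Units.val (nprod C (K := F) [68, 66]) = _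
    rw [show Cfsg.Lie.chevE6.x F 68 1 = Units.val (xn C (K := F) 68) from
      (C.G.x_eq_xu ⟨68, by decide⟩ 1).trans (by rw [xn, dif_pos])]
    rw [show Cfsg.Lie.chevE6.x F 66 1 = Units.val (xn C (K := F) 66) from
      (C.G.x_eq_xu ⟨66, by decide⟩ 1).trans (by rw [xn, dif_pos])]
    simp [nprod_cons, nprod, mul_assoc]
  have e3 : ((nprod C (K := F) (orthE6.reps.getD 3 []) : GL Cfsg.Lie.chevE6.Idx F) :
      Matrix Cfsg.Lie.chevE6.Idx Cfsg.Lie.chevE6.Idx F) = Cfsg.Lie.chevE6.x F 55 1 * Cfsg.Lie.chevE6.x F 65 1 * Cfsg.Lie.chevE6.x F 67 1 := by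
    show Units.val (nprod C (K := F) [55, 65, 67]) = _
    rw [show Cfsg.Lie.chevE6.x F 55 1 = Units.val (xn C (K := F) 55) from
      (C.G.x_eq_xu ⟨55, by decide⟩ 1).trans (by rw [xn, dif_pos])]
    rw [show Cfsg.Lie.chevE6.x F 65 1 = Units.val (xn C (K := F) 65) from
      (C.G.x_eq_xu ⟨65, by decide⟩ 1).trans (by rw [xn, dif_pos])]
    rw [show Cfsg.Lie.chevE6.x F 67 1 = Units.val (xn C (K := F) 67) from
      (C.G.x_eq_xu ⟨67, by decide⟩ 1).trans (by rw [xn, dif_pos])]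
    simp [nprod_cons, nprod, mul_assoc]
  have hcase : ∀ y : GL Cfsg.Lie.chevE6.Idx F, (y : Matrix Cfsg.Lie.chevE6.Idx Cfsg.Lie.chevE6.Idx F) ∈
      [Cfsg.Lie.chevE6.x F 71 1, Cfsg.Lie.chevE6.x F 68 1 * Cfsg.Lie.chevE6.x F 66 1, Cfsg.Lie.chevE6.x F 55 1 * Cfsg.Lie.chevE6.x F 65 1 * Cfsg.Lie.chevE6.x F 67 1] → ∃ t ∈ orthE6.targets, y = nprod C (orthE6.reps.getD t []) := by
    intro y hy
    simp only [List.mem_cons, List.not_mem_nil, or_false] at hy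
    rcases hy with hy | hy | hy
    · exact ⟨1, by decide, Units.ext (hy.trans e1.symm)⟩
    · exact ⟨2, by decide, Units.ext (hy.trans e2.symm)⟩
    · exact ⟨3, by decide, Units.ext (hy.trans e3.symm)⟩
  refine ⟨fun y hy => ?_, fun g hg h => ?_, fun y₁ _ y₂ _ hy₁ hy₂ => ?_⟩
  · obtain ⟨t, ht, rfl⟩ := hcase y hy
    exact ⟨nprod_mem _, orderOf_target H ht⟩
  · obtain ⟨t, ht, hcj⟩ := exists_target H hg h
    refine ⟨_, nprod_mem (orthE6.reps.getD t []), ?_, hcj⟩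
    simp only [orthE6, List.mem_cons, List.not_mem_nil, or_false] at ht
    rcases ht with rfl | rfl | rfl
    · simp only [List.mem_cons]; rw [e1]; simp
    · simp only [List.mem_cons]; rw [e2]; simp
    · simp only [List.mem_cons]; rw [e3]; simp
  · obtain ⟨s, hs, rfl⟩ := hcase y₁ hy₁
    obtain ⟨t, ht, rfl⟩ := hcase y₂ hy₂
    intro h
    rw [target_eq_of_cj H hs ht h]

end Cfsg.Agent.S2175
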