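import Cfsg.Statements.S2176
import Cfsg.Agent.Lib.Lie.Laced.CertE8
-- import your own Cfsg.Agent.* helpers here

set_option autoImplicit false
open Cfsg
open CfsgLib.Lie.Chev CfsgLib.Lie.Laced

namespace Cfsg.Agent.S2176

/-- Conjugacy classes of involutions in the Chevalley group of type E₈ over a finite field F of characteristic two (the matrix group generated by the root elements x_r(t)). In this problem's root numbering for type E₈ (the Chevalley data module; fundamental roots numbered so that p₁–p₃–p₄–p₅–p₆–p₇–p₈ is the long chain of the diagram and p₂ is joined to p₄; roots indexed by their coefficient vectors in increasing order) let r = 239 be the highest root (2,3,4,6,5,4,3,2), α = 232 = (2,2,4,5,4,3,2,1), β = 233 = (2,3,3,5,4,3,2,1), γ = 228 = (2,2,3,4,3,2,2,1), δ = 222 = (1,2,3,4,3,3,2,1), ε = 218 = (1,2,2,4,4,3,2,1), φ = 226 = (2,2,3,4,3,2,1,0), ψ = 220 = (1,2,3,4,3,2,1,1),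 θ = 213 = (1,2,2,3,3,3,2,1), ω = 216 = (1,2,2,4,3,2,2,1) (the roots within each of {α, β}, {γ, δ, ε}, {φ, ψ, θ, ω} pairwise orthogonal); consider x_r(1), x_α(1)x_β(1), x_γ(1)x_δ(1)x_ε(1) and x_φ(1)x_ψ(1)x_θ(1)x_ω(1). Then: each invertible matrix equal to one of these four products lies in the group and has order 2; every element of order 2 of the group is conjugate in the group to one of them; and no two of them are conjugate in the group (so, the four matrices being distinct, the group has exactly four conjugacy classes of involutions). -/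
theorem result {F : Type*} [Field F] [Fintype F] [CharP F 2] :
    (∀ y : GL Cfsg.Lie.chevE8.Idx F, ((y : GL Cfsg.Lie.chevE8.Idx F) : Matrix Cfsg.Lie.chevE8.Idx Cfsg.Lie.chevE8.Idx F) ∈ [Cfsg.Lie.chevE8.x F 239 1, Cfsg.Lie.chevE8.x F 232 1 * Cfsg.Lie.chevE8.x F 233 1, Cfsg.Lie.chevE8.x F 228 1 * Cfsg.Lie.chevE8.x F 222 1 * Cfsg.Lie.chevE8.x F 218 1, Cfsg.Lie.chevE8.x F 226 1 * Cfsg.Lie.chevE8.x F 220 1 * Cfsg.Lie.chevE8.x F 213 1 * Cfsg.Lie.chevE8.x F 216 1] → y ∈ Cfsg.Lie.chevE8.group F ∧ orderOf y = 2) ∧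
    (∀ g ∈ Cfsg.Lie.chevE8.group F, orderOf g = 2 → ∃ y ∈ Cfsg.Lie.chevE8.group F, ((y : GL Cfsg.Lie.chevE8.Idx F) : Matrix Cfsg.Lie.chevE8.Idx Cfsg.Lie.chevE8.Idx F) ∈ [Cfsg.Lie.chevE8.x F 239 1, Cfsg.Lie.chevE8.x F 232 1 * Cfsg.Lie.chevE8.x F 233 1, Cfsg.Lie.chevE8.x F 228 1 * Cfsg.Lie.chevE8.x F 222 1 * Cfsg.Lie.chevE8.x F 218 1, Cfsg.Lie.chevE8.x F 226 1 * Cfsg.Lie.chevE8.x F 220 1 * Cfsg.Lie.chevE8.x F 213 1 * Cfsg.Lie.chevE8.x F 216 1] ∧ ∃ h ∈ Cfsg.Lie.chevE8.group F, h * g * h⁻¹ = y) ∧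
    (∀ y₁ ∈ Cfsg.Lie.chevE8.group F, ∀ y₂ ∈ Cfsg.Lie.chevE8.group F, ((y₁ : GL Cfsg.Lie.chevE8.Idx F) : Matrix Cfsg.Lie.chevE8.Idx Cfsg.Lie.chevE8.Idx F) ∈ [Cfsg.Lie.chevE8.x F 239 1, Cfsg.Lie.chevE8.x F 232 1 * Cfsg.Lie.chevE8.x F 233 1, Cfsg.Lie.chevE8.x F 228 1 * Cfsg.Lie.chevE8.x F 222 1 * Cfsg.Lie.chevE8.x F 218 1, Cfsg.Lie.chevE8.x F 226 1 * Cfsg.Lie.chevE8.x F 220 1 * Cfsg.Lie.chevE8.x F 213 1 * Cfsg.Lie.chevE8.x F 216 1] → ((y₂ : GL Cfsg.Lie.chevE8.Idx F) : Matrix Cfsg.Lie.chevE8.Idx Cfsg.Lie.chevE8.Idx F) ∈ [Cfsg.Lie.chevE8.x F 239 1, Cfsg.Lie.chevE8.x F 232 1 * Cfsg.Lie.chevE8.x F 233 1, Cfsg.Lie.chevE8.x F 228 1 * Cfsg.Lie.chevE8.x F 222 1 * Cfsg.Lie.chevE8.x F 218 1, Cfsg.Lie.chevE8.x F 226 1 * Cfsg.Lie.chevE8.x F 220 1 * Cfsg.Lie.chevE8.x F 213 1 * Cfsg.Lie.chevE8.x F 216 1] →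
      (∃ h ∈ Cfsg.Lie.chevE8.group F, h * y₁ * h⁻¹ = y₂) → ((y₁ : GL Cfsg.Lie.chevE8.Idx F) : Matrix Cfsg.Lie.chevE8.Idx Cfsg.Lie.chevE8.Idx F) = ((y₂ : GL Cfsg.Lie.chevE8.Idx F) : Matrix Cfsg.Lie.chevE8.Idx Cfsg.Lie.chevE8.Idx F)) := by
  have C : Full Cfsg.Lie.chevE8 := fullOf (by simp)
  have H := certE8 C
  have e1 : ((nprod C (K := F) (orthE8.reps.getD 1 []) : GL Cfsg.Lie.chevE8.Idx F) :
      Matrix Cfsg.Lie.chevE8.Idx Cfsg.Lie.chevE8.Idx F) = Cfsg.Lie.chevE8.x F 239 1 := by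
    show Units.val (nprod C (K := F) [239]) = _
    rw [show Cfsg.Lie.chevE8.x F 239 1 = Units.val (xn C (K := F) 239) from
      (C.G.x_eq_xu ⟨239, by decide⟩ 1).trans (by rw [xn, dif_pos])]
    simp [nprod_cons, nprod, mul_assoc]
  have e2 : ((nprod C (K := F) (orthE8.reps.getD 2 []) : GL Cfsg.Lie.chevE8.Idx F) :
      Matrix Cfsg.Lie.chevE8.Idx Cfsg.Lie.chevE8.Idx F) = Cfsg.Lie.chevE8.x F 232 1 * Cfsg.Lie.chevE8.x F 233 1 := by
    show Units.val (nprod C (K := F) [232, 233]) = _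
    rw [show Cfsg.Lie.chevE8.x F 232 1 = Units.val (xn C (K := F) 232) from
      (C.G.x_eq_xu ⟨232, by decide⟩ 1).trans (by rw [xn, dif_pos])]
    rw [show Cfsg.Lie.chevE8.x F 233 1 = Units.val (xn C (K := F) 233) from
      (C.G.x_eq_xu ⟨233, by decide⟩ 1).trans (by rw [xn, dif_pos])]
    simp [nprod_cons, nprod, mul_assoc]
  have e3 : ((nprod C (K := F) (orthE8.reps.getD 3 []) : GL Cfsg.Lie.chevE8.Idx F) :
      Matrix Cfsg.Lie.chevE8.Idx Cfsg.Lie.chevE8.Idx F) = Cfsg.Lie.chevE8.x F 228 1 * Cfsg.Lie.chevE8.x F 222 1 * Cfsg.Lie.chevE8.x F 218 1 := by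
    show Units.val (nprod C (K := F) [228, 222, 218]) = _
    rw [show Cfsg.Lie.chevE8.x F 228 1 = Units.val (xn C (K := F) 228) from
      (C.G.x_eq_xu ⟨228, by decide⟩ 1).trans (by rw [xn, dif_pos])]
    rw [show Cfsg.Lie.chevE8.x F 222 1 = Units.val (xn C (K := F) 222) from
      (C.G.x_eq_xu ⟨222, by decide⟩ 1).trans (by rw [xn, dif_pos])]
    rw [show Cfsg.Lie.chevE8.x F 218 1 = Units.val (xn C (K := F) 218) from
      (C.G.x_eq_xu ⟨218, by decide⟩ 1).trans (by rw [xn, dif_pos])]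
    simp [nprod_cons, nprod, mul_assoc]
  have e4 : ((nprod C (K := F) (orthE8.reps.getD 4 []) : GL Cfsg.Lie.chevE8.Idx F) :
      Matrix Cfsg.Lie.chevE8.Idx Cfsg.Lie.chevE8.Idx F) = Cfsg.Lie.chevE8.x F 226 1 * Cfsg.Lie.chevE8.x F 220 1 * Cfsg.Lie.chevE8.x F 213 1 * Cfsg.Lie.chevE8.x F 216 1 := by
    show Units.val (nprod C (K := F) [226, 220, 213, 216]) = _
    rw [show Cfsg.Lie.chevE8.x F 226 1 = Units.val (xn C (K := F) 226) from
      (C.G.x_eq_xu ⟨226, by decide⟩ 1).trans (by rw [xn, dif_pos])]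
    rw [show Cfsg.Lie.chevE8.x F 220 1 = Units.val (xn C (K := F) 220) from
      (C.G.x_eq_xu ⟨220, by decide⟩ 1).trans (by rw [xn, dif_pos])]
    rw [show Cfsg.Lie.chevE8.x F 213 1 = Units.val (xn C (K := F) 213) from
      (C.G.x_eq_xu ⟨213, by decide⟩ 1).trans (by rw [xn, dif_pos])]
    rw [show Cfsg.Lie.chevE8.x F 216 1 = Units.val (xn C (K := F) 216) from
      (C.G.x_eq_xu ⟨216, by decide⟩ 1).trans (by rw [xn, dif_pos])]
    simp [nprod_cons, nprod, mul_assoc]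
  have hcase : ∀ y : GL Cfsg.Lie.chevE8.Idx F, (y : Matrix Cfsg.Lie.chevE8.Idx Cfsg.Lie.chevE8.Idx F) ∈
      [Cfsg.Lie.chevE8.x F 239 1, Cfsg.Lie.chevE8.x F 232 1 * Cfsg.Lie.chevE8.x F 233 1, Cfsg.Lie.chevE8.x F 228 1 * Cfsg.Lie.chevE8.x F 222 1 * Cfsg.Lie.chevE8.x F 218 1, Cfsg.Lie.chevE8.x F 226 1 * Cfsg.Lie.chevE8.x F 220 1 * Cfsg.Lie.chevE8.x F 213 1 * Cfsg.Lie.chevE8.x F 216 1] → ∃ t ∈ orthE8.targets, y = nprod C (orthE8.reps.getD t []) := by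
    intro y hy
    simp only [List.mem_cons, List.not_mem_nil, or_false] at hy
    rcases hy with hy | hy | hy | hy
    · exact ⟨1, by decide, Units.ext (hy.trans e1.symm)⟩
    · exact ⟨2, by decide, Units.ext (hy.trans e2.symm)⟩
    · exact ⟨3, by decide, Units.ext (hy.trans e3.symm)⟩
    · exact ⟨4, by decide, Units.ext (hy.trans e4.symm)⟩
  refine ⟨fun y hy => ?_, fun g hg h => ?_, fun y₁ _ y₂ _ hy₁ hy₂ => ?_⟩
  · obtain ⟨t, ht, rfl⟩ := hcase y hy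
    exact ⟨nprod_mem _, orderOf_target H ht⟩
  · obtain ⟨t, ht, hcj⟩ := exists_target H hg h
    refine ⟨_, nprod_mem (orthE8.reps.getD t []), ?_, hcj⟩
    simp only [orthE8, List.mem_cons, List.not_mem_nil, or_false] at ht
    rcases ht with rfl | rfl | rfl | rfl
    · simp only [List.mem_cons]; rw [e1]; simp
    · simp only [List.mem_cons]; rw [e2]; simp
    · simp only [List.mem_cons]; rw [e3]; simp
    · simp only [List.mem_cons]; rw [e4]; simp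
  · obtain ⟨s, hs, rfl⟩ := hcase y₁ hy₁
    obtain ⟨t, ht, rfl⟩ := hcase y₂ hy₂
    intro h
    rw [target_eq_of_cj H hs ht h]

end Cfsg.Agent.S2176
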