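import Cfsg.Statements.S2177
import Cfsg.Agent.Lib.Lie.G2.Invol
-- import your own Cfsg.Agent.* helpers here

set_option autoImplicit false
open Cfsg
open CfsgLib.Lie.Chev CfsgLib.Lie.G2Invol

namespace Cfsg.Agent.S2177

/-- Conjugacy classes of involutions in the Chevalley group of type G₂ over a finite field F of characteristic two with at least four elements (the matrix group generated by the root elements x_r(t)). In this problem's root numbering for type G₂ (the Chevalley data module; p₁ = a short, p₂ = b long; roots indexed by coefficient vectors in increasing order) let 11 be the highest root 3a + 2b (long) and 9 the short root 2a + b; consider x_{3a+2b}(1) and x_{2a+b}(1). Then: each invertible matrix equal to one of these two products lies in the group and has order 2; every element of order 2 of the group is conjugate in the group to one of them; and no two of them are conjugate in the group (so, the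 two matrices being distinct, the group has exactly two conjugacy classes of involutions). -/
theorem result {F : Type*} [Field F] [Fintype F] [CharP F 2] (hF : 4 ≤ Fintype.card F) :
    (∀ y : GL Cfsg.Lie.chevG2.Idx F, ((y : GL Cfsg.Lie.chevG2.Idx F) : Matrix Cfsg.Lie.chevG2.Idx Cfsg.Lie.chevG2.Idx F) ∈ [Cfsg.Lie.chevG2.x F 11 1, Cfsg.Lie.chevG2.x F 9 1] → y ∈ Cfsg.Lie.chevG2.group F ∧ orderOf y = 2) ∧
    (∀ g ∈ Cfsg.Lie.chevG2.group F, orderOf g = 2 → ∃ y ∈ Cfsg.Lie.chevG2.group F, ((y : GL Cfsg.Lie.chevG2.Idx F) : Matrix Cfsg.Lie.chevG2.Idx Cfsg.Lie.chevG2.Idx F) ∈ [Cfsg.Lie.chevG2.x F 11 1, Cfsg.Lie.chevG2.x F 9 1] ∧ ∃ h ∈ Cfsg.Lie.chevG2.group F, h * g * h⁻¹ = y) ∧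
    (∀ y₁ ∈ Cfsg.Lie.chevG2.group F, ∀ y₂ ∈ Cfsg.Lie.chevG2.group F, ((y₁ : GL Cfsg.Lie.chevG2.Idx F) : Matrix Cfsg.Lie.chevG2.Idx Cfsg.Lie.chevG2.Idx F) ∈ [Cfsg.Lie.chevG2.x F 11 1, Cfsg.Lie.chevG2.x F 9 1] → ((y₂ : GL Cfsg.Lie.chevG2.Idx F) : Matrix Cfsg.Lie.chevG2.Idx Cfsg.Lie.chevG2.Idx F) ∈ [Cfsg.Lie.chevG2.x F 11 1, Cfsg.Lie.chevG2.x F 9 1] →
      (∃ h ∈ Cfsg.Lie.chevG2.group F, h * y₁ * h⁻¹ = y₂) → ((y₁ : GL Cfsg.Lie.chevG2.Idx F) : Matrix Cfsg.Lie.chevG2.Idx Cfsg.Lie.chevG2.Idx F) = ((y₂ : GL Cfsg.Lie.chevG2.Idx F) : Matrix Cfsg.Lie.chevG2.Idx Cfsg.Lie.chevG2.Idx F)) := by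
  have C : Full Cfsg.Lie.chevG2 := fullOf (by simp)
  have h9 : (X C r9 (1 : F) : Matrix Cfsg.Lie.chevG2.Idx Cfsg.Lie.chevG2.Idx F) = Cfsg.Lie.chevG2.x F 9 1 :=
    (C.G.x_eq_xu r9 1).symm
  have h11 : (X C r11 (1 : F) : Matrix Cfsg.Lie.chevG2.Idx Cfsg.Lie.chevG2.Idx F) = Cfsg.Lie.chevG2.x F 11 1 :=
    (C.G.x_eq_xu r11 1).symm
  have hord : ∀ r, orderOf (X C r (1 : F)) = 2 := fun r => by
    refine orderOf_eq_prime ?_ fun h => one_ne_zero ((C.G.xu_eq_one_iff r (1 : F)).1 h)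
    rw [pow_two, xx, CharTwo.add_self_eq_zero]
    exact C.G.xu_zero r
  have hcase : ∀ y : GL Cfsg.Lie.chevG2.Idx F,
      (y : Matrix Cfsg.Lie.chevG2.Idx Cfsg.Lie.chevG2.Idx F) ∈
        [Cfsg.Lie.chevG2.x F 11 1, Cfsg.Lie.chevG2.x F 9 1] → y = X C r11 (1 : F) ∨ y = X C r9 (1 : F) := by
    intro y hy
    simp only [List.mem_cons, List.not_mem_nil, or_false] at hy
    exact hy.imp (fun e => Units.ext (e.trans h11.symm)) (fun e => Units.ext (e.trans h9.symm))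
  refine ⟨fun y hy => ?_, fun g hg h => ?_, fun y₁ _ y₂ _ hy₁ hy₂ => ?_⟩
  · rcases hcase y hy with rfl | rfl <;> exact ⟨C.G.xu_mem _ _, hord _⟩
  · rcases type_of_orderOf C hg h with ⟨x, hx, e⟩ | ⟨x, hx, e⟩
    · exact ⟨X C r9 (1 : F), C.G.xu_mem _ _, by simp [h9], x, hx, e⟩
    · exact ⟨X C r11 (1 : F), C.G.xu_mem _ _, by simp [h11], x, hx, e⟩
  · rintro ⟨g, hg, e⟩
    rcases hcase y₁ hy₁ with rfl | rfl <;> rcases hcase y₂ hy₂ with rfl | rfl
    · rfl
    · refine absurd ?_ (not_cj C (inv_mem hg))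
      rw [← e]; group
    · exact absurd e (not_cj C hg)
    · rfl

end Cfsg.Agent.S2177
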