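import Cfsg.Statements.S2178
import Cfsg.Agent.Lib.Lie.Chev.Cent
import Cfsg.Agent.Lib.Lie.Chev.GoodF4
import Cfsg.Agent.Lib.Lie.Chev.CommF4
-- import your own Cfsg.Agent.* helpers here

set_option autoImplicit false
open Cfsg
open CfsgLib.Lie.Chev

namespace Cfsg.Agent.S2178

noncomputable def cF4 : Full Cfsg.Lie.chevF4 := ⟨goodF4, fastF4, rowsOK chkRows_F4, chkComm_F4⟩

abbrev shortF4 : ℕ → Bool := fun r =>
  decide (r ∈ [3, 7, 8, 9, 10, 11, 12, 13, 14, 18, 19, 20, 27, 28, 29, 33, 34, 35, 36, 37, 38, 39, 40, 44])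

theorem foldl_eq {F : Type*} [Field F] (L : List (Fin Cfsg.Lie.chevF4.rank)) :
    centTop (K := F) cF4.G L = (L.map fun i => Cfsg.Lie.chevF4.neg (Cfsg.Lie.chevF4.simple i.val)).foldl
      (fun M s => M ⊔ Cfsg.Lie.chevF4.rootSubgroup F s) (Cfsg.Lie.chevF4.posUnipotent F) := by
  rw [cF4.G.centTop_eq, cF4.G.sup_rootSubgroups]


/-- Centralizers of the long and the short root involutions in the Chevalley group G of type F₄ over a finite field F of characteristic two (this problem's root numbering for type F₄, from the Chevalley data module: fundamental roots p₁, p₂ short, p₃, p₄ long, with indices 33, 27, 25, 24, their negatives 14, 20, 22, 23; highest root 47, highest short root 44; U the subgroup generated by the positive root subgroups). For an element t of G with matrix x_47(1): the centralizer of t in G is the subgroup generated by U and the root subgroups X_{−p₁}, X_{−p₂}, X_{−p₃} (the unipotent radical of the maximal parabolic subgroup whose Levi factor has fundamental roots p₁, p₂, p₃, together with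 that Levi factor's root subgroups; the Levi factor is of type C₃). For an element u of G with matrix x_44(1): the centralizer of u in G is generated by U and X_{−p₂}, X_{−p₃}, X_{−p₄} (the same construction for the Levi factor with fundamental roots p₂, p₃, p₄, of type B₃). -/
theorem result {F : Type*} [Field F] [Fintype F] [CharP F 2] (t u : GL Cfsg.Lie.chevF4.Idx F) (ht : (t : Matrix Cfsg.Lie.chevF4.Idx Cfsg.Lie.chevF4.Idx F) = Cfsg.Lie.chevF4.x F 47 1) (hu : (u : Matrix Cfsg.Lie.chevF4.Idx Cfsg.Lie.chevF4.Idx F) = Cfsg.Lie.chevF4.x F 44 1) :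
    Cfsg.Lie.chevF4.group F ⊓ Subgroup.centralizer {t} = Cfsg.Lie.chevF4.posUnipotent F ⊔ Cfsg.Lie.chevF4.rootSubgroup F 14 ⊔ Cfsg.Lie.chevF4.rootSubgroup F 20 ⊔ Cfsg.Lie.chevF4.rootSubgroup F 22 ∧
    Cfsg.Lie.chevF4.group F ⊓ Subgroup.centralizer {u} = Cfsg.Lie.chevF4.posUnipotent F ⊔ Cfsg.Lie.chevF4.rootSubgroup F 20 ⊔ Cfsg.Lie.chevF4.rootSubgroup F 22 ⊔ Cfsg.Lie.chevF4.rootSubgroup F 23 := by
  have h1 := cF4.centralizer_single (K := F) (⟨47, by decide +kernel⟩) (fun r => !shortF4 r)
    [⟨0, by decide +kernel⟩, ⟨1, by decide +kernel⟩, ⟨2, by decide +kernel⟩]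
    (by decide +kernel) (by decide +kernel) (by decide +kernel) (by decide +kernel)
    (by decide +kernel) (t := t) ht
  have h2 := cF4.centralizer_single (K := F) (⟨44, by decide +kernel⟩) shortF4
    [⟨1, by decide +kernel⟩, ⟨2, by decide +kernel⟩, ⟨3, by decide +kernel⟩]
    (by decide +kernel) (by decide +kernel) (by decide +kernel) (by decide +kernel)
    (by decide +kernel) (t := u) hu
  rw [foldl_eq] at h1 h2
  exact ⟨h1, h2⟩

end Cfsg.Agent.S2178
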