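import Cfsg.Statements.S2179
import Cfsg.Agent.Lib.Lie.Chev.CentPair
import Cfsg.Agent.Lib.Lie.Chev.GoodF4
import Cfsg.Agent.Lib.Lie.Chev.CommF4
import Cfsg.Agent.Lib.Lie.Chev.Tw.OrbPlainF4
-- import your own Cfsg.Agent.* helpers here

set_option autoImplicit false
open Cfsg
open CfsgLib.Lie.Chev

namespace Cfsg.Agent.S2179

noncomputable def cF4 : Full Cfsg.Lie.chevF4 := ⟨goodF4, fastF4, rowsOK chkRows_F4, chkComm_F4⟩

abbrev shortF4 : ℕ → Bool := fun r =>
  decide (r ∈ [3, 7, 8, 9, 10, 11, 12, 13, 14, 18, 19, 20, 27, 28, 29, 33, 34, 35, 36, 37, 38, 39, 40, 44])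

abbrev rr (i : ℕ) (h : i < Cfsg.Lie.chevF4.nroots := by decide +kernel) : Fin Cfsg.Lie.chevF4.nroots := ⟨i, h⟩
abbrev nn (i : ℕ) (h : i < Cfsg.Lie.chevF4.rank := by decide +kernel) : Fin Cfsg.Lie.chevF4.rank := ⟨i, h⟩

noncomputable def XV : CentData Cfsg.Lie.chevF4 where
  T0 := [39, 45]
  A := [39, 40, 44, 45, 46, 47]
  four := [27, 25, 34, 26]
  src := fun r => if r = 25 ∨ r = 26 then 45 else 39
  tg := fun r => if r = 25 then 46 else if r = 26 then 47 else if r = 27 then 40 else 44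
  J := [nn 0, nn 3]

theorem XV_valid : XV.Valid where
  T0_sub := by decide +kernel
  T0_nodup := by decide +kernel
  A_pos := by decide +kernel
  comm := by decide +kernel
  closed := by decide +kernel
  fixed := by decide +kernel
  four_pos := by decide +kernel
  moves := by decide +kernel
  tg_inj := by decide +kernel
  J_cart := by decide +kernel
  J_simple := by decide +kernel

theorem cand : allLt enumPlainF4.m (fun k =>
    chkCand Cfsg.Lie.chevF4 fastF4 XV.T0 XV.A XV.four [[], [0], [3], [0, 3], [3, 0]] (enumPlainF4.P.get k)) = true := by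
  decide +kernel

theorem centW {F : Type*} [Field F] [CharP F 2] (w : GL Cfsg.Lie.chevF4.Idx F)
    (hw : (w : Matrix Cfsg.Lie.chevF4.Idx Cfsg.Lie.chevF4.Idx F) = Cfsg.Lie.chevF4.x F 47 1 * Cfsg.Lie.chevF4.x F 44 1) :
    Cfsg.Lie.chevF4.group F ⊓ Subgroup.centralizer {w} = Cfsg.Lie.chevF4.posUnipotent F ⊔ Cfsg.Lie.chevF4.rootSubgroup F 20 ⊔ Cfsg.Lie.chevF4.rootSubgroup F 22 := by
  have h47 : Cfsg.Lie.chevF4.IsPosRoot 47 := by decide +kernel
  have h44 : Cfsg.Lie.chevF4.IsPosRoot 44 := by decide +kernel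
  have e47 : EvenTerms Cfsg.Lie.chevF4 47 := by decide +kernel
  have e44 : EvenTerms Cfsg.Lie.chevF4 44 := by decide +kernel
  rw [cF4.G.eq_tS_pair (θ₁ := rr 47) (θ₂ := rr 44) hw,
    cF4.centralizer_tS [rr 47, rr 44] [nn 1, nn 2] (by simp [h47, h44]) (by simp [e47, e44]) ?_
      (by decide +kernel) (by decide +kernel) ?_, cF4.G.centTop_eq, ← cF4.G.sup_rootSubgroups]
  · rfl
  · intro θ hθ
    simp only [List.mem_cons, List.not_mem_nil, or_false] at hθ
    rcases hθ with rfl | rfl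
    · exact ⟨fun r => !shortF4 r, by decide +kernel⟩
    · exact ⟨shortF4, by decide +kernel⟩
  · exact fun π c hπ h => cF4.rigid_pair (a := rr 44) (b := rr 47) (by decide +kernel) h44 h47
      (cF4.commute_of_even h47 h44 e47 1 1) (P := shortF4) (by decide +kernel) (by decide +kernel) π c hπ h

theorem prod4 {M : Type*} [CommMonoid M] (g : Fin Cfsg.Lie.chevF4.rank → M) :
    ∏ i, g i = g (nn 0) * g (nn 1) * g (nn 2) * g (nn 3) := Fin.prod_univ_four g

theorem centV {F : Type*} [Field F] [CharP F 2] (v : GL Cfsg.Lie.chevF4.Idx F)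
    (hv : (v : Matrix Cfsg.Lie.chevF4.Idx Cfsg.Lie.chevF4.Idx F) = Cfsg.Lie.chevF4.x F 39 1 * Cfsg.Lie.chevF4.x F 45 1) :
    Cfsg.Lie.chevF4.group F ⊓ Subgroup.centralizer {v} = Cfsg.Lie.chevF4.rootSubgroup F 33 ⊔ Cfsg.Lie.chevF4.rootSubgroup F 14 ⊔ Cfsg.Lie.chevF4.rootSubgroup F 24 ⊔ Cfsg.Lie.chevF4.rootSubgroup F 23 ⊔
      Subgroup.closure {g : GL Cfsg.Lie.chevF4.Idx F | ∃ (r : ℕ) (c : F), Cfsg.Lie.chevF4.IsPosRoot r ∧ r ∉ [27, 25, 34, 26] ∧ (g : Matrix Cfsg.Lie.chevF4.Idx Cfsg.Lie.chevF4.Idx F) = Cfsg.Lie.chevF4.x F r c} := by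
  have e : v = cF4.tX XV := by
    rw [cF4.tX_eq XV_valid, show cF4.fins XV.T0 = [rr 39, rr 45] by rfl]
    exact cF4.G.eq_tS_pair (θ₁ := rr 39) (θ₂ := rr 45) hv
  rw [e, cF4.centralizer_data checksF4 XV_valid [[], [0], [3], [0, 3], [3, 0]] ?_ (by decide +kernel) ?_]
  · have hn : ∀ i : Fin Cfsg.Lie.chevF4.rank, (cF4.G.negr (cF4.G.simp' i)).val =
        Cfsg.Lie.chevF4.neg (Cfsg.Lie.chevF4.simple i.val) := fun i => by
      rw [cF4.G.negr_val, cF4.G.simp_val]
    have n0 : (cF4.G.negr (cF4.G.simp' (nn 0))).val = 14 := (hn _).trans (by decide +kernel)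
    have n3 : (cF4.G.negr (cF4.G.simp' (nn 3))).val = 23 := (hn _).trans (by decide +kernel)
    refine le_antisymm (sup_le ?_ ?_) (sup_le (sup_le (sup_le (sup_le ?_ ?_) ?_) ?_) ?_)
    · rw [Full.fixU, Subgroup.closure_le]
      rintro g ⟨r, t, ⟨hr, hr4⟩, rfl⟩
      exact Subgroup.mem_sup_right (Subgroup.subset_closure ⟨r.val, t, hr, hr4, (cF4.G.x_eq_xu r t).symm⟩)
    · rw [Subgroup.closure_le]
      rintro g ⟨i, hi, t, rfl⟩
      simp only [XV, List.mem_cons, List.not_mem_nil, or_false] at hi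
      rcases hi with rfl | rfl
      · exact Subgroup.mem_sup_left (Subgroup.mem_sup_left (Subgroup.mem_sup_left
          (Subgroup.mem_sup_right (n0 ▸ cF4.G.xu_mem_rootSubgroup _ t))))
      · exact Subgroup.mem_sup_left (Subgroup.mem_sup_right (n3 ▸ cF4.G.xu_mem_rootSubgroup _ t))
    · rw [show (33 : ℕ) = (rr 33).val from rfl, cF4.G.rootSubgroup_closure, Subgroup.closure_le]
      rintro g ⟨t, rfl⟩
      exact Subgroup.mem_sup_left (Subgroup.subset_closure ⟨rr 33, t, ⟨by decide +kernel, by decide +kernel⟩, rfl⟩)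
    · rw [← n0, cF4.G.rootSubgroup_closure, Subgroup.closure_le]
      rintro g ⟨t, rfl⟩
      exact Subgroup.mem_sup_right (Subgroup.subset_closure ⟨nn 0, by simp [XV], t, rfl⟩)
    · rw [show (24 : ℕ) = (rr 24).val from rfl, cF4.G.rootSubgroup_closure, Subgroup.closure_le]
      rintro g ⟨t, rfl⟩
      exact Subgroup.mem_sup_left (Subgroup.subset_closure ⟨rr 24, t, ⟨by decide +kernel, by decide +kernel⟩, rfl⟩)
    · rw [← n3, cF4.G.rootSubgroup_closure, Subgroup.closure_le]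
      rintro g ⟨t, rfl⟩
      exact Subgroup.mem_sup_right (Subgroup.subset_closure ⟨nn 3, by simp [XV], t, rfl⟩)
    · rw [Subgroup.closure_le]
      rintro g ⟨r, c, hr, hr4, hg⟩
      refine Subgroup.mem_sup_left (Subgroup.subset_closure ⟨⟨r, hr.1⟩, c, ⟨hr, hr4⟩, Units.ext ?_⟩)
      rw [hg]; exact cF4.G.x_eq_xu ⟨r, hr.1⟩ c
  · intro π hπ
    obtain ⟨k, hk, hP⟩ := exists_tab checksF4 chkOrb_plainF4 (by decide +kernel) chkEnum_plainF4 hπ
    exact ⟨_, allLt_spec cand k hk, hP⟩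
  · intro d hd i hi
    have h39 := hd (rr 39) (by decide +kernel)
    have h45 := hd (rr 45) (by decide +kernel)
    rw [prod4, show cart _ (nn 0) (rr 39) = 0 from by decide +kernel, show cart _ (nn 1) (rr 39) = -1 from by decide +kernel,
      show cart _ (nn 2) (rr 39) = 1 from by decide +kernel, show cart _ (nn 3) (rr 39) = 0 from by decide +kernel] at h39
    rw [prod4, show cart _ (nn 0) (rr 45) = 0 from by decide +kernel, show cart _ (nn 1) (rr 45) = 2 from by decide +kernel,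
      show cart _ (nn 2) (rr 45) = -1 from by decide +kernel, show cart _ (nn 3) (rr 45) = 0 from by decide +kernel] at h45
    simp only [zpow_zero, one_mul, mul_one, zpow_one, zpow_neg, zpow_two] at h39 h45
    have e2 : d (nn 2) = d (nn 1) := (inv_mul_eq_one.1 h39).symm
    rw [e2, mul_inv_cancel_right] at h45
    rw [h45] at e2
    have hj : i = nn 0 ∨ i = nn 1 ∨ i = nn 2 ∨ i = nn 3 := by revert i; decide +kernel
    rcases hj with rfl | rfl | rfl | rfl
    · exact absurd (by simp [XV]) hi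
    · exact h45
    · exact e2
    · exact absurd (by simp [XV]) hi


/-- Centralizers of the two remaining classes of involutions in the Chevalley group G of type F₄ over a finite field F of characteristic two (this problem's root numbering for type F₄, from the Chevalley data module: p₁, p₂ short, p₃, p₄ long with indices 33, 27, 25, 24 and negatives 14, 20, 22, 23; U generated by the positive root subgroups). For an element of G with matrix x_47(1)x_44(1) (highest root times highest short root): its centralizer in G is generated by U, X_{−p₂} and X_{−p₃}. For an element of G with matrix x_39(1)x_45(1) (roots (1,2,2,1) and (2,4,2,1), an orthogonal short/long pair): its centralizer in G is generated by X_{p₁}, X_{−p₁}, X_{p₄}, X_{−p₄} and the root subgroups of all positive roots other than p₂ (27), p₃ (25), p₁ + p₂ (34) and p₃ + p₄ (26). -/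
theorem result {F : Type*} [Field F] [Fintype F] [CharP F 2] (w v : GL Cfsg.Lie.chevF4.Idx F) (hw : (w : Matrix Cfsg.Lie.chevF4.Idx Cfsg.Lie.chevF4.Idx F) = Cfsg.Lie.chevF4.x F 47 1 * Cfsg.Lie.chevF4.x F 44 1) (hv : (v : Matrix Cfsg.Lie.chevF4.Idx Cfsg.Lie.chevF4.Idx F) = Cfsg.Lie.chevF4.x F 39 1 * Cfsg.Lie.chevF4.x F 45 1) :
    Cfsg.Lie.chevF4.group F ⊓ Subgroup.centralizer {w} = Cfsg.Lie.chevF4.posUnipotent F ⊔ Cfsg.Lie.chevF4.rootSubgroup F 20 ⊔ Cfsg.Lie.chevF4.rootSubgroup F 22 ∧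
    Cfsg.Lie.chevF4.group F ⊓ Subgroup.centralizer {v} = Cfsg.Lie.chevF4.rootSubgroup F 33 ⊔ Cfsg.Lie.chevF4.rootSubgroup F 14 ⊔ Cfsg.Lie.chevF4.rootSubgroup F 24 ⊔ Cfsg.Lie.chevF4.rootSubgroup F 23 ⊔
      Subgroup.closure {g : GL Cfsg.Lie.chevF4.Idx F | ∃ (r : ℕ) (c : F), Cfsg.Lie.chevF4.IsPosRoot r ∧ r ∉ [27, 25, 34, 26] ∧ (g : Matrix Cfsg.Lie.chevF4.Idx Cfsg.Lie.chevF4.Idx F) = Cfsg.Lie.chevF4.x F r c} := by
  exact ⟨centW w hw, centV v hv⟩

end Cfsg.Agent.S2179
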