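import Cfsg.Statements.S2180
import Cfsg.Agent.Lib.Lie.Chev.CentPair
import Cfsg.Agent.Lib.Lie.Chev.GoodG2
import Cfsg.Agent.Lib.Lie.Chev.CommG2
import Cfsg.Agent.Lib.Lie.Chev.Tw.OrbPlainG2
-- import your own Cfsg.Agent.* helpers here

set_option autoImplicit false
open Cfsg
open CfsgLib.Lie.Chev

namespace Cfsg.Agent.S2180

noncomputable def cG2 : Full Cfsg.Lie.chevG2 := ⟨goodG2, fastG2, rowsOK chkRows_G2, chkComm_G2⟩

abbrev rr (i : ℕ) (h : i < Cfsg.Lie.chevG2.nroots := by decide +kernel) : Fin Cfsg.Lie.chevG2.nroots := ⟨i, h⟩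
abbrev nn (i : ℕ) (h : i < Cfsg.Lie.chevG2.rank := by decide +kernel) : Fin Cfsg.Lie.chevG2.rank := ⟨i, h⟩

noncomputable def XT : CentData Cfsg.Lie.chevG2 where
  T0 := [9]
  A := [9, 10, 11]
  four := [7, 8]
  src := fun _ => 9
  tg := fun r => if r = 7 then 10 else 11
  J := [nn 1]

theorem XT_valid : XT.Valid where
  T0_sub := by decide +kernel
  T0_nodup := by decide +kernel
  A_pos := by decide +kernel
  comm := by decide +kernel
  closed := by decide +kernel
  fixed := by decide +kernel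
  four_pos := by decide +kernel
  moves := by decide +kernel
  tg_inj := by decide +kernel
  J_cart := by decide +kernel
  J_simple := by decide +kernel

theorem cand : allLt enumPlainG2.m (fun k =>
    chkCand Cfsg.Lie.chevG2 fastG2 XT.T0 XT.A XT.four [[], [1]] (enumPlainG2.P.get k)) = true := by
  decide +kernel

theorem prod2 {M : Type*} [CommMonoid M] (g : Fin Cfsg.Lie.chevG2.rank → M) :
    ∏ i, g i = g (nn 0) * g (nn 1) := Fin.prod_univ_two g

theorem centZ {F : Type*} [Field F] [CharP F 2] (z : GL Cfsg.Lie.chevG2.Idx F)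
    (hz : (z : Matrix Cfsg.Lie.chevG2.Idx Cfsg.Lie.chevG2.Idx F) = Cfsg.Lie.chevG2.x F 11 1) :
    Cfsg.Lie.chevG2.group F ⊓ Subgroup.centralizer {z} = Cfsg.Lie.chevG2.posUnipotent F ⊔ Cfsg.Lie.chevG2.rootSubgroup F 4 := by
  rw [cG2.centralizer_single (rr 11) (fun _ => true) [nn 0] (by decide +kernel) (by decide +kernel)
    (by decide +kernel) (by decide +kernel) (by decide +kernel) (t := z) hz, cG2.G.centTop_eq,
    ← cG2.G.sup_rootSubgroups]
  rfl

theorem centT {F : Type*} [Field F] [CharP F 2] (v : GL Cfsg.Lie.chevG2.Idx F)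
    (hv : (v : Matrix Cfsg.Lie.chevG2.Idx Cfsg.Lie.chevG2.Idx F) = Cfsg.Lie.chevG2.x F 9 1) :
    Cfsg.Lie.chevG2.group F ⊓ Subgroup.centralizer {v} = Cfsg.Lie.chevG2.rootSubgroup F 9 ⊔ Cfsg.Lie.chevG2.rootSubgroup F 10 ⊔ Cfsg.Lie.chevG2.rootSubgroup F 11 ⊔ Cfsg.Lie.chevG2.rootSubgroup F 6 ⊔ Cfsg.Lie.chevG2.rootSubgroup F 5 := by
  have e : v = cG2.tX XT := by
    rw [cG2.tX_eq XT_valid, show cG2.fins XT.T0 = [rr 9] by rfl]
    exact cG2.G.eq_tS_single (θ := rr 9) hv
  rw [e, cG2.centralizer_data checksG2 XT_valid [[], [1]] ?_ (by decide +kernel) ?_]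
  · have n1 : (cG2.G.negr (cG2.G.simp' (nn 1))).val = 5 := by
      rw [cG2.G.negr_val, cG2.G.simp_val]; decide +kernel
    have hfix : ∀ r : Fin Cfsg.Lie.chevG2.nroots, r.val ∈ [9, 10, 11, 6] →
        Cfsg.Lie.chevG2.rootSubgroup F r.val ≤ cG2.centGrp (K := F) XT := by
      intro r hr
      rw [cG2.G.rootSubgroup_closure, Subgroup.closure_le]
      rintro g ⟨t, rfl⟩
      refine Subgroup.mem_sup_left (Subgroup.subset_closure ⟨r, t, ?_, rfl⟩)
      revert r; decide +kernel
    refine le_antisymm (sup_le ?_ ?_) (sup_le (sup_le (sup_le (sup_le (hfix (rr 9) (by simp)) (hfix (rr 10) (by simp))) (hfix (rr 11) (by simp))) (hfix (rr 6) (by simp))) ?_)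
    · rw [Full.fixU, Subgroup.closure_le]
      rintro g ⟨r, t, ⟨hr, hr4⟩, rfl⟩
      have hm : r.val = 9 ∨ r.val = 10 ∨ r.val = 11 ∨ r.val = 6 := by revert hr hr4; revert r; decide +kernel
      have := cG2.G.xu_mem_rootSubgroup r t
      rcases hm with e | e | e | e <;> rw [e] at this
      · exact Subgroup.mem_sup_left (Subgroup.mem_sup_left (Subgroup.mem_sup_left (Subgroup.mem_sup_left this)))
      · exact Subgroup.mem_sup_left (Subgroup.mem_sup_left (Subgroup.mem_sup_left (Subgroup.mem_sup_right this)))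
      · exact Subgroup.mem_sup_left (Subgroup.mem_sup_left (Subgroup.mem_sup_right this))
      · exact Subgroup.mem_sup_left (Subgroup.mem_sup_right this)
    · rw [Subgroup.closure_le]
      rintro g ⟨i, hi, t, rfl⟩
      simp only [XT, List.mem_cons, List.not_mem_nil, or_false] at hi
      subst hi
      exact Subgroup.mem_sup_right (n1 ▸ cG2.G.xu_mem_rootSubgroup _ t)
    · rw [← n1, cG2.G.rootSubgroup_closure, Subgroup.closure_le]
      rintro g ⟨t, rfl⟩
      exact Subgroup.mem_sup_right (Subgroup.subset_closure ⟨nn 1, by simp [XT], t, rfl⟩)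
  · intro π hπ
    obtain ⟨k, hk, hP⟩ := exists_tab checksG2 chkOrb_plainG2 (by decide +kernel) chkEnum_plainG2 hπ
    exact ⟨_, allLt_spec cand k hk, hP⟩
  · intro d hd i hi
    have h9 := hd (rr 9) (by decide +kernel)
    rw [prod2, show cart _ (nn 0) (rr 9) = 1 from by decide +kernel, show cart _ (nn 1) (rr 9) = 0 from by decide +kernel] at h9
    simp only [zpow_zero, mul_one, zpow_one] at h9
    have hj : i = nn 0 ∨ i = nn 1 := by revert i; decide +kernel
    rcases hj with rfl | rfl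
    · exact h9
    · exact absurd (by simp [XT]) hi


/-- Centralizers of involutions in the Chevalley group G of type G₂ over a finite field F of characteristic two with at least four elements (this problem's root numbering for type G₂, from the Chevalley data module: a = p₁ short with index 7, b = p₂ long with index 6, −a = 4, −b = 5, 2a + b = 9, 3a + b = 10, 3a + 2b = 11; U generated by the positive root subgroups). For an element z of G with matrix x_{3a+2b}(1): the centralizer of z in G is generated by U and X_{−a}. For an element t of G with matrix x_{2a+b}(1): the centralizer of t in G is generated by X_{2a+b}, X_{3a+b}, X_{3a+2b}, X_b and X_{−b}. -/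
theorem result {F : Type*} [Field F] [Fintype F] [CharP F 2] (hF : 4 ≤ Fintype.card F) (z t : GL Cfsg.Lie.chevG2.Idx F) (hz : (z : Matrix Cfsg.Lie.chevG2.Idx Cfsg.Lie.chevG2.Idx F) = Cfsg.Lie.chevG2.x F 11 1) (ht : (t : Matrix Cfsg.Lie.chevG2.Idx Cfsg.Lie.chevG2.Idx F) = Cfsg.Lie.chevG2.x F 9 1) :
    Cfsg.Lie.chevG2.group F ⊓ Subgroup.centralizer {z} = Cfsg.Lie.chevG2.posUnipotent F ⊔ Cfsg.Lie.chevG2.rootSubgroup F 4 ∧
    Cfsg.Lie.chevG2.group F ⊓ Subgroup.centralizer {t} = Cfsg.Lie.chevG2.rootSubgroup F 9 ⊔ Cfsg.Lie.chevG2.rootSubgroup F 10 ⊔ Cfsg.Lie.chevG2.rootSubgroup F 11 ⊔ Cfsg.Lie.chevG2.rootSubgroup F 6 ⊔ Cfsg.Lie.chevG2.rootSubgroup F 5 := by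
  exact ⟨centZ z hz, centT t ht⟩

end Cfsg.Agent.S2180
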