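import Cfsg.Statements.S2186
import Cfsg.Agent.Lib.Lie.Chev.Pairs
import Cfsg.Agent.Lib.Lie.Chev.GoodG2
import Cfsg.Agent.Lib.Lie.Chev.CommG2
import Cfsg.Agent.Lib.Lie.Chev.GoodD4
import Cfsg.Agent.Lib.Lie.Chev.CommD4
import Cfsg.Agent.Lib.Lie.Chev.GoodE6
import Cfsg.Agent.Lib.Lie.Chev.CommE6
import Cfsg.Agent.Lib.Lie.Chev.GoodE7
import Cfsg.Agent.Lib.Lie.Chev.CommE7
import Cfsg.Agent.Lib.Lie.Chev.GoodE8
import Cfsg.Agent.Lib.Lie.Chev.CommE8
-- import your own Cfsg.Agent.* helpers here

set_option autoImplicit false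
open Cfsg
open CfsgLib.Lie.Chev

namespace Cfsg.Agent.S2186

theorem main {F : Type*} [Field F] [Fintype F] [CharP F 2] {D : Cfsg.Lie.ChevalleyDatum} (C : Full D)
    (h1 : D.nroots - 1 + 1 = D.nroots) (hp : D.IsPosRoot (D.nroots - 1)) (h0 : D.neg (D.nroots - 1) = 0)
    (hchk : ∀ r < D.nroots, r ≠ 0 → canPos D D.nroots (D.nroots - 1) r = true)
    (g : GL D.Idx F) (hg : g ∈ D.group F) :
    IsPGroup 2 ↥(D.rootSubgroup F (D.nroots - 1) ⊔ (D.rootSubgroup F (D.nroots - 1)).map (MulAut.conj g).toMonoidHom) ∨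
    ∃ h ∈ D.group F, (D.rootSubgroup F (D.nroots - 1) ⊔ (D.rootSubgroup F (D.nroots - 1)).map (MulAut.conj g).toMonoidHom).map (MulAut.conj h).toMonoidHom = D.rootSubgroup F (D.nroots - 1) ⊔ D.rootSubgroup F 0 := by
  have e : (C.G.negr ⟨D.nroots - 1, by omega⟩).val = 0 := by rw [C.G.negr_val]; exact h0
  have h := C.root_pair (K := F) (θ := ⟨D.nroots - 1, by omega⟩) h1 hp
    (fun r hr => hchk r.val r.isLt fun er => hr (Fin.ext (er.trans e.symm))) hg
  rw [e] at h
  exact h


/-- Let G be the Chevalley group of type G₂ (over a field with at least four elements), D₄, E₆, E₇ or E₈ over a finite field F of characteristic two, and let X be the root subgroup of the highest root (the last root index) — a long root subgroup, of order |F|. For every g in G, the subgroup generated by X and its conjugate g X g⁻¹ is either a 2-group or is conjugate by an element of G to the subgroup generated by X and the root subgroup of the lowest root (index 0, the negative of the highest root), which is a copy of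 SL₂(F). -/
theorem result {F : Type*} [Field F] [Fintype F] [CharP F 2] (D : Cfsg.Lie.ChevalleyDatum) (hD : D ∈ [Cfsg.Lie.chevG2, Cfsg.Lie.chevD4, Cfsg.Lie.chevE6, Cfsg.Lie.chevE7, Cfsg.Lie.chevE8]) (hF : D = Cfsg.Lie.chevG2 → 4 ≤ Fintype.card F) (g : GL D.Idx F) (hg : g ∈ D.group F) :
    IsPGroup 2 ↥(D.rootSubgroup F (D.nroots - 1) ⊔ (D.rootSubgroup F (D.nroots - 1)).map (MulAut.conj g).toMonoidHom) ∨
    ∃ h ∈ D.group F, (D.rootSubgroup F (D.nroots - 1) ⊔ (D.rootSubgroup F (D.nroots - 1)).map (MulAut.conj g).toMonoidHom).map (MulAut.conj h).toMonoidHom = D.rootSubgroup F (D.nroots - 1) ⊔ D.rootSubgroup F 0 := by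
  simp only [List.mem_cons, List.not_mem_nil, or_false] at hD
  rcases hD with rfl | rfl | rfl | rfl | rfl
  · exact main ⟨goodG2, fastG2, rowsOK chkRows_G2, chkComm_G2⟩ (by decide +kernel) (by decide +kernel)
      (by decide +kernel) (by decide +kernel) g hg
  · exact main ⟨goodD4, fastD4, rowsOK chkRows_D4, chkComm_D4⟩ (by decide +kernel) (by decide +kernel)
      (by decide +kernel) (by decide +kernel) g hg
  · exact main ⟨goodE6, fastE6, rowsOK chkRows_E6, chkComm_E6⟩ (by decide +kernel) (by decide +kernel)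
      (by decide +kernel) (by decide +kernel) g hg
  · exact main ⟨goodE7, fastE7, rowsOK chkRows_E7, chkComm_E7⟩ (by decide +kernel) (by decide +kernel)
      (by decide +kernel) (by decide +kernel) g hg
  · exact main ⟨goodE8, fastE8, rowsOK chkRows_E8, chkComm_E8⟩ (by decide +kernel) (by decide +kernel)
      (by decide +kernel) (by decide +kernel) g hg

end Cfsg.Agent.S2186
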