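import Cfsg.Statements.S2189
import Cfsg.Agent.Lib.Lie.Chev.Sub.Finite

set_option autoImplicit false
open Cfsg

namespace Cfsg.Agent.S2189

/-- Finite subgroups of an adjoint Chevalley group over an algebraically closed field that contain the group over a finite subfield. Let k be an algebraically closed field of prime characteristic p, G the Chevalley group of type G₂, B₂, D₄, F₄, E₆, E₇ or E₈ over k (the matrix group generated by the root elements x_s(t), t ∈ k), and q = p^a with a ≥ 1. Let L be the subgroup generated by the root elements x_s(t) with t^q = t (the Chevalley group over the field of q elements inside G), and let M be a finite subgroup of G containing L. Then for some r ≥ 1, M contains every root element x_s(t) with t^(q^r) = t and every element of M is a matrix all of whose entries c satisfy c^(q^r) = c (so M lies between the Chevalley group over the field with q^r elements and the group of points of G fixed by the q^r-th power map). -/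
theorem result {k : Type*} [Field k] [IsAlgClosed k] (p : ℕ) [Fact p.Prime] [CharP k p] (D : Cfsg.Lie.ChevalleyDatum) (hD : D ∈ [Cfsg.Lie.chevG2, Cfsg.Lie.chevB2, Cfsg.Lie.chevD4, Cfsg.Lie.chevF4, Cfsg.Lie.chevE6, Cfsg.Lie.chevE7, Cfsg.Lie.chevE8]) (a : ℕ) (ha : 1 ≤ a) (M : Subgroup (GL D.Idx k)) (hMfin : Finite ↥M) (hMG : M ≤ D.group k)
    (hLM : Subgroup.closure {g : GL D.Idx k | ∃ (s : ℕ) (t : k), t ^ (p ^ a) = t ∧ (g : Matrix D.Idx D.Idx k) = D.x k s t} ≤ M) :
    ∃ r : ℕ, 1 ≤ r ∧ Subgroup.closure {g : GL D.Idx k | ∃ (s : ℕ) (t : k), t ^ ((p ^ a) ^ r) = t ∧ (g : Matrix D.Idx D.Idx k) = D.x k s t} ≤ M ∧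
      ∀ g ∈ M, ∀ i j : D.Idx, ((g : Matrix D.Idx D.Idx k) i j) ^ ((p ^ a) ^ r) = (g : Matrix D.Idx D.Idx k) i j := by
  classical
  haveI : Finite ↥M := hMfin
  obtain ⟨C⟩ := CfsgLib.Lie.Chev.nonempty_full hD
  set q := p ^ a with hq
  have hq1 : 1 < q := Nat.one_lt_pow (by omega) (Fact.out : p.Prime).one_lt
  -- the field map of `q`
  have hσ : ∀ n (t : k), iterateFrobenius k p n t = t ^ p ^ n := fun n t => iterateFrobenius_def p n t
  have O : CfsgLib.Lie.Chev.Sub.Over C (iterateFrobenius k p a) M := by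
    refine ⟨hMG, ?_⟩
    rw [CfsgLib.Lie.Chev.Lfix, Subgroup.closure_le]
    rintro g ⟨r, t, ht, rfl⟩
    refine hLM (Subgroup.subset_closure ⟨r.val, t, ?_, ?_⟩)
    · rw [← hσ]; exact ht
    · exact (C.G.x_eq_xu r t).symm
  obtain ⟨⟨E, hE⟩, hfixed⟩ := CfsgLib.Lie.Chev.Sub.field_and_checks p hD C (iterateFrobenius k p a) M O
  have hr0 : 0 < D.nroots := by
    simp only [List.mem_cons, List.not_mem_nil, or_false] at hD
    rcases hD with rfl | rfl | rfl | rfl | rfl | rfl | rfl <;> decide
  set r₀ : Fin D.nroots := ⟨0, hr0⟩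
  haveI hEf : Finite ↥E :=
    ((CfsgLib.Lie.Chev.Sub.param_finite (C := C) (M := M) r₀).subset fun t ht => (hE r₀ t).2 ht).to_subtype
  set F₀ := (iterateFrobenius k p a).eqLocusField (RingHom.id k)
  have hF₀mem : ∀ t, t ∈ F₀ ↔ t ^ q = t := fun t => by
    show iterateFrobenius k p a t = RingHom.id k t ↔ _
    rw [hσ]; rfl
  have hle : F₀ ≤ E := fun t ht => (hE r₀ t).1 (O.xu_mem ht)
  haveI : Finite ↥F₀ :=
    Finite.of_injective (Subfield.inclusion hle) (Subfield.inclusion hle).injective
  have hcF : Nat.card ↥F₀ = q := by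
    have h1 : Fintype.card ((Polynomial.X ^ q - Polynomial.X : Polynomial k).rootSet k) = q := by
      rw [Polynomial.card_rootSet_eq_natDegree (galois_poly_separable p _ (hq ▸ dvd_pow_self p (by omega)))
        (IsAlgClosed.splits _), FiniteField.X_pow_card_sub_X_natDegree_eq k hq1]
    rw [← h1, ← Nat.card_eq_fintype_card]
    refine Nat.card_congr (Equiv.subtypeEquivRight fun t => ?_)
    rw [hF₀mem, Polynomial.mem_rootSet_of_ne (FiniteField.X_pow_card_sub_X_ne_zero k hq1)]
    simp [sub_eq_zero]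
  letI : Algebra ↥F₀ ↥E := (Subfield.inclusion hle).toAlgebra
  set r := Module.finrank ↥F₀ ↥E
  have hcE : Nat.card ↥E = q ^ r := hcF ▸ Module.natCard_eq_pow_finrank
  have hr : 1 ≤ r := Module.finrank_pos
  have hqr : 1 < q ^ r := Nat.one_lt_pow (by omega) hq1
  have hEmem : ∀ t, t ∈ E ↔ t ^ q ^ r = t := by
    have h1 : ∀ t ∈ E, t ^ q ^ r = t := fun t ht => by
      haveI := Fintype.ofFinite ↥E
      have := congrArg Subtype.val (FiniteField.pow_card (⟨t, ht⟩ : ↥E))
      rw [← Nat.card_eq_fintype_card, hcE, SubmonoidClass.coe_pow] at this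
      exact this
    refine fun t => ⟨h1 t, fun ht => ?_⟩
    set P : Polynomial k := Polynomial.X ^ q ^ r - Polynomial.X
    have hP : P ≠ 0 := FiniteField.X_pow_card_sub_X_ne_zero k hqr
    have hsub : (E : Set k) ⊆ P.rootSet k := fun x hx => by
      rw [Polynomial.mem_rootSet_of_ne hP]
      simp [P, sub_eq_zero, h1 x hx]
    have hcard : (P.rootSet k).ncard ≤ (E : Set k).ncard := by
      rw [← Nat.card_coe_set_eq (E : Set k)]
      show _ ≤ Nat.card ↥E
      rw [hcE]
      exact (Polynomial.ncard_rootSet_le P k).trans (FiniteField.X_pow_card_sub_X_natDegree_eq k hqr).le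
    have := Set.eq_of_subset_of_ncard_le hsub hcard (Polynomial.rootSet_finite P k)
    show t ∈ (E : Set k)
    rw [this, Polynomial.mem_rootSet_of_ne hP]
    simp [P, sub_eq_zero, ht]
  have hσr : ∀ t : k, iterateFrobenius k p (a * r) t = t ^ q ^ r := fun t => by rw [hσ, pow_mul]
  refine ⟨r, hr, ?_, ?_⟩
  · rw [Subgroup.closure_le]
    rintro g ⟨s, t, ht, hg⟩
    by_cases hs : s < D.nroots
    · rw [show g = C.G.xu ⟨s, hs⟩ t from Units.ext (hg.trans (C.G.x_eq_xu ⟨s, hs⟩ t))]
      exact (hE _ t).2 ((hEmem t).2 ht)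
    · rw [show g = 1 from Units.ext (hg.trans (by rw [Cfsg.Lie.ChevalleyDatum.x, dif_neg hs]; rfl))]
      exact one_mem M
  · have O' : CfsgLib.Lie.Chev.Sub.Over C (iterateFrobenius k p (a * r)) M := by
      refine ⟨hMG, ?_⟩
      rw [CfsgLib.Lie.Chev.Lfix, Subgroup.closure_le]
      rintro g ⟨s, t, ht, rfl⟩
      exact (hE s t).2 ((hEmem t).2 (by rw [← hσr]; exact ht))
    have hfin : {t : k | iterateFrobenius k p (a * r) t = t}.Finite :=
      (Set.toFinite (E : Set k)).subset fun t ht => (hEmem t).2 (by rw [← hσr]; exact ht)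
    intro g hg i j
    have h := hfixed _ O' hfin (fun s t h => by rw [hσr]; exact (hEmem t).1 ((hE s t).1 h)) g hg
    have h' := congrFun (congrFun (congrArg (fun u : GL D.Idx k => (u : Matrix D.Idx D.Idx k)) h) i) j
    rwa [CfsgLib.Lie.Chev.coe_fmap, Matrix.map_apply, hσr] at h' 

end Cfsg.Agent.S2189
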