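import Cfsg.Statements.S2190
import Cfsg.Agent.Lib.Lie.Chev.Sub.Main
-- import your own Cfsg.Agent.* helpers here

set_option autoImplicit false
open Cfsg

namespace Cfsg.Agent.S2190

/-- Subfield subgroups of prime degree are maximal. Let K be a finite field with q^r elements, r a prime, q a power of the characteristic, and G the Chevalley group of type G₂, B₂, D₄, F₄, E₆, E₇ or E₈ over K (the matrix group generated by the root elements). Let M be the subgroup of G consisting of the matrices all of whose entries lie in the subfield with q elements (entries c with c^q = c). Then M is a proper subgroup of G and is maximal: every subgroup of G containing M is M or G. -/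
theorem result {K : Type*} [Field K] [Fintype K] (p : ℕ) [Fact p.Prime] [CharP K p] (D : Cfsg.Lie.ChevalleyDatum) (hD : D ∈ [Cfsg.Lie.chevG2, Cfsg.Lie.chevB2, Cfsg.Lie.chevD4, Cfsg.Lie.chevF4, Cfsg.Lie.chevE6, Cfsg.Lie.chevE7, Cfsg.Lie.chevE8]) (a r : ℕ) (ha : 1 ≤ a) (hr : r.Prime) (hK : Fintype.card K = (p ^ a) ^ r) (M : Subgroup (GL D.Idx K))
    (hM : ∀ g : GL D.Idx K, g ∈ M ↔ g ∈ D.group K ∧ ∀ i j : D.Idx, ((g : Matrix D.Idx D.Idx K) i j) ^ (p ^ a) = (g : Matrix D.Idx D.Idx K) i j) :
    M ≠ D.group K ∧ ∀ H : Subgroup (GL D.Idx K), M ≤ H → H ≤ D.group K → H = M ∨ H = D.group K := by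
  classical
  obtain ⟨hmax, t, ht⟩ := CfsgLib.Lie.Chev.Sub.maximal_fixed_field p ha hr hK
  have hMfix : ∀ g : GL D.Idx K, g ∈ M ↔ g ∈ D.group K ∧
      CfsgLib.Lie.Chev.fmap D (iterateFrobenius K p a) g = g := by
    intro g
    rw [hM g]
    refine and_congr_right fun _ => ⟨fun h => Units.ext ?_, fun h i j => ?_⟩
    · ext i j
      rw [CfsgLib.Lie.Chev.coe_fmap, Matrix.map_apply, iterateFrobenius_def]
      exact h i j
    · have := congrFun (congrFun (congrArg (fun u : GL D.Idx K => (u : Matrix D.Idx D.Idx K)) h) i) j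
      rwa [CfsgLib.Lie.Chev.coe_fmap, Matrix.map_apply, iterateFrobenius_def] at this
  obtain ⟨C⟩ := CfsgLib.Lie.Chev.nonempty_full hD
  refine ⟨fun e => ht ?_, fun H hMH hH => ?_⟩
  · have hr0 : 0 < D.nroots := by
      simp only [List.mem_cons, List.not_mem_nil, or_false] at hD
      rcases hD with rfl | rfl | rfl | rfl | rfl | rfl | rfl <;> decide
    have := ((hMfix (C.G.xu ⟨0, hr0⟩ t)).1 (e ▸ C.G.xu_mem _ t)).2
    rw [C.G.fmap_xu] at this
    exact C.G.xu_injective _ this
  · rcases CfsgLib.Lie.Chev.Sub.fixed_or_top p hD (iterateFrobenius K p a) hmax hH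
        (fun g hg hσ => hMH ((hMfix g).2 ⟨hg, hσ⟩)) with h | h
    · exact Or.inl (le_antisymm (fun g hg => (hMfix g).2 ⟨hH hg, h g hg⟩) hMH)
    · exact Or.inr h

end Cfsg.Agent.S2190
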