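import Cfsg.Statements.S2197
import Cfsg.Agent.Lib.Lie.TitsTwoTrans.Five
import Cfsg.Agent.Lib.Lie.TitsTwoTrans.Two
import Cfsg.Agent.Lib.Lie.TitsTwoTrans.Perm

set_option autoImplicit false
open Cfsg

namespace Cfsg.Agent.S2197



/-- The Tits group (the commutator subgroup of ²F₄(2)) has no faithful 2-transitive action on a finite set with more than two points. -/
theorem result {Ω : Type*} [Fintype Ω] [MulAction Cfsg.Lie.TitsGroup Ω] [FaithfulSMul Cfsg.Lie.TitsGroup Ω] (hΩ : 3 ≤ Fintype.card Ω) :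
    ¬ MulAction.IsMultiplyPretransitive Cfsg.Lie.TitsGroup Ω 2 := by
  haveI : IsSimpleGroup Cfsg.Lie.TitsGroup := CfsgLib.Lie.Chev.Tits.main.2.1
  haveI : Finite Cfsg.Lie.TitsGroup := CfsgLib.Lie.MultExc.Tits.finite_TG
  obtain ⟨P, a, g, hP, hg, hg3, hgP, hconj⟩ := CfsgLib.Lie.TitsTwoTrans.five_facts
  obtain ⟨L, z, hL, hz, hzc⟩ := CfsgLib.Lie.TitsTwoTrans.two_facts
  exact CfsgLib.Lie.TitsTwoTrans.not_two_trans CfsgLib.Lie.MultExc.Tits.card_TG hΩ P a g hP hg hg3 hgP hconj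
    L z hL hz hzc

end Cfsg.Agent.S2197
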