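import Cfsg.Statements.S2209
import Cfsg.Agent.Lib.Lie.Chev.Cent
import Cfsg.Agent.Lib.Lie.Chev.GoodE6
import Cfsg.Agent.Lib.Lie.Chev.CommE6
import Cfsg.Agent.Lib.Lie.Chev.GoodE7
import Cfsg.Agent.Lib.Lie.Chev.CommE7
import Cfsg.Agent.Lib.Lie.Chev.GoodE8
import Cfsg.Agent.Lib.Lie.Chev.CommE8
-- import your own Cfsg.Agent.* helpers here

set_option autoImplicit false
open Cfsg
open CfsgLib.Lie.Chev

namespace Cfsg.Agent.S2209

theorem main {F : Type*} [Field F] [CharP F 2] {D : Cfsg.Lie.ChevalleyDatum} (C : Full D)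
    (top : Fin D.nroots) (J : List (Fin D.rank)) (L : List ℕ)
    (h0 : top.val = D.nroots - 1)
    (hθ : D.IsPosRoot top.val) (hev : EvenTerms D top.val)
    (htop : IsTop D top.val (fun _ => true))
    (hJ : ∀ i, i ∈ J ↔ cart D i top = 0)
    (hout : ∀ i, i ∉ J → cart D i top = 1 ∧ ∀ j, j ∉ J → j ≠ i → cart D j top = 0)
    (hL : ∀ s, s ∈ L ↔ s ∈ J.map fun i => D.neg (D.simple i.val))
    (t : GL D.Idx F) (ht : (t : Matrix D.Idx D.Idx F) = D.x F (D.nroots - 1) 1) :
    D.group F ⊓ Subgroup.centralizer {t} = D.posUnipotent F ⊔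
      Subgroup.closure {g : GL D.Idx F | ∃ s ∈ L, ∃ c : F, (g : Matrix D.Idx D.Idx F) = D.x F s c} := by
  rw [← h0] at ht
  rw [C.centralizer_single top _ J hθ hev htop hJ hout ht, C.G.centTop_eq]
  simp_rw [hL]


/-- Centralizer of a long root involution in the Chevalley groups of type E₆, E₇, E₈ over a finite field F of characteristic two. Let G be the group generated by the root elements, U the subgroup generated by the positive root subgroups, r the highest root (the last root index: 71, 125, 239 respectively), and t the element of G with matrix x_r(1). Then the centralizer of t in G is the subgroup generated by U together with the root subgroups X_{−p} for the fundamental roots p orthogonal to r — all fundamental roots except p₂ for E₆, except p₁ for E₇, except p₈ for E₈ (numbering with p₁–p₃–p₄–…–p_l the long chain and p₂ joined to p₄); the indices of these negative fundamental roots are 15, 29, 32, 34, 35 (E₆), 47, 52, 56, 59, 61, 62 (E₇), 77, 98, 104, 109, 113, 116, 118 (E₈). (This is the unipotent radical of the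 corresponding maximal parabolic subgroup extended by the root subgroups of its Levi factor, of type A₅, D₆, E₇ respectively.) -/
theorem result {F : Type*} [Field F] [Fintype F] [CharP F 2] (d : Cfsg.Lie.ChevalleyDatum × List ℕ)
    (hd : d ∈ [(Cfsg.Lie.chevE6, [15, 29, 32, 34, 35]), (Cfsg.Lie.chevE7, [47, 52, 56, 59, 61, 62]), (Cfsg.Lie.chevE8, [77, 98, 104, 109, 113, 116, 118])])
    (t : GL d.1.Idx F) (ht : (t : Matrix d.1.Idx d.1.Idx F) = d.1.x F (d.1.nroots - 1) 1) :
    d.1.group F ⊓ Subgroup.centralizer {t} = d.1.posUnipotent F ⊔ Subgroup.closure {g : GL d.1.Idx F | ∃ s ∈ d.2, ∃ c : F, (g : Matrix d.1.Idx d.1.Idx F) = d.1.x F s c} := by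
  simp only [List.mem_cons, List.not_mem_nil, or_false] at hd
  rcases hd with rfl | rfl | rfl
  · exact main ⟨goodE6, fastE6, rowsOK chkRows_E6, chkComm_E6⟩ ⟨Cfsg.Lie.chevE6.nroots - 1, by decide +kernel⟩
      ((List.finRange _).filter fun i => decide (cart _ i ⟨Cfsg.Lie.chevE6.nroots - 1, by decide +kernel⟩ = 0))
      _ rfl (by decide +kernel) (by decide +kernel) (by decide +kernel) (by simp) (by decide +kernel)
      (fun s => List.Perm.mem_iff (by decide +kernel)) t ht
  · exact main ⟨goodE7, fastE7, rowsOK chkRows_E7, chkComm_E7⟩ ⟨Cfsg.Lie.chevE7.nroots - 1, by decide +kernel⟩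
      ((List.finRange _).filter fun i => decide (cart _ i ⟨Cfsg.Lie.chevE7.nroots - 1, by decide +kernel⟩ = 0))
      _ rfl (by decide +kernel) (by decide +kernel) (by decide +kernel) (by simp) (by decide +kernel)
      (fun s => List.Perm.mem_iff (by decide +kernel)) t ht
  · exact main ⟨goodE8, fastE8, rowsOK chkRows_E8, chkComm_E8⟩ ⟨Cfsg.Lie.chevE8.nroots - 1, by decide +kernel⟩
      ((List.finRange _).filter fun i => decide (cart _ i ⟨Cfsg.Lie.chevE8.nroots - 1, by decide +kernel⟩ = 0))
      _ rfl (by decide +kernel) (by decide +kernel) (by decide +kernel) (by simp) (by decide +kernel)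
      (fun s => List.Perm.mem_iff (by decide +kernel)) t ht

end Cfsg.Agent.S2209
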