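import Cfsg.Statements.S2212
import Cfsg.Agent.Lib.SU.InvolCentThree.Recognition

set_option autoImplicit false
open Cfsg

namespace Cfsg.Agent.S2212

/-- Characterization of the three-dimensional projective unitary groups over finite fields of characteristic two by the centralizer of an involution. Let q = 2^n > 2 and let PGU₃(q) be the quotient of the full unitary group of a non-degenerate Hermitian form in three variables over the field with q² elements by its centre. Let G be a finite group of even order in which all involutions are conjugate, the centralizer of an involution is isomorphic to the centralizer of an involution in PGU₃(q), and a Sylow 2-subgroup is not normal. Then G ≅ PGU₃(q). -/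
theorem result {G : Type*} [Group G] [Finite G] {F : Type*} [Field F] [Fintype F] [CharP F 2] (q : ℕ) (hq : 2 < q) (hF : Fintype.card F = q ^ 2)
    (heven : Even (Nat.card G)) (hconj : ∀ s t : G, orderOf s = 2 → orderOf t = 2 → IsConj s t)
    (hC : ∀ (x : G) (y : (↥(Cfsg.GU 3 F q) ⧸ Subgroup.center ↥(Cfsg.GU 3 F q))), orderOf x = 2 → orderOf y = 2 →
      Nonempty (↥(Subgroup.centralizer ({x} : Set G)) ≃* ↥(Subgroup.centralizer ({y} : Set (↥(Cfsg.GU 3 F q) ⧸ Subgroup.center ↥(Cfsg.GU 3 F q))))))
    (hS : ∀ P : Sylow 2 G, ¬ (P : Subgroup G).Normal) :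
    Nonempty (G ≃* (↥(Cfsg.GU 3 F q) ⧸ Subgroup.center ↥(Cfsg.GU 3 F q))) := by
  obtain ⟨C⟩ := CfsgLib.Classical.uctx_exists hF
  have hiso : ∀ (P : CfsgLib.SU.UPair C 3) (x : G), orderOf x = 2 →
      Nonempty (↥(Subgroup.centralizer ({x} : Set G)) ≃* ↥(CfsgLib.SU.CentThree.cent P)) := by
    intro P x hx
    obtain ⟨y, hy, ⟨e⟩⟩ := CfsgLib.SU.CentThree.exists_involution C P
    obtain ⟨d⟩ := hC x y hx hy
    exact ⟨d.trans e⟩
  obtain ⟨P⟩ := C.exists_pair (n := 3) (by norm_num)
  have h : CfsgLib.SU.CentThree.Hyp q G := by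
    refine ⟨fun x hx => ?_, fun x y hx hy => ?_, hconj, hS, ?_⟩
    · obtain ⟨e⟩ := hiso P x hx
      exact CfsgLib.SU.CentThree.exists_nbhd P hF hq hx e
    · obtain ⟨e⟩ := hiso P x hx
      obtain ⟨d⟩ := hiso P y hy
      exact Nat.card_congr (e.trans d.symm).toEquiv
    · haveI : Fact (Nat.Prime 2) := ⟨Nat.prime_two⟩
      exact exists_prime_orderOf_dvd_card' 2 (even_iff_two_dvd.1 heven)
  obtain ⟨e⟩ := CfsgLib.SU.CentThree.recognition C hF hq h hiso
  exact ⟨e.trans ((MulEquiv.subgroupCongr (CfsgLib.SU.CentThree.range_embed C).symm).trans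
    (MonoidHom.ofInjective (CfsgLib.SU.CentThree.embed_injective C)).symm)⟩

end Cfsg.Agent.S2212
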