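import Cfsg.Statements.S2222
-- import your own Cfsg.Agent.* helpers here
import Mathlib
import Cfsg.Agent.Lib.Perm.SylowTwoSelfNorm.Alt

set_option autoImplicit false
set_option linter.all false
open Cfsg

namespace Cfsg.Agent.S2222

/-- In the alternating group of degree n ≥ 5 every subgroup H of odd index is pronormal: for every element g, the subgroups H and gHg⁻¹ are conjugate by an element of the subgroup they generate. -/
theorem result (n : ℕ) (hn : 5 ≤ n)
    (H : Subgroup (alternatingGroup (Fin n))) (hH : Odd H.index) : Cfsg.IsPronormal H := by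
  classical
  haveI : Fact (Nat.Prime 2) := ⟨Nat.prime_two⟩
  intro g
  set K := H ⊔ H.map (MulAut.conj g).toMonoidHom with hK
  by_cases hmax : H.index.Prime ∨ H.index = 1
  · have hd : K.index ∣ H.index := Subgroup.index_dvd_of_le (by rw [hK]; exact le_sup_left)
    have htop : K.index = 1 ∨ K.index = H.index := by
      rcases hmax with h | h
      · exact (Nat.dvd_prime h).mp hd
      · exact Or.inl (Nat.dvd_one.mp (h ▸ hd))
    rcases htop with h | h
    · exact ⟨g, by rw [Subgroup.index_eq_one.mp h]; trivial, rfl⟩
    · have hle : H ≤ K := by rw [hK]; exact le_sup_left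
      have hrel : H.relIndex K = 1 := by
        have := Subgroup.relIndex_mul_index hle
        rw [h] at this
        exact Nat.eq_of_mul_eq_mul_right (Nat.pos_of_ne_zero H.index_ne_zero_of_finite)
          (by rw [this, one_mul])
      have heq : K = H := le_antisymm (Subgroup.relIndex_eq_one.mp hrel) hle
      refine ⟨1, K.one_mem, ?_⟩
      have hle2 : H.map (MulAut.conj g).toMonoidHom ≤ H := by
        refine le_trans ?_ (le_of_eq heq)
        rw [hK]
        exact le_sup_right
      rw [map_one]
      refine (Subgroup.eq_of_le_of_card_ge hle2 (le_of_eq ?_)).trans (Subgroup.map_id H).symm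
      exact Nat.card_congr (H.equivMapOfInjective _ (MulAut.conj g).injective).toEquiv
  -- a Sylow 2-subgroup of the whole group inside H
  obtain ⟨R, hR⟩ : ∃ R : Sylow 2 (alternatingGroup (Fin n)), (R : Subgroup _) ≤ H := by
    obtain ⟨Q⟩ := (inferInstance : Nonempty (Sylow 2 H))
    obtain ⟨R, hR⟩ := (Q.2.map H.subtype).exists_le_sylow
    refine ⟨R, le_of_eq_of_le ?_ (Subgroup.map_subtype_le (Q : Subgroup H))⟩
    refine (Subgroup.eq_of_le_of_card_ge hR ?_).symm
    rw [Subgroup.card_map_of_injective H.subtype_injective, R.card_eq_multiplicity,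
      Q.card_eq_multiplicity, ← H.card_mul_index,
      Nat.factorization_mul Nat.card_pos.ne' H.index_ne_zero_of_finite, Finsupp.add_apply,
      Nat.factorization_eq_zero_of_not_dvd hH.not_two_dvd_nat, add_zero]
  have hRK : (R : Subgroup _) ≤ K := hR.trans (by rw [hK]; exact le_sup_left)
  have hgRK : ((g • R : Sylow 2 _) : Subgroup (alternatingGroup (Fin n))) ≤ K := by
    rw [Sylow.coe_subgroup_smul, hK]
    exact le_trans (Subgroup.map_mono hR) le_sup_right
  obtain ⟨k, hk⟩ := MulAction.exists_smul_eq K (R.subtype hRK) ((g • R).subtype hgRK)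
  rw [Sylow.smul_subtype] at hk
  have hk' := Sylow.subtype_injective hk
  have hn' : ((k : alternatingGroup (Fin n))⁻¹ * g) • R = R := by
    rw [mul_smul, ← hk']
    exact inv_smul_smul (k : alternatingGroup (Fin n)) R
  refine ⟨k, k.2, ?_⟩
  have hfix : H.map (MulAut.conj ((k : alternatingGroup (Fin n))⁻¹ * g)).toMonoidHom = H := by
    by_cases h6 : 6 ≤ n
    · have hm := Sylow.smul_eq_iff_mem_normalizer.mp hn'
      have hN := CfsgLib.SylTwoSelf.normalizer_alt_eq (α := Fin n) (by simpa using h6) R
      replace hm := hN.le hm
      exact Subgroup.mem_normalizer_iff_map_conj_eq.mp (Subgroup.le_normalizer (hR hm))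
    · obtain rfl : n = 5 := by omega
      have hc : Nat.card (alternatingGroup (Fin 5)) = 60 := by
        rw [Nat.card_eq_fintype_card, card_alternatingGroup, Fintype.card_fin]
        rfl
      have hdvd : H.index ∣ 60 := hc ▸ H.index_dvd_card
      have h15 : H.index = 15 := by
        have hle : H.index ≤ 60 := Nat.le_of_dvd (by norm_num) hdvd
        have key : ∀ d : ℕ, d ≤ 60 → d ∣ 60 → d % 2 = 1 →
            d = 1 ∨ d = 3 ∨ d = 5 ∨ d = 15 := by decide
        rcases key _ hle hdvd (Nat.odd_iff.mp hH) with h | h | h | h
        · exact absurd (Or.inr h) hmax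
        · exact absurd (Or.inl (by rw [h]; norm_num)) hmax
        · exact absurd (Or.inl (by rw [h]; norm_num)) hmax
        · exact h
      have hH4 : Nat.card H = 4 := by
        have := H.card_mul_index
        rw [h15, hc] at this
        omega
      have hR4 : H = (R : Subgroup _) :=
        (R.3 (IsPGroup.of_card (n := 2) (by rw [hH4]; norm_num)) hR)
      rw [hR4]
      have := congrArg (fun S : Sylow 2 _ => (S : Subgroup (alternatingGroup (Fin 5)))) hn'
      simp only [Sylow.coe_subgroup_smul] at this
      exact this
  conv_rhs => rw [← hfix, Subgroup.map_map]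
  congr 1
  ext x
  simp [mul_assoc]

end Cfsg.Agent.S2222
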