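import Cfsg.Statements.S2225
import Cfsg.Agent.Lib.Pronormal.OverSL
import Cfsg.Agent.Lib.Pronormal.SLTwoPower
-- import your own Cfsg.Agent.* helpers here

set_option autoImplicit false
open Cfsg

namespace Cfsg.Agent.S2225

/-- Let F be a finite field and d = 2^w ≥ 2 a power of 2 such that PSL_d(F) is simple. Then every subgroup H of PSL_d(F) of odd index is pronormal: for every g, H and gHg⁻¹ are conjugate by an element of the subgroup they generate. -/
theorem result {F : Type*} [Field F] [Fintype F]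
    (w : ℕ) (hw : 1 ≤ w) (hs : IsSimpleGroup (Matrix.ProjectiveSpecialLinearGroup (Fin (2 ^ w)) F))
    (H : Subgroup (Matrix.ProjectiveSpecialLinearGroup (Fin (2 ^ w)) F)) (hH : Odd H.index) : Cfsg.IsPronormal H := by
  classical
  have hH2 : ¬ 2 ∣ H.index := fun h => Nat.not_odd_iff_even.2 (even_iff_two_dvd.2 h) hH
  obtain ⟨v, rfl⟩ : ∃ v, w = v + 1 := ⟨w - 1, by omega⟩
  haveI : NeZero (2 ^ (v + 1)) := ⟨by positivity⟩
  obtain ⟨p, hp⟩ := CharP.exists F
  haveI : Fact p.Prime := ⟨CharP.char_is_prime F p⟩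
  rcases eq_or_ne p 2 with rfl | hp2
  · exact CfsgLib.Pronormal.SL.psl_pronormal 2 hH2
  have hF : Odd (Fintype.card F) := by
    obtain ⟨a, -, ha⟩ := FiniteField.card F p
    rw [ha]
    exact ((Fact.out : p.Prime).odd_of_ne_two hp2).pow
  rcases Nat.eq_zero_or_pos v with rfl | hv
  swap
  · exact CfsgLib.Pronormal.TwoPower.psl_pronormal_four hF v hv hH2
  haveI : Fact (Nat.Prime 2) := ⟨Nat.prime_two⟩
  by_cases h17 : Fintype.card F % 8 = 1 ∨ Fintype.card F % 8 = 7
  · obtain ⟨Q⟩ : Nonempty (Sylow 2 (Matrix.SpecialLinearGroup (Fin 2) F)) := Sylow.nonempty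
    exact CfsgLib.Pronormal.TwoPower.pronormal_of_self_normalizing (n := 2) (Q : Subgroup _) Q.2
      ((CfsgLib.Classical.SL2TwoNormalizer.main hF Q).2.1 h17).le hH2
  · refine CfsgLib.Pronormal.TwoPower.psl_two_pronormal_four_group p hF ?_ hH2
    have := Nat.odd_iff.1 hF
    omega

end Cfsg.Agent.S2225
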