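import Cfsg.Statements.S2226
import Cfsg.Agent.Lib.Pronormal.OverSU
import Cfsg.Agent.Lib.Pronormal.SUTwoPower
-- import your own Cfsg.Agent.* helpers here

set_option autoImplicit false
open Cfsg

namespace Cfsg.Agent.S2226

/-- Let F be a finite field with q² elements and d = 2^w ≥ 4 a power of 2 such that the unitary group PSU_d(q) (realised over F) is simple. Then every subgroup H of PSU_d(q) of odd index is pronormal: for every g, H and gHg⁻¹ are conjugate by an element of the subgroup they generate. -/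
theorem result {F : Type*} [Field F] [Fintype F] (q : ℕ)
    (hF : Fintype.card F = q ^ 2) (w : ℕ) (hw : 2 ≤ w) (hs : IsSimpleGroup (Cfsg.PSU (2 ^ w) F q))
    (H : Subgroup (Cfsg.PSU (2 ^ w) F q)) (hH : Odd H.index) : Cfsg.IsPronormal H := by
  classical
  have hH2 : ¬ 2 ∣ H.index := fun h => Nat.not_odd_iff_even.2 (even_iff_two_dvd.2 h) hH
  obtain ⟨C⟩ := CfsgLib.Classical.uctx_exists hF
  obtain ⟨p, hp⟩ := CharP.exists F
  haveI : Fact p.Prime := ⟨CharP.char_is_prime F p⟩
  rcases eq_or_ne p 2 with rfl | hp2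
  · refine CfsgLib.Pronormal.SU.psu_pronormal C 2 ?_ ?_ hH2
    · exact (Nat.even_pow).2 ⟨even_two, by omega⟩
    · exact le_trans (by norm_num : 3 ≤ 2 ^ 2) (Nat.pow_le_pow_right two_pos hw)
  have hodd : Odd (Fintype.card F) := by
    obtain ⟨a, -, ha⟩ := FiniteField.card F p
    rw [ha]
    exact ((Fact.out : p.Prime).odd_of_ne_two hp2).pow
  obtain ⟨v, rfl⟩ : ∃ v, w = v + 1 := ⟨w - 1, by omega⟩
  exact CfsgLib.Pronormal.UnitaryTwoPower.psu_pronormal_four C hodd v (by omega) hH2

end Cfsg.Agent.S2226
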