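import Cfsg.Statements.S2228
import Cfsg.Agent.Lib.Invol.JThreeType.PrimeNorm

set_option autoImplicit false
open Cfsg

namespace Cfsg.Agent.S2228

/-- Let G be a finite simple group in which all involutions are conjugate and the centralizer of an involution has a normal extraspecial subgroup of order 32 complemented by a subgroup isomorphic to the alternating group of degree 5 (a group of J₃-type). Then a Sylow 19-subgroup of G is self-centralizing with normalizer-quotient cyclic of order 9, and a Sylow 17-subgroup is self-centralizing with normalizer-quotient cyclic of order 8. -/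
theorem result {G : Type*} [Group G] [Finite G] [IsSimpleGroup G]
    (hone : ∀ x y : G, orderOf x = 2 → orderOf y = 2 → IsConj x y)
    (t : G) (ht : orderOf t = 2) (E A : Subgroup ↥(Subgroup.centralizer ({t} : Set G))) [E.Normal]
    (hE : Cfsg.IsExtraspecial 2 ↥E) (hE32 : Nat.card ↥E = 32) (hEA : E.IsComplement' A)
    (eA : ↥A ≃* ↥(alternatingGroup (Fin 5))) :
    (∀ X : Sylow 19 G, Subgroup.centralizer ((X : Subgroup G) : Set G) = X ∧
        ∃ h : ((X : Subgroup G).subgroupOf (Subgroup.normalizer ((X : Subgroup G) : Set G))).Normal,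
          IsCyclic (↥(Subgroup.normalizer ((X : Subgroup G) : Set G)) ⧸ (X : Subgroup G).subgroupOf _) ∧
          Nat.card (↥(Subgroup.normalizer ((X : Subgroup G) : Set G)) ⧸ (X : Subgroup G).subgroupOf _) = 9) ∧
    (∀ Y : Sylow 17 G, Subgroup.centralizer ((Y : Subgroup G) : Set G) = Y ∧
        ∃ h : ((Y : Subgroup G).subgroupOf (Subgroup.normalizer ((Y : Subgroup G) : Set G))).Normal,
          IsCyclic (↥(Subgroup.normalizer ((Y : Subgroup G) : Set G)) ⧸ (Y : Subgroup G).subgroupOf _) ∧
          Nat.card (↥(Subgroup.normalizer ((Y : Subgroup G) : Set G)) ⧸ (Y : Subgroup G).subgroupOf _) = 8) := by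
  have h := CfsgLib.Invol.JThreeType.hyp_of_simple t ht hone E hE32 hE (hEA.symm.QuotientMulEquiv.trans eA)
  have hG := h.card_eq
  refine ⟨fun X => ?_, fun Y => ?_⟩
  · haveI : Fact (Nat.Prime 19) := ⟨by norm_num⟩
    have hX : Nat.card X = 19 :=
      CfsgLib.Invol.JThreeType.sylow_card_prime X (m := 2643840) (by rw [hG]) (by norm_num)
    obtain ⟨x, hx, he, hce⟩ := CfsgLib.Invol.JThreeType.exists_gen hX
    obtain ⟨h1, h2⟩ := h.nineteen_normalizer hx
    rw [he] at h2
    have hC : Subgroup.centralizer ((X : Subgroup G) : Set G) = X := by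
      rw [hce]
      refine (Subgroup.eq_of_le_of_card_ge (le_of_eq_of_le he.symm (Subgroup.zpowers_le.2
        (Subgroup.mem_centralizer_singleton_iff.2 rfl))) ?_).symm
      rw [h1]; exact hX.ge
    obtain ⟨hn, hcy, hcard⟩ := CfsgLib.Invol.JThreeType.quot_data hX hC
    exact ⟨hC, hn, hcy, hcard.trans h2⟩
  · haveI : Fact (Nat.Prime 17) := ⟨by norm_num⟩
    have hY : Nat.card Y = 17 :=
      CfsgLib.Invol.JThreeType.sylow_card_prime Y (m := 2954880) (by rw [hG]) (by norm_num)
    obtain ⟨x, hx, he, hce⟩ := CfsgLib.Invol.JThreeType.exists_gen hY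
    obtain ⟨h1, h2⟩ := h.seventeen_data hx
    rw [he] at h2
    have hC : Subgroup.centralizer ((Y : Subgroup G) : Set G) = Y := by
      rw [hce]
      refine (Subgroup.eq_of_le_of_card_ge (le_of_eq_of_le he.symm (Subgroup.zpowers_le.2
        (Subgroup.mem_centralizer_singleton_iff.2 rfl))) ?_).symm
      rw [h1]; exact hY.ge
    obtain ⟨hn, hcy, hcard⟩ := CfsgLib.Invol.JThreeType.quot_data hY hC
    exact ⟨hC, hn, hcy, hcard.trans h2⟩

end Cfsg.Agent.S2228
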