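import Cfsg.Statements.S2244
import Cfsg.Agent.Lib.Lie.Chev.WCl
import Cfsg.Agent.Lib.Lie.Chev.WClCert
import Cfsg.Agent.Lib.Lie.Chev.FullAll

set_option autoImplicit false
open Cfsg
open CfsgLib.Lie.Chev

namespace Cfsg.Agent.S2244

/-- Weakly closed unipotent subgroups of Chevalley groups: let G be the Chevalley group of type G₂, B₂, D₄, F₄, E₆, E₇ or E₈ over a finite field F (the matrix group generated by the root elements), with |F| ≠ 2, and |F| ≠ 3 as well for the types G₂, B₂, D₄, F₄. Let U be the subgroup generated by the positive root subgroups. If X ≤ U is weakly closed in U with respect to G (every G-conjugate of X lying in U equals X), then X is the unipotent radical U_J of a standard parabolic subgroup for some set J of fundamental roots. -/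
theorem result {F : Type*} [Field F] [Fintype F] (D : Cfsg.Lie.ChevalleyDatum) (hD : D ∈ [Cfsg.Lie.chevG2, Cfsg.Lie.chevB2, Cfsg.Lie.chevD4, Cfsg.Lie.chevF4, Cfsg.Lie.chevE6, Cfsg.Lie.chevE7, Cfsg.Lie.chevE8])
    (h2 : Fintype.card F ≠ 2) (h3 : D ∈ [Cfsg.Lie.chevG2, Cfsg.Lie.chevB2, Cfsg.Lie.chevD4, Cfsg.Lie.chevF4] → Fintype.card F ≠ 3)
    (X : Subgroup (GL D.Idx F)) (hXU : X ≤ D.posUnipotent F)
    (hwc : ∀ g ∈ D.group F, X.map (MulAut.conj g).toMonoidHom ≤ D.posUnipotent F → X.map (MulAut.conj g).toMonoidHom = X) :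
    ∃ J : Set ℕ, (∀ j ∈ J, j < D.rank) ∧ X = D.unipotentRadical F J := by
  have hchk := chkSupp_all hD
  let C := fullOf hD
  have hB : ∀ b ∈ D.borelSubgroup F, ∀ x ∈ X, b * x * b⁻¹ ∈ X := by
    intro b hb x hx
    have hU : ∀ c ∈ D.borelSubgroup F, ∀ u ∈ D.posUnipotent F, c * u * c⁻¹ ∈ D.posUnipotent F := by
      intro c hc u hu
      obtain ⟨v, hv, h, hh, rfl⟩ := C.G.mem_borel_iff.1 hc
      rw [show v * h * u * (v * h)⁻¹ = v * (h * u * h⁻¹) * v⁻¹ by group]
      exact mul_mem (mul_mem hv ((Subgroup.mem_normalizer_iff.1 (C.G.H_normalizes_U hh) u).1 hu))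
        (inv_mem hv)
    have e := hwc b (C.G.borel_le_group hb) (by
      rintro _ ⟨y, hy, rfl⟩
      exact hU b hb y (hXU hy))
    rw [← e]
    exact ⟨x, hx, rfl⟩
  have hX : WCl.InU X := ⟨hXU, hB⟩
  have hcard := Fintype.one_lt_card (α := F)
  by_cases hE : D ∈ [Cfsg.Lie.chevE6, Cfsg.Lie.chevE7, Cfsg.Lie.chevE8]
  · exact WCl.exists_radical C hX (WCl.sep_big hE) (WCl.gen_all hD) hchk (by omega) hwc
  · have hS : D ∈ [Cfsg.Lie.chevG2, Cfsg.Lie.chevB2, Cfsg.Lie.chevD4, Cfsg.Lie.chevF4] := by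
      simp only [List.mem_cons, List.not_mem_nil, or_false] at hD hE ⊢
      tauto
    obtain ⟨N, hN⟩ := WCl.sep_small hS
    have := h3 hS
    exact WCl.exists_radical C hX hN (WCl.gen_all hD) hchk (by omega) hwc

end Cfsg.Agent.S2244
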