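import Cfsg.Statements.S2245
-- import your own Cfsg.Agent.* helpers here
import Mathlib
import Cfsg.Agent.Lib.Perm.Groups.SylowTwoMax.Alt

set_option autoImplicit false
set_option linter.all false
open Cfsg

namespace Cfsg.Agent.S2245

/-- For n ≥ 5 with n ≠ 6, a Sylow 2-subgroup of the alternating group A_n lies in exactly one maximal subgroup of A_n if and only if n = 2^k + 1 for some k ≥ 2; the same holds for the symmetric group S_n. -/
theorem result (n : ℕ) (hn : 5 ≤ n) (h6 : n ≠ 6) :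
    ((∀ R : Sylow 2 ↥(alternatingGroup (Fin n)), (∃! M : Subgroup ↥(alternatingGroup (Fin n)), IsCoatom M ∧ (R : Subgroup ↥(alternatingGroup (Fin n))) ≤ M) ↔ ∃ k : ℕ, 2 ≤ k ∧ n = 2 ^ k + 1) ∧
    (∀ R : Sylow 2 (Equiv.Perm (Fin n)), (∃! M : Subgroup (Equiv.Perm (Fin n)), IsCoatom M ∧ (R : Subgroup (Equiv.Perm (Fin n))) ≤ M) ↔ ∃ k : ℕ, 2 ≤ k ∧ n = 2 ^ k + 1)) := by
  have hc : Fintype.card (Fin n) = n := Fintype.card_fin n
  refine ⟨fun R => ?_, fun R => ?_⟩
  · constructor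
    · intro h
      by_contra hform
      have hform' : ¬ ∃ k, 2 ≤ k ∧ Fintype.card (Fin n) = 2 ^ k + 1 := by rwa [hc]
      by_cases h8 : n = 8
      · exact CfsgLib.Perm.Groups.SylowTwoMax.not_uniqMax_alt_eight (by rw [hc]; exact h8) R h
      · exact CfsgLib.Perm.Groups.SylowTwoMax.not_uniqMax_alt (by rw [hc]; exact hn) (by rw [hc]; exact h8) hform' R h
    · rintro ⟨k, hk, e⟩
      exact CfsgLib.Perm.Groups.SylowTwoMax.uniqMax_alt hk (hc.trans e) R
  · constructor
    · intro h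
      by_contra hform
      have hform' : ¬ ∃ k, 2 ≤ k ∧ Fintype.card (Fin n) = 2 ^ k + 1 := by rwa [hc]
      exact CfsgLib.Perm.Groups.SylowTwoMax.not_uniqMax_perm (by rw [hc]; exact hn) hform' R h
    · rintro ⟨k, hk, e⟩
      exact CfsgLib.Perm.Groups.SylowTwoMax.uniqMax_perm hk (hc.trans e) R

end Cfsg.Agent.S2245
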