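import Cfsg.Statements.S2247
import Cfsg.Agent.Lib.Lie.Suz.Sub.Max
-- import your own Cfsg.Agent.* helpers here

set_option autoImplicit false
open Cfsg

open CfsgLib.Lie

namespace Cfsg.Agent.S2247

/-- In the Suzuki group with q = 2^(2m+1), m ≥ 1 (realised as the stabiliser in SL₄ of the Suzuki–Tits ovoid), the normalizer of a Sylow 2-subgroup P is a maximal subgroup and is the only maximal subgroup containing P. -/
theorem result {F : Type*} [Field F] [Fintype F] {m : ℕ} (hm : 1 ≤ m) (hF : Fintype.card F = 2 ^ (2 * m + 1)) (P : Sylow 2 ↥(Cfsg.Sz F m)) :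
    IsCoatom (Subgroup.normalizer ((P : Subgroup ↥(Cfsg.Sz F m)) : Set ↥(Cfsg.Sz F m))) ∧
    ∀ M : Subgroup ↥(Cfsg.Sz F m), IsCoatom M → (P : Subgroup ↥(Cfsg.Sz F m)) ≤ M → M = Subgroup.normalizer ((P : Subgroup ↥(Cfsg.Sz F m)) : Set ↥(Cfsg.Sz F m)) := by
  have hne := Suz.normalizer_sylow_ne_top hm hF P
  refine ⟨⟨hne, fun M hlt => ?_⟩, fun M hM hP => ?_⟩
  · by_contra hM
    exact hlt.not_ge (Suz.le_normalizer_sylow hm hF P hM (Subgroup.le_normalizer.trans hlt.le))
  · have hle := Suz.le_normalizer_sylow hm hF P hM.1 hP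
    rcases eq_or_lt_of_le hle with h | h
    · exact h
    · exact absurd (hM.2 _ h) hne

end Cfsg.Agent.S2247
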