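import Cfsg.Statements.S2254
-- import your own Cfsg.Agent.* helpers here
import Mathlib
import Cfsg.Agent.Lib.Perm.Nilpotent.Conjugacy

set_option autoImplicit false
set_option linter.all false
open Cfsg

namespace Cfsg.Agent.S2254

/-- Let n ≡ 3 (mod 4). Then every nilpotent subgroup of the symmetric group on n letters has order at most 3 times the order of a Sylow 2-subgroup of the symmetric group on n − 3 letters; the bound is attained by a nilpotent subgroup isomorphic to the direct product of such a Sylow 2-subgroup with a cyclic group of order 3; and any two nilpotent subgroups attaining the bound are conjugate. -/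
theorem result  (n : ℕ) (hn : n % 4 = 3)
    (P : Sylow 2 (Equiv.Perm (Fin (n - 3)))) :
    (∀ N : Subgroup (Equiv.Perm (Fin n)), Group.IsNilpotent N → Nat.card N ≤ 3 * Nat.card P) ∧
    (∃ M : Subgroup (Equiv.Perm (Fin n)), Group.IsNilpotent M ∧ Nat.card M = 3 * Nat.card P ∧
      Nonempty (M ≃* (↥(P : Subgroup (Equiv.Perm (Fin (n - 3)))) × Multiplicative (ZMod 3)))) ∧
    (∀ N₁ N₂ : Subgroup (Equiv.Perm (Fin n)), Group.IsNilpotent N₁ → Group.IsNilpotent N₂ →
      Nat.card N₁ = 3 * Nat.card P → Nat.card N₂ = 3 * Nat.card P →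
      ∃ g : Equiv.Perm (Fin n), N₂ = N₁.map (MulAut.conj g).toMonoidHom) := by
  have hP : Nat.card P = 2 ^ CfsgLib.Perm.Nilp.expTwo (n - 3) := by
    rw [CfsgLib.Perm.Nilp.card_sylow_perm, Nat.card_fin]
  refine ⟨fun N hN => ?_, ?_, fun N₁ N₂ hN₁ hN₂ h₁ h₂ => ?_⟩
  · have h := CfsgLib.Perm.Nilp.card_le_bnd N hN
    rwa [Nat.card_fin, CfsgLib.Perm.Nilp.bnd_of_eq hn, ← hP] at h
  · obtain ⟨hnil, hiso⟩ := CfsgLib.Perm.Nilp.stdGrp_nilpotent
      (CfsgLib.Perm.Nilp.splitEquiv (n := n) (by omega)) (P : Subgroup (Equiv.Perm (Fin (n - 3)))) P.isPGroup'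
    refine ⟨_, hnil, ?_, hiso⟩
    rw [CfsgLib.Perm.Nilp.card_stdGrp,
      show Nat.card (alternatingGroup (Fin 3)) = 3 from by rw [Nat.card_eq_fintype_card]; rfl, mul_comm]
  · rw [hP] at h₁ h₂
    exact CfsgLib.Perm.Nilp.exists_conj_perm hn N₁ N₂ hN₁ hN₂ h₁ h₂

end Cfsg.Agent.S2254
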