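import Cfsg.Statements.S2255
-- import your own Cfsg.Agent.* helpers here
import Mathlib
import Cfsg.Agent.Lib.Perm.Nilpotent.Conjugacy
import Cfsg.Agent.Lib.Perm.Nilpotent.Even

set_option autoImplicit false
set_option linter.all false
open Cfsg

namespace Cfsg.Agent.S2255

/-- Let n be a natural number not congruent to 3 modulo 4, with n ∉ {5, 6, 9}. Then every nilpotent subgroup of the alternating group on n letters has order at most the order of a Sylow 2-subgroup of the alternating group (so the nilpotent subgroups of largest order are exactly the Sylow 2-subgroups). -/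
theorem result  (n : ℕ) (hn : n % 4 ≠ 3)
    (h5 : n ≠ 5) (h6 : n ≠ 6) (h9 : n ≠ 9)
    (N : Subgroup (alternatingGroup (Fin n))) (hN : Group.IsNilpotent N)
    (P : Sylow 2 (alternatingGroup (Fin n))) :
    Nat.card N ≤ Nat.card P := by
  by_cases h2 : 2 ≤ n
  · have hs := CfsgLib.Perm.Nilp.card_sylow_alt (by rwa [Fintype.card_fin]) P
    haveI := hN
    have hinj := (alternatingGroup (Fin n)).subtype_injective
    have h := CfsgLib.Perm.Nilp.two_mul_card_le_of_even (N.map (alternatingGroup (Fin n)).subtype)
      (Group.nilpotent_of_surjective (Subgroup.equivMapOfInjective N _ hinj).toMonoidHom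
        (MulEquiv.surjective _))
      (by rintro g ⟨x, -, rfl⟩; exact Equiv.Perm.mem_alternatingGroup.1 x.2)
      (by rwa [Fintype.card_fin]) (by rwa [Fintype.card_fin]) (by rwa [Fintype.card_fin])
      (by rwa [Fintype.card_fin]) (by rw [Fintype.card_fin]; omega)
    rw [Fintype.card_fin, CfsgLib.Perm.Nilp.bnd_of_ne hn, Subgroup.card_map_of_injective hinj] at h
    rw [Fintype.card_fin] at hs
    omega
  · haveI : Subsingleton (Fin n) := Fin.subsingleton_iff_le_one.2 (by omega)
    haveI : Subsingleton (alternatingGroup (Fin n)) :=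
      ⟨fun a b => Subtype.ext (Equiv.ext fun x => Subsingleton.elim _ _)⟩
    haveI : Nonempty N := ⟨1⟩
    rw [Nat.card_of_subsingleton (1 : N)]
    exact Nat.card_pos

end Cfsg.Agent.S2255
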