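import Cfsg.Statements.S2256
-- import your own Cfsg.Agent.* helpers here
import Mathlib
import Cfsg.Agent.Lib.Perm.Nilpotent.Conjugacy
import Cfsg.Agent.Lib.Perm.Nilpotent.Even

set_option autoImplicit false
set_option linter.all false
open Cfsg

namespace Cfsg.Agent.S2256

/-- Let n ≡ 3 (mod 4) with n ≥ 7. Then every nilpotent subgroup of the alternating group on n letters has order at most 3 times the order of a Sylow 2-subgroup of the alternating group on n − 3 letters; the bound is attained by a nilpotent subgroup isomorphic to the direct product of such a Sylow 2-subgroup with a cyclic group of order 3; and any two nilpotent subgroups of the alternating group attaining the bound are conjugate in it. -/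
theorem result  (n : ℕ) (hn : n % 4 = 3) (h7 : 7 ≤ n)
    (P : Sylow 2 (alternatingGroup (Fin (n - 3)))) :
    (∀ N : Subgroup (alternatingGroup (Fin n)), Group.IsNilpotent N → Nat.card N ≤ 3 * Nat.card P) ∧
    (∃ M : Subgroup (alternatingGroup (Fin n)), Group.IsNilpotent M ∧ Nat.card M = 3 * Nat.card P ∧
      Nonempty (M ≃* (↥(P : Subgroup (alternatingGroup (Fin (n - 3)))) × Multiplicative (ZMod 3)))) ∧
    (∀ N₁ N₂ : Subgroup (alternatingGroup (Fin n)), Group.IsNilpotent N₁ → Group.IsNilpotent N₂ →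
      Nat.card N₁ = 3 * Nat.card P → Nat.card N₂ = 3 * Nat.card P →
      ∃ g : alternatingGroup (Fin n), N₂ = N₁.map (MulAut.conj g).toMonoidHom) := by
  have hP := CfsgLib.Perm.Nilp.card_sylow_alt (by rw [Fintype.card_fin]; omega) P
  rw [Fintype.card_fin] at hP
  refine ⟨fun N hN => ?_, ?_, fun N₁ N₂ hN₁ hN₂ h₁ h₂ => ?_⟩
  · haveI := hN
    have hinj := (alternatingGroup (Fin n)).subtype_injective
    have h := CfsgLib.Perm.Nilp.two_mul_card_le_of_even (N.map (alternatingGroup (Fin n)).subtype)
      (Group.nilpotent_of_surjective (Subgroup.equivMapOfInjective N _ hinj).toMonoidHom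
        (MulEquiv.surjective _))
      (by rintro g ⟨x, -, rfl⟩; exact Equiv.Perm.mem_alternatingGroup.1 x.2)
      (by rw [Fintype.card_fin]; omega) (by rw [Fintype.card_fin]; omega) (by rw [Fintype.card_fin]; omega)
      (by rw [Fintype.card_fin]; omega) (by rw [Fintype.card_fin]; omega)
    rw [Fintype.card_fin, CfsgLib.Perm.Nilp.bnd_of_eq hn, Subgroup.card_map_of_injective hinj] at h
    omega
  · have hinj := (alternatingGroup (Fin (n - 3))).subtype_injective
    let e := CfsgLib.Perm.Nilp.splitEquiv (n := n) (by omega)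
    let Q := (P : Subgroup (alternatingGroup (Fin (n - 3)))).map (alternatingGroup (Fin (n - 3))).subtype
    obtain ⟨hnil, ⟨i⟩⟩ := CfsgLib.Perm.Nilp.stdGrp_nilpotent e Q (P.isPGroup'.map _)
    have hle : CfsgLib.Perm.Nilp.stdGrp e Q (alternatingGroup (Fin 3)) ≤ alternatingGroup (Fin n) := by
      rintro _ ⟨⟨a, b⟩, ⟨⟨a', -, rfl⟩, hb⟩, rfl⟩
      rw [Equiv.Perm.mem_alternatingGroup, CfsgLib.Perm.Nilp.sign_splitHom]
      rw [show Equiv.Perm.sign ((alternatingGroup (Fin (n - 3))).subtype a') = 1 from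
        Equiv.Perm.mem_alternatingGroup.1 a'.2, Equiv.Perm.mem_alternatingGroup.1 hb, one_mul]
    haveI := hnil
    refine ⟨(CfsgLib.Perm.Nilp.stdGrp e Q (alternatingGroup (Fin 3))).subgroupOf _,
      Group.nilpotent_of_surjective (Subgroup.subgroupOfEquivOfLe hle).symm.toMonoidHom (MulEquiv.surjective _),
      ?_, ⟨(Subgroup.subgroupOfEquivOfLe hle).trans (i.trans
        (MulEquiv.prodCongr (Subgroup.equivMapOfInjective _ _ hinj).symm (MulEquiv.refl _)))⟩⟩
    rw [Nat.card_congr (Subgroup.subgroupOfEquivOfLe hle).toEquiv, CfsgLib.Perm.Nilp.card_stdGrp,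
      show Nat.card (alternatingGroup (Fin 3)) = 3 from by rw [Nat.card_eq_fintype_card]; rfl, mul_comm,
      Subgroup.card_map_of_injective hinj]
  · have hE : 1 ≤ CfsgLib.Perm.Nilp.expTwo (n - 3) := by
      have := CfsgLib.Perm.Nilp.expTwo_pred hn h7
      omega
    have hP' : Nat.card P = 2 ^ (CfsgLib.Perm.Nilp.expTwo (n - 3) - 1) := by
      rw [← Nat.sub_add_cancel hE, pow_succ'] at hP
      omega
    rw [hP'] at h₁ h₂
    exact CfsgLib.Perm.Nilp.exists_conj_alt hn h7 N₁ N₂ hN₁ hN₂ h₁ h₂

end Cfsg.Agent.S2256
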