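import Cfsg.Statements.S2257
import Cfsg.Agent.Lib.Perm.Dickson.Solubilizer

set_option autoImplicit false
open Cfsg

namespace Cfsg.Agent.S2257

/-- Let G = PSL_2(F) with F a field of order q = 2^p, p prime, and for x ∈ G call the solubilizer of x the set of y ∈ G such that x and y generate a solvable subgroup. Then the solubilizer of an involution has 3q(q − 1) elements; that of a non-identity element of order dividing q − 1 has 2q(q − 1) elements; and that of a non-identity element of order dividing q + 1 has 2(q + 1) elements. -/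
theorem result (p : ℕ) (hp : p.Prime) {F : Type*} [Field F] [Fintype F]
    (hF : Fintype.card F = 2 ^ p) (x : Matrix.ProjectiveSpecialLinearGroup (Fin 2) F) :
    (orderOf x = 2 → Nat.card {y : Matrix.ProjectiveSpecialLinearGroup (Fin 2) F // Group.IsSolvable ↥(Subgroup.closure ({x, y} : Set (Matrix.ProjectiveSpecialLinearGroup (Fin 2) F)))} = 3 * 2 ^ p * (2 ^ p - 1)) ∧
    (x ≠ 1 → orderOf x ∣ 2 ^ p - 1 → Nat.card {y : Matrix.ProjectiveSpecialLinearGroup (Fin 2) F // Group.IsSolvable ↥(Subgroup.closure ({x, y} : Set (Matrix.ProjectiveSpecialLinearGroup (Fin 2) F)))} = 2 * 2 ^ p * (2 ^ p - 1)) ∧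
    (x ≠ 1 → orderOf x ∣ 2 ^ p + 1 → Nat.card {y : Matrix.ProjectiveSpecialLinearGroup (Fin 2) F // Group.IsSolvable ↥(Subgroup.closure ({x, y} : Set (Matrix.ProjectiveSpecialLinearGroup (Fin 2) F)))} = 2 * (2 ^ p + 1)) := by
  have hq : Nat.card F = 2 ^ p := by rw [Nat.card_eq_fintype_card, hF]
  haveI : Fact (Nat.Prime 2) := ⟨Nat.prime_two⟩
  haveI : CharP F 2 := charP_of_card_eq_prime_pow hF
  have he : Even (Nat.card F) := by rw [hq]; exact Nat.even_pow.2 ⟨even_two, hp.ne_zero⟩
  have hg := CfsgLib.Perm.Dickson.gcd_even (F := F) he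
  refine ⟨fun h2 => ?_, fun h1 hd => ?_, fun h1 hd => ?_⟩
  · rw [CfsgLib.Perm.Dickson.Solub.count_involution_even hp hq x h2, hq]
  · have hne : orderOf x ≠ 2 := fun e => by
      have h := e ▸ hd
      have h' : 2 ∣ 2 ^ p := dvd_pow_self 2 hp.ne_zero
      have := Nat.one_le_two_pow (n := p)
      omega
    have h := CfsgLib.Perm.Dickson.Solub.count_split hp 2 hq (Or.inl rfl) x h1 hne (hq ▸ hd)
    rw [hg, one_mul, hq] at h
    rw [h, mul_assoc]
  · have hne : orderOf x ≠ 2 := fun e => by
      have h := e ▸ hd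
      have h' : 2 ∣ 2 ^ p := dvd_pow_self 2 hp.ne_zero
      omega
    have h := CfsgLib.Perm.Dickson.Solub.count_ell hp 2 hq (Or.inl rfl) x h1 hne (hq ▸ hd)
    rw [hg, one_mul, hq] at h
    exact h

end Cfsg.Agent.S2257
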