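import Cfsg.Statements.S2259
import Cfsg.Agent.Lib.Lie.Suz.Sub.SolValues
-- import your own Cfsg.Agent.* helpers here

set_option autoImplicit false
open Cfsg

open CfsgLib.Lie

namespace Cfsg.Agent.S2259

/-- Let G be the Suzuki group Sz(q), q = 2^(2m+1) with 2m + 1 prime and m ≥ 1, realised inside Sp_4(F) for F the field of order q, write r = 2^(m+1) (so r² = 2q), and for x ∈ G call the solubilizer of x the set of y ∈ G such that x and y generate a solvable subgroup. Then the solubilizer of an involution has q²(4q − 3) elements; that of an element of order 4 has q²(q + 3) elements; that of a non-identity element of order dividing q − 1 has 2q²(q − 1) elements; that of a non-identity element of order dividing q + r + 1 has 4(q + r + 1) elements; and that of a non-identity element of order dividing q − r + 1 has 4(q − r + 1) elements. -/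
theorem result {F : Type*} [Field F] [Fintype F] {m : ℕ} (hm : 1 ≤ m)
    (hp : (2 * m + 1).Prime) (hF : Fintype.card F = 2 ^ (2 * m + 1)) (x : ↥(Cfsg.Lie.Sz F (2 ^ (m + 1)))) :
    (orderOf x = 2 → Nat.card {y : ↥(Cfsg.Lie.Sz F (2 ^ (m + 1))) // Group.IsSolvable ↥(Subgroup.closure ({x, y} : Set (↥(Cfsg.Lie.Sz F (2 ^ (m + 1))))))} = (2 ^ (2 * m + 1)) ^ 2 * (4 * 2 ^ (2 * m + 1) - 3)) ∧
    (orderOf x = 4 → Nat.card {y : ↥(Cfsg.Lie.Sz F (2 ^ (m + 1))) // Group.IsSolvable ↥(Subgroup.closure ({x, y} : Set (↥(Cfsg.Lie.Sz F (2 ^ (m + 1))))))} = (2 ^ (2 * m + 1)) ^ 2 * (2 ^ (2 * m + 1) + 3)) ∧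
    (x ≠ 1 → orderOf x ∣ 2 ^ (2 * m + 1) - 1 →
      Nat.card {y : ↥(Cfsg.Lie.Sz F (2 ^ (m + 1))) // Group.IsSolvable ↥(Subgroup.closure ({x, y} : Set (↥(Cfsg.Lie.Sz F (2 ^ (m + 1))))))} = 2 * (2 ^ (2 * m + 1)) ^ 2 * (2 ^ (2 * m + 1) - 1)) ∧
    (x ≠ 1 → orderOf x ∣ 2 ^ (2 * m + 1) + 2 ^ (m + 1) + 1 → Nat.card {y : ↥(Cfsg.Lie.Sz F (2 ^ (m + 1))) // Group.IsSolvable ↥(Subgroup.closure ({x, y} : Set (↥(Cfsg.Lie.Sz F (2 ^ (m + 1))))))} = 4 * (2 ^ (2 * m + 1) + 2 ^ (m + 1) + 1)) ∧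
    (x ≠ 1 → orderOf x ∣ 2 ^ (2 * m + 1) - 2 ^ (m + 1) + 1 → Nat.card {y : ↥(Cfsg.Lie.Sz F (2 ^ (m + 1))) // Group.IsSolvable ↥(Subgroup.closure ({x, y} : Set (↥(Cfsg.Lie.Sz F (2 ^ (m + 1))))))} = 4 * (2 ^ (2 * m + 1) - 2 ^ (m + 1) + 1)) := by
  obtain ⟨e⟩ := Suz.exists_twEquiv hm hF
  obtain ⟨x, rfl⟩ := e.surjective x
  obtain ⟨hle, h1, h2⟩ : 2 ^ (m + 1) ≤ 2 ^ (2 * m + 1) ∧ 1 ≤ 2 ^ (m + 1) ∧ 8 ≤ 2 ^ (2 * m + 1) :=
    ⟨Nat.pow_le_pow_right (by norm_num) (by omega), Nat.one_le_two_pow,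
      hF ▸ Suz.eight_le_q hF hm⟩
  obtain ⟨c1, c2, -⟩ := Suz.tori_coprime' hF hm
  have hne1 : 2 ^ (2 * m + 1) + 2 ^ (m + 1) + 1 ≠ 2 ^ (2 * m + 1) - 1 := fun h => by
    have := Nat.eq_one_of_dvd_coprimes c1 dvd_rfl (dvd_of_eq h.symm); omega
  have hne2 : 2 ^ (2 * m + 1) - 2 ^ (m + 1) + 1 ≠ 2 ^ (2 * m + 1) - 1 := fun h => by
    have := Nat.eq_one_of_dvd_coprimes c2 dvd_rfl (dvd_of_eq h.symm); omega
  simp only [MulEquiv.orderOf_eq, ne_eq, EmbeddingLike.map_eq_one_iff, Suz.card_sol_transport]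
  refine ⟨fun h => ?_, fun h => ?_, fun hx h => ?_, fun hx h => ?_, fun hx h => ?_⟩
  · rw [(Suz.sol_values hm hF hp).1 h, hF]
  · rw [(Suz.sol_values hm hF hp).2 h, hF]
  · rw [Suz.sol_semi hm hF hp hx (Or.inl rfl) h, if_pos rfl, hF]
  · rw [Suz.sol_semi hm hF hp hx (Or.inr (Or.inl rfl)) h, if_neg hne1]
  · rw [Suz.sol_semi hm hF hp hx (Or.inr (Or.inr rfl)) h, if_neg hne2]

end Cfsg.Agent.S2259
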