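import Cfsg.Statements.S2261
import Mathlib

set_option autoImplicit false
open Cfsg

namespace Cfsg.Agent.S2261

/-- Let F be a finite field with q elements and d ≥ 1. Then every element of PGL_d(F) = GL_d(F)/Z has order at most (q^d − 1)/(q − 1), and some element (the image of a Singer cycle) has exactly this order. -/
theorem result {F : Type*} [Field F] [Fintype F] (d : ℕ) (hd : 1 ≤ d) :
    (∀ g : (GL (Fin d) F ⧸ Subgroup.center (GL (Fin d) F)), (Fintype.card F - 1) * orderOf g ≤ Fintype.card F ^ d - 1) ∧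
    (∃ g : (GL (Fin d) F ⧸ Subgroup.center (GL (Fin d) F)), (Fintype.card F - 1) * orderOf g = Fintype.card F ^ d - 1) := by
  classical
  haveI : Nonempty (Fin d) := ⟨⟨0, hd⟩⟩
  set q := Fintype.card F with hqdef
  have hq : 2 ≤ q := Fintype.one_lt_card
  have hunits : Nat.card Fˣ = q - 1 := by rw [Nat.card_units, Nat.card_eq_fintype_card]
  have upper : ∀ g : (GL (Fin d) F ⧸ Subgroup.center (GL (Fin d) F)),
      (q - 1) * orderOf g ≤ q ^ d - 1 := by
    intro g
    obtain ⟨g, rfl⟩ := QuotientGroup.mk_surjective g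
    set k := orderOf (g : GL (Fin d) F ⧸ Subgroup.center (GL (Fin d) F)) with hk
    let A : Matrix (Fin d) (Fin d) F := g
    have hspan : ∀ j : ℕ, ∃ a : Fin d → F, (∑ i, a i • A ^ (i : ℕ)) = A ^ j := by
      intro j
      refine ⟨fun i => (Polynomial.X ^ j %ₘ A.charpoly).coeff i, ?_⟩
      conv_rhs => rw [Matrix.pow_eq_aeval_mod_charpoly, Polynomial.aeval_eq_sum_range' (n := d) (by
        refine lt_of_lt_of_le (Polynomial.natDegree_modByMonic_lt _ (Matrix.charpoly_monic A) ?_)
          (by rw [Matrix.charpoly_natDegree_eq_dim, Fintype.card_fin])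
        intro h1
        have := Matrix.charpoly_natDegree_eq_dim A
        rw [h1, Polynomial.natDegree_one, Fintype.card_fin] at this
        omega)]
      exact Fin.sum_univ_eq_sum_range
        (fun i => (Polynomial.X ^ j %ₘ A.charpoly).coeff i • A ^ i) d
    choose a ha using hspan
    have hne : ∀ (j : ℕ) (c : Fˣ), (c : F) • a j ≠ 0 := by
      intro j c h
      have h1 : a j = 0 := (smul_eq_zero.1 h).resolve_left c.ne_zero
      have h2 : A ^ j = 0 := by rw [← ha, h1]; simp
      exact (((g : GL (Fin d) F).isUnit).pow j).ne_zero h2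
    let f : Fin k × Fˣ → {v : Fin d → F // v ≠ 0} := fun x =>
      ⟨(x.2 : F) • a x.1, hne _ _⟩
    have hf : Function.Injective f := by
      rintro ⟨i, c⟩ ⟨j, e⟩ h
      have h1 := congrArg (fun v : {v : Fin d → F // v ≠ 0} => ∑ t, v.1 t • A ^ (t : ℕ)) h
      simp only [f, Pi.smul_apply, smul_eq_mul, mul_smul, ← Finset.smul_sum, ha] at h1
      have key : ∀ (i j : Fin k) (c e : Fˣ), (i : ℕ) ≤ j →
          (c : F) • A ^ (i : ℕ) = (e : F) • A ^ (j : ℕ) → i = j := by
        intro i j c e hle h1
        have h2 : (g ^ ((j : ℕ) - i) : GL (Fin d) F) ∈ Subgroup.center (GL (Fin d) F) := by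
          rw [Matrix.GeneralLinearGroup.mem_center_iff_val_mem_range_scalar]
          refine ⟨((e⁻¹ * c : Fˣ) : F), ?_⟩
          have hu : IsUnit (A ^ (i : ℕ)) := ((g : GL (Fin d) F).isUnit).pow _
          apply hu.mul_left_cancel
          rw [Units.val_pow_eq_pow_val, ← pow_add, Nat.add_sub_cancel' hle,
            Matrix.scalar_apply, ← Matrix.smul_one_eq_diagonal, mul_smul_comm, mul_one,
            Units.val_mul, mul_smul, h1, ← mul_smul, Units.inv_mul, one_smul]
        have h3 : ((g : GL (Fin d) F ⧸ Subgroup.center (GL (Fin d) F))) ^ ((j : ℕ) - i) = 1 := by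
          rw [← QuotientGroup.mk_pow, QuotientGroup.eq_one_iff]; exact h2
        have h4 := orderOf_dvd_of_pow_eq_one h3
        rw [← hk] at h4
        have h5 := Nat.eq_zero_of_dvd_of_lt h4 (by omega)
        exact Fin.ext (by omega)
      have hij : i = j := by
        rcases le_total (i : ℕ) (j : ℕ) with hle | hle
        · exact key i j c e hle h1
        · exact (key j i e c hle h1.symm).symm
      subst hij
      refine Prod.ext rfl (Units.ext ?_)
      have hz : ((c : F) - e) • A ^ (i : ℕ) = 0 := by rw [sub_smul]; exact sub_eq_zero.2 h1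
      exact sub_eq_zero.1 ((smul_eq_zero.1 hz).resolve_right
        (((g : GL (Fin d) F).isUnit).pow _).ne_zero)
    have h1 := Nat.card_le_card_of_injective f hf
    rw [Nat.card_prod, Nat.card_fin, hunits, Nat.card_eq_fintype_card,
      Fintype.card_subtype_compl] at h1
    simp only [Fintype.card_fun, Fintype.card_fin, Fintype.card_unique] at h1
    rw [mul_comm]
    exact h1
  refine ⟨upper, ?_⟩
  obtain ⟨p, hp⟩ := CharP.exists F
  haveI : Fact p.Prime := ⟨CharP.char_is_prime F p⟩
  haveI : NeZero d := ⟨by omega⟩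
  let K := FiniteField.Extension F p d
  have hfin : Module.finrank F K = d := FiniteField.finrank_extension F p d
  let b := Module.finBasisOfFinrankEq F K hfin
  let L : K →* Matrix (Fin d) (Fin d) F := (Algebra.leftMulMatrix b).toMonoidHom
  obtain ⟨u, hu⟩ := IsCyclic.exists_ofOrder_eq_natCard (α := Kˣ)
  let g : GL (Fin d) F := Units.map L u
  refine ⟨(g : GL (Fin d) F ⧸ Subgroup.center (GL (Fin d) F)), le_antisymm (upper _) ?_⟩
  set k := orderOf (g : GL (Fin d) F ⧸ Subgroup.center (GL (Fin d) F)) with hk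
  have hk0 : 0 < k := orderOf_pos _
  have h1 : (g ^ k : GL (Fin d) F) ∈ Subgroup.center (GL (Fin d) F) := by
    rw [← QuotientGroup.eq_one_iff, QuotientGroup.mk_pow, hk, pow_orderOf_eq_one]
  rw [Matrix.GeneralLinearGroup.mem_center_iff_val_mem_range_scalar] at h1
  obtain ⟨c, hc⟩ := h1
  have h2 : (u : K) ^ k = algebraMap F K c := by
    apply Algebra.leftMulMatrix_injective b
    rw [map_pow, AlgHom.commutes]
    exact hc.symm
  have hc0 : c ≠ 0 := by
    rintro rfl
    rw [map_zero] at h2
    exact pow_ne_zero k u.ne_zero h2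
  have h3 : u ^ ((q - 1) * k) = 1 := by
    apply Units.ext
    rw [Units.val_pow_eq_pow_val, Units.val_one, mul_comm, pow_mul, h2, ← map_pow,
      FiniteField.pow_card_sub_one_eq_one c hc0, map_one]
  have h4 := orderOf_dvd_of_pow_eq_one h3
  rw [hu, Nat.card_units, FiniteField.natCard_extension, Nat.card_eq_fintype_card] at h4
  exact Nat.le_of_dvd (Nat.mul_pos (by omega) hk0) h4

end Cfsg.Agent.S2261
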