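import Cfsg.Statements.S2263
import Cfsg.Agent.Lib.Classical.OrderBound.UnitaryMax

set_option autoImplicit false
open Cfsg

namespace Cfsg.Agent.S2263

/-- Let q = p^f with p prime and f ≥ 1, F a field with q² elements, d ≥ 3 with (d, q) ≠ (3, 2), and PGU_d(q) the general unitary group of the standard Hermitian form modulo its centre. Then the largest order of an element of PGU_d(q) is: q^(d−1) − 1 if d is odd and f ≥ 2; (p^(d−2) + 1)p if d is odd and f = 1; q^(d−1) + 1 if d is even and q > 2; 4(2^(d−3) + 1) if d is even and q = 2. -/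
theorem result {F : Type*} [Field F] [Fintype F] (p f d : ℕ) (hp : p.Prime) (hf : 1 ≤ f) (q : ℕ) (hq : q = p ^ f)
    (hF : Fintype.card F = q ^ 2) (hd : 3 ≤ d) (h32 : ¬ (d = 3 ∧ q = 2)) :
    (Odd d → 2 ≤ f → (∀ g : (↥(Cfsg.GU d F q) ⧸ Subgroup.center ↥(Cfsg.GU d F q)), orderOf g ≤ q ^ (d - 1) - 1) ∧ ∃ g : (↥(Cfsg.GU d F q) ⧸ Subgroup.center ↥(Cfsg.GU d F q)), orderOf g = q ^ (d - 1) - 1) ∧
    (Odd d → f = 1 → (∀ g : (↥(Cfsg.GU d F q) ⧸ Subgroup.center ↥(Cfsg.GU d F q)), orderOf g ≤ (p ^ (d - 2) + 1) * p) ∧ ∃ g : (↥(Cfsg.GU d F q) ⧸ Subgroup.center ↥(Cfsg.GU d F q)), orderOf g = (p ^ (d - 2) + 1) * p) ∧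
    (Even d → 2 < q → (∀ g : (↥(Cfsg.GU d F q) ⧸ Subgroup.center ↥(Cfsg.GU d F q)), orderOf g ≤ q ^ (d - 1) + 1) ∧ ∃ g : (↥(Cfsg.GU d F q) ⧸ Subgroup.center ↥(Cfsg.GU d F q)), orderOf g = q ^ (d - 1) + 1) ∧
    (Even d → q = 2 → (∀ g : (↥(Cfsg.GU d F q) ⧸ Subgroup.center ↥(Cfsg.GU d F q)), orderOf g ≤ 4 * (2 ^ (d - 3) + 1)) ∧ ∃ g : (↥(Cfsg.GU d F q) ⧸ Subgroup.center ↥(Cfsg.GU d F q)), orderOf g = 4 * (2 ^ (d - 3) + 1)) := by
  haveI := Fact.mk hp
  haveI : CharP F p := by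
    obtain ⟨p', hp'⟩ := CharP.exists F
    obtain ⟨e, hp'p, he⟩ := FiniteField.card F p'
    have h1 : p' ∣ p ^ (f * 2) := by
      rw [pow_mul, ← hq, ← hF, he]
      exact dvd_pow_self p' e.pos.ne'
    exact (Nat.prime_dvd_prime_iff_eq hp'p hp).1 (hp'p.dvd_of_dvd_pow h1) ▸ hp'
  obtain ⟨C⟩ := CfsgLib.Classical.uctx_exists hF
  have hq2 : 2 ≤ q := CfsgLib.Classical.two_le_q hF
  have hbd := CfsgLib.OrderBound.Unit.orderOf_le p f hf hq hF hd h32
  have hpq : p ≤ q := hq ▸ Nat.le_self_pow (by omega) p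
  have hqp : q = 2 → p = 2 := fun h => le_antisymm (h ▸ hpq) hp.two_le
  have h1q : 1 ≤ q ^ (d - 1) := Nat.one_le_pow _ _ (by omega)
  have hnot : Odd d → ¬ Even d := fun h => Nat.not_even_iff_odd.2 h
  refine ⟨fun hodd hf2 => ⟨fun g => ?_, ?_⟩, fun hodd hf1 => ⟨fun g => ?_, ?_⟩,
    fun heven hq3 => ⟨fun g => ?_, ?_⟩, fun heven hq2' => ⟨fun g => ?_, ?_⟩⟩
  · obtain ⟨N, hN, hG⟩ := hbd g
    refine hN.trans ?_
    have h4 : 2 * p ≤ q := by
      rw [hq]
      calc 2 * p ≤ p * p := Nat.mul_le_mul_right _ hp.two_le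
        _ = p ^ 2 := (sq p).symm
        _ ≤ p ^ f := Nat.pow_le_pow_right hp.pos hf2
    rcases hG with h | ⟨h, -⟩ | ⟨-, h⟩ | ⟨h, -⟩ | ⟨h, -⟩
    · exact h
    · exact absurd h (hnot hodd)
    · refine h.trans ?_
      have h5 : q ^ (d - 1) = q * q ^ (d - 2) := by rw [← pow_succ']; congr 1; omega
      have h6 : q ≤ q ^ (d - 2) := Nat.le_self_pow (by omega) q
      have h8 := Nat.mul_le_mul_right (q ^ (d - 2) + 1) h4
      have h9 : q * q ≤ q * q ^ (d - 2) := Nat.mul_le_mul_left _ h6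
      have h10 : 2 * q ≤ q * q := Nat.mul_le_mul_right _ hq2
      have : 2 * (p * (q ^ (d - 2) + 1)) + 2 ≤ 2 * q ^ (d - 1) := by rw [h5]; nlinarith
      omega
    · have := hqp h; omega
    · have := hqp h; omega
  · obtain ⟨n, rfl⟩ : ∃ n, d = 1 + n := ⟨d - 1, by omega⟩
    obtain ⟨g, hg⟩ := CfsgLib.OrderBound.Unit.exists_point_torus C hq hF (m := n) (by omega)
    exact ⟨g, by rw [hg, if_pos (by rw [add_comm, Nat.odd_add_one, Nat.not_odd_iff_even] at hodd; exact hodd),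
      Nat.add_sub_cancel_left]⟩
  · obtain ⟨N, hN, hG⟩ := hbd g
    refine hN.trans ?_
    subst hf1
    obtain rfl : q = p := by rw [hq, pow_one]
    rcases hG with h | ⟨h, -⟩ | ⟨-, h⟩ | ⟨-, h, -⟩ | ⟨h, h'⟩
    · refine h.trans ?_
      have h5 : q ^ (d - 1) = q * q ^ (d - 2) := by rw [← pow_succ']; congr 1; omega
      rw [h5, add_mul, one_mul, mul_comm q]
      omega
    · exact absurd h (hnot hodd)
    · exact h.trans_eq (mul_comm _ _)
    · exact absurd h (hnot hodd)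
    · subst h
      refine h'.trans ?_
      rw [add_mul, one_mul, ← pow_succ, show d - 2 + 1 = d - 1 by omega]
  · obtain ⟨n, rfl⟩ : ∃ n, d = 2 + n := ⟨d - 2, by omega⟩
    subst hf1
    obtain rfl : q = p := by rw [hq, pow_one]
    have hn : Odd n := by
      rcases Nat.even_or_odd n with h | h
      · exact absurd ((by decide : Even 2).add h) (hnot hodd)
      · exact h
    obtain ⟨g, hg⟩ := CfsgLib.OrderBound.Unit.exists_unip_torus C hq hF le_rfl (k := 2) (by norm_num) hn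
    have hc : Nat.clog q 2 = 1 := by
      have h := Nat.clog_eq_one (b := q) (le_refl 2) hp.two_le
      exact h
    exact ⟨g, by rw [hg, hc, pow_one, Nat.add_sub_cancel_left, mul_comm]⟩
  · obtain ⟨N, hN, hG⟩ := hbd g
    refine hN.trans ?_
    rcases hG with h | ⟨-, h⟩ | ⟨h, -⟩ | ⟨h, -⟩ | ⟨h, -⟩
    · omega
    · exact h
    · exact absurd heven (hnot h)
    · omega
    · omega
  · obtain ⟨n, rfl⟩ : ∃ n, d = 1 + n := ⟨d - 1, by omega⟩
    obtain ⟨g, hg⟩ := CfsgLib.OrderBound.Unit.exists_point_torus C hq hF (m := n) (by omega)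
    exact ⟨g, by rw [hg, if_neg (by rw [add_comm, Nat.even_add_one] at heven; exact heven),
      Nat.add_sub_cancel_left]⟩
  · obtain ⟨N, hN, hG⟩ := hbd g
    refine hN.trans ?_
    subst hq2'
    have hd4 : 4 ≤ d := by
      obtain ⟨r, hr⟩ := heven
      omega
    have h5 : 2 ^ (d - 1) = 4 * 2 ^ (d - 3) := by
      rw [show (4 : ℕ) = 2 ^ 2 from rfl, ← pow_add]; congr 1; omega
    rcases hG with h | ⟨-, h⟩ | ⟨h, -⟩ | ⟨-, -, h⟩ | ⟨-, h⟩
    · omega
    · omega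
    · exact absurd heven (hnot h)
    · exact h
    · omega
  · obtain ⟨n, rfl⟩ : ∃ n, d = 3 + n := ⟨d - 3, by omega⟩
    have hn : Odd n := by
      rcases Nat.even_or_odd n with h | h
      · exact absurd heven (hnot ((by decide : Odd 3).add_even h))
      · exact h
    obtain ⟨g, hg⟩ := CfsgLib.OrderBound.Unit.exists_unip_torus C hq hF hf (k := 3) (by norm_num) hn
    have hp2 := hqp hq2'
    subst hp2
    have hc : Nat.clog 2 3 = 2 := by
      rw [Nat.clog_of_two_le one_lt_two (by norm_num), Nat.clog_of_two_le one_lt_two (by norm_num),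
        Nat.clog_of_right_le_one (by norm_num)]
    exact ⟨g, by rw [hg, hc, hq2', Nat.add_sub_cancel_left]; norm_num⟩

end Cfsg.Agent.S2263
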