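import Cfsg.Statements.S2268
import Mathlib

set_option autoImplicit false
open Cfsg Pointwise

namespace Cfsg.Agent.S2268

/-- Let G be a finite group with an abelian Sylow p-subgroup P and let Q ≤ P. Then N_G(Q) = (N_G(Q) ∩ N_G(P))·C_G(Q), so that N_G(Q)/C_G(Q) is a homomorphic image of the subgroup (N_G(Q) ∩ N_G(P))/C_G(P) of N_G(P)/C_G(P); in particular the order of N_G(Q)/C_G(Q) divides the order of N_G(P)/C_G(P). -/
theorem result {G : Type*} [Group G] [Finite G] {p : ℕ} [Fact p.Prime]
    (P : Sylow p G) (hP : IsMulCommutative (P : Subgroup G)) (Q : Subgroup G) (hQ : Q ≤ (P : Subgroup G)) :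
    Subgroup.normalizer (Q : Set G) =
      (Subgroup.normalizer (Q : Set G) ⊓ Subgroup.normalizer ((P : Subgroup G) : Set G)) ⊔ Subgroup.centralizer (Q : Set G) ∧
    ((Subgroup.centralizer (Q : Set G)).subgroupOf (Subgroup.normalizer (Q : Set G))).index ∣ ((Subgroup.centralizer ((P : Subgroup G) : Set G)).subgroupOf (Subgroup.normalizer ((P : Subgroup G) : Set G))).index := by
  classical
  set N := Subgroup.normalizer (Q : Set G)
  set C := Subgroup.centralizer (Q : Set G)
  set NP := Subgroup.normalizer ((P : Subgroup G) : Set G)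
  set CP := Subgroup.centralizer ((P : Subgroup G) : Set G)
  have hPC : (P : Subgroup G) ≤ C := by
    intro x hx
    rw [Subgroup.mem_centralizer_iff]
    intro y hy
    exact congrArg Subtype.val (hP.is_comm.comm (⟨y, hQ hy⟩ : (P : Subgroup G)) ⟨x, hx⟩)
  have hCN : C ≤ N := Subgroup.centralizer_le_normalizer _
  have hCPC : CP ≤ C := Subgroup.centralizer_le (fun x hx => hQ hx)
  have hEq : N = (N ⊓ NP) ⊔ C := by
    refine le_antisymm (fun n hn => ?_) (sup_le inf_le_left hCN)
    let P₁ : Sylow p C := P.subtype hPC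
    have hnP : ∀ x ∈ (P : Subgroup G), n * x * n⁻¹ ∈ C := by
      intro x hx
      rw [Subgroup.mem_centralizer_iff]
      intro y hy
      have h1 : n⁻¹ * y * n ∈ (Q : Set G) := by
        have := (Subgroup.mem_normalizer_iff.1 (N.inv_mem hn) y).1 hy
        simpa using this
      have h2 := Subgroup.mem_centralizer_iff.1 (hPC hx) _ h1
      calc y * (n * x * n⁻¹) = n * ((n⁻¹ * y * n) * x) * n⁻¹ := by group
        _ = n * (x * (n⁻¹ * y * n)) * n⁻¹ := by rw [h2]
        _ = _ := by group
    let P₂' : Sylow p G := MulAut.conj n • P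
    have hP₂ : (P₂' : Subgroup G) ≤ C := by
      intro x hx
      change x ∈ MulAut.conj n • (P : Subgroup G) at hx
      rw [Subgroup.mem_pointwise_smul_iff_inv_smul_mem] at hx
      have := hnP _ hx
      simpa [MulAut.smul_def, mul_assoc] using this
    obtain ⟨c, hc⟩ := MulAction.exists_smul_eq C (P₂'.subtype hP₂) P₁
    rw [Sylow.smul_subtype] at hc
    have hc2 := Sylow.subtype_injective hc
    have hcn : (c : G) * n ∈ NP := by
      exact Sylow.smul_eq_iff_mem_normalizer.1 ((mul_smul _ _ _).trans hc2)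
    have : n = (c : G)⁻¹ * ((c : G) * n) := by group
    rw [this, sup_comm]
    exact Subgroup.mul_mem_sup (C.inv_mem c.2)
      ⟨N.mul_mem (hCN c.2) hn, hcn⟩
  refine ⟨hEq, ?_⟩
  change C.relIndex N ∣ CP.relIndex NP
  have h1 : C.relIndex N = C.relIndex (N ⊓ NP) := by
    haveI : (C.subgroupOf N).Normal := by
      refine ⟨fun c hc g => ?_⟩
      rw [Subgroup.mem_subgroupOf] at hc ⊢
      simp only [Subgroup.coe_mul, Subgroup.coe_inv]
      rw [Subgroup.mem_centralizer_iff] at hc ⊢
      intro y hy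
      have h1 : (g : G)⁻¹ * y * g ∈ (Q : Set G) := by
        have := (Subgroup.mem_normalizer_iff.1 (N.inv_mem g.2) y).1 hy
        simpa using this
      have h2 := hc _ h1
      calc y * ((g : G) * c * (g : G)⁻¹) = g * (((g : G)⁻¹ * y * g) * c) * (g : G)⁻¹ := by group
        _ = g * (c * ((g : G)⁻¹ * y * g)) * (g : G)⁻¹ := by rw [h2]
        _ = _ := by group
    have htop : (N ⊓ NP).subgroupOf N ⊔ C.subgroupOf N = ⊤ := by
      rw [← Subgroup.subgroupOf_sup inf_le_left hCN, ← hEq, Subgroup.subgroupOf_self]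
    calc C.relIndex N = (C.subgroupOf N).relIndex (⊤ : Subgroup N) := by
          rw [← Subgroup.subgroupOf_self, Subgroup.relIndex_subgroupOf le_rfl]
      _ = (C.subgroupOf N).relIndex ((N ⊓ NP).subgroupOf N) := by
          rw [← htop, Subgroup.relIndex_sup_right]
      _ = C.relIndex (N ⊓ NP) := Subgroup.relIndex_subgroupOf inf_le_left
  rw [h1]
  have h2 : CP ≤ N ⊓ NP := le_inf (hCPC.trans hCN) (Subgroup.centralizer_le_normalizer _)
  refine (Subgroup.relIndex_dvd_of_le_left (N ⊓ NP) hCPC).trans ?_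
  exact Dvd.intro _ (Subgroup.relIndex_mul_relIndex CP (N ⊓ NP) NP h2 inf_le_right)

end Cfsg.Agent.S2268
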