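import Cfsg.Statements.S2270
import Mathlib


set_option autoImplicit false
open Cfsg

namespace Cfsg.Agent.S2270

/-- Let n ≥ 3, p an odd prime, and P an abelian Sylow p-subgroup of the symmetric group S_n (with p dividing n!, so that P ≠ 1). Then N(P)/C(P) has even order. -/
theorem result (n : ℕ) (hn : 3 ≤ n) {p : ℕ} [Fact p.Prime] (hp : p ≠ 2) (hpn : p ≤ n)
    (P : Sylow p (Equiv.Perm (Fin n))) (hP : IsMulCommutative (P : Subgroup (Equiv.Perm (Fin n)))) :
    2 ∣ ((Subgroup.centralizer ((P : Subgroup (Equiv.Perm (Fin n))) : Set (Equiv.Perm (Fin n)))).subgroupOf (Subgroup.normalizer ((P : Subgroup (Equiv.Perm (Fin n))) : Set (Equiv.Perm (Fin n))))).index := by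
  classical
  haveI := hP
  haveI hn' : ((Subgroup.centralizer ((P : Subgroup (Equiv.Perm (Fin n))) : Set (Equiv.Perm (Fin n)))).subgroupOf
      (Subgroup.normalizer ((P : Subgroup (Equiv.Perm (Fin n))) : Set (Equiv.Perm (Fin n))))).Normal := by
    refine ⟨fun c hc g => ?_⟩
    rw [Subgroup.mem_subgroupOf, Subgroup.mem_centralizer_iff] at hc ⊢
    intro x hx
    have hx' : (g : Equiv.Perm (Fin n))⁻¹ * x * g ∈ (P : Subgroup (Equiv.Perm (Fin n))) := by
      have := (Subgroup.mem_normalizer_iff.1 (inv_mem g.2) x).1 hx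
      rwa [inv_inv] at this
    have h1 := hc _ hx'
    simp only [Subgroup.coe_mul, InvMemClass.coe_inv]
    calc x * ((g : Equiv.Perm (Fin n)) * c * (g : Equiv.Perm (Fin n))⁻¹)
        = g * (((g : Equiv.Perm (Fin n))⁻¹ * x * g) * c) * (g : Equiv.Perm (Fin n))⁻¹ := by group
      _ = g * (c * ((g : Equiv.Perm (Fin n))⁻¹ * x * g)) * (g : Equiv.Perm (Fin n))⁻¹ := by rw [h1]
      _ = g * c * (g : Equiv.Perm (Fin n))⁻¹ * x := by group
  -- an element of order `p` in the Sylow subgroup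
  have hdvd : p ∣ Nat.card (P : Subgroup (Equiv.Perm (Fin n))) := by
    apply P.dvd_card_of_dvd_card
    rw [Nat.card_eq_fintype_card, Fintype.card_perm, Fintype.card_fin, (Fact.out : p.Prime).dvd_factorial]
    exact hpn
  obtain ⟨x, hx⟩ := exists_prime_orderOf_dvd_card' p hdvd
  rw [← Subgroup.orderOf_coe] at hx
  have hne : (x : Equiv.Perm (Fin n))⁻¹ ≠ x := by
    intro h
    have h2 : (x : Equiv.Perm (Fin n)) ^ 2 = 1 := by
      rw [pow_two]
      nth_rw 1 [← h]
      exact inv_mul_cancel _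
    have := orderOf_dvd_of_pow_eq_one h2
    rw [hx, Nat.prime_dvd_prime_iff_eq Fact.out Nat.prime_two] at this
    exact hp this
  have hconj : IsConj (x : Equiv.Perm (Fin n))⁻¹ x := by
    rw [Equiv.Perm.isConj_iff_cycleType_eq, Equiv.Perm.cycleType_inv]
  obtain ⟨g, hg⟩ := isConj_iff.1 hconj
  have hg' : g⁻¹ * (x : Equiv.Perm (Fin n)) * g = (x : Equiv.Perm (Fin n))⁻¹ := by
    conv_lhs => rw [← hg]
    group
  obtain ⟨m, hm, he⟩ := P.conj_eq_normalizer_conj_of_mem (x : Equiv.Perm (Fin n)) g x.2 (by rw [hg']; exact inv_mem x.2)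
  rw [hg'] at he
  have hmc : m * x * m⁻¹ = (x : Equiv.Perm (Fin n))⁻¹ := by
    rw [eq_comm, inv_eq_iff_eq_inv]
    simp only [mul_inv_rev, inv_inv]
    calc (x : Equiv.Perm (Fin n)) = m * (m⁻¹ * x * m) * m⁻¹ := by group
      _ = m * (x : Equiv.Perm (Fin n))⁻¹ * m⁻¹ := by rw [← he]
      _ = _ := by group
  by_contra hodd
  obtain ⟨d, hd⟩ : ∃ d, d = ((Subgroup.centralizer ((P : Subgroup (Equiv.Perm (Fin n))) : Set (Equiv.Perm (Fin n)))).subgroupOf
      (Subgroup.normalizer ((P : Subgroup (Equiv.Perm (Fin n))) : Set (Equiv.Perm (Fin n))))).index := ⟨_, rfl⟩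
  rw [← hd] at hodd
  have hpow : ∀ j : ℕ, m ^ j * x * (m ^ j)⁻¹ =
      if Even j then (x : Equiv.Perm (Fin n)) else (x : Equiv.Perm (Fin n))⁻¹ := by
    intro j
    induction j with
    | zero => simp
    | succ j ihj =>
      have : m ^ (j + 1) * x * (m ^ (j + 1))⁻¹ = m * (m ^ j * x * (m ^ j)⁻¹) * m⁻¹ := by
        rw [pow_succ']; group
      rw [this, ihj]
      by_cases hj : Even j
      · simp [hj, Nat.even_add_one, hmc]
      · simp only [hj, if_false, Nat.even_add_one, not_false_eq_true, if_true]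
        rw [← hmc]
        calc m * (m * x * m⁻¹) * m⁻¹ = m * (m * x * m⁻¹) * m⁻¹ := rfl
          _ = m * (x : Equiv.Perm (Fin n))⁻¹ * m⁻¹ := by rw [hmc]
          _ = (m * x * m⁻¹)⁻¹ := by group
          _ = _ := by rw [hmc, inv_inv]
  have hmem := Subgroup.pow_index_mem
    ((Subgroup.centralizer ((P : Subgroup (Equiv.Perm (Fin n))) : Set (Equiv.Perm (Fin n)))).subgroupOf
      (Subgroup.normalizer ((P : Subgroup (Equiv.Perm (Fin n))) : Set (Equiv.Perm (Fin n))))) ⟨m, hm⟩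
  rw [← hd, Subgroup.mem_subgroupOf, SubgroupClass.coe_pow, Subgroup.mem_centralizer_iff] at hmem
  have h1 := hmem x x.2
  have h2 := hpow d
  rw [if_neg (fun h => hodd (even_iff_two_dvd.1 h)), ← h1, mul_inv_cancel_right] at h2
  exact hne h2.symm

end Cfsg.Agent.S2270
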