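import Cfsg.Statements.S2271
import Mathlib
-- import your own Cfsg.Agent.* helpers here

set_option autoImplicit false
open Cfsg

namespace Cfsg.Agent.S2271

open Equiv Finset

variable {α : Type*} [Fintype α] [DecidableEq α]

/-- `1` if `c (h y) = h (b y)`, else `0`. -/
def agree (b c h : Perm α) (y : α) : ℤ := if c (h y) = h (b y) then 1 else 0

/-- Number of places where `c` and the conjugate of `b` by `h` agree. -/
def cnt (b c h : Perm α) : ℤ := ∑ y, agree b c h y

theorem natCard_fixed (a b h : Perm α) :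
    (Nat.card (Function.fixedPoints ⇑(a * (h * b * h⁻¹))) : ℤ) = cnt b a⁻¹ h := by
  have e : {y // a⁻¹ (h y) = h (b y)} ≃ Function.fixedPoints ⇑(a * (h * b * h⁻¹)) :=
    Equiv.subtypeEquiv h fun y => by
      rw [Function.mem_fixedPoints_iff]
      simp only [Perm.mul_apply, Perm.coe_inv, Equiv.symm_apply_apply]
      rw [Equiv.symm_apply_eq]
      exact eq_comm
  rw [← Nat.card_congr e, Nat.card_eq_fintype_card, Fintype.card_subtype]
  simp only [cnt, agree, Finset.sum_boole]

theorem exists_quad (hα : 5 ≤ Fintype.card α) (b : Perm α) (hb : b ≠ 1) :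
    ∃ i j k l : α, b i = k ∧ i ≠ k ∧ i ≠ l ∧ k ≠ l ∧ b l ≠ i ∧ j ≠ i ∧ j ≠ k ∧ j ≠ l ∧ b k ≠ j := by
  obtain ⟨i, hi⟩ : ∃ i, b i ≠ i := by
    by_contra! h
    exact hb (Equiv.ext h)
  have out : ∀ S : Finset α, S.card ≤ 4 → ∃ x, x ∉ S := by
    intro S hS
    by_contra! h
    have : (Finset.univ : Finset α).card ≤ S.card := Finset.card_le_card fun x _ => h x
    rw [Finset.card_univ] at this
    omega
  obtain ⟨l, hl⟩ := out {i, b i, b.symm i} (Finset.card_le_three.trans (by norm_num))
  obtain ⟨j, hj⟩ := out {i, b i, l, b (b i)} Finset.card_le_four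
  simp only [Finset.mem_insert, Finset.mem_singleton, not_or] at hl hj
  refine ⟨i, j, b i, l, rfl, hi.symm, Ne.symm hl.1, Ne.symm hl.2.1, ?_, hj.1, hj.2.1, hj.2.2.1,
    fun h => hj.2.2.2 h.symm⟩
  intro h
  exact hl.2.2 (by rw [← h, Equiv.symm_apply_apply])

theorem exists_perm_four (i j k l i' j' k' l' : α) (h : [i, j, k, l].Nodup)
    (h' : [i', j', k', l'].Nodup) : ∃ g : Perm α, g i = i' ∧ g j = j' ∧ g k = k' ∧ g l = l' := by
  haveI := Equiv.Perm.isMultiplyPretransitive α 4
  let e : Fin 4 ↪ α := ⟨fun m => [i, j, k, l].get (m.cast rfl),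
    fun _ _ hm => by simpa using (List.nodup_iff_injective_get.1 h) hm⟩
  let e' : Fin 4 ↪ α := ⟨fun m => [i', j', k', l'].get (m.cast rfl),
    fun _ _ hm => by simpa using (List.nodup_iff_injective_get.1 h') hm⟩
  obtain ⟨g, hg⟩ := MulAction.exists_smul_eq (Perm α) e e'
  exact ⟨g, DFunLike.congr_fun hg 0, DFunLike.congr_fun hg 1, DFunLike.congr_fun hg 2,
    DFunLike.congr_fun hg 3⟩

/-- The agreement count is not constant on the symmetric group. -/
theorem cnt_not_const (hα : 5 ≤ Fintype.card α) (b c : Perm α) (hb : b ≠ 1) (hc : c ≠ 1) (C : ℤ)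
    (hC : ∀ h, cnt b c h = C) : False := by
  obtain ⟨i, j, k, l, bik, nik, nil', nkl, bli, nji, njk, njl, bkj⟩ := exists_quad hα b hb
  obtain ⟨i', j', k', l', cik, nik', nil'', nkl', cli, nji', njk', njl', ckj⟩ := exists_quad hα c hc
  obtain ⟨h, hi, hj, hk, hl⟩ := exists_perm_four i j k l i' j' k' l'
    (by simp [nik, nil', nkl, Ne.symm nji, njk, njl])
    (by simp [nik', nil'', nkl', Ne.symm nji', njk', njl'])
  set s := Equiv.swap i j with hs
  set t := Equiv.swap k l with ht
  let D : α → ℤ := fun y =>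
    agree b c h y - agree b c (h * s) y - agree b c (h * t) y + agree b c (h * (s * t)) y
  have hsum : ∑ y, D y = 0 := by
    simp only [D, Finset.sum_add_distrib, Finset.sum_sub_distrib]
    have := hC h; have := hC (h * s); have := hC (h * t); have := hC (h * (s * t))
    simp only [cnt] at *
    omega
  have si : s i = j := Equiv.swap_apply_left ..
  have sj : s j = i := Equiv.swap_apply_right ..
  have tk : t k = l := Equiv.swap_apply_left ..
  have tl : t l = k := Equiv.swap_apply_right ..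
  have s0 : ∀ x, x ≠ i → x ≠ j → s x = x := fun x => Equiv.swap_apply_of_ne_of_ne
  have t0 : ∀ x, x ≠ k → x ≠ l → t x = x := fun x => Equiv.swap_apply_of_ne_of_ne
  have sk : s k = k := s0 k nik.symm njk.symm
  have sl : s l = l := s0 l nil'.symm njl.symm
  have ti : t i = i := t0 i nik nil'
  have tj : t j = j := t0 j njk njl
  have c1 : c j' ≠ k' := fun e => nji' (c.injective (e.trans cik.symm))
  have c2 : c i' ≠ l' := by rw [cik]; exact nkl'
  have b1 : b j ≠ k := fun e => nji (b.injective (e.trans bik.symm))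
  have pos : ∀ y, 0 ≤ D y ∧ (y = i → 0 < D y) := by
    intro y
    by_cases yi : y = i
    · subst yi
      simp only [D, agree, Perm.mul_apply, bik, si, ti, sk, tk, sl, hi, hj, hk, hl, cik, c1, nkl',
        if_true, if_false]
      split_ifs <;> simp
    refine ⟨?_, fun e => absurd e yi⟩
    by_cases yj : y = j
    · subst yj
      by_cases e : b y = l
      · simp only [D, agree, Perm.mul_apply, e, sj, tj, ti, sk, sl, tl, hi, hj, hk, hl, c1, c2,
          if_false]
        split_ifs <;> simp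
      · have hh : t (b y) = b y := t0 _ b1 e
        simp only [D, agree, Perm.mul_apply, hh, sj, tj, ti]
        simp
    by_cases yk : y = k
    · subst yk
      by_cases e : b y = i
      · simp only [D, agree, Perm.mul_apply, e, si, ti, tk, sk, sl, hi, hj, hk, hl, cli, ckj,
          if_false]
        split_ifs <;> simp
      · have hh : s (b y) = b y := s0 _ e bkj
        have hh2 : s (t (b y)) = t (b y) := by
          by_cases e1 : b y = y
          · rw [e1, tk, sl]
          by_cases e2 : b y = l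
          · rw [e2, tl, sk]
          rw [t0 _ e1 e2, hh]
        simp only [D, agree, Perm.mul_apply, hh, hh2, sk, tk, sl]
        simp
    by_cases yl : y = l
    · subst yl
      by_cases e : b y = j
      · simp only [D, agree, Perm.mul_apply, e, sj, tj, tl, sk, sl, hi, hj, hk, hl, cli, ckj,
          if_false]
        split_ifs <;> simp
      · have hh : s (b y) = b y := s0 _ bli e
        have hh2 : s (t (b y)) = t (b y) := by
          by_cases e1 : b y = k
          · rw [e1, tk, sl]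
          by_cases e2 : b y = y
          · rw [e2, tl, sk]
          rw [t0 _ e1 e2, hh]
        simp only [D, agree, Perm.mul_apply, hh, hh2, sk, tl, sl]
        simp
    have hys : s y = y := s0 y yi yj
    have hyt : t y = y := t0 y yk yl
    by_cases e1 : b y = i
    · simp [D, agree, Perm.mul_apply, hys, hyt, e1, si, ti]
    by_cases e2 : b y = j
    · simp [D, agree, Perm.mul_apply, hys, hyt, e2, sj, tj]
    have hh : s (b y) = b y := s0 _ e1 e2
    have hh2 : s (t (b y)) = t (b y) := by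
      by_cases e3 : b y = k
      · rw [e3, tk, sl]
      by_cases e4 : b y = l
      · rw [e4, tl, sk]
      rw [t0 _ e3 e4, hh]
    simp [D, agree, Perm.mul_apply, hys, hyt, hh, hh2]
  have : 0 < ∑ y, D y :=
    Finset.sum_pos' (fun y _ => (pos y).1) ⟨i, Finset.mem_univ _, (pos i).2 rfl⟩
  omega

theorem sum_sign_mul_eq_zero (G : Perm α → ℤ) (p r : α) (hpr : p ≠ r)
    (hG : ∀ h, G (h * Equiv.swap p r) = G h) :
    ∑ h : Perm α, ((Perm.sign h : ℤˣ) : ℤ) * G h = 0 := by
  have h1 := Equiv.sum_comp (Equiv.mulRight (Equiv.swap p r))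
    (fun h : Perm α => ((Perm.sign h : ℤˣ) : ℤ) * G h)
  simp only [Equiv.coe_mulRight, hG, Perm.sign_mul, Perm.sign_swap hpr, Units.val_mul, Units.val_neg,
    Units.val_one, mul_neg, mul_one, neg_mul, Finset.sum_neg_distrib] at h1
  omega

/-- In degree at least six a count constant on even permutations is constant. -/
theorem cnt_const_of_even (hα : 6 ≤ Fintype.card α) (b c : Perm α) (C : ℤ)
    (hC : ∀ h, Perm.sign h = 1 → cnt b c h = C) : ∀ h, cnt b c h = C := by
  have two : ∀ y z : α, ∃ p r, p ≠ r ∧ ∀ x ∈ ({y, b y, z, b z} : Finset α), x ≠ p ∧ x ≠ r := by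
    intro y z
    have h4 : ({y, b y, z, b z} : Finset α).card ≤ 4 := Finset.card_le_four
    have : 1 < ({y, b y, z, b z} : Finset α)ᶜ.card := by rw [Finset.card_compl]; omega
    obtain ⟨p, hp, r, hr, hpr⟩ := Finset.one_lt_card.1 this
    exact ⟨p, r, hpr, fun x hx => ⟨fun e => Finset.mem_compl.1 hp (e ▸ hx),
      fun e => Finset.mem_compl.1 hr (e ▸ hx)⟩⟩
  have inv : ∀ (h : Perm α) (p r y : α), y ≠ p → y ≠ r → b y ≠ p → b y ≠ r →
      agree b c (h * Equiv.swap p r) y = agree b c h y := by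
    intro h p r y h1 h2 h3 h4
    simp only [agree, Perm.mul_apply, Equiv.swap_apply_of_ne_of_ne h1 h2,
      Equiv.swap_apply_of_ne_of_ne h3 h4]
  have s0 : ∑ h : Perm α, ((Perm.sign h : ℤˣ) : ℤ) = 0 := by
    obtain ⟨p, r, hpr⟩ := Fintype.one_lt_card_iff.1 (show 1 < Fintype.card α by omega)
    simpa using sum_sign_mul_eq_zero (fun _ : Perm α => (1 : ℤ)) p r hpr (fun _ => rfl)
  have s1 : ∑ h : Perm α, ((Perm.sign h : ℤˣ) : ℤ) * cnt b c h = 0 := by
    simp only [cnt, Finset.mul_sum]
    rw [Finset.sum_comm]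
    refine Finset.sum_eq_zero fun y _ => ?_
    obtain ⟨p, r, hpr, hx⟩ := two y y
    exact sum_sign_mul_eq_zero (fun h => agree b c h y) p r hpr fun h =>
      inv h p r y (hx y (by simp)).1 (hx y (by simp)).2 (hx (b y) (by simp)).1 (hx (b y) (by simp)).2
  have s2 : ∑ h : Perm α, ((Perm.sign h : ℤˣ) : ℤ) * (cnt b c h * cnt b c h) = 0 := by
    simp only [cnt, Finset.mul_sum, Finset.sum_mul]
    rw [Finset.sum_comm]
    refine Finset.sum_eq_zero fun y _ => ?_
    rw [Finset.sum_comm]
    refine Finset.sum_eq_zero fun z _ => ?_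
    obtain ⟨p, r, hpr, hx⟩ := two y z
    refine sum_sign_mul_eq_zero _ p r hpr fun h => ?_
    rw [inv h p r y (hx y (by simp)).1 (hx y (by simp)).2 (hx (b y) (by simp)).1
      (hx (b y) (by simp)).2, inv h p r z (hx z (by simp)).1 (hx z (by simp)).2
      (hx (b z) (by simp)).1 (hx (b z) (by simp)).2]
  have key : ∑ h : Perm α, ((Perm.sign h : ℤˣ) : ℤ) * ((cnt b c h - C) * (cnt b c h - C)) = 0 := by
    have e : ∀ h : Perm α, ((Perm.sign h : ℤˣ) : ℤ) * ((cnt b c h - C) * (cnt b c h - C))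
        = ((Perm.sign h : ℤˣ) : ℤ) * (cnt b c h * cnt b c h)
          - 2 * C * (((Perm.sign h : ℤˣ) : ℤ) * cnt b c h)
          + C * C * ((Perm.sign h : ℤˣ) : ℤ) := fun h => by ring
    simp only [e, Finset.sum_add_distrib, Finset.sum_sub_distrib, ← Finset.mul_sum, s0, s1, s2]
    ring
  have hle : ∀ h ∈ (Finset.univ : Finset (Perm α)),
      ((Perm.sign h : ℤˣ) : ℤ) * ((cnt b c h - C) * (cnt b c h - C)) ≤ 0 := by
    intro h _
    rcases Int.units_eq_one_or (Perm.sign h) with e | e
    · simp [hC h e]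
    · rw [e]; simpa using mul_self_nonneg (cnt b c h - C)
  intro h
  have h0 := (Finset.sum_eq_zero_iff_of_nonpos hle).1 key h (Finset.mem_univ _)
  rcases mul_eq_zero.1 h0 with e | e
  · exact absurd e (Units.ne_zero _)
  · rcases mul_eq_zero.1 e with e | e <;> omega

theorem five_dichotomy : ∀ a : Perm (Fin 5), Perm.sign a = 1 →
    (∃ x y : Fin 5, x ≠ y ∧ a x = x ∧ a y = y) ∨ (∃ x, a x ≠ x ∧ a (a x) = x) ∨ a ^ 5 = 1 := by
  decide +kernel

theorem five_cycle_or_odd (a : Perm (Fin 5)) (ha : a ≠ 1) :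
    (∃ o, Perm.sign o = -1 ∧ o * a = a * o) ∨ ∃ g, a = g * finRotate 5 * g⁻¹ := by
  rcases Int.units_eq_one_or (Perm.sign a) with he | he
  swap
  · exact Or.inl ⟨a, he, rfl⟩
  rcases five_dichotomy a he with ⟨x, y, hxy, hx, hy⟩ | ⟨x, hx, hxx⟩ | h5
  · refine Or.inl ⟨Equiv.swap x y, Perm.sign_swap hxy, ?_⟩
    rw [Equiv.mul_swap_eq_swap_mul, hx, hy]
  · refine Or.inl ⟨Equiv.swap x (a x), Perm.sign_swap (Ne.symm hx), ?_⟩
    rw [Equiv.mul_swap_eq_swap_mul, hxx, Equiv.swap_comm]
  · right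
    haveI : Fact (Nat.Prime 5) := ⟨by norm_num⟩
    have ho : orderOf a = 5 := orderOf_eq_prime h5 ha
    obtain ⟨m, hm⟩ := Perm.cycleType_prime_order (σ := a) (by rw [ho]; norm_num)
    have hs : a.cycleType.sum ≤ 5 := by
      rw [Perm.sum_cycleType]
      exact le_trans (Finset.card_le_univ _) (by simp)
    rw [hm, ho, Multiset.sum_replicate] at hs
    have hm0 : m = 0 := by simp at hs; omega
    have hconj : IsConj (finRotate 5) a :=
      Perm.isConj_iff_cycleType_eq.2 (by rw [hm, ho, hm0, cycleType_finRotate]; rfl)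
    obtain ⟨g, hg⟩ := isConj_iff.1 hconj
    exact ⟨g, hg.symm⟩

/-- Multiplication by two modulo five. -/
def dbl : Perm (Fin 5) := ⟨![0, 2, 4, 1, 3], ![0, 3, 1, 4, 2], by decide, by decide⟩

theorem dbl_facts : Perm.sign dbl = -1 ∧
    (∀ x, (finRotate 5 * finRotate 5) x ≠ x) ∧
    (∀ x, (finRotate 5 * (dbl * finRotate 5 * dbl⁻¹)) x ≠ x) := by
  decide +kernel


/-- Let n ≥ 5 and let a, b be non-identity permutations in the symmetric group S_n. Then the number of fixed points is not constant on the set of products a′b′ with a′ conjugate to a and b′ conjugate to b under the alternating group: there are even permutations g₁, h₁, g₂, h₂ such that (g₁ a g₁⁻¹)(h₁ b h₁⁻¹) and (g₂ a g₂⁻¹)(h₂ b h₂⁻¹) have different numbers of fixed points. -/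
theorem result (n : ℕ) (hn : 5 ≤ n) (a b : Equiv.Perm (Fin n)) (ha : a ≠ 1) (hb : b ≠ 1) :
    ∃ g₁ h₁ g₂ h₂ : Equiv.Perm (Fin n), g₁ ∈ alternatingGroup (Fin n) ∧ h₁ ∈ alternatingGroup (Fin n) ∧ g₂ ∈ alternatingGroup (Fin n) ∧ h₂ ∈ alternatingGroup (Fin n) ∧
      Nat.card (Function.fixedPoints ⇑(g₁ * a * g₁⁻¹ * (h₁ * b * h₁⁻¹))) ≠
        Nat.card (Function.fixedPoints ⇑(g₂ * a * g₂⁻¹ * (h₂ * b * h₂⁻¹))) := by
  classical
  by_contra hcon
  push Not at hcon
  set C := cnt b a⁻¹ 1 with hCdef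
  have hone : (1 : Perm (Fin n)) ∈ alternatingGroup (Fin n) := one_mem _
  have hC : ∀ h, Perm.sign h = 1 → cnt b a⁻¹ h = C := by
    intro h hh
    have e := hcon 1 h 1 1 hone (Perm.mem_alternatingGroup.2 hh) hone hone
    have h1 := natCard_fixed a b h
    have h2 := natCard_fixed a b (1 : Perm (Fin n))
    simp only [one_mul, mul_one, inv_one] at e h2
    rw [← h1, hCdef, ← h2, e]
  have hall : ∀ h, cnt b a⁻¹ h = C := by
    rcases Nat.lt_or_ge n 6 with h6 | h6
    swap
    · exact cnt_const_of_even (by simpa using h6) b a⁻¹ C hC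
    obtain rfl : n = 5 := by omega
    rcases five_cycle_or_odd a ha with ⟨o, ho, hoa⟩ | ⟨g0, hg0⟩
    · intro h
      rcases Int.units_eq_one_or (Perm.sign h) with e | e
      · exact hC h e
      · rw [← hC (o * h) (by simp [ho, e])]
        refine Finset.sum_congr rfl fun y _ => ?_
        have hoa' : ∀ z, a⁻¹ (o z) = o (a⁻¹ z) := by
          intro z
          have hc : Commute o a := hoa
          exact (Equiv.congr_fun hc.inv_right.eq z).symm
        simp only [agree, Perm.mul_apply, hoa', o.injective.eq_iff]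
    rcases five_cycle_or_odd b hb with ⟨o, ho, hob⟩ | ⟨g1, hg1⟩
    · intro h
      rcases Int.units_eq_one_or (Perm.sign h) with e | e
      · exact hC h e
      · rw [← hC (h * o) (by simp [ho, e]), cnt, cnt]
        rw [← Equiv.sum_comp o (fun y => agree b a⁻¹ h y)]
        refine Finset.sum_congr rfl fun y _ => ?_
        have hob' : o (b y) = b (o y) := Equiv.congr_fun hob y
        simp only [agree, Perm.mul_apply, hob']
    exfalso
    obtain ⟨hd, hr1, hr2⟩ := dbl_facts
    obtain ⟨k, hk1, hk2⟩ : ∃ k : Perm (Fin 5), Perm.sign (g0 * k * g1⁻¹) = 1 ∧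
        ∀ x, (finRotate 5 * (k * finRotate 5 * k⁻¹)) x ≠ x := by
      rcases Int.units_eq_one_or (Perm.sign (g0 * g1⁻¹)) with e | e
      · exact ⟨1, by simpa using e, by simpa using hr1⟩
      · refine ⟨dbl, ?_, hr2⟩
        rw [Perm.sign_mul, Perm.sign_mul, mul_right_comm, ← Perm.sign_mul, e, hd]
        rfl
    have hz : cnt b a⁻¹ (g0 * k * g1⁻¹) = 0 := by
      rw [← natCard_fixed]
      have : IsEmpty (Function.fixedPoints
          ⇑(a * (g0 * k * g1⁻¹ * b * (g0 * k * g1⁻¹)⁻¹))) := by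
        refine ⟨fun ⟨x, hx⟩ => ?_⟩
        have hprod : a * (g0 * k * g1⁻¹ * b * (g0 * k * g1⁻¹)⁻¹)
            = g0 * (finRotate 5 * (k * finRotate 5 * k⁻¹)) * g0⁻¹ := by
          rw [hg0, hg1]; group
        rw [hprod, Function.mem_fixedPoints_iff, Perm.mul_apply, Perm.mul_apply] at hx
        exact hk2 (g0⁻¹ x) (g0.injective (by rw [hx, Perm.coe_inv, Equiv.apply_symm_apply]))
      rw [Nat.card_of_isEmpty, Nat.cast_zero]
    -- but some even conjugate agrees somewhere
    obtain ⟨i, hi⟩ : ∃ i, b i ≠ i := by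
      by_contra! h
      exact hb (Equiv.ext h)
    obtain ⟨u, hu⟩ : ∃ u, a⁻¹ u ≠ u := by
      by_contra! h
      exact ha (inv_eq_one.1 (Equiv.ext h))
    obtain ⟨h, hh1, hh2⟩ : ∃ h : Perm (Fin 5), h i = u ∧ h (b i) = a⁻¹ u := by
      refine ⟨Equiv.swap ((Equiv.swap i u) (b i)) (a⁻¹ u) * Equiv.swap i u, ?_, ?_⟩
      · rw [Perm.mul_apply, Equiv.swap_apply_left, Equiv.swap_apply_of_ne_of_ne _ (Ne.symm hu)]
        intro e
        exact hi ((Equiv.swap i u).injective (e.symm.trans (Equiv.swap_apply_left i u).symm))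
      · rw [Perm.mul_apply, Equiv.swap_apply_left]
    obtain ⟨h', hs, hh1', hh2'⟩ : ∃ h', Perm.sign h' = 1 ∧ h' i = u ∧ h' (b i) = a⁻¹ u := by
      rcases Int.units_eq_one_or (Perm.sign h) with e | e
      · exact ⟨h, e, hh1, hh2⟩
      obtain ⟨p, hp, r, hr, hpr⟩ := Finset.one_lt_card.1
        (show 1 < ({i, b i} : Finset (Fin 5))ᶜ.card by
          rw [Finset.card_compl, Finset.card_pair (Ne.symm hi)]; decide)
      simp only [Finset.mem_compl, Finset.mem_insert, Finset.mem_singleton, not_or] at hp hr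
      refine ⟨h * Equiv.swap p r, by simp [e, Perm.sign_swap hpr], ?_, ?_⟩
      · rw [Perm.mul_apply, Equiv.swap_apply_of_ne_of_ne (Ne.symm hp.1) (Ne.symm hr.1), hh1]
      · rw [Perm.mul_apply, Equiv.swap_apply_of_ne_of_ne (Ne.symm hp.2) (Ne.symm hr.2), hh2]
    have hpos : 0 < cnt b a⁻¹ h' := by
      refine Finset.sum_pos' (fun y _ => ?_) ⟨i, Finset.mem_univ _, ?_⟩
      · simp only [agree]; split_ifs <;> simp
      · simp [agree, hh1', hh2']
    rw [hC h' hs, ← hC _ hk1, hz] at hpos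
    exact lt_irrefl _ hpos
  exact cnt_not_const (by simpa using hn) b a⁻¹ hb (fun e => ha (inv_eq_one.1 e)) C hall

end Cfsg.Agent.S2271
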