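import Cfsg.Statements.S2272
import Cfsg.Agent.Lib.Classical.ClassProd.Trace

set_option autoImplicit false
open Cfsg

namespace Cfsg.Agent.S2272

/-- Let F be a finite field and d ≥ 3, and let a, b be non-identity elements of PSL_d(F). Then the product of the conjugacy classes of a and b is not a single conjugacy class: there are conjugates a′ of a and b′ of b such that a′b′ is not conjugate to ab. -/
theorem result {F : Type*} [Field F] [Fintype F] (d : ℕ) (hd : 3 ≤ d)
    (a b : Matrix.ProjectiveSpecialLinearGroup (Fin d) F) (ha : a ≠ 1) (hb : b ≠ 1) :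
    ∃ g h : Matrix.ProjectiveSpecialLinearGroup (Fin d) F, ¬ IsConj (a * b) (g * a * g⁻¹ * (h * b * h⁻¹)) := by
  classical
  obtain ⟨A, rfl⟩ := QuotientGroup.mk_surjective a
  obtain ⟨B, rfl⟩ := QuotientGroup.mk_surjective b
  have hns : ∀ X : Matrix.SpecialLinearGroup (Fin d) F, (QuotientGroup.mk X : Matrix.ProjectiveSpecialLinearGroup (Fin d) F) ≠ 1 →
      ∀ c : F, (X : Matrix (Fin d) (Fin d) F) ≠ c • 1 := by
    intro X hX c hc
    refine hX ((QuotientGroup.eq_one_iff _).2 (Matrix.SpecialLinearGroup.mem_center_iff.2 ⟨c, ?_, ?_⟩))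
    · have h := X.2
      rw [hc, Matrix.det_smul, Matrix.det_one, mul_one] at h
      exact h
    · rw [hc, Matrix.smul_one_eq_diagonal]; rfl
  by_contra hcon
  push Not at hcon
  set T := ((A * B : Matrix.SpecialLinearGroup (Fin d) F) : Matrix (Fin d) (Fin d) F).trace with hT
  obtain ⟨g, hg⟩ := CfsgLib.Classical.ClassProd.exists_trace_eq hd A B (hns A ha) (hns B hb) (if T = 0 then 1 else 0)
  obtain ⟨c, hc⟩ := isConj_iff.1 (hcon (QuotientGroup.mk g) 1)
  obtain ⟨C, rfl⟩ := QuotientGroup.mk_surjective c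
  rw [one_mul, inv_one, mul_one] at hc
  simp only [← QuotientGroup.mk_mul, ← QuotientGroup.mk_inv] at hc
  obtain ⟨r, hr, hz⟩ := Matrix.SpecialLinearGroup.mem_center_iff.1 (QuotientGroup.eq.1 hc)
  have e : g * A * g⁻¹ * B = C * (A * B) * C⁻¹ * ((C * (A * B) * C⁻¹)⁻¹ * (g * A * g⁻¹ * B)) := by group
  rw [e, Matrix.SpecialLinearGroup.coe_mul, ← hz, Matrix.scalar_apply, ← Matrix.smul_one_eq_diagonal,
    mul_smul_comm, mul_one, Matrix.trace_smul, Matrix.SpecialLinearGroup.coe_mul, Matrix.trace_mul_comm,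
    ← Matrix.SpecialLinearGroup.coe_mul, ← mul_assoc, inv_mul_cancel, one_mul, ← hT, smul_eq_mul] at hg
  by_cases h0 : T = 0
  · rw [if_pos h0, h0, mul_zero] at hg
    exact zero_ne_one hg
  · rw [if_neg h0, mul_eq_zero] at hg
    rcases hg with h | h
    · rw [h, zero_pow (by simp; omega)] at hr
      exact zero_ne_one hr
    · exact h0 h

end Cfsg.Agent.S2272
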