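import Cfsg.Statements.S2276
import Cfsg.Agent.Lib.Invol.AltPair.Main

set_option autoImplicit false
open Cfsg

namespace Cfsg.Agent.S2276

/-- Let n ≥ 5, p ≥ 3 a prime, and u, w non-identity elements of p-power order in the alternating group A_n. Then there is g ∈ A_n such that u·(g w g⁻¹) does not have p-power order and ⟨u, g w g⁻¹⟩ is not solvable. -/
theorem result (n : ℕ) (hn : 5 ≤ n) (p : ℕ) (hp : p.Prime) (hp3 : 3 ≤ p) (u w : alternatingGroup (Fin n)) (hu : u ≠ 1) (hw : w ≠ 1)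
    (hu' : ∃ k : ℕ, orderOf u = p ^ k) (hw' : ∃ k : ℕ, orderOf w = p ^ k) :
    ∃ g : alternatingGroup (Fin n), (¬ ∃ k : ℕ, orderOf (u * (g * w * g⁻¹)) = p ^ k) ∧
      ¬ Group.IsSolvable ↥(Subgroup.closure ({u, g * w * g⁻¹} : Set (alternatingGroup (Fin n)))) := by
  have hu1 : (u : Equiv.Perm (Fin n)) ≠ 1 := fun e => hu (Subtype.ext e)
  have hw1 : (w : Equiv.Perm (Fin n)) ≠ 1 := fun e => hw (Subtype.ext e)
  obtain ⟨g, hg, ho, hs⟩ := CfsgLib.Invol.AltPair.good_of_prime_pow p hp hp3 n (Fin n) (Fintype.card_fin n) hn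
    (u : Equiv.Perm (Fin n)) w hu1 hw1 (by simpa [Subgroup.orderOf_coe] using hu')
    (by simpa [Subgroup.orderOf_coe] using hw')
  refine ⟨⟨g, hg⟩, fun h => ho ?_, fun h => hs ?_⟩
  · obtain ⟨k, hk⟩ := h
    rw [← Subgroup.orderOf_coe] at hk
    exact ⟨k, hk⟩
  · haveI := h
    have hmap : (Subgroup.closure ({u, (⟨g, hg⟩ : alternatingGroup (Fin n)) * w * (⟨g, hg⟩ : alternatingGroup (Fin n))⁻¹} :
        Set (alternatingGroup (Fin n)))).map (alternatingGroup (Fin n)).subtype =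
        Subgroup.closure ({(u : Equiv.Perm (Fin n)), g * w * g⁻¹} : Set (Equiv.Perm (Fin n))) := by
      rw [MonoidHom.map_closure, Set.image_pair]
      rfl
    rw [← hmap]
    exact Group.isSolvable_of_surjective (MonoidHom.subgroupMap_surjective _ _)

end Cfsg.Agent.S2276
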