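import Cfsg.Statements.S2286
-- import your own Cfsg.Agent.* helpers here
import Cfsg.Agent.Lib.Lie.ShortPres.SL2

set_option autoImplicit false
open Cfsg

namespace Cfsg.Agent.S2286

open Matrix CfsgLib.Lie.ShortPres


/-- For every finite field F, SL_2(F) and PSL_2(F) have presentations with 3 generators and at most 9 relations; when F has characteristic 2, PSL_2(F) has a presentation with 3 generators and at most 5 relations. -/
theorem result {F : Type*} [Field F] [Fintype F] :
    (∃ rels : Finset (FreeGroup (Fin 3)), rels.card ≤ 9 ∧ Nonempty (PresentedGroup (↑rels : Set (FreeGroup (Fin 3))) ≃* Matrix.SpecialLinearGroup (Fin 2) F)) ∧ (∃ rels : Finset (FreeGroup (Fin 3)), rels.card ≤ 9 ∧ Nonempty (PresentedGroup (↑rels : Set (FreeGroup (Fin 3))) ≃* Matrix.ProjectiveSpecialLinearGroup (Fin 2) F)) ∧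
    (CharP F 2 → ∃ rels : Finset (FreeGroup (Fin 3)), rels.card ≤ 5 ∧ Nonempty (PresentedGroup (↑rels : Set (FreeGroup (Fin 3))) ≃* Matrix.ProjectiveSpecialLinearGroup (Fin 2) F)) := by
  obtain ⟨p, hchar⟩ := CharP.exists F
  haveI := hchar
  haveI hpf : Fact p.Prime := ⟨CharP.char_is_prime F p⟩
  obtain ⟨n, -, hn⟩ := FiniteField.card F p
  letI : Algebra (ZMod p) F := ZMod.algebra F p
  set proj : Matrix.SpecialLinearGroup (Fin 2) F →* Matrix.ProjectiveSpecialLinearGroup (Fin 2) F :=
    QuotientGroup.mk' (Subgroup.center (Matrix.SpecialLinearGroup (Fin 2) F))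
  have hproj : Function.Surjective proj := QuotientGroup.mk'_surjective _
  have hkerproj : proj.ker = Subgroup.center (Matrix.SpecialLinearGroup (Fin 2) F) := QuotientGroup.ker_mk' _
  have two : CharP F 2 → (∃ rels : Finset (FreeGroup (Fin 3)), rels.card ≤ 5 ∧ Nonempty (PresentedGroup (↑rels : Set (FreeGroup (Fin 3))) ≃* Matrix.SpecialLinearGroup (Fin 2) F)) ∧
      (∃ rels : Finset (FreeGroup (Fin 3)), rels.card ≤ 5 ∧ Nonempty (PresentedGroup (↑rels : Set (FreeGroup (Fin 3))) ≃* Matrix.ProjectiveSpecialLinearGroup (Fin 2) F)) := by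
    intro h2
    obtain rfl : p = 2 := CharP.eq F hchar h2
    refine ⟨two_presentation hn (MonoidHom.id _) Function.bijective_id, two_presentation hn proj ⟨?_, hproj⟩⟩
    rw [← MonoidHom.ker_eq_bot_iff, hkerproj]
    exact center_eq_bot_of_two CharTwo.two_eq_zero
  refine ⟨?_, ?_, fun h2 => (two h2).2⟩
  · by_cases hp2 : p = 2
    · subst hp2
      obtain ⟨rels, hcard, he⟩ := (two hchar).1
      exact ⟨rels, by omega, he⟩
    · exact odd_presentation hn hp2 (MonoidHom.id _) Function.surjective_id 1 (fun ω => by simp)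
        (fun rels _ φ _ g hg => by rw [MonoidHom.mem_ker, MonoidHom.id_apply] at hg; simp [hg])
  · by_cases hp2 : p = 2
    · subst hp2
      obtain ⟨rels, hcard, he⟩ := (two hchar).2
      exact ⟨rels, by omega, he⟩
    · refine odd_presentation hn hp2 proj hproj (FreeGroup.of 1 ^ 2) (fun ω => ?_) (fun rels he φ hφ => ?_)
      · rw [← MonoidHom.mem_ker, hkerproj, map_pow, FreeGroup.lift_apply_of]
        rw [Matrix.SpecialLinearGroup.mem_center_iff]
        refine ⟨-1, by simp, ?_⟩
        show _ = (wm (1 : F) ^ 2).1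
        rw [sq, CfsgLib.Lie.SL2Rel.val_mul', val_wm one_ne_zero]
        ext i j
        fin_cases i <;> fin_cases j <;> simp [Matrix.mul_apply, Fin.sum_univ_two]
      · rw [hkerproj]
        refine center_le_ker φ ?_
        rw [hφ]
        exact he

end Cfsg.Agent.S2286
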