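import Cfsg.Statements.S2287
-- import your own Cfsg.Agent.* helpers here
import Cfsg.Agent.Lib.Lie.ShortPres.SL3

set_option autoImplicit false
open Cfsg

namespace Cfsg.Agent.S2287

open Polynomial Matrix CfsgLib.Lie.ShortPres CfsgLib.Char.SingleBond

variable {F : Type*} [Field F] [Fintype F] {p : ℕ} [hp : Fact p.Prime] [Algebra (ZMod p) F]

theorem zmod_two : ∀ z : ZMod 2, z = 0 ∨ z = 1 := by decide

/-- the relators common to the cases, and the verification in both directions -/
theorem presentation {n : ℕ} (hn : Fintype.card F = p ^ n) :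
    ∃ rels : Finset (FreeGroup (Fin 4)), rels.card ≤ 14 ∧
      Nonempty (PresentedGroup (↑rels : Set (FreeGroup (Fin 4))) ≃* Matrix.SpecialLinearGroup (Fin 3) F) := by
  classical
  haveI : CharP F p := (Algebra.charP_iff (ZMod p) F p).1 inferInstance
  obtain ⟨ω, hω0, hord, hω⟩ := exists_primitive (F := F)
  have hn0 : n ≠ 0 := fun e => by rw [e, pow_zero] at hn; exact absurd hn Fintype.one_lt_card.ne'
  have hgen : ∀ β : F, ∃ f : (ZMod p)[X], aeval ω f = β := by
    refine exists_aeval_eq hn ω fun d hd hd2 e => sq_not_fixed hn hω0 hord d hd hd2 ?_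
    rw [← pow_mul, mul_comm, pow_mul, e]
  have hq3 : 2 ≤ n → ω + 1 ≠ 0 := by
    intro h2n e
    have h1 : ω ^ 2 = 1 := by rw [eq_neg_of_add_eq_zero_left e]; ring
    exact sq_not_fixed hn hω0 hord 1 le_rfl h2n (by rw [h1, one_pow])
  obtain ⟨k, hk, hk4⟩ : ∃ k : ℕ, (2 ≤ n → ω ^ k = 1 + ω) ∧ (p = 2 ∧ n = 2 → k = 2) := by
    by_cases h4' : p = 2 ∧ n = 2
    · refine ⟨2, fun _ => ?_, fun _ => rfl⟩
      obtain ⟨hp2, hn2⟩ := h4'
      subst hp2 hn2
      have hq4 : Fintype.card F = 4 := by rw [hn]; norm_num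
      have hω3 : ω ^ 3 = 1 := by
        have := pow_orderOf_eq_one ω
        rwa [hord, hq4] at this
      have hω1 : ω ≠ 1 := fun e => by rw [e, orderOf_one, hq4] at hord; omega
      have hω2 : ω ^ 2 + ω + 1 = 0 := by
        have : (ω - 1) * (ω ^ 2 + ω + 1) = 0 := by linear_combination hω3
        exact (mul_eq_zero.1 this).resolve_left (sub_ne_zero.2 hω1)
      have h20 : (2 : F) = 0 := CharTwo.two_eq_zero
      linear_combination hω2 - (1 + ω) * h20
    by_cases h2n : 2 ≤ n
    · obtain ⟨k, hk⟩ := hω (1 + ω) (by rw [add_comm]; exact hq3 h2n)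
      exact ⟨k, fun _ => hk, fun h => absurd h h4'⟩
    · exact ⟨0, fun h => absurd h h2n, fun h => absurd h h4'⟩
  obtain ⟨gi, hgi⟩ := hgen ω⁻¹
  let U : FreeGroup (Fin 4) := FreeGroup.of 0
  let T : FreeGroup (Fin 4) := FreeGroup.of 1
  let C : FreeGroup (Fin 4) := FreeGroup.of 2
  let D : FreeGroup (Fin 4) := FreeGroup.of 3
  let r1 := U ^ p
  let r2 := U * conjPow U D 1 * U⁻¹ * (conjPow U D 1)⁻¹
  let r3 := if 2 ≤ n then D ^ k * U * (D ^ k)⁻¹ * (U * conjPow U D 1)⁻¹ else 1
  let r4 := pw U D (minpoly (ZMod p) ω)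
  let r5 := T⁻¹ * (U * (T * U * T⁻¹) * U)
  let r6 := T⁻¹ * D * T * U * (T⁻¹ * D * T)⁻¹ * (pw U D gi)⁻¹
  let r7 := D * (T⁻¹ * D * T) * D⁻¹ * (T⁻¹ * D * T)⁻¹
  let r8 := C⁻¹ * (T * C * T * C⁻¹)
  let r9 := C ^ 3
  let r10 := D⁻¹ * (D * T * D⁻¹ * T⁻¹ * (C * (D * T * D⁻¹ * T⁻¹) * C⁻¹))
  -- verification in the matrix group
  set L := FreeGroup.lift (gens3 ω hω0)
  have hU : L U = slX 0 1 1 := FreeGroup.lift_apply_of
  have hT : L T = gt := FreeGroup.lift_apply_of
  have hC : L C = gc := FreeGroup.lift_apply_of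
  have hD : L D = gd ω hω0 := FreeGroup.lift_apply_of
  have h01 : (0 : Fin 3) ≠ 1 := by decide
  have hadd01 : ∀ b b' : F, slX (n := 3) 0 1 (b + b') = slX 0 1 b * slX 0 1 b' := stRel_slX.add h01
  have hz01 : slX (n := 3) 0 1 (0 : F) = 1 := by
    apply Subtype.ext
    rw [slX_val h01]; simp
  have hpw : ∀ f : (ZMod p)[X], L (pw U D f) = slX 0 1 (aeval ω f) := fun f => by
    rw [map_pw, hU, hD]
    exact pw_eq_of_param (fun b => slX 0 1 b) hadd01 _ ω (gd_x hω0) f
  have hc1 : L (conjPow U D 1) = slX 0 1 ω := by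
    simp only [conjPow, pow_one, map_mul, map_inv, hU, hD]
    exact (gd_x hω0 1).trans (by rw [mul_one])
  have hpowx : ∀ m : ℕ, slX (n := 3) 0 1 (1 : F) ^ m = slX 0 1 (m : F) := by
    intro m
    induction m with
    | zero => rw [pow_zero, Nat.cast_zero, hz01]
    | succ m ih => rw [pow_succ, ih, ← hadd01, Nat.cast_succ]
  have hdk : ∀ m : ℕ, gd ω hω0 ^ m * slX 0 1 1 * (gd ω hω0 ^ m)⁻¹ = slX 0 1 (ω ^ m) := by
    intro m
    induction m with
    | zero => simp
    | succ m ih =>
      rw [pow_succ', show gd ω hω0 * gd ω hω0 ^ m * slX 0 1 1 * (gd ω hω0 * gd ω hω0 ^ m)⁻¹ =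
        gd ω hω0 * (gd ω hω0 ^ m * slX 0 1 1 * (gd ω hω0 ^ m)⁻¹) * (gd ω hω0)⁻¹ by group, ih, pow_succ']
      exact gd_x hω0 _
  have v1 : L r1 = 1 := by simp only [r1, map_pow, hU, hpowx, CharP.cast_eq_zero F p, hz01]
  have v2 : L r2 = 1 := by
    simp only [r2, map_mul, map_inv, hU, hc1]
    rw [mul_inv_eq_one, mul_inv_eq_iff_eq_mul, ← hadd01, ← hadd01, add_comm]
  have v3 : L r3 = 1 := by
    simp only [r3]
    split
    · rename_i h2n
      simp only [map_mul, map_inv, map_pow, hU, hD, hc1, hdk, hk h2n, ← hadd01, mul_inv_cancel]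
    · exact map_one L
  have v4 : L r4 = 1 := by simp only [r4, hpw, minpoly.aeval, hz01]
  have v5 : L r5 = 1 := by
    simp only [r5, map_mul, map_inv, hU, hT, gt_x]
    rw [inv_mul_eq_one]; rfl
  have v6 : L r6 = 1 := by
    simp only [r6, map_mul, map_inv, hU, hT, hD, hpw, hgi]
    rw [mul_inv_eq_one]
    exact (gd'_x hω0 1).trans (by rw [mul_one])
  have v7 : L r7 = 1 := by
    simp only [r7, map_mul, map_inv, hT, hD]
    rw [mul_inv_eq_one, mul_inv_eq_iff_eq_mul]
    exact gd_comm hω0
  have v8 : L r8 = 1 := by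
    simp only [r8, map_mul, map_inv, hT, hC]
    rw [inv_mul_eq_one]; exact gc_braid
  have v9 : L r9 = 1 := by simp only [r9, map_pow, hC, gc_cube]
  have v10 : L r10 = 1 := by
    simp only [r10, map_mul, map_inv, hT, hC, hD]
    rw [inv_mul_eq_one]; exact gd_prod hω0
  have vW : ∀ f : (ZMod p)[X], L (wordA U T C (pw U D f)) = 1 ∧ L (wordB U T C (pw U D f)) = 1 ∧
      L (wordC U T C (pw U D f)) = 1 := fun f => by
    obtain ⟨a, b, c⟩ := map_words L U T C (pw U D f)
    rw [a, b, c, hU, hT, hC, hpw]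
    exact words_slX _
  -- the facts in a presented group
  have key : ∀ (rels : Finset (FreeGroup (Fin 4))), (∀ r ∈ rels, L r = 1) →
      r1 ∈ rels → r3 ∈ rels → r5 ∈ rels → r6 ∈ rels → r7 ∈ rels → r8 ∈ rels → r9 ∈ rels → r10 ∈ rels →
      ((r2 ∈ rels ∧ r4 ∈ rels) ∨ (p = 2 ∧ n = 2)) →
      ∀ E : Set F, (∀ S : F → Prop, S 0 → (∀ b c, S b → S c → S (b + c)) → (∀ b, S b → S (ω ^ 3 * b)) →
        (∀ b ∈ E, S b) → ∀ b, S b) →
      (∀ b ∈ E, ∃ f : (ZMod p)[X], aeval ω f = b ∧ wordA U T C (pw U D f) ∈ rels ∧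
        wordB U T C (pw U D f) ∈ rels ∧ wordC U T C (pw U D f) ∈ rels) →
      Nonempty (PresentedGroup (↑rels : Set (FreeGroup (Fin 4))) ≃* Matrix.SpecialLinearGroup (Fin 3) F) := by
    intro rels hval m1 m3 m5 m6 m7 m8 m9 m10 m24 E hE hwords
    set R : Set (FreeGroup (Fin 4)) := ↑rels
    set π := PresentedGroup.mk R
    have hrel : ∀ r ∈ rels, π r = 1 := fun r hr => PresentedGroup.one_of_mem hr
    set u := (PresentedGroup.of (rels := R) 0) with hu
    set t := (PresentedGroup.of (rels := R) 1) with ht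
    set c := (PresentedGroup.of (rels := R) 2) with hc
    set d := (PresentedGroup.of (rels := R) 3) with hd
    have hmU : π U = u := rfl
    have hmT : π T = t := rfl
    have hmC : π C = c := rfl
    have hmD : π D = d := rfl
    have hmpw : ∀ f : (ZMod p)[X], π (pw U D f) = pw u d f := fun f => by rw [map_pw, hmU, hmD]
    have hmc1 : π (conjPow U D 1) = conjPow u d 1 := by
      simp only [conjPow, map_mul, map_pow, map_inv, hmU, hmD]
    have e1 : u ^ p = 1 := by simpa only [r1, map_pow, hmU] using hrel r1 m1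
    have e3 : 2 ≤ n → d ^ k * u * (d ^ k)⁻¹ = u * conjPow u d 1 := fun h2n => by
      have := hrel r3 m3
      simp only [r3, if_pos h2n, map_mul, map_inv, map_pow, hmU, hmD, hmc1] at this
      exact mul_inv_eq_one.1 this
    have h24 : Commute u (conjPow u d 1) ∧ pw u d (minpoly (ZMod p) ω) = 1 := by
      rcases m24 with ⟨m2, m4⟩ | ⟨hp2, hn2⟩
      · refine ⟨?_, by rw [← hmpw]; exact hrel r4 m4⟩
        have := hrel r2 m2
        simp only [r2, map_mul, map_inv, hmU, hmc1] at this
        exact mul_inv_eq_iff_eq_mul.1 (mul_inv_eq_one.1 this)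
      · -- `q = 4`
        subst hp2 hn2
        have h3 := e3 le_rfl
        have huinv : ∀ y : PresentedGroup R, y ^ 2 = 1 → y⁻¹ = y := fun y hy =>
          inv_eq_of_mul_eq_one_right (by rw [← sq]; exact hy)
        have ha : (u * conjPow u d 1) ^ 2 = 1 := by rw [← h3, conj_pow, e1]; group
        have hb : conjPow u d 1 ^ 2 = 1 := by rw [conjPow, conj_pow, e1]; group
        have hcom : Commute u (conjPow u d 1) := by
          have := huinv _ ha
          rw [_root_.mul_inv_rev, huinv _ hb, huinv _ e1] at this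
          exact this.symm
        refine ⟨hcom, ?_⟩
        -- the minimal polynomial is `X ^ 2 + X + 1` and `k ≡ 2`
        have h20 : (2 : F) = 0 := CharTwo.two_eq_zero
        have hq4 : Fintype.card F = 4 := by rw [hn]; norm_num
        have hω3 : ω ^ 3 = 1 := by
          have := pow_orderOf_eq_one ω
          rwa [hord, hq4] at this
        have hω1 : ω ≠ 1 := fun e => by rw [e, orderOf_one, hq4] at hord; omega
        have hω2 : ω ^ 2 + ω + 1 = 0 := by
          have : (ω - 1) * (ω ^ 2 + ω + 1) = 0 := by linear_combination hω3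
          exact (mul_eq_zero.1 this).resolve_left (sub_ne_zero.2 hω1)
        have hμ : minpoly (ZMod 2) ω = X ^ 2 + X + 1 := by
          refine (minpoly.unique _ _ (by monicity!) (by simp [hω2]) fun q hq hq0 => ?_).symm
          refine le_trans (le_of_eq ?_) (minpoly.min (ZMod 2) ω hq hq0)
          have hint : IsIntegral (ZMod 2) ω := Algebra.IsIntegral.isIntegral ω
          rw [Polynomial.degree_eq_natDegree (minpoly.ne_zero hint)]
          have hd2 : (minpoly (ZMod 2) ω).natDegree = 2 := by
            have hle := minpoly.natDegree_le (A := ZMod 2) ω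
            have hF : Module.finrank (ZMod 2) F = 2 := by
              have h2 := Module.card_eq_pow_finrank (K := ZMod 2) (V := F)
              rw [ZMod.card, hn] at h2
              exact (Nat.pow_right_injective le_rfl h2).symm
            have hpos := minpoly.natDegree_pos hint
            have hne1 : (minpoly (ZMod 2) ω).natDegree ≠ 1 := by
              intro h1
              obtain ⟨z, hz⟩ := minpoly.mem_range_of_degree_eq_one (ZMod 2) ω
                (by rw [Polynomial.degree_eq_natDegree (minpoly.ne_zero hint), h1]; rfl)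
              rcases zmod_two z with rfl | rfl
              · exact hω0 (by rw [← hz, map_zero])
              · exact hω1 (by rw [← hz, map_one])
            omega
          rw [hd2]
          compute_degree!
        have hkey : conjPow u d 2 = u * conjPow u d 1 := by
          rw [← h3, hk4 ⟨rfl, rfl⟩]
          rfl
        rw [hμ]
        have hdeg : (X ^ 2 + X + 1 : (ZMod 2)[X]).natDegree = 2 := by compute_degree!
        simp only [pw, hdeg, List.range_succ, List.range_zero, List.nil_append, List.cons_append,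
          List.map_cons, List.map_nil, List.prod_cons, List.prod_nil, mul_one]
        simp [coeff_one, coeff_X, ZMod.val_one, conjPow_zero, hkey]
        rw [← mul_assoc, ← sq]; exact ha
    have hint : IsIntegral (ZMod p) ω := Algebra.IsIntegral.isIntegral ω
    have hcm : ∀ i j, Commute (conjPow u d i) (conjPow u d j) := by
      by_cases h2n : 2 ≤ n
      · exact commute_conjPow (Commute.pow_right (Commute.refl d) k) h24.1 (e3 h2n)
      · refine commute_conjPow_of_small h24.1 (minpoly.monic hint) (minpoly.natDegree_pos hint) ?_ h24.2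
        have hd := minpoly.natDegree_le (A := ZMod p) ω
        have hF : Module.finrank (ZMod p) F = n := by
          have h2 := Module.card_eq_pow_finrank (K := ZMod p) (V := F)
          rw [ZMod.card, hn] at h2
          exact (Nat.pow_right_injective hp.out.two_le h2).symm
        omega
    refine nonempty_equiv3 R ω hω0 hω hgen hval u t c d rfl rfl rfl rfl e1 hcm h24.2 gi hgi ?_ ?_ ?_ ?_ ?_ ?_
      E hE ?_
    · have := hrel r6 m6
      simp only [r6, map_mul, map_inv, hmU, hmT, hmD, hmpw] at this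
      exact mul_inv_eq_one.1 this
    · have := hrel r5 m5
      simp only [r5, map_mul, map_inv, hmU, hmT] at this
      exact inv_mul_eq_one.1 this
    · have := hrel r7 m7
      simp only [r7, map_mul, map_inv, hmT, hmD] at this
      exact mul_inv_eq_iff_eq_mul.1 (mul_inv_eq_one.1 this)
    · simpa only [r9, map_pow, hmC] using hrel r9 m9
    · have := hrel r8 m8
      simp only [r8, map_mul, map_inv, hmT, hmC] at this
      exact inv_mul_eq_one.1 this
    · have := hrel r10 m10
      simp only [r10, map_mul, map_inv, hmT, hmC, hmD] at this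
      exact inv_mul_eq_one.1 this
    · intro b hb
      obtain ⟨f, hf, ha, hb', hc'⟩ := hwords b hb
      obtain ⟨ma, mb, mc⟩ := map_words π U T C (pw U D f)
      refine ⟨f, hf, ?_, ?_, ?_⟩
      · have := hrel _ ha; rwa [ma, hmU, hmT, hmC, hmpw] at this
      · have := hrel _ hb'; rwa [mb, hmU, hmT, hmC, hmpw] at this
      · have := hrel _ hc'; rwa [mc, hmU, hmT, hmC, hmpw] at this
  let W : (ZMod p)[X] → Fin 3 → FreeGroup (Fin 4) := fun f =>
    ![wordA U T C (pw U D f), wordB U T C (pw U D f), wordC U T C (pw U D f)]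
  by_cases h4 : Fintype.card F = 4
  · have hp2 : p = 2 := by
      have : p ∣ 4 := h4 ▸ hn ▸ dvd_pow_self p hn0
      exact (Nat.prime_dvd_prime_iff_eq hp.out Nat.prime_two).1
        (hp.out.dvd_of_dvd_pow (show p ∣ 2 ^ 2 by simpa using this))
    have hn2 : n = 2 := by
      subst hp2
      exact Nat.pow_right_injective le_rfl (show 2 ^ n = 2 ^ 2 by rw [← hn, h4])
    let rels : Finset (FreeGroup (Fin 4)) :=
      {r1, r3, r5, r6, r7, r8, r9, r10, W 1 0, W 1 1, W 1 2, W X 0, W X 1, W X 2}
    refine ⟨rels, card_fourteen _ _ _ _ _ _ _ _ _ _ _ _ _ _, key rels ?_ (by simp [rels]) (by simp [rels])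
      (by simp [rels]) (by simp [rels]) (by simp [rels]) (by simp [rels]) (by simp [rels]) (by simp [rels])
      (Or.inr ⟨hp2, hn2⟩) {1, ω} ?_ ?_⟩
    · intro r hr
      simp only [rels, Finset.mem_insert, Finset.mem_singleton] at hr
      rcases hr with rfl | rfl | rfl | rfl | rfl | rfl | rfl | rfl | rfl | rfl | rfl | rfl | rfl | rfl
      exacts [v1, v3, v5, v6, v7, v8, v9, v10, (vW 1).1, (vW 1).2.1, (vW 1).2.2, (vW X).1, (vW X).2.1,
        (vW X).2.2]
    · intro S h0 hadd _ hbase b
      rcases eq_or_ne b 0 with rfl | hb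
      · exact h0
      obtain ⟨m, rfl⟩ := hω b hb
      clear hb
      suffices S (ω ^ m) ∧ S (ω ^ (m + 1)) from this.1
      induction m with
      | zero => exact ⟨by rw [pow_zero]; exact hbase 1 (by simp), by rw [pow_one]; exact hbase ω (by simp)⟩
      | succ m ih =>
        refine ⟨ih.2, ?_⟩
        have e : ω ^ (m + 1 + 1) = ω ^ m + ω ^ (m + 1) := by
          have hω3 : ω ^ 3 = 1 := by
            have := pow_orderOf_eq_one ω
            rwa [hord, h4] at this
          have hω1 : ω ≠ 1 := fun e => by rw [e, orderOf_one, h4] at hord; omega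
          have hω2 : ω ^ 2 + ω + 1 = 0 := by
            have : (ω - 1) * (ω ^ 2 + ω + 1) = 0 := by linear_combination hω3
            exact (mul_eq_zero.1 this).resolve_left (sub_ne_zero.2 hω1)
          have h2 : (2 : F) = 0 := by subst hp2; exact CharTwo.two_eq_zero
          linear_combination ω ^ m * hω2 - (ω ^ (m + 1) + ω ^ m) * h2
        rw [e]; exact hadd _ _ ih.1 ih.2
    · rintro b (rfl | rfl)
      · exact ⟨1, map_one _, by simp [rels, W], by simp [rels, W], by simp [rels, W]⟩
      · exact ⟨X, aeval_X _, by simp [rels, W], by simp [rels, W], by simp [rels, W]⟩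
  · let rels : Finset (FreeGroup (Fin 4)) :=
      {r1, r2, r3, r4, r5, r6, r7, r8, r9, r10, W 1 0, W 1 1, W 1 2}
    refine ⟨rels, card_thirteen _ _ _ _ _ _ _ _ _ _ _ _ _, key rels ?_ (by simp [rels]) (by simp [rels])
      (by simp [rels]) (by simp [rels]) (by simp [rels]) (by simp [rels]) (by simp [rels]) (by simp [rels])
      (Or.inl ⟨by simp [rels], by simp [rels]⟩) {1} ?_ ?_⟩
    · intro r hr
      simp only [rels, Finset.mem_insert, Finset.mem_singleton] at hr
      rcases hr with rfl | rfl | rfl | rfl | rfl | rfl | rfl | rfl | rfl | rfl | rfl | rfl | rfl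
      exacts [v1, v2, v3, v4, v5, v6, v7, v8, v9, v10, (vW 1).1, (vW 1).2.1, (vW 1).2.2]
    · intro S h0 hadd hmul hbase
      exact forall_of_generated (p := p) (ω ^ 3)
        (exists_aeval_eq hn _ (cube_not_fixed hn h4 hω0 hord)) S h0 (hbase 1 rfl) hadd hmul
    · rintro b rfl
      exact ⟨1, map_one _, by simp [rels, W], by simp [rels, W], by simp [rels, W]⟩


/-- For every finite field F other than the field with 9 elements, SL_3(F) has a presentation with 4 generators and at most 14 relations. -/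
theorem result {F : Type*} [Field F] [Fintype F] (hq9 : Fintype.card F ≠ 9) : ∃ rels : Finset (FreeGroup (Fin 4)), rels.card ≤ 14 ∧ Nonempty (PresentedGroup (↑rels : Set (FreeGroup (Fin 4))) ≃* Matrix.SpecialLinearGroup (Fin 3) F) := by
  obtain ⟨p, hchar⟩ := CharP.exists F
  haveI := hchar
  haveI : Fact p.Prime := ⟨CharP.char_is_prime F p⟩
  obtain ⟨n, -, hn⟩ := FiniteField.card F p
  letI : Algebra (ZMod p) F := ZMod.algebra F p
  exact presentation hn

end Cfsg.Agent.S2287
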