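import Cfsg.Statements.S2288
-- import your own Cfsg.Agent.* helpers here
import Cfsg.Agent.Lib.Lie.BoundedPres.SL.Link

set_option autoImplicit false
open Cfsg

namespace Cfsg.Agent.S2288

open CfsgLib.Lie.BoundedPres

/-- a system for `SL` gives one for `PSL` -/
theorem sys_psl' {F : Type*} [Field F] [Finite F] {n k r : ℕ} (hn : 1 ≤ n)
    (h : HasSysJ (Matrix.SpecialLinearGroup (Fin n) F) k r 0) :
    HasSysJ (Matrix.ProjectiveSpecialLinearGroup (Fin n) F) k (r + 1) 0 := by
  haveI : NeZero n := ⟨by omega⟩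
  haveI : IsCyclic (Subgroup.center (Matrix.SpecialLinearGroup (Fin n) F)) :=
    (MulEquiv.isCyclic (Matrix.SpecialLinearGroup.center_equiv_rootsOfUnity (n := Fin n) (R := F))).2 inferInstance
  obtain ⟨z, hz⟩ := IsCyclic.exists_generator (α := Subgroup.center (Matrix.SpecialLinearGroup (Fin n) F))
  refine h.quotient (QuotientGroup.mk' _) (QuotientGroup.mk'_surjective _) z.1 ?_
  rw [QuotientGroup.ker_mk']
  refine le_antisymm (fun x hx => ?_) (Subgroup.zpowers_le.2 z.2)
  obtain ⟨i, hi⟩ := Subgroup.mem_zpowers_iff.1 (hz ⟨x, hx⟩)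
  exact Subgroup.mem_zpowers_iff.2 ⟨i, by simpa using congrArg Subtype.val hi⟩

/-- For every finite field F and n ≥ 4: SL_n(F) has a presentation with 7 generators and at most 25 relations, and PSL_n(F) one with 7 generators and at most 26 relations; moreover SL_4(F) has one with 6 generators and at most 21 relations and SL_5(F) one with 6 generators and at most 22 relations. -/
theorem result {F : Type*} [Field F] [Fintype F] (n : ℕ) (hn : 4 ≤ n) :
    (∃ rels : Finset (FreeGroup (Fin 7)), rels.card ≤ 25 ∧ Nonempty (PresentedGroup (↑rels : Set (FreeGroup (Fin 7))) ≃* Matrix.SpecialLinearGroup (Fin n) F)) ∧ (∃ rels : Finset (FreeGroup (Fin 7)), rels.card ≤ 26 ∧ Nonempty (PresentedGroup (↑rels : Set (FreeGroup (Fin 7))) ≃* Matrix.ProjectiveSpecialLinearGroup (Fin n) F)) ∧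
    (∃ rels : Finset (FreeGroup (Fin 6)), rels.card ≤ 21 ∧ Nonempty (PresentedGroup (↑rels : Set (FreeGroup (Fin 6))) ≃* Matrix.SpecialLinearGroup (Fin 4) F)) ∧ (∃ rels : Finset (FreeGroup (Fin 6)), rels.card ≤ 22 ∧ Nonempty (PresentedGroup (↑rels : Set (FreeGroup (Fin 6))) ≃* Matrix.SpecialLinearGroup (Fin 5) F)) := by
  refine ⟨(sys_sl_three_gens hn).1.presentation, (sys_psl' (by omega) (sys_sl_three_gens hn).1).presentation,
    ((sys_sl_three_gens (le_refl 4)).2.1 rfl).presentation,
    ((sys_sl_three_gens (show 4 ≤ 5 by norm_num)).2.2 rfl).presentation⟩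

end Cfsg.Agent.S2288
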