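import Cfsg.Statements.S2290
import Cfsg.Agent.Lib.Lie.BoundedPres.SLSys
import Cfsg.Agent.Lib.SLGen.CyclicPair
import Cfsg.Agent.S2278
import Cfsg.Agent.S2279
import Cfsg.Agent.S2286
import Cfsg.Agent.S2287

set_option autoImplicit false
open Cfsg

namespace Cfsg.Agent.S2290

open CfsgLib.Lie.BoundedPres

/-- a system for `SL` gives one for `PSL` -/
theorem sys_psl {F : Type*} [Field F] [Finite F] {n k r : ℕ} (hn : 1 ≤ n)
    (h : HasSys (Matrix.SpecialLinearGroup (Fin n) F) k r) :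
    HasSys (Matrix.ProjectiveSpecialLinearGroup (Fin n) F) k (r + 1) := by
  haveI : NeZero n := ⟨by omega⟩
  haveI : IsCyclic (Subgroup.center (Matrix.SpecialLinearGroup (Fin n) F)) :=
    (MulEquiv.isCyclic (Matrix.SpecialLinearGroup.center_equiv_rootsOfUnity (n := Fin n) (R := F))).2 inferInstance
  obtain ⟨z, hz⟩ := IsCyclic.exists_generator (α := Subgroup.center (Matrix.SpecialLinearGroup (Fin n) F))
  refine h.quotient (QuotientGroup.mk' _) (QuotientGroup.mk'_surjective _) z.1 ?_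
  rw [QuotientGroup.ker_mk']
  refine le_antisymm (fun x hx => ?_) (Subgroup.zpowers_le.2 z.2)
  obtain ⟨i, hi⟩ := Subgroup.mem_zpowers_iff.1 (hz ⟨x, hx⟩)
  exact Subgroup.mem_zpowers_iff.2 ⟨i, by simpa using congrArg Subtype.val hi⟩

/-- two generators of `SL` give two of `PSL` -/
theorem gen_psl {F : Type*} [Field F] {n : ℕ} {a b : Matrix.SpecialLinearGroup (Fin n) F}
    (h : Subgroup.closure ({a, b} : Set (Matrix.SpecialLinearGroup (Fin n) F)) = ⊤) :
    ∃ a' b' : Matrix.ProjectiveSpecialLinearGroup (Fin n) F,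
      Subgroup.closure ({a', b'} : Set (Matrix.ProjectiveSpecialLinearGroup (Fin n) F)) = ⊤ := by
  let π := QuotientGroup.mk' (Subgroup.center (Matrix.SpecialLinearGroup (Fin n) F))
  refine ⟨π a, π b, ?_⟩
  have := congrArg (Subgroup.map π) h
  rwa [MonoidHom.map_closure, Set.image_pair, Subgroup.map_top_of_surjective π (QuotientGroup.mk'_surjective _)] at this

open Matrix in
/-- two generators of `SL₂` -/
theorem gen_two {F : Type*} [Field F] [Fintype F] (hq : 4 ≤ Fintype.card F) :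
    ∃ a b : SpecialLinearGroup (Fin 2) F, Subgroup.closure ({a, b} : Set (SpecialLinearGroup (Fin 2) F)) = ⊤ := by
  obtain ⟨k, hk⟩ := IsCyclic.exists_generator (α := Fˣ)
  let h : SpecialLinearGroup (Fin 2) F := ⟨!![(k : F), 0; 0, ((k⁻¹ : Fˣ) : F)], by simp [det_fin_two]⟩
  let x : SpecialLinearGroup (Fin 2) F := ⟨!![1, 1; 0, 1], by simp [det_fin_two]⟩
  let w : SpecialLinearGroup (Fin 2) F := ⟨!![0, 1; -1, 0], by simp [det_fin_two]⟩
  refine ⟨h, x * w, CfsgLib.SLGen.two_gen_large (n := 1) (by omega) le_rfl k hk h x w ?_ ?_ ?_⟩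
  · ext i j; fin_cases i <;> fin_cases j <;> simp [h, diagonal]
  · ext i j; fin_cases i <;> fin_cases j <;> simp [x, transvection, Matrix.single]
  · ext i j; fin_cases i <;> fin_cases j <;> simp [w]

end Cfsg.Agent.S2290

namespace Cfsg.Agent.S2290

open CfsgLib.Lie.BoundedPres

/-- For every finite field F with q elements and n ≥ 2, with q ≥ 4 when n = 2, the simple group PSL_n(F) has a presentation with 2 generators and at most 80 relations. -/
theorem result {F : Type*} [Field F] [Fintype F] (n : ℕ) (hn : 2 ≤ n) (h2 : n = 2 → 4 ≤ Fintype.card F) :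
    ∃ rels : Finset (FreeGroup (Fin 2)), rels.card ≤ 80 ∧ Nonempty (PresentedGroup (↑rels : Set (FreeGroup (Fin 2))) ≃* Matrix.ProjectiveSpecialLinearGroup (Fin n) F) := by
  classical
  suffices h : ∃ (k r : ℕ) (a b : Matrix.ProjectiveSpecialLinearGroup (Fin n) F),
      HasSys (Matrix.ProjectiveSpecialLinearGroup (Fin n) F) k r ∧ r + 2 ≤ 80 ∧
      Subgroup.closure ({a, b} : Set (Matrix.ProjectiveSpecialLinearGroup (Fin n) F)) = ⊤ by
    obtain ⟨k, r, a, b, hs, hr, hab⟩ := h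
    obtain ⟨rels, hc, he⟩ := hs.two_generator a b hab
    exact ⟨rels, by omega, he⟩
  obtain rfl | rfl | h4 : n = 2 ∨ n = 3 ∨ 4 ≤ n := by omega
  · obtain ⟨rels, hc, ⟨e⟩⟩ := (Cfsg.Agent.S2286.result (F := F)).2.1
    obtain ⟨u, v, h⟩ := gen_two (h2 rfl)
    obtain ⟨a, b, hab⟩ := gen_psl h
    exact ⟨_, _, a, b, (HasSys.of_presentation rels e).mono le_rfl hc, by norm_num, hab⟩
  · obtain ⟨p, hchar⟩ := CharP.exists F
    haveI hp : Fact p.Prime := ⟨CharP.char_is_prime F p⟩
    obtain ⟨N, -, hN⟩ := FiniteField.card F p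
    letI : Algebra (ZMod p) F := ZMod.algebra F p
    obtain ⟨rels, hc, ⟨e⟩⟩ := Cfsg.Agent.S2287.presentation (F := F) hN
    obtain ⟨u, g, -, -, h⟩ := Cfsg.Agent.S2278.result (F := F)
    obtain ⟨a, b, hab⟩ := gen_psl h
    exact ⟨_, _, a, b, sys_psl (by norm_num) ((HasSys.of_presentation rels e).mono le_rfl hc), by norm_num, hab⟩
  · obtain ⟨⟨u, v, -, -, h⟩, -⟩ := Cfsg.Agent.S2279.result (F := F) n h4
    obtain ⟨a, b, hab⟩ := gen_psl h
    exact ⟨_, _, a, b, sys_psl (by omega) (sys_sl h4), by norm_num, hab⟩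

end Cfsg.Agent.S2290
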