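import Cfsg.Statements.S2291
-- import your own Cfsg.Agent.* helpers here
import Cfsg.Agent.Lib.Lie.BoundedPres.SU3.All
import Cfsg.Agent.Lib.PGroup.UnitTwoGen.Std

set_option autoImplicit false
open Cfsg

namespace Cfsg.Agent.S2291

/-- Let F be a field with q² elements and n ≥ 3 with (n, q) ≠ (3, 2). Then the simple group PSU_n(q) (for the standard Hermitian form) has a presentation with 2 generators and at most 80 relations. -/
theorem result {F : Type*} [Field F] [Fintype F] (q n : ℕ) (hF : Fintype.card F = q ^ 2) (hn : 3 ≤ n) (h32 : ¬ (n = 3 ∧ q = 2)) :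
    ∃ rels : Finset (FreeGroup (Fin 2)), rels.card ≤ 80 ∧ Nonempty (PresentedGroup (↑rels : Set (FreeGroup (Fin 2))) ≃* Cfsg.PSU n F q) := by
  obtain ⟨a, b, hab⟩ := CfsgLib.PGroup.UnitTwoGen.psu_two_gen hF hn fun h h2 => h32 ⟨h, h2⟩
  have key : ∃ k r, r ≤ 78 ∧ ∃ rels : Finset (FreeGroup (Fin k)), rels.card ≤ r ∧
      Nonempty (PresentedGroup (↑rels : Set (FreeGroup (Fin k))) ≃* Cfsg.PSU n F q) := by
    rcases eq_or_lt_of_le hn with rfl | h4
    · exact ⟨3, 19, by norm_num,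
        (CfsgLib.Lie.BoundedPres.SUThree.sys_su_three hF fun h2 => h32 ⟨rfl, h2⟩).2.presentation⟩
    · exact ⟨6, 40, by norm_num, (CfsgLib.Lie.BoundedPres.SUGraph.sys_psu hF hn
        (CfsgLib.Lie.BoundedPres.SUGraph.sys_su_any hF h4).1).presentation⟩
  obtain ⟨k, r, hr, hp⟩ := key
  obtain ⟨rels, hc, e, -, -⟩ := CfsgLib.Lie.BoundedPres.two_of_presentation hp a b hab
  exact ⟨rels, hc.trans (by omega), ⟨e⟩⟩

end Cfsg.Agent.S2291
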