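import Cfsg.Statements.S2411
-- import your own Cfsg.Agent.* helpers here
import Cfsg.Agent.Lib.Lie.BoundedPres.SpTwoGen

set_option autoImplicit false
open Cfsg

namespace Cfsg.Agent.S2411


/-- The projective symplectic group `PSp_{2m}(q)` with `m ≥ 2` (and `q > 2` if `m = 2`) is generated by two of its elements. -/
theorem result {F : Type*} [Field F] [Fintype F] (m : ℕ) (hm : 2 ≤ m) (hF : m = 2 → 2 < Fintype.card F) :
    ∃ a b : Cfsg.PSp m F, Subgroup.closure ({a, b} : Set (Cfsg.PSp m F)) = ⊤ := by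
  obtain ⟨k, rfl⟩ : ∃ k, m = k + 2 := ⟨m - 2, by omega⟩
  obtain ⟨a, b, h⟩ := CfsgLib.Lie.BoundedPres.sp_two_gen (F := F) (k := k)
  let π : Matrix.symplecticGroup (Fin (k + 2)) F →* Cfsg.PSp (k + 2) F :=
    QuotientGroup.mk' (Subgroup.center (Matrix.symplecticGroup (Fin (k + 2)) F))
  refine ⟨π a, π b, ?_⟩
  have := congrArg (Subgroup.map π) h
  rwa [MonoidHom.map_closure, Set.image_pair,
    Subgroup.map_top_of_surjective π (QuotientGroup.mk'_surjective _)] at this

end Cfsg.Agent.S2411
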