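import Cfsg.Statements.S2292
-- import your own Cfsg.Agent.* helpers here
import Cfsg.Agent.Lib.Lie.BoundedPres.SpSys
import Cfsg.Agent.Lib.Lie.ShortPres.B2Main
import Cfsg.Agent.S2411

set_option autoImplicit false
open Cfsg

namespace Cfsg.Agent.S2292

open CfsgLib.Lie.BoundedPres CfsgLib.Sp Matrix

/-- the centre of `Sp` is generated by `-1` -/
theorem sys_psp {F : Type*} [Field F] {m k r : ℕ} (hm : 1 ≤ m)
    (h : HasSys (Matrix.symplecticGroup (Fin m) F) k r) : HasSys (Cfsg.PSp m F) k (r + 1) := by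
  let z : Matrix.symplecticGroup (Fin m) F := spDiag fun _ => -1
  have hz : ∀ u, z.1 *ᵥ u = -u := fun u => by
    rw [spDiag_apply]
    funext x
    rcases x with i | i <;> simp
  refine h.quotient (QuotientGroup.mk' _) (QuotientGroup.mk'_surjective _) z ?_
  rw [QuotientGroup.ker_mk']
  refine le_antisymm (fun A hA => ?_) (Subgroup.zpowers_le.2 ?_)
  · rcases center_scalar hm (fun v _ => (Subgroup.mem_center_iff.1 hA _).symm) with h1 | h1
    · rw [show A = 1 from Subtype.ext h1]; exact one_mem _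
    · have : A = z := sp_ext_vec fun u => by rw [h1, hz, Matrix.neg_mulVec, Matrix.one_mulVec]
      rw [this]; exact Subgroup.mem_zpowers z
  · exact Subgroup.mem_center_iff.2 fun A => sp_ext_vec fun u => by
      rw [sp_mul_mulVec, sp_mul_mulVec, hz, hz, Matrix.mulVec_neg]

/-- Let F be a finite field with q elements and m ≥ 2 with (m, q) ≠ (2, 2). Then the simple group PSp_2m(F) has a presentation with 2 generators and at most 80 relations. -/
theorem result {F : Type*} [Field F] [Fintype F] (m : ℕ) (hm : 2 ≤ m) (h22 : ¬ (m = 2 ∧ Fintype.card F = 2)) :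
    ∃ rels : Finset (FreeGroup (Fin 2)), rels.card ≤ 80 ∧ Nonempty (PresentedGroup (↑rels : Set (FreeGroup (Fin 2))) ≃* Cfsg.PSp m F) := by
  classical
  suffices h : ∃ k r, CfsgLib.Lie.BoundedPres.HasSys (Cfsg.PSp m F) k r ∧ r + 2 ≤ 80 by
    obtain ⟨k, r, hs, hr⟩ := h
    obtain ⟨a, b, hab⟩ := Cfsg.Agent.S2411.result (F := F) m hm fun e => by
      have h1 := Fintype.one_lt_card (α := F)
      have h2 : Fintype.card F ≠ 2 := fun e' => h22 ⟨e, e'⟩
      omega
    obtain ⟨rels, hc, he⟩ := hs.two_generator a b hab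
    exact ⟨rels, by omega, he⟩
  obtain rfl | h3 : m = 2 ∨ 3 ≤ m := by omega
  · obtain ⟨p, hchar⟩ := CharP.exists F
    haveI hp : Fact p.Prime := ⟨CharP.char_is_prime F p⟩
    obtain ⟨N, -, hN⟩ := FiniteField.card F p
    letI : Algebra (ZMod p) F := ZMod.algebra F p
    obtain ⟨-, rels, hr, ⟨iso⟩⟩ := CfsgLib.Lie.ShortPres.BTwo.presentation (F := F) hN
    exact ⟨_, _, CfsgLib.Lie.BoundedPres.HasSys.of_presentation rels iso, by omega⟩
  · obtain ⟨k, hk⟩ := CfsgLib.Lie.BoundedPres.sys_sp (F := F) h3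
    exact ⟨k, _, sys_psp (by omega) hk, by norm_num⟩


end Cfsg.Agent.S2292
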