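import Cfsg.Statements.S2295
import Cfsg.Agent.Lib.Lie.BoundedPres.SL.Link
import Cfsg.Agent.Lib.Lie.BoundedPres.OmegaPlus.Main

set_option autoImplicit false
open Cfsg
open CfsgLib.Lie.BoundedPres CfsgLib.Lie.BoundedPres.OPlus

namespace Cfsg.Agent.S2295

/-- Let F be a finite field and n ≥ 4, and let Ω⁺_2n(F) be the commutator subgroup of the orthogonal group of the hyperbolic quadratic form Σ x_i y_i, with PΩ⁺_2n(F) its central quotient. Then Ω⁺_2n(F) has a presentation with 8 generators and at most 31 relations (at most 29 if n = 4 or 5), and PΩ⁺_2n(F) one with 8 generators and at most 32 relations (at most 30 if n = 4 or 5). -/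
theorem result {F : Type*} [Field F] [Fintype F] (n : ℕ) (hn : 4 ≤ n) :
    (∃ rels : Finset (FreeGroup (Fin 8)), rels.card ≤ 31 ∧ Nonempty (PresentedGroup (↑rels : Set (FreeGroup (Fin 8))) ≃* ↥(Cfsg.Omega F (Cfsg.quadFormPlus n F)))) ∧ (∃ rels : Finset (FreeGroup (Fin 8)), rels.card ≤ 32 ∧ Nonempty (PresentedGroup (↑rels : Set (FreeGroup (Fin 8))) ≃* Cfsg.POmega F (Cfsg.quadFormPlus n F))) ∧
    (n ≤ 5 → (∃ rels : Finset (FreeGroup (Fin 8)), rels.card ≤ 29 ∧ Nonempty (PresentedGroup (↑rels : Set (FreeGroup (Fin 8))) ≃* ↥(Cfsg.Omega F (Cfsg.quadFormPlus n F)))) ∧ (∃ rels : Finset (FreeGroup (Fin 8)), rels.card ≤ 30 ∧ Nonempty (PresentedGroup (↑rels : Set (FreeGroup (Fin 8))) ≃* Cfsg.POmega F (Cfsg.quadFormPlus n F)))) := by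
  obtain ⟨m, rfl⟩ : ∃ m, n = m + 4 := ⟨n - 4, by omega⟩
  have pres : ∀ {r : ℕ}, HasSysJ (OQ F m) 8 r 0 →
      (∃ rels : Finset (FreeGroup (Fin 8)), rels.card ≤ r ∧ Nonempty
        (PresentedGroup (↑rels : Set (FreeGroup (Fin 8))) ≃* OQ F m)) ∧
      (∃ rels : Finset (FreeGroup (Fin 8)), rels.card ≤ r + 1 ∧ Nonempty
        (PresentedGroup (↑rels : Set (FreeGroup (Fin 8))) ≃* Cfsg.POmega F (Cfsg.quadFormPlus (m + 4) F))) :=
    fun h => ⟨h.presentation, (sys_pomega_plus h).presentation⟩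
  obtain ⟨big, four, five⟩ := sys_sl_three_gens (F := F) (n := m + 4) (by omega)
  obtain ⟨p1, p2⟩ := pres (sys_omega_plus big)
  refine ⟨p1, p2, fun h5 => ?_⟩
  rcases (show m = 0 ∨ m = 1 by omega) with rfl | rfl
  · exact pres ((sys_omega_plus (four rfl)).pad.mono (by omega) le_rfl)
  · exact pres ((sys_omega_plus (five rfl)).pad.mono (by omega) le_rfl)

end Cfsg.Agent.S2295
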