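import Cfsg.Statements.S2298

import Cfsg.Agent.Lib.Char.GLTwoTable

set_option autoImplicit false
open Cfsg

namespace Cfsg.Agent.S2298

/-- Over a finite field F with q elements, every irreducible complex character of GL₂ has degree 1, q − 1, q or q + 1; and when q ≥ 3 (so that these four numbers are distinct) there are exactly q − 1 irreducible characters of degree 1, exactly q − 1 of degree q, exactly (q − 1)(q − 2)/2 of degree q + 1 and exactly q(q − 1)/2 of degree q − 1. -/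
theorem result {F : Type*} [Field F] [Fintype F] :
    (∀ χ : Matrix.GeneralLinearGroup (Fin 2) F → ℂ, Cfsg.IsIrrCharacter (Matrix.GeneralLinearGroup (Fin 2) F) χ →
      χ 1 = 1 ∨ χ 1 = (Fintype.card F : ℂ) - 1 ∨ χ 1 = (Fintype.card F : ℂ) ∨ χ 1 = (Fintype.card F : ℂ) + 1) ∧
    (3 ≤ Fintype.card F →
      Nat.card {χ : Cfsg.IrrCharacter (Matrix.GeneralLinearGroup (Fin 2) F) // (χ : Matrix.GeneralLinearGroup (Fin 2) F → ℂ) 1 = 1} = Fintype.card F - 1 ∧
      Nat.card {χ : Cfsg.IrrCharacter (Matrix.GeneralLinearGroup (Fin 2) F) // (χ : Matrix.GeneralLinearGroup (Fin 2) F → ℂ) 1 = (Fintype.card F : ℂ)} = Fintype.card F - 1 ∧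
      Nat.card {χ : Cfsg.IrrCharacter (Matrix.GeneralLinearGroup (Fin 2) F) // (χ : Matrix.GeneralLinearGroup (Fin 2) F → ℂ) 1 = (Fintype.card F : ℂ) + 1} = (Fintype.card F - 1) * (Fintype.card F - 2) / 2 ∧
      Nat.card {χ : Cfsg.IrrCharacter (Matrix.GeneralLinearGroup (Fin 2) F) // (χ : Matrix.GeneralLinearGroup (Fin 2) F → ℂ) 1 = (Fintype.card F : ℂ) - 1} = Fintype.card F * (Fintype.card F - 1) / 2) := by
  classical
  open CfsgLib.Char.TwoChars in
  refine ⟨fun χ hχ => ?_, fun hq => ?_⟩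
  · rcases gl_cases (⟨χ, hχ⟩ : Cfsg.IrrCharacter _) with ⟨l, hl⟩ | ⟨l, hl⟩ | ⟨α, β, -, e⟩ | hc
    · left
      change χ = _ at hl
      simp [hl]
    · right; right; left
      change χ = _ at hl
      rw [hl, stGL_one]
    · right; right; right
      change χ = _ at e
      rw [e, psGL_one]
    · exact Or.inr (Or.inl ((gl_table (F := F)).1 _ hc).1)
  · obtain ⟨hD, cD, cP⟩ := gl_table (F := F)
    refine ⟨?_, ?_, ?_, ?_⟩
    · rw [← card_mulChar (F := F)]
      refine (Nat.card_eq_of_bijective (fun l => ⟨⟨_, isIrr_linGL l⟩, linGL_one l⟩)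
        ⟨fun a b h => lin_injective (congrArg Subtype.val h), fun χ => ?_⟩).symm
      obtain ⟨l, hl⟩ := gl_deg_one χ.1 hq χ.2
      exact ⟨l, Subtype.ext (Subtype.ext hl.symm)⟩
    · rw [← card_mulChar (F := F)]
      refine (Nat.card_eq_of_bijective (fun l => ⟨⟨_, isIrr_stGL l⟩, stGL_one l⟩)
        ⟨fun a b h => st_injective (congrArg Subtype.val h), fun χ => ?_⟩).symm
      obtain ⟨l, hl⟩ := gl_deg_q χ.1 χ.2
      exact ⟨l, Subtype.ext (Subtype.ext hl.symm)⟩
    · rw [← cP]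
      refine Nat.card_congr (Equiv.subtypeEquivRight fun χ => ⟨gl_deg_q_add χ, ?_⟩)
      rintro ⟨α, β, -, e⟩
      rw [e, psGL_one]
    · rw [← cD]
      exact Nat.card_congr (Equiv.subtypeEquivRight fun χ => ⟨gl_deg_q_sub χ hq, fun h => (hD χ h).1⟩)

end Cfsg.Agent.S2298
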