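import Cfsg.Statements.S2307

import Cfsg.Agent.Lib.Char.SLTwoHalves

set_option autoImplicit false
open Cfsg

namespace Cfsg.Agent.S2307

/-- Over a finite field F with q elements, q odd, let α be the multiplicative character of F of order 2. The character of SL₂ induced from the linear character b ↦ α(b₁₁) of the upper triangular subgroup is the sum of two distinct irreducible characters, each of degree (q + 1)/2, which are conjugate under GL₂: some fixed element of GL₂ conjugates the one into the other. -/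
theorem result {F : Type*} [Field F] [Fintype F] [DecidableEq F] (hodd : Odd (Fintype.card F)) (α : MulChar F ℂ)
    (hα : α ^ 2 = 1) (hα1 : α ≠ 1) :
    ∃ χ₁ χ₂ : Matrix.SpecialLinearGroup (Fin 2) F → ℂ, Cfsg.IsIrrCharacter (Matrix.SpecialLinearGroup (Fin 2) F) χ₁ ∧ Cfsg.IsIrrCharacter (Matrix.SpecialLinearGroup (Fin 2) F) χ₂ ∧ χ₁ ≠ χ₂ ∧
      Cfsg.indFun ((Cfsg.upperTriangularGL 2 F).comap Matrix.SpecialLinearGroup.toGL) (fun b => α (((b : Matrix.SpecialLinearGroup (Fin 2) F) : Matrix (Fin 2) (Fin 2) F) 0 0)) = χ₁ + χ₂ ∧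
      χ₁ 1 = (((Fintype.card F + 1) / 2 : ℕ) : ℂ) ∧ χ₂ 1 = (((Fintype.card F + 1) / 2 : ℕ) : ℂ) ∧
      ∃ x : Matrix.GeneralLinearGroup (Fin 2) F, ∀ g h : Matrix.SpecialLinearGroup (Fin 2) F,
        Matrix.SpecialLinearGroup.toGL h = x * Matrix.SpecialLinearGroup.toGL g * x⁻¹ → χ₂ h = χ₁ g := by
  classical
  open CfsgLib.Char.TwoChars in
  obtain ⟨ν, hν⟩ := exists_repUnip (F := F)
  obtain ⟨a, b, hab, he, hab', -, hda, hdb⟩ := psQuad_split hα hα1 hν
  have hhalf : (2 : ℂ) * (((Fintype.card F + 1) / 2 : ℕ) : ℂ) = (Fintype.card F : ℂ) + 1 := by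
    have : 2 * ((Fintype.card F + 1) / 2) = Fintype.card F + 1 := by rcases hodd with ⟨k, hk⟩; omega
    exact_mod_cast this
  refine ⟨a.1, b.1, a.2, b.2, fun h => hab (Subtype.ext h), he, mul_left_cancel₀ two_ne_zero (hda.trans hhalf.symm),
    mul_left_cancel₀ two_ne_zero (hdb.trans hhalf.symm), (mkB ν 1 0).1⁻¹, fun g h e => ?_⟩
  have hg : sigS ν h = g := by
    refine Subtype.ext ?_
    have e' : Matrix.SpecialLinearGroup.toGL (sigS ν h) = Matrix.SpecialLinearGroup.toGL g := by
      rw [sigS_toGL, e]; group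
    exact congrArg Units.val e'
  rw [← hab', sigIrr_apply, hg]

end Cfsg.Agent.S2307
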