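import Cfsg.Statements.S2309

import Cfsg.Agent.Lib.Char.GLTwoTable

set_option autoImplicit false
open Cfsg

namespace Cfsg.Agent.S2309

/-- Over a finite field F with q elements: every irreducible complex character of GL₂ of degree q − 1 vanishes at every diagonal matrix with two distinct entries, and every irreducible complex character of degree q + 1 vanishes at every element with no eigenvector in F². -/
theorem result {F : Type*} [Field F] [Fintype F] (χ : Matrix.GeneralLinearGroup (Fin 2) F → ℂ) (hχ : Cfsg.IsIrrCharacter (Matrix.GeneralLinearGroup (Fin 2) F) χ) (g : Matrix.GeneralLinearGroup (Fin 2) F) :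
    (χ 1 = (Fintype.card F : ℂ) - 1 → (g : Matrix (Fin 2) (Fin 2) F) 0 1 = 0 → (g : Matrix (Fin 2) (Fin 2) F) 1 0 = 0 → (g : Matrix (Fin 2) (Fin 2) F) 0 0 ≠ (g : Matrix (Fin 2) (Fin 2) F) 1 1 → χ g = 0) ∧
    (χ 1 = (Fintype.card F : ℂ) + 1 → (∀ (c : F) (v : Fin 2 → F), v ≠ 0 → (g : Matrix (Fin 2) (Fin 2) F).mulVec v ≠ c • v) → χ g = 0) := by
  classical
  open CfsgLib.Char.TwoChars in
  refine ⟨fun h h01 h10 hne => ?_, fun h hell => ?_⟩
  · have hd := ((Matrix.isUnit_iff_isUnit_det _).1 g.isUnit)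
    rw [Matrix.det_fin_two, h01, zero_mul, sub_zero, isUnit_iff_ne_zero, mul_ne_zero_iff] at hd
    have hq : 3 ≤ Fintype.card F := by
      have h3 : ({0, (g : Matrix (Fin 2) (Fin 2) F) 0 0, (g : Matrix (Fin 2) (Fin 2) F) 1 1} : Finset F).card = 3 := by
        rw [Finset.card_insert_of_notMem, Finset.card_pair hne]
        simp [hd.1.symm, hd.2.symm]
      exact h3 ▸ Finset.card_le_univ _
    have hc := gl_deg_q_sub ⟨χ, hχ⟩ hq h
    have e : g = (mkB (Units.mk0 _ hd.1) (Units.mk0 _ hd.2) 0).1 := Units.ext (by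
      rw [mkB_val]; ext i j; fin_cases i <;> fin_cases j <;> simp [h01, h10])
    rw [e]
    exact cuspGL_split (CfsgLib.Char.isClassFunction_of_isCharacter (CfsgLib.Char.isCharacter_of_isIrr hχ)) hc
      (fun he => hne (congrArg Units.val he))
  · obtain ⟨α, β, -, e⟩ := gl_deg_q_add ⟨χ, hχ⟩ h
    change χ = _ at e
    rw [e, psGL_apply, psVal_ell _ hell]

end Cfsg.Agent.S2309
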