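import Cfsg.Statements.S2310

import Cfsg.Agent.Lib.Char.GLTwoTable

set_option autoImplicit false
open Cfsg

namespace Cfsg.Agent.S2310

/-- Over a finite field F with q ≥ 3 elements, let u be the upper unitriangular matrix of GL₂ with off-diagonal entry 1. An irreducible complex character χ of GL₂ takes at u the value 1 if χ has degree 1 or q + 1, the value −1 if χ has degree q − 1, and the value 0 if χ has degree q. -/
theorem result {F : Type*} [Field F] [Fintype F] (hq : 3 ≤ Fintype.card F) (χ : Matrix.GeneralLinearGroup (Fin 2) F → ℂ) (hχ : Cfsg.IsIrrCharacter (Matrix.GeneralLinearGroup (Fin 2) F) χ)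
    (u : Matrix.GeneralLinearGroup (Fin 2) F) (hu : (u : Matrix (Fin 2) (Fin 2) F) = !![1, 1; 0, 1]) :
    (χ 1 = 1 → χ u = 1) ∧ (χ 1 = (Fintype.card F : ℂ) + 1 → χ u = 1) ∧
    (χ 1 = (Fintype.card F : ℂ) - 1 → χ u = -1) ∧ (χ 1 = (Fintype.card F : ℂ) → χ u = 0) := by
  classical
  open CfsgLib.Char.TwoChars in
  have he : u = (mkB (1 : Fˣ) 1 (1 : F)).1 := Units.ext (by rw [hu, mkB_val]; simp)
  refine ⟨fun h => ?_, fun h => ?_, fun h => ?_, fun h => ?_⟩
  · obtain ⟨l, hl⟩ := gl_deg_one ⟨χ, hχ⟩ hq h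
    change χ = _ at hl
    rw [hl]
    simp [linGL_apply, hu, Matrix.det_fin_two]
  · obtain ⟨α, β, -, e⟩ := gl_deg_q_add ⟨χ, hχ⟩ h
    change χ = _ at e
    rw [e, psGL_apply, psVal_jordan _ (by simp [hu]) (by simp [hu]) (by simp [hu])]
    simp [hu]
  · rw [he]
    exact ((gl_table (F := F)).1 _ (gl_deg_q_sub ⟨χ, hχ⟩ hq h)).2
  · obtain ⟨l, hl⟩ := gl_deg_q ⟨χ, hχ⟩ h
    change χ = _ at hl
    rw [hl, stGL, Pi.sub_apply, psGL_apply, psVal_jordan _ (by simp [hu]) (by simp [hu]) (by simp [hu])]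
    simp [hu, linGL_apply, Matrix.det_fin_two]

end Cfsg.Agent.S2310
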