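import Cfsg.Statements.S2316
import Cfsg.Agent.Lib.Classical.SympUnipotent

set_option autoImplicit false
open Cfsg

namespace Cfsg.Agent.S2316

/-- Steinberg's count of unipotent elements for the symplectic group: over a finite field with q elements of characteristic p, the number of elements of Sp_{2m} of p-power order is q^(2m²). -/
theorem result {F : Type*} [Field F] [Fintype F] (p : ℕ) [Fact p.Prime] [CharP F p] (m : ℕ) :
    Nat.card {g : ↥(Matrix.symplecticGroup (Fin m) F) // ∃ k : ℕ, orderOf g = p ^ k} = Fintype.card F ^ (2 * m ^ 2) := by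
  classical
  rcases Nat.eq_zero_or_pos m with rfl | hm
  · haveI : Subsingleton ↥(Matrix.symplecticGroup (Fin 0) F) := ⟨fun a b => Subtype.ext (Subsingleton.elim _ _)⟩
    haveI : Unique {g : ↥(Matrix.symplecticGroup (Fin 0) F) // ∃ k : ℕ, orderOf g = p ^ k} :=
      ⟨⟨⟨1, 0, by simp⟩⟩, fun g => Subtype.ext (Subsingleton.elim _ _)⟩
    rw [Nat.card_unique]; simp
  haveI : NeZero m := ⟨hm.ne'⟩
  haveI : Nonempty (Fin m ⊕ Fin m) := ⟨.inl 0⟩
  obtain ⟨B, hBd⟩ : ∃ B : LinearMap.BilinForm F (Fin m ⊕ Fin m → F), B = Matrix.toBilin' (Matrix.J (Fin m) F) := ⟨_, rfl⟩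
  have hJ : (Matrix.J (Fin m) F).det ≠ 0 := by
    refine (Matrix.isUnit_det_of_left_inverse (B := -Matrix.J (Fin m) F) ?_).ne_zero
    rw [Matrix.neg_mul, Matrix.J_squared, neg_neg]
  have hB : B.Nondegenerate := hBd ▸ LinearMap.BilinForm.nondegenerate_toBilin'_of_det_ne_zero' _ hJ
  have hA : B.IsAlt := hBd ▸ CfsgLib.Classical.AltCongr.toBilin_isAlt (by
    refine ⟨fun i => ?_, Matrix.ext fun i j => ?_⟩
    · rcases i with i | i <;> simp [Matrix.J]
    · rcases i with i | i <;> rcases j with j | j <;> simp [Matrix.J, Matrix.one_apply, eq_comm, neg_ite])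
  have hmem : ∀ A : Matrix (Fin m ⊕ Fin m) (Fin m ⊕ Fin m) F,
      A ∈ Matrix.symplecticGroup (Fin m) F ↔ ∀ u v, B (Matrix.toLin' A u) (Matrix.toLin' A v) = B u v := by
    intro A
    rw [SymplecticGroup.mem_iff', hBd, ← Matrix.toBilin'.injective.eq_iff, ← Matrix.toBilin'_comp]
    constructor
    · intro h u v
      exact congrArg (fun Φ : LinearMap.BilinForm F (Fin m ⊕ Fin m → F) => Φ u v) h
    · intro h
      exact LinearMap.ext fun u => LinearMap.ext fun v => h u v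
  have key : ∀ g : ↥(Matrix.symplecticGroup (Fin m) F), (∃ k : ℕ, orderOf g = p ^ k) ↔
      IsNilpotent (g.1 - 1) := by
    intro g
    constructor
    · rintro ⟨k, hk⟩
      refine ⟨p ^ k, ?_⟩
      rw [sub_pow_char_pow_of_commute (p := p) (x := g.1) (y := 1) (h := Commute.one_right g.1), one_pow, ← SubmonoidClass.coe_pow, ← hk,
        pow_orderOf_eq_one]
      simp
    · rintro ⟨j, hj⟩
      have h1 : g ^ (p ^ j) = 1 := Subtype.ext (by
        rw [SubmonoidClass.coe_pow, OneMemClass.coe_one, ← sub_eq_zero,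
          ← one_pow (M := Matrix (Fin m ⊕ Fin m) (Fin m ⊕ Fin m) F) (p ^ j),
          ← sub_pow_char_pow_of_commute (p := p) (x := g.1) (y := 1) (h := Commute.one_right g.1)]
        exact pow_eq_zero_of_le (Nat.lt_pow_self (Fact.out : p.Prime).one_lt).le hj)
      obtain ⟨k, -, hk⟩ := (Nat.dvd_prime_pow (Fact.out : p.Prime)).1 (orderOf_dvd_of_pow_eq_one h1)
      exact ⟨k, hk⟩
  rw [← CfsgLib.Classical.SympCount.card_unipotent m B hB hA (by simp [two_mul])]
  refine Nat.card_congr (Equiv.ofBijective (fun g => ⟨⟨Matrix.toLinearEquiv' g.1.1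
    (Matrix.invertibleOfIsUnitDet _ (SymplecticGroup.symplectic_det g.1.2)), (hmem _).1 g.1.2⟩, ?_⟩) ⟨?_, ?_⟩)
  · obtain ⟨j, hj⟩ := (key g.1).1 g.2
    refine ⟨j, ?_⟩
    show (Matrix.toLinAlgEquiv' g.1.1 - 1) ^ j = 0
    rw [← map_one (Matrix.toLinAlgEquiv' (R := F) (n := Fin m ⊕ Fin m)), ← map_sub, ← map_pow, hj, map_zero]
  · intro a b h
    refine Subtype.ext (Subtype.ext (Matrix.toLin'.injective ?_))
    exact congrArg (fun x : {a : CfsgLib.Classical.SympCount.isoGrp B // CfsgLib.Classical.SympCount.IsUni a.1} => (x.1.1 : (Fin m ⊕ Fin m → F) →ₗ[F] (Fin m ⊕ Fin m → F))) h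
  · rintro ⟨⟨e, he⟩, hu⟩
    have hA' : LinearMap.toMatrix' (e : (Fin m ⊕ Fin m → F) →ₗ[F] (Fin m ⊕ Fin m → F)) ∈ Matrix.symplecticGroup (Fin m) F := by
      rw [hmem]; intro u v; rw [Matrix.toLin'_toMatrix']; exact he u v
    refine ⟨⟨⟨_, hA'⟩, (key _).2 ?_⟩, Subtype.ext (Subtype.ext (LinearEquiv.toLinearMap_injective ?_))⟩
    · obtain ⟨j, hj⟩ := hu
      refine ⟨j, (Matrix.toLinAlgEquiv' (R := F) (n := Fin m ⊕ Fin m)).injective ?_⟩
      rw [map_pow, map_sub, map_one, map_zero]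
      show (Matrix.toLin' (LinearMap.toMatrix' (e : (Fin m ⊕ Fin m → F) →ₗ[F] (Fin m ⊕ Fin m → F))) - 1) ^ j = 0
      rw [Matrix.toLin'_toMatrix']
      exact hj
    · show Matrix.toLin' (LinearMap.toMatrix' (e : (Fin m ⊕ Fin m → F) →ₗ[F] (Fin m ⊕ Fin m → F))) = _
      exact Matrix.toLin'_toMatrix' _

end Cfsg.Agent.S2316
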