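import Cfsg.Statements.S2318
-- import your own Cfsg.Agent.* helpers here
import Mathlib
import Cfsg.Agent.Lib.Block.DefiningChar.ChevBlocks

set_option autoImplicit false
set_option linter.all false
open Cfsg

namespace Cfsg.Agent.S2318

/-- In a Chevalley group of type G₂, B₂, D₄, F₄, E₆, E₇ or E₈ over a finite field of characteristic p (for types G₂ and B₂ the field is assumed to have at least 3 elements, so that the group is perfect), the Steinberg character is the only irreducible complex character whose degree is divisible by the full power of p dividing the group order (the only irreducible character of p-defect zero). -/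
theorem result {F : Type*} [Field F] [Fintype F] (p : ℕ) [Fact p.Prime] [CharP F p] (D : Cfsg.Lie.ChevalleyDatum) (hD : D ∈ [Cfsg.Lie.chevG2, Cfsg.Lie.chevB2, Cfsg.Lie.chevD4, Cfsg.Lie.chevF4, Cfsg.Lie.chevE6, Cfsg.Lie.chevE7, Cfsg.Lie.chevE8]) (hq : (D = Cfsg.Lie.chevG2 ∨ D = Cfsg.Lie.chevB2) → 3 ≤ Fintype.card F)
    (χ : ↥(D.group F) → ℂ) (hχ : Cfsg.IsIrrCharacter ↥(D.group F) χ)
    (hdeg : ∃ d : ℕ, χ 1 = (d : ℂ) ∧ p ^ (Nat.card ↥(D.group F)).factorization p ∣ d) :
    χ = D.steinbergCharacter F := by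
  obtain ⟨d, hd, hdvd⟩ := hdeg
  obtain ⟨M, hM⟩ := CfsgLib.Block.exists_pModular (p := p) (Fact.out : p.Prime)
  have C := CfsgLib.Lie.Chev.fullOf hD
  obtain ⟨hs, h1, h2⟩ := CfsgLib.Block.DefiningChar.Chevalley.block_of_degree hM
    (⟨χ, hχ⟩ : Cfsg.IrrCharacter ↥(D.group F)) hd hdvd
  obtain ⟨hs', h1', h2'⟩ := CfsgLib.Block.DefiningChar.Chevalley.block_of_degree hM
    (⟨_, C.isIrr_steinberg (CfsgLib.Lie.Chev.chkSupp_all hD)⟩ : Cfsg.IrrCharacter ↥(D.group F))
    (d := Fintype.card F ^ (D.nroots / 2))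
    (by rw [Nat.cast_pow]; exact C.steinberg_degree (CfsgLib.Lie.Chev.chkSupp_all hD))
    (dvd_of_eq (CfsgLib.Block.DefiningChar.Chevalley.factorization_card_group C))
  have he := CfsgLib.Block.DefiningChar.Chevalley.eq_of_defect_zero_chev C hM h1 h1' h2 h2'
  rw [hs, hs', Set.singleton_eq_singleton_iff] at he
  exact congrArg Subtype.val he

end Cfsg.Agent.S2318
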