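import Cfsg.Statements.S2320

import Cfsg.Agent.Lib.Char.GLTwoTable

set_option autoImplicit false
open Cfsg

namespace Cfsg.Agent.S2320

/-- Over a finite field F with q elements, every irreducible complex character of GL₂ of degree q takes a value of absolute value 1 at every diagonal matrix with two different diagonal entries and at every element with no eigenvector in F². -/
theorem result {F : Type*} [Field F] [Fintype F] (χ : Matrix.GeneralLinearGroup (Fin 2) F → ℂ) (hχ : Cfsg.IsIrrCharacter (Matrix.GeneralLinearGroup (Fin 2) F) χ) (hdeg : χ 1 = (Fintype.card F : ℂ)) (g : Matrix.GeneralLinearGroup (Fin 2) F) :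
    ((g : Matrix (Fin 2) (Fin 2) F) 0 1 = 0 → (g : Matrix (Fin 2) (Fin 2) F) 1 0 = 0 → (g : Matrix (Fin 2) (Fin 2) F) 0 0 ≠ (g : Matrix (Fin 2) (Fin 2) F) 1 1 → ‖χ g‖ = 1) ∧
    ((∀ (c : F) (v : Fin 2 → F), v ≠ 0 → (g : Matrix (Fin 2) (Fin 2) F).mulVec v ≠ c • v) → ‖χ g‖ = 1) := by
  classical
  open CfsgLib.Char.TwoChars in
  obtain ⟨l, hl⟩ := gl_deg_q ⟨χ, hχ⟩ hdeg
  change χ = _ at hl
  have hdet : (g : Matrix (Fin 2) (Fin 2) F).det ≠ 0 :=
    ((Matrix.isUnit_iff_isUnit_det _).1 g.isUnit).ne_zero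
  refine ⟨fun h01 h10 hne => ?_, fun hell => ?_⟩
  · rw [hl, stGL, Pi.sub_apply, psGL_apply, psVal_ne _ h10 hne, linGL_apply]
    have hd : (g : Matrix (Fin 2) (Fin 2) F).det = (g : Matrix (Fin 2) (Fin 2) F) 0 0 * (g : Matrix (Fin 2) (Fin 2) F) 1 1 := by
      rw [Matrix.det_fin_two, h01]; ring
    simp only [hd, map_mul]
    rw [show ∀ x y : ℂ, x * y + y * x - x * y = x * y from fun x y => by ring, ← map_mul, ← hd]
    exact norm_mulChar l hdet
  · rw [hl, stGL, Pi.sub_apply, psGL_apply, psVal_ell _ hell, zero_sub, norm_neg, linGL_apply]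
    exact norm_mulChar l hdet

end Cfsg.Agent.S2320
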