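import Cfsg.Statements.S2322

import Cfsg.Agent.Lib.Char.SLTwoValues

set_option autoImplicit false
open Cfsg

namespace Cfsg.Agent.S2322

/-- Over a finite field F with q elements, q odd: every irreducible complex character of SL₂ of degree q − 1 or (q − 1)/2 vanishes at every diagonal matrix whose diagonal entry a has a² ≠ 1, and every irreducible complex character of degree q + 1 or (q + 1)/2 vanishes at every element with no eigenvector in F². -/
theorem result {F : Type*} [Field F] [Fintype F] (hodd : Odd (Fintype.card F)) (χ : Matrix.SpecialLinearGroup (Fin 2) F → ℂ) (hχ : Cfsg.IsIrrCharacter (Matrix.SpecialLinearGroup (Fin 2) F) χ) (g : Matrix.SpecialLinearGroup (Fin 2) F) :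
    ((χ 1 = (Fintype.card F : ℂ) - 1 ∨ χ 1 = (((Fintype.card F - 1) / 2 : ℕ) : ℂ)) →
      (g : Matrix (Fin 2) (Fin 2) F) 0 1 = 0 → (g : Matrix (Fin 2) (Fin 2) F) 1 0 = 0 → (g : Matrix (Fin 2) (Fin 2) F) 0 0 ^ 2 ≠ 1 → χ g = 0) ∧
    ((χ 1 = (Fintype.card F : ℂ) + 1 ∨ χ 1 = (((Fintype.card F + 1) / 2 : ℕ) : ℂ)) →
      (∀ (c : F) (v : Fin 2 → F), v ≠ 0 → (g : Matrix (Fin 2) (Fin 2) F).mulVec v ≠ c • v) → χ g = 0) := by
  classical
  open CfsgLib.Char.TwoChars in
  have hq2 : 2 ≤ Fintype.card F := Fintype.one_lt_card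
  have hq4 : Fintype.card F ≠ 3 → 4 ≤ Fintype.card F := fun h => by rcases hodd with ⟨k, hk⟩; omega
  refine ⟨fun h h01 h10 hne => ?_, fun h hell => ?_⟩
  · have h3 : Fintype.card F ≠ 3 := fun h3 => hne (by
      have hd := borelSL_prod h10
      have ha : g.1 0 0 ≠ 0 := fun h0 => one_ne_zero (α := F) (by rw [← hd, h0, zero_mul])
      have := FiniteField.pow_card_sub_one_eq_one (g.1 0 0) ha
      rwa [h3] at this)
    refine sl_cusp_split_value (χ := ⟨χ, hχ⟩) ?_ h01 h10 hne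
    rcases h with h | h
    · exact sl_deg_q_sub (hq4 h3) ⟨χ, hχ⟩ h
    · exact (sl_deg_half_sub (hq4 h3) ⟨χ, hχ⟩ ((eq_half_sub_iff hodd).1 h)).1
  · rcases h with h | h
    · obtain ⟨α, -, e⟩ := sl_deg_q_add ⟨χ, hχ⟩ h
      change χ = _ at e
      rw [e]
      exact psSL_ell α hell
    · by_cases h3 : Fintype.card F = 3
      · refine ell_three h3 hell ⟨χ, hχ⟩ ?_
        show χ 1 = 2
        rw [h, h3]; norm_num
      · exact halfPS_ell (sl_deg_half_add (hq4 h3) ⟨χ, hχ⟩ ((eq_half_add_iff hodd).1 h)) hell hodd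

end Cfsg.Agent.S2322
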