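import Cfsg.Statements.S2329
import Cfsg.Agent.Lib.GLClass.Special

set_option autoImplicit false
open Cfsg

namespace Cfsg.Agent.S2329

/-- Over a finite field of characteristic p, any two elements of order p of GL₂ are conjugate: there is a single conjugacy class of non-identity unipotent elements. -/
theorem result {F : Type*} [Field F] [Fintype F] (p : ℕ) [Fact p.Prime] [CharP F p] (g h : Matrix.GeneralLinearGroup (Fin 2) F)
    (hg : orderOf g = p) (hh : orderOf h = p) : IsConj g h := by
  apply CfsgLib.GLClass.isConj_units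
  have key : ∀ x : Matrix.GeneralLinearGroup (Fin 2) F, orderOf x = p →
      ((x : Matrix (Fin 2) (Fin 2) F) - 1) * ((x : Matrix (Fin 2) (Fin 2) F) - 1) = 0 ∧
        ((x : Matrix (Fin 2) (Fin 2) F) - 1).rank = 1 := by
    intro x hx
    obtain ⟨hx1, hxp⟩ := (CfsgLib.GLClass.orderOf_eq_char_iff p x).1 hx
    have h2 : ((x : Matrix (Fin 2) (Fin 2) F) - 1) ^ 2 = 0 := by
      simpa using CfsgLib.GLClass.pow_eq_zero_of_isNilpotent ⟨p, hxp⟩
    rw [pow_two] at h2
    refine ⟨h2, ?_⟩
    have h3 := CfsgLib.GLClass.two_mul_rank_le h2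
    have h4 : ((x : Matrix (Fin 2) (Fin 2) F) - 1).rank ≠ 0 := by
      rw [Matrix.rank]
      intro h0
      rw [Submodule.finrank_eq_zero, LinearMap.range_eq_bot] at h0
      refine hx1 (Units.ext (sub_eq_zero.1 ?_))
      refine Matrix.ext_of_mulVec_single fun i => ?_
      rw [Matrix.zero_mulVec, ← Matrix.mulVecLin_apply]
      exact LinearMap.congr_fun h0 _
    omega
  obtain ⟨h1, h2⟩ := key g hg
  obtain ⟨h3, h4⟩ := key h hh
  have hA := CfsgLib.GLClass.isConj_corner h1
  have hB := CfsgLib.GLClass.isConj_corner h3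
  rw [h2] at hA
  rw [h4] at hB
  exact hA.trans hB.symm

end Cfsg.Agent.S2329
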