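import Cfsg.Statements.S2332
import Cfsg.Agent.Lib.LinDeg.Bound
import Cfsg.Agent.Lib.Char.Perm
import Cfsg.Agent.Lib.Char.Burnside

set_option autoImplicit false
open Cfsg Matrix

namespace Cfsg.Agent.S2332

/-- Smallest degree of a non-linear irreducible complex representation of SL_n over a finite field with q elements, for n ≥ 3 and (n, q) not one of (3, 2), (3, 4), (4, 2), (4, 3): every irreducible complex representation of SL_n(F) of degree at least 2 has degree at least (q^n − q)/(q − 1), and there is an irreducible complex representation of exactly that degree. -/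
theorem result {F : Type*} [Field F] [Fintype F] [DecidableEq F] (n : ℕ) (hn : 3 ≤ n)
    (hex : (n, Fintype.card F) ≠ (3, 2) ∧ (n, Fintype.card F) ≠ (3, 4) ∧ (n, Fintype.card F) ≠ (4, 2) ∧ (n, Fintype.card F) ≠ (4, 3)) :
    (∀ (k : ℕ) (ρ : Representation ℂ (Matrix.SpecialLinearGroup (Fin n) F) (Fin k → ℂ)), ρ.IsIrreducible → 2 ≤ k → (Fintype.card F ^ n - Fintype.card F) / (Fintype.card F - 1) ≤ k) ∧
    (∃ ρ : Representation ℂ (Matrix.SpecialLinearGroup (Fin n) F) (Fin ((Fintype.card F ^ n - Fintype.card F) / (Fintype.card F - 1)) → ℂ), ρ.IsIrreducible) := by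
  classical
  obtain ⟨m, rfl⟩ : ∃ m, n = m + 1 := ⟨n - 1, by omega⟩
  set q := Fintype.card F with hq'
  have hq : 2 ≤ q := Fintype.one_lt_card
  have hval : (q ^ (m + 1) - q) / (q - 1) = CfsgLib.LinDeg.geo q (m + 1) - 1 := by
    have h1 := CfsgLib.LinDeg.geo_mul_pred q (m + 1) (by omega)
    have e : q ^ (m + 1) - q = (CfsgLib.LinDeg.geo q (m + 1) - 1) * (q - 1) := by
      rw [Nat.sub_mul, one_mul]
      omega
    rw [e, Nat.mul_div_cancel _ (by omega)]
  refine ⟨fun k ρ hρ hk => ?_, ?_⟩
  · rw [hval]
    haveI := hρ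
    simp only [ne_eq, Prod.mk.injEq, not_and] at hex
    have hne : ∃ v, ρ (CfsgLib.LinDeg.uSL (m := m) v) ≠ 1 := by
      by_contra h
      simp only [not_exists, not_not, ne_eq] at h
      let f := ρ.toHomUnits
      have hv : (fun _ => 1 : Fin m → F) ≠ 0 := fun h => one_ne_zero (congrFun h ⟨0, by omega⟩)
      have htop : f.ker = ⊤ := CfsgLib.LinDeg.eq_top_of_transv hn f.ker
        (CfsgLib.LinDeg.uSL_isTransv hv) (MonoidHom.mem_ker.2 (Units.ext (h _)))
      have hall : ∀ g, ρ g = LinearMap.id := fun g => by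
        have : f g = 1 := MonoidHom.mem_ker.1 (htop ▸ Subgroup.mem_top g)
        exact congrArg Units.val this
      have h1 := CfsgLib.Char.irr_eq_one_of_trivial ρ hall
      have h2 := Representation.char_one ρ
      rw [h1, Module.finrank_fin_fun] at h2
      have h2' : (k : ℂ) = (1 : ℂ) := h2.symm
      have h3 : k = 1 := by exact_mod_cast h2'
      omega
    have h := CfsgLib.LinDeg.sl_bound (m := m) (by omega) (by rintro ⟨h1, h2⟩; omega)
      (by rintro ⟨h1, h2⟩; omega) (by rintro ⟨h1, h2⟩; omega) ρ hne
    rw [← hq'] at h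
    omega
  · haveI : Finite (Projectivization F (Fin (m + 1) → F)) := Quotient.finite _
    have hcard : Nat.card (Projectivization F (Fin (m + 1) → F)) = CfsgLib.LinDeg.geo q (m + 1) := by
      rw [Projectivization.card_of_finrank F (Fin (m + 1) → F) (Module.finrank_fin_fun F),
        Nat.card_eq_fintype_card]
      rfl
    have h2 : 2 ≤ Nat.card (Projectivization F (Fin (m + 1) → F)) := by
      have := CfsgLib.LinDeg.geo_succ' q m
      have : 1 ≤ CfsgLib.LinDeg.geo q m :=
        Finset.single_le_sum (f := fun i => q ^ i) (fun _ _ => Nat.zero_le _)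
          (Finset.mem_range.2 (show 0 < m by omega)) |>.trans_eq' (pow_zero q).symm
      have := Nat.mul_le_mul hq this
      omega
    haveI : MulAction.IsPretransitive (Matrix.SpecialLinearGroup (Fin (m + 1)) F)
        (Projectivization F (Fin (m + 1) → F)) :=
      MulAction.isPretransitive_of_is_two_pretransitive
    obtain ⟨d, σ, hσ, hchar⟩ := (CfsgLib.Char.isIrr_permChar_sub_one_iff
      (G := Matrix.SpecialLinearGroup (Fin (m + 1)) F) (Projectivization F (Fin (m + 1) → F)) h2).2
      inferInstance
    have hd : d = (q ^ (m + 1) - q) / (q - 1) := by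
      have h1 := congrFun hchar 1
      rw [Representation.char_one, Module.finrank_fin_fun, CfsgLib.Char.permChar] at h1
      have h3 : (MulAction.fixedBy (Projectivization F (Fin (m + 1) → F))
          (1 : Matrix.SpecialLinearGroup (Fin (m + 1)) F)) = Set.univ := by simp
      rw [h3, Nat.card_univ, hcard] at h1
      rw [hval]
      have h4 : ((d + 1 : ℕ) : ℂ) = (CfsgLib.LinDeg.geo q (m + 1) : ℂ) := by
        push_cast; linear_combination h1
      have := Nat.cast_injective (R := ℂ) h4
      omega
    subst hd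
    exact ⟨σ, hσ⟩

end Cfsg.Agent.S2332
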