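import Cfsg.Statements.S2333
import Cfsg.Agent.Lib.Classical.SpEven.Bound
import Cfsg.Agent.Lib.Classical.WeilSU.Final

set_option autoImplicit false
open Cfsg

namespace Cfsg.Agent.S2333

/-- For a finite field F of even order q and n ≥ 2 with (n, q) ≠ (2, 2), every irreducible complex representation of the symplectic group Sp_{2n}(F) of degree at least 2 has degree at least (q^n − 1)(q^n − q)/(2(q + 1)). -/
theorem result {F : Type*} [Field F] [Fintype F] [DecidableEq F] (n : ℕ) (hn : 2 ≤ n) (heven : Even (Fintype.card F)) (hex : (n, Fintype.card F) ≠ (2, 2)) :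
    (∀ (k : ℕ) (ρ : Representation ℂ (Matrix.symplecticGroup (Fin n) F) (Fin k → ℂ)), ρ.IsIrreducible → 2 ≤ k → (Fintype.card F ^ n - 1) * (Fintype.card F ^ n - Fintype.card F) / (2 * (Fintype.card F + 1)) ≤ k) := by
  classical
  intro k ρ hρ hk
  have h2 : ringChar F = 2 := FiniteField.even_card_iff_char_two.2 (Nat.even_iff.1 heven)
  haveI : CharP F 2 := ringChar.of_eq h2
  have h1 : 1 < Fintype.card F := Fintype.one_lt_card
  have h3 : n = 2 → 3 ≤ Fintype.card F := fun h => by
    by_contra hlt
    exact hex (by rw [h, show Fintype.card F = 2 by omega])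
  have h := CfsgLib.Classical.SpEven.degree_bound hn h3 ρ (CfsgLib.Classical.WeilSU.exists_ne_one ρ hρ hk)
  rw [Module.finrank_fin_fun] at h
  set q := Fintype.card F with hq
  have hf := CfsgLib.Classical.SpEven.minForms_formula q (by omega) n (by omega)
  have hqn : q ≤ q ^ n := Nat.le_self_pow (by omega) q
  have hp : 1 ≤ q ^ n := le_trans (by omega) hqn
  have e : (q + 1) * CfsgLib.Classical.SpEven.minForms q n = (q ^ n - 1) * (q ^ n - q) := by
    zify [hp, hqn]
    exact hf
  rw [← e]
  refine Nat.div_le_of_le_mul ?_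
  calc (q + 1) * CfsgLib.Classical.SpEven.minForms q n ≤ (q + 1) * (2 * k) := Nat.mul_le_mul_left _ h
    _ = 2 * (q + 1) * k := by ring

end Cfsg.Agent.S2333
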