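import Cfsg.Statements.S2337
import Cfsg.Agent.Lib.Lie.Suz.MinDeg

set_option autoImplicit false
open Cfsg
open CfsgLib.Lie

namespace Cfsg.Agent.S2337

/-- For the Suzuki group Sz(q), q = 2^(2m+1) with m ≥ 1 (realised inside Sp₄ over the field with q elements), every irreducible complex representation of degree at least 2 has degree at least 2^m·(q − 1). -/
theorem result {F : Type*} [Field F] [Fintype F] (m : ℕ) (hm : 1 ≤ m) (hF : Fintype.card F = 2 ^ (2 * m + 1)) :
    (∀ (k : ℕ) (ρ : Representation ℂ (Cfsg.Lie.Sz F (2 ^ (m + 1))) (Fin k → ℂ)), ρ.IsIrreducible → 2 ≤ k → 2 ^ m * (2 ^ (2 * m + 1) - 1) ≤ k) := by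
  intro k ρ hρ hk
  obtain ⟨e⟩ := Suz.exists_twEquiv (F := F) hm hF
  haveI := Suz.simple (F := F) hm hF
  have hinj : Function.Injective (ρ.comp e.toMonoidHom) := by
    rcases (MonoidHom.normal_ker (ρ.comp e.toMonoidHom)).eq_bot_or_eq_top with h | h
    · exact (MonoidHom.ker_eq_bot_iff _).1 h
    · exfalso
      have htriv : ∀ g, ρ g = 1 := fun g => by
        have : e.symm g ∈ (ρ.comp e.toMonoidHom).ker := h ▸ Subgroup.mem_top _
        simpa [MonoidHom.mem_ker] using this
      let v : Fin k → ℂ := Pi.single ⟨0, by omega⟩ 1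
      let L : Subrepresentation ρ := ⟨Submodule.span ℂ {v}, fun g w hw => by rw [htriv]; exact hw⟩
      rcases IsSimpleOrder.eq_bot_or_eq_top L with hL | hL
      · have hv : v ∈ L.toSubmodule := Submodule.mem_span_singleton_self v
        rw [hL] at hv
        have hv0 : v = 0 := (Submodule.mem_bot ℂ).1 hv
        simpa [v] using congrFun hv0 ⟨0, by omega⟩
      · have h1 : Module.finrank ℂ ↥L.toSubmodule ≤ 1 :=
          (finrank_span_le_card ({v} : Set (Fin k → ℂ))).trans (by simp)
        rw [hL] at h1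
        have h2 : Module.finrank ℂ ↥(⊤ : Submodule ℂ (Fin k → ℂ)) ≤ 1 := h1
        rw [finrank_top, Module.finrank_fin_fun] at h2
        omega
  have h := Suz.min_degree hm hF (ρ.comp e.toMonoidHom) hinj
  rwa [Module.finrank_fin_fun] at h

end Cfsg.Agent.S2337
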