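import Cfsg.Statements.S2338
import Cfsg.Agent.Lib.MinDeg.G2Omega
import Cfsg.Agent.Lib.MinDeg.G2Cube
import Cfsg.Agent.Lib.MinDeg.G2Three
import Cfsg.Agent.Lib.Char.Integrality

set_option autoImplicit false
set_option maxHeartbeats 1000000
open CfsgLib.Lie.Chev CfsgLib.MinDeg.RootSpace CfsgLib.MinDeg.GTwo
open scoped MatrixGroups

set_option autoImplicit false
open Cfsg

namespace Cfsg.Agent.S2338

theorem not_dvd {x : ℕ} (hx : 81 ≤ x) (hx3 : 3 ∣ x) (hxo : ¬ 2 ∣ x) {k : ℕ}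
    (hk : k + 2 = x ^ 2 + x ∨ k + 1 = x ^ 2 + x ∨ k = x ^ 2 + x)
    (hd : k ∣ x ^ 3 * (x - 1) * (x ^ 3 - 1)) : False := by
  have hZ : ((k : ℤ)) ∣ (x : ℤ) ^ 3 * ((x : ℤ) - 1) * ((x : ℤ) ^ 3 - 1) := by
    have := Int.natCast_dvd_natCast.2 hd
    push_cast [Nat.cast_sub (show 1 ≤ x by omega), Nat.cast_sub (Nat.one_le_pow 3 x (by omega))] at this
    exact this
  rcases hk with hk | hk | hk
  · have e : (k : ℤ) = ((x : ℤ) + 2) * ((x : ℤ) - 1) := by
      have : (k : ℤ) + 2 = (x : ℤ) ^ 2 + x := by exact_mod_cast hk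
      linear_combination this
    have h1 : ((x : ℤ) + 2) ∣ (216 : ℤ) := by
      have h := dvd_trans ⟨(x : ℤ) - 1, e⟩ hZ
      have h2 : ((x : ℤ) + 2) ∣ ((x : ℤ) ^ 3 * ((x : ℤ) - 1) * ((x : ℤ) ^ 3 - 1) + 216) := by
        refine ⟨(x : ℤ) ^ 6 - 3 * x ^ 5 + 6 * x ^ 4 - 13 * x ^ 3 + 27 * x ^ 2 - 54 * x + 108, ?_⟩
        ring
      simpa using (dvd_sub h2 h)
    have h2 : x + 2 ∣ 216 := by exact_mod_cast h1
    have h3 : Nat.Coprime (x + 2) 216 := by
      rw [show 216 = 2 ^ 3 * 3 ^ 3 by norm_num, Nat.coprime_mul_iff_right,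
        Nat.coprime_pow_right_iff (by norm_num), Nat.coprime_pow_right_iff (by norm_num)]
      exact ⟨((Nat.prime_two.coprime_iff_not_dvd).2 (by omega)).symm,
        ((Nat.prime_three.coprime_iff_not_dvd).2 (by omega)).symm⟩
    have := Nat.eq_one_of_dvd_one ((Nat.Coprime.dvd_of_dvd_mul_right h3 (by simpa using h2)) : x + 2 ∣ 1)
    omega
  · have e : (k : ℤ) = (x : ℤ) ^ 2 + x - 1 := by
      have : (k : ℤ) + 1 = (x : ℤ) ^ 2 + x := by exact_mod_cast hk
      linear_combination this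
    have h2 : (k : ℤ) ∣ 2 * (2 - 3 * (x : ℤ)) := by
      have h := hZ.mul_left (((x : ℤ) + 1) ^ 3)
      have hid : (((x : ℤ) + 1) ^ 3) * ((x : ℤ) ^ 3 * ((x : ℤ) - 1) * ((x : ℤ) ^ 3 - 1)) =
          ((k : ℤ) + 1) ^ 3 * (((x : ℤ) - 1) ^ 2 * k + 2 * k + 2 * (2 - 3 * (x : ℤ))) := by
        rw [e]; ring
      rw [hid] at h
      have h3 : (k : ℤ) ∣ ((k : ℤ) + 1) ^ 3 * (((x : ℤ) - 1) ^ 2 * k + 2 * k + 2 * (2 - 3 * (x : ℤ))) -
          2 * (2 - 3 * (x : ℤ)) :=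
        ⟨((x : ℤ) - 1) ^ 2 * ((k : ℤ) + 1) ^ 3 + 2 * ((k : ℤ) + 1) ^ 3 +
          2 * (2 - 3 * (x : ℤ)) * ((k : ℤ) ^ 2 + 3 * k + 3), by ring⟩
      simpa using dvd_sub h h3
    have hlt : |2 * (2 - 3 * (x : ℤ))| < (k : ℤ) := by
      rw [abs_lt, e]; constructor <;> nlinarith
    have := Int.eq_zero_of_abs_lt_dvd h2 hlt
    omega
  · have e : (k : ℤ) = ((x : ℤ) + 1) * x := by
      have : (k : ℤ) = (x : ℤ) ^ 2 + x := by exact_mod_cast hk
      linear_combination this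
    have h1 : ((x : ℤ) + 1) ∣ 4 := by
      have h := dvd_trans ⟨(x : ℤ), e⟩ hZ
      have h2 : ((x : ℤ) + 1) ∣ ((x : ℤ) ^ 3 * ((x : ℤ) - 1) * ((x : ℤ) ^ 3 - 1) + 4) :=
        ⟨(x : ℤ) ^ 6 - 2 * x ^ 5 + 2 * x ^ 4 - 3 * x ^ 3 + 4 * x ^ 2 - 4 * x + 4, by ring⟩
      simpa using (dvd_sub h2 h)
    have h2 : x + 1 ∣ 4 := by exact_mod_cast h1
    have := Nat.le_of_dvd (by norm_num) h2
    omega


/-- Lower bounds for the degrees of non-linear irreducible complex representations of the Chevalley group of type G₂ over a finite field with q elements: the degree is at least q³ + 1 when q ≡ 1 (mod 3) and q > 4, at least q³ − 1 when q ≡ 2 (mod 3) and q > 2, and at least q⁴ + q² + 1 when q ≡ 0 (mod 3) and q > 3. -/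
theorem result {F : Type*} [Field F] [Fintype F] (k : ℕ) (ρ : Representation ℂ (Cfsg.Lie.chevG2.group F) (Fin k → ℂ)) (hρ : ρ.IsIrreducible) (hk : 2 ≤ k) :
    (Fintype.card F % 3 = 1 → 4 < Fintype.card F → Fintype.card F ^ 3 + 1 ≤ k) ∧
    (Fintype.card F % 3 = 2 → 2 < Fintype.card F → Fintype.card F ^ 3 - 1 ≤ k) ∧
    (Fintype.card F % 3 = 0 → 3 < Fintype.card F → Fintype.card F ^ 4 + Fintype.card F ^ 2 + 1 ≤ k) := by
  set q := Fintype.card F with hq
  classical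
  haveI := hρ
  obtain ⟨ψ, hψ⟩ := exists_primitive F
  have hdim : Module.finrank ℂ (Fin k → ℂ) = k := Module.finrank_fin_fun ℂ
  have hf : 2 < q → ∃ x, ρ (gx CfsgLib.MinDeg.GTwo.C 11 1) x ≠ x := fun h => by
    haveI := isSimple (K := F) h
    by_contra! hall
    have e := CfsgLib.MinDeg.faithful_of_irreducible ρ hρ hk _ (LinearMap.ext fun x => hall x)
    have h11 : 11 < Cfsg.Lie.chevG2.nroots := by decide +kernel
    have e' := congrArg Subtype.val e
    rw [gx_coe _ h11] at e'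
    exact one_ne_zero ((CfsgLib.MinDeg.GTwo.C.G.xu_eq_one_iff _ (1 : F)).1 e')
  have h3ne : q % 3 ≠ 0 → (3 : F) ≠ 0 := fun h h3 => by
    haveI : Fact (Nat.Prime 3) := ⟨Nat.prime_three⟩
    haveI : CharP F 3 := (CharP.charP_iff_prime_eq_zero Nat.prime_three).2 (by exact_mod_cast h3)
    obtain ⟨n, -, hn⟩ := FiniteField.card F 3
    rw [hq, hn] at h
    exact h (Nat.mod_eq_zero_of_dvd (dvd_pow_self 3 n.ne_zero))
  refine ⟨fun h1 h4 => ?_, fun h2 h2' => ?_, fun h0 h3 => ?_⟩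
  · by_contra hlt
    have S := small (ρ := ρ) hψ h4 (h3ne (by omega)) (hf (by omega)) (by rw [hdim, ← hq]; omega)
    obtain ⟨ω, hω⟩ : ∃ ω : Fˣ, orderOf ω = 3 := by
      haveI : Fact (Nat.Prime 3) := ⟨Nat.prime_three⟩
      exact exists_prime_orderOf_dvd_card' 3 (by
        rw [Nat.card_eq_fintype_card, Fintype.card_units, ← hq]; omega)
    rcases Nat.le_one_iff_eq_zero_or_eq_one.1 S.dim00 with he | he
    · exact no_omega hψ (h3ne (by omega)) S he ω (hω ▸ pow_orderOf_eq_one ω)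
        (fun e => by rw [e, orderOf_one] at hω; omega)
    · exact no_cube hψ h4 S he
  · by_contra hlt
    have h5 : 5 ≤ q := by omega
    have := (small (ρ := ρ) hψ h5 (h3ne (by omega)) (hf (by omega)) (by rw [hdim, ← hq]; omega)).ge
    rw [hdim, ← hq] at this
    omega
  · by_contra hlt
    haveI : Fact (Nat.Prime 3) := ⟨Nat.prime_three⟩
    obtain ⟨p, hp⟩ := CharP.exists F
    obtain ⟨n, hpp, hn⟩ := FiniteField.card F p
    have hp3 : p = 3 := by
      have h := Nat.dvd_of_mod_eq_zero h0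
      rw [hq, hn] at h
      exact ((Nat.prime_dvd_prime_iff_eq Nat.prime_three hpp).1 (Nat.prime_three.dvd_of_dvd_pow h)).symm
    subst hp3
    have h3F : (3 : F) = 0 := by exact_mod_cast CharP.cast_eq_zero F 3
    have h9 : 9 ≤ q := by
      rw [hq, hn] at h3 ⊢
      have hn2 : 2 ≤ (n : ℕ) := by
        by_contra hh
        have : (n : ℕ) = 1 := by have := n.pos; omega
        rw [this] at h3
        omega
      exact le_trans (by norm_num) (Nat.pow_le_pow_right (show 0 < 3 by norm_num) hn2)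
    have hb := three_bound (ρ := ρ) hψ h3F ⟨n, hn⟩ h9 (hf (by omega)) (by rw [hdim, ← hq]; omega)
    rw [hdim, ← hq] at hb
    have hd := CfsgLib.Char.finrank_dvd_card ρ
    rw [hdim, CfsgLib.MinDeg.GTwo.card_group, ← hq] at hd
    have hodd : ¬ 2 ∣ q ^ 2 := fun h => by
      rw [hq, hn, ← pow_mul] at h
      have := Nat.prime_two.dvd_of_dvd_pow h
      omega
    refine not_dvd (x := q ^ 2) (k := k) (le_trans (by norm_num) (Nat.pow_le_pow_left h9 2))
      ((Nat.dvd_of_mod_eq_zero h0).trans (dvd_pow_self q two_ne_zero)) hodd ?_ ?_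
    · have : (q ^ 2) ^ 2 = q ^ 4 := by ring
      omega
    · rwa [show (q ^ 2) ^ 3 = q ^ 6 by ring]

end Cfsg.Agent.S2338
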