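import Cfsg.Statements.S2342
import Cfsg.Agent.Lib.MinDeg.Eigen
import Cfsg.Agent.Lib.MinDeg.TrialityTwo
import Cfsg.Agent.Lib.Char.Integrality

set_option autoImplicit false
set_option maxRecDepth 100000
set_option maxHeartbeats 2000000
open Cfsg
open Cfsg.Lie CfsgLib.Lie.Chev
open CfsgLib.Lie.Chev.TD4
open CfsgLib.MinDeg CfsgLib.MinDeg.Triality
open scoped MatrixGroups

namespace Cfsg.Agent.S2342

theorem not_dvd_order {q : ℕ} (hq : 2 ≤ q) : ¬ (q - 1) * (q ^ 4 + q ^ 3 + 1) ∣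
    q ^ 12 * ((q - 1) * (q ^ 3 - 1)) *
      (1 + q + q ^ 3 + 2 * q ^ 4 + q ^ 5 + q ^ 7 + 2 * q ^ 8 + q ^ 9 + q ^ 11 + q ^ 12) := by
  intro h
  have h1 : q ^ 4 + q ^ 3 + 1 ∣ q ^ 12 * ((q - 1) * (q ^ 3 - 1)) *
      (1 + q + q ^ 3 + 2 * q ^ 4 + q ^ 5 + q ^ 7 + 2 * q ^ 8 + q ^ 9 + q ^ 11 + q ^ 12) :=
    (dvd_mul_left _ _).trans h
  have h2 : ((q : ℤ) ^ 4 + (q : ℤ) ^ 3 + 1) ∣ (q : ℤ) ^ 12 * (((q : ℤ) - 1) * ((q : ℤ) ^ 3 - 1)) *
      (1 + q + (q : ℤ) ^ 3 + 2 * (q : ℤ) ^ 4 + (q : ℤ) ^ 5 + (q : ℤ) ^ 7 + 2 * (q : ℤ) ^ 8 + (q : ℤ) ^ 9 +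
        (q : ℤ) ^ 11 + (q : ℤ) ^ 12) := by
    have h1' := Int.natCast_dvd_natCast.2 h1
    push_cast [Nat.cast_sub (show 1 ≤ q by omega), Nat.cast_sub (Nat.one_le_pow 3 q (by omega))] at h1'
    exact h1'
  obtain ⟨Q, hQ⟩ : ∃ Q : ℤ, (q : ℤ) = Q := ⟨_, rfl⟩
  rw [hQ] at h2
  set r := Q ^ 4 + Q ^ 3 + 1 with hr
  have step : ∀ (a b u v e : ℤ), u * r + v * a = e → r ∣ a * b → r ∣ e * b := by
    intro a b u v e he hd
    rw [← he, add_mul, mul_assoc, mul_assoc]
    exact dvd_add ((dvd_mul_right r b).mul_left u) (hd.mul_left v)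
  have fac : Q ^ 12 * ((Q - 1) * (Q ^ 3 - 1)) *
      (1 + Q + Q ^ 3 + 2 * Q ^ 4 + Q ^ 5 + Q ^ 7 + 2 * Q ^ 8 + Q ^ 9 + Q ^ 11 + Q ^ 12) =
      Q * (Q * (Q * (Q * (Q * (Q * (Q * (Q * (Q * (Q * (Q * (Q * ((Q + 1) * ((Q + 1) * ((Q ^ 2 - Q + 1) *
        ((Q ^ 2 - Q + 1) * ((Q ^ 4 - Q ^ 2 + 1) * ((Q - 1) * ((Q - 1) * ((Q ^ 2 + Q + 1) * ((Q ^ 2 + Q + 1) * 1)))))))))))))))))))) := by
    ring
  rw [fac] at h2
  have eQ : ∀ b, r ∣ Q * b → r ∣ b := fun b hb => by
    simpa using step Q b 1 (-(Q ^ 3 + Q ^ 2)) 1 (by rw [hr]; ring) hb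
  have e2 : ∀ b, r ∣ (Q + 1) * b → r ∣ b := fun b hb => by
    simpa using step (Q + 1) b 1 (-Q ^ 3) 1 (by rw [hr]; ring) hb
  have e6 : ∀ b, r ∣ (Q ^ 2 - Q + 1) * b → r ∣ b := fun b hb => by
    simpa using step (Q ^ 2 - Q + 1) b (Q - 1) (1 - (Q - 1) * (Q + 1) ^ 2) 1 (by rw [hr]; ring) hb
  have e12 : ∀ b, r ∣ (Q ^ 4 - Q ^ 2 + 1) * b → r ∣ b := fun b hb => by
    simpa using step (Q ^ 4 - Q ^ 2 + 1) b (-(Q - 1)) (1 + (Q - 1)) 1 (by rw [hr]; ring) hb
  have h3 := e12 _ (e6 _ (e6 _ (e2 _ (e2 _ (eQ _ (eQ _ (eQ _ (eQ _ (eQ _ (eQ _ (eQ _ (eQ _ (eQ _ (eQ _ (eQ _ (eQ _ h2))))))))))))))))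
  have e1 : ∀ b, r ∣ (Q - 1) * b → r ∣ 3 * b := fun b hb =>
    step (Q - 1) b 1 (-(Q ^ 3 + 2 * Q ^ 2 + 2 * Q + 2)) 3 (by rw [hr]; ring) hb
  have e3 : ∀ b, r ∣ (Q ^ 2 + Q + 1) * b → r ∣ 3 * b := fun b hb =>
    step (Q ^ 2 + Q + 1) b (-(Q - 1)) (1 + (Q - 1) * (Q ^ 2 - 1)) 3 (by rw [hr]; ring) hb
  have h4 := e1 _ h3
  rw [mul_left_comm] at h4
  have h5 := e1 _ h4
  rw [mul_left_comm 3 (Q ^ 2 + Q + 1), mul_left_comm 3 (Q ^ 2 + Q + 1)] at h5
  have h6 := e3 _ h5
  rw [mul_left_comm 3 (Q ^ 2 + Q + 1), mul_left_comm 3 (Q ^ 2 + Q + 1), mul_left_comm 3 (Q ^ 2 + Q + 1)] at h6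
  have h7 : r ∣ 81 := (e3 _ h6).trans (by norm_num)
  have h8 : ((q ^ 4 + q ^ 3 + 1 : ℕ) : ℤ) ∣ ((81 : ℕ) : ℤ) := by
    push_cast; rw [hQ]; exact h7
  have h9 := Int.natCast_dvd_natCast.1 h8
  have h10 : q ≤ 2 := by
    by_contra hc
    have h3q : 3 ≤ q := by omega
    have := Nat.le_of_dvd (by norm_num) h9
    have : 81 ≤ q ^ 4 := le_trans (by norm_num) (Nat.pow_le_pow_left h3q 4)
    omega
  obtain rfl : q = 2 := by omega
  norm_num at h9

/-- For the twisted group ³D₄(q), realised over the field with q³ elements (q a prime power), every irreducible complex representation of degree at least 2 has degree at least q(q⁴ − q² + 1). -/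
theorem result {K : Type*} [Field K] [Fintype K] (q : ℕ) (hq : IsPrimePow q) (hK : Fintype.card K = q ^ 3) :
    (∀ (k : ℕ) (ρ : Representation ℂ (Cfsg.Lie.twistedD4 K q) (Fin k → ℂ)), ρ.IsIrreducible → 2 ≤ k → q * (q ^ 4 - q ^ 2 + 1) ≤ k) := by
  intro k ρ hρ hk
  classical
  obtain ⟨θ, hθ⟩ := Frob.exists_powEquiv (K := K) hq hK
  have h3 : ∀ t : K, θ (θ (θ t)) = t := h3_of θ hθ hK
  have P := TD4.twGp θ hθ h3
  have hΓ : twistedD4 K q = (twist θ).Fix := P.eq_Fix
  obtain ⟨-, -, hsimple, -⟩ := TD4.summary2 hq hK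
  haveI := hsimple
  haveI := hρ
  have hfaith := faithful_of_irreducible ρ hρ hk
  have hq1 : 1 < q := hq.one_lt
  haveI : Fintype ↥(Fx θ) := Fintype.ofFinite _
  haveI : Finite ↥(twistedD4 K q) := inferInstance
  have mem : ∀ {g : GL chevD4.Idx K}, g ∈ (twist θ).Fix → g ∈ twistedD4 K q := fun h => hΓ.symm ▸ h
  let gz : ↥(Fx θ) → ↥(twistedD4 K q) := fun δ => ⟨X 23 δ, mem (single_fix θ _ (by decide +kernel) δ.2)⟩
  let gd : ↥(Fx θ) → ↥(twistedD4 K q) := fun δ => ⟨X 22 δ, mem (single_fix θ _ (by decide +kernel) δ.2)⟩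
  let ga : ↥(Fx θ) → ↥(twistedD4 K q) := fun δ => ⟨X 14 δ, mem (single_fix θ _ (by decide +kernel) δ.2)⟩
  let gb : K → ↥(twistedD4 K q) := fun s => ⟨eb θ s, mem (eb_fix θ h3 s)⟩
  let gc : K → ↥(twistedD4 K q) := fun s => ⟨ec θ s, mem (ec_fix θ h3 s)⟩
  let gx : K → ↥(twistedD4 K q) := fun s => ⟨ex θ s, (TD4.triple_mem θ hθ).1 s⟩
  let tor : ∀ A B : Kˣ, θ (A : K) = A → ↥(twistedD4 K q) := fun A B hA =>
    ⟨TD4.C.G.torθ (par θ A B), P.H_le ((twist θ).torθ_mem_Fix (par_fixed θ h3 hA))⟩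
  let Fu := {u : Kˣ // θ (u : K) = (u : K)}
  let mF : ↥(Fx θ) → ↥(Fx θ) → ↥(Fx θ) := fun a b => ⟨(a : K) * b, by
    show θ ((a : K) * b) = (a : K) * b
    rw [map_mul, a.2, b.2]⟩
  let iF : ↥(Fx θ) → ↥(Fx θ) := fun a => ⟨(a : K)⁻¹, by
    show θ ((a : K)⁻¹) = (a : K)⁻¹
    rw [map_inv₀, a.2]⟩
  let uF : Fu → ↥(Fx θ) := fun u => ⟨(u.1 : K), u.2⟩
  let oneF : ↥(Fx θ) := ⟨1, map_one θ⟩
  let TF : K → ↥(Fx θ) := fun x => ⟨T θ x, T_fixed θ h3 x⟩
  let y : ↥(Fx θ) × ↥(Fx θ) × K → ↥(twistedD4 K q) := fun p => gz p.1 * gd p.2.1 * gc p.2.2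
  have hzd : ∀ a b, Commute (gz a) (gd b) := fun a b => Subtype.ext (z_commute_d (K := K) a b).eq
  have hzc : ∀ a b, Commute (gz a) (gc b) := fun a b => Subtype.ext (z_commute_ec θ a b).eq
  have hdc : ∀ a b, Commute (gd a) (gc b) := fun a b => Subtype.ext (d_commute_ec θ a b).eq
  have hzA : ∀ a b, gz (a + b) = gz a * gz b := fun a b => Subtype.ext (TD4.C.G.xu_add _ _ _)
  have hdA : ∀ a b, gd (a + b) = gd a * gd b := fun a b => Subtype.ext (TD4.C.G.xu_add _ _ _)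
  have haA : ∀ a b, ga (a + b) = ga a * ga b := fun a b => Subtype.ext (TD4.C.G.xu_add _ _ _)
  have hcA : ∀ a b, gc (a + b) = gc a * gc b := fun a b => Subtype.ext (ec_add θ a b)
  have hbA : ∀ a b, gb (a + b) = gb a * gb b := fun a b => Subtype.ext (eb_add θ a b)
  have hz0 : gz 0 = 1 := Subtype.ext (TD4.C.G.xu_zero _)
  have hd0 : gd 0 = 1 := Subtype.ext (TD4.C.G.xu_zero _)
  have hc0 : gc 0 = 1 := by
    have := hcA 0 0
    rw [add_zero] at this
    exact left_eq_mul.1 this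
  have ha0 : ga 0 = 1 := Subtype.ext (TD4.C.G.xu_zero _)
  have hb0 : gb 0 = 1 := by
    have := hbA 0 0
    rw [add_zero] at this
    exact left_eq_mul.1 this
  have ymul : ∀ p p', y (p + p') = y p * y p' := by
    intro p p'
    show gz (p.1 + p'.1) * gd (p.2.1 + p'.2.1) * gc (p.2.2 + p'.2.2) = _
    rw [hzA, hdA, hcA]
    show _ = gz p.1 * gd p.2.1 * gc p.2.2 * (gz p'.1 * gd p'.2.1 * gc p'.2.2)
    calc gz p.1 * gz p'.1 * (gd p.2.1 * gd p'.2.1) * (gc p.2.2 * gc p'.2.2)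
        = gz p.1 * (gz p'.1 * gd p.2.1) * (gd p'.2.1 * gc p.2.2) * gc p'.2.2 := by group
      _ = gz p.1 * gd p.2.1 * (gz p'.1 * gc p.2.2) * gd p'.2.1 * gc p'.2.2 := by
          rw [(hzd _ _).eq, (hdc _ _).eq]; group
      _ = _ := by rw [(hzc _ _).eq]; group
  have yz : ∀ z, y (z, 0, 0) = gz z := fun z => by
    show gz z * gd 0 * gc 0 = gz z
    rw [hd0, hc0, mul_one, mul_one]
  have yd : ∀ d, y (0, d, 0) = gd d := fun d => by
    show gz 0 * gd d * gc 0 = gd d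
    rw [hz0, hc0, one_mul, mul_one]
  have ρm : ∀ g h x, ρ (g * h) x = ρ g (ρ h x) := fun g h x => by rw [map_mul]; rfl
  have translate : ∀ (g Y Y' : ↥(twistedD4 K q)) (x : Fin k → ℂ) (e : ℂ), Y * g = g * Y' → ρ Y' x = e • x →
      ρ Y (ρ g x) = e • ρ g x := fun g Y Y' x e h hx => by rw [← ρm, h, ρm, hx, map_smul]
  -- conjugation relations
  have ya : ∀ α z d t, y (z, d, t) * ga α = ga α * y (z - mF α d, d, t) := by
    intro α z d t
    show gz z * gd d * gc t * ga α = ga α * (gz (z - mF α d) * gd d * gc t)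
    have h1 : gd d * ga α = ga α * (gd d * gz (-mF α d)) := Subtype.ext (by
      show X 22 (d : K) * X 14 (α : K) = X 14 (α : K) * (X 22 (d : K) * X 23 (-((α : K) * d)))
      rw [← a_conj_d]; group)
    have h2 : gc t * ga α = ga α * gc t := Subtype.ext (a_commute_ec θ α t).eq.symm
    have h4 : gz z * ga α = ga α * gz z := Subtype.ext (z_commute_a (K := K) z α).eq
    rw [mul_assoc _ (gc t), h2, ← mul_assoc, mul_assoc _ (gd d), h1, sub_eq_add_neg, hzA,
      ← mul_assoc (gz z), h4, (hzd (-mF α d) d).symm.eq]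
    group
  have yb : ∀ β z d t, y (z, d, t) * gb β = gb β * y (z + TF (β * t), d, t) := by
    intro β z d t
    show gz z * gd d * gc t * gb β = gb β * (gz (z + TF (β * t)) * gd d * gc t)
    have h1 : gc t * gb β = gb β * (gc t * gz (TF (β * t))) := Subtype.ext (by
      show ec θ t * eb θ β = eb θ β * (ec θ t * X 23 (T θ (β * t)))
      rw [← eb_conj_ec]; group)
    have h2 : gd d * gb β = gb β * gd d := Subtype.ext (d_commute_eb θ d β).eq
    have h4 : gz z * gb β = gb β * gz z := Subtype.ext (z_commute_eb θ z β).eq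
    rw [mul_assoc _ (gc t), h1, ← mul_assoc, mul_assoc _ (gd d), h2, ← mul_assoc (gz z), h4, hzA,
      (hzc (TF (β * t)) t).symm.eq]
    calc gb β * gz z * gd d * (gz (TF (β * t)) * gc t)
        = gb β * gz z * (gd d * gz (TF (β * t))) * gc t := by group
      _ = _ := by rw [(hzd (TF (β * t)) d).symm.eq]; group
  have yx : ∀ s z d t, y (z, d, t) * gx s = gx s * y (z, d + TF (s * t), t) := by
    intro s z d t
    show gz z * gd d * gc t * gx s = gx s * (gz z * gd (d + TF (s * t)) * gc t)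
    have h1 : gc t * gx s = gx s * (gc t * gd (TF (s * t))) := Subtype.ext (by
      show ec θ t * ex θ s = ex θ s * (ec θ t * X 22 (T θ (s * t)))
      rw [← ex_conj_ec]; group)
    have h2 : gd d * gx s = gx s * gd d := Subtype.ext (d_commute_ex θ d s).eq
    have h4 : gz z * gx s = gx s * gz z := Subtype.ext (z_commute_ex θ z s).eq
    rw [mul_assoc _ (gc t), h1, ← mul_assoc, mul_assoc _ (gd d), h2, ← mul_assoc (gz z), h4, hdA,
      (hdc (TF (s * t)) t).symm.eq]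
    group
  have row : ∀ (i : ℕ) (hi : i < chevD4.nroots) (m0 m1 m2 m3 : ℤ),
      [nd 0, nd 1, nd 2, nd 3].map (fun j => cart chevD4 j (rt i hi)) = [m0, m1, m2, m3] → ∀ (A B : Kˣ) (t : K),
      TD4.C.G.torθ (par θ A B) * X i t hi * (TD4.C.G.torθ (par θ A B))⁻¹ =
        X i ((B : K) ^ m0 * (A : K) ^ m1 * θ (B : K) ^ m2 * θ (θ (B : K)) ^ m3 * t) hi :=
    fun i hi m0 m1 m2 m3 hm A B t => par_conj θ A B hi m0 m1 m2 m3 hm t
  have hθ0 : ∀ B : Kˣ, θ (B : K) ≠ 0 ∧ θ (θ (B : K)) ≠ 0 := fun B =>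
    ⟨fun h => B.ne_zero ((map_eq_zero θ).1 h), fun h => B.ne_zero ((map_eq_zero θ).1 ((map_eq_zero θ).1 h))⟩
  let Nm : Kˣ → K := fun B => (B : K) * θ (B : K) * θ (θ (B : K))
  have Nm_fix : ∀ B, θ (Nm B) = Nm B := fun B => by simp only [Nm, map_mul, h3]; ring
  have Nm_ne : ∀ B, Nm B ≠ 0 := fun B => mul_ne_zero (mul_ne_zero B.ne_zero (hθ0 B).1) (hθ0 B).2
  let cw : Kˣ → K := fun B => θ (B : K) * θ (θ (B : K)) * (B : K)⁻¹
  have tor_y : ∀ A B hA z d t, y (z, d, t) * (tor A B hA)⁻¹ = (tor A B hA)⁻¹ *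
      y (mF (uF ⟨A, hA⟩) z, mF (mF (iF (uF ⟨A, hA⟩)) ⟨Nm B, Nm_fix B⟩) d, cw B * t) := by
    intro A B hA z d t
    have hz : tor A B hA * gz z * (tor A B hA)⁻¹ = gz (mF (uF ⟨A, hA⟩) z) := Subtype.ext (by
      show TD4.C.G.torθ (par θ A B) * X 23 (z : K) * (TD4.C.G.torθ (par θ A B))⁻¹ = X 23 ((A : K) * z)
      rw [row 23 _ 0 1 0 0 (by decide +kernel)]
      simp)
    have hd : tor A B hA * gd d * (tor A B hA)⁻¹ = gd (mF (mF (iF (uF ⟨A, hA⟩)) ⟨Nm B, Nm_fix B⟩) d) :=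
      Subtype.ext (by
      show TD4.C.G.torθ (par θ A B) * X 22 (d : K) * (TD4.C.G.torθ (par θ A B))⁻¹ =
        X 22 ((A : K)⁻¹ * ((B : K) * θ (B : K) * θ (θ (B : K))) * d)
      rw [row 22 _ 1 (-1) 1 1 (by decide +kernel)]
      congr 1
      simp only [zpow_one, zpow_neg_one]
      ring)
    have hc : tor A B hA * gc t * (tor A B hA)⁻¹ = gc (cw B * t) := Subtype.ext (by
      show TD4.C.G.torθ (par θ A B) * ec θ t * (TD4.C.G.torθ (par θ A B))⁻¹ = ec θ (cw B * t)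
      obtain ⟨b1, b2⟩ := hθ0 B
      have hB := B.ne_zero
      rw [ec, ec,
        show ∀ g a b c : GL chevD4.Idx K, g * (a * b * c) * g⁻¹ = g * a * g⁻¹ * (g * b * g⁻¹) * (g * c * g⁻¹)
          from fun g a b c => by group,
        row 17 _ (-1) 0 1 1 (by decide +kernel), row 20 _ 1 0 (-1) 1 (by decide +kernel),
        row 21 _ 1 0 1 (-1) (by decide +kernel)]
      refine congrArg₂ (· * ·) (congrArg₂ (· * ·) ?_ ?_) ?_ <;> congr 1 <;>
        simp only [cw, zpow_one, zpow_neg_one, zpow_zero, map_mul, map_inv₀, h3] <;> ring)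
    show gz z * gd d * gc t * (tor A B hA)⁻¹ = _
    show _ = (tor A B hA)⁻¹ * (gz (mF (uF ⟨A, hA⟩) z) *
      gd (mF (mF (iF (uF ⟨A, hA⟩)) ⟨Nm B, Nm_fix B⟩) d) * gc (cw B * t))
    rw [← hz, ← hd, ← hc]
    group
  have tor_a : ∀ A B hA δ, ga δ * (tor A B hA)⁻¹ = (tor A B hA)⁻¹ *
      ga (mF (mF (mF (uF ⟨A, hA⟩) (uF ⟨A, hA⟩)) (iF ⟨Nm B, Nm_fix B⟩)) δ) := by
    intro A B hA δ
    have ha : tor A B hA * ga δ * (tor A B hA)⁻¹ =
        ga (mF (mF (mF (uF ⟨A, hA⟩) (uF ⟨A, hA⟩)) (iF ⟨Nm B, Nm_fix B⟩)) δ) := Subtype.ext (by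
      show TD4.C.G.torθ (par θ A B) * X 14 (δ : K) * (TD4.C.G.torθ (par θ A B))⁻¹ =
        X 14 ((A : K) * A * ((B : K) * θ (B : K) * θ (θ (B : K)))⁻¹ * δ)
      rw [row 14 _ (-1) 2 (-1) (-1) (by decide +kernel)]
      congr 1
      simp only [zpow_two, zpow_neg_one, mul_inv]
      ring)
    rw [← ha]
    group
  -- characters on the fixed field
  have hker : ∀ χ : ↥(Fx θ) → ℂ, (∃ z, χ z ≠ 1) → ∀ a, (∀ z, χ (mF a z) = 1) → a = 0 := by
    rintro χ ⟨z1, hz1⟩ a ha
    by_contra h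
    have h' : (a : K) ≠ 0 := fun e => h (Subtype.ext e)
    refine hz1 ?_
    have := ha (mF (iF a) z1)
    rwa [show mF a (mF (iF a) z1) = z1 from Subtype.ext (mul_inv_cancel_left₀ h' _)] at this
  obtain ⟨w0, hw0⟩ := exists_trace_ne θ hq1 hθ hK
  have Tsurj : ∀ u : K, u ≠ 0 → ∀ δ : ↥(Fx θ), ∃ t, TF (u * t) = δ := by
    intro u hu δ
    refine ⟨u⁻¹ * (((δ : K) * (T θ w0)⁻¹) * w0), Subtype.ext ?_⟩
    show T θ (u * (u⁻¹ * (((δ : K) * (T θ w0)⁻¹) * w0))) = δ
    rw [mul_inv_cancel_left₀ hu]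
    have hfix : θ ((δ : K) * (T θ w0)⁻¹) = (δ : K) * (T θ w0)⁻¹ := by
      rw [map_mul, map_inv₀, T_fixed θ h3, δ.2]
    have : ∀ s w : K, θ s = s → T θ (s * w) = s * T θ w := fun s w hs => by
      simp only [T, map_mul, hs]
      ring
    rw [this _ _ hfix, inv_mul_cancel_right₀ hw0]
  have TFadd : ∀ a b, TF (a + b) = TF a + TF b := fun a b => Subtype.ext (by
    show T θ (a + b) = T θ a + T θ b
    simp only [T, map_add]; ring)
  have TF0 : TF 0 = 0 := Subtype.ext (by show T θ 0 = 0; simp [T])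
  have hcardG : Nat.card ↥(twistedD4 K q) ≠ 0 := Nat.card_pos.ne'
  haveI : Nontrivial ↥(twistedD4 K q) := IsSimpleGroup.toNontrivial
  have hn1 : 1 < Nat.card ↥(twistedD4 K q) := Finite.one_lt_card
  have hpow : ∀ g, ρ g ^ Nat.card ↥(twistedD4 K q) = 1 := fun g => by rw [← map_pow, pow_card_eq_one', map_one]
  have eig_char : ∀ (x : Fin k → ℂ) (c : ↥(Fx θ) × ↥(Fx θ) × K → ℂ), x ≠ 0 → (∀ p, ρ (y p) x = c p • x) →
      (∀ p p', c (p + p') = c p * c p') ∧ c 0 = 1 ∧ ∀ p, c p ≠ 0 := by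
    intro x c hx hc
    have h0 : c 0 = 1 := by
      refine smul_left_injective ℂ hx ?_
      show c 0 • x = (1 : ℂ) • x
      rw [← hc, show y 0 = 1 from (yz 0).trans hz0, map_one, Module.End.one_apply, one_smul]
    have hmul : ∀ p p', c (p + p') = c p * c p' := fun p p' => by
      refine smul_left_injective ℂ hx ?_
      show c (p + p') • x = (c p * c p') • x
      rw [← hc, ymul, ρm, hc p', map_smul, hc p, smul_smul, mul_comm]
    refine ⟨hmul, h0, fun p h => ?_⟩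
    have := hmul p (-p)
    rw [h, zero_mul, add_neg_cancel, h0] at this
    exact one_ne_zero this
  have ycomm : ∀ p p', ∀ x, ρ (y p) (ρ (y p') x) = ρ (y p') (ρ (y p) x) := fun p p' x => by
    rw [← ρm, ← ρm, ← ymul, ← ymul, add_comm]
  -- a vector where the centre acts nontrivially
  have hz1 : ρ (gz oneF) ≠ 1 := fun h => by
    have := congrArg Subtype.val (hfaith _ h)
    have h1 : X 23 (1 : K) = X 23 0 := this.trans (TD4.C.G.xu_zero _).symm
    exact one_ne_zero (TD4.C.G.xu_injective _ h1)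
  obtain ⟨ω, hω, x1, -, hx1, hx1e⟩ := exists_eigen_ne_one (ρ (gz oneF)) hn1 (hpow _) ⊤ (fun _ _ => Submodule.mem_top)
    (by
      by_contra! h
      exact hz1 (LinearMap.ext fun x => h x Submodule.mem_top))
  obtain ⟨x0, hx0W, hx0, c, hc⟩ := exists_common (fun p => ρ (y p)) (Module.End.eigenspace (ρ (gz oneF)) ω)
    ((Submodule.ne_bot_iff _).2 ⟨x1, Module.End.mem_eigenspace_iff.2 hx1e, hx1⟩)
    (fun p x hx => Module.End.mem_eigenspace_iff.2 (by
      rw [← yz oneF, ycomm, yz, Module.End.mem_eigenspace_iff.1 hx, map_smul]))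
    (fun p p' x _ => ycomm p p' x)
  obtain ⟨cmul, c0, cne⟩ := eig_char x0 c hx0 hc
  set lam : ↥(Fx θ) → ℂ := fun z => c (z, 0, 0) with hlam
  have hlam1 : lam oneF ≠ 1 := by
    refine fun h => hω (smul_left_injective ℂ hx0 ?_)
    show ω • x0 = (1 : ℂ) • x0
    rw [← Module.End.mem_eigenspace_iff.1 hx0W, ← yz oneF, hc, ← h]
  have lam_add : ∀ a b, lam (a + b) = lam a * lam b := fun a b => by
    rw [hlam]
    show c (a + b, 0, 0) = _
    rw [← cmul, Prod.mk_add_mk, Prod.mk_add_mk, add_zero, add_zero]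
  have lam_sub : ∀ a b, lam a = lam b → lam (a - b) = 1 := fun a b h => by
    have := lam_add (a - b) b
    rw [sub_add_cancel, h] at this
    exact mul_right_cancel₀ (cne _) (this.symm.trans (one_mul _).symm)
  have csplit : ∀ z d t, c (z, d, t) = lam z * c (0, d, t) := fun z d t => by
    rw [hlam]
    show c (z, d, t) = c (z, 0, 0) * c (0, d, t)
    rw [← cmul, Prod.mk_add_mk, Prod.mk_add_mk, add_zero, zero_add, zero_add]
  -- fixed by the element `d`, moved by the centre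
  obtain ⟨α₀, hα₀⟩ := exists_cancel lam lam_add (by rw [hlam]; exact c0)
    (fun u t => -mF u t) (fun u t t' => Subtype.ext (by show -((u : K) * (t + t')) = -(u * t) + -(u * t'); ring))
    (fun u u' t => Subtype.ext (by show -(((u : K) + u') * t) = -(u * t) + -(u' * t); ring))
    (fun u hu => by
      have h := hker lam ⟨oneF, hlam1⟩ (-u) fun z => by
        rw [show mF (-u) z = -mF u z from Subtype.ext (neg_mul _ _)]
        exact hu z
      rw [← neg_neg u, h, neg_zero])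
    (fun d => c (0, d, 0))
    (fun a b => by rw [← cmul, Prod.mk_add_mk, Prod.mk_add_mk, add_zero, add_zero]) c0
  set xw := ρ (ga α₀) x0 with hxw
  have hxwd : ∀ d, ρ (gd d) xw = xw := fun d => by
    rw [← yd, hxw, translate _ _ _ _ _ (ya α₀ 0 d 0) (hc _), zero_sub, csplit, mul_comm, hα₀ d, one_smul]
  have hxwz : ρ (gz oneF) xw = lam oneF • xw := by
    rw [← yz, hxw, translate _ _ _ _ _ (ya α₀ oneF 0 0) (hc _)]
    rw [show mF α₀ (0 : ↥(Fx θ)) = 0 from Subtype.ext (mul_zero _), sub_zero]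
  have hinj : ∀ g, Function.Injective (ρ g) := fun g a b h => by
    have := congrArg (ρ g⁻¹) h
    rwa [← ρm, ← ρm, inv_mul_cancel, map_one] at this
  have hxw0 : xw ≠ 0 := fun h => hx0 (hinj (ga α₀) (h.trans (map_zero _).symm))
  -- Weyl elements
  have weyl : ∀ (o : Fin orbGraphD4.no) (i j : ℕ) (hi : i < chevD4.nroots) (hj : j < chevD4.nroots),
      (graphD4.p.get i = i ∧ graphD4.eps.get i = false) → (graphD4.p.get j = j ∧ graphD4.eps.get j = false) →
      ((orbits θ).wO o (rt i hi)).val = j → ∃ e : ↥(Fx θ), (e : K) ≠ 0 ∧ ∀ δ : ↥(Fx θ),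
        P.toPre.nk o * X i (δ : K) hi * (P.toPre.nk o)⁻¹ = X j ((mF e δ : ↥(Fx θ)) : K) hj := by
    intro o i j hi hj hfi hfj hπ
    obtain ⟨e, he⟩ := P.toPre.nk_perm o (rt i hi)
    have hπ' : (orbits θ).wO o (rt i hi) = rt j hj := Fin.ext hπ
    rw [hπ'] at he
    have hmem : X j ((e : K) * 1) hj ∈ (twist θ).Fix := by
      rw [show X j ((e : K) * 1) hj = P.toPre.nk o * X i 1 hi * (P.toPre.nk o)⁻¹ from (he 1).symm, ← hΓ]
      exact mul_mem (mul_mem (P.toPre.nk_mem o) (mem (single_fix θ hi hfi (map_one θ)))) (inv_mem (P.toPre.nk_mem o))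
    have hef : θ (e : K) = e := by simpa using single_fixed θ hj hfj hmem
    exact ⟨⟨e, hef⟩, e.ne_zero, fun δ => he δ⟩
  have wval : ∀ (o : Fin orbGraphD4.no) (i : ℕ) (hi : i < chevD4.nroots),
      ((orbits θ).wO o (rt i hi)).val = digit (orbGraphD4.tab.get o.val) i := fun o i hi => wO_val θ o (rt i hi)
  obtain ⟨e1, he10, he1⟩ := weyl o0 23 22 (by decide +kernel) (by decide +kernel) (by decide +kernel) (by decide +kernel)
    (by rw [wval]; decide +kernel)
  obtain ⟨e2, he20, he2⟩ := weyl o0 22 23 (by decide +kernel) (by decide +kernel) (by decide +kernel) (by decide +kernel)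
    (by rw [wval]; decide +kernel)
  obtain ⟨e3, he30, he3⟩ := weyl o1 23 23 (by decide +kernel) (by decide +kernel) (by decide +kernel) (by decide +kernel)
    (by rw [wval]; decide +kernel)
  obtain ⟨e4, he40, he4⟩ := weyl o1 22 14 (by decide +kernel) (by decide +kernel) (by decide +kernel) (by decide +kernel)
    (by rw [wval]; decide +kernel)
  let n0 : ↥(twistedD4 K q) := ⟨P.toPre.nk o0, P.toPre.nk_mem o0⟩
  let n1 : ↥(twistedD4 K q) := ⟨P.toPre.nk o1, P.toPre.nk_mem o1⟩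
  have wz : ∀ δ, gz δ * n0⁻¹ = n0⁻¹ * gd (mF e1 δ) := fun δ => by
    have h : n0 * gz δ * n0⁻¹ = gd (mF e1 δ) := Subtype.ext (he1 δ)
    rw [← h]; group
  have wd : ∀ δ, gd δ * n0⁻¹ = n0⁻¹ * gz (mF e2 δ) := fun δ => by
    have h : n0 * gd δ * n0⁻¹ = gz (mF e2 δ) := Subtype.ext (he2 δ)
    rw [← h]; group
  have wz1 : ∀ δ, gz δ * n1⁻¹ = n1⁻¹ * gz (mF e3 δ) := fun δ => by
    have h : n1 * gz δ * n1⁻¹ = gz (mF e3 δ) := Subtype.ext (he3 δ)
    rw [← h]; group
  have wd1 : ∀ δ, gd δ * n1⁻¹ = n1⁻¹ * ga (mF e4 δ) := fun δ => by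
    have h : n1 * gd δ * n1⁻¹ = ga (mF e4 δ) := Subtype.ext (he4 δ)
    rw [← h]; group
  -- the fixed space of the centre
  let VZ : Submodule ℂ (Fin k → ℂ) := ⨅ δ, Module.End.eigenspace (ρ (gz δ)) 1
  have mVZ : ∀ x, x ∈ VZ ↔ ∀ δ, ρ (gz δ) x = x := fun x => by simp [VZ, Submodule.mem_iInf]
  set v' := ρ n0⁻¹ xw with hv'
  have hv'Z : v' ∈ VZ := (mVZ _).2 fun δ => by rw [hv', ← ρm, wz, ρm, hxwd]
  set δ1 := iF e2 with hδ1
  have hv'd : ρ (gd δ1) v' ≠ v' := fun h => by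
    rw [hv', ← ρm, wd, ρm, show mF e2 δ1 = oneF from Subtype.ext (mul_inv_cancel₀ he20), hxwz] at h
    exact hlam1 (smul_left_injective ℂ hxw0 (by simpa using hinj _ h))
  have VZinv : ∀ g : ↥(twistedD4 K q), (∀ δ, ∃ δ', gz δ * g = g * gz δ') → ∀ x ∈ VZ, ρ g x ∈ VZ :=
    fun g hg x hx => (mVZ _).2 fun δ => by
      obtain ⟨δ', h⟩ := hg δ
      rw [← ρm, h, ρm, (mVZ x).1 hx δ']
  obtain ⟨ω', hω', x2, hx2Z, hx2, hx2e⟩ := exists_eigen_ne_one (ρ (gd δ1)) hn1 (hpow _) VZ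
    (VZinv _ fun δ => ⟨δ, (hzd δ δ1).eq⟩) ⟨v', hv'Z, hv'd⟩
  obtain ⟨v2, ⟨hv2Z, hv2W⟩, hv20, c2, hc2⟩ := exists_common (fun p => ρ (y p))
    (VZ ⊓ Module.End.eigenspace (ρ (gd δ1)) ω')
    ((Submodule.ne_bot_iff _).2 ⟨x2, ⟨hx2Z, Module.End.mem_eigenspace_iff.2 hx2e⟩, hx2⟩)
    (fun p x hx => ⟨(mVZ _).2 fun δ => by rw [← yz, ycomm, yz, (mVZ x).1 hx.1 δ],
      Module.End.mem_eigenspace_iff.2 (by rw [← yd δ1, ycomm, yd, Module.End.mem_eigenspace_iff.1 hx.2, map_smul])⟩)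
    (fun p p' x _ => ycomm p p' x)
  obtain ⟨c2mul, c20, c2ne⟩ := eig_char v2 c2 hv20 hc2
  set dd : ↥(Fx θ) → ℂ := fun d => c2 (0, d, 0) with hdd
  have hdd1 : dd δ1 ≠ 1 := by
    refine fun h => hω' (smul_left_injective ℂ hv20 ?_)
    show ω' • v2 = (1 : ℂ) • v2
    rw [← Module.End.mem_eigenspace_iff.1 hv2W, ← yd δ1, hc2, ← h]
  have dd_add : ∀ a b, dd (a + b) = dd a * dd b := fun a b => by
    rw [hdd]
    show c2 (0, a + b, 0) = _
    rw [← c2mul, Prod.mk_add_mk, Prod.mk_add_mk, add_zero, add_zero]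
  have dd0 : dd 0 = 1 := c20
  have dd_ne : ∀ a, dd a ≠ 0 := fun a => c2ne _
  have dd_sub : ∀ a b, dd a = dd b → dd (a - b) = 1 := fun a b h => by
    have := dd_add (a - b) b
    rw [sub_add_cancel, h] at this
    exact mul_right_cancel₀ (dd_ne _) (this.symm.trans (one_mul _).symm)
  have c2split : ∀ z d t, c2 (z, d, t) = dd d * c2 (0, 0, t) := by
    intro z d t
    have h1 : c2 (z, 0, 0) = 1 := by
      refine smul_left_injective ℂ hv20 ?_
      show c2 (z, 0, 0) • v2 = (1 : ℂ) • v2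
      rw [← hc2, yz, (mVZ v2).1 hv2Z z, one_smul]
    rw [hdd]
    show c2 (z, d, t) = c2 (0, d, 0) * c2 (0, 0, t)
    calc c2 (z, d, t) = c2 (z, 0, 0) * (c2 (0, d, 0) * c2 (0, 0, t)) := by
          rw [← c2mul, ← c2mul]; congr 1; simp
      _ = _ := by rw [h1, one_mul]
  obtain ⟨u₀, hu₀⟩ := exists_cancel dd dd_add dd0 (fun u t : K => TF (u * t))
    (fun u t t' => by rw [mul_add, TFadd]) (fun u u' t => by rw [add_mul, TFadd])
    (fun u hu => by
      by_contra hne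
      obtain ⟨t, ht⟩ := Tsurj u hne δ1
      exact hdd1 (ht ▸ hu t))
    (fun t => c2 (0, 0, t)) (fun a b => by rw [← c2mul, Prod.mk_add_mk, Prod.mk_add_mk, add_zero]) c20
  set v0 := ρ (gx u₀) v2 with hv0
  have hv0e : ∀ z d t, ρ (y (z, d, t)) v0 = dd d • v0 := by
    intro z d t
    rw [hv0, translate _ _ _ _ _ (yx u₀ z d t) (hc2 _), c2split, dd_add, mul_assoc, mul_comm (dd _) (c2 _),
      hu₀, mul_one]
  have hv00 : v0 ≠ 0 := fun h => hv20 (hinj (gx u₀) (h.trans (map_zero _).symm))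
  -- the bound
  let SD : Submodule ℂ (Fin k → ℂ) := VZ ⊓ ⨅ δ, Module.End.eigenspace (ρ (gd δ)) 1
  have mSD : ∀ x, x ∈ SD ↔ x ∈ VZ ∧ ∀ δ, ρ (gd δ) x = x := fun x => by simp [SD, Submodule.mem_iInf]
  have cardFx : Fintype.card ↥(Fx θ) = q := by
    rw [← Nat.card_eq_fintype_card, ← Frob.card_fixed hq hK]
    exact Nat.card_congr (Equiv.subtypeEquivRight fun x => by show θ x = x ↔ _; rw [hθ])
  haveI : Fintype Fu := Fintype.ofFinite _
  have cardFu : Fintype.card Fu = q - 1 := by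
    rw [← Nat.card_eq_fintype_card, ← card_fixed_units hq hK]
    exact Nat.card_congr (Equiv.subtypeEquivRight fun x => by rw [hθ])
  let τ : Fu → ↥(twistedD4 K q) := fun γ => (tor γ.1 1 γ.2)⁻¹
  have tauy : ∀ γ z d t, y (z, d, t) * τ γ = τ γ * y (mF (uF γ) z, mF (iF (uF γ)) d, t) := by
    intro γ z d t
    rw [show τ γ = (tor γ.1 1 γ.2)⁻¹ from rfl, tor_y]
    congr 2
    refine Prod.ext rfl (Prod.ext (Subtype.ext ?_) ?_)
    · show (γ.1 : K)⁻¹ * Nm 1 * d = (γ.1 : K)⁻¹ * d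
      simp [Nm]
    · show cw 1 * t = t
      simp [cw]
  have hbound : ∀ (n : ℕ) (vs : Fin n → (Fin k → ℂ)), LinearIndependent ℂ vs →
      (∀ j z d t, ρ (y (z, d, t)) (vs j) = dd d • vs j) →
      (q - 1) * (q * q ^ 3) + (q - 1) * q ^ 3 * n + Module.finrank ℂ ↥SD ≤ k := by
    intro n vs hvs hve
    let X : (Fu × ↥(Fx θ) × K) ⊕ ((Fu × K) × Fin n) → (Fin k → ℂ) := Sum.elim
      (fun i => ρ (τ i.1 * ga i.2.1 * gb i.2.2) x0) (fun i => ρ (τ i.1.1 * gx i.1.2) (vs i.2))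
    let C : (Fu × ↥(Fx θ) × K) ⊕ ((Fu × K) × Fin n) → ↥(Fx θ) × ↥(Fx θ) × K → ℂ := Sum.elim
      (fun i p => c (mF (uF i.1) p.1 - mF i.2.1 (mF (iF (uF i.1)) p.2.1) + TF (i.2.2 * p.2.2),
        mF (iF (uF i.1)) p.2.1, p.2.2))
      (fun i p => dd (mF (iF (uF i.1.1)) p.2.1 + TF (i.1.2 * p.2.2)))
    have hXe : ∀ i p, ρ (y p) (X i) = C i p • X i := by
      rintro (i | i) ⟨z, d, t⟩
      · refine translate _ _ _ _ _ ?_ (hc _)
        rw [← mul_assoc, ← mul_assoc, tauy, mul_assoc _ _ (ga _), ya, ← mul_assoc, mul_assoc _ _ (gb _), yb]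
        simp only [mul_assoc]
      · refine translate _ _ _ _ _ ?_ (hve i.2 (mF (uF i.1.1) z) (mF (iF (uF i.1.1)) d + TF (i.1.2 * t)) t)
        rw [← mul_assoc, tauy, mul_assoc _ _ (gx _), yx, ← mul_assoc]
    have mFa : ∀ a b b', mF a (b + b') = mF a b + mF a b' := fun a b b' => Subtype.ext (mul_add _ _ _)
    have hCadd : ∀ i a b, C i (a + b) = C i a * C i b := by
      rintro (i | i) ⟨z, d, t⟩ ⟨z', d', t'⟩
      · show c _ = c _ * c _
        rw [← cmul]
        congr 1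
        simp only [Prod.mk_add_mk, mFa, mul_add, TFadd]
        refine Prod.ext ?_ rfl
        show (_ : ↥(Fx θ)) = _
        abel
      · show dd _ = dd _ * dd _
        rw [← dd_add]
        congr 1
        simp only [Prod.mk_add_mk, mFa, mul_add, TFadd]
        abel
    have hCne : ∀ i a, C i a ≠ 0 := by
      rintro (i | i) a
      exacts [cne _, dd_ne _]
    have m0 : ∀ a, mF a 0 = 0 := fun a => Subtype.ext (mul_zero _)
    have Cz1 : ∀ i z, C (Sum.inl i) (z, 0, 0) = lam (mF (uF i.1) z) := fun i z => by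
      show c _ = lam _
      simp only [m0, sub_zero, mul_zero, TF0, add_zero]
      rfl
    have uF0 : ∀ γ : Fu, uF γ ≠ 0 := fun γ h => γ.1.ne_zero (congrArg Subtype.val h)
    have cls1 : ∀ i j, C (Sum.inl i) = C j → j = Sum.inl i := by
      rintro ⟨γ, α, β⟩ (⟨γ', α', β'⟩ | j) h
      · have e1 : γ = γ' := by
          refine Subtype.ext (Units.ext (congrArg Subtype.val (sub_eq_zero.1 (hker lam ⟨oneF, hlam1⟩
            (uF γ - uF γ') fun z => ?_))))
          have := congrFun h (z, 0, 0)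
          rw [Cz1, Cz1] at this
          rw [show mF (uF γ - uF γ') z = mF (uF γ) z - mF (uF γ') z from Subtype.ext (sub_mul _ _ _)]
          exact lam_sub _ _ this
        subst e1
        have e2 : α = α' := by
          refine (sub_eq_zero.1 (hker lam ⟨oneF, hlam1⟩ (α' - α) fun d => ?_)).symm
          have := congrFun h (0, mF (uF γ) d, 0)
          have hd : mF (iF (uF γ)) (mF (uF γ) d) = d := Subtype.ext (inv_mul_cancel_left₀ γ.1.ne_zero _)
          simp only [C, Sum.elim_inl, m0, hd, mul_zero, TF0, add_zero, zero_sub] at this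
          rw [csplit, csplit (-mF α' d)] at this
          rw [show mF (α' - α) d = -mF α d - -mF α' d from Subtype.ext (by
            show ((α' : K) - α) * d = -(α * d) - -(α' * d); ring)]
          exact lam_sub _ _ (mul_right_cancel₀ (cne _) this)
        subst e2
        have e3 : β = β' := by
          by_contra hne
          obtain ⟨t, ht⟩ := Tsurj (β - β') (sub_ne_zero.2 hne) oneF
          have := congrFun h (0, 0, t)
          simp only [C, Sum.elim_inl, m0, sub_zero, zero_add] at this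
          rw [csplit, csplit (TF (β' * t))] at this
          have h' := lam_sub _ _ (mul_right_cancel₀ (cne _) this)
          rw [sub_eq_iff_eq_add.2 (show TF (β * t) = oneF + TF (β' * t) by rw [← ht, ← TFadd]; congr 1; ring)] at h'
          exact hlam1 h'
        rw [e3]
      · exfalso
        refine uF0 γ (hker lam ⟨oneF, hlam1⟩ _ fun z => ?_)
        have := congrFun h (z, 0, 0)
        rw [Cz1] at this
        rw [this]
        show dd _ = 1
        rw [m0, mul_zero, TF0, add_zero, dd0]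
    have cls2 : ∀ i j, C (Sum.inr i) = C j → ∃ l, j = Sum.inr (i.1, l) := by
      rintro ⟨⟨γ, u⟩, l⟩ (j | ⟨⟨γ', u'⟩, l'⟩) h
      · have := cls1 j _ h.symm
        simp at this
      · have e1 : γ = γ' := by
          have h' := hker dd ⟨δ1, hdd1⟩ (iF (uF γ) - iF (uF γ')) fun d => by
            have := congrFun h (0, d, 0)
            simp only [C, Sum.elim_inr, mul_zero, TF0, add_zero] at this
            rw [show mF (iF (uF γ) - iF (uF γ')) d = mF (iF (uF γ)) d - mF (iF (uF γ')) d from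
              Subtype.ext (sub_mul _ _ _)]
            exact dd_sub _ _ this
          exact Subtype.ext (Units.ext (inv_injective (congrArg Subtype.val (sub_eq_zero.1 h'))))
        subst e1
        refine ⟨l', ?_⟩
        have e2 : u = u' := by
          by_contra hne
          obtain ⟨t, ht⟩ := Tsurj (u - u') (sub_ne_zero.2 hne) δ1
          have := congrFun h (0, 0, t)
          simp only [C, Sum.elim_inr, m0, zero_add] at this
          have h' := dd_sub _ _ this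
          rw [sub_eq_iff_eq_add.2 (show TF (u * t) = δ1 + TF (u' * t) by rw [← ht, ← TFadd]; congr 1; ring)] at h'
          exact hdd1 h'
        rw [e2]
    have hLI : LinearIndependent ℂ X := by
      refine linearIndependent_classes (fun p => ρ (y p)) X C hCadd hCne hXe ?_
      rintro (i | ⟨i, l⟩) a hz ha
      · rw [Finset.sum_eq_single (Sum.inl i) (fun j _ hj => by
          rw [hz j (fun e => hj (cls1 i j e.symm)), zero_smul]) (fun h => absurd (Finset.mem_univ _) h)] at ha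
        exact (smul_eq_zero.1 ha).resolve_right fun e => hx0 (hinj _ (e.trans (map_zero _).symm))
      · have hsum : ρ (τ i.1 * gx i.2) (∑ l, a (Sum.inr (i, l)) • vs l) = 0 := by
          rw [map_sum, ← ha]
          refine Finset.sum_of_injOn (fun l => Sum.inr (i, l)) (fun x _ y _ e => by simpa using e)
            (fun x _ => Finset.mem_univ _) ?_ (fun x _ => by rw [map_smul]; rfl)
          intro j _ hj
          rw [hz j (fun e => ?_), zero_smul]
          obtain ⟨l', rfl⟩ := cls2 (i, l) j e.symm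
          exact hj ⟨l', Finset.mem_univ _, rfl⟩
        exact Fintype.linearIndependent_iff.1 hvs _ (hinj _ (hsum.trans (map_zero _).symm)) l
    have hdisj : Disjoint (Submodule.span ℂ (Set.range X)) SD := by
      rw [Submodule.disjoint_def]
      intro x hx hxS
      obtain ⟨a, rfl⟩ := (Submodule.mem_span_range_iff_exists_fun ℂ).1 hx
      obtain ⟨hxZ, hxD⟩ := (mSD _).1 hxS
      refine Finset.sum_eq_zero fun i _ => ?_
      suffices h : a i = 0 by rw [h, zero_smul]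
      rcases i with i | i
      · obtain ⟨z, hz⟩ : ∃ z, lam (mF (uF i.1) z) ≠ 1 := by
          by_contra! h
          exact uF0 i.1 (hker lam ⟨oneF, hlam1⟩ _ h)
        exact coeff_eq_zero_of_fixed hLI (ρ (y (z, 0, 0))) _ (fun j => hXe j _)
          (by rw [yz]; exact (mVZ _).1 hxZ z) _ (by rw [Cz1]; exact hz)
      · obtain ⟨d, hd⟩ : ∃ d, dd (mF (iF (uF i.1.1)) d) ≠ 1 := by
          by_contra! h
          exact inv_ne_zero i.1.1.1.ne_zero (congrArg Subtype.val (hker dd ⟨δ1, hdd1⟩ _ h))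
        exact coeff_eq_zero_of_fixed hLI (ρ (y (0, d, 0))) _ (fun j => hXe j _)
          (by rw [yd]; exact hxD d) _ (by
            simp only [C, Sum.elim_inr, mul_zero, TF0, add_zero]
            exact hd)
    have h1 := Submodule.finrank_add_finrank_le_of_disjoint hdisj
    rw [finrank_span_eq_card hLI, Module.finrank_fin_fun] at h1
    simp only [Fintype.card_sum, Fintype.card_prod, cardFu, cardFx, hK, Fintype.card_fin] at h1
    exact h1
  by_contra hlt
  obtain ⟨a, ha⟩ : ∃ a, q ^ 4 = q ^ 2 + a := Nat.exists_eq_add_of_le (Nat.pow_le_pow_right (by omega) (by norm_num))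
  have hlt' : k < q * (a + 1) := by
    rw [show q ^ 4 - q ^ 2 + 1 = a + 1 by omega] at hlt
    omega
  obtain ⟨r, rfl⟩ : ∃ r, q = r + 1 := ⟨q - 1, by omega⟩
  simp only [Nat.add_sub_cancel] at hbound cardFu
  -- uniqueness of the character
  have uniq : ∀ w, (∀ z d t, ρ (y (z, d, t)) w = dd d • w) → ∃ e : ℂ, w = e • v0 := by
    intro w hw
    by_contra! hno
    have hLI : LinearIndependent ℂ ![v0, w] :=
      (LinearIndependent.pair_iff' hv00).2 fun e he => hno e he.symm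
    have := hbound 2 _ hLI (fun j => by fin_cases j <;> assumption)
    have hr1 : 1 ≤ r := by omega
    nlinarith [Nat.mul_le_mul hr1 (Nat.one_le_pow 3 (r + 1) (by omega))]
  have scal : ∀ (g : ↥(twistedD4 K (r + 1))) (z' : ↥(Fx θ) → ↥(Fx θ) → K → ↥(Fx θ)) (t' : K → K),
      (∀ z d t, y (z, d, t) * g = g * y (z' z d t, d, t' t)) → ∃ e : ℂ, ρ g v0 = e • v0 := fun g z' t' h =>
    uniq _ fun z d t => translate _ _ _ _ _ (h z d t) (hv0e _ _ _)
  choose aa haa using fun α => scal (ga α) (fun z d _ => z - mF α d) id (fun z d t => ya α z d t)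
  have aa_add : ∀ a b, aa (a + b) = aa a * aa b := fun a b => smul_left_injective ℂ hv00 (by
    show aa (a + b) • v0 = (aa a * aa b) • v0
    rw [← haa, haA, ρm, haa b, map_smul, haa a, smul_smul, mul_comm])
  have aa0 : aa 0 = 1 := smul_left_injective ℂ hv00 (by
    show aa 0 • v0 = (1 : ℂ) • v0
    rw [← haa, ha0, map_one, Module.End.one_apply, one_smul])
  have hvZ0 : v0 ∈ VZ := (mVZ _).2 fun δ => by rw [← yz, hv0e, dd0, one_smul]
  have hv0d : ∀ d, ρ (gd d) v0 = dd d • v0 := fun d => by rw [← yd, hv0e]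
  obtain ⟨v1, hv1Z, hv10, hv1a, hv1d⟩ : ∃ v1, v1 ∈ VZ ∧ v1 ≠ 0 ∧ (∀ δ, ρ (ga δ) v1 = v1) ∧
      ∀ d, ρ (gd d) v1 = dd d • v1 := by
    by_cases hall : ∀ δ, aa δ = 1
    · exact ⟨v0, hvZ0, hv00, fun δ => by rw [haa, hall, one_smul], hv0d⟩
    -- only the field with two elements is left
    push Not at hall
    have hr : r = 1 := by
      by_contra hr
      obtain ⟨B, hB⟩ := IsCyclic.exists_generator (α := Kˣ)
      have hord : orderOf B = (r + 1) ^ 3 - 1 := by
        rw [orderOf_eq_card_of_forall_mem_zpowers hB, Nat.card_units, Nat.card_eq_fintype_card, hK]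
      have hN1 : Nm B ≠ 1 := by
        intro h
        have h' : B ^ (1 + (r + 1) + (r + 1) * (r + 1)) = 1 := Units.ext (by
          rw [Units.val_pow_eq_pow_val, Units.val_one, ← h]
          simp only [Nm]
          rw [hθ (B : K), hθ, ← pow_mul, pow_add, pow_add, pow_one])
        have hle := Nat.le_of_dvd (by positivity) (orderOf_dvd_of_pow_eq_one h')
        have h8 : (r + 1) ^ 3 = r * ((r + 1) * (r + 1) + (r + 1) + 1) + 1 := by ring
        rw [hord, h8, Nat.add_sub_cancel] at hle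
        have : 2 ≤ r := by omega
        nlinarith
      let A : Kˣ := Units.mk0 (Nm B) (Nm_ne B)
      have hA : θ (A : K) = A := Nm_fix B
      have hdA : ∀ d, mF (mF (iF (uF ⟨A, hA⟩)) ⟨Nm B, Nm_fix B⟩) d = d := fun d => Subtype.ext (by
        show (Nm B)⁻¹ * Nm B * d = d
        rw [inv_mul_cancel₀ (Nm_ne B), one_mul])
      obtain ⟨e, he⟩ := scal (tor A B hA)⁻¹ (fun z _ _ => mF (uF ⟨A, hA⟩) z) (fun t => cw B * t)
        (fun z d t => by rw [tor_y, hdA])
      have he0 : e ≠ 0 := fun h => hv00 (hinj _ (by rw [he, h, zero_smul, map_zero]))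
      obtain ⟨δ, hδ⟩ := hall
      set N : ↥(Fx θ) := ⟨Nm B, Nm_fix B⟩
      have hinv : ∀ δ, aa (mF N δ) = aa δ := fun δ => by
        have h1 := tor_a A B hA δ
        rw [show mF (mF (mF (uF ⟨A, hA⟩) (uF ⟨A, hA⟩)) (iF N)) δ = mF N δ from Subtype.ext (by
          show Nm B * Nm B * (Nm B)⁻¹ * δ = Nm B * δ
          rw [mul_inv_cancel_right₀ (Nm_ne B)])] at h1
        have h2 : ρ (ga δ) (ρ (tor A B hA)⁻¹ v0) = aa (mF N δ) • ρ (tor A B hA)⁻¹ v0 :=
          translate _ _ _ _ _ h1 (haa _)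
        rw [he, map_smul, haa, smul_smul, smul_smul] at h2
        exact mul_left_cancel₀ he0 ((smul_left_injective ℂ hv00 h2).trans (mul_comm _ _)).symm
      have h0 := hker aa ⟨δ, hδ⟩ (N - oneF) fun z => by
        have hne : aa z ≠ 0 := fun h => by
          have := aa_add z (-z)
          rw [h, zero_mul, add_neg_cancel, aa0] at this
          exact one_ne_zero this
        have h' := aa_add (mF (N - oneF) z) z
        rw [show mF (N - oneF) z + z = mF N z from Subtype.ext (by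
          show ((N : K) - 1) * z + z = (N : K) * z; ring), hinv] at h'
        exact mul_right_cancel₀ hne (h'.symm.trans (one_mul _).symm)
      exact hN1 (congrArg Subtype.val (sub_eq_zero.1 h0))
    subst hr
    haveI : CharP K 2 := by
      obtain ⟨p, hp⟩ := CharP.exists K
      haveI := hp
      obtain ⟨n, hn, hpn⟩ := FiniteField.card K p
      rw [hK] at hpn
      have : p ∣ 2 := hn.dvd_of_dvd_pow (hpn ▸ dvd_pow_self p n.pos.ne')
      rwa [← (Nat.prime_dvd_prime_iff_eq hn Nat.prime_two).1 this]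
    have two : ∀ δ : ↥(Fx θ), δ = 0 ∨ δ = oneF := by
      intro δ
      have h : (δ : K) ^ (1 + 1) = δ := (hθ _).symm.trans δ.2
      by_cases h0 : (δ : K) = 0
      · exact .inl (Subtype.ext h0)
      · exact .inr (Subtype.ext (mul_left_cancel₀ h0 (by rw [← pow_two]; exact h.trans (mul_one _).symm)))
    choose bb hbb using fun β => scal (gb β) (fun z _ t => z + TF (β * t)) id (fun z d t => yb β z d t)
    have bb_add : ∀ a b, bb (a + b) = bb a * bb b := fun a b => smul_left_injective ℂ hv00 (by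
      show bb (a + b) • v0 = (bb a * bb b) • v0
      rw [← hbb, hbA, ρm, hbb b, map_smul, hbb a, smul_smul, mul_comm])
    have hinvb : ∀ (B : Kˣ) (t : K), bb ((B : K) * θ (B : K)⁻¹ * θ (θ (B : K))⁻¹ * t) = bb t := by
      intro B t
      have hN : Nm B = 1 := by
        rcases two ⟨Nm B, Nm_fix B⟩ with h | h
        · exact absurd (congrArg Subtype.val h) (Nm_ne B)
        · exact congrArg Subtype.val h
      have h1A : θ ((1 : Kˣ) : K) = ((1 : Kˣ) : K) := map_one θ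
      obtain ⟨e, he⟩ := scal (tor 1 B h1A)⁻¹ (fun z _ _ => mF (uF ⟨1, h1A⟩) z) (fun t => cw B * t)
        (fun z d t => by
          rw [tor_y, show mF (mF (iF (uF ⟨1, h1A⟩)) ⟨Nm B, Nm_fix B⟩) d = d from Subtype.ext (by
            show ((1 : Kˣ) : K)⁻¹ * Nm B * d = d
            rw [hN, Units.val_one, inv_one, one_mul, one_mul])])
      have he0 : e ≠ 0 := fun h => hv00 (hinj _ (by rw [he, h, zero_smul, map_zero]))
      have h1 : gb t * (tor 1 B h1A)⁻¹ = (tor 1 B h1A)⁻¹ *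
          gb ((B : K) * θ (B : K)⁻¹ * θ (θ (B : K))⁻¹ * t) := by
        have hh : tor 1 B h1A * gb t * (tor 1 B h1A)⁻¹ =
            gb ((B : K) * θ (B : K)⁻¹ * θ (θ (B : K))⁻¹ * t) := Subtype.ext (by
          show TD4.C.G.torθ (par θ 1 B) * eb θ t * (TD4.C.G.torθ (par θ 1 B))⁻¹ = eb θ _
          obtain ⟨b1, b2⟩ := hθ0 B
          have hB := B.ne_zero
          rw [eb, eb,
            show ∀ g a b c : GL chevD4.Idx K, g * (a * b * c) * g⁻¹ = g * a * g⁻¹ * (g * b * g⁻¹) * (g * c * g⁻¹)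
              from fun g a b c => by group,
            row 19 _ 1 1 (-1) (-1) (by decide +kernel), row 16 _ (-1) 1 1 (-1) (by decide +kernel),
            row 15 _ (-1) 1 (-1) 1 (by decide +kernel)]
          refine congrArg₂ (· * ·) (congrArg₂ (· * ·) ?_ ?_) ?_ <;> congr 1 <;>
            simp only [zpow_one, zpow_neg_one, Units.val_one, map_mul, map_inv₀, h3] <;> ring)
        rw [← hh]; group
      have h2 := translate _ _ _ v0 _ h1 (hbb _)
      rw [he, map_smul, hbb, smul_smul, smul_smul] at h2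
      exact mul_left_cancel₀ he0 ((smul_left_injective ℂ hv00 h2).trans (mul_comm _ _)).symm
    have hconst : ∀ u : Kˣ, bb (u : K) = bb 1 := by
      intro u
      have hcop : (Nat.card Kˣ).Coprime 5 := by
        rw [Nat.card_units, Nat.card_eq_fintype_card, hK]; norm_num
      obtain ⟨B, hB⟩ := (powCoprime hcop).surjective u⁻¹
      rw [powCoprime_apply] at hB
      have hu : (B : K) * θ (B : K)⁻¹ * θ (θ (B : K))⁻¹ = (u : K) := by
        have hB' : (u : K) = ((B : K) ^ 5)⁻¹ := by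
          rw [← Units.val_pow_eq_pow_val, hB, Units.val_inv_eq_inv_val, inv_inv]
        rw [hB', hθ (B : K)⁻¹, hθ, hθ]
        have := B.ne_zero
        simp only [inv_pow, ← pow_mul]
        field_simp
        ring
      have := hinvb B 1
      rwa [mul_one, hu] at this
    have hb1 : bb 1 = 1 := by
      obtain ⟨u, hu⟩ : ∃ u : Kˣ, (u : K) + 1 ≠ 0 := by
        by_contra! h
        have h1 : ∀ u : Kˣ, u = 1 := fun u => Units.ext (by
          rw [eq_neg_of_add_eq_zero_left (h u), CharTwo.neg_eq]; rfl)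
        haveI : Subsingleton Kˣ := ⟨fun a b => (h1 a).trans (h1 b).symm⟩
        have := Fintype.card_units (α := K)
        rw [hK] at this
        have h' := Fintype.card_le_one_iff_subsingleton.2 (inferInstance : Subsingleton Kˣ)
        omega
      have h := hconst (Units.mk0 _ hu)
      rw [Units.val_mk0, bb_add, hconst] at h
      have hne : bb 1 ≠ 0 := fun h0 => hv00 (hinj (gb 1) (by rw [hbb, h0, zero_smul, map_zero]))
      exact mul_left_cancel₀ hne (h.trans (mul_one _).symm)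
    have sqone : ∀ χ : ↥(Fx θ) → ℂ, (∀ a b, χ (a + b) = χ a * χ b) → χ 0 = 1 →
        χ oneF = 1 ∨ χ oneF = -1 := fun χ h h0 => by
      rw [← sq_eq_one_iff, pow_two, ← h, show oneF + oneF = 0 from Subtype.ext (CharTwo.add_self_eq_zero _), h0]
    have haa1 : aa oneF = -1 := (sqone aa aa_add aa0).resolve_left fun h => by
      obtain ⟨δ, hδ⟩ := hall
      rcases two δ with rfl | rfl
      exacts [hδ aa0, hδ h]
    have hdd1' : dd oneF = -1 := (sqone dd dd_add dd0).resolve_left fun h => by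
      rcases two δ1 with e | e
      exacts [hdd1 (e ▸ dd0), hdd1 (e ▸ h)]
    obtain ⟨w, hw, hconj⟩ := two_conj (K := K) θ
    refine ⟨ρ (gx 1) v0, (mVZ _).2 fun δ => ?_, fun h => hv00 (hinj (gx 1) (h.trans (map_zero _).symm)),
      fun δ => ?_, fun d => ?_⟩
    · rw [← ρm, show gz δ * gx 1 = gx 1 * gz δ from Subtype.ext (z_commute_ex θ δ 1).eq, ρm, (mVZ _).1 hvZ0]
    · rcases two δ with rfl | rfl
      · rw [ha0, map_one]; rfl
      · have h1 : ga oneF * gx 1 = gx 1 * (ga oneF * gb 1 * gc 1 * gd oneF * gz ⟨w, hw⟩) := Subtype.ext (by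
          show X 14 (1 : K) * ex θ 1 = ex θ 1 * (X 14 1 * eb θ 1 * ec θ 1 * X 22 1 * X 23 w)
          rw [← hconj]; group)
        have hc1 : ρ (gc 1) v0 = v0 := by
          have h := hv0e 0 0 1
          rwa [dd0, one_smul, show y (0, 0, 1) = gc 1 by
            show gz 0 * gd 0 * gc 1 = gc 1
            rw [hz0, hd0, one_mul, one_mul]] at h
        refine (translate _ _ _ _ (1 : ℂ) h1 ?_).trans (one_smul _ _)
        rw [ρm, (mVZ _).1 hvZ0, ρm, hv0d, map_smul, ρm, hc1, ρm, hbb, hb1, one_smul, haa, smul_smul,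
          haa1, hdd1']
        norm_num
    · exact translate _ _ _ _ _ (Subtype.ext (d_commute_ex θ d 1).eq) (hv0d d)
  -- the lower bound for the common fixed space
  have hSD : Fintype.card Fu ≤ Module.finrank ℂ ↥SD := by
    let U : Fu → (Fin k → ℂ) := fun γ => ρ (τ γ) v1
    have hUd : ∀ γ d, ρ (gd d) (U γ) = dd (mF (iF (uF γ)) d) • U γ := fun γ d => by
      refine translate _ _ _ _ _ ?_ (hv1d _)
      rw [← yd, ← yd, tauy]
      congr 2
      exact Prod.ext (Subtype.ext (mul_zero _)) rfl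
    have hLIU : LinearIndependent ℂ U := by
      refine linearIndependent_classes (fun d => ρ (gd d)) U (fun γ d => dd (mF (iF (uF γ)) d))
        (fun γ a b => by rw [← dd_add]; congr 1; exact Subtype.ext (mul_add _ _ _)) (fun γ d => dd_ne _) hUd
        fun γ a hz hsum => ?_
      have hcl : ∀ j, (fun d => dd (mF (iF (uF j)) d)) = (fun d => dd (mF (iF (uF γ)) d)) → j = γ := fun j e => by
        have h' := hker dd ⟨δ1, hdd1⟩ (iF (uF j) - iF (uF γ)) fun d => by
          rw [show mF (iF (uF j) - iF (uF γ)) d = mF (iF (uF j)) d - mF (iF (uF γ)) d from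
            Subtype.ext (sub_mul _ _ _)]
          exact dd_sub _ _ (congrFun e d)
        exact Subtype.ext (Units.ext (inv_injective (congrArg Subtype.val (sub_eq_zero.1 h'))))
      rw [Finset.sum_eq_single γ (fun j _ hj => by
        rw [hz j (fun e => hj (hcl j e)), zero_smul]) (fun h => absurd (Finset.mem_univ _) h)] at hsum
      exact (smul_eq_zero.1 hsum).resolve_right fun e => hv10 (hinj _ (e.trans (map_zero _).symm))
    have hmem : ∀ γ, ρ n1⁻¹ (U γ) ∈ SD := fun γ => (mSD _).2 ⟨(mVZ _).2 fun δ => by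
        rw [← ρm, wz1, ρm]
        congr 1
        show ρ (gz _) (ρ (τ γ) v1) = ρ (τ γ) v1
        rw [← ρm, ← yz, tauy, ρm, show mF (iF (uF γ)) 0 = 0 from Subtype.ext (mul_zero _), yz,
          (mVZ _).1 hv1Z],
      fun δ => by
        rw [← ρm, wd1, ρm]
        congr 1
        show ρ (ga _) (ρ (τ γ) v1) = ρ (τ γ) v1
        rw [← ρm, show τ γ = (tor γ.1 1 γ.2)⁻¹ from rfl, tor_a γ.1 1 γ.2, ρm, hv1a]⟩
    have hLI' : LinearIndependent ℂ fun γ => (⟨ρ n1⁻¹ (U γ), hmem γ⟩ : ↥SD) := by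
      refine LinearIndependent.of_comp SD.subtype ?_
      exact hLIU.map' (ρ n1⁻¹) (LinearMap.ker_eq_bot.2 (hinj _))
    exact hLI'.fintype_card_le_finrank
  have h1 := hbound 1 ![v0] ((linearIndependent_subsingleton_index_iff _).2 fun i => by fin_cases i; simpa using hv00) (fun j => by fin_cases j; exact hv0e)
  rw [cardFu] at hSD
  have hkey : r * ((r + 1) * (r + 1) ^ 3) + r * (r + 1) ^ 3 * 1 + r + 1 = (r + 1) * (a + 1) := by nlinarith
  have hkeq : k = r * ((r + 1) * (r + 1) ^ 3) + r * (r + 1) ^ 3 * 1 + r := by omega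
  have hd := CfsgLib.Char.finrank_dvd_card ρ
  obtain ⟨-, -, -, hG, -⟩ := TD4.summary hq hK
  rw [Module.finrank_fin_fun, hG, hkeq] at hd
  refine not_dvd_order (q := r + 1) (by omega) ?_
  rwa [Nat.add_sub_cancel, show r * ((r + 1) ^ 4 + (r + 1) ^ 3 + 1) =
    r * ((r + 1) * (r + 1) ^ 3) + r * (r + 1) ^ 3 * 1 + r by ring]

end Cfsg.Agent.S2342
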