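import Cfsg.Statements.S2343
import Mathlib.LinearAlgebra.Eigenspace.Triangularizable
import Mathlib.LinearAlgebra.Trace
import Mathlib.LinearAlgebra.Projection
import Mathlib.RepresentationTheory.Irreducible
import Cfsg.Agent.Lib.Lie.Chev.Tw.Ree.SylowNorm
import Cfsg.Agent.Lib.Lie.Chev.Tw.G2Simple

set_option autoImplicit false
open Cfsg
open Cfsg.Lie CfsgLib.Lie.Chev
open CfsgLib.Lie.Chev.TG2
open scoped MatrixGroups

namespace Cfsg.Agent.S2343

/-- a common eigenvector of commuting operators inside an invariant subspace -/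
theorem exists_common {V : Type*} [AddCommGroup V] [Module ℂ V] [FiniteDimensional ℂ V] {Y : Type*}
    (f : Y → Module.End ℂ V) (hf : ∀ a b, Commute (f a) (f b)) (W₀ : Submodule ℂ V) (h0 : W₀ ≠ ⊥)
    (hinv : ∀ a, ∀ x ∈ W₀, f a x ∈ W₀) : ∃ x ∈ W₀, x ≠ 0 ∧ ∀ a, ∃ c : ℂ, f a x = c • x := by
  classical
  have hP : ∃ n, ∃ W : Submodule ℂ V, W ≠ ⊥ ∧ W ≤ W₀ ∧ (∀ a, ∀ x ∈ W, f a x ∈ W) ∧ Module.finrank ℂ W = n :=
    ⟨_, W₀, h0, le_rfl, hinv, rfl⟩
  obtain ⟨W, hW0, hWle, hWinv, hn⟩ := Nat.find_spec hP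
  obtain ⟨x, hx, hx0⟩ := (Submodule.ne_bot_iff W).1 hW0
  refine ⟨x, hWle hx, hx0, fun a => ?_⟩
  haveI : Nontrivial ↥W := Submodule.nontrivial_iff_ne_bot.2 hW0
  obtain ⟨e, he⟩ := Module.End.exists_eigenvalue ((f a).restrict (hWinv a))
  obtain ⟨y, hy⟩ := he.exists_hasEigenvector
  set W' := W ⊓ Module.End.eigenspace (f a) e
  have hy' : (y : V) ∈ W' := ⟨y.2, Module.End.mem_eigenspace_iff.2 (by
    simpa [LinearMap.restrict_apply] using congrArg Subtype.val hy.apply_eq_smul)⟩
  have hW'0 : W' ≠ ⊥ := fun h => hy.2 (Subtype.ext ((Submodule.mem_bot ℂ).1 (h ▸ hy')))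
  have hW'inv : ∀ b, ∀ z ∈ W', f b z ∈ W' := by
    rintro b z ⟨hz, hze⟩
    refine ⟨hWinv b z hz, Module.End.mem_eigenspace_iff.2 ?_⟩
    have h1 : f a (f b z) = f b (f a z) := LinearMap.congr_fun (hf a b).eq z
    rw [h1, Module.End.mem_eigenspace_iff.1 hze, map_smul]
  have hmin := Nat.find_min' hP ⟨W', hW'0, inf_le_left.trans hWle, hW'inv, rfl⟩
  have hWW : W' = W := Submodule.eq_of_le_of_finrank_le inf_le_left (hn.le.trans hmin)
  exact ⟨e, Module.End.mem_eigenspace_iff.1 (hWW.symm ▸ hx : x ∈ W').2⟩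

/-- an eigenvalue different from one of an operator of order three -/
theorem exists_cube_root {V : Type*} [AddCommGroup V] [Module ℂ V] (f : Module.End ℂ V) (h3 : f ^ 3 = 1)
    (h1 : f ≠ 1) : ∃ ω : ℂ, ω ≠ 1 ∧ Module.End.eigenspace f ω ≠ ⊥ := by
  obtain ⟨ω, hω⟩ : ∃ ω : ℂ, IsPrimitiveRoot ω 3 := ⟨_, Complex.isPrimitiveRoot_exp 3 (by norm_num)⟩
  have hω3 : ω ^ 3 = 1 := hω.pow_eq_one
  have hω1 : ω ≠ 1 := hω.ne_one (by norm_num)
  have hsum : 1 + ω + ω ^ 2 = 0 := by
    have h := hω.geom_sum_eq_zero (by norm_num)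
    simpa [Finset.sum_range_succ] using h
  have hω21 : ω ^ 2 ≠ 1 := fun h => hω1 (by linear_combination hω3 - ω * h)
  by_contra! hno
  refine h1 (LinearMap.ext fun x => ?_)
  have hfx : f (f (f x)) = x := by
    have := LinearMap.congr_fun h3 x
    simpa [pow_succ, Module.End.mul_apply] using this
  have e1 : x + ω ^ 2 • f x + ω • f (f x) = 0 := by
    have hm : x + ω ^ 2 • f x + ω • f (f x) ∈ Module.End.eigenspace f ω := by
      rw [Module.End.mem_eigenspace_iff, map_add, map_add, map_smul, map_smul, hfx]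
      match_scalars <;> first | ring1 | linear_combination -hω3 | linear_combination hω3 | linear_combination -ω * hω3 | linear_combination ω * hω3
    rw [hno ω hω1] at hm
    exact (Submodule.mem_bot ℂ).1 hm
  have e2 : x + ω • f x + ω ^ 2 • f (f x) = 0 := by
    have hm : x + ω • f x + ω ^ 2 • f (f x) ∈ Module.End.eigenspace f (ω ^ 2) := by
      rw [Module.End.mem_eigenspace_iff, map_add, map_add, map_smul, map_smul, hfx]
      match_scalars <;> first | ring1 | linear_combination -hω3 | linear_combination hω3 | linear_combination -ω * hω3 | linear_combination ω * hω3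
    rw [hno (ω ^ 2) hω21] at hm
    exact (Submodule.mem_bot ℂ).1 hm
  have key : (3 : ℂ) • x = x + f x + f (f x) := by
    have : (3 : ℂ) • x = (x + f x + f (f x)) + (x + ω ^ 2 • f x + ω • f (f x)) +
        (x + ω • f x + ω ^ 2 • f (f x)) := by
      match_scalars <;> first | ring1 | linear_combination -hsum | linear_combination hsum
    rw [e1, e2, add_zero, add_zero] at this
    exact this
  have h : (3 : ℂ) • f x = (3 : ℂ) • x := by
    rw [← map_smul, key, map_add, map_add, hfx]; abel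
  exact smul_right_injective V (by norm_num : (3 : ℂ) ≠ 0) h

theorem trace_perm_zero {V : Type*} [AddCommGroup V] [Module ℂ V] {ι : Type*} [Fintype ι] [DecidableEq ι]
    (B : Module.Basis ι ℂ V) (f : Module.End ℂ V) (σ : ι → ι) (hσ : ∀ i, σ i ≠ i)
    (hf : ∀ i, f (B i) = B (σ i)) : LinearMap.trace ℂ V f = 0 := by
  rw [LinearMap.trace_eq_matrix_trace ℂ B, Matrix.trace]
  refine Finset.sum_eq_zero fun i _ => ?_
  rw [Matrix.diag_apply, LinearMap.toMatrix_apply, hf, B.repr_self, Finsupp.single_eq_of_ne]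
  exact (hσ i).symm

/-- a finite group all of whose nonidentity elements have trace zero divides the dimension -/
theorem card_dvd_finrank {V : Type*} [AddCommGroup V] [Module ℂ V] [FiniteDimensional ℂ V] {S : Type*}
    [Group S] [Fintype S] (σ : Representation ℂ S V) (h : ∀ s, s ≠ 1 → LinearMap.trace ℂ V (σ s) = 0) :
    Fintype.card S ∣ Module.finrank ℂ V := by
  classical
  set n : ℂ := (Fintype.card S : ℂ) with hn
  have hn0 : n ≠ 0 := Nat.cast_ne_zero.2 Fintype.card_ne_zero
  set P : Module.End ℂ V := n⁻¹ • ∑ s, σ s with hP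
  have h1 : ∀ s, (∑ t, σ t) * σ s = ∑ t, σ t := fun s => by
    rw [Finset.sum_mul]
    exact Fintype.sum_equiv (Equiv.mulRight s) _ _ fun t => (map_mul σ t s).symm
  have hidem : IsIdempotentElem P := by
    show P * P = P
    rw [hP, smul_mul_smul_comm, Finset.mul_sum, Finset.sum_congr rfl fun s _ => h1 s, Finset.sum_const,
      Finset.card_univ, ← Nat.cast_smul_eq_nsmul ℂ, smul_smul, ← hn]
    congr 1
    field_simp
  have ht := (LinearMap.isProj_range_iff_isIdempotentElem P).2 hidem |>.trace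
  rw [hP, map_smul, map_sum, Finset.sum_eq_single (1 : S) (fun s _ hs => h s hs)
    (fun hh => absurd (Finset.mem_univ _) hh), map_one, LinearMap.trace_one, smul_eq_mul] at ht
  refine ⟨Module.finrank ℂ ↥(LinearMap.range P), ?_⟩
  have : ((Module.finrank ℂ V : ℕ) : ℂ) = ((Fintype.card S * Module.finrank ℂ ↥(LinearMap.range P) : ℕ) : ℂ) := by
    rw [Nat.cast_mul, ← hn, ← hP] at *
    rw [← ht]
    field_simp
  exact_mod_cast this

/-- an element of order seven normalizing a group of order eight permutes it transitively -/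
theorem conj_transitive {G : Type*} [Group G] [Finite G] (S : Subgroup G) (hS : Nat.card ↥S = 8)
    (hC : Subgroup.centralizer (S : Set G) = S) (h7 : 7 ∣ Nat.card ↥(Subgroup.normalizer (S : Set G)))
    {a b : G} (ha : a ∈ S) (ha1 : a ≠ 1) (hb : b ∈ S) (hb1 : b ≠ 1) : IsConj a b := by
  classical
  haveI : Fact (Nat.Prime 7) := ⟨by norm_num⟩
  obtain ⟨⟨x, hxN⟩, hx⟩ := exists_prime_orderOf_dvd_card' 7 h7
  rw [Subgroup.orderOf_mk] at hx
  have hmov : ∃ c ∈ S, ¬ Commute x c := by
    by_contra! hno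
    have hxS : x ∈ S := hC ▸ Subgroup.mem_centralizer_iff.2 fun c hc => (hno c hc).eq.symm
    have h := Subgroup.orderOf_dvd_natCard _ hxS
    rw [hx, hS] at h
    norm_num at h
  obtain ⟨c, hc, hxc⟩ := hmov
  have hc1 : c ≠ 1 := fun e => hxc (e ▸ Commute.one_right x)
  let f : Fin 7 → {z : ↥S // z ≠ 1} := fun i => ⟨⟨x ^ (i : ℕ) * c * (x ^ (i : ℕ))⁻¹,
    (Subgroup.mem_normalizer_iff.1 (pow_mem hxN _) c).1 hc⟩, fun e => hc1 (by
      simpa using conj_eq_one_iff.1 (congrArg Subtype.val e))⟩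
  have hinj : Function.Injective f := by
    intro i j e
    have e' : x ^ (i : ℕ) * c * (x ^ (i : ℕ))⁻¹ = x ^ (j : ℕ) * c * (x ^ (j : ℕ))⁻¹ :=
      congrArg (fun z : {z : ↥S // z ≠ 1} => (z.1 : G)) e
    wlog hij : (i : ℕ) ≤ j generalizing i j
    · exact (this e.symm e'.symm (le_of_not_ge hij)).symm
    obtain ⟨d, hd⟩ := Nat.exists_eq_add_of_le hij
    rw [hd, pow_add] at e'
    have hdc : Commute (x ^ d) c := by
      have h1 : c = x ^ d * c * (x ^ d)⁻¹ := by
        calc c = (x ^ (i : ℕ))⁻¹ * (x ^ (i : ℕ) * c * (x ^ (i : ℕ))⁻¹) * x ^ (i : ℕ) := by group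
          _ = _ := by rw [e']; group
      exact eq_mul_inv_iff_mul_eq.1 h1 |>.symm
    by_contra hne
    have hd0 : d ≠ 0 := fun h => hne (Fin.ext (by omega))
    refine hxc ?_
    have hcop : Nat.Coprime d 7 := by
      refine ((Nat.Prime.coprime_iff_not_dvd (by norm_num)).2 fun h => ?_).symm
      have := Nat.le_of_dvd (by omega) h
      omega
    obtain ⟨k, hk⟩ := exists_pow_eq_self_of_coprime (n := d) (x := x) (by rw [hx]; exact hcop)
    rw [← hk]
    exact hdc.pow_left k
  have hbij : Function.Bijective f := by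
    haveI := Fintype.ofFinite ↥S
    refine (Fintype.bijective_iff_injective_and_card f).2 ⟨hinj, ?_⟩
    rw [Fintype.card_fin, Fintype.card_subtype_compl, Fintype.card_subtype_eq, ← Nat.card_eq_fintype_card, hS]
  have key : ∀ z ∈ S, z ≠ 1 → IsConj c z := by
    intro z hz hz1
    obtain ⟨i, hi⟩ := hbij.2 ⟨⟨z, hz⟩, fun e => hz1 (congrArg Subtype.val e)⟩
    exact isConj_iff.2 ⟨x ^ (i : ℕ), congrArg (fun z : {z : ↥S // z ≠ 1} => (z.1 : G)) hi⟩
  exact (key a ha ha1).symm.trans (key b hb hb1)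

/-- For the Ree group ²G₂(q), q = 3^(2m+1) with m ≥ 1 (realised over the field with q elements), every irreducible complex representation of degree at least 2 has degree at least q² − q + 1. -/
theorem result {K : Type*} [Field K] [Fintype K] (m : ℕ) (hm : 1 ≤ m) (hK : Fintype.card K = 3 ^ (2 * m + 1)) :
    (∀ (k : ℕ) (ρ : Representation ℂ (Cfsg.Lie.twistedG2 K (3 ^ m)) (Fin k → ℂ)), ρ.IsIrreducible → 2 ≤ k → (3 ^ (2 * m + 1)) ^ 2 - 3 ^ (2 * m + 1) + 1 ≤ k) := by
  intro k ρ hirr hk
  classical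
  obtain ⟨hc, θ, hcu, hθ, hneg⟩ := exists_theta hK
  have R : Ree θ m := ⟨hcu, hθ, hneg, hK⟩
  obtain ⟨-, hsimple, -⟩ := TG2.summary2 hm hK
  set q := 3 ^ (2 * m + 1) with hq
  have hq3 : 3 ≤ q := le_self_pow₀ (by norm_num) (by omega)
  -- faithful
  haveI := hsimple
  haveI := hirr
  have hfaith : ∀ g, ρ g = 1 → g = 1 := by
    rcases IsSimpleGroup.eq_bot_or_eq_top_of_normal (MonoidHom.ker ρ) inferInstance with h | h
    · intro g hg
      exact Subgroup.mem_bot.1 (h ▸ (MonoidHom.mem_ker.2 hg : g ∈ MonoidHom.ker ρ))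
    · exfalso
      have htriv : ∀ g, ρ g = 1 := fun g => MonoidHom.mem_ker.1 (h ▸ Subgroup.mem_top g)
      let e₀ : Fin k → ℂ := Pi.single ⟨0, by omega⟩ 1
      let W : Subrepresentation ρ := ⟨ℂ ∙ e₀, fun g v hv => by rw [htriv g]; exact hv⟩
      rcases IsSimpleOrder.eq_bot_or_eq_top W with hW | hW
      · have := congrArg Subrepresentation.toSubmodule hW
        have h2 : e₀ ∈ W.toSubmodule := Submodule.mem_span_singleton_self e₀
        rw [this] at h2
        have := congrFun ((Submodule.mem_bot ℂ).1 h2 : e₀ = 0) ⟨0, by omega⟩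
        simp [e₀] at this
      · have := congrArg Subrepresentation.toSubmodule hW
        have h2 : Module.finrank ℂ ↥(ℂ ∙ e₀) = k := by
          rw [show (ℂ ∙ e₀) = (⊤ : Submodule ℂ (Fin k → ℂ)) from this, finrank_top, Module.finrank_fin_fun]
        have h3 := finrank_span_le_card (R := ℂ) ({e₀} : Set (Fin k → ℂ))
        simp only [Set.toFinset_singleton, Finset.card_singleton] at h3
        omega
  -- the abelian normal subgroup of the unipotent group
  set y : K × K → ↥(twistedG2 K (3 ^ m)) := fun p => pe R 0 p.1 p.2 with hy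
  have ymul : ∀ p p', y p * y p' = y (p + p') := fun p p' => by
    simp only [hy]
    rw [pe_mul]
    congr 1 <;> simp
  have ycomm : ∀ p p', Commute (ρ (y p)) (ρ (y p')) := fun p p' => by
    show ρ (y p) * ρ (y p') = ρ (y p') * ρ (y p)
    rw [← map_mul, ← map_mul, ymul, ymul, add_comm]
  have h3K : (3 : K) = 0 := by exact_mod_cast CharP.cast_eq_zero K 3
  set f := ρ (y (0, 1)) with hfdef
  have hf1 : f ≠ 1 := fun h => by
    have h' := hfaith _ h
    rw [hy, ← pe_zero R] at h'
    exact one_ne_zero (pe_inj R h').2.2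
  have hf3 : f ^ 3 = 1 := by
    rw [hfdef, ← map_pow, pow_succ, pow_two, ymul, ymul, ← map_one ρ]
    congr 1
    rw [hy, ← pe_zero R]
    simp only [Prod.fst_add, Prod.snd_add, add_zero]
    congr 1
    linear_combination h3K
  obtain ⟨ω, hω1, hω⟩ := exists_cube_root f hf3 hf1
  obtain ⟨x, hx, hx0, hxc⟩ := exists_common (fun p => ρ (y p)) ycomm _ hω (fun p z hz =>
    Module.End.mem_eigenspace_iff.2 (by
      rw [show f (ρ (y p) z) = ρ (y p) (f z) from LinearMap.congr_fun (ycomm (0, 1) p).eq z,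
        Module.End.mem_eigenspace_iff.1 hz, map_smul]))
  choose c hc using hxc
  have hsm : ∀ a b : ℂ, a • x = b • x → a = b := fun a b h => smul_left_injective ℂ hx0 h
  have cmul : ∀ p p', c (p + p') = c p * c p' := fun p p' => hsm _ _ (by
    rw [← hc, ← ymul, map_mul, Module.End.mul_apply, hc p', map_smul, hc p, smul_smul, mul_comm])
  have c01 : c (0, 1) = ω := hsm _ _ ((hc _).symm.trans (Module.End.mem_eigenspace_iff.1 hx))
  have c0 : c (0, 0) = 1 := hsm _ _ (by
    rw [← hc, show y (0, 0) = 1 from pe_zero R, map_one, Module.End.one_apply, one_smul])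
  -- the translates of the eigenvector
  set g : Kˣ × K → ↥(twistedG2 K (3 ^ m)) := fun i => he R i.1 * pe R i.2 0 0 with hg
  set χb : Kˣ → K := fun b => (chiHom θ b⁻¹ : K) with hχ
  set w : Kˣ × K → K × K → K × K := fun i p =>
    (χb i.1 * p.1, ((i.1⁻¹ : Kˣ) : K) * p.2 - i.2 * (χb i.1 * p.1)) with hw
  have hyg : ∀ i p, y p * g i = g i * y (w i p) := by
    intro i p
    have h1 : y p * he R i.1 = he R i.1 * pe R 0 (χb i.1 * p.1) (((i.1⁻¹ : Kˣ) : K) * p.2) := by
      have h := he_conj R i.1⁻¹ 0 p.1 p.2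
      rw [mul_zero, map_inv, inv_inv] at h
      rw [← h]
      simp only [hy]
      group
    simp only [hg]
    rw [← mul_assoc, h1, mul_assoc, mul_assoc]
    congr 1
    simp only [hy, hw]
    rw [pe_mul, pe_mul]
    congr 1 <;> simp <;> ring
  set X : Kˣ × K → (Fin k → ℂ) := fun i => ρ (g i) x with hX
  have hXe : ∀ i p, ρ (y p) (X i) = c (w i p) • X i := fun i p => by
    simp only [hX]
    rw [← Module.End.mul_apply, ← map_mul, hyg, map_mul, Module.End.mul_apply, hc, map_smul]
  have cne : ∀ p, c p ≠ 0 := fun p h => by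
    have := cmul p (-p)
    rw [h, zero_mul, add_neg_cancel] at this
    exact one_ne_zero (c0.symm.trans this)
  have wadd : ∀ i p p', w i (p + p') = w i p + w i p' := fun i p p' => by
    simp only [hw, Prod.fst_add, Prod.snd_add, Prod.mk_add_mk]
    congr 1 <;> ring
  have hdist : ∀ i j, i ≠ j → ∃ p, c (w i p) ≠ c (w j p) := by
    intro i j hne
    by_contra! hall
    have hker : ∀ d : K, (∀ v, c (0, d * v) = 1) → d = 0 := fun d hd => by
      by_contra hd0
      have := hd d⁻¹
      rw [mul_inv_cancel₀ hd0, c01] at this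
      exact hω1 this
    have hsub : ∀ a b : K, c (0, a) = c (0, b) → c (0, a - b) = 1 := fun a b h => by
      have := cmul (0, a - b) (0, b)
      rw [Prod.mk_add_mk, add_zero, sub_add_cancel, h] at this
      exact mul_right_cancel₀ (cne _) (this.symm.trans (one_mul _).symm)
    have h1 : i.1 = j.1 := by
      refine inv_injective (Units.ext (sub_eq_zero.1 (hker _ fun v => ?_)))
      have := hall (0, v)
      simp only [hw, mul_zero, sub_zero] at this
      rw [sub_mul]
      exact hsub _ _ this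
    have hχ0 : χb j.1 ≠ 0 := Units.ne_zero _
    have h2 : i.2 = j.2 := by
      refine (sub_eq_zero.1 (hker _ fun v => ?_)).symm
      have := hall ((χb j.1)⁻¹ * v, 0)
      simp only [hw, h1, mul_zero, zero_sub, ← mul_assoc (χb j.1), mul_inv_cancel₀ hχ0, one_mul] at this
      have e : ((v, -(i.2 * v)) : K × K) = (v, 0) + (0, -(i.2 * v)) := by simp
      have e' : ((v, -(j.2 * v)) : K × K) = (v, 0) + (0, -(j.2 * v)) := by simp
      rw [e, e', cmul, cmul] at this
      have := hsub _ _ (mul_left_cancel₀ (cne _) this)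
      rwa [show -(i.2 * v) - -(j.2 * v) = (j.2 - i.2) * v by ring] at this
    exact hne (Prod.ext h1 h2)
  have hXne : ∀ i, X i ≠ 0 := fun i h => by
    have : ρ (g i)⁻¹ (X i) = x := by
      simp only [hX]
      rw [← Module.End.mul_apply, ← map_mul, inv_mul_cancel, map_one, Module.End.one_apply]
    rw [h, map_zero] at this
    exact hx0 this.symm
  have hli : LinearIndependent ℂ X := by
    rw [Fintype.linearIndependent_iff]
    intro a ha i
    set P : Module.End ℂ (Fin k → ℂ) := ∑ p, (c (w i p))⁻¹ • ρ (y p) with hP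
    have hPX : ∀ j, P (X j) = (∑ p, (c (w i p))⁻¹ * c (w j p)) • X j := fun j => by
      simp only [hP, LinearMap.sum_apply, LinearMap.smul_apply, hXe, smul_smul, Finset.sum_smul]
    have h0 : P (∑ j, a j • X j) = 0 := by rw [ha, map_zero]
    rw [map_sum, Finset.sum_eq_single i] at h0
    · rw [map_smul, hPX, smul_smul, smul_eq_zero] at h0
      rcases h0 with h0 | h0
      · rcases mul_eq_zero.1 h0 with h0 | h0
        · exact h0
        · simp [inv_mul_cancel₀ (cne _)] at h0
      · exact absurd h0 (hXne i)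
    · intro j _ hji
      rw [map_smul, hPX]
      obtain ⟨p₁, hp₁⟩ := hdist i j hji.symm
      have hs : (∑ p, (c (w i p))⁻¹ * c (w j p)) * ((c (w i p₁))⁻¹ * c (w j p₁)) =
          ∑ p, (c (w i p))⁻¹ * c (w j p) := by
        rw [Finset.sum_mul]
        refine Fintype.sum_equiv (Equiv.addRight p₁) _ _ fun p => ?_
        rw [Equiv.coe_addRight, wadd, wadd, cmul, cmul, mul_inv]
        ring
      have hr : (c (w i p₁))⁻¹ * c (w j p₁) ≠ 1 := fun h => hp₁ (inv_mul_eq_one₀ (cne _) |>.1 h)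
      have hz : (∑ p, (c (w i p))⁻¹ * c (w j p)) = 0 := by
        by_contra hz
        exact hr (mul_left_cancel₀ hz (hs.trans (mul_one _).symm))
      rw [hz, zero_smul, smul_zero]
    · exact fun h => absurd (Finset.mem_univ _) h
  have hle := hli.fintype_card_le_finrank
  have hcardI : Fintype.card (Kˣ × K) = (q - 1) * q := by
    rw [Fintype.card_prod, Fintype.card_units, hK]
  rw [hcardI, Module.finrank_fin_fun] at hle
  have hqq : q ^ 2 - q = (q - 1) * q := by rw [Nat.sub_mul, one_mul, pow_two]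
  by_contra hlt
  have hkeq : k = (q - 1) * q := by omega
  haveI : Nonempty (Kˣ × K) := ⟨(1, 0)⟩
  let B := basisOfLinearIndependentOfCardEqFinrank hli (by rw [hcardI, Module.finrank_fin_fun, hkeq])
  have htr : LinearMap.trace ℂ (Fin k → ℂ) (ρ (ia R)) = 0 := by
    refine trace_perm_zero B _ (fun i => (-i.1, i.2)) (fun i h => ?_) fun i => ?_
    · have h1 : -(i.1 : K) = i.1 := congrArg (fun z : Kˣ × K => (z.1 : K)) h
      exact i.1.ne_zero (by linear_combination h1 + (i.1 : K) * h3K)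
    · simp only [B, coe_basisOfLinearIndependentOfCardEqFinrank, hX]
      rw [← Module.End.mul_apply, ← map_mul]
      congr 2
      simp only [hg, ia]
      rw [← mul_assoc, ← map_mul, neg_one_mul]
  haveI := Fact.mk Nat.prime_two
  obtain ⟨S, hS⟩ := (IsPGroup.of_card (n := 1) (G := ↥(Subgroup.zpowers (ia R))) (p := 2) (by
    rw [Nat.card_zpowers, pow_one]
    exact orderOf_eq_prime (by rw [pow_two]; exact ia_sq R) (ia_ne_one R))).exists_le_sylow
  have hiaS : ia R ∈ (S : Subgroup _) := hS (Subgroup.mem_zpowers _)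
  obtain ⟨hCS, hNS⟩ := sylow_facts R S
  obtain ⟨hS8, -⟩ := sylow_two R S
  haveI := Fintype.ofFinite ↥(S : Subgroup ↥(twistedG2 K (3 ^ m)))
  have hdvd := card_dvd_finrank (ρ.comp (S : Subgroup ↥(twistedG2 K (3 ^ m))).subtype) (fun s hs => by
    obtain ⟨g', hg'⟩ := isConj_iff.1 (conj_transitive _ hS8 hCS (by rw [hNS]; norm_num) hiaS (ia_ne_one R)
      s.2 (fun e => hs (Subtype.ext e)))
    show LinearMap.trace ℂ (Fin k → ℂ) (ρ s.1) = 0
    rw [← hg', map_mul, LinearMap.trace_mul_comm, ← map_mul]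
    rw [show g'⁻¹ * (g' * ia R) = ia R by group]
    exact htr)
  rw [← Nat.card_eq_fintype_card, hS8, Module.finrank_fin_fun, hkeq] at hdvd
  have hodd : q % 4 = 3 := by
    rw [hq, pow_succ, pow_mul, Nat.mul_mod, Nat.pow_mod]; norm_num
  have h4 : (q - 1) * q % 4 = 2 := by
    rw [Nat.mul_mod, hodd, show (q - 1) % 4 = 2 by omega]
  omega

end Cfsg.Agent.S2343
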