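import Cfsg.Statements.S2347
import Cfsg.Agent.Lib.Classical.WeilSp.Bound
import Cfsg.Agent.Lib.Classical.WeilSp.Weil
import Cfsg.Agent.Lib.LinDeg.Constituent

set_option autoImplicit false
open Cfsg

namespace Cfsg.Agent.S2347

/-- Smallest degree of a non-linear irreducible complex representation of the symplectic group Sp_{2n} over a finite field of odd order q, n ≥ 2: every irreducible complex representation of degree at least 2 has degree at least (q^n − 1)/2, and there is an irreducible complex representation of exactly that degree (a Weil representation). -/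
theorem result {F : Type*} [Field F] [Fintype F] [DecidableEq F] (n : ℕ) (hn : 2 ≤ n) (hodd : Odd (Fintype.card F)) :
    (∀ (k : ℕ) (ρ : Representation ℂ (Matrix.symplecticGroup (Fin n) F) (Fin k → ℂ)), ρ.IsIrreducible → 2 ≤ k → (Fintype.card F ^ n - 1) / 2 ≤ k) ∧
    (∃ ρ : Representation ℂ (Matrix.symplecticGroup (Fin n) F) (Fin ((Fintype.card F ^ n - 1) / 2) → ℂ), ρ.IsIrreducible) := by
  classical
  have h2 : ringChar F ≠ 2 := fun h => by
    have := FiniteField.even_card_of_char_two h
    exact absurd (Nat.odd_iff.1 hodd) (by omega)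
  have h3 : 3 ≤ Fintype.card F := by
    have := Fintype.one_lt_card (α := F)
    obtain ⟨k, hk⟩ := hodd
    omega
  set G := Matrix.symplecticGroup (Fin n) F
  haveI : Finite G := Finite.of_injective (fun X => (X.1 : Matrix _ _ F)) Subtype.val_injective
  have hbound : ∀ (k : ℕ) (ρ : Representation ℂ G (Fin k → ℂ)), ρ.IsIrreducible → (∃ x, ρ x ≠ 1) →
      2 ≤ k ∧ (Fintype.card F ^ n - 1) / 2 ≤ k := by
    intro k ρ hρ hne
    have h := CfsgLib.Classical.WeilSp.degree_bound hn h2 h3 ρ hne
    rw [Module.finrank_fin_fun] at h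
    refine ⟨?_, by omega⟩
    have h9 : 9 ≤ Fintype.card F ^ n :=
      le_trans (Nat.pow_le_pow_left h3 2) (Nat.pow_le_pow_right (by omega) hn)
    omega
  refine ⟨fun k ρ hρ hk => ?_, ?_⟩
  · by_cases hne : ∃ x, ρ x ≠ 1
    · exact (hbound k ρ hρ hne).2
    · exfalso
      push Not at hne
      let e : Fin k → ℂ := Pi.single ⟨0, by omega⟩ 1
      have hb := IsSimpleOrder.eq_bot_or_eq_top (α := Subrepresentation ρ)
        { toSubmodule := Submodule.span ℂ {e}
          apply_mem_toSubmodule := fun g v hv => by rw [hne g]; exact hv }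
      have he : e ≠ 0 := fun h => one_ne_zero (α := ℂ) (by simpa [e] using congrFun h ⟨0, by omega⟩)
      rcases hb with h | h
      · have := congrArg Subrepresentation.toSubmodule h
        exact he (Submodule.span_singleton_eq_bot.1 this)
      · have h' := congrArg (fun S => Module.finrank ℂ ↥(Subrepresentation.toSubmodule S)) h
        rw [finrank_span_singleton he] at h'
        have h'' : Module.finrank ℂ ↥(⊤ : Submodule ℂ (Fin k → ℂ)) = 1 := h'.symm
        rw [finrank_top, Module.finrank_fin_fun] at h''
        omega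
  · obtain ⟨ψ, hψ⟩ := CfsgLib.LinDeg.exists_primitiveChar F ℂ (by
      rw [ringChar.eq_zero]
      exact fun h => CharP.ringChar_ne_zero_of_finite F h.symm)
    obtain ⟨g, hg⟩ := CfsgLib.Classical.WeilSp.weilRep_ne_one ψ hψ h2 hn
    obtain ⟨k, σ, hσ, hσg, hk⟩ := CfsgLib.LinDeg.exists_irr_ne_one _ hg
    have h := (hbound k σ hσ ⟨g, hσg⟩).2
    have hd := (CfsgLib.Classical.WeilSp.finrank_parSpace (n := n) h2).2
    obtain rfl : k = (Fintype.card F ^ n - 1) / 2 := by omega
    exact ⟨σ, hσ⟩

end Cfsg.Agent.S2347
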