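import Cfsg.Statements.S2355
import Cfsg.Agent.Lib.Word.Classical
import Cfsg.Agent.Lib.Word.Unitary

set_option autoImplicit false
open Cfsg

namespace Cfsg.Agent.S2355

/-- A non-trivial law is satisfied by only finitely many finite simple groups that are alternating or classical, up to isomorphism: for every non-trivial element w of the free group on countably many generators there is a bound N such that every alternating group of degree ≥ 5 and every simple classical group (linear, symplectic, unitary or orthogonal, in this problem's sense) in which w is a law has order at most N. -/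
theorem result (w : FreeGroup ℕ) (hw : w ≠ 1) :
    ∃ N : ℕ, ∀ (G : Type*) [Group G] [Finite G],
      (Cfsg.IsAlternating G ∨ Cfsg.IsPSL G ∨ Cfsg.IsPSp G ∨ Cfsg.IsPSU G ∨ Cfsg.IsPOmegaOdd G ∨
          Cfsg.IsPOmegaPlus G ∨ Cfsg.IsPOmegaMinus G) →
      (∀ f : ℕ → G, FreeGroup.lift f w = 1) → Nat.card G ≤ N := by
  obtain ⟨Na, hA⟩ := CfsgLib.Word.exists_fails_alternating w hw
  obtain ⟨Ns, hS⟩ := CfsgLib.Word.exists_fails_sl.{0} w hw
  obtain ⟨Nu, hU⟩ := CfsgLib.Word.exists_fails_SU_field.{0} w hw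
  set M := max Na (max Ns Nu) + 1 with hM
  refine ⟨max (Nat.factorial M) ((M ^ 2) ^ ((3 * M + 3) * (3 * M + 3))), ?_⟩
  intro G _ _ hG hlaw
  -- the law passes to any quotient isomorphic to `G`
  have hno : ∀ (Q : Type) [Group Q], Nonempty (G ≃* Q) →
      ∀ g : ℕ → Q, FreeGroup.lift g w = 1 := by
    rintro Q _ ⟨e⟩ g
    have h := congrArg e (hlaw (e.symm ∘ g))
    rw [map_one, ← MulEquiv.coe_toMonoidHom, ← CfsgLib.Word.lift_comp] at h
    rwa [show e.toMonoidHom ∘ e.symm ∘ g = g from funext fun i => e.apply_symm_apply _] at h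
  have hquot : ∀ (H : Type) [Group H], Nonempty (G ≃* H ⧸ Subgroup.center H) →
      ∀ f : ℕ → H, FreeGroup.lift f w ∈ Subgroup.center H := by
    intro H _ he f
    by_contra hc
    obtain ⟨g, hg⟩ := CfsgLib.Word.fails_quotient_center hc
    exact hg (hno _ he g)
  -- numerical bound
  have hbound : ∀ (F : Type) [Field F] [Fintype F] (d : ℕ), Fintype.card F ≤ M ^ 2 →
      d ≤ 3 * M + 3 → ∀ x : ℕ, x ≤ Fintype.card F ^ (d * d) →
      x ≤ max (Nat.factorial M) ((M ^ 2) ^ ((3 * M + 3) * (3 * M + 3))) := by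
    intro F _ _ d hF hd x hx
    refine le_trans hx (le_trans ?_ (le_max_right _ _))
    exact (Nat.pow_le_pow_left hF _).trans
      (Nat.pow_le_pow_right (Nat.pow_pos (by omega)) (Nat.mul_le_mul hd hd))
  have hsq : M ≤ M ^ 2 := Nat.le_self_pow (by omega) M
  rcases hG with ⟨n, hn, he⟩ | ⟨F, _, _, n, hn, -, he⟩ | ⟨F, _, _, m, hm, -, he⟩ |
    ⟨F, _, _, n, q, hcard, hn, -, he⟩ | ⟨F, _, _, m, hm, -, he⟩ | ⟨F, _, _, m, hm, he⟩ |
    ⟨F, _, _, m, a, b, hm, -, he⟩
  · have hlt : n < Na := by
      by_contra hc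
      push Not at hc
      obtain ⟨f, hf⟩ := (hA n hc).exists_ne_one
      exact hf (hno _ he f)
    refine le_trans ?_ (le_max_left _ _)
    obtain ⟨e⟩ := he
    calc Nat.card G = Nat.card (alternatingGroup (Fin n)) := Nat.card_congr e.toEquiv
      _ ≤ Nat.card (Equiv.Perm (Fin n)) := Subgroup.card_le_card_group _
      _ = Nat.factorial n := by rw [Nat.card_eq_fintype_card, Fintype.card_perm, Fintype.card_fin]
      _ ≤ Nat.factorial M := Nat.factorial_le (by omega)
  · have hlt : ¬ (Ns ≤ Fintype.card F ∨ Ns ≤ n) := fun h => by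
      obtain ⟨f, hf⟩ := (hS F n hn h).exists_not_mem_center
      exact hf (hquot _ he f)
    obtain ⟨e⟩ := he
    refine hbound F _ ?_ ?_ _ (CfsgLib.Word.card_le_of_equiv_quotient
      (fun g : Matrix.SpecialLinearGroup (Fin n) F => g.1) Subtype.val_injective _ e.toEquiv)
    · push Not at hlt; omega
    · push Not at hlt; simp; omega
  · have hlt : ¬ (Ns ≤ Fintype.card F ∨ Ns ≤ m) := fun h => by
      obtain ⟨f, hf⟩ := ((hS F m hm h).map (CfsgLib.Word.slToSp m)
        (CfsgLib.Word.slToSp_injective m)).exists_not_mem_center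
      exact hf (hquot _ he f)
    obtain ⟨e⟩ := he
    refine hbound F _ ?_ ?_ _ (CfsgLib.Word.card_le_of_equiv_quotient
      (fun g : Matrix.symplecticGroup (Fin m) F => g.1) Subtype.val_injective _ e.toEquiv)
    · push Not at hlt; omega
    · push Not at hlt; simp; omega
  · have hq : q < Nu := by
      by_contra hc
      push Not at hc
      obtain ⟨k, rfl⟩ := Nat.exists_eq_add_of_le (show 2 ≤ n by omega)
      obtain ⟨f, hf⟩ := hU F q k hcard hc
      exact hf (hquot _ he f)
    have hn' : n < Na := by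
      by_contra hc
      push Not at hc
      obtain ⟨ψ, hψ⟩ := CfsgLib.Word.exists_hom_alt_SU (F := F) n q
      obtain ⟨f, hf⟩ := ((hA n hc).map ψ hψ).exists_not_mem_center
      exact hf (hquot _ he f)
    obtain ⟨e⟩ := he
    refine hbound F _ ?_ ?_ _ (CfsgLib.Word.card_le_of_equiv_quotient
      (fun g : Cfsg.SU n F q => g.1.1)
      (Subtype.val_injective.comp Subtype.val_injective) _ e.toEquiv)
    · rw [hcard]; exact Nat.pow_le_pow_left (by omega) 2
    · simp; omega
  · have hlt : ¬ (Ns ≤ Fintype.card F ∨ Ns ≤ m) := fun h => by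
      obtain ⟨ψ, hψ⟩ := CfsgLib.Word.exists_hom_odd (F := F) m
      obtain ⟨f, hf⟩ := (hS F m (by omega) h).map ψ hψ
      exact hf (hquot _ he f)
    obtain ⟨e⟩ := he
    refine hbound F _ ?_ ?_ _ (CfsgLib.Word.card_le_of_equiv_quotient
      (fun g : Cfsg.Omega F (Cfsg.quadFormOdd m F) => g.1.1.1)
      (Units.val_injective.comp (Subtype.val_injective.comp Subtype.val_injective)) _ e.toEquiv)
    · push Not at hlt; omega
    · push Not at hlt; simp; omega
  · have hlt : ¬ (Ns ≤ Fintype.card F ∨ Ns ≤ m) := fun h => by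
      obtain ⟨ψ, hψ⟩ := CfsgLib.Word.exists_hom_plus (F := F) m
      obtain ⟨f, hf⟩ := (hS F m (by omega) h).map ψ hψ
      exact hf (hquot _ he f)
    obtain ⟨e⟩ := he
    refine hbound F _ ?_ ?_ _ (CfsgLib.Word.card_le_of_equiv_quotient
      (fun g : Cfsg.Omega F (Cfsg.quadFormPlus m F) => g.1.1.1)
      (Units.val_injective.comp (Subtype.val_injective.comp Subtype.val_injective)) _ e.toEquiv)
    · push Not at hlt; omega
    · push Not at hlt; simp; omega
  · have hlt : ¬ (Ns ≤ Fintype.card F ∨ Ns ≤ m - 1) := fun h => by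
      obtain ⟨ψ, hψ⟩ := CfsgLib.Word.exists_hom_minus (F := F) (m - 1) a b
      obtain ⟨f, hf⟩ := (hS F (m - 1) (by omega) h).map ψ hψ
      exact hf (hquot _ he f)
    obtain ⟨e⟩ := he
    refine hbound F _ ?_ ?_ _ (CfsgLib.Word.card_le_of_equiv_quotient
      (fun g : Cfsg.Omega F (Cfsg.quadFormMinus (m - 1) F a b) => g.1.1.1)
      (Units.val_injective.comp (Subtype.val_injective.comp Subtype.val_injective)) _ e.toEquiv)
    · push Not at hlt; omega
    · push Not at hlt; simp; omega

end Cfsg.Agent.S2355
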