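import Cfsg.Statements.S2356
import Cfsg.Agent.Lib.SU.InvolGraphThree
-- import your own Cfsg.Agent.* helpers here

set_option autoImplicit false
open Cfsg

namespace Cfsg.Agent.S2356

/-- Let q be odd, F the field with q² elements, S = SU_3(F) (determinant-one isometries of the standard Hermitian form) and t an involution of S. Then: exactly q(q−1) involutions other than t commute with t; exactly q(q−2)(q²−1) involutions do not commute with t but commute with some involution commuting with t; exactly (q+1)(q²−1) involutions x do not commute with t and admit no involution commuting with both t and x; and every involution can be reached from t in at most three steps, each step going to an involution that commutes with the previous one (the commuting involution graph is connected of diameter 3). -/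
theorem result {F : Type*} [Field F] [Fintype F] {q : ℕ} (hq : Odd q)
    (hF : Fintype.card F = q ^ 2) (t : ↥(Cfsg.SU 3 F q)) (ht : t ≠ 1) (ht2 : t * t = 1) :
    Nat.card {x : ↥(Cfsg.SU 3 F q) // x ≠ 1 ∧ x * x = 1 ∧ x ≠ t ∧ Commute t x} = q * (q - 1) ∧
    Nat.card {x : ↥(Cfsg.SU 3 F q) // x ≠ 1 ∧ x * x = 1 ∧ ¬ Commute t x ∧
        ∃ y : ↥(Cfsg.SU 3 F q), y ≠ 1 ∧ y * y = 1 ∧ Commute t y ∧ Commute y x} = q * (q - 2) * (q ^ 2 - 1) ∧
    Nat.card {x : ↥(Cfsg.SU 3 F q) // x ≠ 1 ∧ x * x = 1 ∧ ¬ Commute t x ∧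
        ∀ y : ↥(Cfsg.SU 3 F q), y ≠ 1 → y * y = 1 → ¬ (Commute t y ∧ Commute y x)} = (q + 1) * (q ^ 2 - 1) ∧
    ∀ x : ↥(Cfsg.SU 3 F q), x ≠ 1 → x * x = 1 →
      ∃ y z : ↥(Cfsg.SU 3 F q), y ≠ 1 ∧ y * y = 1 ∧ z ≠ 1 ∧ z * z = 1 ∧
        Commute t y ∧ Commute y z ∧ Commute z x := by
  obtain ⟨C⟩ := CfsgLib.Classical.uctx_exists (q := q) hF
  have h2 := CfsgLib.SU.ReflThree.two_ne hq hF
  obtain ⟨g, rfl⟩ := CfsgLib.SU.ReflThree.exists_conj_base C hF h2 ht ht2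
  have hi := fun y => CfsgLib.SU.ReflThree.conj_inv_iff g y
  have hc := fun a b => CfsgLib.SU.ReflThree.commute_conj g a b
  have hex : ∀ y : ↥(Cfsg.SU 3 F q), ∃ z, g * z * g⁻¹ = y := fun y => ⟨g⁻¹ * y * g, by group⟩
  refine ⟨?_, ?_, ?_, fun x hx hxx => ?_⟩
  · rw [← CfsgLib.SU.ReflThree.count_perp C hF h2]
    refine (Nat.card_congr ((MulAut.conj g).toEquiv.subtypeEquiv fun y => ?_)).symm
    simp only [MulEquiv.toEquiv_eq_coe, MulEquiv.coe_toEquiv, MulAut.conj_apply, hc, CfsgLib.SU.ReflThree.conj_ne,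
      ← and_assoc, hi]
  · rw [← CfsgLib.SU.ReflThree.count_secant C hF h2]
    refine (Nat.card_congr ((MulAut.conj g).toEquiv.subtypeEquiv fun y => ?_)).symm
    simp only [MulEquiv.toEquiv_eq_coe, MulEquiv.coe_toEquiv, MulAut.conj_apply, hc, ← and_assoc, hi]
    refine and_congr Iff.rfl ⟨fun ⟨z, hz⟩ => ⟨g * z * g⁻¹, by simp only [hc, hi]; exact hz⟩, fun ⟨w, hw⟩ => ?_⟩
    obtain ⟨z, rfl⟩ := hex w
    simp only [hc, hi] at hw
    exact ⟨z, hw⟩
  · rw [← CfsgLib.SU.ReflThree.count_tangent C hF h2]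
    refine (Nat.card_congr ((MulAut.conj g).toEquiv.subtypeEquiv fun y => ?_)).symm
    simp only [MulEquiv.toEquiv_eq_coe, MulEquiv.coe_toEquiv, MulAut.conj_apply, hc, ← and_assoc, hi]
    refine and_congr Iff.rfl ⟨fun H w h1 h3 => ?_, fun H z h1 h3 => ?_⟩
    · obtain ⟨z, rfl⟩ := hex w
      rw [hc, hc]
      exact H z ((hi z).1 ⟨h1, h3⟩).1 ((hi z).1 ⟨h1, h3⟩).2
    · have := H (g * z * g⁻¹) ((hi z).2 ⟨h1, h3⟩).1 ((hi z).2 ⟨h1, h3⟩).2
      rwa [hc, hc] at this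
  · obtain ⟨x, rfl⟩ := hex x
    obtain ⟨hx', hxx'⟩ := (hi x).1 ⟨hx, hxx⟩
    obtain ⟨y, z, hy, hyy, hz, hzz, a, b, c⟩ := CfsgLib.SU.ReflThree.dist_three (C := C) h2 hx' hxx'
    exact ⟨g * y * g⁻¹, g * z * g⁻¹, ((hi y).2 ⟨hy, hyy⟩).1, ((hi y).2 ⟨hy, hyy⟩).2, ((hi z).2 ⟨hz, hzz⟩).1,
      ((hi z).2 ⟨hz, hzz⟩).2, (hc _ _).2 a, (hc _ _).2 b, (hc _ _).2 c⟩

end Cfsg.Agent.S2356
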