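import Cfsg.Statements.S2360
import Cfsg.Agent.Lib.SU.InvolGraphThree
-- import your own Cfsg.Agent.* helpers here

set_option autoImplicit false
open Cfsg

namespace Cfsg.Agent.S2360

/-- Let q be odd, F the field with q² elements and S = SU_3(F) (determinant-one isometries of the standard Hermitian form). Then all involutions of S are conjugate; there are exactly q²(q²−q+1) of them; the centralizer of an involution has order q(q+1)(q²−1), the order of the full unitary group of degree 2; and for two distinct commuting involutions t and x there is exactly one further involution commuting with both. -/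
theorem result {F : Type*} [Field F] [Fintype F] {q : ℕ} (hq : Odd q)
    (hF : Fintype.card F = q ^ 2) (t : ↥(Cfsg.SU 3 F q)) (ht : t ≠ 1) (ht2 : t * t = 1) :
    (∀ x : ↥(Cfsg.SU 3 F q), x ≠ 1 → x * x = 1 → ∃ g : ↥(Cfsg.SU 3 F q), g * t * g⁻¹ = x) ∧
    Nat.card {x : ↥(Cfsg.SU 3 F q) // x ≠ 1 ∧ x * x = 1} = q ^ 2 * (q ^ 2 - q + 1) ∧
    Nat.card ↥(Subgroup.centralizer ({t} : Set ↥(Cfsg.SU 3 F q))) = q * (q + 1) * (q ^ 2 - 1) ∧
    ∀ x : ↥(Cfsg.SU 3 F q), x ≠ 1 → x * x = 1 → x ≠ t → Commute t x →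
      Nat.card {y : ↥(Cfsg.SU 3 F q) // y ≠ 1 ∧ y * y = 1 ∧ y ≠ t ∧ y ≠ x ∧ Commute t y ∧ Commute x y} = 1 := by
  obtain ⟨C⟩ := CfsgLib.Classical.uctx_exists (q := q) hF
  have h2 := CfsgLib.SU.ReflThree.two_ne hq hF
  obtain ⟨g, rfl⟩ := CfsgLib.SU.ReflThree.exists_conj_base C hF h2 ht ht2
  refine ⟨fun x hx hxx => ?_, CfsgLib.SU.ReflThree.count_all C hF h2, ?_, fun x hx hxx hxt hc => ?_⟩
  · obtain ⟨k, rfl⟩ := CfsgLib.SU.ReflThree.exists_conj_base C hF h2 hx hxx
    exact ⟨k * g⁻¹, by group⟩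
  · rw [← CfsgLib.SU.ReflThree.card_centralizer_base C hF h2]
    exact (Nat.card_congr ((MulAut.conj g).toEquiv.subtypeEquiv fun x => by
      rw [Subgroup.mem_centralizer_singleton_iff, Subgroup.mem_centralizer_singleton_iff]
      exact (CfsgLib.SU.ReflThree.commute_conj g x _).symm)).symm
  · obtain ⟨x, rfl⟩ : ∃ z, g * z * g⁻¹ = x := ⟨g⁻¹ * x * g, by group⟩
    rw [CfsgLib.SU.ReflThree.conj_ne] at hxt
    rw [CfsgLib.SU.ReflThree.commute_conj] at hc
    obtain ⟨hx', hxx'⟩ := (CfsgLib.SU.ReflThree.conj_inv_iff g x).1 ⟨hx, hxx⟩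
    refine Eq.trans ?_ (CfsgLib.SU.ReflThree.one_common (C := C) h2 hx' hxx' hxt hc)
    refine (Nat.card_congr ((MulAut.conj g).toEquiv.subtypeEquiv fun y => ?_)).symm
    simp only [MulEquiv.toEquiv_eq_coe, MulEquiv.coe_toEquiv, MulAut.conj_apply, CfsgLib.SU.ReflThree.commute_conj,
      CfsgLib.SU.ReflThree.conj_ne, ← and_assoc, CfsgLib.SU.ReflThree.conj_inv_iff]

end Cfsg.Agent.S2360
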