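import Cfsg.Statements.S2362
import Cfsg.Agent.Lib.Classical.OddSpectraDiffer

set_option autoImplicit false
open Cfsg

namespace Cfsg.Agent.S2362

/-- Let F be a finite field of odd order and n ≥ 3. The simple orthogonal group PΩ(2n+1, F) (type B_n) and the projective symplectic group PSp(2n, F) (type C_n), which have the same order, do not have the same set of element orders. -/
theorem result {F : Type*} [Field F] [Fintype F] (hodd : Odd (Fintype.card F)) (n : ℕ) (hn : 3 ≤ n) :
    Set.range (orderOf : Cfsg.POmega F (Cfsg.quadFormOdd n F) → ℕ) ≠ Set.range (orderOf : Cfsg.PSp n F → ℕ) := by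
  obtain ⟨p, hp⟩ := CharP.exists F
  haveI : Fact p.Prime := ⟨CharP.char_is_prime F p⟩
  have h2 : (2 : F) ≠ 0 := CfsgLib.Orth.two_ne_zero_of_odd hodd
  obtain ⟨m, rfl⟩ : ∃ m, n = m + 1 := ⟨n - 1, by omega⟩
  obtain ⟨r, hr, hr2, hrp, hk, h4⟩ := CfsgLib.Classical.OddSpectraDiffer.exists_prime_eta (F := F) p h2 (m := m) (by omega)
  obtain ⟨a, -, hae, hra⟩ := CfsgLib.Classical.OddSpectrum.eta_exists (F := F) p hr hrp
  obtain rfl : a = m := by omega
  intro heq
  exact CfsgLib.Classical.OddSpectraDiffer.not_mem_omega p h2 (by omega) hr hr2 hrp hk h4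
    (heq ▸ CfsgLib.Classical.OddSpectraDiffer.mem_psp p h2 (by omega) hr hr2 hrp hra)

end Cfsg.Agent.S2362
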