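import Cfsg.Statements.S2364
import Cfsg.Agent.Lib.Classical.AdjacencyExist
import Cfsg.Agent.Lib.Classical.ThreeSpectra

set_option autoImplicit false
open Cfsg

namespace Cfsg.Agent.S2364

/-- Let F be a finite field of characteristic p, n ≥ 4, and let a, b be commuting elements of PSL(n, F) with a of order p. Then every prime divisor of the order of b divides the order of SL(n − 2, F). -/
theorem result {F : Type*} [Field F] [Fintype F] (p : ℕ) [Fact p.Prime] [CharP F p] (n : ℕ) (hn : 4 ≤ n)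
    (a b : Matrix.ProjectiveSpecialLinearGroup (Fin n) F) (ha : orderOf a = p) (hab : Commute a b) :
    (orderOf b).primeFactors ⊆ (Nat.card (Matrix.SpecialLinearGroup (Fin (n - 2)) F)).primeFactors := by
  classical
  have hp : p.Prime := Fact.out
  haveI : Finite (Matrix.SpecialLinearGroup (Fin n) F) := Finite.of_injective (fun X => X.1) Subtype.val_injective
  haveI : Finite (Matrix.SpecialLinearGroup (Fin (n - 2)) F) := Finite.of_injective (fun X => X.1) Subtype.val_injective
  intro r hr'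
  obtain ⟨hr, hrb, -⟩ := Nat.mem_primeFactors.1 hr'
  refine Nat.mem_primeFactors.2 ⟨hr, ?_, Nat.card_pos.ne'⟩
  suffices h : ∃ A : Matrix.SpecialLinearGroup (Fin (n - 2)) F, r ∣ orderOf A by
    obtain ⟨A, hA⟩ := h
    exact hA.trans (orderOf_dvd_natCard A)
  by_cases hrp : r = p
  · exact ⟨CfsgLib.Classical.Adjacency.transv (n - 2) (by omega),
      by rw [CfsgLib.Classical.Adjacency.orderOf_transv p, hrp]⟩
  have hb' : orderOf (b ^ (orderOf b / r)) = r := orderOf_pow_orderOf_div (orderOf_pos b).ne' hrb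
  have hxo : orderOf (b ^ (orderOf b / r) * a) = r * p := by
    rw [(hab.symm.pow_left _).orderOf_mul_eq_mul_orderOf_of_coprime
      (by rw [hb', ha]; exact (Nat.coprime_primes hr hp).2 hrp), hb', ha]
  obtain ⟨A, hA0, hA, -⟩ := CfsgLib.Classical.Adjacency.psl_lift hxo
  have h := CfsgLib.Classical.RootOrbits.prime_char p A.1 hr hrp hA0 hA
  rw [Fintype.card_fin] at h
  set k := orderOf ((Fintype.card F : ℕ) : ZMod r) with hk
  rcases Nat.lt_or_ge k 2 with hk1 | hk2
  · have hk1' : k ∣ 1 := by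
      have hcq := CfsgLib.Classical.RootOrbits.coprime_card (F := F) p hr hrp
      haveI := Fact.mk hr
      have hq : ((Fintype.card F : ℕ) : ZMod r) ≠ 0 := fun h0 =>
        (hr.coprime_iff_not_dvd.1 hcq) ((ZMod.natCast_eq_zero_iff _ r).1 h0)
      have hpos : 0 < k := orderOf_pos_iff.2 (isOfFinOrder_iff_pow_eq_one.2 ⟨r - 1, Nat.sub_pos_of_lt hr.one_lt,
        ZMod.pow_card_sub_one_eq_one hq⟩)
      rw [show k = 1 by omega]
    have hrq : r ∣ Fintype.card F - 1 := by
      have := (CfsgLib.Classical.Adjacency.dvd_pow_sub_one_iff (F := F) (r := r) (j := 1)).2 hk1'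
      rwa [pow_one] at this
    obtain ⟨B, hB⟩ := CfsgLib.Classical.Adjacency.exists_sl_two hrq
    exact ⟨CfsgLib.Classical.Adjacency.slBlock 2 (n - 2 - 2) (n - 2) (by omega) (B, 1),
      by rw [CfsgLib.Classical.Adjacency.orderOf_slBlock, hB]; exact Nat.dvd_lcm_left _ _⟩
  · obtain ⟨B, hB⟩ := CfsgLib.Classical.Adjacency.exists_sl (F := F) k r (by omega)
      (CfsgLib.Classical.Adjacency.dvd_pow_sub_one_iff.2 dvd_rfl)
      (CfsgLib.Classical.Adjacency.coprime_sub_one_of_two_le hr hk2)
    exact ⟨CfsgLib.Classical.Adjacency.slBlock k (n - 2 - k) (n - 2) (by omega) (B, 1),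
      by rw [CfsgLib.Classical.Adjacency.orderOf_slBlock, hB]; exact Nat.dvd_lcm_left _ _⟩

end Cfsg.Agent.S2364
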