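import Cfsg.Statements.S2365
import Cfsg.Agent.Lib.SU.SemisimpleCentral
-- import your own Cfsg.Agent.* helpers here

set_option autoImplicit false
open Cfsg

namespace Cfsg.Agent.S2365

/-- Let q be a power of the prime p, F the field with q² elements, m ≥ 4, and let a, b be commuting elements of PSU(m, q) with a of order p. Then every prime divisor of the order of b divides the order of SU(m − 2, q). -/
theorem result {F : Type*} [Field F] [Fintype F] (p : ℕ) [Fact p.Prime] [CharP F p] (m q : ℕ) (hm : 4 ≤ m) (hF : Fintype.card F = q ^ 2)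
    (a b : Cfsg.PSU m F q) (ha : orderOf a = p) (hab : Commute a b) :
    (orderOf b).primeFactors ⊆ (Nat.card ↥(Cfsg.SU (m - 2) F q)).primeFactors := by
  obtain ⟨C⟩ := CfsgLib.Classical.uctx_exists (q := q) hF
  have hpp : p.Prime := Fact.out
  intro r hr
  obtain ⟨hrp', hrd, -⟩ := Nat.mem_primeFactors.1 hr
  haveI := Fact.mk hrp'
  refine Nat.mem_primeFactors.2 ⟨hrp', ?_, Nat.card_pos.ne'⟩
  obtain ⟨k, -, hk⟩ := FiniteField.card F p
  rw [hF] at hk
  obtain ⟨f, -, hq⟩ := (Nat.dvd_prime_pow hpp).1 (hk ▸ dvd_pow_self q two_ne_zero)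
  have h2q := CfsgLib.Classical.two_le_q hF
  by_cases hrp : r = p
  · subst hrp
    rw [CfsgLib.SU.SemisimpleCentral.card_su C hF (by omega : 1 ≤ m - 2)]
    refine dvd_mul_of_dvd_left (dvd_pow ?_ ?_) _
    · rw [hq]; refine dvd_pow_self _ ?_; rintro rfl; rw [pow_zero] at hq; omega
    · have : 2 * 1 ≤ (m - 2) * (m - 2 - 1) := Nat.mul_le_mul (by omega) (by omega)
      omega
  by_cases hr1 : r ∣ q + 1
  · refine CfsgLib.SU.SemisimpleCentral.dvd_card_of_order C hF (j := 1) (by omega) le_rfl (by omega) ?_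
    rw [← ZMod.natCast_eq_zero_iff] at hr1
    push_cast at hr1
    rw [pow_one]
    linear_combination -hr1
  have hcz := C.card_center_su (n := m) hF (by omega)
  obtain ⟨z, hz⟩ : ∃ z, z = Nat.card (Subgroup.center ↥(Cfsg.SU m F q)) := ⟨_, rfl⟩
  have hzd : z ∣ q + 1 := by rw [hz, hcz]; exact Nat.gcd_dvd_right _ _
  have hpq : ¬ p ∣ q + 1 := fun h => by
    have h0 : p ∣ q := by rw [hq]; refine dvd_pow_self _ ?_; rintro rfl; rw [pow_zero] at hq; omega
    exact hpp.not_dvd_one ((Nat.dvd_add_right h0).1 h)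
  have hzr : r.Coprime z := (Nat.Prime.coprime_iff_not_dvd hrp').2 fun h => hr1 (h.trans hzd)
  have hzp : p.Coprime z := (Nat.Prime.coprime_iff_not_dvd hpp).2 fun h => hpq (h.trans hzd)
  have hlift : ∀ {l : ℕ}, l.Prime → l.Coprime z → ∀ x : Cfsg.PSU m F q, orderOf x = l →
      ∃ g : ↥(Cfsg.SU m F q), g ≠ 1 ∧ g ^ l = 1 ∧ (g : Cfsg.PSU m F q) = x ^ z := fun {l} hl hc x hx => by
    obtain ⟨g, rfl⟩ := QuotientGroup.mk_surjective x
    have hx' : (g : Cfsg.PSU m F q) ^ z ≠ 1 := fun h => hl.ne_one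
      (Nat.Coprime.eq_one_of_dvd hc (hx ▸ orderOf_dvd_of_pow_eq_one h))
    refine ⟨g ^ z, fun h => hx' (by rw [← QuotientGroup.mk_pow, h, QuotientGroup.mk_one]), ?_, QuotientGroup.mk_pow _ _ _⟩
    have h2 : g ^ l ∈ Subgroup.center ↥(Cfsg.SU m F q) :=
      (QuotientGroup.eq_one_iff _).1 (by rw [QuotientGroup.mk_pow, ← hx, pow_orderOf_eq_one])
    rw [← pow_mul, mul_comm, pow_mul, hz]
    exact congrArg Subtype.val (pow_card_eq_one' (x := (⟨g ^ l, h2⟩ : Subgroup.center ↥(Cfsg.SU m F q))))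
  obtain ⟨c, hc, hac⟩ : ∃ c : Cfsg.PSU m F q, orderOf c = r ∧ Commute a c :=
    ⟨b ^ (orderOf b / r), orderOf_pow_orderOf_div (orderOf_pos b).ne' hrd, hab.pow_right _⟩
  obtain ⟨A, hA1, hAp, hA⟩ := hlift hpp hzp a ha
  obtain ⟨B, hB1, hBr, hB⟩ := hlift hrp' hzr c hc
  refine CfsgLib.SU.SemisimpleCentral.dvd_card_of_commute C hF p hm hA1 hAp ?_ hrp hB1 hBr
  obtain ⟨w, hw⟩ : ∃ w, w = A * B * A⁻¹ * B⁻¹ := ⟨_, rfl⟩
  have hwc : w ∈ Subgroup.center ↥(Cfsg.SU m F q) := (QuotientGroup.eq_one_iff _).1 (by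
    rw [hw]
    simp only [QuotientGroup.mk_mul, QuotientGroup.mk_inv, hA, hB]
    rw [((hac.pow_pow z z)).eq]; group)
  have hAB : A * B * A⁻¹ = w * B := by rw [hw]; group
  have h1 : (A * B * A⁻¹) ^ r = w ^ r * B ^ r := by
    rw [hAB]; exact (Commute.mul_pow (Subgroup.mem_center_iff.1 hwc B).symm r)
  rw [conj_pow, hBr, mul_one, mul_inv_cancel, mul_one] at h1
  have h2 : w ^ z = 1 := by
    rw [hz]
    exact congrArg Subtype.val (pow_card_eq_one' (x := (⟨w, hwc⟩ : Subgroup.center ↥(Cfsg.SU m F q))))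
  have hw1 : w = 1 := orderOf_eq_one_iff.1
    (Nat.dvd_one.1 (hzr ▸ Nat.dvd_gcd (orderOf_dvd_of_pow_eq_one h1.symm) (orderOf_dvd_of_pow_eq_one h2)))
  rw [hw1, one_mul, mul_inv_eq_iff_eq_mul] at hAB
  exact hAB

end Cfsg.Agent.S2365
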