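import Cfsg.Statements.S2366
import Cfsg.Agent.Lib.Classical.ThreeSpectra
import Cfsg.Agent.Lib.GLClass.AbsorbAbstract

set_option autoImplicit false
open Cfsg

namespace Cfsg.Agent.S2366

/-- The set of element orders of PSU(3, q) for an odd prime power q = p^n: writing d = gcd(3, q + 1), a positive integer is the order of some element exactly when it divides one of q + 1, p(q + 1)/d, (q² − 1)/d, (q² − q + 1)/d. -/
theorem result {F : Type*} [Field F] [Fintype F] (p : ℕ) [Fact p.Prime] [CharP F p] (hp : p ≠ 2) (q : ℕ) (hF : Fintype.card F = q ^ 2) :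
    Set.range (orderOf : Cfsg.PSU 3 F q → ℕ) =
      {s : ℕ | s ∣ q + 1} ∪ {s : ℕ | s ∣ p * (q + 1) / Nat.gcd 3 (q + 1)} ∪
        {s : ℕ | s ∣ (q ^ 2 - 1) / Nat.gcd 3 (q + 1)} ∪ {s : ℕ | s ∣ (q ^ 2 - q + 1) / Nat.gcd 3 (q + 1)} := by
  classical
  have hp' : p.Prime := Fact.out
  obtain ⟨f, -, hf⟩ := FiniteField.card F p
  obtain ⟨e, -, hqe⟩ : ∃ e, e ≤ (f : ℕ) ∧ q = p ^ e :=
    (Nat.dvd_prime_pow hp').1 (hf ▸ hF ▸ dvd_pow_self q two_ne_zero)
  have he : 1 ≤ e := by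
    rcases Nat.eq_zero_or_pos e with rfl | h
    · have := Fintype.one_lt_card (α := F)
      rw [hF, hqe, pow_zero, one_pow] at this
      exact absurd this (lt_irrefl 1)
    · exact h
  obtain ⟨C⟩ := CfsgLib.SU.exists_ctx hqe he hF
  have key : ∀ {n m : ℕ}, (∃ g : Cfsg.PSU 3 F q, orderOf g = n) → m ∣ n →
      m ∈ Set.range (orderOf : Cfsg.PSU 3 F q → ℕ) := fun ⟨g, hg⟩ hm => by
    obtain ⟨z, hz⟩ := CfsgLib.Absorb.exists_order_of_dvd (x := g) (hg.symm ▸ hm)
    exact ⟨z, hz⟩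
  refine Set.ext fun m => ⟨?_, ?_⟩
  · rintro ⟨g, rfl⟩
    rcases CfsgLib.Classical.ThreeSpectra.psu_upper C p hp hF g with h | h | h | h
    · exact Or.inl (Or.inl (Or.inl h))
    · exact Or.inl (Or.inl (Or.inr h))
    · exact Or.inl (Or.inr h)
    · exact Or.inr h
  · rintro (((h | h) | h) | h)
    · exact key (CfsgLib.Classical.ThreeSpectra.psu_q_add_one C hF) h
    · exact key (CfsgLib.Classical.ThreeSpectra.psu_p_mul C p hF) h
    · exact key (CfsgLib.Classical.ThreeSpectra.psu_quadratic C hF) h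
    · exact key (CfsgLib.Classical.ThreeSpectra.psu_singer C p hF) h

end Cfsg.Agent.S2366
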