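import Cfsg.Statements.S2368
import Cfsg.Agent.Lib.GLClass.Unipotent

set_option autoImplicit false
open Cfsg

namespace Cfsg.Agent.S2368

/-- Let F be a finite field of characteristic p and m ≥ 1. Every element of GL(m, F) of p-power order has order less than p·m, and GL(m, F) has an element of p-power order at least m; so the largest order of a p-element of GL(m, F) is the least power of p that is at least m. -/
theorem result {F : Type*} [Field F] [Fintype F] (p : ℕ) [Fact p.Prime] [CharP F p] (m : ℕ) (hm : 1 ≤ m) :
    (∀ g : Matrix.GeneralLinearGroup (Fin m) F, (∃ j : ℕ, orderOf g = p ^ j) → orderOf g < p * m) ∧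
      ∃ g : Matrix.GeneralLinearGroup (Fin m) F, (∃ j : ℕ, orderOf g = p ^ j) ∧ m ≤ orderOf g := by
  classical
  have hp := (Fact.out : p.Prime)
  refine ⟨fun g hg => ?_, ?_⟩
  · have h1 := CfsgLib.GLClass.orderOf_le_pow_clog p g
      ((CfsgLib.GLClass.isNilpotent_sub_one_iff p g).2 hg)
    rw [Fintype.card_fin] at h1
    refine h1.trans_lt ?_
    rcases Nat.eq_zero_or_pos (Nat.clog p m) with h0 | h0
    · rw [h0, pow_zero]
      exact Nat.lt_of_lt_of_le hp.one_lt (Nat.le_mul_of_pos_right p hm)
    · have h2 : p ^ (Nat.clog p m - 1) < m := by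
        by_contra h
        have := (Nat.clog_le_iff_le_pow hp.one_lt).2 (not_lt.1 h)
        omega
      conv_lhs => rw [show Nat.clog p m = Nat.clog p m - 1 + 1 by omega, pow_succ']
      exact Nat.mul_lt_mul_of_pos_left h2 hp.pos
  · let N : Matrix (Fin m) (Fin m) F := Matrix.of fun i j => if j.val = i.val + 1 then 1 else 0
    have hN : ∀ k, N ^ k = Matrix.of fun i j => if j.val = i.val + k then 1 else 0 := by
      intro k
      induction k with
      | zero =>
        ext i j
        simp [Matrix.one_apply, Fin.ext_iff, eq_comm]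
      | succ k ih =>
        ext i j
        rw [pow_succ, ih, Matrix.mul_apply]
        simp only [N, Matrix.of_apply]
        by_cases hk : i.val + k < m
        · rw [Finset.sum_eq_single ⟨i.val + k, hk⟩]
          · simp [add_assoc]
          · intro l _ hl
            rw [if_neg (fun h => hl (Fin.ext h)), zero_mul]
          · simp
        · rw [if_neg (by omega)]
          refine Finset.sum_eq_zero fun l _ => ?_
          rw [if_neg (by omega), zero_mul]
    have hnil : IsNilpotent N := ⟨m, by rw [hN]; ext i j; simp; omega⟩
    have hu : IsUnit (1 + N) := hnil.isUnit_one_add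
    have hval : ((hu.unit : Matrix.GeneralLinearGroup (Fin m) F) : Matrix (Fin m) (Fin m) F) - 1
        = N := by simp [IsUnit.unit_spec]
    have hlast : N ^ (Fintype.card (Fin m) - 1) ≠ 0 := by
      intro h
      rw [Fintype.card_fin, hN] at h
      have := congrFun (congrFun h ⟨0, by omega⟩) ⟨m - 1, by omega⟩
      simp at this
    have ho := CfsgLib.GLClass.orderOf_eq_pow_clog p hu.unit (hval.symm ▸ hnil) (hval.symm ▸ hlast)
    refine ⟨hu.unit, ⟨_, ho⟩, ?_⟩
    rw [ho, Fintype.card_fin]
    exact Nat.le_pow_clog hp.one_lt _

end Cfsg.Agent.S2368
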