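import Cfsg.Statements.S2369
import Cfsg.Agent.Lib.Lie.Chev.Tw.InvolF4Cent

set_option autoImplicit false
open Cfsg

namespace Cfsg.Agent.S2369



/-- Let q = 2^(2m+1) with m ≥ 1 and let a, b be commuting elements of the large Ree group ²F₄(q) with a an involution. Then every prime divisor of the order of b divides q(q⁴ − 1). -/
theorem result {K : Type*} [Field K] [Fintype K] (m : ℕ) (hm : 1 ≤ m) (hK : Fintype.card K = 2 ^ (2 * m + 1))
    (a b : ↥(Cfsg.Lie.twistedF4 K (2 ^ m))) (ha : orderOf a = 2) (hab : Commute a b) :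
    (orderOf b).primeFactors ⊆ (2 ^ (2 * m + 1) * ((2 ^ (2 * m + 1)) ^ 4 - 1)).primeFactors := by
  intro r hr
  obtain ⟨hrp, hrb, -⟩ := Nat.mem_primeFactors.1 hr
  obtain ⟨hc, θ, hsq, hθ⟩ := CfsgLib.Lie.Chev.TF4.exists_theta hK
  have h2 : orderOf (a : GL Cfsg.Lie.chevF4.Idx K) = 2 := by rw [Subgroup.orderOf_coe, ha]
  have hb' : r ∣ orderOf (b : GL Cfsg.Lie.chevF4.Idx K) := by rwa [Subgroup.orderOf_coe]
  have h := CfsgLib.Lie.Chev.TF4Invol.cent_primes m hK θ hsq hθ a.2 b.2 h2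
    (congrArg Subtype.val hab.eq) hrp hb'
  rw [hK] at h
  refine Nat.mem_primeFactors.2 ⟨hrp, h, ?_⟩
  refine Nat.mul_ne_zero (by positivity) (Nat.sub_ne_zero_of_lt ?_)
  exact Nat.one_lt_pow (by norm_num) (Nat.one_lt_two_pow (by omega))

end Cfsg.Agent.S2369
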