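import Cfsg.Statements.S2370
import Cfsg.Agent.Lib.Lie.Chev.SylowU
import Cfsg.Agent.Lib.Lie.Chev.ParabLevi
import Cfsg.Agent.Lib.Lie.Chev.FullAll

set_option autoImplicit false
open Cfsg
open CfsgLib.Lie.Chev
open scoped MatrixGroups

namespace Cfsg.Agent.S2370

open Cfsg.Lie

theorem genSubgroup_le {D : ChevalleyDatum} (G : Good D) {F : Type*} [Field F]
    (S : Set (List (ℕ × F))) : D.genSubgroup F S ≤ D.group F := by
  have hw : ∀ w : List (ℕ × F), ∃ h ∈ D.group F, (h : Matrix D.Idx D.Idx F) = D.wordMat F w := by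
    intro w
    induction w with
    | nil => exact ⟨1, one_mem _, by simp [ChevalleyDatum.wordMat]⟩
    | cons p w ih =>
      obtain ⟨h, hh, e⟩ := ih
      by_cases hp : p.1 < D.nroots
      · refine ⟨G.xu ⟨p.1, hp⟩ p.2 * h, mul_mem (G.xu_mem _ _) hh, ?_⟩
        rw [Units.val_mul, e, ← G.x_eq_xu]
        simp [ChevalleyDatum.wordMat]
      · refine ⟨h, hh, ?_⟩
        rw [e]
        simp [ChevalleyDatum.wordMat, ChevalleyDatum.x, dif_neg hp]
  rw [ChevalleyDatum.genSubgroup, Subgroup.closure_le]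
  rintro g ⟨w, -, hg⟩
  obtain ⟨h, hh, e⟩ := hw w
  exact (Units.ext (hg.trans e.symm) : g = h) ▸ hh

theorem outW_bound : ∀ r : Fin chevF4.nroots, |∑ m, goodF4.rho r m| ≤ 11 := by decide +kernel

/-- Let q = 2^(2m+1) with m ≥ 1. Every element of 2-power order of the large Ree group ²F₄(q) has order at most 32. -/
theorem result {K : Type*} [Field K] [Fintype K] (m : ℕ) (hm : 1 ≤ m) (hK : Fintype.card K = 2 ^ (2 * m + 1))
    (x : ↥(Cfsg.Lie.twistedF4 K (2 ^ m))) (hx : ∃ j : ℕ, orderOf x = 2 ^ j) : orderOf x ≤ 32 := by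
  classical
  obtain ⟨j, hj⟩ := hx
  haveI hc2 : CharP K 2 := by
    obtain ⟨p, hp⟩ := CharP.exists K
    obtain ⟨e, hpr, he⟩ := FiniteField.card K p
    have h2 : p ∣ 2 ^ (2 * m + 1) := hK ▸ he ▸ dvd_pow_self p e.ne_zero
    exact (Nat.prime_dvd_prime_iff_eq hpr Nat.prime_two).1 (hpr.dvd_of_dvd_pow h2) ▸ hp
  let C : Full chevF4 := ⟨goodF4, fastF4, rowsOK chkRows_F4, chkComm_F4⟩
  have hle : twistedF4 K (2 ^ m) ≤ chevF4.group K := genSubgroup_le C.G _
  set y : ↥(chevF4.group K) := ⟨(x : GL chevF4.Idx K), hle x.2⟩ with hy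
  have hyo : orderOf y = orderOf x := by
    rw [← Subgroup.orderOf_coe y, ← Subgroup.orderOf_coe x]
  obtain ⟨P, hP⟩ := C.exists_sylow (F := K) 2
  obtain ⟨Q, hQ⟩ := IsPGroup.exists_le_sylow (P := Subgroup.zpowers y) (p := 2)
    (IsPGroup.of_card (n := j) (by rw [Nat.card_zpowers, hyo, hj]))
  obtain ⟨g, hg⟩ := MulAction.exists_smul_eq ↥(chevF4.group K) Q P
  have hmem : g * y * g⁻¹ ∈ (P : Subgroup ↥(chevF4.group K)) := by
    rw [← hg, Sylow.coe_subgroup_smul, Subgroup.mem_pointwise_smul_iff_inv_smul_mem]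
    simp [MulAut.smul_def, mul_assoc]
    exact hQ (Subgroup.mem_zpowers y)
  rw [hP, Subgroup.mem_subgroupOf] at hmem
  set u : GL chevF4.Idx K := ((g * y * g⁻¹ : ↥(chevF4.group K)) : GL chevF4.Idx K) with hu
  have hUR : u ∈ (UR C.G ∅ : Subgroup (GL chevF4.Idx K)) := by
    refine (?_ : chevF4.posUnipotent K ≤ UR C.G ∅) hmem
    rw [C.G.posUnipotent_eq_closure, Subgroup.closure_le]
    rintro _ ⟨r, t, hr, rfl⟩
    refine Subgroup.subset_closure ⟨r, t, ⟨hr, fun h => ?_⟩, rfl⟩
    have h0 : C.G.rho r = 0 := funext fun i => h i (Finset.notMem_empty i)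
    have := (C.G.isPosRoot_iff r).1 hr
    simp [Good.ht, h0] at this
  have hS := C.G.strictJ_UR hUR
  have hpow : ∀ (k : ℕ) (a b : chevF4.Idx), (((u : Matrix chevF4.Idx chevF4.Idx K) - 1) ^ k) a b ≠ 0 →
      (k : ℤ) ≤ outW C.G ∅ a - outW C.G ∅ b := by
    intro k
    induction k with
    | zero =>
      intro a b h
      by_cases hab : a = b
      · subst hab; simp
      · exact absurd (Matrix.one_apply_ne hab) (by simpa using h)
    | succ k ih =>
      intro a b h
      rw [pow_succ, Matrix.mul_apply] at h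
      obtain ⟨c, -, hc⟩ := Finset.exists_ne_zero_of_sum_ne_zero h
      have h1 := ih a c (left_ne_zero_of_mul hc)
      have h2 := right_ne_zero_of_mul hc
      by_cases hcb : c = b
      · subst hcb; simp [hS.1] at h2
      · rw [Matrix.sub_apply, Matrix.one_apply_ne hcb, sub_zero] at h2
        have := hS.2 c b hcb h2
        push_cast
        omega
  have hb : ∀ b, |outW C.G ∅ b| ≤ 11 := by
    rintro (i | r)
    · simp [outW, weight]
    · simpa [outW, weight] using outW_bound r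
  have hz : ((u : Matrix chevF4.Idx chevF4.Idx K) - 1) ^ 2 ^ 5 = 0 := by
    ext a b
    by_contra h
    have h1 := hpow _ a b h
    have ha := abs_le.1 (hb a)
    have hb' := abs_le.1 (hb b)
    push_cast at h1
    omega
  haveI : CharP (Matrix chevF4.Idx chevF4.Idx K) 2 := by
    haveI : Nonempty chevF4.Idx := ⟨Sum.inl ⟨0, by decide +kernel⟩⟩
    infer_instance
  haveI : Fact (Nat.Prime 2) := ⟨Nat.prime_two⟩
  rw [sub_pow_char_pow_of_commute 2 5 (Commute.one_right _), one_pow, sub_eq_zero] at hz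
  have hu1 : u ^ 2 ^ 5 = 1 := Units.ext (by rw [Units.val_pow_eq_pow_val, hz, Units.val_one])
  have h32 : orderOf u ∣ 32 := orderOf_dvd_of_pow_eq_one hu1
  have hou : orderOf u = orderOf x := by
    rw [hu, Subgroup.orderOf_coe, ← hyo]
    exact orderOf_injective (MulAut.conj g).toMonoidHom (MulAut.conj g).injective y
  rw [← hou]
  exact Nat.le_of_dvd (by norm_num) h32

end Cfsg.Agent.S2370
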