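import Cfsg.Statements.S2382
import Cfsg.Agent.Lib.Lie.Chev.SimpleMod.Realize
import Cfsg.Agent.Lib.Lie.Chev.Homocyclic.Cases
import Cfsg.Agent.Lib.Lie.Chev.TorData
-- import your own Cfsg.Agent.* helpers here

set_option autoImplicit false
set_option maxRecDepth 100000
open Cfsg
open CfsgLib.Lie.Chev CfsgLib.Lie.CoxTorus CfsgLib.Lie.Homocyclic

namespace Cfsg.Agent.S2382

/-- Steinberg's count of semisimple classes for the three types whose simply connected and adjoint groups coincide: in the Chevalley group of type G₂, F₄ or E₈ over a field with `q` elements of characteristic `p`, the conjugacy classes of elements of order prime to `p` number exactly `q^l`, `l = 2, 4, 8` the rank. -/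
theorem result {F : Type*} [Field F] [Fintype F] {q : ℕ} (hq : Fintype.card F = q) (p : ℕ) [Fact p.Prime] [CharP F p]
    (D : Cfsg.Lie.ChevalleyDatum) (hD : D ∈ [Cfsg.Lie.chevG2, Cfsg.Lie.chevF4, Cfsg.Lie.chevE8]) :
    Nat.card {c : ConjClasses ↥(D.group F) // ∃ g : ↥(D.group F), ConjClasses.mk g = c ∧ (orderOf g).Coprime p} = q ^ D.rank := by
  classical
  simp only [List.mem_cons, List.not_mem_nil, or_false] at hD
  rw [← hq]
  rcases hD with rfl | rfl | rfl
  · exact SimpleMod.card_semisimple_classes cG2 p (k := AlgebraicClosure (ZMod p))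
      (cG2.G.torθ_injective kerG2 kerG2_ok (by simp [kerG2]))
  · exact SimpleMod.card_semisimple_classes cF4 p (k := AlgebraicClosure (ZMod p))
      (cF4.G.torθ_injective kerF4 kerF4_ok (by simp [kerF4]))
  · exact SimpleMod.card_semisimple_classes cE8 p (k := AlgebraicClosure (ZMod p))
      (cE8.G.torθ_injective kerE8 kerE8_ok (by simp [kerE8]))

end Cfsg.Agent.S2382
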