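import Cfsg.Statements.S2383
import Cfsg.Agent.Lib.Lie.Chev.SimpleMod.Realize
import Cfsg.Agent.Lib.Lie.Chev.Homocyclic.Cases
import Cfsg.Agent.Lib.Lie.Chev.TorData
-- import your own Cfsg.Agent.* helpers here

set_option autoImplicit false
set_option maxRecDepth 100000
open Cfsg
open CfsgLib.Lie.Chev CfsgLib.Lie.CoxTorus CfsgLib.Lie.Homocyclic

namespace Cfsg.Agent.S2383

/-- Steinberg's count of semisimple classes in characteristic 2 for the types B₂, D₄, E₇, where the finite simply connected group has trivial centre and so coincides with the Chevalley group: for the Chevalley group of type B₂, D₄ or E₇ over a field with `q` elements of characteristic 2, the conjugacy classes of elements of odd order number exactly `q^l`, `l` the rank. -/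
theorem result {F : Type*} [Field F] [Fintype F] {q : ℕ} (hq : Fintype.card F = q) [CharP F 2]
    (D : Cfsg.Lie.ChevalleyDatum) (hD : D ∈ [Cfsg.Lie.chevB2, Cfsg.Lie.chevD4, Cfsg.Lie.chevE7]) :
    Nat.card {c : ConjClasses ↥(D.group F) // ∃ g : ↥(D.group F), ConjClasses.mk g = c ∧ Odd (orderOf g)} = q ^ D.rank := by
  classical
  haveI : Fact (Nat.Prime 2) := ⟨Nat.prime_two⟩
  obtain ⟨n, -, hn⟩ := FiniteField.card F 2
  have hgcd : Nat.gcd 2 (Fintype.card F - 1) = 1 := by
    refine (Nat.Prime.coprime_iff_not_dvd Nat.prime_two).2 fun h => ?_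
    have h2 : 2 ∣ Fintype.card F := hn ▸ dvd_pow_self 2 n.pos.ne'
    have hpos : 0 < Fintype.card F := Fintype.card_pos
    omega
  simp only [← Nat.coprime_two_right]
  simp only [List.mem_cons, List.not_mem_nil, or_false] at hD
  rw [← hq]
  rcases hD with rfl | rfl | rfl
  · exact SimpleMod.card_semisimple_classes cB2 2 (k := AlgebraicClosure (ZMod 2))
      (cB2.G.torθ_injective kerB2 kerB2_ok (by simp [kerB2, hgcd]))
  · exact SimpleMod.card_semisimple_classes cD4 2 (k := AlgebraicClosure (ZMod 2))
      (cD4.G.torθ_injective kerD4 kerD4_ok (by simp [kerD4, hgcd]))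
  · exact SimpleMod.card_semisimple_classes cE7 2 (k := AlgebraicClosure (ZMod 2))
      (cE7.G.torθ_injective kerE7 kerE7_ok (by simp [kerE7, hgcd]))

end Cfsg.Agent.S2383
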