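import Cfsg.Statements.S2384
import Cfsg.Agent.Lib.GLClass.SemisimpleCount

set_option autoImplicit false
open Cfsg

namespace Cfsg.Agent.S2384

/-- In `SL_n(q)`, `q` a power of the prime `p`, the number of conjugacy classes of elements of order prime to `p` (the semisimple classes) is `q^(n-1)`. -/
theorem result {F : Type*} [Field F] [Fintype F] {q : ℕ} (hq : Fintype.card F = q) (p : ℕ) [Fact p.Prime] [CharP F p] (n : ℕ) (hn : 1 ≤ n) :
    Nat.card {c : ConjClasses (Matrix.SpecialLinearGroup (Fin n) F) //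
      ∃ g : Matrix.SpecialLinearGroup (Fin n) F, ConjClasses.mk g = c ∧ (orderOf g).Coprime p} = q ^ (n - 1) := by
  classical
  obtain ⟨m, rfl⟩ : ∃ m, n = m + 1 := ⟨n - 1, by omega⟩
  have hdet : ∀ g : Matrix.SpecialLinearGroup (Fin (m + 1)) F,
      (g : Matrix (Fin (m + 1)) (Fin (m + 1)) F).charpoly.eval 0 = (-1) ^ (m + 1) := by
    intro g
    rw [Matrix.eval_charpoly, map_zero, zero_sub, Matrix.det_neg, g.2, mul_one, Fintype.card_fin]
  have hcp : ∀ g g' : Matrix.SpecialLinearGroup (Fin (m + 1)) F, IsConj g g' →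
      (g : Matrix (Fin (m + 1)) (Fin (m + 1)) F).charpoly =
        (g' : Matrix (Fin (m + 1)) (Fin (m + 1)) F).charpoly := by
    intro g g' h
    obtain ⟨c, rfl⟩ := isConj_iff.1 h
    have h1 := congrArg (fun x : GL (Fin (m + 1)) F => (x : Matrix (Fin (m + 1)) (Fin (m + 1)) F).charpoly)
      (show Matrix.SpecialLinearGroup.toGL (c * g * c⁻¹) = Matrix.SpecialLinearGroup.toGL c *
        Matrix.SpecialLinearGroup.toGL g * (Matrix.SpecialLinearGroup.toGL c)⁻¹ by
          rw [map_mul, map_mul, map_inv])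
    simp only [Units.val_mul, Matrix.coe_units_inv, Matrix.charpoly_units_conj] at h1
    exact h1.symm
  let T := {f : Polynomial F // f.Monic ∧ f.natDegree = m + 1 ∧
    f.eval 0 ∈ ({(-1) ^ (m + 1)} : Set F)}
  have hss : ∀ x : Matrix.SpecialLinearGroup (Fin (m + 1)) F, (orderOf x).Coprime p →
      CfsgLib.GLClass.IsSS (x : Matrix (Fin (m + 1)) (Fin (m + 1)) F) := fun x hx => by
    have h1 := CfsgLib.GLClass.isSS_of_coprime p (Matrix.SpecialLinearGroup.toGL x)
      (by rwa [orderOf_injective _ Matrix.SpecialLinearGroup.toGL_injective])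
    exact h1
  let φ : {c : ConjClasses (Matrix.SpecialLinearGroup (Fin (m + 1)) F) //
      ∃ g : Matrix.SpecialLinearGroup (Fin (m + 1)) F,
        ConjClasses.mk g = c ∧ (orderOf g).Coprime p} → T := fun c =>
    ⟨(c.2.choose : Matrix (Fin (m + 1)) (Fin (m + 1)) F).charpoly, Matrix.charpoly_monic _,
      by rw [Matrix.charpoly_natDegree_eq_dim, Fintype.card_fin], hdet _⟩
  have hφ : Function.Bijective φ := by
    refine ⟨fun c d h => Subtype.ext ?_, fun f => ?_⟩
    · rw [← c.2.choose_spec.1, ← d.2.choose_spec.1, ConjClasses.mk_eq_mk_iff_isConj]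
      exact CfsgLib.GLClass.sl_isConj_of_charpoly hn (hss _ c.2.choose_spec.2)
        (hss _ d.2.choose_spec.2) (congrArg Subtype.val h)
    · obtain ⟨A, hA, hAo⟩ := CfsgLib.GLClass.exists_ss_of_monic p f.1 f.2.1 f.2.2.1 (by
        rw [Set.mem_singleton_iff.1 f.2.2.2]; exact pow_ne_zero _ (neg_ne_zero.2 one_ne_zero))
      have hA1 : (A : Matrix (Fin (m + 1)) (Fin (m + 1)) F).det = 1 := by
        rw [Matrix.det_eq_sign_charpoly_coeff, hA, Polynomial.coeff_zero_eq_eval_zero,
          Set.mem_singleton_iff.1 f.2.2.2, Fintype.card_fin, ← mul_pow]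
        simp
      let S : Matrix.SpecialLinearGroup (Fin (m + 1)) F := ⟨_, hA1⟩
      have hSA : Matrix.SpecialLinearGroup.toGL S = A := Units.ext rfl
      have hSo : (orderOf S).Coprime p := by
        rwa [← orderOf_injective _ Matrix.SpecialLinearGroup.toGL_injective, hSA]
      refine ⟨⟨ConjClasses.mk S, S, rfl, hSo⟩, Subtype.ext ?_⟩
      have hspec := (⟨S, rfl, hSo⟩ : ∃ g : Matrix.SpecialLinearGroup (Fin (m + 1)) F,
        ConjClasses.mk g = ConjClasses.mk S ∧ (orderOf g).Coprime p).choose_spec.1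
      exact (hcp _ _ (ConjClasses.mk_eq_mk_iff_isConj.1 hspec)).trans hA
  rw [Nat.card_eq_of_bijective φ hφ, CfsgLib.GLClass.exists_monic_equiv, hq]
  simp

end Cfsg.Agent.S2384
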