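import Cfsg.Statements.S2387
import Cfsg.Agent.Lib.GLClass.SemisimpleCount

set_option autoImplicit false
open scoped MatrixGroups
open Cfsg

namespace Cfsg.Agent.S2387

/-- In `GL_n(q)` with `n ≥ 1`, `q` a power of the prime `p`, the number of conjugacy classes of elements of order prime to `p` (diagonalisable over the algebraic closure; determined by the characteristic polynomial) is `(q - 1) q^(n-1)`. -/
theorem result {F : Type*} [Field F] [Fintype F] {q : ℕ} (hq : Fintype.card F = q) (p : ℕ) [Fact p.Prime] [CharP F p] (n : ℕ) (hn : 1 ≤ n) :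
    Nat.card {c : ConjClasses (GL (Fin n) F) // ∃ g : GL (Fin n) F, ConjClasses.mk g = c ∧ (orderOf g).Coprime p} = (q - 1) * q ^ (n - 1) := by
  classical
  obtain ⟨m, rfl⟩ : ∃ m, n = m + 1 := ⟨n - 1, by omega⟩
  have hdet0 : ∀ g : GL (Fin (m + 1)) F,
      (g : Matrix (Fin (m + 1)) (Fin (m + 1)) F).charpoly.eval 0 ≠ 0 := by
    intro g h0
    rw [Matrix.eval_charpoly, map_zero, zero_sub, Matrix.det_neg] at h0
    rcases mul_eq_zero.1 h0 with h | h
    · exact pow_ne_zero _ (neg_ne_zero.2 one_ne_zero) h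
    · exact ((Matrix.isUnit_iff_isUnit_det _).1 g.isUnit).ne_zero h
  have hcp : ∀ g g' : GL (Fin (m + 1)) F, IsConj g g' →
      (g : Matrix (Fin (m + 1)) (Fin (m + 1)) F).charpoly =
        (g' : Matrix (Fin (m + 1)) (Fin (m + 1)) F).charpoly := by
    intro g g' h
    obtain ⟨c, rfl⟩ := isConj_iff.1 h
    rw [Units.val_mul, Units.val_mul, Matrix.coe_units_inv, Matrix.charpoly_units_conj]
  let T := {f : Polynomial F // f.Monic ∧ f.natDegree = m + 1 ∧ f.eval 0 ∈ {x : F | x ≠ 0}}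
  let φ : {c : ConjClasses (GL (Fin (m + 1)) F) // ∃ g : GL (Fin (m + 1)) F,
      ConjClasses.mk g = c ∧ (orderOf g).Coprime p} → T := fun c =>
    ⟨(c.2.choose : Matrix (Fin (m + 1)) (Fin (m + 1)) F).charpoly, Matrix.charpoly_monic _,
      by rw [Matrix.charpoly_natDegree_eq_dim, Fintype.card_fin], hdet0 _⟩
  have hφ : Function.Bijective φ := by
    refine ⟨fun c d h => Subtype.ext ?_, fun f => ?_⟩
    · rw [← c.2.choose_spec.1, ← d.2.choose_spec.1, ConjClasses.mk_eq_mk_iff_isConj]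
      exact CfsgLib.GLClass.isConj_units (CfsgLib.GLClass.isConj_of_charpoly_eq
        (CfsgLib.GLClass.isSS_of_coprime p _ c.2.choose_spec.2)
        (CfsgLib.GLClass.isSS_of_coprime p _ d.2.choose_spec.2) (congrArg Subtype.val h))
    · obtain ⟨A, hA, hAo⟩ := CfsgLib.GLClass.exists_ss_of_monic p f.1 f.2.1 f.2.2.1 f.2.2.2
      refine ⟨⟨ConjClasses.mk A, A, rfl, hAo⟩, Subtype.ext ?_⟩
      have hspec := (⟨A, rfl, hAo⟩ : ∃ g : GL (Fin (m + 1)) F,
        ConjClasses.mk g = ConjClasses.mk A ∧ (orderOf g).Coprime p).choose_spec.1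
      exact (hcp _ _ (ConjClasses.mk_eq_mk_iff_isConj.1 hspec)).trans hA
  rw [Nat.card_eq_of_bijective φ hφ, CfsgLib.GLClass.exists_monic_equiv, hq]
  congr 1
  rw [show Nat.card {x : F | x ≠ 0} = Nat.card Fˣ from Nat.card_congr unitsEquivNeZero.symm,
    Nat.card_units, Nat.card_eq_fintype_card, hq]

end Cfsg.Agent.S2387
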