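import Cfsg.Statements.S2388
import Cfsg.Agent.Lib.GLClass.SemisimpleCount

set_option autoImplicit false
open Cfsg

namespace Cfsg.Agent.S2388

/-- In `SL_n(q)`, `q` a power of the prime `p`, two elements of order prime to `p` with the same characteristic polynomial are conjugate in `SL_n(q)` (not merely in `GL_n`). -/
theorem result {F : Type*} [Field F] [Fintype F] (p : ℕ) [Fact p.Prime] [CharP F p] (n : ℕ)
    (g h : Matrix.SpecialLinearGroup (Fin n) F) (hg : (orderOf g).Coprime p) (hh : (orderOf h).Coprime p)
    (hc : (g : Matrix (Fin n) (Fin n) F).charpoly = (h : Matrix (Fin n) (Fin n) F).charpoly) : IsConj g h := by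
  rcases Nat.eq_zero_or_pos n with rfl | hn
  · have : g = h := Subtype.ext (Subsingleton.elim _ _)
    rw [this]
  · have key : ∀ x : Matrix.SpecialLinearGroup (Fin n) F, (orderOf x).Coprime p →
        CfsgLib.GLClass.IsSS (x : Matrix (Fin n) (Fin n) F) := fun x hx => by
      have h1 := CfsgLib.GLClass.isSS_of_coprime p (Matrix.SpecialLinearGroup.toGL x)
        (by rwa [orderOf_injective _ Matrix.SpecialLinearGroup.toGL_injective])
      exact h1
    exact CfsgLib.GLClass.sl_isConj_of_charpoly hn (key g hg) (key h hh) hc

end Cfsg.Agent.S2388
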