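import Cfsg.Statements.S2392
import Cfsg.Agent.Lib.LinDeg.Instances

set_option autoImplicit false
open scoped MatrixGroups
open Cfsg Matrix

namespace Cfsg.Agent.S2392

/-- A lower bound for representations in cross characteristic: for `n ≥ 3` and a field `F` with `q` elements, every homomorphism from `SL_n(F)` to `GL_d(K)`, `K` a field of characteristic different from that of `F`, whose kernel is central has `d ≥ q^(n-1) - 1`. -/
theorem result {F : Type*} [Field F] [Fintype F] {q : ℕ} (hq : Fintype.card F = q) (n : ℕ) (hn : 3 ≤ n)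
    {K : Type*} [Field K] (hK : ringChar K ≠ ringChar F) {d : ℕ}
    (ρ : Matrix.SpecialLinearGroup (Fin n) F →* GL (Fin d) K) (hker : ρ.ker ≤ Subgroup.center (Matrix.SpecialLinearGroup (Fin n) F)) :
    q ^ (n - 1) - 1 ≤ d := by
  classical
  obtain ⟨m, rfl⟩ : ∃ m, n = m + 1 := ⟨n - 1, by omega⟩
  rw [Nat.add_sub_cancel, ← hq]
  let A := AlgebraicClosure K
  let i : K →+* A := algebraMap K A
  have hA : ringChar A ≠ ringChar F := by
    haveI : CharP A (ringChar K) := charP_of_injective_ringHom i.injective (ringChar K)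
    rw [ringChar.eq A (ringChar K)]
    exact hK
  obtain ⟨ψ, hψ⟩ := CfsgLib.LinDeg.exists_primitiveChar F A hA
  have hne0 := CfsgLib.LinDeg.card_ne_zero F A hA
  let π : Matrix.SpecialLinearGroup (Fin (m + 1)) F →* Module.End A (Fin d → A) :=
    ((Matrix.toLinAlgEquiv' : Matrix (Fin d) (Fin d) A ≃ₐ[A] Module.End A (Fin d → A)).toMonoidHom).comp
      ((i.mapMatrix.toMonoidHom).comp ((Units.coeHom _).comp ρ))
  have hne : ∃ v, π ((CfsgLib.LinDeg.slMirab F m).u v) ≠ 1 := by
    by_contra h
    simp only [not_exists, not_not, ne_eq] at h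
    set v : Fin m → F := fun _ => 1
    have h1 := h v
    have h2 : CfsgLib.LinDeg.uSL v ∈ ρ.ker := by
      rw [MonoidHom.mem_ker]
      apply Units.ext
      have h3 : i.mapMatrix ((ρ (CfsgLib.LinDeg.uSL v)).1) = 1 :=
        (Matrix.toLinAlgEquiv' : Matrix (Fin d) (Fin d) A ≃ₐ[A] Module.End A (Fin d → A)).injective
          (h1.trans (map_one _).symm)
      exact Matrix.map_injective i.injective (h3.trans (map_one i.mapMatrix).symm)
    obtain ⟨z, -, hz⟩ := Matrix.SpecialLinearGroup.mem_center_iff.1 (hker h2)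
    have h4 := congrFun (congrFun hz 0) (Fin.succ ⟨0, by omega⟩)
    simp [CfsgLib.LinDeg.uSL, CfsgLib.LinDeg.uMat, CfsgLib.LinDeg.bl, CfsgLib.LinDeg.blockEquiv,
      CfsgLib.LinDeg.row1, v, (Fin.succ_ne_zero _).symm] at h4
  have h := (CfsgLib.LinDeg.slMirab F m).lower π ψ hψ hne0 (by omega) hne
  rwa [Module.finrank_fin_fun] at h

end Cfsg.Agent.S2392
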