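import Cfsg.Statements.S2393
import Cfsg.Agent.Lib.LinDeg.Spectral

set_option autoImplicit false
open scoped MatrixGroups
open Cfsg

namespace Cfsg.Agent.S2393

open Matrix in
theorem upper_mem {ι : Type*} [Fintype ι] [DecidableEq ι] {F : Type*} [Field F] (S : Matrix ι ι F) (hS : S.transpose = S) :
    Matrix.fromBlocks 1 S 0 1 ∈ Matrix.symplecticGroup ι F := by
  rw [SymplecticGroup.mem_iff, Matrix.J, fromBlocks_transpose, fromBlocks_multiply, fromBlocks_multiply]
  simp [hS]

open Matrix in
theorem levi_mem {ι : Type*} [Fintype ι] [DecidableEq ι] {F : Type*} [Field F] (M : GL ι F) :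
    Matrix.fromBlocks (M : Matrix ι ι F) 0 0 ((M⁻¹ : GL ι F) : Matrix ι ι F).transpose ∈ Matrix.symplecticGroup ι F := by
  rw [SymplecticGroup.mem_iff, Matrix.J, fromBlocks_transpose, fromBlocks_multiply, fromBlocks_multiply]
  simp only [Matrix.transpose_transpose, Matrix.transpose_zero, mul_zero, zero_mul, mul_one, one_mul, add_zero, zero_add,
    mul_neg, neg_mul, neg_zero, ← Matrix.transpose_mul, ← Units.val_mul, mul_inv_cancel, inv_mul_cancel, Units.val_one,
    Matrix.transpose_one]

/-- a symmetric matrix supported on the first row and column -/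
def hook {F : Type*} [Field F] {k : ℕ} (a : Fin (k + 1) → F) : Matrix (Fin (k + 1)) (Fin (k + 1)) F :=
  Matrix.of fun i j => if i = 0 then a j else if j = 0 then a i else 0

theorem hook_transpose {F : Type*} [Field F] {k : ℕ} (a : Fin (k + 1) → F) : (hook a).transpose = hook a := by
  ext i j
  simp only [hook, Matrix.transpose_apply, Matrix.of_apply]
  split_ifs <;> simp_all

theorem hook_add {F : Type*} [Field F] {k : ℕ} (a b : Fin (k + 1) → F) : hook (a + b) = hook a + hook b := by
  ext i j
  simp only [hook, Matrix.add_apply, Matrix.of_apply, Pi.add_apply]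
  split_ifs <;> simp

/-- the first elementary row operation -/
def rowMat {F : Type*} [Field F] {k : ℕ} (s : F) (b : Fin k → F) : Matrix (Fin (k + 1)) (Fin (k + 1)) F :=
  Matrix.of fun i j => if i = 0 then (Fin.cons s b : Fin (k + 1) → F) j else if i = j then 1 else 0

theorem rowMat_det {F : Type*} [Field F] {k : ℕ} (s : F) (b : Fin k → F) : (rowMat s b).det = s := by
  rw [Matrix.det_of_upperTriangular]
  · rw [Fin.prod_univ_succ]
    simp [rowMat, Fin.succ_ne_zero]
  · intro i j hij
    have hi : i ≠ 0 := fun h => by subst h; exact absurd hij (Fin.not_lt_zero j)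
    have hne : i ≠ j := fun h => by subst h; exact lt_irrefl _ hij
    simp [rowMat, hi, hne]

/-- the map on hooks induced by congruence -/
def hookMap {F : Type*} [Field F] {k : ℕ} (s : F) (b : Fin k → F) (a : Fin (k + 1) → F) : Fin (k + 1) → F :=
  Fin.cons (s * s * a 0 + 2 * s * ∑ i, b i * a i.succ) fun i => s * a i.succ

theorem hook_congr {F : Type*} [Field F] {k : ℕ} (s : F) (b : Fin k → F) (a : Fin (k + 1) → F) :
    rowMat s b * hook a * (rowMat s b).transpose = hook (hookMap s b a) := by
  ext i j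
  refine Fin.cases ?_ ?_ i <;> [skip; intro i] <;> refine Fin.cases ?_ ?_ j <;> [skip; intro j; skip; intro j] <;>
    simp [Matrix.mul_apply, Fin.sum_univ_succ, rowMat, hook, hookMap, Fin.succ_ne_zero, Finset.sum_mul, Finset.mul_sum,
      add_mul, mul_add, Fin.succ_inj] <;>
    ring_nf <;> simp only [add_assoc, ← Finset.sum_add_distrib, Finset.mul_sum, Finset.sum_mul] <;>
    congr 1 <;> exact Finset.sum_congr rfl fun x _ => by ring

theorem card_orbit {F : Type*} [Field F] [Fintype F] [DecidableEq F] (hodd : Odd (Fintype.card F)) (k : ℕ) (c : F) (hc : c ≠ 0) :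
    (Fintype.card F - 1) / 2 * Fintype.card F ^ k ≤
      (Finset.univ.filter fun w : Fin (k + 1) → F => ∃ s : F, s ≠ 0 ∧ w 0 = s * s * c).card := by
  classical
  let f : Fˣ →* Fˣ := powMonoidHom 2
  have hker : Nat.card f.ker ≤ 2 := by
    have h : (f.ker : Set Fˣ) ⊆ ({1, -1} : Finset Fˣ) := by
      intro x hx
      have h1 : x * x = 1 := by simpa [f, sq] using hx
      have h2 : (x : F) * x = 1 := by rw [← Units.val_mul, h1, Units.val_one]
      rcases mul_self_eq_one_iff.1 h2 with e | e
      · simp [Units.val_eq_one.1 e]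
      · simp [show x = -1 from Units.ext (by simp [e])]
    have := Nat.card_mono (Finset.finite_toSet _) h
    refine this.trans ?_
    rw [Nat.card_coe_set_eq, Set.ncard_coe_finset]
    exact Finset.card_le_two
  have hmul : Nat.card f.ker * Nat.card f.range = Fintype.card F - 1 := by
    rw [← Subgroup.index_ker, Subgroup.card_mul_index, Nat.card_eq_fintype_card, Fintype.card_units]
  have hr : (Fintype.card F - 1) / 2 ≤ Nat.card f.range := by
    rw [← hmul]
    exact Nat.div_le_of_le_mul (Nat.mul_le_mul_right _ hker)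
  refine (Nat.mul_le_mul_right _ hr).trans ?_
  have e : Nat.card f.range * Fintype.card F ^ k = Nat.card (f.range × (Fin k → F)) := by
    rw [Nat.card_prod]; simp
  rw [e, ← Fintype.card_coe, ← Nat.card_eq_fintype_card]
  refine Nat.card_le_card_of_injective (fun p => ⟨Fin.cons ((p.1 : Fˣ) * c) p.2, Finset.mem_filter.2 ⟨Finset.mem_univ _, ?_⟩⟩) ?_
  · obtain ⟨u, hu⟩ := p.1.2
    exact ⟨(u : F), u.ne_zero, by rw [Fin.cons_zero, ← hu]; simp [f, sq]⟩
  · intro p p' h
    have h1 := Fin.cons_injective2 (α := fun _ : Fin (k + 1) => F) (congrArg Subtype.val h)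
    refine Prod.ext (Subtype.ext (Units.ext (mul_right_cancel₀ hc h1.1))) h1.2

/-- A lower bound for representations in cross characteristic: for `n ≥ 2` and a field `F` with `q` elements, `q` odd, every homomorphism from the symplectic group `Sp_{2n}(F)` to `GL_d(K)`, `K` a field of characteristic different from that of `F`, whose kernel is central has `d ≥ q^(n-1)(q-1)/2`. -/
theorem result {F : Type*} [Field F] [Fintype F] {q : ℕ} (hq : Fintype.card F = q) (hodd : Odd q) (n : ℕ) (hn : 2 ≤ n)
    {K : Type*} [Field K] (hK : ringChar K ≠ ringChar F) {d : ℕ}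
    (ρ : ↥(Matrix.symplecticGroup (Fin n) F) →* GL (Fin d) K) (hker : ρ.ker ≤ Subgroup.center ↥(Matrix.symplecticGroup (Fin n) F)) :
    q ^ (n - 1) * (q - 1) / 2 ≤ d := by
  classical
  obtain ⟨k, rfl⟩ : ∃ k, n = k + 1 := ⟨n - 1, by omega⟩
  subst hq
  let A := AlgebraicClosure K
  let i : K →+* A := algebraMap K A
  have hA : ringChar A ≠ ringChar F := by
    haveI : CharP A (ringChar K) := charP_of_injective_ringHom i.injective (ringChar K)
    rw [ringChar.eq A (ringChar K)]
    exact hK
  obtain ⟨ψ, hψ⟩ := CfsgLib.LinDeg.exists_primitiveChar F A hA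
  have hne0 := CfsgLib.LinDeg.card_ne_zero F A hA
  let π : ↥(Matrix.symplecticGroup (Fin (k + 1)) F) →* Module.End A (Fin d → A) :=
    ((Matrix.toLinAlgEquiv' : Matrix (Fin d) (Fin d) A ≃ₐ[A] Module.End A (Fin d → A)).toMonoidHom).comp
      ((i.mapMatrix.toMonoidHom).comp ((Units.coeHom _).comp ρ))
  have hπ : ∀ g, π g = 1 → g ∈ Subgroup.center ↥(Matrix.symplecticGroup (Fin (k + 1)) F) := fun g h => by
    refine hker (MonoidHom.mem_ker.2 (Units.ext ?_))
    have h3 : i.mapMatrix ((ρ g).1) = 1 :=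
      (Matrix.toLinAlgEquiv' : Matrix (Fin d) (Fin d) A ≃ₐ[A] Module.End A (Fin d → A)).injective
        (h.trans (map_one _).symm)
    exact Matrix.map_injective i.injective (h3.trans (map_one i.mapMatrix).symm)
  let up : (Fin (k + 1) → F) → ↥(Matrix.symplecticGroup (Fin (k + 1)) F) := fun a =>
    ⟨Matrix.fromBlocks 1 (hook a) 0 1, upper_mem _ (hook_transpose a)⟩
  let τ : (Fin (k + 1) → F) → Module.End A (Fin d → A) := fun a => π (up a)
  have hup : ∀ a b, up (a + b) = up a * up b := fun a b => Subtype.ext (by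
    show Matrix.fromBlocks 1 (hook (a + b)) 0 1 = Matrix.fromBlocks 1 (hook a) 0 1 * Matrix.fromBlocks 1 (hook b) 0 1
    rw [Matrix.fromBlocks_multiply, hook_add]
    simp [add_comm])
  have h0 : τ 0 = 1 := by
    show π (up 0) = 1
    rw [show up 0 = 1 from Subtype.ext (by
      show Matrix.fromBlocks 1 (hook 0) 0 1 = 1
      rw [show hook (0 : Fin (k + 1) → F) = 0 by ext i j; simp [hook], Matrix.fromBlocks_one]), map_one]
  have hadd : ∀ a b, τ (a + b) = τ a * τ b := fun a b => by
    show π (up (a + b)) = π (up a) * π (up b)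
    rw [hup, map_mul]
  set P := CfsgLib.LinDeg.eigProj ψ τ with hP
  have hsum := CfsgLib.LinDeg.sum_eigProj ψ hψ τ h0 hne0
  obtain ⟨w, hw0, hw⟩ : ∃ w : Fin (k + 1) → F, w 0 ≠ 0 ∧ P w ≠ 0 := by
    by_contra h
    simp only [not_exists, not_and, not_not] at h
    have h1 : τ (Pi.single 0 1) = 1 := by
      rw [CfsgLib.LinDeg.eq_sum_eigProj ψ hψ τ h0 hadd hne0, ← hsum]
      refine Finset.sum_congr rfl fun w _ => ?_
      by_cases hw : w 0 = 0
      · rw [single_dotProduct, one_mul, hw, AddChar.map_zero_eq_one, one_smul]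
      · rw [show CfsgLib.LinDeg.eigProj ψ τ w = 0 from h w hw, smul_zero]
    have h2 := Subgroup.mem_center_iff.1 (hπ _ h1)
      ⟨Matrix.J (Fin (k + 1)) F, SymplecticGroup.J_mem _ _⟩
    have h3 := congrFun (congrFun (congrArg Matrix.toBlocks₁₁ (congrArg Subtype.val h2)) 0) 0
    simp [up, Matrix.J, Matrix.fromBlocks_multiply, hook] at h3
  have htrans : ∀ w' : Fin (k + 1) → F, (∃ s : F, s ≠ 0 ∧ w' 0 = s * s * w 0) → P w' ≠ 0 := by
    rintro w' ⟨s, hs, hw'⟩ hz
    have h2 : (2 : F) ≠ 0 := fun h => by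
      haveI := ringChar.charP F
      have h3 := FiniteField.even_card_iff_char_two (F := F)
      haveI : Fact (Nat.Prime 2) := ⟨Nat.prime_two⟩
      have h4 : ringChar F = 2 := CharP.ringChar_of_prime_eq_zero Nat.prime_two (by exact_mod_cast h)
      have h5 := h3.1 h4
      rw [Nat.odd_iff] at hodd
      omega
    obtain ⟨t, ht⟩ : ∃ t : F, t = s⁻¹ := ⟨_, rfl⟩
    obtain ⟨b, hb⟩ : ∃ b : Fin k → F, b = fun i => (w i.succ - t * w' i.succ) / (2 * t * w' 0) := ⟨_, rfl⟩
    have ht0 : t ≠ 0 := by rw [ht]; exact inv_ne_zero hs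
    have hw'0 : w' 0 ≠ 0 := by rw [hw']; simp [hs, hw0]
    obtain ⟨M, hM⟩ : ∃ M : GL (Fin (k + 1)) F, (M : Matrix (Fin (k + 1)) (Fin (k + 1)) F) = rowMat t b :=
      ⟨Matrix.GeneralLinearGroup.mkOfDetNeZero (rowMat t b) ((rowMat_det t b).trans_ne ht0), rfl⟩
    let g : ↥(Matrix.symplecticGroup (Fin (k + 1)) F) := ⟨_, levi_mem M⟩
    have hf : Function.Bijective (hookMap t b) := by
      refine Finite.injective_iff_bijective.1 fun a a' h => ?_
      have h1 := Fin.cons_injective2 h
      have h4 : ∀ i : Fin k, a i.succ = a' i.succ := fun i => mul_left_cancel₀ ht0 (congrFun h1.2 i)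
      refine funext fun i => Fin.cases ?_ h4 i
      have h5 := h1.1
      simp only [h4, add_left_inj] at h5
      exact mul_left_cancel₀ (mul_ne_zero ht0 ht0) h5
    have key := CfsgLib.LinDeg.mul_eigProj_of_conj ψ τ (g := π g) hf (fun v => ?_) (w := w) (w' := w') (fun v => ?_)
    · rw [← hP, hz, zero_mul] at key
      refine hw ?_
      have h1 : π g⁻¹ * π g = 1 := by rw [← map_mul, inv_mul_cancel, map_one]
      rw [← one_mul (P w), ← h1, mul_assoc, key, mul_zero]
    · show π g * π (up v) = π (up (hookMap t b v)) * π g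
      rw [← map_mul, ← map_mul]
      refine congrArg π (Subtype.ext ?_)
      show Matrix.fromBlocks _ _ _ _ * Matrix.fromBlocks _ _ _ _ = Matrix.fromBlocks _ _ _ _ * Matrix.fromBlocks _ _ _ _
      rw [Matrix.fromBlocks_multiply, Matrix.fromBlocks_multiply, ← hook_congr, ← hM]
      simp [mul_assoc, ← Matrix.transpose_mul, ← Units.val_mul]
    · simp only [dotProduct, Fin.sum_univ_succ, hookMap, Fin.cons_zero, Fin.cons_succ, add_mul, Finset.mul_sum,
        Finset.sum_mul, add_assoc, ← Finset.sum_add_distrib, hb]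
      congr 1
      · rw [hw', ht]; field_simp
      · refine Finset.sum_congr rfl fun i _ => ?_
        field_simp
        ring
  have hdim := CfsgLib.LinDeg.finrank_eq_sum_range P (CfsgLib.LinDeg.eigProj_mul ψ hψ τ hadd hne0) hsum
  rw [Module.finrank_fin_fun] at hdim
  rw [hdim, Nat.add_sub_cancel]
  calc Fintype.card F ^ k * (Fintype.card F - 1) / 2 = (Fintype.card F - 1) / 2 * Fintype.card F ^ k := by
        obtain ⟨j, hj⟩ : 2 ∣ Fintype.card F - 1 := by rw [Nat.odd_iff] at hodd; omega
        rw [hj, Nat.mul_div_cancel_left _ two_pos, mul_left_comm, Nat.mul_div_cancel_left _ two_pos, mul_comm]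
    _ ≤ (Finset.univ.filter fun v : Fin (k + 1) → F => ∃ s : F, s ≠ 0 ∧ v 0 = s * s * w 0).card := card_orbit hodd k _ hw0
    _ ≤ _ := by
        rw [Finset.card_eq_sum_ones]
        refine (Finset.sum_le_sum fun v hv => ?_).trans (Finset.sum_le_sum_of_subset (Finset.subset_univ _))
        rw [Nat.one_le_iff_ne_zero, ne_eq, Submodule.finrank_eq_zero, LinearMap.range_eq_bot]
        exact htrans v (Finset.mem_filter.1 hv).2

end Cfsg.Agent.S2393
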