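import Cfsg.Statements.S2399
import Cfsg.Agent.Lib.Lie.Chev.Univ.Main
import Cfsg.Agent.Lib.Lie.Chev.Univ.Universal
import Cfsg.Agent.Lib.Lie.Chev.Univ.Prime
-- import your own Cfsg.Agent.* helpers here

set_option autoImplicit false
open scoped MatrixGroups
open Cfsg

namespace Cfsg.Agent.S2399

/-- Projective representations in the natural characteristic lift: for each of the types G₂, B₂, D₄, F₄, E₆, E₇, E₈ over any field `K` (for types B₂ and G₂ the field must have more than two elements — the cases where the Chevalley group is not simple are set aside), every homomorphism from the Chevalley group to `PGL_n(L) = GL_n(L)/Z`, `L` a field of the same characteristic as `K`, lifts uniquely to a homomorphism from the group Δ presented by (R1), (R2) to `GL_n(L)`, compatibly with the projection Δ → Chevalley group sending x̄_r(t) to x_r(t). -/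
theorem result {K : Type*} [Field K] (D : Cfsg.Lie.ChevalleyDatum) (hD : D ∈ [Cfsg.Lie.chevG2, Cfsg.Lie.chevB2, Cfsg.Lie.chevD4, Cfsg.Lie.chevF4, Cfsg.Lie.chevE6, Cfsg.Lie.chevE7, Cfsg.Lie.chevE8]) (hK : D ∈ [Cfsg.Lie.chevB2, Cfsg.Lie.chevG2] → ∃ x : K, x ≠ 0 ∧ x ≠ 1)
    (θ : D.SteinbergCover K →* ↥(D.group K))
    (hθ : ∀ (r : ℕ) (t : K), r < D.nroots → ((θ (D.scGen K r t) : GL D.Idx K) : Matrix D.Idx D.Idx K) = D.x K r t)
    {L : Type*} [Field L] (hL : ringChar L = ringChar K) {n : ℕ}
    (φ : ↥(D.group K) →* GL (Fin n) L ⧸ Subgroup.center (GL (Fin n) L)) :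
    ∃! ψ : D.SteinbergCover K →* GL (Fin n) L, (QuotientGroup.mk' (Subgroup.center (GL (Fin n) L))).comp ψ = φ.comp θ := by
  classical
  let C : CfsgLib.Lie.Chev.Full D := CfsgLib.Lie.Chev.fullOf hD
  have hP := CfsgLib.Lie.Chev.hasPair_tab hD C
  have hperf : commutator (D.SteinbergCover K) = ⊤ :=
    CfsgLib.Lie.Chev.CoverPerfect.cover_perfect D hD hK
  have hπ := QuotientGroup.mk'_surjective (Subgroup.center (GL (Fin n) L))
  have hc : (QuotientGroup.mk' (Subgroup.center (GL (Fin n) L))).ker ≤ Subgroup.center (GL (Fin n) L) :=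
    (QuotientGroup.ker_mk' _).le
  by_cases h5 : ∃ s : Finset K, 4 < s.card
  · exact CfsgLib.Lie.Chev.Univ.universal C hP hperf hπ hc (φ.comp θ)
      (CfsgLib.Lie.Chev.Univ.exists_lift_five hD C h5 _)
  · haveI : Finite K := by
      by_contra hinf
      rw [not_finite_iff_infinite] at hinf
      obtain ⟨s, hs⟩ := Infinite.exists_subset_card_eq K 5
      exact h5 ⟨s, by omega⟩
    haveI := Fintype.ofFinite K
    have hθ' : ∀ x, ((θ x : GL D.Idx K)) = C.theta x := by
      have e : (D.group K).subtype.comp θ = C.theta := PresentedGroup.ext fun x => by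
        have h1 := C.G.xc_eq_of x.1 x.2
        have e1 : C.theta (PresentedGroup.of x : D.SteinbergCover K) = C.G.xu x.1 x.2 :=
          (congrArg C.theta h1.symm).trans (C.theta_xc x.1 x.2)
        rw [e1]
        refine Units.ext ?_
        show ((θ (PresentedGroup.of x) : GL D.Idx K) : Matrix D.Idx D.Idx K) = _
        rw [show (PresentedGroup.of x : D.SteinbergCover K) = D.scGen K x.1 x.2 from h1.symm,
          hθ x.1.val x.2 x.1.isLt, C.G.coe_xu, C.G.x_eq_xu, C.G.coe_xu]
      exact fun x => DFunLike.congr_fun e x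
    obtain ⟨ψ, hψ⟩ := CfsgLib.Lie.Chev.Univ.projective_lift C hperf θ hθ' hL φ
    exact ⟨ψ, hψ, fun ψ' h' => CfsgLib.Lie.Chev.Univ.hom_unique hperf hc (h'.trans hψ.symm)⟩

end Cfsg.Agent.S2399
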