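import Cfsg.Statements.S2400
import Cfsg.Agent.Lib.Lie.Chev.Univ.ThreeB2
import Cfsg.Agent.Lib.Lie.Chev.Univ.AllE
import Cfsg.Agent.Lib.Lie.Chev.Univ.StMult
import Cfsg.Agent.Lib.Lie.Chev.TorData
-- import your own Cfsg.Agent.* helpers here

set_option autoImplicit false
open Cfsg

namespace Cfsg.Agent.S2400

/-- Over a finite field `K`, the group presented by Steinberg's relators (R1)–(R3) (the universal Chevalley group) of type E₆ or E₇, or of type B₂ or D₄ with `K` of more than two elements, has trivial Schur multiplier: every finite stem extension of it is an isomorphism (Schur multiplier described through stem extensions as in the definitions). Types G₂, F₄ and E₈ are not covered here. -/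
theorem result {K : Type*} [Field K] [Fintype K] (e : Cfsg.Lie.ChevalleyDatum × ℕ)
    (he : e ∈ [(Cfsg.Lie.chevE6, 0), (Cfsg.Lie.chevE7, 0), (Cfsg.Lie.chevB2, 2), (Cfsg.Lie.chevD4, 2)]) (hK : Fintype.card K ≠ e.2) :
    Cfsg.HasCyclicSchurMultiplier (e.1.SteinbergGroup K) 1 := by
  open CfsgLib.Lie in
  have key : ∀ {D : Cfsg.Lie.ChevalleyDatum}, D ∈ [Cfsg.Lie.chevE6, Cfsg.Lie.chevE7, Cfsg.Lie.chevB2, Cfsg.Lie.chevD4] →
      (D ∈ [Cfsg.Lie.chevB2, Cfsg.Lie.chevD4] → 3 ≤ Fintype.card K) →
      Cfsg.HasCyclicSchurMultiplier (D.SteinbergGroup K) 1 := by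
    intro D hD h3
    have hD' : D ∈ [Cfsg.Lie.chevG2, Cfsg.Lie.chevB2, Cfsg.Lie.chevD4, Cfsg.Lie.chevF4, Cfsg.Lie.chevE6,
        Cfsg.Lie.chevE7, Cfsg.Lie.chevE8] := by
      simp only [List.mem_cons, List.not_mem_nil, or_false] at hD ⊢
      tauto
    let C : Chev.Full D := Chev.fullOf hD'
    have hperf : commutator (D.SteinbergCover K) = ⊤ := by
      refine Chev.CoverPerfect.cover_perfect D hD' fun h => ?_
      have hB : D ∈ [Cfsg.Lie.chevB2, Cfsg.Lie.chevD4] := by
        simp only [List.mem_cons, List.not_mem_nil, or_false] at hD h ⊢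
        rcases h with h | h
        · exact Or.inl h
        · subst h
          rcases hD with e | e | e | e <;>
            exact absurd (congrArg Cfsg.Lie.ChevalleyDatum.nroots e) (by decide +kernel)
      obtain ⟨c, hc⟩ := Chev.Univ.exists_pow_ne (K := K) (n := 1) one_pos
        ⟨Finset.univ, by rw [Finset.card_univ]; have := h3 hB; omega⟩
      exact ⟨c, c.ne_zero, fun e => hc (by rw [Nat.cast_one, zpow_one]; exact Units.ext e)⟩
    refine Chev.Univ.steinbergGroup_multiplier_one C (Chev.hasPair_tab hD' C) hperf fun P _ X => ?_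
    have hfour : D ∈ [Cfsg.Lie.chevB2, Cfsg.Lie.chevD4] → 3 < Fintype.card K →
        ∃ ψ : D.SteinbergCover K →* P, X.p.comp ψ = C.theta := fun h h4 =>
      (Chev.Univ.torusData_four (by simp only [List.mem_cons, List.not_mem_nil, or_false] at h ⊢; tauto) C
        ⟨Finset.univ, by rw [Finset.card_univ]; omega⟩ X).exists_hom
    simp only [List.mem_cons, List.not_mem_nil, or_false] at hD
    rcases hD with rfl | rfl | rfl | rfl
    · exact Chev.Univ.exists_lift_E (by simp) C X
    · exact Chev.Univ.exists_lift_E (by simp) C X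
    · rcases eq_or_lt_of_le (h3 (by simp)) with h | h
      · exact Chev.Univ.B2Three.exists_hom h.symm C X
      · exact hfour (by simp) h
    · rcases eq_or_lt_of_le (h3 (by simp)) with h | h
      · exact (Chev.Univ.torusData_D4_three C h.symm X).exists_hom
      · exact hfour (by simp) h
  have h1 : 1 < Fintype.card K := Fintype.one_lt_card
  simp only [List.mem_cons, List.not_mem_nil, or_false] at he
  rcases he with rfl | rfl | rfl | rfl
  · refine key (by simp) fun h => ?_
    simp only [List.mem_cons, List.not_mem_nil, or_false] at h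
    rcases h with h | h <;> exact absurd (congrArg Cfsg.Lie.ChevalleyDatum.nroots h) (by decide +kernel)
  · refine key (by simp) fun h => ?_
    simp only [List.mem_cons, List.not_mem_nil, or_false] at h
    rcases h with h | h <;> exact absurd (congrArg Cfsg.Lie.ChevalleyDatum.nroots h) (by decide +kernel)
  · exact key (by simp) fun _ => by simp only at hK; omega
  · exact key (by simp) fun _ => by simp only at hK; omega

end Cfsg.Agent.S2400
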