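import Cfsg.Statements.S2401
import Cfsg.Agent.Lib.Char.SingleBond.SteinbergHom

set_option autoImplicit false
open Cfsg

namespace Cfsg.Agent.S2401

/-- The Steinberg presentation of `SL_n` over a finite field for `n ≥ 3`: the group generated by symbols `x_ij(t)` (`i ≠ j`, `t` in the field) subject to `x_ij(t) x_ij(u) = x_ij(t + u)` and, for `i ≠ l`, `x_ij(t) x_kl(u) x_ij(t)⁻¹ x_kl(u)⁻¹ = x_il(tu)` if `j = k` and `= 1` if `j ≠ k`, is isomorphic to `SL_n` by an isomorphism sending `x_ij(t)` to the elementary matrix `1 + t E_ij`. -/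
theorem result {K : Type*} [Field K] [Finite K] (n : ℕ) (hn : 3 ≤ n) :
    ∃ e : PresentedGroup
        ({g : FreeGroup ({ij : Fin n × Fin n // ij.1 ≠ ij.2} × K) | ∃ (a : {ij : Fin n × Fin n // ij.1 ≠ ij.2}) (t u : K),
            g = FreeGroup.of (a, t) * FreeGroup.of (a, u) * (FreeGroup.of (a, t + u))⁻¹} ∪
          {g | ∃ (a b : {ij : Fin n × Fin n // ij.1 ≠ ij.2}) (t u : K), a.1.1 ≠ b.1.2 ∧ a.1.2 ≠ b.1.1 ∧
            g = FreeGroup.of (a, t) * FreeGroup.of (b, u) * (FreeGroup.of (a, t))⁻¹ * (FreeGroup.of (b, u))⁻¹} ∪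
          {g | ∃ (a b : {ij : Fin n × Fin n // ij.1 ≠ ij.2}) (h : a.1.1 ≠ b.1.2) (t u : K), a.1.2 = b.1.1 ∧
            g = FreeGroup.of (a, t) * FreeGroup.of (b, u) * (FreeGroup.of (a, t))⁻¹ * (FreeGroup.of (b, u))⁻¹ *
              (FreeGroup.of (⟨(a.1.1, b.1.2), h⟩, t * u))⁻¹}) ≃* Matrix.SpecialLinearGroup (Fin n) K,
      ∀ (a : {ij : Fin n × Fin n // ij.1 ≠ ij.2}) (t : K), ((e (PresentedGroup.of (a, t)) : Matrix (Fin n) (Fin n) K)) = Matrix.transvection a.1.1 a.1.2 t := by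
  classical
  generalize hS : ({g : FreeGroup ({ij : Fin n × Fin n // ij.1 ≠ ij.2} × K) | ∃ (a : {ij : Fin n × Fin n // ij.1 ≠ ij.2}) (t u : K),
        g = FreeGroup.of (a, t) * FreeGroup.of (a, u) * (FreeGroup.of (a, t + u))⁻¹} ∪
      {g | ∃ (a b : {ij : Fin n × Fin n // ij.1 ≠ ij.2}) (t u : K), a.1.1 ≠ b.1.2 ∧ a.1.2 ≠ b.1.1 ∧
        g = FreeGroup.of (a, t) * FreeGroup.of (b, u) * (FreeGroup.of (a, t))⁻¹ * (FreeGroup.of (b, u))⁻¹} ∪
      {g | ∃ (a b : {ij : Fin n × Fin n // ij.1 ≠ ij.2}) (h : a.1.1 ≠ b.1.2) (t u : K), a.1.2 = b.1.1 ∧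
        g = FreeGroup.of (a, t) * FreeGroup.of (b, u) * (FreeGroup.of (a, t))⁻¹ * (FreeGroup.of (b, u))⁻¹ *
          (FreeGroup.of (⟨(a.1.1, b.1.2), h⟩, t * u))⁻¹}) = S
  let X : Fin n → Fin n → K → PresentedGroup S := fun i j t =>
    if h : i ≠ j then PresentedGroup.of (⟨(i, j), h⟩, t) else 1
  have hX : ∀ {i j} (h : i ≠ j) (t : K), X i j t = PresentedGroup.of (⟨(i, j), h⟩, t) := fun h t => dif_pos h
  have hrel : ∀ w ∈ S, PresentedGroup.mk S w = 1 := fun w hw => PresentedGroup.one_of_mem hw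
  have R : CfsgLib.Char.SingleBond.StRel X := by
    constructor
    · intro i j h t u
      have e := hrel (FreeGroup.of (⟨(i, j), h⟩, t) * FreeGroup.of (⟨(i, j), h⟩, u) *
        (FreeGroup.of (⟨(i, j), h⟩, t + u))⁻¹) (by rw [← hS]; exact Or.inl (Or.inl ⟨_, t, u, rfl⟩))
      simp only [map_mul, map_inv, mul_inv_eq_one] at e
      rw [hX h, hX h, hX h]
      exact e.symm
    · intro i j k l hij hkl hil hjk t u
      have e := hrel (FreeGroup.of (⟨(i, j), hij⟩, t) * FreeGroup.of (⟨(k, l), hkl⟩, u) *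
        (FreeGroup.of (⟨(i, j), hij⟩, t))⁻¹ * (FreeGroup.of (⟨(k, l), hkl⟩, u))⁻¹)
        (by rw [← hS]; exact Or.inl (Or.inr ⟨_, _, t, u, hil, hjk, rfl⟩))
      simp only [map_mul, map_inv, mul_inv_eq_one, mul_inv_eq_iff_eq_mul] at e
      rw [hX hij, hX hkl]
      exact e
    · intro i j k hij hjk hik t u
      have e := hrel (FreeGroup.of (⟨(i, j), hij⟩, t) * FreeGroup.of (⟨(j, k), hjk⟩, u) *
        (FreeGroup.of (⟨(i, j), hij⟩, t))⁻¹ * (FreeGroup.of (⟨(j, k), hjk⟩, u))⁻¹ *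
        (FreeGroup.of (⟨(i, k), hik⟩, t * u))⁻¹)
        (by rw [← hS]; exact Or.inr ⟨⟨(i, j), hij⟩, ⟨(j, k), hjk⟩, hik, t, u, rfl, rfl⟩)
      simp only [map_mul, map_inv, mul_inv_eq_one] at e
      rw [hX hij, hX hjk, hX hik]
      exact e
  obtain ⟨f, hf⟩ := R.exists_hom hn
  have hback : ∀ w ∈ S, FreeGroup.lift (fun p : {ij : Fin n × Fin n // ij.1 ≠ ij.2} × K =>
      Matrix.SpecialLinearGroup.transvection p.1.2 p.2) w = 1 := by
    intro w hw
    subst hS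
    have T := CfsgLib.Char.SingleBond.stRel_slX (F := K) (n := n)
    have hT : ∀ {i j : Fin n} (h : i ≠ j) (t : K),
        Matrix.SpecialLinearGroup.transvection h t = CfsgLib.Char.SingleBond.slX i j t :=
      fun h t => (CfsgLib.Char.SingleBond.slX_eq h t).symm
    rcases hw with (⟨⟨⟨i, j⟩, h⟩, t, u, rfl⟩ | ⟨⟨⟨i, j⟩, h⟩, ⟨⟨k, l⟩, h'⟩, t, u, h1, h2, rfl⟩) |
      ⟨⟨⟨i, j⟩, h⟩, ⟨⟨k, l⟩, h'⟩, h1, t, u, h2, rfl⟩
    · simp only [map_mul, map_inv, FreeGroup.lift_apply_of, hT, T.add h, mul_inv_cancel]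
    · simp only [map_mul, map_inv, FreeGroup.lift_apply_of, hT, T.comm h h' h1 h2, mul_inv_cancel_right,
        mul_inv_cancel]
    · obtain rfl : j = k := h2
      simp only [map_mul, map_inv, FreeGroup.lift_apply_of, hT, T.prod h h' h1, mul_inv_cancel]
  have h1 : f.comp (PresentedGroup.toGroup hback) = MonoidHom.id _ := PresentedGroup.ext fun p => by
    rw [MonoidHom.comp_apply, PresentedGroup.toGroup.of, hf _ _ p.1.2, hX p.1.2]
    rfl
  have h2 : (PresentedGroup.toGroup hback).comp f = MonoidHom.id _ :=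
    CfsgLib.Char.SingleBond.sl_hom_ext fun i j h t => by
      rw [MonoidHom.comp_apply, hf i j h, hX h, PresentedGroup.toGroup.of]
      rfl
  refine ⟨MonoidHom.toMulEquiv _ f h1 h2, fun a t => ?_⟩
  show ((PresentedGroup.toGroup hback) (PresentedGroup.of (a, t))).1 = _
  rw [PresentedGroup.toGroup.of]
  rfl

end Cfsg.Agent.S2401
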