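import Cfsg.Statements.S2404
import Cfsg.Agent.Lib.Lie.Chev.SimpleMod.Realize
import Cfsg.Agent.Lib.Lie.Chev.Homocyclic.Cases
import Cfsg.Agent.Lib.Lie.Chev.TorData
-- import your own Cfsg.Agent.* helpers here

set_option autoImplicit false
set_option maxRecDepth 100000
open Cfsg
open CfsgLib.Lie.Chev CfsgLib.Lie.CoxTorus CfsgLib.Lie.Homocyclic

namespace Cfsg.Agent.S2404

/-- Steinberg's count of semisimple classes for type E₆ when the finite simply connected group has trivial centre: over a field with `q` elements of characteristic `p` with `q ≢ 1 (mod 3)`, the simply connected group E₆(q) coincides with the Chevalley group, and the conjugacy classes of elements of order prime to `p` in the Chevalley group of type E₆ number exactly `q^6`. -/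
theorem result {F : Type*} [Field F] [Fintype F] {q : ℕ} (hq : Fintype.card F = q) (hq3 : q % 3 ≠ 1) (p : ℕ) [Fact p.Prime] [CharP F p] :
    Nat.card {c : ConjClasses ↥(Cfsg.Lie.chevE6.group F) // ∃ g : ↥(Cfsg.Lie.chevE6.group F), ConjClasses.mk g = c ∧ (orderOf g).Coprime p} = q ^ 6 := by
  classical
  have hgcd : Nat.gcd 3 (Fintype.card F - 1) = 1 := by
    refine (Nat.Prime.coprime_iff_not_dvd Nat.prime_three).2 fun h => ?_
    have hpos : 0 < Fintype.card F := Fintype.card_pos
    omega
  rw [← hq, show (6 : ℕ) = Cfsg.Lie.chevE6.rank from by decide +kernel]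
  exact SimpleMod.card_semisimple_classes cE6 p (k := AlgebraicClosure (ZMod p))
      (cE6.G.torθ_injective kerE6 kerE6_ok (by simp [kerE6, hgcd]))

end Cfsg.Agent.S2404
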