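import Cfsg.Statements.S2416
import Cfsg.Agent.Lib.Lie.Chev.ShortGen
-- import your own Cfsg.Agent.* helpers here

set_option autoImplicit false
open scoped MatrixGroups
open Cfsg
open CfsgLib.Lie.Chev

namespace Cfsg.Agent.S2416

/-- A Chevalley group of type G₂, B₂, D₄, F₄, E₆, E₇ or E₈ over a finite field lies in (indeed equals) the subgroup generated by its monomial subgroup `N` and a single fundamental root subgroup `X_p`, where `p` is a short fundamental root if there are two root lengths (any fundamental root otherwise), provided the characteristic is not 2 for types B₂, F₄ and not 3 for type G₂ (and the field has more than two elements for B₂, G₂). -/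
theorem result {K : Type*} [Field K] [Finite K] (D : Cfsg.Lie.ChevalleyDatum) (hD : D ∈ [Cfsg.Lie.chevG2, Cfsg.Lie.chevB2, Cfsg.Lie.chevD4, Cfsg.Lie.chevF4, Cfsg.Lie.chevE6, Cfsg.Lie.chevE7, Cfsg.Lie.chevE8])
    (hK : D ∈ [Cfsg.Lie.chevB2, Cfsg.Lie.chevG2] → ∃ x : K, x ≠ 0 ∧ x ≠ 1)
    (h2 : D ∈ [Cfsg.Lie.chevB2, Cfsg.Lie.chevF4] → ringChar K ≠ 2) (h3 : D = Cfsg.Lie.chevG2 → ringChar K ≠ 3)
    (i : ℕ) (hi : i < D.rank) (hshort : D.isLong (D.simple i) = false) :
    D.group K ≤ D.monomialSubgroup K ⊔ D.rootSubgroup K (D.simple i) := by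
  have C := fullOf hD
  have hchk : chkShort D = true ∧ (D.nroots = 12 → D.rank = 2 ∧ D = Cfsg.Lie.chevG2) ∧
      (D.rank ≠ 2 ∨ D.nroots = 8 → D.nroots ≠ 12 →
        D ∈ [Cfsg.Lie.chevB2, Cfsg.Lie.chevF4] ∨ ∀ i < D.rank, (List.range D.rank).all
          (fun j => (nodeReach D [i]).contains j) = true) := by
    simp only [List.mem_cons, List.not_mem_nil, or_false] at hD
    rcases hD with rfl | rfl | rfl | rfl | rfl | rfl | rfl
    · exact ⟨by decide +kernel, fun _ => ⟨by decide +kernel, rfl⟩, fun _ h => absurd (by decide +kernel) h⟩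
    · exact ⟨by decide +kernel, fun h => absurd h (by decide +kernel), fun _ _ => Or.inl (by simp)⟩
    · exact ⟨by decide +kernel, fun h => absurd h (by decide +kernel), fun _ _ => Or.inr (by decide +kernel)⟩
    · exact ⟨by decide +kernel, fun h => absurd h (by decide +kernel), fun _ _ => Or.inl (by simp)⟩
    all_goals exact ⟨by decide +kernel, fun h => absurd h (by decide +kernel), fun _ _ => Or.inr (by decide +kernel)⟩
  obtain ⟨hshortchk, hG2, hbig⟩ := hchk
  have hN : D.monomialSubgroup K ≤ D.monomialSubgroup K ⊔ D.rootSubgroup K (D.simple i) := le_sup_left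
  have h0 : ∀ x ∈ [i], x < D.rank ∧ C.InM (D.monomialSubgroup K ⊔ D.rootSubgroup K (D.simple i)) (D.simple x) :=
    fun x hx => by rw [List.mem_singleton] at hx; subst hx; exact ⟨hi, C.inM_rootSubgroup hi le_sup_right⟩
  have h1 := C.inM_reach hN h0
  refine C.group_le_of_simples hN fun j hj => ?_
  by_cases hall : ∀ i < D.rank, (List.range D.rank).all (fun j => (nodeReach D [i]).contains j) = true
  · exact (h1 j (List.contains_iff_mem.1 (List.all_eq_true.1 (hall i hi) j (List.mem_range.2 hj)))).2
  · have h2K : D.rank ≠ 2 ∨ D.nroots = 8 → D.nroots ≠ 12 → (2 : K) ≠ 0 := fun a b => by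
      rcases hbig a b with h | h
      · exact Ring.two_ne_zero (h2 h)
      · exact absurd h hall
    have h3K : D.nroots = 12 → (3 : K) ≠ 0 := fun e h0 => by
      have hd := (ringChar.spec K 3).1 (by exact_mod_cast h0)
      rcases (Nat.dvd_prime Nat.prime_three).1 hd with h | h
      · exact CharP.ringChar_ne_one h
      · exact h3 (hG2 e).2 h
    have hall2 := List.all_eq_true.1 hshortchk i (List.mem_range.2 hi)
    rw [hshort, Bool.false_or] at hall2
    have hm := List.contains_iff_mem.1 (List.all_eq_true.1 hall2 j (List.mem_range.2 hj))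
    refine (C.inM_reach hN ?_ j hm).2
    intro x hx
    rcases List.mem_append.1 hx with hx | hx
    · exact h1 x hx
    · exact C.inM_long hN h1 h2K h3K (fun e => (hG2 e).1) x hx

end Cfsg.Agent.S2416
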