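import Cfsg.Statements.S2418
import Cfsg.Agent.Lib.Lie.Chev.CoxAll
import Cfsg.Agent.Lib.Lie.Chev.PerfectData
-- import your own Cfsg.Agent.* helpers here

set_option autoImplicit false
open Cfsg
open CfsgLib.Lie.Chev

namespace Cfsg.Agent.S2418

/-- For the Coxeter groups of types B₂, G₂, D₄, F₄, E₇, E₈ the centre has order 2 (the element acting as −1 on the root system) and is generated by a power of the Coxeter element `s₁ s₂ ⋯ s_l`; the Coxeter group of type E₆ has trivial centre. -/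
theorem result (c : (Σ n : ℕ, CoxeterMatrix (Fin n)) × ℕ)
    (hc : c ∈ [(⟨2, CoxeterMatrix.B 2⟩, 2), (⟨2, CoxeterMatrix.G₂⟩, 2), (⟨4, Cfsg.Lie.coxeterD4⟩, 2), (⟨4, CoxeterMatrix.F₄⟩, 2),
      (⟨6, CoxeterMatrix.E₆⟩, 1), (⟨7, CoxeterMatrix.E₇⟩, 2), (⟨8, CoxeterMatrix.E₈⟩, 2)]) :
    Nat.card (Subgroup.center c.1.2.Group) = c.2 ∧
      Subgroup.center c.1.2.Group ≤ Subgroup.zpowers ((List.finRange c.1.1).map c.1.2.simple).prod := by
  simp only [List.mem_cons, List.not_mem_nil, or_false] at hc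
  rcases hc with rfl | rfl | rfl | rfl | rfl | rfl | rfl
  · obtain ⟨ψ, hψ⟩ := exists_equivB2 goodB2
    exact goodB2.coxeter_center checksB2 flipB2 connectedB2 _ rankB2 ψ hψ ⟨0, by decide +kernel⟩ 2 (negPowB2 goodB2)
  · obtain ⟨ψ, hψ⟩ := exists_equivG2 goodG2
    exact goodG2.coxeter_center checksG2 flipG2 connectedG2 _ rankG2 ψ hψ ⟨0, by decide +kernel⟩ 3 (negPowG2 goodG2)
  · obtain ⟨ψ, hψ⟩ := exists_equivD4 goodD4
    exact goodD4.coxeter_center checksD4 flipD4 connectedD4 _ rankD4 ψ hψ ⟨0, by decide +kernel⟩ 3 (negPowD4 goodD4)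
  · obtain ⟨ψ, hψ⟩ := exists_equivF4 goodF4
    exact goodF4.coxeter_center checksF4 flipF4 connectedF4 _ rankF4 ψ hψ ⟨0, by decide +kernel⟩ 6 (negPowF4 goodF4)
  · obtain ⟨ψ, -⟩ := exists_equivE6 goodE6
    obtain ⟨h1, h2⟩ := goodE6.coxeter_center_trivial checksE6 flipE6 connectedE6 _ ψ (notNegE6 goodE6)
    exact ⟨h1, h2 _⟩
  · obtain ⟨ψ, hψ⟩ := exists_equivE7 goodE7
    exact goodE7.coxeter_center checksE7 flipE7 connectedE7 _ rankE7 ψ hψ ⟨0, by decide +kernel⟩ 9 (negPowE7 goodE7)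
  · obtain ⟨ψ, hψ⟩ := exists_equivE8 goodE8
    exact goodE8.coxeter_center checksE8 flipE8 connectedE8 _ rankE8 ψ hψ ⟨0, by decide +kernel⟩ 15 (negPowE8 goodE8)

end Cfsg.Agent.S2418
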