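import Cfsg.Statements.S2425
import Cfsg.Agent.Lib.Char.FlagFixedPoints
import Cfsg.Agent.Lib.Char.SemisimpleMobius
import Cfsg.Agent.Lib.Char.UnipotentGL
import Mathlib.LinearAlgebra.Semisimple
-- import your own Cfsg.Agent.* helpers here

set_option autoImplicit false
open scoped MatrixGroups
open Cfsg

namespace Cfsg.Agent.S2425

open UniqueFactorizationMonoid Module in
/-- The value as an integer. -/
theorem value_eq {F : Type*} [Field F] [Fintype F] [DecidableEq F] {p : ℕ} [Fact p.Prime] [CharP F p] {n : ℕ}
    (x : GL (Fin n) F) (hx : (orderOf x).Coprime p) :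
    Cfsg.unipotentCharacterGL n F (fun _ => 1) x =
      (((-1) ^ n * CfsgLib.Char.SemisimpleMobius.phi (Nat.card F)
        (normalizedFactors (x : Matrix (Fin n) (Fin n) F).charpoly) : ℤ) : ℂ) := by
  classical
  set f : Module.End F (Fin n → F) := Matrix.mulVecLin x.1 with hf
  haveI : Finite (AEval' f) := Finite.of_equiv _ (AEval'.of f).toEquiv
  haveI : Finite (Submodule (Polynomial F) (AEval' f)) := Finite.of_injective _ SetLike.coe_injective
  letI : Fintype (Submodule (Polynomial F) (AEval' f)) := Fintype.ofFinite _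
  haveI : IsSemisimpleModule (Polynomial F) (AEval' f) := by
    have hm : 0 < orderOf x := (isOfFinOrder_of_finite x).orderOf_pos
    have hne : ((orderOf x : ℕ) : F) ≠ 0 := fun h => by
      have hd : p ∣ orderOf x := (CharP.cast_eq_zero_iff F p _).1 h
      exact (Fact.out : p.Prime).not_dvd_one (hx ▸ Nat.dvd_gcd hd dvd_rfl)
    refine Module.End.isSemisimple_of_squarefree_aeval_eq_zero
      (Polynomial.X_pow_sub_one_separable_iff.2 hne).squarefree ?_
    have h1 : (x : Matrix (Fin n) (Fin n) F) ^ orderOf x = 1 := by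
      rw [← Units.val_pow_eq_pow_val, pow_orderOf_eq_one, Units.val_one]
    rw [map_sub, map_pow, Polynomial.aeval_X, map_one, hf, ← Matrix.toLin'_apply', sub_eq_zero]
    show (Matrix.toLinAlgEquiv' x.1) ^ orderOf x = 1
    rw [← map_pow, h1, map_one]
  have hval : Cfsg.unipotentCharacterGL n F (fun _ => 1) x =
      ((CfsgLib.Char.FlagMobius.alt (CfsgLib.Char.FlagFixedPoints.dim f) n 1 ⊥ : ℤ) : ℂ) := by
    rw [Cfsg.unipotentCharacterGL, CfsgLib.Char.FlagMobius.alt, Int.cast_sum]
    refine Finset.sum_congr rfl fun κ _ => ?_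
    by_cases hκ : ∀ i : Fin n, (κ i).val ≤ i.val + 1
    · rw [if_pos hκ, if_pos fun i => by have := hκ i; omega]
      have hw : (fun i : Fin n => CfsgLib.Char.FlagMobius.wgt 1 i.val (κ i).val) =
          fun i : Fin n => 1 + i.val - (κ i).val := funext fun i => by
        simp only [CfsgLib.Char.FlagMobius.wgt]
        split_ifs <;> omega
      have hsum : ∑ i : Fin n, (1 + i.val - (κ i).val) = n := CfsgLib.Char.UnipotentGL.comp_sum
        (ν := fun _ => 1) (by simp) (κ := κ) fun i => by
          have := hκ i
          simp only [CfsgLib.Char.UnipotentGL.shift]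
          omega
      rw [hw, ← CfsgLib.Char.FlagFixedPoints.card_fixedBy f hsum x hf]
      push_cast
      rfl
    · rw [if_neg hκ, if_neg fun h => hκ fun i => by have := h i; omega, Int.cast_zero]
  rw [hval, CfsgLib.Char.FlagMobius.alt_one_eq_mob (CfsgLib.Char.FlagFixedPoints.dim_strictMono f)
    (by rw [CfsgLib.Char.FlagFixedPoints.dim_top, CfsgLib.Char.FlagFixedPoints.dim_bot, Nat.zero_add]),
    CfsgLib.Char.SemisimpleMobius.mob_eq ⊤ ⊥ isCompl_bot_top]
  congr 3
  rw [CfsgLib.Char.SemisimpleMobius.fac_congr Submodule.topEquiv, CfsgLib.Char.SemisimpleMobius.fac,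
    CfsgLib.Char.SemisimpleMobius.cp, ← Matrix.charpoly_toLin',
    ← LinearEquiv.charpoly_conj (AEval'.of f).symm]
  congr 2
  refine LinearMap.ext fun v => ?_
  rw [LinearEquiv.conj_apply_apply, LinearEquiv.symm_symm]
  show (AEval'.of f).symm ((Polynomial.X : Polynomial F) • AEval'.of f v) = _
  rw [AEval'.X_smul_of, LinearEquiv.symm_apply_apply, hf, Matrix.mulVecLin_apply, Matrix.toLin'_apply]


/-- Values of the Steinberg character of `GL_n(q)` (the partition-indexed character for `ν = (1,…,1)`, of degree `q^(n(n−1)/2)`) at elements of order prime to the characteristic: if the characteristic polynomial of such an element is `∏ f^(m_f)` over distinct monic irreducible `f`, the value is `∏_f (−1)^((deg f − 1) m_f) q^(deg f · m_f (m_f − 1)/2)`. (At elements of order divisible by the characteristic the value is 0; that is not part of this statement.) -/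
theorem result {F : Type*} [Field F] [Fintype F] [DecidableEq F] {q : ℕ} (hq : Fintype.card F = q) (p : ℕ) [Fact p.Prime] [CharP F p]
    {n : ℕ} (x : GL (Fin n) F) (hx : (orderOf x).Coprime p) :
    Cfsg.unipotentCharacterGL n F (fun _ => 1) x =
      ∏ f ∈ (UniqueFactorizationMonoid.normalizedFactors (x : Matrix (Fin n) (Fin n) F).charpoly).toFinset,
        (-1 : ℂ) ^ ((f.natDegree - 1) * (UniqueFactorizationMonoid.normalizedFactors (x : Matrix (Fin n) (Fin n) F).charpoly).count f) *
          (q : ℂ) ^ (f.natDegree * (UniqueFactorizationMonoid.normalizedFactors (x : Matrix (Fin n) (Fin n) F).charpoly).count f *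
            ((UniqueFactorizationMonoid.normalizedFactors (x : Matrix (Fin n) (Fin n) F).charpoly).count f - 1) / 2) := by
  subst hq
  rw [value_eq (p := p) x hx]
  set C := (x : Matrix (Fin n) (Fin n) F).charpoly with hC
  set s := UniqueFactorizationMonoid.normalizedFactors C with hs
  have hn : n = ∑ f ∈ s.toFinset, s.count f * f.natDegree := by
    have hp : ∀ f ∈ s, f.Monic := fun f hf => by
      rw [← UniqueFactorizationMonoid.normalize_normalized_factor f hf]
      exact Polynomial.monic_normalize (UniqueFactorizationMonoid.prime_of_normalized_factor f hf).ne_zero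
    have h0 : (0 : Polynomial F) ∉ s := fun h => (hp 0 h).ne_zero rfl
    rw [show ∑ f ∈ s.toFinset, s.count f * f.natDegree = (s.map Polynomial.natDegree).sum from
      (Finset.sum_multiset_map_count s _).symm, ← Polynomial.natDegree_multiset_prod s h0, hs,
      UniqueFactorizationMonoid.prod_normalizedFactors_eq (Matrix.charpoly_monic x.1).ne_zero,
      (Matrix.charpoly_monic x.1).normalize_eq_self, Matrix.charpoly_natDegree_eq_dim, Fintype.card_fin]
  rw [CfsgLib.Char.SemisimpleMobius.phi, Int.cast_mul, Int.cast_pow, Int.cast_neg, Int.cast_one, hn, ← Finset.prod_pow_eq_pow_sum,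
    Int.cast_prod, ← Finset.prod_mul_distrib]
  refine Finset.prod_congr rfl fun f hf => ?_
  have hd : 1 ≤ f.natDegree :=
    (UniqueFactorizationMonoid.prime_of_normalized_factor f (Multiset.mem_toFinset.1 hf)).irreducible.natDegree_pos
  push_cast
  rw [← mul_assoc, ← pow_add, Nat.card_eq_fintype_card, Nat.choose_two_right,
    ← Nat.mul_div_assoc _ (Nat.two_dvd_mul_sub_one (s.count f)), ← mul_assoc]
  congr 1
  obtain ⟨d, hd'⟩ := Nat.exists_eq_add_of_le hd
  rw [hd', Nat.add_sub_cancel_left, show s.count f * (1 + d) + s.count f = d * s.count f + 2 * s.count f by ring,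
    pow_add, pow_mul (-1 : ℂ) 2, neg_one_sq, one_pow, mul_one]

end Cfsg.Agent.S2425
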