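import Cfsg.Statements.S2426
import Cfsg.Agent.Lib.Lie.SL2Rel
-- import your own Cfsg.Agent.* helpers here

set_option autoImplicit false
open Cfsg

namespace Cfsg.Agent.S2426

/-- The rank-one Steinberg presentation of `SL₂` over a finite field `K`: generators `x(t)`, `y(t)` (`t ∈ K`; the two opposite root subgroups) subject to additivity `x(t)x(u) = x(t+u)`, `y(t)y(u) = y(t+u)` and, with `w(t) = x(t) y(−t⁻¹) x(t)` and `w'(t) = y(t) x(−t⁻¹) y(t)` for `t ≠ 0`, the relations `w(t) x(u) w(t)⁻¹ = y(−t⁻² u)` and `w'(t) y(u) w'(t)⁻¹ = x(−t⁻² u)`, present `SL₂(K)`, with `x(t) ↦ (1 t; 0 1)` and `y(t) ↦ (1 0; t 1)`. -/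
theorem result {K : Type*} [Field K] [Finite K] :
    ∃ e : PresentedGroup
        ({g : FreeGroup (Bool × K) | ∃ (b : Bool) (t u : K), g = FreeGroup.of (b, t) * FreeGroup.of (b, u) * (FreeGroup.of (b, t + u))⁻¹} ∪
          {g | ∃ (b : Bool) (t u : K), t ≠ 0 ∧
            g = (FreeGroup.of (b, t) * FreeGroup.of (!b, -t⁻¹) * FreeGroup.of (b, t)) * FreeGroup.of (b, u) *
                  (FreeGroup.of (b, t) * FreeGroup.of (!b, -t⁻¹) * FreeGroup.of (b, t))⁻¹ * (FreeGroup.of (!b, -(t⁻¹ ^ 2 * u)))⁻¹})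
        ≃* Matrix.SpecialLinearGroup (Fin 2) K,
      (∀ t : K, ((e (PresentedGroup.of (true, t)) : Matrix (Fin 2) (Fin 2) K)) = !![1, t; 0, 1]) ∧
      (∀ t : K, ((e (PresentedGroup.of (false, t)) : Matrix (Fin 2) (Fin 2) K)) = !![1, 0; t, 1]) := by
  classical
  generalize hS : (({g : FreeGroup (Bool × K) | ∃ (b : Bool) (t u : K),
      g = FreeGroup.of (b, t) * FreeGroup.of (b, u) * (FreeGroup.of (b, t + u))⁻¹} ∪
    {g | ∃ (b : Bool) (t u : K), t ≠ 0 ∧
      g = (FreeGroup.of (b, t) * FreeGroup.of (!b, -t⁻¹) * FreeGroup.of (b, t)) * FreeGroup.of (b, u) *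
        (FreeGroup.of (b, t) * FreeGroup.of (!b, -t⁻¹) * FreeGroup.of (b, t))⁻¹ *
        (FreeGroup.of (!b, -(t⁻¹ ^ 2 * u)))⁻¹}) : Set (FreeGroup (Bool × K))) = S
  have hadd : ∀ (b : Bool) (t u : K),
      (PresentedGroup.of (b, t + u) : PresentedGroup S) = PresentedGroup.of (b, t) * PresentedGroup.of (b, u) := by
    intro b t u
    have e : PresentedGroup.mk S
        (FreeGroup.of (b, t) * FreeGroup.of (b, u) * (FreeGroup.of (b, t + u))⁻¹) = 1 :=
      PresentedGroup.one_of_mem (hS ▸ Or.inl ⟨b, t, u, rfl⟩)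
    simp only [map_mul, map_inv, mul_inv_eq_one] at e
    exact e.symm
  have hrel : ∀ (b : Bool) (t u : K), t ≠ 0 →
      (PresentedGroup.of (b, t) * PresentedGroup.of (!b, -t⁻¹) * PresentedGroup.of (b, t)) *
        PresentedGroup.of (b, u) *
        (PresentedGroup.of (b, t) * PresentedGroup.of (!b, -t⁻¹) * PresentedGroup.of (b, t))⁻¹ =
      (PresentedGroup.of (!b, -(t⁻¹ ^ 2 * u)) : PresentedGroup S) := by
    intro b t u ht
    have e : PresentedGroup.mk S
        ((FreeGroup.of (b, t) * FreeGroup.of (!b, -t⁻¹) * FreeGroup.of (b, t)) * FreeGroup.of (b, u) *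
          (FreeGroup.of (b, t) * FreeGroup.of (!b, -t⁻¹) * FreeGroup.of (b, t))⁻¹ *
          (FreeGroup.of (!b, -(t⁻¹ ^ 2 * u)))⁻¹) = 1 :=
      PresentedGroup.one_of_mem (hS ▸ Or.inr ⟨b, t, u, ht, rfl⟩)
    simp only [map_mul, map_inv, mul_inv_eq_one] at e
    exact e
  let P : CfsgLib.Lie.SL2Rel.Fam K (PresentedGroup S) :=
    { x := fun t => PresentedGroup.of (true, t)
      y := fun t => PresentedGroup.of (false, t)
      x_add := hadd true
      y_add := hadd false
      rel := hrel true }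
  let f : Bool × K → Matrix.SpecialLinearGroup (Fin 2) K := fun p =>
    bif p.1 then CfsgLib.Lie.SL2Rel.Fam.upper p.2 else CfsgLib.Lie.SL2Rel.Fam.lower p.2
  have hf : ∀ r ∈ S, FreeGroup.lift f r = 1 := by
    rw [← hS]
    rintro r (⟨b, t, u, rfl⟩ | ⟨b, t, u, ht, rfl⟩)
    · simp only [map_mul, map_inv, FreeGroup.lift_apply_of, mul_inv_eq_one]
      apply Subtype.ext
      cases b
      all_goals simp only [f, cond_true, cond_false, CfsgLib.Lie.SL2Rel.val_mul']
      all_goals ext i j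
      all_goals fin_cases i <;> fin_cases j <;>
          simp [CfsgLib.Lie.SL2Rel.Fam.upper, CfsgLib.Lie.SL2Rel.Fam.lower, Matrix.mul_apply, add_comm]
    · simp only [map_mul, map_inv, FreeGroup.lift_apply_of, mul_inv_eq_one, mul_inv_eq_iff_eq_mul]
      apply Subtype.ext
      cases b
      all_goals simp only [f, Bool.not_true, Bool.not_false, cond_true, cond_false,
        CfsgLib.Lie.SL2Rel.val_mul']
      all_goals ext i j
      all_goals fin_cases i <;> fin_cases j <;>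
          simp [CfsgLib.Lie.SL2Rel.Fam.upper, CfsgLib.Lie.SL2Rel.Fam.lower, Matrix.mul_apply]
      all_goals field_simp
      all_goals first | exact Or.inr (neg_add_cancel (1 : K)) | exact Or.inr trivial | ring1 | simp
  have hφ := P.mult_of_finite
  have h1 : (P.hom hφ).comp (PresentedGroup.toGroup hf) = MonoidHom.id _ := by
    ext ⟨b, t⟩
    cases b
    · simp [f, CfsgLib.Lie.SL2Rel.Fam.hom_lower, P]
    · simp [f, CfsgLib.Lie.SL2Rel.Fam.hom_upper, P]
  have h2 : (PresentedGroup.toGroup hf).comp (P.hom hφ) = MonoidHom.id _ := by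
    ext1 g
    refine CfsgLib.Lie.SL2Rel.Fam.mem_gens
      (P := fun g => PresentedGroup.toGroup hf (P.hom hφ g) = g) ?_ ?_ ?_ g
    · intro a b ha hb
      rw [map_mul, map_mul, ha, hb]
    · intro t
      simp [CfsgLib.Lie.SL2Rel.Fam.hom_upper, P, f]
    · have e : (CfsgLib.Lie.SL2Rel.Fam.wel : Matrix.SpecialLinearGroup (Fin 2) K) =
          CfsgLib.Lie.SL2Rel.Fam.upper (-1) * CfsgLib.Lie.SL2Rel.Fam.lower 1 *
            CfsgLib.Lie.SL2Rel.Fam.upper (-1) := by
        apply Subtype.ext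
        simp only [CfsgLib.Lie.SL2Rel.val_mul']
        ext i j
        fin_cases i <;> fin_cases j <;>
          simp [CfsgLib.Lie.SL2Rel.Fam.wel, CfsgLib.Lie.SL2Rel.Fam.upper, CfsgLib.Lie.SL2Rel.Fam.lower,
            Matrix.mul_apply]
      rw [e]
      simp [CfsgLib.Lie.SL2Rel.Fam.hom_upper, CfsgLib.Lie.SL2Rel.Fam.hom_lower, P, f]
  refine ⟨MonoidHom.toMulEquiv (PresentedGroup.toGroup hf) (P.hom hφ) h1 h2, fun t => ?_, fun t => ?_⟩
  · show ((PresentedGroup.toGroup hf (PresentedGroup.of (true, t))) :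
        Matrix.SpecialLinearGroup (Fin 2) K).1 = _
    rw [PresentedGroup.toGroup.of]
    rfl
  · show ((PresentedGroup.toGroup hf (PresentedGroup.of (false, t))) :
        Matrix.SpecialLinearGroup (Fin 2) K).1 = _
    rw [PresentedGroup.toGroup.of]
    rfl


end Cfsg.Agent.S2426
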