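import Cfsg.Statements.S2429
import Cfsg.Agent.Lib.Classical.SL2EllTorus

set_option autoImplicit false
open Cfsg

namespace Cfsg.Agent.S2429

/-- Let F be a finite field with q elements, q odd. Then SL₂ over F contains a cyclic subgroup T′ of order q + 1 (a non-split torus) with the following properties: T′ is its own centraliser, and indeed the centraliser of each element of T′ other than 1 and −1 is exactly T′; every element of SL₂ having no eigenvector in F² is conjugate to an element of T′; the normaliser of T′ has order 2(q + 1) and exactly (q + 7)/2 conjugacy classes; and every element of that normaliser outside T′ has square −1. -/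
theorem result {F : Type*} [Field F] [Fintype F] (hodd : Odd (Fintype.card F)) :
    ∃ T' : Subgroup (Matrix.SpecialLinearGroup (Fin 2) F), IsCyclic T' ∧ Nat.card T' = Fintype.card F + 1 ∧
      Subgroup.centralizer ((T' : Set (Matrix.SpecialLinearGroup (Fin 2) F))) = T' ∧
      (∀ g : Matrix.SpecialLinearGroup (Fin 2) F, g ∈ T' → (g : Matrix (Fin 2) (Fin 2) F) ≠ 1 → (g : Matrix (Fin 2) (Fin 2) F) ≠ -1 → Subgroup.centralizer ({g} : Set (Matrix.SpecialLinearGroup (Fin 2) F)) = T') ∧
      (∀ g : Matrix.SpecialLinearGroup (Fin 2) F, (∀ (c : F) (v : Fin 2 → F), v ≠ 0 → (g : Matrix (Fin 2) (Fin 2) F).mulVec v ≠ c • v) → ∃ h : Matrix.SpecialLinearGroup (Fin 2) F, h * g * h⁻¹ ∈ T') ∧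
      Nat.card (Subgroup.normalizer (T' : Set (Matrix.SpecialLinearGroup (Fin 2) F))) = 2 * (Fintype.card F + 1) ∧
      Nat.card (ConjClasses (Subgroup.normalizer (T' : Set (Matrix.SpecialLinearGroup (Fin 2) F)))) = (Fintype.card F + 7) / 2 ∧
      ∀ g : Matrix.SpecialLinearGroup (Fin 2) F, g ∈ Subgroup.normalizer (T' : Set (Matrix.SpecialLinearGroup (Fin 2) F)) → g ∉ T' → ((g * g) : Matrix (Fin 2) (Fin 2) F) = -1 := by
  classical
  obtain ⟨A, hA⟩ := CfsgLib.Classical.PSL2Spectrum.exists_order_add_one (F := F)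
  refine ⟨Subgroup.zpowers A, inferInstance, CfsgLib.Classical.SL2EllTorus.card_tor hA,
    CfsgLib.Classical.SL2EllTorus.centralizer_tor hodd hA, fun g hg h1 h2 => ?_,
    fun g hg => CfsgLib.Classical.SL2EllTorus.exists_conj_of_ell hodd hA hg,
    CfsgLib.Classical.SL2EllTorus.card_normalizer hodd hA, CfsgLib.Classical.SL2EllTorus.card_conjClasses hodd hA,
    fun g hg hn => congrArg Subtype.val (CfsgLib.Classical.SL2EllTorus.sq_outside hodd hA hg hn)⟩
  refine CfsgLib.Classical.SL2EllTorus.centralizer_elem hodd hA hg fun hs => ?_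
  rcases CfsgLib.Char.TwoChars.scalar_cases hs with h | h
  · exact h1 (congrArg Subtype.val h)
  · exact h2 (congrArg Subtype.val h)

end Cfsg.Agent.S2429
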