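import Cfsg.Statements.S2436
import Cfsg.Agent.Lib.Char.SLTwoMcKayLocal

set_option autoImplicit false
open Cfsg

namespace Cfsg.Agent.S2436

open CfsgLib.Char CfsgLib.Char.TwoChars CfsgLib.Char.SLTwoLocal CfsgLib.Classical

/-- Let F be a finite field with q elements, q odd, ℓ any prime and S a Sylow ℓ-subgroup of SL₂ over F with normaliser N. Then SL₂ and N have the same number of irreducible complex characters of degree not divisible by ℓ (the McKay equality holds for SL₂ over F at every prime). -/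
theorem result {F : Type*} [Field F] [Fintype F] (hodd : Odd (Fintype.card F)) (ℓ : ℕ) [Fact ℓ.Prime] (S : Sylow ℓ (Matrix.SpecialLinearGroup (Fin 2) F)) :
    Nat.card {χ : Cfsg.IrrCharacter (Matrix.SpecialLinearGroup (Fin 2) F) // ¬ ℓ ∣ Cfsg.charDegree (χ : Matrix.SpecialLinearGroup (Fin 2) F → ℂ)} =
      Nat.card {ψ : Cfsg.IrrCharacter (Subgroup.normalizer ((S : Subgroup (Matrix.SpecialLinearGroup (Fin 2) F)) : Set (Matrix.SpecialLinearGroup (Fin 2) F))) //
        ¬ ℓ ∣ Cfsg.charDegree (ψ : Subgroup.normalizer ((S : Subgroup (Matrix.SpecialLinearGroup (Fin 2) F)) : Set (Matrix.SpecialLinearGroup (Fin 2) F)) → ℂ)} := by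
  classical
  show good ℓ (Matrix.SpecialLinearGroup (Fin 2) F) = good ℓ _
  have hp : ℓ.Prime := Fact.out
  have hq : 2 ≤ Fintype.card F := Fintype.one_lt_card
  by_cases h2 : ℓ = 2
  · subst h2
    show good 2 _ = good 2 _
    rw [show good 2 (Matrix.SpecialLinearGroup (Fin 2) F) = 4 from count_two hodd]
    obtain ⟨-, hN1, hN3⟩ := SL2TwoNormalizer.main hodd S
    have hqo := Nat.odd_iff.1 hodd
    by_cases h8 : Fintype.card F % 8 = 1 ∨ Fintype.card F % 8 = 7
    · exact (good_two_self hodd S (hN1 h8)).symm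
    · have h35 : Fintype.card F % 8 = 3 ∨ Fintype.card F % 8 = 5 := by omega
      have hS : Nat.card S = 8 := by
        rw [S.card_eq_multiplicity, CfsgLib.Classical.card_sl2]
        obtain ⟨a, ha⟩ : ∃ a, (Fintype.card F - 1) * (Fintype.card F + 1) = 2 ^ 3 * a ∧ ¬ 2 ∣ a := by
          obtain ⟨j, hj⟩ : ∃ j, Fintype.card F = 8 * j + 3 ∨ Fintype.card F = 8 * j + 5 :=
            ⟨Fintype.card F / 8, by omega⟩
          rcases hj with hj | hj <;> rw [hj]
          · refine ⟨2 * (4 * j * j + 3 * j) + 1, ?_, by omega⟩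
            rw [show 8 * j + 3 - 1 = 8 * j + 2 by omega]; ring
          · refine ⟨2 * (4 * j * j + 5 * j + 1) + 1, ?_, by omega⟩
            rw [show 8 * j + 5 - 1 = 8 * j + 4 by omega]; ring
        have ha0 : a ≠ 0 := fun h => ha.2 (h ▸ dvd_zero 2)
        rw [ha.1, Nat.factorization_mul (by omega) (mul_ne_zero (by norm_num) ha0), Finsupp.add_apply,
          Nat.factorization_eq_zero_of_not_dvd (fun h => by omega : ¬ 2 ∣ Fintype.card F),
          Nat.factorization_mul (by norm_num) ha0, Finsupp.add_apply,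
          Nat.factorization_eq_zero_of_not_dvd ha.2, Nat.prime_two.factorization_pow]
        simp
      refine (good_two_big hodd S hS ?_).symm
      rw [hN3 h35, hS]
  by_cases hdq : ℓ ∣ Fintype.card F
  · obtain ⟨p, hc⟩ := CharP.exists F
    obtain ⟨n, hpp, hn⟩ := FiniteField.card F p
    obtain rfl : ℓ = p := (Nat.prime_dvd_prime_iff_eq hp hpp).1 (hp.dvd_of_dvd_pow (hn ▸ hdq))
    rw [good_defining hodd ℓ S]
    exact count_char hodd hp hdq
  by_cases hd1 : ℓ ∣ Fintype.card F - 1
  · obtain ⟨u, hu⟩ := IsCyclic.exists_ofOrder_eq_natCard (α := Fˣ)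
    rw [Nat.card_units, Nat.card_eq_fintype_card] at hu
    have h3 : 3 ≤ Fintype.card F - 1 := by
      have := hp.two_le
      have := Nat.le_of_dvd (by omega) hd1
      omega
    have hd01 : (elS u (0 : F)).1 0 1 = 0 := by simp [elS_val]
    have hd10 : (elS u (0 : F)).1 1 0 = 0 := by simp [elS_val]
    have hda : (elS u (0 : F)).1 0 0 ^ 2 ≠ 1 := fun h => by
      have h' : u ^ 2 = 1 := Units.ext (by simpa [elS_val] using h)
      have := Nat.le_of_dvd two_pos (hu ▸ orderOf_dvd_of_pow_eq_one h')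
      omega
    obtain ⟨hcyc, hcT⟩ := SL2OddSylow.diag_torus _ hd01 hd10 hda
    rw [good_torus h2 S _ hcT
      (SL2OddSylow.part_dvd h2 hd1 (n := Fintype.card F + 1) (Or.inr (by omega)) (Or.inl ⟨rfl, rfl⟩))
      (SL2TorusNormalizer.card_normalizer _ hd01 hd10 hda)
      ((SL2OddSylow.odd_sylow hodd ℓ h2 S).1 hd1).2.2,
      SL2TorusNormalizer.card_conjClasses _ hd01 hd10 hda hodd]
    exact count_split hodd hp h2 hd1
  by_cases hd2 : ℓ ∣ Fintype.card F + 1
  · obtain ⟨A, hA⟩ := PSL2Spectrum.exists_order_add_one (F := F)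
    rw [good_torus h2 S (Subgroup.zpowers A) (SL2EllTorus.card_tor hA)
      (SL2OddSylow.part_dvd h2 hd2 (n := Fintype.card F - 1) (Or.inl (by omega)) (Or.inr ⟨rfl, rfl⟩))
      (SL2EllTorus.card_normalizer hodd hA)
      ((SL2OddSylow.odd_sylow hodd ℓ h2 S).2 hd2).2.2,
      SL2EllTorus.card_conjClasses hodd hA]
    exact count_nonsplit hodd hp h2 hd2
  · have hS : (S : Subgroup (Matrix.SpecialLinearGroup (Fin 2) F)) = ⊥ := by
      rw [Subgroup.eq_bot_iff_card, S.card_eq_multiplicity, Nat.factorization_eq_zero_of_not_dvd, pow_zero]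
      rw [CfsgLib.Classical.card_sl2]
      intro h
      rcases hp.dvd_mul.1 h with h | h
      · exact hdq h
      · exact (hp.dvd_mul.1 h).elim hd1 hd2
    have hN : Subgroup.normalizer ((S : Subgroup (Matrix.SpecialLinearGroup (Fin 2) F)) : Set (Matrix.SpecialLinearGroup (Fin 2) F)) = ⊤ := by
      rw [hS]
      exact Subgroup.normalizer_eq_top _
    exact good_congr ℓ (Subgroup.topEquiv.symm.trans (MulEquiv.subgroupCongr hN.symm))

end Cfsg.Agent.S2436
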