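import Cfsg.Statements.S2439
import Cfsg.Agent.Lib.Block.DefiningChar.SLBlocks
import Cfsg.Agent.Lib.Block.Sections
import Cfsg.Agent.Lib.Char.Virtual
import Cfsg.Agent.S0914
import Cfsg.Agent.Lib.Char.SLTwoCusp

set_option autoImplicit false
open Cfsg

namespace Cfsg.Agent.S2439

section
open CfsgLib.Block Matrix

universe u

variable {F : Type u} [Field F] [Fintype F] {p : ℕ} [hp : Fact p.Prime] [CharP F p]
  {M : Ideal AlgInt}

local notation "SL2" => Matrix.SpecialLinearGroup (Fin 2) F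

private theorem negOne_central : (-1 : SL2) ∈ Subgroup.center SL2 :=
  Subgroup.mem_center_iff.2 fun g => Subtype.ext (by simp)

private theorem negOne_pow : (-1 : SL2) ^ 2 = 1 := by
  rw [pow_two]; exact Subtype.ext (by simp)

private theorem negOne_value (χ : IrrCharacter SL2) :
    (χ : SL2 → ℂ) (-1) = (χ : SL2 → ℂ) 1 ∨ (χ : SL2 → ℂ) (-1) = -(χ : SL2 → ℂ) 1 := by
  obtain ⟨d, ρ, hρ, hχ⟩ := χ.2
  haveI := hρ
  obtain ⟨c, hc⟩ := CfsgLib.Char.schur_scalar ρ (ρ (-1)) fun g => by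
    rw [← map_mul, ← map_mul, Subgroup.mem_center_iff.1 negOne_central g]
  have hd0 : (d : ℂ) ≠ 0 := fun h => CfsgLib.Char.irr_one_ne_zero χ (by
    rw [← hχ, Representation.char_one, Module.finrank_fin_fun, h])
  have h1 : ρ (-1) ^ 2 = 1 := by rw [← map_pow, negOne_pow, map_one]
  rw [hc, ← Module.End.one_eq_id, smul_pow, one_pow] at h1
  have h2 := congrArg (LinearMap.trace ℂ (Fin d → ℂ)) h1
  rw [map_smul, Module.End.one_eq_id, LinearMap.trace_id, Module.finrank_fin_fun, smul_eq_mul] at h2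
  have hc2 : c * c = 1 := by rw [← pow_two]; exact (mul_eq_right₀ hd0).1 h2
  rw [← hχ, Representation.char_one, Representation.character, hc, CfsgLib.Char.trace_smul_id,
    Module.finrank_fin_fun]
  rcases mul_self_eq_one_iff.1 hc2 with e | e
  · left; rw [e, one_mul]
  · right; rw [e]; ring

private theorem centralChar_negOne (χ : IrrCharacter SL2) :
    centralChar (χ : SL2 → ℂ) (-1) = (χ : SL2 → ℂ) (-1) / (χ : SL2 → ℂ) 1 := by
  rw [centralChar, CfsgLib.Block.DefiningChar.centralizer_of_mem_center negOne_central,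
    Subgroup.index_top, Nat.cast_one, one_mul]

private theorem sign_of_sameBlock (hp2 : p ≠ 2) (hM : IsPModular p M) {χ ψ : IrrCharacter SL2}
    (h : SameBlock M (χ : SL2 → ℂ) (ψ : SL2 → ℂ)) :
    (χ : SL2 → ℂ) (-1) = (χ : SL2 → ℂ) 1 ↔ (ψ : SL2 → ℂ) (-1) = (ψ : SL2 → ℂ) 1 := by
  haveI := hM.2.1
  have hχ0 := CfsgLib.Char.irr_one_ne_zero χ
  have hψ0 := CfsgLib.Char.irr_one_ne_zero ψ
  have h2 : ∀ z : ℤ, z = 2 ∨ z = -2 → ¬ MemLocalIdeal M (z : ℂ) := fun z hz hm => by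
    rw [memLocalIdeal_intCast hM] at hm
    have hd : (p : ℤ) ∣ 2 := by
      rcases hz with e | e <;> rw [e] at hm
      · exact hm
      · exact dvd_neg.1 hm
    exact hp2 ((Nat.prime_dvd_prime_iff_eq hp.out Nat.prime_two).1 (by exact_mod_cast hd))
  have h1 := h (-1)
  rw [centralChar_negOne, centralChar_negOne] at h1
  rcases negOne_value χ with a | a <;> rcases negOne_value ψ with b | b
  · exact ⟨fun _ => b, fun _ => a⟩
  · exfalso
    rw [a, b, neg_div, div_self hχ0, div_self hψ0] at h1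
    exact h2 2 (Or.inl rfl) (by convert h1 using 1; push_cast; ring)
  · exfalso
    rw [a, b, neg_div, div_self hχ0, div_self hψ0] at h1
    exact h2 (-2) (Or.inr rfl) (by convert h1 using 1; push_cast; ring)
  · refine ⟨fun e => ?_, fun e => ?_⟩
    · rw [a, neg_eq_iff_add_eq_zero, ← two_mul, mul_eq_zero] at e
      exact absurd (e.resolve_left two_ne_zero) hχ0
    · rw [b, neg_eq_iff_add_eq_zero, ← two_mul, mul_eq_zero] at e
      exact absurd (e.resolve_left two_ne_zero) hψ0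

private theorem center_card (hp2 : p ≠ 2) : Nat.card (Subgroup.center SL2) = 2 := by
  rw [CfsgLib.Classical.card_center_sl (by omega)]
  have hodd : Fintype.card F % 2 = 1 := by
    obtain ⟨f, -, hf⟩ := FiniteField.card F p
    rw [hf, Nat.pow_mod, hp.out.eq_two_or_odd.resolve_left hp2, one_pow, Nat.one_mod]
  exact Nat.gcd_eq_left (by omega)

private theorem factorization_card (hp2 : p ≠ 2) :
    p ^ (Nat.card SL2).factorization p = Fintype.card F := by
  classical
  obtain ⟨f, -, hf⟩ := FiniteField.card F p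
  have hc := CfsgLib.Char.TwoChars.card_sl_two (F := F)
  have hF : 2 ≤ Fintype.card F := Fintype.one_lt_card
  set q := Fintype.card F
  have hpq : p ∣ q := hf ▸ dvd_pow_self p f.pos.ne'
  have hn : ∀ m : ℕ, (m = q + 1 ∨ m = q - 1) → ¬ p ∣ m := by
    intro m hm h
    have h1 : p ∣ 1 := by
      rcases hm with rfl | rfl
      · exact (Nat.dvd_add_right hpq).1 h
      · have h2 := Nat.dvd_sub hpq h
        rwa [show q - (q - 1) = 1 by omega] at h2
    exact hp.out.ne_one (Nat.dvd_one.1 h1)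
  rw [hc, Nat.factorization_mul (by omega) (Nat.mul_ne_zero (by omega) (by omega)),
    Finsupp.add_apply, Nat.factorization_mul (by omega) (by omega), Finsupp.add_apply,
    Nat.factorization_eq_zero_of_not_dvd (hn _ (Or.inl rfl)),
    Nat.factorization_eq_zero_of_not_dvd (hn _ (Or.inr rfl)), zero_add, zero_add, hf,
    hp.out.factorization_pow, Finsupp.single_eq_same]

private theorem main (hp2 : p ≠ 2) (hM : IsPModular p M) :
    (∀ B : Set (IrrCharacter SL2), IsPBlock M B ↔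
      (B = {χ : IrrCharacter SL2 | (χ : SL2 → ℂ) 1 = (Fintype.card F : ℂ)} ∨
       B = {χ : IrrCharacter SL2 | (χ : SL2 → ℂ) (-1) = (χ : SL2 → ℂ) 1 ∧ (χ : SL2 → ℂ) 1 ≠ (Fintype.card F : ℂ)} ∨
       B = {χ : IrrCharacter SL2 | (χ : SL2 → ℂ) (-1) = -(χ : SL2 → ℂ) 1})) ∧
    Nat.card {B : Set (IrrCharacter SL2) // IsPBlock M B} = 3 ∧
    ∀ P : Sylow p SL2,
      IsDefectGroup p M {χ : IrrCharacter SL2 | (χ : SL2 → ℂ) (-1) = (χ : SL2 → ℂ) 1 ∧ (χ : SL2 → ℂ) 1 ≠ (Fintype.card F : ℂ)} (P : Subgroup SL2) ∧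
      IsDefectGroup p M {χ : IrrCharacter SL2 | (χ : SL2 → ℂ) (-1) = -(χ : SL2 → ℂ) 1} (P : Subgroup SL2) := by
  classical
  haveI := hM.2.1
  letI := Fintype.ofFinite SL2
  set q := Fintype.card F with hq
  set S1 : Set (IrrCharacter SL2) := {χ | (χ : SL2 → ℂ) 1 = (q : ℂ)} with hS1
  set S2 : Set (IrrCharacter SL2) := {χ | (χ : SL2 → ℂ) (-1) = (χ : SL2 → ℂ) 1 ∧ (χ : SL2 → ℂ) 1 ≠ (q : ℂ)} with hS2
  set S3 : Set (IrrCharacter SL2) := {χ | (χ : SL2 → ℂ) (-1) = -(χ : SL2 → ℂ) 1} with hS3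
  set a := (Nat.card SL2).factorization p with ha
  have hqa : p ^ a = q := factorization_card hp2
  have hrad : DefiningChar.RadicalCentral p SL2 := DefiningChar.SL.radicalCentral (F := F) le_rfl
  have hdvd : p ∣ Nat.card SL2 := DefiningChar.SL.dvd_card le_rfl
  have ha0 : 0 < a := hp.out.factorization_pos_of_dvd Nat.card_pos.ne' hdvd
  have hpZ := DefiningChar.SL.not_dvd_card_center (p := p) (F := F) (n := 2) (by omega)
  -- the defect zero block
  obtain ⟨hss, ⟨B0, hB0⟩⟩ := Nat.card_eq_one_iff_unique.1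
    (DefiningChar.SL.card_defect_zero (F := F) le_rfl hM)
  have hdefect : ∀ χ : IrrCharacter SL2, (χ : SL2 → ℂ) 1 = (q : ℂ) ↔
      blockDefect p (blockOf M (χ : SL2 → ℂ)) = 0 := by
    intro χ
    constructor
    · intro hχ
      have hd : charDegree (χ : SL2 → ℂ) = q := by simp [charDegree, hχ]
      have hs : blockOf M (χ : SL2 → ℂ) = {χ} := (Cfsg.Agent.S0914.result p M hM χ).1 fun h => by
        rw [hd, ← hqa] at h
        exact Nat.not_dvd_ordCompl hp.out Nat.card_pos.ne' h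
      exact (DefiningChar.exists_defect_zero_of_degree hM rfl hs (by
        rw [hd, ← hqa, hp.out.factorization_pow, Finsupp.single_eq_same])).2
    · intro h0
      obtain ⟨ψ, hψ, hval⟩ := CfsgLib.Char.SteinbergPSL.exists_steinberg (F := F) p (le_refl 2)
      let π := QuotientGroup.mk' (Subgroup.center SL2)
      let St : IrrCharacter SL2 :=
        ⟨fun g => ψ (π g), CfsgLib.Char.isIrrCharacter_comp_surjective hψ π (QuotientGroup.mk'_surjective _)⟩
      let PP : Sylow p (Matrix.ProjectiveSpecialLinearGroup (Fin 2) F) := default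
      have hSt : (St : SL2 → ℂ) 1 = (q : ℂ) := by
        show ψ (π 1) = _
        rw [map_one, (hval PP).1, PP.card_eq_multiplicity, ← hqa, ha,
          Subgroup.card_eq_card_quotient_mul_card_subgroup (Subgroup.center SL2),
          Nat.factorization_mul Nat.card_pos.ne' Nat.card_pos.ne', Finsupp.add_apply,
          Nat.factorization_eq_zero_of_not_dvd hpZ, add_zero]
      have hd : charDegree (St : SL2 → ℂ) = q := by simp [charDegree, hSt]
      have hs : blockOf M (St : SL2 → ℂ) = {St} := (Cfsg.Agent.S0914.result p M hM St).1 fun h => by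
        rw [hd, ← hqa] at h
        exact Nat.not_dvd_ordCompl hp.out Nat.card_pos.ne' h
      have h0' := (DefiningChar.exists_defect_zero_of_degree hM rfl hs (by
        rw [hd, ← hqa, hp.out.factorization_pow, Finsupp.single_eq_same])).2
      have e : blockOf M (χ : SL2 → ℂ) = blockOf M (St : SL2 → ℂ) :=
        congrArg Subtype.val (hss.elim ⟨_, ⟨χ, rfl⟩, h0⟩ ⟨_, ⟨St, rfl⟩, h0'⟩)
      have hmem : χ ∈ blockOf M (χ : SL2 → ℂ) := sameBlock_refl _
      rw [e, hs, Set.mem_singleton_iff] at hmem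
      rw [hmem]; exact hSt
  have hS1eq : ∀ χ : IrrCharacter SL2, (χ : SL2 → ℂ) 1 = (q : ℂ) →
      blockOf M (χ : SL2 → ℂ) = S1 ∧ (χ : SL2 → ℂ) (-1) = (χ : SL2 → ℂ) 1 := by
    intro χ hχ
    have hu : ∀ ψ : IrrCharacter SL2, (ψ : SL2 → ℂ) 1 = (q : ℂ) →
        blockOf M (ψ : SL2 → ℂ) = {ψ} ∧ blockOf M (ψ : SL2 → ℂ) = blockOf M (χ : SL2 → ℂ) := fun ψ hψ => by
      refine ⟨(Cfsg.Agent.S0914.result p M hM ψ).1 fun h => ?_,
        congrArg Subtype.val (hss.elim ⟨_, ⟨ψ, rfl⟩, (hdefect ψ).1 hψ⟩ ⟨_, ⟨χ, rfl⟩, (hdefect χ).1 hχ⟩)⟩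
      rw [show charDegree (ψ : SL2 → ℂ) = q by simp [charDegree, hψ], ← hqa] at h
      exact Nat.not_dvd_ordCompl hp.out Nat.card_pos.ne' h
    have huniq : ∀ ψ : IrrCharacter SL2, (ψ : SL2 → ℂ) 1 = (q : ℂ) → ψ = χ := fun ψ hψ => by
      have h := (hu ψ hψ).2
      rw [(hu ψ hψ).1, (hu χ hχ).1, Set.singleton_eq_singleton_iff] at h
      exact h
    refine ⟨?_, ?_⟩
    · rw [(hu χ hχ).1]
      ext ψ
      exact ⟨fun h => by rw [Set.mem_singleton_iff.1 h]; exact hχ, fun h => huniq ψ h⟩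
    · obtain ⟨ψ, hψ, hval⟩ := CfsgLib.Char.SteinbergPSL.exists_steinberg (F := F) p (le_refl 2)
      let π := QuotientGroup.mk' (Subgroup.center SL2)
      let St : IrrCharacter SL2 :=
        ⟨fun g => ψ (π g), CfsgLib.Char.isIrrCharacter_comp_surjective hψ π (QuotientGroup.mk'_surjective _)⟩
      let PP : Sylow p (Matrix.ProjectiveSpecialLinearGroup (Fin 2) F) := default
      have hSt : (St : SL2 → ℂ) 1 = (q : ℂ) := by
        show ψ (π 1) = _
        rw [map_one, (hval PP).1, PP.card_eq_multiplicity, ← hqa, ha,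
          Subgroup.card_eq_card_quotient_mul_card_subgroup (Subgroup.center SL2),
          Nat.factorization_mul Nat.card_pos.ne' Nat.card_pos.ne', Finsupp.add_apply,
          Nat.factorization_eq_zero_of_not_dvd hpZ, add_zero]
      rw [← huniq St hSt]
      show ψ (π (-1)) = ψ (π 1)
      rw [map_one, show π (-1) = 1 from (QuotientGroup.eq_one_iff _).2 negOne_central]
  -- every block
  have hclass : ∀ χ : IrrCharacter SL2, blockOf M (χ : SL2 → ℂ) ⊆ S1 ∨
      blockOf M (χ : SL2 → ℂ) ⊆ S2 ∨ blockOf M (χ : SL2 → ℂ) ⊆ S3 := by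
    intro χ
    by_cases hχ : (χ : SL2 → ℂ) 1 = (q : ℂ)
    · exact Or.inl (hS1eq χ hχ).1.le
    · right
      have hne : ∀ ψ ∈ blockOf M (χ : SL2 → ℂ), (ψ : SL2 → ℂ) 1 ≠ (q : ℂ) := fun ψ hψ e => hχ (by
        rw [hdefect, blockOf_eq hψ, ← hdefect]; exact e)
      by_cases hs : (χ : SL2 → ℂ) (-1) = (χ : SL2 → ℂ) 1
      · exact Or.inl fun ψ hψ => ⟨(sign_of_sameBlock hp2 hM hψ).1 hs, hne ψ hψ⟩
      · exact Or.inr fun ψ hψ => (negOne_value ψ).resolve_left fun e => hs ((sign_of_sameBlock hp2 hM hψ).2 e)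
  have hex1 : S1.Nonempty := by
    obtain ⟨⟨χ, hχ⟩, h0⟩ := hB0
    exact ⟨χ, (hdefect χ).2 (hχ ▸ h0)⟩
  have hex2 : S2.Nonempty := by
    refine ⟨oneChar SL2, rfl, ?_⟩
    show (1 : ℂ) ≠ (q : ℂ)
    exact_mod_cast (Fintype.one_lt_card (α := F)).ne
  have hex3 : S3.Nonempty := by
    by_contra hemp
    have hne : (-1 : SL2) ≠ 1 := fun e => by
      have h1 := congrArg (fun g : SL2 => g.1 0 0) e
      simp at h1
      have h2 : ((2 : ℕ) : F) = 0 := by push_cast; linear_combination -h1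
      rw [CharP.cast_eq_zero_iff F p] at h2
      exact hp2 ((Nat.prime_dvd_prime_iff_eq hp.out Nat.prime_two).1 h2)
    haveI := Fintype.ofFinite (IrrCharacter SL2)
    have e1 : (Representation.leftRegular ℂ SL2).character (-1) =
        (Representation.leftRegular ℂ SL2).character 1 := by
      rw [CfsgLib.Char.regular_char_expand, Finset.sum_apply, Finset.sum_apply]
      refine Finset.sum_congr rfl fun θ _ => ?_
      rw [Pi.smul_apply, Pi.smul_apply, (negOne_value θ).resolve_right fun h => hemp ⟨θ, h⟩]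
    rw [CfsgLib.Char.regular_char, CfsgLib.Char.regular_char, if_neg hne, if_pos rfl] at e1
    exact Nat.card_pos.ne' (Nat.cast_eq_zero.1 e1.symm)
  have hd12 : ∀ χ ∈ S1, χ ∉ S2 := fun χ h h' => h'.2 h
  have hd23 : ∀ χ ∈ S2, χ ∉ S3 := fun χ h h' => by
    have e : (χ : SL2 → ℂ) 1 = -(χ : SL2 → ℂ) 1 := h.1.symm.trans h'
    rw [eq_neg_iff_add_eq_zero, ← two_mul, mul_eq_zero] at e
    exact CfsgLib.Char.irr_one_ne_zero χ (e.resolve_left two_ne_zero)
  have hd13 : ∀ χ ∈ S1, χ ∉ S3 := fun χ h h' => by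
    have e : (χ : SL2 → ℂ) 1 = -(χ : SL2 → ℂ) 1 := (hS1eq χ h).2.symm.trans h'
    rw [eq_neg_iff_add_eq_zero, ← two_mul, mul_eq_zero] at e
    exact CfsgLib.Char.irr_one_ne_zero χ (e.resolve_left two_ne_zero)
  haveI := Fintype.ofFinite (IrrCharacter SL2)
  haveI := Fintype.ofFinite {B : Set (IrrCharacter SL2) // IsPBlock M B}
  have hcard : Nat.card {B : Set (IrrCharacter SL2) // IsPBlock M B} = 3 := by
    rw [DefiningChar.card_blocks hM hrad hdvd hpZ (DefiningChar.SL.card_defect_zero (F := F) le_rfl hM),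
      center_card hp2]
  obtain ⟨χ1, h1⟩ := hex1
  obtain ⟨χ2, h2⟩ := hex2
  obtain ⟨χ3, h3⟩ := hex3
  let T : Finset {B : Set (IrrCharacter SL2) // IsPBlock M B} :=
    {⟨_, ⟨χ1, rfl⟩⟩, ⟨_, ⟨χ2, rfl⟩⟩, ⟨_, ⟨χ3, rfl⟩⟩}
  have hc1 : blockOf M (χ1 : SL2 → ℂ) ⊆ S1 := (hS1eq χ1 h1).1.le
  have hc2 : blockOf M (χ2 : SL2 → ℂ) ⊆ S2 := by
    rcases hclass χ2 with h | h | h
    · exact absurd h2 (hd12 χ2 (h (sameBlock_refl _)))
    · exact h
    · exact absurd (h (sameBlock_refl _)) (hd23 χ2 h2)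
  have hc3 : blockOf M (χ3 : SL2 → ℂ) ⊆ S3 := by
    rcases hclass χ3 with h | h | h
    · exact absurd h3 (hd13 χ3 (h (sameBlock_refl _)))
    · exact absurd h3 (hd23 χ3 (h (sameBlock_refl _)))
    · exact h
  have hTu : T = Finset.univ := by
    refine Finset.eq_univ_of_card _ ?_
    rw [← Nat.card_eq_fintype_card, hcard]
    refine Finset.card_eq_three.2 ⟨_, _, _, ?_, ?_, ?_, rfl⟩ <;> intro e <;>
      have e' := congrArg Subtype.val e <;> simp only at e'
    · exact hd12 χ1 h1 (hc2 (e' ▸ sameBlock_refl _))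
    · exact hd13 χ1 h1 (hc3 (e' ▸ sameBlock_refl _))
    · exact hd23 χ2 h2 (hc3 (e' ▸ sameBlock_refl _))
  have hthree : ∀ χ : IrrCharacter SL2, χ ∈ blockOf M (χ1 : SL2 → ℂ) ∨
      χ ∈ blockOf M (χ2 : SL2 → ℂ) ∨ χ ∈ blockOf M (χ3 : SL2 → ℂ) := fun χ => by
    have h : (⟨blockOf M (χ : SL2 → ℂ), ⟨χ, rfl⟩⟩ : {B : Set (IrrCharacter SL2) // IsPBlock M B}) ∈ T :=
      hTu ▸ Finset.mem_univ _
    simp only [T, Finset.mem_insert, Finset.mem_singleton, Subtype.mk.injEq] at h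
    have hself : χ ∈ blockOf M (χ : SL2 → ℂ) := sameBlock_refl _
    rcases h with h | h | h <;>
      (have h' := congrArg Subtype.val h; simp only at h'; rw [h'] at hself)
    · exact Or.inl hself
    · exact Or.inr (Or.inl hself)
    · exact Or.inr (Or.inr hself)
  have e1 : blockOf M (χ1 : SL2 → ℂ) = S1 := (hS1eq χ1 h1).1
  have e2 : blockOf M (χ2 : SL2 → ℂ) = S2 := by
    refine hc2.antisymm fun χ hχ => ?_
    rcases hthree χ with h | h | h
    · exact absurd hχ (hd12 χ (hc1 h))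
    · exact h
    · exact absurd (hc3 h) (hd23 χ hχ)
  have e3 : blockOf M (χ3 : SL2 → ℂ) = S3 := by
    refine hc3.antisymm fun χ hχ => ?_
    rcases hthree χ with h | h | h
    · exact absurd hχ (hd13 χ (hc1 h))
    · exact absurd hχ (hd23 χ (hc2 h))
    · exact h
  have hP : ∀ (P : Sylow p SL2) (χ : IrrCharacter SL2), (χ : SL2 → ℂ) 1 ≠ (q : ℂ) →
      IsDefectGroup p M (blockOf M (χ : SL2 → ℂ)) (P : Subgroup SL2) := by
    intro P χ hχ
    have hB : IsPBlock M (blockOf M (χ : SL2 → ℂ)) := ⟨χ, rfl⟩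
    have hfull : blockDefect p (blockOf M (χ : SL2 → ℂ)) = a :=
      (DefiningChar.defect_zero_or_full hM hrad hB).resolve_left fun h => hχ ((hdefect χ).2 h)
    obtain ⟨D, hD⟩ := exists_defectGroup hM hB
    have hDc := defectGroup_card hM hB hD
    rw [hfull] at hDc
    obtain ⟨g, hg⟩ := MulAction.exists_smul_eq SL2 (Sylow.ofCard D hDc) P
    rw [← hg]
    exact isDefectGroup_conj hM hB hD g
  refine ⟨fun B => ⟨?_, ?_⟩, hcard, fun P => ⟨e2 ▸ hP P χ2 h2.2, e3 ▸ hP P χ3 fun e => hd13 χ3 e h3⟩⟩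
  · rintro ⟨χ, rfl⟩
    rcases hthree χ with h | h | h
    · exact Or.inl ((blockOf_eq h).symm.trans e1)
    · exact Or.inr (Or.inl ((blockOf_eq h).symm.trans e2))
    · exact Or.inr (Or.inr ((blockOf_eq h).symm.trans e3))
  · rintro (rfl | rfl | rfl)
    · exact ⟨χ1, e1.symm⟩
    · exact ⟨χ2, e2.symm⟩
    · exact ⟨χ3, e3.symm⟩

end

/-- Let F be a finite field with q elements of odd characteristic p, and M a maximal ideal of the algebraic integers containing p. Then SL₂ over F has exactly three p-blocks relative to M: the irreducible character of degree q (the Steinberg character) alone; the other irreducible characters taking the same value at −1 as at 1 (the principal block); and the irreducible characters χ with χ(−1) = −χ(1). Every Sylow p-subgroup is a defect group of each of the last two blocks. -/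
theorem result {F : Type*} [Field F] [Fintype F] (p : ℕ) [Fact p.Prime] [CharP F p] (hp : p ≠ 2)
    (M : Ideal Cfsg.AlgInt) (hM : Cfsg.IsPModular p M) :
    (∀ B : Set (Cfsg.IrrCharacter (Matrix.SpecialLinearGroup (Fin 2) F)), Cfsg.IsPBlock M B ↔
      (B = {χ : Cfsg.IrrCharacter (Matrix.SpecialLinearGroup (Fin 2) F) | (χ : Matrix.SpecialLinearGroup (Fin 2) F → ℂ) 1 = (Fintype.card F : ℂ)} ∨
       B = {χ : Cfsg.IrrCharacter (Matrix.SpecialLinearGroup (Fin 2) F) | (χ : Matrix.SpecialLinearGroup (Fin 2) F → ℂ) (-1) = (χ : Matrix.SpecialLinearGroup (Fin 2) F → ℂ) 1 ∧ (χ : Matrix.SpecialLinearGroup (Fin 2) F → ℂ) 1 ≠ (Fintype.card F : ℂ)} ∨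
       B = {χ : Cfsg.IrrCharacter (Matrix.SpecialLinearGroup (Fin 2) F) | (χ : Matrix.SpecialLinearGroup (Fin 2) F → ℂ) (-1) = -(χ : Matrix.SpecialLinearGroup (Fin 2) F → ℂ) 1})) ∧
    Nat.card {B : Set (Cfsg.IrrCharacter (Matrix.SpecialLinearGroup (Fin 2) F)) // Cfsg.IsPBlock M B} = 3 ∧
    ∀ P : Sylow p (Matrix.SpecialLinearGroup (Fin 2) F),
      Cfsg.IsDefectGroup p M {χ : Cfsg.IrrCharacter (Matrix.SpecialLinearGroup (Fin 2) F) | (χ : Matrix.SpecialLinearGroup (Fin 2) F → ℂ) (-1) = (χ : Matrix.SpecialLinearGroup (Fin 2) F → ℂ) 1 ∧ (χ : Matrix.SpecialLinearGroup (Fin 2) F → ℂ) 1 ≠ (Fintype.card F : ℂ)} (P : Subgroup (Matrix.SpecialLinearGroup (Fin 2) F)) ∧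
      Cfsg.IsDefectGroup p M {χ : Cfsg.IrrCharacter (Matrix.SpecialLinearGroup (Fin 2) F) | (χ : Matrix.SpecialLinearGroup (Fin 2) F → ℂ) (-1) = -(χ : Matrix.SpecialLinearGroup (Fin 2) F → ℂ) 1} (P : Subgroup (Matrix.SpecialLinearGroup (Fin 2) F)) := by
  exact main hp hM

end Cfsg.Agent.S2439
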