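import Cfsg.Statements.S2444
import Cfsg.Agent.Lib.GLClass.CommMain

set_option autoImplicit false
open Cfsg

namespace Cfsg.Agent.S2444

/-- In the special linear group SL(n,F) over a finite field F, with n ≥ 2 and (n, |F|) not (2,2) or (2,3), every element is a commutator a·b·a⁻¹·b⁻¹ of two elements of SL(n,F). -/
theorem result {F : Type*} [Field F] [Fintype F] (n : ℕ) (hn : 2 ≤ n) (hex : n = 2 → 4 ≤ Fintype.card F) :
    ∀ g : Matrix.SpecialLinearGroup (Fin n) F, ∃ a b : Matrix.SpecialLinearGroup (Fin n) F, g = a * b * a⁻¹ * b⁻¹ := by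
  classical
  intro g
  obtain ⟨a, b, ha, hb, hab⟩ := CfsgLib.GLClass.CommSL.comm1_of_det g.1 g.2 (by
    rw [Fintype.card_fin]
    rcases Nat.lt_or_ge n 3 with h | h
    · exact Or.inl (hex (by omega))
    · exact Or.inr h)
  let A : Matrix.SpecialLinearGroup (Fin n) F := ⟨a, ha⟩
  let B : Matrix.SpecialLinearGroup (Fin n) F := ⟨b, hb⟩
  refine ⟨A, B, ?_⟩
  have h : g * B * A = A * B := Subtype.ext hab
  rw [← h]
  group

end Cfsg.Agent.S2444
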