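import Cfsg.Statements.S2448
import Cfsg.Agent.Lib.Char.OreOrth.Two
-- import your own Cfsg.Agent.* helpers here

set_option autoImplicit false
open Cfsg

namespace Cfsg.Agent.S2448

/-- Let F be a finite field and n ≥ 4, and let Ω⁺(2n,F) be the commutator subgroup of the orthogonal group of the quadratic form Σ xᵢyᵢ (n hyperbolic planes). Then every element of Ω⁺(2n,F) is a commutator a·b·a⁻¹·b⁻¹ of two elements of Ω⁺(2n,F). -/
theorem result {F : Type*} [Field F] [Fintype F] (n : ℕ) (hn : 4 ≤ n) : ∀ g : Cfsg.Omega F (Cfsg.quadFormPlus n F), ∃ a b : Cfsg.Omega F (Cfsg.quadFormPlus n F), g = a * b * a⁻¹ * b⁻¹ := by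
  have hQ : Cfsg.Geo.IsNondegenerateQuadraticForm (Cfsg.quadFormPlus n F) :=
    CfsgLib.Perm.Trans.Quad.quadFormPlus_nd
  have hdim : Fintype.card (Fin n ⊕ Fin n) = 2 * n := by
    simp only [Fintype.card_sum, Fintype.card_fin]; omega
  refine CfsgLib.Char.OreOrth.to_omega fun g hg => ?_
  by_cases hq : Fintype.card F = 2
  · exact CfsgLib.Char.OreOrth.commutator_two_plus hQ hq hn hdim
      (fun Fr => CfsgLib.Char.OreOrth.plus_residual Fr (by omega)) hg
  · exact CfsgLib.Char.OreOrth.commutator_even hQ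
      (by have := Fintype.one_lt_card (α := F); omega) hn hdim hg

end Cfsg.Agent.S2448
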