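import Cfsg.Statements.S2449
import Cfsg.Agent.Lib.Char.OreOrth.TwoFour
-- import your own Cfsg.Agent.* helpers here

set_option autoImplicit false
open Cfsg

namespace Cfsg.Agent.S2449

/-- Let F be a finite field and n ≥ 4, and let Ω⁻(2n,F) be the commutator subgroup of the orthogonal group of the quadratic form given by n − 1 hyperbolic planes plus an anisotropic binary form z₁² + a z₁z₂ + b z₂². Then every element of Ω⁻(2n,F) is a commutator a·b·a⁻¹·b⁻¹ of two elements of Ω⁻(2n,F). -/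
theorem result {F : Type*} [Field F] [Fintype F] (n : ℕ) (hn : 4 ≤ n) (a b : F)
    (hab : ∀ z₁ z₂ : F, z₁ ^ 2 + a * z₁ * z₂ + b * z₂ ^ 2 = 0 → z₁ = 0 ∧ z₂ = 0) :
    ∀ g : Cfsg.Omega F (Cfsg.quadFormMinus (n - 1) F a b), ∃ x y : Cfsg.Omega F (Cfsg.quadFormMinus (n - 1) F a b), g = x * y * x⁻¹ * y⁻¹ := by
  have hQ : Cfsg.Geo.IsNondegenerateQuadraticForm (Cfsg.quadFormMinus (n - 1) F a b) :=
    CfsgLib.Perm.Trans.Quad.quadFormMinus_nd a b hab
  have hdim : Fintype.card ((Fin (n - 1) ⊕ Fin (n - 1)) ⊕ Fin 2) = 2 * n := by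
    simp only [Fintype.card_sum, Fintype.card_fin]; omega
  refine CfsgLib.Char.OreOrth.to_omega fun g hg => ?_
  by_cases hq : Fintype.card F = 2
  · have hres : ∀ Fr : CfsgLib.Char.OreOrth.Frame (Cfsg.quadFormMinus (n - 1) F a b) (n - 1), ∀ y,
        CfsgLib.Char.OreOrth.cvec hQ Fr y = 0 → CfsgLib.Char.OreOrth.dvec hQ Fr y = 0 →
          Cfsg.quadFormMinus (n - 1) F a b y = 0 → y = 0 :=
      fun Fr y hc hd hy => CfsgLib.Char.OreOrth.minus_residual a b hab Fr hc hd hy
    by_cases h5 : 5 ≤ n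
    · exact CfsgLib.Char.OreOrth.commutator_two_minus hQ hq h5 hdim hres hg
    · obtain rfl : n = 4 := by omega
      exact CfsgLib.Char.OreOrth.commutator_two_minus_four hQ hq hdim hres hg
  · exact CfsgLib.Char.OreOrth.commutator_even hQ
      (by have := Fintype.one_lt_card (α := F); omega) hn hdim hg

end Cfsg.Agent.S2449
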