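import Cfsg.Statements.S2450
import Cfsg.Agent.Lib.GLClass.TwoProducts

set_option autoImplicit false
open Cfsg Matrix CfsgLib.GLClass.TwoProd

namespace Cfsg.Agent.S2450

/-- The Arad–Herzog conjecture for PSL(2,q): let F be a finite field with q ≥ 4 elements. For any two non-identity elements a, b of PSL(2,F), the set of products of a conjugate of a with a conjugate of b is not a single conjugacy class. -/
theorem result {F : Type*} [Field F] [Fintype F] (h4 : 4 ≤ Fintype.card F)
    (a b : Matrix.ProjectiveSpecialLinearGroup (Fin 2) F) (ha : a ≠ 1) (hb : b ≠ 1) (c : Matrix.ProjectiveSpecialLinearGroup (Fin 2) F) :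
    {g : Matrix.ProjectiveSpecialLinearGroup (Fin 2) F | ∃ u v : Matrix.ProjectiveSpecialLinearGroup (Fin 2) F, g = (u * a * u⁻¹) * (v * b * v⁻¹)} ≠ {g | IsConj c g} := by
  classical
  intro hset
  obtain ⟨A, rfl⟩ := QuotientGroup.mk'_surjective _ a
  obtain ⟨B, rfl⟩ := QuotientGroup.mk'_surjective _ b
  obtain ⟨C, rfl⟩ := QuotientGroup.mk'_surjective _ c
  obtain ⟨ua, d, hA⟩ := exists_nf A (not_scalar ha)
  obtain ⟨ub, e, hB⟩ := exists_nf B (not_scalar hb)
  set α := A.1.trace
  set β := B.1.trace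
  let U : F → Matrix.SpecialLinearGroup (Fin 2) F := fun s =>
    ⟨!![1, s; 0, 1], by simp [det_fin_two]⟩
  set S : Finset F := {C.1.trace, -C.1.trace}
  let f : F → F := fun s => (nf d α * (U s * nf e β * (U s)⁻¹)).1.trace
  have hf : ∀ s, f s = -((e : F) / d) + d * (-(e : F)⁻¹ + s * β - e * s * s) + α * (β - s * e) := by
    intro s
    simp only [f, Matrix.SpecialLinearGroup.coe_mul, Matrix.SpecialLinearGroup.coe_inv]
    simp [U, nf, trace_fin_two, Matrix.mul_apply, Fin.sum_univ_two, adjugate_fin_two]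
    ring
  have hmem : ∀ s, f s ∈ S := by
    intro s
    have hm : pr (nf d α * (U s * nf e β * (U s)⁻¹)) ∈ {g | IsConj (pr C) g} := by
      rw [← hset]
      refine ⟨pr ua⁻¹, pr (U s * ub⁻¹), ?_⟩
      simp only [← map_mul, ← map_inv]
      congr 1
      rw [hA, hB]
      group
    obtain ⟨w, hw⟩ := isConj_iff.1 hm
    obtain ⟨W, rfl⟩ := QuotientGroup.mk'_surjective _ w
    have hq : pr (W * C * W⁻¹) = pr (nf d α * (U s * nf e β * (U s)⁻¹)) := by
      rw [map_mul, map_mul, map_inv]; exact hw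
    obtain ⟨Z, hZ, hZe⟩ := (QuotientGroup.mk'_eq_mk' _).1 hq
    obtain ⟨z, hz, hzs⟩ := Matrix.SpecialLinearGroup.mem_center_iff.1 hZ
    have hz2 : z = 1 ∨ z = -1 := by
      rw [Fintype.card_fin] at hz
      exact sq_eq_one_iff.1 hz
    show f s ∈ S
    simp only [f]
    rw [← hZe, Matrix.SpecialLinearGroup.coe_mul, ← hzs]
    have hsc : ((W * C * W⁻¹).1 * Matrix.scalar (Fin 2) z).trace = z * C.1.trace := by
      rw [← trace_conj W C]
      generalize (W * C * W⁻¹).1 = M
      simp [trace_fin_two, Matrix.mul_apply, Fin.sum_univ_two]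
      ring
    rw [hsc]
    rcases hz2 with rfl | rfl <;> simp [S]
  have hd0 : (d : F) ≠ 0 := d.ne_zero
  have he0 : (e : F) ≠ 0 := e.ne_zero
  have hfib : ∀ r ∈ S, (Finset.univ.filter fun s => f s = r).card ≤ 2 := by
    intro r _
    by_contra hlt
    obtain ⟨s₁, h₁, s₂, h₂, s₃, h₃, h12, h13, h23⟩ := Finset.two_lt_card.1 (not_le.1 hlt)
    simp only [Finset.mem_filter, Finset.mem_univ, true_and, hf] at h₁ h₂ h₃
    have e1 : (s₁ - s₂) * ((d : F) * β - α * e - d * e * (s₁ + s₂)) = 0 := by
      linear_combination h₁ - h₂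
    have e2 : (s₁ - s₃) * ((d : F) * β - α * e - d * e * (s₁ + s₃)) = 0 := by
      linear_combination h₁ - h₃
    have e1' := (mul_eq_zero.1 e1).resolve_left (sub_ne_zero.2 h12)
    have e2' := (mul_eq_zero.1 e2).resolve_left (sub_ne_zero.2 h13)
    have e3 : ((d : F) * e) * (s₂ - s₃) = 0 := by linear_combination e2' - e1'
    exact h23 (sub_eq_zero.1 ((mul_eq_zero.1 e3).resolve_left (mul_ne_zero hd0 he0)))
  have hcount : Fintype.card F ≤ 2 * S.card := by
    rw [← Finset.card_univ]
    exact Finset.card_le_mul_card_image_of_maps_to (fun s _ => hmem s) 2 hfib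
  have hS : S.card ≤ 2 := Finset.card_le_two
  have hq4 : Fintype.card F = 4 := by omega
  have h22 : (2 : F) = 0 := by
    have h := Nat.cast_card_eq_zero F
    rw [hq4] at h
    push_cast at h
    have : (2 : F) * 2 = 0 := by linear_combination h
    rcases mul_eq_zero.1 this with h' | h' <;> exact h'
  have hS1 : S.card ≤ 1 := by
    have : -C.1.trace = C.1.trace := by linear_combination (-C.1.trace) * h22
    simp [S, this]
  omega

end Cfsg.Agent.S2450
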