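import Cfsg.Statements.S2455
import Cfsg.Agent.Lib.GLClass.TwoProducts

set_option autoImplicit false
open Cfsg Matrix CfsgLib.GLClass.TwoProd

namespace Cfsg.Agent.S2455

/-- A strong covering result in the direction of Thompson's conjecture (non-identity elements) for PSL(2,q), q odd: let F be a finite field of odd characteristic p with at least 5 elements and let x ∈ PSL(2,F) have order greater than 2 and not divisible by p (so x is not unipotent). Then every non-identity element of PSL(2,F) is a product of two conjugates of x. -/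
theorem result {F : Type*} [Field F] [Fintype F] (p : ℕ) [Fact p.Prime] [CharP F p] (hp : p ≠ 2) (h5 : 5 ≤ Fintype.card F)
    (x : Matrix.ProjectiveSpecialLinearGroup (Fin 2) F) (hx2 : 2 < orderOf x) (hxp : ¬ p ∣ orderOf x) : ∀ g : Matrix.ProjectiveSpecialLinearGroup (Fin 2) F, g ≠ 1 → ∃ u v : Matrix.ProjectiveSpecialLinearGroup (Fin 2) F, g = (u * x * u⁻¹) * (v * x * v⁻¹) := by
  classical
  intro g hg
  obtain ⟨X, rfl⟩ := QuotientGroup.mk'_surjective _ x
  obtain ⟨G, rfl⟩ := QuotientGroup.mk'_surjective _ g
  have h2 : ringChar F ≠ 2 := by rw [ringChar.eq F p]; exact hp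
  have hτ := trace_sq_ne_four' (p := p) hx2 hxp
  have hτ0 := trace_ne_zero hx2
  by_cases hσ : G.1.trace = 2
  · have h4 : (4 : F) ≠ 0 := by
      have h := Ring.two_ne_zero h2
      intro h'
      exact h (by
        have : (2 : F) * 2 = 0 := by linear_combination h'
        rcases mul_eq_zero.1 this with h'' | h'' <;> exact h'')
    have hne : (-G).1.trace ≠ 2 := by
      rw [trace_neg', hσ]; intro h; exact h4 (by linear_combination -h)
    rw [← pr_neg]
    exact exists_two hτ (by rw [pr_neg]; exact hg) (exists_conic h2 hτ0 hne)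
  · exact exists_two hτ hg (exists_conic h2 hτ0 hσ)

end Cfsg.Agent.S2455
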