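import Cfsg.Statements.S2459
import Cfsg.Agent.Lib.GLClass.ThreeCover

set_option autoImplicit false
open Cfsg Matrix

namespace Cfsg.Agent.S2459

/-- A form of Thompson's conjecture for PSL(3,q), q > 2 (covering the non-identity elements), with a semisimple class: for F a finite field of characteristic p with more than 2 elements there is an element x of PSL(3,F) of order prime to p such that every non-identity element of PSL(3,F) is a product of two conjugates of x. -/
theorem result {F : Type*} [Field F] [Fintype F] (p : ℕ) [Fact p.Prime] [CharP F p] (h3 : 3 ≤ Fintype.card F) :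
    ∃ x : Matrix.ProjectiveSpecialLinearGroup (Fin 3) F, ¬ p ∣ orderOf x ∧ ∀ g : Matrix.ProjectiveSpecialLinearGroup (Fin 3) F, g ≠ 1 → ∃ u v : Matrix.ProjectiveSpecialLinearGroup (Fin 3) F, g = (u * x * u⁻¹) * (v * x * v⁻¹) := by
  classical
  obtain ⟨X, k, hX, hpk, hXk, hcomm, hcov⟩ : ∃ (X : Matrix (Fin 3) (Fin 3) F) (k : ℕ),
      X.det = 1 ∧ ¬ p ∣ k ∧ X ^ k = 1 ∧
      (∀ d : F, diagonal ![1, 1, d] * X = X * diagonal ![1, 1, d]) ∧
      ∀ A : Matrix (Fin 3) (Fin 3) F, (¬ ∃ e : F, A = e • 1) → A.det = 1 →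
        CfsgLib.GLClass.ThreeCover.Cover X A := by
    obtain ⟨f, hp, hf⟩ := FiniteField.card F p
    by_cases h : Fintype.card F = 3
    · refine ⟨CfsgLib.GLClass.ThreeCover.xthree, 4, ?_, ?_, ?_, ?_,
        CfsgLib.GLClass.ThreeCover.cover_card_three h⟩
      · simp [CfsgLib.GLClass.ThreeCover.xthree, det_fin_three]
      · intro h4
        have h2 : p = 2 := (Nat.prime_dvd_prime_iff_eq hp Nat.prime_two).1
          (hp.dvd_of_dvd_pow (n := 2) h4)
        rw [h, h2] at hf
        have : 2 ∣ 2 ^ (f : ℕ) := dvd_pow_self 2 f.ne_zero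
        omega
      · ext i j
        fin_cases i <;> fin_cases j <;>
          simp [CfsgLib.GLClass.ThreeCover.xthree, pow_succ, Matrix.mul_apply, Fin.sum_univ_three]
      · intro d
        ext i j
        fin_cases i <;> fin_cases j <;>
          simp [CfsgLib.GLClass.ThreeCover.xthree, Matrix.mul_apply, Fin.sum_univ_three, diagonal]
    · have h4 : 4 ≤ Fintype.card F := by omega
      obtain ⟨t, ht⟩ : ∃ t : F, t ∉ ({0, 1, -1} : Finset F) := by
        by_contra hne
        simp only [not_exists, not_not] at hne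
        have h1 := Finset.card_le_card (show (Finset.univ : Finset F) ⊆ {0, 1, -1} from fun x _ => hne x)
        have h2 : ({0, 1, -1} : Finset F).card ≤ 3 := Finset.card_le_three
        rw [Finset.card_univ] at h1
        omega
      simp only [Finset.mem_insert, Finset.mem_singleton, not_or] at ht
      obtain ⟨ht0, ht1, ht2⟩ := ht
      have htt : t ≠ t⁻¹ := by
        intro h
        have h' : (t - 1) * (t + 1) = 0 := by
          have : t * t = 1 := by nth_rewrite 2 [h]; exact mul_inv_cancel₀ ht0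
          linear_combination this
        rcases mul_eq_zero.1 h' with h'' | h''
        · exact ht1 (sub_eq_zero.1 h'')
        · exact ht2 (eq_neg_of_add_eq_zero_left h'')
      refine ⟨diagonal ![1, t, t⁻¹], Fintype.card F - 1, ?_, ?_, ?_, ?_,
        CfsgLib.GLClass.ThreeCover.cover_generic (Ne.symm ht1)
          (fun h => ht1 (inv_eq_one.1 h.symm)) htt (by field_simp)⟩
      · simp [det_diagonal, Fin.prod_univ_three, ht0]
      · intro hd
        rw [hf] at hd
        have h1 : p ∣ p ^ (f : ℕ) := dvd_pow_self p f.ne_zero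
        have h2 := Nat.dvd_sub h1 hd
        rw [Nat.sub_sub_self (Nat.one_le_pow _ _ hp.pos)] at h2
        exact hp.one_lt.ne' (Nat.dvd_one.1 h2)
      · rw [diagonal_pow, ← diagonal_one]
        congr 1
        funext i
        fin_cases i <;> simp [FiniteField.pow_card_sub_one_eq_one, ht0]
      · intro d
        rw [diagonal_mul_diagonal, diagonal_mul_diagonal]
        congr 1; funext i; ring
  let x0 : Matrix.SpecialLinearGroup (Fin 3) F := ⟨X, hX⟩
  let π := QuotientGroup.mk' (Subgroup.center (Matrix.SpecialLinearGroup (Fin 3) F))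
  refine ⟨π x0, fun hd => ?_, fun g hg => ?_⟩
  · have h1 : x0 ^ k = 1 := Subtype.ext (by rw [Matrix.SpecialLinearGroup.coe_pow]; exact hXk)
    exact hpk (hd.trans ((orderOf_map_dvd π x0).trans (orderOf_dvd_of_pow_eq_one h1)))
  obtain ⟨A, rfl⟩ := QuotientGroup.mk'_surjective _ g
  have hnsc : ¬ ∃ e : F, A.1 = e • 1 := by
    rintro ⟨e, he⟩
    refine hg ((QuotientGroup.eq_one_iff A).2 (Subgroup.mem_center_iff.2 fun B => Subtype.ext ?_))
    show B.1 * A.1 = A.1 * B.1
    rw [he]
    simp
  obtain ⟨P, Q, hP, hQ, hPQ⟩ := hcov A.1 hnsc A.2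
  have key : ∀ P : Matrix (Fin 3) (Fin 3) F, P.det ≠ 0 →
      ∃ u : Matrix.SpecialLinearGroup (Fin 3) F, (u * x0 * u⁻¹).1 = P * X * P⁻¹ := by
    intro P hP
    set D : Matrix (Fin 3) (Fin 3) F := diagonal ![1, 1, P.det⁻¹] with hD
    have hPD : (P * D).det = 1 := by
      rw [det_mul, hD, det_diagonal]; simp [Fin.prod_univ_three, hP]
    let u : Matrix.SpecialLinearGroup (Fin 3) F := ⟨P * D, hPD⟩
    refine ⟨u, ?_⟩
    have h1 : (u * x0 * u⁻¹).1 * u.1 = u.1 * X := by
      rw [← Matrix.SpecialLinearGroup.coe_mul, inv_mul_cancel_right,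
        Matrix.SpecialLinearGroup.coe_mul]
    have hDd : IsUnit D.det := by
      rw [hD, det_diagonal]; simp [Fin.prod_univ_three, hP]
    have hu : IsUnit u.1.det := by rw [u.2]; exact isUnit_one
    have h2 : (u * x0 * u⁻¹).1 = u.1 * X * u.1⁻¹ := by
      rw [← h1, Matrix.mul_assoc, mul_nonsing_inv _ hu, Matrix.mul_one]
    rw [h2]
    show P * D * X * (P * D)⁻¹ = _
    rw [Matrix.mul_inv_rev, Matrix.mul_assoc P D X, hD, hcomm, ← hD]
    simp only [Matrix.mul_assoc]
    rw [← Matrix.mul_assoc D D⁻¹, mul_nonsing_inv _ hDd, Matrix.one_mul]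
  obtain ⟨u, hu⟩ := key P hP
  obtain ⟨v, hv⟩ := key Q hQ
  refine ⟨π u, π v, ?_⟩
  have hA : A = u * x0 * u⁻¹ * (v * x0 * v⁻¹) :=
    Subtype.ext (by rw [Matrix.SpecialLinearGroup.coe_mul, hu, hv]; exact hPQ)
  show π A = _
  rw [hA]
  simp [map_mul, map_inv]

end Cfsg.Agent.S2459
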