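import Cfsg.Statements.S2460
import Cfsg.Agent.Lib.SpFourCover.Main

set_option autoImplicit false
open Cfsg Matrix CfsgLib.SpFourCover

namespace Cfsg.Agent.S2460

theorem not_dvd_order_A {F : Type*} [Field F] (p : ℕ) [Fact p.Prime] [CharP F p] (P : Par F)
    (k : ℕ) (h : (P.A ^ k) ^ p = 1) : P.A ^ k = 1 := by
  have hp : p.Prime := Fact.out
  obtain ⟨a, b, hab⟩ : ∃ a b : F, P.A ^ k = a • 1 + b • P.A := by
    clear h
    induction k with
    | zero => exact ⟨1, 0, by simp⟩
    | succ n ih =>
      obtain ⟨a, b, h⟩ := ih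
      refine ⟨-(b * P.d), a + b * P.t, ?_⟩
      rw [pow_succ, h]
      ext i j
      fin_cases i <;> fin_cases j <;>
        simp [Par.A, CfsgLib.SpFourCover.comp, Matrix.mul_apply, Fin.sum_univ_two] <;> ring
  have hY : (P.A ^ k - 1) ^ p = 0 := by
    haveI : CharP (Matrix (Fin 2) (Fin 2) F) p := inferInstance
    rw [sub_pow_char_of_commute p (Commute.one_right (P.A ^ k)), h, one_pow, sub_self]
  have hd : (P.A ^ k - 1).det = 0 := by
    have := congrArg Matrix.det hY
    rw [det_pow, det_zero] at this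
    exact eq_zero_of_pow_eq_zero this
  have hd' : (a - 1) * (a - 1) + P.t * (a - 1) * b + P.d * b * b = 0 := by
    rw [hab, det_fin_two] at hd
    simp [Par.A, CfsgLib.SpFourCover.comp] at hd
    linear_combination hd
  have hb : b = 0 := by
    by_contra hb
    refine P.root (-(a - 1) / b) ?_
    field_simp
    linear_combination hd'
  have ha : a = 1 := by
    rw [hb] at hd'
    exact sub_eq_zero.1 (mul_self_eq_zero.1 (by linear_combination hd' : (a - 1) * (a - 1) = 0))
  rw [hab, ha, hb]
  simp

theorem dg_pow {F : Type*} [Field F] (A : Matrix (Fin 2) (Fin 2) F) :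
    ∀ k : ℕ, dg A ^ k = dg (A ^ k)
  | 0 => by simp [dg]
  | k + 1 => by rw [pow_succ, pow_succ, dg_pow A k, dg_mul]

/-- A form of Thompson's conjecture for the simple groups PSp(4,q), q ≥ 3 (covering the non-identity elements), with a semisimple class: for F a finite field of characteristic p with at least 3 elements there is an element x of PSp(4,F) of order prime to p such that every non-identity element of PSp(4,F) is a product of two conjugates of x. -/
theorem result {F : Type*} [Field F] [Fintype F] (p : ℕ) [Fact p.Prime] [CharP F p] (h3 : 3 ≤ Fintype.card F) :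
    ∃ x : Cfsg.PSp 2 F, ¬ p ∣ orderOf x ∧ ∀ g : Cfsg.PSp 2 F, g ≠ 1 → ∃ u v : Cfsg.PSp 2 F, g = (u * x * u⁻¹) * (v * x * v⁻¹) := by
  classical
  obtain ⟨P⟩ := Par.exists_par h3
  let xS : Matrix.symplecticGroup (Fin 2) F := ⟨dg P.A, dg_mem P.det_A_ne⟩
  refine ⟨QuotientGroup.mk xS, ?_, ?_⟩
  · intro hdvd
    have hx : p ∣ orderOf xS :=
      hdvd.trans (orderOf_map_dvd (QuotientGroup.mk' (Subgroup.center _)) xS)
    obtain ⟨k, hk⟩ := hx
    have hpos : 0 < orderOf xS := orderOf_pos xS
    have hk0 : 0 < k := Nat.pos_of_ne_zero fun h => by rw [h, mul_zero] at hk; omega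
    have hpow : (P.A ^ k) ^ p = 1 := by
      have h := pow_orderOf_eq_one xS
      have h' : dg P.A ^ orderOf xS = 1 := by
        have := congrArg Subtype.val h
        rw [SubmonoidClass.coe_pow] at this
        exact this
      rw [hk, mul_comm p k, pow_mul, dg_pow, dg_pow, dg, ← fromBlocks_one] at h'
      exact (fromBlocks_inj.1 h').1
    have hone := not_dvd_order_A p P k hpow
    have hxk : xS ^ k = 1 := by
      apply Subtype.ext
      simp [SubmonoidClass.coe_pow, xS, dg_pow, hone]
      simp [dg]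
    have h1 := Nat.le_of_dvd hk0 (orderOf_dvd_of_pow_eq_one hxk)
    have h2 : 2 * k ≤ p * k := Nat.mul_le_mul_right k (Fact.out : p.Prime).two_le
    omega
  · intro g hg
    induction g using QuotientGroup.induction_on with
    | _ G =>
      have hnegc : (⟨-1, SymplecticGroup.neg_mem (one_mem _)⟩ : Matrix.symplecticGroup (Fin 2) F) ∈
          Subgroup.center (Matrix.symplecticGroup (Fin 2) F) := by
        rw [Subgroup.mem_center_iff]
        intro y
        apply Subtype.ext
        simp
      have hG1 : (G : Matrix (Fin 2 ⊕ Fin 2) (Fin 2 ⊕ Fin 2) F) ≠ 1 := by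
        intro h
        exact hg (by rw [show G = 1 from Subtype.ext h]; rfl)
      have hGn : (G : Matrix (Fin 2 ⊕ Fin 2) (Fin 2 ⊕ Fin 2) F) ≠ -1 := by
        intro h
        apply hg
        rw [QuotientGroup.eq_one_iff]
        rw [show G = ⟨-1, SymplecticGroup.neg_mem (one_mem _)⟩ from Subtype.ext h]
        exact hnegc
      obtain ⟨e, X, Y, he, hX, hY, hXY⟩ := P.cover G.2 hG1 hGn
      have hlift : ∀ Z, Cj (dg P.A) Z → ∃ u : Matrix.symplecticGroup (Fin 2) F,
          ((u * xS * u⁻¹ : Matrix.symplecticGroup (Fin 2) F) :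
            Matrix (Fin 2 ⊕ Fin 2) (Fin 2 ⊕ Fin 2) F) = Z := by
        rintro Z ⟨a, ha, h⟩
        refine ⟨⟨a, ha⟩, ?_⟩
        simp only [Submonoid.coe_mul, SymplecticGroup.coe_inv', xS]
        rw [h, Matrix.mul_assoc, mul_nonsing_inv a (SymplecticGroup.symplectic_det ha),
          Matrix.mul_one]
      obtain ⟨u, hu⟩ := hlift X hX
      obtain ⟨v, hv⟩ := hlift Y hY
      refine ⟨QuotientGroup.mk u, QuotientGroup.mk v, ?_⟩
      simp only [← QuotientGroup.mk_mul, ← QuotientGroup.mk_inv]
      have hprod : ((u * xS * u⁻¹ * (v * xS * v⁻¹) : Matrix.symplecticGroup (Fin 2) F) :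
            Matrix (Fin 2 ⊕ Fin 2) (Fin 2 ⊕ Fin 2) F) = e := by
        rw [Submonoid.coe_mul, hu, hv, hXY]
      rcases he with rfl | rfl
      · rw [show G = u * xS * u⁻¹ * (v * xS * v⁻¹) from Subtype.ext hprod.symm]
      · rw [QuotientGroup.eq]
        have hGe : G⁻¹ * (u * xS * u⁻¹ * (v * xS * v⁻¹)) =
            ⟨-1, SymplecticGroup.neg_mem (one_mem _)⟩ := by
          rw [inv_mul_eq_iff_eq_mul]
          apply Subtype.ext
          rw [hprod, Submonoid.coe_mul]
          simp
        rw [hGe]
        exact hnegc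

end Cfsg.Agent.S2460
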