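import Cfsg.Statements.S2461
import Cfsg.Agent.Lib.Lie.G2Cover.Main
import Cfsg.Agent.S2460

set_option autoImplicit false
open Cfsg

namespace Cfsg.Agent.S2461

/-- A form of Thompson's conjecture for the simple Chevalley groups G₂(q), q ≥ 3 (covering the non-identity elements), with a semisimple class: for F a finite field of characteristic p with at least 3 elements there is an element x of the Chevalley group of type G₂ over F of order prime to p such that every non-identity element of that group is a product of two conjugates of x. -/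
theorem result {F : Type*} [Field F] [Fintype F] (p : ℕ) [Fact p.Prime] [CharP F p] (h3 : 3 ≤ Fintype.card F) :
    ∃ x : Cfsg.Lie.chevG2.group F, ¬ p ∣ orderOf x ∧ ∀ g : Cfsg.Lie.chevG2.group F, g ≠ 1 → ∃ u v : Cfsg.Lie.chevG2.group F, g = (u * x * u⁻¹) * (v * x * v⁻¹) := by
  obtain ⟨P, hP⟩ := CfsgLib.Lie.G2Cover.exists_par h3
  refine ⟨⟨CfsgLib.Lie.G2Cover.gl (CfsgLib.Lie.G2Cover.blockA P), CfsgLib.Lie.G2Cover.gl_mem _⟩, ?_, ?_⟩
  · rw [← Subgroup.orderOf_coe]
    intro hdvd
    obtain ⟨k, hk⟩ := hdvd.trans (orderOf_map_dvd CfsgLib.Lie.G2Cover.gl (CfsgLib.Lie.G2Cover.blockA P))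
    have hpos : 0 < orderOf (CfsgLib.Lie.G2Cover.blockA P) := orderOf_pos _
    have hk0 : 0 < k := Nat.pos_of_ne_zero fun h => by rw [h, mul_zero] at hk; omega
    have hpow : (P.A ^ k) ^ p = 1 := by
      rw [← pow_mul, mul_comm, ← hk, ← CfsgLib.Lie.G2Cover.blockA_pow, pow_orderOf_eq_one]
      rfl
    have hone := Cfsg.Agent.S2460.not_dvd_order_A p P k hpow
    have hxk : CfsgLib.Lie.G2Cover.blockA P ^ k = 1 := Units.ext (by
      rw [CfsgLib.Lie.G2Cover.blockA_pow, hone]; rfl)
    have h1 := Nat.le_of_dvd hk0 (orderOf_dvd_of_pow_eq_one hxk)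
    have h2 : 2 * k ≤ p * k := Nat.mul_le_mul_right k (Fact.out : p.Prime).two_le
    omega
  · intro g hg
    obtain ⟨a, ha, b, hb, e⟩ := CfsgLib.Lie.G2Cover.cover P h3 hP hg
    exact ⟨⟨a, ha⟩, ⟨b, hb⟩, Subtype.ext e⟩

end Cfsg.Agent.S2461
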