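import Cfsg.Statements.S2462
import Cfsg.Agent.Lib.Lie.TD4Cover.Exists

set_option autoImplicit false
open Cfsg

namespace Cfsg.Agent.S2462

/-- A form of Thompson's conjecture for the triality groups ³D₄(q) (covering the non-identity elements) with a semisimple class: for q a power of the prime p and K the field with q³ elements there is an element x of ³D₄(q) (realised over K) of order prime to p such that every non-identity element of ³D₄(q) is a product of two conjugates of x. -/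
theorem result {K : Type*} [Field K] [Fintype K] (p : ℕ) [Fact p.Prime] [CharP K p] (q : ℕ) (hq : IsPrimePow q) (hK : Fintype.card K = q ^ 3) :
    ∃ x : Cfsg.Lie.twistedD4 K q, ¬ p ∣ orderOf x ∧ ∀ g : Cfsg.Lie.twistedD4 K q, g ≠ 1 → ∃ u v : Cfsg.Lie.twistedD4 K q, g = (u * x * u⁻¹) * (v * x * v⁻¹) := by
  classical
  obtain ⟨θ, hθ⟩ := CfsgLib.Lie.Chev.Frob.exists_powEquiv (K := K) hq hK
  have h3 : ∀ t : K, θ (θ (θ t)) = t := CfsgLib.Lie.Chev.TD4.h3_of θ hθ hK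
  obtain ⟨x₀, hx₀, hcov⟩ := CfsgLib.Lie.TD4Cover.exists_datum θ hθ h3 hq hK
  refine ⟨⟨CfsgLib.Lie.TD4Cover.lv θ x₀, CfsgLib.Lie.TD4Cover.lv_mem θ h3 hθ x₀⟩, ?_, ?_⟩
  · rw [← Subgroup.orderOf_coe]
    intro hdvd
    exact CfsgLib.Lie.TD4Cover.not_dvd_order θ hx₀ (isOfFinOrder_of_finite x₀)
      (hdvd.trans (orderOf_map_dvd (CfsgLib.Lie.TD4Cover.lv θ) x₀))
  · intro g hg
    obtain ⟨a, ha, b, hb, e⟩ := CfsgLib.Lie.TD4Cover.cover θ h3 hθ
      (CfsgLib.Lie.TD4Cover.norm_surj θ hθ h3 hq hK) x₀ hx₀ hq hK hcov hg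
    exact ⟨⟨a, ha⟩, ⟨b, hb⟩, Subtype.ext e⟩

end Cfsg.Agent.S2462
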