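import Cfsg.Statements.S2466
import Mathlib


set_option autoImplicit false
open Cfsg

namespace Cfsg.Agent.S2466

/-- Adjacency of odd primes in the prime graph of the alternating groups: let r ≠ s be odd primes at most n. The alternating group of degree n has an element of order r·s if and only if r + s ≤ n. -/
theorem result (n r s : ℕ) (hr : r.Prime) (hs : s.Prime) (hr2 : r ≠ 2) (hs2 : s ≠ 2) (hrs : r ≠ s) (hrn : r ≤ n) (hsn : s ≤ n) :
    (r * s ∈ Set.range (orderOf : alternatingGroup (Fin n) → ℕ)) ↔ r + s ≤ n := by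
  classical
  constructor
  · rintro ⟨g, hg⟩
    rw [← Subgroup.orderOf_coe, ← Equiv.Perm.lcm_cycleType] at hg
    have hsum : (g : Equiv.Perm (Fin n)).cycleType.sum ≤ n := by
      rw [Equiv.Perm.sum_cycleType]
      exact (Finset.card_le_univ _).trans (le_of_eq (Fintype.card_fin n))
    have hprime : ∀ q : ℕ, q.Prime → q ∣ r * s → ∃ x ∈ (g : Equiv.Perm (Fin n)).cycleType, q ∣ x := fun q hq hd =>
      hq.prime.exists_mem_multiset_dvd ((hg ▸ hd).trans
        (Multiset.lcm_dvd.2 fun x hx => Multiset.dvd_prod hx))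
    obtain ⟨x, hx, hrx⟩ := hprime r hr (dvd_mul_right r s)
    obtain ⟨y, hy, hsy⟩ := hprime s hs (dvd_mul_left s r)
    have hpos : ∀ z ∈ (g : Equiv.Perm (Fin n)).cycleType, 0 < z := fun z hz => by
      have := Equiv.Perm.two_le_of_mem_cycleType hz; omega
    have h1 := Nat.le_of_dvd (hpos x hx) hrx
    have h2 := Nat.le_of_dvd (hpos y hy) hsy
    by_cases hxy : x = y
    · subst hxy
      have h3 := Nat.le_of_dvd (hpos x hx) ((Nat.coprime_primes hr hs).2 hrs |>.mul_dvd_of_dvd_of_dvd hrx hsy)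
      have h4 := Multiset.single_le_sum (fun z _ => Nat.zero_le z) x hx
      have := hr.two_le
      have := hs.two_le
      nlinarith
    · obtain ⟨T, hT⟩ := Multiset.exists_cons_of_mem hx
      have hy' : y ∈ T := by
        rw [hT, Multiset.mem_cons] at hy
        exact hy.resolve_left (Ne.symm hxy)
      have h4 := Multiset.single_le_sum (fun z _ => Nat.zero_le z) y hy'
      rw [hT, Multiset.sum_cons] at hsum
      omega
  · intro h
    obtain ⟨g, hg⟩ := (Equiv.Perm.exists_with_cycleType_iff (Fin n) (m := {r, s})).2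
      ⟨by simpa using h, by simp [hr.two_le, hs.two_le]⟩
    obtain ⟨i, hi⟩ := hr.odd_of_ne_two hr2
    obtain ⟨j, hj⟩ := hs.odd_of_ne_two hs2
    have hA : g ∈ alternatingGroup (Fin n) := by
      rw [Equiv.Perm.mem_alternatingGroup, Equiv.Perm.sign_of_cycleType, hg]
      apply Even.neg_one_pow
      exact ⟨i + j + 2, by simp; omega⟩
    refine ⟨⟨g, hA⟩, ?_⟩
    rw [Subgroup.orderOf_mk, ← Equiv.Perm.lcm_cycleType, hg]
    simp [lcm_eq_nat_lcm, ((Nat.coprime_primes hr hs).2 hrs).lcm_eq_mul]

end Cfsg.Agent.S2466
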