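import Cfsg.Statements.S2467
import Mathlib


set_option autoImplicit false
open Cfsg

namespace Cfsg.Agent.S2467

/-- Adjacency of 2 and an odd prime in the prime graph of the alternating groups: let r be an odd prime at most n, with n ≥ 4. The alternating group of degree n has an element of order 2r if and only if r + 4 ≤ n. -/
theorem result (n r : ℕ) (hn : 4 ≤ n) (hr : r.Prime) (hr2 : r ≠ 2) (hrn : r ≤ n) :
    (2 * r ∈ Set.range (orderOf : alternatingGroup (Fin n) → ℕ)) ↔ r + 4 ≤ n := by
  classical
  obtain ⟨i, hi⟩ := hr.odd_of_ne_two hr2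
  constructor
  · rintro ⟨g, hg⟩
    have hsign := g.2
    rw [Equiv.Perm.mem_alternatingGroup, Equiv.Perm.sign_of_cycleType,
      neg_one_pow_eq_one_iff_even (by decide)] at hsign
    rw [← Subgroup.orderOf_coe, ← Equiv.Perm.lcm_cycleType] at hg
    have hsum : (g : Equiv.Perm (Fin n)).cycleType.sum ≤ n := by
      rw [Equiv.Perm.sum_cycleType]
      exact (Finset.card_le_univ _).trans (le_of_eq (Fintype.card_fin n))
    have hprime : ∀ q : ℕ, q.Prime → q ∣ 2 * r → ∃ x ∈ (g : Equiv.Perm (Fin n)).cycleType, q ∣ x := fun q hq hd =>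
      hq.prime.exists_mem_multiset_dvd ((hg ▸ hd).trans
        (Multiset.lcm_dvd.2 fun x hx => Multiset.dvd_prod hx))
    obtain ⟨x, hx, hrx⟩ := hprime r hr (dvd_mul_left r 2)
    obtain ⟨y, hy, h2y⟩ := hprime 2 Nat.prime_two (dvd_mul_right 2 r)
    have hx2 := Equiv.Perm.two_le_of_mem_cycleType hx
    have hy2 := Equiv.Perm.two_le_of_mem_cycleType hy
    obtain ⟨T, hT⟩ := Multiset.exists_cons_of_mem hx
    rw [hT, Multiset.sum_cons, Multiset.card_cons] at hsign
    rw [hT, Multiset.sum_cons] at hsum
    have hT2 : ∀ z ∈ T, 2 ≤ z := fun z hz =>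
      Equiv.Perm.two_le_of_mem_cycleType (hT ▸ Multiset.mem_cons_of_mem hz)
    rw [Nat.even_iff] at hsign
    obtain ⟨c, hc⟩ := hrx
    by_cases hxe : x % 2 = 0
    · have hc2 : 2 ≤ c := by
        rcases c with - | c
        · omega
        rcases c with - | c
        · omega
        · omega
      have : 2 * r ≤ x := by rw [hc, mul_comm 2 r]; exact Nat.mul_le_mul_left r hc2
      rcases Multiset.empty_or_exists_mem T with hT0 | ⟨z, hz⟩
      · rw [hT0] at hsign
        simp at hsign
        omega
      · have := hT2 z hz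
        have := Multiset.single_le_sum (fun z _ => Nat.zero_le z) z hz
        have := hr.two_le
        omega
    · have hrle : r ≤ x := Nat.le_of_dvd (by omega) ⟨c, hc⟩
      have hyT : y ∈ T := by
        rw [hT, Multiset.mem_cons] at hy
        refine hy.resolve_left ?_
        rintro rfl
        omega
      obtain ⟨U, hU⟩ := Multiset.exists_cons_of_mem hyT
      rw [hU, Multiset.sum_cons] at hsum
      rw [hU, Multiset.sum_cons, Multiset.card_cons] at hsign
      rcases Multiset.empty_or_exists_mem U with hU0 | ⟨z, hz⟩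
      · rw [hU0] at hsign
        simp at hsign
        omega
      · have := hT2 z (hU ▸ Multiset.mem_cons_of_mem hz)
        have := Multiset.single_le_sum (fun z _ => Nat.zero_le z) z hz
        omega
  · intro h
    obtain ⟨g, hg⟩ := (Equiv.Perm.exists_with_cycleType_iff (Fin n) (m := {r, 2, 2})).2
      ⟨by simpa [add_assoc] using h, by simp [hr.two_le]⟩
    have hA : g ∈ alternatingGroup (Fin n) := by
      rw [Equiv.Perm.mem_alternatingGroup, Equiv.Perm.sign_of_cycleType, hg]
      apply Even.neg_one_pow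
      exact ⟨i + 4, by simp; omega⟩
    refine ⟨⟨g, hA⟩, ?_⟩
    rw [Subgroup.orderOf_mk, ← Equiv.Perm.lcm_cycleType, hg]
    simp [lcm_eq_nat_lcm, ((Nat.coprime_primes hr Nat.prime_two).2 hr2).lcm_eq_mul, mul_comm]

end Cfsg.Agent.S2467
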