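import Cfsg.Statements.S2468
import Cfsg.Agent.Lib.Classical.AdjacencyExist
import Cfsg.Agent.Lib.Classical.ThreeSpectra

set_option autoImplicit false
open Cfsg

namespace Cfsg.Agent.S2468

/-- Adjacency of two odd primes in the prime graph of PSL(n,q): let F be a finite field of characteristic p with q elements, n ≥ 2 with PSL(n,F) simple, and let r ≠ s be odd primes different from p dividing the order of PSL(n,F). Let k and l be the multiplicative orders of q modulo r and modulo s, and suppose 2 ≤ k ≤ l. Then PSL(n,F) has NO element of order r·s if and only if k + l > n and k does not divide l. -/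
theorem result {F : Type*} [Field F] [Fintype F] (p : ℕ) [Fact p.Prime] [CharP F p] (n : ℕ) (hn : 2 ≤ n) (hsmall : n = 2 → 4 ≤ Fintype.card F)
    (r s : ℕ) (hr : r.Prime) (hs : s.Prime) (hr2 : r ≠ 2) (hs2 : s ≠ 2) (hrp : r ≠ p) (hsp : s ≠ p) (hrs : r ≠ s)
    (hrG : r ∣ Nat.card (Matrix.ProjectiveSpecialLinearGroup (Fin n) F)) (hsG : s ∣ Nat.card (Matrix.ProjectiveSpecialLinearGroup (Fin n) F))
    (k l : ℕ) (hk : k = orderOf ((Fintype.card F : ℕ) : ZMod r)) (hl : l = orderOf ((Fintype.card F : ℕ) : ZMod s))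
    (h2k : 2 ≤ k) (hkl : k ≤ l) :
    (r * s ∉ Set.range (orderOf : Matrix.ProjectiveSpecialLinearGroup (Fin n) F → ℕ)) ↔ (n < k + l ∧ ¬ k ∣ l) := by
  classical
  have hrk : r.Coprime (Fintype.card F - 1) := CfsgLib.Classical.Adjacency.coprime_sub_one_of_two_le hr (hk ▸ h2k)
  have hsl : s.Coprime (Fintype.card F - 1) := CfsgLib.Classical.Adjacency.coprime_sub_one_of_two_le hs (hl ▸ h2k.trans hkl)
  have hrs' : r.Coprime s := (Nat.coprime_primes hr hs).2 hrs
  have hln : l ≤ n := by
    haveI := Fact.mk hs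
    haveI : Finite (Matrix.SpecialLinearGroup (Fin n) F) := Finite.of_injective (fun X => X.1) Subtype.val_injective
    obtain ⟨x, hx⟩ := exists_prime_orderOf_dvd_card' (G := Matrix.ProjectiveSpecialLinearGroup (Fin n) F) s hsG
    obtain ⟨A, hA0, hA, -⟩ := CfsgLib.Classical.Adjacency.psl_lift hx
    have := CfsgLib.Classical.RootOrbits.one_prime p A.1 hs hsp hA0 hA
    rwa [Fintype.card_fin, ← hl] at this
  constructor
  · intro hnot
    by_contra hcon
    refine hnot ?_
    by_cases hkl' : k ∣ l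
    · obtain ⟨A, hA⟩ := CfsgLib.Classical.Adjacency.exists_sl (F := F) l (r * s) (by omega)
        (hrs'.mul_dvd_of_dvd_of_dvd (CfsgLib.Classical.Adjacency.dvd_pow_sub_one_iff.2 (hk ▸ hkl'))
          (CfsgLib.Classical.Adjacency.dvd_pow_sub_one_iff.2 (hl ▸ dvd_rfl))) (hrk.mul_left hsl)
      exact ⟨_, CfsgLib.Classical.Adjacency.psl_order_of_coprime
        (A := CfsgLib.Classical.Adjacency.slBlock l (n - l) n (by omega) (A, 1))
        (by rw [CfsgLib.Classical.Adjacency.orderOf_slBlock, hA, orderOf_one, Nat.lcm_one_right]) (hrk.mul_left hsl)⟩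
    · have hn' : k + l ≤ n := by
        by_contra h
        exact hcon ⟨by omega, hkl'⟩
      obtain ⟨A, hA⟩ := CfsgLib.Classical.Adjacency.exists_sl (F := F) k r (by omega)
        (CfsgLib.Classical.Adjacency.dvd_pow_sub_one_iff.2 (hk ▸ dvd_rfl)) hrk
      obtain ⟨B, hB⟩ := CfsgLib.Classical.Adjacency.exists_sl (F := F) l s (by omega)
        (CfsgLib.Classical.Adjacency.dvd_pow_sub_one_iff.2 (hl ▸ dvd_rfl)) hsl
      exact ⟨_, CfsgLib.Classical.Adjacency.psl_order_of_coprime
        (A := CfsgLib.Classical.Adjacency.slBlock k (n - k) n (by omega)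
          (A, CfsgLib.Classical.Adjacency.slBlock l (n - k - l) (n - k) (by omega) (B, 1)))
        (by rw [CfsgLib.Classical.Adjacency.orderOf_slBlock, CfsgLib.Classical.Adjacency.orderOf_slBlock, hA, hB,
          orderOf_one, Nat.lcm_one_right, hrs'.lcm_eq_mul]) (hrk.mul_left hsl)⟩
  · rintro ⟨hlt, hndvd⟩ ⟨x, hx⟩
    obtain ⟨A, hA0, hA, -⟩ := CfsgLib.Classical.Adjacency.psl_lift hx
    have h := CfsgLib.Classical.RootOrbits.two_primes p A.1 hr hs hrp hsp hrs hA0 hA
    rw [Fintype.card_fin, ← hk, ← hl] at h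
    rcases h with h | h
    · have hne : Nat.lcm k l ≠ l := fun e => hndvd (e ▸ Nat.dvd_lcm_left k l)
      obtain ⟨c, hc⟩ := Nat.dvd_lcm_right k l
      have : 2 ≤ c := by
        rcases c with _ | _ | c
        · have := Nat.lcm_ne_zero (show k ≠ 0 by omega) (show l ≠ 0 by omega)
          omega
        · omega
        · omega
      rw [hc] at h
      have := Nat.mul_le_mul_left l this
      omega
    · omega

end Cfsg.Agent.S2468
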