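import Cfsg.Statements.S2469
import Cfsg.Agent.Lib.Classical.AdjacencyExist
import Cfsg.Agent.Lib.Classical.ThreeSpectra

set_option autoImplicit false
open Cfsg

namespace Cfsg.Agent.S2469

/-- Adjacency of two odd primes in the prime graph of PSp(2n,q): let F be a finite field of characteristic p with q elements, n ≥ 2 with PSp(2n,F) simple, and let r ≠ s be odd primes different from p dividing the order of PSp(2n,F). Let k, l be the multiplicative orders of q modulo r and s, put η(m) = m for odd m and η(m) = m/2 for even m, and suppose η(k) ≤ η(l). Then PSp(2n,F) has NO element of order r·s if and only if η(k) + η(l) > n and l/k is not an odd integer. -/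
theorem result {F : Type*} [Field F] [Fintype F] (p : ℕ) [Fact p.Prime] [CharP F p] (n : ℕ) (hn : 2 ≤ n) (hsmall : n = 2 → 3 ≤ Fintype.card F)
    (r s : ℕ) (hr : r.Prime) (hs : s.Prime) (hr2 : r ≠ 2) (hs2 : s ≠ 2) (hrp : r ≠ p) (hsp : s ≠ p) (hrs : r ≠ s)
    (hrG : r ∣ Nat.card (Cfsg.PSp n F)) (hsG : s ∣ Nat.card (Cfsg.PSp n F))
    (k l ηk ηl : ℕ) (hk : k = orderOf ((Fintype.card F : ℕ) : ZMod r)) (hl : l = orderOf ((Fintype.card F : ℕ) : ZMod s))
    (hηk : (Odd k ∧ ηk = k) ∨ (Even k ∧ 2 * ηk = k)) (hηl : (Odd l ∧ ηl = l) ∨ (Even l ∧ 2 * ηl = l)) (hkl : ηk ≤ ηl) :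
    (r * s ∉ Set.range (orderOf : Cfsg.PSp n F → ℕ)) ↔ (n < ηk + ηl ∧ ¬ ∃ t : ℕ, Odd t ∧ l = k * t) := by
  classical
  have hp : p.Prime := Fact.out
  have hcr := CfsgLib.Classical.RootOrbits.coprime_card (F := F) p hr hrp
  have hcs := CfsgLib.Classical.RootOrbits.coprime_card (F := F) p hs hsp
  have hrs' : r.Coprime s := (Nat.coprime_primes hr hs).2 hrs
  have hetak : CfsgLib.Classical.RootOrbits.eta2 k = 2 * ηk := by
    rcases hηk with ⟨ho, rfl⟩ | ⟨he, h2⟩
    · rw [CfsgLib.Classical.RootOrbits.eta2, if_neg (Nat.not_even_iff_odd.2 ho)]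
    · rw [CfsgLib.Classical.RootOrbits.eta2, if_pos he, h2]
  have hetal : CfsgLib.Classical.RootOrbits.eta2 l = 2 * ηl := by
    rcases hηl with ⟨ho, rfl⟩ | ⟨he, h2⟩
    · rw [CfsgLib.Classical.RootOrbits.eta2, if_neg (Nat.not_even_iff_odd.2 ho)]
    · rw [CfsgLib.Classical.RootOrbits.eta2, if_pos he, h2]
  have hdr := CfsgLib.Classical.Adjacency.dvd_eta hr hcr hk hηk
  have hds := CfsgLib.Classical.Adjacency.dvd_eta hs hcs hl hηl
  have pos : ∀ {t j e : ℕ}, t.Prime → t ≠ 2 → ((Odd j ∧ t ∣ Fintype.card F ^ e - 1) ∨ (Even j ∧ t ∣ Fintype.card F ^ e + 1)) →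
      ((Odd j ∧ e = j) ∨ (Even j ∧ 2 * e = j)) → 1 ≤ e := by
    intro t j e ht ht2 hd he
    rcases Nat.eq_zero_or_pos e with h0 | h0
    · exfalso
      rcases hd with ⟨ho, -⟩ | ⟨-, h⟩
      · rcases he with ⟨-, he⟩ | ⟨-, he⟩ <;> obtain ⟨c, hc⟩ := ho <;> omega
      · rw [h0, pow_zero] at h
        exact ht2 ((Nat.prime_dvd_prime_iff_eq ht Nat.prime_two).1 h)
    · exact h0
  have hk1 := pos hr hr2 hdr hηk
  have hl1 := pos hs hs2 hds hηl
  have hln : ηl ≤ n := by
    haveI := Fact.mk hs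
    haveI : Finite (Matrix.symplecticGroup (Fin n) F) := Subtype.finite
    obtain ⟨x, hx⟩ := exists_prime_orderOf_dvd_card' (G := Cfsg.PSp n F) s hsG
    obtain ⟨A, hA0, hA, -⟩ := CfsgLib.Classical.Adjacency.psp_lift hx
    have h := CfsgLib.Classical.RootOrbits.one_prime' A.1 (CfsgLib.Classical.RootOrbits.eig_inv_symplectic A) p hs hs2 hsp hA0 hA
    rw [Fintype.card_sum, Fintype.card_fin, ← hl, hetal] at h
    omega
  have hodd : Odd (r * s) := (hr.odd_of_ne_two hr2).mul (hs.odd_of_ne_two hs2)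
  constructor
  · intro hnot
    by_contra hcon
    refine hnot ?_
    by_cases hsum : ηk + ηl ≤ n
    · obtain ⟨x, hx⟩ := CfsgLib.Classical.Adjacency.exists_sp (F := F) ηk hk1 (hdr.imp And.right And.right)
      obtain ⟨y, hy⟩ := CfsgLib.Classical.Adjacency.exists_sp (F := F) ηl hl1 (hds.imp And.right And.right)
      obtain ⟨z, hz⟩ := CfsgLib.Classical.Adjacency.exists_sp_block (show ηk + ηl = ηk + ηl from rfl) x y
        (by rw [hx, hy, hrs'.lcm_eq_mul])
      obtain ⟨w, hw⟩ := CfsgLib.Classical.Adjacency.exists_sp_block (show (ηk + ηl) + (n - (ηk + ηl)) = n by omega) z 1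
        (by rw [hz, orderOf_one, Nat.lcm_one_right])
      exact ⟨_, CfsgLib.Classical.Adjacency.psp_order p (by omega) hw (Or.inl hodd)⟩
    · push Not at hcon
      obtain ⟨t, ht, rfl⟩ := hcon (by omega)
      have hboth : r * s ∣ Fintype.card F ^ ηl - 1 ∨ r * s ∣ Fintype.card F ^ ηl + 1 := by
        rcases hds with ⟨hol, hs'⟩ | ⟨hel, hs'⟩
        · left
          refine hrs'.mul_dvd_of_dvd_of_dvd ?_ hs'
          rcases hηl with ⟨-, rfl⟩ | ⟨he, -⟩
          · exact CfsgLib.Classical.Adjacency.dvd_pow_sub_one_iff.2 (hk ▸ dvd_mul_right k t)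
          · exact absurd he (Nat.not_even_iff_odd.2 hol)
        · right
          refine hrs'.mul_dvd_of_dvd_of_dvd ?_ hs'
          have hek : Even k := (Nat.even_mul.1 hel).resolve_right (Nat.not_even_iff_odd.2 ht)
          rcases hdr with ⟨ho, -⟩ | ⟨-, hr'⟩
          · exact absurd hek (Nat.not_even_iff_odd.2 ho)
          rcases hηk with ⟨ho, -⟩ | ⟨-, h2k⟩
          · exact absurd hek (Nat.not_even_iff_odd.2 ho)
          rcases hηl with ⟨ho, -⟩ | ⟨-, h2l⟩
          · exact absurd hel (Nat.not_even_iff_odd.2 ho)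
          have he : ηl = ηk * t := by
            have : 2 * ηl = 2 * (ηk * t) := by rw [h2l, ← mul_assoc, h2k]
            omega
          rw [he, pow_mul]
          exact hr'.trans (by simpa using ht.nat_add_dvd_pow_add_pow (Fintype.card F ^ ηk) 1)
      obtain ⟨y, hy⟩ := CfsgLib.Classical.Adjacency.exists_sp (F := F) ηl hl1 hboth
      obtain ⟨w, hw⟩ := CfsgLib.Classical.Adjacency.exists_sp_block (show ηl + (n - ηl) = n by omega) y 1
        (by rw [hy, orderOf_one, Nat.lcm_one_right])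
      exact ⟨_, CfsgLib.Classical.Adjacency.psp_order p (by omega) hw (Or.inl hodd)⟩
  · rintro ⟨hlt, hnt⟩ ⟨x, hx⟩
    obtain ⟨A, hA0, hA, -⟩ := CfsgLib.Classical.Adjacency.psp_lift hx
    have h := CfsgLib.Classical.RootOrbits.two_primes' A.1 (CfsgLib.Classical.RootOrbits.eig_inv_symplectic A) p
      hr hs hr2 hs2 hrp hsp hrs hA0 hA
    rw [Fintype.card_sum, Fintype.card_fin, ← hk, ← hl, hetak, hetal] at h
    have hk0 : k ≠ 0 := by rcases hηk with ⟨-, e⟩ | ⟨-, e⟩ <;> omega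
    have hl0 : l ≠ 0 := by rcases hηl with ⟨-, e⟩ | ⟨-, e⟩ <;> omega
    obtain ⟨c, hc⟩ := Nat.dvd_lcm_right k l
    have hc0 : c ≠ 0 := fun e => Nat.lcm_ne_zero hk0 hl0 (by rw [hc, e, mul_zero])
    have hc2 : c = 1 ∨ 2 * l ≤ Nat.lcm k l := by
      rcases Nat.lt_or_ge c 2 with h2 | h2
      · left; omega
      · right; rw [hc, mul_comm 2 l]; exact Nat.mul_le_mul_left l h2
    rcases h with h | h | ⟨h, i, hik, hil, hik2, hil2⟩
    · omega
    · rcases hc2 with rfl | hc2
      · rw [mul_one] at hc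
        obtain ⟨t, ht⟩ : k ∣ l := hc ▸ Nat.dvd_lcm_left k l
        rcases hηl with ⟨hol, rfl⟩ | ⟨-, h2l⟩
        · exact hnt ⟨t, (Nat.odd_mul.1 (ht ▸ hol)).2, ht⟩
        · omega
      · rcases hηl with ⟨-, e⟩ | ⟨-, e⟩ <;> omega
    · have hel : Even l := by
        by_contra ho
        exact hil ((Nat.coprime_two_right.2 (Nat.not_even_iff_odd.1 ho)).dvd_of_dvd_mul_left hil2)
      obtain ⟨-, h2l⟩ := hηl.resolve_left fun h => (Nat.not_even_iff_odd.2 h.1) hel
      rcases hc2 with rfl | hc2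
      · rw [mul_one] at hc
        obtain ⟨t, ht⟩ : k ∣ l := hc ▸ Nat.dvd_lcm_left k l
        rcases Nat.even_or_odd t with ⟨u, hu⟩ | hto
        · obtain ⟨w, hw⟩ := hil2
          refine hik ⟨u * w, ?_⟩
          have : 2 * i = 2 * (k * (u * w)) := by rw [hw, ht, hu]; ring
          omega
        · exact hnt ⟨t, hto, ht⟩
      · omega

end Cfsg.Agent.S2469
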