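import Cfsg.Statements.S2470
import Cfsg.Agent.Lib.Classical.AdjacencyExist
import Cfsg.Agent.Lib.Classical.ThreeSpectra

set_option autoImplicit false
open Cfsg

namespace Cfsg.Agent.S2470

/-- Adjacency of an odd prime and the characteristic in the prime graph of PSL(n,q): let F be a finite field of characteristic p with q elements, n ≥ 2 with PSL(n,F) simple, and let r ≠ p be an odd prime dividing the order of PSL(n,F), with k the multiplicative order of q modulo r. Then PSL(n,F) has NO element of order r·p if and only if either k > n − 2, or n = 3, r = 3 and 3 divides q − 1 exactly once. -/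
theorem result {F : Type*} [Field F] [Fintype F] (p : ℕ) [Fact p.Prime] [CharP F p] (n : ℕ) (hn : 2 ≤ n) (hsmall : n = 2 → 4 ≤ Fintype.card F)
    (r : ℕ) (hr : r.Prime) (hr2 : r ≠ 2) (hrp : r ≠ p) (hrG : r ∣ Nat.card (Matrix.ProjectiveSpecialLinearGroup (Fin n) F))
    (k : ℕ) (hk : k = orderOf ((Fintype.card F : ℕ) : ZMod r)) :
    (r * p ∉ Set.range (orderOf : Matrix.ProjectiveSpecialLinearGroup (Fin n) F → ℕ)) ↔
      (n - 2 < k ∨ (n = 3 ∧ r = 3 ∧ 3 ∣ Fintype.card F - 1 ∧ ¬ 9 ∣ Fintype.card F - 1)) := by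
  classical
  have hp : p.Prime := Fact.out
  have hcq := CfsgLib.Classical.RootOrbits.coprime_card (F := F) p hr hrp
  have hrp' : r.Coprime p := (Nat.coprime_primes hr hp).2 hrp
  have hkpos : 1 ≤ k := by
    haveI := Fact.mk hr
    have hq : ((Fintype.card F : ℕ) : ZMod r) ≠ 0 := fun h0 =>
      (hr.coprime_iff_not_dvd.1 hcq) ((ZMod.natCast_eq_zero_iff _ r).1 h0)
    rw [hk]
    exact orderOf_pos_iff.2 (isOfFinOrder_iff_pow_eq_one.2 ⟨r - 1, Nat.sub_pos_of_lt hr.one_lt,
      ZMod.pow_card_sub_one_eq_one hq⟩)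
  constructor
  · intro hnot
    by_contra hcon
    push Not at hcon
    obtain ⟨hk2, hexc⟩ := hcon
    refine hnot ?_
    rcases Nat.lt_or_ge k 2 with hk1 | hk2'
    · have hrq : r ∣ Fintype.card F - 1 := by
        have := (CfsgLib.Classical.Adjacency.dvd_pow_sub_one_iff (F := F) (r := r) (j := 1)).2
          (by rw [← hk, show k = 1 by omega])
        rwa [pow_one] at this
      rcases Nat.lt_or_ge n 4 with hn4 | hn4
      · obtain rfl : n = 3 := by omega
        obtain ⟨g, hg⟩ := CfsgLib.Classical.ThreeSpectra.exists_p_mul (F := F) p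
        have hd : r ∣ (Fintype.card F - 1) / Nat.gcd 3 (Fintype.card F - 1) := by
          by_cases hr3 : r = 3
          · subst hr3
            have h9 := hexc rfl rfl hrq
            rw [Nat.gcd_eq_left hrq]
            exact Nat.dvd_div_of_mul_dvd h9
          · refine Nat.Coprime.dvd_of_dvd_mul_left ((Nat.coprime_primes hr Nat.prime_three).2 hr3) ?_
            exact hrq.trans (CfsgLib.Classical.ThreeSpectra.dvd_three_mul_div _)
        rw [Nat.mul_div_assoc _ (Nat.gcd_dvd_right _ _)] at hg
        refine ⟨g ^ (orderOf g / (r * p)), orderOf_pow_orderOf_div (orderOf_pos g).ne' ?_⟩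
        rw [hg, mul_comm r p]
        exact mul_dvd_mul_left p hd
      · obtain ⟨A, hA⟩ := CfsgLib.Classical.Adjacency.exists_sl_two hrq
        exact ⟨_, CfsgLib.Classical.Adjacency.psl_order_block_transv p (a := 2) (b := n - 2) (n := n) (by omega)
          (by omega) hA hrp'⟩
    · obtain ⟨A, hA⟩ := CfsgLib.Classical.Adjacency.exists_sl (F := F) k r (by omega)
        (CfsgLib.Classical.Adjacency.dvd_pow_sub_one_iff.2 (hk ▸ dvd_rfl))
        (CfsgLib.Classical.Adjacency.coprime_sub_one_of_two_le hr (hk ▸ hk2'))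
      exact ⟨_, CfsgLib.Classical.Adjacency.psl_order_block_transv p (a := k) (b := n - k) (n := n) (by omega)
        (by omega) hA hrp'⟩
  · rintro hcond ⟨x, hx⟩
    rcases hcond with hlt | ⟨rfl, rfl, h3, h9⟩
    · obtain ⟨A, hA0, hA, -⟩ := CfsgLib.Classical.Adjacency.psl_lift hx
      rcases Nat.lt_or_ge k 2 with hk1 | hk2'
      · obtain rfl : n = 2 := by omega
        obtain ⟨a, ha, har⟩ := CfsgLib.Classical.RootOrbits.exists_order_dvd p A.1 hr hrp hA0 (dvd_of_mul_right_dvd hA)
        obtain ⟨b, hb, hb2⟩ := CfsgLib.Classical.RootOrbits.exists_double p A.1 hA0 (dvd_of_mul_left_dvd hA)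
        have hall : ∀ x ∈ CfsgLib.Classical.RootOrbits.eig A.1, b = x := Multiset.count_eq_card.1
          (le_antisymm (Multiset.count_le_card _ _)
            (by rw [CfsgLib.Classical.RootOrbits.card_eig, Fintype.card_fin]; exact hb2))
        have heq : CfsgLib.Classical.RootOrbits.eig A.1 = Multiset.replicate 2 b :=
          Multiset.eq_replicate.2 ⟨by rw [CfsgLib.Classical.RootOrbits.card_eig, Fintype.card_fin],
            fun x hx => (hall x hx).symm⟩
        have hdet := CfsgLib.Classical.RootOrbits.prod_eig A.1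
        rw [A.2, map_one, heq, Multiset.prod_replicate, hall a ha] at hdet
        exact hr2 ((Nat.prime_dvd_prime_iff_eq hr Nat.prime_two).1 (har.trans (orderOf_dvd_of_pow_eq_one hdet.symm)))
      · have h := CfsgLib.Classical.RootOrbits.prime_char p A.1 hr hrp hA0 hA
        rw [Fintype.card_fin, ← hk] at h
        omega
    · have h := CfsgLib.Classical.ThreeSpectra.psl_upper p x
      simp only [hx] at h
      have hpq : ¬ p ∣ Fintype.card F - 1 :=
        hp.coprime_iff_not_dvd.1 (CfsgLib.Classical.Adjacency.coprime_card_sub_one p)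
      obtain ⟨f, -, hf⟩ := FiniteField.card F p
      have hpQ : p ∣ Fintype.card F := hf ▸ dvd_pow_self p f.pos.ne'
      have hg : Nat.gcd 3 (Fintype.card F - 1) = 3 := Nat.gcd_eq_left h3
      rw [hg] at h
      have hp3 : ∀ {N : ℕ}, 3 * p ∣ N → p ∣ N := fun h => dvd_of_mul_left_dvd h
      rcases h with h | h | h | h | ⟨rfl, h⟩
      · have h1 := (hp3 h).trans (Nat.div_dvd_of_dvd (CfsgLib.Absorb.gcd_dvd_geo (F := F) (n := 3) |> fun e => by
          simpa [hg, Finset.sum_range_succ, pow_two, add_comm, add_left_comm, add_assoc] using e))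
        have h2 : p ∣ Fintype.card F ^ 2 + Fintype.card F := dvd_add (dvd_pow hpQ two_ne_zero) hpQ
        exact hp.not_dvd_one ((Nat.dvd_add_right h2).1 h1)
      · have h1 := (hp3 h).trans (Nat.div_dvd_of_dvd (h3.trans (Nat.sub_one_dvd_pow_sub_one _ 2)))
        have h2 := Nat.dvd_sub (dvd_pow hpQ two_ne_zero) h1
        rw [Nat.sub_sub_self (Nat.one_le_pow _ _ Fintype.card_pos)] at h2
        exact hp.not_dvd_one h2
      · exact hpq (hp3 h)
      · rw [mul_comm 3 p, Nat.mul_div_assoc _ h3, Nat.mul_dvd_mul_iff_left hp.pos] at h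
        exact h9 (Nat.mul_dvd_of_dvd_div h3 h)
      · norm_num at h

end Cfsg.Agent.S2470
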