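import Cfsg.Statements.S2471
import Cfsg.Agent.Lib.Char.TwoByTwoOrders

set_option autoImplicit false
open Cfsg

namespace Cfsg.Agent.S2471

/-- In PSL(2,q) with q odd, the characteristic p is isolated from 2 in the prime graph: for F a finite field of odd characteristic p with at least 5 elements, PSL(2,F) has no element of order 2p. -/
theorem result {F : Type*} [Field F] [Fintype F] (p : ℕ) [Fact p.Prime] [CharP F p] (hp : p ≠ 2) (h5 : 5 ≤ Fintype.card F) (g : Matrix.ProjectiveSpecialLinearGroup (Fin 2) F) :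
    orderOf g ≠ 2 * p := by
  intro hg
  have hp2 : 2 < p := lt_of_le_of_ne (Fact.out : p.Prime).two_le (Ne.symm hp)
  obtain ⟨n, hpp, hn⟩ := FiniteField.card F p
  have hpq : p ∣ Fintype.card F := hn ▸ dvd_pow_self p n.ne_zero
  have ho : Fintype.card F % 2 = 1 := by
    rw [hn]; exact Nat.odd_iff.1 ((hpp.odd_of_ne_two hp).pow)
  have hcon : ∀ {N : ℕ}, 2 * p ∣ N → 2 * N = Fintype.card F - 1 ∨ 2 * N = Fintype.card F + 1 → False := by
    intro N h hN
    have h1 : p ∣ 2 * N := ((dvd_mul_left p 2).trans h).mul_left 2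
    rcases hN with hN | hN <;> rw [hN] at h1
    · exact hpp.not_dvd_one (by simpa [show Fintype.card F - (Fintype.card F - 1) = 1 by omega] using Nat.dvd_sub hpq h1)
    · exact hpp.not_dvd_one ((Nat.dvd_add_right hpq).1 h1)
  rcases CfsgLib.Char.TwoByTwo.psl_pow_cases ho (p := p) g with h | h | h <;>
    have h' := hg ▸ orderOf_dvd_of_pow_eq_one h
  · have := Nat.le_of_dvd hpp.pos h'
    omega
  · exact hcon h' (Or.inl (by omega))
  · exact hcon h' (Or.inr (by omega))

end Cfsg.Agent.S2471
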