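import Cfsg.Statements.S2472
import Cfsg.Agent.Lib.Classical.AdjacencyExist
import Cfsg.Agent.Lib.Classical.ThreeSpectra

set_option autoImplicit false
open Cfsg

namespace Cfsg.Agent.S2472

/-- Adjacency of a prime and the characteristic in the prime graph of PSp(2n,q): let F be a finite field of characteristic p with q elements, n ≥ 2 with PSp(2n,F) simple, and let r ≠ p be an odd prime dividing the order of PSp(2n,F), with k the multiplicative order of q modulo r and η(k) = k for odd k, k/2 for even k. Then PSp(2n,F) has NO element of order r·p if and only if η(k) > n − 1. -/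
theorem result {F : Type*} [Field F] [Fintype F] (p : ℕ) [Fact p.Prime] [CharP F p] (n : ℕ) (hn : 2 ≤ n) (hsmall : n = 2 → 3 ≤ Fintype.card F)
    (r : ℕ) (hr : r.Prime) (hr2 : r ≠ 2) (hrp : r ≠ p) (hrG : r ∣ Nat.card (Cfsg.PSp n F))
    (k ηk : ℕ) (hk : k = orderOf ((Fintype.card F : ℕ) : ZMod r)) (hηk : (Odd k ∧ ηk = k) ∨ (Even k ∧ 2 * ηk = k)) :
    (r * p ∉ Set.range (orderOf : Cfsg.PSp n F → ℕ)) ↔ n - 1 < ηk := by
  classical
  have hp : p.Prime := Fact.out
  have hcq := CfsgLib.Classical.RootOrbits.coprime_card (F := F) p hr hrp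
  have hrp' : r.Coprime p := (Nat.coprime_primes hr hp).2 hrp
  have heta : CfsgLib.Classical.RootOrbits.eta2 k = 2 * ηk := by
    rcases hηk with ⟨ho, rfl⟩ | ⟨he, h2⟩
    · rw [CfsgLib.Classical.RootOrbits.eta2, if_neg (Nat.not_even_iff_odd.2 ho)]
    · rw [CfsgLib.Classical.RootOrbits.eta2, if_pos he, h2]
  have hdvd : r ∣ Fintype.card F ^ ηk - 1 ∨ r ∣ Fintype.card F ^ ηk + 1 :=
    (CfsgLib.Classical.Adjacency.dvd_eta hr hcq hk hηk).imp And.right And.right
  have hη1 : 1 ≤ ηk := by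
    rcases Nat.eq_zero_or_pos ηk with h0 | h0
    · exfalso
      rcases CfsgLib.Classical.Adjacency.dvd_eta hr hcq hk hηk with ⟨ho, -⟩ | ⟨-, h⟩
      · rcases hηk with ⟨-, he⟩ | ⟨-, he⟩ <;> obtain ⟨c, hc⟩ := ho <;> omega
      · rw [h0, pow_zero] at h
        exact hr2 ((Nat.prime_dvd_prime_iff_eq hr Nat.prime_two).1 h)
    · exact h0
  constructor
  · intro hnot
    by_contra hle
    refine hnot ?_
    obtain ⟨x, hx⟩ := CfsgLib.Classical.Adjacency.exists_sp (F := F) ηk hη1 hdvd
    obtain ⟨y, hy⟩ := CfsgLib.Classical.Adjacency.exists_sp_char (F := F) p (n - ηk) (by omega)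
    obtain ⟨z, hz⟩ := CfsgLib.Classical.Adjacency.exists_sp_block (show ηk + (n - ηk) = n by omega) x y
      (by rw [hx, hy, hrp'.lcm_eq_mul])
    refine ⟨_, CfsgLib.Classical.Adjacency.psp_order p (by omega) hz ?_⟩
    rcases hp.eq_two_or_odd' with rfl | ho
    · exact Or.inr rfl
    · exact Or.inl ((hr.odd_of_ne_two hr2).mul ho)
  · rintro hlt ⟨x, hx⟩
    obtain ⟨A, hA0, hA, -⟩ := CfsgLib.Classical.Adjacency.psp_lift hx
    have h := CfsgLib.Classical.RootOrbits.prime_char' A.1 (CfsgLib.Classical.RootOrbits.eig_inv_symplectic A) p hr hr2 hrp hA0 hA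
    rw [Fintype.card_sum, Fintype.card_fin, ← hk, heta] at h
    omega

end Cfsg.Agent.S2472
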