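import Cfsg.Statements.S2474
import Cfsg.Agent.Lib.Classical.OddSpectrum

set_option autoImplicit false
open Cfsg

namespace Cfsg.Agent.S2474

/-- For q odd and n ≥ 3 the simple groups PΩ(2n+1,q) and PSp(2n,q) (which have the same order but different sets of element orders) have the same prime graph: for all distinct primes r, s, one of them has an element of order r·s if and only if the other does. -/
theorem result {F : Type*} [Field F] [Fintype F] (hodd : Odd (Fintype.card F)) (n : ℕ) (hn : 3 ≤ n) (r s : ℕ) (hr : r.Prime) (hs : s.Prime) (hrs : r ≠ s) :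
    (r * s ∈ Set.range (orderOf : Cfsg.POmega F (Cfsg.quadFormOdd n F) → ℕ)) ↔ (r * s ∈ Set.range (orderOf : Cfsg.PSp n F → ℕ)) := by
  classical
  obtain ⟨p, hp⟩ := CharP.exists F
  haveI : Fact p.Prime := ⟨CharP.char_is_prime F p⟩
  have h2 : (2 : F) ≠ 0 := CfsgLib.Orth.two_ne_zero_of_odd hodd
  have hp2 : p ≠ 2 := fun h => h2 (by subst h; exact CharTwo.two_eq_zero)
  have two : ∀ t : ℕ, t.Prime → t ≠ 2 → ((2 * t ∈ Set.range (orderOf : Cfsg.POmega F (Cfsg.quadFormOdd n F) → ℕ)) ↔
      (2 * t ∈ Set.range (orderOf : Cfsg.PSp n F → ℕ))) := fun t ht ht2 => by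
    by_cases htp : t = p
    · subst htp
      exact iff_of_true (CfsgLib.Classical.OddSpectrum.omega_two_p t h2 hn)
        (CfsgLib.Classical.OddSpectrum.psp_two_p t h2 hn)
    · rw [CfsgLib.Classical.OddSpectrum.omega_two_r p h2 hn ht ht2 htp,
        CfsgLib.Classical.OddSpectrum.psp_two_r p h2 hn ht ht2 htp]
  by_cases hr2 : r = 2
  · subst hr2
    exact two s hs hrs.symm
  by_cases hs2 : s = 2
  · subst hs2
    rw [mul_comm]
    exact two r hr hr2
  by_cases hrp : r = p
  · subst hrp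
    rw [mul_comm, CfsgLib.Classical.OddSpectrum.omega_rp r h2 hn hs hs2 hrs.symm,
      CfsgLib.Classical.OddSpectrum.psp_rp r h2 hn hs hs2 hrs.symm]
  by_cases hsp : s = p
  · subst hsp
    rw [CfsgLib.Classical.OddSpectrum.omega_rp s h2 hn hr hr2 hrs,
      CfsgLib.Classical.OddSpectrum.psp_rp s h2 hn hr hr2 hrs]
  rw [CfsgLib.Classical.OddSpectrum.omega_rs p h2 hn hr hs hr2 hs2 hrp hsp hrs,
    CfsgLib.Classical.OddSpectrum.psp_rs p hn hr hs hr2 hs2 hrp hsp hrs]

end Cfsg.Agent.S2474
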