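import Cfsg.Statements.S2476
import Cfsg.Agent.Lib.Classical.ThreeSpectra
import Cfsg.Agent.Lib.GLClass.AbsorbAbstract

set_option autoImplicit false
open Cfsg

namespace Cfsg.Agent.S2476

/-- The set of element orders of PSL(3,q): let F be a finite field of characteristic p with q elements and d = gcd(3, q − 1). The orders of elements of PSL(3,F) are exactly the divisors of (q² + q + 1)/d, of (q² − 1)/d, of q − 1, of p(q − 1)/d, and, when p = 2, of 4. -/
theorem result {F : Type*} [Field F] [Fintype F] (p : ℕ) [Fact p.Prime] [CharP F p] :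
    Set.range (orderOf : Matrix.ProjectiveSpecialLinearGroup (Fin 3) F → ℕ) =
      {m : ℕ | m ∣ (Fintype.card F ^ 2 + Fintype.card F + 1) / Nat.gcd 3 (Fintype.card F - 1) ∨
        m ∣ (Fintype.card F ^ 2 - 1) / Nat.gcd 3 (Fintype.card F - 1) ∨ m ∣ Fintype.card F - 1 ∨
        m ∣ p * (Fintype.card F - 1) / Nat.gcd 3 (Fintype.card F - 1) ∨ (p = 2 ∧ m ∣ 4)} := by
  classical
  open CfsgLib.Classical.ThreeSpectra in
  have key : ∀ {n m : ℕ}, (∃ g : Matrix.ProjectiveSpecialLinearGroup (Fin 3) F, orderOf g = n) → m ∣ n →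
      m ∈ Set.range (orderOf : Matrix.ProjectiveSpecialLinearGroup (Fin 3) F → ℕ) := fun ⟨g, hg⟩ hm => by
    obtain ⟨z, hz⟩ := CfsgLib.Absorb.exists_order_of_dvd (x := g) (hg.symm ▸ hm)
    exact ⟨z, hz⟩
  refine Set.ext fun m => ⟨?_, ?_⟩
  · rintro ⟨g, rfl⟩
    exact CfsgLib.Classical.ThreeSpectra.psl_upper p g
  · rintro (h | h | h | h | ⟨rfl, h⟩)
    · obtain ⟨g, hg⟩ := CfsgLib.Absorb.exists_singer (F := F) (n := 3) (by norm_num)
      refine key ⟨g, hg⟩ ?_
      simpa [CfsgLib.Absorb.singer, Finset.sum_range_succ, add_comm, add_left_comm, add_assoc] using h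
    · exact key (CfsgLib.Classical.ThreeSpectra.exists_quadratic p) h
    · exact key CfsgLib.Classical.ThreeSpectra.exists_q_sub_one h
    · exact key (CfsgLib.Classical.ThreeSpectra.exists_p_mul p) h
    · exact key (CfsgLib.Classical.ThreeSpectra.exists_four inferInstance) h

end Cfsg.Agent.S2476
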