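import Cfsg.Statements.S2477
import Mathlib


set_option autoImplicit false
open Cfsg

namespace Cfsg.Agent.S2477

/-- lists of integers at least two of bounded sum -/
def boundedLists : ℕ → ℕ → List (List ℕ)
  | 0, _ => [[]]
  | k + 1, n => [] :: (List.range' 2 (n - 1)).flatMap fun x => (boundedLists k (n - x)).map (x :: ·)

theorem mem_boundedLists : ∀ (k n : ℕ) (l : List ℕ), (∀ x ∈ l, 2 ≤ x) → l.sum ≤ n → n ≤ k → l ∈ boundedLists k n := by
  intro k
  induction k with
  | zero =>
    intro n l h1 h2 h3
    rcases l with - | ⟨x, l⟩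
    · simp [boundedLists]
    · have := h1 x List.mem_cons_self
      simp only [List.sum_cons] at h2
      omega
  | succ k ih =>
    intro n l h1 h2 h3
    rcases l with - | ⟨x, l⟩
    · simp [boundedLists]
    · have := h1 x List.mem_cons_self
      simp only [List.sum_cons] at h2
      simp only [boundedLists, List.mem_cons, List.mem_flatMap, List.mem_map]
      exact Or.inr ⟨x, by simp [List.mem_range'_1]; omega,
        l, ih (n - x) l (fun y hy => h1 y (List.mem_cons_of_mem _ hy)) (by omega) (by omega), rfl⟩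

/-- The set of element orders of the alternating group of degree 10 is {1, 2, 3, 4, 5, 6, 7, 8, 9, 10, 12, 15, 21}. -/
theorem result : Set.range (orderOf : alternatingGroup (Fin 10) → ℕ) = {1, 2, 3, 4, 5, 6, 7, 8, 9, 10, 12, 15, 21} := by
  classical
  have key : ∀ l ∈ boundedLists 10 10, (l.sum + l.length) % 2 = 0 →
      l.foldr Nat.lcm 1 ∈ [1, 2, 3, 4, 5, 6, 7, 8, 9, 10, 12, 15, 21] := by decide +kernel
  refine Set.Subset.antisymm ?_ ?_
  · rintro _ ⟨g, rfl⟩
    have hsign := g.2
    rw [Equiv.Perm.mem_alternatingGroup, Equiv.Perm.sign_of_cycleType,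
      neg_one_pow_eq_one_iff_even (by decide)] at hsign
    obtain ⟨l, hl⟩ : ∃ l : List ℕ, (l : Multiset ℕ) = (g : Equiv.Perm (Fin 10)).cycleType :=
      ⟨_, Multiset.coe_toList _⟩
    have hsum : (g : Equiv.Perm (Fin 10)).cycleType.sum ≤ 10 := by
      rw [Equiv.Perm.sum_cycleType]
      exact (Finset.card_le_univ _).trans (le_of_eq (Fintype.card_fin 10))
    rw [← hl, Multiset.sum_coe] at hsum
    rw [← hl, Multiset.sum_coe, Multiset.coe_card, Nat.even_iff] at hsign
    have h := key l (mem_boundedLists 10 10 l (fun x hx => Equiv.Perm.two_le_of_mem_cycleType (σ := (g : Equiv.Perm (Fin 10)))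
      (hl ▸ Multiset.mem_coe.2 hx)) hsum le_rfl) hsign
    rw [← Subgroup.orderOf_coe, ← Equiv.Perm.lcm_cycleType, ← hl, show (l : Multiset ℕ).lcm = l.foldr Nat.lcm 1 from rfl]
    simpa using h
  · intro k hk
    have hwit : ∀ m : Multiset ℕ, m.sum ≤ 10 → (∀ x ∈ m, 2 ≤ x) → Even (m.sum + Multiset.card m) →
        m.lcm ∈ Set.range (orderOf : alternatingGroup (Fin 10) → ℕ) := by
      intro m h1 h2 h3
      obtain ⟨g, hg⟩ := (Equiv.Perm.exists_with_cycleType_iff (Fin 10) (m := m)).2
        ⟨h1.trans (le_of_eq (Fintype.card_fin 10).symm), h2⟩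
      refine ⟨⟨g, ?_⟩, ?_⟩
      · rw [Equiv.Perm.mem_alternatingGroup, Equiv.Perm.sign_of_cycleType, hg, h3.neg_one_pow]
      · rw [Subgroup.orderOf_mk, ← Equiv.Perm.lcm_cycleType, hg]
    simp only [Set.mem_insert_iff, Set.mem_singleton_iff] at hk
    rcases hk with rfl | rfl | rfl | rfl | rfl | rfl | rfl | rfl | rfl | rfl | rfl | rfl | rfl
    · exact hwit 0 (by simp) (by simp) (by simp)
    · exact hwit {2, 2} (by decide) (by decide) (by decide)
    · exact hwit {3} (by decide) (by decide) (by decide)
    · exact hwit {4, 2} (by decide) (by decide) (by decide)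
    · exact hwit {5} (by decide) (by decide) (by decide)
    · exact hwit {3, 2, 2} (by decide) (by decide) (by decide)
    · exact hwit {7} (by decide) (by decide) (by decide)
    · exact hwit {8, 2} (by decide) (by decide) (by decide)
    · exact hwit {9} (by decide) (by decide) (by decide)
    · exact hwit {5, 2, 2} (by decide) (by decide) (by decide)
    · exact hwit {4, 3, 2} (by decide) (by decide) (by decide)
    · exact hwit {5, 3} (by decide) (by decide) (by decide)
    · exact hwit {7, 3} (by decide) (by decide) (by decide)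

end Cfsg.Agent.S2477
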