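import Cfsg.Statements.S2486
import Cfsg.Agent.Lib.SylowLie.FlagPairsTwo

set_option autoImplicit false
open scoped Pointwise
open Cfsg

namespace Cfsg.Agent.S2486

/-- Let n ≥ 4 and let G be a finite group with a normal subgroup N of index 2 isomorphic to SL(n,2) and with trivial centralizer in G (so G is the extension of the simple group L_n(2) by its inverse-transpose automorphism, its full automorphism group). Then any two Sylow 2-subgroups of G have a non-trivial intersection: for a Sylow 2-subgroup H and every x ∈ G, H ∩ H^x ≠ 1. -/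
theorem result {G : Type*} [Group G] [Finite G] {n : ℕ} (hn : 4 ≤ n) (N : Subgroup G) [N.Normal]
    (e : N ≃* Matrix.SpecialLinearGroup (Fin n) (ZMod 2)) (hidx : N.index = 2)
    (hC : Subgroup.centralizer (N : Set G) = ⊥)
    (H : Sylow 2 G) (x : G) :
    (H : Subgroup G) ⊓ MulAut.conj x • (H : Subgroup G) ≠ ⊥ := by
  classical
  haveI : NeZero n := ⟨by omega⟩
  let φ : CfsgLib.SylowLie.FlagPairsTwo.SLTwo n →* G := N.subtype.comp e.symm.toMonoidHom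
  have hφ : Function.Injective φ := N.subtype_injective.comp e.symm.injective
  have hφN : ∀ a, φ a ∈ N := fun a => (e.symm a).2
  have hφs : ∀ g ∈ N, ∃ a, φ a = g := fun g hg => ⟨e ⟨g, hg⟩, by simp [φ]⟩
  set U := (CfsgLib.SylowLie.FlagPairsTwo.sylowUT (n := n)).toSubgroup with hU
  obtain ⟨H₀, hH₀⟩ := ((CfsgLib.SylowLie.FlagPairsTwo.sylowUT (n := n)).2.map φ).exists_le_sylow
  have hinf : ∀ a, φ a ∈ (H₀ : Subgroup G) → a ∈ U := by
    intro a ha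
    have h1 : U ≤ (H₀ : Subgroup G).comap φ := fun u hu => hH₀ ⟨u, hu, rfl⟩
    have h2 := (CfsgLib.SylowLie.FlagPairsTwo.sylowUT (n := n)).3 (H₀.2.comap_of_injective φ hφ) h1
    exact h2.le ha
  obtain ⟨y, hyH, hyN⟩ : ∃ y ∈ (H₀ : Subgroup G), y ∉ N := by
    by_contra h
    push Not at h
    have h1 : N.index ∣ (H₀ : Subgroup G).index := Subgroup.index_dvd_of_le h
    rw [hidx] at h1
    exact H₀.not_dvd_index h1
  have hnorm : ∀ z : G, (∀ u ∈ U, z * φ u * z⁻¹ ∈ (H₀ : Subgroup G)) → z ∈ (H₀ : Subgroup G) := by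
    intro z hz
    have hin : ∀ z ∈ N, (∀ u ∈ U, z * φ u * z⁻¹ ∈ (H₀ : Subgroup G)) → z ∈ (H₀ : Subgroup G) := by
      intro z hzN hz
      obtain ⟨a, rfl⟩ := hφs z hzN
      refine hH₀ ⟨a, CfsgLib.SylowLie.FlagPairsTwo.mem_unitri_of_normalizes ?_, rfl⟩
      refine Subgroup.mem_normalizer_iff_map_conj_eq.2 (Subgroup.eq_of_le_of_card_ge ?_
        (le_of_eq (Subgroup.card_map_of_injective (MulEquiv.injective _)).symm))
      rintro _ ⟨u, hu, rfl⟩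
      exact hinf _ (by simpa using hz u hu)
    by_cases hzN : z ∈ N
    · exact hin z hzN hz
    have h1 : y * z ∈ N := (Subgroup.mul_mem_iff_of_index_two hidx).2 (iff_of_false hyN hzN)
    have h2 := hin _ h1 fun u hu => by
      rw [show y * z * φ u * (y * z)⁻¹ = y * (z * φ u * z⁻¹) * y⁻¹ by group]
      exact mul_mem (mul_mem hyH (hz u hu)) (inv_mem hyH)
    simpa using mul_mem (inv_mem hyH) h2
  have hdec : ∀ g : G, ∃ a, ∃ k ∈ (H₀ : Subgroup G), g = φ a * k := by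
    intro g
    by_cases hg : g ∈ N
    · obtain ⟨a, ha⟩ := hφs g hg
      exact ⟨a, 1, one_mem _, by rw [ha, mul_one]⟩
    · obtain ⟨a, ha⟩ := hφs (g * y) ((Subgroup.mul_mem_iff_of_index_two hidx).2 (iff_of_false hg hyN))
      exact ⟨a, y⁻¹, inv_mem hyH, by rw [ha, mul_inv_cancel_right]⟩
  -- a common element of the Sylow subgroup and its opposite
  set w := φ (CfsgLib.SylowLie.FlagPairsTwo.w0 n) with hw
  obtain ⟨t, htH, htw, ht1⟩ : ∃ t ∈ (H₀ : Subgroup G), w⁻¹ * t * w ∈ (H₀ : Subgroup G) ∧ t ≠ 1 := by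
    obtain ⟨g', hg'⟩ := hφs (y * w * y⁻¹) (‹N.Normal›.conj_mem _ (hφN _) y)
    have hyU : ∀ u ∈ U, ∃ u' ∈ U, φ u' = y⁻¹ * φ u * y := by
      intro u hu
      obtain ⟨u', hu'⟩ := hφs (y⁻¹ * φ u * y) (by simpa using ‹N.Normal›.conj_mem _ (hφN u) y⁻¹)
      exact ⟨u', hinf _ (by rw [hu']; exact mul_mem (mul_mem (inv_mem hyH) (hH₀ ⟨u, hu, rfl⟩)) hyH), hu'⟩
    obtain ⟨b, hb, c, hc, he⟩ := CfsgLib.SylowLie.FlagPairsTwo.exists_opposite (g := g') fun A hA hA' => by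
      obtain ⟨u, hu, hu'⟩ := hyU A hA
      obtain ⟨v, hv, hv'⟩ := hyU _ hA'
      have h1 : (CfsgLib.SylowLie.FlagPairsTwo.w0 n)⁻¹ * u * CfsgLib.SylowLie.FlagPairsTwo.w0 n = v := hφ (by
        rw [map_mul, map_mul, map_inv, hu', hv', map_mul, map_mul, map_inv, hg', hw]
        group)
      have h2 : u = 1 := CfsgLib.SylowLie.FlagPairsTwo.opposite_inf hu
        (show _ ∈ CfsgLib.AutPSL.unitri by rw [h1]; exact hv)
      rw [h2, map_one] at hu'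
      refine hφ ?_
      rw [map_one]
      calc φ A = y * (y⁻¹ * φ A * y) * y⁻¹ := by group
        _ = 1 := by rw [← hu']; group
    refine ⟨(φ b)⁻¹ * y, mul_mem (inv_mem (hH₀ ⟨b, hb, rfl⟩)) hyH, hnorm _ fun u hu => ?_, ?_⟩
    · have h1 : y * w * y⁻¹ = φ b * w * φ c := by rw [← hg', he, map_mul, map_mul, hw]
      have h2 : (φ b)⁻¹ * y * w = w * φ c * y := by
        rw [show (φ b)⁻¹ * y * w = (φ b)⁻¹ * (y * w * y⁻¹) * y by group, h1]
        group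
      rw [show w⁻¹ * ((φ b)⁻¹ * y) * w = φ c * y by
        rw [show w⁻¹ * ((φ b)⁻¹ * y) * w = w⁻¹ * ((φ b)⁻¹ * y * w) by group, h2]
        group]
      have hcy : φ c * y ∈ (H₀ : Subgroup G) := mul_mem (hH₀ ⟨c, hc, rfl⟩) hyH
      exact mul_mem (mul_mem hcy (hH₀ ⟨u, hu, rfl⟩)) (inv_mem hcy)
    · intro e1
      rw [inv_mul_eq_one] at e1
      exact hyN (e1 ▸ hφN b)
  have hmain : ∀ a, ∃ s : G, s ∈ (H₀ : Subgroup G) ∧ (φ a)⁻¹ * s * φ a ∈ (H₀ : Subgroup G) ∧ s ≠ 1 := by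
    intro a
    by_cases h : ∀ A, A ∈ CfsgLib.AutPSL.unitri → a⁻¹ * A * a ∈ CfsgLib.AutPSL.unitri → A = 1
    · obtain ⟨b, hb, c, hc, rfl⟩ := CfsgLib.SylowLie.FlagPairsTwo.exists_opposite h
      have hb' : φ b ∈ (H₀ : Subgroup G) := hH₀ ⟨b, hb, rfl⟩
      have hc' : φ c ∈ (H₀ : Subgroup G) := hH₀ ⟨c, hc, rfl⟩
      refine ⟨φ b * t * (φ b)⁻¹, mul_mem (mul_mem hb' htH) (inv_mem hb'), ?_, fun e1 => ht1 ?_⟩
      · rw [map_mul, map_mul, show (φ b * w * φ c)⁻¹ * (φ b * t * (φ b)⁻¹) * (φ b * w * φ c) =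
          (φ c)⁻¹ * (w⁻¹ * t * w) * φ c by group]
        exact mul_mem (mul_mem (inv_mem hc') htw) hc'
      · rwa [mul_inv_eq_one, mul_eq_left] at e1
    · push Not at h
      obtain ⟨A, hA, hA', hA1⟩ := h
      exact ⟨φ A, hH₀ ⟨A, hA, rfl⟩, by rw [← map_inv, ← map_mul, ← map_mul]; exact hH₀ ⟨_, hA', rfl⟩,
        fun e1 => hA1 (hφ (e1.trans (map_one φ).symm))⟩
  obtain ⟨g₁, rfl⟩ := MulAction.exists_smul_eq G H₀ H
  obtain ⟨a₁, k₁, hk₁, h₁⟩ := hdec g₁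
  obtain ⟨a₂, k₂, hk₂, h₂⟩ := hdec (x * g₁)
  obtain ⟨s, hs, hs', hs1⟩ := hmain (a₁⁻¹ * a₂)
  have key : ∀ g k a, k ∈ (H₀ : Subgroup G) → g = φ a * k → ∀ r, (φ a)⁻¹ * r * φ a ∈ (H₀ : Subgroup G) →
      r ∈ MulAut.conj g • (H₀ : Subgroup G) := by
    rintro g k a hk rfl r hr
    rw [Subgroup.mem_pointwise_smul_iff_inv_smul_mem]
    show (MulAut.conj (φ a * k))⁻¹ r ∈ (H₀ : Subgroup G)
    rw [← map_inv, MulAut.conj_apply]
    rw [show (φ a * k)⁻¹ * r * ((φ a * k)⁻¹)⁻¹ = k⁻¹ * ((φ a)⁻¹ * r * φ a) * k by group]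
    exact mul_mem (mul_mem (inv_mem hk) hr) hk
  intro hbot
  have hmem : φ a₁ * s * (φ a₁)⁻¹ ∈ ((g₁ • H₀ : Sylow 2 G) : Subgroup G) ⊓
      MulAut.conj x • ((g₁ • H₀ : Sylow 2 G) : Subgroup G) := by
    refine Subgroup.mem_inf.2 ⟨?_, ?_⟩
    · rw [Sylow.coe_subgroup_smul]
      exact key _ _ _ hk₁ h₁ _ (by
        rw [show (φ a₁)⁻¹ * (φ a₁ * s * (φ a₁)⁻¹) * φ a₁ = s by group]; exact hs)
    · rw [Sylow.coe_subgroup_smul, smul_smul, ← map_mul]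
      refine key _ _ _ hk₂ h₂ _ ?_
      rw [map_mul, map_inv] at hs'
      rw [show (φ a₂)⁻¹ * (φ a₁ * s * (φ a₁)⁻¹) * φ a₂ = ((φ a₁)⁻¹ * φ a₂)⁻¹ * s * ((φ a₁)⁻¹ * φ a₂) by group]
      exact hs'
  rw [hbot, Subgroup.mem_bot, mul_inv_eq_one, mul_eq_left] at hmem
  exact hs1 hmem

end Cfsg.Agent.S2486
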