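import Cfsg.Statements.S2488
import Mathlib
import Cfsg.Agent.Lib.Perm.AltSixFacts
import Cfsg.Agent.Lib.Coprime.Solvable

set_option autoImplicit false
open scoped Pointwise
open Cfsg

namespace Cfsg.Agent.S2488

/-- Let G be a finite group with a normal subgroup N of index 4 isomorphic to the alternating group of degree 6 and with trivial centralizer in G (so G is the full automorphism group of A₆). Then any two Sylow 2-subgroups of G have a non-trivial intersection: for a Sylow 2-subgroup H and every x ∈ G, H ∩ H^x ≠ 1. -/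
theorem result {G : Type*} [Group G] [Finite G] (N : Subgroup G) [N.Normal]
    (e : N ≃* alternatingGroup (Fin 6)) (hidx : N.index = 4)
    (hC : Subgroup.centralizer (N : Set G) = ⊥)
    (H : Sylow 2 G) (x : G) :
    (H : Subgroup G) ⊓ MulAut.conj x • (H : Subgroup G) ≠ ⊥ := by
  classical
  have hinj : Function.Injective fun a : N => ((e a : alternatingGroup (Fin 6)) : Equiv.Perm (Fin 6)) :=
    Subtype.val_injective.comp e.injective
  obtain ⟨φ, hφ⟩ : ∃ φ : N →* Equiv.Perm (Fin 6), φ = (alternatingGroup (Fin 6)).subtype.comp e.toMonoidHom := ⟨_, rfl⟩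
  have hφi : Function.Injective φ := hφ ▸ hinj
  have hφs : ∀ a, Equiv.Perm.sign (φ a) = 1 := fun a => hφ ▸ Equiv.Perm.mem_alternatingGroup.1 (e a).2
  have hφ1 : ∀ a, φ a = 1 ↔ a = 1 := fun a => ⟨fun h => hφi (h.trans (map_one φ).symm), fun h => h ▸ map_one φ⟩
  have hcN : Nat.card N = 360 := by
    rw [Nat.card_congr e.toEquiv, nat_card_alternatingGroup, Nat.card_eq_fintype_card, Fintype.card_fin]
    rfl
  have hcG : Nat.card G = 1440 := by rw [← N.card_mul_index, hcN, hidx]
  have hmem : ∀ g : G, (∃ r, Odd r ∧ g ^ r = 1) → g ∈ N := by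
    rintro g ⟨r, hr, hg⟩
    have h4 := orderOf_dvd_natCard (G := G ⧸ N) (QuotientGroup.mk' N g)
    rw [← Subgroup.index_eq_card, hidx] at h4
    have hr' : orderOf (QuotientGroup.mk' N g) ∣ r := orderOf_dvd_of_pow_eq_one (by rw [← map_pow, hg, map_one])
    have h1 : orderOf (QuotientGroup.mk' N g) = 1 :=
      Nat.eq_one_of_dvd_coprimes (show Nat.Coprime (2 ^ 2) r from
        Nat.Coprime.pow_left 2 (Nat.coprime_two_left.2 hr)) h4 hr'
    exact (QuotientGroup.eq_one_iff g).1 (orderOf_eq_one_iff.1 h1)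
  -- the key fact inside `N`
  have hkey : ∀ z w : G, z ∈ N → z * z = 1 → z ≠ 1 → w ≠ 1 → (w ^ 3 = 1 ∨ w ^ 5 = 1) → z * w ≠ w * z := by
    intro z w hz hzz hz1 hw1 hw hc
    have hwN : w ∈ N := hmem w (hw.elim (fun h => ⟨3, by decide, h⟩) (fun h => ⟨5, by decide, h⟩))
    refine CfsgLib.Perm.AltSixFacts.invol_not_commute (φ ⟨z, hz⟩) ?_ ?_ (hφs _) (φ ⟨w, hwN⟩) ?_ (hφs _) ?_ ?_
    · rw [← map_mul, hφ1]; exact Subtype.ext hzz
    · rw [ne_eq, hφ1]; exact fun h => hz1 (congrArg Subtype.val h)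
    · rw [ne_eq, hφ1]; exact fun h => hw1 (congrArg Subtype.val h)
    · refine hw.imp (fun h => ?_) (fun h => ?_) <;> (rw [← map_pow, hφ1]; exact Subtype.ext h)
    · rw [← map_mul, ← map_mul]; exact congrArg φ (Subtype.ext hc)
  -- a central involution of `H` inside `N`
  have hH32 : Nat.card (H : Subgroup G) = 32 := by
    rw [H.card_eq_multiplicity, hcG, show (1440 : ℕ) = 2 ^ 5 * 45 by norm_num,
      Nat.factorization_mul (by norm_num) (by norm_num), Finsupp.add_apply, Nat.Prime.factorization_pow Nat.prime_two,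
      Nat.factorization_eq_zero_of_not_dvd (show ¬ 2 ∣ 45 by norm_num)]
    simp
  obtain ⟨z, hzN, hzH, hzz, hz1, hzc⟩ : ∃ z : G, z ∈ N ∧ z ∈ (H : Subgroup G) ∧ z * z = 1 ∧ z ≠ 1 ∧
      ∀ h ∈ (H : Subgroup G), h * z = z * h := by
    haveI : Fact (Nat.Prime 2) := ⟨Nat.prime_two⟩
    have hM : (N.subgroupOf (H : Subgroup G)) ≠ ⊥ := fun h => by
      rw [Subgroup.subgroupOf_eq_bot] at h
      have h1 : Nat.card (H : Subgroup G) ∣ 4 := by
        have hker : ((QuotientGroup.mk' N).comp (H : Subgroup G).subtype).ker = ⊥ := by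
          rw [eq_bot_iff]
          intro a ha
          have : a.1 ∈ N := (QuotientGroup.eq_one_iff _).1 ha
          exact Subtype.ext (Subgroup.mem_bot.1 (h.le_bot ⟨this, a.2⟩))
        have := Subgroup.card_dvd_of_injective ((QuotientGroup.mk' N).comp (H : Subgroup G).subtype)
          ((MonoidHom.ker_eq_bot_iff _).1 hker)
        rwa [← Subgroup.index_eq_card, hidx] at this
      rw [hH32] at h1
      norm_num at h1
    obtain ⟨t, ht, ht1⟩ : ∃ t, t ∈ Subgroup.center (H : Subgroup G) ⊓ N.subgroupOf (H : Subgroup G) ∧ t ≠ 1 := by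
      haveI : Group.IsNilpotent (H : Subgroup G) := H.isPGroup'.isNilpotent
      obtain ⟨a, ha⟩ := Subgroup.ne_bot_iff_exists_ne_one.1
        (CfsgLib.Coprime.nilpotent_inf_center_ne_bot (N.subgroupOf (H : Subgroup G)) hM)
      exact ⟨a.1, ⟨a.2.2, a.2.1⟩, fun h => ha (Subtype.ext h)⟩
    obtain ⟨k, hk⟩ := H.isPGroup' t
    obtain ⟨s, hsm, hs2, hs1⟩ : ∃ s, s ∈ Subgroup.center (H : Subgroup G) ⊓ N.subgroupOf (H : Subgroup G) ∧
        s * s = 1 ∧ s ≠ 1 := by
      induction k generalizing t with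
      | zero => exact absurd (by simpa using hk) ht1
      | succ k ih =>
        by_cases h : t * t = 1
        · exact ⟨t, ht, h, ht1⟩
        · exact ih (t * t) (mul_mem ht ht) h (by rw [← pow_two, ← pow_mul, ← pow_succ']; exact hk)
    exact ⟨s.1, hsm.2, s.2, congrArg Subtype.val hs2, fun h => hs1 (Subtype.ext h),
      fun h hh => congrArg Subtype.val (Subgroup.mem_center_iff.1 hsm.1 ⟨h, hh⟩)⟩
  have hCz : Subgroup.centralizer ({z} : Set G) = (H : Subgroup G) := by
    refine H.is_maximal' (IsPGroup.of_card (n := (Nat.card (Subgroup.centralizer ({z} : Set G))).primeFactorsList.length) ?_)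
      (fun h hh => Subgroup.mem_centralizer_singleton_iff.2 (hzc h hh))
    refine Nat.eq_prime_pow_of_unique_prime_dvd (p := 2) Nat.card_pos.ne' fun {p} hp hpd => ?_
    · by_contra hp2
      haveI := Fact.mk hp
      obtain ⟨a, ha⟩ := exists_prime_orderOf_dvd_card' p hpd
      have ha' : orderOf a.1 = p := by rw [Subgroup.orderOf_coe]; exact ha
      have haN : a.1 ∈ N := hmem a.1 ⟨p, hp.odd_of_ne_two hp2, ha' ▸ pow_orderOf_eq_one a.1⟩
      have h360 : p ∣ 360 := hcN ▸ ha' ▸ (Subgroup.orderOf_coe (⟨a.1, haN⟩ : N) ▸ orderOf_dvd_natCard _)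
      have h35 : p = 3 ∨ p = 5 := by
        have := Nat.le_of_dvd (by norm_num) h360
        rw [show (360 : ℕ) = 2 ^ 3 * (3 ^ 2 * 5) by norm_num] at h360
        rcases hp.dvd_mul.1 h360 with h | h
        · exact absurd ((Nat.prime_dvd_prime_iff_eq hp Nat.prime_two).1 (hp.dvd_of_dvd_pow h)) hp2
        rcases hp.dvd_mul.1 h with h | h
        · exact Or.inl ((Nat.prime_dvd_prime_iff_eq hp Nat.prime_three).1 (hp.dvd_of_dvd_pow h))
        · exact Or.inr ((Nat.prime_dvd_prime_iff_eq hp (by norm_num)).1 h)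
      refine hkey z a.1 hzN hzz hz1 (fun h => ?_) (h35.imp (fun h => ?_) fun h => ?_)
        (Subgroup.mem_centralizer_singleton_iff.1 a.2).symm
      · rw [h, orderOf_one] at ha'; exact hp.one_lt.ne ha'
      all_goals rw [← h, ← ha']; exact pow_orderOf_eq_one _
  -- a common centralising element
  obtain ⟨z', hz'⟩ : ∃ z', z' = x * z * x⁻¹ := ⟨_, rfl⟩
  suffices hy : ∃ y : G, y ≠ 1 ∧ y * z = z * y ∧ y * z' = z' * y by
    obtain ⟨y, hy1, hyz, hyz'⟩ := hy
    intro hbot
    refine hy1 (Subgroup.mem_bot.1 (hbot.le ⟨?_, ?_⟩))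
    · rw [← hCz]; exact Subgroup.mem_centralizer_singleton_iff.2 hyz
    · show y ∈ MulAut.conj x • (H : Subgroup G)
      rw [show y = MulAut.conj x • (x⁻¹ * y * x) by rw [MulAut.smul_def, MulAut.conj_apply]; group]
      refine Subgroup.smul_mem_pointwise_smul _ _ (H : Subgroup G) ?_
      rw [← hCz, Subgroup.mem_centralizer_singleton_iff]
      rw [hz'] at hyz'
      calc x⁻¹ * y * x * z = x⁻¹ * (y * (x * z * x⁻¹)) * x := by group
        _ = x⁻¹ * (x * z * x⁻¹ * y) * x := by rw [hyz']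
        _ = z * (x⁻¹ * y * x) := by group
  obtain ⟨u, hu⟩ : ∃ u, u = z * z' := ⟨_, rfl⟩
  have hz'N : z' ∈ N := hz' ▸ Subgroup.Normal.conj_mem inferInstance z hzN x
  have hz'z : z' * z' = 1 := by
    rw [hz', show x * z * x⁻¹ * (x * z * x⁻¹) = x * (z * z) * x⁻¹ by group, hzz, mul_one, mul_inv_cancel]
  have hzi : z⁻¹ = z := inv_eq_of_mul_eq_one_right hzz
  have huinv : z * u * z⁻¹ = u⁻¹ := by
    rw [hu, mul_inv_rev, inv_eq_of_mul_eq_one_right hz'z, hzi, ← mul_assoc, hzz, one_mul]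
  have hz'u : z' = z * u := by rw [hu, ← mul_assoc, hzz, one_mul]
  have huN : u ∈ N := hu ▸ mul_mem hzN hz'N
  by_cases hu1 : u = 1
  · exact ⟨z, hz1, rfl, by rw [hz'u, hu1, mul_one]⟩
  have horders := CfsgLib.Perm.AltSixFacts.orders (φ ⟨u, huN⟩) (hφs _)
  rw [← map_pow, ← map_pow, ← map_pow, hφ1, hφ1, hφ1] at horders
  rcases horders with h4 | hodd
  · -- even order
    have h4' : u ^ 4 = 1 := congrArg Subtype.val h4
    by_cases h2 : u * u = 1
    · have : u⁻¹ = u := inv_eq_of_mul_eq_one_right h2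
      have hc : u * z = z * u := by
        rw [this] at huinv
        exact (mul_inv_eq_iff_eq_mul.1 huinv).symm
      exact ⟨u, hu1, hc, by rw [hz'u, ← mul_assoc, hc]⟩
    · have hs : (u * u)⁻¹ = u * u := inv_eq_of_mul_eq_one_right (by rw [← h4']; simp [pow_succ, mul_assoc])
      have hc : u * u * z = z * (u * u) := by
        have h : z * (u * u) * z⁻¹ = u * u := by
          conv_rhs => rw [← hs, mul_inv_rev]
          rw [← huinv]; group
        exact (mul_inv_eq_iff_eq_mul.1 h).symm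
      exact ⟨u * u, h2, hc, by rw [hz'u, ← mul_assoc, hc, mul_assoc, mul_assoc, mul_assoc]⟩
  -- odd order
  obtain ⟨C, hC'⟩ : ∃ C, C = Subgroup.centralizer ({u} : Set G) := ⟨_, rfl⟩
  have heven : 2 ∣ Nat.card C := by
    by_contra hne
    have hCN : C ≤ N := fun a ha => hmem a ⟨Nat.card C, Nat.odd_iff.2 (by omega), by
      exact congrArg Subtype.val (pow_card_eq_one' (x := (⟨a, ha⟩ : C)))⟩
    have hclass : ∀ r m : ℕ, (∀ g : G, g ≠ 1 → g ^ r = 1 → g ∈ N) → u ^ r = 1 →
        ((Finset.univ : Finset (Equiv.Perm (Fin 6))).filter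
          fun g => Equiv.Perm.sign g = 1 ∧ g ≠ 1 ∧ g ^ r = 1).card = m →
        1440 ≤ Nat.card C * m := by
      intro r m hrN hur hm
      have h1 := (MulAction.stabilizer (ConjAct G) u).index_mul_card
      rw [MulAction.index_stabilizer, ConjAct.stabilizer_eq_centralizer] at h1
      have h2 : Nat.card (Subgroup.centralizer ({ConjAct.toConjAct u} : Set (ConjAct G))) = Nat.card C := by
        rw [hC']; rfl
      rw [h2, show Nat.card (ConjAct G) = Nat.card G from rfl, hcG] at h1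
      have horb : (MulAction.orbit (ConjAct G) u).ncard ≤ m := by
        rw [← hm]
        have hmaps : ∀ g ∈ MulAction.orbit (ConjAct G) u, g ∈ N ∧ g ≠ 1 ∧ g ^ r = 1 := by
          rintro g ⟨c, rfl⟩
          have hg1 : c • u ≠ 1 := fun h => hu1 (by simpa [ConjAct.smul_def] using h)
          have hgr : (c • u) ^ r = 1 := by rw [← smul_pow', hur, smul_one]
          exact ⟨hrN _ hg1 hgr, hg1, hgr⟩
        rw [← Set.ncard_coe_finset]
        refine Set.ncard_le_ncard_of_injOn (fun g => if h : g ∈ N then φ ⟨g, h⟩ else 1) (fun g hg => ?_)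
          (fun a ha b hb hab => ?_) (Set.toFinite _)
        · obtain ⟨hgN, hg1, hgr⟩ := hmaps g hg
          simp only [hgN, dite_true, Finset.coe_filter, Finset.mem_univ, true_and, Set.mem_setOf_eq, ne_eq, hφ1]
          refine ⟨hφs _, fun h => hg1 (congrArg Subtype.val h), ?_⟩
          rw [← map_pow, hφ1]; exact Subtype.ext hgr
        · simp only [(hmaps a ha).1, (hmaps b hb).1, dite_true] at hab
          exact congrArg Subtype.val (hφi hab)
      rw [← h1, mul_comm]
      exact Nat.mul_le_mul_left _ horb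
    have hzu : ∀ a ∈ C, a * u = u * a := fun a ha => Subgroup.mem_centralizer_singleton_iff.1 (hC' ▸ ha)
    have hdvd : Nat.card C ∣ 360 := hcN ▸ Subgroup.card_dvd_of_le hCN
    have hno : ∀ p : ℕ, p.Prime → p ∣ Nat.card C → u ^ p = 1 := by
      intro p hp hpd
      haveI := Fact.mk hp
      obtain ⟨a, ha⟩ := exists_prime_orderOf_dvd_card' p hpd
      have hp2 : p ≠ 2 := fun h => hne (h ▸ hpd)
      have ha' : orderOf a.1 = p := by rw [Subgroup.orderOf_coe]; exact ha
      have hau : Commute a.1 u := hzu a.1 a.2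
      obtain ⟨r, hr, hur⟩ : ∃ r, (r = 3 ∨ r = 5) ∧ u ^ r = 1 := by
        rcases hodd with h | h
        · exact ⟨3, Or.inl rfl, congrArg Subtype.val h⟩
        · exact ⟨5, Or.inr rfl, congrArg Subtype.val h⟩
      have hrp : r.Prime := by rcases hr with rfl | rfl <;> norm_num
      by_contra hne'
      have hpr : p ≠ r := fun h => hne' (h ▸ hur)
      have hord : orderOf u = r := by
        haveI := Fact.mk hrp; exact orderOf_eq_prime hur hu1
      have hmul : orderOf (a.1 * u) = p * r := by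
        rw [hau.orderOf_mul_eq_mul_orderOf_of_coprime (by rw [ha', hord]; exact (Nat.coprime_primes hp hrp).2 hpr),
          ha', hord]
      have hauN : a.1 * u ∈ N := mul_mem (hCN a.2) huN
      have h4 := CfsgLib.Perm.AltSixFacts.orders (φ ⟨_, hauN⟩) (hφs _)
      rw [← map_pow, ← map_pow, ← map_pow, hφ1, hφ1, hφ1] at h4
      have h5 : p * r ∣ 4 ∨ p * r ∣ 3 ∨ p * r ∣ 5 := by
        rcases h4 with h | h | h
        · exact Or.inl (hmul ▸ orderOf_dvd_of_pow_eq_one (congrArg Subtype.val h))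
        · exact Or.inr (Or.inl (hmul ▸ orderOf_dvd_of_pow_eq_one (congrArg Subtype.val h)))
        · exact Or.inr (Or.inr (hmul ▸ orderOf_dvd_of_pow_eq_one (congrArg Subtype.val h)))
      have h3 : 2 ≤ p := hp.two_le
      rcases h5 with h | h | h <;> have := Nat.le_of_dvd (by norm_num) h <;> rcases hr with rfl | rfl <;> nlinarith
    rcases hodd with h | h
    · have hur : u ^ 3 = 1 := congrArg Subtype.val h
      have hc := hclass 3 80 (fun g _ hg => hmem g ⟨3, by decide, hg⟩) hur CfsgLib.Perm.AltSixFacts.card_three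
      have h5 : ¬ 5 ∣ Nat.card C := fun h5 => hu1 (by
        have := hno 5 (by norm_num) h5
        exact orderOf_eq_one_iff.1 (Nat.eq_one_of_dvd_coprimes (show Nat.Coprime 3 5 by norm_num)
          (orderOf_dvd_of_pow_eq_one hur) (orderOf_dvd_of_pow_eq_one this)))
      have h45 : Nat.card C ∣ 45 :=
        (Nat.Coprime.dvd_of_dvd_mul_left (Nat.Coprime.pow_right 3 (Nat.coprime_two_right.2 (Nat.odd_iff.2 (by omega)))) hdvd)
      have h9 : Nat.card C ∣ 9 :=
        Nat.Coprime.dvd_of_dvd_mul_right ((Nat.Prime.coprime_iff_not_dvd (by norm_num)).2 h5).symm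
          (show Nat.card C ∣ 9 * 5 from h45)
      have := Nat.le_of_dvd (by norm_num) h9
      omega
    · have hur : u ^ 5 = 1 := congrArg Subtype.val h
      have hc := hclass 5 144 (fun g _ hg => hmem g ⟨5, by decide, hg⟩) hur CfsgLib.Perm.AltSixFacts.card_five
      have h3 : ¬ 3 ∣ Nat.card C := fun h3 => hu1 (by
        have := hno 3 (by norm_num) h3
        exact orderOf_eq_one_iff.1 (Nat.eq_one_of_dvd_coprimes (show Nat.Coprime 5 3 by norm_num)
          (orderOf_dvd_of_pow_eq_one hur) (orderOf_dvd_of_pow_eq_one this)))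
      have h45 : Nat.card C ∣ 45 :=
        (Nat.Coprime.dvd_of_dvd_mul_left (Nat.Coprime.pow_right 3 (Nat.coprime_two_right.2 (Nat.odd_iff.2 (by omega)))) hdvd)
      have h5 : Nat.card C ∣ 5 :=
        Nat.Coprime.dvd_of_dvd_mul_left ((Nat.Coprime.pow_right 2 ((Nat.Prime.coprime_iff_not_dvd Nat.prime_three).2 h3).symm))
          (show Nat.card C ∣ 3 ^ 2 * 5 from h45)
      have := Nat.le_of_dvd (by norm_num) h5
      omega
  -- conjugation by `z` on `C` has a second fixed point
  have hst : ∀ a ∈ C, z * a * z⁻¹ ∈ C := by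
    intro a ha
    rw [hC', Subgroup.mem_centralizer_singleton_iff] at ha ⊢
    have hau : Commute a u⁻¹ := (Commute.inv_right (show Commute a u from ha))
    have h : Commute (z * a * z⁻¹) (z * u⁻¹ * z⁻¹) := by
      show _ * _ = _ * _
      calc z * a * z⁻¹ * (z * u⁻¹ * z⁻¹) = z * (a * u⁻¹) * z⁻¹ := by group
        _ = z * (u⁻¹ * a) * z⁻¹ := by rw [hau.eq]
        _ = z * u⁻¹ * z⁻¹ * (z * a * z⁻¹) := by group
    rw [show z * u⁻¹ * z⁻¹ = u by rw [show z * u⁻¹ * z⁻¹ = (z * u * z⁻¹)⁻¹ by group, huinv, inv_inv]] at h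
    exact h.eq
  let σ : Equiv.Perm C := Function.Involutive.toPerm (fun a => ⟨z * a.1 * z⁻¹, hst a.1 a.2⟩) fun a => Subtype.ext (by
    show z * (z * a.1 * z⁻¹) * z⁻¹ = a.1
    simp only [hzi, ← mul_assoc, hzz, one_mul]
    rw [mul_assoc, hzz, mul_one])
  haveI : Fintype C := Fintype.ofFinite C
  haveI : Fact (Nat.Prime 2) := ⟨Nat.prime_two⟩
  obtain ⟨y, hy, hy1⟩ := Equiv.Perm.exists_fixed_point_of_prime' (p := 2) (σ := σ) (n := 1)
    (by rwa [← Nat.card_eq_fintype_card]) (by rw [pow_one, pow_two]; exact Equiv.ext fun a => σ.left_inv a)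
    (a := 1) (Subtype.ext (by show z * 1 * z⁻¹ = 1; group))
  have hyz : z * y.1 * z⁻¹ = y.1 := congrArg Subtype.val hy
  have hc : y.1 * z = z * y.1 := (mul_inv_eq_iff_eq_mul.1 hyz).symm
  have hcu : y.1 * u = u * y.1 := Subgroup.mem_centralizer_singleton_iff.1 (hC' ▸ y.2)
  exact ⟨y.1, fun h => hy1 (Subtype.ext h), hc, by rw [hz'u, ← mul_assoc, hc, mul_assoc, hcu, mul_assoc]⟩

end Cfsg.Agent.S2488
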