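import Cfsg.Statements.S2495
import Cfsg.Agent.Lib.GLClass.Absorb
import Cfsg.Agent.Lib.GLClass.Irreducible
import Cfsg.Agent.Lib.Char.Zsigmondy.Main
-- import your own Cfsg.Agent.* helpers here

set_option autoImplicit false
open Cfsg

namespace Cfsg.Agent.S2495

open Polynomial

theorem exists_irreducible_annihilator {F : Type*} [Field F] [Fintype F] {n : ℕ} (hn : 1 ≤ n)
    (x B : GL (Fin n) F) (hirr : Irreducible (x : Matrix (Fin n) (Fin n) F).charpoly) (hc : Commute x B) :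
    ∃ P : F[X], Irreducible P ∧ aeval (B : Matrix (Fin n) (Fin n) F) P = 0 := by
  classical
  obtain ⟨A, hA⟩ : ∃ A : Matrix (Fin n) (Fin n) F, A = x.1 := ⟨_, rfl⟩
  rw [← hA] at hirr
  haveI : Fact (Irreducible A.charpoly) := ⟨hirr⟩
  haveI : Nonempty (Fin n) := ⟨⟨0, hn⟩⟩
  let φ : AdjoinRoot A.charpoly →ₐ[F] Matrix (Fin n) (Fin n) F :=
    Ideal.Quotient.liftₐ _ (aeval A) fun a ha => by
      obtain ⟨c, rfl⟩ := Ideal.mem_span_singleton'.1 ha
      rw [map_mul, Matrix.aeval_self_charpoly, mul_zero]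
  haveI : Module.Finite F (AdjoinRoot A.charpoly) := A.charpoly_monic.finite_adjoinRoot
  haveI : Finite (AdjoinRoot A.charpoly) := Module.finite_of_finite F
  have hcard : Nat.card (AdjoinRoot A.charpoly)ˣ = Fintype.card F ^ n - 1 := by
    rw [Nat.card_units, Module.natCard_eq_pow_finrank (K := F), Nat.card_eq_fintype_card]
    congr 2
    have := finrank_quotient_span_eq_natDegree (K := F) (f := A.charpoly)
    rw [Matrix.charpoly_natDegree_eq_dim, Fintype.card_fin] at this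
    exact this
  have hmem : ∀ u : (AdjoinRoot A.charpoly)ˣ, Units.map φ.toRingHom.toMonoidHom u ∈
      Subgroup.centralizer ({x} : Set (GL (Fin n) F)) := fun u => by
    rw [Subgroup.mem_centralizer_singleton_iff]
    refine Units.ext ?_
    have hroot : φ (AdjoinRoot.root A.charpoly) = x.1 := by
      rw [← hA]; change aeval A X = A; simp
    show φ u * x.1 = x.1 * φ u
    rw [← hroot, ← map_mul, ← map_mul, mul_comm]
  have hb : Function.Bijective (fun u => (⟨_, hmem u⟩ : Subgroup.centralizer ({x} : Set (GL (Fin n) F)))) := by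
    rw [Nat.bijective_iff_injective_and_card]
    refine ⟨fun u v h => Units.ext (φ.toRingHom.injective ?_), ?_⟩
    · exact congrArg (fun z : Subgroup.centralizer ({x} : Set (GL (Fin n) F)) => z.1.1) h
    · rw [hcard, (CfsgLib.GLClass.centralizer_of_irreducible hn x (hA ▸ hirr)).2]
  obtain ⟨u, hu⟩ := hb.2 ⟨B, Subgroup.mem_centralizer_singleton_iff.2 hc.symm.eq⟩
  have hu' : φ u = B.1 := congrArg (fun z : Subgroup.centralizer ({x} : Set (GL (Fin n) F)) => z.1.1) hu
  refine ⟨minpoly F (u : AdjoinRoot A.charpoly), minpoly.irreducible (Algebra.IsIntegral.isIntegral _), ?_⟩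
  rw [← hu', aeval_algHom_apply, minpoly.aeval, map_zero]

theorem gcd_dvd_half {q k : ℕ} (hq : 2 ≤ q) (hk : 1 ≤ k) :
    padicValNat 2 (q - 1) < padicValNat 2 (2 * k) ↔ Nat.gcd (2 * k) (q - 1) ∣ k := by
  haveI := Fact.mk Nat.prime_two
  obtain ⟨g, hg⟩ : ∃ g, g = Nat.gcd (2 * k) (q - 1) := ⟨_, rfl⟩
  rw [← hg]
  have h2k : padicValNat 2 (2 * k) = padicValNat 2 k + 1 := by
    rw [padicValNat.mul two_ne_zero (by omega), padicValNat.self one_lt_two, add_comm]
  have hg0 : g ≠ 0 := hg ▸ (Nat.gcd_pos_of_pos_left _ (by omega)).ne'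
  have hd : g ∣ 2 * k := hg ▸ Nat.gcd_dvd_left _ _
  have hd' : g ∣ q - 1 := hg ▸ Nat.gcd_dvd_right _ _
  constructor
  · intro h
    obtain ⟨t, ht⟩ := hd
    rcases Nat.even_or_odd t with he | ho
    · obtain ⟨s, rfl⟩ := he
      exact ⟨s, Nat.eq_of_mul_eq_mul_left two_pos (by rw [ht]; ring)⟩
    · exfalso
      have h1 : padicValNat 2 g = padicValNat 2 (2 * k) := by
        rw [ht, padicValNat.mul hg0 ho.pos.ne',
          padicValNat.eq_zero_of_not_dvd (fun h' => Nat.not_even_iff_odd.2 ho (even_iff_two_dvd.2 h')), add_zero]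
      have h3 := (padicValNat_dvd_iff_le (p := 2) (show q - 1 ≠ 0 by omega)).1 ((pow_padicValNat_dvd (n := g)).trans hd')
      omega
  · intro h
    have h4 : 2 ^ (padicValNat 2 k + 1) ∣ 2 * k := by rw [pow_succ']; exact Nat.mul_dvd_mul_left 2 pow_padicValNat_dvd
    by_contra hle
    push Not at hle
    rw [h2k] at hle
    have h5 : 2 ^ (padicValNat 2 k + 1) ∣ q - 1 := (pow_dvd_pow 2 hle).trans pow_padicValNat_dvd
    have h6 := (padicValNat_dvd_iff_le (p := 2) (show k ≠ 0 by omega)).1 ((Nat.dvd_gcd h4 h5).trans (hg ▸ h))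
    omega

theorem geo_split {q k : ℕ} :
    ∑ i ∈ Finset.range (2 * k), q ^ i = (q ^ k + 1) * ∑ i ∈ Finset.range k, q ^ i := by
  rw [two_mul, Finset.sum_range_add, add_mul, one_mul, Finset.mul_sum, add_comm]
  congr 1
  exact Finset.sum_congr rfl fun i _ => by rw [pow_add]

/-- Let q be an odd prime power, n ≥ 4 even, and L = PSL(n,q). Then L has an element of order q^(n/2) + 1 if and only if the 2-part of n exceeds the 2-part of q − 1. -/
theorem result {F : Type*} [Field F] [Fintype F] {q : ℕ} (hF : Fintype.card F = q) (hodd : Odd q)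
    {n : ℕ} (hn : 4 ≤ n) (heven : Even n) :
    (∃ g : Matrix.ProjectiveSpecialLinearGroup (Fin n) F, orderOf g = q ^ (n / 2) + 1) ↔
      padicValNat 2 (q - 1) < padicValNat 2 n := by
  classical
  subst hF
  obtain ⟨k, rfl⟩ := heven
  rw [← two_mul] at hn ⊢
  rw [Nat.mul_div_cancel_left k two_pos]
  obtain ⟨p, hp⟩ := CharP.exists F
  haveI : Fact p.Prime := ⟨CharP.char_is_prime F p⟩
  obtain ⟨Q, hQ⟩ : ∃ Q, Q = Fintype.card F := ⟨_, rfl⟩
  have hQ3 : 3 ≤ Q := by
    have h1 : 1 < Q := hQ ▸ Fintype.one_lt_card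
    rcases hQ ▸ hodd with ⟨t, ht⟩
    omega
  rw [← hQ, gcd_dvd_half (by omega) (by omega)]
  obtain ⟨T, hT⟩ : ∃ T, T = ∑ i ∈ Finset.range k, Q ^ i := ⟨_, rfl⟩
  obtain ⟨g, hg⟩ : ∃ g, g = Nat.gcd (2 * k) (Q - 1) := ⟨_, rfl⟩
  have hg0 : 0 < g := hg ▸ Nat.gcd_pos_of_pos_left _ (by omega)
  have hTk : T ≡ k [MOD Q - 1] := by
    rw [hT, hQ]; exact CfsgLib.Absorb.geo_modEq Fintype.card_pos
  have hiff : Nat.gcd (2 * k) (Q - 1) ∣ k ↔ g ∣ T := by
    rw [← hg]
    exact (Nat.ModEq.dvd_iff (hTk.of_dvd (hg ▸ Nat.gcd_dvd_right _ _)) dvd_rfl).symm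
  rw [hiff]
  have hS : CfsgLib.Absorb.singer Q (2 * k) = (Q ^ k + 1) * T / g := by
    rw [CfsgLib.Absorb.singer, geo_split, ← hT, ← hg]
  constructor
  · rintro ⟨x, hx⟩
    obtain ⟨r, hr, hrd, hrmin⟩ := CfsgLib.Char.Zsigmondy.exists_prim Q (2 * k) (by omega) (by omega)
      (fun h => by omega) (fun h => by omega)
    haveI := Fact.mk hr
    have hQ1 : ∀ i, 1 ≤ Q ^ i := fun i => Nat.one_le_pow _ _ (by omega)
    have hrQ1 : ¬ r ∣ Q - 1 := by
      have := hrmin 1 le_rfl (by omega)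
      rwa [pow_one] at this
    have hrk : r ∣ Q ^ k + 1 := by
      have : r ∣ (Q ^ k + 1) * (Q ^ k - 1) := by
        have e : Q ^ (2 * k) - 1 = (Q ^ k + 1) * (Q ^ k - 1) := by
          rw [two_mul, pow_add]; zify [hQ1 k, Nat.one_le_iff_ne_zero.2 (Nat.mul_ne_zero (Nat.one_le_iff_ne_zero.1 (hQ1 k)) (Nat.one_le_iff_ne_zero.1 (hQ1 k)))]; ring
        exact e ▸ hrd
      exact (hr.dvd_mul.1 this).resolve_right (hrmin k (by omega) (by omega))
    have hord : orderOf (Q : ZMod r) = 2 * k := by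
      have hz : ∀ i, (Q : ZMod r) ^ i = 1 ↔ r ∣ Q ^ i - 1 := fun i => by
        rw [← ZMod.natCast_eq_zero_iff, Nat.cast_sub (hQ1 i), sub_eq_zero, Nat.cast_one, Nat.cast_pow]
      rw [orderOf_eq_iff (by omega)]
      exact ⟨(hz _).2 hrd, fun i hi hi0 h => hrmin i hi0 hi ((hz i).1 h)⟩
    have hrp : r ≠ p := by
      intro e
      obtain ⟨e', -, he'⟩ := FiniteField.card F p
      have : r ∣ Q ^ k := by
        refine dvd_pow ?_ (by omega)
        rw [hQ, he', e]; exact dvd_pow_self _ e'.ne_zero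
      exact hr.one_lt.ne' (Nat.dvd_one.1 ((Nat.dvd_add_right this).1 hrk))
    obtain ⟨G, rfl⟩ := QuotientGroup.mk_surjective x
    obtain ⟨e, he⟩ := hrk
    have hsc : ∀ m : ℕ, (∃ c : F, (G ^ m).1 = c • 1) ↔ Q ^ k + 1 ∣ m := fun m => by
      rw [← CfsgLib.Absorb.mk_eq_one, QuotientGroup.mk_pow, ← orderOf_dvd_iff_pow_eq_one, hx]
    obtain ⟨A, hA⟩ : ∃ A, A = G ^ (e * (Q - 1)) := ⟨_, rfl⟩
    have hne : A ≠ 1 := fun h => by
      have hd : Q ^ k + 1 ∣ e * (Q - 1) := (hsc _).1 ⟨1, by rw [← hA, h, one_smul]; rfl⟩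
      rw [he, mul_comm r e] at hd
      exact hrQ1 (Nat.dvd_of_mul_dvd_mul_left (Nat.pos_of_ne_zero fun h0 => by rw [h0, mul_zero] at he; omega) hd)
    have hAr : A ^ r = 1 := by
      rw [hA, ← pow_mul, show e * (Q - 1) * r = (Q ^ k + 1) * (Q - 1) by rw [he]; ring, pow_mul]
      obtain ⟨c, hc⟩ := (hsc _).2 (dvd_refl (Q ^ k + 1))
      refine Subtype.ext ?_
      rw [Matrix.SpecialLinearGroup.coe_pow, hc, _root_.smul_pow, one_pow, Matrix.SpecialLinearGroup.coe_one]
      have hc0 : c ≠ 0 := fun h0 => by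
        have := (G ^ (Q ^ k + 1)).2
        rw [hc, h0, Matrix.det_smul, Fintype.card_fin, Matrix.det_one, mul_one, zero_pow (show 2 * k ≠ 0 by omega)] at this
        exact zero_ne_one this
      rw [hQ, FiniteField.pow_card_sub_one_eq_one c hc0, one_smul]
    obtain ⟨a, ha⟩ : ∃ a, a = Matrix.SpecialLinearGroup.toGL A := ⟨_, rfl⟩
    have hao : orderOf a = r := by
      refine orderOf_eq_prime (by rw [ha, ← map_pow, hAr, map_one]) ?_
      rw [ha, ← map_one Matrix.SpecialLinearGroup.toGL]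
      exact fun h => hne (Matrix.SpecialLinearGroup.toGL_injective h)
    have hirr := CfsgLib.GLClass.irreducible_charpoly_of_primitive (p := p) hr hrp (by rw [← hQ]; exact hord) a hao
    obtain ⟨P, hP, hP0⟩ := exists_irreducible_annihilator (by omega) a (Matrix.SpecialLinearGroup.toGL G) hirr
      (by rw [ha, hA, map_pow]; exact (Commute.refl _).pow_left _)
    obtain ⟨c, hc⟩ := CfsgLib.Absorb.pow_singer_scalar (n := 2 * k) (by omega) G.2 hP hP0
    have hd := (hsc _).1 ⟨c, by rw [Matrix.SpecialLinearGroup.coe_pow]; exact hc⟩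
    rw [← hQ, hS] at hd
    have hgd : g ∣ (Q ^ k + 1) * T := by
      rw [hT, ← geo_split, hg, hQ]; exact CfsgLib.Absorb.gcd_dvd_geo
    have := Nat.mul_dvd_mul_right hd g
    rw [Nat.div_mul_cancel hgd] at this
    exact Nat.dvd_of_mul_dvd_mul_left (Nat.succ_pos _) this
  · intro hdvd
    obtain ⟨x, hx⟩ := CfsgLib.Absorb.exists_singer (F := F) (n := 2 * k) (by omega)
    rw [← hQ, hS, Nat.mul_div_assoc _ hdvd] at hx
    have hT0 : T / g ≠ 0 := fun h => by
      rw [h, mul_zero] at hx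
      exact (orderOf_pos x).ne' hx
    refine ⟨x ^ (T / g), ?_⟩
    rw [orderOf_pow' _ hT0, hx, Nat.gcd_eq_right (dvd_mul_left _ _), Nat.mul_div_cancel _ (Nat.pos_of_ne_zero hT0)]

end Cfsg.Agent.S2495
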