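import Cfsg.Statements.S2496
import Cfsg.Agent.Lib.Classical.SUSemisimple
import Cfsg.Agent.Lib.SU.BalanceBase
import Cfsg.Agent.Lib.SU.CenterCard
import Cfsg.Agent.Lib.Char.Zsigmondy.Main
-- import your own Cfsg.Agent.* helpers here

set_option autoImplicit false
open Cfsg

namespace Cfsg.Agent.S2496

open Polynomial Matrix CfsgLib.SU CfsgLib.Classical CfsgLib.Classical.SUSemisimple

theorem gcd_dvd_half {q k : ℕ} (hk : 1 ≤ k) :
    padicValNat 2 (q + 1) < padicValNat 2 (2 * k) ↔ Nat.gcd (2 * k) (q + 1) ∣ k := by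
  haveI := Fact.mk Nat.prime_two
  obtain ⟨g, hg⟩ : ∃ g, g = Nat.gcd (2 * k) (q + 1) := ⟨_, rfl⟩
  rw [← hg]
  have h2k : padicValNat 2 (2 * k) = padicValNat 2 k + 1 := by
    rw [padicValNat.mul two_ne_zero (by omega), padicValNat.self one_lt_two, add_comm]
  have hg0 : g ≠ 0 := hg ▸ (Nat.gcd_pos_of_pos_left _ (by omega)).ne'
  have hd : g ∣ 2 * k := hg ▸ Nat.gcd_dvd_left _ _
  have hd' : g ∣ q + 1 := hg ▸ Nat.gcd_dvd_right _ _
  constructor
  · intro h
    obtain ⟨t, ht⟩ := hd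
    rcases Nat.even_or_odd t with he | ho
    · obtain ⟨s, rfl⟩ := he
      exact ⟨s, Nat.eq_of_mul_eq_mul_left two_pos (by rw [ht]; ring)⟩
    · exfalso
      have h1 : padicValNat 2 g = padicValNat 2 (2 * k) := by
        rw [ht, padicValNat.mul hg0 ho.pos.ne',
          padicValNat.eq_zero_of_not_dvd (fun h' => Nat.not_even_iff_odd.2 ho (even_iff_two_dvd.2 h')), add_zero]
      have h3 := (padicValNat_dvd_iff_le (p := 2) (show q + 1 ≠ 0 by omega)).1 ((pow_padicValNat_dvd (n := g)).trans hd')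
      omega
  · intro h
    have h4 : 2 ^ (padicValNat 2 k + 1) ∣ 2 * k := by rw [pow_succ']; exact Nat.mul_dvd_mul_left 2 pow_padicValNat_dvd
    by_contra hle
    push Not at hle
    rw [h2k] at hle
    have h5 : 2 ^ (padicValNat 2 k + 1) ∣ q + 1 := (pow_dvd_pow 2 hle).trans pow_padicValNat_dvd
    have h6 := (padicValNat_dvd_iff_le (p := 2) (show k ≠ 0 by omega)).1 ((Nat.dvd_gcd h4 h5).trans (hg ▸ h))
    omega

/-- the cofactor of the half torus -/
theorem half_mul (w h : ℕ) :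
    (if Even h then (w + 1) ^ h + 1 else (w + 1) ^ h - 1) * HermTori.K (w + 1) h =
      HermTori.K (w + 1) (2 * h) := by
  refine Nat.eq_of_mul_eq_mul_right (show 0 < w + 2 by omega) (Nat.add_right_cancel (m := 1) ?_)
  rw [HermTori.K_even_mul, mul_assoc]
  rcases Nat.even_or_odd' h with ⟨b, rfl | rfl⟩
  · rw [if_pos (even_two_mul b), pow_mul' (w + 1) 2 (2 * b)]
    rw [← HermTori.K_even_mul w b]
    ring
  · rw [if_neg (by simp [Nat.even_add_one]), HermTori.K_odd_mul, pow_mul' (w + 1) 2 (2 * b + 1)]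
    have h1 : 1 ≤ (w + 1) ^ (2 * b + 1) := Nat.one_le_pow _ _ (by omega)
    obtain ⟨z, hz⟩ : ∃ z, (w + 1) ^ (2 * b + 1) = z + 1 := ⟨_, (Nat.sub_add_cancel h1).symm⟩
    rw [hz, Nat.add_sub_cancel]
    ring

theorem dvd_K_iff {w h g : ℕ} (hg : g ∣ w + 2) : g ∣ HermTori.K (w + 1) h ↔ g ∣ h := by
  refine ⟨fun hd => ?_, HermTori.dvd_K hg⟩
  have hq : ((w : ZMod g) + 2) = 0 := by simpa using (ZMod.natCast_eq_zero_iff _ g).2 hg
  have hsq : ((w : ZMod g) + 1) ^ 2 = 1 := by linear_combination (w : ZMod g) * hq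
  have hG : ∀ b, ((HermTori.G (w + 1) b : ℕ) : ZMod g) = (b : ZMod g) := fun b => by simp [HermTori.G, hsq]
  rw [← ZMod.natCast_eq_zero_iff] at hd ⊢
  rcases Nat.even_or_odd' h with ⟨b, rfl | rfl⟩
  · rw [HermTori.K_even, Nat.add_sub_cancel, Nat.cast_mul, hG] at hd
    push_cast
    linear_combination (b : ZMod g) * hq - hd
  · rw [HermTori.K_odd, Nat.add_sub_cancel] at hd
    push_cast at hd ⊢
    rw [hG] at hd
    linear_combination hd - ((w : ZMod g) - 1) * (b : ZMod g) * hq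

variable {F : Type*} [Field F] [Fintype F] {q : ℕ}

theorem val_pow {n : ℕ} (Y : ↥(Cfsg.SU n F q)) (k : ℕ) : (Y ^ k).1.1 = Y.1.1 ^ k :=
  map_pow ((Cfsg.slToMat n F).comp (Cfsg.SU n F q).subtype) Y k

theorem su_ext_val {n : ℕ} {Y Z : ↥(Cfsg.SU n F q)} (h : Y.1.1 = Z.1.1) : Y = Z := Subtype.ext (Subtype.ext h)

variable (C : UCtx F q)

include C in
theorem pr_eq_one_iff {n : ℕ} (hn : 3 ≤ n) (A : ↥(Cfsg.SU n F q)) :
    pr A = 1 ↔ ∃ c : F, c ^ Nat.gcd n (q + 1) = 1 ∧ A.1.1 = c • 1 := by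
  refine ⟨fun h => ?_, fun ⟨c, _, hc⟩ => pr_eq_one_of_scalar hn hc⟩
  obtain ⟨c, hc, hcn⟩ := C.scalar_of_mem_center hn ((QuotientGroup.eq_one_iff A).1 h)
  refine ⟨((c : Fˣ) : F), pow_gcd_eq_one.2 ⟨?_, ?_⟩, ?_⟩
  · exact congrArg (fun x : C.unitOne => ((x : Fˣ) : F)) hcn
  · have := C.mem_unitOne.1 c.2
    rw [C.bar_eq, ← pow_succ'] at this
    exact this
  · rw [← C.gscal_val (n := n) c, ← hc]; rfl

theorem natDegree_eq_of_orderOf (hF : Fintype.card F = q ^ 2) {r h : ℕ} (hr : r.Prime)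
    (hord : ∀ d, r ∣ (q ^ 2) ^ d - 1 ↔ h ∣ d) {P : F[X]} (hPm : P.Monic) (hP : Irreducible P)
    (hz : AdjoinRoot.root P ^ r = 1) (hz1 : AdjoinRoot.root P ≠ 1) : P.natDegree = h := by
  haveI := Fact.mk hP
  haveI : Module.Finite F (AdjoinRoot P) := hPm.finite_adjoinRoot
  haveI : Finite (AdjoinRoot P) := Module.finite_of_finite F
  letI : Fintype (AdjoinRoot P) := Fintype.ofFinite _
  haveI := Fact.mk hr
  set z := AdjoinRoot.root P
  have hzo : orderOf z = r := orderOf_eq_prime hz hz1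
  have hdim : Module.finrank F (AdjoinRoot P) = P.natDegree := by
    rw [(AdjoinRoot.powerBasis hPm.ne_zero).finrank, AdjoinRoot.powerBasis_dim]
  have hcard : Fintype.card (AdjoinRoot P) = (q ^ 2) ^ P.natDegree := by
    rw [Module.card_eq_pow_finrank (K := F), hdim, hF]
  have hz0 : z ≠ 0 := fun e => by rw [e, zero_pow hr.ne_zero] at hz; exact zero_ne_one hz
  refine Nat.dvd_antisymm ?_ ((hord _).1 ?_)
  · have hfr : ∀ j x, (FiniteField.frobeniusAlgEquivOfAlgebraic F (AdjoinRoot P) ^ j) x = x ^ Fintype.card F ^ j :=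
      fun j => by
      induction j with
      | zero => intro x; simp
      | succ j ih =>
        intro x
        rw [pow_succ', AlgEquiv.mul_apply, ih, FiniteField.coe_frobeniusAlgEquivOfAlgebraic]
        show (x ^ Fintype.card F ^ j) ^ Fintype.card F = _
        rw [← pow_mul, ← pow_succ]
    have hfix : z ^ (q ^ 2) ^ h = z := by
      obtain ⟨t, ht⟩ := (hord h).2 dvd_rfl
      have h1 : 1 ≤ (q ^ 2) ^ h := Nat.one_le_pow _ _ (hF ▸ Fintype.card_pos)
      rw [show (q ^ 2) ^ h = r * t + 1 by omega, pow_succ, pow_mul, hz, one_pow, one_mul]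
    have h3 : FiniteField.frobeniusAlgEquivOfAlgebraic F (AdjoinRoot P) ^ h = 1 := by
      refine AlgEquiv.ext fun x => DFunLike.congr_fun (AdjoinRoot.algHom_ext
        (g₁ := (FiniteField.frobeniusAlgEquivOfAlgebraic F (AdjoinRoot P) ^ h).toAlgHom)
        (g₂ := (1 : AdjoinRoot P ≃ₐ[F] AdjoinRoot P).toAlgHom) ?_) x
      show (FiniteField.frobeniusAlgEquivOfAlgebraic F (AdjoinRoot P) ^ h) z = z
      rw [hfr, hF, hfix]
    rw [← orderOf_dvd_iff_pow_eq_one, FiniteField.orderOf_frobeniusAlgEquivOfAlgebraic, hdim] at h3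
    exact h3
  · rw [← hcard, ← hzo]
    exact orderOf_dvd_of_pow_eq_one (FiniteField.pow_card_sub_one_eq_one z hz0)

include C in
theorem scalar_pow {p a : ℕ} [Fact p.Prime] [CharP F p] (hq : q = p ^ a) (hF : Fintype.card F = q ^ 2)
    {h n : ℕ} (hn : n = 2 * h) (hh : 2 ≤ h) {r : ℕ} (hr : r.Prime) (hrp : r ≠ p) (hord : ∀ d, r ∣ (q ^ 2) ^ d - 1 ↔ h ∣ d)
    (hns : ¬ (Odd h ∧ r ∣ q ^ h + 1)) (X₀ Y : ↥(Cfsg.SU n F q)) (hX : orderOf X₀ = r) (hc : Commute Y X₀) :
    ∃ c : F, (Y ^ (HermTori.K q n / Nat.gcd n (q + 1))).1.1 = c • 1 := by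
  classical
  obtain ⟨w, hw⟩ : ∃ w, q = w + 1 := ⟨q - 1, by have := two_le_q hF; omega⟩
  let qf : F →+* F := (C.bar : F →+* F)
  haveI : NeZero n := ⟨by omega⟩
  obtain ⟨x, hxdef⟩ : ∃ x, x = X₀.1.1 := ⟨_, rfl⟩
  obtain ⟨B, hBdef⟩ : ∃ B, B = Y.1.1 := ⟨_, rfl⟩
  have hcB : Commute B x := by
    rw [hBdef, hxdef]
    exact hc.map ((Cfsg.slToMat n F).comp (Cfsg.SU n F q).subtype)
  have hxr : x ^ r = 1 := by rw [hxdef, ← val_pow, ← hX, pow_orderOf_eq_one]; rfl
  have hinv : (X₀⁻¹).1.1 = x ^ (r - 1) := by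
    rw [hxdef, ← val_pow, inv_eq_of_mul_eq_one_right (show X₀ * X₀ ^ (r - 1) = 1 by
      rw [← pow_succ', Nat.sub_add_cancel hr.one_le, ← hX, pow_orderOf_eq_one])]
  set m := minpoly F x with hm
  have hint : IsIntegral F x := Algebra.IsIntegral.isIntegral _
  have hmdvd : m ∣ Polynomial.X ^ r - 1 := minpoly.dvd F _ (by simp [hxr])
  have hsq : Squarefree m := Squarefree.squarefree_of_dvd hmdvd
    ((X_pow_sub_one_separable_iff.2 (by
      rw [Ne, CharP.cast_eq_zero_iff F p]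
      exact fun h' => hrp ((Nat.prime_dvd_prime_iff_eq Fact.out hr).1 h').symm)).squarefree)
  obtain ⟨f, hfm, hfi, hfne, hfdvd⟩ : ∃ f : F[X], f.Monic ∧ Irreducible f ∧ f ≠ Polynomial.X - Polynomial.C 1 ∧ f ∣ m := by
    have hx1 : x ≠ 1 := fun e => hr.one_lt.ne' (by
      rw [← hX, orderOf_eq_one_iff]; exact su_ext_val (hxdef ▸ e))
    by_cases hd : Polynomial.X - Polynomial.C 1 ∣ m
    · obtain ⟨R, hR⟩ := hd
      have hRu : ¬ IsUnit R := fun hu => hx1 (by
        have h1 : aeval x m = 0 := minpoly.aeval F x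
        rw [hR, map_mul] at h1
        have h2 := (hu.map (aeval x)).mul_left_eq_zero.1 h1
        rw [map_sub, aeval_X, aeval_C, map_one, sub_eq_zero] at h2
        exact h2)
      obtain ⟨f, hfm, hfi, hfd⟩ := Polynomial.exists_monic_irreducible_factor R hRu
      refine ⟨f, hfm, hfi, fun e => hfi.not_isUnit (hsq f ?_), hR ▸ hfd.mul_left _⟩
      rw [hR, ← e]
      exact mul_dvd_mul_left f hfd
    · obtain ⟨f, hfm, hfi, hfd⟩ := Polynomial.exists_monic_irreducible_factor m (minpoly.not_isUnit F x)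
      exact ⟨f, hfm, hfi, fun e => hd (e ▸ hfd), hfd⟩
  haveI := Fact.mk hfi
  haveI : Module.Finite F (AdjoinRoot f) := hfm.finite_adjoinRoot
  haveI : Finite (AdjoinRoot f) := Module.finite_of_finite F
  haveI : CharP (AdjoinRoot f) p := charP_of_injective_algebraMap (algebraMap F (AdjoinRoot f)).injective p
  set l := AdjoinRoot.root f with hldef
  have hmk : ∀ g : F[X], f ∣ g ↔ aeval l g = 0 := fun g => by rw [AdjoinRoot.aeval_eq, AdjoinRoot.mk_eq_zero]
  have hlr : l ^ r = 1 := by simpa [sub_eq_zero] using (hmk _).1 (hfdvd.trans hmdvd)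
  have hl1 : l ≠ 1 := fun e => hfne <| by
    refine (eq_of_monic_of_associated hfm (monic_X_sub_C 1) ?_)
    exact hfi.associated_of_dvd (irreducible_X_sub_C 1) ((hmk _).2 (by simp [e]))
  have hl0 : l ≠ 0 := fun e => by rw [e, zero_pow hr.ne_zero] at hlr; exact zero_ne_one hlr
  have hlinv : l ^ (r - 1) = l⁻¹ := eq_inv_of_mul_eq_one_left (by rw [← pow_succ, Nat.sub_add_cancel hr.one_le, hlr])
  let ψ : AdjoinRoot f →+* AdjoinRoot f := iterateFrobenius (AdjoinRoot f) p a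
  have hψ : ∀ y, ψ y = y ^ q := fun y => by show iterateFrobenius _ p a y = _; rw [iterateFrobenius_def, hq]
  have hψc : ψ.comp ((algebraMap F (AdjoinRoot f)).comp qf) = algebraMap F (AdjoinRoot f) :=
    RingHom.ext fun c => by
      show ψ (algebraMap F _ (C.bar c)) = algebraMap F _ c
      rw [hψ, ← map_pow, ← C.bar_eq, C.bar_bar]
  set mu := (l⁻¹) ^ q with hmudef
  have hconj : ∀ g : F[X], (aeval l ((g.map qf).comp (Polynomial.X ^ (r - 1)))) ^ q = aeval mu g := fun g => by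
    rw [← hψ, aeval_comp, map_pow, aeval_X, hlinv, aeval_def, aeval_def, eval₂_map, hom_eval₂, hψc, hψ]
  have hadj0 : aeval x ((m.map qf).comp (Polynomial.X ^ (r - 1))) = 0 := by
    rw [aeval_comp, map_pow, aeval_X, ← hinv]
    have h1 := adj_aeval (C := C) X₀ m
    rw [← hxdef, show aeval x m = 0 from minpoly.aeval F x] at h1
    exact h1.unique adj_zero
  have hmum : aeval mu m = 0 := by
    rw [← hconj, (hmk _).1 (hfdvd.trans (minpoly.dvd F x hadj0)), zero_pow C.q_ne_zero]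
  have hmu0 : mu ≠ 0 := pow_ne_zero _ (inv_ne_zero hl0)
  have hmur : mu ^ r = 1 := by rw [hmudef, ← pow_mul, mul_comm, pow_mul, inv_pow l, hlr, inv_one, one_pow]
  have hfdeg : f.natDegree = h := natDegree_eq_of_orderOf hF hr hord hfm hfi hlr hl1
  have hdim : Module.finrank F (AdjoinRoot f) = h := by
    rw [(AdjoinRoot.powerBasis hfm.ne_zero).finrank, AdjoinRoot.powerBasis_dim, hfdeg]
  set f' := minpoly F mu with hf'
  have hmint : IsIntegral F mu := Algebra.IsIntegral.isIntegral _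
  have hf'i : Irreducible f' := minpoly.irreducible hmint
  have hf'm : f'.Monic := minpoly.monic hmint
  haveI := Fact.mk hf'i
  have hmk' : ∀ g : F[X], f' ∣ g ↔ aeval mu g = 0 := fun g => minpoly.dvd_iff
  have hf'deg : f'.natDegree = h := by
    let φ : AdjoinRoot f' →ₐ[F] AdjoinRoot f := AdjoinRoot.liftAlgHom f' (Algebra.ofId F _) mu
      (minpoly.aeval F mu)
    have hφ : φ (AdjoinRoot.root f') = mu := AdjoinRoot.liftAlgHom_root _ _ _ _
    refine natDegree_eq_of_orderOf hF hr hord hf'm hf'i (φ.toRingHom.injective ?_) fun e => hl1 ?_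
    · show φ (AdjoinRoot.root f' ^ r) = φ 1
      rw [map_pow, hφ, hmur, map_one]
    · have h1 : mu = 1 := by rw [← hφ, e, map_one]
      rw [hmudef, ← hψ, ← map_one ψ] at h1
      rw [← inv_inv l, ψ.injective h1, inv_one]
  have hne : f ≠ f' := fun e => by
    have hdual : f ∣ (f.map qf).comp (Polynomial.X ^ (r - 1)) := by
      rw [hmk]
      refine eq_zero_of_pow_eq_zero (n := q) ?_
      rw [hconj]
      exact (hmk' f).1 e.symm.dvd
    obtain ⟨ho, he⟩ := conj_inv_root hF C hfm hfi hr.pos (hfdvd.trans hmdvd) hdual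
    rw [hfdeg] at ho he
    haveI := Fact.mk hr
    exact hns ⟨ho, orderOf_eq_prime hlr hl1 ▸ orderOf_dvd_of_pow_eq_one he⟩
  have hcop : IsCoprime f f' := hfi.coprime_iff_not_dvd.2 fun hd =>
    hne (eq_of_monic_of_associated hfm hf'm (hfi.associated_of_dvd hf'i hd))
  have hmeq : m = f * f' := by
    refine (Polynomial.eq_of_monic_of_dvd_of_natDegree_le (hfm.mul hf'm) (minpoly.monic hint)
      (hcop.mul_dvd hfdvd ((hmk' _).2 hmum)) ?_)
    rw [hfm.natDegree_mul hf'm, hfdeg, hf'deg]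
    have := natDegree_le_of_dvd (show m ∣ x.charpoly from Matrix.minpoly_dvd_charpoly x) (Matrix.charpoly_monic x).ne_zero
    rw [Matrix.charpoly_natDegree_eq_dim, Fintype.card_fin] at this
    omega
  obtain ⟨v, hv1, hv2⟩ : ∃ v, aeval x f *ᵥ v ≠ 0 ∧ aeval x f' *ᵥ v ≠ 0 := by
    have hne0 : ∀ g : F[X], g.Monic → g.natDegree = h → aeval x g ≠ 0 := fun g hg hgd h0 => by
      have := natDegree_le_of_dvd (show m ∣ g from minpoly.dvd F x h0) hg.ne_zero
      rw [hmeq, hfm.natDegree_mul hf'm, hfdeg, hf'deg, hgd] at this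
      omega
    obtain ⟨u, hu⟩ : ∃ u, aeval x f *ᵥ u ≠ 0 := by
      by_contra hall; push Not at hall
      exact hne0 f hfm hfdeg (Matrix.ext_iff_mulVec.2 fun u => by rw [hall, Matrix.zero_mulVec])
    obtain ⟨u', hu'⟩ : ∃ u, aeval x f' *ᵥ u ≠ 0 := by
      by_contra hall; push Not at hall
      exact hne0 f' hf'm hf'deg (Matrix.ext_iff_mulVec.2 fun u => by rw [hall, Matrix.zero_mulVec])
    by_cases h1 : aeval x f' *ᵥ u = 0
    · by_cases h2 : aeval x f *ᵥ u' = 0
      · exact ⟨u + u', by rwa [Matrix.mulVec_add, h2, add_zero], by rwa [Matrix.mulVec_add, h1, zero_add]⟩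
      · exact ⟨u', h2, hu'⟩
    · exact ⟨u, hu, h1⟩
  have hker : ∀ g : F[X], aeval x g *ᵥ v = 0 → aeval l g = 0 ∧ aeval mu g = 0 := fun g hg => by
    have hff : ∀ f₁ f₂ : F[X], f₁ * f₂ = m → Irreducible f₁ → aeval x f₂ *ᵥ v ≠ 0 → f₁ ∣ g := by
      intro f₁ f₂ h12 hi hv
      by_contra hnd
      obtain ⟨s, t, hst⟩ := hi.coprime_iff_not_dvd.2 hnd
      refine hv ?_
      rw [show f₂ = f₂ * t * g + s * m by rw [← h12]; linear_combination (-f₂) * hst]
      rw [map_add, map_mul (aeval x) s m, show aeval x m = 0 from minpoly.aeval F x, mul_zero, add_zero, map_mul, ← Matrix.mulVec_mulVec, hg, Matrix.mulVec_zero]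
    exact ⟨(hmk g).1 (hff f f' hmeq.symm hfi hv2), (hmk' g).1 (hff f' f (by rw [hmeq, mul_comm]) hf'i hv1)⟩
  let e₁ : degreeLT F n →ₗ[F] (Fin n → F) :=
    { toFun := fun g => aeval x (g : F[X]) *ᵥ v
      map_add' := fun a b => by rw [Submodule.coe_add, map_add, Matrix.add_mulVec]
      map_smul' := fun c a => by rw [Submodule.coe_smul, map_smul, Matrix.smul_mulVec, RingHom.id_apply] }
  let e₂ : degreeLT F n →ₗ[F] AdjoinRoot f × AdjoinRoot f :=
    ((aeval l).toLinearMap.prod (aeval mu).toLinearMap).comp (degreeLT F n).subtype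
  have hzero : ∀ g : degreeLT F n, e₂ g = 0 → g = 0 := fun g hg => by
    have h1 : f * f' ∣ (g : F[X]) :=
      hcop.mul_dvd ((hmk _).2 (congrArg Prod.fst hg)) ((hmk' _).2 (congrArg Prod.snd hg))
    refine Subtype.ext (eq_zero_of_dvd_of_degree_lt h1 ?_)
    refine lt_of_lt_of_le (mem_degreeLT.1 g.2) ?_
    rw [degree_eq_natDegree (hfm.mul hf'm).ne_zero, hfm.natDegree_mul hf'm, hfdeg, hf'deg, hn, two_mul]
  have hfinL : Module.finrank F (degreeLT F n) = n := by
    rw [(degreeLTEquiv F n).finrank_eq, Module.finrank_fin_fun]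
  haveI : Module.Finite F (degreeLT F n) := Module.Finite.equiv (degreeLTEquiv F n).symm
  have he₁ : Function.Injective e₁ := (injective_iff_map_eq_zero e₁).2 fun g hg =>
    hzero g (Prod.ext (hker _ hg).1 (hker _ hg).2)
  have he₂ : Function.Injective e₂ := (injective_iff_map_eq_zero e₂).2 hzero
  let E₁ := LinearEquiv.ofInjectiveOfFinrankEq e₁ he₁ (by rw [hfinL, Module.finrank_fin_fun])
  let E₂ := LinearEquiv.ofInjectiveOfFinrankEq e₂ he₂ (by rw [hfinL, Module.finrank_prod, hdim, hn, two_mul])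
  let T : (Fin n → F) ≃ₗ[F] AdjoinRoot f × AdjoinRoot f := E₁.symm.trans E₂
  have hT : ∀ g : F[X], T (aeval x g *ᵥ v) = (aeval l g, aeval mu g) := fun g => by
    have hlt : g %ₘ m ∈ degreeLT F n := mem_degreeLT.2 (lt_of_lt_of_le (degree_modByMonic_lt g (minpoly.monic hint))
      (by rw [degree_eq_natDegree (minpoly.monic hint).ne_zero, ← hm, hmeq, hfm.natDegree_mul hf'm, hfdeg, hf'deg, hn, two_mul]))
    have h1 : E₁ ⟨_, hlt⟩ = aeval x g *ᵥ v := by
      show aeval x (g %ₘ m) *ᵥ v = _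
      rw [Polynomial.aeval_modByMonic_eq_self_of_root (minpoly.aeval F x)]
    rw [← h1]
    show E₂ (E₁.symm (E₁ ⟨_, hlt⟩)) = _
    rw [LinearEquiv.symm_apply_apply]
    show (aeval l (g %ₘ m), aeval mu (g %ₘ m)) = _
    rw [Polynomial.aeval_modByMonic_eq_self_of_root ((hmk m).1 hfdvd),
      Polynomial.aeval_modByMonic_eq_self_of_root hmum]
  have hgen : ∀ u, ∃ g : F[X], aeval x g *ᵥ v = u := fun u => ⟨(E₁.symm u : degreeLT F n), E₁.apply_symm_apply u⟩
  obtain ⟨P, hP⟩ := hgen (B *ᵥ v)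
  have hBP : B = aeval x P := Matrix.ext_iff_mulVec.2 fun u => by
    obtain ⟨g, rfl⟩ := hgen u
    have hcg : Commute B (aeval x g) :=
      Algebra.commute_of_mem_adjoin_singleton_of_commute (aeval_mem_adjoin_singleton F x) hcB
    rw [Matrix.mulVec_mulVec, hcg.eq, ← Matrix.mulVec_mulVec, ← hP, Matrix.mulVec_mulVec, Matrix.mulVec_mulVec,
      ← map_mul, ← map_mul, mul_comm g P]
  obtain ⟨α, hα⟩ : ∃ α, α = aeval l P := ⟨_, rfl⟩
  obtain ⟨β, hβ⟩ : ∃ β, β = aeval mu P := ⟨_, rfl⟩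
  have hTB : ∀ (k : ℕ) u, T (B ^ k *ᵥ u) = (α ^ k, β ^ k) * T u := fun k u => by
    obtain ⟨g, rfl⟩ := hgen u
    rw [hBP, ← map_pow, Matrix.mulVec_mulVec, ← map_mul, hT, hT, hα, hβ, map_mul, map_mul, map_pow, map_pow]
    rfl
  -- the unitary relation
  have hab : β * α ^ q = 1 := by
    have h1 : (Y⁻¹).1.1 = aeval x ((P.map qf).comp (Polynomial.X ^ (r - 1))) := by
      rw [aeval_comp, map_pow, aeval_X, ← hinv]
      have h2 := adj_aeval (C := C) X₀ P
      rw [← hxdef, ← hBP, hBdef] at h2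
      exact (adj_su Y).unique h2
    have h3 : aeval x ((P.map qf).comp (Polynomial.X ^ (r - 1)) * P - 1) = 0 := by
      rw [map_sub, map_one, map_mul, ← h1, ← hBP, hBdef, sub_eq_zero]
      show ((Y⁻¹ * Y : ↥(Cfsg.SU n F q))).1.1 = _
      rw [inv_mul_cancel]; rfl
    have h4 := (hmk _).1 (hfdvd.trans (minpoly.dvd F x h3))
    rw [map_sub, map_one, map_mul, ← hα, sub_eq_zero] at h4
    have h5 := congrArg (· ^ q) h4
    rwa [mul_pow, hconj, ← hβ, one_pow] at h5
  have hα0 : α ≠ 0 := fun e => by rw [e, zero_pow C.q_ne_zero, mul_zero] at hab; exact zero_ne_one hab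
  -- the determinant
  have hdet : Algebra.norm F α * Algebra.norm F β = 1 := by
    have hnp : Algebra.norm F (α, β) = Algebra.norm F α * Algebra.norm F β := by
      rw [Algebra.norm_apply, Algebra.norm_apply, Algebra.norm_apply, ← LinearMap.det_prodMap]
      exact congrArg _ (LinearMap.ext fun y => Prod.ext rfl rfl)
    have h1 : (T : (Fin n → F) →ₗ[F] AdjoinRoot f × AdjoinRoot f) ∘ₗ Matrix.toLin' B ∘ₗ
        (T.symm : AdjoinRoot f × AdjoinRoot f →ₗ[F] (Fin n → F)) = Algebra.lmul F _ (α, β) := by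
      refine LinearMap.ext fun y => ?_
      show T (Matrix.toLin' B (T.symm y)) = (α, β) * y
      have h2 := hTB 1 (T.symm y)
      rw [pow_one, pow_one, pow_one, T.apply_symm_apply] at h2
      rw [Matrix.toLin'_apply, h2]
    rw [← hnp, Algebra.norm_apply, ← h1, LinearMap.det_conj, LinearMap.det_toLin', hBdef]
    exact Y.1.2
  have hN : Algebra.norm F α ^ (q - 1) = 1 := by
    have hN0 : Algebra.norm F α ≠ 0 := Algebra.norm_ne_zero_iff.2 hα0
    have h2 := congrArg (Algebra.norm F) hab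
    rw [map_mul, map_pow, map_one] at h2
    have h3 : Algebra.norm F β ≠ 0 := fun e => by rw [e, mul_zero] at hdet; exact zero_ne_one hdet
    refine mul_left_cancel₀ hN0 (mul_left_cancel₀ h3 ?_)
    rw [← pow_succ', mul_one, Nat.sub_add_cancel (Nat.pos_of_ne_zero C.q_ne_zero), h2, mul_comm, hdet]
  have hα1 : α ^ HermTori.K q n = 1 := by
    have h1 := congrArg (algebraMap F (AdjoinRoot f)) hN
    rw [map_pow, FiniteField.algebraMap_norm_eq_pow_sum, hdim, Nat.card_eq_fintype_card, hF, map_one, ← pow_mul] at h1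
    rw [hn, HermTori.K_even, mul_comm]
    exact h1
  set g := Nat.gcd n (q + 1) with hg
  have hgK : g ∣ HermTori.K q n := by
    rw [hw] at hg ⊢
    exact HermTori.dvd_K (hg ▸ Nat.gcd_dvd_right _ _) (hg ▸ Nat.gcd_dvd_left _ _)
  set M := HermTori.K q n / g with hM
  have hcq : (α ^ M) ^ (q + 1) = 1 := by
    obtain ⟨t, ht⟩ := Nat.gcd_dvd_right n (q + 1)
    rw [← hg] at ht
    rw [ht, ← pow_mul, ← mul_assoc, hM, Nat.div_mul_cancel hgK, pow_mul, hα1, one_pow]
  obtain ⟨c, hc⟩ := mem_range_of_pow hF hcq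
  have hβM : β ^ M = α ^ M := by
    have h1 : β ^ M * (α ^ M) ^ q = 1 := by rw [← pow_mul, mul_comm M q, pow_mul, ← mul_pow, hab, one_pow]
    refine mul_right_cancel₀ (pow_ne_zero q (pow_ne_zero M hα0)) ?_
    rw [h1, ← pow_succ', hcq]
  refine ⟨c, ?_⟩
  rw [val_pow, ← hBdef]
  refine Matrix.ext_iff_mulVec.2 fun u => T.injective ?_
  rw [hTB, hβM, ← hc, Matrix.smul_mulVec, Matrix.one_mulVec, map_smul, Algebra.smul_def]
  rfl

/-- Let q be an odd prime power, n ≥ 4 even, and U = PSU(n,q) (realised over the field with q² elements). Then U has an element of order q^(n/2) + (−1)^(n/2) — that is, q^(n/2) + 1 when n/2 is even and q^(n/2) − 1 when n/2 is odd — if and only if the 2-part of n exceeds the 2-part of q + 1. -/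
theorem result {F : Type*} [Field F] [Fintype F] {q : ℕ} (hF : Fintype.card F = q ^ 2) (hodd : Odd q)
    {n : ℕ} (hn : 4 ≤ n) (heven : Even n) :
    (∃ g : Cfsg.PSU n F q, orderOf g = if Even (n / 2) then q ^ (n / 2) + 1 else q ^ (n / 2) - 1) ↔
      padicValNat 2 (q + 1) < padicValNat 2 n := by
  classical
  obtain ⟨h, rfl⟩ := heven
  rw [← two_mul] at hn ⊢
  rw [Nat.mul_div_cancel_left h two_pos]
  have hh : 2 ≤ h := by omega
  obtain ⟨p, hp⟩ := CharP.exists F
  haveI : Fact p.Prime := ⟨CharP.char_is_prime F p⟩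
  obtain ⟨a, ha, hqa⟩ : ∃ a, 1 ≤ a ∧ q = p ^ a := by
    obtain ⟨k, -, hk⟩ := FiniteField.card F p
    obtain ⟨a, -, hqa⟩ := (Nat.dvd_prime_pow Fact.out).1 (show q ∣ p ^ (k : ℕ) by
      rw [← hk, hF]; exact dvd_pow_self q two_ne_zero)
    refine ⟨a, Nat.pos_of_ne_zero fun h0 => ?_, hqa⟩
    have := two_le_q hF
    rw [hqa, h0, pow_zero] at this
    omega
  obtain ⟨C⟩ := exists_ctx hqa ha hF
  have hq3 : 3 ≤ q := by
    have := two_le_q hF
    rcases hodd with ⟨t, ht⟩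
    omega
  obtain ⟨w, hw⟩ : ∃ w, q = w + 1 := ⟨q - 1, by omega⟩
  obtain ⟨g, hg⟩ : ∃ g, g = Nat.gcd (2 * h) (q + 1) := ⟨_, rfl⟩
  have hg0 : 0 < g := hg ▸ Nat.gcd_pos_of_pos_right _ (by omega)
  obtain ⟨N, hN⟩ : ∃ N, N = if Even h then q ^ h + 1 else q ^ h - 1 := ⟨_, rfl⟩
  have hNK : N * HermTori.K q h = HermTori.K q (2 * h) := by rw [hN, hw]; exact half_mul w h
  have hN0 : N ≠ 0 := by
    have : q ≤ q ^ h := Nat.le_self_pow (by omega) q
    rw [hN]; split <;> omega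
  have hiff : g ∣ h ↔ g ∣ HermTori.K q h := by
    rw [hw]; exact (dvd_K_iff (by rw [hg, hw]; exact Nat.gcd_dvd_right _ _)).symm
  rw [gcd_dvd_half (by omega), ← hg, hiff, ← hN]
  have hgK : g ∣ HermTori.K q (2 * h) := by
    rw [hg, hw]; exact HermTori.dvd_K (Nat.gcd_dvd_right _ _) (Nat.gcd_dvd_left _ _)
  constructor
  · rintro ⟨x, hx⟩
    obtain ⟨Y, rfl⟩ := QuotientGroup.mk'_surjective _ x
    change orderOf (pr Y) = N at hx
    -- a primitive prime
    obtain ⟨r, hr, hrN, hrq, hord, hns, hr1⟩ : ∃ r : ℕ, r.Prime ∧ r ∣ N ∧ ¬ r ∣ q ∧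
        (∀ d, r ∣ (q ^ 2) ^ d - 1 ↔ h ∣ d) ∧ ¬ (Odd h ∧ r ∣ q ^ h + 1) ∧ ¬ r ∣ q + 1 := by
      obtain ⟨e, he⟩ : ∃ e, e = if Even h then 2 * h else h := ⟨_, rfl⟩
      have he3 : 3 ≤ e := by
        rw [he]; split
        · omega
        · next ho => rcases Nat.not_even_iff_odd.1 ho with ⟨t, ht⟩; omega
      obtain ⟨r, hr, hrd, hrmin⟩ := CfsgLib.Char.Zsigmondy.exists_prim q e (by omega) (by omega)
        (fun h' => by omega) (fun h' => by omega)
      haveI := Fact.mk hr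
      have hz : ∀ i, (q : ZMod r) ^ i = 1 ↔ r ∣ q ^ i - 1 := fun i => by
        rw [← ZMod.natCast_eq_zero_iff, Nat.cast_sub (Nat.one_le_pow _ _ (by omega)), sub_eq_zero, Nat.cast_one,
          Nat.cast_pow]
      have hoq : orderOf (q : ZMod r) = e := by
        rw [orderOf_eq_iff (by omega)]
        exact ⟨(hz _).2 hrd, fun i hi hi0 h' => hrmin i hi0 hi ((hz i).1 h')⟩
      have hrq : ¬ r ∣ q := fun hd => by
        rw [(ZMod.natCast_eq_zero_iff q r).2 hd, orderOf_zero] at hoq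
        omega
      have hord : ∀ d, r ∣ (q ^ 2) ^ d - 1 ↔ h ∣ d := fun d => by
        rw [← pow_mul, ← hz, ← orderOf_dvd_iff_pow_eq_one, hoq, he]
        split
        · exact Nat.mul_dvd_mul_iff_left two_pos
        · next ho => exact (Nat.coprime_two_right.2 (Nat.not_even_iff_odd.1 ho)).dvd_mul_left
      have hr2 : r ≠ 2 := fun e2 => hrmin 1 le_rfl (by omega) (by
        rcases hodd with ⟨t, ht⟩
        rw [e2, pow_one, ht]; omega)
      have hr1 : ¬ r ∣ q + 1 := fun hd => hrmin 2 one_le_two (by omega) (by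
        have h2 : q ^ 2 - 1 = (q + 1) * (q - 1) := by rw [← Nat.sq_sub_sq, one_pow]
        rw [h2]; exact hd.mul_right _)
      refine ⟨r, hr, ?_, hrq, hord, ?_, hr1⟩
      · rw [hN, he] at *
        by_cases hev : Even h
        · rw [if_pos hev] at hrd hrmin ⊢
          have h2 : q ^ (2 * h) - 1 = (q ^ h + 1) * (q ^ h - 1) := by
            rw [mul_comm 2 h, pow_mul, ← Nat.sq_sub_sq, one_pow]
          rw [h2] at hrd
          exact (hr.dvd_mul.1 hrd).resolve_right (hrmin h (by omega) (by omega))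
        · rw [if_neg hev] at hrd ⊢
          exact hrd
      · rintro ⟨ho, hd⟩
        rw [he, if_neg (Nat.not_even_iff_odd.2 ho)] at hrd
        refine hr2 ((Nat.prime_dvd_prime_iff_eq hr Nat.prime_two).1 ?_)
        have h1 : 1 ≤ q ^ h := Nat.one_le_pow _ _ (by omega)
        have := Nat.dvd_sub hd hrd
        rwa [show q ^ h + 1 - (q ^ h - 1) = 2 by omega] at this
    have hrp : r ≠ p := fun e => hrq (e ▸ hqa ▸ dvd_pow_self p (by omega))
    obtain ⟨e, he⟩ := hrN
    have hsc : ∀ m : ℕ, pr (Y ^ m) = 1 ↔ N ∣ m := fun m => by rw [map_pow, ← orderOf_dvd_iff_pow_eq_one, hx]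
    have hX : orderOf (Y ^ (e * (q + 1))) = r := by
      haveI := Fact.mk hr
      refine orderOf_eq_prime ?_ fun h1 => ?_
      · obtain ⟨c, hc1, hc⟩ := (pr_eq_one_iff C (by omega) _).1 ((hsc N).2 dvd_rfl)
        obtain ⟨t, ht⟩ := Nat.gcd_dvd_right (2 * h) (q + 1)
        refine su_ext_val ?_
        rw [← pow_mul, show e * (q + 1) * r = N * (q + 1) by rw [he]; ring, pow_mul, val_pow, hc, _root_.smul_pow,
          one_pow, ht, pow_mul, hc1, one_pow, one_smul]
        rfl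
      · have hd : N ∣ e * (q + 1) := (hsc _).1 (by rw [h1, map_one])
        rw [he, mul_comm r e] at hd
        exact hr1 (Nat.dvd_of_mul_dvd_mul_left (Nat.pos_of_ne_zero fun h0 => hN0 (by rw [he, h0, mul_zero])) hd)
    obtain ⟨c, hc⟩ := scalar_pow C hqa hF rfl hh hr hrp hord hns _ Y hX ((Commute.refl Y).pow_right _)
    rw [← hg] at hc
    have hd := (hsc _).1 (pr_eq_one_of_scalar (by omega) hc)
    have h3 := Nat.mul_dvd_mul_right hd g
    rw [Nat.div_mul_cancel hgK, ← hNK] at h3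
    exact Nat.dvd_of_mul_dvd_mul_left (Nat.pos_of_ne_zero hN0) h3
  · rintro ⟨t, ht⟩
    obtain ⟨A, hA⟩ := HermTori.exists_torus C hqa hF (m := 2 * h) (k := HermTori.K q (2 * h)) (by omega) dvd_rfl
    have h1 : pr (A ^ orderOf (pr A)) = 1 := by rw [map_pow, pow_orderOf_eq_one]
    obtain ⟨c, hc1, hc⟩ := (pr_eq_one_iff C (by omega) _).1 h1
    have h2 : A ^ (orderOf (pr A) * g) = 1 := by
      rw [pow_mul]
      refine su_ext_val ?_
      rw [val_pow, hc, _root_.smul_pow, one_pow, hg, hc1, one_smul]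
      rfl
    have h3 := orderOf_dvd_of_pow_eq_one h2
    rw [hA, ← hNK, ht, show N * (g * t) = N * t * g by ring] at h3
    have h4 : N ∣ orderOf (pr A) := (dvd_mul_right N t).trans (Nat.dvd_of_mul_dvd_mul_right hg0 h3)
    exact ⟨pr A ^ (orderOf (pr A) / N), orderOf_pow_orderOf_div (orderOf_pos _).ne' h4⟩


end Cfsg.Agent.S2496
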