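import Cfsg.Statements.S2500
import Cfsg.Agent.Lib.Classical.UnionTwo.Linear
import Cfsg.Agent.Lib.Classical.UnionTwo.UnitThree
import Cfsg.Agent.Lib.Classical.UnionTwo.G2Cover
import Cfsg.Agent.Lib.Classical.UnionTwo.SpSix

set_option autoImplicit false
open Cfsg

namespace Cfsg.Agent.S2500

open CfsgLib.Classical.UnionTwo

theorem charP_of_card {F : Type*} [Field F] [Fintype F] {p k : ℕ} (hp : p.Prime)
    (h : Fintype.card F = p ^ k) : CharP F p := by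
  obtain ⟨r, hr⟩ := CharP.exists F
  obtain ⟨j, hrp, hj⟩ := FiniteField.card F r
  have hdvd : r ∣ p ^ k := by
    rw [← h, hj]
    exact dvd_pow_self r j.ne_zero
  have := (Nat.prime_dvd_prime_iff_eq hrp hp).1 (hrp.dvd_of_dvd_pow hdvd)
  subst this
  exact hr

/-- The infinite families of simple groups with normal covering number 2. For a finite field F: each of PSL_2(F) (|F| ≥ 4), PSL_3(F), PSL_4(F), PSU_4 over F (|F| = q²), PSU_3 over F when |F| = q² with q a power of 3, PSp_{2m}(F) for |F| even, m ≥ 2 and (m, |F|) ≠ (2, 2), PSp_6(F) for |F| a power of 3, and G_2(F) (automorphisms of the split octonions) for |F| = 2^a ≥ 4 is the union of the conjugates of two proper subgroups: there are proper subgroups H, K such that every element is conjugate into H or into K. -/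
theorem result {F : Type} [Field F] [Fintype F] :
    (4 ≤ Fintype.card F → (∃ H K : Subgroup (Matrix.ProjectiveSpecialLinearGroup (Fin 2) F), H ≠ ⊤ ∧ K ≠ ⊤ ∧ ∀ g : (Matrix.ProjectiveSpecialLinearGroup (Fin 2) F), ∃ x : (Matrix.ProjectiveSpecialLinearGroup (Fin 2) F), x * g * x⁻¹ ∈ H ∨ x * g * x⁻¹ ∈ K)) ∧
    (∃ H K : Subgroup (Matrix.ProjectiveSpecialLinearGroup (Fin 3) F), H ≠ ⊤ ∧ K ≠ ⊤ ∧ ∀ g : (Matrix.ProjectiveSpecialLinearGroup (Fin 3) F), ∃ x : (Matrix.ProjectiveSpecialLinearGroup (Fin 3) F), x * g * x⁻¹ ∈ H ∨ x * g * x⁻¹ ∈ K) ∧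
    (∃ H K : Subgroup (Matrix.ProjectiveSpecialLinearGroup (Fin 4) F), H ≠ ⊤ ∧ K ≠ ⊤ ∧ ∀ g : (Matrix.ProjectiveSpecialLinearGroup (Fin 4) F), ∃ x : (Matrix.ProjectiveSpecialLinearGroup (Fin 4) F), x * g * x⁻¹ ∈ H ∨ x * g * x⁻¹ ∈ K) ∧
    (∀ q : ℕ, Fintype.card F = q ^ 2 → (∃ H K : Subgroup (Cfsg.PSU 4 F q), H ≠ ⊤ ∧ K ≠ ⊤ ∧ ∀ g : (Cfsg.PSU 4 F q), ∃ x : (Cfsg.PSU 4 F q), x * g * x⁻¹ ∈ H ∨ x * g * x⁻¹ ∈ K)) ∧
    (∀ q a : ℕ, Fintype.card F = q ^ 2 → 1 ≤ a → q = 3 ^ a → (∃ H K : Subgroup (Cfsg.PSU 3 F q), H ≠ ⊤ ∧ K ≠ ⊤ ∧ ∀ g : (Cfsg.PSU 3 F q), ∃ x : (Cfsg.PSU 3 F q), x * g * x⁻¹ ∈ H ∨ x * g * x⁻¹ ∈ K)) ∧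
    (∀ m : ℕ, 2 ≤ m → ¬ Odd (Fintype.card F) → ¬ (m = 2 ∧ Fintype.card F = 2) → (∃ H K : Subgroup (Cfsg.PSp m F), H ≠ ⊤ ∧ K ≠ ⊤ ∧ ∀ g : (Cfsg.PSp m F), ∃ x : (Cfsg.PSp m F), x * g * x⁻¹ ∈ H ∨ x * g * x⁻¹ ∈ K)) ∧
    (∀ a : ℕ, 1 ≤ a → Fintype.card F = 3 ^ a → (∃ H K : Subgroup (Cfsg.PSp 3 F), H ≠ ⊤ ∧ K ≠ ⊤ ∧ ∀ g : (Cfsg.PSp 3 F), ∃ x : (Cfsg.PSp 3 F), x * g * x⁻¹ ∈ H ∨ x * g * x⁻¹ ∈ K)) ∧
    (∀ a : ℕ, 2 ≤ a → Fintype.card F = 2 ^ a → (∃ H K : Subgroup (Cfsg.Lie.G2 F), H ≠ ⊤ ∧ K ≠ ⊤ ∧ ∀ g : (Cfsg.Lie.G2 F), ∃ x : (Cfsg.Lie.G2 F), x * g * x⁻¹ ∈ H ∨ x * g * x⁻¹ ∈ K)) := by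
  refine ⟨fun _ => ?_, ?_, ?_, fun q hq => ?_, fun q a hF ha hq => ?_, fun m hm hodd _ => ?_, fun a _ hF => ?_,
    fun a ha hF => ?_⟩
  · exact Linear.covers_psl (k := 2) le_rfl (by norm_num) le_rfl dvd_rfl fun d h1 h2 _ => by
      obtain rfl : d = 2 := by omega
      exact dvd_rfl
  · exact Linear.covers_psl (k := 3) (by norm_num) (by norm_num) (by norm_num) dvd_rfl fun d h1 h2 h3 => by
      obtain rfl : d = 3 := by omega
      exact dvd_rfl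
  · exact Linear.covers_psl (k := 2) (by norm_num) le_rfl le_rfl (by norm_num) fun d h1 h2 h3 => by
      rcases (show d = 2 ∨ d = 4 by omega) with rfl | rfl <;> norm_num
  · obtain ⟨C⟩ := CfsgLib.Classical.uctx_exists hq
    obtain ⟨ζ, hζ⟩ := C.exists_norm (c := (-1 : F)) (by rw [map_neg, map_one])
    exact Unit.covers_psu_four C hq hζ
  · haveI : CharP F 3 := charP_of_card (k := a * 2) Nat.prime_three (by rw [hF, hq, ← pow_mul])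
    exact Unit.covers_psu_three hF
  · haveI : CharP F 2 := ringChar.of_eq (FiniteField.even_card_iff_char_two.2
      (Nat.even_iff.1 (Nat.not_odd_iff_even.1 hodd)))
    exact SpEven.covers_psp_even hm
  · haveI : CharP F 3 := charP_of_card Nat.prime_three hF
    exact SpSix.covers_psp_six
  · haveI : CharP F 2 := charP_of_card Nat.prime_two hF
    refine G2Cover.covers_g2 ?_
    rw [hF]
    calc 3 ≤ 2 ^ 2 := by norm_num
      _ ≤ 2 ^ a := Nat.pow_le_pow_right (by norm_num) ha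

end Cfsg.Agent.S2500
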