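import Cfsg.Statements.S2503
import Cfsg.Agent.Lib.Classical.TorusBAB

set_option autoImplicit false
open Cfsg

namespace Cfsg.Agent.S2503

/-- Let F be a finite field with q = 2^t ≥ 4 elements and L = PSL(2,F). Then L has a cyclic subgroup A of order q + 1 and an elementary abelian 2-subgroup B of order q such that L = ABA: every element of L is a product a·b·a' with a, a' ∈ A and b ∈ B. -/
theorem result {F : Type*} [Field F] [Fintype F]
    (h2 : 2 ∣ Fintype.card F) (h4 : 4 ≤ Fintype.card F) :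
    ∃ A B : Subgroup (Matrix.ProjectiveSpecialLinearGroup (Fin 2) F),
      IsCyclic A ∧ Nat.card A = Fintype.card F + 1 ∧ IsMulCommutative B ∧ (∀ b ∈ B, b * b = 1) ∧
        Nat.card B = Fintype.card F ∧
        ∀ g : Matrix.ProjectiveSpecialLinearGroup (Fin 2) F, ∃ a ∈ A, ∃ b ∈ B, ∃ c ∈ A, g = a * b * c := by
  classical
  haveI : CharP F 2 := by
    obtain ⟨p, hp⟩ := CharP.exists F
    obtain ⟨k, hpp, hk⟩ := FiniteField.card F p
    rw [hk] at h2
    rwa [← (Nat.prime_dvd_prime_iff_eq Nat.prime_two hpp).1 (Nat.prime_two.dvd_of_dvd_pow h2)] at hp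
  let G := Matrix.SpecialLinearGroup (Fin 2) F
  have hinj : Function.Injective (QuotientGroup.mk' (Subgroup.center G)) := by
    rw [injective_iff_map_eq_one]
    intro x hx
    obtain ⟨r, hr, hx'⟩ := Matrix.SpecialLinearGroup.mem_center_iff.1 ((QuotientGroup.eq_one_iff x).1 hx)
    have hr1 : r = 1 := CfsgLib.Classical.TorusBAB.sq_inj (by
      rw [Fintype.card_fin] at hr; rw [← sq, hr, one_mul])
    refine Subtype.ext ?_
    rw [← hx', hr1]
    simp
  obtain ⟨c, hc⟩ := CfsgLib.Classical.TorusBAB.exists_aniso (F := F)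
  let eA := Subgroup.equivMapOfInjective (CfsgLib.Classical.TorusBAB.torus c) _ hinj
  let eB := Subgroup.equivMapOfInjective (CfsgLib.Classical.TorusBAB.unip (F := F)) _ hinj
  refine ⟨(CfsgLib.Classical.TorusBAB.torus c).map (QuotientGroup.mk' (Subgroup.center G)),
    (CfsgLib.Classical.TorusBAB.unip (F := F)).map (QuotientGroup.mk' (Subgroup.center G)), ?_, ?_, ?_, ?_, ?_, fun g => ?_⟩
  · haveI := CfsgLib.Classical.TorusBAB.torus_cyclic hc
    exact isCyclic_of_surjective eA eA.surjective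
  · rw [← Nat.card_congr eA.toEquiv, CfsgLib.Classical.TorusBAB.card_torus hc]
  · refine ⟨⟨fun a b => eB.symm.injective ?_⟩⟩
    rw [map_mul, map_mul]
    set x := eB.symm a
    set y := eB.symm b
    have h : ∀ z : ↥(CfsgLib.Classical.TorusBAB.unip (F := F)), z * z = 1 := fun z =>
      Subtype.ext (CfsgLib.Classical.TorusBAB.unip_invol z.2)
    calc x * y = x * y * ((y * x) * (y * x)) := by rw [h, mul_one]
      _ = x * (y * y) * (x * (y * x)) := by group
      _ = x * x * (y * x) := by rw [h, mul_one, ← mul_assoc]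
      _ = y * x := by rw [h, one_mul]
  · rintro _ ⟨b, hb, rfl⟩
    rw [← map_mul, CfsgLib.Classical.TorusBAB.unip_invol hb, map_one]
  · rw [← Nat.card_congr eB.toEquiv, CfsgLib.Classical.TorusBAB.card_unip, Nat.card_eq_fintype_card]
  · obtain ⟨g, rfl⟩ := QuotientGroup.mk'_surjective _ g
    obtain ⟨a, ha, b, hb, a', ha', he⟩ := CfsgLib.Classical.TorusBAB.exists_factor hc g
    exact ⟨_, ⟨a, ha, rfl⟩, _, ⟨b, hb, rfl⟩, _, ⟨a', ha', rfl⟩, by rw [he, map_mul, map_mul]⟩

end Cfsg.Agent.S2503
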