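import Cfsg.Statements.S2510
import Cfsg.Agent.Lib.GLClass.Absorb
import Cfsg.Agent.Lib.GLClass.AbsorbAbstract

set_option autoImplicit false
open Cfsg

namespace Cfsg.Agent.S2510

/-- Let F be a finite field with q = p^a elements, n ≥ 2 (with q ≥ 4 when n = 2), L = PSL(n, F), and let r be a prime dividing q − 1 and not dividing n. Then for every m the direct product L × L × L × (ℤ/r)^m has the same set of element orders as L × L × L; and if n − 1 ≠ p^j for every j ≥ 0 (so never when n = 2, since 1 = p^0), then already L × L × (ℤ/r)^m has the same set of element orders as L × L. -/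
theorem result {F : Type*} [Field F] [Fintype F] (p a n r m : ℕ) (hp : p.Prime) (ha : 1 ≤ a) (hF : Fintype.card F = p ^ a)
    (hn : 2 ≤ n) (hn2 : n = 2 → 4 ≤ Fintype.card F) (hr : r.Prime) (hrq : r ∣ Fintype.card F - 1) (hrn : ¬ r ∣ n) :
    Set.range (orderOf : Matrix.ProjectiveSpecialLinearGroup (Fin n) F × Matrix.ProjectiveSpecialLinearGroup (Fin n) F × Matrix.ProjectiveSpecialLinearGroup (Fin n) F × Multiplicative (Fin m → ZMod r) → ℕ) =
      Set.range (orderOf : Matrix.ProjectiveSpecialLinearGroup (Fin n) F × Matrix.ProjectiveSpecialLinearGroup (Fin n) F × Matrix.ProjectiveSpecialLinearGroup (Fin n) F → ℕ) ∧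
    ((¬ ∃ j : ℕ, n - 1 = p ^ j) →
      Set.range (orderOf : Matrix.ProjectiveSpecialLinearGroup (Fin n) F × Matrix.ProjectiveSpecialLinearGroup (Fin n) F × Multiplicative (Fin m → ZMod r) → ℕ) =
        Set.range (orderOf : Matrix.ProjectiveSpecialLinearGroup (Fin n) F × Matrix.ProjectiveSpecialLinearGroup (Fin n) F → ℕ)) := by
  classical
  haveI : Fact p.Prime := ⟨hp⟩
  haveI : CharP F p := charP_of_card_eq_prime_pow (f := a) (by rw [hF])
  haveI : Finite (Matrix.SpecialLinearGroup (Fin n) F) :=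
    Finite.of_injective (fun X => (X.1 : Matrix _ _ F)) Subtype.val_injective
  haveI : Finite (Matrix.ProjectiveSpecialLinearGroup (Fin n) F) := Quotient.finite _
  have hn1 : 1 ≤ n := by omega
  have hrp : r ≠ p := by
    rintro rfl
    have h1 : r ∣ Fintype.card F := hF ▸ dvd_pow_self r (by omega)
    have := Fintype.card_pos (α := F)
    have h2 := Nat.dvd_sub h1 hrq
    rw [show Fintype.card F - (Fintype.card F - 1) = 1 by omega] at h2
    exact hr.ne_one (Nat.dvd_one.1 h2)
  have hv : ∀ v : Multiplicative (Fin m → ZMod r), orderOf v ∣ r := fun v => by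
    refine orderOf_dvd_of_pow_eq_one (Multiplicative.toAdd.injective ?_)
    funext i
    simp
  have hdi := fun x => CfsgLib.Absorb.dichotomy (F := F) p hn1 hr hrq hrn x
  have hcop : (CfsgLib.Absorb.singer (Fintype.card F) n).Coprime (p ^ Nat.clog p n) := by
    refine Nat.Coprime.pow_right _ (Nat.Coprime.symm ?_)
    refine (Nat.Coprime.coprime_dvd_right (Nat.div_dvd_of_dvd CfsgLib.Absorb.gcd_dvd_geo) ?_)
    rw [hp.coprime_iff_not_dvd]
    intro hd
    obtain ⟨k, rfl⟩ : ∃ k, n = k + 1 := ⟨n - 1, by omega⟩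
    rw [geom_sum_succ] at hd
    have h1 : p ∣ Fintype.card F * ∑ i ∈ Finset.range k, Fintype.card F ^ i :=
      Dvd.dvd.mul_right (hF ▸ dvd_pow_self p (by omega)) _
    exact hp.ne_one (Nat.dvd_one.1 ((Nat.dvd_add_right h1).1 hd))
  have hM := CfsgLib.Absorb.exists_singer (F := F) hn1
  obtain ⟨U, hU, -⟩ := CfsgLib.Absorb.exists_unipotent (F := F) (n := n) p hn1 le_rfl
  have hxP := CfsgLib.Absorb.orderOf_mk_unipotent p hn1 hU
  obtain ⟨l, hl⟩ : ∃ l : Fin n, l.val = n - 1 := ⟨⟨n - 1, by omega⟩, rfl⟩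
  have hne : Matrix.single l l (1 : F) ≠ 0 := fun h => by
    simpa using congrFun (congrFun h l) l
  have hne' : 1 - Matrix.single l l (1 : F) ≠ 0 := fun h => by
    have hl0 : l ≠ ⟨0, by omega⟩ := fun e => by rw [e] at hl; simp at hl; omega
    simpa [Matrix.single_apply, hl0] using congrFun (congrFun h ⟨0, by omega⟩) ⟨0, by omega⟩
  have hidem : Matrix.single l l (1 : F) * Matrix.single l l (1 : F) = Matrix.single l l 1 := by
    rw [Matrix.single_mul_single_same, mul_one]
  obtain ⟨U', hU', hcU⟩ := CfsgLib.Absorb.exists_unipotent (F := F) (n := n) p (m := n - 1) (by omega) (by omega)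
  obtain ⟨y, hy, hyc⟩ := CfsgLib.Absorb.exists_commute_of_idem hr hrq hrn hn1 (hcU l (by omega))
    hidem hne hne'
  refine ⟨CfsgLib.Absorb.range_cube_prod hr hv hdi hcop hM ⟨_, hxP⟩ ⟨y, hy⟩, fun hnp => ?_⟩
  refine CfsgLib.Absorb.range_square_prod hr hv hdi hcop hM ⟨_, y, ?_, hy, hyc⟩
  rw [CfsgLib.Absorb.orderOf_mk_unipotent p hn1 hU']
  congr 1
  refine le_antisymm (Nat.clog_mono_right p (by omega)) ((Nat.clog_le_iff_le_pow hp.one_lt).2 ?_)
  have := Nat.le_pow_clog hp.one_lt (n - 1)
  rcases this.eq_or_lt with h | h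
  · exact absurd ⟨_, h⟩ hnp
  · omega

end Cfsg.Agent.S2510
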