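import Cfsg.Statements.S2511
import Cfsg.Agent.Lib.Classical.SUSemisimple
import Cfsg.Agent.Lib.GLClass.AbsorbAbstract

set_option autoImplicit false
open Cfsg

namespace Cfsg.Agent.S2511

open Matrix CfsgLib.Absorb

section abstr

variable {G V : Type*} [Group G] [Finite G] [Group V] {r M P : ℕ}

private theorem cube (hr : r.Prime) (hv : ∀ v : V, orderOf v ∣ r)
    (hdi : ∀ x : G, (∃ z : G, orderOf z = Nat.lcm (orderOf x) r) ∨ orderOf x ∣ M * P) (hcop : M.Coprime P)
    (hM : ∃ x : G, orderOf x = M) (hP : ∃ x : G, orderOf x = P) (hR : ∃ x : G, orderOf x = r) :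
    Set.range (orderOf : G × G × G × V → ℕ) = Set.range (orderOf : G × G × G → ℕ) := by
  apply Set.Subset.antisymm
  swap
  · rintro _ ⟨⟨a, b, c⟩, rfl⟩
    exact ⟨⟨a, b, c, 1⟩, by simp [Prod.orderOf]⟩
  rintro _ ⟨⟨a, b, c, v⟩, rfl⟩
  simp only [Set.mem_range, Prod.exists, Prod.orderOf]
  rcases (Nat.dvd_prime hr).1 (hv v) with h | h
  · exact ⟨a, b, c, by simp [h]⟩
  rw [h]
  rcases hdi a with ⟨z, hz⟩ | ha
  · exact ⟨z, b, c, by simp only [hz]; ac_rfl⟩
  rcases hdi b with ⟨z, hz⟩ | hb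
  · exact ⟨a, z, c, by simp only [hz]; ac_rfl⟩
  rcases hdi c with ⟨z, hz⟩ | hc
  · exact ⟨a, b, z, by simp only [hz]⟩
  obtain ⟨xM, hxM⟩ := hM
  obtain ⟨xP, hxP⟩ := hP
  obtain ⟨xR, hxR⟩ := hR
  set L := Nat.lcm (orderOf a) (Nat.lcm (orderOf b) (orderOf c)) with hL
  have hLd : L ∣ M * P := Nat.lcm_dvd ha (Nat.lcm_dvd hb hc)
  obtain ⟨u, hu⟩ := exists_order_of_dvd (G := G) (show Nat.gcd L M ∣ orderOf xM by rw [hxM]; exact Nat.gcd_dvd_right L M)
  obtain ⟨w, hw⟩ := exists_order_of_dvd (G := G) (show Nat.gcd L P ∣ orderOf xP by rw [hxP]; exact Nat.gcd_dvd_right L P)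
  refine ⟨u, w, xR, ?_⟩
  rw [hu, hw, hxR, ← Nat.lcm_assoc, ← eq_gcd_mul_gcd hcop hLd, hL]
  ac_rfl

private theorem square (hr : r.Prime) (hv : ∀ v : V, orderOf v ∣ r)
    (hdi : ∀ x : G, (∃ z : G, orderOf z = Nat.lcm (orderOf x) r) ∨ orderOf x ∣ M * P) (hcop : M.Coprime P)
    (hM : ∃ x : G, orderOf x = M) (hP : ∃ x y : G, orderOf x = P ∧ orderOf y = r ∧ Commute x y) :
    Set.range (orderOf : G × G × V → ℕ) = Set.range (orderOf : G × G → ℕ) := by
  apply Set.Subset.antisymm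
  swap
  · rintro _ ⟨⟨a, b⟩, rfl⟩
    exact ⟨⟨a, b, 1⟩, by simp [Prod.orderOf]⟩
  rintro _ ⟨⟨a, b, v⟩, rfl⟩
  simp only [Set.mem_range, Prod.exists, Prod.orderOf]
  rcases (Nat.dvd_prime hr).1 (hv v) with h | h
  · exact ⟨a, b, by simp [h]⟩
  rw [h]
  rcases hdi a with ⟨z, hz⟩ | ha
  · exact ⟨z, b, by simp only [hz]; ac_rfl⟩
  rcases hdi b with ⟨z, hz⟩ | hb
  · exact ⟨a, z, by simp only [hz]⟩
  obtain ⟨xM, hxM⟩ := hM
  obtain ⟨xP, y, hxP, hy, hcm⟩ := hP
  set L := Nat.lcm (orderOf a) (orderOf b) with hL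
  obtain ⟨u, hu⟩ := exists_order_of_dvd (G := G) (show Nat.gcd L M ∣ orderOf xM by rw [hxM]; exact Nat.gcd_dvd_right L M)
  obtain ⟨k, hk⟩ : ∃ k, orderOf (xP ^ k) = Nat.gcd L P :=
    ⟨_, orderOf_pow_orderOf_div (orderOf_pos xP).ne' (hxP ▸ Nat.gcd_dvd_right L P)⟩
  obtain ⟨w, hw⟩ := exists_order_lcm_of_commute hr hy (hcm.pow_left k)
  refine ⟨u, w, ?_⟩
  rw [hu, hw, hk, ← Nat.lcm_assoc, ← eq_gcd_mul_gcd hcop (Nat.lcm_dvd ha hb), Nat.lcm_assoc]

end abstr

section unitary

open CfsgLib.SU CfsgLib.Classical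

variable {F : Type*} [Field F] [Fintype F] {q : ℕ} (C : UCtx F q)

private theorem val_pow {n : ℕ} (Y : ↥(Cfsg.SU n F q)) (k : ℕ) : (Y ^ k).1.1 = Y.1.1 ^ k :=
  map_pow ((Cfsg.slToMat n F).comp (Cfsg.SU n F q).subtype) Y k

include C in
private theorem pr_one_iff {n : ℕ} (hn : 3 ≤ n) {Y : ↥(Cfsg.SU n F q)} :
    pr Y = 1 ↔ ∃ c : F, Y.1.1 = c • (1 : Matrix (Fin n) (Fin n) F) := by
  rw [← map_one (pr (n := n) (F := F) (q := q)), eq_comm, C.pr_eq_iff hn]
  rfl

include C in
/-- A block element commuting with an element of order `r`. -/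
private theorem exists_commute {n a b r : ℕ} (hn : 3 ≤ n) (hab : n = a + b) (ha : 1 ≤ a) (hb : 1 ≤ b) (p : ℕ)
    [Fact p.Prime] [CharP F p] (hr : r.Prime) (hrn : ¬ r ∣ n) {c : F} (hc : orderOf c = r) (hcq : c * C.bar c = 1)
    (A : ↥(Cfsg.SU a F q)) (B : ↥(Cfsg.SU b F q)) (e : ℕ) (hB : B ^ p ^ e = 1) :
    ∃ y ε : Cfsg.PSU n F q, orderOf y = Nat.lcm (orderOf A) (orderOf B) ∧ orderOf ε = r ∧ Commute y ε := by
  subst hab
  haveI : Nonempty (Fin a) := ⟨⟨0, ha⟩⟩
  haveI : Nonempty (Fin b) := ⟨⟨0, hb⟩⟩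
  have hcr : c ^ r = 1 := hc ▸ pow_orderOf_eq_one c
  have hc1 : c ≠ 1 := fun h => hr.one_lt.ne' (by rw [← hc, h, orderOf_one])
  obtain ⟨j, hj⟩ : ∃ j, ∃ t, (a + b) * j + a = r * t := by
    have hcop : (a + b).Coprime r := (hr.coprime_iff_not_dvd.2 hrn).symm
    obtain ⟨j, -, hj⟩ := Nat.exists_mul_mod_eq_one_of_coprime hcop hr.one_lt
    refine ⟨j * (r - 1) * a, ?_⟩
    obtain ⟨w, hw⟩ : ∃ w, (a + b) * j = r * w + 1 := ⟨(a + b) * j / r, by
      have := Nat.div_add_mod ((a + b) * j) r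
      omega⟩
    obtain ⟨s, hs⟩ : ∃ s, r = s + 1 := ⟨r - 1, by have := hr.pos; omega⟩
    refine ⟨w * (r - 1) * a + a, ?_⟩
    rw [show (a + b) * (j * (r - 1) * a) = (a + b) * j * (r - 1) * a by ring, hw, hs, Nat.add_sub_cancel]
    ring
  obtain ⟨t, ht⟩ := hj
  set l := c ^ j with hl
  have hlq : l * C.bar l = 1 := by rw [hl, map_pow, ← mul_pow, hcq, one_pow]
  set M := HermStab.blockMat ((c * l) • (1 : Matrix (Fin a) (Fin a) F)) (l • (1 : Matrix (Fin b) (Fin b) F)) with hM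
  have hMd : M.det = 1 := by
    rw [hM, HermTori.det_blockMat, Matrix.det_smul, Matrix.det_smul, Matrix.det_one, Matrix.det_one, mul_one, mul_one,
      Fintype.card_fin, Fintype.card_fin, mul_pow, hl, ← pow_mul, ← pow_mul, ← pow_add, ← pow_add,
      show a + j * a + j * b = r * t by rw [← ht]; ring, pow_mul, hcr, one_pow]
  have hMf : ∀ u v, C.form (M *ᵥ u) (M *ᵥ v) = C.form u v := by
    refine HermTori.form_blockMat C (fun u v => ?_) fun u v => ?_
    · rw [Matrix.smul_mulVec, Matrix.smul_mulVec, Matrix.one_mulVec, Matrix.one_mulVec, C.form_smul_left,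
        C.form_smul_right, map_mul, ← mul_assoc, show c * l * (C.bar c * C.bar l) = (c * C.bar c) * (l * C.bar l) by ring,
        hcq, hlq, one_mul, one_mul]
    · rw [Matrix.smul_mulVec, Matrix.smul_mulVec, Matrix.one_mulVec, Matrix.one_mulVec, C.form_smul_left,
        C.form_smul_right, ← mul_assoc, hlq, one_mul]
  set ε := C.mkSU M hMd hMf with hε
  set Y := HermTori.blockSU C (A, B) with hY
  have hlr : l ^ r = 1 := by rw [hl, ← pow_mul, mul_comm, pow_mul, hcr, one_pow]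
  have hYv : ∀ k, (Y ^ k).1.1 = HermStab.blockMat (A ^ k).1.1 (B ^ k).1.1 := fun k => by
    rw [hY, ← map_pow]; rfl
  refine ⟨pr Y, pr ε, ?_, ?_, Commute.map ?_ _⟩
  · refine Nat.dvd_antisymm (orderOf_dvd_of_pow_eq_one ?_) ?_
    · rw [← map_pow, hY, ← map_pow, Prod.pow_mk, orderOf_dvd_iff_pow_eq_one.1 (Nat.dvd_lcm_left _ _),
        orderOf_dvd_iff_pow_eq_one.1 (Nat.dvd_lcm_right _ _), show ((1 : ↥(Cfsg.SU a F q)), (1 : ↥(Cfsg.SU b F q))) = 1 from rfl,
        map_one, map_one]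
    · set k := orderOf (pr Y)
      have h := pow_orderOf_eq_one (pr Y)
      rw [← map_pow, pr_one_iff C hn] at h
      obtain ⟨d, hd⟩ := h
      rw [hYv, ← HermTori.blockMat_scalar] at hd
      obtain ⟨hA', hB'⟩ := HermTori.blockMat_inj hd
      have hd1 : d = 1 := by
        haveI := charP_of_injective_algebraMap (algebraMap F F).injective p
        have h1 : (d ^ p ^ e) • (1 : Matrix (Fin b) (Fin b) F) = (1 : F) • 1 := by
          rw [one_smul, ← one_pow (p ^ e), ← smul_pow, ← hB', ← val_pow, ← pow_mul, mul_comm, pow_mul, hB, one_pow]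
          simp
        have h2 := congrFun (congrFun h1 ⟨0, hb⟩) ⟨0, hb⟩
        simp at h2
        exact (ExpChar.pow_prime_pow_mul_eq_one_iff p e 1 d).1 (by rw [mul_one, h2]) |> fun h => by simpa using h
      rw [hd1, one_smul] at hA' hB'
      exact Nat.lcm_dvd (orderOf_dvd_of_pow_eq_one (Subtype.ext (Subtype.ext hA')))
        (orderOf_dvd_of_pow_eq_one (Subtype.ext (Subtype.ext hB')))
  · haveI := Fact.mk hr
    refine orderOf_eq_prime ?_ fun h => ?_
    · rw [← map_pow, pr_one_iff C hn]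
      refine ⟨1, ?_⟩
      rw [val_pow, one_smul]
      show M ^ r = 1
      rw [hM, HermStab.blockMat, ← map_pow, Matrix.fromBlocks_diagonal_pow, smul_pow, smul_pow, one_pow, one_pow,
        mul_pow, hcr, hlr, one_mul, one_smul, one_smul, Matrix.fromBlocks_one, map_one]
    · rw [pr_one_iff C hn] at h
      obtain ⟨d, hd⟩ := h
      rw [show ε.1.1 = M from rfl, hM, ← HermTori.blockMat_scalar] at hd
      obtain ⟨h1, h2⟩ := HermTori.blockMat_inj hd
      have e1 := congrFun (congrFun h1 ⟨0, ha⟩) ⟨0, ha⟩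
      have e2 := congrFun (congrFun h2 ⟨0, hb⟩) ⟨0, hb⟩
      simp at e1 e2
      have hl0 : l ≠ 0 := left_ne_zero_of_mul_eq_one hlq
      exact hc1 (mul_right_cancel₀ hl0 (by rw [e1, ← e2, one_mul]))
  · refine Subtype.ext (Subtype.ext ?_)
    show HermStab.blockMat A.1.1 B.1.1 * M = M * HermStab.blockMat A.1.1 B.1.1
    rw [hM, HermStab.blockMat, HermStab.blockMat, ← map_mul, ← map_mul, Matrix.fromBlocks_multiply,
      Matrix.fromBlocks_multiply]
    simp

include C in
private theorem exists_max {n : ℕ} (hF : Fintype.card F = q ^ 2) (hn : 3 ≤ n) {p a : ℕ} [Fact p.Prime] [CharP F p]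
    (hq : q = p ^ a) : ∃ x : Cfsg.PSU n F q, orderOf x = HermTori.K q n / Nat.gcd n (q + 1) := by
  obtain ⟨T, hT⟩ := HermTori.exists_torus C (p := p) hq hF (m := n) (by omega) dvd_rfl
  refine CfsgLib.Absorb.exists_order_of_dvd (x := pr T) ?_
  set d := Nat.gcd n (q + 1)
  set k := orderOf (pr T)
  have h := pow_orderOf_eq_one (pr T)
  rw [← map_pow, pr_one_iff C hn] at h
  obtain ⟨c, hc⟩ := h
  have hd0 : 0 < d := Nat.gcd_pos_of_pos_left _ (by omega)
  have hdK : d ∣ HermTori.K q n := by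
    obtain ⟨w, hw⟩ : ∃ w, q = w + 1 := ⟨q - 1, by have := two_le_q hF; omega⟩
    have h1 : d ∣ w + 2 := by
      rw [show w + 2 = q + 1 by omega]
      exact Nat.gcd_dvd_right n (q + 1)
    rw [hw]
    exact HermTori.dvd_K h1 (Nat.gcd_dvd_left _ _)
  haveI : Nonempty (Fin n) := ⟨⟨0, by omega⟩⟩
  have hcn : c ^ n = 1 := by
    have := (T ^ k).1.2
    rw [hc, Matrix.det_smul, Matrix.det_one, mul_one, Fintype.card_fin] at this
    exact this
  have hcq : c ^ (q + 1) = 1 := by
    let e0 : Fin n → F := Pi.single ⟨0, by omega⟩ 1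
    have := C.form_su (T ^ k) e0 e0
    rw [hc, Matrix.smul_mulVec, Matrix.one_mulVec, C.form_smul_left, C.form_smul_right, ← mul_assoc] at this
    have he : C.form e0 e0 = 1 := by simp [e0, UCtx.form, Pi.single_apply, apply_ite C.bar]
    rw [he, mul_one, C.bar_eq, ← pow_succ'] at this
    exact this
  have hcd : c ^ d = 1 := pow_gcd_eq_one.2 ⟨hcn, hcq⟩
  have h2 : T ^ (k * d) = 1 := Subtype.ext (Subtype.ext (by
    show (T ^ (k * d)).1.1 = 1
    rw [pow_mul, val_pow, hc, smul_pow, one_pow, hcd, one_smul]))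
  exact (Nat.div_dvd_iff_dvd_mul hdK hd0).2 (by rw [mul_comm]; exact hT ▸ orderOf_dvd_of_pow_eq_one h2)

include C in
private theorem main (hF : Fintype.card F = q ^ 2) (p a n r m : ℕ) [Fact p.Prime] [CharP F p] (ha : 1 ≤ a)
    (hq : q = p ^ a) (hn : 3 ≤ n) (hr : r.Prime) (hrq : r ∣ q + 1) (hrn : ¬ r ∣ n) :
    Set.range (orderOf : Cfsg.PSU n F q × Cfsg.PSU n F q × Cfsg.PSU n F q × Multiplicative (Fin m → ZMod r) → ℕ) =
      Set.range (orderOf : Cfsg.PSU n F q × Cfsg.PSU n F q × Cfsg.PSU n F q → ℕ) ∧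
    ((¬ ∃ j : ℕ, n - 1 = p ^ j) →
      Set.range (orderOf : Cfsg.PSU n F q × Cfsg.PSU n F q × Multiplicative (Fin m → ZMod r) → ℕ) =
        Set.range (orderOf : Cfsg.PSU n F q × Cfsg.PSU n F q → ℕ)) := by
  classical
  have hp : p.Prime := Fact.out
  haveI := Fact.mk hr
  obtain ⟨c, hc⟩ : ∃ c : F, orderOf c = r := HermTori.exists_of_order F (hrq.trans ⟨q - 1, by
    rw [hF, ← Nat.sq_sub_sq, one_pow]⟩)
  have hcq : c * C.bar c = 1 := by
    rw [C.bar_eq, ← pow_succ']
    exact orderOf_dvd_iff_pow_eq_one.1 (hc ▸ hrq)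
  set d := Nat.gcd n (q + 1)
  set K := HermTori.K q n with hK
  set P := p ^ Nat.clog p n with hP
  have hdq : d ∣ q + 1 := Nat.gcd_dvd_right _ _
  have hdK : d ∣ K := by
    obtain ⟨w, hw⟩ : ∃ w, q = w + 1 := ⟨q - 1, by have := two_le_q hF; omega⟩
    rw [hK, hw]
    exact HermTori.dvd_K (by rw [show w + 2 = q + 1 by omega]; exact hdq) (Nat.gcd_dvd_left _ _)
  have hcop : (K / d).Coprime P :=
    ((HermTori.coprime_K hp ha hq (by omega)).pow_right _).coprime_dvd_left (Nat.div_dvd_of_dvd hdK)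
  have hdi : ∀ x : Cfsg.PSU n F q, (∃ z : Cfsg.PSU n F q, orderOf z = Nat.lcm (orderOf x) r) ∨
      orderOf x ∣ K / d * P := by
    intro x
    obtain ⟨X, rfl⟩ := QuotientGroup.mk'_surjective _ x
    rcases SUSemisimple.trichotomy (C := C) hF p hn X with ⟨G, hG, hGG, hG0, hG1, hGX⟩ | ⟨k, b, hkb, hk, hord, hone⟩
    · left
      set W : Matrix (Fin n) (Fin n) F := 1 + (c - 1) • G with hW
      have hWf : ∀ u v, C.form (W *ᵥ u) (W *ᵥ v) = C.form u v := fun u v => by
        have h1 : C.form (G *ᵥ u) (G *ᵥ v) = C.form u (G *ᵥ v) := by rw [hG, Matrix.mulVec_mulVec, hGG]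
        simp only [hW, Matrix.add_mulVec, Matrix.one_mulVec, Matrix.smul_mulVec, C.form_add_left, C.form_add_right,
          C.form_smul_left, C.form_smul_right, h1, hG u v, map_sub, map_one]
        linear_combination (C.form u (G *ᵥ v)) * hcq
      have hcr : c ^ r = 1 := hc ▸ pow_orderOf_eq_one c
      have hWk : ∀ k : ℕ, W ^ k = 1 + (c ^ k - 1) • G := by
        intro k
        induction k with
        | zero => simp
        | succ k ih =>
          rw [pow_succ, ih, hW, add_mul, one_mul, mul_add, mul_one, Matrix.smul_mul, Matrix.mul_smul, hGG, smul_smul,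
            ← add_assoc, add_assoc 1, add_assoc 1, ← add_smul, ← add_smul, pow_succ]
          congr 2
          ring
      have hWr : W ^ r = 1 := by rw [hWk, hcr, sub_self, zero_smul, add_zero]
      set δ := W.det with hδ
      have hδr : δ ^ r = 1 := by rw [hδ, ← Matrix.det_pow, hWr, Matrix.det_one]
      obtain ⟨j, w, hj⟩ : ∃ j w, n * j + 1 = r * w := by
        obtain ⟨j, -, hj⟩ := Nat.exists_mul_mod_eq_one_of_coprime (hr.coprime_iff_not_dvd.2 hrn).symm hr.one_lt
        obtain ⟨s, hs⟩ : ∃ s, r = s + 1 := ⟨r - 1, by have := hr.pos; omega⟩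
        obtain ⟨w, hw⟩ : ∃ w, n * j = r * w + 1 := ⟨n * j / r, by
          have := Nat.div_add_mod (n * j) r
          omega⟩
        refine ⟨j * s, w * s + 1, ?_⟩
        rw [← mul_assoc, hw, hs]
        ring
      set l := δ ^ j with hl
      have hlr : l ^ r = 1 := by rw [hl, ← pow_mul, mul_comm, pow_mul, hδr, one_pow]
      have hlq : l * C.bar l = 1 := by
        obtain ⟨t, ht⟩ := hrq
        rw [C.bar_eq, ← pow_succ', ht, pow_mul, hlr, one_pow]
      have hd1 : (l • W).det = 1 := by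
        rw [Matrix.det_smul, Fintype.card_fin, ← hδ, hl, ← pow_mul, ← pow_succ, mul_comm j, hj, pow_mul, hδr, one_pow]
      set ε := C.mkSU (l • W) hd1 (fun u v => by
        rw [Matrix.smul_mulVec, Matrix.smul_mulVec, C.form_smul_left, C.form_smul_right, hWf, ← mul_assoc, hlq, one_mul])
      have hl0 : l ≠ 0 := left_ne_zero_of_mul_eq_one hlq
      have hε : orderOf (pr ε) = r := by
        refine orderOf_eq_prime ?_ fun h => ?_
        · rw [← map_pow, pr_one_iff C hn]
          refine ⟨1, ?_⟩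
          rw [val_pow, one_smul]
          show (l • W) ^ r = 1
          rw [smul_pow, hlr, hWr, one_smul]
        · rw [pr_one_iff C hn] at h
          obtain ⟨e, he⟩ := h
          change l • W = e • 1 at he
          have hc1 : c - 1 ≠ 0 := sub_ne_zero.2 fun h1 => hr.one_lt.ne' (by rw [← hc, h1, orderOf_one])
          have hG' : G = ((l⁻¹ * e - 1) / (c - 1)) • 1 := by
            have h2 : (c - 1) • G = (l⁻¹ * e - 1) • (1 : Matrix (Fin n) (Fin n) F) := by
              rw [sub_smul (l⁻¹ * e), mul_smul, ← he, smul_smul, inv_mul_cancel₀ hl0, one_smul, one_smul, hW,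
                add_sub_cancel_left]
            rw [div_eq_mul_inv, mul_comm, mul_smul, ← h2, smul_smul, inv_mul_cancel₀ hc1, one_smul]
          haveI : Nonempty (Fin n) := ⟨⟨0, by omega⟩⟩
          set g := (l⁻¹ * e - 1) / (c - 1)
          have hg : g * g = g := by
            have h3 := congrFun (congrFun hGG ⟨0, by omega⟩) ⟨0, by omega⟩
            rw [hG', Matrix.smul_mul, one_mul, smul_smul] at h3
            simpa using h3
          rcases eq_or_ne g 0 with h0 | h0
          · exact hG0 (by rw [hG', h0, zero_smul])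
          · exact hG1 (by rw [hG', mul_right_cancel₀ h0 (hg.trans (one_mul g).symm), one_smul])
      refine CfsgLib.Absorb.exists_order_lcm_of_commute hr hε (Commute.map ?_ _)
      refine Subtype.ext (Subtype.ext ?_)
      show X.1.1 * (l • W) = (l • W) * X.1.1
      rw [Matrix.mul_smul, Matrix.smul_mul, hW, mul_add, add_mul, mul_one, one_mul, Matrix.mul_smul, Matrix.smul_mul,
        hGX.eq]
    · rcases Nat.lt_or_ge b 2 with hb1 | hb2
      · have hb : b = 1 := by
          rcases Nat.eq_zero_or_pos b with rfl | h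
          · omega
          · omega
        subst hb
        obtain rfl : n = k := by omega
        exact Or.inr (dvd_mul_of_dvd_left (hone rfl d hdK hdq) _)
      rcases Nat.lt_or_ge k 2 with hk1 | hk2
      · obtain rfl : k = 1 := by omega
        right
        rw [one_mul] at hkb
        rw [HermTori.K, if_neg (by decide), show 1 / 2 = 0 from rfl, HermTori.G, Finset.sum_range_zero, mul_zero,
          add_zero, one_mul, ← hkb] at hord
        exact dvd_mul_of_dvd_right hord _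
      · left
        obtain ⟨b', rfl⟩ : ∃ b', b = b' + 1 := ⟨b - 1, by omega⟩
        obtain ⟨T, hT⟩ := HermTori.exists_torus C (p := p) hq hF (m := k) hk (dvd_refl _)
        obtain ⟨U, hU⟩ := HermTori.exists_regular C p (d := k * b') (Nat.mul_pos hk (by omega))
        obtain ⟨y, ε, hy, hε, hcm⟩ := exists_commute C hn (a := k) (b := k * b') (by rw [hkb]; ring) hk
          (Nat.mul_pos hk (by omega)) p hr hrn hc hcq T U (Nat.clog p (k * b')) (hU ▸ pow_orderOf_eq_one U)
        have hle : b' + 1 ≤ k * b' := by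
          have : 2 * b' ≤ k * b' := Nat.mul_le_mul_right _ hk2
          omega
        have hcp : (HermTori.K q k).Coprime (p ^ Nat.clog p (k * b')) := (HermTori.coprime_K hp ha hq hk).pow_right _
        rw [hT, hU, hcp.lcm_eq_mul] at hy
        have hdvd : orderOf (pr X) ∣ orderOf y := by
          rw [hy]
          exact hord.trans (mul_dvd_mul_left _ (pow_dvd_pow p (Nat.clog_mono_right p hle)))
        have hy0 : orderOf y ≠ 0 := (orderOf_pos y).ne'
        obtain ⟨z, hz⟩ := CfsgLib.Absorb.exists_order_lcm_of_commute hr hε (hcm.pow_left (orderOf y / orderOf (pr X)))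
        refine ⟨z, ?_⟩
        rw [hz, orderOf_pow_orderOf_div hy0 hdvd]
  have hv : ∀ v : Multiplicative (Fin m → ZMod r), orderOf v ∣ r := fun v => orderOf_dvd_of_pow_eq_one (by
    refine Multiplicative.toAdd.injective ?_
    rw [toAdd_pow, toAdd_one]
    exact funext fun i => by simp)
  have hM : ∃ x : Cfsg.PSU n F q, orderOf x = K / d := exists_max C hF hn hq
  obtain ⟨U1, hU1⟩ := HermTori.exists_regular C p (d := n - 1) (by omega)
  obtain ⟨y, ε, hy, hε, hcm⟩ := exists_commute C hn (a := 1) (b := n - 1) (by omega) le_rfl (by omega) p hr hrn hc hcq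
    (1 : ↥(Cfsg.SU 1 F q)) U1 (Nat.clog p (n - 1)) (hU1 ▸ pow_orderOf_eq_one U1)
  have hPx : ∃ x : Cfsg.PSU n F q, orderOf x = P := by
    obtain ⟨U, hU⟩ := HermTori.exists_regular C p (d := n) (by omega)
    refine ⟨pr U, (Nat.dvd_antisymm (orderOf_map_dvd _ _) (orderOf_dvd_of_pow_eq_one ?_)).trans hU⟩
    have h := pow_orderOf_eq_one (pr U)
    rw [← map_pow, pr_one_iff C hn] at h
    obtain ⟨e, he⟩ := h
    haveI : Nonempty (Fin n) := ⟨⟨0, by omega⟩⟩
    have h1 : (e ^ P) • (1 : Matrix (Fin n) (Fin n) F) = (1 : F) • 1 := by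
      rw [one_smul, ← one_pow P, ← smul_pow, ← he, ← val_pow, ← pow_mul, mul_comm, pow_mul, hP, ← hU,
        pow_orderOf_eq_one, one_pow]
      simp
    have h2 := congrFun (congrFun h1 ⟨0, by omega⟩) ⟨0, by omega⟩
    simp at h2
    have he1 : e = 1 := by
      rw [hP] at h2
      simpa using (ExpChar.pow_prime_pow_mul_eq_one_iff p (Nat.clog p n) 1 e).1 (by rw [mul_one, h2])
    exact Subtype.ext (Subtype.ext (by rw [he, he1, one_smul]; rfl))
  refine ⟨cube hr hv hdi hcop hM hPx ⟨ε, hε⟩, fun hnot => square hr hv hdi hcop hM ?_⟩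
  refine ⟨y, ε, ?_, hε, hcm⟩
  rw [hy, orderOf_one, Nat.lcm_one_left, hU1, hP]
  refine congrArg (p ^ ·) (le_antisymm (Nat.clog_mono_right _ (by omega)) (Nat.clog_le_of_le_pow ?_))
  have hle : n - 1 ≤ p ^ Nat.clog p (n - 1) := Nat.le_pow_clog hp.one_lt _
  by_contra hlt
  exact hnot ⟨Nat.clog p (n - 1), by omega⟩

end unitary

/-- Let F be a finite field with q² elements, q = p^a, n ≥ 3 with (n, q) ≠ (3, 2), L = PSU(n, q) realised over F, and let r be a prime dividing q + 1 and not dividing n. Then for every m the direct product L × L × L × (ℤ/r)^m has the same set of element orders as L × L × L; and if n − 1 is not a power of p, then already L × L × (ℤ/r)^m has the same set of element orders as L × L. -/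
theorem result {F : Type*} [Field F] [Fintype F] (p a n q r m : ℕ) (hp : p.Prime) (ha : 1 ≤ a) (hq : q = p ^ a) (hF : Fintype.card F = q ^ 2)
    (hn : 3 ≤ n) (hn3 : ¬ (n = 3 ∧ q = 2)) (hr : r.Prime) (hrq : r ∣ q + 1) (hrn : ¬ r ∣ n) :
    Set.range (orderOf : Cfsg.PSU n F q × Cfsg.PSU n F q × Cfsg.PSU n F q × Multiplicative (Fin m → ZMod r) → ℕ) = Set.range (orderOf : Cfsg.PSU n F q × Cfsg.PSU n F q × Cfsg.PSU n F q → ℕ) ∧
    ((¬ ∃ j : ℕ, n - 1 = p ^ j) →
      Set.range (orderOf : Cfsg.PSU n F q × Cfsg.PSU n F q × Multiplicative (Fin m → ZMod r) → ℕ) = Set.range (orderOf : Cfsg.PSU n F q × Cfsg.PSU n F q → ℕ)) := by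
  haveI := Fact.mk hp
  haveI : CharP F p := charP_of_card_eq_prime_pow (f := a * 2) (by rw [hF, hq, ← pow_mul])
  obtain ⟨C⟩ := CfsgLib.Classical.uctx_exists hF
  exact main C hF p a n r m ha hq hn hr hrq hrn

end Cfsg.Agent.S2511
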