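import Cfsg.Statements.S2512
import Cfsg.Agent.Lib.Classical.SpOrders
import Cfsg.Agent.Lib.Classical.SpSemisimple
import Cfsg.Agent.Lib.GLClass.AbsorbAbstract

set_option autoImplicit false
open Cfsg

namespace Cfsg.Agent.S2512

open Matrix CfsgLib.Sp CfsgLib.Absorb CfsgLib.Classical

section abstr

variable {G V : Type*} [Group G] [Finite G] [Group V] {r M P : ℕ}

private theorem cube (hr : r.Prime) (hv : ∀ v : V, orderOf v ∣ r)
    (hdi : ∀ x : G, (∃ z : G, orderOf z = Nat.lcm (orderOf x) r) ∨ orderOf x ∣ M * P) (hcop : M.Coprime P)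
    (hM : ∃ x : G, orderOf x = M) (hP : ∃ x : G, orderOf x = P) (hR : ∃ x : G, orderOf x = r) :
    Set.range (orderOf : G × G × G × V → ℕ) = Set.range (orderOf : G × G × G → ℕ) := by
  apply Set.Subset.antisymm
  swap
  · rintro _ ⟨⟨a, b, c⟩, rfl⟩
    exact ⟨⟨a, b, c, 1⟩, by simp [Prod.orderOf]⟩
  rintro _ ⟨⟨a, b, c, v⟩, rfl⟩
  simp only [Set.mem_range, Prod.exists, Prod.orderOf]
  rcases (Nat.dvd_prime hr).1 (hv v) with h | h
  · exact ⟨a, b, c, by simp [h]⟩
  rw [h]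
  rcases hdi a with ⟨z, hz⟩ | ha
  · exact ⟨z, b, c, by simp only [hz]; ac_rfl⟩
  rcases hdi b with ⟨z, hz⟩ | hb
  · exact ⟨a, z, c, by simp only [hz]; ac_rfl⟩
  rcases hdi c with ⟨z, hz⟩ | hc
  · exact ⟨a, b, z, by simp only [hz]⟩
  obtain ⟨xM, hxM⟩ := hM
  obtain ⟨xP, hxP⟩ := hP
  obtain ⟨xR, hxR⟩ := hR
  set L := Nat.lcm (orderOf a) (Nat.lcm (orderOf b) (orderOf c)) with hL
  have hLd : L ∣ M * P := Nat.lcm_dvd ha (Nat.lcm_dvd hb hc)
  obtain ⟨u, hu⟩ := exists_order_of_dvd (G := G) (show Nat.gcd L M ∣ orderOf xM by rw [hxM]; exact Nat.gcd_dvd_right L M)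
  obtain ⟨w, hw⟩ := exists_order_of_dvd (G := G) (show Nat.gcd L P ∣ orderOf xP by rw [hxP]; exact Nat.gcd_dvd_right L P)
  refine ⟨u, w, xR, ?_⟩
  rw [hu, hw, hxR, ← Nat.lcm_assoc, ← eq_gcd_mul_gcd hcop hLd, hL]
  ac_rfl

private theorem square (hr : r.Prime) (hv : ∀ v : V, orderOf v ∣ r)
    (hdi : ∀ x : G, (∃ z : G, orderOf z = Nat.lcm (orderOf x) r) ∨ orderOf x ∣ M * P) (hcop : M.Coprime P)
    (hM : ∃ x : G, orderOf x = M) (hP : ∃ x y : G, orderOf x = P ∧ orderOf y = r ∧ Commute x y) :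
    Set.range (orderOf : G × G × V → ℕ) = Set.range (orderOf : G × G → ℕ) := by
  apply Set.Subset.antisymm
  swap
  · rintro _ ⟨⟨a, b⟩, rfl⟩
    exact ⟨⟨a, b, 1⟩, by simp [Prod.orderOf]⟩
  rintro _ ⟨⟨a, b, v⟩, rfl⟩
  simp only [Set.mem_range, Prod.exists, Prod.orderOf]
  rcases (Nat.dvd_prime hr).1 (hv v) with h | h
  · exact ⟨a, b, by simp [h]⟩
  rw [h]
  rcases hdi a with ⟨z, hz⟩ | ha
  · exact ⟨z, b, by simp only [hz]; ac_rfl⟩
  rcases hdi b with ⟨z, hz⟩ | hb
  · exact ⟨a, z, by simp only [hz]⟩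
  obtain ⟨xM, hxM⟩ := hM
  obtain ⟨xP, y, hxP, hy, hcm⟩ := hP
  set L := Nat.lcm (orderOf a) (orderOf b) with hL
  obtain ⟨u, hu⟩ := exists_order_of_dvd (G := G) (show Nat.gcd L M ∣ orderOf xM by rw [hxM]; exact Nat.gcd_dvd_right L M)
  obtain ⟨k, hk⟩ : ∃ k, orderOf (xP ^ k) = Nat.gcd L P :=
    ⟨_, orderOf_pow_orderOf_div (orderOf_pos xP).ne' (hxP ▸ Nat.gcd_dvd_right L P)⟩
  obtain ⟨w, hw⟩ := exists_order_lcm_of_commute hr hy (hcm.pow_left k)
  refine ⟨u, w, ?_⟩
  rw [hu, hw, hk, ← Nat.lcm_assoc, ← eq_gcd_mul_gcd hcop (Nat.lcm_dvd ha hb), Nat.lcm_assoc]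

end abstr

section symp

variable {F : Type*} [Field F] [Fintype F] {n : ℕ}

private theorem pr_one_iff (hn : 1 ≤ n) {A : Matrix.symplecticGroup (Fin n) F} :
    pr A = 1 ↔ A.1 = 1 ∨ A.1 = -1 := by
  rw [← map_one (pr (m := n) (F := F)), eq_comm, pr_eq_iff hn]
  rfl

private theorem neg_one_ne (h2 : (2 : F) ≠ 0) (hn : 1 ≤ n) : (-1 : Matrix (Fin n ⊕ Fin n) (Fin n ⊕ Fin n) F) ≠ 1 :=
  fun h => h2 (by
    have := congrFun (congrFun h (.inl ⟨0, hn⟩)) (.inl ⟨0, hn⟩)
    rw [Matrix.neg_apply, Matrix.one_apply_eq] at this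
    linear_combination -this)

private theorem order_pr_odd (h2 : (2 : F) ≠ 0) (hn : 1 ≤ n) {A : Matrix.symplecticGroup (Fin n) F}
    (hA : Odd (orderOf A)) : orderOf (pr A) = orderOf A := by
  refine Nat.dvd_antisymm (orderOf_map_dvd _ _) (orderOf_dvd_of_pow_eq_one ?_)
  have h := pow_orderOf_eq_one (pr A)
  rw [← map_pow, pr_one_iff hn] at h
  rcases h with h | h
  · exact Subtype.ext h
  · exfalso
    set k := orderOf (pr A)
    have h1 : ((A ^ k) ^ orderOf A).1 = 1 := by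
      rw [← pow_mul, mul_comm, pow_mul, pow_orderOf_eq_one, one_pow]; rfl
    rw [SubmonoidClass.coe_pow, h, hA.neg_one_pow] at h1
    exact neg_one_ne h2 hn h1

private theorem order_pr_two (hn : 1 ≤ n) {A : Matrix.symplecticGroup (Fin n) F} (h : A.1 * A.1 = 1 ∨ A.1 * A.1 = -1)
    (h1 : A.1 ≠ 1) (h' : A.1 ≠ -1) : orderOf (pr A) = 2 := by
  haveI := Fact.mk Nat.prime_two
  refine orderOf_eq_prime ?_ fun h0 => ((pr_one_iff hn).1 h0).elim h1 h'
  rw [pow_two, ← map_mul, pr_one_iff hn]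
  exact h

private theorem order_pr_half (h2 : (2 : F) ≠ 0) (hn : 1 ≤ n) {A : Matrix.symplecticGroup (Fin n) F} {k : ℕ}
    (hk : 0 < k) (hA : orderOf A = 2 * k) (hA' : (A ^ k).1 = -1) : orderOf (pr A) = k := by
  refine Nat.dvd_antisymm (orderOf_dvd_of_pow_eq_one ?_) (Nat.dvd_of_mul_dvd_mul_left two_pos ?_)
  · rw [← map_pow, pr_one_iff hn]; exact Or.inr hA'
  · rw [← hA]
    refine orderOf_dvd_of_pow_eq_one (Subtype.ext ?_)
    have h := pow_orderOf_eq_one (pr A)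
    rw [← map_pow, pr_one_iff hn] at h
    rw [pow_mul', SubmonoidClass.coe_pow, pow_two]
    rcases h with h | h <;> rw [h] <;> simp

private theorem block_pair (h2 : (2 : F) ≠ 0) {a b : ℕ} (ha : 1 ≤ a) (hb : 1 ≤ b) (hab : n = a + b)
    (A : Matrix.symplecticGroup (Fin a) F) (B : Matrix.symplecticGroup (Fin b) F)
    (hA : Odd (orderOf A)) (hB : Odd (orderOf B)) :
    ∃ y ε : Cfsg.PSp n F, orderOf y = Nat.lcm (orderOf A) (orderOf B) ∧ orderOf ε = 2 ∧ Commute y ε := by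
  subst hab
  have hmem : (-1 : Matrix (Fin a ⊕ Fin a) (Fin a ⊕ Fin a) F) ∈ Matrix.symplecticGroup (Fin a) F :=
    mem_sp_iff.2 fun u v => by simp [Matrix.neg_mulVec, sf_eq]
  let ε : Matrix.symplecticGroup (Fin a) F := ⟨-1, hmem⟩
  have hinj : Function.Injective (SpOrders.blockHom (F := F) a b) := fun x y h => by
    obtain ⟨h1, h2⟩ := SpOrders.bmat_inj (congrArg Subtype.val h)
    exact Prod.ext (Subtype.ext h1) (Subtype.ext h2)
  have ho : orderOf (SpOrders.blockHom a b (A, B)) = Nat.lcm (orderOf A) (orderOf B) := by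
    rw [orderOf_injective _ hinj, Prod.orderOf]
  have hodd : Odd (orderOf (SpOrders.blockHom a b (A, B))) := by
    rw [ho]
    exact (hA.mul hB).of_dvd_nat (Nat.lcm_dvd_mul _ _)
  refine ⟨pr (SpOrders.blockHom a b (A, B)), pr (SpOrders.blockHom a b (ε, 1)),
    (order_pr_odd h2 (by omega) hodd).trans ho, order_pr_two (by omega) (Or.inl ?_) ?_ ?_, ?_⟩
  · show SpOrders.bmat (-1) 1 * SpOrders.bmat (-1) 1 = 1
    rw [SpOrders.bmat_mul, SpOrders.bmat_one]
    simp
  · intro h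
    exact neg_one_ne h2 ha (SpOrders.bmat_inj (h.trans (SpOrders.bmat_one a b))).1
  · intro h
    have h' : SpOrders.bmat (-1 : Matrix (Fin a ⊕ Fin a) (Fin a ⊕ Fin a) F) (1 : Matrix (Fin b ⊕ Fin b) (Fin b ⊕ Fin b) F)
        = SpOrders.bmat (-1) (-1) := by
      rw [SpOrders.bmat_neg, ← SpOrders.bmat_one]; exact h
    exact neg_one_ne h2 hb (SpOrders.bmat_inj h').2.symm
  · refine (Commute.map ?_ (pr (m := a + b) (F := F)))
    refine (Commute.map ?_ (SpOrders.blockHom a b))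
    refine Prod.ext (Subtype.ext ?_) (by simp)
    show A.1 * (-1) = (-1) * A.1
    simp

private theorem clog_eq (p : ℕ) (hp : p.Prime) (hp2 : Odd p) (hn : 2 ≤ n) (h : ¬ ∃ j : ℕ, 2 * n - 1 = p ^ j) :
    Nat.clog p (2 * (n - 1)) = Nat.clog p (2 * n) := by
  refine le_antisymm (Nat.clog_mono_right _ (by omega)) ?_
  set c := Nat.clog p (2 * (n - 1))
  have hle : 2 * (n - 1) ≤ p ^ c := Nat.le_pow_clog hp.one_lt _
  obtain ⟨w, hw⟩ := (hp2.pow : Odd (p ^ c))
  refine Nat.clog_le_of_le_pow ?_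
  by_contra hlt
  exact h ⟨c, by omega⟩

end symp

/-- Let F be a finite field of odd order q = p^a, n ≥ 2 (with q ≥ 3 automatic), and L = PSp(2n, F). Then for every m the direct product L × L × L × (ℤ/2)^m has the same set of element orders as L × L × L; and if 2n − 1 is not a power of p, then already L × L × (ℤ/2)^m has the same set of element orders as L × L. -/
theorem result {F : Type*} [Field F] [Fintype F] (p a n m : ℕ) (hp : p.Prime) (ha : 1 ≤ a) (hF : Fintype.card F = p ^ a) (hodd : Odd (Fintype.card F))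
    (hn : 2 ≤ n) :
    Set.range (orderOf : Cfsg.PSp n F × Cfsg.PSp n F × Cfsg.PSp n F × Multiplicative (Fin m → ZMod 2) → ℕ) = Set.range (orderOf : Cfsg.PSp n F × Cfsg.PSp n F × Cfsg.PSp n F → ℕ) ∧
    ((¬ ∃ j : ℕ, 2 * n - 1 = p ^ j) →
      Set.range (orderOf : Cfsg.PSp n F × Cfsg.PSp n F × Multiplicative (Fin m → ZMod 2) → ℕ) = Set.range (orderOf : Cfsg.PSp n F × Cfsg.PSp n F → ℕ)) := by
  classical
  haveI := Fact.mk hp
  haveI : CharP F p := charP_of_card_eq_prime_pow (f := a) (by rw [hF])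
  have hp2 : Odd p := by
    rw [hF] at hodd
    exact Odd.of_dvd_nat hodd (dvd_pow_self p (by omega))
  have h2 : (2 : F) ≠ 0 := by
    intro h
    have h' : ((2 : ℕ) : F) = 0 := by simpa using h
    rw [CharP.cast_eq_zero_iff F p] at h'
    rcases (Nat.dvd_prime Nat.prime_two).1 h' with h3 | h3
    · exact hp.one_lt.ne' h3
    · rw [h3] at hp2; exact absurd hp2 (by decide)
  set q := Fintype.card F with hq
  obtain ⟨w, hw⟩ : Odd (q ^ n) := hodd.pow
  obtain ⟨M, N, hMo, hN4, hM2, hMp, hdvd⟩ : ∃ M N : ℕ, Odd M ∧ 4 ∣ N ∧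
      (2 * M = q ^ n - 1 ∨ 2 * M = q ^ n + 1) ∧ M.Coprime p ∧
      ((N = q ^ n - 1 ∧ 2 * M = q ^ n + 1) ∨ (N = q ^ n + 1 ∧ 2 * M = q ^ n - 1)) := by
    have hcop : ∀ M, (2 * M = q ^ n - 1 ∨ 2 * M = q ^ n + 1) → M.Coprime p := fun M hM => by
      refine (hp.coprime_iff_not_dvd.2 fun hd => ?_).symm
      have h1 : p ∣ q ^ n := by rw [hF, ← pow_mul]; exact dvd_pow_self p (Nat.mul_ne_zero (by omega) (by omega))
      have h3 : p ∣ 2 * M := hd.mul_left 2
      have h4 : p ∣ 1 := by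
        rcases hM with h | h <;> rw [h] at h3
        · have := Nat.dvd_sub h1 h3
          rwa [Nat.sub_sub_self (by omega)] at this
        · exact (Nat.dvd_add_right h1).1 h3
      exact hp.not_dvd_one h4
    rcases Nat.even_or_odd w with ⟨v, rfl⟩ | ⟨v, rfl⟩
    · exact ⟨2 * v + 1, q ^ n - 1, ⟨v, by omega⟩, ⟨v, by omega⟩, Or.inr (by omega), hcop _ (Or.inr (by omega)),
        Or.inl ⟨rfl, by omega⟩⟩
    · exact ⟨2 * v + 1, q ^ n + 1, ⟨v, by omega⟩, ⟨v + 1, by omega⟩, Or.inl (by omega), hcop _ (Or.inl (by omega)),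
        Or.inr ⟨rfl, by omega⟩⟩
  set P := p ^ Nat.clog p (2 * n) with hP
  have hM : ∃ x : Cfsg.PSp n F, orderOf x = M := by
    obtain ⟨x, hx, -⟩ := SpOrders.exists_orders (F := F) p hodd n (by omega) M (by
      rw [← hq]
      rcases hM2 with h | h
      · exact Or.inl (Dvd.intro_left 2 h)
      · exact Or.inr (Dvd.intro_left 2 h))
    exact ⟨pr x, (order_pr_odd h2 (by omega) (hx ▸ hMo)).trans hx⟩
  have hPx : ∃ x : Cfsg.PSp n F, orderOf x = P := by
    obtain ⟨x, hx⟩ := SpOrders.exists_unipotent_order (F := F) p n (by omega)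
    exact ⟨pr x, (order_pr_odd h2 (by omega) (hx ▸ hp2.pow)).trans hx⟩
  have hN : ∀ k, k ∣ N → ∃ x : Matrix.symplecticGroup (Fin n) F, orderOf x = k ∧ (2 ∣ k → (x ^ (k / 2)).1 = -1) :=
    fun k hk => SpOrders.exists_orders (F := F) p hodd n (by omega) k (by
      rw [← hq]
      rcases hdvd with ⟨h, -⟩ | ⟨h, -⟩ <;> rw [h] at hk
      · exact Or.inl hk
      · exact Or.inr hk)
  have half : ∀ k, 0 < k → 2 * k ∣ N → ∃ x : Cfsg.PSp n F, orderOf x = k := fun k hk0 hk => by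
    obtain ⟨x, hx, hx'⟩ := hN _ hk
    have := hx' (dvd_mul_right 2 k)
    rw [Nat.mul_div_cancel_left k two_pos] at this
    exact ⟨pr x, order_pr_half h2 (by omega) hk0 hx this⟩
  have hR : ∃ x : Cfsg.PSp n F, orderOf x = 2 := half 2 two_pos hN4
  have hdi : ∀ x : Cfsg.PSp n F, (∃ z : Cfsg.PSp n F, orderOf z = Nat.lcm (orderOf x) 2) ∨ orderOf x ∣ M * P := by
    intro x
    rcases Nat.even_or_odd (orderOf x) with he | ho
    · exact Or.inl ⟨x, (Nat.lcm_eq_left he.two_dvd).symm⟩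
    obtain ⟨X0, hX0⟩ := QuotientGroup.mk'_surjective _ x
    obtain ⟨c, hc⟩ := ho
    set X := X0 ^ (orderOf x + 1) with hX
    have hXx : pr X = x := by
      rw [hX, map_pow]
      show pr X0 ^ _ = x
      rw [show pr X0 = x from hX0, pow_succ, pow_orderOf_eq_one, one_mul]
    have hXk : X ^ orderOf x = 1 := Subtype.ext (by
      rw [hX, ← pow_mul, mul_comm, pow_mul, hc, show 2 * c + 1 + 1 = 2 * (c + 1) by ring, pow_mul, ← hc,
        SubmonoidClass.coe_pow, SubmonoidClass.coe_pow]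
      have h : pr (X0 ^ orderOf x) = 1 := by rw [map_pow, show pr X0 = x from hX0, pow_orderOf_eq_one]
      rcases (pr_one_iff (by omega : 1 ≤ n)).1 h with h | h <;> rw [h] <;> simp [pow_two])
    have hXodd : Odd (orderOf X) := Odd.of_dvd_nat ⟨c, hc⟩ (orderOf_dvd_of_pow_eq_one hXk)
    have hXo : orderOf x = orderOf X := by rw [← hXx]; exact order_pr_odd h2 (by omega) hXodd
    rcases SpSemisimple.trichotomy p h2 X hXodd with ⟨ε, he2, he1, hen, hec⟩ | ⟨d, b, r, e, hnab, hor, hr, hrd, hd, hb, hpe⟩ | h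
    · refine Or.inl (exists_order_lcm_of_commute Nat.prime_two (y := pr ε)
        (order_pr_two (by omega) (Or.inl (congrArg Subtype.val he2)) he1 hen) ?_)
      rw [← hXx]
      exact (hec.symm).map _
    · rcases Nat.lt_or_ge b 2 with hb1 | hb2
      · obtain rfl : b = 1 := by omega
        rw [Nat.clog_one_right, pow_zero, Nat.dvd_one] at hpe
        rw [hpe, mul_one] at hor
        obtain rfl : n = d := by omega
        rw [← hq] at hrd
        have hr4 : r.Coprime 4 := (Nat.coprime_two_right.2 hr.1).pow_right 2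
        rcases hdvd with ⟨hN', hM'⟩ | ⟨hN', hM'⟩ <;> rcases hrd with hrd | hrd
        · refine Or.inl ?_
          rw [hXo, hor]
          rw [(Nat.coprime_two_right.2 hr.1).lcm_eq_mul]
          exact half _ (Nat.mul_pos hr.1.pos two_pos) (by
            rw [show 2 * (r * 2) = r * 4 by ring, hN']
            exact Nat.Coprime.mul_dvd_of_dvd_of_dvd hr4 hrd (hN' ▸ hN4))
        · refine Or.inr (dvd_mul_of_dvd_left ?_ _)
          rw [hXo, hor]
          exact (Nat.coprime_two_right.2 hr.1).dvd_of_dvd_mul_left (hM'.symm ▸ hrd)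
        · refine Or.inr (dvd_mul_of_dvd_left ?_ _)
          rw [hXo, hor]
          exact (Nat.coprime_two_right.2 hr.1).dvd_of_dvd_mul_left (hM'.symm ▸ hrd)
        · refine Or.inl ?_
          rw [hXo, hor]
          rw [(Nat.coprime_two_right.2 hr.1).lcm_eq_mul]
          exact half _ (Nat.mul_pos hr.1.pos two_pos) (by
            rw [show 2 * (r * 2) = r * 4 by ring, hN']
            exact Nat.Coprime.mul_dvd_of_dvd_of_dvd hr4 hrd (hN' ▸ hN4))
      · obtain ⟨s, hs, -⟩ := SpOrders.exists_orders (F := F) p hodd d hd r hrd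
        obtain ⟨b', rfl⟩ : ∃ b', b = b' + 1 := ⟨b - 1, by omega⟩
        have hdb : 1 ≤ d * b' := Nat.mul_pos (by omega) (by omega)
        obtain ⟨u, hu⟩ := SpOrders.exists_unipotent_order (F := F) p (d * b') hdb
        have hle : b' + 1 ≤ 2 * (d * b') := by
          have : b' ≤ d * b' := Nat.le_mul_of_pos_left b' (by omega)
          omega
        obtain ⟨u', hu'⟩ := exists_order_of_dvd (x := u) (show p ^ e ∣ orderOf u by
          rw [hu]; exact hpe.trans (pow_dvd_pow p (Nat.clog_mono_right p hle)))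
        obtain ⟨y, ε, hy, hε, hc'⟩ := block_pair h2 (n := n) hd hdb (by rw [hnab]; ring) s u' (hs ▸ hr.1) (hu' ▸ hp2.pow)
        obtain ⟨z, hz⟩ := exists_order_lcm_of_commute Nat.prime_two hε hc'
        refine Or.inl ⟨z, ?_⟩
        rw [hz, hy, hs, hu', hXo, hor,
          ((hp.coprime_iff_not_dvd.2 hr.2).symm.pow_right e).lcm_eq_mul]
    · exact Or.inr (dvd_mul_of_dvd_right (hXo ▸ h) _)
  have hv : ∀ v : Multiplicative (Fin m → ZMod 2), orderOf v ∣ 2 := fun v => orderOf_dvd_of_pow_eq_one (by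
    rw [pow_two]
    exact Multiplicative.toAdd.injective (funext fun i => CharTwo.add_self_eq_zero _))
  have hcop : M.Coprime P := hMp.pow_right _
  refine ⟨cube Nat.prime_two hv hdi hcop hM hPx hR, fun hnot => square Nat.prime_two hv hdi hcop hM ?_⟩
  obtain ⟨u, hu⟩ := SpOrders.exists_unipotent_order (F := F) p (n - 1) (by omega)
  obtain ⟨y, ε, hy, hε, hc'⟩ := block_pair h2 (n := n) (a := n - 1) (b := 1) (by omega) le_rfl (by omega) u 1
    (hu ▸ hp2.pow) (by simp)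
  exact ⟨y, ε, by rw [hy, hu, orderOf_one, Nat.lcm_one_right, clog_eq p hp hp2 hn hnot], hε, hc'⟩

end Cfsg.Agent.S2512
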