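import Cfsg.Statements.S2513
import Cfsg.Agent.Lib.GLClass.Orders

set_option autoImplicit false
open Cfsg

namespace Cfsg.Agent.S2513

/-- Let F be the field with two elements, n ≥ 2, L = PSL(n, F) and k₀ = ⌊(n + 3)/2⌋. Then for every k ≥ k₀ the direct product of k copies of L has the same set of element orders as the direct product of k₀ copies of L. -/
theorem result {F : Type*} [Field F] [Fintype F] (hF : Fintype.card F = 2) (n k : ℕ) (hn : 2 ≤ n) (hk : (n + 3) / 2 ≤ k) :
    Set.range (orderOf : (Fin k → Matrix.ProjectiveSpecialLinearGroup (Fin n) F) → ℕ) = Set.range (orderOf : (Fin ((n + 3) / 2) → Matrix.ProjectiveSpecialLinearGroup (Fin n) F) → ℕ) := by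
  classical
  haveI : CharP F 2 := charP_of_card_eq_prime_pow (f := 1) (by rw [hF, pow_one])
  haveI : Finite (Matrix.SpecialLinearGroup (Fin n) F) :=
    Finite.of_injective (fun X => (X.1 : Matrix _ _ F)) Subtype.val_injective
  have hone : ∀ x : F, x ≠ 0 → x = 1 := fun x hx => by
    have := FiniteField.pow_card_sub_one_eq_one x hx
    rwa [hF, pow_one] at this
  obtain ⟨φ, hφ⟩ : ∃ φ : GL (Fin n) F →* Matrix.ProjectiveSpecialLinearGroup (Fin n) F,
      Function.Bijective φ := by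
    have hb : Function.Bijective
        (Matrix.SpecialLinearGroup.toGL : Matrix.SpecialLinearGroup (Fin n) F →* GL (Fin n) F) := by
      refine ⟨Matrix.SpecialLinearGroup.toGL_injective, fun g => ⟨⟨g.1, ?_⟩, Units.ext rfl⟩⟩
      exact hone _ (Matrix.GeneralLinearGroup.det g).ne_zero
    refine ⟨(QuotientGroup.mk' (Subgroup.center (Matrix.SpecialLinearGroup (Fin n) F))).comp
      (MulEquiv.ofBijective _ hb).symm.toMonoidHom, ?_⟩
    rw [MonoidHom.coe_comp]
    refine (Function.Bijective.comp (g := QuotientGroup.mk' _) ⟨?_, QuotientGroup.mk'_surjective _⟩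
      (MulEquiv.ofBijective _ hb).symm.bijective)
    rw [← MonoidHom.ker_eq_bot_iff, QuotientGroup.ker_mk', eq_bot_iff]
    intro s hs
    obtain ⟨c, hc, hcs⟩ := Matrix.SpecialLinearGroup.mem_center_iff.1 hs
    have hc1 : c = 1 := hone c (fun h0 => by
      rw [h0, Fintype.card_fin, zero_pow (by omega)] at hc
      exact zero_ne_one hc)
    rw [Subgroup.mem_bot]
    apply Subtype.ext
    rw [← hcs, hc1, map_one]
    rfl
  set m := (n + 3) / 2 with hm
  have key : ∀ {j : ℕ} (x : Fin j → Matrix.ProjectiveSpecialLinearGroup (Fin n) F) (N : ℕ),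
      orderOf x ∣ N ↔ ∀ i, orderOf (x i) ∣ N := by
    intro j x N
    simp only [orderOf_dvd_iff_pow_eq_one, funext_iff, Pi.pow_apply, Pi.one_apply]
  apply Set.Subset.antisymm
  swap
  · rintro _ ⟨y, rfl⟩
    refine ⟨fun i => if h : (i : ℕ) < m then y ⟨i, h⟩ else 1, Nat.dvd_antisymm ((key _ _).2 fun i => ?_)
      ((key _ _).2 fun i => ?_)⟩
    · beta_reduce
      split_ifs with h
      · exact (key y _).1 dvd_rfl _
      · rw [orderOf_one]; exact one_dvd _
    · have h1 := (key (fun i : Fin k => if h : (i : ℕ) < m then y ⟨i, h⟩ else 1) _).1 dvd_rfl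
        ⟨i, by omega⟩
      simpa [i.2] using h1
  rintro _ ⟨x, rfl⟩
  haveI : Finite (Matrix.ProjectiveSpecialLinearGroup (Fin n) F) := Quotient.finite _
  set L := orderOf x with hL
  have hpp : ∀ r e : ℕ, r.Prime → 1 ≤ e → r ^ e ∣ L →
      ∃ i, r ^ e ∣ orderOf (x i) := by
    intro r e hr he hd
    by_contra hcon
    push_neg at hcon
    obtain ⟨c, hc⟩ : r ∣ L := (dvd_pow_self r (by omega)).trans hd
    have hcL : L ∣ c := (key x c).2 fun i => by
      have hi : orderOf (x i) ∣ r * c := hc ▸ (key x L).1 dvd_rfl i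
      rcases Nat.eq_zero_or_pos c with h0 | h0
      · rw [h0]; exact dvd_zero _
      rw [Nat.dvd_iff_prime_pow_dvd_dvd]
      intro s t hs hst
      rcases eq_or_ne s r with rfl | hne
      · have hte : t < e := by
          by_contra hte
          exact hcon i ((pow_dvd_pow s (not_lt.1 hte)).trans hst)
        have h1 : s ^ (t + 1) ∣ s * c := (pow_dvd_pow s (by omega)).trans (hc ▸ hd)
        rw [pow_succ'] at h1
        exact Nat.dvd_of_mul_dvd_mul_left hs.pos h1
      · exact ((((Nat.coprime_primes hs hr).2 hne).pow_left t).dvd_of_dvd_mul_left (hst.trans hi))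
    have : L ≤ c := Nat.le_of_dvd (by
      rcases Nat.eq_zero_or_pos c with h0 | h0
      · exfalso; rw [h0, mul_zero] at hc; exact (orderOf_pos x).ne' hc
      · exact h0) hcL
    rw [hc] at this
    nlinarith [hr.two_le, orderOf_pos x]
  have hA : ∃ z : Matrix.ProjectiveSpecialLinearGroup (Fin n) F, orderOf z = 2 ^ padicValNat 2 L := by
    rcases Nat.eq_zero_or_pos (padicValNat 2 L) with h0 | h0
    · exact ⟨1, by rw [h0, pow_zero, orderOf_one]⟩
    obtain ⟨i, hi⟩ := hpp 2 _ Nat.prime_two h0 pow_padicValNat_dvd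
    exact ⟨x i ^ (orderOf (x i) / 2 ^ padicValNat 2 L),
      orderOf_pow_orderOf_div (orderOf_pos _).ne' hi⟩
  obtain ⟨z, hz⟩ := hA
  have hS : ∀ d, 1 ≤ d → d ≤ n → ∃ y : Matrix.ProjectiveSpecialLinearGroup (Fin n) F,
      orderOf y = Nat.gcd L (2 ^ d - 1) := by
    intro d hd hdn
    obtain ⟨g, hg⟩ := CfsgLib.GLClass.exists_orderOf_eq (F := F) hd hdn
      (m := Nat.gcd L (2 ^ d - 1)) (by rw [hF]; exact Nat.gcd_dvd_right _ _)
    exact ⟨φ g, by rw [orderOf_injective φ hφ.1, hg]⟩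
  choose S hS using hS
  -- slot `j` carries the degree `n / 2 + 1 + j`
  let y : Fin m → Matrix.ProjectiveSpecialLinearGroup (Fin n) F := fun j =>
    if h : n / 2 + 1 + (j : ℕ) ≤ n then S (n / 2 + 1 + j) (by omega) h else z
  refine ⟨y, Nat.dvd_antisymm ((key y L).2 fun j => ?_) ?_⟩
  · simp only [y]
    split_ifs with h
    · rw [hS]; exact Nat.gcd_dvd_left _ _
    · rw [hz]; exact pow_padicValNat_dvd
  rw [Nat.dvd_iff_prime_pow_dvd_dvd]
  intro r e hr hd
  rcases Nat.eq_zero_or_pos e with rfl | he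
  · rw [pow_zero]; exact one_dvd _
  rcases eq_or_ne r 2 with rfl | hr2
  · haveI : Fact (Nat.Prime 2) := ⟨Nat.prime_two⟩
    have hlast := (key y _).1 dvd_rfl ⟨m - 1, by omega⟩
    simp only [y] at hlast
    rw [dif_neg (by omega), hz] at hlast
    exact (pow_dvd_pow 2 ((padicValNat_dvd_iff_le (orderOf_pos x).ne').1 hd)).trans hlast
  obtain ⟨i, hi⟩ := hpp r e hr he hd
  obtain ⟨g, hg⟩ := hφ.2 (x i)
  rw [← hg, orderOf_injective φ hφ.1] at hi
  obtain ⟨d₀, hd1, hdn, hdd⟩ := CfsgLib.GLClass.exists_dvd_pow_sub_one g hr he (fun h0 => hr2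
    (((Nat.prime_two.eq_one_or_self_of_dvd r) (by
      have := (CharP.cast_eq_zero_iff F 2 r).1 h0
      exact ((Nat.prime_dvd_prime_iff_eq Nat.prime_two hr).1 this) ▸ dvd_rfl)).resolve_left hr.one_lt.ne')) hi
  rw [hF] at hdd
  have top : ∀ t d₀, n - d₀ ≤ t → 1 ≤ d₀ → d₀ ≤ n → ∃ d, d₀ ∣ d ∧ n / 2 < d ∧ d ≤ n := by
    intro t
    induction t with
    | zero => exact fun d₀ h h1 h2 => ⟨d₀, dvd_rfl, by omega, h2⟩
    | succ t ih =>
      intro d₀ h h1 h2
      by_cases h3 : n / 2 < d₀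
      · exact ⟨d₀, dvd_rfl, h3, h2⟩
      · obtain ⟨d, hd, hd'⟩ := ih (2 * d₀) (by omega) (by omega) (by omega)
        exact ⟨d, (dvd_mul_left _ _).trans hd, hd'⟩
  obtain ⟨d, hdd', hlt, hle⟩ := top n d₀ (by omega) hd1 hdn
  have hj := (key y _).1 dvd_rfl ⟨d - (n / 2 + 1), by omega⟩
  simp only [y] at hj
  rw [dif_pos (by omega)] at hj
  rw [hS, show n / 2 + 1 + (d - (n / 2 + 1)) = d by omega] at hj
  exact (Nat.dvd_gcd hd (hdd.trans (Nat.pow_sub_one_dvd_pow_sub_one 2 hdd'))).trans hj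

end Cfsg.Agent.S2513
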