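import Cfsg.Statements.S2514
import Mathlib

set_option autoImplicit false
open Cfsg

namespace Cfsg.Agent.S2514

theorem hmax {X : Type*} [Group X] [Finite X] (x : X) :
    ∃ n, (n ∈ Set.range (orderOf : X → ℕ) ∧
      ∀ m ∈ Set.range (orderOf : X → ℕ), n ∣ m → m = n) ∧ orderOf x ∣ n := by
  obtain ⟨n, ⟨⟨y, hy⟩, hxn⟩, hn⟩ := ((Set.finite_range (orderOf : X → ℕ)).subset
    (fun n hn => hn.1 : {n : ℕ | n ∈ Set.range (orderOf : X → ℕ) ∧ orderOf x ∣ n} ⊆ _)).exists_maximal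
      ⟨orderOf x, ⟨x, rfl⟩, dvd_rfl⟩
  refine ⟨n, ⟨⟨y, hy⟩, ?_⟩, hxn⟩
  rintro m ⟨z, rfl⟩ hnm
  have hle : n ≤ orderOf z := Nat.le_of_dvd (orderOf_pos z) hnm
  exact le_antisymm (hn ⟨⟨z, rfl⟩, hxn.trans hnm⟩ hle) hle

theorem hdiv {X : Type*} [Group X] [Finite X] (x : X) (d : ℕ) (hd : d ∣ orderOf x) :
    d ∈ Set.range (orderOf : X → ℕ) :=
  ⟨x ^ (orderOf x / d), orderOf_pow_orderOf_div (orderOf_pos x).ne' hd⟩

/-- For a finite group X write μ(X) for the set of element orders of X that are maximal under divisibility. Let G and H be finite groups and k ≥ 1 such that μ(H) ⊆ μ(G) and μ(G) has fewer than k elements outside μ(H). Then the direct product of k copies of G has the same set of element orders as the direct product of k − 1 copies of G with H. -/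
theorem result {G H : Type*} [Group G] [Finite G] [Group H] [Finite H] (k : ℕ) (hk : 1 ≤ k)
    (hsub : {n : ℕ | n ∈ Set.range (orderOf : H → ℕ) ∧ ∀ m ∈ Set.range (orderOf : H → ℕ), n ∣ m → m = n} ⊆ {n : ℕ | n ∈ Set.range (orderOf : G → ℕ) ∧ ∀ m ∈ Set.range (orderOf : G → ℕ), n ∣ m → m = n})
    (hfew : ({n : ℕ | n ∈ Set.range (orderOf : G → ℕ) ∧ ∀ m ∈ Set.range (orderOf : G → ℕ), n ∣ m → m = n} \ {n : ℕ | n ∈ Set.range (orderOf : H → ℕ) ∧ ∀ m ∈ Set.range (orderOf : H → ℕ), n ∣ m → m = n}).ncard < k) :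
    Set.range (orderOf : (Fin k → G) → ℕ) = Set.range (orderOf : (Fin (k - 1) → G) × H → ℕ) := by
  classical
  set μG := {n : ℕ | n ∈ Set.range (orderOf : G → ℕ) ∧ ∀ m ∈ Set.range (orderOf : G → ℕ), n ∣ m → m = n}
  set μH := {n : ℕ | n ∈ Set.range (orderOf : H → ℕ) ∧ ∀ m ∈ Set.range (orderOf : H → ℕ), n ∣ m → m = n}
  obtain ⟨k, rfl⟩ : ∃ j, k = j + 1 := ⟨k - 1, by omega⟩
  apply Set.Subset.antisymm
  · rintro _ ⟨f, rfl⟩
    choose a ha hfa using fun i => hmax (f i)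
    obtain ⟨i, hi⟩ : ∃ i, (∃ j, j ≠ i ∧ a j = a i) ∨ a i ∈ μH := by
      by_contra! h
      have hinj : Function.Injective a := fun i j hij => by
        by_contra hne
        exact ((h j).1 i hne) hij
      have h1 : Set.range a ⊆ μG \ μH := by
        rintro _ ⟨i, rfl⟩
        exact ⟨ha i, (h i).2⟩
      have hfin : (μG \ μH).Finite := (Set.finite_range (orderOf : G → ℕ)).subset fun n hn => hn.1.1
      have h2 := Set.ncard_le_ncard h1 hfin
      rw [Set.ncard_range_of_injective hinj, Nat.card_fin] at h2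
      exact absurd h2 (not_le.2 hfew)
    have key : ∀ h : H, (∀ j, ∃ m, orderOf (f j) ∣ m ∧
        ((∃ l : Fin k, m = a (i.succAbove l)) ∨ m = orderOf h)) →
        orderOf f ∈ Set.range (orderOf : (Fin k → G) × H → ℕ) := by
      intro h hh
      choose y hy using fun l : Fin k => (ha (i.succAbove l)).1
      refine hdiv (⟨y, h⟩ : (Fin k → G) × H) _ ?_
      rw [Prod.orderOf]
      refine orderOf_dvd_of_pow_eq_one (funext fun j => ?_)
      rw [Pi.pow_apply, Pi.one_apply, ← orderOf_dvd_iff_pow_eq_one]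
      obtain ⟨m, hm, hm'⟩ := hh j
      refine hm.trans ?_
      rcases hm' with ⟨l, rfl⟩ | rfl
      · rw [← hy l]
        refine dvd_trans ?_ (Nat.dvd_lcm_left _ _)
        exact orderOf_map_dvd (Pi.evalMonoidHom (fun _ : Fin k => G) l) y
      · exact Nat.dvd_lcm_right _ _
    rcases hi with ⟨j, hji, hj⟩ | hi
    · refine key 1 fun l => ?_
      by_cases hl : l = i
      · subst hl
        obtain ⟨l', hl'⟩ := Fin.exists_succAbove_eq hji
        exact ⟨a l, hfa l, Or.inl ⟨l', by rw [hl', hj]⟩⟩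
      · obtain ⟨l', hl'⟩ := Fin.exists_succAbove_eq hl
        exact ⟨a l, hfa l, Or.inl ⟨l', by rw [hl']⟩⟩
    · obtain ⟨⟨h, hh⟩, -⟩ := hi
      refine key h fun l => ?_
      by_cases hl : l = i
      · subst hl
        exact ⟨a l, hfa l, Or.inr hh.symm⟩
      · obtain ⟨l', hl'⟩ := Fin.exists_succAbove_eq hl
        exact ⟨a l, hfa l, Or.inl ⟨l', by rw [hl']⟩⟩
  · rintro _ ⟨⟨y, h⟩, rfl⟩
    obtain ⟨b, hb, hhb⟩ := hmax h
    obtain ⟨g, hg⟩ := (hsub hb).1
    refine hdiv (Fin.cons g y : Fin (k + 1) → G) _ ?_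
    rw [Prod.orderOf]
    refine Nat.lcm_dvd ?_ ?_
    · refine orderOf_dvd_of_pow_eq_one (funext fun l => ?_)
      rw [Pi.pow_apply, Pi.one_apply, ← orderOf_dvd_iff_pow_eq_one]
      exact orderOf_map_dvd (Pi.evalMonoidHom (fun _ : Fin (k + 1) => G) l.succ)
        (Fin.cons g y : Fin (k + 1) → G)
    · refine hhb.trans ?_
      rw [← hg]
      exact orderOf_map_dvd (Pi.evalMonoidHom (fun _ : Fin (k + 1) => G) 0)
        (Fin.cons g y : Fin (k + 1) → G)

end Cfsg.Agent.S2514
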