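import Cfsg.Statements.S2515
import Cfsg.Agent.Lib.Char.ReeTrunc.Model

set_option autoImplicit false
open Cfsg

namespace Cfsg.Agent.S2515

theorem maximal_set {R S : Set ℕ} (hS : S ⊆ R) (hdom : ∀ n ∈ R, ∃ s ∈ S, n ∣ s)
    (hanti : ∀ s ∈ S, ∀ t ∈ S, s ∣ t → s = t) :
    {n : ℕ | n ∈ R ∧ ∀ m ∈ R, n ∣ m → m = n} = S := by
  ext n
  constructor
  · rintro ⟨hn, hmax⟩
    obtain ⟨s, hs, hd⟩ := hdom n hn
    rw [← hmax s (hS hs) hd]; exact hs
  · intro hn
    refine ⟨hS hn, fun m hm hd => ?_⟩
    obtain ⟨s, hs, hms⟩ := hdom m hm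
    have := hanti n hn s hs (hd.trans hms)
    subst this
    exact Nat.dvd_antisymm hms hd

theorem pow3_facts (α : ℕ) (hα : 3 ≤ α) (hodd : Odd α) : 3 ^ α % 8 = 3 ∧ 27 ≤ 3 ^ α ∧ 3 ∣ 3 ^ α := by
  refine ⟨?_, le_trans (by norm_num) (Nat.pow_le_pow_right (by norm_num) hα), dvd_pow_self 3 (by omega)⟩
  obtain ⟨j, rfl⟩ := hodd
  rw [pow_succ, pow_mul, Nat.mul_mod, Nat.pow_mod]
  simp

/-- Let q = 3^α with α ≥ 3 odd. There is a finite group H having a non-trivial normal 3-subgroup and whose element orders maximal under divisibility are exactly 6, 9, q − 1 and (q + 1)/2. -/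
theorem result (α : ℕ) (hα : 3 ≤ α) (hodd : Odd α) :
    ∃ (H : Type) (_ : Group H) (_ : Fintype H), (∃ P : Subgroup H, P.Normal ∧ P ≠ ⊥ ∧ IsPGroup 3 ↥P) ∧
      {n : ℕ | n ∈ Set.range (orderOf : H → ℕ) ∧ ∀ m ∈ Set.range (orderOf : H → ℕ), n ∣ m → m = n} = ({6, 9, 3 ^ α - 1, (3 ^ α + 1) / 2} : Set ℕ) := by
  classical
  open CfsgLib.PSL2Two CfsgLib.Char.TwoByTwo CfsgLib.Char.ReeTrunc in
  haveI : Fact (Nat.Prime 3) := ⟨Nat.prime_three⟩
  obtain ⟨h8, h27, h3q⟩ := pow3_facts α hα hodd
  let K : Type := GaloisField 3 α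
  haveI : Fintype K := Fintype.ofFinite K
  have hq : Fintype.card K = 3 ^ α := by
    rw [← Nat.card_eq_fintype_card]; exact GaloisField.card 3 α (by omega)
  have ho : Fintype.card K % 2 = 1 := by omega
  have h30 : (3 : K) = 0 := by exact_mod_cast CharP.cast_eq_zero K 3
  haveI : Finite (Grp K) := Finite.of_equiv _ SemidirectProduct.equivProd.symm
  haveI : Fintype (Grp K) := Fintype.ofFinite _
  refine ⟨Grp K, inferInstance, inferInstance,
    ⟨(SemidirectProduct.inl : _ →* Grp K).range, ?_, ?_, ?_⟩, maximal_set ?_ ?_ ?_⟩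
  · rw [SemidirectProduct.range_inl_eq_ker_rightHom]
    infer_instance
  · intro h
    have h1 : SemidirectProduct.inl (Multiplicative.ofAdd (1 : Matrix (Fin 2) (Fin 2) K)) ∈ (⊥ : Subgroup (Grp K)) :=
      h ▸ ⟨_, rfl⟩
    rw [Subgroup.mem_bot, ← map_one (SemidirectProduct.inl : _ →* Grp K)] at h1
    exact one_ne_zero (congrArg Multiplicative.toAdd (SemidirectProduct.inl_injective h1))
  · rintro ⟨x, v, rfl⟩
    exact ⟨1, Subtype.ext (by rw [pow_one, Subgroup.coe_pow, ← map_pow, three_dvd, map_one]; rfl)⟩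
  · -- the four orders occur
    have key : ∀ (p : ℤˣ × SL2 K) (k : ℕ), (⟨actHom K p, p, rfl⟩ : ↥(actHom K).range) ^ k = 1 ↔ actHom K (p ^ k) = 1 := by
      intro p k
      rw [map_pow, ← Subtype.coe_inj]
      simp
    have hord : ∀ p : ℤˣ × SL2 K, orderOf (SemidirectProduct.inr ⟨actHom K p, p, rfl⟩ : Grp K) =
        orderOf (⟨actHom K p, p, rfl⟩ : ↥(actHom K).range) := fun p =>
      orderOf_injective _ SemidirectProduct.inr_injective _
    have hpi : ∀ (p : ℤˣ × SL2 K) (k : ℕ), actHom K (p ^ k) = 1 → π p.2 ^ k = 1 := by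
      intro p k hk
      obtain ⟨c, hc, hc1, -⟩ := scalar_of_act hk
      rw [← map_pow, π_eq_one_iff]
      rw [Prod.pow_snd] at hc
      rcases mul_self_eq_one_iff.1 hc1 with e | e
      · exact Or.inl (by rw [hc, e, one_smul])
      · exact Or.inr (by rw [hc, e, neg_one_smul])
    have hpsl : ∀ (s : ℤˣ) (A : SL2 K) (k : ℕ), π A ^ k = 1 → ((s : ℤ) : K) ^ k = 1 → actHom K ((s, A) ^ k) = 1 := by
      intro s A k hk hs
      rw [← map_pow, π_eq_one_iff] at hk
      rcases hk with e | e
      · refine act_scalar (c := 1) (by rw [Prod.pow_snd, e, one_smul]) ?_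
        norm_num [hs, pow_succ]
      · refine act_scalar (c := -1) (by rw [Prod.pow_snd, e, neg_one_smul]) ?_
        norm_num [hs, pow_succ]
    obtain ⟨u, hu⟩ : ∃ u : SL2 K, u.1 = !![1, 1; 0, 1] := ⟨⟨!![1, 1; 0, 1], by simp [Matrix.det_fin_two]⟩, rfl⟩
    have hu3 : u ^ 3 = 1 := Subtype.ext (by
      rw [Matrix.SpecialLinearGroup.coe_pow, hu, Matrix.SpecialLinearGroup.coe_one, pow_succ, sq]
      ext i j
      fin_cases i <;> fin_cases j <;> simp
      linear_combination h30)
    have hu1 : ∀ c : K, u.1 ≠ c • 1 := fun c e => by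
      have := congrFun (congrFun (hu ▸ e) 0) 1
      simp at this
    rintro n (rfl | rfl | rfl | rfl)
    · refine ⟨SemidirectProduct.inr ⟨actHom K (-1, u), _, rfl⟩, ?_⟩
      rw [hord]
      have h6 : (⟨actHom K (-1, u), _, rfl⟩ : ↥(actHom K).range) ^ 6 = 1 := (key _ _).2 (by
        rw [show ((-1, u) : ℤˣ × SL2 K) ^ 6 = 1 from Prod.ext (by show (-1 : ℤˣ) ^ 6 = 1; decide) (by
          show u ^ 6 = 1
          rw [show 6 = 3 * 2 from rfl, pow_mul, hu3, one_pow]), map_one])
      have hdvd := orderOf_dvd_of_pow_eq_one h6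
      have h2 : ¬ orderOf (⟨actHom K (-1, u), _, rfl⟩ : ↥(actHom K).range) ∣ 2 := fun hd => by
        obtain ⟨c, hc, -, -⟩ := scalar_of_act ((key _ _).1 (orderOf_dvd_iff_pow_eq_one.1 hd))
        have e : u = (((-1, u) : ℤˣ × SL2 K) ^ 2).2 ^ 2 := by
          show u = (u ^ 2) ^ 2
          rw [← pow_mul, show 2 * 2 = 3 + 1 from rfl, pow_add, hu3, one_mul, pow_one]
        refine hu1 (c * c) ?_
        rw [e, Matrix.SpecialLinearGroup.coe_pow, hc, sq, smul_mul_smul_comm, one_mul]
      have h3 : ¬ orderOf (⟨actHom K (-1, u), _, rfl⟩ : ↥(actHom K).range) ∣ 3 := fun hd => by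
        obtain ⟨c, -, -, hs⟩ := scalar_of_act ((key _ _).1 (orderOf_dvd_iff_pow_eq_one.1 hd))
        simp [pow_succ] at hs
        exact one_ne_zero (show (1 : K) = 0 by linear_combination h30 + hs)
      have hmem : orderOf (⟨actHom K (-1, u), _, rfl⟩ : ↥(actHom K).range) ∈ Nat.divisors 6 :=
        Nat.mem_divisors.2 ⟨hdvd, by norm_num⟩
      rw [show Nat.divisors 6 = {1, 2, 3, 6} from rfl] at hmem
      simp only [Finset.mem_insert, Finset.mem_singleton] at hmem
      rcases hmem with e | e | e | e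
      · rw [e] at h2; exact absurd (one_dvd 2) h2
      · rw [e] at h2; exact absurd (dvd_refl 2) h2
      · rw [e] at h3; exact absurd (dvd_refl 3) h3
      · exact e
    · obtain ⟨a, ha⟩ : ∃ a : ↥(actHom K).range, a = ⟨actHom K (1, u), _, rfl⟩ := ⟨_, rfl⟩
      obtain ⟨v, hv⟩ : ∃ v : Multiplicative (Matrix (Fin 2) (Fin 2) K), v = Multiplicative.ofAdd (Matrix.single 1 1 1) :=
        ⟨_, rfl⟩
      refine ⟨⟨v, a⟩, orderOf_eq_prime_pow (p := 3) (n := 1) ?_ ?_⟩
      · intro h
        have hl := congrArg SemidirectProduct.left h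
        rw [pow_one, pow_succ, sq] at hl
        simp only [SemidirectProduct.mul_left, SemidirectProduct.mul_right, SemidirectProduct.one_left] at hl
        rw [hv, ha] at hl
        have hl2 : Matrix.single 1 1 1 + (((1 : ℤˣ) : ℤ) : K) • (u.1 * Matrix.single 1 1 1 * (tw K u.1).transpose) +
            (((1 : ℤˣ) : ℤ) : K) • (u.1 * ((((1 : ℤˣ) : ℤ) : K) • (u.1 * Matrix.single 1 1 1 * (tw K u.1).transpose)) *
              (tw K u.1).transpose) = 0 := congrArg Multiplicative.toAdd hl
        have htw : tw K u.1 = !![1, 1; 0, 1] := by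
          rw [hu]
          ext i j
          fin_cases i <;> fin_cases j <;> simp [tw]
        have hsg : (Matrix.single 1 1 1 : Matrix (Fin 2) (Fin 2) K) = !![0, 0; 0, 1] := by
          ext i j
          fin_cases i <;> fin_cases j <;> simp [Matrix.single]
        rw [hsg, htw, hu] at hl2
        have hl' := congrFun (congrFun hl2 0) 0
        simp only [Matrix.add_apply, Matrix.smul_apply, Matrix.mul_apply, Fin.sum_univ_two, Matrix.transpose_apply, Matrix.zero_apply] at hl'
        simp at hl'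
        exact one_ne_zero (show (1 : K) = 0 by linear_combination h30 * 2 - hl')
      · refine pow_three_mul (k := 3) ?_
        show a ^ 3 = 1
        rw [ha, key, show ((1, u) : ℤˣ × SL2 K) ^ 3 = 1 from Prod.ext (by simp) (by simpa using hu3), map_one]
    · haveI : Fact (∀ r : K, r ^ 2 ≠ (1 : K) + 0 * r → True) := ⟨fun _ _ => trivial⟩
      obtain ⟨w, hdet, hw⟩ := exists_psl_split_torus (F := K) ho (by omega)
      refine ⟨SemidirectProduct.inr ⟨actHom K (-1, torSL 1 w hdet), _, rfl⟩, ?_⟩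
      rw [hord]
      refine Nat.dvd_antisymm (orderOf_dvd_of_pow_eq_one ((key _ _).2 (hpsl _ _ _ ?_ ?_))) ?_
      · rw [← orderOf_dvd_iff_pow_eq_one, hw, hq]
        exact Nat.div_dvd_of_dvd (by omega)
      · have he : Even (3 ^ α - 1) := by rw [Nat.even_iff]; omega
        simp [he.neg_one_pow]
      · have hk := (key _ _).1 (pow_orderOf_eq_one (⟨actHom K (-1, torSL 1 w hdet), _, rfl⟩ : ↥(actHom K).range))
        have h1 := orderOf_dvd_of_pow_eq_one (hpi _ _ hk)
        obtain ⟨c, -, -, hs⟩ := scalar_of_act hk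
        rw [hw, hq] at h1
        obtain ⟨e, he⟩ : 2 ∣ orderOf (⟨actHom K (-1, torSL 1 w hdet), _, rfl⟩ : ↥(actHom K).range) := by
          rw [← even_iff_two_dvd]
          by_contra hne
          simp [(Nat.not_even_iff_odd.1 hne).neg_one_pow] at hs
          exact one_ne_zero (show (1 : K) = 0 by linear_combination h30 + hs)
        rw [he] at h1 ⊢
        rw [show 3 ^ α - 1 = 2 * ((3 ^ α - 1) / 2) by omega]
        refine mul_dvd_mul_left 2 ((Nat.Coprime.dvd_mul_left ?_).1 h1)
        rw [Nat.coprime_two_right, Nat.odd_iff]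
        omega
    · obtain ⟨ε, -, hεF⟩ := exists_nonsquare (F := K) ho
      haveI := hεF
      obtain ⟨w, hdet, hw⟩ := exists_psl_torus ε ho (by omega)
      refine ⟨SemidirectProduct.inr ⟨actHom K (1, torSL ε w hdet), _, rfl⟩, ?_⟩
      rw [hord]
      refine Nat.dvd_antisymm (orderOf_dvd_of_pow_eq_one ((key _ _).2 (hpsl _ _ _ ?_ ?_))) ?_
      · rw [← hq, ← hw, pow_orderOf_eq_one]
      · simp
      · have hk := (key _ _).1 (pow_orderOf_eq_one (⟨actHom K (1, torSL ε w hdet), _, rfl⟩ : ↥(actHom K).range))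
        have h1 := orderOf_dvd_of_pow_eq_one (hpi _ _ hk)
        rwa [hw, hq] at h1
  · -- every order divides one of them
    rintro n ⟨⟨v, ⟨_, ⟨s, g⟩, rfl⟩⟩, rfl⟩
    obtain ⟨h, hh⟩ : ∃ h : Grp K, h = ⟨v, ⟨_, (s, g), rfl⟩⟩ := ⟨_, rfl⟩
    rw [← hh]
    have htop : ∀ k, actHom K ((s, g) ^ k) = 1 → h.right ^ k = 1 := fun k hk => by
      rw [hh]; exact Subtype.ext (by rw [Subgroup.coe_pow]; rw [map_pow] at hk; exact hk)
    have hs2 : ∀ {k}, Even k → ((s : ℤ) : K) ^ k = 1 := fun {k} hk => by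
      rcases Int.units_eq_one_or s with e | e <;> simp [e, hk.neg_one_pow]
    by_cases hfix : ∀ M : Matrix (Fin 2) (Fin 2) K, ((s : ℤ) : K) • (g.1 * M * (tw K g.1).transpose) = M → M = 0
    · have hf : ∀ u : Multiplicative (Matrix (Fin 2) (Fin 2) K), (h.right : MulAut _) u = u → u = 1 := fun u hu => by
        rw [hh] at hu
        exact Multiplicative.toAdd.injective (hfix _ (congrArg Multiplicative.toAdd hu))
      have fin : ∀ k, actHom K ((s, g) ^ k) = 1 → orderOf h ∣ k := fun k hk =>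
        orderOf_dvd_of_pow_eq_one (pow_of_fpf (htop k hk) hf)
      have pw : ∀ k, Even k → π g ^ k = 1 → actHom K ((s, g) ^ k) = 1 := fun k hk hg => by
        rw [← map_pow, π_eq_one_iff] at hg
        rcases hg with e | e
        · refine act_scalar (c := 1) (by rw [Prod.pow_snd, e, one_smul]) ?_
          norm_num [hs2 hk, pow_succ]
        · refine act_scalar (c := -1) (by rw [Prod.pow_snd, e, neg_one_smul]) ?_
          norm_num [hs2 hk, pow_succ]
      rcases psl_pow_cases ho (p := 3) (π g) with e | e | e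
      · exact ⟨6, by simp, fin _ (pw 6 (by decide) (by rw [show 6 = 3 * 2 from rfl, pow_mul, e, one_pow]))⟩
      · refine ⟨3 ^ α - 1, by simp, fin _ (pw _ (by rw [Nat.even_iff]; omega) ?_)⟩
        rw [show 3 ^ α - 1 = ((3 ^ α - 1) / 2) * 2 by omega, pow_mul, ← hq, e, one_pow]
      · refine ⟨(3 ^ α + 1) / 2, by simp, fin _ (pw _ (by rw [Nat.even_iff]; omega) ?_)⟩
        rw [← hq, e]
    · obtain ⟨M, hM, hM0⟩ : ∃ M, ((s : ℤ) : K) • (g.1 * M * (tw K g.1).transpose) = M ∧ M ≠ 0 := by
        by_contra hc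
        exact hfix fun M hM => by_contra fun h0 => hc ⟨M, hM, h0⟩
      have htr := trace_of_fixed s g hM0 hM
      by_cases ht : g.1.trace = 0
      · refine ⟨6, by simp, orderOf_dvd_of_pow_eq_one (pow_three_mul (k := 2) (htop 2 ?_))⟩
        refine act_scalar (c := -1) ?_ (by norm_num [hs2 (k := 2) (by decide), pow_succ])
        rw [Prod.pow_snd, Matrix.SpecialLinearGroup.coe_pow, sq]
        have hd := g.2
        rw [Matrix.det_fin_two] at hd
        rw [Matrix.trace_fin_two] at ht
        ext i j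
        fin_cases i <;> fin_cases j <;> simp [Matrix.mul_apply, Fin.sum_univ_two] <;>
          first
          | linear_combination g.1 0 0 * ht - hd
          | linear_combination g.1 0 1 * ht
          | linear_combination g.1 1 0 * ht
          | linear_combination g.1 1 1 * ht - hd
      · have h1 : ((s : ℤ) : K) * (g.1.trace * g.1.trace) = 1 := mul_left_cancel₀ ht (by linear_combination -htr)
        rcases Int.units_eq_one_or s with e | e
        swap
        · exfalso
          have hsq : IsSquare (-1 : K) := ⟨g.1.trace, by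
            rw [e] at h1; push_cast at h1; linear_combination h1⟩
          rw [FiniteField.isSquare_neg_one_iff] at hsq
          omega
        have hd : disc g.1 = 0 := by
          rw [e] at h1; push_cast at h1
          rw [disc, g.2]
          linear_combination h1 - h30
        obtain ⟨c, hc⟩ := pow_card_of_disc_eq_zero ho (p := 3) hd
        have hcc := congrArg Matrix.det hc
        rw [Matrix.det_pow, g.2, one_pow, Matrix.det_smul, Matrix.det_one, mul_one, Fintype.card_fin] at hcc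
        refine ⟨9, by simp, orderOf_dvd_of_pow_eq_one (pow_three_mul (k := 3) (htop 3 ?_))⟩
        refine act_scalar (c := c) (by rw [Prod.pow_snd, Matrix.SpecialLinearGroup.coe_pow, hc]) ?_
        rw [Prod.pow_fst, e, one_pow]
        push_cast
        linear_combination -(c ^ 2 + 1) * hcc
  · -- antichain
    have hmem : ∀ s ∈ ({6, 9, 3 ^ α - 1, (3 ^ α + 1) / 2} : Set ℕ), s = 6 ∨ s = 9 ∨ s = 3 ^ α - 1 ∨ s = (3 ^ α + 1) / 2 :=
      fun s hs => by simpa using hs
    intro s hs t ht hd
    have hle := Nat.le_of_dvd (by rcases hmem t ht with rfl | rfl | rfl | rfl <;> omega) hd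
    obtain ⟨k, hk⟩ := hd
    rcases hmem s hs with rfl | rfl | rfl | rfl <;> rcases hmem t ht with rfl | rfl | rfl | rfl <;>
      first
      | rfl
      | omega
      | (have hk2 : k < 2 := by
          by_contra hc
          have := Nat.mul_le_mul_left ((3 ^ α + 1) / 2) (not_lt.1 hc)
          omega
         interval_cases k <;> omega)

end Cfsg.Agent.S2515
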