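import Cfsg.Statements.S2516

set_option autoImplicit false
open Cfsg

namespace Cfsg.Agent.S2516

/-- Let F be a field of characteristic p > 0, V a non-zero finite-dimensional F-vector space, G a finite group and ρ a representation of G on V; form the semidirect product V ⋊ G. For g ∈ G of order k, the coset Vg contains an element of order pk if and only if the minimal polynomial of ρ(g) does not divide 1 + X + ⋯ + X^(k−1). -/
theorem result {F : Type*} [Field F] (p : ℕ) [Fact p.Prime] [CharP F p] {V : Type*} [AddCommGroup V] [Module F V] [FiniteDimensional F V] [Nontrivial V]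
    {G : Type*} [Group G] [Finite G] (ρ : Representation F G V) (g : G) :
    (∃ x : Multiplicative V ⋊[(MulAutMultiplicative V).symm.toMonoidHom.comp
        ((DistribMulAction.toAddAut ((V →ₗ[F] V)ˣ) V).comp ρ.asGroupHom)] G,
        x.right = g ∧ orderOf x = p * orderOf g) ↔
      ¬ (minpoly F (ρ g) ∣ ∑ i ∈ Finset.range (orderOf g), (Polynomial.X : Polynomial F) ^ i) := by
  classical
  set φ : G →* MulAut (Multiplicative V) := (MulAutMultiplicative V).symm.toMonoidHom.comp
        ((DistribMulAction.toAddAut ((V →ₗ[F] V)ˣ) V).comp ρ.asGroupHom)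
  have hφ : ∀ (a : G) (v : V), φ a (Multiplicative.ofAdd v) = Multiplicative.ofAdd (ρ a v) := fun a v => rfl
  set k := orderOf g with hk
  have hkpos : 0 < k := orderOf_pos g
  set N : Module.End F V := Polynomial.aeval (ρ g) (∑ i ∈ Finset.range k, (Polynomial.X : Polynomial F) ^ i)
    with hN
  have hpow : ∀ (v : V) (n : ℕ), ((⟨Multiplicative.ofAdd v, g⟩ : Multiplicative V ⋊[φ] G) ^ n) =
      ⟨Multiplicative.ofAdd (∑ i ∈ Finset.range n, (ρ g ^ i) v), g ^ n⟩ := by
    intro v n
    induction n with
    | zero => rw [pow_zero, pow_zero, Finset.sum_range_zero]; rfl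
    | succ n ih =>
      rw [pow_succ, ih, Finset.sum_range_succ, pow_succ]
      refine SemidirectProduct.ext ?_ rfl
      rw [SemidirectProduct.mul_left, hφ, map_pow]
      rfl
  have hNv : ∀ v, ((⟨Multiplicative.ofAdd v, g⟩ : Multiplicative V ⋊[φ] G) ^ k) =
      SemidirectProduct.inl (Multiplicative.ofAdd (N v)) := fun v => by
    rw [hpow v k, hk, pow_orderOf_eq_one, ← hk, hN]
    simp only [map_sum, map_pow, Polynomial.aeval_X, LinearMap.sum_apply]
    rfl
  have hord : ∀ v, orderOf (⟨Multiplicative.ofAdd v, g⟩ : Multiplicative V ⋊[φ] G) =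
      if N v = 0 then k else p * k := by
    intro v
    have hd : k ∣ orderOf (⟨Multiplicative.ofAdd v, g⟩ : Multiplicative V ⋊[φ] G) :=
      orderOf_map_dvd (SemidirectProduct.rightHom : Multiplicative V ⋊[φ] G →* G) _
    have h := orderOf_pow' (⟨Multiplicative.ofAdd v, g⟩ : Multiplicative V ⋊[φ] G) hkpos.ne'
    rw [hNv, orderOf_injective _ SemidirectProduct.inl_injective, orderOf_ofAdd_eq_addOrderOf,
      Nat.gcd_eq_right hd] at h
    have h' := Nat.div_mul_cancel hd
    rw [← h] at h'
    rw [← h']
    split_ifs with h0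
    · rw [h0, addOrderOf_zero, one_mul]
    · rw [addOrderOf_eq_prime (p := p) (by
        rw [← Nat.cast_smul_eq_nsmul F, CharP.cast_eq_zero, zero_smul]) h0]
  have hpk : k ≠ p * k := fun h => by
    have := (Fact.out : p.Prime).one_lt
    nlinarith
  rw [minpoly.dvd_iff, ← hN]
  constructor
  · rintro ⟨⟨w, a⟩, rfl, hx⟩ hzero
    have h1 := hord (Multiplicative.toAdd w)
    rw [hzero, LinearMap.zero_apply, if_pos rfl] at h1
    exact hpk (h1.symm.trans hx)
  · intro hne
    obtain ⟨v, hv⟩ : ∃ v, N v ≠ 0 := by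
      by_contra hc
      push Not at hc
      exact hne (LinearMap.ext hc)
    exact ⟨⟨Multiplicative.ofAdd v, g⟩, rfl, by rw [hord, if_neg hv]⟩

end Cfsg.Agent.S2516
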