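import Cfsg.Statements.S2517
import Cfsg.Agent.Lib.Classical.OrthNineSpec.Main
import Cfsg.Agent.Lib.Classical.OddTori
import Cfsg.Agent.Lib.Char.SemiSpectrum

set_option autoImplicit false
open Cfsg

namespace Cfsg.Agent.S2517

/-- Let F be a finite field of odd order q, let Ω₉ be the simple orthogonal group PΩ(9, F), and let Ω₈⁻ be the commutator subgroup of the isometry group of a minus-type non-singular quadratic form on V = F⁸ (the simple group PΩ⁻(8, F), acting on its natural module V). Then Ω₉ and the semidirect product V ⋊ Ω₈⁻ have exactly the same set of element orders. -/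
theorem result {F : Type*} [Field F] [Fintype F] (hF : Odd (Fintype.card F)) (a b : F)
    (hab : ∀ z₁ z₂ : F, z₁ ^ 2 + a * z₁ * z₂ + b * z₂ ^ 2 = 0 → z₁ = 0 ∧ z₂ = 0) :
    Set.range (orderOf : Cfsg.POmega F (Cfsg.quadFormOdd 4 F) → ℕ) =
      Set.range (orderOf :
        (Multiplicative (((Fin 3 ⊕ Fin 3) ⊕ Fin 2) → F)) ⋊[
          (MulAutMultiplicative (((Fin 3 ⊕ Fin 3) ⊕ Fin 2) → F)).symm.toMonoidHom.comp
           ((DistribMulAction.toAddAut (LinearMap.GeneralLinearGroup F (((Fin 3 ⊕ Fin 3) ⊕ Fin 2) → F))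
              (((Fin 3 ⊕ Fin 3) ⊕ Fin 2) → F)).comp
            (Matrix.GeneralLinearGroup.toLin.toMonoidHom.comp
              ((Cfsg.isometryGroup F (Cfsg.quadFormMinus 3 F a b)).subtype.comp
                (Cfsg.Omega F (Cfsg.quadFormMinus 3 F a b)).subtype)))]
          ↥(Cfsg.Omega F (Cfsg.quadFormMinus 3 F a b)) → ℕ) := by
  classical
  obtain ⟨p, hp⟩ := CharP.exists F
  haveI : Fact p.Prime := ⟨CharP.char_is_prime F p⟩
  have hpp := (Fact.out : p.Prime)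
  have h2 : (2 : F) ≠ 0 := CfsgLib.Orth.two_ne_zero_of_odd hF
  have hp2 : p ≠ 2 := fun e => h2 (by subst e; exact CharP.cast_eq_zero F 2)
  obtain ⟨E⟩ := CfsgLib.Classical.OrthNineSpec.exists_emb h2 hab
  have hd := CfsgLib.Classical.OrthNineSpec.dd_ne h2 hab
  let ψ : ↥(Cfsg.Omega F (Cfsg.quadFormMinus 3 F a b)) →*
      LinearMap.GeneralLinearGroup F (((Fin 3 ⊕ Fin 3) ⊕ Fin 2) → F) :=
    Matrix.GeneralLinearGroup.toLin.toMonoidHom.comp
      ((Cfsg.isometryGroup F (Cfsg.quadFormMinus 3 F a b)).subtype.comp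
        (Cfsg.Omega F (Cfsg.quadFormMinus 3 F a b)).subtype)
  letI : DistribMulAction ↥(Cfsg.Omega F (Cfsg.quadFormMinus 3 F a b)) (((Fin 3 ⊕ Fin 3) ⊕ Fin 2) → F) :=
    DistribMulAction.compHom (((Fin 3 ⊕ Fin 3) ⊕ Fin 2) → F) ψ
  have hact : CfsgLib.Char.semiAct ↥(Cfsg.Omega F (Cfsg.quadFormMinus 3 F a b)) (((Fin 3 ⊕ Fin 3) ⊕ Fin 2) → F) =
      (MulAutMultiplicative (((Fin 3 ⊕ Fin 3) ⊕ Fin 2) → F)).symm.toMonoidHom.comp
           ((DistribMulAction.toAddAut (LinearMap.GeneralLinearGroup F (((Fin 3 ⊕ Fin 3) ⊕ Fin 2) → F))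
              (((Fin 3 ⊕ Fin 3) ⊕ Fin 2) → F)).comp
            (Matrix.GeneralLinearGroup.toLin.toMonoidHom.comp
              ((Cfsg.isometryGroup F (Cfsg.quadFormMinus 3 F a b)).subtype.comp
                (Cfsg.Omega F (Cfsg.quadFormMinus 3 F a b)).subtype))) := by
    refine MonoidHom.ext fun c => MulEquiv.ext fun x => ?_
    rfl
  rw [← hact]
  have hsmul : ∀ (x : ↥(Cfsg.Omega F (Cfsg.quadFormMinus 3 F a b))) (v : ((Fin 3 ⊕ Fin 3) ⊕ Fin 2) → F),
      x • v = CfsgLib.Classical.OrthNineSpec.isoEnd (Cfsg.quadFormMinus 3 F a b) x.1 v := fun x v => by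
    rw [CfsgLib.Classical.OrthNineSpec.isoEnd_apply]
    rfl
  have hsum : ∀ (x : ↥(Cfsg.Omega F (Cfsg.quadFormMinus 3 F a b))) (v : ((Fin 3 ⊕ Fin 3) ⊕ Fin 2) → F),
      ∑ i ∈ Finset.range (orderOf x), x ^ i • v =
        (∑ i ∈ Finset.range (orderOf (CfsgLib.Classical.OrthNineSpec.isoEnd (Cfsg.quadFormMinus 3 F a b) x.1)),
          CfsgLib.Classical.OrthNineSpec.isoEnd (Cfsg.quadFormMinus 3 F a b) x.1 ^ i) v := fun x v => by
    rw [CfsgLib.Classical.OrthNineSpec.orderOf_isoEnd, Subgroup.orderOf_coe, LinearMap.sum_apply]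
    refine Finset.sum_congr rfl fun i _ => ?_
    rw [hsmul, SubmonoidClass.coe_pow, map_pow]
  have hadd : ∀ w : ((Fin 3 ⊕ Fin 3) ⊕ Fin 2) → F, w ≠ 0 → addOrderOf w = p := fun w hw => by
    refine addOrderOf_eq_prime (funext fun i => ?_) hw
    simp [CharP.cast_eq_zero]
  ext t
  constructor
  · intro ht
    obtain ⟨z, hz, rfl⟩ := (CfsgLib.Classical.OddTori.mem_range_iff h2 (by norm_num)).1 ht
    obtain ⟨x, hx, hN | ⟨hne, hN⟩⟩ := CfsgLib.Classical.OrthNineSpec.rh_of_r9 p h2 hp2 hab hz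
    · have h1 : orderOf (CfsgLib.Char.semiPair (0 : ((Fin 3 ⊕ Fin 3) ⊕ Fin 2) → F)
          (⟨x, hx⟩ : ↥(Cfsg.Omega F (Cfsg.quadFormMinus 3 F a b)))) = orderOf x := by
        rw [CfsgLib.Char.orderOf_semiPair, hsum, map_zero, addOrderOf_zero, mul_one, Subgroup.orderOf_mk]
      have hpos : 0 < orderOf x := orderOf_pos x
      exact ⟨_, orderOf_pow_orderOf_div (h1 ▸ hpos.ne') (h1 ▸ hN)⟩
    · obtain ⟨v, hv⟩ : ∃ v, (∑ i ∈ Finset.range (orderOf (CfsgLib.Classical.OrthNineSpec.isoEnd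
          (Cfsg.quadFormMinus 3 F a b) x)), CfsgLib.Classical.OrthNineSpec.isoEnd (Cfsg.quadFormMinus 3 F a b) x ^ i) v ≠ 0 := by
        by_contra hall
        push Not at hall
        exact hne (LinearMap.ext hall)
      have h1 : orderOf (CfsgLib.Char.semiPair v
          (⟨x, hx⟩ : ↥(Cfsg.Omega F (Cfsg.quadFormMinus 3 F a b)))) = p * orderOf x := by
        rw [CfsgLib.Char.orderOf_semiPair, hsum, hadd _ hv, Subgroup.orderOf_mk, mul_comm]
      have hpos : 0 < p * orderOf x := Nat.mul_pos hpp.pos (orderOf_pos x)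
      exact ⟨_, orderOf_pow_orderOf_div (h1 ▸ hpos.ne') (h1 ▸ hN)⟩
  · rintro ⟨y, rfl⟩
    rw [CfsgLib.Char.semiPair_eta y, CfsgLib.Char.orderOf_semiPair, hsum]
    refine (CfsgLib.Classical.OddTori.mem_range_iff h2 (by norm_num)).2 ?_
    have hRH : CfsgLib.Classical.OrthNineSpec.RH p a b (orderOf y.right * addOrderOf
        ((∑ i ∈ Finset.range (orderOf (CfsgLib.Classical.OrthNineSpec.isoEnd (Cfsg.quadFormMinus 3 F a b) y.right.1)),
          CfsgLib.Classical.OrthNineSpec.isoEnd (Cfsg.quadFormMinus 3 F a b) y.right.1 ^ i) y.left.toAdd)) := by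
      refine ⟨y.right.1, y.right.2, ?_⟩
      rw [← Subgroup.orderOf_coe]
      by_cases h0 : (∑ i ∈ Finset.range (orderOf (CfsgLib.Classical.OrthNineSpec.isoEnd (Cfsg.quadFormMinus 3 F a b) y.right.1)),
          CfsgLib.Classical.OrthNineSpec.isoEnd (Cfsg.quadFormMinus 3 F a b) y.right.1 ^ i) y.left.toAdd = 0
      · left; rw [h0, addOrderOf_zero, mul_one]
      · right
        exact ⟨fun e => h0 (by rw [e]; rfl), by rw [hadd _ h0, mul_comm]⟩
    obtain ⟨z, hz, hzd⟩ := CfsgLib.Classical.OrthNineSpec.r9_of_rh p h2 hp2 hd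
      (CfsgLib.Classical.OrthNineSpec.minus_nd hab 3) E hRH
    exact ⟨_, Subgroup.pow_mem _ hz _, orderOf_pow_orderOf_div (orderOf_pos z).ne' hzd⟩

end Cfsg.Agent.S2517
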