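import Cfsg.Statements.S2519
import Cfsg.Agent.Lib.Lie.G2.OddExist
import Cfsg.Agent.Lib.Lie.G2.OddSpec

set_option autoImplicit false
open Cfsg

namespace Cfsg.Agent.S2519

theorem ne_dvd {a b : ℕ} (h : a ≠ b) (hb : 0 < b) (hlt : b < 2 * a) : ¬ a ∣ b := by
  rintro ⟨k, rfl⟩
  rcases k with _ | _ | k
  · simp at hb
  · exact h (mul_one a).symm
  · nlinarith

theorem antichain {p q : ℕ} (hp : p.Prime) (hp2 : p ≠ 2) (hd : p ∣ q) (hq : 5 ≤ q) {n m : ℕ}
    (hn : n ∈ ({p * (q + 1), p * (q - 1), q ^ 2 - 1, q ^ 2 + q + 1, q ^ 2 - q + 1} : Set ℕ) ∪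
      (if p = 3 ∨ p = 5 then ({p ^ 2} : Set ℕ) else ∅))
    (hm : m ∈ ({p * (q + 1), p * (q - 1), q ^ 2 - 1, q ^ 2 + q + 1, q ^ 2 - q + 1} : Set ℕ) ∪
      (if p = 3 ∨ p = 5 then ({p ^ 2} : Set ℕ) else ∅)) (h : n ∣ m) : n = m := by
  have hp1 : 1 < p := hp.one_lt
  have hqq : q ≤ q ^ 2 := Nat.le_self_pow two_ne_zero q
  have hq2 : q ∣ q ^ 2 := dvd_pow_self q two_ne_zero
  have h55 : 5 * q ≤ q ^ 2 := by rw [pow_two]; exact Nat.mul_le_mul_right q hq
  have cop : ∀ {x : ℕ}, p ∣ x → ∀ y, (y = x + 1 ∨ y + 1 = x) → ¬ p ∣ y := fun {x} hx y hy hpy => by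
    rcases hy with rfl | rfl
    · exact hp.ne_one (Nat.dvd_one.1 ((Nat.dvd_add_right hx).1 hpy))
    · exact hp.ne_one (Nat.dvd_one.1 ((Nat.dvd_add_right hpy).1 hx))
  have hA : p ∣ q ^ 2 + q := dvd_add (hd.trans hq2) hd
  have hB : p ∣ q ^ 2 - q := Nat.dvd_sub (hd.trans hq2) hd
  have n1 : ¬ p ∣ q + 1 := cop hd _ (Or.inl rfl)
  have n2 : ¬ p ∣ q - 1 := cop hd _ (Or.inr (by omega))
  have n3 : ¬ p ∣ q ^ 2 - 1 := cop (hd.trans hq2) _ (Or.inr (by omega))
  have n4 : ¬ p ∣ q ^ 2 + q + 1 := cop hA _ (Or.inl rfl)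
  have n5 : ¬ p ∣ q ^ 2 - q + 1 := cop hB _ (Or.inl rfl)
  -- multiples of `p` among the targets reduce to the cofactor
  have red : ∀ {x y : ℕ}, ¬ p ∣ x → x ∣ p * y → x ∣ y := fun {x y} hx hxy =>
    (Nat.Coprime.dvd_of_dvd_mul_left ((hp.coprime_iff_not_dvd.2 hx).symm) hxy)
  have lift : ∀ {x y : ℕ}, ¬ p ∣ y → ¬ p * x ∣ y := fun {x y} hy h' => hy ((dvd_mul_right p x).trans h')
  have canc : ∀ {x y : ℕ}, p * x ∣ p * y → x ∣ y := fun {x y} h' => Nat.dvd_of_mul_dvd_mul_left hp.pos h'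
  have big : ∀ {x y : ℕ}, 0 < y → y < x → ¬ x ∣ y := fun {x y} h0 hlt h' =>
    absurd (Nat.le_of_dvd h0 h') (by omega)
  have psq : p ^ 2 = p * p := pow_two p
  have hpq : p ≤ q := Nat.le_of_dvd (by omega) hd
  -- divisors of the prime
  have prm : ∀ {x : ℕ}, ¬ p ∣ x → 1 < x → ¬ x ∣ p := fun {x} hx h1 h' => by
    rcases (Nat.dvd_prime hp).1 h' with e | e
    · omega
    · exact hx (e ▸ dvd_rfl)
  simp only [Set.mem_union, Set.mem_insert_iff, Set.mem_singleton_iff] at hn hm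
  have hn' : n = p * (q + 1) ∨ n = p * (q - 1) ∨ n = q ^ 2 - 1 ∨ n = q ^ 2 + q + 1 ∨
      n = q ^ 2 - q + 1 ∨ n = p * p := by
    split_ifs at hn with h35
    · simp only [Set.mem_singleton_iff, psq] at hn; tauto
    · simp only [Set.mem_empty_iff_false] at hn; tauto
  have hm' : m = p * (q + 1) ∨ m = p * (q - 1) ∨ m = q ^ 2 - 1 ∨ m = q ^ 2 + q + 1 ∨
      m = q ^ 2 - q + 1 ∨ m = p * p := by
    split_ifs at hm with h35
    · simp only [Set.mem_singleton_iff, psq] at hm; tauto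
    · simp only [Set.mem_empty_iff_false] at hm; tauto
  rcases hn' with rfl | rfl | rfl | rfl | rfl | rfl <;>
    rcases hm' with rfl | rfl | rfl | rfl | rfl | rfl
  all_goals first
    | rfl
    | exact absurd h (lift n3)
    | exact absurd h (lift n4)
    | exact absurd h (lift n5)
    | exact absurd (canc h) (big (by omega) (by omega))
    | exact absurd (canc h) (ne_dvd (by omega) (by omega) (by omega))
    | exact absurd (canc h) (prm n1 (by omega))
    | exact absurd (canc h) (prm n2 (by omega))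
    | exact absurd h (ne_dvd (by omega) (by omega) (by omega))
    | exact absurd h (big (by omega) (by omega))
    | exact absurd (red n3 h) (big (by omega) (by omega))
    | exact absurd (red n4 h) (big (by omega) (by omega))
    | exact absurd (red n5 h) (big (by omega) (by omega))
    | exact absurd (red n3 h) (prm n3 (by omega))
    | exact absurd (red n4 h) (prm n4 (by omega))
    | exact absurd (red n5 h) (prm n5 (by omega))
    | exact absurd (canc h) n1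
    | exact absurd (canc h) n2

open CfsgLib.Lie in
theorem exists_order {F : Type*} [Field F] [Fintype F] {p : ℕ} [hp : Fact p.Prime] [CharP F p]
    (hp2 : p ≠ 2) (hq : 5 ≤ Fintype.card F) {n : ℕ}
    (hn : n ∈ ({p * (Fintype.card F + 1), p * (Fintype.card F - 1), Fintype.card F ^ 2 - 1,
      Fintype.card F ^ 2 + Fintype.card F + 1, Fintype.card F ^ 2 - Fintype.card F + 1} : Set ℕ) ∪
      (if p = 3 ∨ p = 5 then ({p ^ 2} : Set ℕ) else ∅)) :
    ∃ g : ↥(Cfsg.Lie.chevG2.group F), orderOf g = n := by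
  have h2 : (2 : F) ≠ 0 := Ring.two_ne_zero (by rw [ringChar.eq F p]; exact hp2)
  obtain ⟨e, -, he⟩ := FiniteField.card F p
  have hd : p ∣ Fintype.card F := he ▸ dvd_pow_self _ e.pos.ne'
  obtain ⟨a, b⟩ := G2OddExist.order_p_mul (F := F) (p := p) (by omega) h2
  obtain ⟨d, f⟩ := G2OddExist.order_cyclic (F := F) (by omega)
  simp only [Set.mem_union, Set.mem_insert_iff, Set.mem_singleton_iff] at hn
  rcases hn with (rfl | rfl | rfl | rfl | rfl) | hn
  · exact a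
  · exact b
  · exact G2OddExist.order_sq_sub_one (by omega) h2
  · exact d
  · exact f
  split_ifs at hn with h35
  · obtain ⟨g, j, hg, hj⟩ := G2OddExist.order_word (F := F) p h35
    obtain ⟨x, hx⟩ := G2Int.exists_order_dvd g
    obtain ⟨m, hm, hdm⟩ := G2Odd.order_dvd (p := p) hp2 x
    have hpm : p ∣ m := (dvd_pow_self p (show j ≠ 0 by omega)).trans (hg ▸ hx.trans hdm)
    have hj2 : p ^ 2 ∣ m := (pow_dvd_pow p hj).trans (hg ▸ hx.trans hdm)
    have hm' : m = p ^ 2 := by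
      by_contra hne
      have hin : p ^ 2 ∈ ({p * (Fintype.card F + 1), p * (Fintype.card F - 1), Fintype.card F ^ 2 - 1,
          Fintype.card F ^ 2 + Fintype.card F + 1, Fintype.card F ^ 2 - Fintype.card F + 1} : Set ℕ) ∪
          (if p = 3 ∨ p = 5 then ({p ^ 2} : Set ℕ) else ∅) := Or.inr (by rw [if_pos h35]; rfl)
      exact hne (antichain hp.out hp2 hd hq hin hm hj2).symm
    have hjle : p ^ j ∣ p ^ 2 := hm' ▸ hg ▸ hx.trans hdm
    rw [Set.mem_singleton_iff] at hn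
    exact ⟨g, by rw [hn, hg, le_antisymm ((Nat.pow_dvd_pow_iff_le_right hp.out.one_lt).1 hjle) hj]⟩
  · exact absurd hn (Set.notMem_empty _)

/-- Let F be a finite field of odd order q = p^a ≥ 5. The element orders of the Chevalley group G₂(F) that are maximal under divisibility are exactly p(q + 1), p(q − 1), q² − 1, q² + q + 1, q² − q + 1, together with p² when p is 3 or 5. -/
theorem result {F : Type*} [Field F] [Fintype F] (p a : ℕ) (hp : p.Prime) (hp2 : p ≠ 2) (ha : 1 ≤ a) (hF : Fintype.card F = p ^ a) (hq5 : 5 ≤ Fintype.card F) :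
    {n : ℕ | n ∈ Set.range (orderOf : ↥(Cfsg.Lie.chevG2.group F) → ℕ) ∧ ∀ m ∈ Set.range (orderOf : ↥(Cfsg.Lie.chevG2.group F) → ℕ), n ∣ m → m = n} =
      ({p * (p ^ a + 1), p * (p ^ a - 1), p ^ (2 * a) - 1, p ^ (2 * a) + p ^ a + 1, p ^ (2 * a) - p ^ a + 1} : Set ℕ) ∪
        (if p = 3 ∨ p = 5 then ({p ^ 2} : Set ℕ) else ∅) := by
  haveI : Fact p.Prime := ⟨hp⟩
  haveI : CharP F p := charP_of_card_eq_prime_pow hF
  have hd : p ∣ Fintype.card F := hF ▸ dvd_pow_self p (by omega)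
  have e : ({p * (p ^ a + 1), p * (p ^ a - 1), p ^ (2 * a) - 1, p ^ (2 * a) + p ^ a + 1,
      p ^ (2 * a) - p ^ a + 1} : Set ℕ) = {p * (Fintype.card F + 1), p * (Fintype.card F - 1),
      Fintype.card F ^ 2 - 1, Fintype.card F ^ 2 + Fintype.card F + 1,
      Fintype.card F ^ 2 - Fintype.card F + 1} := by
    rw [hF, ← pow_mul, mul_comm a 2]
  rw [e]
  ext n
  constructor
  · rintro ⟨⟨g, rfl⟩, hmax⟩
    obtain ⟨x, hx⟩ := CfsgLib.Lie.G2Int.exists_order_dvd g
    obtain ⟨m, hm, hdm⟩ := CfsgLib.Lie.G2Odd.order_dvd (p := p) hp2 x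
    rw [← hmax m (exists_order hp2 hq5 hm) (hx.trans hdm)]
    exact hm
  · intro hn
    refine ⟨exists_order hp2 hq5 hn, ?_⟩
    rintro m ⟨g, rfl⟩ hnm
    obtain ⟨x, hx⟩ := CfsgLib.Lie.G2Int.exists_order_dvd g
    obtain ⟨m', hm', hdm⟩ := CfsgLib.Lie.G2Odd.order_dvd (p := p) hp2 x
    have hnm' : n ∣ m' := hnm.trans (hx.trans hdm)
    have heq := antichain hp hp2 hd hq5 hn hm' hnm'
    subst heq
    exact Nat.dvd_antisymm (hx.trans hdm) hnm

end Cfsg.Agent.S2519
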