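import Cfsg.Statements.S2520
import Cfsg.Agent.Lib.Lie.G2.OctExist

set_option autoImplicit false
open Cfsg

namespace Cfsg.Agent.S2520

/-- Let F be a finite field with q = 2^a ≥ 4 elements and G₂(F) the Chevalley group of type G₂ over it. Every element order of G₂(F) maximal under divisibility lies in the set {8, 12, 2(q + 1), 2(q − 1), q² − 1, q² + q + 1, q² − q + 1}, and every member of that set is an element order of G₂(F). -/
theorem result {F : Type*} [Field F] [Fintype F] (a : ℕ) (ha : 2 ≤ a) (hF : Fintype.card F = 2 ^ a) :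
    {n : ℕ | n ∈ Set.range (orderOf : ↥(Cfsg.Lie.chevG2.group F) → ℕ) ∧ ∀ m ∈ Set.range (orderOf : ↥(Cfsg.Lie.chevG2.group F) → ℕ), n ∣ m → m = n} ⊆ ({8, 12, 2 * (2 ^ a + 1), 2 * (2 ^ a - 1), 2 ^ (2 * a) - 1, 2 ^ (2 * a) + 2 ^ a + 1, 2 ^ (2 * a) - 2 ^ a + 1} : Set ℕ) ∧
    ({8, 12, 2 * (2 ^ a + 1), 2 * (2 ^ a - 1), 2 ^ (2 * a) - 1, 2 ^ (2 * a) + 2 ^ a + 1, 2 ^ (2 * a) - 2 ^ a + 1} : Set ℕ) ⊆ Set.range (orderOf : ↥(Cfsg.Lie.chevG2.group F) → ℕ) := by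
  haveI : CharP F 2 := charP_of_card_eq_prime_pow hF
  have h4 : 4 ≤ Fintype.card F := by
    rw [hF]; exact le_trans (by norm_num : 4 ≤ 2 ^ 2) (Nat.pow_le_pow_right (by norm_num) ha)
  have e : ({8, 12, 2 * (2 ^ a + 1), 2 * (2 ^ a - 1), 2 ^ (2 * a) - 1, 2 ^ (2 * a) + 2 ^ a + 1,
      2 ^ (2 * a) - 2 ^ a + 1} : Set ℕ) = {8, 12, 2 * (Fintype.card F + 1), 2 * (Fintype.card F - 1),
      Fintype.card F ^ 2 - 1, Fintype.card F ^ 2 + Fintype.card F + 1,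
      Fintype.card F ^ 2 - Fintype.card F + 1} := by
    rw [hF, ← pow_mul, mul_comm a 2]
  rw [e]
  refine ⟨?_, fun n hn => CfsgLib.Lie.G2Exist.exists_order h4 n hn⟩
  rintro n ⟨⟨g, rfl⟩, hmax⟩
  obtain ⟨m, hm, hd⟩ := CfsgLib.Lie.G2Bridge.order_dvd g
  rw [← hmax m (CfsgLib.Lie.G2Exist.exists_order h4 m hm) hd]
  exact hm

end Cfsg.Agent.S2520
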