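import Cfsg.Statements.S2523
import Cfsg.Agent.Lib.Lie.ClassSquare.Final
import Cfsg.Agent.Lib.Lie.ClassSquare.Diagrams
import Cfsg.Agent.Lib.Lie.ClassSquare.LeviG2
import Cfsg.Agent.Lib.Lie.ClassSquare.LeviF4
import Cfsg.Agent.Lib.Lie.ClassSquare.LeviE6
import Cfsg.Agent.Lib.Lie.ClassSquare.LeviE7
import Cfsg.Agent.Lib.Lie.ClassSquare.LeviE8
import Cfsg.Agent.Lib.Lie.ClassSquare.SL
import Cfsg.Agent.Lib.Lie.ClassSquare.Sp
import Cfsg.Agent.Lib.Lie.ClassSquare.Orth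
import Cfsg.Agent.Lib.Lie.Chev.FullAll

set_option autoImplicit false
open Cfsg

namespace Cfsg.Agent.S2523

open CfsgLib.Lie.ClassSquare CfsgLib.Lie.Chev in
/-- the exceptional groups -/
theorem exceptional {F : Type*} [Field F] [Fintype F] (hF : 9 ≤ Fintype.card F)
    {D : Cfsg.Lie.ChevalleyDatum}
    (hD : D ∈ [Cfsg.Lie.chevG2, Cfsg.Lie.chevF4, Cfsg.Lie.chevE6, Cfsg.Lie.chevE7, Cfsg.Lie.chevE8]) :
    ∃ c : ↥(D.group F), ∀ g, ∃ x y : ↥(D.group F), g = (x * c * x⁻¹) * (y * c * y⁻¹) := by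
  have hK : 9 ≤ Nat.card F := by rwa [Nat.card_eq_fintype_card]
  simp only [List.mem_cons, List.not_mem_nil, or_false] at hD
  rcases hD with rfl | rfl | rfl | rfl | rfl
  · exact exists_class_square _ (nonempty_leviCov_G2 (fullOf (by simp)) F hK).some diagramOK_G2 hF
  · exact exists_class_square _ (nonempty_leviCov_F4 (fullOf (by simp)) F hK).some diagramOK_F4 hF
  · exact exists_class_square _ (nonempty_leviCov_E6 (fullOf (by simp)) F hK).some diagramOK_E6 hF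
  · exact exists_class_square _ (nonempty_leviCov_E7 (fullOf (by simp)) F hK).some diagramOK_E7 hF
  · exact exists_class_square _ (nonempty_leviCov_E8 (fullOf (by simp)) F hK).some diagramOK_E8 hF

/-- the property passes along isomorphisms -/
theorem transfer {G H : Type*} [Group G] [Group H] (e : G ≃* H)
    (h : ∃ c : H, ∀ g : H, ∃ x y : H, g = (x * c * x⁻¹) * (y * c * y⁻¹)) :
    ∃ c : G, ∀ g : G, ∃ x y : G, g = (x * c * x⁻¹) * (y * c * y⁻¹) := by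
  obtain ⟨c, hc⟩ := h
  refine ⟨e.symm c, fun g => ?_⟩
  obtain ⟨x, y, hxy⟩ := hc (e g)
  exact ⟨e.symm x, e.symm y, e.injective (by simp [hxy])⟩

/-- Let F be a finite field with at least 9 elements and let G be one of PSL(n, F) (n ≥ 2), PSp(2m, F) (m ≥ 2), PΩ(2m+1, F) (m ≥ 3, here q odd), PΩ⁺(2m, F) (m ≥ 4), or the Chevalley group of type G₂, F₄, E₆, E₇ or E₈ over F. Then G is the square of one of its conjugacy classes (Thompson's conjecture on products of conjugacy classes, not his conjecture on class sizes): there is a conjugacy class C of G with C·C = G, i.e. every element of G is a product of two elements of C. -/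
theorem result {F : Type*} [Field F] [Fintype F] (hF : 9 ≤ Fintype.card F) {G : Type*} [Group G] [Finite G]
    (hG : (∃ n : ℕ, 2 ≤ n ∧ Nonempty (G ≃* Matrix.ProjectiveSpecialLinearGroup (Fin n) F)) ∨
      (∃ m : ℕ, 2 ≤ m ∧ Nonempty (G ≃* Cfsg.PSp m F)) ∨
      (∃ m : ℕ, 3 ≤ m ∧ Odd (Fintype.card F) ∧ Nonempty (G ≃* Cfsg.POmega F (Cfsg.quadFormOdd m F))) ∨
      (∃ m : ℕ, 4 ≤ m ∧ Nonempty (G ≃* Cfsg.POmega F (Cfsg.quadFormPlus m F))) ∨
      Nonempty (G ≃* ↥(Cfsg.Lie.chevG2.group F)) ∨ Nonempty (G ≃* ↥(Cfsg.Lie.chevF4.group F)) ∨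
      Nonempty (G ≃* ↥(Cfsg.Lie.chevE6.group F)) ∨ Nonempty (G ≃* ↥(Cfsg.Lie.chevE7.group F)) ∨ Nonempty (G ≃* ↥(Cfsg.Lie.chevE8.group F))) :
    ∃ c : G, ∀ g : G, ∃ x y : G, g = (x * c * x⁻¹) * (y * c * y⁻¹) := by
  rcases hG with ⟨n, hn, ⟨e⟩⟩ | ⟨m, hm, ⟨e⟩⟩ | ⟨m, hm, hodd, ⟨e⟩⟩ | ⟨m, hm, ⟨e⟩⟩ | ⟨e⟩ | ⟨e⟩ | ⟨e⟩ | ⟨e⟩ | ⟨e⟩
  · exact transfer e (CfsgLib.Lie.ClassSquare.psl_class_square F hF n hn)
  · exact transfer e (CfsgLib.Lie.ClassSquare.psp_class_square F hF m hm)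
  · exact transfer e (CfsgLib.Lie.ClassSquare.pOmega_odd_class_square F hF m hm hodd)
  · exact transfer e (CfsgLib.Lie.ClassSquare.pOmega_plus_class_square F hF m hm)
  all_goals
    obtain ⟨e⟩ := e
    exact transfer e (exceptional hF (by simp))

end Cfsg.Agent.S2523
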