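import Cfsg.Statements.S2524
import Cfsg.Agent.Lib.Char.SpWeil.Main

set_option autoImplicit false
open Cfsg

namespace Cfsg.Agent.S2524

/-- Let F be a finite field of odd order q and G = Sp(2n, F) with n ≥ 2. Then G has exactly four irreducible complex characters of degree (q^n + 1)/2 or (q^n − 1)/2 (two of each), and every other non-principal irreducible character has degree at least (q^n − 1)(q^n − q)/(2(q + 1)). -/
theorem result {F : Type*} [Field F] [Fintype F] (hodd : Odd (Fintype.card F)) (n : ℕ) (hn : 2 ≤ n) :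
    Nat.card {χ : Cfsg.IrrCharacter ↥(Matrix.symplecticGroup (Fin n) F) // (χ : ↥(Matrix.symplecticGroup (Fin n) F) → ℂ) 1 = (((Fintype.card F) ^ n + 1 : ℕ) : ℂ) / 2} = 2 ∧
    Nat.card {χ : Cfsg.IrrCharacter ↥(Matrix.symplecticGroup (Fin n) F) // (χ : ↥(Matrix.symplecticGroup (Fin n) F) → ℂ) 1 = (((Fintype.card F) ^ n - 1 : ℕ) : ℂ) / 2} = 2 ∧
    ∀ χ : Cfsg.IrrCharacter ↥(Matrix.symplecticGroup (Fin n) F),
      (χ : ↥(Matrix.symplecticGroup (Fin n) F) → ℂ) 1 ≠ 1 →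
      (χ : ↥(Matrix.symplecticGroup (Fin n) F) → ℂ) 1 ≠ (((Fintype.card F) ^ n + 1 : ℕ) : ℂ) / 2 →
      (χ : ↥(Matrix.symplecticGroup (Fin n) F) → ℂ) 1 ≠ (((Fintype.card F) ^ n - 1 : ℕ) : ℂ) / 2 →
      (((Fintype.card F) ^ n - 1 : ℕ) : ℝ) * (((Fintype.card F) ^ n - Fintype.card F : ℕ) : ℝ) / (2 * ((Fintype.card F : ℕ) + 1 : ℝ)) ≤ ‖(χ : ↥(Matrix.symplecticGroup (Fin n) F) → ℂ) 1‖ := by
  classical
  obtain ⟨m, rfl⟩ : ∃ m, n = m + 1 := ⟨n - 1, by omega⟩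
  have hm : 1 ≤ m := by omega
  have h2 : ringChar F ≠ 2 := fun h => by
    have := FiniteField.even_card_of_char_two h
    exact absurd (Nat.odd_iff.1 hodd) (by omega)
  have h3 : 3 ≤ Fintype.card F := by
    have := Fintype.one_lt_card (α := F)
    obtain ⟨k, hk⟩ := hodd
    omega
  set q := Fintype.card F with hq
  set d := q ^ (m + 1) with hd
  obtain ⟨ψ, hψ⟩ := CfsgLib.LinDeg.exists_primitiveChar F ℂ (by
    rw [ringChar.eq_zero]
    exact fun h => CharP.ringChar_ne_zero_of_finite F h.symm)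
  obtain ⟨δ, hδ⟩ := FiniteField.exists_nonsquare (F := F) h2
  have hδ0 : δ ≠ 0 := fun e => hδ (e ▸ IsSquare.zero)
  have hψδ := CfsgLib.Char.SpWeil.mulShift_primitive ψ hψ hδ0
  let mk : (χ : AddChar F ℂ) → χ.IsPrimitive → (ε : ℂ) → (ε = 1 ∨ ε = -1) →
      Cfsg.IrrCharacter ↥(Matrix.symplecticGroup (Fin (m + 1)) F) := fun χ hχ ε hε =>
    ⟨(CfsgLib.Char.SpWeil.parRep χ hχ h2 (n := m + 1) ε).character,
      @CfsgLib.Char.isIrrCharacter_character _ _ _ _ _ _ _ (CfsgLib.Char.SpWeil.parRep_irreducible χ hχ h2 hn h3 hε)⟩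
  have hdeg : ∀ χ hχ ε hε, ((mk χ hχ ε hε).1) 1 =
      (Module.finrank ℂ ↥(CfsgLib.Classical.WeilSp.parSpace F (m + 1) ε) : ℂ) := fun χ hχ ε hε =>
    Representation.char_one _
  obtain ⟨hp, hmn⟩ := CfsgLib.Classical.WeilSp.finrank_parSpace (F := F) (n := m + 1) h2
  rw [← hq, ← hd] at hp hmn
  have hd9 : 9 ≤ d := le_trans (Nat.pow_le_pow_left h3 2) (Nat.pow_le_pow_right (by omega) hn)
  have hdeg1 : ∀ χ hχ, ((mk χ hχ 1 (Or.inl rfl)).1) 1 = ((d + 1 : ℕ) : ℂ) / 2 := fun χ hχ => by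
    rw [hdeg χ hχ 1 (Or.inl rfl), ← hp]; push_cast; ring
  have hdegm : ∀ χ hχ, ((mk χ hχ (-1) (Or.inr rfl)).1) 1 = ((d - 1 : ℕ) : ℂ) / 2 := fun χ hχ => by
    rw [hdeg χ hχ (-1) (Or.inr rfl), show d - 1 = 2 * Module.finrank ℂ ↥(CfsgLib.Classical.WeilSp.parSpace F (m + 1) (-1)) by omega]
    push_cast; ring
  have hqd : q ≤ d := Nat.le_self_pow (by omega) q
  -- the trichotomy
  have tri : ∀ χ : Cfsg.IrrCharacter ↥(Matrix.symplecticGroup (Fin (m + 1)) F),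
      χ.1 1 = 1 ∨ (∃ ε, ∃ hε, χ = mk ψ hψ ε hε ∨ χ = mk _ hψδ ε hε) ∨
        ∃ k : ℕ, χ.1 1 = (k : ℂ) ∧ (d - 1) * (d - q) ≤ 2 * (q + 1) * k := by
    rintro ⟨χ, k, σ, hσ, rfl⟩
    haveI := hσ
    have hk : σ.character 1 = ((Module.finrank ℂ (Fin k → ℂ) : ℕ) : ℂ) := Representation.char_one σ
    rcases CfsgLib.Char.SpWeil.classify ψ hψ h2 hm h3 hδ σ with h | ⟨ε, hε, h⟩ | h
    · exact Or.inl (by show σ.character 1 = 1; rw [hk, h, Nat.cast_one])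
    · exact Or.inr (Or.inl ⟨ε, hε, h.imp (fun e => Subtype.ext e) fun e => Subtype.ext e⟩)
    · exact Or.inr (Or.inr ⟨_, hk, h⟩)
  have hbig : ∀ k : ℕ, (d - 1) * (d - q) ≤ 2 * (q + 1) * k → d + 1 < 2 * k := by
    intro k hk
    obtain ⟨a, ha⟩ : ∃ a, d = q + a := ⟨d - q, by omega⟩
    have hqa : q * (q - 1) ≤ a := by
      have h' : q * q ≤ d := by
        rw [hd, ← sq]; exact Nat.pow_le_pow_right (by omega) (by omega)
      rw [Nat.mul_sub_one]; omega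
    by_contra hcon
    have h1 : (q + a - 1) * a ≤ (q + 1) * (q + a + 1) := by
      calc (q + a - 1) * a = (d - 1) * (d - q) := by rw [ha, Nat.add_sub_cancel_left]
        _ ≤ (q + 1) * (2 * k) := by rw [← mul_assoc, mul_comm (q + 1) 2]; exact hk
        _ ≤ (q + 1) * (q + a + 1) := Nat.mul_le_mul_left _ (by omega)
    have h6 : 2 * q ≤ a := le_trans (by rw [mul_comm]; exact Nat.mul_le_mul_left q (by omega)) hqa
    obtain ⟨b, hb⟩ : ∃ b, a = 2 * q + b := ⟨a - 2 * q, by omega⟩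
    zify [show 1 ≤ q + a by omega] at h1
    subst hb
    push_cast at h1
    nlinarith
  have hne : ∀ ε hε, mk ψ hψ ε hε ≠ mk _ hψδ ε hε := fun ε hε e =>
    CfsgLib.Char.SpWeil.character_ne ψ hψ h2 hm hδ (mul_self_eq_one_iff.2 hε) (congrArg Subtype.val e)
  have hcast : ∀ a b : ℕ, (a : ℂ) / 2 = (b : ℂ) / 2 → a = b := fun a b h => by
    exact_mod_cast (div_left_inj' (two_ne_zero : (2 : ℂ) ≠ 0)).1 h
  have hcount : ∀ (e : ℕ), (e = d + 1 ∨ e = d - 1) → ∀ ε₀ hε₀, (∀ χ hχ, (mk χ hχ ε₀ hε₀).1 1 = (e : ℂ) / 2) →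
      (∀ χ hχ ε hε, (mk χ hχ ε hε).1 1 = (e : ℂ) / 2 → ε = ε₀) →
      Nat.card {χ : Cfsg.IrrCharacter ↥(Matrix.symplecticGroup (Fin (m + 1)) F) //
        (χ : ↥(Matrix.symplecticGroup (Fin (m + 1)) F) → ℂ) 1 = (e : ℂ) / 2} = 2 := by
    intro e he ε₀ hε₀ hval honly
    rw [Nat.card_eq_two_iff]
    refine ⟨⟨mk ψ hψ ε₀ hε₀, hval ψ hψ⟩, ⟨mk _ hψδ ε₀ hε₀, hval _ hψδ⟩, fun h => hne ε₀ hε₀ (congrArg Subtype.val h), ?_⟩
    refine Set.eq_univ_of_forall fun ⟨χ, hχ⟩ => ?_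
    rcases tri χ with h | ⟨ε, hε, h⟩ | ⟨k, hk, hkb⟩
    · exfalso
      rw [h] at hχ
      have := hcast 2 e (by rw [← hχ]; norm_num)
      omega
    · rcases h with rfl | rfl
      · obtain rfl := honly _ _ ε hε hχ
        exact Or.inl rfl
      · obtain rfl := honly _ _ ε hε hχ
        exact Or.inr rfl
    · exfalso
      rw [hk] at hχ
      have := hcast (2 * k) e (by rw [← hχ]; push_cast; ring)
      have := hbig k hkb
      omega
  refine ⟨hcount _ (Or.inl rfl) 1 (Or.inl rfl) hdeg1 ?_, hcount _ (Or.inr rfl) (-1) (Or.inr rfl) hdegm ?_, ?_⟩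
  · intro χ hχ ε hε h
    rcases hε with rfl | rfl
    · rfl
    · rw [hdegm] at h; have := hcast _ _ h; omega
  · intro χ hχ ε hε h
    rcases hε with rfl | rfl
    · rw [hdeg1] at h; have := hcast _ _ h; omega
    · rfl
  intro χ h1 hp' hm'
  rcases tri χ with h | ⟨ε, hε, h⟩ | ⟨k, hk, hkb⟩
  · exact absurd h h1
  · exfalso
    rcases hε with rfl | rfl <;> rcases h with rfl | rfl
    · exact hp' (hdeg1 _ _)
    · exact hp' (hdeg1 _ _)
    · exact hm' (hdegm _ _)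
    · exact hm' (hdegm _ _)
  · rw [hk, Complex.norm_natCast, div_le_iff₀ (by positivity)]
    have : (((d - 1) * (d - q) : ℕ) : ℝ) ≤ ((2 * (q + 1) * k : ℕ) : ℝ) := Nat.cast_le.2 hkb
    push_cast at this
    linarith

end Cfsg.Agent.S2524
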