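import Cfsg.Statements.S2531
-- import your own Cfsg.Agent.* helpers here

set_option autoImplicit false
open Cfsg

namespace Cfsg.Agent.S2531

open scoped Classical

section

variable {F : Type*} [Field F] [Finite F] {n : ℕ}

/-- the points of a subspace -/
def pts (W : Submodule F (Fin n → F)) : Set (Projectivization F (Fin n → F)) := {x | x.submodule ≤ W}

theorem mk_mem_pts {W : Submodule F (Fin n → F)} {v : Fin n → F} (hv : v ≠ 0) :
    Projectivization.mk F v hv ∈ pts W ↔ v ∈ W := by
  show (Projectivization.mk F v hv).submodule ≤ W ↔ _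
  rw [Projectivization.submodule_mk, Submodule.span_singleton_le_iff_mem]

theorem card_pts (W : Submodule F (Fin n → F)) (hW : W ≠ ⊥) : (Nat.card (pts W) : F) = 1 := by
  haveI := Fintype.ofFinite F
  have hinj : Function.Injective (Projectivization.map W.subtype W.injective_subtype) :=
    Projectivization.map_injective _ W.injective_subtype
  have hr : Set.range (Projectivization.map W.subtype W.injective_subtype) = pts W := by
    ext x
    induction x using Projectivization.ind with
    | h v hv =>
      rw [mk_mem_pts hv]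
      constructor
      · rintro ⟨y, hy⟩
        induction y using Projectivization.ind with
        | h w hw =>
          rw [Projectivization.map_mk, Projectivization.mk_eq_mk_iff'] at hy
          obtain ⟨a, ha⟩ := hy
          have h1 : (w : Fin n → F) = a • v := ha.symm
          by_cases ha0 : a = 0
          · exact absurd (Subtype.ext (by rw [h1, ha0, zero_smul]; rfl)) hw
          · have : v = a⁻¹ • (w : Fin n → F) := by rw [h1, inv_smul_smul₀ ha0]
            rw [this]; exact W.smul_mem _ w.2
      · intro h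
        exact ⟨Projectivization.mk F (⟨v, h⟩ : W) (fun e => hv (congrArg Subtype.val e)),
          Projectivization.map_mk _ _ _ _⟩
  have h := Projectivization.card F W
  rw [← hr, Nat.card_range_of_injective hinj]
  have hd : Nat.card W = Nat.card F ^ Module.finrank F W := Module.natCard_eq_pow_finrank
  have hd0 : Module.finrank F W ≠ 0 := fun e => hW (Submodule.finrank_eq_zero.1 e)
  have hq : (Nat.card F : F) = 0 := by rw [Nat.card_eq_fintype_card, FiniteField.cast_card_eq_zero]
  have h1 : 1 ≤ Nat.card W := Nat.card_pos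
  have h2 : 1 ≤ Nat.card F := Nat.card_pos
  have h' := congrArg (fun k : ℕ => (k : F)) h
  simp only [Nat.cast_mul, Nat.cast_sub h1, Nat.cast_sub h2, Nat.cast_one] at h'
  rw [hd, Nat.cast_pow, hq, zero_pow hd0] at h'
  linear_combination h'

end

/-- Let `F` be a finite field and `n ≥ 3`. No set of permutations of the points of the projective space of `Fⁿ`, each induced by an invertible semilinear transformation of `Fⁿ` (so a subset of the full projective semilinear group), is sharply 2-transitive on the points: it is impossible that for all pairs of distinct points `(a, b)` and `(c, d)` exactly one member of the set sends `a` to `c` and `b` to `d`. -/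
theorem result {F : Type*} [Field F] [Finite F]
    (n : ℕ) (hn : 3 ≤ n) (S : Set (Equiv.Perm (Projectivization F (Fin n → F))))
    (hS : ∀ s ∈ S, ∃ (σ : F ≃+* F) (f : (Fin n → F) →ₛₗ[(σ : F →+* F)] (Fin n → F)) (hf : Function.Injective f),
      ∀ x, s x = Projectivization.map f hf x) :
    ¬ (∀ a b c d : Projectivization F (Fin n → F), a ≠ b → c ≠ d →
        ∃! s, s ∈ S ∧ s a = c ∧ s b = d) := by
  intro hu
  haveI : NeZero n := ⟨by omega⟩
  haveI := Fintype.ofFinite F
  haveI : Finite (Projectivization F (Fin n → F)) := inferInstance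
  obtain ⟨H, hH⟩ : ∃ H : Submodule F (Fin n → F), H = LinearMap.ker (LinearMap.proj (0 : Fin n)) := ⟨_, rfl⟩
  have hmem : ∀ v, v ∈ H ↔ v 0 = 0 := fun v => by rw [hH]; simp
  have he : (Pi.single (0 : Fin n) (1 : F) : Fin n → F) ≠ 0 := by simp
  obtain ⟨a, ha⟩ : ∃ a, a = Projectivization.mk F _ he := ⟨_, rfl⟩
  have haH : a ∉ pts H := by rw [ha, mk_mem_pts he, hmem]; simp
  have hHrank : n - 1 ≤ Module.finrank F H := by
    have h := LinearMap.finrank_range_add_finrank_ker (LinearMap.proj (0 : Fin n) : (Fin n → F) →ₗ[F] F)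
    rw [← hH, Module.finrank_fin_fun] at h
    have h2 := Submodule.finrank_le (LinearMap.range (LinearMap.proj (0 : Fin n) : (Fin n → F) →ₗ[F] F))
    rw [Module.finrank_self] at h2
    omega
  have hHne : H ≠ ⊥ := fun e => by rw [e, finrank_bot] at hHrank; omega
  have hA : ∀ s ∈ S, (Nat.card {x // x ∈ pts H ∧ s x ∈ pts H} : F) = 1 := by
    intro s hs
    obtain ⟨σ, f, hf, hsf⟩ := hS s hs
    have e : {x | x ∈ pts H ∧ s x ∈ pts H} = pts (H ⊓ H.comap f) := by
      ext x
      induction x using Projectivization.ind with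
      | h v hv =>
        show (_ ∈ pts H ∧ _) ↔ _
        rw [hsf, Projectivization.map_mk, mk_mem_pts, mk_mem_pts, mk_mem_pts]
        exact Iff.rfl
    show (Nat.card ↥{x | x ∈ pts H ∧ s x ∈ pts H} : F) = 1
    rw [e]
    refine card_pts _ fun h0 => ?_
    let L : H →ₛₗ[(σ : F →+* F)] F :=
      { toFun := fun v => f v.1 0
        map_add' := fun u v => by simp
        map_smul' := fun c v => by simp }
    have hinj : Function.Injective L := fun u v huv => by
      have hz : ((u - v : H) : Fin n → F) ∈ H ⊓ H.comap f :=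
        ⟨(u - v).2, (hmem _).2 (show L (u - v) = 0 by rw [map_sub, huv, sub_self])⟩
      rw [h0, Submodule.mem_bot] at hz
      exact sub_eq_zero.1 (Subtype.ext hz)
    have hle := Nat.card_le_card_of_injective L hinj
    rw [Module.natCard_eq_pow_finrank (K := F)] at hle
    have : Nat.card F ^ 2 ≤ Nat.card F ^ Module.finrank F H := Nat.pow_le_pow_right Nat.card_pos (by omega)
    have h2 : 2 ≤ Nat.card F := Finite.one_lt_card
    nlinarith
  let T := {s : Equiv.Perm (Projectivization F (Fin n → F)) // s ∈ S ∧ s a = a}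
  obtain ⟨x0, hx0⟩ : ∃ x0, x0 ∈ pts H := by
    obtain ⟨v, hvH, hv⟩ := Submodule.exists_mem_ne_zero_of_ne_bot hHne
    exact ⟨Projectivization.mk F v hv, (mk_mem_pts hv).2 hvH⟩
  have hx0a : a ≠ x0 := fun e => haH (e ▸ hx0)
  have hT : (Nat.card T : F) = 0 := by
    have e : T ≃ {y // y ≠ a} := Equiv.ofBijective (fun s => ⟨s.1 x0, fun h => hx0a (s.1.injective (s.2.2.trans h.symm))⟩)
      ⟨fun s t h => Subtype.ext ((hu a x0 a (s.1 x0) hx0a (fun h' => hx0a (s.1.injective (s.2.2.trans h')))).unique
          ⟨s.2.1, s.2.2, rfl⟩ ⟨t.2.1, t.2.2, (congrArg Subtype.val h).symm⟩),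
        fun y => by
          obtain ⟨s, ⟨h1, h2, h3⟩, -⟩ := hu a x0 a y.1 hx0a (Ne.symm y.2)
          exact ⟨⟨s, h1, h2⟩, Subtype.ext h3⟩⟩
    have hall : Nat.card (pts (⊤ : Submodule F (Fin n → F))) = Nat.card (Projectivization F (Fin n → F)) := by
      rw [show pts (⊤ : Submodule F (Fin n → F)) = Set.univ from Set.eq_univ_of_forall fun x => (le_top : x.submodule ≤ ⊤)]
      exact Nat.card_congr (Equiv.Set.univ _)
    have h1 : Nat.card {y // y = a} + Nat.card {y // y ≠ a} = Nat.card (Projectivization F (Fin n → F)) := by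
      rw [← Nat.card_sum]; exact Nat.card_congr (Equiv.sumCompl _)
    have h3 : Nat.card {y // y = a} = 1 := by
      haveI : Unique {y // y = a} := ⟨⟨⟨a, rfl⟩⟩, fun y => Subtype.ext y.2⟩
      exact Nat.card_unique
    rw [Nat.card_congr e]
    have h4 := card_pts (⊤ : Submodule F (Fin n → F)) (fun e' => hHne (eq_bot_iff.2 (e' ▸ le_top)))
    rw [hall, ← h1, h3, Nat.cast_add, Nat.cast_one] at h4
    exact add_eq_left.1 h4
  haveI : Finite T := inferInstance
  haveI := Fintype.ofFinite T
  have key : (Σ s : T, {x // x ∈ pts H ∧ s.1 x ∈ pts H}) ≃ pts H × pts H :=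
    Equiv.ofBijective (fun p => (⟨p.2.1, p.2.2.1⟩, ⟨p.1.1 p.2.1, p.2.2.2⟩))
      ⟨fun ⟨s, x⟩ ⟨t, y⟩ h => by
        have hxy : x.1 = y.1 := congrArg (fun z => z.1.1) h
        have h3 : s.1 x.1 = t.1 y.1 := congrArg (fun z => z.2.1) h
        have hst : s = t := Subtype.ext ((hu a x.1 a (s.1 x.1) (fun e => haH (e ▸ x.2.1)) (fun e => haH (e ▸ x.2.2))).unique
          ⟨s.2.1, s.2.2, rfl⟩ ⟨t.2.1, t.2.2, by rw [h3, hxy]⟩)
        subst hst
        exact congrArg (Sigma.mk s) (Subtype.ext hxy),
      fun ⟨x, y⟩ => by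
        obtain ⟨s, ⟨h1, h2, h3⟩, -⟩ := hu a x.1 a y.1 (fun e => haH (e ▸ x.2)) (fun e => haH (e ▸ y.2))
        exact ⟨⟨⟨s, h1, h2⟩, ⟨x.1, x.2, h3.symm ▸ y.2⟩⟩, Prod.ext rfl (Subtype.ext h3)⟩⟩
  have := congrArg (fun k : ℕ => (k : F)) (Nat.card_congr key)
  simp only [Nat.card_sigma, Nat.card_prod, Nat.cast_mul, card_pts H hHne, one_mul, Nat.cast_sum] at this
  rw [Finset.sum_congr rfl (fun s _ => hA s.1 s.2.1), Finset.sum_const, nsmul_eq_mul, mul_one,
    Finset.card_univ, ← Nat.card_eq_fintype_card, hT] at this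
  exact one_ne_zero this.symm

end Cfsg.Agent.S2531
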