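import Cfsg.Statements.S2533
-- import your own Cfsg.Agent.* helpers here

set_option autoImplicit false
open Cfsg

namespace Cfsg.Agent.S2533

open Matrix

section

variable (p : ℕ) [Fact p.Prime] (m : ℕ)

local notation "K" => ZMod p

/-- the arrows of a Kronecker brick -/
def arrows (v : Fin 3 → ZMod p) : Matrix (Fin (m + 1)) (Fin m) (ZMod p) :=
  fun i j => (if i = j.castSucc then v 0 else 0) + (if i = j.succ then v 1 else 0) +
    (if i.val = 0 ∧ j.val = 1 then v 2 else 0)

theorem arrows_add (v w : Fin 3 → ZMod p) : arrows p m (v + w) = arrows p m v + arrows p m w := by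
  ext i j
  simp only [arrows, Matrix.add_apply, Pi.add_apply]
  split_ifs <;> ring

/-- the module -/
def amat (v : Fin 3 → ZMod p) : Matrix (Fin m ⊕ Fin (m + 1)) (Fin m ⊕ Fin (m + 1)) (ZMod p) :=
  Matrix.fromBlocks 1 0 (arrows p m v) 1

theorem amat_mul (v w : Fin 3 → ZMod p) : amat p m v * amat p m w = amat p m (v + w) := by
  simp [amat, Matrix.fromBlocks_multiply, arrows_add]

/-- the sign matrix -/
def tmat (u : ℤˣ) : Matrix (Fin m ⊕ Fin (m + 1)) (Fin m ⊕ Fin (m + 1)) (ZMod p) :=
  Matrix.fromBlocks (((((u : ℤ) : ZMod p)) ^ (m + 1)) • 1) 0 0 (((((u : ℤ) : ZMod p)) ^ m) • 1)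

theorem tmat_mul (u v : ℤˣ) : tmat p m u * tmat p m v = tmat p m (u * v) := by
  simp [tmat, Matrix.fromBlocks_multiply, smul_smul, mul_pow, mul_comm]

theorem tmat_one : tmat p m 1 = 1 := by
  simp [tmat, Matrix.fromBlocks_one]

theorem tmat_amat (u : ℤˣ) (v : Fin 3 → ZMod p) :
    tmat p m u * amat p m v = amat p m ((u : ℤ) • v) * tmat p m u := by
  rcases Int.units_eq_one_or u with rfl | rfl
  · simp [tmat_one]
  · have harr : arrows p m (-v) = -arrows p m v := by
      ext i j
      simp only [arrows, Matrix.neg_apply, Pi.neg_apply]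
      split_ifs <;> ring
    simp [tmat, amat, Matrix.fromBlocks_multiply, pow_succ, harr]

/-- the group -/
def act : ℤˣ →* MulAut (Multiplicative (Fin 3 → ZMod p)) where
  toFun u :=
    { toFun := fun x => x ^ (u : ℤ)
      invFun := fun x => x ^ (u : ℤ)
      left_inv := fun x => by rcases Int.units_eq_one_or u with rfl | rfl <;> simp
      right_inv := fun x => by rcases Int.units_eq_one_or u with rfl | rfl <;> simp
      map_mul' := fun x y => mul_zpow x y _ }
  map_one' := MulEquiv.ext fun x => zpow_one x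
  map_mul' u v := MulEquiv.ext fun x => show x ^ ((u * v : ℤˣ) : ℤ) = (x ^ (v : ℤ)) ^ (u : ℤ) by
    rw [Units.val_mul, ← _root_.zpow_mul, mul_comm]

theorem det_amat (v : Fin 3 → ZMod p) : (amat p m v).det = 1 := by
  simp [amat, Matrix.det_fromBlocks_zero₁₂]

theorem det_tmat (u : ℤˣ) : (tmat p m u).det = 1 := by
  rw [tmat, Matrix.det_fromBlocks_zero₁₂, Matrix.det_smul, Matrix.det_smul, Matrix.det_one, Matrix.det_one,
    mul_one, mul_one, Fintype.card_fin, Fintype.card_fin, ← pow_mul, ← pow_mul, ← pow_add]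
  rcases Int.units_eq_one_or u with rfl | rfl
  · simp
  · push_cast
    exact Even.neg_one_pow ⟨m * (m + 1), by ring⟩

/-- reindexing -/
def rel : Matrix (Fin m ⊕ Fin (m + 1)) (Fin m ⊕ Fin (m + 1)) (ZMod p) →*
    Matrix (Fin (m + (m + 1))) (Fin (m + (m + 1))) (ZMod p) :=
  (Matrix.reindexAlgEquiv (ZMod p) (ZMod p) finSumFinEquiv).toMonoidHom

theorem det_rel (A : Matrix (Fin m ⊕ Fin (m + 1)) (Fin m ⊕ Fin (m + 1)) (ZMod p)) : (rel p m A).det = A.det :=
  Matrix.det_reindexAlgEquiv (ZMod p) (ZMod p) finSumFinEquiv A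

/-- the representation -/
def rho : (Multiplicative (Fin 3 → ZMod p)) ⋊[act p] ℤˣ →*
    Matrix.SpecialLinearGroup (Fin (m + (m + 1))) (ZMod p) where
  toFun h := ⟨rel p m (amat p m h.left.toAdd * tmat p m h.right), by
    rw [det_rel, Matrix.det_mul, det_amat, det_tmat, mul_one]⟩
  map_one' := Subtype.ext (show rel p m _ = 1 by
    have h0 : arrows p m 0 = 0 := by
      ext i j
      simp [arrows]
    simp [amat, tmat_one, h0, Matrix.fromBlocks_one])
  map_mul' g h := Subtype.ext (show rel p m _ = rel p m _ * rel p m _ by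
    rw [← map_mul]
    congr 1
    rw [SemidirectProduct.mul_left, SemidirectProduct.mul_right]
    show amat p m (g.left.toAdd + (g.right : ℤ) • h.left.toAdd) * tmat p m (g.right * h.right) = _
    rw [← amat_mul, ← tmat_mul, mul_assoc (amat p m g.left.toAdd), mul_assoc (amat p m g.left.toAdd),
      ← mul_assoc (amat p m _) (tmat p m g.right), ← tmat_amat, mul_assoc])

theorem scalar_of_brick (hm : 2 ≤ m) (P : Matrix (Fin m) (Fin m) (ZMod p)) (Q : Matrix (Fin (m + 1)) (Fin (m + 1)) (ZMod p))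
    (h : ∀ v, Q * arrows p m v = arrows p m v * P) : ∃ c : ZMod p, P = c • 1 ∧ Q = c • 1 := by
  obtain ⟨a, ha⟩ : ∃ a : Fin 3 → ZMod p, a = ![1, 0, 0] := ⟨_, rfl⟩
  obtain ⟨b, hb⟩ : ∃ b : Fin 3 → ZMod p, b = ![0, 1, 0] := ⟨_, rfl⟩
  have e1 : ∀ (i : Fin (m + 1)) (j : Fin m), Q i j.castSucc = ∑ k, (if i = k.castSucc then (1 : ZMod p) else 0) * P k j :=
    fun i j => by
      have := congrFun (congrFun (h a) i) j
      simp [Matrix.mul_apply, arrows, ha] at this
      simpa using this
  have e2 : ∀ (i : Fin (m + 1)) (j : Fin m), Q i j.succ = ∑ k, (if i = k.succ then (1 : ZMod p) else 0) * P k j :=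
    fun i j => by
      have := congrFun (congrFun (h b) i) j
      simp [Matrix.mul_apply, arrows, hb] at this
      simpa using this
  have hP1 : ∀ i j : Fin m, Q i.castSucc j.castSucc = P i j := fun i j => by
    rw [e1]; simp [Fin.castSucc_inj]
  have hP2 : ∀ i j : Fin m, Q i.succ j.succ = P i j := fun i j => by
    rw [e2]; simp [Fin.succ_inj]
  have hlast : ∀ j : Fin m, Q (Fin.last m) j.castSucc = 0 := fun j => by
    rw [e1]
    exact Finset.sum_eq_zero fun k _ => by rw [if_neg (Fin.castSucc_lt_last k).ne', zero_mul]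
  have hfirst : ∀ j : Fin m, Q 0 j.succ = 0 := fun j => by
    rw [e2]
    exact Finset.sum_eq_zero fun k _ => by rw [if_neg (Fin.succ_ne_zero k).symm, zero_mul]
  have hshift : ∀ i j : Fin m, Q i.castSucc j.castSucc = Q i.succ j.succ := fun i j => (hP1 i j).trans (hP2 i j).symm
  have low : ∀ (d : ℕ) (i j : Fin (m + 1)), i.val + d = m → j.val < i.val → Q i j = 0 := by
    intro d
    induction d with
    | zero =>
      intro i j hi hj
      rw [show i = Fin.last m from Fin.ext (by simpa using hi), show j = (⟨j.val, by omega⟩ : Fin m).castSucc from rfl]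
      exact hlast _
    | succ d ih =>
      intro i j hi hj
      rw [show i = (⟨i.val, by omega⟩ : Fin m).castSucc from rfl, show j = (⟨j.val, by omega⟩ : Fin m).castSucc from rfl,
        hshift]
      exact ih _ _ (by simp; omega) (by simpa using hj)
  have high : ∀ (d : ℕ) (i j : Fin (m + 1)), i.val = d → i.val < j.val → Q i j = 0 := by
    intro d
    induction d with
    | zero =>
      intro i j hi hj
      rw [show i = 0 from Fin.ext (by simpa using hi),
        show j = (⟨j.val - 1, by omega⟩ : Fin m).succ from Fin.ext (by simp; omega)]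
      exact hfirst _
    | succ d ih =>
      intro i j hi hj
      rw [show i = (⟨i.val - 1, by omega⟩ : Fin m).succ from Fin.ext (by simp; omega),
        show j = (⟨j.val - 1, by omega⟩ : Fin m).succ from Fin.ext (by simp; omega), ← hshift]
      exact ih _ _ (by simp; omega) (by simp; omega)
  have diag : ∀ i : Fin (m + 1), Q i i = Q 0 0 := by
    intro i
    induction i using Fin.induction with
    | zero => rfl
    | succ i ih => rw [← hshift, ih]
  have hQ : Q = Q 0 0 • (1 : Matrix (Fin (m + 1)) (Fin (m + 1)) (ZMod p)) := by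
    ext i j
    rw [Matrix.smul_apply, Matrix.one_apply]
    rcases lt_trichotomy i.val j.val with hlt | heq | hgt
    · rw [if_neg (fun e => hlt.ne (congrArg Fin.val e)), smul_zero]
      exact high _ i j rfl hlt
    · rw [if_pos (Fin.ext heq), show i = j from Fin.ext heq, diag, smul_eq_mul, mul_one]
    · rw [if_neg (fun e => hgt.ne (congrArg Fin.val e).symm), smul_zero]
      exact low (m - i.val) i j (by omega) hgt
  refine ⟨Q 0 0, ?_, hQ⟩
  ext i j
  rw [← hP1]
  conv_lhs => rw [hQ]
  simp [Matrix.one_apply, Fin.castSucc_inj]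

theorem det_offdiag (R : Matrix (Fin m) (Fin (m + 1)) (ZMod p)) (S : Matrix (Fin (m + 1)) (Fin m) (ZMod p)) :
    (Matrix.fromBlocks 0 R S 0).det = 0 := by
  obtain ⟨u, hu, hS⟩ : ∃ u : Fin (m + 1) → ZMod p, u ≠ 0 ∧ R *ᵥ u = 0 := by
    have hni : ¬ Function.Injective R.mulVecLin := fun hi => by
      have := LinearMap.finrank_le_finrank_of_injective hi
      rw [Module.finrank_fin_fun, Module.finrank_fin_fun] at this
      omega
    rw [← LinearMap.ker_eq_bot] at hni
    obtain ⟨u, hu, hu0⟩ := Submodule.exists_mem_ne_zero_of_ne_bot hni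
    exact ⟨u, hu0, hu⟩
  rw [← Matrix.exists_mulVec_eq_zero_iff]
  refine ⟨Sum.elim 0 u, fun e => hu (funext fun i => congrFun e (Sum.inr i)), ?_⟩
  rw [Matrix.fromBlocks_mulVec]
  ext (i | i) <;> simp [hS]

end

/-- For every odd prime `p` there is a finite group `H` of order `2p³` which, for infinitely many `n`, embeds in the projective special linear group `PSL(n, p)` as a subgroup with trivial centralizer. -/
theorem result
    (p : ℕ) [Fact p.Prime] (hp : p ≠ 2) :
    ∃ (H : Type) (_ : Group H) (_ : Finite H), Nat.card H = 2 * p ^ 3 ∧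
      ∀ N : ℕ, ∃ n, N ≤ n ∧ ∃ φ : H →* Matrix.ProjectiveSpecialLinearGroup (Fin n) (ZMod p),
        Function.Injective φ ∧ Subgroup.centralizer (φ.range : Set (Matrix.ProjectiveSpecialLinearGroup (Fin n) (ZMod p))) = ⊥ := by
  have hpp : p.Prime := Fact.out
  haveI : NeZero (2 : ZMod p) := ⟨fun h => hp ((Nat.prime_dvd_prime_iff_eq hpp Nat.prime_two).1
    ((ZMod.natCast_eq_zero_iff 2 p).1 (by exact_mod_cast h)))⟩
  refine ⟨(Multiplicative (Fin 3 → ZMod p)) ⋊[act p] ℤˣ, inferInstance,
    Finite.of_equiv _ SemidirectProduct.equivProd.symm, ?_, fun N => ?_⟩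
  · rw [SemidirectProduct.card, Nat.card_congr Multiplicative.toAdd, Nat.card_fun, Nat.card_zmod,
      Nat.card_eq_fintype_card, Fintype.card_fin, Nat.card_eq_fintype_card, Fintype.card_units_int, mul_comm]
  obtain ⟨m, hm, hNm⟩ : ∃ m, 2 ≤ m ∧ N ≤ m := ⟨N + 2, by omega, by omega⟩
  refine ⟨m + (m + 1), by omega, (QuotientGroup.mk' _).comp (rho p m), ?_, ?_⟩
  · rw [injective_iff_map_eq_one]
    rintro ⟨v, u⟩ h
    rw [MonoidHom.comp_apply, QuotientGroup.mk'_apply, QuotientGroup.eq_one_iff] at h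
    obtain ⟨r, -, hr⟩ := Matrix.SpecialLinearGroup.mem_center_iff.1 h
    have h2 : rel p m (amat p m v.toAdd * tmat p m u) = rel p m (r • 1) := by
      refine Eq.trans hr.symm ?_
      rw [show rel p m (r • 1) = (Matrix.reindexAlgEquiv (ZMod p) (ZMod p) finSumFinEquiv) (r • 1) from rfl,
        map_smul, map_one, Matrix.scalar_apply, Matrix.smul_one_eq_diagonal]
    have h3 := (Matrix.reindexAlgEquiv (ZMod p) (ZMod p) finSumFinEquiv).injective h2
    obtain ⟨e11, -, e21, e22⟩ : (((u : ℤ) : ZMod p) ^ (m + 1)) = r ∧ True ∧ arrows p m v.toAdd = 0 ∧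
        (((u : ℤ) : ZMod p) ^ m) = r := by
      rw [amat, tmat, Matrix.fromBlocks_multiply, ← Matrix.fromBlocks_one, Matrix.fromBlocks_smul,
        Matrix.fromBlocks_inj] at h3
      simp only [one_mul, mul_zero, add_zero, zero_add, Matrix.mul_one, Matrix.one_mul, Matrix.mul_zero, Matrix.zero_mul, Matrix.mul_smul, mul_one, smul_zero, smul_eq_zero] at h3
      obtain ⟨a, -, b, c⟩ := h3
      refine ⟨?_, trivial, b.resolve_left ?_, ?_⟩
      · have := congrFun (congrFun a ⟨0, by omega⟩) ⟨0, by omega⟩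
        simpa using this
      · refine pow_ne_zero _ ?_
        rcases Int.units_eq_one_or u with rfl | rfl <;> simp
      · have := congrFun (congrFun c 0) 0
        simpa using this
    have hu : u = 1 := by
      rcases Int.units_eq_one_or u with rfl | rfl
      · rfl
      · exfalso
        rw [← e22, pow_succ] at e11
        push_cast at e11
        refine two_ne_zero (α := ZMod p) ?_
        rcases neg_one_pow_eq_or (ZMod p) m with h' | h' <;> rw [h'] at e11 <;>
          first | linear_combination -e11 | linear_combination e11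
    have a0 := congrFun (congrFun e21 (⟨0, by omega⟩ : Fin m).castSucc) ⟨0, by omega⟩
    have a1 := congrFun (congrFun e21 (⟨0, by omega⟩ : Fin m).succ) ⟨0, by omega⟩
    have a2 := congrFun (congrFun e21 0) ⟨1, by omega⟩
    simp [arrows, Fin.ext_iff] at a0 a1 a2
    have hv : v.toAdd = 0 := by funext i; fin_cases i <;> simp [a0, a1, a2]
    refine SemidirectProduct.ext ?_ hu
    exact Multiplicative.toAdd.injective hv
  rw [eq_bot_iff]
  intro g hg
  obtain ⟨g, rfl⟩ := QuotientGroup.mk_surjective g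
  rw [Subgroup.mem_bot, QuotientGroup.eq_one_iff]
  obtain ⟨G0, hG0⟩ : ∃ G0, rel p m G0 = g.1 :=
    ⟨(Matrix.reindexAlgEquiv (ZMod p) (ZMod p) finSumFinEquiv).symm g.1, AlgEquiv.apply_symm_apply _ _⟩
  have hdetG : IsUnit G0.det := by rw [← det_rel, hG0, g.2]; exact isUnit_one
  have hcomm : ∀ h : (Multiplicative (Fin 3 → ZMod p)) ⋊[act p] ℤˣ, ∃ r : ZMod p, G0 * (amat p m h.left.toAdd * tmat p m h.right) =
      r • ((amat p m h.left.toAdd * tmat p m h.right) * G0) := fun h => by
    have hh := hg _ (MonoidHom.mem_range.2 ⟨h, rfl⟩)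
    rw [MonoidHom.comp_apply, QuotientGroup.mk'_apply, ← QuotientGroup.mk_mul, ← QuotientGroup.mk_mul, QuotientGroup.eq] at hh
    obtain ⟨r, -, hr⟩ := Matrix.SpecialLinearGroup.mem_center_iff.1 hh
    refine ⟨r, (Matrix.reindexAlgEquiv (ZMod p) (ZMod p) finSumFinEquiv).injective ?_⟩
    have e : g * rho p m h = (rho p m h * g) * ((rho p m h * g)⁻¹ * (g * rho p m h)) := by group
    have e' := congrArg Subtype.val e
    rw [Matrix.SpecialLinearGroup.coe_mul (rho p m h * g) _, ← hr] at e'
    show rel p m _ = (Matrix.reindexAlgEquiv (ZMod p) (ZMod p) finSumFinEquiv) (r • _)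
    rw [map_smul]
    show rel p m _ = r • rel p m _
    rw [map_mul (rel p m) G0, map_mul (rel p m) _ G0, hG0]
    refine Eq.trans ?_ (Eq.trans e' ?_)
    · rw [Matrix.SpecialLinearGroup.coe_mul]; rfl
    · rw [Matrix.scalar_apply, ← Matrix.smul_one_eq_diagonal, Matrix.mul_smul, mul_one,
        Matrix.SpecialLinearGroup.coe_mul]
      rfl
  obtain ⟨P, R, S, Q, rfl⟩ : ∃ P R S Q, G0 = Matrix.fromBlocks P R S Q := ⟨_, _, _, _, (Matrix.fromBlocks_toBlocks G0).symm⟩
  have h0 : arrows p m 0 = 0 := by ext i j; simp [arrows]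
  obtain ⟨rt, ht⟩ := hcomm ⟨1, -1⟩
  have hmp : ((-1 : ZMod p) ^ m) ≠ 0 := pow_ne_zero _ (neg_ne_zero.2 one_ne_zero)
  simp only [toAdd_one, amat, h0, Matrix.fromBlocks_one, one_mul, tmat, Matrix.fromBlocks_multiply,
    Matrix.fromBlocks_smul, Matrix.fromBlocks_inj, Matrix.mul_one, Matrix.one_mul, Matrix.mul_zero, Matrix.zero_mul, mul_zero, zero_mul, add_zero, zero_add, Matrix.mul_smul,
    Matrix.smul_mul, mul_one, Units.val_neg, Units.val_one, Int.cast_neg, Int.cast_one, smul_smul, pow_succ] at ht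
  obtain ⟨hP, hR, hS, hQ⟩ := ht
  have hPQ : P ≠ 0 ∨ Q ≠ 0 := by
    by_contra hh
    push Not at hh
    have hd : Matrix.det (Matrix.fromBlocks P R S Q) = 0 := by
      rw [hh.1, hh.2]
      exact det_offdiag p m R S
    exact hdetG.ne_zero hd
  have hrt : rt = 1 := by
    rcases hPQ with hP0 | hQ0
    · have : ((-1 : ZMod p) ^ m * -1) = rt * ((-1 : ZMod p) ^ m * -1) := smul_left_injective _ hP0 hP
      exact (mul_eq_right₀ (mul_ne_zero hmp (neg_ne_zero.2 one_ne_zero))).1 this.symm
    · have : ((-1 : ZMod p) ^ m) = rt * ((-1 : ZMod p) ^ m) := smul_left_injective _ hQ0 hQ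
      exact (mul_eq_right₀ hmp).1 this.symm
  have hne : ((-1 : ZMod p) ^ m) ≠ (-1 : ZMod p) ^ m * -1 := fun e =>
    two_ne_zero (α := ZMod p) ((mul_eq_zero.1 (show (-1 : ZMod p) ^ m * 2 = 0 by linear_combination e)).resolve_left hmp)
  rw [hrt, one_mul] at hR hS
  have hR0 : R = 0 := by_contra fun h => hne (smul_left_injective _ h hR)
  have hS0 : S = 0 := by_contra fun h => hne (smul_left_injective _ h hS).symm
  subst hR0 hS0
  have hbr : ∀ v, Q * arrows p m v = arrows p m v * P := fun v => by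
    obtain ⟨r, hr⟩ := hcomm ⟨Multiplicative.ofAdd v, 1⟩
    simp only [toAdd_ofAdd, tmat_one, mul_one, amat, Matrix.fromBlocks_multiply, Matrix.fromBlocks_smul,
      Matrix.fromBlocks_inj, Matrix.mul_one, Matrix.one_mul, Matrix.mul_zero, Matrix.zero_mul, mul_zero, zero_mul, add_zero, zero_add, mul_one, one_mul, smul_zero] at hr
    obtain ⟨a, -, b, c⟩ := hr
    have hr1 : r = 1 := by
      rcases hPQ with h | h
      · exact (smul_left_injective _ h (show (1 : ZMod p) • P = r • P by rw [one_smul]; exact a)).symm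
      · exact (smul_left_injective _ h (show (1 : ZMod p) • Q = r • Q by rw [one_smul]; exact c)).symm
    rw [hr1, one_smul] at b
    exact b
  obtain ⟨c, hcP, hcQ⟩ := scalar_of_brick p m hm P Q hbr
  have hg' : g.1 = c • 1 := by
    rw [← hG0, hcP, hcQ, show (Matrix.fromBlocks (c • 1) 0 0 (c • 1) :
      Matrix (Fin m ⊕ Fin (m + 1)) (Fin m ⊕ Fin (m + 1)) (ZMod p)) = c • 1 by
        rw [← Matrix.fromBlocks_one, Matrix.fromBlocks_smul, smul_zero, smul_zero]]
    show (Matrix.reindexAlgEquiv (ZMod p) (ZMod p) finSumFinEquiv) (c • 1) = c • 1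
    rw [map_smul, map_one]
  rw [Matrix.SpecialLinearGroup.mem_center_iff]
  refine ⟨c, ?_, by rw [hg', Matrix.scalar_apply, Matrix.smul_one_eq_diagonal]⟩
  have := g.2
  rwa [hg', Matrix.det_smul, Matrix.det_one, mul_one] at this

end Cfsg.Agent.S2533
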