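import Cfsg.Statements.S2534
import Mathlib
import Cfsg.Agent.Lib.Perm.Groups.HallSym.Witness

set_option autoImplicit false
set_option linter.all false
open Cfsg CfsgLib.Perm.Groups.HallSym

namespace Cfsg.Agent.S2534

/-- For `n ≥ 5` and a set of primes `π`, the alternating group of degree `n` satisfies the full Sylow analogue for `π` (its maximal `π`-subgroups are pairwise conjugate; for a finite group this says Hall `π`-subgroups exist, are all conjugate, and contain every `π`-subgroup up to conjugacy) if and only if either at most one prime of `π` divides its order or every prime dividing its order lies in `π`. -/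
theorem result (n : ℕ) (hn : 5 ≤ n) (π : Set ℕ) :
    Cfsg.IsDPiGroup π ↥(alternatingGroup (Fin n)) ↔
      ((∀ r s : ℕ, r.Prime → s.Prime → r ∈ π → s ∈ π → r ∣ Nat.card ↥(alternatingGroup (Fin n)) → s ∣ Nat.card ↥(alternatingGroup (Fin n)) → r = s) ∨
        ∀ r : ℕ, r.Prime → r ∣ Nat.card ↥(alternatingGroup (Fin n)) → r ∈ π) := by
  haveI : Nontrivial (Fin n) := Fin.nontrivial_iff_two_le.2 (by omega)
  have hdvd : ∀ q : ℕ, q.Prime → (q ∣ Nat.card ↥(alternatingGroup (Fin n)) ↔ q ≤ n) := fun q hq => by
    simpa using prime_dvd_card_alt (α := Fin n) (by simp; omega) hq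
  constructor
  · intro hD
    by_contra h
    push Not at h
    obtain ⟨⟨r, s, hr, hs, hrπ, hsπ, hrd, hsd, hne⟩, t, ht, htd, htπ⟩ := h
    exact not_dPi_alt hn ⟨r, s, hr, hs, hne, hrπ, hsπ, (hdvd r hr).1 hrd, (hdvd s hs).1 hsd⟩
      ⟨t, ht, (hdvd t ht).1 htd, htπ⟩ hD
  · rintro (h | h)
    · exact (cd_of_one h).2
    · exact (cd_of_all h).2

end Cfsg.Agent.S2534
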