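import Cfsg.Statements.S2535
import Mathlib
import Cfsg.Agent.Lib.Perm.Groups.HallSym.Shapes

set_option autoImplicit false
set_option linter.all false
open Cfsg CfsgLib.Perm.Groups.HallSym

namespace Cfsg.Agent.S2535

/-- For every `n` and every set of primes `π`, the following are equivalent for the symmetric group `S` of degree `n` and its alternating subgroup `A`: `S` has a Hall `π`-subgroup; `S` has a Hall `π`-subgroup and all of them are conjugate; `A` has a Hall `π`-subgroup; `A` has a Hall `π`-subgroup and all of them are conjugate. -/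
theorem result (n : ℕ) (π : Set ℕ) :
    (Cfsg.IsEPiGroup π (Equiv.Perm (Fin n)) ↔ Cfsg.IsCPiGroup π (Equiv.Perm (Fin n))) ∧
    (Cfsg.IsEPiGroup π (Equiv.Perm (Fin n)) ↔ Cfsg.IsEPiGroup π ↥(alternatingGroup (Fin n))) ∧
    (Cfsg.IsEPiGroup π ↥(alternatingGroup (Fin n)) ↔ Cfsg.IsCPiGroup π ↥(alternatingGroup (Fin n))) := by
  by_cases hone : ∀ r s : ℕ, r.Prime → s.Prime → r ∈ π → s ∈ π → r ≤ n → s ≤ n → r = s
  · have hS := (cd_of_one (π := π) (G := Equiv.Perm (Fin n)) fun r s hr hs hrπ hsπ hrd hsd =>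
      hone r s hr hs hrπ hsπ (by simpa using prime_le_of_dvd_perm hr hrd)
        (by simpa using prime_le_of_dvd_perm hs hsd)).1
    have hA := (cd_of_one (π := π) (G := alternatingGroup (Fin n)) fun r s hr hs hrπ hsπ hrd hsd =>
      hone r s hr hs hrπ hsπ (by simpa using prime_le_of_dvd_alt hr hrd)
        (by simpa using prime_le_of_dvd_alt hs hsd)).1
    exact ⟨iff_of_true hS.1 hS, iff_of_true hS.1 hA.1, iff_of_true hA.1 hA⟩
  by_cases hall : ∀ r : ℕ, r.Prime → r ≤ n → r ∈ π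
  · have hS := (cd_of_all (π := π) (G := Equiv.Perm (Fin n)) fun q hq hd =>
      hall q hq (by simpa using prime_le_of_dvd_perm hq hd)).1
    have hA := (cd_of_all (π := π) (G := alternatingGroup (Fin n)) fun q hq hd =>
      hall q hq (by simpa using prime_le_of_dvd_alt hq hd)).1
    exact ⟨iff_of_true hS.1 hS, iff_of_true hS.1 hA.1, iff_of_true hA.1 hA⟩
  push Not at hone hall
  obtain ⟨r, s, hr, hs, hrπ, hsπ, hrn, hsn, hne⟩ := hone
  haveI : Nontrivial (Fin n) := Fin.nontrivial_iff_two_le.2 (hr.two_le.trans hrn)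
  have h2p : ∃ r s : ℕ, r.Prime ∧ s.Prime ∧ r ≠ s ∧ r ∈ π ∧ s ∈ π ∧ r ≤ Fintype.card (Fin n) ∧
      s ≤ Fintype.card (Fin n) := ⟨r, s, hr, hs, hne, hrπ, hsπ, by simpa using hrn, by simpa using hsn⟩
  have hns : ∃ r : ℕ, r.Prime ∧ r ≤ Fintype.card (Fin n) ∧ r ∉ π := by simpa using hall
  exact ⟨⟨cPi_perm h2p hns, fun h => h.1⟩, ePi_alt_iff h2p hns, ⟨cPi_alt h2p hns, fun h => h.1⟩⟩

end Cfsg.Agent.S2535
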