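import Cfsg.Statements.S2536
import Mathlib
import Cfsg.Agent.Lib.Perm.Groups.HallSym.Shapes

set_option autoImplicit false
set_option linter.all false
open Cfsg CfsgLib.Perm.Groups.HallSym

namespace Cfsg.Agent.S2536

/-- Let `π` be a set of primes and `n` a natural number such that at least two primes of `π` divide `n!` but not every prime dividing `n!` lies in `π`. Then the symmetric group of degree `n` has a Hall `π`-subgroup if and only if either `n` is prime and the primes of `π` dividing `n!` are exactly the primes smaller than `n` (a point stabilizer is then such a subgroup), or `n ∈ {7, 8}` and the primes of `π` dividing `n!` are exactly 2 and 3. -/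
theorem result (n : ℕ) (π : Set ℕ)
    (h2 : ∃ r s : ℕ, r.Prime ∧ s.Prime ∧ r ≠ s ∧ r ∈ π ∧ s ∈ π ∧ r ≤ n ∧ s ≤ n)
    (hns : ∃ r : ℕ, r.Prime ∧ r ≤ n ∧ r ∉ π) :
    Cfsg.IsEPiGroup π (Equiv.Perm (Fin n)) ↔
      ((n.Prime ∧ ∀ r : ℕ, r.Prime → r ≤ n → (r ∈ π ↔ r < n)) ∨
       ((n = 7 ∨ n = 8) ∧ ∀ r : ℕ, r.Prime → r ≤ n → (r ∈ π ↔ (r = 2 ∨ r = 3)))) := by
  constructor
  · rintro ⟨H, hH⟩
    haveI : Nontrivial (Fin n) := by
      obtain ⟨r, s, hr, -, -, -, -, hrn, -⟩ := h2
      exact Fin.nontrivial_iff_two_le.2 (hr.two_le.trans hrn)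
    obtain ⟨p, c, ⟨hp, hp5, hpn, hc⟩, hπ, -⟩ := classify' (isNearHall_of_hall hH) (by simpa using h2) (by simpa using hns)
    rw [Fintype.card_fin] at hpn hc hπ
    rcases hc with ⟨rfl, -⟩ | ⟨rfl, rfl, -⟩ | ⟨rfl, rfl, -⟩
    · exact Or.inl ⟨hp, hπ⟩
    all_goals
      refine Or.inr ⟨by norm_num, fun r hr hrn => (hπ r hr hrn).trans ?_⟩
      constructor
      · intro h
        have := hr.two_le
        have : r ≠ 4 := fun e => by rw [e] at hr; norm_num at hr
        omega
      · omega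
  · have main : ∀ p c : ℕ, ShapeData n p c → (∀ q : ℕ, q.Prime → q ≤ n → (q ∈ π ↔ q < p)) →
        Cfsg.IsEPiGroup π (Equiv.Perm (Fin n)) := by
      intro p c hS hπ
      have hn5 : 5 ≤ n := hS.2.1.trans hS.2.2.1
      haveI : Nontrivial (Fin n) := Fin.nontrivial_iff_two_le.2 (by omega)
      obtain ⟨C, -, hC⟩ := Finset.exists_subset_card_eq (s := (Finset.univ : Finset (Fin n))) (n := c) (by
        have := hS.2.2.2
        rw [Finset.card_univ, Fintype.card_fin]; omega)
      exact ⟨_, (setStab_shape (by rwa [Fintype.card_fin]) (by simpa using hπ) hC).2.1⟩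
    rintro (⟨hp, hπ⟩ | ⟨h78, hπ⟩)
    · have hn5 : 5 ≤ n := by
        obtain ⟨r, s, hr, hs, hne, hrπ, hsπ, hrn, hsn⟩ := h2
        have h1 := (hπ r hr hrn).1 hrπ
        have h2 := (hπ s hs hsn).1 hsπ
        have h3 := hr.two_le
        have h4 := hs.two_le
        have : n ≠ 4 := fun e => by rw [e] at hp; norm_num at hp
        omega
      exact main n 1 ⟨hp, hn5, le_rfl, Or.inl ⟨rfl, rfl⟩⟩ hπ
    · have hπ' : ∀ q : ℕ, q.Prime → q ≤ n → (q ∈ π ↔ q < 5) := fun q hq hqn => (hπ q hq hqn).trans (by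
        have := hq.two_le
        have : q ≠ 4 := fun e => by rw [e] at hq; norm_num at hq
        omega)
      rcases h78 with rfl | rfl
      · exact main 5 3 ⟨Nat.prime_five, le_rfl, by norm_num, Or.inr (Or.inl ⟨rfl, rfl, rfl⟩)⟩ hπ'
      · exact main 5 4 ⟨Nat.prime_five, le_rfl, by norm_num, Or.inr (Or.inr ⟨rfl, rfl, rfl⟩)⟩ hπ'

end Cfsg.Agent.S2536
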