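import Cfsg.Statements.S2537
-- import your own Cfsg.Agent.* helpers here
import Mathlib
import Cfsg.Agent.Lib.Perm.Dickson.PGLMax
import Cfsg.Agent.Lib.Coprime.Hall

set_option autoImplicit false
set_option linter.all false
open Cfsg

namespace Cfsg.Agent.S2537

open CfsgLib.Perm.Dickson

/-- Let `F` be a finite field with `q` elements of characteristic `p ≥ 5`, and `ε = 1` if `q ≡ 1 (mod 4)`, `ε = -1` otherwise. Then `PSL(2, F)` has a Hall `{2, 3}`-subgroup if and only if `3` divides `q − ε`, or the `{2,3}`-part of `q² − 1` is 24, or the `{2,3}`-part of `q² − 1` is 48 (the `{2,3}`-part of `m` being the largest divisor of `m` with no prime factor other than 2 and 3). -/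
theorem result {F : Type*} [Field F] [Fintype F] {p : ℕ} [Fact p.Prime] [CharP F p]
    (hp : 5 ≤ p) (q : ℕ) (hq : Fintype.card F = q) :
    (∃ H : Subgroup (Matrix.ProjectiveSpecialLinearGroup (Fin 2) F), Cfsg.IsPiHall ({2, 3} : Set ℕ) H) ↔
      (3 ∣ q - 1 ∧ q % 4 = 1) ∨ (3 ∣ q + 1 ∧ q % 4 = 3) ∨
        2 ^ (q ^ 2 - 1).factorization 2 * 3 ^ (q ^ 2 - 1).factorization 3 = 24 ∨
        2 ^ (q ^ 2 - 1).factorization 2 * 3 ^ (q ^ 2 - 1).factorization 3 = 48 := by
  classical
  haveI := finite_G2 (F := F)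
  haveI : Finite (S2P F) := Finite.of_equiv _ (pslEquiv F).symm.toEquiv
  have hp' : p.Prime := Fact.out
  have hq' : Nat.card F = q := by rw [Nat.card_eq_fintype_card, hq]
  obtain ⟨n, hn, hpn⟩ := card_eq_pow (F := F) p
  rw [hq'] at hpn
  have hop : Odd p := hp'.odd_of_ne_two (by omega)
  have hodd : Odd q := hpn ▸ hop.pow
  have hd := gcd_odd (F := F) (hq'.symm ▸ hodd)
  have hc := card_psl F
  rw [hd, hq', ← card_S2P] at hc
  have hq3 : q % 3 ≠ 0 := fun e => by
    have h3 : 3 ∣ q := Nat.dvd_of_mod_eq_zero e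
    rw [hpn] at h3
    have := (Nat.prime_dvd_prime_iff_eq Nat.prime_three hp').1 (Nat.prime_three.dvd_of_dvd_pow h3)
    omega
  have hq5 : 5 ≤ q := hpn ▸ hp.trans (Nat.le_self_pow (by omega) p)
  obtain ⟨t, ht⟩ := id hodd
  set P := q ^ 2 - 1 with hP
  have hPeq : P = (q - 1) * (q + 1) := by
    rw [hP, mul_comm, pow_two, show q + 1 = q + 1 from rfl]
    simpa [one_mul] using (Nat.mul_self_sub_mul_self_eq q 1)
  set A := P.factorization 2 with hA
  set B := P.factorization 3 with hB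
  have hP0 : P ≠ 0 := by rw [hPeq]; exact (Nat.mul_pos (by omega) (by omega)).ne'
  have hA1 : 2 ^ A ∣ P := Nat.ordProj_dvd P 2
  have hA2 : ¬ 2 ^ (A + 1) ∣ P := Nat.pow_succ_factorization_not_dvd hP0 Nat.prime_two
  have hB1 : 3 ^ B ∣ P := Nat.ordProj_dvd P 3
  have hB2 : ¬ 3 ^ (B + 1) ∣ P := Nat.pow_succ_factorization_not_dvd hP0 Nat.prime_three
  have hB0 : 1 ≤ B := by
    by_contra h
    apply hB2
    rw [show B + 1 = 1 by omega, pow_one, hPeq]
    rcases (show q % 3 = 1 ∨ q % 3 = 2 by omega) with e | e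
    · exact Dvd.dvd.mul_right (by omega) _
    · exact Dvd.dvd.mul_left (by omega) _
  have hA0 : 3 ≤ A := by
    by_contra h
    apply hA2
    refine (Nat.pow_dvd_pow 2 (show A + 1 ≤ 3 by omega)).trans ?_
    rw [hPeq]
    rcases (show q % 4 = 1 ∨ q % 4 = 3 by omega) with e | e
    · exact Nat.mul_dvd_mul (a := 4) (b := q - 1) (c := 2) (d := q + 1) (by omega) (by omega)
    · exact Nat.mul_dvd_mul (a := 2) (b := q - 1) (c := 4) (d := q + 1) (by omega) (by omega)
  have hcop : (2 ^ A).Coprime (3 ^ B) := Nat.Coprime.pow _ _ (by norm_num)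
  set T := 2 ^ A * 3 ^ B with hT
  have hTP : T ∣ P := hcop.mul_dvd_of_dvd_of_dvd hA1 hB1
  obtain ⟨R, hR⟩ := hTP
  have hR2 : ¬ 2 ∣ R := fun ⟨r, hr⟩ => hA2 ⟨3 ^ B * r, by rw [hR, hr, hT, pow_succ]; ring⟩
  have hR3 : ¬ 3 ∣ R := fun ⟨r, hr⟩ => hB2 ⟨2 ^ A * r, by rw [hR, hr, hT, pow_succ]; ring⟩
  obtain ⟨h0, hh0⟩ : ∃ h0, T = 2 * h0 := ⟨2 ^ (A - 1) * 3 ^ B, by
    rw [hT, ← mul_assoc, ← pow_succ']; congr 2; omega⟩
  have hG : Nat.card (S2P F) = h0 * (q * R) := by
    have : 2 * Nat.card (S2P F) = 2 * (h0 * (q * R)) := by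
      rw [hc, ← hPeq, hR, hh0]; ring
    omega
  have hprimes : ∀ l : ℕ, l.Prime → l ∣ h0 → l ∈ ({2, 3} : Set ℕ) := by
    intro l hl hd'
    have : l ∣ T := hh0 ▸ hd'.mul_left 2
    rcases hl.dvd_mul.1 this with h | h
    · exact Or.inl ((Nat.prime_dvd_prime_iff_eq hl Nat.prime_two).1 (hl.dvd_of_dvd_pow h))
    · exact Or.inr ((Nat.prime_dvd_prime_iff_eq hl Nat.prime_three).1 (hl.dvd_of_dvd_pow h))
  have hidx : ∀ l : ℕ, l.Prime → l ∈ ({2, 3} : Set ℕ) → ¬ l ∣ q * R := by
    intro l hl hmem hd'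
    rcases hl.dvd_mul.1 hd' with h | h <;> rcases hmem with rfl | rfl
    · omega
    · omega
    · exact hR2 h
    · exact hR3 h
  have hhall : ∀ H : Subgroup (S2P F), Nat.card H = h0 → Cfsg.IsPiHall ({2, 3} : Set ℕ) H := by
    intro H hH
    have h0pos : 0 < h0 := hH ▸ Nat.card_pos
    refine ⟨fun l hl hd' => hprimes l hl (hH ▸ hd'), fun l hl hmem => ?_⟩
    have := H.card_mul_index
    rw [hH, hG] at this
    rw [Nat.eq_of_mul_eq_mul_left h0pos this]
    exact hidx l hl hmem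
  constructor
  · rintro ⟨H, hH1, hH2⟩
    have hcard : Nat.card H = h0 := by
      have hmul := H.card_mul_index
      rw [hG] at hmul
      have h1 : (Nat.card H).Coprime (q * R) := Nat.coprime_of_dvd fun l hl ha hb => hidx l hl (hH1 l hl ha) hb
      have h2 : h0.Coprime H.index := Nat.coprime_of_dvd fun l hl ha hb => hH2 l hl (hprimes l hl ha) hb
      exact Nat.dvd_antisymm (h1.dvd_of_dvd_mul_right ⟨H.index, hmul.symm⟩)
        (h2.dvd_of_dvd_mul_right ⟨q * R, hmul⟩)
    rw [← card_up] at hcard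
    have hnoT : ∀ u v : ℕ, u * v = P → 2 ∣ v → ¬ T ∣ u := fun u v huv hv hd' => hA2 (by
      rw [← huv, pow_succ]
      exact Nat.mul_dvd_mul ((Dvd.intro _ rfl : 2 ^ A ∣ T).trans hd') hv)
    have h2m : 2 ∣ q - 1 := by omega
    have h2p : 2 ∣ q + 1 := by omega
    rcases classify_finite p (up H) with ⟨x, hx⟩ | ⟨a, b, hg, h, -⟩ | ⟨a, b, hg, h, hn', -⟩ | ⟨hN, -, -, -⟩ |
      ⟨hN, -, -, -⟩ | ⟨hN, -, -, -⟩ | ⟨σ, F1, h3, h⟩
    · exfalso
      have h1 := card_bor_psl x
      rw [hd, hq'] at h1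
      have h2 : T ∣ q * (q - 1) := by
        rw [hh0, ← hcard, ← h1]
        exact Nat.mul_dvd_mul_left 2 (Subgroup.card_dvd_of_le (le_inf (le_bor hx) (up_le H)))
      refine hnoT (q - 1) (q + 1) hPeq.symm h2p ((Nat.Coprime.dvd_of_dvd_mul_left ?_) h2)
      refine Nat.Coprime.mul_left (Nat.Coprime.pow_left _ ?_) (Nat.Coprime.pow_left _ ?_)
      · exact (Nat.prime_two.coprime_iff_not_dvd).2 (by omega)
      · exact (Nat.prime_three.coprime_iff_not_dvd).2 (by omega)
    · exfalso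
      have h1 := card_pairFix_psl hg
      rw [hd] at h1
      have h2 : T ∣ Nat.card (pairFix a b) := by
        rw [hh0, ← hcard, ← h1]
        exact Nat.mul_dvd_mul_left 2 (Subgroup.card_dvd_of_le (le_inf h (up_le H)))
      rcases card_pairFix hg with ⟨-, e⟩ | ⟨-, e⟩ <;> rw [e, hq'] at h2
      · exact hnoT _ _ hPeq.symm h2p h2
      · exact hnoT _ _ (by rw [hPeq]; ring) h2m h2
    · obtain ⟨w, hwp, hws, hwn⟩ := exists_swap hg
      obtain ⟨hD, -⟩ := dihedral_of_le hg.1 (isCyclic_pairFix hg.1) (inf_le_left : pairSet a b ⊓ psl F ≤ pairSet a b)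
        (fun h => hwn (h ⟨hws, hwp⟩))
      rw [inf_right_comm, inf_eq_right.2 (pairFix_le_pairSet a b)] at hD
      have h1 := card_pairFix_psl hg
      rw [hd] at h1
      have h2 := Subgroup.card_dvd_of_le (le_inf h (up_le H) : up H ≤ pairSet a b ⊓ psl F)
      rw [hD, hcard, h1] at h2
      have h4 : 4 ∣ h0 := by
        have : 8 ∣ T := Dvd.dvd.mul_right ((by norm_num : (8 : ℕ) = 2 ^ 3) ▸ Nat.pow_dvd_pow 2 hA0) _
        omega
      have h3' : 3 ∣ h0 := (by norm_num : Nat.Coprime 3 2).dvd_of_dvd_mul_left (hh0 ▸ Dvd.dvd.mul_left (dvd_pow_self 3 (by omega)) _)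
      rcases card_pairFix hg with ⟨-, e⟩ | ⟨-, e⟩ <;> rw [e, hq'] at h2
      · have := h4.trans h2; have := h3'.trans h2
        left; omega
      · have := h4.trans h2; have := h3'.trans h2
        right; left; omega
    · right; right; left; omega
    · right; right; right; omega
    · exfalso
      have : 5 ∣ h0 := by omega
      rcases hprimes 5 (by norm_num) this with e | e <;> simp at e
    · exfalso
      have hps : p ∣ Nat.card (pslSub F1) := by
        obtain ⟨m, hm, hpow⟩ := exists_card_pow F1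
        have h1 : p ∣ Nat.card F1 := by
          refine hp'.dvd_of_dvd_pow (n := m) ?_
          rw [hpow, hq', hpn]
          exact dvd_pow_self p (by omega)
        have h2 : p ∣ Nat.gcd 2 (Nat.card F1 - 1) * Nat.card (pslSub F1) := by
          rw [card_pslSub, card_pglSub]; exact (h1.mul_right _).mul_right _
        refine (hp'.dvd_mul.1 h2).resolve_left fun e => ?_
        have := Nat.le_of_dvd (by norm_num) (e.trans (Nat.gcd_dvd_left _ _))
        omega
      have : p ∣ h0 := by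
        rw [← hcard, ← card_conjG (G := up H) σ]
        refine hps.trans (Subgroup.card_dvd_of_le ?_)
        rcases h with e | ⟨-, e⟩
        · rw [e]; exact pslSub_le_pglSub F1
        · exact e ▸ le_rfl
      rcases hprimes p hp' this with e | e
      · omega
      · rw [Set.mem_singleton_iff] at e; omega
  · have dih : ∀ {a b : P2 (Kc F)}, GoodPair a b → h0 ∣ Nat.card (pairFix a b) →
        (h0).Coprime (Nat.card (pairFix a b) / h0) → ∃ H : Subgroup (S2P F), Cfsg.IsPiHall ({2, 3} : Set ℕ) H := by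
      intro a b hg hdiv hco
      obtain ⟨w, hwp, hws, hwn⟩ := exists_swap hg
      obtain ⟨hD, -⟩ := dihedral_of_le hg.1 (isCyclic_pairFix hg.1) (inf_le_left : pairSet a b ⊓ psl F ≤ pairSet a b)
        (fun h => hwn (h ⟨hws, hwp⟩))
      rw [inf_right_comm, inf_eq_right.2 (pairFix_le_pairSet a b)] at hD
      have h1 := card_pairFix_psl hg
      rw [hd] at h1
      rw [h1] at hD
      haveI := solvable_of_pairSet hg.1 (inf_le_left : pairSet a b ⊓ psl F ≤ pairSet a b)
      obtain ⟨H0, hH0⟩ := CfsgLib.Coprime.exists_hall (G := (pairSet a b ⊓ psl F : Subgroup (G2 F)))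
        (m := h0) (n := Nat.card (pairFix a b) / h0) (by rw [hD, Nat.mul_div_cancel' hdiv]) hco
      set H1 := H0.map (pairSet a b ⊓ psl F).subtype with hH1
      have hle : H1 ≤ psl F := by rintro _ ⟨x, -, rfl⟩; exact x.2.2
      refine ⟨down H1, hhall _ ?_⟩
      rw [Nat.card_congr (downEquiv hle).toEquiv, hH1,
        ← Nat.card_congr (H0.equivMapOfInjective _ Subtype.val_injective).toEquiv, hH0]
    have h0pos : 0 < h0 := by have : 0 < T := Nat.mul_pos (pow_pos (by norm_num) _) (pow_pos (by norm_num) _); omega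
    have split : ∀ u v w : ℕ, u * v = P → v = 2 * w → ¬ 2 ∣ w → ¬ 3 ∣ w → h0 ∣ u ∧ h0.Coprime (u / h0) := by
      intro u v w huv hv hw2 hw3
      have e : u * w = h0 * R := by
        have : 2 * (u * w) = 2 * (h0 * R) := by rw [← mul_assoc 2 h0, ← hh0, ← hR, ← huv, hv]; ring
        omega
      have hcw : h0.Coprime w := Nat.coprime_of_dvd fun l hl ha hb => by
        rcases hprimes l hl ha with rfl | rfl
        · exact hw2 hb
        · exact hw3 hb
      obtain ⟨s, hs⟩ := hcw.dvd_of_dvd_mul_right (e ▸ dvd_mul_right h0 R : h0 ∣ u * w)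
      refine ⟨⟨s, hs⟩, ?_⟩
      rw [hs, Nat.mul_div_cancel_left _ h0pos]
      refine Nat.coprime_of_dvd fun l hl ha hb => hidx l hl (hprimes l hl ha) (Dvd.dvd.mul_left ?_ q)
      rw [hs, mul_assoc] at e
      rw [← Nat.eq_of_mul_eq_mul_left h0pos e]
      exact hb.mul_right w
    rintro (⟨h3, h4⟩ | ⟨h3, h4⟩ | h24 | h48)
    · obtain ⟨a, b, hg, hcf⟩ := exists_split (F := F)
      obtain ⟨h1, h2⟩ := split (q - 1) (q + 1) ((q + 1) / 2) hPeq.symm (by omega) (by omega) (by omega)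
      exact dih hg (by rw [hcf, hq']; exact h1) (by rw [hcf, hq']; exact h2)
    · obtain ⟨a, b, hg, hcf⟩ := exists_elliptic (F := F) p
      obtain ⟨h1, h2⟩ := split (q + 1) (q - 1) ((q - 1) / 2) (by rw [hPeq]; ring) (by omega) (by omega) (by omega)
      exact dih hg (by rw [hcf, hq']; exact h1) (by rw [hcf, hq']; exact h2)
    · obtain ⟨H, ⟨e⟩⟩ := exists_a4_odd (F := F) (hq'.symm ▸ hodd)
      refine ⟨H, hhall H ?_⟩
      rw [Nat.card_congr e.toEquiv, Nat.card_eq_fintype_card, show Fintype.card (alternatingGroup (Fin 4)) = 12 by decide +kernel]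
      omega
    · have h16 : 16 ∣ (q - 1) * (q + 1) := by
        rw [← hPeq, hR, show T = 48 from h48]; exact Dvd.dvd.mul_right (by norm_num) _
      have hsq : IsSquare (2 : F) := two_is_square_iff.2 (by
        rw [hq']
        constructor <;> intro e <;>
          rcases (show q % 16 = 3 ∨ q % 16 = 5 ∨ q % 16 = 11 ∨ q % 16 = 13 by omega) with r | r | r | r <;>
          rw [Nat.dvd_iff_mod_eq_zero, Nat.mul_mod,
            show (q - 1) % 16 = q % 16 - 1 by omega, show (q + 1) % 16 = q % 16 + 1 by omega, r] at h16 <;> omega)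
      obtain ⟨H, ⟨e⟩⟩ := exists_s4 (F := F) hsq (hq'.symm ▸ hodd)
      refine ⟨H, hhall H ?_⟩
      rw [Nat.card_congr e.toEquiv, Nat.card_eq_fintype_card, show Fintype.card (Equiv.Perm (Fin 4)) = 24 by decide +kernel]
      omega

end Cfsg.Agent.S2537
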