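import Cfsg.Statements.S2538
import Cfsg.Agent.S2535

set_option autoImplicit false
open Cfsg

namespace Cfsg.Agent.S2538

open Subgroup

theorem hall_subgroupOf {G : Type*} [Group G] [Finite G] {π : Set ℕ} (A : Subgroup G) [A.Normal]
    {H : Subgroup G} (hH : Cfsg.IsPiHall π H) : Cfsg.IsPiHall π (H.subgroupOf A) := by
  refine ⟨fun p hp hd => hH.1 p hp (hd.trans ?_), fun p hp hπ hd => hH.2 p hp hπ (hd.trans ?_)⟩
  · have e : Nat.card (H.subgroupOf A) = Nat.card ↥(H ⊓ A) := by
      rw [← Subgroup.card_map_of_injective A.subtype_injective, Subgroup.subgroupOf_map_subtype]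
    rw [e]
    exact Subgroup.card_dvd_of_le inf_le_left
  · show H.relIndex A ∣ H.index
    refine dvd_trans (dvd_of_eq ?_) (Subgroup.relIndex_dvd_index_of_le (le_sup_left : H ≤ H ⊔ A))
    have e1 : Nat.card H * H.relIndex (H ⊔ A) = Nat.card ↥(H ⊔ A) := by
      rw [← Subgroup.relIndex_bot_left, ← Subgroup.relIndex_bot_left,
        Subgroup.relIndex_mul_relIndex _ _ _ bot_le le_sup_left]
    have e2 : Nat.card A * A.relIndex H = Nat.card ↥(H ⊔ A) := by
      rw [← Subgroup.relIndex_sup_right, ← Subgroup.relIndex_bot_left, ← Subgroup.relIndex_bot_left,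
        Subgroup.relIndex_mul_relIndex _ _ _ bot_le le_sup_right]
    have e3 : Nat.card ↥(H ⊓ A) * H.relIndex A = Nat.card A := by
      rw [← Subgroup.inf_relIndex_right H A, ← Subgroup.relIndex_bot_left, ← Subgroup.relIndex_bot_left,
        Subgroup.relIndex_mul_relIndex _ _ _ bot_le inf_le_right]
    have e4 : Nat.card ↥(H ⊓ A) * A.relIndex H = Nat.card H := by
      rw [← Subgroup.inf_relIndex_left H A, ← Subgroup.relIndex_bot_left, ← Subgroup.relIndex_bot_left,
        Subgroup.relIndex_mul_relIndex _ _ _ bot_le inf_le_left]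
    refine Nat.eq_of_mul_eq_mul_left (Nat.card_pos (α := H)) ?_
    calc Nat.card H * H.relIndex A = Nat.card ↥(H ⊓ A) * H.relIndex A * A.relIndex H := by rw [← e4]; ring
      _ = Nat.card H * H.relIndex (H ⊔ A) := by rw [e3, e2, e1]

/-- For every `n` and every set of primes `π`, a subgroup of the alternating group of degree `n` is a Hall `π`-subgroup of it if and only if it is the intersection with the alternating group of some Hall `π`-subgroup of the symmetric group of degree `n`. -/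
theorem result (n : ℕ) (π : Set ℕ)
    (M : Subgroup ↥(alternatingGroup (Fin n))) :
    Cfsg.IsPiHall π M ↔ ∃ M₀ : Subgroup (Equiv.Perm (Fin n)), Cfsg.IsPiHall π M₀ ∧ M = M₀.subgroupOf (alternatingGroup (Fin n)) := by
  obtain ⟨-, hEA, hCA⟩ := Cfsg.Agent.S2535.result n π
  refine ⟨fun hM => ?_, ?_⟩
  · obtain ⟨-, hconj⟩ := hCA.1 ⟨M, hM⟩
    obtain ⟨M₁, hM₁⟩ := hEA.2 ⟨M, hM⟩
    obtain ⟨a, ha⟩ := hconj _ M (hall_subgroupOf _ hM₁) hM
    refine ⟨M₁.map (MulAut.conj (a : Equiv.Perm (Fin n))).toMonoidHom, ⟨fun p hp hd => ?_, fun p hp hπ hd => ?_⟩, ?_⟩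
    · rw [Subgroup.card_map_of_injective
        (f := (MulAut.conj (a : Equiv.Perm (Fin n))).toMonoidHom) (MulEquiv.injective _)] at hd
      exact hM₁.1 p hp hd
    · exact hM₁.2 p hp hπ (by rwa [← Subgroup.index_map_equiv M₁ (MulAut.conj (a : Equiv.Perm (Fin n)))])
    · rw [ha]
      ext x
      simp only [Subgroup.mem_map_equiv, Subgroup.mem_subgroupOf]
      rfl
  · rintro ⟨M₀, hM₀, rfl⟩
    exact hall_subgroupOf _ hM₀

end Cfsg.Agent.S2538
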