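import Cfsg.Statements.S2541
import Mathlib

set_option autoImplicit false
open Cfsg

namespace Cfsg.Agent.S2541

/-- Let F be a field with 9 elements. The symmetric group S_6 is not isomorphic to PGL_2(F) (although both have index-2 subgroups isomorphic to A_6). -/
theorem result {F : Type*} [Field F] [Fintype F] (hF : Fintype.card F = 9) : ¬ Nonempty (Equiv.Perm (Fin 6) ≃* Matrix.ProjGenLinGroup (Fin 2) F) := by
  classical
  rintro ⟨e⟩
  haveI : Fact (Nat.Prime 3) := ⟨by norm_num⟩
  obtain ⟨u, hu⟩ := IsCyclic.exists_ofOrder_eq_natCard (α := Fˣ)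
  rw [Nat.card_units, Nat.card_eq_fintype_card, hF] at hu
  have hdet : (Matrix.diagonal ![(u : F), 1]).det ≠ 0 := by simp [Fin.prod_univ_two]
  let g : GL (Fin 2) F := Matrix.GeneralLinearGroup.mkOfDetNeZero _ hdet
  let x : Matrix.ProjGenLinGroup (Fin 2) F := QuotientGroup.mk g
  let σ := e.symm x
  have hx : ∀ k : ℕ, x ^ k = 1 ↔ u ^ k = 1 := by
    intro k
    simp only [x]
    erw [← QuotientGroup.mk_pow, QuotientGroup.eq_one_iff]
    rw [Matrix.GeneralLinearGroup.mem_center_iff_val_mem_range_scalar]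
    constructor
    · rintro ⟨c, hc⟩
      rw [Units.val_pow_eq_pow_val] at hc
      change _ = (Matrix.diagonal ![(u : F), 1]) ^ k at hc
      rw [Matrix.diagonal_pow, Matrix.scalar_apply, Matrix.diagonal_eq_diagonal_iff] at hc
      have h0 := hc 0
      have h1 := hc 1
      simp at h0 h1
      exact Units.ext (by rw [Units.val_pow_eq_pow_val, ← h0, h1, Units.val_one])
    · intro hk
      refine ⟨1, ?_⟩
      rw [Units.val_pow_eq_pow_val]
      change _ = (Matrix.diagonal ![(u : F), 1]) ^ k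
      rw [Matrix.diagonal_pow, map_one, eq_comm, ← Matrix.diagonal_one,
        Matrix.diagonal_eq_diagonal_iff]
      intro i
      fin_cases i
      · simp [← Units.val_pow_eq_pow_val, hk]
      · simp
  have hσ : ∀ k : ℕ, σ ^ k = 1 ↔ u ^ k = 1 := by
    intro k
    rw [← hx, ← map_pow, MulEquiv.map_eq_one_iff]
  have ho : orderOf σ = 8 := by
    rw [← show orderOf u = 8 from hu]
    exact Nat.dvd_antisymm (orderOf_dvd_of_pow_eq_one ((hσ _).2 (pow_orderOf_eq_one u)))
      (orderOf_dvd_of_pow_eq_one ((hσ _).1 (pow_orderOf_eq_one σ)))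
  have h4 : σ ^ 4 ≠ 1 := fun h => by
    have := orderOf_dvd_of_pow_eq_one h
    rw [ho] at this
    omega
  apply h4
  rw [← orderOf_dvd_iff_pow_eq_one, ← Equiv.Perm.lcm_cycleType, Multiset.lcm_dvd]
  intro a ha
  have h2 : a ∣ 2 ^ 3 := by
    have := Equiv.Perm.dvd_of_mem_cycleType ha
    rw [ho] at this
    exact this
  have h6 : a ≤ 6 := (Equiv.Perm.le_card_support_of_mem_cycleType ha).trans
    ((Finset.card_le_univ _).trans (by simp))
  obtain ⟨j, hj, rfl⟩ := (Nat.dvd_prime_pow Nat.prime_two).1 h2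
  interval_cases j <;> simp_all

end Cfsg.Agent.S2541
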