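import Cfsg.Statements.S2542
-- import your own Cfsg.Agent.* helpers here
import Mathlib
import Cfsg.Agent.Lib.Perm.Dickson.Eleven

set_option autoImplicit false
set_option linter.all false
open Cfsg

namespace Cfsg.Agent.S2542

open CfsgLib.Perm.Dickson

/-- Let F be a field with 11 elements. PSL_2(F) has a subgroup H of index 11 isomorphic to the alternating group A_5, and the action of PSL_2(F) on the cosets of H is 2-transitive (of degree 11). -/
theorem result {F : Type*} [Field F] [Fintype F] (hF : Fintype.card F = 11) : ∃ H : Subgroup (Matrix.ProjectiveSpecialLinearGroup (Fin 2) F), H.index = 11 ∧ Nonempty (H ≃* alternatingGroup (Fin 5)) ∧ MulAction.IsMultiplyPretransitive (Matrix.ProjectiveSpecialLinearGroup (Fin 2) F) ((Matrix.ProjectiveSpecialLinearGroup (Fin 2) F) ⧸ H) 2 := by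
  classical
  haveI := finite_G2 (F := F)
  haveI : Finite (S2P F) := Finite.of_equiv _ (pslEquiv F).symm.toEquiv
  have hF' : Nat.card F = 11 := by rw [Nat.card_eq_fintype_card, hF]
  haveI := char_of_eleven hF'
  haveI : Fact (Nat.Prime 11) := ⟨by norm_num⟩
  have hG : Nat.card (S2P F) = 660 := by rw [card_S2P, card_psl_eleven hF']
  have ho : Odd (Nat.card F) := by rw [hF']; decide
  obtain ⟨τ, hτ⟩ := exists_tau_of_dvd (F := F) 11 (by rw [card_psl_eleven hF']; norm_num)
  obtain ⟨Q⟩ := exists_qpar (two_ne_zero_of_odd ho)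
  obtain ⟨f⟩ := Q.icosa_a5 hτ
  set H := down (Q.icosa hτ) with hHdef
  have e : H ≃* alternatingGroup (Fin 5) := (downEquiv (Q.icosa_le_psl hτ)).trans f
  have hH : Nat.card H = 60 := by rw [Nat.card_congr e.toEquiv, Nat.card_eq_fintype_card]; rfl
  have hidx : H.index = 11 := by
    have := H.card_mul_index
    rw [hH, hG] at this
    omega
  refine ⟨H, hidx, ⟨e⟩, ?_⟩
  rw [MulAction.is_two_pretransitive_iff]
  have htrans : ∀ a : S2P F ⧸ H, ∃ g : S2P F, g • a = ((1 : S2P F) : S2P F ⧸ H) := by
    intro a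
    induction a using QuotientGroup.induction_on with
    | H g => exact ⟨g⁻¹, by rw [MulAction.Quotient.smul_coe, smul_eq_mul, inv_mul_cancel]⟩
  -- the stabiliser is transitive on the other cosets
  have key : ∀ g k : S2P F, g ∉ H → k ∉ H → ∃ h ∈ H, ((h * g : S2P F) : S2P F ⧸ H) = k := by
    intro g k hg hk
    set K := H ⊓ H.map (MulAut.conj g).toMonoidHom with hK
    obtain ⟨h5, h4⟩ := a5_inter_eleven hF' H e hg
    rw [← hK] at h5 h4
    set φ : H ⧸ K.subgroupOf H → {x : S2P F ⧸ H // x ≠ ((1 : S2P F) : S2P F ⧸ H)} :=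
      Quotient.lift (fun h : H => (⟨((h.1 * g : S2P F) : S2P F ⧸ H), fun e => hg (by
        have e1 := QuotientGroup.eq.1 e
        simpa using mul_mem (inv_mem h.2) (show h.1 * g ∈ H by simpa using inv_mem e1))⟩ :
        {x : S2P F ⧸ H // x ≠ ((1 : S2P F) : S2P F ⧸ H)})) (fun a b hab => by
          obtain ⟨-, y, hy, hyab⟩ := (QuotientGroup.leftRel_apply.1 hab : a⁻¹ * b ∈ K.subgroupOf H)
          apply Subtype.ext
          refine QuotientGroup.eq.2 ?_
          simp only [MulEquiv.coe_toMonoidHom, MulAut.conj_apply, Subgroup.coe_subtype, Subgroup.coe_mul, Subgroup.coe_inv] at hyab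
          have : (a.1 * g)⁻¹ * (b.1 * g) = y := by
            calc (a.1 * g)⁻¹ * (b.1 * g) = g⁻¹ * (a.1⁻¹ * b.1) * g := by group
              _ = y := by rw [← hyab]; group
          rw [this]; exact hy) with hφ
    have hinj : Function.Injective φ := by
      intro x y
      induction x using QuotientGroup.induction_on with | H a => ?_
      induction y using QuotientGroup.induction_on with | H b => ?_
      intro hab
      have h1 := QuotientGroup.eq.1 (congrArg Subtype.val hab)
      refine QuotientGroup.eq.2 ⟨(mul_mem (inv_mem a.2) b.2 : a.1⁻¹ * b.1 ∈ H), (a.1 * g)⁻¹ * (b.1 * g), h1, ?_⟩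
      simp only [MulEquiv.coe_toMonoidHom, MulAut.conj_apply, Subgroup.coe_subtype, Subgroup.coe_mul, Subgroup.coe_inv]
      group
    have hcard : Nat.card {x : S2P F ⧸ H // x ≠ ((1 : S2P F) : S2P F ⧸ H)} = 10 := by
      haveI := Fintype.ofFinite (S2P F ⧸ H)
      rw [Nat.card_eq_fintype_card, Fintype.card_subtype_compl, Fintype.card_subtype_eq, ← Nat.card_eq_fintype_card,
        ← Subgroup.index_eq_card, hidx]
    have hle := Nat.card_le_card_of_injective φ hinj
    rw [hcard, ← Subgroup.index_eq_card] at hle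
    have hmul := (K.subgroupOf H).card_mul_index
    rw [Nat.card_congr (Subgroup.subgroupOfEquivOfLe (inf_le_left : K ≤ H)).toEquiv, hH] at hmul
    have hK6 : Nat.card K ≤ 6 := by
      have hd : Nat.card K ∈ Nat.divisors 60 := Nat.mem_divisors.2 ⟨⟨_, hmul.symm⟩, by norm_num⟩
      rw [show Nat.divisors 60 = {1, 2, 3, 4, 5, 6, 10, 12, 15, 20, 30, 60} by decide +kernel] at hd
      simp only [Finset.mem_insert, Finset.mem_singleton] at hd
      omega
    have hbij : Function.Bijective φ := by
      refine (Nat.bijective_iff_injective_and_card φ).2 ⟨hinj, ?_⟩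
      rw [hcard, ← Subgroup.index_eq_card]
      by_contra hne
      have h9 : Nat.card K * (K.subgroupOf H).index ≤ 6 * 9 := Nat.mul_le_mul hK6 (by omega)
      exact absurd (hmul.symm.le.trans h9) (by norm_num)
    obtain ⟨x, hx⟩ := hbij.2 ⟨(k : S2P F ⧸ H), fun e => hk (by simpa using inv_mem (QuotientGroup.eq.1 e))⟩
    induction x using QuotientGroup.induction_on with
    | H a => exact ⟨a.1, a.2, congrArg Subtype.val hx⟩
  intro a b c d hab hcd
  obtain ⟨g1, hg1⟩ := htrans a
  obtain ⟨g2, hg2⟩ := htrans c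
  obtain ⟨kb, hkb⟩ := QuotientGroup.mk_surjective (g1 • b)
  obtain ⟨kd, hkd⟩ := QuotientGroup.mk_surjective (g2 • d)
  have h1 : kb ∉ H := fun hm => hab (MulAction.injective g1 (hg1.trans ((QuotientGroup.eq.2 (by simpa using hm) : ((1 : S2P F) : S2P F ⧸ H) = kb).trans hkb)))
  have h2 : kd ∉ H := fun hm => hcd (MulAction.injective g2 (hg2.trans ((QuotientGroup.eq.2 (by simpa using hm) : ((1 : S2P F) : S2P F ⧸ H) = kd).trans hkd)))
  obtain ⟨h, hh, hk⟩ := key kb kd h1 h2
  refine ⟨g2⁻¹ * h * g1, ?_, ?_⟩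
  · rw [mul_smul, mul_smul, hg1, inv_smul_eq_iff, hg2, MulAction.Quotient.smul_coe, smul_eq_mul, mul_one]
    exact QuotientGroup.eq.2 (by simpa using inv_mem hh)
  · rw [mul_smul, mul_smul, ← hkb, inv_smul_eq_iff, ← hkd, MulAction.Quotient.smul_coe, smul_eq_mul, hk]

end Cfsg.Agent.S2542
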