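import Cfsg.Statements.S2543
-- import your own Cfsg.Agent.* helpers here
import Mathlib
import Cfsg.Agent.Lib.Perm.Dickson.IcosaFrame

set_option autoImplicit false
set_option linter.all false
open scoped Pointwise
open Cfsg

namespace Cfsg.Agent.S2543

open CfsgLib.Perm.Dickson Pointwise

/-- Let F be a field with 11 elements. PSL_2(F) has exactly 22 subgroups isomorphic to the alternating group A_5, and they form two conjugacy classes: there are two such subgroups that are not conjugate, and every such subgroup is conjugate to one of these two. -/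
theorem result {F : Type*} [Field F] [Fintype F] (hF : Fintype.card F = 11) : Nat.card {H : Subgroup (Matrix.ProjectiveSpecialLinearGroup (Fin 2) F) // Nonempty (H ≃* alternatingGroup (Fin 5))} = 22 ∧ ∃ H K : Subgroup (Matrix.ProjectiveSpecialLinearGroup (Fin 2) F), Nonempty (H ≃* alternatingGroup (Fin 5)) ∧ Nonempty (K ≃* alternatingGroup (Fin 5)) ∧ (∀ g : Matrix.ProjectiveSpecialLinearGroup (Fin 2) F, MulAut.conj g • H ≠ K) ∧ ∀ L : Subgroup (Matrix.ProjectiveSpecialLinearGroup (Fin 2) F), Nonempty (L ≃* alternatingGroup (Fin 5)) → ∃ g : Matrix.ProjectiveSpecialLinearGroup (Fin 2) F, MulAut.conj g • L = H ∨ MulAut.conj g • L = K := by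
  classical
  haveI := finite_G2 (F := F)
  haveI : Finite (S2P F) := Finite.of_equiv _ (pslEquiv F).symm.toEquiv
  have hF' : Nat.card F = 11 := by rw [Nat.card_eq_fintype_card, hF]
  haveI := char_of_eleven hF'
  haveI : Fact (Nat.Prime 11) := ⟨by norm_num⟩
  have hG : Nat.card (S2P F) = 660 := by rw [card_S2P, card_psl_eleven hF']
  have ho : Odd (Nat.card F) := by rw [hF']; decide
  have h2 := two_ne_zero_of_odd ho
  have h35 : ∀ k : ℕ, 0 < k → k < 11 → (k : F) ≠ 0 := fun k h1 h2 e => by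
    have := Nat.le_of_dvd h1 ((CharP.cast_eq_zero_iff F 11 k).1 e)
    omega
  have h3 : (3 : F) ≠ 0 := by exact_mod_cast h35 3 (by norm_num) (by norm_num)
  have h5 : (5 : F) ≠ 0 := by exact_mod_cast h35 5 (by norm_num) (by norm_num)
  have hns : ¬ IsSquare (2 : F) := by rw [two_is_square_iff, hF']; decide
  obtain ⟨τ, hτ⟩ := exists_tau_of_dvd (F := F) 11 (by rw [card_psl_eleven hF']; norm_num)
  obtain ⟨Q⟩ := exists_qpar h2
  have hW : QPar.gW Q.two ∉ psl F := fun h => hns ((QPar.gW_mem_iff Q.two).1 h)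
  -- every A₅ can be moved inside PSL to one over the four group
  have toV : ∀ L : Subgroup (G2 F), L ≤ psl F → (L ≃* alternatingGroup (Fin 5)) →
      ∃ σ ∈ psl F, Q.V ≤ conjG σ L := by
    intro L hL e
    obtain ⟨u, v, s, hu, hv, huv, hu2, hv2, hcomm, -⟩ := a5_two
    set j : alternatingGroup (Fin 5) →* G2 F := L.subtype.comp e.symm.toMonoidHom with hj
    have jinj : Function.Injective j := Subtype.val_injective.comp e.symm.injective
    have jL : ∀ x, j x ∈ L := fun x => (e.symm x).2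
    obtain ⟨σ, s1, s2⟩ := Q.pair_normal (g := j u) (h := j v) (hL (jL u)) (hL (jL v))
      (fun h => hu (jinj (by rw [h, map_one]))) (fun h => hv (jinj (by rw [h, map_one]))) (fun h => huv (jinj h))
      (by rw [← map_mul, hu2, map_one]) (by rw [← map_mul, hv2, map_one]) (by rw [← map_mul, hcomm, map_mul])
    have hVσ : Q.V ≤ conjG σ L := by
      have hI : QPar.gI ∈ conjG σ L := ⟨j u, jL u, s1⟩
      have hJ : Q.gJ ∈ conjG σ L := ⟨j v, jL v, s2⟩
      rintro x (rfl | rfl | rfl | rfl)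
      exacts [one_mem _, hI, hJ, Q.IJ ▸ mul_mem hI hJ]
    by_cases hσ : σ ∈ psl F
    · exact ⟨σ, hσ, hVσ⟩
    refine ⟨QPar.gW Q.two * σ, (mul_mem_psl_iff ho).2 ⟨fun h => absurd h hW, fun h => absurd h hσ⟩, ?_⟩
    rw [conjG_mul]
    refine le_trans (le_of_eq ?_) (Subgroup.map_mono hVσ)
    exact (conjG_fix_iff.2 Q.gW_mem_N).symm
  have econj : ∀ (σ : G2 F) (L : Subgroup (G2 F)), (L ≃* alternatingGroup (Fin 5)) →
      Nonempty (conjG σ L ≃* alternatingGroup (Fin 5)) := fun σ L e => ⟨(conjEquiv σ L).symm.trans e⟩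
  have eclo : ∀ {M : Subgroup (G2 F)} {B : GL (Fin 2) F}, Q.V ≤ M → Matrix.ProjGenLinGroup.mk B ∈ M →
      M ≤ Subgroup.closure {QPar.gI, Q.gJ, Matrix.ProjGenLinGroup.mk B} →
      M = Subgroup.closure {QPar.gI, Q.gJ, Matrix.ProjGenLinGroup.mk B} := by
    intro M B hV hm hc
    refine le_antisymm hc ((Subgroup.closure_le _).2 ?_)
    rintro x (rfl | rfl | rfl)
    exacts [hV (Or.inr (Or.inl rfl)), hV (Or.inr (Or.inr (Or.inl rfl))), hm]
  -- the two standard ones
  obtain ⟨f0⟩ := Q.icosa_a5 hτ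
  obtain ⟨σ0, hσ0, hV0⟩ := toV _ (Q.icosa_le_psl hτ) f0
  set H0 := conjG σ0 (Q.icosa hτ) with hH0
  have hH0p : H0 ≤ psl F := (Subgroup.map_mono (Q.icosa_le_psl hτ)).trans (conjG_psl σ0).le
  obtain ⟨e0⟩ := econj σ0 _ f0
  set K0 := conjG (QPar.gW Q.two) H0 with hK0
  have hK0p : K0 ≤ psl F := (Subgroup.map_mono hH0p).trans (conjG_psl _).le
  obtain ⟨eK⟩ := econj (QPar.gW Q.two) _ e0
  have hVK : Q.V ≤ K0 := by
    refine le_trans (le_of_eq ?_) (Subgroup.map_mono hV0)
    exact (conjG_fix_iff.2 Q.gW_mem_N).symm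
  -- the frames inside
  obtain ⟨B, hBm, hBc, hB⟩ := Q.exists_frame e0 hV0 hτ
  obtain ⟨B', hB'f, hB'e⟩ : ∃ B' : GL (Fin 2) F, (Q.Frame B τ (τ - 1) → Q.Frame B' (-(τ - 1)) τ) ∧
      Matrix.ProjGenLinGroup.mk B' = QPar.gW Q.two * Matrix.ProjGenLinGroup.mk B * (QPar.gW Q.two)⁻¹ ∧
      (Q.Frame B (τ - 1) τ → Q.Frame B' (-τ) (τ - 1)) := by
    rcases hB with h | h
    · obtain ⟨B', f, e⟩ := h.conj_W
      exact ⟨B', fun _ => f, e, fun h' => absurd (Q.not_both_frames h3 h5 e0 hτ h h' hBm hBm) not_false⟩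
    · obtain ⟨B', f, e⟩ := h.conj_W
      exact ⟨B', fun h' => absurd (Q.not_both_frames h3 h5 e0 hτ h' h hBm hBm) not_false, e, fun _ => f⟩
  obtain ⟨hB'e, hB'g⟩ := hB'e
  have hB'K : Matrix.ProjGenLinGroup.mk B' ∈ K0 := ⟨_, hBm, hB'e.symm⟩
  have hK2 : ∃ B2 : GL (Fin 2) F, Matrix.ProjGenLinGroup.mk B2 ∈ K0 ∧
      ((Q.Frame B τ (τ - 1) → Q.Frame B2 (τ - 1) τ) ∧ (Q.Frame B (τ - 1) τ → Q.Frame B2 τ (τ - 1))) := by
    rcases hB with h | h
    · obtain ⟨B2, f2, e2⟩ := (hB'f h).conj_K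
      rw [neg_neg] at f2
      refine ⟨B2, e2 ▸ mul_mem (mul_mem (hVK (Or.inr (Or.inr (Or.inr rfl)))) hB'K) (inv_mem (hVK (Or.inr (Or.inr (Or.inr rfl))))),
        fun _ => f2, fun h' => absurd (Q.not_both_frames h3 h5 e0 hτ h h' hBm hBm) not_false⟩
    · obtain ⟨B2, f2, e2⟩ := (hB'g h).conj_K
      rw [neg_neg] at f2
      refine ⟨B2, e2 ▸ mul_mem (mul_mem (hVK (Or.inr (Or.inr (Or.inr rfl)))) hB'K) (inv_mem (hVK (Or.inr (Or.inr (Or.inr rfl))))),
        fun h' => absurd (Q.not_both_frames h3 h5 e0 hτ h' h hBm hBm) not_false, fun _ => f2⟩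
  obtain ⟨B2, hB2m, hB2a, hB2b⟩ := hK2
  have hne0 : H0 ≠ K0 := fun e => by
    rcases hB with h | h
    · exact Q.not_both_frames h3 h5 e0 hτ h (hB2a h) hBm (le_of_eq e.symm hB2m)
    · exact Q.not_both_frames h3 h5 e0 hτ (hB2b h) h (le_of_eq e.symm hB2m) hBm
  -- only these two contain the four group
  have only : ∀ M : Subgroup (G2 F), (M ≃* alternatingGroup (Fin 5)) → Q.V ≤ M → M = H0 ∨ M = K0 := by
    intro M eM hV
    obtain ⟨C, hCm, hCc, hC⟩ := Q.exists_frame eM hV hτ
    obtain ⟨C2, hC2m, hC2c, hC2⟩ := Q.exists_frame eK hVK hτ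
    rcases hC with h | h
    · rcases hB with hb | hb
      · left
        rw [eclo hV hCm hCc, eclo hV0 hBm hBc, h.unique hb]
      · right
        rcases hC2 with hc | hc
        · rw [eclo hV hCm hCc, eclo hVK hC2m hC2c, h.unique hc]
        · exact (Q.not_both_frames h3 h5 eK hτ (hB2b hb) hc hB2m hC2m).elim
    · rcases hB with hb | hb
      · right
        rcases hC2 with hc | hc
        · exact (Q.not_both_frames h3 h5 eK hτ hc (hB2a hb) hC2m hB2m).elim
        · rw [eclo hV hCm hCc, eclo hVK hC2m hC2c, h.unique hc]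
      · left
        rw [eclo hV hCm hCc, eclo hV0 hBm hBc, h.unique hb]
  -- conjugators inside PSL
  have fuse : ∀ (A A' : Subgroup (G2 F)) (g : G2 F), A ≤ psl F → (A ≃* alternatingGroup (Fin 5)) → Q.V ≤ A →
      g ∈ psl F → conjG g A = A' → Q.V ≤ A' → g ∈ A' := by
    intro A A' g hA eA hVA hg hgA hVA'
    obtain ⟨eA'⟩ := econj g A eA
    rw [hgA] at eA'
    have hA' : A' ≤ psl F := hgA ▸ (Subgroup.map_mono hA).trans (conjG_psl g).le
    have hA60 : Nat.card A' = 60 := by rw [Nat.card_congr eA'.toEquiv, Nat.card_eq_fintype_card]; rfl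
    haveI : Fact (Nat.Prime 2) := ⟨Nat.prime_two⟩
    set W := (conjG g Q.V).subgroupOf A' with hWdef
    have hVg : conjG g Q.V ≤ A' := hgA ▸ Subgroup.map_mono hVA
    have hsyl : ∀ T : Subgroup (G2 F), T ≤ A' → Nat.card T = 4 →
        IsPGroup 2 (T.subgroupOf A') ∧ ¬ 2 ∣ (T.subgroupOf A').index := fun T hT hTc => by
      have hc' : Nat.card (T.subgroupOf A') = 4 := by rw [Nat.card_congr (Subgroup.subgroupOfEquivOfLe hT).toEquiv, hTc]
      refine ⟨IsPGroup.of_card (n := 2) (by rw [hc']; norm_num), ?_⟩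
      have := (T.subgroupOf A').card_mul_index
      rw [hc', hA60] at this
      omega
    obtain ⟨⟨k, hk⟩, e⟩ := MulAction.exists_smul_eq A' ((hsyl _ hVA' Q.card_V).1.toSylow (hsyl _ hVA' Q.card_V).2)
      ((hsyl _ hVg (by rw [card_conjG, Q.card_V])).1.toSylow (hsyl _ hVg (by rw [card_conjG, Q.card_V])).2)
    have e' : (Q.V.subgroupOf A').map (MulAut.conj (⟨k, hk⟩ : A')).toMonoidHom = W := by
      have := congrArg (fun R : Sylow 2 A' => (R : Subgroup A')) e
      simp only [Sylow.coe_subgroup_smul] at this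
      exact this
    have e2 : conjG k Q.V = conjG g Q.V := by
      have e2 := congrArg (fun T : Subgroup A' => T.map A'.subtype) e'
      simp only [hWdef, Subgroup.map_map, Subgroup.subgroupOf_map_subtype, inf_eq_left.2 hVg] at e2
      rw [← e2]
      have e3 : A'.subtype.comp (MulAut.conj (⟨k, hk⟩ : A')).toMonoidHom = (MulAut.conj k).toMonoidHom.comp A'.subtype := by
        ext x; simp
      rw [e3, ← Subgroup.map_map, Subgroup.subgroupOf_map_subtype, inf_eq_left.2 hVA']
      rfl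
    have hn : k⁻¹ * g ∈ Q.N ⊓ psl F := by
      refine ⟨?_, (mul_mem (inv_mem (hA' hk)) hg : k⁻¹ * g ∈ psl F)⟩
      show k⁻¹ * g ∈ Subgroup.normalizer (Q.V : Set (G2 F))
      rw [← conjG_fix_iff, conjG_mul, ← e2, ← conjG_mul, inv_mul_cancel, conjG_one]
    simpa using mul_mem hk (Q.N_le_of_a5 hns hA' eA' hVA' hn)
  -- translate
  have upc : ∀ (g : S2P F) (L : Subgroup (S2P F)), up (MulAut.conj g • L) = conjG (incl g) (up L) := by
    intro g L
    show Subgroup.map incl (L.map (MulAut.conj g).toMonoidHom) =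
      Subgroup.map (MulAut.conj (incl g)).toMonoidHom (Subgroup.map incl L)
    rw [Subgroup.map_map, Subgroup.map_map]
    congr 1
    ext x
    simp
  set H := down H0 with hH
  set K := down K0 with hK
  have upH : up H = H0 := up_down hH0p
  have upK : up K = K0 := up_down hK0p
  have eH : H ≃* alternatingGroup (Fin 5) := (downEquiv hH0p).trans e0
  have eK' : K ≃* alternatingGroup (Fin 5) := (downEquiv hK0p).trans eK
  have notconj : ∀ g : S2P F, MulAut.conj g • H ≠ K := fun g h => hne0 (by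
    have h' : conjG (incl g) H0 = K0 := by rw [← upH, ← upc, h, upK]
    have hg : incl g ∈ K0 := fuse H0 K0 _ hH0p e0 hV0 (incl_mem g) h' hVK
    rw [← conjG_one H0, ← inv_mul_cancel (incl g), conjG_mul, h']
    exact conjG_fix_iff.2 (Subgroup.le_normalizer (inv_mem hg)))
  have classes : ∀ L : Subgroup (S2P F), Nonempty (L ≃* alternatingGroup (Fin 5)) →
      ∃ g : S2P F, MulAut.conj g • L = H ∨ MulAut.conj g • L = K := by
    rintro L ⟨eL⟩
    obtain ⟨σ, hσ, hV⟩ := toV (up L) (up_le L) ((upEquiv L).symm.trans eL)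
    obtain ⟨g, rfl⟩ : ∃ g, incl g = σ := by rw [← incl_range] at hσ; exact hσ
    obtain ⟨eσ⟩ := econj (incl g) _ ((upEquiv L).symm.trans eL)
    refine ⟨g, ?_⟩
    rcases only _ eσ hV with h | h
    · exact Or.inl (up_injective (by rw [upc, h, upH]))
    · exact Or.inr (up_injective (by rw [upc, h, upK]))
  refine ⟨?_, H, K, ⟨eH⟩, ⟨eK'⟩, notconj, classes⟩
  have self : ∀ (A : Subgroup (S2P F)) (eA : A ≃* alternatingGroup (Fin 5)), Q.V ≤ up A → ∀ g : S2P F,
      MulAut.conj g • A = A → g ∈ A := by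
    intro A eA hV g h
    exact mem_up.1 (fuse _ _ _ (up_le A) ((upEquiv A).symm.trans eA) hV (incl_mem g) (by rw [← upc, h]) hV)
  have isA5 : ∀ (g : S2P F) (A : Subgroup (S2P F)), (A ≃* alternatingGroup (Fin 5)) →
      Nonempty ((MulAut.conj g • A : Subgroup (S2P F)) ≃* alternatingGroup (Fin 5)) := fun g A eA =>
    ⟨(Subgroup.equivSMul (MulAut.conj g) A).symm.trans eA⟩
  have wd : ∀ (A : Subgroup (S2P F)) (a b : S2P F), a⁻¹ * b ∈ A → MulAut.conj a • A = MulAut.conj b • A := by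
    intro A a b h
    conv_rhs => rw [show b = a * (a⁻¹ * b) by group, map_mul, mul_smul,
      Subgroup.conj_smul_eq_self_of_mem h]
  let φ : (S2P F ⧸ H) ⊕ (S2P F ⧸ K) → {L : Subgroup (S2P F) // Nonempty (L ≃* alternatingGroup (Fin 5))} :=
    Sum.elim
      (Quotient.lift (fun g => (⟨MulAut.conj g • H, isA5 g H eH⟩ : {L : Subgroup (S2P F) // Nonempty (L ≃* alternatingGroup (Fin 5))}))
        (fun a b h => Subtype.ext (wd H a b (QuotientGroup.leftRel_apply.1 h))))
      (Quotient.lift (fun g => (⟨MulAut.conj g • K, isA5 g K eK'⟩ : {L : Subgroup (S2P F) // Nonempty (L ≃* alternatingGroup (Fin 5))}))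
        (fun a b h => Subtype.ext (wd K a b (QuotientGroup.leftRel_apply.1 h))))
  have hbij : Function.Bijective φ := by
    constructor
    · intro x y hxy
      rcases x with x | x <;> rcases y with y | y <;>
        induction x using QuotientGroup.induction_on <;> induction y using QuotientGroup.induction_on <;>
        rename_i a b <;> have h := congrArg Subtype.val hxy
      · refine congrArg Sum.inl (QuotientGroup.eq.2 (self H eH (upH ▸ hV0) _ ?_))
        rw [map_mul, mul_smul, map_inv, inv_smul_eq_iff]; exact h.symm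
      · exact absurd (show MulAut.conj (b⁻¹ * a) • H = K by rw [map_mul, mul_smul, map_inv, inv_smul_eq_iff]; exact h) (notconj _)
      · exact absurd (show MulAut.conj (a⁻¹ * b) • H = K by rw [map_mul, mul_smul, map_inv, inv_smul_eq_iff]; exact h.symm) (notconj _)
      · refine congrArg Sum.inr (QuotientGroup.eq.2 (self K eK' (upK ▸ hVK) _ ?_))
        rw [map_mul, mul_smul, map_inv, inv_smul_eq_iff]; exact h.symm
    · rintro ⟨L, hL⟩
      obtain ⟨g, h | h⟩ := classes L hL
      · exact ⟨Sum.inl ((g⁻¹ : S2P F) : S2P F ⧸ H), Subtype.ext (show MulAut.conj g⁻¹ • H = L by rw [map_inv, inv_smul_eq_iff, h])⟩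
      · exact ⟨Sum.inr ((g⁻¹ : S2P F) : S2P F ⧸ K), Subtype.ext (show MulAut.conj g⁻¹ • K = L by rw [map_inv, inv_smul_eq_iff, h])⟩
  rw [← Nat.card_congr (Equiv.ofBijective φ hbij), Nat.card_sum, ← Subgroup.index_eq_card, ← Subgroup.index_eq_card]
  have i1 : ∀ A : Subgroup (S2P F), (A ≃* alternatingGroup (Fin 5)) → A.index = 11 := by
    intro A eA
    have := A.card_mul_index
    rw [Nat.card_congr eA.toEquiv, Nat.card_eq_fintype_card, show Fintype.card (alternatingGroup (Fin 5)) = 60 from rfl, hG] at this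
    omega
  rw [i1 H eH, i1 K eK']

end Cfsg.Agent.S2543
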