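import Cfsg.Statements.S2739
import Cfsg.Agent.Lib.Classical.ThreeFour

set_option autoImplicit false
open scoped Pointwise
open Cfsg

namespace Cfsg.Agent.S2739

/-- In the projective special linear group PSL(3, 4) all subgroups of order 3 are conjugate. -/
theorem result (F : Type*) [Field F] [Fintype F] (hF : Fintype.card F = 4) (X Y : Subgroup (Matrix.ProjectiveSpecialLinearGroup (Fin 3) F)) (hX : Nat.card ↥X = 3) (hY : Nat.card ↥Y = 3) : ∃ g : Matrix.ProjectiveSpecialLinearGroup (Fin 3) F, MulAut.conj g • X = Y := by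
  classical
  haveI : Fact (Nat.Prime 3) := ⟨Nat.prime_three⟩
  obtain ⟨D, hD⟩ := CfsgLib.Classical.ThreeFour.psl_order_three (F := F) hF
  have key : ∀ Z : Subgroup (Matrix.ProjectiveSpecialLinearGroup (Fin 3) F), Nat.card ↥Z = 3 →
      ∃ z, IsConj D z ∧ Subgroup.zpowers z = Z := fun Z hZ => by
    obtain ⟨⟨z, hz⟩, hord⟩ := exists_prime_orderOf_dvd_card' (G := ↥Z) 3 (by rw [hZ])
    rw [Subgroup.orderOf_mk] at hord
    refine ⟨z, hD z hord, Subgroup.eq_of_le_of_card_ge (Subgroup.zpowers_le.2 hz) ?_⟩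
    rw [hZ, Nat.card_zpowers, hord]
  obtain ⟨x, hx, rfl⟩ := key X hX
  obtain ⟨y, hy, rfl⟩ := key Y hY
  obtain ⟨g, hg⟩ := isConj_iff.1 (hx.symm.trans hy)
  refine ⟨g, ?_⟩
  rw [← hg]
  exact MonoidHom.map_zpowers (MulAut.conj g).toMonoidHom x

end Cfsg.Agent.S2739
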