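import Cfsg.Statements.S2550
import Cfsg.Agent.S2739
import Cfsg.Agent.Lib.Classical.SLBasic
-- import your own Cfsg.Agent.* helpers here

set_option autoImplicit false
open Cfsg Matrix

namespace Cfsg.Agent.S2550

/-- Let F be a field with 2 elements and K a field with 4 elements. PSL_4(F) and PSL_3(K) have the same order (20160) but are not isomorphic. -/
theorem result {F K : Type*} [Field F] [Fintype F] [Field K] [Fintype K] (hF : Fintype.card F = 2) (hK : Fintype.card K = 4) : Nat.card (Matrix.ProjectiveSpecialLinearGroup (Fin 4) F) = Nat.card (Matrix.ProjectiveSpecialLinearGroup (Fin 3) K) ∧ ¬ Nonempty (Matrix.ProjectiveSpecialLinearGroup (Fin 4) F ≃* Matrix.ProjectiveSpecialLinearGroup (Fin 3) K) := by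
  have h1 := CfsgLib.Classical.card_psl_mul (F := F) (n := 4) (by omega)
  have h2 := CfsgLib.Classical.card_psl_mul (F := K) (n := 3) (by omega)
  simp [hF, hK, Fin.prod_univ_succ] at h1 h2
  refine ⟨by omega, fun ⟨e⟩ => ?_⟩
  classical
  obtain ⟨c, hc⟩ := CharP.exists F
  haveI : Fact c.Prime := ⟨CharP.char_is_prime F c⟩
  obtain ⟨k, -, hk⟩ := FiniteField.card F c
  have hc2 : c = 2 := by
    rw [hF] at hk
    exact ((Nat.prime_dvd_prime_iff_eq (Fact.out : c.Prime) Nat.prime_two).1 (hk ▸ dvd_pow_self c k.ne_zero))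
  subst hc2
  have h20 : (2 : F) = 0 := CharP.ofNat_eq_zero F 2
  let A0 : Matrix (Fin 4) (Fin 4) F := !![0, 1, 0, 0; 1, 1, 0, 0; 0, 0, 1, 0; 0, 0, 0, 1]
  let B0 : Matrix (Fin 4) (Fin 4) F := !![0, 1, 0, 0; 1, 1, 0, 0; 0, 0, 0, 1; 0, 0, 1, 1]
  have h11 : (1 : F) + 1 = 0 := one_add_one_eq_two.trans h20
  have hdA : A0.det = 1 := by
    simp [A0, Matrix.det_succ_row_zero, Fin.sum_univ_succ, Fin.succAbove]
    linear_combination -h20
  have hdB : B0.det = 1 := by
    simp [B0, Matrix.det_succ_row_zero, Fin.sum_univ_succ, Fin.succAbove]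
  have hA3 : A0 * A0 * A0 = 1 := by
    ext i j
    fin_cases i <;> fin_cases j <;> simp [A0, Matrix.mul_apply, Fin.sum_univ_succ, h11]
  have hB3 : B0 * B0 * B0 = 1 := by
    ext i j
    fin_cases i <;> fin_cases j <;> simp [B0, Matrix.mul_apply, Fin.sum_univ_succ, h11]
  have hBfix : ∀ v : Fin 4 → F, B0 *ᵥ v = v → v = 0 := fun v h => by
    have e0 := congrFun h 0
    have e1 := congrFun h 1
    have e2 := congrFun h 2
    have e3 := congrFun h 3
    simp [B0, Matrix.mulVec, dotProduct, Fin.sum_univ_succ] at e0 e1 e2 e3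
    funext i; fin_cases i <;> simp [e0, e1, e2, e3]
  have hB2fix : ∀ v : Fin 4 → F, (B0 * B0) *ᵥ v = v → v = 0 := fun v h => by
    refine hBfix v ?_
    conv_lhs => rw [← h, Matrix.mulVec_mulVec, ← mul_assoc, hB3, Matrix.one_mulVec]
  have hAfix : A0 *ᵥ Pi.single 2 1 = Pi.single 2 1 := by
    funext i; fin_cases i <;> simp [A0]
  obtain ⟨A, hA⟩ : ∃ A : Matrix.SpecialLinearGroup (Fin 4) F, A = ⟨A0, hdA⟩ := ⟨_, rfl⟩
  obtain ⟨B, hB⟩ : ∃ B : Matrix.SpecialLinearGroup (Fin 4) F, B = ⟨B0, hdB⟩ := ⟨_, rfl⟩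
  have hZ : ∀ z ∈ Subgroup.center (Matrix.SpecialLinearGroup (Fin 4) F), z = 1 := fun z hz => by
    haveI : Subsingleton (Subgroup.center (Matrix.SpecialLinearGroup (Fin 4) F)) :=
      Finite.card_le_one_iff_subsingleton.1 (by rw [CfsgLib.Classical.card_center_sl (by omega), hF]; decide)
    exact congrArg Subtype.val (Subsingleton.elim (⟨z, hz⟩ : Subgroup.center _) 1)
  have hord : ∀ X : Matrix.SpecialLinearGroup (Fin 4) F, X.1 * X.1 * X.1 = 1 → X.1 ≠ 1 →
      Nat.card (Subgroup.zpowers (e (QuotientGroup.mk X))) = 3 := fun X h hne => by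
    rw [Nat.card_zpowers, MulEquiv.orderOf_eq]
    refine orderOf_eq_prime ?_ fun h1 => hne (congrArg Subtype.val (hZ X ((QuotientGroup.eq_one_iff _).1 h1)))
    rw [← QuotientGroup.mk_pow, show X ^ 3 = 1 from Subtype.ext (by
      rw [pow_succ, pow_succ, pow_one]; simpa using h), QuotientGroup.mk_one]
  obtain ⟨g, hg⟩ := Cfsg.Agent.S2739.result K hK _ _
    (hord A (by rw [hA]; exact hA3) (fun h => by
      have := congrFun (congrFun h 0) 0; rw [hA] at this; simp [A0] at this))
    (hord B (by rw [hB]; exact hB3) (fun h => by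
      have := congrFun (congrFun h 0) 0; rw [hB] at this; simp [B0] at this))
  have hmem : MulAut.conj g (e (QuotientGroup.mk A)) ∈ Subgroup.zpowers (e (QuotientGroup.mk B)) := by
    rw [← hg]; exact Subgroup.smul_mem_pointwise_smul _ _ _ (Subgroup.mem_zpowers _)
  obtain ⟨g, rfl⟩ := e.surjective g
  obtain ⟨g, rfl⟩ := QuotientGroup.mk_surjective g
  rw [mem_zpowers_iff_mem_range_orderOf, ← Nat.card_zpowers, hord B (by rw [hB]; exact hB3) (fun h => by
      have := congrFun (congrFun h 0) 0; rw [hB] at this; simp [B0] at this)] at hmem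
  obtain ⟨j, hj, he⟩ := Finset.mem_image.1 hmem
  rw [Finset.mem_range] at hj
  simp only [MulAut.conj_apply, ← map_inv, ← map_mul, ← map_pow, EmbeddingLike.apply_eq_iff_eq,
    ← QuotientGroup.mk_inv, ← QuotientGroup.mk_mul, ← QuotientGroup.mk_pow, QuotientGroup.eq] at he
  have he' : B ^ j = g * A * g⁻¹ := inv_mul_eq_one.1 (hZ _ he)
  have key : (B ^ j).1 *ᵥ (g.1 *ᵥ Pi.single 2 1) = g.1 *ᵥ Pi.single 2 1 := by
    rw [Matrix.mulVec_mulVec, ← Matrix.SpecialLinearGroup.coe_mul, he', inv_mul_cancel_right,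
      Matrix.SpecialLinearGroup.coe_mul, ← Matrix.mulVec_mulVec, hA, hAfix]
  have hv : g.1 *ᵥ (Pi.single 2 1 : Fin 4 → F) ≠ 0 := fun h => by
    have := congrArg (fun v => (g⁻¹).1 *ᵥ v) h
    simp only [Matrix.mulVec_mulVec, Matrix.mulVec_zero, ← Matrix.SpecialLinearGroup.coe_mul, inv_mul_cancel,
      Matrix.SpecialLinearGroup.coe_one, Matrix.one_mulVec] at this
    have := congrFun this 2
    simp at this
  interval_cases j
  · rw [pow_zero] at he'
    have := congrFun (congrFun (congrArg Subtype.val (show A = 1 from conj_eq_one_iff.1 he'.symm)) 0) 0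
    rw [hA] at this; simp [A0] at this
  · rw [pow_one, hB] at key; exact hv (hBfix _ key)
  · rw [pow_two, Matrix.SpecialLinearGroup.coe_mul, hB] at key; exact hv (hB2fix _ key)

end Cfsg.Agent.S2550
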