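import Cfsg.Statements.S2551
import Cfsg.Agent.Lib.Invol.GLFourTwo
import Mathlib

set_option autoImplicit false
open Cfsg

namespace Cfsg.Agent.S2551

open MulAction

variable {F : Type*} [Field F] [Fintype F]

/-- The natural action of matrices on vectors. -/
@[instance_reducible] noncomputable def vecAct : MulAction (Matrix.GeneralLinearGroup (Fin 4) F) (Fin 4 → F) where
  smul g v := (g : Matrix (Fin 4) (Fin 4) F).mulVec v
  one_smul v := Matrix.one_mulVec v
  mul_smul g h v := (Matrix.mulVec_mulVec v _ _).symm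

attribute [local instance] vecAct

/-- An element of order `5` or `7` fixes little. -/
theorem card_fixed (hF : Fintype.card F = 2) (H : Subgroup (Matrix.GeneralLinearGroup (Fin 4) F)) (x : H)
    {p : ℕ} [Fact p.Prime] (hp : p = 5 ∨ p = 7) (hx : orderOf x = p) :
    Nat.card {u : Fin 4 → F // x • u = u} ≤ if p = 5 then 1 else 2 := by
  classical
  let W : AddSubgroup (Fin 4 → F) :=
    { carrier := {u | x • u = u}
      zero_mem' := Matrix.mulVec_zero _
      add_mem' := fun {a b} ha hb => by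
        show (x : Matrix.GeneralLinearGroup (Fin 4) F).1.mulVec (a + b) = a + b
        rw [Matrix.mulVec_add]
        exact congrArg₂ (· + ·) ha hb
      neg_mem' := fun {a} ha => by
        show (x : Matrix.GeneralLinearGroup (Fin 4) F).1.mulVec (-a) = -a
        rw [Matrix.mulVec_neg]
        exact congrArg Neg.neg ha }
  have hV : Nat.card (Fin 4 → F) = 16 := by simp [Nat.card_eq_fintype_card, hF]
  have hdvd : Nat.card W ∣ 16 := hV ▸ W.card_addSubgroup_dvd_card
  have hpg : IsPGroup p (Subgroup.zpowers x) :=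
    IsPGroup.of_card (n := 1) (by rw [Nat.card_zpowers, hx, pow_one])
  have hmod := hpg.card_modEq_card_fixedPoints (Fin 4 → F)
  have hfix : Nat.card (fixedPoints (Subgroup.zpowers x) (Fin 4 → F)) = Nat.card W := by
    refine Nat.card_congr (Equiv.subtypeEquivRight fun u => ?_)
    constructor
    · exact fun h => h ⟨x, Subgroup.mem_zpowers x⟩
    · rintro h ⟨y, k, rfl⟩
      exact mem_stabilizer_iff.1 ((stabilizer H u).zpow_mem (mem_stabilizer_iff.2 h) k)
  rw [hV, hfix] at hmod
  have hlt : Nat.card W < 16 := by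
    refine lt_of_le_of_ne (Nat.le_of_dvd (by norm_num) hdvd) fun e => ?_
    have htop : W = ⊤ := AddSubgroup.eq_top_of_card_eq W (e.trans hV.symm)
    have hx1 : x = 1 := by
      refine Subtype.ext (Units.ext (Matrix.ext_iff_mulVec.2 fun u => ?_))
      have : u ∈ W := htop ▸ AddSubgroup.mem_top u
      exact (show (x : Matrix.GeneralLinearGroup (Fin 4) F).1.mulVec u = u from this).trans
        (Matrix.one_mulVec u).symm
    rw [hx1, orderOf_one] at hx
    rcases hp with rfl | rfl <;> omega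
  have hcases : Nat.card W ∈ Nat.divisors 16 := Nat.mem_divisors.2 ⟨hdvd, by norm_num⟩
  rw [show Nat.divisors 16 = {1, 2, 4, 8, 16} by decide] at hcases
  simp only [Finset.mem_insert, Finset.mem_singleton] at hcases
  show Nat.card W ≤ _
  unfold Nat.ModEq at hmod
  rcases hp with rfl | rfl <;> rcases hcases with h | h | h | h | h <;> rw [h] at hmod hlt ⊢ <;> simp_all <;> omega

/-- Let F be the field with 2 elements. GL_4(F) (≅ A_8) has a subgroup isomorphic to the alternating group A_7, and every such subgroup acts 2-transitively on the 15 non-zero vectors of F⁴: any ordered pair of distinct non-zero vectors is carried to any other by some element of the subgroup. -/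
theorem result {F : Type*} [Field F] [Fintype F] (hF : Fintype.card F = 2) : (∃ H : Subgroup (Matrix.GeneralLinearGroup (Fin 4) F), Nonempty (H ≃* alternatingGroup (Fin 7))) ∧ ∀ H : Subgroup (Matrix.GeneralLinearGroup (Fin 4) F), Nonempty (H ≃* alternatingGroup (Fin 7)) → ∀ v w v' w' : Fin 4 → F, v ≠ 0 → w ≠ 0 → v ≠ w → v' ≠ 0 → w' ≠ 0 → v' ≠ w' → ∃ g ∈ H, (g : Matrix (Fin 4) (Fin 4) F).mulVec v = v' ∧ (g : Matrix (Fin 4) (Fin 4) F).mulVec w = w' := by
  classical
  have hA7 : Nat.card (alternatingGroup (Fin 7)) = 2520 := by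
    have := nat_card_alternatingGroup (α := Fin 7)
    rw [this, Nat.card_fin]; decide
  refine ⟨?_, ?_⟩
  · -- existence
    haveI : Fact (Nat.Prime 2) := ⟨Nat.prime_two⟩
    obtain ⟨f, hf⟩ := CfsgLib.Invol.A8.exists_injective_gl_four_two
    have hA8 : Nat.card (alternatingGroup (Fin 8)) = 20160 := by
      rw [nat_card_alternatingGroup, Nat.card_fin]; decide
    have hGL : Nat.card (Matrix.GeneralLinearGroup (Fin 4) (ZMod 2)) = 20160 := by
      rw [Matrix.card_GL_field, ZMod.card, Fin.prod_univ_four]; decide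
    let e8 := MulEquiv.ofBijective f ((Nat.bijective_iff_injective_and_card _).2 ⟨hf, hGL.trans hA8.symm⟩)
    let e : ZMod 2 ≃+* F := ZMod.ringEquivOfPrime F Nat.prime_two hF
    let g : alternatingGroup (Fin 7) →* alternatingGroup (Fin 8) :=
      { toFun := fun σ => ⟨Equiv.Perm.viaEmbeddingHom Fin.castSuccEmb σ.1, by
          rw [Equiv.Perm.mem_alternatingGroup, Equiv.Perm.viaEmbeddingHom_apply, Equiv.Perm.viaEmbedding,
            Equiv.Perm.sign_extendDomain]
          exact σ.2⟩
        map_one' := Subtype.ext (map_one _)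
        map_mul' := fun a b => Subtype.ext (map_mul _ _ _) }
    have hg : Function.Injective g := fun a b h =>
      Subtype.ext (Equiv.Perm.viaEmbeddingHom_injective _ (congrArg Subtype.val h))
    let m : Matrix.GeneralLinearGroup (Fin 4) (ZMod 2) →* Matrix.GeneralLinearGroup (Fin 4) F :=
      Units.map (e.mapMatrix.toRingHom.toMonoidHom)
    have hm : Function.Injective m := Units.map_injective e.mapMatrix.injective
    exact ⟨((m.comp e8.symm.toMonoidHom).comp g).range,
      ⟨(MonoidHom.ofInjective (f := (m.comp e8.symm.toMonoidHom).comp g)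
        ((hm.comp e8.symm.injective).comp hg)).symm⟩⟩
  rintro H ⟨eH⟩ v w v' w' hv hw hvw hv' hw' hvw'
  have hH : Nat.card H = 2520 := by rw [Nat.card_congr eH.toEquiv, hA7]
  haveI : IsSimpleGroup H := by
    haveI : IsSimpleGroup (alternatingGroup (Fin 7)) := alternatingGroup.isSimpleGroup (by simp)
    exact eH.isSimpleGroup
  have hne : ∀ (h : H) (u : Fin 4 → F), u ≠ 0 → h • u ≠ 0 := fun h u hu e => hu (by
    have := congrArg (fun z => h⁻¹ • z) e
    rw [inv_smul_smul] at this
    rw [this]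
    exact Matrix.mulVec_zero _)
  have h15 : Nat.card {u : Fin 4 → F // u ≠ 0} = 15 := by
    rw [Nat.card_eq_fintype_card, Fintype.card_subtype_compl, Fintype.card_subtype_eq, Fintype.card_pi]
    simp [hF]
  -- orbit sizes
  have hdiv : ∀ u : Fin 4 → F, Nat.card (orbit H u) * Nat.card (stabilizer H u) = 2520 := fun u => by
    rw [← hH, ← Nat.card_prod]
    exact Nat.card_congr (orbitProdStabilizerEquivGroup H u)
  have hle15 : ∀ u : Fin 4 → F, u ≠ 0 → Nat.card (orbit H u) ≤ 15 := fun u hu => by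
    rw [← h15]
    refine Nat.card_le_card_of_injective (fun z => ⟨z.1, ?_⟩) fun a b h => Subtype.ext (congrArg (fun z : {u : Fin 4 → F // u ≠ 0} => z.1) h)
    obtain ⟨h, hh⟩ := z.2
    rw [← hh]; exact hne h u hu
  have hfive : ∀ u : Fin 4 → F, u ≠ 0 → 5 ∣ Nat.card (orbit H u) ∧ Nat.card (orbit H u) ≠ 5 := by
    intro u hu
    haveI : Fact (Nat.Prime 5) := ⟨by norm_num⟩
    obtain ⟨x, hx⟩ := exists_prime_orderOf_dvd_card' 5 (show 5 ∣ Nat.card H by rw [hH]; norm_num)
    have hsingle : ∀ z : Fin 4 → F, x • z = z → z = 0 := by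
      intro z hz
      have h1 := card_fixed hF H x (Or.inl rfl) hx
      rw [if_pos rfl] at h1
      haveI := Finite.card_le_one_iff_subsingleton.1 h1
      exact congrArg Subtype.val (Subsingleton.elim (⟨z, hz⟩ : {u : Fin 4 → F // x • u = u}) ⟨0, Matrix.mulVec_zero _⟩)
    refine ⟨?_, fun h5 => ?_⟩
    · have hpg : IsPGroup 5 (Subgroup.zpowers x) := IsPGroup.of_card (n := 1) (by rw [Nat.card_zpowers, hx, pow_one])
      have hmod := hpg.card_modEq_card_fixedPoints (orbit H u)
      haveI : IsEmpty (fixedPoints (Subgroup.zpowers x) (orbit H u)) := ⟨fun ⟨⟨z, hz⟩, hzfix⟩ => by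
        obtain ⟨h, rfl⟩ := hz
        exact hne h u hu (hsingle _ (congrArg Subtype.val (hzfix ⟨x, Subgroup.mem_zpowers x⟩)))⟩
      rw [Nat.card_of_isEmpty (α := fixedPoints (Subgroup.zpowers x) _)] at hmod
      exact Nat.modEq_zero_iff_dvd.1 hmod
    · let φ := MulAction.toPermHom H (orbit H u)
      rcases Subgroup.Normal.eq_bot_or_eq_top (inferInstance : φ.ker.Normal) with hk | hk
      · have := Nat.card_le_card_of_injective φ ((MonoidHom.ker_eq_bot_iff φ).1 hk)
        rw [hH, Nat.card_perm, h5] at this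
        norm_num [Nat.factorial] at this
      · have hx' : x ∈ φ.ker := hk ▸ Subgroup.mem_top x
        have h1 := congrArg (fun σ : Equiv.Perm (orbit H u) => σ ⟨u, mem_orbit_self u⟩) (MonoidHom.mem_ker.1 hx')
        exact hu (hsingle u (congrArg Subtype.val h1))
  have htrans : ∀ u : Fin 4 → F, u ≠ 0 → Nat.card (orbit H u) = 15 := by
    intro u hu
    obtain ⟨⟨k, hk⟩, h5⟩ := hfive u hu
    have hpos : 0 < Nat.card (orbit H u) := @Nat.card_pos _ ⟨⟨u, mem_orbit_self u⟩⟩ _
    have h2 := hle15 u hu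
    by_contra h15'
    have h10 : Nat.card (orbit H u) = 10 := by omega
    -- a vector outside the orbit
    obtain ⟨z, hz0, hz⟩ : ∃ z : Fin 4 → F, z ≠ 0 ∧ z ∉ orbit H u := by
      by_contra hall
      push Not at hall
      have := Nat.card_le_card_of_injective (β := ↥(orbit H u)) (fun z : {u : Fin 4 → F // u ≠ 0} => ⟨z.1, hall z.1 z.2⟩)
        (fun a b h => Subtype.ext (congrArg (fun y : orbit H u => y.1) h))
      rw [h10, h15] at this
      omega
    have hdisj : Disjoint (orbit H u) (orbit H z) := (orbit.pairwiseDisjoint (G := H) (X := Fin 4 → F))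
      ⟨u, rfl⟩ ⟨z, rfl⟩ (fun e => hz ((show orbit H u = orbit H z from e).symm ▸ mem_orbit_self z))
    have hsub : orbit H u ∪ orbit H z ⊆ {y | y ≠ 0} := by
      rintro y (⟨h, rfl⟩ | ⟨h, rfl⟩)
      · exact hne h u hu
      · exact hne h z hz0
    have hc := Set.ncard_le_ncard hsub (Set.toFinite _)
    rw [Set.ncard_union_eq hdisj (Set.toFinite _) (Set.toFinite _), ← Nat.card_coe_set_eq, ← Nat.card_coe_set_eq,
      ← Nat.card_coe_set_eq] at hc
    have h15'' : Nat.card ↥{y : Fin 4 → F | y ≠ 0} = 15 := h15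
    obtain ⟨⟨j, hj⟩, hj5⟩ := hfive z hz0
    have hpos' : 0 < Nat.card (orbit H z) := @Nat.card_pos _ ⟨⟨z, mem_orbit_self z⟩⟩ _
    omega
  -- orbits of a stabilizer
  have hseven : ∀ a : Fin 4 → F, a ≠ 0 → ∀ b : Fin 4 → F, b ≠ 0 → b ≠ a →
      Nat.card (orbit (stabilizer H a) b) = 7 ∨ Nat.card (orbit (stabilizer H a) b) = 14 := by
    intro a ha b hb hba
    haveI : Fact (Nat.Prime 7) := ⟨by norm_num⟩
    have hS : Nat.card (stabilizer H a) = 168 := by
      have := hdiv a
      rw [htrans a ha] at this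
      omega
    obtain ⟨x, hx⟩ := exists_prime_orderOf_dvd_card' 7 (show 7 ∣ Nat.card (stabilizer H a) by rw [hS]; norm_num)
    have hxH : orderOf (x : H) = 7 := (Subgroup.orderOf_coe x).trans hx
    have h1 := card_fixed hF H (x : H) (Or.inr rfl) hxH
    rw [if_neg (by norm_num)] at h1
    have honly : ∀ z : Fin 4 → F, (x : H) • z = z → z = 0 ∨ z = a := by
      intro z hz
      by_contra hcon
      push Not at hcon
      let i : Fin 3 → {u : Fin 4 → F // (x : H) • u = u} :=
        ![⟨0, Matrix.mulVec_zero _⟩, ⟨a, x.2⟩, ⟨z, hz⟩]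
      have hi : Function.Injective i := by
        intro p q h
        have h' := congrArg Subtype.val h
        fin_cases p <;> fin_cases q <;> simp [i] at h' ⊢
        all_goals first
          | exact ha h'
          | exact ha h'.symm
          | exact hcon.1 h'
          | exact hcon.1 h'.symm
          | exact hcon.2 h'
          | exact hcon.2 h'.symm
      have := Nat.card_le_card_of_injective i hi
      rw [Nat.card_fin] at this
      omega
    have hmem : ∀ z ∈ orbit (stabilizer H a) b, z ≠ 0 ∧ z ≠ a := by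
      rintro _ ⟨h, rfl⟩
      refine ⟨hne h.1 b hb, fun e => hba ?_⟩
      change (h : H) • b = a at e
      have h2 : (h : H) • a = a := h.2
      exact smul_left_cancel (h : H) (e.trans h2.symm)
    have hpg : IsPGroup 7 (Subgroup.zpowers x) := IsPGroup.of_card (n := 1) (by rw [Nat.card_zpowers, hx, pow_one])
    have hmod := hpg.card_modEq_card_fixedPoints (orbit (stabilizer H a) b)
    haveI : IsEmpty (fixedPoints (Subgroup.zpowers x) (orbit (stabilizer H a) b)) := ⟨fun ⟨⟨z, hz⟩, hzfix⟩ => by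
      obtain ⟨h1', h2'⟩ := hmem z hz
      exact (honly z (congrArg Subtype.val (hzfix ⟨x, Subgroup.mem_zpowers x⟩))).elim h1' h2'⟩
    rw [Nat.card_of_isEmpty (α := fixedPoints (Subgroup.zpowers x) _)] at hmod
    obtain ⟨k, hk⟩ := Nat.modEq_zero_iff_dvd.1 hmod
    have hle : Nat.card (orbit (stabilizer H a) b) ≤ 14 := by
      have hsub : orbit (stabilizer H a) b ⊆ ({0, a} : Set (Fin 4 → F))ᶜ := fun z hz => by
        simp only [Set.mem_compl_iff, Set.mem_insert_iff, Set.mem_singleton_iff, not_or]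
        exact hmem z hz
      rw [Nat.card_coe_set_eq]
      refine (Set.ncard_le_ncard hsub (Set.toFinite _)).trans ?_
      rw [Set.ncard_compl, Set.ncard_pair (Ne.symm ha), Nat.card_eq_fintype_card]
      simp [hF]
    have hpos : 0 < Nat.card (orbit (stabilizer H a) b) := @Nat.card_pos _ ⟨⟨b, mem_orbit_self b⟩⟩ _
    omega
  -- orbits of pairs
  have hpair : ∀ a b : Fin 4 → F, a ≠ 0 →
      Nat.card (orbit H (a, b)) = 15 * Nat.card (orbit (stabilizer H a) b) := by
    intro a b ha
    have e1 : Nat.card (stabilizer (stabilizer H a) b) = Nat.card (stabilizer H (a, b)) :=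
      Nat.card_congr
        { toFun := fun h => ⟨h.1.1, Prod.ext h.1.2 h.2⟩
          invFun := fun h => ⟨⟨h.1, congrArg Prod.fst h.2⟩, congrArg Prod.snd h.2⟩
          left_inv := fun h => rfl
          right_inv := fun h => rfl }
    have e2 : Nat.card (orbit (stabilizer H a) b) * Nat.card (stabilizer (stabilizer H a) b) = Nat.card (stabilizer H a) := by
      rw [← Nat.card_prod]; exact Nat.card_congr (orbitProdStabilizerEquivGroup _ b)
    have e3 : Nat.card (orbit H (a, b)) * Nat.card (stabilizer H (a, b)) = Nat.card H := by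
      rw [← Nat.card_prod]; exact Nat.card_congr (orbitProdStabilizerEquivGroup _ (a, b))
    have e4 := hdiv a
    rw [htrans a ha, ← e2, e1, ← mul_assoc] at e4
    rw [hH] at e3
    exact Nat.eq_of_mul_eq_mul_right Nat.card_pos (e3.trans e4.symm)
  have hfull : ∀ a b : Fin 4 → F, a ≠ 0 → b ≠ 0 → a ≠ b → Nat.card (orbit H (a, b)) ≤ 210 ∧
      ∀ q ∈ orbit H (a, b), q.1 ≠ 0 ∧ q.2 ≠ 0 ∧ q.1 ≠ q.2 := by
    intro a b ha hb hab
    refine ⟨?_, ?_⟩
    · rw [hpair a b ha]
      rcases hseven a ha b hb (Ne.symm hab) with h | h <;> rw [h] <;> norm_num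
    · rintro _ ⟨h, rfl⟩
      exact ⟨hne h a ha, hne h b hb, fun e => hab (smul_left_cancel h e)⟩
  have h14 : ∃ a b : Fin 4 → F, a ≠ 0 ∧ b ≠ 0 ∧ a ≠ b ∧ Nat.card (orbit H (a, b)) = 210 := by
    haveI : Fact (Nat.Prime 2) := ⟨Nat.prime_two⟩
    obtain ⟨t, ht⟩ := exists_prime_orderOf_dvd_card' 2 (show 2 ∣ Nat.card H by rw [hH]; norm_num)
    obtain ⟨a, hta⟩ : ∃ a : Fin 4 → F, t • a ≠ a := by
      by_contra h
      push Not at h
      have : t = 1 := Subtype.ext (Units.ext (Matrix.ext_iff_mulVec.2 fun u =>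
        (h u).trans (Matrix.one_mulVec u).symm))
      rw [this, orderOf_one] at ht
      omega
    have ha : a ≠ 0 := fun e => hta (by rw [e]; exact Matrix.mulVec_zero _)
    refine ⟨a, t • a, ha, hne t a ha, Ne.symm hta, ?_⟩
    rw [hpair a _ ha]
    rcases hseven a ha _ (hne t a ha) hta with h | h
    · exfalso
      -- a symmetric irreflexive orbit of odd size
      set O := orbit H (a, t • a) with hO
      have hsw : ∀ q ∈ O, (q.2, q.1) ∈ O := by
        rintro _ ⟨g, rfl⟩
        refine ⟨g * t, Prod.ext ?_ ?_⟩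
        · show (g * t) • a = g • (t • a)
          rw [mul_smul]
        · show (g * t) • (t • a) = g • a
          rw [mul_smul, smul_smul t t, show t * t = 1 by rw [← sq, ← ht, pow_orderOf_eq_one], one_smul]
      let σ : Equiv.Perm O :=
        { toFun := fun q => ⟨(q.1.2, q.1.1), hsw _ q.2⟩
          invFun := fun q => ⟨(q.1.2, q.1.1), hsw _ q.2⟩
          left_inv := fun q => rfl
          right_inv := fun q => rfl }
      have hσ : σ ^ 2 = 1 := Equiv.ext fun q => rfl
      have hpg : IsPGroup 2 (Subgroup.zpowers σ) := by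
        obtain ⟨i, -, hi⟩ := (Nat.dvd_prime_pow Nat.prime_two).1
          (show orderOf σ ∣ 2 ^ 1 from (pow_one 2).symm ▸ orderOf_dvd_of_pow_eq_one hσ)
        exact IsPGroup.of_card (n := i) (by rw [Nat.card_zpowers, hi])
      have hmod := hpg.card_modEq_card_fixedPoints O
      haveI : IsEmpty (fixedPoints (Subgroup.zpowers σ) O) := ⟨fun ⟨⟨q, hq⟩, hfix⟩ => by
        have hq' := congrArg (fun y : O => y.1.1) (hfix ⟨σ, Subgroup.mem_zpowers σ⟩)
        exact ((hfull a _ ha (hne t a ha) (Ne.symm hta)).2 q hq).2.2 hq'.symm⟩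
      have hc : Nat.card O = 105 := by rw [hO, hpair a _ ha, h]
      rw [Nat.card_of_isEmpty (α := fixedPoints (Subgroup.zpowers σ) _), hc] at hmod
      exact absurd hmod (by decide)
    · rw [h]
  obtain ⟨a, b, ha, hb, hab, hcard⟩ := h14
  have heq : orbit H (a, b) = {q : (Fin 4 → F) × (Fin 4 → F) | q.1 ≠ 0 ∧ q.2 ≠ 0 ∧ q.1 ≠ q.2} := by
    refine Set.eq_of_subset_of_ncard_le (hfull a b ha hb hab).2 ?_ (Set.toFinite _)
    rw [← Nat.card_coe_set_eq (orbit H (a, b)), hcard]
    have hinj : Set.ncard {q : (Fin 4 → F) × (Fin 4 → F) | q.1 ≠ 0 ∧ q.2 ≠ 0 ∧ q.1 ≠ q.2} =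
        Nat.card {q : {u : Fin 4 → F // u ≠ 0} × {u : Fin 4 → F // u ≠ 0} // q.1 ≠ q.2} := by
      rw [← Nat.card_coe_set_eq]
      exact Nat.card_congr
        { toFun := fun q => ⟨(⟨q.1.1, q.2.1⟩, ⟨q.1.2, q.2.2.1⟩), fun e => q.2.2.2 (congrArg Subtype.val e)⟩
          invFun := fun q => ⟨(q.1.1.1, q.1.2.1), q.1.1.2, q.1.2.2, fun e => q.2 (Subtype.ext e)⟩
          left_inv := fun q => rfl
          right_inv := fun q => rfl }
    rw [hinj]
    have e : {q : {u : Fin 4 → F // u ≠ 0} × {u : Fin 4 → F // u ≠ 0} // q.1 ≠ q.2} ≃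
        Σ u : {u : Fin 4 → F // u ≠ 0}, {z : {u : Fin 4 → F // u ≠ 0} // u ≠ z} :=
      { toFun := fun q => ⟨q.1.1, q.1.2, q.2⟩
        invFun := fun q => ⟨(q.1, q.2.1), q.2.2⟩
        left_inv := fun q => rfl
        right_inv := fun q => rfl }
    have h15f : Fintype.card {u : Fin 4 → F // u ≠ 0} = 15 := Nat.card_eq_fintype_card.symm.trans h15
    rw [Nat.card_congr e, Nat.card_eq_fintype_card, Fintype.card_sigma]
    simp [Fintype.card_subtype_compl, h15f]
  have hm : ∀ p q : Fin 4 → F, p ≠ 0 → q ≠ 0 → p ≠ q → (p, q) ∈ orbit H (a, b) := fun p q h1 h2 h3 =>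
    heq ▸ ⟨h1, h2, h3⟩
  obtain ⟨g1, hg1⟩ := hm v w hv hw hvw
  obtain ⟨g2, hg2⟩ := hm v' w' hv' hw' hvw'
  change g1 • (a, b) = (v, w) at hg1
  change g2 • (a, b) = (v', w') at hg2
  have hh : (g2 * g1⁻¹) • (v, w) = (v', w') := by rw [← hg1, smul_smul, inv_mul_cancel_right, hg2]
  exact ⟨((g2 * g1⁻¹ : H) : Matrix.GeneralLinearGroup (Fin 4) F), SetLike.coe_mem _,
    congrArg Prod.fst hh, congrArg Prod.snd hh⟩

end Cfsg.Agent.S2551
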