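import Cfsg.Statements.S2552
import Mathlib

set_option autoImplicit false
open Cfsg

namespace Cfsg.Agent.S2552

/-- Let F be a finite field and n ≥ 1. For every k, the special linear group SL_n(F) acts transitively on the set of k-dimensional subspaces of F^n: any two subspaces of the same dimension are carried onto each other by some matrix of determinant 1. -/
theorem result {F : Type*} [Field F] [Fintype F] (n : ℕ) (hn : 1 ≤ n) (U₁ U₂ : Submodule F (Fin n → F)) (h : Module.finrank F U₁ = Module.finrank F U₂) : ∃ g : Matrix.SpecialLinearGroup (Fin n) F, U₁.map ((Matrix.SpecialLinearGroup.toLin' g : (Fin n → F) ≃ₗ[F] (Fin n → F)) : (Fin n → F) →ₗ[F] (Fin n → F)) = U₂ := by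
  classical
  haveI : Nonempty (Fin n) := ⟨⟨0, hn⟩⟩
  obtain ⟨W₁, hW₁⟩ := U₁.exists_isCompl
  obtain ⟨W₂, hW₂⟩ := U₂.exists_isCompl
  have hW : Module.finrank F W₁ = Module.finrank F W₂ := by
    have h1 := Submodule.finrank_add_eq_of_isCompl hW₁
    have h2 := Submodule.finrank_add_eq_of_isCompl hW₂
    omega
  let e : (Fin n → F) ≃ₗ[F] (Fin n → F) :=
    (Submodule.prodEquivOfIsCompl U₁ W₁ hW₁).symm.trans
      (((LinearEquiv.ofFinrankEq U₁ U₂ h).prodCongr (LinearEquiv.ofFinrankEq W₁ W₂ hW)).trans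
        (Submodule.prodEquivOfIsCompl U₂ W₂ hW₂))
  let b : Module.Basis (Fin (Module.finrank F U₂) ⊕ Fin (Module.finrank F W₂)) F (Fin n → F) :=
    ((Module.finBasis F U₂).prod (Module.finBasis F W₂)).map
      (Submodule.prodEquivOfIsCompl U₂ W₂ hW₂)
  obtain ⟨i₀⟩ : Nonempty (Fin (Module.finrank F U₂) ⊕ Fin (Module.finrank F W₂)) :=
    b.index_nonempty
  let d : F := (LinearMap.det (e : (Fin n → F) →ₗ[F] (Fin n → F)))⁻¹
  let D : (Fin n → F) →ₗ[F] (Fin n → F) :=
    b.constr F fun i => (if i = i₀ then d else 1) • b i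
  have hdetD : LinearMap.det D = d := by
    rw [← LinearMap.det_toMatrix b]
    have : LinearMap.toMatrix b b D = Matrix.diagonal fun i => if i = i₀ then d else 1 := by
      ext i j
      rw [LinearMap.toMatrix_apply, Module.Basis.constr_basis, map_smul, Module.Basis.repr_self]
      by_cases hij : i = j
      · subst hij; simp; split_ifs <;> simp
      · simp [Finsupp.single_eq_of_ne hij, hij]; split_ifs <;> simp [Finsupp.single_eq_of_ne hij]
    rw [this, Matrix.det_diagonal, Finset.prod_ite_eq']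
    simp
  have he0 : LinearMap.det (e : (Fin n → F) →ₗ[F] (Fin n → F)) ≠ 0 :=
    (LinearEquiv.isUnit_det' e).ne_zero
  let g : (Fin n → F) →ₗ[F] (Fin n → F) := D ∘ₗ (e : (Fin n → F) →ₗ[F] (Fin n → F))
  have hg : (LinearMap.toMatrix' g).det = 1 := by
    rw [LinearMap.det_toMatrix', LinearMap.det_comp, hdetD, inv_mul_cancel₀ he0]
  have hD : U₂.map D ≤ U₂ := by
    rintro _ ⟨u, hu, rfl⟩
    have hu' : u = ∑ i : Fin (Module.finrank F U₂),
        (Module.finBasis F U₂).repr ⟨u, hu⟩ i • b (Sum.inl i) := by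
      have h9 := congrArg Subtype.val ((Module.finBasis F U₂).sum_repr ⟨u, hu⟩)
      simp only [Submodule.coe_sum, Submodule.coe_smul] at h9
      simp only [b]
      simp
      exact h9.symm
    rw [hu', map_sum]
    refine Submodule.sum_mem _ fun i _ => ?_
    rw [map_smul, Module.Basis.constr_basis]
    refine U₂.smul_mem _ (U₂.smul_mem _ ?_)
    simp [b]
  have he : U₁.map (e : (Fin n → F) →ₗ[F] (Fin n → F)) ≤ U₂ := by
    rintro _ ⟨u, hu, rfl⟩
    simp [e, Submodule.prodEquivOfIsCompl_symm_apply_left U₁ W₁ hW₁ ⟨u, hu⟩]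
  refine ⟨⟨LinearMap.toMatrix' g, hg⟩, ?_⟩
  have hgl : ((Matrix.SpecialLinearGroup.toLin' ⟨LinearMap.toMatrix' g, hg⟩ :
      (Fin n → F) ≃ₗ[F] (Fin n → F)) : (Fin n → F) →ₗ[F] (Fin n → F)) = g :=
    Matrix.toLin'_toMatrix' g
  refine Submodule.eq_of_le_of_finrank_eq ?_ ?_
  · rw [hgl, Submodule.map_comp]
    exact (Submodule.map_mono he).trans hD
  · rw [LinearEquiv.finrank_map_eq, h]

end Cfsg.Agent.S2552
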