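import Cfsg.Statements.S2556
import Cfsg.Agent.Lib.Lie.Suz.Sub.UAut
import Cfsg.Agent.Lib.Lie.Suz.Twisted
-- import your own Cfsg.Agent.* helpers here

set_option autoImplicit false
open Cfsg

open CfsgLib.Lie

namespace Cfsg.Agent.S2556

/-- Let S be a Sylow 2-subgroup of the Suzuki group Sz(q), q = 2ⁿ with n = 2m + 1 ≥ 3 (realised as 4 × 4 matrices over the field with q elements). Then the largest normal 2-subgroup of the automorphism group of S is elementary abelian of order 2^(n²), and the automorphism group of S has order 2^(n²) · n · (q − 1). -/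
theorem result {S : Type*} [Group S] [Finite S] (m : ℕ) (hm : 1 ≤ m)
    {F : Type*} [Field F] [Fintype F] (hF : Fintype.card F = 2 ^ (2 * m + 1))
    (P : Sylow 2 ↥(Cfsg.Lie.Sz F (2 ^ (m + 1)))) (hS : Nonempty (S ≃* ↥(P : Subgroup ↥(Cfsg.Lie.Sz F (2 ^ (m + 1)))))) :
    Cfsg.IsElementaryAbelian 2 (Cfsg.pCore 2 (MulAut S)) ∧ Nat.card ↥(Cfsg.pCore 2 (MulAut S)) = 2 ^ ((2 * m + 1) ^ 2) ∧
      Nat.card (MulAut S) = 2 ^ ((2 * m + 1) ^ 2) * ((2 * m + 1) * (2 ^ (2 * m + 1) - 1)) := by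
  classical
  haveI : Fact (Nat.Prime 2) := ⟨Nat.prime_two⟩
  obtain ⟨e⟩ := Suz.exists_twEquiv hm hF
  obtain ⟨s⟩ := hS
  obtain ⟨P0, hP0⟩ := Suz.exists_U_sylow hm hF
  haveI : Finite ↥(Cfsg.Lie.Sz F (2 ^ (m + 1))) := Finite.of_equiv _ e.toEquiv
  have hQp : IsPGroup 2 ↥((P0 : Subgroup (Cfsg.Sz F m)).map e.toMonoidHom) := P0.2.map _
  obtain ⟨Q, hQ⟩ := hQp.exists_le_sylow
  have hcard : Nat.card ↥(Q : Subgroup ↥(Cfsg.Lie.Sz F (2 ^ (m + 1)))) = Nat.card ↥(P0 : Subgroup (Cfsg.Sz F m)) := by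
    rw [Sylow.card_eq_multiplicity, Sylow.card_eq_multiplicity, Nat.card_congr e.toEquiv]
  have hQeq : (P0 : Subgroup (Cfsg.Sz F m)).map e.toMonoidHom = (Q : Subgroup ↥(Cfsg.Lie.Sz F (2 ^ (m + 1)))) :=
    Subgroup.eq_of_le_of_card_ge hQ (by
      rw [hcard, Subgroup.card_map_of_injective (f := e.toMonoidHom) e.injective])
  let t : S ≃* ↥(Suz.U hF : Subgroup (Cfsg.Sz F m)) :=
    s.trans ((Sylow.equiv P Q).trans ((MulEquiv.subgroupCongr hQeq.symm).trans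
      (((P0 : Subgroup (Cfsg.Sz F m)).equivMapOfInjective e.toMonoidHom e.injective).symm.trans
        (MulEquiv.subgroupCongr hP0))))
  obtain ⟨hN, hc, h2, hK, hA⟩ := Suz.aut_U hm hF
  let T : MulAut ↥(Suz.U hF : Subgroup (Cfsg.Sz F m)) ≃* MulAut S := MulAut.congr t.symm
  set K := (Suz.KA hF (m := m)).map T.toMonoidHom with hKdef
  have hKc : Nat.card ↥K = 2 ^ ((2 * m + 1) ^ 2) := by
    rw [hKdef, Subgroup.card_map_of_injective (f := T.toMonoidHom) T.injective, hK]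
  have hAc : Nat.card (MulAut S) = 2 ^ ((2 * m + 1) ^ 2) * ((2 * m + 1) * (2 ^ (2 * m + 1) - 1)) := by
    rw [← Nat.card_congr T.toEquiv, hA]
  have hKn : K.Normal := hN.map _ T.surjective
  haveI : Finite (MulAut S) := Nat.finite_of_card_ne_zero (by
    rw [hAc]
    have := Nat.one_lt_two_pow (n := 2 * m + 1) (by omega)
    exact Nat.mul_ne_zero (by positivity) (Nat.mul_ne_zero (by omega) (by omega)))
  have hidx : ¬ 2 ∣ K.index := by
    have h1 := K.card_mul_index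
    rw [hKc, hAc] at h1
    rw [Nat.eq_of_mul_eq_mul_left (by positivity) h1]
    have := Nat.one_lt_two_pow (n := 2 * m + 1) (by omega)
    have h3 : 2 ∣ 2 ^ (2 * m + 1) := dvd_pow_self 2 (by omega)
    rw [Nat.prime_two.dvd_mul]
    omega
  have hcore : Cfsg.pCore 2 (MulAut S) = K :=
    Suz.pCore_eq_of_odd hKn (IsPGroup.of_card hKc) hidx
  rw [hcore]
  refine ⟨⟨⟨⟨fun x y => ?_⟩⟩, fun a ha => ?_⟩, hKc, hAc⟩
  · obtain ⟨_, x, hx, rfl⟩ := x
    obtain ⟨_, y, hy, rfl⟩ := y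
    refine Subtype.ext ?_
    show T x * T y = T y * T x
    rw [← map_mul, ← map_mul]
    exact congrArg T (congrArg Subtype.val (hc.is_comm.comm ⟨x, hx⟩ ⟨y, hy⟩))
  · obtain ⟨x, hx, rfl⟩ := ha
    rw [← map_pow, h2 x hx, map_one]

end Cfsg.Agent.S2556
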