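import Cfsg.Statements.S2561
import Cfsg.Agent.Lib.Classical.OrthEmbed

set_option autoImplicit false
open Cfsg

namespace Cfsg.Agent.S2561

/-- Fix the non-singular alternating form on the 2m-dimensional space over the field of two elements obtained by polarizing the plus-type form Σ xᵢyᵢ (m ≥ 1). The functions q on the space with q(u + v) = q(u) + q(v) + f(u, v) (the quadratic forms polarizing to f) number 2^(2m); each is equivalent under an invertible linear map either to the plus-type form or to the minus-type form Σ xᵢyᵢ + (z₁² + z₁z₂ + z₂²); and those of plus type number 2^(2m−1) + 2^(m−1), those of minus type 2^(2m−1) − 2^(m−1). -/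
theorem result (m : ℕ) (hm : 1 ≤ m) :
    Nat.card {q : (Fin m ⊕ Fin m → ZMod 2) → ZMod 2 // (∀ u v : (Fin m ⊕ Fin m → ZMod 2), q (u + v) = q u + q v + (Cfsg.quadFormPlus m (ZMod 2) (u + v) - Cfsg.quadFormPlus m (ZMod 2) u - Cfsg.quadFormPlus m (ZMod 2) v))} = 2 ^ (2 * m) ∧
    (∀ q : (Fin m ⊕ Fin m → ZMod 2) → ZMod 2, (∀ u v : (Fin m ⊕ Fin m → ZMod 2), q (u + v) = q u + q v + (Cfsg.quadFormPlus m (ZMod 2) (u + v) - Cfsg.quadFormPlus m (ZMod 2) u - Cfsg.quadFormPlus m (ZMod 2) v)) →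
      (∃ g : (Fin m ⊕ Fin m → ZMod 2) ≃ₗ[ZMod 2] (Fin m ⊕ Fin m → ZMod 2), ∀ v, q v = Cfsg.quadFormPlus m (ZMod 2) (g v)) ∨
      (∃ g : (Fin m ⊕ Fin m → ZMod 2) ≃ₗ[ZMod 2] ((Fin (m - 1) ⊕ Fin (m - 1)) ⊕ Fin 2 → ZMod 2), ∀ v, q v = Cfsg.quadFormMinus (m - 1) (ZMod 2) 1 1 (g v))) ∧
    Nat.card {q : (Fin m ⊕ Fin m → ZMod 2) → ZMod 2 // (∀ u v : (Fin m ⊕ Fin m → ZMod 2), q (u + v) = q u + q v + (Cfsg.quadFormPlus m (ZMod 2) (u + v) - Cfsg.quadFormPlus m (ZMod 2) u - Cfsg.quadFormPlus m (ZMod 2) v)) ∧ ∃ g : (Fin m ⊕ Fin m → ZMod 2) ≃ₗ[ZMod 2] (Fin m ⊕ Fin m → ZMod 2), ∀ v, q v = Cfsg.quadFormPlus m (ZMod 2) (g v)} = 2 ^ (2 * m - 1) + 2 ^ (m - 1) ∧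
    Nat.card {q : (Fin m ⊕ Fin m → ZMod 2) → ZMod 2 // (∀ u v : (Fin m ⊕ Fin m → ZMod 2), q (u + v) = q u + q v + (Cfsg.quadFormPlus m (ZMod 2) (u + v) - Cfsg.quadFormPlus m (ZMod 2) u - Cfsg.quadFormPlus m (ZMod 2) v)) ∧ ∃ g : (Fin m ⊕ Fin m → ZMod 2) ≃ₗ[ZMod 2] ((Fin (m - 1) ⊕ Fin (m - 1)) ⊕ Fin 2 → ZMod 2), ∀ v, q v = Cfsg.quadFormMinus (m - 1) (ZMod 2) 1 1 (g v)} = 2 ^ (2 * m - 1) - 2 ^ (m - 1) := by
  classical
  obtain ⟨k, rfl⟩ : ∃ k, m = k + 1 := ⟨m - 1, by omega⟩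
  simp only [Nat.add_sub_cancel]
  let V := Fin (k + 1) ⊕ Fin (k + 1) → ZMod 2
  let Q : QuadraticForm (ZMod 2) V := CfsgLib.Classical.plusQ (k + 1) (ZMod 2)
  have hQ : ∀ v, Q v = Cfsg.quadFormPlus (k + 1) (ZMod 2) v := fun v => congrFun (CfsgLib.Classical.plusQ_coe (k + 1)) v
  simp only [← hQ]
  have hnd : (QuadraticMap.polarBilin Q).Nondegenerate := CfsgLib.Classical.plusQ_nondeg _
  have hab : ∀ z₁ z₂ : ZMod 2, z₁ ^ 2 + 1 * z₁ * z₂ + 1 * z₂ ^ 2 = 0 → z₁ = 0 ∧ z₂ = 0 := by decide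
  let P : (V → ZMod 2) → Prop := fun q => ∀ u v : V, q (u + v) = q u + q v + (Q (u + v) - Q u - Q v)
  let T : V → V → ZMod 2 := fun a v => Q v + QuadraticMap.polarBilin Q a v
  have hT : ∀ a, P (T a) := fun a u v => by
    simp only [T, map_add]; ring
  have hTinj : Function.Injective T := fun a b h => sub_eq_zero.1 (hnd.1 (a - b) fun v => by
    have := congrFun h v
    simp only [T, add_right_inj] at this
    rw [map_sub, LinearMap.sub_apply, this, sub_self])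
  have hTsurj : ∀ q, P q → ∃ a, T a = q := by
    intro q hq
    let d : V →+ ZMod 2 := AddMonoidHom.mk' (fun v => q v - Q v) fun u v => by rw [hq]; ring
    obtain ⟨a, ha⟩ := (LinearMap.BilinForm.toDual (QuadraticMap.polarBilin Q) hnd).surjective (d.toZModLinearMap 2)
    refine ⟨a, funext fun v => ?_⟩
    show Q v + QuadraticMap.polarBilin Q a v = q v
    rw [show QuadraticMap.polarBilin Q a v = q v - Q v from LinearMap.congr_fun ha v]
    ring
  have hTadd : ∀ a v, T a v = Q (v + a) - Q a := fun a v => by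
    simp only [T, QuadraticMap.polarBilin_apply_apply]
    rw [QuadraticMap.polar_comm, QuadraticMap.polar]
    ring
  have hN : ∀ a, Nat.card {v : V // T a v = 0} = Nat.card {v : V // Q v = Q a} := fun a =>
    Nat.card_congr ((Equiv.addRight a).subtypeEquiv fun v => by rw [hTadd, sub_eq_zero]; rfl)
  have hz : (Nat.card {v : V // Q v = 0} : ℤ) = 2 ^ (2 * k + 1) + 2 ^ k := by
    simp only [hQ, V]
    rw [CfsgLib.Classical.card_sing_plus k, ZMod.card]
    push_cast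
    ring
  have ho : (Nat.card {v : V // Q v = 0} : ℤ) + Nat.card {v : V // Q v ≠ 0} = 2 * 2 ^ (2 * k + 1) := by
    rw [← Nat.cast_add, ← Nat.card_sum, Nat.card_congr (Equiv.sumCompl fun v : V => Q v = 0), Nat.card_eq_fintype_card,
      Fintype.card_fun, ZMod.card, Fintype.card_sum, Fintype.card_fin]
    push_cast
    ring
  have h01 : ∀ c : ZMod 2, c ≠ 0 → c = 1 := by decide
  have hcongr : ∀ {W : Type} [AddCommGroup W] [Module (ZMod 2) W] (S : W → ZMod 2) (t : V → ZMod 2),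
      (∃ g : V ≃ₗ[ZMod 2] W, ∀ v, t v = S (g v)) → Nat.card {v : V // t v = 0} = Nat.card {v : W // S v = 0} := by
    rintro W _ _ S t ⟨g, hg⟩
    exact Nat.card_congr (g.toEquiv.subtypeEquiv fun v => by rw [hg]; rfl)
  have hminus : (Nat.card {v : (Fin k ⊕ Fin k) ⊕ Fin 2 → ZMod 2 // Cfsg.quadFormMinus k (ZMod 2) 1 1 v = 0} : ℤ) =
      2 ^ (2 * k + 1) - 2 ^ k := by
    rw [CfsgLib.Classical.card_sing_minus hab k, ZMod.card]
    push_cast
    ring
  have hpos : (0 : ℤ) < 2 ^ k := pow_pos two_pos k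
  have main : ∀ a, (Q a = 0 ↔ ∃ g : V ≃ₗ[ZMod 2] V, ∀ v, T a v = Q (g v)) ∧
      (Q a ≠ 0 ↔ ∃ g : V ≃ₗ[ZMod 2] ((Fin k ⊕ Fin k) ⊕ Fin 2 → ZMod 2), ∀ v, T a v = Cfsg.quadFormMinus k (ZMod 2) 1 1 (g v)) := by
    intro a
    have hp : ∀ u v, QuadraticMap.polar (T a) u v = QuadraticMap.polar Q u v := fun u v => by
      simp only [QuadraticMap.polar, T, map_add]; ring
    let Qa : QuadraticForm (ZMod 2) V := QuadraticMap.ofPolar (T a)
      (fun c v => by
        have hc : c * c = c := by revert c; decide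
        simp only [T, map_smul, QuadraticMap.map_smul, smul_eq_mul, hc]
        ring)
      (fun u u' v => by simp only [hp]; exact QuadraticMap.polar_add_left Q u u' v)
      (fun c u v => by simp only [hp]; exact QuadraticMap.polar_smul_left Q c u v)
    have hQa : (QuadraticMap.polarBilin Qa).Nondegenerate :=
      ⟨fun u hu => hnd.1 u fun v => (hp u v).symm.trans (hu v), fun v hv => hnd.2 v fun u => (hp u v).symm.trans (hv u)⟩
    have hdim : Module.finrank (ZMod 2) V = 2 * (k + 1) := by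
      simp only [V]
      rw [Module.finrank_pi, Fintype.card_sum, Fintype.card_fin]; ring
    have count : (Q a = 0 → (Nat.card {v : V // T a v = 0} : ℤ) = 2 ^ (2 * k + 1) + 2 ^ k) ∧
        (Q a ≠ 0 → (Nat.card {v : V // T a v = 0} : ℤ) = 2 ^ (2 * k + 1) - 2 ^ k) := by
      refine ⟨fun ha => ?_, fun ha => ?_⟩
      · rw [hN, ha, hz]
      · rw [hN, h01 _ ha, Nat.card_congr (Equiv.subtypeEquivRight fun v => (⟨fun h => by rw [h]; decide, h01 _⟩ : Q v = 1 ↔ Q v ≠ 0))]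
        linarith
    have cp : (∃ g : V ≃ₗ[ZMod 2] V, ∀ v, T a v = Q (g v)) → Q a = 0 := fun h => by
      by_contra ha
      have := count.2 ha
      rw [hcongr (W := V) (⇑Q) (T a) h, hz] at this
      linarith
    have cm : (∃ g : V ≃ₗ[ZMod 2] ((Fin k ⊕ Fin k) ⊕ Fin 2 → ZMod 2), ∀ v, T a v = Cfsg.quadFormMinus k (ZMod 2) 1 1 (g v)) → Q a ≠ 0 := fun h ha => by
      have := count.1 ha
      rw [hcongr _ _ h, hminus] at this
      linarith
    rcases CfsgLib.Orth.FieldCls.exists_even_normal Qa hQa (k := k) hdim hab with ⟨L, hL, hLS⟩ | ⟨L, hL, hLS⟩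
    · have hg : ∃ g : V ≃ₗ[ZMod 2] V, ∀ v, T a v = Q (g v) := ⟨(LinearMap.linearEquivOfInjective L hL rfl).symm, fun v => by
        rw [hQ, ← hLS]
        exact congrArg (T a) ((LinearMap.linearEquivOfInjective L hL rfl).apply_symm_apply v).symm⟩
      exact ⟨⟨fun _ => hg, cp⟩, ⟨fun ha => absurd (cp hg) ha, cm⟩⟩
    · have hd : Module.finrank (ZMod 2) ((Fin k ⊕ Fin k) ⊕ Fin 2 → ZMod 2) = Module.finrank (ZMod 2) V := by
        rw [hdim, Module.finrank_pi, Fintype.card_sum, Fintype.card_sum, Fintype.card_fin, Fintype.card_fin]; ring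
      have hg : ∃ g : V ≃ₗ[ZMod 2] ((Fin k ⊕ Fin k) ⊕ Fin 2 → ZMod 2), ∀ v, T a v = Cfsg.quadFormMinus k (ZMod 2) 1 1 (g v) :=
        ⟨(LinearMap.linearEquivOfInjective L hL hd).symm, fun v => by
          rw [← hLS]
          exact congrArg (T a) ((LinearMap.linearEquivOfInjective L hL hd).apply_symm_apply v).symm⟩
      exact ⟨⟨fun ha => absurd ha (cm hg), cp⟩, ⟨fun _ => hg, cm⟩⟩
  refine ⟨?_, fun q hq => ?_, ?_, ?_⟩
  · rw [← Nat.card_eq_of_bijective (fun a : V => (⟨T a, hT a⟩ : {q // P q}))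
      ⟨fun a b h => hTinj (congrArg Subtype.val h), fun q => (hTsurj q.1 q.2).imp fun a h => Subtype.ext h⟩,
      Nat.card_eq_fintype_card, Fintype.card_fun, ZMod.card, Fintype.card_sum, Fintype.card_fin]
    ring
  · obtain ⟨a, rfl⟩ := hTsurj q hq
    by_cases ha : Q a = 0
    · exact Or.inl ((main a).1.1 ha)
    · exact Or.inr ((main a).2.1 ha)
  · rw [← Nat.card_eq_of_bijective (fun a : {a : V // Q a = 0} => (⟨T a.1, hT a.1, (main a.1).1.1 a.2⟩ :
        {q // P q ∧ ∃ g : V ≃ₗ[ZMod 2] V, ∀ v, q v = Q (g v)}))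
      ⟨fun a b h => Subtype.ext (hTinj (congrArg Subtype.val h)), fun ⟨q, hq, hg⟩ => by
        obtain ⟨a, rfl⟩ := hTsurj q hq
        exact ⟨⟨a, (main a).1.2 hg⟩, rfl⟩⟩]
    zify
    rw [hz]
    congr 2
  · refine ((Nat.card_eq_of_bijective (fun a : {a : V // Q a ≠ 0} => (⟨T a.1, hT a.1, (main a.1).2.1 a.2⟩ :
        {q // P q ∧ ∃ g : V ≃ₗ[ZMod 2] ((Fin k ⊕ Fin k) ⊕ Fin 2 → ZMod 2), ∀ v, q v = Cfsg.quadFormMinus k (ZMod 2) 1 1 (g v)}))
      ⟨fun a b h => Subtype.ext (hTinj (congrArg Subtype.val h)), fun ⟨q, hq, hg⟩ => by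
        obtain ⟨a, rfl⟩ := hTsurj q hq
        exact ⟨⟨a, (main a).2.2 hg⟩, rfl⟩⟩).symm).trans ?_
    have hle : 2 ^ k ≤ 2 ^ (2 * (k + 1) - 1) := Nat.pow_le_pow_right two_pos (by omega)
    zify [hle]
    rw [show 2 * (k + 1) - 1 = 2 * k + 1 by omega]
    linarith

end Cfsg.Agent.S2561
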