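import Cfsg.Statements.S2562
import Cfsg.Agent.Lib.Classical.BinaryForms

set_option autoImplicit false
open Cfsg

namespace Cfsg.Agent.S2562

/-- Witt indices over the field of two elements, m ≥ 1: for the plus-type form Σ xᵢyᵢ in dimension 2m some m-dimensional subspace is totally singular and no totally singular subspace has larger dimension; for the minus-type form Σ xᵢyᵢ + (z₁² + z₁z₂ + z₂²) in dimension 2m the maximal dimension of a totally singular subspace is m − 1. -/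
theorem result (m : ℕ) (hm : 1 ≤ m) :
    (∃ U : Submodule (ZMod 2) (Fin m ⊕ Fin m → ZMod 2), (∀ u ∈ U, Cfsg.quadFormPlus m (ZMod 2) u = 0) ∧ Module.finrank (ZMod 2) ↥U = m) ∧
    (∀ U : Submodule (ZMod 2) (Fin m ⊕ Fin m → ZMod 2), (∀ u ∈ U, Cfsg.quadFormPlus m (ZMod 2) u = 0) → Module.finrank (ZMod 2) ↥U ≤ m) ∧
    (∃ U : Submodule (ZMod 2) ((Fin (m - 1) ⊕ Fin (m - 1)) ⊕ Fin 2 → ZMod 2), (∀ u ∈ U, Cfsg.quadFormMinus (m - 1) (ZMod 2) 1 1 u = 0) ∧ Module.finrank (ZMod 2) ↥U = m - 1) ∧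
    (∀ U : Submodule (ZMod 2) ((Fin (m - 1) ⊕ Fin (m - 1)) ⊕ Fin 2 → ZMod 2), (∀ u ∈ U, Cfsg.quadFormMinus (m - 1) (ZMod 2) 1 1 u = 0) → Module.finrank (ZMod 2) ↥U ≤ m - 1) := by
  classical
  refine ⟨?_, fun U hU => ?_, ?_, fun U hU => ?_⟩
  · refine ⟨LinearMap.range ((LinearEquiv.sumArrowLequivProdArrow (Fin m) (Fin m) (ZMod 2) (ZMod 2)).symm.toLinearMap.comp
      (LinearMap.inl _ _ _)), ?_, ?_⟩
    · rintro _ ⟨x, rfl⟩
      simp [Cfsg.quadFormPlus, LinearEquiv.sumArrowLequivProdArrow, Equiv.sumArrowEquivProdArrow]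
    · exact (LinearMap.finrank_range_of_inj (by
        simp only [LinearMap.coe_comp, LinearEquiv.coe_coe]
        exact (LinearEquiv.injective _).comp LinearMap.inl_injective)).trans (Module.finrank_fin_fun (ZMod 2))
  · refine CfsgLib.Classical.BinaryForms.finrank_le (LinearMap.funLeft _ _ Sum.inl) (LinearMap.funLeft _ _ Sum.inr)
      (0 : _ →ₗ[ZMod 2] ZMod 2) id (fun c h => h) (fun v h1 h2 _ => ?_) U fun u hu => ?_
    · funext i
      rcases i with i | i
      · exact congrFun h1 i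
      · exact congrFun h2 i
    · simpa [Cfsg.quadFormPlus] using hU u hu
  · refine ⟨LinearMap.range (((LinearEquiv.sumArrowLequivProdArrow (Fin (m - 1) ⊕ Fin (m - 1)) (Fin 2) (ZMod 2) (ZMod 2)).symm.toLinearMap.comp
      (LinearMap.inl _ _ _)).comp ((LinearEquiv.sumArrowLequivProdArrow (Fin (m - 1)) (Fin (m - 1)) (ZMod 2) (ZMod 2)).symm.toLinearMap.comp
      (LinearMap.inl _ _ _))), ?_, ?_⟩
    · rintro _ ⟨x, rfl⟩
      simp [Cfsg.quadFormMinus, LinearEquiv.sumArrowLequivProdArrow, Equiv.sumArrowEquivProdArrow]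
    · exact (LinearMap.finrank_range_of_inj (by
        simp only [LinearMap.coe_comp, LinearEquiv.coe_coe]
        exact ((LinearEquiv.injective _).comp LinearMap.inl_injective).comp
          ((LinearEquiv.injective _).comp LinearMap.inl_injective))).trans (Module.finrank_fin_fun (ZMod 2))
  · refine CfsgLib.Classical.BinaryForms.finrank_le (LinearMap.funLeft _ _ (Sum.inl ∘ Sum.inl)) (LinearMap.funLeft _ _ (Sum.inl ∘ Sum.inr))
      (LinearMap.funLeft (ZMod 2) (ZMod 2) (Sum.inr : Fin 2 → _)) (fun z => z 0 ^ 2 + 1 * z 0 * z 1 + 1 * z 1 ^ 2)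
      (fun c h => ?_) (fun v h1 h2 h3 => ?_) U fun u hu => ?_
    · have key : ∀ a b : ZMod 2, a ^ 2 + 1 * a * b + 1 * b ^ 2 = 0 → a = 0 ∧ b = 0 := by decide
      obtain ⟨h0, h1⟩ := key _ _ h
      funext i
      fin_cases i
      · exact h0
      · exact h1
    · funext i
      rcases i with (i | i) | i
      · exact congrFun h1 i
      · exact congrFun h2 i
      · exact congrFun h3 i
    · exact hU u hu

end Cfsg.Agent.S2562
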