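import Cfsg.Statements.S2565
import Cfsg.Agent.Lib.Classical.PermModuleTwo

set_option autoImplicit false
open Cfsg

namespace Cfsg.Agent.S2565

/-- The commutator subgroup of the full orthogonal group of the plus-type form Σ xᵢyᵢ in dimension 6 over the field of two elements (the group Ω⁺₆(2), of index 2) is isomorphic to the alternating group of degree 8. -/
theorem result :
    (Cfsg.Omega (ZMod 2) (Cfsg.quadFormPlus 3 (ZMod 2))).index = 2 ∧
    Nonempty (↥(Cfsg.Omega (ZMod 2) (Cfsg.quadFormPlus 3 (ZMod 2))) ≃* alternatingGroup (Fin 8)) := by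
  classical
  obtain ⟨φ, hφ⟩ := (CfsgLib.Classical.PermModuleTwo.main (N := 7) (k := 1) le_rfl rfl).1 odd_one
  have hc : Nat.card ↥(Cfsg.isometryGroup (ZMod 2) (Cfsg.quadFormPlus 3 (ZMod 2))) = Nat.card (Equiv.Perm (Fin 8)) := by
    rw [CfsgLib.Classical.card_iso_plus (F := ZMod 2) 2, Nat.card_perm, Nat.card_fin, ZMod.card]
    simp [Finset.prod_range_succ, Nat.factorial]
  have hbij : Function.Bijective φ := (Nat.bijective_iff_injective_and_card φ).2 ⟨hφ, hc.symm⟩
  let E := MulEquiv.ofBijective φ hbij
  have halt : commutator (Equiv.Perm (Fin 8)) = alternatingGroup (Fin 8) := by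
    refine le_antisymm alternatingGroup.commutator_perm_le ?_
    rw [← commutator_alternatingGroup_eq_self (α := Fin 8) (by simp), commutator_def]
    exact Subgroup.commutator_mono le_top le_top
  have hmap : Cfsg.Omega (ZMod 2) (Cfsg.quadFormPlus 3 (ZMod 2)) = (alternatingGroup (Fin 8)).map E.toMonoidHom := by
    rw [← halt, commutator_def, Subgroup.map_commutator, ← MonoidHom.range_eq_map, MonoidHom.range_eq_top.2 (show Function.Surjective E.toMonoidHom from E.surjective)]
    rfl
  refine ⟨?_, ⟨(MulEquiv.subgroupCongr hmap).trans (E.subgroupMap _).symm⟩⟩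
  rw [hmap]
  exact (Subgroup.index_map_equiv _ E).trans alternatingGroup.index_eq_two

end Cfsg.Agent.S2565
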