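import Cfsg.Statements.S2567
import Mathlib

set_option autoImplicit false
open Cfsg

namespace Cfsg.Agent.S2567

/-- Lifting elements of prime order from PGL to GL: let F be a finite field with q elements, r a prime not dividing q − 1, and x an element of order r in GL_n(F) modulo its centre (the scalar matrices). Then x has exactly one preimage in GL_n(F) of order r. -/
theorem result {F : Type*} [Field F] [Fintype F] {q n r : ℕ} (hF : Fintype.card F = q) (hr : r.Prime) (hdiv : ¬ r ∣ q - 1) (x : GL (Fin n) F ⧸ Subgroup.center (GL (Fin n) F)) (hx : orderOf x = r) : ∃! g : GL (Fin n) F, (QuotientGroup.mk g : GL (Fin n) F ⧸ Subgroup.center (GL (Fin n) F)) = x ∧ orderOf g = r := by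
  classical
  subst hF
  obtain ⟨g0, rfl⟩ := QuotientGroup.mk_surjective x
  have hco : (Nat.card Fˣ).Coprime r := by
    rw [Nat.card_units, Nat.card_eq_fintype_card]
    exact ((hr.coprime_iff_not_dvd).2 hdiv).symm
  have hbij : Function.Bijective fun u : Fˣ => u ^ r := (powCoprime hco).bijective
  have hcen : ∀ z ∈ Subgroup.center (GL (Fin n) F), ∃ u : Fˣ,
      z = Units.map (Matrix.scalar (Fin n)).toMonoidHom u := by
    intro z hz
    rw [Matrix.GeneralLinearGroup.center_eq_range_scalar] at hz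
    obtain ⟨u, rfl⟩ := hz
    exact ⟨u, rfl⟩
  have hz : g0 ^ r ∈ Subgroup.center (GL (Fin n) F) := by
    rw [← QuotientGroup.eq_one_iff, QuotientGroup.mk_pow, ← hx, pow_orderOf_eq_one]
  obtain ⟨c, hc⟩ := hcen _ hz
  obtain ⟨d, hd⟩ := hbij.2 c
  let S : Fˣ →* GL (Fin n) F := Units.map (Matrix.scalar (Fin n)).toMonoidHom
  have hSc : ∀ (u : Fˣ) (g : GL (Fin n) F), S u * g = g * S u := by
    intro u g
    refine Units.ext ?_
    change Matrix.scalar (Fin n) (u : F) * (g : Matrix (Fin n) (Fin n) F) = _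
    exact (Matrix.scalar_commute _ (fun r => Commute.all _ r) _).eq
  have hSmem : ∀ u, S u ∈ Subgroup.center (GL (Fin n) F) := fun u =>
    Subgroup.mem_center_iff.2 fun g => (hSc u g).symm
  refine ⟨g0 * S d⁻¹, ⟨?_, ?_⟩, ?_⟩
  · rw [QuotientGroup.eq, show (g0 * S d⁻¹)⁻¹ * g0 = (S d⁻¹)⁻¹ by group]
    exact Subgroup.inv_mem _ (hSmem _)
  · haveI : Fact r.Prime := ⟨hr⟩
    refine orderOf_eq_prime ?_ ?_
    · rw [(show Commute g0 (S d⁻¹) from (hSc _ _).symm).mul_pow, hc, ← map_pow, inv_pow,
        show d ^ r = c from hd]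
      change S c * S c⁻¹ = 1
      rw [← map_mul, mul_inv_cancel, map_one]
    · intro h
      have h1 : (QuotientGroup.mk g0 : GL (Fin n) F ⧸ Subgroup.center (GL (Fin n) F)) = 1 := by
        rw [QuotientGroup.eq_one_iff, show g0 = (S d⁻¹)⁻¹ by
          rw [eq_inv_iff_mul_eq_one]; exact h]
        exact Subgroup.inv_mem _ (hSmem _)
      rw [h1, orderOf_one] at hx
      exact hr.one_lt.ne hx
  · rintro g ⟨hg, hgr⟩
    obtain ⟨u, hu⟩ := hcen _ (QuotientGroup.eq.1 hg)
    have hu' : g0 = g * S u := by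
      rw [show S u = g⁻¹ * g0 from hu.symm]; group
    have hcr : S c = S (u ^ r) := by
      rw [map_pow, show S c = g0 ^ r from hc.symm, hu',
        (show Commute g (S u) from (hSc _ _).symm).mul_pow, ← hgr, pow_orderOf_eq_one, one_mul]
    have hcu : c = u ^ r := by
      rcases Nat.eq_zero_or_pos n with rfl | hn0
      · exfalso
        have : g = 1 := Subsingleton.elim _ _
        rw [this, orderOf_one] at hgr
        exact hr.one_lt.ne hgr
      · have h2 := congrArg (fun x : GL (Fin n) F => (x : Matrix (Fin n) (Fin n) F) ⟨0, hn0⟩ ⟨0, hn0⟩) hcr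
        simp [S, Matrix.diagonal_pow] at h2
        exact Units.ext (by simpa using h2)
    have hdu : d = u := hbij.1 (show d ^ r = u ^ r by rw [← hcu]; exact hd)
    rw [hu', hdu, mul_assoc, ← map_mul, mul_inv_cancel, map_one, mul_one]

end Cfsg.Agent.S2567
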