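import Cfsg.Statements.S2569
import Cfsg.Agent.Lib.GLClass.SemisimpleCount

set_option autoImplicit false
open Cfsg

namespace Cfsg.Agent.S2569

/-- In GL_n over a finite field of characteristic p, the conjugacy class of a semisimple element (an element of order prime to p) under the special linear group is its whole GL-conjugacy class: for every such x and every invertible g there is h of determinant one with h x h⁻¹ = g x g⁻¹. -/
theorem result {F : Type*} [Field F] [Fintype F] {p : ℕ} [Fact p.Prime] [CharP F p] {n : ℕ} (x g : GL (Fin n) F) (hx : (orderOf x).Coprime p) : ∃ h : GL (Fin n) F, (h : Matrix (Fin n) (Fin n) F).det = 1 ∧ h * x * h⁻¹ = g * x * g⁻¹ := by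
  rcases Nat.eq_zero_or_pos n with rfl | hn
  · exact ⟨1, by simp, Subsingleton.elim _ _⟩
  · haveI : Nonempty (Fin n) := ⟨⟨0, hn⟩⟩
    have hg : (g : Matrix (Fin n) (Fin n) F).det ≠ 0 :=
      ((Matrix.isUnit_iff_isUnit_det _).1 g.isUnit).ne_zero
    obtain ⟨D, hD, hdet⟩ := CfsgLib.GLClass.exists_commute_det
      (CfsgLib.GLClass.isSS_of_coprime p x hx) _ (inv_ne_zero hg)
    have hDu : IsUnit D := (Matrix.isUnit_iff_isUnit_det _).2
      (by rw [hdet]; exact (inv_ne_zero hg).isUnit)
    have hc : hDu.unit * x = x * hDu.unit := Units.ext hD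
    refine ⟨g * hDu.unit, ?_, ?_⟩
    · rw [Units.val_mul, Matrix.det_mul, IsUnit.unit_spec, hdet, mul_inv_cancel₀ hg]
    · calc g * hDu.unit * x * (g * hDu.unit)⁻¹
          = g * (hDu.unit * x) * hDu.unit⁻¹ * g⁻¹ := by group
        _ = g * (x * hDu.unit) * hDu.unit⁻¹ * g⁻¹ := by rw [hc]
        _ = _ := by group

end Cfsg.Agent.S2569
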