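import Cfsg.Statements.S2570
import Cfsg.Agent.Lib.GLClass.JordanType

set_option autoImplicit false
open Cfsg

namespace Cfsg.Agent.S2570

/-- Number of conjugacy classes of elements of order p in GL_n over a finite field of characteristic p: they correspond to the Jordan types, that is, to the partitions of n with all parts at most p other than the partition into ones, so there are (number of partitions of n with parts ≤ p) − 1 of them. -/
theorem result {F : Type*} [Field F] [Fintype F] {p : ℕ} [Fact p.Prime] [CharP F p] (n : ℕ) : Nat.card {C : ConjClasses (GL (Fin n) F) // ∃ g : GL (Fin n) F, ConjClasses.mk g = C ∧ orderOf g = p} = (Finset.univ.filter (fun μ : Nat.Partition n => ∀ a ∈ μ.parts, a ≤ p)).card - 1 := by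
  classical
  have hp := (Fact.out : p.Prime)
  let ones : n.Partition := ⟨Multiset.replicate n 1,
    fun hi => by rw [Multiset.eq_of_mem_replicate hi]; exact Nat.one_pos, by simp⟩
  have hones : ∀ μ : n.Partition, (∀ a ∈ μ.parts, a ≤ 1) ↔ μ = ones := by
    intro μ
    refine ⟨fun h => Nat.Partition.ext ?_, fun h a ha => ?_⟩
    · have h1 : μ.parts = Multiset.replicate (Multiset.card μ.parts) 1 :=
        Multiset.eq_replicate.2 ⟨rfl, fun a ha => le_antisymm (h a ha) (μ.parts_pos ha)⟩
      have h2 := congrArg Multiset.sum h1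
      rw [μ.parts_sum, Multiset.sum_replicate, smul_eq_mul, mul_one] at h2
      rw [h1, ← h2]
    · subst h
      exact (Multiset.eq_of_mem_replicate ha).le
  set T := Finset.univ.filter (fun μ : Nat.Partition n => ∀ a ∈ μ.parts, a ≤ p) with hT
  have h := CfsgLib.GLClass.card_classes_of_type (F := F) (T.erase ones)
    (fun g => orderOf g = p) fun g => by
    rw [CfsgLib.GLClass.orderOf_eq_char_iff p g]
    have hg1 : g ≠ 1 ↔ ¬ ((g : Matrix (Fin n) (Fin n) F) - 1) ^ 1 = 0 := by
      rw [pow_one, sub_eq_zero, Units.val_eq_one]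
    rw [hg1]
    constructor
    · rintro ⟨hne, hpz⟩
      obtain ⟨μ, hμ⟩ := CfsgLib.GLClass.exists_hasType ⟨p, hpz⟩
      refine ⟨μ, Finset.mem_erase.2 ⟨fun he => hne ((hμ.pow_eq_zero_iff 1).2 ((hones μ).2 he)),
        Finset.mem_filter.2 ⟨Finset.mem_univ _, (hμ.pow_eq_zero_iff p).1 hpz⟩⟩, hμ⟩
    · rintro ⟨μ, hμS, hμ⟩
      obtain ⟨hne, hm⟩ := Finset.mem_erase.1 hμS
      exact ⟨fun h1 => hne ((hones μ).1 ((hμ.pow_eq_zero_iff 1).1 h1)),
        (hμ.pow_eq_zero_iff p).2 (Finset.mem_filter.1 hm).2⟩
  rw [h, Finset.card_erase_of_mem (Finset.mem_filter.2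
    ⟨Finset.mem_univ _, fun a ha => ((hones ones).2 rfl a ha).trans hp.one_le⟩)]

end Cfsg.Agent.S2570
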