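import Cfsg.Statements.S2572
import Cfsg.Agent.Lib.GLClass.TransvCentralizer

set_option autoImplicit false
open Cfsg

namespace Cfsg.Agent.S2572

/-- Centraliser of a transvection in GL_n(q), n ≥ 2: if t − 1 has rank one and square zero, the centraliser of t in GL_n(q) has order q^(2n−3) (q − 1) |GL_(n−2)(q)| (a group of order q^(2n−3) extended by GL_1(q) × GL_(n−2)(q)). -/
theorem result {F : Type*} [Field F] [Fintype F] {q n : ℕ} (hF : Fintype.card F = q) (hn : 2 ≤ n) (t : GL (Fin n) F) (ht : Cfsg.IsTransvection (t : Matrix (Fin n) (Fin n) F)) : Nat.card ↥(Subgroup.centralizer ({t} : Set (GL (Fin n) F))) = q ^ (2 * n - 3) * (q - 1) * ∏ i : Fin (n - 2), (q ^ (n - 2) - q ^ (i : ℕ)) := by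
  classical
  obtain ⟨m, rfl⟩ : ∃ m, n = 1 + m + 1 := ⟨n - 2, by omega⟩
  have hA := CfsgLib.GLClass.isConj_corner ht.2
  rw [ht.1] at hA
  obtain ⟨c, hc⟩ := hA
  let e : CfsgLib.GLClass.Idx m ≃ Fin (1 + m + 1) :=
    (Equiv.sumCongr finSumFinEquiv (Equiv.refl _)).trans finSumFinEquiv
  let Φ : GL (CfsgLib.GLClass.Idx m) F ≃* GL (Fin (1 + m + 1)) F :=
    Units.mapEquiv (Matrix.reindexAlgEquiv F F e).toMulEquiv
  have hE : Matrix.reindex e e (CfsgLib.GLClass.cornerE m F)
      = CfsgLib.GLClass.corner (1 + m + 1) 1 F := by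
    ext i j
    obtain ⟨i, rfl⟩ := e.surjective i
    obtain ⟨j, rfl⟩ := e.surjective j
    rw [Matrix.reindex_apply, Matrix.submatrix_apply, e.symm_apply_apply, e.symm_apply_apply]
    rcases i with (a | b) | d <;> rcases j with (a' | b') | d' <;>
      simp [CfsgLib.GLClass.cornerE, CfsgLib.GLClass.corner, e, finSumFinEquiv_apply_left,
        finSumFinEquiv_apply_right, Subsingleton.elim _ (0 : Fin 1), Fin.castAdd, Fin.castLE, Fin.natAdd] <;> omega
  have h1 : ∀ g : GL (CfsgLib.GLClass.Idx m) F,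
      (g : Matrix _ _ F) * CfsgLib.GLClass.cornerE m F
        = CfsgLib.GLClass.cornerE m F * (g : Matrix _ _ F) ↔
      c⁻¹ * Φ g * c ∈ Subgroup.centralizer {t} := by
    intro g
    let N := CfsgLib.GLClass.corner (1 + m + 1) 1 F
    have hc' : ((c * t : GL (Fin (1 + m + 1)) F) : Matrix _ _ F) = (1 + N) * (c : Matrix _ _ F) :=
      hc.eq
    rw [Subgroup.mem_centralizer_singleton_iff]
    have h2 : c⁻¹ * Φ g * c * t = t * (c⁻¹ * Φ g * c) ↔
        Φ g * (c * t * c⁻¹) = (c * t * c⁻¹) * Φ g := by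
      constructor <;> intro h
      · calc Φ g * (c * t * c⁻¹) = c * (c⁻¹ * Φ g * c * t) * c⁻¹ := by group
          _ = c * (t * (c⁻¹ * Φ g * c)) * c⁻¹ := by rw [h]
          _ = _ := by group
      · calc c⁻¹ * Φ g * c * t = c⁻¹ * (Φ g * (c * t * c⁻¹)) * c := by group
          _ = c⁻¹ * ((c * t * c⁻¹) * Φ g) * c := by rw [h]
          _ = _ := by group
    rw [h2, Units.ext_iff]
    have h3 : ((c * t * c⁻¹ : GL (Fin (1 + m + 1)) F) : Matrix _ _ F) = 1 + N := by
      rw [Units.val_mul, hc', mul_assoc, Units.mul_inv, mul_one]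
    rw [Units.val_mul (Φ g) (c * t * c⁻¹), Units.val_mul (c * t * c⁻¹) (Φ g), h3, mul_add, add_mul, mul_one, one_mul, add_right_inj]
    have h4 : N = Matrix.reindexAlgEquiv F F e (CfsgLib.GLClass.cornerE m F) := hE.symm
    have h5 : (Φ g : Matrix _ _ F) = Matrix.reindexAlgEquiv F F e (g : Matrix _ _ F) := rfl
    rw [h4, h5, ← map_mul, ← map_mul, (Matrix.reindexAlgEquiv F F e).injective.eq_iff]
  have h6 : Nat.card ↥(Subgroup.centralizer ({t} : Set (GL (Fin (1 + m + 1)) F))) =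
      Nat.card {g : GL (CfsgLib.GLClass.Idx m) F // (g : Matrix _ _ F) * CfsgLib.GLClass.cornerE m F
        = CfsgLib.GLClass.cornerE m F * (g : Matrix _ _ F)} := by
    refine (Nat.card_congr (Equiv.subtypeEquiv
      (Φ.toEquiv.trans (MulAut.conj c⁻¹).toEquiv) fun g => ?_)).symm
    rw [h1 g]
    simp [MulAut.conj_apply]
  rw [h6, CfsgLib.GLClass.card_commuting_cornerE, hF]
  have e1 : 2 * (1 + m + 1) - 3 = 2 * m + 1 := by omega
  have e2 : 1 + m + 1 - 2 = m := by omega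
  rw [e1, e2]

end Cfsg.Agent.S2572
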