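import Cfsg.Statements.S2575
import Cfsg.Agent.Lib.Classical.NegOnePow

set_option autoImplicit false
open Cfsg

namespace Cfsg.Agent.S2575

/-- Which diagonal involutions of PGL_n(q) lie in PSL_n(q), q odd: for the diagonal matrix t with i entries −1 and n − i entries 1, some non-zero scalar multiple of t has determinant one if and only if i is even or the 2-part of q − 1 exceeds the 2-part of n (that is, −1 is an n-th power in the field exactly in the latter case). -/
theorem result {F : Type*} [Field F] [Fintype F] {q : ℕ} (hF : Fintype.card F = q) (hq : Odd q) {n : ℕ} (hn : 1 ≤ n) (i : ℕ) (hi : i ≤ n) : (∃ c : F, c ≠ 0 ∧ (c • Matrix.diagonal (fun j : Fin n => if (j : ℕ) < i then (-1 : F) else 1)).det = 1) ↔ (Even i ∨ padicValNat 2 n < padicValNat 2 (q - 1)) := by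
  classical
  have h2 : (2 : F) ≠ 0 := Ring.two_ne_zero fun h => by
    have := FiniteField.even_card_of_char_two h
    rw [hF] at this
    exact Nat.not_even_iff_odd.2 hq (Nat.even_iff.2 this)
  have hdet : ∀ c : F, (c • Matrix.diagonal (fun j : Fin n => if (j : ℕ) < i then (-1 : F) else 1)).det = c ^ n * (-1) ^ i := by
    intro c
    rw [Matrix.det_smul, Matrix.det_diagonal, Fintype.card_fin, Finset.prod_ite, Finset.prod_const, Finset.prod_const_one,
      Fin.card_filter_val_lt, Nat.min_eq_right hi, mul_one]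
  simp only [hdet]
  rcases Nat.even_or_odd i with he | ho
  · simp only [he.neg_one_pow, mul_one, he, true_or, iff_true]
    exact ⟨1, one_ne_zero, one_pow n⟩
  simp only [ho.neg_one_pow, Nat.not_even_iff_odd.2 ho, false_or]
  have h1 : (∃ c : F, c ≠ 0 ∧ c ^ n * -1 = 1) ↔ ∃ c : Fˣ, c ^ n = -1 :=
    ⟨fun ⟨c, hc, e⟩ => ⟨Units.mk0 c hc, Units.ext (by simp; linear_combination -e)⟩,
      fun ⟨c, e⟩ => ⟨c, c.ne_zero, by rw [← Units.val_pow_eq_pow_val, e]; simp⟩⟩
  rw [h1, ← hF, ← Fintype.card_units]
  exact CfsgLib.NegOnePow.exists_pow_eq_neg_one_iff h2 (by omega)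

end Cfsg.Agent.S2575
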