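import Cfsg.Statements.S2578
import Cfsg.Agent.Lib.GLClass.Regular

set_option autoImplicit false
open Cfsg

namespace Cfsg.Agent.S2578

/-- Regular unipotent classes of SL_n(q): for n ≥ 2 over the field with q elements, the matrices u of determinant one with (u − 1)^n = 0 and rank(u − 1) = n − 1 form a single GL_n(q)-class which splits into exactly gcd(n, q − 1) conjugacy classes of SL_n(q). -/
theorem result {F : Type*} [Field F] [Fintype F] {q : ℕ} (hF : Fintype.card F = q) {n : ℕ} (hn : 2 ≤ n) : Nat.card {C : ConjClasses (Matrix.SpecialLinearGroup (Fin n) F) // ∃ u : Matrix.SpecialLinearGroup (Fin n) F, ConjClasses.mk u = C ∧ ((u : Matrix (Fin n) (Fin n) F) - 1) ^ n = 0 ∧ ((u : Matrix (Fin n) (Fin n) F) - 1).rank = n - 1} = Nat.gcd n (q - 1) := by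
  classical
  haveI : NeZero n := ⟨by omega⟩
  have hblk := CfsgLib.GLClass.isBlock_shiftMat (n := n) (F := F)
  have hdet : (1 + CfsgLib.GLClass.shiftMat n F).det = 1 := by
    rw [Matrix.det_of_upperTriangular]
    · refine Finset.prod_eq_one fun i _ => ?_
      simp [CfsgLib.GLClass.shiftMat]
    · intro i j hij
      simp only [id] at hij
      have hne : i ≠ j := (ne_of_lt hij).symm
      simp [CfsgLib.GLClass.shiftMat, Matrix.one_apply_ne hne]
      omega
  let x : Matrix.SpecialLinearGroup (Fin n) F := ⟨_, hdet⟩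
  have hx : CfsgLib.GLClass.IsBlock ((x : Matrix (Fin n) (Fin n) F) - 1) := by
    simpa [x] using hblk
  have hiff : ∀ u : Matrix.SpecialLinearGroup (Fin n) F,
      IsConj (Matrix.SpecialLinearGroup.toGL x) (Matrix.SpecialLinearGroup.toGL u) ↔
      (((u : Matrix (Fin n) (Fin n) F) - 1) ^ n = 0 ∧
        ((u : Matrix (Fin n) (Fin n) F) - 1).rank = n - 1) := by
    intro u
    constructor
    · intro h
      obtain ⟨c, hc⟩ := isConj_iff.1 h
      have hM : IsConj (x : Matrix (Fin n) (Fin n) F) (u : Matrix (Fin n) (Fin n) F) := by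
        refine ⟨c, ?_⟩
        exact congrArg Units.val (mul_inv_eq_iff_eq_mul.1 hc)
      have hr := fun j => CfsgLib.GLClass.rank_aeval_eq_of_isConj hM
        ((Polynomial.X - Polynomial.C (1 : F)) ^ j)
      simp only [map_pow, CfsgLib.GLClass.aeval_X_sub_one, hx.rank_pow] at hr
      refine ⟨?_, by simpa using (hr 1).symm⟩
      apply Matrix.ext_of_mulVec_single
      intro i
      have h0 := (hr n).symm
      rw [Nat.sub_self, Matrix.rank, Submodule.finrank_eq_zero, LinearMap.range_eq_bot] at h0
      rw [Matrix.zero_mulVec, ← Matrix.mulVecLin_apply, h0, LinearMap.zero_apply]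
    · exact fun h => CfsgLib.GLClass.isConj_units
        (CfsgLib.GLClass.isConj_of_isBlock hx ⟨h.1, h.2⟩)
  have h := CfsgLib.GLClass.card_sl_classes x
  simp only [hiff] at h
  rw [h, CfsgLib.GLClass.det_centralizer_block hx (by omega) rfl,
    IsCyclic.index_powMonoidHom_range, Nat.card_units, Nat.card_eq_fintype_card, hF, Nat.gcd_comm]

end Cfsg.Agent.S2578
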