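import Cfsg.Statements.S2579
import Cfsg.Agent.Lib.GLClass.Special

set_option autoImplicit false
open Cfsg

namespace Cfsg.Agent.S2579

/-- In SL_n(F) with n ≥ 3, over a finite field F, any two transvections (matrices t with t − 1 of rank one and square zero) are conjugate by an element of SL_n(F). -/
theorem result {F : Type*} [Field F] [Finite F] {n : ℕ} (hn : 3 ≤ n) (s t : Matrix.SpecialLinearGroup (Fin n) F) (hs : Cfsg.IsTransvection (s : Matrix (Fin n) (Fin n) F)) (ht : Cfsg.IsTransvection (t : Matrix (Fin n) (Fin n) F)) : IsConj s t := by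
  classical
  have hA := CfsgLib.GLClass.isConj_corner hs.2
  have hB := CfsgLib.GLClass.isConj_corner ht.2
  rw [hs.1] at hA
  rw [ht.1] at hB
  refine CfsgLib.GLClass.sl_isConj hA hB fun d hd => ?_
  refine ⟨Matrix.diagonal (fun k => if k = (⟨1, by omega⟩ : Fin n) then d else 1),
    CfsgLib.GLClass.diagonal_commute_one_add _ _ fun k l hkl => ?_, ?_⟩
  · simp only [CfsgLib.GLClass.corner, Matrix.of_apply, ne_eq, ite_eq_right_iff, not_forall,
      one_ne_zero, not_false_eq_true, exists_prop, and_true] at hkl
    rw [if_neg, if_neg] <;> simp only [Fin.ext_iff] <;> omega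
  · rw [Matrix.det_diagonal, Finset.prod_ite_eq' Finset.univ]
    simp

end Cfsg.Agent.S2579
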