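import Cfsg.Statements.S2581
import Cfsg.Agent.Lib.GLClass.ToeplitzCentralizer

set_option autoImplicit false
open Cfsg

namespace Cfsg.Agent.S2581

/-- Order of the centraliser in GL of a unipotent matrix of given Jordan type over the field with q elements: if the type has a_i blocks of size i (all block sizes at least 1), the invertible matrices commuting with it number q^γ · Π_i |GL_(a_i)(q)| with γ = 2 Σ_(i<j) i a_i a_j + Σ_i (i − 1) a_i² (a group of order q^γ extended by Π GL_(a_i)(q)). -/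
theorem result {F : Type*} [Field F] [Fintype F] {q : ℕ} (hF : Fintype.card F = q) {t : ℕ} (d : Fin t → ℕ) (hd : ∀ k, 1 ≤ d k) : Nat.card {g : GL ((k : Fin t) × Fin (d k)) F // (g : Matrix ((k : Fin t) × Fin (d k)) ((k : Fin t) × Fin (d k)) F) * Cfsg.jordanTypeMatrix d F = Cfsg.jordanTypeMatrix d F * (g : Matrix ((k : Fin t) × Fin (d k)) ((k : Fin t) × Fin (d k)) F)} = q ^ (2 * (∑ i ∈ Finset.range (Finset.univ.sup d + 1), ∑ j ∈ Finset.range (Finset.univ.sup d + 1), if i < j then i * (Finset.univ.filter (fun k : Fin t => d k = i)).card * (Finset.univ.filter (fun k : Fin t => d k = j)).card else 0) + ∑ i ∈ Finset.range (Finset.univ.sup d + 1), (i - 1) * (Finset.univ.filter (fun k : Fin t => d k = i)).card ^ 2) * ∏ i ∈ Finset.range (Finset.univ.sup d + 1), ∏ j : Fin ((Finset.univ.filter (fun k : Fin t => d k = i)).card), (q ^ (Finset.univ.filter (fun k : Fin t => d k = i)).card - q ^ (j : ℕ)) := by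
  classical
  subst hF
  open CfsgLib.GLClass.Toeplitz in
  have e : {g : GL ((k : Fin t) × Fin (d k)) F // (g : Matrix ((k : Fin t) × Fin (d k)) ((k : Fin t) × Fin (d k)) F) * Cfsg.jordanTypeMatrix d F = Cfsg.jordanTypeMatrix d F * (g : Matrix ((k : Fin t) × Fin (d k)) ((k : Fin t) × Fin (d k)) F)} ≃
      {X : Matrix ((k : Fin t) × Fin (d k)) ((k : Fin t) × Fin (d k)) F // IsComm d X ∧ IsUnit (red d X)} :=
    Equiv.ofBijective (fun g => ⟨(g.1 : Matrix ((k : Fin t) × Fin (d k)) ((k : Fin t) × Fin (d k)) F), g.2, (isUnit_iff d hd (X := (g.1 : Matrix ((k : Fin t) × Fin (d k)) ((k : Fin t) × Fin (d k)) F)) g.2).1 g.1.isUnit⟩)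
      ⟨fun a b h => Subtype.ext (Units.ext (congrArg Subtype.val h)), fun X => by
        obtain ⟨u, hu⟩ := (isUnit_iff d hd X.2.1).2 X.2.2
        exact ⟨⟨u, hu.symm ▸ X.2.1⟩, Subtype.ext hu⟩⟩
  open CfsgLib.GLClass.Toeplitz in
  rw [Nat.card_congr e, Nat.card_congr (splitEquiv (F := F) d hd IsUnit), Nat.card_prod, card_blk_units,
    card_ker d hd _ (sum_min_eq d hd), mul_comm]

end Cfsg.Agent.S2581
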