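import Cfsg.Statements.S2586
import Cfsg.Agent.Lib.GLClass.Matrix

set_option autoImplicit false
open Cfsg

namespace Cfsg.Agent.S2586

/-- Over a finite field, every element of the symplectic group Sp_2m(F) is conjugate by an invertible matrix to its inverse. -/
theorem result {F : Type*} [Field F] [Finite F] {m : ℕ} (A : Matrix.symplecticGroup (Fin m) F) : IsConj (A : Matrix (Fin m ⊕ Fin m) (Fin m ⊕ Fin m) F) ((A⁻¹ : Matrix.symplecticGroup (Fin m) F) : Matrix (Fin m ⊕ Fin m) (Fin m ⊕ Fin m) F) := by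
  refine (CfsgLib.GLClass.isConj_transpose _).trans ?_
  have hJ : IsUnit (Matrix.J (Fin m) F) := (Matrix.isUnit_iff_isUnit_det _).2 (Matrix.isUnit_det_J _ _)
  refine ⟨hJ.unit⁻¹, ?_⟩
  show (hJ.unit⁻¹).val * A.1.transpose = (A⁻¹).1 * (hJ.unit⁻¹).val
  set J := Matrix.J (Fin m) F with hJdef
  set J' := (hJ.unit⁻¹).val
  have e1 : J * J' = 1 := hJ.mul_val_inv
  have e2 : J' * J = 1 := hJ.val_inv_mul
  suffices hh : A.1.transpose * J = J * (A⁻¹).1 by
    calc J' * A.1.transpose = J' * (A.1.transpose * J) * J' := by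
          rw [Matrix.mul_assoc J', Matrix.mul_assoc _ J, e1, Matrix.mul_one]
      _ = (A⁻¹).1 * J' := by rw [hh, ← Matrix.mul_assoc J', e2, Matrix.one_mul]
  have h := SymplecticGroup.mem_iff'.1 A.2
  have hi : A.1 * (A⁻¹).1 = 1 := congrArg Subtype.val (mul_inv_cancel A)
  calc A.1.transpose * J = A.1.transpose * J * (A.1 * (A⁻¹).1) := by rw [hi, Matrix.mul_one]
    _ = J * (A⁻¹).1 := by rw [← Matrix.mul_assoc, h]

end Cfsg.Agent.S2586
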