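import Cfsg.Statements.S2594
import Cfsg.Agent.Lib.Classical.SympStab

set_option autoImplicit false
open Cfsg Matrix CfsgLib.Sp CfsgLib.Classical.SympCount

namespace Cfsg.Agent.S2594

/-- Over a finite field with q elements, q even, an element t of Sp_2m(F) with rank(t − 1) = 1 (a symplectic transvection) has centraliser in Sp_2m(F) of order q^(2m−1) · |Sp_(2m−2)(q)| = q^(2m−1) · q^((m−1)²) · Π_(i=1)^(m−1) (q^(2i) − 1). -/
theorem result {F : Type*} [Field F] [Fintype F] [CharP F 2] {q : ℕ} (hF : Fintype.card F = q) {m : ℕ} (hm : 1 ≤ m) (t : Matrix.symplecticGroup (Fin m) F) (ht : ((t : Matrix (Fin m ⊕ Fin m) (Fin m ⊕ Fin m) F) - 1).rank = 1) : Nat.card ↥(Subgroup.centralizer ({t} : Set ↥(Matrix.symplecticGroup (Fin m) F))) = q ^ (2 * m - 1) * (q ^ ((m - 1) ^ 2) * ∏ i : Fin (m - 1), (q ^ (2 * ((i : ℕ) + 1)) - 1)) := by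
  classical
  open CfsgLib.Sp CfsgLib.Classical.SympCount in
  obtain ⟨v, hv, lam, hlam⟩ : ∃ v : Fin m ⊕ Fin m → F, v ≠ 0 ∧ ∃ lam : (Fin m ⊕ Fin m → F) → F,
      ∀ x, t.1 *ᵥ x = x + lam x • v := by
    unfold Matrix.rank at ht
    obtain ⟨⟨v, hv⟩, hv0, hsp⟩ := finrank_eq_one_iff'.1 ht
    have h : ∀ x, ∃ c : F, t.1 *ᵥ x = x + c • v := fun x => by
      obtain ⟨c, hc⟩ := hsp ⟨_, LinearMap.mem_range_self (t.1 - 1).mulVecLin x⟩
      have := congrArg Subtype.val hc
      simp only [SetLike.val_smul, Matrix.mulVecLin_apply, Matrix.sub_mulVec, Matrix.one_mulVec] at this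
      exact ⟨c, by rw [this]; abel⟩
    choose lam hlam using h
    exact ⟨v, fun h => hv0 (Subtype.ext h), lam, hlam⟩
  obtain ⟨y0, hy0⟩ := exists_sf_eq_one hv
  have hl : ∀ x, lam x = lam y0 * sf x v := fun x => by
    have h := sf_sp t x y0
    rw [hlam, hlam] at h
    simp only [sf_add_left, sf_add_right, sf_smul_left, sf_smul_right, sf_self,
      sf_swap v y0, hy0] at h
    linear_combination (norm := ring_nf) -h
  have hc : lam y0 ≠ 0 := fun h => by
    have : t.1 - 1 = 0 := Matrix.toLin'.injective (LinearMap.ext fun x => by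
      simp [Matrix.sub_mulVec, hlam, hl x, h])
    simp [this] at ht
  have htv : t = tv v (lam y0) := sp_ext_vec fun x => by rw [hlam, tv_mulVec, hl]
  let t0 : Frame m F 1 := ⟨fun _ => v, linearIndependent_unique_iff.2 hv, fun _ _ => sf_self v⟩
  have hH : ∀ A, A ∈ Subgroup.centralizer ({t} : Set (Matrix.symplecticGroup (Fin m) F)) ↔ A • t0 ∈ ({t0} : Set (Frame m F 1)) := by
    intro A
    rw [Subgroup.mem_centralizer_singleton_iff, Set.mem_singleton_iff, htv, ← mul_inv_eq_iff_eq_mul, tv_conj]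
    constructor
    · intro h
      refine Subtype.ext (funext fun _ => ?_)
      show A.1 *ᵥ v = v
      set w := A.1 *ᵥ v
      have hx : ∀ x, sf x w • w = sf x v • v := fun x => by
        have := congrArg (fun B : Matrix.symplecticGroup (Fin m) F => B.1 *ᵥ x) h
        simp only [tv_mulVec, add_right_inj, ← smul_smul] at this
        exact smul_right_injective _ hc this
      obtain ⟨a, ha⟩ := exists_sf_eq_one (sp_mulVec_ne_zero A hv : w ≠ 0)
      have hw := hx a
      rw [ha, one_smul] at hw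
      have h2 := hx y0
      rw [hy0, one_smul, hw, sf_smul_right, hy0, mul_one, smul_smul] at h2
      have h3 : sf a v * sf a v = 1 := smul_left_injective F hv (h2.trans (one_smul F v).symm)
      rw [hw, show sf a v = 1 from by
        have h4 : (sf a v - 1) * (sf a v - 1) = 0 := by
          linear_combination h3 + (1 - sf a v) * CharTwo.two_eq_zero (R := F)
        exact sub_eq_zero.1 (mul_self_eq_zero.1 h4), one_smul]
    · intro h
      rw [show A.1 *ᵥ v = v from congrFun (congrArg Subtype.val h) 0]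
  have h := card_mul_card_frame _ t0 _ hH
  rw [card_frame hm, CfsgLib.Classical.card_symplectic, Nat.card_eq_fintype_card, hF] at h
  obtain ⟨r, rfl⟩ : ∃ r, m = r + 1 := ⟨m - 1, by omega⟩
  rw [Finset.prod_range_succ (fun i => q ^ (2 * (i + 1)) - 1), Finset.prod_range_one] at h
  rw [Nat.card_eq_fintype_card, Nat.add_sub_cancel, Finset.prod_range fun i => q ^ (2 * (i + 1)) - 1] at *
  simp only [Nat.sub_zero, pow_zero,
    Set.card_singleton] at h
  refine Nat.eq_of_mul_eq_mul_right (show 0 < q ^ (2 * (r + 1)) - 1 from Nat.sub_pos_of_lt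
    (Nat.one_lt_pow (by omega) (hF ▸ Fintype.one_lt_card))) (h.trans ?_)
  rw [show (r + 1) ^ 2 = 2 * (r + 1) - 1 + r ^ 2 by rw [show 2 * (r + 1) - 1 = 2 * r + 1 by omega]; ring, pow_add]
  ring

end Cfsg.Agent.S2594
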