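import Cfsg.Statements.S2599
import Cfsg.Agent.Lib.Perm.Trans.QuadB

set_option autoImplicit false
open Cfsg

namespace Cfsg.Agent.S2599

/-- An irreducible invariant subspace of a semisimple isometry is non-degenerate or totally singular: let Q be a quadratic form on F^n (F finite of characteristic p) with non-degenerate polar form f, x an isometry of Q of order prime to p, and U a non-zero x-invariant subspace containing no x-invariant subspace other than 0 and U. Then U meets its f-orthogonal trivially, or Q vanishes on U, or p = 2, U is a line spanned by a non-singular vector and x fixes U pointwise. -/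
theorem result {F : Type*} [Field F] [Fintype F] {p : ℕ} [Fact p.Prime] [CharP F p] {n : ℕ} (Q : QuadraticForm F (Fin n → F)) (hQ : (QuadraticMap.polarBilin Q).Nondegenerate) (x : ↥(Cfsg.isometryGroup F ⇑Q)) (hx : (orderOf x).Coprime p) (U : Submodule F (Fin n → F)) (hU0 : U ≠ ⊥) (hUx : ∀ u ∈ U, ((x : Matrix.GeneralLinearGroup (Fin n) F) : Matrix (Fin n) (Fin n) F).mulVec u ∈ U) (hirr : ∀ W : Submodule F (Fin n → F), W ≤ U → (∀ w ∈ W, ((x : Matrix.GeneralLinearGroup (Fin n) F) : Matrix (Fin n) (Fin n) F).mulVec w ∈ W) → W = ⊥ ∨ W = U) : U ⊓ LinearMap.BilinForm.orthogonal (QuadraticMap.polarBilin Q) U = ⊥ ∨ (∀ u ∈ U, Q u = 0) ∨ (p = 2 ∧ Module.finrank F U = 1 ∧ (∃ u ∈ U, Q u ≠ 0) ∧ ∀ u ∈ U, ((x : Matrix.GeneralLinearGroup (Fin n) F) : Matrix (Fin n) (Fin n) F).mulVec u = u) := by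
  classical
  obtain ⟨g, hg⟩ : ∃ g : GL (Fin n) F, g = x.1 := ⟨_, rfl⟩
  rw [← hg] at hUx hirr ⊢
  have hiso : ∀ v, Q ((g : Matrix (Fin n) (Fin n) F).mulVec v) = Q v := fun v => by
    rw [hg]; exact CfsgLib.Perm.Trans.Quad.mem_iso.1 x.2 v
  have hpol : ∀ v w, QuadraticMap.polar Q ((g : Matrix (Fin n) (Fin n) F).mulVec v) ((g : Matrix (Fin n) (Fin n) F).mulVec w) =
      QuadraticMap.polar Q v w := fun v w => by
    simp only [QuadraticMap.polar, ← Matrix.mulVec_add, hiso]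
  have hsurj : ∀ u ∈ U, ∃ v ∈ U, (g : Matrix (Fin n) (Fin n) F).mulVec v = u := by
    intro u hu
    obtain ⟨v, hv⟩ : ∃ v : U, (⟨_, hUx v.1 v.2⟩ : U) = ⟨u, hu⟩ := (Finite.injective_iff_surjective
      (f := fun v : U => (⟨_, hUx v.1 v.2⟩ : U))).1 (fun a b h => Subtype.ext
        (Matrix.mulVec_injective_iff_isUnit.2 g.isUnit (congrArg Subtype.val h))) ⟨u, hu⟩
    exact ⟨v.1, v.2, congrArg Subtype.val hv⟩
  obtain ⟨W, hW⟩ : ∃ W, W = U ⊓ LinearMap.BilinForm.orthogonal (QuadraticMap.polarBilin Q) U := ⟨_, rfl⟩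
  rw [← hW]
  rcases hirr W (hW ▸ inf_le_left) (fun w hw => by
    rw [hW] at hw ⊢
    refine ⟨hUx w hw.1, fun u hu => ?_⟩
    obtain ⟨v, hv, rfl⟩ := hsurj u hu
    show QuadraticMap.polar Q _ _ = 0
    rw [hpol]
    exact hw.2 v hv) with h | h
  · exact Or.inl h
  right
  have hts : ∀ u ∈ U, ∀ v ∈ U, QuadraticMap.polar Q u v = 0 := fun u hu v hv => by
    rw [← h, hW] at hv
    exact hv.2 u hu
  by_cases h2 : (2 : F) = 0
  swap
  · refine Or.inl fun u hu => ?_
    have h3 := hts u hu u hu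
    rw [QuadraticMap.polar_self, two_nsmul, ← two_mul] at h3
    exact (mul_eq_zero.1 h3).resolve_left h2
  have hadd : ∀ u ∈ U, ∀ v ∈ U, Q (u + v) = Q u + Q v := fun u hu v hv => by
    have h3 := hts u hu v hv
    rw [QuadraticMap.polar] at h3
    linear_combination h3
  obtain ⟨K, hK⟩ : ∃ K : Submodule F (Fin n → F), ∀ u, u ∈ K ↔ u ∈ U ∧ Q u = 0 :=
    ⟨{ carrier := {u | u ∈ U ∧ Q u = 0}
       add_mem' := fun {a b} ha hb => ⟨U.add_mem ha.1 hb.1, by rw [hadd a ha.1 b hb.1, ha.2, hb.2, add_zero]⟩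
       zero_mem' := ⟨U.zero_mem, QuadraticMap.map_zero Q⟩
       smul_mem' := fun c a ha => ⟨U.smul_mem c ha.1, by rw [QuadraticMap.map_smul, ha.2, smul_zero]⟩ }, fun u => Iff.rfl⟩
  rcases hirr K (fun u hu => ((hK u).1 hu).1) (fun u hu => (hK _).2
    ⟨hUx u ((hK u).1 hu).1, by rw [hiso]; exact ((hK u).1 hu).2⟩) with hK0 | hK1
  swap
  · exact Or.inl fun u hu => ((hK u).1 (hK1 ▸ hu)).2
  refine Or.inr ?_
  have hinj : ∀ u ∈ U, ∀ v ∈ U, Q u = Q v → u = v := fun u hu v hv e => by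
    have hw : u - v ∈ K := (hK _).2 ⟨U.sub_mem hu hv, by
      have h3 := hadd (u - v) (U.sub_mem hu hv) v hv
      rw [sub_add_cancel, e] at h3
      linear_combination -h3⟩
    rw [hK0, Submodule.mem_bot, sub_eq_zero] at hw
    exact hw
  obtain ⟨u, hu, hu0⟩ := Submodule.exists_mem_ne_zero_of_ne_bot hU0
  refine ⟨?_, ?_, ⟨u, hu, fun e => hu0 (hinj u hu 0 U.zero_mem (by rw [e, QuadraticMap.map_zero]))⟩,
    fun v hv => hinj _ (hUx v hv) v hv (hiso v)⟩
  · have h3 : ((2 : ℕ) : F) = 0 := by exact_mod_cast h2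
    rw [CharP.cast_eq_zero_iff F p] at h3
    exact (Nat.prime_dvd_prime_iff_eq (Fact.out : p.Prime) Nat.prime_two).1 h3
  · have h3 : Nat.card U ≤ Nat.card F := Nat.card_le_card_of_injective (fun v : U => Q v.1)
      fun a b e => Subtype.ext (hinj a.1 a.2 b.1 b.2 e)
    rw [Module.natCard_eq_pow_finrank (K := F) (V := U)] at h3
    have h4 : Module.finrank F U ≠ 0 := fun e => hU0 (Submodule.finrank_eq_zero.1 e)
    have h5 : Module.finrank F U ≤ 1 :=
      (Nat.pow_le_pow_iff_right Finite.one_lt_card).1 (by rwa [pow_one])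
    omega

end Cfsg.Agent.S2599
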