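import Cfsg.Statements.S2600
import Cfsg.Agent.Lib.Sp.AutCard

set_option autoImplicit false
open Cfsg CfsgLib.Sp Matrix

namespace Cfsg.Agent.S2600

/-- Outer automorphism group of PSp_4(q) for q = 2^f even: it is cyclic of order 2f, generated by the class of the exceptional (graph-field) automorphism whose square is the Frobenius field automorphism. -/
theorem result {F : Type*} [Field F] [Fintype F] {f : ℕ} (hf : 1 ≤ f) (hF : Fintype.card F = 2 ^ f) : IsCyclic (Cfsg.Out (Cfsg.PSp 2 F)) ∧ Nat.card (Cfsg.Out (Cfsg.PSp 2 F)) = 2 * f := by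
  classical
  haveI : Fact (Nat.Prime 2) := ⟨Nat.prime_two⟩
  haveI : CharP F 2 := charP_of_card_eq_prime_pow hF
  set φ : RingAut F := frobeniusEquiv F 2 with hφdef
  have hφ : ∀ x, φ x = x ^ 2 := fun x => frobeniusEquiv_def F 2 x
  have hord : orderOf φ = f := by
    have h := CfsgLib.Descent.card_fixedField_pow φ
    have h2 : Nat.card (CfsgLib.Descent.fixedField φ) = 2 := by
      rw [Nat.card_congr (Equiv.subtypeEquivRight (q := fun x : F => x ∈ ({0, 1} : Finset F)) fun x => by
        rw [CfsgLib.Descent.mem_fixedField, hφ, Finset.mem_insert, Finset.mem_singleton]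
        exact ⟨fun hx => by
          rcases eq_or_ne x 0 with h0 | h0
          · exact Or.inl h0
          · exact Or.inr (mul_left_cancel₀ h0 (by rw [← sq, hx, mul_one])),
          by rintro (rfl | rfl) <;> simp⟩), Nat.card_eq_finsetCard, Finset.card_pair zero_ne_one]
    rw [h2, hF] at h
    exact Nat.pow_right_injective le_rfl h
  have hgen : ∀ σ : RingAut F, σ ∈ Subgroup.zpowers φ := by
    haveI : Finite (RingAut F) := Finite.of_injective (fun τ : RingAut F => (τ : F → F))
      DFunLike.coe_injective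
    intro σ
    have := Subgroup.eq_top_of_card_eq (Subgroup.zpowers φ)
      (by rw [Nat.card_zpowers, hord, CfsgLib.AutPSL.card_ringAut hF])
    rw [this]; exact Subgroup.mem_top σ
  set π := QuotientGroup.mk' (Cfsg.Inn (Cfsg.PSp 2 F))
  have hinn : (indHom (m := 2) (F := F)).range = Cfsg.Inn (Cfsg.PSp 2 F) := by
    refine le_antisymm ?_ ?_
    · rintro _ ⟨g, rfl⟩
      rw [inn_eq_map (m := 2) (by omega)]
      obtain ⟨r, hr⟩ : IsSquare ((mult (show 1 ≤ 2 by omega) g : Fˣ) : F) :=
        FiniteField.isSquare_of_char_two (ringChar.eq F 2) _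
      have hr0 : r ≠ 0 := fun h => (mult (show 1 ≤ 2 by omega) g).ne_zero (by rw [hr, h, mul_zero])
      refine ⟨gscal (Units.mk0 r hr0)⁻¹ * g, ?_, ?_⟩
      · rw [SetLike.mem_coe, MonoidHom.mem_ker, map_mul, mult_gscal, ← mul_inv, inv_mul_eq_one]
        exact Units.ext hr.symm
      · rw [indHom_apply, ind_gscal_mul]; rfl
    · rw [inn_eq_map (m := 2) (by omega)]
      exact Subgroup.map_le_range _ _
  have hg : ∀ (g : ↥(Cfsg.GSp 2 F)) (σ : RingAut F), π (ind g σ) = π (ind 1 σ) := by
    intro g σ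
    rw [← ind_mul_fieldHom g, map_mul]
    have : π (ind g 1) = 1 := (QuotientGroup.eq_one_iff _).2 (hinn ▸ ⟨g, rfl⟩)
    rw [this, one_mul]
  set c := π excAut
  have hsq : c * c = π (ind 1 φ) := by
    have h1 : (excAut * excAut : MulAut (Cfsg.PSp 2 F)) (pT (lv 0) 1) = pT (lv 0) 1 := by
      rw [MulAut.mul_apply, show pT (lv 0) (1 : F) = pr (longRoot 1) from rfl, excAut_pr,
        extHom_longRoot, excAut_pr, extHom_shortRoot, mul_one]
    obtain ⟨g, σ, he⟩ := classify_of_pT h1
    have hσ : σ = φ := by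
      refine RingEquiv.ext fun a => ?_
      rcases eq_or_ne a 0 with rfl | ha
      · simp
      have key : ∀ x : F, x ≠ 0 → ind g σ (pT (lv 0) x) = pT (lv 0) (x * x) := by
        intro x _
        rw [← he, MulAut.mul_apply, show pT (lv 0) x = pr (longRoot x) from rfl, excAut_pr,
          extHom_longRoot, excAut_pr, extHom_shortRoot]
      obtain ⟨k, hk⟩ := mem_gsp_iff.1 g.2
      obtain ⟨d, -, hd⟩ := ind_pT g σ (lv 0) 1
      rw [key 1 one_ne_zero, mul_one] at hd
      obtain ⟨l, hl⟩ := pT_par (le_refl 2) (lv_ne_zero 0) one_ne_zero hd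
      have hl0 : l ≠ 0 := fun h => lv_ne_zero (F := F) (0 : Fin 2) (by rw [hl, h, zero_smul])
      have hact : act g.1 σ (lv 0) = l⁻¹ • (lv 0 : Fin 2 ⊕ Fin 2 → F) := by
        conv_rhs => rw [hl, inv_smul_smul₀ hl0]
      have val : ∀ x : F, x ≠ 0 → σ x / k * (l⁻¹ * l⁻¹) = x * x := by
        intro x hx
        have h2 : ind g σ (pT (lv 0) x) = pT (act g.1 σ (lv 0)) (σ x / k) := ind_pT_val g σ hk _ x
        rw [key x hx, hact, pT, pT, tv_smul] at h2
        have h3 := congrFun (congrFun (congrArg Subtype.val (pr_injective_two (by omega) h2))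
          (Sum.inl 0)) (Sum.inr 0)
        rw [longRoot_val, longRoot_val] at h3
        simp at h3
        rw [h3]; ring
      have e1 := val 1 one_ne_zero
      have ea := val a ha
      rw [map_one, mul_one] at e1
      rw [hφ, sq, ← ea]
      field_simp at e1 ⊢
      linear_combination (-σ a) * e1
    rw [← map_mul, he, hg, hσ]
  have hall : ∀ x : Cfsg.Out (Cfsg.PSp 2 F), x ∈ Subgroup.zpowers c := by
    intro x
    obtain ⟨β, rfl⟩ := QuotientGroup.mk'_surjective _ x
    have hind : ∀ g σ, π (ind g σ) ∈ Subgroup.zpowers c := by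
      intro g σ
      obtain ⟨k, hk⟩ := hgen σ
      rw [hg]
      change π (fieldHom σ) ∈ _
      rw [← hk, map_zpow, map_zpow]
      refine Subgroup.zpow_mem _ ?_ k
      change π (ind 1 φ) ∈ _
      rw [← hsq]
      exact mul_mem (Subgroup.mem_zpowers c) (Subgroup.mem_zpowers c)
    obtain ⟨g, σ, h | h⟩ := aut_classify_four β
    · rw [h]; exact hind g σ
    · rw [← inv_mul_cancel_left excAut β, h, map_mul, map_inv]
      exact mul_mem (inv_mem (Subgroup.mem_zpowers c)) (hind g σ)
  refine ⟨isCyclic_of_surjective (zpowersHom _ c) fun x => ?_, ?_⟩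
  · obtain ⟨k, hk⟩ := hall x
    exact ⟨Multiplicative.ofAdd k, hk⟩
  · have h1 := Subgroup.card_eq_card_quotient_mul_card_subgroup (Cfsg.Inn (Cfsg.PSp 2 F))
    have hI : Nat.card (Cfsg.Inn (Cfsg.PSp 2 F)) = Nat.gcd 2 (2 ^ f - 1) * Nat.card (Cfsg.PSp 2 F) := by
      rw [← hinn, card_indHom_range (le_refl 2), card_sp_eq_gcd_mul (by omega), hF]
    rw [card_mulAut 2 f hF 2 le_rfl, if_pos ⟨rfl, rfl⟩, hI] at h1
    haveI : Finite (Cfsg.PSp 2 F) := Quotient.finite _
    refine (Nat.eq_of_mul_eq_mul_right (Nat.mul_pos (Nat.gcd_pos_of_pos_left (2 ^ f - 1) two_pos)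
      (Nat.card_pos (α := Cfsg.PSp 2 F))) ?_).symm
    rw [← h1]; ring

end Cfsg.Agent.S2600
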