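import Cfsg.Statements.S2601
import Cfsg.Agent.Lib.AutPSL.Outer

set_option autoImplicit false
open Cfsg

namespace Cfsg.Agent.S2601

/-- Structure of the outer automorphism group of PSL_n(q), n ≥ 3, q = p^f: it has a normal cyclic subgroup of order gcd(n, q − 1) (the diagonal automorphisms) whose quotient is the direct product of a cyclic group of order f (field automorphisms) and a group of order 2 (the inverse-transpose graph automorphism). -/
theorem result {F : Type*} [Field F] [Fintype F] {p f n : ℕ} [Fact p.Prime] (hf : 1 ≤ f) (hF : Fintype.card F = p ^ f) (hn : 3 ≤ n) : ∃ φ : Cfsg.Out (Matrix.ProjectiveSpecialLinearGroup (Fin n) F) →* Multiplicative (ZMod f × ZMod 2), Function.Surjective φ ∧ IsCyclic φ.ker ∧ Nat.card φ.ker = Nat.gcd n (p ^ f - 1) := by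
  classical
  have hn2 : 2 ≤ n := by omega
  obtain ⟨θ⟩ := CfsgLib.AutPSL.exists_ringAut_equiv hF
  set T := Matrix.ProjectiveSpecialLinearGroup (Fin n) F
  choose G S E hE using fun β : MulAut T => CfsgLib.AutPSL.exists_rep hn2 β
  let b : Bool → ZMod 2 := fun e => cond e 1 0
  have hb : ∀ e e', b (xor e e') = b e + b e' := by decide
  let ψ : MulAut T →* Multiplicative (ZMod f × ZMod 2) :=
    MonoidHom.mk' (fun β => Multiplicative.ofAdd ((θ (S β)).toAdd, b (E β))) fun β γ => by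
      obtain ⟨k, hk⟩ := CfsgLib.AutPSL.rep_mul (G β) (G γ) (S β) (S γ) (E β) (E γ)
      have h : CfsgLib.AutPSL.rep (G (β * γ)) (S (β * γ)) (E (β * γ)) =
          CfsgLib.AutPSL.rep k (S β * S γ) (xor (E β) (E γ)) := by
        rw [← hk, ← hE, ← hE, ← hE]
      obtain ⟨h1, h2⟩ := CfsgLib.AutPSL.rep_inj hn h
      rw [h1, h2, map_mul, hb, toAdd_mul]
      rfl
  have hψ : ∀ g σ e, ψ (CfsgLib.AutPSL.rep g σ e) = Multiplicative.ofAdd ((θ σ).toAdd, b e) := by
    intro g σ e
    obtain ⟨h1, h2⟩ := CfsgLib.AutPSL.rep_inj hn (hE (CfsgLib.AutPSL.rep g σ e)).symm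
    show Multiplicative.ofAdd (_, _) = _
    rw [h1, h2]
  have hrep : ∀ g : GL (Fin n) F, CfsgLib.AutPSL.ind g 1 = CfsgLib.AutPSL.rep g 1 false :=
    fun g => (mul_one _).symm
  have hinn : Cfsg.Inn T ≤ ψ.ker := fun β hβ => by
    obtain ⟨s, rfl⟩ := CfsgLib.AutPSL.mem_inn_iff.1 hβ
    rw [MonoidHom.mem_ker, hrep, hψ, map_one]
    rfl
  obtain ⟨K, hKc, hKn, hK⟩ := CfsgLib.AutPSL.card_diag_range (F := F) hn2
  have hker : (QuotientGroup.lift (Cfsg.Inn T) ψ hinn).ker = K := by
    ext x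
    obtain ⟨β, rfl⟩ := QuotientGroup.mk'_surjective _ x
    rw [MonoidHom.mem_ker, QuotientGroup.mk'_apply, QuotientGroup.lift_mk, hK]
    constructor
    · intro h
      rw [hE β, hψ] at h
      have h' := congrArg Multiplicative.toAdd h
      rw [toAdd_ofAdd, toAdd_one, Prod.mk_eq_zero, toAdd_eq_zero] at h'
      have hs : S β = 1 := θ.injective (by rw [h'.1, map_one])
      have he : E β = false := by
        cases hh : E β
        · rfl
        · rw [hh] at h'; exact absurd h'.2 (by decide)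
      exact ⟨G β, (hE β).trans (by rw [hs, he, ← hrep])⟩
    · rintro ⟨g, rfl⟩
      rw [hrep, hψ, map_one]
      rfl
  refine ⟨QuotientGroup.lift (Cfsg.Inn T) ψ hinn, ?_, hker ▸ hKc, ?_⟩
  · intro x
    obtain ⟨σ, hσ⟩ := θ.surjective (Multiplicative.ofAdd x.toAdd.1)
    obtain ⟨e, he⟩ : ∃ e, b e = x.toAdd.2 := by
      generalize x.toAdd.2 = y
      revert y
      decide
    refine ⟨(CfsgLib.AutPSL.rep 1 σ e : MulAut T), ?_⟩
    rw [QuotientGroup.lift_mk, hψ, hσ, he]
    rfl
  · rw [hker, hKn, hF]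

end Cfsg.Agent.S2601
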