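import Cfsg.Statements.S2610
import Cfsg.Agent.Lib.Orth.ReflProducts

set_option autoImplicit false
open Cfsg

namespace Cfsg.Agent.S2610

/-- For a quadratic form Q on F^n with non-degenerate polar form, F finite of odd order and n ≥ 2 even, the isometry −1 lies in Ω (the commutator subgroup of the orthogonal group) if and only if the discriminant of Q (the determinant of the Gram matrix of its polar form) is a square. -/
theorem result {F : Type*} [Field F] [Fintype F] (h2 : (2 : F) ≠ 0) {n : ℕ} (hn : 2 ≤ n) (he : Even n) (Q : QuadraticForm F (Fin n → F)) (hQ : (QuadraticMap.polarBilin Q).Nondegenerate) : (∃ g : ↥(Cfsg.isometryGroup F ⇑Q), g ∈ Cfsg.Omega F ⇑Q ∧ ((g : Matrix.GeneralLinearGroup (Fin n) F) : Matrix (Fin n) (Fin n) F) = -1) ↔ IsSquare (Matrix.of (fun i j : Fin n => QuadraticMap.polar ⇑Q (Pi.single i 1) (Pi.single j 1))).det := by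
  classical
  have hQ' := CfsgLib.Orth.nd_of_qf Q hQ
  obtain ⟨g, hg⟩ : ∃ g : ↥(Cfsg.isometryGroup F ⇑Q),
      ((g : Matrix.GeneralLinearGroup (Fin n) F) : Matrix (Fin n) (Fin n) F) = -1 := by
    refine ⟨⟨-1, CfsgLib.Perm.Trans.Quad.mem_iso.2 fun x => ?_⟩, rfl⟩
    rw [Units.val_neg, Units.val_one, Matrix.neg_mulVec, Matrix.one_mulVec]
    exact QuadraticMap.map_neg _ x
  have hiff : (∃ g : ↥(Cfsg.isometryGroup F ⇑Q), g ∈ Cfsg.Omega F ⇑Q ∧
      ((g : Matrix.GeneralLinearGroup (Fin n) F) : Matrix (Fin n) (Fin n) F) = -1) ↔ g ∈ Cfsg.Omega F ⇑Q := by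
    refine ⟨?_, fun h => ⟨g, h, hg⟩⟩
    rintro ⟨g', h, hg'⟩
    rwa [show g = g' from Subtype.ext (Units.ext (hg.trans hg'.symm))]
  have hw := (Pi.basisFun F (Fin n))
  obtain ⟨e1, e2⟩ := CfsgLib.Orth.spn_of_negating hQ' h2 g.2 (k := n) (w := fun i => Pi.single i 1)
    (by simpa [funext (Pi.basisFun_apply F (Fin n))] using (Pi.basisFun F (Fin n)).linearIndependent)
    (fun i => by rw [hg, Matrix.neg_mulVec, Matrix.one_mulVec])
    (fun x => by
      have hsp : Submodule.span F (Set.range fun i : Fin n => (Pi.single i 1 : Fin n → F)) = ⊤ := by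
        rw [← funext (Pi.basisFun_apply F (Fin n))]
        exact (Pi.basisFun F (Fin n)).span_eq
      rw [hsp]
      exact Submodule.mem_top)
  rw [hiff, CfsgLib.Orth.mem_omega_iff hQ' (by simpa using hn) (CfsgLib.Orth.hex_of_two h2), e1, e2]
  have hdet : (Matrix.of (fun i j : Fin n => QuadraticMap.polar ⇑Q (Pi.single i 1) (Pi.single j 1))).det ≠ 0 :=
    CfsgLib.Classical.det_polarGram_ne_zero Q hQ
  rw [CfsgLib.Orth.sqc_eq_one_iff (mul_ne_zero (pow_ne_zero _ h2) hdet)]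
  obtain ⟨r, hr⟩ := he
  constructor
  · rintro ⟨⟨t, ht⟩, -⟩
    refine ⟨t / 2 ^ r, ?_⟩
    have hp : (2 : F) ^ r ≠ 0 := pow_ne_zero _ h2
    have hp2 : (2 : F) ^ n = 2 ^ r * 2 ^ r := by rw [← pow_add, ← hr]
    rw [hp2] at ht
    field_simp
    linear_combination ht
  · rintro ⟨t, ht⟩
    refine ⟨⟨2 ^ r * t, ?_⟩, r, hr⟩
    rw [ht, hr, pow_add]
    ring

end Cfsg.Agent.S2610
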