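import Cfsg.Statements.S2611
import Cfsg.Agent.Lib.Orth.Levi

set_option autoImplicit false
open Cfsg

namespace Cfsg.Agent.S2611

/-- For the hyperbolic quadratic form Σ x_i y_i on F^(2m) (F finite, m ≥ 1, excluding m = 2 over the field of two elements) and an invertible m × m matrix A, the block-diagonal isometry diag(A, (A⁻¹)ᵀ), which stabilises the two maximal totally singular subspaces x = 0 and y = 0, lies in Ω⁺_2m(F) (the commutator subgroup of the orthogonal group) if and only if det A is a square in F. -/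
theorem result {F : Type*} [Field F] [Fintype F] {m : ℕ} (hm : 1 ≤ m) (h : Fintype.card F ≠ 2 ∨ m ≠ 2) (A : GL (Fin m) F) : (∃ g : ↥(Cfsg.isometryGroup F (Cfsg.quadFormPlus m F)), g ∈ Cfsg.Omega F (Cfsg.quadFormPlus m F) ∧ ((g : Matrix.GeneralLinearGroup (Fin m ⊕ Fin m) F) : Matrix (Fin m ⊕ Fin m) (Fin m ⊕ Fin m) F) = Matrix.fromBlocks (A : Matrix (Fin m) (Fin m) F) 0 0 ((A : Matrix (Fin m) (Fin m) F)⁻¹).transpose) ↔ IsSquare (A : Matrix (Fin m) (Fin m) F).det := by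
  classical
  have hQ : Cfsg.Geo.IsNondegenerateQuadraticForm (Cfsg.quadFormPlus m F) :=
    CfsgLib.Perm.Trans.Quad.quadFormPlus_nd
  obtain ⟨g, hg⟩ : ∃ g : ↥(Cfsg.isometryGroup F (Cfsg.quadFormPlus m F)),
      g.1 = CfsgLib.Orth.levi A := ⟨⟨_, CfsgLib.Orth.levi_mem A⟩, rfl⟩
  have hm' : ((g : Matrix.GeneralLinearGroup (Fin m ⊕ Fin m) F) : Matrix (Fin m ⊕ Fin m) (Fin m ⊕ Fin m) F) =
      Matrix.fromBlocks (A : Matrix (Fin m) (Fin m) F) 0 0 ((A : Matrix (Fin m) (Fin m) F)⁻¹).transpose := by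
    rw [hg, CfsgLib.Orth.levi_coe, Matrix.coe_units_inv]
  have hex : Fintype.card F ≠ 2 ∨ Fintype.card (Fin m ⊕ Fin m) ≠ 4 := by
    rcases h with h | h
    · exact Or.inl h
    · exact Or.inr (by simp; omega)
  have hiff : g ∈ Cfsg.Omega F (Cfsg.quadFormPlus m F) ↔ IsSquare (A : Matrix (Fin m) (Fin m) F).det := by
    obtain ⟨e1, e2⟩ := CfsgLib.Orth.levi_invariants h A
    rw [CfsgLib.Orth.mem_omega_iff hQ (by simp; omega) hex, hg, e1,
      CfsgLib.Orth.sqc_eq_one_iff (CfsgLib.Orth.gl_det_ne A)]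
    exact ⟨fun x => x.1, fun x => ⟨x, e2⟩⟩
  refine ⟨?_, fun hs => ⟨g, hiff.2 hs, hm'⟩⟩
  rintro ⟨g', hg', e⟩
  rw [← hiff]
  rwa [show g = g' from Subtype.ext (Units.ext (hm'.trans e.symm))]

end Cfsg.Agent.S2611
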