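import Cfsg.Statements.S2612
import Cfsg.Agent.Lib.Orth.MaxSing
import Cfsg.Agent.Lib.Perm.Trans.QuadStd
import Cfsg.Agent.Lib.Orth.StdSing

set_option autoImplicit false
open Cfsg

namespace Cfsg.Agent.S2612

/-- For the hyperbolic quadratic form Σ x_i y_i on F^(2m) (F finite, m ≥ 1, excluding m = 2 over the field of two elements), Ω⁺_2m(F) (the commutator subgroup of the orthogonal group) contains an element interchanging the two complementary maximal totally singular subspaces {y = 0} and {x = 0} if and only if m is even (dimension divisible by 4). -/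
theorem result {F : Type*} [Field F] [Fintype F] {m : ℕ} (hm : 1 ≤ m) (h : Fintype.card F ≠ 2 ∨ m ≠ 2) : (∃ g : ↥(Cfsg.isometryGroup F (Cfsg.quadFormPlus m F)), g ∈ Cfsg.Omega F (Cfsg.quadFormPlus m F) ∧ (∀ v : Fin m ⊕ Fin m → F, (∀ i, v (Sum.inr i) = 0) → ∀ i, (((g : Matrix.GeneralLinearGroup (Fin m ⊕ Fin m) F) : Matrix (Fin m ⊕ Fin m) (Fin m ⊕ Fin m) F).mulVec v) (Sum.inl i) = 0) ∧ (∀ v : Fin m ⊕ Fin m → F, (∀ i, v (Sum.inl i) = 0) → ∀ i, (((g : Matrix.GeneralLinearGroup (Fin m ⊕ Fin m) F) : Matrix (Fin m ⊕ Fin m) (Fin m ⊕ Fin m) F).mulVec v) (Sum.inr i) = 0)) ↔ Even m := by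
  classical
  have hQ : Cfsg.Geo.IsNondegenerateQuadraticForm (Cfsg.quadFormPlus m F) :=
    CfsgLib.Perm.Trans.Quad.quadFormPlus_nd
  obtain ⟨hd, hs⟩ := CfsgLib.Orth.std_singular m (F := F)
  have hex : Fintype.card F ≠ 2 ∨ Fintype.card (Fin m ⊕ Fin m) ≠ 4 := by
    rcases h with h | h
    · exact Or.inl h
    · exact Or.inr (by simp; omega)
  constructor
  · rintro ⟨g, hg, h1, -⟩
    have hev := ((CfsgLib.Orth.mem_omega_iff hQ (by simp; omega) hex g).1 hg).2
    rw [← CfsgLib.Orth.even_wrk_iff hQ hex (by simp) hd hs g.2] at hev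
    rwa [CfsgLib.Orth.std_disjoint (m := m) g.1 (fun v hv i => h1 v hv i), finrank_bot, Nat.sub_zero] at hev
  · intro he
    exact CfsgLib.Orth.exists_swap hm hex he

end Cfsg.Agent.S2612
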