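import Cfsg.Statements.S2613
import Cfsg.Agent.Lib.Orth.HypInvol

set_option autoImplicit false
open Cfsg

namespace Cfsg.Agent.S2613

/-- For the hyperbolic form Σ x_j y_j on F^(2m), F finite with q elements, q odd, and 1 ≤ i ≤ m: the involution negating the first i hyperbolic pairs (x_j, y_j ↦ −x_j, −y_j for j < i) and fixing the rest lies in Ω⁺_2m(q) (commutator subgroup of the orthogonal group) if and only if q^i ≡ 1 (mod 4); its (−1)-eigenspace is a hyperbolic 2i-space. -/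
theorem result {F : Type*} [Field F] [Fintype F] {q : ℕ} (hF : Fintype.card F = q) (hq : Odd q) {m : ℕ} (i : ℕ) (hi : 1 ≤ i) (him : i ≤ m) : (∃ g : ↥(Cfsg.isometryGroup F (Cfsg.quadFormPlus m F)), g ∈ Cfsg.Omega F (Cfsg.quadFormPlus m F) ∧ ((g : Matrix.GeneralLinearGroup (Fin m ⊕ Fin m) F) : Matrix (Fin m ⊕ Fin m) (Fin m ⊕ Fin m) F) = Matrix.diagonal (fun k : Fin m ⊕ Fin m => if (Sum.elim (fun j : Fin m => (j : ℕ)) (fun j : Fin m => (j : ℕ)) k) < i then (-1 : F) else 1)) ↔ q ^ i % 4 = 1 := by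
  have hQ : Cfsg.Geo.IsNondegenerateQuadraticForm (Cfsg.quadFormPlus m F) :=
    CfsgLib.Perm.Trans.Quad.quadFormPlus_nd
  refine CfsgLib.Orth.pairs_mem_omega_iff hQ hF hq (by simp; omega)
    (Sum.map (Fin.castLE him) (Fin.castLE him)) ((Fin.castLE_injective _).sumMap (Fin.castLE_injective _))
    (fun k : Fin m ⊕ Fin m => (Sum.elim (fun j : Fin m => (j : ℕ)) (fun j : Fin m => (j : ℕ)) k) < i)
    (fun k => ?_) (fun x => ?_) (CfsgLib.Orth.gram_pairs_plus him)
  · rw [Set.mem_range]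
    rcases k with j | j
    · simp [Sum.exists, ← CfsgLib.Orth.range_castLE_iff him]
    · simp [Sum.exists, ← CfsgLib.Orth.range_castLE_iff him]
  · simp only [Cfsg.quadFormPlus, Sum.elim_inl, Sum.elim_inr]
    exact Finset.sum_congr rfl fun j _ => by by_cases hj : (j : ℕ) < i <;> simp [hj]

end Cfsg.Agent.S2613
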