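import Cfsg.Statements.S2614
import Cfsg.Agent.Lib.Orth.HypInvol

set_option autoImplicit false
open Cfsg

namespace Cfsg.Agent.S2614

/-- For the form x_0² + Σ x_j y_j on F^(2m+1), F finite with q elements, q odd, and 1 ≤ i ≤ m: the involution of determinant one negating the first i hyperbolic pairs (and fixing x_0 and the other pairs) lies in Ω_(2m+1)(q) (commutator subgroup of the orthogonal group) if and only if q^i ≡ 1 (mod 4); its (−1)-eigenspace is a hyperbolic 2i-space. -/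
theorem result {F : Type*} [Field F] [Fintype F] {q : ℕ} (hF : Fintype.card F = q) (hq : Odd q) {m : ℕ} (i : ℕ) (hi : 1 ≤ i) (him : i ≤ m) : (∃ g : ↥(Cfsg.isometryGroup F (Cfsg.quadFormOdd m F)), g ∈ Cfsg.Omega F (Cfsg.quadFormOdd m F) ∧ ((g : Matrix.GeneralLinearGroup (Unit ⊕ (Fin m ⊕ Fin m)) F) : Matrix (Unit ⊕ (Fin m ⊕ Fin m)) (Unit ⊕ (Fin m ⊕ Fin m)) F) = Matrix.diagonal (fun k : Unit ⊕ (Fin m ⊕ Fin m) => if (Sum.elim (fun _ : Unit => i) (Sum.elim (fun j : Fin m => (j : ℕ)) (fun j : Fin m => (j : ℕ))) k) < i then (-1 : F) else 1)) ↔ q ^ i % 4 = 1 := by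
  have hQ : Cfsg.Geo.IsNondegenerateQuadraticForm (Cfsg.quadFormOdd m F) :=
    CfsgLib.Perm.Trans.Quad.quadFormOdd_nd (CfsgLib.Orth.two_ne_zero_of_odd (hF ▸ hq))
  refine CfsgLib.Orth.pairs_mem_omega_iff hQ hF hq (by simp; omega)
    (fun a => Sum.inr (Sum.map (Fin.castLE him) (Fin.castLE him) a))
    (Sum.inr_injective.comp ((Fin.castLE_injective _).sumMap (Fin.castLE_injective _)))
    (fun k : Unit ⊕ (Fin m ⊕ Fin m) => (Sum.elim (fun _ : Unit => i) (Sum.elim (fun j : Fin m => (j : ℕ))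
      (fun j : Fin m => (j : ℕ))) k) < i)
    (fun k => ?_) (fun x => ?_) (CfsgLib.Orth.gram_pairs_odd him)
  · rw [Set.mem_range]
    rcases k with u | j | j
    · simp
    · simp [Sum.exists, ← CfsgLib.Orth.range_castLE_iff him]
    · simp [Sum.exists, ← CfsgLib.Orth.range_castLE_iff him]
  · simp only [Cfsg.quadFormOdd, Sum.elim_inl, Sum.elim_inr, lt_irrefl, if_false]
    congr 1
    exact Finset.sum_congr rfl fun j _ => by by_cases hj : (j : ℕ) < i <;> simp [hj]

end Cfsg.Agent.S2614
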