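import Cfsg.Statements.S2615
import Cfsg.Agent.Lib.Orth.HypInvol

set_option autoImplicit false
open Cfsg

namespace Cfsg.Agent.S2615

/-- For an elliptic form Σ_(j<m−1) x_j y_j + (z₁² + a z₁z₂ + b z₂²) (anisotropic binary part) on F^(2m), F finite with q elements, q odd, and 1 ≤ i ≤ m − 1: the involution negating the first i hyperbolic pairs and fixing the rest lies in Ω⁻_2m(q) (commutator subgroup of the orthogonal group) if and only if q^i ≡ 1 (mod 4). -/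
theorem result {F : Type*} [Field F] [Fintype F] {q : ℕ} (hF : Fintype.card F = q) (hq : Odd q) {m : ℕ} (a b : F) (hab : ∀ z₁ z₂ : F, z₁ ^ 2 + a * z₁ * z₂ + b * z₂ ^ 2 = 0 → z₁ = 0 ∧ z₂ = 0) (i : ℕ) (hi : 1 ≤ i) (him : i + 1 ≤ m) : (∃ g : ↥(Cfsg.isometryGroup F (Cfsg.quadFormMinus (m - 1) F a b)), g ∈ Cfsg.Omega F (Cfsg.quadFormMinus (m - 1) F a b) ∧ ((g : Matrix.GeneralLinearGroup ((Fin (m - 1) ⊕ Fin (m - 1)) ⊕ Fin 2) F) : Matrix ((Fin (m - 1) ⊕ Fin (m - 1)) ⊕ Fin 2) ((Fin (m - 1) ⊕ Fin (m - 1)) ⊕ Fin 2) F) = Matrix.diagonal (fun k : (Fin (m - 1) ⊕ Fin (m - 1)) ⊕ Fin 2 => if (Sum.elim (Sum.elim (fun j : Fin (m - 1) => (j : ℕ)) (fun j : Fin (m - 1) => (j : ℕ))) (fun _ : Fin 2 => i) k) < i then (-1 : F) else 1)) ↔ q ^ i % 4 = 1 := by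
  have hQ : Cfsg.Geo.IsNondegenerateQuadraticForm (Cfsg.quadFormMinus (m - 1) F a b) :=
    CfsgLib.Perm.Trans.Quad.quadFormMinus_nd a b hab
  have him' : i ≤ m - 1 := by omega
  refine CfsgLib.Orth.pairs_mem_omega_iff hQ hF hq (by simp)
    (fun a => Sum.inl (Sum.map (Fin.castLE him') (Fin.castLE him') a))
    (Sum.inl_injective.comp ((Fin.castLE_injective _).sumMap (Fin.castLE_injective _)))
    (fun k : (Fin (m - 1) ⊕ Fin (m - 1)) ⊕ Fin 2 => (Sum.elim (Sum.elim (fun j : Fin (m - 1) => (j : ℕ))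
      (fun j : Fin (m - 1) => (j : ℕ))) (fun _ : Fin 2 => i) k) < i)
    (fun k => ?_) (fun x => ?_) (CfsgLib.Orth.gram_pairs_minus a b him')
  · rw [Set.mem_range]
    rcases k with (j | j) | u
    · simp [Sum.exists, ← CfsgLib.Orth.range_castLE_iff him']
    · simp [Sum.exists, ← CfsgLib.Orth.range_castLE_iff him']
    · simp
  · simp only [Cfsg.quadFormMinus, Sum.elim_inl, Sum.elim_inr, lt_irrefl, if_false]
    congr 1
    exact Finset.sum_congr rfl fun j _ => by by_cases hj : (j : ℕ) < i <;> simp [hj]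

end Cfsg.Agent.S2615
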