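import Cfsg.Statements.S2616
import Cfsg.Agent.Lib.Classical.QuadNormal

set_option autoImplicit false
open Cfsg

namespace Cfsg.Agent.S2616

/-- Standard bases of a non-degenerate quadratic space of even dimension 2m over a finite field: either there is a hyperbolic basis e_i, f_i (Q(e_i) = Q(f_i) = 0, B(e_i, f_j) = δ_ij, the e's pairwise orthogonal and the f's pairwise orthogonal, B the polar form), or there is an elliptic basis: hyperbolic pairs e_i, f_i for i < m − 1 together with x, y orthogonal to them with Q(x) = 1, B(x, y) = 1, Q(y) = ζ where t² + t + ζ has no root in the field. -/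
theorem result {F V : Type*} [Field F] [Finite F] [AddCommGroup V] [Module F V] [FiniteDimensional F V] {m : ℕ} (hm : 1 ≤ m) (hV : Module.finrank F V = 2 * m) (Q : QuadraticForm F V) (hQ : (QuadraticMap.polarBilin Q).Nondegenerate) : (∃ b : Module.Basis (Fin m ⊕ Fin m) F V, (∀ i, Q (b (Sum.inl i)) = 0 ∧ Q (b (Sum.inr i)) = 0) ∧ (∀ i j, QuadraticMap.polar ⇑Q (b (Sum.inl i)) (b (Sum.inr j)) = if i = j then 1 else 0) ∧ (∀ i j, QuadraticMap.polar ⇑Q (b (Sum.inl i)) (b (Sum.inl j)) = 0 ∧ QuadraticMap.polar ⇑Q (b (Sum.inr i)) (b (Sum.inr j)) = 0)) ∨ (∃ (b : Module.Basis ((Fin (m - 1) ⊕ Fin (m - 1)) ⊕ Fin 2) F V) (ζ : F), (∀ t : F, t ^ 2 + t + ζ ≠ 0) ∧ (∀ i, Q (b (Sum.inl (Sum.inl i))) = 0 ∧ Q (b (Sum.inl (Sum.inr i))) = 0) ∧ (∀ i j, QuadraticMap.polar ⇑Q (b (Sum.inl (Sum.inl i))) (b (Sum.inl (Sum.inr j))) = if i = j then 1 else 0) ∧ (∀ i j, QuadraticMap.polar ⇑Q (b (Sum.inl (Sum.inl i))) (b (Sum.inl (Sum.inl j))) = 0 ∧ QuadraticMap.polar ⇑Q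 (b (Sum.inl (Sum.inr i))) (b (Sum.inl (Sum.inr j))) = 0) ∧ (∀ i (k : Fin 2), QuadraticMap.polar ⇑Q (b (Sum.inl (Sum.inl i))) (b (Sum.inr k)) = 0 ∧ QuadraticMap.polar ⇑Q (b (Sum.inl (Sum.inr i))) (b (Sum.inr k)) = 0) ∧ Q (b (Sum.inr 0)) = 1 ∧ QuadraticMap.polar ⇑Q (b (Sum.inr 0)) (b (Sum.inr 1)) = 1 ∧ Q (b (Sum.inr 1)) = ζ) := by
  classical
  obtain ⟨k, rfl⟩ : ∃ k, m = k + 1 := ⟨m - 1, by omega⟩
  obtain ⟨e, f, h⟩ := CfsgLib.Classical.exists_hypFamily Q hQ k (by omega)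
  have hW := h.perp_nondegenerate hQ
  have hd : Module.finrank F (CfsgLib.Classical.pairsPerp Q e f) = 2 := by
    have := h.finrank_perp
    omega
  set W := CfsgLib.Classical.pairsPerp Q e f
  have cross : ∀ w : W, ∀ i, QuadraticMap.polar ⇑Q (e i) (w : V) = 0 ∧ QuadraticMap.polar ⇑Q (f i) (w : V) = 0 :=
    fun w i => ⟨by rw [QuadraticMap.polar_comm]; exact (w.2 i).1, by rw [QuadraticMap.polar_comm]; exact (w.2 i).2⟩
  -- a family spanning is a basis
  have mkBasis : ∀ {ι : Type} [Fintype ι] (v : ι → V), Fintype.card ι = 2 * (k + 1) →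
      (∀ x, x ∈ Submodule.span F (Set.range v)) → ∃ b : Module.Basis ι F V, ⇑b = v := fun {ι} _ v hc hs => by
    haveI : Nonempty ι := Fintype.card_pos_iff.1 (by omega)
    exact ⟨basisOfTopLeSpanOfCardEqFinrank v (fun x _ => hs x) (hc.trans hV.symm),
      coe_basisOfTopLeSpanOfCardEqFinrank _ _ _⟩
  have spanW : ∀ a b : W, LinearIndependent F ![a, b] → ∀ w : W, ∃ s t : F, w = s • a + t • b := fun a b hab w => by
    have hsp : Submodule.span F (Set.range ![a, b]) = ⊤ := hab.span_eq_top_of_card_eq_finrank (by rw [hd]; rfl)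
    have hw : w ∈ Submodule.span F (Set.range ![a, b]) := hsp ▸ Submodule.mem_top
    rw [Matrix.range_cons, Matrix.range_cons, Matrix.range_empty, Set.union_empty, Set.singleton_union,
      Submodule.mem_span_pair] at hw
    obtain ⟨s, t, hst⟩ := hw
    exact ⟨s, t, hst.symm⟩
  by_cases hiso : ∃ u : W, u ≠ 0 ∧ Q (u : V) = 0
  · left
    obtain ⟨u, hu0, hu⟩ := hiso
    obtain ⟨v, hv, huv⟩ := CfsgLib.Classical.exists_partner_quad hW hu0 hu
    have hu' : Q (u : V) = 0 := hu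
    have hv' : Q (v : V) = 0 := hv
    have huv' : QuadraticMap.polar ⇑Q (u : V) (v : V) = 1 := huv
    have hli : LinearIndependent F ![u, v] := by
      rw [LinearIndependent.pair_iff]
      intro s t hst
      have h1 := congrArg (fun z : W => QuadraticMap.polar ⇑Q (z : V) (v : V)) hst
      have h2 := congrArg (fun z : W => QuadraticMap.polar ⇑Q (z : V) (u : V)) hst
      simp [QuadraticMap.polar_self, hu', hv', huv', QuadraticMap.polar_comm ⇑Q (v : V) (u : V)] at h1 h2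
      exact ⟨h1, h2⟩
    let v' : Fin (k + 1) ⊕ Fin (k + 1) → V := Sum.elim (Fin.cons (u : V) e) (Fin.cons (v : V) f)
    obtain ⟨b, hb⟩ := mkBasis v' (by simp; omega) (fun x => by
      obtain ⟨w, hw, hx⟩ := h.exists_proj x
      obtain ⟨s, t, hst⟩ := spanW u v hli ⟨w, hw⟩
      have hst' : w = s • (u : V) + t • (v : V) := congrArg Subtype.val hst
      rw [hx, hst']
      refine add_mem (add_mem (sum_mem fun i _ => ?_) (sum_mem fun i _ => ?_)) (add_mem ?_ ?_) <;>
        refine Submodule.smul_mem _ _ (Submodule.subset_span ?_)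
      · exact ⟨.inl i.succ, by simp [v']⟩
      · exact ⟨.inr i.succ, by simp [v']⟩
      · exact ⟨.inl 0, by simp [v']⟩
      · exact ⟨.inr 0, by simp [v']⟩)
    refine ⟨b, fun i => ?_, fun i j => ?_, fun i j => ?_⟩ <;> rw [hb] <;>
      refine Fin.cases ?_ (fun i => ?_) i <;> try refine Fin.cases ?_ (fun j => ?_) j
    all_goals simp [v', hu', hv', huv', h.qe, h.qf, h.ef, h.ee, h.ff, QuadraticMap.polar_self, (cross u _).1,
      (cross u _).2, (cross v _).1, (cross v _).2, (u.2 _).1, (u.2 _).2, (v.2 _).1, (v.2 _).2, Fin.succ_ne_zero,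
      (Fin.succ_ne_zero _).symm]
  · right
    push Not at hiso
    obtain ⟨x, y, ζ, hζ, hx, hxy, hy, hli⟩ := CfsgLib.Classical.exists_binary_normal _ hW hd (fun w hw => by
      by_contra hne; exact hiso w hne hw)
    have hx' : Q (x : V) = 1 := hx
    have hy' : Q (y : V) = ζ := hy
    have hxy' : QuadraticMap.polar ⇑Q (x : V) (y : V) = 1 := hxy
    let v' : (Fin k ⊕ Fin k) ⊕ Fin 2 → V := Sum.elim (Sum.elim e f) ![(x : V), (y : V)]
    obtain ⟨b, hb⟩ := mkBasis v' (by simp; omega) (fun z => by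
      obtain ⟨w, hw, hz⟩ := h.exists_proj z
      obtain ⟨s, t, hst⟩ := spanW x y hli ⟨w, hw⟩
      have hst' : w = s • (x : V) + t • (y : V) := congrArg Subtype.val hst
      rw [hz, hst']
      refine add_mem (add_mem (sum_mem fun i _ => ?_) (sum_mem fun i _ => ?_)) (add_mem ?_ ?_) <;>
        refine Submodule.smul_mem _ _ (Submodule.subset_span ?_)
      · exact ⟨.inl (.inl i), rfl⟩
      · exact ⟨.inl (.inr i), rfl⟩
      · exact ⟨.inr 0, rfl⟩
      · exact ⟨.inr 1, rfl⟩)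
    refine ⟨b, ζ, hζ, fun i => ?_, fun i j => ?_, fun i j => ?_, fun i l => ?_, ?_, ?_, ?_⟩ <;> rw [hb]
    · exact ⟨h.qe i, h.qf i⟩
    · exact h.ef i j
    · exact ⟨h.ee i j, h.ff i j⟩
    · fin_cases l
      · exact ⟨(cross x i).1, (cross x i).2⟩
      · exact ⟨(cross y i).1, (cross y i).2⟩
    · exact hx'
    · exact hxy'
    · exact hy'

end Cfsg.Agent.S2616
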