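import Cfsg.Statements.S2617
import Mathlib

set_option autoImplicit false
open Cfsg

namespace Cfsg.Agent.S2617

/-- The two standard quadratic forms of even dimension 2m over a finite field are not isometric: there is no linear isomorphism carrying the elliptic form Σ_(i<m−1) x_i y_i + z₁² + z₁z₂ + ζ z₂² (t² + t + ζ without roots) to the hyperbolic form Σ_(i<m) x_i y_i (they have different Witt index). -/
theorem result {F : Type*} [Field F] [Finite F] {m : ℕ} (hm : 1 ≤ m) (ζ : F) (hζ : ∀ t : F, t ^ 2 + t + ζ ≠ 0) (g : (Fin m ⊕ Fin m → F) ≃ₗ[F] ((Fin (m - 1) ⊕ Fin (m - 1)) ⊕ Fin 2 → F)) : ¬ (∀ v : Fin m ⊕ Fin m → F, Cfsg.quadFormMinus (m - 1) F 1 ζ (g v) = Cfsg.quadFormPlus m F v) := by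
  classical
  intro hQ
  obtain ⟨k, rfl⟩ : ∃ k, m = k + 1 := ⟨m - 1, by omega⟩
  let ι : (Fin (k + 1) → F) →ₗ[F] (Fin (k + 1) ⊕ Fin (k + 1) → F) :=
    { toFun := fun x => Sum.elim x 0
      map_add' := fun x y => by funext i; cases i <;> simp
      map_smul' := fun c x => by funext i; cases i <;> simp }
  let φ : (Fin (k + 1) → F) →ₗ[F] ((Fin k ⊕ Fin k) ⊕ Fin 2 → F) := g.toLinearMap ∘ₗ ι
  have hφ : ∀ x, Cfsg.quadFormMinus k F 1 ζ (φ x) = 0 := fun x => by
    have := hQ (ι x)
    simp only [Cfsg.quadFormPlus, ι, LinearMap.coe_mk, AddHom.coe_mk, Sum.elim_inl, Sum.elim_inr,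
      Pi.zero_apply, mul_zero, Finset.sum_const_zero] at this
    exact this
  let X : (Fin (k + 1) → F) →ₗ[F] (Fin k → F) := LinearMap.pi fun i =>
    (LinearMap.proj (Sum.inl (Sum.inl i))).comp φ
  let Y : (Fin (k + 1) → F) →ₗ[F] (Fin k → F) := LinearMap.pi fun i =>
    (LinearMap.proj (Sum.inl (Sum.inr i))).comp φ
  have haniso : ∀ z₁ z₂ : F, z₁ ^ 2 + 1 * z₁ * z₂ + ζ * z₂ ^ 2 = 0 → z₁ = 0 ∧ z₂ = 0 := by
    intro z₁ z₂ h
    by_cases h2 : z₂ = 0
    · subst h2
      simp at h
      exact ⟨h, rfl⟩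
    · exact absurd (by field_simp; linear_combination h) (hζ (z₁ / z₂))
  have hker : ∀ w ∈ LinearMap.ker X, φ w (Sum.inr 0) = 0 ∧ φ w (Sum.inr 1) = 0 := by
    intro w hw
    have h := hφ w
    have hx : ∀ i, φ w (Sum.inl (Sum.inl i)) = 0 := fun i => congrFun hw i
    simp only [Cfsg.quadFormMinus, hx, zero_mul, Finset.sum_const_zero, zero_add] at h
    exact haniso _ _ h
  have horth : ∀ w ∈ LinearMap.ker X, ∀ u, ∑ i, Y w i * X u i = 0 := by
    intro w hw u
    have h := hφ (w + u)
    have h1 := hφ u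
    obtain ⟨hz0, hz1⟩ := hker w hw
    have hx : ∀ i, φ w (Sum.inl (Sum.inl i)) = 0 := fun i => congrFun hw i
    simp only [Cfsg.quadFormMinus, map_add, Pi.add_apply, hx, hz0, hz1, zero_add, mul_add,
      Finset.sum_add_distrib] at h h1
    calc ∑ i, Y w i * X u i = ∑ i, φ u (Sum.inl (Sum.inl i)) * φ w (Sum.inl (Sum.inr i)) := by
          refine Finset.sum_congr rfl fun i _ => ?_
          simp [X, Y, mul_comm]
      _ = 0 := by linear_combination h - h1
  let A := LinearMap.range X
  let B := (LinearMap.ker X).map Y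
  have hAB : A.map (dotProductEquiv F (Fin k)).toLinearMap ≤ B.dualAnnihilator := by
    rintro _ ⟨_, ⟨u, rfl⟩, rfl⟩
    rw [Submodule.mem_dualAnnihilator]
    rintro _ ⟨w, hw, rfl⟩
    simp only [LinearEquiv.coe_toLinearMap, dotProductEquiv_apply_apply, dotProduct]
    rw [← horth w hw u]
    exact Finset.sum_congr rfl fun i _ => mul_comm _ _
  have h1 := Submodule.finrank_mono hAB
  rw [LinearEquiv.finrank_map_eq] at h1
  have h2 := Subspace.finrank_add_finrank_dualAnnihilator_eq B
  rw [Module.finrank_fin_fun] at h2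
  have h3 := LinearMap.finrank_range_add_finrank_ker X
  rw [Module.finrank_fin_fun] at h3
  have h4 : Module.finrank F B = Module.finrank F (LinearMap.ker X) := by
    have hinj : Function.Injective (Y.domRestrict (LinearMap.ker X)) := by
      refine (injective_iff_map_eq_zero _).2 fun w hw => Subtype.ext ?_
      have hφ0 : φ (w : Fin (k + 1) → F) = 0 := by
        funext t
        obtain ⟨hz0, hz1⟩ := hker _ w.2
        rcases t with (t | t) | t
        · exact congrFun w.2 t
        · exact congrFun hw t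
        · fin_cases t
          · exact hz0
          · exact hz1
      have hι : ι (w : Fin (k + 1) → F) = 0 := g.injective (by simpa [φ] using hφ0)
      funext i
      exact congrFun hι (Sum.inl i)
    rw [← LinearMap.finrank_range_of_inj hinj, LinearMap.range_domRestrict]
  simp only [A] at h1
  omega

end Cfsg.Agent.S2617
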