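import Cfsg.Statements.S2618
import Cfsg.Agent.Lib.Classical.QuadNormal

set_option autoImplicit false
open Cfsg

namespace Cfsg.Agent.S2618

/-- Standard (parabolic) basis of a non-degenerate quadratic space of odd dimension 2m + 1 over a finite field (the non-degeneracy of the polar form forces the characteristic to be odd): there is a basis e_i, f_i (i < m), x with Q(e_i) = Q(f_i) = 0, B(e_i, f_j) = δ_ij (B the polar form), the e's pairwise orthogonal and the f's pairwise orthogonal, x orthogonal to all of them and Q(x) ≠ 0. -/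
theorem result {F V : Type*} [Field F] [Finite F] [AddCommGroup V] [Module F V] [FiniteDimensional F V] {m : ℕ} (hV : Module.finrank F V = 2 * m + 1) (Q : QuadraticForm F V) (hQ : (QuadraticMap.polarBilin Q).Nondegenerate) : ∃ b : Module.Basis (Unit ⊕ (Fin m ⊕ Fin m)) F V, Q (b (Sum.inl ())) ≠ 0 ∧ (∀ i, QuadraticMap.polar ⇑Q (b (Sum.inl ())) (b (Sum.inr (Sum.inl i))) = 0 ∧ QuadraticMap.polar ⇑Q (b (Sum.inl ())) (b (Sum.inr (Sum.inr i))) = 0) ∧ (∀ i, Q (b (Sum.inr (Sum.inl i))) = 0 ∧ Q (b (Sum.inr (Sum.inr i))) = 0) ∧ (∀ i j, QuadraticMap.polar ⇑Q (b (Sum.inr (Sum.inl i))) (b (Sum.inr (Sum.inr j))) = if i = j then 1 else 0) ∧ (∀ i j, QuadraticMap.polar ⇑Q (b (Sum.inr (Sum.inl i))) (b (Sum.inr (Sum.inl j))) = 0 ∧ QuadraticMap.polar ⇑Q (b (Sum.inr (Sum.inr i))) (b (Sum.inr (Sum.inr j))) = 0) := by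
  classical
  obtain ⟨e, f, h⟩ := CfsgLib.Classical.exists_hypFamily Q hQ m (by omega)
  have hW := h.perp_nondegenerate hQ
  have hd : Module.finrank F (CfsgLib.Classical.pairsPerp Q e f) = 1 := by
    have := h.finrank_perp
    omega
  obtain ⟨z, hz0, hz⟩ := finrank_eq_one_iff'.1 hd
  let v' : Unit ⊕ (Fin m ⊕ Fin m) → V := Sum.elim (fun _ => (z : V)) (Sum.elim e f)
  haveI : Nonempty (Unit ⊕ (Fin m ⊕ Fin m)) := ⟨.inl ()⟩
  have hs : ⊤ ≤ Submodule.span F (Set.range v') := fun x _ => by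
    obtain ⟨w, hw, hx⟩ := h.exists_proj x
    obtain ⟨c, hc⟩ := hz ⟨w, hw⟩
    have hc' : w = c • (z : V) := (congrArg Subtype.val hc).symm
    rw [hx, hc']
    refine add_mem (add_mem (sum_mem fun i _ => ?_) (sum_mem fun i _ => ?_)) ?_ <;>
      refine Submodule.smul_mem _ _ (Submodule.subset_span ?_)
    · exact ⟨.inr (.inl i), rfl⟩
    · exact ⟨.inr (.inr i), rfl⟩
    · exact ⟨.inl (), rfl⟩
  let b := basisOfTopLeSpanOfCardEqFinrank v' hs (by simp [hV]; omega)
  have hb : ⇑b = v' := coe_basisOfTopLeSpanOfCardEqFinrank _ _ _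
  refine ⟨b, ?_, fun i => ?_, fun i => ?_, fun i j => ?_, fun i j => ?_⟩ <;> rw [hb]
  · intro h0
    refine hz0 (hW.1 z fun w => ?_)
    obtain ⟨c, rfl⟩ := hz w
    show QuadraticMap.polar ⇑Q (z : V) ((c • z : _) : V) = 0
    rw [Submodule.coe_smul, QuadraticMap.polar_smul_right, QuadraticMap.polar_self]
    simp only [show Q (z : V) = 0 from h0, smul_zero]
  · exact ⟨(z.2 i).1, (z.2 i).2⟩
  · exact ⟨h.qe i, h.qf i⟩
  · exact h.ef i j
  · exact ⟨h.ee i j, h.ff i j⟩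

end Cfsg.Agent.S2618
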