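import Cfsg.Statements.S2619
import Mathlib

set_option autoImplicit false
open Cfsg

namespace Cfsg.Agent.S2619

/-- Over a finite field of characteristic two, given an alternating bilinear form B on a finite-dimensional space, a basis (v_i) and scalars (λ_i), there is exactly one quadratic form whose polar form is B and whose value at each v_i is λ_i. -/
theorem result {F V ι : Type*} [Field F] [Finite F] [CharP F 2] [AddCommGroup V] [Module F V] [Fintype ι] (b : Module.Basis ι F V) (B : LinearMap.BilinForm F V) (hB : B.IsAlt) (c : ι → F) : ∃! Q : QuadraticForm F V, QuadraticMap.polarBilin Q = B ∧ ∀ i, Q (b i) = c i := by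
  classical
  letI : LinearOrder ι := LinearOrder.lift' (Fintype.equivFin ι) (Fintype.equivFin ι).injective
  let M : ι → ι → F := fun i j => if i < j then B (b i) (b j) else if i = j then c i else 0
  let C : LinearMap.BilinForm F V := b.constr F fun i => b.constr F fun j => M i j
  have hC : ∀ i j, C (b i) (b j) = M i j := fun i j => by simp [C]
  refine ⟨C.toQuadraticMap, ⟨?_, fun i => ?_⟩, ?_⟩
  · refine b.ext fun i => b.ext fun j => ?_
    rw [QuadraticMap.polarBilin_apply_apply, LinearMap.BilinMap.polar_toQuadraticMap, hC, hC]
    simp only [M]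
    rcases lt_trichotomy i j with h | rfl | h
    · rw [if_pos h, if_neg (not_lt.2 h.le), if_neg h.ne', add_zero]
    · rw [if_neg (lt_irrefl i), if_pos rfl, CharTwo.add_self_eq_zero]
      exact (hB (b i)).symm
    · rw [if_pos h, if_neg (not_lt.2 h.le), if_neg h.ne', zero_add, ← LinearMap.IsAlt.neg hB (b i) (b j),
        CharTwo.neg_eq]
  · rw [LinearMap.BilinMap.toQuadraticMap_apply, hC]
    simp [M]
  · rintro Q ⟨hQp, hQc⟩
    ext v
    conv_lhs => rw [← b.sum_repr v]
    conv_rhs => rw [← b.sum_repr v]
    have hpol : ∀ x y, QuadraticMap.polar Q x y = QuadraticMap.polar C.toQuadraticMap x y := by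
      intro x y
      have h2 : QuadraticMap.polarBilin C.toQuadraticMap = B := by
        refine b.ext fun i => b.ext fun j => ?_
        rw [QuadraticMap.polarBilin_apply_apply, LinearMap.BilinMap.polar_toQuadraticMap, hC, hC]
        simp only [M]
        rcases lt_trichotomy i j with h | rfl | h
        · rw [if_pos h, if_neg (not_lt.2 h.le), if_neg h.ne', add_zero]
        · rw [if_neg (lt_irrefl i), if_pos rfl, CharTwo.add_self_eq_zero]
          exact (hB (b i)).symm
        · rw [if_pos h, if_neg (not_lt.2 h.le), if_neg h.ne', zero_add, ← LinearMap.IsAlt.neg hB (b i) (b j),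
            CharTwo.neg_eq]
      rw [← QuadraticMap.polarBilin_apply_apply, ← QuadraticMap.polarBilin_apply_apply, hQp, h2]
    induction (Finset.univ : Finset ι) using Finset.induction_on with
    | empty => simp
    | insert i s hi ih =>
      rw [Finset.sum_insert hi, QuadraticMap.map_add Q, QuadraticMap.map_add C.toQuadraticMap,
        ih, hpol, QuadraticMap.map_smul, QuadraticMap.map_smul, hQc,
        LinearMap.BilinMap.toQuadraticMap_apply (x := b i), hC]
      simp [M]

end Cfsg.Agent.S2619
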