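import Cfsg.Statements.S2621
import Cfsg.Agent.Lib.Classical.QuadDisc
import Cfsg.Agent.Lib.Classical.QuadOrder
import Cfsg.Agent.Lib.Classical.SL2Sylow

set_option autoImplicit false
open Cfsg

namespace Cfsg.Agent.S2621

/-- Discriminant of an elliptic quadratic form Σ_(i<m−1) x_i y_i + z₁² + a z₁z₂ + c z₂² (binary part anisotropic) in dimension 2m over a field with q elements, q odd, m ≥ 1: the determinant of the Gram matrix of its polar form in any basis is a square if and only if m(q − 1)/2 is odd (equivalently q^m ≡ 3 (mod 4)). -/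
theorem result {F : Type*} [Field F] [Fintype F] {q : ℕ} (hF : Fintype.card F = q) (hq : Odd q) {m : ℕ} (hm : 1 ≤ m) (a c : F) (hac : ∀ z₁ z₂ : F, z₁ ^ 2 + a * z₁ * z₂ + c * z₂ ^ 2 = 0 → z₁ = 0 ∧ z₂ = 0) {ι : Type*} [Fintype ι] [DecidableEq ι] (b : Module.Basis ι F ((Fin (m - 1) ⊕ Fin (m - 1)) ⊕ Fin 2 → F)) : IsSquare (Matrix.of (fun i j : ι => QuadraticMap.polar (Cfsg.quadFormMinus (m - 1) F a c) (b i) (b j))).det ↔ ¬ Even (m * (q - 1) / 2) := by
  classical
  subst hF
  obtain ⟨k, rfl⟩ : ∃ k, m = k + 1 := ⟨m - 1, by omega⟩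
  have h20 := CfsgLib.Classical.two_ne_zero_of_odd_card hq
  rw [← CfsgLib.Classical.minusQ_coe, CfsgLib.Classical.isSquare_gram_basis]
  have hG : CfsgLib.Classical.polarGram (CfsgLib.Classical.minusQ (k + 1 - 1) F a c) =
      Matrix.fromBlocks (Matrix.fromBlocks 0 1 1 0) 0 0 !![2, a; a, 2 * c] := by
    ext ((i | i) | i) ((j | j) | j) <;>
      simp [CfsgLib.Classical.polarGram, QuadraticMap.polar, CfsgLib.Classical.minusQ_coe, Cfsg.quadFormMinus,
        Pi.single_apply, Finset.sum_add_distrib, add_mul, mul_add, Matrix.one_apply, eq_comm]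
    fin_cases i <;> fin_cases j <;> simp <;> ring
  have hdet : (CfsgLib.Classical.polarGram (CfsgLib.Classical.minusQ (k + 1 - 1) F a c)).det =
      (-1 : F) ^ (k + 1) * (a ^ 2 - 4 * c) := by
    rw [hG, Matrix.det_fromBlocks_zero₂₁, CfsgLib.Classical.det_swap_blocks, Matrix.det_fin_two_of]
    simp only [Nat.add_sub_cancel]
    ring
  have hns : ¬ IsSquare (a ^ 2 - 4 * c) := by
    rintro ⟨r, hr⟩
    refine one_ne_zero (hac ((-a + r) / 2) 1 ?_).2
    field_simp
    linear_combination (-1 : F) * hr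
  rw [hdet, CfsgLib.Classical.isSquare_mul_right_iff h20 (pow_ne_zero _ (neg_ne_zero.2 one_ne_zero)) hns,
    CfsgLib.Classical.isSquare_neg_one_pow_iff hq]

end Cfsg.Agent.S2621
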