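import Cfsg.Statements.S2623
import Cfsg.Agent.Lib.Classical.QuadDisc
import Cfsg.Agent.Lib.Classical.SymmDiag

set_option autoImplicit false
open Cfsg

namespace Cfsg.Agent.S2623

/-- Over a finite field of odd order, two quadratic forms on F^n with non-degenerate polar forms are isometric (related by an invertible linear change of variables) if and only if their discriminants (determinants of the Gram matrices of their polar forms) lie in the same square class. -/
theorem result {F : Type*} [Field F] [Fintype F] (h2 : (2 : F) ≠ 0) {n : ℕ} (Q₁ Q₂ : QuadraticForm F (Fin n → F)) (h₁ : (QuadraticMap.polarBilin Q₁).Nondegenerate) (h₂ : (QuadraticMap.polarBilin Q₂).Nondegenerate) : (∃ g : (Fin n → F) ≃ₗ[F] (Fin n → F), ∀ v, Q₂ (g v) = Q₁ v) ↔ IsSquare ((Matrix.of (fun i j : Fin n => QuadraticMap.polar ⇑Q₁ (Pi.single i 1) (Pi.single j 1))).det * (Matrix.of (fun i j : Fin n => QuadraticMap.polar ⇑Q₂ (Pi.single i 1) (Pi.single j 1))).det) := by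
  classical
  show _ ↔ IsSquare ((CfsgLib.Classical.polarGram Q₁).det * (CfsgLib.Classical.polarGram Q₂).det)
  constructor
  · rintro ⟨g, hg⟩
    let b := (Pi.basisFun F (Fin n)).map g
    obtain ⟨s, hs, h⟩ := CfsgLib.Classical.exists_sq_gram_basis Q₂ b
    have e : (Matrix.of fun i j => QuadraticMap.polar ⇑Q₂ (b i) (b j)) = CfsgLib.Classical.polarGram Q₁ := by
      ext i j
      simp [b, CfsgLib.Classical.polarGram, QuadraticMap.polar, ← map_add, hg]
    rw [e] at h
    exact ⟨s * (CfsgLib.Classical.polarGram Q₂).det, by rw [h]; ring⟩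
  · intro hsq
    rcases n with _ | k
    · exact ⟨LinearEquiv.refl _ _, fun v => by
        rw [Subsingleton.elim (LinearEquiv.refl F (Fin 0 → F) v) 0, Subsingleton.elim v 0, QuadraticMap.map_zero,
          QuadraticMap.map_zero]⟩
    have hF : ringChar F ≠ 2 := fun h => h2 (by
      have : CharP F 2 := ringChar.of_eq h
      exact CharTwo.two_eq_zero)
    obtain ⟨α, hα⟩ := FiniteField.exists_nonsquare hF
    have hα0 : α ≠ 0 := fun h => hα (by rw [h]; exact IsSquare.zero)
    have hdim : Module.finrank F (Fin (k + 1) → F) = k + 1 := Module.finrank_fin_fun F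
    obtain ⟨b₁, o₁, f₁, l₁⟩ := CfsgLib.Classical.exists_orthogonal_one_or_nonsquare h2 (QuadraticMap.polarBilin Q₁)
      ⟨fun a b => QuadraticMap.polar_comm _ a b⟩ h₁ hdim α hα
    obtain ⟨b₂, o₂, f₂, l₂⟩ := CfsgLib.Classical.exists_orthogonal_one_or_nonsquare h2 (QuadraticMap.polarBilin Q₂)
      ⟨fun a b => QuadraticMap.polar_comm _ a b⟩ h₂ hdim α hα
    have hdet : ∀ (Q : QuadraticForm F (Fin (k + 1) → F)) (b : Module.Basis (Fin (k + 1)) F (Fin (k + 1) → F)),
        (∀ i j, i ≠ j → QuadraticMap.polar ⇑Q (b i) (b j) = 0) →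
        (∀ i, i ≠ Fin.last k → QuadraticMap.polar ⇑Q (b i) (b i) = 1) →
        ∃ s, s ≠ 0 ∧ QuadraticMap.polar ⇑Q (b (Fin.last k)) (b (Fin.last k)) =
          s * s * (CfsgLib.Classical.polarGram Q).det := by
      intro Q b o f
      obtain ⟨s, hs, h⟩ := CfsgLib.Classical.exists_sq_gram_basis Q b
      refine ⟨s, hs, h ▸ ?_⟩
      have e : (Matrix.of fun i j => QuadraticMap.polar ⇑Q (b i) (b j)) =
          Matrix.diagonal fun i => QuadraticMap.polar ⇑Q (b i) (b i) := by
        ext i j
        rcases eq_or_ne i j with rfl | h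
        · simp
        · simp [h, o i j h]
      rw [e, Matrix.det_diagonal, Finset.prod_eq_single (Fin.last k) (fun i _ hi => f i hi) (by simp)]
    obtain ⟨s₁, hs₁, e₁⟩ := hdet Q₁ b₁ o₁ f₁
    obtain ⟨s₂, hs₂, e₂⟩ := hdet Q₂ b₂ o₂ f₂
    have hprod : IsSquare (QuadraticMap.polar ⇑Q₁ (b₁ (Fin.last k)) (b₁ (Fin.last k)) *
        QuadraticMap.polar ⇑Q₂ (b₂ (Fin.last k)) (b₂ (Fin.last k))) := by
      obtain ⟨r, hr⟩ := hsq
      exact ⟨s₁ * s₂ * r, by rw [e₁, e₂]; linear_combination (s₁ * s₁ * s₂ * s₂) * hr⟩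
    have hl : QuadraticMap.polar ⇑Q₁ (b₁ (Fin.last k)) (b₁ (Fin.last k)) =
        QuadraticMap.polar ⇑Q₂ (b₂ (Fin.last k)) (b₂ (Fin.last k)) := by
      simp only [QuadraticMap.polarBilin_apply_apply] at l₁ l₂
      rcases l₁ with a | a <;> rcases l₂ with b | b <;> rw [a, b] at hprod ⊢
      · exact absurd (by simpa using hprod) hα
      · exact absurd (by simpa using hprod) hα
    refine ⟨b₁.equiv b₂ (Equiv.refl _), fun v => ?_⟩
    have hb : (QuadraticMap.polarBilin Q₂).compl₁₂ (b₁.equiv b₂ (Equiv.refl _)).toLinearMap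
        (b₁.equiv b₂ (Equiv.refl _)).toLinearMap = QuadraticMap.polarBilin Q₁ := by
      refine b₁.ext fun i => b₁.ext fun j => ?_
      simp only [LinearMap.compl₁₂_apply, LinearEquiv.coe_coe, Module.Basis.equiv_apply, Equiv.refl_apply,
        QuadraticMap.polarBilin_apply_apply]
      simp only [QuadraticMap.polarBilin_apply_apply] at o₁ o₂ f₁ f₂
      rcases eq_or_ne i j with rfl | h
      · by_cases h : i = Fin.last k
        · rw [h, hl]
        · rw [f₁ i h, f₂ i h]
      · rw [o₁ i j h, o₂ i j h]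
    have := congrArg (fun B : LinearMap.BilinForm F (Fin (k + 1) → F) => B v v) hb
    simp only [LinearMap.compl₁₂_apply, LinearEquiv.coe_coe, QuadraticMap.polarBilin_apply_apply,
      CfsgLib.Classical.polar_self_two] at this
    exact mul_left_cancel₀ h2 this

end Cfsg.Agent.S2623
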