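import Cfsg.Statements.S2624
import Cfsg.Agent.Lib.Orth.Omega
import Mathlib.LinearAlgebra.QuadraticForm.Basic
import Mathlib.LinearAlgebra.QuadraticForm.IsometryEquiv

set_option autoImplicit false
open Cfsg

namespace Cfsg.Agent.S2624

/-- For a quadratic form Q on F^n with non-degenerate polar form, F finite and n ≥ 2 even, every non-zero scalar c is the multiplier of some similarity: there is an invertible linear map g with Q(g v) = c·Q(v) for all v. -/
theorem result {F : Type*} [Field F] [Fintype F] {n : ℕ} (hn : 2 ≤ n) (he : Even n) (Q : QuadraticForm F (Fin n → F)) (hQ : (QuadraticMap.polarBilin Q).Nondegenerate) (c : F) (hc : c ≠ 0) : ∃ g : (Fin n → F) ≃ₗ[F] (Fin n → F), ∀ v, Q (g v) = c * Q v := by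
  classical
  by_cases h2 : (2 : F) = 0
  · obtain ⟨s, hs⟩ := CfsgLib.Orth.isSquare_of_two h2 c
    have hs0 : s ≠ 0 := fun e => hc (by rw [hs, e, mul_zero])
    refine ⟨LinearEquiv.smulOfUnit (Units.mk0 s hs0), fun v => ?_⟩
    show Q (s • v) = c * Q v
    rw [QuadraticMap.map_smul, smul_eq_mul, hs]
  haveI : Invertible (2 : F) := invertibleOfNonzero h2
  obtain ⟨k, rfl⟩ := he
  obtain ⟨w, ⟨e⟩⟩ := QuadraticForm.equivalent_weightedSumSquares Q
  have hdim : Module.finrank F (Fin (k + k) → F) = Fintype.card (Fin k ⊕ Fin k) := by simp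
  have he' : ∀ v, QuadraticMap.weightedSumSquares F w (e v) = Q v := e.map_app
  let σ : Fin (Module.finrank F (Fin (k + k) → F)) ≃ Fin k ⊕ Fin k :=
    (Fintype.equivFinOfCardEq (α := Fin k ⊕ Fin k) hdim.symm).symm
  have hw : ∀ i, w i ≠ 0 := by
    intro i hi
    obtain ⟨v, hv⟩ := e.toLinearEquiv.surjective (Pi.single i 1)
    have hv0 : v ≠ 0 := fun h => by
      rw [h, map_zero] at hv
      have hh := congrFun hv i
      simp at hh
    refine hv0 (hQ.1 v fun x => ?_)
    rw [QuadraticMap.polarBilin_apply_apply, QuadraticMap.polar, ← he' (v + x), ← he' v, ← he' x,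
      show e (v + x) = e v + e x from map_add e.toLinearEquiv v x, show e v = Pi.single i 1 from hv]
    simp only [QuadraticMap.weightedSumSquares_apply, Pi.add_apply, ← Finset.sum_sub_distrib, smul_eq_mul]
    refine Finset.sum_eq_zero fun j _ => ?_
    rcases eq_or_ne j i with rfl | hj
    · simp [hi]
    · simp [hj]
  let Tf : (Fin k ⊕ Fin k → F) → (Fin k → F) → (Fin k → F) → (Fin k ⊕ Fin k → F) := fun z x y =>
    Sum.elim (fun i => x i * z (.inl i) - w (σ.symm (.inr i)) * y i / w (σ.symm (.inl i)) * z (.inr i))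
      (fun i => y i * z (.inl i) + x i * z (.inr i))
  have hxy : ∀ i : Fin k, ∃ x y : F, w (σ.symm (.inl i)) * x ^ 2 + w (σ.symm (.inr i)) * y ^ 2 =
      c * w (σ.symm (.inl i)) := fun i => by
    open Polynomial in
    obtain ⟨a, b, hab⟩ := FiniteField.exists_root_sum_quadratic (R := F)
      (f := C (w (σ.symm (.inl i))) * X ^ 2 + C 0 * X + C (-(c * w (σ.symm (.inl i)))))
      (g := C (w (σ.symm (.inr i))) * X ^ 2 + C 0 * X + C 0)
      (Polynomial.degree_quadratic (hw _)) (Polynomial.degree_quadratic (hw _))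
      (FiniteField.odd_card_of_char_ne_two (fun h => h2 (by haveI := ringChar.of_eq h; exact CharTwo.two_eq_zero)))
    refine ⟨a, b, ?_⟩
    simp only [Polynomial.eval_add, Polynomial.eval_mul, Polynomial.eval_C, Polynomial.eval_pow, Polynomial.eval_X] at hab
    linear_combination hab
  choose x y hxy using hxy
  let T : (Fin (Module.finrank F (Fin (k + k) → F)) → F) →ₗ[F] (Fin (Module.finrank F (Fin (k + k) → F)) → F) :=
    { toFun := fun z => Tf (z ∘ σ.symm) x y ∘ σ
      map_add' := fun a b => by
        funext i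
        simp only [Function.comp_apply, Pi.add_apply, Tf]
        rcases σ i with j | j <;> simp <;> ring
      map_smul' := fun r a => by
        funext i
        simp only [Function.comp_apply, Pi.smul_apply, RingHom.id_apply, Tf]
        rcases σ i with j | j <;> simp <;> ring }
  have hT : ∀ z, QuadraticMap.weightedSumSquares F w (T z) = c * QuadraticMap.weightedSumSquares F w z := by
    intro z
    simp only [QuadraticMap.weightedSumSquares_apply, smul_eq_mul]
    rw [← σ.symm.sum_comp, ← σ.symm.sum_comp (fun i => w i * (z i * z i)), Fintype.sum_sum_type, Fintype.sum_sum_type,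
      ← Finset.sum_add_distrib, ← Finset.sum_add_distrib, Finset.mul_sum]
    refine Finset.sum_congr rfl fun i _ => ?_
    show w _ * ((Tf (z ∘ σ.symm) x y (σ (σ.symm (.inl i)))) * (Tf (z ∘ σ.symm) x y (σ (σ.symm (.inl i))))) +
      w _ * ((Tf (z ∘ σ.symm) x y (σ (σ.symm (.inr i)))) * (Tf (z ∘ σ.symm) x y (σ (σ.symm (.inr i))))) = _
    simp only [σ.apply_symm_apply, Tf, Sum.elim_inl, Sum.elim_inr, Function.comp_apply]
    have h := hxy i
    have hA := hw (σ.symm (.inl i))
    field_simp
    linear_combination (w (σ.symm (.inl i)) * z (σ.symm (.inl i)) ^ 2 + w (σ.symm (.inr i)) * z (σ.symm (.inr i)) ^ 2) * h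
  let G : (Fin (k + k) → F) →ₗ[F] (Fin (k + k) → F) :=
    e.toLinearEquiv.symm.toLinearMap ∘ₗ T ∘ₗ e.toLinearEquiv.toLinearMap
  have hG : ∀ v, Q (G v) = c * Q v := fun v => by
    rw [← he' (G v), ← he' v, ← hT]
    congr 1
    exact e.toLinearEquiv.apply_symm_apply _
  have hinj : Function.Injective G := by
    rw [← LinearMap.ker_eq_bot, Submodule.eq_bot_iff]
    intro v hv
    rw [LinearMap.mem_ker] at hv
    refine hQ.1 v fun u => ?_
    rw [QuadraticMap.polarBilin_apply_apply]
    have e1 := hG (v + u)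
    rw [map_add, hv, zero_add, hG] at e1
    have e2 := hG v
    rw [hv, QuadraticMap.map_zero] at e2
    rw [QuadraticMap.polar, mul_left_cancel₀ hc e1.symm, (mul_eq_zero.1 e2.symm).resolve_left hc]
    ring
  exact ⟨LinearEquiv.ofBijective G ⟨hinj, LinearMap.surjective_of_injective hinj⟩, hG⟩

end Cfsg.Agent.S2624
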