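import Cfsg.Statements.S2625
import Mathlib

set_option autoImplicit false
open Cfsg

namespace Cfsg.Agent.S2625

/-- For a quadratic form Q on F^n with non-degenerate polar form, F finite and n odd (so |F| is odd), the multiplier of any similarity is a square: if g is an invertible linear map with Q(g v) = c·Q(v) for all v then c is a square. -/
theorem result {F : Type*} [Field F] [Fintype F] {n : ℕ} (hn : Odd n) (Q : QuadraticForm F (Fin n → F)) (hQ : (QuadraticMap.polarBilin Q).Nondegenerate) (g : (Fin n → F) ≃ₗ[F] (Fin n → F)) (c : F) (hg : ∀ v, Q (g v) = c * Q v) : IsSquare c := by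
  classical
  set B := QuadraticMap.polarBilin Q
  have hB : (LinearMap.BilinForm.toMatrix' B).det ≠ 0 := by
    have h := (Matrix.nondegenerate_iff_det_ne_zero).1
      (LinearMap.BilinForm.nondegenerate_toMatrix'_iff.2 hQ)
    exact h
  have hcomp : LinearMap.BilinForm.comp B (g : (Fin n → F) →ₗ[F] (Fin n → F))
      (g : (Fin n → F) →ₗ[F] (Fin n → F)) = c • B := by
    refine LinearMap.ext₂ fun u v => ?_
    simp [B, QuadraticMap.polar, hg, ← map_add]
    ring
  have h1 := congrArg (fun M => (LinearMap.BilinForm.toMatrix' M).det) hcomp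
  simp only [LinearMap.BilinForm.toMatrix'_comp, map_smul, Matrix.det_mul, Matrix.det_transpose,
    Matrix.det_smul, Fintype.card_fin] at h1
  set d := (LinearMap.toMatrix' (g : (Fin n → F) →ₗ[F] (Fin n → F))).det
  have h2 : c ^ n = d ^ 2 := mul_right_cancel₀ hB (by rw [← h1]; ring)
  obtain ⟨k, rfl⟩ := hn
  by_cases hc : c = 0
  · exact ⟨0, by simp [hc]⟩
  refine ⟨d / c ^ k, ?_⟩
  field_simp
  rw [← h2]
  ring

end Cfsg.Agent.S2625
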