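import Cfsg.Statements.S2627
import Cfsg.Agent.Lib.Orth.Sum

set_option autoImplicit false
open Cfsg

namespace Cfsg.Agent.S2627

/-- For an orthogonal direct sum Q = Q₁ ⊕ Q₂ of quadratic forms with non-degenerate polar forms over a finite field, an isometry g₁ of Q₁ extended by the identity on the second summand lies in Ω(Q) (the commutator subgroup of the orthogonal group of Q) if and only if g₁ lies in Ω(Q₁). (Excluded: the field of two elements when the first summand or the whole space has dimension 4, where the commutator subgroup of O⁺₄(2) is smaller than the group usually called Ω.) -/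
theorem result {F : Type*} [Field F] [Fintype F] {k l : ℕ} (h : Fintype.card F ≠ 2 ∨ (k ≠ 4 ∧ k + l ≠ 4)) (Q₁ : QuadraticForm F (Fin k → F)) (Q₂ : QuadraticForm F (Fin l → F)) (h₁ : (QuadraticMap.polarBilin Q₁).Nondegenerate) (h₂ : (QuadraticMap.polarBilin Q₂).Nondegenerate) (g₁ : ↥(Cfsg.isometryGroup F ⇑Q₁)) : (∃ g : ↥(Cfsg.isometryGroup F (fun v : Fin k ⊕ Fin l → F => Q₁ (v ∘ Sum.inl) + Q₂ (v ∘ Sum.inr))), g ∈ Cfsg.Omega F (fun v : Fin k ⊕ Fin l → F => Q₁ (v ∘ Sum.inl) + Q₂ (v ∘ Sum.inr)) ∧ ((g : Matrix.GeneralLinearGroup (Fin k ⊕ Fin l) F) : Matrix (Fin k ⊕ Fin l) (Fin k ⊕ Fin l) F) = Matrix.fromBlocks ((g₁ : Matrix.GeneralLinearGroup (Fin k) F) : Matrix (Fin k) (Fin k) F) 0 0 1) ↔ g₁ ∈ Cfsg.Omega F ⇑Q₁ := by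
  classical
  have hA := CfsgLib.Orth.nd_of_qf Q₁ h₁
  have hB := CfsgLib.Orth.nd_of_qf Q₂ h₂
  have hg := CfsgLib.Orth.sumForm_nd hA hB
  refine ⟨?_, fun h1 => ⟨CfsgLib.Orth.blockIso ⇑Q₁ ⇑Q₂ (g₁, 1), CfsgLib.Orth.blockIso_mem_omega h1 (one_mem _), rfl⟩⟩
  rintro ⟨g, hmem, hm⟩
  rcases Nat.eq_zero_or_pos k with rfl | hk
  · rw [show g₁ = 1 from Subtype.ext (Units.ext (Matrix.ext fun i => i.elim0))]
    exact one_mem _
  have hge : g = CfsgLib.Orth.blockIso ⇑Q₁ ⇑Q₂ (g₁, 1) := Subtype.ext (Units.ext hm)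
  have hge' : g.1 = CfsgLib.Orth.blockGL (g₁.1, (1 : Matrix.GeneralLinearGroup (Fin l) F)) := by rw [hge]; rfl
  obtain ⟨e1, e2⟩ := CfsgLib.Orth.spn_block_left hA hB g₁.2
  rcases (show k = 1 ∨ 2 ≤ k by omega) with rfl | hk2
  · -- dimension one
    rcases Nat.eq_zero_or_pos l with rfl | hl
    · have hcomm : ∀ x y : ↥(Cfsg.isometryGroup F (fun v : Fin 1 ⊕ Fin 0 → F => Q₁ (v ∘ Sum.inl) + Q₂ (v ∘ Sum.inr))),
          x * y = y * x := fun x y => Subtype.ext (Units.ext (Matrix.ext fun i j => by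
        rcases i with i | i
        · rcases j with j | j
          · fin_cases i; fin_cases j
            simp [Matrix.mul_apply]
            ring
          · exact j.elim0
        · exact i.elim0))
      have hbot : g = 1 := by
        refine (Subgroup.eq_bot_iff_forall _).1 ?_ g hmem
        show commutator _ = ⊥
        rw [commutator_def, Subgroup.commutator_eq_bot_iff_le_centralizer]
        exact fun x _ => Subgroup.mem_centralizer_iff.2 fun y _ => hcomm y x
      have h1 : g₁ = 1 := by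
        rw [hbot] at hm
        refine Subtype.ext (Units.ext (Matrix.ext fun i j => ?_))
        have := congrFun (congrFun hm (Sum.inl i)) (Sum.inl j)
        simp [Matrix.one_apply, Sum.inl_injective.eq_iff] at this
        simpa [Matrix.one_apply] using this.symm
      rw [h1]
      exact one_mem _
    · have hex : Fintype.card F ≠ 2 ∨ Fintype.card (Fin 1 ⊕ Fin l) ≠ 4 := by
        rcases h with h | ⟨-, h⟩
        · exact Or.inl h
        · exact Or.inr (by simpa using h)
      obtain ⟨-, hp⟩ := (CfsgLib.Orth.mem_omega_iff hg (by simp; omega) hex g).1 hmem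
      rw [hge', e1] at hp
      have h0 : CfsgLib.Orth.wrk g₁.1 = 0 := by
        have hle : CfsgLib.Orth.wrk g₁.1 ≤ 1 := by
          have := Submodule.finrank_le (CfsgLib.Orth.moved g₁.1)
          rwa [Module.finrank_fintype_fun_eq_card, Fintype.card_fin] at this
        rw [Nat.even_iff] at hp
        omega
      rw [show g₁ = 1 from Subtype.ext (CfsgLib.Orth.eq_one_of_wrk_zero hA g₁.2 h0)]
      exact one_mem _
  · have hex : Fintype.card F ≠ 2 ∨ Fintype.card (Fin k ⊕ Fin l) ≠ 4 := by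
      rcases h with h | ⟨-, h⟩
      · exact Or.inl h
      · exact Or.inr (by simpa using h)
    have hex1 : Fintype.card F ≠ 2 ∨ Fintype.card (Fin k) ≠ 4 := by
      rcases h with h | ⟨h, -⟩
      · exact Or.inl h
      · exact Or.inr (by simpa using h)
    have hgo := (CfsgLib.Orth.mem_omega_iff hg (by simp; omega) hex g).1 hmem
    rw [hge', e1, e2] at hgo
    exact (CfsgLib.Orth.mem_omega_iff hA (by simp; omega) hex1 g₁).2 hgo

end Cfsg.Agent.S2627
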