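import Cfsg.Statements.S2628
import Cfsg.Agent.Lib.Orth.Sum

set_option autoImplicit false
open Cfsg

namespace Cfsg.Agent.S2628

/-- For the orthogonal direct sum Q ⊕ Q of two copies of a quadratic form Q with non-degenerate polar form on F^k (F finite), every isometry g of Q acting diagonally, diag(g, g), lies in Ω(Q ⊕ Q), the commutator subgroup of the orthogonal group of Q ⊕ Q. (Excluded: k = 2 over the field of two elements, where Q ⊕ Q is the hyperbolic 4-space whose orthogonal group's commutator subgroup is smaller than the group usually called Ω.) -/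
theorem result {F : Type*} [Field F] [Fintype F] {k : ℕ} (h : Fintype.card F ≠ 2 ∨ k ≠ 2) (Q : QuadraticForm F (Fin k → F)) (hQ : (QuadraticMap.polarBilin Q).Nondegenerate) (g : ↥(Cfsg.isometryGroup F ⇑Q)) : ∃ x : ↥(Cfsg.isometryGroup F (fun v : Fin k ⊕ Fin k → F => Q (v ∘ Sum.inl) + Q (v ∘ Sum.inr))), x ∈ Cfsg.Omega F (fun v : Fin k ⊕ Fin k → F => Q (v ∘ Sum.inl) + Q (v ∘ Sum.inr)) ∧ ((x : Matrix.GeneralLinearGroup (Fin k ⊕ Fin k) F) : Matrix (Fin k ⊕ Fin k) (Fin k ⊕ Fin k) F) = Matrix.fromBlocks ((g : Matrix.GeneralLinearGroup (Fin k) F) : Matrix (Fin k) (Fin k) F) 0 0 ((g : Matrix.GeneralLinearGroup (Fin k) F) : Matrix (Fin k) (Fin k) F) := by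
  classical
  have hA := CfsgLib.Orth.nd_of_qf Q hQ
  have hg := CfsgLib.Orth.sumForm_nd hA hA
  refine ⟨CfsgLib.Orth.blockIso ⇑Q ⇑Q (g, g), ?_, rfl⟩
  rcases Nat.eq_zero_or_pos k with rfl | hk
  · rw [show g = 1 from Subtype.ext (Units.ext (Matrix.ext fun i => i.elim0))]
    exact (map_one (CfsgLib.Orth.blockIso ⇑Q ⇑Q)).symm ▸ one_mem _
  have hex : Fintype.card F ≠ 2 ∨ Fintype.card (Fin k ⊕ Fin k) ≠ 4 := by
    rcases h with h | h
    · exact Or.inl h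
    · exact Or.inr (by simp; omega)
  obtain ⟨a1, a2⟩ := CfsgLib.Orth.spn_block_left hA hA g.2
  obtain ⟨b1, b2⟩ := CfsgLib.Orth.spn_block_right hA hA g.2
  obtain ⟨m1, m2⟩ := CfsgLib.Orth.spn_mul hg
    (CfsgLib.Orth.iso_le_reflGroup hg hex (CfsgLib.Orth.blockGL_mem g.2 (one_mem (Cfsg.isometryGroup F ⇑Q))))
    (CfsgLib.Orth.blockGL_mem (one_mem (Cfsg.isometryGroup F ⇑Q)) g.2)
  rw [← map_mul, Prod.mk_mul_mk, mul_one, one_mul] at m1 m2
  rw [a2, b2] at m1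
  rw [a1, b1] at m2
  refine (CfsgLib.Orth.mem_omega_iff hg (by simp; omega) hex _).2 ⟨?_, m2.2 Iff.rfl⟩
  show CfsgLib.Orth.spn _ (CfsgLib.Orth.blockGL (g.1, g.1)) = 1
  rw [m1]
  obtain ⟨u, hu⟩ : ∃ u, CfsgLib.Orth.sqMk F u = CfsgLib.Orth.spn (⇑Q) g.1 := QuotientGroup.mk'_surjective _ _
  rw [← hu, ← map_mul, CfsgLib.Orth.sqMk_eq_one_iff]
  exact ⟨u, by simp [sq]⟩

end Cfsg.Agent.S2628
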