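import Cfsg.Statements.S2632
import Cfsg.Agent.Lib.Perm.Trans.QuadTransitive

set_option autoImplicit false
open Cfsg

namespace Cfsg.Agent.S2632

/-- Ω is transitive on non-degenerate subspaces of each isometry type: for a quadratic form Q on F^n, n ≥ 3, with non-degenerate polar form (F finite; excluding dimension 4 over the field of two elements), if U and W are subspaces on which the polar form is non-degenerate and there is a Q-preserving linear isomorphism U → W, then some element of Ω (the commutator subgroup of the orthogonal group) carries U to W. (In dimension 2 this fails: Ω can be {±1}, which fixes every line.) -/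
theorem result {F : Type*} [Field F] [Fintype F] {n : ℕ} (hn : 3 ≤ n) (h : Fintype.card F ≠ 2 ∨ n ≠ 4) (Q : QuadraticForm F (Fin n → F)) (hQ : (QuadraticMap.polarBilin Q).Nondegenerate) (U W : Submodule F (Fin n → F)) (hU : U ⊓ LinearMap.BilinForm.orthogonal (QuadraticMap.polarBilin Q) U = ⊥) (hW : W ⊓ LinearMap.BilinForm.orthogonal (QuadraticMap.polarBilin Q) W = ⊥) (e : U ≃ₗ[F] W) (he : ∀ u : U, Q (e u : Fin n → F) = Q (u : Fin n → F)) : ∃ g : ↥(Cfsg.isometryGroup F ⇑Q), g ∈ Cfsg.Omega F ⇑Q ∧ U.map (Matrix.mulVecLin ((g : Matrix.GeneralLinearGroup (Fin n) F) : Matrix (Fin n) (Fin n) F)) = W := by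
  have hWnd : CfsgLib.Perm.Trans.Quad.NdOn (⇑Q) W := fun v hv hv0 => by
    have : ∃ x ∈ W, QuadraticMap.polar (⇑Q) x v ≠ 0 := by
      by_contra hcon
      push Not at hcon
      have h1 : v ∈ W ⊓ LinearMap.BilinForm.orthogonal (QuadraticMap.polarBilin Q) W :=
        ⟨hv, LinearMap.BilinForm.mem_orthogonal_iff.2 hcon⟩
      rw [hW] at h1
      exact hv0 h1
    obtain ⟨x, hx, hxv⟩ := this
    exact ⟨⟨x, hx, hxv⟩, x, hx, by rwa [QuadraticMap.polar_comm]⟩
  obtain ⟨g, hg, hgU⟩ := CfsgLib.Perm.Trans.Witt.witt_extension hQ U (W.subtype.comp e.toLinearMap)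
    (W.injective_subtype.comp e.injective) he
  obtain ⟨k, hk, hkg⟩ := CfsgLib.Perm.Trans.Quad.exists_iso_of_equiv (Q := ⇑Q) g hg
  have htop := CfsgLib.Perm.Trans.Quad.stab_sup_omega Q hQ (by simpa using hn) (by simpa using h) hWnd
  have hmem : (⟨k, hk⟩ : Cfsg.isometryGroup F ⇑Q) ∈
      (Cfsg.Geo.subspaceStabilizer W).comap (Cfsg.isometryGroup F ⇑Q).subtype ⊔ Cfsg.Omega F ⇑Q := by
    rw [htop]; exact Subgroup.mem_top _
  obtain ⟨s, hs, w, hw, hsw⟩ := Subgroup.mem_sup_of_normal_right.1 hmem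
  refine ⟨w, hw, ?_⟩
  have hmap : ∀ u ∈ U, ((w : Matrix.GeneralLinearGroup (Fin n) F) : Matrix (Fin n) (Fin n) F).mulVec u ∈ W := by
    intro u hu
    have hw' : (w : Matrix.GeneralLinearGroup (Fin n) F) = (s : Matrix.GeneralLinearGroup (Fin n) F)⁻¹ * k := by
      rw [eq_inv_mul_iff_mul_eq]
      exact congrArg Subtype.val hsw
    rw [hw', Units.val_mul, ← Matrix.mulVec_mulVec, hkg, hgU ⟨u, hu⟩]
    exact (CfsgLib.Perm.Trans.mem_subspaceStabilizer_iff.1 (inv_mem hs) _).1 (e ⟨u, hu⟩).2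
  refine Submodule.eq_of_le_of_finrank_le (Submodule.map_le_iff_le_comap.2 hmap) (le_of_eq ?_)
  rw [← LinearEquiv.finrank_eq e]
  refine LinearEquiv.finrank_eq (Submodule.equivMapOfInjective _ ?_ U)
  exact Matrix.mulVec_injective_iff_isUnit.2 (Units.isUnit _)

end Cfsg.Agent.S2632
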