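import Cfsg.Statements.S2633
import Cfsg.Agent.Lib.Orth.MaxSing

set_option autoImplicit false
open Cfsg

namespace Cfsg.Agent.S2633

/-- Ω is transitive on totally singular subspaces of each dimension less than half the dimension: for a quadratic form Q on F^n with non-degenerate polar form (F finite; excluding dimension 4 over the field of two elements), if U and W are subspaces of the same dimension k with 2k < n on which Q vanishes, then some element of Ω (the commutator subgroup of the orthogonal group) carries U to W. -/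
theorem result {F : Type*} [Field F] [Fintype F] {n : ℕ} (h : Fintype.card F ≠ 2 ∨ n ≠ 4) (Q : QuadraticForm F (Fin n → F)) (hQ : (QuadraticMap.polarBilin Q).Nondegenerate) (U W : Submodule F (Fin n → F)) {k : ℕ} (hk : 2 * k < n) (hU : Module.finrank F U = k) (hW : Module.finrank F W = k) (hU0 : ∀ u ∈ U, Q u = 0) (hW0 : ∀ w ∈ W, Q w = 0) : ∃ g : ↥(Cfsg.isometryGroup F ⇑Q), g ∈ Cfsg.Omega F ⇑Q ∧ U.map (Matrix.mulVecLin ((g : Matrix.GeneralLinearGroup (Fin n) F) : Matrix (Fin n) (Fin n) F)) = W := by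
  classical
  have hQ' := CfsgLib.Orth.nd_of_qf Q hQ
  have hex : Fintype.card F ≠ 2 ∨ Fintype.card (Fin n) ≠ 4 := by simpa using h
  rcases Nat.eq_zero_or_pos k with rfl | hk0
  · refine ⟨1, one_mem _, ?_⟩
    rw [Submodule.finrank_eq_zero.1 hU, Submodule.finrank_eq_zero.1 hW, Submodule.map_bot]
  obtain ⟨g, hg, hgU⟩ := CfsgLib.Orth.exists_map_ts hQ' (hU.trans hW.symm) hU0 hW0
  have hU1 : U ≠ ⊥ := fun e => by rw [e, finrank_bot] at hU; omega
  by_cases hev : Even (CfsgLib.Orth.wrk g)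
  · exact CfsgLib.Orth.omega_of_even hQ' (by simp; omega) hex hU0 hU1 hg hev hgU
  · obtain ⟨v, hvU, hv⟩ := CfsgLib.Orth.exists_nonsing_perp hQ' (U := U) (by simpa [hU] using hk)
    obtain ⟨r, hr, hrv⟩ := CfsgLib.Perm.Trans.Quad.exists_refl hQ' hv
    have hrU : U.map (Matrix.mulVecLin (r : Matrix (Fin n) (Fin n) F)) = U := by
      refine Submodule.eq_of_le_of_finrank_eq ?_ (CfsgLib.Orth.map_gl_finrank r U)
      rintro _ ⟨x, hx, rfl⟩
      rw [Matrix.mulVecLin_apply, CfsgLib.Perm.Trans.Quad.refl_fix hQ' hrv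
        (by rw [CfsgLib.Perm.Trans.Quad.pcomm]; exact hvU x hx)]
      exact hx
    refine CfsgLib.Orth.omega_of_even hQ' (by simp; omega) hex hU0 hU1 (mul_mem hg hr) ?_
      (by rw [CfsgLib.Orth.map_mulVec_mul, hrU, hgU])
    rw [(CfsgLib.Orth.spn_mul hQ' (CfsgLib.Orth.iso_le_reflGroup hQ' hex hg) hr).2,
      (CfsgLib.Orth.refl_spn hQ' hr hrv hv).1]
    simp [hev]

end Cfsg.Agent.S2633
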