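import Cfsg.Statements.S2634
import Cfsg.Agent.Lib.Orth.MaxSing

set_option autoImplicit false
open Cfsg

namespace Cfsg.Agent.S2634

/-- Over a finite field of characteristic two, Ω (the commutator subgroup of the orthogonal group of a quadratic form Q on F^n with non-degenerate polar form; excluding dimension 4 over the field of two elements) acts transitively on the non-singular 1-spaces: for u, v with Q(u) ≠ 0 and Q(v) ≠ 0 some element of Ω carries the line through u to the line through v. -/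
theorem result {F : Type*} [Field F] [Fintype F] [CharP F 2] {n : ℕ} (h : Fintype.card F ≠ 2 ∨ n ≠ 4) (Q : QuadraticForm F (Fin n → F)) (hQ : (QuadraticMap.polarBilin Q).Nondegenerate) (u v : Fin n → F) (hu : Q u ≠ 0) (hv : Q v ≠ 0) : ∃ g : ↥(Cfsg.isometryGroup F ⇑Q), g ∈ Cfsg.Omega F ⇑Q ∧ (F ∙ ((g : Matrix.GeneralLinearGroup (Fin n) F) : Matrix (Fin n) (Fin n) F).mulVec u) = F ∙ v := by
  classical
  have hQ' := CfsgLib.Orth.nd_of_qf Q hQ
  have hex : Fintype.card F ≠ 2 ∨ Fintype.card (Fin n) ≠ 4 := by simpa using h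
  have h2 : (2 : F) = 0 := CharTwo.two_eq_zero
  have hn : 2 ≤ Fintype.card (Fin n) := by
    rw [Fintype.card_fin]
    by_contra hlt
    obtain ⟨-, y, hy⟩ := hQ'.nondegenerate u (fun e => hu (by rw [e, CfsgLib.Perm.Trans.Quad.qzero hQ']))
    obtain ⟨t, ht⟩ : ∃ t : F, y = t • u := by
      rcases Nat.eq_zero_or_pos n with rfl | hpos
      · exact ⟨0, funext fun i => i.elim0⟩
      · obtain rfl : n = 1 := by omega
        have hu0 : u 0 ≠ 0 := fun e => hu (by
          rw [show u = 0 from funext fun i => by rw [Subsingleton.elim i 0]; exact e,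
            CfsgLib.Perm.Trans.Quad.qzero hQ'])
        exact ⟨y 0 / u 0, funext fun i => by
          rw [Subsingleton.elim i 0, Pi.smul_apply, smul_eq_mul, div_mul_cancel₀ _ hu0]⟩
    apply hy
    rw [ht, CfsgLib.Perm.Trans.Quad.psmul_right hQ', CfsgLib.Perm.Trans.Quad.pself hQ', h2, zero_mul, mul_zero]
  obtain ⟨s, hs⟩ := CfsgLib.Orth.isSquare_of_two h2 (Q u / Q v)
  have hs0 : s ≠ 0 := fun e => div_ne_zero hu hv (by rw [hs, e, mul_zero])
  have hval : Q u = Q (s • v) := by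
    rw [CfsgLib.Perm.Trans.Quad.qsmul hQ', sq, ← hs, div_mul_cancel₀ _ hv]
  obtain ⟨g, hg, hgu⟩ := CfsgLib.Orth.exists_iso_move hQ' hex hu hval
  have hspan : F ∙ (s • v) = F ∙ v := Submodule.span_singleton_smul_eq (IsUnit.mk0 s hs0) v
  have h1 := CfsgLib.Orth.card_sqClass_two (F := F) h2
  haveI := (Nat.card_eq_one_iff_unique.1 h1).1
  by_cases hev : Even (CfsgLib.Orth.wrk g)
  · exact ⟨⟨g, hg⟩, (CfsgLib.Orth.mem_omega_iff hQ' hn hex _).2 ⟨Subsingleton.elim _ _, hev⟩, by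
      show F ∙ Matrix.mulVec (g : Matrix (Fin n) (Fin n) F) u = _
      rw [hgu, hspan]⟩
  · obtain ⟨r, hr, hru⟩ := CfsgLib.Perm.Trans.Quad.exists_refl hQ' hu
    refine ⟨⟨g * r, mul_mem hg hr⟩, (CfsgLib.Orth.mem_omega_iff hQ' hn hex _).2 ⟨Subsingleton.elim _ _, ?_⟩, ?_⟩
    · show Even (CfsgLib.Orth.wrk (g * r))
      rw [(CfsgLib.Orth.spn_mul hQ' (CfsgLib.Orth.iso_le_reflGroup hQ' hex hg) hr).2,
        (CfsgLib.Orth.refl_spn hQ' hr hru hu).1]
      simp [hev]
    · show F ∙ Matrix.mulVec ((g * r : Matrix.GeneralLinearGroup (Fin n) F) : Matrix (Fin n) (Fin n) F) u = _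
      rw [CfsgLib.Perm.Trans.gl_mul_mulVec, CfsgLib.Perm.Trans.Quad.refl_fix hQ' hru
        (by rw [CfsgLib.Perm.Trans.Quad.pself hQ', h2, zero_mul]), hgu, hspan]

end Cfsg.Agent.S2634
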