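import Cfsg.Statements.S2635
import Cfsg.Agent.Lib.Orth.ReflProducts

set_option autoImplicit false
open Cfsg

namespace Cfsg.Agent.S2635

/-- Over a finite field of characteristic two, for a quadratic form Q on F^n with non-degenerate polar form, n ≥ 2, other than dimension 4 over the field of two elements, Ω (the commutator subgroup of the orthogonal group) is exactly the subgroup generated by the products of two reflections (orthogonal transvections) x ↦ x − Q(v)⁻¹ f(x, v) v, Q(v) ≠ 0: the products of an even number of reflections. -/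
theorem result {F : Type*} [Field F] [Fintype F] [CharP F 2] {n : ℕ} (hn : 2 ≤ n) (h : Fintype.card F ≠ 2 ∨ n ≠ 4) (Q : QuadraticForm F (Fin n → F)) (hQ : (QuadraticMap.polarBilin Q).Nondegenerate) : Cfsg.Omega F ⇑Q = Subgroup.closure {g : ↥(Cfsg.isometryGroup F ⇑Q) | ∃ u v : Fin n → F, Q u ≠ 0 ∧ Q v ≠ 0 ∧ ((g : Matrix.GeneralLinearGroup (Fin n) F) : Matrix (Fin n) (Fin n) F) = Cfsg.reflectionMatrix ⇑Q u * Cfsg.reflectionMatrix ⇑Q v} := by
  have hQ' := CfsgLib.Orth.nd_of_qf Q hQ
  have hex : Fintype.card F ≠ 2 ∨ Fintype.card (Fin n) ≠ 4 := by simpa using h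
  ext g
  rw [CfsgLib.Orth.mem_omega_iff hQ' (by simpa using hn) hex,
    CfsgLib.Orth.even_mem_closure_pairs hQ (by simp; omega) hex]
  refine ⟨fun x => x.2, fun x => ⟨?_, x⟩⟩
  have h1 := CfsgLib.Orth.card_sqClass_two (F := F) CharTwo.two_eq_zero
  haveI := (Nat.card_eq_one_iff_unique.1 h1).1
  exact Subsingleton.elim _ _

end Cfsg.Agent.S2635
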