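import Cfsg.Statements.S2636
import Cfsg.Agent.Lib.Descent.FixedField

set_option autoImplicit false
open Cfsg

namespace Cfsg.Agent.S2636

/-- Centraliser of a field automorphism in PGL_n: let F be the field with q = q₀^r elements, σ a field automorphism of F of prime order r (so its fixed field has q₀ elements) and n ≥ 1. The invertible matrices g whose entrywise image under σ is a scalar multiple of g — those whose coset modulo scalars is fixed by σ — number (q − 1)/(q₀ − 1) · |GL_n(q₀)|; equivalently the centraliser in PGL_n(q) of the induced automorphism has the order of PGL_n(q₀). -/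
theorem result {F : Type*} [Field F] [Fintype F] {q₀ r n : ℕ} (hr : r.Prime) (hn : 1 ≤ n) (hF : Fintype.card F = q₀ ^ r) (σ : F ≃+* F) (hσ : orderOf σ = r) : Nat.card {g : GL (Fin n) F // ∃ c : F, c ≠ 0 ∧ (g : Matrix (Fin n) (Fin n) F).map σ = c • (g : Matrix (Fin n) (Fin n) F)} = (q₀ ^ r - 1) / (q₀ - 1) * ∏ i : Fin n, (q₀ ^ n - q₀ ^ (i : ℕ)) := by
  classical
  set K := CfsgLib.Descent.fixedField (σ : RingAut F) with hKdef
  haveI : Fintype K := Fintype.ofFinite _
  have hK : Fintype.card K = q₀ := by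
    have h := CfsgLib.Descent.card_fixedField_pow (σ : RingAut F)
    rw [show orderOf (σ : RingAut F) = r from hσ, hF, ← hKdef, Nat.card_eq_fintype_card] at h
    exact Nat.pow_left_injective hr.ne_zero h
  let j : K →+* F := K.subtype
  let z : Fin n := ⟨0, hn⟩
  let Φ : Fˣ × GL (Fin n) K →* GL (Fin n) F :=
    ((Units.map (Matrix.scalar (Fin n) : F →+* _).toMonoidHom).noncommCoprod (Matrix.GeneralLinearGroup.map j)
      (fun a u => Units.ext ((Matrix.scalar_commute _ (fun _ => Commute.all _ _) _).eq)))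
  have hΦ : ∀ p, (Φ p).1 = (p.1 : F) • p.2.1.map j := fun p => by
    show Matrix.scalar (Fin n) (p.1 : F) * _ = _
    rw [Matrix.scalar_apply, ← Matrix.smul_one_eq_diagonal, Matrix.smul_mul, one_mul]
    rfl
  have hfix : ∀ u : Matrix (Fin n) (Fin n) K, (u.map j).map σ = u.map j := fun u => Matrix.ext fun a b => (u a b).2
  have hrange : ∀ g : GL (Fin n) F, (∃ c : F, c ≠ 0 ∧ g.1.map σ = c • g.1) ↔ g ∈ Φ.range := fun g => by
    constructor
    · rintro ⟨c, hc, hg⟩
      obtain ⟨b, hb⟩ : ∃ b, g.1 z b ≠ 0 := by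
        by_contra h
        push Not at h
        exact g.det_ne_zero (Matrix.det_eq_zero_of_row_eq_zero z h)
      set x := g.1 z b
      have he : ∀ i k, σ (g.1 i k) = c * g.1 i k := fun i k => congrFun (congrFun hg i) k
      let M : Matrix (Fin n) (Fin n) K := Matrix.of fun i k => ⟨x⁻¹ * g.1 i k, by
        show σ _ = _
        rw [map_mul, map_inv₀, he, he, mul_inv, mul_comm c⁻¹, mul_assoc, inv_mul_cancel_left₀ hc]⟩
      have hM : M.map j = x⁻¹ • g.1 := rfl
      have hdet : M.det ≠ 0 := fun h0 => by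
        have h1 : j M.det = (M.map j).det := j.map_det M
        rw [h0, map_zero, hM, Matrix.det_smul] at h1
        exact mul_ne_zero (pow_ne_zero _ (inv_ne_zero hb)) g.det_ne_zero h1.symm
      refine ⟨(Units.mk0 x hb, Matrix.GeneralLinearGroup.mkOfDetNeZero M hdet), Units.ext ?_⟩
      rw [hΦ]
      show x • M.map j = g.1
      rw [hM, smul_inv_smul₀ hb]
    · rintro ⟨p, rfl⟩
      refine ⟨σ p.1 / p.1, div_ne_zero (by simp) p.1.ne_zero, ?_⟩
      rw [hΦ, Matrix.map_smul' σ _ _ (map_mul σ), hfix, smul_smul, div_mul_cancel₀ _ p.1.ne_zero]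
  rw [Nat.card_congr (Equiv.subtypeEquivRight (q := (· ∈ Φ.range)) hrange)]
  have hker : Nat.card Φ.ker = q₀ - 1 := by
    rw [← hK, ← Nat.card_eq_fintype_card, ← Nat.card_units]
    refine (Nat.card_eq_of_bijective (fun d : Kˣ => (⟨(Units.map (j : K →* F) d, Units.map (Matrix.scalar (Fin n) : K →+* _).toMonoidHom d⁻¹), ?_⟩ : Φ.ker)) ⟨?_, ?_⟩).symm
    · rw [MonoidHom.mem_ker, Units.ext_iff, hΦ, Units.val_one]
      ext a b
      by_cases hab : a = b
      · subst hab
        simp [← map_mul]
      · simp [hab]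
    · intro d e h
      exact Units.ext (j.injective (congrArg (fun p : Φ.ker => (p.1.1 : F)) h))
    · rintro ⟨⟨a, u⟩, hp⟩
      rw [MonoidHom.mem_ker, Units.ext_iff, hΦ] at hp
      have h1 : ∀ i k, (a : F) * j (u.1 i k) = (1 : Matrix (Fin n) (Fin n) F) i k := fun i k => congrFun (congrFun hp i) k
      have ha : (a : F) * j (u.1 z z) = 1 := by simpa using h1 z z
      have hu : u.1 z z ≠ 0 := fun h0 => by simp [h0] at ha
      refine ⟨(Units.mk0 _ hu)⁻¹, Subtype.ext (Prod.ext (Units.ext ?_) (Units.ext (Matrix.ext fun i k => j.injective ?_)))⟩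
      · simp only [Units.coe_map, Units.val_inv_eq_inv_val, Units.val_mk0, MonoidHom.coe_coe, map_inv₀]
        exact (eq_inv_of_mul_eq_one_left ha).symm
      · refine mul_left_cancel₀ a.ne_zero ((?_ : _ = _).trans (h1 i k).symm)
        by_cases hik : i = k
        · subst hik
          simpa using ha
        · simp [hik]
  have h := Subgroup.card_mul_index Φ.ker
  rw [Subgroup.index_ker, hker, Nat.card_prod, Nat.card_units, Nat.card_eq_fintype_card (α := F), hF,
    Matrix.card_GL_field, hK] at h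
  have hq : 2 ≤ q₀ := hK ▸ Fintype.one_lt_card
  obtain ⟨k, hk⟩ := Nat.sub_dvd_pow_sub_pow q₀ 1 r
  rw [one_pow] at hk
  rw [hk, Nat.mul_div_cancel_left _ (show 0 < q₀ - 1 by omega)]
  rw [hk, mul_assoc] at h
  exact Nat.eq_of_mul_eq_mul_left (show 0 < q₀ - 1 by omega) h

end Cfsg.Agent.S2636
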