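import Cfsg.Statements.S2642
import Mathlib
import Cfsg.Agent.Lib.GLClass.UnitaryUnipotent
import Cfsg.Agent.S2570

set_option autoImplicit false
open Cfsg

namespace Cfsg.Agent.S2642

/-- Number of conjugacy classes of elements of order p in the general unitary group GU_n(q), q a power of p: every unipotent Jordan type occurs and the classes correspond to the partitions of n with all parts at most p other than the all-ones partition, exactly as in GL_n; so there are (number of partitions of n with parts ≤ p) − 1 classes. -/
theorem result {K : Type*} [Field K] [Fintype K] {p q n : ℕ} [Fact p.Prime] [CharP K p] (hK : Fintype.card K = q ^ 2) : Nat.card {C : ConjClasses ↥(Cfsg.GU n K q) // ∃ g : ↥(Cfsg.GU n K q), ConjClasses.mk g = C ∧ orderOf g = p} = (Finset.univ.filter (fun μ : Nat.Partition n => ∀ a ∈ μ.parts, a ≤ p)).card - 1 := by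
  have h := CfsgLib.GLClass.card_gu_classes (n := n) hK (fun g => orderOf g = p)
    (fun g h hc hg => by
      obtain ⟨c, rfl⟩ := isConj_iff.1 hc
      rw [← hg]
      exact orderOf_injective (MulAut.conj c).toMonoidHom (MulEquiv.injective _) g)
    (fun g hg => ⟨p, ((CfsgLib.GLClass.orderOf_eq_char_iff p g).1 hg).2⟩)
  simp only [Subgroup.orderOf_coe] at h
  rw [h]
  exact Cfsg.Agent.S2570.result n

end Cfsg.Agent.S2642
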