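import Cfsg.Statements.S2644
import Cfsg.Agent.Lib.SU.Basic
import Cfsg.Agent.Lib.SU.Field
import Cfsg.Agent.Lib.Classical.HermOrder
import Cfsg.Agent.Lib.Classical.HermFrames

set_option autoImplicit false
open Cfsg Matrix

namespace Cfsg.Agent.S2644

/-- In the special unitary group SU_n(q) with n ≥ 3 (isometries of Σ u_i v_i^q of determinant one over the field with q² elements), any two transvections (elements t with t − 1 of rank one and square zero) are conjugate. -/
theorem result {K : Type*} [Field K] [Fintype K] {q n : ℕ} (hK : Fintype.card K = q ^ 2) (hn : 3 ≤ n) (s t : ↥(Cfsg.SU n K q)) (hs : Cfsg.IsTransvection (((s : GL (Fin n) K) : Matrix (Fin n) (Fin n) K))) (ht : Cfsg.IsTransvection (((t : GL (Fin n) K) : Matrix (Fin n) (Fin n) K))) : IsConj s t := by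
  classical
  obtain ⟨C⟩ := CfsgLib.Classical.uctx_exists hK
  have key : ∀ t : ↥(Cfsg.SU n K q), Cfsg.IsTransvection (((t : GL (Fin n) K) : Matrix (Fin n) (Fin n) K)) →
      ∃ (v : Fin n → K) (hv : C.form v v = 0) (c : K) (hc : c + C.bar c = 0), v ≠ 0 ∧ c ≠ 0 ∧ t = C.tv v hv c hc := by
    rintro t ⟨h1, h2⟩
    change (t.1.1 - 1).rank = 1 at h1
    change (t.1.1 - 1) * (t.1.1 - 1) = 0 at h2
    obtain ⟨v, hv0, lam, hlam⟩ : ∃ v : Fin n → K, v ≠ 0 ∧ ∃ lam : (Fin n → K) → K,
        ∀ x, t.1.1 *ᵥ x = x + lam x • v := by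
      unfold Matrix.rank at h1
      obtain ⟨⟨v, hv⟩, hv0, hsp⟩ := finrank_eq_one_iff'.1 h1
      have h : ∀ x, ∃ c : K, t.1.1 *ᵥ x = x + c • v := fun x => by
        obtain ⟨c, hc⟩ := hsp ⟨_, LinearMap.mem_range_self (t.1.1 - 1).mulVecLin x⟩
        have := congrArg Subtype.val hc
        simp only [SetLike.val_smul, Matrix.mulVecLin_apply, Matrix.sub_mulVec, Matrix.one_mulVec] at this
        exact ⟨c, by rw [this]; abel⟩
      choose lam hlam using h
      exact ⟨v, fun h => hv0 (Subtype.ext h), lam, hlam⟩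
    have hne : ∃ x, lam x ≠ 0 := by
      by_contra h
      push Not at h
      have : t.1.1 - 1 = 0 := Matrix.toLin'.injective (LinearMap.ext fun x => by
        simp [Matrix.sub_mulVec, hlam, h x])
      simp [this] at h1
    have hsub : ∀ x, (t.1.1 - 1) *ᵥ x = lam x • v := fun x => by
      rw [Matrix.sub_mulVec, Matrix.one_mulVec, hlam, add_sub_cancel_left]
    have hlv : lam v = 0 := by
      obtain ⟨x, hx⟩ := hne
      have h := congrArg ((t.1.1 - 1) *ᵥ ·) (hsub x)
      rw [Matrix.mulVec_mulVec, h2, Matrix.zero_mulVec, Matrix.mulVec_smul, hsub, smul_smul, eq_comm, smul_eq_zero] at h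
      exact (mul_eq_zero.1 (h.resolve_right hv0)).resolve_left hx
    have hrel : ∀ x y, lam x * C.form v y + C.bar (lam y) * C.form x v + lam x * C.bar (lam y) * C.form v v = 0 := by
      intro x y
      have h := C.form_su t x y
      rw [hlam, hlam] at h
      simp only [C.form_add_left, C.form_add_right, C.form_smul_left, C.form_smul_right] at h
      linear_combination h
    have hvv : C.form v v = 0 := by
      obtain ⟨x, hx⟩ := hne
      have h := hrel x v
      rw [hlv, map_zero, zero_mul, mul_zero, zero_mul, add_zero, add_zero] at h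
      exact (mul_eq_zero.1 h).resolve_left hx
    obtain ⟨y, hy⟩ := C.exists_form_eq_one hv0
    have hy' : C.form v y = 1 ∨ C.form y v = 1 := by first | exact Or.inl hy | exact Or.inr hy
    obtain ⟨y, hy⟩ : ∃ y, C.form v y = 1 := by
      rcases hy' with h | h
      · exact ⟨y, h⟩
      · exact ⟨y, by rw [← C.bar_form, h, map_one]⟩
    have hl : ∀ x, lam x = -C.bar (lam y) * C.form x v := fun x => by
      have h := hrel x y
      rw [hy, hvv] at h
      linear_combination h
    have hc0 : -C.bar (lam y) ≠ 0 := by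
      obtain ⟨x, hx⟩ := hne
      intro h
      exact hx (by rw [hl, h, zero_mul])
    have hc : -C.bar (lam y) + C.bar (-C.bar (lam y)) = 0 := by
      have h := hl y
      rw [show C.form y v = 1 by rw [← C.bar_form, hy, map_one], mul_one] at h
      have h' := congrArg C.bar h
      simp only [map_neg, C.bar_bar] at h' ⊢
      linear_combination -h
    exact ⟨v, hvv, -C.bar (lam y), hc, hv0, hc0,
      CfsgLib.SU.su_ext fun x => by rw [hlam, C.tv_mulVec, hl]⟩
  obtain ⟨z, hz⟩ := CfsgLib.Classical.HermWitt.exists_norm (σ := (C.bar : K →+* K))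
    (CfsgLib.Classical.HermFrames.bar_ne_id C) C.bar_bar (c := -1) (by simp)
  let e : Fin n → K := Pi.single ⟨1, by omega⟩ 1 + z • Pi.single ⟨2, by omega⟩ 1
  let u : Fin n → K := Pi.single ⟨0, by omega⟩ 1
  have hss : ∀ i j : Fin n, C.form (Pi.single i 1) (Pi.single j 1) = if i = j then 1 else 0 := fun i j => by
    simp [CfsgLib.SU.UCtx.form, Pi.single_apply, apply_ite C.bar, Finset.sum_ite_eq', eq_comm]
  have hne12 : (⟨1, by omega⟩ : Fin n) ≠ ⟨2, by omega⟩ := by simp
  have he : C.form e e = 0 := by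
    simp only [e, C.form_add_left, C.form_add_right, C.form_smul_left, C.form_smul_right, hss, if_neg hne12,
      if_neg hne12.symm, if_true]
    have hz' : C.bar z * z = -1 := hz
    linear_combination hz'
  have heu : C.form e u = 0 := by
    simp [e, u, C.form_add_left, C.form_smul_left, hss, Fin.ext_iff]
  have huu : C.form u u = 1 := by simp [u, hss]
  have he0 : e ≠ 0 := fun h => by simpa [e, Fin.ext_iff] using congrFun h ⟨1, by omega⟩
  have move : ∀ v : Fin n → K, v ≠ 0 → C.form v v = 0 → ∀ a : K, a ≠ 0 →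
      ∃ A : ↥(Cfsg.SU n K q), A.1.1 *ᵥ v = a • e := by
    intro v hv0 hv a ha
    obtain ⟨g, hg⟩ := CfsgLib.Classical.HermFrames.exists_move_tuple C (t := fun _ : Unit => v) (t' := fun _ => a • e)
      (linearIndependent_unique_iff.2 hv0) (linearIndependent_unique_iff.2 (smul_ne_zero ha he0))
      (fun _ _ => by rw [hv, C.form_smul_left, C.form_smul_right, he, mul_zero, mul_zero])
    have hg' : g.1.1 *ᵥ v = a • e := hg ()
    obtain ⟨d, hd⟩ : ∃ d : C.unitOne, d = (C.detHom g)⁻¹ := ⟨_, rfl⟩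
    set M := C.rmap u u (((d : Kˣ) : K) - 1) * g.1.1 with hM
    have hdet : M.det = 1 := by
      rw [hM, Matrix.det_mul, C.det_rmap, huu, ← C.detHom_val g, mul_one, add_sub_cancel, hd, ← Units.val_mul,
        ← Subgroup.coe_mul, inv_mul_cancel]
      rfl
    refine ⟨C.mkSU M hdet fun a b => ?_, ?_⟩
    · rw [hM, ← Matrix.mulVec_mulVec, ← Matrix.mulVec_mulVec]
      simp only [C.rmap_mulVec, C.form_add_left, C.form_add_right, C.form_smul_left,
        C.form_smul_right, huu, map_mul, map_sub, map_one, C.bar_form]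
      linear_combination (C.form (g.1.1 *ᵥ a) u * C.form u (g.1.1 *ᵥ b)) * C.mem_unitOne.1 d.2 + C.mem_gu_iff.1 g.2 a b
    · rw [C.mkSU_val, hM, ← Matrix.mulVec_mulVec, hg', C.rmap_mulVec, C.form_smul_left, heu, mul_zero, mul_zero,
        zero_smul, add_zero]
  obtain ⟨v, hv, c, hc, hv0, hc0, rfl⟩ := key s hs
  obtain ⟨w, hw, d, hd, hw0, hd0, rfl⟩ := key t ht
  obtain ⟨y, hy⟩ := CfsgLib.Classical.HermWitt.exists_norm (σ := (C.bar : K →+* K))
    (CfsgLib.Classical.HermFrames.bar_ne_id C) C.bar_bar (c := d / c) (by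
      have h1 : C.bar c = -c := by linear_combination hc
      have h2 : C.bar d = -d := by linear_combination hd
      show C.bar (d / c) = _
      rw [map_div₀, h1, h2, neg_div_neg_eq])
  have hy' : C.bar y * y = d / c := hy
  have hy0 : y ≠ 0 := fun h => div_ne_zero hd0 hc0 (by rw [← hy', h, mul_zero])
  obtain ⟨A, hA⟩ := move v hv0 hv y hy0
  obtain ⟨B, hB⟩ := move w hw0 hw 1 one_ne_zero
  refine isConj_iff.2 ⟨B⁻¹ * A, ?_⟩
  have hAB : (B⁻¹ * A).1.1 *ᵥ v = y • w := by
    rw [CfsgLib.SU.suMat_mulVec_mul, hA, Matrix.mulVec_smul, ← one_smul K e, ← hB, CfsgLib.SU.su_inv_mulVec]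
  rw [C.tv_conj]
  refine CfsgLib.SU.su_ext fun x => ?_
  rw [C.tv_mulVec, C.tv_mulVec, hAB, C.form_smul_right, smul_smul]
  congr 2
  rw [show c * (C.bar y * C.form x w) * y = (C.bar y * y) * c * C.form x w by ring, hy', div_mul_cancel₀ _ hc0]

end Cfsg.Agent.S2644
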