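import Cfsg.Statements.S2649
import Cfsg.Agent.Lib.Spor.M23Ext.CertCode
-- import your own Cfsg.Agent.* helpers here

set_option autoImplicit false
open Cfsg

namespace Cfsg.Agent.S2649

/-- Extensions of the Mathieu group M₂₃ by its code module split. Let E be a finite group with a normal subgroup N, an isomorphism φ from E/N onto M₂₃ = `Spor.M23` (the stabiliser of the extra point `none` in M₂₄ acting on the 24 points `GolayPt`), and an injective additive homomorphism ψ from N onto the set of words of the binary Golay code `golayCode` that vanish at `none` (an 11-dimensional space over the field with two elements), such that conjugation by g ∈ E on N corresponds under ψ to the coordinate permutation w ↦ w ∘ σ⁻¹, σ the permutation φ(gN). Then N has a complement in E: some subgroup H meets N trivially and generates E together with N. (Equivalently, the second cohomology group of M₂₃ with coefficients in this module vanishes.) -/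
theorem result
    {E : Type*} [Group E] [Finite E] (N : Subgroup E) [hN : N.Normal]
    (φ : E ⧸ N ≃* ↥Cfsg.Spor.M23)
    (ψ : Additive ↥N →+ (Cfsg.GolayPt → ZMod 2)) (hinj : Function.Injective ψ)
    (hrange : ∀ w : Cfsg.GolayPt → ZMod 2, w ∈ Set.range ψ ↔ (w ∈ Cfsg.golayCode ∧ w none = 0))
    (hψ : ∀ (g : E) (n : ↥N),
      ψ (Additive.ofMul ⟨g * n * g⁻¹, hN.conj_mem n n.2 g⟩)
        = ψ (Additive.ofMul n) ∘ ⇑(((φ (QuotientGroup.mk g) : ↥Cfsg.Spor.M23) : Equiv.Perm Cfsg.GolayPt)⁻¹)) :
    ∃ H : Subgroup E, H ⊓ N = ⊥ ∧ H ⊔ N = ⊤ := by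
  classical
  let C := CfsgLib.Spor.M23Ext.codeRep
  have hsurj : ∀ x, ∃ n : ↥N, ψ (Additive.ofMul n) = CfsgLib.Spor.M23Ext.emb x := fun x => by
    obtain ⟨a, ha⟩ := (hrange _).2 (CfsgLib.Spor.M23Ext.emb_mem x)
    exact ⟨Additive.toMul a, ha⟩
  choose k hk using hsurj
  have hk' : ∀ n : ↥N, k (CfsgLib.Spor.M23Ext.res (ψ (Additive.ofMul n))) = n := fun n =>
    Additive.ofMul.injective (hinj ((hk _).trans
      (CfsgLib.Spor.M23Ext.emb_res ((hrange _).1 ⟨_, rfl⟩))))
  let π : E →* Equiv.Perm Cfsg.GolayPt :=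
    (Cfsg.Spor.M23.subtype.comp φ.toMonoidHom).comp (QuotientGroup.mk' N)
  have hπ : ∀ g : E, π g = ((φ (QuotientGroup.mk g) : ↥Cfsg.Spor.M23) : Equiv.Perm Cfsg.GolayPt) :=
    fun g => rfl
  have hker : π.ker = N := by
    ext g
    rw [MonoidHom.mem_ker, hπ, OneMemClass.coe_eq_one, MulEquiv.map_eq_one_iff,
      QuotientGroup.eq_one_iff]
  let X : CfsgLib.Spor.M23Ext.Ext C E :=
    { κ := fun x => (k x : E)
      π := π
      map_add := fun v w => by
        have h : k (v + w) = k v * k w := Additive.ofMul.injective (hinj (by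
          rw [hk, ofMul_mul, map_add, hk, hk, CfsgLib.Spor.M23Ext.emb_add]))
        show ((k (v + w) : ↥N) : E) = _
        rw [h, Subgroup.coe_mul]
      inj := fun v w h => by
        have h' : k v = k w := Subtype.ext h
        rw [← CfsgLib.Spor.M23Ext.res_emb v, ← hk v, h', hk w, CfsgLib.Spor.M23Ext.res_emb]
      ker := fun x => by
        rw [← MonoidHom.mem_ker, hker]
        exact ⟨fun hx => ⟨_, congrArg Subtype.val (hk' ⟨x, hx⟩)⟩, fun ⟨v, hv⟩ => hv ▸ (k v).2⟩
      range_π := by
        ext σ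
        refine ⟨fun ⟨g, hg⟩ => hg ▸ (φ (QuotientGroup.mk g)).2, fun hσ => ?_⟩
        obtain ⟨q, hq⟩ := φ.surjective ⟨σ, hσ⟩
        obtain ⟨g, rfl⟩ := QuotientGroup.mk_surjective q
        exact ⟨g, by rw [hπ, hq]⟩
      conj := fun g v => by
        have e := hψ g (k v)
        have hg : π g ∈ Cfsg.Spor.M23 := (φ (QuotientGroup.mk g)).2
        have h : (⟨g * k v * g⁻¹, hN.conj_mem _ (k v).2 g⟩ : ↥N) = k (C.act (π g) v) :=
          Additive.ofMul.injective (hinj (e.trans (by
            rw [hk, hk, CfsgLib.Spor.M23Ext.codeRep_mem hg]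
            rfl)))
        have h' : g * (k v : E) * g⁻¹ = (k (C.act (π g) v) : E) := congrArg Subtype.val h
        show g * (k v : E) = (k (C.act (π g) v) : E) * g
        rw [← h', inv_mul_cancel_right] }
  obtain ⟨t, ht⟩ := X.exists_isLift
  obtain ⟨H, hH⟩ := CfsgLib.Spor.M23Ext.Ext.split ht CfsgLib.Spor.M23Ext.codeCert
    CfsgLib.Spor.M23Ext.codeCert_check (by
      simp [CfsgLib.Spor.M23Ext.Ext.lamVal, CfsgLib.Spor.M23Ext.codeCert])
  have hX : X.π.ker = N := hker
  rw [hX] at hH
  exact ⟨H, hH.symm.disjoint.eq_bot, hH.symm.sup_eq_top⟩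

end Cfsg.Agent.S2649
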