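import Cfsg.Statements.S2650
import Cfsg.Agent.Lib.Spor.M23Ext.Nonsplit
-- import your own Cfsg.Agent.* helpers here

set_option autoImplicit false
open Cfsg

namespace Cfsg.Agent.S2650

/-- A non-split extension of the Mathieu group M₂₃ by its cocode module exists. There is a finite group E with a normal subgroup N, an isomorphism φ from E/N onto M₂₃ = `Spor.M23` (the stabiliser of the extra point `none` in M₂₄ acting on the 24 points `GolayPt`), and a surjective additive homomorphism θ from the binary words on `GolayPt` onto N whose kernel consists of the words of the Golay code `golayCode` and their translates by the unit vector at `none` (so N is elementary abelian of order 2¹¹), such that θ carries the coordinate permutation w ↦ w ∘ σ⁻¹, σ = φ(gN), to conjugation by g on N — and such that N has no complement in E. -/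
theorem result :
    ∃ (E : Type) (_ : Group E) (_ : Finite E) (N : Subgroup E) (_ : N.Normal)
      (φ : E ⧸ N ≃* ↥Cfsg.Spor.M23) (θ : (Cfsg.GolayPt → ZMod 2) →+ Additive ↥N),
      Function.Surjective θ ∧
      (∀ w : Cfsg.GolayPt → ZMod 2, θ w = 0 ↔ (w ∈ Cfsg.golayCode ∨ w + Pi.single none 1 ∈ Cfsg.golayCode)) ∧
      (∀ (g : E) (w : Cfsg.GolayPt → ZMod 2),
        ((θ (w ∘ ⇑(((φ (QuotientGroup.mk g) : ↥Cfsg.Spor.M23) : Equiv.Perm Cfsg.GolayPt)⁻¹))).toMul : E)
          = g * ((θ w).toMul : E) * g⁻¹) ∧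
      ∀ H : Subgroup E, H ⊓ N = ⊥ → H ⊔ N ≠ ⊤ := by
  have hmem : ∀ w, CfsgLib.Spor.M23Ext.ofWord w ∈ CfsgLib.Spor.M23Ext.proj.ker := fun w => rfl
  let θ : (Cfsg.GolayPt → ZMod 2) →+ Additive ↥CfsgLib.Spor.M23Ext.proj.ker :=
    AddMonoidHom.mk' (fun w => Additive.ofMul ⟨_, hmem w⟩) fun v w =>
      Additive.toMul.injective (Subtype.ext (CfsgLib.Spor.M23Ext.ofWord_add v w))
  refine ⟨CfsgLib.Spor.M23Ext.Std, inferInstance, inferInstance, CfsgLib.Spor.M23Ext.proj.ker,
    inferInstance, QuotientGroup.quotientKerEquivOfSurjective _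
      CfsgLib.Spor.M23Ext.proj_surjective, θ, ?_, ?_, ?_, ?_⟩
  · intro n
    obtain ⟨w, hw⟩ := CfsgLib.Spor.M23Ext.exists_ofWord (n := (Additive.toMul n).1) (Additive.toMul n).2
    exact ⟨w, Additive.toMul.injective (Subtype.ext hw)⟩
  · intro w
    rw [← CfsgLib.Spor.M23Ext.coords_eq_zero_iff, ← CfsgLib.Spor.M23Ext.ofWord_eq_one_iff]
    exact ⟨fun h => congrArg (fun x => ((Additive.toMul x : ↥CfsgLib.Spor.M23Ext.proj.ker) : CfsgLib.Spor.M23Ext.Std)) h,
      fun h => Additive.toMul.injective (Subtype.ext h)⟩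
  · intro g w
    exact eq_mul_inv_of_mul_eq (CfsgLib.Spor.M23Ext.ofWord_conj g w)
  · intro H h₁ h₂
    exact CfsgLib.Spor.M23Ext.no_complement h₁ h₂

end Cfsg.Agent.S2650
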