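import Cfsg.Statements.S2651
import Cfsg.Agent.Lib.Spor.M23Ext.Unique
import Cfsg.Agent.Lib.Spor.M23Ext.CertCocode
-- import your own Cfsg.Agent.* helpers here

set_option autoImplicit false
open Cfsg

namespace Cfsg.Agent.S2651

/-- The non-split extension of the Mathieu group M₂₃ by its cocode module is unique. Suppose E and E' are finite groups, each with a normal subgroup (N, N'), an isomorphism of the quotient onto M₂₃ = `Spor.M23`, and a surjective additive homomorphism from the binary words on the 24 points `GolayPt` onto the normal subgroup with kernel the Golay code `golayCode` together with its translate by the unit vector at the extra point `none`, intertwining the coordinate permutation w ↦ w ∘ σ⁻¹ (σ the image of gN) with conjugation by g; and suppose that in each group the normal subgroup has no complement. Then E and E' are isomorphic. -/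
theorem result
    {E : Type*} [Group E] [Finite E] (N : Subgroup E) [hN : N.Normal]
    (φ : E ⧸ N ≃* ↥Cfsg.Spor.M23) (θ : (Cfsg.GolayPt → ZMod 2) →+ Additive ↥N)
    (hsurj : Function.Surjective θ)
    (hker : ∀ w : Cfsg.GolayPt → ZMod 2, θ w = 0 ↔ (w ∈ Cfsg.golayCode ∨ w + Pi.single none 1 ∈ Cfsg.golayCode))
    (hθ : ∀ (g : E) (w : Cfsg.GolayPt → ZMod 2),
      ((θ (w ∘ ⇑(((φ (QuotientGroup.mk g) : ↥Cfsg.Spor.M23) : Equiv.Perm Cfsg.GolayPt)⁻¹))).toMul : E)
        = g * ((θ w).toMul : E) * g⁻¹)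
    (hns : ∀ H : Subgroup E, H ⊓ N = ⊥ → H ⊔ N ≠ ⊤)
    {E' : Type*} [Group E'] [Finite E'] (N' : Subgroup E') [hN' : N'.Normal]
    (φ' : E' ⧸ N' ≃* ↥Cfsg.Spor.M23) (θ' : (Cfsg.GolayPt → ZMod 2) →+ Additive ↥N')
    (hsurj' : Function.Surjective θ')
    (hker' : ∀ w : Cfsg.GolayPt → ZMod 2, θ' w = 0 ↔ (w ∈ Cfsg.golayCode ∨ w + Pi.single none 1 ∈ Cfsg.golayCode))
    (hθ' : ∀ (g : E') (w : Cfsg.GolayPt → ZMod 2),
      ((θ' (w ∘ ⇑(((φ' (QuotientGroup.mk g) : ↥Cfsg.Spor.M23) : Equiv.Perm Cfsg.GolayPt)⁻¹))).toMul : E')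
        = g * ((θ' w).toMul : E') * g⁻¹)
    (hns' : ∀ H : Subgroup E', H ⊓ N' = ⊥ → H ⊔ N' ≠ ⊤) :
    Nonempty (E ≃* E') := by
  let X := CfsgLib.Spor.M23Ext.extOfCocode N φ θ hsurj hker hθ
  let X' := CfsgLib.Spor.M23Ext.extOfCocode N' φ' θ' hsurj' hker' hθ'
  obtain ⟨t, ht⟩ := X.exists_isLift
  obtain ⟨t', ht'⟩ := X'.exists_isLift
  have two : ∀ z : ZMod 2, z = 0 ∨ z = 1 := by decide
  have hkN : X.π.ker = N := by
    ext g
    show ((φ (QuotientGroup.mk g) : ↥Cfsg.Spor.M23) : Equiv.Perm Cfsg.GolayPt) = 1 ↔ g ∈ N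
    rw [OneMemClass.coe_eq_one, MulEquiv.map_eq_one_iff, QuotientGroup.eq_one_iff]
  have hkN' : X'.π.ker = N' := by
    ext g
    show ((φ' (QuotientGroup.mk g) : ↥Cfsg.Spor.M23) : Equiv.Perm Cfsg.GolayPt) = 1 ↔ g ∈ N'
    rw [OneMemClass.coe_eq_one, MulEquiv.map_eq_one_iff, QuotientGroup.eq_one_iff]
  have h1 : X.lamVal t CfsgLib.Spor.M23Ext.cocodeCert.lam = 1 := by
    refine (two _).resolve_left fun h => ?_
    obtain ⟨H, hH⟩ := CfsgLib.Spor.M23Ext.Ext.split ht _ CfsgLib.Spor.M23Ext.cocodeCert_check h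
    rw [hkN] at hH
    exact hns H hH.symm.disjoint.eq_bot hH.symm.sup_eq_top
  have h1' : X'.lamVal t' CfsgLib.Spor.M23Ext.cocodeCert.lam = 1 := by
    refine (two _).resolve_left fun h => ?_
    obtain ⟨H, hH⟩ := CfsgLib.Spor.M23Ext.Ext.split ht' _ CfsgLib.Spor.M23Ext.cocodeCert_check h
    rw [hkN'] at hH
    exact hns' H hH.symm.disjoint.eq_bot hH.symm.sup_eq_top
  haveI := X.anti_normal X'
  let T : ℕ → ↥(X.fibre X') ⧸ X.anti X' := fun j =>
    if h : X.π (t j) = X'.π (t' j) then X.diffMk X' (t j) (t' j) h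
    else X.diffMk X' 1 1 (by rw [map_one, map_one])
  have hT : ∀ j < 7, ∃ h : X.π (t j) = X'.π (t' j), T j = X.diffMk X' (t j) (t' j) h :=
    fun j hj => ⟨(ht j hj).trans (ht' j hj).symm, dif_pos _⟩
  have hlift : (X.diff X').IsLift T := fun j hj => by
    obtain ⟨h, e⟩ := hT j hj
    rw [e]
    exact ht j hj
  have hl : ∀ p ∈ CfsgLib.Spor.M23Ext.cocodeCert.lam, p.1 < 28 := by decide
  have h0 : (X.diff X').lamVal T CfsgLib.Spor.M23Ext.cocodeCert.lam = 0 := by
    rw [X.diff_lamVal X' ht ht' hT _ hl, h1, h1']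
    decide
  obtain ⟨H, hH⟩ := CfsgLib.Spor.M23Ext.Ext.split hlift _ CfsgLib.Spor.M23Ext.cocodeCert_check h0
  exact X.equiv_of_split X' hH

end Cfsg.Agent.S2651
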