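import Cfsg.Statements.S2652
import Cfsg.Agent.Lib.Spor.Fi23Two.Normal
-- import your own Cfsg.Agent.* helpers here

set_option autoImplicit false
open Cfsg

namespace Cfsg.Agent.S2652

/-- Let T be a Sylow 2-subgroup of the Fischer group Fi₂₃ (the finitely presented group `Spor.Fi23`; T has order 2¹⁸). Then every elementary abelian subgroup of Fi₂₃ contained in T and normal in T has order at most 2¹¹, and there is exactly one such subgroup of order 2¹¹. -/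
theorem result
    (T : Sylow 2 Cfsg.Spor.Fi23) :
    (∀ A : Subgroup Cfsg.Spor.Fi23, A ≤ T → (A.subgroupOf T).Normal → Cfsg.IsElementaryAbelian 2 A →
        Nat.card A ≤ 2 ^ 11) ∧
    ∃! A : Subgroup Cfsg.Spor.Fi23, A ≤ T ∧ (A.subgroupOf T).Normal ∧ Cfsg.IsElementaryAbelian 2 A ∧
        Nat.card A = 2 ^ 11 := by
  obtain ⟨e, -⟩ := CfsgLib.Spor.Fi23.coxData.exists_equiv
    (k := CfsgLib.Spor.Fi23.ActF.act.k) rfl CfsgLib.Spor.Fi23.rels_eq
  haveI := CfsgLib.Spor.Fi23Two.finite_gp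
  haveI : Finite Cfsg.Spor.Fi23 := Finite.of_equiv _ e.toEquiv
  haveI : Fact (Nat.Prime 2) := ⟨Nat.prime_two⟩
  let c : Cfsg.Spor.Fi23 ≃* CfsgLib.Spor.Fi23Out.Gp := e.symm
  let T' : Sylow 2 CfsgLib.Spor.Fi23Out.Gp := T.mapSurjective (f := c.toMonoidHom) c.surjective
  have hT' : (T' : Subgroup CfsgLib.Spor.Fi23Out.Gp) = (T : Subgroup Cfsg.Spor.Fi23).map c.toMonoidHom :=
    Sylow.coe_mapSurjective _ _
  obtain ⟨hb, A, ⟨hA, hN, hE, hc⟩, huniq⟩ := CfsgLib.Spor.Fi23Two.sylow_normal_elementary T'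
  have hsub : ∀ {G H : Type} [Group G] [Group H] (f : G ≃* H) {B S : Subgroup G},
      B ≤ S → (B.subgroupOf S).Normal → Cfsg.IsElementaryAbelian 2 B →
      B.map f.toMonoidHom ≤ S.map f.toMonoidHom ∧
      ((B.map f.toMonoidHom).subgroupOf (S.map f.toMonoidHom)).Normal ∧
      Cfsg.IsElementaryAbelian 2 (B.map f.toMonoidHom) := by
    intro G H _ _ f B S hBS hBN hBE
    refine ⟨Subgroup.map_mono hBS, ⟨?_⟩, ⟨⟨⟨?_⟩⟩, ?_⟩⟩
    · rintro ⟨_, x, hx, rfl⟩ hxB ⟨_, y, hy, rfl⟩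
      obtain ⟨x', hx', ex⟩ := Subgroup.mem_subgroupOf.1 hxB
      refine Subgroup.mem_subgroupOf.2 ⟨y * x' * y⁻¹, ?_, ?_⟩
      · have := hBN.conj_mem ⟨x', hBS hx'⟩ (Subgroup.mem_subgroupOf.2 hx') ⟨y, hy⟩
        exact Subgroup.mem_subgroupOf.1 this
      · show f (y * x' * y⁻¹) = f y * f x * (f y)⁻¹
        rw [map_mul, map_mul, map_inv, show f x' = f x from ex]
    · rintro ⟨_, a, ha, rfl⟩ ⟨_, b, hb, rfl⟩
      refine Subtype.ext ?_
      show f.toMonoidHom a * f.toMonoidHom b = f.toMonoidHom b * f.toMonoidHom a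
      rw [← map_mul, ← map_mul]
      exact congrArg _ (congrArg Subtype.val (hBE.1.is_comm.comm ⟨a, ha⟩ ⟨b, hb⟩))
    · rintro _ ⟨a, ha, rfl⟩
      rw [← map_pow, hBE.2 a ha, map_one]
  have hcard : ∀ B : Subgroup Cfsg.Spor.Fi23, Nat.card (B.map c.toMonoidHom) = Nat.card B :=
    fun B => Subgroup.card_map_of_injective c.injective
  refine ⟨fun B h1 h2 h3 => ?_, A.map c.symm.toMonoidHom, ?_, ?_⟩
  · obtain ⟨g1, g2, g3⟩ := hsub c h1 h2 h3
    rw [← hT'] at g1 g2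
    exact hcard B ▸ hb _ g1 g2 g3
  · obtain ⟨g1, g2, g3⟩ := hsub c.symm hA hN hE
    have hback : (T' : Subgroup CfsgLib.Spor.Fi23Out.Gp).map c.symm.toMonoidHom = T := by
      rw [hT', Subgroup.map_map]
      conv_rhs => rw [← Subgroup.map_id (T : Subgroup Cfsg.Spor.Fi23)]
      exact congrArg (Subgroup.map · _) (MonoidHom.ext fun x => c.symm_apply_apply x)
    rw [hback] at g1 g2
    exact ⟨g1, g2, g3, (Subgroup.card_map_of_injective c.symm.injective).trans hc⟩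
  · rintro B ⟨h1, h2, h3, h4⟩
    obtain ⟨g1, g2, g3⟩ := hsub c h1 h2 h3
    rw [← hT'] at g1 g2
    rw [← huniq _ ⟨g1, g2, g3, (hcard B).trans h4⟩, Subgroup.map_map]
    conv_lhs => rw [← Subgroup.map_id B]
    exact congrArg (B.map ·) (MonoidHom.ext fun x => (c.symm_apply_apply x).symm)

end Cfsg.Agent.S2652
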