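import Cfsg.Statements.S2665
import Cfsg.Agent.Lib.GLClass.Lang

set_option autoImplicit false
open scoped MatrixGroups
open Cfsg

namespace Cfsg.Agent.S2665

/-- The Lang–Steinberg Theorem for the general linear group. Let `K` be an algebraically closed field of prime characteristic `p`, let `q = p^f` with `f ≥ 1`, and let `σ` be the endomorphism of GL_n(K) raising every matrix entry to the `q`-th power. Then every element `g` of GL_n(K) can be written `g = x · σ(x)⁻¹` for some `x` in GL_n(K): the map `x ↦ x σ(x)⁻¹` is surjective. -/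
theorem result {K : Type*} [Field K] [IsAlgClosed K] (p : ℕ) [Fact p.Prime] [CharP K p]
    (f : ℕ) (hf : 1 ≤ f) (n : ℕ) (g : GL (Fin n) K) :
    ∃ x : GL (Fin n) K, g = x * (Matrix.GeneralLinearGroup.map (iterateFrobenius K p f) x)⁻¹ := by
  classical
  let σ : K →+* K := iterateFrobenius K p f
  have hσ : ∀ x, σ x = x ^ p ^ f := fun x => iterateFrobenius_def p f x
  haveI : RingHomSurjective σ := ⟨fun y => by
    obtain ⟨x, hx⟩ := IsAlgClosed.exists_pow_nat_eq y
      (pow_pos (Fact.out : p.Prime).pos f)
    exact ⟨x, (hσ x).trans hx⟩⟩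
  let T : (Fin n → K) →ₛₗ[σ] (Fin n → K) :=
    { toFun := fun v => (g : Matrix (Fin n) (Fin n) K).mulVec (fun i => σ (v i))
      map_add' := fun u v => by
        rw [← Matrix.mulVec_add]; congr 1; funext i; simp
      map_smul' := fun c v => by
        rw [← Matrix.mulVec_smul]; congr 1; funext i; simp }
  have hT : Function.Injective T := by
    intro u v h
    have h2 := Matrix.mulVec_injective_iff_isUnit.2 g.isUnit h
    funext i
    exact σ.injective (congrFun h2 i)
  have hspan := CfsgLib.GLClass.span_fixed_eq_top (p := p) hf hσ T hT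
  obtain ⟨b, hbs, hbspan, hbind⟩ := exists_linearIndependent K {v : Fin n → K | T v = v}
  let B := Module.Basis.mk hbind (by rw [Subtype.range_coe_subtype]; exact (hspan ▸ hbspan).ge)
  haveI : Finite b := Module.Finite.finite_basis B
  haveI : Fintype b := Fintype.ofFinite b
  have hcard : Fintype.card b = n := by
    rw [← Module.finrank_eq_card_basis B, Module.finrank_fin_fun]
  let e : Fin n ≃ b := (Fintype.equivFinOfCardEq hcard).symm
  let M : Matrix (Fin n) (Fin n) K := Matrix.of fun i j => (e j : Fin n → K) i
  have hM : IsUnit M := by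
    rw [← Matrix.linearIndependent_cols_iff_isUnit]
    exact hbind.comp e e.injective
  refine ⟨hM.unit, ?_⟩
  rw [eq_mul_inv_iff_mul_eq]
  apply Units.ext
  rw [Units.val_mul, IsUnit.unit_spec]
  ext i j
  have h := congrFun (hbs (e j).2 : T (e j : Fin n → K) = (e j : Fin n → K)) i
  exact h

end Cfsg.Agent.S2665
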