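import Cfsg.Statements.S2677
import Cfsg.Agent.Lib.SU.Descent
import Cfsg.Agent.Lib.Classical.HermOrder
import Cfsg.Agent.Lib.Classical.HermFrames

set_option autoImplicit false
open Cfsg

namespace Cfsg.Agent.S2677

/-- Centraliser of a field automorphism of odd prime order in PGU_n(q): let q = q₀^r with r an odd prime, K the field with q² elements and σ a field automorphism of K of order r (fixed field of order q₀²). The elements g of GU_n(q) whose entrywise image under σ is a scalar multiple of g — those whose coset modulo the q + 1 unitary scalars is fixed by σ — number (q + 1)/(q₀ + 1) · |GU_n(q₀)|; equivalently the centraliser in PGU_n(q) of the induced automorphism has the order of PGU_n(q₀). -/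
theorem result {K : Type*} [Field K] [Fintype K] {q₀ q r n : ℕ} (hr : r.Prime) (hr2 : r ≠ 2) (hn : 1 ≤ n) (hq : q = q₀ ^ r) (hK : Fintype.card K = q ^ 2) (σ : K ≃+* K) (hσ : orderOf σ = r) : (Nat.card {g : ↥(Cfsg.GU n K q) // ∃ c : K, c ≠ 0 ∧ ((g : GL (Fin n) K) : Matrix (Fin n) (Fin n) K).map σ = c • ((g : GL (Fin n) K) : Matrix (Fin n) (Fin n) K)} : ℤ) = ((q + 1) / (q₀ + 1) : ℕ) * ((q₀ : ℤ) ^ (n * (n - 1) / 2) * ∏ i : Fin n, ((q₀ : ℤ) ^ ((i : ℕ) + 1) - (-1) ^ ((i : ℕ) + 1))) := by
  classical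
  obtain ⟨C⟩ := CfsgLib.Classical.uctx_exists hK
  set K₀ := CfsgLib.Descent.fixedField (σ : RingAut K) with hK0def
  haveI : Fintype K₀ := Fintype.ofFinite _
  have hK₀ : Fintype.card K₀ = q₀ ^ 2 := by
    have h := CfsgLib.Descent.card_fixedField_pow (σ : RingAut K)
    rw [show orderOf (σ : RingAut K) = r from hσ, hK, hq, ← hK0def, Nat.card_eq_fintype_card, pow_right_comm] at h
    exact Nat.pow_left_injective hr.ne_zero h
  obtain ⟨C₀⟩ := CfsgLib.Classical.uctx_exists hK₀
  let j : K₀ →+* K := K₀.subtype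
  have hS : CfsgLib.SU.IsSub C C₀ j (σ : RingAut K) := by
    refine ⟨fun a => a.2, fun y hy => ⟨⟨y, hy⟩, rfl⟩, fun a => ?_⟩
    obtain ⟨k, hk⟩ := hr.odd_of_ne_two hr2
    rw [C.bar_eq, C₀.bar_eq, hq, hk, ← map_pow, CfsgLib.SU.pow_pow_odd hK₀]
  let z : Fin n := ⟨0, hn⟩
  let Φ : C.unitOne × ↥(Cfsg.GU n K₀ q₀) →* ↥(Cfsg.GU n K q) :=
    (C.gscal).noncommCoprod hS.guMap (fun a u => Subtype.ext (Units.ext (by
      show (C.gscal a).1.1 * (hS.guMap u).1.1 = (hS.guMap u).1.1 * (C.gscal a).1.1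
      rw [C.gscal_val, Matrix.smul_mul, Matrix.mul_smul, one_mul, mul_one])))
  have hΦ : ∀ p, (Φ p).1.1 = ((p.1 : Kˣ) : K) • p.2.1.1.map j := fun p => by
    show (C.gscal p.1).1.1 * (hS.guMap p.2).1.1 = _
    rw [C.gscal_val, Matrix.smul_mul, one_mul, hS.guMap_val]
  have hfix : ∀ u : Matrix (Fin n) (Fin n) K₀, (u.map j).map σ = u.map j := fun u => Matrix.ext fun a b => (u a b).2
  have hrange : ∀ g : ↥(Cfsg.GU n K q), (∃ c : K, c ≠ 0 ∧ g.1.1.map σ = c • g.1.1) ↔ g ∈ Φ.range := fun g => by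
    constructor
    · rintro ⟨c, hc, hg⟩
      obtain ⟨b, hb⟩ : ∃ b, g.1.1 z b ≠ 0 := by
        by_contra h
        push Not at h
        exact g.1.det_ne_zero (Matrix.det_eq_zero_of_row_eq_zero z h)
      set x := g.1.1 z b
      have he : ∀ i k, σ (g.1.1 i k) = c * g.1.1 i k := fun i k => congrFun (congrFun hg i) k
      have hσbar : ∀ y, σ (C.bar y) = C.bar (σ y) := fun y => by rw [C.bar_eq, C.bar_eq, map_pow]
      have hcc : c * C.bar c = 1 := by
        have h1 := congrArg (fun X : Matrix (Fin n) (Fin n) K => X.map σ) (C.mem_gu_iff_mat.1 g.2)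
        simp only [Matrix.map_mul, Matrix.transpose_map, Matrix.map_map, Matrix.map_one _ (map_zero σ) (map_one σ)] at h1
        rw [show (σ ∘ C.bar : K → K) = C.bar ∘ σ from funext hσbar, ← Matrix.map_map, hg,
          Matrix.map_smul' _ _ _ (map_mul C.bar), Matrix.transpose_smul, Matrix.smul_mul, Matrix.mul_smul,
          smul_smul, C.mem_gu_iff_mat.1 g.2] at h1
        simpa using congrFun (congrFun h1 z) z
      have hs : σ (C.bar x * x) = C.bar x * x := by
        rw [map_mul, hσbar, he, map_mul]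
        linear_combination (C.bar (g.1.1 z b) * g.1.1 z b) * hcc
      obtain ⟨y, hy⟩ := CfsgLib.Classical.HermWitt.exists_norm (σ := (C₀.bar : K₀ →+* K₀))
        (CfsgLib.Classical.HermFrames.bar_ne_id C₀) C₀.bar_bar (c := ⟨C.bar x * x, hs⟩) (j.injective (by
          show j (C₀.bar _) = j _
          rw [hS.bar]
          show C.bar (C.bar x * x) = C.bar x * x
          rw [map_mul, C.bar_bar, mul_comm]))
      have hy' : C.bar (j y) * j y = C.bar x * x := by
        rw [← hS.bar, ← map_mul]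
        exact congrArg Subtype.val hy
      have hy0 : j y ≠ 0 := fun h0 => by
        rw [h0, mul_zero] at hy'
        exact mul_ne_zero (by simpa using hb) hb hy'.symm
      let a : C.unitOne := ⟨Units.mk0 (x / j y) (div_ne_zero hb hy0), by
        rw [C.mem_unitOne, Units.val_mk0, map_div₀, div_mul_div_comm, mul_comm x, ← hy', mul_comm (j y),
          div_self (mul_ne_zero (by simpa using hy0) hy0)]⟩
      have hfixg : C.guField σ ((C.gscal a)⁻¹ * g) = (C.gscal a)⁻¹ * g := by
        refine Subtype.ext (Units.ext ?_)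
        rw [← map_inv, C.guField_val, CfsgLib.Descent.glMap_val, Subgroup.coe_mul, Units.val_mul, C.gscal_val,
          Matrix.smul_mul, one_mul, Matrix.map_smul' _ _ _ (map_mul (σ : RingAut K))]
        show σ (((a⁻¹ : C.unitOne) : Kˣ) : K) • g.1.1.map σ = _
        rw [hg, smul_smul]
        congr 1
        simp only [InvMemClass.coe_inv, a, Units.val_inv_eq_inv_val, Units.val_mk0, map_inv₀, map_div₀, show σ x = c * x from he z b,
          show σ (j y) = j y from y.2]
        field_simp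
      obtain ⟨u, hu⟩ := hS.exists_lift hfixg
      refine ⟨(a, u), ?_⟩
      show C.gscal a * hS.guMap u = g
      rw [hu, mul_inv_cancel_left]
    · rintro ⟨p, rfl⟩
      refine ⟨σ (p.1 : Kˣ) / (p.1 : Kˣ), div_ne_zero (by simp) (Units.ne_zero _), ?_⟩
      rw [hΦ, Matrix.map_smul' σ _ _ (map_mul σ), hfix, smul_smul, div_mul_cancel₀ _ (Units.ne_zero _)]
  rw [Nat.card_congr (Equiv.subtypeEquivRight (q := (· ∈ Φ.range)) hrange)]
  have hinv : ∀ d : C₀.unitOne, Units.map (j : K₀ →* K) (d : K₀ˣ) ∈ C.unitOne := fun d => by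
    rw [C.mem_unitOne]
    show j _ * C.bar (j _) = 1
    rw [← hS.bar, ← map_mul, C₀.mem_unitOne.1 d.2, map_one]
  have hker : Nat.card Φ.ker = q₀ + 1 := by
    rw [← C₀.card_unitOne hK₀]
    refine (Nat.card_eq_of_bijective (fun d : C₀.unitOne => (⟨(⟨_, hinv d⟩, C₀.gscal d⁻¹), ?_⟩ : Φ.ker)) ⟨?_, ?_⟩).symm
    · rw [MonoidHom.mem_ker, Subtype.ext_iff, Units.ext_iff, hΦ, C₀.gscal_val]
      ext a b
      by_cases hab : a = b
      · subst hab
        simp [← map_mul]
      · simp [hab]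
    · intro d e h
      exact Subtype.ext (Units.ext (j.injective (congrArg (fun p : Φ.ker => ((p.1.1 : Kˣ) : K)) h)))
    · rintro ⟨⟨a, u⟩, hp⟩
      rw [MonoidHom.mem_ker, Subtype.ext_iff, Units.ext_iff, hΦ] at hp
      have h1 : ∀ i k, ((a : Kˣ) : K) * j (u.1.1 i k) = (1 : Matrix (Fin n) (Fin n) K) i k := fun i k => congrFun (congrFun hp i) k
      have ha : ((a : Kˣ) : K) * j (u.1.1 z z) = 1 := by simpa using h1 z z
      have hu : u.1.1 z z ≠ 0 := fun h0 => by simp [h0] at ha
      have haj : ((a : Kˣ) : K) = j (u.1.1 z z)⁻¹ := by rw [map_inv₀]; exact eq_inv_of_mul_eq_one_left ha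
      refine ⟨⟨(Units.mk0 _ hu)⁻¹, ?_⟩, Subtype.ext (Prod.ext (Subtype.ext (Units.ext ?_)) (Subtype.ext (Units.ext (Matrix.ext fun i k => j.injective ?_))))⟩
      · rw [C₀.mem_unitOne, Units.val_inv_eq_inv_val, Units.val_mk0]
        apply j.injective
        rw [map_mul, hS.bar, ← haj, map_one]
        exact C.mem_unitOne.1 a.2
      · simpa using haj.symm
      · refine mul_left_cancel₀ (a : Kˣ).ne_zero ((?_ : _ = _).trans (h1 i k).symm)
        rw [C₀.gscal_val]
        by_cases hik : i = k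
        · subst hik
          simpa using ha
        · simp [hik]
  have h := Subgroup.card_mul_index Φ.ker
  rw [Subgroup.index_ker, hker, Nat.card_prod, C.card_unitOne hK, CfsgLib.Classical.card_gu_formula C₀ hK₀] at h
  obtain ⟨k, hk⟩ : q₀ + 1 ∣ q + 1 := by
    rw [hq]
    simpa using (hr.odd_of_ne_two hr2).nat_add_dvd_pow_add_pow q₀ 1
  rw [hk, mul_assoc] at h
  rw [Nat.eq_of_mul_eq_mul_left (show 0 < q₀ + 1 by omega) h, hk, Nat.mul_div_cancel_left _ (show 0 < q₀ + 1 by omega)]
  push_cast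
  rw [Finset.prod_range]
  push_cast
  congr 2
  refine Finset.prod_congr rfl fun i _ => ?_
  rcases Nat.even_or_odd (i : ℕ) with he | ho
  · rw [if_pos he, Odd.neg_one_pow he.add_one]; push_cast; ring
  · rw [if_neg (Nat.not_even_iff_odd.2 ho), Even.neg_one_pow ho.add_one, Nat.cast_sub (Nat.one_le_pow _ _ (Nat.pos_of_ne_zero C₀.q_ne_zero))]
    push_cast; ring

end Cfsg.Agent.S2677
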