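import Cfsg.Statements.S2681
import Cfsg.Agent.Lib.CharTwoInvol.Bridge
import Cfsg.Agent.Lib.CharTwoInvol.Arith

set_option autoImplicit false
open Cfsg

namespace Cfsg.Agent.S2681

/-- Centraliser order of an involution t of Sp_2m(q), q even, with s = rank(t − 1) even and f(v, tv) = 0 for every v, f the symplectic form (type a_s): |C(t)| = q^(2ms − (3s² − s)/2) · |Sp_s(q)| · |Sp_(2m−2s)(q)|. -/
theorem result {F : Type*} [Field F] [Fintype F] [CharP F 2] {q : ℕ} (hF : Fintype.card F = q) {m s : ℕ} (t : Matrix.symplecticGroup (Fin m) F) (ht : t ^ 2 = 1) (ht1 : t ≠ 1) (hs : ((t : Matrix (Fin m ⊕ Fin m) (Fin m ⊕ Fin m) F) - 1).rank = s) (heven : Even s) (halt : ∀ v : Fin m ⊕ Fin m → F, Cfsg.sympForm m F v ((t : Matrix (Fin m ⊕ Fin m) (Fin m ⊕ Fin m) F).mulVec v) = 0) : Nat.card ↥(Subgroup.centralizer ({t} : Set ↥(Matrix.symplecticGroup (Fin m) F))) = q ^ (2 * m * s - (3 * s ^ 2 - s) / 2) * ((q : ℕ) ^ ((s / 2) ^ 2)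 * ∏ i : Fin (s / 2), (q ^ (2 * ((i : ℕ) + 1)) - 1)) * ((q : ℕ) ^ ((m - s) ^ 2) * ∏ i : Fin (m - s), (q ^ (2 * ((i : ℕ) + 1)) - 1)) := by
  open CfsgLib.CharTwoInvol CfsgLib.Classical.SympCount in
  have hr := (spInvol_rank t ht).symm.trans hs
  have hdim : Module.finrank F (Fin m ⊕ Fin m → F) = 2 * m := by simp; omega
  have hle := hr ▸ (spInvol t ht).rank_le sB_isAlt sB_nondegenerate hdim
  rw [card_centralizer_sp t ht, card_cent_alt sB_isAlt sB_nondegenerate hdim _ ((spInvol_alt_iff t ht).2 halt), hr,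
    ← spCard_fin, ← spCard_fin, Nat.card_eq_fintype_card, hF, expo_sp hle]
  ring

end Cfsg.Agent.S2681
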