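import Cfsg.Statements.S2683
import Cfsg.Agent.Lib.CharTwoInvol.Plus

set_option autoImplicit false
open Cfsg

namespace Cfsg.Agent.S2683

/-- For the hyperbolic form Σ x_j y_j on F^(2m) over a finite field with q elements, q even (excluding m = 2 over the field of two elements), and an involution x of the orthogonal group with s = rank(x − 1) odd (type b_s; such x lie outside Ω): the elements of Ω (the commutator subgroup of the orthogonal group) commuting with x number q^(2m(s−1) − (3s² − 3s)/2) · |Sp_(s−1)(q)| · |Sp_(2m−2s)(q)|, where |Sp_2k(q)| = q^(k²) Π_(i=1)^k (q^(2i) − 1). -/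
theorem result {F : Type*} [Field F] [Fintype F] [CharP F 2] {q : ℕ} (hF : Fintype.card F = q) {m s : ℕ} (h : Fintype.card F ≠ 2 ∨ m ≠ 2) (x : ↥(Cfsg.isometryGroup F (Cfsg.quadFormPlus m F))) (hx : x ^ 2 = 1) (hs : (((x : Matrix.GeneralLinearGroup (Fin m ⊕ Fin m) F) : Matrix (Fin m ⊕ Fin m) (Fin m ⊕ Fin m) F) - 1).rank = s) (hodd : Odd s) : Nat.card {g : ↥(Cfsg.Omega F (Cfsg.quadFormPlus m F)) // (g : ↥(Cfsg.isometryGroup F (Cfsg.quadFormPlus m F))) * x = x * (g : ↥(Cfsg.isometryGroup F (Cfsg.quadFormPlus m F)))} = q ^ (2 * m * (s - 1) - (3 * s ^ 2 - 3 * s) / 2) * ((q : ℕ) ^ (((s - 1) / 2) ^ 2) * ∏ i : Fin ((s - 1) / 2), (q ^ (2 * ((i : ℕ) + 1)) - 1)) * ((q : ℕ) ^ ((m - s) ^ 2) * ∏ i : Fin (m - s), (q ^ (2 * ((i : ℕ) + 1)) - 1)) := by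
  classical
  revert x
  rw [← CfsgLib.Classical.plusQ_coe]
  intro x hx hs
  open CfsgLib.CharTwoInvol CfsgLib.Classical in
  have hr := (oInvol_rank x hx).symm.trans hs
  have hA := (CfsgLib.CharTwoInvol.isQ_quad (CfsgLib.Classical.plusQ m F)).alt
  have hB := CfsgLib.Classical.plusQ_nondeg (F := F) m
  have hle := hr ▸ (CfsgLib.CharTwoInvol.oInvol x hx).rank_le hA hB CfsgLib.CharTwoInvol.finrank_two_m
  have hs1 : 1 ≤ s := hodd.pos
  have hna : ¬ (CfsgLib.CharTwoInvol.oInvol x hx).Alt := fun ha =>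
    Nat.not_even_iff_odd.2 hodd (hr ▸ (CfsgLib.CharTwoInvol.oInvol x hx).even_of_alt hA hB ha)
  have key := CfsgLib.CharTwoInvol.plus_cent_nonalt (by omega) h x hx hna
  rw [CfsgLib.CharTwoInvol.card_cent_odd hA hB CfsgLib.CharTwoInvol.finrank_two_m _ (by rw [hr]; exact hodd), hr,
    ← CfsgLib.CharTwoInvol.expo_o_odd hle hs1, pow_add, Nat.card_eq_fintype_card (α := F), hF] at key
  have hq : 0 < q := hF ▸ Fintype.card_pos
  refine Nat.eq_of_mul_eq_mul_right (pow_pos hq (2 * m - s)) ?_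
  rw [key, ← CfsgLib.CharTwoInvol.spCard_fin, ← CfsgLib.CharTwoInvol.spCard_fin]
  ring

end Cfsg.Agent.S2683
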