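import Cfsg.Statements.S2684
import Cfsg.Agent.Lib.CharTwoInvol.Plus

set_option autoImplicit false
open Cfsg

namespace Cfsg.Agent.S2684

/-- For the hyperbolic form Q = Σ x_j y_j on F^(2m) over a finite field with q elements, q even (excluding m = 2 over the field of two elements), and an involution x ≠ 1 of the orthogonal group with s = rank(x − 1) even and Q vanishing on the image of x − 1 (equivalently f(v, xv) = 0 for all v, where f(u, w) = Q(u + w) − Q(u) − Q(w) is the bilinear form of Q; type a_s, which lies in Ω): its centraliser in Ω (the commutator subgroup of the orthogonal group) has order q^(2ms − (3s² + s)/2) · |Sp_s(q)| · |Ω⁺_(2m−2s)(q)|, where |Ω⁺_2k(q)| = q^(k(k−1)) (q^k − 1) Π_(i=1)^(k−1) (q^(2i) − 1) for k ≥ 1 and the last factor is 1 when s = m. -/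
theorem result {F : Type*} [Field F] [Fintype F] [CharP F 2] {q : ℕ} (hF : Fintype.card F = q) {m s : ℕ} (h : Fintype.card F ≠ 2 ∨ m ≠ 2) (x : ↥(Cfsg.isometryGroup F (Cfsg.quadFormPlus m F))) (hx : x ^ 2 = 1) (hx1 : x ≠ 1) (hs : (((x : Matrix.GeneralLinearGroup (Fin m ⊕ Fin m) F) : Matrix (Fin m ⊕ Fin m) (Fin m ⊕ Fin m) F) - 1).rank = s) (heven : Even s) (halt : ∀ v : Fin m ⊕ Fin m → F, Cfsg.quadFormPlus m F ((((x : Matrix.GeneralLinearGroup (Fin m ⊕ Fin m) F) : Matrix (Fin m ⊕ Fin m) (Fin m ⊕ Fin m) F) - 1).mulVec v) = 0) : Nat.card {g : ↥(Cfsg.Omega F (Cfsg.quadFormPlus m F)) // (g : ↥(Cfsg.isometryGroup F (Cfsg.quadFormPlus m F))) * x = x * (g : ↥(Cfsg.isometryGroup F (Cfsg.quadFormPlus m F)))} = q ^ (2 * m * s - (3 * s ^ 2 + s) / 2) * ((q : ℕ) ^ ((s / 2) ^ 2) * ∏ i : Fin (s / 2), (q ^ (2 * ((i : ℕ) + 1)) - 1)) * (if s = m then 1 else q ^ ((m - s) * (m - s - 1)) * (q ^ (m - s) - 1) * ∏ i : Fin (m - s - 1), (q ^ (2 *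 ((i : ℕ) + 1)) - 1)) := by
  classical
  revert x
  rw [← CfsgLib.Classical.plusQ_coe]
  intro x hx hx1 hs halt
  open CfsgLib.CharTwoInvol CfsgLib.Classical in
  have hr := (oInvol_rank x hx).symm.trans hs
  have hA := (CfsgLib.CharTwoInvol.isQ_quad (CfsgLib.Classical.plusQ m F)).alt
  have hB := CfsgLib.Classical.plusQ_nondeg (F := F) m
  have hle := hr ▸ (CfsgLib.CharTwoInvol.oInvol x hx).rank_le hA hB CfsgLib.CharTwoInvol.finrank_two_m
  have hs1 : s ≠ 0 := hr ▸ CfsgLib.CharTwoInvol.oInvol_rank_pos x hx hx1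
  have ha := (CfsgLib.CharTwoInvol.oInvol_alt_iff x hx).2 halt
  have key := CfsgLib.CharTwoInvol.plus_cent_alt (by omega) h x hx ha
  have hexp := CfsgLib.CharTwoInvol.expo_o_alt hle
  rw [CfsgLib.CharTwoInvol.card_cent_alt hA hB CfsgLib.CharTwoInvol.finrank_two_m _ ha, hr,
    Nat.card_eq_fintype_card (α := F), hF] at key
  have hq : 1 < q := hF ▸ Fintype.one_lt_card
  have hq0 : ∀ k, 0 < q ^ k := fun k => pow_pos (by omega) k
  rw [← CfsgLib.CharTwoInvol.spCard_fin]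
  split_ifs at key ⊢ with hsm
  · subst hsm
    refine Nat.eq_of_mul_eq_mul_right (hq0 s) ?_
    simp only [Nat.sub_self, zero_mul, mul_zero, zero_pow two_ne_zero, zero_add, add_zero,
      CfsgLib.CharTwoInvol.spCard, Finset.range_zero, Finset.prod_empty, mul_one, pow_zero] at key hexp
    rw [key, mul_one, ← hexp, pow_add, CfsgLib.CharTwoInvol.spCard]
    ring
  · obtain ⟨k, hk⟩ : ∃ k, m - s = k + 1 := ⟨m - s - 1, by omega⟩
    rw [hk] at key hexp ⊢
    rw [Nat.add_sub_cancel] at hexp ⊢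
    refine Nat.eq_of_mul_eq_mul_right (Nat.mul_pos (hq0 m) (Nat.succ_pos (q ^ (k + 1)))) ?_
    rw [show (q ^ (k + 1)).succ = q ^ (k + 1) + 1 from rfl, key,
      Fin.prod_univ_eq_prod_range (fun i => q ^ (2 * (i + 1)) - 1)]
    have hsq : q ^ (2 * (k + 1)) - 1 = (q ^ (k + 1) - 1) * (q ^ (k + 1) + 1) := by
      rw [show 2 * (k + 1) = (k + 1) + (k + 1) from two_mul _, pow_add, mul_comm (_ - 1)]
      simpa [sq] using Nat.sq_sub_sq (q ^ (k + 1)) 1
    simp only [CfsgLib.CharTwoInvol.spCard, Finset.prod_range_succ, hsq]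
    calc _ = q ^ ((2 * s * (k + 1) + s * (s + 1) / 2) + (k + 1) ^ 2) *
          (q ^ ((s / 2) ^ 2) * ∏ i ∈ Finset.range (s / 2), (q ^ (2 * (i + 1)) - 1)) *
          (∏ i ∈ Finset.range k, (q ^ (2 * (i + 1)) - 1)) * (q ^ (k + 1) - 1) * (q ^ (k + 1) + 1) := by ring
      _ = _ := by rw [← hexp]; ring

end Cfsg.Agent.S2684
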