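import Cfsg.Statements.S2686
import Cfsg.Agent.Lib.AutPSL.BalanceGraph

set_option autoImplicit false
open Cfsg

namespace Cfsg.Agent.S2686

/-- A criterion for the failure of local balance in almost simple groups with linear socle. Let F be a finite field of characteristic r and K = PSL_n(F) (n ≥ 2) simple. Let A be a group of automorphisms of K containing all inner automorphisms (an almost simple group with socle K), and β ∈ A an automorphism of prime order p ≠ r that is not inner-diagonal (not induced by conjugation by an invertible matrix). Then the largest normal subgroup of C_A(β) of order prime to p is nontrivial if and only if β is the composite of an inner-diagonal automorphism with the automorphism induced by a field automorphism applied entrywise (β is of field type) and p does not divide the number of fixed points of β on K. -/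
theorem result
    (F : Type*) [Field F] [Fintype F] (r : ℕ) [Fact r.Prime] [CharP F r] (n : ℕ) (hn : 2 ≤ n)
    (hK : IsSimpleGroup (Matrix.ProjectiveSpecialLinearGroup (Fin n) F))
    (𝒢 : Subgroup (MulAut (Matrix.ProjectiveSpecialLinearGroup (Fin n) F))) (hinn : ∀ k : Matrix.ProjectiveSpecialLinearGroup (Fin n) F, MulAut.conj k ∈ 𝒢)
    (p : ℕ) [Fact p.Prime] (hpr : p ≠ r) (β : MulAut (Matrix.ProjectiveSpecialLinearGroup (Fin n) F)) (hβ : β ∈ 𝒢) (hord : orderOf β = p)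
    (hnot : ¬ Cfsg.IsInnerDiagonalAutPSL β) :
    Cfsg.pPrimeCore p ↥(𝒢 ⊓ Subgroup.centralizer {β}) ≠ ⊥ ↔
      ((∃ γ φ : MulAut (Matrix.ProjectiveSpecialLinearGroup (Fin n) F), Cfsg.IsInnerDiagonalAutPSL γ ∧ Cfsg.IsFieldAutPSL φ ∧ β = φ.trans γ) ∧
        Nat.Coprime p (Nat.card ↥(MonoidHom.eqLocus β.toMonoidHom (MonoidHom.id (Matrix.ProjectiveSpecialLinearGroup (Fin n) F))))) := by

  classical
  have hp := (Fact.out : p.Prime)
  have hpF : (p : F) ≠ 0 := fun e => hpr ((Nat.prime_dvd_prime_iff_eq Fact.out hp).1 ((CharP.cast_eq_zero_iff F r p).1 e)).symm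
  have hnofield : ∀ g σ, β = CfsgLib.AutPSL.ind g σ * CfsgLib.AutPSL.itAut → 3 ≤ n →
      ¬ ∃ γ φ : MulAut (Matrix.ProjectiveSpecialLinearGroup (Fin n) F),
        Cfsg.IsInnerDiagonalAutPSL γ ∧ Cfsg.IsFieldAutPSL φ ∧ β = φ.trans γ := by
    rintro g σ he hn3 ⟨γ, φ, hγ, ⟨τ, hτ⟩, heq⟩
    obtain ⟨h, rfl⟩ := CfsgLib.AutPSL.isInnerDiagonal_iff.1 hγ
    obtain rfl := CfsgLib.AutPSL.isStdField_iff.1 (show Cfsg.IsStdFieldAutPSL τ φ from hτ)
    have h1 : β = CfsgLib.AutPSL.ind h 1 * CfsgLib.AutPSL.ind 1 τ := heq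
    rw [he, CfsgLib.AutPSL.ind_mul_fieldHom] at h1
    exact Bool.false_ne_true (CfsgLib.AutPSL.rep_inj hn3 (g := h) (h := g) (e := false) (e' := true)
      (by simp only [CfsgLib.AutPSL.rep, cond_true, cond_false, mul_one]; exact h1.symm)).2
  obtain ⟨g, σ, rfl | ⟨hn3, rfl⟩⟩ := CfsgLib.AutPSL.aut_classify hn β
  · -- field type
    have hσ1 : σ ≠ 1 := fun e => hnot (CfsgLib.AutPSL.isInnerDiagonal_iff.2 ⟨g, by rw [e]⟩)
    have hpow : CfsgLib.AutPSL.ind g σ ^ p = 1 := hord ▸ pow_orderOf_eq_one _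
    have hσp : σ ^ p = 1 := by
      rw [CfsgLib.AutPSL.ind_pow] at hpow
      exact (CfsgLib.AutPSL.eq_one_of_ind_eq_one hn hpow).1
    have hσ : orderOf σ = p := orderOf_eq_prime hσp hσ1
    have hleft : ∃ γ φ : MulAut (Matrix.ProjectiveSpecialLinearGroup (Fin n) F),
        Cfsg.IsInnerDiagonalAutPSL γ ∧ Cfsg.IsFieldAutPSL φ ∧ CfsgLib.AutPSL.ind g σ = φ.trans γ :=
      ⟨_, _, CfsgLib.AutPSL.isInnerDiagonal_iff.2 ⟨g, rfl⟩,
        ⟨σ, (show Cfsg.IsStdFieldAutPSL σ _ from CfsgLib.AutPSL.isStdField_iff.2 rfl)⟩,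
        (CfsgLib.AutPSL.ind_mul_fieldHom g σ).symm⟩
    rw [and_iff_right hleft]
    obtain ⟨B, hB⟩ := CfsgLib.AutPSL.field_coset_conj hn hσ hp.pos g hpow
    rw [hB]
    obtain ⟨A', hA', hiff, hcard⟩ := CfsgLib.BalanceSet.transport 𝒢 hinn (CfsgLib.AutPSL.ind B 1)
      (CfsgLib.AutPSL.ind 1 σ) p
    rw [hcard, ← CfsgLib.AutPSL.field_core hn hpF hσ A' hA', not_iff_not]
    exact hiff
  · -- graph type
    have hp2 : p = 2 := by
      by_contra hne
      obtain ⟨k, hk⟩ := hp.odd_of_ne_two hne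
      have h1 : (CfsgLib.AutPSL.ind g σ * CfsgLib.AutPSL.itAut) ^ p = 1 := hord ▸ pow_orderOf_eq_one _
      have h2 : (CfsgLib.AutPSL.ind g σ * CfsgLib.AutPSL.itAut) ^ 2 =
          CfsgLib.AutPSL.ind (g * CfsgLib.AutPSL.glField σ (CfsgLib.AutPSL.glIT g)) (σ * σ) := by
        rw [sq, mul_assoc, ← mul_assoc CfsgLib.AutPSL.itAut, CfsgLib.AutPSL.itAut_ind, mul_assoc _ CfsgLib.AutPSL.itAut,
          CfsgLib.AutPSL.itAut_mul_self, mul_one, CfsgLib.AutPSL.ind_mul]
      rw [hk, pow_succ, pow_mul, h2, CfsgLib.AutPSL.ind_pow, ← mul_assoc, CfsgLib.AutPSL.ind_mul] at h1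
      have key : ∀ (h : GL (Fin n) F) (τ : RingAut F), CfsgLib.AutPSL.ind h τ * CfsgLib.AutPSL.itAut ≠ 1 := fun h τ e =>
        Bool.false_ne_true (CfsgLib.AutPSL.rep_inj hn3 (g := (1 : GL (Fin n) F)) (h := h) (σ := 1) (τ := τ) (e := false)
          (e' := true) (by simp only [CfsgLib.AutPSL.rep, cond_true, cond_false, mul_one]; rw [CfsgLib.AutPSL.ind_one]; exact e.symm)).2
      exact key _ _ h1
    subst hp2
    have h2F : (2 : F) ≠ 0 := by simpa using hpF
    rw [iff_false_intro (fun h : (∃ γ φ : MulAut (Matrix.ProjectiveSpecialLinearGroup (Fin n) F),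
        Cfsg.IsInnerDiagonalAutPSL γ ∧ Cfsg.IsFieldAutPSL φ ∧
          CfsgLib.AutPSL.ind g σ * CfsgLib.AutPSL.itAut = φ.trans γ) ∧ _ => hnofield g σ rfl hn3 h.1),
      iff_false, not_not]
    by_cases hσ1 : σ = 1
    · subst hσ1
      have hg : Cfsg.IsGraphAutClassPSL (CfsgLib.AutPSL.ind g 1 * CfsgLib.AutPSL.itAut) :=
        ⟨hn3, _, _, CfsgLib.AutPSL.isInnerDiagonal_iff.2 ⟨g, rfl⟩, CfsgLib.AutPSL.isIT_iff.2 rfl, rfl⟩
      obtain ⟨M, hM, hMe⟩ := CfsgLib.FormCl.exists_form hn3 hg hord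
      rw [hMe]
      exact CfsgLib.AutPSL.graph_core hn3 h2F hM 𝒢 hinn
    · have hsq : (CfsgLib.AutPSL.ind g σ * CfsgLib.AutPSL.itAut) ^ 2 = 1 := hord ▸ pow_orderOf_eq_one _
      have hσ : orderOf σ = 2 := by
        have h1 := hsq
        rw [sq, mul_assoc, ← mul_assoc CfsgLib.AutPSL.itAut, CfsgLib.AutPSL.itAut_ind, mul_assoc _ CfsgLib.AutPSL.itAut,
          CfsgLib.AutPSL.itAut_mul_self, mul_one, CfsgLib.AutPSL.ind_mul] at h1
        exact orderOf_eq_prime (by rw [sq]; exact (CfsgLib.AutPSL.eq_one_of_ind_eq_one hn h1).1) hσ1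
      obtain ⟨B, hB⟩ := CfsgLib.AutPSL.graph_coset_conj hn3 hσ g hsq
      rw [hB]
      obtain ⟨A', hA', hiff, -⟩ := CfsgLib.BalanceSet.transport 𝒢 hinn (CfsgLib.AutPSL.ind B 1)
        (CfsgLib.AutPSL.gfAut σ) 2
      exact hiff.2 (CfsgLib.AutPSL.graphField_core hn3 h2F hσ A' hA')

end Cfsg.Agent.S2686
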