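import Cfsg.Statements.S2687
import Cfsg.Agent.Lib.SU.BalanceField
import Cfsg.Agent.Lib.SU.BalanceGraph
import Cfsg.Agent.Lib.SU.Classify
import Cfsg.Agent.Lib.SU.BalanceSmall

set_option autoImplicit false
open Cfsg

namespace Cfsg.Agent.S2687

/-- A criterion for the failure of local balance in almost simple groups with unitary socle. Let F be a finite field of characteristic r with q² elements and K = PSU_n(q) (n ≥ 3, the central quotient of the determinant-one isometries of the standard Hermitian form) simple. Let A be a group of automorphisms of K containing all inner automorphisms, and β ∈ A an automorphism of prime order p ≠ r that is not inner-diagonal (not induced by conjugation by a matrix of the general unitary group). Then the largest normal subgroup of C_A(β) of order prime to p is nontrivial if and only if β is the composite of an inner-diagonal automorphism with the automorphism induced by a field automorphism of F applied entrywise and p does not divide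 the number of fixed points of β on K. -/
theorem result
    (F : Type*) [Field F] [Fintype F] (r : ℕ) [Fact r.Prime] [CharP F r] (q : ℕ) (hF : Fintype.card F = q ^ 2)
    (n : ℕ) (hn : 3 ≤ n) (hK : IsSimpleGroup (Cfsg.PSU n F q))
    (𝒢 : Subgroup (MulAut (Cfsg.PSU n F q))) (hinn : ∀ k : Cfsg.PSU n F q, MulAut.conj k ∈ 𝒢)
    (p : ℕ) [Fact p.Prime] (hpr : p ≠ r) (β : MulAut (Cfsg.PSU n F q)) (hβ : β ∈ 𝒢) (hord : orderOf β = p)
    (hnot : ¬ Cfsg.IsInnerDiagonalAutPSU β) :
    Cfsg.pPrimeCore p ↥(𝒢 ⊓ Subgroup.centralizer {β}) ≠ ⊥ ↔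
      ((∃ γ φ : MulAut (Cfsg.PSU n F q), Cfsg.IsInnerDiagonalAutPSU γ ∧ (∃ σ : F ≃+* F, Cfsg.IsFieldAutPSUOf σ φ) ∧ β = φ.trans γ) ∧
        Nat.Coprime p (Nat.card ↥(MonoidHom.eqLocus β.toMonoidHom (MonoidHom.id (Cfsg.PSU n F q))))) := by
  classical
  have hp := (Fact.out : p.Prime)
  obtain ⟨m, -, hm⟩ := FiniteField.card F r
  obtain ⟨f, -, hq⟩ : ∃ f, f ≤ (m : ℕ) ∧ q = r ^ f :=
    (Nat.dvd_prime_pow Fact.out).1 (by rw [← hm, hF]; exact dvd_pow_self q two_ne_zero)
  have hq2 := CfsgLib.Classical.two_le_q hF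
  have hf : 1 ≤ f := by
    rcases Nat.eq_zero_or_pos f with e | e
    · rw [e, pow_zero] at hq; omega
    · exact e
  have hsmall : ¬ (n = 3 ∧ q = 2) := by
    rintro ⟨rfl, rfl⟩
    obtain ⟨C⟩ := CfsgLib.SU.exists_ctx hq hf hF
    have h := CfsgLib.PSUThreeTwo.card_PSU_three C hF
    rw [CfsgLib.Classical.card_gu_formula C hF 2] at h
    norm_num [Finset.prod_range_succ] at h
    rw [← Nat.card_eq_fintype_card] at h
    exact CfsgLib.SU.not_simple_72 (G := Cfsg.PSU 3 F 2) (by omega) hK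
  obtain ⟨C, hC⟩ := CfsgLib.SU.classify hq hf hF hn hsmall
  obtain ⟨g, σ, rfl⟩ := hC β
  have hσ1 : σ ≠ 1 := fun e => hnot (C.isInnerDiagonal_iff.2 ⟨g, by rw [e]⟩)
  have hpow : C.ind g σ ^ p = 1 := hord ▸ pow_orderOf_eq_one _
  have hσp : σ ^ p = 1 := by
    obtain ⟨N, -, hN⟩ := C.ind_pow g σ p
    rw [hN] at hpow
    exact (C.eq_one_of_ind_eq_one hn hpow).1
  have hσ : orderOf σ = p := orderOf_eq_prime hσp hσ1
  have hleft : ∃ γ φ : MulAut (Cfsg.PSU n F q), Cfsg.IsInnerDiagonalAutPSU γ ∧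
      (∃ τ : F ≃+* F, Cfsg.IsFieldAutPSUOf τ φ) ∧ C.ind g σ = φ.trans γ :=
    ⟨C.ind g 1, C.ind 1 σ, C.isInnerDiagonal_iff.2 ⟨g, rfl⟩, ⟨σ, C.isFieldAut_iff.2 rfl⟩,
      (show C.ind g σ = C.ind g 1 * C.ind 1 σ by rw [C.ind_mul, map_one, mul_one, one_mul])⟩
  rw [and_iff_right hleft]
  rcases hp.eq_two_or_odd' with rfl | hodd
  · -- graph type
    have hσbar : σ = C.bar := by
      refine RingEquiv.ext fun x => ?_
      rw [(CfsgLib.AutPSL.involution_eq_pow hm hσ).2, (CfsgLib.AutPSL.involution_eq_pow hm C.order_two).2]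
    subst hσbar
    have hF' : Fintype.card F = r ^ (2 * f) := by rw [hF, hq, ← pow_mul, mul_comm]
    haveI : Fintype (CfsgLib.Descent.fixedField C.bar) := Fintype.ofFinite _
    have hF₀ : Fintype.card (CfsgLib.Descent.fixedField C.bar) = q := by
      rw [← Nat.card_eq_fintype_card,
        (CfsgLib.Descent.card_fixedField (Fact.out : r.Prime) hF' C.order_two two_pos).2,
        Nat.mul_div_cancel_left f two_pos, hq]
    obtain ⟨S⟩ := CfsgLib.FormCl.exists_subF C hF hF₀
    have hgr : Cfsg.IsGraphAutClassPSU (C.ind g C.bar) :=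
      ⟨hn, C.ind g 1, C.ind 1 C.bar, C.bar, by rw [C.order_two]; decide, C.isInnerDiagonal_iff.2 ⟨g, rfl⟩,
        C.isFieldAut_iff.2 rfl, by rw [C.ind_mul, map_one, mul_one, one_mul]⟩
    obtain ⟨A, X, M, hA, hD⟩ := CfsgLib.FormCl.exists_form_U S hn hF hgr hord
    have h2 : (2 : CfsgLib.Descent.fixedField C.bar) ≠ 0 := by
      intro e
      have e1 : ((2 : ℕ) : F) = 0 := by
        have := congrArg (CfsgLib.Descent.fixedField C.bar).subtype e
        rw [map_ofNat, map_zero] at this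
        exact_mod_cast this
      exact hpr ((Nat.prime_dvd_prime_iff_eq Fact.out Nat.prime_two).1 ((CharP.cast_eq_zero_iff F r 2).1 e1)).symm
    rw [hA] at hord ⊢
    obtain ⟨hbot, hdvd⟩ := CfsgLib.SU.graph_core S hn hD h2 hord hC 𝒢 hinn
    exact iff_of_false (fun h => h hbot) hdvd
  · -- field type
    have hF' : Fintype.card F = r ^ (2 * f) := by rw [hF, hq, ← pow_mul, mul_comm]
    haveI : Fintype (CfsgLib.Descent.fixedField σ) := Fintype.ofFinite _
    have hrf := CfsgLib.SU.dvd_of_orderOf hq hF hσ hodd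
    have hc : Fintype.card (CfsgLib.Descent.fixedField σ) = r ^ (2 * (f / p)) := by
      rw [← Nat.card_eq_fintype_card,
        (CfsgLib.Descent.card_fixedField (Fact.out : r.Prime) hF' hσ hp.pos).2, Nat.mul_div_assoc 2 hrf]
    obtain ⟨C₀, j, hS⟩ := CfsgLib.SU.exists_isSub hq hf hF C hσ hodd (CfsgLib.Descent.fixedField σ) hc
    obtain ⟨B, hB⟩ := hS.field_coset_conj hσ hodd hn g hpow
    rw [hB]
    obtain ⟨A', hA', hiff, hcard⟩ := CfsgLib.BalanceSet.transport 𝒢 hinn (C.ind B 1) (C.ind 1 σ) p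
    rw [hcard, ← CfsgLib.SU.field_core C hq hf hF hC hn hodd hpr hσ A' hA', not_iff_not]
    exact hiff

end Cfsg.Agent.S2687
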