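import Cfsg.Statements.S2697
import Cfsg.Agent.Lib.AutPSL.Coset

set_option autoImplicit false
open Cfsg

namespace Cfsg.Agent.S2697

/-- Let T = PSL_n(F) be simple over a finite field (n ≥ 2; |F| ≥ 4 when n = 2) and let x be a field automorphism or a graph-field automorphism of T of prime order r. Then an element y of the coset Inndiag(T)·x (that is, y = δ x with δ in the inner-diagonal group, the image of PGL_n(F)) has order r if and only if y is conjugate to x by an element of Inndiag(T). -/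
theorem result {F : Type*} [Field F] [Fintype F] {p f : ℕ} [Fact p.Prime] (hF : Fintype.card F = p ^ f) (hf : 1 ≤ f) {n : ℕ} (hn : 2 ≤ n) (hs : n = 2 → 4 ≤ Fintype.card F) (x δ : MulAut (Matrix.ProjectiveSpecialLinearGroup (Fin n) F)) (hx : Cfsg.IsFieldAutClassPSL x ∨ Cfsg.IsGraphFieldAutClassPSL x) {r : ℕ} (hr : r.Prime) (hxr : orderOf x = r) (hδ : δ ∈ Cfsg.inndiagPSL n F) :
    orderOf (δ * x) = r ↔ Cfsg.IsConjUnder (Cfsg.inndiagPSL n F) x (δ * x) := by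
  constructor
  swap
  · rintro ⟨h, -, he⟩
    rw [he, ← MulAut.conj_apply, MulEquiv.orderOf_eq, hxr]
  intro hord
  -- reduce `x` to a standard automorphism
  obtain ⟨σ, e, α, hσ, hn3, he⟩ : ∃ (σ : F ≃+* F) (e : Bool)
      (α : MulAut (Matrix.ProjectiveSpecialLinearGroup (Fin n) F)),
      σ ≠ RingEquiv.refl F ∧ (e = true → 3 ≤ n) ∧
        α * CfsgLib.AutPSL.rep 1 σ e * α⁻¹ = x := by
    rcases hx with ⟨α, σ, hσ, hstd⟩ | ⟨hn3, α, φ, γ, σ, hσ, hφ, hγ, hαφ⟩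
    · refine ⟨σ, false, α⁻¹, hσ, fun h => absurd h (by decide), ?_⟩
      rw [CfsgLib.AutPSL.rep, cond_false, mul_one, ← CfsgLib.AutPSL.isStdField_iff.1 hstd]
      group
    · refine ⟨σ, true, α⁻¹, hσ, fun _ => hn3, ?_⟩
      rw [CfsgLib.AutPSL.rep, cond_true, ← CfsgLib.AutPSL.isStdField_iff.1 hφ,
        ← CfsgLib.AutPSL.isIT_iff.1 hγ, ← hαφ]
      group
  obtain ⟨h, hh, hconj⟩ := CfsgLib.AutPSL.exists_inndiag_conj hn σ e α
  rw [he] at hconj
  set x0 := CfsgLib.AutPSL.rep (1 : GL (Fin n) F) σ e with hx0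
  have hx0r : orderOf x0 = r := by
    rw [← hxr, hconj, ← MulAut.conj_apply, MulEquiv.orderOf_eq]
  -- the transported element
  set y := h⁻¹ * (δ * x) * h with hy
  have hyr : orderOf y = r := by
    rw [← hord, hy, show h⁻¹ * (δ * x) * h = MulAut.conj h⁻¹ (δ * x) by
      rw [MulAut.conj_apply, inv_inv], MulEquiv.orderOf_eq]
  have hy0 : y = (h⁻¹ * δ * h) * x0 := by rw [hy, hconj]; group
  obtain ⟨A, hA⟩ := CfsgLib.AutPSL.mem_inndiag_iff.1
    (Subgroup.mul_mem _ (Subgroup.mul_mem _ (Subgroup.inv_mem _ hh) hδ) hh)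
  obtain ⟨B, hB⟩ : ∃ B : GL (Fin n) F, y = CfsgLib.AutPSL.ind B 1 * x0 * (CfsgLib.AutPSL.ind B 1)⁻¹ := by
    rw [hy0, hA, hx0]
    have hyp : (CfsgLib.AutPSL.ind A 1 * CfsgLib.AutPSL.rep (1 : GL (Fin n) F) σ e) ^ r = 1 := by
      rw [← hA, ← hx0, ← hy0, ← hyr, pow_orderOf_eq_one]
    cases e with
    | false =>
      simp only [CfsgLib.AutPSL.rep, cond_false, mul_one, CfsgLib.AutPSL.ind_mul_fieldHom] at hyp hx0 ⊢
      have hσr : orderOf σ = r := by rw [← CfsgLib.AutPSL.orderOf_fieldHom hn, ← hx0, hx0r]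
      obtain ⟨B, hB⟩ := CfsgLib.AutPSL.field_coset_conj hn hσr hr.pos A hyp
      exact ⟨B, by simpa only [CfsgLib.AutPSL.ind_mul_fieldHom] using hB⟩
    | true =>
      simp only [CfsgLib.AutPSL.rep, cond_true, ← mul_assoc (CfsgLib.AutPSL.ind A 1),
        CfsgLib.AutPSL.ind_mul_fieldHom] at hyp hx0 ⊢
      obtain ⟨rfl, hσ2⟩ := CfsgLib.AutPSL.graph_order (hn3 rfl) hσ hr (by rw [← hx0, hx0r])
      exact CfsgLib.AutPSL.graph_coset_conj (hn3 rfl) hσ2 A hyp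
  refine ⟨h * CfsgLib.AutPSL.ind B 1 * h⁻¹, ?_, ?_⟩
  · exact Subgroup.mul_mem _ (Subgroup.mul_mem _ hh (CfsgLib.AutPSL.mem_inndiag_iff.2 ⟨B, rfl⟩))
      (Subgroup.inv_mem _ hh)
  · have hdx : δ * x = h * y * h⁻¹ := by rw [hy]; group
    rw [hdx, hB, hconj]
    group

end Cfsg.Agent.S2697
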