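import Cfsg.Statements.S2698
import Cfsg.Agent.Lib.AutPSL.Centralizer

set_option autoImplicit false
open Cfsg CfsgLib.AutPSL CfsgLib.Descent

namespace Cfsg.Agent.S2698

/-- Let T = PSL_n(F) be simple over the field F with p^f elements (n ≥ 2; p^f ≥ 4 when n = 2), G = Inndiag(T) the image of PGL_n(F) in Aut(T), and x a field automorphism of T of prime order r. Then r divides f; the centralizer C_G(x) is isomorphic to PGL_n(F₀) for the subfield size |F₀| = p^(f/r); and the G-class of x is the union of exactly gcd(n, (p^f − 1)/(p^(f/r) − 1)) classes under conjugation by T (the inner automorphism group). -/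
theorem result {F : Type*} [Field F] [Fintype F] {p f : ℕ} [Fact p.Prime] (hF : Fintype.card F = p ^ f) (hf : 1 ≤ f) {n : ℕ} (hn : 2 ≤ n) (hs : n = 2 → 4 ≤ Fintype.card F) (x : MulAut (Matrix.ProjectiveSpecialLinearGroup (Fin n) F)) (hx : Cfsg.IsFieldAutClassPSL x) {r : ℕ} (hr : r.Prime) (hxr : orderOf x = r) (F₀ : Type*) [Field F₀] [Fintype F₀] (hF₀ : Fintype.card F₀ = p ^ (f / r)) :
    r ∣ f ∧ Nonempty (↥(Cfsg.inndiagPSL n F ⊓ Subgroup.centralizer {x}) ≃* Matrix.ProjGenLinGroup (Fin n) F₀) ∧ Cfsg.splitClassCount (Cfsg.inndiagPSL n F) (Cfsg.Inn (Matrix.ProjectiveSpecialLinearGroup (Fin n) F)) x = Nat.gcd n ((p ^ f - 1) / (p ^ (f / r) - 1)) := by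
  classical
  obtain ⟨α, σ, hσ, hstd⟩ := hx
  obtain ⟨h, hh, hconj⟩ := exists_inndiag_conj hn σ false α⁻¹
  have hx' : x = h * ind (1 : GL (Fin n) F) σ * h⁻¹ := by
    have h1 : α * x * α⁻¹ = ind (1 : GL (Fin n) F) σ := isStdField_iff.1 hstd
    simp only [rep, cond_false, mul_one] at hconj
    rw [← hconj, ← h1]
    group
  have hσr : orderOf σ = r := by
    rw [← orderOf_fieldHom hn, ← hxr, hx', ← MulAut.conj_apply, MulEquiv.orderOf_eq]
  obtain ⟨hrf, hcard⟩ := card_fixedField Fact.out hF hσr hr.pos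
  refine ⟨hrf, ?_, ?_⟩
  · rw [hx']
    obtain ⟨e1⟩ := exists_centralizer_equiv (H := Cfsg.inndiagPSL n F)
      (x := ind (1 : GL (Fin n) F) σ) hh
    obtain ⟨e2⟩ := CfsgLib.AutPSL.pgl_equiv_centralizer hn hσr hr.pos F₀
      (by rw [hcard, hF₀])
    exact ⟨e1.symm.trans e2.symm⟩
  · rw [hx', splitClassCount_conj hh]
    haveI : NeZero n := ⟨by omega⟩
    rw [splitClassCount_eq_index, field_det_image hn hσr hr.pos, index_powRange_sup, Nat.gcd_comm]
    congr 1
    exact index_fixedUnits hF hcard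

end Cfsg.Agent.S2698
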