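import Cfsg.Statements.S2700
import Cfsg.Agent.Lib.FormClass.PSL

set_option autoImplicit false
open Cfsg

namespace Cfsg.Agent.S2700

/-- Let T = PSL_n(F) over a finite field of odd order with n = 2m ≥ 4 even, and G = Inndiag(T) the image of PGL_n(F). The involutory graph automorphisms of T fall into exactly three G-classes, with representatives γ₁, γ₂, γ₃ whose centralizers in G are isomorphic respectively to the projective conformal symplectic group PGSp_n(F), the projective conformal orthogonal group of the plus-type form Σ xᵢ yᵢ, and that of a minus-type form Σ xᵢ yᵢ + z₁² + a z₁ z₂ + b z₂² (anisotropic binary part) in dimension n. -/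
theorem result {F : Type*} [Field F] [Fintype F] (hodd : Odd (Fintype.card F)) {n m : ℕ} (hm : 2 ≤ m) (hnm : n = 2 * m) :
    ∃ (γ₁ γ₂ γ₃ : MulAut (Matrix.ProjectiveSpecialLinearGroup (Fin n) F)) (a b : F), (∀ z₁ z₂ : F, z₁ ^ 2 + a * z₁ * z₂ + b * z₂ ^ 2 = 0 → z₁ = 0 ∧ z₂ = 0) ∧ Cfsg.IsGraphAutClassPSL γ₁ ∧ orderOf γ₁ = 2 ∧ Cfsg.IsGraphAutClassPSL γ₂ ∧ orderOf γ₂ = 2 ∧ Cfsg.IsGraphAutClassPSL γ₃ ∧ orderOf γ₃ = 2 ∧ ¬ Cfsg.IsConjUnder (Cfsg.inndiagPSL n F) γ₁ γ₂ ∧ ¬ Cfsg.IsConjUnder (Cfsg.inndiagPSL n F) γ₁ γ₃ ∧ ¬ Cfsg.IsConjUnder (Cfsg.inndiagPSL n F) γ₂ γ₃ ∧ (∀ γ : MulAut (Matrix.ProjectiveSpecialLinearGroup (Fin n) F), Cfsg.IsGraphAutClassPSL γ → orderOf γ = 2 → Cfsg.IsConjUnder (Cfsg.inndiagPSL n F) γ₁ γ ∨ Cfsg.IsConjUnder (Cfsg.inndiagPSL n F) γ₂ γ ∨ Cfsg.IsConjUnder (Cfsg.inndiagPSL n F) γ₃ γ) ∧ Nonempty (↥(Cfsg.inndiagPSL n F ⊓ Subgroup.centralizer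 {γ₁}) ≃* Cfsg.PGSp m F) ∧ Nonempty (↥(Cfsg.inndiagPSL n F ⊓ Subgroup.centralizer {γ₂}) ≃* Cfsg.PGO F (Cfsg.quadFormPlus m F)) ∧ Nonempty (↥(Cfsg.inndiagPSL n F ⊓ Subgroup.centralizer {γ₃}) ≃* Cfsg.PGO F (Cfsg.quadFormMinus (m - 1) F a b)) := by
  have hn : 3 ≤ n := by omega
  have h2 : (2 : F) ≠ 0 := CfsgLib.FormCl.two_ne_zero_of_odd hodd
  obtain ⟨A, B, C, ⟨hA, hAd⟩, ⟨hB, hBd, hBsq⟩, ⟨hC, hCd, hCsq⟩⟩ := CfsgLib.FormCl.exists_reps h2 hnm (by omega)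
  obtain ⟨a, b, hab⟩ := CfsgLib.FormCl.exists_aniso h2
  let g1 := Matrix.GeneralLinearGroup.mkOfDetNeZero A hAd
  let g2 := Matrix.GeneralLinearGroup.mkOfDetNeZero B hBd
  let g3 := Matrix.GeneralLinearGroup.mkOfDetNeZero C hCd
  obtain ⟨c1, o1⟩ := CfsgLib.FormCl.gam_spec hn (M := g1) (Or.inr hA)
  obtain ⟨c2, o2⟩ := CfsgLib.FormCl.gam_spec hn (M := g2) (Or.inl hB)
  obtain ⟨c3, o3⟩ := CfsgLib.FormCl.gam_spec hn (M := g3) (Or.inl hC)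
  obtain ⟨e1⟩ := CfsgLib.FormCl.centralizer_gam hn g1
  obtain ⟨e2⟩ := CfsgLib.FormCl.centralizer_gam hn g2
  obtain ⟨e3⟩ := CfsgLib.FormCl.centralizer_gam hn g3
  obtain ⟨f1⟩ := CfsgLib.FormCl.skew_pgsp hnm (CfsgLib.FormCl.isAlt_of_skew h2 hA) hAd
  obtain ⟨f2⟩ := CfsgLib.FormCl.sym_pgo_plus h2 hnm (by omega) hB hBd hBsq
  obtain ⟨f3⟩ := CfsgLib.FormCl.sym_pgo_minus h2 hnm (by omega) hC hCd hCsq hab
  refine ⟨CfsgLib.FormCl.gam g1, CfsgLib.FormCl.gam g2, CfsgLib.FormCl.gam g3, a, b, hab, c1, o1, c2, o2, c3, o3,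
    ?_, ?_, ?_, ?_, ⟨e1.trans f1⟩, ⟨e2.trans f2⟩, ⟨e3.trans f3⟩⟩
  · rw [CfsgLib.FormCl.gam_isConj_iff hn]; exact CfsgLib.FormCl.not_cong_sym_skew h2 hA hB hBd (by omega)
  · rw [CfsgLib.FormCl.gam_isConj_iff hn]; exact CfsgLib.FormCl.not_cong_sym_skew h2 hA hC hCd (by omega)
  · rw [CfsgLib.FormCl.gam_isConj_iff hn]; exact fun h => hCsq (CfsgLib.FormCl.disc_of_cong h2 hnm h hBsq)
  · intro γ hγ hγ2
    obtain ⟨M, hM, rfl⟩ := CfsgLib.FormCl.exists_form hn hγ hγ2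
    have hd := CfsgLib.FormCl.det_GL_ne M
    simp only [CfsgLib.FormCl.gam_isConj_iff hn]
    rcases hM with hM | hM
    · by_cases hsq : IsSquare ((-1) ^ m * M.1.det)
      · exact Or.inr (Or.inl (CfsgLib.FormCl.sym_cong h2 hnm (by omega) hB hM hBd hd (iff_of_true hBsq hsq)))
      · exact Or.inr (Or.inr (CfsgLib.FormCl.sym_cong h2 hnm (by omega) hC hM hCd hd (iff_of_false hCsq hsq)))
    · exact Or.inl (CfsgLib.FormCl.alt_cong hnm (CfsgLib.FormCl.isAlt_of_skew h2 hA)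
        (CfsgLib.FormCl.isAlt_of_skew h2 hM) hAd hd)

end Cfsg.Agent.S2700
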