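import Cfsg.Statements.S2701
import Cfsg.Agent.Lib.FormClass.PSL

set_option autoImplicit false
open Cfsg

namespace Cfsg.Agent.S2701

/-- Let T = PSL_n(F) over a finite field of characteristic 2 with n = 2m ≥ 4 even, and G = Inndiag(T) the image of PGL_n(F). The involutory graph automorphisms of T fall into exactly two G-classes, with representatives γ₁ and γ₃ whose centralizers in G are isomorphic respectively to the symplectic group Sp_n(F) and to the centralizer in Sp_n(F) of a symplectic transvection. -/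
theorem result {F : Type*} [Field F] [Fintype F] [CharP F 2] {n m : ℕ} (hm : 2 ≤ m) (hnm : n = 2 * m) :
    ∃ (γ₁ γ₃ : MulAut (Matrix.ProjectiveSpecialLinearGroup (Fin n) F)) (t : ↥(Matrix.symplecticGroup (Fin m) F)), Cfsg.IsTransvection (t : Matrix (Fin m ⊕ Fin m) (Fin m ⊕ Fin m) F) ∧ Cfsg.IsGraphAutClassPSL γ₁ ∧ orderOf γ₁ = 2 ∧ Cfsg.IsGraphAutClassPSL γ₃ ∧ orderOf γ₃ = 2 ∧ ¬ Cfsg.IsConjUnder (Cfsg.inndiagPSL n F) γ₁ γ₃ ∧ (∀ γ : MulAut (Matrix.ProjectiveSpecialLinearGroup (Fin n) F), Cfsg.IsGraphAutClassPSL γ → orderOf γ = 2 → Cfsg.IsConjUnder (Cfsg.inndiagPSL n F) γ₁ γ ∨ Cfsg.IsConjUnder (Cfsg.inndiagPSL n F) γ₃ γ) ∧ Nonempty (↥(Cfsg.inndiagPSL n F ⊓ Subgroup.centralizer {γ₁}) ≃* ↥(Matrix.symplecticGroup (Fin m) F)) ∧ Nonempty (↥(Cfsg.inndiagPSL n F ⊓ Subgroup.centralizer {γ₃}) ≃* ↥(Subgroup.centralizer ({t} : Set ↥(Matrix.symplecticGroup (Fin m) F)))) := by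
  obtain ⟨j, rfl⟩ : ∃ j, m = j + 1 := ⟨m - 1, by omega⟩
  subst hnm
  have hn : 3 ≤ 2 * (j + 1) := by omega
  have hcard : Fintype.card (Fin (2 * (j + 1))) = Fintype.card (Fin (j + 1) ⊕ Fin (j + 1)) := by simp; omega
  let e := Fintype.equivOfCardEq hcard
  let A := (CfsgLib.FormCl.JM (j + 1) F).submatrix e e
  let B := (CfsgLib.FormCl.plusE j F).submatrix e e
  have hAd : A.det ≠ 0 := by
    rw [Matrix.det_submatrix_equiv_self]; exact CfsgLib.FormCl.det_JM_ne _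
  have hBd : B.det ≠ 0 := by
    rw [Matrix.det_submatrix_equiv_self]; exact CfsgLib.FormCl.det_plusE_ne _
  have hcA : CfsgLib.FormCl.Cong A (CfsgLib.FormCl.JM (j + 1) F) := (CfsgLib.FormCl.Cong.of_submatrix _ e).symm
  have hcB : CfsgLib.FormCl.Cong B (CfsgLib.FormCl.plusE j F) := (CfsgLib.FormCl.Cong.of_submatrix _ e).symm
  have hAalt : CfsgLib.Classical.AltCongr.IsAltM A := CfsgLib.FormCl.isAltM_of_cong hcA.symm
    ⟨fun i => by rcases i with i | i <;> simp [CfsgLib.FormCl.JM, Matrix.J], Matrix.J_transpose _ _⟩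
  have hBnalt : ¬ CfsgLib.Classical.AltCongr.IsAltM B := fun h =>
    CfsgLib.FormCl.not_isAltM_plusE j (CfsgLib.FormCl.isAltM_of_cong hcB h)
  have hBsym : B.transpose = B := by
    rw [Matrix.transpose_submatrix]
    congr 1
    rw [CfsgLib.FormCl.plusE, Matrix.transpose_add, Matrix.transpose_vecMulVec]
    congr 1
    rw [show (CfsgLib.FormCl.JM (j + 1) F).transpose = -CfsgLib.FormCl.JM (j + 1) F from Matrix.J_transpose _ _]
    ext a b
    exact CharTwo.neg_eq _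
  let g1 := Matrix.GeneralLinearGroup.mkOfDetNeZero A hAd
  let g3 := Matrix.GeneralLinearGroup.mkOfDetNeZero B hBd
  obtain ⟨c1, o1⟩ := CfsgLib.FormCl.gam_spec hn (M := g1) (Or.inr hAalt.2)
  obtain ⟨c3, o3⟩ := CfsgLib.FormCl.gam_spec hn (M := g3) (Or.inl hBsym)
  obtain ⟨e1⟩ := CfsgLib.FormCl.centralizer_gam hn g1
  obtain ⟨e3⟩ := CfsgLib.FormCl.centralizer_gam hn g3
  obtain ⟨t, ht, ⟨et⟩⟩ := CfsgLib.FormCl.isoGrp_plusE_equiv (K := F) j
  obtain ⟨p1⟩ := hcA.projQuot_equiv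
  obtain ⟨p3⟩ := hcB.projQuot_equiv
  haveI : Nonempty (Fin (j + 1) ⊕ Fin (j + 1)) := ⟨Sum.inl 0⟩
  obtain ⟨s1⟩ := CfsgLib.FormCl.sim_equiv_iso (CfsgLib.FormCl.det_JM_ne (K := F) (j + 1))
  obtain ⟨s1'⟩ := CfsgLib.FormCl.isoGrp_JM_equiv (K := F) (j + 1)
  obtain ⟨s3⟩ := CfsgLib.FormCl.sim_equiv_iso (CfsgLib.FormCl.det_plusE_ne (K := F) j)
  refine ⟨CfsgLib.FormCl.gam g1, CfsgLib.FormCl.gam g3, t, ht, c1, o1, c3, o3, ?_, ?_,
    ⟨((e1.trans p1).trans s1).trans s1'⟩, ⟨((e3.trans p3).trans s3).trans et⟩⟩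
  · rw [CfsgLib.FormCl.gam_isConj_iff hn]
    exact fun h => hBnalt (CfsgLib.FormCl.isAltM_of_cong h hAalt)
  · intro γ hγ hγ2
    obtain ⟨M, hM, rfl⟩ := CfsgLib.FormCl.exists_form hn hγ hγ2
    have hd := CfsgLib.FormCl.det_GL_ne M
    simp only [CfsgLib.FormCl.gam_isConj_iff hn]
    by_cases hna : ∃ i, M.1 i i ≠ 0
    · exact Or.inr (hcB.trans (CfsgLib.FormCl.cong_plusE M.1 hM.symm_of_two hd hna).symm)
    · push Not at hna
      refine Or.inl (CfsgLib.FormCl.alt_cong rfl hAalt ⟨hna, ?_⟩ hAd hd)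
      rw [hM.symm_of_two]
      ext a b
      exact (CharTwo.neg_eq _).symm

end Cfsg.Agent.S2701
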