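import Cfsg.Statements.S2702
import Cfsg.Agent.Lib.FormClass.PSL

set_option autoImplicit false
open Cfsg

namespace Cfsg.Agent.S2702

/-- Let T = PSL_n(F) over the field with q = p^f elements, n ≥ 3, G = Inndiag(T) the image of PGL_n(F), and γ an involutory graph automorphism of T. The G-class of γ is the union of exactly c T-classes, where: if n is even and q is odd, c = gcd(n/2, q − 1) when C_G(γ) is isomorphic to the projective conformal symplectic group PGSp_n(F) (symplectic type) and c = gcd(n, q − 1)/2 otherwise; and c = gcd(n, q − 1) when n is odd or q is even. -/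
theorem result {F : Type*} [Field F] [Fintype F] {p f : ℕ} [Fact p.Prime] (hF : Fintype.card F = p ^ f) (hf : 1 ≤ f) {n : ℕ} (hn : 3 ≤ n) (γ : MulAut (Matrix.ProjectiveSpecialLinearGroup (Fin n) F)) (hγ : Cfsg.IsGraphAutClassPSL γ) (hγ2 : orderOf γ = 2) :
    ((Even n ∧ Odd p ∧ Nonempty (↥(Cfsg.inndiagPSL n F ⊓ Subgroup.centralizer {γ}) ≃* Cfsg.PGSp (n / 2) F)) → Cfsg.splitClassCount (Cfsg.inndiagPSL n F) (Cfsg.Inn (Matrix.ProjectiveSpecialLinearGroup (Fin n) F)) γ = Nat.gcd (n / 2) (p ^ f - 1)) ∧ ((Even n ∧ Odd p ∧ ¬ Nonempty (↥(Cfsg.inndiagPSL n F ⊓ Subgroup.centralizer {γ}) ≃* Cfsg.PGSp (n / 2) F)) → Cfsg.splitClassCount (Cfsg.inndiagPSL n F) (Cfsg.Inn (Matrix.ProjectiveSpecialLinearGroup (Fin n) F)) γ = Nat.gcd n (p ^ f - 1) / 2) ∧ (¬ (Even n ∧ Odd p) → Cfsg.splitClassCount (Cfsg.inndiagPSL n F) (Cfsg.Inn (Matrix.ProjectiveSpecialLinearGroup (Fin n) F)) γ = Nat.gcd n (p ^ f - 1)) := by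
  obtain ⟨M, hM, rfl⟩ := CfsgLib.FormCl.exists_form hn hγ hγ2
  have hd := CfsgLib.FormCl.det_GL_ne M
  obtain ⟨e⟩ := CfsgLib.FormCl.centralizer_gam hn M
  rw [CfsgLib.FormCl.split_gam hn, ← hF]
  have hpar : Odd p → (2 : F) ≠ 0 := fun h => CfsgLib.FormCl.two_ne_zero_of_odd (by rw [hF]; exact h.pow)
  refine ⟨?_, ?_, ?_⟩
  · rintro ⟨hev, hp, hiso⟩
    obtain ⟨m, hm⟩ := hev
    have hnm : n = 2 * m := by omega
    have h2 := hpar hp
    rw [show n / 2 = m by omega] at hiso ⊢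
    rcases hM with hs | hs
    · exact absurd (hiso.map e.symm.trans) (CfsgLib.FormCl.sym_not_pgsp h2 hnm (by omega) hs hd)
    · exact CfsgLib.FormCl.index_det_skew hnm (CfsgLib.FormCl.isAlt_of_skew h2 hs) hd
  · rintro ⟨hev, hp, hiso⟩
    obtain ⟨m, hm⟩ := hev
    have hnm : n = 2 * m := by omega
    have h2 := hpar hp
    rcases hM with hs | hs
    · exact CfsgLib.FormCl.index_det_sym h2 hnm (by omega) hs hd
    · obtain ⟨f⟩ := CfsgLib.FormCl.skew_pgsp hnm (CfsgLib.FormCl.isAlt_of_skew h2 hs) hd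
      exact absurd (show n / 2 = m by omega ▸ ⟨e.trans f⟩) hiso
  · intro hh
    refine CfsgLib.FormCl.index_det_square (by omega) hd ?_
    rcases Nat.even_or_odd n with he | ho
    · right
      by_contra h2
      refine hh ⟨he, (Fact.out : p.Prime).odd_of_ne_two fun h => h2 ?_⟩
      subst h
      haveI : CharP F 2 := charP_of_card_eq_prime_pow hF
      exact CharTwo.two_eq_zero
    · exact Or.inl ho

end Cfsg.Agent.S2702
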