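import Cfsg.Statements.S2703
import Cfsg.Agent.Lib.FormClass.PSL

set_option autoImplicit false
open Cfsg

namespace Cfsg.Agent.S2703

/-- Let T = PSL_n(F) over the field with q elements, q odd, n = 2m ≥ 4 even, and ι the inverse-transpose automorphism. Its centralizer in G = Inndiag(T) (the image of PGL_n(F)) is isomorphic to the projective conformal orthogonal group of the plus-type form Σ xᵢ yᵢ in dimension n when n(q − 1)/4 is even, and to that of a minus-type form (Σ xᵢ yᵢ + z₁² + a z₁ z₂ + b z₂² with anisotropic binary part) when n(q − 1)/4 is odd. -/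
theorem result {F : Type*} [Field F] [Fintype F] (hodd : Odd (Fintype.card F)) {n m : ℕ} (hm : 2 ≤ m) (hnm : n = 2 * m) (ι : MulAut (Matrix.ProjectiveSpecialLinearGroup (Fin n) F)) (hι : Cfsg.IsInverseTransposeAutPSL ι) :
    (Even (n * (Fintype.card F - 1) / 4) → Nonempty (↥(Cfsg.inndiagPSL n F ⊓ Subgroup.centralizer {ι}) ≃* Cfsg.PGO F (Cfsg.quadFormPlus m F))) ∧ (¬ Even (n * (Fintype.card F - 1) / 4) → ∃ a b : F, (∀ z₁ z₂ : F, z₁ ^ 2 + a * z₁ * z₂ + b * z₂ ^ 2 = 0 → z₁ = 0 ∧ z₂ = 0) ∧ Nonempty (↥(Cfsg.inndiagPSL n F ⊓ Subgroup.centralizer {ι}) ≃* Cfsg.PGO F (Cfsg.quadFormMinus (m - 1) F a b))) := by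
  have hn : 3 ≤ n := by omega
  have h2 : (2 : F) ≠ 0 := CfsgLib.FormCl.two_ne_zero_of_odd hodd
  obtain rfl := CfsgLib.AutPSL.isIT_iff.1 hι
  rw [CfsgLib.FormCl.itAut_eq_gam]
  obtain ⟨e⟩ := CfsgLib.FormCl.centralizer_gam hn (1 : GL (Fin n) F)
  have key : IsSquare ((-1) ^ m * ((1 : GL (Fin n) F) : Matrix (Fin n) (Fin n) F).det) ↔
      Even (n * (Fintype.card F - 1) / 4) := by
    rw [Units.val_one, Matrix.det_one, mul_one, CfsgLib.Classical.isSquare_neg_one_pow_iff hodd, hnm,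
      show 2 * m * (Fintype.card F - 1) / 4 = m * (Fintype.card F - 1) / 2 by rw [mul_assoc]; omega]
  have hs : ((1 : GL (Fin n) F) : Matrix (Fin n) (Fin n) F).transpose = (1 : GL (Fin n) F) := by simp
  refine ⟨fun h => ?_, fun h => ?_⟩
  · obtain ⟨f⟩ := CfsgLib.FormCl.sym_pgo_plus h2 hnm (by omega) hs (CfsgLib.FormCl.det_GL_ne _) (key.2 h)
    exact ⟨e.trans f⟩
  · obtain ⟨a, b, hab⟩ := CfsgLib.FormCl.exists_aniso h2
    obtain ⟨f⟩ := CfsgLib.FormCl.sym_pgo_minus h2 hnm (by omega) hs (CfsgLib.FormCl.det_GL_ne _)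
      (fun hh => h (key.1 hh)) hab
    exact ⟨a, b, hab, ⟨e.trans f⟩⟩

end Cfsg.Agent.S2703
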