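import Cfsg.Statements.S2704
import Cfsg.Agent.Lib.AutPSL.GraphCentralizer

set_option autoImplicit false
open Cfsg CfsgLib.AutPSL CfsgLib.Descent

namespace Cfsg.Agent.S2704

/-- Let T = PSL_n(F) over the field F with p^f elements, n ≥ 3, and G = Inndiag(T) the image of PGL_n(F). If x is an involutory graph-field automorphism of T then f is even; x is G-conjugate to every other involutory graph-field automorphism; C_G(x) is isomorphic to the projective general unitary group PGU_n(q₀) with q₀² = p^f, realised over F itself through the Hermitian form Σ uᵢ vᵢ^{q₀}; and the G-class of x is the union of exactly gcd(n, q₀ − 1) T-classes. -/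
theorem result {F : Type*} [Field F] [Fintype F] {p f : ℕ} [Fact p.Prime] (hF : Fintype.card F = p ^ f) (hf : 1 ≤ f) {n : ℕ} (hn : 3 ≤ n) (x : MulAut (Matrix.ProjectiveSpecialLinearGroup (Fin n) F)) (hx : Cfsg.IsGraphFieldAutClassPSL x) (hx2 : orderOf x = 2) :
    Even f ∧ (∀ y : MulAut (Matrix.ProjectiveSpecialLinearGroup (Fin n) F), Cfsg.IsGraphFieldAutClassPSL y → orderOf y = 2 → Cfsg.IsConjUnder (Cfsg.inndiagPSL n F) x y) ∧ Nonempty (↥(Cfsg.inndiagPSL n F ⊓ Subgroup.centralizer {x}) ≃* Cfsg.PGU n F (p ^ (f / 2))) ∧ Cfsg.splitClassCount (Cfsg.inndiagPSL n F) (Cfsg.Inn (Matrix.ProjectiveSpecialLinearGroup (Fin n) F)) x = Nat.gcd n (p ^ (f / 2) - 1) := by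
  classical
  have hn2 : 2 ≤ n := by omega
  have hp := (Fact.out : p.Prime)
  have std : ∀ y : MulAut (Matrix.ProjectiveSpecialLinearGroup (Fin n) F),
      Cfsg.IsGraphFieldAutClassPSL y → orderOf y = 2 →
      ∃ (σ : RingAut F), orderOf σ = 2 ∧ ∃ h ∈ Cfsg.inndiagPSL n F,
        y = h * (ind (1 : GL (Fin n) F) σ * itAut) * h⁻¹ := by
    rintro y ⟨-, α, φ, γ, σ, hσ, hφ, hγ, hαφ⟩ hy2
    rw [isStdField_iff.1 hφ, isIT_iff.1 hγ] at hαφ
    obtain ⟨h, hh, hconj⟩ := exists_inndiag_conj hn2 σ true α⁻¹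
    simp only [rep, cond_true] at hconj
    have hy : y = h * (ind (1 : GL (Fin n) F) σ * itAut) * h⁻¹ := by
      rw [← hconj, ← hαφ]
      group
    refine ⟨σ, (graph_order hn hσ Nat.prime_two ?_).2, h, hh, hy⟩
    rw [← hy2, hy, ← MulAut.conj_apply, MulEquiv.orderOf_eq]
  obtain ⟨σ, hσ, h, hh, hx'⟩ := std x hx hx2
  obtain ⟨heven, hpow⟩ := involution_eq_pow hF hσ
  obtain ⟨-, hcard⟩ := card_fixedField hp hF hσ two_pos
  refine ⟨heven, ?_, ?_, ?_⟩
  · intro y hy hy2
    obtain ⟨σ', hσ', h', hh', hy'⟩ := std y hy hy2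
    have hss : σ' = σ := RingEquiv.ext fun z => by
      rw [hpow, (involution_eq_pow hF hσ').2]
    subst hss
    exact ⟨h' * h⁻¹, mul_mem hh' (inv_mem hh), by rw [hx', hy']; group⟩
  · rw [hx']
    obtain ⟨e1⟩ := exists_centralizer_equiv (H := Cfsg.inndiagPSL n F)
      (x := ind (1 : GL (Fin n) F) σ * itAut) hh
    obtain ⟨e2⟩ := pgu_equiv_centralizer hn2 hσ hpow (pow_ne_zero _ hp.ne_zero)
    exact ⟨e1.symm.trans e2.symm⟩
  · haveI : NeZero n := ⟨by omega⟩
    rw [hx', splitClassCount_conj hh, splitClassCount_eq_index, graph_det_image hn2 hσ,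
      index_powRange_sup, index_ker_normHom hσ hcard, Nat.gcd_comm]

end Cfsg.Agent.S2704
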