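import Cfsg.Statements.S2705
import Cfsg.Agent.Lib.SU.Sub

set_option autoImplicit false
open Cfsg CfsgLib.SU CfsgLib.Descent

namespace Cfsg.Agent.S2705

/-- Let T = PSU_n(q) be simple (n ≥ 3, (n, q) ≠ (3, 2), q = p^f), realised over the field F with q² elements, G = Inndiag(T) the image of PGU_n(q) in Aut(T), and x a field automorphism of T (conjugate to a standard field automorphism of odd order) of odd prime order r. Then r divides f; C_G(x) is isomorphic to PGU_n(q₀) with q₀ = p^(f/r), realised over a field F₀ with q₀² elements; and the G-class of x is the union of exactly gcd(n, (q + 1)/(q₀ + 1)) T-classes. -/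
theorem result {F : Type*} [Field F] [Fintype F] {p f q : ℕ} [Fact p.Prime] (hq : q = p ^ f) (hf : 1 ≤ f) (hF : Fintype.card F = q ^ 2) {n : ℕ} (hn : 3 ≤ n) (hs : ¬ (n = 3 ∧ q = 2)) (x : MulAut (Cfsg.PSU n F q)) (hx : Cfsg.IsFieldAutClassPSU x) {r : ℕ} (hr : r.Prime) (hro : Odd r) (hxr : orderOf x = r) (F₀ : Type*) [Field F₀] [Fintype F₀] (hF₀ : Fintype.card F₀ = p ^ (2 * (f / r))) :
    r ∣ f ∧ Nonempty (↥(Cfsg.inndiagPSU n F q ⊓ Subgroup.centralizer {x}) ≃* Cfsg.PGU n F₀ (p ^ (f / r))) ∧ Cfsg.splitClassCount (Cfsg.inndiagPSU n F q) (Cfsg.Inn (Cfsg.PSU n F q)) x = Nat.gcd n ((q + 1) / (p ^ (f / r) + 1)) := by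
  classical
  obtain ⟨C, hC⟩ := CfsgLib.SU.classify hq hf hF hn hs
  haveI := C.inndiag_normal (n := n) hC
  haveI : (Cfsg.Inn (Cfsg.PSU n F q)).Normal := by
    refine ⟨fun β hβ α => ?_⟩
    obtain ⟨y, rfl⟩ : ∃ y, MulAut.conj y = β := hβ
    exact ⟨α y, MulEquiv.ext fun z => by simp⟩
  obtain ⟨α, φ, σ, -, hodd, hφ0, hconj⟩ := hx
  rw [C.isFieldAut_iff.1 hφ0] at hconj
  have hσr : orderOf σ = r := by
    rw [← C.orderOf_fieldHom hn, ← hconj, ← MulAut.conj_apply, MulEquiv.orderOf_eq, hxr]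
  have hrf := CfsgLib.SU.dvd_of_orderOf hq hF hσr hro
  obtain ⟨C₀, j, hS⟩ := exists_isSub hq hf hF C hσr hro F₀ hF₀
  refine ⟨hrf, ?_, ?_⟩
  · obtain ⟨e1⟩ := exists_centralizer_equiv_of_normal (Cfsg.inndiagPSU n F q) x α
    rw [hconj] at e1
    obtain ⟨e2⟩ := hS.centralizer_equiv hσr hro hn
    exact ⟨e1.trans e2.symm⟩
  · rw [← splitClassCount_conj_of_normal _ _ x α, hconj,
      splitClassCount_eq_index_of_hom (C.indHom (n := n)) C.detHom
        (C.detHom_surjective (by omega)) _ C.inndiag_eq_range C.inn_eq_map,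
      hS.det_image hσr hro hn, index_powRange_sup, Nat.gcd_comm]
    congr 1
    have hF₀' : Fintype.card F₀ = (p ^ (f / r)) ^ 2 := by rw [hF₀, ← pow_mul, mul_comm]
    have hc := Subgroup.card_mul_index (MonoidHom.eqLocus (C.unitField σ) (MonoidHom.id C.unitOne))
    rw [hS.card_fixed hF₀', C.card_unitOne hF] at hc
    rw [← hc, Nat.mul_div_cancel_left _ (Nat.succ_pos _)]

end Cfsg.Agent.S2705
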