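import Cfsg.Statements.S2707
import Cfsg.Agent.Lib.FormClass.PSUSetup

set_option autoImplicit false
open Cfsg

namespace Cfsg.Agent.S2707

/-- Let T = PSU_n(q) with n = 2m ≥ 4 even and q odd, realised over the field F with q² elements, and G = Inndiag(T) the image of PGU_n(q). The involutory graph automorphisms of T fall into exactly three G-classes, with representatives whose centralizers in G are isomorphic respectively to the projective conformal symplectic group PGSp_n(F₀), the projective conformal orthogonal group of the plus-type form Σ xᵢ yᵢ, and that of a minus-type form Σ xᵢ yᵢ + z₁² + a z₁ z₂ + b z₂² (anisotropic binary part) in dimension n, all over a field F₀ with q elements. -/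
theorem result {F : Type*} [Field F] [Fintype F] {q : ℕ} (hodd : Odd q) (hF : Fintype.card F = q ^ 2) {n m : ℕ} (hm : 2 ≤ m) (hnm : n = 2 * m) (F₀ : Type*) [Field F₀] [Fintype F₀] (hF₀ : Fintype.card F₀ = q) :
    ∃ (γ₁ γ₂ γ₃ : MulAut (Cfsg.PSU n F q)) (a b : F₀), (∀ z₁ z₂ : F₀, z₁ ^ 2 + a * z₁ * z₂ + b * z₂ ^ 2 = 0 → z₁ = 0 ∧ z₂ = 0) ∧ Cfsg.IsGraphAutClassPSU γ₁ ∧ orderOf γ₁ = 2 ∧ Cfsg.IsGraphAutClassPSU γ₂ ∧ orderOf γ₂ = 2 ∧ Cfsg.IsGraphAutClassPSU γ₃ ∧ orderOf γ₃ = 2 ∧ ¬ Cfsg.IsConjUnder (Cfsg.inndiagPSU n F q) γ₁ γ₂ ∧ ¬ Cfsg.IsConjUnder (Cfsg.inndiagPSU n F q) γ₁ γ₃ ∧ ¬ Cfsg.IsConjUnder (Cfsg.inndiagPSU n F q) γ₂ γ₃ ∧ (∀ γ : MulAut (Cfsg.PSU n F q), Cfsg.IsGraphAutClassPSU γ → orderOf γ = 2 → Cfsg.IsConjUnder (Cfsg.inndiagPSU n F q) γ₁ γ ∨ Cfsg.IsConjUnder (Cfsg.inndiagPSU n F q) γ₂ γ ∨ Cfsg.IsConjUnder (Cfsg.inndiagPSU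 n F q) γ₃ γ) ∧ Nonempty (↥(Cfsg.inndiagPSU n F q ⊓ Subgroup.centralizer {γ₁}) ≃* Cfsg.PGSp m F₀) ∧ Nonempty (↥(Cfsg.inndiagPSU n F q ⊓ Subgroup.centralizer {γ₂}) ≃* Cfsg.PGO F₀ (Cfsg.quadFormPlus m F₀)) ∧ Nonempty (↥(Cfsg.inndiagPSU n F q ⊓ Subgroup.centralizer {γ₃}) ≃* Cfsg.PGO F₀ (Cfsg.quadFormMinus (m - 1) F₀ a b)) := by
  have hn : 3 ≤ n := by omega
  haveI : NeZero n := ⟨by omega⟩
  obtain ⟨C, ⟨S⟩⟩ := CfsgLib.FormCl.exists_setup (F₀ := F₀) hF hF₀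
  have h2 : (2 : F₀) ≠ 0 := CfsgLib.FormCl.two_ne_zero_of_odd (hF₀ ▸ hodd)
  obtain ⟨A, B, D, ⟨hA, hAd⟩, ⟨hB, hBd, hBsq⟩, ⟨hD, hDd, hDsq⟩⟩ := CfsgLib.FormCl.exists_reps h2 hnm (by omega)
  obtain ⟨a, b, hab⟩ := CfsgLib.FormCl.exists_aniso h2
  obtain ⟨U1, X1, t1, ht1, hU1, d1⟩ := CfsgLib.FormCl.exists_of_form S (M := A) (Or.inr hA) hAd
  obtain ⟨U2, X2, t2, ht2, hU2, d2⟩ := CfsgLib.FormCl.exists_of_form S (M := B) (Or.inl hB) hBd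
  obtain ⟨U3, X3, t3, ht3, hU3, d3⟩ := CfsgLib.FormCl.exists_of_form S (M := D) (Or.inl hD) hDd
  obtain ⟨c1, o1⟩ := CfsgLib.FormCl.gamU_spec hn U1 ht1 hU1
  obtain ⟨c2, o2⟩ := CfsgLib.FormCl.gamU_spec hn U2 ht2 hU2
  obtain ⟨c3, o3⟩ := CfsgLib.FormCl.gamU_spec hn U3 ht3 hU3
  obtain ⟨e1⟩ := CfsgLib.FormCl.centralizer_gamU S hn d1
  obtain ⟨e2⟩ := CfsgLib.FormCl.centralizer_gamU S hn d2
  obtain ⟨e3⟩ := CfsgLib.FormCl.centralizer_gamU S hn d3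
  obtain ⟨f1⟩ := CfsgLib.FormCl.skew_pgsp hnm (CfsgLib.FormCl.isAlt_of_skew h2 hA) hAd
  obtain ⟨f2⟩ := CfsgLib.FormCl.sym_pgo_plus h2 hnm (by omega) hB hBd hBsq
  obtain ⟨f3⟩ := CfsgLib.FormCl.sym_pgo_minus h2 hnm (by omega) hD hDd hDsq hab
  refine ⟨CfsgLib.FormCl.gamU C U1, CfsgLib.FormCl.gamU C U2, CfsgLib.FormCl.gamU C U3, a, b, hab, c1, o1, c2, o2, c3, o3,
    ?_, ?_, ?_, ?_, ⟨e1.trans f1⟩, ⟨e2.trans f2⟩, ⟨e3.trans f3⟩⟩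
  · rw [CfsgLib.FormCl.isConjU_iff S hn d1 d2]; exact CfsgLib.FormCl.not_cong_sym_skew h2 hA hB hBd (by omega)
  · rw [CfsgLib.FormCl.isConjU_iff S hn d1 d3]; exact CfsgLib.FormCl.not_cong_sym_skew h2 hA hD hDd (by omega)
  · rw [CfsgLib.FormCl.isConjU_iff S hn d2 d3]; exact fun h => hDsq (CfsgLib.FormCl.disc_of_cong h2 hnm h hBsq)
  · intro γ hγ hγ2
    obtain ⟨U, X, M, rfl, d⟩ := CfsgLib.FormCl.exists_form_U S hn hF hγ hγ2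
    rw [CfsgLib.FormCl.isConjU_iff S hn d1 d, CfsgLib.FormCl.isConjU_iff S hn d2 d, CfsgLib.FormCl.isConjU_iff S hn d3 d]
    rcases d.2.2.1 with hM | hM
    · by_cases hsq : IsSquare ((-1) ^ m * M.det)
      · exact Or.inr (Or.inl (CfsgLib.FormCl.sym_cong h2 hnm (by omega) hB hM hBd d.2.1 (iff_of_true hBsq hsq)))
      · exact Or.inr (Or.inr (CfsgLib.FormCl.sym_cong h2 hnm (by omega) hD hM hDd d.2.1 (iff_of_false hDsq hsq)))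
    · exact Or.inl (CfsgLib.FormCl.alt_cong hnm (CfsgLib.FormCl.isAlt_of_skew h2 hA)
        (CfsgLib.FormCl.isAlt_of_skew h2 hM) hAd d.2.1)

end Cfsg.Agent.S2707
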