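import Cfsg.Statements.S2708
import Cfsg.Agent.Lib.FormClass.PSUSetup

set_option autoImplicit false
open Cfsg

namespace Cfsg.Agent.S2708

/-- Let T = PSU_n(q) with n = 2m ≥ 4 even and q even, realised over the field F (of characteristic 2) with q² elements, and G = Inndiag(T) the image of PGU_n(q). The involutory graph automorphisms of T fall into exactly two G-classes, with representatives whose centralizers in G are isomorphic respectively to the symplectic group Sp_n(F₀) and to the centralizer in Sp_n(F₀) of a symplectic transvection, F₀ a field with q elements. -/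
theorem result {F : Type*} [Field F] [Fintype F] [CharP F 2] {q : ℕ} (hF : Fintype.card F = q ^ 2) {n m : ℕ} (hm : 2 ≤ m) (hnm : n = 2 * m) (F₀ : Type*) [Field F₀] [Fintype F₀] (hF₀ : Fintype.card F₀ = q) :
    ∃ (γ₁ γ₃ : MulAut (Cfsg.PSU n F q)) (t : ↥(Matrix.symplecticGroup (Fin m) F₀)), Cfsg.IsTransvection (t : Matrix (Fin m ⊕ Fin m) (Fin m ⊕ Fin m) F₀) ∧ Cfsg.IsGraphAutClassPSU γ₁ ∧ orderOf γ₁ = 2 ∧ Cfsg.IsGraphAutClassPSU γ₃ ∧ orderOf γ₃ = 2 ∧ ¬ Cfsg.IsConjUnder (Cfsg.inndiagPSU n F q) γ₁ γ₃ ∧ (∀ γ : MulAut (Cfsg.PSU n F q), Cfsg.IsGraphAutClassPSU γ → orderOf γ = 2 → Cfsg.IsConjUnder (Cfsg.inndiagPSU n F q) γ₁ γ ∨ Cfsg.IsConjUnder (Cfsg.inndiagPSU n F q) γ₃ γ) ∧ Nonempty (↥(Cfsg.inndiagPSU n F q ⊓ Subgroup.centralizer {γ₁}) ≃* ↥(Matrix.symplecticGroup (Fin m) F₀)) ∧ Nonempty (↥(Cfsg.inndiagPSU n F q ⊓ Subgroup.centralizer {γ₃}) ≃* ↥(Subgroup.centralizer ({t} : Set ↥(Matrix.symplecticGroup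 (Fin m) F₀)))) := by
  obtain ⟨j, rfl⟩ : ∃ j, m = j + 1 := ⟨m - 1, by omega⟩
  subst hnm
  have hn : 3 ≤ 2 * (j + 1) := by omega
  haveI : NeZero (2 * (j + 1)) := ⟨by omega⟩
  obtain ⟨C, ⟨S⟩⟩ := CfsgLib.FormCl.exists_setup (F₀ := F₀) hF hF₀
  haveI : CharP F₀ 2 := CfsgLib.FormCl.charP_two_of (S.j.injective (by
    rw [map_ofNat, map_zero]; exact CharTwo.two_eq_zero))
  have hcard : Fintype.card (Fin (2 * (j + 1))) = Fintype.card (Fin (j + 1) ⊕ Fin (j + 1)) := by simp; omega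
  let e := Fintype.equivOfCardEq hcard
  let A := (CfsgLib.FormCl.JM (j + 1) F₀).submatrix e e
  let B := (CfsgLib.FormCl.plusE j F₀).submatrix e e
  have hAd : A.det ≠ 0 := by
    rw [Matrix.det_submatrix_equiv_self]; exact CfsgLib.FormCl.det_JM_ne _
  have hBd : B.det ≠ 0 := by
    rw [Matrix.det_submatrix_equiv_self]; exact CfsgLib.FormCl.det_plusE_ne _
  have hcA : CfsgLib.FormCl.Cong A (CfsgLib.FormCl.JM (j + 1) F₀) := (CfsgLib.FormCl.Cong.of_submatrix _ e).symm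
  have hcB : CfsgLib.FormCl.Cong B (CfsgLib.FormCl.plusE j F₀) := (CfsgLib.FormCl.Cong.of_submatrix _ e).symm
  have hAalt : CfsgLib.Classical.AltCongr.IsAltM A := CfsgLib.FormCl.isAltM_of_cong hcA.symm
    ⟨fun i => by rcases i with i | i <;> simp [CfsgLib.FormCl.JM, Matrix.J], Matrix.J_transpose _ _⟩
  have hBnalt : ¬ CfsgLib.Classical.AltCongr.IsAltM B := fun h =>
    CfsgLib.FormCl.not_isAltM_plusE j (CfsgLib.FormCl.isAltM_of_cong hcB h)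
  have hBsym : B.transpose = B := by
    rw [Matrix.transpose_submatrix]
    congr 1
    rw [CfsgLib.FormCl.plusE, Matrix.transpose_add, Matrix.transpose_vecMulVec]
    congr 1
    rw [show (CfsgLib.FormCl.JM (j + 1) F₀).transpose = -CfsgLib.FormCl.JM (j + 1) F₀ from Matrix.J_transpose _ _]
    ext a b
    exact CharTwo.neg_eq _
  obtain ⟨U1, X1, t1, ht1, hU1, d1⟩ := CfsgLib.FormCl.exists_of_form S (M := A) (Or.inr hAalt.2) hAd
  obtain ⟨U3, X3, t3, ht3, hU3, d3⟩ := CfsgLib.FormCl.exists_of_form S (M := B) (Or.inl hBsym) hBd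
  obtain ⟨c1, o1⟩ := CfsgLib.FormCl.gamU_spec hn U1 ht1 hU1
  obtain ⟨c3, o3⟩ := CfsgLib.FormCl.gamU_spec hn U3 ht3 hU3
  obtain ⟨e1⟩ := CfsgLib.FormCl.centralizer_gamU S hn d1
  obtain ⟨e3⟩ := CfsgLib.FormCl.centralizer_gamU S hn d3
  obtain ⟨t, ht, ⟨et⟩⟩ := CfsgLib.FormCl.isoGrp_plusE_equiv (K := F₀) j
  obtain ⟨p1⟩ := hcA.projQuot_equiv
  obtain ⟨p3⟩ := hcB.projQuot_equiv
  haveI : Nonempty (Fin (j + 1) ⊕ Fin (j + 1)) := ⟨Sum.inl 0⟩
  obtain ⟨s1⟩ := CfsgLib.FormCl.sim_equiv_iso (CfsgLib.FormCl.det_JM_ne (K := F₀) (j + 1))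
  obtain ⟨s1'⟩ := CfsgLib.FormCl.isoGrp_JM_equiv (K := F₀) (j + 1)
  obtain ⟨s3⟩ := CfsgLib.FormCl.sim_equiv_iso (CfsgLib.FormCl.det_plusE_ne (K := F₀) j)
  refine ⟨CfsgLib.FormCl.gamU C U1, CfsgLib.FormCl.gamU C U3, t, ht, c1, o1, c3, o3, ?_, ?_,
    ⟨((e1.trans p1).trans s1).trans s1'⟩, ⟨((e3.trans p3).trans s3).trans et⟩⟩
  · rw [CfsgLib.FormCl.isConjU_iff S hn d1 d3]
    exact fun h => hBnalt (CfsgLib.FormCl.isAltM_of_cong h hAalt)
  · intro γ hγ hγ2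
    obtain ⟨U, X, M, rfl, d⟩ := CfsgLib.FormCl.exists_form_U S hn hF hγ hγ2
    rw [CfsgLib.FormCl.isConjU_iff S hn d1 d, CfsgLib.FormCl.isConjU_iff S hn d3 d]
    by_cases hna : ∃ i, M i i ≠ 0
    · exact Or.inr (hcB.trans (CfsgLib.FormCl.cong_plusE M d.2.2.1.symm_of_two d.2.1 hna).symm)
    · push Not at hna
      refine Or.inl (CfsgLib.FormCl.alt_cong rfl hAalt ⟨hna, ?_⟩ hAd d.2.1)
      rw [d.2.2.1.symm_of_two]
      ext a b
      exact (CharTwo.neg_eq _).symm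

end Cfsg.Agent.S2708
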