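import Cfsg.Statements.S2711
import Cfsg.Agent.Lib.SU.Sub

set_option autoImplicit false
open Cfsg CfsgLib.SU CfsgLib.Descent

namespace Cfsg.Agent.S2711

/-- Let T = PSU_n(q) be simple (n ≥ 3, (n,q) ≠ (3,2)), realised over the field F with q² elements, and let x be a field automorphism of T (conjugate to a standard field automorphism of odd order) of prime order r. Then an element y of the coset Inndiag(T)·x (y = δ x with δ in the image of PGU_n(q)) has order r if and only if y is conjugate to x by an element of Inndiag(T). (T has no graph-field automorphisms.) -/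
theorem result {F : Type*} [Field F] [Fintype F] {p f q : ℕ} [Fact p.Prime] (hq : q = p ^ f) (hf : 1 ≤ f) (hF : Fintype.card F = q ^ 2) {n : ℕ} (hn : 3 ≤ n) (hs : ¬ (n = 3 ∧ q = 2)) (x δ : MulAut (Cfsg.PSU n F q)) (hx : Cfsg.IsFieldAutClassPSU x) {r : ℕ} (hr : r.Prime) (hxr : orderOf x = r) (hδ : δ ∈ Cfsg.inndiagPSU n F q) :
    orderOf (δ * x) = r ↔ Cfsg.IsConjUnder (Cfsg.inndiagPSU n F q) x (δ * x) := by
  classical
  obtain ⟨C, hC⟩ := CfsgLib.SU.classify hq hf hF hn hs
  haveI := C.inndiag_normal (n := n) hC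
  obtain ⟨α, φ, σ, -, hodd, hφ0, hconj⟩ := hx
  rw [C.isFieldAut_iff.1 hφ0] at hconj
  have hσr : orderOf σ = r := by
    rw [← C.orderOf_fieldHom hn, ← hconj, ← MulAut.conj_apply, MulEquiv.orderOf_eq, hxr]
  have hro : Odd r := hσr ▸ hodd
  constructor
  · intro hδx
    set δ' := α * δ * α⁻¹ with hδ'
    have hmem : δ' ∈ Cfsg.inndiagPSU n F q := Subgroup.Normal.conj_mem inferInstance δ hδ α
    rw [C.inndiag_eq_range] at hmem
    obtain ⟨A, hA⟩ := hmem
    have hy : C.ind A σ = α * (δ * x) * α⁻¹ := by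
      rw [show α * (δ * x) * α⁻¹ = δ' * (α * x * α⁻¹) by rw [hδ']; group, hconj, ← hA,
        C.indHom_apply, C.ind_one_mul, mul_one]
    have hpow : C.ind A σ ^ r = 1 := by
      rw [hy, ← MulAut.conj_apply, ← map_pow, ← hδx, pow_orderOf_eq_one, map_one]
    have hrf := CfsgLib.SU.dvd_of_orderOf hq hF hσr hro
    letI : Fintype (fixedField σ) := Fintype.ofFinite _
    have hc : Fintype.card (fixedField σ) = p ^ (2 * (f / r)) := by
      have hF' : Fintype.card F = p ^ (2 * f) := by rw [hF, hq, ← pow_mul, mul_comm]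
      rw [← Nat.card_eq_fintype_card, (card_fixedField (Fact.out : p.Prime) hF' hσr hr.pos).2,
        Nat.mul_div_assoc 2 hrf]
    obtain ⟨C₀, j, hS⟩ := exists_isSub hq hf hF C hσr hro (fixedField σ) hc
    obtain ⟨B, hB⟩ := hS.field_coset_conj hσr hro hn A hpow
    refine (isConjUnder_conj α x (δ * x)).1 ⟨C.ind B 1, ?_, ?_⟩
    · rw [C.inndiag_eq_range]; exact ⟨B, rfl⟩
    · rw [hconj, ← hy, hB]
  · rintro ⟨h, -, he⟩
    rw [he, ← MulAut.conj_apply, MulEquiv.orderOf_eq, hxr]

end Cfsg.Agent.S2711
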