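import Cfsg.Statements.S2712
import Cfsg.Agent.Lib.Sp.FieldCentralizer

set_option autoImplicit false
open Cfsg CfsgLib.Sp CfsgLib.Descent

namespace Cfsg.Agent.S2712

/-- Let T = PSp_{2m}(F) be simple over the field F with p^f elements (m ≥ 2, (2m, |F|) ≠ (4, 2)), G = Inndiag(T) the image of the projective conformal symplectic group PGSp_{2m}(F), and x a field automorphism of T of prime order r. Then r divides f; C_G(x) is isomorphic to PGSp_{2m}(F₀) for a field F₀ with p^(f/r) elements; and the G-class of x is the union of exactly gcd(gcd(2, p^f − 1), r) T-classes. -/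
theorem result {F : Type*} [Field F] [Fintype F] {p f : ℕ} [Fact p.Prime] (hF : Fintype.card F = p ^ f) (hf : 1 ≤ f) {m : ℕ} (hm : 2 ≤ m) (hs : m = 2 → 3 ≤ Fintype.card F) (x : MulAut (Cfsg.PSp m F)) (hx : Cfsg.IsFieldAutClassPSp x) {r : ℕ} (hr : r.Prime) (hxr : orderOf x = r) (F₀ : Type*) [Field F₀] [Fintype F₀] (hF₀ : Fintype.card F₀ = p ^ (f / r)) :
    r ∣ f ∧ Nonempty (↥(Cfsg.inndiagPSp m F ⊓ Subgroup.centralizer {x}) ≃* Cfsg.PGSp m F₀) ∧ Cfsg.splitClassCount (Cfsg.inndiagPSp m F) (Cfsg.Inn (Cfsg.PSp m F)) x = Nat.gcd (Nat.gcd 2 (p ^ f - 1)) r := by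
  classical
  haveI := inndiag_normal (F := F) hm
  haveI : (Cfsg.Inn (Cfsg.PSp m F)).Normal := inn_normal
  obtain ⟨α, σ, -, hstd⟩ := hx
  have hφ := isStdField_iff.1 hstd
  have hσr : orderOf σ = r := by
    rw [← orderOf_fieldHom hm, ← hφ, ← MulAut.conj_apply, MulEquiv.orderOf_eq, hxr]
  have hp := (Fact.out : p.Prime)
  obtain ⟨hrf, hcard⟩ := card_fixedField hp hF hσr hr.pos
  refine ⟨hrf, ?_, ?_⟩
  · obtain ⟨e1⟩ := exists_centralizer_equiv_of_normal (Cfsg.inndiagPSp m F) x α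
    rw [hφ] at e1
    obtain ⟨e2⟩ := pgsp_equiv_centralizer hm hσr hr.pos F₀ (by rw [hcard, hF₀])
    exact ⟨e1.trans e2.symm⟩
  · have h1 : 1 ≤ m := by omega
    rw [← splitClassCount_conj_of_normal _ _ x α, hφ,
      splitClassCount_eq_index_of_hom (indHom (m := m) (F := F)) (mult h1) (mult_surjective h1) _
        inndiag_eq_range (inn_eq_map h1),
      mult_image hm hσr hr.pos, index_powRange_sup]
    -- the index of the fixed units
    have hc := Subgroup.card_mul_index (fixedUnits σ)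
    rw [card_fixedUnits, hcard, Nat.card_units, Nat.card_eq_fintype_card, hF] at hc
    obtain ⟨d, rfl⟩ := hrf
    rw [Nat.mul_div_cancel_left _ hr.pos] at hc
    set q0 := p ^ d with hq0
    have hd : d ≠ 0 := by rintro rfl; simp at hf
    have hq2 : 2 ≤ q0 := le_trans hp.two_le (Nat.le_self_pow hd p)
    have hgeom : (fixedUnits σ).index = ∑ i ∈ Finset.range r, q0 ^ i := by
      refine Nat.eq_of_mul_eq_mul_left (show 0 < q0 - 1 by omega) (hc.trans ?_)
      rw [mul_comm (q0 - 1), geom_sum_mul_of_one_le (by omega : 1 ≤ q0), hq0, ← pow_mul, mul_comm r d]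
    rw [hgeom]
    rcases Nat.even_or_odd q0 with hev | hodd
    · -- even field order
      have hF2 : Nat.gcd 2 (p ^ (r * d) - 1) = 1 := by
        rw [mul_comm r d, pow_mul, ← hq0]
        refine (Nat.prime_two.coprime_iff_not_dvd).2 ?_
        have : 2 ∣ q0 ^ r := dvd_pow hev.two_dvd hr.ne_zero
        have : 1 ≤ q0 ^ r := Nat.one_le_pow _ _ (by omega)
        omega
      rw [hF2, Nat.gcd_one_left, Nat.gcd_comm]
      refine (Nat.prime_two.coprime_iff_not_dvd).2 ?_
      obtain ⟨k, rfl⟩ : ∃ k, r = k + 1 := ⟨r - 1, by have := hr.pos; omega⟩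
      rw [Finset.sum_range_succ', pow_zero, Nat.dvd_iff_mod_eq_zero, Nat.add_mod,
        Nat.dvd_iff_mod_eq_zero.1 (Finset.dvd_sum fun i _ => dvd_pow hev.two_dvd (by omega))]
      norm_num
    · have hF2 : Nat.gcd 2 (p ^ (r * d) - 1) = 2 := by
        rw [mul_comm r d, pow_mul, ← hq0]
        refine Nat.gcd_eq_left ?_
        have : Odd (q0 ^ r) := hodd.pow
        rw [Nat.odd_iff] at this
        omega
      rw [hF2, Nat.gcd_comm]
      have hmod : (∑ i ∈ Finset.range r, q0 ^ i) % 2 = r % 2 := by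
        rw [Finset.sum_nat_mod, Finset.sum_congr rfl fun i _ => Nat.odd_iff.1 (hodd.pow (n := i))]
        simp
      rw [Nat.gcd_rec, hmod, ← Nat.gcd_rec]

end Cfsg.Agent.S2712
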