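import Cfsg.Statements.S2713
import Cfsg.Agent.Lib.Sp.Field

set_option autoImplicit false
open Cfsg CfsgLib.Sp

namespace Cfsg.Agent.S2713

/-- Let T = PSp_{2m}(F) be simple over a finite field (m ≥ 2, (2m, |F|) ≠ (4, 2)) and let x be a field automorphism of T of prime order r. Then an element y of the coset Inndiag(T)·x (y = δ x with δ in the image of the projective conformal symplectic group) has order r if and only if y is conjugate to x by an element of Inndiag(T). -/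
theorem result {F : Type*} [Field F] [Fintype F] {m : ℕ} (hm : 2 ≤ m) (hs : m = 2 → 3 ≤ Fintype.card F) (x δ : MulAut (Cfsg.PSp m F)) (hx : Cfsg.IsFieldAutClassPSp x) {r : ℕ} (hr : r.Prime) (hxr : orderOf x = r) (hδ : δ ∈ Cfsg.inndiagPSp m F) :
    orderOf (δ * x) = r ↔ Cfsg.IsConjUnder (Cfsg.inndiagPSp m F) x (δ * x) := by
  haveI := inndiag_normal (F := F) hm
  constructor
  swap
  · rintro ⟨h, -, he⟩
    rw [he, ← MulAut.conj_apply, MulEquiv.orderOf_eq, hxr]
  intro hord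
  obtain ⟨α, σ, -, hstd⟩ := hx
  have hφ := isStdField_iff.1 hstd
  have hσr : orderOf σ = r := by
    rw [← orderOf_fieldHom hm, ← hφ, ← MulAut.conj_apply, MulEquiv.orderOf_eq, hxr]
  have hmem : α * δ * α⁻¹ ∈ Cfsg.inndiagPSp m F := Subgroup.Normal.conj_mem inferInstance δ hδ α
  obtain ⟨A, hA⟩ : α * δ * α⁻¹ ∈ (indHom (m := m) (F := F)).range := by
    rwa [← inndiag_eq_range]
  have hy : α * (δ * x) * α⁻¹ = ind A σ := by
    calc α * (δ * x) * α⁻¹ = (α * δ * α⁻¹) * (α * x * α⁻¹) := by group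
      _ = ind A 1 * ind 1 σ := by rw [hφ, ← hA]; rfl
      _ = _ := ind_mul_fieldHom A σ
  obtain ⟨B, hB⟩ := field_coset_conj hm hσr hr.pos A (by
    rw [← hy, ← hord, ← MulEquiv.orderOf_eq (MulAut.conj α), MulAut.conj_apply, pow_orderOf_eq_one])
  rw [← hy, ← hφ] at hB
  refine ⟨α⁻¹ * ind B 1 * α, ?_, ?_⟩
  · have hBm : ind B 1 ∈ Cfsg.inndiagPSp m F := by
      rw [inndiag_eq_range]; exact ⟨B, rfl⟩
    simpa using Subgroup.Normal.conj_mem inferInstance _ hBm α⁻¹
  · calc δ * x = α⁻¹ * (α * (δ * x) * α⁻¹) * α := by group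
      _ = α⁻¹ * (ind B 1 * (α * x * α⁻¹) * (ind B 1)⁻¹) * α := by rw [hB]
      _ = _ := by group

end Cfsg.Agent.S2713
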