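import Cfsg.Statements.S2715
import Cfsg.Agent.Lib.Orth.Field.InnDiagFour
import Cfsg.Agent.Lib.Orth.Field.PairPlus

set_option autoImplicit false
open Cfsg

namespace Cfsg.Agent.S2715

theorem conj_cent {X : Type*} [Group X] (H : Subgroup X) (α x : X) (hH : ∀ γ : X, ∀ h ∈ H, γ * h * γ⁻¹ ∈ H) :
    Nonempty (↥(H ⊓ Subgroup.centralizer {x}) ≃* ↥(H ⊓ Subgroup.centralizer {α * x * α⁻¹})) := by
  have key : ∀ γ y z, z = γ * y * γ⁻¹ → ∀ h, h ∈ H ⊓ Subgroup.centralizer {y} → γ * h * γ⁻¹ ∈ H ⊓ Subgroup.centralizer {z} := by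
    rintro γ y z rfl h ⟨h1, h2⟩
    refine ⟨hH γ h h1, Subgroup.mem_centralizer_singleton_iff.2 ?_⟩
    have h3 := Subgroup.mem_centralizer_singleton_iff.1 h2
    calc γ * h * γ⁻¹ * (γ * y * γ⁻¹) = γ * (h * y) * γ⁻¹ := by group
      _ = γ * (y * h) * γ⁻¹ := by rw [h3]
      _ = _ := by group
  exact ⟨{ toFun := fun h => ⟨α * h.1 * α⁻¹, key α x _ rfl _ h.2⟩
           invFun := fun h => ⟨α⁻¹ * h.1 * α⁻¹⁻¹, key α⁻¹ _ x (by group) _ h.2⟩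
           left_inv := fun h => Subtype.ext (by group)
           right_inv := fun h => Subtype.ext (by group)
           map_mul' := fun a b => Subtype.ext (by simp [mul_assoc]) }⟩

theorem conj_rel {X : Type*} [Group X] {H : Subgroup X} (γ y z : X) (hH : ∀ h ∈ H, γ * h * γ⁻¹ ∈ H)
    (h : Cfsg.IsConjUnder H y z) : Cfsg.IsConjUnder H (γ * y * γ⁻¹) (γ * z * γ⁻¹) := by
  obtain ⟨k, hk, rfl⟩ := h
  exact ⟨γ * k * γ⁻¹, hH k hk, by group⟩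

theorem conj_split {X : Type*} [Group X] (H K : Subgroup X) (α x : X) (hH : ∀ γ : X, ∀ h ∈ H, γ * h * γ⁻¹ ∈ H)
    (hK : ∀ γ : X, ∀ h ∈ K, γ * h * γ⁻¹ ∈ K) :
    Cfsg.splitClassCount H K x = Cfsg.splitClassCount H K (α * x * α⁻¹) := by
  refine Nat.card_congr (Quot.congr
    { toFun := fun y => ⟨α * y.1 * α⁻¹, conj_rel α x y.1 (hH α) y.2⟩
      invFun := fun y => ⟨α⁻¹ * y.1 * α⁻¹⁻¹, by
        have h := conj_rel α⁻¹ _ _ (hH α⁻¹) y.2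
        rwa [show α⁻¹ * (α * x * α⁻¹) * α⁻¹⁻¹ = x by group] at h⟩
      left_inv := fun h => Subtype.ext (by group)
      right_inv := fun h => Subtype.ext (by group) } fun a b => ⟨conj_rel α _ _ (hK α), fun h => ?_⟩)
  have h1 := conj_rel α⁻¹ _ _ (hK α⁻¹) h
  simp only [Equiv.coe_fn_mk] at h1
  rwa [show α⁻¹ * (α * a.1 * α⁻¹) * α⁻¹⁻¹ = a.1 by group, show α⁻¹ * (α * b.1 * α⁻¹) * α⁻¹⁻¹ = b.1 by group] at h1

/-- Let T = PΩ⁺_{2m}(F) (m ≥ 4, |F| = p^f; the form Σ xᵢ yᵢ), G = Inndiag(T) the image of the class-preserving similarities in Aut(T), and x a field automorphism of T of prime order r. Then r divides f; C_G(x) is isomorphic to Inndiag(PΩ⁺_{2m}(F₀)) for a field F₀ with p^(f/r) elements; and the G-class of x is the union of exactly c T-classes, where c = 1 if r is odd or p = 2, and otherwise (r = 2, p odd) c = 2 when m is odd and p^(f/2) ≡ 1 (mod 4), and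 c = 4 in the remaining cases. -/
theorem result {F : Type*} [Field F] [Fintype F] {p f : ℕ} [Fact p.Prime] (hF : Fintype.card F = p ^ f) (hf : 1 ≤ f) {m : ℕ} (hm : 4 ≤ m) (x : MulAut (Cfsg.POmega F (Cfsg.quadFormPlus m F))) (hx : Cfsg.IsFieldAutClassPOmega (Cfsg.quadFormPlus m F) x) {r : ℕ} (hr : r.Prime) (hxr : orderOf x = r) (F₀ : Type*) [Field F₀] [Fintype F₀] (hF₀ : Fintype.card F₀ = p ^ (f / r)) :
    r ∣ f ∧ Nonempty (↥(Cfsg.inndiagPOmegaPlus m F ⊓ Subgroup.centralizer {x}) ≃* ↥(Cfsg.inndiagPOmegaPlus m F₀)) ∧ ((Odd r ∨ p = 2) → Cfsg.splitClassCount (Cfsg.inndiagPOmegaPlus m F) (Cfsg.Inn (Cfsg.POmega F (Cfsg.quadFormPlus m F))) x = 1) ∧ ((r = 2 ∧ p ≠ 2 ∧ Odd m ∧ p ^ (f / 2) % 4 = 1) → Cfsg.splitClassCount (Cfsg.inndiagPOmegaPlus m F) (Cfsg.Inn (Cfsg.POmega F (Cfsg.quadFormPlus m F))) x = 2) ∧ ((r = 2 ∧ p ≠ 2 ∧ ¬ (Odd m ∧ p ^ (f / 2) % 4 = 1)) → Cfsg.splitClassCount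 (Cfsg.inndiagPOmegaPlus m F) (Cfsg.Inn (Cfsg.POmega F (Cfsg.quadFormPlus m F))) x = 4) := by
  open CfsgLib.Orth CfsgLib.Orth.FieldCls CfsgLib.Perm.Trans CfsgLib.Perm.Trans.Quad in
  have hQ : Cfsg.Geo.IsNondegenerateQuadraticForm (Cfsg.quadFormPlus m F) := quadFormPlus_nd
  have hn : 5 ≤ Fintype.card (Fin m ⊕ Fin m) := by simp; omega
  obtain ⟨k, rfl⟩ : ∃ k, m = k + 1 := ⟨m - 1, by omega⟩
  open CfsgLib.Orth CfsgLib.Orth.FieldCls in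
  have core : ∀ {σ : F ≃+* F} {G : GL (Fin (k + 1) ⊕ Fin (k + 1)) F}
      (hG : Cfsg.IsSemisimilarityPair (Cfsg.quadFormPlus (k + 1) F) G σ), σ ≠ RingEquiv.refl F →
      Cfsg.PreservesSingularClasses (Cfsg.quadFormPlus (k + 1) F) (G : Matrix (Fin (k + 1) ⊕ Fin (k + 1)) (Fin (k + 1) ⊕ Fin (k + 1)) F) →
      orderOf (ind hG) = r →
      r ∣ f ∧ Nonempty (↥(Cfsg.inndiagPOmegaPlus (k + 1) F ⊓ Subgroup.centralizer {ind hG}) ≃* ↥(Cfsg.inndiagPOmegaPlus (k + 1) F₀)) ∧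
      ((Odd r ∨ p = 2) → Cfsg.splitClassCount (Cfsg.inndiagPOmegaPlus (k + 1) F) (Cfsg.Inn (Cfsg.POmega F (Cfsg.quadFormPlus (k + 1) F))) (ind hG) = 1) ∧
      ((r = 2 ∧ p ≠ 2 ∧ Odd (k + 1) ∧ p ^ (f / 2) % 4 = 1) → Cfsg.splitClassCount (Cfsg.inndiagPOmegaPlus (k + 1) F) (Cfsg.Inn (Cfsg.POmega F (Cfsg.quadFormPlus (k + 1) F))) (ind hG) = 2) ∧
      ((r = 2 ∧ p ≠ 2 ∧ ¬ (Odd (k + 1) ∧ p ^ (f / 2) % 4 = 1)) → Cfsg.splitClassCount (Cfsg.inndiagPOmegaPlus (k + 1) F) (Cfsg.Inn (Cfsg.POmega F (Cfsg.quadFormPlus (k + 1) F))) (ind hG) = 4) := by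
    intro σ G hG hσ hpres hord
    have hord' : ind hG ^ r = 1 := by rw [← hord, pow_orderOf_eq_one]
    have hσr := field_order hQ hn hG hr hord' hσ
    obtain ⟨hrf, j, hfix, hsurj⟩ := exists_j (Fact.out : p.Prime) hF hσr hr.pos F₀ hF₀
    obtain ⟨h1, h2, h3, h4⟩ := plus_field_cent (k := k) (by omega) hr hσr hG hord' hpres j hfix hsurj
    have h2p : (2 : F) = 0 ↔ p = 2 := two_eq_zero_iff_of_card hF
    refine ⟨hrf, h1, fun h => h2 (h.imp_right h2p.2), ?_, ?_⟩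
    · rintro ⟨hr2, hp, ho, hq⟩
      subst hr2
      exact h3 rfl (fun e => hp (h2p.1 e)) ⟨ho, hF₀ ▸ hq⟩
    · rintro ⟨hr2, hp, hq⟩
      subst hr2
      exact h4 rfl (fun e => hp (h2p.1 e)) fun h => hq ⟨h.1, hF₀ ▸ h.2⟩
  open CfsgLib.Orth CfsgLib.Orth.FieldCls CfsgLib.Perm.Trans CfsgLib.Perm.Trans.Quad in
  rcases (show k + 1 = 4 ∨ 5 ≤ k + 1 by omega) with h4 | h5
  · obtain rfl : k = 3 := by omega
    obtain ⟨α, φ, σ, hσ, hφ, e⟩ := hx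
    obtain rfl := fieldAut_eq (fun σ => quadFormPlus_field σ) hφ
    have hord : orderOf (ind (semisim_field (quadFormPlus_field (m := 3 + 1) σ))) = r := by
      rw [← e, ← hxr]
      exact (MulEquiv.orderOf_eq (MulAut.conj α) x)
    obtain ⟨g1, g2, g3, g4, g5⟩ := core _ hσ (plus_scalar (by omega) 1 ⟨1, by simp⟩) hord
    have hH : ∀ γ, ∀ h ∈ Cfsg.inndiagPOmegaPlus (3 + 1) F, γ * h * γ⁻¹ ∈ Cfsg.inndiagPOmegaPlus (3 + 1) F :=
      fun γ h hh => Four.inndiag_conj_mem γ hh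
    haveI := inn_normal (Cfsg.POmega F (Cfsg.quadFormPlus (3 + 1) F))
    rw [conj_split _ _ α x hH (fun γ h hh => Subgroup.Normal.conj_mem inferInstance h hh γ), e]
    obtain ⟨e1⟩ := conj_cent (Cfsg.inndiagPOmegaPlus (3 + 1) F) α x hH
    rw [e] at e1
    exact ⟨g1, g2.map e1.trans, g3, g4, g5⟩
  · obtain ⟨σ, G, hG, hσ, rfl, hpres⟩ := pair_of_field_plus h5 hx
    exact core hG hσ hpres hxr

end Cfsg.Agent.S2715
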