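import Cfsg.Statements.S2717
import Cfsg.Agent.Lib.Orth.Field.CentGraph
import Cfsg.Agent.Lib.Orth.Field.PairPlus

set_option autoImplicit false
open Cfsg

namespace Cfsg.Agent.S2717

/-- Let T = PΩ⁺_{2m}(F) with m ≥ 5 (dimension 2m ≠ 8) and |F| = p^f, G = Inndiag(T), and x an involutory graph-field automorphism of T. Then f is even; any two involutory graph-field automorphisms of T are G-conjugate; C_G(x) is isomorphic to Inndiag(PΩ⁻_{2m}(F₀)) for a field F₀ with p^(f/2) elements (some anisotropic binary part over F₀); and the G-class of x is the union of exactly c T-classes with c = 1 if p = 2, c = 4 if p is odd, m is odd and p^(f/2) ≡ 1 (mod 4), and c = 2 otherwise. -/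
theorem result {F : Type*} [Field F] [Fintype F] {p f : ℕ} [Fact p.Prime] (hF : Fintype.card F = p ^ f) (hf : 1 ≤ f) {m : ℕ} (hm : 5 ≤ m) (x : MulAut (Cfsg.POmega F (Cfsg.quadFormPlus m F))) (hx : Cfsg.IsGraphFieldAutClassPOmegaPlus m x) (hx2 : orderOf x = 2) (F₀ : Type*) [Field F₀] [Fintype F₀] (hF₀ : Fintype.card F₀ = p ^ (f / 2)) :
    Even f ∧ (∀ y : MulAut (Cfsg.POmega F (Cfsg.quadFormPlus m F)), Cfsg.IsGraphFieldAutClassPOmegaPlus m y → orderOf y = 2 → Cfsg.IsConjUnder (Cfsg.inndiagPOmegaPlus m F) x y) ∧ (∃ a₀ b₀ : F₀, (∀ z₁ z₂ : F₀, z₁ ^ 2 + a₀ * z₁ * z₂ + b₀ * z₂ ^ 2 = 0 → z₁ = 0 ∧ z₂ = 0) ∧ Nonempty (↥(Cfsg.inndiagPOmegaPlus m F ⊓ Subgroup.centralizer {x}) ≃* ↥(Cfsg.inndiagPOmegaMinus (m - 1) F₀ a₀ b₀))) ∧ (p = 2 → Cfsg.splitClassCount (Cfsg.inndiagPOmegaPlus m F) (Cfsg.Inn (Cfsg.POmega F (Cfsg.quadFormPlus m F))) x = 1) ∧ ((p ≠ 2 ∧ Odd m ∧ p ^ (f / 2) % 4 = 1) → Cfsg.splitClassCount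 (Cfsg.inndiagPOmegaPlus m F) (Cfsg.Inn (Cfsg.POmega F (Cfsg.quadFormPlus m F))) x = 4) ∧ ((p ≠ 2 ∧ ¬ (Odd m ∧ p ^ (f / 2) % 4 = 1)) → Cfsg.splitClassCount (Cfsg.inndiagPOmegaPlus m F) (Cfsg.Inn (Cfsg.POmega F (Cfsg.quadFormPlus m F))) x = 2) := by
  open CfsgLib.Orth CfsgLib.Orth.FieldCls CfsgLib.Perm.Trans CfsgLib.Perm.Trans.Quad in
  obtain ⟨k, rfl⟩ : ∃ k, m = k + 1 := ⟨m - 1, by omega⟩
  have hk : 2 ≤ k := by omega
  have hm' : 3 ≤ k + 1 := by omega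
  have hn : 5 ≤ Fintype.card (Fin (k + 1) ⊕ Fin (k + 1)) := by simp; omega
  have hQ : Cfsg.Geo.IsNondegenerateQuadraticForm (Cfsg.quadFormPlus (k + 1) F) := quadFormPlus_nd
  obtain ⟨σ, G, hG, hσ, rfl, hnp⟩ := pair_of_graphField_plus hm hx
  have hord : ind hG ^ 2 = 1 := by rw [← hx2, pow_orderOf_eq_one]
  have hσr := field_order hQ hn hG Nat.prime_two hord hσ
  obtain ⟨hdiv, j, hfix, hsurj⟩ := exists_j (Fact.out : p.Prime) hF hσr two_pos F₀ hF₀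
  obtain ⟨c1, c2, c3, c4⟩ := graph_field_cent hk hσr hG hord hnp j hfix hsurj
  have h2p : (2 : F) = 0 ↔ p = 2 := two_eq_zero_iff_of_card hF
  refine ⟨even_iff_two_dvd.2 hdiv, fun y hy hy2 => ?_, by simpa using c1, fun hp => c2 (h2p.2 hp),
    fun h => c3 (fun e => h.1 (h2p.1 e)) ⟨h.2.1, by rw [hF₀]; exact h.2.2⟩,
    fun h => c4 (fun e => h.1 (h2p.1 e)) fun h' => h.2 ⟨h'.1, by rw [← hF₀]; exact h'.2⟩⟩
  obtain ⟨σ', G', hG', hσ', rfl, hnp'⟩ := pair_of_graphField_plus hm hy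
  have hord' : ind hG' ^ 2 = 1 := by rw [← hy2, pow_orderOf_eq_one]
  have hσr' := field_order hQ hn hG' Nat.prime_two hord' hσ'
  obtain rfl : σ' = σ := invol_unique hF hσr' hσr
  obtain ⟨a, b, ha, hb, hab⟩ := exists_fixed_aniso σ'
  obtain ⟨e⟩ := exists_reindex k
  have hσQ : ∀ v, Cfsg.quadFormPlus (k + 1) F (fun i => σ' (v i)) = σ' (Cfsg.quadFormPlus (k + 1) F v) :=
    quadFormPlus_field σ'
  rcases desc_plus hk e hσr two_pos ha hb hab hG hord with h1 | h1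
  · exact absurd (pres_of_desc_plus hk (sim_of_semisim hσQ hG) h1) hnp
  rcases desc_plus hk e hσr two_pos ha hb hab hG' hord' with h2 | h2
  · exact absurd (pres_of_desc_plus hk (sim_of_semisim hσQ hG') h2) hnp'
  refine conj_of_char hQ (reix_nd e (quadFormMinus_nd_disc (fixed_disc ha hb hab))) (fun g hg => (simHom_mem_plus hm' g).2 hg)
    (plus_mul hm') (fun u w hu hw huw => plus_refl hm' hu hw huw) ?_
    (v := fun i => (Pi.single (Sum.inr 0) 1 : (Fin k ⊕ Fin k) ⊕ Fin 2 → F) (e.symm i)) (fun i => ?_) ?_ h1 h2 hG hG'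
  · intro x
    have := quadFormMinus_field (m := k) a b σ' fun i => x (e i)
    rwa [ha, hb] at this
  · simp only [Pi.single_apply]
    split_ifs <;> simp
  · simp [reix, Cfsg.quadFormMinus, Pi.single_apply]

end Cfsg.Agent.S2717
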