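import Cfsg.Statements.S2718
import Cfsg.Agent.Lib.Orth.Split

set_option autoImplicit false
open Cfsg CfsgLib.Orth CfsgLib.Perm.Trans.Quad

namespace Cfsg.Agent.S2718

/-- Let T = PΩ⁺_{2m}(F) with m ≥ 4 and |F| = q odd, G = Inndiag(T), and γ an involutory graph automorphism of T induced by a similarity (one interchanging the two classes of maximal totally singular subspaces). Then the G-class of γ is either a single T-class or the union of exactly two T-classes, and it is the union of two unless m is odd and q ≡ 3 (mod 4). -/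
theorem result {F : Type*} [Field F] [Fintype F] (hodd : Odd (Fintype.card F)) {m : ℕ} (hm : 4 ≤ m) (γ : MulAut (Cfsg.POmega F (Cfsg.quadFormPlus m F))) (hγ : Cfsg.IsSimilarityGraphAutPOmegaPlus m γ) (hγ2 : orderOf γ = 2) :
    (Cfsg.splitClassCount (Cfsg.inndiagPOmegaPlus m F) (Cfsg.Inn (Cfsg.POmega F (Cfsg.quadFormPlus m F))) γ = 1 ∨ Cfsg.splitClassCount (Cfsg.inndiagPOmegaPlus m F) (Cfsg.Inn (Cfsg.POmega F (Cfsg.quadFormPlus m F))) γ = 2) ∧ (¬ (Odd m ∧ Fintype.card F % 4 = 3) → Cfsg.splitClassCount (Cfsg.inndiagPOmegaPlus m F) (Cfsg.Inn (Cfsg.POmega F (Cfsg.quadFormPlus m F))) γ = 2) := by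
  have h2 := two_ne_zero_of_odd hodd
  have hn : 5 ≤ Fintype.card (Fin m ⊕ Fin m) := by simp; omega
  have hQ : Cfsg.Geo.IsNondegenerateQuadraticForm (Cfsg.quadFormPlus m F) := quadFormPlus_nd
  obtain ⟨g, hg, hp, hi⟩ := hγ
  obtain rfl := (isInduced_iff (sim_pair hg)).1 hi
  have hsg : simSign hQ (by omega) m ⟨g, hg⟩ ≠ 1 := fun e => hp ((preserves_plus_iff h2
    (simMult_spec hQ (by omega) ⟨g, hg⟩)).2 ((simSign_eq_one_iff hQ _ m ⟨g, hg⟩).1 e))
  have hle := (inn_le_psoAut hQ hn h2).trans (psoAut_le_diagSub hQ hn (plus_card (m := m)))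
  rw [inndiag_plus_eq (by omega) h2]
  by_cases hc : Odd m ∧ Fintype.card F % 4 = 3
  · obtain ⟨φ, hs, hk⟩ := diag_mod_inn_two hQ hn h2 plus_card (hsim_plus (by omega) h2)
      (fun e => (spn_neg_one_plus hodd (by omega)).1 e hc)
    exact ⟨(split_two hle φ hs hk (by simp) _).1, fun h => absurd hc h⟩
  · have hneg := (spn_neg_one_plus (F := F) (m := m) hodd (by omega)).2 hc
    obtain ⟨c, hcns⟩ := exists_nonsquare_unit (F := F) h2
    obtain ⟨s, k, hk, g1, g2, g3, g4, g5⟩ := exists_sim_plus (F := F) (m := m) (by omega) c h2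
    have key := diag_mod_inn_four hQ hn h2 plus_card (hsim_plus (by omega) h2) hneg hcns g1 g2 hk g3 g5
    have h2eq : Cfsg.splitClassCount (diagSub hQ (by omega) m) (Cfsg.Inn (Cfsg.POmega F (Cfsg.quadFormPlus m F)))
        (simHom (Cfsg.quadFormPlus m F) ⟨g, hg⟩) = 2 := by
      by_cases h1 : spn (Cfsg.quadFormPlus m F) k = 1
      · obtain ⟨φ, hs, hker⟩ := key.2 h1
        exact graph_split_four hQ (by simp; omega) h2 plus_card (hsim_plus (by omega) h2) hneg hsg hγ2 (by simp) φ hs hker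
      · obtain ⟨φ, hs, hker⟩ := key.1 h1
        exact graph_split_four hQ (by simp; omega) h2 plus_card (hsim_plus (by omega) h2) hneg hsg hγ2 (by simp) φ hs hker
    exact ⟨Or.inr h2eq, fun _ => h2eq⟩

end Cfsg.Agent.S2718
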