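import Cfsg.Statements.S2719
import Cfsg.Agent.Lib.Orth.Split
import Cfsg.Agent.Lib.Orth.SemiInvol
import Cfsg.Agent.Lib.Orth.GammaMem

set_option autoImplicit false
open Cfsg CfsgLib.Orth CfsgLib.Perm.Trans.Quad

namespace Cfsg.Agent.S2719

/-- Let T = PΩ⁻_{2m+2}(F) with m ≥ 3 and |F| = q odd (form with anisotropic binary part z₁² + a z₁ z₂ + b z₂²), G = Inndiag(T), and γ an involutory graph automorphism of T (an automorphism in the image of the semisimilarity group, not inner-diagonal, of order 2). Then the G-class of γ is either a single T-class or the union of exactly two T-classes, and it is the union of two unless m is even and q ≡ 1 (mod 4). -/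
theorem result {F : Type*} [Field F] [Fintype F] (hodd : Odd (Fintype.card F)) {m : ℕ} (hm : 3 ≤ m) (a b : F) (hab : (∀ z₁ z₂ : F, z₁ ^ 2 + a * z₁ * z₂ + b * z₂ ^ 2 = 0 → z₁ = 0 ∧ z₂ = 0)) (γ : MulAut (Cfsg.POmega F (Cfsg.quadFormMinus m F a b))) (hγ : Cfsg.IsGraphAutClassPOmegaMinus m a b γ) (hγ2 : orderOf γ = 2) :
    (Cfsg.splitClassCount (Cfsg.inndiagPOmegaMinus m F a b) (Cfsg.Inn (Cfsg.POmega F (Cfsg.quadFormMinus m F a b))) γ = 1 ∨ Cfsg.splitClassCount (Cfsg.inndiagPOmegaMinus m F a b) (Cfsg.Inn (Cfsg.POmega F (Cfsg.quadFormMinus m F a b))) γ = 2) ∧ (¬ (Even m ∧ Fintype.card F % 4 = 1) → Cfsg.splitClassCount (Cfsg.inndiagPOmegaMinus m F a b) (Cfsg.Inn (Cfsg.POmega F (Cfsg.quadFormMinus m F a b))) γ = 2) := by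
  have h2 := two_ne_zero_of_odd hodd
  have hn : 5 ≤ Fintype.card ((Fin m ⊕ Fin m) ⊕ Fin 2) := by simp; omega
  have hQ := quadFormMinus_nd (m := m) a b hab
  obtain ⟨hγg, hγni, -⟩ := hγ
  obtain ⟨g, σ, hp, hi⟩ : ∃ g σ, Cfsg.IsSemisimilarityPair (Cfsg.quadFormMinus m F a b) g σ ∧
      Cfsg.IsInducedBySemilinearPOmega (Cfsg.quadFormMinus m F a b) g σ γ :=
    gammaPOmega_mem hγg
  obtain rfl := (isInduced_iff hp).1 hi
  have hσ := semi_involution_minus h2 hab (by omega) hp (by rw [← sq]; exact (orderOf_eq_prime_iff.1 hγ2).1)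
  subst hσ
  have hg : g ∈ Cfsg.Geo.quadSimilarityGroup (F := F) (Cfsg.quadFormMinus m F a b) := by
    obtain ⟨c, hc⟩ := hp
    exact ⟨c, fun v => by simpa using hc v⟩
  rw [inndiag_minus_eq (by omega) h2 hab] at hγni ⊢
  have hsg : simSign hQ (by omega) (m + 1) ⟨g, hg⟩ ≠ 1 := fun e => hγni
    ((mem_diagSub_iff hQ hn minus_card ⟨g, hg⟩).2 e)
  have hle := (inn_le_psoAut hQ hn h2).trans (psoAut_le_diagSub hQ hn (minus_card (m := m)))
  by_cases hc : Even m ∧ Fintype.card F % 4 = 3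
  · have hneg := (spn_neg_one_minus hodd (by omega) hab).2 hc
    obtain ⟨c, hcns⟩ := exists_nonsquare_unit (F := F) h2
    obtain ⟨s, k, hk, g1, g2, g3, g4, g5⟩ := exists_sim_minus (F := F) (m := m) (by omega) c h2 hab
    have key := diag_mod_inn_four hQ hn h2 minus_card (hsim_minus (by omega) h2 hab) hneg hcns g1 g2 hk g3 g5
    have h2eq : Cfsg.splitClassCount (diagSub hQ (by omega) (m + 1))
        (Cfsg.Inn (Cfsg.POmega F (Cfsg.quadFormMinus m F a b))) (simHom (Cfsg.quadFormMinus m F a b) ⟨g, hg⟩) = 2 := by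
      by_cases h1 : spn (Cfsg.quadFormMinus m F a b) k = 1
      · obtain ⟨φ, hs, hker⟩ := key.2 h1
        exact graph_split_four hQ (by simp; omega) h2 minus_card (hsim_minus (by omega) h2 hab) hneg hsg hγ2 (by simp) φ hs hker
      · obtain ⟨φ, hs, hker⟩ := key.1 h1
        exact graph_split_four hQ (by simp; omega) h2 minus_card (hsim_minus (by omega) h2 hab) hneg hsg hγ2 (by simp) φ hs hker
    exact ⟨Or.inr h2eq, fun _ => h2eq⟩
  · have hneg : spn (Cfsg.quadFormMinus m F a b) (-1 : GL ((Fin m ⊕ Fin m) ⊕ Fin 2) F) ≠ 1 := fun e =>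
      hc ((spn_neg_one_minus hodd (by omega) hab).1 e)
    obtain ⟨φ, hs, hk⟩ := diag_mod_inn_two hQ hn h2 minus_card (hsim_minus (by omega) h2 hab) hneg
    obtain ⟨k1, k2⟩ := split_two hle φ hs hk (by simp) (simHom (Cfsg.quadFormMinus m F a b) ⟨g, hg⟩)
    refine ⟨k1, fun h => k2 (graph_no_cent hQ hn h2 minus_card ?_ hneg hsg hγ2)⟩
    rcases Nat.even_or_odd m with he | ho
    · have := Nat.odd_iff.1 hodd
      exact absurd ⟨he, by rcases (show Fintype.card F % 4 = 1 ∨ Fintype.card F % 4 = 3 by omega) with e | e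
                           · exact e
                           · exact absurd ⟨he, e⟩ hc⟩ h
    · exact Nat.even_add_one.2 (Nat.not_even_iff_odd.2 ho)

end Cfsg.Agent.S2719
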