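import Cfsg.Statements.S2725
import Cfsg.Agent.Lib.Orth.PGOInst

set_option autoImplicit false
open Cfsg CfsgLib.Orth CfsgLib.Perm.Trans.Quad

namespace Cfsg.Agent.S2725

/-- Let T = PΩ⁺_{2m}(F) with m ≥ 4 and |F| = q odd. The inner-diagonal group G = Inndiag(T) (image of the class-preserving similarities) taken modulo the inner automorphism group T is cyclic of order 2 when m is odd and q ≡ 3 (mod 4), cyclic of order 4 when m is odd and q ≡ 1 (mod 4), and elementary abelian of order 4 when m is even. -/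
theorem result {F : Type*} [Field F] [Fintype F] (hodd : Odd (Fintype.card F)) {m : ℕ} (hm : 4 ≤ m) :
    ((Odd m ∧ Fintype.card F % 4 = 3) → (∃ φ : ↥(Cfsg.inndiagPOmegaPlus m F) →* Multiplicative (ZMod 2), Function.Surjective φ ∧ φ.ker = (Cfsg.Inn (Cfsg.POmega F (Cfsg.quadFormPlus m F))).subgroupOf (Cfsg.inndiagPOmegaPlus m F))) ∧ ((Odd m ∧ Fintype.card F % 4 = 1) → (∃ φ : ↥(Cfsg.inndiagPOmegaPlus m F) →* Multiplicative (ZMod 4), Function.Surjective φ ∧ φ.ker = (Cfsg.Inn (Cfsg.POmega F (Cfsg.quadFormPlus m F))).subgroupOf (Cfsg.inndiagPOmegaPlus m F))) ∧ (Even m → (∃ φ : ↥(Cfsg.inndiagPOmegaPlus m F) →* Multiplicative (ZMod 2 × ZMod 2), Function.Surjective φ ∧ φ.ker = (Cfsg.Inn (Cfsg.POmega F (Cfsg.quadFormPlus m F))).subgroupOf (Cfsg.inndiagPOmegaPlus m F))) := by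
  have h2 := two_ne_zero_of_odd hodd
  have hn : 5 ≤ Fintype.card (Fin m ⊕ Fin m) := by simp; omega
  have hsim := CfsgLib.Orth.hsim_plus (F := F) (m := m) (by omega) h2
  rw [inndiag_plus_eq (by omega) h2]
  refine ⟨fun h => diag_mod_inn_two (quadFormPlus_nd (F := F) (m := m)) hn h2 plus_card hsim (fun e => (spn_neg_one_plus hodd (by omega)).1 e h),
    fun h => ?_, fun h => ?_⟩
  all_goals
    obtain ⟨c, hc⟩ := CfsgLib.Orth.exists_nonsquare_unit (F := F) h2
    obtain ⟨g, k, hk, g1, g2, g3, g4, g5⟩ := CfsgLib.Orth.exists_sim_plus (F := F) (m := m) (by omega) c h2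
    have key := CfsgLib.Orth.diag_mod_inn_four _ hn h2 CfsgLib.Orth.plus_card hsim
      ((CfsgLib.Orth.spn_neg_one_plus hodd (by omega)).2 (by
        rintro ⟨h1, h3⟩
        first
          | exact Nat.not_even_iff_odd.2 h1 h
          | omega)) hc g1 g2 hk g3 g5
  · refine key.1 ?_
    obtain ⟨j, rfl⟩ := h.1
    rw [g4, Ne, CfsgLib.Orth.sqc_eq_one_iff (pow_ne_zero _ c.ne_zero), pow_succ, pow_mul]
    rintro ⟨t, ht⟩
    exact hc ⟨t / (c : F) ^ j, by field_simp; linear_combination ht⟩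
  · refine key.2 ?_
    obtain ⟨j, rfl⟩ := h
    rw [g4, CfsgLib.Orth.sqc_eq_one_iff (pow_ne_zero _ c.ne_zero)]
    exact ⟨(c : F) ^ j, pow_add _ j j⟩

end Cfsg.Agent.S2725
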