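import Cfsg.Statements.S2729
import Cfsg.Agent.Lib.Orth.PGOInst

set_option autoImplicit false
open Cfsg CfsgLib.Orth CfsgLib.Perm.Trans.Quad

namespace Cfsg.Agent.S2729

/-- Let T = PΩ⁻_{2m+2}(F) with m ≥ 3 and |F| = q odd (form with anisotropic binary part). The inner-diagonal group G = Inndiag(T) (image of the class-preserving similarities) taken modulo the inner automorphism group T is cyclic of order 4 when m is even and q ≡ 3 (mod 4), and of order 2 otherwise. -/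
theorem result {F : Type*} [Field F] [Fintype F] (hodd : Odd (Fintype.card F)) {m : ℕ} (hm : 3 ≤ m) (a b : F) (hab : (∀ z₁ z₂ : F, z₁ ^ 2 + a * z₁ * z₂ + b * z₂ ^ 2 = 0 → z₁ = 0 ∧ z₂ = 0)) :
    ((Even m ∧ Fintype.card F % 4 = 3) → (∃ φ : ↥(Cfsg.inndiagPOmegaMinus m F a b) →* Multiplicative (ZMod 4), Function.Surjective φ ∧ φ.ker = (Cfsg.Inn (Cfsg.POmega F (Cfsg.quadFormMinus m F a b))).subgroupOf (Cfsg.inndiagPOmegaMinus m F a b))) ∧ (¬ (Even m ∧ Fintype.card F % 4 = 3) → (∃ φ : ↥(Cfsg.inndiagPOmegaMinus m F a b) →* Multiplicative (ZMod 2), Function.Surjective φ ∧ φ.ker = (Cfsg.Inn (Cfsg.POmega F (Cfsg.quadFormMinus m F a b))).subgroupOf (Cfsg.inndiagPOmegaMinus m F a b))) := by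
  have h2 := two_ne_zero_of_odd hodd
  have hn : 5 ≤ Fintype.card ((Fin m ⊕ Fin m) ⊕ Fin 2) := by simp; omega
  have hQ := quadFormMinus_nd (m := m) a b hab
  have hsim := CfsgLib.Orth.hsim_minus (F := F) (m := m) (by omega) h2 hab
  rw [inndiag_minus_eq (by omega) h2 hab]
  refine ⟨fun h => ?_,
    fun h => diag_mod_inn_two hQ hn h2 minus_card hsim (fun e => h ((spn_neg_one_minus hodd (by omega) hab).1 e))⟩
  obtain ⟨c, hc⟩ := CfsgLib.Orth.exists_nonsquare_unit (F := F) h2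
  obtain ⟨g, k, hk, g1, g2, g3, g4, g5⟩ := CfsgLib.Orth.exists_sim_minus (F := F) (m := m) (by omega) c h2 hab
  refine (CfsgLib.Orth.diag_mod_inn_four hQ hn h2 CfsgLib.Orth.minus_card hsim
    ((CfsgLib.Orth.spn_neg_one_minus hodd (by omega) hab).2 h) hc g1 g2 hk g3 g5).1 ?_
  obtain ⟨j, rfl⟩ := h.1
  rw [g4, Ne, CfsgLib.Orth.sqc_eq_one_iff (pow_ne_zero _ c.ne_zero), pow_succ]
  rintro ⟨t, ht⟩
  exact hc ⟨t / (c : F) ^ j, by field_simp; linear_combination ht⟩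

end Cfsg.Agent.S2729
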