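import Cfsg.Statements.S2730
import Cfsg.Agent.Lib.Sp.BalanceFail

set_option autoImplicit false
open Cfsg

namespace Cfsg.Agent.S2730

/-- A criterion for the failure of local balance in almost simple groups whose socle is a projective symplectic group PSp_{2m}(F) (m ≥ 2, (2m, |F|) ≠ (4, 2)). Let F be a finite field of characteristic r and K the (simple) group in question; let A be a group of automorphisms of K containing all inner automorphisms, and x ∈ A an automorphism of prime order p ≠ r that is not inner-diagonal (not induced by a conformal symplectic matrix). Then the largest normal subgroup of C_A(x) of order prime to p is nontrivial if and only if x is a field automorphism of K (conjugate under Aut(K) to a non-identity standard field automorphism) and p does not divide the number of fixed points of x on K. -/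
theorem result {F : Type*} [Field F] [Fintype F] {r : ℕ} [Fact r.Prime] [CharP F r] {m : ℕ} (hm : 2 ≤ m) (hs : m = 2 → 3 ≤ Fintype.card F) (hK : IsSimpleGroup (Cfsg.PSp m F)) (A : Subgroup (MulAut (Cfsg.PSp m F))) (hinn : ∀ k : Cfsg.PSp m F, MulAut.conj k ∈ A) {p : ℕ} [Fact p.Prime] (hpr : p ≠ r) (x : MulAut (Cfsg.PSp m F)) (hxA : x ∈ A) (hord : orderOf x = p) (hnot : ¬ Cfsg.IsInnerDiagonalAutPSp x) :
    Cfsg.pPrimeCore p ↥(A ⊓ Subgroup.centralizer {x}) ≠ ⊥ ↔ (Cfsg.IsFieldAutClassPSp x ∧ Nat.Coprime p (Nat.card ↥(MonoidHom.eqLocus x.toMonoidHom (MonoidHom.id (Cfsg.PSp m F))))) := by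
  classical
  obtain ⟨α, σ, hσ, hconj⟩ := CfsgLib.Sp.exists_conj_field r hm Fact.out hpr hord hnot
  set φ := CfsgLib.Sp.ind (1 : ↥(Cfsg.GSp m F)) σ with hφ
  have hσ1 : σ ≠ RingEquiv.refl F := fun h => (Fact.out : p.Prime).one_lt.ne'
    (by rw [← hσ, orderOf_eq_one_iff]; exact h)
  have hcls : Cfsg.IsFieldAutClassPSp x :=
    ⟨α, σ, hσ1, CfsgLib.Sp.isStdField_iff.2 hconj⟩
  let c : MulAut (Cfsg.PSp m F) ≃* MulAut (Cfsg.PSp m F) := MulAut.conj α
  set A' := A.map c.toMonoidHom with hA'
  have hinn' : ∀ k : Cfsg.PSp m F, MulAut.conj k ∈ A' := fun k => by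
    refine ⟨MulAut.conj (α.symm k), hinn _, MulEquiv.ext fun y => ?_⟩
    simp [c, MulAut.mul_apply, MulAut.inv_def]
  have key := CfsgLib.Sp.pPrimeCore_field_iff r hm hK hpr hσ A' hinn'
  have hmap : (A ⊓ Subgroup.centralizer {x}).map c.toMonoidHom = A' ⊓ Subgroup.centralizer {φ} := by
    rw [Subgroup.map_inf _ _ _ c.injective]
    congr 1
    ext y
    simp only [Subgroup.mem_map, Subgroup.mem_centralizer_iff, Set.mem_singleton_iff, forall_eq]
    constructor
    · rintro ⟨z, hz, rfl⟩
      rw [← hconj]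
      exact congrArg c hz |> fun h => by simpa [c, map_mul, mul_assoc] using h
    · intro hy
      refine ⟨c.symm y, ?_, c.apply_symm_apply y⟩
      apply c.injective
      rw [map_mul, map_mul, c.apply_symm_apply]
      show (α * x * α⁻¹) * y = y * (α * x * α⁻¹)
      rw [hconj]; exact hy
  let e : ↥(A ⊓ Subgroup.centralizer {x}) ≃* ↥(A' ⊓ Subgroup.centralizer {φ}) :=
    (Subgroup.equivMapOfInjective _ c.toMonoidHom c.injective).trans (MulEquiv.subgroupCongr hmap)
  have hcore : Cfsg.pPrimeCore p ↥(A ⊓ Subgroup.centralizer {x}) ≠ ⊥ ↔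
      Cfsg.pPrimeCore p ↥(A' ⊓ Subgroup.centralizer {φ}) ≠ ⊥ := by
    rw [not_iff_not, ← CfsgLib.Coprime.map_pPrimeCore_equiv e, Subgroup.map_eq_bot_iff_of_injective _ e.injective]
  have hcard : Nat.card ↥(MonoidHom.eqLocus x.toMonoidHom (MonoidHom.id (Cfsg.PSp m F))) =
      Nat.card ↥(MonoidHom.eqLocus φ.toMonoidHom (MonoidHom.id (Cfsg.PSp m F))) :=
    Nat.card_congr (Equiv.subtypeEquiv α.toEquiv fun k => by
      show x k = k ↔ φ (α k) = α k
      rw [← hconj]
      simp [MulAut.mul_apply, MulAut.inv_def])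
  rw [hcore, key, hcard]
  exact ⟨fun h => ⟨hcls, h⟩, fun h => h.2⟩

end Cfsg.Agent.S2730
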