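import Cfsg.Statements.S2731
import Cfsg.Agent.Lib.Orth.Field.BalanceOdd
import Cfsg.Agent.Lib.Orth.Field.CentOdd

set_option autoImplicit false
open Cfsg

namespace Cfsg.Agent.S2731

/-- A criterion for the failure of local balance in almost simple groups whose socle is an odd-dimensional orthogonal group Ω_{2m+1}(F) (m ≥ 3, |F| odd; the form x₀² + Σ xᵢ yᵢ). Let F be a finite field of characteristic r and K the (simple) group in question; let A be a group of automorphisms of K containing all inner automorphisms, and x ∈ A an automorphism of prime order p ≠ r that is not inner-diagonal (not induced by a similarity of the form). Then the largest normal subgroup of C_A(x) of order prime to p is nontrivial if and only if x is a field automorphism of K (conjugate under Aut(K) to a non-identity standard field automorphism) and p does not divide the number of fixed points of x on K. -/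
theorem result {F : Type*} [Field F] [Fintype F] {r : ℕ} [Fact r.Prime] [CharP F r] (hodd : Odd (Fintype.card F)) {m : ℕ} (hm : 3 ≤ m) (hK : IsSimpleGroup (Cfsg.POmega F (Cfsg.quadFormOdd m F))) (A : Subgroup (MulAut (Cfsg.POmega F (Cfsg.quadFormOdd m F)))) (hinn : ∀ k : Cfsg.POmega F (Cfsg.quadFormOdd m F), MulAut.conj k ∈ A) {p : ℕ} [Fact p.Prime] (hpr : p ≠ r) (x : MulAut (Cfsg.POmega F (Cfsg.quadFormOdd m F))) (hxA : x ∈ A) (hord : orderOf x = p) (hnot : ¬ Cfsg.IsInnerDiagonalAutPOmegaOdd m x) :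
    Cfsg.pPrimeCore p ↥(A ⊓ Subgroup.centralizer {x}) ≠ ⊥ ↔ (Cfsg.IsFieldAutClassPOmega (Cfsg.quadFormOdd m F) x ∧ Nat.Coprime p (Nat.card ↥(MonoidHom.eqLocus x.toMonoidHom (MonoidHom.id (Cfsg.POmega F (Cfsg.quadFormOdd m F)))))) := by
  open CfsgLib.Orth CfsgLib.Orth.FieldCls CfsgLib.Perm.Trans CfsgLib.Perm.Trans.Quad in
  have hp := (Fact.out : p.Prime)
  have h2 := CfsgLib.Orth.two_ne_zero_of_odd hodd
  have hQ : Cfsg.Geo.IsNondegenerateQuadraticForm (Cfsg.quadFormOdd m F) := quadFormOdd_nd h2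
  have hn : 5 ≤ Fintype.card (Unit ⊕ (Fin m ⊕ Fin m)) := by simp; omega
  have htop := Aut.gamma_top_odd hodd hm
  obtain ⟨g, σ, hg, rfl⟩ : x ∈ gammaSub (Cfsg.quadFormOdd m F) := by
    rw [← gammaPOmega_eq, htop]; exact Subgroup.mem_top x
  have hσ : σ ≠ RingEquiv.refl F := by
    rintro rfl
    exact hnot ⟨g, sim_of_semisim (fun _ => rfl) hg, ind_isInduced hg⟩
  have hσr := field_order hQ hn hg hp (by rw [← hord, pow_orderOf_eq_one]) hσ
  have hD := desc_odd h2 (by omega) hσr hp.pos hg (by rw [← hord, pow_orderOf_eq_one])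
  rw [and_iff_right (fieldClass_of_desc hQ hn (quadFormOdd_field σ) hσ hg hD)]
  obtain ⟨K, a, k, ha, hk, hGK, hK⟩ := hD
  obtain ⟨F₀, hF₀⟩ : ∃ F₀, F₀ = CfsgLib.Descent.fixedField (σ : RingAut F) := ⟨_, rfl⟩
  haveI : Fintype F₀ := Fintype.ofFinite _
  have h20 : (2 : F₀) ≠ 0 := fun h => h2 (by rw [← map_ofNat F₀.subtype 2, h, map_zero])
  have hfix : ∀ c : F₀, σ (F₀.subtype c) = F₀.subtype c := fun c => (SetLike.ext_iff.1 hF₀ (c : F)).1 c.2
  have D : Model (Cfsg.quadFormOdd m F) σ g (Equiv.refl _) F₀.subtype (Cfsg.quadFormOdd m F₀)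
      (Cfsg.quadFormOdd m F) K a k :=
    ⟨hQ, quadFormOdd_nd h20, hQ, fun x => by simp [Cfsg.quadFormOdd], hfix,
      fun x hx => ⟨⟨x, (SetLike.ext_iff.1 hF₀ x).2 hx⟩, rfl⟩, ha, hk, hGK, hK⟩
  refine D.core_iff hn hσr hg hord htop A hinn fun h => ?_
  rw [card_pgo_odd (quadFormOdd_nd h20) hn h20 ⟨m, by simp; omega⟩] at h
  rcases hp.dvd_mul.1 h with h' | h'
  · rw [(Nat.prime_dvd_prime_iff_eq hp Nat.prime_two).1 h']
    exact two_dvd_pomega (quadFormOdd_nd h20) hn h20
  · exact h'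

end Cfsg.Agent.S2731
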