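import Cfsg.Statements.S2733
import Cfsg.Agent.Lib.Orth.Balance.GraphCore
import Cfsg.Agent.Lib.Orth.Field.BalanceMinus
import Cfsg.Agent.Lib.Orth.SemiInvol

set_option autoImplicit false
open Cfsg

namespace Cfsg.Agent.S2733

/-- A criterion for the failure of local balance in almost simple groups whose socle is a minus-type orthogonal group PΩ⁻_{2m+2}(F) (m ≥ 3; the form Σ xᵢ yᵢ + z₁² + a z₁ z₂ + b z₂² with anisotropic binary part). Let F be a finite field of characteristic r and K the (simple) group in question; let A be a group of automorphisms of K containing all inner automorphisms, and x ∈ A an automorphism of prime order p ≠ r that is not inner-diagonal (not induced by a class-preserving similarity, classes read over a quadratic extension). Then the largest normal subgroup of C_A(x) of order prime to p is nontrivial if and only if x is a field automorphism of K (conjugate under Aut(K) to a non-identity standard field automorphism) and p does not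 divide the number of fixed points of x on K. -/
theorem result {F : Type*} [Field F] [Fintype F] {r : ℕ} [Fact r.Prime] [CharP F r] {m : ℕ} (hm : 3 ≤ m) (a b : F) (hab : (∀ z₁ z₂ : F, z₁ ^ 2 + a * z₁ * z₂ + b * z₂ ^ 2 = 0 → z₁ = 0 ∧ z₂ = 0)) (hK : IsSimpleGroup (Cfsg.POmega F (Cfsg.quadFormMinus m F a b))) (A : Subgroup (MulAut (Cfsg.POmega F (Cfsg.quadFormMinus m F a b)))) (hinn : ∀ k : Cfsg.POmega F (Cfsg.quadFormMinus m F a b), MulAut.conj k ∈ A) {p : ℕ} [Fact p.Prime] (hpr : p ≠ r) (x : MulAut (Cfsg.POmega F (Cfsg.quadFormMinus m F a b))) (hxA : x ∈ A) (hord : orderOf x = p) (hnot : ¬ Cfsg.IsInnerDiagonalAutPOmegaMinus m a b x) :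
    Cfsg.pPrimeCore p ↥(A ⊓ Subgroup.centralizer {x}) ≠ ⊥ ↔ (Cfsg.IsFieldAutClassPOmegaMinus m x ∧ Nat.Coprime p (Nat.card ↥(MonoidHom.eqLocus x.toMonoidHom (MonoidHom.id (Cfsg.POmega F (Cfsg.quadFormMinus m F a b)))))) := by
  open CfsgLib.Orth CfsgLib.Orth.FieldCls CfsgLib.Perm.Trans CfsgLib.Perm.Trans.Quad in
  have hp := (Fact.out : p.Prime)
  have hQ : Cfsg.Geo.IsNondegenerateQuadraticForm (Cfsg.quadFormMinus m F a b) := quadFormMinus_nd a b hab
  have hn : 5 ≤ Fintype.card ((Fin m ⊕ Fin m) ⊕ Fin 2) := by simp; omega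
  have htop := Aut.gamma_top_minus hm a b hab
  have hchar : p = 2 → (2 : F) ≠ 0 := fun h h2 => hpr (by
    subst h
    haveI : CharP F 2 := CharTwo.of_one_ne_zero_of_two_eq_zero one_ne_zero h2
    exact CharP.eq F ‹CharP F 2› ‹CharP F r›)
  obtain ⟨g, σ, hg, rfl⟩ : x ∈ gammaSub (Cfsg.quadFormMinus m F a b) := by
    rw [← gammaPOmega_eq, htop]; exact Subgroup.mem_top x
  have hx1 : ind hg ^ p = 1 := by rw [← hord, pow_orderOf_eq_one]
  by_cases hσ : σ = RingEquiv.refl F
  · subst hσ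
    refine iff_of_false (not_not.2 ?_) fun h => ?_
    · have hgs := sim_of_semisim (fun _ => rfl) hg
      obtain ⟨G, hG⟩ : ∃ G : ↥(Cfsg.Geo.quadSimilarityGroup (F := F) (Cfsg.quadFormMinus m F a b)), G = ⟨g, hgs⟩ :=
        ⟨_, rfl⟩
      have hP : ¬ Cfsg.PreservesSingularClassesMinus m a b (G.1 : Matrix _ _ F) := fun h => hnot
        ⟨g, hgs, by rw [hG] at h; exact h, ind_isInduced hg⟩
      have hxG : ind hg = simHom (Cfsg.quadFormMinus m F a b) G := by subst hG; rfl
      have hm2 : 2 ≤ m := by omega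
      have hpar : ∀ j : ℕ, Cfsg.PreservesSingularClassesMinus m a b ((G ^ j).1 : Matrix _ _ F) ↔ Even j := by
        intro j
        induction j with
        | zero =>
          rw [pow_zero]
          exact iff_of_true (minus_scalar hab hm2 1 ⟨1, by rw [one_smul]; rfl⟩) (by simp)
        | succ j ih =>
          rw [pow_succ, minus_mul hab hm2, ih, Nat.even_add_one]
          exact ⟨fun h he => hP (h.1 he), fun h => iff_of_false h hP⟩
      have h2p : p = 2 := by
        by_contra hne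
        have hsc := minus_scalar hab hm2 (G ^ p) ((simHom_ker hQ hn _).1 (by rw [map_pow, ← hxG, hx1]))
        exact Nat.not_even_iff_odd.2 (hp.odd_of_ne_two hne) ((hpar p).1 hsc)
      subst h2p
      have h2 := hchar rfl
      rw [hxG] at hord ⊢
      refine CfsgLib.Orth.Balance.graph_core hQ h2 (by simp; omega) minus_card G hord (fun e => hP ?_) htop A hinn
      exact (preserves_minus_iff h2 hab (simMult_spec hQ (by omega) G)).2 ((simSign_eq_one_iff hQ _ (m + 1) G).1 e)
    · obtain ⟨τ, G, hG, hτ, he⟩ := pair_of_minus hm hab h.1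
      exact hτ (ind_inj hQ hn he).1.symm
  have hσp := field_order hQ hn hg hp hx1 hσ
  have hp2 : p ≠ 2 := by
    rintro rfl
    exact hσ (semi_involution_minus (hchar rfl) hab (by omega) hg (by rw [← sq]; exact hx1))
  obtain ⟨F₀, hF₀⟩ : ∃ F₀, F₀ = CfsgLib.Descent.fixedField (σ : RingAut F) := ⟨_, rfl⟩
  haveI : Fintype F₀ := Fintype.ofFinite _
  have hfix : ∀ c : F₀, σ (F₀.subtype c) = F₀.subtype c := fun c => (SetLike.ext_iff.1 hF₀ (c : F)).1 c.2
  have hsurj : ∀ y, σ y = y → ∃ c, F₀.subtype c = y := fun y hy => ⟨⟨y, (SetLike.ext_iff.1 hF₀ y).2 hy⟩, rfl⟩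
  obtain ⟨a₀, b₀, hab₀⟩ := exists_aniso F₀
  have hab' : ∀ z₁ z₂ : F, σ z₁ = z₁ → σ z₂ = z₂ →
      z₁ ^ 2 + F₀.subtype a₀ * z₁ * z₂ + F₀.subtype b₀ * z₂ ^ 2 = 0 → z₁ = 0 ∧ z₂ = 0 := by
    intro z₁ z₂ h1 h2 hz
    obtain ⟨u, rfl⟩ := hsurj z₁ h1
    obtain ⟨v, rfl⟩ := hsurj z₂ h2
    obtain ⟨e1, e2⟩ := hab₀ u v (F₀.subtype.injective (by rw [map_zero, ← hz]; simp))
    exact ⟨by rw [e1, map_zero], by rw [e2, map_zero]⟩
  obtain ⟨hD, haniF⟩ := desc_minus (by omega) hab hσp hp.pos (hfix a₀) (hfix b₀) hab' hg hx1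
  rw [and_iff_right (fieldClass_minus hm hab haniF hσ (hfix a₀) (hfix b₀) hg hD)]
  obtain ⟨K, α, l, hα, hl, hGK, hK⟩ := hD
  have D : Model (Cfsg.quadFormMinus m F a b) σ g (Equiv.refl _) F₀.subtype (Cfsg.quadFormMinus m F₀ a₀ b₀)
      (Cfsg.quadFormMinus m F (F₀.subtype a₀) (F₀.subtype b₀)) K α l :=
    ⟨hQ, quadFormMinus_nd a₀ b₀ hab₀, quadFormMinus_nd (F₀.subtype a₀) (F₀.subtype b₀) haniF,
      minus_eval F₀.subtype a₀ b₀, hfix, hsurj, hα, hl, hGK, hK⟩
  exact D.core_iff hn hσp hg hord htop A hinn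
    (odd_prime_dvd_pgo (quadFormMinus_nd a₀ b₀ hab₀) hn minus_card hp2)

end Cfsg.Agent.S2733
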