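import Cfsg.Statements.S2734
import Cfsg.Agent.Lib.Lie.Chev.Tw.GraphFix

set_option autoImplicit false
open Cfsg
open CfsgLib.Lie.Chev

namespace Cfsg.Agent.S2734

/-- In the Chevalley group of type D₄ over a finite field F (the matrix group generated by the root elements), a graph automorphism attached to a symmetry π of the Dynkin diagram (sending each fundamental root element x_p(t) to x_{π(p)}(t) and each x_{−p}(t) to x_{−π(p)}(t)) that has order 3 — a standard triality graph automorphism, π being a 3-cycle of the three outer nodes — has fixed-point subgroup isomorphic to the Chevalley group of type G₂ over F. -/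
theorem result {F : Type*} [Field F] [Fintype F] (τ : MulAut ↥(Cfsg.Lie.chevD4.group F)) (hτ : Cfsg.Lie.chevD4.IsGraphAut τ) (hτ3 : orderOf τ = 3) :
    Nonempty (↥(MonoidHom.eqLocus τ.toMonoidHom (MonoidHom.id ↥(Cfsg.Lie.chevD4.group F))) ≃* ↥(Cfsg.Lie.chevG2.group F)) := by
  obtain ⟨π, hsym, hm⟩ := GraphFix.moves_of_isGraphAut (G := TD4.C.G) isLong_D4 hτ
  have h3 : ∀ i, π (π (π i)) = i := by
    intro i
    have e : τ.toMonoidHom.comp (τ.toMonoidHom.comp τ.toMonoidHom) = MonoidHom.id _ := by
      have h := pow_orderOf_eq_one τ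
      rw [hτ3] at h
      exact MonoidHom.ext fun g => DFunLike.congr_fun h g
    exact (e ▸ hm.comp (hm.comp hm)).inj GraphFix.moves_id i
  have hne : ¬ ∀ i, π i = i := by
    intro h
    have e := hm.ext GraphFix.moves_id h
    have : τ = 1 := MulEquiv.ext fun g => DFunLike.congr_fun e g
    rw [this, orderOf_one] at hτ3
    exact absurd hτ3 (by norm_num)
  obtain ⟨ψ⟩ := TD4.fix_equiv_G2 (K := F)
  rw [GraphFix.fix_eq_of_inverse (TD4.twist (RingEquiv.refl F)) (fun _ _ => rfl) hm ?_]
  exact ⟨ψ⟩
  have hl := sym_D4 (permList π) (permList_mem hsym) (fun i => by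
    simp only [show i.val = (Fin.cast (by decide +kernel : (4 : ℕ) = Cfsg.Lie.chevD4.rank) i).val from rfl,
      permList_getD, h3])
  rcases hl with h | h | h
  · exact absurd (fun i => Fin.ext ((permList_getD π i).symm.trans
      (h (Fin.cast (by decide +kernel) i)))) hne
  · exact Or.inl fun i => Fin.ext ((permList_getD π i).symm.trans
      (h (Fin.cast (by decide +kernel) i)))
  · exact Or.inr fun i => Fin.ext ((permList_getD π _).symm.trans
      (h (Fin.cast (by decide +kernel) i)))

end Cfsg.Agent.S2734
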