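import Cfsg.Statements.S2735
import Cfsg.Agent.Lib.Orth.Field.Coset

set_option autoImplicit false
open Cfsg

namespace Cfsg.Agent.S2735

/-- Let T = Ω_{2m+1}(F) (m ≥ 3, |F| odd) and x a field automorphism of T of prime order r. Then an element y of the coset Inndiag(T)·x (y = δ x with δ induced by a similarity of the form) has order r if and only if y is conjugate to x by an element of Inndiag(T). (T has no graph or graph-field automorphisms.) -/
theorem result {F : Type*} [Field F] [Fintype F] (hodd : Odd (Fintype.card F)) {m : ℕ} (hm : 3 ≤ m) (x δ : MulAut (Cfsg.POmega F (Cfsg.quadFormOdd m F))) (hx : Cfsg.IsFieldAutClassPOmega (Cfsg.quadFormOdd m F) x) {r : ℕ} (hr : r.Prime) (hxr : orderOf x = r) (hδ : δ ∈ Cfsg.inndiagPOmegaOdd m F) :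
    orderOf (δ * x) = r ↔ Cfsg.IsConjUnder (Cfsg.inndiagPOmegaOdd m F) x (δ * x) := by
  open CfsgLib.Orth CfsgLib.Orth.FieldCls CfsgLib.Perm.Trans CfsgLib.Perm.Trans.Quad in
  refine ⟨fun h => ?_, fun h => (orderOf_conj h).trans hxr⟩
  have h2 := CfsgLib.Orth.two_ne_zero_of_odd hodd
  have hQ : Cfsg.Geo.IsNondegenerateQuadraticForm (Cfsg.quadFormOdd m F) := quadFormOdd_nd h2
  have hn : 5 ≤ Fintype.card (Unit ⊕ (Fin m ⊕ Fin m)) := by simp; omega
  obtain ⟨σ, G, hG, hσ, rfl⟩ := pair_of_field hQ hn (Aut.gamma_top_odd hodd hm) (fun σ => quadFormOdd_field σ) hx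
  rw [inndiag_odd] at hδ
  obtain ⟨d, rfl⟩ := hδ
  obtain ⟨hd, he⟩ := coset_pair hG d
  rw [he] at h ⊢
  have hσr := field_order hQ hn hG hr (by rw [← hxr, pow_orderOf_eq_one]) hσ
  have h1 := desc_odd h2 (by omega) hσr hr.pos hG (by rw [← hxr, pow_orderOf_eq_one])
  have h3 := desc_odd h2 (by omega) hσr hr.pos hd (by rw [← h, pow_orderOf_eq_one])
  obtain ⟨u, _, _, _, _, _, e, -⟩ := exists_conjugator hQ hQ (fun v => quadFormOdd_field σ v)
    (v := Pi.single (Sum.inl ()) 1) (fun i => by rw [Pi.single_apply]; split <;> simp)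
    (by simp [Cfsg.quadFormOdd, Pi.single_apply]) h1 h3 hG hd
  exact ⟨_, by rw [inndiag_odd]; exact ⟨u, rfl⟩, e.symm⟩

end Cfsg.Agent.S2735
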