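import Cfsg.Statements.S2737
import Cfsg.Agent.Lib.Orth.Field.Coset

set_option autoImplicit false
open Cfsg

namespace Cfsg.Agent.S2737

/-- Let T = PΩ⁻_{2m+2}(F) (m ≥ 3; form with anisotropic binary part) and x a field automorphism of T of prime order r. Then an element y of the coset Inndiag(T)·x has order r if and only if y is conjugate to x by an element of Inndiag(T). (T has no graph-field automorphisms.) -/
theorem result {F : Type*} [Field F] [Fintype F] {m : ℕ} (hm : 3 ≤ m) (a b : F) (hab : (∀ z₁ z₂ : F, z₁ ^ 2 + a * z₁ * z₂ + b * z₂ ^ 2 = 0 → z₁ = 0 ∧ z₂ = 0)) (x δ : MulAut (Cfsg.POmega F (Cfsg.quadFormMinus m F a b))) (hx : Cfsg.IsFieldAutClassPOmegaMinus m x) {r : ℕ} (hr : r.Prime) (hxr : orderOf x = r) (hδ : δ ∈ Cfsg.inndiagPOmegaMinus m F a b) :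
    orderOf (δ * x) = r ↔ Cfsg.IsConjUnder (Cfsg.inndiagPOmegaMinus m F a b) x (δ * x) := by
  open CfsgLib.Orth CfsgLib.Orth.FieldCls CfsgLib.Perm.Trans CfsgLib.Perm.Trans.Quad in
  refine ⟨fun h => ?_, fun h => (orderOf_conj h).trans hxr⟩
  have hQ : Cfsg.Geo.IsNondegenerateQuadraticForm (Cfsg.quadFormMinus m F a b) := quadFormMinus_nd a b hab
  have hn : 5 ≤ Fintype.card ((Fin m ⊕ Fin m) ⊕ Fin 2) := by simp; omega
  obtain ⟨σ, G, hG, hσ, rfl⟩ := pair_of_minus hm hab hx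
  obtain ⟨d, -, rfl⟩ := (inndiag_minus hab (by omega)).1 hδ
  obtain ⟨hd, he⟩ := coset_pair hG d
  rw [he] at h ⊢
  have hσr := field_order hQ hn hG hr (by rw [← hxr, pow_orderOf_eq_one]) hσ
  obtain ⟨a₀, b₀, ha, hb, hab₀⟩ := exists_fixed_aniso σ
  obtain ⟨h1, hK⟩ := desc_minus (by omega) hab hσr hr.pos ha hb hab₀ hG (by rw [← hxr, pow_orderOf_eq_one])
  obtain ⟨h3, -⟩ := desc_minus (by omega) hab hσr hr.pos ha hb hab₀ hd (by rw [← h, pow_orderOf_eq_one])
  refine conj_of_char hQ (quadFormMinus_nd a₀ b₀ hK) (fun g hg => (simHom_mem_minus hab (by omega) g).2 hg)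
    (minus_mul hab (by omega)) (fun u w hu hw huw => minus_refl hab (by omega) hu hw huw) ?_
    (v := Pi.single (Sum.inr 0) 1) (fun i => by rw [Pi.single_apply]; split <;> simp)
    (by simp [Cfsg.quadFormMinus, Pi.single_apply]) h1 h3 hG hd
  intro v
  have h4 := quadFormMinus_field (m := m) a₀ b₀ σ v
  rwa [ha, hb] at h4

end Cfsg.Agent.S2737
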