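import Cfsg.Statements.S2738
import Mathlib

set_option autoImplicit false
open Cfsg

namespace Cfsg.Agent.S2738

/-- The special linear group SL(3, 4) has centre of order 3 and does not split over it: no subgroup is a complement to the centre (so SL(3, 4) is a non-split central extension of PSL(3, 4) by a group of order 3). -/
theorem result (F : Type*) [Field F] [Fintype F] (hF : Fintype.card F = 4) : Nat.card ↥(Subgroup.center (Matrix.SpecialLinearGroup (Fin 3) F)) = 3 ∧ ¬ ∃ K : Subgroup (Matrix.SpecialLinearGroup (Fin 3) F), Subgroup.IsComplement' (Subgroup.center (Matrix.SpecialLinearGroup (Fin 3) F)) K := by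
  classical
  haveI : Fact (Nat.Prime 2) := ⟨Nat.prime_two⟩
  obtain ⟨u, hu⟩ := IsCyclic.exists_ofOrder_eq_natCard (α := Fˣ)
  rw [Nat.card_units, Nat.card_eq_fintype_card, hF] at hu
  have hu3 : (u : F) ^ 3 = 1 := by
    rw [← Units.val_pow_eq_pow_val, ← show orderOf u = 3 from hu, pow_orderOf_eq_one, Units.val_one]
  have hu1 : (u : F) ≠ 1 := fun h => by
    have h1 : u = 1 := Units.ext h
    rw [h1, orderOf_one] at hu
    omega
  have hcard : Nat.card ↥(Subgroup.center (Matrix.SpecialLinearGroup (Fin 3) F)) = 3 := by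
    rw [Nat.card_congr (Matrix.SpecialLinearGroup.center_equiv_rootsOfUnity' (0 : Fin 3)).toEquiv,
      Fintype.card_fin]
    haveI : HasEnoughRootsOfUnity F 3 := ⟨⟨(u : F), IsPrimitiveRoot.iff_orderOf.2
      (orderOf_units.trans hu)⟩, inferInstance⟩
    exact HasEnoughRootsOfUnity.natCard_rootsOfUnity F 3
  refine ⟨hcard, ?_⟩
  rintro ⟨K, hK⟩
  let d : Matrix.SpecialLinearGroup (Fin 3) F := ⟨Matrix.diagonal ![1, (u : F), (u : F) ^ 2], by
    simp [Fin.prod_univ_three, ← pow_succ', hu3]⟩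
  let P : Matrix.SpecialLinearGroup (Fin 3) F := ⟨!![0, 0, 1; 1, 0, 0; 0, 1, 0], by
    simp [Matrix.det_fin_three]⟩
  let z := d * P * d⁻¹ * P⁻¹
  have hz : (z : Matrix (Fin 3) (Fin 3) F) = (u : F) • 1 := by
    have h1 : (d * P : Matrix.SpecialLinearGroup (Fin 3) F).1 = (u : F) • (P * d).1 := by
      change d.1 * P.1 = (u : F) • (P.1 * d.1)
      simp only [d, P]
      ext i j
      fin_cases i <;> fin_cases j <;>
        simp [Matrix.mul_apply, Fin.sum_univ_three, Matrix.diagonal, Matrix.vecHead,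
          Matrix.vecTail, ← pow_succ', hu3, pow_two] <;>
        linear_combination -hu3
    have h2 : z = (d * P) * (P * d)⁻¹ := by simp only [z, mul_inv_rev, mul_assoc]
    have h3 : (z : Matrix (Fin 3) (Fin 3) F) = (d * P).1 * ((P * d)⁻¹).1 := by rw [h2]; rfl
    have h4 : (P * d).1 * ((P * d)⁻¹).1 = (1 : Matrix (Fin 3) (Fin 3) F) := by
      rw [show (P * d).1 * ((P * d)⁻¹).1 = ((P * d) * (P * d)⁻¹).1 from rfl, mul_inv_cancel]
      rfl
    rw [h3, h1, Matrix.smul_mul, h4]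
  have hzc : z ∈ Subgroup.center (Matrix.SpecialLinearGroup (Fin 3) F) := by
    rw [Subgroup.mem_center_iff]
    intro g
    refine Subtype.ext ?_
    change g.1 * z.1 = z.1 * g.1
    rw [hz]
    simp
  have hzK : z ∈ K := by
    obtain ⟨⟨⟨a, ha0⟩, ⟨k, hk0⟩⟩, hd⟩ := (hK.existsUnique d).exists
    obtain ⟨⟨⟨b, hb0⟩, ⟨l, hl0⟩⟩, hP⟩ := (hK.existsUnique P).exists
    change a * k = d at hd
    change b * l = P at hP
    have ha := fun y => (Subgroup.mem_center_iff.1 ha0 y).symm
    have hb := fun y => (Subgroup.mem_center_iff.1 hb0 y).symm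
    have : z = k * l * k⁻¹ * l⁻¹ := by
      simp only [z]
      rw [← hd, ← hP]
      calc a * k * (b * l) * (a * k)⁻¹ * (b * l)⁻¹
          = a * (k * b) * l * k⁻¹ * a⁻¹ * l⁻¹ * b⁻¹ := by group
        _ = a * (b * k) * l * k⁻¹ * a⁻¹ * l⁻¹ * b⁻¹ := by rw [hb]
        _ = (a * (b * (k * l * k⁻¹))) * a⁻¹ * l⁻¹ * b⁻¹ := by group
        _ = ((b * (k * l * k⁻¹)) * a) * a⁻¹ * l⁻¹ * b⁻¹ := by rw [ha]
        _ = (b * (k * l * k⁻¹ * l⁻¹)) * b⁻¹ := by group
        _ = ((k * l * k⁻¹ * l⁻¹) * b) * b⁻¹ := by rw [hb]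
        _ = _ := by group
    rw [this]
    exact K.mul_mem (K.mul_mem (K.mul_mem hk0 hl0) (K.inv_mem hk0)) (K.inv_mem hl0)
  have hz1 := Subgroup.disjoint_def.1 hK.disjoint hzc hzK
  have := congrArg (fun g : Matrix.SpecialLinearGroup (Fin 3) F => g.1 0 0) hz1
  simp only [hz] at this
  simp at this
  exact hu1 (by rw [this, Units.val_one])

end Cfsg.Agent.S2738
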