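import Cfsg.Statements.S2752
import Cfsg.Agent.Lib.FourFree.K.Bound

set_option autoImplicit false
universe u
open Cfsg CfsgLib.FourFree
open CfsgLib.CFun (delt fixOf mem_fixOf)
open scoped commutatorElement

namespace Cfsg.Agent.S2752

/-- Let M be an elementary abelian 2-subgroup of a finite group L and G a subgroup of L acting faithfully on M by conjugation (G normalizes M and meets C(M) trivially). Assume O₂(G) = 1, the symmetric group of degree 3 is not involved in G, and every non-abelian composition factor of G is a Suzuki group Sz(2^(2n+1)) or a group PSL₂(3^(2n+1)). Then every elementary abelian 2-subgroup A of G satisfies |M / C_M(A)| ≥ |A|² and |[M, A]| ≥ |A|². -/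
theorem result {L : Type u} [Group L] [Finite L] (M G : Subgroup L) (hM : Cfsg.IsElementaryAbelian 2 M) (hGM : G ≤ Subgroup.normalizer (M : Set L)) (hf : G ⊓ Subgroup.centralizer (M : Set L) = ⊥) (ha : Cfsg.pCore 2 ↥G = ⊥) (hb : ¬ Cfsg.Involves (Equiv.Perm (Fin 3)) ↥G) (hc : Cfsg.IsCompositionKGroupWith Cfsg.IsSuzukiOrPSL2OddPowerThree ↥G) (A : Subgroup L) (hA : A ≤ G) (hAe : Cfsg.IsElementaryAbelian 2 A) : Nat.card A ^ 2 * Nat.card ↥(M ⊓ Subgroup.centralizer (A : Set L)) ≤ Nat.card M ∧ Nat.card A ^ 2 ≤ Nat.card ↥⁅M, A⁆ := by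
  letI : CommGroup M := { mul_comm := hM.1.is_comm.comm }
  let ρ : ↥G →* MulAut M := M.normalizerMonoidHom.comp (Subgroup.inclusion hGM)
  have hρv : ∀ (g : G) (x : M), ((ρ g x : M) : L) = g * x * (g : L)⁻¹ := fun g x => rfl
  have hρ : Function.Injective ρ := by
    rw [injective_iff_map_eq_one]
    intro g hg
    refine Subtype.ext ((Subgroup.eq_bot_iff_forall _).1 hf _ ⟨g.2, ?_⟩)
    refine Subgroup.mem_centralizer_iff.2 fun x hx => ?_
    have h := hρv g ⟨x, hx⟩
    rw [hg, MulAut.one_apply] at h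
    exact eq_mul_inv_iff_mul_eq.1 h
  have h2 : ∀ x : M, x * x = 1 := fun x => Subtype.ext (by
    rw [Subgroup.coe_mul, ← pow_two]; exact hM.2 x x.2)
  have hA2 : ∀ a ∈ A.subgroupOf G, a * a = 1 := fun a ha' => Subtype.ext (by
    rw [Subgroup.coe_mul, ← pow_two]; exact hAe.2 a ha')
  obtain ⟨h1, h3⟩ := quadratic_bound ρ hρ h2 ha (hg_of_not_involves_three hb)
    (ks_of_composition hc) _ (A.subgroupOf G) rfl hA2
  have hcard : Nat.card (A.subgroupOf G) = Nat.card A :=
    Nat.card_congr (Subgroup.subgroupOfEquivOfLe hA).toEquiv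
  rw [hcard] at h1 h3
  have hfix : Nat.card (fixOf ρ (A.subgroupOf G)) =
      Nat.card ↥(M ⊓ Subgroup.centralizer (A : Set L)) := by
    rw [← Nat.card_congr (Subgroup.subgroupOfEquivOfLe
      (inf_le_left : M ⊓ Subgroup.centralizer (A : Set L) ≤ M)).toEquiv]
    congr 2
    suffices fixOf ρ (A.subgroupOf G) = (M ⊓ Subgroup.centralizer (A : Set L)).subgroupOf M by
      rw [this]
    ext x
    rw [mem_fixOf]
    constructor
    · intro h
      refine ⟨x.2, Subgroup.mem_centralizer_iff.2 fun a ha' => ?_⟩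
      have := congrArg Subtype.val (h ⟨a, hA ha'⟩ ha')
      rw [hρv] at this
      exact mul_inv_eq_iff_eq_mul.1 this
    · rintro ⟨-, h⟩ a ha'
      refine Subtype.ext ?_
      rw [hρv]
      exact mul_inv_eq_iff_eq_mul.2 (Subgroup.mem_centralizer_iff.1 h (a : L) ha')
  rw [hfix] at h1
  refine ⟨h1, h3.trans ?_⟩
  refine le_of_eq_of_le (Subgroup.card_map_of_injective M.subtype_injective).symm ?_
  refine Subgroup.card_le_of_le ?_
  unfold comIn
  rw [MonoidHom.map_closure, Subgroup.closure_le]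
  rintro _ ⟨_, ⟨g, hg, x, -, rfl⟩, rfl⟩
  rw [Subgroup.commutator_comm]
  have e : M.subtype (delt ρ g x) = ⁅(g : L), (x : L)⁆ := by
    show ((ρ g x / x : M) : L) = _
    rw [Subgroup.coe_div, hρv, div_eq_mul_inv]
    rfl
  rw [SetLike.mem_coe, e]
  exact Subgroup.commutator_mem_commutator hg x.2

end Cfsg.Agent.S2752
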