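import Cfsg.Statements.S3861
import Cfsg.Agent.Lib.Invol.InvertedOdd
import Cfsg.Agent.Lib.Coprime.Core
import Cfsg.Agent.Lib.Coprime.SchurZassenhaus

set_option autoImplicit false
open Cfsg

namespace Cfsg.Agent.S3861

open Subgroup

variable {G : Type*} [Group G] [Finite G]

private theorem not_real_of_normal (P : Sylow 2 G) (hP : (P : Subgroup G).Normal) (x : G)
    (hx1 : x ≠ 1) (hx : Odd (orderOf x)) : ¬ IsConj x x⁻¹ := by
  haveI : Fact (Nat.Prime 2) := ⟨Nat.prime_two⟩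
  intro hc
  obtain ⟨g, hg⟩ := isConj_iff.1 hc
  -- replace `g` by its 2-part, an element of `P`
  obtain ⟨e, m, hm, hgo⟩ := Nat.exists_eq_pow_mul_and_not_dvd (orderOf_pos g).ne' 2 (by norm_num)
  have hodd : Odd m := Nat.odd_iff.2 (by omega)
  set h := g ^ m with hh
  have hhP : h ∈ (P : Subgroup G) := by
    have hpg : IsPGroup 2 (zpowers h) := by
      obtain ⟨j, -, hj⟩ := (Nat.dvd_prime_pow Nat.prime_two).1 (orderOf_dvd_of_pow_eq_one
        (show h ^ 2 ^ e = 1 by rw [hh, ← pow_mul, mul_comm, ← hgo, pow_orderOf_eq_one]))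
      exact IsPGroup.of_card (n := j) (by rw [Nat.card_zpowers, hj])
    obtain ⟨T, hT⟩ := hpg.exists_le_sylow
    haveI := hP
    haveI : Unique (Sylow 2 G) := Sylow.unique_of_normal P hP
    rw [← Subsingleton.elim T P]
    exact hT (mem_zpowers h)
  have hinv : h * x * h⁻¹ = x⁻¹ := by
    obtain ⟨j, rfl⟩ := hodd
    have h2 : ∀ i : ℕ, g ^ (2 * i) * x * (g ^ (2 * i))⁻¹ = x := by
      intro i
      induction i with
      | zero => simp
      | succ i ih =>
        calc g ^ (2 * (i + 1)) * x * (g ^ (2 * (i + 1)))⁻¹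
            = g * (g * (g ^ (2 * i) * x * (g ^ (2 * i))⁻¹) * g⁻¹) * g⁻¹ := by
              rw [show 2 * (i + 1) = 2 * i + 1 + 1 by ring, pow_succ', pow_succ']; group
          _ = g * x⁻¹ * g⁻¹ := by rw [ih, hg]
          _ = (g * x * g⁻¹)⁻¹ := by group
          _ = x := by rw [hg, inv_inv]
    calc h * x * h⁻¹ = g * (g ^ (2 * j) * x * (g ^ (2 * j))⁻¹) * g⁻¹ := by
          rw [hh, pow_succ']; group
      _ = x⁻¹ := by rw [h2, hg]
  have h4 : x * x ∈ (P : Subgroup G) := by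
    have h3 : x * (h * x⁻¹ * h⁻¹) = x * x := by
      rw [show h * x⁻¹ * h⁻¹ = (h * x * h⁻¹)⁻¹ by group, hinv, inv_inv]
    rw [← h3, show x * (h * x⁻¹ * h⁻¹) = (x * h * x⁻¹) * h⁻¹ by group]
    exact mul_mem (hP.conj_mem h hhP x) (inv_mem hhP)
  obtain ⟨k, hk⟩ := IsPGroup.iff_orderOf.1 P.2 ⟨_, h4⟩
  rw [Subgroup.orderOf_mk] at hk
  have h5 : orderOf (x * x) = orderOf x := by
    rw [← pow_two]; exact Nat.Coprime.orderOf_pow (Nat.coprime_two_right.2 hx)
  rw [h5] at hk
  rcases k with _ | k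
  · exact hx1 (orderOf_eq_one_iff.1 (by rw [hk, pow_zero]))
  · rw [hk, pow_succ'] at hx
    exact absurd hx (by simp)

private theorem exists_real_of_not_normal (P : Sylow 2 G) (hP : ¬ (P : Subgroup G).Normal) :
    ∃ x : G, x ≠ 1 ∧ Odd (orderOf x) ∧ IsConj x x⁻¹ := by
  haveI : Fact (Nat.Prime 2) := ⟨Nat.prime_two⟩
  set N := Cfsg.pCore 2 G with hN
  haveI : N.Normal := Subgroup.normal_of_characteristic (h := CfsgLib.Coprime.pCore_characteristic 2) N
  have hNP : IsPGroup 2 N := CfsgLib.Coprime.pCore_isPGroup 2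
  set π := QuotientGroup.mk' N
  -- the quotient has an involution
  have hev : 2 ∣ Nat.card (G ⧸ N) := by
    by_contra hnd
    refine hP ?_
    obtain ⟨S, hS⟩ := hNP.exists_le_sylow
    have hle : (P : Subgroup G) ≤ N := by
      intro z hz
      obtain ⟨k, hk⟩ := IsPGroup.iff_orderOf.1 P.2 ⟨z, hz⟩
      rw [Subgroup.orderOf_mk] at hk
      have h1 : orderOf (π z) ∣ 2 ^ k := hk ▸ orderOf_map_dvd π z
      have h2 : orderOf (π z) ∣ Nat.card (G ⧸ N) := orderOf_dvd_natCard _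
      have h3 := Nat.eq_one_of_dvd_coprimes
        ((Nat.prime_two.coprime_iff_not_dvd.2 hnd).pow_left k) h1 h2
      exact (QuotientGroup.eq_one_iff z).1 (orderOf_eq_one_iff.1 h3)
    have he : (P : Subgroup G) = N := le_antisymm hle (P.3 hNP hle).le
    rw [he]; infer_instance
  obtain ⟨a, ha⟩ := exists_prime_orderOf_dvd_card' 2 hev
  have hcore : Cfsg.pCore 2 (G ⧸ N) = ⊥ := CfsgLib.Coprime.pCore_quotient_eq_bot 2
  obtain ⟨xb, hxb1, hxbo, hxbi⟩ := CfsgLib.Invol.exists_odd_inverted_of_notMem_pCore ha (by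
    rw [hcore, Subgroup.mem_bot]
    intro e
    rw [e, orderOf_one] at ha
    omega)
  obtain ⟨g, rfl⟩ := QuotientGroup.mk'_surjective N a
  obtain ⟨x₀, rfl⟩ := QuotientGroup.mk'_surjective N xb
  -- an element of odd order over `xb`
  obtain ⟨e, m, hm, hxo⟩ := Nat.exists_eq_pow_mul_and_not_dvd (orderOf_pos x₀).ne' 2 (by norm_num)
  obtain ⟨j, hj⟩ := exists_pow_eq_self_of_coprime
    (show (2 ^ e).Coprime (orderOf (π x₀)) from (Nat.coprime_two_left.2 hxbo).pow_left e)
  set x := x₀ ^ (2 ^ e * j) with hx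
  have hπx : π x = π x₀ := by rw [hx, map_pow, pow_mul]; exact hj
  have hxodd : Odd (orderOf x) := by
    have hd : orderOf x ∣ m := orderOf_dvd_of_pow_eq_one (by
      rw [hx, ← pow_mul, mul_right_comm, pow_mul, ← hxo, pow_orderOf_eq_one, one_pow])
    exact Odd.of_dvd_nat (Nat.odd_iff.2 (by omega)) hd
  have hx1 : x ≠ 1 := fun e' => hxb1 (by rw [← hπx, e', map_one])
  set x' := g * x * g⁻¹ with hx'
  have hπx' : π x' = π x⁻¹ := by rw [hx', map_mul, map_mul, map_inv, map_inv, hπx, hxbi]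
  have hmem : x * x' ∈ N := by
    rw [← QuotientGroup.eq_one_iff]
    show π (x * x') = 1
    rw [map_mul, hπx', map_inv, mul_inv_cancel]
  have hcop : (Nat.card N).Coprime (Nat.card (zpowers x)) := by
    obtain ⟨k, hk⟩ := IsPGroup.iff_card.1 hNP
    rw [hk, Nat.card_zpowers]
    exact (Nat.coprime_two_left.2 hxodd).pow_left k
  have hB : zpowers x' ≤ zpowers x ⊔ N := zpowers_le.2 (by
    have h1 := mul_mem (mem_sup_left (T := N) (inv_mem (mem_zpowers x)))
      (mem_sup_right (S := zpowers x) hmem)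
    rwa [inv_mul_cancel_left] at h1)
  obtain ⟨n, hn, hconj⟩ := CfsgLib.Coprime.sz_conj_in (A := zpowers x) (B := zpowers x') (N := N)
    (by rw [Subgroup.normalizer_eq_top]; exact le_top) hcop hB
    (by rw [Nat.card_zpowers, Nat.card_zpowers, hx', ← MulAut.conj_apply, MulEquiv.orderOf_eq])
    (Or.inl (Group.isSolvable_of_comm fun a b => mul_comm' a b))
  have hy : n * x' * n⁻¹ ∈ zpowers x := hconj.le ⟨x', mem_zpowers x', rfl⟩
  have hkey : x * (n * x' * n⁻¹) = 1 := by
    have h1 : x * (n * x' * n⁻¹) ∈ N := by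
      rw [← QuotientGroup.eq_one_iff]
      show π (x * (n * x' * n⁻¹)) = 1
      rw [map_mul, map_mul, map_mul, map_inv, (QuotientGroup.eq_one_iff n).2 hn |> fun h =>
        (show π n = 1 from h), inv_one, one_mul, mul_one, hπx', map_inv, mul_inv_cancel]
    have h2 : x * (n * x' * n⁻¹) ∈ zpowers x := mul_mem (mem_zpowers x) hy
    exact Subgroup.disjoint_def.1
      (disjoint_iff.2 (Subgroup.inf_eq_bot_of_coprime hcop)) h1 h2
  refine ⟨x, hx1, hxodd, isConj_iff.2 ⟨n * g, ?_⟩⟩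
  rw [show n * g * x * (n * g)⁻¹ = n * x' * n⁻¹ by rw [hx']; group]
  exact eq_inv_of_mul_eq_one_right hkey

/-- A finite group G has no non-identity element of odd order that is conjugate to its inverse if and only if the Sylow 2-subgroups of G are normal. -/
theorem result {G : Type*} [Group G] [Finite G] (P : Sylow 2 G) : (∀ x : G, x ≠ 1 → Odd (orderOf x) → ¬ IsConj x x⁻¹) ↔ (P : Subgroup G).Normal := by
  refine ⟨fun h => ?_, fun h x hx1 hx => not_real_of_normal P h x hx1 hx⟩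
  by_contra hP
  obtain ⟨x, hx1, hx, hc⟩ := exists_real_of_not_normal P hP
  exact h x hx1 hx hc

end Cfsg.Agent.S3861
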