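import Cfsg.Statements.S2756
-- import your own Cfsg.Agent.* helpers here
import Cfsg.Agent.Lib.PGroup.ZJFailure
import Cfsg.Agent.S3861

set_option autoImplicit false
open Cfsg

namespace Cfsg.Agent.S2756


open CfsgLib.PGroup.ZJFailure
open CfsgLib.Fusion (conjBy conjBy_le_iff conjBy_eq_iff conjBy_eq_of_le conj_mem_conjBy mem_conjBy)

universe u

private theorem exists_inverting {G : Type u} [Group G] [Finite G] {q : ℕ} [Fact q.Prime]
    (H C : Subgroup G) (hC : Nat.card C = q)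
    (hi : (H ⊓ Subgroup.centralizer (C : Set G)).relIndex (H ⊓ Subgroup.normalizer (C : Set G)) = q - 1) :
    ∃ h ∈ H, ∀ c ∈ C, h * c * h⁻¹ = c⁻¹ := by
  haveI : IsCyclic C := isCyclic_of_prime_card hC
  letI : CommGroup C := IsCyclic.commGroup
  set Y := H ⊓ Subgroup.normalizer (C : Set G) with hY
  let φ : Y →* MulAut C :=
    C.normalizerMonoidHom.comp (Subgroup.inclusion (inf_le_right : Y ≤ _))
  have hker : φ.ker = (H ⊓ Subgroup.centralizer (C : Set G)).subgroupOf Y := by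
    rw [← MonoidHom.comap_ker, Subgroup.normalizerMonoidHom_ker]
    ext x
    simp only [Subgroup.mem_comap, Subgroup.mem_subgroupOf, Subgroup.coe_inclusion,
      Subgroup.mem_inf]
    exact ⟨fun hx => ⟨x.2.1, hx⟩, fun hx => hx.2⟩
  have htop : φ.range = ⊤ := by
    refine Subgroup.eq_top_of_card_eq _ ?_
    rw [← Subgroup.index_ker, hker, ← Subgroup.relIndex, hi, IsCyclic.card_mulAut, hC,
      Nat.totient_prime Fact.out]
  obtain ⟨y, hy⟩ : MulEquiv.inv C ∈ φ.range := htop ▸ Subgroup.mem_top _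
  refine ⟨y, y.2.1, fun c hc => ?_⟩
  have h2 := DFunLike.congr_fun hy (⟨c, hc⟩ : C)
  exact congrArg Subtype.val h2

private theorem not_real_of_normal {G : Type u} [Group G] [Finite G]
    (hG : ∀ P : Sylow 2 G, (P : Subgroup G).Normal) {q : ℕ} [Fact q.Prime] (hq : q ≠ 2)
    (T : Subgroup G) (hT : IsPGroup q T) {x : G} (hx : x ∈ T) (hx1 : x ≠ 1) (g : G) :
    g * x * g⁻¹ ≠ x⁻¹ := by
  intro hg
  obtain ⟨P⟩ : Nonempty (Sylow 2 G) := inferInstance
  refine (S3861.result P).2 (hG P) x hx1 ?_ (isConj_iff.2 ⟨g, hg⟩)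
  obtain ⟨k, hk⟩ := IsPGroup.iff_orderOf.1 hT ⟨x, hx⟩
  rw [Subgroup.orderOf_mk] at hk
  rw [hk]
  exact ((Fact.out : q.Prime).odd_of_ne_two hq).pow

private theorem normal_of_no_inverting {G : Type u} [Group G] [Finite G]
    (h : ∀ (q : ℕ) [Fact q.Prime], q ≠ 2 → ∀ T : Sylow q G, ∀ x ∈ (T : Subgroup G), x ≠ 1 →
      ∀ g ∈ Subgroup.normalizer (Cfsg.centerThompsonAOf (T : Subgroup G) : Set G),
        g * x * g⁻¹ ≠ x⁻¹) (P : Sylow 2 G) : (P : Subgroup G).Normal := by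
  refine (S3861.result P).1 fun x hx1 hxo hc => ?_
  obtain ⟨g, hg⟩ := isConj_iff.1 hc
  obtain ⟨q, hq, hqd⟩ := Nat.exists_prime_and_dvd (mt orderOf_eq_one_iff.1 hx1)
  haveI := Fact.mk hq
  have hq2 : q ≠ 2 := by
    rintro rfl
    exact (Nat.not_even_iff_odd.2 hxo) (even_iff_two_dvd.2 hqd)
  set u := x ^ (orderOf x / q) with hu
  have huo : orderOf u = q := orderOf_pow_orderOf_div (orderOf_pos x).ne' hqd
  have hu1 : u ≠ 1 := fun h1 => hq.ne_one (by rw [← huo, h1, orderOf_one])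
  have hug : g * u * g⁻¹ = u⁻¹ := by rw [hu, ← conj_pow, hg, inv_pow]
  have hup : IsPGroup q (Subgroup.zpowers u) :=
    IsPGroup.of_card (n := 1) (by rw [Nat.card_zpowers, huo, pow_one])
  obtain ⟨T, huT⟩ := hup.exists_le_sylow
  set Z := Cfsg.centerThompsonAOf (T : Subgroup G) with hZ
  by_cases hc : Cfsg.ControlsStrongFusion q Z
  · obtain ⟨T', hZT', hctrl⟩ := hc
    have hnorm : ∀ d : G, conjBy d Z ≤ (T' : Subgroup G) → d ∈ Subgroup.normalizer (Z : Set G) := by
      intro d hd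
      obtain ⟨k, hk, hka⟩ := (hctrl (Z : Set G) hZT').2 d (by
        rintro _ ⟨z, hz, rfl⟩; exact hd (conj_mem_conjBy hz))
      refine conjBy_eq_iff.1 (conjBy_eq_of_le (conjBy_le_iff.2 fun z hz => ?_))
      rw [hka z hz]
      exact (Subgroup.mem_normalizer_iff.1 hk z).1 hz
    obtain ⟨d, hd⟩ := MulAction.exists_smul_eq G T T'
    have hdT : conjBy d (T : Subgroup G) = T' := by rw [← hd]; rfl
    have hdZ := hnorm d (hdT ▸ Subgroup.map_mono (zj_le T))
    set v := d * u * d⁻¹ with hv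
    have hvT : v ∈ (T' : Subgroup G) :=
      hdT ▸ conj_mem_conjBy (huT (Subgroup.mem_zpowers u))
    obtain ⟨k, hk, hka⟩ := (hctrl {v} (Set.singleton_subset_iff.2 hvT)).2 (d * g * d⁻¹) (by
      rintro _ ⟨a, rfl, rfl⟩
      show d * g * d⁻¹ * v * (d * g * d⁻¹)⁻¹ ∈ (T' : Subgroup G)
      rw [show d * g * d⁻¹ * v * (d * g * d⁻¹)⁻¹ = d * (g * u * g⁻¹) * d⁻¹ by rw [hv]; group, hug]
      rw [show d * u⁻¹ * d⁻¹ = v⁻¹ by rw [hv]; group]
      exact inv_mem hvT)
    have hk' := hka v rfl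
    rw [show d * g * d⁻¹ * v * (d * g * d⁻¹)⁻¹ = d * (g * u * g⁻¹) * d⁻¹ by rw [hv]; group, hug] at hk'
    refine h q hq2 T u (huT (Subgroup.mem_zpowers u)) hu1 (d⁻¹ * k * d)
      (mul_mem (mul_mem (inv_mem hdZ) hk) hdZ) ?_
    rw [show d⁻¹ * k * d * u * (d⁻¹ * k * d)⁻¹ = d⁻¹ * (k * v * k⁻¹) * d by rw [hv]; group, ← hk']
    group
  · obtain ⟨-, C, hCZ, hCc, hCi⟩ := concl_of_fail hq2 (Nat.card G) G T rfl hc
    obtain ⟨k, hk, hkc⟩ := exists_inverting _ C hCc hCi
    have hne : C ≠ ⊥ := fun h1 => hq.ne_one (by rw [← hCc, h1, Subgroup.card_bot])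
    obtain ⟨c, hc1⟩ := (Subgroup.ne_bot_iff_exists_ne_one.1 hne)
    exact h q hq2 T c (zj_le T (hCZ c.2)) (fun h1 => hc1 (Subtype.ext h1)) k hk (hkc c c.2)

/-- For a finite group G the following are equivalent: (a) G has a normal Sylow 2-subgroup; (b) for every odd prime q dividing the order of G and every Sylow q-subgroup T, the normalizer of Z(J(T)) has a normal Sylow 2-subgroup; (c) for every odd prime q and every Sylow q-subgroup T, no nonidentity element of T is inverted by an element of the normalizer of Z(J(T)). Here J(T) is the Thompson subgroup generated by the abelian subgroups of T of largest order. Stated as the two equivalences (a) ⇔ (b) and (a) ⇔ (c). -/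
theorem result {G : Type*} [Group G] [Finite G] : ((∀ P : Sylow 2 G, (P : Subgroup G).Normal) ↔ ∀ (q : ℕ) [Fact q.Prime], q ≠ 2 → q ∣ Nat.card G → ∀ T : Sylow q G, ∀ P : Sylow 2 ↥(Subgroup.normalizer (Cfsg.centerThompsonAOf (T : Subgroup G) : Set G)), (P : Subgroup ↥(Subgroup.normalizer (Cfsg.centerThompsonAOf (T : Subgroup G) : Set G))).Normal) ∧ ((∀ P : Sylow 2 G, (P : Subgroup G).Normal) ↔ ∀ (q : ℕ) [Fact q.Prime], q ≠ 2 → ∀ T : Sylow q G, ∀ x ∈ (T : Subgroup G), x ≠ 1 → ∀ g ∈ Subgroup.normalizer (Cfsg.centerThompsonAOf (T : Subgroup G) : Set G), g * x * g⁻¹ ≠ x⁻¹) := by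
  refine ⟨⟨fun hG q _ hq _ T P => ?_, fun hN P => normal_of_no_inverting (fun q _ hq T x hx hx1 g hg => ?_) P⟩,
    fun hG q _ hq T x hx hx1 g _ => not_real_of_normal hG hq _ T.2 hx hx1 g, normal_of_no_inverting⟩
  · refine (S3861.result P).1 fun x hx1 hxo hc => ?_
    obtain ⟨Q⟩ : Nonempty (Sylow 2 G) := inferInstance
    refine (S3861.result Q).2 (hG Q) (x : G) (fun h => hx1 (Subtype.ext h))
      (by rwa [Subgroup.orderOf_coe]) ?_
    exact (Subgroup.subtype _).map_isConj hc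
  · have hxN : x ∈ Subgroup.normalizer (Cfsg.centerThompsonAOf (T : Subgroup G) : Set G) :=
      sylow_le_nz T hx
    have hqd : q ∣ Nat.card G := by
      obtain ⟨k, hk⟩ := IsPGroup.iff_orderOf.1 T.2 ⟨x, hx⟩
      rw [Subgroup.orderOf_mk] at hk
      rcases k with _ | k
      · exact absurd (orderOf_eq_one_iff.1 (by rw [hk, pow_zero])) hx1
      · exact (dvd_pow_self q (Nat.succ_ne_zero k)).trans (hk ▸ orderOf_dvd_natCard x)
    intro hgx
    refine not_real_of_normal (hN q hq hqd T) hq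
      ((T : Subgroup G).subgroupOf (Subgroup.normalizer (Cfsg.centerThompsonAOf (T : Subgroup G) : Set G)))
      (T.2.of_equiv (Subgroup.subgroupOfEquivOfLe (sylow_le_nz T)).symm)
      (x := ⟨x, hxN⟩) hx (fun h => hx1 (congrArg Subtype.val h)) ⟨g, hg⟩ (Subtype.ext hgx)


end Cfsg.Agent.S2756
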