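import Cfsg.Statements.S2758
import Mathlib.GroupTheory.SpecificGroups.Dihedral
import Mathlib.GroupTheory.Sylow
import Mathlib.Tactic

set_option autoImplicit false
open Cfsg

namespace Cfsg.Agent.S2758

/-- For an odd prime p and a finite group G the following are equivalent: the dihedral group of order 2p is involved in G; some element of 2-power order normalizes but does not centralize some p-subgroup of G; some element of 2-power order inverts some nonidentity element of p-power order. -/
theorem result {G : Type*} [Group G] [Finite G] {p : ℕ} [Fact p.Prime] (hp : p ≠ 2) : (Cfsg.Involves (DihedralGroup p) G ↔ ∃ (x : G) (P : Subgroup G), (∃ k : ℕ, orderOf x = 2 ^ k) ∧ IsPGroup p ↥P ∧ x ∈ Subgroup.normalizer (P : Set G) ∧ x ∉ Subgroup.centralizer (P : Set G)) ∧ (Cfsg.Involves (DihedralGroup p) G ↔ ∃ x y : G, (∃ k : ℕ, orderOf x = 2 ^ k) ∧ (∃ k : ℕ, orderOf y = p ^ k) ∧ y ≠ 1 ∧ x * y * x⁻¹ = y⁻¹) := by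
  classical
  have hp1 : p.Prime := Fact.out
  have h2p : ¬ p ∣ 2 := fun h => hp ((Nat.prime_dvd_prime_iff_eq hp1 Nat.prime_two).1 h)
  -- an inverted element gives a dihedral section
  have hC : (∃ x y : G, (∃ k : ℕ, orderOf x = 2 ^ k) ∧ (∃ k : ℕ, orderOf y = p ^ k) ∧ y ≠ 1 ∧
      x * y * x⁻¹ = y⁻¹) → Cfsg.Involves (DihedralGroup p) G := by
    rintro ⟨x, y, ⟨k, hk⟩, ⟨l, hl⟩, hy1, hxy⟩
    have hco : (orderOf x).Coprime (orderOf y) := by
      rw [hk, hl]
      exact (((Nat.coprime_primes Nat.prime_two hp1).2 (Ne.symm hp)).pow_left k).pow_right l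
    have hxyi : x * y⁻¹ * x⁻¹ = y := by
      rw [← conj_inv, hxy, inv_inv]
    have hx2y : Commute (x ^ 2) y := by
      show x ^ 2 * y = y * x ^ 2
      calc x ^ 2 * y = x * (x * y * x⁻¹) * x := by rw [pow_two]; group
        _ = (x * y⁻¹ * x⁻¹) * x * x := by rw [hxy]; group
        _ = y * x ^ 2 := by rw [hxyi, pow_two]; group
    let K : Subgroup G := Subgroup.closure {x, y}
    let R : Subgroup G := Subgroup.closure {x ^ 2, y ^ p}
    have hxK : x ∈ K := Subgroup.subset_closure (Or.inl rfl)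
    have hyK : y ∈ K := Subgroup.subset_closure (Or.inr rfl)
    have hRK : R ≤ K := (Subgroup.closure_le _).2 (by
      rintro z (rfl | rfl)
      · exact pow_mem hxK 2
      · exact pow_mem hyK p)
    have hmem : ∀ z ∈ R, ∃ a b : ℤ, z = (x ^ 2) ^ a * (y ^ p) ^ b := by
      intro z hz
      have hc := hx2y.pow_right p
      induction hz using Subgroup.closure_induction with
      | mem z hz =>
        rcases hz with rfl | rfl
        · exact ⟨1, 0, by simp⟩
        · exact ⟨0, 1, by simp⟩
      | one => exact ⟨0, 0, by simp⟩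
      | mul z w _ _ hz hw =>
        obtain ⟨a, b, rfl⟩ := hz
        obtain ⟨c, d, rfl⟩ := hw
        refine ⟨a + c, b + d, ?_⟩
        rw [zpow_add, zpow_add, mul_assoc, ← mul_assoc ((y ^ p) ^ b) ((x ^ 2) ^ c),
          ← ((hc.zpow_left c).zpow_right b).eq]
        group
      | inv z _ hz =>
        obtain ⟨a, b, rfl⟩ := hz
        refine ⟨-a, -b, ?_⟩
        rw [mul_inv_rev, ← zpow_neg, ← zpow_neg, ((hc.zpow_left (-a)).zpow_right (-b)).eq]
    have hn : K ≤ Subgroup.normalizer (R : Set G) := by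
      refine (Subgroup.closure_le _).2 ?_
      have key : ∀ g : G, g * x ^ 2 * g⁻¹ ∈ R → g * y ^ p * g⁻¹ ∈ R →
          ∀ r ∈ R, g * r * g⁻¹ ∈ R := fun g h1 h2 r hr => by
        have : R ≤ R.comap (MulAut.conj g).toMonoidHom := (Subgroup.closure_le _).2 (by
          rintro z (rfl | rfl)
          · exact h1
          · exact h2)
        exact this hr
      have hnorm : ∀ g : G, g * x ^ 2 * g⁻¹ ∈ R → g * y ^ p * g⁻¹ ∈ R →
          g ∈ Subgroup.normalizer (R : Set G) := by
        intro g h1 h2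
        haveI : Finite ↥R := inferInstance
        refine Subgroup.mem_normalizer_iff_map_conj_eq.2 ?_
        refine Subgroup.eq_of_le_of_card_ge ?_ (le_of_eq ?_)
        · rintro _ ⟨r, hr, rfl⟩
          exact key g h1 h2 r hr
        · exact (Subgroup.card_map_of_injective (MulAut.conj g).injective).symm
      rintro g (rfl | rfl)
      · refine hnorm _ ?_ ?_
        · rw [(Commute.self_pow g 2).eq, mul_inv_cancel_right]
          exact Subgroup.subset_closure (Or.inl rfl)
        · rw [← conj_pow, hxy, inv_pow]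
          exact inv_mem (Subgroup.subset_closure (Or.inr rfl))
      · refine hnorm _ ?_ ?_
        · rw [← hx2y.eq, mul_inv_cancel_right]
          exact Subgroup.subset_closure (Or.inl rfl)
        · rw [(Commute.self_pow g p).eq, mul_inv_cancel_right]
          exact Subgroup.subset_closure (Or.inr rfl)
    haveI hRn : (R.subgroupOf K).Normal := (Subgroup.normal_subgroupOf_iff_le_normalizer hRK).2 hn
    refine ⟨K, R, hRn, ?_⟩
    let q := QuotientGroup.mk' (R.subgroupOf K)
    let X := q ⟨x, hxK⟩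
    let Y := q ⟨y, hyK⟩
    have hX2 : X * X = 1 := by
      rw [← map_mul]
      exact (QuotientGroup.eq_one_iff _).2 (show x * x ∈ R by
        rw [← pow_two]; exact Subgroup.subset_closure (Or.inl rfl))
    have hYp : Y ^ p = 1 := by
      rw [← map_pow]
      exact (QuotientGroup.eq_one_iff _).2 (show y ^ p ∈ R from
        Subgroup.subset_closure (Or.inr rfl))
    have hXi : X⁻¹ = X := inv_eq_of_mul_eq_one_left hX2
    have hXY : X * Y * X⁻¹ = Y⁻¹ := by
      rw [← map_inv, ← map_mul, ← map_mul, ← map_inv]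
      exact congrArg q (Subtype.ext hxy)
    let c : ZMod p → ↥K ⧸ R.subgroupOf K := fun i => Y ^ i.val
    have hadd : ∀ i j, c (i + j) = c i * c j := fun i j => by
      show Y ^ (i + j).val = Y ^ i.val * Y ^ j.val
      rw [← pow_add, ZMod.val_add, ← pow_eq_pow_mod _ hYp]
    have hneg : ∀ i, c (-i) = (c i)⁻¹ := fun i => by
      refine eq_inv_of_mul_eq_one_left ?_
      rw [← hadd, neg_add_cancel]
      show Y ^ (0 : ZMod p).val = 1
      rw [ZMod.val_zero, pow_zero]
    have hcX : ∀ i, c i * X = X * c (-i) := fun i => by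
      have hconj : X * c i * X⁻¹ = (c i)⁻¹ := by
        show X * Y ^ i.val * X⁻¹ = (Y ^ i.val)⁻¹
        rw [← conj_pow, hXY, inv_pow]
      rw [hneg, ← hconj, hXi, ← mul_assoc, ← mul_assoc, hX2, one_mul]
    let F : DihedralGroup p →* ↥K ⧸ R.subgroupOf K :=
      MonoidHom.mk' (fun d => match d with
        | DihedralGroup.r i => c i
        | DihedralGroup.sr i => X * c i) (by
        rintro (i | i) (j | j)
        · exact hadd i j
        · show X * c (j - i) = c i * (X * c j)
          rw [← mul_assoc, hcX, mul_assoc, ← hadd, neg_add_eq_sub]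
        · show X * c (i + j) = X * c i * c j
          rw [hadd, mul_assoc]
        · show c (j - i) = X * c i * (X * c j)
          rw [mul_assoc, ← mul_assoc (c i), hcX, mul_assoc, ← hadd, ← mul_assoc, hX2, one_mul,
            neg_add_eq_sub])
    have hsurj : Function.Surjective F := by
      intro z
      obtain ⟨⟨g, hg⟩, rfl⟩ := QuotientGroup.mk'_surjective _ z
      have hle : K ≤ (F.range.comap q).map K.subtype := by
        refine (Subgroup.closure_le _).2 ?_
        rintro z (rfl | rfl)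
        · refine ⟨⟨z, hxK⟩, ⟨DihedralGroup.sr 0, ?_⟩, rfl⟩
          show X * Y ^ (0 : ZMod p).val = X
          rw [ZMod.val_zero, pow_zero, mul_one]
        · refine ⟨⟨z, hyK⟩, ⟨DihedralGroup.r 1, ?_⟩, rfl⟩
          show Y ^ (1 : ZMod p).val = Y
          haveI : Fact (1 < p) := ⟨hp1.one_lt⟩
          rw [ZMod.val_one, pow_one]
      obtain ⟨g', hg', e⟩ := hle hg
      rw [show (⟨g, hg⟩ : ↥K) = g' from Subtype.ext e.symm]
      exact hg'
    -- a power of `y` in `R` is a power of `y ^ p`
    have hkey : ∀ n : ℕ, y ^ n ∈ R → p ∣ n := by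
      intro n hn
      obtain ⟨a, b, hab⟩ := hmem _ hn
      have h1 : (x ^ 2) ^ a ∈ Subgroup.zpowers y := by
        rw [show (x ^ 2) ^ a = y ^ n * ((y ^ p) ^ b)⁻¹ by rw [hab, mul_inv_cancel_right]]
        exact mul_mem (pow_mem (Subgroup.mem_zpowers y) n)
          (inv_mem (zpow_mem (pow_mem (Subgroup.mem_zpowers y) p) b))
      have h2 : (x ^ 2) ^ a = 1 := by
        refine orderOf_eq_one_iff.1 (Nat.eq_one_of_dvd_coprimes hco ?_ ?_)
        · exact (orderOf_dvd_iff_pow_eq_one.2 (by
            rw [← zpow_natCast, ← zpow_mul, mul_comm, zpow_mul, zpow_natCast, ← pow_mul,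
              mul_comm, pow_mul, pow_orderOf_eq_one, one_pow, one_zpow]))
        · obtain ⟨i, hi⟩ := Subgroup.mem_zpowers_iff.1 h1
          rw [← hi]
          exact orderOf_dvd_iff_pow_eq_one.2 (by
            rw [← zpow_natCast, ← zpow_mul, mul_comm, zpow_mul, zpow_natCast, pow_orderOf_eq_one,
              one_zpow])
      rw [h2, one_mul] at hab
      have h3 : y ^ ((n : ℤ) - p * b) = 1 := by
        rw [zpow_sub, zpow_mul, zpow_natCast, zpow_natCast, ← hab, mul_inv_cancel]
      have h4 := orderOf_dvd_iff_zpow_eq_one.2 h3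
      have hpl : (p : ℤ) ∣ (orderOf y : ℤ) := by
        rw [hl]
        refine Int.natCast_dvd_natCast.2 (dvd_pow_self p fun h0 => hy1 ?_)
        exact orderOf_eq_one_iff.1 (by rw [hl, h0, pow_zero])
      have h5 := dvd_add (hpl.trans h4) (dvd_mul_right (p : ℤ) b)
      rw [sub_add_cancel] at h5
      exact Int.natCast_dvd_natCast.1 h5
    have hinj : Function.Injective F := by
      rw [injective_iff_map_eq_one]
      rintro (i | i) h
      · have h' : y ^ i.val ∈ R := by
          have h'' : q (⟨y, hyK⟩ ^ i.val) = 1 := by rw [map_pow]; exact h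
          exact (QuotientGroup.eq_one_iff (N := R.subgroupOf K) _).1 h''
        have hi : i.val = 0 := Nat.eq_zero_of_dvd_of_lt (hkey _ h') (ZMod.val_lt i)
        rw [(ZMod.val_eq_zero i).1 hi]
        rfl
      · exfalso
        have h' : x * y ^ i.val ∈ R := by
          have h'' : q (⟨x, hxK⟩ * ⟨y, hyK⟩ ^ i.val) = 1 := by
            rw [map_mul, map_pow]; exact h
          exact (QuotientGroup.eq_one_iff (N := R.subgroupOf K) _).1 h''
        -- `x y^i` and its conjugate by `x` give `y^(2i) ∈ R`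
        have h1 : x * (x * y ^ i.val) * x⁻¹ ∈ R :=
          (Subgroup.mem_normalizer_iff.1 (hn hxK) _).1 h'
        have h2 : y ^ (2 * i.val) ∈ R := by
          have e : (x * (x * y ^ i.val) * x⁻¹)⁻¹ * (x * y ^ i.val) = y ^ (2 * i.val) := by
            rw [show x * (x * y ^ i.val) * x⁻¹ = x * (x * y ^ i.val * x⁻¹) by group, ← conj_pow,
              hxy, mul_inv_rev, inv_pow, inv_inv, two_mul, pow_add]
            group
          exact e ▸ mul_mem (inv_mem h1) h'
        have h3 : p ∣ i.val := (hp1.dvd_mul.1 (hkey _ h2)).resolve_left h2p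
        have h4 : x ∈ R := by
          have h5 : y ^ i.val ∈ R := by
            obtain ⟨c, hc⟩ := h3
            rw [hc, pow_mul]
            exact pow_mem (show y ^ p ∈ R from Subgroup.subset_closure (Or.inr rfl)) c
          simpa using mul_mem h' (inv_mem h5)
        obtain ⟨a, b, hab⟩ := hmem _ h4
        have hc : Commute x y := by
          rw [hab]
          exact ((hx2y.zpow_left a).mul_left (((Commute.refl y).pow_left p).zpow_left b))
        rw [hc.eq, mul_inv_cancel_right] at hxy
        refine hy1 (orderOf_eq_one_iff.1 (Nat.eq_one_of_dvd_coprimes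
          (((Nat.coprime_primes Nat.prime_two hp1).2 (Ne.symm hp)).pow_right l)
          (orderOf_dvd_of_pow_eq_one (by rw [pow_two]; exact mul_eq_one_iff_eq_inv.2 hxy)) hl.dvd))
    exact ⟨(MulEquiv.ofBijective F ⟨hinj, hsurj⟩).symm⟩
  -- a non-centralising `2`-element gives an inverted element
  have hB : (∃ (x : G) (P : Subgroup G), (∃ k : ℕ, orderOf x = 2 ^ k) ∧ IsPGroup p ↥P ∧
      x ∈ Subgroup.normalizer (P : Set G) ∧ x ∉ Subgroup.centralizer (P : Set G)) →
      ∃ x y : G, (∃ k : ℕ, orderOf x = 2 ^ k) ∧ (∃ k : ℕ, orderOf y = p ^ k) ∧ y ≠ 1 ∧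
        x * y * x⁻¹ = y⁻¹ := by
    rintro ⟨x, P, ⟨k, hk⟩, hP, hxN, hxC⟩
    have hex : ∃ j : ℕ, x ^ 2 ^ j ∈ Subgroup.centralizer (P : Set G) :=
      ⟨k, by rw [← hk, pow_orderOf_eq_one]; exact one_mem _⟩
    obtain ⟨j, hj⟩ : ∃ j, Nat.find hex = j + 1 := Nat.exists_eq_succ_of_ne_zero fun h => hxC (by
      have h' := Nat.find_spec hex
      rwa [h, pow_zero, pow_one] at h')
    set z := x ^ 2 ^ j with hz
    have hzN : z ∈ Subgroup.normalizer (P : Set G) := pow_mem hxN _
    have hzC : z ∉ Subgroup.centralizer (P : Set G) := Nat.find_min hex (by omega)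
    have hz2 : z ^ 2 ∈ Subgroup.centralizer (P : Set G) := by
      rw [hz, ← pow_mul, ← pow_succ, ← hj]
      exact Nat.find_spec hex
    obtain ⟨a, haP, ha⟩ : ∃ a ∈ P, a * z ≠ z * a := by
      by_contra hne
      push Not at hne
      exact hzC (Subgroup.mem_centralizer_iff.2 hne)
    refine ⟨z, a⁻¹ * (z * a * z⁻¹), ?_, ?_, fun h => ha ?_, ?_⟩
    · obtain ⟨m, -, hm⟩ := (Nat.dvd_prime_pow Nat.prime_two).1 (hk ▸ orderOf_pow_dvd (2 ^ j))
      exact ⟨m, hm⟩
    · have hm : a⁻¹ * (z * a * z⁻¹) ∈ P :=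
        mul_mem (inv_mem haP) ((Subgroup.mem_normalizer_iff.1 hzN a).1 haP)
      obtain ⟨l, hl⟩ := IsPGroup.iff_orderOf.1 hP ⟨_, hm⟩
      exact ⟨l, by rwa [Subgroup.orderOf_mk] at hl⟩
    · exact (mul_inv_eq_iff_eq_mul.1 (inv_mul_eq_one.1 h).symm).symm
    · have h2 := Subgroup.mem_centralizer_iff.1 hz2 a haP
      calc z * (a⁻¹ * (z * a * z⁻¹)) * z⁻¹
          = (z * a⁻¹ * z⁻¹) * (z ^ 2 * a) * (z ^ 2)⁻¹ := by rw [pow_two]; group
        _ = (z * a⁻¹ * z⁻¹) * (a * z ^ 2) * (z ^ 2)⁻¹ := by rw [h2]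
        _ = (a⁻¹ * (z * a * z⁻¹))⁻¹ := by group
  -- a dihedral section gives a non-centralising `2`-element
  have hA : Cfsg.Involves (DihedralGroup p) G → ∃ (x : G) (P : Subgroup G),
      (∃ k : ℕ, orderOf x = 2 ^ k) ∧ IsPGroup p ↥P ∧ x ∈ Subgroup.normalizer (P : Set G) ∧
        x ∉ Subgroup.centralizer (P : Set G) := by
    rintro ⟨K, R, hR, ⟨e⟩⟩
    haveI := hR
    let f : ↥K →* DihedralGroup p := e.toMonoidHom.comp (QuotientGroup.mk' (R.subgroupOf K))
    have hf : Function.Surjective f := e.surjective.comp (QuotientGroup.mk'_surjective _)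
    set C := (Subgroup.zpowers (DihedralGroup.r (1 : ZMod p))).comap f with hCdef
    haveI hrot : (Subgroup.zpowers (DihedralGroup.r (1 : ZMod p))).Normal := by
      refine Subgroup.normal_of_index_eq_two ?_
      have h := (Subgroup.zpowers (DihedralGroup.r (1 : ZMod p))).card_mul_index
      rw [Nat.card_zpowers, DihedralGroup.orderOf_r_one, DihedralGroup.nat_card] at h
      exact Nat.eq_of_mul_eq_mul_left hp1.pos (h.trans (mul_comm 2 p))
    haveI hCn : C.Normal := hrot.comap f
    obtain ⟨P⟩ : Nonempty (Sylow p ↥C) := inferInstance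
    set P₁ : Subgroup ↥K := (P : Subgroup ↥C).map C.subtype
    have hs : DihedralGroup.sr (0 : ZMod p) ∈
        (Subgroup.normalizer (P₁ : Set ↥K) ⊔ C).map f := by
      rw [Sylow.normalizer_sup_eq_top P, Subgroup.map_top_of_surjective f hf]
      trivial
    rw [Subgroup.map_sup, Subgroup.map_comap_eq_self_of_surjective hf, ← SetLike.mem_coe,
      Subgroup.mul_normal] at hs
    obtain ⟨u, ⟨n, hn, rfl⟩, w, hw, hnw⟩ := hs
    obtain ⟨i, hi⟩ : ∃ i, f n = DihedralGroup.sr i := by
      obtain ⟨l, hl⟩ := Subgroup.mem_zpowers_iff.1 hw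
      rw [DihedralGroup.r_one_zpow] at hl
      rcases h : f n with i | i
      · exfalso
        rw [h, ← hl] at hnw
        simp at hnw
      · exact ⟨i, rfl⟩
    -- the `2`-part of `n`
    obtain ⟨a, m, hm, ho⟩ :=
      Nat.exists_eq_pow_mul_and_not_dvd (orderOf_pos n).ne' 2 (by norm_num)
    set z := n ^ m with hz
    have hfz : f z = DihedralGroup.sr i := by
      obtain ⟨t, ht⟩ : Odd m := Nat.not_even_iff_odd.1 fun h => hm h.two_dvd
      rw [hz, map_pow, hi, ht, pow_succ, pow_mul, pow_two, DihedralGroup.sr_mul_self, one_pow,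
        one_mul]
    have hzo : orderOf z ∣ 2 ^ a :=
      orderOf_dvd_of_pow_eq_one (by rw [hz, ← pow_mul, mul_comm, ← ho, pow_orderOf_eq_one])
    refine ⟨(z : G), P₁.map K.subtype, ?_, ((P.2.map _).map _), ?_, fun hcen => ?_⟩
    · obtain ⟨b, -, hb⟩ := (Nat.dvd_prime_pow Nat.prime_two).1 hzo
      exact ⟨b, by rw [Subgroup.orderOf_coe, hb]⟩
    · exact Subgroup.le_normalizer_map K.subtype (Subgroup.mem_map_of_mem _ (pow_mem hn m))
    · -- the image of `P₁` is not trivial
      have hpd : p ∣ Nat.card ↥C := by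
        have hsurjC : Function.Surjective
            ((f.comp C.subtype).codRestrict (Subgroup.zpowers (DihedralGroup.r (1 : ZMod p)))
              fun c => c.2) := by
          rintro ⟨v, hv⟩
          obtain ⟨k', rfl⟩ := hf v
          exact ⟨⟨k', hv⟩, rfl⟩
        have := Subgroup.card_dvd_of_surjective _ hsurjC
        rwa [Nat.card_zpowers, DihedralGroup.orderOf_r_one] at this
      let fC : ↥C →* ↥(Subgroup.zpowers (DihedralGroup.r (1 : ZMod p))) :=
        (f.comp C.subtype).codRestrict _ fun c => c.2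
      have hfC : Function.Surjective fC := by
        rintro ⟨v, hv⟩
        obtain ⟨k', rfl⟩ := hf v
        exact ⟨⟨k', hv⟩, rfl⟩
      have htop : ((P.mapSurjective hfC : Sylow p _) : Subgroup
          ↥(Subgroup.zpowers (DihedralGroup.r (1 : ZMod p)))) = ⊤ := by
        refine ((P.mapSurjective hfC).3 ?_ le_top).symm
        exact (IsPGroup.of_card (n := 1) (by
          rw [Nat.card_zpowers, DihedralGroup.orderOf_r_one, pow_one])).to_subgroup _
      rw [Sylow.coe_mapSurjective] at htop
      obtain ⟨c, hc, hcr⟩ : (⟨_, Subgroup.mem_zpowers (DihedralGroup.r (1 : ZMod p))⟩ :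
          ↥(Subgroup.zpowers (DihedralGroup.r (1 : ZMod p)))) ∈ (P : Subgroup ↥C).map fC := by
        rw [htop]; trivial
      have h1 := Subgroup.mem_centralizer_iff.1 hcen ((c : ↥K) : G)
        (Subgroup.mem_map_of_mem _ (Subgroup.mem_map_of_mem _ hc))
      have h2 : f ((c : ↥K) * z) = f (z * (c : ↥K)) := congrArg f (Subtype.ext h1)
      have hcr' : f (c : ↥K) = DihedralGroup.r 1 := congrArg Subtype.val hcr
      rw [map_mul, map_mul, hfz, hcr', DihedralGroup.r_mul_sr, DihedralGroup.sr_mul_r] at h2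
      injection h2 with h3
      have h4 : ((2 : ℕ) : ZMod p) = 0 := by
        push_cast
        linear_combination (norm := ring_nf) -h3
      exact h2p ((ZMod.natCast_eq_zero_iff _ _).1 h4)
  exact ⟨⟨hA, fun h => hC (hB h)⟩, ⟨fun h => hB (hA h), hC⟩⟩

end Cfsg.Agent.S2758
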