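import Cfsg.Statements.S2760
import Cfsg.Agent.Lib.LocalStructure.Kieler

set_option autoImplicit false
open Cfsg

namespace Cfsg.Agent.S2760

/-- Let G be a finite group with C_G(O₂(G)) ≤ O₂(G) and H a subgroup of G such that H is normal in G, or the subgroup O²(H) generated by the elements of H of odd order is normal in G. Then C_H(O₂(H)) ≤ O₂(H). -/
theorem result {G : Type*} [Group G] [Finite G] (hchar : Subgroup.centralizer (Cfsg.pCore 2 G : Set G) ≤ Cfsg.pCore 2 G) (H : Subgroup G) (hH : H.Normal ∨ ((Cfsg.pResidual 2 ↥H).map H.subtype).Normal) : Subgroup.centralizer (Cfsg.pCore 2 ↥H : Set ↥H) ≤ Cfsg.pCore 2 ↥H := by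
  classical
  haveI : Fact (Nat.Prime 2) := ⟨Nat.prime_two⟩
  rcases hH with hn | hn
  · exact CfsgLib.LS.charP_of_subnormal hn.isSubnormal hchar
  set R := Cfsg.pResidual 2 ↥H with hR
  haveI : R.Normal := CfsgLib.Fusion.pResidual_normal
  set R' := R.map H.subtype with hR'
  have hRc : Subgroup.centralizer (Cfsg.pCore 2 ↥R' : Set ↥R') ≤ Cfsg.pCore 2 ↥R' :=
    CfsgLib.LS.charP_of_subnormal hn.isSubnormal hchar
  haveI := CfsgLib.Coprime.pCore_normal' (G := ↥H) 2
  haveI : (Subgroup.centralizer (Cfsg.pCore 2 ↥H : Set ↥H)).Normal := Subgroup.normal_centralizer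
  refine CfsgLib.Coprime.le_pCore (CfsgLib.LS.isPGroup_of_coprime_trivial fun g hg hco => ?_)
  have hgR : g ∈ R := CfsgLib.Fusion.mem_pResidual hco
  have hgR' : (g : G) ∈ R' := Subgroup.mem_map_of_mem _ hgR
  let e : ↥R ≃* ↥R' := R.equivMapOfInjective H.subtype H.subtype_injective
  have hle : (Cfsg.pCore 2 ↥R).map R.subtype ≤ Cfsg.pCore 2 ↥H := by
    haveI := CfsgLib.Coprime.pCore_normal' (G := ↥R) 2
    exact CfsgLib.Coprime.le_pCore_of_isSubnormal
      ((Subgroup.Normal.isSubnormal inferInstance).trans' (Subgroup.Normal.isSubnormal inferInstance))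
      ((CfsgLib.Coprime.pCore_isPGroup 2).map _)
  have hmem : (⟨(g : G), hgR'⟩ : ↥R') ∈ Cfsg.pCore 2 ↥R' := by
    refine hRc (Subgroup.mem_centralizer_iff.2 fun y hy => ?_)
    rw [← CfsgLib.Coprime.map_pCore_equiv e] at hy
    obtain ⟨u, hu, rfl⟩ := hy
    have h1 := Subgroup.mem_centralizer_iff.1 hg (u : ↥H) (hle (Subgroup.mem_map_of_mem _ hu))
    exact Subtype.ext (congrArg (fun z : ↥H => (z : G)) h1)
  obtain ⟨k, hk⟩ := (CfsgLib.Coprime.pCore_isPGroup (G := ↥R') 2) ⟨_, hmem⟩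
  have h1 : g ^ 2 ^ k = 1 := Subtype.ext (congrArg (fun z : ↥(Cfsg.pCore 2 ↥R') => ((z : ↥R') : G)) hk)
  exact orderOf_eq_one_iff.1 (Nat.eq_one_of_dvd_coprimes (hco.symm.pow_left k)
    (orderOf_dvd_of_pow_eq_one h1) dvd_rfl)

end Cfsg.Agent.S2760
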