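import Cfsg.Statements.S2762
import Cfsg.Agent.Lib.LocalStructure.QdBasic

set_option autoImplicit false
open Cfsg

namespace Cfsg.Agent.S2762

/-- Structure of Qd over a finite field F of characteristic p (the affine subgroup of SL₃(F)): its largest normal p-subgroup is the group of translations (matrices with upper-left block the identity), the block-diagonal matrices form a complement isomorphic to SL₂(F), and the translation subgroup is a natural SL₂(F)-module for that complement. -/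
theorem result {F : Type*} [Field F] [Fintype F] {p : ℕ} [Fact p.Prime] [CharP F p] : (∀ M : ↥(Cfsg.qdOver F), M ∈ Cfsg.pCore p ↥(Cfsg.qdOver F) ↔ ((M : Matrix.SpecialLinearGroup (Fin 3) F) : Matrix (Fin 3) (Fin 3) F) 0 0 = 1 ∧ ((M : Matrix.SpecialLinearGroup (Fin 3) F) : Matrix (Fin 3) (Fin 3) F) 0 1 = 0 ∧ ((M : Matrix.SpecialLinearGroup (Fin 3) F) : Matrix (Fin 3) (Fin 3) F) 1 0 = 0 ∧ ((M : Matrix.SpecialLinearGroup (Fin 3) F) : Matrix (Fin 3) (Fin 3) F) 1 1 = 1) ∧ ∃ K : Subgroup ↥(Cfsg.qdOver F), (∀ M : ↥(Cfsg.qdOver F), M ∈ K ↔ ((M : Matrix.SpecialLinearGroup (Fin 3) F) : Matrix (Fin 3) (Fin 3) F) 0 2 = 0 ∧ ((M : Matrix.SpecialLinearGroup (Fin 3) F) : Matrix (Fin 3) (Fin 3) F) 1 2 = 0) ∧ K ⊓ Cfsg.pCore p ↥(Cfsg.qdOver F) = ⊥ ∧ K ⊔ Cfsg.pCore p ↥(Cfsg.qdOver F) = ⊤ ∧ Nonempty (↥K ≃* Matrix.SpecialLinearGroup (Fin 2) F) ∧ Cfsg.IsNaturalSL2Module F (Cfsg.pCore p ↥(Cfsg.qdOver F)) K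 := by
  classical
  set V := Cfsg.pCore p ↥(Cfsg.qdOver F) with hV
  have hVk : V = (CfsgLib.LS.QdF.lin (F := F)).ker := CfsgLib.LS.QdF.pCore_qdOver
  have hVm : ∀ x, x ∈ V ↔ ∃ w, x = CfsgLib.LS.QdF.el 1 w := fun x => by
    rw [hVk]; exact CfsgLib.LS.QdF.mem_transl_iff
  refine ⟨fun M => ?_, ?_⟩
  · obtain ⟨A, w, rfl⟩ := CfsgLib.LS.QdF.exists_el M
    rw [hVk, MonoidHom.mem_ker, CfsgLib.LS.QdF.lin_el]
    constructor
    · rintro rfl
      simp [CfsgLib.LS.QdF.el, CfsgLib.LS.QdF.aff_coe]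
    · intro h
      simp [CfsgLib.LS.QdF.el, CfsgLib.LS.QdF.aff_coe] at h
      exact CfsgLib.Qd.ext2 (by simp [h.1]) (by simp [h.2.1]) (by simp [h.2.2.1])
        (by simp [h.2.2.2])
  let j : Matrix.SpecialLinearGroup (Fin 2) F →* ↥(Cfsg.qdOver F) :=
    MonoidHom.mk' (fun A => CfsgLib.LS.QdF.el A 0) fun A B => by
      rw [CfsgLib.LS.QdF.el_mul, Matrix.mulVec_zero, add_zero]
  have hj : Function.Injective j := fun A B h => (CfsgLib.LS.QdF.el_inj h).1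
  refine ⟨j.range, fun M => ?_, ?_, ?_, ⟨(MonoidHom.ofInjective hj).symm⟩, ?_⟩
  · obtain ⟨A, w, rfl⟩ := CfsgLib.LS.QdF.exists_el M
    constructor
    · rintro ⟨B, hB⟩
      obtain ⟨-, rfl⟩ := CfsgLib.LS.QdF.el_inj hB
      simp [CfsgLib.LS.QdF.el, CfsgLib.LS.QdF.aff_coe]
    · intro h
      simp [CfsgLib.LS.QdF.el, CfsgLib.LS.QdF.aff_coe] at h
      refine ⟨A, congrArg (CfsgLib.LS.QdF.el A) ?_⟩
      funext i
      fin_cases i <;> simp [h.1, h.2]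
  · rw [eq_bot_iff]
    rintro x ⟨⟨A, rfl⟩, hx⟩
    obtain ⟨w, hw⟩ := (hVm _).1 hx
    obtain ⟨rfl, -⟩ := CfsgLib.LS.QdF.el_inj hw
    exact Subgroup.mem_bot.2 CfsgLib.LS.QdF.el_one
  · rw [eq_top_iff]
    intro x _
    obtain ⟨A, w, rfl⟩ := CfsgLib.LS.QdF.exists_el x
    rw [show CfsgLib.LS.QdF.el A w = CfsgLib.LS.QdF.el 1 w * j A by
      show _ = CfsgLib.LS.QdF.el 1 w * CfsgLib.LS.QdF.el A 0
      rw [CfsgLib.LS.QdF.el_mul, one_mul, Matrix.mulVec_zero, add_zero]]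
    exact mul_mem (Subgroup.mem_sup_right ((hVm _).2 ⟨w, rfl⟩))
      (Subgroup.mem_sup_left ⟨A, rfl⟩)
  · have hKN : j.range ≤ Subgroup.normalizer (V : Set ↥(Cfsg.qdOver F)) := by
      haveI : V.Normal := CfsgLib.Coprime.pCore_normal' p
      rw [Subgroup.normalizer_eq_top]
      exact le_top
    refine ⟨hKN, (CfsgLib.LS.QdF.lin (F := F)).comp j.range.subtype,
      { toFun := fun v => CfsgLib.LS.QdF.co ((Additive.toMul v : ↥V) : ↥(Cfsg.qdOver F))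
        invFun := fun w => Additive.ofMul ⟨CfsgLib.LS.QdF.el 1 w, (hVm _).2 ⟨w, rfl⟩⟩
        left_inv := fun v => by
          obtain ⟨w, hw⟩ := (hVm _).1 (Additive.toMul v : ↥V).2
          refine Additive.toMul.injective (Subtype.ext ?_)
          show CfsgLib.LS.QdF.el 1 (CfsgLib.LS.QdF.co _) = _
          rw [hw, CfsgLib.LS.QdF.co_el]
        right_inv := fun w => CfsgLib.LS.QdF.co_el 1 w
        map_add' := fun v u => by
          obtain ⟨w, hw⟩ := (hVm _).1 (Additive.toMul v : ↥V).2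
          obtain ⟨z, hz⟩ := (hVm _).1 (Additive.toMul u : ↥V).2
          show CfsgLib.LS.QdF.co (((Additive.toMul v : ↥V) : ↥(Cfsg.qdOver F)) *
            ((Additive.toMul u : ↥V) : ↥(Cfsg.qdOver F))) = _
          rw [hw, hz, CfsgLib.LS.QdF.el_mul]
          simp [CfsgLib.LS.QdF.co_el] }, ?_, ?_, ?_⟩
    · intro A
      exact ⟨⟨j A, A, rfl⟩, CfsgLib.LS.QdF.lin_el A 0⟩
    · ext ⟨x, A, rfl⟩
      rw [MonoidHom.mem_ker, Subgroup.mem_subgroupOf, Subgroup.mem_centralizer_iff]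
      show CfsgLib.LS.QdF.lin (CfsgLib.LS.QdF.el A 0) = 1 ↔ _
      rw [CfsgLib.LS.QdF.lin_el]
      constructor
      · rintro rfl z -
        show z * CfsgLib.LS.QdF.el 1 0 = CfsgLib.LS.QdF.el 1 0 * z
        rw [CfsgLib.LS.QdF.el_one, mul_one, one_mul]
      · intro h
        refine Subtype.ext (Matrix.ext_of_mulVec_single fun i => ?_)
        have h1 := h _ ((hVm _).2 ⟨Pi.single i 1, rfl⟩)
        change CfsgLib.LS.QdF.el 1 (Pi.single i 1) * CfsgLib.LS.QdF.el A 0 =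
          CfsgLib.LS.QdF.el A 0 * CfsgLib.LS.QdF.el 1 (Pi.single i 1) at h1
        rw [CfsgLib.LS.QdF.el_mul, CfsgLib.LS.QdF.el_mul] at h1
        have h2 := (CfsgLib.LS.QdF.el_inj h1).2
        simp only [Matrix.mulVec_zero, add_zero, zero_add] at h2
        rw [← h2, Matrix.SpecialLinearGroup.coe_one, Matrix.one_mulVec]
    · rintro ⟨_, A, rfl⟩ ⟨v, hv⟩
      obtain ⟨w, rfl⟩ := (hVm _).1 hv
      refine ⟨⟨_, (CfsgLib.Coprime.pCore_normal' p).conj_mem _ hv (j A)⟩, rfl, ?_⟩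
      show CfsgLib.LS.QdF.co (j A * CfsgLib.LS.QdF.el 1 w * (j A)⁻¹) =
        (CfsgLib.LS.QdF.lin (j A)).1.mulVec (CfsgLib.LS.QdF.co (CfsgLib.LS.QdF.el 1 w))
      have h : j A * CfsgLib.LS.QdF.el 1 w * (j A)⁻¹ = CfsgLib.LS.QdF.el 1 (A.1.mulVec w) := by
        rw [mul_inv_eq_iff_eq_mul]
        show CfsgLib.LS.QdF.el A 0 * _ = _ * CfsgLib.LS.QdF.el A 0
        rw [CfsgLib.LS.QdF.el_mul, CfsgLib.LS.QdF.el_mul]
        simp
      rw [h, CfsgLib.LS.QdF.co_el, CfsgLib.LS.QdF.co_el]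
      show _ = (CfsgLib.LS.QdF.lin (CfsgLib.LS.QdF.el A 0)).1.mulVec w
      rw [CfsgLib.LS.QdF.lin_el]

end Cfsg.Agent.S2762
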