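import Cfsg.Statements.S2763
import Cfsg.Agent.Lib.LocalStructure.QdPrime
import Cfsg.Agent.Lib.LocalStructure.FStar

set_option autoImplicit false
open Cfsg

namespace Cfsg.Agent.S2763

/-- In the group Qd(p) (p prime; the natural semidirect product of an elementary abelian group of order p² by SL₂(p)), the normalizer of every nontrivial characteristic subgroup of a Sylow p-subgroup S equals the normalizer of S, which is a proper subgroup; in particular no such characteristic subgroup is normal. -/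
theorem result {p : ℕ} [Fact p.Prime] (S : Sylow p ↥(Cfsg.qd p)) (T : Subgroup ↥(S : Subgroup ↥(Cfsg.qd p))) (hT : T ≠ ⊥) (hTc : T.Characteristic) : Subgroup.normalizer ((T.map (S : Subgroup ↥(Cfsg.qd p)).subtype : Subgroup ↥(Cfsg.qd p)) : Set ↥(Cfsg.qd p)) = Subgroup.normalizer ((S : Subgroup ↥(Cfsg.qd p)) : Set ↥(Cfsg.qd p)) ∧ Subgroup.normalizer ((S : Subgroup ↥(Cfsg.qd p)) : Set ↥(Cfsg.qd p)) ≠ ⊤ := by
  classical
  revert hTc hT
  revert T
  revert S
  show ∀ (S : Sylow p ↥(Cfsg.qdOver (ZMod p)))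
    (T : Subgroup ↥(S : Subgroup ↥(Cfsg.qdOver (ZMod p)))), T ≠ ⊥ → T.Characteristic →
      Subgroup.normalizer ((T.map (S : Subgroup ↥(Cfsg.qdOver (ZMod p))).subtype :
        Subgroup ↥(Cfsg.qdOver (ZMod p))) : Set ↥(Cfsg.qdOver (ZMod p))) =
          Subgroup.normalizer ((S : Subgroup ↥(Cfsg.qdOver (ZMod p))) : Set ↥(Cfsg.qdOver (ZMod p)))
        ∧ Subgroup.normalizer ((S : Subgroup ↥(Cfsg.qdOver (ZMod p))) :
            Set ↥(Cfsg.qdOver (ZMod p))) ≠ ⊤
  intro S T hT hTc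
  haveI := hTc
  obtain ⟨g, hg⟩ := MulAction.exists_smul_eq ↥(Cfsg.qdOver (ZMod p)) S (CfsgLib.LS.QdF.syl0 p)
  have hg' : (S : Subgroup ↥(Cfsg.qdOver (ZMod p))).map (MulAut.conj g).toMonoidHom
      = CfsgLib.LS.QdF.P0 p :=
    congrArg Sylow.toSubgroup hg
  set T' : Subgroup ↥(Cfsg.qdOver (ZMod p)) :=
    T.map (S : Subgroup ↥(Cfsg.qdOver (ZMod p))).subtype with hT'
  have hle := CfsgLib.LS.normalizer_le_normalizer_map_char T
  -- the normalizer of `T'` is proper
  have hne : Subgroup.normalizer (T' : Set ↥(Cfsg.qdOver (ZMod p))) ≠ ⊤ := by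
    intro htop
    haveI hTn : T'.Normal := Subgroup.normalizer_eq_top_iff.1 htop
    have hT1 : T' ≠ ⊥ := fun h => hT ((Subgroup.map_eq_bot_iff_of_injective _
      (S : Subgroup ↥(Cfsg.qdOver (ZMod p))).subtype_injective).1 h)
    have hV : T' = (CfsgLib.LS.QdF.lin (F := ZMod p)).ker :=
      CfsgLib.LS.QdF.eq_transl_of_normal
        (S.2.to_le (Subgroup.map_subtype_le _)) hT1
    obtain ⟨φ, hφ⟩ := CfsgLib.LS.QdF.exists_swap (p := p)
    let e : ↥(S : Subgroup ↥(Cfsg.qdOver (ZMod p))) ≃* ↥(CfsgLib.LS.QdF.P0 p) :=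
      ((MulAut.conj g).subgroupMap (S : Subgroup ↥(Cfsg.qdOver (ZMod p)))).trans
        (MulEquiv.subgroupCongr hg')
    have hev : ∀ s, (e s : ↥(Cfsg.qdOver (ZMod p))) = g * s * g⁻¹ := fun s => rfl
    have hmem : ∀ s, s ∈ T ↔ (e s : ↥(Cfsg.qdOver (ZMod p))) ∈ T' := by
      intro s
      rw [hev]
      constructor
      · exact fun hs => hTn.conj_mem _ (Subgroup.mem_map_of_mem _ hs) g
      · intro hs
        obtain ⟨s', hs', he⟩ := hTn.conj_mem _ hs g⁻¹
        rw [show g⁻¹ * (g * (s : ↥(Cfsg.qdOver (ZMod p))) * g⁻¹) * g⁻¹⁻¹ =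
          (s : ↥(Cfsg.qdOver (ZMod p))) by group] at he
        rw [← Subtype.ext he]
        exact hs'
    let u := e.symm ⟨CfsgLib.LS.QdF.el (CfsgLib.Qd.up 0) ![0, 1],
      CfsgLib.LS.QdF.el_mem_P0 _ _⟩
    have hu : u ∈ T := by
      rw [hmem, MulEquiv.apply_symm_apply, hV, MonoidHom.mem_ker]
      show CfsgLib.LS.QdF.lin (CfsgLib.LS.QdF.el (CfsgLib.Qd.up 0) ![0, 1]) = 1
      rw [CfsgLib.LS.QdF.lin_el]
      exact CfsgLib.Qd.ext2 (by simp) (by simp) (by simp) (by simp)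
    let ψ : ↥(S : Subgroup ↥(Cfsg.qdOver (ZMod p))) ≃* ↥(S : Subgroup ↥(Cfsg.qdOver (ZMod p))) :=
      (e.trans φ).trans e.symm
    have hψ : ψ u ∈ T := by
      rw [← Subgroup.characteristic_iff_map_eq.1 hTc ψ]
      exact Subgroup.mem_map_of_mem _ hu
    rw [hmem] at hψ
    simp only [ψ, u, MulEquiv.trans_apply, MulEquiv.apply_symm_apply, hV, MonoidHom.mem_ker,
      hφ, CfsgLib.LS.QdF.lin_el] at hψ
    have h01 := congrArg (fun A : Matrix.SpecialLinearGroup (Fin 2) (ZMod p) => A.1 0 1) hψ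
    simp at h01
  -- the normalizer of `S` is proper
  have hneS : Subgroup.normalizer ((S : Subgroup ↥(Cfsg.qdOver (ZMod p))) :
      Set ↥(Cfsg.qdOver (ZMod p))) ≠ ⊤ :=
    fun h => hne (top_le_iff.1 (h.ge.trans hle))
  refine ⟨le_antisymm ?_ hle, hneS⟩
  intro x hx
  by_contra hxS
  refine hne ?_
  have hSN : (S : Subgroup ↥(Cfsg.qdOver (ZMod p))) ≤
      Subgroup.normalizer (T' : Set ↥(Cfsg.qdOver (ZMod p))) := Subgroup.le_normalizer.trans hle
  have h := CfsgLib.LS.QdF.eq_top_of_not_le_normalizer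
    (H := (Subgroup.normalizer (T' : Set ↥(Cfsg.qdOver (ZMod p)))).map (MulAut.conj g).toMonoidHom)
    (hg' ▸ Subgroup.map_mono hSN) (fun hle' => ?_)
  · rwa [← Subgroup.map_top_of_surjective (MulAut.conj g).toMonoidHom (MulAut.conj g).surjective,
      (Subgroup.map_injective (f := (MulAut.conj g).toMonoidHom)
        (MulAut.conj g).injective).eq_iff] at h
  · refine hxS ?_
    have h1 := hle' (Subgroup.mem_map_of_mem (MulAut.conj g).toMonoidHom hx)
    rw [← hg', ← Subgroup.map_equiv_normalizer_eq _ (MulAut.conj g)] at h1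
    exact (Subgroup.mem_map_iff_mem (f := (MulAut.conj g).toMonoidHom)
      (MulAut.conj g).injective).1 h1

end Cfsg.Agent.S2763
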