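import Cfsg.Statements.S2772
import Cfsg.Agent.Lib.PGroup.IndexChain.TwoDihedral.Main

set_option autoImplicit false
open Cfsg

namespace Cfsg.Agent.S2772

open scoped Pointwise

/-- Sims' Theorem in local form: let H be a finite non-abelian simple group and G a maximal subgroup of H with C_G(O₂(G)) ≤ O₂(G), such that N_H(S) is not contained in G for a Sylow 2-subgroup S of G and G/O₂(G) is dihedral of order 2q for a prime q. Then G is isomorphic to the symmetric group of degree 4 or to its direct product with a group of order 2. -/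
theorem result {H : Type*} [Group H] [Finite H] [IsSimpleGroup H] (hna : ¬ IsMulCommutative H) (G : Subgroup H) (hG : IsCoatom G) (hchar : Subgroup.centralizer (Cfsg.pCore 2 ↥G : Set ↥G) ≤ Cfsg.pCore 2 ↥G) (S : Sylow 2 ↥G) (hN : ¬ Subgroup.normalizer (((S : Subgroup ↥G).map G.subtype : Subgroup H) : Set H) ≤ G) (q : ℕ) (hq : q.Prime) (hD : Nonempty (↥G ⧸ Cfsg.pCore 2 ↥G ≃* DihedralGroup q)) : Nonempty (↥G ≃* Equiv.Perm (Fin 4)) ∨ Nonempty (↥G ≃* Equiv.Perm (Fin 4) × Multiplicative (ZMod 2)) := by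
  classical
  haveI : Fact (Nat.Prime 2) := ⟨Nat.prime_two⟩
  haveI : NeZero q := ⟨hq.ne_zero⟩
  obtain ⟨e⟩ := hD
  haveI hQn : (Cfsg.pCore 2 ↥G).Normal := Subgroup.sSup_normal _ fun _ h => h.1
  have hidx : (Cfsg.pCore 2 ↥G).index = 2 * q := by
    rw [Subgroup.index, Nat.card_congr e.toEquiv, DihedralGroup.nat_card]
  have hQ : Cfsg.pCore 2 ↥G ≠ ⊥ := fun h => by
    have htop : (⊤ : Subgroup ↥G) ≤ Cfsg.pCore 2 ↥G := le_trans (fun a _ => by
      rw [Subgroup.mem_centralizer_iff]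
      intro b hb
      rw [SetLike.mem_coe, h, Subgroup.mem_bot] at hb
      rw [hb, one_mul, mul_one]) hchar
    rw [Subgroup.index_eq_one.2 (top_le_iff.1 htop)] at hidx
    have := hq.two_le
    omega
  have hGne : G ≠ ⊥ := by
    rintro rfl
    refine hQ ?_
    exact Subgroup.eq_bot_of_subsingleton _
  have hNG : ∀ R : Subgroup H, R ≤ G → R ≠ ⊥ → (R.subgroupOf G).Normal → Subgroup.normalizer (R : Set H) = G := by
    intro R hR hRne hn
    have hle := (Subgroup.normal_subgroupOf_iff_le_normalizer hR).1 hn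
    rcases hle.eq_or_lt with h | h
    · exact h.symm
    · haveI : R.Normal := Subgroup.normalizer_eq_top_iff.1 (hG.2 _ h)
      rcases IsSimpleGroup.eq_bot_or_eq_top_of_normal R inferInstance with h' | h'
      · exact absurd h' hRne
      · exact absurd (top_le_iff.1 (h' ▸ hR)) hG.1
  obtain ⟨y, hyN, hyG⟩ := SetLike.not_le_iff_exists.1 hN
  have hy : ∀ R R' : Subgroup H, R ≤ (S : Subgroup ↥G).map G.subtype → R' ≤ (S : Subgroup ↥G).map G.subtype →
      (R.subgroupOf G).Normal → (R'.subgroupOf G).Normal → MulAut.conj y • R = R' → R = ⊥ := by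
    intro R R' hR hR' hRn hR'n hRR'
    by_contra hne
    have hne' : R' ≠ ⊥ := fun h => hne (smul_left_cancel (MulAut.conj y) (by rw [hRR', h, Subgroup.smul_bot]))
    have h1 := hNG R (hR.trans (Subgroup.map_subtype_le _)) hne hRn
    have h2 := hNG R' (hR'.trans (Subgroup.map_subtype_le _)) hne' hR'n
    refine hyG ?_
    have hGn : Subgroup.normalizer (G : Set H) = G := by
      refine hNG G le_rfl hGne ?_
      rw [Subgroup.subgroupOf_self]
      infer_instance
    rw [← hGn]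
    refine CfsgLib.PGroup.IndexChain.TwoDihedral.mem_normalizer_of_smul (Subgroup.eq_of_le_of_card_ge ?_
      (CfsgLib.PGroup.IndexChain.card_smul _ _).ge)
    intro g hg
    obtain ⟨a, ha, rfl⟩ := (Subgroup.mem_smul_pointwise_iff_exists g _ G).1 hg
    rw [← h2]
    refine CfsgLib.PGroup.IndexChain.TwoDihedral.mem_normalizer_of_smul ?_
    have e' : MulAut.conj (MulAut.conj y • a) = MulAut.conj y * MulAut.conj a * (MulAut.conj y)⁻¹ := by
      ext z; simp [MulAut.smul_def, mul_assoc]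
    rw [e', ← hRR', mul_smul, mul_smul, inv_smul_smul,
      CfsgLib.PGroup.IndexChain.TwoDihedral.smul_eq_of_mem_normalizer (h1.ge ha)]
  have hsub : ((S : Subgroup ↥G).map G.subtype).subgroupOf G = S :=
    Subgroup.comap_map_eq_self_of_injective G.subtype_injective _
  have hSidx : ¬ 2 ∣ ((S : Subgroup ↥G).map G.subtype).relIndex G := by
    rw [Subgroup.relIndex, hsub]; exact S.not_dvd_index
  have hcore : Cfsg.oddCore ↥G = ⊥ := by
    haveI : (Cfsg.oddCore ↥G).Normal := Subgroup.sSup_normal _ fun _ h => h.1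
    have hd : Disjoint (Cfsg.pCore 2 ↥G) (Cfsg.oddCore ↥G) := Subgroup.disjoint_def.2 fun {a} h1 h2 => by
      obtain ⟨k, hk⟩ := CfsgLib.PGroup.isPGroup_pCore 2 ↥G ⟨a, h1⟩
      have h3 := CfsgLib.PGroup.IndexChain.TwoDihedral.odd_of_coprime_card (CfsgLib.PGroup.card_pPrimeCore_coprime 2) h2
      have h4 : orderOf a ∣ 2 ^ k := orderOf_dvd_of_pow_eq_one (congrArg Subtype.val hk)
      exact orderOf_eq_one_iff.1 (Nat.eq_one_of_dvd_coprimes
        (Nat.Coprime.pow_left k (Nat.coprime_two_left.2 h3)) h4 dvd_rfl)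
    refine le_bot_iff.1 fun g hg => ?_
    refine hd.le_bot ⟨hchar (Subgroup.mem_centralizer_iff.2 fun a ha => ?_), hg⟩
    exact (Subgroup.commute_of_normal_of_disjoint _ _ inferInstance inferInstance hd a g ha hg).eq
  rcases CfsgLib.PGroup.IndexChain.TwoDihedral.shape (H := G) (P := (S : Subgroup ↥G).map G.subtype) (y := y)
      hQ q hq.two_le ⟨e⟩ (Subgroup.map_subtype_le _) (S.isPGroup'.map _) hSidx
      (CfsgLib.PGroup.IndexChain.TwoDihedral.smul_eq_of_mem_normalizer hyN) hy with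
    ⟨-, habel, -⟩ | ⟨-, ⟨⟨f⟩⟩ | ⟨⟨f⟩⟩⟩
  · exfalso
    have hSQ : (S : Subgroup ↥G) ≤ Cfsg.pCore 2 ↥G := fun s hs => hchar (Subgroup.mem_centralizer_iff.2 fun a ha =>
      Subtype.ext (habel a ⟨a, CfsgLib.PGroup.pCore_le_sylow S ha, rfl⟩ s ⟨s, hs, rfl⟩).eq)
    have h := S.not_dvd_index
    rw [le_antisymm hSQ (CfsgLib.PGroup.pCore_le_sylow S), hidx] at h
    exact h (Dvd.intro q rfl)
  · exact Or.inl ⟨(QuotientGroup.quotientBot.symm.trans (QuotientGroup.quotientMulEquivOfEq hcore.symm)).trans f⟩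
  · exact Or.inr ⟨(QuotientGroup.quotientBot.symm.trans (QuotientGroup.quotientMulEquivOfEq hcore.symm)).trans f⟩

end Cfsg.Agent.S2772
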