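import Cfsg.Statements.S2781
import Cfsg.Agent.Lib.Fusion.Residual
import Cfsg.Agent.Lib.Fusion.Sylow

set_option autoImplicit false
open Cfsg
open scoped commutatorElement

namespace Cfsg.Agent.S2781

/-- Let H act faithfully by conjugation on the elementary abelian p-subgroup V of a finite group, let O^p(H) be the subgroup of H generated by its elements of order prime to p, and T a Sylow p-subgroup of O^p(H). If V is generated by the H-conjugates of C_V(T) (V is the smallest H-invariant subgroup containing C_V(T)), then V = [V, O^p(H)]·C_V(O^p(H)). -/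
theorem result {G : Type*} [Group G] [Finite G] {p : ℕ} [Fact p.Prime] (V H : Subgroup G) (hV : Cfsg.IsElementaryAbelian p V) (hHV : H ≤ Subgroup.normalizer (V : Set G)) (hf : H ⊓ Subgroup.centralizer (V : Set G) = ⊥) (R : Subgroup G) (hR : R = (Cfsg.pResidual p ↥H).map H.subtype) (S : Sylow p ↥R) (T : Subgroup G) (hT : T = ((S : Subgroup ↥R).map R.subtype)) (hgen : ∀ W : Subgroup G, H ≤ Subgroup.normalizer (W : Set G) → (V ⊓ Subgroup.centralizer ((T : Subgroup G) : Set G)) ≤ W → V ≤ W) : ⁅V, R⁆ ⊔ (V ⊓ Subgroup.centralizer ((R : Subgroup G) : Set G)) = V := by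
  classical
  obtain ⟨habel, hexp⟩ := hV
  haveI := habel
  have hRH : R ≤ H := hR.le.trans (Subgroup.map_subtype_le _)
  have hRV : R ≤ Subgroup.normalizer (V : Set G) := hRH.trans hHV
  have hRn : H ≤ Subgroup.normalizer (R : Set G) := by
    haveI := CfsgLib.Fusion.pResidual_normal (G := H) (p := p)
    intro h hh
    refine CfsgLib.Fusion.conjBy_eq_iff.1 (CfsgLib.Fusion.conjBy_eq_of_le
      (CfsgLib.Fusion.conjBy_le_iff.2 ?_))
    rw [hR]
    rintro _ ⟨x, hx, rfl⟩
    exact ⟨⟨h, hh⟩ * x * (⟨h, hh⟩ : H)⁻¹, Subgroup.Normal.conj_mem ‹_› x hx _, rfl⟩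
  have hTR : T ≤ R := hT.le.trans (Subgroup.map_subtype_le _)
  have hcV : ∀ g ∈ Subgroup.normalizer (V : Set G), ∀ v ∈ V, g * v * g⁻¹ ∈ V :=
    fun g hg v hv => (Subgroup.mem_normalizer_iff.1 hg v).1 hv
  set W0 := ⁅V, R⁆ with hW0
  have hW0V : W0 ≤ V := Subgroup.commutator_le.2 fun v hv r hr => by
    rw [commutatorElement_def, show v * r * v⁻¹ * r⁻¹ = v * (r * v⁻¹ * r⁻¹) by group]
    exact mul_mem hv (hcV r (hRV hr) _ (inv_mem hv))
  set D := V ⊓ Subgroup.centralizer (T : Set G) with hD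
  have hcomm : ∀ r ∈ R, ∀ w ∈ V, r * w * r⁻¹ * w⁻¹ ∈ W0 := fun r hr w hw => by
    rw [hW0, Subgroup.commutator_comm]
    simpa only [commutatorElement_def] using Subgroup.commutator_mem_commutator hr hw
  -- `W0 D` is invariant
  have hinv : ∀ n ∈ H, (∀ t ∈ T, n⁻¹ * t * n ∈ T) → ∀ w ∈ W0 ⊔ D, n * w * n⁻¹ ∈ W0 ⊔ D := by
    intro n hn hnT
    suffices h : CfsgLib.Fusion.conjBy n (W0 ⊔ D) ≤ W0 ⊔ D from
      fun w hw => h (CfsgLib.Fusion.conj_mem_conjBy hw)
    rw [CfsgLib.Fusion.conjBy, Subgroup.map_sup]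
    refine sup_le (le_sup_of_le_left ?_) (le_sup_of_le_right ?_)
    · rw [hW0, Subgroup.map_commutator]
      exact Subgroup.commutator_mono (CfsgLib.Fusion.conjBy_eq_iff.2 (hHV hn)).le
        (CfsgLib.Fusion.conjBy_eq_iff.2 (hRn hn)).le
    · rintro _ ⟨x, hx, rfl⟩
      refine ⟨hcV n (hHV hn) x hx.1, Subgroup.mem_centralizer_iff.2 fun t ht => ?_⟩
      have h1 := congrArg (fun z => n * z * n⁻¹)
        (Subgroup.mem_centralizer_iff.1 hx.2 _ (hnT t ht))
      simpa [mul_assoc] using h1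
  have hWV : W0 ⊔ D ≤ V := sup_le hW0V inf_le_left
  have hR' : ∀ r ∈ R, ∀ w ∈ W0 ⊔ D, r * w * r⁻¹ ∈ W0 ⊔ D := fun r hr w hw => by
    have h := mul_mem (Subgroup.mem_sup_left (T := D) (hcomm r hr w (hWV hw))) hw
    rwa [inv_mul_cancel_right] at h
  have hnorm : H ≤ Subgroup.normalizer ((W0 ⊔ D : Subgroup G) : Set G) := by
    intro h hh
    refine CfsgLib.Fusion.conjBy_eq_iff.1 (CfsgLib.Fusion.conjBy_eq_of_le
      (CfsgLib.Fusion.conjBy_le_iff.2 fun w hw => ?_))
    have hi : ¬ p ∣ T.relIndex R := by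
      rw [hT, Subgroup.relIndex, Subgroup.subgroupOf,
        Subgroup.comap_map_eq_self_of_injective R.subtype_injective]
      exact S.not_dvd_index
    have hTp : IsPGroup p T := by rw [hT]; exact S.2.map _
    obtain ⟨k, hk, hkT⟩ := CfsgLib.Fusion.exists_conj_le_of_not_dvd_relIndex hTp hTR hi
      (CfsgLib.Fusion.isPGroup_conjBy h hTp) (CfsgLib.Fusion.conjBy_le_iff.2 fun t ht =>
        (Subgroup.mem_normalizer_iff.1 (hRn hh) t).1 (hTR ht))
    rw [CfsgLib.Fusion.conjBy_conjBy] at hkT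
    have hkT' := CfsgLib.Fusion.conjBy_eq_of_le hkT
    have h1 := hinv (k * h) (mul_mem (hRH hk) hh) (fun t ht => by
      have := CfsgLib.Fusion.mem_conjBy.1 (hkT'.ge ht)
      simpa using this) w hw
    have h2 := hR' k⁻¹ (inv_mem hk) _ h1
    simpa [mul_assoc] using h2
  have hVW : V ≤ W0 ⊔ D := hgen _ hnorm le_sup_right
  refine le_antisymm (sup_le hW0V inf_le_left) (hVW.trans (sup_le le_sup_left ?_))
  rintro v ⟨hv, hvT⟩
  -- averaging
  letI : CommGroup V := { (inferInstance : Group V) with mul_comm := habel.1.1 }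
  let f : R → V := fun r => ⟨(r : G) * v * (r : G)⁻¹, hcV r (hRV r.2) v hv⟩
  have hf : ∀ (r : R) (s : R), s ∈ (S : Subgroup R) → f (r * s) = f r := fun r s hs => by
    refine Subtype.ext ?_
    have h1 := Subgroup.mem_centralizer_iff.1 hvT (s : G) (hT.ge ⟨s, hs, rfl⟩)
    show (r : G) * (s : G) * v * ((r : G) * (s : G))⁻¹ = (r : G) * v * (r : G)⁻¹
    rw [mul_assoc (r : G) (s : G) v, h1]
    group
  let F : R ⧸ (S : Subgroup R) → V := Quotient.lift f fun a b hab => by
    have := hf a (a⁻¹ * b) (QuotientGroup.leftRel_apply.1 hab)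
    rw [mul_inv_cancel_left] at this
    exact this.symm
  haveI : Fintype (R ⧸ (S : Subgroup R)) := Fintype.ofFinite _
  set z : V := ∏ q, F q with hz
  have hzR : (z : G) ∈ Subgroup.centralizer (R : Set G) := by
    refine Subgroup.mem_centralizer_iff.2 fun r hr => ?_
    let φ : V →* V := MonoidHom.mk' (fun w => ⟨r * (w : G) * r⁻¹, hcV r (hRV hr) w w.2⟩)
      fun a b => Subtype.ext (by simp [mul_assoc])
    have h1 : φ z = z := by
      rw [hz, map_prod]
      refine Fintype.prod_equiv (MulAction.toPerm (⟨r, hr⟩ : R)) _ _ fun q => ?_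
      induction q using QuotientGroup.induction_on with
      | _ a =>
        refine Subtype.ext ?_
        show r * ((a : G) * v * (a : G)⁻¹) * r⁻¹ = (r * (a : G)) * v * (r * (a : G))⁻¹
        group
    have h2 : r * (z : G) * r⁻¹ = (z : G) := congrArg Subtype.val h1
    exact mul_inv_eq_iff_eq_mul.1 h2
  have hzm : (z : G) * ((v ^ Fintype.card (R ⧸ (S : Subgroup R)) : G))⁻¹ ∈ W0 := by
    have h1 : (z * ((⟨v, hv⟩ : V) ^ Fintype.card (R ⧸ (S : Subgroup R)))⁻¹) ∈ W0.subgroupOf V := by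
      rw [hz, ← Finset.card_univ, ← Finset.prod_const, ← Finset.prod_inv_distrib,
        ← Finset.prod_mul_distrib]
      refine Subgroup.prod_mem _ fun q _ => ?_
      induction q using QuotientGroup.induction_on with
      | _ a => exact hcomm (a : G) a.2 v hv
    exact h1
  have hzD : (z : G) ∈ W0 ⊔ (V ⊓ Subgroup.centralizer (R : Set G)) :=
    Subgroup.mem_sup_right ⟨z.2, hzR⟩
  have hvm : v ^ Fintype.card (R ⧸ (S : Subgroup R)) ∈ W0 ⊔ (V ⊓ Subgroup.centralizer (R : Set G)) := by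
    have h1 := mul_mem (inv_mem (Subgroup.mem_sup_left
      (T := V ⊓ Subgroup.centralizer (R : Set G)) hzm)) hzD
    rwa [mul_inv_rev, inv_inv, inv_mul_cancel_right] at h1
  obtain ⟨k, hk⟩ := Nat.exists_mul_mod_eq_one_of_coprime (n := Fintype.card (R ⧸ (S : Subgroup R)))
    (k := p) ((Fact.out : p.Prime).coprime_iff_not_dvd.2 (by
      rw [← Nat.card_eq_fintype_card]; exact S.not_dvd_index)).symm (Fact.out : p.Prime).one_lt
  have h2 := pow_mem hvm k
  rw [← pow_mul, ← Nat.mod_add_div (_ * k) p, hk.2, pow_add, pow_one, pow_mul, hexp v hv, one_pow,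
    mul_one] at h2
  exact h2

end Cfsg.Agent.S2781
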