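import Cfsg.Statements.S2787
import Cfsg.Agent.Lib.QuadSimple.Main
-- import your own Cfsg.Agent.* helpers here

set_option autoImplicit false
open Cfsg

namespace Cfsg.Agent.S2787

/-- Let p be a prime and let H act by conjugation on the elementary abelian p-subgroup V of a finite group, irreducibly (no H-invariant subgroups of V other than 1 and V) and nontrivially, and suppose H/C_H(V) is isomorphic to PSL₂(F) for a field F with p^n elements, p^n odd, or p = 3 and H/C_H(V) is isomorphic to a Ree group ²G₂(3^(2m+1)), m ≥ 1. Then no subgroup A of H acting nontrivially on V acts quadratically: [V, A, A] = 1 forces [V, A] = 1. -/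
theorem result {G : Type*} [Group G] [Finite G] {p : ℕ} [Fact p.Prime] (V H : Subgroup G) (hV : Cfsg.IsElementaryAbelian p V) (hHV : H ≤ Subgroup.normalizer (V : Set G)) (hirr : ∀ U : Subgroup G, U ≤ V → H ≤ Subgroup.normalizer (U : Set G) → U = ⊥ ∨ U = V) (hnt : ¬ H ≤ Subgroup.centralizer (V : Set G)) [hn : ((Subgroup.centralizer (V : Set G)).subgroupOf H).Normal] (hq : (∃ (F : Type) (_ : Field F) (_ : Fintype F) (n : ℕ), Fintype.card F = p ^ n ∧ Odd (Fintype.card F) ∧ Nonempty (↥H ⧸ (Subgroup.centralizer (V : Set G)).subgroupOf H ≃* Matrix.ProjectiveSpecialLinearGroup (Fin 2) F)) ∨ (p = 3 ∧ Cfsg.Lie.IsoRee (↥H ⧸ (Subgroup.centralizer (V : Set G)).subgroupOf H))) (A : Subgroup G) (hA : A ≤ H) (hquad : ⁅⁅V, A⁆, A⁆ = ⊥) : ⁅V, A⁆ = ⊥ := by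
  by_contra hne
  have hp : p ≠ 2 := by
    rcases hq with ⟨F, _, _, n, hF, hodd, -⟩ | ⟨h3, -⟩
    · intro e
      subst e
      have hn0 : n ≠ 0 := by
        rintro rfl
        have := Fintype.one_lt_card (α := F)
        rw [hF] at this
        simp at this
      rw [hF, Nat.odd_pow_iff hn0] at hodd
      exact absurd hodd (by decide)
    · omega
  obtain ⟨a, haA, ha⟩ : ∃ a ∈ A, a ∉ Subgroup.centralizer (V : Set G) := by
    by_contra hall
    push Not at hall
    refine hne ?_
    rw [Subgroup.commutator_comm, Subgroup.commutator_eq_bot_iff_le_centralizer]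
    exact hall
  have hV1 : V ≠ ⊥ := by
    intro e
    refine ha (Subgroup.mem_centralizer_iff.2 fun v hv => ?_)
    rw [e, SetLike.mem_coe, Subgroup.mem_bot] at hv
    simp [hv]
  have hzle : Subgroup.zpowers a ≤ A := Subgroup.zpowers_le.2 haA
  have hqa : ⁅⁅V, Subgroup.zpowers a⁆, Subgroup.zpowers a⁆ = ⊥ :=
    le_bot_iff.1 (hquad ▸ Subgroup.commutator_mono (Subgroup.commutator_mono le_rfl hzle) hzle)
  obtain ⟨Y, φ, hφ⟩ := CfsgLib.QuadSimple.exists_slTwo_of_quadratic hp V H hV hHV
    (CfsgLib.QuadSimple.pCore_eq_bot_of_irreducible V H hV hHV hirr hV1) (hA haA) hqa ha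
  rcases hq with ⟨F, _, _, n, -, hodd, ⟨e⟩⟩ | ⟨-, K, _, _, m, -, hK, ⟨e⟩⟩
  · exact CfsgLib.QuadSimple.false_of_psl hodd hp (e.toMonoidHom.comp Y.subtype)
      (e.injective.comp Y.subtype_injective) φ hφ
  · exact CfsgLib.QuadSimple.false_of_ree hK hp (e.toMonoidHom.comp Y.subtype)
      (e.injective.comp Y.subtype_injective) φ hφ

end Cfsg.Agent.S2787
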