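import Cfsg.Statements.S2788
import Cfsg.Agent.Lib.ModBound.Linear
-- import your own Cfsg.Agent.* helpers here

set_option autoImplicit false
open Cfsg

namespace Cfsg.Agent.S2788

/-- Let H act faithfully by conjugation on the elementary abelian p-subgroup V of a finite group with H ≅ SL₂(F), F a field with p^n elements, S a Sylow p-subgroup of H, and A ≤ S a subgroup of order at least 3 acting quadratically on V ([V, A, A] = 1). Then |V/C_V(a)| ≥ p^n for every nonidentity a ∈ A. -/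
theorem result {G : Type*} [Group G] [Finite G] {p : ℕ} [Fact p.Prime] (V H : Subgroup G) (hV : Cfsg.IsElementaryAbelian p V) (hHV : H ≤ Subgroup.normalizer (V : Set G)) (hf : H ⊓ Subgroup.centralizer (V : Set G) = ⊥) {F : Type*} [Field F] [Fintype F] (n : ℕ) (hF : Fintype.card F = p ^ n) (hiso : Nonempty (↥H ≃* Matrix.SpecialLinearGroup (Fin 2) F)) (S : Sylow p ↥H) (T : Subgroup G) (hT : T = ((S : Subgroup ↥H).map H.subtype)) (A : Subgroup G) (hA : A ≤ T) (hA3 : 3 ≤ Nat.card A) (hquad : ⁅⁅V, A⁆, A⁆ = ⊥) : ∀ a ∈ A, a ≠ 1 → p ^ n ≤ ((V ⊓ Subgroup.centralizer ({a} : Set G))).relIndex V := by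
  intro a haA ha1
  classical
  haveI : CharP F p := charP_of_card_eq_prime_pow hF
  have hVp : IsPGroup p V := fun v => ⟨1, Subtype.ext (by simpa using hV.2 v v.2)⟩
  have haT : a ∈ T := hA haA
  rw [hT] at haT
  obtain ⟨⟨b, hbS⟩, hb, rfl⟩ : ∃ x : ↥H, x ∈ (S : Subgroup ↥H) ∧ (x : G) = a := haT
  have hb1 : (⟨b, hbS⟩ : ↥H) ≠ 1 := fun e => ha1 (congrArg Subtype.val e)
  have hn0 : n ≠ 0 := by
    rintro rfl
    have := Fintype.one_lt_card (α := F)
    rw [hF, pow_zero] at this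
    exact lt_irrefl _ this
  have hnot : b ∉ Subgroup.centralizer (V : Set G) := fun hc => by
    have h1 : b ∈ H ⊓ Subgroup.centralizer (V : Set G) := ⟨hbS, hc⟩
    rw [hf, Subgroup.mem_bot] at h1
    exact hb1 (Subtype.ext h1)
  by_cases hn1 : p ≠ 2 ∧ n = 1
  · rw [hn1.2, pow_one]
    exact CfsgLib.ModBound.prime_le_relIndex V hVp hnot
  · obtain ⟨e⟩ := hiso
    obtain ⟨r, e', hr, hrp, -, hmin, H'⟩ := CfsgLib.ModBound.sl_singer (F := F) (p := p) hF (by
      by_cases h2 : p = 2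
      · exact Or.inl ⟨h2, Nat.pos_of_ne_zero hn0⟩
      · exact Or.inr (by have := fun h => hn1 ⟨h2, h⟩; omega))
    obtain ⟨i, hi⟩ := S.isPGroup' ⟨⟨b, hbS⟩, hb⟩
    exact (CfsgLib.ModBound.bound_of_singer (p := p) V H hVp hHV hf e.toMonoidHom e.surjective
      ⟨r, e', hr, hrp, hmin, H'⟩ (a := ⟨b, hbS⟩)
      (fun h => hb1 (e.injective (h.trans (map_one e).symm)))
      ⟨i, by
        rw [← map_pow]
        have h1 : (⟨b, hbS⟩ : ↥H) ^ p ^ i = 1 := congrArg Subtype.val hi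
        rw [h1, map_one]⟩).2

end Cfsg.Agent.S2788
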