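import Cfsg.Agent.Lib.PGroup.HallWielandtControl
import Cfsg.Agent.Lib.Fusion.System.GroupFocal
import Cfsg.Agent.Lib.PGroup.FrattiniLe
import Cfsg.Agent.Lib.PGroup.RankTwoThree
import Cfsg.Statements.S2792
-- import your own Cfsg.Agent.* helpers here

set_option autoImplicit false
open Cfsg

namespace Cfsg.Agent.S2792

/-- Let S be a Sylow p-subgroup of the finite group G and W a subgroup of S weakly closed in S with respect to G. If S ∩ G' ≠ S ∩ (N_G(W))', then there are x ∈ S, z ∈ W and a maximal subgroup W₀ of W such that the iterated commutator [x, z; p−1] (with [x, z] = x⁻¹z⁻¹xz and [x, z; i+1] = [[x, z; i], z]) lies in W₀ but not in the Frattini subgroup of W₀; in particular [x, z; p−1] ≠ 1. -/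
theorem result {G : Type*} [Group G] [Finite G] {p : ℕ} [Fact p.Prime] (S : Sylow p G) (W : Subgroup G) (hW : Cfsg.IsWeaklyClosed W (S : Subgroup G)) (h : (S : Subgroup G) ⊓ commutator G ≠ (S : Subgroup G) ⊓ ⁅Subgroup.normalizer (W : Set G), Subgroup.normalizer (W : Set G)⁆) : ∃ x ∈ (S : Subgroup G), ∃ z ∈ W, ∃ W₀ : Subgroup ↥W, IsCoatom W₀ ∧ (fun y : G => y⁻¹ * z⁻¹ * y * z)^[p - 1] x ∈ W₀.map W.subtype ∧ (fun y : G => y⁻¹ * z⁻¹ * y * z)^[p - 1] x ∉ ((frattini ↥W₀).map W₀.subtype).map W.subtype := by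
  by_contra hcon
  push Not at hcon
  have hp := (Fact.out : p.Prime)
  set T := (S : Subgroup G) with hT
  have hTN := CfsgLib.HallWielandt.le_normalizer_of_weaklyClosed hW
  have heq := CfsgLib.HallWielandt.focal_eq_normalizer S W hW fun A _ hA => ?_
  · refine h (le_antisymm ((CfsgLib.Fusion.inf_commutator_le_focal_group S).trans
      (heq.le.trans (CfsgLib.Fusion.focal_subgroup_le_commutator hTN))) (inf_le_inf_left _ ?_))
    rw [commutator_def]
    exact Subgroup.commutator_mono le_top le_top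
  intro u z hz L hu hzL hrel hm φ
  set e := (CfsgLib.HallWielandt.eng z)^[p - 1] u with he
  have hcoe : (e : G) = (fun y : G => y⁻¹ * (z : G)⁻¹ * y * z)^[p - 1] (u : G) := by
    have hc : Function.Semiconj (fun x : T => (x : G)) (CfsgLib.HallWielandt.eng z)
        (CfsgLib.HallWielandt.eng (z : G)) := fun x => by simp [CfsgLib.HallWielandt.eng]
    exact hc.iterate_right (p - 1) u
  have hzW : (z : G) ∈ W := Subgroup.mem_subgroupOf.1 hz
  have heW : (e : G) ∈ W := by
    rw [he, show p - 1 = (p - 2) + 1 by have := hp.two_le; omega, Function.iterate_succ_apply']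
    set y := (CfsgLib.HallWielandt.eng z)^[p - 2] u
    show ((y⁻¹ * z⁻¹ * y * z : T) : G) ∈ W
    push_cast
    refine mul_mem ?_ hzW
    have := (Subgroup.mem_normalizer_iff.1 (hTN (inv_mem y.2)) (z : G)⁻¹).1 (inv_mem hzW)
    simpa using this
  set W₀ : Subgroup W := (L.map T.subtype).subgroupOf W with hW₀
  have hidx : W₀.index = p := by
    rw [hW₀, ← hrel]
    show (L.map T.subtype).relIndex W = _
    conv_lhs => rw [← inf_eq_left.2 hW.1, ← Subgroup.subgroupOf_map_subtype]
    exact Subgroup.relIndex_map_map_of_injective L _ T.subtype_injective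
  have hco : IsCoatom W₀ := CfsgLib.RankTwoThree.isCoatom_of_index hidx
  have hmem : (⟨(e : G), heW⟩ : W) ∈ W₀ := ⟨e, hm, rfl⟩
  obtain ⟨a', ⟨a, ha, rfl⟩, hae⟩ := hcon u u.2 z hzW W₀ hco (by
    rw [← hcoe]; exact ⟨⟨(e : G), heW⟩, hmem, rfl⟩)
  -- a homomorphism to `A` kills the Frattini subgroup
  let ψ : W₀ →* L :=
    { toFun := fun w => ⟨⟨((w : W) : G), hW.1 w.1.2⟩, by
        obtain ⟨l, hl, hle⟩ := w.2
        rwa [show (⟨((w : W) : G), hW.1 w.1.2⟩ : T) = l from Subtype.ext hle.symm]⟩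
      map_one' := rfl
      map_mul' := fun _ _ => rfl }
  have hker : frattini W₀ ≤ (φ.comp ψ).ker :=
    CfsgLib.FrattiniLe.frattini_le_of_pow_of_commutator (p := p)
      (fun x => MonoidHom.mem_ker.2 (by rw [map_pow]; exact hA _))
      (Abelianization.commutator_subset_ker _)
  refine Eq.trans (congrArg φ (Subtype.ext (Subtype.ext ?_))) (MonoidHom.mem_ker.1 (hker ha))
  rw [hcoe]
  exact hae.symm

end Cfsg.Agent.S2792
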