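import Cfsg.Statements.S2794
import Cfsg.Agent.Lib.CFun.FusionSection
import Cfsg.Agent.Lib.CFun.KFunctor
import Cfsg.Agent.Lib.Qd.QdGroup
import Cfsg.Agent.Lib.Fusion.System.QdConstrained

set_option autoImplicit false
open Cfsg
universe u

namespace Cfsg.Agent.S2794

open Matrix
open CfsgLib.Qd (affine affine_mul affine_inj affine_one mem_qd_iff up up_mul up_pow ext2 mul00 mul01 mul10 mul11 det2)
open CfsgLib.CFun CfsgLib.Fusion

variable {p : ℕ} [Fact p.Prime]

private theorem zj_induced {G : Type u} [Group G] [Finite G] (P : Subgroup G) :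
    Cfsg.inducedFunctor zjFun P = Cfsg.centerThompsonAOf P :=
  wSub_zjFun P

private theorem zj_isCharPFunctor (hp : p ≠ 2) :
    Cfsg.IsCharPFunctor.{u} p (zjFun : ∀ (A : Type u) [Group A], Subgroup A) :=
  ⟨(qdFunctor_zjFun hp).nontrivial, (qdFunctor_zjFun hp).natural⟩

private theorem qd_zj_not_strongAt (hp : p ≠ 2) {X : Type u} [Group X] [Finite X]
    (e : X ≃* ↥(Cfsg.qd p)) (T' : Sylow p X) : ¬ StrongAt zjFun (T' : Subgroup X) := by
  intro hSA'
  have hctl := ctrl_of_strongAt T' hSA'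
  let f : X →* Matrix.SpecialLinearGroup (Fin 3) (ZMod p) := (Cfsg.qd p).subtype.comp e.toMonoidHom
  have hf : Function.Injective f := (Cfsg.qd p).subtype_injective.comp e.injective
  have hfex : ∀ x, ∃ A w, f x = affine A w := fun x => (mem_qd_iff _).1 (e x).2
  choose lin tr hfx using hfex
  have hlm : ∀ x y, lin (x * y) = lin x * lin y := fun x y =>
    (affine_inj (by rw [← hfx, map_mul, hfx, hfx, affine_mul])).1
  let l : X →* Matrix.SpecialLinearGroup (Fin 2) (ZMod p) := MonoidHom.mk' lin hlm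
  have hsur : ∀ A w, ∃ x, f x = affine A w := fun A w =>
    ⟨e.symm ⟨_, (mem_qd_iff _).2 ⟨A, w, rfl⟩⟩, by simp [f]⟩
  have hlin : ∀ {x A w}, f x = affine A w → lin x = A := fun h =>
    (affine_inj ((hfx _).symm.trans h)).1
  have hup0 : up (0 : ZMod p) = 1 := by
    refine ext2 ?_ ?_ ?_ ?_ <;> simp [up]
  have haff_pow : ∀ (w : Fin 2 → ZMod p) (n : ℕ),
      (affine (1 : Matrix.SpecialLinearGroup (Fin 2) (ZMod p)) w) ^ n = affine 1 (n • w) := by
    intro w n
    induction n with
    | zero => rw [pow_zero, zero_smul, affine_one]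
    | succ n ih =>
      rw [pow_succ, ih, affine_mul, mul_one, Matrix.SpecialLinearGroup.coe_one, Matrix.one_mulVec,
        succ_nsmul]
  -- the Sylow subgroup
  let S0 : Subgroup X := (MonoidHom.range (MonoidHom.mk'
    (fun a : Multiplicative (ZMod p) => up a.toAdd) fun a b => (up_mul _ _).symm)).comap l
  have hS0mem : ∀ x, x ∈ S0 ↔ ∃ a, lin x = up a := fun x =>
    ⟨fun ⟨a, ha⟩ => ⟨a.toAdd, ha.symm⟩, fun ⟨a, ha⟩ => ⟨Multiplicative.ofAdd a, ha.symm⟩⟩
  have hS0p : IsPGroup p S0 := by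
    rintro ⟨x, hx⟩
    obtain ⟨a, ha⟩ := (hS0mem x).1 hx
    refine ⟨2, Subtype.ext (hf ?_)⟩
    show f (x ^ p ^ 2) = f 1
    have h1 : lin (x ^ p) = 1 := by
      show l (x ^ p) = 1
      rw [map_pow, show l x = up a from ha, up_pow, ZMod.natCast_self, zero_mul, hup0]
    rw [sq, pow_mul, map_pow, hfx (x ^ p), h1, haff_pow, ← Nat.cast_smul_eq_nsmul (ZMod p),
      ZMod.natCast_self, zero_smul, affine_one, map_one]
  -- elements normalizing `S0`
  have htri : ∀ x ∈ Subgroup.normalizer (S0 : Set X), (lin x).1 1 0 = 0 := by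
    intro x hx
    obtain ⟨u, hu⟩ := hsur (up 1) 0
    obtain ⟨c, hc⟩ := (hS0mem _).1 ((Subgroup.mem_normalizer_iff.1 hx u).1
      ((hS0mem u).2 ⟨1, hlin hu⟩))
    have h2 : lin x * up 1 = up c * lin x := by
      rw [← hc, ← hlin hu, ← hlm, ← hlm, inv_mul_cancel_right]
    have h3 := congrArg (fun M : Matrix.SpecialLinearGroup (Fin 2) (ZMod p) => M.1 1 1) h2
    simp only [mul11] at h3
    simpa [up] using h3
  obtain ⟨T, hTle⟩ := hS0p.exists_le_sylow
  have hTeq : (T : Subgroup X) = S0 := by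
    by_contra hne
    haveI := T.2.isNilpotent
    obtain ⟨x, hx, hxS⟩ := SetLike.exists_of_lt
      (CfsgLib.Fusion.lt_inf_normalizer hTle fun e => hne e.symm)
    obtain ⟨hxT, hxN⟩ := Subgroup.mem_inf.1 hx
    obtain ⟨k, hk⟩ := T.2 ⟨x, hxT⟩
    have h10 := htri x hxN
    set M := lin x
    have hpow : ∀ n : ℕ, (M ^ n).1 1 0 = 0 ∧ (M ^ n).1 0 0 = M.1 0 0 ^ n := by
      intro n
      induction n with
      | zero => simp
      | succ n ih =>
        obtain ⟨i1, i2⟩ := ih
        constructor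
        · rw [pow_succ, mul10, i1, h10]; ring
        · rw [pow_succ M, mul00, i2, h10, pow_succ]; ring
    have hk1 : M ^ p ^ k = 1 := by
      show l x ^ p ^ k = 1
      rw [← map_pow, show x ^ p ^ k = 1 from congrArg Subtype.val hk, map_one]
    have h00 : M.1 0 0 = 1 := by
      have h := (hpow (p ^ k)).2
      rw [hk1, ZMod.pow_card_pow] at h
      simpa using h.symm
    have h11 : M.1 1 1 = 1 := by
      have := det2 M
      rw [h00, h10, one_mul, mul_zero, sub_zero] at this
      exact this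
    exact hxS ((hS0mem x).2 ⟨M.1 0 1, ext2 (by simpa [up] using h00) (by simp [up, M])
      (by simpa [up] using h10) (by simpa [up] using h11)⟩)
  have hP : ∀ x, x ∈ l.ker ↔ lin x = 1 := fun x => MonoidHom.mem_ker
  let L : Subgroup X :=
    { carrier := {x | ∃ a c : ZMod p, f x = affine (up a) ![c, 0]}
      one_mem' := ⟨0, 0, by
        rw [map_one, hup0, show (![0, 0] : Fin 2 → ZMod p) = 0 by funext i; fin_cases i <;> rfl,
          affine_one]⟩
      mul_mem' := by
        rintro x y ⟨a, c, hx⟩ ⟨b, d, hy⟩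
        refine ⟨a + b, c + d, ?_⟩
        rw [map_mul, hx, hy, affine_mul, up_mul]
        congr 1
        funext i; fin_cases i <;> simp [up, Matrix.vecHead, Matrix.vecTail] <;> ring
      inv_mem' := by
        rintro x ⟨a, c, hx⟩
        refine ⟨-a, -c, ?_⟩
        rw [map_inv]
        refine inv_eq_of_mul_eq_one_right ?_
        rw [hx, affine_mul, up_mul, add_neg_cancel, hup0,
          show ![c, 0] + (up a).1 *ᵥ ![-c, 0] = (0 : Fin 2 → ZMod p) by
            funext i; fin_cases i <;> simp [up], affine_one] }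
  have hLmem : ∀ x, x ∈ L ↔ ∃ a c : ZMod p, f x = affine (up a) ![c, 0] := fun x => Iff.rfl
  have hLle : L ≤ S0 := fun x ⟨a, c, hx⟩ => (hS0mem x).2 ⟨a, hlin hx⟩
  have hPle : l.ker ≤ S0 := fun x hx => (hS0mem x).2 ⟨0, by rw [hup0]; exact (hP x).1 hx⟩
  have hLc : ∀ x ∈ L, ∀ y ∈ L, Commute x y := by
    rintro x ⟨a, c, hx⟩ y ⟨b, d, hy⟩
    refine hf ?_
    rw [map_mul, map_mul, hx, hy, affine_mul, affine_mul, up_mul, up_mul, add_comm a b]
    congr 1
    funext i; fin_cases i <;> simp [up, add_comm]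
  have hPc : ∀ x ∈ l.ker, ∀ y ∈ l.ker, Commute x y := by
    intro x hx y hy
    refine hf ?_
    rw [map_mul, map_mul, hfx x, hfx y, (hP x).1 hx, (hP y).1 hy, affine_mul, affine_mul,
      Matrix.SpecialLinearGroup.coe_one, Matrix.one_mulVec, Matrix.one_mulVec, add_comm]
  -- cardinalities
  have hcardS : Nat.card S0 = p * (p * p) := by
    let φ : ZMod p × (ZMod p × ZMod p) → S0 := fun t =>
      ⟨(hsur (up t.1) ![t.2.1, t.2.2]).choose,
        (hS0mem _).2 ⟨t.1, hlin (hsur (up t.1) ![t.2.1, t.2.2]).choose_spec⟩⟩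
    have hφ : ∀ t, f (φ t : X) = affine (up t.1) ![t.2.1, t.2.2] := fun t =>
      (hsur (up t.1) ![t.2.1, t.2.2]).choose_spec
    have hb : Function.Bijective φ := by
      refine ⟨fun s t h => ?_, fun x => ?_⟩
      · have h' := affine_inj ((hφ s).symm.trans ((congrArg (fun y : S0 => f (y : X)) h).trans (hφ t)))
        refine Prod.ext (CfsgLib.Qd.up_injective h'.1) (Prod.ext ?_ ?_)
        · simpa using congrFun h'.2 0
        · simpa using congrFun h'.2 1
      · obtain ⟨a, ha⟩ := (hS0mem _).1 x.2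
        refine ⟨(a, (tr (x : X) 0, tr (x : X) 1)), Subtype.ext (hf ?_)⟩
        rw [hφ, hfx (x : X), ha]
        congr 1
        funext i; fin_cases i <;> simp
    rw [← Nat.card_eq_of_bijective φ hb, Nat.card_prod, Nat.card_prod, Nat.card_zmod]
  have hcardK : Nat.card l.ker = p * p := by
    let φ : ZMod p × ZMod p → l.ker := fun t =>
      ⟨(hsur 1 ![t.1, t.2]).choose, (hP _).2 (hlin (hsur 1 ![t.1, t.2]).choose_spec)⟩
    have hφ : ∀ t, f (φ t : X) = affine 1 ![t.1, t.2] := fun t => (hsur 1 ![t.1, t.2]).choose_spec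
    have hb : Function.Bijective φ := by
      refine ⟨fun s t h => ?_, fun x => ?_⟩
      · have h' := affine_inj ((hφ s).symm.trans ((congrArg (fun y : l.ker => f (y : X)) h).trans (hφ t)))
        exact Prod.ext (by simpa using congrFun h'.2 0) (by simpa using congrFun h'.2 1)
      · refine ⟨(tr (x : X) 0, tr (x : X) 1), Subtype.ext (hf ?_)⟩
        rw [hφ, hfx (x : X), (hP _).1 x.2]
        congr 1
        funext i; fin_cases i <;> simp
    rw [← Nat.card_eq_of_bijective φ hb, Nat.card_prod, Nat.card_zmod]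
  have hcardL : Nat.card L = p * p := by
    let φ : ZMod p × ZMod p → L := fun t =>
      ⟨(hsur (up t.1) ![t.2, 0]).choose, t.1, t.2, (hsur (up t.1) ![t.2, 0]).choose_spec⟩
    have hφ : ∀ t, f (φ t : X) = affine (up t.1) ![t.2, 0] := fun t =>
      (hsur (up t.1) ![t.2, 0]).choose_spec
    have hb : Function.Bijective φ := by
      refine ⟨fun s t h => ?_, fun x => ?_⟩
      · have h' := affine_inj ((hφ s).symm.trans ((congrArg (fun y : L => f (y : X)) h).trans (hφ t)))
        exact Prod.ext (CfsgLib.Qd.up_injective h'.1) (by simpa using congrFun h'.2 0)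
      · obtain ⟨a, c, hx⟩ := (hLmem _).1 x.2
        exact ⟨(a, c), Subtype.ext (hf ((hφ _).trans hx.symm))⟩
    rw [← Nat.card_eq_of_bijective φ hb, Nat.card_prod, Nat.card_zmod]
  -- `S0` is not abelian
  have hna : ∀ B : Subgroup X, B ≤ S0 → IsMulCommutative B → Nat.card B ≤ p * p := by
    intro B hB hBc
    by_contra hlt
    push Not at hlt
    have hd : Nat.card B ∣ p ^ 3 := by
      rw [show p ^ 3 = Nat.card S0 by rw [hcardS]; ring]
      exact Subgroup.card_dvd_of_le hB
    obtain ⟨k, hk3, hk⟩ := (Nat.dvd_prime_pow (Fact.out : p.Prime)).1 hd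
    have hk' : k = 3 := by
      by_contra hne
      have : p ^ k ≤ p ^ 2 := Nat.pow_le_pow_right (Fact.out : p.Prime).pos (by omega)
      rw [pow_two] at this
      omega
    have hBS : B = S0 := Subgroup.eq_of_le_of_card_ge hB (by rw [hk, hk', hcardS]; exact le_of_eq (by ring))
    obtain ⟨x, hx⟩ := hsur (up 1) 0
    obtain ⟨y, hy⟩ := hsur 1 ![0, 1]
    have hxB : x ∈ B := hBS ▸ (hS0mem x).2 ⟨1, hlin hx⟩
    have hyB : y ∈ B := hBS ▸ hPle ((hP y).2 (hlin hy))
    have h1 := congrArg (fun z : B => f (z : X)) (hBc.is_comm.comm ⟨x, hxB⟩ ⟨y, hyB⟩)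
    simp only [Subgroup.coe_mul, map_mul, hx, hy, affine_mul] at h1
    have h2 := congrFun (affine_inj h1).2 0
    simp [up] at h2
  have hKmax : l.ker ∈ maxAb S0 := ⟨hPle, ⟨⟨fun x y => Subtype.ext (hPc _ x.2 _ y.2).eq⟩⟩,
    fun B hB hBc => hcardK ▸ hna B hB hBc⟩
  have hLmax : L ∈ maxAb S0 := ⟨hLle, ⟨⟨fun x y => Subtype.ext (hLc _ x.2 _ y.2).eq⟩⟩,
    fun B hB hBc => hcardL ▸ hna B hB hBc⟩
  have hW : Cfsg.inducedFunctor zjFun S0 = Cfsg.centerThompsonAOf S0 := zj_induced S0
  have hJle : Cfsg.thompsonSubgroupAOf S0 ≤ S0 := by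
    rw [thompsonSubgroupAOf_eq]; exact sSup_le fun A hA => hA.1
  have hzform : ∀ z ∈ Cfsg.centerThompsonAOf S0, ∃ c, f z = affine 1 ![c, 0] := by
    rintro z ⟨hzJ, hzC⟩
    obtain ⟨a, ha⟩ := (hS0mem z).1 (hJle hzJ)
    obtain ⟨y, hy⟩ := hsur 1 ![0, 1]
    obtain ⟨x, hx⟩ := hsur (up 1) 0
    have hmemJ : ∀ w, w ∈ l.ker ∨ w ∈ L → w ∈ Cfsg.thompsonSubgroupAOf S0 := by
      intro w hw
      rw [thompsonSubgroupAOf_eq]
      rcases hw with h | h
      · exact (le_sSup hKmax) h
      · exact (le_sSup hLmax) h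
    have hzy := congrArg f (Subgroup.mem_centralizer_iff.1 hzC y (hmemJ y (Or.inl ((hP y).2 (hlin hy)))))
    have hzx := congrArg f (Subgroup.mem_centralizer_iff.1 hzC x (hmemJ x (Or.inr
      ⟨1, 0, by rw [hx]; congr 1; funext i; fin_cases i <;> rfl⟩)))
    simp only [map_mul, hfx z, ha, hy, hx, affine_mul] at hzy hzx
    have h1 := congrFun (affine_inj hzy).2 0
    have h2 := congrFun (affine_inj hzx).2 0
    simp [up, Matrix.vecHead, Matrix.vecTail] at h1 h2
    refine ⟨tr z 0, ?_⟩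
    rw [hfx z, ha, h1, hup0]
    congr 1
    funext i; fin_cases i <;> simp [h2]
  obtain ⟨z, hzZ, hz1⟩ : ∃ z ∈ Cfsg.centerThompsonAOf S0, z ≠ 1 := by
    by_contra hcon
    push Not at hcon
    haveI : Nontrivial S0 := by
      refine Finite.one_lt_card_iff_nontrivial.1 ?_
      rw [hcardS]
      have := (Fact.out : p.Prime).one_lt
      nlinarith
    refine (zj_isCharPFunctor hp).1 S0 hS0p inferInstance ?_
    rw [← Subgroup.map_eq_bot_iff_of_injective _ S0.subtype_injective, eq_bot_iff]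
    intro z hz
    have hz' : z ∈ Cfsg.inducedFunctor zjFun S0 := hz
    rw [hW] at hz'
    exact Subgroup.mem_bot.2 (hcon z hz')
  obtain ⟨c, hzc⟩ := hzform z hzZ
  have hc0 : c ≠ 0 := by
    rintro rfl
    refine hz1 (hf ?_)
    rw [hzc, map_one, show (![0, 0] : Fin 2 → ZMod p) = 0 by funext i; fin_cases i <;> rfl, affine_one]
  -- the fusion not realised in the normalizer
  let J : Matrix.SpecialLinearGroup (Fin 2) (ZMod p) := ⟨!![0, -1; 1, 0], by simp [Matrix.det_fin_two]⟩
  obtain ⟨g, hg⟩ := hsur J 0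
  obtain ⟨v, hv⟩ := hsur 1 ![1, 0]
  obtain ⟨v', hv'⟩ := hsur 1 ![0, 1]
  have hgv : g * v * g⁻¹ = v' := by
    refine mul_inv_eq_iff_eq_mul.2 (hf ?_)
    rw [map_mul, map_mul, hg, hv, hv', affine_mul, affine_mul, mul_one, one_mul]
    congr 1
    funext i; fin_cases i <;> simp [J]
  have hSA := strongAt_of_ctrl (zj_isCharPFunctor hp) hctl T
  rw [hTeq] at hSA
  obtain ⟨x, hx, hxe⟩ := hSA {v} g (by
      rintro a rfl; exact hPle ((hP _).2 (hlin hv))) (by
      rintro a rfl; rw [hgv]; exact hPle ((hP _).2 (hlin hv')))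
  rw [hW] at hx
  obtain ⟨c', hc'⟩ := hzform _ ((Subgroup.mem_normalizer_iff.1 hx z).1 hzZ)
  rw [map_mul, map_mul, map_inv, hzc, mul_inv_eq_iff_eq_mul, hfx x, affine_mul, affine_mul] at hc'
  have h10 : (lin x).1 1 0 = 0 := by
    have := congrFun (affine_inj hc').2 1
    simpa [Matrix.vecHead, Matrix.vecTail, hc0] using this
  have h := hxe v rfl
  rw [hgv, mul_inv_eq_iff_eq_mul] at h
  have h' := congrArg f h
  rw [map_mul, map_mul, hfx x, hv, hv', affine_mul, affine_mul] at h'
  have h2 := congrFun (affine_inj h').2 1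
  simp [h10] at h2

private theorem main {G : Type u} [Group G] [Finite G] (hp : p ≠ 2) :
    ¬ Cfsg.Involves ↥(Cfsg.qd p) G ↔ ∀ (K R : Subgroup G) [hR : (R.subgroupOf K).Normal],
      ∀ T : Sylow p (K ⧸ R.subgroupOf K), Cfsg.ControlsStrongFusion p
        (Cfsg.centerThompsonAOf (T : Subgroup (K ⧸ R.subgroupOf K))) := by
  constructor
  · intro hfree K R hR T
    rw [← zj_induced]
    refine controlsStrongFusion_of_strongAt T (strongAt_of_ctrl (zj_isCharPFunctor hp)
      (strongCtrl_of_constrained (zj_isCharPFunctor hp) _ _ rfl fun Y _ _ hY hcon T' => ?_) T)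
    rw [zj_induced]
    refine centerThompsonAOf_normal hp hcon (fun P hPn hP => ?_) T' le_rfl
      (fun Q hQ g hg y hy => hQ ((Subgroup.mem_normalizer_iff.1 hg y).1 hy.2))
    by_contra hns
    obtain ⟨K', R', hR', ⟨e'⟩⟩ := hY
    haveI := hR'
    exact hfree (involves_of_injective K.subtype K.subtype_injective
      (involves_of_surjective (QuotientGroup.mk' (R.subgroupOf K)) (QuotientGroup.mk'_surjective _)
        (involves_of_injective K'.subtype K'.subtype_injective
          (involves_of_surjective (QuotientGroup.mk' (R'.subgroupOf K')) (QuotientGroup.mk'_surjective _)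
            (involves_of_injective e'.symm.toMonoidHom e'.symm.injective
              (CfsgLib.Qd.sections_of_not_isPStableOn hp P hP hns).1)))))
  · rintro h ⟨K, R, hR, ⟨e⟩⟩
    haveI := hR
    obtain ⟨T⟩ := (inferInstance : Nonempty (Sylow p (↥K ⧸ R.subgroupOf K)))
    refine qd_zj_not_strongAt hp e T (strongAt_of_controlsStrongFusion (zj_isCharPFunctor hp) T ?_)
    rw [zj_induced]
    exact h K R T


/-- For an odd prime p and a finite group G, the group Qd(p) is not involved in G if and only if in every section K/R of G, for every Sylow p-subgroup S* of K/R, the centre of J(S*) (J generated by the abelian subgroups of largest order) controls strong fusion in K/R. -/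
theorem result {G : Type*} [Group G] [Finite G] {p : ℕ} [Fact p.Prime] (hp : p ≠ 2) : ¬ Cfsg.Involves ↥(Cfsg.qd p) G ↔ ∀ (K R : Subgroup G) [hR : (R.subgroupOf K).Normal], ∀ T : Sylow p (K ⧸ R.subgroupOf K), Cfsg.ControlsStrongFusion p (Cfsg.centerThompsonAOf (T : Subgroup (K ⧸ R.subgroupOf K))) := by
  exact main hp

end Cfsg.Agent.S2794
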