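import Cfsg.Statements.S2804
import Cfsg.Agent.Lib.LocalStructure.Largest

set_option autoImplicit false
open Cfsg

namespace Cfsg.Agent.S2804

/-- Let L be a finite group and p a prime with C_L(O_p(L)) ≤ O_p(L), V a p-reduced normal subgroup of L and K a subnormal subgroup of L. Then [V, O^p(K)] is contained in K and is a p-reduced normal subgroup of K, where O^p(K) is the subgroup of K generated by its elements of order prime to p. -/
theorem result {L : Type*} [Group L] [Finite L] {p : ℕ} [Fact p.Prime] (hchar : Subgroup.centralizer (Cfsg.pCore p L : Set L) ≤ Cfsg.pCore p L) (V : Subgroup L) (hV : Cfsg.IsPReducedNormal p V) (K : Subgroup L) (hK : K.IsSubnormal) : ⁅V, (Cfsg.pResidual p ↥K).map K.subtype⁆ ≤ K ∧ Cfsg.IsPReducedNormal p ((⁅V, (Cfsg.pResidual p ↥K).map K.subtype⁆).subgroupOf K) := by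
  haveI := hV.1
  have hle := CfsgLib.LS.commutator_resOf_le (p := p) hV.2.1 hK
  refine ⟨hle, (CfsgLib.LS.reduced_in_subnormal hV hK ?_ hle ?_ ?_).1⟩
  · exact Subgroup.commutator_le_left V _
  · haveI := CfsgLib.Fusion.pResidual_normal (G := K) (p := p)
    refine Subgroup.le_normalizer_iff.2 fun k hk x hx => ?_
    have h := Subgroup.mem_map_of_mem (MulAut.conj k).toMonoidHom hx
    rw [Subgroup.map_commutator] at h
    refine Subgroup.commutator_mono ?_ ?_ h
    · rintro _ ⟨v, hv, rfl⟩
      exact hV.1.conj_mem v hv k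
    · rintro _ ⟨_, ⟨r, hr, rfl⟩, rfl⟩
      exact ⟨⟨k, hk⟩ * r * ⟨k, hk⟩⁻¹, (inferInstance : (Cfsg.pResidual p K).Normal).conj_mem r hr _,
        rfl⟩
  · intro x hx hc v hv
    rw [← commutatorElement_inv]
    exact inv_mem (Subgroup.commutator_mem_commutator hv (CfsgLib.LS.mem_resOf hx hc))

end Cfsg.Agent.S2804
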