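import Cfsg.Agent.Lib.Fusion.System.Yoshida
import Cfsg.Agent.Lib.Fusion.System.GroupFocal
import Cfsg.Statements.S2807
-- import your own Cfsg.Agent.* helpers here

set_option autoImplicit false
open Cfsg

namespace Cfsg.Agent.S2807

open scoped commutatorElement

/-- Let S be a Sylow p-subgroup of the finite group G. If S ∩ G' ≠ S ∩ (N_G(S))' (derived subgroups), then the wreath product Z_p ≀ Z_p — realised as a Sylow p-subgroup of the symmetric group of degree p² — is a homomorphic image of S. -/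
theorem result {G : Type*} [Group G] [Finite G] {p : ℕ} [Fact p.Prime] (S : Sylow p G) (h : (S : Subgroup G) ⊓ commutator G ≠ (S : Subgroup G) ⊓ ⁅Subgroup.normalizer ((S : Subgroup G) : Set G), Subgroup.normalizer ((S : Subgroup G) : Set G)⁆) : ∃ (P : Sylow p (Equiv.Perm (Fin (p ^ 2)))) (f : ↥(S : Subgroup G) →* ↥(P : Subgroup (Equiv.Perm (Fin (p ^ 2))))), Function.Surjective f := by
  have hp := (Fact.out : p.Prime)
  set T := (S : Subgroup G) with hT
  set N := Subgroup.normalizer (T : Set G) with hN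
  have hTN : T ≤ N := Subgroup.le_normalizer
  set F := Cfsg.groupFusionSystem T
  set H := Cfsg.fusionSystemOfSubgroup N T hTN
  have hFs : F.IsSaturated p := CfsgLib.Fusion.isSaturated_group S
  have hHF : H.IsSubsystemOf F := fun R φ ⟨hR, hS', g, _, hg⟩ => ⟨hR, hS', g, hg⟩
  have hi : ¬ p ∣ T.relIndex N :=
    fun hd => S.not_dvd_index (hd.trans (Subgroup.relIndex_dvd_index_of_le hTN))
  set L := (frattini T).map T.subtype ⊔ (T ⊓ ⁅N, N⁆) with hL
  set L' := L.subgroupOf T
  haveI : L'.Normal := CfsgLib.Fusion.normal_subgroupOf_of_derived_le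
    ((le_inf ((Subgroup.commutator_le).2 fun a ha b hb => mul_mem (mul_mem (mul_mem ha hb) (inv_mem ha)) (inv_mem hb))
      (Subgroup.commutator_mono hTN hTN)).trans le_sup_right)
  have hfrat : frattini T ≤ L' := fun a ha =>
    Subgroup.mem_subgroupOf.2 (Subgroup.mem_sup_left ⟨a, ha, rfl⟩)
  have hcomm : ∀ a b : T ⧸ L', a * b = b * a := by
    intro a b
    obtain ⟨a, rfl⟩ := QuotientGroup.mk_surjective a
    obtain ⟨b, rfl⟩ := QuotientGroup.mk_surjective b
    rw [← commutatorElement_eq_one_iff_mul_comm, ← QuotientGroup.mk'_apply, ← QuotientGroup.mk'_apply,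
      ← map_commutatorElement, QuotientGroup.mk'_apply, QuotientGroup.eq_one_iff]
    exact hfrat (CfsgLib.Coprime.commutator_le_frattini S.2
      (Subgroup.commutator_mem_commutator (Subgroup.mem_top a) (Subgroup.mem_top b)))
  letI : CommGroup (T ⧸ L') := { (inferInstance : Group (T ⧸ L')) with mul_comm := hcomm }
  refine CfsgLib.Fusion.Yoshida.wreath_of_transfer S.2 hFs (A := T ⧸ L') (fun a => ?_)
    (QuotientGroup.mk' L') (fun f hf x hx => ?_) ?_
  · obtain ⟨a, rfl⟩ := QuotientGroup.mk_surjective a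
    rw [← QuotientGroup.mk_pow, QuotientGroup.eq_one_iff]
    exact hfrat (CfsgLib.Coprime.pow_mem_frattini S.2 a)
  · obtain ⟨-, g, hg⟩ := CfsgLib.Fusion.isMap_group_iff.1 hf
    have hgN : g ∈ N := by
      refine Subgroup.mem_normalizer_iff_map_conj_eq.2 ?_
      refine Subgroup.eq_of_le_of_card_ge (Subgroup.map_le_iff_le_comap.2 fun z hz => (hg z hz).1) ?_
      rw [Subgroup.card_map_of_injective (MulEquiv.injective _)]
    rw [QuotientGroup.mk'_apply, QuotientGroup.mk'_apply, eq_comm, QuotientGroup.eq,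
      Subgroup.mem_subgroupOf]
    refine Subgroup.mem_sup_right (Subgroup.mem_inf.2 ⟨mul_mem (inv_mem x.2) hx, ?_⟩)
    show (x : G)⁻¹ * f x ∈ ⁅N, N⁆
    rw [(hg x x.2).2, show (x : G)⁻¹ * (g * (x : G) * g⁻¹) = ⁅(x : G)⁻¹, g⁆ by
      simp [commutatorElement_def, mul_assoc]]
    exact Subgroup.commutator_mem_commutator (inv_mem (hTN x.2)) hgN
  · by_contra hne
    have hle : F.focalSubgroup ≤ L := fun z hz => by
      by_contra hzL
      exact hne ⟨⟨z, CfsgLib.Fusion.focal_le_S hz⟩, hz, fun e =>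
        hzL (Subgroup.mem_subgroupOf.1 ((QuotientGroup.eq_one_iff _).1 e))⟩
    have hfH : T ⊓ ⁅N, N⁆ ≤ H.focalSubgroup :=
      CfsgLib.Fusion.inf_commutator_le_focal_subgroup hTN S.2 hi
    have heq := CfsgLib.Fusion.focal_eq_of_frattini_sup_eq S.2 hFs hHF
      (le_antisymm (sup_le le_sup_left (hle.trans (sup_le le_sup_left (hfH.trans le_sup_right))))
        (sup_le_sup_left (CfsgLib.Fusion.focal_mono hHF) _))
    refine h (le_antisymm ?_ (inf_le_inf_left _ ?_))
    · exact (CfsgLib.Fusion.inf_commutator_le_focal_group S).trans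
        (heq.le.trans (CfsgLib.Fusion.focal_subgroup_le_commutator hTN))
    · rw [commutator_def]
      exact Subgroup.commutator_mono le_top le_top

end Cfsg.Agent.S2807
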