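import Cfsg.Statements.S2809
import Cfsg.Agent.Lib.Coprime.Action
import Cfsg.Agent.Lib.Invol.PConstrained

set_option autoImplicit false
open Cfsg

namespace Cfsg.Agent.S2809

/-- Let H be a finite group, p a prime, R a p-subgroup of H with C_H(R) ≤ R, and L a subgroup of N_H(R) acting nilpotently on R (some iterated commutator [R, L, …, L] is trivial). Then L is a p-group. -/
theorem result {H : Type*} [Group H] [Finite H] {p : ℕ} [Fact p.Prime] (R : Subgroup H) (hR : IsPGroup p ↥R) (hC : Subgroup.centralizer (R : Set H) ≤ R) (L : Subgroup H) (hL : L ≤ Subgroup.normalizer (R : Set H)) (hnil : ∃ n : ℕ, Cfsg.iterCommutator R L n = ⊥) : IsPGroup p ↥L := by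
  obtain ⟨n, hn⟩ := hnil
  refine CfsgLib.Invol.isPGroup_of_coprime_trivial L fun y hy hc => ?_
  set A := Subgroup.zpowers y with hA
  have hAL : A ≤ L := Subgroup.zpowers_le.2 hy
  have hAR : A ≤ Subgroup.normalizer (R : Set H) := hAL.trans hL
  have hcop : (Nat.card A).Coprime (Nat.card R) := by
    obtain ⟨k, hk⟩ := hR.exists_card_eq
    rw [Nat.card_zpowers, hk]
    exact hc.pow_right k
  have hsol : Group.IsSolvable A ∨ Group.IsSolvable R :=
    Or.inl (CfsgLib.Coprime.isSolvable_of_isMulCommutative (inferInstance : IsMulCommutative A))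
  have hle : ∀ i, ⁅R, A⁆ ≤ Cfsg.iterCommutator R L i := by
    intro i
    induction i with
    | zero =>
      show ⁅R, A⁆ ≤ R
      exact le_sup_left.trans_eq (CfsgLib.Coprime.commutator_sup_centralizer hAR hcop hsol)
    | succ i ih =>
      rw [← CfsgLib.Coprime.commutator_commutator_eq hAR hcop hsol]
      exact Subgroup.commutator_mono ih hAL
  have hbot : ⁅R, A⁆ = ⊥ := le_bot_iff.1 (hn ▸ hle n)
  rw [Subgroup.commutator_eq_bot_iff_le_centralizer, Subgroup.le_centralizer_iff] at hbot
  exact CfsgLib.Invol.eq_one_of_coprime_of_isPGroup hR (hC (hbot (Subgroup.mem_zpowers y))) hc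

end Cfsg.Agent.S2809
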