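import Cfsg.Statements.S2810
import Cfsg.Agent.Lib.Coprime.Action
import Cfsg.Agent.Lib.Coprime.Core
import Cfsg.Agent.Lib.Invol.PConstrained

set_option autoImplicit false
open Cfsg

namespace Cfsg.Agent.S2810

/-- Let H be a finite group of characteristic p and L a subgroup of H centralizing every factor of some H-invariant chain 1 = A₀ ≤ A₁ ≤ … ≤ Aₙ = O_p(H) of normal subgroups (that is, [A_{i+1}, L] ≤ Aᵢ for each i). Then L ≤ O_p(H). -/
theorem result {H : Type*} [Group H] [Finite H] {p : ℕ} [Fact p.Prime] (hchar : Subgroup.centralizer (Cfsg.pCore p H : Set H) ≤ Cfsg.pCore p H) (L : Subgroup H) (n : ℕ) (A : Fin (n + 1) → Subgroup H) (h0 : A 0 = ⊥) (hn : A (Fin.last n) = Cfsg.pCore p H) (hmono : Monotone A) (hnorm : ∀ i, (A i).Normal) (hcent : ∀ i : Fin n, ⁅A i.succ, L⁆ ≤ A i.castSucc) : L ≤ Cfsg.pCore p H := by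
  classical
  haveI : ∀ i, (A i).Normal := hnorm
  haveI := CfsgLib.Coprime.pCore_normal' (G := H) p
  set Q := Cfsg.pCore p H with hQ
  let K : Subgroup H := ⨅ i : Fin n, ((Subgroup.centralizer
    (((A i.succ).map (QuotientGroup.mk' (A i.castSucc))) : Set _)).comap
      (QuotientGroup.mk' (A i.castSucc)))
  have hKn : K.Normal := by
    refine Subgroup.normal_iInf_normal fun i => ?_
    haveI := hnorm i.castSucc
    haveI := hnorm i.succ
    haveI : ((A i.succ).map (QuotientGroup.mk' (A i.castSucc))).Normal :=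
      Subgroup.Normal.map inferInstance _ (QuotientGroup.mk'_surjective _)
    exact Subgroup.Normal.comap inferInstance _
  have hmem : ∀ x : H, x ∈ K ↔ ∀ i : Fin n, ∀ a ∈ A i.succ, a * x * a⁻¹ * x⁻¹ ∈ A i.castSucc := by
    intro x
    simp only [K, Subgroup.mem_iInf, Subgroup.mem_comap, Subgroup.mem_centralizer_iff]
    refine forall_congr' fun i => ⟨fun hh a ha => ?_, fun hh b hb => ?_⟩
    · have := hh _ ⟨a, ha, rfl⟩
      rw [← QuotientGroup.eq_one_iff, ← QuotientGroup.mk'_apply, map_mul, map_mul, map_mul, map_inv, map_inv, this]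
      group
    · obtain ⟨a, ha, rfl⟩ := hb
      have := hh a ha
      rw [← QuotientGroup.eq_one_iff, ← QuotientGroup.mk'_apply, map_mul, map_mul, map_mul, map_inv, map_inv, mul_inv_eq_one, mul_inv_eq_iff_eq_mul] at this
      exact this
  have hLK : L ≤ K := fun x hx => (hmem x).2 fun i a ha =>
    hcent i (Subgroup.commutator_mem_commutator ha hx)
  refine hLK.trans (CfsgLib.Coprime.le_pCore (hN := hKn) (CfsgLib.Invol.isPGroup_of_coprime_trivial K fun y hy hc => ?_))
  have hfix : ∀ i : Fin (n + 1), ∀ a ∈ A i, Commute a y := by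
    intro i
    induction i using Fin.induction with
    | zero => intro a ha; rw [h0, Subgroup.mem_bot] at ha; subst ha; exact Commute.one_left y
    | succ i ih =>
      have hAn : Subgroup.zpowers y ≤ Subgroup.normalizer (A i.succ : Set H) := by
        haveI := hnorm i.succ
        rw [Subgroup.normalizer_eq_top]; exact le_top
      have hAp : IsPGroup p (A i.succ) := (CfsgLib.Coprime.pCore_isPGroup (G := H) p).to_le
        ((hmono (Fin.le_last i.succ)).trans hn.le)
      obtain ⟨k, hk⟩ := hAp.exists_card_eq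
      have hcop : (Nat.card (Subgroup.zpowers y)).Coprime (Nat.card (A i.succ)) := by
        rw [Nat.card_zpowers, hk]; exact hc.pow_right k
      have hle : Subgroup.zpowers y ≤ Subgroup.centralizer ((A i.succ : Subgroup H) : Set H) := by
        refine CfsgLib.Coprime.le_centralizer_of_le_centralizer_commutator hAn hcop
          (Or.inl (CfsgLib.Coprime.isSolvable_of_isMulCommutative (inferInstance : IsMulCommutative (Subgroup.zpowers y)))) ?_
        rw [Subgroup.zpowers_le, Subgroup.mem_centralizer_iff]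
        intro c hc'
        refine ih c ?_
        have hle2 : ⁅A i.succ, Subgroup.zpowers y⁆ ≤ A i.castSucc := Subgroup.commutator_le.2 fun a ha z hz =>
          (hmem z).1 ((Subgroup.zpowers_le.2 hy : Subgroup.zpowers y ≤ K) hz) i a ha
        exact hle2 hc'
      exact fun a ha => Subgroup.mem_centralizer_iff.1 (hle (Subgroup.mem_zpowers y)) a ha
  refine CfsgLib.Invol.eq_one_of_coprime_of_isPGroup (CfsgLib.Coprime.pCore_isPGroup (G := H) p) (hchar ?_) hc
  exact Subgroup.mem_centralizer_iff.2 fun a ha => hfix (Fin.last n) a (hn ▸ ha)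

end Cfsg.Agent.S2810
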