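import Cfsg.Statements.S2812
import Cfsg.Agent.Lib.LocalStructure.FStar

set_option autoImplicit false
open Cfsg

namespace Cfsg.Agent.S2812

/-- Let H be a subgroup of the finite group G with O_p(H) = 1, Y a p-subgroup of G normalizing H, and L a subgroup of the generalized Fitting subgroup F*(H) that is subnormal in H and normalized by Y. Then L = [L, Y]·C_L(Y) and [L, Y] = [L, Y, Y]. -/
theorem result {G : Type*} [Group G] [Finite G] {p : ℕ} [Fact p.Prime] (H : Subgroup G) (hO : Cfsg.pCore p ↥H = ⊥) (Y : Subgroup G) (hY : IsPGroup p ↥Y) (hYH : Y ≤ Subgroup.normalizer (H : Set G)) (L : Subgroup G) (hLF : L ≤ (Cfsg.generalizedFittingSubgroup ↥H).map H.subtype) (hLsn : (L.subgroupOf H).IsSubnormal) (hYL : Y ≤ Subgroup.normalizer (L : Set G)) : ⁅L, Y⁆ ⊔ (L ⊓ Subgroup.centralizer (Y : Set G)) = L ∧ ⁅L, Y⁆ = ⁅⁅L, Y⁆, Y⁆ := by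
  have hLH : L ≤ H := hLF.trans (Subgroup.map_subtype_le _)
  have hle : L.subgroupOf H ≤ Cfsg.generalizedFittingSubgroup ↥H := by
    intro x hx
    obtain ⟨y, hy, hyx⟩ := hLF (Subgroup.mem_subgroupOf.1 hx)
    exact (Subtype.ext hyx : y = x) ▸ hy
  have hF := CfsgLib.LS.fstar_eq_top hLsn hle
  have hO' := CfsgLib.LS.pCore_eq_bot_of_subnormal hO hLsn
  refine CfsgLib.LS.fstar_splitting hY hYL ?_ ?_
  · rw [← CfsgLib.Coprime.map_generalizedFitting_equiv (Subgroup.subgroupOfEquivOfLe hLH), hF]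
    exact Subgroup.map_top_of_surjective _ (Subgroup.subgroupOfEquivOfLe hLH).surjective
  · rw [← CfsgLib.Coprime.map_pCore_equiv (Subgroup.subgroupOfEquivOfLe hLH) p, hO']
    exact Subgroup.map_bot _

end Cfsg.Agent.S2812
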