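import Cfsg.Statements.S2813
import Cfsg.Agent.Lib.LocalStructure.Basic

set_option autoImplicit false
open Cfsg

namespace Cfsg.Agent.S2813

/-- Let K be a subgroup of the finite group H with O_p(K) = 1 and Y a p-subgroup of N_H(K) with [K, Y, Y] = 1. Then [K, Y] = 1. -/
theorem result {H : Type*} [Group H] [Finite H] {p : ℕ} [Fact p.Prime] (K : Subgroup H) (hO : Cfsg.pCore p ↥K = ⊥) (Y : Subgroup H) (hY : IsPGroup p ↥Y) (hYK : Y ≤ Subgroup.normalizer (K : Set H)) (hq : ⁅⁅K, Y⁆, Y⁆ = ⊥) : ⁅K, Y⁆ = ⊥ := by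
  open scoped commutatorElement in
  set M := ⁅K, Y⁆ with hM
  have hMK : M ≤ K := Subgroup.le_normalizer_iff_commutator_le_left.1 hYK
  have hKM : K ≤ Subgroup.normalizer (M : Set H) := Subgroup.normalizer_commutator_ge_left K Y
  have h1 : ⁅⁅M, Y⁆, K⁆ = ⊥ := by rw [hq, Subgroup.commutator_bot_left]
  have h2 : ⁅⁅K, M⁆, Y⁆ = ⊥ := le_bot_iff.1 (hq ▸
    Subgroup.commutator_mono (Subgroup.le_normalizer_iff_commutator_le_right.1 hKM) le_rfl)
  have hab : ⁅M, M⁆ = ⊥ := by
    have h3 := Subgroup.commutator_commutator_eq_bot_of_rotate (H₁ := Y) (H₂ := K) (H₃ := M) h2 h1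
    rwa [Subgroup.commutator_comm Y K] at h3
  have hcomm : ∀ m ∈ M, ∀ m' ∈ M, Commute m m' := fun m hm m' hm' =>
    Subgroup.commutator_eq_bot_iff_le_centralizer.1 hab hm m' hm' |>.symm
  -- the generators have `p`-power order
  have hpow : ∀ k ∈ K, ∀ y ∈ Y, ∃ a : ℕ, ⁅y, k⁆ ^ p ^ a = 1 := by
    intro k hk y hy
    obtain ⟨a, ha⟩ := hY ⟨y, hy⟩
    have hya : y ^ p ^ a = 1 := congrArg Subtype.val ha
    have hm : ⁅y, k⁆ ∈ M := by rw [hM, Subgroup.commutator_comm K Y]; exact Subgroup.commutator_mem_commutator hy hk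
    have hfix : y * ⁅y, k⁆ * y⁻¹ = ⁅y, k⁆ := by
      have := Subgroup.commutator_eq_bot_iff_le_centralizer.1 hq hm y hy
      rw [this, mul_inv_cancel_right]
    have h : ∀ n : ℕ, y ^ n * k * (y ^ n)⁻¹ = ⁅y, k⁆ ^ n * k := by
      intro n
      induction n with
      | zero => simp
      | succ n ih =>
        calc y ^ (n + 1) * k * (y ^ (n + 1))⁻¹ = y * (y ^ n * k * (y ^ n)⁻¹) * y⁻¹ := by
              rw [pow_succ']; group
          _ = (y * ⁅y, k⁆ * y⁻¹) ^ n * (y * k * y⁻¹) := by rw [ih, conj_pow]; group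
          _ = ⁅y, k⁆ ^ n * (⁅y, k⁆ * k) := by
              rw [hfix]; congr 1; simp only [commutatorElement_def]; group
          _ = ⁅y, k⁆ ^ (n + 1) * k := by rw [pow_succ, mul_assoc]
    have := h (p ^ a)
    rw [hya] at this
    exact ⟨a, by simpa using this.symm⟩
  have hMp : IsPGroup p M := by
    have hgen : ∀ x ∈ M, ∃ a : ℕ, x ^ p ^ a = 1 := by
      intro x hx
      change x ∈ Subgroup.closure _ at hx
      induction hx using Subgroup.closure_induction with
      | mem z hz =>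
        obtain ⟨k, hk, y, hy, rfl⟩ := hz
        obtain ⟨a, ha⟩ := hpow k hk y hy
        exact ⟨a, by rw [← commutatorElement_inv, inv_pow, ha, inv_one]⟩
      | one => exact ⟨0, by simp⟩
      | mul u v hu hv iu iv =>
        obtain ⟨a, ha⟩ := iu
        obtain ⟨b, hb⟩ := iv
        exact ⟨a + b, by rw [(hcomm u hu v hv).mul_pow, pow_add, pow_mul, ha, one_pow, one_mul,
          mul_comm, pow_mul, hb, one_pow]⟩
      | inv u _ iu =>
        obtain ⟨a, ha⟩ := iu
        exact ⟨a, by rw [inv_pow, ha, inv_one]⟩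
    intro x
    obtain ⟨a, ha⟩ := hgen x x.2
    exact ⟨a, Subtype.ext (by simpa using ha)⟩
  haveI : (M.subgroupOf K).Normal := (Subgroup.normal_subgroupOf_iff_le_normalizer hMK).2 hKM
  have := CfsgLib.Coprime.le_pCore (N := M.subgroupOf K) (hMp.of_equiv (Subgroup.subgroupOfEquivOfLe hMK).symm)
  rw [hO, le_bot_iff, Subgroup.subgroupOf_eq_bot] at this
  exact le_bot_iff.1 fun x hx => this.le_bot ⟨hx, hMK hx⟩

end Cfsg.Agent.S2813
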