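import Cfsg.Statements.S2814
import Cfsg.Agent.Lib.LocalStructure.Minimal

set_option autoImplicit false
open Cfsg

namespace Cfsg.Agent.S2814

/-- Let A be a subgroup of the finite group H and K the subnormal closure of A (intersection of the subnormal subgroups containing A). Then K is the normal closure of A inside K and N_H(A) ≤ N_H(K); K = A·O^p(K), O^p(K) being generated by the elements of K of order prime to p; and if A is a p-group, O^p(K) = [O^p(K), A]. -/
theorem result {H : Type*} [Group H] [Finite H] {p : ℕ} [Fact p.Prime] (A : Subgroup H) (K : Subgroup H) (hK : K = Cfsg.subnormalClosure A) : (Subgroup.normalClosure ((A.subgroupOf K : Subgroup ↥K) : Set ↥K)).map K.subtype = K ∧ Subgroup.normalizer (A : Set H) ≤ Subgroup.normalizer (K : Set H) ∧ A ⊔ (Cfsg.pResidual p ↥K).map K.subtype = K ∧ (IsPGroup p ↥A → ⁅(Cfsg.pResidual p ↥K).map K.subtype, A⁆ = (Cfsg.pResidual p ↥K).map K.subtype) := by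
  subst hK
  set K := Cfsg.subnormalClosure A with hK
  have hAK : A ≤ K := le_sInf fun B hB => hB.1
  have hKsn : K.IsSubnormal := by
    rw [hK, Cfsg.subnormalClosure]
    have hfin := Set.toFinite {B : Subgroup H | A ≤ B ∧ B.IsSubnormal}
    have key : ∀ s ⊆ {B : Subgroup H | A ≤ B ∧ B.IsSubnormal}, (sInf s).IsSubnormal := by
      intro s hs
      induction s, s.toFinite using Set.Finite.induction_on with
      | empty => rw [sInf_empty]; exact Subgroup.IsSubnormal.top
      | @insert a t _ _ ih =>
        rw [sInf_insert]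
        exact (hs (Set.mem_insert a t)).2.inf (ih fun x hx => hs (Set.mem_insert_of_mem a hx))
    exact key _ subset_rfl
  have hmin : ∀ N : Subgroup K, A.subgroupOf K ≤ N → N.IsSubnormal → N.map K.subtype = K := by
    intro N hle hN
    refine le_antisymm (Subgroup.map_subtype_le _) (sInf_le ⟨?_, Subgroup.IsSubnormal.trans' hN hKsn⟩)
    rw [← Subgroup.map_subgroupOf_eq_of_le hAK]
    exact Subgroup.map_mono hle
  haveI hRn := CfsgLib.Fusion.pResidual_normal (G := K) (p := p)
  set R := Cfsg.pResidual p K with hR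
  set A' := A.subgroupOf K with hA'
  have h3 : R ⊔ A' = ⊤ := by
    refine Subgroup.map_injective K.subtype_injective ?_
    rw [← MonoidHom.range_eq_map, Subgroup.range_subtype]
    refine hmin _ le_sup_right ?_
    have hp := CfsgLib.Fusion.isPGroup_quotient_pResidual R (le_refl R)
    haveI := hp.isNilpotent
    have := (CfsgLib.PGroup.isSubnormal_of_isNilpotent (A'.map (QuotientGroup.mk' R))).comap
      (QuotientGroup.mk' R)
    rwa [Subgroup.comap_map_eq, QuotientGroup.ker_mk', sup_comm] at this
  refine ⟨hmin _ Subgroup.le_normalClosure (Subgroup.Normal.isSubnormal inferInstance), ?_, ?_, ?_⟩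
  · refine Subgroup.le_normalizer_iff.2 fun g hg x hx => ?_
    have hle : CfsgLib.Coprime.conjBy g K ≥ K := by
      refine sInf_le ⟨?_, CfsgLib.Coprime.isSubnormal_conjBy hKsn g⟩
      exact (CfsgLib.Coprime.conjBy_eq_self_iff.2 hg).ge.trans (Subgroup.map_mono hAK)
    rw [Subgroup.eq_of_le_of_card_ge hle (CfsgLib.Coprime.card_conjBy g K).le]
    exact CfsgLib.Coprime.conj_mem_conjBy hx
  · calc A ⊔ R.map K.subtype = (A' ⊔ R).map K.subtype := by
          rw [Subgroup.map_sup, Subgroup.map_subgroupOf_eq_of_le hAK]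
      _ = K := by rw [sup_comm, h3, ← MonoidHom.range_eq_map, Subgroup.range_subtype]
  · intro hAp
    have hA'p : IsPGroup p A' := hAp.comap_subtype
    set D := ⁅R, A'⁆ with hD
    have hDR : D ≤ R := Subgroup.commutator_le_left R A'
    haveI : D.Normal := by
      rw [← Subgroup.normalizer_eq_top_iff, eq_top_iff, ← h3]
      exact sup_le (Subgroup.normalizer_commutator_ge_left R A')
        (Subgroup.normalizer_commutator_ge_right R A')
    haveI : (D ⊔ A').Normal := by
      rw [← Subgroup.normalizer_eq_top_iff, eq_top_iff, ← h3]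
      refine sup_le (Subgroup.le_normalizer_iff.2 fun r hr x hx => ?_)
        (le_sup_right.trans Subgroup.le_normalizer)
      obtain ⟨d, hd, a, ha, rfl⟩ := Subgroup.mem_sup_of_normal_left.1 hx
      rw [show r * (d * a) * r⁻¹ = (r * d * r⁻¹) * ((r * a * r⁻¹ * a⁻¹) * a) by group]
      exact mul_mem (Subgroup.mem_sup_left ((inferInstance : D.Normal).conj_mem d hd r))
        (mul_mem (Subgroup.mem_sup_left (Subgroup.commutator_mem_commutator hr ha))
          (Subgroup.mem_sup_right ha))
    have htop : D ⊔ A' = ⊤ := by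
      refine Subgroup.map_injective K.subtype_injective ?_
      rw [hmin _ le_sup_right (Subgroup.Normal.isSubnormal inferInstance), ← MonoidHom.range_eq_map,
        Subgroup.range_subtype]
    have hRD : R ≤ D := CfsgLib.LS.pResidual_le fun g hg => by
      obtain ⟨d, hd, a, ha, rfl⟩ := Subgroup.mem_sup_of_normal_left.1
        (htop ▸ Subgroup.mem_top g : g ∈ D ⊔ A')
      obtain ⟨n, hn⟩ := hA'p ⟨a, ha⟩
      refine CfsgLib.LS.mem_of_coprime_of_pow_mem hg (k := n) ((QuotientGroup.eq_one_iff _).1 ?_)
      rw [QuotientGroup.mk_pow, QuotientGroup.mk_mul, (QuotientGroup.eq_one_iff d).2 hd, one_mul,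
        ← QuotientGroup.mk_pow, show a ^ p ^ n = 1 from congrArg Subtype.val hn,
        QuotientGroup.mk_one]
    conv_lhs => arg 2; rw [← Subgroup.map_subgroupOf_eq_of_le hAK]
    rw [← Subgroup.map_commutator, ← hA', ← hD, le_antisymm hDR hRD]

end Cfsg.Agent.S2814
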