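import Cfsg.Statements.S2815
import Cfsg.Agent.Lib.LocalStructure.FStar

set_option autoImplicit false
open Cfsg

namespace Cfsg.Agent.S2815

/-- Let H be a finite group and p a prime dividing its order with O_p(H) = 1, and suppose K = O^p(H) (generated by the elements of order prime to p) is quasisimple. Then K = F*(H); for every nontrivial p-subgroup Y of H, K = [K, Y] and K lies in the subgroup generated by the K-conjugates of Y; every normal subgroup of H not containing K has order prime to p; and H is p-irreducible. -/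
theorem result {H : Type*} [Group H] [Finite H] {p : ℕ} [Fact p.Prime] (hp : p ∣ Nat.card H) (hO : Cfsg.pCore p H = ⊥) (hq : Cfsg.IsQuasisimple ↥(Cfsg.pResidual p H)) : Cfsg.pResidual p H = Cfsg.generalizedFittingSubgroup H ∧ (∀ Y : Subgroup H, IsPGroup p ↥Y → Y ≠ ⊥ → ⁅Cfsg.pResidual p H, Y⁆ = Cfsg.pResidual p H ∧ Cfsg.pResidual p H ≤ ⨆ k : ↥(Cfsg.pResidual p H), Y.map (MulAut.conj (k : H)).toMonoidHom) ∧ (∀ C : Subgroup H, C.Normal → ¬ Cfsg.pResidual p H ≤ C → (Nat.card ↥C).Coprime p) ∧ Cfsg.IsPIrreducible p H := by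
  set R := Cfsg.pResidual p H with hRdef
  haveI hRn : R.Normal := CfsgLib.Fusion.pResidual_normal
  have hRc : Cfsg.IsComponent R := ⟨Subgroup.Normal.isSubnormal hRn, hq⟩
  have hRR : ⁅R, R⁆ = R := CfsgLib.Coprime.commutator_self_of_isComponent hRc
  -- the centralizer of `R` has order prime to `p` and lies in `R`
  have hnil : Group.IsNilpotent ↥(Subgroup.centralizer (R : Set H)) := by
    haveI : Group.IsNilpotent (H ⧸ R) :=
      (CfsgLib.Fusion.isPGroup_quotient_pResidual (p := p) R le_rfl).isNilpotent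
    refine Subgroup.isNilpotent_of_ker_le_center
      ((QuotientGroup.mk' R).comp (Subgroup.centralizer (R : Set H)).subtype) ?_
    intro x hx
    rw [MonoidHom.mem_ker, MonoidHom.comp_apply, QuotientGroup.mk'_apply,
      QuotientGroup.eq_one_iff] at hx
    exact Subgroup.mem_center_iff.2 fun y =>
      Subtype.ext (Subgroup.mem_centralizer_iff.1 y.2 _ hx).symm
  have hcop : (Nat.card ↥(Subgroup.centralizer (R : Set H))).Coprime p :=
    CfsgLib.LS.coprime_of_nilpotent_normal hO hnil
  have hCR : Subgroup.centralizer (R : Set H) ≤ R := fun x hx =>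
    CfsgLib.Fusion.mem_pResidual
      (hcop.coprime_dvd_left (Subgroup.orderOf_dvd_natCard _ hx))
  have hsmall : ∀ N : Subgroup H, N.IsSubnormal → N ≤ R → N = R ∨
      N ≤ Subgroup.centralizer (R : Set H) := fun N hN hle =>
    (CfsgLib.Coprime.eq_or_le_center_of_le_component hRc hN hle).imp_right
      (CfsgLib.Coprime.subgroupOf_le_center hle)
  refine ⟨le_antisymm ?_ (sup_le ?_ ?_), ?_, ?_, ?_, ?_⟩
  · exact (CfsgLib.Coprime.component_le_layer hRc).trans le_sup_left
  · refine sSup_le fun K hK => ?_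
    by_cases h : K = R
    · exact h.le
    · exact (Subgroup.commutator_eq_bot_iff_le_centralizer.1
        (CfsgLib.Coprime.components_commute hK hRc h)).trans hCR
  · intro x hx
    exact CfsgLib.Fusion.mem_pResidual
      ((CfsgLib.LS.coprime_fitting hO).coprime_dvd_left (Subgroup.orderOf_dvd_natCard _ hx))
  · intro Y hY hY1
    have hle : ⁅R, Y⁆ ≤ R := Subgroup.commutator_le_left _ _
    have heq : ⁅R, Y⁆ = R := by
      have hsn : (⁅R, Y⁆).IsSubnormal := Subgroup.IsSubnormal.step _ R hle hRc.1
        ((Subgroup.normal_subgroupOf_iff_le_normalizer hle).2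
          (Subgroup.normalizer_commutator_ge_left R Y))
      refine (hsmall _ hsn hle).resolve_right fun hc => hY1 ?_
      have h2 : ⁅⁅R, Y⁆, R⁆ = ⊥ := Subgroup.commutator_eq_bot_iff_le_centralizer.2 hc
      have h3 : ⁅⁅R, R⁆, Y⁆ = ⊥ := Subgroup.commutator_commutator_eq_bot_of_rotate h2
        (by rw [Subgroup.commutator_comm Y]; exact h2)
      rw [hRR, Subgroup.commutator_comm, Subgroup.commutator_eq_bot_iff_le_centralizer] at h3
      exact CfsgLib.LS.eq_bot_of_coprime hY h3 hcop
    refine ⟨heq, ?_⟩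
    calc R = ⁅R, Y⁆ := heq.symm
      _ ≤ _ := by
        rw [Subgroup.commutator_le]
        intro r hr y hy
        rw [commutatorElement_def]
        refine mul_mem ?_ (inv_mem ?_)
        · exact Subgroup.mem_iSup_of_mem (⟨r, hr⟩ : R) (Subgroup.mem_map_of_mem _ hy)
        · refine Subgroup.mem_iSup_of_mem (1 : R) ⟨y, hy, ?_⟩
          simp
  · intro C hC hRC
    haveI := hC
    have h1 : C ⊓ R ≤ Subgroup.centralizer (R : Set H) :=
      (hsmall _ (Subgroup.Normal.isSubnormal inferInstance) inf_le_right).resolve_left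
        fun e => hRC (e ▸ inf_le_left)
    have h2 : ⁅C, R⁆ ≤ C ⊓ R :=
      le_inf (Subgroup.commutator_le_left _ _) (Subgroup.commutator_le_right _ _)
    have h3 : ⁅⁅R, C⁆, R⁆ = ⊥ := by
      rw [Subgroup.commutator_comm R C, Subgroup.commutator_eq_bot_iff_le_centralizer]
      exact h2.trans h1
    have h4 : ⁅⁅R, R⁆, C⁆ = ⊥ := Subgroup.commutator_commutator_eq_bot_of_rotate h3
      (by rw [Subgroup.commutator_comm C]; exact h3)
    rw [hRR, Subgroup.commutator_comm, Subgroup.commutator_eq_bot_iff_le_centralizer] at h4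
    exact hcop.coprime_dvd_left (Subgroup.card_dvd_of_le h4)
  · intro hcl
    obtain ⟨P⟩ : Nonempty (Sylow p H) := inferInstance
    haveI := hcl P
    have hP : (P : Subgroup H) ≤ ⊥ := hO ▸ CfsgLib.Coprime.le_pCore P.isPGroup'
    have h1 := P.dvd_card_of_dvd_card hp
    rw [le_bot_iff.1 hP, Subgroup.card_bot] at h1
    exact (Fact.out : p.Prime).one_lt.ne' (Nat.dvd_one.1 h1)
  · intro N hN hnc
    by_contra hRN
    haveI := hN
    refine hnc fun P => ?_
    have hcopN : (Nat.card N).Coprime p := by
      have h1 : N ⊓ R ≤ Subgroup.centralizer (R : Set H) :=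
        (hsmall _ (Subgroup.Normal.isSubnormal inferInstance) inf_le_right).resolve_left
          fun e => hRN (e.symm.le.trans inf_le_left)
      have h3 : ⁅⁅R, N⁆, R⁆ = ⊥ := by
        rw [Subgroup.commutator_eq_bot_iff_le_centralizer]
        exact (le_inf (Subgroup.commutator_le_right _ _) (Subgroup.commutator_le_left _ _)).trans h1
      have h4 : ⁅⁅R, R⁆, N⁆ = ⊥ := Subgroup.commutator_commutator_eq_bot_of_rotate h3
        (by rw [Subgroup.commutator_comm N]; exact h3)
      rw [hRR, Subgroup.commutator_comm, Subgroup.commutator_eq_bot_iff_le_centralizer] at h4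
      exact hcop.coprime_dvd_left (Subgroup.card_dvd_of_le h4)
    have hP : (P : Subgroup N) = ⊥ :=
      CfsgLib.LS.eq_bot_of_coprime (P.isPGroup') le_top (by rw [Subgroup.card_top]; exact hcopN)
    rw [hP]
    infer_instance

end Cfsg.Agent.S2815
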