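import Cfsg.Statements.S2816
import Cfsg.Agent.Lib.LocalStructure.FStar

set_option autoImplicit false
open Cfsg

namespace Cfsg.Agent.S2816

/-- Let H be a finite group and p a prime with O_p(H) = 1, and Y a p-subgroup of H. Then for every subnormal subgroup K of H containing Y, [F*(H), Y] = [F*(K), Y] = [F*(K), Y, Y]; and if Y₀ ≤ Y with [F*(H), Y, Y₀] = 1 then Y₀ = 1 (in particular [F*(H), Y] = 1 forces Y = 1). -/
theorem result {H : Type*} [Group H] [Finite H] {p : ℕ} [Fact p.Prime] (hO : Cfsg.pCore p H = ⊥) (Y : Subgroup H) (hY : IsPGroup p ↥Y) : (∀ K : Subgroup H, K.IsSubnormal → Y ≤ K → ⁅Cfsg.generalizedFittingSubgroup H, Y⁆ = ⁅(Cfsg.generalizedFittingSubgroup ↥K).map K.subtype, Y⁆ ∧ ⁅(Cfsg.generalizedFittingSubgroup ↥K).map K.subtype, Y⁆ = ⁅⁅(Cfsg.generalizedFittingSubgroup ↥K).map K.subtype, Y⁆, Y⁆) ∧ (∀ Y₀ : Subgroup H, Y₀ ≤ Y → ⁅⁅Cfsg.generalizedFittingSubgroup H, Y⁆, Y₀⁆ = ⊥ → Y₀ = ⊥) := by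
  haveI := CfsgLib.Coprime.generalizedFitting_normal (G := H)
  have hsn : (Cfsg.generalizedFittingSubgroup H).IsSubnormal :=
    Subgroup.Normal.isSubnormal inferInstance
  obtain ⟨hsup, hcc⟩ := CfsgLib.LS.fstar_splitting (G := H) hY
    (by rw [Subgroup.normalizer_eq_top]; exact le_top)
    (CfsgLib.LS.fstar_eq_top hsn le_rfl) (CfsgLib.LS.pCore_eq_bot_of_subnormal hO hsn)
  have hle : ⁅Cfsg.generalizedFittingSubgroup H, Y⁆ ≤ Cfsg.generalizedFittingSubgroup H :=
    Subgroup.commutator_le_left _ _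
  refine ⟨fun K hK hYK => ?_, fun Y₀ hY₀ h0 => ?_⟩
  · have hKF := CfsgLib.LS.generalizedFitting_inf_subnormal hK
    have h1 : ⁅Cfsg.generalizedFittingSubgroup H, Y⁆ ≤
        (Cfsg.generalizedFittingSubgroup ↥K).map K.subtype := by
      rw [← hKF]
      exact le_inf hle (CfsgLib.LS.commutator_fstar_le hO hY hK hYK)
    have h2 : (Cfsg.generalizedFittingSubgroup ↥K).map K.subtype ≤
        Cfsg.generalizedFittingSubgroup H := by
      rw [← hKF]; exact inf_le_left
    have heq : ⁅Cfsg.generalizedFittingSubgroup H, Y⁆ =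
        ⁅(Cfsg.generalizedFittingSubgroup ↥K).map K.subtype, Y⁆ := by
      refine le_antisymm ?_ (Subgroup.commutator_mono h2 le_rfl)
      rw [hcc]
      exact Subgroup.commutator_mono h1 le_rfl
    exact ⟨heq, by rw [← heq]; exact hcc⟩
  · have hc : Y₀ ≤ Subgroup.centralizer (Cfsg.generalizedFittingSubgroup H : Set H) := by
      rw [Subgroup.le_centralizer_iff, ← hsup]
      refine sup_le (Subgroup.commutator_eq_bot_iff_le_centralizer.1 h0) (inf_le_right.trans ?_)
      exact Subgroup.centralizer_le (SetLike.coe_subset_coe.2 hY₀)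
    exact CfsgLib.LS.eq_bot_of_coprime (hY.to_le hY₀) hc (CfsgLib.LS.coprime_centralizer_fstar hO)

end Cfsg.Agent.S2816
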