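import Cfsg.Statements.S2818
import Cfsg.Agent.Lib.PGroup.FrattiniLe
import Cfsg.Agent.Lib.Coprime.Action

set_option autoImplicit false
open Cfsg

namespace Cfsg.Agent.S2818

/-- Let P be a finite p-subgroup of a group G and H a subgroup of N_G(P) with [P, H] ≤ Ω₁(Z(P)) (the elements of order dividing p in the centre of P). Then H centralizes the Frattini subgroup of P. -/
theorem result {G : Type*} [Group G] [Finite G] {p : ℕ} [Fact p.Prime] (P : Subgroup G) (hP : IsPGroup p ↥P) (H : Subgroup G) (hH : H ≤ Subgroup.normalizer (P : Set G)) (h : ⁅P, H⁆ ≤ Cfsg.omegaOne p (P ⊓ Subgroup.centralizer (P : Set G))) : ⁅(frattini ↥P).map P.subtype, H⁆ = ⊥ := by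
  rw [Subgroup.commutator_eq_bot_iff_le_centralizer]
  set Z := P ⊓ Subgroup.centralizer (P : Set G) with hZdef
  have hw : ∀ x ∈ P, ∀ g ∈ H, x * g * x⁻¹ * g⁻¹ ∈ Z ∧ (x * g * x⁻¹ * g⁻¹) ^ p = 1 := by
    have hΩ : Cfsg.omegaOne p Z ≤ ({ carrier := {z | z ∈ Z ∧ z ^ p = 1}
                                     one_mem' := ⟨one_mem _, one_pow _⟩
                                     mul_mem' := fun {a b} ha hb => ⟨mul_mem ha.1 hb.1, by
                                       rw [Commute.mul_pow (Subgroup.mem_centralizer_iff.1 hb.1.2 a ha.1.1), ha.2, hb.2, one_mul]⟩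
                                     inv_mem' := fun {a} ha => ⟨inv_mem ha.1, by rw [inv_pow, ha.2, inv_one]⟩ } : Subgroup G) :=
      (Subgroup.closure_le _).2 fun z hz => hz
    exact fun x hx g hg => hΩ (h (Subgroup.commutator_mem_commutator hx hg))
  have hconj : ∀ x ∈ P, ∀ g ∈ H, g * x⁻¹ * g⁻¹ ∈ P := fun x hx g hg =>
    (Subgroup.mem_normalizer_iff.1 (hH hg) _).1 (inv_mem hx)
  rintro _ ⟨x, hx, rfl⟩
  revert hx x
  show ∀ x : P, x ∈ frattini P → (x : G) ∈ Subgroup.centralizer (H : Set G)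
  suffices hle : frattini P ≤ (Subgroup.centralizer (H : Set G)).subgroupOf P from fun x hx => hle hx
  refine CfsgLib.FrattiniLe.frattini_le_of_pow_of_commutator (p := p) (fun x => ?_) ?_
  · refine Subgroup.mem_centralizer_iff.2 fun g hg => ?_
    obtain ⟨hz, hzp⟩ := hw x x.2 g hg
    set z := (x : G) * g * (x : G)⁻¹ * g⁻¹ with hzd
    have e : g * (x : G) * g⁻¹ = z⁻¹ * x := by rw [hzd]; group
    have hc : Commute z⁻¹ (x : G) := Commute.inv_left (Subgroup.mem_centralizer_iff.1 hz.2 x x.2).symm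
    rw [map_pow, Subgroup.coe_subtype]
    refine mul_inv_eq_iff_eq_mul.1 ?_
    rw [← conj_pow, e, hc.mul_pow, inv_pow, hzp, inv_one, one_mul]
  · rw [commutator_def, Subgroup.commutator_le]
    intro a _ b _
    refine Subgroup.mem_centralizer_iff.2 fun g hg => mul_inv_eq_iff_eq_mul.1 ?_
    have ha := (hw a a.2 g hg).1.2
    have hb := (hw b b.2 g hg).1.2
    set u := (a : G) * g * (a : G)⁻¹ * g⁻¹ with hu
    set v := (b : G) * g * (b : G)⁻¹ * g⁻¹ with hv
    have huP := (hw a a.2 g hg).1.1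
    have hvP := (hw b b.2 g hg).1.1
    have cv : ∀ w ∈ P, w * v⁻¹ = v⁻¹ * w := fun w hw' => (Commute.inv_right (Subgroup.mem_centralizer_iff.1 hb w hw'))
    have cu : ∀ w ∈ P, w * u⁻¹ = u⁻¹ * w := fun w hw' => (Commute.inv_right (Subgroup.mem_centralizer_iff.1 ha w hw'))
    have cu' : ∀ w ∈ P, w * u = u * w := fun w hw' => Subgroup.mem_centralizer_iff.1 ha w hw'
    have cv' : ∀ w ∈ P, w * v = v * w := fun w hw' => Subgroup.mem_centralizer_iff.1 hb w hw'
    show g * ((a : G) * b * (a : G)⁻¹ * (b : G)⁻¹) * g⁻¹ = (a : G) * b * (a : G)⁻¹ * (b : G)⁻¹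
    have ea : g * (a : G) * g⁻¹ = u⁻¹ * a := by rw [hu]; group
    have eb : g * (b : G) * g⁻¹ = v⁻¹ * b := by rw [hv]; group
    calc g * ((a : G) * b * (a : G)⁻¹ * (b : G)⁻¹) * g⁻¹
        = (g * a * g⁻¹) * (g * b * g⁻¹) * (g * a * g⁻¹)⁻¹ * (g * b * g⁻¹)⁻¹ := by group
      _ = u⁻¹ * ((a : G) * v⁻¹) * b * (a : G)⁻¹ * (u * (b : G)⁻¹) * v := by rw [ea, eb]; group
      _ = u⁻¹ * (v⁻¹ * a) * b * (a : G)⁻¹ * ((b : G)⁻¹ * u) * v := by rw [cv a a.2, ← cu' _ (inv_mem b.2)]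
      _ = u⁻¹ * v⁻¹ * ((a : G) * b * (a : G)⁻¹ * (b : G)⁻¹ * (u * v)) := by group
      _ = u⁻¹ * v⁻¹ * ((u * v) * ((a : G) * b * (a : G)⁻¹ * (b : G)⁻¹)) := by
          have hm : (a : G) * b * (a : G)⁻¹ * (b : G)⁻¹ ∈ P := mul_mem (mul_mem (mul_mem a.2 b.2) (inv_mem a.2)) (inv_mem b.2)
          rw [← mul_assoc _ u v, cu' _ hm, mul_assoc u, cv' _ hm, ← mul_assoc u]
      _ = (a : G) * b * (a : G)⁻¹ * (b : G)⁻¹ := by
          rw [show u * v = v * u from cv' u huP]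
          group

end Cfsg.Agent.S2818
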