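import Cfsg.Statements.S2819
import Cfsg.Agent.Lib.LocalStructure.FStar
import Cfsg.Agent.Lib.LocalStructure.Basic
import Cfsg.Agent.Lib.PGroup.FrattiniLe

set_option autoImplicit false
open Cfsg

namespace Cfsg.Agent.S2819

/-- Let P be a finite p-subgroup of a group G, H a subgroup of N_G(P), and Y a subgroup of H centralizing the derived subgroup P' such that [P, Y] is elementary abelian. Then O^p(⟨Y^H⟩), the subgroup of the normal closure of Y in H generated by its elements of order prime to p, centralizes the Frattini subgroup of P. -/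
theorem result {G : Type*} [Group G] [Finite G] {p : ℕ} [Fact p.Prime] (P : Subgroup G) (hP : IsPGroup p ↥P) (H : Subgroup G) (hH : H ≤ Subgroup.normalizer (P : Set G)) (Y : Subgroup G) (hYH : Y ≤ H) (hYc : Y ≤ Subgroup.centralizer ((⁅P, P⁆ : Subgroup G) : Set G)) (hel : Cfsg.IsElementaryAbelian p ⁅P, Y⁆) (NY : Subgroup G) (hNY : NY = (Subgroup.normalClosure ((Y.subgroupOf H : Subgroup ↥H) : Set ↥H)).map H.subtype) : (Cfsg.pResidual p ↥NY).map NY.subtype ≤ Subgroup.centralizer (((frattini ↥P).map P.subtype : Subgroup G) : Set G) := by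
  subst hNY
  set P' : Subgroup G := ⁅P, P⁆ with hP'
  set Φ : Subgroup G := (frattini ↥P).map P.subtype with hΦ
  have hP'P : P' ≤ P := Subgroup.commutator_le.2 fun a ha b hb =>
    mul_mem (mul_mem (mul_mem ha hb) (inv_mem ha)) (inv_mem hb)
  have hΦP : Φ ≤ P := Subgroup.map_subtype_le _
  -- `H` normalises both subgroups
  have hHΦ : H ≤ Subgroup.normalizer (Φ : Set G) :=
    hH.trans (CfsgLib.LS.normalizer_le_normalizer_map_char (frattini ↥P))
  have hP'm : P' = (commutator ↥P).map P.subtype := by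
    rw [Subgroup.map_subtype_commutator]
  have hHP' : H ≤ Subgroup.normalizer (P' : Set G) := by
    rw [hP'm]
    exact hH.trans (CfsgLib.LS.normalizer_le_normalizer_map_char (commutator ↥P))
  have hPP' : ∀ w ∈ P, ∀ z ∈ P', w * z * w⁻¹ ∈ P' := by
    intro w hw z hz
    rw [hP'm] at hz ⊢
    obtain ⟨z', hz', rfl⟩ := hz
    exact ⟨⟨w, hw⟩ * z' * ⟨w, hw⟩⁻¹, Subgroup.Normal.conj_mem inferInstance z' hz' _, rfl⟩
  -- elements of `Y` act trivially on `Φ` modulo `P'`
  have hY : ∀ y ∈ Y, ∀ w ∈ Φ, y * w * y⁻¹ * w⁻¹ ∈ P' := by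
    intro y hy
    have hyN := Subgroup.mem_normalizer_iff.1 (hH (hYH hy))
    let F : Subgroup ↥P :=
      { carrier := {w | y * (w : G) * y⁻¹ * (w : G)⁻¹ ∈ P'}
        one_mem' := by simp
        mul_mem' := fun {a b} ha hb => by
          show y * ((a : G) * b) * y⁻¹ * ((a : G) * b)⁻¹ ∈ P'
          have h := mul_mem ha (hPP' a a.2 _ hb)
          convert h using 1
          group
        inv_mem' := fun {a} ha => by
          show y * (a : G)⁻¹ * y⁻¹ * (a : G)⁻¹⁻¹ ∈ P'
          have h := inv_mem (hPP' (a : G)⁻¹ (inv_mem a.2) _ ha)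
          convert h using 1
          group }
    have hF : frattini ↥P ≤ F := by
      refine CfsgLib.FrattiniLe.frattini_le_of_pow_of_commutator (p := p) (fun x => ?_) ?_
      · show y * ((x ^ p : ↥P) : G) * y⁻¹ * ((x ^ p : ↥P) : G)⁻¹ ∈ P'
        let c : ↥P := ⟨y * (x : G) * y⁻¹ * (x : G)⁻¹, mul_mem ((hyN x).1 x.2) (inv_mem x.2)⟩
        have hc : (c : G) ^ p = 1 := by
          have hm : (c : G) ∈ ⁅P, Y⁆ :=
            Subgroup.commutator_comm Y P ▸ Subgroup.commutator_mem_commutator hy x.2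
          exact hel.2 (c : G) hm
        have hk : (c * x) ^ p * (x ^ p)⁻¹ ∈ commutator ↥P := by
          rw [← Abelianization.ker_of, MonoidHom.mem_ker, map_mul, map_pow, map_mul, map_inv,
            map_pow, mul_pow, mul_inv_cancel_right, ← map_pow,
            show c ^ p = 1 from Subtype.ext hc, map_one]
        rw [hP'm]
        refine ⟨_, hk, ?_⟩
        show ((c : G) * x) ^ p * ((x : G) ^ p)⁻¹ = y * (x : G) ^ p * y⁻¹ * ((x : G) ^ p)⁻¹
        rw [show (c : G) * x = y * x * y⁻¹ from inv_mul_cancel_right _ _, conj_pow]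
      · intro x hx
        show y * (x : G) * y⁻¹ * (x : G)⁻¹ ∈ P'
        have hx' : (x : G) ∈ P' := hP'm ▸ Subgroup.mem_map_of_mem P.subtype hx
        rw [← Subgroup.mem_centralizer_iff.1 (hYc hy) x hx']
        simp
    rintro _ ⟨w, hw, rfl⟩
    exact hF hw
  -- the kernel of the action of `H` on `P'` and `Φ/P'`
  let K : Subgroup ↥H :=
    { carrier := {h | (∀ z ∈ P', (h : G) * z = z * h) ∧
        ∀ w ∈ Φ, (h : G) * w * (h : G)⁻¹ * w⁻¹ ∈ P'}
      one_mem' := ⟨fun z _ => by simp, fun w _ => by simp⟩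
      mul_mem' := fun {a b} ha hb => ⟨fun z hz => by
          show (a : G) * b * z = z * ((a : G) * b)
          rw [mul_assoc, hb.1 z hz, ← mul_assoc, ha.1 z hz, mul_assoc], fun w hw => by
          show (a : G) * b * w * ((a : G) * b)⁻¹ * w⁻¹ ∈ P'
          have h := mul_mem ((Subgroup.mem_normalizer_iff.1 (hHP' a.2) _).1 (hb.2 w hw)) (ha.2 w hw)
          convert h using 1
          group⟩
      inv_mem' := fun {a} ha => ⟨fun z hz => by
          show (a : G)⁻¹ * z = z * (a : G)⁻¹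
          exact ((show Commute (a : G) z from ha.1 z hz).inv_left).eq, fun w hw => by
          show (a : G)⁻¹ * w * (a : G)⁻¹⁻¹ * w⁻¹ ∈ P'
          have h := inv_mem ((Subgroup.mem_normalizer_iff''.1 (hHP' a.2) _).1 (ha.2 w hw))
          convert h using 1
          group⟩ }
  haveI hKn : K.Normal := ⟨fun h hh g => ⟨fun z hz => by
      show (g : G) * h * (g : G)⁻¹ * z = z * ((g : G) * h * (g : G)⁻¹)
      have h1 := hh.1 _ ((Subgroup.mem_normalizer_iff''.1 (hHP' g.2) z).1 hz)
      calc (g : G) * h * (g : G)⁻¹ * z = g * ((h : G) * ((g : G)⁻¹ * z * g)) * (g : G)⁻¹ := by group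
        _ = _ := by rw [h1]; group, fun w hw => by
      show (g : G) * h * (g : G)⁻¹ * w * ((g : G) * h * (g : G)⁻¹)⁻¹ * w⁻¹ ∈ P'
      have hw' : (g : G)⁻¹ * w * g ∈ Φ := (Subgroup.mem_normalizer_iff''.1 (hHΦ g.2) w).1 hw
      have h1 := (Subgroup.mem_normalizer_iff.1 (hHP' g.2) _).1 (hh.2 _ hw')
      convert h1 using 1
      group⟩⟩
  have hNK : Subgroup.normalClosure ((Y.subgroupOf H : Subgroup ↥H) : Set ↥H) ≤ K := by
    refine Subgroup.normalClosure_le_normal fun h hh => ⟨fun z hz => ?_, hY _ hh⟩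
    exact (Subgroup.mem_centralizer_iff.1 (hYc hh) z hz).symm
  refine CfsgLib.LS.resOf_le fun g hg hco => ?_
  obtain ⟨h, hh, rfl⟩ := hg
  obtain ⟨hz, hw⟩ := hNK hh
  refine Subgroup.mem_centralizer_iff.2 fun w hwΦ => ?_
  set z := (h : G) * w * (h : G)⁻¹ * w⁻¹ with hzdef
  have hzP' : z ∈ P' := hw w hwΦ
  have hcz : Commute (h : G) z := hz z hzP'
  have key : ∀ n : ℕ, (h : G) ^ n * w * ((h : G) ^ n)⁻¹ = z ^ n * w := by
    intro n
    induction n with
    | zero => simp
    | succ n ih =>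
      calc (h : G) ^ (n + 1) * w * ((h : G) ^ (n + 1))⁻¹
          = (h : G) * ((h : G) ^ n * w * ((h : G) ^ n)⁻¹) * (h : G)⁻¹ := by
            rw [pow_succ', mul_inv_rev]; group
        _ = ((h : G) * z ^ n * (h : G)⁻¹) * ((h : G) * w * (h : G)⁻¹) := by rw [ih]; group
        _ = z ^ n * (z * w) := by
            rw [(hcz.pow_right n).eq, mul_inv_cancel_right, hzdef, inv_mul_cancel_right]
        _ = z ^ (n + 1) * w := by rw [pow_succ]; group
  have hz1 : z ^ orderOf (h : G) = 1 := by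
    have h1 := key (orderOf (h : G))
    rw [pow_orderOf_eq_one, one_mul, inv_one, mul_one] at h1
    exact mul_eq_right.1 h1.symm
  obtain ⟨k, hk⟩ := (IsPGroup.iff_orderOf.1 hP) ⟨z, hP'P hzP'⟩
  rw [Subgroup.orderOf_mk] at hk
  have : z = 1 := by
    rw [← orderOf_eq_one_iff]
    refine Nat.eq_one_of_dvd_coprimes ?_ (orderOf_dvd_of_pow_eq_one hz1) dvd_rfl
    rw [hk]
    exact (Nat.Coprime.pow_right k hco)
  rw [hzdef, mul_inv_eq_one, mul_inv_eq_iff_eq_mul] at this
  exact this.symm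

end Cfsg.Agent.S2819
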