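import Cfsg.Statements.S2820
import Cfsg.Agent.Lib.LocalStructure.Basic
import Cfsg.Agent.Lib.Char.ThompsonWielandt

set_option autoImplicit false
open Cfsg

namespace Cfsg.Agent.S2820

/-- Let A and B be subnormal subgroups of the finite group H with A a p-group and B = O^p(B) (B generated by its elements of order prime to p). Then A normalizes B and B = O^p(AB), the subgroup of ⟨A, B⟩ generated by its elements of order prime to p. -/
theorem result {H : Type*} [Group H] [Finite H] {p : ℕ} [Fact p.Prime] (A B : Subgroup H) (hA : A.IsSubnormal) (hB : B.IsSubnormal) (hAp : IsPGroup p ↥A) (hBres : (Cfsg.pResidual p ↥B).map B.subtype = B) : A ≤ Subgroup.normalizer (B : Set H) ∧ (Cfsg.pResidual p ↥(A ⊔ B)).map (A ⊔ B).subtype = B := by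
  have hA' : CfsgLib.Char.TW.Sn A ⊤ := ⟨le_top, hA.comap _⟩
  have hB' : CfsgLib.Char.TW.Sn B ⊤ := ⟨le_top, hB.comap _⟩
  have hres : Cfsg.pResidualOf p B = B := by
    refine le_antisymm ?_ ?_
    · rw [CfsgLib.Char.TW.pResidualOf_eq_closure, Subgroup.closure_le]
      exact fun x hx => hx.1
    · conv_lhs => rw [← hBres]
      refine CfsgLib.LS.resOf_le fun g hg hc => ?_
      rw [CfsgLib.Char.TW.pResidualOf_eq_closure]
      exact Subgroup.subset_closure ⟨hg, hc⟩
  have hAB : A ≤ Subgroup.normalizer (B : Set H) := by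
    have h := (hA'.le_coreOf hAp).trans (hB'.coreOf_le_normalizer (p := p))
    rwa [hres] at h
  refine ⟨hAB, le_antisymm (CfsgLib.LS.resOf_le fun g hg hc => ?_) ?_⟩
  · haveI : (B.subgroupOf (A ⊔ B)).Normal := (Subgroup.normal_subgroupOf_iff_le_normalizer le_sup_right).2
      (sup_le hAB Subgroup.le_normalizer)
    obtain ⟨b, hb, a, ha, hba⟩ := CfsgLib.Coprime.mem_sup_exists hAB (sup_comm A B ▸ hg)
    subst hba
    obtain ⟨k, hk⟩ := hAp ⟨a, ha⟩
    refine Subgroup.mem_subgroupOf.1 (CfsgLib.LS.mem_of_coprime_of_pow_mem (N := B.subgroupOf (A ⊔ B))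
      (g := ⟨b * a, hg⟩) (k := k) (by rwa [← Subgroup.orderOf_coe]) ?_)
    rw [← QuotientGroup.eq_one_iff, QuotientGroup.mk_pow,
      show (⟨b * a, hg⟩ : ↥(A ⊔ B)) = ⟨b, Subgroup.mem_sup_right hb⟩ * ⟨a, Subgroup.mem_sup_left ha⟩ from rfl,
      QuotientGroup.mk_mul, (QuotientGroup.eq_one_iff _).2 (show (⟨b, Subgroup.mem_sup_right hb⟩ : ↥(A ⊔ B)) ∈ B.subgroupOf (A ⊔ B) from hb),
      one_mul, ← QuotientGroup.mk_pow]
    rw [show (⟨a, Subgroup.mem_sup_left ha⟩ : ↥(A ⊔ B)) ^ p ^ k = 1 from Subtype.ext (congrArg Subtype.val hk :)]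
    rfl
  · conv_lhs => rw [← hBres]
    exact CfsgLib.LS.resOf_mono le_sup_right

end Cfsg.Agent.S2820
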