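import Cfsg.Statements.S2821
import Cfsg.Agent.Lib.LocalStructure.Largest

set_option autoImplicit false
open Cfsg

namespace Cfsg.Agent.S2821

/-- Let H be a finite group, p a prime, T a Sylow p-subgroup and L a subgroup of characteristic p containing T; let Y_L be the largest p-reduced normal subgroup of L (the join of the normal elementary abelian p-subgroups V of L with O_p(L/C_L(V)) = 1). Then T₀ := C_T(Y_L) is a Sylow p-subgroup of C_H(Y_L); moreover O_p(L) ≤ T₀ ≤ C_L(Y_L) and Ω₁(Z(T)) ≤ Z_L ≤ Y_L ≤ Ω₁(Z(O_p(L))), where Z_L is generated by the Ω₁(Z(S)) over the Sylow p-subgroups S of L. -/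
theorem result {H : Type*} [Group H] [Finite H] {p : ℕ} [Fact p.Prime] (T : Sylow p H) (L : Subgroup H) (hTL : (T : Subgroup H) ≤ L) (hL : Subgroup.centralizer (Cfsg.pCore p ↥L : Set ↥L) ≤ Cfsg.pCore p ↥L) (T₀ : Subgroup H) (hT₀ : T₀ = (T : Subgroup H) ⊓ Subgroup.centralizer (((Cfsg.largestPReducedOf p L) : Subgroup H) : Set H)) : (∃ P : Sylow p ↥(Subgroup.centralizer (((Cfsg.largestPReducedOf p L) : Subgroup H) : Set H)), (P : Subgroup ↥(Subgroup.centralizer (((Cfsg.largestPReducedOf p L) : Subgroup H) : Set H))) = T₀.subgroupOf (Subgroup.centralizer (((Cfsg.largestPReducedOf p L) : Subgroup H) : Set H))) ∧ (Cfsg.pCoreOf p L) ≤ T₀ ∧ T₀ ≤ L ⊓ Subgroup.centralizer (((Cfsg.largestPReducedOf p L) : Subgroup H) : Set H) ∧ (Cfsg.omegaOne p ((T : Subgroup H) ⊓ Subgroup.centralizer (((T : Subgroup H) : Subgroup H) : Set H))) ≤ Cfsg.sylowCenterClosure p L ∧ Cfsg.sylowCenterClosure p L ≤ (Cfsg.largestPReducedOf p L) ∧ (Cfsg.largestPReducedOf p L) ≤ (Cfsg.omegaOne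 p ((Cfsg.pCoreOf p L) ⊓ Subgroup.centralizer (((Cfsg.pCoreOf p L) : Subgroup H) : Set H))) := by
  have hYT := CfsgLib.LS.largestPReducedOf_le_sylow T hTL
  set Y := Cfsg.largestPReducedOf p L with hY
  set C := Subgroup.centralizer (Y : Set H) with hC
  have hTC : (T : Subgroup H) ≤ Subgroup.normalizer (C : Set H) :=
    (hTL.trans (CfsgLib.LS.le_normalizer_largestPReducedOf L)).trans
      (CfsgLib.Coprime.normalizer_le_normalizer_centralizer _)
  refine ⟨?_, ?_, ?_, ?_, CfsgLib.LS.sylowCenterClosure_le_largest hL, ?_⟩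
  · haveI : (C.subgroupOf ((T : Subgroup H) ⊔ C)).Normal :=
      (Subgroup.normal_subgroupOf_iff_le_normalizer le_sup_right).2
        (sup_le hTC Subgroup.le_normalizer)
    have h1 := CfsgLib.PGroup.relIndex_dvd_index_normal_right
      ((T : Subgroup H).subgroupOf ((T : Subgroup H) ⊔ C)) (C.subgroupOf ((T : Subgroup H) ⊔ C))
    rw [Subgroup.relIndex_subgroupOf le_sup_right] at h1
    have h2 : ¬ p ∣ (T₀.subgroupOf C).index := fun hd => by
      refine T.not_dvd_index (hd.trans (dvd_trans ?_ (Subgroup.relIndex_dvd_index_of_le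
        (le_sup_left : (T : Subgroup H) ≤ (T : Subgroup H) ⊔ C))))
      have e : T₀.subgroupOf C = (T : Subgroup H).subgroupOf C := by
        rw [hT₀, Subgroup.inf_subgroupOf_right]
      rw [e]
      exact h1
    exact ⟨IsPGroup.toSylow (T.2.to_le (hT₀.le.trans inf_le_left)).comap_subtype h2, rfl⟩
  · rw [hT₀]
    exact le_inf (CfsgLib.LS.pCoreOf_le_sylow T hTL) (CfsgLib.LS.pCoreOf_le_centralizer_largest L)
  · rw [hT₀]; exact inf_le_inf_right _ hTL
  · refine le_iSup_of_le (T.subtype hTL) ?_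
    rw [Sylow.coe_subtype, Subgroup.map_subgroupOf_eq_of_le hTL]
  · exact CfsgLib.LS.le_omegaOne_center (CfsgLib.LS.largestPReducedOf_ea L)
      (CfsgLib.LS.largestPReducedOf_le_pCoreOf L)
      (Subgroup.le_centralizer_iff.1 (CfsgLib.LS.pCoreOf_le_centralizer_largest L))

end Cfsg.Agent.S2821
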