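import Cfsg.Statements.S2823
import Cfsg.Agent.Lib.LocalStructure.Largest

set_option autoImplicit false
open Cfsg

namespace Cfsg.Agent.S2823

open scoped commutatorElement

/-- Let H be a finite group, p a prime, T a Sylow p-subgroup and L a subgroup of characteristic p containing T; let Z_L be the subgroup generated by the Ω₁(Z(S)) over the Sylow p-subgroups S of L and O^p(L) the subgroup generated by the elements of L of order prime to p. Then Z_L = Ω₁(Z(L))·[Z_L, O^p(L)] and [Z_L, L] = [Z_L, O^p(L)]. -/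
theorem result {H : Type*} [Group H] [Finite H] {p : ℕ} [Fact p.Prime] (T : Sylow p H) (L : Subgroup H) (hTL : (T : Subgroup H) ≤ L) (hL : Subgroup.centralizer (Cfsg.pCore p ↥L : Set ↥L) ≤ Cfsg.pCore p ↥L) : Cfsg.sylowCenterClosure p L = (Cfsg.omegaOne p (L ⊓ Subgroup.centralizer ((L : Subgroup H) : Set H))) ⊔ ⁅Cfsg.sylowCenterClosure p L, (Cfsg.pResidual p ↥L).map L.subtype⁆ ∧ ⁅Cfsg.sylowCenterClosure p L, L⁆ = ⁅Cfsg.sylowCenterClosure p L, (Cfsg.pResidual p ↥L).map L.subtype⁆ := by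
  set Z' := ⨆ S : Sylow p L, Cfsg.omegaOne p
    ((S : Subgroup L) ⊓ Subgroup.centralizer ((S : Subgroup L) : Set L)) with hZ'
  have hZle : Z' ≤ Cfsg.largestPReduced p L :=
    iSup_le fun S => CfsgLib.LS.omegaOne_center_sylow_le hL S
  have hZe := CfsgLib.LS.isElementaryAbelian_of_le hZle
    (CfsgLib.LS.largestPReduced_spec (G := L) (p := p)).2.1
  haveI : Z'.Normal := CfsgLib.LS.iSup_omegaOne_center_normal
  haveI := CfsgLib.Fusion.pResidual_normal (G := L) (p := p)
  set R := Cfsg.pResidual p L with hR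
  set W := ⁅Z', R⁆ with hW
  have hgen : ∀ z ∈ Z', (∀ g : L, ⁅z, g⁆ ∈ W) ∧
      z ∈ Cfsg.omegaOne p ((⊤ : Subgroup L) ⊓ Subgroup.centralizer ((⊤ : Subgroup L) : Set L)) ⊔ W := by
    intro z hz
    have hz' := hz
    rw [hZ'] at hz'
    induction hz' using Subgroup.iSup_induction' with
    | hp S z hzS =>
      have hzS' := CfsgLib.LS.omegaOne_le_self _ hzS
      obtain ⟨hcom, c, hc, n, hn, hw⟩ := CfsgLib.LS.central_decomp hZe (le_refl W) S hz
        (fun s hs => Subgroup.mem_centralizer_iff.1 hzS'.2 s hs)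
      refine ⟨hcom, ?_⟩
      have hzp : z ^ p = 1 := hZe.2 z hz
      obtain ⟨m, hm⟩ := exists_pow_eq_self_of_coprime (n := n) (x := z)
        (Nat.Coprime.coprime_dvd_right (orderOf_dvd_of_pow_eq_one hzp) hn)
      rw [← hm]
      refine pow_mem ?_ m
      rw [← mul_inv_cancel_left c (z ^ n)]
      exact mul_mem (Subgroup.mem_sup_left (CfsgLib.LS.mem_omegaOne ⟨Subgroup.mem_top c,
        Subgroup.mem_centralizer_iff.2 fun g _ => Subgroup.mem_center_iff.1 hc.2 g⟩
        (hZe.2 c hc.1))) (Subgroup.mem_sup_right hw)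
    | h1 => exact ⟨fun g => by simp, one_mem _⟩
    | hmul a b ha' hb' iha ihb =>
      obtain ⟨ha1, ha2⟩ := iha (hZ' ▸ ha')
      obtain ⟨hb1, hb2⟩ := ihb (hZ' ▸ hb')
      refine ⟨fun g => ?_, mul_mem ha2 hb2⟩
      rw [show ⁅a * b, g⁆ = a * ⁅b, g⁆ * a⁻¹ * ⁅a, g⁆ by simp only [commutatorElement_def]; group]
      exact mul_mem ((inferInstance : W.Normal).conj_mem _ (hb1 g) a) (ha1 g)
  have hZmap : Cfsg.sylowCenterClosure p L = Z'.map L.subtype :=
    CfsgLib.LS.sylowCenterClosure_top L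
  have hO : (Cfsg.omegaOne p ((⊤ : Subgroup L) ⊓ Subgroup.centralizer ((⊤ : Subgroup L) : Set L))).map
      L.subtype = Cfsg.omegaOne p (L ⊓ Subgroup.centralizer ((L : Subgroup H) : Set H)) := by
    rw [CfsgLib.LS.map_omegaOne_center L.subtype_injective, ← MonoidHom.range_eq_map,
      Subgroup.range_subtype]
  have hOle : Cfsg.omegaOne p ((⊤ : Subgroup L) ⊓ Subgroup.centralizer ((⊤ : Subgroup L) : Set L)) ≤ Z' := by
    set A := Cfsg.omegaOne p ((⊤ : Subgroup L) ⊓ Subgroup.centralizer ((⊤ : Subgroup L) : Set L))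
      with hA
    have hAc : A ≤ Subgroup.center L := fun x hx => Subgroup.mem_center_iff.2 fun g =>
      Subgroup.mem_centralizer_iff.1 (CfsgLib.LS.omegaOne_le_self _ hx).2 g (Subgroup.mem_top g)
    haveI : A.Normal := ⟨fun x hx g => by
      rwa [Subgroup.mem_center_iff.1 (hAc hx) g, mul_inv_cancel_right]⟩
    refine le_iSup_of_le (T.subtype hTL) (CfsgLib.LS.le_omegaOne_center
      (CfsgLib.LS.omegaOne_center_ea _) (CfsgLib.LS.le_sylow_of_normal
        (CfsgLib.LS.isPGroup_of_ea (CfsgLib.LS.omegaOne_center_ea _)) _) ?_)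
    exact fun x hx => Subgroup.mem_centralizer_iff.2 fun g _ =>
      Subgroup.mem_center_iff.1 (hAc hx) g
  have h1 : Z' = Cfsg.omegaOne p ((⊤ : Subgroup L) ⊓ Subgroup.centralizer ((⊤ : Subgroup L) : Set L)) ⊔ W :=
    le_antisymm (fun z hz => (hgen z hz).2) (sup_le hOle (Subgroup.commutator_le_left _ _))
  have h2 : ⁅Z', (⊤ : Subgroup L)⁆ = W :=
    le_antisymm (Subgroup.commutator_le.2 fun z hz g _ => (hgen z hz).1 g)
      (Subgroup.commutator_mono le_rfl le_top)
  constructor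
  · rw [hZmap, ← hO, ← Subgroup.map_commutator, ← Subgroup.map_sup, ← h1]
  · have e : ⁅Cfsg.sylowCenterClosure p L, L⁆ = ⁅Z', (⊤ : Subgroup L)⁆.map L.subtype := by
      rw [hZmap, Subgroup.map_commutator, ← MonoidHom.range_eq_map, Subgroup.range_subtype]
    rw [e, h2, hW, hZmap, Subgroup.map_commutator]

end Cfsg.Agent.S2823
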