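import Cfsg.Statements.S2824
import Cfsg.Agent.Lib.LocalStructure.Largest

set_option autoImplicit false
open Cfsg

namespace Cfsg.Agent.S2824

/-- Let H be a finite group, p a prime, T a Sylow p-subgroup, L and M subgroups of characteristic p containing T, Y_L the largest p-reduced normal subgroup of L and T₀ = C_T(Y_L). If M·C_H(Y_L) = L·C_H(Y_L), then L* := N_M(T₀) has Y_{L*} = Y_L and L·C_H(Y_L) = L*·C_H(Y_L). -/
theorem result {H : Type*} [Group H] [Finite H] {p : ℕ} [Fact p.Prime] (T : Sylow p H) (L M : Subgroup H) (hTL : (T : Subgroup H) ≤ L) (hTM : (T : Subgroup H) ≤ M) (hL : Subgroup.centralizer (Cfsg.pCore p ↥L : Set ↥L) ≤ Cfsg.pCore p ↥L) (hM : Subgroup.centralizer (Cfsg.pCore p ↥M : Set ↥M) ≤ Cfsg.pCore p ↥M) (T₀ : Subgroup H) (hT₀ : T₀ = (T : Subgroup H) ⊓ Subgroup.centralizer (((Cfsg.largestPReducedOf p L) : Subgroup H) : Set H)) (hfac : M ⊔ Subgroup.centralizer (((Cfsg.largestPReducedOf p L) : Subgroup H) : Set H) = L ⊔ Subgroup.centralizer (((Cfsg.largestPReducedOf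 p L) : Subgroup H) : Set H)) (Ls : Subgroup H) (hLs : Ls = M ⊓ Subgroup.normalizer ((T₀ : Subgroup H) : Set H)) : (Cfsg.largestPReducedOf p Ls) = (Cfsg.largestPReducedOf p L) ∧ L ⊔ Subgroup.centralizer (((Cfsg.largestPReducedOf p L) : Subgroup H) : Set H) = Ls ⊔ Subgroup.centralizer (((Cfsg.largestPReducedOf p L) : Subgroup H) : Set H) := by
  set Y := Cfsg.largestPReducedOf p L with hY
  set C := Subgroup.centralizer (Y : Set H) with hC
  have hYN : Subgroup.normalizer (Y : Set H) ≤ Subgroup.normalizer (C : Set H) :=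
    CfsgLib.Coprime.normalizer_le_normalizer_centralizer _
  have hMN : M ≤ Subgroup.normalizer (Y : Set H) :=
    (le_sup_left.trans hfac.le).trans
      (sup_le (CfsgLib.LS.le_normalizer_largestPReducedOf L)
        (Subgroup.centralizer_le_normalizer _))
  have hYT : Y ≤ (T : Subgroup H) := CfsgLib.LS.largestPReducedOf_le_sylow T hTL
  have hYc : Y ≤ C := CfsgLib.LS.le_centralizer_self_of_ea (CfsgLib.LS.largestPReducedOf_ea L)
  have hT₀M : T₀ ≤ M := (hT₀.le.trans inf_le_left).trans hTM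
  have hYT₀ : Y ≤ T₀ := hT₀ ▸ le_inf hYT hYc
  have hTT₀ : (T : Subgroup H) ≤ Subgroup.normalizer (T₀ : Set H) := by
    rw [hT₀]
    exact CfsgLib.Coprime.inf_le_normalizer Subgroup.le_normalizer ((hTM.trans hMN).trans hYN)
  have hTLs : (T : Subgroup H) ≤ Ls := hLs ▸ le_inf hTM hTT₀
  have hT₀Ls : T₀ ≤ Ls := (hT₀.le.trans inf_le_left).trans hTLs
  -- the factorization
  haveI : (C.subgroupOf M).Normal :=
    (Subgroup.normal_subgroupOf_iff_le_normalizer_inf).2
      (CfsgLib.Coprime.inf_le_normalizer (hMN.trans hYN) Subgroup.le_normalizer)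
  obtain ⟨R, hR⟩ := CfsgLib.LS.sylow_inf_normal (T.subtype hTM) (C.subgroupOf M)
  have hfr := R.normalizer_sup_eq_top
  have hsup : L ⊔ C = Ls ⊔ C := by
    refine le_antisymm ?_ ?_
    · rw [← hfac]
      refine sup_le (fun m hm => ?_) le_sup_right
      have hm' : (⟨m, hm⟩ : M) ∈ _ := hfr.ge (Subgroup.mem_top _)
      rw [← SetLike.mem_coe, Subgroup.mul_normal] at hm'
      obtain ⟨a, ha, c, hc, e⟩ := hm'
      rw [show m = (a : H) * c from (congrArg Subtype.val e).symm]
      refine mul_mem (Subgroup.mem_sup_left (hLs ▸ Subgroup.mem_inf.2 ⟨a.2, ?_⟩))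
        (Subgroup.mem_sup_right hc)
      refine Subgroup.mem_normalizer_iff.2 fun x => ?_
      have key : ∀ b : M, ∀ y : H, b ∈ Subgroup.normalizer
          (((R : Subgroup (C.subgroupOf M)).map (C.subgroupOf M).subtype : Subgroup M) : Set M) →
          y ∈ T₀ → (b : H) * y * (b : H)⁻¹ ∈ T₀ := by
        intro b y hb hy
        have hy' : (⟨y, hT₀M hy⟩ : M) ∈ (R : Subgroup (C.subgroupOf M)).map (C.subgroupOf M).subtype := by
          rw [hR]; exact hT₀.le hy
        have h := hR.le ((Subgroup.mem_normalizer_iff.1 hb _).1 hy')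
        rw [hT₀]
        exact h
      refine ⟨key a x ha, fun h => ?_⟩
      have := key a⁻¹ _ (inv_mem ha) h
      simpa [mul_assoc] using this
    · rw [← hfac]
      exact sup_le_sup_right (hLs ▸ inf_le_left) _
  refine ⟨le_antisymm ?_ ?_, hsup⟩
  · haveI : (T₀.subgroupOf Ls).Normal :=
      (Subgroup.normal_subgroupOf_iff_le_normalizer hT₀Ls).2 (hLs ▸ inf_le_right)
    have hp : IsPGroup p (T₀.subgroupOf Ls) :=
      (T.2.to_le (hT₀.le.trans inf_le_left)).of_equiv (Subgroup.subgroupOfEquivOfLe hT₀Ls).symm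
    have hYLs : Y ≤ Cfsg.largestPReducedOf p Ls :=
      CfsgLib.LS.le_largestPReducedOf (hYT.trans hTLs) (CfsgLib.LS.reduced_transfer
        (CfsgLib.LS.largestPReducedOf_le L) (hYT.trans hTLs)
        (CfsgLib.LS.largestPReducedOf_spec L) hsup.symm)
    have hXC : Cfsg.largestPReducedOf p Ls ≤ C :=
      (CfsgLib.LS.le_centralizer_self_of_ea (CfsgLib.LS.largestPReducedOf_ea Ls)).trans
        (Subgroup.centralizer_le (SetLike.coe_subset_coe.2 hYLs))
    have hXT : Cfsg.largestPReducedOf p Ls ≤ T₀ :=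
      hT₀ ▸ le_inf (CfsgLib.LS.largestPReducedOf_le_sylow T hTLs) hXC
    have hXc : Cfsg.largestPReducedOf p Ls ≤ Subgroup.centralizer (T₀ : Set H) := by
      rintro _ ⟨x, hx, rfl⟩
      refine Subgroup.mem_centralizer_iff.2 fun t ht => ?_
      exact (congrArg Subtype.val (Subgroup.mem_centralizer_iff.1
        (CfsgLib.LS.reduced_pgroup_le_centralizer
          (CfsgLib.LS.largestPReduced_spec (G := Ls) (p := p)) hp
          (x := ⟨t, hT₀Ls ht⟩) ht) x hx)).symm
    have hT₀L : T₀ ≤ L := (hT₀.le.trans inf_le_left).trans hTL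
    obtain ⟨-, -, hst⟩ := CfsgLib.LS.largest_structure hL (T.subtype hTL)
      (TL := T₀.subgroupOf L) rfl (by
        ext t
        simp only [Subgroup.mem_inf, Subgroup.mem_subgroupOf, hT₀, Sylow.coe_subtype]
        refine and_congr_right fun _ => ⟨fun h => Subgroup.mem_centralizer_iff.2 fun y hy =>
          Subtype.ext (Subgroup.mem_centralizer_iff.1 h _ (Subgroup.mem_map_of_mem L.subtype hy)),
          fun h => Subgroup.mem_centralizer_iff.2 ?_⟩
        rintro _ ⟨y, hy, rfl⟩
        exact congrArg Subtype.val (Subgroup.mem_centralizer_iff.1 h y hy))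
    have e := congrArg (Subgroup.map L.subtype) hst
    rw [CfsgLib.LS.map_omegaOne_center L.subtype_injective,
      Subgroup.map_subgroupOf_eq_of_le hT₀L] at e
    rw [show Y = _ from e]
    exact CfsgLib.LS.le_omegaOne_center (CfsgLib.LS.largestPReducedOf_ea Ls) hXT hXc
  · exact CfsgLib.LS.le_largestPReducedOf (hYT.trans hTLs) (CfsgLib.LS.reduced_transfer
      (CfsgLib.LS.largestPReducedOf_le L) (hYT.trans hTLs)
      (CfsgLib.LS.largestPReducedOf_spec L) hsup.symm)

end Cfsg.Agent.S2824
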