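import Cfsg.Statements.S2825
import Cfsg.Agent.Lib.LocalStructure.Largest

set_option autoImplicit false
open Cfsg

namespace Cfsg.Agent.S2825

open scoped commutatorElement

/-- Let L be a subnormal subgroup of the finite group H, p a prime, Y_H and Y_L the largest p-reduced normal subgroups. Then Y_H ∩ L = Y_H ∩ Y_L and this subgroup is a p-reduced normal subgroup of L; C_L(Y_L) = C_L(Y_H) = C_L(Y_H ∩ L); and if O^p(H) ≤ L, then [Y_L, L] = 1 if and only if [Y_H, H] = 1. -/
theorem result {H : Type*} [Group H] [Finite H] {p : ℕ} [Fact p.Prime] (L : Subgroup H) (hL : L.IsSubnormal) : Cfsg.largestPReduced p H ⊓ L = Cfsg.largestPReduced p H ⊓ (Cfsg.largestPReducedOf p L) ∧ Cfsg.IsPReducedNormal p ((Cfsg.largestPReduced p H ⊓ L).subgroupOf L) ∧ L ⊓ Subgroup.centralizer ((Cfsg.largestPReducedOf p L : Subgroup H) : Set H) = L ⊓ Subgroup.centralizer (Cfsg.largestPReduced p H : Set H) ∧ L ⊓ Subgroup.centralizer (Cfsg.largestPReduced p H : Set H) = L ⊓ Subgroup.centralizer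 ((Cfsg.largestPReduced p H ⊓ L : Subgroup H) : Set H) ∧ (Cfsg.pResidual p H ≤ L → (⁅(Cfsg.largestPReducedOf p L), L⁆ = ⊥ ↔ ⁅Cfsg.largestPReduced p H, (⊤ : Subgroup H)⁆ = ⊥)) := by
  have hY := CfsgLib.LS.largestPReduced_spec (G := H) (p := p)
  haveI := hY.1
  set Y := Cfsg.largestPReduced p H with hYdef
  obtain ⟨hred, heq⟩ := CfsgLib.LS.reduced_in_subnormal hY hL (W := Y ⊓ L) inf_le_left inf_le_right
    (CfsgLib.Coprime.inf_le_normalizer (le_top.trans (Subgroup.normalizer_eq_top_iff.2 hY.1).ge)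
      Subgroup.le_normalizer)
    (fun x hx hc v hv => Subgroup.mem_inf.2 ⟨by
      rw [commutatorElement_def]; exact mul_mem (hY.1.conj_mem v hv x) (inv_mem hv),
      CfsgLib.LS.commutator_mem_of_subnormal hY.2.1 hL x hx hc v hv⟩)
  have hle : Y ⊓ L ≤ Cfsg.largestPReducedOf p L :=
    CfsgLib.LS.le_largestPReducedOf inf_le_right hred
  have hc : L ⊓ Subgroup.centralizer ((Cfsg.largestPReducedOf p L : Subgroup H) : Set H) =
      L ⊓ Subgroup.centralizer (Y : Set H) :=
    le_antisymm ((inf_le_inf_left _ (Subgroup.centralizer_le (SetLike.coe_subset_coe.2 hle))).trans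
        heq.le)
      (le_inf inf_le_left (CfsgLib.LS.centralizer_largest_le_of_subnormal hL))
  refine ⟨le_antisymm (le_inf inf_le_left hle)
    (inf_le_inf_left _ (CfsgLib.LS.largestPReducedOf_le L)), hred, hc, heq.symm, fun hR => ?_⟩
  rw [Subgroup.commutator_eq_bot_iff_le_centralizer, Subgroup.commutator_eq_bot_iff_le_centralizer,
    Subgroup.le_centralizer_iff, Subgroup.le_centralizer_iff (H := Y)]
  constructor
  · intro h
    refine (CfsgLib.LS.isPReducedNormal_iff.1 hY).2.2 ⊤ inferInstance fun x _ => ?_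
    obtain ⟨k, hk⟩ := CfsgLib.Fusion.exists_pow_p_mem_pResidual (p := p) x
    exact ⟨k, (hc.le ⟨hR hk, h (hR hk)⟩).2⟩
  · intro h
    exact fun x hx => (hc.ge ⟨hx, h (Subgroup.mem_top x)⟩).2

end Cfsg.Agent.S2825
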