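import Cfsg.Statements.S2826
import Cfsg.Agent.Lib.LocalStructure.Largest

set_option autoImplicit false
open Cfsg

namespace Cfsg.Agent.S2826

/-- Let H be a finite group of characteristic p, T a Sylow p-subgroup, and V a normal elementary abelian p-subgroup of H containing Ω₁(Z(T)). Then C_H(Ω₁(Z(T))) = C_H([V, O^p(H)] ∩ Ω₁(Z(T))), O^p(H) being generated by the elements of order prime to p. -/
theorem result {H : Type*} [Group H] [Finite H] {p : ℕ} [Fact p.Prime] (hH : Subgroup.centralizer (Cfsg.pCore p H : Set H) ≤ Cfsg.pCore p H) (T : Sylow p H) (V : Subgroup H) [V.Normal] (hV : Cfsg.IsElementaryAbelian p V) (hZV : (Cfsg.omegaOne p ((T : Subgroup H) ⊓ Subgroup.centralizer (((T : Subgroup H) : Subgroup H) : Set H))) ≤ V) : Subgroup.centralizer ((Cfsg.omegaOne p ((T : Subgroup H) ⊓ Subgroup.centralizer (((T : Subgroup H) : Subgroup H) : Set H))) : Set H) = Subgroup.centralizer (((⁅V, Cfsg.pResidual p H⁆ ⊓ (Cfsg.omegaOne p ((T : Subgroup H) ⊓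 Subgroup.centralizer (((T : Subgroup H) : Subgroup H) : Set H)))) : Subgroup H) : Set H) := by
  set Z₀ := Cfsg.omegaOne p ((T : Subgroup H) ⊓ Subgroup.centralizer ((T : Subgroup H) : Set H))
    with hZ₀
  haveI := CfsgLib.Fusion.pResidual_normal (G := H) (p := p)
  refine le_antisymm (Subgroup.centralizer_le (SetLike.coe_subset_coe.2 inf_le_right)) ?_
  intro x hx
  refine Subgroup.mem_centralizer_iff.2 fun z hz => ?_
  obtain ⟨-, c, hc, n, hn, hw⟩ := CfsgLib.LS.central_decomp hV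
    (le_refl ⁅V, Cfsg.pResidual p H⁆) T (hZV hz)
    (fun s hs => Subgroup.mem_centralizer_iff.1 (CfsgLib.LS.omegaOne_le_self _ hz).2 s hs)
  have hcz : c ∈ Z₀ := CfsgLib.LS.mem_omegaOne
    ⟨CfsgLib.PGroup.pCore_le_sylow T
      (CfsgLib.Coprime.le_pCore (CfsgLib.LS.isPGroup_of_ea hV) hc.1),
      Subgroup.mem_centralizer_iff.2 fun g _ => Subgroup.mem_center_iff.1 hc.2 g⟩ (hV.2 c hc.1)
  have hw' : c⁻¹ * z ^ n ∈ Z₀ := mul_mem (inv_mem hcz) (pow_mem hz n)
  have hzn : x ∈ Subgroup.centralizer ({z ^ n} : Set H) := by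
    rw [Subgroup.mem_centralizer_singleton_iff, ← mul_inv_cancel_left c (z ^ n), ← mul_assoc,
      (Subgroup.mem_center_iff.1 hc.2 x), mul_assoc,
      ← Subgroup.mem_centralizer_iff.1 hx _ ⟨hw, hw'⟩, ← mul_assoc, ← mul_assoc]
  obtain ⟨m, hm⟩ := exists_pow_eq_self_of_coprime (n := n) (x := z)
    (Nat.Coprime.coprime_dvd_right (orderOf_dvd_of_pow_eq_one (hV.2 z (hZV hz))) hn)
  rw [← hm]
  exact (Commute.pow_right (show Commute x (z ^ n) from
    Subgroup.mem_centralizer_singleton_iff.1 hzn) m).eq.symm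

end Cfsg.Agent.S2826
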