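import Cfsg.Statements.S2830
import Cfsg.Agent.Lib.LocalStructure.Irreducible

set_option autoImplicit false
open Cfsg

namespace Cfsg.Agent.S2830

/-- Let H act by conjugation on the elementary abelian p-subgroup V of a finite group G (H ≤ N(V)), with H p-irreducible and O^p(H) not centralizing V. Then C_H(V) is p-closed and C_T(V) ≤ O_p(H) for every p-subgroup T of H. If in addition O_p(H) centralizes V, then C_T(V) = T ∩ O_p(H) for every p-subgroup T of H, and V is p-reduced for H: O_p(H/C_H(V)) = 1. -/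
theorem result {G : Type*} [Group G] [Finite G] {p : ℕ} [Fact p.Prime] (V H : Subgroup G) (hV : Cfsg.IsElementaryAbelian p V) (hHV : H ≤ Subgroup.normalizer (V : Set G)) (hH : Cfsg.IsPIrreducible p ↥H) (hnc : ¬ (Cfsg.pResidual p ↥H).map H.subtype ≤ Subgroup.centralizer (V : Set G)) [hn : ((Subgroup.centralizer (V : Set G)).subgroupOf H).Normal] : Cfsg.IsPClosed p ↥(H ⊓ Subgroup.centralizer (V : Set G)) ∧ (∀ T : Subgroup G, T ≤ H → IsPGroup p ↥T → T ⊓ Subgroup.centralizer (V : Set G) ≤ Cfsg.pCoreOf p H) ∧ (Cfsg.pCoreOf p H ≤ Subgroup.centralizer (V : Set G) → (∀ T : Subgroup G, T ≤ H → IsPGroup p ↥T → T ⊓ Subgroup.centralizer (V : Set G) = T ⊓ Cfsg.pCoreOf p H) ∧ Cfsg.pCore p (↥H ⧸ (Subgroup.centralizer (V : Set G)).subgroupOf H) = ⊥) := by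
  set C : Subgroup ↥H := (Subgroup.centralizer (V : Set G)).subgroupOf H with hCdef
  have hres := CfsgLib.Fusion.pResidual_normal (G := H) (p := p)
  have hnot : ¬ Cfsg.pResidual p ↥H ≤ C := fun h => hnc ((Subgroup.map_mono h).trans (by
    rw [hCdef, Subgroup.subgroupOf_map_subtype]; exact inf_le_left))
  have hC : Cfsg.IsPClosed p C := by
    by_contra hc
    exact hnot (hH.2 C hn hc)
  have hkey : ∀ T : Subgroup G, T ≤ H → IsPGroup p ↥T →
      T ⊓ Subgroup.centralizer (V : Set G) ≤ Cfsg.pCoreOf p H := by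
    intro T hTH hT x hx
    obtain ⟨P, hP⟩ := (hT.comap_subtype (K := H) : IsPGroup p (T.subgroupOf H)).exists_le_sylow
    exact ⟨⟨x, hTH hx.1⟩, CfsgLib.LS.inf_le_pCore_of_isPClosed P C hC
      ⟨hP (show (⟨x, hTH hx.1⟩ : H) ∈ T.subgroupOf H from hx.1), hx.2⟩, rfl⟩
  refine ⟨?_, hkey, fun hQ => ⟨fun T hTH hT => le_antisymm (le_inf inf_le_left (hkey T hTH hT))
    (le_inf inf_le_left (inf_le_right.trans hQ)), ?_⟩⟩
  · exact CfsgLib.LS.isPClosed_of_equiv
      ((MulEquiv.subgroupCongr (by rw [Subgroup.inf_subgroupOf_left] : C =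
          (H ⊓ Subgroup.centralizer (V : Set G)).subgroupOf H)).trans
        (Subgroup.subgroupOfEquivOfLe inf_le_left)) hC
  · have hs := QuotientGroup.mk'_surjective C
    set X := (Cfsg.pCore p (↥H ⧸ C)).comap (QuotientGroup.mk' C) with hX
    haveI := CfsgLib.Coprime.pCore_normal' (G := ↥H ⧸ C) p
    have hCX : C ≤ X := (QuotientGroup.ker_mk' C).ge.trans (Subgroup.ker_le_comap _ _)
    have hpow : ∀ x ∈ X, ∃ k : ℕ, x ^ p ^ k ∈ C := by
      intro x hx
      obtain ⟨k, hk⟩ := CfsgLib.Coprime.pCore_isPGroup (G := ↥H ⧸ C) p ⟨_, hx⟩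
      refine ⟨k, (QuotientGroup.eq_one_iff _).1 ?_⟩
      rw [QuotientGroup.mk_pow]
      exact congrArg Subtype.val hk
    have hXc : Cfsg.IsPClosed p X := by
      by_contra hc
      refine hnot (CfsgLib.LS.pResidual_le fun g hg => ?_)
      obtain ⟨k, hk⟩ := hpow g (hH.2 X inferInstance hc (CfsgLib.Fusion.mem_pResidual hg))
      exact CfsgLib.LS.mem_of_coprime_of_pow_mem hg hk
    have hXC : X ≤ C := by
      intro x hx
      have hQC : Cfsg.pCore p ↥H ≤ C := fun y hy => hQ (Subgroup.mem_map_of_mem _ hy)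
      obtain ⟨k, hk⟩ := hpow x hx
      -- split off the part of order prime to `p`
      set a := (orderOf x).factorization p
      set b := orderOf x / p ^ a
      have hb : x ^ b ∈ C := by
        have hxb : IsPGroup p (Subgroup.zpowers (x ^ b)) := IsPGroup.of_card (n := a) (by
          rw [Nat.card_zpowers, orderOf_pow_orderOf_div (orderOf_pos x).ne' (Nat.ordProj_dvd _ _)])
        obtain ⟨P, hP⟩ := hxb.exists_le_sylow
        exact hQC (CfsgLib.LS.inf_le_pCore_of_isPClosed P X hXc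
          ⟨hP (Subgroup.mem_zpowers _), X.pow_mem hx b⟩)
      have hcop : Nat.Coprime (p ^ k) b :=
        Nat.Coprime.pow_left k (Nat.coprime_ordCompl (Fact.out : p.Prime) (orderOf_pos x).ne')
      have hg := Nat.gcd_eq_gcd_ab (p ^ k) b
      rw [hcop.gcd_eq_one] at hg
      rw [← pow_one x, ← zpow_natCast, hg, zpow_add, zpow_mul, zpow_mul, zpow_natCast, zpow_natCast]
      exact C.mul_mem (C.zpow_mem hk _) (C.zpow_mem hb _)
    rw [← Subgroup.map_comap_eq_self_of_surjective hs (Cfsg.pCore p (↥H ⧸ C)), ← hX,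
      le_antisymm hXC hCX, QuotientGroup.map_mk'_self]

end Cfsg.Agent.S2830
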