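import Cfsg.Statements.S2833
import Cfsg.Agent.Lib.LocalStructure.Irreducible
import Cfsg.Agent.Lib.Coprime.Action

open scoped commutatorElement

set_option autoImplicit false
open Cfsg

namespace Cfsg.Agent.S2833

/-- Let V be a subgroup of a finite group G normalized by the subgroup L, let X ≤ L and g ∈ L with [V, X, X] = 1 and L generated by X and gXg⁻¹. Put W = [V, L]. Then W = [V, X]·[V, gXg⁻¹], C_W(X) = [V, X], and C_W(L) = [V, X] ∩ [V, gXg⁻¹]. -/
theorem result {G : Type*} [Group G] [Finite G] (V L : Subgroup G) (hLV : L ≤ Subgroup.normalizer (V : Set G)) (X : Subgroup G) (hX : X ≤ L) (g : G) (hg : g ∈ L) (hq : ⁅⁅V, X⁆, X⁆ = ⊥) (hgen : X ⊔ X.map (MulAut.conj g).toMonoidHom = L) (W : Subgroup G) (hW : W = ⁅V, L⁆) : ⁅V, X⁆ ⊔ ⁅V, X.map (MulAut.conj g).toMonoidHom⁆ = W ∧ W ⊓ Subgroup.centralizer (X : Set G) = ⁅V, X⁆ ∧ W ⊓ Subgroup.centralizer (L : Set G) = ⁅V, X⁆ ⊓ ⁅V, X.map (MulAut.conj g).toMonoidHom⁆ := by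
  subst hW
  set X' := X.map (MulAut.conj g).toMonoidHom with hX'
  set A := ⁅V, X⁆ with hA
  set B := ⁅V, X'⁆ with hB
  have hX'L : X' ≤ L := hgen ▸ le_sup_right
  have hXN : X ≤ Subgroup.normalizer (V : Set G) := hX.trans hLV
  have hX'N : X' ≤ Subgroup.normalizer (V : Set G) := hX'L.trans hLV
  have hgV : V.map (MulAut.conj g).toMonoidHom = V := by
    refine le_antisymm ?_ fun v hv => ⟨g⁻¹ * v * g, ?_, by simp [mul_assoc]⟩
    · rintro _ ⟨v, hv, rfl⟩
      exact (Subgroup.mem_normalizer_iff.1 (hLV hg) v).1 hv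
    · have := (Subgroup.mem_normalizer_iff.1 ((Subgroup.normalizer (V : Set G)).inv_mem (hLV hg)) v).1 hv
      simpa using this
  have hBA : A.map (MulAut.conj g).toMonoidHom = B := by
    rw [hA, Subgroup.map_commutator, hgV]
  have hAV : A ≤ V := Subgroup.le_normalizer_iff_commutator_le_left.1 hXN
  have hBV : B ≤ V := Subgroup.le_normalizer_iff_commutator_le_left.1 hX'N
  have hAX : A ≤ Subgroup.centralizer (X : Set G) :=
    Subgroup.commutator_eq_bot_iff_le_centralizer.1 hq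
  have hBX' : B ≤ Subgroup.centralizer (X' : Set G) := by
    rw [← hBA, ← Subgroup.commutator_eq_bot_iff_le_centralizer, hX', ← Subgroup.map_commutator, hq,
      Subgroup.map_bot]
  have hVA : V ≤ Subgroup.normalizer (A : Set G) := Subgroup.normalizer_commutator_ge_left V X
  have hVB : V ≤ Subgroup.normalizer (B : Set G) := Subgroup.normalizer_commutator_ge_left V X'
  -- decomposition of the join
  have hdec : ∀ w ∈ A ⊔ B, ∃ a ∈ A, ∃ b ∈ B, w = a * b := fun w hw =>
    let ⟨a, ha, b, hb, e⟩ := CfsgLib.Coprime.mem_sup_exists (hBV.trans hVA) hw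
    ⟨a, ha, b, hb, e.symm⟩
  have hUV : A ⊔ B ≤ V := sup_le hAV hBV
  have hVU : V ≤ Subgroup.normalizer ((A ⊔ B : Subgroup G) : Set G) :=
    CfsgLib.Coprime.sup_le_normalizer hVA hVB
  have hmove : ∀ {Y : Subgroup G}, ⁅V, Y⁆ ≤ A ⊔ B → ∀ y ∈ Y, ∀ u ∈ A ⊔ B, y * u * y⁻¹ ∈ A ⊔ B := by
    intro Y hY y hy u hu
    have h1 : ⁅y, u⁆ ∈ A ⊔ B := hY (Subgroup.commutator_comm V Y ▸
      Subgroup.commutator_mem_commutator hy (hUV hu))
    have := (A ⊔ B).mul_mem h1 hu
    simpa [commutatorElement_def] using this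
  have hLU : L ≤ Subgroup.normalizer ((A ⊔ B : Subgroup G) : Set G) := by
    rw [← hgen]
    exact sup_le (Subgroup.le_normalizer_iff.2 (hmove (Y := X) le_sup_left))
      (Subgroup.le_normalizer_iff.2 (hmove (Y := X') le_sup_right))
  have hWL : ⁅V, L⁆ ≤ A ⊔ B := by
    -- the elements of `L` acting trivially modulo `A ⊔ B`
    let K : Subgroup G :=
      { carrier := {y | y ∈ L ∧ ∀ v ∈ V, ⁅v, y⁆ ∈ A ⊔ B}
        one_mem' := ⟨L.one_mem, fun v _ => by simp [(A ⊔ B).one_mem]⟩
        mul_mem' := fun {a b} ha hb => ⟨L.mul_mem ha.1 hb.1, fun v hv => by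
          have e : ⁅v, a * b⁆ = ⁅v, a⁆ * (a * ⁅v, b⁆ * a⁻¹) := by
            simp only [commutatorElement_def]; group
          rw [e]
          exact (A ⊔ B).mul_mem (ha.2 v hv) ((Subgroup.mem_normalizer_iff.1 (hLU ha.1) _).1 (hb.2 v hv))⟩
        inv_mem' := fun {a} ha => ⟨L.inv_mem ha.1, fun v hv => by
          have e : ⁅v, a⁻¹⁆ = a⁻¹ * ⁅v, a⁆⁻¹ * a⁻¹⁻¹ := by
            simp only [commutatorElement_def]; group
          rw [e]
          exact (Subgroup.mem_normalizer_iff.1 (hLU (L.inv_mem ha.1)) _).1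
            ((A ⊔ B).inv_mem (ha.2 v hv))⟩ }
    have hLK : L ≤ K := by
      rw [← hgen]
      refine sup_le (fun y hy => ⟨hgen ▸ Subgroup.mem_sup_left hy, fun v hv => ?_⟩)
        (fun y hy => ⟨hgen ▸ Subgroup.mem_sup_right hy, fun v hv => ?_⟩)
      · exact Subgroup.mem_sup_left (Subgroup.commutator_mem_commutator hv hy)
      · exact Subgroup.mem_sup_right (Subgroup.commutator_mem_commutator hv hy)
    exact Subgroup.commutator_le.2 fun v hv y hy => (hLK hy).2 v hv
  have hW : ⁅V, L⁆ = A ⊔ B := le_antisymm hWL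
    (sup_le (Subgroup.commutator_mono le_rfl hX) (Subgroup.commutator_mono le_rfl hX'L))
  -- an element of `B` centralized by `X` lies in `A`
  have hbA : ∀ b ∈ B, b ∈ Subgroup.centralizer (X : Set G) →
      b ∈ A ∧ b ∈ Subgroup.centralizer (L : Set G) := by
    intro b hb hbX
    have hbL : b ∈ Subgroup.centralizer (L : Set G) := by
      rw [← hgen]
      have : X ⊔ X' ≤ Subgroup.centralizer ({b} : Set G) := sup_le
        (fun x hx => Subgroup.mem_centralizer_singleton_iff.2 (Subgroup.mem_centralizer_iff.1 hbX x hx))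
        (fun x hx => Subgroup.mem_centralizer_singleton_iff.2 (Subgroup.mem_centralizer_iff.1 (hBX' hb) x hx))
      exact Subgroup.mem_centralizer_iff.2 fun y hy => Subgroup.mem_centralizer_singleton_iff.1 (this hy)
    refine ⟨?_, hbL⟩
    rw [← hBA] at hb
    obtain ⟨a, ha, hab⟩ := hb
    change g * a * g⁻¹ = b at hab
    have hgb := Subgroup.mem_centralizer_iff.1 hbL g hg
    have : a = b := by
      rw [← hab] at hgb
      calc a = g⁻¹ * (g * a * g⁻¹ * g) := by group
        _ = g⁻¹ * (g * (g * a * g⁻¹)) := by rw [← hgb]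
        _ = g * a * g⁻¹ := by group
        _ = b := hab
    exact this ▸ ha
  refine ⟨hW.symm, ?_, ?_⟩
  · rw [hW]
    refine le_antisymm (fun w hw => ?_) (le_inf le_sup_left hAX)
    obtain ⟨a, ha, b, hb, rfl⟩ := hdec w hw.1
    have hbX : b ∈ Subgroup.centralizer (X : Set G) := by
      simpa using (Subgroup.centralizer (X : Set G)).mul_mem ((Subgroup.centralizer (X : Set G)).inv_mem (hAX ha)) hw.2
    exact A.mul_mem ha (hbA b hb hbX).1
  · rw [hW]
    refine le_antisymm (fun w hw => ?_) (le_inf (inf_le_left.trans le_sup_left) fun w hw =>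
      (hbA w hw.2 (hAX hw.1)).2)
    obtain ⟨a, ha, b, hb, rfl⟩ := hdec w hw.1
    have hwX := Subgroup.centralizer_le (show (X : Set G) ⊆ L from hX) hw.2
    have hbX : b ∈ Subgroup.centralizer (X : Set G) := by
      simpa using (Subgroup.centralizer (X : Set G)).mul_mem ((Subgroup.centralizer (X : Set G)).inv_mem (hAX ha)) hwX
    obtain ⟨hb1, hb2⟩ := hbA b hb hbX
    refine ⟨A.mul_mem ha hb1, B.mul_mem ?_ hb⟩
    have haL : a ∈ Subgroup.centralizer (L : Set G) := by
      simpa using (Subgroup.centralizer (L : Set G)).mul_mem hw.2 ((Subgroup.centralizer (L : Set G)).inv_mem hb2)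
    rw [← hBA]
    refine ⟨a, ha, ?_⟩
    show g * a * g⁻¹ = a
    rw [Subgroup.mem_centralizer_iff.1 haL g hg, mul_inv_cancel_right]

end Cfsg.Agent.S2833
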