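import Cfsg.Statements.S2834
import Cfsg.Agent.Lib.LocalStructure.Minimal
import Cfsg.Agent.Lib.LocalStructure.WeaklyClosed

set_option autoImplicit false
open Cfsg

namespace Cfsg.Agent.S2834

/-- The L-Lemma: let H be a finite group with Sylow p-subgroup T such that H is T-minimal (generated by the conjugates of T, T in exactly one maximal subgroup M), and let A ≤ T with A not contained in O_p(H). Then there is a subgroup L of H containing A·O_p(H) such that (a) A·O_p(L) lies in exactly one maximal subgroup L₀ of L, and L₀ = L ∩ gMg⁻¹ for some g ∈ H; (b) L = ⟨A, xAx⁻¹⟩·O_p(L) for every x ∈ L outside L₀. -/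
theorem result {H : Type*} [Group H] [Finite H] {p : ℕ} [Fact p.Prime] (T : Sylow p H) (hmin : Cfsg.IsMinimalOver (T : Subgroup H)) (M : Subgroup H) (hM : IsCoatom M ∧ (T : Subgroup H) ≤ M) (A : Subgroup H) (hAT : A ≤ (T : Subgroup H)) (hA : ¬ A ≤ Cfsg.pCore p H) : ∃ L : Subgroup H, A ⊔ Cfsg.pCore p H ≤ L ∧ ∃ L₀ : Subgroup H, A ⊔ (Cfsg.pCoreOf p L) ≤ L₀ ∧ L₀ < L ∧ (∀ X : Subgroup H, A ⊔ (Cfsg.pCoreOf p L) ≤ X → X < L → X ≤ L₀) ∧ (∃ g : H, L₀ = L ⊓ ((M : Subgroup H).map (MulAut.conj (g : H)).toMonoidHom)) ∧ ∀ x ∈ L, x ∉ L₀ → (A ⊔ ((A : Subgroup H).map (MulAut.conj (x : H)).toMonoidHom)) ⊔ (Cfsg.pCoreOf p L) = L := by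
  have hu := hmin.2
  obtain ⟨a, L, h1, h2, h3, h4, h5⟩ :=
    CfsgLib.LS.l_lemma T (CfsgLib.LS.onlyMax_of_unique hM hu) hAT hA
  set c : Subgroup H → Subgroup H := CfsgLib.Coprime.conjBy a⁻¹ with hc
  have hcc : ∀ X : Subgroup H, c (CfsgLib.Coprime.conjBy a X) = X := fun X => by
    simp only [hc, CfsgLib.Coprime.conjBy_conjBy, inv_mul_cancel, CfsgLib.Coprime.conjBy_one]
  have hmono : ∀ {X Y : Subgroup H}, X ≤ Y → c X ≤ c Y := fun h => Subgroup.map_mono h
  have hsup : ∀ X Y : Subgroup H, c (X ⊔ Y) = c X ⊔ c Y := fun X Y => Subgroup.map_sup _ _ _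
  haveI := CfsgLib.Coprime.pCore_normal' (G := H) p
  have hQ : c (Cfsg.pCore p H) = Cfsg.pCore p H := CfsgLib.Coprime.conjBy_eq_self_iff.2
    (Subgroup.normalizer_eq_top_iff.2 (inferInstance : (Cfsg.pCore p H).Normal) ▸
      Subgroup.mem_top _)
  have hcore : Cfsg.pCoreOf p (c L) = c (Cfsg.pCoreOf p L) := by
    let e : L ≃* ↥(c L) := L.equivMapOfInjective _ (MulEquiv.injective (MulAut.conj a⁻¹))
    have := congrArg (Subgroup.map (c L).subtype) (CfsgLib.Coprime.map_pCore_equiv e p)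
    rw [Subgroup.map_map] at this
    refine this.symm.trans ?_
    show _ = ((Cfsg.pCore p L).map L.subtype).map (MulAut.conj a⁻¹).toMonoidHom
    rw [Subgroup.map_map]
    rfl
  refine ⟨c L, ?_, c (L ⊓ M), ?_, ?_, fun X hX hXL => ?_, ⟨a⁻¹, ?_⟩, fun x hx hx0 => ?_⟩
  · rw [← hcc A, ← hQ, ← hsup]; exact hmono h1
  · rw [hcore, ← hcc A, ← hsup]; exact hmono h2
  · refine lt_of_le_of_ne (hmono inf_le_left) fun e => h3.ne ?_
    exact Subgroup.map_injective (MulEquiv.injective _) e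
  · have hXc : c (CfsgLib.Coprime.conjBy a X) = X := hcc X
    rw [← hXc]
    refine hmono (h4 _ ?_ ?_)
    · rw [hcore] at hX
      have := CfsgLib.LS.conjBy_mono a hX
      simp only [hc, CfsgLib.Coprime.conjBy, Subgroup.map_sup] at this
      refine le_trans (le_of_eq ?_) this
      show CfsgLib.Coprime.conjBy a A ⊔ _ = CfsgLib.Coprime.conjBy a A ⊔
        CfsgLib.Coprime.conjBy a (CfsgLib.Coprime.conjBy a⁻¹ _)
      rw [CfsgLib.Coprime.conjBy_conjBy, mul_inv_cancel, CfsgLib.Coprime.conjBy_one]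
    · refine lt_of_le_of_ne ?_ fun e => hXL.ne (by rw [← hXc, e])
      have := CfsgLib.LS.conjBy_mono a hXL.le
      rwa [hc, CfsgLib.Coprime.conjBy_conjBy, mul_inv_cancel, CfsgLib.Coprime.conjBy_one] at this
  · exact Subgroup.map_inf_eq _ _ _ (MulEquiv.injective _)
  · have hx' : a * x * a⁻¹ ∈ L := by
      rw [hc, CfsgLib.Coprime.mem_conjBy, inv_inv] at hx; exact hx
    have hx0' : a * x * a⁻¹ ∉ L ⊓ M := fun h => hx0 (by
      rw [hc, CfsgLib.Coprime.mem_conjBy, inv_inv]; exact h)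
    have h := congrArg c (h5 _ hx' hx0')
    rw [hsup, hsup, hcc, ← hcore] at h
    refine Eq.trans ?_ h
    congr 2
    show CfsgLib.Coprime.conjBy x A = _
    simp only [hc, CfsgLib.Coprime.conjBy_conjBy]
    congr 1
    group

end Cfsg.Agent.S2834
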