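import Cfsg.Statements.S2835
import Cfsg.Agent.Lib.LocalStructure.Irreducible

set_option autoImplicit false
open Cfsg

namespace Cfsg.Agent.S2835

/-- Let L be a finite group, L₀ a maximal subgroup, T a Sylow p-subgroup of L₀ and Y ≤ T, and suppose L is Y-minimal (generated by the conjugates of Y, with Y in exactly one maximal subgroup, necessarily L₀). Then N_L(T) ≤ L₀, O_p(L) ≤ L₀ and T is a Sylow p-subgroup of L; N_L(L₀) = L₀; L = ⟨Y, gYg⁻¹⟩ for each g ∈ L outside L₀; and if Y is abelian then Y ∩ gYg⁻¹ = C_Y(L) for each such g. -/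
theorem result {L : Type*} [Group L] [Finite L] {p : ℕ} [Fact p.Prime] (L₀ : Subgroup L) (hL₀ : IsCoatom L₀) (T : Sylow p ↥L₀) (Y : Subgroup L) (hYT : Y ≤ (T : Subgroup ↥L₀).map L₀.subtype) (hmin : Cfsg.IsMinimalOver Y) : Subgroup.normalizer (((T : Subgroup ↥L₀).map L₀.subtype : Subgroup L) : Set L) ≤ L₀ ∧ Cfsg.pCore p L ≤ L₀ ∧ (∃ P : Sylow p L, (P : Subgroup L) = (T : Subgroup ↥L₀).map L₀.subtype) ∧ Subgroup.normalizer (L₀ : Set L) = L₀ ∧ (∀ g : L, g ∉ L₀ → Y ⊔ Y.map (MulAut.conj g).toMonoidHom = ⊤) ∧ (IsMulCommutative ↥Y → ∀ g : L, g ∉ L₀ → Y ⊓ Y.map (MulAut.conj g).toMonoidHom = Y ⊓ Subgroup.center L) := by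
  open Subgroup in
  set T' : Subgroup L := (T : Subgroup ↥L₀).map L₀.subtype with hT'
  have hT'L : T' ≤ L₀ := map_subtype_le _
  have hYL : Y ≤ L₀ := hYT.trans hT'L
  have hN : Subgroup.normalizer (T' : Set L) ≤ L₀ := fun g hg =>
    CfsgLib.LS.mem_of_conj_le hmin hL₀ hYL ((Subgroup.map_mono hYT).trans (by
      rintro _ ⟨y, hy, rfl⟩
      exact hT'L ((Subgroup.mem_normalizer_iff.1 hg y).1 hy)))
  obtain ⟨P, hP⟩ := (T.2.map L₀.subtype : IsPGroup p T').exists_le_sylow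
  have hPT : (P : Subgroup L) = T' := by
    by_contra hne
    have hlt : T'.subgroupOf P < ⊤ := lt_top_iff_ne_top.2 fun e =>
      hne (le_antisymm (Subgroup.subgroupOf_eq_top.1 e) hP)
    haveI := P.2.isNilpotent
    have hnc := Group.normalizerCondition_of_isNilpotent (T'.subgroupOf (P : Subgroup L)) hlt
    obtain ⟨x, hx, hx'⟩ := SetLike.exists_of_lt hnc
    have hxn : (x : L) ∈ Subgroup.normalizer (T' : Set L) := by
      refine Subgroup.mem_normalizer_iff.2 fun y => ⟨fun hy => ?_, fun hy => ?_⟩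
      · exact (Subgroup.mem_normalizer_iff.1 hx ⟨y, hP hy⟩).1 hy
      · have hyP : y ∈ (P : Subgroup L) := by
          have := (P : Subgroup L).mul_mem ((P : Subgroup L).mul_mem ((P : Subgroup L).inv_mem x.2) (hP hy)) x.2
          simpa [mul_assoc] using this
        exact (Subgroup.mem_normalizer_iff.1 hx ⟨y, hyP⟩).2 hy
    obtain ⟨Tm, hTm⟩ : ∃ Q : Subgroup L₀, (T : Subgroup L₀) < Q ∧ IsPGroup p Q := by
      refine ⟨(P : Subgroup L).subgroupOf L₀, lt_of_le_of_ne (fun t ht => hP (Subgroup.mem_map_of_mem _ ht)) fun e => hx' ?_,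
        P.2.comap_subtype⟩
      have : (⟨(x : L), hN hxn⟩ : L₀) ∈ (T : Subgroup L₀) := e ▸ x.2
      exact ⟨_, this, rfl⟩
    exact hTm.1.ne' (T.3 hTm.2 hTm.1.le)
  refine ⟨hN, (CfsgLib.PGroup.pCore_le_sylow P).trans (hPT.le.trans hT'L), ⟨P, hPT⟩, ?_, ?_, ?_⟩
  · refine le_antisymm (fun g hg => CfsgLib.LS.mem_of_conj_le hmin hL₀ hYL ((Subgroup.map_mono hYL).trans (by
      rintro _ ⟨y, hy, rfl⟩
      exact (Subgroup.mem_normalizer_iff.1 hg y).1 hy))) Subgroup.le_normalizer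
  all_goals
    have hgen : ∀ g : L, g ∉ L₀ → Y ⊔ Y.map (MulAut.conj g).toMonoidHom = ⊤ := by
      intro g hg
      by_contra hne
      obtain ⟨M', hM', hle⟩ := (eq_top_or_exists_le_coatom _).resolve_left hne
      obtain ⟨M₁, -, hu⟩ := hmin.2
      rw [(hu M' ⟨hM', le_sup_left.trans hle⟩).trans (hu L₀ ⟨hL₀, hYL⟩).symm] at hle
      exact hg (CfsgLib.LS.mem_of_conj_le hmin hL₀ hYL (le_sup_right.trans hle))
  · exact hgen
  · intro hab g hg
    refine le_antisymm (le_inf inf_le_left fun x hx => ?_) (le_inf inf_le_left fun x hx => ?_)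
    · obtain ⟨hxY, y, hy, hyx⟩ := hx
      change MulAut.conj g y = x at hyx
      have hle : Y ⊔ Y.map (MulAut.conj g).toMonoidHom ≤ Subgroup.centralizer ({x} : Set L) := by
        refine sup_le (fun z hz => Subgroup.mem_centralizer_singleton_iff.2 ?_) ?_
        · exact congrArg Subtype.val (hab.is_comm.comm (⟨z, hz⟩ : Y) ⟨x, hxY⟩)
        · rintro _ ⟨z, hz, rfl⟩
          rw [Subgroup.mem_centralizer_singleton_iff, ← hyx]
          change MulAut.conj g z * MulAut.conj g y = MulAut.conj g y * MulAut.conj g z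
          rw [← map_mul, ← map_mul]
          exact congrArg _ (congrArg Subtype.val (hab.is_comm.comm (⟨z, hz⟩ : Y) ⟨y, hy⟩))
      rw [hgen g hg] at hle
      exact Subgroup.mem_center_iff.2 fun z => Subgroup.mem_centralizer_singleton_iff.1 (hle (Subgroup.mem_top z))
    · refine ⟨x, hx.1, ?_⟩
      show g * x * g⁻¹ = x
      rw [Subgroup.mem_center_iff.1 hx.2 g, mul_inv_cancel_right]

end Cfsg.Agent.S2835
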