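import Cfsg.Statements.S2836
import Cfsg.Agent.Lib.LocalStructure.Minimal

set_option autoImplicit false
open Cfsg

namespace Cfsg.Agent.S2836

/-- Let L be a finite group, L₀ a maximal subgroup, T a Sylow p-subgroup of L₀, Y ≤ T, and suppose L is Y-minimal. Let D be the intersection of the conjugates of L₀ (the core of L₀). Then D contains O_p(L) and D/O_p(L) is the Frattini subgroup of L/O_p(L), so D is p-closed; and every normal subgroup N of L contained in L₀ is p-closed with N/O_p(N) a nilpotent group of order prime to p. -/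
theorem result {L : Type*} [Group L] [Finite L] {p : ℕ} [Fact p.Prime] (L₀ : Subgroup L) (hL₀ : IsCoatom L₀) (T : Sylow p ↥L₀) (Y : Subgroup L) (hYT : Y ≤ (T : Subgroup ↥L₀).map L₀.subtype) (hmin : Cfsg.IsMinimalOver Y) : (Cfsg.pCore p L ≤ L₀.normalCore ∧ (L₀.normalCore).map (QuotientGroup.mk' (Cfsg.pCore p L)) = frattini (L ⧸ Cfsg.pCore p L) ∧ Cfsg.IsPClosed p ↥(L₀.normalCore)) ∧ ∀ (N : Subgroup L) [N.Normal], N ≤ L₀ → Cfsg.IsPClosed p ↥N ∧ Group.IsNilpotent (↥N ⧸ Cfsg.pCore p ↥N) ∧ (Nat.card (↥N ⧸ Cfsg.pCore p ↥N)).Coprime p := by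
  have hYL₀ : Y ≤ L₀ := hYT.trans (Subgroup.map_subtype_le _)
  have hY := CfsgLib.LS.onlyMax_of_unique ⟨hL₀, hYL₀⟩ hmin.2
  obtain ⟨T', hT'⟩ := CfsgLib.LS.sylow_of_onlyMax T hYT hmin.1 hY
  have hYT' : Y ≤ (T' : Subgroup L) := hT' ▸ hYT
  have hT : CfsgLib.LS.OnlyMax (T' : Subgroup L) L₀ :=
    ⟨hL₀, hT'.le.trans (Subgroup.map_subtype_le _), fun X hX hne => hY.2.2 X (hYT'.trans hX) hne⟩
  haveI hOn := CfsgLib.Coprime.pCore_normal' (G := L) p
  have hO : Cfsg.pCore p L ≤ L₀ := (CfsgLib.PGroup.pCore_le_sylow T').trans hT.2.1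
  have hclosed : ∀ N : Subgroup L, N.Normal → N ≤ L₀ → Cfsg.IsPClosed p ↥N := fun N hN hle =>
    haveI := hN
    CfsgLib.LS.isPClosed_of_inf_le_pCore T' N (CfsgLib.LS.inf_le_pCore_of_normal_le T' hT N hle)
  have hs := QuotientGroup.mk'_surjective (Cfsg.pCore p L)
  refine ⟨⟨Subgroup.normal_le_normalCore.2 hO, le_antisymm
    (CfsgLib.LS.map_le_frattini_of_le hYT' hY hT _ (Subgroup.normalCore_le L₀)) ?_,
    hclosed _ inferInstance (Subgroup.normalCore_le L₀)⟩, fun N hN hle => ?_⟩
  · rw [← Subgroup.map_comap_eq_self_of_surjective hs (frattini (L ⧸ Cfsg.pCore p L))]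
    refine Subgroup.map_mono (Subgroup.normal_le_normalCore.2 ?_)
    have hback : (L₀.map (QuotientGroup.mk' (Cfsg.pCore p L))).comap
        (QuotientGroup.mk' (Cfsg.pCore p L)) = L₀ := by
      rw [Subgroup.comap_map_eq, QuotientGroup.ker_mk', sup_eq_left.2 hO]
    refine (Subgroup.comap_mono (frattini_le_coatom ?_)).trans hback.le
    refine ⟨fun e => hL₀.1 (by rw [← hback, e, Subgroup.comap_top]), fun B hB => ?_⟩
    have hlt : L₀ < B.comap (QuotientGroup.mk' (Cfsg.pCore p L)) := by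
      rw [← hback]; exact (Subgroup.comap_lt_comap_of_surjective hs).2 hB
    rw [← Subgroup.map_comap_eq_self_of_surjective hs B, hL₀.2 _ hlt,
      Subgroup.map_top_of_surjective _ hs]
  · haveI := hN
    refine ⟨hclosed N hN hle, ?_, ?_⟩
    · let f : N →* L ⧸ Cfsg.pCore p L := (QuotientGroup.mk' _).comp N.subtype
      have hf : f.range ≤ frattini (L ⧸ Cfsg.pCore p L) := by
        rintro _ ⟨n, rfl⟩
        exact CfsgLib.LS.map_le_frattini_of_le hYT' hY hT N hle (Subgroup.mem_map_of_mem _ n.2)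
      have hker : f.ker = Cfsg.pCore p N := by
        refine Subgroup.map_injective N.subtype_injective ?_
        rw [CfsgLib.Coprime.pCore_map_subtype_eq p N, ← MonoidHom.comap_ker, QuotientGroup.ker_mk',
          Subgroup.map_comap_eq, Subgroup.range_subtype, inf_comm]
      haveI : Group.IsNilpotent (frattini (L ⧸ Cfsg.pCore p L)) := frattini_nilpotent
      haveI : Group.IsNilpotent f.range :=
        (Group.isNilpotent_congr (Subgroup.subgroupOfEquivOfLe hf)).1 inferInstance
      haveI := CfsgLib.Coprime.pCore_normal' (G := N) p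
      exact (Group.isNilpotent_congr ((QuotientGroup.quotientMulEquivOfEq hker.symm).trans
        (QuotientGroup.quotientKerEquivRange f))).2 inferInstance
    · obtain ⟨P, hP⟩ := CfsgLib.LS.isPClosed_iff.1 (hclosed N hN hle)
      rw [Nat.coprime_comm, (Fact.out : p.Prime).coprime_iff_not_dvd]
      intro hd
      exact P.not_dvd_index (hd.trans (Subgroup.index_dvd_of_le hP))

end Cfsg.Agent.S2836
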