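import Cfsg.Statements.S2839
import Cfsg.Agent.Lib.LocalStructure.WeaklyClosed

set_option autoImplicit false
open Cfsg

namespace Cfsg.Agent.S2839

open scoped commutatorElement

/-- Let Q be a nontrivial p-subgroup of the finite group H that is a weakly closed subgroup, K a subgroup containing Q and N a normal subgroup of H. Then Q is a weakly closed subgroup of K; every H-conjugate of Q contained in K is a K-conjugate of Q; N_K(Q) contains a Sylow p-subgroup of K; N = N_N(Q)·O^p(N); and QN/N is a weakly closed subgroup of H/N. -/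
theorem result {H : Type*} [Group H] [Finite H] {p : ℕ} [Fact p.Prime] (Q : Subgroup H) (hQp : IsPGroup p ↥Q) (hQ1 : Q ≠ ⊥) (hwc : Cfsg.IsWeaklyClosedSubgroup p Q) (K : Subgroup H) (hQK : Q ≤ K) (N' : Subgroup H) [N'.Normal] : Cfsg.IsWeaklyClosedSubgroup p (Q.subgroupOf K) ∧ (∀ g : H, ((Q : Subgroup H).map (MulAut.conj (g : H)).toMonoidHom) ≤ K → ∃ k ∈ K, ((Q : Subgroup H).map (MulAut.conj (g : H)).toMonoidHom) = ((Q : Subgroup H).map (MulAut.conj (k : H)).toMonoidHom)) ∧ Cfsg.IsParabolic p ((Subgroup.normalizer ((Q : Subgroup H) : Set H)).subgroupOf K) ∧ (N' ⊓ Subgroup.normalizer ((Q : Subgroup H) : Set H)) ⊔ (Cfsg.pResidual p ↥N').map N'.subtype = N' ∧ Cfsg.IsWeaklyClosedSubgroup p (Q.map (QuotientGroup.mk' N')) := by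
  obtain ⟨S, hS⟩ := (hQp.comap_subtype : IsPGroup p (Q.subgroupOf K)).exists_le_sylow
  have hS1 : Q ≤ (S : Subgroup K).map K.subtype := by
    rw [← Subgroup.map_subgroupOf_eq_of_le hQK]; exact Subgroup.map_mono hS
  have hSN : (S : Subgroup K).map K.subtype ≤ Subgroup.normalizer (Q : Set H) :=
    Subgroup.le_normalizer.trans (CfsgLib.LS.normalizer_le_of_wc hwc (S.2.map _) hS1)
  obtain ⟨T, hQT⟩ := hQp.exists_le_sylow
  have hTN : (T : Subgroup H) ≤ Subgroup.normalizer (Q : Set H) :=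
    Subgroup.le_normalizer.trans (CfsgLib.LS.normalizer_le_of_wc hwc T.2 hQT)
  refine ⟨⟨S, hS, fun k hk => ?_⟩, fun g hg => CfsgLib.LS.wc_conj_in hQp hwc hQK hg, ⟨S, ?_⟩, ?_, ?_⟩
  · have h1 := Subgroup.map_mono (f := K.subtype) hk
    rw [CfsgLib.Coprime.conjBy_map, Subgroup.map_subgroupOf_eq_of_le hQK] at h1
    have h2 := CfsgLib.LS.wc_spec hwc (S.2.map _) hS1 h1
    refine Subgroup.map_injective K.subtype_injective ?_
    rw [CfsgLib.Coprime.conjBy_map, Subgroup.map_subgroupOf_eq_of_le hQK]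
    exact h2
  · exact fun x hx => Subgroup.mem_subgroupOf.2 (hSN (Subgroup.mem_map_of_mem _ hx))
  · obtain ⟨R, hR⟩ := CfsgLib.LS.sylow_inf_normal T N'
    refine le_antisymm (sup_le inf_le_left (Subgroup.map_subtype_le _)) ?_
    calc N' = (Cfsg.pResidual p N' ⊔ (R : Subgroup N')).map N'.subtype := by
          rw [CfsgLib.Fusion.pResidual_sup_sylow, ← MonoidHom.range_eq_map, Subgroup.range_subtype]
      _ ≤ _ := by
          rw [Subgroup.map_sup, hR, sup_comm]
          exact sup_le_sup_right (le_inf inf_le_right (inf_le_left.trans hTN)) _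
  · have hs := QuotientGroup.mk'_surjective N'
    refine ⟨T.mapSurjective hs, Subgroup.map_mono hQT, fun x hx => ?_⟩
    obtain ⟨g, rfl⟩ := hs x
    change CfsgLib.Coprime.conjBy (QuotientGroup.mk' N' g) _ ≤ _ at hx
    show CfsgLib.Coprime.conjBy (QuotientGroup.mk' N' g) _ = _
    rw [← CfsgLib.Coprime.conjBy_map] at hx ⊢
    have hle : CfsgLib.Coprime.conjBy g Q ≤ N' ⊔ (T : Subgroup H) := by
      rw [sup_comm, ← QuotientGroup.ker_mk' N', ← Subgroup.comap_map_eq, ← Subgroup.map_le_iff_le_comap]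
      exact hx
    obtain ⟨k, hk, e⟩ := CfsgLib.LS.wc_conj_in hQp hwc (hQT.trans le_sup_right) hle
    obtain ⟨n, hn, t, ht, rfl⟩ := CfsgLib.Coprime.mem_sup_exists
      (le_top.trans (Subgroup.normalizer_eq_top_iff.2 inferInstance).ge) hk
    rw [e, ← CfsgLib.Coprime.conjBy_conjBy, CfsgLib.Coprime.conjBy_eq_self_iff.2 (hTN ht),
      CfsgLib.Coprime.conjBy_map, QuotientGroup.mk'_apply, (QuotientGroup.eq_one_iff n).2 hn,
      CfsgLib.Coprime.conjBy_one]

end Cfsg.Agent.S2839
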