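import Cfsg.Statements.S2840
import Cfsg.Agent.Lib.LocalStructure.WeaklyClosed

set_option autoImplicit false
open Cfsg

namespace Cfsg.Agent.S2840

/-- Let Q be a nontrivial p-subgroup of the finite group H that is a weakly closed subgroup and K a subgroup containing Q; let K° be the weak closure of Q in K (generated by the H-conjugates of Q inside K). Then K° is generated by the K-conjugates of Q, and K° is the subnormal closure of Q in K. -/
theorem result {H : Type*} [Group H] [Finite H] {p : ℕ} [Fact p.Prime] (Q : Subgroup H) (hQp : IsPGroup p ↥Q) (hQ1 : Q ≠ ⊥) (hwc : Cfsg.IsWeaklyClosedSubgroup p Q) (K : Subgroup H) (hQK : Q ≤ K) (Kc : Subgroup H) (hKc : Kc = Cfsg.weakClosure Q K) : Kc = ⨆ k : ↥K, ((Q : Subgroup H).map (MulAut.conj ((k : H) : H)).toMonoidHom) ∧ Kc = (Cfsg.subnormalClosure (Q.subgroupOf K)).map K.subtype := by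
  subst hKc
  have h1 : Cfsg.weakClosure Q K = ⨆ k : ↥K, CfsgLib.Coprime.conjBy ((k : H)) Q := by
    refine le_antisymm (iSup_le fun g => ?_) (iSup_le fun k => ?_)
    · obtain ⟨k, hk, e⟩ := CfsgLib.LS.wc_conj_in hQp hwc hQK g.2
      exact e.le.trans (le_iSup (fun k : ↥K => CfsgLib.Coprime.conjBy ((k : H)) Q) ⟨k, hk⟩)
    · exact CfsgLib.LS.le_weakClosure
        (CfsgLib.LS.conjBy_le_of_mem_normalizer (Subgroup.le_normalizer k.2) hQK)
  refine ⟨h1, le_antisymm ?_ ?_⟩
  · have key : ∀ A : Subgroup K, A.IsSubnormal → Q.subgroupOf K ≤ A →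
        ∀ k : K, CfsgLib.Coprime.conjBy (k : H) Q ≤ A.map K.subtype := by
      intro A hA
      induction hA with
      | top =>
        intro _ k
        rw [← MonoidHom.range_eq_map, Subgroup.range_subtype]
        exact CfsgLib.LS.conjBy_le_of_mem_normalizer (Subgroup.le_normalizer k.2) hQK
      | step A B hle _ hN ih =>
        intro hQA k
        have hQA' : Q ≤ A.map K.subtype := by
          rw [← Subgroup.map_subgroupOf_eq_of_le hQK]; exact Subgroup.map_mono hQA
        obtain ⟨_, ⟨m, hm, rfl⟩, e⟩ := CfsgLib.LS.wc_conj_in hQp hwc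
          (hQA'.trans (Subgroup.map_mono hle)) (ih (hQA.trans hle) k)
        rw [e]
        refine (CfsgLib.LS.conjBy_mono _ hQA').trans ?_
        rw [← CfsgLib.Coprime.conjBy_map]
        exact Subgroup.map_mono (CfsgLib.Coprime.conjBy_eq_self_iff.2
          ((Subgroup.normal_subgroupOf_iff_le_normalizer hle).1 hN hm)).le
    rw [h1, Cfsg.subnormalClosure]
    refine iSup_le fun k => ?_
    intro x hx
    have hxK : x ∈ K :=
      CfsgLib.LS.conjBy_le_of_mem_normalizer (Subgroup.le_normalizer k.2) hQK hx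
    refine ⟨⟨x, hxK⟩, Subgroup.mem_sInf.2 fun A hA => ?_, rfl⟩
    obtain ⟨y, hy, e⟩ := key A hA.2 hA.1 k hx
    rwa [show y = ⟨x, hxK⟩ from Subtype.ext e] at hy
  · have hW : Cfsg.weakClosure Q K ≤ K := CfsgLib.LS.weakClosure_le
    haveI hn : ((Cfsg.weakClosure Q K).subgroupOf K).Normal := by
      refine (Subgroup.normal_subgroupOf_iff_le_normalizer hW).2
        (Subgroup.le_normalizer_iff.2 fun k hk x hx => ?_)
      have h := Subgroup.mem_map_of_mem (MulAut.conj k).toMonoidHom hx
      rw [h1, Subgroup.map_iSup] at h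
      rw [h1]
      refine SetLike.le_def.1 (iSup_le fun j => ?_) h
      show CfsgLib.Coprime.conjBy k (CfsgLib.Coprime.conjBy (j : H) Q) ≤ _
      rw [CfsgLib.Coprime.conjBy_conjBy]
      exact le_iSup (fun j : ↥K => CfsgLib.Coprime.conjBy ((j : H)) Q) ⟨k * j, mul_mem hk j.2⟩
    rw [Cfsg.subnormalClosure]
    refine (Subgroup.map_mono (sInf_le ?_)).trans (Subgroup.map_subgroupOf_eq_of_le hW).le
    exact ⟨Subgroup.comap_mono (CfsgLib.LS.self_le_weakClosure hQK), hn.isSubnormal⟩

end Cfsg.Agent.S2840
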