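import Cfsg.Statements.S2841
import Cfsg.Agent.Lib.LocalStructure.WeaklyClosed

set_option autoImplicit false
open Cfsg

namespace Cfsg.Agent.S2841

open scoped commutatorElement

/-- Let Q be a nontrivial p-subgroup of the finite group H that is a weakly closed subgroup and N a normal subgroup of H. Then N = N_N(Q)·[N, Q] and [N, Q] = (Q ∩ [N, Q])·[N, Q, Q]. -/
theorem result {H : Type*} [Group H] [Finite H] {p : ℕ} [Fact p.Prime] (Q : Subgroup H) (hQp : IsPGroup p ↥Q) (hQ1 : Q ≠ ⊥) (hwc : Cfsg.IsWeaklyClosedSubgroup p Q) (N' : Subgroup H) [N'.Normal] : (∀ n : H, n ∈ N' → ∃ a ∈ N' ⊓ Subgroup.normalizer ((Q : Subgroup H) : Set H), ∃ b ∈ ⁅N', Q⁆, n = a * b) ∧ (∀ c : H, c ∈ ⁅N', Q⁆ → ∃ a ∈ Q ⊓ ⁅N', Q⁆, ∃ b ∈ ⁅⁅N', Q⁆, Q⁆, c = a * b) := by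
  have hQN : Q ≤ Subgroup.normalizer (N' : Set H) :=
    le_top.trans (Subgroup.normalizer_eq_top_iff.2 inferInstance).ge
  refine ⟨CfsgLib.LS.wc_frattini hQp hwc hQN, ?_⟩
  set M := ⁅N', Q⁆ with hM
  have hMN : M ≤ N' := Subgroup.commutator_le_left N' Q
  have hNM : N' ≤ Subgroup.normalizer (M : Set H) := Subgroup.normalizer_commutator_ge_left N' Q
  have hQM : Q ≤ Subgroup.normalizer (M : Set H) := Subgroup.normalizer_commutator_ge_right N' Q
  have hQ2 : Q ⊓ M ≤ Subgroup.normalizer ((⁅M, Q⁆ : Subgroup H) : Set H) :=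
    inf_le_left.trans (Subgroup.normalizer_commutator_ge_right M Q)
  have hle : M ≤ ⁅M, Q⁆ ⊔ (Q ⊓ M) := by
    refine Subgroup.commutator_le.2 fun n hn q hq => ?_
    obtain ⟨a, ha, b, hb, rfl⟩ := CfsgLib.LS.wc_frattini hQp hwc hQN n hn
    have h1 : ⁅a, q⁆ ∈ Q ⊓ M := Subgroup.mem_inf.2 ⟨by
      rw [commutatorElement_def]
      exact mul_mem ((Subgroup.mem_normalizer_iff.1 ha.2 q).1 hq) (inv_mem hq),
      Subgroup.commutator_mem_commutator ha.1 hq⟩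
    rw [show ⁅a * b, q⁆ = ⁅a * b * a⁻¹, a * q * a⁻¹⁆ * ⁅a, q⁆ by
      simp only [commutatorElement_def]; group]
    exact mul_mem (Subgroup.mem_sup_left (Subgroup.commutator_mem_commutator
      ((Subgroup.mem_normalizer_iff.1 (hNM ha.1) b).1 hb)
      ((Subgroup.mem_normalizer_iff.1 ha.2 q).1 hq))) (Subgroup.mem_sup_right h1)
  intro c hc
  obtain ⟨b, hb, a, ha, rfl⟩ := CfsgLib.Coprime.mem_sup_exists hQ2 (hle hc)
  exact ⟨a, ha, a⁻¹ * b * a, (Subgroup.mem_normalizer_iff''.1 (hQ2 ha) b).1 hb, by group⟩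

end Cfsg.Agent.S2841
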