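import Cfsg.Statements.S2842
import Cfsg.Agent.Lib.LocalStructure.WeaklyClosed

set_option autoImplicit false
open Cfsg

namespace Cfsg.Agent.S2842

/-- Let Q be a nontrivial p-subgroup of the finite group H that is a weakly closed subgroup with C_H(Q) ≤ Q, and Q ≤ L ≤ H. Suppose H has characteristic p, or more generally that C_H(y) has characteristic p for some nonidentity y ∈ C_{O_p(L)}(Q). Then [Q, C_H(O_p(L))] ≤ Q ∩ O_p(L), C_H(O_p(L)) is a p-group, and L has characteristic p. -/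
theorem result {H : Type*} [Group H] [Finite H] {p : ℕ} [Fact p.Prime] (Q : Subgroup H) (hQp : IsPGroup p ↥Q) (hQ1 : Q ≠ ⊥) (hwc : Cfsg.IsWeaklyClosedSubgroup p Q) (hCQ : Subgroup.centralizer ((Q : Subgroup H) : Set H) ≤ Q) (L : Subgroup H) (hQL : Q ≤ L) (hyp : Subgroup.centralizer (Cfsg.pCore p H : Set H) ≤ Cfsg.pCore p H ∨ ∃ y : H, y ≠ 1 ∧ y ∈ (Cfsg.pCoreOf p L) ⊓ Subgroup.centralizer ((Q : Subgroup H) : Set H) ∧ Subgroup.centralizer (Cfsg.pCore p ↥(Subgroup.centralizer ({y} : Set H)) : Set ↥(Subgroup.centralizer ({y} : Set H))) ≤ Cfsg.pCore p ↥(Subgroup.centralizer ({y} : Set H))) : ⁅Q, Subgroup.centralizer (((Cfsg.pCoreOf p L) : Subgroup H) : Set H)⁆ ≤ Q ⊓ (Cfsg.pCoreOf p L) ∧ IsPGroup p ↥(Subgroup.centralizer (((Cfsg.pCoreOf p L) : Subgroup H) : Set H)) ∧ Subgroup.centralizer (Cfsg.pCore p ↥L : Set ↥L) ≤ Cfsg.pCore p ↥L := by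
  refine CfsgLib.LS.wc_charP hQp hwc hCQ hQL fun L' hL' hL'' => ?_
  rcases hyp with h | ⟨y, -, hy, hch⟩
  · refine ⟨⊤, le_top, le_top, (CfsgLib.LS.charP_iff ⊤).2 ?_⟩
    rw [show Cfsg.pCoreOf p (⊤ : Subgroup H) = Cfsg.pCore p H from
      CfsgLib.Coprime.map_pCore_equiv Subgroup.topEquiv p]
    exact inf_le_right.trans h
  · refine ⟨Subgroup.centralizer ({y} : Set H), fun q hq => ?_, ?_, hch⟩
    · exact Subgroup.mem_centralizer_singleton_iff.2 (Subgroup.mem_centralizer_iff.1 hy.2 q hq)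
    · have hle : Cfsg.pCoreOf p L ≤ Cfsg.pCoreOf p L' :=
        CfsgLib.LS.le_pCoreOf (CfsgLib.LS.pCoreOf_isPGroup L)
          ((CfsgLib.LS.pCoreOf_le_self L).trans hL')
          (hL''.trans (sup_le (Subgroup.le_normalizer.trans
            (CfsgLib.LS.normalizer_le_normalizer_pCoreOf L))
            (Subgroup.centralizer_le_normalizer _)))
      intro x hx
      exact Subgroup.mem_centralizer_singleton_iff.2
        (Subgroup.mem_centralizer_iff.1 hx.1 y (hle hy.1)).symm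

end Cfsg.Agent.S2842
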