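import Cfsg.Statements.S2843
import Cfsg.Agent.Lib.LocalStructure.BasicProperty

set_option autoImplicit false
open Cfsg

namespace Cfsg.Agent.S2843

open scoped commutatorElement

/-- Let Q be a nontrivial large p-subgroup of the finite group H, Q ≤ L ≤ H, and Y a nontrivial p-subgroup of H normalized by L. Let L° be the weak closure of Q in L (generated by the conjugates of Q inside L). Then L° equals the weak closure of Q in L·C_H(Y), and [L°, C_H(Y)] ≤ O_p(L°); in particular C_H(Y) normalizes L°. -/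
theorem result {H : Type*} [Group H] [Finite H] {p : ℕ} [Fact p.Prime] (Q : Subgroup H) (hQp : IsPGroup p ↥Q) (hQ1 : Q ≠ ⊥) (hL : Cfsg.IsLarge Q) (L : Subgroup H) (hQL : Q ≤ L) (Y : Subgroup H) (hYp : IsPGroup p ↥Y) (hY1 : Y ≠ ⊥) (hLY : L ≤ Subgroup.normalizer ((Y : Subgroup H) : Set H)) : Cfsg.weakClosure Q L = Cfsg.weakClosure Q (L ⊔ Subgroup.centralizer ((Y : Subgroup H) : Set H)) ∧ ⁅Cfsg.weakClosure Q L, Subgroup.centralizer ((Y : Subgroup H) : Set H)⁆ ≤ (Cfsg.pCoreOf p (Cfsg.weakClosure Q L)) ∧ Subgroup.centralizer ((Y : Subgroup H) : Set H) ≤ Subgroup.normalizer (((Cfsg.weakClosure Q L) : Subgroup H) : Set H) := by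
  set C := Subgroup.centralizer (Y : Set H) with hC
  have hCQ : ∀ g : H, CfsgLib.Coprime.conjBy g Q ≤ L →
      C ≤ Subgroup.normalizer (CfsgLib.Coprime.conjBy g Q : Set H) := fun g hg =>
    CfsgLib.LS.large_centralizer_le (CfsgLib.LS.isPGroup_conjBy hQp g)
      (CfsgLib.LS.large_conjBy hL g) hYp hY1 (hg.trans hLY)
  have hCW : C ≤ Subgroup.normalizer ((Cfsg.weakClosure Q L : Subgroup H) : Set H) := by
    refine Subgroup.le_normalizer_iff.2 fun c hc x hx => ?_
    have h := Subgroup.mem_map_of_mem (MulAut.conj c).toMonoidHom hx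
    rw [Cfsg.weakClosure, Subgroup.map_iSup] at h
    refine SetLike.le_def.1 (iSup_le fun g => ?_) h
    exact (CfsgLib.Coprime.conjBy_eq_self_iff.2 (hCQ g g.2 hc)).le.trans
      (CfsgLib.LS.le_weakClosure g.2)
  refine ⟨CfsgLib.LS.large_weakClosure_sup hQp hQ1 hL hQL hYp hY1 hLY, ?_, hCW⟩
  set W := Cfsg.weakClosure Q L with hW
  have hWL : W ≤ L := CfsgLib.LS.weakClosure_le
  have hLC : L ≤ Subgroup.normalizer (C : Set H) :=
    hLY.trans (CfsgLib.Coprime.normalizer_le_normalizer_centralizer Y)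
  set D := Cfsg.pCoreOf p C with hD
  have hND : Subgroup.normalizer (C : Set H) ≤ Subgroup.normalizer (D : Set H) :=
    CfsgLib.LS.normalizer_le_normalizer_pCoreOf C
  have hconj : ∀ g : H, CfsgLib.Coprime.conjBy g Q ≤ L →
      ∀ c ∈ C, ∀ x ∈ CfsgLib.Coprime.conjBy g Q, ⁅x, c⁆ ∈ D := by
    intro g hg c hc x hx
    have h1 := CfsgLib.LS.commutator_le_inf_of_normalizing (hCQ g hg) (hg.trans hLC)
    have h2 : CfsgLib.Coprime.conjBy g Q ⊓ C ≤ D :=
      CfsgLib.LS.le_pCoreOf ((CfsgLib.LS.isPGroup_conjBy hQp g).to_le inf_le_left) inf_le_right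
        (CfsgLib.Coprime.inf_le_normalizer (hCQ g hg) Subgroup.le_normalizer)
    exact h2 (h1 (Subgroup.commutator_mem_commutator hx hc))
  have hWC : ⁅W, C⁆ ≤ D := by
    refine Subgroup.commutator_le.2 fun w hw c hc => ?_
    have hw' := hw
    rw [hW, Cfsg.weakClosure] at hw'
    induction hw' using Subgroup.iSup_induction' generalizing c with
    | hp g x hx => exact hconj g g.2 c hc x hx
    | h1 => simp
    | hmul a b ha hb iha ihb =>
      rw [show ⁅a * b, c⁆ = a * ⁅b, c⁆ * a⁻¹ * ⁅a, c⁆ by simp only [commutatorElement_def]; group]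
      exact mul_mem ((Subgroup.mem_normalizer_iff.1 (hND (hLC (hWL ha))) _).1 (ihb hb c hc))
        (iha ha c hc)
  exact CfsgLib.LS.le_pCoreOf ((CfsgLib.LS.pCoreOf_isPGroup C).to_le hWC)
    (CfsgLib.LS.commutator_le_inf_of_normalizing hCW (hWL.trans hLC) |>.trans inf_le_left)
    (Subgroup.normalizer_commutator_ge_left W C)

end Cfsg.Agent.S2843
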