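import Cfsg.Statements.S2844
import Cfsg.Agent.Lib.LocalStructure.BasicProperty

set_option autoImplicit false
open Cfsg

namespace Cfsg.Agent.S2844

/-- Let Q be a nontrivial large p-subgroup of the finite group H and Q• = O_p(N_H(Q)). Then for every g ∈ H outside N_H(Q): C_H(Q) ∩ C_H(gQg⁻¹) = 1, C_H(Q•) ∩ C_H(gQ•g⁻¹) = 1, Z(Q) ∩ Z(gQg⁻¹) = 1 and Z(Q•) ∩ Z(gQ•g⁻¹) = 1; moreover N_H(Q) = N_H(Q•) and Q• is large in H. -/
theorem result {H : Type*} [Group H] [Finite H] {p : ℕ} [Fact p.Prime] (Q : Subgroup H) (hQp : IsPGroup p ↥Q) (hQ1 : Q ≠ ⊥) (hL : Cfsg.IsLarge Q) (Qb : Subgroup H) (hQb : Qb = Cfsg.largeBullet p Q) : (∀ g : H, g ∉ Subgroup.normalizer ((Q : Subgroup H) : Set H) → Subgroup.centralizer ((Q : Subgroup H) : Set H) ⊓ Subgroup.centralizer ((((Q : Subgroup H).map (MulAut.conj (g : H)).toMonoidHom) : Subgroup H) : Set H) = ⊥ ∧ Subgroup.centralizer ((Qb : Subgroup H) : Set H) ⊓ Subgroup.centralizer ((((Qb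 : Subgroup H).map (MulAut.conj (g : H)).toMonoidHom) : Subgroup H) : Set H) = ⊥ ∧ (Q ⊓ Subgroup.centralizer ((Q : Subgroup H) : Set H)) ⊓ (((Q : Subgroup H).map (MulAut.conj (g : H)).toMonoidHom) ⊓ Subgroup.centralizer ((((Q : Subgroup H).map (MulAut.conj (g : H)).toMonoidHom) : Subgroup H) : Set H)) = ⊥ ∧ (Qb ⊓ Subgroup.centralizer ((Qb : Subgroup H) : Set H)) ⊓ (((Qb : Subgroup H).map (MulAut.conj (g : H)).toMonoidHom) ⊓ Subgroup.centralizer ((((Qb : Subgroup H).map (MulAut.conj (g : H)).toMonoidHom) : Subgroup H) : Set H)) = ⊥) ∧ Subgroup.normalizer ((Q : Subgroup H) : Set H) = Subgroup.normalizer ((Qb : Subgroup H) : Set H) ∧ Cfsg.IsLarge Qb := by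
  subst hQb
  have hwc := CfsgLib.LS.large_wc hQp hQ1 hL
  set Qb := Cfsg.largeBullet p Q with hQb'
  have hQQb : Q ≤ Qb := CfsgLib.LS.le_pCoreOf hQp Subgroup.le_normalizer le_rfl
  have hN : Subgroup.normalizer (Q : Set H) = Subgroup.normalizer (Qb : Set H) :=
    le_antisymm (Subgroup.le_normalizer.trans (CfsgLib.LS.normalizer_le_normalizer_pCoreOf _))
      (CfsgLib.LS.normalizer_le_of_wc hwc (CfsgLib.LS.pCoreOf_isPGroup _) hQQb)
  have hc : Subgroup.centralizer (Qb : Set H) ≤ Subgroup.centralizer (Q : Set H) :=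
    Subgroup.centralizer_le (SetLike.coe_subset_coe.2 hQQb)
  refine ⟨fun g hg => ?_, hN, ⟨(hc.trans hL.1).trans hQQb, fun U hU hU1 => ?_⟩⟩
  · have hne : CfsgLib.Coprime.conjBy g Q ≠ Q := fun e =>
      hg (CfsgLib.Coprime.conjBy_eq_self_iff.1 e)
    have h := CfsgLib.LS.large_inf_centralizer_eq_bot hQp hQ1 hL hne
    have hc' : Subgroup.centralizer (CfsgLib.Coprime.conjBy g Qb : Set H) ≤
        Subgroup.centralizer (CfsgLib.Coprime.conjBy g Q : Set H) :=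
      Subgroup.centralizer_le (SetLike.coe_subset_coe.2 (CfsgLib.LS.conjBy_mono g hQQb))
    exact ⟨h, le_bot_iff.1 ((inf_le_inf hc hc').trans h.le),
      le_bot_iff.1 ((inf_le_inf inf_le_right inf_le_right).trans h.le),
      le_bot_iff.1 ((inf_le_inf (inf_le_right.trans hc) (inf_le_right.trans hc')).trans h.le)⟩
  · exact (hL.2 U (hU.trans hc) hU1).trans hN.le

end Cfsg.Agent.S2844
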