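import Cfsg.Statements.S2845
import Cfsg.Agent.Lib.LocalStructure.BasicProperty

set_option autoImplicit false
open Cfsg

namespace Cfsg.Agent.S2845

/-- Let Q be a nontrivial large p-subgroup of the finite group H. Then for every subgroup L ≥ Q with O_p(L) ≠ 1, C_H(O_p(L)) is a p-group and L has characteristic p, and either the weak closure L° of Q in L equals Q or C_H(L°) = 1; for every subgroup R of H containing a Sylow p-subgroup of H with O_p(R) ≠ 1, C_H(O_p(R)) ≤ O_p(R); and H has parabolic characteristic p. -/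
theorem result {H : Type*} [Group H] [Finite H] {p : ℕ} [Fact p.Prime] (Q : Subgroup H) (hQp : IsPGroup p ↥Q) (hQ1 : Q ≠ ⊥) (hL : Cfsg.IsLarge Q) : (∀ L : Subgroup H, Q ≤ L → Cfsg.pCore p ↥L ≠ ⊥ → IsPGroup p ↥(Subgroup.centralizer (((Cfsg.pCoreOf p L) : Subgroup H) : Set H)) ∧ Subgroup.centralizer (Cfsg.pCore p ↥L : Set ↥L) ≤ Cfsg.pCore p ↥L ∧ (Cfsg.weakClosure Q L = Q ∨ Subgroup.centralizer (((Cfsg.weakClosure Q L) : Subgroup H) : Set H) = ⊥)) ∧ (∀ R : Subgroup H, Cfsg.IsParabolic p R → Cfsg.pCore p ↥R ≠ ⊥ → Subgroup.centralizer (((Cfsg.pCoreOf p R) : Subgroup H) : Set H) ≤ (Cfsg.pCoreOf p R)) ∧ Cfsg.IsOfParabolicCharacteristic p H := by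
  refine ⟨fun L hQL hP => ?_, fun R hR hP => ?_, CfsgLib.LS.large_parabolic hQp hQ1 hL⟩
  · obtain ⟨-, h2, h3⟩ := CfsgLib.LS.large_charP hQp hQ1 hL hQL (CfsgLib.LS.pCore_ne_bot_iff.1 hP)
    refine ⟨h2, h3, ?_⟩
    by_contra hcon
    push_neg at hcon
    obtain ⟨hne, hC⟩ := hcon
    obtain ⟨g, hgL, hg⟩ : ∃ g : H, CfsgLib.Coprime.conjBy g Q ≤ L ∧
        CfsgLib.Coprime.conjBy g Q ≠ Q := by
      by_contra hno
      push_neg at hno
      exact hne (le_antisymm (iSup_le fun g => (hno g g.2).le)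
        (CfsgLib.LS.self_le_weakClosure hQL))
    refine hC (le_bot_iff.1 ((le_inf (Subgroup.centralizer_le (SetLike.coe_subset_coe.2
      (CfsgLib.LS.self_le_weakClosure hQL))) (Subgroup.centralizer_le (SetLike.coe_subset_coe.2
      (CfsgLib.LS.le_weakClosure hgL)))).trans
      (CfsgLib.LS.large_inf_centralizer_eq_bot hQp hQ1 hL hg).le))
  · obtain ⟨T, hT⟩ := hR
    exact (CfsgLib.LS.mem_charPSubgroups (CfsgLib.LS.large_parabolic hQp hQ1 hL) T hT hP).2

end Cfsg.Agent.S2845
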