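import Cfsg.Statements.S2848
import Cfsg.Agent.Lib.LocalStructure.BasicProperty

set_option autoImplicit false
open Cfsg

namespace Cfsg.Agent.S2848

/-- Standing hypotheses: G a finite group, S a Sylow p-subgroup, Q a nontrivial large p-subgroup of G contained in S (C_G(Q) ≤ Q and N_G(U) ≤ N_G(Q) for all nontrivial U ≤ C_G(Q)), and M a subgroup containing S with the basic property (M ∈ 𝔐_G(S)); Y_M denotes the largest p-reduced normal subgroup of M and M† = M·C_G(Y_M). Then O_p(M) is a weakly closed subgroup of M† (for p): it is the only M†-conjugate of itself inside some Sylow p-subgroup of M† containing it. -/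
theorem result {G : Type*} [Group G] [Finite G] {p : ℕ} [Fact p.Prime] (S : Sylow p G) (Q : Subgroup G) (hQp : IsPGroup p ↥Q) (hQ1 : Q ≠ ⊥) (hQS : Q ≤ (S : Subgroup G)) (hQ : Cfsg.IsLarge Q) (M : Subgroup G) (hSM : (S : Subgroup G) ≤ M) (hM : Cfsg.IsInFrakM p M) : Cfsg.IsWeaklyClosedSubgroup p (((Cfsg.pCoreOf p M)).subgroupOf (M ⊔ Subgroup.centralizer (((Cfsg.largestPReducedOf p M) : Subgroup G) : Set G))) := by
  obtain ⟨hMmem, -, -, -, hclosed, -⟩ := hM
  set Y := Cfsg.largestPReducedOf p M with hY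
  set C := Subgroup.centralizer (Y : Set G) with hC
  set P := Cfsg.pCoreOf p M with hP
  have hMN : M ≤ Subgroup.normalizer (Y : Set G) := CfsgLib.LS.le_normalizer_largestPReducedOf M
  have hYC := CfsgLib.Coprime.normalizer_le_normalizer_centralizer Y
  haveI : ((M ⊓ C).subgroupOf M).Normal :=
    (Subgroup.normal_subgroupOf_iff_le_normalizer inf_le_left).2
      (CfsgLib.Coprime.inf_le_normalizer Subgroup.le_normalizer (hMN.trans hYC))
  have hPT : P = (S : Subgroup G) ⊓ C := by
    refine le_antisymm (le_inf (CfsgLib.LS.pCoreOf_le_sylow S hSM)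
      (CfsgLib.LS.pCoreOf_le_centralizer_largest M)) ?_
    intro x hx
    have h := CfsgLib.LS.inf_le_pCore_of_isPClosed (S.subtype hSM) ((M ⊓ C).subgroupOf M)
      (CfsgLib.LS.isPClosed_of_equiv (Subgroup.subgroupOfEquivOfLe inf_le_left).symm hclosed)
      (show (⟨x, hSM hx.1⟩ : M) ∈ _ from ⟨hx.1, ⟨hSM hx.1, hx.2⟩⟩)
    exact Subgroup.mem_map_of_mem M.subtype h
  set K := M ⊔ C with hK
  have hSK : (S : Subgroup G) ≤ K := hSM.trans le_sup_left
  refine ⟨S.subtype hSK, fun x hx => (hPT.le hx).1, fun k hk => ?_⟩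
  have hKN : K ≤ Subgroup.normalizer (C : Set G) :=
    sup_le (hMN.trans hYC) Subgroup.le_normalizer
  have hPK : P ≤ K := (CfsgLib.LS.pCoreOf_le_self M).trans le_sup_left
  have h1 := Subgroup.map_mono (f := K.subtype) hk
  rw [CfsgLib.Coprime.conjBy_map, Subgroup.map_subgroupOf_eq_of_le hPK] at h1
  refine Subgroup.map_injective K.subtype_injective ?_
  rw [CfsgLib.Coprime.conjBy_map, Subgroup.map_subgroupOf_eq_of_le hPK]
  refine Subgroup.eq_of_le_of_card_ge (le_trans (le_inf (h1.trans ?_) ?_) hPT.ge)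
    (CfsgLib.Coprime.card_conjBy _ _).ge
  · rw [Sylow.coe_subtype, Subgroup.map_subgroupOf_eq_of_le hSK]
  · exact CfsgLib.LS.conjBy_le_of_mem_normalizer (hKN k.2) (hPT.le.trans inf_le_right)

end Cfsg.Agent.S2848
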