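import Cfsg.Statements.S2849
import Cfsg.Agent.Lib.LocalStructure.BasicProperty

set_option autoImplicit false
open Cfsg

namespace Cfsg.Agent.S2849

/-- Standing hypotheses: G a finite group, S a Sylow p-subgroup, Q a nontrivial large p-subgroup of G contained in S (C_G(Q) ≤ Q and N_G(U) ≤ N_G(Q) for all nontrivial U ≤ C_G(Q)), and M a subgroup containing S with the basic property (M ∈ 𝔐_G(S)); Y_M denotes the largest p-reduced normal subgroup of M and M† = M·C_G(Y_M). Suppose Y_M is asymmetric in G. Then for every subgroup R with Y_M ≤ R ≤ M†, the normal closure of Y_M in N_G(R) is elementary abelian. -/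
theorem result {G : Type*} [Group G] [Finite G] {p : ℕ} [Fact p.Prime] (S : Sylow p G) (Q : Subgroup G) (hQp : IsPGroup p ↥Q) (hQ1 : Q ≠ ⊥) (hQS : Q ≤ (S : Subgroup G)) (hQ : Cfsg.IsLarge Q) (M : Subgroup G) (hSM : (S : Subgroup G) ≤ M) (hM : Cfsg.IsInFrakM p M) (hasym : ¬ Cfsg.IsSymmetricIn (Cfsg.largestPReducedOf p M)) (R : Subgroup G) (hYR : (Cfsg.largestPReducedOf p M) ≤ R) (hRM : R ≤ (M ⊔ Subgroup.centralizer (((Cfsg.largestPReducedOf p M) : Subgroup G) : Set G))) : Cfsg.IsElementaryAbelian p ((Subgroup.normalClosure ((((Cfsg.largestPReducedOf p M)).subgroupOf (Subgroup.normalizer ((R : Subgroup G) : Set G)) : Subgroup ↥(Subgroup.normalizer ((R : Subgroup G) : Set G))) : Set ↥(Subgroup.normalizer ((R : Subgroup G) : Set G)))).map (Subgroup.normalizer ((R : Subgroup G) : Set G)).subtype) := by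
  set Y := Cfsg.largestPReducedOf p M with hY
  set N := Subgroup.normalizer (R : Set G) with hN
  have hYN : Y ≤ N := hYR.trans Subgroup.le_normalizer
  have hRY : R ≤ Subgroup.normalizer (Y : Set G) :=
    hRM.trans (sup_le (CfsgLib.LS.le_normalizer_largestPReducedOf M)
      (Subgroup.centralizer_le_normalizer _))
  have hYe := CfsgLib.LS.largestPReducedOf_ea (p := p) M
  have hcomm : ∀ g ∈ N, CfsgLib.Coprime.conjBy g Y ≤ Subgroup.centralizer (Y : Set G) := by
    intro g hg
    rw [Subgroup.le_centralizer_iff, ← Subgroup.commutator_eq_bot_iff_le_centralizer]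
    by_contra h
    refine hasym ⟨g, h, CfsgLib.LS.commutator_le_inf_of_normalizing
      ((CfsgLib.LS.conjBy_le_of_mem_normalizer hg hYR).trans hRY) ?_⟩
    refine hYR.trans ?_
    rw [← CfsgLib.LS.normalizer_conjBy]
    exact (CfsgLib.Coprime.conjBy_eq_self_iff.2 hg).ge.trans (CfsgLib.LS.conjBy_mono g hRY)
  refine CfsgLib.Fusion.isElementaryAbelian_map _ ?_
  set Y' := Y.subgroupOf N with hY'
  have hgen : ∀ x ∈ Group.conjugatesOfSet (Y' : Set N), x ^ p = 1 ∧
      ∀ y ∈ Group.conjugatesOfSet (Y' : Set N), Commute x y := by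
    intro x hx
    obtain ⟨a, ha, hax⟩ := Group.mem_conjugatesOfSet_iff.1 hx
    obtain ⟨g, rfl⟩ := isConj_iff.1 hax
    refine ⟨by rw [conj_pow, show a ^ p = 1 from Subtype.ext (hYe.2 _ ha), mul_one, mul_inv_cancel],
      fun y hy => ?_⟩
    obtain ⟨b, hb, hby⟩ := Group.mem_conjugatesOfSet_iff.1 hy
    obtain ⟨h, rfl⟩ := isConj_iff.1 hby
    have hc : (g⁻¹ * h * b * h⁻¹ * g : N) * a = a * (g⁻¹ * h * b * h⁻¹ * g) := by
      refine Subtype.ext ?_
      refine (Subgroup.mem_centralizer_iff.1 (hcomm ((g⁻¹ * h : N) : G) (g⁻¹ * h : N).2 ?_) _ ha).symm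
      rw [CfsgLib.Coprime.mem_conjBy]
      have e : ((g⁻¹ * h : N) : G)⁻¹ * ((g⁻¹ * h * b * h⁻¹ * g : N) : G) * ((g⁻¹ * h : N) : G) = b := by
        simp only [Subgroup.coe_mul, Subgroup.coe_inv]; group
      rw [e]; exact hb
    show g * a * g⁻¹ * (h * b * h⁻¹) = h * b * h⁻¹ * (g * a * g⁻¹)
    calc g * a * g⁻¹ * (h * b * h⁻¹) = g * (a * (g⁻¹ * h * b * h⁻¹ * g)) * g⁻¹ := by group
      _ = g * ((g⁻¹ * h * b * h⁻¹ * g) * a) * g⁻¹ := by rw [hc]
      _ = _ := by group
  have hc : Subgroup.normalClosure (Y' : Set N) ≤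
      Subgroup.centralizer ((Subgroup.normalClosure (Y' : Set N) : Subgroup N) : Set N) := by
    rw [Subgroup.normalClosure, Subgroup.centralizer_closure, Subgroup.closure_le]
    exact fun x hx => Subgroup.mem_centralizer_iff.2 fun y hy => ((hgen x hx).2 y hy).eq.symm
  refine ⟨⟨⟨fun a b => Subtype.ext (Subgroup.mem_centralizer_iff.1 (hc b.2) a a.2)⟩⟩, fun z hz => ?_⟩
  have hz' := hz
  rw [Subgroup.normalClosure] at hz'
  induction hz' using Subgroup.closure_induction with
  | mem x hx => exact (hgen x hx).1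
  | one => exact one_pow p
  | mul x y hx hy ihx ihy =>
    rw [Commute.mul_pow (Subgroup.mem_centralizer_iff.1 (hc hy) x hx), ihx hx, ihy hy, one_mul]
  | inv x hx ih => rw [inv_pow, ih hx, inv_one]

end Cfsg.Agent.S2849
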