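import Cfsg.Statements.S2853
import Cfsg.Agent.Lib.LocalStructure.AsymmetricOvergroups

set_option autoImplicit false
open Cfsg

namespace Cfsg.Agent.S2853

/-- Standing hypotheses: G a finite group, S a Sylow p-subgroup, Q a nontrivial large p-subgroup of G contained in S, M a subgroup containing S with the basic property (M ∈ 𝔐_G(S)); Y_M the largest p-reduced normal subgroup of M and M† = M·C_G(Y_M). Suppose Y_M is char-p-tall and asymmetric in G and H ∈ ℌ_G(O_p(M)). Then every Sylow p-subgroup of H ∩ M† is a Sylow p-subgroup of H; O_p(H) normalizes O_p(M) and Y_M; O^p(H) = [O^p(H), Y_M] and H = O^p(H)·O_p(M); O^p(H)·Y_M is the normal closure of Y_M in H; and H is the normal closure of O_p(M) in H. Here O^p(H) is the subgroup generated by the elements of H of order prime to p. -/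
theorem result {G : Type*} [Group G] [Finite G] {p : ℕ} [Fact p.Prime] (S : Sylow p G) (Q : Subgroup G) (hQp : IsPGroup p ↥Q) (hQ1 : Q ≠ ⊥) (hQS : Q ≤ (S : Subgroup G)) (hQ : Cfsg.IsLarge Q) (M : Subgroup G) (hSM : (S : Subgroup G) ≤ M) (hM : Cfsg.IsInFrakM p M) (htall : Cfsg.IsCharPTall p (Cfsg.largestPReducedOf p M)) (hasym : ¬ Cfsg.IsSymmetricIn (Cfsg.largestPReducedOf p M)) (H : Subgroup G) (hH : Cfsg.IsInFrakH p M H) (R : Subgroup G) (hR : R = (Cfsg.pResidual p ↥H).map H.subtype) : (∀ T : Sylow p ↥(H ⊓ (M ⊔ Subgroup.centralizer (((Cfsg.largestPReducedOf p M) : Subgroup G) : Set G))), ∃ P : Sylow p ↥H, ((P : Subgroup ↥H).map H.subtype) = (T : Subgroup ↥(H ⊓ (M ⊔ Subgroup.centralizer (((Cfsg.largestPReducedOf p M) : Subgroup G) : Set G)))).map (H ⊓ (M ⊔ Subgroup.centralizer (((Cfsg.largestPReducedOf p M) : Subgroup G) : Set G))).subtype) ∧ Cfsg.pCoreOf p H ≤ Subgroup.normalizer (((Cfsg.pCoreOf p M) : Subgroup G) : Set G) ⊓ Subgroup.normalizer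 (((Cfsg.largestPReducedOf p M) : Subgroup G) : Set G) ∧ ⁅R, (Cfsg.largestPReducedOf p M)⁆ = R ∧ R ⊔ (Cfsg.pCoreOf p M) = H ∧ R ⊔ (Cfsg.largestPReducedOf p M) = (Subgroup.normalClosure ((((Cfsg.largestPReducedOf p M)).subgroupOf H : Subgroup ↥H) : Set ↥H)).map H.subtype ∧ (Subgroup.normalClosure ((((Cfsg.pCoreOf p M)).subgroupOf H : Subgroup ↥H) : Set ↥H)).map H.subtype = H := by
  have hpar := CfsgLib.LS.large_parabolic hQp hQ1 hQ
  subst hR
  refine ⟨fun T => CfsgLib.LS.fh_sylow hpar S hSM hM hasym hH T,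
    CfsgLib.LS.fh_core_le hpar S hSM hM hasym hH, (CfsgLib.LS.fh_commutator S hSM hM hH).1,
    CfsgLib.LS.fh_sup_core S hSM hM hH, (CfsgLib.LS.fh_commutator S hSM hM hH).2, ?_⟩
  rw [CfsgLib.LS.fh_normalClosure S hSM hM hH, ← MonoidHom.range_eq_map, Subgroup.range_subtype]

end Cfsg.Agent.S2853
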