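import Cfsg.Statements.S2855
import Cfsg.Agent.Lib.LocalStructure.TransitiveFamilyLift

set_option autoImplicit false
open Cfsg

namespace Cfsg.Agent.S2855

/-- Let H be a finite group, p a prime, and 𝒦 a nonempty set of subgroups of H permuted transitively by conjugation, with R the subgroup generated by the members of 𝒦. Suppose O^p(H) ≤ R, each E ∈ 𝒦 has E·O_p(H) normal in R·O_p(H), and each E ∈ 𝒦 is p-minimal (generated by the conjugates of a Sylow p-subgroup T_E of E, with T_E in exactly one maximal subgroup of E). Then H is p-minimal in the same sense. If instead each E ∈ 𝒦 is strongly p-irreducible, then H is p-irreducible and, for E, K ∈ 𝒦, either O^p(E·O_p(H)) = O^p(K·O_p(H)) or [E, K] ≤ O_p(H). -/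
theorem result {H : Type*} [Group H] [Finite H] {p : ℕ} [Fact p.Prime] (𝒦 : Set (Subgroup H)) (hne : 𝒦.Nonempty) (hinv : ∀ h : H, ∀ E ∈ 𝒦, E.map (MulAut.conj h).toMonoidHom ∈ 𝒦) (htr : ∀ E ∈ 𝒦, ∀ K ∈ 𝒦, ∃ h : H, K = E.map (MulAut.conj h).toMonoidHom) (hres : Cfsg.pResidual p H ≤ sSup 𝒦) (hnorm : ∀ E ∈ 𝒦, sSup 𝒦 ⊔ Cfsg.pCore p H ≤ Subgroup.normalizer ((E ⊔ Cfsg.pCore p H : Subgroup H) : Set H)) : ((∀ E ∈ 𝒦, ∀ T : Sylow p ↥E, Cfsg.IsMinimalOver (T : Subgroup ↥E)) → ∀ T : Sylow p H, Cfsg.IsMinimalOver (T : Subgroup H)) ∧ ((∀ E ∈ 𝒦, Cfsg.IsStronglyPIrreducible p ↥E) → Cfsg.IsPIrreducible p H ∧ ∀ E ∈ 𝒦, ∀ K ∈ 𝒦, (Cfsg.pResidual p ↥(E ⊔ Cfsg.pCore p H)).map (E ⊔ Cfsg.pCore p H).subtype = (Cfsg.pResidual p ↥(K ⊔ Cfsg.pCore p H)).map (K ⊔ Cfsg.pCore p H).subtype ∨ ⁅E, K⁆ ≤ Cfsg.pCore p H) := by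
  haveI := CfsgLib.Coprime.pCore_normal' (G := H) p
  have hD : IsPGroup p (Cfsg.pCore p H) := CfsgLib.Coprime.pCore_isPGroup p
  have hπs := QuotientGroup.mk'_surjective (Cfsg.pCore p H)
  let π := QuotientGroup.mk' (Cfsg.pCore p H)
  let 𝒦' : Set (Subgroup (H ⧸ Cfsg.pCore p H)) := (fun E => E.map π) '' 𝒦
  have hmapconj : ∀ (h : H) (E : Subgroup H),
      (E.map (MulAut.conj h).toMonoidHom).map π = CfsgLib.Coprime.conjBy (π h) (E.map π) := fun h E =>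
    CfsgLib.Coprime.conjBy_map π h E
  have hinv' : ∀ x, ∀ E ∈ 𝒦', CfsgLib.Coprime.conjBy x E ∈ 𝒦' := by
    rintro x _ ⟨E, hE, rfl⟩
    obtain ⟨h, rfl⟩ := hπs x
    exact ⟨_, hinv h E hE, hmapconj h E⟩
  have htr' : ∀ E ∈ 𝒦', ∀ K ∈ 𝒦', ∃ x, K = CfsgLib.Coprime.conjBy x E := by
    rintro _ ⟨E, hE, rfl⟩ _ ⟨K, hK, rfl⟩
    obtain ⟨h, rfl⟩ := htr E hE K hK
    exact ⟨π h, hmapconj h E⟩
  have hsup : (sSup 𝒦).map π = sSup 𝒦' := by
    refine le_antisymm (Subgroup.map_le_iff_le_comap.2 (sSup_le fun E hE =>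
      Subgroup.map_le_iff_le_comap.1 (le_sSup (a := E.map π) ⟨E, hE, rfl⟩))) ?_
    refine sSup_le ?_
    rintro _ ⟨E, hE, rfl⟩
    exact Subgroup.map_mono (le_sSup hE)
  have hres' : Cfsg.pResidual p (H ⧸ Cfsg.pCore p H) ≤ sSup 𝒦' := by
    rw [← CfsgLib.LS.map_pResidual_mk _ hD, ← hsup]
    exact Subgroup.map_mono hres
  have hnorm' : ∀ E ∈ 𝒦', sSup 𝒦' ≤ Subgroup.normalizer (E : Set (H ⧸ Cfsg.pCore p H)) := by
    rintro _ ⟨E, hE, rfl⟩
    rw [← hsup]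
    refine (Subgroup.map_mono (le_sup_left.trans (hnorm E hE))).trans
      ((Subgroup.le_normalizer_map π).trans ?_)
    rw [Subgroup.map_sup, show (Cfsg.pCore p H).map π = ⊥ from QuotientGroup.map_mk'_self _,
      sup_bot_eq]
  have hO' : Cfsg.pCore p (H ⧸ Cfsg.pCore p H) = ⊥ := by
    rw [← Subgroup.map_comap_eq_self_of_surjective hπs (Cfsg.pCore p _),
      CfsgLib.LS.comap_pCore_mk _ hD, QuotientGroup.map_mk'_self]
  have hne' : 𝒦'.Nonempty := hne.image _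
  refine ⟨fun hmin T => ?_, fun hstr => ?_⟩
  · have hm := fun E (hE : E ∈ 𝒦) => CfsgLib.LS.member_minimal (Cfsg.pCore p H) hD T E
      (CfsgLib.LS.fam_subnormal 𝒦' hinv' hnorm' ⟨E, hE, rfl⟩) (hmin E hE)
    refine CfsgLib.LS.isMinimalOver_of_quotient T hD ?_
    refine CfsgLib.LS.fam_minimal 𝒦' hne' hinv' htr' hres' hnorm'
      (T.mapSurjective hπs) ?_ ?_ ?_ <;> rintro _ ⟨E, hE, rfl⟩
    · exact (hm E hE).1
    · exact (hm E hE).2.1
    · exact (hm E hE).2.2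
  · have hstr' : ∀ E ∈ 𝒦', Cfsg.IsStronglyPIrreducible p E := by
      rintro _ ⟨E, hE, rfl⟩
      exact CfsgLib.LS.member_strongly _ hD E (hstr E hE)
    refine ⟨(CfsgLib.LS.isPIrreducible_quotient_iff _ hD).2
      (CfsgLib.LS.fam_irreducible 𝒦' hne' hinv' htr' hres' hnorm' hO' hstr'), fun E hE K hK => ?_⟩
    rcases CfsgLib.LS.fam_dichotomy 𝒦' hinv' htr' hnorm' hO' hstr'
      (E := E.map π) (K := K.map π) ⟨E, hE, rfl⟩ ⟨K, hK, rfl⟩ with h | h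
    · exact Or.inl (le_antisymm
        (CfsgLib.LS.resOf_map_le _ hD (h.le.trans (Subgroup.map_subtype_le _)))
        (CfsgLib.LS.resOf_map_le _ hD (h.ge.trans (Subgroup.map_subtype_le _))))
    · right
      rwa [← Subgroup.map_commutator, Subgroup.map_eq_bot_iff, QuotientGroup.ker_mk'] at h

end Cfsg.Agent.S2855
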