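import Cfsg.Agent.Lib.PGroup.PqCore
import Cfsg.Agent.Lib.LocalStructure.AmalgamClosure
import Cfsg.Statements.S2856
-- import your own Cfsg.Agent.* helpers here

set_option autoImplicit false
open Cfsg

namespace Cfsg.Agent.S2856

/-- Let (M₁, M₂) be an amalgam pair in X satisfying the rank-two standing hypothesis (characteristic p, the normalizers in M₁ and in M₂ of a Sylow p-subgroup of M₁ ∩ M₂ equal and contained in M₁ ∩ M₂, and strongly p-embedded residues), λ a vertex of the coset graph, L_λ the subgroup of its stabilizer generated by the p-elements, Q_λ = O_p of the stabilizer, O^p(L_λ) the subgroup of L_λ generated by its elements of order prime to p, and V_λ^{(k)} the subgroup generated by the Z_μ over the vertices μ at distance at most k from λ (Z_μ being generated by the Ω₁(Z(S)), S a Sylow p-subgroup of the stabilizer of μ). If n ≥ 1 and V_λ^{(n)} ≤ Q_λ, then O^p(L_λ) does not centralize V_λ^{(n)}/[V_λ^{(n)}, Q_λ], that is, [V_λ^{(n)}, O^p(L_λ)] is not contained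 in [V_λ^{(n)}, Q_λ]. -/
theorem result {X : Type*} [Group X] {p : ℕ} [Fact p.Prime] (M₁ M₂ : Subgroup X) (h : Cfsg.IsSpeAmalgamPair p M₁ M₂) (lam : Cfsg.CosetVertex M₁ M₂) (n : ℕ) (hn : 1 ≤ n) (V : Subgroup X) (hV : V = Cfsg.vertexVIter p M₁ M₂ n lam) (hVQ : V ≤ Cfsg.vertexQ p lam) : ¬ ⁅V, ((Cfsg.pResidual p ↥(Cfsg.pElementClosure p (MulAction.stabilizer X lam))).map (Cfsg.pElementClosure p (MulAction.stabilizer X lam)).subtype)⁆ ≤ ⁅V, Cfsg.vertexQ p lam⁆ := by
  subst hV
  have hchar := h.1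
  have hcon := Cfsg.Agent.S2740.result M₁ M₂ hchar.1.1
  obtain ⟨μ, hμ⟩ := CfsgLib.LS.AmalClosure.exists_adj hchar lam
  intro hc
  obtain ⟨m, rfl⟩ : ∃ m, n = m + 1 := ⟨n - 1, by omega⟩
  haveI := CfsgLib.LS.Amal.finite_stabilizer hchar lam
  set V := Cfsg.vertexVIter p M₁ M₂ (m + 1) lam with hV
  set Z := Cfsg.vertexZ p lam with hZ
  set U := Cfsg.vertexVIter p M₁ M₂ m μ with hU
  set Q := Cfsg.vertexQ p lam with hQ
  set G := MulAction.stabilizer X lam with hG
  have hUV : U ≤ V := CfsgLib.LS.AmalClosure.vIter_le hcon hμ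
  have hZV : Z ≤ V := CfsgLib.LS.AmalClosure.vertexZ_le_vIter _ lam
  have hVn : G ≤ Subgroup.normalizer (V : Set X) :=
    CfsgLib.LS.AmalClosure.stabilizer_le_normalizer_vIter hchar hcon _ lam
  have hμN : MulAction.stabilizer X μ ≤ Subgroup.normalizer (U : Set X) :=
    CfsgLib.LS.AmalClosure.stabilizer_le_normalizer_vIter hchar hcon _ μ
  have hZn : G ≤ Subgroup.normalizer (Z : Set X) :=
    CfsgLib.LS.Amal.le_normalizer_sylowCenterClosure G
  obtain ⟨S⟩ : Nonempty (Sylow p ↥(Cfsg.edgeStabilizer lam μ)) := inferInstance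
  obtain ⟨P, hP⟩ := CfsgLib.LS.Amal.exists_sylow_eq hchar hμ S
  have hPG : (P : Subgroup ↥G).map G.subtype ≤ G := Subgroup.map_subtype_le _
  have hTE : (P : Subgroup ↥G).map G.subtype ≤ MulAction.stabilizer X μ :=
    hP.le.trans ((Subgroup.map_subtype_le _).trans inf_le_right)
  have hQP : Q ≤ (P : Subgroup ↥G).map G.subtype := CfsgLib.LS.Amal.pCoreOf_le_sylow _ P
  haveI : Finite ↥((P : Subgroup ↥G).map G.subtype) :=
    Finite.of_injective _ (Subgroup.inclusion_injective hPG)
  haveI : Finite ↥Q := Finite.of_injective _ (Subgroup.inclusion_injective hQP)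
  haveI : Group.IsNilpotent ↥Q := ((P.2.map G.subtype).to_le hQP).isNilpotent
  set W := ⁅V, Q⁆ with hW
  -- the whole closure is `U Z`
  set A := U ⊔ Z with hA
  have hQA : Q ≤ Subgroup.normalizer (A : Set X) :=
    (le_inf ((hQP.trans hTE).trans hμN) ((hQP.trans hPG).trans hZn)).trans
      (Subgroup.normalizer_inf_normalizer_le_normalizer_sup _ _)
  have hLn : Cfsg.pElementClosure p G ≤ Subgroup.normalizer ((A ⊔ W : Subgroup X) : Set X) := by
    refine CfsgLib.LS.AmalClosure.pElementClosure_le_normalizer P ?_ ?_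
    · refine le_trans ?_ (Subgroup.normalizer_inf_normalizer_le_normalizer_sup _ _)
      refine le_inf ((le_inf (hTE.trans hμN) (hPG.trans hZn)).trans
        (Subgroup.normalizer_inf_normalizer_le_normalizer_sup _ _)) ?_
      exact hPG.trans (CfsgLib.PGroup.le_normalizer_commutator hVn
        (CfsgLib.LS.AmalClosure.le_normalizer_pCoreOf G))
    · refine Subgroup.le_normalizer_iff_commutator_le_left.2 (le_trans ?_ (le_sup_right : W ≤ A ⊔ W))
      exact (Subgroup.commutator_mono (sup_le (sup_le hUV hZV)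
        (Subgroup.le_normalizer_iff_commutator_le_left.1 ((hQP.trans hPG).trans hVn))) le_rfl).trans hc
  have hgen : V ≤ A ⊔ W := by
    refine iSup_le fun ⟨ν, hν⟩ => ?_
    obtain ⟨w, hw⟩ := hcon.exists_walk_length_eq_dist lam ν
    have hlen := hw.trans_le hν
    rcases w with _ | ⟨hadj, w'⟩
    · exact le_sup_of_le_left le_sup_right
    · rename_i b
      obtain ⟨g, hg, hgb⟩ := CfsgLib.LS.AmalClosure.exists_trans h hμ S hadj
      have hle : Cfsg.vertexVIter p M₁ M₂ m b ≤ A ⊔ W := by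
        rintro x hx
        have h1 := CfsgLib.LS.AmalClosure.conjBy_vIter_le hchar hcon g⁻¹ m b
          (CfsgLib.Fusion.conj_mem_conjBy hx)
        rw [← hgb, inv_smul_smul, inv_inv] at h1
        have h2 := (Subgroup.mem_normalizer_iff.1 (hLn hg) _).1
          (Subgroup.mem_sup_left (Subgroup.mem_sup_left h1))
        simpa [mul_assoc] using h2
      refine le_trans (le_iSup_of_le (f := fun μ' : {μ' : Cfsg.CosetVertex M₁ M₂ //
        (Cfsg.cosetGraph M₁ M₂).dist b μ' ≤ m} => Cfsg.vertexZ p μ'.1) ⟨ν, ?_⟩ le_rfl) hle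
      refine (SimpleGraph.dist_le w').trans ?_
      simp only [SimpleGraph.Walk.length_cons] at hlen
      omega
  have hVA : V ≤ A := CfsgLib.LS.AmalClosure.le_of_le_sup_commutator hVQ hQA hgen
  have hWU : W ≤ U := by
    refine (Subgroup.commutator_mono hVA le_rfl).trans ?_
    exact CfsgLib.LS.AmalClosure.commutator_sup_le
      ((CfsgLib.LS.Amal.vertexZ_le_vertexQ hchar lam).trans ((hQP.trans hTE).trans hμN))
      ((hQP.trans hTE).trans hμN) (CfsgLib.LS.AmalClosure.vertexQ_le_centralizer_vertexZ hchar lam)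
  have hU1 : Cfsg.pElementClosure p G ≤ Subgroup.normalizer (U : Set X) :=
    CfsgLib.LS.AmalClosure.pElementClosure_le_normalizer P (hTE.trans hμN)
      (Subgroup.le_normalizer_iff_commutator_le_left.2 ((Subgroup.commutator_mono hUV le_rfl).trans
        (hc.trans hWU)))
  have hUT : U ≤ (S : Subgroup ↥(Cfsg.edgeStabilizer lam μ)).map (Cfsg.edgeStabilizer lam μ).subtype :=
    hUV.trans (hVQ.trans (hQP.trans hP.le))
  have hbot := Cfsg.Agent.S2750.result M₁ M₂ h lam μ hμ S _ rfl U hUT hU1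
    ((CfsgLib.LS.Amal.pElementClosure_le _).trans hμN)
  exact CfsgLib.LS.AmalClosure.vertexZ_ne_bot hchar μ
    (le_bot_iff.1 ((CfsgLib.LS.AmalClosure.vertexZ_le_vIter _ μ).trans hbot.le))

end Cfsg.Agent.S2856
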