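import Cfsg.Agent.Lib.LocalStructure.AmalgamClosure
import Cfsg.Statements.S2857
-- import your own Cfsg.Agent.* helpers here

set_option autoImplicit false
open Cfsg

namespace Cfsg.Agent.S2857

/-- Let (M₁, M₂) be an amalgam pair in X satisfying the rank-two standing hypothesis (characteristic p, the normalizers in M₁ and in M₂ of a Sylow p-subgroup of M₁ ∩ M₂ equal and contained in M₁ ∩ M₂, and strongly p-embedded residues), λ a vertex of the coset graph, L_λ the subgroup of its stabilizer generated by the p-elements, Q_λ = O_p of the stabilizer, O^p(L_λ) the subgroup of L_λ generated by its elements of order prime to p, and V_λ^{(k)} the subgroup generated by the Z_μ over the vertices μ at distance at most k from λ (Z_μ being generated by the Ω₁(Z(S)), S a Sylow p-subgroup of the stabilizer of μ). If n ≥ 2 and V_λ^{(n)} ≤ Q_λ, then O^p(L_λ) does not centralize V_λ^{(n)}/V_λ^{(n-2)}, that is, [V_λ^{(n)}, O^p(L_λ)] is not contained in V_λ^{(n-2)}. -/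
theorem result {X : Type*} [Group X] {p : ℕ} [Fact p.Prime] (M₁ M₂ : Subgroup X) (h : Cfsg.IsSpeAmalgamPair p M₁ M₂) (lam : Cfsg.CosetVertex M₁ M₂) (n : ℕ) (hn : 2 ≤ n) (hVQ : Cfsg.vertexVIter p M₁ M₂ n lam ≤ Cfsg.vertexQ p lam) : ¬ ⁅Cfsg.vertexVIter p M₁ M₂ n lam, ((Cfsg.pResidual p ↥(Cfsg.pElementClosure p (MulAction.stabilizer X lam))).map (Cfsg.pElementClosure p (MulAction.stabilizer X lam)).subtype)⁆ ≤ Cfsg.vertexVIter p M₁ M₂ (n - 2) lam := by
  have hchar := h.1
  have hcon := Cfsg.Agent.S2740.result M₁ M₂ hchar.1.1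
  obtain ⟨μ, hμ⟩ := CfsgLib.LS.AmalClosure.exists_adj hchar lam
  intro hc
  obtain ⟨m, rfl⟩ : ∃ m, n = m + 2 := ⟨n - 2, by omega⟩
  rw [show m + 2 - 2 = m by omega] at hc
  haveI := CfsgLib.LS.Amal.finite_stabilizer hchar lam
  set U := Cfsg.vertexVIter p M₁ M₂ (m + 1) μ with hU
  have hUV : U ≤ Cfsg.vertexVIter p M₁ M₂ (m + 2) lam := CfsgLib.LS.AmalClosure.vIter_le hcon hμ
  obtain ⟨S⟩ : Nonempty (Sylow p ↥(Cfsg.edgeStabilizer lam μ)) := inferInstance
  obtain ⟨P, hP⟩ := CfsgLib.LS.Amal.exists_sylow_eq hchar hμ S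
  have hTE : ((P : Subgroup ↥(MulAction.stabilizer X lam)).map (MulAction.stabilizer X lam).subtype) ≤
      MulAction.stabilizer X μ := hP.le.trans ((Subgroup.map_subtype_le _).trans inf_le_right)
  have hUT : U ≤ (S : Subgroup ↥(Cfsg.edgeStabilizer lam μ)).map (Cfsg.edgeStabilizer lam μ).subtype :=
    hUV.trans (hVQ.trans ((CfsgLib.LS.Amal.pCoreOf_le_sylow _ P).trans hP.le))
  have hμN : MulAction.stabilizer X μ ≤ Subgroup.normalizer (U : Set X) :=
    CfsgLib.LS.AmalClosure.stabilizer_le_normalizer_vIter hchar hcon _ μ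
  have hU1 : Cfsg.pElementClosure p (MulAction.stabilizer X lam) ≤ Subgroup.normalizer (U : Set X) :=
    CfsgLib.LS.AmalClosure.pElementClosure_le_normalizer P (hTE.trans hμN)
      (Subgroup.le_normalizer_iff_commutator_le_left.2 ((Subgroup.commutator_mono hUV le_rfl).trans
        (hc.trans (CfsgLib.LS.AmalClosure.vIter_le hcon hμ.symm))))
  have hbot := Cfsg.Agent.S2750.result M₁ M₂ h lam μ hμ S _ rfl U hUT hU1
    ((CfsgLib.LS.Amal.pElementClosure_le _).trans hμN)
  exact CfsgLib.LS.AmalClosure.vertexZ_ne_bot hchar μ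
    (le_bot_iff.1 ((CfsgLib.LS.AmalClosure.vertexZ_le_vIter _ μ).trans hbot.le))

end Cfsg.Agent.S2857
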