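import Cfsg.Statements.S2859
import Cfsg.Agent.Lib.LocalStructure.WeakClosureFactor

set_option autoImplicit false
open Cfsg

namespace Cfsg.Agent.S2859

/-- Let Q be a nontrivial p-subgroup of the finite group H that is a weakly closed subgroup, H° the weak closure of Q in H (generated by the conjugates of Q) and H_∘ = O^p(H°). Suppose H₁, H₂ are normal subgroups of H° with H° = H₁H₂ and [H₁, H₂] ≤ N_H(Q), and put Kᵢ = O^p of the weak closure of Q in HᵢQ. Then for i = 1, 2: Kᵢ = [Kᵢ, Q] = [Kᵢ, Hᵢ] ≤ Hᵢ′ and Kᵢ is normal in H°; H_∘ = K₁K₂; and [K₁, K₂] ≤ O_p(H°). -/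
theorem result {G : Type*} [Group G] [Finite G] {p : ℕ} [Fact p.Prime] (Q : Subgroup G) (hQp : IsPGroup p ↥Q) (hQ1 : Q ≠ ⊥) (hwc : Cfsg.IsWeaklyClosedSubgroup p Q) (Hc : Subgroup G) (hHc : Hc = Cfsg.weakClosure Q ⊤) (H₁ H₂ : Subgroup G) (hn₁ : H₁ ≤ Hc ∧ Hc ≤ Subgroup.normalizer ((H₁ : Subgroup G) : Set G)) (hn₂ : H₂ ≤ Hc ∧ Hc ≤ Subgroup.normalizer ((H₂ : Subgroup G) : Set G)) (hprod : H₁ ⊔ H₂ = Hc) (hcomm : ⁅H₁, H₂⁆ ≤ Subgroup.normalizer ((Q : Subgroup G) : Set G)) (K₁ K₂ : Subgroup G) (hK₁ : K₁ = ((Cfsg.pResidual p ↥(Cfsg.weakClosure Q (H₁ ⊔ Q))).map ((Cfsg.weakClosure Q (H₁ ⊔ Q))).subtype)) (hK₂ : K₂ = ((Cfsg.pResidual p ↥(Cfsg.weakClosure Q (H₂ ⊔ Q))).map ((Cfsg.weakClosure Q (H₂ ⊔ Q))).subtype)) : (⁅K₁, Q⁆ = K₁ ∧ ⁅K₁, H₁⁆ = K₁ ∧ K₁ ≤ ⁅H₁, H₁⁆ ∧ Hc ≤ Subgroup.normalizer ((K₁ : Subgroup G) : Set G)) ∧ (⁅K₂, Q⁆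 = K₂ ∧ ⁅K₂, H₂⁆ = K₂ ∧ K₂ ≤ ⁅H₂, H₂⁆ ∧ Hc ≤ Subgroup.normalizer ((K₂ : Subgroup G) : Set G)) ∧ K₁ ⊔ K₂ = ((Cfsg.pResidual p ↥Hc).map (Hc).subtype) ∧ ⁅K₁, K₂⁆ ≤ (Cfsg.pCoreOf p Hc) := by
  obtain ⟨h₁, hn₁⟩ := hn₁
  obtain ⟨h₂, hn₂⟩ := hn₂
  have hprod' : H₂ ⊔ H₁ = Hc := by rw [sup_comm]; exact hprod
  have hcomm' : ⁅H₂, H₁⁆ ≤ Subgroup.normalizer ((Q : Subgroup G) : Set G) := by
    rw [Subgroup.commutator_comm]; exact hcomm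
  obtain ⟨a1, b1, c1, d1, e1⟩ :=
    CfsgLib.LS.wcf_main hQp hwc hHc h₁ hn₁ h₂ hn₂ hprod hcomm hK₁
  obtain ⟨a2, b2, c2, d2, -⟩ :=
    CfsgLib.LS.wcf_main hQp hwc hHc h₂ hn₂ h₁ hn₁ hprod' hcomm' hK₂
  have hK1H : K₁ ≤ H₁ := CfsgLib.LS.wcf_le hQp hHc hn₁ hK₁
  have hK2H : K₂ ≤ H₂ := CfsgLib.LS.wcf_le hQp hHc hn₂ hK₂
  refine ⟨⟨a1, b1, c1, d1⟩, ⟨a2, b2, c2, d2⟩, le_antisymm (sup_le ?_ ?_) ?_, ?_⟩
  · rw [hK₁]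
    exact CfsgLib.LS.resOf_mono (hHc ▸ CfsgLib.LS.weakClosure_mono le_top)
  · rw [hK₂]
    exact CfsgLib.LS.resOf_mono (hHc ▸ CfsgLib.LS.weakClosure_mono le_top)
  · have hQn : Q ≤ Subgroup.normalizer ((K₁ ⊔ K₂ : Subgroup G) : Set G) :=
      (hHc ▸ CfsgLib.LS.self_le_weakClosure le_top : Q ≤ Hc).trans
        ((le_inf d1 d2).trans (Subgroup.normalizer_inf_normalizer_le_normalizer_sup K₁ K₂))
    refine CfsgLib.LS.resOf_le_of_le_sup hQp hQn ?_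
    have hX : Hc ≤ Subgroup.normalizer ((K₁ ⊔ K₂ ⊔ Q : Subgroup G) : Set G) := by
      have hK : Hc ≤ Subgroup.normalizer ((K₁ ⊔ K₂ : Subgroup G) : Set G) :=
        (le_inf d1 d2).trans (Subgroup.normalizer_inf_normalizer_le_normalizer_sup K₁ K₂)
      rw [← hprod]
      refine sup_le ?_ ?_ <;> refine Subgroup.le_normalizer_iff.2 fun h hh x hx => ?_ <;>
        obtain ⟨k, hk, q, hq, rfl⟩ := CfsgLib.Coprime.mem_sup_exists hQn hx <;>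
        rw [show h * (k * q) * h⁻¹ = (h * k * h⁻¹) * (h * q * h⁻¹) by group]
      · exact mul_mem (Subgroup.mem_sup_left ((Subgroup.mem_normalizer_iff.1 (hK (h₁ hh)) k).1 hk))
          ((sup_le (le_sup_left.trans le_sup_left) le_sup_right : K₁ ⊔ Q ≤ _)
            (CfsgLib.LS.wcf_conj_mem hQp hwc hK₁ hh hq))
      · exact mul_mem (Subgroup.mem_sup_left ((Subgroup.mem_normalizer_iff.1 (hK (h₂ hh)) k).1 hk))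
          ((sup_le (le_sup_right.trans le_sup_left) le_sup_right : K₂ ⊔ Q ≤ _)
            (CfsgLib.LS.wcf_conj_mem hQp hwc hK₂ hh hq))
    rw [hHc] at hX ⊢
    exact CfsgLib.LS.weakClosure_le_of_normalizes hQp hwc le_top le_sup_right hX
  · refine (Subgroup.commutator_mono le_rfl hK2H).trans (e1.trans ?_)
    exact CfsgLib.LS.pCoreOf_le_pCoreOf ((CfsgLib.LS.wcf_comm_le_left hn₁ h₂).trans h₁)
      (CfsgLib.LS.wcf_comm_normal hn₁ hn₂)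

end Cfsg.Agent.S2859
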