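import Cfsg.Statements.S2860
import Cfsg.Agent.Lib.Fusion.LargeSection
import Cfsg.Agent.Lib.LocalStructure.WeaklyClosed
-- import your own Cfsg.Agent.* helpers here

set_option autoImplicit false
open Cfsg

namespace Cfsg.Agent.S2860

open Subgroup CfsgLib.LS
open scoped commutatorElement

/-- Let Q be a nontrivial large p-subgroup of the finite group H, U a nontrivial elementary abelian p-subgroup of H, and Q ≤ E ≤ N_H(U) with Q not normal in E. Suppose O_p(E/C_E(U)) = 1 and O^p(E)·C_E(U)/C_E(U) is quasisimple. Let E° be the weak closure of Q in E (generated by the conjugates of Q inside E) and E_∘ = O^p(E°). Then O^p(E)·C_E(U) = E_∘·C_E(U); E_∘ is perfect and equals O^p(E_∘); E_∘/C_{E_∘}(U) and E_∘/O_p(E_∘) are quasisimple; and E_∘ = [E_∘, Y] for every p-subgroup Y of E not centralizing U. -/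
theorem result {G : Type*} [Group G] [Finite G] {p : ℕ} [Fact p.Prime] (Q : Subgroup G) (hQp : IsPGroup p ↥Q) (hQ1 : Q ≠ ⊥) (hQ : Cfsg.IsLarge Q) (U : Subgroup G) (hU : Cfsg.IsElementaryAbelian p U) (hU1 : U ≠ ⊥) (E : Subgroup G) (hQE : Q ≤ E) (hEU : E ≤ Subgroup.normalizer ((U : Subgroup G) : Set G)) (hQn : ¬ E ≤ Subgroup.normalizer ((Q : Subgroup G) : Set G)) [hn : ((Subgroup.centralizer ((U : Subgroup G) : Set G)).subgroupOf E).Normal] (hred : Cfsg.pCore p (↥E ⧸ (Subgroup.centralizer ((U : Subgroup G) : Set G)).subgroupOf E) = ⊥) (hqs : Cfsg.IsQuasisimple ↥(((Cfsg.pResidual p ↥E) ⊔ (Subgroup.centralizer ((U : Subgroup G) : Set G)).subgroupOf E).map (QuotientGroup.mk' ((Subgroup.centralizer ((U : Subgroup G) : Set G)).subgroupOf E)))) (Er : Subgroup G) (hEr : Er = ((Cfsg.pResidual p ↥(Cfsg.weakClosure Q E)).map ((Cfsg.weakClosure Q E)).subtype)) [hn2 : ((Subgroup.centralizer ((U : Subgroup G) : Set G)).subgroupOf Er).Normal] : ((Cfsg.pResidual p ↥E).map (E).subtype)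 ⊔ (E ⊓ Subgroup.centralizer ((U : Subgroup G) : Set G)) = Er ⊔ (E ⊓ Subgroup.centralizer ((U : Subgroup G) : Set G)) ∧ ⁅Er, Er⁆ = Er ∧ ((Cfsg.pResidual p ↥Er).map (Er).subtype) = Er ∧ Cfsg.IsQuasisimple (↥Er ⧸ (Subgroup.centralizer ((U : Subgroup G) : Set G)).subgroupOf Er) ∧ Cfsg.IsQuasisimple (↥Er ⧸ Cfsg.pCore p ↥Er) ∧ ∀ Y : Subgroup G, Y ≤ E → IsPGroup p ↥Y → ¬ Y ≤ Subgroup.centralizer ((U : Subgroup G) : Set G) → ⁅Er, Y⁆ = Er := by
  classical
  obtain ⟨W, hW⟩ : ∃ W, W = Cfsg.weakClosure Q E := ⟨_, rfl⟩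
  rw [← hW] at hEr
  haveI hKn : ((centralizer (U : Set G)).subgroupOf E).Normal := hn
  have hUp : IsPGroup p U := fun a => ⟨1, Subtype.ext (by simpa using hU.2 a a.2)⟩
  have hWE : W ≤ E := hW ▸ weakClosure_le
  haveI hWn : (W.subgroupOf E).Normal := by
    refine (normal_subgroupOf_iff_le_normalizer hWE).2 (le_normalizer_iff.2 fun e he => ?_)
    intro x hx
    have h : W ≤ W.comap (MulAut.conj e).toMonoidHom := by
      conv_lhs => rw [hW]
      refine iSup_le fun g => ?_
      rw [← map_le_iff_le_comap]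
      change CfsgLib.Coprime.conjBy e (CfsgLib.Coprime.conjBy (g : G) Q) ≤ W
      rw [CfsgLib.Coprime.conjBy_conjBy, hW]
      refine le_weakClosure ?_
      rw [← CfsgLib.Coprime.conjBy_conjBy]
      exact conjBy_le_of_mem_normalizer (le_normalizer he) g.2
    exact h hx
  have hKW : ⁅(centralizer (U : Set G)).subgroupOf E, W.subgroupOf E⁆ ≤ Cfsg.pCore p E := by
    haveI := CfsgLib.Coprime.pCore_normal' (G := ↥E) p
    let q := QuotientGroup.mk' (Cfsg.pCore p E)
    obtain ⟨L, hL⟩ : ∃ L, L = (centralizer ((((centralizer (U : Set G)).subgroupOf E).map q : Subgroup _) : Set _)).comap q :=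
      ⟨_, rfl⟩
    have h : W ≤ L.map E.subtype := by
      rw [hW]
      refine iSup_le fun g => ?_
      have hgE : CfsgLib.Coprime.conjBy (g : G) Q ≤ E := g.2
      have hgp : IsPGroup p ↥((CfsgLib.Coprime.conjBy (g : G) Q).subgroupOf E) :=
        (isPGroup_conjBy hQp (g : G)).comap_subtype
      have hCN : centralizer (U : Set G) ≤ normalizer (CfsgLib.Coprime.conjBy (g : G) Q : Set G) :=
        large_centralizer_le (isPGroup_conjBy hQp (g : G)) (large_conjBy hQ (g : G)) hUp hU1
          (hgE.trans hEU)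
      obtain ⟨S, hS⟩ : ∃ S, S = (CfsgLib.Coprime.conjBy (g : G) Q).subgroupOf E := ⟨_, rfl⟩
      rw [← hS] at hgp
      have hKS : ⁅(centralizer (U : Set G)).subgroupOf E, S⁆ ≤ Cfsg.pCore p E := by
        have h1 : (centralizer (U : Set G)).subgroupOf E ≤ normalizer (S : Set E) := by
          rw [hS]
          refine le_normalizer_iff.2 fun c hc x hx => ?_
          exact mem_subgroupOf.2 ((mem_normalizer_iff.1 (hCN hc) _).1 hx)
        have h2 : ⁅(centralizer (U : Set G)).subgroupOf E, S⁆ ≤ (centralizer (U : Set G)).subgroupOf E ⊓ S :=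
          commutator_le_inf_of_normalizing (by rw [normalizer_eq_top]; exact le_top) h1
        haveI : (((centralizer (U : Set G)).subgroupOf E ⊓ S).subgroupOf ((centralizer (U : Set G)).subgroupOf E)).Normal :=
          (normal_subgroupOf_iff_le_normalizer inf_le_left).2
            (CfsgLib.Coprime.inf_le_normalizer le_normalizer h1)
        have h4 : IsPGroup p ↥(((centralizer (U : Set G)).subgroupOf E ⊓ S).subgroupOf
            ((centralizer (U : Set G)).subgroupOf E)) := (hgp.to_le inf_le_right).comap_subtype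
        have h3 := map_mono (f := ((centralizer (U : Set G)).subgroupOf E).subtype)
          (CfsgLib.Coprime.le_pCore (G := ↥((centralizer (U : Set G)).subgroupOf E)) h4)
        rw [map_subgroupOf_eq_of_le inf_le_left, CfsgLib.Coprime.pCore_map_subtype_eq] at h3
        exact (h2.trans h3).trans inf_le_left
      intro x hx
      have hxS : (⟨x, hgE hx⟩ : E) ∈ S := hS ▸ mem_subgroupOf.2 hx
      refine ⟨⟨x, hgE hx⟩, ?_, rfl⟩
      rw [hL]
      refine mem_comap.2 (mem_centralizer_iff.2 ?_)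
      rintro _ ⟨c, hc, rfl⟩
      refine commutatorElement_eq_one_iff_mul_comm.1 ?_
      rw [← map_commutatorElement]
      exact (QuotientGroup.eq_one_iff _).2 (hKS (commutator_mem_commutator hc hxS))
    refine commutator_le.2 fun c hc w hw => ?_
    obtain ⟨w', hw', he⟩ := h (mem_subgroupOf.1 hw)
    have hw'' : w ∈ L := (Subtype.ext he : w' = w) ▸ hw'
    rw [hL] at hw''
    refine (QuotientGroup.eq_one_iff _).1 ?_
    refine (map_commutatorElement q c w).trans (commutatorElement_eq_one_iff_mul_comm.2 ?_)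
    exact mem_centralizer_iff.1 (mem_comap.1 hw'') _ (mem_map_of_mem q hc)
  have hWK : ¬ W.subgroupOf E ≤ (centralizer (U : Set G)).subgroupOf E := by
    intro h
    refine hQn (hEU.trans (hQ.2 U (le_centralizer_iff.1 fun x hx => ?_) hU1))
    exact h (mem_subgroupOf.2 (hW ▸ self_le_weakClosure hQE hx) : (⟨x, hQE hx⟩ : E) ∈ _)
  have hgen : ∀ L : Subgroup E, (∀ S : Subgroup E, S ≤ W.subgroupOf E → IsPGroup p S → S ≤ L) →
      W.subgroupOf E ≤ L := by
    intro L hL
    have h : W ≤ L.map E.subtype := by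
      rw [hW]
      refine iSup_le fun g => ?_
      intro x hx
      refine ⟨⟨x, g.2 hx⟩, hL ((CfsgLib.Coprime.conjBy (g : G) Q).subgroupOf E) ?_
        (isPGroup_conjBy hQp (g : G)).comap_subtype (mem_subgroupOf.2 hx), rfl⟩
      exact comap_mono (hW ▸ le_weakClosure g.2)
    intro x hx
    obtain ⟨y, hy, he⟩ := h (mem_subgroupOf.1 hx)
    exact (Subtype.ext he : y = x) ▸ hy
  obtain ⟨Er', hEr'⟩ : ∃ Er', Er' = (Cfsg.pResidual p ↥(W.subgroupOf E)).map
      (W.subgroupOf E).subtype := ⟨_, rfl⟩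
  have hmap : Er'.map E.subtype = Er := by
    rw [hEr, hEr']
    refine le_antisymm (map_le_iff_le_comap.2 (resOf_le fun g hg hc => ?_)) (resOf_le fun g hg hc => ?_)
    · exact mem_comap.2 (mem_resOf (mem_subgroupOf.1 hg) (by
        rw [Subgroup.coe_subtype, Subgroup.orderOf_coe]; exact hc))
    · refine ⟨⟨g, hWE hg⟩, mem_resOf (mem_subgroupOf.2 hg) ?_, rfl⟩
      rwa [← Subgroup.orderOf_coe]
  have hErE : Er ≤ E := hmap ▸ map_subtype_le _
  have hEr'' : Er' = Er.subgroupOf E := by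
    rw [← hmap, subgroupOf, comap_map_eq_self_of_injective E.subtype_injective]
  haveI : (((centralizer (U : Set G)).subgroupOf E).subgroupOf Er').Normal := hKn.subgroupOf Er'
  obtain ⟨h1, h2, h3, h4, h5, h6⟩ :=
    CfsgLib.Fusion.LargeSection.core ((centralizer (U : Set G)).subgroupOf E) (W.subgroupOf E) hred hqs hWK hKW hgen Er' hEr'
  obtain ⟨e, he⟩ : ∃ e : ↥Er' ≃* ↥Er, ∀ x, (e x : G) = ((x : E) : G) :=
    ⟨(MulEquiv.subgroupCongr hEr'').trans (subgroupOfEquivOfLe hErE), fun x => rfl⟩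
  refine ⟨?_, ?_, ?_, ?_, ?_, ?_⟩
  · rw [inf_comm E (centralizer (U : Set G)), ← subgroupOf_map_subtype, ← hmap, ← Subgroup.map_sup, ← Subgroup.map_sup, h1]
  · rw [← hmap, ← Subgroup.map_commutator, h2]
  · refine le_antisymm (map_subtype_le _) ?_
    conv_lhs => rw [hEr]
    exact resOf_le fun g hg hc => mem_resOf (by rw [hEr]; exact mem_resOf hg hc) hc
  · refine CfsgLib.Coprime.isQuasisimple_congr (QuotientGroup.congr _ _ e ?_) h4
    ext x
    refine (mem_map_equiv (f := e)).trans ?_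
    rw [mem_subgroupOf, mem_subgroupOf, mem_subgroupOf]
    exact ⟨fun h => by rw [← e.apply_symm_apply x, he]; exact h,
      fun h => by rw [← he, e.apply_symm_apply]; exact h⟩
  · haveI := CfsgLib.Coprime.pCore_normal' (G := ↥Er') p
    haveI := CfsgLib.Coprime.pCore_normal' (G := ↥Er) p
    exact CfsgLib.Coprime.isQuasisimple_congr
      (QuotientGroup.congr _ _ e (CfsgLib.Coprime.map_pCore_equiv e p)) h5
  · intro Y hY hYp hYC
    have h := congrArg (Subgroup.map E.subtype) (h6 (Y.subgroupOf E) hYp.comap_subtype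
      fun h => hYC fun y hy => h (mem_subgroupOf.2 hy : (⟨y, hY hy⟩ : E) ∈ _))
    rwa [Subgroup.map_commutator, hmap, map_subgroupOf_eq_of_le hY] at h

end Cfsg.Agent.S2860
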