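import Cfsg.Statements.S2864
import Cfsg.Agent.Lib.LocalStructure.BasicProperty
import Cfsg.Agent.Lib.LocalStructure.FStar
import Cfsg.Agent.Lib.Coprime.Action
import Cfsg.Agent.Lib.Coprime.PGroupFrattini

set_option autoImplicit false
open Cfsg

namespace Cfsg.Agent.S2864

/-- Standing hypotheses: G a finite group, S a Sylow p-subgroup, Q a nontrivial large p-subgroup of G contained in S, M a subgroup containing S with the basic property (M ∈ 𝔐_G(S)); Y_M the largest p-reduced normal subgroup of M and M† = M·C_G(Y_M). Let I be a nontrivial normal p-subgroup of M and Y ≤ O_p(M†); let L be a subgroup of G containing Y and A a normal p-subgroup of L with I ≤ A ≤ M. If [Y, A] ≤ [I, A], then Y ≤ O_p(L). -/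
theorem result {G : Type*} [Group G] [Finite G] {p : ℕ} [Fact p.Prime] (S : Sylow p G) (Q : Subgroup G) (hQp : IsPGroup p ↥Q) (hQ1 : Q ≠ ⊥) (hQS : Q ≤ (S : Subgroup G)) (hQ : Cfsg.IsLarge Q) (M : Subgroup G) (hSM : (S : Subgroup G) ≤ M) (hM : Cfsg.IsInFrakM p M) (I : Subgroup G) (hI1 : I ≠ ⊥) (hIp : IsPGroup p ↥I) (hIM : I ≤ M ∧ M ≤ Subgroup.normalizer ((I : Subgroup G) : Set G)) (Y : Subgroup G) (hY : Y ≤ (Cfsg.pCoreOf p (M ⊔ Subgroup.centralizer (((Cfsg.largestPReducedOf p M) : Subgroup G) : Set G)))) (L : Subgroup G) (hYL : Y ≤ L) (A : Subgroup G) (hAp : IsPGroup p ↥A) (hAL : A ≤ L ∧ L ≤ Subgroup.normalizer ((A : Subgroup G) : Set G)) (hIA : I ≤ A) (hAM : A ≤ M) (hc : ⁅Y, A⁆ ≤ ⁅I, A⁆) : Y ≤ (Cfsg.pCoreOf p L) := by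
  set Md := M ⊔ Subgroup.centralizer (((Cfsg.largestPReducedOf p M) : Subgroup G) : Set G) with hMd
  set Φ : Subgroup G := (frattini ↥A).map A.subtype with hΦ
  have hAAΦ : ⁅A, A⁆ ≤ Φ := by
    rw [← Subgroup.map_subtype_commutator, hΦ]
    exact Subgroup.map_mono (CfsgLib.Coprime.commutator_le_frattini hAp)
  -- `C_G(I) ≤ M†`
  have hpar := CfsgLib.LS.large_parabolic hQp hQ1 hQ
  have hNI : Subgroup.normalizer (I : Set G) ∈ Cfsg.charPSubgroups p G :=
    CfsgLib.LS.mem_charPSubgroups hpar S (hSM.trans hIM.2) (CfsgLib.LS.pCore_ne_bot_iff.2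
      fun h => hI1 (le_bot_iff.1 (h ▸ CfsgLib.LS.le_pCoreOf hIp Subgroup.le_normalizer le_rfl)))
  have hCI : Subgroup.centralizer (I : Set G) ≤ Md := by
    obtain ⟨X, hX, hNX⟩ := CfsgLib.LS.exists_maxCharP hNI
    rw [hMd, ← hM.2.2.1 X hX (hIM.2.trans hNX)]
    exact (Subgroup.centralizer_le_normalizer _).trans hNX
  -- the subgroups of `L`
  have hLΦ : L ≤ Subgroup.normalizer (Φ : Set G) :=
    hAL.2.trans (CfsgLib.LS.normalizer_le_normalizer_map_char (frattini ↥A))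
  let C : Subgroup ↥L := (Subgroup.centralizer (A : Set G)).subgroupOf L
  let X : Subgroup ↥L :=
    { carrier := {x | ∀ a ∈ A, (x : G) * a * (x : G)⁻¹ * a⁻¹ ∈ Φ}
      one_mem' := fun a _ => by simp
      mul_mem' := fun {x y} hx hy a ha => by
        show (x : G) * y * a * ((x : G) * y)⁻¹ * a⁻¹ ∈ Φ
        have h := mul_mem ((Subgroup.mem_normalizer_iff.1 (hLΦ x.2) _).1 (hy a ha)) (hx a ha)
        convert h using 1
        group
      inv_mem' := fun {x} hx a ha => by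
        show (x : G)⁻¹ * a * (x : G)⁻¹⁻¹ * a⁻¹ ∈ Φ
        have h := inv_mem ((Subgroup.mem_normalizer_iff''.1 (hLΦ x.2) _).1 (hx a ha))
        convert h using 1
        group }
  haveI hXn : X.Normal := ⟨fun x hx g a ha => by
    show (g : G) * x * (g : G)⁻¹ * a * ((g : G) * x * (g : G)⁻¹)⁻¹ * a⁻¹ ∈ Φ
    have h1 := (Subgroup.mem_normalizer_iff.1 (hLΦ g.2) _).1
      (hx _ ((Subgroup.mem_normalizer_iff''.1 (hAL.2 g.2) a).1 ha))
    convert h1 using 1
    group⟩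
  haveI hCn : C.Normal := by
    refine ⟨fun x hx g => Subgroup.mem_subgroupOf.2 (Subgroup.mem_centralizer_iff.2 fun a ha => ?_)⟩
    have h1 := Subgroup.mem_centralizer_iff.1 hx _
      ((Subgroup.mem_normalizer_iff''.1 (hAL.2 g.2) a).1 ha)
    show a * ((g : G) * x * (g : G)⁻¹) = ((g : G) * x * (g : G)⁻¹) * a
    calc a * ((g : G) * x * (g : G)⁻¹) = g * (((g : G)⁻¹ * a * g) * x) * (g : G)⁻¹ := by group
      _ = (g : G) * ((x : G) * ((g : G)⁻¹ * a * g)) * (g : G)⁻¹ := by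
          rw [show ((g : G)⁻¹ * a * g) * x = (x : G) * ((g : G)⁻¹ * a * g) from h1]
      _ = _ := by group
  have hXC : ∀ x ∈ X, ∃ k : ℕ, x ^ p ^ k ∈ C := by
    intro x hx
    refine ⟨(Nat.card ↥L).factorization p, Subgroup.mem_subgroupOf.2 ?_⟩
    set z : ↥L := x ^ p ^ (Nat.card ↥L).factorization p with hz
    have hzX : z ∈ X := pow_mem hx _
    have hzord : (orderOf (z : G)).Coprime p := by
      rw [Subgroup.orderOf_coe]
      have h1 : z ^ (Nat.card ↥L / p ^ (Nat.card ↥L).factorization p) = 1 := by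
        rw [hz, ← pow_mul, Nat.mul_div_cancel' (Nat.ordProj_dvd _ p), pow_card_eq_one']
      refine Nat.Coprime.coprime_dvd_left (orderOf_dvd_of_pow_eq_one h1) ?_
      exact (Nat.coprime_ordCompl (Fact.out : p.Prime) Nat.card_pos.ne').symm
    refine CfsgLib.Coprime.le_centralizer_of_trivial_on_frattini_quotient
      (A := Subgroup.zpowers (z : G)) (K := A) ((Subgroup.zpowers_le).2 (hAL.2 z.2)) ?_ ?_
      (Subgroup.mem_zpowers _)
    · obtain ⟨k, hk⟩ := IsPGroup.iff_card.1 (hAp.to_subgroup (frattini ↥A))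
      rw [Nat.card_zpowers, hk]
      exact hzord.pow_right k
    · rintro b hb a ha
      obtain ⟨i, rfl⟩ := Subgroup.mem_zpowers_iff.1 hb
      have h := zpow_mem hzX i a ha
      rwa [Subgroup.coe_zpow] at h
  -- pass to the quotient by `O_p(C)`
  set D : Subgroup ↥L := Cfsg.pCoreOf p C with hD
  have hDp : IsPGroup p ↥D := CfsgLib.LS.pCoreOf_isPGroup C
  haveI hDn : D.Normal := by
    rw [← Subgroup.normalizer_eq_top_iff, eq_top_iff,
      ← Subgroup.normalizer_eq_top_iff.2 hCn]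
    exact CfsgLib.LS.normalizer_le_normalizer_map_char (Cfsg.pCore p ↥C)
      (hW := CfsgLib.Coprime.pCore_characteristic p)
  let q := QuotientGroup.mk' D
  have hq : Function.Surjective q := QuotientGroup.mk'_surjective D
  let Cb := C.map q
  let Xb := X.map q
  haveI : Cb.Normal := hCn.map q hq
  haveI : Xb.Normal := hXn.map q hq
  let Z := Xb ⊓ Subgroup.centralizer (Cb : Set (↥L ⧸ D))
  haveI : Z.Normal := inferInstance
  -- `Z` is nilpotent
  let f : ↥Z →* (↥L ⧸ D) ⧸ Cb := (QuotientGroup.mk' Cb).comp Z.subtype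
  haveI : Group.IsNilpotent ↥f.range := IsPGroup.isNilpotent (p := p) (by
    rintro ⟨_, ⟨⟨_, ⟨x, hx, rfl⟩, hz⟩, rfl⟩⟩
    obtain ⟨k, hk⟩ := hXC x hx
    refine ⟨k, Subtype.ext ?_⟩
    show (QuotientGroup.mk' Cb (q x)) ^ p ^ k = 1
    rw [← map_pow, ← map_pow]
    exact (QuotientGroup.eq_one_iff _).2 (Subgroup.mem_map_of_mem q hk))
  haveI hZnil : Group.IsNilpotent ↥Z := by
    refine Subgroup.isNilpotent_of_ker_le_center f.rangeRestrict ?_
    intro z hz
    rw [MonoidHom.ker_rangeRestrict] at hz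
    refine Subgroup.mem_center_iff.2 fun w => Subtype.ext ?_
    exact (Subgroup.mem_centralizer_iff.1 w.2.2 (z : ↥L ⧸ D)
      ((QuotientGroup.eq_one_iff _).1 hz)).symm
  intro y hy
  have hyL := hYL hy
  have hyM : y ∈ Cfsg.pCoreOf p Md := hY hy
  have hyp : IsPGroup p ↥(Subgroup.zpowers (q ⟨y, hyL⟩)) := by
    obtain ⟨k, hk⟩ := (CfsgLib.LS.pCoreOf_isPGroup (p := p) Md) ⟨y, hyM⟩
    refine IsPGroup.of_card_dvd_pow (n := k) ?_
    rw [Nat.card_zpowers]
    refine orderOf_dvd_of_pow_eq_one ?_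
    rw [← map_pow, show (⟨y, hyL⟩ : ↥L) ^ p ^ k = 1 from
      Subtype.ext (congrArg Subtype.val hk :), map_one]
  have hyX : (⟨y, hyL⟩ : ↥L) ∈ X := fun a ha =>
    hAAΦ ((Subgroup.commutator_mono hIA le_rfl) (hc (Subgroup.commutator_mem_commutator hy ha)))
  have hyZ : q ⟨y, hyL⟩ ∈ Z := by
    refine Subgroup.mem_inf.2 ⟨Subgroup.mem_map_of_mem q hyX, Subgroup.mem_centralizer_iff.2 ?_⟩
    rintro _ ⟨c, hc', rfl⟩
    rw [← map_mul, ← map_mul]
    refine QuotientGroup.eq.2 ?_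
    let N : Subgroup ↥L := (Cfsg.pCoreOf p Md).subgroupOf L ⊓ C
    have hCMd : ∀ u ∈ C, (u : G) ∈ Md := fun u hu =>
      hCI (Subgroup.centralizer_le (SetLike.coe_subset_coe.2 hIA) (Subgroup.mem_subgroupOf.1 hu))
    have hMdn : Md ≤ Subgroup.normalizer ((Cfsg.pCoreOf p Md : Subgroup G) : Set G) :=
      (Subgroup.le_normalizer).trans (CfsgLib.LS.normalizer_le_normalizer_map_char
        (Cfsg.pCore p ↥Md) (hW := CfsgLib.Coprime.pCore_characteristic p))
    have hND : N ≤ D := by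
      refine CfsgLib.LS.le_pCoreOf ?_ inf_le_right fun u hu => ?_
      · exact IsPGroup.to_le (((CfsgLib.LS.pCoreOf_isPGroup (p := p) Md)).comap_subtype)
          (inf_le_left)
      · refine Subgroup.mem_normalizer_iff.2 fun w => and_congr ?_ ?_
        · exact Subgroup.mem_normalizer_iff.1 (hMdn (hCMd u hu)) (w : G)
        · exact Subgroup.mem_normalizer_iff.1 (Subgroup.normalizer_eq_top_iff.2 hCn ▸
            Subgroup.mem_top u : u ∈ Subgroup.normalizer (C : Set ↥L)) w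
    refine hND (Subgroup.mem_inf.2 ⟨?_, ?_⟩)
    · show ((c : G) * y)⁻¹ * (y * (c : G)) ∈ Cfsg.pCoreOf p Md
      have h1 := mul_mem (inv_mem hyM)
        ((Subgroup.mem_normalizer_iff''.1 (hMdn (hCMd c hc')) y).1 hyM)
      convert h1 using 1
      group
    · have h1 := mul_mem (mul_mem (inv_mem (hc' : c ∈ C)) (one_mem C)) (one_mem C)
      have h2 : (⟨y, hyL⟩ : ↥L)⁻¹ * c⁻¹ * ⟨y, hyL⟩ * c ∈ C := mul_mem
        (by have := hCn.conj_mem _ (inv_mem hc') (⟨y, hyL⟩ : ↥L)⁻¹; rwa [inv_inv] at this) hc'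
      convert h2 using 1
      group
  obtain ⟨P, hP⟩ := (hyp.comap_subtype :
    IsPGroup p ↥((Subgroup.zpowers (q ⟨y, hyL⟩)).subgroupOf Z)).exists_le_sylow
  haveI hPn : (P : Subgroup ↥Z).Normal :=
    ((Group.isNilpotent_of_finite_tfae (G := ↥Z)).out 0 3 rfl rfl).mp hZnil p inferInstance P
  have hPc := (P : Sylow p ↥Z).characteristic_of_normal hPn
  have hPmn : ((P : Subgroup ↥Z).map Z.subtype).Normal := inferInstance
  have hyq : q ⟨y, hyL⟩ ∈ Cfsg.pCore p (↥L ⧸ D) :=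
    CfsgLib.Coprime.le_pCore (P.2.map _)
      (Subgroup.mem_map_of_mem Z.subtype (hP (show (⟨_, hyZ⟩ : ↥Z) ∈ _ from
        Subgroup.mem_subgroupOf.2 (Subgroup.mem_zpowers _))))
  refine ⟨⟨y, hyL⟩, ?_, rfl⟩
  have hpre : IsPGroup p ↥((Cfsg.pCore p (↥L ⧸ D)).comap q) :=
    (CfsgLib.Coprime.pCore_isPGroup p).comap_of_ker_isPGroup q
      (by rw [QuotientGroup.ker_mk']; exact hDp)
  haveI hcn := CfsgLib.Coprime.pCore_normal' (G := ↥L ⧸ D) p
  exact CfsgLib.Coprime.le_pCore hpre hyq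

end Cfsg.Agent.S2864
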