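import Cfsg.Statements.S2872
import Cfsg.Agent.Lib.Fusion.Sylow
import Mathlib.GroupTheory.Transfer
import Mathlib.GroupTheory.SpecificGroups.Cyclic
import Mathlib.GroupTheory.Frattini

set_option autoImplicit false
open Cfsg

namespace Cfsg.Agent.S2872

/-- Let S be a Sylow 2-subgroup of the finite group G. Then G has a proper normal subgroup of 2-power index (O²(G) ≠ G), or Ω₁(Z(S)) is contained in the Frattini subgroup of S, or N_G(S) acts nontrivially on Ω₁(Z(S)) by conjugation. -/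
theorem result {G : Type*} [Group G] [Finite G] (S : Sylow 2 G) : Cfsg.pResidual 2 G ≠ ⊤ ∨ Cfsg.omegaOne 2 ((S : Subgroup G) ⊓ Subgroup.centralizer ((S : Subgroup G) : Set G)) ≤ (frattini ↥(S : Subgroup G)).map (S : Subgroup G).subtype ∨ ∃ g ∈ Subgroup.normalizer ((S : Subgroup G) : Set G), ∃ z ∈ Cfsg.omegaOne 2 ((S : Subgroup G) ⊓ Subgroup.centralizer ((S : Subgroup G) : Set G)), g * z * g⁻¹ ≠ z := by
  classical
  by_contra hcon
  push Not at hcon
  obtain ⟨hres, hnle, hfix⟩ := hcon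
  set T : Subgroup G := (S : Subgroup G) with hT
  obtain ⟨z, ⟨hz, hz2⟩, hzΦ⟩ : ∃ z, (z ∈ T ⊓ Subgroup.centralizer (T : Set G) ∧ z ^ 2 = 1) ∧ z ∉ (frattini ↥T).map T.subtype := by
    by_contra h
    push Not at h
    exact hnle ((Subgroup.closure_le _).2 fun z hz => h z hz)
  have hzc : ∀ s ∈ T, s * z = z * s := fun s hs => Subgroup.mem_centralizer_iff.1 hz.2 s hs
  obtain ⟨M, hM, hzM⟩ : ∃ M : Subgroup T, IsCoatom M ∧ (⟨z, hz.1⟩ : T) ∉ M := by
    by_contra h
    push Not at h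
    refine hzΦ ⟨⟨z, hz.1⟩, ?_, rfl⟩
    simpa [frattini, Order.radical, Subgroup.mem_iInf] using h
  haveI := S.2.isNilpotent
  haveI hMn : M.Normal := Subgroup.NormalizerCondition.normal_of_coatom M Group.normalizerCondition_of_isNilpotent hM
  have hcard : Nat.card (↥T ⧸ M) = 2 := by
    obtain ⟨k, hk⟩ := (S.2.to_quotient M).exists_card_eq
    have hk0 : k ≠ 0 := fun e => hM.1 (Subgroup.index_eq_one.1 (by rw [Subgroup.index_eq_card, hk, e, pow_zero]))
    obtain ⟨w, hw⟩ := exists_prime_orderOf_dvd_card' (G := ↥T ⧸ M) 2 (by rw [hk]; exact dvd_pow_self 2 hk0)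
    obtain ⟨u, rfl⟩ := QuotientGroup.mk_surjective w
    have hu : u ∉ M := fun h => by
      rw [(QuotientGroup.eq_one_iff u).2 h, orderOf_one] at hw
      exact absurd hw (by norm_num)
    have htop : M ⊔ Subgroup.zpowers u = ⊤ := hM.2 _ (lt_of_le_of_ne le_sup_left fun e => hu (e ▸ Subgroup.mem_sup_right (Subgroup.mem_zpowers u)))
    have hz' : Subgroup.zpowers (QuotientGroup.mk u : ↥T ⧸ M) = ⊤ := by
      rw [← Subgroup.map_top_of_surjective (QuotientGroup.mk' M) (QuotientGroup.mk'_surjective M), ← htop, Subgroup.map_sup, MonoidHom.map_zpowers]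
      simp
    rw [← Subgroup.card_top (G := ↥T ⧸ M), ← hz', Nat.card_zpowers, hw]
  haveI : IsCyclic (↥T ⧸ M) := isCyclic_of_prime_card (p := 2) hcard
  letI : CommGroup (↥T ⧸ M) := IsCyclic.commGroup
  let φ : T →* ↥T ⧸ M := QuotientGroup.mk' M
  have hφ2 : ∀ w : ↥T ⧸ M, w ≠ 1 → w = φ ⟨z, hz.1⟩ := by
    intro w hw
    by_contra hne
    have h3 : ({1, φ ⟨z, hz.1⟩, w} : Finset (↥T ⧸ M)).card = 3 :=
      Finset.card_eq_three.2 ⟨_, _, _, fun e => hzM ((QuotientGroup.eq_one_iff _).1 e.symm), Ne.symm hw, Ne.symm hne, rfl⟩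
    letI := Fintype.ofFinite (↥T ⧸ M)
    have h4 := Finset.card_le_univ ({1, φ ⟨z, hz.1⟩, w} : Finset (↥T ⧸ M))
    rw [h3, Fintype.card_eq_nat_card, hcard] at h4
    omega
  -- the transfer kills everything
  have htriv : MonoidHom.transfer φ z = 1 := by
    have hle : Cfsg.pResidual 2 G ≤ (MonoidHom.transfer φ).ker := by
      refine (Subgroup.closure_le _).2 fun g hg => ?_
      rw [SetLike.mem_coe, MonoidHom.mem_ker, ← orderOf_eq_one_iff]
      exact Nat.eq_one_of_dvd_coprimes hg (orderOf_map_dvd _ g) (hcard ▸ orderOf_dvd_natCard _)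
    exact hle (hres.ge (Subgroup.mem_top z))
  letI := Fintype.ofFinite (G ⧸ T)
  let R : T.LeftTransversal :=
    ⟨Set.range (Quotient.out : G ⧸ T → G), Subgroup.isComplement_range_left Quotient.out_eq'⟩
  have hR : ∀ q : G ⧸ T, (R.2.leftQuotientEquiv q : G) = q.out :=
    fun q => Subgroup.IsComplement.leftQuotientEquiv_apply Quotient.out_eq' q
  have hzz : z⁻¹ = z := by rw [inv_eq_iff_mul_eq_one, ← sq, hz2]
  have hmemT : ∀ q : G ⧸ T, q.out⁻¹ * z * (z • q).out ∈ T := by
    intro q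
    have h1 : ((z * (z • q).out : G) : G ⧸ T) = q := by
      show z • ((z • q).out : G ⧸ T) = q
      rw [QuotientGroup.out_eq', smul_smul, ← sq, hz2, one_smul]
    have h2 := QuotientGroup.eq.1 ((QuotientGroup.out_eq' q).trans h1.symm)
    rwa [← mul_assoc] at h2
  let F : G ⧸ T → ↥T ⧸ M := fun q => φ ⟨_, hmemT q⟩
  have hV : MonoidHom.transfer φ z = ∏ q : G ⧸ T, F q := by
    rw [MonoidHom.transfer_def φ R]
    unfold Subgroup.leftTransversals.diff
    refine Finset.prod_congr (by ext; simp) fun q _ => ?_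
    refine congrArg φ (Subtype.ext ?_)
    show (R.2.leftQuotientEquiv q : G)⁻¹ * ((z • R).2.leftQuotientEquiv q : G) = _
    rw [Subgroup.smul_apply_eq_smul_apply_inv_smul, hzz, hR, hR, smul_eq_mul]
    exact (mul_assoc _ _ _).symm
  rw [hV, ← Finset.prod_filter_mul_prod_filter_not Finset.univ (fun q : G ⧸ T => z • q = q)] at htriv
  -- the moved cosets cancel in pairs
  have hmoved : ∏ q ∈ Finset.univ.filter (fun q : G ⧸ T => ¬ z • q = q), F q = 1 := by
    refine Finset.prod_involution (fun q _ => z • q) ?_ ?_ ?_ ?_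
    · intro q _
      show φ _ * φ _ = 1
      rw [← map_mul, ← map_one φ]
      refine congrArg φ (Subtype.ext ?_)
      show q.out⁻¹ * z * (z • q).out * ((z • q).out⁻¹ * z * (z • z • q).out) = 1
      rw [smul_smul, ← sq, hz2, one_smul]
      calc q.out⁻¹ * z * (z • q).out * ((z • q).out⁻¹ * z * q.out) = q.out⁻¹ * (z * z) * q.out := by group
        _ = 1 := by rw [← sq, hz2]; group
    · intro q hq _
      exact (Finset.mem_filter.1 hq).2
    · intro q hq
      refine Finset.mem_filter.2 ⟨Finset.mem_univ _, fun e => (Finset.mem_filter.1 hq).2 ?_⟩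
      rw [smul_smul, ← sq, hz2, one_smul] at e
      exact e.symm
    · intro q _
      show z • z • q = q
      rw [smul_smul, ← sq, hz2, one_smul]
  rw [hmoved, mul_one] at htriv
  -- the fixed cosets with nontrivial value form an odd set
  have hval : ∀ (q : G ⧸ T) (a : G), (a : G ⧸ T) = q → z • q = q → ∃ ha : a⁻¹ * z * a ∈ T, F q = φ ⟨_, ha⟩ := by
    intro q a haq hq
    have hmem := hmemT q
    rw [hq] at hmem
    obtain ⟨s, hs, rfl⟩ : ∃ s ∈ T, a = q.out * s :=
      ⟨q.out⁻¹ * a, QuotientGroup.eq.1 ((QuotientGroup.out_eq' q).trans haq.symm), by group⟩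
    have hm2 : (q.out * s)⁻¹ * z * (q.out * s) ∈ T := by
      have := T.mul_mem (T.mul_mem (T.inv_mem hs) hmem) hs
      convert this using 1
      group
    refine ⟨hm2, ?_⟩
    have e : (⟨_, hmemT q⟩ : T) = ⟨q.out⁻¹ * z * q.out, hmem⟩ := Subtype.ext (by simp [hq])
    show φ _ = φ _
    rw [e, show (⟨(q.out * s)⁻¹ * z * (q.out * s), hm2⟩ : T) = ⟨s, hs⟩⁻¹ * ⟨_, hmem⟩ * ⟨s, hs⟩ from Subtype.ext (by
      show (q.out * s)⁻¹ * z * (q.out * s) = s⁻¹ * (q.out⁻¹ * z * q.out) * s
      group), map_mul, map_mul, map_inv, mul_comm (φ ⟨s, hs⟩)⁻¹, inv_mul_cancel_right]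
  let A : SubMulAction T (G ⧸ T) :=
    { carrier := {q | z • q = q ∧ F q ≠ 1}
      smul_mem' := fun s q ⟨hq, hF⟩ => by
        have hq' : z • ((s : G) • q) = (s : G) • q := by
          rw [smul_smul, ← hzc s s.2, ← smul_smul, hq]
        refine ⟨hq', ?_⟩
        obtain ⟨h1, e1⟩ := hval q q.out (QuotientGroup.out_eq' q) hq
        obtain ⟨h2, e2⟩ := hval ((s : G) • q) ((s : G) * q.out) (by
          show (s : G) • (q.out : G ⧸ T) = _
          rw [QuotientGroup.out_eq']) hq'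
        show F ((s : G) • q) ≠ 1
        rw [e2]
        rw [e1] at hF
        convert hF using 3
        calc ((s : G) * q.out)⁻¹ * z * ((s : G) * q.out) = q.out⁻¹ * ((s : G)⁻¹ * (z * s)) * q.out := by group
          _ = q.out⁻¹ * z * q.out := by rw [← hzc s s.2]; group }
  have hmod := S.2.card_modEq_card_fixedPoints (α := A)
  have hprod : ∏ q ∈ Finset.univ.filter (fun q : G ⧸ T => z • q = q), F q = φ ⟨z, hz.1⟩ ^ Nat.card A := by
    rw [← Finset.prod_filter_ne_one, Finset.prod_congr rfl (fun q hq => hφ2 _ (Finset.mem_filter.1 hq).2), Finset.prod_const]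
    congr 1
    rw [Finset.filter_filter, ← Fintype.card_subtype, ← Nat.card_eq_fintype_card]
    rfl
  have hfixed : Nat.card (MulAction.fixedPoints T A) = T.relIndex (Subgroup.normalizer (T : Set G)) := by
    rw [Subgroup.relIndex, Subgroup.index]
    have hmemN : ∀ q : G ⧸ T, (∀ s : T, (s : G) • q = q) → q.out ∈ Subgroup.normalizer (T : Set G) := by
      intro q hq
      rw [← CfsgLib.Fusion.conjBy_eq_iff]
      refine (Subgroup.eq_of_le_of_card_ge (fun s hs => CfsgLib.Fusion.mem_conjBy.2 ?_) (CfsgLib.Fusion.card_conjBy _ _).le).symm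
      have h1 := hq ⟨s, hs⟩
      conv_lhs at h1 => rw [← QuotientGroup.out_eq' q]
      have h2 := QuotientGroup.eq.1 ((QuotientGroup.out_eq' q).trans h1.symm)
      have h2' : q.out⁻¹ * (s * q.out) ∈ T := h2
      rwa [← mul_assoc] at h2'
    have hback : ∀ g ∈ Subgroup.normalizer (T : Set G), (∀ s : T, (s : G) • (g : G ⧸ T) = g) ∧ z • (g : G ⧸ T) = g ∧ F g ≠ 1 := by
      intro g hg
      have h1 : ∀ s : T, (s : G) • (g : G ⧸ T) = g := fun s => by
        show (((s : G) * g : G) : G ⧸ T) = g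
        rw [QuotientGroup.eq, mul_inv_rev, mul_assoc]
        exact (Subgroup.mem_normalizer_iff''.1 hg _).1 (T.inv_mem s.2) |> fun h => by simpa [mul_assoc] using h
      refine ⟨h1, h1 ⟨z, hz.1⟩, ?_⟩
      obtain ⟨h2, e2⟩ := hval g g rfl (h1 ⟨z, hz.1⟩)
      rw [e2]
      have h3 : g⁻¹ * z * g = z := by
        have := hfix g⁻¹ (inv_mem hg) z (Subgroup.subset_closure ⟨hz, hz2⟩)
        rwa [inv_inv] at this
      exact fun e => hzM ((QuotientGroup.eq_one_iff _).1 (by rw [← e]; exact congrArg φ (Subtype.ext h3.symm)))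
    refine Nat.card_congr (Equiv.ofBijective
      (fun a => QuotientGroup.mk (⟨(a.1 : G ⧸ T).out, hmemN _ fun s => congrArg Subtype.val (a.2 s)⟩ : Subgroup.normalizer (T : Set G))) ⟨?_, ?_⟩)
    · intro a b e
      have h1 := QuotientGroup.eq.1 e
      refine Subtype.ext (Subtype.ext ?_)
      rw [← QuotientGroup.out_eq' (a.1 : G ⧸ T), ← QuotientGroup.out_eq' (b.1 : G ⧸ T), QuotientGroup.eq]
      exact h1
    · intro q
      obtain ⟨⟨g, hg⟩, rfl⟩ := QuotientGroup.mk_surjective q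
      obtain ⟨h1, h2, h3⟩ := hback g hg
      refine ⟨⟨⟨(g : G ⧸ T), h2, h3⟩, fun s => Subtype.ext (h1 s)⟩, ?_⟩
      rw [QuotientGroup.eq, Subgroup.mem_subgroupOf]
      exact QuotientGroup.eq.1 (QuotientGroup.out_eq' (g : G ⧸ T))
  rw [hprod] at htriv
  have hodd : ¬ 2 ∣ Nat.card A := by
    intro hd
    have h1 : Nat.card (MulAction.fixedPoints T A) % 2 = 0 := by
      rw [← hmod]; exact Nat.mod_eq_zero_of_dvd hd
    rw [hfixed] at h1
    exact S.not_dvd_index ((Nat.dvd_of_mod_eq_zero h1).trans (Subgroup.relIndex_dvd_index_of_le Subgroup.le_normalizer))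
  have hne : φ ⟨z, hz.1⟩ ≠ 1 := fun e => hzM ((QuotientGroup.eq_one_iff _).1 e)
  exact hodd (orderOf_eq_prime (p := 2) (by rw [← hcard]; exact pow_card_eq_one') hne ▸ orderOf_dvd_of_pow_eq_one htriv)

end Cfsg.Agent.S2872
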