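import Cfsg.Statements.S2873
import Cfsg.Agent.Lib.LocalStructure.DihedralTop
import Cfsg.Agent.Lib.Coprime.Core

set_option autoImplicit false
open Cfsg

namespace Cfsg.Agent.S2873

/-- Let G be a finite group and r an odd prime such that G ⧸ O₂(G) is dihedral of order 2r, and let R be a Sylow r-subgroup of G with C_{O₂(G)}(R) = 1. Then N_G(R) is dihedral of order 2r; for any involution a of N_G(R), every involution of G outside O₂(G) is conjugate to a; and |C_{O₂(G)}(a)|² = |O₂(G)|. -/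
theorem result {G : Type*} [Group G] [Finite G] {r : ℕ} [Fact r.Prime] (hr : r ≠ 2) [hN : (Cfsg.pCore 2 G).Normal] (hquot : Nonempty (G ⧸ Cfsg.pCore 2 G ≃* DihedralGroup r)) (R : Sylow r G) (hC : Cfsg.pCore 2 G ⊓ Subgroup.centralizer ((R : Subgroup G) : Set G) = ⊥) : Nonempty (↥(Subgroup.normalizer ((R : Subgroup G) : Set G)) ≃* DihedralGroup r) ∧ ∀ a : G, a ∈ Subgroup.normalizer ((R : Subgroup G) : Set G) → orderOf a = 2 → (∀ b : G, orderOf b = 2 → b ∉ Cfsg.pCore 2 G → ∃ g : G, g * a * g⁻¹ = b) ∧ Nat.card ↥(Cfsg.pCore 2 G ⊓ Subgroup.centralizer ({a} : Set G)) ^ 2 = Nat.card ↥(Cfsg.pCore 2 G) := by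
  haveI : Fact (Nat.Prime 2) := ⟨Nat.prime_two⟩
  obtain ⟨e⟩ := hquot
  set φ : G →* DihedralGroup r := e.toMonoidHom.comp (QuotientGroup.mk' (Cfsg.pCore 2 G))
  have hker : φ.ker = Cfsg.pCore 2 G := by
    ext x
    rw [MonoidHom.mem_ker, ← QuotientGroup.eq_one_iff x]
    exact e.map_eq_one_iff
  have hsurj : Function.Surjective φ := e.surjective.comp (QuotientGroup.mk'_surjective _)
  obtain ⟨s, hφs, hinj, hrange, hfix⟩ := CfsgLib.LS.DihedralTop.exists_section hr hsurj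
    (hker.symm ▸ CfsgLib.Coprime.pCore_isPGroup 2) R (hker.symm ▸ hC)
  refine ⟨⟨((MonoidHom.ofInjective hinj).trans (MulEquiv.subgroupCongr hrange)).symm⟩, fun a ha ha2 => ?_⟩
  obtain ⟨d, rfl⟩ := hrange.ge ha
  have hd1 : d ≠ 1 := fun h => by
    rw [h, map_one, orderOf_one] at ha2
    omega
  obtain ⟨i, rfl⟩ := CfsgLib.LS.DihedralTop.orderOf_two_cases hr hd1 (hinj (by
    rw [map_mul, map_one, ← pow_two, ← ha2, pow_orderOf_eq_one]))
  refine ⟨fun b hb hbO => ?_, ?_⟩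
  · exact CfsgLib.LS.DihedralTop.isConj_involution φ s hφs hfix hr i
      (fun h => hbO (hker.le h)) (by rw [← pow_two, ← hb, pow_orderOf_eq_one])
  · rw [← hker]
    exact CfsgLib.LS.DihedralTop.card_fixed_sq φ s hφs hfix hr i

end Cfsg.Agent.S2873
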