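import Mathlib
import Cfsg.Statements.S2874
-- import your own Cfsg.Agent.* helpers here

set_option autoImplicit false
open Cfsg

namespace Cfsg.Agent.S2874


theorem alt_prod : ∀ c x : alternatingGroup (Fin 4), c ^ 3 = 1 → c ≠ 1 → x ^ 2 = 1 →
      x * (c * x * c ^ 2) * (c ^ 2 * x * c) = 1 := by decide +kernel

theorem alt_cover : ∀ c x : alternatingGroup (Fin 4), c ^ 3 = 1 → c ≠ 1 → ∃ v : alternatingGroup (Fin 4),
      v ^ 2 = 1 ∧ (x = v ∨ x = v * c ∨ x = v * c ^ 2) := by decide +kernel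

theorem alt_three : ∃ c : alternatingGroup (Fin 4), c ^ 3 = 1 ∧ c ≠ 1 := by decide +kernel

theorem alt_two : ∃ x : alternatingGroup (Fin 4), x ^ 2 = 1 ∧ x ≠ 1 := by decide +kernel

theorem mod_two_inv : ∀ W X : Matrix (Fin 2) (Fin 2) (ZMod 2), W ^ 3 = 1 → W ≠ 1 → X ^ 2 = 1 →
      X * (W * X * W ^ 2) * (W ^ 2 * X * W) = 1 → X = 1 := by decide +kernel

theorem mod_two_det : ∀ W : Matrix (Fin 2) (Fin 2) (ZMod 2), W ^ 3 = 1 → W ≠ 1 → (W - 1).det = 1 ∧ W 1 0 = 1 := by
  decide +kernel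

abbrev red (k : ℕ) (hk : 2 ≤ k) : ZMod (2 ^ k) →+* ZMod 2 := ZMod.castHom (dvd_pow_self 2 (by omega)) _

theorem isUnit_of_red {k : ℕ} (hk : 2 ≤ k) {x : ZMod (2 ^ k)} (h : red k hk x = 1) : IsUnit x := by
  rw [← ZMod.natCast_rightInverse x, ZMod.isUnit_iff_coprime, Nat.coprime_pow_right_iff (by omega),
    Nat.coprime_two_right, Nat.odd_iff]
  rw [← ZMod.natCast_rightInverse x, map_natCast] at h
  have h1 : ((x.val % 2 : ℕ) : ZMod 2) = 1 := by rw [ZMod.natCast_mod]; exact h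
  rcases Nat.mod_two_eq_zero_or_one x.val with e | e
  · rw [e] at h1; exact absurd h1 (by decide)
  · exact e

theorem half_cases {k : ℕ} (hk : 2 ≤ k) {x : ZMod (2 ^ k)} (h : 2 * x = 0) :
    x = 0 ∨ x = ((2 ^ (k - 1) : ℕ) : ZMod (2 ^ k)) := by
  have hd : 2 * 2 ^ (k - 1) = 2 ^ k := by rw [← pow_succ']; congr 1; omega
  rw [← ZMod.natCast_rightInverse x] at h ⊢
  have h1 : 2 * 2 ^ (k - 1) ∣ 2 * x.val := hd.symm ▸ (ZMod.natCast_eq_zero_iff (2 * x.val) (2 ^ k)).1 (by push_cast at h ⊢; exact h)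
  obtain ⟨c, hc⟩ := Nat.dvd_of_mul_dvd_mul_left (by norm_num) h1
  have hlt : x.val < 2 ^ k := ZMod.val_lt x
  rw [hc, ← hd] at hlt
  have hc2 : c < 2 := by nlinarith [Nat.one_le_two_pow (n := k - 1)]
  rcases (show c = 0 ∨ c = 1 by omega) with rfl | rfl
  · left; rw [hc]; simp
  · right; rw [hc, mul_one]

abbrev vmat {k : ℕ} (b c : ZMod (2 ^ k)) : Matrix (Fin 2) (Fin 2) (ZMod (2 ^ k)) := !![1 + b + c, b; c, 1 + b + c]

theorem shape {k : ℕ} (hk : 2 ≤ k) (g : Matrix (Fin 2) (Fin 2) (ZMod (2 ^ k))) (hg2 : g ^ 2 = 1)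
    (hred : g.map (red k hk) = 1)
    (htriple : g * (!![0, -1; 1, -1] * g * !![0, -1; 1, -1] ^ 2) * (!![0, -1; 1, -1] ^ 2 * g * !![0, -1; 1, -1]) = 1) :
    ∃ b c : ZMod (2 ^ k), 2 * b = 0 ∧ 2 * c = 0 ∧ g = vmat b c := by
  have hdet2 : g.det ^ 2 = 1 := by rw [← Matrix.det_pow, hg2, Matrix.det_one]
  have hdet3 : g.det ^ 3 = 1 := by
    have hw : (!![0, -1; 1, -1] : Matrix (Fin 2) (Fin 2) (ZMod (2 ^ k))).det = 1 := by simp [Matrix.det_fin_two]
    have := congrArg Matrix.det htriple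
    simp only [Matrix.det_mul, Matrix.det_pow, hw, Matrix.det_one, one_pow, mul_one, one_mul] at this
    rw [← this]; ring
  have hdet : g.det = 1 := by
    rw [pow_succ, hdet2, one_mul] at hdet3
    exact hdet3
  obtain ⟨a, b, c, d, rfl⟩ : ∃ a b c d, g = !![a, b; c, d] := ⟨_, _, _, _, Matrix.eta_fin_two g⟩
  rw [Matrix.det_fin_two_of] at hdet
  rw [pow_two, Matrix.mul_fin_two, Matrix.one_fin_two] at hg2
  have e00 : a * a + b * c = 1 := by simpa using congrFun (congrFun hg2 0) 0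
  have e01 : a * b + b * d = 0 := by simpa using congrFun (congrFun hg2 0) 1
  have e10 : c * a + d * c = 0 := by simpa using congrFun (congrFun hg2 1) 0
  have ra : red k hk a = 1 := by simpa using congrFun (congrFun hred 0) 0
  have rb : red k hk b = 0 := by simpa using congrFun (congrFun hred 0) 1
  have had : a * (a + d) = 2 := by linear_combination e00 + hdet
  have hb : 2 * b = 0 := by linear_combination (-b) * had + a * e01
  have hc : 2 * c = 0 := by linear_combination (-c) * had + a * e10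
  have hbc : b * c = 0 := by
    rcases half_cases hk hb with e | e
    · rw [e, zero_mul]
    · rcases half_cases hk hc with e' | e'
      · rw [e', mul_zero]
      · rw [e, e', ← Nat.cast_mul, ZMod.natCast_eq_zero_iff, ← pow_add]
        exact pow_dvd_pow 2 (by omega)
  have haa : a * a = 1 := by linear_combination e00 - hbc
  have hd : d = a := by
    linear_combination a * (hdet + hbc) - d * haa
  subst hd
  rename' d => a
  have hbb : b * b = 0 := by
    rcases half_cases hk hb with e | e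
    · rw [e, zero_mul]
    · rw [e, ← Nat.cast_mul, ZMod.natCast_eq_zero_iff, ← pow_add]
      exact pow_dvd_pow 2 (by omega)
  have hcc : c * c = 0 := by
    rcases half_cases hk hc with e | e
    · rw [e, zero_mul]
    · rw [e, ← Nat.cast_mul, ZMod.natCast_eq_zero_iff, ← pow_add]
      exact pow_dvd_pow 2 (by omega)
  have hab : a * b = b := by
    rcases half_cases hk hb with e | e
    · rw [e, mul_zero]
    · rw [e]
      obtain ⟨t, ht⟩ : ∃ t : ℕ, a = ((2 * t + 1 : ℕ) : ZMod (2 ^ k)) := by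
        refine ⟨a.val / 2, ?_⟩
        have h1 := ra
        rw [← ZMod.natCast_rightInverse a, map_natCast] at h1
        rcases Nat.mod_two_eq_zero_or_one a.val with e2 | e2
        · rw [← ZMod.natCast_mod, e2] at h1; exact absurd h1 (by decide)
        · conv_lhs => rw [← ZMod.natCast_rightInverse a, ← Nat.div_add_mod a.val 2, e2]
      rw [ht, ← Nat.cast_mul, add_mul, one_mul, Nat.cast_add, mul_assoc, mul_left_comm,
        show 2 * 2 ^ (k - 1) = 2 ^ k by rw [← pow_succ']; congr 1; omega, Nat.cast_mul, ZMod.natCast_self,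
        mul_zero, zero_add]
  have hac : a * c = c := by
    rcases half_cases hk hc with e | e
    · rw [e, mul_zero]
    · rw [e]
      obtain ⟨t, ht⟩ : ∃ t : ℕ, a = ((2 * t + 1 : ℕ) : ZMod (2 ^ k)) := by
        refine ⟨a.val / 2, ?_⟩
        have h1 := ra
        rw [← ZMod.natCast_rightInverse a, map_natCast] at h1
        rcases Nat.mod_two_eq_zero_or_one a.val with e2 | e2
        · rw [← ZMod.natCast_mod, e2] at h1; exact absurd h1 (by decide)
        · conv_lhs => rw [← ZMod.natCast_rightInverse a, ← Nat.div_add_mod a.val 2, e2]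
      rw [ht, ← Nat.cast_mul, add_mul, one_mul, Nat.cast_add, mul_assoc, mul_left_comm,
        show 2 * 2 ^ (k - 1) = 2 ^ k by rw [← pow_succ']; congr 1; omega, Nat.cast_mul, ZMod.natCast_self,
        mul_zero, zero_add]
  have m1 : (!![0, -1; 1, -1] : Matrix (Fin 2) (Fin 2) (ZMod (2 ^ k))) * !![a, b; c, a] * !![0, -1; 1, -1] ^ 2 =
      !![c + a, -c; c - b, a - c] := by
    simp only [pow_two, Matrix.mul_fin_two]
    ext i j
    fin_cases i <;> fin_cases j <;> simp <;> ring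
  have m2 : (!![0, -1; 1, -1] : Matrix (Fin 2) (Fin 2) (ZMod (2 ^ k))) ^ 2 * !![a, b; c, a] * !![0, -1; 1, -1] =
      !![a - b, b - c; -b, a + b] := by
    simp only [pow_two, Matrix.mul_fin_two]
    ext i j
    fin_cases i <;> fin_cases j <;> simp <;> ring
  rw [m1, m2, Matrix.mul_fin_two, Matrix.mul_fin_two, Matrix.one_fin_two] at htriple
  have h00 : (a * (c + a) + b * (c - b)) * (a - b) + (a * -c + b * (a - c)) * -b = 1 := by
    simpa using congrFun (congrFun htriple 0) 0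
  have hX : a * (c + a) + b * (c - b) = 1 + c := by linear_combination hac + haa + hbc - hbb
  have hY : a * -c + b * (a - c) = b - c := by linear_combination -hac + hab - hbc
  rw [hX, hY] at h00
  refine ⟨b, c, hb, hc, ?_⟩
  have ha : a = 1 + b + c := by linear_combination h00 - hac + hbb - hc
  rw [ha]


abbrev w0 (k : ℕ) : Matrix (Fin 2) (Fin 2) (ZMod (2 ^ k)) := !![0, -1; 1, -1]

theorem exists_normal_form {k : ℕ} (hk : 2 ≤ k) (H : Subgroup (GL (Fin 2) (ZMod (2 ^ k))))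
    (e : ↥H ≃* ↥(alternatingGroup (Fin 4))) : ∃ P : GL (Fin 2) (ZMod (2 ^ k)), ∀ x : GL (Fin 2) (ZMod (2 ^ k)),
      P⁻¹ * x * P ∈ H ↔ ∃ b c : ZMod (2 ^ k), 2 * b = 0 ∧ 2 * c = 0 ∧
        (x.1 = vmat b c ∨ x.1 = vmat b c * w0 k ∨ x.1 = vmat b c * w0 k ^ 2) := by
  set R := ZMod (2 ^ k)
  let f := (red k hk).mapMatrix (m := Fin 2)
  obtain ⟨c₀, hc3, hc1⟩ := alt_three
  obtain ⟨x₀, hx2, hx1⟩ := alt_two
  set w : ↥H := e.symm c₀ with hw
  have hw3 : (w : GL (Fin 2) R).1 ^ 3 = 1 := by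
    rw [← Units.val_pow_eq_pow_val, ← Subgroup.coe_pow, hw, ← map_pow, hc3, map_one]; rfl
  have hcube : ((w : GL (Fin 2) R).1 - 1) * ((w : GL (Fin 2) R).1 ^ 2 + (w : GL (Fin 2) R).1 + 1) = 0 := by
    rw [mul_add, mul_add, sub_mul, sub_mul, sub_mul, ← pow_succ', hw3]; simp [pow_two]
  have hf3 : f (w : GL (Fin 2) R).1 ^ 3 = 1 := by rw [← map_pow, hw3, map_one]
  have hfw : f (w : GL (Fin 2) R).1 ≠ 1 := by
    intro h1
    have hu : IsUnit ((w : GL (Fin 2) R).1 ^ 2 + (w : GL (Fin 2) R).1 + 1) := by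
      rw [Matrix.isUnit_iff_isUnit_det]
      refine isUnit_of_red hk ?_
      rw [RingHom.map_det, map_add, map_add, map_pow, map_one, show (red k hk).mapMatrix (w : GL (Fin 2) R).1 = 1 from h1]
      decide
    have := hu.mul_left_eq_zero.1 hcube
    exact hc1 (e.symm.map_eq_one_iff.1 (Subtype.ext (Units.ext (sub_eq_zero.1 this))))
  obtain ⟨hdet, h10⟩ := mod_two_det _ hf3 hfw
  have hquad : (w : GL (Fin 2) R).1 ^ 2 + (w : GL (Fin 2) R).1 + 1 = 0 := by
    have hu : IsUnit ((w : GL (Fin 2) R).1 - 1) := by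
      rw [Matrix.isUnit_iff_isUnit_det]
      refine isUnit_of_red hk ?_
      rw [RingHom.map_det, map_sub, map_one]
      exact hdet
    exact hu.mul_right_eq_zero.1 hcube
  obtain ⟨a, b, c, d, hwm⟩ : ∃ a b c d, (w : GL (Fin 2) R).1 = !![a, b; c, d] := ⟨_, _, _, _, Matrix.eta_fin_two _⟩
  have hcu : IsUnit c := isUnit_of_red hk (by
    rw [show f (w : GL (Fin 2) R).1 1 0 = red k hk ((w : GL (Fin 2) R).1 1 0) from rfl, hwm] at h10
    simpa using h10)
  have hQ : IsUnit (!![1, a; 0, c] : Matrix (Fin 2) (Fin 2) R) := by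
    rw [Matrix.isUnit_iff_isUnit_det, Matrix.det_fin_two_of]; simpa using hcu
  set Q : GL (Fin 2) R := hQ.unit with hQdef
  have hwQ : (w : GL (Fin 2) R).1 * Q.1 = Q.1 * w0 k := by
    rw [hQdef, IsUnit.unit_spec, hwm, Matrix.mul_fin_two, Matrix.mul_fin_two]
    rw [hwm, pow_two, Matrix.mul_fin_two, Matrix.one_fin_two] at hquad
    have q00 : a * a + b * c + a + 1 = 0 := by simpa using congrFun (congrFun hquad 0) 0
    have q10 : c * a + d * c + c = 0 := by simpa using congrFun (congrFun hquad 1) 0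
    have e01 : a * a + b * c = -1 - a := by linear_combination q00
    have e11 : c * a + d * c = -c := by linear_combination q10
    ext i j
    fin_cases i <;> fin_cases j <;> simp [e01, e11] <;> ring
  have hW : (Q⁻¹ * (w : GL (Fin 2) R) * Q).1 = w0 k := by
    rw [Units.val_mul, Units.val_mul, mul_assoc, hwQ, ← mul_assoc, Units.inv_mul, one_mul]
  refine ⟨Q⁻¹, fun x => ?_⟩
  rw [inv_inv]
  -- conjugation into the new coordinates
  let φ : ↥(alternatingGroup (Fin 4)) →* Matrix (Fin 2) (Fin 2) R :=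
    { toFun := fun y => (Q⁻¹ * (e.symm y : GL (Fin 2) R) * Q).1
      map_one' := by simp
      map_mul' := fun y z => by rw [← Units.val_mul]; congr 1; simp [mul_assoc] }
  have hφinj : Function.Injective φ := fun y z h => by
    have h2 : Q⁻¹ * (e.symm y : GL (Fin 2) R) * Q = Q⁻¹ * (e.symm z : GL (Fin 2) R) * Q := Units.ext h
    exact e.symm.injective (Subtype.ext (mul_left_cancel (mul_right_cancel h2)))
  have hφc : φ c₀ = w0 k := hW
  have hsh : ∀ y, y ^ 2 = 1 → ∃ b c : R, 2 * b = 0 ∧ 2 * c = 0 ∧ φ y = vmat b c := by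
    intro y hy
    have h2 : φ y ^ 2 = 1 := by rw [← map_pow, hy, map_one]
    have ht := congrArg φ (alt_prod c₀ y hc3 hc1 hy)
    rw [map_mul, map_mul, map_mul, map_mul, map_mul, map_mul, map_pow, hφc, map_one] at ht
    refine shape hk _ h2 ?_ ?_
    · refine mod_two_inv (f (w0 k)) (f (φ y)) ?_ ?_ ?_ ?_
      · rw [← map_pow, ← hφc, ← map_pow, hc3, map_one, map_one]
      · intro h1
        have h00 := congrFun (congrFun h1 1) 0
        simp only [f, RingHom.mapMatrix_apply, Matrix.map_apply, w0] at h00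
        simp [-ZMod.castHom_apply, Matrix.one_apply] at h00
      · rw [← map_pow, h2, map_one]
      · have := congrArg f ht
        simp only [map_mul, map_pow, map_one] at this
        exact this
    · exact ht
  obtain ⟨b₀, c₁, hb₀, hc₁, hg⟩ := hsh x₀ hx2
  have hne : ¬ (b₀ = 0 ∧ c₁ = 0) := by
    rintro ⟨rfl, rfl⟩
    refine hx1 (hφinj (hg.trans ?_))
    rw [map_one]
    ext i j
    fin_cases i <;> fin_cases j <;> simp [vmat]
  have hrot : ∀ b' c' : R, 2 * b' = 0 → 2 * c' = 0 →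
      w0 k * vmat b' c' * w0 k ^ 2 = vmat c' (b' + c') := by
    intro b' c' hb' hc'
    simp only [pow_two, vmat, w0, Matrix.mul_fin_two]
    ext i j
    fin_cases i <;> fin_cases j <;> simp <;>
      first
        | linear_combination (0 : R)
        | linear_combination hb'
        | linear_combination -hb'
        | linear_combination hc'
        | linear_combination -hc'
        | linear_combination hb' + hc'
        | linear_combination -hb' - hc'
        | linear_combination hc' - hb'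
        | linear_combination hb' - hc'
  have hall : ∀ b' c' : R, 2 * b' = 0 → 2 * c' = 0 → ∃ y, φ y = vmat b' c' := by
    set hh : R := ((2 ^ (k - 1) : ℕ) : R) with hhh
    have hh2 : 2 * hh = 0 := by
      rw [hhh, ← Nat.cast_ofNat (R := R) (n := 2), ← Nat.cast_mul, show 2 * 2 ^ (k - 1) = 2 ^ k by
        rw [← pow_succ']; congr 1; omega, ZMod.natCast_self]
    have hh' : hh + hh = 0 := by rw [← two_mul, hh2]
    have hz : (0 : R) + 0 = 0 := add_zero 0
    obtain ⟨y1, hy1⟩ : ∃ y, φ y = vmat c₁ (b₀ + c₁) :=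
      ⟨c₀ * x₀ * c₀ ^ 2, by rw [map_mul, map_mul, map_pow, hφc, hg, hrot _ _ hb₀ hc₁]⟩
    obtain ⟨y2, hy2⟩ : ∃ y, φ y = vmat (b₀ + c₁) b₀ := by
      refine ⟨c₀ * y1 * c₀ ^ 2, ?_⟩
      rw [map_mul, map_mul, map_pow, hφc, hy1, hrot _ _ hc₁ (by rw [mul_add, hb₀, hc₁, add_zero]),
        show c₁ + (b₀ + c₁) = b₀ by linear_combination hc₁]
    have h0 : φ 1 = vmat 0 0 := by
      rw [map_one]
      ext i j
      fin_cases i <;> fin_cases j <;> simp [vmat]
    intro b' c' hb' hc'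
    rcases half_cases hk hb₀ with rfl | rfl <;> rcases half_cases hk hc₁ with rfl | rfl <;>
      rcases half_cases hk hb' with rfl | rfl <;> rcases half_cases hk hc' with rfl | rfl <;>
      (try exact absurd ⟨rfl, rfl⟩ hne) <;> simp only [← hhh, zero_add, add_zero, hh'] at * <;>
      first
        | exact ⟨_, h0⟩
        | exact ⟨_, hg⟩
        | exact ⟨_, hy1⟩
        | exact ⟨_, hy2⟩
  constructor
  · intro hx
    have hx' : φ (e ⟨_, hx⟩) = x.1 := by
      show (Q⁻¹ * ((e.symm (e ⟨_, hx⟩) : ↥H) : GL (Fin 2) R) * Q).1 = _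
      rw [e.symm_apply_apply]
      congr 1
      show Q⁻¹ * (Q * x * Q⁻¹) * Q = x
      group
    obtain ⟨v, hv, hcase⟩ := alt_cover c₀ (e ⟨_, hx⟩) hc3 hc1
    obtain ⟨b', c', hb', hc', hvm⟩ := hsh v hv
    refine ⟨b', c', hb', hc', ?_⟩
    rw [← hx']
    rcases hcase with h | h | h <;> rw [h]
    · exact Or.inl hvm
    · exact Or.inr (Or.inl (by rw [map_mul, hvm, hφc]))
    · exact Or.inr (Or.inr (by rw [map_mul, map_pow, hvm, hφc]))
  · rintro ⟨b', c', hb', hc', hcase⟩
    obtain ⟨v, hv⟩ := hall b' c' hb' hc'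
    obtain ⟨y, hy⟩ : ∃ y, φ y = x.1 := by
      rcases hcase with h | h | h <;> rw [h]
      · exact ⟨v, hv⟩
      · exact ⟨v * c₀, by rw [map_mul, hv, hφc]⟩
      · exact ⟨v * c₀ ^ 2, by rw [map_mul, map_pow, hv, hφc]⟩
    have : Q * x * Q⁻¹ = (e.symm y : GL (Fin 2) R) := by
      rw [← Units.ext (show (Q⁻¹ * (e.symm y : GL (Fin 2) R) * Q).1 = x.1 from hy)]
      group
    rw [this]
    exact SetLike.coe_mem _

/-- For k ≥ 2, any two subgroups of GL₂(ℤ/2ᵏℤ) (the automorphism group of the homocyclic group ℤ/2ᵏ × ℤ/2ᵏ) that are isomorphic to the alternating group of degree 4 are conjugate. -/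
theorem result (k : ℕ) (hk : 2 ≤ k) (H₁ H₂ : Subgroup (GL (Fin 2) (ZMod (2 ^ k)))) (h₁ : Nonempty (↥H₁ ≃* ↥(alternatingGroup (Fin 4)))) (h₂ : Nonempty (↥H₂ ≃* ↥(alternatingGroup (Fin 4)))) : ∃ g : GL (Fin 2) (ZMod (2 ^ k)), H₂ = H₁.map (MulAut.conj g).toMonoidHom := by
  obtain ⟨e₁⟩ := h₁
  obtain ⟨e₂⟩ := h₂
  obtain ⟨P₁, hP₁⟩ := exists_normal_form hk H₁ e₁
  obtain ⟨P₂, hP₂⟩ := exists_normal_form hk H₂ e₂
  refine ⟨P₂⁻¹ * P₁, Subgroup.ext fun y => ?_⟩
  have h1 := (hP₂ (P₂ * y * P₂⁻¹)).trans (hP₁ (P₂ * y * P₂⁻¹)).symm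
  rw [show P₂⁻¹ * (P₂ * y * P₂⁻¹) * P₂ = y by group] at h1
  rw [h1, Subgroup.mem_map_equiv, MulAut.conj_symm_apply]
  exact iff_of_eq (congrArg (· ∈ H₁) (by group))

end Cfsg.Agent.S2874
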