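import Cfsg.Agent.Lib.PGroup.MetacyclicTwoAut
import Cfsg.Agent.Lib.Char.TransLinear.SL23
import Cfsg.Agent.Lib.Invol.GLTwoThree
import Cfsg.Agent.Lib.Invol.QuasiDihedralSubgroups
import Cfsg.Agent.Lib.Coprime.Component
import Cfsg.Statements.S2879
-- import your own Cfsg.Agent.* helpers here

set_option autoImplicit false
open Cfsg

namespace Cfsg.Agent.S2879

open Subgroup in
/-- A group with a cyclic subgroup of index two, and any subgroup of it, is metacyclic. -/
theorem metacyclic_subgroup {T : Type*} [Group T] [Finite T] (C : Subgroup T) [IsCyclic C]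
    (hC : C.index = 2) (R : Subgroup T) : Cfsg.IsMetacyclic R := by
  haveI : C.Normal := Subgroup.normal_of_index_eq_two hC
  haveI : Fact (Nat.Prime 2) := ⟨Nat.prime_two⟩
  haveI : IsCyclic (T ⧸ C) := isCyclic_of_prime_card (p := 2) (by rw [← index_eq_card, hC])
  refine ⟨C.subgroupOf R, inferInstance, ?_, ?_⟩
  · exact isCyclic_of_injective ((R.subtype.comp (C.subgroupOf R).subtype).codRestrict C fun x => x.2)
      fun a b h => Subtype.ext (Subtype.ext (congrArg (fun z : C => (z : T)) h))
  · exact isCyclic_of_injective (QuotientGroup.map (C.subgroupOf R) C R.subtype le_rfl) (by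
      intro x y hxy
      induction x using QuotientGroup.induction_on with | _ a =>
      induction y using QuotientGroup.induction_on with | _ b =>
      have hxy' : (QuotientGroup.mk (a : T) : T ⧸ C) = QuotientGroup.mk (b : T) := hxy
      exact QuotientGroup.eq.2 (by simpa [mem_subgroupOf] using QuotientGroup.eq.1 hxy'))

open Subgroup in
/-- Dihedral and quasidihedral groups have a cyclic subgroup of index two. -/
theorem exists_cyclic_index_two {T : Type*} [Group T] [Finite T]
    (hT : (∃ n : ℕ, 4 ≤ n ∧ Nonempty (T ≃* DihedralGroup n)) ∨ Cfsg.IsQuasiDihedral T) :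
    (∃ C : Subgroup T, IsCyclic C ∧ C.index = 2) ∧ ¬ Nonempty (T ≃* QuaternionGroup 2) := by
  rcases hT with ⟨n, hn, ⟨e⟩⟩ | ⟨n, hn, hcard, x, y, hx, -, -⟩
  · haveI : NeZero n := ⟨by omega⟩
    refine ⟨⟨zpowers (e.symm (DihedralGroup.r 1)), inferInstance, ?_⟩, fun ⟨q⟩ => ?_⟩
    · have h := (zpowers (e.symm (DihedralGroup.r 1))).card_mul_index
      rw [Nat.card_zpowers, MulEquiv.orderOf_eq, DihedralGroup.orderOf_r_one,
        Nat.card_congr e.toEquiv, DihedralGroup.nat_card, mul_comm 2 n] at h
      exact Nat.eq_of_mul_eq_mul_left (by omega) h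
    · obtain ⟨-, -, huniq⟩ := CfsgLib.Invol.quaternion_eight_facts q
      have h2 : ∀ i : ZMod n, e.symm (DihedralGroup.sr i) ^ 2 = 1 := fun i => by
        rw [← map_pow, pow_two, DihedralGroup.sr_mul_self, map_one]
      have h := huniq _ _ (h2 0) (h2 1)
        (fun h => by rw [MulEquiv.map_eq_one_iff, DihedralGroup.one_def] at h; cases h)
        (fun h => by rw [MulEquiv.map_eq_one_iff, DihedralGroup.one_def] at h; cases h)
      have h01 := DihedralGroup.sr.inj (e.symm.injective h)
      haveI : Fact (1 < n) := ⟨by omega⟩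
      exact zero_ne_one h01
  · refine ⟨⟨zpowers x, inferInstance, ?_⟩, fun ⟨q⟩ => ?_⟩
    · have h := (zpowers x).card_mul_index
      rw [Nat.card_zpowers, hx, hcard, pow_succ] at h
      exact Nat.eq_of_mul_eq_mul_left (by positivity) h
    · have h8 := (CfsgLib.Invol.quaternion_eight_facts q).1
      rw [hcard] at h8
      have h9 : 2 ^ 4 ≤ 2 ^ (n + 1) := Nat.pow_le_pow_right (by norm_num) (by omega)
      omega

/-- Let G be a finite solvable group with O(G) = 1 whose Sylow 2-subgroup T is dihedral of order at least 8 or semidihedral, with G ≠ T and Z(T) normal in G. Then G has a normal subgroup isomorphic to SL₂(3). -/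
theorem result {G : Type*} [Group G] [Finite G] (hsol : IsSolvable G) (hO : Cfsg.oddCore G = ⊥) (T : Sylow 2 G) (hT : (∃ n : ℕ, 4 ≤ n ∧ Nonempty (↥(T : Subgroup G) ≃* DihedralGroup n)) ∨ Cfsg.IsQuasiDihedral ↥(T : Subgroup G)) (hne : (T : Subgroup G) ≠ ⊤) (hZ : ((T : Subgroup G) ⊓ Subgroup.centralizer ((T : Subgroup G) : Set G)).Normal) : ∃ U : Subgroup G, U.Normal ∧ Nonempty (↥U ≃* Matrix.SpecialLinearGroup (Fin 2) (ZMod 3)) := by
  classical
  haveI : Fact (Nat.Prime 2) := ⟨Nat.prime_two⟩
  obtain ⟨⟨C₀, hC₀c, hC₀i⟩, hTQ⟩ := exists_cyclic_index_two hT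
  haveI := hC₀c
  set R := Cfsg.pCore 2 G with hR
  haveI hRn : R.Normal := CfsgLib.Coprime.pCore_normal' 2
  have hRp : IsPGroup 2 R := CfsgLib.Coprime.pCore_isPGroup 2
  have hF : Cfsg.fittingSubgroup G ≤ R := by
    rw [CfsgLib.Coprime.fitting_eq_iSup_pCore]
    refine iSup_le fun q => ?_
    by_cases hq : (q : ℕ) = 2
    · rw [hq]
    haveI : Fact (q : ℕ).Prime := ⟨q.2⟩
    haveI := CfsgLib.Coprime.pCore_normal' (G := G) (q : ℕ)
    obtain ⟨k, hk⟩ := (CfsgLib.Coprime.pCore_isPGroup (G := G) (q : ℕ)).exists_card_eq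
    refine le_trans ?_ (hO.le.trans bot_le)
    refine CfsgLib.Coprime.le_pPrimeCore ?_
    rw [hk]
    exact Nat.Coprime.pow_left k ((Nat.coprime_primes q.2 Nat.prime_two).2 hq)
  haveI : Group.IsSolvable G := hsol
  have hCR : Subgroup.centralizer (R : Set G) ≤ R :=
    ((Subgroup.centralizer_le (show (Cfsg.fittingSubgroup G : Set G) ⊆ R from hF)).trans
      CfsgLib.Coprime.centralizer_fitting_le).trans hF
  have hRT : R ≤ (T : Subgroup G) := hRp.le_sylow_of_normal T
  have hnotp : ¬ IsPGroup 2 G := fun h => hne (T.3 (h.to_subgroup ⊤) le_top).symm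
  let act : G →* MulAut R := MulAut.conjNormal
  have hact : ∀ g (r : R), (act g r : G) = g * r * g⁻¹ := fun g r => rfl
  have hker : act.ker ≤ R := fun g hg => hCR (Subgroup.mem_centralizer_iff.2 fun r hr => by
    have h := hact g ⟨r, hr⟩
    rw [MonoidHom.mem_ker.1 hg] at h
    exact (mul_inv_eq_iff_eq_mul.1 h.symm).symm)
  have hAut : ¬ IsPGroup 2 (MulAut R) := fun h => hnotp fun g => by
    obtain ⟨k, hk⟩ := h (act g)
    obtain ⟨l, hl⟩ := hRp ⟨g ^ 2 ^ k, hker (MonoidHom.mem_ker.2 (by rw [map_pow, hk]))⟩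
    exact ⟨k + l, by rw [pow_add, pow_mul]; exact congrArg Subtype.val hl⟩
  have hmeta : Cfsg.IsMetacyclic (R.subgroupOf (T : Subgroup G)) :=
    metacyclic_subgroup C₀ hC₀i _
  let eR : R ≃* R.subgroupOf (T : Subgroup G) := (Subgroup.subgroupOfEquivOfLe hRT).symm
  have hAut' : ¬ IsPGroup 2 (MulAut (R.subgroupOf (T : Subgroup G))) := fun h =>
    hAut (h.of_equiv (MulAut.congr eR).symm)
  rcases CfsgLib.PGroup.MetaTwo.homocyclic_or_quaternion (hRp.of_equiv eR) hmeta hAut' with
    he₀ | ⟨n, hn, ⟨e₀⟩⟩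
  swap
  · exfalso
    set e := eR.trans e₀
    have hcardR : Nat.card R = 2 ^ n * 2 ^ n := by
      rw [Nat.card_congr e.toEquiv, Nat.card_prod, Nat.card_congr Multiplicative.toAdd, Nat.card_zmod]
    have hexp : ∀ r : R, r ^ 2 ^ n = 1 := fun r => e.injective (by
      rw [map_pow, map_one]
      exact Prod.ext (Multiplicative.toAdd.injective (by simp [toAdd_pow, nsmul_eq_mul]))
        (Multiplicative.toAdd.injective (by simp [toAdd_pow, nsmul_eq_mul])))
    by_cases hn2 : 2 ≤ n
    · -- the cyclic part is too large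
      set D := C₀.subgroupOf ⊤
      have hrel : C₀.relIndex (R.subgroupOf (T : Subgroup G)) ∣ 2 := by
        haveI : C₀.Normal := Subgroup.normal_of_index_eq_two hC₀i
        exact (Subgroup.relIndex_dvd_index_of_normal C₀ _).trans (dvd_of_eq hC₀i)
      haveI : IsCyclic ↥(C₀ ⊓ R.subgroupOf (T : Subgroup G)) :=
        isCyclic_of_injective (Subgroup.inclusion inf_le_left) (Subgroup.inclusion_injective _)
      obtain ⟨c, hc⟩ := IsCyclic.exists_generator (α := ↥(C₀ ⊓ R.subgroupOf (T : Subgroup G)))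
      have h1 : Nat.card ↥(C₀ ⊓ R.subgroupOf (T : Subgroup G)) ∣ 2 ^ n := by
        rw [← orderOf_eq_card_of_forall_mem_zpowers hc]
        refine orderOf_dvd_of_pow_eq_one (Subtype.ext (Subtype.ext ?_))
        have h := congrArg Subtype.val (hexp ⟨_, Subgroup.mem_subgroupOf.1 c.2.2⟩)
        simpa using h
      have h2 := Subgroup.card_mul_index ((C₀ ⊓ R.subgroupOf (T : Subgroup G)).subgroupOf
        (R.subgroupOf (T : Subgroup G)))
      rw [Nat.card_congr (Subgroup.subgroupOfEquivOfLe inf_le_right).toEquiv,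
        Nat.card_congr (Subgroup.subgroupOfEquivOfLe hRT).toEquiv, hcardR,
        show ((C₀ ⊓ R.subgroupOf (T : Subgroup G)).subgroupOf (R.subgroupOf (T : Subgroup G))).index =
          C₀.relIndex (R.subgroupOf (T : Subgroup G)) from Subgroup.inf_relIndex_right _ _] at h2
      have h3 : 2 ^ n * 2 ^ n ≤ 2 ^ n * 2 := h2.symm.le.trans (Nat.mul_le_mul
        (Nat.le_of_dvd (by positivity) h1) (Nat.le_of_dvd two_pos hrel))
      have h4 : 2 ^ 2 ≤ 2 ^ n := Nat.pow_le_pow_right (by norm_num) hn2
      have h5 := Nat.le_of_mul_le_mul_left h3 (by positivity)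
      omega
    obtain rfl : n = 1 := by omega
    obtain ⟨z, hz, hz1⟩ : ∃ z ∈ (T : Subgroup G) ⊓ Subgroup.centralizer ((T : Subgroup G) : Set G), z ≠ 1 := by
      haveI : Nontrivial (T : Subgroup G) := by
        rw [Subgroup.nontrivial_iff_ne_bot]
        intro h
        have : R = ⊥ := le_bot_iff.1 (hRT.trans h.le)
        rw [this, Subgroup.card_bot] at hcardR
        norm_num at hcardR
      haveI := T.2.center_nontrivial
      obtain ⟨⟨w, hw⟩, hw1⟩ := exists_ne (1 : Subgroup.center (T : Subgroup G))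
      exact ⟨w, Subgroup.mem_inf.2 ⟨w.2, Subgroup.mem_centralizer_iff.2 fun t ht =>
        congrArg Subtype.val (Subgroup.mem_center_iff.1 hw ⟨t, ht⟩)⟩,
        fun h => hw1 (Subtype.ext (Subtype.ext h))⟩
    set Z := (T : Subgroup G) ⊓ Subgroup.centralizer ((T : Subgroup G) : Set G)
    haveI := hZ
    have hZR : Z ≤ R := CfsgLib.Coprime.le_pCore (T.2.to_le inf_le_left)
    have hzR : z ∈ R := hZR hz
    have hsq : ∀ r : R, r * r = 1 := fun r => by rw [← pow_two]; exact hexp r
    have hz' : (⟨z, hzR⟩ : R) ≠ 1 := fun h => hz1 (congrArg Subtype.val h)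
    -- the centre of `T` is the single involution `z` modulo conjugation
    have hzfix : ∀ g : G, act g ⟨z, hzR⟩ = ⟨z, hzR⟩ := by
      intro g
      by_contra hne'
      have hw : g * z * g⁻¹ ∈ Z := hZ.conj_mem z hz g
      have hZR' : Z = R := by
        refine Subgroup.eq_of_le_of_card_ge hZR ?_
        rw [hcardR]
        have h3 : ({1, ⟨z, hz⟩, ⟨g * z * g⁻¹, hw⟩} : Finset Z).card = 3 := by
          refine Finset.card_eq_three.2 ⟨_, _, _, ?_, ?_, ?_, rfl⟩
          · exact fun h => hz1 (congrArg Subtype.val h).symm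
          · exact fun h => hz1 (by simpa using (congrArg Subtype.val h).symm)
          · exact fun h => hne' (Subtype.ext ((hact g _).trans (congrArg Subtype.val h).symm))
        haveI := Fintype.ofFinite Z
        have h4 : 3 ≤ Nat.card Z := by
          rw [Nat.card_eq_fintype_card, ← h3]; exact Finset.card_le_univ _
        have h5 : Nat.card Z ∣ 4 := by
          have := Subgroup.card_dvd_of_le hZR
          rwa [hcardR] at this
        rcases (Nat.dvd_prime_pow Nat.prime_two (i := Nat.card Z) (m := 2)).1 h5 with ⟨i, hi, hi'⟩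
        interval_cases i <;> omega
      have hTC : (T : Subgroup G) ≤ Subgroup.centralizer (R : Set G) := by
        rw [← hZR', Subgroup.le_centralizer_iff]; exact inf_le_right
      have hTR : (T : Subgroup G) = R := le_antisymm (hTC.trans hCR) hRT
      have h4' : Nat.card (T : Subgroup G) = 4 := by rw [hTR, hcardR]; norm_num
      rcases hT with ⟨m, hm, ⟨q⟩⟩ | ⟨m, hm, hcard, -⟩
      · rw [Nat.card_congr q.toEquiv, DihedralGroup.nat_card] at h4'
        omega
      · rw [hcard] at h4'
        have : 2 ^ 4 ≤ 2 ^ (m + 1) := Nat.pow_le_pow_right (by norm_num) (by omega)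
        omega
    refine hnotp fun g => ?_
    have hg2 : act (g * g) = 1 := by
      refine MulEquiv.ext fun r => ?_
      rw [map_mul]
      show act g (act g r) = r
      set Z' : R := ⟨z, hzR⟩
      by_cases hr : act g r = r
      · rw [hr, hr]
      have hr1 : r ≠ 1 := fun h => hr (by rw [h, map_one])
      have hrz : r ≠ Z' := fun h => hr (by rw [h, hzfix])
      -- `R` has only four elements
      haveI := Fintype.ofFinite R
      have hfour : ({1, Z', r, Z' * r} : Finset R).card = 4 := by
        rw [Finset.card_insert_of_notMem, Finset.card_insert_of_notMem, Finset.card_insert_of_notMem,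
          Finset.card_singleton]
        · simp only [Finset.mem_singleton]
          exact fun h => hz' (mul_eq_right.1 h.symm)
        · simp only [Finset.mem_insert, Finset.mem_singleton, not_or]
          exact ⟨Ne.symm hrz, fun h => hr1 (mul_eq_left.1 h.symm)⟩
        · simp only [Finset.mem_insert, Finset.mem_singleton, not_or]
          exact ⟨Ne.symm hz', Ne.symm hr1, fun h => hrz (by
            rw [← inv_eq_of_mul_eq_one_right h.symm]
            exact inv_eq_of_mul_eq_one_right (hsq Z'))⟩
      have hall := Finset.eq_univ_of_card _ (hfour.trans (by rw [← Nat.card_eq_fintype_card, hcardR]; norm_num))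
      have hmem := hall.ge (Finset.mem_univ (act g r))
      simp only [Finset.mem_insert, Finset.mem_singleton] at hmem
      rcases hmem with h | h | h | h
      · exact absurd ((MulEquiv.map_eq_one_iff (act g)).1 h) hr1
      · exact absurd ((act g).injective (h.trans (hzfix g).symm)) hrz
      · exact absurd h hr
      · rw [h, map_mul, hzfix, h, ← mul_assoc, hsq, one_mul]
    obtain ⟨k, hk⟩ := hRp ⟨g * g, hker (MonoidHom.mem_ker.2 hg2)⟩
    exact ⟨1 + k, by rw [pow_add, pow_mul, pow_one, pow_two]; exact congrArg Subtype.val hk⟩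
  -- the quaternion case
  obtain ⟨e₀⟩ := he₀
  set e := eR.trans e₀
  obtain ⟨hR8, -, huniq⟩ := CfsgLib.Invol.quaternion_eight_facts e
  haveI : Finite (MulAut (QuaternionGroup 2)) :=
    Finite.of_injective (fun a : MulAut (QuaternionGroup 2) => (a : QuaternionGroup 2 → QuaternionGroup 2))
      DFunLike.coe_injective
  have hA24 : Nat.card (MulAut R) ≤ 24 := by
    rw [Nat.card_congr (MulAut.congr e).toEquiv]; exact CfsgLib.GLTwoThree.card_mulAut_le
  haveI : Finite (MulAut R) := Finite.of_equiv _ (MulAut.congr e).toEquiv.symm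
  have hcent : Nat.card act.ker ≤ 2 := by
    refine le_of_eq_of_le (Nat.card_congr (Subgroup.subgroupOfEquivOfLe hker).toEquiv).symm ?_
    have hle : act.ker.subgroupOf R ≤ Subgroup.center R := fun x hx => by
      rw [Subgroup.mem_center_iff]
      intro y
      refine Subtype.ext ?_
      have h := hact x y
      rw [MonoidHom.mem_ker.1 (Subgroup.mem_subgroupOf.1 hx)] at h
      exact mul_inv_eq_iff_eq_mul.1 h.symm |>.symm
    refine (Subgroup.card_le_of_le hle).trans ?_
    rw [Nat.card_congr (Subgroup.centerCongr e).toEquiv]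
    have : ∀ x : QuaternionGroup 2, (∀ y, y * x = x * y) → x = 1 ∨ x = QuaternionGroup.a 2 := by decide
    refine le_trans (Nat.card_le_card_of_injective
      (fun x : Subgroup.center (QuaternionGroup 2) => decide ((x : QuaternionGroup 2) = 1)) ?_)
      (by rw [Nat.card_eq_fintype_card, Fintype.card_bool])
    intro x y hxy
    have hxy' := (decide_eq_decide.1 hxy)
    rcases this x (Subgroup.mem_center_iff.1 x.2) with h | h <;>
      rcases this y (Subgroup.mem_center_iff.1 y.2) with h' | h'
    · exact Subtype.ext (h.trans h'.symm)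
    · exact Subtype.ext (h.trans (hxy'.1 h).symm)
    · exact Subtype.ext ((hxy'.2 h').trans h'.symm)
    · exact Subtype.ext (h.trans h'.symm)
  have hG48 : Nat.card G ≤ 48 := by
    rw [← Subgroup.card_mul_index act.ker, Subgroup.index_ker]
    exact (Nat.mul_le_mul hcent ((Nat.le_of_dvd Nat.card_pos (Subgroup.card_subgroup_dvd_card _)).trans hA24)).trans (by norm_num)
  have hRltT : R ≠ (T : Subgroup G) := fun h => hTQ ⟨(MulEquiv.subgroupCongr h).symm.trans e⟩
  -- the order is 48
  have hG : Nat.card G = 48 := by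
    have h1 := R.card_mul_index
    rw [hR8] at h1
    have h2 : 2 ∣ R.index := by
      rw [← Subgroup.relIndex_mul_index hRT]
      obtain ⟨k, hk⟩ := IsPGroup.iff_card.1 T.2
      have hd := Subgroup.relIndex_dvd_card R (T : Subgroup G)
      rw [hk] at hd
      obtain ⟨i, -, hi⟩ := (Nat.dvd_prime_pow Nat.prime_two).1 hd
      rcases i with _ | i
      · exact absurd (le_antisymm hRT (Subgroup.relIndex_eq_one.1 (hi.trans (pow_zero 2)))) hRltT
      · exact (hi ▸ dvd_pow_self 2 (Nat.succ_ne_zero i)).mul_right _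
    have h3 : ∀ k : ℕ, R.index ≠ 2 ^ k := fun k hk => hnotp
      (IsPGroup.of_card (n := 3 + k) (by rw [← h1, hk, pow_add]; norm_num))
    have h6 : R.index ≤ 6 := by omega
    have h0 : R.index ≠ 0 := Subgroup.index_ne_zero_of_finite
    have h32 := h3 1
    have h34 := h3 2
    obtain ⟨j, hj⟩ := h2
    have : R.index = 6 := by omega
    omega
  haveI : Fact (Nat.Prime 3) := ⟨Nat.prime_three⟩
  obtain ⟨t, ht⟩ := exists_prime_orderOf_dvd_card' (G := G) 3 (by rw [hG]; norm_num)
  set U := R ⊔ Subgroup.zpowers t with hU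
  have hdis : R ⊓ Subgroup.zpowers t = ⊥ := by
    refine Subgroup.inf_eq_bot_of_coprime ?_
    rw [hR8, Nat.card_zpowers, ht]
    decide
  have hU24 : Nat.card U = 24 := by
    have h := Subgroup.relIndex_sup_left (H := Subgroup.zpowers t) (K := R)
    rw [← hU] at h
    have h2 : R.relIndex (Subgroup.zpowers t) = 3 := by
      rw [← Subgroup.inf_relIndex_right, hdis, Subgroup.relIndex_bot_left, Nat.card_zpowers, ht]
    have h3 := Subgroup.card_mul_index (R.subgroupOf U)
    rw [Nat.card_congr (Subgroup.subgroupOfEquivOfLe le_sup_left).toEquiv, hR8,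
      show (R.subgroupOf U).index = R.relIndex U from rfl, h, h2] at h3
    omega
  have hUn : U.Normal := Subgroup.normal_of_index_eq_two (by
    have := U.card_mul_index
    rw [hU24, hG] at this
    omega)
  refine ⟨U, hUn, CfsgLib.Char.mulEquiv_SL23_of_order_24 hU24 ?_ (R.subgroupOf U) ?_ ?_
    (t := ⟨t, Subgroup.mem_sup_right (Subgroup.mem_zpowers t)⟩) (by rwa [Subgroup.orderOf_mk]) ?_⟩
  · intro x y hx hy
    have hin : ∀ x : U, orderOf x = 2 → (x : G) ∈ R := fun x hx => by
      have hi : (R.subgroupOf U).index = 3 := by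
        have h3 := Subgroup.card_mul_index (R.subgroupOf U)
        rw [Nat.card_congr (Subgroup.subgroupOfEquivOfLe le_sup_left).toEquiv, hR8, hU24] at h3
        omega
      have h2 : orderOf (QuotientGroup.mk' (R.subgroupOf U) x) ∣ 2 :=
        (orderOf_map_dvd _ x).trans (dvd_of_eq hx)
      have h3 : orderOf (QuotientGroup.mk' (R.subgroupOf U) x) ∣ 3 := by
        rw [← hi, Subgroup.index_eq_card]; exact orderOf_dvd_natCard _
      exact Subgroup.mem_subgroupOf.1 ((QuotientGroup.eq_one_iff x).1
        (orderOf_eq_one_iff.1 (Nat.eq_one_of_dvd_coprimes (by norm_num) h2 h3)))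
    have hp : ∀ x : U, orderOf x = 2 → ∀ h : (x : G) ∈ R, (⟨x, h⟩ : R) ^ 2 = 1 ∧ (⟨x, h⟩ : R) ≠ 1 := by
      intro x hx h
      have h1 : x ^ 2 = 1 := hx ▸ pow_orderOf_eq_one x
      refine ⟨Subtype.ext (by simpa using congrArg Subtype.val h1), fun h2 => ?_⟩
      rw [show x = 1 from Subtype.ext (congrArg Subtype.val h2 :), orderOf_one] at hx
      omega
    obtain ⟨h1, h2⟩ := hp x hx (hin x hx)
    obtain ⟨h3, h4⟩ := hp y hy (hin y hy)
    exact Subtype.ext (congrArg Subtype.val (huniq _ _ h1 h3 h2 h4) :)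
  · rw [Nat.card_congr (Subgroup.subgroupOfEquivOfLe le_sup_left).toEquiv, hR8]
  · obtain ⟨a, b, hab⟩ : ∃ a b : QuaternionGroup 2, a * b ≠ b * a :=
      ⟨QuaternionGroup.a 1, QuaternionGroup.xa 0, by decide⟩
    refine ⟨⟨_, Subgroup.mem_sup_left (e.symm a).2⟩, Subgroup.mem_subgroupOf.2 (e.symm a).2,
      ⟨_, Subgroup.mem_sup_left (e.symm b).2⟩, Subgroup.mem_subgroupOf.2 (e.symm b).2, fun h => hab ?_⟩
    refine e.symm.injective (Subtype.ext ?_)
    simpa using congrArg Subtype.val h
  · by_contra! h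
    have hc : t ∈ Subgroup.centralizer (R : Set G) := Subgroup.mem_centralizer_iff.2 fun r hr =>
      (congrArg Subtype.val (h ⟨r, Subgroup.mem_sup_left hr⟩ (Subgroup.mem_subgroupOf.2 hr))).symm
    have htb : t ∈ R ⊓ Subgroup.zpowers t := ⟨hCR hc, Subgroup.mem_zpowers t⟩
    rw [hdis, Subgroup.mem_bot] at htb
    rw [htb, orderOf_one] at ht
    omega

end Cfsg.Agent.S2879
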