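import Cfsg.Statements.S2880
import Cfsg.Agent.Lib.PGroup.ExtraspecialPairing
import Cfsg.Agent.Lib.PGroup.ExtraspecialIndexP

set_option autoImplicit false
open Cfsg

namespace Cfsg.Agent.S2880

open scoped commutatorElement

/-- Let E be an extraspecial 2-group of order 2^(2m+1) of plus type, that is, containing an elementary abelian subgroup of order 2^(m+1) (equivalently, a central product of m dihedral groups of order 8). Then E has exactly 2^(2m) − 2^m elements of order 4. -/
theorem result {E : Type*} [Group E] [Finite E] (m : ℕ) (hm : 1 ≤ m) (hE : Cfsg.IsExtraspecial 2 E) (hcard : Nat.card E = 2 ^ (2 * m + 1)) (hplus : ∃ A : Subgroup E, Cfsg.IsElementaryAbelian 2 A ∧ Nat.card A = 2 ^ (m + 1)) : Nat.card {x : E // orderOf x = 4} = 2 ^ (2 * m) - 2 ^ m := by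
  classical
  haveI : Fact (Nat.Prime 2) := ⟨Nat.prime_two⟩
  obtain ⟨hsc, -⟩ := CfsgLib.PGroup.smallCenter_of_extraspecial hE
  obtain ⟨A, ⟨hAab, hA2⟩, hAcard⟩ := hplus
  haveI := Fintype.ofFinite E
  -- `A` is self-centralising
  have hself : ∀ x : E, (∀ a ∈ A, x * a = a * x) → x ∈ A := by
    intro x hx
    let B := Subgroup.closure ((A : Set E) ∪ {x})
    have hB : IsMulCommutative ↥B := Subgroup.isMulCommutative_closure (by
      rintro a (ha | ha) b (hb | hb)
      · exact congrArg Subtype.val (hAab.is_comm.comm ⟨a, ha⟩ ⟨b, hb⟩)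
      · rw [Set.mem_singleton_iff] at hb
        exact hb ▸ (hx a ha).symm
      · rw [Set.mem_singleton_iff] at ha
        exact ha ▸ hx b hb
      · rw [Set.mem_singleton_iff] at ha hb
        rw [ha, hb])
    have hle := hsc.card_abelian_le B hB
    have hAB : A ≤ B := fun a ha => Subgroup.subset_closure (Or.inl ha)
    have h1 : Nat.card B ≤ Nat.card A := by
      rw [hcard] at hle
      rw [hAcard]
      refine Nat.le_of_not_lt fun hlt => ?_
      have : 2 ^ (m + 1) * 2 ^ (m + 1) < 2 * 2 ^ (2 * m + 1) :=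
        lt_of_lt_of_le (Nat.mul_lt_mul_of_lt_of_lt hlt hlt) hle
      rw [show 2 * m + 1 = m + 1 + m by ring, pow_add _ (m + 1) m, pow_succ] at this
      ring_nf at this
      omega
    rw [Subgroup.eq_of_le_of_card_ge hAB h1]
    exact Subgroup.subset_closure (Or.inr rfl)
  have hsq : ∀ x : E, x ^ 2 ∈ Subgroup.center E := fun x => hsc.pow_mem x
  have hfour : ∀ x : E, x ^ 4 = 1 := fun x => by
    by_cases h : x ^ 2 = 1
    · rw [show (4 : ℕ) = 2 * 2 from rfl, pow_mul, h, one_pow]
    · have h' := pow_orderOf_eq_one (x ^ 2)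
      rw [hsc.orderOf_eq (hsq x) h] at h'
      rw [show (4 : ℕ) = 2 * 2 from rfl, pow_mul]
      exact h'
  -- one element of `A` for each coset
  have hex : ∀ q : E ⧸ A, ∃ a : E, a ∈ A ∧
      ((q.out ∉ A) → q.out * a ≠ a * q.out) := by
    intro q
    by_cases h : q.out ∈ A
    · exact ⟨1, one_mem A, fun h' => absurd h h'⟩
    · by_contra hne
      push Not at hne
      exact h (hself _ fun a ha => (hne a ha).2)
  choose c hcA hc using hex
  let τ : E → E := fun x => x * c (QuotientGroup.mk x)
  have hmk : ∀ x : E, (QuotientGroup.mk (τ x) : E ⧸ A) = QuotientGroup.mk x := fun x => by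
    refine (QuotientGroup.eq.2 ?_).symm
    show x⁻¹ * (x * c _) ∈ A
    rw [inv_mul_cancel_left]
    exact hcA _
  have hττ : ∀ x, τ (τ x) = x := fun x => by
    show τ x * c (QuotientGroup.mk (τ x)) = x
    rw [hmk]
    show x * c _ * c _ = x
    rw [mul_assoc, ← pow_two, hA2 _ (hcA _), mul_one]
  have hτA : ∀ x, x ∉ A → τ x ∉ A := fun x hx h => hx (by
    have := mul_mem h (inv_mem (hcA (QuotientGroup.mk x)))
    rwa [mul_inv_cancel_right] at this)
  -- `τ` exchanges involutions and elements of order four outside `A`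
  have hflip : ∀ x, x ∉ A → (x ^ 2 = 1 ↔ (τ x) ^ 2 ≠ 1) := by
    intro x hx
    obtain ⟨a', ha'⟩ := QuotientGroup.mk_out_eq_mul A x
    set q : E ⧸ A := QuotientGroup.mk x
    set a := c q
    have hout : q.out ∉ A := fun h => hx (by
      rw [ha'] at h
      have := mul_mem h (inv_mem a'.2)
      rwa [mul_inv_cancel_right] at this)
    have hcom : x * a ≠ a * x := by
      intro h
      refine hc q hout ?_
      have e : (a' : E) * a = a * a' := congrArg Subtype.val (hAab.is_comm.comm a' ⟨a, hcA q⟩)
      show q.out * a = a * q.out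
      rw [ha', mul_assoc, e, ← mul_assoc, h, mul_assoc]
    have hz : (τ x) ^ 2 = x ^ 2 * ⁅x⁻¹, a⁆ := by
      have ha2 : a⁻¹ = a := inv_eq_of_mul_eq_one_left (by rw [← pow_two, hA2 _ (hcA q)])
      show (x * a) ^ 2 = x ^ 2 * ⁅x⁻¹, a⁆
      rw [commutatorElement_def, inv_inv, ha2, pow_two, pow_two]
      group
    have hzne : ⁅x⁻¹, a⁆ ≠ 1 := fun h => hcom (by
      have h' := (commutatorElement_eq_one_iff_mul_comm.1 h : x⁻¹ * a = a * x⁻¹)
      exact (Commute.inv_left_iff.1 (show Commute x⁻¹ a from h')).eq)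
    constructor
    · intro h
      rw [hz, h, one_mul]
      exact hzne
    · intro h
      by_contra hx2
      refine h ?_
      have h' := pow_orderOf_eq_one (x ^ 2)
      rw [hsc.orderOf_eq (hsq x) hx2] at h'
      rw [hz, CfsgLib.ESPairing.center_two hsc (hsc.comm_mem x⁻¹ a) (hsq x) hzne hx2, ← pow_two]
      exact h'
  -- count
  set U := Finset.univ.filter fun x : E => x ∉ A ∧ x ^ 2 = 1 with hU
  set V := Finset.univ.filter fun x : E => x ∉ A ∧ x ^ 2 ≠ 1 with hV
  have hUV : U.card = V.card := by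
    refine Finset.card_bij' (fun x _ => τ x) (fun x _ => τ x) ?_ ?_ (fun x _ => hττ x)
      (fun x _ => hττ x)
    · intro x hx
      simp only [hU, hV, Finset.mem_filter, Finset.mem_univ, true_and] at hx ⊢
      exact ⟨hτA x hx.1, (hflip x hx.1).1 hx.2⟩
    · intro x hx
      simp only [hU, hV, Finset.mem_filter, Finset.mem_univ, true_and] at hx ⊢
      refine ⟨hτA x hx.1, (hflip _ (hτA x hx.1)).2 ?_⟩
      rw [hττ]
      exact hx.2
  have hsum : U.card + V.card + Nat.card A = Nat.card E := by
    rw [hU, hV, Nat.card_eq_fintype_card (α := E), ← Finset.card_union_of_disjoint (by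
      rw [Finset.disjoint_filter]; intro x _ h1 h2; exact h2.2 h1.2)]
    rw [Nat.card_eq_fintype_card, Fintype.card_subtype, ← Finset.card_union_of_disjoint (by
      rw [Finset.disjoint_left]
      intro x h1 h2
      simp only [Finset.mem_union, Finset.mem_filter, Finset.mem_univ, true_and] at h1 h2
      rcases h1 with h1 | h1 <;> exact h1.1 h2), ← Finset.card_univ]
    congr 1
    ext x
    simp only [Finset.mem_union, Finset.mem_filter, Finset.mem_univ, true_and, iff_true]
    tauto
  have hfin : Nat.card {x : E // orderOf x = 4} = V.card := by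
    rw [Nat.card_eq_fintype_card, Fintype.card_subtype, hV]
    congr 1
    ext x
    simp only [Finset.mem_filter, Finset.mem_univ, true_and]
    constructor
    · intro h
      have h2 : x ^ 2 ≠ 1 := fun h2 => by
        have := Nat.le_of_dvd two_pos (orderOf_dvd_of_pow_eq_one h2)
        omega
      exact ⟨fun hxA => h2 (hA2 x hxA), h2⟩
    · intro h
      exact orderOf_eq_prime_pow (p := 2) (n := 1) (by simpa using h.2) (by simpa using hfour x)
  rw [hfin]
  rw [hcard, hAcard, ← hUV] at hsum
  rw [← hUV]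
  have e1 : 2 ^ (2 * m + 1) = 2 * 2 ^ (2 * m) := by ring
  have e2 : 2 ^ (m + 1) = 2 * 2 ^ m := by ring
  omega

end Cfsg.Agent.S2880
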