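import Cfsg.Statements.S2881
import Cfsg.Agent.S2880

set_option autoImplicit false
open Cfsg

namespace Cfsg.Agent.S2881

/-- Let E be an extraspecial 2-group of order 2^(2m+1) of plus type (containing an elementary abelian subgroup of order 2^(m+1)), and let ω be an automorphism of E of order 5 whose fixed points are exactly the centre of E. Then m is divisible by 4. -/
theorem result {E : Type*} [Group E] [Finite E] (m : ℕ) (hm : 1 ≤ m) (hE : Cfsg.IsExtraspecial 2 E) (hcard : Nat.card E = 2 ^ (2 * m + 1)) (hplus : ∃ A : Subgroup E, Cfsg.IsElementaryAbelian 2 A ∧ Nat.card A = 2 ^ (m + 1)) (ω : E ≃* E) (hω : orderOf ω = 5) (hfix : ∀ x : E, ω x = x ↔ x ∈ Subgroup.center E) : 4 ∣ m := by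
  classical
  haveI : Fact (Nat.Prime 5) := ⟨by norm_num⟩
  have hcount := Cfsg.Agent.S2880.result m hm hE hcard hplus
  let σ : Equiv.Perm {x : E // orderOf x = 4} :=
    ω.toEquiv.subtypeEquiv fun x => by
      show orderOf x = 4 ↔ orderOf (ω x) = 4
      rw [MulEquiv.orderOf_eq]
  have hσv : ∀ (n : ℕ) (x : {x : E // orderOf x = 4}),
      ((σ ^ n) x : E) = (ω ^ n : E ≃* E) (x : E) := by
    intro n
    induction n with
    | zero => intro x; rfl
    | succ n ih =>
      intro x
      rw [pow_succ', pow_succ', Equiv.Perm.mul_apply]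
      show ω ((σ ^ n) x : E) = (ω * ω ^ n : E ≃* E) (x : E)
      rw [ih]
      rfl
  have hpow : σ ^ 5 ^ 1 = 1 := by
    refine Equiv.ext fun x => Subtype.ext ?_
    rw [hσv, pow_one, ← hω, pow_orderOf_eq_one]
    rfl
  haveI := Fintype.ofFinite {x : E // orderOf x = 4}
  have hmod := Equiv.Perm.card_fixedPoints_modEq (α := {x : E // orderOf x = 4}) (f := (⇑σ : Function.End {x : E // orderOf x = 4})) (p := 5) (n := 1) (by
    have h := congrArg (DFunLike.coe : Equiv.Perm {x : E // orderOf x = 4} → _) hpow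
    rw [Equiv.Perm.coe_pow] at h
    exact h)
  have hno : Fintype.card (Function.fixedPoints σ) = 0 := by
    rw [Fintype.card_eq_zero_iff]
    refine ⟨fun x => ?_⟩
    have hx : ω ((x : {x : E // orderOf x = 4}) : E) = ((x : {x : E // orderOf x = 4}) : E) :=
      congrArg Subtype.val x.2
    have hc := (hfix _).1 hx
    obtain ⟨hsc, -⟩ := CfsgLib.PGroup.smallCenter_of_extraspecial (p := 2) hE
    have h4 : orderOf ((x : {x : E // orderOf x = 4}) : E) = 4 := x.1.2
    have h2 := hsc.orderOf_eq hc (fun h => by rw [h, orderOf_one] at h4; omega)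
    omega
  rw [hno] at hmod
  have h5 : 5 ∣ 2 ^ (2 * m) - 2 ^ m := by
    rw [← hcount, Nat.card_eq_fintype_card]
    exact (Nat.modEq_zero_iff_dvd).1 hmod
  have h5' : 5 ∣ 2 ^ m * (2 ^ m - 1) := by
    rwa [Nat.mul_sub, ← pow_add, mul_one, ← two_mul]
  have h6 : 5 ∣ 2 ^ m - 1 :=
    (Nat.Coprime.pow_right m (by norm_num : Nat.Coprime 5 2)).dvd_of_dvd_mul_left h5'
  have h7 : (2 : ℕ) ^ m % 5 = 2 ^ (m % 4) % 5 := by
    conv_lhs => rw [← Nat.div_add_mod m 4, pow_add, pow_mul, Nat.mul_mod, Nat.pow_mod]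
    norm_num
  have h8 : 1 ≤ 2 ^ m := Nat.one_le_two_pow
  have h9 : (2 : ℕ) ^ m % 5 = 1 := by omega
  have h10 : m % 4 < 4 := Nat.mod_lt _ (by norm_num)
  refine Nat.dvd_of_mod_eq_zero ?_
  interval_cases hr : m % 4 <;> omega

end Cfsg.Agent.S2881
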