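import Cfsg.Statements.S2896
import Cfsg.Agent.Lib.PGroup.CharPLocal

set_option autoImplicit false
open Cfsg

namespace Cfsg.Agent.S2896

/-- Let p be a prime dividing the order of the finite group G, S a Sylow p-subgroup of G and X a subgroup of S. (i) If some nontrivial element z of the centre of X has F*(C_G(z)) = O_p(C_G(z)), then F*(N_G(X)) = O_p(N_G(X)). (ii) G has parabolic characteristic p if and only if F*(C_G(z)) = O_p(C_G(z)) for every nontrivial z ∈ Ω₁(Z(S)). (iii) If F*(C_G(z)) = O_p(C_G(z)) for every element z of S of order p, then G has local characteristic p. -/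
theorem result {G : Type*} [Group G] [Finite G] {p : ℕ} [Fact p.Prime] (hdiv : p ∣ Nat.card G) (S : Sylow p G) (X : Subgroup G) (hX : X ≤ (S : Subgroup G)) : (∀ z : G, z ≠ 1 → z ∈ X → (∀ x ∈ X, x * z = z * x) → Cfsg.generalizedFittingSubgroup ↥(Subgroup.centralizer ({z} : Set G)) = Cfsg.pCore p ↥(Subgroup.centralizer ({z} : Set G)) → Cfsg.generalizedFittingSubgroup ↥(Subgroup.normalizer (X : Set G)) = Cfsg.pCore p ↥(Subgroup.normalizer (X : Set G))) ∧ (Cfsg.IsOfParabolicCharacteristic p G ↔ ∀ z : G, z ≠ 1 → z ∈ Cfsg.omegaOne p ((S : Subgroup G) ⊓ Subgroup.centralizer ((S : Subgroup G) : Set G)) → Cfsg.generalizedFittingSubgroup ↥(Subgroup.centralizer ({z} : Set G)) = Cfsg.pCore p ↥(Subgroup.centralizer ({z} : Set G))) ∧ ((∀ z : G, z ∈ (S : Subgroup G) → orderOf z = p → Cfsg.generalizedFittingSubgroup ↥(Subgroup.centralizer ({z} : Set G)) = Cfsg.pCore p ↥(Subgroup.centralizer ({z} : Set G))) → Cfsg.IsOfLocalCharacteristic p G) := by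
  classical
  have hpp : p.Prime := Fact.out
  simp only [CfsgLib.CharPLoc.fStar_eq_pCore_iff]
  have hXp : IsPGroup p X := S.2.to_le hX
  have hconjS : ∀ Q : Sylow p G, ∃ k : G, ∀ w, w ∈ (Q : Subgroup G) ↔ k * w * k⁻¹ ∈ (S : Subgroup G) := fun Q => by
    obtain ⟨k, hk⟩ := MulAction.exists_smul_eq G Q S
    refine ⟨k, fun w => ⟨fun hw => by rw [← hk]; exact CfsgLib.Fusion.conj_mem_conjBy (g := k) hw, fun hw => ?_⟩⟩
    rw [← hk] at hw
    have hw' : k * w * k⁻¹ ∈ CfsgLib.Fusion.conjBy k (Q : Subgroup G) := hw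
    simpa [mul_assoc] using CfsgLib.Fusion.mem_conjBy.1 hw'
  have hback : ∀ k z : G, CfsgLib.Invol.PClean p ↥(Subgroup.centralizer ({k * z * k⁻¹} : Set G)) → CfsgLib.Invol.PClean p ↥(Subgroup.centralizer ({z} : Set G)) := fun k z h => by
    have := CfsgLib.CharPLoc.pClean_centralizer_conj k⁻¹ h
    rwa [show k⁻¹ * (k * z * k⁻¹) * k⁻¹⁻¹ = z by group] at this
  refine ⟨fun z _ hz _ h => CfsgLib.CharPLoc.pClean_normalizer_of_central hXp hz h, ⟨fun hpar z hz1 hz => ?_, fun h R hR hR1 hpar => ?_⟩, fun h => ⟨hdiv, fun R hR hR1 => ?_⟩⟩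
  · have hz' : z ∈ (S : Subgroup G) ⊓ Subgroup.centralizer ((S : Subgroup G) : Set G) :=
      (Subgroup.closure_le _).2 (fun w hw => hw.1) hz
    have hzp : IsPGroup p (Subgroup.zpowers z) := S.2.to_le (Subgroup.zpowers_le.2 hz'.1)
    have hSN : (S : Subgroup G) ≤ Subgroup.normalizer ((Subgroup.zpowers z : Subgroup G) : Set G) := by
      refine le_trans ?_ (Subgroup.centralizer_le_normalizer _)
      rw [← CfsgLib.CharPLoc.centralizer_singleton_eq]
      exact fun s hs => Subgroup.mem_centralizer_singleton_iff.2 (Subgroup.mem_centralizer_iff.1 hz'.2 s hs)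
    have h1 := CfsgLib.Invol.pClean_of_centralizer_le (hpar _ hzp (fun e => hz1 (Subgroup.zpowers_eq_bot.1 e)) ⟨S, hSN⟩)
    exact CfsgLib.Invol.pClean_subgroup_congr (CfsgLib.CharPLoc.centralizer_singleton_eq z).symm ((CfsgLib.CharPLoc.pClean_normalizer_iff hzp).1 h1)
  · obtain ⟨T, hT⟩ := hpar
    have hRT : R ≤ (T : Subgroup G) := le_sup_left.trans_eq (T.3 (hR.to_sup_of_normal_left' T.2 hT) le_sup_right)
    obtain ⟨z, hzR, hzo, hzc⟩ := CfsgLib.CharPLoc.exists_central_order T.2 hRT hT hR1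
    obtain ⟨k, hk⟩ := hconjS T
    refine (CfsgLib.CharPLoc.pClean_normalizer_of_central hR hzR (hback k z (h _ ?_ ?_))).centralizer_le
    · intro e
      rw [conj_eq_one_iff] at e
      rw [e, orderOf_one] at hzo
      exact hpp.ne_one hzo.symm
    · refine Subgroup.subset_closure ⟨⟨(hk z).1 (hRT hzR), Subgroup.mem_centralizer_iff.2 fun s hs => ?_⟩, by rw [conj_pow, ← hzo, pow_orderOf_eq_one, mul_one, mul_inv_cancel]⟩
      have h1 : k⁻¹ * s * k ∈ (T : Subgroup G) := (hk _).2 (by rw [show k * (k⁻¹ * s * k) * k⁻¹ = s by group]; exact hs)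
      calc s * (k * z * k⁻¹) = k * ((k⁻¹ * s * k) * z) * k⁻¹ := by group
        _ = k * (z * (k⁻¹ * s * k)) * k⁻¹ := by rw [hzc _ h1]
        _ = k * z * k⁻¹ * s := by group
  · obtain ⟨z, hzR, hzo, hzc⟩ := CfsgLib.CharPLoc.exists_central_order hR le_rfl Subgroup.le_normalizer hR1
    obtain ⟨T, hT⟩ := hR.exists_le_sylow
    obtain ⟨k, hk⟩ := hconjS T
    exact (CfsgLib.CharPLoc.pClean_normalizer_of_central hR hzR (hback k z (h _ ((hk z).1 (hT hzR)) (by
      rw [show k * z * k⁻¹ = MulAut.conj k z from rfl, MulEquiv.orderOf_eq, hzo])))).centralizer_le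

end Cfsg.Agent.S2896
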