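import Cfsg.Statements.S2898
import Cfsg.Agent.Lib.PGroup.CharPLocal
import Cfsg.Agent.Lib.Coprime.Core

set_option autoImplicit false
open Cfsg

namespace Cfsg.Agent.S2898

/-- Let G be a finite group of even order with parabolic characteristic 2. If the centre of G ⧸ O(G) is trivial, then O(G) = 1. -/
theorem result {G : Type*} [Group G] [Finite G] (h2 : 2 ∣ Nat.card G) (hG : Cfsg.IsOfParabolicCharacteristic 2 G) [hN : (Cfsg.oddCore G).Normal] (hZ : Subgroup.center (G ⧸ Cfsg.oddCore G) = ⊥) : Cfsg.oddCore G = ⊥ := by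
  classical
  by_contra hO1
  set O := Cfsg.oddCore G with hO
  have hOdd : ¬ 2 ∣ Nat.card O := by
    rw [hO, Cfsg.oddCore]
    exact CfsgLib.Coprime.pPrimeCore_not_dvd (G := G) Nat.prime_two
  obtain ⟨S⟩ : Nonempty (Sylow 2 G) := inferInstance
  have hSne : (S : Subgroup G) ≠ ⊥ := S.ne_bot_of_dvd_card h2
  have hn : ∀ o ∈ O, ∀ g : G, g * o * g⁻¹ ∈ O := fun o ho g => hN.conj_mem o ho g
  -- a central involution of `S` acts freely on `O`
  have hfree : ∀ z ∈ (S : Subgroup G), orderOf z = 2 → (∀ s ∈ (S : Subgroup G), s * z = z * s) → ∀ o ∈ O, o * z = z * o → o = 1 := by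
    intro z hz hzo hzc o ho hoz
    have hzp : IsPGroup 2 (Subgroup.zpowers z) := S.2.to_le (Subgroup.zpowers_le.2 hz)
    have hSN : (S : Subgroup G) ≤ Subgroup.normalizer ((Subgroup.zpowers z : Subgroup G) : Set G) := by
      refine le_trans ?_ (Subgroup.centralizer_le_normalizer _)
      rw [← CfsgLib.CharPLoc.centralizer_singleton_eq]
      exact fun s hs => Subgroup.mem_centralizer_singleton_iff.2 (hzc s hs)
    have hz1 : Subgroup.zpowers z ≠ ⊥ := fun e => by
      rw [Subgroup.zpowers_eq_bot] at e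
      rw [e, orderOf_one] at hzo
      exact absurd hzo (by norm_num)
    have h1 := CfsgLib.Invol.pClean_of_centralizer_le (hG _ hzp hz1 ⟨S, hSN⟩)
    have hc := CfsgLib.Invol.PClean.pPrimeCore_eq_bot (CfsgLib.Invol.pClean_subgroup_congr
      (CfsgLib.CharPLoc.centralizer_singleton_eq z).symm ((CfsgLib.CharPLoc.pClean_normalizer_iff hzp).1 h1))
    set C := Subgroup.centralizer ({z} : Set G)
    haveI : (O.subgroupOf C).Normal := hN.comap C.subtype
    have hmem : (⟨o, Subgroup.mem_centralizer_singleton_iff.2 hoz⟩ : C) ∈ Cfsg.pPrimeCore 2 C := by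
      refine CfsgLib.Coprime.le_pPrimeCore_of_not_dvd Nat.prime_two (fun hd => hOdd (hd.trans ?_)) (Subgroup.mem_subgroupOf.2 ho)
      rw [← Subgroup.card_map_of_injective C.subtype_injective]
      exact Subgroup.card_dvd_of_le (by rintro _ ⟨w, hw, rfl⟩; exact hw)
    rw [hc, Subgroup.mem_bot] at hmem
    exact congrArg Subtype.val hmem
  obtain ⟨z, hzS, hzo, hzc⟩ := CfsgLib.CharPLoc.exists_central_order S.2 le_rfl Subgroup.le_normalizer hSne
  have hzz : z * z = 1 := by rw [← sq, ← hzo, pow_orderOf_eq_one]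
  have hzi : z⁻¹ = z := inv_eq_of_mul_eq_one_left hzz
  -- `z` inverts `O`
  have hinv : ∀ o ∈ O, z * o * z = o⁻¹ := by
    have hn' : ∀ o ∈ O, z * o * z ∈ O := fun o ho => by
      have := hn o ho z
      rwa [hzi] at this
    have hinj : Function.Injective (fun o : O => (⟨(o : G)⁻¹ * (z * o * z), O.mul_mem (O.inv_mem o.2) (hn' o o.2)⟩ : O)) := by
      intro a b e
      have e' : (a : G)⁻¹ * (z * a * z) = (b : G)⁻¹ * (z * b * z) := congrArg Subtype.val e
      have h1 : (b : G) * (a : G)⁻¹ * z = z * ((b : G) * (a : G)⁻¹) := by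
        calc (b : G) * (a : G)⁻¹ * z = (b : G) * ((a : G)⁻¹ * (z * a * z)) * z⁻¹ * (a : G)⁻¹ := by group
          _ = (b : G) * ((b : G)⁻¹ * (z * b * z)) * z⁻¹ * (a : G)⁻¹ := by rw [e']
          _ = z * ((b : G) * (a : G)⁻¹) := by group
      exact Subtype.ext (mul_inv_eq_one.1 (hfree z hzS hzo hzc _ (O.mul_mem b.2 (O.inv_mem a.2)) h1)).symm
    intro o ho
    obtain ⟨⟨a, ha⟩, he⟩ := (Finite.injective_iff_surjective.1 hinj) ⟨o, ho⟩
    have he' : a⁻¹ * (z * a * z) = o := congrArg Subtype.val he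
    rw [← he']
    calc z * (a⁻¹ * (z * a * z)) * z = (z * a⁻¹ * z) * a * (z * z) := by group
      _ = (z⁻¹ * a⁻¹ * z⁻¹) * a := by rw [hzi, hzz, mul_one]
      _ = (a⁻¹ * (z * a * z))⁻¹ := by group
  set K := Subgroup.centralizer (O : Set G) with hK
  haveI hKn : K.Normal := inferInstance
  -- `C(O)` has odd order
  have hKodd : ¬ 2 ∣ Nat.card K := by
    intro hd
    have hi := CfsgLib.Fusion.not_dvd_relIndex_inf_of_normal S K
    have hne : (S : Subgroup G) ⊓ K ≠ ⊥ := fun e => hi (by rw [e, Subgroup.relIndex_bot_left]; exact hd)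
    obtain ⟨w, hw, hwo, hwc⟩ := CfsgLib.CharPLoc.exists_central_order S.2 (inf_le_left : (S : Subgroup G) ⊓ K ≤ S)
      (CfsgLib.Coprime.inf_le_normalizer Subgroup.le_normalizer (by rw [Subgroup.normalizer_eq_top]; exact le_top)) hne
    refine hO1 ((Subgroup.eq_bot_iff_forall _).2 fun o ho => ?_)
    exact hfree w hw.1 hwo hwc o ho (Subgroup.mem_centralizer_iff.1 hw.2 o ho)
  have hKO : K ≤ O := CfsgLib.Coprime.le_pPrimeCore_of_not_dvd Nat.prime_two hKodd
  -- `z` is central modulo `O`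
  have hcen : (QuotientGroup.mk z : G ⧸ O) ∈ Subgroup.center (G ⧸ O) := by
    refine Subgroup.mem_center_iff.2 fun q => ?_
    obtain ⟨g, rfl⟩ := QuotientGroup.mk_surjective q
    rw [← QuotientGroup.mk_mul, ← QuotientGroup.mk_mul, QuotientGroup.eq]
    refine hKO (Subgroup.mem_centralizer_iff.2 fun o ho => ?_)
    have h1 : z * (g * o * g⁻¹) * z = g * o⁻¹ * g⁻¹ := by rw [hinv _ (hn o ho g)]; group
    have h2 : z * o⁻¹ * z = o := by rw [hinv _ (O.inv_mem ho), inv_inv]
    have h3 : (g * z)⁻¹ * (z * g) * o * ((g * z)⁻¹ * (z * g))⁻¹ = o := by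
      calc _ = z⁻¹ * g⁻¹ * (z * (g * o * g⁻¹) * z⁻¹) * g * z := by group
        _ = z * g⁻¹ * (z * (g * o * g⁻¹) * z) * g * z := by rw [hzi]
        _ = z * o⁻¹ * z := by rw [h1]; group
        _ = o := h2
    exact (mul_inv_eq_iff_eq_mul.1 h3).symm
  rw [hZ, Subgroup.mem_bot, QuotientGroup.eq_one_iff] at hcen
  refine hOdd ?_
  rw [← hzo]
  exact Subgroup.orderOf_dvd_natCard O hcen

end Cfsg.Agent.S2898
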