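import Cfsg.Statements.S2907
import Cfsg.Agent.Lib.Coprime.PGroupFrattini

set_option autoImplicit false
open Cfsg

namespace Cfsg.Agent.S2907

/-- Let X be a finite semi-extraspecial p-group and x an element of X outside the centre. Then the index of C_X(x) in X equals the order of Z(X), and the commutators [x, y], y ∈ X, form exactly the centre Z(X). -/
theorem result {X : Type*} [Group X] [Finite X] {p : ℕ} [Fact p.Prime] (hX : Cfsg.IsSemiExtraspecial p X) (x : X) (hx : x ∉ Subgroup.center X) : (Subgroup.centralizer ({x} : Set X)).index = Nat.card ↥(Subgroup.center X) ∧ {z : X | ∃ y : X, z = x * y * x⁻¹ * y⁻¹} = (Subgroup.center X : Set X) := by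
  obtain ⟨⟨hP, -, hder⟩, hsemi⟩ := hX
  have hmem : ∀ y, x * y * x⁻¹ * y⁻¹ ∈ Subgroup.center X := fun y =>
    hder ▸ Subgroup.commutator_mem_commutator (Subgroup.mem_top x) (Subgroup.mem_top y)
  let f : X →* Subgroup.center X := MonoidHom.mk' (fun y => ⟨_, hmem y⟩) fun a b => Subtype.ext (by
    show x * (a * b) * x⁻¹ * (a * b)⁻¹ = x * a * x⁻¹ * a⁻¹ * (x * b * x⁻¹ * b⁻¹)
    have hc := Subgroup.mem_center_iff.1 (hmem b) a⁻¹
    calc x * (a * b) * x⁻¹ * (a * b)⁻¹ = x * a * x⁻¹ * ((x * b * x⁻¹ * b⁻¹) * a⁻¹) := by group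
      _ = _ := by rw [← hc]; group)
  have hker : f.ker = Subgroup.centralizer ({x} : Set X) := by
    ext y
    rw [MonoidHom.mem_ker, Subgroup.mem_centralizer_singleton_iff]
    constructor
    · intro h
      have h1 : x * y * x⁻¹ * y⁻¹ = 1 := congrArg Subtype.val h
      exact (mul_inv_eq_iff_eq_mul.1 (mul_inv_eq_one.1 h1)).symm
    · intro h
      refine Subtype.ext ?_
      show x * y * x⁻¹ * y⁻¹ = 1
      rw [← h, mul_inv_cancel_right, mul_inv_cancel]
  have htop : f.range = ⊤ := by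
    by_contra hne
    obtain ⟨M, hM, hle⟩ := (eq_top_or_exists_le_coatom f.range).resolve_left hne
    set Y := M.map (Subgroup.center X).subtype with hY
    have hYM : Y.subgroupOf (Subgroup.center X) = M :=
      Subgroup.comap_map_eq_self_of_injective (Subgroup.subtype_injective _) M
    obtain ⟨hn, ⟨⟨-, -, hd'⟩, hcard⟩⟩ := hsemi Y (Subgroup.map_subtype_le M) (by rw [hYM]; exact hM)
    have hxY : (x : X ⧸ Y) ∈ Subgroup.center (X ⧸ Y) := Subgroup.mem_center_iff.2 fun q => by
      obtain ⟨y, rfl⟩ := QuotientGroup.mk_surjective q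
      rw [← QuotientGroup.mk_mul, ← QuotientGroup.mk_mul, QuotientGroup.eq]
      have h1 : (f y : X) ∈ Y := ⟨f y, hle ⟨y, rfl⟩, rfl⟩
      have h2 : x * y * x⁻¹ * y⁻¹ ∈ Y := h1
      have h3 := hn.conj_mem _ h2 (y * x)⁻¹
      simpa [mul_assoc] using h3
    rw [← hd', commutator_def, ← Subgroup.map_top_of_surjective (QuotientGroup.mk' Y) (QuotientGroup.mk'_surjective Y), ← Subgroup.map_commutator, ← commutator_def, hder] at hxY
    obtain ⟨z, hz, hzx⟩ := hxY
    rw [QuotientGroup.mk'_apply, QuotientGroup.eq] at hzx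
    have h2 : z * (z⁻¹ * x) ∈ Subgroup.center X := mul_mem hz (Subgroup.map_subtype_le M hzx)
    rw [mul_inv_cancel_left] at h2
    exact hx h2
  refine ⟨?_, Set.ext fun z => ⟨?_, fun hz => ?_⟩⟩
  · rw [← hker, Subgroup.index_ker, htop, Subgroup.card_top]
  · rintro ⟨y, rfl⟩
    exact hmem y
  · obtain ⟨y, hy⟩ : (⟨z, hz⟩ : Subgroup.center X) ∈ f.range := htop ▸ Subgroup.mem_top _
    exact ⟨y, (congrArg Subtype.val hy).symm⟩

end Cfsg.Agent.S2907
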