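import Cfsg.Statements.S2909
import Cfsg.Agent.Lib.PGroup.CommutatorContainment

set_option autoImplicit false
open Cfsg

namespace Cfsg.Agent.S2909

/-- Let p be a prime, E a normal p-subgroup of the finite group G, and U a non-cyclic elementary abelian p-subgroup of G such that either C_E(U) = C_E(u) for every nontrivial u ∈ U, or [E, U] = [E, ⟨u⟩] for every nontrivial u ∈ U. If R is a subgroup of order prime to p normalized by U, then [R, U] centralizes E. -/
theorem result {G : Type*} [Group G] [Finite G] {p : ℕ} [Fact p.Prime] (E : Subgroup G) [E.Normal] (hE : IsPGroup p ↥E) (U : Subgroup G) (hU : Cfsg.IsElementaryAbelian p U) (hnc : ¬ IsCyclic ↥U) (hcond : (∀ u ∈ U, u ≠ 1 → E ⊓ Subgroup.centralizer (U : Set G) = E ⊓ Subgroup.centralizer ({u} : Set G)) ∨ (∀ u ∈ U, u ≠ 1 → ⁅E, U⁆ = ⁅E, Subgroup.zpowers u⁆)) (R : Subgroup G) (hR : ¬ p ∣ Nat.card ↥R) (hRU : U ≤ Subgroup.normalizer (R : Set G)) : ⁅R, U⁆ ≤ Subgroup.centralizer (E : Set G) := by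
  haveI := hU.1
  haveI hCn : (Subgroup.centralizer (E : Set G)).Normal := inferInstance
  have hEn : ∀ g : G, g ∈ Subgroup.normalizer (E : Set G) := fun g => by rw [Subgroup.normalizer_eq_top]; trivial
  have hEn' : ∀ S : Subgroup G, S ≤ Subgroup.normalizer (E : Set G) := fun S g _ => hEn g
  have hcop : (Nat.card U).Coprime (Nat.card R) := by
    obtain ⟨k, hk⟩ := IsPGroup.iff_card.1 (fun x : U => ⟨1, by rw [pow_one]; exact Subtype.ext (hU.2 x x.2)⟩ : IsPGroup p U)
    rw [hk]
    exact ((Fact.out : p.Prime).coprime_iff_not_dvd.2 hR).pow_left k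
  have hUp : IsPGroup p U := fun x => ⟨1, by rw [pow_one]; exact Subtype.ext (hU.2 x x.2)⟩
  let f := QuotientGroup.mk' (Subgroup.centralizer (E : Set G))
  let W := (Subgroup.centralizer ((U.map f : Subgroup _) : Set _)).comap f
  suffices hW : R ≤ W by
    rw [Subgroup.commutator_le]
    intro r hr u hu
    rw [← QuotientGroup.eq_one_iff, commutatorElement_def]
    have := Subgroup.mem_centralizer_iff.1 (hW hr) (f u) (Subgroup.mem_map_of_mem f hu)
    show f (r * u * r⁻¹ * u⁻¹) = 1
    rw [map_mul, map_mul, map_mul, ← this, map_inv, map_inv]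
    group
  refine CfsgLib.Coprime.le_of_centralizers_le hnc hRU hcop fun a ha ha1 => ?_
  set X := R ⊓ Subgroup.centralizer ({a} : Set G) with hX
  suffices hY : ⁅X, U⁆ ≤ Subgroup.centralizer (E : Set G) by
    intro x hx
    refine Subgroup.mem_centralizer_iff.2 ?_
    rintro _ ⟨u, hu, rfl⟩
    have h1 : f (x * u * x⁻¹ * u⁻¹) = 1 := (QuotientGroup.eq_one_iff _).2 (hY (Subgroup.commutator_mem_commutator hx hu))
    rw [map_mul, map_mul, map_mul, map_inv, map_inv, mul_inv_eq_one, mul_inv_eq_iff_eq_mul] at h1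
    exact h1.symm
  set A := Subgroup.zpowers a with hA
  have hAU : A ≤ U := Subgroup.zpowers_le.2 ha
  have hAp : IsPGroup p A := hUp.to_le hAU
  have hCa : Subgroup.centralizer ({a} : Set G) = Subgroup.centralizer (A : Set G) := by
    rw [hA, Subgroup.zpowers_eq_closure, Subgroup.centralizer_closure]
  have hUX : U ≤ Subgroup.normalizer (X : Set G) := fun u hu => Subgroup.mem_normalizer_iff.2 fun y => by
    have huC : u ∈ Subgroup.centralizer ({a} : Set G) := Subgroup.mem_centralizer_singleton_iff.2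
      (congrArg Subtype.val (mul_comm' (⟨u, hu⟩ : U) ⟨a, ha⟩))
    constructor
    · exact fun hy => ⟨(Subgroup.mem_normalizer_iff.1 (hRU hu) y).1 hy.1, (Subgroup.centralizer ({a} : Set G)).mul_mem ((Subgroup.centralizer ({a} : Set G)).mul_mem huC hy.2) ((Subgroup.centralizer ({a} : Set G)).inv_mem huC)⟩
    · intro hy
      refine ⟨(Subgroup.mem_normalizer_iff.1 (hRU hu) y).2 hy.1, ?_⟩
      have := (Subgroup.centralizer ({a} : Set G)).mul_mem ((Subgroup.centralizer ({a} : Set G)).mul_mem ((Subgroup.centralizer ({a} : Set G)).inv_mem huC) hy.2) huC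
      rwa [show u⁻¹ * (u * y * u⁻¹) * u = y by group] at this
  have hYX : ⁅X, U⁆ ≤ X := by
    rw [Subgroup.commutator_comm]; exact Subgroup.le_normalizer_iff_commutator_le_right.1 hUX
  have hYp : ¬ p ∣ Nat.card ↥⁅X, U⁆ := fun h => hR (h.trans (Subgroup.card_dvd_of_le (hYX.trans inf_le_left)))
  have hAY : A ≤ Subgroup.centralizer ((⁅X, U⁆ : Subgroup G) : Set G) := by
    rw [Subgroup.le_centralizer_iff, ← hCa]; exact hYX.trans inf_le_right
  rcases hcond with h | h
  · refine CfsgLib.Coprime.pq_lemma hAp ((Fact.out : p.Prime).coprime_iff_not_dvd.2 hYp).symm hE hAY (hEn' _) (hEn' _) ?_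
    rw [← hCa, ← h a ha ha1, Subgroup.le_centralizer_iff, ← Subgroup.commutator_eq_bot_iff_le_centralizer]
    apply Subgroup.commutator_commutator_eq_bot_of_rotate
    · rw [Subgroup.commutator_eq_bot_iff_le_centralizer.2 (Subgroup.le_centralizer_iff.1 inf_le_right), Subgroup.commutator_bot_left]
    · rw [Subgroup.commutator_eq_bot_iff_le_centralizer]
      refine le_trans ?_ (inf_le_right : E ⊓ Subgroup.centralizer (U : Set G) ≤ _)
      rw [Subgroup.commutator_comm, ← Subgroup.le_normalizer_iff_commutator_le_right, h a ha ha1]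
      refine fun x hx => Subgroup.mem_normalizer_iff.2 fun y => ⟨fun hy => ⟨(Subgroup.mem_normalizer_iff.1 (hEn x) y).1 hy.1, ?_⟩, fun hy => ⟨(Subgroup.mem_normalizer_iff.1 (hEn x) y).2 hy.1, ?_⟩⟩
      · exact (Subgroup.centralizer ({a} : Set G)).mul_mem ((Subgroup.centralizer ({a} : Set G)).mul_mem hx.2 hy.2) ((Subgroup.centralizer ({a} : Set G)).inv_mem hx.2)
      · have := (Subgroup.centralizer ({a} : Set G)).mul_mem ((Subgroup.centralizer ({a} : Set G)).mul_mem ((Subgroup.centralizer ({a} : Set G)).inv_mem hx.2) hy.2) hx.2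
        rwa [show x⁻¹ * (x * y * x⁻¹) * x = y by group] at this
  · set D := ⁅E, A⁆ with hD
    have hDU : ⁅E, U⁆ = D := h a ha ha1
    have hEA : ⁅A, ⁅X, U⁆⁆ = ⊥ := Subgroup.commutator_eq_bot_iff_le_centralizer.2 hAY
    have hED : E ≤ Subgroup.normalizer (D : Set G) := Subgroup.normalizer_commutator_ge_left E A
    have hUD : U ≤ Subgroup.normalizer (D : Set G) := CfsgLib.CommContain.le_normalizer_commutator (hEn' _)
      ((Subgroup.le_centralizer U).trans ((Subgroup.centralizer_le (show (A : Set G) ⊆ U from hAU)).trans (Subgroup.centralizer_le_normalizer _)))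
    have hXD : X ≤ Subgroup.normalizer (D : Set G) := CfsgLib.CommContain.le_normalizer_commutator (hEn' _)
      ((inf_le_right.trans hCa.le).trans (Subgroup.centralizer_le_normalizer _))
    let K : Subgroup G :=
      { carrier := {g | g ∈ Subgroup.normalizer (D : Set G) ∧ ∀ e ∈ E, g * e * g⁻¹ * e⁻¹ ∈ D}
        one_mem' := ⟨one_mem _, fun e _ => by simp⟩
        mul_mem' := fun {g g'} hg hg' => ⟨mul_mem hg.1 hg'.1, fun e he => by
          have := mul_mem (hg.2 _ ((Subgroup.mem_normalizer_iff.1 (hEn g') e).1 he)) (hg'.2 e he)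
          convert this using 1
          group⟩
        inv_mem' := fun {g} hg => ⟨inv_mem hg.1, fun e he => by
          have := inv_mem (hg.2 _ ((Subgroup.mem_normalizer_iff.1 (hEn g⁻¹) e).1 he))
          convert this using 1
          group⟩ }
    have hUK : U ≤ K := fun u hu => ⟨hUD hu, fun e he => by
      rw [← hDU, Subgroup.commutator_comm]
      exact Subgroup.commutator_mem_commutator hu he⟩
    have hconj : ∀ x ∈ X, ∀ k ∈ K, x * k * x⁻¹ ∈ K := fun x hx k hk => ⟨mul_mem (mul_mem (hXD hx) hk.1) (inv_mem (hXD hx)), fun e he => by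
      have h1 := (Subgroup.mem_normalizer_iff.1 (hXD hx) _).1 (hk.2 _ ((Subgroup.mem_normalizer_iff.1 (hEn x⁻¹) e).1 he))
      convert h1 using 1
      group⟩
    have hYK : ⁅X, U⁆ ≤ K := Subgroup.commutator_le.2 fun x hx u hu =>
      K.mul_mem (hconj x hx u (hUK hu)) (K.inv_mem (hUK hu))
    rw [Subgroup.le_centralizer_iff, ← Subgroup.commutator_eq_bot_iff_le_centralizer]
    refine CfsgLib.CommContain.commutator_eq_bot hE hAp hYp (hEn' _) (hEn' _) hEA ?_
    rw [Subgroup.commutator_comm]
    exact Subgroup.commutator_le.2 fun y hy e he => (hYK hy).2 e he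

end Cfsg.Agent.S2909
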