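import Cfsg.Statements.S2910
import Cfsg.Agent.Lib.Fusion.PComplement
import Cfsg.Agent.Lib.PGroup.OmegaOdd
import Cfsg.Agent.Lib.Coprime.Core

set_option autoImplicit false
open Cfsg

namespace Cfsg.Agent.S2910

/-- Let p be an odd prime dividing the order of the finite group G and P a Sylow p-subgroup of G. If Ω₁(P) (generated by the elements of order dividing p) is contained in the centre of G, then G has a normal p-complement. In particular, if G is quasisimple then Ω₁(P) is not central in G. -/
theorem result {G : Type*} [Group G] [Finite G] {p : ℕ} [Fact p.Prime] (hp : p ≠ 2) (hdiv : p ∣ Nat.card G) (P : Sylow p G) (hZ : Cfsg.omegaOne p (P : Subgroup G) ≤ Subgroup.center G) : Cfsg.HasNormalPComplement p G ∧ ¬ Cfsg.IsQuasisimple G := by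
  classical
  have hpp : p.Prime := Fact.out
  have hloc : CfsgLib.Fusion.LocallyPNilpotentAction p (P : Subgroup G) := by
    intro Q hQ n hn hnp
    refine Subgroup.mem_centralizer_iff.2 fun y hy => ?_
    refine (CfsgLib.PGroup.commute_of_fix_omega_odd hp (P.2.to_le hQ) hn (hpp.coprime_iff_not_dvd.1 hnp.symm) ?_ y hy).symm
    intro w hw hwp
    exact Subgroup.mem_center_iff.1 (hZ (Subgroup.subset_closure ⟨hQ hw, hwp⟩)) n
  have hcomp := CfsgLib.Fusion.hasNormalPComplement_of_locallyPNilpotentAction P hloc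
  refine ⟨hcomp, fun hq => ?_⟩
  obtain ⟨Q, N, hN, hc⟩ := hcomp
  haveI := hN
  have hQp : IsPGroup p (G ⧸ N) := by
    obtain ⟨k, hk⟩ := Q.2.exists_card_eq
    refine IsPGroup.of_card (n := k) ?_
    rw [← Subgroup.index_eq_card, hc.symm.index_eq_card, hk]
  haveI := hQp.isNilpotent
  haveI : Nontrivial (G ⧸ N) := by
    rw [← Finite.one_lt_card_iff_nontrivial, ← Subgroup.index_eq_card, hc.symm.index_eq_card]
    exact Nat.lt_of_lt_of_le hpp.one_lt (Nat.le_of_dvd Nat.card_pos (Q.dvd_card_of_dvd_card hdiv))
  have hlt := Group.IsSolvable.commutator_lt_top_of_nontrivial (G ⧸ N)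
  refine hlt.ne ?_
  rw [commutator_def, ← Subgroup.map_top_of_surjective (QuotientGroup.mk' N) (QuotientGroup.mk'_surjective N), ← Subgroup.map_commutator, ← commutator_def]
  congr 1
  exact hq.1.commutator_eq_top

end Cfsg.Agent.S2910
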