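import Cfsg.Statements.S2912
import Mathlib.LinearAlgebra.Dimension.LinearMap
import Mathlib.FieldTheory.Finite.Basic
import Mathlib.GroupTheory.Sylow
import Mathlib.RingTheory.IntegralDomain
import Mathlib.LinearAlgebra.FreeModule.Finite.Matrix

set_option autoImplicit false
open Cfsg

namespace Cfsg.Agent.S2912

/-- Let p and r be distinct primes, let E be an extraspecial subgroup of order p^(2w+1) of a finite group, and let A be an elementary abelian r-subgroup normalized by E on which E acts faithfully (C_E(A) = 1). If n ≥ 1 is least with p dividing rⁿ − 1 (the smallest dimension of a faithful representation of a group of order p over the field with r elements), then the order of A is at least r^(n·p^w). -/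
theorem result {G : Type*} [Group G] [Finite G] {p r : ℕ} [Fact p.Prime] [hr : Fact r.Prime] (hpr : p ≠ r) (E A : Subgroup G) (w : ℕ) (hE : Cfsg.IsExtraspecial p ↥E) (hEcard : Nat.card ↥E = p ^ (2 * w + 1)) (hA : Cfsg.IsElementaryAbelian r A) (hnorm : E ≤ Subgroup.normalizer (A : Set G)) (hfaith : E ⊓ Subgroup.centralizer (A : Set G) = ⊥) (n : ℕ) (hn : 1 ≤ n) (hdiv : p ∣ r ^ n - 1) (hmin : ∀ k : ℕ, 1 ≤ k → p ∣ r ^ k - 1 → n ≤ k) : r ^ (n * p ^ w) ≤ Nat.card ↥A := by
  classical
  have hp : p.Prime := Fact.out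
  have hrp : r.Prime := Fact.out
  obtain ⟨hAc, hAr⟩ := hA
  letI : CommGroup A := { (inferInstance : Group A) with mul_comm := hAc.is_comm.comm }
  have hconj : ∀ e ∈ E, ∀ a ∈ A, e * a * e⁻¹ ∈ A := fun e he a ha =>
    (Subgroup.mem_normalizer_iff.1 (hnorm he) a).1 ha
  -- the action as additive endomorphisms
  let act : E → AddMonoid.End (Additive A) := fun e =>
    { toFun := fun v => Additive.ofMul (⟨(e : G) * ((Additive.toMul v : A) : G) * (e : G)⁻¹,
        hconj _ e.2 _ (Additive.toMul v).2⟩ : A)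
      map_zero' := Subtype.ext (show (e : G) * 1 * (e : G)⁻¹ = 1 by group)
      map_add' := fun v v' => Subtype.ext (show (e : G) * (((Additive.toMul v : A) : G) * ((Additive.toMul v' : A) : G)) * (e : G)⁻¹ =
        ((e : G) * ((Additive.toMul v : A) : G) * (e : G)⁻¹) * ((e : G) * ((Additive.toMul v' : A) : G) * (e : G)⁻¹) by group) }
  let ρ : E →* AddMonoid.End (Additive A) :=
    { toFun := act
      map_one' := AddMonoidHom.ext fun v => Subtype.ext (show (1 : G) * ((Additive.toMul v : A) : G) * (1 : G)⁻¹ = ((Additive.toMul v : A) : G) by group)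
      map_mul' := fun a b => AddMonoidHom.ext fun v => Subtype.ext
        (show ((a : G) * (b : G)) * ((Additive.toMul v : A) : G) * ((a : G) * (b : G))⁻¹ =
          (a : G) * ((b : G) * ((Additive.toMul v : A) : G) * (b : G)⁻¹) * (a : G)⁻¹ by group) }
  have hρ : ∀ e : E, (∀ v, ρ e v = v) → e = 1 := by
    intro e he
    refine Subtype.ext ((Subgroup.eq_bot_iff_forall _).1 hfaith _ ⟨e.2, Subgroup.mem_centralizer_iff.2 fun a ha => ?_⟩)
    have h : (e : G) * a * (e : G)⁻¹ = a := congrArg Subtype.val (congrArg Additive.toMul (he (Additive.ofMul ⟨a, ha⟩)))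
    exact (mul_inv_eq_iff_eq_mul.1 h).symm
  set Z := Subgroup.center (↥E)
  obtain ⟨⟨hEp, -, hcomm⟩, hZcard⟩ := hE
  haveI : IsCyclic Z := isCyclic_of_prime_card hZcard
  obtain ⟨⟨z, hzZ⟩, hzgen⟩ := IsCyclic.exists_generator (α := Z)
  have hzc : ∀ e : E, e * z = z * e := Subgroup.mem_center_iff.1 hzZ
  have hzg : ∀ c ∈ Z, ∃ k : ℤ, z ^ k = c := fun c hc => by
    obtain ⟨k, hk⟩ := Subgroup.mem_zpowers_iff.1 (hzgen ⟨c, hc⟩)
    exact ⟨k, congrArg Subtype.val hk⟩
  have hzp : z ^ p = 1 := by
    have := congrArg Subtype.val (pow_card_eq_one' (x := (⟨z, hzZ⟩ : Z)))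
    rwa [hZcard] at this
  have hz1 : z ≠ 1 := by
    intro h
    haveI : Nontrivial Z := Finite.one_lt_card_iff_nontrivial.1 (hZcard ▸ hp.one_lt)
    obtain ⟨⟨c, hc⟩, hc1⟩ := exists_ne (1 : Z)
    obtain ⟨k, hk⟩ := hzg c hc
    exact hc1 (Subtype.ext (show c = 1 from hk.symm.trans (by rw [h, one_zpow])))
  have hzv : ∀ (e : E) v, ρ e (ρ z v) = ρ z (ρ e v) := fun e v => by
    show (ρ e * ρ z) v = (ρ z * ρ e) v
    rw [← map_mul, ← map_mul, hzc e]
  -- `[A, z]` and a minimal invariant subgroup of it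
  set W₀ : AddSubgroup (Additive A) := AddMonoidHom.range ((show Additive A →+ Additive A from ρ z) - AddMonoidHom.id (Additive A)) with hW₀
  have hW₀ne : W₀ ≠ ⊥ := by
    intro h
    refine hz1 (hρ z fun v => sub_eq_zero.1 ?_)
    have h1 : ρ z v - v ∈ W₀ := ⟨v, rfl⟩
    rw [h] at h1
    exact h1
  have hW₀inv : ∀ (e : E), ∀ v ∈ W₀, ρ e v ∈ W₀ := by
    rintro e _ ⟨v, rfl⟩
    refine ⟨ρ e v, ?_⟩
    show ρ z (ρ e v) - ρ e v = ρ e (ρ z v - v)
    rw [map_sub, hzv]
  have hexpA : ∀ v : Additive A, r • v = 0 := fun v => by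
    show Additive.ofMul ((Additive.toMul v : A) ^ r) = 0
    rw [show (Additive.toMul v : A) ^ r = 1 from Subtype.ext (hAr _ (Additive.toMul v).2)]
    rfl
  have hfpf : ∀ v ∈ W₀, ρ z v = v → v = 0 := by
    rintro _ ⟨v, rfl⟩ hfix
    set u : Additive A := ρ z v - v with hu
    show u = 0
    have hfix' : ρ z u = u := hfix
    have hit : ∀ k : ℕ, ρ (z ^ k) v = v + k • u := by
      intro k
      induction k with
      | zero => rw [pow_zero, map_one, zero_smul, add_zero]; rfl
      | succ k ih =>
        rw [pow_succ', map_mul]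
        show ρ z (ρ (z ^ k) v) = _
        rw [ih, map_add, map_nsmul, hfix', succ_nsmul, hu]
        abel
    have h1 := hit p
    rw [hzp, map_one] at h1
    have h2 : p • u = 0 := by
      have h1' : v = v + p • u := h1
      exact left_eq_add.1 h1'
    have h3 : Nat.gcd p r = 1 := (Nat.coprime_primes hp hrp).2 hpr
    have := gcd_nsmul_eq_zero.2 ⟨h2, hexpA u⟩
    rwa [h3, one_nsmul] at this
  obtain ⟨W, ⟨hWW₀, hWne, hWinv⟩, hWmin⟩ := (wellFounded_lt (α := AddSubgroup (Additive A))).has_min
    {U | U ≤ W₀ ∧ U ≠ ⊥ ∧ ∀ (e : E), ∀ v ∈ U, ρ e v ∈ U} ⟨W₀, le_rfl, hW₀ne, hW₀inv⟩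
  have hirr : ∀ U : AddSubgroup (Additive A), U ≤ W → (∀ (e : E), ∀ v ∈ U, ρ e v ∈ U) → U = ⊥ ∨ U = W := by
    intro U hU hinv
    by_cases h : U = ⊥
    · exact Or.inl h
    · exact Or.inr ((eq_or_lt_of_le hU).resolve_right (hWmin U ⟨hU.trans hWW₀, h, hinv⟩))
  let σ₀ : E → AddMonoid.End W := fun e =>
    { toFun := fun v => ⟨ρ e v, hWinv e v v.2⟩
      map_zero' := Subtype.ext (map_zero (ρ e))
      map_add' := fun a b => Subtype.ext (map_add (ρ e) (a : Additive A) b) }
  let σ : E →* AddMonoid.End W :=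
    { toFun := σ₀
      map_one' := AddMonoidHom.ext fun v => Subtype.ext (show ρ 1 v = v by rw [map_one]; rfl)
      map_mul' := fun a b => AddMonoidHom.ext fun v => Subtype.ext (show ρ (a * b) v = ρ a (ρ b v) by rw [map_mul]; rfl) }
  set R : Subring (AddMonoid.End W) := Subring.closure {σ z} with hR
  have hRc : ∀ a ∈ R, ∀ e : E, σ e * a = a * σ e := by
    intro a ha e
    induction ha using Subring.closure_induction with
    | mem x hx => rw [Set.mem_singleton_iff] at hx; rw [hx, ← map_mul, ← map_mul, hzc e]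
    | zero => rw [mul_zero, zero_mul]
    | one => rw [mul_one, one_mul]
    | add x y _ _ hx hy => rw [mul_add, add_mul, hx, hy]
    | neg x _ hx =>
      refine AddMonoidHom.ext fun v => ?_
      show σ e (-(x v)) = -(x (σ e v))
      rw [map_neg]
      exact congrArg Neg.neg (DFunLike.congr_fun hx v)
    | mul x y _ _ hx hy => rw [← mul_assoc, hx, mul_assoc, hy, ← mul_assoc]
  have hRcomm : ∀ a b : R, a * b = b * a := by
    rintro ⟨a, ha⟩ ⟨b, hb⟩
    refine Subtype.ext ?_
    show a * b = b * a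
    induction hb using Subring.closure_induction with
    | mem x hx => rw [Set.mem_singleton_iff] at hx; rw [hx]; exact (hRc a ha z).symm
    | zero => rw [mul_zero, zero_mul]
    | one => rw [mul_one, one_mul]
    | add x y _ _ hx hy => rw [mul_add, add_mul, hx, hy]
    | neg x _ hx =>
      refine AddMonoidHom.ext fun v => ?_
      show a (-(x v)) = -(x (a v))
      rw [map_neg]
      exact congrArg Neg.neg (DFunLike.congr_fun hx v)
    | mul x y _ _ hx hy => rw [← mul_assoc, hx, mul_assoc, hy, ← mul_assoc]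
  haveI : Finite (AddMonoid.End W) := Finite.of_injective (fun f : AddMonoid.End W => (f : W → W)) DFunLike.coe_injective
  haveI : Nontrivial W := (AddSubgroup.nontrivial_iff_ne_bot W).2 hWne
  letI : CommRing R := { (inferInstance : Ring R) with mul_comm := hRcomm }
  haveI : IsDomain R := by
    haveI : Nontrivial R := by
      obtain ⟨w₁, hw₁⟩ := exists_ne (0 : W)
      refine ⟨⟨0, 1, fun h => hw₁ ?_⟩⟩
      exact (DFunLike.congr_fun (congrArg Subtype.val h) w₁).symm
    haveI : NoZeroDivisors R := ⟨fun {a b} hab => or_iff_not_imp_left.2 fun ha => by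
      refine Subtype.ext (AddMonoidHom.ext fun v => ?_)
      let K : AddSubgroup (Additive A) := (AddMonoidHom.ker (a : W →+ W)).map W.subtype
      have hKinv : ∀ (e : E), ∀ u ∈ K, ρ e u ∈ K := by
        rintro e _ ⟨u, hu, rfl⟩
        refine ⟨σ e u, ?_, rfl⟩
        show (a : AddMonoid.End W) (σ e u) = 0
        have h1 : (σ e * (a : AddMonoid.End W)) u = ((a : AddMonoid.End W) * σ e) u := by rw [hRc _ a.2 e]
        rw [show (a : AddMonoid.End W) (σ e u) = σ e ((a : AddMonoid.End W) u) from h1.symm,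
          show (a : AddMonoid.End W) u = 0 from hu, map_zero]
      rcases hirr K (by rintro _ ⟨u, -, rfl⟩; exact u.2) hKinv with h | h
      · have h1 : (a : AddMonoid.End W) ((b : AddMonoid.End W) v) = 0 :=
          DFunLike.congr_fun (congrArg Subtype.val hab) v
        have h2 : (((b : AddMonoid.End W) v : W) : Additive A) ∈ K := ⟨_, h1, rfl⟩
        rw [h] at h2
        exact Subtype.ext h2
      · exfalso
        refine ha (Subtype.ext (AddMonoidHom.ext fun u => ?_))
        obtain ⟨u', hu', e⟩ := h.ge u.2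
        rw [← show u' = u from Subtype.ext e]
        exact hu'⟩
    exact NoZeroDivisors.to_isDomain R
  haveI : Finite R := inferInstance
  haveI : Fintype R := Fintype.ofFinite R
  letI : Field R := Fintype.fieldOfDomain R
  letI : Module R W := Module.compHom W R.subtype
  have hsmul : ∀ (a : R) (v : W), a • v = (a : AddMonoid.End W) v := fun a v => rfl
  let T : E → (W →ₗ[R] W) := fun e =>
    { toFun := fun v => σ e v
      map_add' := map_add (σ e)
      map_smul' := fun a v => by
        show (σ e * (a : AddMonoid.End W)) v = ((a : AddMonoid.End W) * σ e) v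
        rw [hRc _ a.2 e] }
  -- scalars from the centre
  have hzmem : ∀ c ∈ Z, σ c ∈ R := by
    intro c hc
    obtain ⟨k, hk⟩ := hzg c hc
    obtain ⟨j, hj⟩ : ∃ j : ℕ, z ^ j = c :=
      (isOfFinOrder_of_finite z).mem_zpowers_iff_mem_range_orderOf.1 (Subgroup.mem_zpowers_iff.2 ⟨k, hk⟩) |>
        fun h => by obtain ⟨j, -, hj⟩ := Finset.mem_image.1 h; exact ⟨j, hj⟩
    rw [← hj, map_pow]
    exact R.pow_mem (Subring.subset_closure (Set.mem_singleton (σ z))) j
  obtain ⟨w₁, hw₁⟩ := exists_ne (0 : W)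
  have hσz : σ z ≠ 1 := fun h => hw₁ (Subtype.ext (hfpf w₁ (hWW₀ w₁.2)
    (congrArg Subtype.val (DFunLike.congr_fun h w₁))))
  have hσinj : ∀ c ∈ Z, σ c = 1 → c = 1 := by
    intro c hc h
    obtain ⟨k, rfl⟩ := hzg c hc
    by_contra hne
    have hord : orderOf z = p := orderOf_eq_prime hzp hz1
    have hcop : IsCoprime k (p : ℤ) := by
      rw [Int.isCoprime_iff_gcd_eq_one, Int.gcd_def, Int.natAbs_natCast, ← Nat.coprime_iff_gcd_eq_one, Nat.coprime_comm]
      refine hp.coprime_iff_not_dvd.2 fun hd => hne ?_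
      rw [← orderOf_dvd_iff_zpow_eq_one, hord]
      exact Int.natCast_dvd.2 hd
    obtain ⟨a, b, hab⟩ := hcop
    apply hσz
    let σu : E →* (AddMonoid.End W)ˣ := σ.toHomUnits
    have hu : σu (z ^ k) = 1 := Units.ext h
    have hu2 : σu z = 1 := by
      rw [← zpow_one z, ← hab, zpow_add, mul_comm a, zpow_mul, map_mul, map_zpow σu, hu, one_zpow, one_mul,
        mul_comm b, zpow_mul, zpow_natCast, hzp, one_zpow, map_one]
    exact congrArg Units.val hu2
  -- commutators are central
  have hcc : ∀ a b : E, a * b * a⁻¹ * b⁻¹ ∈ Z := by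
    intro a b
    show _ ∈ Subgroup.center ↥E
    rw [← hcomm, commutator_def, ← commutatorElement_def]
    exact Subgroup.commutator_mem_commutator (Subgroup.mem_top _) (Subgroup.mem_top _)
  let ζ : E → E → R := fun y x => ⟨σ (y * x * y⁻¹ * x⁻¹), hzmem _ (hcc y x)⟩
  have hind : ∀ (t : Finset (E ⧸ Z)) (c : E ⧸ Z → R), ∑ q ∈ t, c q • T q.out = 0 → ∀ q ∈ t, c q = 0 := by
    intro t
    induction t using Finset.induction_on with
    | empty => intro c _ q hq; exact absurd hq (Finset.notMem_empty q)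
    | insert q₀ t hq₀ ih =>
      intro c hsum
      rw [Finset.sum_insert hq₀] at hsum
      have hzero : ∀ q ∈ t, c q = 0 := by
        intro q hq
        obtain ⟨y, hy⟩ : ∃ y, ζ y q.out ≠ ζ y q₀.out := by
          by_contra hcon
          push Not at hcon
          have hne : q ≠ q₀ := fun h => hq₀ (h ▸ hq)
          apply hne
          rw [← QuotientGroup.out_eq' q, ← QuotientGroup.out_eq' q₀, QuotientGroup.eq, Subgroup.mem_center_iff]
          intro y
          set a := q.out with ha
          set b := q₀.out with hb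
          have h1 : σ (y * a * y⁻¹ * a⁻¹) = σ (y * b * y⁻¹ * b⁻¹) := congrArg Subtype.val (hcon y)
          have h2 : (y * a * y⁻¹ * a⁻¹)⁻¹ * (y * b * y⁻¹ * b⁻¹) = 1 := by
            refine hσinj _ (mul_mem (inv_mem (hcc y a)) (hcc y b)) ?_
            rw [map_mul, ← h1, ← map_mul, inv_mul_cancel, map_one]
          have h3 : y * b * y⁻¹ * b⁻¹ = y * a * y⁻¹ * a⁻¹ := (inv_mul_eq_one.1 h2).symm
          have hc := Subgroup.mem_center_iff.1 (hcc y a)
          refine mul_inv_eq_iff_eq_mul.1 ?_
          calc y * (a⁻¹ * b) * y⁻¹ = (y * a * y⁻¹)⁻¹ * (y * b * y⁻¹) := by group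
            _ = a⁻¹ * (y * a * y⁻¹ * a⁻¹)⁻¹ * ((y * b * y⁻¹ * b⁻¹) * b) := by group
            _ = a⁻¹ * b := by rw [h3]; group
        have hTc : ∀ x : E, T y ∘ₗ T x ∘ₗ T y⁻¹ = ζ y x • T x := fun x => LinearMap.ext fun v => by
          show (σ y * (σ x * σ y⁻¹)) v = (σ (y * x * y⁻¹ * x⁻¹) * σ x) v
          rw [← map_mul, ← map_mul, ← map_mul]
          congr 2
          group
        have h1 : c q₀ • ζ y q₀.out • T q₀.out + ∑ s ∈ t, c s • ζ y s.out • T s.out = 0 := by
          refine LinearMap.ext fun v => ?_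
          have h2 := congrArg (T y) (LinearMap.congr_fun hsum (T y⁻¹ v))
          have hT1 : ∀ x : E, T y (T x (T y⁻¹ v)) = ζ y x • T x v := fun x => LinearMap.congr_fun (hTc x) v
          simp only [LinearMap.add_apply, LinearMap.sum_apply, LinearMap.smul_apply, map_add, map_sum, map_smul,
            LinearMap.zero_apply, map_zero, hT1] at h2 ⊢
          exact h2
        have h3 : ∑ s ∈ t, (c s * (ζ y s.out - ζ y q₀.out)) • T s.out = 0 := by
          have h4 : ζ y q₀.out • (c q₀ • T q₀.out + ∑ s ∈ t, c s • T s.out) = 0 := by rw [hsum, smul_zero]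
          rw [smul_add, Finset.smul_sum, smul_comm] at h4
          calc ∑ s ∈ t, (c s * (ζ y s.out - ζ y q₀.out)) • T s.out
              = ∑ s ∈ t, c s • ζ y s.out • T s.out - ∑ s ∈ t, ζ y q₀.out • c s • T s.out := by
                rw [← Finset.sum_sub_distrib]
                refine Finset.sum_congr rfl fun s _ => ?_
                rw [mul_sub, sub_smul, smul_smul, smul_smul, mul_comm (ζ y q₀.out)]
            _ = 0 := by rw [eq_neg_of_add_eq_zero_right h1, eq_neg_of_add_eq_zero_right h4, sub_self]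
        exact (mul_eq_zero.1 (ih _ h3 q hq)).resolve_right (sub_ne_zero.2 hy)
      intro q hq
      rcases Finset.mem_insert.1 hq with rfl | hq
      · by_contra hne
        rw [Finset.sum_eq_zero (fun s hs => by rw [hzero s hs, zero_smul]), add_zero] at hsum
        have hT := LinearMap.congr_fun ((smul_eq_zero.1 hsum).resolve_left hne) (σ q.out⁻¹ w₁)
        apply hw₁
        have hT' : (σ q.out * σ q.out⁻¹) w₁ = 0 := hT
        rw [← map_mul, mul_inv_cancel, map_one] at hT'
        exact hT'
      · exact hzero q hq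
  haveI : Fintype (E ⧸ Z) := Fintype.ofFinite _
  have hli : LinearIndependent R (fun q : E ⧸ Z => T q.out) := by
    rw [Fintype.linearIndependent_iff]
    exact fun c hc q => hind Finset.univ c hc q (Finset.mem_univ q)
  haveI : Module.Finite R W := Module.Finite.of_finite
  set d := Module.finrank R W
  have hd : p ^ (2 * w) ≤ d * d := by
    have h1 := hli.fintype_card_le_finrank
    rw [Module.finrank_linearMap, ← Nat.card_eq_fintype_card] at h1
    refine le_trans (le_of_eq ?_) h1
    have h2 := Subgroup.card_eq_card_quotient_mul_card_subgroup Z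
    rw [hEcard, hZcard, pow_succ] at h2
    exact Nat.eq_of_mul_eq_mul_right hp.pos h2
  have hdw : p ^ w ≤ d := by
    refine Nat.mul_self_le_mul_self_iff.1 ?_
    rw [← pow_add, ← two_mul]
    exact hd
  have hcharR : CharP R r := by
    refine (CharP.charP_iff_prime_eq_zero hrp).2 (Subtype.ext (AddMonoidHom.ext fun v => ?_))
    rw [SubringClass.coe_natCast]
    show (r : AddMonoid.End W) v = 0
    rw [AddMonoid.End.natCast_apply]
    exact Subtype.ext (hexpA v)
  obtain ⟨k, -, hk⟩ := FiniteField.card R r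
  have hnk : n ≤ (k : ℕ) := by
    refine hmin k k.2 ?_
    set z₀ : R := ⟨σ z, Subring.subset_closure rfl⟩
    have h1 : z₀ ^ p = 1 := Subtype.ext (show σ z ^ p = 1 by rw [← map_pow, hzp, map_one])
    have h2 : z₀ ≠ 1 := fun h => hσz (congrArg Subtype.val h)
    rw [← hk, ← orderOf_eq_prime h1 h2]
    refine orderOf_dvd_of_pow_eq_one (FiniteField.pow_card_sub_one_eq_one z₀ ?_)
    intro h
    rw [h, zero_pow hp.ne_zero] at h1
    exact zero_ne_one h1
  calc r ^ (n * p ^ w) ≤ r ^ ((k : ℕ) * d) := Nat.pow_le_pow_right hrp.pos (Nat.mul_le_mul hnk hdw)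
    _ = Nat.card W := by rw [pow_mul, ← hk, ← Nat.card_eq_fintype_card]; exact (Module.natCard_eq_pow_finrank).symm
    _ ≤ Nat.card (Additive A) := Nat.card_le_card_of_injective _ Subtype.val_injective
    _ = Nat.card ↥A := rfl

end Cfsg.Agent.S2912
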