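import Cfsg.Statements.S2916
import Cfsg.Agent.Lib.Char.GLThreeCent.Main
import Cfsg.Agent.Lib.Char.LThreeThree.Uniq
import Cfsg.Agent.Lib.Char.MEleven.Uniq

set_option autoImplicit false
open Cfsg

namespace Cfsg.Agent.S2916

/-- Let G be a finite group with O²(G) = G (no proper normal subgroup of 2-power index), and let t be an involution of G whose centralizer C_G(t) is isomorphic to GL₂(3). Then G is isomorphic to PSL₃(3) or to the Mathieu group M₁₁. -/
theorem result {G : Type*} [Group G] [Finite G] (hO : Cfsg.pResidual 2 G = ⊤) (t : G) (ht : orderOf t = 2) (hC : Nonempty (↥(Subgroup.centralizer ({t} : Set G)) ≃* GL (Fin 2) (ZMod 3))) : (∃ (F : Type) (_ : Field F) (_ : Fintype F), Fintype.card F = 3 ∧ Nonempty (G ≃* Matrix.ProjectiveSpecialLinearGroup (Fin 3) F)) ∨ Cfsg.Spor.IsoM11 G := by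
  classical
  haveI : Fintype G := Fintype.ofFinite G
  haveI : Fact (Nat.Prime 3) := ⟨Nat.prime_three⟩
  obtain ⟨e⟩ := hC
  have hno2 : ∀ H : Subgroup G, H.index ≠ 2 := by
    intro H hH
    have hle : Cfsg.pResidual 2 G ≤ H := by
      refine (Subgroup.closure_le _).2 fun g hg => ?_
      obtain ⟨c, hc⟩ := Nat.coprime_two_right.1 hg
      haveI := Subgroup.normal_of_index_eq_two hH
      have h1 := Subgroup.pow_index_mem (H := H) g
      rw [hH] at h1
      have h2 : g = (g ^ 2) ^ (c + 1) := by
        rw [← pow_mul, show 2 * (c + 1) = orderOf g + 1 by omega, pow_succ, pow_orderOf_eq_one, one_mul]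
      rw [h2]
      exact H.pow_mem h1 _
    rw [hO, top_le_iff] at hle
    rw [hle, Subgroup.index_top] at hH
    norm_num at hH
  obtain ⟨el, hel⟩ := CfsgLib.Char.GLThreeCent.exists_emb t ht e
  rcases hel.card_eq hno2 with h | h
  · left
    exact ⟨ZMod 3, inferInstance, inferInstance, ZMod.card 3, CfsgLib.Char.LThreeThree.iso_psl t ht e h hno2⟩
  · exact Or.inr (CfsgLib.Char.MEleven.iso_m11 t ht e h hno2)

end Cfsg.Agent.S2916
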