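import Cfsg.Statements.S2918
import Cfsg.Agent.Lib.Invol.EightSolv.FinishBig
import Cfsg.Agent.Lib.Invol.EightSolv.FinishSmall
import Cfsg.Agent.Lib.Invol.EightSolv.BlockFalse
import Cfsg.Agent.Lib.Invol.EightSolv.Model

set_option autoImplicit false
open Cfsg

namespace Cfsg.Agent.S2918

/-- Let G be a finite group with O²(G) = G and O₂(G) = O(G) = 1 whose Sylow 2-subgroups are isomorphic to those of the alternating group of degree 8, and suppose that the centralizer in G of every involution in the centre of a Sylow 2-subgroup is solvable. Then G is isomorphic to A₈, A₉ or PSp₄(3). -/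
theorem result {G : Type*} [Group G] [Finite G] (hO2 : Cfsg.pResidual 2 G = ⊤) (hcore2 : Cfsg.pCore 2 G = ⊥) (hodd : Cfsg.oddCore G = ⊥) (S : Sylow 2 G) (hS : ∀ P : Sylow 2 ↥(alternatingGroup (Fin 8)), Nonempty (↥(S : Subgroup G) ≃* ↥(P : Subgroup ↥(alternatingGroup (Fin 8))))) (hsol : ∀ z : G, z ∈ (S : Subgroup G) → (∀ s ∈ (S : Subgroup G), s * z = z * s) → orderOf z = 2 → IsSolvable ↥(Subgroup.centralizer ({z} : Set G))) : Nonempty (G ≃* ↥(alternatingGroup (Fin 8))) ∨ Nonempty (G ≃* ↥(alternatingGroup (Fin 9))) ∨ (∃ (F : Type) (_ : Field F) (_ : Fintype F), Fintype.card F = 3 ∧ Nonempty (G ≃* Cfsg.PSp 2 F)) := by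
  classical
  haveI : Fact (Nat.Prime 2) := ⟨Nat.prime_two⟩
  obtain ⟨P⟩ : Nonempty (Sylow 2 ↥(alternatingGroup (Fin 8))) := inferInstance
  obtain ⟨eS⟩ := hS P
  obtain ⟨eU⟩ := CfsgLib.Invol.EightSolv.U4.nonempty_equiv_sylow P
  set F : CfsgLib.Invol.EightSolv.Frame G := ⟨S, eU.trans eS.symm⟩
  have hF : CfsgLib.Invol.EightSolv.Hyp F :=
    ⟨hO2, hcore2, hodd, hsol F.z F.z_mem_T (fun s hs => F.z_comm hs) F.z_ord⟩
  have hA : ¬ hF.BlockCase := hF.false_of_block
  rcases hF.card_cases with h | h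
  · rcases hF.iso_small hA h (hF.θ_eq_bot hA) with h' | h'
    · exact Or.inl h'
    · exact Or.inr (Or.inl h')
  · exact Or.inr (Or.inr (hF.iso_big hA h))

end Cfsg.Agent.S2918
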