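import Cfsg.Statements.S2923
import Cfsg.Agent.Lib.Invol.PConstrained

set_option autoImplicit false
open Cfsg

namespace Cfsg.Agent.S2923

/-- Let p be a prime and X a finite group of characteristic p, that is C_X(O_p(X)) ≤ O_p(X). Then every subnormal subgroup of X has characteristic p. -/
theorem result {X : Type*} [Group X] [Finite X] {p : ℕ} [Fact p.Prime] (hX : Subgroup.centralizer (Cfsg.pCore p X : Set X) ≤ Cfsg.pCore p X) (Y : Subgroup X) (hY : Y.IsSubnormal) : Subgroup.centralizer (Cfsg.pCore p ↥Y : Set ↥Y) ≤ Cfsg.pCore p ↥Y := by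
  suffices h : ∀ Y : Subgroup X, Y.IsSubnormal → CfsgLib.Invol.PClean p Y from (h Y hY).centralizer_le
  intro Y hY
  induction hY with
  | top => exact CfsgLib.Invol.pClean_congr Subgroup.topEquiv.symm (CfsgLib.Invol.pClean_of_centralizer_le hX)
  | step H K hle hK hn ih =>
      refine CfsgLib.Invol.pClean_congr (Subgroup.subgroupOfEquivOfLe hle) ?_
      set N := H.subgroupOf K with hN
      haveI : N.Normal := hn
      haveI := CfsgLib.Coprime.pCore_normal' (G := K) p
      intro y hyc hy
      set A := Subgroup.zpowers (y : K) with hA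
      set Q := Cfsg.pCore p K with hQ
      have hAQ : A ≤ Subgroup.normalizer (Q : Set K) := by rw [Subgroup.normalizer_eq_top]; exact le_top
      have hcop : (Nat.card A).Coprime (Nat.card Q) := by
        obtain ⟨k, hk⟩ := (CfsgLib.Coprime.pCore_isPGroup (G := K) p).exists_card_eq
        rw [Nat.card_zpowers, Subgroup.orderOf_coe, hk]
        exact hyc.pow_right k
      have hle' : A ≤ Subgroup.centralizer (Q : Set K) := by
        refine CfsgLib.Coprime.le_centralizer_of_le_centralizer_commutator hAQ hcop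
          (Or.inl (CfsgLib.Coprime.isSolvable_of_isMulCommutative (inferInstance : IsMulCommutative A))) ?_
        rw [Subgroup.le_centralizer_iff]
        refine Subgroup.commutator_le.2 fun q hq a ha => Subgroup.mem_centralizer_iff.2 fun w hw => ?_
        have haN : a ∈ N := (Subgroup.zpowers_le.2 y.2 : A ≤ N) ha
        have hcN : q * a * q⁻¹ * a⁻¹ ∈ N := mul_mem (Subgroup.Normal.conj_mem inferInstance a haN q) (inv_mem haN)
        have hcQ : q * a * q⁻¹ * a⁻¹ ∈ Q := by
          rw [show q * a * q⁻¹ * a⁻¹ = q * (a * q⁻¹ * a⁻¹) by group]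
          exact mul_mem hq (Subgroup.Normal.conj_mem inferInstance _ (inv_mem hq) a)
        have hcore : (⟨_, hcN⟩ : N) ∈ Cfsg.pCore p N := by
          have hqn : q * a * q⁻¹ * a⁻¹ ∈ Q ⊓ N := ⟨hcQ, hcN⟩
          haveI : ((Q ⊓ N).subgroupOf N).Normal := Subgroup.Normal.comap inferInstance _
          exact CfsgLib.Coprime.le_pCore (((CfsgLib.Coprime.pCore_isPGroup (G := K) p).to_le inf_le_left).of_equiv
            (Subgroup.subgroupOfEquivOfLe inf_le_right).symm) hqn
        obtain ⟨i, rfl⟩ := Subgroup.mem_zpowers_iff.1 hw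
        have hcy : (q * a * q⁻¹ * a⁻¹) * (y : K) = (y : K) * (q * a * q⁻¹ * a⁻¹) :=
          congrArg Subtype.val (Subgroup.mem_centralizer_iff.1 hy _ hcore)
        exact ((Commute.zpow_right hcy i).eq).symm
      have h1 := ih (y : K) (by rwa [Subgroup.orderOf_coe]) (hle' (Subgroup.mem_zpowers _))
      exact Subtype.ext h1

end Cfsg.Agent.S2923
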