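import Cfsg.Statements.S2924
import Cfsg.Agent.Lib.PGroup.CharPLocal

set_option autoImplicit false
open Cfsg

namespace Cfsg.Agent.S2924

open Subgroup CfsgLib.Coprime

variable {G : Type*} [Group G]

/-- An element inverted by `z` centralizes every element inverted by `z` that it conjugates to an
element inverted by `z`, if it has odd order. -/
private theorem commute_of_inverted {a o z : G} (ha : z * a * z⁻¹ = a⁻¹) (hodd : Odd (orderOf a))
    (ho : z * o * z⁻¹ = o⁻¹) (hao : z * (a * o * a⁻¹) * z⁻¹ = (a * o * a⁻¹)⁻¹) : Commute a o := by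
  have h : a⁻¹ * o⁻¹ * a = a * o⁻¹ * a⁻¹ := by
    calc a⁻¹ * o⁻¹ * a = (z * a * z⁻¹) * (z * o * z⁻¹) * (z * a * z⁻¹)⁻¹ := by rw [ha, ho, inv_inv]
      _ = z * (a * o * a⁻¹) * z⁻¹ := by group
      _ = (a * o * a⁻¹)⁻¹ := hao
      _ = a * o⁻¹ * a⁻¹ := by group
  have h2 : Commute (a ^ 2) o⁻¹ := by
    show a ^ 2 * o⁻¹ = o⁻¹ * a ^ 2
    rw [pow_two]
    calc a * a * o⁻¹ = a * (a * o⁻¹ * a⁻¹) * a := by group
      _ = o⁻¹ * (a * a) := by rw [← h]; group
  obtain ⟨k, hk⟩ := hodd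
  have hpow : (a ^ 2) ^ (k + 1) = a := by
    rw [← pow_mul, show 2 * (k + 1) = (2 * k + 1) + 1 by ring, pow_succ, ← hk, pow_orderOf_eq_one,
      one_mul]
  exact hpow ▸ (Commute.inv_right_iff.1 h2).pow_left (k + 1)

private theorem eq_one_of_two_pow {x : G} {m : ℕ} (h1 : x ^ 2 ^ m = 1) (h2 : Odd (orderOf x)) :
    x = 1 :=
  orderOf_eq_one_iff.1 (Nat.eq_one_of_dvd_coprimes (Nat.Coprime.pow_left m h2.coprime_two_left)
    (orderOf_dvd_of_pow_eq_one h1) dvd_rfl)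

private theorem odd_orderOf_mem [Finite G] {D : Subgroup G} (hD : Odd (Nat.card D)) {x : G}
    (hx : x ∈ D) : Odd (orderOf x) :=
  hD.of_dvd_nat (Subgroup.orderOf_dvd_natCard _ hx)

/-- Balance: in a group without components, odd elements inverted like the odd core lie in it. -/
private theorem balance [Finite G] (hl : Cfsg.layer G = ⊥) {a y z : G} (hy : y ^ 2 = 1)
    (hay : Commute a y) (hza : z * a * z⁻¹ = a⁻¹)
    (hzO : ∀ o ∈ Cfsg.pPrimeCore 2 G, z * o * z⁻¹ = o⁻¹)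
    (D : Subgroup G) (haD : a ∈ D) (hD : Odd (Nat.card D))
    (hDy : centralizer ({y} : Set G) ≤ normalizer (D : Set G)) : a ∈ Cfsg.pPrimeCore 2 G := by
  haveI : Fact (Nat.Prime 2) := ⟨Nat.prime_two⟩
  haveI hOn := (pPrimeCore_characteristic (G := G) 2)
  haveI hUn := pCore_normal' (G := G) 2
  set O := Cfsg.pPrimeCore 2 G with hO
  set U := Cfsg.pCore 2 G with hU
  have haodd : Odd (orderOf a) := odd_orderOf_mem hD haD
  have hcO : ∀ o ∈ O, Commute a o := fun o ho =>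
    commute_of_inverted hza haodd (hzO o ho) (hzO _ ((inferInstance : O.Normal).conj_mem o ho a))
  have hP : IsPGroup 2 (zpowers y) := IsPGroup.of_card_dvd_pow (n := 1) (by
    rw [Nat.card_zpowers, pow_one]; exact orderOf_dvd_of_pow_eq_one hy)
  have haU : zpowers a ≤ centralizer (U : Set G) := by
    refine pq_lemma hP ?_ (pCore_isPGroup 2) ?_ (normalizer_eq_top U ▸ le_top)
      (normalizer_eq_top U ▸ le_top) ?_
    · rw [Nat.card_zpowers]; exact haodd.coprime_two_right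
    · refine zpowers_le.2 (mem_centralizer_iff.2 fun w hw => ?_)
      obtain ⟨n, rfl⟩ := mem_zpowers_iff.1 hw
      exact (hay.zpow_left n).eq
    · rintro u ⟨huU, huy⟩
      refine mem_centralizer_iff.2 fun w hw => ?_
      obtain ⟨n, rfl⟩ := mem_zpowers_iff.1 hw
      have huN := hDy (mem_centralizer_singleton_iff.2
        (mem_centralizer_iff.1 huy y (mem_zpowers y)).symm)
      have h1 : a * u * a⁻¹ * u⁻¹ = 1 := by
        have hmemU : a * u * a⁻¹ * u⁻¹ ∈ U := mul_mem (hUn.conj_mem u huU a) (inv_mem huU)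
        have hmemD : a * u * a⁻¹ * u⁻¹ ∈ D := by
          rw [show a * u * a⁻¹ * u⁻¹ = a * (u * a⁻¹ * u⁻¹) by group]
          exact mul_mem haD ((Subgroup.mem_normalizer_iff.1 huN _).1 (inv_mem haD))
        obtain ⟨m, hm⟩ := pCore_isPGroup (G := G) 2 ⟨_, hmemU⟩
        exact eq_one_of_two_pow (congrArg Subtype.val hm) (odd_orderOf_mem hD hmemD)
      have hc : Commute a u := by
        show a * u = u * a
        calc a * u = (a * u * a⁻¹ * u⁻¹) * (u * a) := by group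
          _ = u * a := by rw [h1, one_mul]
      exact (hc.zpow_left n).eq
  have haF : a ∈ centralizer (Cfsg.fittingSubgroup G : Set G) := by
    rw [← zpowers_le, le_centralizer_iff, fitting_eq_iSup_pCore]
    refine iSup_le fun q => ?_
    by_cases hq : (q : ℕ) = 2
    · rw [hq, le_centralizer_iff]; exact haU
    · haveI := Fact.mk q.2
      intro o ho
      refine mem_centralizer_iff.2 fun w hw => ?_
      obtain ⟨n, rfl⟩ := mem_zpowers_iff.1 hw
      exact ((hcO o (pCore_le_pPrimeCore_of_ne hq ho)).zpow_left n).eq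
  have hFle : Cfsg.fittingSubgroup G ≤ U ⊔ O := by
    rw [fitting_eq_iSup_pCore]
    refine iSup_le fun q => ?_
    by_cases hq : (q : ℕ) = 2
    · rw [hq]; exact le_sup_left
    · haveI := Fact.mk q.2
      exact (pCore_le_pPrimeCore_of_ne hq).trans le_sup_right
  obtain ⟨u, hu, o, ho, he⟩ := Subgroup.mem_sup_of_normal_right.1
    (hFle (centralizer_fitting_le_of_layer_eq_bot hl haF))
  obtain ⟨m, hm⟩ := pCore_isPGroup (G := G) 2 ⟨u, hu⟩
  have hu1 : u = 1 := eq_one_of_two_pow (congrArg Subtype.val hm) (by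
    have hoo : Odd (orderOf o) := by
      have := pPrimeCore_coprime (G := G) Nat.prime_two
      exact odd_orderOf_mem (Nat.coprime_two_right.1 this) ho
    rw [show u = a * o⁻¹ by rw [← he]; group]
    exact (haodd.mul (orderOf_inv o ▸ hoo)).of_dvd_nat
      (Commute.orderOf_mul_dvd_mul_orderOf ((hcO o ho).inv_right)))
  rw [← he, hu1, one_mul]
  exact ho

/-- The odd core of the centralizer of `y`. -/
private noncomputable def th (y : G) : Subgroup G :=
  (Cfsg.oddCore ↥(centralizer ({y} : Set G))).map (centralizer ({y} : Set G)).subtype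

variable [Finite G]

private theorem th_le (y : G) : th y ≤ centralizer ({y} : Set G) := map_subtype_le _

private theorem th_odd (y : G) : Odd (Nat.card (th y)) := by
  rw [th, card_map_of_injective (subtype_injective _)]
  exact Nat.coprime_two_right.1 (pPrimeCore_coprime Nat.prime_two)

private theorem th_norm (y : G) : centralizer ({y} : Set G) ≤ normalizer (th y : Set G) := by
  haveI := pPrimeCore_characteristic (G := ↥(centralizer ({y} : Set G))) 2
  exact le_normalizer.trans (CfsgLib.PGroup.le_normalizer_map_char _)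

private theorem th_conj (n y : G) : (th y).map (MulAut.conj n).toMonoidHom = th (n * y * n⁻¹) := by
  have h := CfsgLib.CharPLoc.centralizer_singleton_map n y
  rw [th, th, map_map, ← h]
  set C := centralizer ({y} : Set G)
  show _ = map _ (Cfsg.pPrimeCore 2 ↥(C.map (MulAut.conj n).toMonoidHom))
  rw [← map_pPrimeCore_equiv (C.equivMapOfInjective (MulAut.conj n).toMonoidHom (MulAut.conj n).injective) 2, map_map]
  rfl

private theorem th_balance {Y : Subgroup G} (hab : ∀ s ∈ Y, ∀ t ∈ Y, Commute s t)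
    (hsq : ∀ s ∈ Y, s ^ 2 = 1)
    (hE : ∀ x ∈ Y, x ≠ 1 → Cfsg.layer ↥(centralizer ({x} : Set G)) = ⊥) {z : G} (hz : z ∈ Y)
    (hinv : ∀ y ∈ Y, y ≠ 1 → ∀ a ∈ th y, z * a * z⁻¹ = a⁻¹) {y1 y2 : G} (h1 : y1 ∈ Y)
    (n1 : y1 ≠ 1) (h2 : y2 ∈ Y) (n2 : y2 ≠ 1) {a : G} (ha : a ∈ th y1)
    (hc : Commute a y2) : a ∈ th y2 := by
  set H := centralizer ({y2} : Set G) with hH
  have haH : a ∈ H := mem_centralizer_singleton_iff.2 hc.eq
  have hy1H : y1 ∈ H := mem_centralizer_singleton_iff.2 (hab _ h1 _ h2).eq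
  have hzH : z ∈ H := mem_centralizer_singleton_iff.2 (hab _ hz _ h2).eq
  have hay : Commute a y1 := mem_centralizer_singleton_iff.1 (th_le y1 ha)
  have hb := balance (G := ↥H) (hE y2 h2 n2) (a := ⟨a, haH⟩) (y := ⟨y1, hy1H⟩) (z := ⟨z, hzH⟩)
    (Subtype.ext (hsq y1 h1)) (Subtype.ext hay.eq) (Subtype.ext (hinv y1 h1 n1 a ha))
    (fun o ho => Subtype.ext (hinv y2 h2 n2 _ (mem_map_of_mem _ ho)))
    ((th y1).subgroupOf H) (mem_subgroupOf.2 ha) ?_ ?_
  · exact ⟨_, hb, rfl⟩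
  · refine (th_odd y1).of_dvd_nat ?_
    rw [← card_map_of_injective H.subtype_injective]
    refine card_dvd_of_le ?_
    rw [subgroupOf_map_subtype]
    exact inf_le_left
  · intro u hu
    have hu' : (u : G) ∈ centralizer ({y1} : Set G) :=
      mem_centralizer_singleton_iff.2 (congrArg Subtype.val (mem_centralizer_singleton_iff.1 hu))
    refine Subgroup.mem_normalizer_iff.2 fun x => ?_
    simp only [mem_subgroupOf]
    exact Subgroup.mem_normalizer_iff.1 (th_norm y1 hu') x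

/-- An element of an odd core commutes with `c` as soon as its two parts under an involution do. -/
private theorem commute_of_split {y w a c : G} (hw : w ^ 2 = 1) (hwy : Commute w y)
    (hthc : ∀ s ∈ th y, ∀ t ∈ th y, Commute s t) (ha : a ∈ th y)
    (h : ∀ s ∈ th y, (w * s * w⁻¹ = s ∨ w * s * w⁻¹ = s⁻¹) →
      (∀ v : G, v * a * v⁻¹ = a → Commute v w → v * s * v⁻¹ = s) →
      (∀ v : G, v * a * v⁻¹ = a⁻¹ → Commute v w → v * s * v⁻¹ = s⁻¹) → Commute s c) :
    Commute a c := by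
  have hwa : w * a * w⁻¹ ∈ th y :=
    (Subgroup.mem_normalizer_iff.1 (th_norm y (mem_centralizer_singleton_iff.2 hwy.eq)) a).1 ha
  have hcm : Commute a (w * a * w⁻¹) := hthc a ha _ hwa
  have hww : w * w = 1 := by rwa [← pow_two]
  have hi : w⁻¹ = w := inv_eq_of_mul_eq_one_right hww
  have htw : w * (w * a * w⁻¹) * w⁻¹ = a := by
    rw [hi]
    calc w * (w * a * w) * w = (w * w) * a * (w * w) := by group
      _ = a := by rw [hww, one_mul, mul_one]
  have hv : ∀ {v t : G}, v * a * v⁻¹ = t → Commute v w → v * (w * a * w⁻¹) * v⁻¹ = w * t * w⁻¹ := by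
    intro v t hvt hvw
    calc v * (w * a * w⁻¹) * v⁻¹ = (v * w) * a * (v * w)⁻¹ := by group
      _ = (w * v) * a * (w * v)⁻¹ := by rw [hvw.eq]
      _ = w * (v * a * v⁻¹) * w⁻¹ := by group
      _ = w * t * w⁻¹ := by rw [hvt]
  have hs1 := h (a * (w * a * w⁻¹)) (mul_mem ha hwa) (Or.inl (by
    calc w * (a * (w * a * w⁻¹)) * w⁻¹ = (w * a * w⁻¹) * (w * (w * a * w⁻¹) * w⁻¹) := by group
      _ = a * (w * a * w⁻¹) := by rw [htw, hcm.eq]))
    (fun v hva hvw => by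
      calc v * (a * (w * a * w⁻¹)) * v⁻¹ = (v * a * v⁻¹) * (v * (w * a * w⁻¹) * v⁻¹) := by group
        _ = _ := by rw [hva, hv hva hvw])
    (fun v hva hvw => by
      calc v * (a * (w * a * w⁻¹)) * v⁻¹ = (v * a * v⁻¹) * (v * (w * a * w⁻¹) * v⁻¹) := by group
        _ = a⁻¹ * (w * a * w⁻¹)⁻¹ := by rw [hva, hv hva hvw]; group
        _ = _ := by rw [← mul_inv_rev, hcm.eq])
  have hs2 := h (a * (w * a * w⁻¹)⁻¹) (mul_mem ha (inv_mem hwa)) (Or.inr (by
    calc w * (a * (w * a * w⁻¹)⁻¹) * w⁻¹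
        = (w * a * w⁻¹) * (w * (w * a * w⁻¹) * w⁻¹)⁻¹ := by group
      _ = (w * a * w⁻¹) * a⁻¹ := by rw [htw]
      _ = _ := by group))
    (fun v hva hvw => by
      calc v * (a * (w * a * w⁻¹)⁻¹) * v⁻¹ = (v * a * v⁻¹) * (v * (w * a * w⁻¹) * v⁻¹)⁻¹ := by group
        _ = _ := by rw [hva, hv hva hvw])
    (fun v hva hvw => by
      calc v * (a * (w * a * w⁻¹)⁻¹) * v⁻¹ = (v * a * v⁻¹) * (v * (w * a * w⁻¹) * v⁻¹)⁻¹ := by group
        _ = a⁻¹ * (w * a * w⁻¹) := by rw [hva, hv hva hvw]; group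
        _ = (w * a * w⁻¹) * a⁻¹ := hcm.inv_left.eq
        _ = _ := by group)
  have h3 : a ^ 2 = (a * (w * a * w⁻¹)) * (a * (w * a * w⁻¹)⁻¹) := by
    rw [pow_two]
    calc a * a = a * (a * (w * a * w⁻¹)) * (w * a * w⁻¹)⁻¹ := by group
      _ = a * ((w * a * w⁻¹) * a) * (w * a * w⁻¹)⁻¹ := by rw [hcm.eq]
      _ = _ := by group
  have h4 : Commute (a ^ 2) c := h3 ▸ hs1.mul_left hs2
  obtain ⟨k, hk⟩ := odd_orderOf_mem (th_odd y) ha
  have hpow : (a ^ 2) ^ (k + 1) = a := by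
    rw [← pow_mul, show 2 * (k + 1) = (2 * k + 1) + 1 by ring, pow_succ, ← hk, pow_orderOf_eq_one,
      one_mul]
  exact hpow ▸ h4.pow_left (k + 1)

private theorem th_inverted {z y : G} (hz : z ^ 2 = 1) (hclean : CfsgLib.Invol.PClean 2 ↥(centralizer ({z} : Set G)))
    (hy : y ^ 2 = 1) (hyz : Commute y z) {a : G} (ha : a ∈ th y) : z * a * z⁻¹ = a⁻¹ := by
  haveI : Fact (Nat.Prime 2) := ⟨Nat.prime_two⟩
  set X := centralizer ({z} : Set G)
  have hP : IsPGroup 2 (zpowers y) := IsPGroup.of_card_dvd_pow (n := 1) (by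
    rw [Nat.card_zpowers, pow_one]; exact orderOf_dvd_of_pow_eq_one hy)
  have hyX : zpowers y ≤ normalizer (X : Set G) :=
    (zpowers_le.2 (mem_centralizer_singleton_iff.2 hyz.eq) : zpowers y ≤ X).trans le_normalizer
  have hclean2 := CfsgLib.Invol.pClean_inf_centralizer hclean hP hyX
  rw [← CfsgLib.CharPLoc.centralizer_singleton_eq y] at hclean2
  set W := X ⊓ centralizer ({y} : Set G)
  have hbot := hclean2.pPrimeCore_eq_bot
  have hfix : ∀ x ∈ th y, z * x * z⁻¹ = x → x = 1 := by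
    intro x hx hzx
    have hxX : x ∈ X := mem_centralizer_singleton_iff.2 (by
      calc x * z = (z * x * z⁻¹) * z := by rw [hzx]
        _ = z * x := by group)
    haveI : ((th y).subgroupOf W).Normal := ⟨fun t ht g => mem_subgroupOf.2
      ((Subgroup.mem_normalizer_iff.1 (th_norm y g.2.2) _).1 (mem_subgroupOf.1 ht))⟩
    have hle : (th y).subgroupOf W ≤ Cfsg.pPrimeCore 2 ↥W := le_pPrimeCore (by
      refine Nat.Coprime.coprime_dvd_left ?_ (th_odd y).coprime_two_right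
      rw [← card_map_of_injective W.subtype_injective, subgroupOf_map_subtype]
      exact card_dvd_of_le inf_le_left)
    have h1 : (⟨x, hxX, th_le y hx⟩ : W) = 1 := by
      rw [← Subgroup.mem_bot, ← hbot]
      exact hle (mem_subgroupOf.2 hx)
    exact congrArg Subtype.val h1
  have hzy : z ∈ normalizer (th y : Set G) :=
    th_norm y (mem_centralizer_singleton_iff.2 hyz.eq.symm)
  have hmem : ∀ x ∈ th y, x⁻¹ * (z * x * z⁻¹) ∈ th y := fun x hx =>
    mul_mem (inv_mem hx) ((Subgroup.mem_normalizer_iff.1 hzy x).1 hx)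
  let f : ↥(th y) → ↥(th y) := fun x => ⟨(x : G)⁻¹ * (z * x * z⁻¹), hmem x x.2⟩
  have hf : Function.Injective f := by
    intro x1 x2 h
    have h' : (x1 : G)⁻¹ * (z * x1 * z⁻¹) = (x2 : G)⁻¹ * (z * x2 * z⁻¹) := congrArg Subtype.val h
    refine Subtype.ext (mul_inv_eq_one.1 (hfix _ (mul_mem x1.2 (inv_mem x2.2)) ?_))
    calc z * ((x1 : G) * (x2 : G)⁻¹) * z⁻¹
        = (x1 : G) * ((x1 : G)⁻¹ * (z * x1 * z⁻¹)) * ((x2 : G)⁻¹ * (z * x2 * z⁻¹))⁻¹ * (x2 : G)⁻¹ := by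
          group
      _ = (x1 : G) * (x2 : G)⁻¹ := by rw [h']; group
  obtain ⟨x, hx⟩ := (Finite.injective_iff_surjective.1 hf) ⟨a, ha⟩
  have hx' : (x : G)⁻¹ * (z * x * z⁻¹) = a := congrArg Subtype.val hx
  have hi : z⁻¹ = z := inv_eq_of_mul_eq_one_right (by rwa [← pow_two])
  rw [← hx']
  calc z * ((x : G)⁻¹ * (z * x * z⁻¹)) * z⁻¹ = (z * (x : G)⁻¹ * z) * (x : G) * (z⁻¹ * z⁻¹) := by group
    _ = (z * (x : G)⁻¹ * z⁻¹) * (x : G) * (z⁻¹ * z⁻¹) := by rw [hi]
    _ = _ := by rw [show z⁻¹ * z⁻¹ = (1 : G) by rw [← mul_inv_rev, ← pow_two, hz, inv_one]]; group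

omit [Finite G] in
private theorem fix_mul {u v s : G} (hu : u * s * u⁻¹ = s) (hv : v * s * v⁻¹ = s) :
    u * v * s * (u * v)⁻¹ = s := by
  calc u * v * s * (u * v)⁻¹ = u * (v * s * v⁻¹) * u⁻¹ := by group
    _ = s := by rw [hv, hu]

omit [Finite G] in
private theorem inv_mul_fix {u v s : G} (hu : u * s * u⁻¹ = s⁻¹) (hv : v * s * v⁻¹ = s) :
    u * v * s * (u * v)⁻¹ = s⁻¹ := by
  calc u * v * s * (u * v)⁻¹ = u * (v * s * v⁻¹) * u⁻¹ := by group
    _ = s⁻¹ := by rw [hv, hu]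

omit [Finite G] in
private theorem fix_mul_inv {u v s : G} (hu : u * s * u⁻¹ = s) (hv : v * s * v⁻¹ = s⁻¹) :
    u * v * s * (u * v)⁻¹ = s⁻¹ := by
  calc u * v * s * (u * v)⁻¹ = u * (v * s * v⁻¹) * u⁻¹ := by group
    _ = (u * s * u⁻¹)⁻¹ := by rw [hv]; group
    _ = s⁻¹ := by rw [hu]

omit [Finite G] in
private theorem inv_mul_inv {u v s : G} (hu : u * s * u⁻¹ = s⁻¹) (hv : v * s * v⁻¹ = s⁻¹) :
    u * v * s * (u * v)⁻¹ = s := by
  calc u * v * s * (u * v)⁻¹ = u * (v * s * v⁻¹) * u⁻¹ := by group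
    _ = (u * s * u⁻¹)⁻¹ := by rw [hv]; group
    _ = s := by rw [hu, inv_inv]

omit [Finite G] in
private theorem commute_of_fix {u s : G} (hu : u * s * u⁻¹ = s) : Commute s u := by
  show s * u = u * s
  calc s * u = (u * s * u⁻¹) * u := by rw [hu]
    _ = u * s := by group

private theorem th_commute {Y : Subgroup G} (hab : ∀ s ∈ Y, ∀ t ∈ Y, Commute s t)
    (hsq : ∀ s ∈ Y, s ^ 2 = 1) (h8 : 8 ≤ Nat.card Y)
    (hE : ∀ x ∈ Y, x ≠ 1 → Cfsg.layer ↥(centralizer ({x} : Set G)) = ⊥) {z : G} (hz : z ∈ Y)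
    (hinv : ∀ y ∈ Y, y ≠ 1 → ∀ a ∈ th y, z * a * z⁻¹ = a⁻¹) {y1 y2 : G} (h1 : y1 ∈ Y)
    (n1 : y1 ≠ 1) (h2 : y2 ∈ Y) (n2 : y2 ≠ 1) {a b : G} (ha : a ∈ th y1) (hb : b ∈ th y2) :
    Commute a b := by
  classical
  have habel : ∀ y ∈ Y, y ≠ 1 → ∀ s ∈ th y, ∀ t ∈ th y, Commute s t := by
    intro y hy ny s hs t ht
    have h := hinv y hy ny _ (mul_mem hs ht)
    have h' : s⁻¹ * t⁻¹ = t⁻¹ * s⁻¹ := by
      rw [← hinv y hy ny s hs, ← hinv y hy ny t ht]
      calc z * s * z⁻¹ * (z * t * z⁻¹) = z * (s * t) * z⁻¹ := by group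
        _ = (s * t)⁻¹ := h
        _ = _ := by rw [hinv y hy ny s hs, hinv y hy ny t ht, mul_inv_rev]
    show s * t = t * s
    calc s * t = (t⁻¹ * s⁻¹)⁻¹ := by group
      _ = (s⁻¹ * t⁻¹)⁻¹ := by rw [h']
      _ = t * s := by group
  have key : ∀ y ∈ Y, y ≠ 1 → ∀ y' ∈ Y, y' ≠ 1 → ∀ s ∈ th y, y' * s * y'⁻¹ = s → s ∈ th y' :=
    fun y hy ny y' hy' ny' s hs h => th_balance hab hsq hE hz hinv hy ny hy' ny' hs (commute_of_fix h)
  obtain ⟨w, hw, hw'⟩ : ∃ w ∈ Y, w ∉ ({1, y1, y2, y1 * y2} : Finset G) := by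
    by_contra hcon
    push Not at hcon
    haveI := Fintype.ofFinite G
    have hle : Nat.card Y ≤ ({1, y1, y2, y1 * y2} : Finset G).card := by
      rw [← Set.ncard_coe_finset, ← Nat.card_coe_set_eq]
      exact Nat.card_le_card_of_injective (fun x : Y => (⟨(x : G), hcon x x.2⟩ :
        ↥(({1, y1, y2, y1 * y2} : Finset G) : Set G))) fun _ _ h =>
          Subtype.ext (congrArg Subtype.val h :)
    have h4 : ({1, y1, y2, y1 * y2} : Finset G).card ≤ 4 := Finset.card_le_four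
    omega
  simp only [Finset.mem_insert, Finset.mem_singleton, not_or] at hw'
  obtain ⟨hw1, hwy1, hwy2, hw12⟩ := hw'
  have sq' : ∀ s ∈ Y, s * s = 1 := fun s hs => by rw [← pow_two]; exact hsq s hs
  have hcancel : ∀ {s t : G}, s ∈ Y → t * s = 1 → t = s := fun hs h =>
    (eq_inv_of_mul_eq_one_left h).trans (inv_eq_of_mul_eq_one_right (sq' _ hs))
  have fix1 : ∀ s ∈ th y1, y1 * s * y1⁻¹ = s := fun s hs => by
    rw [← (mem_centralizer_singleton_iff.1 (th_le y1 hs)), mul_inv_cancel_right]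
  have fix2 : ∀ s ∈ th y2, y2 * s * y2⁻¹ = s := fun s hs => by
    rw [← (mem_centralizer_singleton_iff.1 (th_le y2 hs)), mul_inv_cancel_right]
  refine commute_of_split (hsq y2 h2) (hab _ h2 _ h1) (habel y1 h1 n1) ha
    (fun s hs hsy _ _ => ?_)
  rcases hsy with hsy | hsy
  · exact habel y2 h2 n2 s (key y1 h1 n1 y2 h2 n2 s hs hsy) b hb
  symm
  refine commute_of_split (hsq y1 h1) (hab _ h1 _ h2) (habel y2 h2 n2) hb
    (fun t ht hty _ _ => ?_)
  rcases hty with hty | hty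
  · exact habel y1 h1 n1 t (key y2 h2 n2 y1 h1 n1 t ht hty) s hs
  symm
  refine commute_of_split (hsq w hw) (hab _ hw _ h1) (habel y1 h1 n1) hs
    (fun s' hs' hs'w _ hneg => ?_)
  have s'y2 := hneg y2 hsy (hab _ h2 _ hw)
  have s'y1 := fix1 s' hs'
  symm
  refine commute_of_split (hsq w hw) (hab _ hw _ h2) (habel y2 h2 n2) ht
    (fun t' ht' ht'w _ hneg' => ?_)
  have t'y1 := hneg' y1 hty (hab _ h1 _ hw)
  have t'y2 := fix2 t' ht'
  have fin : ∀ y3 ∈ Y, y3 ≠ 1 → y3 * s' * y3⁻¹ = s' → y3 * t' * y3⁻¹ = t' → Commute t' s' :=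
    fun y3 h3 n3 hs3 ht3 => habel y3 h3 n3 t' (key y2 h2 n2 y3 h3 n3 t' ht' ht3) s'
      (key y1 h1 n1 y3 h3 n3 s' hs' hs3)
  rcases hs'w with hsw | hsw <;> rcases ht'w with htw | htw
  · exact fin w hw hw1 hsw htw
  · exact fin (w * y1) (mul_mem hw h1) (fun h => hwy1 (hcancel h1 h)) (fix_mul hsw s'y1)
      (inv_mul_inv htw t'y1)
  · exact fin (w * y2) (mul_mem hw h2) (fun h => hwy2 (hcancel h2 h)) (inv_mul_inv hsw s'y2)
      (fix_mul htw t'y2)
  · refine fin (w * (y1 * y2)) (mul_mem hw (mul_mem h1 h2))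
      (fun h => hw12 (hcancel (mul_mem h1 h2) h)) (inv_mul_inv hsw (fix_mul_inv s'y1 s'y2))
      (inv_mul_inv htw (inv_mul_fix t'y1 t'y2))


/-- Let X be a finite group and Y an elementary abelian 2-subgroup of X of order at least 8 such that C_X(x) has no components (E(C_X(x)) = 1) for every nontrivial x ∈ Y, and F*(C_X(z)) = O₂(C_X(z)) for some nontrivial z ∈ Y. Then the subgroup generated by the cores O(C_X(y)), y ∈ Y nontrivial, has odd order and is normalized by N_X(Y). -/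
theorem result {X : Type*} [Group X] [Finite X] (Y : Subgroup X) (hY : Cfsg.IsElementaryAbelian 2 Y) (h8 : 8 ≤ Nat.card ↥Y) (hE : ∀ x ∈ Y, x ≠ 1 → Cfsg.layer ↥(Subgroup.centralizer ({x} : Set X)) = ⊥) (hz : ∃ z ∈ Y, z ≠ 1 ∧ Cfsg.generalizedFittingSubgroup ↥(Subgroup.centralizer ({z} : Set X)) = Cfsg.pCore 2 ↥(Subgroup.centralizer ({z} : Set X))) : Odd (Nat.card ↥(⨆ y : {y : X // y ∈ Y ∧ y ≠ 1}, (Cfsg.oddCore ↥(Subgroup.centralizer ({(y : X)} : Set X))).map (Subgroup.centralizer ({(y : X)} : Set X)).subtype)) ∧ Subgroup.normalizer (Y : Set X) ≤ Subgroup.normalizer ((⨆ y : {y : X // y ∈ Y ∧ y ≠ 1}, (Cfsg.oddCore ↥(Subgroup.centralizer ({(y : X)} : Set X))).map (Subgroup.centralizer ({(y : X)} : Set X)).subtype : Subgroup X) : Set X) := by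
  haveI : Fact (Nat.Prime 2) := ⟨Nat.prime_two⟩
  obtain ⟨z, hzY, hz1, hzF⟩ := hz
  have hab : ∀ s ∈ Y, ∀ t ∈ Y, Commute s t := fun s hs t ht =>
    congrArg Subtype.val (hY.1.is_comm.comm (⟨s, hs⟩ : Y) ⟨t, ht⟩)
  have hsq : ∀ s ∈ Y, s ^ 2 = 1 := fun s hs => hY.2 s hs
  have hclean := CfsgLib.CharPLoc.fStar_eq_pCore_iff.1 hzF
  have hinv : ∀ y ∈ Y, y ≠ 1 → ∀ a ∈ th y, z * a * z⁻¹ = a⁻¹ := fun y hy _ a ha =>
    th_inverted (hsq z hzY) hclean (hsq y hy) (hab _ hy _ hzY) ha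
  change Odd (Nat.card ↥(⨆ y : {y : X // y ∈ Y ∧ y ≠ 1}, th (y : X))) ∧
    Subgroup.normalizer (Y : Set X) ≤
      Subgroup.normalizer ((⨆ y : {y : X // y ∈ Y ∧ y ≠ 1}, th (y : X) : Subgroup X) : Set X)
  set K := ⨆ y : {y : X // y ∈ Y ∧ y ≠ 1}, th (y : X) with hK
  have hcomm : ∀ s ∈ K, ∀ t ∈ K, Commute s t := by
    have h1 : K ≤ Subgroup.centralizer (K : Set X) := by
      refine iSup_le fun y => Subgroup.le_centralizer_iff.1 (iSup_le fun y' => ?_)
      intro b hb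
      exact Subgroup.mem_centralizer_iff.2 fun a ha =>
        (th_commute hab hsq h8 hE hzY hinv y.2.1 y.2.2 y'.2.1 y'.2.2 ha hb).eq
    exact fun s hs t ht => Subgroup.mem_centralizer_iff.1 (h1 ht) s hs
  refine ⟨?_, ?_⟩
  · by_contra hev
    rw [Nat.not_odd_iff_even] at hev
    obtain ⟨x, hx⟩ := exists_prime_orderOf_dvd_card' 2 hev.two_dvd
    have hodd : ∀ t ∈ K, Odd (orderOf t) := by
      intro t ht
      refine Subgroup.iSup_induction (C := fun t => t ∈ K ∧ Odd (orderOf t))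
        (fun y : {y : X // y ∈ Y ∧ y ≠ 1} => th (y : X)) ht ?_ ?_ ?_ |>.2
      · exact fun y s hs => ⟨Subgroup.mem_iSup_of_mem y hs, odd_orderOf_mem (th_odd _) hs⟩
      · exact ⟨one_mem _, by rw [orderOf_one]; exact odd_one⟩
      · rintro s t ⟨hs, hso⟩ ⟨ht, hto⟩
        exact ⟨mul_mem hs ht, (hso.mul hto).of_dvd_nat (hcomm s hs t ht).orderOf_mul_dvd_mul_orderOf⟩
    have h3 := hodd x x.2
    rw [Subgroup.orderOf_coe, hx] at h3
    exact absurd h3 (by decide)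
  · intro n hn
    refine CfsgLib.Fusion.conjBy_eq_iff.1 (CfsgLib.Fusion.conjBy_eq_of_le ?_)
    show K.map (MulAut.conj n).toMonoidHom ≤ K
    rw [hK, Subgroup.map_iSup]
    refine iSup_le fun y => ?_
    rw [th_conj]
    have hmem : n * (y : X) * n⁻¹ ∈ Y := (Subgroup.mem_normalizer_iff.1 hn _).1 y.2.1
    exact le_iSup_of_le (f := fun y : {y : X // y ∈ Y ∧ y ≠ 1} => th (y : X))
      ⟨_, hmem, fun h => y.2.2 (conj_eq_one_iff.1 h)⟩ le_rfl

end Cfsg.Agent.S2924
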