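import Cfsg.Statements.S2925
import Cfsg.Agent.Lib.LocalStructure.Kieler
import Cfsg.Agent.Lib.Coprime.Component

set_option autoImplicit false
open Cfsg

namespace Cfsg.Agent.S2925

/-- Let K be a component of the finite group X and T a Sylow 2-subgroup of X. If some abelian normal subgroup Y of T does not normalize K, then K ⧸ Z(K) has abelian Sylow 2-subgroups. -/
theorem result {X : Type*} [Group X] [Finite X] (K : Subgroup X) (hK : Cfsg.IsComponent K) (T : Sylow 2 X) (Y : Subgroup X) (hYT : Y ≤ (T : Subgroup X)) (hYn : (Y.subgroupOf (T : Subgroup X)).Normal) (hYab : IsMulCommutative ↥Y) (hnot : ¬ Y ≤ Subgroup.normalizer (K : Set X)) (P : Sylow 2 (↥K ⧸ Subgroup.center ↥K)) : IsMulCommutative ↥(P : Subgroup (↥K ⧸ Subgroup.center ↥K)) := by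
  obtain ⟨y, hyY, hyN⟩ := SetLike.not_le_iff_exists.1 hnot
  let e := MulAut.conj y
  have hK' : Cfsg.IsComponent (K.map e.toMonoidHom) :=
    CfsgLib.Coprime.isComponent_map_equiv e hK
  have hne : K ≠ K.map e.toMonoidHom := fun h =>
    hyN (Subgroup.mem_normalizer_iff_map_conj_eq.2 h.symm)
  have hcomm : ∀ a ∈ K, ∀ b ∈ K.map e.toMonoidHom, a * b = b * a :=
    CfsgLib.Coprime.commutator_eq_bot_iff_forall.1
      (CfsgLib.Coprime.components_commute hK hK' hne)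
  obtain ⟨R, hR⟩ := CfsgLib.LS.sylow_inf_subnormal T hK.1
  let q := QuotientGroup.mk' (Subgroup.center ↥K)
  have hq : Function.Surjective q := QuotientGroup.mk'_surjective _
  let R' := R.mapSurjective hq
  have hR'comm : IsMulCommutative ↥(R' : Subgroup (↥K ⧸ Subgroup.center ↥K)) := by
    refine ⟨⟨?_⟩⟩
    rintro ⟨_, s₁, hs₁, rfl⟩ ⟨_, s₂, hs₂, rfl⟩
    refine Subtype.ext ?_
    show q s₁ * q s₂ = q s₂ * q s₁
    rw [← map_mul, ← map_mul]
    have hT : ∀ s : ↥K, s ∈ (R : Subgroup ↥K) →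
        ∃ u ∈ K.map e.toMonoidHom, (s : X) * u ∈ Y := by
      intro s hs
      have hsT : (s : X) ∈ (T : Subgroup X) := (hR.le (Subgroup.mem_map_of_mem K.subtype hs)).1
      refine ⟨y * (s : X)⁻¹ * y⁻¹, ⟨(s : X)⁻¹, inv_mem s.2, rfl⟩, ?_⟩
      have h1 : (s : X) * y * (s : X)⁻¹ ∈ Y :=
        hYn.conj_mem ⟨y, hYT hyY⟩ hyY ⟨(s : X), hsT⟩
      have h2 := mul_mem h1 (inv_mem hyY)
      convert h2 using 1
      group
    obtain ⟨u₁, hu₁, h₁⟩ := hT s₁ hs₁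
    obtain ⟨u₂, hu₂, h₂⟩ := hT s₂ hs₂
    have hc : ((s₁ : X) * u₁) * ((s₂ : X) * u₂) = ((s₂ : X) * u₂) * ((s₁ : X) * u₁) :=
      congrArg Subtype.val (hYab.is_comm.comm ⟨_, h₁⟩ ⟨_, h₂⟩)
    have ha : ((s₁ : X) * u₁) * ((s₂ : X) * u₂) = ((s₁ : X) * s₂) * (u₁ * u₂) := by
      refine Commute.mul_mul_mul_comm ?_ _ _
      exact (hcomm _ s₂.2 _ hu₁).symm
    have hb : ((s₂ : X) * u₂) * ((s₁ : X) * u₁) = ((s₂ : X) * s₁) * (u₂ * u₁) := by
      refine Commute.mul_mul_mul_comm ?_ _ _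
      exact (hcomm _ s₁.2 _ hu₂).symm
    rw [ha, hb] at hc
    have heq : ((s₂ : X) * s₁)⁻¹ * ((s₁ : X) * s₂) = (u₂ * u₁) * (u₁ * u₂)⁻¹ := by
      rw [eq_mul_inv_iff_mul_eq, mul_assoc, hc, inv_mul_cancel_left]
    refine (inv_mul_eq_one.1 (?_ : (q (s₂ * s₁))⁻¹ * q (s₁ * s₂) = 1)).symm
    rw [← map_inv, ← map_mul]
    refine (QuotientGroup.eq_one_iff _).2 ?_
    refine Subgroup.mem_center_iff.2 fun k => Subtype.ext ?_
    show (k : X) * (((s₂ : X) * s₁)⁻¹ * ((s₁ : X) * s₂))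
      = (((s₂ : X) * s₁)⁻¹ * ((s₁ : X) * s₂)) * (k : X)
    rw [heq]
    exact hcomm _ k.2 _ (mul_mem (mul_mem hu₂ hu₁) (inv_mem (mul_mem hu₁ hu₂)))
  let f := R'.equiv P
  refine ⟨⟨fun a b => f.symm.injective ?_⟩⟩
  rw [map_mul, map_mul]
  exact hR'comm.is_comm.comm _ _

end Cfsg.Agent.S2925
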