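import Cfsg.Statements.S2929
import Cfsg.Agent.Lib.Perm.SylowOvergroups.Alt
-- import your own Cfsg.Agent.* helpers here

set_option autoImplicit false
open Cfsg

namespace Cfsg.Agent.S2929

/-- Let n ≥ 5 and let H be a subgroup of the symmetric group of degree n whose generalized Fitting subgroup F*(H) is quasisimple. If H contains a Sylow 3-subgroup of the symmetric group, then F*(H) is isomorphic to an alternating group of degree m for some m ∈ {n − 2, n − 1, n}. -/
theorem result (n : ℕ) (hn : 5 ≤ n) (H : Subgroup (Equiv.Perm (Fin n))) (hF : Cfsg.IsQuasisimple ↥(Cfsg.generalizedFittingSubgroup ↥H)) (hS : ∃ P : Sylow 3 (Equiv.Perm (Fin n)), (P : Subgroup (Equiv.Perm (Fin n))) ≤ H) : ∃ m : ℕ, (m = n - 2 ∨ m = n - 1 ∨ m = n) ∧ Nonempty (↥(Cfsg.generalizedFittingSubgroup ↥H) ≃* ↥(alternatingGroup (Fin m))) := by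
  classical
  obtain ⟨P, hP⟩ := hS
  haveI : Fact (Nat.Prime 3) := ⟨Nat.prime_three⟩
  obtain ⟨f, hf⟩ : ∃ f : Fin (n / 3) → Fin 3 → Fin n, ∀ i j, (f i j).val = 3 * i.val + j.val :=
    ⟨fun i j => ⟨3 * i.val + j.val, by have := i.isLt; have := j.isLt; omega⟩, fun _ _ => rfl⟩
  obtain ⟨t, ht⟩ : ∃ t : Fin (n / 3) → Equiv.Perm (Fin n),
      ∀ i, t i = CfsgLib.Perm.SylowOvergroups.cyc3 (f i 0) (f i 1) (f i 2) := ⟨_, fun _ => rfl⟩
  have hne : ∀ i, f i 0 ≠ f i 1 ∧ f i 0 ≠ f i 2 ∧ f i 1 ≠ f i 2 := by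
    intro i
    refine ⟨fun e => ?_, fun e => ?_, fun e => ?_⟩ <;>
    · have h1 := congrArg Fin.val e
      rw [hf, hf] at h1
      simp at h1
  have ht3 : ∀ i, Equiv.Perm.IsThreeCycle (t i) := by
    intro i
    obtain ⟨h1, h2, h3⟩ := hne i
    rw [ht, CfsgLib.Perm.SylowOvergroups.cyc3, Equiv.swap_comm (f i 0) (f i 1)]
    exact Equiv.Perm.isThreeCycle_swap_mul_swap_same (Ne.symm h1) h3 h2
  have hfix : ∀ i, ∀ x : Fin n, x.val / 3 ≠ i.val → t i x = x := by
    intro i x hx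
    have hxj : ∀ j, x ≠ f i j := by
      intro j e
      apply hx
      rw [e, hf]
      have := j.isLt
      omega
    rw [ht, CfsgLib.Perm.SylowOvergroups.cyc3, Equiv.Perm.mul_apply,
      Equiv.swap_apply_of_ne_of_ne (hxj 1) (hxj 2), Equiv.swap_apply_of_ne_of_ne (hxj 0) (hxj 1)]
  have hQ : IsPGroup 3 ↥(Subgroup.closure (Set.range t)) := by
    refine CfsgLib.Perm.SylowOvergroups.isPGroup_closure_of_commute ?_ ?_
    · rintro _ ⟨i, rfl⟩ _ ⟨j, rfl⟩
      by_cases hij : i = j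
      · rw [hij]
      · refine Equiv.Perm.Disjoint.commute fun x => ?_
        by_cases hx : x.val / 3 = i.val
        · exact Or.inr (hfix j x fun e => hij (Fin.ext (hx.symm.trans e)))
        · exact Or.inl (hfix i x hx)
    · rintro _ ⟨i, rfl⟩
      rw [← (ht3 i).orderOf]
      exact pow_orderOf_eq_one _
  obtain ⟨g, hg⟩ := CfsgLib.Perm.SylowOvergroups.exists_conj_mem_sylow P hQ
  have hmem : ∀ i, g * t i * g⁻¹ ∈ H := fun i => hP (hg _ (Subgroup.subset_closure ⟨i, rfl⟩))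
  have hpos : 0 < n / 3 := by omega
  obtain ⟨Δ, h5, ⟨e⟩, hinv, hsmall⟩ := CfsgLib.Perm.SylowOvergroups.exists_alt hF
    ⟨_, hmem ⟨0, hpos⟩, (Equiv.Perm.cycleType_conj).trans (ht3 ⟨0, hpos⟩)⟩
  have hcover : ∀ i, ∀ x, t i x ≠ x → g x ∈ Δ := by
    intro i x hx
    obtain ⟨a, haΔ, hmove⟩ := hsmall _ (hmem i)
      (by rw [ne_eq, conj_eq_one_iff]; exact (ht3 i).isCycle.ne_one)
      (by rw [Equiv.Perm.card_support_conj, (ht3 i).card_support]; norm_num)
    have hc : Equiv.Perm.IsThreeCycle (g * t i * g⁻¹) := (Equiv.Perm.cycleType_conj).trans (ht3 i)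
    have hgx : g x ∈ (g * t i * g⁻¹).support := by
      rw [Equiv.Perm.support_conj]
      exact Finset.mem_map_of_mem _ (Equiv.Perm.mem_support.2 hx)
    have hone := hinv _ (hmem i)
    rcases CfsgLib.Perm.SylowOvergroups.eq_or_of_mem_support hc
      (Equiv.Perm.mem_support.2 hmove) hgx with h | h | h
    · exact h ▸ haΔ
    · rw [h]; exact (hone a).2 haΔ
    · rw [h]; exact (hone _).2 ((hone a).2 haΔ)
  have hcard : 3 * (n / 3) ≤ Δ.card := by
    obtain ⟨φ, hφ⟩ : ∃ φ : Fin (3 * (n / 3)) → Fin n, ∀ j, (φ j).val = j.val :=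
      ⟨fun j => ⟨j.val, by have := j.isLt; omega⟩, fun _ => rfl⟩
    have hle := Finset.card_le_card_of_injOn (fun j => g (φ j)) (s := Finset.univ) (t := Δ)
      (fun j _ => by
        have hj := j.isLt
        refine hcover ⟨j.val / 3, by omega⟩ (φ j) ?_
        obtain ⟨h1, h2, h3⟩ := hne ⟨j.val / 3, by omega⟩
        have hm : φ j ∈ (t ⟨j.val / 3, by omega⟩).support := by
          rw [((ht3 ⟨j.val / 3, by omega⟩).support_eq_iff_mem_support (a := f ⟨j.val / 3, by omega⟩ 0)).2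
            (Equiv.Perm.mem_support.2 (by
              rw [ht, CfsgLib.Perm.SylowOvergroups.cyc3, Equiv.Perm.mul_apply,
                Equiv.swap_apply_of_ne_of_ne h1 h2, Equiv.swap_apply_left]
              exact Ne.symm h1))]
          rw [ht, CfsgLib.Perm.SylowOvergroups.cyc3]
          simp only [Equiv.Perm.mul_apply, Equiv.swap_apply_left,
            Equiv.swap_apply_of_ne_of_ne h1 h2, Equiv.swap_apply_of_ne_of_ne (Ne.symm h2) (Ne.symm h3),
            Finset.mem_insert, Finset.mem_singleton]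
          simp only [Fin.ext_iff, hφ, hf, Fin.val_zero, Fin.val_one, Fin.val_two]
          omega
        exact Equiv.Perm.mem_support.1 hm)
      (fun a _ b _ hab => by
        have := congrArg Fin.val (g.injective hab)
        rw [hφ, hφ] at this
        exact Fin.ext this)
    simpa using hle
  have hle : Δ.card ≤ n := (Finset.card_le_univ Δ).trans (Fintype.card_fin n).le
  refine ⟨Δ.card, by omega, ⟨e.trans (Equiv.altCongrHom Δ.equivFin)⟩⟩

end Cfsg.Agent.S2929
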