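import Cfsg.Statements.S4231
import Cfsg.Agent.Lib.Perm.Groups.AltAut

set_option autoImplicit false
open Cfsg

namespace Cfsg.Agent.S4231
open Equiv

theorem comm_of_lt_sq {α : Type*} [Fintype α] {P : Type*} [Group P] [Finite P] {q : ℕ} [hq : Fact q.Prime]
    (hP : IsPGroup q P) (f : P →* Perm α) (hf : Function.Injective f) (h : Fintype.card α < q ^ 2) :
    ∀ x y : P, x * y = y * x := by
  classical
  intro x y
  letI : MulAction P α := MulAction.compHom α f
  refine hf (Equiv.ext fun a => ?_)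
  obtain ⟨j, hj⟩ := hP.card_orbit a
  have hj1 : j ≤ 1 := by
    by_contra hc
    have h1 : Nat.card (MulAction.orbit P a) ≤ Fintype.card α := by
      rw [← Nat.card_eq_fintype_card]
      exact Nat.card_le_card_of_injective _ Subtype.val_injective
    have h2 := Nat.pow_le_pow_right hq.out.pos (show 2 ≤ j by omega)
    omega
  set φ := MulAction.toPermHom P (MulAction.orbit P a)
  obtain ⟨i, hi⟩ := (IsPGroup.of_surjective hP φ.rangeRestrict φ.rangeRestrict_surjective).exists_card_eq
  have hi1 : i ≤ 1 := by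
    by_contra hc
    have h1 := Subgroup.card_subgroup_dvd_card φ.range
    rw [hi, Nat.card_perm, hj] at h1
    have h2 : q ^ 2 ∣ (q ^ 1).factorial :=
      (Nat.pow_dvd_pow q (show 2 ≤ i by omega)).trans (h1.trans (Nat.factorial_dvd_factorial (Nat.pow_le_pow_right hq.out.pos hj1)))
    rw [pow_one] at h2
    obtain ⟨m, hm⟩ := Nat.exists_eq_succ_of_ne_zero hq.out.ne_zero
    have h3 : q * q ∣ q * m.factorial := by
      rw [← pow_two]
      rw [hm, Nat.factorial_succ] at h2
      rwa [hm]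
    have := (hq.out.dvd_factorial).1 (Nat.dvd_of_mul_dvd_mul_left hq.out.pos h3)
    omega
  haveI : IsCyclic φ.range := by
    rcases Nat.le_one_iff_eq_zero_or_eq_one.1 hi1 with rfl | rfl
    · haveI : Subsingleton φ.range := (Nat.card_eq_one_iff_unique.1 (by rwa [pow_zero] at hi)).1
      infer_instance
    · exact isCyclic_of_prime_card (p := q) (by rwa [pow_one] at hi)
  have hc : φ (x * y) = φ (y * x) := by
    rw [map_mul, map_mul]
    letI : CommGroup φ.range := IsCyclic.commGroup
    exact congrArg Subtype.val (mul_comm (φ.rangeRestrict x) (φ.rangeRestrict y))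
  exact congrArg Subtype.val (congrArg (fun e : Perm (MulAction.orbit P a) => e ⟨a, MulAction.mem_orbit_self a⟩) hc)

abbrev A6 := alternatingGroup (Fin 6)

theorem card_type_eq {m : Multiset ℕ} (hm : m = {3} ∨ m = {3, 3}) :
    (Finset.univ.filter fun g : A6 => (g : Perm (Fin 6)).cycleType = m).card = 40 := by
  classical
  rw [← Finset.card_map (Function.Embedding.subtype _)]
  have e : (Finset.univ.filter fun g : A6 => (g : Perm (Fin 6)).cycleType = m).map (Function.Embedding.subtype _) =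
      ({g | g.cycleType = m} : Finset (Perm (Fin 6))) := by
    ext g
    simp only [Finset.mem_map, Finset.mem_filter, Finset.mem_univ, true_and, Function.Embedding.coe_subtype]
    refine ⟨?_, fun hg => ⟨⟨g, Perm.mem_alternatingGroup.2 ?_⟩, hg, rfl⟩⟩
    · rintro ⟨v, hv, rfl⟩; exact hv
    · rw [Perm.sign_of_cycleType, hg]
      rcases hm with rfl | rfl <;> rfl
  rw [e, Perm.card_of_cycleType]
  rcases hm with rfl | rfl <;> decide

theorem odd_mem_range (φ : MulAut A6) (h : Odd (orderOf φ)) :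
    φ ∈ (MulAut.conjNormal : Perm (Fin 6) →* MulAut A6).range := by
  classical
  have hclass : ∀ (ψ : MulAut A6) (g : A6), orderOf g = 3 →
      (ψ g : Perm (Fin 6)).cycleType = {3} ∨ (ψ g : Perm (Fin 6)).cycleType = {3, 3} := by
    intro ψ g hg
    have h3 : orderOf ((ψ g : A6) : Perm (Fin 6)) = 3 := by rw [Subgroup.orderOf_coe, MulEquiv.orderOf_eq, hg]
    obtain ⟨k, hk⟩ := Perm.cycleType_prime_order (σ := ((ψ g : A6) : Perm (Fin 6))) (by rw [h3]; exact Nat.prime_three)
    rw [h3] at hk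
    have h4 : ((ψ g : A6) : Perm (Fin 6)).cycleType.sum ≤ 6 := by
      rw [Perm.sum_cycleType]; exact (Finset.card_le_univ _).trans_eq (Fintype.card_fin 6)
    rw [hk, Multiset.sum_replicate, smul_eq_mul] at h4
    obtain rfl | rfl : k = 0 ∨ k = 1 := by omega
    · exact Or.inl hk
    · exact Or.inr hk
  set T := Finset.univ.filter fun g : A6 => (g : Perm (Fin 6)).cycleType = ({3} : Multiset ℕ) with hT
  set D := Finset.univ.filter fun g : A6 => (g : Perm (Fin 6)).cycleType = ({3, 3} : Multiset ℕ) with hD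
  have hmT : ∀ g : A6, g ∈ T ↔ (g : Perm (Fin 6)).cycleType = {3} := fun g => by simp [hT]
  have hmD : ∀ g : A6, g ∈ D ↔ (g : Perm (Fin 6)).cycleType = {3, 3} := fun g => by simp [hD]
  have ho : ∀ g : A6, g ∈ T ∨ g ∈ D → orderOf g = 3 := fun g hg => by
    rw [← Subgroup.orderOf_coe, ← Perm.lcm_cycleType]
    rcases hg with hg | hg
    · rw [(hmT g).1 hg]; rfl
    · rw [(hmD g).1 hg]; rfl
  have hne : ∀ g : A6, g ∈ T → g ∉ D := fun g h1 h2 => by
    have := congrArg Multiset.card (((hmT g).1 h1).symm.trans ((hmD g).1 h2))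
    simp at this
  have hTD : ∀ ψ : MulAut A6, (∀ g ∈ T, ψ g ∈ T) ∨ ((∀ g ∈ T, ψ g ∈ D) ∧ ∀ g ∈ D, ψ g ∈ T) := by
    intro ψ
    by_cases hall : ∀ g ∈ T, ψ g ∈ T
    · exact Or.inl hall
    push Not at hall
    obtain ⟨g₀, hg₀, hg₀'⟩ := hall
    have hg₀D : ψ g₀ ∈ D := (hmD _).2 ((hclass ψ g₀ (ho _ (Or.inl hg₀))).resolve_left fun h' => hg₀' ((hmT _).2 h'))
    have h1 : ∀ g ∈ T, ψ g ∈ D := by
      intro g hg
      obtain ⟨u, hu⟩ := isConj_iff.1 (alternatingGroup.isThreeCycle_isConj (by simp)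
        (show Perm.IsThreeCycle (g₀ : Perm (Fin 6)) from (hmT g₀).1 hg₀) (show Perm.IsThreeCycle (g : Perm (Fin 6)) from (hmT g).1 hg))
      rw [hmD, ← hu, map_mul, map_mul, map_inv, Subgroup.coe_mul, Subgroup.coe_mul, Subgroup.coe_inv, Perm.cycleType_conj]
      exact (hmD _).1 hg₀D
    refine Or.inr ⟨h1, fun d hd => ?_⟩
    rcases hclass ψ d (ho _ (Or.inr hd)) with h' | h'
    · exact (hmT _).2 h'
    exfalso
    have himg : T.image ψ = D := Finset.eq_of_subset_of_card_le (Finset.image_subset_iff.2 h1) (by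
      rw [Finset.card_image_of_injective _ ψ.injective, hT, hD, card_type_eq (Or.inr rfl), card_type_eq (Or.inl rfl)])
    obtain ⟨g, hg, hgd⟩ := Finset.mem_image.1 (himg.ge ((hmD (ψ d)).2 h'))
    rw [ψ.injective hgd] at hg
    exact hne d hg hd
  rcases hTD φ with h1 | ⟨h1, h2⟩
  · obtain ⟨σ, hσ⟩ := CfsgLib.Perm.Groups.AltAut.exists_conj_of_three_cycles (by simp) φ
      fun g hg => (hmT _).1 (h1 g ((hmT g).2 hg))
    exact ⟨σ, MulEquiv.ext fun g => Subtype.ext (by rw [MulAut.conjNormal_apply, hσ])⟩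
  · exfalso
    have heven : ∀ i : ℕ, ∀ g ∈ T, (φ ^ (2 * i)) g ∈ T := by
      intro i
      induction i with
      | zero => simp
      | succ i ih =>
        intro g hg
        rw [show 2 * (i + 1) = 2 * i + 2 by ring, pow_add, MulAut.mul_apply, pow_two, MulAut.mul_apply]
        exact ih _ (h2 _ (h1 g hg))
    obtain ⟨j, hj⟩ := h
    obtain ⟨g, hg⟩ : T.Nonempty := by
      rw [← Finset.card_pos, hT, card_type_eq (Or.inl rfl)]; norm_num
    have h3 := pow_orderOf_eq_one φ
    rw [hj, pow_succ'] at h3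
    have h4 : φ ((φ ^ (2 * j)) g) ∈ D := h1 _ (heven j g hg)
    rw [← MulAut.mul_apply, h3, MulAut.one_apply] at h4
    exact hne g hg h4

theorem exists_order_pq {n p q : ℕ} (hp : p.Prime) (hq : q.Prime) (hpq : p < q) (hn : q ^ 2 ≤ n) :
    ∃ x : alternatingGroup (Fin n), orderOf x = p * q := by
  classical
  have hp2 := hp.two_le
  have hco : p.Coprime q := (Nat.coprime_primes hp hq).2 (Nat.ne_of_lt hpq)
  have hq2 : 3 * q ≤ q ^ 2 := by rw [pow_two]; exact Nat.mul_le_mul_right q (by omega)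
  rcases hp.eq_two_or_odd' with rfl | hpo
  · obtain ⟨x, hx⟩ := (Perm.exists_with_cycleType_iff (Fin n) (m := {2, 2, q})).2
      ⟨by simp; omega, by simp; omega⟩
    have hqo : Odd q := hq.odd_of_ne_two (by omega)
    refine ⟨⟨x, Perm.mem_alternatingGroup.2 ?_⟩, ?_⟩
    · rw [Perm.sign_of_cycleType, hx]
      refine (show Even (({2, 2, q} : Multiset ℕ).sum + Multiset.card ({2, 2, q} : Multiset ℕ)) from ?_).neg_one_pow
      obtain ⟨a, ha⟩ := hqo
      exact ⟨a + 4, by simp; omega⟩
    · rw [Subgroup.orderOf_mk, ← Perm.lcm_cycleType, hx]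
      simp [lcm_eq_nat_lcm, Nat.Coprime.lcm_eq_mul hco]
  · obtain ⟨x, hx⟩ := (Perm.exists_with_cycleType_iff (Fin n) (m := {p, q})).2
      ⟨by simp; omega, by simp; omega⟩
    have hqo : Odd q := hq.odd_of_ne_two (by omega)
    refine ⟨⟨x, Perm.mem_alternatingGroup.2 ?_⟩, ?_⟩
    · rw [Perm.sign_of_cycleType, hx]
      refine (show Even (({p, q} : Multiset ℕ).sum + Multiset.card ({p, q} : Multiset ℕ)) from ?_).neg_one_pow
      obtain ⟨a, ha⟩ := hqo
      obtain ⟨b, hb⟩ := hpo
      exact ⟨a + b + 2, by simp; omega⟩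
    · rw [Subgroup.orderOf_mk, ← Perm.lcm_cycleType, hx]
      simp [lcm_eq_nat_lcm, Nat.Coprime.lcm_eq_mul hco]


/-- Let n ≥ 5 and let G be a group of automorphisms of the alternating group of degree n containing all inner automorphisms. If p ≠ q are primes and G has no element of order pq, then every Sylow p-subgroup of G is abelian or every Sylow q-subgroup of G is abelian. -/
theorem result (n : ℕ) (hn : 5 ≤ n) (G : Subgroup (MulAut (alternatingGroup (Fin n))))
    (hG : (MulAut.conj : alternatingGroup (Fin n) →* MulAut (alternatingGroup (Fin n))).range ≤ G)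
    (p q : ℕ) [Fact p.Prime] [Fact q.Prime] (hpq : p ≠ q) (h : ∀ g : G, orderOf g ≠ p * q) :
    (∀ P : Sylow p G, IsMulCommutative (P : Subgroup G)) ∨ (∀ Q : Sylow q G, IsMulCommutative (Q : Subgroup G)) := by
  classical
  rw [or_iff_not_imp_left]
  intro hP0 Q
  obtain ⟨P, hP⟩ := not_forall.1 hP0
  by_contra hQ
  by_cases h6 : n = 6
  · subst h6
    have hodd : ∀ (r : ℕ) [Fact r.Prime], r ≠ 2 → ∀ R : Sylow r G, IsMulCommutative (R : Subgroup G) := by
      intro r hr hr2 R
      let e := MonoidHom.ofInjective (f := (MulAut.conjNormal : Perm (Fin 6) →* MulAut A6)) (by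
        refine (injective_iff_map_eq_one _).2 fun s hs => ?_
        have hc : ∀ g : A6, s * (g : Perm (Fin 6)) * s⁻¹ = g := fun g => by
          rw [← MulAut.conjNormal_apply, hs]; rfl
        refine Equiv.ext fun x => ?_
        by_contra hx
        rw [Perm.one_apply] at hx
        obtain ⟨z, w, hz1, hz2, hw1, hw2, hzw⟩ :=
          (by decide : ∀ x y : Fin 6, ∃ z w, z ≠ x ∧ z ≠ y ∧ w ≠ x ∧ w ≠ y ∧ z ≠ w) x (s x)
        have hg := (CfsgLib.Perm.Groups.AltAut.cyc_isThreeCycle (Ne.symm hz2) (Ne.symm hw2) hzw).mem_alternatingGroup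
        have h1 := congrArg (fun u : Perm (Fin 6) => u x) (mul_inv_eq_iff_eq_mul.1 (hc ⟨_, hg⟩))
        simp only [Perm.mul_apply] at h1
        rw [CfsgLib.Perm.Groups.AltAut.cyc_apply_other (Ne.symm hx) (Ne.symm hz1) (Ne.symm hw1),
          CfsgLib.Perm.Groups.AltAut.cyc_apply₁ (Ne.symm hz2) (Ne.symm hw2)] at h1
        exact hz2 h1.symm)
      have hmem : ∀ x : (R : Subgroup G), ((x : G) : MulAut A6) ∈ (MulAut.conjNormal : Perm (Fin 6) →* MulAut A6).range := by
        intro x
        refine odd_mem_range _ ?_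
        obtain ⟨k, hk⟩ := IsPGroup.iff_orderOf.1 R.2 x
        rw [Subgroup.orderOf_coe, Subgroup.orderOf_coe, hk]
        exact (hr.out.odd_of_ne_two hr2).pow
      let f : (R : Subgroup G) →* Perm (Fin 6) := e.symm.toMonoidHom.comp
        { toFun := fun x => ⟨((x : G) : MulAut A6), hmem x⟩
          map_one' := rfl
          map_mul' := fun a b => rfl }
      refine ⟨⟨comm_of_lt_sq R.2 f (e.symm.injective.comp fun a b hab => Subtype.ext (Subtype.ext (congrArg Subtype.val hab :))) ?_⟩⟩
      rw [Fintype.card_fin]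
      have : 3 ≤ r := by have := hr.out.two_le; omega
      calc 6 < 3 ^ 2 := by norm_num
        _ ≤ r ^ 2 := Nat.pow_le_pow_left this 2
    by_cases hp2 : p = 2
    · exact hQ (hodd q (fun h' => hpq (hp2.trans h'.symm)) Q)
    · exact hP (hodd p hp2 P)
  · have hbij := CfsgLib.Perm.Groups.AltAut.conjNormal_bijective (Ω := Fin n) (by simp; omega) (by simpa using h6)
    let e := MulEquiv.ofBijective _ hbij
    have habel : ∀ (r : ℕ) [Fact r.Prime], n < r ^ 2 → ∀ R : Sylow r G, IsMulCommutative (R : Subgroup G) := by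
      intro r hr hlt R
      exact ⟨⟨comm_of_lt_sq R.2 (e.symm.toMonoidHom.comp (G.subtype.comp (R : Subgroup G).subtype))
        (e.symm.injective.comp (G.subtype_injective.comp (R : Subgroup G).subtype_injective)) (by simpa using hlt)⟩⟩
    have hnp : p ^ 2 ≤ n := not_lt.1 fun h' => hP (habel p h' P)
    have hnq : q ^ 2 ≤ n := not_lt.1 fun h' => hQ (habel q h' Q)
    obtain ⟨x, hx⟩ : ∃ x : alternatingGroup (Fin n), orderOf x = p * q := by
      rcases lt_or_gt_of_ne hpq with hlt | hlt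
      · exact exists_order_pq Fact.out Fact.out hlt hnq
      · obtain ⟨x, hx⟩ := exists_order_pq (Fact.out : q.Prime) (Fact.out : p.Prime) hlt hnp
        exact ⟨x, by rw [hx, mul_comm]⟩
    refine h ⟨MulAut.conj x, hG ⟨x, rfl⟩⟩ ?_
    rw [Subgroup.orderOf_mk, orderOf_injective MulAut.conj ?_ x, hx]
    refine (injective_iff_map_eq_one _).2 fun g hg => ?_
    have h1 : g ∈ Subgroup.center (alternatingGroup (Fin n)) := Subgroup.mem_center_iff.2 fun w => by
      have h2 := DFunLike.congr_fun hg w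
      rw [MulAut.conj_apply, MulAut.one_apply, mul_inv_eq_iff_eq_mul] at h2
      exact h2.symm
    rwa [alternatingGroup.center_eq_bot (by simp; omega), Subgroup.mem_bot] at h1

end Cfsg.Agent.S4231
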