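import Cfsg.Statements.S2930
import Cfsg.Agent.Lib.Perm.ThreeMinimalAltCases
import Cfsg.Agent.Lib.Perm.Groups.AltAut
import Cfsg.Agent.Lib.Coprime.Component
import Cfsg.Agent.S4231
-- import your own Cfsg.Agent.* helpers here

set_option autoImplicit false
open Cfsg

namespace Cfsg.Agent.S2930

theorem isInner_of_odd {n : ℕ} (hn : 5 ≤ n) (φ : MulAut (alternatingGroup (Fin n)))
    (h : Odd (orderOf φ)) : ∃ y : alternatingGroup (Fin n), φ = MulAut.conj y := by
  obtain ⟨σ, hσ⟩ : φ ∈ (MulAut.conjNormal : Equiv.Perm (Fin n) →* MulAut (alternatingGroup (Fin n))).range := by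
    by_cases h6 : n = 6
    · subst h6
      exact Cfsg.Agent.S4231.odd_mem_range φ h
    · exact (CfsgLib.Perm.Groups.AltAut.conjNormal_bijective (Ω := Fin n) (by simp; omega)
        (by simpa using h6)).2 φ
  have hev : Equiv.Perm.sign (σ ^ (orderOf φ + 1)) = 1 := by
    rw [map_pow]
    rcases Int.units_eq_one_or (Equiv.Perm.sign σ) with hs | hs <;> rw [hs]
    · exact one_pow _
    · exact (h.add_one).neg_one_pow
  refine ⟨⟨_, Equiv.Perm.mem_alternatingGroup.2 hev⟩, ?_⟩
  have h2 : φ = MulAut.conjNormal (σ ^ (orderOf φ + 1)) := by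
    rw [map_pow, hσ, pow_succ, pow_orderOf_eq_one, one_mul]
  refine h2.trans ?_
  generalize σ ^ (orderOf φ + 1) = τ at hev
  ext g
  simp [MulAut.conjNormal_apply, MulAut.conj_apply]

/-- A group all of whose elements of order prime to two act on the generalized Fitting subgroup as inner
automorphisms and whose Sylow 3-subgroup lies in one maximal subgroup is that subgroup. -/
theorem fitting_eq_top {X : Type*} [Group X] [Finite X] (hX : Cfsg.IsPMinimal 3 X) {n : ℕ} (hn : 5 ≤ n)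
    (e : ↥(Cfsg.generalizedFittingSubgroup X) ≃* ↥(alternatingGroup (Fin n))) :
    Cfsg.generalizedFittingSubgroup X = ⊤ := by
  classical
  haveI : Fact (Nat.Prime 3) := ⟨Nat.prime_three⟩
  haveI hN : (Cfsg.generalizedFittingSubgroup X).Normal := CfsgLib.Coprime.generalizedFitting_normal
  obtain ⟨S⟩ := (inferInstance : Nonempty (Sylow 3 X))
  obtain ⟨hS, M, ⟨hM, hSM⟩, huniq⟩ := hX S
  have hSN : (S : Subgroup X) ≤ Cfsg.generalizedFittingSubgroup X := by
    intro x hx
    let φ : MulAut (alternatingGroup (Fin n)) :=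
      MulAut.congr e (MulAut.conjNormal x)
    have hodd : Odd (orderOf φ) := by
      obtain ⟨k, hk⟩ := S.2 ⟨x, hx⟩
      have h3 : φ ^ (3 ^ k) = 1 := by
        show (MulAut.congr e (MulAut.conjNormal x)) ^ (3 ^ k) = 1
        rw [← map_pow, ← map_pow, show x ^ 3 ^ k = 1 from congrArg Subtype.val hk, map_one, map_one]
      obtain ⟨j, -, hj⟩ := (Nat.dvd_prime_pow Nat.prime_three).1 (orderOf_dvd_of_pow_eq_one h3)
      rw [hj]
      exact (Nat.odd_iff.2 (by norm_num)).pow
    obtain ⟨y, hy⟩ := isInner_of_odd hn φ hodd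
    have hc : ((e.symm y : _) : X)⁻¹ * x ∈ Subgroup.centralizer
        (Cfsg.generalizedFittingSubgroup X : Set X) := by
      refine Subgroup.mem_centralizer_iff.2 fun g hg => ?_
      have h1 := congrArg (fun a : alternatingGroup (Fin n) => ((e.symm a : _) : X))
        (DFunLike.congr_fun hy (e ⟨g, hg⟩))
      simp only [φ, MulAut.conj_apply, map_mul, map_inv, MulEquiv.symm_apply_apply, Subgroup.coe_mul,
        InvMemClass.coe_inv] at h1
      simp only [MulAut.congr, MulEquiv.coe_mk, Equiv.coe_fn_mk, MulEquiv.trans_apply,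
        MulEquiv.symm_apply_apply, MulAut.conjNormal_apply] at h1
      obtain ⟨w, hw⟩ : ∃ w, w = ((e.symm y : _) : X) := ⟨_, rfl⟩
      rw [← hw] at h1 ⊢
      calc g * (w⁻¹ * x) = w⁻¹ * (w * g * w⁻¹) * x := by group
        _ = w⁻¹ * (x * g * x⁻¹) * x := by rw [h1]
        _ = w⁻¹ * x * g := by group
    have := mul_mem (e.symm y).2 (CfsgLib.Coprime.centralizer_generalizedFitting_le hc)
    simpa using this
  by_contra hne
  obtain ⟨M₁, hM₁, hNM⟩ := (eq_top_or_exists_le_coatom _).resolve_left hne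
  have hnorm : Subgroup.normalizer ((S : Subgroup X) : Set X) ≠ ⊤ := fun h =>
    hS (Subgroup.normalizer_eq_top_iff.1 h)
  obtain ⟨M₂, hM₂, hSM₂⟩ := (eq_top_or_exists_le_coatom _).resolve_left hnorm
  have e1 := huniq M₁ ⟨hM₁, hSN.trans hNM⟩
  have e2 := huniq M₂ ⟨hM₂, Subgroup.le_normalizer.trans hSM₂⟩
  have hfr := Sylow.normalizer_sup_eq_top' S hSN
  exact hM.1 (eq_top_iff.2 (hfr.ge.trans (sup_le (e2 ▸ hSM₂) (e1 ▸ hNM))))


/-- Let X be a finite 3-minimal group (a Sylow 3-subgroup is not normal and lies in a unique maximal subgroup) whose generalized Fitting subgroup is isomorphic to an alternating group of degree n ≥ 5. Then X = F*(X), and n = 6, n = 9, or n = 3ᵃ + 1 for some a ≥ 2. -/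
theorem result {X : Type*} [Group X] [Finite X] (hX : Cfsg.IsPMinimal 3 X) (n : ℕ) (hn : 5 ≤ n) (hF : Nonempty (↥(Cfsg.generalizedFittingSubgroup X) ≃* ↥(alternatingGroup (Fin n)))) : Cfsg.generalizedFittingSubgroup X = ⊤ ∧ (n = 6 ∨ n = 9 ∨ ∃ a : ℕ, 2 ≤ a ∧ n = 3 ^ a + 1) := by
  classical
  haveI : Fact (Nat.Prime 3) := ⟨Nat.prime_three⟩
  obtain ⟨e⟩ := hF
  have htop := fitting_eq_top hX hn e
  refine ⟨htop, ?_⟩
  by_contra hcon
  push Not at hcon
  obtain ⟨h6, h9, hsucc⟩ := hcon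
  let ι : X ≃* alternatingGroup (Fin n) :=
    Subgroup.topEquiv.symm.trans ((MulEquiv.subgroupCongr htop.symm).trans e)
  obtain ⟨S⟩ := (inferInstance : Nonempty (Sylow 3 X))
  obtain ⟨-, M, ⟨hM, hSM⟩, huniq⟩ := hX S
  obtain ⟨f, hf⟩ : ∃ f : X →* Equiv.Perm (Fin n), f = (alternatingGroup (Fin n)).subtype.comp ι.toMonoidHom :=
    ⟨_, rfl⟩
  have hfi : Function.Injective f := by
    subst hf; exact Subtype.val_injective.comp ι.injective
  have hfr : f.range = alternatingGroup (Fin n) := by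
    subst hf
    rw [MonoidHom.range_comp, MonoidHom.range_eq_top.2 ι.surjective, ← MonoidHom.range_eq_map,
      Subgroup.range_subtype]
  obtain ⟨H₁, H₂, hT1, hT2, hA1, hA2, hn1, hn2, hgen⟩ :=
    CfsgLib.Perm.ThreeMinimalAlt.two_overgroups ((S : Subgroup X).map f)
      (hfr ▸ Subgroup.map_le_range f _) (S.2.map f) (by simpa using hn) (by simpa using h6)
      (by simpa using h9) (by simpa using hsucc)
  have key : ∀ H : Subgroup (Equiv.Perm (Fin n)), (S : Subgroup X).map f ≤ H →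
      ¬ alternatingGroup (Fin n) ≤ H → H.comap f ≤ M := by
    intro H hTH hH
    have hne : H.comap f ≠ ⊤ := fun h => hH (hfr ▸ (by
      rintro _ ⟨x, rfl⟩
      exact (h.ge (Subgroup.mem_top x) : x ∈ H.comap f)))
    obtain ⟨M₁, hM₁, hle⟩ := (eq_top_or_exists_le_coatom _).resolve_left hne
    exact (huniq M₁ ⟨hM₁, (Subgroup.map_le_iff_le_comap.1 hTH).trans hle⟩) ▸ hle
  refine hM.1 (eq_top_iff.2 fun x _ => ?_)
  have h1 := key H₁ hT1 hn1
  have h2 := key H₂ hT2 hn2
  have hle : H₁ ⊔ H₂ ≤ M.map f := by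
    refine sup_le ?_ ?_
    · rw [← Subgroup.map_comap_eq_self (H := H₁) (hfr ▸ hA1)]
      exact Subgroup.map_mono h1
    · rw [← Subgroup.map_comap_eq_self (H := H₂) (hfr ▸ hA2)]
      exact Subgroup.map_mono h2
  obtain ⟨y, hy, hyx⟩ := hle (hgen (hfr ▸ ⟨x, rfl⟩ : f x ∈ alternatingGroup (Fin n)))
  rwa [← hfi hyx]

end Cfsg.Agent.S2930
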