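import Cfsg.Statements.S2931
import Cfsg.Agent.Lib.Classical.QuadOrder
import Cfsg.Agent.Lib.Classical.QuadBasic
import Cfsg.Agent.Lib.Classical.SmallOrth
import Cfsg.Agent.Lib.Classical.SpOrder
import Cfsg.Agent.Lib.Classical.ExcIsoFourTwo
import Mathlib.GroupTheory.SemidirectProduct
import Mathlib.GroupTheory.SpecificGroups.Quaternion
import Mathlib.GroupTheory.NoncommCoprod
-- import your own Cfsg.Agent.* helpers here

set_option autoImplicit false
open Cfsg

namespace Cfsg.Agent.S2931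

open Matrix

abbrev C2 := Multiplicative (ZMod 2)

theorem c2_cases : ∀ x : C2, x = 1 ∨ x = Multiplicative.ofAdd 1 := by decide

/-- The hom out of `C₂` given by an involution. -/
def c2Hom {G : Type*} [Monoid G] (t : G) (ht : t * t = 1) : C2 →* G where
  toFun x := if x = 1 then 1 else t
  map_one' := if_pos rfl
  map_mul' x y := by
    rcases c2_cases x with rfl | rfl <;> rcases c2_cases y with rfl | rfl <;>
      simp [ht, show Multiplicative.ofAdd (1 : ZMod 2) * Multiplicative.ofAdd 1 = 1 by decide]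

/-- Interchange of two factors. -/
def swapAct (H : Type*) [Group H] : C2 →* MulAut (H × H) :=
  c2Hom (MulEquiv.prodComm : H × H ≃* H × H) (MulEquiv.ext fun _ => rfl)

/-- `H ≀ C₂`. -/
abbrev W (H : Type*) [Group H] := (H × H) ⋊[swapAct H] C2

theorem card_W (H : Type*) [Group H] : Nat.card (W H) = Nat.card H * Nat.card H * 2 := by
  rw [SemidirectProduct.card, Nat.card_prod]
  simp [C2, Nat.card_eq_fintype_card (α := Multiplicative (ZMod 2))]

theorem W.ext' {H : Type*} [Group H] (w : W H) : w = ⟨(w.left.1, w.left.2), w.right⟩ := rfl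

/-- Homomorphism out of `H ≀ C₂`. -/
def wrHom {H G : Type*} [Group H] [Group G] (φ : H →* G) (s : G) (hs : s * s = 1)
    (hc : ∀ a b, φ a * (s * φ b * s) = s * φ b * s * φ a) : W H →* G :=
  SemidirectProduct.lift
    (φ.noncommCoprod
      { toFun := fun b => s * φ b * s
        map_one' := by simp [hs]
        map_mul' := fun a b => by
          rw [map_mul]
          calc s * (φ a * φ b) * s = s * φ a * (s * s) * φ b * s := by rw [hs]; simp [mul_assoc]
            _ = _ := by simp only [mul_assoc] } hc)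
    (c2Hom s hs) fun e => by
      have hsi : s⁻¹ = s := inv_eq_of_mul_eq_one_left hs
      rcases c2_cases e with rfl | rfl
      · ext ⟨a, b⟩
        simp [swapAct, c2Hom]
      · refine MonoidHom.ext fun x => ?_
        show φ x.2 * (s * φ x.1 * s) = s * (φ x.1 * (s * φ x.2 * s)) * s⁻¹
        rw [hsi, hc]
        calc s * φ x.1 * s * φ x.2 = s * φ x.1 * s * φ x.2 * (s * s) := by rw [hs, mul_one]
          _ = _ := by simp only [mul_assoc]

theorem wrHom_mk {H G : Type*} [Group H] [Group G] (φ : H →* G) (s : G) (hs : s * s = 1)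
    (hc : ∀ a b, φ a * (s * φ b * s) = s * φ b * s * φ a) (a b : H) (e : C2) :
    wrHom φ s hs hc ⟨(a, b), e⟩ = φ a * (s * φ b * s) * if e = 1 then 1 else s := rfl

theorem equiv_sylow {M G : Type*} [Group M] [Group G] [Finite G] (φ : M →* G) (hinj : Function.Injective φ)
    (n k : ℕ) (hM : Nat.card M = 2 ^ n) (hG : Nat.card G = 2 ^ n * k) (hk : Odd k) (P : Sylow 2 G) :
    Nonempty (M ≃* ↥(P : Subgroup G)) := by
  haveI : Fact (Nat.Prime 2) := ⟨Nat.prime_two⟩
  have hc : Nat.card φ.range = 2 ^ n :=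
    hM ▸ (Nat.card_congr (MonoidHom.ofInjective hinj).toEquiv).symm
  have hi : ¬ 2 ∣ φ.range.index := by
    have h := φ.range.card_mul_index
    rw [hc, hG] at h
    rw [Nat.eq_of_mul_eq_mul_left (by positivity) h]
    exact hk.not_two_dvd_nat
  exact ⟨(MonoidHom.ofInjective hinj).trans (Sylow.equiv ((IsPGroup.of_card hc).toSylow hi) P)⟩

/-- Involutive units. -/
def u2 {ι R : Type*} [Fintype ι] [DecidableEq ι] [CommRing R] (M : Matrix ι ι R) (h : M * M = 1) :
    GL ι R := ⟨M, M, h, h⟩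

/-! ### Symmetric and alternating groups of degree eight -/

def pa : Equiv.Perm (Fin 8) := Equiv.swap 0 1
def pt : Equiv.Perm (Fin 8) := Equiv.swap 0 2 * Equiv.swap 1 3
def ps : Equiv.Perm (Fin 8) := Equiv.swap 0 4 * Equiv.swap 1 5 * Equiv.swap 2 6 * Equiv.swap 3 7

abbrev T2 := W C2

def pLow : T2 →* Equiv.Perm (Fin 8) :=
  wrHom (c2Hom pa (by decide +kernel)) pt (by decide +kernel) (by decide +kernel)

theorem pLow_comm : ∀ a b c d e f : C2,
    pLow ⟨(a, b), c⟩ * (ps * pLow ⟨(d, e), f⟩ * ps) = ps * pLow ⟨(d, e), f⟩ * ps * pLow ⟨(a, b), c⟩ := by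
  decide +kernel

def pT : W T2 →* Equiv.Perm (Fin 8) :=
  wrHom pLow ps (by decide +kernel) fun x y => pLow_comm x.left.1 x.left.2 x.right y.left.1 y.left.2 y.right

set_option synthInstance.maxSize 2048 in
set_option synthInstance.maxHeartbeats 1000000 in
theorem pT_ker : ∀ a b c d e f g : C2, pT ⟨(⟨(a, b), c⟩, ⟨(d, e), f⟩), g⟩ = 1 →
    a = 1 ∧ b = 1 ∧ c = 1 ∧ d = 1 ∧ e = 1 ∧ f = 1 ∧ g = 1 := by
  decide +kernel

theorem injective_of_ker {G : Type*} [Group G] (φ : W T2 →* G)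
    (h : ∀ a b c d e f g : C2, φ ⟨(⟨(a, b), c⟩, ⟨(d, e), f⟩), g⟩ = 1 →
      a = 1 ∧ b = 1 ∧ c = 1 ∧ d = 1 ∧ e = 1 ∧ f = 1 ∧ g = 1) : Function.Injective φ := by
  refine (injective_iff_map_eq_one φ).2 fun ⟨(⟨(a, b), c⟩, ⟨(d, e), f⟩), g⟩ hw => ?_
  obtain ⟨rfl, rfl, rfl, rfl, rfl, rfl, rfl⟩ := h a b c d e f g hw
  rfl

theorem card_T : Nat.card (W T2) = 2 ^ 7 := by
  rw [card_W, card_W]
  simp [C2, Nat.card_eq_fintype_card (α := Multiplicative (ZMod 2))]

abbrev Q8 := QuaternionGroup 2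

def qIdx : Q8 ≃ Fin 8 where
  toFun | .a i => ⟨i.val, by have := ZMod.val_lt i; omega⟩
        | .xa i => ⟨4 + i.val, by have := ZMod.val_lt i; omega⟩
  invFun k := if k.val < 4 then .a (k.val : ℕ) else .xa ((k.val - 4 : ℕ) : ZMod 4)
  left_inv := by unfold Function.LeftInverse; decide +kernel
  right_inv := by unfold Function.RightInverse Function.LeftInverse; decide +kernel

def qLeft : Q8 →* Equiv.Perm (Fin 8) :=
  (qIdx.permCongrHom.toMonoidHom).comp (MulAction.toPermHom Q8 Q8)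

def pq : Equiv.Perm (Fin 8) := Equiv.swap 4 5 * Equiv.swap 6 7

def qLeftA : Q8 →* alternatingGroup (Fin 8) :=
  qLeft.codRestrict _ ((show ∀ q, Equiv.Perm.sign (qLeft q) = 1 by decide +kernel))

def pqA : alternatingGroup (Fin 8) := ⟨pq, (show Equiv.Perm.sign pq = 1 by decide +kernel)⟩

def aT : W Q8 →* alternatingGroup (Fin 8) :=
  wrHom qLeftA pqA (by decide +kernel) (by decide +kernel)

def zz : Q8 := .a 2

theorem aT_ker : ∀ a b : Q8, ∀ e : C2, aT ⟨(a, b), e⟩ = 1 ↔ ((a = 1 ∧ b = 1) ∨ (a = zz ∧ b = zz)) ∧ e = 1 := by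
  decide +kernel

/-! ### `Sp₄(3)` -/

local notation "I₄" => (Fin 2 ⊕ Fin 2)
local notation "Sp₄" => Matrix.symplecticGroup (Fin 2) (ZMod 3)

def emb (q : Matrix (Fin 2) (Fin 2) (ZMod 3)) : Matrix I₄ I₄ (ZMod 3) :=
  Matrix.fromBlocks !![q 0 0, 0; 0, 1] !![q 0 1, 0; 0, 0] !![q 1 0, 0; 0, 0] !![q 1 1, 0; 0, 1]

def qI : Matrix (Fin 2) (Fin 2) (ZMod 3) := !![0, 2; 1, 0]
def qJ : Matrix (Fin 2) (Fin 2) (ZMod 3) := !![1, 1; 1, 2]

def qFun : Q8 → Matrix I₄ I₄ (ZMod 3)
  | .a i => emb (qI ^ i.val)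
  | .xa i => emb (qJ * qI ^ i.val)

theorem qFun_mem : ∀ q, qFun q * Matrix.J (Fin 2) (ZMod 3) * (qFun q)ᵀ = Matrix.J (Fin 2) (ZMod 3) := by
  decide +kernel

def qSp : Q8 →* Sp₄ where
  toFun q := ⟨qFun q, SymplecticGroup.mem_iff.2 (qFun_mem q)⟩
  map_one' := Subtype.ext (show qFun 1 = 1 by decide +kernel)
  map_mul' a b := Subtype.ext ((show ∀ a b, qFun (a * b) = qFun a * qFun b by decide +kernel) a b)

def sSpM : Matrix I₄ I₄ (ZMod 3) := Matrix.fromBlocks !![0, 1; 1, 0] 0 0 !![0, 1; 1, 0]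

def sSp : Sp₄ := ⟨sSpM, SymplecticGroup.mem_iff.2 (by decide +kernel)⟩

theorem qSp_comm : ∀ a b : Q8,
    qFun a * (sSpM * qFun b * sSpM) = sSpM * qFun b * sSpM * qFun a := by decide +kernel

def spT : W Q8 →* Sp₄ :=
  wrHom qSp sSp (Subtype.ext (show sSpM * sSpM = 1 by decide +kernel))
    fun a b => Subtype.ext (qSp_comm a b)

def spFun (a b : Q8) (e : C2) : Matrix I₄ I₄ (ZMod 3) :=
  qFun a * (sSpM * qFun b * sSpM) * if e = 1 then 1 else sSpM

theorem spT_coe (a b : Q8) (e : C2) : (spT ⟨(a, b), e⟩).1 = spFun a b e := by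
  rw [spT, wrHom_mk, spFun]
  rcases c2_cases e with rfl | rfl
  · simp only [if_pos, Submonoid.coe_mul, OneMemClass.coe_one, mul_one]
    rfl
  · simp only [if_neg (show Multiplicative.ofAdd (1 : ZMod 2) ≠ 1 by decide), Submonoid.coe_mul]
    rfl

/-- A transvection. -/
def tvM : Matrix I₄ I₄ (ZMod 3) := Matrix.fromBlocks 1 !![1, 1; 1, 0] 0 1
def tvN : Matrix I₄ I₄ (ZMod 3) := Matrix.fromBlocks 1 0 !![1, 1; 1, 0] 1

def tvSp : Sp₄ := ⟨tvM, SymplecticGroup.mem_iff.2 (by decide +kernel)⟩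
def tvSp' : Sp₄ := ⟨tvN, SymplecticGroup.mem_iff.2 (by decide +kernel)⟩

theorem spFun_ker : ∀ a b : Q8, ∀ e : C2, spFun a b e = 1 → a = 1 ∧ b = 1 ∧ e = 1 := by
  decide +kernel

theorem spFun_central : ∀ a b : Q8, ∀ e : C2,
    spFun a b e * tvM = tvM * spFun a b e → spFun a b e * tvN = tvN * spFun a b e →
      ((a = 1 ∧ b = 1) ∨ (a = zz ∧ b = zz)) ∧ e = 1 := by
  decide +kernel

theorem spFun_zz : spFun zz zz 1 = -1 := by decide +kernel

/-! ### `GO₆⁻(2)` -/

local notation "I₆" => ((Fin 2 ⊕ Fin 2) ⊕ Fin 2)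

def idx6 : I₆ → Fin 6
  | .inl (.inl i) => ![0, 1] i
  | .inl (.inr i) => ![2, 3] i
  | .inr i => ![4, 5] i

def mk6 (M : Matrix (Fin 6) (Fin 6) (ZMod 2)) : Matrix I₆ I₆ (ZMod 2) := fun i j => M (idx6 i) (idx6 j)

def oa : Matrix I₆ I₆ (ZMod 2) := mk6 !![0, 0, 1, 0, 0, 0; 0, 1, 0, 0, 0, 0; 1, 0, 0, 0, 0, 0;
  0, 0, 0, 1, 0, 0; 0, 0, 0, 0, 1, 0; 0, 0, 0, 0, 0, 1]
def ot : Matrix I₆ I₆ (ZMod 2) := mk6 !![1, 0, 0, 1, 0, 0; 0, 1, 1, 0, 0, 0; 0, 0, 1, 0, 0, 0;
  0, 0, 0, 1, 0, 0; 0, 0, 0, 0, 1, 0; 0, 0, 0, 0, 0, 1]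
def os : Matrix I₆ I₆ (ZMod 2) := mk6 !![1, 0, 1, 0, 1, 0; 0, 1, 0, 0, 0, 0; 1, 0, 1, 0, 0, 1;
  0, 0, 0, 1, 0, 0; 1, 0, 0, 0, 1, 1; 0, 0, 1, 0, 1, 1]

theorem o_facts : oa * oa = 1 ∧ ot * ot = 1 ∧ os * os = 1 := by decide +kernel

theorem o_mem : (∀ v : I₆ → ZMod 2, Cfsg.quadFormMinus 2 (ZMod 2) 1 1 (oa *ᵥ v) = Cfsg.quadFormMinus 2 (ZMod 2) 1 1 v) ∧
    (∀ v : I₆ → ZMod 2, Cfsg.quadFormMinus 2 (ZMod 2) 1 1 (ot *ᵥ v) = Cfsg.quadFormMinus 2 (ZMod 2) 1 1 v) ∧
    (∀ v : I₆ → ZMod 2, Cfsg.quadFormMinus 2 (ZMod 2) 1 1 (os *ᵥ v) = Cfsg.quadFormMinus 2 (ZMod 2) 1 1 v) := by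
  decide +kernel

abbrev GO := ↥(Cfsg.isometryGroup (ZMod 2) (Cfsg.quadFormMinus 2 (ZMod 2) 1 1))

def gA : GO := ⟨u2 oa o_facts.1, CfsgLib.Classical.mem_isometryGroup_iff.2 o_mem.1⟩
def gT : GO := ⟨u2 ot o_facts.2.1, CfsgLib.Classical.mem_isometryGroup_iff.2 o_mem.2.1⟩
def gS : GO := ⟨u2 os o_facts.2.2, CfsgLib.Classical.mem_isometryGroup_iff.2 o_mem.2.2⟩

theorem go_ext {x y : GO} (h : x.1.1 = y.1.1) : x = y := Subtype.ext (Units.ext h)

def lowFun (a b c : C2) : Matrix I₆ I₆ (ZMod 2) :=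
  (if a = 1 then 1 else oa) * (ot * (if b = 1 then 1 else oa) * ot) * if c = 1 then 1 else ot

theorem go_mul (x y : GO) : (x * y).1.1 = x.1.1 * y.1.1 := rfl

theorem go_one : (1 : GO).1.1 = 1 := rfl

theorem gA_coe : gA.1.1 = oa := rfl
theorem gT_coe : gT.1.1 = ot := rfl
theorem gS_coe : gS.1.1 = os := rfl

theorem go_ite (c : C2) (g : GO) : (if c = 1 then 1 else g).1.1 = if c = 1 then 1 else g.1.1 :=
  (apply_ite (fun x : GO => x.1.1) _ _ _).trans rfl

theorem c2Hom_apply {G : Type*} [Monoid G] (t : G) (ht : t * t = 1) (x : C2) :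
    c2Hom t ht x = if x = 1 then 1 else t := rfl

theorem o_comm : ∀ a b : C2, (if a = 1 then 1 else oa) * (ot * (if b = 1 then 1 else oa) * ot) =
    ot * (if b = 1 then 1 else oa) * ot * (if a = 1 then 1 else oa) := by decide +kernel

def oLow : T2 →* GO :=
  wrHom (c2Hom gA (go_ext o_facts.1)) gT (go_ext o_facts.2.1) fun a b => go_ext (by
    simp only [go_mul, c2Hom_apply, go_ite, gA_coe, gT_coe]
    exact o_comm a b)

theorem oLow_coe (a b c : C2) : (oLow ⟨(a, b), c⟩).1.1 = lowFun a b c := by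
  simp only [oLow, wrHom_mk, go_mul, c2Hom_apply, go_ite, gA_coe, gT_coe, lowFun]

theorem low_comm : ∀ a b c d e f : C2,
    lowFun a b c * (os * lowFun d e f * os) = os * lowFun d e f * os * lowFun a b c := by
  decide +kernel

def oT : W T2 →* GO :=
  wrHom oLow gS (go_ext o_facts.2.2) fun x y => go_ext (by
    simp only [go_mul, gS_coe]
    rw [W.ext' x, W.ext' y, oLow_coe, oLow_coe]
    exact low_comm _ _ _ _ _ _)

set_option synthInstance.maxSize 2048 in
set_option synthInstance.maxHeartbeats 1000000 in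
theorem o_ker : ∀ a b c d e f g : C2,
    lowFun a b c * (os * lowFun d e f * os) * (if g = 1 then 1 else os) = 1 →
      a = 1 ∧ b = 1 ∧ c = 1 ∧ d = 1 ∧ e = 1 ∧ f = 1 ∧ g = 1 := by
  decide +kernel

theorem oT_ker (a b c d e f g : C2) (h : oT ⟨(⟨(a, b), c⟩, ⟨(d, e), f⟩), g⟩ = 1) :
    a = 1 ∧ b = 1 ∧ c = 1 ∧ d = 1 ∧ e = 1 ∧ f = 1 ∧ g = 1 := by
  apply o_ker
  have := congrArg (fun x : GO => x.1.1) h
  simpa only [oT, wrHom_mk, go_mul, go_ite, gS_coe, oLow_coe, go_one] using this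


/-- The Sylow 2-subgroups of the alternating group of degree 8 and of PSp₄(3) are isomorphic, and so are the Sylow 2-subgroups of the symmetric group of degree 8 and of the full isometry group of a non-degenerate quadratic form of minus type in dimension 6 over the field with 2 elements. -/
theorem result (F : Type) [Field F] [Fintype F] (hF : Fintype.card F = 3) (K : Type) [Field K] [Fintype K] (hK : Fintype.card K = 2) (a b : K) (hab : ∀ z₁ z₂ : K, z₁ ^ 2 + a * z₁ * z₂ + b * z₂ ^ 2 = 0 → z₁ = 0 ∧ z₂ = 0) (P : Sylow 2 ↥(alternatingGroup (Fin 8))) (Q : Sylow 2 (Cfsg.PSp 2 F)) (P' : Sylow 2 (Equiv.Perm (Fin 8))) (Q' : Sylow 2 ↥(Cfsg.isometryGroup K (Cfsg.quadFormMinus 2 K a b))) : Nonempty (↥(P : Subgroup ↥(alternatingGroup (Fin 8))) ≃* ↥(Q : Subgroup (Cfsg.PSp 2 F))) ∧ Nonempty (↥(P' : Subgroup (Equiv.Perm (Fin 8))) ≃* ↥(Q' : Subgroup ↥(Cfsg.isometryGroup K (Cfsg.quadFormMinus 2 K a b)))) := by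
  classical
  haveI : Fact (Nat.Prime 2) := ⟨Nat.prime_two⟩
  haveI : Fact (Nat.Prime 3) := ⟨Nat.prime_three⟩
  constructor
  · let eF : ZMod 3 ≃+* F := FiniteField.ringEquivOfCardEq (by rw [hF, ZMod.card])
    let φ : W Q8 →* Matrix.symplecticGroup (Fin 2) F :=
      (CfsgLib.Classical.ExcIsoFourTwo.spCong 2 eF).toMonoidHom.comp spT
    have hφi : Function.Injective φ := fun _ _ hxy =>
      ((injective_iff_map_eq_one spT).2 fun ⟨(a, b), e⟩ hw => by
        have h1 := congrArg Subtype.val hw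
        rw [spT_coe] at h1
        obtain ⟨rfl, rfl, rfl⟩ := spFun_ker a b e h1
        rfl) ((CfsgLib.Classical.ExcIsoFourTwo.spCong 2 eF).injective hxy)
    have hW : Nat.card (W Q8) = 2 ^ 7 := by
      rw [card_W, Nat.card_eq_fintype_card, QuaternionGroup.card]
      norm_num
    have hSp : Nat.card (Matrix.symplecticGroup (Fin 2) F) = 2 ^ 7 * 405 := by
      rw [CfsgLib.Classical.card_symplectic, hF]
      norm_num [Finset.prod_range_succ]
    have hrc : Nat.card φ.range = 2 ^ 7 := hW ▸ (Nat.card_congr (MonoidHom.ofInjective hφi).toEquiv).symm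
    have hri : ¬ 2 ∣ φ.range.index := by
      have h := φ.range.card_mul_index
      rw [hrc, hSp] at h
      rw [Nat.eq_of_mul_eq_mul_left (by positivity) h]
      decide
    let R : Sylow 2 (Cfsg.PSp 2 F) := ((IsPGroup.of_card hrc).toSylow hri).mapSurjective
      (QuotientGroup.mk'_surjective (Subgroup.center (Matrix.symplecticGroup (Fin 2) F)))
    let ψ : W Q8 →* Cfsg.PSp 2 F := (QuotientGroup.mk' _).comp φ
    have hψ : ψ.range = (R : Subgroup (Cfsg.PSp 2 F)) := MonoidHom.range_comp _ _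
    have haR : Nonempty (↥(P : Subgroup ↥(alternatingGroup (Fin 8))) ≃* ↥aT.range) := by
      have hk : Nat.card aT.ker = 2 := by
        refine Nat.card_eq_two_iff.2 ⟨1, ⟨⟨(zz, zz), 1⟩, (aT_ker _ _ _).2 ⟨Or.inr ⟨rfl, rfl⟩, rfl⟩⟩, ?_, ?_⟩
        · intro h
          have := congrArg (fun x : ↥aT.ker => x.1.left.1) h
          exact absurd this (show (1 : Q8) ≠ zz by decide)
        · refine Set.eq_univ_of_forall fun ⟨⟨(a, b), e⟩, hw⟩ => ?_
          obtain ⟨h | h, rfl⟩ := (aT_ker a b e).1 hw <;> obtain ⟨rfl, rfl⟩ := h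
          · exact Or.inl rfl
          · exact Or.inr rfl
      have hr : Nat.card aT.range = 2 ^ 6 := by
        have h := aT.ker.card_mul_index
        rw [Subgroup.index_ker, hk, hW] at h
        omega
      have hi : ¬ 2 ∣ aT.range.index := by
        have h := aT.range.card_mul_index
        rw [hr, Nat.card_eq_fintype_card, card_alternatingGroup, Fintype.card_fin] at h
        norm_num [Nat.factorial] at h
        omega
      exact ⟨Sylow.equiv P ((IsPGroup.of_card hr).toSylow hi)⟩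
    obtain ⟨eP⟩ := haR
    have hker : ψ.ker = aT.ker := by
      refine SetLike.ext fun ⟨(a, b), e⟩ => ?_
      show ((φ _ : Matrix.symplecticGroup (Fin 2) F) : Cfsg.PSp 2 F) = 1 ↔ _
      rw [QuotientGroup.eq_one_iff, MonoidHom.mem_ker, aT_ker]
      constructor
      · intro hc
        have hc' : ∀ g, g * spT ⟨(a, b), e⟩ = spT ⟨(a, b), e⟩ * g := fun g =>
          (CfsgLib.Classical.ExcIsoFourTwo.spCong 2 eF).injective (by
            rw [map_mul, map_mul]
            exact Subgroup.mem_center_iff.1 hc _)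
        have h1 := congrArg Subtype.val (hc' tvSp)
        have h2 := congrArg Subtype.val (hc' tvSp')
        simp only [Submonoid.coe_mul, spT_coe] at h1 h2
        exact spFun_central a b e h1.symm h2.symm
      · intro h
        obtain ⟨h | h, rfl⟩ := h <;> obtain ⟨rfl, rfl⟩ := h
        · exact (show φ 1 ∈ Subgroup.center _ by rw [map_one]; exact one_mem _)
        · refine Subgroup.mem_center_iff.2 fun g => Subtype.ext ?_
          have hv : (φ ⟨(zz, zz), 1⟩).1 = -1 := by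
            show (spT ⟨(zz, zz), 1⟩).1.map eF = -1
            rw [spT_coe, spFun_zz]
            ext i j
            rcases eq_or_ne i j with rfl | hij <;> simp [*]
          show g.1 * (φ ⟨(zz, zz), 1⟩).1 = (φ ⟨(zz, zz), 1⟩).1 * g.1
          rw [hv, mul_neg, neg_mul, mul_one, one_mul]
    exact ⟨(((eP.trans (QuotientGroup.quotientKerEquivRange aT).symm).trans
      (QuotientGroup.quotientMulEquivOfEq hker.symm)).trans
      ((QuotientGroup.quotientKerEquivRange ψ).trans (MulEquiv.subgroupCongr hψ))).trans (Sylow.equiv R Q)⟩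
  · have hb : b ≠ 0 := fun h => one_ne_zero (hab 0 1 (by simp [h])).2
    have two : ∀ x : K, x = 0 ∨ x = 1 := by
      intro x
      obtain ⟨y, rfl⟩ := (FiniteField.ringEquivOfCardEq (K := ZMod 2) (K' := K) (by rw [hK, ZMod.card])).surjective x
      fin_cases y
      · exact Or.inl (map_zero _)
      · exact Or.inr (map_one _)
    obtain rfl : b = 1 := (two b).resolve_left hb
    have h110 : (1 : K) + 1 = 0 := by
      rcases two (1 + 1) with h | h
      · exact h
      · exact absurd (add_left_cancel (h.trans (add_zero (1 : K)).symm)) one_ne_zero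
    obtain rfl : a = 1 := (two a).resolve_left fun h =>
      one_ne_zero (hab 1 1 (by rw [h]; linear_combination h110)).1
    let eK : ZMod 2 ≃+* K := FiniteField.ringEquivOfCardEq (by rw [hK, ZMod.card])
    let E := CfsgLib.Classical.SmallOrth.isoEquiv eK (S := Cfsg.quadFormMinus 2 (ZMod 2) 1 1)
      (S' := Cfsg.quadFormMinus 2 K 1 1) (fun v => by
        simp [Cfsg.quadFormMinus]
        rcases two (eK (v (Sum.inr 0))) with h | h <;> rcases two (eK (v (Sum.inr 1))) with h' | h' <;>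
          simp [h, h'])
    obtain ⟨e₁⟩ := equiv_sylow (E.toMonoidHom.comp oT)
      (E.injective.comp (injective_of_ker oT oT_ker)) 7 405 card_T (by
        rw [CfsgLib.Classical.card_iso_minus (fun z₁ z₂ h => hab z₁ z₂ h), hK]
        norm_num [Finset.prod_range_succ]) (by decide) Q'
    obtain ⟨e₂⟩ := equiv_sylow pT (injective_of_ker pT pT_ker) 7 315 card_T (by
        rw [Nat.card_eq_fintype_card, Fintype.card_perm, Fintype.card_fin]
        norm_num [Nat.factorial]) (by decide) P'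
    exact ⟨e₂.symm.trans e₁⟩

end Cfsg.Agent.S2931
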