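import Cfsg.Statements.S2932
import Cfsg.Agent.Lib.LocalStructure.NatSLTwoEmbedded.Main

set_option autoImplicit false
open Cfsg

namespace Cfsg.Agent.S2932

/-- Let p be a prime. Inside a finite ambient group let V be an elementary abelian p-subgroup and G a subgroup normalizing V and acting faithfully on it (G ∩ C(V) = 1), and let L ≤ G act on V as SL₂(F) on its natural module, F a finite field of characteristic p, with L ≅ SL₂(F). If every Sylow p-subgroup of N_G(L) is a Sylow p-subgroup of G, then either L is normal in G, or F has 4 elements and G is isomorphic to the alternating group of degree 7. -/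
theorem result {X : Type*} [Group X] [Finite X] {p : ℕ} [Fact p.Prime] (F : Type) [Field F] [Fintype F] [CharP F p] (V G L : Subgroup X) (hV : Cfsg.IsElementaryAbelian p V) (hGV : G ≤ Subgroup.normalizer (V : Set X)) (hfaith : G ⊓ Subgroup.centralizer (V : Set X) = ⊥) (hLG : L ≤ G) (hnat : Cfsg.IsNaturalSL2Module F V L) (hLiso : Nonempty (↥L ≃* Matrix.SpecialLinearGroup (Fin 2) F)) (hSyl : ∀ S : Sylow p ↥(G ⊓ Subgroup.normalizer (L : Set X)), ∀ P : Sylow p ↥G, Nat.card S = Nat.card P) : (L.subgroupOf G).Normal ∨ (Fintype.card F = 4 ∧ Nonempty (↥G ≃* ↥(alternatingGroup (Fin 7)))) := by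
  classical
  obtain ⟨hLV, ρ, ψ, hρ, hker, hact⟩ := hnat
  letI act : DistribMulAction ↥G (Fin 2 → F) :=
    { smul := fun γ v => ψ (Additive.ofMul ⟨(γ : X) * (ψ.symm v).toMul.1 * (γ : X)⁻¹,
        (Subgroup.mem_normalizer_iff.1 (hGV γ.2) _).1 (ψ.symm v).toMul.2⟩)
      one_smul := fun v => by
        show ψ _ = v
        conv_rhs => rw [← ψ.apply_symm_apply v]
        refine congrArg ψ (Additive.toMul.injective (Subtype.ext ?_))
        simp
      mul_smul := fun a b v => by
        show ψ _ = ψ _
        refine congrArg ψ (Additive.toMul.injective (Subtype.ext ?_))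
        show ((a * b : G) : X) * _ * ((a * b : G) : X)⁻¹ = (a : X) * (ψ.symm (ψ _)).toMul.1 * (a : X)⁻¹
        rw [ψ.symm_apply_apply]
        simp [mul_assoc]
      smul_zero := fun a => by
        show ψ _ = 0
        rw [← map_zero ψ]
        refine congrArg ψ (Additive.toMul.injective (Subtype.ext ?_))
        simp
      smul_add := fun a v w => by
        show ψ _ = ψ _ + ψ _
        rw [← map_add]
        refine congrArg ψ (Additive.toMul.injective (Subtype.ext ?_))
        simp [mul_assoc] }
  have hρi : Function.Injective ρ := (MonoidHom.ker_eq_bot_iff ρ).1 (by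
    rw [hker, eq_bot_iff]
    intro l hl
    refine Subgroup.mem_bot.2 (Subtype.ext ?_)
    have : (l : X) ∈ G ⊓ Subgroup.centralizer (V : Set X) := ⟨hLG l.2, hl⟩
    rw [hfaith] at this
    exact Subgroup.mem_bot.1 this)
  let e : ↥L ≃* Matrix.SpecialLinearGroup (Fin 2) F := MulEquiv.ofBijective ρ ⟨hρi, hρ⟩
  let f : Matrix.SpecialLinearGroup (Fin 2) F →* ↥G := (Subgroup.inclusion hLG).comp e.symm.toMonoidHom
  have hrange : f.range = L.subgroupOf G := by
    ext x
    constructor
    · rintro ⟨g, rfl⟩
      exact (e.symm g).2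
    · intro hx
      refine ⟨e ⟨x, hx⟩, ?_⟩
      show Subgroup.inclusion hLG (e.symm (e ⟨x, hx⟩)) = x
      rw [e.symm_apply_apply]; rfl
  let Y : CfsgLib.NatEmb.Sys p F ↥G :=
    { hom := f
      spec := fun g v => by
        obtain ⟨w, hw, hw'⟩ := hact (e.symm g) (ψ.symm v).toMul
        show ψ _ = _
        rw [show ρ (e.symm g) = g from e.apply_symm_apply g, show ψ (Additive.ofMul (ψ.symm v).toMul) = v
          from ψ.apply_symm_apply v] at hw'
        rw [← hw']
        exact congrArg (fun z => ψ (Additive.ofMul z)) (Subtype.ext hw.symm)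
      faith := fun γ hγ => by
        have hc : (γ : X) ∈ G ⊓ Subgroup.centralizer (V : Set X) := by
          refine ⟨γ.2, Subgroup.mem_centralizer_iff.2 fun x hx => ?_⟩
          have h1 : ψ.symm (γ • ψ (Additive.ofMul (⟨x, hx⟩ : V))) =
              ψ.symm (ψ (Additive.ofMul (⟨x, hx⟩ : V))) := by rw [hγ]
          have h3 : ψ.symm (γ • ψ (Additive.ofMul (⟨x, hx⟩ : V))) = Additive.ofMul
              (⟨(γ : X) * (ψ.symm (ψ (Additive.ofMul (⟨x, hx⟩ : V)))).toMul.1 * (γ : X)⁻¹,
                (Subgroup.mem_normalizer_iff.1 (hGV γ.2) _).1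
                  (ψ.symm (ψ (Additive.ofMul (⟨x, hx⟩ : V)))).toMul.2⟩ : V) := ψ.symm_apply_apply _
          rw [h3] at h1
          have h2 := congrArg (fun z : Additive V => z.toMul.1) h1
          simp at h2
          exact (mul_inv_eq_iff_eq_mul.1 h2).symm
        rw [hfaith] at hc
        exact Subtype.ext (Subgroup.mem_bot.1 hc)
      index := by
        intro hd
        set M := G ⊓ Subgroup.normalizer (L : Set X) with hM
        have hN : Subgroup.normalizer (f.range : Set ↥G) = M.subgroupOf G := by
          rw [hrange]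
          ext x
          rw [Subgroup.mem_normalizer_iff, Subgroup.mem_subgroupOf]
          refine ⟨fun h => ⟨x.2, Subgroup.mem_normalizer_iff.2 fun y => ⟨fun hy => ?_, fun hy => ?_⟩⟩,
            fun h y => ?_⟩
          · exact (h ⟨y, hLG hy⟩).1 hy
          · have hyG : y ∈ G := by
              have := mul_mem (mul_mem (inv_mem x.2) (hLG hy)) x.2
              simpa [mul_assoc] using this
            exact (h ⟨y, hyG⟩).2 hy
          · exact Subgroup.mem_normalizer_iff.1 h.2 y
        rw [hN] at hd
        obtain ⟨S⟩ := (inferInstance : Nonempty (Sylow p ↥M))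
        obtain ⟨P⟩ := (inferInstance : Nonempty (Sylow p ↥G))
        have h1 := hSyl S P
        have h2 : Nat.card (S : Subgroup ↥M) ∣ Nat.card ↥M := Subgroup.card_subgroup_dvd_card _
        have h3 := (M.subgroupOf G).card_mul_index
        rw [Nat.card_congr (Subgroup.subgroupOfEquivOfLe (inf_le_left : M ≤ G)).toEquiv] at h3
        have h4 : Nat.card (S : Subgroup ↥M) * p ∣ Nat.card ↥G := h3 ▸ mul_dvd_mul h2 hd
        rw [← (P : Subgroup ↥G).card_mul_index] at h4
        change Nat.card (S : Subgroup ↥M) = Nat.card (P : Subgroup ↥G) at h1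
        rw [h1] at h4
        exact P.not_dvd_index (Nat.dvd_of_mul_dvd_mul_left Nat.card_pos h4) }
  rcases Y.normal_or_alt_seven with h | ⟨hq, h⟩
  · exact Or.inl (hrange ▸ h)
  · exact Or.inr ⟨by rw [← Nat.card_eq_fintype_card, hq], h⟩

end Cfsg.Agent.S2932
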