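import Cfsg.Statements.S2933
import Cfsg.Agent.Lib.PGroup.SingerPair.Main
import Cfsg.Agent.Lib.PGroup.TransInvol.RankTwo

set_option autoImplicit false
open Cfsg

namespace Cfsg.Agent.S2933

open Subgroup in
theorem classify_aux {Q : Type*} [Group Q] [Finite Q] (hQ : IsPGroup 2 Q) (α ρ : MulAut Q)
    (hα2 : ∀ x, α (α x) = x) (hc : ∀ x, α (ρ x) = ρ (α x)) (hρ3 : ∀ x, ρ (ρ (ρ x)) = x)
    (C : Subgroup Q) (hC : ∀ x : Q, x ∈ C ↔ α x = x) (h4 : Nat.card C = 4)
    (h2 : ∀ x ∈ C, x ^ 2 = 1) (hab : ∀ x ∈ C, ∀ y : Q, x * y = y * x)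
    (hfree : ∀ x ∈ C, x ≠ 1 → ρ x ≠ x) :
    (Nat.card Q = 16 ∧ ∀ x : Q, x ^ 2 = 1) ∨
      (∃ n : ℕ, 1 ≤ n ∧ Nonempty (Q ≃* Multiplicative (ZMod (2 ^ n)) × Multiplicative (ZMod (2 ^ n)))) ∨
      (∃ (F : Type) (_ : Field F) (_ : Fintype F), Fintype.card F = 4 ∧
        ∃ S : Sylow 2 (Matrix.ProjectiveSpecialLinearGroup (Fin 3) F),
          Nonempty (Q ≃* ↥(S : Subgroup (Matrix.ProjectiveSpecialLinearGroup (Fin 3) F)))) ∨
      (∃ (F : Type) (_ : Field F) (_ : Fintype F), Fintype.card F = 16 ∧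
        ∃ S : Sylow 2 (Cfsg.PSU 3 F 4), Nonempty (Q ≃* ↥(S : Subgroup (Cfsg.PSU 3 F 4)))) := by
  classical
  have hρC : ∀ x ∈ C, ρ x ∈ C := fun x hx => (hC _).2 (by rw [hc, (hC x).1 hx])
  -- transitivity on the involutions of `C`
  have htr : ∀ x y : Q, x ∈ C → y ∈ C → x ≠ 1 → y ≠ 1 → ∃ k : ℕ, (ρ ^ k) x = y := by
    intro x y hx hy hx1 hy1
    by_contra hno
    push Not at hno
    have e0 : x ≠ y := by simpa using hno 0
    have e1 : ρ x ≠ y := by simpa using hno 1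
    have e2 : ρ (ρ x) ≠ y := by simpa [pow_two, MulAut.mul_apply] using hno 2
    have n1 : ρ x ≠ 1 := fun e => hx1 (ρ.map_eq_one_iff.1 e)
    have n2 : ρ (ρ x) ≠ 1 := fun e => n1 (ρ.map_eq_one_iff.1 e)
    have d1 := hfree x hx hx1
    have d2 := hfree _ (hρC x hx) n1
    have d3 : ρ (ρ x) ≠ x := fun e => d1 (by
      have h := hρ3 x; rw [e] at h; exact h)
    have hcard : ({1, x, ρ x, ρ (ρ x), y} : Finset Q).card ≤ 4 := by
      haveI := Fintype.ofFinite C
      rw [← h4, Nat.card_eq_fintype_card, ← Finset.card_univ,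
        ← Finset.card_map (Function.Embedding.subtype fun z => z ∈ C)]
      refine Finset.card_le_card fun z hz => ?_
      simp only [Finset.mem_map, Finset.mem_univ, true_and, Function.Embedding.coe_subtype]
      simp only [Finset.mem_insert, Finset.mem_singleton] at hz
      rcases hz with rfl | rfl | rfl | rfl | rfl
      exacts [⟨1, rfl⟩, ⟨⟨_, hx⟩, rfl⟩, ⟨⟨_, hρC x hx⟩, rfl⟩, ⟨⟨_, hρC _ (hρC x hx)⟩, rfl⟩,
        ⟨⟨_, hy⟩, rfl⟩]
    rw [Finset.card_insert_of_notMem, Finset.card_insert_of_notMem,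
      Finset.card_insert_of_notMem, Finset.card_pair e2] at hcard
    · omega
    all_goals simp [Ne.symm hx1, Ne.symm n1, Ne.symm n2, Ne.symm hy1, Ne.symm d1, Ne.symm d3,
      Ne.symm d2, e0, e1]
  by_cases hna : IsMulCommutative Q
  · have comm : ∀ x y : Q, x * y = y * x := fun x y => hna.is_comm.comm x y
    letI : CommGroup Q := { (inferInstance : Group Q) with mul_comm := comm }
    let E : Subgroup Q :=
      { carrier := {x | x ^ 2 = 1}
        one_mem' := one_pow 2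
        mul_mem' := fun {a b} ha hb => by
          show (a * b) ^ 2 = 1
          rw [mul_pow, show a ^ 2 = 1 from ha, show b ^ 2 = 1 from hb, one_mul]
        inv_mem' := fun {a} ha => by
          show a⁻¹ ^ 2 = 1
          rw [inv_pow, show a ^ 2 = 1 from ha, inv_one] }
    have hCE : C ≤ E := h2
    have hαE : ∀ x, x ^ 2 = 1 → α x ^ 2 = 1 := fun x hx => by rw [← map_pow, hx, map_one]
    have himg : ∀ x ∈ E, x⁻¹ * α x ∈ C := fun x hx => (hC _).2 (by
      rw [map_mul, map_inv, hα2, inv_eq_of_mul_eq_one_right (a := α x) (by rw [← pow_two]; exact hαE x hx),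
        inv_eq_of_mul_eq_one_right (a := x) (by rw [← pow_two]; exact hx), comm])
    let g : E →* C := MonoidHom.mk' (fun x => ⟨(x : Q)⁻¹ * α x, himg x x.2⟩) fun a b =>
      Subtype.ext (by
        show ((a : Q) * b)⁻¹ * α ((a : Q) * b) = (a : Q)⁻¹ * α a * ((b : Q)⁻¹ * α b)
        rw [map_mul, mul_inv, mul_mul_mul_comm])
    have hker : Nat.card g.ker = 4 := by
      rw [← h4]
      refine Nat.card_congr ⟨fun x => ⟨x.1.1, (hC _).2 (inv_mul_eq_one.1
        (congrArg Subtype.val (MonoidHom.mem_ker.1 x.2))).symm⟩,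
        fun y => ⟨⟨y.1, hCE y.2⟩, MonoidHom.mem_ker.2 (Subtype.ext (by
          show (y : Q)⁻¹ * α y = 1
          rw [(hC _).1 y.2, inv_mul_cancel]))⟩, fun _ => rfl, fun _ => rfl⟩
    by_cases h1 : g.range = ⊥
    · refine Or.inr (Or.inl ?_)
      have hE4 : Nat.card {x : Q // x ^ 2 = 1} = 4 := by
        have h := g.ker.index_mul_card
        rw [index_ker, h1, card_bot, one_mul, hker] at h
        exact h.symm
      have hEC : ∀ x : Q, x ^ 2 = 1 → x ∈ C := fun x hx => (hC x).2 (inv_mul_eq_one.1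
        (congrArg Subtype.val (MonoidHom.mem_ker.1
          (show (⟨x, hx⟩ : E) ∈ g.ker by
            rw [MonoidHom.range_eq_bot_iff] at h1; rw [h1]; simp)))).symm
      obtain ⟨n, hn, ⟨e⟩⟩ := CfsgLib.TransInvol.homocyclic_of_transitive hQ comm hE4
        fun x y hx1 hx hy1 hy => by
          obtain ⟨k, hk⟩ := htr x y (hEC x hx) (hEC y hy) hx1 hy1
          exact ⟨ρ ^ k, hk⟩
      exact ⟨n, hn, ⟨e.trans (MulEquiv.prodMultiplicative _ _)⟩⟩
    · refine Or.inl ?_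
      obtain ⟨⟨w, hwC⟩, hw, hw1⟩ := (Subgroup.ne_bot_iff_exists_ne_one.1 h1) |> fun ⟨z, hz⟩ =>
        (⟨z.1, z.2, fun e => hz (Subtype.ext e)⟩ : ∃ w : C, w ∈ g.range ∧ w ≠ 1)
      obtain ⟨⟨x, hx⟩, hgx⟩ := hw
      have hgρ : ∀ (k : ℕ), ∀ z : Q, z⁻¹ * α z = w → ((ρ ^ k) z)⁻¹ * α ((ρ ^ k) z) = (ρ ^ k) w := by
        intro k z hz
        induction k with
        | zero => simpa using hz
        | succ k ih =>
          rw [pow_succ']
          simp only [MulAut.mul_apply]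
          rw [hc, ← map_inv ρ, ← map_mul ρ, ih]
      have hxw : x⁻¹ * α x = w := congrArg Subtype.val hgx
      have hsurj : ∀ v ∈ C, ∃ z : Q, z ^ 2 = 1 ∧ z⁻¹ * α z = v := by
        intro v hv
        by_cases hv1 : v = 1
        · exact ⟨1, one_pow 2, by rw [hv1]; simp⟩
        obtain ⟨k, hk⟩ := htr w v hwC hv (fun e => hw1 (Subtype.ext e)) hv1
        exact ⟨(ρ ^ k) x, by rw [← map_pow, show x ^ 2 = 1 from hx, map_one],
          by rw [hgρ k x hxw, hk]⟩
      have hexp : ∀ z : Q, z ^ 2 = 1 := by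
        by_contra hne
        push Not at hne
        obtain ⟨z₀, hz₀⟩ := hne
        -- an element of order four
        obtain ⟨z, hz4, hz2⟩ : ∃ z : Q, (z ^ 2) ^ 2 = 1 ∧ z ^ 2 ≠ 1 := by
          obtain ⟨j, hj⟩ := hQ z₀
          induction j generalizing z₀ with
          | zero => exact absurd (by rw [pow_zero, pow_one] at hj; rw [hj, one_pow]) hz₀
          | succ j ih =>
            by_cases h4' : (z₀ ^ 2) ^ 2 = 1
            · exact ⟨z₀, h4', hz₀⟩
            · exact ih (z₀ ^ 2) h4' (by rw [← pow_mul, ← pow_succ']; exact hj)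
        have hf : z * α z ∈ C := (hC _).2 (by rw [map_mul, hα2, comm])
        have hzz : z ^ 2 ∈ C := (hC _).2 (by
          have h := h2 _ hf
          rw [mul_pow, ← map_pow] at h
          rw [eq_inv_of_mul_eq_one_right h, inv_eq_of_mul_eq_one_right (by rw [← pow_two]; exact hz4)])
        have hgz : z⁻¹ * α z ∈ C := by
          have h := mul_mem (inv_mem hzz) hf
          rwa [pow_two, mul_inv_rev, mul_assoc, ← mul_assoc z⁻¹ z, inv_mul_cancel, one_mul] at h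
        obtain ⟨z', hz'2, hz'⟩ := hsurj _ hgz
        have hd : z'⁻¹ * z ∈ C := (hC _).2 (by
          rw [map_mul, map_inv]
          have e : α z = z * (z⁻¹ * α z) := (mul_inv_cancel_left _ _).symm
          have e' : α z' = z' * (z⁻¹ * α z) := by rw [← hz', mul_inv_cancel_left]
          rw [e, e', mul_inv, mul_mul_mul_comm, inv_mul_cancel, mul_one])
        refine hz2 ?_
        have h := h2 _ hd
        rwa [mul_pow, inv_pow, hz'2, inv_one, one_mul] at h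
      refine ⟨?_, hexp⟩
      have hr : Nat.card g.range = 4 := by
        rw [← h4]
        refine Nat.card_congr (Equiv.subtypeUnivEquiv fun v => ?_)
        obtain ⟨z, hz, hzv⟩ := hsurj v v.2
        exact ⟨⟨z, hz⟩, Subtype.ext hzv⟩
      have h := g.ker.index_mul_card
      rw [index_ker, hr, hker] at h
      have hE : E = ⊤ := eq_top_iff.2 fun z _ => hexp z
      have h' : Nat.card E = Nat.card Q := by rw [hE, card_top]
      omega
  · have hα : orderOf α = 2 := orderOf_eq_prime (MulEquiv.ext fun x => by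
      rw [pow_two, MulAut.mul_apply, hα2]; rfl) fun e => hna (isMulCommutative_iff.2 fun a b =>
        hab a ((hC a).2 (by rw [e]; rfl)) b)
    haveI : Fact (Nat.Prime 3) := ⟨Nat.prime_three⟩
    have hρ : orderOf ρ = 2 ^ 2 - 1 := by
      rw [show (2 ^ 2 - 1 : ℕ) = 3 from rfl]
      refine orderOf_eq_prime (MulEquiv.ext fun x => ?_) fun e => ?_
      · show ρ (ρ (ρ x)) = x
        exact hρ3 x
      · haveI : Nontrivial C := Finite.one_lt_card_iff_nontrivial.1 (by omega)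
        obtain ⟨⟨v, hv⟩, hv1⟩ := exists_ne (1 : C)
        exact hfree v hv (fun h => hv1 (Subtype.ext h)) (by rw [e]; rfl)
    rcases CfsgLib.PGroup.SingerPair.classify hQ hna 2 le_rfl α ρ hα hρ (MulEquiv.ext hc) C hC
      ⟨⟨isMulCommutative_iff.2 fun a b => Subtype.ext (hab a a.2 b), h2⟩, h4⟩ htr with
      ⟨F, i1, i2, h, S, e⟩ | ⟨F, i1, i2, h, S, e⟩
    · exact Or.inr (Or.inr (Or.inr ⟨F, i1, i2, h.trans (by norm_num), S, e⟩))
    · exact Or.inr (Or.inr (Or.inl ⟨F, i1, i2, h.trans (by norm_num), S, e⟩))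

/-- Let T be a 2-subgroup of a finite group G, V ≤ Z(T) a four-group, and t, ρ ∈ N_G(V) ∩ N_G(T) elements of order 2 and 3 with t commuting with ρ and with V. If [V, ρ] = V and C_T(t) = V, then T is elementary abelian of order 16, or homocyclic of rank 2 (ℤ/2ⁿ × ℤ/2ⁿ for some n ≥ 1), or isomorphic to a Sylow 2-subgroup of PSL₃(4) or of PSU₃(4). -/
theorem result {G : Type*} [Group G] [Finite G] (T V : Subgroup G) (hT : IsPGroup 2 ↥T) (hVT : V ≤ T ⊓ Subgroup.centralizer (T : Set G)) (hV : Nat.card ↥V = 4 ∧ ∀ v ∈ V, v ^ 2 = 1) (t ρ : G) (ht : orderOf t = 2) (hρ : orderOf ρ = 3) (htn : t ∈ Subgroup.normalizer (V : Set G) ⊓ Subgroup.normalizer (T : Set G)) (hρn : ρ ∈ Subgroup.normalizer (V : Set G) ⊓ Subgroup.normalizer (T : Set G)) (htρ : t * ρ = ρ * t) (htV : t ∈ Subgroup.centralizer (V : Set G)) (hVρ : ⁅V, Subgroup.zpowers ρ⁆ = V) (hCt : T ⊓ Subgroup.centralizer ({t} : Set G) = V) : (Nat.card ↥T = 16 ∧ ∀ x ∈ T, x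 ^ 2 = 1) ∨ (∃ n : ℕ, 1 ≤ n ∧ Nonempty (↥T ≃* Multiplicative (ZMod (2 ^ n)) × Multiplicative (ZMod (2 ^ n)))) ∨ (∃ (F : Type) (_ : Field F) (_ : Fintype F), Fintype.card F = 4 ∧ ∀ P : Sylow 2 (Matrix.ProjectiveSpecialLinearGroup (Fin 3) F), Nonempty (↥T ≃* ↥(P : Subgroup (Matrix.ProjectiveSpecialLinearGroup (Fin 3) F)))) ∨ (∃ (F : Type) (_ : Field F) (_ : Fintype F), Fintype.card F = 16 ∧ ∀ P : Sylow 2 (Cfsg.PSU 3 F 4), Nonempty (↥T ≃* ↥(P : Subgroup (Cfsg.PSU 3 F 4)))) := by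
  classical
  haveI : Fact (Nat.Prime 2) := ⟨Nat.prime_two⟩
  let f := T.normalizerMonoidHom
  set α : MulAut T := f ⟨t, htn.2⟩ with hα
  set σ : MulAut T := f ⟨ρ, hρn.2⟩ with hσ
  have hαa : ∀ x : T, (α x : G) = t * x * t⁻¹ := fun x => rfl
  have hσa : ∀ x : T, (σ x : G) = ρ * x * ρ⁻¹ := fun x => rfl
  have htt : t * t = 1 := by rw [← pow_two, ← ht, pow_orderOf_eq_one]
  have hρ3 : ρ * ρ * ρ = 1 := by rw [← pow_three', ← hρ, pow_orderOf_eq_one]
  have hVT' : V ≤ Subgroup.centralizer (T : Set G) := hVT.trans inf_le_right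
  have hVT : V ≤ T := hVT.trans inf_le_left
  have hfree : ∀ x ∈ V.subgroupOf T, x ≠ 1 → σ x ≠ x := by
    intro x hx hx1 e
    have e' : ρ * (x : G) = (x : G) * ρ := mul_inv_eq_iff_eq_mul.1 (congrArg Subtype.val e)
    have hρV : ∀ v ∈ V, ρ * v * ρ⁻¹ ∈ V := fun v hv => (Subgroup.mem_normalizer_iff.1 hρn.1 v).1 hv
    have hx1' : (x : G) ≠ 1 := fun h => hx1 (Subtype.ext h)
    -- then `ρ` centralises `V`
    have hall : ∀ v ∈ V, ρ * v = v * ρ := by
      intro v hv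
      by_contra hne
      have key : ({1, (x : G), v, ρ * v * ρ⁻¹, ρ * (ρ * v * ρ⁻¹) * ρ⁻¹} : Finset G).card ≤ 4 := by
        haveI := Fintype.ofFinite V
        rw [← hV.1, Nat.card_eq_fintype_card, ← Finset.card_univ,
          ← Finset.card_map (Function.Embedding.subtype fun z => z ∈ V)]
        refine Finset.card_le_card fun z hz => ?_
        simp only [Finset.mem_map, Finset.mem_univ, true_and, Function.Embedding.coe_subtype]
        simp only [Finset.mem_insert, Finset.mem_singleton] at hz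
        rcases hz with rfl | rfl | rfl | rfl | rfl
        exacts [⟨1, rfl⟩, ⟨⟨_, hx⟩, rfl⟩, ⟨⟨_, hv⟩, rfl⟩, ⟨⟨_, hρV v hv⟩, rfl⟩,
          ⟨⟨_, hρV _ (hρV v hv)⟩, rfl⟩]
      have d1 : ρ * v * ρ⁻¹ ≠ v := fun h => hne (mul_inv_eq_iff_eq_mul.1 h)
      have d2 : ρ * (ρ * v * ρ⁻¹) * ρ⁻¹ ≠ ρ * v * ρ⁻¹ := fun h =>
        d1 (mul_left_cancel (mul_right_cancel h))
      have d3 : ρ * (ρ * v * ρ⁻¹) * ρ⁻¹ ≠ v := fun h => d1 (by
        have h' := congrArg (fun z => ρ * z * ρ⁻¹) h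
        have hinv : ρ⁻¹ * ρ⁻¹ * ρ⁻¹ = 1 := by rw [← mul_inv_rev, ← mul_inv_rev, ← mul_assoc, hρ3, inv_one]
        calc ρ * v * ρ⁻¹ = ρ * (ρ * (ρ * v * ρ⁻¹) * ρ⁻¹) * ρ⁻¹ := h'.symm
          _ = (ρ * ρ * ρ) * v * (ρ⁻¹ * ρ⁻¹ * ρ⁻¹) := by group
          _ = v := by rw [hρ3, hinv, one_mul, mul_one])
      have fix : ∀ y : G, ρ * y = y * ρ → ∀ z, ρ * z * ρ⁻¹ = y → z = y := fun y hy z hz => by
        rw [← mul_right_inj ρ, hy]; exact mul_inv_eq_iff_eq_mul.1 hz
      have hv1 : v ≠ 1 := fun h => hne (by rw [h, one_mul, mul_one])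
      have hvx : v ≠ x := fun h => hne (h ▸ e')
      have a1 : ρ * v * ρ⁻¹ ≠ 1 := fun h => hv1 (fix 1 (by rw [one_mul, mul_one]) v h)
      have a2 : ρ * v * ρ⁻¹ ≠ x := fun h => hvx (fix _ e' v h)
      have b1 : ρ * (ρ * v * ρ⁻¹) * ρ⁻¹ ≠ 1 := fun h => a1 (fix 1 (by rw [one_mul, mul_one]) _ h)
      have b2 : ρ * (ρ * v * ρ⁻¹) * ρ⁻¹ ≠ x := fun h => a2 (fix _ e' _ h)
      rw [Finset.card_insert_of_notMem, Finset.card_insert_of_notMem,
        Finset.card_insert_of_notMem, Finset.card_pair (Ne.symm d2)] at key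
      · omega
      all_goals simp only [Finset.mem_insert, Finset.mem_singleton, not_or]
      exacts [⟨Ne.symm d1, Ne.symm d3⟩, ⟨Ne.symm hvx, Ne.symm a2, Ne.symm b2⟩,
        ⟨Ne.symm hx1', Ne.symm hv1, Ne.symm a1, Ne.symm b1⟩]
    have hbot : ⁅V, Subgroup.zpowers ρ⁆ = ⊥ := Subgroup.commutator_eq_bot_iff_le_centralizer.2
      fun v hv => Subgroup.mem_centralizer_iff.2 fun y hy => by
        obtain ⟨k, rfl⟩ := Subgroup.mem_zpowers_iff.1 hy
        exact ((show Commute ρ v from hall v hv).zpow_left k).eq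
    have : x = 1 := Subtype.ext (Subgroup.mem_bot.1 (by rw [← hbot, hVρ]; exact hx))
    exact hx1 this
  have key := classify_aux hT α σ
    (fun x => Subtype.ext (by
      rw [hαa, hαa]
      calc t * (t * x * t⁻¹) * t⁻¹ = (t * t) * x * (t * t)⁻¹ := by group
        _ = x := by rw [htt]; group))
    (fun x => Subtype.ext (by
      rw [hαa, hσa, hσa, hαa]
      calc t * (ρ * x * ρ⁻¹) * t⁻¹ = (t * ρ) * x * (t * ρ)⁻¹ := by group
        _ = _ := by rw [htρ]; group))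
    (fun x => Subtype.ext (by
      rw [hσa, hσa, hσa]
      calc ρ * (ρ * (ρ * x * ρ⁻¹) * ρ⁻¹) * ρ⁻¹ = (ρ * ρ * ρ) * x * (ρ * ρ * ρ)⁻¹ := by group
        _ = x := by rw [hρ3]; group))
    (V.subgroupOf T)
    (fun x => by
      rw [Subgroup.mem_subgroupOf, ← hCt, Subgroup.mem_inf, Subgroup.mem_centralizer_singleton_iff]
      exact ⟨fun h => Subtype.ext (by rw [hαa, ← h.2, mul_inv_cancel_right]),
        fun h => ⟨x.2, (mul_inv_eq_iff_eq_mul.1 (congrArg Subtype.val h)).symm⟩⟩)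
    (by rw [Nat.card_congr (Subgroup.subgroupOfEquivOfLe hVT).toEquiv, hV.1])
    (fun x hx => Subtype.ext (hV.2 x hx))
    (fun x hx y => Subtype.ext (Subgroup.mem_centralizer_iff.1 (hVT' hx) y y.2).symm)
    hfree
  rcases key with ⟨h, h'⟩ | h | ⟨F, i1, i2, h, S, ⟨e⟩⟩ | ⟨F, i1, i2, h, S, ⟨e⟩⟩
  · exact Or.inl ⟨h, fun x hx => congrArg Subtype.val (h' ⟨x, hx⟩)⟩
  · exact Or.inr (Or.inl h)
  · exact Or.inr (Or.inr (Or.inl ⟨F, i1, i2, h, fun P => ⟨e.trans (S.equiv P)⟩⟩))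
  · exact Or.inr (Or.inr (Or.inr ⟨F, i1, i2, h, fun P => ⟨e.trans (S.equiv P)⟩⟩))

end Cfsg.Agent.S2933
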