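import Cfsg.Statements.S2934
import Cfsg.Agent.Lib.Invol.OneFixedInvolution
-- import your own Cfsg.Agent.* helpers here

set_option autoImplicit false
open Cfsg

namespace Cfsg.Agent.S2934

theorem isExtraspecial_of_mulEquiv {A B : Type*} [Group A] [Group B] {p : ℕ} (e : A ≃* B)
    (h : Cfsg.IsExtraspecial p A) : Cfsg.IsExtraspecial p B := by
  obtain ⟨⟨hp, hfr, hcom⟩, hcard⟩ := h
  have hc : (Subgroup.center A).map e.toMonoidHom = Subgroup.center B := by
    ext b
    simp only [Subgroup.mem_map_equiv, Subgroup.mem_center_iff]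
    refine ⟨fun h g => ?_, fun h g => ?_⟩
    · simpa using congrArg e (h (e.symm g))
    · simpa using congrArg e.symm (h (e g))
  have hf : (frattini A).map e.toMonoidHom = frattini B := by
    refine le_antisymm (Subgroup.map_le_iff_le_comap.2
      (frattini_le_comap_frattini_of_surjective (φ := e.toMonoidHom) e.surjective)) ?_
    rw [Subgroup.map_equiv_eq_comap_symm']
    exact frattini_le_comap_frattini_of_surjective (φ := e.symm.toMonoidHom) e.symm.surjective
  refine ⟨⟨hp.of_equiv e, by rw [← hf, hfr, hc], ?_⟩, ?_⟩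
  · rw [← hc, ← hcom, map_commutator_eq, MonoidHom.range_eq_top.2 e.surjective, commutator_def]
  · rw [← Nat.card_congr (Subgroup.centerCongr e).toEquiv, hcard]

/-- Let p be an odd prime, W a finite 2-group and E a non-cyclic abelian p-subgroup of Aut(W) such that, for every nontrivial e ∈ E, the fixed points of e in W contain at most one involution. Then E has order 9, W is extraspecial of order 2⁵, 2⁷ or 2⁹, and the common fixed points of E in W form exactly the centre Z(W). -/
theorem result {W : Type*} [Group W] [Finite W] (hW : IsPGroup 2 W) {p : ℕ} [Fact p.Prime] (hp : p ≠ 2) (E : Subgroup (MulAut W)) (hE : IsPGroup p ↥E) (hab : IsMulCommutative ↥E) (hnc : ¬ IsCyclic ↥E) (hfix : ∀ e ∈ E, e ≠ 1 → ∀ x y : W, orderOf x = 2 → orderOf y = 2 → e x = x → e y = y → x = y) : Nat.card ↥E = 9 ∧ Cfsg.IsExtraspecial 2 W ∧ (Nat.card W = 2 ^ 5 ∨ Nat.card W = 2 ^ 7 ∨ Nat.card W = 2 ^ 9) ∧ {x : W | ∀ e ∈ E, e x = x} = (Subgroup.center W : Set W) := by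
  classical
  set Γ := W ⋊[E.subtype] ↥E
  haveI : Finite Γ := Finite.of_equiv _ SemidirectProduct.equivProd.symm
  let iW : W →* Γ := SemidirectProduct.inl
  let iE : E →* Γ := SemidirectProduct.inr
  have iWinj : Function.Injective iW := SemidirectProduct.inl_injective
  have iEinj : Function.Injective iE := SemidirectProduct.inr_injective
  have hact : ∀ (e : E) (x : W), iE e * iW x * (iE e)⁻¹ = iW ((e : MulAut W) x) := fun e x => by
    rw [← map_inv]; exact (SemidirectProduct.inl_aut (φ := E.subtype) e x).symm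
  have hcm : ∀ (e : E) (x : W), Commute (iE e) (iW x) ↔ (e : MulAut W) x = x := by
    intro e x
    refine ⟨fun h => iWinj ?_, fun h => ?_⟩
    · rw [← hact, h.eq, mul_inv_cancel_right]
    · exact mul_inv_eq_iff_eq_mul.1 (by rw [hact, h])
  have hS : CfsgLib.OneFixed.Setup iW.range iE.range p := by
    refine ⟨hW.of_equiv (MonoidHom.ofInjective iWinj), hp, hE.of_equiv (MonoidHom.ofInjective iEinj),
      ?_, ?_, ?_, ?_⟩
    · rintro _ ⟨a, rfl⟩ _ ⟨b, rfl⟩
      exact (Commute.map (hab.is_comm.comm a b) iE : _)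
    · rintro _ ⟨a, rfl⟩
      refine Subgroup.mem_normalizer_iff.2 fun n => ⟨?_, ?_⟩
      · rintro ⟨x, rfl⟩
        exact ⟨_, (hact a x).symm⟩
      · rintro ⟨x, hx⟩
        refine ⟨((a⁻¹ : E) : MulAut W) x, ?_⟩
        rw [← hact, map_inv, inv_inv, hx]
        simp [mul_assoc]
    · rintro _ ⟨a, rfl⟩ hall
      have : a = 1 := Subtype.ext (MulEquiv.ext fun x => (hcm a x).1 (hall _ ⟨x, rfl⟩))
      rw [this, map_one]
    · rintro _ ⟨a, rfl⟩ ha _ ⟨x, rfl⟩ _ ⟨y, rfl⟩ hx hy hcx hcy
      rw [orderOf_injective iW iWinj] at hx hy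
      have ha' : (a : MulAut W) ≠ 1 := fun h => ha (by rw [show a = 1 from Subtype.ext h, map_one])
      rw [hfix a a.2 ha' x y hx hy ((hcm a x).1 hcx) ((hcm a y).1 hcy)]
  have hnc' : ¬ IsCyclic iE.range := fun h =>
    hnc ((MonoidHom.ofInjective iEinj).isCyclic.2 h)
  obtain ⟨h9, hex, hord, hcen⟩ := hS.main hnc'
  have eW := MonoidHom.ofInjective iWinj
  refine ⟨(Nat.card_congr (MonoidHom.ofInjective iEinj).toEquiv).trans h9,
    isExtraspecial_of_mulEquiv eW.symm hex,
    by rwa [Nat.card_congr eW.toEquiv], ?_⟩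
  ext x
  have h := hcen ⟨iW x, x, rfl⟩
  simp only [Subgroup.mem_center_iff, Subtype.forall, Subtype.ext_iff, Subgroup.coe_mul,
    MonoidHom.mem_range, forall_exists_index, forall_apply_eq_imp_iff, ← map_mul,
    iWinj.eq_iff] at h
  simp only [Set.mem_setOf_eq, SetLike.mem_coe, Subgroup.mem_center_iff]
  rw [← h]
  exact ⟨fun hh g a b hab => hab ▸ (hcm ⟨a, b⟩ x).2 (hh a b),
    fun hh e he => (hcm ⟨e, he⟩ x).1 (hh _ e he rfl)⟩

end Cfsg.Agent.S2934
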