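import Cfsg.Statements.S2937
import Cfsg.Agent.Lib.Lie.PMin.ClassicalInst
import Cfsg.Agent.Lib.Lie.PMin.TwistedInst
import Cfsg.Agent.Lib.Lie.PMin.Small
import Cfsg.Agent.Lib.Lie.PMin.Linear
import Cfsg.Agent.Lib.Lie.SylowOver.UThree
import Cfsg.Agent.Lib.Lie.Suz.Twisted
import Cfsg.Agent.Lib.Classical.HermOrder
import Cfsg.Agent.Lib.Classical.ProjLine
import Cfsg.Agent.Lib.Perm.Dickson.Minimal
import Cfsg.Agent.Lib.Coprime.Component
import Cfsg.Agent.Lib.Perm.Trans.QuadStd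
import Cfsg.Agent.S0249
import Cfsg.Agent.S0270
import Cfsg.Agent.S0283
import Cfsg.Agent.S0295
import Cfsg.Agent.S0296
import Cfsg.Agent.S0297
import Cfsg.Agent.S0325
import Cfsg.Agent.S1054
import Cfsg.Agent.S1055
import Cfsg.Agent.S1070
import Cfsg.Agent.S1071
import Cfsg.Agent.S1072
import Cfsg.Agent.S1073
import Cfsg.Agent.S1074

set_option autoImplicit false
open Cfsg

namespace Cfsg.Agent.S2937

open CfsgLib.Lie CfsgLib.Lie.Chev CfsgLib.Char.PolarSteinberg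

/-- the groups allowed in rank two -/
def RankTwoOption (G : Type*) [Group G] : Prop :=
  (∃ (F : Type) (_ : Field F) (_ : Fintype F) (_ : CharP F 2),
      Nonempty (G ≃* Matrix.ProjectiveSpecialLinearGroup (Fin 3) F)) ∨
    (∃ (F : Type) (_ : Field F) (_ : Fintype F) (_ : CharP F 2), 4 ≤ Fintype.card F ∧ Nonempty (G ≃* Cfsg.PSp 2 F)) ∨
      Nonempty (G ≃* ↥(alternatingGroup (Fin 6)))

/-- what happens at a Sylow subgroup of the socle -/
def Pattern (p : ℕ) (G : Type*) [Group G] : Prop :=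
  IsSimpleGroup G ∧ ((PMin.One p G ∧ Cfsg.IsLieRankOneChar p G) ∨ PMin.Split p G ∨
    (PMin.Two p G ∧ (p = 2 → RankTwoOption G)))

theorem Pattern.of_split {G : Type*} [Group G] [Finite G] {p : ℕ} [Fact p.Prime] {L : Type*} [Group L] [Finite L]
    [IsSimpleGroup L] (h : PMin.Split p L) (e : G ≃* L) : Pattern p G :=
  ⟨e.isSimpleGroup, Or.inr (Or.inl (h.of_equiv e))⟩

theorem lieType {G : Type*} [Group G] [Finite G] (p : ℕ) [Fact p.Prime] (hG : Cfsg.IsLieTypeChar p G) :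
    Pattern p G := by
  rcases hG with ⟨F, _, _, _, n, hn, hn4, ⟨e⟩⟩ | ⟨F, _, _, _, m, hm, hm3, ⟨e⟩⟩ |
    ⟨F, _, _, _, n, q, hF, hn, hs, ⟨e⟩⟩ | ⟨F, _, _, _, m, hm, hodd, ⟨e⟩⟩ | ⟨F, _, _, _, m, hm, ⟨e⟩⟩ |
    ⟨F, _, _, _, m, a, b, hm, hab, ⟨e⟩⟩ | ⟨F, _, _, _, h⟩ | ⟨K, _, _, _, q, hq, h⟩ |
    ⟨rfl, F, _, _, m, hm, hF, ⟨e⟩⟩ | ⟨rfl, K, _, _, m, hm, hK, ⟨e⟩⟩ | ⟨rfl, K, _, _, m, hm, hK, ⟨e⟩⟩
  · haveI : IsSimpleGroup (Matrix.ProjectiveSpecialLinearGroup (Fin n) F) := by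
      rcases Nat.eq_or_lt_of_le hn with rfl | h
      · exact (CfsgLib.Perm.Dickson.psl_simple_noncomm (F := F)
          (by rw [Nat.card_eq_fintype_card]; exact hn4 rfl)).1
      · exact Cfsg.Agent.S0249.result n h
    refine ⟨e.isSimpleGroup, ?_⟩
    rcases (show n = 2 ∨ n = 3 ∨ 4 ≤ n by omega) with rfl | rfl | h4
    · exact Or.inl ⟨(PMin.one_psl_two (p := p) (hn4 rfl)).of_equiv e, Or.inl ⟨F, _, _, ‹_›, hn4 rfl, ⟨e⟩⟩⟩
    · refine Or.inr (Or.inr ⟨(PMin.two_psl_three (p := p)).of_equiv e, ?_⟩)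
      rintro rfl
      exact Or.inl ⟨F, inferInstance, inferInstance, inferInstance, ⟨e⟩⟩
    · exact Or.inr (Or.inl ((PMin.split_psl (p := p) h4).of_equiv e))
  · haveI := Cfsg.Agent.S0270.result (F := F) m hm hm3
    rcases Nat.eq_or_lt_of_le hm with rfl | h
    · refine ⟨e.isSimpleGroup, Or.inr (Or.inr ⟨(PMin.two_psp (hm3 rfl) p).of_equiv e, ?_⟩)⟩
      rintro rfl
      refine Or.inr (Or.inl ⟨F, inferInstance, inferInstance, inferInstance, ?_, ⟨e⟩⟩)
      obtain ⟨⟨k, _⟩, -, hk⟩ := FiniteField.card F 2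
      have h3 := hm3 rfl
      rw [hk] at h3 ⊢
      rcases (show k = 1 ∨ 2 ≤ k by omega) with rfl | h2
      · simp at h3
      · exact le_trans (by norm_num : 4 ≤ 2 ^ 2) (Nat.pow_le_pow_right (by norm_num) h2)
    · exact Pattern.of_split (PMin.split_psp h p) e
  · haveI := Cfsg.Agent.S0283.result hF n hn hs
    obtain ⟨C⟩ := CfsgLib.Classical.uctx_exists hF
    rcases Nat.eq_or_lt_of_le hn with rfl | h
    · exact ⟨e.isSimpleGroup, Or.inl ⟨(PMin.one_psu C hF p).of_equiv e,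
        Or.inr (Or.inl ⟨F, _, _, ‹_›, q, hF, fun h => hs ⟨rfl, h⟩, ⟨e⟩⟩)⟩⟩
    · exact Pattern.of_split (PMin.split_psu C h hF p) e
  · have h2 : (2 : F) ≠ 0 := by
      intro h
      have := CharP.cast_eq_zero_iff F p 2
      have hp : p = 2 := (Nat.prime_dvd_prime_iff_eq Fact.out Nat.prime_two).1 (this.1 (by exact_mod_cast h))
      subst hp
      exact Nat.not_odd_iff_even.2 (Nat.even_iff.2 (FiniteField.even_card_iff_char_two.1 (ringChar.eq F 2))) hodd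
    have hsim := Cfsg.Agent.S0295.result hodd m hm
    obtain ⟨e'⟩ : Nonempty (G ≃* Cfsg.POmega F ⇑(CfsgLib.Classical.oddQ m F)) := by
      rw [CfsgLib.Classical.oddQ_coe]; exact ⟨e⟩
    haveI : IsSimpleGroup (Cfsg.POmega F ⇑(CfsgLib.Classical.oddQ m F)) := by
      rwa [CfsgLib.Classical.oddQ_coe]
    refine Pattern.of_split (PMin.split_pomega _ _ ?_ (by simp; omega) (fun h => by simp at h; omega)
      (Orthog.frame_odd h2 m) (by omega) p) e'
    rw [CfsgLib.Classical.oddQ_coe]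
    exact CfsgLib.Perm.Trans.Quad.quadFormOdd_nd h2
  · rcases Nat.eq_or_lt_of_le hm with rfl | h5
    · obtain ⟨e'⟩ := CfsgLib.Lie.NatRep.d4_iso F
      haveI := Cfsg.Agent.S0296.result (F := F) 4 le_rfl
      haveI : IsSimpleGroup ↥(Cfsg.Lie.chevD4.group F) := e'.isSimpleGroup
      exact Pattern.of_split (PMin.split_simply p (fullOf (D := Cfsg.Lie.chevD4) (by simp)) (by simp)) (e.trans e'.symm)
    obtain ⟨k, rfl⟩ : ∃ k, m = k + 1 := ⟨m - 1, by omega⟩
    have hsim := Cfsg.Agent.S0296.result (F := F) (k + 1) hm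
    obtain ⟨e'⟩ : Nonempty (G ≃* Cfsg.POmega F ⇑(CfsgLib.Classical.plusQ (k + 1) F)) := by
      rw [CfsgLib.Classical.plusQ_coe]; exact ⟨e⟩
    haveI : IsSimpleGroup (Cfsg.POmega F ⇑(CfsgLib.Classical.plusQ (k + 1) F)) := by
      rwa [CfsgLib.Classical.plusQ_coe]
    refine Pattern.of_split (PMin.split_pomega _ _ ?_ (by simp; omega) (fun h => by simp at h; omega)
      (Orthog.frame_plus (k + 1)) (by omega) p) e'
    rw [CfsgLib.Classical.plusQ_coe]
    exact CfsgLib.Perm.Trans.Quad.quadFormPlus_nd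
  · have hsim := Cfsg.Agent.S0297.result (F := F) m hm a b hab
    obtain ⟨e'⟩ : Nonempty (G ≃* Cfsg.POmega F ⇑(CfsgLib.Classical.minusQ (m - 1) F a b)) := by
      rw [CfsgLib.Classical.minusQ_coe]; exact ⟨e⟩
    haveI : IsSimpleGroup (Cfsg.POmega F ⇑(CfsgLib.Classical.minusQ (m - 1) F a b)) := by
      rwa [CfsgLib.Classical.minusQ_coe]
    refine Pattern.of_split (PMin.split_pomega _ _ ?_ (by simp; omega) (fun h U hU => ?_)
      (Orthog.frame_minus hab (m - 1)) (by omega) p) e'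
    · rw [CfsgLib.Classical.minusQ_coe]
      exact CfsgLib.Perm.Trans.Quad.quadFormMinus_nd a b hab
    · refine (CfsgLib.Orth.Aut.minus_ts_finrank_le a b hab fun x hx => ?_).trans (by simp at h; omega)
      have := hU x hx
      rwa [CfsgLib.Classical.minusQ_coe] at this
  · have hbig : 3 ≤ Fintype.card F → ∃ a : F, a ≠ 0 ∧ a ≠ 1 := fun h => by
      classical
      by_contra hcon
      push Not at hcon
      have hsub : (Finset.univ : Finset F) ⊆ {0, 1} := fun x _ => by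
        simp only [Finset.mem_insert, Finset.mem_singleton]
        exact or_iff_not_imp_left.2 (hcon x)
      have := (Finset.card_le_card hsub).trans Finset.card_le_two
      rw [Finset.card_univ] at this
      omega
    rcases h with ⟨h3, ⟨e⟩⟩ | ⟨⟨e⟩⟩ | ⟨⟨e⟩⟩ | ⟨⟨e⟩⟩ | ⟨⟨e⟩⟩
    · haveI := (Cfsg.Agent.S1055.result (hbig h3)).1
      by_cases hp : p = 3
      · exact ⟨e.isSimpleGroup, Or.inr (Or.inr ⟨(PMin.two_chev (fullOf (D := Cfsg.Lie.chevG2) (by simp)) p rfl).of_equiv e,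
          fun h => by omega⟩)⟩
      · exact Pattern.of_split (PMin.split_g2 p (fullOf (D := Cfsg.Lie.chevG2) (by simp)) h3 hp) e
    · haveI := (Cfsg.Agent.S1054.result (F := F) Cfsg.Lie.chevF4 (by simp)).1
      exact Pattern.of_split (PMin.split_simply p (fullOf (D := Cfsg.Lie.chevF4) (by simp)) (by simp)) e
    · haveI := (Cfsg.Agent.S1054.result (F := F) Cfsg.Lie.chevE6 (by simp)).1
      exact Pattern.of_split (PMin.split_simply p (fullOf (D := Cfsg.Lie.chevE6) (by simp)) (by simp)) e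
    · haveI := (Cfsg.Agent.S1054.result (F := F) Cfsg.Lie.chevE7 (by simp)).1
      exact Pattern.of_split (PMin.split_simply p (fullOf (D := Cfsg.Lie.chevE7) (by simp)) (by simp)) e
    · haveI := (Cfsg.Agent.S1054.result (F := F) Cfsg.Lie.chevE8 (by simp)).1
      exact Pattern.of_split (PMin.split_simply p (fullOf (D := Cfsg.Lie.chevE8) (by simp)) (by simp)) e
  · rcases h with ⟨hK, ⟨e⟩⟩ | ⟨hK, ⟨e⟩⟩
    · haveI := (Cfsg.Agent.S1070.result hq hK).1
      exact Pattern.of_split (PMin.split_twE6 p hq hK) e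
    · haveI := (Cfsg.Agent.S1071.result hq hK).1
      exact Pattern.of_split (PMin.split_twD4 p hq hK) e
  · haveI := Cfsg.Agent.S0325.result hm hF
    obtain ⟨e'⟩ := Suz.exists_twEquiv (F := F) (m := m) (hm := hm) (hF := hF)
    refine ⟨(e.trans e'.symm).isSimpleGroup, Or.inl ⟨(PMin.one_suzuki hm hF).of_equiv (e.trans e'.symm), ?_⟩⟩
    exact Or.inr (Or.inr (Or.inl ⟨rfl, F, _, _, m, hm, hF, ⟨e⟩⟩))
  · obtain ⟨hc, θ, hsq, hθ⟩ := TF4.exists_theta hK
    haveI := (Cfsg.Agent.S1072.result hm hK).1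
    exact Pattern.of_split (PMin.split_twF4 hm hK) e
  · obtain ⟨hc, θ, hcu, hθ, hneg⟩ := TG2.exists_theta hK
    haveI := (Cfsg.Agent.S1073.result hm hK).1
    exact ⟨e.isSimpleGroup, Or.inl ⟨(PMin.one_twG2 hK).of_equiv e,
      Or.inr (Or.inr (Or.inr ⟨rfl, Or.inl ⟨K, _, _, m, hm, hK, ⟨e⟩⟩⟩))⟩⟩

theorem chevSimple {G : Type*} [Group G] [Finite G] (p : ℕ) [Fact p.Prime] (hG : Cfsg.IsChevSimple p G) :
    Pattern p G := by
  rcases hG with h | ⟨rfl, ⟨⟨e⟩⟩ | ⟨F, _, _, hF, ⟨e⟩⟩ | ⟨⟨e⟩⟩⟩ | ⟨rfl, F, _, _, hF, ⟨e⟩⟩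
  · exact lieType p h
  · haveI : IsSimpleGroup (alternatingGroup (Fin 6)) := alternatingGroup.isSimpleGroup (by simp)
    exact ⟨e.isSimpleGroup, Or.inr (Or.inr ⟨PMin.alt_six.of_equiv e, fun _ => Or.inr (Or.inr ⟨e⟩)⟩)⟩
  · haveI := Cfsg.Agent.S0283.result (q := 3) (by rw [hF]; norm_num) 3 le_rfl (by omega) (F := F)
    exact Pattern.of_split (PMin.psu_three hF) e
  · haveI : IsSimpleGroup Cfsg.Lie.TitsGroup := Cfsg.Agent.S1074.result.2.1
    exact Pattern.of_split PMin.tits e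
  · haveI := (CfsgLib.Perm.Dickson.psl_simple_noncomm (F := F)
      (by rw [Nat.card_eq_fintype_card, hF]; norm_num)).1
    haveI : Finite (Matrix.ProjectiveSpecialLinearGroup (Fin 2) F) := inferInstance
    refine ⟨e.isSimpleGroup, Or.inl ⟨(PMin.one_504 ?_).of_equiv e,
      Or.inr (Or.inr (Or.inr ⟨rfl, Or.inr ⟨F, _, _, hF, ⟨e⟩⟩⟩))⟩⟩
    have h := CfsgLib.Classical.card_psl2 (F := F)
    rw [hF] at h
    simpa using h

/-- Let X be a finite p-minimal group whose generalized Fitting subgroup K = F*(X) is a simple group of Lie type in characteristic p, and let U be a Sylow p-subgroup of K. Then N_X(U) is a maximal subgroup of X, and either K has Lie rank one (K ≅ PSL₂(pᵉ), PSU₃(pᵉ), a Suzuki group for p = 2, or a Ree group or PSL₂(8) for p = 3), or p = 2, K ≠ X and K is isomorphic to PSL₃(2ᵉ) or to PSp₄(2ᵉ) (e ≥ 2) or to the alternating group of degree 6. -/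
theorem result {X : Type*} [Group X] [Finite X] {p : ℕ} [Fact p.Prime] (hX : Cfsg.IsPMinimal p X) (hK : Cfsg.IsChevSimple p ↥(Cfsg.generalizedFittingSubgroup X)) (U : Sylow p ↥(Cfsg.generalizedFittingSubgroup X)) : IsCoatom (Subgroup.normalizer (((U : Subgroup ↥(Cfsg.generalizedFittingSubgroup X)).map (Cfsg.generalizedFittingSubgroup X).subtype : Subgroup X) : Set X)) ∧ (Cfsg.IsLieRankOneChar p ↥(Cfsg.generalizedFittingSubgroup X) ∨ (p = 2 ∧ Cfsg.generalizedFittingSubgroup X ≠ ⊤ ∧ ((∃ (F : Type) (_ : Field F) (_ : Fintype F) (_ : CharP F 2), Nonempty (↥(Cfsg.generalizedFittingSubgroup X) ≃* Matrix.ProjectiveSpecialLinearGroup (Fin 3) F)) ∨ (∃ (F : Type) (_ : Field F) (_ : Fintype F) (_ : CharP F 2), 4 ≤ Fintype.card F ∧ Nonempty (↥(Cfsg.generalizedFittingSubgroup X) ≃* Cfsg.PSp 2 F)) ∨ Nonempty (↥(Cfsg.generalizedFittingSubgroup X) ≃* ↥(alternatingGroup (Fin 6)))))) := by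
  haveI := CfsgLib.Coprime.generalizedFitting_normal (G := X)
  obtain ⟨hs, h⟩ := chevSimple p hK
  rcases h with ⟨h1, hrank⟩ | hsplit | ⟨h2, hopt⟩
  · exact ⟨(PMin.concl hX _ U (Or.inl (h1.at (MulEquiv.refl _) U))).1, Or.inl hrank⟩
  · exact absurd (hsplit.at (MulEquiv.refl _) U) (PMin.concl hX _ U (Or.inr (Or.inl (hsplit.at (MulEquiv.refl _) U)))).2.1
  · obtain ⟨hmax, -, h3⟩ := PMin.concl hX _ U (Or.inr (Or.inr (h2.at (MulEquiv.refl _) U)))
    refine ⟨hmax, Or.inr ?_⟩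
    rcases h3 with hone | ⟨-, hp, hne⟩
    · obtain ⟨R₁, R₂, a1, a2, b1, b2, hj, -⟩ := h2.at (MulEquiv.refl _) U
      rw [hone.2 R₁ a1 b1, hone.2 R₂ a2 b2, sup_idem] at hj
      exact absurd hj hone.1
    · exact ⟨hp, hne, hopt hp⟩

end Cfsg.Agent.S2937
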