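import Cfsg.Statements.S2958


set_option autoImplicit false
open Cfsg

namespace Cfsg.Agent.S2958

/-- Let X, A, B be subgroups of a group G such that G is generated by the conjugates of X and every conjugate of X is contained in A or in B. Then A = G or B = G. -/
theorem result {G : Type*} [Group G] (X A B : Subgroup G) (hgen : (⨆ g : G, X.map (MulAut.conj g).toMonoidHom) = ⊤) (hcover : ∀ g : G, X.map (MulAut.conj g).toMonoidHom ≤ A ∨ X.map (MulAut.conj g).toMonoidHom ≤ B) : A = ⊤ ∨ B = ⊤ := by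
  classical
  set c : G → Subgroup G := fun g => X.map (MulAut.conj g).toMonoidHom with hc
  have hcc : ∀ y g : G, (c g).map (MulAut.conj y).toMonoidHom = c (y * g) := fun y g => by
    simp only [hc, Subgroup.map_map]
    congr 1
    ext z
    simp [MulAut.conj_apply, mul_assoc]
  set A1 : Subgroup G := ⨆ g : {g : G // ¬ c g ≤ B}, c g with hA1
  have hA1A : A1 ≤ A := iSup_le fun g => (hcover g).resolve_right g.2
  have hn : ∀ g, c g ≤ Subgroup.normalizer (A1 : Set G) := by
    intro g
    by_cases hg : c g ≤ B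
    · have key : ∀ y ∈ c g, A1.map (MulAut.conj y).toMonoidHom ≤ A1 := fun y hy => by
        rw [hA1, Subgroup.map_iSup]
        refine iSup_le fun ⟨u, hu⟩ => ?_
        rw [hcc]
        refine le_iSup_of_le (⟨y * u, fun h => hu fun w hw => ?_⟩ : {g : G // ¬ c g ≤ B}) le_rfl
        have h1 : y * w * y⁻¹ ∈ c (y * u) := hcc y u ▸ ⟨w, hw, rfl⟩
        have h2 := mul_mem (mul_mem (inv_mem (hg hy)) (h h1)) (hg hy)
        rwa [show y⁻¹ * (y * w * y⁻¹) * y = w by group] at h2
      intro y hy
      refine Subgroup.mem_normalizer_iff.2 fun z => ⟨fun hz => key y hy ⟨z, hz, rfl⟩, fun hz => ?_⟩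
      have h3 := key y⁻¹ (inv_mem hy) ⟨_, hz, rfl⟩
      simpa [MulAut.conj_apply, mul_assoc] using h3
    · exact (le_iSup (fun g : {g : G // ¬ c g ≤ B} => c g) ⟨g, hg⟩).trans Subgroup.le_normalizer
  have htop : A1.Normal := by
    rw [← Subgroup.normalizer_eq_top_iff, eq_top_iff, ← hgen]
    exact iSup_le hn
  by_cases hall : ∀ g, c g ≤ B
  · right
    rw [eq_top_iff, ← hgen]
    exact iSup_le hall
  · left
    push Not at hall
    obtain ⟨g, hg⟩ := hall
    rw [eq_top_iff, ← hgen]
    refine iSup_le fun u => le_trans ?_ hA1A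
    show c u ≤ A1
    rw [show c u = (c g).map (MulAut.conj (u * g⁻¹)).toMonoidHom by rw [hcc, inv_mul_cancel_right]]
    refine le_trans (Subgroup.map_mono (le_iSup (fun g : {g : G // ¬ c g ≤ B} => c g) ⟨g, hg⟩)) ?_
    rintro _ ⟨z, hz, rfl⟩
    exact htop.conj_mem z hz _

end Cfsg.Agent.S2958
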