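import Cfsg.Statements.S2959
import Cfsg.Agent.Lib.Invol.PConstrained

set_option autoImplicit false
open Cfsg

namespace Cfsg.Agent.S2959

/-- Let G be a finite group of characteristic p, that is C_G(O_p(G)) ≤ O_p(G), with p prime, and let L be a subgroup of G normalized by O_p(G). Then L has characteristic p: C_L(O_p(L)) ≤ O_p(L). -/
theorem result {G : Type*} [Group G] [Finite G] {p : ℕ} [Fact p.Prime] (hG : Subgroup.centralizer (Cfsg.pCore p G : Set G) ≤ Cfsg.pCore p G) (L : Subgroup G) (hL : Cfsg.pCore p G ≤ Subgroup.normalizer (L : Set G)) : Subgroup.centralizer (Cfsg.pCore p ↥L : Set ↥L) ≤ Cfsg.pCore p ↥L := by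
  have hclean := CfsgLib.Invol.pClean_of_centralizer_le hG
  refine CfsgLib.Invol.PClean.centralizer_le fun y hyc hy => ?_
  haveI := CfsgLib.Coprime.pCore_normal' (G := G) p
  set A := Subgroup.zpowers (y : G) with hA
  set Q := Cfsg.pCore p G with hQ
  have hAQ : A ≤ Subgroup.normalizer (Q : Set G) := by rw [Subgroup.normalizer_eq_top]; exact le_top
  have hQp : IsPGroup p Q := CfsgLib.Coprime.pCore_isPGroup p
  have hcop : (Nat.card A).Coprime (Nat.card Q) := by
    obtain ⟨k, hk⟩ := hQp.exists_card_eq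
    rw [Nat.card_zpowers, Subgroup.orderOf_coe, hk]
    exact hyc.pow_right k
  have hle : A ≤ Subgroup.centralizer (Q : Set G) := by
    refine CfsgLib.Coprime.le_centralizer_of_le_centralizer_commutator hAQ hcop
      (Or.inl (CfsgLib.Coprime.isSolvable_of_isMulCommutative (inferInstance : IsMulCommutative A))) ?_
    rw [Subgroup.le_centralizer_iff]
    refine Subgroup.commutator_le.2 fun q hq a ha => Subgroup.mem_centralizer_iff.2 fun w hw => ?_
    have haL : a ∈ L := (Subgroup.zpowers_le.2 y.2 : A ≤ L) ha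
    have hcL : q * a * q⁻¹ * a⁻¹ ∈ L := mul_mem ((Subgroup.mem_normalizer_iff.1 (hL hq) a).1 haL) (inv_mem haL)
    have hcQ : q * a * q⁻¹ * a⁻¹ ∈ Q := by
      rw [show q * a * q⁻¹ * a⁻¹ = q * (a * q⁻¹ * a⁻¹) by group]
      exact mul_mem hq (Subgroup.Normal.conj_mem inferInstance _ (inv_mem hq) a)
    haveI : (Q.subgroupOf L).Normal := Subgroup.Normal.comap inferInstance _
    have hqp : IsPGroup p (Q.subgroupOf L) := hQp.comap_subtype
    have hcore : (⟨_, hcL⟩ : L) ∈ Cfsg.pCore p L := CfsgLib.Coprime.le_pCore hqp hcQ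
    obtain ⟨i, rfl⟩ := Subgroup.mem_zpowers_iff.1 hw
    have hcy : (q * a * q⁻¹ * a⁻¹) * (y : G) = (y : G) * (q * a * q⁻¹ * a⁻¹) :=
      congrArg Subtype.val (Subgroup.mem_centralizer_iff.1 hy _ hcore)
    exact ((Commute.zpow_right hcy i).eq).symm
  exact Subtype.ext (hclean (y : G) (by rwa [Subgroup.orderOf_coe]) (hle (Subgroup.mem_zpowers _)))

end Cfsg.Agent.S2959
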