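import Cfsg.Statements.S2960
import Cfsg.Agent.Lib.Invol.PConstrained

set_option autoImplicit false
open Cfsg

namespace Cfsg.Agent.S2960

/-- Let G be a finite group of characteristic p (C_G(O_p(G)) ≤ O_p(G)), p prime, T a Sylow p-subgroup of G and Q a normal subgroup of T with C_T(Q) ≤ Q. Then C_G(Q) ≤ Q. -/
theorem result {G : Type*} [Group G] [Finite G] {p : ℕ} [Fact p.Prime] (hG : Subgroup.centralizer (Cfsg.pCore p G : Set G) ≤ Cfsg.pCore p G) (T : Sylow p G) (Q : Subgroup G) (hQT : Q ≤ (T : Subgroup G)) (hQn : (T : Subgroup G) ≤ Subgroup.normalizer (Q : Set G)) (hC : (T : Subgroup G) ⊓ Subgroup.centralizer (Q : Set G) ≤ Q) : Subgroup.centralizer (Q : Set G) ≤ Q := by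
  have hclean := CfsgLib.Invol.pClean_of_centralizer_le hG
  haveI := CfsgLib.Coprime.pCore_normal' (G := G) p
  set O := Cfsg.pCore p G with hO
  have hOp : IsPGroup p O := CfsgLib.Coprime.pCore_isPGroup p
  have hOT : O ≤ (T : Subgroup G) := hOp.le_sylow_of_normal T
  set C := Subgroup.centralizer (Q : Set G) with hCdef
  have hCp : IsPGroup p C := CfsgLib.Invol.isPGroup_of_coprime_trivial C fun y hy hyc => by
    refine hclean y hyc ?_
    have h := CfsgLib.Coprime.pq_lemma (P := Q) (Q := Subgroup.zpowers y) (U := O) (T.2.to_le hQT)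
      (by rw [Nat.card_zpowers]; exact hyc) hOp ?_ ?_ ?_ ?_
    · exact h (Subgroup.mem_zpowers y)
    · exact (Subgroup.le_centralizer_iff.1 (Subgroup.zpowers_le.2 hy))
    · rw [Subgroup.normalizer_eq_top]; exact le_top
    · rw [Subgroup.normalizer_eq_top]; exact le_top
    · intro u hu
      have hle : Subgroup.zpowers y ≤ Subgroup.centralizer (Q : Set G) := Subgroup.zpowers_le.2 hy
      exact Subgroup.le_centralizer_iff.1 hle (hC ⟨hOT hu.1, hu.2⟩)
  have hTC : (T : Subgroup G) ≤ Subgroup.normalizer (C : Set G) :=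
    hQn.trans (CfsgLib.Coprime.normalizer_le_normalizer_centralizer Q)
  have hsup : IsPGroup p ↥((T : Subgroup G) ⊔ C) := IsPGroup.to_sup_of_normal_right' T.2 hCp hTC
  have hCT : C ≤ (T : Subgroup G) := le_sup_right.trans (T.is_maximal' hsup le_sup_left).le
  exact fun c hc => hC ⟨hCT hc, hc⟩

end Cfsg.Agent.S2960
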