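import Cfsg.Statements.S2961
import Cfsg.Agent.Lib.PGroup.CharPLocal
import Cfsg.Agent.Lib.Coprime.Action

set_option autoImplicit false
open Cfsg

namespace Cfsg.Agent.S2961

/-- Let G be a finite group of characteristic p (C_G(O_p(G)) ≤ O_p(G)), p prime, T a Sylow p-subgroup of G and Q a normal subgroup of T with C_T(Q) ≤ Q. Then every subgroup L of G containing Q has characteristic p: C_L(O_p(L)) ≤ O_p(L). -/
theorem result {G : Type*} [Group G] [Finite G] {p : ℕ} [Fact p.Prime] (hG : Subgroup.centralizer (Cfsg.pCore p G : Set G) ≤ Cfsg.pCore p G) (T : Sylow p G) (Q : Subgroup G) (hQT : Q ≤ (T : Subgroup G)) (hQn : (T : Subgroup G) ≤ Subgroup.normalizer (Q : Set G)) (hC : (T : Subgroup G) ⊓ Subgroup.centralizer (Q : Set G) ≤ Q) (L : Subgroup G) (hQL : Q ≤ L) : Subgroup.centralizer (Cfsg.pCore p ↥L : Set ↥L) ≤ Cfsg.pCore p ↥L := by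
  classical
  have hpp : p.Prime := Fact.out
  have hGc := CfsgLib.Invol.pClean_of_centralizer_le hG
  refine CfsgLib.Invol.PClean.centralizer_le ?_
  set P := Cfsg.pCore p G with hP
  haveI hPn : P.Normal := CfsgLib.Coprime.pCore_normal' p
  have hPp : IsPGroup p P := CfsgLib.Coprime.pCore_isPGroup p
  have hPT : P ≤ (T : Subgroup G) := hPp.le_sylow_of_normal T
  have hQp : IsPGroup p Q := T.2.to_le hQT
  have hPn' : ∀ A : Subgroup G, A ≤ Subgroup.normalizer (P : Set G) := fun A => by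
    rw [Subgroup.normalizer_eq_top]; exact le_top
  -- elements of order prime to `p` centralizing `Q` are trivial
  have hCQ : ∀ y : G, (orderOf y).Coprime p → y ∈ Subgroup.centralizer (Q : Set G) → y = 1 := by
    intro y hy hyQ
    refine hGc y hy ?_
    have hle : Subgroup.zpowers y ≤ Subgroup.centralizer (P : Set G) := by
      refine CfsgLib.Coprime.pq_lemma hQp (by rwa [Nat.card_zpowers]) hPp ?_ (hPn' _) (hPn' _) ?_
      · rw [Subgroup.le_centralizer_iff, Subgroup.zpowers_le]; exact hyQ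
      · intro x hx
        have hxQ : x ∈ Q := hC ⟨hPT hx.1, hx.2⟩
        rw [Subgroup.zpowers_eq_closure, Subgroup.centralizer_closure, Subgroup.mem_centralizer_singleton_iff]
        exact Subgroup.mem_centralizer_iff.1 hyQ x hxQ
    exact hle (Subgroup.mem_zpowers y)
  have hPQ : ⁅P, Q⁆ ≤ P ⊓ Q := le_inf (Subgroup.commutator_le_left P Q)
    (Subgroup.le_normalizer_iff_commutator_le_right.1 (hPT.trans hQn))
  set R := (Cfsg.pCore p L).map L.subtype with hR
  have hPQR : P ⊓ Q ≤ R := by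
    intro x hx
    haveI : ((P.subgroupOf L)).Normal := hPn.comap L.subtype
    exact ⟨⟨x, hQL hx.2⟩, CfsgLib.Coprime.le_pCore (N := P.subgroupOf L) (hPp.comap_of_injective L.subtype L.subtype_injective) hx.1, rfl⟩
  set D := Subgroup.centralizer (Cfsg.pCore p L : Set L) with hD
  haveI hOn : (Cfsg.pCore p L).Normal := CfsgLib.Coprime.pCore_normal' p
  haveI hDn : D.Normal := inferInstance
  intro y hy hyD
  have hcent : ∀ d : L, d ∈ D → ∀ r ∈ R, (d : G) * r = r * d := by
    rintro d hd _ ⟨r, hr, rfl⟩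
    exact congrArg Subtype.val (Subgroup.mem_centralizer_iff.1 hd r hr).symm
  -- elements of order prime to `p` fixing a commutator: iteration
  have hiter : ∀ (c v : G), (orderOf c).Coprime p → c * (c * v * c⁻¹ * v⁻¹) = (c * v * c⁻¹ * v⁻¹) * c → ∀ {A : Subgroup G}, IsPGroup p A → c * v * c⁻¹ * v⁻¹ ∈ A → c * v = v * c := by
    intro c v hco hce A hA heA
    set e := c * v * c⁻¹ * v⁻¹ with he
    have hit : ∀ i : ℕ, c ^ i * v * (c ^ i)⁻¹ = e ^ i * v := by
      intro i
      induction i with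
      | zero => simp
      | succ i ih =>
        calc c ^ (i + 1) * v * (c ^ (i + 1))⁻¹ = c * (c ^ i * v * (c ^ i)⁻¹) * c⁻¹ := by rw [pow_succ']; group
          _ = (c * e ^ i) * (v * c⁻¹) := by rw [ih]; group
          _ = (e ^ i * c) * (v * c⁻¹) := by rw [((show Commute c e from hce).pow_right i).eq]
          _ = e ^ i * e * v := by rw [he]; group
          _ = e ^ (i + 1) * v := by rw [pow_succ]
    have h1 := hit (orderOf c)
    rw [pow_orderOf_eq_one, one_mul, inv_one, mul_one] at h1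
    have he1 : e = 1 := CfsgLib.Invol.eq_one_of_coprime_of_isPGroup hA heA
      (hco.coprime_dvd_left (orderOf_dvd_of_pow_eq_one (mul_eq_right.1 h1.symm)))
    rw [he, mul_inv_eq_one, mul_inv_eq_iff_eq_mul] at he1
    exact he1
  -- commutators with `Q` stabilize the series `P ≥ P ⊓ Q ≥ 1`
  let K : Subgroup L :=
    { carrier := {d | d ∈ D ∧ ∀ v ∈ P, (d : G) * v * (d : G)⁻¹ * v⁻¹ ∈ P ⊓ Q}
      one_mem' := ⟨D.one_mem, fun v _ => by simp⟩
      mul_mem' := fun {a b} ha hb => ⟨D.mul_mem ha.1 hb.1, fun v hv => by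
        have := (P ⊓ Q).mul_mem (ha.2 _ (hPn.conj_mem v hv b)) (hb.2 v hv)
        convert this using 1
        push_cast
        group⟩
      inv_mem' := fun {a} ha => ⟨D.inv_mem ha.1, fun v hv => by
        have := (P ⊓ Q).inv_mem (ha.2 _ (hPn.conj_mem v hv (a : G)⁻¹))
        convert this using 1
        push_cast
        group⟩ }
  have hKn : ∀ d ∈ D, ∀ c ∈ K, d * c * d⁻¹ ∈ K := fun d hd c hc => ⟨D.mul_mem (D.mul_mem hd hc.1) (D.inv_mem hd), fun v hv => by
    have h1 := hc.2 _ (hPn.conj_mem v hv (d : G)⁻¹)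
    have h2 := hcent d hd _ (hPQR h1)
    have h3 : (d : G) * (c * ((d : G)⁻¹ * v * (d : G)⁻¹⁻¹) * (c : G)⁻¹ * ((d : G)⁻¹ * v * (d : G)⁻¹⁻¹)⁻¹) * (d : G)⁻¹ ∈ P ⊓ Q := by
      rw [h2, mul_inv_cancel_right]; exact h1
    convert h3 using 1
    push_cast
    group⟩
  have hKp : IsPGroup p K := by
    refine CfsgLib.Invol.isPGroup_of_coprime_trivial K fun c hc hco => ?_
    have hco' : (orderOf (c : G)).Coprime p := by rwa [Subgroup.orderOf_coe]
    refine Subtype.ext (hGc _ hco' (Subgroup.mem_centralizer_iff.2 fun v hv => ?_))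
    exact (hiter _ v hco' (hcent c hc.1 _ (hPQR (hc.2 v hv))) hPp (hc.2 v hv).1).symm
  -- `[y, q]` lies in `O_p(L)`
  have hcomm : ∀ q ∈ Q, (y : G) * q * (y : G)⁻¹ * q⁻¹ ∈ R := by
    intro q hq
    let q' : L := ⟨q, hQL hq⟩
    let c : L := y * q' * y⁻¹ * q'⁻¹
    have hcD : c ∈ D := by
      show y * q' * y⁻¹ * q'⁻¹ ∈ D
      rw [show y * q' * y⁻¹ * q'⁻¹ = y * (q' * y⁻¹ * q'⁻¹) by group]
      exact D.mul_mem hyD (hDn.conj_mem _ (D.inv_mem hyD) q')
    have hcK : c ∈ K := by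
      refine ⟨hcD, fun v hv => ?_⟩
      have hq1 : ∀ u ∈ P, q * u * q⁻¹ * u⁻¹ ∈ P ⊓ Q := fun u hu => by
        have := (P ⊓ Q).inv_mem (hPQ (Subgroup.commutator_mem_commutator hu hq))
        convert this using 1
        rw [commutatorElement_def]
        group
      set u := q⁻¹ * v * q with hu
      have hu1 : u ∈ P := by simpa [hu] using hPn.conj_mem v hv q⁻¹
      set w := (y : G)⁻¹ * u * (y : G) with hw
      have hwP : w ∈ P := by simpa [hw] using hPn.conj_mem u hu1 (y : G)⁻¹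
      have h3 : (y : G) * (q * w * q⁻¹ * w⁻¹) * (y : G)⁻¹ * (q * u * q⁻¹ * u⁻¹)⁻¹ ∈ P ⊓ Q := by
        rw [hcent y hyD _ (hPQR (hq1 w hwP)), mul_inv_cancel_right]
        exact (P ⊓ Q).mul_mem (hq1 w hwP) ((P ⊓ Q).inv_mem (hq1 u hu1))
      convert h3 using 1
      simp only [c, q', Subgroup.coe_mul, Subgroup.coe_inv, hw, hu]
      group
    haveI : (K.subgroupOf D).Normal := ⟨fun a ha g => hKn g g.2 a ha⟩
    have h1 : ((⟨c, hcD⟩ : D) : L) ∈ (Cfsg.pCore p D).map D.subtype :=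
      Subgroup.mem_map_of_mem D.subtype (CfsgLib.Coprime.le_pCore (N := K.subgroupOf D) (hKp.comap_of_injective D.subtype D.subtype_injective) (Subgroup.mem_subgroupOf.2 hcK : (⟨c, hcD⟩ : D) ∈ K.subgroupOf D))
    rw [CfsgLib.Coprime.pCore_map_subtype_eq p D] at h1
    refine ⟨c, ?_, by simp [c, q']⟩
    first
      | exact h1.1
      | exact h1.2
  refine Subtype.ext (hCQ _ (by rwa [Subgroup.orderOf_coe]) (Subgroup.mem_centralizer_iff.2 fun q hq => ?_))
  exact (hiter _ q (by rwa [Subgroup.orderOf_coe]) (hcent y hyD _ (hcomm q hq)) ((CfsgLib.Coprime.pCore_isPGroup (G := L) p).map L.subtype) (hcomm q hq)).symm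

end Cfsg.Agent.S2961
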