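import Cfsg.Statements.S2963
import Mathlib.GroupTheory.Perm.MaximalSubgroups
import Mathlib.GroupTheory.GroupAction.SubMulAction.Combination
import Mathlib.Data.Nat.Choose.Lucas

set_option autoImplicit false
open Cfsg
open scoped Pointwise

namespace Cfsg.Agent.S2963

/-- Let n be odd. If the symmetric group of degree n is a minimal parabolic group for the prime 2, that is, a Sylow 2-subgroup is not normal and lies in exactly one maximal subgroup, then n = 2^m + 1 for some natural number m. -/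
theorem result (n : ℕ) (hn : Odd n) (h : Cfsg.IsPMinimal 2 (Equiv.Perm (Fin n))) : ∃ m : ℕ, n = 2 ^ m + 1 := by
  classical
  haveI : Fact (Nat.Prime 2) := ⟨Nat.prime_two⟩
  obtain ⟨S⟩ : Nonempty (Sylow 2 (Equiv.Perm (Fin n))) := inferInstance
  obtain ⟨hnorm, M, -, huniq⟩ := h S
  rcases Nat.lt_or_ge 1 n with hn1 | hn1
  swap
  · -- the group is trivial
    haveI : Subsingleton (Fin n) := Fin.subsingleton_iff_le_one.2 hn1
    refine absurd ⟨fun x hx g => ?_⟩ hnorm
    rwa [Subsingleton.elim (g * x * g⁻¹) x]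
  -- `n - 1 = 2 ^ a * odd`
  obtain ⟨a, t, ht, hat⟩ : ∃ a t, Odd t ∧ n - 1 = 2 ^ a * t :=
    ⟨_, _, Nat.not_even_iff_odd.1 (fun he => Nat.not_dvd_ordCompl Nat.prime_two
      (by omega : n - 1 ≠ 0) he.two_dvd), (Nat.ordProj_mul_ordCompl_eq_self (n - 1) 2).symm⟩
  obtain ⟨t, rfl⟩ := ht
  rcases Nat.eq_zero_or_pos t with rfl | ht0
  · exact ⟨a, by omega⟩
  exfalso
  have ha : 1 ≤ a := by
    rcases Nat.eq_zero_or_pos a with rfl | ha
    · obtain ⟨m, rfl⟩ := hn; simp at hat; omega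
    · exact ha
  have h2a : 2 ≤ 2 ^ a := by
    calc 2 = 2 ^ 1 := rfl
      _ ≤ _ := Nat.pow_le_pow_right (by norm_num) ha
  have hlt : 2 ^ a + 2 ≤ n := by
    have : 2 ^ a * 3 ≤ 2 ^ a * (2 * t + 1) := Nat.mul_le_mul le_rfl (by omega)
    omega
  have hodd : n.choose (2 ^ a) % 2 = 1 := by
    have key : ∀ b m, m.choose (2 ^ b) % 2 = m / 2 ^ b % 2 := by
      intro b
      induction b with
      | zero => simp
      | succ b ih =>
        intro m
        have := Choose.choose_modEq_choose_mod_mul_choose_div_nat (p := 2) (n := m) (k := 2 ^ (b + 1))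
        rw [pow_succ, Nat.mul_mod_left, Nat.choose_zero_right, one_mul,
          Nat.mul_div_cancel _ (by norm_num : 0 < 2)] at this
        rw [Nat.pow_succ, mul_comm (2 ^ b) 2, ← Nat.div_div_eq_div_mul, ← ih, mul_comm 2]
        exact this
    rw [key, show n = 2 ^ a * (2 * t + 1) + 1 by omega,
      Nat.mul_add_div (by positivity), Nat.div_eq_of_lt (by omega)]
    omega
  have fix : ∀ k, n.choose k % 2 = 1 → ∃ A : Set (Fin n), A.ncard = k ∧
      (S : Subgroup (Equiv.Perm (Fin n))) ≤ MulAction.stabilizer (Equiv.Perm (Fin n)) A := by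
    intro k hk
    obtain ⟨A, hA⟩ := S.2.nonempty_fixed_point_of_prime_not_dvd_card (Set.powersetCard (Fin n) k)
      (by rw [Set.powersetCard.card, Nat.card_fin]; omega)
    refine ⟨A, Set.powersetCard.ncard_eq A, fun g hg => ?_⟩
    rw [← Set.powersetCard.stabilizer_coe]
    exact hA ⟨g, hg⟩
  obtain ⟨A, hA, hSA⟩ := fix 1 (by rw [Nat.choose_one_right]; obtain ⟨m, rfl⟩ := hn; omega)
  obtain ⟨B, hB, hSB⟩ := fix _ hodd
  have hc : ∀ X : Set (Fin n), Xᶜ.ncard = n - X.ncard := fun X => by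
    rw [Set.ncard_compl, Nat.card_fin]
  have mx : ∀ X : Set (Fin n), 0 < X.ncard → X.ncard < n →
      IsCoatom (MulAction.stabilizer (Equiv.Perm (Fin n)) X) := fun X h0 hn' => by
    refine Equiv.Perm.isCoatom_stabilizer ((Set.ncard_pos (Set.toFinite _)).1 h0) ?_ ?_
    · refine (Set.ncard_pos (Set.toFinite _)).1 ?_
      rw [hc]; omega
    · rw [Nat.card_fin]; obtain ⟨m, rfl⟩ := hn; omega
  have hAB : MulAction.stabilizer (Equiv.Perm (Fin n)) A = MulAction.stabilizer _ B :=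
    (huniq _ ⟨mx A (by omega) (by omega), hSA⟩).trans
      (huniq _ ⟨mx B (by omega) (by omega), hSB⟩).symm
  obtain ⟨x, rfl⟩ := Set.ncard_eq_one.1 hA
  obtain ⟨y, hy, hyx⟩ := Set.exists_ne_of_one_lt_ncard (s := B) (by omega) x
  obtain ⟨z, hz, hzx⟩ := Set.exists_ne_of_one_lt_ncard (s := Bᶜ) (by rw [hc]; omega) x
  have hs : Equiv.swap y z ∈ MulAction.stabilizer (Equiv.Perm (Fin n)) ({x} : Set (Fin n)) := by
    rw [MulAction.mem_stabilizer_iff, Set.smul_set_singleton, Equiv.Perm.smul_def,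
      Equiv.swap_apply_of_ne_of_ne (Ne.symm hyx) (Ne.symm hzx)]
  rw [hAB, MulAction.mem_stabilizer_iff] at hs
  refine hz ?_
  rw [← hs]
  exact ⟨y, hy, Equiv.swap_apply_left y z⟩

end Cfsg.Agent.S2963
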