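import Cfsg.Statements.S2968
import Cfsg.Agent.Lib.PGroup.Isolated

set_option autoImplicit false
open Cfsg

namespace Cfsg.Agent.S2968

/-- Let G be a finite group, p a prime, P a Sylow p-subgroup of G and x ∈ P an element of p-power order which is isolated in G (the only conjugate of x commuting with x is x itself). Then x lies in the centre of P, and the subgroup generated by x is both strongly closed and weakly closed in P with respect to G. -/
theorem result {G : Type*} [Group G] [Finite G] {p : ℕ} [Fact p.Prime] (P : Sylow p G) (x : G) (hxP : x ∈ (P : Subgroup G)) (hx : ∃ k : ℕ, orderOf x = p ^ k) (hiso : Cfsg.IsIsolated x) : x ∈ (P : Subgroup G) ⊓ Subgroup.centralizer ((P : Subgroup G) : Set G) ∧ Cfsg.IsStronglyClosed (Subgroup.zpowers x) (P : Subgroup G) ∧ Cfsg.IsWeaklyClosed (Subgroup.zpowers x) (P : Subgroup G) := by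
  have hP : IsPGroup p (P : Subgroup G) := P.2
  have hxc : x ∈ Subgroup.centralizer ((P : Subgroup G) : Set G) := Subgroup.mem_centralizer_iff.2 fun y hy =>
    Subgroup.mem_centralizer_singleton_iff.1 (CfsgLib.Isolated.le_centralizer hiso hP hxP hy)
  have hsc : Cfsg.IsStronglyClosed (Subgroup.zpowers x) (P : Subgroup G) := by
    refine ⟨Subgroup.zpowers_le.2 hxP, ?_⟩
    rintro _ ⟨i, rfl⟩ g hg
    set z := g * x ^ i * g⁻¹ with hz
    obtain ⟨h, hh, hfix⟩ := CfsgLib.Isolated.exists_conj_fix (g := g) hx hiso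
      (H := Subgroup.centralizer ({z} : Set G))
      (Subgroup.mem_centralizer_singleton_iff.2 (Subgroup.mem_centralizer_singleton_iff.1 (CfsgLib.Isolated.le_centralizer hiso hP hxP hg)).symm)
      (Subgroup.mem_centralizer_singleton_iff.2 (by
        have hc : Commute x (x ^ i) := (Commute.refl x).zpow_right i
        rw [hz]
        calc g * x * g⁻¹ * (g * x ^ i * g⁻¹) = g * (x * x ^ i) * g⁻¹ := by group
          _ = g * (x ^ i * x) * g⁻¹ := by rw [hc.eq]
          _ = g * x ^ i * g⁻¹ * (g * x * g⁻¹) := by group))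
    refine ⟨i, ?_⟩
    show x ^ i = z
    calc x ^ i = h * g * x ^ i * (h * g)⁻¹ := by
          rw [(Commute.zpow_right (show Commute (h * g) x from hfix) i).eq, mul_inv_cancel_right]
      _ = h * z * h⁻¹ := by rw [hz]; group
      _ = z := by rw [Subgroup.mem_centralizer_singleton_iff.1 hh, mul_inv_cancel_right]
  refine ⟨⟨hxP, hxc⟩, hsc, hsc.1, fun g hg => ?_⟩
  have h1 : g * x * g⁻¹ ∈ (P : Subgroup G) := hg ⟨x, Subgroup.mem_zpowers x, rfl⟩
  rw [MonoidHom.map_zpowers]
  show Subgroup.zpowers (g * x * g⁻¹) = _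
  rw [CfsgLib.Isolated.conj_eq hiso hP hxP h1]

end Cfsg.Agent.S2968
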