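import Cfsg.Statements.S2970
import Cfsg.Agent.Lib.PGroup.Isolated
import Cfsg.Agent.Lib.Fusion.PComplement
import Cfsg.Agent.Lib.Coprime.Action

set_option autoImplicit false
open Cfsg

namespace Cfsg.Agent.S2970

open scoped commutatorElement

/-- Let G be a finite group, p a prime and x ∈ G an element of p-power order which is isolated in G. Then the image of x in any quotient G ⧸ N is isolated in G ⧸ N; and if x ≠ 1 and the Sylow p-subgroups of G are cyclic, then G has a normal p-complement. -/
theorem result {G : Type*} [Group G] [Finite G] {p : ℕ} [Fact p.Prime] (x : G) (hx : ∃ k : ℕ, orderOf x = p ^ k) (hiso : Cfsg.IsIsolated x) : (∀ (N : Subgroup G) [N.Normal], Cfsg.IsIsolated (QuotientGroup.mk x : G ⧸ N)) ∧ (x ≠ 1 → (∀ P : Sylow p G, IsCyclic ↥(P : Subgroup G)) → Cfsg.HasNormalPComplement p G) := by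
  classical
  refine ⟨fun N _ => ?_, fun hx1 hcyc => ?_⟩
  · intro g' hcomm
    obtain ⟨g, rfl⟩ := QuotientGroup.mk'_surjective N g'
    set q := QuotientGroup.mk' N with hq
    change Commute (q x) (q g * q x * (q g)⁻¹) at hcomm
    show q g * q x * (q g)⁻¹ = q x
    rw [← map_inv, ← map_mul, ← map_mul] at hcomm ⊢
    set y := g * x * g⁻¹ with hy
    set A : Subgroup (G ⧸ N) := Subgroup.closure {q x, q y} with hA
    haveI hAc : IsMulCommutative ↥A := Subgroup.isMulCommutative_closure (by
      rintro a (rfl | rfl) b (rfl | rfl)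
      · rfl
      · exact hcomm.eq
      · exact hcomm.eq.symm
      · rfl)
    set H := A.comap q with hH
    have hxH : x ∈ H := Subgroup.subset_closure (Or.inl rfl)
    have hyH : y ∈ H := Subgroup.subset_closure (Or.inr rfl)
    obtain ⟨h, hh, he⟩ := CfsgLib.Isolated.exists_conj_fix hx hiso hxH hyH
    have h1 : h * y * h⁻¹ = x := by
      rw [hy, show h * (g * x * g⁻¹) * h⁻¹ = h * g * x * (h * g)⁻¹ by group, he,
        mul_inv_cancel_right]
    have h2 : q h * q y = q y * q h :=
      congrArg Subtype.val (hAc.is_comm.comm ⟨q h, hh⟩ ⟨q y, hyH⟩)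
    have key : q (h * y * h⁻¹) = q y := by
      rw [map_mul q (h * y), map_mul q h y, map_inv, h2, mul_inv_cancel_right]
    exact key.symm.trans (congrArg q h1)
  · obtain ⟨k, hk⟩ := hx
    obtain ⟨P, hP⟩ := (CfsgLib.Isolated.isPGroup_zpowers ⟨k, hk⟩).exists_le_sylow
    have hp : p.Prime := Fact.out
    have hk0 : k ≠ 0 := fun h => hx1 (orderOf_eq_one_iff.1 (by rw [hk, h, pow_zero]))
    set x' := x ^ p ^ (k - 1) with hx'
    have hx'o : orderOf x' = p := by
      rw [hx', orderOf_pow_of_dvd (pow_ne_zero _ hp.ne_zero) (hk ▸ pow_dvd_pow p (Nat.sub_le k 1)),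
        hk, Nat.pow_div (Nat.sub_le k 1) hp.pos, show k - (k - 1) = 1 by omega, pow_one]
    have hx'P : x' ∈ (P : Subgroup G) := hP (Subgroup.pow_mem _ (Subgroup.mem_zpowers x) _)
    haveI := hcyc P
    -- the unique subgroup of order `p` of `P`
    have huniq : ∀ u ∈ (P : Subgroup G), u ^ p = 1 → u ∈ Subgroup.zpowers x' := by
      intro u hu hup
      haveI := Fintype.ofFinite ↥(P : Subgroup G)
      by_contra hu'
      have hle := IsCyclic.card_pow_eq_one_le (α := ↥(P : Subgroup G)) hp.pos
      set Z := (Finset.univ.filter fun a : ↥(P : Subgroup G) => (a : G) ∈ Subgroup.zpowers x')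
      have hsub : insert ⟨u, hu⟩ Z ⊆ Finset.univ.filter fun a : ↥(P : Subgroup G) => a ^ p = 1 := by
        intro a ha
        simp only [Z, Finset.mem_insert, Finset.mem_filter, Finset.mem_univ, true_and] at ha ⊢
        rcases ha with rfl | ⟨i, hi⟩
        · exact Subtype.ext hup
        · refine Subtype.ext ?_
          show (a : G) ^ p = 1
          rw [← hi]
          show (x' ^ i) ^ p = 1
          rw [← zpow_natCast, ← zpow_mul, mul_comm, zpow_mul, zpow_natCast, ← hx'o,
            pow_orderOf_eq_one, one_zpow]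
      have hcard : Z.card = p := by
        refine Eq.trans ?_ ((Nat.card_zpowers x').trans hx'o)
        have e : {a : ↥(P : Subgroup G) // (a : G) ∈ Subgroup.zpowers x'} ≃
            ↥(Subgroup.zpowers x') :=
          { toFun := fun a => ⟨a.1, a.2⟩
            invFun := fun a => ⟨⟨a, (Subgroup.zpowers_le.2 hx'P) a.2⟩, a.2⟩
            left_inv := fun a => rfl
            right_inv := fun a => rfl }
        rw [← Nat.card_congr e, Nat.card_eq_fintype_card, Fintype.card_subtype]
      have := (Finset.card_le_card hsub).trans hle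
      rw [Finset.card_insert_of_notMem (by simp [Z, hu']), hcard] at this
      omega
    have hne : ∀ R : Subgroup G, R ≤ (P : Subgroup G) → R ≠ ⊥ → x' ∈ R := by
      intro R hR hR1
      obtain ⟨r, hr⟩ := exists_prime_orderOf_dvd_card' (G := ↥R) p (by
        obtain ⟨j, hj⟩ := (P.2.to_le hR).exists_card_eq
        rw [hj]
        exact dvd_pow_self p fun h0 => hR1 (Subgroup.card_eq_one.1 (by rw [hj, h0, pow_zero])))
      have hrp : (r : G) ^ p = 1 := by
        have h := pow_orderOf_eq_one (r : G)
        rwa [Subgroup.orderOf_coe, hr] at h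
      have he : Subgroup.zpowers (r : G) = Subgroup.zpowers x' := Subgroup.eq_of_le_of_card_ge
        (Subgroup.zpowers_le.2 (huniq _ (hR r.2) hrp))
        (by rw [Nat.card_zpowers, Nat.card_zpowers, Subgroup.orderOf_coe, hr, hx'o])
      exact Subgroup.zpowers_le.2 r.2 (he ▸ Subgroup.mem_zpowers x')
    refine CfsgLib.Fusion.hasNormalPComplement_of_locallyPNilpotentAction P fun Q hQ g hg hco => ?_
    by_cases hQ1 : Q = ⊥
    · subst hQ1
      exact Subgroup.mem_centralizer_iff.2 fun z hz => by
        rw [Subgroup.mem_bot.1 hz, one_mul, mul_one]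
    have hx'Q := hne Q hQ hQ1
    -- `g` centralises `x'`
    obtain ⟨i, hi⟩ : ∃ i : ℤ, (g * x' * g⁻¹) ^ i = x' := by
      have h := huniq _ (hQ ((Subgroup.mem_normalizer_iff.1 hg x').1 hx'Q))
        (by rw [conj_pow, ← hx'o, pow_orderOf_eq_one, mul_one, mul_inv_cancel])
      have he : Subgroup.zpowers (g * x' * g⁻¹) = Subgroup.zpowers x' := Subgroup.eq_of_le_of_card_ge
        (Subgroup.zpowers_le.2 h)
        (by rw [Nat.card_zpowers, Nat.card_zpowers, ← MulAut.conj_apply, MulEquiv.orderOf_eq])
      exact Subgroup.mem_zpowers_iff.1 (he ▸ Subgroup.mem_zpowers x')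
    have hgy : g * x * g⁻¹ ∈ Subgroup.centralizer ({x'} : Set G) := by
      refine Subgroup.mem_centralizer_singleton_iff.2 ?_
      rw [← hi]
      have h : Commute x x' := (Commute.refl x).pow_right _
      exact (((h.map (MulAut.conj g).toMonoidHom).zpow_right i)).eq
    obtain ⟨h, hh, he⟩ := CfsgLib.Isolated.exists_conj_fix ⟨k, hk⟩ hiso
      (H := Subgroup.centralizer ({x'} : Set G))
      (Subgroup.mem_centralizer_singleton_iff.2 ((Commute.refl x).pow_right _).eq) hgy
    have hgx' : g ∈ Subgroup.centralizer ({x'} : Set G) := by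
      have h1 : h * g ∈ Subgroup.centralizer ({x'} : Set G) :=
        Subgroup.mem_centralizer_singleton_iff.2 ((show Commute (h * g) x from he).pow_right _).eq
      simpa using mul_mem (inv_mem hh) h1
    -- coprime action on a cyclic group
    haveI hQc : IsCyclic ↥Q :=
      isCyclic_of_injective (Subgroup.inclusion hQ) (Subgroup.inclusion_injective hQ)
    have hQcomm : IsMulCommutative ↥Q := by
      obtain ⟨w, hw⟩ := IsCyclic.exists_generator (α := ↥Q)
      refine ⟨⟨fun a b => ?_⟩⟩
      obtain ⟨i, rfl⟩ := Subgroup.mem_zpowers_iff.1 (hw a)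
      obtain ⟨j, rfl⟩ := Subgroup.mem_zpowers_iff.1 (hw b)
      rw [← zpow_add, ← zpow_add, add_comm]
    have hnorm : Subgroup.zpowers g ≤ Subgroup.normalizer (Q : Set G) := Subgroup.zpowers_le.2 hg
    have hbot := CfsgLib.Coprime.centralizer_inf_commutator_eq_bot (A := Subgroup.zpowers g) hQcomm
      hnorm (by
        obtain ⟨j, hj⟩ := (P.2.to_le hQ).exists_card_eq
        rw [Nat.card_zpowers, hj]
        exact hco.pow_right j)
    have hle : ⁅Q, Subgroup.zpowers g⁆ ≤ Q := Subgroup.commutator_le.2 fun a ha b hb => by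
      rw [show ⁅a, b⁆ = a * (b * a⁻¹ * b⁻¹) from by simp [commutatorElement_def, mul_assoc]]
      exact mul_mem ha ((Subgroup.mem_normalizer_iff.1 (hnorm hb) _).1 (inv_mem ha))
    have hcom : ⁅Q, Subgroup.zpowers g⁆ = ⊥ := by
      by_contra hc
      have h1 := hne _ (hle.trans hQ) hc
      have h2 : x' ∈ (Q ⊓ Subgroup.centralizer (Subgroup.zpowers g : Set G)) ⊓ ⁅Q, Subgroup.zpowers g⁆ := by
        refine ⟨⟨hx'Q, Subgroup.mem_centralizer_iff.2 fun b hb => ?_⟩, h1⟩
        obtain ⟨j, rfl⟩ := Subgroup.mem_zpowers_iff.1 hb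
        exact ((show Commute g x' from Subgroup.mem_centralizer_singleton_iff.1 hgx').zpow_left j).eq
      rw [hbot, Subgroup.mem_bot] at h2
      rw [h2, orderOf_one] at hx'o
      exact hp.ne_one hx'o.symm
    exact Subgroup.mem_centralizer_iff.2 fun z hz => Subgroup.mem_centralizer_iff.1
      ((Subgroup.commutator_eq_bot_iff_le_centralizer.1 hcom) hz) g (Subgroup.mem_zpowers g) |>.symm

end Cfsg.Agent.S2970
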