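import Cfsg.Statements.S2971
import Cfsg.Agent.Lib.Fusion.PComplement
import Cfsg.Agent.Lib.PGroup.Isolated
import Cfsg.Agent.Lib.PGroup.ElementaryBasic
import Cfsg.Agent.Lib.PGroup.OmegaOdd
import Cfsg.Agent.Lib.Coprime.Core

set_option autoImplicit false
open Cfsg

namespace Cfsg.Agent.S2971

/-- Let G be a finite group and p an odd prime such that G has p-rank at most 1 (no elementary abelian subgroup of order p²). If x ∈ G is an isolated element of order p, then x is central modulo the largest normal subgroup of G of order prime to p. -/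
theorem result {G : Type*} [Group G] [Finite G] {p : ℕ} [Fact p.Prime] (hp : p ≠ 2) (hrk : Cfsg.PRankLE p 1 G) (x : G) (hx : orderOf x = p) (hiso : Cfsg.IsIsolated x) : Cfsg.InZStar p x := by
  classical
  have hpp : p.Prime := Fact.out
  have hxz : IsPGroup p (Subgroup.zpowers x) := IsPGroup.of_card (n := 1) (by rw [Nat.card_zpowers, hx, pow_one])
  obtain ⟨P, hP⟩ := hxz.exists_le_sylow
  have hxP : x ∈ (P : Subgroup G) := hP (Subgroup.mem_zpowers x)
  have hcen := CfsgLib.Isolated.le_centralizer hiso P.2 hxP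
  have huniq : ∀ u ∈ (P : Subgroup G), u ^ p = 1 → u ∈ Subgroup.zpowers x := by
    intro u hu hup
    have hxu : u * x = x * u := Subgroup.mem_centralizer_singleton_iff.1 (hcen hu)
    have hE : Cfsg.IsElementaryAbelian p (Subgroup.zpowers x ⊔ Subgroup.zpowers u : Subgroup G) := by
      refine CfsgLib.EABasic.isElementaryAbelian_sup (CfsgLib.EABasic.isElementaryAbelian_zpowers (hx ▸ pow_orderOf_eq_one x))
        (CfsgLib.EABasic.isElementaryAbelian_zpowers hup) ?_
      rintro _ ⟨i, rfl⟩ _ ⟨j, rfl⟩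
      exact ((Commute.zpow_left hxu.symm i).zpow_right j).eq
    have hle := hrk _ hE.1 hE.2
    rw [pow_one] at hle
    have he := Subgroup.eq_of_le_of_card_ge (le_sup_left : Subgroup.zpowers x ≤ Subgroup.zpowers x ⊔ Subgroup.zpowers u) (by rwa [Nat.card_zpowers, hx])
    rw [he]
    exact Subgroup.mem_sup_right (Subgroup.mem_zpowers u)
  have hloc : CfsgLib.Fusion.LocallyPNilpotentAction p (P : Subgroup G) := by
    intro Q hQ n hn hnp
    refine Subgroup.mem_centralizer_iff.2 fun y hy => ?_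
    refine (CfsgLib.PGroup.commute_of_fix_omega_odd hp (P.2.to_le hQ) hn (hpp.coprime_iff_not_dvd.1 hnp.symm) ?_ y hy).symm
    intro w hw hwp
    by_cases hw1 : w = 1
    · rw [hw1]; exact Commute.one_right n
    have hzw : Subgroup.zpowers w = Subgroup.zpowers x := Subgroup.eq_of_le_of_card_ge
      (Subgroup.zpowers_le.2 (huniq w (hQ hw) hwp)) (by rw [Nat.card_zpowers, Nat.card_zpowers, hx, orderOf_eq_prime hwp hw1])
    have hxQ : x ∈ Q := Subgroup.zpowers_le.2 hw (hzw ▸ Subgroup.mem_zpowers x)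
    have h1 := CfsgLib.Isolated.conj_eq hiso P.2 hxP (hQ ((Subgroup.mem_normalizer_iff.1 hn x).1 hxQ))
    obtain ⟨i, hi⟩ := hzw.le (Subgroup.mem_zpowers w)
    rw [← hi]
    exact (show Commute n x from mul_inv_eq_iff_eq_mul.1 h1).zpow_right i
  obtain ⟨Q, N, hN, hc⟩ := CfsgLib.Fusion.hasNormalPComplement_of_locallyPNilpotentAction P hloc
  haveI := hN
  have hQi : N.index = Nat.card (P : Subgroup G) := by
    rw [hc.symm.index_eq_card, Q.card_eq_multiplicity, P.card_eq_multiplicity]
  have hNc : (Nat.card N).Coprime p := by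
    rw [← hc.index_eq_card]
    exact (hpp.coprime_iff_not_dvd.2 Q.not_dvd_index).symm
  have hNle : N ≤ Cfsg.pPrimeCore p G := CfsgLib.Coprime.le_pPrimeCore hNc
  have h1 : (P : Subgroup G) ⊔ N = ⊤ := by
    refine Subgroup.index_eq_one.1 (Nat.eq_one_of_dvd_coprimes (a := p ^ (Nat.card G).factorization p) (b := (P : Subgroup G).index) ?_ ?_ ?_)
    · exact (hpp.coprime_iff_not_dvd.2 P.not_dvd_index).pow_left _
    · rw [← P.card_eq_multiplicity, ← hQi]; exact Subgroup.index_dvd_of_le le_sup_right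
    · exact Subgroup.index_dvd_of_le le_sup_left
  intro g
  have h2 := h1.ge (Subgroup.mem_top g)
  rw [sup_comm, ← SetLike.mem_coe, Subgroup.normal_mul] at h2
  obtain ⟨a, ha, b, hb, rfl⟩ := h2
  have hbx : b * x = x * b := Subgroup.mem_centralizer_singleton_iff.1 (hcen hb)
  refine hNle ?_
  show a * b * x * (a * b)⁻¹ * x⁻¹ ∈ N
  have h3 := N.mul_mem ha (hN.conj_mem _ (N.inv_mem ha) x)
  convert h3 using 1
  calc a * b * x * (a * b)⁻¹ * x⁻¹ = a * (b * x) * b⁻¹ * a⁻¹ * x⁻¹ := by group
    _ = a * (x * a⁻¹ * x⁻¹) := by rw [hbx]; group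

end Cfsg.Agent.S2971
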