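import Cfsg.Statements.S2975
import Cfsg.Agent.Lib.PGroup.ZpStarMinimal
-- import your own Cfsg.Agent.* helpers here

set_option autoImplicit false
open Cfsg

namespace Cfsg.Agent.S2975

/-- Let G be a finite group, p a prime and x ∈ G an isolated element of order p (the only conjugate of x commuting with x is x) which is not central modulo the largest normal subgroup of order prime to p, while x is central modulo the largest normal subgroup of order prime to p in every proper subgroup containing x, and the image of x is so in every quotient of G by a nontrivial normal subgroup (a minimal counterexample to the Z*_p statement). Then for every prime q, every q-subgroup of G that is normalized by x and maximal among the q-subgroups normalized by x is either trivial or a Sylow q-subgroup of G; and C_G(x) permutes the x-invariant Sylow q-subgroups of G transitively by conjugation. -/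
theorem result {G : Type*} [Group G] [Finite G] {p : ℕ} [Fact p.Prime] (x : G) (hx : orderOf x = p) (hiso : Cfsg.IsIsolated x) (hnz : ¬ Cfsg.InZStar p x) (hmin : ∀ (H : Subgroup G) (hxH : x ∈ H), H ≠ ⊤ → Cfsg.InZStar p (⟨x, hxH⟩ : ↥H)) (hquot : ∀ (N : Subgroup G) [N.Normal], N ≠ ⊥ → Cfsg.InZStar p (QuotientGroup.mk x : G ⧸ N)) (q : ℕ) [Fact q.Prime] : (∀ Q : Subgroup G, IsPGroup q ↥Q → x ∈ Subgroup.normalizer (Q : Set G) → (∀ R : Subgroup G, IsPGroup q ↥R → x ∈ Subgroup.normalizer (R : Set G) → Q ≤ R → R = Q) → Q = ⊥ ∨ ∃ S : Sylow q G, (S : Subgroup G) = Q) ∧ (∀ S₁ S₂ : Sylow q G, x ∈ Subgroup.normalizer ((S₁ : Subgroup G) : Set G) → x ∈ Subgroup.normalizer ((S₂ : Subgroup G) : Set G) → ∃ c ∈ Subgroup.centralizer ({x} : Set G), (S₁ : Subgroup G).map (MulAut.conj c).toMonoidHom = (S₂ : Subgroup G)) := by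
  have hS : CfsgLib.ZpStarMinimal.Setup p x := ⟨hx, hiso, hnz, hmin, hquot⟩
  refine ⟨fun Q hQ hxQ hmax => ?_, fun S₁ S₂ h₁ h₂ => hS.conj_sylow S₁ S₂ h₁ h₂⟩
  by_cases hQ1 : Q = ⊥
  · exact Or.inl hQ1
  right
  have hxp := hS.isPGroup_zpowers
  have key : ∀ U : Subgroup G, IsPGroup q U → U ≤ Subgroup.normalizer (Q : Set G) →
      x ∈ Subgroup.normalizer (U : Set G) → U ≤ Q := by
    intro U hU hUN hxU
    have h1 : IsPGroup q ↥(U ⊔ Q) := hU.to_sup_of_normal_right' hQ hUN
    exact le_sup_left.trans (hmax _ h1 (CfsgLib.Coprime.sup_le_normalizer (Subgroup.zpowers_le.2 hxU)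
      (Subgroup.zpowers_le.2 hxQ) (Subgroup.mem_zpowers x)) le_sup_right).le
  by_cases hqp : q = p
  · subst hqp
    have hxQ' : x ∈ Q := Subgroup.zpowers_le.1
      (key _ hxp (Subgroup.zpowers_le.2 hxQ) (Subgroup.le_normalizer (Subgroup.mem_zpowers x)))
    obtain ⟨S, hQS⟩ := hQ.exists_le_sylow
    exact ⟨S, hmax _ S.2 (Subgroup.le_normalizer (hQS hxQ')) hQS⟩
  set H := Subgroup.normalizer (Q : Set G) with hH
  have hQH : Q ≤ H := Subgroup.le_normalizer
  have hHt : H ≠ ⊤ := fun e => hQ1 (by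
    haveI : Q.Normal := Subgroup.normalizer_eq_top_iff.1 e
    exact le_bot_iff.1 ((hS.pCore_any_eq_bot q) ▸ CfsgLib.Coprime.le_pCore hQ))
  haveI := CfsgLib.Coprime.pPrimeCore_characteristic (G := H) p
  set R := Cfsg.pPrimeCore p H with hR
  set Rg := R.map H.subtype with hRg
  have hRn : Subgroup.zpowers x ≤ Subgroup.normalizer (Rg : Set G) := by
    refine le_trans (Subgroup.zpowers_le.2 hxQ) ?_
    intro g hg
    refine Subgroup.mem_normalizer_iff.2 fun u => ⟨?_, ?_⟩
    · rintro ⟨e, he, rfl⟩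
      exact ⟨⟨g, hg⟩ * e * ⟨g, hg⟩⁻¹, Subgroup.Normal.conj_mem inferInstance e he _, rfl⟩
    · rintro ⟨e, he, heu⟩
      refine ⟨⟨g, hg⟩⁻¹ * e * ⟨g, hg⟩⁻¹⁻¹, Subgroup.Normal.conj_mem inferInstance e he _, ?_⟩
      show g⁻¹ * (e : G) * g⁻¹⁻¹ = u
      rw [show (e : G) = g * u * g⁻¹ from heu]
      group
  have hRc : (Nat.card (Subgroup.zpowers x)).Coprime (Nat.card Rg) := by
    rw [Nat.card_zpowers, hx, hRg, Subgroup.card_map_of_injective H.subtype_injective]
    exact (CfsgLib.Coprime.pPrimeCore_coprime (Fact.out : p.Prime)).symm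
  obtain ⟨Rq, hRq, hxRq⟩ := CfsgLib.Coprime.exists_invariant_sylow hRn hRc
    (Or.inl (CfsgLib.Coprime.isSolvable_of_isMulCommutative inferInstance)) q
  have hRqQ : Rq ≤ Q := key Rq hRq.isPGroup (hRq.1.trans (Subgroup.map_subtype_le R)) (hxRq (Subgroup.mem_zpowers x))
  set C := H ⊓ Subgroup.centralizer ({x} : Set G) with hC
  let T : Sylow q C := default
  have hTQ : (T : Subgroup C).map C.subtype ≤ Q := by
    refine key _ (T.2.map _) ((Subgroup.map_subtype_le _).trans inf_le_left) ?_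
    refine Subgroup.centralizer_le_normalizer _ (Subgroup.mem_centralizer_iff.2 fun t ht => ?_)
    exact Subgroup.mem_centralizer_singleton_iff.1 ((Subgroup.map_subtype_le (T : Subgroup C)).trans inf_le_right ht)
  set H2 := R ⊔ Subgroup.zpowers (⟨x, hxQ⟩ : H) with hH2
  haveI : H2.Normal := ⟨fun a ha g => by
    have hx2 : g * (⟨x, hxQ⟩ : H) * g⁻¹ ∈ H2 := by
      have h1 : g * (⟨x, hxQ⟩ : H) * g⁻¹ * (⟨x, hxQ⟩ : H)⁻¹ ∈ R := hmin H hxQ hHt g
      have := H2.mul_mem (Subgroup.mem_sup_left h1) (Subgroup.mem_sup_right (Subgroup.mem_zpowers _))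
      rwa [inv_mul_cancel_right] at this
    have hle : H2 ≤ H2.comap (MulAut.conj g).toMonoidHom := by
      refine sup_le (fun r hr => Subgroup.mem_sup_left (Subgroup.Normal.conj_mem inferInstance r hr g)) ?_
      rw [Subgroup.zpowers_le]
      exact hx2
    exact hle ha⟩
  set Q' := Q.subgroupOf H with hQ'
  haveI : Q'.Normal := Subgroup.normal_in_normalizer
  set C' := C.subgroupOf H with hC'
  have htop : H2 ⊔ C' = ⊤ := by
    refine eq_top_iff.2 fun g _ => ?_
    have hgx : (g : G) * x * (g : G)⁻¹ ∈ H2.map H.subtype := by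
      have h1 : g * (⟨x, hxQ⟩ : H) * g⁻¹ ∈ H2 :=
        Subgroup.Normal.conj_mem inferInstance _ (Subgroup.mem_sup_right (Subgroup.mem_zpowers _)) g
      exact ⟨_, h1, rfl⟩
    obtain ⟨r, ⟨r', hr', hrr⟩, hrc⟩ := hS.exists_fix (H := H2.map H.subtype)
      ⟨⟨x, hxQ⟩, Subgroup.mem_sup_right (Subgroup.mem_zpowers _), rfl⟩ hgx
    have h2 : r' * g ∈ C' := Subgroup.mem_subgroupOf.2 ⟨(r' * g).2, by
      show (r' : G) * (g : G) ∈ _
      rw [show (r' : G) = r from hrr]; exact hrc⟩
    have := mul_mem (Subgroup.mem_sup_left (inv_mem hr') : r'⁻¹ ∈ H2 ⊔ C') (Subgroup.mem_sup_right h2)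
    rwa [inv_mul_cancel_left] at this
  have hq := (Fact.out : q.Prime)
  have d1 : ¬ q ∣ Q'.relIndex H2 := by
    intro hd
    have h1 : Rq.subgroupOf H ≤ Q' ⊓ H2 := le_inf (Subgroup.comap_mono hRqQ) (by
      intro u hu
      obtain ⟨e, he, heu⟩ := hRq.1 hu
      rw [← show e = u from Subtype.ext heu]
      exact Subgroup.mem_sup_left he)
    have h2 : q ∣ (Rq.subgroupOf H).relIndex H2 := by
      refine hd.trans ?_
      rw [← Subgroup.inf_relIndex_right]
      exact Subgroup.relIndex_dvd_of_le_left H2 h1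
    have hRle : Rq.subgroupOf H ≤ R := by
      intro u hu
      obtain ⟨e, he, heu⟩ := hRq.1 hu
      rwa [← show e = u from Subtype.ext heu]
    rw [← Subgroup.relIndex_mul_relIndex _ R _ hRle le_sup_left] at h2
    rcases hq.dvd_mul.1 h2 with h3 | h3
    · have hcard : Nat.card (Rq.subgroupOf H) * (Rq.subgroupOf H).relIndex R = Nat.card R := by
        have := Subgroup.relIndex_mul_relIndex ⊥ (Rq.subgroupOf H) R bot_le hRle
        simpa [Subgroup.relIndex_bot_left] using this
      rw [Nat.card_congr (Subgroup.subgroupOfEquivOfLe (hRq.1.trans (Subgroup.map_subtype_le R))).toEquiv, hRq.2,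
        hRg, Subgroup.card_map_of_injective H.subtype_injective] at hcard
      refine Nat.pow_succ_factorization_not_dvd (Nat.card_pos.ne') hq (?_ : q ^ ((Nat.card R).factorization q + 1) ∣ Nat.card R)
      rw [pow_succ]
      exact (mul_dvd_mul_left _ h3).trans (dvd_of_eq hcard)
    · have h4 : R.relIndex H2 ∣ p := by
        rw [hH2, sup_comm, Subgroup.relIndex_sup_right]
        refine (Subgroup.relIndex_dvd_card R _).trans ?_
        rw [Nat.card_zpowers, Subgroup.orderOf_mk, hx]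
      exact hqp ((Nat.prime_dvd_prime_iff_eq hq Fact.out).1 (h3.trans h4))
  have d2 : ¬ q ∣ (H2 ⊔ Q').index := by
    intro hd
    rw [← Subgroup.relIndex_top_right, ← top_le_iff.1 (htop.ge.trans (sup_le (le_sup_left.trans le_sup_left) le_sup_right) : ⊤ ≤ (H2 ⊔ Q') ⊔ C'),
      sup_comm (H2 ⊔ Q') C', Subgroup.relIndex_sup_right] at hd
    have h1 : (H2 ⊔ Q').relIndex C' ∣ Q'.relIndex C' := Subgroup.relIndex_dvd_of_le_left C' le_sup_right
    have h2 : Q'.relIndex C' = Q.relIndex C := by rw [hQ', hC', Subgroup.relIndex_subgroupOf inf_le_left]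
    have h3 : Q.relIndex C ∣ ((T : Subgroup C).map C.subtype).relIndex C := Subgroup.relIndex_dvd_of_le_left C hTQ
    have h4 := (hd.trans h1).trans ((dvd_of_eq h2).trans h3)
    rw [Subgroup.relIndex, Subgroup.subgroupOf, Subgroup.comap_map_eq_self_of_injective C.subtype_injective] at h4
    exact T.not_dvd_index h4
  have d3 : ¬ q ∣ Q'.index := by
    intro hd
    rw [← Subgroup.relIndex_mul_index (le_sup_right : Q' ≤ H2 ⊔ Q')] at hd
    rcases hq.dvd_mul.1 hd with h1 | h1
    · rw [Subgroup.relIndex_sup_right] at h1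
      exact d1 h1
    · exact d2 h1
  obtain ⟨S, hQS⟩ := hQ.exists_le_sylow
  refine ⟨S, le_antisymm (by_contra fun hne => d3 ?_) hQS⟩
  haveI := S.2.isNilpotent
  obtain ⟨y, hyS, hyN, hyQ⟩ := CfsgLib.Isolated.exists_mem_normalizer_inf hQS hne
  have hU : IsPGroup q ↥((Q ⊔ Subgroup.zpowers y).subgroupOf H) := (S.2.to_le
    (sup_le hQS (Subgroup.zpowers_le.2 hyS))).comap_of_injective H.subtype H.subtype_injective
  obtain ⟨k, hk⟩ := hU.index (Q'.subgroupOf ((Q ⊔ Subgroup.zpowers y).subgroupOf H))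
  refine dvd_trans ?_ (Subgroup.relIndex_dvd_index_of_le (Subgroup.comap_mono le_sup_left : Q' ≤ (Q ⊔ Subgroup.zpowers y).subgroupOf H))
  refine (dvd_pow_self q fun hk0 => hyQ ?_).trans (dvd_of_eq hk.symm)
  rw [hk0, pow_zero, Subgroup.index_eq_one, Subgroup.subgroupOf_eq_top] at hk
  exact hk (show (⟨y, hyN⟩ : H) ∈ (Q ⊔ Subgroup.zpowers y).subgroupOf H from
    Subgroup.mem_sup_right (Subgroup.mem_zpowers y))

end Cfsg.Agent.S2975
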