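import Cfsg.Statements.S2990
import Cfsg.Agent.Lib.PushUp.CentrallyLarge

set_option autoImplicit false
open Cfsg

namespace Cfsg.Agent.S2990

/-- Let G be a finite group and S a Sylow p-subgroup of G in the basic pushing-up situation (G ≠ 1, C_G(O_p(G)) ≤ O_p(G), S lies in a unique maximal subgroup of G, and some quotient of G is isomorphic to PSL₂ over a field of order a power of p), and suppose that S centralizes Z(J(S)), where J(S) is generated by the abelian subgroups of S of largest order (that is, J̃(S) = C_S(Z(J(S))) = S). Call a subgroup R of S centrally large if |R|·|Z(R)| is as large as possible among subgroups of S, let Q be a minimal centrally large subgroup of S and let S_MCL be the subgroup generated by all minimal centrally large subgroups of S. Then the derived subgroup [Q, Q] is characteristic in S; Z(S) ∩ [Q, Q] or S_MCL is normal in G; and if [Q, Q] = 1, the minimal centrally large subgroups of S are exactly the abelian subgroups of S of largest order. -/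
theorem result {G : Type*} [Group G] [Finite G] {p : ℕ} [Fact p.Prime] (S : Subgroup G) (hE : Cfsg.IsPushingUpSituation p S) (hJ : S ≤ Subgroup.centralizer (Cfsg.centerThompsonAOf S : Set G)) (Q : Subgroup ↥S) (hQ : Cfsg.IsMinimalCentrallyLarge Q) : (⁅Q, Q⁆).Characteristic ∧ (((S ⊓ Subgroup.centralizer (S : Set G)) ⊓ (⁅Q, Q⁆).map S.subtype).Normal ∨ ((Cfsg.minimalCentrallyLargeJoin ↥S).map S.subtype).Normal) ∧ (⁅Q, Q⁆ = ⊥ → ∀ R : Subgroup ↥S, Cfsg.IsMinimalCentrallyLarge R ↔ R ∈ Cfsg.maxAbelianSubgroups ↥S) := by
  have sit := CfsgLib.PushUp.sit_of_isPushingUp hE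
  have hpS : IsPGroup p ↥S := sit.isPGroup
  refine ⟨?_, ?_, fun hbot => ?_⟩
  · refine Subgroup.characteristic_iff_map_eq.2 fun φ => ?_
    rw [Subgroup.map_commutator]
    have hcard : ∀ X : Subgroup ↥S, Nat.card ↥(X.map φ.toMonoidHom) *
        Nat.card ↥(Subgroup.center ↥(X.map φ.toMonoidHom)) =
        Nat.card ↥X * Nat.card ↥(Subgroup.center ↥X) := fun X => by
      have e := X.equivMapOfInjective φ.toMonoidHom φ.injective
      rw [Nat.card_congr (Subgroup.centerCongr e.symm).toEquiv, Nat.card_congr e.symm.toEquiv]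
    have hQ' : Cfsg.IsMinimalCentrallyLarge (Q.map φ.toMonoidHom) := by
      refine ⟨(hcard Q).trans hQ.1, fun R' hR' hcl => ?_⟩
      have hR'eq : (R'.map φ.symm.toMonoidHom).map φ.toMonoidHom = R' := by
        rw [Subgroup.map_map, show φ.toMonoidHom.comp φ.symm.toMonoidHom = MonoidHom.id ↥S from
          MonoidHom.ext φ.apply_symm_apply, Subgroup.map_id]
      have h1 := hQ.2 (R'.map φ.symm.toMonoidHom) (fun x hx => by
        obtain ⟨y, hy, rfl⟩ := hx
        obtain ⟨z, hz, hzy⟩ := hR' hy
        have : φ.symm y = z := by rw [← hzy]; exact φ.symm_apply_apply z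
        simpa [this] using hz) (by
        show _ = _
        rw [← hcard (R'.map φ.symm.toMonoidHom), hR'eq]
        exact hcl)
      rw [← hR'eq, h1]
    exact (Cfsg.Agent.S3007.result ↥S hpS _ _ hQ' hQ).2.1
  · have h := sit.derived_case hJ (CfsgLib.PushUp.mcl_map.2 hQ)
    rw [← Subgroup.map_commutator] at h
    refine h.imp_right fun hn => ?_
    have e : (Cfsg.minimalCentrallyLargeJoin ↥S).map S.subtype =
        sSup {R | CfsgLib.PushUp.MCL S R} := by
      rw [Cfsg.minimalCentrallyLargeJoin]
      refine le_antisymm (Subgroup.map_le_iff_le_comap.2 (sSup_le fun X hX =>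
        Subgroup.map_le_iff_le_comap.1 (le_sSup (CfsgLib.PushUp.mcl_map.2 hX)))) (sSup_le ?_)
      intro R hR
      rw [← Subgroup.map_subgroupOf_eq_of_le hR.1]
      exact Subgroup.map_mono (le_sSup hR.2)
    rw [e]
    exact hn
  · exact (Cfsg.Agent.S3007.result ↥S hpS Q Q hQ hQ).2.2.2.2
      (Subgroup.le_centralizer_iff_isMulCommutative.1
        (Subgroup.commutator_eq_bot_iff_le_centralizer.1 hbot))

end Cfsg.Agent.S2990
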