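import Cfsg.Statements.S2998
import Cfsg.Agent.Lib.PGroup.Isolated
import Cfsg.Agent.Lib.PGroup.ElementaryBasic

set_option autoImplicit false
open Cfsg

namespace Cfsg.Agent.S2998

/-- Let G be a finite group, p a prime, P a Sylow p-subgroup of G and x ∈ P an element such that N_G(R) ≤ C_G(x) for every nontrivial subgroup R of P. Then P ≤ C_G(x); every G-conjugate of x lying in P equals x (so g ∈ C_G(x) whenever g x g⁻¹ ∈ P); and for every normal subgroup N of G, the image of x in G ⧸ N has the same property with respect to the image of P: the normalizer of every nontrivial subgroup of the image of P centralizes the image of x. -/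
theorem result {G : Type*} [Group G] [Finite G] {p : ℕ} [Fact p.Prime] (P : Sylow p G) (x : G) (hxP : x ∈ (P : Subgroup G)) (hlc : ∀ R : Subgroup G, R ≤ (P : Subgroup G) → R ≠ ⊥ → Subgroup.normalizer (R : Set G) ≤ Subgroup.centralizer ({x} : Set G)) : (P : Subgroup G) ≤ Subgroup.centralizer ({x} : Set G) ∧ (∀ g : G, g * x * g⁻¹ ∈ (P : Subgroup G) → g * x * g⁻¹ = x) ∧ ∀ (N : Subgroup G) [N.Normal], ∀ R : Subgroup (G ⧸ N), R ≤ (P : Subgroup G).map (QuotientGroup.mk' N) → R ≠ ⊥ → Subgroup.normalizer (R : Set (G ⧸ N)) ≤ Subgroup.centralizer ({(QuotientGroup.mk x : G ⧸ N)} : Set (G ⧸ N)) := by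
  by_cases hP0 : (P : Subgroup G) = ⊥
  · have hx1 : x = 1 := by rw [hP0, Subgroup.mem_bot] at hxP; exact hxP
    subst hx1
    have hc1 : Subgroup.centralizer ({(1 : G)} : Set G) = ⊤ := eq_top_iff.2 fun g _ => Subgroup.mem_centralizer_singleton_iff.2 (by simp)
    refine ⟨by rw [hc1]; exact le_top, fun g hg => by simp, fun N _ R hR hR1 => ?_⟩
    rw [hP0, Subgroup.map_bot] at hR
    exact absurd (le_bot_iff.1 hR) hR1
  have hPC : (P : Subgroup G) ≤ Subgroup.centralizer ({x} : Set G) := Subgroup.le_normalizer.trans (hlc _ le_rfl hP0)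
  refine ⟨hPC, fun g hg => ?_, fun N _ R hR hR1 => ?_⟩
  · by_cases hy : g * x * g⁻¹ = 1
    · rw [hy]; exact (conj_eq_one_iff.1 hy).symm
    have hne : (P : Subgroup G) ⊓ CfsgLib.Fusion.conjBy g (P : Subgroup G) ≠ ⊥ := fun e => hy (by
      rw [← Subgroup.mem_bot, ← e]
      exact ⟨hg, CfsgLib.Fusion.conj_mem_conjBy hxP⟩)
    have := Subgroup.mem_centralizer_singleton_iff.1 (CfsgLib.Isolated.conj_eq_of_locallyCentral P hlc hne)
    rw [this, mul_inv_cancel_right]
  · set f := QuotientGroup.mk' N with hf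
    set M := R.comap f with hM
    have hNM : N ≤ M := (QuotientGroup.ker_mk' N).ge.trans (Subgroup.ker_le_comap f R)
    set R' := (P : Subgroup G) ⊓ M with hR'
    have hMR : M ≤ R' ⊔ N := by
      intro m hm
      obtain ⟨y, hy, hym⟩ := hR (show f m ∈ R from hm)
      have hn : y⁻¹ * m ∈ N := QuotientGroup.eq.1 hym
      have hyM : y ∈ M := by
        show f y ∈ R
        rw [hym]; exact hm
      rw [show m = y * (y⁻¹ * m) by group]
      exact mul_mem (Subgroup.mem_sup_left ⟨hy, hyM⟩) (Subgroup.mem_sup_right hn)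
    have hR'1 : R' ≠ ⊥ := fun e => hR1 (eq_bot_iff.2 fun r hr => by
      obtain ⟨m, rfl⟩ := QuotientGroup.mk'_surjective N r
      have := hMR hr
      rw [e, bot_sup_eq] at this
      exact Subgroup.mem_bot.2 ((QuotientGroup.eq_one_iff m).2 this))
    have hfC : ∀ c ∈ Subgroup.centralizer ({x} : Set G), f c ∈ Subgroup.centralizer ({f x} : Set (G ⧸ N)) :=
      fun c hc => Subgroup.mem_centralizer_singleton_iff.2 (by
        rw [← map_mul, ← map_mul, Subgroup.mem_centralizer_singleton_iff.1 hc])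
    intro q hq
    obtain ⟨g, rfl⟩ := QuotientGroup.mk'_surjective N q
    have hgM : ∀ m ∈ M, g * m * g⁻¹ ∈ M := fun m hm => by
      show f (g * m * g⁻¹) ∈ R
      rw [map_mul, map_mul, map_inv]
      exact (Subgroup.mem_normalizer_iff.1 hq _).1 hm
    have hle : CfsgLib.Fusion.conjBy g R' ≤ M := CfsgLib.Fusion.conjBy_le_iff.2 fun r hr => hgM r hr.2
    have hi : ¬ p ∣ R'.relIndex M := by
      have hMeq : M = R' ⊔ N := le_antisymm hMR (sup_le inf_le_right hNM)
      have hcap : R' ⊓ N = (P : Subgroup G) ⊓ N := by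
        rw [hR', inf_assoc, inf_eq_right.2 hNM]
      have e1 := Subgroup.relIndex_mul_relIndex ⊥ R' M bot_le inf_le_right
      have e2 := Subgroup.relIndex_mul_relIndex ⊥ (R' ⊓ N) N bot_le inf_le_right
      simp only [Subgroup.relIndex_bot_left] at e1 e2
      have e3 := CfsgLib.EABasic.card_sup_mul_card_inf_of_le_normalizer (H := R') (N := N)
        (by rw [Subgroup.normalizer_eq_top]; exact le_top)
      rw [← hMeq, ← e1, ← e2] at e3
      have e4 : R'.relIndex M = (R' ⊓ N).relIndex N := by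
        refine Nat.eq_of_mul_eq_mul_left (Nat.mul_pos (Nat.card_pos (α := R')) (Nat.card_pos (α := (R' ⊓ N : Subgroup G)))) ?_
        calc _ = Nat.card R' * R'.relIndex M * Nat.card (R' ⊓ N : Subgroup G) := by ring
          _ = _ := e3
          _ = _ := by ring
      rw [e4, hcap]
      exact CfsgLib.Fusion.not_dvd_relIndex_inf_of_normal P N
    obtain ⟨m, hm, hmle⟩ := CfsgLib.Fusion.exists_conj_le_of_not_dvd_relIndex (P.2.to_le inf_le_left) inf_le_right hi
      (CfsgLib.Fusion.isPGroup_conjBy g (P.2.to_le (inf_le_left : R' ≤ _))) hle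
    rw [CfsgLib.Fusion.conjBy_conjBy] at hmle
    have hmg : m * g ∈ Subgroup.centralizer ({x} : Set G) :=
      hlc R' inf_le_left hR'1 (CfsgLib.Fusion.conjBy_eq_iff.1 (CfsgLib.Fusion.conjBy_eq_of_le hmle))
    obtain ⟨a, ha, n, hn, rfl⟩ := Subgroup.mem_sup_of_normal_right.1 (hMR hm)
    have h1 := hfC _ hmg
    have hfn : f n = 1 := (QuotientGroup.eq_one_iff n).2 hn
    rw [map_mul, map_mul, hfn, mul_one] at h1
    have h2 := mul_mem (inv_mem (hfC a (hPC ha.1))) h1
    rwa [inv_mul_cancel_left] at h2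

end Cfsg.Agent.S2998
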