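import Cfsg.Statements.S2999
import Cfsg.Agent.Lib.Char.NatSL.Natural
-- import your own Cfsg.Agent.* helpers here

set_option autoImplicit false
open Cfsg
open scoped commutatorElement

namespace Cfsg.Agent.S2999

/-- Let p be a prime and let P and V be subgroups of a finite group with V elementary abelian, P normalizing V and acting faithfully on it (P ∩ C(V) = 1). Suppose P is p-minimal (a Sylow p-subgroup T of P is not normal and lies in a unique maximal subgroup M of P) and A ≤ T is an elementary abelian subgroup such that: |V/C_V(A)| ≤ |A| while |A₀|·|C_V(A₀)| < |A|·|C_V(A)| for every nontrivial proper subgroup A₀ of A; [C_V(T), P] ≠ 1; and P = ⟨A, xAx⁻¹⟩ for every x ∈ P outside M. Then, with q = |A|, there is a field F with q elements such that P ≅ SL₂(F), C_V(A) = [V, A]·C_V(P), and P acts on V/C_V(P) as SL₂(F) on its natural two-dimensional module. -/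
theorem result {G : Type*} [Group G] [Finite G] {p : ℕ} [Fact p.Prime] (V P : Subgroup G) (hV : Cfsg.IsElementaryAbelian p V) (hPV : P ≤ Subgroup.normalizer (V : Set G)) (hfaith : P ⊓ Subgroup.centralizer (V : Set G) = ⊥) (hmin : Cfsg.IsPMinimal p ↥P) (T : Sylow p ↥P) (M : Subgroup ↥P) (hM : IsCoatom M) (hTM : (T : Subgroup ↥P) ≤ M) (A : Subgroup G) (hAT : A ≤ ((T : Subgroup ↥P).map P.subtype)) (hAel : Cfsg.IsElementaryAbelian p A) (hi : Nat.card ↥V ≤ Nat.card ↥A * Nat.card ↥(V ⊓ Subgroup.centralizer ((A : Subgroup G) : Set G)) ∧ ∀ A₀ : Subgroup G, A₀ ≤ A → A₀ ≠ ⊥ → A₀ ≠ A → Nat.card ↥A₀ * Nat.card ↥(V ⊓ Subgroup.centralizer ((A₀ : Subgroup G) : Set G)) < Nat.card ↥A * Nat.card ↥(V ⊓ Subgroup.centralizer ((A : Subgroup G) : Set G))) (hii : ⁅(V ⊓ Subgroup.centralizer ((((T : Subgroup ↥P).map P.subtype) : Subgroup G) : Set G)), P⁆ ≠ ⊥) (hiii : ∀ x : ↥P, x ∉ M → A ⊔ A.map (MulAut.conj (x : G)).toMonoidHom = P) : ∃ (F : Type) (_ : Field F) (_ : Fintype F), Fintype.card F = Nat.card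 ↥A ∧ Nonempty (↥P ≃* Matrix.SpecialLinearGroup (Fin 2) F) ∧ (V ⊓ Subgroup.centralizer ((A : Subgroup G) : Set G)) = ⁅V, A⁆ ⊔ (V ⊓ Subgroup.centralizer ((P : Subgroup G) : Set G)) ∧ Cfsg.ActsAsSL2OnSection F ⊤ P V (V ⊓ Subgroup.centralizer ((P : Subgroup G) : Set G)) := by
  classical
  letI : CommGroup ↥V :=
    { (inferInstance : Group ↥V) with mul_comm := fun a b => hV.1.is_comm.comm a b }
  letI act : DistribMulAction ↥P (Additive ↥V) :=
    { smul := fun g a => Additive.ofMul (⟨(g : G) * ((Additive.toMul a : ↥V) : G) * (g : G)⁻¹,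
        (Subgroup.mem_normalizer_iff.1 (hPV g.2) _).1 (Additive.toMul a).2⟩ : ↥V)
      one_smul := fun a => congrArg Additive.ofMul (Subtype.ext (by
        show (1 : G) * ((Additive.toMul a : ↥V) : G) * (1 : G)⁻¹ = ((Additive.toMul a : ↥V) : G)
        simp))
      mul_smul := fun g h a => congrArg Additive.ofMul (Subtype.ext (by
        show ((g : G) * h) * ((Additive.toMul a : ↥V) : G) * ((g : G) * h)⁻¹ =
          (g : G) * ((h : G) * ((Additive.toMul a : ↥V) : G) * (h : G)⁻¹) * (g : G)⁻¹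
        group))
      smul_zero := fun g => congrArg Additive.ofMul (Subtype.ext (by
        show (g : G) * 1 * (g : G)⁻¹ = 1
        simp))
      smul_add := fun g a b => congrArg Additive.ofMul (Subtype.ext (by
        show (g : G) * (((Additive.toMul a : ↥V) : G) * ((Additive.toMul b : ↥V) : G)) * (g : G)⁻¹ =
          ((g : G) * ((Additive.toMul a : ↥V) : G) * (g : G)⁻¹) * ((g : G) * ((Additive.toMul b : ↥V) : G) * (g : G)⁻¹)
        group)) }
  let val : Additive ↥V → G := fun a => ((Additive.toMul a : ↥V) : G)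
  have hval : ∀ a b : Additive ↥V, val a = val b → a = b := fun a b h => Additive.toMul.injective (Subtype.ext h)
  have hsmul : ∀ (g : ↥P) (a : Additive ↥V), val (g • a) = (g : G) * val a * (g : G)⁻¹ := fun _ _ => rfl
  have hfix : ∀ (S : Subgroup ↥P) (a : Additive ↥V),
      a ∈ CfsgLib.Char.NatSL.fixS (Additive ↥V) S ↔ val a ∈ Subgroup.centralizer ((S.map P.subtype : Subgroup G) : Set G) := by
    intro S a
    rw [Subgroup.mem_centralizer_iff]
    constructor
    · rintro h _ ⟨g, hg, rfl⟩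
      have := congrArg val (h g hg)
      rw [hsmul] at this
      exact mul_inv_eq_iff_eq_mul.1 this
    · intro h g hg
      refine hval _ _ ?_
      rw [hsmul]
      exact mul_inv_eq_iff_eq_mul.2 (h _ ⟨g, hg, rfl⟩)
  have hcard : ∀ S : Subgroup ↥P, Nat.card ↥(CfsgLib.Char.NatSL.fixS (Additive ↥V) S) =
      Nat.card ↥(V ⊓ Subgroup.centralizer ((S.map P.subtype : Subgroup G) : Set G)) := by
    intro S
    refine Nat.card_congr
      { toFun := fun a => ⟨val a, (Additive.toMul (a : Additive ↥V)).2, (hfix S a).1 a.2⟩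
        invFun := fun a => ⟨Additive.ofMul ⟨a, a.2.1⟩, (hfix S _).2 a.2.2⟩
        left_inv := fun a => rfl
        right_inv := fun a => rfl }
  have hAP : A ≤ P := hAT.trans (Subgroup.map_subtype_le _)
  set A' : Subgroup ↥P := A.subgroupOf P with hA'
  have hA'map : A'.map P.subtype = A := by
    rw [hA', Subgroup.subgroupOf_map_subtype, inf_eq_left.2 hAP]
  have hcardA : Nat.card ↥A' = Nat.card ↥A := Nat.card_congr (Subgroup.subgroupOfEquivOfLe hAP).toEquiv
  have hVcard : Nat.card (Additive ↥V) = Nat.card ↥V := Nat.card_congr Additive.toMul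
  have hfixA := hcard A'
  rw [hA'map] at hfixA
  have hTn := (hmin T).1
  have huniq : ∀ N : Subgroup ↥P, IsCoatom N → (T : Subgroup ↥P) ≤ N → N = M := fun N hN hTN =>
    (hmin T).2.unique ⟨hN, hTN⟩ ⟨hM, hTM⟩
  have hd : CfsgLib.Char.NatSL.OffData (Additive ↥V) p T M A' :=
    { faith := fun h hh => by
        have h1 : (h : G) ∈ P ⊓ Subgroup.centralizer (V : Set G) := by
          refine ⟨h.2, Subgroup.mem_centralizer_iff.2 fun v hv => ?_⟩
          have := congrArg val (hh (Additive.ofMul ⟨v, hv⟩))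
          rw [hsmul] at this
          exact (mul_inv_eq_iff_eq_mul.1 this).symm
        rw [hfaith, Subgroup.mem_bot] at h1
        exact Subtype.ext h1
      vp := ⟨1, fun a => hval _ _ (by
        rw [pow_one]
        show ((Additive.toMul (p • a) : ↥V) : G) = 1
        rw [toMul_nsmul, SubgroupClass.coe_pow]
        exact hV.2 _ (Additive.toMul a).2)⟩
      acomm := fun a ha b hb => Subtype.ext (show (a : G) * b = b * a from congrArg (fun z : ↥A => (z : G))
        (hAel.1.is_comm.comm (⟨(a : G), ha⟩ : ↥A) ⟨(b : G), hb⟩))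
      apow := fun a ha => Subtype.ext (by rw [SubgroupClass.coe_pow]; exact hAel.2 _ ha)
      aT := fun a ha => by
        obtain ⟨t, ht, hte⟩ := hAT ha
        exact Subtype.ext hte ▸ ht
      coatom := hM
      tM := hTM
      uniq := huniq
      notNormal := hTn
      off := by rw [hVcard, hcardA, hfixA]; exact hi.1
      strict := fun X hX hXne hXA => by
        have h1 : X.map P.subtype ≤ A := hA'map ▸ Subgroup.map_mono hX
        have h2 : X.map P.subtype ≠ ⊥ := fun h => hXne ((Subgroup.map_eq_bot_iff_of_injective _ P.subtype_injective).1 h)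
        have h3 : X.map P.subtype ≠ A := fun h => hXA (Subgroup.map_injective P.subtype_injective (h.trans hA'map.symm))
        have h4 := hi.2 _ h1 h2 h3
        rw [hcardA, hfixA, hcard X]
        rwa [← Nat.card_congr (X.equivMapOfInjective P.subtype P.subtype_injective).toEquiv] at h4
      moved := by
        by_contra! hno
        refine hii (Subgroup.commutator_eq_bot_iff_le_centralizer.2 fun v hv => Subgroup.mem_centralizer_iff.2
          fun g hg => ?_)
        have := congrArg val (hno (Additive.ofMul ⟨v, hv.1⟩) ((hfix _ _).2 hv.2) ⟨g, hg⟩ (Subgroup.mem_top _))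
        rw [hsmul] at this
        exact mul_inv_eq_iff_eq_mul.1 this
      gen := fun x hx => by
        apply Subgroup.map_injective P.subtype_injective
        rw [Subgroup.map_sup, hA'map, ← MonoidHom.range_eq_map, Subgroup.range_subtype, Subgroup.map_map]
        conv_rhs => rw [← hiii x hx]
        congr 1
        conv_rhs => rw [← hA'map, Subgroup.map_map]
        rfl }
  obtain ⟨F, iF, iFf, hF, hW, ρ, ψ, hψs, hψ0, hψ⟩ := hd.natural
  have hPmap : (⊤ : Subgroup ↥P).map P.subtype = P := by rw [← MonoidHom.range_eq_map, Subgroup.range_subtype]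
  refine ⟨F, iF, iFf, hF.trans hcardA, ⟨ρ⟩, le_antisymm ?_ ?_, hPV, inf_le_left, ρ.toMonoidHom,
    MonoidHom.mk' (fun u => Multiplicative.ofAdd (ψ (Additive.ofMul u)))
      (fun u v => by rw [← ofAdd_add, ← map_add]; rfl), ?_, ?_, ?_, ?_⟩
  · intro w hw
    obtain ⟨v, a, ha, hz⟩ := hW (Additive.ofMul ⟨w, hw.1⟩) ((hfix _ _).2 (by rw [hA'map]; exact hw.2))
    have hz' := (hfix _ _).1 hz
    rw [hPmap] at hz'
    have e : val (Additive.ofMul (⟨w, hw.1⟩ : ↥V) - (a • v - v)) =
        w * ((a : G) * val v * (a : G)⁻¹ * (val v)⁻¹)⁻¹ := by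
      show w / ((a : G) * val v * (a : G)⁻¹ / val v) = _
      rw [div_eq_mul_inv, div_eq_mul_inv]
    have h1 : w = (w * ((a : G) * val v * (a : G)⁻¹ * (val v)⁻¹)⁻¹) * ⁅(a : G), val v⁆ := by
      rw [commutatorElement_def, inv_mul_cancel_right]
    rw [h1]
    refine mul_mem (Subgroup.mem_sup_right ⟨?_, e ▸ hz'⟩) (Subgroup.mem_sup_left ?_)
    · exact e ▸ (Additive.toMul (Additive.ofMul (⟨w, hw.1⟩ : ↥V) - (a • v - v))).2
    · rw [Subgroup.commutator_comm]
      exact Subgroup.commutator_mem_commutator ha (Additive.toMul v).2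
  · refine sup_le ?_ (inf_le_inf_left _ (Subgroup.centralizer_le hAP))
    rw [Subgroup.commutator_le]
    intro v hv a ha
    set b : Additive ↥V := -Additive.ofMul (⟨v, hv⟩ : ↥V) with hb
    have h1 := (hfix A' _).1 (hd.quadratic (a := ⟨a, hAP ha⟩) ha b)
    rw [hA'map] at h1
    have e : val ((⟨a, hAP ha⟩ : ↥P) • b - b) = ⁅v, a⁆ := by
      show a * v⁻¹ * a⁻¹ / v⁻¹ = v * a * v⁻¹ * a⁻¹
      rw [div_eq_mul_inv, inv_inv]
      have hc : ∀ s t : ↥V, s * t = t * s := fun s t => hV.1.is_comm.comm s t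
      have := congrArg Subtype.val (hc ⟨a * v⁻¹ * a⁻¹, (Subgroup.mem_normalizer_iff.1 (hPV (hAP ha)) _).1 (V.inv_mem hv)⟩ ⟨v, hv⟩)
      simpa [mul_assoc] using this
    exact ⟨e ▸ (Additive.toMul ((⟨a, hAP ha⟩ : ↥P) • b - b)).2, e ▸ h1⟩
  · exact MonoidHom.range_eq_top.2 ρ.surjective
  · intro y
    obtain ⟨v, hv⟩ := hψs (Multiplicative.toAdd y)
    exact ⟨Additive.toMul v, congrArg Multiplicative.ofAdd hv⟩
  · intro u
    show Multiplicative.ofAdd (ψ (Additive.ofMul u)) = 1 ↔ _
    rw [ofAdd_eq_one, hψ0, hfix, hPmap]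
    exact ⟨fun h => ⟨u.2, h⟩, fun h => h.2⟩
  · intro e u
    exact ⟨Additive.toMul (e • Additive.ofMul u), rfl, hψ e (Additive.ofMul u)⟩

end Cfsg.Agent.S2999
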