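import Cfsg.Statements.S3000
import Cfsg.Agent.Lib.CFun.MinParab.Reduce
import Cfsg.Agent.Lib.CFun.MinParab.Rec.Decomp

set_option autoImplicit false
open Cfsg
open scoped commutatorElement

namespace Cfsg.Agent.S3000

/-- Let p be a prime and let P and V be subgroups of a finite group with V elementary abelian, P normalizing V and acting faithfully on it (P ∩ C(V) = 1). Suppose P is p-minimal (a Sylow p-subgroup T of P is not normal and lies in a unique maximal subgroup M of P), O_p(P) = 1, C_P(C_V(T)) ≤ M, and P has a best offender on V: a subgroup A not centralizing V, with A/C_A(V) elementary abelian, such that |B|·|C_V(B)| ≤ |A|·|C_V(A)| for every subgroup B of A. Then there are subgroups E₁, …, E_r of P (r ≥ 1), pairwise commuting and forming with T a product P = (E₁ × ⋯ × E_r)T (internal direct product of the E_i), any two of which are conjugate by an element of T, such that V = C_V(E₁⋯E_r)·∏[V, E_i] with [V, E_i,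 E_j] = 1 for i ≠ j, and for each i there is n ≥ 1 with either E_i ≅ SL₂(pⁿ) acting on [V, E_i]/C_{[V,E_i]}(E_i) as on its natural two-dimensional module, or p = 2 and E_i isomorphic to the symmetric group of degree 2ⁿ + 1 acting on [V, E_i]/C_{[V,E_i]}(E_i) as on its even-weight permutation module. -/
theorem result {G : Type*} [Group G] [Finite G] {p : ℕ} [Fact p.Prime] (V P : Subgroup G) (hV : Cfsg.IsElementaryAbelian p V) (hPV : P ≤ Subgroup.normalizer (V : Set G)) (hfaith : P ⊓ Subgroup.centralizer (V : Set G) = ⊥) (hmin : Cfsg.IsPMinimal p ↥P) (T : Sylow p ↥P) (M : Subgroup ↥P) (hM : IsCoatom M) (hTM : (T : Subgroup ↥P) ≤ M) (hOp : Cfsg.pCore p ↥P = ⊥) (hoff : ∃ A : Subgroup G, A ≤ P ∧ ¬ A ≤ Subgroup.centralizer (V : Set G) ∧ Cfsg.IsBestOffenderOn p V A) (hCT : P ⊓ Subgroup.centralizer ((V ⊓ Subgroup.centralizer ((((T : Subgroup ↥P).map P.subtype) : Subgroup G) : Set G)) : Set G) ≤ M.map P.subtype) : ∃ (r : ℕ) (E :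 Fin r → Subgroup G), 1 ≤ r ∧ (∀ i, E i ≤ P) ∧ (∀ i j, i ≠ j → ⁅E i, E j⁆ = ⊥) ∧ (∀ i, E i ⊓ (⨆ j ∈ {j | j ≠ i}, E j) = ⊥) ∧ (⨆ i, E i) ⊔ ((T : Subgroup ↥P).map P.subtype) = P ∧ (∀ i j, ∃ t ∈ ((T : Subgroup ↥P).map P.subtype), (E i).map (MulAut.conj t).toMonoidHom = E j) ∧ (V ⊓ Subgroup.centralizer (((⨆ i, E i) : Subgroup G) : Set G)) ⊔ (⨆ i, ⁅V, E i⁆) = V ∧ (∀ i j, i ≠ j → ⁅⁅V, E i⁆, E j⁆ = ⊥) ∧ ∀ i, ∃ n : ℕ, 1 ≤ n ∧ ((∃ (F : Type) (_ : Field F) (_ : Fintype F), Fintype.card F = p ^ n ∧ Nonempty (↥(E i) ≃* Matrix.SpecialLinearGroup (Fin 2) F) ∧ Cfsg.ActsAsSL2OnSection F ⊤ (E i) ⁅V, E i⁆ (⁅V, E i⁆ ⊓ Subgroup.centralizer ((E i : Subgroup G) : Set G))) ∨ (p = 2 ∧ Nonempty (↥(E i) ≃* Equiv.Perm (Fin (2 ^ n + 1))) ∧ Cfsg.ActsAsOddPermModuleOnSection (2 ^ n + 1) ⊤ (E i) ⁅V, E i⁆ (⁅V, E i⁆ ⊓ Subgroup.centralizer ((E i : Subgroup G) : Set G)))) := by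
  classical
  letI : CommGroup ↥V :=
    { (inferInstance : Group ↥V) with mul_comm := fun a b => hV.1.is_comm.comm a b }
  letI act : DistribMulAction ↥P (Additive ↥V) :=
    { smul := fun g a => Additive.ofMul (⟨(g : G) * ((Additive.toMul a : ↥V) : G) * (g : G)⁻¹,
        (Subgroup.mem_normalizer_iff.1 (hPV g.2) _).1 (Additive.toMul a).2⟩ : ↥V)
      one_smul := fun a => congrArg Additive.ofMul (Subtype.ext (by
        show (1 : G) * ((Additive.toMul a : ↥V) : G) * (1 : G)⁻¹ = ((Additive.toMul a : ↥V) : G)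
        simp))
      mul_smul := fun g h a => congrArg Additive.ofMul (Subtype.ext (by
        show ((g : G) * h) * ((Additive.toMul a : ↥V) : G) * ((g : G) * h)⁻¹ =
          (g : G) * ((h : G) * ((Additive.toMul a : ↥V) : G) * (h : G)⁻¹) * (g : G)⁻¹
        group))
      smul_zero := fun g => congrArg Additive.ofMul (Subtype.ext (by
        show (g : G) * 1 * (g : G)⁻¹ = 1
        simp))
      smul_add := fun g a b => congrArg Additive.ofMul (Subtype.ext (by
        show (g : G) * (((Additive.toMul a : ↥V) : G) * ((Additive.toMul b : ↥V) : G)) * (g : G)⁻¹ =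
          ((g : G) * ((Additive.toMul a : ↥V) : G) * (g : G)⁻¹) * ((g : G) * ((Additive.toMul b : ↥V) : G) * (g : G)⁻¹)
        group)) }
  let val : Additive ↥V → G := fun a => ((Additive.toMul a : ↥V) : G)
  have hval : ∀ a b : Additive ↥V, val a = val b → a = b := fun a b h => Additive.toMul.injective (Subtype.ext h)
  have hsmul : ∀ (g : ↥P) (a : Additive ↥V), val (g • a) = (g : G) * val a * (g : G)⁻¹ := fun _ _ => rfl
  have hfix : ∀ (S : Subgroup ↥P) (a : Additive ↥V),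
      a ∈ CfsgLib.Char.NatSL.fixS (Additive ↥V) S ↔
        val a ∈ Subgroup.centralizer ((S.map P.subtype : Subgroup G) : Set G) := by
    intro S a
    rw [Subgroup.mem_centralizer_iff]
    constructor
    · rintro h _ ⟨g, hg, rfl⟩
      have := congrArg val (h g hg)
      rw [hsmul] at this
      exact mul_inv_eq_iff_eq_mul.1 this
    · intro h g hg
      refine hval _ _ ?_
      rw [hsmul]
      exact mul_inv_eq_iff_eq_mul.2 (h _ ⟨g, hg, rfl⟩)
  have vpU : ∀ a : Additive ↥V, p • a = 0 := fun a => hval _ _ (by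
    show ((Additive.toMul (p • a) : ↥V) : G) = 1
    rw [toMul_nsmul, SubgroupClass.coe_pow]
    exact hV.2 _ (Additive.toMul a).2)
  have faith : ∀ h : ↥P, (∀ a : Additive ↥V, h • a = a) → h = 1 := fun h hh => by
    have h1 : (h : G) ∈ P ⊓ Subgroup.centralizer (V : Set G) := by
      refine ⟨h.2, Subgroup.mem_centralizer_iff.2 fun v hv => ?_⟩
      have := congrArg val (hh (Additive.ofMul ⟨v, hv⟩))
      rw [hsmul] at this
      exact (mul_inv_eq_iff_eq_mul.1 this).symm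
    rw [hfaith, Subgroup.mem_bot] at h1
    exact Subtype.ext h1
  obtain ⟨hTn, M', -, huniq⟩ := hmin T
  have uniq : ∀ K : Subgroup ↥P, (T : Subgroup ↥P) ≤ K → K ≠ ⊤ → K ≤ M := fun K hK hne => by
    obtain ⟨N, hN, hKN⟩ := (eq_top_or_exists_le_coatom K).resolve_left hne
    rw [huniq M ⟨hM, hTM⟩]
    exact huniq N ⟨hN, hK.trans hKN⟩ ▸ hKN
  have core : ∀ X : Subgroup ↥P, X.Normal → IsPGroup p X → X = ⊥ := fun X h1 h2 => by
    rw [eq_bot_iff, ← hOp]
    exact le_sSup ⟨h1, h2⟩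
  obtain ⟨A, hAP, hAV, hbest, hcomm, hpow⟩ := hoff
  set A₀ : Subgroup ↥P := A.subgroupOf P with hA₀
  have hmap : A₀.map P.subtype = A := by
    rw [hA₀, Subgroup.subgroupOf_map_subtype, inf_eq_left.2 hAP]
  have hbot : ∀ g ∈ P, g ∈ Subgroup.centralizer (V : Set G) → g = 1 := fun g hg hg' =>
    Subgroup.mem_bot.1 (hfaith ▸ ⟨hg, hg'⟩)
  have hel : CfsgLib.CFun.MinParab.El p A₀ := by
    refine ⟨fun a ha b hb => Subtype.ext ?_, fun a ha => Subtype.ext ?_⟩
    · have h1 := hcomm (Subgroup.commutator_mem_commutator (show (a : G) ∈ A from ha) (show (b : G) ∈ A from hb))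
      have h2 := hbot _ (P.mul_mem (P.mul_mem (P.mul_mem a.2 b.2) (P.inv_mem a.2)) (P.inv_mem b.2)) h1
      exact commutatorElement_eq_one_iff_mul_comm.1 h2
    · exact hbot _ (pow_mem a.2 p) (hpow _ ha)
  have hne : A₀ ≠ ⊥ := fun h => hAV (by rw [← hmap, h, Subgroup.map_bot]; exact bot_le)
  have hcard : ∀ S : Subgroup ↥P, Nat.card ↥(CfsgLib.Char.NatSL.fixS (Additive ↥V) S) =
      Nat.card ↥(V ⊓ Subgroup.centralizer ((S.map P.subtype : Subgroup G) : Set G)) := fun S => Nat.card_congr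
    { toFun := fun a => ⟨val a, (Additive.toMul (a : Additive ↥V)).2, (hfix S a).1 a.2⟩
      invFun := fun a => ⟨Additive.ofMul ⟨a, a.2.1⟩, (hfix S _).2 a.2.2⟩
      left_inv := fun a => rfl
      right_inv := fun a => rfl }
  have hoff' : Nat.card (Additive ↥V) ≤
      Nat.card ↥A₀ * Nat.card ↥(CfsgLib.Char.NatSL.fixS (Additive ↥V) A₀) := by
    rw [hcard A₀, hmap, Nat.card_congr (Subgroup.subgroupOfEquivOfLe hAP).toEquiv,
      Nat.card_congr (Additive.toMul (α := ↥V))]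
    refine le_trans (le_of_eq ?_) (hbest ⊥ bot_le)
    rw [Subgroup.card_bot, one_mul, inf_eq_left.2 (fun v _ => Subgroup.mem_centralizer_iff.2 (fun h hh => by
      rw [Subgroup.mem_bot.1 hh, one_mul, mul_one]))]
  obtain ⟨u, hu, g, hg⟩ :=
    CfsgLib.CFun.MinParab.exists_moved (T := T) vpU faith hTM hM.1 uniq core hel hne hoff'
  have hc : CfsgLib.CFun.MinParab.Rec.Ctx (Additive ↥V) p T M :=
    { vp := vpU
      faith := faith
      le_M := hTM
      ne_top := hM.1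
      uniq := uniq
      core := core
      moved := fun h => hg (h hu g (Subgroup.mem_top g)) }
  obtain ⟨q, -, r, E, hP, -, n, hn, hE⟩ :=
    CfsgLib.CFun.MinParab.Rec.exists_decomp hc ⟨A₀, hel, hne, hoff'⟩
  -- from subgroups of the module to subgroups of `V`
  let Φ : AddSubgroup (Additive ↥V) → Subgroup G := fun X => (AddSubgroup.toSubgroup' X).map V.subtype
  have hmemΦ : ∀ X x, x ∈ Φ X ↔ ∃ a ∈ X, val a = x := fun X x =>
    ⟨fun ⟨v, hv, he⟩ => ⟨Additive.ofMul v, hv, he⟩, fun ⟨a, ha, he⟩ => ⟨Additive.toMul a, ha, he⟩⟩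
  have hΦsup : ∀ X Y, Φ (X ⊔ Y) = Φ X ⊔ Φ Y := fun X Y => by
    simp only [Φ, OrderIso.map_sup, Subgroup.map_sup]
  have hΦiSup : ∀ X : Fin r → AddSubgroup (Additive ↥V), Φ (⨆ i, X i) = ⨆ i, Φ (X i) := fun X => by
    simp only [Φ, OrderIso.map_iSup, Subgroup.map_iSup]
  have hΦtop : Φ ⊤ = V := by
    simp only [Φ, OrderIso.map_top, ← MonoidHom.range_eq_map, Subgroup.range_subtype]
  have hΦfix : ∀ S : Subgroup ↥P, Φ (CfsgLib.Char.NatSL.fixS (Additive ↥V) S) =
      V ⊓ Subgroup.centralizer ((S.map P.subtype : Subgroup G) : Set G) := fun S => by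
    ext x
    rw [hmemΦ]
    constructor
    · rintro ⟨a, ha, rfl⟩
      exact ⟨(Additive.toMul a).2, (hfix S a).1 ha⟩
    · rintro ⟨h1, h2⟩
      exact ⟨Additive.ofMul ⟨x, h1⟩, (hfix S _).2 h2, rfl⟩
  have hΦcomm : ∀ S : Subgroup ↥P, Φ (CfsgLib.CFun.MinParab.commS (Additive ↥V) S) = ⁅V, S.map P.subtype⁆ := by
    intro S
    refine le_antisymm ?_ (Subgroup.commutator_le.2 ?_)
    · intro x hx
      obtain ⟨a, ha, rfl⟩ := (hmemΦ _ x).1 hx
      induction ha using AddSubgroup.closure_induction with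
      | mem b hb =>
        obtain ⟨h, hh, v, rfl⟩ := hb
        have h1 : val (h • v - v) = ((⁅val v, (h : G)⁆)⁻¹ : G) := by
          show (h : G) * val v * (h : G)⁻¹ / val v = _
          rw [commutatorElement_def, div_eq_mul_inv]
          group
        rw [h1]
        exact Subgroup.inv_mem _ (Subgroup.commutator_mem_commutator (Additive.toMul v).2 ⟨h, hh, rfl⟩)
      | zero => exact Subgroup.one_mem _
      | add b c hb' hc' hb hc => exact Subgroup.mul_mem _ (hb ((hmemΦ _ _).2 ⟨b, hb', rfl⟩)) (hc ((hmemΦ _ _).2 ⟨c, hc', rfl⟩))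
      | neg b hb' hb => exact Subgroup.inv_mem _ (hb ((hmemΦ _ _).2 ⟨b, hb', rfl⟩))
    · rintro v hv _ ⟨h, hh, rfl⟩
      refine (hmemΦ _ _).2 ⟨-(h • (Additive.ofMul ⟨v, hv⟩ : Additive ↥V) - Additive.ofMul ⟨v, hv⟩),
        neg_mem (CfsgLib.CFun.MinParab.sub_mem_commS hh _), ?_⟩
      show ((h : G) * v * (h : G)⁻¹ / v)⁻¹ = ⁅v, (h : G)⁆
      rw [commutatorElement_def, div_eq_mul_inv]
      group
  -- the conclusion
  refine ⟨r, fun i => (E i).map P.subtype, hP.pos, fun i => Subgroup.map_subtype_le _, fun i j hij => ?_,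
    fun i => ?_, ?_, fun i j => ?_, ?_, fun i j hij => ?_, fun i => ⟨n, hn, ?_⟩⟩
  · rw [Subgroup.commutator_eq_bot_iff_le_centralizer]
    rintro _ ⟨a, ha, rfl⟩
    refine Subgroup.mem_centralizer_iff.2 ?_
    rintro _ ⟨b, hb, rfl⟩
    exact congrArg Subtype.val (hP.com i j hij a ha b hb).symm
  · simp only [← Subgroup.map_iSup]
    rw [← Subgroup.map_inf_eq _ _ _ P.subtype_injective, hP.indep, Subgroup.map_bot]
  · rw [← Subgroup.map_iSup, ← Subgroup.map_sup, hP.gen, ← MonoidHom.range_eq_map, Subgroup.range_subtype]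
  · obtain ⟨t, ht, he⟩ := hP.trans i j
    refine ⟨(t : G), ⟨t, ht, rfl⟩, ?_⟩
    show ((E i).map P.subtype).map (MulAut.conj (t : G)).toMonoidHom = (E j).map P.subtype
    rw [← he, CfsgLib.Fusion.conjBy, Subgroup.map_map, Subgroup.map_map]
    rfl
  · rw [← Subgroup.map_iSup, ← hΦfix]
    simp only [← hΦcomm]
    rw [← hΦiSup, ← hΦsup, hP.span, hΦtop]
  · rw [Subgroup.commutator_eq_bot_iff_le_centralizer, ← hΦcomm]
    intro x hx
    obtain ⟨a, ha, rfl⟩ := (hmemΦ _ x).1 hx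
    exact (hfix _ a).1 (hP.cross i j hij ha)
  -- the action on the section
  set U : Subgroup G := ⁅V, (E i).map P.subtype⁆ with hU
  have hUV : ∀ x ∈ U, x ∈ V := fun x hx => by
    rw [hU, ← hΦcomm] at hx
    obtain ⟨a, -, rfl⟩ := (hmemΦ _ x).1 hx
    exact (Additive.toMul a).2
  have hUC : ∀ a, val a ∈ U → a ∈ CfsgLib.CFun.MinParab.commS (Additive ↥V) (E i) := fun a ha => by
    rw [hU, ← hΦcomm] at ha
    obtain ⟨b, hb, he⟩ := (hmemΦ _ _).1 ha
    exact hval b a he ▸ hb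
  have hCU : ∀ a ∈ CfsgLib.CFun.MinParab.commS (Additive ↥V) (E i), val a ∈ U := fun a ha => by
    rw [hU, ← hΦcomm]
    exact (hmemΦ _ _).2 ⟨a, ha, rfl⟩
  let ι : ↥U →* ↥V := Subgroup.inclusion hUV
  let emb : ↥U → Additive ↥V := fun u => Additive.ofMul (ι u)
  have hconj : ∀ (g : ↥(E i)) (u : ↥U), val (((g : ↥P)) • emb u) ∈ U := fun g u =>
    hCU _ (CfsgLib.CFun.MinParab.smul_mem_commS_of_mem g.2 (hUC _ u.2))
  have hnorm : (E i).map P.subtype ≤ Subgroup.normalizer (U : Set G) := by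
    rintro _ ⟨e, he, rfl⟩
    refine Subgroup.mem_normalizer_iff.2 fun x => ⟨fun hx => hconj ⟨e, he⟩ ⟨x, hx⟩, fun hx => ?_⟩
    have h1 := hconj ⟨e⁻¹, inv_mem he⟩ ⟨_, hx⟩
    rw [hsmul] at h1
    simpa [val, emb, ι, mul_assoc] using h1
  let c : ↥((E i).map P.subtype) ≃* ↥(E i) := ((E i).equivMapOfInjective P.subtype P.subtype_injective).symm
  have hcoe : ∀ x, (((c x : ↥(E i)) : ↥P) : G) = (x : G) := fun x =>
    congrArg Subtype.val (((E i).equivMapOfInjective P.subtype P.subtype_injective).apply_symm_apply x)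
  have hker : ∀ u : ↥U, emb u ∈ CfsgLib.Char.NatSL.fixS (Additive ↥V) (E i) ↔
      (u : G) ∈ U ⊓ Subgroup.centralizer (((E i).map P.subtype : Subgroup G) : Set G) := fun u =>
    (hfix _ _).trans ⟨fun h => ⟨u.2, h⟩, fun h => h.2⟩
  rcases hE with ⟨-, hqn, hE⟩ | ⟨-, hp2, hE⟩
  · obtain ⟨⟨F, iF, iFf, hF, ρ, ψ, hψs, hψk, hψe⟩, g₀, B, L, he, -, hb⟩ := hE i
    have hsup : CfsgLib.CFun.MinParab.commS (Additive ↥V) (E i) ⊔
        CfsgLib.Char.NatSL.fixS (Additive ↥V) (E i) = ⊤ := by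
      rw [he, CfsgLib.CFun.MinParab.Rec.commS_conjBy, CfsgLib.CFun.MinParab.Rec.fixS_conjBy,
        ← CfsgLib.CFun.MinParab.Rec.tr_sup, hb.sup_fix, CfsgLib.CFun.MinParab.Rec.tr_top]
    let ψ' : ↥U →* Multiplicative (Fin 2 → F) :=
      MonoidHom.mk' (fun u => Multiplicative.ofAdd (ψ (emb u))) fun u v => by
        rw [← ofAdd_add, ← map_add]; rfl
    refine Or.inl ⟨F, iF, iFf, hF.trans hqn, ⟨c.trans ρ⟩, hnorm, inf_le_left,
      (c.trans ρ).toMonoidHom, ψ', MonoidHom.range_eq_top.2 (c.trans ρ).surjective,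
      fun w => ?_, fun u => ?_, fun e u => ⟨⟨_, hconj (c e) u⟩, ?_, ?_⟩⟩
    · obtain ⟨v, hv⟩ := hψs (Multiplicative.toAdd w)
      obtain ⟨a, ha, z, hz, hazv⟩ := AddSubgroup.mem_sup.1 (hsup ▸ AddSubgroup.mem_top v :
        v ∈ CfsgLib.CFun.MinParab.commS (Additive ↥V) (E i) ⊔ CfsgLib.Char.NatSL.fixS (Additive ↥V) (E i))
      refine ⟨⟨val a, hCU a ha⟩, congrArg Multiplicative.ofAdd (?_ : ψ a = Multiplicative.toAdd w)⟩
      rw [← hv, ← hazv, map_add, (hψk z).2 hz, add_zero]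
    · exact (ofAdd_eq_one.trans (hψk _)).trans (hker u)
    · show val (((c e : ↥(E i)) : ↥P) • emb u) = _
      rw [hsmul, hcoe]
      rfl
    · exact hψe (c e) (emb u)
  · obtain ⟨hnat, -⟩ := hE i
    have hsup := hnat.sup_eq_top hn
    obtain ⟨θ, ψ, hsum, hev, hψk, hψe⟩ := hnat
    let ψ' : ↥U →* Multiplicative (Fin (2 ^ n + 1) → ZMod 2) :=
      MonoidHom.mk' (fun u => Multiplicative.ofAdd (ψ (emb u))) fun u v => by
        rw [← ofAdd_add, ← map_add]; rfl
    refine Or.inr ⟨hp2, ⟨c.trans θ⟩, hnorm, inf_le_left,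
      (c.trans θ).toMonoidHom, ψ', MonoidHom.range_eq_top.2 (c.trans θ).surjective,
      fun u => hsum (emb u), fun w hw => ?_, fun u => ?_, fun e u => ⟨⟨_, hconj (c e) u⟩, ?_, ?_⟩⟩
    · obtain ⟨v, hv⟩ := hev w hw
      obtain ⟨a, ha, z, hz, hazv⟩ := AddSubgroup.mem_sup.1 (hsup ▸ AddSubgroup.mem_top v :
        v ∈ CfsgLib.CFun.MinParab.commS (Additive ↥V) (E i) ⊔ CfsgLib.Char.NatSL.fixS (Additive ↥V) (E i))
      refine ⟨⟨val a, hCU a ha⟩, (?_ : ψ a = w)⟩
      rw [← hv, ← hazv, map_add, (hψk z).2 hz, add_zero]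
    · exact (ofAdd_eq_one.trans (hψk _)).trans (hker u)
    · show val (((c e : ↥(E i)) : ↥P) • emb u) = _
      rw [hsmul, hcoe]
      rfl
    · exact hψe (c e) (emb u)

end Cfsg.Agent.S3000
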