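import Cfsg.Statements.S3001
import Cfsg.Agent.Lib.CFun.MinParab.Reduce

set_option autoImplicit false
open Cfsg

namespace Cfsg.Agent.S3001

/-- Let p be a prime and let P and V be subgroups of a finite group with V elementary abelian, P normalizing V and acting faithfully on it (P ∩ C(V) = 1). Suppose P is p-minimal (a Sylow p-subgroup is not normal and lies in a unique maximal subgroup), O_p(P) = 1, and P has a best offender on V (a subgroup A not centralizing V, with A/C_A(V) elementary abelian and |B|·|C_V(B)| ≤ |A|·|C_V(A)| for every B ≤ A). Then [C_V(T), P] ≠ 1 for every Sylow p-subgroup T of P. -/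
theorem result {G : Type*} [Group G] [Finite G] {p : ℕ} [Fact p.Prime] (V P : Subgroup G) (hV : Cfsg.IsElementaryAbelian p V) (hPV : P ≤ Subgroup.normalizer (V : Set G)) (hfaith : P ⊓ Subgroup.centralizer (V : Set G) = ⊥) (hmin : Cfsg.IsPMinimal p ↥P) (hOp : Cfsg.pCore p ↥P = ⊥) (hoff : ∃ A : Subgroup G, A ≤ P ∧ ¬ A ≤ Subgroup.centralizer (V : Set G) ∧ Cfsg.IsBestOffenderOn p V A) (T : Sylow p ↥P) : ⁅(V ⊓ Subgroup.centralizer ((((T : Subgroup ↥P).map P.subtype) : Subgroup G) : Set G)), P⁆ ≠ ⊥ := by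
  classical
  letI : CommGroup ↥V :=
    { (inferInstance : Group ↥V) with mul_comm := fun a b => hV.1.is_comm.comm a b }
  letI act : DistribMulAction ↥P (Additive ↥V) :=
    { smul := fun g a => Additive.ofMul (⟨(g : G) * ((Additive.toMul a : ↥V) : G) * (g : G)⁻¹,
        (Subgroup.mem_normalizer_iff.1 (hPV g.2) _).1 (Additive.toMul a).2⟩ : ↥V)
      one_smul := fun a => congrArg Additive.ofMul (Subtype.ext (by
        show (1 : G) * ((Additive.toMul a : ↥V) : G) * (1 : G)⁻¹ = ((Additive.toMul a : ↥V) : G)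
        simp))
      mul_smul := fun g h a => congrArg Additive.ofMul (Subtype.ext (by
        show ((g : G) * h) * ((Additive.toMul a : ↥V) : G) * ((g : G) * h)⁻¹ =
          (g : G) * ((h : G) * ((Additive.toMul a : ↥V) : G) * (h : G)⁻¹) * (g : G)⁻¹
        group))
      smul_zero := fun g => congrArg Additive.ofMul (Subtype.ext (by
        show (g : G) * 1 * (g : G)⁻¹ = 1
        simp))
      smul_add := fun g a b => congrArg Additive.ofMul (Subtype.ext (by
        show (g : G) * (((Additive.toMul a : ↥V) : G) * ((Additive.toMul b : ↥V) : G)) * (g : G)⁻¹ =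
          ((g : G) * ((Additive.toMul a : ↥V) : G) * (g : G)⁻¹) * ((g : G) * ((Additive.toMul b : ↥V) : G) * (g : G)⁻¹)
        group)) }
  let val : Additive ↥V → G := fun a => ((Additive.toMul a : ↥V) : G)
  have hval : ∀ a b : Additive ↥V, val a = val b → a = b := fun a b h => Additive.toMul.injective (Subtype.ext h)
  have hsmul : ∀ (g : ↥P) (a : Additive ↥V), val (g • a) = (g : G) * val a * (g : G)⁻¹ := fun _ _ => rfl
  have hfix : ∀ (S : Subgroup ↥P) (a : Additive ↥V),
      a ∈ CfsgLib.Char.NatSL.fixS (Additive ↥V) S ↔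
        val a ∈ Subgroup.centralizer ((S.map P.subtype : Subgroup G) : Set G) := by
    intro S a
    rw [Subgroup.mem_centralizer_iff]
    constructor
    · rintro h _ ⟨g, hg, rfl⟩
      have := congrArg val (h g hg)
      rw [hsmul] at this
      exact mul_inv_eq_iff_eq_mul.1 this
    · intro h g hg
      refine hval _ _ ?_
      rw [hsmul]
      exact mul_inv_eq_iff_eq_mul.2 (h _ ⟨g, hg, rfl⟩)
  have vpU : ∀ a : Additive ↥V, p • a = 0 := fun a => hval _ _ (by
    show ((Additive.toMul (p • a) : ↥V) : G) = 1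
    rw [toMul_nsmul, SubgroupClass.coe_pow]
    exact hV.2 _ (Additive.toMul a).2)
  have faith : ∀ h : ↥P, (∀ a : Additive ↥V, h • a = a) → h = 1 := fun h hh => by
    have h1 : (h : G) ∈ P ⊓ Subgroup.centralizer (V : Set G) := by
      refine ⟨h.2, Subgroup.mem_centralizer_iff.2 fun v hv => ?_⟩
      have := congrArg val (hh (Additive.ofMul ⟨v, hv⟩))
      rw [hsmul] at this
      exact (mul_inv_eq_iff_eq_mul.1 this).symm
    rw [hfaith, Subgroup.mem_bot] at h1
    exact Subtype.ext h1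
  obtain ⟨hTn, M, ⟨hM, hTM⟩, huniq⟩ := hmin T
  have uniq : ∀ K : Subgroup ↥P, (T : Subgroup ↥P) ≤ K → K ≠ ⊤ → K ≤ M := fun K hK hne => by
    obtain ⟨N, hN, hKN⟩ := (eq_top_or_exists_le_coatom K).resolve_left hne
    exact huniq N ⟨hN, hK.trans hKN⟩ ▸ hKN
  have core : ∀ X : Subgroup ↥P, X.Normal → IsPGroup p X → X = ⊥ := fun X h1 h2 => by
    rw [eq_bot_iff, ← hOp]
    exact le_sSup ⟨h1, h2⟩
  obtain ⟨A, hAP, hAV, hbest, hcomm, hpow⟩ := hoff
  set A₀ : Subgroup ↥P := A.subgroupOf P with hA₀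
  have hmap : A₀.map P.subtype = A := by
    rw [hA₀, Subgroup.subgroupOf_map_subtype, inf_eq_left.2 hAP]
  have hbot : ∀ g ∈ P, g ∈ Subgroup.centralizer (V : Set G) → g = 1 := fun g hg hg' =>
    Subgroup.mem_bot.1 (hfaith ▸ ⟨hg, hg'⟩)
  have hel : CfsgLib.CFun.MinParab.El p A₀ := by
    refine ⟨fun a ha b hb => Subtype.ext ?_, fun a ha => Subtype.ext ?_⟩
    · have h1 := hcomm (Subgroup.commutator_mem_commutator (show (a : G) ∈ A from ha) (show (b : G) ∈ A from hb))
      have h2 := hbot _ (P.mul_mem (P.mul_mem (P.mul_mem a.2 b.2) (P.inv_mem a.2)) (P.inv_mem b.2)) h1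
      exact commutatorElement_eq_one_iff_mul_comm.1 h2
    · exact hbot _ (pow_mem a.2 p) (hpow _ ha)
  have hne : A₀ ≠ ⊥ := fun h => hAV (by rw [← hmap, h, Subgroup.map_bot]; exact bot_le)
  have hcard : ∀ S : Subgroup ↥P, Nat.card ↥(CfsgLib.Char.NatSL.fixS (Additive ↥V) S) =
      Nat.card ↥(V ⊓ Subgroup.centralizer ((S.map P.subtype : Subgroup G) : Set G)) := fun S => Nat.card_congr
    { toFun := fun a => ⟨val a, (Additive.toMul (a : Additive ↥V)).2, (hfix S a).1 a.2⟩
      invFun := fun a => ⟨Additive.ofMul ⟨a, a.2.1⟩, (hfix S _).2 a.2.2⟩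
      left_inv := fun a => rfl
      right_inv := fun a => rfl }
  have hoff' : Nat.card (Additive ↥V) ≤
      Nat.card ↥A₀ * Nat.card ↥(CfsgLib.Char.NatSL.fixS (Additive ↥V) A₀) := by
    rw [hcard A₀, hmap, Nat.card_congr (Subgroup.subgroupOfEquivOfLe hAP).toEquiv,
      Nat.card_congr (Additive.toMul (α := ↥V))]
    refine le_trans (le_of_eq ?_) (hbest ⊥ bot_le)
    rw [Subgroup.card_bot, one_mul, inf_eq_left.2 (fun v _ => Subgroup.mem_centralizer_iff.2 (fun h hh => by
      rw [Subgroup.mem_bot.1 hh, one_mul, mul_one]))]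
  obtain ⟨u, hu, g, hg⟩ :=
    CfsgLib.CFun.MinParab.exists_moved (T := T) vpU faith hTM hM.1 uniq core hel hne hoff'
  intro hcon
  refine hg (hval _ _ ?_)
  rw [hsmul, mul_inv_eq_iff_eq_mul]
  exact Subgroup.mem_centralizer_iff.1
    (Subgroup.commutator_eq_bot_iff_le_centralizer.1 hcon ⟨(Additive.toMul u).2, (hfix _ u).1 hu⟩) _ g.2

end Cfsg.Agent.S3001
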