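import Cfsg.Statements.S3003
import Cfsg.Agent.Lib.Coprime.Action
import Cfsg.Agent.Lib.Fusion.Sylow
import Cfsg.Agent.Lib.PGroup.ElementaryBasic
import Cfsg.Prelude.Def_LocalStructure

set_option autoImplicit false
open Cfsg

namespace Cfsg.Agent.S3003

/-- Let G be a finite group, p a prime and Q a large p-subgroup of G: C_G(Q) ≤ Q and N_G(U) ≤ N_G(Q) for every nontrivial subgroup U of C_G(Q). Let Q ≤ G₁ ≤ G, let R be a subgroup of order prime to p normalized by G₁, and let U ≤ G₁ be a p-subgroup. If U contains a nontrivial element which is G₁-conjugate to an element of Z(Q), then C_R(U) = 1. In particular, if U is elementary abelian of order at least p² and every maximal subgroup of U contains a nontrivial element G₁-conjugate into Z(Q), then R = 1. -/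
theorem result {G : Type*} [Group G] [Finite G] {p : ℕ} [Fact p.Prime] (Q : Subgroup G) (hQp : IsPGroup p ↥Q) (hlarge : Cfsg.IsLarge Q) (G₁ : Subgroup G) (hQG : Q ≤ G₁) (R : Subgroup G) (hR : (Nat.card ↥R).Coprime p) (hGR : G₁ ≤ Subgroup.normalizer (R : Set G)) (U : Subgroup G) (hUG : U ≤ G₁) (hUp : IsPGroup p ↥U) : ((∃ x ∈ U, x ≠ 1 ∧ ∃ g ∈ G₁, g * x * g⁻¹ ∈ Q ⊓ Subgroup.centralizer (Q : Set G)) → R ⊓ Subgroup.centralizer (U : Set G) = ⊥) ∧ (Cfsg.IsElementaryAbelian p U → p ^ 2 ≤ Nat.card ↥U → (∀ U₀ : Subgroup G, U₀ ≤ U → IsCoatom (U₀.subgroupOf U) → ∃ x ∈ U₀, x ≠ 1 ∧ ∃ g ∈ G₁, g * x * g⁻¹ ∈ Q ⊓ Subgroup.centralizer (Q : Set G)) → R = ⊥) := by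
  classical
  have hpp : p.Prime := Fact.out
  obtain ⟨hCQ, hlg⟩ := hlarge
  have hRQ : R ⊓ Q = ⊥ := by
    rw [← Subgroup.card_eq_one]
    obtain ⟨k, hk⟩ := hQp.exists_card_eq
    exact Nat.eq_one_of_dvd_coprimes (hR.pow_right k) (Subgroup.card_dvd_of_le inf_le_left) (hk ▸ Subgroup.card_dvd_of_le inf_le_right)
  have hbase : ∀ x : G, x ≠ 1 → (∃ g ∈ G₁, g * x * g⁻¹ ∈ Q ⊓ Subgroup.centralizer (Q : Set G)) → R ⊓ Subgroup.centralizer ({x} : Set G) = ⊥ := by
    rintro x hx ⟨g, hg, hgx⟩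
    rw [Subgroup.eq_bot_iff_forall]
    intro r hr
    set r' := g * r * g⁻¹ with hr'
    have hr'R : r' ∈ R := (Subgroup.mem_normalizer_iff.1 (hGR hg) r).1 hr.1
    have hr'C : r' ∈ Subgroup.centralizer ((Subgroup.zpowers (g * x * g⁻¹) : Subgroup G) : Set G) := by
      rw [Subgroup.zpowers_eq_closure, Subgroup.centralizer_closure, Subgroup.mem_centralizer_singleton_iff]
      have h1 := Subgroup.mem_centralizer_singleton_iff.1 hr.2
      calc r' * (g * x * g⁻¹) = g * (r * x) * g⁻¹ := by rw [hr']; group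
        _ = g * (x * r) * g⁻¹ := by rw [h1]
        _ = g * x * g⁻¹ * r' := by rw [hr']; group
    have hN : r' ∈ Subgroup.normalizer (Q : Set G) := hlg _ (Subgroup.zpowers_le.2 hgx.2)
      (fun e => hx (conj_eq_one_iff.1 (Subgroup.zpowers_eq_bot.1 e))) (Subgroup.centralizer_le_normalizer _ hr'C)
    have hQR : r' ∈ Subgroup.centralizer (Q : Set G) := by
      refine Subgroup.mem_centralizer_iff.2 fun q hq => ?_
      have h1 : r' * q * r'⁻¹ * q⁻¹ ∈ R ⊓ Q := ⟨by
        rw [show r' * q * r'⁻¹ * q⁻¹ = r' * (q * r'⁻¹ * q⁻¹) by group]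
        exact R.mul_mem hr'R ((Subgroup.mem_normalizer_iff.1 (hGR (hQG hq)) _).1 (R.inv_mem hr'R)),
        Q.mul_mem ((Subgroup.mem_normalizer_iff.1 hN q).1 hq) (Q.inv_mem hq)⟩
      rw [hRQ, Subgroup.mem_bot, mul_inv_eq_one, mul_inv_eq_iff_eq_mul] at h1
      exact h1.symm
    have h2 : r' ∈ R ⊓ Q := ⟨hr'R, hCQ hQR⟩
    rw [hRQ, Subgroup.mem_bot, hr', conj_eq_one_iff] at h2
    exact h2
  have hle : ∀ (V : Subgroup G) (x : G), x ∈ V → x ≠ 1 → (∃ g ∈ G₁, g * x * g⁻¹ ∈ Q ⊓ Subgroup.centralizer (Q : Set G)) → R ⊓ Subgroup.centralizer (V : Set G) = ⊥ := by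
    intro V x hxV hx hg
    rw [eq_bot_iff, ← hbase x hx hg]
    exact inf_le_inf_left _ (Subgroup.centralizer_le (Set.singleton_subset_iff.2 hxV))
  refine ⟨fun ⟨x, hxU, hx, hg⟩ => hle U x hxU hx hg, fun hU hU2 hall => ?_⟩
  haveI := hU.1
  have hab : ∀ u ∈ U, ∀ v ∈ U, u * v = v * u := fun u hu v hv => CfsgLib.EABasic.comm_of_isElementaryAbelian hU hu hv
  have hcomm : ∀ {A B : Subgroup G}, A ≤ U → B ≤ U → A ≤ Subgroup.centralizer (B : Set G) := fun hA hB a ha =>
    Subgroup.mem_centralizer_iff.2 fun b hb => hab b (hB hb) a (hA ha)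
  suffices key : ∀ (n : ℕ) (V : Subgroup G), V ≤ U → Nat.card U - Nat.card V = n → R ⊓ Subgroup.centralizer (V : Set G) = ⊥ by
    have h := key _ ⊥ bot_le rfl
    rw [Subgroup.centralizer_eq_top_iff_subset.2 (by simp), inf_top_eq] at h
    exact h
  intro n
  induction n using Nat.strong_induction_on with
  | _ n ih =>
    intro V hVU hn
    by_cases hVeq : U ≤ V
    · obtain ⟨U', hU'⟩ : ∃ U' : Subgroup U, IsCoatom U' := by
        haveI : Nontrivial U := by
          rw [← Finite.one_lt_card_iff_nontrivial]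
          exact lt_of_lt_of_le (Nat.one_lt_pow two_ne_zero hpp.one_lt) hU2
        exact (IsCoatomic.eq_top_or_exists_le_coatom (⊥ : Subgroup U)).resolve_left bot_ne_top |>.imp fun _ h => h.1
      obtain ⟨x, hx, hx1, hg⟩ := hall (U'.map U.subtype) (Subgroup.map_subtype_le _) (by
        rwa [Subgroup.subgroupOf, Subgroup.comap_map_eq_self_of_injective U.subtype_injective])
      exact hle V x (hVeq (Subgroup.map_subtype_le _ hx)) hx1 hg
    obtain ⟨a, haU, haV⟩ := SetLike.not_le_iff_exists.1 hVeq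
    have ha1 : a ≠ 1 := fun e => haV (e ▸ V.one_mem)
    have hao : orderOf a = p := orderOf_eq_prime (hU.2 a haU) ha1
    have hzaU : Subgroup.zpowers a ≤ U := Subgroup.zpowers_le.2 haU
    set V₁ := V ⊔ Subgroup.zpowers a with hV₁
    have hV₁U : V₁ ≤ U := sup_le hVU hzaU
    by_cases hV₁eq : U ≤ V₁
    · -- `V` has index `p` in `U`
      have hcard : Nat.card U ≤ Nat.card V * p := by
        have h1 := CfsgLib.EABasic.card_sup_mul_card_inf_of_le_normalizer ((hcomm hVU hzaU).trans (Subgroup.centralizer_le_normalizer _))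
        rw [Nat.card_zpowers, hao, ← hV₁, le_antisymm hV₁U hV₁eq] at h1
        exact h1 ▸ Nat.le_mul_of_pos_right _ Nat.card_pos
      have hco : IsCoatom (V.subgroupOf U) := by
        refine ⟨fun e => hVeq (Subgroup.subgroupOf_eq_top.1 e), fun Y hY => ?_⟩
        refine Subgroup.eq_top_of_le_card Y ?_
        obtain ⟨i, hi⟩ := ((hUp.to_subgroup Y)).exists_card_eq
        obtain ⟨j, hj⟩ := ((hUp.to_subgroup (V.subgroupOf U))).exists_card_eq
        have hlt : p ^ j < p ^ i := by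
          rw [← hi, ← hj]
          exact lt_of_not_ge fun hge => hY.ne (Subgroup.eq_of_le_of_card_ge hY.le hge)
        rw [← Nat.card_congr (Subgroup.subgroupOfEquivOfLe hVU).toEquiv, hj, ← pow_succ] at hcard
        rw [hi]
        exact hcard.trans (Nat.pow_le_pow_right hpp.pos ((Nat.pow_lt_pow_iff_right hpp.one_lt).1 hlt))
      obtain ⟨x, hx, hx1, hg⟩ := hall V hVU hco
      exact hle V x hx hx1 hg
    obtain ⟨b, hbU, hbV⟩ := SetLike.not_le_iff_exists.1 hV₁eq
    have hb1 : b ≠ 1 := fun e => hbV (e ▸ V₁.one_mem)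
    have hzbU : Subgroup.zpowers b ≤ U := Subgroup.zpowers_le.2 hbU
    -- the noncyclic group `⟨a, b⟩` acts on `C_R(V)`
    set W := Subgroup.zpowers a ⊔ Subgroup.zpowers b with hW
    have hWU : W ≤ U := sup_le hzaU hzbU
    haveI hWc : IsMulCommutative W := Subgroup.le_centralizer_iff_isMulCommutative.1 (hcomm hWU hWU)
    have hWncyc : ¬ IsCyclic W := fun hc => by
      obtain ⟨w, hw⟩ := IsCyclic.exists_ofOrder_eq_natCard (α := W)
      have hle' : Nat.card W ≤ p := hw ▸ Nat.le_of_dvd hpp.pos (orderOf_dvd_of_pow_eq_one (Subtype.ext (hU.2 w (hWU w.2))))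
      have hWa : Subgroup.zpowers a = W := Subgroup.eq_of_le_of_card_ge le_sup_left (by rwa [Nat.card_zpowers, hao])
      exact hbV (Subgroup.mem_sup_right (hWa.ge (Subgroup.mem_sup_right (Subgroup.mem_zpowers b))))
    rw [eq_bot_iff]
    have hUn : W ≤ Subgroup.normalizer (R : Set G) := (hWU.trans hUG).trans hGR
    refine CfsgLib.Coprime.le_of_centralizers_le hWncyc (CfsgLib.Coprime.inf_le_normalizer hUn ?_) ?_ fun w hw hw1 => ?_
    · exact (hcomm hWU hVU).trans Subgroup.le_normalizer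
    · obtain ⟨k, hk⟩ := (hUp.to_le hWU).exists_card_eq
      rw [hk]
      exact ((hR.coprime_dvd_left (Subgroup.card_dvd_of_le inf_le_left)).symm.pow_left k)
    have hwV : w ∉ V := by
      intro hwV
      obtain ⟨u, hu, v, hv, huv⟩ := (Subgroup.coe_mul_of_left_le_normalizer_right (Subgroup.zpowers a) (Subgroup.zpowers b)
        ((hcomm hzaU hzbU).trans (Subgroup.centralizer_le_normalizer _))).le hw
      have huv' : u * v = w := huv
      have hvV : v ∈ V₁ := by
        rw [show v = u⁻¹ * w by rw [← huv']; group]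
        exact V₁.mul_mem (V₁.inv_mem (Subgroup.mem_sup_right hu)) (Subgroup.mem_sup_left hwV)
      by_cases hv1 : v = 1
      · rw [hv1, mul_one] at huv'
        subst huv'
        have he : Subgroup.zpowers u = Subgroup.zpowers a := Subgroup.eq_of_le_of_card_ge (Subgroup.zpowers_le.2 hu)
          (by rw [Nat.card_zpowers, Nat.card_zpowers, orderOf_eq_prime (hU.2 _ (hWU hw)) hw1, hao])
        exact haV (Subgroup.zpowers_le.2 hwV (he.ge (Subgroup.mem_zpowers a)))
      · have he : Subgroup.zpowers v = Subgroup.zpowers b := Subgroup.eq_of_le_of_card_ge (Subgroup.zpowers_le.2 hv)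
          (by rw [Nat.card_zpowers, Nat.card_zpowers, orderOf_eq_prime (hU.2 v (hzbU hv)) hv1, orderOf_eq_prime (hU.2 b hbU) hb1])
        exact hbV (Subgroup.zpowers_le.2 hvV (he.ge (Subgroup.mem_zpowers b)))
    set V' := V ⊔ Subgroup.zpowers w
    have hlt : Nat.card V < Nat.card V' := lt_of_not_ge fun hge => hwV ((Subgroup.eq_of_le_of_card_ge le_sup_left hge).ge (Subgroup.mem_sup_right (Subgroup.mem_zpowers w)))
    have hV'U : V' ≤ U := sup_le hVU (Subgroup.zpowers_le.2 (hWU hw))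
    have := ih _ (by have := Subgroup.card_le_of_le hV'U; omega) V' hV'U rfl
    refine le_trans (b := R ⊓ Subgroup.centralizer (V' : Set G)) (fun r hr => ⟨hr.1.1, ?_⟩) this.le
    refine (Subgroup.le_centralizer_iff.1 (sup_le ?_ ?_ : V' ≤ Subgroup.centralizer ((Subgroup.zpowers r : Subgroup G) : Set G))) (Subgroup.mem_zpowers r)
    · rw [Subgroup.le_centralizer_iff, Subgroup.zpowers_le]; exact hr.1.2
    · rw [Subgroup.le_centralizer_iff, Subgroup.zpowers_le, Subgroup.zpowers_eq_closure, Subgroup.centralizer_closure]; exact hr.2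

end Cfsg.Agent.S3003
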