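import Cfsg.Statements.S3006
import Cfsg.Agent.Lib.PGroup.Measure

set_option autoImplicit false
open scoped Pointwise
open Cfsg
open scoped Pointwise commutatorElement

namespace Cfsg.Agent.S3006

/-- Let P be a finite p-group, Q a centrally large subgroup of P (|Q|·|Z(Q)| maximal among subgroups of P) and A an abelian subgroup of P of largest order. Then QA = AQ is a centrally large subgroup of P, C_{QA}(Q ∩ A) = Z(Q)·A, and the subgroup generated by all centrally large subgroups of P contains C_P(Z(J(P))), where J(P) is generated by the abelian subgroups of largest order. -/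
theorem result {p : ℕ} [Fact p.Prime] (P : Type*) [Group P] [Finite P] (hP : IsPGroup p P) (Q A : Subgroup P) (hQ : Cfsg.IsCentrallyLarge Q) (hA : A ∈ Cfsg.maxAbelianSubgroups P) : ((Q ⊔ A : Subgroup P) : Set P) = (Q : Set P) * (A : Set P) ∧ Cfsg.IsCentrallyLarge (Q ⊔ A) ∧ (Q ⊔ A) ⊓ Subgroup.centralizer ((Q ⊓ A : Subgroup P) : Set P) = (Q ⊓ Subgroup.centralizer (Q : Set P)) ⊔ A ∧ (((Q ⊓ Subgroup.centralizer (Q : Set P)) ⊔ A : Subgroup P) : Set P) = ((Q ⊓ Subgroup.centralizer (Q : Set P)) : Set P) * (A : Set P) ∧ Subgroup.centralizer ((Cfsg.thompsonSubgroupA P ⊓ Subgroup.centralizer (Cfsg.thompsonSubgroupA P : Set P) : Subgroup P) : Set P) ≤ Cfsg.centrallyLargeJoin P := by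
  obtain ⟨h1, h2, hB⟩ := CfsgLib.CDLat.cl_sup_maxAbelian hQ hA
  obtain ⟨hQl, hQc⟩ := CfsgLib.CDLat.cl_iff.1 hQ
  have hCA := CfsgLib.CDLat.centralizer_eq_of_maxAbelian hA
  have hCB := CfsgLib.CDLat.centralizer_eq_of_maxAbelian hB
  set Z := Q ⊓ Subgroup.centralizer (Q : Set P) with hZ
  have hZC : Z ≤ Subgroup.centralizer ((Q ⊓ A : Subgroup P) : Set P) :=
    inf_le_right.trans (Subgroup.centralizer_le (inf_le_left : Q ⊓ A ≤ Q))
  have hAC : A ≤ Subgroup.centralizer ((Q ⊓ A : Subgroup P) : Set P) :=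
    hCA.ge.trans (Subgroup.centralizer_le (inf_le_right : Q ⊓ A ≤ A))
  have h3 : (Q ⊔ A) ⊓ Subgroup.centralizer ((Q ⊓ A : Subgroup P) : Set P) = Z ⊔ A := by
    refine le_antisymm ?_ (le_inf (sup_le_sup_right inf_le_left _) (sup_le hZC hAC))
    intro x hx
    obtain ⟨q, hq, a, ha, rfl⟩ := (h1 ▸ hx.1 : x ∈ (Q : Set P) * (A : Set P))
    have hqC : q ∈ Subgroup.centralizer ((Q ⊓ A : Subgroup P) : Set P) := by
      simpa using Subgroup.mul_mem _ hx.2 (Subgroup.inv_mem _ (hAC ha))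
    have hqB : q ∈ Z ⊔ Q ⊓ A := by
      rw [← hCB, CfsgLib.CDLat.centralizer_sup]
      exact ⟨Subgroup.centralizer_le (inf_le_right : Z ≤ _) (CfsgLib.CDLat.le_centralizer_centralizer Q hq), hqC⟩
    exact mul_mem ((sup_le_sup_left (inf_le_right : Q ⊓ A ≤ A) Z) hqB) (Subgroup.mem_sup_right ha)
  refine ⟨h1, h2, h3, ?_, ?_⟩
  · refine Set.Subset.antisymm (fun x hx => ?_) (fun x hx => CfsgLib.CDLat.prod_subset_sup Z A hx)
    rw [← h3] at hx
    obtain ⟨q, hq, a, ha, rfl⟩ := (h1 ▸ hx.1 : x ∈ (Q : Set P) * (A : Set P))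
    have hqC : q ∈ Subgroup.centralizer ((Q ⊓ A : Subgroup P) : Set P) := by
      simpa using Subgroup.mul_mem _ hx.2 (Subgroup.inv_mem _ (hAC ha))
    have hqB : q ∈ Z ⊔ Q ⊓ A := by
      rw [← hCB, CfsgLib.CDLat.centralizer_sup]
      exact ⟨Subgroup.centralizer_le (inf_le_right : Z ≤ _) (CfsgLib.CDLat.le_centralizer_centralizer Q hq), hqC⟩
    obtain ⟨z, hz, c, hc, rfl⟩ := (Subgroup.coe_mul_of_left_le_normalizer_right Z (Q ⊓ A)
      (hZC.trans (Subgroup.centralizer_le_normalizer _))).le hqB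
    exact ⟨z, hz, c * a, mul_mem hc.2 ha, (mul_assoc z c a).symm⟩
  · set M := Cfsg.centrallyLargeJoin P
    have hM : Cfsg.IsCentrallyLarge M := CfsgLib.CDLat.cl_sSup CfsgLib.CDLat.exists_cl fun R hR => hR
    have hJM : Cfsg.thompsonSubgroupA P ≤ M := sSup_le fun A' hA' =>
      le_trans (le_sup_right : A' ≤ M ⊔ A') (le_sSup (CfsgLib.CDLat.cl_sup_maxAbelian hM hA').2.1)
    have hCJ : Subgroup.centralizer (Cfsg.thompsonSubgroupA P : Set P) ≤ Cfsg.thompsonSubgroupA P :=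
      (Subgroup.centralizer_le (le_sSup hA : A ≤ Cfsg.thompsonSubgroupA P)).trans (hCA.le.trans (le_sSup hA))
    rw [inf_eq_right.2 hCJ]
    refine le_trans (Subgroup.centralizer_le ?_) (CfsgLib.CDLat.centralizer_large (CfsgLib.CDLat.cl_iff.1 hM).1).2.ge
    exact Subgroup.centralizer_le hJM

end Cfsg.Agent.S3006
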