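import Cfsg.Statements.S3009
import Cfsg.Agent.Lib.SLTwoFpf.Quadratic
import Cfsg.Agent.Lib.ModBound.SLTwo
-- import your own Cfsg.Agent.* helpers here

set_option autoImplicit false
open Cfsg

namespace Cfsg.Agent.S3009

/-- Let p be a prime and let G and V be subgroups of a finite group with V elementary abelian and normalized by G, and G isomorphic to SL₂(F) for a finite field F with pⁿ elements. Suppose G acts irreducibly and nontrivially on V by conjugation (no G-invariant subgroups of V other than 1 and V, and [V, G] ≠ 1), and let S be a Sylow p-subgroup of G and V₀ = C_V(S). If [V, S, S] = 1 or |V| ≤ |V₀|², then G acts on V as SL₂(F) on its natural two-dimensional module; in particular |V| = |F|². -/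
theorem result {X : Type*} [Group X] [Finite X] {p : ℕ} [Fact p.Prime] (G V : Subgroup X) (hV : Cfsg.IsElementaryAbelian p V) (hGV : G ≤ Subgroup.normalizer (V : Set X)) (F : Type) [Field F] [Fintype F] (n : ℕ) (hF : Fintype.card F = p ^ n) (hG : Nonempty (↥G ≃* Matrix.SpecialLinearGroup (Fin 2) F)) (hirr : ∀ U : Subgroup X, U ≤ V → G ≤ Subgroup.normalizer (U : Set X) → U = ⊥ ∨ U = V) (hnt : ⁅V, G⁆ ≠ ⊥) (S : Sylow p ↥G) (hyp : ⁅⁅V, (S : Subgroup ↥G).map G.subtype⁆, (S : Subgroup ↥G).map G.subtype⁆ = ⊥ ∨ Nat.card ↥V ≤ Nat.card ↥(V ⊓ Subgroup.centralizer (((S : Subgroup ↥G).map G.subtype : Subgroup X) : Set X)) ^ 2) : Cfsg.ActsAsSL2OnSection F ⊤ G V ⊥ := by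
  classical
  haveI : CharP F p := charP_of_card_eq_prime_pow (f := n) hF
  obtain ⟨e0⟩ := hG
  -- the upper unipotent group is a Sylow subgroup
  obtain ⟨uh, huh⟩ : ∃ uh : Multiplicative F →* Matrix.SpecialLinearGroup (Fin 2) F,
      ∀ a, uh a = CfsgLib.Qd.up (Multiplicative.toAdd a) :=
    ⟨MonoidHom.mk' (fun a => CfsgLib.Qd.up (Multiplicative.toAdd a))
      fun a b => (CfsgLib.Qd.up_mul _ _).symm, fun a => rfl⟩
  have hupinj : Function.Injective uh := fun a b h => by
    rw [huh, huh] at h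
    exact Multiplicative.toAdd.injective (CfsgLib.Qd.up_injective h)
  have hn : n ≠ 0 := fun h0 => by
    have := Fintype.one_lt_card (α := F)
    rw [hF, h0, pow_zero] at this
    exact lt_irrefl _ this
  have hcard : Nat.card uh.range = p ^ (Nat.card (Matrix.SpecialLinearGroup (Fin 2) F)).factorization p := by
    rw [← Nat.card_congr (MonoidHom.ofInjective hupinj).toEquiv, CfsgLib.ModBound.card_SL _ rfl,
      Nat.card_congr Multiplicative.toAdd, Nat.card_eq_fintype_card, hF]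
    have hnd : ¬ p ∣ (p ^ n) ^ 2 - 1 := fun h => by
      have h2 : p ∣ (p ^ n) ^ 2 := dvd_pow (dvd_pow_self p hn) two_ne_zero
      have h3 := Nat.dvd_sub h2 h
      rw [Nat.sub_sub_self (Nat.one_le_pow _ _ (Nat.pow_pos (Fact.out : p.Prime).pos))] at h3
      exact (Fact.out : p.Prime).ne_one (Nat.dvd_one.1 h3)
    have h0 : (p ^ n) ^ 2 - 1 ≠ 0 := fun h => hnd (by rw [h]; exact dvd_zero p)
    rw [Nat.factorization_mul h0 (pow_ne_zero n (Fact.out : p.Prime).ne_zero), Finsupp.add_apply,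
      Nat.factorization_eq_zero_of_not_dvd hnd, zero_add, Nat.factorization_pow, Finsupp.smul_apply,
      (Fact.out : p.Prime).factorization_self, smul_eq_mul, mul_one]
  obtain ⟨P, hP⟩ : ∃ P : Sylow p (Matrix.SpecialLinearGroup (Fin 2) F),
      (P : Subgroup (Matrix.SpecialLinearGroup (Fin 2) F)) = uh.range := ⟨Sylow.ofCard _ hcard, rfl⟩
  obtain ⟨c, hc⟩ := MulAction.exists_smul_eq (Matrix.SpecialLinearGroup (Fin 2) F)
    (S.mapSurjective (f := e0.toMonoidHom) e0.surjective) P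
  obtain ⟨e, he⟩ : ∃ e : ↥G ≃* Matrix.SpecialLinearGroup (Fin 2) F, e = e0.trans (MulAut.conj c) := ⟨_, rfl⟩
  have hSmem : ∀ g : ↥G, g ∈ (S : Subgroup ↥G) ↔ ∃ a : F, e g = CfsgLib.Qd.up a := by
    intro g
    have h1 : e g ∈ (P : Subgroup _) ↔ g ∈ (S : Subgroup ↥G) := by
      rw [← hc, Sylow.coe_subgroup_smul, Subgroup.mem_pointwise_smul_iff_inv_smul_mem]
      have : (MulAut.conj c)⁻¹ • e g = e0 g := by
        rw [he]; simp [MulAut.smul_def, mul_assoc]
      rw [this]
      show e0 g ∈ (S : Subgroup ↥G).map e0.toMonoidHom ↔ _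
      exact ⟨fun ⟨y, hy, hye⟩ => e0.injective hye ▸ hy, fun hy => ⟨g, hy, rfl⟩⟩
    rw [← h1, hP]
    exact ⟨fun ⟨a, ha⟩ => ⟨Multiplicative.toAdd a, by rw [← ha, huh]⟩,
      fun ⟨a, ha⟩ => ⟨Multiplicative.ofAdd a, by rw [huh]; exact ha.symm⟩⟩
  letI : CommGroup ↥V :=
    { (inferInstance : Group ↥V) with mul_comm := fun a b => hV.1.is_comm.comm a b }
  obtain ⟨cc, hcc⟩ : ∃ cc : ↥G →* AddMonoid.End (Additive ↥V),
      ∀ g a, ((Additive.toMul (cc g a) : ↥V) : X) = (g : X) * ((Additive.toMul a : ↥V) : X) * (g : X)⁻¹ :=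
    ⟨{ toFun := fun g => (MonoidHom.toAdditive ((MonoidHom.mk'
          (fun a : ↥V => (⟨(g : X) * a * (g : X)⁻¹, (Subgroup.mem_normalizer_iff.1 (hGV g.2) _).1 a.2⟩ : ↥V))
          (fun a b => Subtype.ext (by simp [mul_assoc])))) : AddMonoid.End (Additive ↥V))
       map_one' := AddMonoidHom.ext fun a : Additive ↥V => congrArg Additive.ofMul (Subtype.ext (by
         show (1 : X) * ((Additive.toMul a : ↥V) : X) * (1 : X)⁻¹ = ((Additive.toMul a : ↥V) : X)
         simp))
       map_mul' := fun g h => AddMonoidHom.ext fun a : Additive ↥V => congrArg Additive.ofMul (Subtype.ext (by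
         show ((g : X) * h) * ((Additive.toMul a : ↥V) : X) * ((g : X) * h)⁻¹ =
           (g : X) * ((h : X) * ((Additive.toMul a : ↥V) : X) * (h : X)⁻¹) * (g : X)⁻¹
         group)) }, fun g a => rfl⟩
  obtain ⟨ρ, hρ⟩ : ∃ ρ : Matrix.SpecialLinearGroup (Fin 2) F →* AddMonoid.End (Additive ↥V),
      ∀ g, ρ (e g) = cc g := ⟨cc.comp e.symm.toMonoidHom, fun g => by simp⟩
  have hsurj : ∀ l, ∃ g, e g = l := e.surjective
  have hext : ∀ {a b : Additive ↥V}, ((Additive.toMul a : ↥V) : X) = ((Additive.toMul b : ↥V) : X) → a = b :=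
    fun h => Additive.toMul.injective (Subtype.ext h)
  have hirr' : CfsgLib.SLTwoQuad.Irred ρ := by
    intro Y hY
    obtain ⟨U, hU⟩ : ∃ U : Subgroup X, U = (AddSubgroup.toSubgroup' Y).map V.subtype := ⟨_, rfl⟩
    have hUV : U ≤ V := hU ▸ Subgroup.map_subtype_le _
    have hmem : ∀ z : X, z ∈ U ↔ ∃ y ∈ Y, ((Additive.toMul y : ↥V) : X) = z := fun z => by
      rw [hU]
      exact ⟨fun ⟨w, hw, hwz⟩ => ⟨Additive.ofMul w, hw, hwz⟩, fun ⟨y, hy, hyz⟩ => ⟨Additive.toMul y, hy, hyz⟩⟩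
    have hGU : G ≤ Subgroup.normalizer (U : Set X) := by
      intro g hg
      refine Subgroup.mem_normalizer_iff.2 fun z => ⟨fun hz => ?_, fun hz => ?_⟩
      · obtain ⟨y, hy, rfl⟩ := (hmem z).1 hz
        exact (hmem _).2 ⟨ρ (e ⟨g, hg⟩) y, hY _ y hy, by rw [hρ, hcc]⟩
      · obtain ⟨y, hy, hyz⟩ := (hmem _).1 hz
        refine (hmem _).2 ⟨ρ (e ⟨g⁻¹, inv_mem hg⟩) y, hY _ y hy, ?_⟩
        rw [hρ, hcc, hyz]
        simp [mul_assoc]
    rcases hirr U hUV hGU with h | h
    · refine Or.inl ((AddSubgroup.eq_bot_iff_forall Y).2 fun y hy => hext ?_)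
      have := (hmem _).2 ⟨y, hy, rfl⟩
      rw [h, Subgroup.mem_bot] at this
      exact this
    · refine Or.inr (eq_top_iff.2 fun y _ => ?_)
      have hy0 : ((Additive.toMul y : ↥V) : X) ∈ U := by rw [h]; exact (Additive.toMul y).2
      obtain ⟨y', hy', hyy⟩ := (hmem _).1 hy0
      rw [hext hyy] at hy'
      exact hy'
  have hnt' : CfsgLib.SLTwoQuad.Nontriv ρ := by
    by_contra hno
    refine hnt (Subgroup.commutator_eq_bot_iff_le_centralizer.2 fun v hv => Subgroup.mem_centralizer_iff.2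
      fun g hg => ?_)
    by_contra hne
    refine hno ⟨e ⟨g, hg⟩, Additive.ofMul ⟨v, hv⟩, fun h => hne ?_⟩
    have h' := congrArg (fun z : Additive ↥V => ((Additive.toMul z : ↥V) : X)) h
    rw [hρ] at h'
    simp only [hcc, toMul_ofMul] at h'
    exact mul_inv_eq_iff_eq_mul.1 h'
  have hp : ∀ v : Additive ↥V, p • v = 0 := fun v =>
    hext (by rw [toMul_nsmul, SubgroupClass.coe_pow, hV.2 _ (Additive.toMul v).2]; rfl)
  have hfix : ∀ v : Additive ↥V, v ∈ CfsgLib.SLTwoQuad.fixU ρ ↔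
      ((Additive.toMul v : ↥V) : X) ∈ Subgroup.centralizer
        (((S : Subgroup ↥G).map G.subtype : Subgroup X) : Set X) := by
    intro v
    rw [Subgroup.mem_centralizer_iff]
    constructor
    · rintro h _ ⟨g, hg, rfl⟩
      obtain ⟨a, ha⟩ := (hSmem g).1 hg
      have h' := congrArg (fun z : Additive ↥V => ((Additive.toMul z : ↥V) : X)) (h a)
      rw [← ha, hρ] at h'
      simp only [hcc] at h'
      exact mul_inv_eq_iff_eq_mul.1 h'
    · intro h a
      obtain ⟨g, hg⟩ := hsurj (CfsgLib.Qd.up a)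
      have h1 := h _ ⟨g, (hSmem g).2 ⟨a, hg⟩, rfl⟩
      refine hext ?_
      rw [← hg, hρ, hcc]
      exact mul_inv_eq_iff_eq_mul.2 h1
  have hquad : CfsgLib.SLTwoQuad.Quad ρ := by
    rcases hyp with h | h
    · intro a v
      rw [hfix]
      obtain ⟨g, hg⟩ := hsurj (CfsgLib.Qd.up a)
      have hgS : (g : X) ∈ (S : Subgroup ↥G).map G.subtype :=
        Subgroup.mem_map_of_mem G.subtype ((hSmem g).2 ⟨a, hg⟩)
      have h1 := Subgroup.commutator_mem_commutator (H₁ := V) (Additive.toMul v).2 hgS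
      have h2 := Subgroup.commutator_eq_bot_iff_le_centralizer.1 h h1
      rw [commutatorElement_def] at h2
      rw [toMul_sub, ← hg, hρ, div_eq_mul_inv, Subgroup.coe_mul, hcc, InvMemClass.coe_inv]
      have h3 := inv_mem h2
      simpa [mul_assoc] using h3
    · refine CfsgLib.SLTwoQuad.quad_of_small ρ hirr' hnt' (p := p) hp ?_
      rw [Nat.card_congr Additive.toMul]
      refine h.trans (Nat.pow_le_pow_left (le_of_eq (Nat.card_congr ?_)) 2)
      exact
        { toFun := fun z => ⟨Additive.ofMul ⟨(z : X), z.2.1⟩, (hfix _).2 z.2.2⟩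
          invFun := fun v => ⟨((Additive.toMul (v : Additive ↥V) : ↥V) : X),
            (Additive.toMul (v : Additive ↥V)).2, (hfix _).1 v.2⟩
          left_inv := fun z => rfl
          right_inv := fun v => rfl }
  obtain ⟨e₁, he₁, he₁0⟩ : ∃ v ∈ CfsgLib.SLTwoQuad.fixU ρ, v ≠ 0 := by
    obtain ⟨g, v, hgv⟩ := id hnt'
    by_contra hno
    push Not at hno
    have h0 : ∀ (a : F) (w : Additive ↥V), ρ (CfsgLib.Qd.up a) w = w := fun a w =>
      sub_eq_zero.1 (hno _ (hquad a w))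
    have hv0 : v = 0 := hno v fun a => h0 a v
    exact hgv (by rw [hv0, map_zero])
  obtain ⟨Φ, hΦ⟩ := CfsgLib.SLTwoQuad.natural ρ hirr' hnt' hquad he₁ he₁0
  obtain ⟨ψ, hψ⟩ : ∃ ψ : ↥V →* Multiplicative (Fin 2 → F),
      ∀ u, ψ u = Multiplicative.ofAdd (Φ.symm (Additive.ofMul u)) :=
    ⟨MonoidHom.mk' (fun u => Multiplicative.ofAdd (Φ.symm (Additive.ofMul u)))
      fun a b => by rw [ofMul_mul, map_add, ofAdd_add], fun u => rfl⟩
  refine ⟨hGV, bot_le, e.toMonoidHom, ψ, MonoidHom.range_eq_top.2 e.surjective, fun f => ?_, fun u => ?_,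
    fun g u => ?_⟩
  · refine ⟨Additive.toMul (Φ (Multiplicative.toAdd f)), ?_⟩
    rw [hψ]; simp
  · rw [hψ, Subgroup.mem_bot]
    constructor
    · intro h
      have h1 : Additive.ofMul u = 0 := Φ.symm.injective ((congrArg Multiplicative.toAdd h).trans (map_zero _).symm)
      exact congrArg Subtype.val (congrArg Additive.toMul h1)
    · intro h
      rw [show u = 1 from Subtype.ext h, ofMul_one, map_zero, ofAdd_zero]
  · refine ⟨Additive.toMul (cc g (Additive.ofMul u)), ?_, ?_⟩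
    · rw [hcc]; rfl
    · rw [hψ, hψ, ofMul_toMul, toAdd_ofAdd, toAdd_ofAdd, ← hρ]
      refine Φ.injective ?_
      rw [AddEquiv.apply_symm_apply]
      show _ = Φ ((e g).1.mulVec _)
      rw [← hΦ, AddEquiv.apply_symm_apply]

end Cfsg.Agent.S3009
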