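import Cfsg.Statements.S3011
import Cfsg.Agent.Lib.Invol.InvertedOdd
-- import your own Cfsg.Agent.* helpers here

set_option autoImplicit false
open Cfsg

namespace Cfsg.Agent.S3011

theorem odd_sq_gen {G : Type*} [Group G] {x : G} (hx : Odd (orderOf x)) {y : G} {k : ℕ} (hk : k = 2 ∨ k = 4)
    (h : Commute (x ^ k) y) : Commute x y := by
  have hc : (orderOf x).Coprime k := by
    rcases hk with rfl | rfl
    · exact Nat.coprime_two_right.2 hx
    · exact (Nat.coprime_two_right.2 hx).pow_right 2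
  obtain ⟨j, hj⟩ := Subgroup.mem_zpowers_iff.1 (mem_zpowers_pow_iff.2 hc.symm : x ∈ Subgroup.zpowers (x ^ k))
  rw [← hj]
  exact h.zpow_left j

theorem key {G : Type*} [Group G] [Finite G] (V : Subgroup G) (hS : Cfsg.IsSidkiPair V) {a w x y : G}
    (ha : a ∈ V) (hw : w ∈ V) (hV : ∀ u ∈ V, u ≠ 1 → u = a ∨ u = w ∨ u = a * w)
    (hxo : Odd (orderOf x)) (hyo : Odd (orderOf y))
    (hax : a * x * a⁻¹ = x⁻¹) (hwx : w * x * w⁻¹ = x) (hay : a * y * a⁻¹ = y) (hwy : w * y * w⁻¹ = y⁻¹)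
    (hx1 : x ≠ 1) (hy1 : y ≠ 1) : False := by
  have hno : ∀ {z : G}, Odd (orderOf z) → z⁻¹ = z → z = 1 := fun {z} hz e =>
    CfsgLib.Invol.eq_one_of_odd_of_mul_self hz (by nth_rw 1 [← e]; exact inv_mul_cancel z)
  have hcx : a * w * x * (a * w)⁻¹ = x⁻¹ := by
    rw [show a * w * x * (a * w)⁻¹ = a * (w * x * w⁻¹) * a⁻¹ by group, hwx, hax]
  have hcy : a * w * y * (a * w)⁻¹ = y⁻¹ := by
    rw [show a * w * y * (a * w)⁻¹ = a * (w * y * w⁻¹) * a⁻¹ by group, hwy,
      show a * y⁻¹ * a⁻¹ = (a * y * a⁻¹)⁻¹ by group, hay]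
  have fixd : ∀ {u z : G}, u * z = z * u → u * z * u⁻¹ = z := fun {u z} e => by rw [e, mul_inv_cancel_right]
  have hcomm : Commute x y := by
    obtain ⟨h', hh'⟩ : ∃ h', h' = x⁻¹ * y * x⁻¹⁻¹ := ⟨_, rfl⟩
    have ho : Odd (orderOf h') := by
      rw [hh', ← MulAut.conj_apply, MulEquiv.orderOf_eq]
      exact hyo
    have hinv : w * h' * w⁻¹ = h'⁻¹ := by
      rw [hh', show w * (x⁻¹ * y * x⁻¹⁻¹) * w⁻¹ = (w * x * w⁻¹)⁻¹ * (w * y * w⁻¹) * (w * x * w⁻¹) by group,
        hwx, hwy]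
      group
    obtain ⟨u, hu, hu1, hcu⟩ := hS h' w hw ho hinv
    rcases hV u hu hu1 with rfl | rfl | rfl
    · have h1 := fixd hcu
      rw [hh', show u * (x⁻¹ * y * x⁻¹⁻¹) * u⁻¹ = (u * x * u⁻¹)⁻¹ * (u * y * u⁻¹) * (u * x * u⁻¹) by group,
        hax, hay, inv_inv] at h1
      refine odd_sq_gen hxo (Or.inl rfl) ?_
      show x ^ 2 * y = y * x ^ 2
      rw [pow_two]
      calc x * x * y = x * (x * y * x⁻¹) * x := by group
        _ = x * (x⁻¹ * y * x) * x := by rw [h1]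
        _ = y * (x * x) := by group
    · rw [fixd hcu] at hinv
      have : h' = 1 := hno ho hinv.symm
      rw [hh', conj_eq_one_iff] at this
      exact absurd this hy1
    · have h1 := fixd hcu
      rw [hh', show a * w * (x⁻¹ * y * x⁻¹⁻¹) * (a * w)⁻¹ =
        (a * w * x * (a * w)⁻¹)⁻¹ * (a * w * y * (a * w)⁻¹) * (a * w * x * (a * w)⁻¹) by group,
        hcx, hcy, inv_inv] at h1
      have h2 : x ^ 2 * y⁻¹ * (x ^ 2)⁻¹ = y := by
        rw [pow_two]
        calc x * x * y⁻¹ * (x * x)⁻¹ = x * (x * y⁻¹ * x⁻¹) * x⁻¹ := by group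
          _ = x * (x⁻¹ * y * x) * x⁻¹ := by rw [h1]
          _ = y := by group
      have h3 : x ^ 4 * y * (x ^ 4)⁻¹ = y := by
        calc x ^ 4 * y * (x ^ 4)⁻¹ = x ^ 2 * (x ^ 2 * y⁻¹ * (x ^ 2)⁻¹)⁻¹ * (x ^ 2)⁻¹ := by group
          _ = y := by rw [h2]; exact h2
      have h4 : Commute x y := odd_sq_gen hxo (Or.inr rfl) (mul_inv_eq_iff_eq_mul.1 h3)
      rw [(h4.symm.inv_left.pow_right 2).symm.eq, mul_inv_cancel_right] at h2
      exact absurd (hno hyo h2) hy1
  have ho : Odd (orderOf (x * y)) := Odd.of_dvd_nat (hxo.mul hyo) (hcomm.orderOf_mul_dvd_mul_orderOf)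
  have hinv : a * w * (x * y) * (a * w)⁻¹ = (x * y)⁻¹ := by
    rw [show a * w * (x * y) * (a * w)⁻¹ = (a * w * x * (a * w)⁻¹) * (a * w * y * (a * w)⁻¹) by group,
      hcx, hcy, hcomm.eq, _root_.mul_inv_rev]
  obtain ⟨u, hu, hu1, hcu⟩ := hS (x * y) (a * w) (mul_mem ha hw) ho hinv
  have h1 := fixd hcu
  rcases hV u hu hu1 with rfl | rfl | rfl
  · rw [show u * (x * y) * u⁻¹ = (u * x * u⁻¹) * (u * y * u⁻¹) by group, hax, hay, mul_left_inj] at h1
    exact hx1 (hno hxo h1)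
  · rw [show u * (x * y) * u⁻¹ = (u * x * u⁻¹) * (u * y * u⁻¹) by group, hwx, hwy, mul_right_inj] at h1
    exact hy1 (hno hyo h1)
  · rw [hinv] at h1
    have h2 : y = x⁻¹ := eq_inv_of_mul_eq_one_right (hno ho h1)
    rw [h2, show a * x⁻¹ * a⁻¹ = (a * x * a⁻¹)⁻¹ by group, hax, inv_inv] at hay
    exact hx1 (hno hxo hay.symm)

/-- Let G be a finite group and V a nontrivial elementary abelian 2-subgroup of G of order at most 4 such that, whenever an element of V inverts an element h of G of odd order, some nontrivial element of V commutes with h. Then V meets O₂(G) nontrivially. (The case of order at most 4 has a short argument from the Baer–Suzuki theorem.) -/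
theorem result {G : Type*} [Group G] [Finite G] (V : Subgroup G) (hV : Cfsg.IsElementaryAbelian 2 V) (hV1 : V ≠ ⊥) (hS : Cfsg.IsSidkiPair V) (h4 : Nat.card V ≤ 4) : V ⊓ Cfsg.pCore 2 G ≠ ⊥ := by
  classical
  intro hbot
  have ho2 : ∀ v ∈ V, v ≠ 1 → orderOf v = 2 := fun v hv hv1 => by
    haveI : Fact (Nat.Prime 2) := ⟨Nat.prime_two⟩
    exact orderOf_eq_prime (hV.2 v hv) hv1
  have hinv : ∀ v ∈ V, v ≠ 1 → ∃ x : G, x ≠ 1 ∧ Odd (orderOf x) ∧ v * x * v⁻¹ = x⁻¹ := fun v hv hv1 =>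
    CfsgLib.Invol.exists_odd_inverted_of_notMem_pCore (ho2 v hv hv1) fun h => hv1 (by
      have : v ∈ V ⊓ Cfsg.pCore 2 G := ⟨hv, h⟩
      rw [hbot] at this
      simpa using this)
  have hne : ∀ {x u v : G}, Odd (orderOf x) → x ≠ 1 → v * x * v⁻¹ = x⁻¹ → u * x = x * u → u ≠ v := by
    intro x u v hx hx1 hv hu e
    subst e
    rw [hu, mul_inv_cancel_right] at hv
    exact hx1 (CfsgLib.Invol.eq_one_of_odd_of_mul_self hx (by nth_rw 1 [hv]; exact inv_mul_cancel x))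
  obtain ⟨a, ha, ha1⟩ := (Subgroup.bot_or_exists_ne_one V).resolve_left hV1
  obtain ⟨x, hx1, hxo, hax⟩ := hinv a ha ha1
  obtain ⟨w, hw, hw1, hwx⟩ := hS x a ha hxo hax
  have hwa : w ≠ a := hne hxo hx1 hax hwx
  have haw : ∀ v ∈ V, v * v = 1 := fun v hv => by rw [← pow_two]; exact hV.2 v hv
  have hc1 : a * w ≠ 1 := fun e => hwa (by
    rw [← inv_eq_of_mul_eq_one_right e, inv_eq_of_mul_eq_one_right (haw a ha)])
  have hVset : ∀ u ∈ V, u ≠ 1 → u = a ∨ u = w ∨ u = a * w := by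
    intro u hu hu1
    have hsub : ({1, a, w, a * w} : Finset G) ⊆ (Set.toFinite (V : Set G)).toFinset := by
      intro z hz
      rw [Set.Finite.mem_toFinset, SetLike.mem_coe]
      simp only [Finset.mem_insert, Finset.mem_singleton] at hz
      rcases hz with rfl | rfl | rfl | rfl
      exacts [one_mem V, ha, hw, mul_mem ha hw]
    have hcard : ({1, a, w, a * w} : Finset G).card = 4 := by
      have h1 : a ≠ a * w := fun e => hw1 (left_eq_mul.1 e)
      have h2 : w ≠ a * w := fun e => ha1 (right_eq_mul.1 e)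
      rw [Finset.card_insert_of_notMem (by simp [ha1.symm, hw1.symm, hc1.symm]),
        Finset.card_insert_of_notMem (by simp [hwa.symm, h1]), Finset.card_pair h2]
    have heq := Finset.eq_of_subset_of_card_le hsub (by
      rw [hcard, ← Set.ncard_eq_toFinset_card, ← Nat.card_coe_set_eq]; exact h4)
    have hu2 : u ∈ ({1, a, w, a * w} : Finset G) := by
      rw [heq, Set.Finite.mem_toFinset]; exact hu
    simp only [Finset.mem_insert, Finset.mem_singleton] at hu2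
    exact hu2.resolve_left hu1
  obtain ⟨y, hy1, hyo, hwy⟩ := hinv w hw hw1
  obtain ⟨u, hu, hu1, huy⟩ := hS y w hw hyo hwy
  have hwx' : w * x * w⁻¹ = x := by rw [hwx, mul_inv_cancel_right]
  have huy' : u * y * u⁻¹ = y := by rw [huy, mul_inv_cancel_right]
  rcases hVset u hu hu1 with rfl | rfl | rfl
  · exact key V hS ha hw hVset hxo hyo hax hwx' huy' hwy hx1 hy1
  · exact hne hyo hy1 hwy huy rfl
  · refine key V hS hu hw (fun v hv hv1 => ?_) hxo hyo ?_ hwx' huy' hwy hx1 hy1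
    · rw [mul_assoc, haw w hw, mul_one]
      rcases hVset v hv hv1 with h | h | h
      exacts [Or.inr (Or.inr h), Or.inr (Or.inl h), Or.inl h]
    · rw [show a * w * x * (a * w)⁻¹ = a * (w * x * w⁻¹) * a⁻¹ by group, hwx', hax]

end Cfsg.Agent.S3011
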