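import Cfsg.Statements.S3013
import Mathlib

set_option autoImplicit false
open Cfsg

namespace Cfsg.Agent.S3013

/-- Let G be a finite group and V a nontrivial elementary abelian 2-subgroup of G satisfying the Sidki pair condition. Let v ∈ V and let x be an element of odd order inverted by v, and put C = C_G(v) ∩ C_G(x), the centralizer of the dihedral subgroup generated by v and x. Then C ∩ V is nontrivial and satisfies the Sidki pair condition inside C: every odd-order element of C inverted by an element of C ∩ V commutes with a nontrivial element of C ∩ V. -/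
theorem result {G : Type*} [Group G] [Finite G] (V : Subgroup G) (hV : Cfsg.IsElementaryAbelian 2 V) (hV1 : V ≠ ⊥) (hS : Cfsg.IsSidkiPair V) (v x : G) (hv : v ∈ V) (hx : Odd (orderOf x)) (hinv : v * x * v⁻¹ = x⁻¹) (C : Subgroup G) (hC : C = Subgroup.centralizer ({v} : Set G) ⊓ Subgroup.centralizer ({x} : Set G)) : C ⊓ V ≠ ⊥ ∧ Cfsg.IsSidkiPair ((C ⊓ V).subgroupOf C) := by
  subst hC
  obtain ⟨hcomm, -⟩ := hV
  have habel : ∀ a ∈ V, ∀ b ∈ V, a * b = b * a := fun a ha b hb =>
    congrArg Subtype.val (hcomm.1.1 (⟨a, ha⟩ : V) ⟨b, hb⟩)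
  obtain ⟨w, hw, hw1, hwx⟩ := hS x v hv hx hinv
  have hmem : ∀ a : G, a ∈ Subgroup.centralizer ({v} : Set G) ⊓ Subgroup.centralizer ({x} : Set G) ↔
      v * a = a * v ∧ x * a = a * x := fun a => by
    simp only [Subgroup.mem_inf, Subgroup.mem_centralizer_singleton_iff]
    constructor <;> rintro ⟨h1, h2⟩ <;> exact ⟨h1.symm, h2.symm⟩
  refine ⟨fun h => hw1 (Subgroup.mem_bot.1 (h.le ⟨(hmem w).2 ⟨habel v hv w hw, hwx.symm⟩, hw⟩)), ?_⟩
  rintro ⟨h, hhC⟩ ⟨u, huC⟩ huV hodd hu
  rw [Subgroup.mem_subgroupOf] at huV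
  obtain ⟨hhv, hhx⟩ := (hmem h).1 hhC
  obtain ⟨huv, hux⟩ := (hmem u).1 huC
  have hodd' : Odd (orderOf h) := by rwa [Subgroup.orderOf_mk] at hodd
  have hu' : u * h * u⁻¹ = h⁻¹ := congrArg Subtype.val hu
  have hox : Odd (orderOf (x * h)) := by
    rcases Nat.even_or_odd (orderOf (x * h)) with he | ho
    · exfalso
      have h1 := he.two_dvd.trans ((show Commute x h from hhx).orderOf_mul_dvd_lcm.trans
        (Nat.lcm_dvd (dvd_mul_right _ (orderOf h)) (dvd_mul_left _ (orderOf x))))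
      exact Nat.not_even_iff_odd.2 (hx.mul hodd') (even_iff_two_dvd.2 h1)
    · exact ho
  have hinv' : (v * u) * (x * h) * (v * u)⁻¹ = (x * h)⁻¹ := by
    have e1 : u * x * u⁻¹ = x := by rw [← hux, mul_inv_cancel_right]
    have e2 : v * h⁻¹ * v⁻¹ = h⁻¹ := by
      rw [mul_inv_eq_iff_eq_mul]; exact (Commute.inv_right (show Commute v h from hhv))
    calc (v * u) * (x * h) * (v * u)⁻¹ = v * ((u * x * u⁻¹) * (u * h * u⁻¹)) * v⁻¹ := by group
      _ = (v * x * v⁻¹) * (v * h⁻¹ * v⁻¹) := by rw [e1, hu']; group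
      _ = x⁻¹ * h⁻¹ := by rw [hinv, e2]
      _ = (x * h)⁻¹ := by rw [hhx, mul_inv_rev]
  obtain ⟨z, hz, hz1, hzc⟩ := hS (x * h) (v * u) (mul_mem hv huV.2) hox hinv'
  have hzv : v * z = z * v := habel v hv z hz
  have hz' : Commute z (x⁻¹ * h) := by
    have e2 : v * h * v⁻¹ = h := by rw [hhv, mul_inv_cancel_right]
    have h1 : Commute (v * z * v⁻¹) (v * (x * h) * v⁻¹) := (show Commute z (x * h) from hzc).map (MulAut.conj v).toMonoidHom
    rw [show v * (x * h) * v⁻¹ = (v * x * v⁻¹) * (v * h * v⁻¹) by group, hinv, e2,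
      hzv, mul_inv_cancel_right] at h1
    exact h1
  have hzh2 : Commute z (h ^ 2) := by
    have h1 := (show Commute z (x * h) from hzc).mul_right hz'
    rwa [show x * h * (x⁻¹ * h) = h ^ 2 by
      rw [mul_assoc, ← mul_assoc h, ((show Commute x h from hhx).symm.inv_right).eq, pow_two]; group] at h1
  have hzh : Commute z h := by
    obtain ⟨k, hk⟩ := hodd'
    have h1 := hzh2.pow_right (k + 1)
    rwa [← pow_mul, show 2 * (k + 1) = orderOf h + 1 by omega, pow_succ, pow_orderOf_eq_one,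
      one_mul] at h1
  have hzx : Commute z x := by
    have h1 := (show Commute z (x * h) from hzc).mul_right hzh.inv_right
    rwa [mul_inv_cancel_right] at h1
  have hzC := (hmem z).2 ⟨hzv, hzx.symm⟩
  refine ⟨⟨z, hzC⟩, ?_, fun e => hz1 (congrArg Subtype.val e), Subtype.ext hzh⟩
  rw [Subgroup.mem_subgroupOf]
  exact ⟨hzC, hz⟩

end Cfsg.Agent.S3013
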