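import Cfsg.Statements.S3014
import Mathlib.GroupTheory.Transfer
import Mathlib.GroupTheory.SpecificGroups.Cyclic
import Cfsg.Agent.Lib.Fusion.Sylow

set_option autoImplicit false
open Cfsg

namespace Cfsg.Agent.S3014

/-- Let G be a finite group and H ≤ M ≤ G subgroups such that for every g ∈ G the subgroup generated by H and g H g⁻¹ meets M exactly in H. If H is a maximal subgroup of M and M is a maximal subgroup of G, then the normal closure of H in G meets M exactly in H. -/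
theorem result {G : Type*} [Group G] [Finite G] (H M : Subgroup G) (hHM : H ≤ M) (hcl : ∀ g : G, (H ⊔ H.map (MulAut.conj g).toMonoidHom) ⊓ M = H) (hmaxH : IsCoatom (H.subgroupOf M)) (hmaxM : IsCoatom M) : Subgroup.normalClosure (H : Set G) ⊓ M = H := by
  classical
  have hconjle : ∀ g : G, ∀ h ∈ H, g * h * g⁻¹ ∈ M → g * h * g⁻¹ ∈ H := fun g h hh hm =>
    (hcl g).le ⟨Subgroup.mem_sup_right ⟨h, hh, rfl⟩, hm⟩
  have hnorm : ∀ m ∈ M, ∀ h ∈ H, m * h * m⁻¹ ∈ H := fun m hm h hh =>
    hconjle m h hh (M.mul_mem (M.mul_mem hm (hHM hh)) (M.inv_mem hm))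
  haveI hn : (H.subgroupOf M).Normal := ⟨fun a ha m => hnorm m m.2 a ha⟩
  set N := Subgroup.normalClosure (H : Set G) with hN
  have hHN : H ≤ N := Subgroup.subset_normalClosure
  refine le_antisymm ?_ (le_inf hHN hHM)
  have hcases : (N ⊓ M).subgroupOf M = H.subgroupOf M ∨ (N ⊓ M).subgroupOf M = ⊤ := by
    rcases eq_or_lt_of_le (Subgroup.comap_mono (le_inf hHN hHM) : H.subgroupOf M ≤ (N ⊓ M).subgroupOf M) with h | h
    · exact Or.inl h.symm
    · exact Or.inr (hmaxH.2 _ h)
  rcases hcases with h | h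
  · intro x hx
    exact (h.le (show (⟨x, hx.2⟩ : M) ∈ (N ⊓ M).subgroupOf M from hx) : (⟨x, hx.2⟩ : M) ∈ H.subgroupOf M)
  exfalso
  have hMN : M ≤ N := fun m hm => ((h.ge (Subgroup.mem_top (⟨m, hm⟩ : M))) : (m : G) ∈ N ⊓ M).1
  have hne : ¬ M ≤ H := fun hle => hmaxH.1 (Subgroup.subgroupOf_eq_top.2 hle)
  have hNtop : N = ⊤ := by
    rcases eq_or_lt_of_le hMN with h' | h'
    · exfalso
      refine hne (hMN.trans (Subgroup.closure_le _ |>.2 ?_))
      intro x hx
      obtain ⟨a, ha, hax⟩ := Group.mem_conjugatesOfSet_iff.1 hx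
      obtain ⟨c, hc⟩ := isConj_iff.1 hax
      subst hc
      exact hconjle c a ha (by rw [h']; exact Subgroup.Normal.conj_mem Subgroup.normalClosure_normal a (hHN ha) c)
    · exact hmaxM.2 _ h'
  -- conjugates of `M` meet it inside `H`
  have hTI : ∀ g : G, g ∉ M → ∀ u ∈ M, g * u * g⁻¹ ∈ M → g * u * g⁻¹ ∈ H := by
    intro g hg u hu hgu
    by_contra hv
    set J := H ⊔ CfsgLib.Fusion.conjBy g H with hJ
    set v := g * u * g⁻¹ with hv'
    have hJv : v ∈ Subgroup.normalizer (J : Set G) := by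
      rw [Subgroup.mem_normalizer_iff_map_conj_eq, hJ, Subgroup.map_sup]
      congr 1
      · exact CfsgLib.Fusion.conjBy_eq_of_le (CfsgLib.Fusion.conjBy_le_iff.2 (hnorm v hgu))
      · have e : CfsgLib.Fusion.conjBy u H = H := CfsgLib.Fusion.conjBy_eq_of_le (CfsgLib.Fusion.conjBy_le_iff.2 (hnorm u hu))
        show CfsgLib.Fusion.conjBy v (CfsgLib.Fusion.conjBy g H) = CfsgLib.Fusion.conjBy g H
        conv_rhs => rw [← e, CfsgLib.Fusion.conjBy_conjBy]
        rw [CfsgLib.Fusion.conjBy_conjBy, hv', inv_mul_cancel_right]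
    set W := J ⊔ Subgroup.zpowers v with hW
    have hJn : W ≤ Subgroup.normalizer (J : Set G) := sup_le Subgroup.le_normalizer (Subgroup.zpowers_le.2 hJv)
    have hMW : M ≤ W := by
      have h2 : (H ⊔ Subgroup.zpowers v).subgroupOf M = ⊤ := by
        refine hmaxH.2 _ (lt_of_le_of_ne (Subgroup.comap_mono le_sup_left) fun e => hv ?_)
        exact (e.ge (Subgroup.mem_sup_right (Subgroup.mem_zpowers v)) : (⟨v, hgu⟩ : M) ∈ H.subgroupOf M)
      exact (Subgroup.subgroupOf_eq_top.1 h2).trans (sup_le_sup_right le_sup_left _)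
    rcases eq_or_lt_of_le hMW with e | e
    · -- `H^g` lies in `M`, hence is `H`, so `g` normalizes `H`
      have hgH : ∀ a ∈ H, g * a * g⁻¹ ∈ H := fun a ha => hconjle g a ha (e.ge (Subgroup.mem_sup_left (Subgroup.mem_sup_right ⟨a, ha, rfl⟩)))
      have hNH : Subgroup.normalizer (H : Set G) = M := by
        refine ((hmaxM.le_iff.1 ?_).resolve_left fun et => hne (hMN.trans ?_))
        · intro m hm
          exact CfsgLib.Fusion.conjBy_eq_iff.1 (CfsgLib.Fusion.conjBy_eq_of_le (CfsgLib.Fusion.conjBy_le_iff.2 (hnorm m hm)))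
        · haveI : H.Normal := Subgroup.normalizer_eq_top_iff.1 et
          exact Subgroup.normalClosure_le_normal le_rfl
      exact hg (hNH.le (CfsgLib.Fusion.conjBy_eq_iff.1 (CfsgLib.Fusion.conjBy_eq_of_le (CfsgLib.Fusion.conjBy_le_iff.2 hgH))))
    · have hWtop := hmaxM.2 _ e
      haveI hJnormal : J.Normal := Subgroup.normalizer_eq_top_iff.1 (eq_top_iff.2 (hWtop.ge.trans hJn))
      have hJtop : N ≤ J := Subgroup.normalClosure_le_normal (fun x hx => Subgroup.mem_sup_left hx)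
      exact hne (fun m hm => (hcl g).le ⟨hJtop (hMN hm), hm⟩)
  -- the transfer into `M / H`
  obtain ⟨x, hxM, hxH⟩ : ∃ x ∈ M, x ∉ H := SetLike.not_le_iff_exists.1 hne
  haveI : IsCyclic (↥M ⧸ H.subgroupOf M) := by
    refine ⟨⟨QuotientGroup.mk ⟨x, hxM⟩, fun w => ?_⟩⟩
    obtain ⟨m, rfl⟩ := QuotientGroup.mk_surjective w
    have h2 : H.subgroupOf M ⊔ Subgroup.zpowers (⟨x, hxM⟩ : M) = ⊤ := by
      refine hmaxH.2 _ (lt_of_le_of_ne le_sup_left fun e => hxH ?_)
      exact (e.ge (Subgroup.mem_sup_right (Subgroup.mem_zpowers _)) : (⟨x, hxM⟩ : M) ∈ H.subgroupOf M)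
    have h3 : m ∈ H.subgroupOf M ⊔ Subgroup.zpowers (⟨x, hxM⟩ : M) := h2 ▸ Subgroup.mem_top m
    rw [← SetLike.mem_coe, Subgroup.normal_mul] at h3
    obtain ⟨a, ha, b, ⟨i, rfl⟩, rfl⟩ := h3
    exact ⟨i, by rw [QuotientGroup.mk_mul, (QuotientGroup.eq_one_iff a).2 ha, one_mul, QuotientGroup.mk_zpow]⟩
  letI : CommGroup (↥M ⧸ H.subgroupOf M) := IsCyclic.commGroup
  let φ : M →* ↥M ⧸ H.subgroupOf M := QuotientGroup.mk' (H.subgroupOf M)
  have hφ1 : ∀ (a : G) (ha : a ∈ M), a ∈ H → φ ⟨a, ha⟩ = 1 := fun a ha hH => (QuotientGroup.eq_one_iff _).2 hH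
  have hker : H ≤ (MonoidHom.transfer φ).ker := by
    intro a ha
    rw [MonoidHom.mem_ker]
    letI := Fintype.ofFinite (Quotient (MulAction.orbitRel (Subgroup.zpowers a) (G ⧸ M)))
    rw [MonoidHom.transfer_eq_prod_quotient_orbitRel_zpowers_quot]
    refine Finset.prod_eq_one fun w _ => hφ1 _ _ ?_
    have h1 := QuotientGroup.out_conj_pow_minimalPeriod_mem M a w.out
    have h2 := hconjle w.out.out⁻¹ _ (H.pow_mem ha (Function.minimalPeriod (a • ·) w.out))
    simp only [inv_inv] at h2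
    exact h2 h1
  have htriv : MonoidHom.transfer φ x = 1 := by
    have := Subgroup.normalClosure_le_normal (N := (MonoidHom.transfer φ).ker) hker
    exact this (hNtop.ge (Subgroup.mem_top x))
  letI := Fintype.ofFinite (Quotient (MulAction.orbitRel (Subgroup.zpowers x) (G ⧸ M)))
  rw [MonoidHom.transfer_eq_prod_quotient_orbitRel_zpowers_quot] at htriv
  set q₀ : Quotient (MulAction.orbitRel (Subgroup.zpowers x) (G ⧸ M)) := Quotient.mk'' ((1 : G) : G ⧸ M) with hq₀
  have hfix : ∀ k : Subgroup.zpowers x, k • ((1 : G) : G ⧸ M) = ((1 : G) : G ⧸ M) := fun k => by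
    show ((k : G) • ((1 : G) : G ⧸ M)) = _
    rw [MulAction.Quotient.smul_mk, smul_eq_mul, mul_one, QuotientGroup.eq]
    simpa using M.inv_mem (Subgroup.zpowers_le.2 hxM k.2)
  have hq₀out : q₀.out = ((1 : G) : G ⧸ M) := by
    have h1 : q₀.out ∈ MulAction.orbit (Subgroup.zpowers x) ((1 : G) : G ⧸ M) :=
      Quotient.exact' (Quotient.out_eq' q₀)
    obtain ⟨k, hk⟩ := h1
    change k • ((1 : G) : G ⧸ M) = q₀.out at hk
    rw [← hk, hfix]
  rw [Finset.prod_eq_single q₀ (fun w _ hw => hφ1 _ _ ?_) (fun h' => absurd (Finset.mem_univ _) h')] at htriv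
  · have h1 := (QuotientGroup.eq_one_iff _).1 htriv
    rw [Subgroup.mem_subgroupOf] at h1
    have hper : Function.minimalPeriod (x • ·) q₀.out = 1 := by
      rw [Function.minimalPeriod_eq_one_iff_isFixedPt]
      show x • q₀.out = q₀.out
      rw [hq₀out]
      exact hfix ⟨x, Subgroup.mem_zpowers x⟩
    simp only [hper, pow_one] at h1
    have hout : q₀.out.out ∈ M := by
      have := QuotientGroup.out_eq' q₀.out
      rw [hq₀out] at this ⊢
      rw [QuotientGroup.eq, mul_one] at this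
      simpa using M.inv_mem this
    have := hnorm _ hout _ h1
    exact hxH (by simpa [mul_assoc] using this)
  · have hout : w.out.out ∉ M := fun hm => hw (by
      rw [hq₀, ← Quotient.out_eq' w]
      congr 1
      rw [← QuotientGroup.out_eq' w.out, QuotientGroup.eq, mul_one]
      exact M.inv_mem hm)
    have h1 := QuotientGroup.out_conj_pow_minimalPeriod_mem M x w.out
    have h2 := hTI w.out.out⁻¹ (fun hm => hout (by simpa using M.inv_mem hm)) _ (M.pow_mem hxM (Function.minimalPeriod (x • ·) w.out))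
    simp only [inv_inv] at h2
    exact h2 h1

end Cfsg.Agent.S3014
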