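import Cfsg.Statements.S3015
import Mathlib.GroupTheory.Transfer
import Mathlib.GroupTheory.PGroup

set_option autoImplicit false
open Cfsg

namespace Cfsg.Agent.S3015

/-- Let G be a finite non-abelian simple group, M a maximal subgroup of G and H a normal subgroup of M of prime index in M. Then G is generated by H together with one of its conjugates. -/
theorem result {G : Type*} [Group G] [Finite G] [IsSimpleGroup G] (hG : ¬ IsMulCommutative G) (M H : Subgroup G) (hmaxM : IsCoatom M) (hHM : H ≤ M) (hHn : (H.subgroupOf M).Normal) (hidx : (H.relIndex M).Prime) : ∃ g : G, H ⊔ H.map (MulAut.conj g).toMonoidHom = ⊤ := by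
  classical
  haveI hr : Fact (H.relIndex M).Prime := ⟨hidx⟩
  set r := H.relIndex M with hrdef
  set c : G → Subgroup G → Subgroup G := fun g X => X.map (MulAut.conj g).toMonoidHom with hc
  have hcm : ∀ (g : G) (X : Subgroup G) (x : G), x ∈ c g X ↔ g⁻¹ * x * g ∈ X := by
    intro g X x
    constructor
    · rintro ⟨y, hy, rfl⟩
      show g⁻¹ * (g * y * g⁻¹) * g ∈ X
      simpa [mul_assoc] using hy
    · intro hx
      exact ⟨_, hx, show g * (g⁻¹ * x * g) * g⁻¹ = x by group⟩
  have hHM' : H < M := lt_of_le_of_ne hHM fun e => hidx.ne_one (by rw [hrdef, e, Subgroup.relIndex_self])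
  have hbetween : ∀ X : Subgroup G, H ≤ X → X ≤ M → X = H ∨ X = M := by
    intro X h1 h2
    have e := Subgroup.relIndex_mul_relIndex H X M h1 h2
    rcases hidx.eq_one_or_self_of_dvd _ (Dvd.intro _ e) with h | h
    · exact Or.inl (le_antisymm (Subgroup.relIndex_eq_one.1 h) h1)
    · refine Or.inr (le_antisymm h2 (Subgroup.relIndex_eq_one.1 ?_))
      rw [h] at e
      exact Nat.eq_of_mul_eq_mul_left hidx.pos (e.trans (mul_one _).symm)
  have hGab : ¬ ∀ a b : G, a * b = b * a := fun h => hG ⟨⟨h⟩⟩
  have hM1 : M ≠ ⊥ := fun e => absurd (e ▸ hHM') not_lt_bot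
  have hNM : Subgroup.normalizer (M : Set G) = M := by
    rcases eq_or_lt_of_le (Subgroup.le_normalizer (H := M)) with h | h
    · exact h.symm
    · exfalso
      have hn : M.Normal := Subgroup.normalizer_eq_top_iff.1 (hmaxM.2 _ h)
      rcases hn.eq_bot_or_eq_top with h' | h'
      · exact hM1 h'
      · exact hmaxM.1 h'
  have hHnorm : M ≤ Subgroup.normalizer (H : Set G) := (Subgroup.normal_subgroupOf_iff_le_normalizer hHM).1 hHn
  by_contra hall
  push Not at hall
  have hall' : ∀ g : G, H ⊔ c g H ≠ ⊤ := hall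
  -- the elements of `M` outside `H` have disjoint conjugates
  have hTI : ∀ g : G, g ∉ M → ∀ z : G, z ∈ M → z ∉ H → g⁻¹ * z * g ∈ M → g⁻¹ * z * g ∉ H → False := by
    intro g hg z hz hzH hz1 hz2
    have hHg : ∀ y ∈ H, g * y * g⁻¹ ∈ M := by
      by_cases hH1 : H = ⊥
      · intro y hy
        rw [hH1, Subgroup.mem_bot] at hy
        subst hy
        simp
      set L := H ⊔ c g H with hL
      have hzL : z ∈ Subgroup.normalizer (L : Set G) := by
        have h1 : ∀ X : Subgroup G, z ∈ Subgroup.normalizer (X : Set G) →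
            X.map (MulAut.conj z).toMonoidHom = X := fun X hX => by
          ext x
          rw [show (x ∈ X.map (MulAut.conj z).toMonoidHom ↔ z⁻¹ * x * z ∈ X) from hcm z X x]
          exact ((Subgroup.mem_normalizer_iff''.1 hX x)).symm
        have hz' : z ∈ Subgroup.normalizer (c g H : Set G) := by
          refine Subgroup.mem_normalizer_iff.2 fun x => ?_
          rw [hcm, hcm]
          have e : g⁻¹ * (z * x * z⁻¹) * g = (g⁻¹ * z * g) * (g⁻¹ * x * g) * (g⁻¹ * z * g)⁻¹ := by group
          rw [e]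
          exact Subgroup.mem_normalizer_iff.1 (hHnorm hz1) _
        have e : L.map (MulAut.conj z).toMonoidHom = L := by
          rw [hL, Subgroup.map_sup, h1 H (hHnorm hz), h1 _ hz']
        refine Subgroup.mem_normalizer_iff.2 fun x => ?_
        constructor
        · intro hx
          rw [← e]
          exact ⟨x, hx, rfl⟩
        · intro hx
          rw [← e] at hx
          obtain ⟨y, hy, hye⟩ := hx
          rwa [← (MulAut.conj z).injective (hye : MulAut.conj z y = MulAut.conj z x)]
      have hML : M ≤ Subgroup.normalizer (L : Set G) := by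
        rcases hbetween (M ⊓ Subgroup.normalizer (L : Set G))
          (le_inf hHM (le_trans le_sup_left Subgroup.le_normalizer)) inf_le_left with h | h
        · exact absurd (h.le ⟨hz, hzL⟩) hzH
        · exact h.ge.trans inf_le_right
      have hLM : L ≤ M := by
        rcases eq_or_lt_of_le hML with h | h
        · exact h.ge.trans' Subgroup.le_normalizer
        · exfalso
          have hn : L.Normal := Subgroup.normalizer_eq_top_iff.1 (hmaxM.2 _ h)
          rcases hn.eq_bot_or_eq_top with h' | h'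
          · exact hH1 (le_bot_iff.1 (h' ▸ (le_sup_left : H ≤ L)))
          · exact hall' g h'
      exact fun y hy => hLM (Subgroup.mem_sup_right ((hcm g H _).2 (by simpa [mul_assoc] using hy)))
    set X := M ⊓ M.map (MulAut.conj g⁻¹).toMonoidHom with hX
    have hmem : ∀ x, x ∈ X ↔ x ∈ M ∧ g * x * g⁻¹ ∈ M := fun x => by
      rw [hX, Subgroup.mem_inf, show (x ∈ M.map (MulAut.conj g⁻¹).toMonoidHom ↔ g⁻¹⁻¹ * x * g⁻¹ ∈ M) from hcm g⁻¹ M x,
        inv_inv]
    rcases hbetween X (fun y hy => (hmem y).2 ⟨hHM hy, hHg y hy⟩) inf_le_left with h | h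
    · exact hz2 (h.le ((hmem _).2 ⟨hz1, by simpa [mul_assoc] using hz⟩))
    · apply hg
      rw [← hNM]
      have hle : c g M ≤ M := fun x hx => by
        have h' := (hmem _).1 (h.ge ((hcm g M x).1 hx))
        simpa [mul_assoc] using h'.2
      have heq : c g M = M := Subgroup.eq_of_le_of_card_ge hle
        (Subgroup.card_map_of_injective (MulAut.conj g).injective).ge
      refine Subgroup.mem_normalizer_iff.2 fun x => ⟨fun hx => heq.le ⟨x, hx, rfl⟩, fun hx => ?_⟩
      have h' := (hcm g M _).1 (heq.ge hx)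
      simpa [mul_assoc] using h'
  -- the transfer into `M / H`
  haveI := hHn
  set ϕ : M →* M ⧸ H.subgroupOf M := QuotientGroup.mk' _ with hϕ
  have hcard : Nat.card (M ⧸ H.subgroupOf M) = r := rfl
  haveI : IsCyclic (M ⧸ H.subgroupOf M) := isCyclic_of_prime_card hcard
  letI : CommGroup (M ⧸ H.subgroupOf M) :=
    { (inferInstance : Group (M ⧸ H.subgroupOf M)) with mul_comm := IsMulCommutative.is_comm.comm }
  haveI : Fintype (G ⧸ M) := Fintype.ofFinite _
  set v := MonoidHom.transfer ϕ with hv
  obtain ⟨z₀, hz₀, hz₀H⟩ := SetLike.exists_of_lt hHM'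
  -- an element of `r`-power order outside `H`
  obtain ⟨k, m, hm, hkm⟩ := Nat.exists_eq_pow_mul_and_not_dvd (orderOf_pos z₀).ne' r hidx.ne_one
  set z := z₀ ^ m with hz
  have hzM : z ∈ M := M.pow_mem hz₀ m
  have hzH : z ∉ H := by
    intro h
    apply hz₀H
    have h1 : ϕ ⟨z₀, hz₀⟩ ^ m = 1 := by
      rw [← map_pow, hϕ, QuotientGroup.mk'_apply, QuotientGroup.eq_one_iff]; exact h
    have h2 : ϕ ⟨z₀, hz₀⟩ ^ r = 1 := by rw [← hcard]; exact pow_card_eq_one'
    have h3 : ϕ ⟨z₀, hz₀⟩ = 1 := orderOf_eq_one_iff.1 (Nat.eq_one_of_dvd_coprimes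
      (hidx.coprime_iff_not_dvd.2 hm) (orderOf_dvd_of_pow_eq_one h2) (orderOf_dvd_of_pow_eq_one h1))
    have := (QuotientGroup.eq_one_iff (N := H.subgroupOf M) _).1 h3
    exact this
  have hzr : z ^ r ^ k = 1 := by rw [hz, ← pow_mul, mul_comm, ← hkm, pow_orderOf_eq_one]
  letI : Fintype (Quotient (MulAction.orbitRel (Subgroup.zpowers z) (G ⧸ M))) := Fintype.ofFinite _
  have hfix : z • ((1 : G) : G ⧸ M) = ((1 : G) : G ⧸ M) := by
    show ((z * 1 : G) : G ⧸ M) = _
    rw [QuotientGroup.eq]
    simpa using hzM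
  have hvz : v z = ϕ ⟨z, hzM⟩ := by
    rw [hv, MonoidHom.transfer_eq_prod_quotient_orbitRel_zpowers_quot,
      Fintype.prod_eq_single (⟦((1 : G) : G ⧸ M)⟧ : Quotient (MulAction.orbitRel (Subgroup.zpowers z) (G ⧸ M))) ?_]
    · set q : G ⧸ M := (⟦((1 : G) : G ⧸ M)⟧ : Quotient (MulAction.orbitRel (Subgroup.zpowers z) (G ⧸ M))).out with hq
      have hq1 : q = ((1 : G) : G ⧸ M) := by
        have h1 : (MulAction.orbitRel (Subgroup.zpowers z) (G ⧸ M)) q ((1 : G) : G ⧸ M) :=
          Quotient.exact (Quotient.out_eq _)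
        obtain ⟨⟨a, ha⟩, hae⟩ := MulAction.orbitRel_apply.1 h1
        obtain ⟨j, rfl⟩ := Subgroup.mem_zpowers_iff.1 ha
        rw [← hae]
        exact (MulAction.mem_stabilizer_iff.1 ((MulAction.stabilizer G ((1 : G) : G ⧸ M)).zpow_mem hfix j))
      have hper : Function.minimalPeriod (z • ·) q = 1 := by
        rw [Function.minimalPeriod_eq_one_iff_isFixedPt, hq1]
        exact hfix
      have hout : q.out ∈ M := by
        have := QuotientGroup.eq.1 ((QuotientGroup.out_eq' q).trans hq1)
        simpa using M.inv_mem this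
      set o : M := ⟨q.out, hout⟩
      have e : (⟨q.out⁻¹ * z ^ Function.minimalPeriod (z • ·) q * q.out,
          QuotientGroup.out_conj_pow_minimalPeriod_mem M z q⟩ : M) = o⁻¹ * ⟨z, hzM⟩ * o :=
        Subtype.ext (by show q.out⁻¹ * z ^ _ * q.out = q.out⁻¹ * z * q.out; rw [hper, pow_one])
      rw [e, map_mul, map_mul, map_inv, mul_comm (ϕ o)⁻¹, inv_mul_cancel_right]
    · intro q hq
      rw [hϕ, QuotientGroup.mk'_apply, QuotientGroup.eq_one_iff]
      show q.out.out⁻¹ * z ^ Function.minimalPeriod (z • ·) q.out * q.out.out ∈ H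
      set n := Function.minimalPeriod (z • ·) q.out with hn
      set g := q.out.out with hg
      have hmem : g⁻¹ * z ^ n * g ∈ M := QuotientGroup.out_conj_pow_minimalPeriod_mem M z q.out
      by_contra hnH
      have hgM : g ∉ M := by
        intro h
        apply hq
        rw [← Quotient.out_eq q, ← QuotientGroup.out_eq' q.out]
        congr 1
        rw [QuotientGroup.eq]
        simpa [← hg] using h
      by_cases hzn : z ^ n ∈ H
      · -- then `z` lies in the conjugate of `M`
        set u := g⁻¹ * z ^ n * g with hu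
        set y := g⁻¹ * z * g with hy
        have hyM : y ∈ M := by
          by_contra hyM
          refine hTI y hyM u hmem hnH ?_ ?_ <;>
            rw [show y⁻¹ * u * y = u by rw [hu, hy]; group]
          · exact hmem
          · exact hnH
        have hyH : y ∈ H := by
          by_contra hyH
          exact hTI g hgM z hzM hzH hyM hyH
        apply hnH
        rw [show u = y ^ n by
          rw [hu, hy, show g⁻¹ * z * g = g⁻¹ * z * g⁻¹⁻¹ by rw [inv_inv], conj_pow, inv_inv]]
        exact H.pow_mem hyH n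
      · exact hTI g hgM (z ^ n) (M.pow_mem hzM n) hzn hmem hnH
  have hvz1 : v z ≠ 1 := by
    rw [hvz, hϕ, QuotientGroup.mk'_apply, Ne, QuotientGroup.eq_one_iff]
    exact hzH
  rcases (MonoidHom.normal_ker v).eq_bot_or_eq_top with h | h
  · refine hGab fun a b => ?_
    have := (MonoidHom.ker_eq_bot_iff v).1 h
    exact this (by rw [map_mul, map_mul, mul_comm])
  · exact hvz1 (h.ge (Subgroup.mem_top z))

end Cfsg.Agent.S3015
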