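import Cfsg.Statements.S3016
-- import your own Cfsg.Agent.* helpers here
import Cfsg.Agent.Lib.Invol.ExtremelyClosedOdd
import Cfsg.Agent.Lib.Invol.ExtremelyClosedKernel

set_option autoImplicit false
open Cfsg
open scoped commutatorElement

namespace Cfsg.Agent.S3016


/-- Let G be a finite group, p an odd prime, and H an abelian p-subgroup of G that is extremely closed (for every g, the subgroup generated by H and g H g⁻¹ meets N_G(H) exactly in H). Then the normal closure of H meets N_G(H) exactly in H, and G = N_G(H) O_{p'}(G). -/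
theorem result {G : Type*} [Group G] [Finite G] {p : ℕ} [Fact p.Prime] (hp : p ≠ 2) (H : Subgroup G) (hHp : IsPGroup p H) (hHab : IsMulCommutative H) (hcl : Cfsg.IsExtremelyClosed H) : Subgroup.normalClosure (H : Set G) ⊓ Subgroup.normalizer (H : Set G) = H ∧ Subgroup.normalizer (H : Set G) ⊔ Cfsg.pPrimeCore p G = ⊤ := by
  have hN : Subgroup.normalizer (H : Set G) ⊔ Cfsg.pPrimeCore p G = ⊤ :=
    CfsgLib.ExtClosed.concl_odd hp (Nat.card G + 1) (Nat.lt_succ_self _) hHp hHab hcl
  refine ⟨le_antisymm ?_ (le_inf Subgroup.le_normalClosure Subgroup.le_normalizer), hN⟩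
  haveI := CfsgLib.Coprime.pPrimeCore_characteristic (G := G) p
  set O := Cfsg.pPrimeCore p G with hO
  have hOn : O.Normal := inferInstance
  have hHO : H ≤ Subgroup.normalizer ((⁅O, H⁆ : Subgroup G) : Set G) :=
    Subgroup.normalizer_commutator_ge_right O H
  have hnc : Subgroup.normalClosure (H : Set G) ≤ ⁅O, H⁆ ⊔ H := by
    unfold Subgroup.normalClosure
    rw [Subgroup.closure_le]
    intro z hz
    obtain ⟨a, ha, hconj⟩ := Group.mem_conjugatesOfSet_iff.1 hz
    obtain ⟨g, rfl⟩ := isConj_iff.1 hconj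
    have hg : g ∈ O ⊔ Subgroup.normalizer (H : Set G) := by
      rw [sup_comm, hN]; exact Subgroup.mem_top g
    obtain ⟨o, ho, n, hn, rfl⟩ := CfsgLib.Coprime.mem_sup_exists
      (le_top.trans (Subgroup.normalizer_eq_top_iff.2 hOn).ge) hg
    have hna : n * a * n⁻¹ ∈ H := (Subgroup.mem_normalizer_iff.1 hn a).1 ha
    have e : o * n * a * (o * n)⁻¹ = ⁅o, n * a * n⁻¹⁆ * (n * a * n⁻¹) := by
      simp only [commutatorElement_def]; group
    rw [e]
    exact Subgroup.mul_mem_sup (Subgroup.commutator_mem_commutator ho hna) hna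
  rintro x ⟨hx1, hx2⟩
  obtain ⟨c, hc, k, hk, rfl⟩ := CfsgLib.Coprime.mem_sup_exists hHO (hnc hx1)
  have hcN : c ∈ Subgroup.normalizer (H : Set G) := by
    have := (Subgroup.normalizer (H : Set G)).mul_mem hx2
      ((Subgroup.normalizer (H : Set G)).inv_mem (Subgroup.le_normalizer hk))
    rwa [mul_inv_cancel_right] at this
  have hcO : c ∈ O := (Subgroup.commutator_le_left O H) hc
  have hcop : (Nat.card H).Coprime (Nat.card O) := by
    obtain ⟨m, hm⟩ := hHp.exists_card_eq
    rw [hm]
    exact ((CfsgLib.Coprime.pPrimeCore_coprime (G := G) (Fact.out : p.Prime)).symm).pow_left m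
  have hcc : c ∈ Subgroup.centralizer (H : Set G) :=
    CfsgLib.Coprime.mem_centralizer_of_mem_normalizer
      (le_top.trans (Subgroup.normalizer_eq_top_iff.2 hOn).ge) hcop hcO hcN
  rw [CfsgLib.ExtClosed.eq_one_of_commutator_centralizing hp hHp hHab hcl O
    (CfsgLib.Coprime.pPrimeCore_not_dvd Fact.out) hc hcc, one_mul]
  exact hk

end Cfsg.Agent.S3016
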