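import Cfsg.Statements.S3025
import Cfsg.Agent.Lib.Coprime.UniqueOrderP

set_option autoImplicit false
open Cfsg

namespace Cfsg.Agent.S3025

/-- Let F be a finite group and H a nontrivial subgroup of F that is contained in every nontrivial subgroup of F which H normalizes. Then F has a nontrivial normal subgroup N contained in every nontrivial normal subgroup of F (a unique minimal normal subgroup), N is simple, and one of the following holds: C_F(N) = 1; or H = N has prime order p, C_F(N) is cyclic of order a power of p, and F/C_F(N) is cyclic of order dividing p − 1; or H = N has order 2, N is central in F, and F is a generalized quaternion group. -/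
theorem result {F : Type*} [Group F] [Finite F] (H : Subgroup F) (hH : H ≠ ⊥)
    (hmin : ∀ R : Subgroup F, R ≠ ⊥ → H ≤ Subgroup.normalizer (R : Set F) → H ≤ R) :
    ∃ N : Subgroup F, N.Normal ∧ N ≠ ⊥ ∧ (∀ M : Subgroup F, M.Normal → M ≠ ⊥ → N ≤ M) ∧ IsSimpleGroup ↥N ∧
      (Subgroup.centralizer (N : Set F) = ⊥ ∨
       (H = N ∧ (Nat.card N).Prime ∧ IsCyclic ↥(Subgroup.centralizer (N : Set F)) ∧
          (∃ k : ℕ, 1 ≤ k ∧ Nat.card ↥(Subgroup.centralizer (N : Set F)) = Nat.card N ^ k) ∧
          (∃ g : F, Subgroup.centralizer (N : Set F) ⊔ Subgroup.zpowers g = ⊤) ∧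
          (Subgroup.centralizer (N : Set F)).index ∣ Nat.card N - 1) ∨
       (H = N ∧ Nat.card N = 2 ∧ Subgroup.centralizer (N : Set F) = ⊤ ∧
          ∃ k : ℕ, 1 ≤ k ∧ Nonempty (F ≃* QuaternionGroup (2 ^ k)))) := by
  classical
  -- the unique minimal normal subgroup
  set N : Subgroup F := Subgroup.normalClosure (H : Set F) with hN
  have hHN : H ≤ N := Subgroup.le_normalClosure
  have hN1 : N ≠ ⊥ := fun h => hH (eq_bot_iff.2 (h ▸ hHN))
  have hNle : ∀ M : Subgroup F, M.Normal → M ≠ ⊥ → N ≤ M := fun M hM hM1 => by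
    haveI := hM
    exact Subgroup.normalClosure_le_normal (hmin M hM1 (by rw [Subgroup.normalizer_eq_top]; exact le_top))
  obtain ⟨T, ⟨hTN, hT1, hTn⟩, hTmin⟩ := (Set.toFinite {T : Subgroup F | T ≤ N ∧ T ≠ ⊥ ∧
    N ≤ Subgroup.normalizer (T : Set F)}).exists_minimal ⟨N, le_rfl, hN1, Subgroup.le_normalizer⟩
  have hHT : ∀ R : Subgroup F, R ≤ N → R ≠ ⊥ → N ≤ Subgroup.normalizer (R : Set F) → T ≤ R := by
    intro R hR hR1 hRn
    have h1 : T ⊓ R ≠ ⊥ := fun h => hH (eq_bot_iff.2 (h ▸ le_inf (hmin T hT1 (hHN.trans hTn)) (hmin R hR1 (hHN.trans hRn))))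
    refine (hTmin ⟨inf_le_left.trans hTN, h1, fun n hn => ?_⟩ inf_le_left).trans inf_le_right
    rw [Subgroup.mem_normalizer_iff]
    intro x
    rw [Subgroup.mem_inf, Subgroup.mem_inf, Subgroup.mem_normalizer_iff.1 (hTn hn) x,
      Subgroup.mem_normalizer_iff.1 (hRn hn) x]
  have hTnormal : T.Normal := by
    refine ⟨fun t ht g => ?_⟩
    have h := hHT (T.map (MulAut.conj g).toMonoidHom) (fun x ⟨y, hy, e⟩ => e ▸
        (inferInstance : N.Normal).conj_mem y (hTN hy) g)
      (fun h => hT1 ((Subgroup.map_eq_bot_iff_of_injective _ (MulAut.conj g).injective).1 h)) (fun n hn => ?_)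
    · have he : T = T.map (MulAut.conj g).toMonoidHom :=
        Subgroup.eq_of_le_of_card_ge h (Subgroup.card_map_of_injective (MulAut.conj g).injective).le
      rw [he]
      exact ⟨t, ht, rfl⟩
    · rw [Subgroup.mem_normalizer_iff]
      intro x
      rw [Subgroup.mem_map_equiv, Subgroup.mem_map_equiv]
      show g⁻¹ * x * g ∈ T ↔ g⁻¹ * (n * x * n⁻¹) * g ∈ T
      have hn' : g⁻¹ * n * g ∈ Subgroup.normalizer (T : Set F) := hTn (by
        have := (inferInstance : N.Normal).conj_mem n hn g⁻¹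
        rwa [inv_inv] at this)
      rw [Subgroup.mem_normalizer_iff.1 hn' (g⁻¹ * x * g)]
      exact Iff.of_eq (congrArg (· ∈ T) (by group))
  have hTeq : T = N := le_antisymm hTN (hNle T hTnormal hT1)
  haveI hNt : Nontrivial N := Subgroup.nontrivial_iff_ne_bot N |>.2 hN1
  have hsimple : IsSimpleGroup N := by
    refine ⟨fun M hM => ?_⟩
    by_cases hM1 : M = ⊥
    · exact Or.inl hM1
    refine Or.inr ?_
    have h := hHT (M.map N.subtype) (Subgroup.map_subtype_le M)
      (fun h => hM1 ((Subgroup.map_eq_bot_iff_of_injective _ N.subtype_injective).1 h)) (fun n hn => by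
        rw [Subgroup.mem_normalizer_iff]
        intro x
        constructor
        · rintro ⟨y, hy, rfl⟩
          exact ⟨⟨n, hn⟩ * y * ⟨n, hn⟩⁻¹, hM.conj_mem y hy _, rfl⟩
        · rintro ⟨y, hy, e⟩
          refine ⟨⟨n, hn⟩⁻¹ * y * ⟨n, hn⟩, by
            have := hM.conj_mem y hy ⟨n, hn⟩⁻¹
            rwa [inv_inv] at this, ?_⟩
          simp only [map_mul, map_inv, e, Subgroup.subtype_apply]
          group)
    rw [hTeq] at h
    exact eq_top_iff.2 fun x _ => by
      obtain ⟨y, hy, e⟩ := h x.2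
      exact N.subtype_injective e ▸ hy
  refine ⟨N, inferInstance, hN1, hNle, hsimple, ?_⟩
  by_cases hC1 : Subgroup.centralizer (N : Set F) = ⊥
  · exact Or.inl hC1
  refine Or.inr ?_
  set C := Subgroup.centralizer (N : Set F) with hC
  haveI hCn : C.Normal := Subgroup.normal_centralizer
  have hNC : N ≤ C := hNle C hCn hC1
  -- every nontrivial subgroup of the centralizer contains `H`
  have hsub : ∀ R : Subgroup F, R ≤ C → R ≠ ⊥ → H ≤ R := fun R hR hR1 => hmin R hR1 fun h hh => by
    rw [Subgroup.mem_normalizer_iff]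
    intro x
    constructor
    · intro hx
      have e : h * x = x * h := Subgroup.mem_centralizer_iff.1 (hR hx) h (hHN hh)
      rwa [e, mul_inv_cancel_right]
    · intro hx
      have e : h * (h * x * h⁻¹) = (h * x * h⁻¹) * h := Subgroup.mem_centralizer_iff.1 (hR hx) h (hHN hh)
      have e' : h * x * h⁻¹ = x := by
        rw [inv_mul_cancel_right] at e
        exact mul_left_cancel e
      rwa [e'] at hx
  haveI : Nontrivial H := Subgroup.nontrivial_iff_ne_bot H |>.2 hH
  set p := (Nat.card H).minFac with hpdef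
  haveI hp : Fact p.Prime := ⟨Nat.minFac_prime (Finite.one_lt_card (α := H)).ne'⟩
  obtain ⟨x0, hx0⟩ := exists_prime_orderOf_dvd_card' (G := H) p (Nat.minFac_dvd _)
  have hx0' : orderOf (x0 : F) = p := by rw [Subgroup.orderOf_coe, hx0]
  have hx01 : (x0 : F) ≠ 1 := fun h => hp.out.ne_one (by rw [← hx0', h, orderOf_one])
  have hHeq : H = Subgroup.zpowers (x0 : F) :=
    le_antisymm (hsub _ (Subgroup.zpowers_le.2 (hNC (hHN x0.2))) (by
      rw [Ne, Subgroup.zpowers_eq_bot]; exact hx01)) (Subgroup.zpowers_le.2 x0.2)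
  have hHcard : Nat.card H = p := by rw [hHeq, Nat.card_zpowers, hx0']
  have hNeq : N = H := by
    refine le_antisymm ?_ hHN
    haveI : H.Normal := ⟨fun a ha g => by
      have hconj : H ≤ H.map (MulAut.conj g).toMonoidHom := hsub _ (fun y ⟨z, hz, e⟩ => e ▸
          hCn.conj_mem z (hNC (hHN hz)) g)
        (fun h => hH ((Subgroup.map_eq_bot_iff_of_injective _ (MulAut.conj g).injective).1 h))
      rw [Subgroup.eq_of_le_of_card_ge hconj (Subgroup.card_map_of_injective (MulAut.conj g).injective).le]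
      exact ⟨a, ha, rfl⟩⟩
    exact hNle H inferInstance hH
  have hCp : IsPGroup p C := by
    intro y
    refine ⟨(orderOf y).factorization p, ?_⟩
    by_contra hy
    set z := y ^ p ^ (orderOf y).factorization p with hz
    have hzo : orderOf z = orderOf y / p ^ (orderOf y).factorization p := by
      rw [hz, orderOf_pow_of_dvd (pow_ne_zero _ hp.out.ne_zero) (Nat.ordProj_dvd _ _)]
    have hnd : ¬ p ∣ orderOf z := hzo ▸ Nat.not_dvd_ordCompl hp.out (orderOf_pos y).ne'
    have h1 : H ≤ Subgroup.zpowers (z : F) := hsub _ (Subgroup.zpowers_le.2 z.2) (by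
      rw [Ne, Subgroup.zpowers_eq_bot]; exact fun h => hy (Subtype.ext h))
    have h2 := Subgroup.card_dvd_of_le h1
    rw [hHcard, Nat.card_zpowers, Subgroup.orderOf_coe] at h2
    exact hnd h2
  have hu : CfsgLib.Coprime.UniqueOrderP p C := fun x y hx hy hx1 => by
    have hmem : ∀ w : C, w ^ p = 1 → w ≠ 1 → Subgroup.zpowers (w : F) = H := fun w hw hw1 => by
      refine (Subgroup.eq_of_le_of_card_ge (hsub _ (Subgroup.zpowers_le.2 w.2) ?_) ?_).symm
      · rw [Ne, Subgroup.zpowers_eq_bot]; exact fun h => hw1 (Subtype.ext h)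
      · rw [hHcard, Nat.card_zpowers, Subgroup.orderOf_coe, orderOf_eq_prime hw hw1]
    by_cases hy1 : y = 1
    · rw [hy1]; exact one_mem _
    obtain ⟨i, hi⟩ := Subgroup.mem_zpowers_iff.1
      (show (y : F) ∈ Subgroup.zpowers (x : F) by rw [hmem x hx hx1, ← hmem y hy hy1]; exact Subgroup.mem_zpowers _)
    exact Subgroup.mem_zpowers_iff.2 ⟨i, Subtype.ext (by simpa using hi)⟩
  have hNcard : Nat.card N = p := by rw [hNeq, hHcard]
  obtain ⟨k, hk⟩ := IsPGroup.iff_card.1 hCp
  have hk1 : 1 ≤ k := by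
    rcases Nat.eq_zero_or_pos k with h | h
    · exact absurd (Subgroup.eq_bot_of_card_eq C (by rw [hk, h, pow_zero])) hC1
    · exact h
  -- the action on `N`
  let ρ : F →* MulAut N := MulAut.conjNormal
  have hker : ρ.ker = C := by
    ext g
    rw [MonoidHom.mem_ker, hC, Subgroup.mem_centralizer_iff]
    constructor
    · intro h n hn
      have h2 := congrArg Subtype.val (DFunLike.congr_fun h ⟨n, hn⟩)
      rw [MulAut.conjNormal_apply, MulAut.one_apply] at h2
      exact (mul_inv_eq_iff_eq_mul.1 h2).symm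
    · intro h
      refine MulEquiv.ext fun n => Subtype.ext ?_
      rw [MulAut.conjNormal_apply, MulAut.one_apply, ← h n n.2, mul_inv_cancel_right]
  haveI : IsCyclic N := isCyclic_of_prime_card hNcard
  let e := IsCyclic.mulAutMulEquiv N
  haveI hU : IsCyclic (ZMod (Nat.card N))ˣ := by
    rw [hNcard]; infer_instance
  haveI : IsCyclic (MulAut N) := isCyclic_of_surjective e.symm.toMonoidHom e.symm.surjective
  by_cases hcyc : IsCyclic C
  · refine Or.inl ⟨hNeq.symm, hNcard ▸ hp.out, hcyc, ⟨k, hk1, by rw [hNcard, hk]⟩, ?_, ?_⟩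
    · obtain ⟨gen, hgen⟩ := IsCyclic.exists_generator (α := ρ.range)
      obtain ⟨g, hg⟩ := gen.2
      refine ⟨g, eq_top_iff.2 fun f _ => ?_⟩
      obtain ⟨i, hi⟩ := Subgroup.mem_zpowers_iff.1 (hgen ⟨ρ f, f, rfl⟩)
      have h1 : f * (g ^ i)⁻¹ ∈ C := by
        rw [← hker, MonoidHom.mem_ker, map_mul, map_inv, map_zpow, hg]
        have h2 := congrArg Subtype.val hi
        simp only [SubgroupClass.coe_zpow] at h2
        rw [h2, mul_inv_cancel]
      have h2 := Subgroup.mul_mem_sup h1 (Subgroup.zpow_mem_zpowers g i)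
      rwa [inv_mul_cancel_right] at h2
    · rw [← hker, Subgroup.index_ker, hNcard]
      refine (Subgroup.card_subgroup_dvd_card ρ.range).trans ?_
      rw [Nat.card_congr e.toEquiv, hNcard, Nat.card_eq_fintype_card, ZMod.card_units]
  · rcases CfsgLib.Coprime.cyclic_or_quaternion_of_unique hCp hu with h | ⟨hp2, n, ⟨eQ⟩⟩
    · exact absurd h hcyc
    have hN2 : Nat.card N = 2 := hNcard.trans hp2
    have hCtop : C = ⊤ := by
      rw [← hker]
      refine Subgroup.index_eq_one.1 ?_
      rw [Subgroup.index_ker]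
      refine Nat.dvd_one.1 ((Subgroup.card_subgroup_dvd_card ρ.range).trans ?_)
      rw [Nat.card_congr e.toEquiv, hN2, Nat.card_eq_fintype_card, ZMod.card_units]
    refine Or.inr ⟨hNeq.symm, hN2, hCtop, n, ?_, ⟨((MulEquiv.subgroupCongr hCtop).trans Subgroup.topEquiv).symm.trans eQ⟩⟩
    by_contra hn
    obtain rfl : n = 0 := by omega
    refine hcyc ?_
    haveI : IsCyclic (QuaternionGroup (2 ^ 0)) := isCyclic_of_orderOf_eq_card (QuaternionGroup.xa 0) (by
      rw [QuaternionGroup.orderOf_xa, Nat.card_eq_fintype_card, QuaternionGroup.card]; rfl)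
    exact isCyclic_of_surjective eQ.symm.toMonoidHom eQ.symm.surjective

end Cfsg.Agent.S3025
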