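import Cfsg.Statements.S3027
import Cfsg.Agent.Lib.Coprime.Subnormal
import Cfsg.Agent.Lib.Coprime.Action

set_option autoImplicit false
open Cfsg
open scoped commutatorElement

namespace Cfsg.Agent.S3027

/-- Let G be a finite group and D a normal subgroup of G such that G/D is perfect (that is, G = G′D). Then among the subnormal subgroups B of G with BD = G there is a least one, and it is normal in G. -/
theorem result {G : Type*} [Group G] [Finite G] (D : Subgroup G) [D.Normal] (hperf : ⁅(⊤ : Subgroup G), (⊤ : Subgroup G)⁆ ⊔ D = ⊤) :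
    ∃ B : Subgroup G, B.Normal ∧ B ⊔ D = ⊤ ∧ ∀ B' : Subgroup G, B'.IsSubnormal → B' ⊔ D = ⊤ → B ≤ B' := by
  classical
  have hD : D.Normal := inferInstance
  suffices main : ∀ (X : Subgroup G), X ⊔ D = ⊤ → ∃ B : Subgroup G, B ≤ X ∧ X ≤ Subgroup.normalizer (B : Set G) ∧ B ⊔ D = ⊤ ∧
      ∀ B' : Subgroup G, B' ≤ X → X ≤ Subgroup.normalizer (B' : Set G) → B' ⊔ D = ⊤ → B ≤ B' by
    suffices h : ∀ (n : ℕ) (X : Subgroup G), Nat.card X = n → X ⊔ D = ⊤ → ∀ B' : Subgroup G, B' ≤ X → (B'.subgroupOf X).IsSubnormal → B' ⊔ D = ⊤ →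
        ∀ B : Subgroup G, B ≤ X → X ≤ Subgroup.normalizer (B : Set G) → B ⊔ D = ⊤ →
          (∀ B'' : Subgroup G, B'' ≤ X → X ≤ Subgroup.normalizer (B'' : Set G) → B'' ⊔ D = ⊤ → B ≤ B'') → B ≤ B' by
      obtain ⟨B, -, hBn, hBD, hmin⟩ := main ⊤ (top_sup_eq D)
      exact ⟨B, Subgroup.normalizer_eq_top_iff.1 (top_le_iff.1 hBn), hBD, fun B' hB' hB'D =>
        h _ ⊤ rfl (top_sup_eq D) B' le_top (hB'.comap (⊤ : Subgroup G).subtype) hB'D B le_top hBn hBD hmin⟩
    intro n
    induction n using Nat.strong_induction_on with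
    | _ n ih =>
      intro X hn hXD B' hB'X hsn hB'D B hBX hBn hBD hmin
      by_cases htop : B'.subgroupOf X = ⊤
      · exact hBX.trans (Subgroup.subgroupOf_eq_top.1 htop)
      obtain ⟨N, hNn, hle, hN'⟩ := hsn.exists_normal_and_le_and_lt_top_of_ne htop
      have hN := hN'.ne
      clear hN'
      set N' := N.map X.subtype with hN'
      have hB'N : B' ≤ N' := fun b hb => ⟨⟨b, hB'X hb⟩, hle (show (⟨b, hB'X hb⟩ : X) ∈ B'.subgroupOf X from hb), rfl⟩
      have hN'X : N' ≤ X := Subgroup.map_subtype_le _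
      have hXN' : X ≤ Subgroup.normalizer (N' : Set G) := fun x hx =>
        Subgroup.le_normalizer_map X.subtype ⟨⟨x, hx⟩, by rw [Subgroup.normalizer_eq_top]; trivial, rfl⟩
      have hN'D : N' ⊔ D = ⊤ := eq_top_iff.2 (hB'D.ge.trans (sup_le_sup_right hB'N D))
      have hlt : Nat.card N' < n := by
        rw [← hn, hN', Subgroup.card_map_of_injective X.subtype_injective]
        exact lt_of_not_ge fun hge => hN (Subgroup.eq_top_of_le_card N hge)
      obtain ⟨C, hCN, hCn, hCD, hCmin⟩ := main N' hN'D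
      have hC1 : C ≤ B' := ih _ hlt N' rfl hN'D B' hB'N (hsn.comap (Subgroup.inclusion hN'X)) hB'D C hCN hCn hCD hCmin
      refine (hmin C (hCN.trans hN'X) ?_ hCD).trans hC1
      -- the least normal supplement of `N'` is invariant under `X`
      intro x hx
      rw [Subgroup.mem_normalizer_iff_map_conj_eq]
      have hfix : N'.map (MulAut.conj x).toMonoidHom = N' := Subgroup.mem_normalizer_iff_map_conj_eq.1 (hXN' hx)
      have hDfix : D.map (MulAut.conj x).toMonoidHom = D := Subgroup.mem_normalizer_iff_map_conj_eq.1 (by rw [Subgroup.normalizer_eq_top]; trivial)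
      refine (Subgroup.eq_of_le_of_card_ge (hCmin _ (hfix ▸ Subgroup.map_mono hCN) ?_ ?_) ?_).symm
      · intro y hy
        rw [← hfix] at hy
        exact Subgroup.le_normalizer_map (MulAut.conj x).toMonoidHom ((Subgroup.map_mono hCn) hy)
      · have e := congrArg (Subgroup.map (MulAut.conj x).toMonoidHom) hCD
        rw [Subgroup.map_sup, hDfix, Subgroup.map_top_of_surjective _ (MulAut.conj x).surjective] at e
        exact e
      · rw [Subgroup.card_map_of_injective (MulAut.conj x).injective]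
  intro X hXD
  obtain ⟨B, ⟨hBX, hBn, hBD⟩, hmin⟩ := Set.Finite.exists_minimal
    (s := {B : Subgroup G | B ≤ X ∧ X ≤ Subgroup.normalizer (B : Set G) ∧ B ⊔ D = ⊤}) (Set.toFinite _) ⟨X, le_rfl, Subgroup.le_normalizer, hXD⟩
  refine ⟨B, hBX, hBn, hBD, fun B' hB'X hB'n hB'D => ?_⟩
  have hI : ⁅B, B'⁆ ≤ B ⊓ B' := le_inf
    (by rw [Subgroup.commutator_comm]; exact Subgroup.le_normalizer_iff_commutator_le_right.1 (hB'X.trans hBn))
    (Subgroup.le_normalizer_iff_commutator_le_right.1 (hBX.trans hB'n))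
  refine (hmin ⟨inf_le_left.trans hBX, CfsgLib.Coprime.inf_le_normalizer hBn hB'n, eq_top_iff.2 (hperf.ge.trans (sup_le ?_ le_sup_right))⟩ inf_le_left).trans inf_le_right
  rw [Subgroup.commutator_le]
  intro a _ b _
  let f := QuotientGroup.mk' D
  rw [← QuotientGroup.ker_mk' D, ← Subgroup.comap_map_eq]
  show f ⁅a, b⁆ ∈ (B ⊓ B').map f
  refine Subgroup.map_mono hI ?_
  rw [Subgroup.map_commutator, map_commutatorElement]
  refine Subgroup.commutator_mem_commutator ?_ ?_
  · have h1 : f a ∈ (B ⊔ D).map f := Subgroup.mem_map_of_mem f (hBD.ge (Subgroup.mem_top a))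
    rwa [Subgroup.map_sup, (Subgroup.map_eq_bot_iff D).2 (QuotientGroup.ker_mk' D).ge, sup_bot_eq] at h1
  · have h1 : f b ∈ (B' ⊔ D).map f := Subgroup.mem_map_of_mem f (hB'D.ge (Subgroup.mem_top b))
    rwa [Subgroup.map_sup, (Subgroup.map_eq_bot_iff D).2 (QuotientGroup.ker_mk' D).ge, sup_bot_eq] at h1

end Cfsg.Agent.S3027
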