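import Cfsg.Statements.S3031
import Cfsg.Agent.Lib.Fusion.Tate
import Cfsg.Agent.Lib.CFun.ConjFamily
import Cfsg.Agent.Lib.PGroup.SmallElementsIndex
import Cfsg.Agent.Lib.Coprime.PGroupFrattini
import Cfsg.Agent.Lib.Coprime.Action


set_option autoImplicit false
open Cfsg

namespace Cfsg.Agent.S3031

open Subgroup

variable {G : Type*} [Group G] [Finite G] {p : ℕ} [hp : Fact p.Prime]

/-- Subgroups of order `d` (and `4` when `d = 2`). -/
def Member (d : ℕ) (E : Subgroup G) : Prop := Nat.card E = d ∨ (d = 2 ∧ Nat.card E = 4)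

/-- The members inside `P` are strongly closed in `P` and normalized by `P`. -/
def Closed (P : Subgroup G) (d : ℕ) : Prop :=
  ∀ E : Subgroup G, E ≤ P → Member d E →
    P ≤ normalizer (E : Set G) ∧ ∀ u ∈ E, ∀ g : G, g * u * g⁻¹ ∈ P → g * u * g⁻¹ ∈ E

theorem closed_of_hyp (P : Sylow p G) {d : ℕ}
    (h : ∀ E : Subgroup G, E ≤ (P : Subgroup G) → Member d E →
      ∀ g : G, E.map (MulAut.conj g).toMonoidHom ⊓ normalizer (E : Set G) ≤ E) :
    Closed (P : Subgroup G) d := by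
  intro E hE hm
  have hmove : ∀ g : G, ∀ u ∈ E, g * u * g⁻¹ ∈ normalizer (E : Set G) → g * u * g⁻¹ ∈ E :=
    fun g u hu hn => h E hE hm g (Subgroup.mem_inf.2 ⟨⟨u, hu, rfl⟩, hn⟩)
  have hn : (P : Subgroup G) ≤ normalizer (E : Set G) := by
    set N₁ := (P : Subgroup G) ⊓ normalizer (E : Set G) with hN₁
    by_contra hne
    have hlt := CfsgLib.CFun.lt_inf_normalizer_sylow P (inf_le_left : N₁ ≤ (P : Subgroup G))
      fun e => hne (inf_eq_left.1 e)
    obtain ⟨y, hy, hyN⟩ := SetLike.exists_of_lt hlt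
    obtain ⟨hyP, hy1⟩ := Subgroup.mem_inf.1 hy
    have key : ∀ z : G, z ∈ (P : Subgroup G) → z ∈ normalizer (N₁ : Set G) → ∀ u ∈ E, z * u * z⁻¹ ∈ E :=
      fun z _ hz u hu => hmove z u hu
        (Subgroup.mem_inf.1 ((Subgroup.mem_normalizer_iff.1 hz u).1
          (Subgroup.mem_inf.2 ⟨hE hu, le_normalizer hu⟩))).2
    refine hyN (Subgroup.mem_inf.2 ⟨hyP, Subgroup.mem_normalizer_iff.2 fun u =>
      ⟨key y hyP hy1 u, fun hu => ?_⟩⟩)
    simpa [mul_assoc] using key y⁻¹ (inv_mem hyP) (inv_mem hy1) _ hu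
  exact ⟨hn, fun u hu g hg => hmove g u hu (hn hg)⟩

/-- The Frattini subgroup of `P` inside `G`. -/
def phi (P : Subgroup G) : Subgroup G := (frattini P).map P.subtype

theorem mem_phi {P : Subgroup G} {a : G} (ha : a ∈ P) :
    a ∈ phi P ↔ (⟨a, ha⟩ : P) ∈ frattini P :=
  ⟨fun ⟨b, hb, e⟩ => (Subtype.ext e : b = ⟨a, ha⟩) ▸ hb, fun h => ⟨_, h, rfl⟩⟩

theorem exists_member_ge (P : Sylow p G) {d s : ℕ} (hd : d = p ^ s) {M : Subgroup G}
    (hM : M ≤ (P : Subgroup G)) (hdM : d ≤ Nat.card M) {u : G} (hu : u ∈ M)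
    (hud : orderOf u ∣ d) : ∃ E ≤ M, Nat.card E = d ∧ u ∈ E := by
  obtain ⟨n, hn⟩ := IsPGroup.iff_card.1 (P.2.to_le hM)
  obtain ⟨i, hi, hui⟩ := (Nat.dvd_prime_pow hp.out).1 (hd ▸ hud)
  have hsn : s ≤ n := by
    rw [hd, hn] at hdM
    exact (Nat.pow_le_pow_iff_right hp.out.one_lt).1 hdM
  obtain ⟨K, hK, hle⟩ := Sylow.exists_subgroup_card_pow_prime_le p
    (hn ▸ pow_dvd_pow p hsn : p ^ s ∣ Nat.card M) (zpowers (⟨u, hu⟩ : M))
    (by rw [Nat.card_zpowers, Subgroup.orderOf_mk, hui]) hi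
  refine ⟨K.map M.subtype, map_subtype_le _, ?_, ⟨⟨u, hu⟩, hle (mem_zpowers _), rfl⟩⟩
  rw [card_map_of_injective M.subtype_injective, hK, hd]

/-- A conjugate in `P` of a small element lies on its line modulo the Frattini subgroup. -/
theorem line (P : Sylow p G) {d s : ℕ} (hd : d = p ^ s) (hdP : d < Nat.card (P : Subgroup G))
    (hC : Closed (P : Subgroup G) d) {u g : G} (hu : u ∈ (P : Subgroup G)) (hud : orderOf u ∣ d)
    (hv : g * u * g⁻¹ ∈ (P : Subgroup G)) :
    (⟨g * u * g⁻¹, hv⟩ : ↥(P : Subgroup G)) ∈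
      frattini ↥(P : Subgroup G) ⊔ zpowers (⟨u, hu⟩ : ↥(P : Subgroup G)) := by
  by_contra hnot
  set L := frattini ↥(P : Subgroup G) ⊔ zpowers (⟨u, hu⟩ : ↥(P : Subgroup G))
  set v : ↥(P : Subgroup G) := ⟨g * u * g⁻¹, hv⟩
  obtain ⟨M, hLM, hMmax⟩ := exists_maximal_ge_of_wellFoundedGT
    (fun M : Subgroup ↥(P : Subgroup G) => L ≤ M ∧ v ∉ M) L ⟨le_rfl, hnot⟩
  obtain ⟨hL, hvM⟩ := hMmax.prop
  have hΦ : frattini ↥(P : Subgroup G) ≤ M := le_sup_left.trans hL
  have hco : IsCoatom M := by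
    refine ⟨fun e => hvM (e ▸ mem_top _), fun H hH => ?_⟩
    have hvH : ∀ K, M < K → v ∈ K := fun K hK => by
      by_contra hh
      exact hK.ne (hMmax.eq_of_le ⟨hL.trans hK.le, hh⟩ hK.le)
    refine eq_top_iff.2 fun b _ => ?_
    by_cases hb : b ∈ M
    · exact hH.le hb
    haveI : M.Normal := Subgroup.Normal.of_commutator_le _ ((CfsgLib.Coprime.commutator_le_frattini P.2).trans hΦ)
    have hbv := hvH (M ⊔ zpowers b) (lt_of_le_of_ne le_sup_left fun e =>
      hb (e ▸ Subgroup.mem_sup_right (mem_zpowers b)))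
    obtain ⟨m, hm, c, hc, hmc⟩ := Subgroup.mem_sup_of_normal_left.1 hbv
    obtain ⟨k, rfl⟩ := mem_zpowers_iff.1 hc
    have hbk : b ^ k ∈ H := by
      have := mul_mem (inv_mem (hH.le hm)) (hvH H hH)
      rwa [← hmc, inv_mul_cancel_left] at this
    have hbp : b ^ (p : ℤ) ∈ H := by
      rw [zpow_natCast]; exact hH.le (hΦ (CfsgLib.Coprime.pow_mem_frattini P.2 b))
    have hcop : IsCoprime k (p : ℤ) := by
      refine ((Nat.prime_iff_prime_int.1 hp.out).coprime_iff_not_dvd.2 fun ⟨j, hj⟩ => hvM ?_).symm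
      rw [← hmc, hj, zpow_mul, zpow_natCast]
      exact mul_mem hm (zpow_mem (hΦ (CfsgLib.Coprime.pow_mem_frattini P.2 b)) j)
    obtain ⟨x, y, hxy⟩ := hcop
    rw [← zpow_one b, ← hxy, zpow_add, mul_comm x, mul_comm y, zpow_mul, zpow_mul]
    exact mul_mem (zpow_mem hbk x) (zpow_mem hbp y)
  obtain ⟨-, hidx⟩ := CfsgLib.Coprime.coatom_data_of_pGroup P.2 hco
  have hcard : d ≤ Nat.card (M.map (P : Subgroup G).subtype) := by
    rw [card_map_of_injective (Subgroup.subtype_injective _)]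
    obtain ⟨n, hn⟩ := IsPGroup.iff_card.1 P.2
    have h1 := M.card_mul_index
    rw [hidx, hn] at h1
    rw [hd, hn] at hdP
    have hsn := (Nat.pow_lt_pow_iff_right hp.out.one_lt).1 hdP
    rw [hd]
    refine Nat.le_of_mul_le_mul_right (c := p) ?_ hp.out.pos
    rw [h1, ← pow_succ]
    exact Nat.pow_le_pow_right hp.out.pos hsn
  obtain ⟨E, hEM, hE, huE⟩ := exists_member_ge P hd (map_subtype_le _) hcard
    ⟨⟨u, hu⟩, hL (Subgroup.mem_sup_right (mem_zpowers _)), rfl⟩ hud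
  obtain ⟨w, hw, hwv⟩ := hEM ((hC E (hEM.trans (map_subtype_le _)) (Or.inl hE)).2 u huE g hv)
  exact hvM ((Subtype.ext hwv : w = v) ▸ hw)

omit hp in
theorem conj_eq_of_cyclic {C : Subgroup G} [IsCyclic C] {x : G} (hx : x ∈ normalizer (C : Set G))
    (hcop : (orderOf x).Coprime (Nat.totient (Nat.card C))) : ∀ c ∈ C, x * c * x⁻¹ = c := by
  intro c hc
  have h : Subgroup.normalizerMonoidHom C ⟨x, hx⟩ = 1 := by
    refine orderOf_eq_one_iff.1 (Nat.eq_one_of_dvd_coprimes hcop ?_ ?_)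
    · refine (orderOf_map_dvd _ _).trans ?_
      rw [Subgroup.orderOf_mk]
    · rw [← IsCyclic.card_mulAut]; exact orderOf_dvd_natCard _
  exact congrArg Subtype.val (DFunLike.congr_fun h ⟨c, hc⟩)

theorem coprime_totient (P : Sylow p G) {x : G} (hxp : ¬ p ∣ orderOf x)
    (hmin : ∀ q : ℕ, q.Prime → q ∣ Nat.card G → p ≤ q) {C : Subgroup G} (hC : C ≤ (P : Subgroup G)) :
    (orderOf x).Coprime (Nat.totient (Nat.card C)) := by
  obtain ⟨n, hn⟩ := IsPGroup.iff_card.1 (P.2.to_le hC)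
  rw [hn]
  rcases n with _ | n
  · simp
  rw [Nat.totient_prime_pow_succ hp.out]
  refine Nat.Coprime.mul_right ((hp.out.coprime_iff_not_dvd.2 hxp).symm.pow_right n) ?_
  refine Nat.coprime_of_dvd fun q hq hq1 hq2 => ?_
  have h1 := hmin q hq (hq1.trans (orderOf_dvd_natCard x))
  have h2 := Nat.le_of_dvd (by have := hp.out.two_le; omega) hq2
  have := hp.out.two_le
  omega

/-- A `p'`-element normalizing a cyclic member centralizes it. -/
theorem fix_member (P : Sylow p G) {d : ℕ} (hC : Closed (P : Subgroup G) d) {T : Subgroup G}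
    (hT : T ≤ (P : Subgroup G)) {x : G} (hx : x ∈ normalizer (T : Set G)) (hxp : ¬ p ∣ orderOf x)
    (hmin : ∀ q : ℕ, q.Prime → q ∣ Nat.card G → p ≤ q) {c : G} (hc : c ∈ T)
    (hm : Member d (zpowers c)) : x * c * x⁻¹ = c := by
  have hle : zpowers c ≤ T := zpowers_le.2 hc
  have hone : ∀ y : G, y ∈ normalizer (T : Set G) → ∀ u ∈ zpowers c, y * u * y⁻¹ ∈ zpowers c :=
    fun y hy u hu => (hC _ (hle.trans hT) hm).2 u hu y
      (hT ((Subgroup.mem_normalizer_iff.1 hy u).1 (hle hu)))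
  have hxC : x ∈ normalizer (zpowers c : Set G) := Subgroup.mem_normalizer_iff.2 fun u =>
    ⟨hone x hx u, fun h => by simpa [mul_assoc] using hone x⁻¹ (inv_mem hx) _ h⟩
  exact conj_eq_of_cyclic hxC (coprime_totient P hxp hmin (hle.trans hT)) c (mem_zpowers c)

/-- A `p'`-element of the normalizer of `T ≤ P` is trivial on `T` modulo the Frattini subgroup. -/
theorem local_trivial (P : Sylow p G) {d s : ℕ} (hd : d = p ^ s) (hs : s ≠ 0)
    (hdP : d < Nat.card (P : Subgroup G)) (hC : Closed (P : Subgroup G) d)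
    (hmin : ∀ q : ℕ, q.Prime → q ∣ Nat.card G → p ≤ q) {T : Subgroup G} (hT : T ≤ (P : Subgroup G))
    {x : G} (hx : x ∈ normalizer (T : Set G)) (hxp : ¬ p ∣ orderOf x) :
    ∀ a ∈ T, a⁻¹ * (x * a * x⁻¹) ∈ phi (P : Subgroup G) := by
  have hxT : ∀ a ∈ T, x * a * x⁻¹ ∈ T := fun a ha => (Subgroup.mem_normalizer_iff.1 hx a).1 ha
  by_cases hall : ∀ a ∈ T, orderOf a ∣ d
  · -- everything is small
    haveI hFn : (frattini ↥(P : Subgroup G)).Normal := inferInstance
    let π := QuotientGroup.mk' (frattini ↥(P : Subgroup G))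
    let emb : T →* ↥(P : Subgroup G) := Subgroup.inclusion hT
    let θ : T →* T := (Subgroup.normalizerMonoidHom T ⟨x, hx⟩).toMonoidHom
    have hθ : ∀ a : T, (θ a : G) = x * a * x⁻¹ := fun a => rfl
    have hline : ∀ a : T, ∃ k : ℕ, π (emb (θ a)) = π (emb a) ^ k := by
      intro a
      have h := line P hd hdP hC (g := x) (hT a.2) (hall a a.2) (hT (hxT a a.2))
      obtain ⟨f, hf, c, hc, hfc⟩ := Subgroup.mem_sup_of_normal_left.1 h
      obtain ⟨k, rfl⟩ : ∃ k : ℕ, emb a ^ k = c :=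
        ((isOfFinOrder_of_finite (emb a)).mem_powers_iff_mem_zpowers).2 hc
      refine ⟨k, ?_⟩
      rw [show emb (θ a) = f * emb a ^ k from hfc.symm, map_mul, map_pow,
        show π f = 1 from (QuotientGroup.eq_one_iff f).2 hf, one_mul]
    intro a ha
    obtain ⟨k, hk⟩ := hline ⟨a, ha⟩
    set w := π (emb ⟨a, ha⟩) with hw
    suffices hfix : π (emb (θ ⟨a, ha⟩)) = w by
      refine (mem_phi (mul_mem (inv_mem (hT ha)) (hT (hxT a ha)))).2 ?_
      exact QuotientGroup.eq.1 hfix.symm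
    by_cases hw1 : w = 1
    · rw [hk, hw1, one_pow]
    have hwp : orderOf w = p := orderOf_eq_prime
      (by rw [hw, ← map_pow]; exact (QuotientGroup.eq_one_iff _).2 (CfsgLib.Coprime.pow_mem_frattini P.2 _)) hw1
    have hiter : ∀ j : ℕ, π (emb (θ^[j] ⟨a, ha⟩)) = w ^ (k ^ j) := by
      intro j
      induction j with
      | zero => simp [hw]
      | succ j ihj =>
        rw [Function.iterate_succ_apply']
        obtain ⟨f, hf⟩ : ∃ f : T, θ^[j] ⟨a, ha⟩ = ⟨a, ha⟩ ^ (k ^ j) * f := ⟨_, (mul_inv_cancel_left _ _).symm⟩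
        have hf1 : π (emb f) = 1 := by
          rw [hf, map_mul, map_mul, map_pow, map_pow, ← hw] at ihj
          exact mul_eq_left.1 ihj
        obtain ⟨i, hi⟩ := hline f
        rw [hf, map_mul, map_mul, map_mul, map_pow, map_pow, map_pow, hk, hi, hf1, one_pow, mul_one,
          ← pow_mul, pow_succ']
    have hper : θ^[orderOf x] ⟨a, ha⟩ = ⟨a, ha⟩ := by
      have : ∀ j : ℕ, (θ^[j] ⟨a, ha⟩ : G) = x ^ j * a * (x ^ j)⁻¹ := by
        intro j
        induction j with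
        | zero => simp
        | succ j ihj => rw [Function.iterate_succ_apply', hθ, ihj, pow_succ']; group
      exact Subtype.ext (by rw [this, pow_orderOf_eq_one]; simp)
    have h1 := hiter (orderOf x)
    rw [hper, ← hw] at h1
    have h2 : (k : ZMod p) ^ orderOf x = 1 := by
      have := (ZMod.natCast_eq_natCast_iff _ _ _).2
        (hwp ▸ pow_eq_pow_iff_modEq.1 (h1.symm.trans (pow_one w).symm))
      simpa using this
    have h3 : (k : ZMod p) = 1 := by
      have hcop : (orderOf x).Coprime (p - 1) := by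
        refine Nat.coprime_of_dvd fun q hq hq1 hq2 => ?_
        have := hmin q hq (hq1.trans (orderOf_dvd_natCard x))
        have := hp.out.two_le
        have := Nat.le_of_dvd (by omega) hq2
        omega
      have h0 : (k : ZMod p) ≠ 0 := by
        intro e
        rw [e, zero_pow (orderOf_pos x).ne'] at h2
        exact zero_ne_one h2
      have := (pow_gcd_eq_one (a := (k : ZMod p))).2 ⟨h2, ZMod.pow_card_sub_one_eq_one h0⟩
      rwa [Nat.coprime_iff_gcd_eq_one.1 hcop, pow_one] at this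
    rw [hk]
    conv_rhs => rw [← pow_one w]
    rw [pow_eq_pow_iff_modEq, hwp, ← ZMod.natCast_eq_natCast_iff, h3, Nat.cast_one]
  -- some element is large: `x` centralizes `T`
  push Not at hall
  obtain ⟨a, ha, had⟩ := hall
  obtain ⟨i, hi⟩ := IsPGroup.iff_orderOf.1 (P.2.to_le hT) ⟨a, ha⟩
  rw [Subgroup.orderOf_mk] at hi
  have hsi : s < i := by
    by_contra hh
    exact had (hd ▸ hi ▸ pow_dvd_pow p (not_lt.1 hh))
  set c := a ^ p ^ (i - s) with hc
  have hcT : c ∈ T := pow_mem ha _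
  have hco : orderOf c = d := by
    rw [hc, orderOf_pow_of_dvd (pow_ne_zero _ hp.out.ne_zero) (hi ▸ pow_dvd_pow p (Nat.sub_le i s)),
      hi, Nat.pow_div (Nat.sub_le i s) hp.out.pos, hd]
    congr 1; omega
  have hcm : Member d (zpowers c) := Or.inl (by rw [Nat.card_zpowers, hco])
  have hxc : x * c * x⁻¹ = c := fix_member P hC hT hx hxp hmin hcT hcm
  set T₁ := T ⊓ centralizer ({c} : Set G) with hT₁
  have hcn : ∀ t ∈ T, t ∈ normalizer (zpowers c : Set G) := fun t ht =>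
    (hC _ ((zpowers_le.2 hcT).trans hT) hcm).1 (hT ht)
  have hxc2 : x * c = c * x := by rw [← mul_inv_eq_iff_eq_mul]; exact hxc
  have hxC : x ∈ centralizer ({c} : Set G) := Subgroup.mem_centralizer_singleton_iff.2 hxc2
  have hx1 : x ∈ normalizer (T₁ : Set G) := CfsgLib.Coprime.inf_le_normalizer
    (A := zpowers x) (zpowers_le.2 hx) ((zpowers_le.2 hxC).trans le_normalizer) (mem_zpowers x)
  have hsmall : ∀ z ∈ T₁, z ^ CfsgLib.PGroup.smallExp p = 1 → Commute x z := by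
    intro z hz hze
    obtain ⟨hzT, hzc⟩ := Subgroup.mem_inf.1 hz
    have hcomm : Commute z c := Subgroup.mem_centralizer_singleton_iff.1 hzc
    obtain ⟨j, hj⟩ := IsPGroup.iff_orderOf.1 (P.2.to_le hT) ⟨z, hzT⟩
    rw [Subgroup.orderOf_mk] at hj
    have hje : p ^ j ∣ CfsgLib.PGroup.smallExp p := hj ▸ orderOf_dvd_of_pow_eq_one hze
    have hfix : ∀ w ∈ T, Member d (zpowers w) → Commute x w := fun w hw hm =>
      mul_inv_eq_iff_eq_mul.1 (fix_member P hC hT hx hxp hmin hw hm)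
    by_cases hjs : j < s
    · have hzs : z ^ p ^ (s - 1) = 1 := by
        rw [← orderOf_dvd_iff_pow_eq_one, hj]; exact pow_dvd_pow p (by omega)
      have hzc' : orderOf (z * c) = d := by
        obtain ⟨t, rfl⟩ := Nat.exists_eq_succ_of_ne_zero hs
        rw [hd]
        refine orderOf_eq_prime_pow ?_ ?_
        · rw [hcomm.mul_pow]
          simp only [Nat.succ_eq_add_one, Nat.add_sub_cancel] at hzs
          rw [hzs, one_mul]
          exact pow_ne_one_of_lt_orderOf (pow_ne_zero _ hp.out.ne_zero)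
            (by rw [hco, hd]; exact Nat.pow_lt_pow_right hp.out.one_lt (Nat.lt_succ_self t))
        · rw [hcomm.mul_pow, orderOf_dvd_iff_pow_eq_one.1 (hj ▸ pow_dvd_pow p (by omega) : orderOf z ∣ _),
            one_mul, ← hd, ← hco, pow_orderOf_eq_one]
      have := (hfix (z * c) (mul_mem hzT hcT) (Or.inl (by rw [Nat.card_zpowers, hzc']))).mul_right
        (show Commute x c from hxc2).inv_right
      rwa [mul_inv_cancel_right] at this
    · refine hfix z hzT ?_
      rw [Member, Nat.card_zpowers, hj, hd]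
      by_cases hjs' : j = s
      · exact Or.inl (by rw [hjs'])
      refine Or.inr ?_
      have hlt : s < j := by omega
      unfold CfsgLib.PGroup.smallExp at hje
      split_ifs at hje with h2
      · subst h2
        have : j ≤ 2 := (Nat.pow_dvd_pow_iff_le_right one_lt_two).1 (show 2 ^ j ∣ 2 ^ 2 from hje)
        obtain rfl : j = 2 := by omega
        obtain rfl : s = 1 := by omega
        norm_num
      · have : j ≤ 1 := (Nat.pow_dvd_pow_iff_le_right hp.out.two_le).1 (by rwa [pow_one])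
        omega
  have hcent := CfsgLib.PGroup.commute_of_fix_smallExp (P.2.to_le ((inf_le_left : T₁ ≤ T).trans hT))
    hx1 hxp hsmall
  intro t ht
  set w := x * t * x⁻¹ * t⁻¹ with hw
  have hfix1 : ∀ u ∈ T₁, x * u * x⁻¹ = u := fun u hu =>
    mul_inv_eq_iff_eq_mul.2 (Subgroup.mem_centralizer_iff.1 hcent u hu).symm
  have hTn : ∀ y ∈ T, ∀ u ∈ T₁, y * u * y⁻¹ ∈ T₁ := by
    intro y hy u hu
    obtain ⟨huT, huc⟩ := Subgroup.mem_inf.1 hu
    refine Subgroup.mem_inf.2 ⟨mul_mem (mul_mem hy huT) (inv_mem hy), ?_⟩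
    rw [Subgroup.mem_centralizer_singleton_iff] at huc ⊢
    obtain ⟨n, hn⟩ := mem_zpowers_iff.1
      ((Subgroup.mem_normalizer_iff.1 (inv_mem (hcn y hy)) c).1 (mem_zpowers c))
    simp only [inv_inv] at hn
    have hcu : Commute u (y⁻¹ * c * y) := hn ▸ Commute.zpow_right huc n
    calc y * u * y⁻¹ * c = y * (u * (y⁻¹ * c * y)) * y⁻¹ := by group
      _ = y * ((y⁻¹ * c * y) * u) * y⁻¹ := by rw [hcu.eq]
      _ = c * (y * u * y⁻¹) := by group
  have hwT : w ∈ T := mul_mem (hxT t ht) (inv_mem ht)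
  have hcT₁ : c ∈ T₁ := Subgroup.mem_inf.2 ⟨hcT, Subgroup.mem_centralizer_singleton_iff.2 rfl⟩
  have hwc : ∀ u ∈ T₁, w * u = u * w := by
    intro u hu
    have h := hfix1 _ (hTn t⁻¹ (inv_mem ht) u hu)
    rw [inv_inv] at h
    rw [← mul_inv_eq_iff_eq_mul]
    calc w * u * w⁻¹ = x * t * (x⁻¹ * (t⁻¹ * u * t) * x) * t⁻¹ * x⁻¹ := by rw [hw]; group
      _ = x * t * (x⁻¹ * (x * (t⁻¹ * u * t) * x⁻¹) * x) * t⁻¹ * x⁻¹ := by rw [h]
      _ = x * u * x⁻¹ := by group
      _ = u := hfix1 u hu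
  have hw₁ : w ∈ T₁ := Subgroup.mem_inf.2 ⟨hwT, Subgroup.mem_centralizer_singleton_iff.2 (hwc c hcT₁)⟩
  have hit : ∀ j : ℕ, x ^ j * t * (x ^ j)⁻¹ = w ^ j * t := by
    intro j
    induction j with
    | zero => simp
    | succ j ihj =>
      calc x ^ (j + 1) * t * (x ^ (j + 1))⁻¹ = x * (x ^ j * t * (x ^ j)⁻¹) * x⁻¹ := by rw [pow_succ']; group
        _ = (x * w ^ j * x⁻¹) * (x * t * x⁻¹) := by rw [ihj]; group
        _ = w ^ j * (x * t * x⁻¹) := by rw [hfix1 _ (pow_mem hw₁ j)]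
        _ = w ^ j * (w * t) := by rw [show w * t = x * t * x⁻¹ by rw [hw]; group]
        _ = w ^ (j + 1) * t := by rw [pow_succ]; group
  have hw0 : w = 1 := by
    have h1 := hit (orderOf x)
    rw [pow_orderOf_eq_one, one_mul, inv_one, mul_one, eq_comm, mul_eq_right] at h1
    obtain ⟨j, hj⟩ := IsPGroup.iff_orderOf.1 (P.2.to_le hT) ⟨w, hwT⟩
    rw [Subgroup.orderOf_mk] at hj
    refine orderOf_eq_one_iff.1 (Nat.eq_one_of_dvd_coprimes
      ((hp.out.coprime_iff_not_dvd.2 hxp).pow_left j) (hj.dvd) (orderOf_dvd_of_pow_eq_one h1))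
  rw [show x * t * x⁻¹ = t by rw [show x * t * x⁻¹ = w * t by rw [hw]; group, hw0, one_mul],
    inv_mul_cancel]
  exact one_mem _

/-- Elements of `N(T)` acting trivially on `T` modulo `F`. -/
def trivMod (T F : Subgroup G) : Subgroup G where
  carrier := {y | y ∈ normalizer (T : Set G) ∧ ∀ a ∈ T, a⁻¹ * (y * a * y⁻¹) ∈ F}
  one_mem' := ⟨one_mem _, fun a _ => by simp⟩
  mul_mem' := by
    rintro y z ⟨hy, hy'⟩ ⟨hz, hz'⟩
    refine ⟨mul_mem hy hz, fun a ha => ?_⟩
    have := mul_mem (hz' a ha) (hy' _ ((Subgroup.mem_normalizer_iff.1 hz a).1 ha))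
    rwa [show a⁻¹ * (z * a * z⁻¹) * ((z * a * z⁻¹)⁻¹ * (y * (z * a * z⁻¹) * y⁻¹)) =
      a⁻¹ * (y * z * a * (y * z)⁻¹) by group] at this
  inv_mem' := by
    rintro y ⟨hy, hy'⟩
    refine ⟨inv_mem hy, fun a ha => ?_⟩
    have := inv_mem (hy' _ ((Subgroup.mem_normalizer_iff.1 (inv_mem hy) a).1 ha))
    simpa [mul_assoc] using this

theorem pComplement_of_closed (P : Sylow p G) {d s : ℕ} (hd : d = p ^ s) (hs : s ≠ 0)
    (hdP : d < Nat.card (P : Subgroup G)) (hC : Closed (P : Subgroup G) d)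
    (hmin : ∀ q : ℕ, q.Prime → q ∣ Nat.card G → p ≤ q) : Cfsg.HasNormalPComplement p G := by
  set F := phi (P : Subgroup G) with hF
  have hcommF : ∀ a ∈ (P : Subgroup G), ∀ b ∈ (P : Subgroup G), a⁻¹ * (b * a * b⁻¹) ∈ F := by
    intro a ha b hb
    refine (mem_phi (mul_mem (inv_mem ha) (mul_mem (mul_mem hb ha) (inv_mem hb)))).2 ?_
    have := CfsgLib.Coprime.commutator_le_frattini P.2
      (Subgroup.commutator_mem_commutator (Subgroup.mem_top (⟨a, ha⟩ : ↥(P : Subgroup G))⁻¹)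
        (Subgroup.mem_top (⟨b, hb⟩ : ↥(P : Subgroup G))))
    convert this using 1
    apply Subtype.ext
    simp [commutatorElement_def, mul_assoc]
  let 𝓕 : Set (Subgroup G) := {U | U ≤ (P : Subgroup G) ∧
    ¬ p ∣ ((P : Subgroup G) ⊓ normalizer (U : Set G)).relIndex (normalizer (U : Set G))}
  have hloc : ∀ U ∈ 𝓕, normalizer (U : Set G) ≤ trivMod U F := by
    rintro U ⟨hUP, hfull⟩ y hy
    set N := normalizer (U : Set G)
    let S : Sylow p N := ((P.2.to_le (inf_le_left (b := N))).of_equiv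
      (Subgroup.subgroupOfEquivOfLe inf_le_right).symm).toSylow hfull
    haveI := CfsgLib.Fusion.pResidual_normal (G := N) (p := p)
    have htop := (CfsgLib.Fusion.pResidual_sup_sylow S).symm ▸ Subgroup.mem_top (⟨y, hy⟩ : N)
    obtain ⟨c, hc, v, hv, hcv⟩ := Subgroup.mem_sup_of_normal_left.1 htop
    rw [← show (c : G) * (v : G) = y from congrArg Subtype.val hcv]
    refine mul_mem ?_ ⟨v.2, fun a ha => hcommF a (hUP ha) _ (Subgroup.mem_inf.1 hv).1⟩
    have hle : Cfsg.pResidual p N ≤ (trivMod U F).subgroupOf N :=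
      (Subgroup.closure_le _).2 fun z hz => ⟨z.2, local_trivial P hd hs hdP hC hmin hUP z.2
        (by rw [Subgroup.subtype_apply, Subgroup.orderOf_coe]; exact hp.out.coprime_iff_not_dvd.1 (Nat.Coprime.symm hz))⟩
    exact hle hc
  have hfac : ∀ {A : Set G} {g : G}, CfsgLib.CFun.Factors 𝓕 A g →
      ∀ a ∈ A, a⁻¹ * (g⁻¹ * a * g) ∈ F := by
    intro A g hA
    induction hA with
    | nil A => intro a _; simp
    | cons A T x g hT hx hAT _ ih =>
      intro a ha
      have h1 := (hloc T hT (inv_mem hx)).2 a (hAT ha)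
      rw [inv_inv] at h1
      have := mul_mem h1 (ih _ ⟨a, ha, rfl⟩)
      rwa [show a⁻¹ * (x⁻¹ * a * x) * ((x⁻¹ * a * x)⁻¹ * (g⁻¹ * (x⁻¹ * a * x) * g)) =
        a⁻¹ * ((x * g)⁻¹ * a * (x * g)) by group] at this
  have hfus : ∀ a ∈ (P : Subgroup G), ∀ g : G, g⁻¹ * a * g ∈ (P : Subgroup G) →
      a⁻¹ * (g⁻¹ * a * g) ∈ F := by
    intro a ha g hg
    refine hfac (CfsgLib.CFun.factors_of_criterion P (fun U hU => hU.1) (fun T hT => ?_) _
      (zpowers a) (zpowers_le.2 ha) rfl g ?_) a (mem_zpowers a)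
    · obtain ⟨k, hk, -, hk'⟩ := CfsgLib.Fusion.exists_conj_fully_normalized P hT
      exact ⟨_, ⟨hk, hk'⟩, ⟨k, rfl⟩, hk'⟩
    · refine CfsgLib.Fusion.conjBy_le_iff.2 fun z hz => ?_
      obtain ⟨n, rfl⟩ := mem_zpowers_iff.1 hz
      rw [inv_inv, show g⁻¹ * a ^ n * g = (g⁻¹ * a * g) ^ n by
        simpa using (conj_zpow (a := g⁻¹) (b := a) (i := n)).symm]
      exact zpow_mem hg n
  haveI := CfsgLib.Fusion.pResidual_normal (G := G) (p := p)
  have hle : Cfsg.pResidual p G ⊓ (P : Subgroup G) ≤ F := by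
    rw [inf_comm]
    refine (CfsgLib.Fusion.inf_pResidual_le_closure P).trans ((Subgroup.closure_le _).2 ?_)
    rintro z ⟨a, ha, u, -, hau, rfl⟩
    have h1 : u * a⁻¹ * u⁻¹ ∈ (P : Subgroup G) := by
      have h4 := mul_mem ((P : Subgroup G).inv_mem ha.1) hau.1
      rwa [commutatorElement_def, show a⁻¹ * (a * u * a⁻¹ * u⁻¹) = u * a⁻¹ * u⁻¹ by group] at h4
    have := hfus a⁻¹ ((P : Subgroup G).inv_mem ha.1) u⁻¹ (by rwa [inv_inv])
    rw [inv_inv, inv_inv] at this
    rwa [SetLike.mem_coe, commutatorElement_def, show a * u * a⁻¹ * u⁻¹ = a * (u * a⁻¹ * u⁻¹) by group]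
  have h2 := CfsgLib.Fusion.hasNormalPComplement_of_inf_le_frattini P _ hle
  rw [CfsgLib.Fusion.hasNormalPComplement_iff_not_dvd, CfsgLib.Fusion.pResidual_pResidual, card_top] at h2
  exact CfsgLib.Fusion.hasNormalPComplement_iff_not_dvd.2 h2

/-- The cyclic case. -/
theorem pComplement_of_cyclic (P : Sylow p G) [IsCyclic ↥(P : Subgroup G)]
    (hmin : ∀ q : ℕ, q.Prime → q ∣ Nat.card G → p ≤ q) : Cfsg.HasNormalPComplement p G := by
  refine CfsgLib.Fusion.hasNormalPComplement_of_locallyPNilpotentAction P fun Q hQ x hx hxp => ?_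
  haveI : IsCyclic Q := isCyclic_of_injective (Subgroup.inclusion hQ) (Subgroup.inclusion_injective hQ)
  refine Subgroup.mem_centralizer_iff.2 fun c hc => ?_
  exact (mul_inv_eq_iff_eq_mul.1 (conj_eq_of_cyclic hx
    (coprime_totient P (hp.out.coprime_iff_not_dvd.1 hxp.symm) hmin hQ) c hc)).symm

/-- Let G be a finite group, p the smallest prime dividing |G| and P a Sylow p-subgroup. Suppose that P is cyclic, or that P has a subgroup D with 1 < |D| < |P| such that every subgroup E of P of order |D|, and also every subgroup E of P of order 4 when |D| = 2, satisfies g E g⁻¹ ∩ N_G(E) ≤ E for all g ∈ G (E is strongly closed in its normalizer with respect to G). Then G has a normal p-complement. -/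
theorem result {G : Type*} [Group G] [Finite G] {p : ℕ} [Fact p.Prime] (hdiv : p ∣ Nat.card G)
    (hmin : ∀ q : ℕ, q.Prime → q ∣ Nat.card G → p ≤ q) (P : Sylow p G)
    (h : IsCyclic ↥(P : Subgroup G) ∨ ∃ D : Subgroup G, D ≤ (P : Subgroup G) ∧ 1 < Nat.card D ∧ Nat.card D < Nat.card (P : Subgroup G) ∧
      ∀ E : Subgroup G, E ≤ (P : Subgroup G) → (Nat.card E = Nat.card D ∨ (Nat.card D = 2 ∧ Nat.card E = 4)) →
        ∀ g : G, E.map (MulAut.conj g).toMonoidHom ⊓ Subgroup.normalizer (E : Set G) ≤ E) :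
    Cfsg.HasNormalPComplement p G := by
  rcases h with hc | ⟨D, hDP, hD1, hD2, hE⟩
  · haveI := hc
    exact pComplement_of_cyclic P hmin
  · obtain ⟨s, hs⟩ := IsPGroup.iff_card.1 (P.2.to_le hDP)
    refine pComplement_of_closed P hs ?_ hD2 (closed_of_hyp P fun E hE' hm => hE E hE' hm) hmin
    rintro rfl
    rw [hs, pow_zero] at hD1
    exact lt_irrefl 1 hD1

end Cfsg.Agent.S3031
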