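import Cfsg.Statements.S3032
import Cfsg.Agent.S3031
import Cfsg.Agent.Lib.Coprime.SupersolvableCriteria
import Cfsg.Agent.Lib.Coprime.FrattiniExtra
import Cfsg.Agent.Lib.Coprime.PGroupFrattini
import Cfsg.Agent.Lib.Coprime.Action
import Cfsg.Agent.Lib.PGroup.ElementaryBasic
import Cfsg.Agent.Lib.PGroup.SmallElementsIndex
import Mathlib.LinearAlgebra.Eigenspace.Minpoly
import Mathlib.FieldTheory.Finite.Basic
import Mathlib.Algebra.Module.ZMod


set_option autoImplicit false
open Cfsg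

namespace Cfsg.Agent.S3032

open Subgroup
open Cfsg.Agent.S3031 (Member)

universe u

section
variable {G : Type u} [Group G] [Finite G] {p : ℕ} [hp : Fact p.Prime]

/-- Subgroup generated by the commutators and the `(p-1)`-st powers. -/
def dSub (p : ℕ) (G : Type u) [Group G] : Subgroup G :=
  Subgroup.closure ((commutator G : Set G) ∪ Set.range fun g : G => g ^ (p - 1))

theorem commutator_le_dSub : commutator G ≤ dSub p G :=
  fun _ h => Subgroup.subset_closure (Or.inl h)

theorem pow_mem_dSub (g : G) : g ^ (p - 1) ∈ dSub p G :=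
  Subgroup.subset_closure (Or.inr ⟨g, rfl⟩)

theorem dSub_normal : (dSub p G).Normal := Subgroup.Normal.of_commutator_le _ commutator_le_dSub

omit [Finite G] hp in
theorem member_containing [Finite G] [Fact p.Prime] {P : Subgroup G} (hP : IsPGroup p P) {d s : ℕ}
    (hd : d = p ^ s) (hdP : d ≤ Nat.card P) {K : Subgroup G} (hK : K ≤ P) (hKd : Nat.card K ∣ d) :
    ∃ F ≤ P, Nat.card F = d ∧ K ≤ F := by
  obtain ⟨n, hn⟩ := IsPGroup.iff_card.1 hP
  obtain ⟨i, hi, hui⟩ := (Nat.dvd_prime_pow Fact.out).1 (hd ▸ hKd)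
  have hsn : s ≤ n := by
    rw [hd, hn] at hdP
    exact (Nat.pow_le_pow_iff_right (Fact.out : p.Prime).one_lt).1 hdP
  obtain ⟨F, hF, hle⟩ := Sylow.exists_subgroup_card_pow_prime_le p
    (hn ▸ pow_dvd_pow p hsn : p ^ s ∣ Nat.card P) (K.subgroupOf P)
    (by rw [Nat.card_congr (Subgroup.subgroupOfEquivOfLe hK).toEquiv, hui]) hi
  refine ⟨F.map P.subtype, map_subtype_le _, ?_, ?_⟩
  · rw [card_map_of_injective P.subtype_injective, hF, hd]
  · exact fun k hk => ⟨⟨k, hK hk⟩, hle (Subgroup.mem_subgroupOf.2 hk), rfl⟩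

theorem step {P M : Subgroup G} (hP : IsPGroup p P) (hMP : M ≤ P) {x : G}
    (hx : ¬ p ∣ orderOf x) (hM : ∀ m ∈ M, Commute x m)
    (hmod : ∀ u ∈ P, x * u * x⁻¹ * u⁻¹ ∈ M) : ∀ u ∈ P, Commute x u := by
  intro u hu
  set w := x * u * x⁻¹ * u⁻¹ with hw
  have hwM : w ∈ M := hmod u hu
  have hit : ∀ j : ℕ, x ^ j * u * (x ^ j)⁻¹ = w ^ j * u := by
    intro j
    induction j with
    | zero => simp
    | succ j ihj =>
      calc x ^ (j + 1) * u * (x ^ (j + 1))⁻¹ = x * (x ^ j * u * (x ^ j)⁻¹) * x⁻¹ := by rw [pow_succ']; group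
        _ = (x * w ^ j * x⁻¹) * (x * u * x⁻¹) := by rw [ihj]; group
        _ = w ^ j * (x * u * x⁻¹) := by rw [(hM _ (pow_mem hwM j)).eq, mul_inv_cancel_right]
        _ = w ^ j * (w * u) := by rw [show w * u = x * u * x⁻¹ by rw [hw]; group]
        _ = w ^ (j + 1) * u := by rw [pow_succ]; group
  have h1 := hit (orderOf x)
  rw [pow_orderOf_eq_one, one_mul, inv_one, mul_one, eq_comm, mul_eq_right] at h1
  obtain ⟨j, hj⟩ := IsPGroup.iff_orderOf.1 hP ⟨w, hMP hwM⟩
  rw [Subgroup.orderOf_mk] at hj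
  have h0 : w = 1 := orderOf_eq_one_iff.1 (Nat.eq_one_of_dvd_coprimes
    ((hp.out.coprime_iff_not_dvd.2 hx).pow_left j) hj.dvd (orderOf_dvd_of_pow_eq_one h1))
  have : x * u * x⁻¹ = u := by rw [show x * u * x⁻¹ = w * u by rw [hw]; group, h0, one_mul]
  exact mul_inv_eq_iff_eq_mul.1 this

/-- `dSub` acts trivially on a normal section of order `p`. -/
theorem trivial_prime_section {P M : Subgroup G} [P.Normal] [M.Normal]
    (hidx : M.relIndex P = p) {x : G} (hx : x ∈ dSub p G) : ∀ u ∈ P, x * u * x⁻¹ * u⁻¹ ∈ M := by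
  let π := QuotientGroup.mk' M
  haveI : (P.map π).Normal := Subgroup.Normal.map ‹_› _ (QuotientGroup.mk'_surjective M)
  have hQ : Nat.card (P.map π) = p := by
    rw [← relIndex_bot_left, ← relIndex_comap, MonoidHom.comap_bot, QuotientGroup.ker_mk', hidx]
  haveI : IsCyclic (P.map π) := isCyclic_of_prime_card hQ
  let ψ : G →* MulAut (P.map π) := (MulAut.conjNormal (H := P.map π)).comp π
  have hker : dSub p G ≤ ψ.ker := by
    refine (Subgroup.closure_le _).2 (Set.union_subset ?_ ?_)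
    · have hc := Abelianization.commutator_subset_ker
        ((IsCyclic.mulAutMulEquiv (P.map π)).toMonoidHom.comp ψ)
      intro g hg
      exact (IsCyclic.mulAutMulEquiv (P.map π)).injective ((hc hg).trans (map_one _).symm)
    · rintro _ ⟨g, rfl⟩
      show ψ (g ^ (p - 1)) = 1
      rw [map_pow, ← orderOf_dvd_iff_pow_eq_one]
      refine (_root_.orderOf_dvd_natCard _).trans ?_
      rw [IsCyclic.card_mulAut, hQ, Nat.totient_prime hp.out]
  intro u hu
  have h := congrArg Subtype.val (DFunLike.congr_fun (MonoidHom.mem_ker.1 (hker hx))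
    ⟨π u, Subgroup.mem_map_of_mem π hu⟩)
  have h' : π x * π u * (π x)⁻¹ = π u := h
  refine (QuotientGroup.eq_one_iff _).1 ?_
  show π (x * u * x⁻¹ * u⁻¹) = 1
  rw [map_mul, map_mul, map_mul, map_inv, map_inv, h', mul_inv_cancel]

theorem cyclic_case : ∀ n : ℕ, ∀ C : Subgroup G, Nat.card C = n → C.Normal → IsPGroup p C → IsCyclic C →
    ∀ x ∈ dSub p G, ¬ p ∣ orderOf x → ∀ u ∈ C, Commute x u := by
  intro n
  induction n using Nat.strong_induction_on with
  | _ n ih =>
  intro C hn hCn hC hcyc x hx hxp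
  by_cases hb : C = ⊥
  · intro u hu
    rw [hb, mem_bot] at hu
    subst hu
    exact Commute.one_right x
  obtain ⟨c, hc⟩ := (Subgroup.isCyclic_iff_exists_zpowers_eq_top C).1 hcyc
  set M := zpowers (c ^ p) with hM
  have hMC : M ≤ C := hc ▸ zpowers_le.2 (pow_mem (mem_zpowers c) p)
  haveI hMn : M.Normal := by
    refine ⟨fun a ha g => ?_⟩
    obtain ⟨i, rfl⟩ := mem_zpowers_iff.1 ha
    have : g * c * g⁻¹ ∈ zpowers c := hc.symm ▸ hCn.conj_mem c (hc ▸ mem_zpowers c) g
    obtain ⟨j, hj⟩ := mem_zpowers_iff.1 this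
    rw [← conj_zpow, ← conj_pow, ← hj, ← zpow_natCast, ← zpow_mul, ← zpow_mul, hM, ← zpow_natCast]
    exact mem_zpowers_iff.2 ⟨j * i, by rw [← zpow_mul]; ring_nf⟩
  obtain ⟨e, he⟩ := IsPGroup.iff_card.1 hC
  have hco : orderOf c = p ^ e := by rw [← Nat.card_zpowers, hc, he]
  obtain ⟨e, rfl⟩ : ∃ e', e = e' + 1 := Nat.exists_eq_succ_of_ne_zero fun h0 => hb
    (card_eq_one.1 (by rw [he, h0, pow_zero]))
  have hMc : Nat.card M = p ^ e := by
    rw [hM, Nat.card_zpowers, orderOf_pow_of_dvd hp.out.ne_zero (hco ▸ dvd_pow_self p (by omega)), hco,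
      pow_succ, Nat.mul_div_cancel _ hp.out.pos]
  have hidx : M.relIndex C = p := by
    have := relIndex_mul_relIndex ⊥ M C bot_le hMC
    rw [relIndex_bot_left, relIndex_bot_left, hMc, he, pow_succ] at this
    exact Nat.eq_of_mul_eq_mul_left (pow_pos hp.out.pos e) this
  haveI := hCn
  refine step hC hMC hxp (ih _ ?_ M rfl hMn (hC.to_le hMC) inferInstance x hx hxp)
    (trivial_prime_section hidx hx)
  rw [← hn, hMc, he]
  exact Nat.pow_lt_pow_right hp.out.one_lt (Nat.lt_succ_self e)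

/-- With all members normal, either a maximal normal subgroup has index `p` or it contains all members. -/
theorem members_le {P M : Subgroup G} [P.Normal] [M.Normal] (hP : IsPGroup p P) (hMP : M < P)
    (hmax : ∀ N : Subgroup G, N.Normal → M ≤ N → N ≤ P → N = M ∨ N = P) (hidx : M.relIndex P ≠ p)
    {m : ℕ} (hmP : m < Nat.card P)
    (hmem : ∀ F ≤ P, Nat.card F = m → F.Normal) {F : Subgroup G} (hF : F ≤ P) (hFm : Nat.card F = m) :
    F ≤ M := by
  by_contra hFM
  haveI := hmem F hF hFm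
  have hsup : F ⊔ M = P := (hmax _ inferInstance le_sup_right (sup_le hF hMP.le)).resolve_left
    fun e => hFM (e ▸ le_sup_left)
  set F1 := F ⊓ M with hF1
  haveI : F1.Normal := normal_inf_normal _ _
  have hcard := CfsgLib.EABasic.card_sup_mul_card_inf_of_le_normalizer (H := F) (N := M)
    (by rw [normalizer_eq_top]; exact le_top)
  rw [hsup, ← hF1] at hcard
  obtain ⟨a, ha⟩ := IsPGroup.iff_card.1 (hP.to_le hF)
  obtain ⟨b, hb⟩ := IsPGroup.iff_card.1 (hP.to_le ((inf_le_left : F1 ≤ F).trans hF))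
  obtain ⟨c, hc⟩ := IsPGroup.iff_card.1 hP
  obtain ⟨e, he⟩ := IsPGroup.iff_card.1 (hP.to_le hMP.le)
  have hexp : c + b = a + e := by
    rw [ha, hb, hc, he, ← pow_add, ← pow_add] at hcard
    exact Nat.pow_right_injective hp.out.two_le hcard
  have hac : a < c := by
    rw [← hFm, ha, hc] at hmP
    exact (Nat.pow_lt_pow_iff_right hp.out.one_lt).1 hmP
  have hce : e + 2 ≤ c := by
    have hlt : Nat.card M < Nat.card P := Nat.lt_of_le_of_ne (Nat.le_of_dvd Nat.card_pos
      (card_dvd_of_le hMP.le)) fun h => hMP.ne (eq_of_le_of_card_ge hMP.le h.ge)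
    rw [he, hc] at hlt
    have := (Nat.pow_lt_pow_iff_right hp.out.one_lt).1 hlt
    by_contra hh
    obtain rfl : c = e + 1 := by omega
    refine hidx ?_
    have := relIndex_mul_relIndex ⊥ M P bot_le hMP.le
    rw [relIndex_bot_left, relIndex_bot_left, he, hc, pow_succ] at this
    exact Nat.eq_of_mul_eq_mul_left (pow_pos hp.out.pos e) this
  -- a normal subgroup of `P` just above `F1` inside `M`
  let π := QuotientGroup.mk' F1
  set Pb := P.map π with hPb
  set Mb := M.map π with hMb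
  haveI : Mb.Normal := Subgroup.Normal.map ‹_› _ (QuotientGroup.mk'_surjective F1)
  haveI : Group.IsNilpotent Pb := (hP.map π).isNilpotent
  have hMne : Mb.subgroupOf Pb ≠ ⊥ := by
    intro e0
    rw [subgroupOf_eq_bot] at e0
    have hMPb : Mb ≤ Pb := map_mono hMP.le
    have : M ≤ F1 := by
      rw [← QuotientGroup.ker_mk' F1, ← Subgroup.map_eq_bot_iff]
      exact disjoint_self.1 (e0.mono_right hMPb)
    have := Nat.le_of_dvd Nat.card_pos (card_dvd_of_le this)
    rw [hb, he] at this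
    have := (Nat.pow_le_pow_iff_right hp.out.one_lt).1 this
    omega
  haveI : (Mb.subgroupOf Pb).Normal := inferInstance
  obtain ⟨z0, hz0, hz0ne⟩ : ∃ z ∈ Mb.subgroupOf Pb ⊓ Subgroup.center Pb, z ≠ 1 :=
    (Subgroup.bot_or_exists_ne_one _).resolve_left (CfsgLib.Coprime.nilpotent_inf_center_ne_bot _ hMne)
  have hpd : p ∣ Nat.card (Mb.subgroupOf Pb ⊓ Subgroup.center Pb : Subgroup Pb) := by
    obtain ⟨k, hk⟩ := IsPGroup.iff_card.1 ((hP.map π).to_subgroup (Mb.subgroupOf Pb ⊓ Subgroup.center Pb))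
    rcases k with _ | k
    · rw [pow_zero, card_eq_one] at hk
      rw [hk, mem_bot] at hz0
      exact absurd hz0 hz0ne
    · exact hk ▸ dvd_pow_self p k.succ_ne_zero
  obtain ⟨z, hz⟩ := exists_prime_orderOf_dvd_card' p hpd
  obtain ⟨hzM, hzC⟩ := Subgroup.mem_inf.1 z.2
  set zz : G ⧸ F1 := ((z : Pb) : G ⧸ F1) with hzz
  have hzo : orderOf zz = p := by rw [hzz, Subgroup.orderOf_coe, Subgroup.orderOf_coe, hz]
  set Y := (zpowers zz).comap π with hY
  have hYM : Y ≤ M := by
    refine (comap_mono (zpowers_le.2 (mem_subgroupOf.1 hzM : zz ∈ Mb))).trans (le_of_eq ?_)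
    rw [hMb, comap_map_eq, QuotientGroup.ker_mk', sup_eq_left]
    exact inf_le_right
  have hF1Y : F1 ≤ Y := QuotientGroup.le_comap_mk' F1 _
  have hYc : Nat.card Y = p ^ (b + 1) := by
    have := relIndex_mul_relIndex ⊥ F1 Y bot_le hF1Y
    rw [relIndex_bot_left, relIndex_bot_left, hb] at this
    rw [← this, pow_succ]
    congr 1
    conv_lhs => rw [show F1 = (⊥ : Subgroup (G ⧸ F1)).comap π by
      rw [MonoidHom.comap_bot, QuotientGroup.ker_mk']]
    rw [relIndex_comap, hY, map_comap_eq_self_of_surjective (QuotientGroup.mk'_surjective F1),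
      relIndex_bot_left, Nat.card_zpowers, hzo]
  have hPY : P ≤ normalizer (Y : Set G) := by
    intro u hu
    have hcomm : π u * zz = zz * π u := congrArg Subtype.val
      (Subgroup.mem_center_iff.1 hzC ⟨π u, Subgroup.mem_map_of_mem π hu⟩)
    refine Subgroup.mem_normalizer_iff.2 fun w => ?_
    show π w ∈ zpowers zz ↔ π (u * w * u⁻¹) ∈ zpowers zz
    rw [map_mul, map_mul, map_inv]
    constructor
    · intro hw
      obtain ⟨i, hi⟩ := mem_zpowers_iff.1 hw
      rw [← hi, (Commute.zpow_right hcomm i).eq, mul_inv_cancel_right]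
      exact zpow_mem (mem_zpowers zz) i
    · intro hw
      obtain ⟨i, hi⟩ := mem_zpowers_iff.1 hw
      have : π w = zz ^ i := by
        have h2 := (Commute.zpow_right hcomm i).eq
        rw [hi] at h2
        have : π u * π w = π u * zz ^ i := by
          rw [(Commute.zpow_right hcomm i).eq, hi, inv_mul_cancel_right]
        exact mul_left_cancel this
      exact this ▸ zpow_mem (mem_zpowers zz) i
  -- a maximal subgroup of `F` above `F1`
  have hab : b + 2 ≤ a := by omega
  obtain ⟨F0, hF0, hle⟩ := Sylow.exists_subgroup_card_pow_prime_le p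
    (ha ▸ pow_dvd_pow p (Nat.sub_le a 1) : p ^ (a - 1) ∣ Nat.card F) (F1.subgroupOf F)
    (by rw [Nat.card_congr (Subgroup.subgroupOfEquivOfLe inf_le_left).toEquiv, hb]) (by omega)
  set E := F0.map F.subtype with hE
  have hEF : E ≤ F := map_subtype_le _
  have hEc : Nat.card E = p ^ (a - 1) := by rw [hE, card_map_of_injective F.subtype_injective, hF0]
  have hF1E : F1 ≤ E := fun k hk => ⟨⟨k, (inf_le_left : F1 ≤ F) hk⟩, hle (Subgroup.mem_subgroupOf.2 hk), rfl⟩
  have hEY : E ⊓ Y = F1 := le_antisymm (inf_le_inf hEF hYM) (le_inf hF1E hF1Y)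
  have h2 := CfsgLib.EABasic.card_sup_mul_card_inf_of_le_normalizer (H := E) (N := Y)
    ((hEF.trans hF).trans hPY)
  rw [hEY, hb, hEc, hYc] at h2
  have hWc : Nat.card (E ⊔ Y : Subgroup G) = m := by
    refine Nat.eq_of_mul_eq_mul_right (pow_pos hp.out.pos b) ?_
    rw [h2, ← hFm, ha, ← pow_add, ← pow_add]
    congr 1; omega
  haveI := hmem _ (sup_le (hEF.trans hF) (hYM.trans hMP.le)) hWc
  have h3 := CfsgLib.EABasic.card_sup_mul_card_inf_of_le_normalizer (H := E) (N := M)
    (by rw [normalizer_eq_top]; exact le_top)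
  rw [show E ⊓ M = F1 from le_antisymm (inf_le_inf_right M hEF) (le_inf hF1E inf_le_right), hb, hEc, he] at h3
  rcases hmax ((E ⊔ Y) ⊔ M) inferInstance le_sup_right
    (sup_le (sup_le (hEF.trans hF) (hYM.trans hMP.le)) hMP.le) with h | h <;>
    rw [sup_assoc, sup_eq_right.2 hYM] at h <;> rw [h] at h3
  · rw [he, ← pow_add, ← pow_add] at h3
    have := Nat.pow_right_injective hp.out.two_le h3
    omega
  · rw [hc, ← pow_add, ← pow_add] at h3
    have := Nat.pow_right_injective hp.out.two_le h3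
    omega

/-- All members normal: a `p'`-element of `dSub` centralizes `P`. -/
theorem centralizes : ∀ n : ℕ, ∀ P : Subgroup G, Nat.card P = n → P.Normal → IsPGroup p P →
    ∀ d s : ℕ, d = p ^ s → s ≠ 0 → d < Nat.card P → (∀ F ≤ P, Member d F → F.Normal) →
    ∀ x ∈ dSub p G, ¬ p ∣ orderOf x → ∀ u ∈ P, Commute x u := by
  intro n
  induction n using Nat.strong_induction_on with
  | _ n ih =>
  intro P hn hPn hP d s hd hs hdP hmem x hx hxp
  haveI := hPn
  obtain ⟨c, hc⟩ := IsPGroup.iff_card.1 hP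
  have hsc : s < c := by
    rw [hd, hc] at hdP
    exact (Nat.pow_lt_pow_iff_right hp.out.one_lt).1 hdP
  by_cases hsmall : c = s + 1
  · -- every maximal subgroup is a member
    have htriv : ∀ a ∈ zpowers x, ∀ k ∈ P, a * k * a⁻¹ * k⁻¹ ∈ (frattini ↥P).map P.subtype := by
      intro a ha k hk
      have hkc : a * k * a⁻¹ * k⁻¹ ∈ P := mul_mem (hPn.conj_mem k hk a) (inv_mem hk)
      refine ⟨⟨_, hkc⟩, CfsgLib.Coprime.le_frattini_of_forall_coatom (fun M hM => ?_)
        (mem_zpowers _), rfl⟩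
      rw [zpowers_le]
      obtain ⟨-, hi⟩ := CfsgLib.Coprime.coatom_data_of_pGroup hP hM
      have hMc : Nat.card (M.map P.subtype) = d := by
        have h1 := M.card_mul_index
        rw [hi, hc, hsmall, pow_succ] at h1
        rw [card_map_of_injective P.subtype_injective, hd]
        exact Nat.eq_of_mul_eq_mul_right hp.out.pos h1
      haveI := hmem _ (map_subtype_le M) (Or.inl hMc)
      have hr : (M.map P.subtype).relIndex P = p := by
        rw [← hi, relIndex, subgroupOf, comap_map_eq_self_of_injective P.subtype_injective]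
      obtain ⟨w, hw, hwe⟩ := trivial_prime_section hr ((zpowers_le.2 hx) ha) k hk
      rwa [show w = ⟨_, hkc⟩ from Subtype.ext hwe] at hw
    have hcop : (Nat.card (zpowers x)).Coprime (Nat.card (frattini ↥P)) := by
      obtain ⟨k, hk⟩ := IsPGroup.iff_card.1 (hP.to_subgroup (frattini ↥P))
      rw [hk, Nat.card_zpowers]
      exact ((hp.out.coprime_iff_not_dvd.2 hxp).symm).pow_right k
    have := CfsgLib.Coprime.le_centralizer_of_trivial_on_frattini_quotient
      (by rw [normalizer_eq_top]; exact le_top) hcop htriv (mem_zpowers x)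
    exact fun u hu => (Subgroup.mem_centralizer_iff.1 this u hu).symm
  obtain ⟨M, hMmax⟩ : ∃ M : Subgroup G, Maximal (fun M : Subgroup G => M.Normal ∧ M < P) M := by
    obtain ⟨M, -, hM⟩ := exists_maximal_ge_of_wellFoundedGT
      (fun M : Subgroup G => M.Normal ∧ M < P) ⊥ ⟨inferInstance, bot_lt_iff_ne_bot.2 fun e => by
        rw [e, card_bot] at hdP
        have : 0 < d := hd ▸ pow_pos hp.out.pos s
        omega⟩
    exact ⟨M, hM⟩
  obtain ⟨hMn, hMP⟩ := hMmax.prop
  haveI := hMn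
  have hrec : d < Nat.card M → ∀ u ∈ M, Commute x u := fun hlt =>
    ih _ (hn ▸ Nat.lt_of_le_of_ne (Nat.le_of_dvd Nat.card_pos (card_dvd_of_le hMP.le))
        fun h => hMP.ne (eq_of_le_of_card_ge hMP.le h.ge)) M rfl hMn (hP.to_le hMP.le) d s hd hs hlt
      (fun F hF => hmem F (hF.trans hMP.le)) x hx hxp
  by_cases hidx : M.relIndex P = p
  · refine step hP hMP.le hxp (hrec ?_) (trivial_prime_section hidx hx)
    have := relIndex_mul_relIndex ⊥ M P bot_le hMP.le
    rw [relIndex_bot_left, relIndex_bot_left, hidx, hc] at this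
    obtain ⟨c, rfl⟩ : ∃ c', c = c' + 1 := Nat.exists_eq_succ_of_ne_zero (by omega)
    rw [pow_succ] at this
    rw [Nat.eq_of_mul_eq_mul_right hp.out.pos this, hd]
    exact Nat.pow_lt_pow_right hp.out.one_lt (by omega)
  have hall : ∀ F ≤ P, Member d F → F ≤ M := by
    intro F hF hm
    have hlt : Nat.card F < Nat.card P := by
      rcases hm with h | ⟨h2, h4⟩
      · exact h ▸ hdP
      · rw [h4, hc]
        have hp2 : p = 2 := (Nat.prime_dvd_prime_iff_eq hp.out Nat.prime_two).1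
          (h2 ▸ hd ▸ dvd_pow_self p hs)
        subst hp2
        calc 4 = 2 ^ 2 := by norm_num
          _ < 2 ^ c := Nat.pow_lt_pow_right (by norm_num) (by omega)
    refine members_le hP hMP (fun N hN hMN hNP => ?_) hidx hlt
      (fun F' hF' he => hmem F' hF' (by unfold Cfsg.Agent.S3031.Member; rw [he]; exact hm)) hF rfl
    by_cases e : N = P
    · exact Or.inr e
    · exact Or.inl (hMmax.eq_of_ge ⟨hN, lt_of_le_of_ne hNP e⟩ hMN)
  have hsmall' : ∀ z ∈ P, orderOf z ∣ d → z ∈ M := by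
    intro z hz hzd
    obtain ⟨F, hF, hFd, hle⟩ := member_containing hP hd hdP.le (zpowers_le.2 hz)
      (by rw [Nat.card_zpowers]; exact hzd)
    exact hall F hF (Or.inl hFd) (hle (mem_zpowers z))
  have hMd : d ≤ Nat.card M := by
    obtain ⟨F, hF, hFd, -⟩ := member_containing hP hd hdP.le bot_le (by rw [card_bot]; exact one_dvd _)
    exact hFd ▸ Nat.le_of_dvd Nat.card_pos (card_dvd_of_le (hall F hF (Or.inl hFd)))
  have hxM : ∀ u ∈ M, Commute x u := by
    rcases hMd.lt_or_eq with hlt | heq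
    · exact hrec hlt
    obtain ⟨u, hu, huM⟩ := SetLike.exists_of_lt hMP
    obtain ⟨i, hi⟩ := IsPGroup.iff_orderOf.1 hP ⟨u, hu⟩
    rw [Subgroup.orderOf_mk] at hi
    have hsi : s < i := by
      by_contra hh
      exact huM (hsmall' u hu (hd ▸ hi ▸ pow_dvd_pow p (not_lt.1 hh)))
    have hco : Nat.card (zpowers (u ^ p ^ (i - s))) = d := by
      rw [Nat.card_zpowers, orderOf_pow_of_dvd (pow_ne_zero _ hp.out.ne_zero)
        (hi ▸ pow_dvd_pow p (Nat.sub_le i s)), hi, Nat.pow_div (Nat.sub_le i s) hp.out.pos, hd]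
      congr 1; omega
    have hle : zpowers (u ^ p ^ (i - s)) ≤ M :=
      hall _ (zpowers_le.2 (pow_mem hu _)) (Or.inl hco)
    have heM : zpowers (u ^ p ^ (i - s)) = M := eq_of_le_of_card_ge hle (by rw [hco, heq])
    haveI : IsCyclic M := heM ▸ inferInstance
    exact cyclic_case _ M rfl hMn (hP.to_le hMP.le) inferInstance x hx hxp
  have := CfsgLib.PGroup.commute_of_fix_smallExp hP (g := x) (by rw [normalizer_eq_top]; trivial) hxp ?_
  · exact fun u hu => (Subgroup.mem_centralizer_iff.1 this u hu).symm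
  intro z hz hze
  refine hxM z ?_
  have hzd := orderOf_dvd_of_pow_eq_one hze
  unfold CfsgLib.PGroup.smallExp at hzd
  split_ifs at hzd with h2
  · subst h2
    by_cases h4 : orderOf z ∣ d
    · exact hsmall' z hz h4
    obtain rfl : s = 1 := by
      by_contra hh
      exact h4 (hzd.trans (hd ▸ (show (4 : ℕ) ∣ 2 ^ s from pow_dvd_pow 2 (show 2 ≤ s by omega))))
    have hz4 : orderOf z = 4 := by
      obtain ⟨i, hi, hzi⟩ := (Nat.dvd_prime_pow Nat.prime_two).1 (show orderOf z ∣ 2 ^ 2 from hzd)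
      rcases (show i = 2 ∨ i ≤ 1 by omega) with rfl | hle
      · exact hzi
      · exact absurd (hd ▸ hzi ▸ pow_dvd_pow 2 hle) h4
    exact hall _ (zpowers_le.2 hz) (Or.inr ⟨by rw [hd, pow_one], by rw [Nat.card_zpowers, hz4]⟩)
      (mem_zpowers z)
  · exact hsmall' z hz (hzd.trans (hd ▸ dvd_pow_self p hs))

/-- A commuting operator of order dividing `p - 1` has an eigenvector. -/
theorem exists_line {N : Subgroup G} (hne : N ≠ ⊥) (hcomm : ∀ a ∈ N, ∀ b ∈ N, a * b = b * a)
    (hexp : ∀ a ∈ N, a ^ p = 1) (φ : MulAut N) (hφ : φ ^ (p - 1) = 1) :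
    ∃ (w : N) (k : ℕ), w ≠ 1 ∧ φ w = w ^ k := by
  letI : CommGroup N :=
    { (inferInstance : Group N) with mul_comm := fun a b => Subtype.ext (hcomm a a.2 b b.2) }
  letI : Module (ZMod p) (Additive N) := AddCommGroup.zmodModule
    (n := p) (fun a : Additive N => Subtype.ext (hexp _ (Additive.toMul a).2))
  haveI : Nontrivial (Additive N) := (Subgroup.nontrivial_iff_ne_bot N).2 hne
  haveI : Module.Finite (ZMod p) (Additive N) := Module.Finite.of_finite
  let T : Module.End (ZMod p) (Additive N) := (MonoidHom.toAdditive φ.toMonoidHom).toZModLinearMap p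
  have hTpow : ∀ (j : ℕ) (a : N), (T ^ j) (Additive.ofMul a) = Additive.ofMul ((φ ^ j) a) := by
    intro j
    induction j with
    | zero => intro a; rfl
    | succ j ihj => intro a; rw [pow_succ, pow_succ, Module.End.mul_apply, MulAut.mul_apply]; exact ihj _
  have hdvd : minpoly (ZMod p) T ∣ (Polynomial.X ^ (p - 1) - 1 : Polynomial (ZMod p)) := by
    refine minpoly.dvd _ _ ?_
    rw [map_sub, map_pow, Polynomial.aeval_X, map_one, sub_eq_zero]
    refine LinearMap.ext fun a => ?_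
    exact (hTpow (p - 1) (Additive.toMul a)).trans (by rw [hφ]; rfl)
  have hp1 : (Polynomial.X ^ p - Polynomial.X : Polynomial (ZMod p)) ≠ 0 :=
    FiniteField.X_pow_card_sub_X_ne_zero _ hp.out.one_lt
  have hsplit : (Polynomial.X ^ p - Polynomial.X : Polynomial (ZMod p)).Splits := by
    rw [Polynomial.splits_iff_card_roots, FiniteField.X_pow_card_sub_X_natDegree_eq _ hp.out.one_lt]
    have := FiniteField.roots_X_pow_card_sub_X (ZMod p)
    rw [ZMod.card] at this
    rw [this]
    exact ZMod.card p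
  have hdvd2 : (Polynomial.X ^ (p - 1) - 1 : Polynomial (ZMod p)) ∣ Polynomial.X ^ p - Polynomial.X :=
    ⟨Polynomial.X, by rw [sub_mul, one_mul, ← pow_succ, Nat.sub_add_cancel hp.out.one_le]⟩
  obtain ⟨μ, hμ⟩ := (hsplit.of_dvd hp1 (hdvd.trans hdvd2)).exists_eval_eq_zero
    (minpoly.degree_pos (Algebra.IsIntegral.isIntegral T)).ne'
  obtain ⟨w, hw⟩ := (Module.End.hasEigenvalue_iff_isRoot.2 hμ).exists_hasEigenvector
  refine ⟨Additive.toMul w, μ.val, fun e => hw.2 (Additive.toMul.injective e), ?_⟩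
  have h1 : T w = μ • w := hw.apply_eq_smul
  rw [← ZMod.natCast_zmod_val μ, Nat.cast_smul_eq_nsmul] at h1
  exact congrArg Additive.toMul h1

end

/-- A normal subgroup inducing a `p`-group on `P`, containing commutators and `(p-1)`-st powers. -/
def Good {G : Type u} [Group G] (p : ℕ) (P : Subgroup G) : Prop :=
  ∃ D : Subgroup G, D.Normal ∧ commutator G ≤ D ∧ (∀ g : G, g ^ (p - 1) ∈ D) ∧
    ∀ x ∈ D, ∃ k : ℕ, x ^ p ^ k ∈ centralizer (P : Set G)

theorem exists_normal_prime {G : Type u} [Group G] [Finite G] {p : ℕ} [hp : Fact p.Prime]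
    {P : Subgroup G} [P.Normal] (hP : IsPGroup p P) (hne : P ≠ ⊥) (hg : Good p P) :
    ∃ N ≤ P, N.Normal ∧ Nat.card N = p := by
  obtain ⟨D, hDn, hDc, hDp, hDk⟩ := hg
  haveI := hDn
  obtain ⟨N, hNP', hNmin⟩ := exists_minimal_le_of_wellFoundedLT
    (fun N : Subgroup G => N.Normal ∧ N ≠ ⊥ ∧ N ≤ P) P ⟨‹_›, hne, le_rfl⟩
  obtain ⟨hNn, hN0, hNP⟩ := hNmin.prop
  haveI := hNn
  have hmin : ∀ M : Subgroup G, M.Normal → M ≤ N → M ≠ ⊥ → N ≤ M := fun M hM hle hM0 =>
    hNmin.le_of_le ⟨hM, hM0, hle.trans hNP⟩ hle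
  have hN : IsPGroup p N := hP.to_le hNP
  have hpN : p ∣ Nat.card N := by
    obtain ⟨k, hk⟩ := IsPGroup.iff_card.1 hN
    rcases k with _ | k
    · exact absurd (card_eq_one.1 (by rw [hk, pow_zero])) hN0
    · exact hk ▸ dvd_pow_self p k.succ_ne_zero
  -- `D` centralizes `N`
  have hND : N ≤ centralizer (D : Set G) := by
    refine le_trans ?_ (inf_le_right : N ⊓ centralizer (D : Set G) ≤ _)
    haveI : (centralizer (D : Set G)).Normal := Subgroup.normal_centralizer
    refine hmin _ (normal_inf_normal _ _) inf_le_left fun e => ?_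
    let f : D →* MulAut N := (MulAut.conjNormal (H := N)).comp D.subtype
    have hf : IsPGroup p f.range := by
      rintro ⟨_, x, rfl⟩
      obtain ⟨k, hk⟩ := hDk x x.2
      refine ⟨k, Subtype.ext ?_⟩
      show f x ^ p ^ k = 1
      rw [← map_pow]
      refine MulEquiv.ext fun a => Subtype.ext ?_
      show (x : G) ^ p ^ k * a * ((x : G) ^ p ^ k)⁻¹ = a
      rw [← Subgroup.mem_centralizer_iff.1 hk a (hNP a.2), mul_inv_cancel_right]
    obtain ⟨b, hb, hb1⟩ := hf.exists_fixed_point_of_prime_dvd_card_of_fixed_point (α := N) hpN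
      (a := 1) (fun φ => map_one (φ : MulAut N))
    have hbC : (b : G) ∈ centralizer (D : Set G) := by
      refine Subgroup.mem_centralizer_iff.2 fun x hx => ?_
      have : ((f ⟨x, hx⟩ b : N) : G) = b := congrArg Subtype.val (hb ⟨_, _, rfl⟩)
      exact mul_inv_eq_iff_eq_mul.1 this
    have : (b : G) ∈ N ⊓ centralizer (D : Set G) := Subgroup.mem_inf.2 ⟨b.2, hbC⟩
    rw [e, mem_bot] at this
    exact hb1 (Subtype.ext this.symm)
  have hcomm : ∀ a ∈ N, ∀ b ∈ N, a * b = b * a := by
    haveI : Group.IsNilpotent N := hN.isNilpotent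
    haveI : Nontrivial N := (Subgroup.nontrivial_iff_ne_bot N).2 hN0
    haveI : (centralizer (N : Set G)).Normal := Subgroup.normal_centralizer
    have hle : N ≤ N ⊓ centralizer (N : Set G) := by
      refine hmin _ (normal_inf_normal _ _) inf_le_left fun e => ?_
      haveI : Fintype N := Fintype.ofFinite N
      haveI := hN.center_nontrivial
      obtain ⟨z, hz, hz1⟩ := (Subgroup.bot_or_exists_ne_one (Subgroup.center N)).resolve_left
        ((Subgroup.nontrivial_iff_ne_bot _).1 this)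
      have : (z : G) ∈ N ⊓ centralizer (N : Set G) := Subgroup.mem_inf.2 ⟨z.2,
        Subgroup.mem_centralizer_iff.2 fun a ha =>
          congrArg Subtype.val (Subgroup.mem_center_iff.1 hz ⟨a, ha⟩)⟩
      rw [e, mem_bot] at this
      exact hz1 (Subtype.ext this)
    exact fun a ha b hb => Subgroup.mem_centralizer_iff.1 (Subgroup.mem_inf.1 (hle hb)).2 a ha
  have hexp : ∀ a ∈ N, a ^ p = 1 := by
    let O : Subgroup G :=
      { carrier := {a | a ∈ N ∧ a ^ p = 1}
        one_mem' := ⟨one_mem _, one_pow _⟩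
        mul_mem' := fun {a b} ha hb => ⟨mul_mem ha.1 hb.1, by
          rw [(show Commute a b from hcomm a ha.1 b hb.1).mul_pow, ha.2, hb.2, one_mul]⟩
        inv_mem' := fun {a} ha => ⟨inv_mem ha.1, by rw [inv_pow, ha.2, inv_one]⟩ }
    have hO : O.Normal := ⟨fun a ha g => ⟨hNn.conj_mem a ha.1 g, by rw [conj_pow, ha.2]; group⟩⟩
    have hO0 : O ≠ ⊥ := by
      obtain ⟨a, ha⟩ := exists_prime_orderOf_dvd_card' p hpN
      intro e
      have : (a : G) ∈ O := ⟨a.2, by rw [← ha, ← Subgroup.orderOf_coe, pow_orderOf_eq_one]⟩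
      rw [e, mem_bot] at this
      rw [show a = 1 from Subtype.ext this, orderOf_one] at ha
      exact hp.out.one_lt.ne ha
    exact fun a ha => (hmin O hO (fun b hb => hb.1) hO0 ha).2
  -- every element acts as a scalar
  have hscal : ∀ g : G, ∃ k : ℕ, ∀ v ∈ N, g * v * g⁻¹ = v ^ k := by
    intro g
    obtain ⟨w, k, hw1, hwk⟩ := exists_line hN0 hcomm hexp (MulAut.conjNormal g : MulAut N) (by
      rw [← map_pow]
      refine MulEquiv.ext fun a => Subtype.ext ?_
      show g ^ (p - 1) * a * (g ^ (p - 1))⁻¹ = a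
      rw [Subgroup.mem_centralizer_iff.1 (hND a.2) _ (hDp g), mul_inv_cancel_right])
    let E : Subgroup G :=
      { carrier := {v | v ∈ N ∧ g * v * g⁻¹ = v ^ k}
        one_mem' := ⟨one_mem _, by simp⟩
        mul_mem' := fun {a b} ha hb => ⟨mul_mem ha.1 hb.1, by
          rw [(show Commute a b from hcomm a ha.1 b hb.1).mul_pow, ← ha.2, ← hb.2]; group⟩
        inv_mem' := fun {a} ha => ⟨inv_mem ha.1, by rw [inv_pow, ← ha.2]; group⟩ }
    have hE : E.Normal := ⟨fun v hv h => ⟨hNn.conj_mem v hv.1 h, by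
      obtain ⟨hvN, hve⟩ := hv
      set c := h⁻¹ * g * h * g⁻¹ with hc
      have hcD : c ∈ D := hDc (by
        have := Subgroup.commutator_mem_commutator (Subgroup.mem_top h⁻¹) (Subgroup.mem_top g)
        rw [commutatorElement_def, inv_inv, ← _root_.commutator_def] at this
        exact this)
      calc g * (h * v * h⁻¹) * g⁻¹ = h * (c * (g * v * g⁻¹) * c⁻¹) * h⁻¹ := by rw [hc]; group
        _ = h * v ^ k * h⁻¹ := by
          rw [hve, Subgroup.mem_centralizer_iff.1 (hND (pow_mem hvN k)) c hcD, mul_inv_cancel_right]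
        _ = (h * v * h⁻¹) ^ k := conj_pow.symm⟩⟩
    refine ⟨k, fun v hv => (hmin E hE (fun b hb => hb.1) (fun e => hw1 ?_) hv).2⟩
    have : (w : G) ∈ E := ⟨w.2, congrArg Subtype.val hwk⟩
    rw [e, mem_bot] at this
    exact Subtype.ext this
  obtain ⟨a, ha⟩ := exists_prime_orderOf_dvd_card' p hpN
  refine ⟨zpowers (a : G), zpowers_le.2 (hNP a.2), ⟨fun v hv g => ?_⟩,
    by rw [Nat.card_zpowers, Subgroup.orderOf_coe, ha]⟩
  obtain ⟨k, hk⟩ := hscal g
  rw [hk v ((zpowers_le.2 a.2) hv)]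
  exact pow_mem hv k

theorem supersolvable_of_good : ∀ n : ℕ, ∀ {G : Type u} [Group G] [Finite G] {p : ℕ} [Fact p.Prime]
    (P : Subgroup G) [P.Normal], Nat.card G = n → IsPGroup p P → Good p P →
    Cfsg.IsSupersolvable (G ⧸ P) → Cfsg.IsSupersolvable G := by
  intro n
  induction n using Nat.strong_induction_on with
  | _ n ih =>
  intro G _ _ p _ P _ hn hP hg hq
  by_cases hne : P = ⊥
  · subst hne
    exact CfsgLib.Coprime.isSupersolvable_congr QuotientGroup.quotientBot hq
  obtain ⟨N, hNP, hNn, hNc⟩ := exists_normal_prime hP hne hg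
  haveI := hNn
  haveI : IsCyclic N := isCyclic_of_prime_card hNc
  have hN0 : N ≠ ⊥ := fun e => (Fact.out : p.Prime).ne_one (by rw [← hNc, e, card_bot])
  refine CfsgLib.Coprime.isSupersolvable_of_cyclic_normal N ?_
  have hsur := QuotientGroup.mk'_surjective N
  haveI : (P.map (QuotientGroup.mk' N)).Normal := Subgroup.Normal.map ‹_› _ hsur
  refine ih _ (hn ▸ CfsgLib.Coprime.card_quotient_lt_of_ne_bot hN0) (P.map (QuotientGroup.mk' N)) rfl
    (hP.map _) ?_ (CfsgLib.Coprime.isSupersolvable_congr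
      (QuotientGroup.quotientQuotientEquivQuotient N P hNP).symm hq)
  obtain ⟨D, hDn, hDc, hDp, hDk⟩ := hg
  refine ⟨D.map (QuotientGroup.mk' N), Subgroup.Normal.map hDn _ hsur, ?_, fun g => ?_, ?_⟩
  · refine le_of_eq_of_le ?_ (map_mono hDc)
    rw [_root_.commutator_def, _root_.commutator_def, Subgroup.map_commutator,
      map_top_of_surjective _ hsur]
  · obtain ⟨g, rfl⟩ := hsur g
    exact ⟨g ^ (p - 1), hDp g, map_pow _ _ _⟩
  · rintro _ ⟨x, hx, rfl⟩
    obtain ⟨k, hk⟩ := hDk x hx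
    refine ⟨k, Subgroup.mem_centralizer_iff.2 ?_⟩
    rintro _ ⟨u, hu, rfl⟩
    rw [← map_pow, ← map_mul, ← map_mul, Subgroup.mem_centralizer_iff.1 hk u hu]

/-- A normal `p`-subgroup all whose members are normal, with supersolvable quotient. -/
theorem supersolvable_of_members {G : Type u} [Group G] [Finite G] {p : ℕ} [hp : Fact p.Prime]
    (P : Subgroup G) [P.Normal] (hP : IsPGroup p P) {d s : ℕ} (hd : d = p ^ s) (hs : s ≠ 0)
    (hdP : d < Nat.card P) (hmem : ∀ F ≤ P, Member d F → F.Normal)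
    (hq : Cfsg.IsSupersolvable (G ⧸ P)) : Cfsg.IsSupersolvable G := by
  refine supersolvable_of_good _ P rfl hP ⟨dSub p G, dSub_normal, commutator_le_dSub, pow_mem_dSub,
    fun x hx => ⟨(orderOf x).factorization p, ?_⟩⟩ hq
  refine Subgroup.mem_centralizer_iff.2 fun u hu => (centralizes _ P rfl ‹_› hP d s hd hs hdP hmem _
    (pow_mem hx _) ?_ u hu).symm
  rw [orderOf_pow_of_dvd (pow_ne_zero _ hp.out.ne_zero) (Nat.ordProj_dvd _ _)]
  exact Nat.not_dvd_ordCompl hp.out (orderOf_pos x).ne'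

/-- The hypothesis of the statement. -/
def Hyp {G : Type u} [Group G] (E : Subgroup G) : Prop :=
  ∀ (p : ℕ), p.Prime → ∀ P : Subgroup G, P ≤ E → IsPGroup p P → ¬ p ∣ P.relIndex E → ¬ IsCyclic ↥P →
    ∃ D : Subgroup G, D ≤ P ∧ 1 < Nat.card D ∧ Nat.card D < Nat.card P ∧
      ∀ F : Subgroup G, F ≤ P → (Nat.card F = Nat.card D ∨ (Nat.card D = 2 ∧ Nat.card F = 4)) →
        ∀ g : G, F.map (MulAut.conj g).toMonoidHom ⊓ Subgroup.normalizer (F : Set G) ≤ F

theorem closed_in {G : Type u} [Group G] [Finite G] {p : ℕ} [Fact p.Prime] {E : Subgroup G}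
    (Q : Sylow p E) {d : ℕ}
    (h : ∀ F : Subgroup G, F ≤ (Q : Subgroup E).map E.subtype → Member d F →
      ∀ g : G, F.map (MulAut.conj g).toMonoidHom ⊓ normalizer (F : Set G) ≤ F) :
    Cfsg.Agent.S3031.Closed (Q : Subgroup E) d := by
  refine Cfsg.Agent.S3031.closed_of_hyp Q fun F hF hm g => ?_
  have hmm : Member d (F.map E.subtype) := by
    unfold Cfsg.Agent.S3031.Member
    rw [card_map_of_injective E.subtype_injective]
    exact hm
  rintro _ ⟨⟨u, hu, rfl⟩, hn⟩
  have h1 := h _ (map_mono hF) hmm g (show ((g * u * g⁻¹ : E) : G) ∈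
      (F.map E.subtype).map (MulAut.conj (g : G)).toMonoidHom ⊓ normalizer ((F.map E.subtype : Subgroup G) : Set G) from
    Subgroup.mem_inf.2 ⟨⟨u, ⟨u, hu, rfl⟩, rfl⟩,
      Subgroup.le_normalizer_map E.subtype (Subgroup.mem_map_of_mem E.subtype hn)⟩)
  obtain ⟨v, hv, hve⟩ := h1
  have hv2 : v = g * u * g⁻¹ := Subtype.ext hve
  show g * u * g⁻¹ ∈ F
  exact hv2 ▸ hv

theorem main : ∀ n : ℕ, ∀ {G : Type u} [Group G] [Finite G] (E : Subgroup G) [E.Normal],
    Nat.card E = n → Cfsg.IsSupersolvable (G ⧸ E) → Hyp E → Cfsg.IsSupersolvable G := by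
  intro n
  induction n using Nat.strong_induction_on with
  | _ n ih =>
  intro G _ _ E _ hn hGE h
  by_cases hE : E = ⊥
  · subst hE
    exact CfsgLib.Coprime.isSupersolvable_congr QuotientGroup.quotientBot hGE
  have hE1 : Nat.card E ≠ 1 := fun e => hE (card_eq_one.1 e)
  set p := (Nat.card E).minFac with hpdef
  haveI hp : Fact p.Prime := ⟨Nat.minFac_prime hE1⟩
  have hmin : ∀ q : ℕ, q.Prime → q ∣ Nat.card E → p ≤ q := fun q hq hqd =>
    Nat.minFac_le_of_dvd hq.two_le hqd
  let Q : Sylow p E := default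
  set P := (Q : Subgroup E).map E.subtype with hPdef
  have hPE : P ≤ E := map_subtype_le _
  have hPp : IsPGroup p P := Q.2.map _
  have hPQ : P.subgroupOf E = Q := comap_map_eq_self_of_injective E.subtype_injective _
  have hPidx : ¬ p ∣ P.relIndex E := by
    rw [relIndex, hPQ]; exact Q.not_dvd_index
  have hcompl : Cfsg.HasNormalPComplement p E := by
    by_cases hcyc : IsCyclic P
    · haveI : IsCyclic (Q : Subgroup E) := (Subgroup.equivMapOfInjective _ E.subtype
        E.subtype_injective).isCyclic.2 hcyc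
      exact Cfsg.Agent.S3031.pComplement_of_cyclic Q hmin
    obtain ⟨D, hDP, hD1, hD2, hF⟩ := h p hp.out P hPE hPp hPidx hcyc
    obtain ⟨s, hs⟩ := IsPGroup.iff_card.1 (hPp.to_le hDP)
    refine Cfsg.Agent.S3031.pComplement_of_closed Q hs ?_ ?_ (closed_in Q hF) hmin
    · rintro rfl; rw [hs, pow_zero] at hD1; omega
    · rwa [hPdef, card_map_of_injective E.subtype_injective] at hD2
  set K := (Cfsg.pResidual p E).map E.subtype with hKdef
  have hKE : K ≤ E := map_subtype_le _
  haveI hKn : K.Normal := by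
    refine ⟨fun a ha g => ?_⟩
    obtain ⟨a, ha, rfl⟩ := ha
    let e : MulAut E := MulAut.conjNormal g
    refine ⟨e a, ?_, rfl⟩
    show e a ∈ Cfsg.pResidual p E
    unfold Cfsg.pResidual at ha ⊢
    refine (Subgroup.closure_le ((Subgroup.closure _).comap e.toMonoidHom)).2 (fun b hb => ?_) ha
    exact Subgroup.subset_closure (by
      show (orderOf (e b)).Coprime p
      rw [e.orderOf_eq]; exact hb)
  have hKp : ¬ p ∣ Nat.card K := by
    rw [hKdef, card_map_of_injective E.subtype_injective]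
    exact CfsgLib.Fusion.hasNormalPComplement_iff_not_dvd.1 hcompl
  have hKPE : K ⊔ P = E := by
    rw [hKdef, hPdef, ← Subgroup.map_sup, CfsgLib.Fusion.pResidual_sup_sylow, ← MonoidHom.range_eq_map,
      range_subtype]
  have hKlt : Nat.card K < Nat.card E := Nat.lt_of_le_of_ne
    (Nat.le_of_dvd Nat.card_pos (card_dvd_of_le hKE)) fun e => hKp (e ▸ Nat.minFac_dvd _)
  refine ih _ (hn ▸ hKlt) K rfl ?_ ?_
  swap
  · intro q hq R hRK hR hRidx hRc
    refine h q hq R (hRK.trans hKE) hR ?_ hRc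
    rw [← relIndex_mul_relIndex R K E hRK hKE]
    intro hd
    rcases hq.dvd_mul.1 hd with hd1 | hd2
    · exact hRidx hd1
    haveI := CfsgLib.Fusion.pResidual_normal (G := E) (p := p)
    obtain ⟨k, hk⟩ := CfsgLib.Fusion.exists_index_pResidual (G := E) (p := p)
    rw [hKdef, relIndex, subgroupOf, comap_map_eq_self_of_injective E.subtype_injective, hk] at hd2
    have hqp : q = p := (Nat.prime_dvd_prime_iff_eq hq hp.out).1 (hq.dvd_of_dvd_pow hd2)
    subst hqp
    obtain ⟨j, hj⟩ := IsPGroup.iff_card.1 hR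
    rcases j with _ | j
    · exact hRc (by haveI : Subsingleton R := (Nat.card_eq_one_iff_unique.1 (by simpa using hj)).1
                    infer_instance)
    · exact hKp ((hj ▸ dvd_pow_self _ j.succ_ne_zero).trans (card_dvd_of_le hRK))
  -- the quotient by the complement
  let π := QuotientGroup.mk' K
  have hsur := QuotientGroup.mk'_surjective K
  haveI : (E.map π).Normal := Subgroup.Normal.map ‹_› _ hsur
  have hq : Cfsg.IsSupersolvable ((G ⧸ K) ⧸ E.map π) := CfsgLib.Coprime.isSupersolvable_congr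
    (QuotientGroup.quotientQuotientEquivQuotient K E hKE).symm hGE
  have hEP : E.map π = P.map π := by
    rw [← hKPE, Subgroup.map_sup, QuotientGroup.map_mk'_self, bot_sup_eq]
  have hinj : ∀ a ∈ P, π a = 1 → a = 1 := by
    intro a ha h1
    have haK : a ∈ K := (QuotientGroup.eq_one_iff a).1 h1
    obtain ⟨j, hj⟩ := IsPGroup.iff_orderOf.1 hPp ⟨a, ha⟩
    rw [Subgroup.orderOf_mk] at hj
    refine orderOf_eq_one_iff.1 (Nat.eq_one_of_dvd_coprimes ?_ hj.dvd (Subgroup.orderOf_dvd_natCard _ haK))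
    exact (hp.out.coprime_iff_not_dvd.2 hKp).pow_left j
  by_cases hcyc : IsCyclic P
  · haveI : IsCyclic (E.map π) := by
      rw [hEP]
      exact isCyclic_of_surjective _ (π.subgroupMap_surjective P)
    exact CfsgLib.Coprime.isSupersolvable_of_cyclic_normal (E.map π) hq
  obtain ⟨D, hDP, hD1, hD2, hF⟩ := h p hp.out P hPE hPp hPidx hcyc
  obtain ⟨s, hs⟩ := IsPGroup.iff_card.1 (hPp.to_le hDP)
  have hclosed := closed_in Q hF
  have hcardP : Nat.card (E.map π) = Nat.card P := by
    rw [hEP]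
    refine (Nat.card_congr (Equiv.ofBijective (π.subgroupMap P) ⟨?_, π.subgroupMap_surjective P⟩)).symm
    refine (injective_iff_map_eq_one _).2 fun a ha => Subtype.ext (hinj a a.2 (congrArg Subtype.val ha))
  refine supersolvable_of_members (E.map π) (by rw [hEP]; exact hPp.map π) hs ?_ (hcardP ▸ hD2) ?_ hq
  · rintro rfl; rw [hs, pow_zero] at hD1; omega
  intro Fb hFb hm
  set F := Fb.comap π ⊓ P with hFdef
  have hFb' : F.map π = Fb := by
    refine le_antisymm ((map_mono inf_le_left).trans (map_comap_le _ _)) fun y hy => ?_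
    have := hFb hy
    rw [hEP] at this
    obtain ⟨a, ha, rfl⟩ := this
    exact ⟨a, Subgroup.mem_inf.2 ⟨hy, ha⟩, rfl⟩
  have hFc : Nat.card Fb = Nat.card F := by
    rw [← hFb']
    refine (Nat.card_congr (Equiv.ofBijective (π.subgroupMap F) ⟨?_, π.subgroupMap_surjective F⟩)).symm
    refine (injective_iff_map_eq_one _).2 fun a ha =>
      Subtype.ext (hinj a (inf_le_right (a := Fb.comap π) a.2) (congrArg Subtype.val ha))
  have hm' : Member (Nat.card D) F := by unfold Cfsg.Agent.S3031.Member at hm ⊢; rwa [← hFc]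
  have hFP : F ≤ P := inf_le_right
  obtain ⟨hPn, -⟩ := hclosed (F.subgroupOf E) ((comap_mono hFP).trans hPQ.le) (by
    unfold Cfsg.Agent.S3031.Member at hm' ⊢
    rwa [Nat.card_congr (Subgroup.subgroupOfEquivOfLe (hFP.trans hPE)).toEquiv])
  have hPN : P ≤ normalizer (F : Set G) := by
    refine (map_mono hPn).trans ((Subgroup.le_normalizer_map E.subtype).trans (le_of_eq ?_))
    rw [map_subgroupOf_eq_of_le (hFP.trans hPE)]
  have hNF : normalizer (P : Set G) ≤ normalizer (F : Set G) := by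
    have hone : ∀ g ∈ normalizer (P : Set G), ∀ u ∈ F, g * u * g⁻¹ ∈ F := fun g hg u hu =>
      hF F hFP hm' g (Subgroup.mem_inf.2 ⟨⟨u, hu, rfl⟩,
        hPN ((Subgroup.mem_normalizer_iff.1 hg u).1 (hFP hu))⟩)
    exact fun g hg => Subgroup.mem_normalizer_iff.2 fun u =>
      ⟨hone g hg u, fun hu => by simpa [mul_assoc] using hone g⁻¹ (inv_mem hg) _ hu⟩
  rw [← hFb']
  refine ⟨?_⟩
  rintro _ ⟨u, hu, rfl⟩ y
  obtain ⟨g, rfl⟩ := hsur y
  have htop : normalizer (P : Set G) ⊔ E = ⊤ := Sylow.normalizer_sup_eq_top Q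
  obtain ⟨a, ha, e, he, hae⟩ := Subgroup.mem_sup_of_normal_right.1 (htop ▸ Subgroup.mem_top g)
  rw [← hKPE] at he
  obtain ⟨k, hk, b, hb, hkb⟩ := Subgroup.mem_sup_of_normal_left.1 he
  refine ⟨(a * b) * u * (a * b)⁻¹, (Subgroup.mem_normalizer_iff.1
    (mul_mem (hNF ha) (hPN hb)) u).1 hu, ?_⟩
  have : π g = π (a * b) := by
    rw [← hae, ← hkb, map_mul, map_mul, show π k = 1 from (QuotientGroup.eq_one_iff k).2 hk, one_mul,
      ← map_mul]
  rw [map_mul, map_mul, map_inv, this]

/-- Let G be a finite group and E a normal subgroup with G/E supersolvable. Suppose that for every prime p and every non-cyclic Sylow p-subgroup P of E there is a subgroup D of P with 1 < |D| < |P| such that every subgroup F of P of order |D|, and also every subgroup F of P of order 4 when |D| = 2, satisfies g F g⁻¹ ∩ N_G(F) ≤ F for all g ∈ G. Then G is supersolvable. -/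
theorem result {G : Type*} [Group G] [Finite G] (E : Subgroup G) [E.Normal] (hGE : Cfsg.IsSupersolvable (G ⧸ E))
    (h : ∀ (p : ℕ), p.Prime → ∀ P : Subgroup G, P ≤ E → IsPGroup p P → ¬ p ∣ P.relIndex E → ¬ IsCyclic ↥P →
      ∃ D : Subgroup G, D ≤ P ∧ 1 < Nat.card D ∧ Nat.card D < Nat.card P ∧
        ∀ F : Subgroup G, F ≤ P → (Nat.card F = Nat.card D ∨ (Nat.card D = 2 ∧ Nat.card F = 4)) →
          ∀ g : G, F.map (MulAut.conj g).toMonoidHom ⊓ Subgroup.normalizer (F : Set G) ≤ F) :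
    Cfsg.IsSupersolvable G := by
  exact main _ E rfl hGE h

end Cfsg.Agent.S3032
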