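import Cfsg.Statements.S3033
import Cfsg.Agent.Lib.Coprime.Supersolvable
import Cfsg.Agent.Lib.Fusion.PComplement
import Cfsg.Agent.Lib.Fusion.Residual
import Mathlib.Algebra.Module.ZMod
import Mathlib.Algebra.CharP.Lemmas
-- import your own Cfsg.Agent.* helpers here

set_option autoImplicit false
open Cfsg

namespace Cfsg.Agent.S3033

open Subgroup

universe u

/-- the hypothesis of the statement -/
def Cond (G : Type u) [Group G] : Prop :=
  ∀ (p q : ℕ), p.Prime → q.Prime → p ≠ q → ∀ (x g : G), (∃ a : ℕ, orderOf x = p ^ a) → (∃ b : ℕ, orderOf g = q ^ b) →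
    ¬ q ^ 2 ∣ Nat.card ↥(Subgroup.zpowers x ⊔ Subgroup.zpowers (g * x * g⁻¹))

theorem decomp {G : Type u} [Group G] [Finite G] {p : ℕ} (hp : p.Prime) (x : G) : ∃ i j : ℕ,
    x = x ^ i * x ^ j ∧ (∃ a, orderOf (x ^ i) = p ^ a) ∧ (orderOf (x ^ j)).Coprime p := by
  obtain ⟨e, m, hm, hn⟩ := Nat.exists_eq_pow_mul_and_not_dvd (orderOf_pos x).ne' p hp.ne_one
  have hcop : (p ^ e).Coprime m := Nat.Coprime.pow_left e (hp.coprime_iff_not_dvd.2 hm)
  obtain ⟨i, hi1, hi2⟩ := Nat.chineseRemainder hcop 1 0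
  obtain ⟨j, hj1, hj2⟩ := Nat.chineseRemainder hcop 0 1
  refine ⟨i, j, ?_, ?_, ?_⟩
  · rw [← pow_add]
    conv_lhs => rw [← pow_one x]
    rw [pow_eq_pow_iff_modEq, hn]
    exact ((Nat.modEq_and_modEq_iff_modEq_mul hcop).1 ⟨hi1.add hj1, hi2.add hj2⟩).symm
  · obtain ⟨a, -, ha⟩ := (Nat.dvd_prime_pow hp).1 (orderOf_dvd_of_pow_eq_one (x := x ^ i) (n := p ^ e) (by
      rw [← pow_mul, ← orderOf_dvd_iff_pow_eq_one, hn, mul_comm i]
      exact Nat.mul_dvd_mul_left _ (Nat.modEq_zero_iff_dvd.1 hi2)))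
    exact ⟨a, ha⟩
  · refine Nat.Coprime.coprime_dvd_left (orderOf_dvd_of_pow_eq_one (n := m) ?_) (hp.coprime_iff_not_dvd.2 hm).symm
    rw [← pow_mul, ← orderOf_dvd_iff_pow_eq_one, hn]
    exact Nat.mul_dvd_mul (Nat.modEq_zero_iff_dvd.1 hj1) (dvd_refl m)

theorem cond_subgroup {G : Type u} [Group G] (h : Cond G) (H : Subgroup G) : Cond H := by
  intro p q hp hq hpq x g hx hg hd
  refine h p q hp hq hpq (x : G) (g : G) (by rwa [Subgroup.orderOf_coe]) (by rwa [Subgroup.orderOf_coe]) ?_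
  refine hd.trans (dvd_of_eq ?_)
  rw [← Subgroup.card_map_of_injective H.subtype_injective, Subgroup.map_sup, MonoidHom.map_zpowers,
    MonoidHom.map_zpowers]
  simp

theorem cond_quotient {G : Type u} [Group G] [Finite G] (h : Cond G) (N : Subgroup G) [N.Normal] : Cond (G ⧸ N) := by
  intro p q hp hq hpq x g hx hg hd
  have lift : ∀ {r : ℕ}, r.Prime → ∀ y : G ⧸ N, (∃ a, orderOf y = r ^ a) →
      ∃ z : G, (z : G ⧸ N) = y ∧ ∃ a, orderOf z = r ^ a := by
    intro r hr y hy
    obtain ⟨a, ha⟩ := hy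
    obtain ⟨z, rfl⟩ := QuotientGroup.mk_surjective y
    obtain ⟨i, j, hij, hi, hj⟩ := decomp hr z
    refine ⟨z ^ i, ?_, hi⟩
    have h1 : orderOf ((z ^ j : G) : G ⧸ N) = 1 := by
      refine Nat.eq_one_of_dvd_coprimes (Nat.Coprime.pow_right a hj) (orderOf_map_dvd (QuotientGroup.mk' N) (z ^ j)) ?_
      rw [← ha, QuotientGroup.mk_pow]
      exact orderOf_pow_dvd j
    conv_rhs => rw [hij]
    rw [QuotientGroup.mk_mul, orderOf_eq_one_iff.1 h1, mul_one]
  obtain ⟨x', rfl, hx'⟩ := lift hp x hx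
  obtain ⟨g', rfl, hg'⟩ := lift hq g hg
  refine h p q hp hq hpq x' g' hx' hg' (hd.trans ?_)
  refine dvd_trans (dvd_of_eq ?_) (Subgroup.card_map_dvd
    (Subgroup.zpowers x' ⊔ Subgroup.zpowers (g' * x' * g'⁻¹)) (QuotientGroup.mk' N))
  rw [Subgroup.map_sup, MonoidHom.map_zpowers, MonoidHom.map_zpowers]
  simp

/-- the commutator with an element of a normal `q`-subgroup generates an invariant subgroup of order at most `q` -/
theorem comm_facts {G : Type u} [Group G] [Finite G] (h : Cond G) {p q : ℕ} [hq : Fact q.Prime] (hp : p.Prime)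
    (hpq : p ≠ q) {Q : Subgroup G} (hQ : IsPGroup q Q) {x v : G} (hx : ∃ a, orderOf x = p ^ a) (hv : v ∈ Q)
    (hxQ : x ∈ Subgroup.normalizer (Q : Set G)) :
    (x * v * x⁻¹ * v⁻¹) ^ q = 1 ∧ ∃ n : ℕ, x * (x * v * x⁻¹ * v⁻¹) * x⁻¹ = (x * v * x⁻¹ * v⁻¹) ^ n := by
  set c := x * v * x⁻¹ * v⁻¹ with hc
  obtain ⟨k, hk⟩ := hQ ⟨v, hv⟩
  obtain ⟨b, -, hb⟩ := (Nat.dvd_prime_pow hq.out).1 (orderOf_dvd_of_pow_eq_one (x := v)
    (n := q ^ k) (congrArg Subtype.val hk))
  set L := Subgroup.zpowers x ⊔ Subgroup.zpowers (v * x * v⁻¹) with hL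
  have hd := h p q hp hq.out hpq x v hx ⟨b, hb⟩
  set D := L ⊓ Q with hD
  have hDp : IsPGroup q D := hQ.to_le inf_le_right
  obtain ⟨n, hn⟩ := hDp.exists_card_eq
  have hn1 : n ≤ 1 := by
    by_contra hcon
    refine hd ((pow_dvd_pow q (show 2 ≤ n by omega)).trans ?_)
    rw [← hn]
    exact Subgroup.card_dvd_of_le inf_le_left
  have hxL : x ∈ L := Subgroup.mem_sup_left (Subgroup.mem_zpowers x)
  have hcD : c ∈ D := by
    refine ⟨?_, Q.mul_mem ((Subgroup.mem_normalizer_iff.1 hxQ v).1 hv) (Q.inv_mem hv)⟩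
    rw [hc, show x * v * x⁻¹ * v⁻¹ = x * (v * x * v⁻¹)⁻¹ by group]
    exact L.mul_mem hxL (L.inv_mem (Subgroup.mem_sup_right (Subgroup.mem_zpowers _)))
  have hxc : x * c * x⁻¹ ∈ D :=
    ⟨L.mul_mem (L.mul_mem hxL hcD.1) (L.inv_mem hxL), (Subgroup.mem_normalizer_iff.1 hxQ c).1 hcD.2⟩
  have hDq : Nat.card D ∣ q := by
    rw [hn]
    exact dvd_trans (pow_dvd_pow q hn1) (dvd_of_eq (pow_one q))
  have hcq : c ^ q = 1 := by
    rw [← orderOf_dvd_iff_pow_eq_one, show orderOf c = orderOf (⟨c, hcD⟩ : D) from (Subgroup.orderOf_mk c hcD).symm]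
    exact (_root_.orderOf_dvd_natCard _).trans hDq
  refine ⟨hcq, ?_⟩
  by_cases hc1 : c = 1
  · exact ⟨0, by rw [hc1, pow_zero]; group⟩
  have hle : Subgroup.zpowers c = D := by
    refine Subgroup.eq_of_le_of_card_ge (Subgroup.zpowers_le.2 hcD) ?_
    rw [Nat.card_zpowers, orderOf_eq_prime hcq hc1]
    exact Nat.le_of_dvd hq.out.pos hDq
  classical
  obtain ⟨m, -, hm⟩ := Finset.mem_image.1
    ((isOfFinOrder_of_finite c).mem_zpowers_iff_mem_range_orderOf.1 (hle.ge hxc))
  exact ⟨m, hm.symm⟩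

theorem commute_of_lt {G : Type u} [Group G] [Finite G] (h : Cond G) {p q : ℕ} [hp : Fact p.Prime] (hq : q.Prime)
    (hlt : p < q) {Q : Subgroup G} (hQ : IsPGroup p Q) {g : G} (hg : ∃ a, orderOf g = q ^ a)
    (hgQ : g ∈ Subgroup.normalizer (Q : Set G)) {x : G} (hx : x ∈ Q) : g * x = x * g := by
  obtain ⟨hc, n, hn⟩ := comm_facts h hq hlt.ne' hQ hg hx hgQ
  set c := g * x * g⁻¹ * x⁻¹ with hcd
  obtain ⟨a, ha⟩ := hg
  have hgc : g * c * g⁻¹ = c := by
    by_cases hc1 : c = 1
    · rw [hc1]; group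
    have hord : orderOf c = p := orderOf_eq_prime hc hc1
    have hit : ∀ k : ℕ, g ^ k * c * (g ^ k)⁻¹ = c ^ n ^ k := by
      intro k
      induction k with
      | zero => simp
      | succ k ih =>
        rw [show g ^ (k + 1) * c * (g ^ (k + 1))⁻¹ = g * (g ^ k * c * (g ^ k)⁻¹) * g⁻¹ by rw [pow_succ']; group, ih,
          ← conj_pow, hn, ← pow_mul, ← pow_succ']
    have h1 := hit (q ^ a)
    rw [← ha, pow_orderOf_eq_one, one_mul, inv_one, mul_one, ha] at h1
    have h2 : ((n : ZMod p)) ^ q ^ a = 1 := by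
      rw [← Nat.cast_pow, ← Nat.cast_one, ZMod.natCast_eq_natCast_iff, ← hord, ← pow_eq_pow_iff_modEq, pow_one]
      exact h1.symm
    have hn0 : (n : ZMod p) ≠ 0 := fun h0 => by
      rw [h0, zero_pow (pow_ne_zero _ hq.ne_zero)] at h2
      exact zero_ne_one h2
    have h3 : (n : ZMod p) = 1 := orderOf_eq_one_iff.1 (Nat.eq_one_of_dvd_coprimes
      (Nat.Coprime.pow_left a (hq.coprime_iff_not_dvd.2 fun hd => by
        have := Nat.le_of_dvd (by have := hp.out.two_le; omega) hd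
        omega))
      (orderOf_dvd_of_pow_eq_one h2) (orderOf_dvd_of_pow_eq_one (ZMod.pow_card_sub_one_eq_one hn0)))
    rw [hn]
    conv_rhs => rw [← pow_one c]
    rw [pow_eq_pow_iff_modEq, hord, ← ZMod.natCast_eq_natCast_iff, h3, Nat.cast_one]
  have hit2 : ∀ k : ℕ, g ^ k * x * (g ^ k)⁻¹ = c ^ k * x := by
    intro k
    induction k with
    | zero => simp
    | succ k ih =>
      rw [show g ^ (k + 1) * x * (g ^ (k + 1))⁻¹ = g * (g ^ k * x * (g ^ k)⁻¹) * g⁻¹ by rw [pow_succ']; group, ih,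
        show g * (c ^ k * x) * g⁻¹ = (g * c ^ k * g⁻¹) * (g * x * g⁻¹ * x⁻¹) * x by group, ← conj_pow, hgc, ← hcd,
        ← pow_succ]
  have h1 := hit2 (q ^ a)
  rw [← ha, pow_orderOf_eq_one, one_mul, inv_one, mul_one, ha, right_eq_mul] at h1
  have h2 : c = 1 := orderOf_eq_one_iff.1 (Nat.eq_one_of_dvd_coprimes
    (Nat.Coprime.pow_left a ((Nat.coprime_primes hq hp.out).2 hlt.ne')) (orderOf_dvd_of_pow_eq_one h1)
    (orderOf_dvd_of_pow_eq_one hc))
  exact mul_inv_eq_iff_eq_mul.1 (mul_inv_eq_one.1 h2)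

theorem isSolvable_of_cond : ∀ (n : ℕ) (G : Type u) [Group G] [Finite G], Nat.card G = n → Cond G →
    Group.IsSolvable G := by
  intro n
  induction n using Nat.strong_induction_on with
  | _ n ih =>
  intro G _ _ hn h
  by_cases h1 : n = 1
  · haveI : Subsingleton G := (Nat.card_eq_one_iff_unique.1 (hn.trans h1)).1
    infer_instance
  set p := n.minFac with hpdef
  have hp : p.Prime := Nat.minFac_prime h1
  haveI := Fact.mk hp
  let P : Sylow p G := default
  have hloc : CfsgLib.Fusion.LocallyPNilpotentAction p (P : Subgroup G) := by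
    intro Q hQ g hg hcop
    -- every prime power part of `g` centralizes `Q`
    have key : ∀ m : ℕ, ∀ y : G, orderOf y = m → y ∈ Subgroup.normalizer (Q : Set G) → m.Coprime p →
        y ∈ Subgroup.centralizer (Q : Set G) := by
      intro m
      induction m using Nat.strong_induction_on with
      | _ m ihm =>
      intro y hy hyQ hm
      by_cases hm1 : m = 1
      · rw [orderOf_eq_one_iff.1 (hy.trans hm1)]
        exact one_mem _
      set r := m.minFac
      have hr : r.Prime := Nat.minFac_prime hm1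
      have hrm : r ∣ m := Nat.minFac_dvd m
      have hlt : p < r := by
        refine lt_of_le_of_ne (Nat.minFac_le_of_dvd hr.two_le ?_) fun he => ?_
        · rw [← hn, ← hy] at *
          exact hrm.trans (orderOf_dvd_natCard y)
        · exact hr.ne_one (Nat.eq_one_of_dvd_coprimes hm hrm (dvd_of_eq he.symm))
      obtain ⟨i, j, hij, hi, hj⟩ := decomp hr y
      rw [hij]
      refine mul_mem (Subgroup.mem_centralizer_iff.2 fun x hx => ?_) ?_
      · exact (commute_of_lt h hr hlt (P.2.to_le hQ) hi (pow_mem hyQ i) hx).symm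
      · refine ihm (orderOf (y ^ j)) ?_ _ rfl (pow_mem hyQ j) ?_
        · refine lt_of_le_of_ne (Nat.le_of_dvd (hy ▸ orderOf_pos y) (hy ▸ orderOf_pow_dvd j)) fun he => ?_
          rw [he] at hj
          exact hr.ne_one (Nat.eq_one_of_dvd_coprimes hj hrm dvd_rfl)
        · exact Nat.Coprime.coprime_dvd_left (hy ▸ orderOf_pow_dvd j) hm
    exact key _ g rfl hg hcop
  have hcomp := CfsgLib.Fusion.hasNormalPComplement_of_locallyPNilpotentAction P hloc
  haveI := CfsgLib.Fusion.pResidual_normal (G := G) (p := p)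
  set K := Cfsg.pResidual p G with hK
  have hKlt : Nat.card K < n := by
    rw [← hn]
    refine lt_of_le_of_ne (Subgroup.card_le_card_group K) fun he => ?_
    apply CfsgLib.Fusion.hasNormalPComplement_iff_not_dvd.1 hcomp
    rw [he, hn]
    exact Nat.minFac_dvd n
  haveI := ih _ hKlt K rfl (cond_subgroup h K)
  haveI : Group.IsSolvable (G ⧸ K) := by
    haveI := (CfsgLib.Fusion.isPGroup_quotient_pResidual (p := p) K le_rfl).isNilpotent
    infer_instance
  exact solvable_of_ker_le_range K.subtype (QuotientGroup.mk' K) (by simp)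

section Ring

variable {K M : Type*} [Field K] [AddCommGroup M] [Module K M]

/-- `f` is a scalar -/
def IsScalar (K : Type*) [Field K] [Module K M] (f : Module.End K M) : Prop := ∃ c : K, f = c • 1

theorem eq_zero_of_smul_add {f : Module.End K M} (hf : ¬ IsScalar K f) {a b : K} (h : a • (1 : Module.End K M) + b • f = 0) :
    a = 0 ∧ b = 0 := by
  haveI : Nontrivial M := by
    by_contra hM
    rw [not_nontrivial_iff_subsingleton] at hM
    exact hf ⟨0, LinearMap.ext fun v => Subsingleton.elim _ _⟩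
  by_cases hb : b = 0
  · rw [hb, zero_smul, add_zero] at h
    refine ⟨?_, hb⟩
    by_contra ha
    obtain ⟨v, hv⟩ := exists_ne (0 : M)
    exact hv ((smul_eq_zero.1 (LinearMap.congr_fun h v : a • v = 0)).resolve_left ha)
  · exfalso
    refine hf ⟨-(b⁻¹ * a), ?_⟩
    have := congrArg (b⁻¹ • ·) h
    rw [neg_smul, eq_neg_iff_add_eq_zero]
    simpa [smul_add, smul_smul, inv_mul_cancel₀ hb, add_comm] using this

theorem affine_mul {e : Module.End K M} (he : e * e = e) (a b c d : K) :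
    (a • (1 : Module.End K M) + b • e) * (c • 1 + d • e) = (a * c) • 1 + (a * d + b * c + b * d) • e := by
  simp only [mul_add, add_mul, smul_mul_smul_comm, one_mul, mul_one, he, add_smul]
  abel

theorem affine_root {e : Module.End K M} (he : e * e = e) (hns : ¬ IsScalar K e) {u v l : K}
    (hrel : (u • (1 : Module.End K M) + v • e - 1) * (u • 1 + v • e - l • 1) = 0) :
    (u - 1) * (u - l) = 0 ∧ v * (2 * u + v - 1 - l) = 0 := by
  have e1 : u • (1 : Module.End K M) + v • e - 1 = (u - 1) • 1 + v • e := by rw [sub_smul, one_smul]; abel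
  have e2 : u • (1 : Module.End K M) + v • e - l • 1 = (u - l) • 1 + v • e := by rw [sub_smul]; abel
  rw [e1, e2, affine_mul he] at hrel
  obtain ⟨h1, h2⟩ := eq_zero_of_smul_add hns hrel
  exact ⟨h1, by linear_combination h2⟩

theorem sq_eq_one_of_anti (h2 : (2 : K) ≠ 0) {X A : Module.End K M} {l : K} (hA : A * A = 1)
    (hXA : X * A = -(A * X)) (hX0 : ¬ IsScalar K X) (hrel : (X - 1) * (X - l • 1) = 0) : X * X = 1 := by
  have hc : A * X * A = -X := by rw [mul_assoc, hXA, mul_neg, ← mul_assoc, hA, one_mul]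
  have hcX : A * (X * X) * A = X * X := by
    calc A * (X * X) * A = (A * X * A) * (A * X * A) := by
          rw [show A * X * A * (A * X * A) = A * X * (A * A) * X * A by simp only [mul_assoc], hA, mul_one]
          simp only [mul_assoc]
      _ = X * X := by rw [hc, neg_mul_neg]
  have hexp : (X - 1) * (X - l • 1) = X * X - (1 + l) • X + l • 1 := by
    simp only [sub_mul, mul_sub, mul_smul_comm, mul_one, one_mul, add_smul, one_smul]
    module
  rw [hexp] at hrel
  have h3 : X * X + (1 + l) • X + l • 1 = 0 := by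
    have h4 := congrArg (fun f => A * f * A) hrel
    simp only [mul_add, mul_sub, add_mul, sub_mul, mul_smul_comm, smul_mul_assoc, mul_one, mul_zero, zero_mul, hA,
      hc, hcX, smul_neg, sub_neg_eq_add] at h4
    exact h4
  have h5 : (2 * (1 + l)) • X = 0 := by
    have := congrArg₂ (· - ·) h3 hrel
    simp only [sub_zero] at this
    rw [← this, mul_smul, two_smul]
    abel
  have hXne : X ≠ 0 := fun h => hX0 ⟨0, by rw [h, zero_smul]⟩
  have h6 : l = -1 := by
    have := (smul_eq_zero.1 h5).resolve_right hXne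
    rcases mul_eq_zero.1 this with h7 | h7
    · exact absurd h7 h2
    · linear_combination h7
  rw [h6, add_neg_cancel, zero_smul, add_zero, neg_smul, one_smul, ← sub_eq_add_neg, sub_eq_zero] at h3
  exact h3

end Ring

set_option maxHeartbeats 2000000 in
theorem endgame {G : Type u} [Group G] [Finite G] {q : ℕ} [Fact q.Prime] {M : Type*} [AddCommGroup M]
    [Module (ZMod q) M] [Nontrivial M] (ρ : G →* Module.End (ZMod q) M)
    (hirr : ∀ U : Submodule (ZMod q) M, (∀ (g : G), ∀ v ∈ U, ρ g v ∈ U) → U = ⊥ ∨ U = ⊤)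
    (hrel : ∀ (r : ℕ), r.Prime → r ≠ q → ∀ g : G, (∃ k, ρ g ^ r ^ k = 1) →
      ∃ l : ZMod q, (ρ g - 1) * (ρ g - l • 1) = 0)
    (hall : ¬ ∀ g : G, IsScalar (ZMod q) (ρ g))
    (hss : ∀ (N : Subgroup G) [N.Normal], N ≠ ⊥ → Cfsg.IsSupersolvable (G ⧸ N))
    (hker : ∃ x : G, x ≠ 1 ∧ ρ x = 1) : False := by
  classical
  have hq : q.Prime := Fact.out
  have hfin : ∀ g : G, ρ g ^ orderOf g = 1 := fun g => by rw [← map_pow, pow_orderOf_eq_one, map_one]
  -- the scalar elements
  let Sc : Subgroup G :=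
    { carrier := {g | IsScalar (ZMod q) (ρ g)}
      one_mem' := ⟨1, by rw [map_one, one_smul]⟩
      mul_mem' := fun {a b} ⟨c, hc⟩ ⟨d, hd⟩ => ⟨c * d, by rw [map_mul, hc, hd, smul_mul_smul_comm, one_mul]⟩
      inv_mem' := fun {a} ⟨c, hc⟩ => ⟨c ^ (orderOf a - 1), by
        rw [show a⁻¹ = a ^ (orderOf a - 1) from inv_eq_of_mul_eq_one_right (by
          rw [← pow_succ', Nat.sub_add_cancel (orderOf_pos a), pow_orderOf_eq_one]), map_pow, hc, smul_pow, one_pow]⟩ }
  have hconj : ∀ (g : G) (c : ZMod q) (f : Module.End (ZMod q) M),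
      ρ g * (c • 1 + f) * ρ g⁻¹ = c • 1 + ρ g * f * ρ g⁻¹ := fun g c f => by
    rw [mul_add, add_mul, mul_smul_comm, mul_one, smul_mul_assoc, ← map_mul, mul_inv_cancel, map_one]
  haveI : Sc.Normal := ⟨fun a ha g => by
    obtain ⟨c, hc⟩ := ha
    refine ⟨c, ?_⟩
    have := hconj g c 0
    rw [add_zero, mul_zero, zero_mul, add_zero] at this
    rw [map_mul, map_mul, hc]
    exact this⟩
  have hS1 : Sc ≠ ⊥ := fun h0 => by
    obtain ⟨x, hx1, hx⟩ := hker
    refine hx1 ((Subgroup.eq_bot_iff_forall Sc).1 h0 x ⟨1, ?_⟩)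
    rw [hx, one_smul]
  haveI : Nontrivial (G ⧸ Sc) := (QuotientGroup.nontrivial_iff).2 fun htop => hall fun g => htop.ge (Subgroup.mem_top g)
  obtain ⟨N, hNn, hNp⟩ := CfsgLib.PGroup.exists_normal_prime_order (hss Sc hS1)
  set r := Nat.card N
  haveI := Fact.mk hNp
  haveI : IsCyclic N := isCyclic_of_prime_card (α := N) rfl
  obtain ⟨⟨a', ha'⟩, hgen⟩ := IsCyclic.exists_generator (α := N)
  obtain ⟨a₀, rfl⟩ := QuotientGroup.mk_surjective a'
  obtain ⟨i₀, j₀, hij₀, ⟨ka, hka⟩, hj₀⟩ := decomp hNp a₀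
  have hord0 : ((a₀ : G) : G ⧸ Sc) ^ r = 1 := congrArg Subtype.val (pow_card_eq_one' (x := (⟨_, ha'⟩ : N)))
  have hj0 : ((a₀ ^ j₀ : G) : G ⧸ Sc) = 1 := orderOf_eq_one_iff.1 (Nat.eq_one_of_dvd_coprimes hj₀
    (orderOf_map_dvd (QuotientGroup.mk' Sc) (a₀ ^ j₀)) (orderOf_dvd_of_pow_eq_one (by
      show ((a₀ ^ j₀ : G) : G ⧸ Sc) ^ r = 1
      rw [QuotientGroup.mk_pow, ← pow_mul, mul_comm, pow_mul, hord0, one_pow])))
  obtain ⟨a, ha⟩ : ∃ a, a₀ ^ i₀ = a := ⟨_, rfl⟩
  rw [ha] at hka hij₀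
  have haq : (a : G ⧸ Sc) = (a₀ : G ⧸ Sc) := by
    conv_rhs => rw [hij₀]
    rw [QuotientGroup.mk_mul, hj0, mul_one]
  have hane : ¬ IsScalar (ZMod q) (ρ a) := fun hsc => by
    have h1 : (a : G ⧸ Sc) = 1 := (QuotientGroup.eq_one_iff a).2 hsc
    rw [haq] at h1
    haveI : Nontrivial N := (Subgroup.nontrivial_iff_ne_bot N).2 ((Subgroup.one_lt_card_iff_ne_bot N).1 hNp.one_lt)
    obtain ⟨⟨y, hy⟩, hy1⟩ := exists_ne (1 : N)
    obtain ⟨k, hk⟩ := Subgroup.mem_zpowers_iff.1 (hgen ⟨y, hy⟩)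
    refine hy1 (Subtype.ext ?_)
    have := congrArg Subtype.val hk
    rw [Subgroup.coe_zpow] at this
    show y = 1
    refine this.symm.trans ?_
    show ((a₀ : G) : G ⧸ Sc) ^ k = 1
    rw [h1, one_zpow]
  have hdecomp : ∀ g : G, ∃ (i : ℕ) (c : ZMod q), ρ (g * a * g⁻¹) = c • ρ a ^ i := by
    intro g
    have h1 : ((g * a * g⁻¹ : G) : G ⧸ Sc) ∈ N := by
      rw [QuotientGroup.mk_mul, QuotientGroup.mk_mul, QuotientGroup.mk_inv, haq]
      exact hNn.conj_mem _ ha' _
    obtain ⟨i, -, hi⟩ := Finset.mem_image.1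
      ((isOfFinOrder_of_finite (⟨_, ha'⟩ : N)).mem_zpowers_iff_mem_range_orderOf.1 (hgen ⟨_, h1⟩))
    have h2 : (a ^ i)⁻¹ * (g * a * g⁻¹) ∈ Sc := by
      refine QuotientGroup.eq.1 ?_
      rw [QuotientGroup.mk_pow, haq]
      exact congrArg Subtype.val hi
    obtain ⟨c, hc⟩ := h2
    refine ⟨i, c, ?_⟩
    rw [show g * a * g⁻¹ = a ^ i * ((a ^ i)⁻¹ * (g * a * g⁻¹)) by group, map_mul, hc, mul_smul_comm, mul_one, map_pow]
  set A := ρ a with hA
  have hAk : A ^ r ^ ka = 1 := by rw [hA, ← map_pow, ← hka, pow_orderOf_eq_one, map_one]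
  by_cases hrq : r = q
  · -- a unipotent element fixes a vector
    haveI : CharP (Module.End (ZMod q) M) q :=
      charP_of_injective_algebraMap (FaithfulSMul.algebraMap_injective (ZMod q) _) q
    have hnil : (A - 1) ^ q ^ ka = 0 := by
      rw [sub_pow_char_pow_of_commute q ka (Commute.one_right A), one_pow, show A ^ q ^ ka = 1 from by have h9 := hAk; rwa [hrq] at h9, sub_self]
    set U := LinearMap.ker (A - 1) with hU
    have hfix : ∀ v, v ∈ U ↔ A v = v := fun v => by
      rw [hU, LinearMap.mem_ker, LinearMap.sub_apply, Module.End.one_apply, sub_eq_zero]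
    refine Or.elim (hirr U ?inv) (fun h0 => ?_) (fun h0 => ?_)
    case' inv => intro g v hv
    rotate_left
    · have hinj : Function.Injective ⇑(A - 1) := LinearMap.ker_eq_bot.1 h0
      obtain ⟨v, hv⟩ := exists_ne (0 : M)
      apply hv
      have h1 : ∀ (k : ℕ), Function.Injective ⇑((A - 1) ^ k : Module.End (ZMod q) M) := by
        intro k
        rw [Module.End.coe_pow]
        exact hinj.iterate k
      exact h1 (q ^ ka) (by rw [hnil]; rfl)
    · refine hane ⟨1, ?_⟩
      rw [one_smul]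
      exact LinearMap.ext fun v => (hfix v).1 (h0.ge Submodule.mem_top)
    obtain ⟨i, c, hc⟩ := hdecomp g⁻¹
    have hc1 : c = 1 := by
      have h1 : ρ (g⁻¹ * a * g⁻¹⁻¹) ^ r ^ ka = 1 := by
        rw [← map_pow, conj_pow, ← hka, pow_orderOf_eq_one, mul_one, mul_inv_cancel, map_one]
      rw [hc, smul_pow, ← pow_mul, mul_comm, pow_mul, hAk, one_pow, hrq, ZMod.pow_card_pow] at h1
      by_contra hne
      obtain ⟨v, hv⟩ := exists_ne (0 : M)
      have h2 := LinearMap.congr_fun h1 v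
      rw [LinearMap.smul_apply, Module.End.one_apply] at h2
      have h3 : (c - 1) • v = 0 := by rw [sub_smul, one_smul, h2, sub_self]
      exact hne (sub_eq_zero.1 ((smul_eq_zero.1 h3).resolve_right hv))
    rw [hc1, one_smul] at hc
    refine (hfix _).2 ?_
    have h2 : (A ^ i) v = v := by
      clear hc
      induction i with
      | zero => rfl
      | succ i ihi => rw [pow_succ, Module.End.mul_apply, (hfix v).1 hv, ihi]
    rw [← hc] at h2
    show ρ a (ρ g v) = ρ g v
    calc ρ a (ρ g v) = ρ g (ρ (g⁻¹ * a * g⁻¹⁻¹) v) := by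
          show (ρ a * ρ g) v = (ρ g * ρ (g⁻¹ * a * g⁻¹⁻¹)) v
          rw [← map_mul, ← map_mul]
          congr 2
          group
      _ = ρ g v := by rw [h2]
  -- a semisimple element with two eigenvalues
  obtain ⟨l, hl⟩ := hrel r hNp hrq a ⟨ka, hAk⟩
  have hl1 : l ≠ 1 := by
    intro h1
    rw [h1, one_smul] at hl
    have hit : ∀ k : ℕ, A ^ k = 1 + k • (A - 1) := by
      intro k
      induction k with
      | zero => simp
      | succ k ihk =>
        rw [pow_succ, ihk, add_mul, one_mul, smul_mul_assoc,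
          show (A - 1) * A = (A - 1) * (A - 1) + (A - 1) by rw [mul_sub, mul_one]; abel, hl, zero_add, succ_nsmul]
        abel
    have h2 := hit (r ^ ka)
    rw [hAk, left_eq_add, ← Nat.cast_smul_eq_nsmul (ZMod q)] at h2
    refine hane ⟨1, ?_⟩
    rw [one_smul]
    refine sub_eq_zero.1 ((smul_eq_zero.1 h2).resolve_left ?_)
    rw [Nat.cast_pow]
    refine pow_ne_zero _ fun h3 => hrq ?_
    exact ((Nat.prime_dvd_prime_iff_eq hq hNp).1 ((ZMod.natCast_eq_zero_iff r q).1 h3)).symm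
  have hl0 : l ≠ 0 := by
    intro h0
    rw [h0, zero_smul, sub_zero] at hl
    obtain ⟨k, hk⟩ : ∃ k, r ^ ka = k + 1 := ⟨r ^ ka - 1, by have := pow_pos hNp.pos ka; omega⟩
    refine hane ⟨1, ?_⟩
    rw [one_smul]
    have h1 : (A - 1) * A ^ (k + 1) = 0 := by rw [pow_succ', ← mul_assoc, hl, zero_mul]
    rw [← hk, hAk, mul_one] at h1
    exact sub_eq_zero.1 h1
  set e := (l - 1)⁻¹ • (A - 1) with he
  have hsub : l - 1 ≠ 0 := sub_ne_zero.2 hl1
  have hsq : (A - 1) * (A - 1) = (l - 1) • (A - 1) := by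
    have h1 : (A - 1) * (A - l • 1) = 0 := hl
    calc (A - 1) * (A - 1) = (A - 1) * ((A - l • 1) + (l - 1) • 1) := by congr 1; rw [sub_smul, one_smul]; abel
      _ = (l - 1) • (A - 1) := by rw [mul_add, h1, zero_add, mul_smul_comm, mul_one]
  have hee : e * e = e := by
    rw [he, smul_mul_smul_comm, hsq, smul_smul, mul_assoc, inv_mul_cancel₀ hsub, mul_one]
  have hA' : A = (1 : ZMod q) • 1 + (l - 1) • e := by
    rw [he, smul_smul, mul_inv_cancel₀ hsub, one_smul, one_smul]; abel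
  have hens : ¬ IsScalar (ZMod q) e := by
    rintro ⟨c, hc⟩
    exact hane ⟨1 + (l - 1) * c, by rw [hA', hc, smul_smul, ← add_smul]⟩
  have hpow : ∀ k : ℕ, A ^ k = (1 : ZMod q) • 1 + (l ^ k - 1) • e := by
    intro k
    induction k with
    | zero => simp
    | succ k ihk =>
      rw [pow_succ, ihk, hA', affine_mul hee, one_mul]
      congr 2
      ring
  -- the conjugates
  have hcases : ∀ g : G, ρ (g * a * g⁻¹) = A ∨ ρ (g * a * g⁻¹) = l • 1 + (1 - l) • e := by
    intro g
    obtain ⟨i, c, hc⟩ := hdecomp g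
    have hB : ρ (g * a * g⁻¹) = c • 1 + (c * (l ^ i - 1)) • e := by
      rw [hc, hpow, smul_add, smul_smul, smul_smul, mul_one]
    have hrelB : (ρ (g * a * g⁻¹) - 1) * (ρ (g * a * g⁻¹) - l • 1) = 0 := by
      have h1 : ρ g * ((A - 1) * (A - l • 1)) * ρ g⁻¹ = 0 := by rw [show (A - 1) * (A - l • 1) = 0 from hl, mul_zero, zero_mul]
      rw [← h1, map_mul, map_mul]
      have h2 : ρ g⁻¹ * ρ g = 1 := by rw [← map_mul, inv_mul_cancel, map_one]
      have h3 : ρ g * ρ g⁻¹ = 1 := by rw [← map_mul, mul_inv_cancel, map_one]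
      have e1 : ρ g * A * ρ g⁻¹ - 1 = ρ g * (A - 1) * ρ g⁻¹ := by rw [mul_sub, mul_one, sub_mul, h3]
      have e2 : ρ g * A * ρ g⁻¹ - l • 1 = ρ g * (A - l • 1) * ρ g⁻¹ := by
        rw [mul_sub, mul_smul_comm, mul_one, sub_mul, smul_mul_assoc, h3]
      rw [show ρ a = A from rfl, e1, e2, ← mul_assoc (ρ g * (A - 1) * ρ g⁻¹), ← mul_assoc (ρ g * (A - 1) * ρ g⁻¹),
        mul_assoc (ρ g * (A - 1)) (ρ g⁻¹) (ρ g), h2, mul_one, mul_assoc (ρ g) (A - 1)]
    have hns : c * (l ^ i - 1) ≠ 0 := by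
      intro h0
      rw [h0, zero_smul, add_zero] at hB
      have h1 : IsScalar (ZMod q) (ρ a) := by
        have := Subgroup.Normal.conj_mem (inferInstance : Sc.Normal) _ (show g * a * g⁻¹ ∈ Sc from ⟨c, hB⟩) g⁻¹
        rwa [show g⁻¹ * (g * a * g⁻¹) * g⁻¹⁻¹ = a by group] at this
      exact hane h1
    rw [hB] at hrelB ⊢
    obtain ⟨h1, h2⟩ := affine_root hee hens hrelB
    have h3 := (mul_eq_zero.1 h2).resolve_left hns
    rcases mul_eq_zero.1 h1 with h4 | h4
    · left
      rw [hA', sub_eq_zero.1 h4]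
      congr 2
      rw [sub_eq_zero.1 h4] at h3
      linear_combination h3
    · right
      rw [sub_eq_zero.1 h4]
      congr 2
      rw [sub_eq_zero.1 h4] at h3
      linear_combination h3
  by_cases hcen : ∀ g : G, ρ (g * a * g⁻¹) = A
  · -- central: scalar
    refine Or.elim (hirr (LinearMap.ker e) ?inv2) (fun h0 => ?_) (fun h0 => ?_)
    case' inv2 => intro g v hv
    rotate_left
    · refine hens ⟨1, ?_⟩
      rw [one_smul]
      refine LinearMap.ext fun v => LinearMap.ker_eq_bot.1 h0 ?_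
      show (e * e) v = (e * 1) v
      rw [hee, mul_one]
    · refine hens ⟨0, ?_⟩
      rw [zero_smul]
      exact LinearMap.ker_eq_top.1 h0
    rw [LinearMap.mem_ker] at hv ⊢
    have hc := hcen g
    rw [map_mul, map_mul] at hc
    have hga : A * ρ g = ρ g * A := by
      conv_lhs => rw [← hc]
      rw [mul_assoc (ρ g * A) (ρ g⁻¹) (ρ g), show ρ g⁻¹ * ρ g = 1 by rw [← map_mul, inv_mul_cancel, map_one], mul_one]
    have hge : e * ρ g = ρ g * e := by
      rw [he, smul_mul_assoc, mul_smul_comm, sub_mul, mul_sub, hga, one_mul, mul_one]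
    show (e * ρ g) v = 0
    rw [hge, Module.End.mul_apply, hv, map_zero]
  push Not at hcen
  obtain ⟨g, hg⟩ := hcen
  have hB := (hcases g).resolve_left hg
  -- the product is scalar
  have hlA : ∃ l' : ZMod q, (l • A - 1) * (l • A - l' • 1) = 0 := by
    obtain ⟨l', hl'⟩ := hrel r hNp hrq (a * a * (g * a * g⁻¹)) (by
      refine ⟨ka, ?_⟩
      have e1 : ρ (a * a * (g * a * g⁻¹)) = l • A := by
        rw [map_mul, map_mul, hB, ← hA, hA', affine_mul hee, affine_mul hee, smul_add, smul_smul, smul_smul]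
        match_scalars <;> ring
      rw [e1, smul_pow, hAk]
      have h2 := hAk
      rw [hpow] at h2
      have h3 : (l ^ r ^ ka - 1) • e = 0 := by rwa [one_smul, add_eq_left] at h2
      rw [sub_eq_zero.1 ((smul_eq_zero.1 h3).resolve_right fun h0 => hens ⟨0, by rw [h0, zero_smul]⟩), one_smul])
    refine ⟨l', ?_⟩
    have e1 : ρ (a * a * (g * a * g⁻¹)) = l • A := by
      rw [map_mul, map_mul, hB, ← hA, hA', affine_mul hee, affine_mul hee, smul_add, smul_smul, smul_smul]
      match_scalars <;> ring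
    rwa [e1] at hl'
  obtain ⟨l', hl'⟩ := hlA
  rw [hA', smul_add, smul_smul, smul_smul, mul_one] at hl'
  obtain ⟨h1, h2⟩ := affine_root hee hens hl'
  have hl' : l' = l := by
    have := (mul_eq_zero.1 h1).resolve_left hsub
    linear_combination -this
  have h3 := (mul_eq_zero.1 h2).resolve_left (mul_ne_zero hl0 hsub)
  have hlm : l = -1 := by
    have h4 : (l - 1) * (l + 1) = 0 := by rw [hl'] at h3; linear_combination h3
    linear_combination (mul_eq_zero.1 h4).resolve_left hsub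
  have h2ne : (2 : ZMod q) ≠ 0 := fun h0 => hl1 (by linear_combination hlm - h0)
  have hAA : A * A = 1 := by
    rw [hA', affine_mul hee, hlm]
    simp only [one_mul, mul_one, one_smul]
    rw [show (-1 - 1 + (-1 - 1) + (-1 - 1) * (-1 - 1) : ZMod q) = 0 by ring, zero_smul, add_zero]
  have hr2 : r = 2 := by
    rcases hNp.eq_two_or_odd' with h0 | hodd
    · exact h0
    · exfalso
      obtain ⟨k, hk⟩ := hodd.pow (n := ka)
      refine hane ⟨1, ?_⟩
      rw [one_smul]
      calc A = A ^ r ^ ka := by rw [hk, pow_succ, pow_mul, pow_two, hAA, one_pow, one_mul]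
        _ = 1 := hAk
  have hBneg : ρ (g * a * g⁻¹) = -A := by
    rw [hB, hA', hlm, neg_add, ← neg_smul, ← neg_smul]
    congr 2
    ring
  have hXA : ρ g * A = -(A * ρ g) := by
    rw [map_mul, map_mul, ← hA] at hBneg
    have := congrArg (· * ρ g) hBneg
    simp only [mul_assoc, ← map_mul, inv_mul_cancel, map_one, mul_one] at this
    rw [this, neg_mul]
  -- a 2-power element with the same property
  obtain ⟨e₂, m, hm, hkm⟩ := Nat.exists_eq_pow_mul_and_not_dvd (orderOf_pos g).ne' 2 (by norm_num)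
  obtain ⟨k₂, hk₂⟩ : Odd m := Nat.odd_iff.2 (by omega)
  set X := ρ g ^ m with hX
  have hX2 : X ^ 2 ^ e₂ = 1 := by rw [hX, ← pow_mul, mul_comm, ← hkm, hfin]
  have hXAm : X * A = -(A * X) := by
    have hc2 : Commute (ρ g * ρ g) A := by
      show ρ g * ρ g * A = A * (ρ g * ρ g)
      rw [mul_assoc, hXA, mul_neg, ← mul_assoc, hXA, neg_mul, neg_neg, mul_assoc]
    rw [hX, hk₂, pow_succ, pow_mul, pow_two, mul_assoc, hXA, mul_neg, ← mul_assoc, (hc2.pow_left k₂).eq, mul_assoc]
  have hA0 : A ≠ 0 := fun h0 => hane ⟨0, by rw [h0, zero_smul]⟩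
  have hnsX : ∀ f : Module.End (ZMod q) M, f * A = -(A * f) → f * f ≠ 0 → ¬ IsScalar (ZMod q) f := by
    rintro f hf hff ⟨c, hc⟩
    rw [hc, smul_mul_assoc, one_mul, mul_smul_comm, mul_one, eq_neg_iff_add_eq_zero, ← add_smul, ← two_mul] at hf
    rcases smul_eq_zero.1 hf with h0 | h0
    · refine hff ?_
      rw [hc, (mul_eq_zero.1 h0).resolve_left h2ne, zero_smul, mul_zero]
    · exact hA0 h0
  haveI : Nontrivial (Module.End (ZMod q) M) := ⟨⟨A, 0, hA0⟩⟩
  have hunit : ∀ f : Module.End (ZMod q) M, (∃ k, f ^ (k + 1) = 1) → f * f ≠ 0 := by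
    rintro f ⟨k, hk⟩ h0
    have h5 : f = 0 := by
      calc f = f * (f ^ (k + 1)) := by rw [hk, mul_one]
        _ = 0 := by rw [pow_succ', ← mul_assoc, h0, zero_mul]
    rw [h5, zero_pow (Nat.succ_ne_zero k)] at hk
    exact zero_ne_one hk
  have hXX : X * X = 1 := by
    obtain ⟨l₁, hl₁⟩ := hrel 2 Nat.prime_two (hr2 ▸ hrq) (g ^ m) ⟨e₂, by rw [map_pow]; exact hX2⟩
    rw [map_pow] at hl₁
    exact sq_eq_one_of_anti h2ne hAA hXAm (hnsX X hXAm (hunit X ⟨2 ^ e₂ - 1, by
      rw [Nat.sub_add_cancel (Nat.one_le_pow _ _ (by norm_num))]; exact hX2⟩)) hl₁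
  set Y := A * X with hY
  have hYY : Y * Y = -1 := by
    rw [hY, mul_assoc, ← mul_assoc X A X, hXAm, neg_mul, mul_neg, mul_assoc A X X, hXX, mul_one, hAA]
  have hYA : Y * A = -(A * Y) := by rw [hY, mul_assoc, hXAm, mul_neg]
  have hY4 : Y ^ 2 ^ 2 = 1 := by
    rw [show (2 : ℕ) ^ 2 = 2 * 2 from rfl, pow_mul, pow_two, pow_two, hYY, neg_mul_neg, one_mul]
  obtain ⟨l₂, hl₂⟩ := hrel 2 Nat.prime_two (hr2 ▸ hrq) (a * g ^ m) ⟨2, by rw [map_mul, map_pow]; exact hY4⟩
  rw [map_mul, map_pow, ← hA, ← hX, ← hY] at hl₂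
  have hYY1 := sq_eq_one_of_anti h2ne hAA hYA (hnsX Y hYA (hunit Y ⟨3, hY4⟩)) hl₂
  rw [hYY] at hYY1
  obtain ⟨v, hv⟩ := exists_ne (0 : M)
  have h5 := LinearMap.congr_fun hYY1 v
  rw [LinearMap.neg_apply, Module.End.one_apply, neg_eq_iff_add_eq_zero, ← two_smul (ZMod q)] at h5
  exact hv ((smul_eq_zero.1 h5).resolve_left h2ne)

set_option maxHeartbeats 4000000 in
theorem main_aux : ∀ (n : ℕ) (G : Type u) [Group G] [Finite G], Nat.card G = n → Cond G → Cfsg.IsSupersolvable G := by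
  intro n
  induction n using Nat.strong_induction_on with
  | _ n ih =>
  intro G _ _ hn h
  classical
  rcases subsingleton_or_nontrivial G with hs | hnt
  · exact CfsgLib.Coprime.isSupersolvable_of_subsingleton
  haveI hsolv : Group.IsSolvable G := isSolvable_of_cond _ G rfl h
  have ihq : ∀ (N : Subgroup G) [N.Normal], N ≠ ⊥ → Cfsg.IsSupersolvable (G ⧸ N) := fun N _ hN => by
    refine ih _ ?_ _ rfl (cond_quotient h N)
    rw [← hn, Subgroup.card_eq_card_quotient_mul_card_subgroup N]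
    exact lt_mul_of_one_lt_right Nat.card_pos ((Subgroup.one_lt_card_iff_ne_bot N).2 hN)
  -- a minimal normal subgroup
  obtain ⟨V, ⟨hVn, hV1⟩, hVmin⟩ := (wellFounded_lt (α := Subgroup G)).has_min {N : Subgroup G | N.Normal ∧ N ≠ ⊥}
    ⟨⊤, inferInstance, bot_lt_top.ne'⟩
  haveI := hVn
  have hmin : ∀ U : Subgroup G, U.Normal → U ≤ V → U = ⊥ ∨ U = V := fun U hU hUV => by
    by_cases h1 : U = ⊥
    · exact Or.inl h1
    · exact Or.inr ((eq_or_lt_of_le hUV).resolve_right (hVmin U ⟨hU, h1⟩))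
  haveI : Nontrivial V := V.nontrivial_iff_ne_bot.2 hV1
  have hVab : ∀ a ∈ V, ∀ b ∈ V, a * b = b * a := by
    rcases hmin ⁅V, V⁆ inferInstance (Subgroup.commutator_le_left V V) with h0 | h0
    · intro a ha b hb
      exact commutatorElement_eq_one_iff_mul_comm.1
        ((Subgroup.eq_bot_iff_forall _).1 h0 _ (Subgroup.commutator_mem_commutator ha hb))
    · exfalso
      have hlt : commutator V < ⊤ := IsSolvable.commutator_lt_top_of_nontrivial V
      refine hlt.ne ?_
      apply Subgroup.map_injective V.subtype_injective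
      rw [Subgroup.map_subtype_commutator, h0, ← MonoidHom.range_eq_map, Subgroup.range_subtype]
  set q := (Nat.card V).minFac with hqdef
  have hq : q.Prime := Nat.minFac_prime ((Subgroup.one_lt_card_iff_ne_bot V).2 hV1).ne'
  haveI := Fact.mk hq
  have hVq : ∀ v ∈ V, v ^ q = 1 := by
    let U : Subgroup G :=
      { carrier := {v | v ∈ V ∧ v ^ q = 1}
        one_mem' := ⟨one_mem V, one_pow q⟩
        mul_mem' := fun {a b} ha hb => ⟨mul_mem ha.1 hb.1, by
          rw [(show Commute a b from hVab a ha.1 b hb.1).mul_pow, ha.2, hb.2, one_mul]⟩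
        inv_mem' := fun {a} ha => ⟨inv_mem ha.1, by rw [inv_pow, ha.2, inv_one]⟩ }
    have hUn : U.Normal := ⟨fun a ha g => ⟨hVn.conj_mem a ha.1 g, by rw [conj_pow, ha.2, mul_one, mul_inv_cancel]⟩⟩
    rcases hmin U hUn (fun v hv => hv.1) with h0 | h0
    · exfalso
      obtain ⟨v, hv⟩ := exists_prime_orderOf_dvd_card' (G := V) q (Nat.minFac_dvd _)
      have h1 : (v : G) ∈ U := ⟨v.2, by rw [← Subgroup.coe_pow, ← hv, pow_orderOf_eq_one, Subgroup.coe_one]⟩
      rw [h0, Subgroup.mem_bot] at h1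
      rw [Subtype.ext h1 (a2 := (1 : V)), orderOf_one] at hv
      exact hq.ne_one hv.symm
    · exact fun v hv => (h0.ge hv).2
  have hVp : IsPGroup q V := fun v => ⟨1, Subtype.ext (by simpa using hVq v v.2)⟩
  letI : CommGroup V := { (inferInstance : Group V) with mul_comm := fun a b => Subtype.ext (hVab a a.2 b b.2) }
  have hexp : ∀ v : Additive V, q • v = 0 := fun v => by
    show Additive.ofMul ((Additive.toMul v : V) ^ q) = 0
    rw [show (Additive.toMul v : V) ^ q = 1 from Subtype.ext (hVq _ (Additive.toMul v).2)]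
    rfl
  haveI : Module (ZMod q) (Additive V) := AddCommGroup.zmodModule hexp
  let act : G → Module.End (ZMod q) (Additive V) := fun g =>
    AddMonoidHom.toZModLinearMap q
      { toFun := fun v => Additive.ofMul (⟨g * ((Additive.toMul v : V) : G) * g⁻¹, hVn.conj_mem _ (Additive.toMul v).2 g⟩ : V)
        map_zero' := Subtype.ext (show g * 1 * g⁻¹ = 1 by group)
        map_add' := fun v w => Subtype.ext (show g * (((Additive.toMul v : V) : G) * ((Additive.toMul w : V) : G)) * g⁻¹ =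
          (g * ((Additive.toMul v : V) : G) * g⁻¹) * (g * ((Additive.toMul w : V) : G) * g⁻¹) by group) }
  have hact1 : act 1 = LinearMap.id := by
    refine LinearMap.ext fun v => Subtype.ext ?_
    show (1 : G) * ((Additive.toMul v : V) : G) * (1 : G)⁻¹ = ((Additive.toMul v : V) : G)
    group
  have hactm : ∀ a b, act (a * b) = (act a).comp (act b) := by
    intro a b
    refine LinearMap.ext fun v => Subtype.ext ?_
    show (a * b) * ((Additive.toMul v : V) : G) * (a * b)⁻¹ = a * (b * ((Additive.toMul v : V) : G) * b⁻¹) * a⁻¹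
    group
  let ρ : G →* Module.End (ZMod q) (Additive V) :=
    { toFun := act
      map_one' := hact1
      map_mul' := hactm }
  -- invariant submodules are trivial
  have hirr : ∀ U : Submodule (ZMod q) (Additive V), (∀ (g : G), ∀ v ∈ U, ρ g v ∈ U) → U = ⊥ ∨ U = ⊤ := by
    intro U hU
    let W : Subgroup G :=
      { carrier := {x | ∃ hx : x ∈ V, Additive.ofMul (⟨x, hx⟩ : V) ∈ U}
        one_mem' := ⟨one_mem V, U.zero_mem⟩
        mul_mem' := fun ⟨ha, ha'⟩ ⟨hb, hb'⟩ => ⟨mul_mem ha hb, U.add_mem ha' hb'⟩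
        inv_mem' := fun ⟨ha, ha'⟩ => ⟨inv_mem ha, U.neg_mem ha'⟩ }
    have hWn : W.Normal := ⟨fun a ⟨ha, ha'⟩ g => ⟨hVn.conj_mem a ha g, hU g _ ha'⟩⟩
    rcases hmin W hWn (fun x hx => hx.1) with h0 | h0
    · refine Or.inl ((Submodule.eq_bot_iff U).2 fun v hv => ?_)
      have h1 : ((Additive.toMul v : V) : G) ∈ W := ⟨(Additive.toMul v).2, hv⟩
      rw [h0, Subgroup.mem_bot] at h1
      exact Subtype.ext h1
    · refine Or.inr (Submodule.eq_top_iff'.2 fun v => ?_)
      exact (show ((Additive.toMul v : V) : G) ∈ W from h0.ge (Additive.toMul v).2).choose_spec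
  -- the relation for elements of prime power order
  have hrel : ∀ (r : ℕ), r.Prime → r ≠ q → ∀ g : G, (∃ k, ρ g ^ r ^ k = 1) →
      ∃ l : ZMod q, (ρ g - 1) * (ρ g - l • 1) = 0 := by
    intro r hr hrq g₀ ⟨k, hk⟩
    obtain ⟨i, j, hij, hi, hj⟩ := decomp hr g₀
    set g := g₀ ^ i
    have hg0 : ρ g₀ = ρ g := by
      conv_lhs => rw [hij]
      have h1 : ρ (g₀ ^ j) = 1 := by
        refine orderOf_eq_one_iff.1 (Nat.eq_one_of_dvd_coprimes (Nat.Coprime.pow_right k hj) (orderOf_map_dvd ρ _)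
          (orderOf_dvd_of_pow_eq_one ?_))
        rw [map_pow, ← pow_mul, mul_comm, pow_mul, hk, one_pow]
      rw [map_mul, h1, mul_one]
    rw [hg0]
    -- every vector of the image is an eigenvector
    have heig : ∀ w ∈ LinearMap.range (ρ g - 1), ∃ c : ZMod q, ρ g w = c • w := by
      rintro _ ⟨v, rfl⟩
      obtain ⟨-, m, hm⟩ := comm_facts h hr hrq hVp hi (Additive.toMul v).2
        ((Subgroup.normalizer_eq_top_iff.2 hVn).ge (Subgroup.mem_top g))
      refine ⟨(m : ZMod q), ?_⟩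
      rw [Nat.cast_smul_eq_nsmul]
      have e : (ρ g - 1) v = Additive.ofMul (⟨g * ((Additive.toMul v : V) : G) * g⁻¹ * ((Additive.toMul v : V) : G)⁻¹,
          mul_mem (hVn.conj_mem _ (Additive.toMul v).2 g) (inv_mem (Additive.toMul v).2)⟩ : V) := by
        rw [LinearMap.sub_apply, Module.End.one_apply, sub_eq_add_neg]
        rfl
      rw [e]
      refine Subtype.ext (hm.trans ?_)
      exact (Subgroup.coe_pow V ⟨_, mul_mem (hVn.conj_mem _ (Additive.toMul v).2 g) (inv_mem (Additive.toMul v).2)⟩ m).symm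
    obtain ⟨l, hl⟩ : ∃ l : ZMod q, ∀ w ∈ LinearMap.range (ρ g - 1), ρ g w = l • w := by
      by_cases h0 : ∀ w ∈ LinearMap.range (ρ g - 1), w = 0
      · exact ⟨0, fun w hw => by rw [h0 w hw, map_zero, smul_zero]⟩
      push Not at h0
      obtain ⟨w₀, hw₀, hne⟩ := h0
      obtain ⟨l, hl⟩ := heig w₀ hw₀
      refine ⟨l, fun w hw => ?_⟩
      by_cases hspan : ∃ c : ZMod q, w = c • w₀
      · obtain ⟨c, rfl⟩ := hspan
        rw [map_smul, hl, smul_comm]
      obtain ⟨c, hc⟩ := heig w hw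
      obtain ⟨d, hd⟩ := heig (w₀ + w) (add_mem hw₀ hw)
      rw [map_add, hl, hc, smul_add] at hd
      have h1 : (c - d) • w = (d - l) • w₀ := by
        rw [sub_smul, sub_smul, sub_eq_sub_iff_add_eq_add, add_comm, hd, add_comm]
      by_cases hcd : c - d = 0
      · rw [hcd, zero_smul, eq_comm, smul_eq_zero] at h1
        rw [hc, sub_eq_zero.1 hcd, sub_eq_zero.1 (h1.resolve_right hne)]
      · exact absurd ⟨(c - d)⁻¹ * (d - l), by rw [mul_smul, ← h1, smul_smul, inv_mul_cancel₀ hcd, one_smul]⟩ hspan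
    refine ⟨l, ?_⟩
    have hcomm : (ρ g - 1) * (ρ g - l • 1) = (ρ g - l • 1) * (ρ g - 1) := by
      simp only [sub_mul, mul_sub, mul_one, one_mul, smul_mul_assoc, mul_smul_comm]
      module
    rw [hcomm]
    refine LinearMap.ext fun v => ?_
    have := hl _ ⟨v, rfl⟩
    simp only [Module.End.mul_apply, LinearMap.sub_apply, LinearMap.smul_apply, Module.End.one_apply,
      LinearMap.zero_apply] at this ⊢
    rw [this, sub_self]
  by_cases hall : ∀ g : G, IsScalar (ZMod q) (ρ g)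
  · -- all scalar: `V` is cyclic
    haveI : IsCyclic V := by
      obtain ⟨v, hv⟩ := exists_ne (0 : Additive V)
      rcases hirr (Submodule.span (ZMod q) {v}) (fun g w hw => by
        obtain ⟨c, hc⟩ := hall g
        rw [hc, LinearMap.smul_apply, Module.End.one_apply]
        exact Submodule.smul_mem _ c hw) with h0 | h0
      · exact absurd ((Submodule.span_singleton_eq_bot).1 h0) hv
      · refine ⟨Additive.toMul v, fun w => ?_⟩
        obtain ⟨c, hc⟩ := Submodule.mem_span_singleton.1 (h0.ge (Submodule.mem_top (x := Additive.ofMul w)))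
        rw [← ZMod.natCast_rightInverse c, Nat.cast_smul_eq_nsmul] at hc
        refine ⟨(c.val : ℤ), ?_⟩
        show (Additive.toMul v) ^ (c.val : ℤ) = w
        rw [zpow_natCast]
        exact congrArg Additive.toMul hc
    exact CfsgLib.Coprime.isSupersolvable_of_cyclic_normal V (ihq V hV1)
  exfalso
  obtain ⟨x, hx⟩ := exists_ne (1 : V)
  refine endgame ρ hirr hrel hall (fun N _ hN => ihq N hN) ⟨x, fun h0 => hx (Subtype.ext h0), ?_⟩
  refine LinearMap.ext fun v => Subtype.ext ?_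
  show (x : G) * ((Additive.toMul v : V) : G) * (x : G)⁻¹ = ((Additive.toMul v : V) : G)
  rw [hVab x x.2 _ (Additive.toMul v).2, mul_inv_cancel_right]

/-- Let G be a finite group such that for every pair of distinct primes p and q, every p-element x and every q-element g of G, the order of the subgroup generated by x and g x g⁻¹ is not divisible by q². Then G is supersolvable. -/
theorem result {G : Type*} [Group G] [Finite G]
    (h : ∀ (p q : ℕ), p.Prime → q.Prime → p ≠ q → ∀ (x g : G), (∃ a : ℕ, orderOf x = p ^ a) → (∃ b : ℕ, orderOf g = q ^ b) →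
      ¬ q ^ 2 ∣ Nat.card ↥(Subgroup.zpowers x ⊔ Subgroup.zpowers (g * x * g⁻¹))) :
    Cfsg.IsSupersolvable G := by
  exact main_aux _ G rfl h

end Cfsg.Agent.S3033
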