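import Cfsg.Statements.S3261
import Cfsg.Agent.Lib.Char.DihedralEight
import Cfsg.Agent.S0495
import Cfsg.Agent.S0497

set_option autoImplicit false
set_option maxRecDepth 20000
open Cfsg

namespace Cfsg.Agent.S3261

open Subgroup

/-- A double transposition of six points. -/
def alpha₀ : ↥(alternatingGroup (Fin 6)) :=
  ⟨Equiv.swap 0 1 * Equiv.swap 2 3, by
    rw [Equiv.Perm.mem_alternatingGroup]; decide⟩

/-- An element of order four with square `alpha₀`. -/
def rho₀ : ↥(alternatingGroup (Fin 6)) :=
  ⟨Equiv.swap 0 3 * Equiv.swap 0 1 * Equiv.swap 0 2 * Equiv.swap 4 5, by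
    rw [Equiv.Perm.mem_alternatingGroup]; decide⟩

/-- A reflection. -/
def sigma₀ : ↥(alternatingGroup (Fin 6)) :=
  ⟨Equiv.swap 0 1 * Equiv.swap 4 5, by
    rw [Equiv.Perm.mem_alternatingGroup]; decide⟩

/-- The dihedral parametrisation of the centraliser. -/
def param : DihedralGroup 4 → ↥(alternatingGroup (Fin 6))
  | .r i => rho₀ ^ i.val
  | .sr i => sigma₀ * rho₀ ^ i.val

theorem param_mul : ∀ p q : DihedralGroup 4, param (p * q) = param p * param q := by decide +kernel

theorem param_inj : ∀ p q : DihedralGroup 4, param p = param q → p = q := by decide +kernel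

theorem param_comm : ∀ p : DihedralGroup 4, param p * alpha₀ = alpha₀ * param p := by decide +kernel

theorem param_surj : ∀ g : ↥(alternatingGroup (Fin 6)), g * alpha₀ = alpha₀ * g →
    ∃ p : DihedralGroup 4, param p = g := by decide +kernel

/-- The centraliser of a double transposition in `A₆` is dihedral of order eight. -/
theorem equiv_dihedral {a : ↥(alternatingGroup (Fin 6))} (ha : orderOf a = 2)
    (hs : (a : Equiv.Perm (Fin 6)).support.card = 4) :
    Nonempty (↥(Subgroup.centralizer ({a} : Set ↥(alternatingGroup (Fin 6)))) ≃* DihedralGroup 4) := by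
  classical
  have hct : ∀ b : Equiv.Perm (Fin 6), orderOf b = 2 → b.support.card = 4 →
      b.cycleType = {2, 2} := by
    intro b hb hb4
    obtain ⟨n, hn⟩ := Equiv.Perm.cycleType_prime_order (σ := b) (by rw [hb]; exact Nat.prime_two)
    have hsum := b.sum_cycleType
    rw [hn, hb, Multiset.sum_replicate, hb4, smul_eq_mul] at hsum
    rw [hn, hb, show n + 1 = 2 by omega]
    rfl
  have h0 : orderOf (alpha₀ : Equiv.Perm (Fin 6)) = 2 := by
    refine orderOf_eq_prime (by decide) (by decide)
  have hconj : IsConj (alpha₀ : Equiv.Perm (Fin 6)) (a : Equiv.Perm (Fin 6)) := by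
    rw [Equiv.Perm.isConj_iff_cycleType_eq, hct _ h0 (by decide),
      hct _ (by rw [Subgroup.orderOf_coe, ha]) hs]
  obtain ⟨h, hh⟩ := isConj_iff.1 hconj
  haveI : (alternatingGroup (Fin 6)).Normal := alternatingGroup.normal
  set β : MulAut ↥(alternatingGroup (Fin 6)) := MulAut.conjNormal h
  have hβ : β alpha₀ = a := Subtype.ext ((MulAut.conjNormal_apply h alpha₀).trans hh)
  let f : DihedralGroup 4 →* ↥(Subgroup.centralizer ({a} : Set ↥(alternatingGroup (Fin 6)))) :=
    MonoidHom.mk' (fun p => ⟨β (param p), by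
      rw [mem_centralizer_singleton_iff, ← hβ, ← map_mul, ← map_mul, param_comm]⟩) fun p q =>
        Subtype.ext (by rw [Subgroup.coe_mul]; simp [param_mul])
  refine ⟨(MulEquiv.ofBijective f ⟨fun p q h => param_inj p q (β.injective (congrArg Subtype.val h)),
    fun g => ?_⟩).symm⟩
  obtain ⟨p, hp⟩ := param_surj (β.symm g.1) (β.injective (by
    rw [map_mul, map_mul, β.apply_symm_apply, hβ]
    exact mem_centralizer_singleton_iff.1 g.2))
  exact ⟨p, Subtype.ext (by
    show β (param p) = g.1
    rw [hp, β.apply_symm_apply])⟩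

/-- A group with a dihedral involution centraliser of order eight and no subgroup of index two is simple. -/
theorem isSimple_of_dihedral {G : Type*} [Group G] [Fintype G] (hno2 : ∀ H : Subgroup G, H.index ≠ 2)
    (t : G) (ht : orderOf t = 2) (e : Subgroup.centralizer ({t} : Set G) ≃* DihedralGroup 4) :
    IsSimpleGroup G := by
  classical
  have hconj := CfsgLib.Char.isConj_of_centralizer_dihedral_eight hno2 t ht e
  have hcard := CfsgLib.Char.card_of_centralizer_dihedral_eight' hno2 t ht e
  have ht1 : t ≠ 1 := CfsgLib.Invol.invol_ne_one ht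
  haveI : Nontrivial G := ⟨⟨t, 1, ht1⟩⟩
  have htt : t * t = 1 := by rw [← pow_two, ← ht, pow_orderOf_eq_one]
  set el : DihedralGroup 4 →* G :=
    (Subgroup.centralizer ({t} : Set G)).subtype.comp e.symm.toMonoidHom with hel
  have helinj : Function.Injective el := (Subgroup.subtype_injective _).comp e.symm.injective
  have hsr : ∀ i, IsConj t (el (.sr i)) := fun i => hconj _
    (by rw [← map_mul, DihedralGroup.sr_mul_self, map_one])
    (fun h => (by decide : ∀ i : ZMod 4, (DihedralGroup.sr i : DihedralGroup 4) ≠ 1) _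
      (helinj (h.trans (map_one el).symm)))
  by_contra hns
  obtain ⟨N, hN, hNb, hNt⟩ : ∃ N : Subgroup G, N.Normal ∧ N ≠ ⊥ ∧ N ≠ ⊤ := by
    by_contra hc
    exact hns ⟨fun N hN => by
      by_contra h'
      push Not at h'
      exact hc ⟨N, hN, h'.1, h'.2⟩⟩
  obtain ⟨M, hMmem, hMmin⟩ := (Set.toFinite {M : Subgroup G | M.Normal ∧ M ≠ ⊥ ∧ M ≤ N}).exists_minimal
    ⟨N, hN, hNb, le_rfl⟩
  obtain ⟨hMn, hMb, hMN⟩ := hMmem
  haveI := hMn
  have hmin : ∀ K : Subgroup G, K.Normal → K ≤ M → K = ⊥ ∨ K = M := fun K hK hKM => by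
    by_cases hKb : K = ⊥
    · exact Or.inl hKb
    · exact Or.inr (le_antisymm hKM (hMmin ⟨hK, hKb, hKM.trans hMN⟩ hKM))
  have hMt : M ≠ ⊤ := fun h => hNt (top_le_iff.1 (h ▸ hMN))
  -- the minimal normal subgroup contains the involutions
  have htM : t ∈ M := by
    by_contra htM
    have hno : ∀ x : G, x * x = 1 → x ∈ M → x = 1 := fun x hxx hxM => by
      by_contra hx1
      obtain ⟨g, hg⟩ := isConj_iff.1 (hconj x hxx hx1)
      refine htM ?_
      have h2 := hMn.conj_mem x hxM g⁻¹
      rw [← hg] at h2
      simpa [mul_assoc] using h2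
    -- each involution inverts `M`
    have hC : ∀ m ∈ M, t * m * t⁻¹ = m → m = 1 := fun m hm h => by
      have hmC : m ∈ Subgroup.centralizer ({t} : Set G) :=
        mem_centralizer_singleton_iff.2 (mul_inv_eq_iff_eq_mul.1 h).symm
      set q := e ⟨m, hmC⟩ with hq
      have h8 : q ^ 4 = 1 := by
        have : ∀ q : DihedralGroup 4, q * q * (q * q) = 1 := by decide
        exact ((pow_succ' q 3).trans (by rw [pow_three]; simp only [mul_assoc] )).trans (this q)
      have hm4 : m ^ 4 = 1 := by
        have h9 := congrArg el h8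
        have helq : el q = m := by simp [hel, hq]
        rwa [map_pow, helq, map_one] at h9
      have hm2 : m * m = 1 := hno _ (((pow_succ' m 3).trans (by rw [pow_three]; simp only [mul_assoc])).symm.trans hm4)
        (mul_mem hm hm)
      exact hno m hm2 hm
    have hinv : ∀ x : G, IsConj t x → ∀ m ∈ M, x * m * x⁻¹ = m⁻¹ := by
      intro x hx
      obtain ⟨g, rfl⟩ := isConj_iff.1 hx
      let φ : M ≃* M := MulAut.conjNormal (g * t * g⁻¹)
      have hfix : ∀ m, φ m = m → m = 1 := fun m h => by
        have h1 : g⁻¹ * (m : G) * g = 1 := hC _ (by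
          have := hMn.conj_mem _ m.2 g⁻¹
          simpa using this) (by
          have h2 := congrArg Subtype.val h
          rw [show ((φ m : M) : G) = (g * t * g⁻¹) * m * (g * t * g⁻¹)⁻¹ from MulAut.conjNormal_apply _ m] at h2
          conv_rhs => rw [← h2]
          group)
        apply Subtype.ext
        calc (m : G) = g * (g⁻¹ * m * g) * g⁻¹ := by group
          _ = 1 := by rw [h1]; group
      have hφ2 : Function.Involutive φ := fun m => by
        apply Subtype.ext
        simp only [φ, MulAut.conjNormal_apply]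
        calc _ = g * (t * t) * g⁻¹ * m * (g * (t * t) * g⁻¹)⁻¹ := by group
          _ = _ := by rw [htt]; group
      intro m hm
      have := congrArg Subtype.val (congrFun (MonoidHom.FixedPointFree.coe_eq_inv_of_involutive
        (φ := φ.toMonoidHom) hfix hφ2) ⟨m, hm⟩)
      rwa [MulEquiv.coe_toMonoidHom, show ((φ ⟨m, hm⟩ : M) : G) = (g * t * g⁻¹) * m * (g * t * g⁻¹)⁻¹
        from MulAut.conjNormal_apply _ _] at this
    have hprod : IsConj t (el (.sr 0) * t) := by
      have helt : t = el (e ⟨t, mem_centralizer_singleton_iff.2 rfl⟩) := by simp [hel]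
      refine hconj _ ?_ ?_
      · calc el (.sr 0) * t * (el (.sr 0) * t) = el (.sr 0) * (t * el (.sr 0)) * t := by group
          _ = el (.sr 0) * (el (.sr 0) * t) * t := by
            congr 2
            exact ((mem_centralizer_singleton_iff.1 (e.symm (.sr 0)).2).symm :
              t * el (.sr 0) = el (.sr 0) * t)
          _ = (el (.sr 0) * el (.sr 0)) * (t * t) := by group
          _ = 1 := by rw [← map_mul, DihedralGroup.sr_mul_self, map_one, htt, one_mul]
      · intro h
        have h1 : el (.sr 0) = t⁻¹ := eq_inv_of_mul_eq_one_left h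
        rw [inv_eq_of_mul_eq_one_right htt] at h1
        have h2 : (e.symm (.sr 0) : Subgroup.centralizer ({t} : Set G)) ∈ Subgroup.center _ := by
          rw [Subgroup.mem_center_iff]
          intro y
          apply Subtype.ext
          show (y : G) * el (.sr 0) = el (.sr 0) * y
          rw [h1]
          exact mem_centralizer_singleton_iff.1 y.2
        have h3 := Subgroup.mem_center_iff.1 h2 (e.symm (.r 1))
        rw [← map_mul, ← map_mul] at h3
        exact absurd (e.symm.injective h3) (by decide)
    obtain ⟨m, hm, hm1⟩ := M.ne_bot_iff_exists_ne_one.1 hMb |> fun ⟨m, h⟩ => (⟨m.1, m.2, fun h' =>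
      h (Subtype.ext h')⟩ : ∃ m, m ∈ M ∧ m ≠ 1)
    refine hm1 (hno m ?_ hm)
    have h1 := hinv _ hprod m hm
    rw [show el (.sr 0) * t * m * (el (.sr 0) * t)⁻¹ =
      el (.sr 0) * (t * m * t⁻¹) * (el (.sr 0))⁻¹ by group, hinv t (IsConj.refl t) m hm,
      hinv _ (hsr 0) _ (inv_mem hm), inv_inv] at h1
    exact inv_eq_iff_mul_eq_one.1 h1.symm
  have hall : ∀ x : G, IsConj t x → x ∈ M := fun x hx => by
    obtain ⟨g, rfl⟩ := isConj_iff.1 hx
    exact hMn.conj_mem t htM g
  have hCM : Subgroup.centralizer ({t} : Set G) ≤ M := by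
    intro c hc
    have helc : el (e ⟨c, hc⟩) = c := by simp [hel]
    rw [← helc]
    rcases (e ⟨c, hc⟩) with i | i
    · rw [show (DihedralGroup.r i : DihedralGroup 4) = .sr 0 * .sr i by simp, map_mul]
      exact mul_mem (hall _ (hsr 0)) (hall _ (hsr i))
    · exact hall _ (hsr i)
  -- it is not abelian, so perfect
  have hD : ⁅M, M⁆ = M := by
    refine (hmin _ inferInstance (Subgroup.commutator_le_self M)).resolve_left fun h => ?_
    have hc := Subgroup.commutator_eq_bot_iff_le_centralizer.1 h
    have := Subgroup.mem_centralizer_iff.1 (hc (hCM ((e.symm (.r 1)).2))) (el (.sr 0))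
      (hall _ (hsr 0))
    rw [show ((e.symm (DihedralGroup.r 1) : Subgroup.centralizer ({t} : Set G)) : G) = el (.r 1) from rfl,
      ← map_mul, ← map_mul] at this
    exact absurd (helinj this) (by decide)
  have hno2M : ∀ H : Subgroup ↥M, H.index ≠ 2 := fun H hH => by
    haveI := Subgroup.normal_of_index_eq_two hH
    haveI : IsCyclic (↥M ⧸ H) := isCyclic_of_prime_card (p := 2) (by rw [← Subgroup.index_eq_card, hH])
    have hle : commutator ↥M ≤ H := by
      rw [_root_.commutator_def, Subgroup.commutator_le]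
      intro p _ q _
      rw [← QuotientGroup.eq_one_iff, ← QuotientGroup.mk'_apply, map_commutatorElement,
        commutatorElement_eq_one_iff_mul_comm]
      letI := IsCyclic.commGroup (α := ↥M ⧸ H)
      exact mul_comm _ _
    have h1 := Subgroup.map_subtype_commutator M
    rw [hD] at h1
    have h2 : M ≤ H.map M.subtype := h1.ge.trans (Subgroup.map_mono hle)
    have h3 : H = ⊤ := top_le_iff.1 fun x _ => by
      obtain ⟨y, hy, hyx⟩ := h2 x.2
      rwa [← Subtype.ext hyx]
    rw [h3, Subgroup.index_top] at hH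
    omega
  let tM : ↥M := ⟨t, htM⟩
  let e' : ↥(Subgroup.centralizer ({tM} : Set ↥M)) ≃* ↥(Subgroup.centralizer ({t} : Set G)) :=
    { toFun := fun x => ⟨x.1.1, mem_centralizer_singleton_iff.2
        (congrArg Subtype.val (mem_centralizer_singleton_iff.1 x.2))⟩
      invFun := fun x => ⟨⟨x.1, hCM x.2⟩, mem_centralizer_singleton_iff.2
        (Subtype.ext (mem_centralizer_singleton_iff.1 x.2))⟩
      map_mul' := fun x y => rfl }
  haveI := Fintype.ofFinite ↥M
  have hcardM := CfsgLib.Char.card_of_centralizer_dihedral_eight' hno2M tM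
    (by rw [← Subgroup.orderOf_coe]; exact ht) (e'.trans e)
  have hdvd := M.card_subgroup_dvd_card
  have hne : Nat.card ↥M ≠ Nat.card G := fun h => hMt (Subgroup.eq_top_of_card_eq M h)
  rcases hcardM with a | a <;> rcases hcard with b | b <;> rw [a, b] at hdvd hne <;>
    first | exact hne rfl | (norm_num at hdvd)

/-- Let G be a finite group with no subgroup of index two whose centraliser of a central involution of a Sylow
2-subgroup is that of a double transposition in A₆; then G is A₆ or L₂(7). -/
theorem result {G : Type*} [Group G] [Finite G]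
    (hG : ∀ H : Subgroup G, H.index ≠ 2)
    (αt : ↥(alternatingGroup (Fin 6))) (hαt : orderOf αt = 2) (hsupp : (αt : Equiv.Perm (Fin 6)).support.card = 4)
    (α : G) (hα : orderOf α = 2) (S : Sylow 2 G) (hαS : α ∈ (S : Subgroup G)) (hαc : ∀ s ∈ (S : Subgroup G), s * α = α * s)
    (e : ↥(Subgroup.centralizer ({α} : Set G)) ≃* ↥(Subgroup.centralizer ({αt} : Set ↥(alternatingGroup (Fin 6))))) :
    Nonempty (G ≃* ↥(alternatingGroup (Fin 6))) ∨
      (∃ (F : Type) (_ : Field F) (_ : Fintype F), Fintype.card F = 7 ∧ Nonempty (G ≃* Matrix.ProjectiveSpecialLinearGroup (Fin 2) F)) := by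
  classical
  haveI := Fintype.ofFinite G
  obtain ⟨d⟩ := equiv_dihedral hαt hsupp
  haveI := isSimple_of_dihedral hG α hα (e.trans d)
  rcases CfsgLib.Char.card_of_centralizer_dihedral_eight' hG α hα (e.trans d) with h | h
  · haveI : Fact (Nat.Prime 7) := ⟨by norm_num⟩
    exact Or.inr ⟨ZMod 7, inferInstance, inferInstance, ZMod.card 7,
      Cfsg.Agent.S0495.result h (ZMod.card 7)⟩
  · exact Or.inl (Cfsg.Agent.S0497.result h)

end Cfsg.Agent.S3261
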