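import Cfsg.Statements.S3035
import Cfsg.Agent.S3261
import Cfsg.Agent.S1012
import Cfsg.Agent.S2553
import Cfsg.Agent.Lib.Invol.FourCentralizer
import Cfsg.Agent.Lib.Invol.KleinSylow
import Cfsg.Agent.Lib.Invol.ThreePoint
import Cfsg.Agent.Lib.Coprime.Core
-- import your own Cfsg.Agent.* helpers here

set_option autoImplicit false
open Cfsg

namespace Cfsg.Agent.S3035

open Subgroup

universe u

variable {G : Type u} [Group G] [Finite G] {z : G}

private theorem normal_le_sylow {H : Type u} [Group H] [Finite H] {E : Subgroup H} (hE : E.Normal)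
    (h : IsPGroup 2 E) (P : Sylow 2 H) : E ≤ (P : Subgroup H) := by
  haveI : Fact (Nat.Prime 2) := ⟨Nat.prime_two⟩
  intro x hx
  obtain ⟨k, hk⟩ := CfsgLib.Invol.exists_conj_le_sylow h P
  have h1 := hk (k⁻¹ * x * k⁻¹⁻¹) (hE.conj_mem x hx k⁻¹)
  rwa [show k * (k⁻¹ * x * k⁻¹⁻¹) * k⁻¹ = x by group] at h1

private theorem center_d4 : ∀ q : DihedralGroup 4, (∀ x, x * q = q * x) → q = 1 ∨ q = .r 2 := by decide

/-- The centraliser element of order two is the square of the rotation, and the only central involution. -/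
private theorem centre_data (hz : orderOf z = 2)
    (e : ↥(centralizer ({z} : Set G)) ≃* DihedralGroup 4) :
    (∃ c ∈ centralizer ({z} : Set G), c * c = z) ∧
      (∀ n ∈ centralizer ({z} : Set G), (∀ y ∈ centralizer ({z} : Set G), y * n = n * y) → n = 1 ∨ n = z) ∧
      ∃ a ∈ centralizer ({z} : Set G), ∃ b ∈ centralizer ({z} : Set G), a * b ≠ b * a := by
  set C := centralizer ({z} : Set G)
  have hzC : z ∈ C := mem_centralizer_singleton_iff.2 rfl
  have hcen : ∀ n (hn : n ∈ C), (∀ y ∈ C, y * n = n * y) → e ⟨n, hn⟩ = 1 ∨ e ⟨n, hn⟩ = .r 2 := by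
    intro n hn h
    refine center_d4 _ fun x => ?_
    obtain ⟨y, rfl⟩ := e.surjective x
    rw [← map_mul, ← map_mul]
    exact congrArg e (Subtype.ext (h _ y.2))
  have hz2 : e ⟨z, hzC⟩ = .r 2 := by
    refine (hcen z hzC fun y hy => mem_centralizer_singleton_iff.1 hy).resolve_left fun h => ?_
    exact CfsgLib.Invol.invol_ne_one hz (congrArg Subtype.val (e.injective (h.trans (map_one e).symm)))
  refine ⟨⟨_, (e.symm (.r 1)).2, ?_⟩, fun n hn h => ?_, _, (e.symm (.r 1)).2, _, (e.symm (.sr 0)).2, ?_⟩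
  · have h : e.symm (.r 1) * e.symm (.r 1) = ⟨z, hzC⟩ := by
      rw [← map_mul, e.symm_apply_eq, hz2, DihedralGroup.r_mul_r]
      rfl
    exact congrArg Subtype.val h
  · rcases hcen n hn h with h' | h'
    · exact Or.inl (congrArg Subtype.val (e.injective (h'.trans (map_one e).symm)))
    · exact Or.inr (congrArg Subtype.val (e.injective (h'.trans hz2.symm)))
  · intro h
    have h' : e.symm (.r 1) * e.symm (.sr 0) = e.symm (.sr 0) * e.symm (.r 1) := Subtype.ext h
    rw [← map_mul, ← map_mul] at h'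
    exact absurd (e.symm.injective h') (by decide)

/-- `C(z)` is a Sylow 2-subgroup. -/
private theorem exists_sylow (hz : orderOf z = 2)
    (e : ↥(centralizer ({z} : Set G)) ≃* DihedralGroup 4) :
    ∃ S : Sylow 2 G, (S : Subgroup G) = centralizer ({z} : Set G) ∧ Nat.card (S : Subgroup G) = 8 := by
  haveI : Fact (Nat.Prime 2) := ⟨Nat.prime_two⟩
  set C := centralizer ({z} : Set G)
  have h8 : Nat.card C = 8 := by rw [Nat.card_congr e.toEquiv, DihedralGroup.nat_card]
  obtain ⟨S, hCS⟩ := (IsPGroup.of_card (p := 2) (G := C) (n := 3) (by rw [h8]; norm_num)).exists_le_sylow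
  have hzC : z ∈ C := mem_centralizer_singleton_iff.2 rfl
  suffices (S : Subgroup G) = C from ⟨S, this, this ▸ h8⟩
  by_contra hne
  haveI := S.2.isNilpotent
  have hlt : C.subgroupOf (S : Subgroup G) < ⊤ := lt_top_iff_ne_top.2 fun h =>
    hne (le_antisymm (subgroupOf_eq_top.1 h) hCS)
  obtain ⟨g, hg, hgC⟩ := SetLike.exists_of_lt (Group.normalizerCondition_of_isNilpotent _ hlt)
  refine hgC (mem_subgroupOf.2 (mem_centralizer_singleton_iff.2 ?_))
  have hn := mem_normalizer_iff.1 hg
  have hmem : ∀ y : G, y ∈ C → (g : G) * y * (g : G)⁻¹ ∈ C := fun y hy => by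
    simpa [mem_subgroupOf] using (hn ⟨y, hCS hy⟩).1 hy
  have hmem' : ∀ y : G, y ∈ C → (g : G)⁻¹ * y * (g : G) ∈ C := fun y hy => by
    have h := (hn (g⁻¹ * ⟨y, hCS hy⟩ * g)).2
    simp only [mem_subgroupOf, Subgroup.coe_mul, Subgroup.coe_inv] at h
    exact h (by simpa [mul_assoc] using hy)
  rcases (centre_data hz e).2.1 _ (hmem z hzC) (fun y hy => by
    have h := mem_centralizer_singleton_iff.1 (hmem' y hy)
    calc y * ((g : G) * z * (g : G)⁻¹) = g * (((g : G)⁻¹ * y * g) * z) * (g : G)⁻¹ := by group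
      _ = g * (z * ((g : G)⁻¹ * y * g)) * (g : G)⁻¹ := by rw [h]
      _ = _ := by group) with h | h
  · exact absurd (orderOf_eq_one_iff.2 h) (by rw [CfsgLib.Invol.invol_conj hz]; norm_num)
  · exact (mul_inv_eq_iff_eq_mul.1 h)

/-- With a normal 2-complement, `G = C(z) O(G)`. -/
private theorem sup_oddCore (hz : orderOf z = 2) (e : ↥(centralizer ({z} : Set G)) ≃* DihedralGroup 4)
    (h : Cfsg.HasNormalPComplement 2 G) :
    centralizer ({z} : Set G) ⊔ Cfsg.oddCore G = ⊤ := by
  haveI : Fact (Nat.Prime 2) := ⟨Nat.prime_two⟩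
  obtain ⟨P, N, hN, hc⟩ := h
  obtain ⟨S, hS, -⟩ := exists_sylow hz e
  obtain ⟨g, rfl⟩ := MulAction.exists_smul_eq G P S
  have hodd : ¬ 2 ∣ Nat.card N := by
    have h1 := P.not_dvd_index
    rwa [hc.index_eq_card] at h1
  haveI := hN
  have hle : N ≤ Cfsg.oddCore G := CfsgLib.Coprime.le_pPrimeCore_of_not_dvd Nat.prime_two hodd
  refine top_le_iff.1 (le_trans ?_ (sup_le_sup_left hle _))
  rw [← hS]
  have hsup := hc.sup_eq_top
  intro x _
  have hx : g⁻¹ * x * g ∈ N ⊔ (P : Subgroup G) := hsup ▸ mem_top _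
  obtain ⟨n, hn, p, hp, hnp⟩ := mem_sup_of_normal_left.1 hx
  have hgp : g * p * g⁻¹ ∈ ((g • P : Sylow 2 G) : Subgroup G) :=
    Subgroup.smul_mem_pointwise_smul p (MulAut.conj g) _ hp
  have : x = (g * n * g⁻¹) * (g * p * g⁻¹) :=
    calc x = g * (g⁻¹ * x * g) * g⁻¹ := by group
      _ = g * (n * p) * g⁻¹ := by rw [hnp]
      _ = _ := by group
  rw [this]
  exact mul_mem (mem_sup_right (hN.conj_mem n hn g)) (mem_sup_left hgp)

/-- The case of a subgroup of index two. -/
private theorem index_two_case (hz : orderOf z = 2) (e : ↥(centralizer ({z} : Set G)) ≃* DihedralGroup 4)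
    (hnc : ¬ Cfsg.HasNormalPComplement 2 G) {M : Subgroup G} (hM : M.index = 2) :
    Nonempty (G ≃* Equiv.Perm (Fin 4)) ∨ Nonempty (G ≃* Equiv.Perm (Fin 5)) := by
  classical
  haveI : Fact (Nat.Prime 2) := ⟨Nat.prime_two⟩
  haveI := Subgroup.normal_of_index_eq_two hM
  obtain ⟨⟨c, hcC, hcz⟩, hcen, a₀, ha₀, b₀, hb₀, hab₀⟩ := centre_data hz e
  obtain ⟨S, hS, hS8⟩ := exists_sylow hz e
  set C := centralizer ({z} : Set G)
  have hzM : z ∈ M := by rw [← hcz]; exact Subgroup.mul_self_mem_of_index_two hM c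
  have hnot : ∀ S' : Sylow 2 G, ¬ (S' : Subgroup G) ≤ M := fun S' h => by
    have h1 := Subgroup.relIndex_mul_index h
    rw [hM] at h1
    exact S'.not_dvd_index (Dvd.intro_left _ h1)
  have hcardG : Nat.card G = 2 * Nat.card M := by rw [← M.card_mul_index, hM, mul_comm]
  set zM : M := ⟨z, hzM⟩ with hzMdef
  have hzMo : orderOf zM = 2 := (Subgroup.orderOf_mk z hzM).trans hz
  set V := centralizer ({zM} : Set M) with hVdef
  have hVmap : V.map M.subtype = C ⊓ M := by
    ext x
    constructor
    · rintro ⟨y, hy, rfl⟩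
      exact ⟨mem_centralizer_singleton_iff.2 (congrArg Subtype.val (mem_centralizer_singleton_iff.1 hy)), y.2⟩
    · rintro ⟨hxC, hxM⟩
      exact ⟨⟨x, hxM⟩, mem_centralizer_singleton_iff.2 (Subtype.ext (mem_centralizer_singleton_iff.1 hxC)), rfl⟩
  have hV4 : Nat.card V = 4 := by
    have hrel : M.relIndex C = 2 := by
      refine ((Nat.dvd_prime Nat.prime_two).1 (hM ▸ Subgroup.relIndex_dvd_index_of_normal M C)).resolve_left
        fun h => hnot S (hS.symm ▸ Subgroup.relIndex_eq_one.1 h)
    have h2 := (M.subgroupOf C).card_mul_index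
    have h3 : Nat.card ↥(M.subgroupOf C) = Nat.card ↥(C ⊓ M) := by
      rw [inf_comm, ← Subgroup.subgroupOf_map_subtype M C, card_map_of_injective C.subtype_injective]
    rw [← Subgroup.relIndex, hrel, h3, ← hVmap, card_map_of_injective M.subtype_injective,
      ← hS, hS8] at h2
    omega
  -- `V` is a Sylow subgroup of `M`
  obtain ⟨P, hVP⟩ := (IsPGroup.of_card (p := 2) (G := V) (n := 2) (by rw [hV4]; norm_num)).exists_le_sylow
  have hP4 : Nat.card (P : Subgroup M) ≤ 4 := by
    obtain ⟨S', hS'⟩ := (P.2.map M.subtype).exists_le_sylow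
    have h8 : Nat.card (S' : Subgroup G) = 8 := by rw [← hS8, Nat.card_congr (Sylow.equiv S' S).toEquiv]
    have hlt : (P : Subgroup M).map M.subtype < (S' : Subgroup G) := lt_of_le_of_ne hS' fun h =>
      hnot S' (h ▸ Subgroup.map_subtype_le _)
    obtain ⟨k, hk⟩ := Subgroup.card_dvd_of_le hlt.le
    rw [h8, card_map_of_injective M.subtype_injective] at hk
    by_contra h5
    have hk1 : k = 1 := by
      rcases k with _ | _ | k
      · omega
      · rfl
      · nlinarith
    refine hlt.ne (Subgroup.eq_of_le_of_card_ge hlt.le ?_)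
    rw [h8, card_map_of_injective M.subtype_injective, hk, hk1, mul_one]
  have hPV : V = (P : Subgroup M) := Subgroup.eq_of_le_of_card_ge hVP (hV4 ▸ hP4)
  have hcV : IsMulCommutative V := IsPGroup.isMulCommutative_of_card_eq_prime_sq (p := 2) (by rw [hV4]; norm_num)
  have hncM : ¬ Cfsg.HasNormalPComplement 2 M := fun h => hnc
    (CfsgLib.Invol.hasNormalPComplement_of_normal_two
      (IsPGroup.of_card (n := 1) (by rw [← Subgroup.index_eq_card, hM, pow_one])) h)
  have hburn : ¬ ∀ g ∈ normalizer ((P : Subgroup M) : Set M), ∀ x ∈ (P : Subgroup M), g * x * g⁻¹ = x :=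
    fun h => hncM (CfsgLib.Fusion.hasNormalPComplement_of_normalizer_le_centralizer P fun g hg =>
      mem_centralizer_iff.2 fun x hx => (mul_inv_eq_iff_eq_mul.1 (h g hg x hx)).symm)
  have hexp : ∀ x ∈ V, x ^ 2 = 1 := by
    by_contra hne
    push Not at hne
    obtain ⟨d, hd, hd2⟩ := hne
    have hd4 : d ^ 4 = 1 := by
      have := congrArg Subtype.val (pow_card_eq_one' (x := (⟨d, hd⟩ : V)))
      rwa [hV4] at this
    have hod : orderOf d = 4 := by
      have h := orderOf_eq_prime_pow (p := 2) (n := 1) (x := d) (by rwa [pow_one]) (by norm_num [hd4])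
      simpa using h
    have hVd : zpowers d = V := Subgroup.eq_of_le_of_card_ge (zpowers_le.2 hd)
      (by rw [Nat.card_zpowers, hod, hV4])
    have huniq : ∀ x ∈ V, orderOf x = 2 → x = d ^ 2 := by
      intro x hx hxo
      rw [← hVd, ← mem_powers_iff_mem_zpowers, mem_powers_iff_mem_range_orderOf, hod] at hx
      simp only [Finset.mem_image, Finset.mem_range] at hx
      obtain ⟨k, hk, rfl⟩ := hx
      obtain ⟨h1, h2⟩ := CfsgLib.Invol.invol_iff.1 hxo
      rw [← pow_add] at h1
      have h4 := orderOf_dvd_of_pow_eq_one h1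
      rw [hod] at h4
      interval_cases k
      · exact absurd (pow_zero d) h2
      · omega
      · rfl
      · omega
    refine hburn fun g hg x hx => ?_
    have hgz : g * zM * g⁻¹ = zM := by
      rw [huniq zM (mem_centralizer_singleton_iff.2 rfl) hzMo]
      refine huniq _ ?_ ?_
      · rw [← huniq zM (mem_centralizer_singleton_iff.2 rfl) hzMo, hPV]
        exact (mem_normalizer_iff.1 hg zM).1 (hPV ▸ mem_centralizer_singleton_iff.2 rfl)
      · refine CfsgLib.Invol.invol_conj ?_ g
        rw [← huniq zM (mem_centralizer_singleton_iff.2 rfl) hzMo]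
        exact hzMo
    have hgV : g ∈ V := mem_centralizer_singleton_iff.2 (mul_inv_eq_iff_eq_mul.1 hgz)
    have hgx : g * x = x * g := congrArg Subtype.val (hcV.is_comm.comm (⟨g, hgV⟩ : V) ⟨x, hPV ▸ hx⟩)
    rw [hgx, mul_inv_cancel_right]
  have hklein : IsKleinFour (P : Subgroup M) := by
    refine ⟨hPV ▸ hV4, ?_⟩
    haveI : Nontrivial ↥(P : Subgroup M) := Finite.one_lt_card_iff_nontrivial.1 (by rw [← hPV, hV4]; norm_num)
    refine (Monoid.exponent_eq_prime_iff Nat.prime_two).2 fun g hg => ?_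
    refine orderOf_eq_prime (Subtype.ext (hexp g.1 (by rw [hPV]; exact g.2))) hg
  have hconj : ∀ x ∈ (P : Subgroup M), ∀ y ∈ (P : Subgroup M), x ≠ 1 → y ≠ 1 → IsConj x y :=
    (CfsgLib.Invol.klein_dichotomy P hklein).resolve_left fun h => hburn fun g hg x hx => h x hx g hg
  have hzP : zM ∈ (P : Subgroup M) := hPV ▸ mem_centralizer_singleton_iff.2 rfl
  have hz1 : zM ≠ 1 := CfsgLib.Invol.invol_ne_one hzMo
  have hVtop : V ≠ ⊤ := fun h => hncM ⟨P, ⊥, inferInstance, by
    rw [← hPV, h]; exact Subgroup.isComplement'_bot_top⟩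
  by_cases hex : ∃ E : Subgroup M, E.Normal ∧ Cfsg.IsElementaryAbelian 2 E ∧ (Nat.card E = 2 ∨ Nat.card E = 4)
  · left
    obtain ⟨E, hE, hEe, hcE⟩ := hex
    haveI := hE
    have hEP : E ≤ (P : Subgroup M) := by
      refine normal_le_sylow hE (IsPGroup.of_card (p := 2) (G := E) (n := if Nat.card E = 2 then 1 else 2) ?_) P
      split_ifs with h
      · rw [h, pow_one]
      · rw [hcE.resolve_left h]; norm_num
    rcases hcE with h2 | h4
    · exfalso
      obtain ⟨ε, hε, hε1⟩ := (E.ne_bot_iff_exists_ne_one.1 fun h => by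
        rw [h, card_bot] at h2; omega) |> fun ⟨m, hm⟩ => (⟨m.1, m.2, fun h => hm (Subtype.ext h)⟩ : ∃ m, m ∈ E ∧ m ≠ 1)
      haveI : Fintype ↑(E : Set M) := Fintype.ofFinite _
      have hall : ∀ y ∈ E, y = 1 ∨ y = ε := fun y hy => by
        by_contra hh
        push Not at hh
        have hs : ({1, ε, y} : Finset M) ⊆ (E : Set M).toFinset := by
          intro t ht
          simp only [Finset.mem_insert, Finset.mem_singleton] at ht
          rw [Set.mem_toFinset]
          rcases ht with rfl | rfl | rfl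
          exacts [one_mem E, hε, hy]
        have := Finset.card_le_card hs
        rw [Set.toFinset_card, ← Nat.card_eq_fintype_card, Finset.card_insert_of_notMem (by simp [hε1.symm, hh.1.symm]),
          Finset.card_pair hh.2.symm] at this
        rw [show Nat.card ↥(E : Set M) = Nat.card E from rfl, h2] at this
        omega
      obtain ⟨g, hg⟩ := isConj_iff.1 (hconj ε (hEP hε) zM hzP hε1 hz1)
      have hfix : g * ε * g⁻¹ = ε := (hall _ (hE.conj_mem ε hε g)).resolve_left fun h => hε1
        (conj_eq_one_iff.1 h)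
      rw [hfix] at hg
      subst hg
      refine hVtop (top_le_iff.1 fun y _ => mem_centralizer_singleton_iff.2 ?_)
      have h := (hall _ (hE.conj_mem zM hε y)).resolve_left fun h => hz1 (conj_eq_one_iff.1 h)
      exact mul_inv_eq_iff_eq_mul.1 h
    · have hEeq : E = (P : Subgroup M) := Subgroup.eq_of_le_of_card_ge hEP (by rw [← hPV, hV4, h4])
      -- the orbit of `zM` has three elements
      have hidx : V.index ≤ 3 := by
        let f : M ⧸ V → {y : E // y ≠ 1} := Quotient.lift (fun g : M =>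
          (⟨⟨g * zM * g⁻¹, hE.conj_mem zM (hEeq ▸ hzP) g⟩, fun h => hz1 (conj_eq_one_iff.1 (congrArg Subtype.val h))⟩ :
            {y : E // y ≠ 1})) (fun g h hgh => by
          have h2 : g⁻¹ * h * zM = zM * (g⁻¹ * h) :=
            mem_centralizer_singleton_iff.1 (QuotientGroup.leftRel_apply.1 hgh)
          refine Subtype.ext (Subtype.ext ?_)
          show g * zM * g⁻¹ = h * zM * h⁻¹
          rw [show h * zM * h⁻¹ = g * (g⁻¹ * h * zM) * h⁻¹ by group, h2]
          group)
        have hf : Function.Injective f := fun q q' hqq' => by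
          obtain ⟨g, rfl⟩ := QuotientGroup.mk_surjective q
          obtain ⟨h, rfl⟩ := QuotientGroup.mk_surjective q'
          have h1 : g * zM * g⁻¹ = h * zM * h⁻¹ := congrArg (fun y : {y : E // y ≠ 1} => (y.1 : M)) hqq'
          refine QuotientGroup.eq.2 (mem_centralizer_singleton_iff.2 ?_)
          calc g⁻¹ * h * zM = g⁻¹ * (h * zM * h⁻¹) * h := by group
            _ = g⁻¹ * (g * zM * g⁻¹) * h := by rw [h1]
            _ = zM * (g⁻¹ * h) := by group
        have h := Nat.card_le_card_of_injective f hf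
        haveI := Fintype.ofFinite E
        rw [Nat.card_eq_fintype_card (α := {y : E // y ≠ 1}), Fintype.card_subtype_compl,
          Fintype.card_subtype_eq, ← Nat.card_eq_fintype_card, h4] at h
        exact h
      have hidx2 : ¬ 2 ∣ V.index := hPV ▸ P.not_dvd_index
      have hidx1 : V.index ≠ 1 := fun h => hVtop (index_eq_one.1 h)
      have hidx3 : V.index = 3 := by
        rcases hn : V.index with _ | _ | _ | _ | n
        all_goals first | omega | (rw [hn] at hidx2; exact absurd dvd_rfl hidx2) | exact absurd hn Subgroup.index_ne_zero_of_finite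
      refine Cfsg.Agent.S1012.result (by rw [hcardG, ← V.card_mul_index, hV4, hidx3]) fun g hg => ?_
      set u := g ^ 3
      set w := g ^ 2
      have hu : orderOf u = 2 := by rw [orderOf_pow' g (by norm_num), hg]; rfl
      have hw : orderOf w = 3 := by rw [orderOf_pow' g (by norm_num), hg]; rfl
      have hwM : w ∈ M := by
        rw [show w = g * g from pow_two g]; exact Subgroup.mul_self_mem_of_index_two hM g
      have hwu : u * w = w * u := (Commute.refl g).pow_pow 3 2
      -- the involution fixes an element of the four group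
      set v₁ : M := ⟨u * z * u⁻¹, (inferInstance : M.Normal).conj_mem z hzM u⟩ with hv₁
      have huu := CfsgLib.Invol.invol_mul_self hu
      have hv₁E : v₁ ∈ E := by
        have hh : (⟨v₁.1, v₁.2⟩ : M) = MulAut.conjNormal u zM := Subtype.ext (MulAut.conjNormal_apply u zM).symm
        rw [hv₁] at hh ⊢
        rw [hh]
        have hchar : (E.map (MulAut.conjNormal u : MulAut M).toMonoidHom) ≤ (P : Subgroup M) := by
          haveI : (E.map (MulAut.conjNormal u : MulAut M).toMonoidHom).Normal :=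
            hE.map _ (MulAut.conjNormal u : MulAut M).surjective
          exact normal_le_sylow inferInstance
            ((IsPGroup.of_card (p := 2) (G := E) (n := 2) (by rw [h4]; norm_num)).map _) P
        exact hEeq ▸ hchar ⟨zM, hEeq ▸ hzP, rfl⟩
      obtain ⟨v, hvE, hv1, hfix⟩ : ∃ v ∈ E, v ≠ 1 ∧ u * (v : G) * u⁻¹ = v := by
        by_cases he : u * z * u⁻¹ = z
        · exact ⟨zM, hEeq ▸ hzP, hz1, he⟩
        · refine ⟨zM * v₁, mul_mem (hEeq ▸ hzP) hv₁E, fun h => he ?_, ?_⟩
          · have h' : z * (u * z * u⁻¹) = 1 := congrArg Subtype.val h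
            rw [← inv_eq_of_mul_eq_one_right h', CfsgLib.Invol.invol_inv hz]
          · have hc' : z * (u * z * u⁻¹) = u * z * u⁻¹ * z :=
              congrArg Subtype.val (hEe.1.is_comm.comm (⟨zM, hEeq ▸ hzP⟩ : E) ⟨v₁, hv₁E⟩ |> congrArg Subtype.val)
            show u * (z * (u * z * u⁻¹)) * u⁻¹ = z * (u * z * u⁻¹)
            calc u * (z * (u * z * u⁻¹)) * u⁻¹ = u * z * u⁻¹ * ((u * u) * z * (u * u)⁻¹) := by group
              _ = u * z * u⁻¹ * z := by rw [huu]; group
              _ = _ := hc'.symm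
      set wM : M := ⟨w, hwM⟩
      have hcentv : centralizer ({v} : Set M) = V := by
        obtain ⟨k, hk⟩ := isConj_iff.1 (hconj zM hzP v (hEeq ▸ hvE) hz1 hv1)
        have h1 : Nat.card (centralizer ({v} : Set M)) = Nat.card V :=
          CfsgLib.Invol.card_centralizer_conj (isConj_iff.2 ⟨k, hk⟩)
        refine (Subgroup.eq_of_le_of_card_ge (fun x hx => mem_centralizer_singleton_iff.2 ?_) h1.le).symm
        exact congrArg Subtype.val (hcV.is_comm.comm (⟨x, hx⟩ : V) ⟨v, hPV ▸ hEeq ▸ hvE⟩)
      set v' : M := wM * v * wM⁻¹ with hv'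
      have hfix' : u * (v' : G) * u⁻¹ = v' := by
        show u * (w * (v : G) * w⁻¹) * u⁻¹ = w * (v : G) * w⁻¹
        calc u * (w * (v : G) * w⁻¹) * u⁻¹ = (u * w) * (v : G) * (u * w)⁻¹ := by group
          _ = (w * u) * (v : G) * (w * u)⁻¹ := by rw [hwu]
          _ = w * (u * (v : G) * u⁻¹) * w⁻¹ := by group
          _ = _ := by rw [hfix]
      have hne' : v' ≠ v := fun h => by
        have hwV : wM ∈ V := hcentv ▸ mem_centralizer_singleton_iff.2 (mul_inv_eq_iff_eq_mul.1 h)
        have h2 := orderOf_dvd_of_pow_eq_one (hexp wM hwV)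
        rw [Subgroup.orderOf_mk, hw] at h2
        norm_num at h2
      have hv'E : v' ∈ E := hE.conj_mem v hvE wM
      have hv'1 : v' ≠ 1 := fun h => hv1 (conj_eq_one_iff.1 h)
      have hprod : v * v' ≠ 1 := fun h => hne' (by
        have h2 := hEe.2 v hvE
        rw [pow_two] at h2
        exact mul_left_cancel (h.trans h2.symm))
      have huV : ∀ x ∈ E, u * (x : G) * u⁻¹ = x := by
        intro x hx
        rcases CfsgLib.Invol.four_mem_cases h4 hvE hv'E hv1 hv'1 hne'.symm hprod hx with rfl | rfl | rfl | rfl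
        · simp
        · exact hfix
        · exact hfix'
        · rw [Subgroup.coe_mul]
          calc u * ((v : G) * v') * u⁻¹ = (u * (v : G) * u⁻¹) * (u * v' * u⁻¹) := by group
            _ = _ := by rw [hfix, hfix']
      have huC : u ∈ C := mem_centralizer_singleton_iff.2 (mul_inv_eq_iff_eq_mul.1 (huV zM (hEeq ▸ hzP)))
      have huM : u ∉ M := fun h => by
        have huE : (⟨u, h⟩ : M) ∈ V := mem_centralizer_singleton_iff.2 (Subtype.ext
          (mem_centralizer_singleton_iff.1 huC))
        refine hne' (mul_inv_eq_iff_eq_mul.2 (mem_centralizer_singleton_iff.1 (hcentv.symm ▸ ?_)))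
        have hcomm : (⟨u, h⟩ : M) * wM = wM * ⟨u, h⟩ := Subtype.ext hwu
        obtain ⟨k, hk⟩ := isConj_iff.1 (hconj ⟨u, h⟩ (hPV ▸ huE) v (hEeq ▸ hvE)
          (fun hh => CfsgLib.Invol.invol_ne_one hu (congrArg Subtype.val hh)) hv1)
        have h1 : Nat.card (centralizer ({(⟨u, h⟩ : M)} : Set M)) = Nat.card V := by
          rw [← hcentv, CfsgLib.Invol.card_centralizer_conj (isConj_iff.2 ⟨k, hk⟩)]
        have h2 : V = centralizer ({(⟨u, h⟩ : M)} : Set M) := Subgroup.eq_of_le_of_card_ge
          (fun x hx => mem_centralizer_singleton_iff.2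
            (congrArg Subtype.val (hcV.is_comm.comm (⟨x, hx⟩ : V) ⟨_, huE⟩))) h1.le
        rw [h2]
        exact mem_centralizer_singleton_iff.2 hcomm.symm
      refine hab₀ ?_
      have hdec : ∀ y ∈ C, ∃ x ∈ V, y = (x : G) ∨ y = (x : G) * u := by
        intro y hy
        by_cases hyM : y ∈ M
        · exact ⟨⟨y, hyM⟩, mem_centralizer_singleton_iff.2 (Subtype.ext (mem_centralizer_singleton_iff.1 hy)), Or.inl rfl⟩
        · have hyu : y * u⁻¹ ∈ M := by
            rw [Subgroup.mul_mem_iff_of_index_two hM, inv_mem_iff]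
            exact iff_of_false hyM huM
          exact ⟨⟨y * u⁻¹, hyu⟩, mem_centralizer_singleton_iff.2 (Subtype.ext
            (mem_centralizer_singleton_iff.1 (mul_mem hy (inv_mem huC)))), Or.inr (by group)⟩
      have hVc : ∀ x ∈ V, ∀ y ∈ V, (x : G) * y = y * x := fun x hx y hy =>
        congrArg (fun t : V => ((t : M) : G)) (hcV.is_comm.comm ⟨x, hx⟩ ⟨y, hy⟩)
      have huc : ∀ x ∈ V, Commute u (x : G) := fun x hx =>
        mul_inv_eq_iff_eq_mul.1 (huV x (hEeq.symm ▸ hPV ▸ hx))
      obtain ⟨x, hx, hxa⟩ := hdec a₀ ha₀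
      obtain ⟨y, hy, hyb⟩ := hdec b₀ hb₀
      have hxy : Commute (x : G) y := hVc x hx y hy
      rcases hxa with rfl | rfl <;> rcases hyb with rfl | rfl
      · exact hxy
      · exact hxy.mul_right (huc x hx).symm
      · exact hxy.mul_left (huc y hy)
      · exact (hxy.mul_right (huc x hx).symm).mul_left ((huc y hy).mul_right (Commute.refl u))
  · right
    push Not at hex
    obtain ⟨ι⟩ := CfsgLib.Invol.iso_alternating_five hzMo hV4 hexp hncM
      (fun E hE hEe => hex E hE hEe)
    haveI : IsSimpleGroup (alternatingGroup (Fin 5)) := alternatingGroup.isSimpleGroup_five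
    haveI : IsSimpleGroup M := MulEquiv.isSimpleGroup ι
    have hns : ¬ Group.IsSolvable M := fun h => by
      have hcom := (IsSimpleGroup.comm_iff_isSolvable (G := M)).2 h
      refine hVtop (top_le_iff.1 fun y _ => mem_centralizer_singleton_iff.2 (hcom y zM))
    have h60 : Nat.card M = 60 := by
      rw [Nat.card_congr ι.toEquiv, nat_card_alternatingGroup, Nat.card_fin]
      rfl
    refine CfsgLib.Invol.AltEightSubgroups.sym_five_of_normal (by rw [hcardG, h60]) (fun N hN hs => ?_) M h60 hns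
    haveI := hN
    have hNM : N.subgroupOf M = ⊥ := by
      refine (IsSimpleGroup.eq_bot_or_eq_top_of_normal _ inferInstance).resolve_right fun h => hns ?_
      haveI := hs
      exact solvable_of_solvable_injective (f := Subgroup.inclusion (subgroupOf_eq_top.1 h))
        (Subgroup.inclusion_injective _)
    have hdisj : ∀ x ∈ N, x ∈ M → x = 1 := fun x hxN hxM =>
      have h1 : (⟨x, hxM⟩ : M) ∈ N.subgroupOf M := mem_subgroupOf.2 hxN
      congrArg Subtype.val ((Subgroup.mem_bot.1 (hNM ▸ h1)) : (⟨x, hxM⟩ : M) = 1)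
    rw [eq_bot_iff]
    intro n hn
    rw [Subgroup.mem_bot]
    have hcentral : ∀ y : G, y * n = n * y := by
      intro y
      have h1 : y * n * y⁻¹ * n⁻¹ ∈ N := mul_mem (hN.conj_mem n hn y) (inv_mem hn)
      have h2 : y * n * y⁻¹ * n⁻¹ ∈ M := by
        have hc2 : (n * y * n⁻¹ * y⁻¹)⁻¹ ∈ M := by
          refine inv_mem ?_
          rw [Subgroup.mul_mem_iff_of_index_two hM, Subgroup.mul_mem_iff_of_index_two hM,
            Subgroup.mul_mem_iff_of_index_two hM, inv_mem_iff, inv_mem_iff]
          tauto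
        simpa [mul_assoc] using hc2
      have h := hdisj _ h1 h2
      rw [mul_inv_eq_one, mul_inv_eq_iff_eq_mul] at h
      exact h
    rcases hcen n (mem_centralizer_singleton_iff.2 (hcentral z).symm) (fun y _ => hcentral y) with h | h
    · exact h
    · exact hdisj n hn (h ▸ hzM)


/-- Let G be a finite group with an involution z whose centralizer is dihedral of order 8. Then G = C_G(z) O(G) with O(G) the largest normal subgroup of odd order, or G is isomorphic to the symmetric group of degree 4, the symmetric group of degree 5, the group SL₃(2), or the alternating group of degree 6. -/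
theorem result {G : Type*} [Group G] [Finite G] (z : G) (hz : orderOf z = 2)
    (hC : Nonempty (↥(Subgroup.centralizer ({z} : Set G)) ≃* DihedralGroup 4)) :
    Subgroup.centralizer ({z} : Set G) ⊔ Cfsg.oddCore G = ⊤ ∨ Nonempty (G ≃* Equiv.Perm (Fin 4)) ∨ Nonempty (G ≃* Equiv.Perm (Fin 5)) ∨
      Nonempty (G ≃* Matrix.SpecialLinearGroup (Fin 3) (ZMod 2)) ∨ Nonempty (G ≃* ↥(alternatingGroup (Fin 6))) := by
  classical
  obtain ⟨e⟩ := hC
  by_cases hnc : Cfsg.HasNormalPComplement 2 G
  · exact Or.inl (sup_oddCore hz e hnc)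
  refine Or.inr ?_
  by_cases hno2 : ∀ H : Subgroup G, H.index ≠ 2
  · haveI := Fintype.ofFinite G
    haveI := Cfsg.Agent.S3261.isSimple_of_dihedral hno2 z hz e
    refine Or.inr (Or.inr ?_)
    rcases CfsgLib.Char.card_of_centralizer_dihedral_eight' hno2 z hz e with h | h
    · left
      obtain ⟨h3s, h3c⟩ := Cfsg.Agent.S2553.gl_three_two
      haveI := h3s
      obtain ⟨a⟩ := CfsgLib.Perm.Small.s168_equiv_model h
      obtain ⟨b⟩ := CfsgLib.Perm.Small.s168_equiv_model h3c
      refine ⟨(a.trans b.symm).trans (MulEquiv.ofBijective Matrix.SpecialLinearGroup.toGL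
        ⟨Matrix.SpecialLinearGroup.toGL_injective, fun A => ?_⟩).symm⟩
      have hd : (A : Matrix (Fin 3) (Fin 3) (ZMod 2)).det = 1 := by
        have h := (Matrix.isUnits_det_units A).ne_zero
        revert h
        generalize (A : Matrix (Fin 3) (Fin 3) (ZMod 2)).det = d
        revert d; decide
      exact ⟨⟨A, hd⟩, Units.ext rfl⟩
    · exact Or.inr (Cfsg.Agent.S0497.result h)
  · push Not at hno2
    obtain ⟨M, hM⟩ := hno2
    rcases index_two_case hz e hnc hM with h | h
    · exact Or.inl h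
    · exact Or.inr (Or.inl h)

end Cfsg.Agent.S3035
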