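import Cfsg.Statements.S3036
import Cfsg.Agent.Lib.PGroup.Measure

set_option autoImplicit false
open Cfsg
open scoped Pointwise commutatorElement

namespace Cfsg.Agent.S3036

/-- Let G be a finite non-abelian simple group and A a proper nontrivial subgroup of G. Then |G| > |A| · |C_G(A)|. In particular |G| > |A|² for every nontrivial abelian subgroup A of G. -/
theorem result {G : Type*} [Group G] [Finite G] [IsSimpleGroup G] (hG : ¬ IsMulCommutative G) (A : Subgroup G) (hA1 : A ≠ ⊥) (hA2 : A ≠ ⊤) : Nat.card A * Nat.card ↥(Subgroup.centralizer (A : Set G)) < Nat.card G := by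
  by_contra hlt
  push Not at hlt
  set f := Cfsg.maxCentralizerProduct G
  have hA : f ≥ Nat.card G := hlt.trans (CfsgLib.CDLat.measure_le A)
  have hcenter : Subgroup.center G = ⊥ := (Subgroup.Normal.eq_bot_or_eq_top inferInstance).resolve_right fun h =>
    hG ⟨⟨fun a b => (Subgroup.mem_center_iff.1 (h.ge (Subgroup.mem_top a)) b).symm⟩⟩
  have htop : CfsgLib.CDLat.measure (⊤ : Subgroup G) = Nat.card G := by
    rw [CfsgLib.CDLat.measure, Subgroup.coe_top, Subgroup.centralizer_univ, hcenter, Subgroup.card_bot, mul_one, Subgroup.card_top]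
  -- a proper nontrivial largest measure subgroup
  obtain ⟨B, hB, hB1, hBtop⟩ : ∃ B : Subgroup G, Cfsg.IsCentralizerLarge B ∧ B ≠ ⊥ ∧ B ≠ ⊤ := by
    rcases (lt_or_eq_of_le hA) with h | h
    · obtain ⟨B, hB⟩ := CfsgLib.CDLat.exists_large (G := G)
      refine ⟨B, hB, fun e => h.ne' ?_, fun e => h.ne' ?_⟩
      · rw [show f = CfsgLib.CDLat.measure B from Eq.symm hB, e, CfsgLib.CDLat.measure, Subgroup.card_bot, one_mul, Subgroup.centralizer_eq_top_iff_subset.2 (by simp), Subgroup.card_top]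
      · rw [show f = CfsgLib.CDLat.measure B from Eq.symm hB, e, htop]
    · exact ⟨A, CfsgLib.CDLat.large_iff.2 (h.symm.le.trans hlt), hA1, hA2⟩
  obtain ⟨M, ⟨hBM, hM, hMtop⟩, hmax⟩ := Set.Finite.exists_maximal
    (s := {M : Subgroup G | B ≤ M ∧ Cfsg.IsCentralizerLarge M ∧ M ≠ ⊤}) (Set.toFinite _) ⟨B, le_rfl, hB, hBtop⟩
  have hconj : ∀ g : G, Cfsg.IsCentralizerLarge (M.map (MulAut.conj g).toMonoidHom) := fun g => by
    refine CfsgLib.CDLat.large_iff.2 ((show f = CfsgLib.CDLat.measure M from Eq.symm hM).le.trans (le_of_eq ?_))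
    have hC := CfsgLib.CDLat.centralizer_map_conj g M
    rw [CfsgLib.CDLat.measure, CfsgLib.CDLat.measure, hC, Subgroup.card_map_of_injective (MulAut.conj g).injective, Subgroup.card_map_of_injective (MulAut.conj g).injective]
  have hfix : ∀ g : G, M.map (MulAut.conj g).toMonoidHom = M := by
    intro g
    obtain ⟨h1, h2, -, -⟩ := CfsgLib.CDLat.large_pair hM (hconj g)
    by_cases e : M ⊔ M.map (MulAut.conj g).toMonoidHom = ⊤
    · exfalso
      have hgmem : g⁻¹ ∈ ((M ⊔ M.map (MulAut.conj g).toMonoidHom : Subgroup G) : Set G) := by rw [e]; trivial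
      rw [h1] at hgmem
      obtain ⟨a, ha, b, ⟨c, hc, rfl⟩, hab⟩ := hgmem
      have hab' : a * (g * c * g⁻¹) = g⁻¹ := hab
      have hgM : g ∈ M := by
        have h3 : g = a⁻¹ * c⁻¹ := by
          calc g = a⁻¹ * (a * (g * c * g⁻¹)) * g * c⁻¹ := by group
            _ = a⁻¹ * g⁻¹ * g * c⁻¹ := by rw [hab']
            _ = a⁻¹ * c⁻¹ := by group
        rw [h3]; exact M.mul_mem (M.inv_mem ha) (M.inv_mem hc)
      refine hMtop (eq_top_iff.2 (e.ge.trans (sup_le le_rfl ?_)))
      rintro _ ⟨y, hy, rfl⟩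
      exact M.mul_mem (M.mul_mem hgM hy) (M.inv_mem hgM)
    · have := hmax ⟨hBM.trans le_sup_left, h2, e⟩ le_sup_left
      exact Subgroup.eq_of_le_of_card_ge (le_sup_right.trans this) (by rw [Subgroup.card_map_of_injective (MulAut.conj g).injective])
  haveI : M.Normal := ⟨fun m hm g => hfix g ▸ ⟨m, hm, rfl⟩⟩
  rcases Subgroup.Normal.eq_bot_or_eq_top (H := M) inferInstance with h | h
  · exact hB1 (le_bot_iff.1 (h ▸ hBM))
  · exact hMtop h

end Cfsg.Agent.S3036
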