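import Cfsg.Statements.S3037
import Cfsg.Agent.Lib.PGroup.Measure
import Cfsg.Agent.Lib.Coprime.Action

set_option autoImplicit false
open Cfsg
open scoped Pointwise commutatorElement

namespace Cfsg.Agent.S3037

/-- Let V and G be subgroups of a finite group with V an elementary abelian p-group (p prime) on which G acts faithfully and irreducibly by conjugation: G normalizes V, G ∩ C(V) = 1, and the only subgroups of V normalized by G are 1 and V. If for some nontrivial subgroup A of G and some real α > 0 one has |V| ≤ |A|^α · |C_V(A)|, then |V| ≤ |G|^α. -/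
theorem result {X : Type*} [Group X] [Finite X] {p : ℕ} [Fact p.Prime] (V G : Subgroup X) (hV : Cfsg.IsElementaryAbelian p V)
    (hGV : G ≤ Subgroup.normalizer (V : Set X)) (hfaith : G ⊓ Subgroup.centralizer (V : Set X) = ⊥)
    (hirr : ∀ W : Subgroup X, W ≤ V → G ≤ Subgroup.normalizer (W : Set X) → W = ⊥ ∨ W = V)
    (A : Subgroup X) (hA : A ≤ G) (hA1 : A ≠ ⊥) (α : ℝ) (hα : 0 < α)
    (hbig : (Nat.card V : ℝ) ≤ (Nat.card A : ℝ) ^ α * (Nat.card ↥(V ⊓ Subgroup.centralizer (A : Set X)) : ℝ)) :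
    (Nat.card V : ℝ) ≤ (Nat.card G : ℝ) ^ α := by
  haveI := hV.1
  let φ : Subgroup X → ℝ := fun Y => (Nat.card Y : ℝ) ^ α * (Nat.card ↥(V ⊓ Subgroup.centralizer (Y : Set X)) : ℝ)
  have hpos : ∀ Y, 0 < φ Y := fun Y => mul_pos (Real.rpow_pos_of_pos (Nat.cast_pos.2 Nat.card_pos) _) (Nat.cast_pos.2 Nat.card_pos)
  have hmod : ∀ Y Z, φ Y * φ Z ≤ φ (Y ⊔ Z) * φ (Y ⊓ Z) := by
    intro Y Z
    have a1 := CfsgLib.CDLat.card_prod_mul_card_inf Y Z
    have b1 := Nat.card_mono (Set.toFinite _) (CfsgLib.CDLat.prod_subset_sup Y Z)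
    have a2 := CfsgLib.CDLat.card_prod_mul_card_inf (V ⊓ Subgroup.centralizer (Y : Set X)) (V ⊓ Subgroup.centralizer (Z : Set X))
    have b2 := Nat.card_mono (Set.toFinite _) (show ((V ⊓ Subgroup.centralizer (Y : Set X) : Subgroup X) : Set X) * ((V ⊓ Subgroup.centralizer (Z : Set X) : Subgroup X) : Set X) ⊆ ((V ⊓ Subgroup.centralizer ((Y ⊓ Z : Subgroup X) : Set X) : Subgroup X) : Set X) by
      rintro _ ⟨a, ha, b, hb, rfl⟩
      exact ⟨V.mul_mem ha.1 hb.1, CfsgLib.CDLat.prod_centralizer_subset Y Z ⟨a, ha.2, b, hb.2, rfl⟩⟩)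
    rw [← inf_inf_distrib_left, ← CfsgLib.CDLat.centralizer_sup] at a2
    have n1 : Nat.card Y * Nat.card Z ≤ Nat.card ↥(Y ⊔ Z) * Nat.card ↥(Y ⊓ Z) := a1 ▸ Nat.mul_le_mul_right _ b1
    have n2 : Nat.card ↥(V ⊓ Subgroup.centralizer (Y : Set X)) * Nat.card ↥(V ⊓ Subgroup.centralizer (Z : Set X)) ≤ Nat.card ↥(V ⊓ Subgroup.centralizer ((Y ⊓ Z : Subgroup X) : Set X)) * Nat.card ↥(V ⊓ Subgroup.centralizer ((Y ⊔ Z : Subgroup X) : Set X)) := a2 ▸ Nat.mul_le_mul_right _ b2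
    have r1 : (Nat.card Y : ℝ) ^ α * (Nat.card Z : ℝ) ^ α ≤ (Nat.card ↥(Y ⊔ Z) : ℝ) ^ α * (Nat.card ↥(Y ⊓ Z) : ℝ) ^ α := by
      rw [← Real.mul_rpow (Nat.cast_nonneg _) (Nat.cast_nonneg _), ← Real.mul_rpow (Nat.cast_nonneg _) (Nat.cast_nonneg _)]
      exact Real.rpow_le_rpow (mul_nonneg (Nat.cast_nonneg _) (Nat.cast_nonneg _)) (by exact_mod_cast n1) hα.le
    have r2 : (Nat.card ↥(V ⊓ Subgroup.centralizer (Y : Set X)) : ℝ) * Nat.card ↥(V ⊓ Subgroup.centralizer (Z : Set X)) ≤ (Nat.card ↥(V ⊓ Subgroup.centralizer ((Y ⊔ Z : Subgroup X) : Set X)) : ℝ) * Nat.card ↥(V ⊓ Subgroup.centralizer ((Y ⊓ Z : Subgroup X) : Set X)) := by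
      rw [mul_comm (Nat.card ↥(V ⊓ Subgroup.centralizer ((Y ⊔ Z : Subgroup X) : Set X)) : ℝ)]
      exact_mod_cast n2
    calc φ Y * φ Z = ((Nat.card Y : ℝ) ^ α * (Nat.card Z : ℝ) ^ α) * ((Nat.card ↥(V ⊓ Subgroup.centralizer (Y : Set X)) : ℝ) * Nat.card ↥(V ⊓ Subgroup.centralizer (Z : Set X))) := by ring
      _ ≤ _ := mul_le_mul r1 r2 (mul_nonneg (Nat.cast_nonneg _) (Nat.cast_nonneg _)) (mul_nonneg (Real.rpow_nonneg (Nat.cast_nonneg _) _) (Real.rpow_nonneg (Nat.cast_nonneg _) _))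
      _ = φ (Y ⊔ Z) * φ (Y ⊓ Z) := by ring
  obtain ⟨Y₀, hY₀G, hY₀⟩ := Set.Finite.exists_maximalFor φ {Y : Subgroup X | Y ≤ G} (Set.toFinite _) ⟨⊥, show (⊥ : Subgroup X) ≤ G from bot_le⟩
  have htot : ∀ Y, Y ≤ G → φ Y ≤ φ Y₀ := fun Y hY => (le_total (φ Y) (φ Y₀)).elim id fun h => hY₀ hY h
  obtain ⟨M, ⟨hMG, hMmax⟩, hMtop⟩ := Set.Finite.exists_maximal (s := {Y : Subgroup X | Y ≤ G ∧ φ Y₀ ≤ φ Y}) (Set.toFinite _) ⟨Y₀, hY₀G, le_rfl⟩
  have habs : ∀ Y, Y ≤ G → φ Y₀ ≤ φ Y → Y ≤ M := by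
    intro Y hYG hY
    refine le_sup_right.trans (hMtop ⟨sup_le hMG hYG, ?_⟩ le_sup_left)
    refine le_of_mul_le_mul_right ?_ (hpos Y₀)
    calc φ Y₀ * φ Y₀ ≤ φ M * φ Y := mul_le_mul hMmax hY (hpos _).le (hpos _).le
      _ ≤ φ (M ⊔ Y) * φ (M ⊓ Y) := hmod M Y
      _ ≤ φ (M ⊔ Y) * φ Y₀ := mul_le_mul_of_nonneg_left (htot _ (inf_le_left.trans hMG)) (hpos _).le
  have hV1 : φ ⊥ = (Nat.card V : ℝ) := by
    simp only [φ, Subgroup.card_bot, Nat.cast_one, Real.one_rpow, one_mul]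
    rw [Subgroup.centralizer_eq_top_iff_subset.2 (by simp), inf_top_eq]
  have hVM : (Nat.card V : ℝ) ≤ φ M := hV1 ▸ (htot ⊥ bot_le).trans hMmax
  have hM1 : M ≠ ⊥ := fun e => by
    have hYle : φ Y₀ ≤ φ A := (e ▸ hMmax : φ Y₀ ≤ φ ⊥).trans (hV1.le.trans hbig)
    exact hA1 (le_bot_iff.1 (e ▸ habs A hA hYle))
  have hGM : G ≤ Subgroup.normalizer (M : Set X) := by
    have hconj : ∀ g ∈ G, ∀ m ∈ M, g * m * g⁻¹ ∈ M := by
      intro g hg m hm
      let M' := M.map (MulAut.conj g).toMonoidHom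
      have hM' : M' ≤ M := by
        refine habs M' ?_ (hMmax.trans (le_of_eq ?_))
        · rintro _ ⟨y, hy, rfl⟩
          exact G.mul_mem (G.mul_mem hg (hMG hy)) (G.inv_mem hg)
        · have hfix : V.map (MulAut.conj g).toMonoidHom = V := Subgroup.mem_normalizer_iff_map_conj_eq.1 (hGV hg)
          have hC : V ⊓ Subgroup.centralizer (M' : Set X) = (V ⊓ Subgroup.centralizer (M : Set X)).map (MulAut.conj g).toMonoidHom := by
            rw [Subgroup.map_inf _ _ _ (MulAut.conj g).injective, hfix]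
            congr 1
            exact CfsgLib.CDLat.centralizer_map_conj g M
          simp only [φ]
          rw [hC, Subgroup.card_map_of_injective (MulAut.conj g).injective, Subgroup.card_map_of_injective (MulAut.conj g).injective]
      exact hM' ⟨m, hm, rfl⟩
    intro g hg
    refine Subgroup.mem_normalizer_iff.2 fun m => ⟨hconj g hg m, fun h => ?_⟩
    simpa [mul_assoc] using hconj g⁻¹ (G.inv_mem hg) _ h
  have hfix : G ≤ Subgroup.normalizer ((V ⊓ Subgroup.centralizer (M : Set X) : Subgroup X) : Set X) := fun g hg => by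
    rw [Subgroup.mem_normalizer_iff_map_conj_eq, Subgroup.map_inf _ _ _ (MulAut.conj g).injective, Subgroup.mem_normalizer_iff_map_conj_eq.1 (hGV hg)]
    congr 1
    exact Subgroup.mem_normalizer_iff_map_conj_eq.1 (CfsgLib.Coprime.normalizer_le_normalizer_centralizer M (hGM hg))
  rcases hirr _ inf_le_left hfix with h | h
  · simp only [φ, h, Subgroup.card_bot, Nat.cast_one, mul_one] at hVM
    exact hVM.trans (Real.rpow_le_rpow (Nat.cast_nonneg _) (by exact_mod_cast Subgroup.card_le_of_le hMG) hα.le)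
  · refine absurd (le_bot_iff.1 (hfaith ▸ le_inf hMG ?_)) hM1
    exact Subgroup.le_centralizer_iff.1 (inf_eq_left.1 h)

end Cfsg.Agent.S3037
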