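import Cfsg.Statements.S3038
-- import your own Cfsg.Agent.* helpers here
import Cfsg.Agent.Lib.IsolatedRankTwo.Cases

set_option autoImplicit false
open Cfsg

set_option linter.style.haveILetI false

namespace Cfsg.Agent.S3038

open Subgroup

/-- Let G be a finite group and p an odd prime with O_{p'}(G) = 1. Suppose that G has p-rank at most 2 and that some element x of order p is isolated in G and not central. Then F*(G) is a non-abelian simple group, and for every Sylow p-subgroup P of F*(G), either no conjugate of x lies in P and P is cyclic, or some conjugate of x lies in P and either P is extraspecial of order p³ and exponent p, or p = 3 and P has order 3^{2k+1} for some k ≥ 2 and is of maximal class (nilpotency class 2k). Since O_{p'}(G) = 1, such an x is not central modulo O_{p'}(G): the hypotheses describe a counterexample to the Z*_p statement in p-rank at most 2, and the conclusion records the structure it would have. -/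
theorem result {G : Type*} [Group G] [Finite G] {p : ℕ} [Fact p.Prime] (hp : p ≠ 2) (hcore : Cfsg.pPrimeCore p G = ⊥)
    (hrank : Cfsg.PRankLE p 2 G) (x : G) (hx : orderOf x = p) (hiso : Cfsg.IsIsolated x) (hnc : x ∉ Subgroup.center G) :
    IsSimpleGroup ↥(Cfsg.generalizedFittingSubgroup G) ∧ ¬ IsMulCommutative ↥(Cfsg.generalizedFittingSubgroup G) ∧
    ∀ P : Sylow p ↥(Cfsg.generalizedFittingSubgroup G),
      ((∀ g : G, g * x * g⁻¹ ∉ ((P : Subgroup ↥(Cfsg.generalizedFittingSubgroup G)).map (Cfsg.generalizedFittingSubgroup G).subtype)) ∧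
          IsCyclic ↥(P : Subgroup ↥(Cfsg.generalizedFittingSubgroup G))) ∨
      ((∃ g : G, g * x * g⁻¹ ∈ ((P : Subgroup ↥(Cfsg.generalizedFittingSubgroup G)).map (Cfsg.generalizedFittingSubgroup G).subtype)) ∧
        ((Cfsg.IsExtraspecial p ↥(P : Subgroup ↥(Cfsg.generalizedFittingSubgroup G)) ∧
            Nat.card (P : Subgroup ↥(Cfsg.generalizedFittingSubgroup G)) = p ^ 3 ∧
            ∀ y ∈ (P : Subgroup ↥(Cfsg.generalizedFittingSubgroup G)), y ^ p = 1) ∨
         (p = 3 ∧ ∃ k : ℕ, 2 ≤ k ∧ Nat.card (P : Subgroup ↥(Cfsg.generalizedFittingSubgroup G)) = 3 ^ (2 * k + 1) ∧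
            ∃ _ : Group.IsNilpotent ↥(P : Subgroup ↥(Cfsg.generalizedFittingSubgroup G)),
              Group.nilpotencyClass ↥(P : Subgroup ↥(Cfsg.generalizedFittingSubgroup G)) = 2 * k))) := by
  have h : CfsgLib.IsoRankTwo.Ctx p x := ⟨hp, hcore, hrank, hx, hiso, hnc⟩
  obtain ⟨L, hFL, hLn, hLperf, hLs, hLc⟩ := h.generalizedFitting_eq
  subst hFL
  haveI := hLn
  refine ⟨hLs, hLc, ?_⟩
  set F := Cfsg.generalizedFittingSubgroup G
  intro P
  have hPi : ¬ p ∣ ((P : Subgroup ↥F).map F.subtype).relIndex F := by
    rw [relIndex, subgroupOf, comap_map_eq_self_of_injective F.subtype_injective]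
    exact P.not_dvd_index
  by_cases hconj : ∃ g : G, g * x * g⁻¹ ∈ (P : Subgroup ↥F).map F.subtype
  · refine Or.inr ⟨hconj, ?_⟩
    obtain ⟨g, w, hw, hwe⟩ := hconj
    have hperf : _root_.commutator ↥F = ⊤ := by
      refine map_injective F.subtype_injective ?_
      rw [map_subtype_commutator, hLperf, ← MonoidHom.range_eq_map, range_subtype]
    have hrkF : Cfsg.PRankLE p 2 ↥F := by
      intro A hA hAe
      haveI := hA
      have h1 := hrank (A.map F.subtype) inferInstance (by
        rintro _ ⟨y, hy, rfl⟩
        rw [← map_pow, hAe y hy, map_one])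
      rwa [card_map_of_injective F.subtype_injective] at h1
    have hg := h.conj g
    have hwo : orderOf w = p := by
      rw [← Subgroup.orderOf_coe, show (w : G) = g * x * g⁻¹ from hwe, hg.ord]
    have hwi : Cfsg.IsIsolated w := fun k hk => Subtype.ext (by
      show (k : G) * w * (k : G)⁻¹ = w
      rw [show (w : G) = g * x * g⁻¹ from hwe]
      refine hg.iso k ?_
      rw [← show (w : G) = g * x * g⁻¹ from hwe]
      exact hk.map F.subtype)
    exact CfsgLib.IsoRankTwo.sylow_structure hp hperf hrkF hwo hwi P hw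
  · refine Or.inl ⟨fun g hg => hconj ⟨g, hg⟩, ?_⟩
    rcases h.cyclic_or_conj (P.2.map F.subtype) (map_subtype_le _) hPi with hc | hc
    · exact ((P : Subgroup ↥F).equivMapOfInjective F.subtype F.subtype_injective).isCyclic.2 hc
    · exact absurd hc hconj

end Cfsg.Agent.S3038
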