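import Cfsg.Statements.S3043
import Cfsg.Agent.Lib.Perm.TIInvol.One
import Cfsg.Agent.Lib.Perm.TIInvol.Large

set_option autoImplicit false
open Cfsg

namespace Cfsg.Agent.S3043

/-- Let M be a nontrivial subgroup of a finite group G meeting each of its other conjugates trivially, with N_G(M) = M · C_{N_G(M)}(z) for some involution z ∈ N_G(M), and with C_G(x) of odd order for every nontrivial x ∈ M. Then one of the following holds: M is normal in G; the number of involutions of G is at most |G : M|; G is isomorphic to PGL₂(F) or to PSL₂(F) for a finite field F with |F| = |M|, M is an elementary abelian p-group for the characteristic p of F, and |F| ≡ 1 (mod 4) in the PSL₂ case; G is isomorphic to PSL₂(F) with |F| = 2^e, e > 1, and M is cyclic of order 2^e + 1; or for some d ≥ 1, G has an elementary abelian normal subgroup of order 2^{2d} complemented by N_G(M), and N_G(M) is dihedral of order 2(2^d + 1). -/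
theorem result {G : Type*} [Group G] [Finite G] (M : Subgroup G) (hM1 : M ≠ ⊥)
    (hTI : ∀ g : G, M ⊓ M.map (MulAut.conj g).toMonoidHom ≠ ⊥ → M.map (MulAut.conj g).toMonoidHom = M)
    (z : G) (hz : orderOf z = 2) (hzN : z ∈ Subgroup.normalizer (M : Set G))
    (hfac : M ⊔ (Subgroup.normalizer (M : Set G) ⊓ Subgroup.centralizer ({z} : Set G)) = Subgroup.normalizer (M : Set G))
    (hodd : ∀ x ∈ M, x ≠ 1 → Odd (Nat.card ↥(Subgroup.centralizer ({x} : Set G)))) :
    M.Normal ∨
    Nat.card {g : G // orderOf g = 2} ≤ M.index ∨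
    (∃ (F : Type) (_ : Field F) (_ : Fintype F) (p : ℕ) (_ : Fact p.Prime) (_ : CharP F p), Fintype.card F = Nat.card M ∧ Cfsg.IsElementaryAbelian p M ∧
        (Nonempty (G ≃* (GL (Fin 2) F ⧸ Subgroup.center (GL (Fin 2) F))) ∨
         (Fintype.card F % 4 = 1 ∧ Nonempty (G ≃* Matrix.ProjectiveSpecialLinearGroup (Fin 2) F)))) ∨
    (∃ (F : Type) (_ : Field F) (_ : Fintype F) (e : ℕ), 1 < e ∧ Fintype.card F = 2 ^ e ∧ IsCyclic ↥M ∧ Nat.card M = 2 ^ e + 1 ∧
        Nonempty (G ≃* Matrix.ProjectiveSpecialLinearGroup (Fin 2) F)) ∨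
    (∃ (d : ℕ) (E : Subgroup G), 1 ≤ d ∧ E.Normal ∧ Cfsg.IsElementaryAbelian 2 E ∧ Nat.card E = 2 ^ (2 * d) ∧
        E ⊓ Subgroup.normalizer (M : Set G) = ⊥ ∧ E ⊔ Subgroup.normalizer (M : Set G) = ⊤ ∧
        Nonempty (↥(Subgroup.normalizer (M : Set G)) ≃* DihedralGroup (2 ^ d + 1))) := by
  classical
  have hti : ∀ g x : G, x ∈ M → x ≠ 1 → g * x * g⁻¹ ∈ M → g ∈ Subgroup.normalizer (M : Set G) := by
    intro g x hx hx1 hgx
    have hne : M ⊓ M.map (MulAut.conj g).toMonoidHom ≠ ⊥ := fun e => hx1 (conj_eq_one_iff.1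
      ((Subgroup.eq_bot_iff_forall _).1 e (g * x * g⁻¹) ⟨hgx, x, hx, rfl⟩))
    refine Subgroup.mem_normalizer_fintype fun y hy => ?_
    show g * y * g⁻¹ ∈ M
    rw [← hTI g hne]
    exact ⟨y, hy, rfl⟩
  have h : CfsgLib.Perm.TIInvol.Hyp M z :=
    ⟨hM1, hti, (CfsgLib.Perm.TIInvol.orderOf_two_iff.1 hz).1, (CfsgLib.Perm.TIInvol.orderOf_two_iff.1 hz).2,
      hzN, hfac, fun x hx hx1 t h2 hc => by
        have h3 := Subgroup.orderOf_dvd_natCard _ (Subgroup.mem_centralizer_singleton_iff.2 hc :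
          t ∈ Subgroup.centralizer ({x} : Set G))
        rcases (Nat.dvd_prime Nat.prime_two).1
          (orderOf_dvd_of_pow_eq_one (show t ^ 2 = 1 by rw [sq, h2])) with h4 | h4
        · exact orderOf_eq_one_iff.1 h4
        · rw [h4] at h3
          exact absurd h3 (hodd x hx hx1).not_two_dvd_nat⟩
  by_cases hnn : M.Normal
  · exact Or.inl hnn
  refine Or.inr ?_
  by_cases hI : CfsgLib.Perm.TIInvol.Many M
  swap
  · exact Or.inl (Nat.not_lt.1 hI)
  refine Or.inr ?_
  obtain ⟨k, hk, hW, hG, hIc⟩ := h.counts hI hnn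
  obtain ⟨hle, -⟩ := h.index_centralizer_le
  have hidx : (Subgroup.centralizer ({z} : Set G)).index * (k + 1) =
      Nat.card M * (1 + Nat.card M * k) := by
    have e := (Subgroup.centralizer ({z} : Set G)).card_mul_index
    rw [hW, hG] at e
    refine Nat.eq_of_mul_eq_mul_left (Nat.card_pos (α := CfsgLib.Perm.TIInvol.C0 M z)) ?_
    linear_combination e
  rw [hIc] at hle
  have hbound : 1 + Nat.card M * k ≤
      (Nat.card (CfsgLib.Perm.TIInvol.C0 M z) * k + 1) * (k + 1) := by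
    refine Nat.le_of_mul_le_mul_left ?_ (Nat.card_pos (α := M))
    rw [← hidx, ← mul_assoc]
    exact Nat.mul_le_mul_right _ hle
  rcases eq_or_lt_of_le hk with hk1 | hk2
  · subst hk1
    rw [mul_one] at hG hbound
    exact Or.inl (h.case_one hI hW hG (by rw [add_mul, mul_add] at hbound; omega))
  obtain ⟨hc, hexp⟩ := h.centralizer_elementary hI hk2 hW
  rw [hc] at hbound
  have hpg : IsPGroup 2 (Subgroup.centralizer ({z} : Set G)) := fun w => ⟨1, Subtype.ext (by
    rw [pow_one, SubmonoidClass.coe_pow, Subgroup.coe_one, sq]; exact hexp w w.2)⟩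
  haveI : Fact (Nat.Prime 2) := ⟨Nat.prime_two⟩
  obtain ⟨a, ha⟩ := IsPGroup.iff_card.1 hpg
  rw [hW, hc] at ha
  obtain ⟨d, rfl⟩ : ∃ d, a = d + 1 := by
    refine ⟨a - 1, ?_⟩
    rcases a with _ | a
    · rw [pow_zero] at ha; omega
    · omega
  have hkd : k + 1 = 2 ^ d := by rw [pow_succ] at ha; omega
  have hd : 1 ≤ d := by
    rcases d with _ | d
    · rw [pow_zero] at hkd; omega
    · omega
  have hm3 := h.three_le_card
  have hcop : Nat.Coprime (k + 1) (Nat.card M) := by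
    rw [hkd]
    exact Nat.Coprime.pow_left _ ((Nat.prime_two.coprime_iff_not_dvd).2 h.odd_card.not_two_dvd_nat)
  have hdvd : k + 1 ∣ 1 + Nat.card M * k := hcop.dvd_of_dvd_mul_left (Dvd.intro_left _ hidx)
  have hdvd2 : k + 1 ∣ Nat.card M - 1 := by
    refine (Nat.dvd_add_iff_left hdvd).2 ?_
    rw [show Nat.card M - 1 + (1 + Nat.card M * k) = Nat.card M * (k + 1) by rw [mul_add, mul_one]; omega]
    exact dvd_mul_left _ _
  obtain ⟨j, hj⟩ := hdvd2
  have hm : Nat.card M ≤ 2 * k + 3 := by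
    refine Nat.le_of_mul_le_mul_right ?_ (show 0 < k by omega)
    have e : (2 * k + 1) * (k + 1) = 1 + (2 * k + 3) * k := by ring
    omega
  rcases (show j = 0 ∨ j = 1 ∨ j = 2 ∨ 3 ≤ j by omega) with rfl | rfl | rfl | hj3
  · omega
  · refine Or.inr (Or.inr ⟨d, ?_⟩)
    obtain ⟨E, h1, h2, h3, h4, h5, h6⟩ := h.case_frobenius hnn hd hkd hc hG (by omega)
    exact ⟨E, hd, h1, h2, h3, h4, h5, h6⟩
  · exact Or.inr (Or.inl (h.case_psl hd hkd hc hexp hW hG hIc (by omega)))
  · have := Nat.mul_le_mul_left (k + 1) hj3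
    omega

end Cfsg.Agent.S3043
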