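import Cfsg.Statements.S3047
import Cfsg.Agent.Lib.LocalStructure.RankOne.SUThree

set_option autoImplicit false
open Cfsg

namespace Cfsg.Agent.S3047

open CfsgLib.RankOne

theorem charP_of_card_pow {F : Type} [Field F] [Fintype F] {p k : ℕ} [Fact p.Prime]
    (h : Fintype.card F = p ^ k) : CharP F p := by
  obtain ⟨r, hr⟩ := CharP.exists F
  obtain ⟨n, hrp, hn⟩ := FiniteField.card F r
  have h1 : r ∣ p ^ k := h ▸ hn ▸ dvd_pow_self r n.ne_zero
  have h2 : r = p := (Nat.prime_dvd_prime_iff_eq hrp Fact.out).1 (hrp.dvd_of_dvd_pow h1)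
  exact h2 ▸ hr

/-- The residual maps onto a rank one group. -/
theorem exists_model {R : Type*} [Group R] {M : Type*} [Group M] [Finite M] {p : ℕ} [Fact p.Prime]
    (e : R ≃* M) (Z : Subgroup M) [Z.Normal] (hZ : Z ≤ Subgroup.center M) (hcard : Nat.card Z < p) :
    ∃ φ : R →* M ⧸ Z, Function.Surjective φ ∧ φ.ker ≤ Subgroup.center R ∧ Nat.card φ.ker < p := by
  refine ⟨(QuotientGroup.mk' Z).comp e.toMonoidHom,
    (QuotientGroup.mk'_surjective Z).comp e.surjective, ?_, ?_⟩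
  · intro r hr
    rw [MonoidHom.mem_ker, MonoidHom.comp_apply, QuotientGroup.mk'_apply, QuotientGroup.eq_one_iff] at hr
    refine Subgroup.mem_center_iff.2 fun x => e.injective ?_
    rw [map_mul, map_mul]
    exact Subgroup.mem_center_iff.1 (hZ hr) (e x)
  · refine lt_of_le_of_lt (Nat.card_le_card_of_injective (fun r => (⟨e r.1, ?_⟩ : Z)) fun a b h => ?_) hcard
    · have h := r.2
      rwa [MonoidHom.mem_ker, MonoidHom.comp_apply, QuotientGroup.mk'_apply, QuotientGroup.eq_one_iff] at h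
    · exact Subtype.ext (e.injective (congrArg Subtype.val h))

theorem trivial_kernel {R X : Type*} [Group R] [Group X] {p : ℕ} [Fact p.Prime] (e : R ≃* X) :
    Function.Surjective e.toMonoidHom ∧ e.toMonoidHom.ker ≤ Subgroup.center R ∧
      Nat.card e.toMonoidHom.ker < p := by
  have h : e.toMonoidHom.ker = ⊥ := (MonoidHom.ker_eq_bot_iff _).2 e.injective
  refine ⟨e.surjective, h ▸ bot_le, ?_⟩
  rw [h, Subgroup.card_bot]
  exact (Fact.out : p.Prime).one_lt


/-- Let p ≥ 5 be a prime, G a finite group all of whose composition factors are known simple groups, S a Sylow p-subgroup and P a p-minimal subgroup of G containing S such that O^p(P/O_p(P)) is isomorphic to SL₂(pᵃ), PSL₂(pᵃ), SU₃(pᵃ) or PSU₃(pᵃ) for some a ≥ 1. Let L be the subgroup generated by N_G(S) and the p-minimal subgroups of G containing S other than P. Then either O^p(P) is normal in G, or every p-element of the centre of L lies in O_p(P). -/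
theorem result {G : Type*} [Group G] [Finite G] {p : ℕ} [Fact p.Prime] (hp : 5 ≤ p) (hK : Cfsg.IsCompositionKGroup G)
    (S : Sylow p G) (P : Subgroup G) (hSP : (S : Subgroup G) ≤ P) (hPmin : Cfsg.IsPMinimal p ↥P) [hn : (Cfsg.pCore p ↥P).Normal]
    (hrk1 : ∃ (F : Type) (_ : Field F) (_ : Fintype F) (a : ℕ), 1 ≤ a ∧
      ((Fintype.card F = p ^ a ∧ (Nonempty (↥(Cfsg.pResidual p (↥P ⧸ Cfsg.pCore p ↥P)) ≃* Matrix.SpecialLinearGroup (Fin 2) F) ∨
                                  Nonempty (↥(Cfsg.pResidual p (↥P ⧸ Cfsg.pCore p ↥P)) ≃* Matrix.ProjectiveSpecialLinearGroup (Fin 2) F))) ∨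
       (Fintype.card F = p ^ (2 * a) ∧ (Nonempty (↥(Cfsg.pResidual p (↥P ⧸ Cfsg.pCore p ↥P)) ≃* ↥(Cfsg.SU 3 F (p ^ a))) ∨
                                        Nonempty (↥(Cfsg.pResidual p (↥P ⧸ Cfsg.pCore p ↥P)) ≃* Cfsg.PSU 3 F (p ^ a))))))
    (L : Subgroup G)
    (hL : L = Subgroup.normalizer ((S : Subgroup G) : Set G) ⊔ ⨆ P' : {P' : Subgroup G // (S : Subgroup G) ≤ P' ∧ Cfsg.IsPMinimal p ↥P' ∧ P' ≠ P}, (P' : Subgroup G)) :
    ((Cfsg.pResidual p ↥P).map P.subtype).Normal ∨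
    ∀ z ∈ L ⊓ Subgroup.centralizer (L : Set G), (∃ k : ℕ, orderOf z = p ^ k) → z ∈ (Cfsg.pCore p ↥P).map P.subtype := by
  classical
  have hprime : p.Prime := Fact.out
  refine Or.inr fun z hz hpz => ?_
  obtain ⟨k, hk⟩ := hpz
  have hNL : Subgroup.normalizer ((S : Subgroup G) : Set G) ≤ L := by rw [hL]; exact le_sup_left
  have hzc : ∀ g ∈ L, Commute g z := fun g hg => Subgroup.mem_centralizer_iff.1 hz.2 g hg
  have hSL : (S : Subgroup G) ≤ L := Subgroup.le_normalizer.trans hNL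
  have hzS : z ∈ (S : Subgroup G) := mem_sylow_of_pow S (k := k)
    (Sylow.smul_eq_iff_mem_normalizer.2 (Subgroup.centralizer_le_normalizer _
      (Subgroup.mem_centralizer_iff.2 fun s hs => hzc s (hSL hs))))
    (by rw [← hk, pow_orderOf_eq_one])
  refine ⟨⟨z, hSP hzS⟩, ?_, rfl⟩
  let Q := Cfsg.pCore p ↥P
  let π : ↥P →* ↥P ⧸ Q := QuotientGroup.mk' Q
  let T : Sylow p ↥P := S.subtype hSP
  let Sb : Sylow p (↥P ⧸ Q) := Sylow.mapSurjective (QuotientGroup.mk'_surjective Q) T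
  have hQT : Q ≤ (T : Subgroup ↥P) := by
    obtain ⟨T', hT'⟩ := (CfsgLib.Coprime.pCore_isPGroup (G := ↥P) p).exists_le_sylow
    obtain ⟨g, hg⟩ := MulAction.exists_smul_eq ↥P T' T
    intro x hx
    rw [← hg, Sylow.coe_subgroup_smul, Subgroup.mem_pointwise_smul_iff_inv_smul_mem]
    refine hT' ?_
    rw [← map_inv, MulAut.smul_def, MulAut.conj_apply]
    exact hn.conj_mem x hx g⁻¹
  have hzT : (⟨z, hSP hzS⟩ : ↥P) ∈ (T : Subgroup ↥P) := hzS
  have hcomm : ∀ g : ↥P ⧸ Q, g • Sb = Sb → Commute g (π ⟨z, hSP hzS⟩) := by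
    intro y hy
    obtain ⟨g, rfl⟩ := QuotientGroup.mk'_surjective Q y
    have hg : (g : G) ∈ Subgroup.normalizer ((S : Subgroup G) : Set G) := by
      refine Subgroup.mem_normalizer_fintype fun s hs => ?_
      have h1 := conj_mem_of_smul hy
        (show π ⟨s, hSP hs⟩ ∈ Sb from Subgroup.mem_map_of_mem π (show (⟨s, hSP hs⟩ : ↥P) ∈ (T : Subgroup ↥P) from hs))
      obtain ⟨t, ht, he⟩ := h1
      change π t = π g * π ⟨s, hSP hs⟩ * (π g)⁻¹ at he
      rw [← map_inv, ← map_mul, ← map_mul, QuotientGroup.mk'_eq_mk'] at he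
      obtain ⟨x, hx, hxe⟩ := he
      have h2 : g * ⟨s, hSP hs⟩ * g⁻¹ ∈ (T : Subgroup ↥P) := hxe ▸ mul_mem ht (hQT hx)
      exact h2
    exact ((show Commute g (⟨z, hSP hzS⟩ : ↥P) from Subtype.ext (hzc _ (hNL hg)).eq)).map π
  suffices hz1 : π ⟨z, hSP hzS⟩ = 1 from (QuotientGroup.eq_one_iff _).1 hz1
  obtain ⟨F, iF, iFin, a, ha, hcases⟩ := hrk1
  haveI hXn : (Cfsg.pResidual p (↥P ⧸ Q)).Normal := CfsgLib.Fusion.pResidual_normal
  have hquot : IsPGroup p ((↥P ⧸ Q) ⧸ Cfsg.pResidual p (↥P ⧸ Q)) :=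
    CfsgLib.Fusion.isPGroup_quotient_pResidual _ le_rfl
  have hcore := CfsgLib.Coprime.pCore_quotient_eq_bot (G := ↥P) p
  have hzb : π ⟨z, hSP hzS⟩ ∈ Sb := Subgroup.mem_map_of_mem π hzT
  rcases hcases with ⟨hF, h⟩ | ⟨hF, h⟩
  · haveI : CharP F p := charP_of_card_pow hF
    obtain ⟨⟨D⟩, hs, hnc⟩ := psl_two_data (F := F) (p := p) hp
    haveI := hs
    rcases h with ⟨⟨e⟩⟩ | ⟨⟨e⟩⟩
    · have hlt : Nat.card (Subgroup.center (Matrix.SpecialLinearGroup (Fin 2) F)) < p := by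
        rw [CfsgLib.Classical.card_center_sl (by norm_num : 1 ≤ 2)]
        have := Nat.gcd_le_left (Fintype.card F - 1) two_pos
        omega
      obtain ⟨φ, h1, h2, h3⟩ := exists_model e _ le_rfl hlt
      exact eq_one_of_residual _ hquot hcore φ h1 h2 h3 (center_eq_bot_of_simple hnc) D Sb hzb hcomm
    · obtain ⟨h1, h2, h3⟩ := trivial_kernel (p := p) e
      exact eq_one_of_residual _ hquot hcore _ h1 h2 h3 (center_eq_bot_of_simple hnc) D Sb hzb hcomm
  · have hF2 : Fintype.card F = (p ^ a) ^ 2 := by rw [hF, mul_comm 2 a, pow_mul]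
    haveI : CharP F p := charP_of_card_pow hF
    obtain ⟨⟨D⟩, hs, hnc⟩ := psu_three_data (F := F) (q := p ^ a) (p := p) hp hF2
    haveI := hs
    rcases h with ⟨⟨e⟩⟩ | ⟨⟨e⟩⟩
    · obtain ⟨C⟩ := CfsgLib.Classical.uctx_exists hF2
      have hlt : Nat.card (Subgroup.center ↥(Cfsg.SU 3 F (p ^ a))) < p := by
        rw [C.card_center_su hF2 le_rfl]
        have := Nat.gcd_le_left (p ^ a + 1) (show 0 < 3 by norm_num)
        omega
      obtain ⟨φ, h1, h2, h3⟩ := exists_model e _ le_rfl hlt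
      exact eq_one_of_residual _ hquot hcore φ h1 h2 h3 (center_eq_bot_of_simple hnc) D Sb hzb hcomm
    · obtain ⟨h1, h2, h3⟩ := trivial_kernel (p := p) e
      exact eq_one_of_residual _ hquot hcore _ h1 h2 h3 (center_eq_bot_of_simple hnc) D Sb hzb hcomm

end Cfsg.Agent.S3047
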