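import Cfsg.Statements.S3049
import Cfsg.Agent.Lib.Coprime.Component
import Cfsg.Agent.Lib.Coprime.Core
import Cfsg.Agent.Lib.Coprime.OmegaPQ
import Cfsg.Agent.Lib.PGroup.Isolated
import Cfsg.Agent.Lib.PGroup.EmbeddedForms
import Cfsg.Agent.Lib.PGroup.Basic
import Cfsg.Agent.Lib.Fusion.PComplement
import Cfsg.Agent.Lib.Fusion.Residual
-- import your own Cfsg.Agent.* helpers here

set_option autoImplicit false
open Cfsg

namespace Cfsg.Agent.S3049

universe u

variable {G : Type*} [Group G] {p : ℕ}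

/-- In a group of rank two an element of order `p` commuting with an elementary pair lies in it. -/
theorem exists_zpow_eq [Finite G] [hp : Fact p.Prime] (hrank : Cfsg.PRankLE p 2 G) {a b c : G}
    (ha : a ^ p = 1) (hb : b ^ p = 1) (hc : c ^ p = 1) (hb1 : b ≠ 1) (hab : a * b = b * a) (hac : a * c = c * a)
    (hbc : b * c = c * b) (hanb : a ∉ Subgroup.zpowers b) : ∃ i j : ℤ, c = a ^ i * b ^ j := by
  set A := Subgroup.closure ({a, b, c} : Set G) with hA
  haveI hAc : IsMulCommutative A := Subgroup.isMulCommutative_closure (by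
    simp only [Set.mem_insert_iff, Set.mem_singleton_iff]
    rintro u (rfl | rfl | rfl) v (rfl | rfl | rfl) <;> simp [hab, hac, hbc])
  have hexp : ∀ v : A, v ^ p = 1 := by
    intro v
    obtain ⟨v, hv⟩ := v
    refine Subtype.ext ?_
    rw [Subgroup.coe_pow, Subgroup.coe_one]
    show v ^ p = 1
    induction hv using Subgroup.closure_induction with
    | mem u hu =>
      rcases hu with rfl | rfl | rfl
      · exact ha
      · exact hb
      · exact hc
    | one => exact one_pow p
    | mul u w hu hw ihu ihw =>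
      have hcomm : Commute u w := congrArg Subtype.val (mul_comm' (⟨u, hu⟩ : A) ⟨w, hw⟩)
      rw [hcomm.mul_pow, ihu, ihw, one_mul]
    | inv u _ ih => rw [inv_pow, ih, inv_one]
  have hcard : Nat.card A ≤ p ^ 2 := hrank A hAc fun v hv => congrArg Subtype.val (hexp ⟨v, hv⟩)
  set B := Subgroup.closure ({a, b} : Set G) with hB
  have hBA : B ≤ A := Subgroup.closure_mono (by
    rintro u (rfl | rfl)
    · exact Set.mem_insert _ _
    · exact Set.mem_insert_of_mem _ (Set.mem_insert _ _))
  have hBp : IsPGroup p A := fun v => ⟨1, by rw [pow_one]; exact hexp v⟩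
  obtain ⟨k, hk⟩ := (hBp.to_le hBA).exists_card_eq
  have hzb : Subgroup.zpowers b ≤ B := Subgroup.zpowers_le.2 (Subgroup.subset_closure (Set.mem_insert_of_mem _ rfl))
  have hlt : p < Nat.card B := by
    refine lt_of_le_of_ne ?_ fun e => hanb ?_
    · rw [← orderOf_eq_prime hb hb1, ← Nat.card_zpowers]
      exact Subgroup.card_le_of_le hzb
    · rw [Subgroup.eq_of_le_of_card_ge hzb (by rw [← e, Nat.card_zpowers, orderOf_eq_prime hb hb1])]
      exact Subgroup.subset_closure (Set.mem_insert _ _)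
  have hk2 : 2 ≤ k := by
    by_contra h
    have : p ^ k ≤ p ^ 1 := Nat.pow_le_pow_right hp.out.pos (by omega)
    rw [hk] at hlt
    simp at this
    omega
  have hBeq : B = A := Subgroup.eq_of_le_of_card_ge hBA (hcard.trans (by
    rw [hk]; exact Nat.pow_le_pow_right hp.out.pos hk2))
  have hcB : c ∈ B := hBeq.ge (Subgroup.subset_closure (Set.mem_insert_of_mem _ (Set.mem_insert_of_mem _ rfl)))
  have hcomm : Commute a b := hab
  refine Subgroup.closure_induction (p := fun v _ => ∃ i j : ℤ, v = a ^ i * b ^ j) ?_ ⟨0, 0, by simp⟩ ?_ ?_ hcB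
  · rintro u (rfl | rfl)
    · exact ⟨1, 0, by simp⟩
    · exact ⟨0, 1, by simp⟩
  · rintro u v _ _ ⟨i, j, rfl⟩ ⟨k, l, rfl⟩
    refine ⟨i + k, j + l, ?_⟩
    rw [zpow_add, zpow_add, mul_assoc, mul_assoc (a ^ i), ← mul_assoc (b ^ j),
      ← (hcomm.zpow_zpow k j).eq, mul_assoc]
  · rintro u _ ⟨i, j, rfl⟩
    exact ⟨-i, -j, by rw [mul_inv_rev, (hcomm.zpow_zpow i j).inv_inv.symm.eq, zpow_neg, zpow_neg]⟩

/-- A perfect subgroup whose elements of order `p` are not fused in it has order prime to `p`. -/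
theorem not_dvd_of_no_fusion {G : Type u} [Group G] [Finite G] {p : ℕ} [hp : Fact p.Prime] (hp2 : p ≠ 2)
    (L : Subgroup G) (hperf : ⁅L, L⁆ = L)
    (h : ∀ P : Subgroup G, P ≤ L → IsPGroup p P → ∀ y ∈ P, orderOf y = p → ∀ g ∈ L, g * y * g⁻¹ ∈ P →
      g * y * g⁻¹ = y) : ¬ p ∣ Nat.card L := by
  let P : Sylow p L := default
  have hloc : CfsgLib.Fusion.LocallyPNilpotentAction p (P : Subgroup L) := by
    intro Q hQ g hg hcop
    refine CfsgLib.Coprime.thompson_pq_omega hp2 ⊥ (Subgroup.zpowers g) IsPGroup.of_bot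
      (by rwa [Nat.card_zpowers]) bot_le Q (P.2.to_le hQ) bot_le (Subgroup.zpowers_le.2 hg) ?_
      (Subgroup.mem_zpowers g)
    rintro x ⟨hx, -⟩ hxp
    refine Subgroup.mem_centralizer_iff.2 fun t ht => ?_
    obtain ⟨k, rfl⟩ := Subgroup.mem_zpowers_iff.1 ht
    by_cases hx1 : x = 1
    · rw [hx1, mul_one, one_mul]
    have hgx : g * x * g⁻¹ = x := Subtype.ext (h (Q.map L.subtype) (Subgroup.map_subtype_le Q) ((P.2.to_le hQ).map _)
      x ⟨x, hx, rfl⟩ (by rw [Subgroup.orderOf_coe]; exact orderOf_eq_prime hxp hx1) g g.2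
      ⟨g * x * g⁻¹, (Subgroup.mem_normalizer_iff.1 hg x).1 hx, rfl⟩)
    exact (Commute.zpow_left (mul_inv_eq_iff_eq_mul.1 hgx) k).eq
  intro hd
  have hcomp := CfsgLib.Fusion.hasNormalPComplement_of_locallyPNilpotentAction P hloc
  apply CfsgLib.Fusion.hasNormalPComplement_iff_not_dvd.1 hcomp
  haveI := CfsgLib.Fusion.pResidual_normal (G := L) (p := p)
  suffices htop : Cfsg.pResidual p L = ⊤ by rwa [htop, Subgroup.card_top]
  set K := Cfsg.pResidual p L
  haveI := (CfsgLib.Fusion.isPGroup_quotient_pResidual (p := p) K le_rfl).isNilpotent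
  by_contra hK
  haveI : Nontrivial (L ⧸ K) := (QuotientGroup.nontrivial_iff).2 hK
  have hcomL : commutator L = ⊤ := Subgroup.map_injective L.subtype_injective (by
    rw [Subgroup.map_subtype_commutator, hperf, ← MonoidHom.range_eq_map, Subgroup.range_subtype])
  refine (IsSolvable.commutator_lt_top_of_nontrivial (L ⧸ K)).ne ?_
  rw [commutator_def, ← Subgroup.map_top_of_surjective _ (QuotientGroup.mk'_surjective K), ← Subgroup.map_commutator,
    ← commutator_def, hcomL]

/-- conjugates of an isolated element are isolated -/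
theorem isolated_conj {x : G} (h : Cfsg.IsIsolated x) (c : G) : Cfsg.IsIsolated (c * x * c⁻¹) := by
  intro g hg
  have h1 : Commute x ((c⁻¹ * g * c) * x * (c⁻¹ * g * c)⁻¹) := by
    have := hg.map (MulAut.conj c⁻¹)
    simpa [MulAut.conj_apply, mul_assoc] using this
  calc g * (c * x * c⁻¹) * g⁻¹ = c * ((c⁻¹ * g * c) * x * (c⁻¹ * g * c)⁻¹) * c⁻¹ := by group
    _ = c * x * c⁻¹ := by rw [h _ h1]

theorem center_of_mem_pCore [Finite G] [hp : Fact p.Prime] {x : G} (hiso : Cfsg.IsIsolated x)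
    (hx : x ∈ Cfsg.pCore p G) : x ∈ Subgroup.center G := by
  haveI := CfsgLib.Coprime.pCore_normal' (G := G) p
  refine Subgroup.mem_center_iff.2 fun g => ?_
  have := CfsgLib.Isolated.conj_eq hiso (CfsgLib.Coprime.pCore_isPGroup p) hx
    (Subgroup.Normal.conj_mem inferInstance x hx g)
  exact mul_inv_eq_iff_eq_mul.1 this

theorem exists_conj_mem [Finite G] [hp : Fact p.Prime] {x : G} (hx : orderOf x = p) (T : Sylow p G) :
    ∃ c : G, c * x * c⁻¹ ∈ (T : Subgroup G) := by
  obtain ⟨T₀, hT₀⟩ := (IsPGroup.of_card (G := Subgroup.zpowers x) (p := p) (n := 1) (by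
    rw [Nat.card_zpowers, hx, pow_one])).exists_le_sylow
  obtain ⟨c, rfl⟩ := MulAction.exists_smul_eq G T₀ T
  exact ⟨c, x, hT₀ (Subgroup.mem_zpowers x), rfl⟩

/-- In the presence of a `p`-core there is no component. -/
theorem no_component [Finite G] [hp : Fact p.Prime] (hp2 : p ≠ 2) (hrank : Cfsg.PRankLE p 2 G)
    (hcore : Cfsg.pPrimeCore p G = ⊥) {x : G} (hx : orderOf x = p) (hiso : Cfsg.IsIsolated x)
    (hnc : x ∉ Subgroup.center G) (hP : Cfsg.pCore p G ≠ ⊥) (L : Subgroup G) : ¬ Cfsg.IsComponent L := by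
  intro hL
  haveI := CfsgLib.Coprime.pCore_normal' (G := G) p
  have hLne : L ≠ ⊥ := fun e => CfsgLib.Coprime.not_isSolvable_of_isComponent hL (by subst e; infer_instance)
  refine not_dvd_of_no_fusion hp2 L (CfsgLib.Coprime.commutator_self_of_isComponent hL) ?_ ?_
  · intro P hPL hPp y hy hyo g hg hgy
    obtain ⟨T, hT⟩ := hPp.exists_le_sylow
    obtain ⟨c, hc⟩ := exists_conj_mem hx T
    set x' := c * x * c⁻¹ with hx'
    have hx'o : orderOf x' = p := by rw [← hx]; exact MulEquiv.orderOf_eq (MulAut.conj c) x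
    have hiso' := isolated_conj hiso c
    obtain ⟨⟨z, hzP⟩, hz⟩ := exists_prime_orderOf_dvd_card' (G := Cfsg.pCore p G) p
      (CfsgLib.PEmb.dvd_card_of_ne_bot (CfsgLib.Coprime.pCore_isPGroup p) hP)
    rw [Subgroup.orderOf_mk] at hz
    have hzT : z ∈ (T : Subgroup G) := CfsgLib.PGroup.pCore_le_sylow T hzP
    have hLO : ⁅L, Cfsg.pCore p G⁆ = ⊥ := by
      haveI := (CfsgLib.Coprime.pCore_isPGroup (G := G) p).isNilpotent
      exact CfsgLib.Coprime.component_commutator_solvable_eq_bot hL inferInstance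
        ((Subgroup.normalizer_eq_top_iff.2 inferInstance).ge.trans' le_top)
    have hcz : ∀ u ∈ L, u * z = z * u := fun u hu => commutatorElement_eq_one_iff_mul_comm.1
      ((Subgroup.eq_bot_iff_forall _).1 hLO _ (Subgroup.commutator_mem_commutator hu hzP))
    have hcx : ∀ u ∈ (T : Subgroup G), u * x' = x' * u := fun u hu =>
      Subgroup.mem_centralizer_singleton_iff.1 (CfsgLib.Isolated.le_centralizer hiso' T.2 hc hu)
    have hpow : ∀ {u : G}, orderOf u = p → u ^ p = 1 := fun {u} e => by rw [← e, pow_orderOf_eq_one]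
    have hnot : x' ∉ Subgroup.zpowers z := fun hm => by
      have h1 : x' ∈ Cfsg.pCore p G := Subgroup.zpowers_le.2 hzP hm
      have h2 := Subgroup.Normal.conj_mem (inferInstance : (Cfsg.pCore p G).Normal) x' h1 c⁻¹
      rw [hx', show c⁻¹ * (c * x * c⁻¹) * c⁻¹⁻¹ = x by group] at h2
      exact hnc (center_of_mem_pCore hiso h2)
    obtain ⟨i, j, hij⟩ := exists_zpow_eq hrank (hpow hx'o) (hpow hz) (hpow hyo)
      (fun e => hp.out.ne_one (by rw [← hz, e, orderOf_one])) (hcx z hzT).symm (hcx y (hT hy)).symm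
      (hcz y (hPL hy)).symm hnot
    have hgz : g * z * g⁻¹ = z := mul_inv_eq_iff_eq_mul.2 (hcz g hg)
    have hconj : g * y * g⁻¹ = (g * x' * g⁻¹) ^ i * z ^ j := by
      conv_lhs => rw [hij]
      rw [show g * (x' ^ i * z ^ j) * g⁻¹ = (g * x' ^ i * g⁻¹) * (g * z ^ j * g⁻¹) by group, ← conj_zpow, ← conj_zpow, hgz]
    rw [hconj]
    conv_rhs => rw [hij]
    by_cases hpi : (p : ℤ) ∣ i
    · obtain ⟨m, rfl⟩ := hpi
      rw [zpow_mul, zpow_natCast, conj_pow, zpow_mul, zpow_natCast, hpow hx'o]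
      simp
    · have hmem : (g * x' * g⁻¹) ^ i ∈ (T : Subgroup G) := by
        have h1 := hT hgy
        rw [hconj] at h1
        exact (Subgroup.mul_mem_cancel_right _ (Subgroup.zpow_mem _ hzT j)).1 h1
      obtain ⟨u, v, huv⟩ := (Int.isCoprime_iff_gcd_eq_one.2 (show Int.gcd i p = 1 by
        rw [Int.gcd_comm]; exact (hp.out.coprime_iff_not_dvd.2 fun h => hpi (Int.natCast_dvd.2 h))) :
        IsCoprime i (p : ℤ))
      have hmem1 : g * x' * g⁻¹ ∈ (T : Subgroup G) := by
        have h2 := Subgroup.zpow_mem _ hmem u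
        rwa [← zpow_mul, mul_comm, show u * i = 1 + -v * p by linarith, zpow_add, zpow_one, mul_comm (-v), zpow_mul, zpow_natCast,
          conj_pow, hpow hx'o, show (g : G) * 1 * g⁻¹ = 1 by group, one_zpow, mul_one] at h2
      rw [CfsgLib.Isolated.conj_eq hiso' T.2 hc hmem1]
  · by_contra hd
    exact hLne (le_bot_iff.1 (hcore ▸ CfsgLib.Coprime.le_pPrimeCore_of_isSubnormal hp.out hL.1
      (hp.out.coprime_iff_not_dvd.2 hd).symm))

/-- For two components, a conjugate of the isolated element lies in the second. -/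
theorem conj_mem_component [Finite G] [hp : Fact p.Prime] (hp2 : p ≠ 2) (hrank : Cfsg.PRankLE p 2 G)
    {x : G} (hx : orderOf x = p) (hiso : Cfsg.IsIsolated x) (L M : Subgroup G)
    (hperf : ⁅L, L⁆ = L) (hpL : p ∣ Nat.card L) (hpM : p ∣ Nat.card M) (hLM : ⁅L, M⁆ = ⊥) (hdis : L ⊓ M = ⊥) :
    ∃ c : G, c * x * c⁻¹ ∈ M := by
  by_contra hno
  push Not at hno
  refine not_dvd_of_no_fusion hp2 L hperf ?_ hpL
  intro P hPL hPp y hy hyo g hg hgy
  obtain ⟨⟨z, hzM⟩, hz⟩ := exists_prime_orderOf_dvd_card' (G := M) p hpM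
  rw [Subgroup.orderOf_mk] at hz
  have hcz : ∀ u ∈ L, u * z = z * u := fun u hu => commutatorElement_eq_one_iff_mul_comm.1
    ((Subgroup.eq_bot_iff_forall _).1 hLM _ (Subgroup.commutator_mem_commutator hu hzM))
  have hzp : IsPGroup p (Subgroup.zpowers z) := IsPGroup.of_card (n := 1) (by rw [Nat.card_zpowers, hz, pow_one])
  have hPz : IsPGroup p ↥(P ⊔ Subgroup.zpowers z) := hPp.to_sup_of_normal_right' hzp (fun u hu => by
    refine Subgroup.centralizer_le_normalizer _ ?_
    rw [Subgroup.zpowers_eq_closure, Subgroup.centralizer_closure]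
    exact Subgroup.mem_centralizer_singleton_iff.2 (hcz u (hPL hu)))
  obtain ⟨T, hT⟩ := hPz.exists_le_sylow
  have hzT : z ∈ (T : Subgroup G) := hT (Subgroup.mem_sup_right (Subgroup.mem_zpowers z))
  have hyT : y ∈ (T : Subgroup G) := hT (Subgroup.mem_sup_left hy)
  obtain ⟨c, hc⟩ := exists_conj_mem hx T
  set x' := c * x * c⁻¹ with hx'
  have hx'o : orderOf x' = p := by rw [← hx]; exact MulEquiv.orderOf_eq (MulAut.conj c) x
  have hiso' := isolated_conj hiso c
  have hcx : ∀ u ∈ (T : Subgroup G), u * x' = x' * u := fun u hu =>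
    Subgroup.mem_centralizer_singleton_iff.1 (CfsgLib.Isolated.le_centralizer hiso' T.2 hc hu)
  have hpow : ∀ {u : G}, orderOf u = p → u ^ p = 1 := fun {u} e => by rw [← e, pow_orderOf_eq_one]
  have hnot : y ∉ Subgroup.zpowers z := fun hm => by
    have h1 : y ∈ L ⊓ M := ⟨hPL hy, Subgroup.zpowers_le.2 hzM hm⟩
    rw [hdis, Subgroup.mem_bot] at h1
    exact hp.out.ne_one (by rw [← hyo, h1, orderOf_one])
  obtain ⟨i, j, hij⟩ := exists_zpow_eq hrank (hpow hyo) (hpow hz) (hpow hx'o)
    (fun e => hp.out.ne_one (by rw [← hz, e, orderOf_one])) (hcz y (hPL hy)) (hcx y hyT)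
    (hcx z hzT) hnot
  have hpi : ¬ (p : ℤ) ∣ i := by
    rintro ⟨m, rfl⟩
    refine hno c ?_
    show x' ∈ M
    rw [hij, zpow_mul, zpow_natCast, hpow hyo, one_zpow, one_mul]
    exact Subgroup.zpow_mem _ hzM j
  have hgz : g * z * g⁻¹ = z := mul_inv_eq_iff_eq_mul.2 (hcz g hg)
  have hconj : g * x' * g⁻¹ = (g * y * g⁻¹) ^ i * z ^ j := by
    conv_lhs => rw [hij]
    rw [show g * (y ^ i * z ^ j) * g⁻¹ = (g * y ^ i * g⁻¹) * (g * z ^ j * g⁻¹) by group, ← conj_zpow, ← conj_zpow, hgz]
  have hmem : g * x' * g⁻¹ ∈ (T : Subgroup G) := by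
    rw [hconj]
    exact Subgroup.mul_mem _ (Subgroup.zpow_mem _ (hT (Subgroup.mem_sup_left hgy)) i) (Subgroup.zpow_mem _ hzT j)
  have hfix := CfsgLib.Isolated.conj_eq hiso' T.2 hc hmem
  rw [hconj] at hfix
  replace hfix : (g * y * g⁻¹) ^ i * z ^ j = y ^ i * z ^ j := hfix.trans hij
  have h1 : (g * y * g⁻¹) ^ i = y ^ i := mul_right_cancel hfix
  obtain ⟨u, v, huv⟩ := (Int.isCoprime_iff_gcd_eq_one.2 (show Int.gcd i p = 1 by
    rw [Int.gcd_comm]; exact (hp.out.coprime_iff_not_dvd.2 fun h => hpi (Int.natCast_dvd.2 h))) :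
    IsCoprime i (p : ℤ))
  have h2 := congrArg (fun w => w ^ u) h1
  have e : ∀ w : G, w ^ p = 1 → (w ^ i) ^ u = w := fun w hw => by
    rw [← zpow_mul, mul_comm, show u * i = 1 + -v * p by linarith, zpow_add, zpow_one, mul_comm (-v), zpow_mul,
      zpow_natCast, hw, one_zpow, mul_one]
  replace h2 : ((g * y * g⁻¹) ^ i) ^ u = (y ^ i) ^ u := h2
  rwa [e _ (by rw [conj_pow, hpow hyo]; group), e _ (hpow hyo)] at h2



/-- Let G be a finite group and p an odd prime with O_{p'}(G) = 1. Suppose that G has p-rank at most 2 (no elementary abelian subgroup of order p³) and that some element x of order p is isolated in G (no G-conjugate of x other than x commutes with x) and not central. Then the generalized Fitting subgroup F*(G) is a non-abelian simple group. Since O_{p'}(G) = 1, such an x is not central modulo O_{p'}(G): the hypotheses describe a counterexample to the Z*_p statement in p-rank at most 2. -/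
theorem result {G : Type*} [Group G] [Finite G] {p : ℕ} [Fact p.Prime] (hp : p ≠ 2) (hcore : Cfsg.pPrimeCore p G = ⊥)
    (hrank : Cfsg.PRankLE p 2 G) (x : G) (hx : orderOf x = p) (hiso : Cfsg.IsIsolated x) (hnc : x ∉ Subgroup.center G) :
    IsSimpleGroup ↥(Cfsg.generalizedFittingSubgroup G) ∧ ¬ IsMulCommutative ↥(Cfsg.generalizedFittingSubgroup G) := by
  classical
  have hpi : ∀ {L : Subgroup G}, Cfsg.IsComponent L → p ∣ Nat.card L := fun {L} hL => by
    by_contra hd
    refine CfsgLib.Coprime.not_isSolvable_of_isComponent hL ?_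
    have hb := le_bot_iff.1 (hcore ▸ CfsgLib.Coprime.le_pPrimeCore_of_isSubnormal (Fact.out : p.Prime) hL.1
      ((Fact.out : p.Prime).coprime_iff_not_dvd.2 hd).symm)
    subst hb
    infer_instance
  have hfit : Cfsg.fittingSubgroup G = Cfsg.pCore p G := by
    refine le_antisymm ?_ (CfsgLib.Coprime.pCore_le_fitting p)
    rw [CfsgLib.Coprime.fitting_eq_iSup_pCore]
    refine iSup_le fun q => ?_
    haveI : Fact (q : ℕ).Prime := ⟨q.2⟩
    by_cases hq : (q : ℕ) = p
    · rw [hq]
    · haveI := CfsgLib.Coprime.pCore_normal' (G := G) (q : ℕ)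
      refine le_trans ?_ (hcore.le.trans bot_le)
      obtain ⟨k, hk⟩ := (CfsgLib.Coprime.pCore_isPGroup (G := G) (q : ℕ)).exists_card_eq
      exact CfsgLib.Coprime.le_pPrimeCore (by rw [hk]; exact Nat.Coprime.pow_left k ((Nat.coprime_primes q.2 (Fact.out : p.Prime)).2 hq))
  by_cases hex : ∃ L : Subgroup G, Cfsg.IsComponent L
  · obtain ⟨L, hL⟩ := hex
    have hO : Cfsg.pCore p G = ⊥ := by_contra fun h => no_component hp hrank hcore hx hiso hnc h L hL
    rw [hO] at hfit
    have hdis : ∀ {A B : Subgroup G}, Cfsg.IsComponent A → Cfsg.IsComponent B → A ≠ B → A ⊓ B = ⊥ := by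
      intro A B hA hB hne
      rw [← le_bot_iff, ← hfit]
      refine CfsgLib.Coprime.le_fitting_of_isSubnormal (hA.1.inf hB.1) ?_
      have hc := CfsgLib.Coprime.components_commute hA hB hne
      have hab : ∀ u v : ↥(A ⊓ B), u * v = v * u := fun u v => Subtype.ext <| by
        exact commutatorElement_eq_one_iff_mul_comm.1
          ((Subgroup.eq_bot_iff_forall _).1 hc _ (Subgroup.commutator_mem_commutator u.2.1 v.2.2))
      letI : CommGroup ↥(A ⊓ B) := { (inferInstance : Group ↥(A ⊓ B)) with mul_comm := hab }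
      exact CommGroup.isNilpotent
    have huniq : ∀ M : Subgroup G, Cfsg.IsComponent M → M = L := by
      intro M hM
      by_contra hne
      obtain ⟨c, hc⟩ := conj_mem_component hp hrank hx hiso L M (CfsgLib.Coprime.commutator_self_of_isComponent hL)
        (hpi hL) (hpi hM) (CfsgLib.Coprime.components_commute hL hM (Ne.symm hne)) (hdis hL hM (Ne.symm hne))
      obtain ⟨d, hd⟩ := conj_mem_component hp hrank hx hiso M L (CfsgLib.Coprime.commutator_self_of_isComponent hM)
        (hpi hM) (hpi hL) (CfsgLib.Coprime.components_commute hM hL hne) (hdis hM hL hne)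
      have hcd : Commute (c * x * c⁻¹) (d * x * d⁻¹) := commutatorElement_eq_one_iff_mul_comm.1
        ((Subgroup.eq_bot_iff_forall _).1 (CfsgLib.Coprime.components_commute hM hL hne) _
          (Subgroup.commutator_mem_commutator hc hd))
      have h1 := isolated_conj hiso c (d * c⁻¹)
        (by rwa [show d * c⁻¹ * (c * x * c⁻¹) * (d * c⁻¹)⁻¹ = d * x * d⁻¹ by group])
      rw [show d * c⁻¹ * (c * x * c⁻¹) * (d * c⁻¹)⁻¹ = d * x * d⁻¹ by group] at h1
      have h2 : c * x * c⁻¹ ∈ M ⊓ L := ⟨hc, h1 ▸ hd⟩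
      rw [hdis hM hL hne, Subgroup.mem_bot, conj_eq_one_iff] at h2
      rw [h2, orderOf_one] at hx
      exact (Fact.out : p.Prime).ne_one hx.symm
    have hF : Cfsg.generalizedFittingSubgroup G = L := by
      refine le_antisymm (sup_le (sSup_le fun M hM => (huniq M hM).le) (hfit.le.trans bot_le)) ?_
      exact (CfsgLib.Coprime.component_le_layer hL).trans le_sup_left
    rw [hF]
    have hZ : Subgroup.center L = ⊥ := by
      apply Subgroup.map_injective L.subtype_injective
      rw [Subgroup.map_bot, ← le_bot_iff, ← hfit]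
      refine CfsgLib.Coprime.le_fitting_of_isSubnormal
        ((inferInstance : (Subgroup.center L).Normal).isSubnormal.trans' hL.1) ?_
      have hab : ∀ u v : ↥((Subgroup.center L).map L.subtype), u * v = v * u := fun u v => by
        obtain ⟨_, u, hu, rfl⟩ := u
        obtain ⟨_, v, hv, rfl⟩ := v
        exact Subtype.ext (congrArg Subtype.val (Subgroup.mem_center_iff.1 hv u) :)
      letI : CommGroup ↥((Subgroup.center L).map L.subtype) :=
        { (inferInstance : Group ↥((Subgroup.center L).map L.subtype)) with mul_comm := hab }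
      exact CommGroup.isNilpotent
    haveI := hL.2.2
    refine ⟨?_, fun hcomm => ?_⟩
    · exact ((QuotientGroup.quotientMulEquivOfEq hZ).trans QuotientGroup.quotientBot).symm.isSimpleGroup
    · exact CfsgLib.Coprime.not_isSolvable_of_isComponent hL (CfsgLib.Coprime.isSolvable_of_isMulCommutative hcomm)
  · exfalso
    push Not at hex
    have hlay : Cfsg.layer G = ⊥ := le_bot_iff.1 (sSup_le fun M hM => absurd hM (hex M))
    have hC := CfsgLib.Coprime.centralizer_fitting_le_of_layer_eq_bot hlay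
    rw [hfit] at hC
    obtain ⟨T, hT⟩ := (IsPGroup.of_card (G := Subgroup.zpowers x) (p := p) (n := 1) (by
      rw [Nat.card_zpowers, hx, pow_one])).exists_le_sylow
    refine hnc (center_of_mem_pCore (p := p) hiso (hC (Subgroup.mem_centralizer_iff.2 fun u hu => ?_)))
    exact Subgroup.mem_centralizer_singleton_iff.1
      (CfsgLib.Isolated.le_centralizer hiso T.2 (hT (Subgroup.mem_zpowers x)) (CfsgLib.PGroup.pCore_le_sylow T hu))

end Cfsg.Agent.S3049
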