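import Cfsg.Statements.S3050
import Cfsg.Agent.Lib.SLTwoFpf.Group
-- import your own Cfsg.Agent.* helpers here

set_option autoImplicit false
open Cfsg

namespace Cfsg.Agent.S3050

/-- Let G be a finite group with a normal 2-subgroup Q such that G/Q is isomorphic to SL(2, 2ⁿ) with n ≥ 2, and suppose some element of G of order 3 fixes no nonidentity element of Q under conjugation. Then Q is elementary abelian and is the direct product of normal subgroups of G on each of which G acts as SL(2, 2ⁿ) acts on its natural two-dimensional module (a Galois twist of the natural action allowed). -/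
theorem result {G : Type*} [Group G] [Finite G]
    (Q : Subgroup G) [Q.Normal] (hQ : IsPGroup 2 ↥Q) (n : ℕ) (hn : 2 ≤ n)
    (K : Type*) [Field K] [Fintype K] (hK : Fintype.card K = 2 ^ n)
    (e : G ⧸ Q ≃* Matrix.SpecialLinearGroup (Fin 2) K)
    (x : G) (hx : orderOf x = 3) (hfpf : ∀ q ∈ Q, x * q * x⁻¹ = q → q = 1) :
    Cfsg.IsElementaryAbelian 2 Q ∧
      ∃ (k : ℕ) (V : Fin k → Subgroup G), (∀ i, V i ≤ Q ∧ (V i).Normal ∧
        Cfsg.ActsAsSL2OnSection K ⊤ ⊤ (V i) ⊥) ∧ iSupIndep V ∧ ⨆ i, V i = Q := by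
  classical
  haveI : CharP K 2 := charP_of_card_eq_prime_pow (f := n) hK
  have hK' : ∃ c : K, c ≠ 0 ∧ c ≠ 1 := by
    by_contra hno
    push Not at hno
    have hsub : (Finset.univ : Finset K) ⊆ {0, 1} := fun c _ => by
      rcases eq_or_ne c 0 with h | h <;> simp [h, hno c]
    have h1 := (Finset.card_le_card hsub).trans Finset.card_le_two
    rw [Finset.card_univ, hK] at h1
    have : 2 ^ 2 ≤ 2 ^ n := Nat.pow_le_pow_right two_pos hn
    omega
  have hF := CfsgLib.SLTwoFpf.fpf_of_element Q hQ e x hx hfpf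
  have hcomm := CfsgLib.SLTwoFpf.commute_of_fpf hK' (Nat.card Q) Q le_rfl hQ e hF
  obtain ⟨k, φ, hφ⟩ := CfsgLib.SLTwoFpf.natural_of_centralized Q hQ e hF hK' Q le_rfl
    (fun a ha => Subgroup.mem_centralizer_iff.2 fun b hb => hcomm b hb a ha)
  refine ⟨⟨⟨⟨fun a b => Subtype.ext (hcomm a a.2 b b.2)⟩⟩, fun q hq => by
    rw [pow_two]; exact CfsgLib.SLTwoFpf.sq_one_of_natural φ q hq⟩, ?_⟩
  obtain ⟨v, hv⟩ : ∃ v : Fin k → Multiplicative (Fin 2 → K) →* G,
      ∀ i x, v i x = (φ (Multiplicative.ofAdd (Pi.single i (Multiplicative.toAdd x))) : G) :=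
    ⟨fun i => Q.subtype.comp (φ.toMonoidHom.comp
      (AddMonoidHom.toMultiplicative (AddMonoidHom.single (fun _ : Fin k => Fin 2 → K) i))), fun i x => rfl⟩
  have hvinj : ∀ i, Function.Injective (v i) := fun i a b h => by
    rw [hv, hv] at h
    exact Multiplicative.toAdd.injective
      (Pi.single_injective i (Multiplicative.ofAdd.injective (φ.injective (Subtype.ext h))))
  have hconj : ∀ (i : Fin k) (g : G) (a : Multiplicative (Fin 2 → K)),
      g * v i a * g⁻¹ = v i (Multiplicative.ofAdd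
        ((e (QuotientGroup.mk' Q g)).1.mulVec (Multiplicative.toAdd a))) := by
    intro i g a
    rw [hv, hv, ← hφ]
    refine congrArg (fun z => ((φ (Multiplicative.ofAdd z) : Q) : G)) (funext fun j => ?_)
    rcases eq_or_ne j i with rfl | hj <;> simp [CfsgLib.SLTwoFpf.act, *]
  refine ⟨k, fun i => (v i).range, fun i => ⟨?_, ⟨?_⟩, ?_⟩, ?_, ?_⟩
  · rintro _ ⟨a, rfl⟩
    rw [hv]; exact (φ _).2
  · rintro _ ⟨a, rfl⟩ g
    exact ⟨_, (hconj i g a).symm⟩
  · refine ⟨fun g _ => ?_, bot_le, (e.toMonoidHom.comp (QuotientGroup.mk' Q)).comp (⊤ : Subgroup G).subtype,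
      (MonoidHom.ofInjective (hvinj i)).symm.toMonoidHom, ?_, MulEquiv.surjective _, fun u => ?_, fun g u => ?_⟩
    · refine Subgroup.mem_normalizer_iff.2 fun z => ⟨?_, ?_⟩
      · rintro ⟨a, rfl⟩
        exact ⟨_, (hconj i g a).symm⟩
      · rintro ⟨a, ha⟩
        refine ⟨Multiplicative.ofAdd ((e (QuotientGroup.mk' Q g⁻¹)).1.mulVec (Multiplicative.toAdd a)), ?_⟩
        rw [← hconj, ha]
        group
    · refine MonoidHom.range_eq_top.2 fun l => ?_
      obtain ⟨g, hg⟩ := QuotientGroup.mk'_surjective Q (e.symm l)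
      refine ⟨⟨g, trivial⟩, ?_⟩
      show e (QuotientGroup.mk' Q g) = l
      rw [hg, MulEquiv.apply_symm_apply]
    · rw [Subgroup.mem_bot]
      obtain ⟨a, rfl⟩ := (MonoidHom.ofInjective (hvinj i)).surjective u
      show (MonoidHom.ofInjective (hvinj i)).symm _ = 1 ↔ v i a = 1
      rw [MulEquiv.symm_apply_apply, map_eq_one_iff _ (hvinj i)]
    · obtain ⟨a, rfl⟩ := (MonoidHom.ofInjective (hvinj i)).surjective u
      refine ⟨MonoidHom.ofInjective (hvinj i) (Multiplicative.ofAdd
        ((e (QuotientGroup.mk' Q (g : G))).1.mulVec (Multiplicative.toAdd a))), ?_, ?_⟩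
      · exact (hconj i g a).symm
      · show Multiplicative.toAdd ((MonoidHom.ofInjective (hvinj i)).symm _) =
          ((e (QuotientGroup.mk' Q (g : G))).1).mulVec
            (Multiplicative.toAdd ((MonoidHom.ofInjective (hvinj i)).symm _))
        rw [MulEquiv.symm_apply_apply, MulEquiv.symm_apply_apply]
        rfl
  · intro i
    rw [disjoint_iff_inf_le]
    intro z hz
    obtain ⟨⟨a, rfl⟩, hz2⟩ := Subgroup.mem_inf.1 hz
    obtain ⟨W, hW⟩ : ∃ W : Subgroup G, W = ((AddMonoidHom.toMultiplicative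
        (Pi.evalAddMonoidHom (fun _ : Fin k => Fin 2 → K) i)).ker.map φ.toMonoidHom).map Q.subtype := ⟨_, rfl⟩
    have hle : (⨆ (j) (_ : j ≠ i), (v j).range) ≤ W := by
      refine iSup₂_le fun j hj => ?_
      rintro _ ⟨b, rfl⟩
      rw [hW]
      refine ⟨φ (Multiplicative.ofAdd (Pi.single j (Multiplicative.toAdd b))),
        ⟨_, ?_, rfl⟩, (hv j b).symm⟩
      show Multiplicative.ofAdd ((Pi.single j (Multiplicative.toAdd b) : Fin k → Fin 2 → K) i) = 1
      simp [Ne.symm hj]
    have hzW := hle hz2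
    rw [hW] at hzW
    obtain ⟨_, ⟨f, hf, rfl⟩, hfe⟩ := hzW
    rw [hv] at hfe
    have hfa := φ.injective (Subtype.ext hfe)
    rw [hfa] at hf
    have ha : a = 1 := by
      have h' : Multiplicative.ofAdd
          ((Pi.single i (Multiplicative.toAdd a) : Fin k → Fin 2 → K) i) = 1 := hf
      simpa using h'
    rw [Subgroup.mem_bot, ha, map_one]
  · refine le_antisymm (iSup_le fun i => ?_) fun q hq => ?_
    · rintro _ ⟨a, rfl⟩
      rw [hv]; exact (φ _).2
    · obtain ⟨f, hf⟩ := φ.surjective ⟨q, hq⟩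
      obtain ⟨W, hW⟩ : ∃ W : Subgroup (Multiplicative (Fin k → Fin 2 → K)),
          W = (⨆ i, (v i).range).comap (Q.subtype.comp φ.toMonoidHom) := ⟨_, rfl⟩
      have hall : ∀ g : Fin k → Fin 2 → K, Multiplicative.ofAdd g ∈ W := by
        intro g
        rw [← Finset.univ_sum_single g, ofAdd_sum]
        refine Subgroup.prod_mem _ fun i _ => ?_
        rw [hW, Subgroup.mem_comap]
        exact Subgroup.mem_iSup_of_mem i ⟨Multiplicative.ofAdd (g i), hv i _⟩
      have h := hall (Multiplicative.toAdd f)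
      rw [hW, Subgroup.mem_comap] at h
      have h' : ((φ f : Q) : G) ∈ ⨆ i, (v i).range := h
      rwa [hf] at h'

end Cfsg.Agent.S3050
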