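import Cfsg.Statements.S3053
import Cfsg.Agent.Lib.Fusion.ZJElementary
import Cfsg.Agent.Lib.Fusion.Sylow

set_option autoImplicit false
open Cfsg

namespace Cfsg.Agent.S3053

/-- Let p be an odd prime and G a finite group with a Sylow p-subgroup P that is extraspecial of order p³ and exponent p². Then the centre of P is strongly closed in P with respect to G: a G-conjugate of an element of Z(P) that lies in P already lies in Z(P). In particular a nontrivial central element of P is conjugate in G to no noncentral element of P. -/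
theorem result {G : Type*} [Group G] [Finite G]
    {p : ℕ} [Fact p.Prime] (hp : p ≠ 2) (P : Sylow p G) (hE : Cfsg.IsExtraspecial p ↥P)
    (hcard : Nat.card P = p ^ 3) (hexp : Monoid.exponent ↥P = p ^ 2) :
    Cfsg.IsStronglyClosed ((Subgroup.center ↥P).map (P : Subgroup G).subtype) (P : Subgroup G) := by
  classical
  obtain ⟨⟨-, -, hcomm⟩, hZcard⟩ := hE
  have hpp : p.Prime := Fact.out
  set T : Subgroup G := (P : Subgroup G) with hT
  set Z : Subgroup G := (Subgroup.center ↥P).map T.subtype with hZ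
  have hZT : Z ≤ T := Subgroup.map_subtype_le _
  have hZc : Nat.card Z = p := by rw [hZ, Subgroup.card_map_of_injective T.subtype_injective]; exact hZcard
  haveI hTfin : Finite T := inferInstance
  have hZcen : ∀ v ∈ Z, ∀ u ∈ T, u * v = v * u := by
    rintro _ ⟨v, hv, rfl⟩ u hu
    exact congrArg Subtype.val (Subgroup.mem_center_iff.1 hv ⟨u, hu⟩)
  have hcomZ : ∀ u ∈ T, ∀ v ∈ T, u * v * u⁻¹ * v⁻¹ ∈ Z := fun u hu v hv =>
    ⟨⟨u, hu⟩ * ⟨v, hv⟩ * ⟨u, hu⟩⁻¹ * ⟨v, hv⟩⁻¹, by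
      rw [← commutatorElement_def]
      exact hcomm.le (Subgroup.commutator_mem_commutator (Subgroup.mem_top _) (Subgroup.mem_top _)), rfl⟩
  have hZp : ∀ v ∈ Z, v ^ p = 1 := fun v hv => congrArg Subtype.val
    (show (⟨v, hv⟩ : Z) ^ p = 1 by rw [← hZc]; exact pow_card_eq_one')
  -- the `p`-th power map
  have hpow : ∀ u ∈ T, ∀ v ∈ T, (u * v) ^ p = u ^ p * v ^ p := by
    intro u hu v hv
    have hc := hcomZ v hv u hu
    exact CfsgLib.Fusion.mul_pow_eq_of_central_commutator hpp hp (c := v * u * v⁻¹ * u⁻¹) (by group)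
      (hZcen _ hc u hu).symm (hZcen _ hc v hv).symm (hZp _ hc)
  have hpowZ : ∀ u ∈ T, u ^ p ∈ Z := by
    intro u hu
    refine ⟨⟨u, hu⟩ ^ p, Subgroup.mem_center_iff.2 fun v => Subtype.ext ?_, rfl⟩
    show (v : G) * u ^ p = u ^ p * v
    have hw := hcomZ v v.2 u hu
    have h1 : ((v : G) * u * (v : G)⁻¹) ^ p = u ^ p := by
      rw [show (v : G) * u * (v : G)⁻¹ = ((v : G) * u * (v : G)⁻¹ * u⁻¹) * u by group,
        hpow _ (hZT hw) u hu, hZp _ hw, one_mul]
    rw [conj_pow] at h1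
    exact mul_inv_eq_iff_eq_mul.1 h1
  let K : Subgroup G :=
    { carrier := {u | u ∈ T ∧ u ^ p = 1}
      one_mem' := ⟨T.one_mem, one_pow p⟩
      mul_mem' := fun {a b} ha hb => ⟨T.mul_mem ha.1 hb.1, by rw [hpow a ha.1 b hb.1, ha.2, hb.2, one_mul]⟩
      inv_mem' := fun {a} ha => ⟨T.inv_mem ha.1, by rw [inv_pow, ha.2, inv_one]⟩ }
  have hKT : K ≤ T := fun u hu => hu.1
  obtain ⟨w0, hw0T, hw0⟩ : ∃ u ∈ T, u ^ p ≠ 1 := by
    by_contra h
    push Not at h
    have h1 : Monoid.exponent ↥P ∣ p := Monoid.exponent_dvd_of_forall_pow_eq_one fun u => Subtype.ext (h u u.2)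
    rw [hexp] at h1
    have := Nat.le_of_dvd hpp.pos h1
    have h2 := hpp.two_le
    nlinarith
  have hKc : Nat.card K < p ^ 3 := by
    rw [← hcard]
    refine lt_of_not_ge fun h => hw0 ?_
    have h1 : K = T := Subgroup.eq_of_le_of_card_ge hKT h
    exact (h1.ge hw0T : w0 ∈ K).2
  have hsub2 : ∀ H : Subgroup G, H ≤ T → Nat.card H < p ^ 3 → Nat.card H ≤ p ^ 2 := by
    intro H hH hlt
    have h1 : Nat.card H ∣ p ^ 3 := hcard ▸ Subgroup.card_dvd_of_le hH
    obtain ⟨k, -, hk⟩ := (Nat.dvd_prime_pow hpp).1 h1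
    rw [hk] at hlt ⊢
    have := (Nat.pow_lt_pow_iff_right hpp.one_lt).1 hlt
    exact Nat.pow_le_pow_right hpp.pos (by omega)
  refine ⟨hZT, fun z hz g hgz => ?_⟩
  show g * z * g⁻¹ ∈ Z
  by_contra hyZ
  set y := g * z * g⁻¹ with hy
  have hy1 : y ≠ 1 := fun e => hyZ (by rw [e]; exact Z.one_mem)
  have hz1 : z ≠ 1 := fun e => hy1 (by rw [hy, e, mul_one, mul_inv_cancel])
  have hyp : y ^ p = 1 := by rw [hy, conj_pow, hZp z hz, mul_one, mul_inv_cancel]
  have hzo : orderOf z = p := orderOf_eq_prime (hZp z hz) hz1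
  have hZz : Subgroup.zpowers z = Z := Subgroup.eq_of_le_of_card_ge (Subgroup.zpowers_le.2 hz) (by rw [hZc, Nat.card_zpowers, hzo])
  set E := Z ⊔ Subgroup.zpowers y with hE'
  have hEK : E ≤ K := sup_le (fun v hv => ⟨hZT hv, hZp v hv⟩) (Subgroup.zpowers_le.2 ⟨hgz, hyp⟩)
  have hET : E ≤ T := hEK.trans hKT
  have hZE : Z ≤ E := le_sup_left
  have hzE : z ∈ E := hZE hz
  have hyE : y ∈ E := Subgroup.mem_sup_right (Subgroup.mem_zpowers y)
  have hEc : p ^ 2 ≤ Nat.card E := by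
    have hlt : Nat.card Z < Nat.card E := lt_of_not_ge fun h => hyZ (by rw [Subgroup.eq_of_le_of_card_ge hZE h]; exact hyE)
    have h1 : Nat.card E ∣ p ^ 3 := hcard ▸ Subgroup.card_dvd_of_le hET
    obtain ⟨k, -, hk⟩ := (Nat.dvd_prime_pow hpp).1 h1
    rw [hZc, hk] at hlt
    rw [hk]
    have : 1 < k := (Nat.pow_lt_pow_iff_right hpp.one_lt).1 (by rwa [pow_one])
    exact Nat.pow_le_pow_right hpp.pos this
  have hKE : K = E := (Subgroup.eq_of_le_of_card_ge hEK ((hsub2 K hKT hKc).trans hEc)).symm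
  have hord : ∀ u ∈ T, u ^ p = 1 → u ∈ E := fun u hu h => hKE.le ⟨hu, h⟩
  have hEZ : ∀ e ∈ E, ∀ f ∈ E, e * f = f * e := by
    have h1 : IsMulCommutative E := by
      refine Subgroup.le_centralizer_iff_isMulCommutative.1 (sup_le ?_ ?_)
      · exact fun v hv => Subgroup.mem_centralizer_iff.2 fun u hu => hZcen v hv u (hET hu)
      · rw [Subgroup.zpowers_le, Subgroup.mem_centralizer_iff]
        intro u hu
        obtain ⟨a, ha, b, ⟨i, rfl⟩, rfl⟩ := (Subgroup.coe_mul_of_right_le_normalizer_left Z (Subgroup.zpowers y)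
          (fun b hb => Subgroup.mem_normalizer_iff.2 fun v => ⟨fun hv => by
            rw [hZcen v hv b (hET (Subgroup.mem_sup_right hb)), mul_inv_cancel_right]; exact hv, fun hv => by
            have h2 := hZcen _ hv b (hET (Subgroup.mem_sup_right hb))
            have : b * v * b⁻¹ = v := by
              calc b * v * b⁻¹ = b⁻¹ * (b * (b * v * b⁻¹)) := by group
                _ = b⁻¹ * ((b * v * b⁻¹) * b) := by rw [h2]
                _ = v := by group
            rwa [this] at hv⟩)).le hu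
        show a * y ^ i * y = y * (a * y ^ i)
        rw [← mul_assoc y, hZcen a ha y hgz, mul_assoc, mul_assoc, ← zpow_add_one, ← zpow_one_add, add_comm]
    intro e he f hf
    exact congrArg Subtype.val (h1.is_comm.comm ⟨e, he⟩ ⟨f, hf⟩)
  have hEn : ∀ u ∈ T, ∀ e ∈ E, u * e * u⁻¹ ∈ E := fun u hu e he => by
    rw [show u * e * u⁻¹ = (u * e * u⁻¹ * e⁻¹) * e by group]
    exact E.mul_mem (hZE (hcomZ u hu e (hET he))) he
  -- `E` is self-centralizing in `T`
  have hcentT : ∀ u ∈ T, (∀ e ∈ E, u * e = e * u) → u ∈ E := by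
    let CT : Subgroup G := T ⊓ Subgroup.centralizer ({y} : Set G)
    have hEC : E ≤ CT := fun e he => ⟨hET he, Subgroup.mem_centralizer_singleton_iff.2 (hEZ e he y hyE)⟩
    have hlt : Nat.card CT < p ^ 3 := by
      rw [← hcard]
      refine lt_of_not_ge fun h => hyZ ?_
      have h1 : CT = T := Subgroup.eq_of_le_of_card_ge inf_le_left h
      exact ⟨⟨y, hgz⟩, Subgroup.mem_center_iff.2 fun u => Subtype.ext
        (Subgroup.mem_centralizer_singleton_iff.1 (h1.ge u.2 : (u : G) ∈ CT).2), rfl⟩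
    have h2 : E = CT := Subgroup.eq_of_le_of_card_ge hEC ((hsub2 CT inf_le_left hlt).trans hEc)
    exact fun u hu h => h2.ge ⟨hu, Subgroup.mem_centralizer_singleton_iff.2 (h y hyE)⟩
  -- an element moving `w` onto `z * w`
  have hmove : ∀ w ∈ T, w ∉ Z → ∀ v ∈ Z, ∃ u ∈ T, u * w * u⁻¹ = v * w := by
    intro w hw hwZ v hv
    obtain ⟨u, hu, hne⟩ : ∃ u ∈ T, u * w * u⁻¹ * w⁻¹ ≠ 1 := by
      by_contra h
      push Not at h
      exact hwZ ⟨⟨w, hw⟩, Subgroup.mem_center_iff.2 fun u => Subtype.ext (mul_inv_eq_iff_eq_mul.1 (mul_inv_eq_one.1 (h u u.2))), rfl⟩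
    set a := u * w * u⁻¹ * w⁻¹ with ha
    have haZ : a ∈ Z := hcomZ u hu w hw
    have hgen : Subgroup.zpowers a = Z := Subgroup.eq_of_le_of_card_ge (Subgroup.zpowers_le.2 haZ)
      (by rw [hZc, Nat.card_zpowers, orderOf_eq_prime (hZp a haZ) hne])
    obtain ⟨k, hk⟩ := mem_powers_iff_mem_zpowers.2 (hgen.ge hv)
    refine ⟨u ^ k, T.pow_mem hu k, ?_⟩
    simp only at hk
    rw [← hk]
    clear hk
    induction k with
    | zero => simp
    | succ k ih =>
      calc u ^ (k + 1) * w * (u ^ (k + 1))⁻¹ = u * (u ^ k * w * (u ^ k)⁻¹) * u⁻¹ := by rw [pow_succ']; group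
        _ = (u * a ^ k) * w * u⁻¹ := by rw [ih]; group
        _ = a ^ k * (u * w * u⁻¹) := by rw [hZcen _ (Z.pow_mem haZ k) u hu]; group
        _ = a ^ (k + 1) * w := by rw [pow_succ, show u * w * u⁻¹ = a * w by rw [ha]; group]; group
  obtain ⟨x, hxT, hxy⟩ := hmove y hgz hyZ z hz
  have hxz : x * z * x⁻¹ = z := by rw [hZcen z hz x hxT, mul_inv_cancel_right]
  -- a Sylow subgroup containing `E` with `y` central
  obtain ⟨h, hh1, hh2⟩ : ∃ h : G, h * z * h⁻¹ = y ∧ E ≤ CfsgLib.Fusion.conjBy h T := by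
    set Cy := Subgroup.centralizer ({y} : Set G)
    have hle : CfsgLib.Fusion.conjBy g T ≤ Cy := by
      rintro _ ⟨u, hu, rfl⟩
      refine Subgroup.mem_centralizer_singleton_iff.2 ?_
      show g * u * g⁻¹ * y = y * (g * u * g⁻¹)
      calc g * u * g⁻¹ * y = g * (u * z) * g⁻¹ := by rw [hy]; group
        _ = g * (z * u) * g⁻¹ := by rw [hZcen z hz u hu]
        _ = y * (g * u * g⁻¹) := by rw [hy]; group
    have hi : ¬ p ∣ (CfsgLib.Fusion.conjBy g T).relIndex Cy := fun hd =>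
      (g • P).not_dvd_index (hd.trans (Subgroup.relIndex_dvd_index_of_le hle))
    obtain ⟨k, hk, hkle⟩ := CfsgLib.Fusion.exists_conj_le_of_not_dvd_relIndex (CfsgLib.Fusion.isPGroup_conjBy g P.2) hle hi
      (P.2.to_le hET) (fun e he => Subgroup.mem_centralizer_singleton_iff.2 (hEZ e he y hyE))
    refine ⟨k⁻¹ * g, ?_, fun e he => CfsgLib.Fusion.mem_conjBy.2 ?_⟩
    · have h1 := Subgroup.mem_centralizer_singleton_iff.1 (Cy.inv_mem hk)
      calc k⁻¹ * g * z * (k⁻¹ * g)⁻¹ = k⁻¹ * y * k := by rw [hy]; group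
        _ = y * k⁻¹ * k := by rw [h1]
        _ = y := by group
    · have h1 := CfsgLib.Fusion.mem_conjBy.1 (hkle (CfsgLib.Fusion.conj_mem_conjBy he))
      convert h1 using 1
      group
  set z' := h⁻¹ * z * h with hz'
  have hz'T : z' ∈ T := CfsgLib.Fusion.mem_conjBy.1 (hh2 hzE)
  have hz'Z : z' ∉ Z := by
    intro hmem
    rw [← hZz] at hmem
    obtain ⟨i, hi⟩ := hmem
    simp only at hi
    refine hyZ ?_
    have h1 : z = y ^ i := by
      rw [← hh1, conj_zpow, hi, hz']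
      group
    have hyo : orderOf y = p := orderOf_eq_prime hyp hy1
    have h2 : Subgroup.zpowers z = Subgroup.zpowers y := Subgroup.eq_of_le_of_card_ge
      (Subgroup.zpowers_le.2 ⟨i, h1.symm⟩) (by rw [Nat.card_zpowers, Nat.card_zpowers, hzo, hyo])
    rw [← hZz, h2]
    exact Subgroup.mem_zpowers y
  obtain ⟨x1, hx1T, hx1⟩ := hmove z' hz'T hz'Z z⁻¹ (Z.inv_mem hz)
  set s := h * x1 * h⁻¹ with hs
  have hsy : s * y * s⁻¹ = y := by
    rw [← hh1, hs]
    calc h * x1 * h⁻¹ * (h * z * h⁻¹) * (h * x1 * h⁻¹)⁻¹ = h * (x1 * z * x1⁻¹) * h⁻¹ := by group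
      _ = h * z * h⁻¹ := by rw [hZcen z hz x1 hx1T, mul_inv_cancel_right]
  have hsz : s * z * s⁻¹ = y⁻¹ * z := by
    rw [hs]
    calc h * x1 * h⁻¹ * z * (h * x1 * h⁻¹)⁻¹ = h * (x1 * z' * x1⁻¹) * h⁻¹ := by rw [hz']; group
      _ = (h * z * h⁻¹)⁻¹ * z := by rw [hx1, hz']; group
      _ = y⁻¹ * z := by rw [hh1]
  -- the inverting element
  have conjc : ∀ a b v : G, a * (b * v * b⁻¹) * a⁻¹ = a * b * v * (a * b)⁻¹ := fun a b v => by group
  have conjm : ∀ a v w : G, a * (v * w) * a⁻¹ = (a * v * a⁻¹) * (a * w * a⁻¹) := fun a v w => by group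
  have conji : ∀ a v : G, a * v⁻¹ * a⁻¹ = (a * v * a⁻¹)⁻¹ := fun a v => by group
  have hzy : z * y = y * z := hEZ z hzE y hyE
  have hw_z : (x * s * x) * z * (x * s * x)⁻¹ = y⁻¹ := by
    rw [← conjc, ← conjc x s, hxz, hsz, conjm, conji, hxy, hxz]
    rw [mul_inv_rev, mul_assoc, inv_mul_cancel, mul_one]
  have hw_y : (x * s * x) * y * (x * s * x)⁻¹ = z := by
    rw [← conjc, ← conjc x s, hxy, conjm s, hsz, hsy, mul_assoc y⁻¹, hzy, inv_mul_cancel_left, hxz]
  set t := (x * s * x) * (x * s * x) with ht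
  have ht_z : t * z * t⁻¹ = z⁻¹ := by rw [ht, ← conjc, hw_z, conji, hw_y]
  have ht_y : t * y * t⁻¹ = y⁻¹ := by rw [ht, ← conjc, hw_y, hw_z]
  have ht_E : ∀ e ∈ E, t * e * t⁻¹ = e⁻¹ := by
    let I : Subgroup G :=
      { carrier := {e | e ∈ E ∧ t * e * t⁻¹ = e⁻¹}
        one_mem' := ⟨E.one_mem, by group⟩
        mul_mem' := fun {a b} ha hb => ⟨E.mul_mem ha.1 hb.1, by
          rw [conjm, ha.2, hb.2, ← mul_inv_rev]
          exact congrArg Inv.inv (hEZ b hb.1 a ha.1)⟩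
        inv_mem' := fun {a} ha => ⟨E.inv_mem ha.1, by rw [conji, ha.2]⟩ }
    have h1 : E ≤ I := sup_le (by rw [← hZz, Subgroup.zpowers_le]; exact ⟨hzE, ht_z⟩)
      (Subgroup.zpowers_le.2 ⟨hyE, ht_y⟩)
    exact fun e he => (h1 he).2
  -- the centralizer of `E`
  set C := Subgroup.centralizer (E : Set G) with hC
  have hEC : E ≤ C := fun e he => Subgroup.mem_centralizer_iff.2 fun f hf => hEZ f hf e he
  have hconjC : ∀ u ∈ T, ∀ v ∈ C, u * v * u⁻¹ ∈ C := by
    intro u hu v hv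
    refine Subgroup.mem_centralizer_iff.2 fun e he => ?_
    have h1 := Subgroup.mem_centralizer_iff.1 hv _ (hEn u⁻¹ (T.inv_mem hu) e he)
    calc e * (u * v * u⁻¹) = u * ((u⁻¹ * e * u⁻¹⁻¹) * v) * u⁻¹ := by group
      _ = u * (v * (u⁻¹ * e * u⁻¹⁻¹)) * u⁻¹ := by rw [h1]
      _ = u * v * u⁻¹ * e := by group
  have hEexp : ∀ e ∈ E, e ^ p = 1 := fun e he => (hEK he).2
  have hpel : ∀ v ∈ C, (∃ k, orderOf v = p ^ k) → v ∈ E := by
    intro v hv ⟨k, hk⟩
    have hvp : IsPGroup p (Subgroup.zpowers v) := IsPGroup.of_card (by rw [Nat.card_zpowers, hk])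
    have hvn : Subgroup.zpowers v ≤ Subgroup.normalizer (E : Set G) :=
      (Subgroup.zpowers_le.2 hv).trans (Subgroup.centralizer_le_normalizer _)
    obtain ⟨Q, hQ⟩ := ((P.2.to_le hET).to_sup_of_normal_left' hvp hvn).exists_le_sylow
    obtain ⟨a, ha⟩ := MulAction.exists_smul_eq G P Q
    have hsh : E ⊔ Subgroup.zpowers v ≤ CfsgLib.Fusion.conjBy a T := hQ.trans (le_of_eq (by rw [← ha]; rfl))
    have hEa : CfsgLib.Fusion.conjBy a⁻¹ E = E := by
      refine Subgroup.eq_of_le_of_card_ge (CfsgLib.Fusion.conjBy_le_iff.2 fun e he => ?_) (CfsgLib.Fusion.card_conjBy _ _).ge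
      rw [inv_inv]
      exact hord _ (CfsgLib.Fusion.mem_conjBy.1 (hsh (Subgroup.mem_sup_left he))) (by
        rw [show a⁻¹ * e * a = a⁻¹ * e * a⁻¹⁻¹ by group, conj_pow, hEexp e he, mul_one, mul_inv_cancel])
    have hva : a⁻¹ * v * a ∈ E := hcentT _ (CfsgLib.Fusion.mem_conjBy.1 (hsh (Subgroup.mem_sup_right (Subgroup.mem_zpowers v)))) fun e he => by
      have he' : a * e * a⁻¹ ∈ E := by
        have := hEa.ge he
        rw [CfsgLib.Fusion.mem_conjBy, inv_inv] at this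
        exact this
      have h1 := Subgroup.mem_centralizer_iff.1 hv _ he'
      calc a⁻¹ * v * a * e = a⁻¹ * (v * (a * e * a⁻¹)) * a := by group
        _ = a⁻¹ * ((a * e * a⁻¹) * v) * a := by rw [h1]
        _ = e * (a⁻¹ * v * a) := by group
    have h3 : a⁻¹ * v * a ∈ CfsgLib.Fusion.conjBy a⁻¹ E := by rw [hEa]; exact hva
    rw [CfsgLib.Fusion.mem_conjBy] at h3
    convert h3 using 1
    group
  have hpGp : IsPGroup p E := P.2.to_le hET
  have hEi : ¬ p ∣ E.relIndex C := by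
    obtain ⟨S, hS⟩ := (hpGp.of_equiv (Subgroup.subgroupOfEquivOfLe hEC).symm).exists_le_sylow
    have hSE : (S : Subgroup C) ≤ E.subgroupOf C := fun v hv => by
      obtain ⟨k, hk⟩ := IsPGroup.iff_orderOf.1 S.2 ⟨v, hv⟩
      exact hpel v v.2 ⟨k, by rw [← hk, Subgroup.orderOf_coe, ← Subgroup.orderOf_coe (⟨v, hv⟩ : (S : Subgroup C))]⟩
    rw [Subgroup.relIndex, ← le_antisymm hSE hS]
    exact S.not_dvd_index
  set N' := (Subgroup.center C).index with hN'
  have hN'p : ¬ p ∣ N' := by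
    refine fun hd => hEi (hd.trans (Subgroup.index_dvd_of_le fun v hv => ?_))
    exact Subgroup.mem_center_iff.2 fun w => Subtype.ext (Subgroup.mem_centralizer_iff.1 w.2 v hv).symm
  set n := Nat.card (Subgroup.center C) with hn
  set n' := ordCompl[p] n with hn'
  set M := N' * n' with hM
  have hMp : ¬ p ∣ M := fun hd => (hpp.dvd_mul.1 hd).elim hN'p (Nat.not_dvd_ordCompl hpp Nat.card_pos.ne')
  have hMmul : ∀ a ∈ C, ∀ b ∈ C, (a * b) ^ M = a ^ M * b ^ M := by
    intro a ha b hb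
    have h1 := congrArg (fun v : Subgroup.center C => ((v : C) : G)) ((MonoidHom.transferCenterPow C).map_mul ⟨a, ha⟩ ⟨b, hb⟩)
    simp only [Subgroup.coe_mul, MonoidHom.transferCenterPow_apply, SubgroupClass.coe_pow] at h1
    rw [hM, pow_mul, pow_mul, pow_mul, h1]
    refine Commute.mul_pow ?_ _
    exact (congrArg Subtype.val (Subgroup.mem_center_iff.1 ((Subgroup.center C).pow_index_mem (⟨a, ha⟩ : C)) (⟨b, hb⟩ ^ N'))).symm
  have hMmem : ∀ a ∈ C, a ^ M ∈ E := by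
    intro a ha
    refine hpel _ (C.pow_mem ha M) ?_
    have h1 : (a ^ M) ^ (ordProj[p] n) = 1 := by
      rw [← pow_mul, hM, mul_assoc, mul_comm n', Nat.ordProj_mul_ordCompl_eq_self, pow_mul]
      exact congrArg (fun v : Subgroup.center C => ((v : C) : G))
        (pow_card_eq_one' (x := (⟨_, (Subgroup.center C).pow_index_mem (⟨a, ha⟩ : C)⟩ : Subgroup.center C)))
    obtain ⟨k, -, hk⟩ := (Nat.dvd_prime_pow hpp).1 (orderOf_dvd_of_pow_eq_one h1)
    exact ⟨k, hk⟩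
  -- the contradiction
  set u := w0 with hu'
  set c := t * u * t⁻¹ * u⁻¹ with hc
  have hcC : c ∈ C := by
    refine Subgroup.mem_centralizer_iff.2 fun e he => ?_
    have hf : u⁻¹ * e * u ∈ E := by simpa using hEn u⁻¹ (T.inv_mem hw0T) e he
    have h1 := ht_E _ (E.inv_mem hf)
    rw [inv_inv] at h1
    have h2 : c * e * c⁻¹ = e := by
      calc c * e * c⁻¹ = t * (u * (t⁻¹ * (u⁻¹ * e * u) * t) * u⁻¹) * t⁻¹ := by rw [hc]; group
        _ = t * (u * (u⁻¹ * e * u)⁻¹ * u⁻¹) * t⁻¹ := by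
            rw [show t⁻¹ * (u⁻¹ * e * u) * t = (u⁻¹ * e * u)⁻¹ by
              calc t⁻¹ * (u⁻¹ * e * u) * t = t⁻¹ * (t * (u⁻¹ * e * u)⁻¹ * t⁻¹) * t := by rw [h1]
                _ = (u⁻¹ * e * u)⁻¹ := by group]
        _ = t * e⁻¹ * t⁻¹ := by group
        _ = e := by rw [ht_E _ (E.inv_mem he), inv_inv]
    exact (mul_inv_eq_iff_eq_mul.1 h2).symm
  set e := c ^ M with he
  have heE : e ∈ E := hMmem c hcC
  set f := u * e * u⁻¹ * e⁻¹ with hf
  have hfZ : f ∈ Z := hcomZ u hw0T e (hET heE)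
  have hfE : f ∈ E := hZE hfZ
  have hq : ∀ k : ℕ, (c * u) ^ k * (u ^ k)⁻¹ ∈ C ∧ ((c * u) ^ k * (u ^ k)⁻¹) ^ M = e ^ k * f ^ k.choose 2 := by
    intro k
    induction k with
    | zero => simp [C.one_mem]
    | succ k ih =>
      set q := (c * u) ^ k * (u ^ k)⁻¹ with hqk
      have h1 : (c * u) ^ (k + 1) * (u ^ (k + 1))⁻¹ = c * (u * q * u⁻¹) := by
        rw [hqk, pow_succ' (c * u) k, pow_succ u k]
        group
      rw [h1]
      refine ⟨C.mul_mem hcC (hconjC u hw0T q ih.1), ?_⟩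
      have hue : u * e * u⁻¹ = f * e := by rw [hf]; group
      have huf : u * f * u⁻¹ = f := by rw [hZcen f hfZ u hw0T, mul_inv_cancel_right]
      rw [hMmul c hcC _ (hconjC u hw0T q ih.1), conj_pow, ih.2, ← he]
      have h2 : u * (e ^ k * f ^ k.choose 2) * u⁻¹ = (f * e) ^ k * f ^ k.choose 2 := by
        rw [conjm, ← conj_pow (i := k), ← conj_pow (i := k.choose 2), hue, huf]
      rw [h2, show (k + 1).choose 2 = k + k.choose 2 by rw [Nat.choose_succ_succ, Nat.choose_one_right],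
        Commute.mul_pow (show Commute f e from hEZ f hfE e heE)]
      calc e * (f ^ k * e ^ k * f ^ k.choose 2) = e * ((f ^ k * e ^ k) * f ^ k.choose 2) := by group
        _ = e * ((e ^ k * f ^ k) * f ^ k.choose 2) := by
            rw [hEZ _ (E.pow_mem hfE k) _ (E.pow_mem heE k)]
        _ = e * e ^ k * (f ^ k * f ^ k.choose 2) := by group
        _ = e ^ (k + 1) * f ^ (k + k.choose 2) := by rw [pow_add f, pow_succ' e]
  have hfin := (hq p).2
  obtain ⟨m, hm⟩ := hpp.dvd_choose_self two_ne_zero (lt_of_le_of_ne hpp.two_le (Ne.symm hp))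
  have hf1 : f ^ p.choose 2 = 1 := by rw [hm, pow_mul, hEexp f hfE, one_pow]
  have hcu : c * u = t * u * t⁻¹ := by rw [hc]; group
  have hcup : (c * u) ^ p * (u ^ p)⁻¹ = ((u ^ p) ^ 2)⁻¹ := by
    rw [hcu, conj_pow, ht_E _ (hZE (hpowZ u hw0T)), sq, mul_inv_rev]
  rw [hEexp e heE, hf1, one_mul, hcup, inv_pow, inv_eq_one, ← pow_mul] at hfin
  have hdvd := orderOf_dvd_of_pow_eq_one hfin
  rw [orderOf_eq_prime (hZp _ (hpowZ u hw0T)) hw0] at hdvd
  rcases hpp.dvd_mul.1 hdvd with h | h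
  · exact hp ((Nat.prime_dvd_prime_iff_eq hpp Nat.prime_two).1 h)
  · exact hMp h

end Cfsg.Agent.S3053
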