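import Cfsg.Statements.S3057
import Cfsg.Agent.S3056
import Cfsg.Agent.Lib.Coprime.Action
import Cfsg.Agent.Lib.Coprime.UniqueOrderP
import Cfsg.Agent.Lib.Coprime.Core
import Cfsg.Agent.Lib.PGroup.PSolvable
import Cfsg.Agent.Lib.PGroup.Basic
import Cfsg.Agent.Lib.Invol.QuaternionSection
-- import your own Cfsg.Agent.* helpers here

set_option autoImplicit false
open Cfsg

namespace Cfsg.Agent.S3057

theorem uniqueOrderP_of_isCyclic {P : Type*} [Group P] [Finite P] [IsCyclic P] {p : ℕ} [hp : Fact p.Prime] :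
    CfsgLib.Coprime.UniqueOrderP p P := by
  classical
  letI := Fintype.ofFinite P
  intro x y hx hy hx1
  have hsub : (Subgroup.zpowers x : Set P).toFinset ⊆ Finset.univ.filter (fun a : P => a ^ p = 1) := by
    intro a ha
    rw [Set.mem_toFinset, SetLike.mem_coe] at ha
    obtain ⟨k, rfl⟩ := Subgroup.mem_zpowers_iff.1 ha
    simp only [Finset.mem_filter, Finset.mem_univ, true_and]
    rw [← zpow_natCast, ← zpow_mul, mul_comm, zpow_mul, zpow_natCast, hx, one_zpow]
  have he := Finset.eq_of_subset_of_card_le hsub ((IsCyclic.card_pow_eq_one_le hp.out.pos).trans (by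
    rw [Set.toFinset_card, ← Nat.card_eq_fintype_card]
    exact le_of_eq ((orderOf_eq_prime hx hx1).symm.trans (Nat.card_zpowers x).symm)))
  have hy' : y ∈ (Subgroup.zpowers x : Set P).toFinset := by rw [he]; simp [hy]
  simpa using hy'

theorem exists_noncyclic {P : Type*} [Group P] [Finite P] {p : ℕ} [hp : Fact p.Prime] (hP : IsPGroup p P)
    (hu : ¬ CfsgLib.Coprime.UniqueOrderP p P) :
    ∃ A : Subgroup P, IsMulCommutative A ∧ ¬ IsCyclic A := by
  unfold CfsgLib.Coprime.UniqueOrderP at hu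
  push Not at hu
  obtain ⟨x, y, hx, hy, hx1, hyx⟩ := hu
  haveI : Nontrivial P := ⟨⟨x, 1, hx1⟩⟩
  haveI := hP.center_nontrivial
  obtain ⟨⟨z, hzc⟩, hz⟩ := exists_prime_orderOf_dvd_card' (G := Subgroup.center P) p
    ((hP.to_subgroup _).card_eq_or_dvd.resolve_left fun h => by
      haveI := (Nat.card_eq_one_iff_unique.1 h).1
      exact not_nontrivial (Subgroup.center P) inferInstance)
  rw [Subgroup.orderOf_mk] at hz
  obtain ⟨w, hw, hwz⟩ : ∃ w : P, w ^ p = 1 ∧ w ∉ Subgroup.zpowers z := by
    by_cases hxz : x ∈ Subgroup.zpowers z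
    · refine ⟨y, hy, fun hyz => hyx ?_⟩
      have he : Subgroup.zpowers x = Subgroup.zpowers z := Subgroup.eq_of_le_of_card_ge (Subgroup.zpowers_le.2 hxz)
        (by rw [Nat.card_zpowers, Nat.card_zpowers, hz, orderOf_eq_prime hx hx1])
      rwa [he]
    · exact ⟨x, hx, hxz⟩
  have hcomm : w * z = z * w := Subgroup.mem_center_iff.1 hzc w
  have hA : IsMulCommutative (Subgroup.closure ({z, w} : Set P)) := Subgroup.isMulCommutative_closure (by
    simp only [Set.mem_insert_iff, Set.mem_singleton_iff]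
    rintro a (rfl | rfl) b (rfl | rfl) <;> simp [hcomm])
  refine ⟨_, hA, fun hc => hwz ?_⟩
  have hzm : z ∈ Subgroup.closure ({z, w} : Set P) := Subgroup.subset_closure (Set.mem_insert _ _)
  have hwm : w ∈ Subgroup.closure ({z, w} : Set P) := Subgroup.subset_closure (Set.mem_insert_of_mem _ rfl)
  have := uniqueOrderP_of_isCyclic (p := p) ⟨z, hzm⟩ ⟨w, hwm⟩ (Subtype.ext (by simpa [← hz] using pow_orderOf_eq_one z))
    (Subtype.ext (by simpa using hw)) (fun e => hp.out.ne_one (by rw [← hz, show z = 1 from congrArg Subtype.val e, orderOf_one]))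
  obtain ⟨k, hk⟩ := Subgroup.mem_zpowers_iff.1 this
  exact ⟨k, by simpa using congrArg Subtype.val hk⟩

theorem connected_of_pCore_ne_bot {G : Type*} [Group G] [Finite G] {p : ℕ} [Fact p.Prime]
    (h : Cfsg.pCore p G ≠ ⊥) : Cfsg.IsSylowChainConnected p G := by
  intro S T
  have hm : (S : Subgroup G) ⊓ (T : Subgroup G) ≠ ⊥ := fun e => h (le_bot_iff.1 (e ▸
    le_inf (CfsgLib.PGroup.pCore_le_sylow S) (CfsgLib.PGroup.pCore_le_sylow T)))
  by_cases e : S = T
  · exact ⟨0, fun _ => S, rfl, e, fun i => inf_le_left, fun i => i.elim0⟩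
  · refine ⟨1, ![S, T], rfl, rfl, fun i => ?_, fun i => ?_⟩
    · fin_cases i
      · exact inf_le_left
      · exact inf_le_right
    · fin_cases i
      exact ⟨e, hm⟩



/-- Let p be a prime and G a finite p-solvable group of order divisible by p, with Sylow p-subgroup P. Then the Sylow p-subgroups of G fail to be chain-connected through nontrivial intersections (equivalently, G has a strongly p-embedded subgroup) if and only if O_p(G) = 1 and P is cyclic or, for p = 2, generalized quaternion. -/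
theorem result {G : Type*} [Group G] [Finite G]
    (p : ℕ) [hp : Fact p.Prime] (hdiv : p ∣ Nat.card G) (hsol : Cfsg.IsPSolvable p G) (P : Sylow p G) :
    ¬ Cfsg.IsSylowChainConnected p G ↔
      Cfsg.pCore p G = ⊥ ∧ (IsCyclic ↥P ∨ (p = 2 ∧ ∃ n : ℕ, Nonempty (↥P ≃* QuaternionGroup (2 ^ n)))) := by
  constructor
  · intro hnc
    obtain ⟨H, hH, hpH, hse⟩ := (Cfsg.Agent.S3056.result p).1 hnc
    have hcore : Cfsg.pCore p G = ⊥ := by_contra fun h => hnc (connected_of_pCore_ne_bot h)
    refine ⟨hcore, ?_⟩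
    by_contra hcq
    have hNF := CfsgLib.PEmb.ConjForm.normForm (p := p) hse
    obtain ⟨S, hS⟩ := hNF.exists_sylow_le hpH
    have hu : ¬ CfsgLib.Coprime.UniqueOrderP p ↥S := fun hu => hcq (by
      have e : ↥P ≃* ↥S := Sylow.equiv P S
      rcases CfsgLib.Coprime.cyclic_or_quaternion_of_unique S.2 hu with hc | ⟨h2, n, ⟨f⟩⟩
      · haveI := hc
        exact Or.inl (isCyclic_of_surjective e.symm.toMonoidHom e.symm.surjective)
      · exact Or.inr ⟨h2, n, ⟨e.trans f⟩⟩)
    obtain ⟨A₀, hA₀, hA₀c⟩ := exists_noncyclic S.2 hu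
    set A := A₀.map (S : Subgroup G).subtype with hA
    have hAS : A ≤ (S : Subgroup G) := Subgroup.map_subtype_le _
    have eA : A₀ ≃* A := A₀.equivMapOfInjective _ (S : Subgroup G).subtype_injective
    haveI : IsMulCommutative A := by haveI := hA₀; exact Subgroup.map_isMulCommutative A₀ _
    have hAc : ¬ IsCyclic A := fun hc => hA₀c (isCyclic_of_surjective eA.symm.toMonoidHom eA.symm.surjective)
    set K := Cfsg.pPrimeCore p G with hK
    haveI hKn : K.Normal := (haveI := CfsgLib.Coprime.pPrimeCore_characteristic (G := G) p; inferInstance)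
    have hKH : K ≤ H := by
      refine CfsgLib.Coprime.le_of_centralizers_le hAc ((Subgroup.normalizer_eq_top_iff.2 hKn).ge.trans' le_top) ?_
        fun a haA ha1 => ?_
      · obtain ⟨n, hn⟩ := (S.2.to_le hAS).exists_card_eq
        rw [hn]
        exact Nat.Coprime.pow_left n (hp.out.coprime_iff_not_dvd.2 (CfsgLib.Coprime.pPrimeCore_not_dvd hp.out))
      · intro g hg
        refine hNF _ (Subgroup.zpowers_le.2 (hS (hAS haA))) ((S.2.to_le hAS).to_le (Subgroup.zpowers_le.2 haA))
          (fun h0 => ha1 (Subgroup.zpowers_eq_bot.1 h0)) ?_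
        have h1 := Subgroup.mem_centralizer_singleton_iff.1 hg.2
        refine Subgroup.centralizer_le_normalizer _ ?_
        rw [Subgroup.zpowers_eq_closure, Subgroup.centralizer_closure]
        exact Subgroup.mem_centralizer_singleton_iff.2 h1
    have hpK : ¬ p ∣ Nat.card K := CfsgLib.Coprime.pPrimeCore_not_dvd hp.out
    haveI : Nontrivial (G ⧸ K) := (QuotientGroup.nontrivial_iff).2 fun e => hpK (by rw [e, Subgroup.card_top]; exact hdiv)
    have hM : Cfsg.pCore p (G ⧸ K) ≠ ⊥ :=
      (CfsgLib.PGroup.pCore_ne_bot_or_pPrimeCore_ne_bot (CfsgLib.PGroup.isPSolvable_quotient hp.out hsol K)).resolve_right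
        (fun h => h (CfsgLib.Coprime.pPrimeCore_quotient_eq_bot hp.out))
    haveI := CfsgLib.Coprime.pCore_normal' (G := G ⧸ K) p
    set N := (Cfsg.pCore p (G ⧸ K)).comap (QuotientGroup.mk' K) with hN
    haveI : N.Normal := Subgroup.Normal.comap inferInstance _
    have hKN : K ≤ N := fun x hx => by
      rw [hN, Subgroup.mem_comap, QuotientGroup.mk'_apply, (QuotientGroup.eq_one_iff x).2 hx]
      exact one_mem _
    have hrel : K.relIndex N = Nat.card (Cfsg.pCore p (G ⧸ K)) := by
      conv_lhs => rw [← QuotientGroup.ker_mk' K, ← MonoidHom.comap_bot]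
      rw [Subgroup.relIndex_comap, hN, Subgroup.map_comap_eq_self_of_surjective (QuotientGroup.mk'_surjective K),
        Subgroup.relIndex_bot_left]
    obtain ⟨k, hk⟩ := (CfsgLib.PGroup.isPGroup_pCore p (G ⧸ K)).exists_card_eq
    have hpN : p ∣ Nat.card N := by
      refine dvd_trans ?_ (Subgroup.relIndex_dvd_card K N)
      rw [hrel]
      exact CfsgLib.PEmb.dvd_card_of_ne_bot (CfsgLib.PGroup.isPGroup_pCore p _) hM
    obtain ⟨⟨x, hxN⟩, hx⟩ := exists_prime_orderOf_dvd_card' (G := N) p hpN
    rw [Subgroup.orderOf_mk] at hx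
    obtain ⟨T, hT⟩ := (IsPGroup.of_card (G := Subgroup.zpowers x) (p := p) (n := 1) (by
      rw [Nat.card_zpowers, hx, pow_one])).exists_le_sylow
    obtain ⟨g, rfl⟩ := MulAction.exists_smul_eq G T S
    have hne : (((g • T : Sylow p G) : Subgroup G) ⊓ N) ≠ ⊥ := fun e => by
      have h1 : g * x * g⁻¹ ∈ ((g • T : Sylow p G) : Subgroup G) ⊓ N :=
        ⟨⟨x, hT (Subgroup.mem_zpowers x), rfl⟩, Subgroup.Normal.conj_mem inferInstance x hxN g⟩
      rw [e, Subgroup.mem_bot, conj_eq_one_iff] at h1
      rw [h1, orderOf_one] at hx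
      exact hp.out.ne_one hx.symm
    obtain ⟨Q, hQ⟩ := ((g • T : Sylow p G).2.to_le (inf_le_left : _ ⊓ N ≤ _)).comap_of_injective N.subtype
      N.subtype_injective |>.exists_le_sylow
    set Q' := (Q : Subgroup N).map N.subtype with hQ'
    have hQne : Q' ⊓ H ≠ ⊥ := fun e => hne (le_bot_iff.1 (e ▸ fun y hy =>
      ⟨⟨⟨y, hy.2⟩, hQ hy, rfl⟩, hS hy.1⟩))
    have hQH : Q' ≤ H := hNF.le_of_inf_ne_bot (Q.2.map _) hQne
    have hNH : N ≤ H := by
      have h1 : K ⊔ Q' ≤ H := sup_le hKH hQH
      refine le_trans ?_ h1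
      rw [← Subgroup.relIndex_eq_one]
      have d1 : (K ⊔ Q').relIndex N ∣ p ^ k := by
        rw [← hk, ← hrel]
        exact Subgroup.relIndex_dvd_of_le_left N le_sup_left
      have d2 : ¬ p ∣ (K ⊔ Q').relIndex N := fun h => Q.not_dvd_index (by
        refine h.trans ((Subgroup.relIndex_dvd_of_le_left N le_sup_right).trans (dvd_of_eq ?_))
        rw [Subgroup.relIndex, hQ', Subgroup.subgroupOf, Subgroup.comap_map_eq_self_of_injective N.subtype_injective])
      exact Nat.eq_one_of_dvd_coprimes (Nat.Coprime.pow_left k (hp.out.coprime_iff_not_dvd.2 d2)) d1 dvd_rfl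
    refine hH (eq_top_iff.2 ((Sylow.normalizer_sup_eq_top Q).ge.trans (sup_le (fun y hy => ?_) hNH)))
    exact hNF Q' hQH (Q.2.map _) (fun e => hQne (by rw [e, bot_inf_eq])) hy
  · rintro ⟨hcore, hcq⟩ hconn
    have hu : ∀ T : Sylow p G, CfsgLib.Coprime.UniqueOrderP p ↥T := by
      intro T
      have e : ↥T ≃* ↥P := Sylow.equiv T P
      rcases hcq with hc | ⟨h2, n, ⟨f⟩⟩
      · haveI : IsCyclic ↥T := by haveI := hc; exact isCyclic_of_surjective e.symm.toMonoidHom e.symm.surjective
        exact uniqueOrderP_of_isCyclic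
      · intro x y hx hy hx1
        subst h2
        by_cases hy1 : y = 1
        · rw [hy1]; exact one_mem _
        have h1 : (e.trans f) y = (e.trans f) x := CfsgLib.Invol.quaternion_involution_eq
          (by rw [MulEquiv.orderOf_eq]; exact orderOf_eq_prime hy hy1)
          (by rw [MulEquiv.orderOf_eq]; exact orderOf_eq_prime hx hx1)
        rw [(e.trans f).injective h1]
        exact Subgroup.mem_zpowers x
    obtain ⟨z, hz⟩ := exists_prime_orderOf_dvd_card' (G := ↥P) p (P.dvd_card_of_dvd_card hdiv)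
    have hz' : orderOf (z : G) = p := by rw [Subgroup.orderOf_coe, hz]
    have hall : ∀ T : Sylow p G, (z : G) ∈ (T : Subgroup G) := by
      intro T
      obtain ⟨n, c, h0, hl, -, hc⟩ := hconn P T
      rw [← hl]
      suffices h : ∀ i : Fin (n + 1), (z : G) ∈ (c i : Subgroup G) from h _
      intro i
      induction i using Fin.induction with
      | zero => rw [h0]; exact z.2
      | succ i ih =>
        have hm := (hc i).2
        obtain ⟨⟨u, hu1, hu2⟩, hu3⟩ := exists_prime_orderOf_dvd_card'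
          (G := ↥((c i.castSucc : Subgroup G) ⊓ (c i.succ : Subgroup G))) p
          (CfsgLib.PEmb.dvd_card_of_ne_bot ((c i.castSucc).2.to_le inf_le_left) hm)
        replace hu3 : orderOf u = p := (Subgroup.orderOf_coe _).trans hu3
        have h1 := hu (c i.castSucc) ⟨u, hu1⟩ ⟨z, ih⟩ (Subtype.ext (by simpa [← hu3] using pow_orderOf_eq_one u))
          (Subtype.ext (by simpa [← hz'] using pow_orderOf_eq_one (z : G)))
          (fun e => hp.out.ne_one (by rw [← hu3, show u = 1 from congrArg Subtype.val e, orderOf_one]))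
        obtain ⟨k, hk⟩ := Subgroup.mem_zpowers_iff.1 h1
        have h2 : u ^ k = (z : G) := by simpa using congrArg Subtype.val hk
        rw [← h2]
        exact Subgroup.zpow_mem (c i.succ : Subgroup G) hu2 k
    let D : Subgroup G := ⨅ T : Sylow p G, (T : Subgroup G)
    haveI : D.Normal := ⟨fun a ha g => Subgroup.mem_iInf.2 fun T => by
      have h1 := Subgroup.mem_iInf.1 ha (g⁻¹ • T)
      obtain ⟨b, hb, hba⟩ := h1
      have : g * a * g⁻¹ = b := by
        rw [← hba]
        show g * (g⁻¹ * b * g⁻¹⁻¹) * g⁻¹ = b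
        group
      rw [this]
      exact hb⟩
    have hDp : IsPGroup p D := P.2.to_le (iInf_le _ P)
    have := CfsgLib.Coprime.le_pCore hDp (Subgroup.mem_iInf.2 hall)
    rw [hcore, Subgroup.mem_bot] at this
    rw [this, orderOf_one] at hz'
    exact hp.out.ne_one hz'.symm

end Cfsg.Agent.S3057
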