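import Cfsg.Statements.S3058
import Cfsg.Agent.S3056
import Cfsg.Agent.Lib.PGroup.EmbeddedForms
import Cfsg.Agent.Lib.PGroup.ElementaryBasic
import Cfsg.Agent.Lib.Coprime.Action
import Cfsg.Agent.Lib.Coprime.Solvable

set_option autoImplicit false
open Cfsg

namespace Cfsg.Agent.S3058

/-- Let p be a prime and G a finite group whose Sylow p-subgroups are not chain-connected through nontrivial intersections (so G has a strongly p-embedded subgroup). If N and M are normal subgroups of G whose orders are both divisible by p, then the order of N ∩ M is divisible by p. Consequently, among the normal subgroups of G whose order is divisible by p there is a smallest one (the intersection of all of them). -/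
theorem result {G : Type*} [Group G] [Finite G]
    (p : ℕ) [Fact p.Prime] (hG : ¬ Cfsg.IsSylowChainConnected p G)
    (N M : Subgroup G) [N.Normal] [M.Normal] (hN : p ∣ Nat.card N) (hM : p ∣ Nat.card M) :
    p ∣ Nat.card ↥(N ⊓ M) := by
  by_contra hD
  obtain ⟨H, hHtop, hpH, hconj⟩ := (Cfsg.Agent.S3056.result (G := G) p).1 hG
  have hpp : p.Prime := Fact.out
  have hNF := CfsgLib.PEmb.ConjForm.normForm (p := p) hconj
  obtain ⟨P, hP⟩ := hNF.exists_sylow_le hpH
  set T : Subgroup G := (P : Subgroup G) with hT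
  have hpT : ¬ p ∣ T.index := P.not_dvd_index
  -- a central element of `T` of order `p` in each normal subgroup
  have hel : ∀ K : Subgroup G, K.Normal → p ∣ Nat.card K → ∃ a ∈ T ⊓ K, orderOf a = p ∧ ∀ t ∈ T, t * a = a * t := by
    intro K hK hpK
    haveI := hK
    have hne : K.subgroupOf T ≠ ⊥ := by
      intro e
      obtain ⟨a, ha⟩ := exists_prime_orderOf_dvd_card' (G := K) p hpK
      obtain ⟨Q, hQ⟩ := (IsPGroup.of_card (n := 1) (G := Subgroup.zpowers (a : G)) (by rw [Nat.card_zpowers, Subgroup.orderOf_coe, ha, pow_one])).exists_le_sylow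
      obtain ⟨g, hg⟩ := MulAction.exists_smul_eq G Q P
      have h1 : g * a * g⁻¹ ∈ T := by
        rw [hT, ← hg]
        exact CfsgLib.Fusion.conj_mem_conjBy (g := g) (hQ (Subgroup.mem_zpowers (a : G)))
      have h2 : (⟨_, h1⟩ : T) ∈ K.subgroupOf T := hK.conj_mem _ a.2 g
      rw [e, Subgroup.mem_bot, Subtype.ext_iff] at h2
      have h3 : (a : G) = 1 := conj_eq_one_iff.1 h2
      rw [← Subgroup.orderOf_coe, h3, orderOf_one] at ha
      exact hpp.ne_one ha.symm
    haveI : Nontrivial (K.subgroupOf T) := (Subgroup.nontrivial_iff_ne_bot _).2 hne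
    obtain ⟨z, hz, hz1⟩ : ∃ z : T, (z ∈ K.subgroupOf T ∧ z ∈ Subgroup.center T) ∧ z ≠ 1 := by
      haveI := P.2.isNilpotent
      haveI : (K.subgroupOf T).Normal := inferInstance
      obtain ⟨z, hz, hz'⟩ := SetLike.exists_of_lt (CfsgLib.Coprime.nilpotent_inf_center_ne_bot (K.subgroupOf T) hne).bot_lt
      exact ⟨z, ⟨hz.1, hz.2⟩, fun e => hz' (Subgroup.mem_bot.2 e)⟩
    obtain ⟨k, hk⟩ := IsPGroup.iff_orderOf.1 P.2 z
    have hk0 : k ≠ 0 := fun e => hz1 (orderOf_eq_one_iff.1 (by rw [hk, e, pow_zero]))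
    have ho := orderOf_pow_orderOf_div (x := z) (n := p) (by rw [hk]; exact pow_ne_zero _ hpp.ne_zero) (by rw [hk]; exact dvd_pow_self p hk0)
    refine ⟨_, ⟨(z ^ (orderOf z / p)).2, (K.subgroupOf T).pow_mem hz.1 _⟩, by rw [Subgroup.orderOf_coe]; exact ho, fun t ht => ?_⟩
    exact congrArg Subtype.val (Subgroup.mem_center_iff.1 ((Subgroup.center T).pow_mem hz.2 _) ⟨t, ht⟩)
  obtain ⟨a, ⟨haT, haN⟩, hao, hac⟩ := hel N inferInstance hN
  obtain ⟨b, ⟨hbT, hbM⟩, hbo, hbc⟩ := hel M inferInstance hM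
  set D := N ⊓ M with hD'
  have hDT : D ⊓ T = ⊥ := by
    rw [← Subgroup.card_eq_one]
    obtain ⟨k, hk⟩ := (P.2.to_le (inf_le_right : D ⊓ T ≤ T)).exists_card_eq
    rcases Nat.eq_zero_or_pos k with h | h
    · rw [hk, h, pow_zero]
    · exact absurd ((dvd_pow_self p h.ne').trans (hk ▸ Subgroup.card_dvd_of_le inf_le_left)) hD
  have hC : ∀ x ∈ T, x ≠ 1 → Subgroup.centralizer ({x} : Set G) ≤ H := fun x hx hx1 => by
    refine le_trans ?_ (hNF (Subgroup.zpowers x) (Subgroup.zpowers_le.2 (hP hx)) (P.2.to_le (Subgroup.zpowers_le.2 hx)) (fun e => hx1 (Subgroup.zpowers_eq_bot.1 e)))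
    rw [← Subgroup.centralizer_closure, ← Subgroup.zpowers_eq_closure]
    exact Subgroup.centralizer_le_normalizer _
  set E := Subgroup.zpowers a ⊔ Subgroup.zpowers b with hE
  have haE : Cfsg.IsElementaryAbelian p (Subgroup.zpowers a) := CfsgLib.EABasic.isElementaryAbelian_zpowers (hao ▸ pow_orderOf_eq_one a)
  have hbE : Cfsg.IsElementaryAbelian p (Subgroup.zpowers b) := CfsgLib.EABasic.isElementaryAbelian_zpowers (hbo ▸ pow_orderOf_eq_one b)
  have hab : Subgroup.zpowers b ≤ Subgroup.centralizer ((Subgroup.zpowers a : Subgroup G) : Set G) := by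
    rw [Subgroup.zpowers_le, Subgroup.zpowers_eq_closure, Subgroup.centralizer_closure]
    exact Subgroup.mem_centralizer_singleton_iff.2 (hac b hbT)
  haveI hEc : IsMulCommutative E := by
    haveI := haE.1
    haveI := hbE.1
    refine Subgroup.le_centralizer_iff_isMulCommutative.1 (sup_le ?_ ?_) <;> rw [Subgroup.le_centralizer_iff]
    · exact sup_le (Subgroup.le_centralizer _) hab
    · exact sup_le (Subgroup.le_centralizer_iff.1 hab) (Subgroup.le_centralizer _)
  have hEncyc : ¬ IsCyclic E := by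
    intro hcyc
    have haT' : a ∈ E := Subgroup.mem_sup_left (Subgroup.mem_zpowers a)
    have hbT' : b ∈ E := Subgroup.mem_sup_right (Subgroup.mem_zpowers b)
    have hEe : Cfsg.IsElementaryAbelian p E := CfsgLib.EABasic.isElementaryAbelian_sup haE hbE
      fun u hu v hv => Subgroup.mem_centralizer_iff.1 (hab hv) u hu
    obtain ⟨w, hw⟩ := IsCyclic.exists_ofOrder_eq_natCard (α := E)
    have hle : Nat.card E ≤ p := hw ▸ Nat.le_of_dvd hpp.pos (orderOf_dvd_of_pow_eq_one (Subtype.ext (hEe.2 w w.2)))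
    have hEb : Subgroup.zpowers b = E := Subgroup.eq_of_le_of_card_ge le_sup_right (by rwa [Nat.card_zpowers, hbo])
    obtain ⟨i, hi'⟩ := hEb.ge haT'
    replace hi' : b ^ i = a := hi'
    have : a ∈ D ⊓ T := ⟨⟨haN, hi' ▸ M.zpow_mem hbM i⟩, haT⟩
    rw [hDT, Subgroup.mem_bot] at this
    rw [this, orderOf_one] at hao
    exact hpp.ne_one hao.symm
  have hET : E ≤ T := sup_le (Subgroup.zpowers_le.2 haT) (Subgroup.zpowers_le.2 hbT)
  have hDH : D ≤ H := by
    refine CfsgLib.Coprime.le_of_centralizers_le hEncyc ?_ ?_ fun x hx hx1 => inf_le_right.trans (hC x (hET hx) hx1)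
    · intro g _
      rw [Subgroup.normalizer_eq_top]
      trivial
    · obtain ⟨k, hk⟩ := (P.2.to_le hET).exists_card_eq
      rw [hk]
      exact (hpp.coprime_iff_not_dvd.2 hD).pow_left k
  -- the Frattini argument
  have hTMne : T ⊓ M ≠ ⊥ := fun e => by
    have : b ∈ T ⊓ M := ⟨hbT, hbM⟩
    rw [e, Subgroup.mem_bot] at this
    rw [this, orderOf_one] at hbo
    exact hpp.ne_one hbo.symm
  have hTNne : T ⊓ N ≠ ⊥ := fun e => by
    have : a ∈ T ⊓ N := ⟨haT, haN⟩
    rw [e, Subgroup.mem_bot] at this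
    rw [this, orderOf_one] at hao
    exact hpp.ne_one hao.symm
  have hrel : ∀ K : Subgroup G, K.Normal → ¬ p ∣ (T ⊓ K).relIndex K := by
    intro K hK
    haveI := hK
    exact CfsgLib.Fusion.not_dvd_relIndex_inf_of_normal P K
  have hFr : ∀ K : Subgroup G, K.Normal → T ⊓ K ≠ ⊥ → ∀ g : G, ∃ k ∈ K, k * g ∈ H := by
    intro K hK hne g
    haveI := hK
    obtain ⟨k, hk, hle⟩ := CfsgLib.Fusion.exists_conj_le_of_not_dvd_relIndex (P.2.to_le (inf_le_left : T ⊓ K ≤ T)) inf_le_right (hrel K hK)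
      (CfsgLib.Fusion.isPGroup_conjBy g (P.2.to_le (inf_le_left : T ⊓ K ≤ T)))
      (CfsgLib.Fusion.conjBy_le_iff.2 fun y hy => hK.conj_mem _ hy.2 g)
    rw [CfsgLib.Fusion.conjBy_conjBy] at hle
    exact ⟨k, hk, hNF _ (inf_le_left.trans hP) (P.2.to_le inf_le_left) hne (CfsgLib.Fusion.conjBy_eq_iff.1 (CfsgLib.Fusion.conjBy_eq_of_le hle))⟩
  -- `N` is contained in `H`
  have hNH : N ≤ H := by
    intro n hn
    set X := (T ⊓ M) ⊔ D with hX
    have hXp : ¬ p ∣ (T ⊓ M).relIndex X := fun hd => hrel M inferInstance (hd.trans ⟨X.relIndex M, (Subgroup.relIndex_mul_relIndex _ X M le_sup_left (sup_le inf_le_right inf_le_right)).symm⟩)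
    have hle0 : CfsgLib.Fusion.conjBy n (T ⊓ M) ≤ X := CfsgLib.Fusion.conjBy_le_iff.2 fun y hy => by
      have hyD : n * y * n⁻¹ * y⁻¹ ∈ D := ⟨by
        rw [show n * y * n⁻¹ * y⁻¹ = n * (y * n⁻¹ * y⁻¹) by group]
        exact N.mul_mem hn (Subgroup.Normal.conj_mem inferInstance _ (N.inv_mem hn) y),
        M.mul_mem (Subgroup.Normal.conj_mem inferInstance _ hy.2 n) (M.inv_mem hy.2)⟩
      rw [show n * y * n⁻¹ = n * y * n⁻¹ * y⁻¹ * y by group]
      exact X.mul_mem (Subgroup.mem_sup_right hyD) (Subgroup.mem_sup_left hy)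
    obtain ⟨k, hk, hle⟩ := CfsgLib.Fusion.exists_conj_le_of_not_dvd_relIndex (P.2.to_le inf_le_left) le_sup_left hXp
      (CfsgLib.Fusion.isPGroup_conjBy n (P.2.to_le inf_le_left)) hle0
    rw [CfsgLib.Fusion.conjBy_conjBy] at hle
    have h1 : k * n ∈ H := hNF _ (inf_le_left.trans hP) (P.2.to_le inf_le_left) hTMne
      (CfsgLib.Fusion.conjBy_eq_iff.1 (CfsgLib.Fusion.conjBy_eq_of_le hle))
    have hkH : k ∈ H := (sup_le (inf_le_left.trans hP) hDH : X ≤ H) hk
    simpa using H.mul_mem (H.inv_mem hkH) h1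
  refine hHtop (eq_top_iff.2 fun g _ => ?_)
  obtain ⟨k, hk, hkg⟩ := hFr N inferInstance hTNne g
  simpa using H.mul_mem (H.inv_mem (hNH hk)) hkg

end Cfsg.Agent.S3058
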