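import Cfsg.Statements.S3059
import Cfsg.Agent.Lib.PGroup.EmbeddedForms

set_option autoImplicit false
open Cfsg

namespace Cfsg.Agent.S3059

/-- Let p be a prime and H a strongly p-embedded subgroup of the finite group G in the classical sense: H is proper, p divides the order of H, and H ∩ gHg⁻¹ has order prime to p for every g outside H. Then for every normal subgroup N of G of order divisible by p, G = H · O^p(N), where O^p(N) is the subgroup generated by the elements of N of order prime to p. -/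
theorem result {G : Type*} [Group G] [Finite G]
    (p : ℕ) [Fact p.Prime] (H : Subgroup G) (hH : H ≠ ⊤) (hpH : p ∣ Nat.card H)
    (hse : ∀ g : G, g ∉ H → ¬ p ∣ Nat.card ↥(H ⊓ H.map (MulAut.conj g).toMonoidHom))
    (N : Subgroup G) [N.Normal] (hN : p ∣ Nat.card N) :
    H ⊔ Subgroup.closure {g : G | g ∈ N ∧ (orderOf g).Coprime p} = ⊤ := by
  have hNF := CfsgLib.PEmb.ConjForm.normForm (p := p) hse
  obtain ⟨P, hP⟩ := hNF.exists_sylow_le hpH
  set K := Subgroup.closure {g : G | g ∈ N ∧ (orderOf g).Coprime p} with hK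
  have hKn : K.Normal := by
    refine ⟨fun k hk g => ?_⟩
    have hle : K ≤ K.comap (MulAut.conj g).toMonoidHom := by
      conv_lhs => rw [hK]
      rw [Subgroup.closure_le]
      rintro y ⟨hy, hyc⟩
      exact Subgroup.subset_closure ⟨Subgroup.Normal.conj_mem inferInstance y hy g, by rwa [MulEquiv.coe_toMonoidHom, MulEquiv.orderOf_eq]⟩
    exact hle hk
  set R := (P : Subgroup G) ⊓ N with hR
  have hRi : ¬ p ∣ R.relIndex N := CfsgLib.Fusion.not_dvd_relIndex_inf_of_normal P N
  have hR1 : R ≠ ⊥ := fun e => hRi (by rw [e, Subgroup.relIndex_bot_left]; exact hN)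
  have hKN : K ≤ N := (Subgroup.closure_le N).2 fun y hy => hy.1
  have hNle : N ≤ K ⊔ R := by
    haveI : (K.subgroupOf N).Normal := Subgroup.Normal.comap hKn _
    have hq : IsPGroup p (N ⧸ K.subgroupOf N) := by
      intro q
      obtain ⟨⟨x, hx⟩, rfl⟩ := QuotientGroup.mk_surjective q
      obtain ⟨a, m, hm, hxm⟩ := Nat.exists_eq_pow_mul_and_not_dvd (orderOf_pos x).ne' p (Fact.out : p.Prime).ne_one
      refine ⟨a, ?_⟩
      rw [← QuotientGroup.mk_pow, QuotientGroup.eq_one_iff, Subgroup.mem_subgroupOf, SubmonoidClass.coe_pow]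
      refine Subgroup.subset_closure ⟨pow_mem hx _, ?_⟩
      rw [orderOf_pow_of_dvd (pow_ne_zero _ (Fact.out : p.Prime).ne_zero) ⟨m, hxm⟩, hxm, Nat.mul_div_cancel_left m (pow_pos (Fact.out : p.Prime).pos _)]
      exact ((Fact.out : p.Prime).coprime_iff_not_dvd.2 hm).symm
    obtain ⟨k, hk⟩ := hq.exists_card_eq
    have h1 : (K ⊔ R).relIndex N ∣ p ^ k := (Subgroup.relIndex_dvd_of_le_left N le_sup_left).trans (dvd_of_eq hk)
    have h2 : (K ⊔ R).relIndex N ∣ R.relIndex N := Subgroup.relIndex_dvd_of_le_left N le_sup_right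
    exact Subgroup.relIndex_eq_one.1 (Nat.eq_one_of_dvd_coprimes (Nat.Coprime.pow_left k ((Fact.out : p.Prime).coprime_iff_not_dvd.2 hRi)) h1 h2)
  rw [eq_top_iff]
  intro g _
  have hle : CfsgLib.Fusion.conjBy g R ≤ N := CfsgLib.Fusion.conjBy_le_iff.2 fun r hr => Subgroup.Normal.conj_mem inferInstance r hr.2 g
  obtain ⟨n, hn, hnle⟩ := CfsgLib.Fusion.exists_conj_le_of_not_dvd_relIndex (P.2.to_le inf_le_left) (inf_le_right : R ≤ N) hRi
    (CfsgLib.Fusion.isPGroup_conjBy g (P.2.to_le inf_le_left)) hle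
  rw [CfsgLib.Fusion.conjBy_conjBy] at hnle
  have hng : n * g ∈ H := hNF R (inf_le_left.trans hP) (P.2.to_le inf_le_left) hR1
    (CfsgLib.Fusion.conjBy_eq_iff.1 (CfsgLib.Fusion.conjBy_eq_of_le hnle))
  have hRH : R ≤ H := inf_le_left.trans hP
  have hn' : n ∈ H ⊔ K := (sup_le le_sup_right (hRH.trans le_sup_left) : K ⊔ R ≤ H ⊔ K) (hNle hn)
  have h3 := mul_mem (inv_mem hn') (Subgroup.mem_sup_left (T := K) hng)
  rwa [inv_mul_cancel_left] at h3

end Cfsg.Agent.S3059
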