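import Cfsg.Statements.S3063


set_option autoImplicit false
open Cfsg
open scoped commutatorElement

namespace Cfsg.Agent.S3063

/-- A weak replacement Theorem for metabelian p-groups: let S be a finite p-group whose derived subgroup is abelian and A an abelian subgroup of S of largest possible order. Then the normal closure of A in S contains an abelian subgroup B of the same order as A that is normal in S. -/
theorem result {S : Type*} [Group S] [Finite S] {p : ℕ} [Fact p.Prime]
    (hS : IsPGroup p S) (hmeta : IsMulCommutative ↥(commutator S))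
    (A : Subgroup S) (hA : A ∈ Cfsg.maxAbelianSubgroups S) :
    ∃ B ∈ Cfsg.maxAbelianSubgroups S, B.Normal ∧ B ≤ Subgroup.normalClosure (A : Set S) := by
  classical
  have _ := hS
  set D := commutator S
  have hfam : ({B : Subgroup S | B ∈ Cfsg.maxAbelianSubgroups S ∧ B ≤ Subgroup.normalClosure (A : Set S)}).Nonempty :=
    ⟨A, hA, Subgroup.le_normalClosure⟩
  obtain ⟨B, ⟨hB, hBN⟩, hBmax⟩ := Set.exists_max_image _
    (fun B : Subgroup S => Nat.card ↥(B ⊓ D)) (Set.toFinite _) hfam
  haveI : D.Normal := inferInstanceAs (commutator S).Normal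
  have hBab := hB.1
  haveI := hBab
  refine ⟨B, hB, ⟨fun b hb s => ?_⟩, hBN⟩
  by_contra hne
  set B' := B.map (MulAut.conj s).toMonoidHom with hB'
  have hB'c : Nat.card B' = Nat.card B :=
    Subgroup.card_map_of_injective (MulAut.conj s).injective
  haveI hB'ab : IsMulCommutative B' := Subgroup.map_isMulCommutative B _
  set H := B ⊔ B' with hH
  set Y := B ⊓ B' with hY
  set X := Y ⊔ (H ⊓ D) with hX
  have hB'le : B' ≤ B ⊔ D := by
    rintro _ ⟨c, hc, rfl⟩
    show s * c * s⁻¹ ∈ B ⊔ D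
    rw [show s * c * s⁻¹ = ⁅s, c⁆ * c by rw [commutatorElement_def]; group]
    exact (B ⊔ D).mul_mem (Subgroup.mem_sup_right (Subgroup.commutator_mem_commutator (Subgroup.mem_top s)
      (Subgroup.mem_top c))) (Subgroup.mem_sup_left hc)
  have hB'N : B' ≤ Subgroup.normalClosure (A : Set S) := by
    rintro _ ⟨c, hc, rfl⟩
    exact Subgroup.normalClosure_normal.conj_mem c (hBN hc) s
  have hlt : Nat.card Y < Nat.card B := by
    refine Set.Finite.card_lt_card (Set.toFinite _) (lt_of_le_of_ne inf_le_left fun e => hne ?_)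
    have hle : B ≤ B' := fun x hx => by
      have : x ∈ (Y : Set S) := by rw [SetLike.coe_set_eq.2 (SetLike.coe_injective e)]; exact hx
      exact this.2
    have heq : B = B' := Subgroup.eq_of_le_of_card_ge hle hB'c.le
    rw [heq]
    exact ⟨b, hb, rfl⟩
  have hYc : ∀ y ∈ Y, ∀ z ∈ H, y * z = z * y := by
    intro y hy z hz
    have : H ≤ Subgroup.centralizer {y} := sup_le
      (fun x hx => Subgroup.mem_centralizer_singleton_iff.2
        (congrArg Subtype.val (mul_comm' (⟨x, hx⟩ : B) ⟨y, hy.1⟩)))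
      (fun x hx => Subgroup.mem_centralizer_singleton_iff.2
        (congrArg Subtype.val (mul_comm' (⟨x, hx⟩ : B') ⟨y, hy.2⟩)))
    exact (Subgroup.mem_centralizer_singleton_iff.1 (this hz)).symm
  have hDc : ∀ y ∈ H ⊓ D, ∀ z ∈ H ⊓ D, y * z = z * y := fun y hy z hz =>
    congrArg Subtype.val (mul_comm' (⟨y, hy.2⟩ : D) ⟨z, hz.2⟩)
  have hXab : IsMulCommutative X := by
    rw [hX, Subgroup.sup_eq_closure]
    refine Subgroup.isMulCommutative_closure ?_
    intro y hy z hz
    rcases hy with hy | hy <;> rcases hz with hz | hz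
    · exact hYc y hy z (Subgroup.mem_sup_left hz.1)
    · exact hYc y hy z hz.1
    · exact (hYc z hz y hy.1).symm
    · exact hDc y hy z hz
  -- orders
  have hci : ∀ P Q : Subgroup S, Nat.card ↥(P ⊓ Q) * P.relIndex Q = Nat.card Q := fun P Q => by
    rw [← Subgroup.relIndex_bot_left, ← Subgroup.inf_relIndex_right P Q,
      Subgroup.relIndex_mul_relIndex _ _ _ bot_le inf_le_right, Subgroup.relIndex_bot_left]
  have hne0 : ∀ P Q : Subgroup S, P.relIndex Q ≠ 0 := fun P Q h => by
    have := hci P Q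
    rw [h, mul_zero] at this
    exact (Nat.card_pos (α := Q)).ne' this.symm
  have hHD : D.relIndex H = D.relIndex B := le_antisymm
    ((Subgroup.relIndex_le_of_le_right (sup_le le_sup_left hB'le : H ≤ B ⊔ D) (hne0 _ _)).trans
      (Subgroup.relIndex_sup_right (H := B) (K := D)).le)
    (Subgroup.relIndex_le_of_le_right le_sup_left (hne0 _ _))
  have hHB : B'.relIndex B ≤ B'.relIndex H := Subgroup.relIndex_le_of_le_right le_sup_left (hne0 _ _)
  have hYX : (H ⊓ D).relIndex Y ≤ (H ⊓ D).relIndex X := Subgroup.relIndex_le_of_le_right le_sup_left (hne0 _ _)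
  have c1 := hci D H
  have c2 := hci D B
  have c3 := hci B' B
  have c4 := hci B' H
  have c5 := hci (H ⊓ D) Y
  have c6 := hci (H ⊓ D) X
  rw [inf_comm D H, hHD] at c1
  rw [inf_comm D B] at c2
  rw [inf_comm B' B, ← hY] at c3
  rw [inf_eq_left.2 (le_sup_right : B' ≤ H), hB'c] at c4
  rw [inf_eq_left.2 (le_sup_right : H ⊓ D ≤ X)] at c6
  have h4 : Nat.card ↥((H ⊓ D) ⊓ Y) ≤ Nat.card ↥(B ⊓ D) :=
    Nat.card_mono (Set.toFinite _) fun x hx => ⟨hx.2.1, hx.1.2⟩
  have key : Nat.card B ≤ Nat.card X ∧ Nat.card ↥(B ⊓ D) < Nat.card ↥(H ⊓ D) := by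
    have hBpos : 0 < Nat.card B := Nat.card_pos
    have hYpos : 0 < Nat.card Y := Nat.card_pos
    have hDpos : 0 < Nat.card ↥(B ⊓ D) := Nat.card_pos
    set i := D.relIndex B
    set j := B'.relIndex B
    set k := (H ⊓ D).relIndex Y
    have hmono : Nat.card B * j ≤ Nat.card H := c4 ▸ Nat.mul_le_mul_left _ hHB
    have hd : Nat.card ↥(B ⊓ D) * j ≤ Nat.card ↥(H ⊓ D) := by
      have hi : 0 < i := Nat.pos_of_ne_zero (hne0 _ _)
      refine Nat.le_of_mul_le_mul_right ?_ hi
      rw [c1, Nat.mul_right_comm, c2]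
      exact hmono
    have hj : 1 < j := by
      by_contra hcon
      have : Nat.card Y * j ≤ Nat.card Y * 1 := Nat.mul_le_mul_left _ (by omega)
      omega
    refine ⟨?_, lt_of_lt_of_le ?_ hd⟩
    · refine le_trans ?_ (c6 ▸ Nat.mul_le_mul_left _ hYX : Nat.card ↥(H ⊓ D) * k ≤ Nat.card X)
      rw [← c3]
      refine le_trans ?_ (Nat.mul_le_mul_right k hd)
      have h7 : Nat.card Y ≤ Nat.card ↥(B ⊓ D) * k := by
        rw [← c5]; exact Nat.mul_le_mul_right _ h4
      calc Nat.card Y * j ≤ Nat.card ↥(B ⊓ D) * k * j := Nat.mul_le_mul_right _ h7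
        _ = Nat.card ↥(B ⊓ D) * j * k := Nat.mul_right_comm _ _ _
    · exact (Nat.lt_mul_iff_one_lt_right hDpos).2 hj
  have hXmax : X ∈ Cfsg.maxAbelianSubgroups S := ⟨hXab, fun C hC => (hB.2 C hC).trans key.1⟩
  have hXN : X ≤ Subgroup.normalClosure (A : Set S) :=
    sup_le (inf_le_left.trans hBN) (inf_le_left.trans (sup_le hBN hB'N))
  have h5 := hBmax X ⟨hXmax, hXN⟩
  have h6 : Nat.card ↥(H ⊓ D) ≤ Nat.card ↥(X ⊓ D) :=
    Nat.card_mono (Set.toFinite _) fun x hx => ⟨Subgroup.mem_sup_right hx, hx.2⟩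
  replace h5 : Nat.card ↥(X ⊓ D) ≤ Nat.card ↥(B ⊓ D) := h5
  omega

end Cfsg.Agent.S3063
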