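import Cfsg.Statements.S3064
import Cfsg.Agent.Lib.Coprime.Frobenius
import Cfsg.Agent.Lib.Fusion.Transfer
import Cfsg.Agent.Lib.Fusion.Sylow
-- import your own Cfsg.Agent.* helpers here

set_option autoImplicit false
open Cfsg

namespace Cfsg.Agent.S3064

private theorem step {G : Type*} [Group G] [Finite G] {p : ℕ} [Fact p.Prime] (x : G)
    (hxp : ∃ k, orderOf x = p ^ k)
    (hiso : ∀ P : Subgroup G, IsPGroup p P → x ∈ P → ∀ g : G, g * x * g⁻¹ ∈ P → g * x * g⁻¹ = x)
    (hb : ∀ H : Subgroup G, (Nat.card H).Coprime p → (∀ h ∈ H, x * h * x⁻¹ ∈ H) → ∀ h ∈ H, x * h = h * x)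
    (hmin : ∀ H : Subgroup G, H ≠ ⊤ → x ∈ H → ∀ h ∈ H, x * h = h * x) :
    x ∈ Subgroup.center G := by
  classical
  by_contra hxc
  have hpp : p.Prime := Fact.out
  set M := Subgroup.centralizer ({x} : Set G) with hM
  have hxM : x ∈ M := Subgroup.mem_centralizer_singleton_iff.2 rfl
  have hMtop : M ≠ ⊤ := fun e => hxc (Subgroup.mem_center_iff.2 fun g =>
    Subgroup.mem_centralizer_singleton_iff.1 (e.ge (Subgroup.mem_top g)))
  have hmax : ∀ H : Subgroup G, H ≠ ⊤ → x ∈ H → H ≤ M := fun H hH hx h hh =>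
    Subgroup.mem_centralizer_singleton_iff.2 (hmin H hH hx h hh).symm
  set Z := Subgroup.center G with hZ
  have hZM : Z ≤ M := fun z hz =>
    Subgroup.mem_centralizer_singleton_iff.2 (Subgroup.mem_center_iff.1 hz x).symm
  obtain ⟨k, hk⟩ := hxp
  have hxzp : IsPGroup p (Subgroup.zpowers x) := IsPGroup.of_card (n := k) (by rw [Nat.card_zpowers, hk])
  -- `M` meets its other conjugates in the centre
  have hTI : ∀ g : G, g ∉ M → ∀ u ∈ M, g⁻¹ * u * g ∈ M → u ∈ Z := by
    intro g hg u hu hgu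
    by_contra huZ
    set y := g * x * g⁻¹ with hy
    set Cu := Subgroup.centralizer ({u} : Set G) with hCu
    have hCtop : Cu ≠ ⊤ := fun e => huZ (Subgroup.mem_center_iff.2 fun w =>
      (Subgroup.mem_centralizer_singleton_iff.1 (e.ge (Subgroup.mem_top w))))
    have hxu : x ∈ Cu :=
      Subgroup.mem_centralizer_singleton_iff.2 (Subgroup.mem_centralizer_singleton_iff.1 hu).symm
    have hyu : y ∈ Cu := by
      refine Subgroup.mem_centralizer_singleton_iff.2 ?_
      have h1 := Subgroup.mem_centralizer_singleton_iff.1 hgu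
      calc y * u = g * (x * (g⁻¹ * u * g)) * g⁻¹ := by rw [hy]; group
        _ = g * ((g⁻¹ * u * g) * x) * g⁻¹ := by rw [h1]
        _ = u * y := by rw [hy]; group
    have hxy := Subgroup.mem_centralizer_singleton_iff.1 (hmax Cu hCtop hxu hyu)
    have hyzp : IsPGroup p (Subgroup.zpowers y) := IsPGroup.of_card (n := k) (by
      rw [Nat.card_zpowers, ← hk]; exact MulEquiv.orderOf_eq (MulAut.conj g) x)
    have hn : Subgroup.zpowers y ≤ Subgroup.normalizer ((Subgroup.zpowers x : Subgroup G) : Set G) := by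
      refine le_trans ?_ (Subgroup.centralizer_le_normalizer _)
      rw [Subgroup.zpowers_eq_closure x, Subgroup.centralizer_closure, Subgroup.zpowers_le]
      exact Subgroup.mem_centralizer_singleton_iff.2 hxy
    have h2 := hiso _ (hxzp.to_sup_of_normal_left' hyzp hn) (Subgroup.mem_sup_left (Subgroup.mem_zpowers x)) g
      (Subgroup.mem_sup_right (Subgroup.mem_zpowers y))
    exact hg (Subgroup.mem_centralizer_singleton_iff.2 (mul_inv_eq_iff_eq_mul.1 h2))
  let f := QuotientGroup.mk' Z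
  set Mb := M.map f with hMb
  have hcm : Mb.comap f = M := by
    rw [hMb, Subgroup.comap_map_eq, QuotientGroup.ker_mk']
    exact sup_eq_left.2 hZM
  have hxb : f x ∈ Mb := Subgroup.mem_map_of_mem f hxM
  have hxb1 : f x ≠ 1 := fun e => hxc ((QuotientGroup.eq_one_iff x).1 e)
  have hF : Cfsg.IsFrobeniusComplement Mb := by
    refine ⟨fun e => hxb1 (Subgroup.mem_bot.1 (e ▸ hxb)), fun e => hMtop (by rw [← hcm, e, Subgroup.comap_top]), fun gb hgb => ?_⟩
    obtain ⟨g, rfl⟩ := QuotientGroup.mk_surjective gb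
    have hg : g ∉ M := fun h => hgb (Subgroup.mem_map_of_mem f h)
    rw [Subgroup.eq_bot_iff_forall]
    rintro w ⟨hw1, hw2⟩
    rw [← CfsgLib.Coprime.conjBy_eq_smul] at hw2
    replace hw2 := CfsgLib.Coprime.mem_conjBy.1 hw2
    obtain ⟨u, hu, rfl⟩ := hw1
    have h3 : g⁻¹ * u * g ∈ M := hcm.le (show f (g⁻¹ * u * g) ∈ Mb by rw [map_mul, map_mul, map_inv]; exact hw2)
    exact (QuotientGroup.eq_one_iff u).2 (hTI g hg u hu h3)
  obtain ⟨Nb, hNK, hNn, hNc⟩ := CfsgLib.Coprime.frob_kernel_subgroup hF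
  haveI := hNn
  set K := Nb.comap f with hK
  haveI hKn : K.Normal := hNn.comap f
  have hKx : K ⊔ Subgroup.zpowers x = ⊤ := by
    by_contra hne
    refine hF.2.1 (eq_top_iff.2 ?_)
    rw [← hNc.sup_eq_top]
    refine sup_le ?_ le_rfl
    intro w hw
    obtain ⟨g, rfl⟩ := QuotientGroup.mk_surjective w
    exact Subgroup.mem_map_of_mem f (hmax _ hne (Subgroup.mem_sup_right (Subgroup.mem_zpowers x)) (Subgroup.mem_sup_left hw))
  have hMp : IsPGroup p Mb := by
    intro w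
    obtain ⟨u, hu, huw⟩ := w.2
    obtain ⟨a, ha, b, hb', rfl⟩ := (Subgroup.normal_mul K (Subgroup.zpowers x)).le (hKx ▸ Subgroup.mem_top u : u ∈ K ⊔ Subgroup.zpowers x)
    have haM : f a ∈ Mb := by
      have h4 : f b ∈ Mb := Subgroup.mem_map_of_mem f (Subgroup.zpowers_le.2 hxM hb')
      have h5 : f a * f b ∈ Mb := by rw [← map_mul, huw]; exact w.2
      simpa using Mb.mul_mem h5 (Mb.inv_mem h4)
    have ha1 : f a = 1 := CfsgLib.Coprime.frob_kernel_inter (hNK ▸ (show f a ∈ (Nb : Set (G ⧸ Z)) from ha)) haM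
    refine ⟨k, Subtype.ext ?_⟩
    obtain ⟨i, rfl⟩ := hb'
    show (w : G ⧸ Z) ^ p ^ k = 1
    have e1 : (x ^ i) ^ p ^ k = 1 := by
      rw [← zpow_natCast, ← zpow_mul, mul_comm, zpow_mul, zpow_natCast, ← hk, pow_orderOf_eq_one, one_zpow]
    rw [← huw, map_mul, ha1, one_mul, ← map_pow, e1, map_one]
  have hNp : ¬ p ∣ Nat.card Nb := by
    have h1 : Nat.card Nb = Mb.index := by
      rw [← Nat.mul_left_inj (Nat.card_pos (α := Mb)).ne', hNc.card_mul_card, mul_comm, Subgroup.card_mul_index]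
    have h2 : p ∣ Nat.card Mb := by
      haveI : Nontrivial Mb := (Subgroup.nontrivial_iff_ne_bot _).2 hF.1
      obtain ⟨m, hm, hm'⟩ := hMp.nontrivial_iff_card.1 inferInstance
      rw [hm']; exact dvd_pow_self p hm.ne'
    intro hd
    exact hpp.ne_one (Nat.dvd_one.1 (CfsgLib.Coprime.frob_coprime_card_index hF ▸ Nat.dvd_gcd h2 (h1 ▸ hd)))
  -- `p`-elements of `K` are central
  have hpel : ∀ w ∈ K, (∃ m, orderOf w = p ^ m) → w ∈ Z := by
    intro w hw ⟨m, hm⟩
    refine (QuotientGroup.eq_one_iff w).1 (orderOf_eq_one_iff.1 ?_)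
    have h1 : orderOf (f w) ∣ p ^ m := hm ▸ orderOf_map_dvd f w
    have h2 : orderOf (f w) ∣ Nat.card Nb := Subgroup.orderOf_dvd_natCard Nb hw
    exact Nat.eq_one_of_dvd_coprimes ((hpp.coprime_iff_not_dvd.2 hNp).pow_left m) h1 h2
  obtain ⟨P⟩ := (inferInstance : Nonempty (Sylow p K))
  have hPZ : ∀ w ∈ (P : Subgroup K), (w : G) ∈ Z := fun w hw => by
    obtain ⟨m, hm⟩ := IsPGroup.iff_orderOf.1 P.2 ⟨w, hw⟩
    exact hpel w w.2 ⟨m, by rw [← hm, Subgroup.orderOf_coe, ← Subgroup.orderOf_coe (⟨w, hw⟩ : (P : Subgroup K))]⟩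
  obtain ⟨Q, C, hCn, hCc⟩ := CfsgLib.Fusion.hasNormalPComplement_of_normalizer_le_centralizer P fun n _ =>
    Subgroup.mem_centralizer_iff.2 fun w hw => Subtype.ext (Subgroup.mem_center_iff.1 (hPZ w hw) n).symm
  haveI := hCn
  have hQZ : ∀ w ∈ (Q : Subgroup K), (w : G) ∈ Z := fun w hw => by
    obtain ⟨m, hm⟩ := IsPGroup.iff_orderOf.1 Q.2 ⟨w, hw⟩
    exact hpel w w.2 ⟨m, by rw [← hm, Subgroup.orderOf_coe, ← Subgroup.orderOf_coe (⟨w, hw⟩ : (Q : Subgroup K))]⟩
  have hCi : C.index = Nat.card (Q : Subgroup K) := hCc.symm.index_eq_card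
  have hCp : (Nat.card C).Coprime p := by
    have h1 : (Q : Subgroup K).index = Nat.card C := hCc.index_eq_card
    rw [← h1]
    exact (hpp.coprime_iff_not_dvd.2 Q.not_dvd_index).symm
  have hcen : ∀ h ∈ C.map K.subtype, x * h = h * x := by
    refine hb _ (by rwa [Subgroup.card_map_of_injective K.subtype_injective]) ?_
    rintro _ ⟨c, hc, rfl⟩
    let d : K := ⟨x * c * x⁻¹, hKn.conj_mem _ c.2 x⟩
    refine ⟨d, (?_ : d ∈ C), rfl⟩
    rw [← QuotientGroup.eq_one_iff, ← orderOf_eq_one_iff]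
    have h1 : orderOf (QuotientGroup.mk (s := C) d) ∣ Nat.card C := by
      refine (orderOf_map_dvd (QuotientGroup.mk' C) d).trans ?_
      rw [← Subgroup.orderOf_coe d, show ((d : K) : G) = MulAut.conj x (c : G) from rfl, MulEquiv.orderOf_eq, Subgroup.orderOf_coe]
      exact Subgroup.orderOf_dvd_natCard C hc
    have h2 : orderOf (QuotientGroup.mk (s := C) d) ∣ C.index := orderOf_dvd_natCard _
    obtain ⟨m, hm⟩ := Q.2.exists_card_eq
    rw [hCi, hm] at h2
    exact Nat.eq_one_of_dvd_coprimes (hCp.pow_right m) h1 h2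
  -- `x` centralizes `K`, hence `G`
  refine hxc (Subgroup.mem_center_iff.2 fun g => ?_)
  obtain ⟨a, ha, b, hb', rfl⟩ := (Subgroup.normal_mul K (Subgroup.zpowers x)).le (hKx ▸ Subgroup.mem_top g : g ∈ K ⊔ Subgroup.zpowers x)
  obtain ⟨c, hc, q, hq, hcq⟩ := (Subgroup.normal_mul C (Q : Subgroup K)).le (hCc.sup_eq_top ▸ Subgroup.mem_top (⟨a, ha⟩ : K) : (⟨a, ha⟩ : K) ∈ C ⊔ (Q : Subgroup K))
  have e1 : (c : G) * q = a := congrArg Subtype.val hcq
  have hxa : Commute x a := by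
    rw [← e1]
    exact Commute.mul_right (hcen _ ⟨c, hc, rfl⟩) (Subgroup.mem_center_iff.1 (hQZ q hq) x)
  obtain ⟨i, rfl⟩ := hb'
  exact (hxa.mul_right ((Commute.refl x).zpow_right i)).symm

/-- Let S be a Sylow p-subgroup of the finite group G and x an element of S such that (i) x is the only G-conjugate of x lying in S, and (ii) x centralizes every subgroup of order prime to p that it normalizes. Then x lies in the centre of G. -/
theorem result {G : Type*} [Group G] [Finite G] {p : ℕ} [Fact p.Prime]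
    (S : Sylow p G) (x : G) (hx : x ∈ S)
    (hU : ∀ g : G, g⁻¹ * x * g ∈ S → g⁻¹ * x * g = x)
    (hb : ∀ H : Subgroup G, (Nat.card H).Coprime p → (∀ h ∈ H, x * h * x⁻¹ ∈ H) → ∀ h ∈ H, x * h = h * x) :
    x ∈ Subgroup.center G := by
  classical
  obtain ⟨m, hm⟩ := IsPGroup.iff_orderOf.1 S.2 ⟨x, hx⟩
  have hxp : ∃ k, orderOf x = p ^ k := ⟨m, by rw [← hm, ← Subgroup.orderOf_coe (⟨x, hx⟩ : (S : Subgroup G))]⟩
  have hU' : ∀ g : G, g * x * g⁻¹ ∈ (S : Subgroup G) → g * x * g⁻¹ = x := fun g h => by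
    have := hU g⁻¹ (by rw [inv_inv]; exact h)
    rwa [inv_inv] at this
  have hiso : ∀ P : Subgroup G, IsPGroup p P → x ∈ P → ∀ g : G, g * x * g⁻¹ ∈ P → g * x * g⁻¹ = x := by
    intro P hP hxP g hg
    obtain ⟨Q, hQ⟩ := hP.exists_le_sylow
    obtain ⟨k, hk⟩ := MulAction.exists_smul_eq G Q S
    have hmem : ∀ w ∈ P, k * w * k⁻¹ ∈ (S : Subgroup G) := fun w hw => by
      rw [← hk]; exact CfsgLib.Fusion.conj_mem_conjBy (g := k) (hQ hw)
    have h1 := hU' k (hmem x hxP)
    have h2 := hU' (k * g) (by convert hmem _ hg using 1; group)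
    calc g * x * g⁻¹ = k⁻¹ * (k * g * x * (k * g)⁻¹) * k := by group
      _ = k⁻¹ * (k * x * k⁻¹) * k := by rw [h2, h1]
      _ = x := by group
  suffices key : ∀ (H : Subgroup G) (hxH : x ∈ H), (⟨x, hxH⟩ : H) ∈ Subgroup.center H by
    refine Subgroup.mem_center_iff.2 fun g => ?_
    exact congrArg Subtype.val (Subgroup.mem_center_iff.1 (key ⊤ (Subgroup.mem_top x)) ⟨g, Subgroup.mem_top g⟩)
  intro H
  induction hn : Nat.card H using Nat.strong_induction_on generalizing H with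
  | _ n ih =>
  subst hn
  intro hxH
  refine step (G := H) (p := p) _ ?_ ?_ ?_ ?_
  · obtain ⟨k, hk⟩ := hxp
    exact ⟨k, by rw [← hk, ← Subgroup.orderOf_coe]⟩
  · intro P hP hxP g hg
    refine Subtype.ext ?_
    exact hiso (P.map H.subtype) (hP.map _) ⟨⟨x, hxH⟩, hxP, rfl⟩ g ⟨_, hg, rfl⟩
  · intro K hK hinv h hh
    refine Subtype.ext ?_
    refine hb (K.map H.subtype) (by rwa [Subgroup.card_map_of_injective H.subtype_injective]) ?_ h ⟨h, hh, rfl⟩
    rintro _ ⟨w, hw, rfl⟩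
    exact ⟨_, hinv w hw, rfl⟩
  · intro K hK hxK h hh
    have hlt : Nat.card ↥(K.map H.subtype) < Nat.card H := by
      rw [Subgroup.card_map_of_injective H.subtype_injective]
      exact lt_of_not_ge fun hge => hK (Subgroup.eq_top_of_le_card K hge)
    have h1 := ih _ hlt (K.map H.subtype) rfl ⟨⟨x, hxH⟩, hxK, rfl⟩
    refine Subtype.ext ?_
    exact (congrArg (fun w : K.map H.subtype => (w : G)) (Subgroup.mem_center_iff.1 h1 ⟨(h : G), h, hh, rfl⟩)).symm

end Cfsg.Agent.S3064
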