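import Cfsg.Statements.S3067
import Cfsg.Agent.Lib.Coprime.Action
import Cfsg.Agent.Lib.Invol.ZStar

/-!
S3067.  Suppose `α` fixes `C(τ)` pointwise and let `H` be its fixed subgroup.  Coprimality shows that
`H` controls the conjugates of `τ` lying in it and, via the `P × Q` lemma, that every `α`-invariant
2-subgroup lies in `H`.  Counting the pairs `u, v` of conjugates of `τ` with `uH = vH` in two ways
gives `|τ^G ∩ H| = 1`, so Glauberman's Z*-theorem finishes.
-/

set_option autoImplicit false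
open Cfsg

namespace Cfsg.Agent.S3067

universe u

variable {G : Type u} [Group G]

private def fixSub (α : MulAut G) : Subgroup G where
  carrier := {g | α g = g}
  one_mem' := map_one α
  mul_mem' := fun {a b} (ha : α a = a) (hb : α b = b) => by
    show α (a * b) = a * b
    rw [map_mul, ha, hb]
  inv_mem' := fun {a} (ha : α a = a) => by
    show α a⁻¹ = a⁻¹
    rw [map_inv, ha]

private def extCentralizer (k : G) : Subgroup G where
  carrier := {y | y * k * y⁻¹ = k ∨ y * k * y⁻¹ = k⁻¹}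
  one_mem' := Or.inl (by group)
  mul_mem' := fun {a b} ha hb => by
    have e : a * b * k * (a * b)⁻¹ = a * (b * k * b⁻¹) * a⁻¹ := by group
    have e' : a * k⁻¹ * a⁻¹ = (a * k * a⁻¹)⁻¹ := by group
    rcases ha with ha | ha <;> rcases hb with hb | hb
    · exact Or.inl (by rw [e, hb, ha])
    · exact Or.inr (by rw [e, hb, e', ha])
    · exact Or.inr (by rw [e, hb, ha])
    · exact Or.inl (by rw [e, hb, e', ha, inv_inv])
  inv_mem' := fun {a} ha => by
    rcases ha with ha | ha
    · exact Or.inl (by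
        conv_lhs => rw [← ha]
        group)
    · refine Or.inr ?_
      have e : k = (a * k * a⁻¹)⁻¹ := by rw [ha, inv_inv]
      conv_lhs => rw [e]
      group

/-- In a coprime situation an element moved by a fixed factor is fixed. -/
private theorem fixed_of_mul_fixed [Finite G] (α : MulAut G)
    (hcop : (orderOf α).Coprime (Nat.card G)) {d : G} (h : α (d⁻¹ * α d) = d⁻¹ * α d) :
    α d = d := by
  set e := d⁻¹ * α d with he
  have hd : α d = d * e := by rw [he, mul_inv_cancel_left]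
  have hn : ∀ n : ℕ, (α ^ n) d = d * e ^ n := by
    intro n
    induction n with
    | zero => simp
    | succ n ih => rw [pow_succ', MulAut.mul_apply, ih, map_mul, map_pow, h, hd, mul_assoc, ← pow_succ']
  have h1 := hn (orderOf α)
  rw [pow_orderOf_eq_one, MulAut.one_apply] at h1
  have h2 : e ^ orderOf α = 1 := mul_left_cancel (h1.symm.trans (mul_one d).symm)
  have h3 : orderOf e = 1 := Nat.dvd_one.1
    (hcop.gcd_eq_one ▸ Nat.dvd_gcd (orderOf_dvd_of_pow_eq_one h2) (orderOf_dvd_natCard e))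
  rw [hd, orderOf_eq_one_iff.1 h3, mul_one]

/-- The two counting steps are instances of this bijection. -/
private theorem conj_count [Finite G] (H L : Subgroup G) (X : Set G)
    (hinv : ∀ c ∈ L, ∀ x ∈ X, c * x * c⁻¹ ∈ X)
    (hsurj : ∀ x ∈ X, ∃ c ∈ L, c * x * c⁻¹ ∈ H)
    (hrig : ∀ x ∈ X, x ∈ H → ∀ d ∈ L, d * x * d⁻¹ ∈ H → d ∈ H) :
    Nat.card X * Nat.card ↥(H ⊓ L) = Nat.card L * Nat.card ↥(X ∩ (H : Set G)) := by
  classical
  choose c hcL hcH using hsurj
  let f : X × ↥(H ⊓ L) → L × ↥(X ∩ (H : Set G)) := fun p =>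
    (⟨(c p.1 p.1.2)⁻¹ * p.2, mul_mem (inv_mem (hcL _ _)) p.2.2.2⟩,
     ⟨(p.2 : G)⁻¹ * (c p.1 p.1.2 * p.1 * (c p.1 p.1.2)⁻¹) * p.2,
      by simpa using hinv _ (inv_mem p.2.2.2) _ (hinv _ (hcL _ _) _ p.1.2),
      mul_mem (mul_mem (inv_mem p.2.2.1) (hcH _ _)) p.2.2.1⟩)
  rw [← Nat.card_prod, ← Nat.card_prod]
  refine Nat.card_eq_of_bijective f ⟨?_, ?_⟩
  · rintro ⟨⟨x, hx⟩, ⟨d, hd⟩⟩ ⟨⟨x', hx'⟩, ⟨d', hd'⟩⟩ h
    simp only [f, Prod.mk.injEq, Subtype.mk.injEq] at h
    have h2 := congrArg Subtype.val h.2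
    dsimp only at h2
    have e : ∀ (y : G) (hy : y ∈ X) (z : G),
        (c y hy)⁻¹ * z * (z⁻¹ * (c y hy * y * (c y hy)⁻¹) * z) * ((c y hy)⁻¹ * z)⁻¹ = y := by
      intros; group
    have hxx : x = x' := by
      rw [← e x hx d, ← e x' hx' d', h.1, h2]
    subst hxx
    have := mul_left_cancel h.1
    subst this
    rfl
  · rintro ⟨⟨b, hb⟩, ⟨t, htX, htH⟩⟩
    have hx : b * t * b⁻¹ ∈ X := hinv b hb t htX
    have hd : c _ hx * b ∈ H := by
      refine hrig t htX htH _ (mul_mem (hcL _ hx) hb) ?_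
      simpa [mul_assoc] using hcH _ hx
    refine ⟨(⟨_, hx⟩, ⟨c _ hx * b, hd, mul_mem (hcL _ hx) hb⟩), ?_⟩
    simp only [f, Prod.mk.injEq, Subtype.mk.injEq]
    constructor <;> group

/-- `|C||H| ≤ |G||H ∩ C|`, with equality only when `G = CH`. -/
private theorem coset_bound [Finite G] (H C : Subgroup G) :
    Nat.card C * Nat.card H ≤ Nat.card G * Nat.card ↥(H ⊓ C) ∧
      (Nat.card C * Nat.card H = Nat.card G * Nat.card ↥(H ⊓ C) →
        ∀ g : G, ∃ c ∈ C, c⁻¹ * g ∈ H) := by
  let f : C ⧸ H.subgroupOf C → G ⧸ H := Quotient.map' Subtype.val fun a b h => by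
    rw [QuotientGroup.leftRel_apply] at h ⊢
    simpa [Subgroup.mem_subgroupOf] using h
  have hf : Function.Injective f := by
    rintro ⟨a⟩ ⟨b⟩ h
    refine Quotient.sound' ?_
    rw [QuotientGroup.leftRel_apply, Subgroup.mem_subgroupOf]
    simpa using QuotientGroup.eq.1 (show ((a : G) : G ⧸ H) = (b : G) from h)
  have hD : Nat.card ↥(H.subgroupOf C) = Nat.card ↥(H ⊓ C) := by
    rw [← Subgroup.inf_subgroupOf_right]
    exact Nat.card_congr (Subgroup.subgroupOfEquivOfLe inf_le_right).toEquiv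
  have hC := Subgroup.card_eq_card_quotient_mul_card_subgroup (H.subgroupOf C)
  have hG := Subgroup.card_eq_card_quotient_mul_card_subgroup H
  refine ⟨?_, fun heq g => ?_⟩
  · rw [hC, hG, hD]
    calc _ ≤ Nat.card (G ⧸ H) * Nat.card ↥(H ⊓ C) * Nat.card H :=
          Nat.mul_le_mul_right _ (Nat.mul_le_mul_right _ (Nat.card_le_card_of_injective f hf))
      _ = _ := by ring
  · have h1 : Nat.card (C ⧸ H.subgroupOf C) = Nat.card (G ⧸ H) := by
      refine Nat.eq_of_mul_eq_mul_right (Nat.mul_pos (Nat.card_pos (α := ↥(H ⊓ C)))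
        (Nat.card_pos (α := H))) ?_
      rw [hC, hG, hD] at heq
      linear_combination heq
    obtain ⟨⟨c⟩, hc⟩ := ((Nat.bijective_iff_injective_and_card f).2 ⟨hf, h1⟩).2 (g : G ⧸ H)
    exact ⟨c, c.2, QuotientGroup.eq.1 hc⟩

open CfsgLib CfsgLib.Coprime in
/-- If `α` fixes `C(τ)`, every `α`-invariant 2-subgroup is fixed; invariant subgroups have invariant
Sylow 2-subgroups. -/
private theorem two_sylow_fixed [Finite G] (α : MulAut G)
    (hcop : (orderOf α).Coprime (Nat.card G)) {τ : G} (hτ : orderOf τ = 2)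
    (hfix : ∀ c ∈ Subgroup.centralizer ({τ} : Set G), α c = c)
    (Y : Subgroup G) (hY : ∀ y ∈ Y, α y ∈ Y) :
    ∃ T : Sylow 2 Y, ∀ t : Y, t ∈ (T : Subgroup Y) → α t = t := by
  haveI : Fact (Nat.Prime 2) := ⟨Nat.prime_two⟩
  let φ : ↥(Subgroup.zpowers α) →* MulAut G := (Subgroup.zpowers α).subtype
  let Γ := G ⋊[φ] ↥(Subgroup.zpowers α)
  haveI : Finite (MulAut G) := Finite.of_injective (fun a : MulAut G => (a : G → G))
    DFunLike.coe_injective
  haveI : Finite Γ := Finite.of_equiv _ SemidirectProduct.equivProd.symm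
  let ι : G →* Γ := SemidirectProduct.inl
  have hι : Function.Injective ι := SemidirectProduct.inl_injective
  let a : Γ := SemidirectProduct.inr ⟨α, Subgroup.mem_zpowers α⟩
  have ha : ∀ g, a * ι g * a⁻¹ = ι (α g) := fun g => by
    rw [show α g = φ ⟨α, Subgroup.mem_zpowers α⟩ g from rfl]
    simp only [a, ι]
    rw [← map_inv]
    exact (SemidirectProduct.inl_aut _ _).symm
  set A : Subgroup Γ := Subgroup.zpowers a with hA
  have hAcard : Nat.card A = orderOf α := by
    rw [hA, Nat.card_zpowers, orderOf_injective _ SemidirectProduct.inr_injective,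
      Subgroup.orderOf_mk]
  have hAsolv : Group.IsSolvable A := isSolvable_of_isMulCommutative inferInstance
  have hnorm : ∀ Z : Subgroup G, (∀ z ∈ Z, α z ∈ Z) →
      A ≤ Subgroup.normalizer ((Z.map ι : Subgroup Γ) : Set Γ) := by
    intro Z hZ
    rw [hA, Subgroup.zpowers_le]
    refine Subgroup.mem_normalizer_iff_map_conj_eq.2 (Subgroup.eq_of_le_of_card_ge ?_ ?_)
    · rintro _ ⟨_, ⟨z, hz, rfl⟩, rfl⟩
      exact ⟨α z, hZ z hz, by simp [ha]⟩
    · exact le_of_eq (Subgroup.card_map_of_injective (f := (MulAut.conj a).toMonoidHom)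
        (MulAut.conj a).injective).symm
  have hcard : ∀ Z : Subgroup G, (Nat.card A).Coprime (Nat.card ↥(Z.map ι)) := fun Z => by
    rw [hAcard, Subgroup.card_map_of_injective hι]
    exact hcop.coprime_dvd_right (Subgroup.card_subgroup_dvd_card Z)
  have hfixA : ∀ g, α g = g ↔ ι g ∈ Subgroup.centralizer (A : Set Γ) := by
    intro g
    rw [hA, Subgroup.mem_centralizer_iff]
    constructor
    · intro h x hx
      obtain ⟨n, rfl⟩ := Subgroup.mem_zpowers_iff.1 hx
      refine Commute.zpow_left ?_ n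
      show a * ι g = ι g * a
      exact mul_inv_eq_iff_eq_mul.1 (by rw [ha, h])
    · intro h
      refine hι ?_
      rw [← ha, h a (Subgroup.mem_zpowers a), mul_inv_cancel_right]
  have hGtop : A ≤ Subgroup.normalizer (((⊤ : Subgroup G).map ι : Subgroup Γ) : Set Γ) :=
    hnorm ⊤ fun _ _ => Subgroup.mem_top _
  have hτ2 : IsPGroup 2 ↥((Subgroup.zpowers τ).map ι) :=
    (IsPGroup.of_card (n := 1) (by rw [Nat.card_zpowers, hτ, pow_one])).map ι
  have hατ : α τ = τ := hfix τ (Subgroup.mem_centralizer_singleton_iff.2 rfl)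
  obtain ⟨S, hS, hτS, hSA⟩ := le_invariant_sylow hGtop (hcard ⊤) (Or.inl hAsolv)
    (Subgroup.map_mono le_top) hτ2 (hnorm _ fun z hz => by
      obtain ⟨n, rfl⟩ := Subgroup.mem_zpowers_iff.1 hz
      rw [map_zpow, hατ]; exact Subgroup.zpow_mem_zpowers τ n)
  have hSfix : S ≤ Subgroup.centralizer (A : Set Γ) := by
    refine Subgroup.le_centralizer_iff.1 (pq_lemma (P := (Subgroup.zpowers τ).map ι) hτ2 ?_
      hS.isPGroup ?_ (hτS.trans Subgroup.le_normalizer) hSA ?_)
    · rw [hAcard]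
      refine hcop.coprime_dvd_right ?_
      rw [← hτ]; exact orderOf_dvd_natCard τ
    · rintro _ ⟨z, hz, rfl⟩
      refine (hfixA z).1 (hfix z ?_)
      obtain ⟨n, rfl⟩ := Subgroup.mem_zpowers_iff.1 hz
      exact Subgroup.mem_centralizer_singleton_iff.2 ((Commute.self_zpow τ n).eq.symm)
    · rintro x ⟨hxS, hxC⟩
      obtain ⟨g, -, rfl⟩ := hS.1 hxS
      refine (hfixA g).1 (hfix g (Subgroup.mem_centralizer_singleton_iff.2 (hι ?_)))
      have := Subgroup.mem_centralizer_iff.1 hxC (ι τ)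
        (Subgroup.mem_map_of_mem ι (Subgroup.mem_zpowers τ))
      rw [map_mul, map_mul, this]
  obtain ⟨P, hP, hPA⟩ := exists_invariant_sylow (hnorm Y hY) (hcard Y) (Or.inl hAsolv) 2
  obtain ⟨Q, hQ, hPQ, hQA⟩ := le_invariant_sylow hGtop (hcard ⊤) (Or.inl hAsolv)
    (hP.1.trans (Subgroup.map_mono le_top)) hP.isPGroup hPA
  obtain ⟨c, hc, hcQ⟩ := invariant_sylow_conj hGtop (hcard ⊤) (Or.inl hAsolv) hS hQ hSA hQA
  have hPfix : P ≤ Subgroup.centralizer (A : Set Γ) := by
    intro x hx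
    have hx' : x ∈ Coprime.conjBy c S := hcQ ▸ hPQ hx
    rw [mem_conjBy] at hx'
    have : x = c * (c⁻¹ * x * c) * c⁻¹ := by simp [mul_assoc]
    rw [this]
    exact mul_mem (mul_mem hc.2 (hSfix hx')) (inv_mem hc.2)
  let e : ↥Y ≃* ↥(Y.map ι) := Y.equivMapOfInjective ι hι
  refine ⟨hP.toSylow.comapOfInjective e.toMonoidHom e.injective
    (by rw [MonoidHom.range_eq_top.2 e.surjective]; exact le_top), fun t ht => (hfixA t).2 (hPfix ?_)⟩
  have h1 : e t ∈ (hP.toSylow : Subgroup ↥(Y.map ι)) := ht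
  rw [← hP.map_toSylow]
  exact ⟨e t, h1, rfl⟩

/-- Let G be a finite non-abelian simple group, τ an involution of G, and α a nontrivial automorphism of G whose order is coprime to the order of G. Then α moves some element of the centralizer of τ: α does not fix C_G(τ) elementwise. -/
theorem result {G : Type*} [Group G] [Finite G] [IsSimpleGroup G]
    (hG : ¬ IsMulCommutative G) (τ : G) (hτ : orderOf τ = 2) (α : MulAut G) (hα : α ≠ 1)
    (hcop : (orderOf α).Coprime (Nat.card G)) :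
    ∃ c ∈ Subgroup.centralizer ({τ} : Set G), α c ≠ c := by
  classical
  by_contra hcon
  push Not at hcon
  haveI : Fact (Nat.Prime 2) := ⟨Nat.prime_two⟩
  haveI := Fintype.ofFinite G
  set H := fixSub α
  have memH : ∀ g, g ∈ H ↔ α g = g := fun g => Iff.rfl
  have hHtop : H ≠ ⊤ := fun h => hα (MulEquiv.ext fun g =>
    (memH g).1 (h ▸ Subgroup.mem_top g))
  have hτH : τ ∈ H := hcon τ (Subgroup.mem_centralizer_singleton_iff.2 rfl)
  let I : Set G := {u | IsConj τ u}
  -- `H` controls the conjugates of `τ` inside it and contains their centralisers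
  have h0 : ∀ d, d * τ * d⁻¹ ∈ H → d ∈ H := by
    intro d hd
    refine fixed_of_mul_fixed α hcop (hcon _ (Subgroup.mem_centralizer_singleton_iff.2 ?_))
    have h := (memH _).1 hd
    rw [map_mul, map_mul, map_inv, (memH τ).1 hτH] at h
    calc d⁻¹ * α d * τ = d⁻¹ * (α d * τ * (α d)⁻¹) * α d := by group
      _ = d⁻¹ * (d * τ * d⁻¹) * α d := by rw [h]
      _ = τ * (d⁻¹ * α d) := by group
  have hrig : ∀ x ∈ I, x ∈ H → ∀ d, d * x * d⁻¹ ∈ H → d ∈ H := by
    intro x hx hxH d hd
    obtain ⟨b, rfl⟩ := isConj_iff.1 hx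
    have hb := h0 b hxH
    have h1 := h0 (d * b) (by simpa [mul_assoc] using hd)
    simpa using mul_mem h1 (inv_mem hb)
  have hI2 : ∀ x ∈ I, orderOf x = 2 := by
    intro x hx
    obtain ⟨b, rfl⟩ := isConj_iff.1 hx
    rw [← hτ]
    exact MulEquiv.orderOf_eq (MulAut.conj b) τ
  have hIinv : ∀ c : G, ∀ x ∈ I, c * x * c⁻¹ ∈ I := fun c x hx =>
    hx.trans (isConj_iff.2 ⟨c, rfl⟩)
  let X : G → Set G := fun k => {u | u ∈ I ∧ u * k ∈ I}
  -- the inverters of a fixed element
  have hcount : ∀ k ∈ H, Nat.card (X k) *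
      Nat.card ↥(H ⊓ Subgroup.centralizer ({k} : Set G)) =
      Nat.card (Subgroup.centralizer ({k} : Set G)) * Nat.card ↥(X k ∩ (H : Set G)) := by
    intro k hk
    refine conj_count H _ _ ?_ ?_ (fun x hx hxH d _ => hrig x hx.1 hxH d)
    · intro c hc x hx
      refine ⟨hIinv c x hx.1, ?_⟩
      have hck : c * k = k * c := Subgroup.mem_centralizer_singleton_iff.1 hc
      have := hIinv c _ hx.2
      rwa [show c * (x * k) * c⁻¹ = c * x * c⁻¹ * k by
        rw [mul_assoc (c * x) c⁻¹ k, show c⁻¹ * k = k * c⁻¹ from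
          (Commute.inv_left (show Commute c k from hck)).eq]
        group] at this
    · intro x hx
      have hxx : x * x = 1 := by
        rw [← pow_two, ← hI2 x hx.1]; exact pow_orderOf_eq_one x
      have hxkk : x * k * (x * k) = 1 := by
        rw [← pow_two, ← hI2 _ hx.2]; exact pow_orderOf_eq_one _
      have hxi : x⁻¹ = x := inv_eq_of_mul_eq_one_right hxx
      have hinv : x * k * x⁻¹ = k⁻¹ := by
        rw [hxi]
        exact eq_inv_of_mul_eq_one_left (by rw [mul_assoc (x * k) x k]; exact hxkk)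
      have hxY : x ∈ extCentralizer k := Or.inr hinv
      have hYinv : ∀ y ∈ extCentralizer k, α y ∈ extCentralizer k := by
        intro y hy
        have hk' := (memH k).1 hk
        rcases hy with hy | hy
        · refine Or.inl ?_
          have := congrArg α hy
          rwa [map_mul, map_mul, map_inv, hk'] at this
        · refine Or.inr ?_
          have := congrArg α hy
          rwa [map_mul, map_mul, map_inv, map_inv, hk'] at this
      obtain ⟨T, hT⟩ := two_sylow_fixed α hcop hτ hcon _ hYinv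
      have hx2 : IsPGroup 2 ↥(Subgroup.zpowers (⟨x, hxY⟩ : extCentralizer k)) :=
        IsPGroup.of_card (n := 1) (by
          rw [Nat.card_zpowers, Subgroup.orderOf_mk, hI2 x hx.1, pow_one])
      obtain ⟨T', hT'⟩ := hx2.exists_le_sylow
      obtain ⟨y, hy⟩ := MulAction.exists_smul_eq (extCentralizer k) T' T
      have hyH : (y : G) * x * (y : G)⁻¹ ∈ H := by
        refine hT (y * ⟨x, hxY⟩ * y⁻¹) ?_
        rw [← hy, Sylow.coe_subgroup_smul]
        exact Subgroup.smul_mem_pointwise_smul _ _ _ (hT' (Subgroup.mem_zpowers _))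
      rcases y.2 with hyk | hyk
      · exact ⟨y, Subgroup.mem_centralizer_singleton_iff.2 (mul_inv_eq_iff_eq_mul.1 hyk), hyH⟩
      · refine ⟨(y : G) * x, Subgroup.mem_centralizer_singleton_iff.2
          (mul_inv_eq_iff_eq_mul.1 ?_), ?_⟩
        · rw [show (y : G) * x * k * ((y : G) * x)⁻¹ = (y : G) * (x * k * x⁻¹) * (y : G)⁻¹ by group,
            hinv, show (y : G) * k⁻¹ * (y : G)⁻¹ = ((y : G) * k * (y : G)⁻¹)⁻¹ by group, hyk,
            inv_inv]
        · convert hyH using 1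
          group
  set IH := Nat.card ↥(I ∩ (H : Set G))
  have hX1 : X 1 = I := by ext u; simp [X]
  have hle : ∀ k : H, Nat.card (X k) * Nat.card H ≤
      Nat.card G * Nat.card ↥(X k ∩ (H : Set G)) := by
    intro k
    have h1 := hcount k k.2
    set C := Subgroup.centralizer ({(k : G)} : Set G)
    have h2 := (coset_bound H C).1
    refine Nat.le_of_mul_le_mul_right ?_ (Nat.card_pos (α := ↥(H ⊓ C)))
    calc Nat.card (X k) * Nat.card H * Nat.card ↥(H ⊓ C)
        = Nat.card (X k) * Nat.card ↥(H ⊓ C) * Nat.card H := by ring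
      _ = Nat.card C * Nat.card H * Nat.card ↥(X k ∩ (H : Set G)) := by rw [h1]; ring
      _ ≤ Nat.card G * Nat.card ↥(H ⊓ C) * Nat.card ↥(X k ∩ (H : Set G)) :=
          Nat.mul_le_mul_right _ h2
      _ = _ := by ring
  have hlt : ∀ k : H, (k : G) ≠ 1 → (X k ∩ (H : Set G)).Nonempty →
      Nat.card (X k) * Nat.card H < Nat.card G * Nat.card ↥(X k ∩ (H : Set G)) := by
    intro k hk hne
    refine lt_of_le_of_ne (hle k) fun heq => ?_
    have h1 := hcount k k.2
    set C := Subgroup.centralizer ({(k : G)} : Set G)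
    haveI : Nonempty ↥(X k ∩ (H : Set G)) := hne.to_subtype
    have h2 : Nat.card C * Nat.card H = Nat.card G * Nat.card ↥(H ⊓ C) := by
      refine Nat.eq_of_mul_eq_mul_right (Nat.card_pos (α := ↥(X k ∩ (H : Set G)))) ?_
      calc Nat.card C * Nat.card H * Nat.card ↥(X k ∩ (H : Set G))
          = Nat.card C * Nat.card ↥(X k ∩ (H : Set G)) * Nat.card H := by ring
        _ = Nat.card (X k) * Nat.card H * Nat.card ↥(H ⊓ C) := by rw [← h1]; ring
        _ = _ := by rw [heq]; ring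
    have hcov := (coset_bound H C).2 h2
    apply hk
    have hall : ∀ g : G, g⁻¹ * k * g ∈ H := by
      intro g
      obtain ⟨c, hc, hcg⟩ := hcov g
      have hck : c * k = k * c := Subgroup.mem_centralizer_singleton_iff.1 hc
      have e : g⁻¹ * k * g = (c⁻¹ * g)⁻¹ * k * (c⁻¹ * g) := by
        rw [show (c⁻¹ * g)⁻¹ * k * (c⁻¹ * g) = g⁻¹ * (c * k * c⁻¹) * g by group, hck]
        group
      rw [e]
      exact mul_mem (mul_mem (inv_mem hcg) k.2) hcg
    have hnc : Subgroup.normalClosure ({(k : G)} : Set G) ≤ H :=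
      Subgroup.closure_le H |>.2 (fun x hx => by
        obtain ⟨a, ha, hax⟩ := Group.mem_conjugatesOfSet_iff.1 hx
        obtain rfl := ha
        obtain ⟨g, rfl⟩ := isConj_iff.1 hax
        simpa using hall g⁻¹)
    rcases (Subgroup.normalClosure_normal (s := ({(k : G)} : Set G))).eq_bot_or_eq_top with h | h
    · have : (k : G) ∈ Subgroup.normalClosure ({(k : G)} : Set G) :=
        Subgroup.subset_normalClosure (Set.mem_singleton _)
      rwa [h, Subgroup.mem_bot] at this
    · exact absurd (top_le_iff.1 (h ▸ hnc)) hHtop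
  have hIG : Nat.card I * Nat.card H = Nat.card G * IH := by
    have h1 := conj_count H ⊤ I (fun c _ x hx => hIinv c x hx) (fun x hx => by
      obtain ⟨b, rfl⟩ := isConj_iff.1 hx
      exact ⟨b⁻¹, trivial, by simpa [mul_assoc] using hτH⟩) (fun x hx hxH d _ => hrig x hx hxH d)
    rwa [inf_top_eq, Subgroup.card_top] at h1
  -- pairs of conjugates of `τ` lying in one coset of `H`
  let mI : Finset G := I.toFinset
  let n : G ⧸ H → ℕ := fun q => (mI.filter fun u : G => (u : G ⧸ H) = q).card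
  have hsumn : ∑ q, n q = Nat.card I := by
    rw [Nat.card_eq_card_toFinset]
    exact (Finset.card_eq_sum_card_fiberwise fun x _ => Finset.mem_univ _).symm
  let pairs : Set (G × G) := {p | p.1 ∈ I ∧ p.2 ∈ I ∧ p.1⁻¹ * p.2 ∈ H}
  have hpairs : Nat.card pairs = ∑ q, n q ^ 2 := by
    rw [Nat.card_eq_card_toFinset,
      Finset.card_eq_sum_card_fiberwise (f := fun p : G × G => (p.1 : G ⧸ H))
        (t := Finset.univ) fun x _ => Finset.mem_univ _]
    refine Finset.sum_congr rfl fun q _ => ?_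
    rw [pow_two, ← Finset.card_product]
    congr 1
    ext ⟨a, b⟩
    simp only [Finset.mem_filter, Set.mem_toFinset, Finset.mem_product, mI, pairs,
      Set.mem_ofPred_eq]
    constructor
    · rintro ⟨⟨ha, hb, hab⟩, rfl⟩
      exact ⟨⟨ha, rfl⟩, hb, (QuotientGroup.eq.2 hab).symm⟩
    · rintro ⟨⟨ha, rfl⟩, hb, hq⟩
      exact ⟨⟨ha, hb, QuotientGroup.eq.1 hq.symm⟩, rfl⟩
  have hk1 : Nat.card pairs = ∑ k : H, Nat.card (X k) := by
    rw [← Nat.card_sigma]
    exact Nat.card_congr
      { toFun := fun p => ⟨⟨p.1.1⁻¹ * p.1.2, p.2.2.2⟩, p.1.1, p.2.1, by simpa using p.2.2.1⟩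
        invFun := fun s => ⟨(s.2.1, s.2.1 * s.1), s.2.2.1, s.2.2.2, by simpa using s.1.2⟩
        left_inv := fun p => by ext <;> simp
        right_inv := fun s => by
          rcases s with ⟨⟨k, hk⟩, ⟨u, hu⟩⟩
          exact Sigma.subtype_ext (Subtype.ext (inv_mul_cancel_left u k)) rfl }
  have hk2 : ∑ k : H, Nat.card ↥(X k ∩ (H : Set G)) = IH ^ 2 := by
    rw [← Nat.card_sigma, pow_two, ← Nat.card_prod]
    exact Nat.card_congr
      { toFun := fun s => (⟨s.2.1, s.2.2.1.1, s.2.2.2⟩,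
          ⟨s.2.1 * s.1, s.2.2.1.2, mul_mem s.2.2.2 s.1.2⟩)
        invFun := fun p => ⟨⟨p.1.1⁻¹ * p.2.1, mul_mem (inv_mem p.1.2.2) p.2.2.2⟩,
          p.1.1, ⟨p.1.2.1, by simpa using p.2.2.1⟩, p.1.2.2⟩
        left_inv := fun s => by
          rcases s with ⟨⟨k, hk⟩, ⟨u, hu⟩⟩
          exact Sigma.subtype_ext (Subtype.ext (inv_mul_cancel_left u k)) rfl
        right_inv := fun p => by ext <;> simp }
  have hlow : Nat.card G * IH ^ 2 ≤ Nat.card pairs * Nat.card H := by
    have hcs := sq_sum_le_card_mul_sum_sq (s := (Finset.univ : Finset (G ⧸ H))) (f := n)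
    rw [hsumn, ← hpairs, Finset.card_univ, ← Nat.card_eq_fintype_card] at hcs
    have hG' := Subgroup.card_eq_card_quotient_mul_card_subgroup H
    refine Nat.le_of_mul_le_mul_left ?_ (Nat.card_pos (α := G))
    calc Nat.card G * (Nat.card G * IH ^ 2) = (Nat.card G * IH) ^ 2 := by ring
      _ = Nat.card I ^ 2 * Nat.card H ^ 2 := by rw [← hIG]; ring
      _ ≤ Nat.card (G ⧸ H) * Nat.card pairs * Nat.card H ^ 2 := Nat.mul_le_mul_right _ hcs
      _ = _ := by rw [hG']; ring
  -- hence `τ` is the only conjugate of `τ` in `H`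
  have hτI : τ ∈ I := IsConj.refl τ
  have honly : ∀ t ∈ I, t ∈ H → t = τ := by
    intro t htI htH
    by_contra hne
    have hk : τ⁻¹ * t ∈ H := mul_mem (inv_mem hτH) htH
    have hlt' : ∑ k : H, Nat.card (X k) * Nat.card H <
        ∑ k : H, Nat.card G * Nat.card ↥(X k ∩ (H : Set G)) := by
      refine Finset.sum_lt_sum (fun k _ => hle k) ⟨⟨_, hk⟩, Finset.mem_univ _, hlt _ ?_ ?_⟩
      · exact fun e => hne (inv_mul_eq_one.1 e).symm
      · exact ⟨τ, ⟨hτI, by simpa using htI⟩, hτH⟩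
    rw [← Finset.sum_mul, ← hk1, ← Finset.mul_sum, hk2] at hlt'
    exact absurd hlow (not_le.2 hlt')
  -- Glauberman's `Z*`-theorem
  obtain ⟨T, hT⟩ := two_sylow_fixed α hcop hτ hcon ⊤ (fun _ _ => Subgroup.mem_top _)
  let P : Sylow 2 G := T.mapSurjective (f := (⊤ : Subgroup G).subtype)
    (fun g => ⟨⟨g, Subgroup.mem_top g⟩, rfl⟩)
  have hPH : ∀ x ∈ P, x ∈ H := by
    rintro _ ⟨y, hy, rfl⟩
    exact hT y hy
  have hτP : ∃ g : G, g * τ * g⁻¹ ∈ P := by
    have hp : IsPGroup 2 ↥(Subgroup.zpowers τ) :=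
      IsPGroup.of_card (n := 1) (by rw [Nat.card_zpowers, hτ, pow_one])
    obtain ⟨Q, hQ⟩ := hp.exists_le_sylow
    obtain ⟨g, hg⟩ := MulAction.exists_smul_eq G Q P
    refine ⟨g, ?_⟩
    show g * τ * g⁻¹ ∈ (P : Subgroup G)
    rw [← hg, Sylow.coe_subgroup_smul]
    exact Subgroup.smul_mem_pointwise_smul _ _ _ (hQ (Subgroup.mem_zpowers _))
  obtain ⟨g, hg⟩ := hτP
  have hgτ : g * τ * g⁻¹ = τ := honly _ (isConj_iff.2 ⟨g, rfl⟩) (hPH _ hg)
  rw [hgτ] at hg
  have hz : CfsgLib.Invol.IsZCentral τ := CfsgLib.Invol.zstar_of_weakly_closed P hτ fun x hx =>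
    honly _ (isConj_iff.2 ⟨x, rfl⟩) (hPH _ hx)
  have hO : Cfsg.pPrimeCore 2 G = ⊥ := by
    rcases (inferInstance : (Cfsg.pPrimeCore 2 G).Normal).eq_bot_or_eq_top with h | h
    · exact h
    · exfalso
      have hnd := CfsgLib.Coprime.pPrimeCore_not_dvd (G := G) Nat.prime_two
      rw [h, Subgroup.card_top] at hnd
      exact hnd (hτ ▸ orderOf_dvd_natCard τ)
  have hcen : τ ∈ Subgroup.center G := Subgroup.mem_center_iff.2 fun x => by
    have h := hz x
    rw [hO, Subgroup.mem_bot, mul_inv_eq_one, mul_inv_eq_iff_eq_mul] at h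
    exact h.symm
  rcases (inferInstance : (Subgroup.center G).Normal).eq_bot_or_eq_top with h | h
  · rw [h, Subgroup.mem_bot] at hcen
    rw [hcen, orderOf_one] at hτ
    exact absurd hτ (by decide)
  · exact hG ⟨⟨fun a b => (Subgroup.mem_center_iff.1 (h ▸ Subgroup.mem_top b) a)⟩⟩

end Cfsg.Agent.S3067
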