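import Cfsg.Statements.S3070
import Cfsg.Agent.Lib.LocalStructure.JFive
import Cfsg.Agent.Lib.CFun.PNilpotent
import Cfsg.Agent.Lib.CFun.Automizer
import Cfsg.Agent.Lib.Fusion.System.Glauberman
-- import your own Cfsg.Agent.* helpers here

set_option autoImplicit false
open Cfsg

namespace Cfsg.Agent.S3070

universe u

theorem map_thompsonSubgroupA {Q R : Type u} [Group Q] [Group R] [Finite Q] (φ : Q ≃* R) :
    (Cfsg.thompsonSubgroupA Q).map φ.toMonoidHom = Cfsg.thompsonSubgroupA R := by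
  haveI : Finite R := Finite.of_equiv Q φ.toEquiv
  have hQ : Cfsg.thompsonSubgroupAOf (⊤ : Subgroup Q) = sSup (Cfsg.maxAbelianSubgroups Q) := by
    rw [CfsgLib.Fusion.thompsonSubgroupAOf_eq]
    congr 1
    ext A
    exact ⟨fun h => ⟨h.2.1, fun B hB => h.2.2 B le_top hB⟩,
      fun h => ⟨le_top, h.1, fun B _ hB => h.2 B hB⟩⟩
  have hR : Cfsg.thompsonSubgroupAOf (⊤ : Subgroup R) = sSup (Cfsg.maxAbelianSubgroups R) := by
    rw [CfsgLib.Fusion.thompsonSubgroupAOf_eq]
    congr 1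
    ext A
    exact ⟨fun h => ⟨h.2.1, fun B hB => h.2.2 B le_top hB⟩,
      fun h => ⟨le_top, h.1, fun B _ hB => h.2 B hB⟩⟩
  unfold Cfsg.thompsonSubgroupA
  rw [← hQ, ← hR, CfsgLib.Fusion.map_thompsonSubgroupAOf _ φ.injective,
    Subgroup.map_top_of_surjective φ.toMonoidHom φ.surjective]

theorem isCharPFunctor {p : ℕ} [Fact p.Prime] :
    Cfsg.IsCharPFunctor.{u} p (fun Q => @Cfsg.thompsonSubgroupA Q) := by
  refine ⟨fun Q _ _ hQ _ h => ?_, fun Q R _ _ _ _ φ => map_thompsonSubgroupA φ⟩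
  have h1 := CfsgLib.Fusion.thompsonA_ne_bot_in (S := (⊤ : Subgroup Q)) (hQ.to_subgroup ⊤) top_ne_bot
  refine h1 ?_
  rw [CfsgLib.Fusion.thompsonSubgroupAOf_eq, sSup_eq_bot]
  intro A hA
  refine le_bot_iff.1 ((le_sSup (s := Cfsg.maxAbelianSubgroups Q) ?_).trans h.le)
  exact ⟨hA.2.1, fun B hB => hA.2.2 B le_top hB⟩

theorem centralizer_le_thompson {G : Type u} [Group G] [Finite G] (S : Subgroup G) :
    S ⊓ Subgroup.centralizer (Cfsg.thompsonSubgroupAOf S : Set G) ≤
      Cfsg.thompsonSubgroupAOf S := by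
  obtain ⟨A, hA⟩ := CfsgLib.Fusion.maxAb_nonempty_in (le_refl S)
  rw [CfsgLib.Fusion.thompsonSubgroupAOf_eq]
  intro z hz
  refine le_sSup hA (CfsgLib.Fusion.mem_of_commute_maxAb hA (Subgroup.mem_inf.1 hz).1 fun a ha => ?_)
  exact Subgroup.mem_centralizer_iff.1 (Subgroup.mem_inf.1 hz).2 a (le_sSup hA ha)

/-- Let p ≥ 5 be a prime, S a Sylow p-subgroup of the finite group G and J(S) the subgroup generated by the abelian subgroups of S of largest order. Then G has a normal p-complement if and only if N_G(J(S))/C_G(J(S)) is a p-group (every element of N_G(J(S)) of order prime to p centralizes J(S)). -/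
theorem result {G : Type*} [Group G] [Finite G] {p : ℕ} [Fact p.Prime]
    (hp : 5 ≤ p) (S : Sylow p G) :
    Cfsg.HasNormalPComplement p G ↔
      ∀ g ∈ Subgroup.normalizer (Cfsg.thompsonSubgroupAOf (S : Subgroup G) : Set G), (orderOf g).Coprime p →
        g ∈ Subgroup.centralizer (Cfsg.thompsonSubgroupAOf (S : Subgroup G) : Set G) := by
  have hp2 : p ≠ 2 := by omega
  constructor
  · rintro hG g hg hgc
    haveI := CfsgLib.Fusion.pResidual_normal (G := G) (p := p)
    refine Subgroup.mem_centralizer_iff.2 fun x hx => ?_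
    have hxS : x ∈ (S : Subgroup G) := CfsgLib.Fusion.thompsonSubgroupAOf_le _ hx
    have h1 : g * x * g⁻¹ * x⁻¹ ∈ Cfsg.thompsonSubgroupAOf (S : Subgroup G) :=
      mul_mem ((Subgroup.mem_normalizer_iff.1 hg x).1 hx) (inv_mem hx)
    have hgR : g ∈ Cfsg.pResidual p G := CfsgLib.Fusion.mem_pResidual hgc
    have h2 : g * x * g⁻¹ * x⁻¹ ∈ Cfsg.pResidual p G := by
      rw [show g * x * g⁻¹ * x⁻¹ = g * (x * g⁻¹ * x⁻¹) by group]
      exact mul_mem hgR (‹(Cfsg.pResidual p G).Normal›.conj_mem _ (inv_mem hgR) x)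
    have h3 := CfsgLib.Fusion.eq_one_of_pGroup_of_coprime S.2
      (CfsgLib.Fusion.thompsonSubgroupAOf_le _ h1)
      (CfsgLib.Fusion.hasNormalPComplement_iff_coprime.1 hG _ h2)
    exact (mul_inv_eq_iff_eq_mul.1 (mul_inv_eq_one.1 h3)).symm
  · intro h
    refine CfsgLib.CFun.hasNormalPComplement_of_functor (G₀ := G) isCharPFunctor ?_ _ G rfl
      (CfsgLib.CFun.involves_self G) S ?_
    · intro X _ _ T _ hC hquot hT _ A g hA hgA
      haveI := CfsgLib.Coprime.pCore_normal' (G := X) p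
      have hQT : Cfsg.pCore p X ≤ (T : Subgroup X) :=
        (CfsgLib.Coprime.pCore_isPGroup p).le_sylow_of_normal T
      have hmax : CfsgLib.Fusion.maxAb (T : Subgroup X) =
          CfsgLib.Fusion.maxAb (Cfsg.pCore p X) := by
        obtain ⟨B, hBT, hBab, hBmax⟩ := CfsgLib.Fusion.maxAb_nonempty_in (le_refl (T : Subgroup X))
        have hBQ : B ≤ Cfsg.pCore p X :=
          CfsgLib.LocalStructure.JFive.maxAb_le_pCore hp hC hquot T hT ⟨hBT, hBab, hBmax⟩
        ext C
        constructor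
        · intro hC'
          exact ⟨CfsgLib.LocalStructure.JFive.maxAb_le_pCore hp hC hquot T hT hC', hC'.2.1,
            fun D hD hDab => hC'.2.2 D (hD.trans hQT) hDab⟩
        · rintro ⟨hCQ, hCab, hCmax⟩
          exact ⟨hCQ.trans hQT, hCab, fun D hD hDab => (hBmax D hD hDab).trans (hCmax B hBQ hBab)⟩
      refine ⟨g, ?_, fun a _ => rfl⟩
      show g ∈ Subgroup.normalizer ((Cfsg.thompsonSubgroupAOf (T : Subgroup X) : Subgroup X) : Set X)
      rw [CfsgLib.Fusion.thompsonSubgroupAOf_eq, hmax, ← CfsgLib.Fusion.thompsonSubgroupAOf_eq,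
        ← CfsgLib.Fusion.conjBy_eq_iff, CfsgLib.Fusion.conjBy,
        CfsgLib.Fusion.map_thompsonSubgroupAOf _ (MulEquiv.injective _), ← CfsgLib.Fusion.conjBy,
        CfsgLib.Fusion.conjBy_eq_iff.2 (by rw [Subgroup.normalizer_eq_top]; trivial)]
    · show Cfsg.HasNormalPComplement p
        (Subgroup.normalizer ((Cfsg.thompsonSubgroupAOf (S : Subgroup G) : Subgroup G) : Set G))
      exact CfsgLib.CFun.hasNormalPComplement_normalizer_of_automizer S _
        (Subgroup.le_normalizer.trans (CfsgLib.Fusion.normalizer_le_normalizer_thompsonA _))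
        (centralizer_le_thompson _) h

end Cfsg.Agent.S3070
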