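import Cfsg.Statements.S3071
import Cfsg.Agent.Lib.Fusion.System.ZJControl
import Cfsg.Agent.Lib.Qd.SLTwo

set_option autoImplicit false
open Cfsg

namespace Cfsg.Agent.S3071

/-- Let p be an odd prime and S a Sylow p-subgroup of the finite group G such that, for every subgroup P with Z(S) ≤ P ≤ S, the normalizer N_G(P) has no section isomorphic to SL₂(p). Let J(S) be the subgroup generated by the abelian subgroups of S of largest order. Then two elements of S are conjugate in G if and only if they are conjugate in N_G(Z(J(S))). -/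
theorem result {G : Type*} [Group G] [Finite G] {p : ℕ} [Fact p.Prime]
    (hp : p ≠ 2) (S : Sylow p G)
    (hfree : ∀ P : Subgroup G, (S : Subgroup G) ⊓ Subgroup.centralizer ((S : Subgroup G) : Set G) ≤ P → P ≤ S →
      ¬ ∃ (H K : Subgroup G) (hK : (K.subgroupOf H).Normal), H ≤ Subgroup.normalizer (P : Set G) ∧
        Nonempty ((H ⧸ K.subgroupOf H) ≃* Matrix.SpecialLinearGroup (Fin 2) (ZMod p))) :
    ∀ x ∈ S, ∀ y ∈ S, (∃ g : G, g * x * g⁻¹ = y) ↔
      ∃ n ∈ Subgroup.normalizer (Cfsg.centerThompsonAOf (S : Subgroup G) : Set G), n * x * n⁻¹ = y := by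
  have hno : CfsgLib.Fusion.NoQd p (groupFusionSystem (S : Subgroup G)) := by
    refine CfsgLib.Qd.noQd_group_of_centric S fun V hV hq => ?_
    obtain ⟨H, K, hK, hHN, he⟩ := CfsgLib.Qd.exists_section_le _
      (CfsgLib.Qd.involves_trans CfsgLib.Qd.involves_slTwo_qd hq)
    refine hfree V (fun z hz => ?_) hV.1 ⟨H, K, hK, hHN, he⟩
    exact CfsgLib.Fusion.centralizerIn_le_of_isCentric hV
      ⟨hz.1, Subgroup.centralizer_le (show (V : Set G) ⊆ ((S : Subgroup G) : Set G) from hV.1) hz.2⟩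
  have hW := (CfsgLib.Fusion.isNormal_centres_of_noQd hp S.2 (CfsgLib.Fusion.isSaturated_group S)
    hno CfsgLib.Fusion.stronglyClosed_self).1
  intro x hx y hy
  refine ⟨fun ⟨g, hg⟩ => ?_, fun ⟨n, _, hn⟩ => ⟨n, hn⟩⟩
  obtain ⟨n, hn, hne⟩ := (CfsgLib.Fusion.controlsStrongFusionOf_of_isNormal S hW {x}
    (Set.singleton_subset_iff.2 hx)).2 g (by
      rintro _ ⟨a, ha, rfl⟩
      rw [Set.mem_singleton_iff.1 ha]
      show g * x * g⁻¹ ∈ (S : Subgroup G)
      rw [hg]
      exact hy)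
  exact ⟨n, hn, (hne x rfl).symm.trans hg⟩

end Cfsg.Agent.S3071
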