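import Cfsg.Agent.S1988
import Cfsg.Agent.Lib.CFun.PNilpotent
import Cfsg.Statements.S3073
-- import your own Cfsg.Agent.* helpers here

set_option autoImplicit false
universe u
open Cfsg

namespace Cfsg.Agent.S3073

/-- For an odd prime p, every finite p-group S has a characteristic subgroup K with C_S(K) ≤ K such that, whenever S is (isomorphic to) a Sylow p-subgroup of a finite group G, G has a normal p-complement if and only if N_G(K)/C_G(K) is a p-group, i.e. every element of N_G(K) of order prime to p centralizes K (K transported into G along the isomorphism). -/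
theorem result (p : ℕ) [Fact p.Prime] (hp : p ≠ 2)
    (S : Type u) [Group S] [Finite S] (hS : IsPGroup p S) :
    ∃ K : Subgroup S, K.Characteristic ∧ Subgroup.centralizer (K : Set S) ≤ K ∧
      ∀ (G : Type u) [Group G] [Finite G] (P : Sylow p G) (e : ↥(P : Subgroup G) ≃* S),
        Cfsg.HasNormalPComplement p G ↔
          ∀ g ∈ Subgroup.normalizer (((K.comap (e : ↥(P : Subgroup G) →* S)).map (P : Subgroup G).subtype : Subgroup G) : Set G),
            (orderOf g).Coprime p →
              g ∈ Subgroup.centralizer (((K.comap (e : ↥(P : Subgroup G) →* S)).map (P : Subgroup G).subtype : Subgroup G) : Set G) := by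
  refine ⟨Cfsg.kInfLower S, CfsgLib.CFun.kInfLower_characteristic, (CfsgLib.CFun.centralizer_kInf_le hS).1, ?_⟩
  intro G _ _ P e
  have hX : ((Cfsg.kInfLower S).comap (e : ↥(P : Subgroup G) →* S)).map (P : Subgroup G).subtype =
      Cfsg.inducedFunctor Cfsg.kInfLower (P : Subgroup G) := by
    show _ = (Cfsg.kInfLower ↥(P : Subgroup G)).map _
    rw [← CfsgLib.CFun.kInfLower_equiv e]
    congr 1
    exact Subgroup.comap_map_eq_self_of_injective (f := (e : ↥(P : Subgroup G) →* S)) e.injective _
  rw [hX]
  refine ⟨fun hG g hg hgc => ?_, fun h => Cfsg.Agent.S1988.result hp P (Or.inr h)⟩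
  set X := Cfsg.inducedFunctor Cfsg.kInfLower (P : Subgroup G)
  have hXS : X ≤ (P : Subgroup G) := CfsgLib.CFun.induced_le _ _
  have hgM : g ∈ Cfsg.pResidual p G := CfsgLib.Fusion.mem_pResidual hgc
  haveI := CfsgLib.Fusion.pResidual_normal (G := G) (p := p)
  refine Subgroup.mem_centralizer_iff.2 fun x hx => ?_
  have h1 : g * x * g⁻¹ * x⁻¹ ∈ X := mul_mem ((Subgroup.mem_normalizer_iff.1 hg x).1 hx) (inv_mem hx)
  have h2 : g * x * g⁻¹ * x⁻¹ ∈ Cfsg.pResidual p G := by
    rw [mul_assoc, mul_assoc]
    exact mul_mem hgM (by rw [← mul_assoc]; exact Subgroup.Normal.conj_mem inferInstance _ (inv_mem hgM) x)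
  have h3 := CfsgLib.Fusion.eq_one_of_pGroup_of_coprime P.2 (hXS h1)
    (CfsgLib.Fusion.hasNormalPComplement_iff_coprime.1 hG _ h2)
  exact (mul_inv_eq_iff_eq_mul.1 (mul_inv_eq_one.1 h3)).symm

end Cfsg.Agent.S3073
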