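import Cfsg.Statements.S3074
import Cfsg.Agent.Lib.LocalStructure.QdPrime
import Cfsg.Agent.Lib.PGroup.GenExtraspecialSplit

set_option autoImplicit false
open Cfsg

namespace Cfsg.Agent.S3074

/-- Let p be an odd prime. A Sylow p-subgroup of Qd(p), the split extension of an elementary abelian group of order p² by SL₂(p) acting naturally, is extraspecial of order p³ and exponent p. -/
theorem result (p : ℕ) [Fact p.Prime] (hp : p ≠ 2) (P : Sylow p ↥(Cfsg.qd p)) :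
    Cfsg.IsExtraspecial p ↥P ∧ Nat.card P = p ^ 3 ∧ Monoid.exponent ↥P = p := by
  revert P
  show ∀ P : Sylow p ↥(Cfsg.qdOver (ZMod p)),
    Cfsg.IsExtraspecial p ↥P ∧ Nat.card P = p ^ 3 ∧ Monoid.exponent ↥P = p
  intro P
  have e := Sylow.equiv (CfsgLib.LS.QdF.syl0 p) P
  have hcard : Nat.card P = p ^ 3 := by
    rw [← Nat.card_congr e.toEquiv]
    exact CfsgLib.LS.QdF.card_P0
  have hexp0 : ∀ x : CfsgLib.LS.QdF.P0 p, x ^ p = 1 := by
    rintro ⟨x, hx⟩
    obtain ⟨a, w, rfl⟩ := CfsgLib.LS.QdF.mem_P0_iff.1 hx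
    refine Subtype.ext ?_
    show CfsgLib.LS.QdF.el (CfsgLib.Qd.up a) w ^ p = 1
    have hch : ((p.choose 2 : ℕ) : ZMod p) = 0 :=
      (ZMod.natCast_eq_zero_iff _ _).2 ((Fact.out : p.Prime).dvd_choose_self two_ne_zero
        (lt_of_le_of_ne (Fact.out : p.Prime).two_le (Ne.symm hp)))
    rw [CfsgLib.LS.QdF.el_up_pow, hch, ZMod.natCast_self, ← CfsgLib.LS.QdF.el_one]
    congr 1
    · exact CfsgLib.Qd.ext2 (by simp) (by simp) (by simp) (by simp)
    · funext i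
      fin_cases i <;> simp
  have hexp : ∀ x : P, x ^ p = 1 := fun x => by
    refine e.symm.injective ?_
    rw [map_pow, map_one]
    exact hexp0 _
  let a : CfsgLib.LS.QdF.P0 p :=
    ⟨CfsgLib.LS.QdF.el (CfsgLib.Qd.up 1) 0, CfsgLib.LS.QdF.el_mem_P0 _ _⟩
  let b : CfsgLib.LS.QdF.P0 p :=
    ⟨CfsgLib.LS.QdF.el (CfsgLib.Qd.up 0) ![0, 1], CfsgLib.LS.QdF.el_mem_P0 _ _⟩
  have hab : e a * e b ≠ e b * e a := by
    intro h
    have h1 : e (a * b) = e (b * a) := (map_mul e a b).trans (h.trans (map_mul e b a).symm)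
    have h2 := congrArg Subtype.val (e.injective h1)
    change CfsgLib.LS.QdF.el (CfsgLib.Qd.up 1) 0 *
        CfsgLib.LS.QdF.el (CfsgLib.Qd.up 0) ![0, 1] =
      CfsgLib.LS.QdF.el (CfsgLib.Qd.up 0) ![0, 1] *
        CfsgLib.LS.QdF.el (CfsgLib.Qd.up 1) 0 at h2
    rw [CfsgLib.LS.QdF.el_up_mul, CfsgLib.LS.QdF.el_up_mul] at h2
    simpa using congrFun (CfsgLib.LS.QdF.el_inj h2).2 0
  refine ⟨CfsgLib.GenExtraspecial.isExtraspecial_of_cube hcard hab hexp, hcard, ?_⟩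
  rcases (Nat.dvd_prime (Fact.out : p.Prime)).1 (Monoid.exponent_dvd_of_forall_pow_eq_one hexp)
    with h | h
  · haveI := Monoid.exp_eq_one_iff.1 h
    exact absurd (Subsingleton.elim _ _) hab
  · exact h

end Cfsg.Agent.S3074
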