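import Cfsg.Statements.S3075
import Cfsg.Agent.Lib.LocalStructure.NaturalModule
import Cfsg.Agent.Lib.Coprime.Action
import Mathlib.LinearAlgebra.Matrix.SpecialLinearGroup
import Mathlib.FieldTheory.Finite.Basic
import Cfsg.Agent.Lib.Fusion.Sylow

set_option autoImplicit false
open Cfsg

namespace Cfsg.Agent.S3075

/-- Let p be an odd prime and N a finite group with a normal elementary abelian subgroup A of order p² that is its own centralizer in N, such that N/A is isomorphic to SL₂(p) (over any field F with p elements). Then N splits over A: some subgroup U of N satisfies A ∩ U = 1 and AU = N. -/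
theorem result {N : Type*} [Group N] [Finite N] {p : ℕ} [Fact p.Prime] (hp : p ≠ 2)
    (A : Subgroup N) [A.Normal] (hAcomm : IsMulCommutative A) (hAcard : Nat.card A = p ^ 2) (hAexp : Monoid.exponent ↥A = p)
    (hAself : Subgroup.centralizer (A : Set N) = A)
    {F : Type*} [Field F] [Fintype F] (hF : Fintype.card F = p) (e : N ⧸ A ≃* Matrix.SpecialLinearGroup (Fin 2) F) :
    ∃ U : Subgroup N, A ⊓ U = ⊥ ∧ A ⊔ U = ⊤ := by
  open Subgroup Matrix in
  have hp' : p.Prime := Fact.out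
  haveI : CharP F p := charP_of_card_eq_prime hF
  haveI : NeZero p := ⟨hp'.ne_zero⟩
  have hneg : (-1 : Matrix.SpecialLinearGroup (Fin 2) F) ≠ 1 := by
    intro h
    have h2 := congrArg (fun M : Matrix.SpecialLinearGroup (Fin 2) F => M.1 0 0) h
    simp at h2
    exact Ring.neg_one_ne_one_of_char_ne_two (by rwa [ringChar.eq F p]) h2
  -- `-1` is a commutator
  obtain ⟨a₀, b₀, hab⟩ := CharP.sq_add_sq F p (-1)
  set a : F := (a₀ : F)
  set b : F := (b₀ : F)
  push_cast at hab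
  let J : Matrix.SpecialLinearGroup (Fin 2) F := ⟨!![0, -1; 1, 0], by rw [Matrix.det_fin_two_of]; ring⟩
  let M : Matrix.SpecialLinearGroup (Fin 2) F := ⟨!![a, b; b, -a], by
    rw [Matrix.det_fin_two_of]; linear_combination -hab⟩
  have hJM : J * M * J⁻¹ * M⁻¹ = -1 := by
    have h1 : J * M = -1 * (M * J) := by
      apply Subtype.ext
      rw [CfsgLib.LS.NatMod.coeMul, CfsgLib.LS.NatMod.coeMul, CfsgLib.LS.NatMod.coeMul]
      ext i j
      fin_cases i <;> fin_cases j <;>
        simp [J, M, Matrix.mul_apply, Fin.sum_univ_two, SpecialLinearGroup.coe_neg]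
    rw [h1]
    group
  obtain ⟨j, hj⟩ := QuotientGroup.mk'_surjective A (e.symm J)
  obtain ⟨m, hm⟩ := QuotientGroup.mk'_surjective A (e.symm M)
  set x₀ := j * m * j⁻¹ * m⁻¹ with hx₀
  have hx₀e : QuotientGroup.mk' A x₀ = e.symm (-1) := by
    rw [hx₀, map_mul, map_mul, map_mul, map_inv, map_inv, hj, hm, ← map_inv, ← map_inv, ← map_mul,
      ← map_mul, ← map_mul, hJM]
  have hAp : IsPGroup p A := IsPGroup.of_card hAcard
  have hAc : ∀ a ∈ A, ∀ b ∈ A, a * b = b * a := fun a ha b hb =>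
    congrArg Subtype.val (hAcomm.is_comm.comm (⟨a, ha⟩ : A) ⟨b, hb⟩)
  have hAx : ∀ a ∈ A, a ^ p = 1 := fun a ha => by
    simpa [hAexp] using congrArg Subtype.val (Monoid.pow_exponent_eq_one (⟨a, ha⟩ : A))
  have hx₀A : x₀ ∉ A := fun h => hneg (e.symm.injective (by
    rw [← hx₀e, map_one]; exact (QuotientGroup.eq_one_iff x₀).2 h))
  -- an involution above `-1`
  set Z : Subgroup N := (zpowers (e.symm (-1))).comap (QuotientGroup.mk' A) with hZ
  have hcen : ∀ y : N ⧸ A, Commute y (e.symm (-1)) := fun y => by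
    rw [← e.symm_apply_apply y]
    exact (show Commute (e y) (-1 : Matrix.SpecialLinearGroup (Fin 2) F) from
      Subtype.ext (by simp [SpecialLinearGroup.coe_neg])).map e.symm
  haveI : (zpowers (e.symm (-1))).Normal := ⟨fun y hy g => by
    obtain ⟨k, rfl⟩ := mem_zpowers_iff.1 hy
    rw [((hcen g).zpow_right k).eq, mul_inv_cancel_right]
    exact ⟨k, rfl⟩⟩
  haveI : Z.Normal := Normal.comap inferInstance _
  have hord : orderOf (e.symm (-1 : Matrix.SpecialLinearGroup (Fin 2) F)) = 2 := by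
    refine orderOf_eq_prime ?_ fun h => hneg ?_
    · rw [← map_pow, neg_one_sq, map_one]
    · rw [← e.symm.apply_eq_iff_eq, h, map_one]
  have hAZ : A ≤ Z := fun y hy => by
    rw [hZ, mem_comap, QuotientGroup.mk'_apply, (QuotientGroup.eq_one_iff y).2 hy]
    exact one_mem _
  have hx₀Z : x₀ ∈ Z := by rw [hZ, mem_comap, hx₀e]; exact mem_zpowers _
  have hZcard : Nat.card Z = p ^ 2 * 2 := by
    rw [CfsgLib.Coprime.card_eq_card_mul_card_map_mk' A hAZ, hAcard, hZ,
      map_comap_eq_self_of_surjective (QuotientGroup.mk'_surjective A), Nat.card_zpowers, hord]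
  obtain ⟨z, hz⟩ := exists_prime_orderOf_dvd_card' (G := Z) 2 (hZcard ▸ dvd_mul_left 2 _)
  have hzo : orderOf (z : N) = 2 := by rw [orderOf_coe, hz]
  have hzA : (z : N) ∉ A := fun h => by
    have h1 : orderOf (z : N) ∣ p := orderOf_dvd_of_pow_eq_one (hAx _ h)
    rw [hzo] at h1
    exact hp ((Nat.prime_dvd_prime_iff_eq Nat.prime_two hp').1 h1).symm
  have hzmk : QuotientGroup.mk' A (z : N) = e.symm (-1) := by
    obtain ⟨k, hk⟩ := mem_zpowers_iff.1 (show QuotientGroup.mk' A (z : N) ∈ _ from z.2)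
    rw [← zpow_mod_orderOf, hord] at hk
    rcases Int.emod_two_eq_zero_or_one k with h | h
    · rw [show k % ((2 : ℕ) : ℤ) = 0 from h, zpow_zero] at hk
      exact absurd ((QuotientGroup.eq_one_iff (z : N)).1 hk.symm) hzA
    · rw [show k % ((2 : ℕ) : ℤ) = 1 from h, zpow_one] at hk
      exact hk.symm
  set T := zpowers (z : N)
  have hTZ : T ≤ Z := zpowers_le.2 z.2
  have hTp : IsPGroup 2 T := IsPGroup.of_card (n := 1) (by rw [Nat.card_zpowers, hzo, pow_one])
  have hTi : ¬ 2 ∣ T.relIndex Z := by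
    have h := relIndex_mul_relIndex (⊥ : Subgroup N) T Z bot_le hTZ
    rw [relIndex_bot_left, relIndex_bot_left, Nat.card_zpowers, hzo, hZcard, mul_comm,
      Nat.mul_right_cancel_iff (by omega)] at h
    rw [h]
    exact fun h2 => hp ((Nat.prime_dvd_prime_iff_eq Nat.prime_two hp').1
      (Nat.prime_two.dvd_of_dvd_pow h2)).symm
  -- Frattini argument
  have htop : A ⊔ centralizer ({(z : N)} : Set N) = ⊤ := by
    refine top_le_iff.1 fun g _ => ?_
    obtain ⟨h, hh, hhT⟩ := CfsgLib.Fusion.exists_conj_le_of_not_dvd_relIndex hTp hTZ hTi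
      (CfsgLib.Fusion.isPGroup_conjBy g hTp) (by
        rw [CfsgLib.Fusion.conjBy_le_iff]
        exact fun y hy => Normal.conj_mem inferInstance y (hTZ hy) g)
    have hc : h * (g * (z : N) * g⁻¹) * h⁻¹ = z := by
      have h1 := hhT (CfsgLib.Fusion.conj_mem_conjBy
        (CfsgLib.Fusion.conj_mem_conjBy (g := g) (mem_zpowers (z : N))))
      obtain ⟨k, hk⟩ := mem_zpowers_iff.1 h1
      rw [← zpow_mod_orderOf, hzo] at hk
      rcases Int.emod_two_eq_zero_or_one k with h2 | h2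
      · rw [show k % ((2 : ℕ) : ℤ) = 0 from h2, zpow_zero] at hk
        exfalso
        refine hzA ?_
        have : (z : N) = (h * g)⁻¹ * 1 * (h * g) := by rw [hk]; group
        rw [this, mul_one, inv_mul_cancel]
        exact one_mem _
      · rw [show k % ((2 : ℕ) : ℤ) = 1 from h2, zpow_one] at hk
        exact hk.symm
    have hhg : h * g ∈ centralizer ({(z : N)} : Set N) := by
      refine mem_centralizer_singleton_iff.2 ?_
      conv_rhs => rw [← hc]
      group
    have hZle : h ∈ A ⊔ centralizer ({(z : N)} : Set N) := by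
      obtain ⟨k, hk⟩ := mem_zpowers_iff.1 (show QuotientGroup.mk' A h ∈ _ from hh)
      rw [← hzmk, ← map_zpow] at hk
      have hz' : (z : N) ^ k ∈ centralizer ({(z : N)} : Set N) :=
        mem_centralizer_singleton_iff.2 ((Commute.refl (z : N)).zpow_left k).eq
      rw [show h = h * ((z : N) ^ k)⁻¹ * (z : N) ^ k by group]
      refine mul_mem_sup ?_ hz'
      rw [← QuotientGroup.eq_one_iff]
      show QuotientGroup.mk' A _ = 1
      rw [map_mul, map_inv, hk, mul_inv_cancel]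
    rw [show g = h⁻¹ * (h * g) by group]
    exact Subgroup.mul_mem _ (inv_mem hZle) (mem_sup_right hhg)
  refine ⟨centralizer ({(z : N)} : Set N), ?_, htop⟩
  set L := A ⊓ centralizer ({(z : N)} : Set N) with hL
  by_contra hL1
  obtain ⟨l, hl, hl1⟩ := (bot_or_exists_ne_one L).resolve_left hL1
  have hz1 : ∀ u ∈ A, (z : N) * u * (z : N)⁻¹ = u → u ∈ L := fun u hu h =>
    ⟨hu, mem_centralizer_singleton_iff.2 (mul_inv_eq_iff_eq_mul.1 h).symm⟩
  -- `L` is normal
  have hLn : L.Normal := by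
    refine ⟨fun u hu g => ?_⟩
    obtain ⟨a', ha', c, hc, rfl⟩ := mem_sup_of_normal_left.1 (htop ▸ mem_top g : g ∈ A ⊔ centralizer ({(z : N)} : Set N))
    have h1 : c * u * c⁻¹ ∈ L := ⟨Normal.conj_mem inferInstance u hu.1 c,
      Subgroup.mul_mem _ (Subgroup.mul_mem _ hc hu.2) (inv_mem hc)⟩
    rw [show a' * c * u * (a' * c)⁻¹ = a' * (c * u * c⁻¹) * a'⁻¹ by group,
      hAc a' ha' _ h1.1, mul_inv_cancel_right]
    exact h1
  have hLA : L ≠ A := fun h => by
    have : (z : N) ∈ centralizer (A : Set N) := mem_centralizer_iff.2 fun u hu =>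
      mem_centralizer_singleton_iff.1 (h.ge hu).2
    rw [hAself] at this
    exact hzA this
  have hLc : Nat.card L = p := by
    have hd : Nat.card L ∣ p ^ 2 := hAcard ▸ card_dvd_of_le inf_le_left
    obtain ⟨k, hk, hk'⟩ := (Nat.dvd_prime_pow hp').1 hd
    rcases (show k = 0 ∨ k = 1 ∨ k = 2 by omega) with rfl | rfl | rfl
    · exact absurd (card_eq_one.1 (hk'.trans (pow_zero p))) hL1
    · exact hk'.trans (pow_one p)
    · exact absurd (eq_of_le_of_card_ge inf_le_left (hk'.trans hAcard.symm).ge) hLA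
  -- conjugation is abelian on `L` and on `A` modulo `L`, hence commutators stabilize the series
  have hLz : L = zpowers l := (eq_of_le_of_card_ge (zpowers_le.2 hl) (by
    rw [hLc, Nat.card_zpowers, orderOf_eq_prime (hAx l hl.1) hl1])).symm
  obtain ⟨u, huA, huL⟩ := SetLike.exists_of_lt (lt_of_le_of_ne inf_le_left hLA : L < A)
  have hu1 : u ≠ 1 := fun h => huL (h ▸ one_mem L)
  have hsplit : ∀ w ∈ A, ∃ k : ℤ, ∃ l' ∈ L, w = u ^ k * l' := by
    intro w hw
    have hsup : zpowers u ⊔ L = A := by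
      refine eq_of_le_of_card_ge (sup_le (zpowers_le.2 huA) inf_le_left) ?_
      have hd : Nat.card ↥(zpowers u ⊔ L) ∣ p ^ 2 :=
        hAcard ▸ card_dvd_of_le (sup_le (zpowers_le.2 huA) inf_le_left)
      obtain ⟨k, hk, hk'⟩ := (Nat.dvd_prime_pow hp').1 hd
      rw [hAcard, hk']
      refine Nat.pow_le_pow_right hp'.pos ?_
      by_contra hk2
      have hle : Nat.card ↥(zpowers u ⊔ L) ≤ Nat.card L := by
        rw [hk', hLc]
        exact (Nat.pow_le_pow_right hp'.pos (show k ≤ 1 by omega)).trans_eq (pow_one p)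
      exact huL ((eq_of_le_of_card_ge le_sup_right hle).ge (mem_sup_left (mem_zpowers u)))
    haveI := hLn
    obtain ⟨_, ⟨k, rfl⟩, l', hl', rfl⟩ := mem_sup_of_normal_right.1 (hsup ▸ hw : w ∈ zpowers u ⊔ L)
    exact ⟨k, l', hl', rfl⟩
  have hact : ∀ g : N, ∃ α β : ℤ, g * l * g⁻¹ = l ^ α ∧ u ^ (-β) * (g * u * g⁻¹) ∈ L := by
    intro g
    obtain ⟨α, hα⟩ := mem_zpowers_iff.1 (hLz ▸ hLn.conj_mem l hl g : g * l * g⁻¹ ∈ zpowers l)
    obtain ⟨β, l', hl', hβ⟩ := hsplit _ (Normal.conj_mem inferInstance u huA g)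
    refine ⟨α, β, hα.symm, ?_⟩
    rw [hβ, _root_.zpow_neg, inv_mul_cancel_left]
    exact hl'
  obtain ⟨αj, βj, hαj, hβj⟩ := hact j
  obtain ⟨αm, βm, hαm, hβm⟩ := hact m
  have hfixl : x₀ * l * x₀⁻¹ = l := by
    have e1 : (j * m) * l * (j * m)⁻¹ = (m * j) * l * (m * j)⁻¹ := by
      rw [show j * m * l * (j * m)⁻¹ = j * (m * l * m⁻¹) * j⁻¹ by group, hαm, ← conj_zpow, hαj,
        show m * j * l * (m * j)⁻¹ = m * (j * l * j⁻¹) * m⁻¹ by group, hαj, ← conj_zpow, hαm,
        ← _root_.zpow_mul, ← _root_.zpow_mul, mul_comm]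
    rw [hx₀]
    have e2 : j * m * j⁻¹ * m⁻¹ * (m * j * l * (m * j)⁻¹) * (j * m * j⁻¹ * m⁻¹)⁻¹ =
        j * m * l * (j * m)⁻¹ := by group
    rw [e1] at e2
    set w := m * j * l * (m * j)⁻¹
    have hw : w ∈ L := hLn.conj_mem l hl _
    obtain ⟨k, hk⟩ := mem_zpowers_iff.1 (hLn.conj_mem l hl (m * j)⁻¹ |> fun h => hLz ▸ h :
      (m * j)⁻¹ * l * (m * j)⁻¹⁻¹ ∈ zpowers l)
    have e3 : (j * m * j⁻¹ * m⁻¹) * l * (j * m * j⁻¹ * m⁻¹)⁻¹ = l := by
      have hl' : l = (m * j) * l ^ k * (m * j)⁻¹ := by rw [hk]; group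
      conv_lhs => rw [hl', ← conj_zpow]
      rw [← conj_zpow, e2, conj_zpow]
      exact hl'.symm
    exact e3
  have hmod : ∀ {g g' : N} {β β' : ℤ}, u ^ (-β) * (g * u * g⁻¹) ∈ L →
      u ^ (-β') * (g' * u * g'⁻¹) ∈ L → u ^ (-(β * β')) * ((g * g') * u * (g * g')⁻¹) ∈ L := by
    intro g g' β β' h h'
    haveI := hLn
    rw [← QuotientGroup.eq_one_iff] at h h' ⊢
    simp only [QuotientGroup.mk_mul, QuotientGroup.mk_zpow, QuotientGroup.mk_inv, _root_.zpow_neg,
      inv_mul_eq_one] at h h' ⊢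
    rw [_root_.zpow_mul, h, conj_zpow, h']
    group
  have hfixu : u⁻¹ * (x₀ * u * x₀⁻¹) ∈ L := by
    have h1 := hmod hβj hβm
    have h2 := hmod hβm hβj
    rw [mul_comm βm βj] at h2
    haveI := hLn
    rw [← QuotientGroup.eq_one_iff] at h1 h2
    simp only [QuotientGroup.mk_mul, QuotientGroup.mk_zpow, QuotientGroup.mk_inv, _root_.zpow_neg,
      inv_mul_eq_one] at h1 h2
    have h3 := h1.symm.trans h2
    rw [← QuotientGroup.eq_one_iff, hx₀]
    simp only [QuotientGroup.mk_mul, QuotientGroup.mk_inv, inv_mul_eq_one]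
    set J' : N ⧸ L := (j : N ⧸ L)
    set M' : N ⧸ L := (m : N ⧸ L)
    set U : N ⧸ L := (u : N ⧸ L)
    -- conjugations by `j m` and `m j` agree on the image of `u`
    obtain ⟨β', l', hl', hβ'⟩ := hsplit _ (Normal.conj_mem inferInstance u huA (m * j)⁻¹)
    have hU : (M' * J')⁻¹ * U * (M' * J') = U ^ β' := by
      have := congrArg (QuotientGroup.mk' L) hβ'
      simp only [map_mul, map_inv, map_zpow, inv_inv, QuotientGroup.mk'_apply,
        (QuotientGroup.eq_one_iff l').2 hl', mul_one] at this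
      exact this
    have hU' : U = (M' * J') * U ^ β' * (M' * J')⁻¹ := by rw [← hU]; group
    symm
    calc J' * M' * J'⁻¹ * M'⁻¹ * U * (J' * M' * J'⁻¹ * M'⁻¹)⁻¹
        = (J' * M') * U ^ β' * (J' * M')⁻¹ := by
          conv_lhs => rw [hU']
          group
      _ = ((J' * M') * U * (J' * M')⁻¹) ^ β' := conj_zpow.symm
      _ = ((M' * J') * U * (M' * J')⁻¹) ^ β' := by rw [h3]
      _ = U := by rw [conj_zpow, ← hU']
  -- so `x₀ ^ p` centralizes `A`
  set d := u⁻¹ * (x₀ * u * x₀⁻¹) with hd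
  have hdc : x₀ * d * x₀⁻¹ = d := by
    obtain ⟨k, hk⟩ := mem_zpowers_iff.1 (hLz ▸ hfixu : d ∈ zpowers l)
    rw [← hk, ← conj_zpow, hfixl]
  have hiter : ∀ k : ℕ, x₀ ^ k * u * (x₀ ^ k)⁻¹ = u * d ^ k := by
    intro k
    induction k with
    | zero => simp
    | succ k ih =>
      rw [show x₀ ^ (k + 1) * u * (x₀ ^ (k + 1))⁻¹ = x₀ * (x₀ ^ k * u * (x₀ ^ k)⁻¹) * x₀⁻¹ by
        rw [pow_succ']; group, ih,
        show x₀ * (u * d ^ k) * x₀⁻¹ = (x₀ * u * x₀⁻¹) * (x₀ * d * x₀⁻¹) ^ k by rw [conj_pow]; group,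
        hdc, show x₀ * u * x₀⁻¹ = u * d by rw [hd]; group, pow_succ']
      group
  have hfix : x₀ ^ p ∈ centralizer (A : Set N) := by
    refine mem_centralizer_iff.2 fun w hw => ?_
    obtain ⟨k, l', hl', rfl⟩ := hsplit w hw
    have e1 : Commute (x₀ ^ p) u := by
      have := hiter p
      rw [hAx d (hd ▸ hfixu.1), mul_one] at this
      exact mul_inv_eq_iff_eq_mul.1 this
    have e2 : Commute x₀ l' := by
      obtain ⟨i, rfl⟩ := mem_zpowers_iff.1 (hLz ▸ hl' : l' ∈ zpowers l)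
      exact (show Commute x₀ l from mul_inv_eq_iff_eq_mul.1 hfixl).zpow_right i
    exact ((e1.zpow_right k).mul_right (e2.pow_left p)).eq.symm
  rw [hAself, ← QuotientGroup.eq_one_iff] at hfix
  have h1 : orderOf (e.symm (-1 : Matrix.SpecialLinearGroup (Fin 2) F)) ∣ p := by
    refine orderOf_dvd_of_pow_eq_one ?_
    rw [← hx₀e, ← map_pow]
    exact hfix
  rw [hord] at h1
  exact hp ((Nat.prime_dvd_prime_iff_eq Nat.prime_two hp').1 h1).symm

end Cfsg.Agent.S3075
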