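import Cfsg.Statements.S3076
import Cfsg.Agent.Lib.LocalStructure.CentricCore

set_option autoImplicit false
open Cfsg

namespace Cfsg.Agent.S3076

/-- Let P be a Sylow p-subgroup of the finite group G and H ≤ P a subgroup with N_P(H) a Sylow p-subgroup of N_G(H). Let N be the preimage in N_G(H) of O_p(N_G(H)/C_G(H)). Then H is a Sylow p-subgroup of N if and only if C_P(H) ≤ H and O_{p',p}(N_G(H)) = H·C_G(H). -/
theorem result {G : Type*} [Group G] [Finite G] {p : ℕ} [Fact p.Prime]
    (P : Sylow p G) (H : Subgroup G) (hHP : H ≤ (P : Subgroup G))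
    (hSyl : ¬ p ∣ ((P : Subgroup G) ⊓ Subgroup.normalizer (H : Set G)).relIndex (Subgroup.normalizer (H : Set G)))
    [hC : ((Subgroup.centralizer (H : Set G)).subgroupOf (Subgroup.normalizer (H : Set G))).Normal] :
    (H ≤ ((Cfsg.pCore p (↥(Subgroup.normalizer (H : Set G)) ⧸
              (Subgroup.centralizer (H : Set G)).subgroupOf (Subgroup.normalizer (H : Set G)))).comap
            (QuotientGroup.mk' _)).map (Subgroup.normalizer (H : Set G)).subtype ∧
      ¬ p ∣ H.relIndex (((Cfsg.pCore p (↥(Subgroup.normalizer (H : Set G)) ⧸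
              (Subgroup.centralizer (H : Set G)).subgroupOf (Subgroup.normalizer (H : Set G)))).comap
            (QuotientGroup.mk' _)).map (Subgroup.normalizer (H : Set G)).subtype)) ↔
    ((P : Subgroup G) ⊓ Subgroup.centralizer (H : Set G) ≤ H ∧
      (Cfsg.pPrimePCore p ↥(Subgroup.normalizer (H : Set G))).map (Subgroup.normalizer (H : Set G)).subtype =
        H ⊔ Subgroup.centralizer (H : Set G)) := by
  set N := Subgroup.normalizer (H : Set G) with hN
  set C := (Subgroup.centralizer (H : Set G)).subgroupOf N with hCdef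
  set L := (Cfsg.pCore p (↥N ⧸ C)).comap (QuotientGroup.mk' C) with hL
  have hHN : H ≤ N := Subgroup.le_normalizer
  have hCN : Subgroup.centralizer (H : Set G) ≤ N := Subgroup.centralizer_le_normalizer _
  haveI : (H.subgroupOf N).Normal := Subgroup.normal_subgroupOf_iff hHN |>.2 fun h n hh hn =>
    (Subgroup.mem_normalizer_iff.1 hn h).1 hh
  have hHp : IsPGroup p (H.subgroupOf N) :=
    (P.2.to_le hHP).of_equiv (Subgroup.subgroupOfEquivOfLe hHN).symm
  have hCeq : C = Subgroup.centralizer ((H.subgroupOf N : Subgroup N) : Set N) := by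
    ext x
    rw [hCdef, Subgroup.mem_subgroupOf, Subgroup.mem_centralizer_iff, Subgroup.mem_centralizer_iff]
    exact ⟨fun h y hy => Subtype.ext (h y hy),
      fun h y hy => congrArg Subtype.val (h ⟨y, hHN hy⟩ hy)⟩
  let S : Sylow p N := ((P.2.to_le (inf_le_left (b := N))).of_equiv
    (Subgroup.subgroupOfEquivOfLe inf_le_right).symm).toSylow hSyl
  have key := CfsgLib.LS.CentricCore.sylow_in_comap_pCore_iff (H.subgroupOf N) C hCeq hHp S
  have hSdef : (S : Subgroup N) = ((P : Subgroup G) ⊓ N).subgroupOf N := rfl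
  have hLm : H.subgroupOf N ≤ L := CfsgLib.LS.CentricCore.le_comap_pCore hHp C
  have hrel : H.relIndex (L.map N.subtype) = (H.subgroupOf N).relIndex L := by
    rw [← Subgroup.relIndex_map_map_of_injective _ _ N.subtype_injective,
      Subgroup.subgroupOf_map_subtype, inf_eq_left.2 hHN]
  have hinj := Subgroup.map_injective N.subtype_injective
  rw [hrel]
  constructor
  · rintro ⟨-, h2⟩
    obtain ⟨h3, h4⟩ := key.1 h2
    refine ⟨fun x hx => h3 (show (⟨x, hCN hx.2⟩ : N) ∈ (S : Subgroup N) ⊓ C from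
      ⟨by rw [hSdef]; exact ⟨hx.1, hCN hx.2⟩, hx.2⟩), ?_⟩
    rw [h4, Subgroup.map_sup, hCdef, Subgroup.subgroupOf_map_subtype, Subgroup.subgroupOf_map_subtype,
      inf_eq_left.2 hHN, inf_eq_left.2 hCN]
  · rintro ⟨h3, h4⟩
    refine ⟨fun x hx => ⟨⟨x, hHN hx⟩, hLm hx, rfl⟩, key.2 ⟨fun x hx => ?_, hinj ?_⟩⟩
    · obtain ⟨hx1, hx2⟩ := hx
      rw [hSdef] at hx1
      exact h3 ⟨hx1.1, hx2⟩
    · rw [h4, Subgroup.map_sup, hCdef, Subgroup.subgroupOf_map_subtype, Subgroup.subgroupOf_map_subtype,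
        inf_eq_left.2 hHN, inf_eq_left.2 hCN]

end Cfsg.Agent.S3076
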