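import Cfsg.Statements.S3078
import Cfsg.Agent.Lib.Fusion.ReplacementOmega

set_option autoImplicit false
open Cfsg

namespace Cfsg.Agent.S3078

/-- A replacement Theorem for abelian subgroups of p-groups, p odd. Let G be a finite p-group with p odd, A an abelian subgroup of G, and B a subgroup of nilpotency class at most 2 with [B, B] ≤ A, such that A normalizes B but B does not normalize A. Then there is an abelian subgroup A* of G of the same order as A with A ∩ B strictly contained in A* ∩ B, A* contained in N_G(A) and in the normal closure of A, the exponent of A* dividing the exponent of A, and with the subgroup generated by the elements of order dividing p in A of order at most that of the corresponding subgroup of A* (the rank of A is at most the rank of A*). -/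
theorem result {G : Type*} [Group G] [Finite G] {p : ℕ} [Fact p.Prime] (hp : p ≠ 2) (hG : IsPGroup p G) (A B : Subgroup G) (hA : IsMulCommutative A) (hB2 : ⁅⁅B, B⁆, B⁆ = ⊥) (hBA : ⁅B, B⁆ ≤ A) (hAB : A ≤ Subgroup.normalizer (B : Set G)) (hBnA : ¬ B ≤ Subgroup.normalizer (A : Set G)) : ∃ Astar : Subgroup G, IsMulCommutative Astar ∧ Nat.card Astar = Nat.card A ∧ A ⊓ B < Astar ⊓ B ∧ Astar ≤ Subgroup.normalizer (A : Set G) ∧ Astar ≤ Subgroup.normalClosure (A : Set G) ∧ Monoid.exponent Astar ∣ Monoid.exponent A ∧ Nat.card (Cfsg.omegaOne p A) ≤ Nat.card (Cfsg.omegaOne p Astar) := by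
  classical
  set H := A ⊔ B with hH
  set A' := A.subgroupOf H with hA'
  set B' := B.subgroupOf H with hB'
  have hAH : A ≤ H := le_sup_left
  have hBH : B ≤ H := le_sup_right
  haveI hBn : B'.Normal := Subgroup.normal_subgroupOf_of_le_normalizer (sup_le hAB Subgroup.le_normalizer)
  have hGH : IsPGroup p H := hG.to_subgroup H
  have hder : ⁅B', B'⁆ ≤ A' := by
    intro z hz
    have h1 : (z : G) ∈ (⁅B', B'⁆).map H.subtype := ⟨z, hz, rfl⟩
    rw [Subgroup.map_commutator, hB', Subgroup.subgroupOf_map_subtype, inf_eq_left.2 hBH] at h1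
    exact hBA h1
  have hnot : ¬ B' ≤ Subgroup.normalizer (A' : Set H) := by
    intro hle
    refine hBnA fun x hx => Subgroup.mem_normalizer_iff.2 fun a => ?_
    have hN := Subgroup.mem_normalizer_iff.1 (hle (show (⟨x, hBH hx⟩ : H) ∈ B' from hx))
    constructor
    · exact fun ha => (hN ⟨a, hAH ha⟩).1 ha
    · intro ha
      have haH : a ∈ H := by
        have := mul_mem (mul_mem (inv_mem (hBH hx)) (hAH ha)) (hBH hx)
        simpa [mul_assoc] using this
      exact (hN ⟨a, haH⟩).2 ha
  obtain ⟨b, hb, hbN, hbA⟩ := CfsgLib.Fusion.exists_mem_normalizer_normalizer hGH hnot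
  have h : CfsgLib.Fusion.RStep p A' B' b := ⟨hGH, hBn, fun h2 => absurd h2 hp,
    fun x hx y hy => Subtype.ext (by
      simpa using congrArg (fun z : A => (z : G)) (hA.is_comm.comm (⟨(x : G), hx⟩ : A) ⟨(y : G), hy⟩)),
    hder, hb, hbN⟩
  set R := CfsgLib.Fusion.rstar A' b with hR
  set Rs := R.map H.subtype with hRs
  haveI := h.isMulCommutative_rstar
  have hAm : A'.map H.subtype = A := by
    rw [hA', Subgroup.subgroupOf_map_subtype, inf_eq_left.2 hAH]
  have hcard : Nat.card Rs = Nat.card A := by
    rw [hRs, Subgroup.card_map_of_injective H.subtype_injective, h.card_rstar,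
      ← Subgroup.card_map_of_injective H.subtype_injective, hAm]
  refine ⟨Rs, ?_, hcard, ?_, ?_, ?_, ?_, ?_⟩
  · rw [hRs]; infer_instance
  · have h1 := Subgroup.map_lt_map_iff_of_injective H.subtype_injective |>.2 (h.inf_lt_rstar_inf hbA)
    rwa [Subgroup.map_inf _ _ _ H.subtype_injective, Subgroup.map_inf _ _ _ H.subtype_injective, hAm,
      hB', Subgroup.subgroupOf_map_subtype, inf_eq_left.2 hBH] at h1
  · rintro _ ⟨x, hx, rfl⟩
    have h1 := Subgroup.le_normalizer_map H.subtype ⟨x, h.rstar_le_normalizer hx, rfl⟩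
    rwa [hAm] at h1
  · rw [hRs, Subgroup.map_le_iff_le_comap]
    haveI : ((Subgroup.normalClosure (A : Set G)).comap H.subtype).Normal := inferInstance
    exact CfsgLib.Fusion.RStep.rstar_le fun x hx =>
      Subgroup.subset_normalClosure (show (x : G) ∈ A from hx)
  · refine Monoid.exponent_dvd_of_forall_pow_eq_one ?_
    rintro ⟨_, x, hx, rfl⟩
    have hodd : Odd (Monoid.exponent A) := by
      obtain ⟨k, hk⟩ := IsPGroup.iff_card.1 (hG.to_subgroup A)
      obtain ⟨j, -, hj⟩ := (Nat.dvd_prime_pow (Fact.out : p.Prime)).1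
        (hk ▸ Group.exponent_dvd_nat_card (G := A))
      rw [hj]
      exact ((Fact.out : p.Prime).odd_of_ne_two hp).pow
    have h1 := h.pow_eq_one_of_odd hodd (fun a ha => Subtype.ext (by
      simpa using congrArg (fun z : A => (z : G)) (Monoid.pow_exponent_eq_one (⟨(a : G), ha⟩ : A)))) hx
    refine Subtype.ext ?_
    show (x : G) ^ Monoid.exponent A = 1
    rw [← SubgroupClass.coe_pow, h1, OneMemClass.coe_one]
  · have h1 := h.card_omega_le hp
    rwa [← Subgroup.card_map_of_injective H.subtype_injective, CfsgLib.LS.map_omegaOne H.subtype_injective,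
      hAm, ← Subgroup.card_map_of_injective H.subtype_injective,
      CfsgLib.LS.map_omegaOne H.subtype_injective] at h1

end Cfsg.Agent.S3078
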