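import Cfsg.Statements.S3085

set_option autoImplicit false
open Cfsg Subgroup
open scoped commutatorElement

namespace Cfsg.Agent.S3085

section Aux

variable {Q : Type*} [Group Q] {z : Q}

/-- The data used: `z` is central of order two, every commutator is `1` or `z`, squares are central. -/
structure Small (z : Q) : Prop where
  ne : z ≠ 1
  sq : z * z = 1
  central : ∀ q, q * z = z * q
  center : ∀ c, c ∈ center Q → c = 1 ∨ c = z
  comm : ∀ a q : Q, q * a = a * q ∨ a * q = q * a * z

lemma Small.z_mem (h : Small z) : z ∈ Subgroup.center Q := mem_center_iff.2 h.central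

lemma Small.comm' (h : Small z) {a q : Q} (hn : ¬ q * a = a * q) : a * q = q * a * z :=
  (h.comm a q).resolve_left hn

/-- Two elements not commuting with `a` have a product commuting with `a`. -/
lemma Small.mul_comm_of_not (h : Small z) {a q r : Q} (hq : ¬ q * a = a * q)
    (hr : ¬ r * a = a * r) : q * r * a = a * (q * r) := by
  have h1 := h.comm' hq
  have h2 := h.comm' hr
  calc q * r * a = q * r * a * (z * z) := by rw [h.sq, mul_one]
    _ = q * (r * a * z) * z := by group
    _ = q * (a * r) * z := by rw [h2]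
    _ = q * a * (r * z) := by group
    _ = q * a * (z * r) := by rw [h.central r]
    _ = (q * a * z) * r := by group
    _ = a * (q * r) := by rw [← h1]; group

lemma comm_mul_iff {a q r : Q} (hq : q * a = a * q) :
    q * r * a = a * (q * r) ↔ r * a = a * r := by
  rw [← mul_assoc a q r, ← hq, mul_assoc q a r, mul_assoc q r a, mul_right_inj]

lemma mul_comm_iff' {a q r : Q} (hr : r * a = a * r) :
    q * r * a = a * (q * r) ↔ q * a = a * q := by
  rw [mul_assoc q r a, hr, ← mul_assoc q a r, ← mul_assoc a q r, mul_left_inj]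

open Classical in
/-- The orthogonal transvection at `a`. -/
noncomputable def tv (a q : Q) : Q := if q * a = a * q then q else q * a

lemma tv_pos {a q : Q} (hq : q * a = a * q) : tv a q = q := if_pos hq

lemma tv_neg {a q : Q} (hq : ¬ q * a = a * q) : tv a q = q * a := if_neg hq

lemma Small.tv_mul (h : Small z) {a : Q} (ha : a * a = z) (q r : Q) :
    tv a (q * r) = tv a q * tv a r := by
  by_cases hq : q * a = a * q
  · by_cases hr : r * a = a * r
    · rw [tv_pos hq, tv_pos hr, tv_pos ((comm_mul_iff hq).2 hr)]
    · rw [tv_pos hq, tv_neg hr, tv_neg (fun e => hr ((comm_mul_iff hq).1 e)), mul_assoc]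
  · by_cases hr : r * a = a * r
    · rw [tv_neg hq, tv_pos hr, tv_neg (fun e => hq ((mul_comm_iff' hr).1 e)), mul_assoc, hr,
        mul_assoc]
    · rw [tv_neg hq, tv_neg hr, tv_pos (h.mul_comm_of_not hq hr)]
      calc q * r = q * r * (z * z) := by rw [h.sq, mul_one]
        _ = q * r * (a * a * z) := by rw [ha]
        _ = q * (r * a) * (a * z) := by group
        _ = q * (r * a) * (z * a) := by rw [h.central a]
        _ = q * (r * a * z) * a := by group
        _ = q * (a * r) * a := by rw [← h.comm' hr]
        _ = q * a * (r * a) := by group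

variable [Finite Q]

/-- The orthogonal transvection at `a`, as an automorphism. -/
noncomputable def Small.tvEquiv (h : Small z) {a : Q} (ha : a * a = z) : MulAut Q :=
  MulEquiv.ofBijective (MonoidHom.mk' (tv a) (h.tv_mul ha)) (by
    have hinj : Function.Injective (MonoidHom.mk' (tv a) (h.tv_mul ha)) := by
      rw [injective_iff_map_eq_one]
      intro q hq
      change tv a q = 1 at hq
      by_cases hc : q * a = a * q
      · rwa [tv_pos hc] at hq
      · rw [tv_neg hc] at hq
        obtain rfl := eq_inv_of_mul_eq_one_left hq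
        exact absurd (by simp) hc
    exact ⟨hinj, Finite.injective_iff_surjective.1 hinj⟩)

lemma Small.tvEquiv_apply (h : Small z) {a : Q} (ha : a * a = z) (q : Q) :
    h.tvEquiv ha q = tv a q := rfl

lemma Small.tvEquiv_sq (h : Small z) {a : Q} (ha : a * a = z) :
    h.tvEquiv ha * h.tvEquiv ha = MulAut.conj a := by
  refine MulEquiv.ext fun q => ?_
  rw [MulAut.mul_apply, h.tvEquiv_apply, h.tvEquiv_apply, MulAut.conj_apply]
  by_cases hc : q * a = a * q
  · rw [tv_pos hc, tv_pos hc, ← hc, mul_inv_cancel_right]
  · rw [tv_neg hc]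
    have hc' : ¬ q * a * a = a * (q * a) := fun e => hc ((mul_comm_iff' rfl).1 e)
    rw [tv_neg hc', h.comm' hc, mul_assoc q a a, ha, mul_assoc (q * a) z a⁻¹, ← h.central a⁻¹]
    group

lemma Small.tvEquiv_comm (h : Small z) {a b : Q} (ha : a * a = z) (hb : b * b = z)
    (hab : a * b = b * a) :
    h.tvEquiv ha * h.tvEquiv hb = h.tvEquiv hb * h.tvEquiv ha := by
  refine MulEquiv.ext fun q => ?_
  simp only [MulAut.mul_apply, h.tvEquiv_apply]
  by_cases hqa : q * a = a * q <;> by_cases hqb : q * b = b * q
  · rw [tv_pos hqa, tv_pos hqb, tv_pos hqa]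
  · rw [tv_pos hqa, tv_neg hqb,
      tv_pos ((mul_comm_iff' hab.symm).2 hqa)]
  · rw [tv_pos hqb, tv_neg hqa, tv_pos ((mul_comm_iff' hab).2 hqb)]
  · rw [tv_neg hqa, tv_neg hqb, tv_neg (fun e => hqa ((mul_comm_iff' hab.symm).1 e)),
      tv_neg (fun e => hqb ((mul_comm_iff' hab).1 e)), mul_assoc, mul_assoc, hab]

lemma conj_eq_imp {g g' : Q} (h : MulAut.conj g = MulAut.conj g') :
    g⁻¹ * g' ∈ Subgroup.center Q := by
  rw [mem_center_iff]
  intro r
  have := congrArg (fun f : MulAut Q => f r) h
  simp only [MulAut.conj_apply] at this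
  calc r * (g⁻¹ * g') = g⁻¹ * (g * r * g⁻¹) * g' := by group
    _ = g⁻¹ * (g' * r * g'⁻¹) * g' := by rw [this]
    _ = g⁻¹ * g' * r := by group

lemma aut_conj (T : MulAut Q) (v : Q) : T * MulAut.conj v = MulAut.conj (T v) * T := by
  refine MulEquiv.ext fun q => ?_
  simp only [MulAut.mul_apply, MulAut.conj_apply, map_mul, map_inv]

lemma mem_inn_conj (T : MulAut Q) {f : MulAut Q} (hf : f ∈ Cfsg.Inn Q) :
    T * f * T⁻¹ ∈ Cfsg.Inn Q := by
  obtain ⟨v, rfl⟩ := MonoidHom.mem_range.1 hf
  exact MonoidHom.mem_range.2 ⟨T v, by rw [aut_conj, mul_inv_cancel_right]⟩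

/-- Among four non-central, pairwise commuting elements squaring to `z` no product of three of
them is the fourth, if the inner automorphism group is complemented. -/
theorem no_complement (h : Small z) (L : Subgroup (MulAut Q))
    (hL : (Cfsg.Inn Q).IsComplement' L) (a b c : Q) (ha : a * a = z) (hb : b * b = z)
    (hc : c * c = z) (hab : a * b = b * a) (hac : a * c = c * a) (hbc : b * c = c * b)
    (h1 : a * b ∉ Subgroup.center Q) (h2 : a * c ∉ Subgroup.center Q)
    (h3 : b * c ∉ Subgroup.center Q) : False := by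
  classical
  have hdis : ∀ f ∈ Cfsg.Inn Q, f ∈ L → f = 1 := fun f hf hfL =>
    (Subgroup.mem_bot).1 (hL.disjoint.eq_bot ▸ Subgroup.mem_inf.2 ⟨hf, hfL⟩)
  have hlift : ∀ T : MulAut Q, ∃ v : Q, MulAut.conj v * T ∈ L := by
    intro T
    obtain ⟨⟨⟨f, hf⟩, ⟨l, hl⟩⟩, hfl⟩ := hL.2 T
    obtain ⟨w, rfl⟩ := MonoidHom.mem_range.1 hf
    refine ⟨w⁻¹, ?_⟩
    change MulAut.conj w * l = T at hfl
    rwa [map_inv, ← hfl, inv_mul_cancel_left]
  choose v hv using hlift
  have hsq_v : ∀ {x : Q} (hx : x * x = z),
      ¬ v (h.tvEquiv hx) * x = x * v (h.tvEquiv hx) := by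
    intro x hx hcm
    have hcen : ∀ q : Q, MulAut.conj (q * q) = 1 := by
      intro q
      refine MulEquiv.ext fun r => ?_
      rw [MulAut.conj_apply, MulAut.one_apply, mul_inv_eq_iff_eq_mul]
      by_cases hqr : q * r = r * q
      · rw [mul_assoc, hqr, ← mul_assoc, hqr, mul_assoc]
      · exact h.mul_comm_of_not (a := r) hqr hqr
    have hLL := L.mul_mem (hv (h.tvEquiv hx)) (hv (h.tvEquiv hx))
    have heq : MulAut.conj (v (h.tvEquiv hx)) * h.tvEquiv hx *
        (MulAut.conj (v (h.tvEquiv hx)) * h.tvEquiv hx)
        = MulAut.conj (v (h.tvEquiv hx) * v (h.tvEquiv hx) * x) := by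
      calc _ = MulAut.conj (v (h.tvEquiv hx)) * (h.tvEquiv hx * MulAut.conj (v (h.tvEquiv hx)))
            * h.tvEquiv hx := by group
        _ = MulAut.conj (v (h.tvEquiv hx)) * MulAut.conj (h.tvEquiv hx (v (h.tvEquiv hx)))
            * (h.tvEquiv hx * h.tvEquiv hx) := by rw [aut_conj]; group
        _ = _ := by
          rw [h.tvEquiv_sq hx, h.tvEquiv_apply, tv_pos hcm, ← map_mul, ← map_mul]
    rw [heq] at hLL
    have h1' := hdis _ (MonoidHom.mem_range.2 ⟨_, rfl⟩) hLL
    rw [map_mul, hcen, one_mul] at h1'
    have hxc : x ∈ Subgroup.center Q := by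
      have := conj_eq_imp (g := 1) (g' := x) (by rw [map_one, h1'])
      simpa using this
    rcases h.center x hxc with e | e
    · exact h.ne (by rw [← hx, e, one_mul])
    · exact h.ne (by rw [← hx, e, h.sq])
  have hcomm_v : ∀ {x y : Q} (hx : x * x = z) (hy : y * y = z), x * y = y * x →
      x * y ∉ Subgroup.center Q → v (h.tvEquiv hx) * y = y * v (h.tvEquiv hx) := by
    intro x y hx hy hxy hnc
    set T := h.tvEquiv hx with hT
    set U := h.tvEquiv hy with hU
    have hTU : T * U = U * T := h.tvEquiv_comm hx hy hxy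
    have hmemL := L.mul_mem (L.mul_mem (hv T) (hv U))
      (L.inv_mem (L.mul_mem (hv U) (hv T)))
    have e1 : MulAut.conj (v T) * T * (MulAut.conj (v U) * U)
        = MulAut.conj (v T * T (v U)) * (T * U) := by
      rw [map_mul]
      calc _ = MulAut.conj (v T) * (T * MulAut.conj (v U)) * U := by group
        _ = _ := by rw [aut_conj]; group
    have e2 : MulAut.conj (v U) * U * (MulAut.conj (v T) * T)
        = MulAut.conj (v U * U (v T)) * (T * U) := by
      rw [hTU, map_mul]
      calc _ = MulAut.conj (v U) * (U * MulAut.conj (v T)) * T := by group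
        _ = _ := by rw [aut_conj]; group
    have e3 : MulAut.conj (v T) * T * (MulAut.conj (v U) * U) *
        (MulAut.conj (v U) * U * (MulAut.conj (v T) * T))⁻¹
        = MulAut.conj (v T * T (v U) * (v U * U (v T))⁻¹) := by
      rw [e1, e2, map_mul _ (v T * T (v U)), map_inv]; group
    rw [e3] at hmemL
    have h1' := hdis _ (MonoidHom.mem_range.2 ⟨_, rfl⟩) hmemL
    rw [map_mul, map_inv, mul_inv_eq_one] at h1'
    have hcen := conj_eq_imp h1'
    rw [hT, hU, h.tvEquiv_apply, h.tvEquiv_apply] at hcen
    rw [← hT, ← hU] at hcen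
    by_contra hne
    rw [tv_neg hne] at hcen
    set p := v T
    set r := v U
    have hbad : ∀ w, (p * w)⁻¹ * (r * (p * y)) ∈ Subgroup.center Q → (w = r ∨ w = r * x) → False := by
      intro w hw hw'
      have hpr : r * p = p * r ∨ r * p = p * r * z := by
        rcases h.comm r p with e | e
        · exact Or.inl e.symm
        · exact Or.inr e
      have hy_mem : w⁻¹ * r * y ∈ Subgroup.center Q := by
        rcases hpr with e | e
        · have : (p * w)⁻¹ * (r * (p * y)) = w⁻¹ * r * y := by
            rw [← mul_assoc r p y, e]; group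
          rwa [this] at hw
        · have : (p * w)⁻¹ * (r * (p * y)) = w⁻¹ * r * y * z := by
            rw [← mul_assoc r p y, e, mul_assoc (p * r) z y, ← h.central y]; group
          rw [this] at hw
          simpa using (Subgroup.center Q).mul_mem hw ((Subgroup.center Q).inv_mem h.z_mem)
      have hxy' : x⁻¹ * y ∈ Subgroup.center Q → False := by
        intro hm
        refine hnc ?_
        have := (Subgroup.center Q).mul_mem h.z_mem hm
        rwa [← hx, mul_assoc x x, mul_inv_cancel_left] at this
      rcases hw' with rfl | rfl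
      · have hyc : y ∈ Subgroup.center Q := by simpa using hy_mem
        rcases h.center y hyc with e | e
        · exact h.ne (by rw [← hy, e, one_mul])
        · exact h.ne (by rw [← hy, e, h.sq])
      · exact hxy' (by simpa [mul_assoc] using hy_mem)
    by_cases hrx : r * x = x * r
    · rw [tv_pos hrx] at hcen
      exact hbad _ hcen (Or.inl rfl)
    · rw [tv_neg hrx] at hcen
      exact hbad _ hcen (Or.inr rfl)
  -- the fourth element
  set d := a * b * c with hd_def
  have hd : d * d = z := by
    have e1 : Commute a b := hab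
    have e2 : Commute (a * b) c := (show Commute a c from hac).mul_left hbc
    calc d * d = (a * b * a * b) * (c * c) := by
          rw [hd_def]; exact (Commute.mul_mul_mul_comm e2.symm _ _).trans (by simp only [mul_assoc])
      _ = (a * a) * (b * b) * (c * c) := by
          congr 1
          rw [mul_assoc a b a, ← hab]; group
      _ = z := by rw [ha, hb, hc, h.sq, one_mul]
  have had : a * d = d * a := by
    rw [hd_def]; exact ((Commute.refl a).mul_right hab |>.mul_right hac)
  have hnd : a * d ∉ Subgroup.center Q := by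
    intro hm
    have e : a * d = z * (b * c) := by rw [hd_def, ← ha]; group
    rw [e] at hm
    exact h3 (by simpa using (Subgroup.center Q).mul_mem ((Subgroup.center Q).inv_mem h.z_mem) hm)
  have k1 := hsq_v ha
  have k2 := hcomm_v ha hb hab h1
  have k3 := hcomm_v ha hc hac h2
  have k4 := hcomm_v ha hd had hnd
  refine k1 ?_
  have hbc' : v (h.tvEquiv ha) * (b * c) = (b * c) * v (h.tvEquiv ha) :=
    (show Commute (v (h.tvEquiv ha)) b from k2).mul_right k3
  rw [hd_def, mul_assoc a b c] at k4
  set p := v (h.tvEquiv ha)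
  rw [← mul_assoc p a, mul_assoc a (b * c) p, ← hbc', ← mul_assoc a p] at k4
  exact mul_right_cancel k4

end Aux

section Triple

variable {Q : Type*} [Group Q] [Finite Q] {z : Q}

lemma Small.sq_cases (h : Small z) (q : Q) : q * q = 1 ∨ q * q = z := by
  refine h.center _ (mem_center_iff.2 fun r => ?_)
  by_cases hqr : q * r = r * q
  · rw [← mul_assoc, ← hqr, mul_assoc, ← hqr, mul_assoc]
  · exact ((h.mul_comm_of_not (a := r) hqr hqr)).symm

lemma Small.index_centralizer (h : Small z) (a : Q) :
    (Subgroup.centralizer ({a} : Set Q)).index ≤ 2 := by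
  by_cases hall : ∀ q, q * a = a * q
  · have : Subgroup.centralizer ({a} : Set Q) = ⊤ := by
      rw [eq_top_iff]; intro q _; rw [mem_centralizer_singleton_iff]; exact hall q
    rw [this, Subgroup.index_top]; omega
  · push Not at hall
    obtain ⟨r, hr⟩ := hall
    refine le_of_eq (Subgroup.index_eq_two_iff.2 ⟨r, fun q => ?_⟩)
    simp only [mem_centralizer_singleton_iff]
    by_cases hq : q * a = a * q
    · exact Or.inr ⟨hq, fun e => hr ((comm_mul_iff hq).1 e)⟩
    · exact Or.inl ⟨h.mul_comm_of_not hq hr, hq⟩

/-- From a subgroup larger than a given finite set, an element squaring to `z` outside the set. -/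
lemma Small.exists_next (h : Small z) (a : Q) (ha : a * a = z) (K : Subgroup Q) (haK : a ∈ K)
    (hKa : ∀ q ∈ K, q * a = a * q) (s : Finset Q) (hs : s.card < Nat.card K)
    (hsa : ∀ q ∈ s, q * a ∈ s) : ∃ q ∈ K, q * q = z ∧ q ∉ s := by
  classical
  haveI := Fintype.ofFinite Q
  obtain ⟨q, hq, hqs⟩ : ∃ q ∈ K, q ∉ s := by
    by_contra hne
    push Not at hne
    have : (K : Set Q).ncard ≤ s.card := by
      rw [← Set.ncard_coe_finset]; exact Set.ncard_le_ncard hne s.finite_toSet
    rw [← Nat.card_coe_set_eq] at this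
    exact absurd this (not_le.2 hs)
  rcases h.sq_cases q with e | e
  · refine ⟨q * a, K.mul_mem hq haK, ?_, fun hm => hqs ?_⟩
    · rw [mul_assoc, ← mul_assoc a, ← hKa q hq, mul_assoc q a, ← mul_assoc q q, e, one_mul, ha]
    · have h1 := hsa _ (hsa _ (hsa _ hm))
      have h4 : q * a * a * a * a = q := by
        rw [mul_assoc (q * a * a), ha, mul_assoc q a a, ha, mul_assoc, h.sq, mul_one]
      rwa [h4] at h1
  · exact ⟨q, hq, e, hqs⟩

lemma Small.exists_triple (h : Small z) {n : ℕ} (hcard : Nat.card Q = 2 ^ (2 * n + 1))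
    (hn : 3 ≤ n) : ∃ a b c : Q, a * a = z ∧ b * b = z ∧ c * c = z ∧ a * b = b * a ∧
      a * c = c * a ∧ b * c = c * b ∧ a * b ∉ Subgroup.center Q ∧
      a * c ∉ Subgroup.center Q ∧ b * c ∉ Subgroup.center Q := by
  classical
  have hbig : 128 ≤ Nat.card Q := by
    rw [hcard]
    exact le_trans (by norm_num : 128 ≤ 2 ^ 7) (Nat.pow_le_pow_right two_pos (by omega))
  obtain ⟨a, ha⟩ : ∃ a : Q, a * a = z := by
    by_contra hne
    push Not at hne
    have hsq : ∀ q : Q, q * q = 1 := fun q => (h.sq_cases q).resolve_right (hne q)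
    have hcenter : ∀ q : Q, q ∈ Subgroup.center Q := by
      intro q
      rw [mem_center_iff]
      intro r
      calc r * q = (q * q) * (r * q) * (r * r) := by rw [hsq, hsq, one_mul, mul_one]
        _ = q * ((q * r) * (q * r)) * r := by group
        _ = q * r := by rw [hsq, mul_one]
    have hle : Nat.card Q ≤ ({1, z} : Finset Q).card := by
      haveI := Fintype.ofFinite Q
      rw [Nat.card_eq_fintype_card, ← Finset.card_univ]
      refine Finset.card_le_card fun q _ => ?_
      simpa using h.center q (hcenter q)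
    have := hle.trans Finset.card_le_two
    omega
  set K := Subgroup.centralizer ({a} : Set Q) with hK
  have hKcard : 64 ≤ Nat.card K := by
    have e := K.card_mul_index
    have h2' : Nat.card K * K.index ≤ Nat.card K * 2 := Nat.mul_le_mul le_rfl (h.index_centralizer a)
    omega
  have haK : a ∈ K := mem_centralizer_singleton_iff.2 rfl
  have hKa : ∀ q ∈ K, q * a = a * q := fun q hq => mem_centralizer_singleton_iff.1 hq
  have haz : ∀ q, q * z * z = q := fun q => by rw [mul_assoc, h.sq, mul_one]
  have hza : ∀ q, q * z * a = q * a * z := fun q => by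
    rw [mul_assoc, ← h.central a, ← mul_assoc]
  obtain ⟨b, hbK, hb, hbs⟩ := h.exists_next a ha K haK hKa {1, z, a, a * z}
    (lt_of_le_of_lt Finset.card_le_four (by omega)) (by
      intro q hq
      simp only [Finset.mem_insert, Finset.mem_singleton] at hq ⊢
      rcases hq with rfl | rfl | rfl | rfl
      · simp
      · simp [h.central a]
      · simp [ha]
      · simp [hza, ha, h.sq])
  simp only [Finset.mem_insert, Finset.mem_singleton, not_or] at hbs
  set M := K ⊓ Subgroup.centralizer ({b} : Set Q) with hM
  have hMcard : 32 ≤ Nat.card M := by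
    have e := M.card_mul_index
    have e' : M.index ≤ 4 := (Subgroup.index_inf_le (H := K) (K := Subgroup.centralizer ({b} : Set Q))).trans
      (Nat.mul_le_mul (h.index_centralizer a) (h.index_centralizer b))
    have h2' : Nat.card M * M.index ≤ Nat.card M * 4 := Nat.mul_le_mul le_rfl e'
    omega
  have hab : a * b = b * a := (hKa b hbK).symm
  have haM : a ∈ M := ⟨haK, mem_centralizer_singleton_iff.2 hab⟩
  obtain ⟨c, hcM, hc, hcs⟩ := h.exists_next a ha M haM (fun q hq => hKa q hq.1)
    [1, z, a, a * z, b, b * z, b * a, b * a * z].toFinset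
    (lt_of_le_of_lt (List.toFinset_card_le _) (by simp only [List.length_cons, List.length_nil]; omega)) (by
      intro q hq
      simp only [List.mem_toFinset, List.mem_cons, List.not_mem_nil, or_false] at hq ⊢
      rcases hq with rfl | rfl | rfl | rfl | rfl | rfl | rfl | rfl
      · simp
      · simp [h.central a]
      · simp [ha]
      · simp [hza, ha, h.sq]
      · simp
      · simp [hza]
      · simp [mul_assoc b a a, ha]
      · simp [hza, mul_assoc b a a, ha, haz])
  simp only [List.mem_toFinset, List.mem_cons, List.not_mem_nil, or_false, not_or] at hcs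
  -- a product of two of them is central only if they agree modulo the centre
  have key : ∀ x y : Q, x * x = z → x * y ∈ Subgroup.center Q → y = x ∨ y = x * z := by
    intro x y hx hxy
    rcases h.center _ hxy with e | e
    · right
      rw [eq_inv_of_mul_eq_one_right e]
      refine inv_eq_of_mul_eq_one_right ?_
      rw [← mul_assoc, hx, h.sq]
    · left
      rw [← hx] at e
      exact mul_left_cancel e
  refine ⟨a, b, c, ha, hb, hc, hab, (hKa c hcM.1).symm,
    (mem_centralizer_singleton_iff.1 hcM.2).symm, fun hm => ?_, fun hm => ?_, fun hm => ?_⟩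
  · rcases key a b ha hm with e | e <;> tauto
  · rcases key a c ha hm with e | e <;> tauto
  · rcases key b c hb hm with e | e <;> tauto

end Triple

/-- Let Q be an extraspecial 2-group of order 2^(2n+1) with n ≥ 3 that is of plus type (it contains an elementary abelian subgroup of order 2^(n+1)). Then the group of inner automorphisms of Q has no complement in the full automorphism group of Q: the extension of the inner automorphism group (elementary abelian of order 2^(2n)) by the outer automorphism group (the orthogonal group of plus type) does not split. -/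
theorem result {Q : Type*} [Group Q] [Finite Q] (n : ℕ) (hn : 3 ≤ n) (hQ : Cfsg.IsExtraspecial 2 Q) (hcard : Nat.card Q = 2 ^ (2 * n + 1)) (hplus : ∃ E : Subgroup Q, Cfsg.IsElementaryAbelian 2 E ∧ Nat.card ↥E = 2 ^ (n + 1)) (L : Subgroup (MulAut Q)) : ¬ (Cfsg.Inn Q).IsComplement' L := by
  intro hL
  obtain ⟨⟨-, -, hcl⟩, hZ⟩ := hQ
  have hnt : Nontrivial (Subgroup.center Q) := Finite.one_lt_card_iff_nontrivial.1 (by omega)
  obtain ⟨⟨z, hzm⟩, hz1⟩ := exists_ne (1 : Subgroup.center Q)
  have hzne : z ≠ 1 := fun e => hz1 (Subtype.ext e)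
  have hcenter : ∀ c, c ∈ Subgroup.center Q → c = 1 ∨ c = z := by
    intro c hc
    obtain ⟨w, -, hw⟩ := (Nat.card_eq_two_iff' (1 : Subgroup.center Q)).1 hZ
    by_cases hc1 : c = 1
    · exact Or.inl hc1
    · refine Or.inr ?_
      have e1 := hw ⟨c, hc⟩ (fun e => hc1 (congrArg Subtype.val e))
      have e2 := hw ⟨z, hzm⟩ hz1
      exact congrArg Subtype.val (e1.trans e2.symm)
  have hcentral : ∀ q, q * z = z * q := Subgroup.mem_center_iff.1 hzm
  have hzz : z * z = 1 := by
    rcases hcenter _ (mul_mem hzm hzm) with e | e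
    · exact e
    · exact absurd (mul_eq_left.1 e) hzne
  have hmem : ∀ g k : Q, ⁅g, k⁆ ∈ Subgroup.center Q := fun g k =>
    hcl.le (Subgroup.commutator_mem_commutator (Subgroup.mem_top g) (Subgroup.mem_top k))
  have hcomm : ∀ a q : Q, q * a = a * q ∨ a * q = q * a * z := by
    intro a q
    rcases hcenter _ (hmem a q) with e | e
    · exact Or.inl (commutatorElement_eq_one_iff_mul_comm.1 e).symm
    · right
      rw [hcentral, ← e, commutatorElement_def]; group
  have h : Small z := ⟨hzne, hzz, hcentral, hcenter, hcomm⟩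
  obtain ⟨a, b, c, ha, hb, hc, hab, hac, hbc, h1, h2, h3⟩ := h.exists_triple hcard hn
  exact no_complement h L hL a b c ha hb hc hab hac hbc h1 h2 h3

end Cfsg.Agent.S3085
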