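import Cfsg.Statements.S3086
import Cfsg.Agent.Lib.OffComp.Main
import Cfsg.Agent.Lib.Coprime.Component
-- import your own Cfsg.Agent.* helpers here

set_option autoImplicit false
set_option linter.style.haveILetI false
open Cfsg Subgroup CfsgLib.OffComp

namespace Cfsg.Agent.S3086

/-- The P(G,V)-theorem. Let p be a prime, G a finite group acting faithfully and linearly on a finite vector space V over the field with p elements, and A a nontrivial elementary abelian p-subgroup of G such that |A|·|C_V(A)| ≥ |B|·|C_V(B)| for every subgroup B of A. Then A normalizes every component (subnormal quasisimple subgroup) of G. -/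
theorem result {G V : Type*} [Group G] [Finite G] [AddCommGroup V] [Finite V] (p : ℕ) [Fact p.Prime] [Module (ZMod p) V]
    (ρ : Representation (ZMod p) G V) (hρ : Function.Injective ρ)
    (A : Subgroup G) (hA : A ≠ ⊥) (hAel : Cfsg.IsElementaryAbelian p A)
    (hP : ∀ B : Subgroup G, B ≤ A →
      Nat.card ↥B * Nat.card {v : V // ∀ b ∈ B, ρ b v = v} ≤ Nat.card ↥A * Nat.card {v : V // ∀ a ∈ A, ρ a v = v}) :
    ∀ K : Subgroup G, Cfsg.IsComponent K → A ≤ Subgroup.normalizer (K : Set G) := by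
  intro K hKc
  haveI := hAel.1
  have hcA : ∀ a ∈ A, ∀ b ∈ A, a * b = b * a := fun a ha b hb =>
    congrArg Subtype.val (mul_comm' (⟨a, ha⟩ : A) ⟨b, hb⟩)
  by_contra hnot
  have hperf : ⁅K, K⁆ = K := CfsgLib.Coprime.commutator_self_of_isComponent hKc
  -- the structure in `G`
  have hw : Wr A (A ⊓ normalizer (K : Set G)) K p :=
    { perfect := hperf
      le := inf_le_left
      comm_A := hcA
      pow_p := hAel.2
      norm := fun b hb k hk => (mem_normalizer_iff.1 (mem_inf.1 hb).2 k).1 hk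
      comm := by
        intro a ha haB k hk l hl
        have hne : K.map (MulAut.conj a).toMonoidHom ≠ K := by
          intro e
          refine haB (mem_inf.2 ⟨ha, mem_normalizer_fintype fun n hn => ?_⟩)
          show a * n * a⁻¹ ∈ K
          exact e.le ⟨n, hn, rfl⟩
        have hcom := CfsgLib.Coprime.components_commute
          (CfsgLib.Coprime.isComponent_map_equiv (MulAut.conj a) hKc) hKc hne
        exact (CfsgLib.Coprime.commutator_eq_bot_iff_forall.1 hcom) _ ⟨k, hk, rfl⟩ l hl }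
  let σ0 : G →* AddMonoid.End V :=
    { toFun := fun g => (ρ g).toAddMonoidHom
      map_one' := by rw [map_one]; rfl
      map_mul' := fun g h => by rw [map_mul]; rfl }
  have hp : ∀ v : V, p • v = 0 := fun v => ZModModule.char_nsmul_eq_zero p v
  haveI : Finite (AddMonoid.End V) := Finite.of_injective _ DFunLike.coe_injective
  obtain ⟨Q, hQ⟩ : ∃ Q : Subgroup G, Q = A ⊓ centralizer (K : Set G) := ⟨_, rfl⟩
  have hQA : Q ≤ A := hQ.le.trans inf_le_left
  have hQc : ∀ q ∈ Q, ∀ k ∈ K, q * k = k * q := fun q hq k hk =>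
    (mem_centralizer_iff.1 (mem_inf.1 (hQ.le hq)).2 k hk).symm
  obtain ⟨Z, hZ⟩ : ∃ Z : Subgroup G, Z = centralizer (Q : Set G) := ⟨_, rfl⟩
  have hAZ : A ≤ Z := fun a ha => hZ.ge (mem_centralizer_iff.2 fun q hq => hcA q (hQA hq) a ha)
  have hKZ : K ≤ Z := fun k hk => hZ.ge (mem_centralizer_iff.2 fun q hq => hQc q hq k hk)
  let S : AddSubgroup V := fixA σ0 Q
  have hS : ∀ g : Z, ∀ u ∈ S, (σ0.comp Z.subtype) g u ∈ S := by
    intro g u hu q hq
    show σ0 q (σ0 g u) = σ0 g u
    rw [← apply_mul, mem_centralizer_iff.1 (hZ.le g.2) q hq, apply_mul, hu q hq]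
  let σ := restrictTo (σ0.comp Z.subtype) S hS
  have hnt : ∃ k ∈ K.subgroupOf Z, σ k ≠ 1 := by
    by_contra hall
    push Not at hall
    have hone : ∀ x ∈ K, σ0 x = 1 := by
      refine map_eq_one_of_pow σ0 hperf (p := p) fun x hx => ?_
      have hn : orderOf x ≠ 0 := (orderOf_pos x).ne'
      obtain ⟨e, m, hm, hem⟩ := Nat.exists_eq_pow_mul_and_not_dvd hn p (Fact.out : p.Prime).ne_one
      refine ⟨e, ?_⟩
      rw [← map_pow]
      refine AddMonoidHom.ext fun u => ?_
      refine pq_abelian (σ := σ0) hp (fun c hc => hAel.2 c (hQA hc))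
        (fun c hc d hd => hcA c (hQA hc) d (hQA hd))
        (fun c hc => hQc c hc _ (pow_mem hx _)) (m := m) ?_
        ((Fact.out : p.Prime).coprime_iff_not_dvd.2 hm).symm (fun v hv => ?_) u
      · rw [← map_pow, ← pow_mul, ← hem, pow_orderOf_eq_one, map_one]
      · exact congrArg Subtype.val (DFunLike.congr_fun
          (hall ⟨x ^ p ^ e, hKZ (pow_mem hx _)⟩ (pow_mem hx (p ^ e))) (⟨v, hv⟩ : S))
    have hbot : ∀ x ∈ K, x = 1 := fun x hx => hρ (by
      rw [map_one]
      exact LinearMap.ext fun v => DFunLike.congr_fun (hone x hx) v)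
    haveI := CfsgLib.Coprime.nontrivial_of_isQuasisimple hKc.2
    obtain ⟨y, hy⟩ := exists_ne (1 : K)
    exact hy (Subtype.ext (hbot y y.2))
  have hfixeq : ∀ H : Subgroup Z, Q.subgroupOf Z ≤ H →
      Nat.card (fixA σ H) = Nat.card (fixA σ0 (H.map Z.subtype)) := by
    intro H hH
    refine Nat.card_congr
      { toFun := fun u => ⟨(u.1 : V), ?_⟩
        invFun := fun u => ⟨⟨u.1, ?_⟩, ?_⟩
        left_inv := fun u => rfl
        right_inv := fun u => rfl }
    · rintro _ ⟨g, hg, rfl⟩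
      exact congrArg Subtype.val (u.2 g hg)
    · intro q hq
      exact u.2 _ ⟨⟨q, hAZ (hQA hq)⟩, hH hq, rfl⟩
    · intro g hg
      exact Subtype.ext (u.2 _ ⟨g, hg, rfl⟩)
  refine best_offender_false (σ := σ) (hw.subgroupOf hAZ hKZ) (fun u => Subtype.ext (hp u))
    (Q := Q.subgroupOf Z) ?_ (fun q hq k hk => Subtype.ext (hQc _ hq _ hk)) ?_ ?_ ?_ hnt ?_ ?_
  · intro q hq
    refine mem_inf.2 ⟨hQA hq, mem_normalizer_fintype fun n hn => ?_⟩
    show (q : G) * n * (q : G)⁻¹ ∈ K
    rw [hQc (q : G) hq n hn, mul_inv_cancel_right]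
    exact hn
  · intro b hb hbK
    refine hQ.ge (mem_inf.2 ⟨(mem_inf.1 hb).1, mem_centralizer_iff.2 fun k hk => ?_⟩)
    exact congrArg Subtype.val (hbK ⟨k, hKZ hk⟩ hk).symm
  · intro q hq
    exact AddMonoidHom.ext fun u => Subtype.ext (u.2 _ hq)
  · intro L hLK hLn hne l hl k hk
    have hLK' : L.map Z.subtype ≤ K := by
      rintro _ ⟨y, hy, rfl⟩
      exact hLK hy
    have hnormal : ((L.map Z.subtype).subgroupOf K).Normal := by
      constructor
      rintro ⟨n, hn⟩ ⟨y, hy, hy'⟩ ⟨g, hg⟩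
      change (y : G) = n at hy'
      subst hy'
      exact ⟨_, hLn ⟨g, hKZ hg⟩ hg y hy, rfl⟩
    rcases CfsgLib.Coprime.subnormal_eq_top_or_le_center hKc.2 hnormal.isSubnormal with e | e
    · exfalso
      refine hne (le_antisymm hLK fun y hy => ?_)
      obtain ⟨y', hy', e'⟩ := subgroupOf_eq_top.1 e hy
      rwa [← show y' = y from Subtype.ext e']
    · have h := mem_center_iff.1 (e (show (⟨l, hLK hl⟩ : K) ∈ _ from ⟨l, hl, rfl⟩)) ⟨k, hk⟩
      exact Subtype.ext (congrArg Subtype.val h).symm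
  · exact fun h => hnot fun a ha => (mem_inf.1 (h (show (⟨a, hAZ ha⟩ : Z) ∈ _ from ha))).2
  · intro H hQH hHA
    rw [hfixeq H hQH, hfixeq _ (hQH.trans hHA), card_subgroupOf hAZ, subgroupOf_map_subtype,
      inf_eq_left.2 hAZ, ← Subgroup.card_map_of_injective Z.subtype_injective (K := H)]
    refine hP _ ?_
    rintro _ ⟨g, hg, rfl⟩
    exact hHA hg

end Cfsg.Agent.S3086
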