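import Cfsg.Statements.S3087


set_option autoImplicit false
open Cfsg

namespace Cfsg.Agent.S3087

/-- Let p be a prime, G a finite group acting linearly on a finite vector space V over the field with p elements, W a G-invariant subspace, and A a subgroup of G with |A|·|C_V(A)| ≥ |B|·|C_V(B)| for every subgroup B of A. Then |A|·|C_W(A)| ≥ |B|·|C_W(B)| for every subgroup B of A that contains C_A(W); that is, the image of A in the group induced on W satisfies the same maximality condition. -/
theorem result {G V : Type*} [Group G] [Finite G] [AddCommGroup V] [Finite V] (p : ℕ) [Fact p.Prime] [Module (ZMod p) V]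
    (ρ : Representation (ZMod p) G V) (W : Submodule (ZMod p) V) (hW : ∀ g : G, ∀ w ∈ W, ρ g w ∈ W)
    (A : Subgroup G)
    (hP : ∀ B : Subgroup G, B ≤ A →
      Nat.card ↥B * Nat.card {v : V // ∀ b ∈ B, ρ b v = v} ≤ Nat.card ↥A * Nat.card {v : V // ∀ a ∈ A, ρ a v = v})
    (B : Subgroup G) (hBA : B ≤ A) (hCB : ∀ a ∈ A, (∀ w ∈ W, ρ a w = w) → a ∈ B) :
    Nat.card ↥B * Nat.card {w : W // ∀ b ∈ B, ρ b w = w} ≤ Nat.card ↥A * Nat.card {w : W // ∀ a ∈ A, ρ a w = w} := by
  classical
  let FV : Subgroup G → AddSubgroup V := fun C =>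
    { carrier := {v | ∀ c ∈ C, ρ c v = v}
      zero_mem' := fun c _ => map_zero _
      add_mem' := fun {u w} hu hw c hc => by rw [map_add, hu c hc, hw c hc]
      neg_mem' := fun {u} hu c hc => by rw [map_neg, hu c hc] }
  let FW : Subgroup G → AddSubgroup W := fun C =>
    { carrier := {v | ∀ c ∈ C, ρ c (v : V) = v}
      zero_mem' := fun c _ => map_zero _
      add_mem' := fun {u w} hu hw c hc => by rw [Submodule.coe_add, map_add, hu c hc, hw c hc]
      neg_mem' := fun {u} hu c hc => by rw [Submodule.coe_neg, map_neg, hu c hc] }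
  let φ : FW B × FV A →+ FV B :=
    { toFun := fun x => ⟨((x.1 : W) : V) + (x.2 : V), fun c hc => by rw [map_add, x.1.2 c hc, x.2.2 c (hBA hc)]⟩
      map_zero' := Subtype.ext (by simp)
      map_add' := fun x y => Subtype.ext (by simp [add_add_add_comm]) }
  have hker : Nat.card φ.ker ≤ Nat.card (FW A) := by
    refine Nat.card_le_card_of_injective (fun z => ⟨(z.1.1 : W), fun c hc => ?_⟩) fun z z' hzz => ?_
    · have h0 : ((z.1.1 : W) : V) + (z.1.2 : V) = 0 := congrArg Subtype.val z.2
      rw [eq_neg_of_add_eq_zero_left h0, map_neg, z.1.2.2 c hc]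
    · have h0 : ((z.1.1 : W) : V) + (z.1.2 : V) = 0 := congrArg Subtype.val z.2
      have h0' : ((z'.1.1 : W) : V) + (z'.1.2 : V) = 0 := congrArg Subtype.val z'.2
      have h1 : (z.1.1 : W) = z'.1.1 := congrArg (fun t : FW A => (t : W)) hzz
      rw [h1, ← h0'] at h0
      exact Subtype.ext (Prod.ext (Subtype.ext h1) (Subtype.ext (add_left_cancel h0)))
  have hrange : Nat.card φ.range ≤ Nat.card (FV B) := Nat.card_le_card_of_injective _ Subtype.val_injective
  have hmain : Nat.card (FW B) * Nat.card (FV A) ≤ Nat.card (FW A) * Nat.card (FV B) := by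
    rw [← Nat.card_prod, ← φ.ker.card_mul_index, AddSubgroup.index_ker]
    exact Nat.mul_le_mul hker hrange
  have hBB : Nat.card B * Nat.card (FV B) ≤ Nat.card A * Nat.card (FV A) := hP B hBA
  show Nat.card B * Nat.card (FW B) ≤ Nat.card A * Nat.card (FW A)
  refine Nat.le_of_mul_le_mul_right ?_ (Nat.card_pos (α := FV A))
  calc Nat.card B * Nat.card (FW B) * Nat.card (FV A) ≤ Nat.card B * (Nat.card (FW A) * Nat.card (FV B)) := by
        rw [mul_assoc]; exact Nat.mul_le_mul_left _ hmain
    _ = Nat.card (FW A) * (Nat.card B * Nat.card (FV B)) := by ring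
    _ ≤ Nat.card (FW A) * (Nat.card A * Nat.card (FV A)) := Nat.mul_le_mul_left _ hBB
    _ = Nat.card A * Nat.card (FW A) * Nat.card (FV A) := by ring

end Cfsg.Agent.S3087
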