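import Cfsg.Statements.S3103
import Cfsg.Agent.Lib.Invol.GLFourTwo
import Cfsg.Agent.Lib.Invol.PConstrained
import Cfsg.Agent.Lib.Coprime.PGroupFrattini


set_option autoImplicit false
open Cfsg
open scoped commutatorElement

namespace Cfsg.Agent.S3103

/-- Let X be a finite 2-constrained group with no nontrivial normal subgroup of odd order such that O₂(X) has sectional 2-rank at most 4. Then X/O₂(X) is isomorphic to a subgroup of the alternating group of degree 8. -/
theorem result {X : Type*} [Group X] [Finite X] (hc : Cfsg.IsPConstrained 2 X) (hO : Cfsg.oddCore X = ⊥)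
    (h4 : Cfsg.SectionalPRankLE 2 4 ↥(Cfsg.pCore 2 X)) :
    ∃ f : X ⧸ Cfsg.pCore 2 X →* ↥(alternatingGroup (Fin 8)), Function.Injective f := by
  classical
  haveI : Fact (Nat.Prime 2) := ⟨Nat.prime_two⟩
  set Q := Cfsg.pCore 2 X with hQ
  haveI hQn : Q.Normal := CfsgLib.Coprime.pCore_normal' (G := X) 2
  have hQ2 : IsPGroup 2 Q := CfsgLib.Coprime.pCore_isPGroup 2
  have hcl := (CfsgLib.Invol.pClean_of_pCons (CfsgLib.Invol.isPConstrained_iff.1 hc) hO).centralizer_le
  haveI : (frattini Q).Characteristic := frattini_characteristic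
  letI : CommGroup (↥Q ⧸ frattini Q) :=
    { (inferInstance : Group (↥Q ⧸ frattini Q)) with
      mul_comm := fun a b => by
        induction a using QuotientGroup.induction_on with
        | H a => induction b using QuotientGroup.induction_on with
          | H b =>
            rw [← QuotientGroup.mk_mul, ← QuotientGroup.mk_mul, QuotientGroup.eq]
            have h := CfsgLib.Coprime.commutator_le_frattini hQ2
            refine h ?_
            rw [show (a * b)⁻¹ * (b * a) = ⁅b⁻¹, a⁻¹⁆ by rw [commutatorElement_def]; group, _root_.commutator_def]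
            exact Subgroup.commutator_mem_commutator (Subgroup.mem_top _) (Subgroup.mem_top _) }
  have hexp : ∀ v : ↥Q ⧸ frattini Q, v ^ 2 = 1 := fun v => by
    induction v using QuotientGroup.induction_on with
    | H a => rw [← QuotientGroup.mk_pow, QuotientGroup.eq_one_iff]; exact CfsgLib.Coprime.pow_mem_frattini hQ2 a
  have hcard : Nat.card (↥Q ⧸ frattini Q) ≤ 16 := by
    set N := (frattini Q).subgroupOf (⊤ : Subgroup Q) with hN
    have h := h4 ⊤ N ⊤
    let φ : (⊤ : Subgroup Q) ⧸ N ≃* ↥Q ⧸ frattini Q :=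
      QuotientGroup.congr _ _ Subgroup.topEquiv (by
        ext x
        simp [hN, Subgroup.mem_map, Subgroup.mem_subgroupOf])
    have h' := h ⟨⟨fun a b => Subtype.ext (φ.injective (by rw [Subgroup.coe_mul, Subgroup.coe_mul, map_mul, map_mul, mul_comm]))⟩⟩
      (fun a _ => φ.injective (by rw [map_pow, hexp, map_one]))
    rw [Subgroup.card_top, Nat.card_congr φ.toEquiv] at h'
    exact h'
  have hchar : ∀ a : MulAut ↥Q, (frattini Q).map (a : ↥Q →* ↥Q) = frattini Q :=
    fun a => Subgroup.characteristic_iff_map_eq.1 frattini_characteristic a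
  let ψ : MulAut ↥Q →* MulAut (↥Q ⧸ frattini Q) :=
    { toFun := fun a => QuotientGroup.congr _ _ a (hchar a)
      map_one' := MulEquiv.ext fun v => by induction v using QuotientGroup.induction_on; rfl
      map_mul' := fun a b => MulEquiv.ext fun v => by induction v using QuotientGroup.induction_on; rfl }
  set Φ := ψ.comp (MulAut.conjNormal (H := Q)) with hΦ
  have hmem : ∀ x : X, x ∈ Φ.ker ↔ ∀ q : ↥Q, (MulAut.conjNormal x q)⁻¹ * q ∈ frattini Q := by
    intro x
    rw [MonoidHom.mem_ker]
    refine ⟨fun h q => ?_, fun h => MulEquiv.ext fun v => ?_⟩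
    · rw [← QuotientGroup.eq]
      exact DFunLike.congr_fun h (QuotientGroup.mk q : ↥Q ⧸ frattini Q)
    · induction v using QuotientGroup.induction_on with
      | H q => exact QuotientGroup.eq.2 (h q)
  have hker : Φ.ker = Q := by
    refine le_antisymm (CfsgLib.Coprime.le_pCore (CfsgLib.Invol.isPGroup_of_coprime_trivial _ fun y hy hco => ?_)) ?_
    · have hle : Subgroup.zpowers y ≤ Subgroup.centralizer (Q : Set X) := by
        refine CfsgLib.Coprime.le_centralizer_of_trivial_on_frattini_quotient ?_ ?_ ?_
        · rw [Subgroup.normalizer_eq_top]; exact le_top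
        · obtain ⟨k, hk⟩ := IsPGroup.iff_card.1 (hQ2.to_subgroup (frattini Q))
          rw [Nat.card_zpowers, hk]
          exact hco.pow_right k
        · intro a ha q hq
          have h1 := (hmem a).1 (Subgroup.zpowers_le.2 hy ha) ⟨q⁻¹, inv_mem hq⟩
          refine ⟨_, h1, ?_⟩
          simp only [Subgroup.coe_subtype, Subgroup.coe_mul, Subgroup.coe_inv, MulAut.conjNormal_apply]
          group
      exact CfsgLib.Invol.eq_one_of_coprime_of_isPGroup hQ2 (hcl (hle (Subgroup.mem_zpowers y))) hco
    · intro x hx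
      refine (hmem x).2 fun q => ?_
      have h := CfsgLib.Coprime.commutator_le_frattini hQ2
      refine h ?_
      have e : MulAut.conjNormal x q = ⟨x, hx⟩ * q * (⟨x, hx⟩ : ↥Q)⁻¹ :=
        Subtype.ext (MulAut.conjNormal_apply x q)
      rw [e, show (⟨x, hx⟩ * q * (⟨x, hx⟩ : ↥Q)⁻¹)⁻¹ * q = ⁅(⟨x, hx⟩ : ↥Q), q⁻¹⁆ by
        rw [commutatorElement_def]; group, _root_.commutator_def]
      exact Subgroup.commutator_mem_commutator (Subgroup.mem_top _) (Subgroup.mem_top _)
  obtain ⟨f, hf⟩ := CfsgLib.Invol.A8.exists_injective_mulAut hexp hcard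
  refine ⟨f.comp (QuotientGroup.lift Q Φ hker.ge), hf.comp ?_⟩
  rw [injective_iff_map_eq_one]
  intro v hv
  induction v using QuotientGroup.induction_on with
  | H x => exact (QuotientGroup.eq_one_iff x).2 (show x ∈ Q by rw [← hker]; exact MonoidHom.mem_ker.2 hv)

end Cfsg.Agent.S3103
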