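import Cfsg.Statements.S3104
import Cfsg.Agent.S3103
import Cfsg.Agent.S2553
import Cfsg.Agent.Lib.Invol.RadicalFourQuotient.Section

set_option autoImplicit false
open Cfsg

namespace Cfsg.Agent.S3104

open CfsgLib.Invol.AltEightSubgroups

theorem toGL_bijective : Function.Bijective
    (Matrix.SpecialLinearGroup.toGL (n := Fin 3) (R := ZMod 2)) := by
  refine ⟨Matrix.SpecialLinearGroup.toGL_injective, fun A => ?_⟩
  have hd : (A : Matrix (Fin 3) (Fin 3) (ZMod 2)).det = 1 := by
    have h := (Matrix.isUnits_det_units A).ne_zero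
    revert h
    generalize (A : Matrix (Fin 3) (Fin 3) (ZMod 2)).det = d
    revert d; decide
  exact ⟨⟨A, hd⟩, Units.ext rfl⟩

theorem mk_bijective : Function.Bijective (QuotientGroup.mk' (Subgroup.center
    (Matrix.SpecialLinearGroup (Fin 3) (ZMod 2)))) := by
  refine ⟨?_, QuotientGroup.mk'_surjective _⟩
  rw [← MonoidHom.ker_eq_bot_iff, QuotientGroup.ker_mk', eq_bot_iff]
  intro A hA
  obtain ⟨r, hr, hA'⟩ := Matrix.SpecialLinearGroup.mem_center_iff.1 hA
  rw [Subgroup.mem_bot]
  have hr1 : r = 1 := (show ∀ s : ZMod 2, s ^ 3 = 1 → s = 1 by decide) r (by simpa using hr)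
  apply Subtype.ext
  rw [← hA', hr1]
  simp

/-- `GL(3,2)` is `PSL(3,2)`. -/
noncomputable def glEquivPSL :
    GL (Fin 3) (ZMod 2) ≃* Matrix.ProjectiveSpecialLinearGroup (Fin 3) (ZMod 2) :=
  (MulEquiv.ofBijective _ toGL_bijective).symm.trans (MulEquiv.ofBijective _ mk_bijective)

/-- Let X be a finite nonsolvable 2-constrained group with no nontrivial normal subgroup of odd order such that O₂(X) has sectional 2-rank at most 4, and write Q for X/O₂(X). Then Q is isomorphic to the projective special linear group of dimension 3 over the field with 2 elements, to an alternating group of degree n with 5 ≤ n ≤ 8, to a symmetric group of degree n with 5 ≤ n ≤ 7, or else O₃(Q) has order 3 and Q/O₃(Q) is isomorphic to the alternating or the symmetric group of degree 5 (so Q is the direct product of a group of order 3 with the alternating group of degree 5, or an extension of that direct product by a group of order 2). If moreover X itself has sectional 2-rank at most 4, then Q is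 not isomorphic to the symmetric group of degree 6 or 7 nor to the alternating group of degree 8. -/
theorem result {X : Type*} [Group X] [Finite X] (hns : ¬ Group.IsSolvable X) (hc : Cfsg.IsPConstrained 2 X) (hO : Cfsg.oddCore X = ⊥)
    (h4 : Cfsg.SectionalPRankLE 2 4 ↥(Cfsg.pCore 2 X)) :
    ((∃ (F : Type) (_ : Field F) (_ : Fintype F), Fintype.card F = 2 ∧
          Nonempty (X ⧸ Cfsg.pCore 2 X ≃* Matrix.ProjectiveSpecialLinearGroup (Fin 3) F)) ∨
        (∃ n : ℕ, 5 ≤ n ∧ n ≤ 8 ∧ Nonempty (X ⧸ Cfsg.pCore 2 X ≃* ↥(alternatingGroup (Fin n)))) ∨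
        (∃ n : ℕ, 5 ≤ n ∧ n ≤ 7 ∧ Nonempty (X ⧸ Cfsg.pCore 2 X ≃* Equiv.Perm (Fin n))) ∨
        (Nat.card ↥(Cfsg.pCore 3 (X ⧸ Cfsg.pCore 2 X)) = 3 ∧
          (Nonempty ((X ⧸ Cfsg.pCore 2 X) ⧸ Cfsg.pCore 3 (X ⧸ Cfsg.pCore 2 X) ≃* ↥(alternatingGroup (Fin 5))) ∨
            Nonempty ((X ⧸ Cfsg.pCore 2 X) ⧸ Cfsg.pCore 3 (X ⧸ Cfsg.pCore 2 X) ≃* Equiv.Perm (Fin 5))))) ∧
      (Cfsg.SectionalPRankLE 2 4 X →
        ¬ (Nonempty (X ⧸ Cfsg.pCore 2 X ≃* Equiv.Perm (Fin 6)) ∨ Nonempty (X ⧸ Cfsg.pCore 2 X ≃* Equiv.Perm (Fin 7)) ∨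
            Nonempty (X ⧸ Cfsg.pCore 2 X ≃* ↥(alternatingGroup (Fin 8))))) := by
  haveI : Fact (Nat.Prime 2) := ⟨Nat.prime_two⟩
  haveI hUn : (Cfsg.pCore 2 X).Normal := CfsgLib.Coprime.pCore_normal' (G := X) 2
  have hnsQ : ¬ Group.IsSolvable (X ⧸ Cfsg.pCore 2 X) := fun h => hns (by
    haveI := h
    haveI : Group.IsSolvable (Cfsg.pCore 2 X) := by
      haveI := (CfsgLib.Coprime.pCore_isPGroup (G := X) 2).isNilpotent
      infer_instance
    exact solvable_of_ker_le_range (Cfsg.pCore 2 X).subtype (QuotientGroup.mk' (Cfsg.pCore 2 X))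
      (by rw [QuotientGroup.ker_mk', Subgroup.range_subtype]))
  have hQ2 : Cfsg.pCore 2 (X ⧸ Cfsg.pCore 2 X) = ⊥ := CfsgLib.Coprime.pCore_quotient_eq_bot 2
  obtain ⟨f, hf⟩ := Cfsg.Agent.S3103.result hc hO h4
  let ψ : X ⧸ Cfsg.pCore 2 X →* Equiv.Perm (Fin 8) := (alternatingGroup (Fin 8)).subtype.comp f
  have hψ : Function.Injective ψ := (Subgroup.subtype_injective _).comp hf
  have hev : ∀ h, Equiv.Perm.sign (ψ h) = 1 := fun h => Equiv.Perm.mem_alternatingGroup.1 (f h).2
  refine ⟨?_, fun h4X hor => ?_⟩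
  · by_cases hO' : Cfsg.pPrimeCore 2 (X ⧸ Cfsg.pCore 2 X) = ⊥
    · have hcore := Cfsg.Agent.S2553.core_free hO' hQ2
      by_cases h5 : 5 ∣ Nat.card (X ⧸ Cfsg.pCore 2 X)
      · rcases five_case ψ hψ hev hcore hnsQ h5 with h | h | h
        · exact Or.inr (Or.inl h)
        · exact Or.inr (Or.inr (Or.inl ⟨5, le_rfl, by norm_num, h⟩))
        · exact Or.inr (Or.inr (Or.inl ⟨6, by norm_num, by norm_num, h⟩))
      · haveI := simple_of_not_five ψ hψ hev hnsQ h5 hcore
        rcases (card_of_not_five ψ hψ hev hnsQ h5).1 with h | h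
        · left
          obtain ⟨h3s, h3c⟩ := Cfsg.Agent.S2553.gl_three_two
          haveI := h3s
          obtain ⟨a⟩ := CfsgLib.Perm.Small.s168_equiv_model h
          obtain ⟨b⟩ := CfsgLib.Perm.Small.s168_equiv_model h3c
          exact ⟨ZMod 2, inferInstance, inferInstance, ZMod.card 2,
            ⟨(a.trans b.symm).trans glEquivPSL⟩⟩
        · obtain ⟨e⟩ := CfsgLib.Invol.RadicalFour.exists_gl_four_equiv
          let q := MonoidHom.ofInjective (f := e.symm.toMonoidHom.comp f) (e.symm.injective.comp hf)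
          haveI := MulEquiv.isSimpleGroup q.symm
          exact absurd (by rw [← Nat.card_congr q.toEquiv, h]) (Cfsg.Agent.S2553.no_1344 (e.symm.toMonoidHom.comp f).range)
    · refine Or.inr (Or.inr (Or.inr ?_))
      exact CfsgLib.Invol.RadicalFour.odd_radical ψ hψ hev hnsQ _ hO'
        (CfsgLib.Coprime.pPrimeCore_coprime Nat.prime_two)
  · rcases hor with h | h | h
    · exact CfsgLib.Invol.RadicalFour.false_of_top hc hO h4X (Or.inl h)
    · obtain ⟨e⟩ := h
      haveI : IsSimpleGroup (alternatingGroup (Fin 8)) := alternatingGroup.isSimpleGroup (by simp)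
      have hcard : Nat.card f.range = 5040 := by
        rw [← Nat.card_congr (MonoidHom.ofInjective hf).toEquiv, Nat.card_congr e.toEquiv, Nat.card_perm,
          Nat.card_fin]
        rfl
      have hmul := f.range.card_mul_index
      rw [hcard, CfsgLib.Invol.RadicalFour.card_alt_eight] at hmul
      have hidx : f.range.index = 4 := by omega
      have hd := card_dvd_factorial (K := f.range) (fun htop => by
        rw [htop, Subgroup.index_top] at hidx; omega)
      rw [hidx, CfsgLib.Invol.RadicalFour.card_alt_eight] at hd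
      have := Nat.le_of_dvd (Nat.factorial_pos _) hd
      norm_num [Nat.factorial] at this
    · obtain ⟨e⟩ := h
      exact CfsgLib.Invol.RadicalFour.false_of_top hc hO h4X
        (Or.inr ((Nat.card_congr e.toEquiv).trans CfsgLib.Invol.RadicalFour.card_alt_eight))

end Cfsg.Agent.S3104
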