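import Cfsg.Statements.S3105
import Cfsg.Agent.Lib.PGroup.RadicalSeven.Main
import Cfsg.Agent.Lib.Invol.PConstrained
import Cfsg.Agent.Lib.Classical.SLBasic

set_option autoImplicit false
open Cfsg

namespace Cfsg.Agent.S3105

/-- Let X be a finite nonsolvable 2-constrained group with no nontrivial normal subgroup of odd order and of sectional 2-rank at most 4, and suppose X/O₂(X) is isomorphic to the projective special linear group of dimension 3 over the field with 2 elements. Then O₂(X) is elementary abelian of order 8 or 16, or is isomorphic to the direct product of a cyclic group of order 4 and an elementary abelian group of order 8. -/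
theorem result {X : Type*} [Group X] [Finite X] (hns : ¬ Group.IsSolvable X) (hc : Cfsg.IsPConstrained 2 X) (hO : Cfsg.oddCore X = ⊥)
    (h4 : Cfsg.SectionalPRankLE 2 4 X) {F : Type*} [Field F] [Fintype F] (hF : Fintype.card F = 2)
    (hQ : Nonempty (X ⧸ Cfsg.pCore 2 X ≃* Matrix.ProjectiveSpecialLinearGroup (Fin 3) F)) :
    (Cfsg.IsElementaryAbelian 2 (Cfsg.pCore 2 X) ∧ (Nat.card ↥(Cfsg.pCore 2 X) = 8 ∨ Nat.card ↥(Cfsg.pCore 2 X) = 16)) ∨
      Nonempty (↥(Cfsg.pCore 2 X) ≃* Multiplicative (ZMod 4) × (Fin 3 → Multiplicative (ZMod 2))) := by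
  haveI : Fact (Nat.Prime 2) := ⟨Nat.prime_two⟩
  have hC := (CfsgLib.Invol.pClean_of_pCons (CfsgLib.Invol.isPConstrained_iff.1 hc) hO).centralizer_le
  haveI : IsSimpleGroup (Matrix.ProjectiveSpecialLinearGroup (Fin 3) F) :=
    CfsgLib.Classical.psl_isSimple le_rfl
  have hL : Nat.card (Matrix.ProjectiveSpecialLinearGroup (Fin 3) F) = 168 := by
    have h := CfsgLib.Classical.card_psl_mul (F := F) (n := 3) (by norm_num)
    rw [hF] at h
    simpa [Fin.prod_univ_three] using h
  obtain ⟨e⟩ := hQ
  exact CfsgLib.PGroup.RadicalSeven.radical_structure hL (Cfsg.pCore 2 X)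
    (CfsgLib.Coprime.pCore_isPGroup 2) hC h4 (e.toMonoidHom.comp (QuotientGroup.mk' _))
    (e.surjective.comp (QuotientGroup.mk'_surjective _)) (by
      ext x
      rw [MonoidHom.mem_ker, MonoidHom.comp_apply]
      exact (map_eq_one_iff e e.injective).trans (QuotientGroup.eq_one_iff x))

end Cfsg.Agent.S3105
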