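import Cfsg.Statements.S3106
import Cfsg.Agent.Lib.PGroup.RadicalFive.Main
import Cfsg.Agent.Lib.Invol.PConstrained
import Cfsg.Agent.Lib.Fusion.System.RankThree.Fusion

set_option autoImplicit false
open Cfsg

namespace Cfsg.Agent.S3106

/-- Let X be a finite nonsolvable 2-constrained group with no nontrivial normal subgroup of odd order and of sectional 2-rank at most 4, and suppose X/O₂(X) contains a subgroup isomorphic to the alternating group of degree 5. Then O₂(X) is elementary abelian of order 16, or O₂(X) is a central product of a quaternion group of order 8 and a dihedral group of order 8 (it has order 32 and is generated by two elementwise-commuting subgroups, one quaternion of order 8 and one dihedral of order 8, meeting in the centre). -/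
theorem result {X : Type*} [Group X] [Finite X] (hns : ¬ Group.IsSolvable X) (hc : Cfsg.IsPConstrained 2 X) (hO : Cfsg.oddCore X = ⊥)
    (h4 : Cfsg.SectionalPRankLE 2 4 X)
    (hQ : ∃ A : Subgroup (X ⧸ Cfsg.pCore 2 X), Nonempty (↥A ≃* ↥(alternatingGroup (Fin 5)))) :
    (Cfsg.IsElementaryAbelian 2 (Cfsg.pCore 2 X) ∧ Nat.card ↥(Cfsg.pCore 2 X) = 16) ∨
      (Nat.card ↥(Cfsg.pCore 2 X) = 32 ∧ ∃ A B : Subgroup ↥(Cfsg.pCore 2 X),
        Nonempty (↥A ≃* QuaternionGroup 2) ∧ Nonempty (↥B ≃* DihedralGroup 4) ∧ (∀ a ∈ A, ∀ b ∈ B, a * b = b * a) ∧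
          A ⊔ B = ⊤ ∧ A ⊓ B = Subgroup.center ↥(Cfsg.pCore 2 X)) := by
  haveI : Fact (Nat.Prime 2) := ⟨Nat.prime_two⟩
  have hC := (CfsgLib.Invol.pClean_of_pCons (CfsgLib.Invol.isPConstrained_iff.1 hc) hO).centralizer_le
  have hQp : IsPGroup 2 (Cfsg.pCore 2 X) := CfsgLib.Coprime.pCore_isPGroup 2
  obtain ⟨A, ⟨e⟩⟩ := hQ
  set Q := Cfsg.pCore 2 X with hQd
  set K : Subgroup X := A.comap (QuotientGroup.mk' Q) with hK
  have hle : Q ≤ K := fun q hq => by
    show (q : X ⧸ Q) ∈ A
    rw [(QuotientGroup.eq_one_iff q).2 hq]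
    exact one_mem A
  let π : K →* ↥(alternatingGroup (Fin 5)) :=
    e.toMonoidHom.comp ((QuotientGroup.mk' Q).subgroupComap A)
  have hπ : Function.Surjective π := e.surjective.comp
    (MonoidHom.subgroupComap_surjective_of_surjective _ A (QuotientGroup.mk'_surjective Q))
  have hker : π.ker = Q.subgroupOf K := by
    ext k
    rw [MonoidHom.mem_ker, Subgroup.mem_subgroupOf, ← QuotientGroup.eq_one_iff (N := Q) (k : X)]
    show e _ = 1 ↔ _
    rw [map_eq_one_iff e e.injective]
    exact Subtype.ext_iff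
  let f : ↥(Q.subgroupOf K) ≃* ↥Q := Subgroup.subgroupOfEquivOfLe hle
  have hC' : Subgroup.centralizer ((Q.subgroupOf K : Subgroup K) : Set K) ≤ Q.subgroupOf K := by
    intro k hk
    refine Subgroup.mem_subgroupOf.2 (hC (Subgroup.mem_centralizer_iff.2 fun q hq => ?_))
    exact congrArg Subtype.val (Subgroup.mem_centralizer_iff.1 hk ⟨q, hle hq⟩ (Subgroup.mem_subgroupOf.2 hq))
  rcases CfsgLib.PGroup.RadicalFive.radical_structure (Q.subgroupOf K)
    (hQp.of_equiv f.symm) hC'
    (CfsgLib.Fusion.RankThree.sectional_of_injective h4 K.subtype K.subtype_injective) π hπ hker with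
    ⟨⟨hcom, hexp⟩, hcard⟩ | ⟨hcard, A', B', ⟨eA⟩, ⟨eB⟩, hAB, hsup, hinf⟩
  · refine Or.inl ⟨⟨⟨⟨fun a b => ?_⟩⟩, fun a ha => ?_⟩, (Nat.card_congr f.toEquiv).symm.trans hcard⟩
    · obtain ⟨a, rfl⟩ := f.surjective a
      obtain ⟨b, rfl⟩ := f.surjective b
      rw [← map_mul, ← map_mul, hcom.is_comm.comm a b]
    · have h := hexp ⟨a, hle ha⟩ (Subgroup.mem_subgroupOf.2 ha)
      exact congrArg Subtype.val h
  refine Or.inr ⟨(Nat.card_congr f.toEquiv).symm.trans hcard, A'.map f.toMonoidHom, B'.map f.toMonoidHom,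
    ⟨(A'.equivMapOfInjective f.toMonoidHom f.injective).symm.trans eA⟩,
    ⟨(B'.equivMapOfInjective f.toMonoidHom f.injective).symm.trans eB⟩, ?_, ?_, ?_⟩
  · rintro _ ⟨a, ha, rfl⟩ _ ⟨b, hb, rfl⟩
    rw [← map_mul, ← map_mul, hAB a ha b hb]
  · rw [← Subgroup.map_sup, hsup, ← MonoidHom.range_eq_map]
    exact MonoidHom.range_eq_top.2 f.surjective
  · rw [← Subgroup.map_inf _ _ _ f.injective, hinf]
    ext q
    obtain ⟨x, rfl⟩ := f.surjective q
    rw [Subgroup.mem_map_equiv, MulEquiv.symm_apply_apply, Subgroup.mem_center_iff,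
      Subgroup.mem_center_iff]
    exact ⟨fun h g => by
      obtain ⟨y, rfl⟩ := f.surjective g
      rw [← map_mul, ← map_mul, h y], fun h y => f.injective (by rw [map_mul, map_mul, h (f y)])⟩

end Cfsg.Agent.S3106
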