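import Cfsg.Statements.S3117
import Cfsg.Agent.Lib.PGroup.QuadZero
import Cfsg.Agent.Lib.PGroup.SmallElementsIndex
import Cfsg.Agent.Lib.CFun.Critical

set_option autoImplicit false
open Cfsg

namespace Cfsg.Agent.S3117

open Subgroup CfsgLib
open scoped commutatorElement

/-- Restriction of automorphisms to a characteristic subgroup. -/
def restr {P : Type*} [Group P] (H : Subgroup P) (hH : ∀ (σ : MulAut P) (x : P), x ∈ H → σ x ∈ H) :
    MulAut P →* MulAut H where
  toFun σ :=
    { toFun := fun x => ⟨σ x.1, hH σ _ x.2⟩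
      invFun := fun x => ⟨σ.symm x.1, hH σ.symm _ x.2⟩
      left_inv := fun x => Subtype.ext (σ.symm_apply_apply _)
      right_inv := fun x => Subtype.ext (σ.apply_symm_apply _)
      map_mul' := fun x y => Subtype.ext (map_mul σ (x : P) y) }
  map_one' := rfl
  map_mul' _ _ := rfl

theorem quad_identity {M : Type*} [CommGroup M] (h : ∀ w : M, w * w = 1) (a b c ab ac bc : M) :
    a * (b * c * bc) * (ab * ac) * (a * c * ac) * (b * c * bc) * c = a * b * ab * a * b := by
  have e : a * (b * c * bc) * (ab * ac) * (a * c * ac) * (b * c * bc) * c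
      = a * b * ab * a * b * ((c * c) * (c * c) * (bc * bc) * (ac * ac)) := by ac_rfl
  rw [e, h c, h bc, h ac, one_mul, one_mul, one_mul, mul_one]

/-- The automorphisms of a small class-two group of exponent four. -/
theorem isSolvable_mulAut_exp_four {D : Type*} [Group D] [Finite D]
    (h4 : ∀ x : D, x ^ 4 = 1) (hsq : ∀ x y : D, y * (x * x) = x * x * y)
    (hk : ∀ x y z : D, z * ⁅x, y⁆ = ⁅x, y⁆ * z) (hk2 : ∀ x y : D, ⁅x, y⁆ * ⁅x, y⁆ = 1)
    (hinv : Nat.card {x : D // x * x = 1} ≤ 4) : Group.IsSolvable (MulAut D) := by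
  classical
  haveI : Finite (MulAut D) := Finite.of_injective (fun σ => ⇑σ) DFunLike.coe_injective
  let W : Subgroup D :=
    { carrier := {w | w * w = 1 ∧ ∀ y, y * w = w * y}
      one_mem' := ⟨one_mul 1, fun y => by rw [mul_one, one_mul]⟩
      mul_mem' := fun {a b} ha hb => ⟨by
          rw [show a * b * (a * b) = a * (b * a) * b by group, ha.2 b,
            show a * (a * b) * b = (a * a) * (b * b) by group, ha.1, hb.1, one_mul],
        fun y => by rw [← mul_assoc, ha.2 y, mul_assoc, hb.2 y, ← mul_assoc]⟩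
      inv_mem' := fun {a} ha => by
        rw [inv_eq_of_mul_eq_one_right ha.1]; exact ha }
  have hWmem : ∀ w, w ∈ W ↔ w * w = 1 ∧ ∀ y, y * w = w * y := fun _ => Iff.rfl
  haveI hWn : W.Normal := ⟨fun w hw g => by
    rw [((hWmem w).1 hw).2 g, mul_inv_cancel_right]; exact hw⟩
  letI cW : CommGroup W := { (inferInstance : Group W) with
    mul_comm := fun a b => Subtype.ext (((hWmem _).1 b.2).2 (a : D)) }
  have hW2 : ∀ w : W, w * w = 1 := fun w => Subtype.ext ((hWmem _).1 w.2).1
  have hWc : Nat.card W ≤ 4 := le_trans (Nat.card_le_card_of_injective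
    (fun w : W => (⟨w.1, ((hWmem _).1 w.2).1⟩ : {x : D // x * x = 1}))
    fun a b e => Subtype.ext (Subtype.mk.inj e)) hinv
  have hsW : ∀ x : D, x * x ∈ W := fun x =>
    (hWmem _).2 ⟨by rw [← pow_two, ← pow_two, ← pow_mul]; exact h4 x, fun y => hsq x y⟩
  have hkW : ∀ x y : D, ⁅x, y⁆ ∈ W := fun x y => (hWmem _).2 ⟨hk2 x y, hk x y⟩
  let K : D → D → W := fun x y => ⟨⁅y, x⁆, hkW y x⟩
  let S : D → W := fun x => ⟨x * x, hsW x⟩
  have hS : ∀ x y, S (x * y) = S x * S y * K x y := fun x y => Subtype.ext (by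
    show x * y * (x * y) = x * x * (y * y) * ⁅y, x⁆
    calc x * y * (x * y) = x * (⁅y, x⁆ * x) * (y * y) := by rw [commutatorElement_def]; group
      _ = x * (x * ⁅y, x⁆) * (y * y) := by rw [hk y x x]
      _ = x * x * (⁅y, x⁆ * (y * y)) := by group
      _ = x * x * ((y * y) * ⁅y, x⁆) := by rw [hk y x (y * y)]
      _ = x * x * (y * y) * ⁅y, x⁆ := by group)
  have hK : ∀ x y z, K x (y * z) = K x y * K x z := fun x y z => Subtype.ext (by
    show ⁅y * z, x⁆ = ⁅y, x⁆ * ⁅z, x⁆
    calc ⁅y * z, x⁆ = y * ⁅z, x⁆ * y⁻¹ * ⁅y, x⁆ := by simp only [commutatorElement_def]; group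
      _ = ⁅z, x⁆ * ⁅y, x⁆ := by rw [hk z x y, mul_inv_cancel_right]
      _ = ⁅y, x⁆ * ⁅z, x⁆ := hk y x ⁅z, x⁆)
  let π := QuotientGroup.mk' W
  have hπ : Function.Surjective π := QuotientGroup.mk'_surjective W
  letI cV : CommGroup (D ⧸ W) := { (inferInstance : Group (D ⧸ W)) with
    mul_comm := fun a b => by
      obtain ⟨x, rfl⟩ := hπ a
      obtain ⟨y, rfl⟩ := hπ b
      rw [← map_mul, ← map_mul]
      refine QuotientGroup.eq.2 ?_
      rw [show (x * y)⁻¹ * (y * x) = ⁅y⁻¹, x⁻¹⁆ by simp only [commutatorElement_def]; group]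
      exact hkW _ _ }
  haveI := Fintype.ofFinite (D ⧸ W)
  have hπ1 : ∀ w ∈ W, π w = 1 := fun w hw => (QuotientGroup.eq_one_iff w).2 hw
  have hV2 : ∀ v : D ⧸ W, v * v = 1 := fun v => by
    obtain ⟨x, rfl⟩ := hπ v
    rw [← map_mul]; exact (QuotientGroup.eq_one_iff _).2 (hsW x)
  have hwd : ∀ x y : D, π x = π y → S x = S y := fun x y h => by
    obtain ⟨w, hw, rfl⟩ : ∃ w ∈ W, y = x * w := ⟨x⁻¹ * y, QuotientGroup.eq.1 h, by group⟩
    refine Subtype.ext ?_
    show x * x = x * w * (x * w)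
    rw [show x * w * (x * w) = x * (w * x) * w by group, ← ((hWmem w).1 hw).2 x,
      show x * (x * w) * w = x * x * (w * w) by group, ((hWmem w).1 hw).1, mul_one]
  let q : D ⧸ W → W := fun v => S (hπ v).choose
  have hq : ∀ x, q (π x) = S x := fun x => hwd _ _ (hπ (π x)).choose_spec
  have hq1 : q 1 = 1 := by rw [← map_one π, hq]; exact Subtype.ext (one_mul 1)
  have hquad : ∀ e f v, q (e * (f * v)) * q (e * v) * q (f * v) * q v = q (e * f) * q e * q f := by
    intro e f v
    obtain ⟨a, rfl⟩ := hπ e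
    obtain ⟨b, rfl⟩ := hπ f
    obtain ⟨c, rfl⟩ := hπ v
    simp only [← map_mul, hq, hS, hK]
    have h1 := hW2 (S c)
    have h2 := hW2 (K b c)
    have h3 := hW2 (K a c)
    exact quad_identity hW2 (S a) (S b) (S c) (K a b) (K a c) (K b c)
  -- zeros
  have hz : Nat.card {v : D ⧸ W // q v = 1} * Nat.card W ≤ 4 := by
    refine le_trans ?_ hinv
    rw [← Nat.card_prod]
    refine Nat.card_le_card_of_injective (fun r : {v : D ⧸ W // q v = 1} × W =>
      (⟨(hπ r.1.1).choose * r.2.1, ?_⟩ : {x : D // x * x = 1})) fun r s e => ?_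
    · have h1 : (hπ r.1.1).choose * (hπ r.1.1).choose = 1 := congrArg Subtype.val r.1.2
      rw [show (hπ r.1.1).choose * r.2.1 * ((hπ r.1.1).choose * r.2.1)
          = (hπ r.1.1).choose * (r.2.1 * (hπ r.1.1).choose) * r.2.1 by group,
        ← ((hWmem _).1 r.2.2).2, show (hπ r.1.1).choose * ((hπ r.1.1).choose * r.2.1) * r.2.1
          = (hπ r.1.1).choose * (hπ r.1.1).choose * (r.2.1 * r.2.1) by group, h1, ((hWmem _).1 r.2.2).1, one_mul]
    · have e' := Subtype.mk.inj e
      have hrs : r.1 = s.1 := by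
        apply Subtype.ext
        rw [← (hπ r.1.1).choose_spec, ← (hπ s.1.1).choose_spec]
        have := congrArg π e'
        rw [map_mul, map_mul, hπ1 _ r.2.2, hπ1 _ s.2.2,
          mul_one, mul_one] at this
        exact this
      refine Prod.ext hrs (Subtype.ext ?_)
      rw [hrs] at e'
      exact mul_left_cancel e'
  have hz1 : 0 < Nat.card {v : D ⧸ W // q v = 1} := Nat.card_pos_iff.2 ⟨⟨⟨1, hq1⟩⟩, inferInstance⟩
  have hzero : Nat.card {v : D ⧸ W // q v = 1} ≤ 2 := by
    rcases Nat.lt_or_ge (Nat.card W) 2 with h | h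
    · haveI : Subsingleton W := Finite.card_le_one_iff_subsingleton.1 (by omega)
      have hall : ∀ x : D, x ∈ W := by
        have h1 : ∀ x : D, x * x = 1 := fun x => congrArg Subtype.val (Subsingleton.elim (S x) 1)
        intro x
        refine (hWmem x).2 ⟨h1 x, fun y => ?_⟩
        have := congrArg Subtype.val (Subsingleton.elim (K x y) 1)
        exact commutatorElement_eq_one_iff_mul_comm.1 this
      haveI : Subsingleton (D ⧸ W) := ⟨fun a b => by
        obtain ⟨x, rfl⟩ := hπ a
        obtain ⟨y, rfl⟩ := hπ b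
        rw [hπ1 _ (hall x), hπ1 _ (hall y)]⟩
      exact le_trans (Finite.card_le_one_iff_subsingleton.2 inferInstance) one_le_two
    · nlinarith
  have hzero4 : 2 < Nat.card W → ∀ v, q v = 1 → v = 1 := by
    intro h v hv
    have h1 : Nat.card {v : D ⧸ W // q v = 1} ≤ 1 := by nlinarith
    haveI := Finite.card_le_one_iff_subsingleton.1 h1
    exact congrArg Subtype.val (Subsingleton.elim (⟨v, hv⟩ : {v : D ⧸ W // q v = 1}) ⟨1, hq1⟩)
  -- the automorphisms
  have hWs : ∀ (σ : MulAut D) (x : D), x ∈ W → σ x ∈ W := fun σ x hx =>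
    (hWmem _).2 ⟨by rw [← map_mul, ((hWmem _).1 hx).1, map_one], fun y => by
      obtain ⟨y', rfl⟩ := σ.surjective y
      rw [← map_mul, ← map_mul, ((hWmem _).1 hx).2]⟩
  let r := restr W hWs
  haveI : Group.IsSolvable (MulAut W) := QuadZero.isSolvable_mulAut_of_card_le_four hWc
  have hfix : ∀ σ : r.ker, ∀ w ∈ W, σ.1 w = w := fun σ w hw =>
    congrArg Subtype.val (MulEquiv.ext_iff.1 (MonoidHom.mem_ker.1 σ.2) ⟨w, hw⟩)
  let t : r.ker →* MulAut (D ⧸ W) :=
    { toFun := fun σ => QuotientGroup.congr W W σ.1 (by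
        ext x
        exact ⟨fun ⟨w, hw, hwx⟩ => hwx ▸ (hfix σ w hw).symm ▸ hw, fun hx => ⟨x, hx, hfix σ x hx⟩⟩)
      map_one' := MulEquiv.ext fun x => by
        induction x using QuotientGroup.induction_on with | _ v => rfl
      map_mul' := fun σ τ => MulEquiv.ext fun x => by
        induction x using QuotientGroup.induction_on with | _ v => rfl }
  haveI : Group.IsSolvable t.range := QuadZero.isSolvable_preserving hV2 hW2 hWc q hq1 hquad hzero hzero4
    t.range (by
      rintro _ ⟨σ, rfl⟩ v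
      obtain ⟨x, rfl⟩ := hπ v
      rw [show t σ (π x) = π (σ.1 x) from rfl, hq, hq]
      refine Subtype.ext ?_
      show σ.1 x * σ.1 x = x * x
      rw [← map_mul]; exact hfix σ _ (hsW x))
  haveI : Group.IsSolvable t.ker := Group.isSolvable_of_comm fun σ τ => by
    have hmove : ∀ ρ : t.ker, ∀ x : D, x⁻¹ * ρ.1.1 x ∈ W := fun ρ x =>
      QuotientGroup.eq.1 (MulEquiv.ext_iff.1 (MonoidHom.mem_ker.1 ρ.2) (x : D ⧸ W)).symm
    refine Subtype.ext (Subtype.ext (MulEquiv.ext fun x => ?_))
    show σ.1.1 (τ.1.1 x) = τ.1.1 (σ.1.1 x)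
    have e1 : σ.1.1 (τ.1.1 x) = σ.1.1 x * (x⁻¹ * τ.1.1 x) := by
      conv_lhs => rw [← mul_inv_cancel_left x (τ.1.1 x)]
      rw [map_mul, hfix σ.1 _ (hmove τ x)]
    have e2 : τ.1.1 (σ.1.1 x) = τ.1.1 x * (x⁻¹ * σ.1.1 x) := by
      conv_lhs => rw [← mul_inv_cancel_left x (σ.1.1 x)]
      rw [map_mul, hfix τ.1 _ (hmove σ x)]
    have hcom := ((hWmem _).1 (hmove τ x)).2 (x⁻¹ * σ.1.1 x)
    rw [e1, e2]
    calc σ.1.1 x * (x⁻¹ * τ.1.1 x) = x * ((x⁻¹ * σ.1.1 x) * (x⁻¹ * τ.1.1 x)) := by group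
      _ = τ.1.1 x * (x⁻¹ * σ.1.1 x) := by rw [hcom]; group
  haveI : Group.IsSolvable r.ker := Group.isSolvable_of_ker_le_range t.ker.subtype t.rangeRestrict (by
    rw [MonoidHom.ker_rangeRestrict, Subgroup.range_subtype])
  exact Group.isSolvable_of_ker_le_range r.ker.subtype r (by rw [Subgroup.range_subtype])

/-- If X is a finite 2-group containing exactly three involutions, then the automorphism group of X is solvable. -/
theorem result {X : Type*} [Group X] [Finite X] (h2 : IsPGroup 2 X) (h3 : Nat.card {x : X // orderOf x = 2} = 3) : Group.IsSolvable (MulAut X) := by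
  classical
  haveI : Fact (Nat.Prime 2) := ⟨Nat.prime_two⟩
  haveI : Finite (MulAut X) := Finite.of_injective (fun σ => ⇑σ) DFunLike.coe_injective
  obtain ⟨C, ⟨hchar, hpow, hcc, -⟩, hself⟩ := CfsgLib.CFun.exists_critical h2
  haveI := hchar
  have hcen : ∀ a ∈ C, ∀ c ∈ C, c * (a ^ 2) = a ^ 2 * c := fun a ha c hc =>
    mem_centralizer_iff.1 (hpow a ha).2 c hc
  have hkc : ∀ a ∈ C, ∀ b ∈ C, ∀ c ∈ C, c * ⁅a, b⁆ = ⁅a, b⁆ * c := fun a ha b hb c hc =>
    mem_centralizer_iff.1 (hcc (commutator_mem_commutator ha hb)) c hc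
  have hk2 : ∀ a ∈ C, ∀ b ∈ C, ⁅a, b⁆ * ⁅a, b⁆ = 1 := fun a ha b hb => by
    have e : ⁅a * a, b⁆ = a * ⁅a, b⁆ * a⁻¹ * ⁅a, b⁆ := by simp only [commutatorElement_def]; group
    rw [hkc a ha b hb a ha, mul_inv_cancel_right] at e
    rw [← e, commutatorElement_eq_one_iff_mul_comm, ← pow_two]
    exact (hcen a ha b hb).symm
  let D : Subgroup X :=
    { carrier := {x | x ∈ C ∧ x ^ 4 = 1}
      one_mem' := ⟨one_mem C, one_pow 4⟩
      mul_mem' := fun {a b} ha hb => ⟨mul_mem ha.1 hb.1, by
        have hba : b * a = ⁅b, a⁆ * (a * b) := by rw [commutatorElement_def]; group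
        rw [CfsgLib.PGroup.mul_pow_of_commute_commutator hba (hkc b hb.1 a ha.1 a ha.1).symm
          (hkc b hb.1 a ha.1 b hb.1).symm, ha.2, hb.2, one_mul, one_mul,
          show Nat.choose 4 2 = 2 * 3 from rfl, pow_mul, pow_two, hk2 b hb.1 a ha.1, one_pow]⟩
      inv_mem' := fun {a} ha => ⟨inv_mem ha.1, by rw [inv_pow, ha.2, inv_one]⟩ }
  have hDs : ∀ (σ : MulAut X) (x : X), x ∈ D → σ x ∈ D := fun σ x hx =>
    ⟨CfsgLib.CFun.mem_of_map_conj σ hx.1, by rw [← map_pow, hx.2, map_one]⟩
  have hI : Nat.card {x : X // x * x = 1} ≤ 4 := by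
    have hsplit : Nat.card {x : X // x * x = 1} ≤ Nat.card (Option {x : X // orderOf x = 2}) := by
      refine Nat.card_le_card_of_injective (fun x => if h : x.1 = 1 then none else
        some ⟨x.1, orderOf_eq_prime (by rw [pow_two]; exact x.2) h⟩) fun x y e => ?_
      by_cases hx : x.1 = 1 <;> by_cases hy : y.1 = 1 <;> simp [hx, hy] at e <;>
        exact Subtype.ext (by simp_all)
    rwa [Finite.card_option, h3] at hsplit
  haveI : Group.IsSolvable (MulAut D) := by
    refine isSolvable_mulAut_exp_four (fun x => Subtype.ext x.2.2) (fun x y => Subtype.ext ?_)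
      (fun x y z => Subtype.ext (hkc _ x.2.1 _ y.2.1 _ z.2.1)) (fun x y => Subtype.ext (hk2 _ x.2.1 _ y.2.1)) ?_
    · have := hcen _ x.2.1 _ y.2.1
      rw [pow_two] at this
      exact this
    · refine le_trans (Nat.card_le_card_of_injective (fun x : {x : D // x * x = 1} =>
        (⟨x.1.1, congrArg Subtype.val x.2⟩ : {x : X // x * x = 1})) fun a b e => ?_) hI
      exact Subtype.ext (Subtype.ext (Subtype.mk.inj e))
  let f := restr D hDs
  haveI : Group.IsSolvable f.ker := by
    have hp : IsPGroup 2 f.ker := by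
      intro σ
      obtain ⟨k, hk⟩ : ∃ k : ℕ, orderOf σ.1 ∣ 2 ^ k := by
        refine ⟨(orderOf σ.1).factorization 2, ?_⟩
        -- the odd part is trivial
        set n := orderOf σ.1
        set τ := σ.1 ^ (2 ^ n.factorization 2) with hτ
        have hn0 : n ≠ 0 := (orderOf_pos σ.1).ne'
        have hτo : ¬ 2 ∣ orderOf τ := by
          rw [hτ, CfsgLib.Invol.odd_dvd_orderOf (Nat.ordProj_dvd n 2)]
          exact Nat.not_dvd_ordCompl Nat.prime_two hn0
        refine orderOf_dvd_of_pow_eq_one ?_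
        rw [← hτ]
        have hfixD : ∀ d ∈ D, τ d = d := fun d hd => by
          have h : f τ = 1 := by
            rw [hτ, map_pow, MonoidHom.mem_ker.1 σ.2, one_pow]
          exact congrArg Subtype.val (MulEquiv.ext_iff.1 h ⟨d, hd⟩)
        -- embed in the holomorph
        haveI : Finite (X ⋊[MonoidHom.id (MulAut X)] MulAut X) :=
          Finite.of_equiv _ SemidirectProduct.equivProd.symm
        let ι : X →* X ⋊[MonoidHom.id (MulAut X)] MulAut X := SemidirectProduct.inl
        let g : X ⋊[MonoidHom.id (MulAut X)] MulAut X := SemidirectProduct.inr τ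
        have hconj : ∀ x, g * ι x * g⁻¹ = ι (τ x) := fun x => by
          rw [← map_inv]
          exact (SemidirectProduct.inl_aut τ x).symm
        have hgN : g ∈ normalizer ((C.map ι : Subgroup _) : Set _) := by
          rw [mem_normalizer_iff]
          intro h
          constructor
          · rintro ⟨c, hc, rfl⟩
            exact ⟨τ c, CfsgLib.CFun.mem_of_map_conj τ hc, (hconj c).symm⟩
          · rintro ⟨c, hc, hch⟩
            refine ⟨τ.symm c, CfsgLib.CFun.mem_of_map_conj τ.symm hc, ?_⟩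
            have h1 := hconj (τ.symm c)
            rw [MulEquiv.apply_symm_apply, hch] at h1
            exact mul_left_cancel (mul_right_cancel h1)
        have hcentral := CfsgLib.PGroup.commute_of_fix_smallExp (p := 2) (H := C.map ι)
          ((h2.to_subgroup C).map ι) hgN
          (by rw [orderOf_injective SemidirectProduct.inr SemidirectProduct.inr_injective]; exact hτo)
          (by
            rintro _ ⟨c, hc, rfl⟩ hc4
            have hc4' : c ^ 4 = 1 := SemidirectProduct.inl_injective (by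
              rw [map_pow, map_one]; exact hc4)
            show g * ι c = ι c * g
            rw [← mul_inv_eq_iff_eq_mul, hconj, hfixD c ⟨hc, hc4'⟩])
        have hfixC : ∀ c ∈ C, τ c = c := fun c hc => by
          have h1 := mem_centralizer_iff.1 hcentral (ι c) ⟨c, hc, rfl⟩
          apply SemidirectProduct.inl_injective (φ := MonoidHom.id (MulAut X))
          show ι (τ c) = ι c
          rw [← hconj, ← h1, mul_inv_cancel_right]
        refine MulEquiv.ext fun x => ?_
        have hw : x⁻¹ * τ x ∈ C := hself (mem_centralizer_iff.2 fun c hc => by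
          have h1 : x * c * x⁻¹ ∈ C := Subgroup.Normal.conj_mem inferInstance c hc x
          have h2 := hfixC _ h1
          rw [map_mul, map_mul, map_inv, hfixC c hc] at h2
          calc c * (x⁻¹ * τ x) = x⁻¹ * (x * c * x⁻¹) * τ x := by group
            _ = x⁻¹ * (τ x * c * (τ x)⁻¹) * τ x := by rw [h2]
            _ = x⁻¹ * τ x * c := by group)
        have h1 := CfsgLib.PGroup.eq_one_of_fixed_iterate Nat.prime_two h2 (pow_orderOf_eq_one τ) hτo
          (mul_inv_cancel_left x (τ x)).symm (hfixC _ hw)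
        exact (inv_mul_eq_one.1 h1).symm
      exact ⟨k, Subtype.ext (orderOf_dvd_iff_pow_eq_one.1 hk)⟩
    haveI := hp.isNilpotent
    infer_instance
  exact Group.isSolvable_of_ker_le_range f.ker.subtype f (by rw [Subgroup.range_subtype])

end Cfsg.Agent.S3117
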