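import Cfsg.Statements.S3125
import Cfsg.Agent.S1971
import Cfsg.Agent.S1984
import Cfsg.Agent.Lib.Char.Burnside


set_option autoImplicit false
open Cfsg

namespace Cfsg.Agent.S3125

/-- Let G be a finite group such that, for every prime p dividing the order of G, every Sylow p-subgroup of G is its own normalizer. Then G is not a non-abelian simple group. -/
theorem result {G : Type*} [Group G] [Finite G]
    (h : ∀ p : ℕ, p.Prime → p ∣ Nat.card G → ∀ P : Sylow p G, Subgroup.normalizer ((P : Subgroup G) : Set G) = P) :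
    ¬ (IsSimpleGroup G ∧ ¬ IsMulCommutative G) := by
  classical
  rintro ⟨hsimple, hna⟩
  haveI := hsimple
  haveI hnt : Nontrivial G := IsSimpleGroup.toNontrivial
  by_cases hbig : ∃ p : ℕ, p.Prime ∧ p ∣ Nat.card G ∧ 5 ≤ p
  · obtain ⟨p, hp, hpd, hp5⟩ := hbig
    haveI := Fact.mk hp
    obtain ⟨S⟩ : Nonempty (Sylow p G) := inferInstance
    have hS : (S : Subgroup G) ≠ ⊥ := S.ne_bot_of_dvd_card hpd
    obtain ⟨N, hN, hNi⟩ := Cfsg.Agent.S1971.result (p := p) Cfsg.kInfLower
      CfsgLib.CFun.kInfLower_isCharPFunctor (fun K R _ => Cfsg.Agent.S1984.result hp5) S hS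
      (fun g hg hco => by
        rw [h p hp hpd S] at hg
        obtain ⟨k, hk⟩ := S.isPGroup' ⟨g, hg⟩
        have h1 : orderOf g ∣ p ^ k := orderOf_dvd_of_pow_eq_one (congrArg Subtype.val hk)
        have h2 : orderOf g = 1 := Nat.eq_one_of_dvd_coprimes (hco.pow_right k) dvd_rfl h1
        rw [orderOf_eq_one_iff.1 h2]
        exact one_mem _)
    rcases hN.eq_bot_or_eq_top with rfl | rfl
    · rw [Subgroup.index_bot] at hNi
      haveI : IsCyclic G := isCyclic_of_prime_card hNi
      exact hna ⟨⟨fun a b => IsCyclic.commGroup.mul_comm a b⟩⟩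
    · rw [Subgroup.index_top] at hNi
      exact hp.ne_one hNi.symm
  · push Not at hbig
    haveI : Group.IsSolvable G := by
      refine CfsgLib.Char.isSolvable_of_card_two_primes Nat.prime_two Nat.prime_three G
        ((Nat.card G).factorization 2) ((Nat.card G).factorization 3) ?_
      conv_lhs => rw [← Nat.prod_factorization_pow_eq_self (Nat.card_pos (α := G)).ne']
      rw [Finsupp.prod_of_support_subset _ (s := ({2, 3} : Finset ℕ)) ?_ _ (fun _ _ => pow_zero _)]
      · simp
      · intro r hr
        rw [Nat.support_factorization] at hr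
        have h1 := hbig r (Nat.prime_of_mem_primeFactors hr) (Nat.dvd_of_mem_primeFactors hr)
        have h2 := (Nat.prime_of_mem_primeFactors hr)
        interval_cases r <;> first | (simp; done) | exact absurd h2 (by norm_num)
    exact hna ⟨⟨IsSimpleGroup.comm_iff_isSolvable.2 inferInstance⟩⟩

end Cfsg.Agent.S3125
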