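import Cfsg.Statements.S3147
import Cfsg.Agent.Lib.Invol.TwoTimesSSeven.Final

set_option autoImplicit false
open Cfsg
open CfsgLib.Invol.TwoTimesSSeven (Q Hyp)

namespace Cfsg.Agent.S3147

/-- Let G be a finite group of even order with an involution t whose centralizer is isomorphic to the direct product of a group of order 2 and the symmetric group of degree 7. Then G has a subgroup of index 2. -/
theorem result {G : Type*} [Group G] [Finite G] (hG : Even (Nat.card G)) (t : G) (ht : orderOf t = 2)
    (hC : Nonempty (↥(Subgroup.centralizer ({t} : Set G)) ≃* Multiplicative (ZMod 2) × Equiv.Perm (Fin 7))) :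
    ∃ H : Subgroup G, H.index = 2 := by
  by_contra hne
  push Not at hne
  obtain ⟨φ⟩ := hC
  let ι : Q →* G := (Subgroup.centralizer ({t} : Set G)).subtype.comp
    (φ.symm.toMonoidHom.comp (MonoidHom.inr (Multiplicative (ZMod 2)) Q))
  have hmem : t ∈ Subgroup.centralizer ({t} : Set G) := Subgroup.mem_centralizer_singleton_iff.2 rfl
  set t' : ↥(Subgroup.centralizer ({t} : Set G)) := ⟨t, hmem⟩ with ht'
  have htc : ∀ x, Commute t' x := fun x =>
    Subtype.ext (Subgroup.mem_centralizer_singleton_iff.1 x.2).symm
  have hq : (φ t').2 = 1 := by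
    have hc : (φ t').2 ∈ Subgroup.center Q := Subgroup.mem_center_iff.2 fun q => by
      have e := (htc (φ.symm (1, q))).map φ.toMonoidHom
      simp only [MulEquiv.coe_toMonoidHom, MulEquiv.apply_symm_apply] at e
      exact (congrArg Prod.snd e.eq).symm
    have hc' := fun q => (Subgroup.mem_center_iff.1 hc q).symm
    rcases CfsgLib.Invol.TwoTimesSSeven.cent_five (hc' _) (hc' _) (hc' _) (hc' _) with e | e
    · exact e
    · have h2 := hc' CfsgLib.Invol.TwoTimesSSeven.pe
      rw [e] at h2
      exact absurd h2 (by decide +kernel)
  have htt : t ≠ 1 := fun e => by rw [e, orderOf_one] at ht; omega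
  have hu : (φ t').1 = Multiplicative.ofAdd 1 := by
    have h01 : ∀ u : Multiplicative (ZMod 2), u = 1 ∨ u = Multiplicative.ofAdd 1 := by decide
    refine (h01 _).resolve_left fun e => htt ?_
    have : φ t' = 1 := Prod.ext e hq
    exact congrArg Subtype.val (φ.injective (this.trans (map_one φ).symm))
  have hpair : ∀ q, (t' * φ.symm (1, q)) = φ.symm (Multiplicative.ofAdd 1, q) := fun q => by
    apply φ.injective
    rw [map_mul, MulEquiv.apply_symm_apply, MulEquiv.apply_symm_apply]
    exact Prod.ext (by simp [hu]) (by simp [hq])
  have h : Hyp t ι :=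
    { invol := ht
      inj := fun p q e => congrArg Prod.snd (φ.symm.injective (Subtype.ext e))
      comm := fun p => (Subgroup.mem_centralizer_singleton_iff.1 (φ.symm (1, p)).2 :)
      notMem := by
        rintro ⟨p, e⟩
        have e' : φ.symm (1, p) = t' := Subtype.ext e
        rw [← e', MulEquiv.apply_symm_apply] at hu
        exact absurd (show (1 : Multiplicative (ZMod 2)) = Multiplicative.ofAdd 1 from hu) (by decide)
      decomp := fun y hy => by
        set y' : ↥(Subgroup.centralizer ({t} : Set G)) :=
          ⟨y, Subgroup.mem_centralizer_singleton_iff.2 hy.eq⟩ with hy'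
        refine ⟨(φ y').2, ?_⟩
        have h01 : ∀ u : Multiplicative (ZMod 2), u = 1 ∨ u = Multiplicative.ofAdd 1 := by decide
        rcases h01 (φ y').1 with e | e
        · left
          have : φ.symm (1, (φ y').2) = y' := by rw [← e]; exact φ.symm_apply_apply y'
          exact (congrArg Subtype.val this).symm
        · right
          have : t' * φ.symm (1, (φ y').2) = y' := by
            rw [hpair, ← e]; exact φ.symm_apply_apply y'
          exact (congrArg Subtype.val this).symm
      noIndexTwo := hne }
  exact h.false

end Cfsg.Agent.S3147
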