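import Cfsg.Statements.S3153
import Cfsg.Agent.S1754
import Cfsg.Agent.Lib.Coprime.PComponent
import Cfsg.Agent.Lib.Coprime.Action

set_option autoImplicit false
open Cfsg

namespace Cfsg.Agent.S3153

open Subgroup
open scoped commutatorElement

theorem commute_of_commutator_central {G : Type*} [Group G] {P : Subgroup G} (hP : ⁅P, P⁆ = P) {x : G}
    (h : ∀ q ∈ P, ⁅q, x⁆ ∈ P ∧ ∀ r ∈ P, Commute r ⁅q, x⁆) : ∀ q ∈ P, Commute q x := by
  let Z : Subgroup G := P ⊓ centralizer (P : Set G)
  letI : CommGroup Z := { (inferInstance : Group Z) with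
    mul_comm := fun a b => Subtype.ext (mem_centralizer_iff.1 b.2.2 a a.2.1) }
  let f : P →* Z :=
    { toFun := fun q => ⟨⁅(q : G), x⁆, (h q q.2).1,
        mem_centralizer_iff.2 fun r hr => (h q q.2).2 r hr⟩
      map_one' := Subtype.ext (commutatorElement_one_left x)
      map_mul' := fun a b => Subtype.ext (by
        show ⁅(a : G) * b, x⁆ = ⁅(a : G), x⁆ * ⁅(b : G), x⁆
        calc ⁅(a : G) * b, x⁆ = (a : G) * ⁅(b : G), x⁆ * (a : G)⁻¹ * ⁅(a : G), x⁆ := by
              simp only [commutatorElement_def]; group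
          _ = ⁅(b : G), x⁆ * ⁅(a : G), x⁆ := by rw [((h b b.2).2 a a.2).eq, mul_inv_cancel_right]
          _ = ⁅(a : G), x⁆ * ⁅(b : G), x⁆ :=
              ((h b b.2).2 _ (h a a.2).1).eq.symm) }
  intro q hq
  have hmem : (⟨q, hq⟩ : P) ∈ commutator P := by
    rw [← Subgroup.mem_map_iff_mem (f := P.subtype) P.subtype_injective, Subgroup.map_subtype_commutator, hP]
    exact hq
  exact commutatorElement_eq_one_iff_commute.1
    (congrArg Subtype.val (Abelianization.commutator_subset_ker f hmem))

theorem commutator_eq_self_of_isQuasisimple {G : Type*} [Group G] {P : Subgroup G}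
    (h : Cfsg.IsQuasisimple ↥P) : ⁅P, P⁆ = P := by
  haveI := h.1
  rw [← Subgroup.map_subtype_commutator, Group.IsPerfect.commutator_eq_top, ← MonoidHom.range_eq_map,
    Subgroup.range_subtype]

/-- Let X be a finite group and P a standard subgroup of X whose centralizer has 2-rank at most 1 and whose centre has odd order. Let S be a Sylow 2-subgroup of N_X(P) and t an involution of S centralizing P. Suppose some element g of X normalizes S, does not lie in S, has its square in S, and conjugates t into P·C_X(P). Then P commutes elementwise with the largest normal odd-order subgroup O(X) of X; consequently every t-invariant 2-component of X containing P is quasisimple. -/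
theorem result {X : Type*} [Group X] [Finite X] (P : Subgroup X) (hP : Cfsg.IsStandardSubgroup P)
    (hr : Cfsg.PRankLE 2 1 ↥(Subgroup.centralizer (P : Set X))) (hZ : Odd (Nat.card ↥(Subgroup.center ↥P)))
    (S : Sylow 2 ↥(Subgroup.normalizer (P : Set X))) (t : X) (ht : orderOf t = 2) (htS : t ∈ (S : Subgroup ↥(Subgroup.normalizer (P : Set X))).map (Subgroup.normalizer (P : Set X)).subtype)
    (htP : t ∈ Subgroup.centralizer (P : Set X))
    (g : X) (hgN : ∀ s ∈ (S : Subgroup ↥(Subgroup.normalizer (P : Set X))).map (Subgroup.normalizer (P : Set X)).subtype, g * s * g⁻¹ ∈ (S : Subgroup ↥(Subgroup.normalizer (P : Set X))).map (Subgroup.normalizer (P : Set X)).subtype)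
    (hgS : g ∉ (S : Subgroup ↥(Subgroup.normalizer (P : Set X))).map (Subgroup.normalizer (P : Set X)).subtype) (hg2 : g ^ 2 ∈ (S : Subgroup ↥(Subgroup.normalizer (P : Set X))).map (Subgroup.normalizer (P : Set X)).subtype)
    (hgt : g * t * g⁻¹ ∈ P ⊔ Subgroup.centralizer (P : Set X)) :
    ⁅P, Cfsg.oddCore X⁆ = ⊥ ∧
      ∀ L : Subgroup X, Cfsg.IsPComponent 2 L → P ≤ L → (∀ l ∈ L, t * l * t⁻¹ ∈ L) → Cfsg.IsQuasisimple ↥L := by
  classical
  set S0 := (S : Subgroup ↥(Subgroup.normalizer (P : Set X))).map (Subgroup.normalizer (P : Set X)).subtype with hS0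
  have hgN0 := hgN
  clear hgN
  haveI : Fact (Nat.Prime 2) := ⟨Nat.prime_two⟩
  obtain ⟨hqs, htight, hcc, hNN⟩ := id hP
  set C := Subgroup.centralizer (P : Set X) with hC
  set V := Cfsg.oddCore X with hV
  have hperf : ⁅P, P⁆ = P := commutator_eq_self_of_isQuasisimple hqs
  have hCN : ∀ x : X, Commute x t → x ∈ (Subgroup.normalizer (P : Set X)) := fun x hx =>
    (Cfsg.Agent.S1754.result P hP t ht htP).1 (mem_centralizer_singleton_iff.2 hx.eq)
  have hS0p : IsPGroup 2 S0 := S.2.map (Subgroup.normalizer (P : Set X)).subtype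
  have ht2 : t ^ 2 = 1 := by rw [← ht, pow_orderOf_eq_one]
  have ht1 : t ≠ 1 := fun e => by rw [e, orderOf_one] at ht; exact absurd ht (by norm_num)
  -- commuting involutions of `C` are equal
  have hone : ∀ u ∈ C, ∀ w ∈ C, u ^ 2 = 1 → w ^ 2 = 1 → u ≠ 1 → w ≠ 1 → Commute u w → u = w := by
    intro u hu w hw hu2 hw2 hu1 hw1 huw
    by_contra hne
    set E : Subgroup ↥C := Subgroup.closure {⟨u, hu⟩, ⟨w, hw⟩}
    have hc : ∀ a ∈ ({⟨u, hu⟩, ⟨w, hw⟩} : Set ↥C), ∀ b ∈ ({⟨u, hu⟩, ⟨w, hw⟩} : Set ↥C), a * b = b * a := by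
      rintro a (rfl | rfl) b (rfl | rfl) <;>
        first | rfl | exact Subtype.ext huw.eq | exact Subtype.ext huw.eq.symm
    haveI : IsMulCommutative E := Subgroup.isMulCommutative_closure hc
    have h2 : ∀ a ∈ E, a ^ 2 = 1 := by
      intro a ha
      induction ha using Subgroup.closure_induction with
      | mem y hy => rcases hy with rfl | rfl <;> exact Subtype.ext (by assumption)
      | one => exact one_pow 2
      | mul a b ha hb iha ihb => rw [(show Commute a b from setLike_mul_comm ha hb).mul_pow, iha, ihb, one_mul]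
      | inv a _ ih => rw [inv_pow, ih, inv_one]
    have hle := hr E inferInstance h2
    have h3 : 3 ≤ Nat.card E := by
      have hmu : (⟨u, hu⟩ : ↥C) ∈ E := Subgroup.subset_closure (Set.mem_insert _ _)
      have hmw : (⟨w, hw⟩ : ↥C) ∈ E := Subgroup.subset_closure (Set.mem_insert_of_mem _ rfl)
      let f : Fin 3 → E := ![1, ⟨_, hmu⟩, ⟨_, hmw⟩]
      have hf : Function.Injective f := by
        intro i j e
        fin_cases i <;> fin_cases j <;>
          simp_all [f, Subtype.ext_iff, eq_comm (a := (1 : X))]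
      have := Nat.card_le_card_of_injective f hf
      rwa [Nat.card_fin] at this
    omega
  have hS0N : S0 ≤ (Subgroup.normalizer (P : Set X)) := Subgroup.map_subtype_le _
  have htcen : ∀ s ∈ S0, Commute s t := by
    intro s hs
    obtain ⟨w, hw, hw1, hw1', hwc⟩ : ∃ w ∈ S0 ⊓ C, w ^ 2 = 1 ∧ w ≠ 1 ∧ ∀ y ∈ S0 ⊓ C, Commute w y := by
      have hp : IsPGroup 2 ↥(S0 ⊓ C) := hS0p.to_le inf_le_left
      haveI : Nontrivial ↥(S0 ⊓ C) :=
        ⟨⟨⟨t, htS, htP⟩, 1, fun e => ht1 (congrArg Subtype.val e)⟩⟩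
      haveI := hp.center_nontrivial
      obtain ⟨n, hn0, hn⟩ := (hp.to_subgroup (Subgroup.center ↥(S0 ⊓ C))).nontrivial_iff_card.1 inferInstance
      obtain ⟨c, hc⟩ := exists_prime_orderOf_dvd_card' 2 (G := Subgroup.center ↥(S0 ⊓ C))
        (hn ▸ dvd_pow_self 2 (by omega))
      have hc2 : c ^ 2 = 1 := by rw [← hc, pow_orderOf_eq_one]
      refine ⟨(c : ↥(S0 ⊓ C)), c.1.2, congrArg Subtype.val (congrArg Subtype.val hc2), fun e => ?_, fun y hy => ?_⟩
      · have : c = 1 := Subtype.ext (Subtype.ext e)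
        rw [this, orderOf_one] at hc
        exact absurd hc (by norm_num)
      · exact (congrArg Subtype.val (Subgroup.mem_center_iff.1 c.2 ⟨y, hy⟩)).symm
    have huw : ∀ u ∈ S0 ⊓ C, u ^ 2 = 1 → u ≠ 1 → u = w := fun u hu hu2 hu1 =>
      (hone w hw.2 u hu.2 hw1 hu2 hw1' hu1 (hwc u hu)).symm
    have e1 : s * t * s⁻¹ = w := by
      refine huw _ ⟨S0.mul_mem (S0.mul_mem hs htS) (S0.inv_mem hs), ?_⟩ (by rw [conj_pow, ht2]; group)
        (fun e => ht1 (conj_eq_one_iff.1 e))
      have hsN := hS0N hs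
      rw [hNN] at hsN
      exact (Subgroup.mem_normalizer_iff.1 hsN t).1 htP
    rw [← huw t ⟨htS, htP⟩ ht2 ht1] at e1
    exact mul_inv_eq_iff_eq_mul.1 e1
  have hgN : g ∉ (Subgroup.normalizer (P : Set X)) := by
    intro hg
    have hgn : g ∈ Subgroup.normalizer (S0 : Set X) := by
      have hmap : S0.map (MulAut.conj g).toMonoidHom ≤ S0 := by
        rintro _ ⟨s, hs, rfl⟩; exact hgN0 s hs
      exact Subgroup.mem_normalizer_iff_map_conj_eq.2 (Subgroup.eq_of_le_of_card_ge hmap
        (Subgroup.card_map_of_injective (MulAut.conj g).injective).ge)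
    have hgp : IsPGroup 2 (Subgroup.zpowers g) := by
      obtain ⟨k, hk⟩ := hS0p ⟨g ^ 2, hg2⟩
      have hk' : g ^ 2 ^ (k + 1) = 1 := by
        rw [pow_succ', pow_mul]; exact congrArg Subtype.val hk
      obtain ⟨j, -, hj⟩ := (Nat.dvd_prime_pow Nat.prime_two).1 (orderOf_dvd_of_pow_eq_one hk')
      exact IsPGroup.of_card (n := j) (by rw [Nat.card_zpowers, hj])
    have hT := hS0p.to_sup_of_normal_left' hgp (Subgroup.zpowers_le.2 hgn)
    have hle : S0 ⊔ Subgroup.zpowers g ≤ (Subgroup.normalizer (P : Set X)) := sup_le hS0N (Subgroup.zpowers_le.2 hg)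
    have e := S.3 (hT.comap_of_injective (Subgroup.normalizer (P : Set X)).subtype (Subgroup.normalizer (P : Set X)).subtype_injective)
      (fun x hx => Subgroup.mem_sup_left ⟨x, hx, rfl⟩)
    refine hgS ⟨⟨g, hg⟩, ?_, rfl⟩
    show (⟨g, hg⟩ : ↥(Subgroup.normalizer (P : Set X))) ∈ (S : Subgroup ↥(Subgroup.normalizer (P : Set X)))
    rw [← e]
    exact Subgroup.mem_sup_right (Subgroup.mem_zpowers g)
  set t' := g * t * g⁻¹ with ht'
  clear_value t'
  have htt' : t' ≠ t := fun e => hgN (hCN g (mul_inv_eq_iff_eq_mul.1 (ht' ▸ e)))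
  have ht'2 : t' ^ 2 = 1 := by rw [ht', conj_pow, ht2]; group
  have ht'1 : t' ≠ 1 := fun e => ht1 (conj_eq_one_iff.1 (ht' ▸ e))
  have hcm : Commute t' t := htcen t' (ht' ▸ hgN0 t htS)
  have hPN : P ≤ Subgroup.normalizer (C : Set X) := Subgroup.le_normalizer.trans hNN.le
  have hPC : ∀ q ∈ P, ∀ c ∈ C, Commute q c := fun q hq c hc => Subgroup.mem_centralizer_iff.1 hc q hq
  obtain ⟨p, hp, c, hc, hpc, hp2, hc2, hct⟩ : ∃ p ∈ P, ∃ c ∈ C, p * c = t' ∧ p ^ 2 = 1 ∧ c ^ 2 = 1 ∧ Commute c t := by
    rw [sup_comm] at hgt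
    obtain ⟨c, hc, p, hp, e⟩ := CfsgLib.Coprime.mem_sup_exists hPN hgt
    have e' : p * c = t' := (hPC p hp c hc).eq.trans e
    have hpcc : p ^ 2 * c ^ 2 = 1 := by rw [← (hPC p hp c hc).mul_pow, e', ht'2]
    have hw : p ^ 2 ∈ C := eq_inv_of_mul_eq_one_left hpcc ▸ inv_mem (pow_mem hc 2)
    let w : Subgroup.center ↥P := ⟨⟨p ^ 2, pow_mem hp 2⟩, Subgroup.mem_center_iff.2 fun r =>
      Subtype.ext (hPC r r.2 _ hw).eq⟩
    obtain ⟨k, hk⟩ : ∃ k, orderOf w = 2 * k + 1 := hZ.of_dvd_nat (orderOf_dvd_natCard w)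
    set v : X := (p ^ 2) ^ (k + 1) with hv
    have hwk : (p ^ 2) ^ (2 * k + 1) = 1 :=
      congrArg (fun x : Subgroup.center ↥P => ((x : ↥P) : X)) (hk ▸ pow_orderOf_eq_one w)
    have hv2 : v ^ 2 = p ^ 2 := by
      rw [hv, ← pow_mul, show (k + 1) * 2 = 2 * k + 1 + 1 by omega, pow_succ, hwk, one_mul]
    have hvC : v ∈ C := pow_mem hw _
    have hvp : Commute p v := hPC p hp v hvC
    refine ⟨p * v⁻¹, mul_mem hp (inv_mem (pow_mem (pow_mem hp 2) _)), v * c, mul_mem hvC hc,
      by rw [mul_assoc, inv_mul_cancel_left, e'], ?_, ?_, ?_⟩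
    · rw [hvp.inv_right.mul_pow, inv_pow, hv2, mul_inv_cancel]
    · have hvc : Commute v c := ((hPC p hp c hc).pow_left 2).pow_left (k + 1)
      rw [hvc.mul_pow, hv2, hpcc]
    · have hpt : Commute p t := hPC p hp t htP
      refine ((hpt.pow_left 2).pow_left (k + 1)).mul_left ?_
      have := hpt.inv_left.mul_left (e' ▸ hcm : Commute (p * c) t)
      rwa [inv_mul_cancel_left] at this
  have hct' : c = 1 ∨ c = t := by
    by_cases hc1 : c = 1
    · exact Or.inl hc1
    · exact Or.inr (hone c hc t htP hc2 ht2 hc1 ht1 hct)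
  have hp1 : p ≠ 1 := by
    intro e
    rw [e, one_mul] at hpc
    rcases hct' with h | h <;> rw [h] at hpc
    · exact ht'1 hpc.symm
    · exact htt' hpc.symm
  have hpc' : ¬ ∀ q ∈ P, Commute q p := by
    intro hall
    have hord : orderOf (⟨⟨p, hp⟩, Subgroup.mem_center_iff.2 fun q => Subtype.ext (hall q q.2).eq⟩ :
        Subgroup.center ↥P) = 2 := by
      rw [← Subgroup.orderOf_coe, ← Subgroup.orderOf_coe]
      exact orderOf_eq_prime hp2 hp1
    exact Nat.not_even_iff_odd.2 hZ (even_iff_two_dvd.2 (hord ▸ orderOf_dvd_natCard _))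
  -- the odd core
  haveI hVn : V.Normal := inferInstance
  have hVcop : (Nat.card V).Coprime 2 := CfsgLib.Coprime.pPrimeCore_coprime Nat.prime_two
  have hD : ∀ x ∈ V, Commute x t → ∀ q ∈ P, Commute q x := by
    intro x hx hxt
    have hxN := hCN x hxt
    haveI : (V.subgroupOf P).Normal := inferInstance
    have hmem : ∀ q ∈ P, ⁅q, x⁆ ∈ P ∧ ⁅q, x⁆ ∈ V := fun q hq => by
      constructor
      · rw [commutatorElement_def, mul_assoc, mul_assoc]
        refine mul_mem hq ?_
        rw [← mul_assoc]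
        exact (Subgroup.mem_normalizer_iff.1 hxN _).1 (inv_mem hq)
      · rw [commutatorElement_def]
        exact mul_mem (hVn.conj_mem x hx q) (inv_mem hx)
    rcases CfsgLib.Coprime.subnormal_eq_top_or_le_center hqs
      (inferInstance : (V.subgroupOf P).Normal).isSubnormal with e | e
    · exfalso
      have hpV : p ∈ V := Subgroup.subgroupOf_eq_top.1 e hp
      have h2 := Subgroup.orderOf_dvd_natCard V hpV
      rw [orderOf_eq_prime hp2 hp1] at h2
      exact Nat.prime_two.ne_one (Nat.eq_one_of_dvd_coprimes hVcop h2 dvd_rfl)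
    · refine commute_of_commutator_central hperf fun q hq => ⟨(hmem q hq).1, fun r hr => ?_⟩
      exact congrArg Subtype.val (Subgroup.mem_center_iff.1
        (e (x := ⟨⁅q, x⁆, (hmem q hq).1⟩) (Subgroup.mem_subgroupOf.2 (hmem q hq).2)) ⟨r, hr⟩)
  have hDeq : V ⊓ Subgroup.centralizer ({t} : Set X) = V ⊓ Subgroup.centralizer ({t'} : Set X) := by
    refine Subgroup.eq_of_le_of_card_ge ?_ (le_of_eq ?_)
    · rintro x ⟨hx, hxt⟩
      have hxt' : Commute x t := Subgroup.mem_centralizer_singleton_iff.1 hxt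
      refine ⟨hx, Subgroup.mem_centralizer_singleton_iff.2 (Commute.eq ?_)⟩
      rw [← hpc]
      refine (hD x hx hxt' p hp).symm.mul_right ?_
      rcases hct' with h | h <;> rw [h]
      exacts [Commute.one_right x, hxt']
    · refine Nat.card_congr ((MulAut.conj g⁻¹).toEquiv.subtypeEquiv fun x => ?_)
      simp only [Subgroup.mem_inf, Subgroup.mem_centralizer_singleton_iff, MulEquiv.toEquiv_eq_coe,
        MulEquiv.coe_toEquiv, MulAut.conj_apply, inv_inv]
      constructor
      · rintro ⟨h1, h2⟩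
        refine ⟨by simpa using hVn.conj_mem x h1 g⁻¹, ?_⟩
        have := (show Commute x t' from h2).map (MulAut.conj g⁻¹).toMonoidHom
        simpa [ht', mul_assoc, commute_iff_eq] using this
      · rintro ⟨h1, h2⟩
        refine ⟨by simpa [mul_assoc] using hVn.conj_mem _ h1 g, ?_⟩
        have := (show Commute (g⁻¹ * x * g) t from h2).map (MulAut.conj g).toMonoidHom
        simpa [ht', mul_assoc, commute_iff_eq] using this
  have hm : ∀ x ∈ V, Commute x (t * t') := by
    set A : Subgroup X := Subgroup.closure {t, t'} with hA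
    haveI : IsMulCommutative A := Subgroup.isMulCommutative_closure (by
      rintro a (rfl | rfl) b (rfl | rfl) <;> first | rfl | exact hcm.eq | exact hcm.eq.symm)
    have helem : ∀ a ∈ A, a = 1 ∨ a = t ∨ a = t' ∨ a = t * t' := by
      have a0 : t * t = 1 := by rw [← pow_two, ht2]
      have a0' : t' * t' = 1 := by rw [← pow_two, ht'2]
      have a1 : t' * t = t * t' := hcm.eq
      have a2 : ∀ y, t * (t * y) = y := fun y => by rw [← mul_assoc, a0, one_mul]
      have a3 : ∀ y, t' * (t * y) = t * (t' * y) := fun y => by rw [← mul_assoc, a1, mul_assoc]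
      intro a ha
      induction ha using Subgroup.closure_induction with
      | mem y hy => rcases hy with e | e <;> simp [Set.mem_singleton_iff.1 e] at * <;> simp [e]
      | one => simp
      | mul a b _ _ ha hb =>
        rcases ha with e1 | e1 | e1 | e1 <;> rcases hb with e2 | e2 | e2 | e2 <;>
          simp [e1, e2, mul_assoc, a0, a0', a1, a2, a3]
      | inv a _ ha =>
        rcases ha with e | e | e | e <;> rw [e]
        · simp
        · exact Or.inr (Or.inl (inv_eq_of_mul_eq_one_right a0))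
        · exact Or.inr (Or.inr (Or.inl (inv_eq_of_mul_eq_one_right a0')))
        · exact Or.inr (Or.inr (Or.inr (inv_eq_of_mul_eq_one_right (by simp [mul_assoc, a3, a2, a0', a0]))))
    have hsq : ∀ a ∈ A, a ^ 2 = 1 := by
      intro a ha
      rcases helem a ha with e | e | e | e <;> rw [e]
      exacts [one_pow 2, ht2, ht'2, by rw [hcm.symm.mul_pow, ht2, ht'2, one_mul]]
    have htA : t ∈ A := Subgroup.subset_closure (Set.mem_insert _ _)
    have ht'A : t' ∈ A := Subgroup.subset_closure (Set.mem_insert_of_mem _ rfl)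
    have hncyc : ¬ IsCyclic A := by
      intro hc
      obtain ⟨a, ha⟩ := hc.exists_generator
      have key : ∀ y ∈ A, y ≠ 1 → y = (a : X) := by
        intro y hy hy1
        obtain ⟨k, hk⟩ := Subgroup.mem_zpowers_iff.1 (ha ⟨y, hy⟩)
        have hk' : (a : X) ^ k = y := by rw [← SubgroupClass.coe_zpow, hk]
        rcases Int.even_or_odd k with ⟨m, rfl⟩ | ⟨m, rfl⟩
        · exact absurd (by rw [← hk', ← two_mul, zpow_mul, zpow_ofNat, hsq a a.2, one_zpow]) hy1
        · rw [← hk', zpow_add, zpow_mul, zpow_ofNat, hsq a a.2, one_zpow, one_mul, zpow_one]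
      exact htt' ((key t' ht'A ht'1).trans (key t htA ht1).symm)
    have hcop : (Nat.card A).Coprime (Nat.card V) := by
      obtain ⟨n, hn⟩ := IsPGroup.iff_card.1 (show IsPGroup 2 A from fun a => ⟨1, Subtype.ext (hsq a a.2)⟩)
      rw [hn]
      exact hVcop.symm.pow_left n
    have h := CfsgLib.Coprime.le_of_centralizers_le hncyc
      (le_top.trans (Subgroup.normalizer_eq_top V).ge) hcop
      (W := Subgroup.centralizer ({t * t'} : Set X)) (fun a ha ha1 x hx => by
        rcases helem a ha with e | e | e | e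
        · exact absurd e ha1
        · rw [e, hDeq] at hx
          have h1 : x ∈ V ⊓ Subgroup.centralizer ({t} : Set X) := hDeq ▸ hx
          exact Subgroup.mem_centralizer_singleton_iff.2 ((show Commute x t from
            Subgroup.mem_centralizer_singleton_iff.1 h1.2).mul_right
            (Subgroup.mem_centralizer_singleton_iff.1 hx.2)).eq
        · rw [e] at hx
          have h1 : x ∈ V ⊓ Subgroup.centralizer ({t} : Set X) := hDeq ▸ hx
          exact Subgroup.mem_centralizer_singleton_iff.2 ((show Commute x t from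
            Subgroup.mem_centralizer_singleton_iff.1 h1.2).mul_right
            (Subgroup.mem_centralizer_singleton_iff.1 hx.2)).eq
        · rw [e] at hx; exact hx.2)
    exact fun x hx => Subgroup.mem_centralizer_singleton_iff.1 (h hx)
  have hPV : ∀ q ∈ P, ∀ x ∈ V, Commute q x := by
    haveI : (Subgroup.centralizer (V : Set X)).Normal := inferInstance
    rcases CfsgLib.Coprime.subnormal_eq_top_or_le_center hqs
      (inferInstance : ((Subgroup.centralizer (V : Set X)).subgroupOf P).Normal).isSubnormal with e | e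
    · exact fun q hq x hx => (Subgroup.mem_centralizer_iff.1 (Subgroup.subgroupOf_eq_top.1 e hq) x hx).symm
    exfalso
    have hmC : t * t' ∈ Subgroup.centralizer (V : Set X) :=
      Subgroup.mem_centralizer_iff.2 fun x hx => (hm x hx).eq
    rcases hct' with h | h
    · -- `t' = p`
      rw [h, mul_one] at hpc
      rw [← hpc] at hmC
      refine hpc' (commute_of_commutator_central hperf fun q hq => ?_)
      have hqt : Commute q t := hPC q hq t htP
      have h1 : ⁅q, p⁆ ∈ Subgroup.centralizer (V : Set X) := by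
        have h2 := mul_mem ((inferInstance : (Subgroup.centralizer (V : Set X)).Normal).conj_mem _ hmC q)
          (inv_mem hmC)
        rw [show q * (t * p) * q⁻¹ = q * t * q⁻¹ * (q * p * q⁻¹) by group, hqt.eq, mul_inv_cancel_right,
          show t * (q * p * q⁻¹) * (t * p)⁻¹ = t * ⁅q, p⁆ * t⁻¹ by rw [commutatorElement_def]; group] at h2
        have h3 := (inferInstance : (Subgroup.centralizer (V : Set X)).Normal).conj_mem _ h2 t⁻¹
        simpa [mul_assoc] using h3
      have hqP : ⁅q, p⁆ ∈ P := by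
        rw [commutatorElement_def]; exact mul_mem (mul_mem (mul_mem hq hp) (inv_mem hq)) (inv_mem hp)
      exact ⟨hqP, fun r hr => congrArg Subtype.val
        (Subgroup.mem_center_iff.1 (e (x := ⟨_, hqP⟩) (Subgroup.mem_subgroupOf.2 h1)) ⟨r, hr⟩)⟩
    · have hpt : Commute p t := hPC p hp t htP
      rw [h] at hpc
      rw [← hpc, hpt.eq, ← mul_assoc, ← pow_two, ht2, one_mul] at hmC
      exact hpc' fun q hq => congrArg Subtype.val
        (Subgroup.mem_center_iff.1 (e (x := ⟨p, hp⟩) (Subgroup.mem_subgroupOf.2 hmC)) ⟨q, hq⟩)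
  refine ⟨?_, fun L hL hPL _ => ?_⟩
  · rw [Subgroup.commutator_eq_bot_iff_le_centralizer]
    exact fun q hq => Subgroup.mem_centralizer_iff.2 fun x hx => (hPV q hq x hx).eq.symm
  set π := QuotientGroup.mk' V with hπ
  have hPne : ¬ P.map π ≤ ⊥ := by
    rw [le_bot_iff, Subgroup.map_eq_bot_iff, QuotientGroup.ker_mk']
    intro hle
    have h2 := Subgroup.orderOf_dvd_natCard V (hle hp)
    rw [orderOf_eq_prime hp2 hp1] at h2
    exact Nat.prime_two.ne_one (Nat.eq_one_of_dvd_coprimes hVcop h2 dvd_rfl)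
  have hLperf := CfsgLib.Coprime.commutator_self_pComponent hL
  have hqsL : Cfsg.IsQuasisimple ↥(L.map π) := hL.2.1.2
  set K := L ⊓ Subgroup.centralizer (V : Set X) with hK
  have hPK : P ≤ K := le_inf hPL fun q hq => Subgroup.mem_centralizer_iff.2 fun x hx => (hPV q hq x hx).eq.symm
  haveI hKn : (K.subgroupOf L).Normal := by
    rw [hK, Subgroup.inf_subgroupOf_left]; infer_instance
  haveI : ((K.map π).subgroupOf (L.map π)).Normal := by
    refine Subgroup.normal_subgroupOf_of_le_normalizer ?_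
    exact (Subgroup.map_mono ((Subgroup.normal_subgroupOf_iff_le_normalizer inf_le_left).1 hKn)).trans
      (Subgroup.le_normalizer_map π)
  have hKL : K = L := by
    refine hL.2.2 K (Subgroup.IsSubnormal.trans inf_le_left hKn.isSubnormal hL.1) inf_le_left
      (le_antisymm (Subgroup.map_mono inf_le_left) ?_)
    rcases CfsgLib.Coprime.subnormal_eq_top_or_le_center hqsL
      (inferInstance : ((K.map π).subgroupOf (L.map π)).Normal).isSubnormal with e | e
    · exact Subgroup.subgroupOf_eq_top.1 e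
    · exfalso
      apply hPne
      rw [← hperf, Subgroup.map_commutator, Subgroup.commutator_le]
      intro a ha b hb
      rw [Subgroup.mem_bot, commutatorElement_eq_one_iff_mul_comm]
      exact congrArg Subtype.val (Subgroup.mem_center_iff.1
        (e (x := ⟨b, Subgroup.map_mono hPL hb⟩) (Subgroup.mem_subgroupOf.2 (Subgroup.map_mono hPK hb)))
        ⟨a, Subgroup.map_mono hPL ha⟩)
  haveI : Group.IsPerfect ↥L := ⟨by
    refine Subgroup.map_injective L.subtype_injective ?_
    rw [Subgroup.map_subtype_commutator, hLperf, ← MonoidHom.range_eq_map, Subgroup.range_subtype]⟩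
  refine ⟨inferInstance, ?_⟩
  let f : ↥L →* ↥(L.map π) := π.subgroupMap L
  have hf : Function.Surjective f := π.subgroupMap_surjective L
  have hker : ((QuotientGroup.mk' (Subgroup.center ↥(L.map π))).comp f).ker = Subgroup.center ↥L := by
    rw [← MonoidHom.comap_ker, QuotientGroup.ker_mk']
    refine le_antisymm (fun x hx => ?_) (fun x hx => Subgroup.mem_center_iff.2 fun y => ?_)
    · refine Subgroup.mem_center_iff.2 fun r => Subtype.ext
        (commute_of_commutator_central hLperf (x := (x : X)) (fun a ha => ?_) r r.2).eq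
      have hmL : ⁅a, (x : X)⁆ ∈ L := by
        rw [commutatorElement_def]; exact mul_mem (mul_mem (mul_mem ha x.2) (inv_mem ha)) (inv_mem x.2)
      refine ⟨hmL, fun b hb => ?_⟩
      have hmV : ⁅a, (x : X)⁆ ∈ V := by
        rw [← QuotientGroup.eq_one_iff (N := V)]
        show π ⁅a, (x : X)⁆ = 1
        rw [map_commutatorElement, commutatorElement_eq_one_iff_mul_comm]
        exact congrArg Subtype.val (Subgroup.mem_center_iff.1 (Subgroup.mem_comap.1 hx) (f ⟨a, ha⟩))
      exact (Subgroup.mem_centralizer_iff.1 (hKL.ge hb).2 _ hmV).symm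
    · obtain ⟨r, rfl⟩ := hf y
      rw [← map_mul, ← map_mul, Subgroup.mem_center_iff.1 hx r]
  haveI := hqsL.2
  have hsurj := (QuotientGroup.mk'_surjective (Subgroup.center ↥(L.map π))).comp hf
  exact ((QuotientGroup.quotientMulEquivOfEq hker.symm).trans
    (QuotientGroup.quotientKerEquivOfSurjective _ hsurj)).isSimpleGroup

end Cfsg.Agent.S3153
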