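import Cfsg.Statements.S3154
import Cfsg.Agent.Lib.SylowLie.L34.Cover

set_option autoImplicit false
open Cfsg

namespace Cfsg.Agent.S3154

/-- Let X be a finite quasisimple group whose centre is an elementary abelian 2-group and whose central quotient is isomorphic to the projective special linear group of dimension 3 over the field with 4 elements. Let T be a Sylow 2-subgroup of X and H ≠ K subgroups of T containing the centre Z(X) whose images in X/Z(X) are elementary abelian of order 16 (the two such subgroups of a Sylow 2-subgroup of the quotient). Then H and K are elementary abelian, H ∩ K is the centre of the subgroup they generate, and each of N_X(H), N_X(K) is a split extension of H, respectively K, by the projective special linear group of dimension 2 over the field with 4 elements (there is a complement isomorphic to that group). -/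
theorem result {X : Type*} [Group X] [Finite X] (hq : Cfsg.IsQuasisimple X) (hZ : Cfsg.IsElementaryAbelian 2 (Subgroup.center X))
    {F : Type*} [Field F] [Fintype F] (hF : Fintype.card F = 4) (hXL : Nonempty ((X ⧸ Subgroup.center X) ≃* Matrix.ProjectiveSpecialLinearGroup (Fin 3) F))
    (T : Sylow 2 X) (H K : Subgroup X) (hHK : H ≠ K) (hHT : H ≤ T) (hKT : K ≤ T) (hZH : Subgroup.center X ≤ H) (hZK : Subgroup.center X ≤ K)
    (hH : Cfsg.IsElementaryAbelian 2 (H.map (QuotientGroup.mk' (Subgroup.center X))) ∧ Nat.card ↥(H.map (QuotientGroup.mk' (Subgroup.center X))) = 16)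
    (hK : Cfsg.IsElementaryAbelian 2 (K.map (QuotientGroup.mk' (Subgroup.center X))) ∧ Nat.card ↥(K.map (QuotientGroup.mk' (Subgroup.center X))) = 16) :
    Cfsg.IsElementaryAbelian 2 H ∧ Cfsg.IsElementaryAbelian 2 K ∧
      H ⊓ K = (Subgroup.center ↥(H ⊔ K)).map (H ⊔ K).subtype ∧
      (∃ C : Subgroup X, C ≤ Subgroup.normalizer (H : Set X) ∧ C ⊓ H = ⊥ ∧ H ⊔ C = Subgroup.normalizer (H : Set X) ∧
        Nonempty (↥C ≃* Matrix.ProjectiveSpecialLinearGroup (Fin 2) F)) ∧
      (∃ C : Subgroup X, C ≤ Subgroup.normalizer (K : Set X) ∧ C ⊓ K = ⊥ ∧ K ⊔ C = Subgroup.normalizer (K : Set X) ∧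
        Nonempty (↥C ≃* Matrix.ProjectiveSpecialLinearGroup (Fin 2) F)) := by
  classical
  obtain ⟨e₀⟩ := hXL
  haveI := CfsgLib.SylowLie.L34.charP_two hF
  haveI : Fact (Nat.Prime 2) := ⟨Nat.prime_two⟩
  obtain ⟨e, he⟩ := CfsgLib.SylowLie.L34.exists_equiv_projU T e₀
  obtain ⟨e₁, C₁⟩ := (CfsgLib.SylowLie.L34.exists_chart hF hHT hZH hH he).2
  obtain ⟨e₂, C₂⟩ := (CfsgLib.SylowLie.L34.exists_chart hF hKT hZK hK he).2
  have hsup := CfsgLib.SylowLie.L34.sup_eq_sylow hF hHK hHT hKT hZH hZK hH hK he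
  have hHe := C₁.elementary hF hZ
  have hKe := C₂.elementary hF hZ
  have hodd : ∀ P : Sylow 2 X, (P : Subgroup X) = (T : Subgroup X) → ¬ 2 ∣ (P : Subgroup X).index :=
    fun P _ => P.not_dvd_index
  refine ⟨hHe, hKe, ?_, C₁.exists_complement hF hZ hodd T rfl hKe hsup,
    C₂.exists_complement hF hZ hodd T rfl hHe (by rw [sup_comm, hsup])⟩
  refine le_antisymm ?_ ?_
  · intro x hx
    refine ⟨⟨x, Subgroup.mem_sup_left hx.1⟩, Subgroup.mem_center_iff.2 fun y => Subtype.ext ?_, rfl⟩
    have key : H ⊔ K ≤ Subgroup.centralizer {x} := sup_le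
      (fun a ha => Subgroup.mem_centralizer_singleton_iff.2
        (congrArg Subtype.val (hHe.1.is_comm.comm (⟨a, ha⟩ : H) ⟨x, hx.1⟩)))
      (fun a ha => Subgroup.mem_centralizer_singleton_iff.2
        (congrArg Subtype.val (hKe.1.is_comm.comm (⟨a, ha⟩ : K) ⟨x, hx.2⟩)))
    exact Subgroup.mem_centralizer_singleton_iff.1 (key y.2)
  · rintro _ ⟨x, hx, rfl⟩
    have hxT : (x : X) ∈ (T : Subgroup X) := hsup.le x.2
    exact ⟨C₁.mem_of_commute hxT fun y hy =>
        congrArg Subtype.val (Subgroup.mem_center_iff.1 hx ⟨y, Subgroup.mem_sup_left hy⟩).symm,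
      C₂.mem_of_commute hxT fun y hy =>
        congrArg Subtype.val (Subgroup.mem_center_iff.1 hx ⟨y, Subgroup.mem_sup_right hy⟩).symm⟩

end Cfsg.Agent.S3154
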