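import Cfsg.Statements.S3155


set_option autoImplicit false
open Cfsg

namespace Cfsg.Agent.S3155

theorem no_square_root_neg {B : Type*} [CommGroup B] [Finite B]
    (e : B ≃* Multiplicative (ZMod 4 × ZMod 4 × ZMod 4)) (τ : B ≃* B)
    (hinv : ∀ b : B, τ (τ b) = b⁻¹) : False := by
  classical
  let Q : Subgroup B := (powMonoidHom 2 : B →* B).range
  let φ : B →* B :=
    { toFun := fun b => τ b * b
      map_one' := by simp
      map_mul' := fun a b => by rw [map_mul, mul_mul_mul_comm] }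
  let ψ : B →* B ⧸ Q := (QuotientGroup.mk' Q).comp φ
  have hcard : Nat.card B = 64 := by
    rw [Nat.card_congr e.toEquiv]
    simp [Nat.card_prod]
  have hfour : ∀ b : B, b ^ 4 = 1 := fun b => e.injective (by
    rw [map_pow, map_one]
    generalize e b = x
    revert x
    decide)
  have hQ : Nat.card Q = 8 := by
    have h1 : Nat.card (powMonoidHom 2 : B →* B).ker = 8 := by
      rw [Nat.card_congr (e.toEquiv.subtypeEquiv (q := fun x => x ^ 2 = 1) fun b => by
        show b ^ 2 = 1 ↔ e b ^ 2 = 1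
        rw [← map_pow, MulEquiv.map_eq_one_iff])]
      rw [Nat.card_eq_fintype_card]
      decide
    have h2 := (powMonoidHom 2 : B →* B).ker.card_mul_index
    rw [Subgroup.index_ker, h1, hcard] at h2
    show Nat.card (powMonoidHom 2 : B →* B).range = 8
    omega
  have hfree : ∀ b : B, b ^ 2 = 1 → b ∈ Q := by
    intro b hb
    have hle : (powMonoidHom 2 : B →* B).range ≤ (powMonoidHom 2 : B →* B).ker := by
      rintro _ ⟨c, rfl⟩
      show (c ^ 2) ^ 2 = 1
      rw [← pow_mul]; exact hfour c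
    have h2 := (powMonoidHom 2 : B →* B).ker.card_mul_index
    rw [Subgroup.index_ker, hcard] at h2
    have h3 : Nat.card (powMonoidHom 2 : B →* B).range = 8 := hQ
    rw [h3] at h2
    have heq := Subgroup.eq_of_le_of_card_ge hle (by omega)
    show b ∈ (powMonoidHom 2 : B →* B).range
    rw [heq]; exact hb
  have hψ : ∀ b, ψ b = 1 ↔ τ b * b ∈ Q := fun b => QuotientGroup.eq_one_iff _
  have hker : ψ.ker = φ.range ⊔ Q := by
    refine le_antisymm (fun b hb => ?_) (sup_le ?_ ?_)
    · obtain ⟨w, hw⟩ := (hψ b).1 hb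
      have hw' : w ^ 2 = τ b * b := hw
      have h1 : τ b = w ^ 2 * b⁻¹ := by rw [hw', mul_inv_cancel_right]
      have h2 : b⁻¹ = (τ w) ^ 2 * (τ b)⁻¹ := by
        rw [← hinv b, h1, map_mul, map_pow, map_inv, ← h1]
      have h3 : (w⁻¹ * τ w * b) ^ 2 = 1 := by
        have h4 : b⁻¹ = (τ w) ^ 2 * (w ^ 2 * b⁻¹)⁻¹ := h1 ▸ h2
        have h5 : (τ w) ^ 2 * ((w ^ 2)⁻¹ * b ^ 2) = 1 := by
          calc (τ w) ^ 2 * ((w ^ 2)⁻¹ * b ^ 2)
              = ((τ w) ^ 2 * (w ^ 2 * b⁻¹)⁻¹) * b := by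
                rw [mul_inv, inv_inv, pow_two b]; simp only [mul_assoc]
            _ = 1 := by rw [← h4, inv_mul_cancel]
        rw [mul_pow, mul_pow, inv_pow, mul_comm ((w ^ 2)⁻¹), mul_assoc]
        exact h5
      have hwb : b = w * (τ w)⁻¹ * (w⁻¹ * τ w * b) := by rw [mul_comm w⁻¹ (τ w)]; group
      rw [hwb]
      refine mul_mem ?_ (Subgroup.mem_sup_right (hfree _ h3))
      have : w * (τ w)⁻¹ = φ w * ((τ w)⁻¹ ^ 2) := by
        show _ = τ w * w * ((τ w)⁻¹ ^ 2)
        rw [mul_comm (τ w) w, mul_assoc, pow_two, mul_inv_cancel_left]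
      rw [this]
      exact mul_mem (Subgroup.mem_sup_left ⟨w, rfl⟩) (Subgroup.mem_sup_right ⟨(τ w)⁻¹, rfl⟩)
    · rintro _ ⟨b, rfl⟩
      refine (hψ _).2 ⟨τ b, ?_⟩
      show (τ b) ^ 2 = τ (τ b * b) * (τ b * b)
      rw [map_mul, hinv, pow_two, mul_comm b⁻¹, mul_assoc, mul_comm (τ b) b, inv_mul_cancel_left]
    · intro b hb
      obtain ⟨c, rfl⟩ := hb
      exact (hψ _).2 ⟨τ c * c, by show (τ c * c) ^ 2 = τ (c ^ 2) * c ^ 2; rw [map_pow, mul_pow]⟩
  have hrange : Nat.card ψ.range * 8 = Nat.card ψ.ker := by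
    have h1 : ψ.range = φ.range.map (QuotientGroup.mk' Q) := MonoidHom.range_comp _ _
    have h2 : φ.range.map (QuotientGroup.mk' Q) = (φ.range ⊔ Q).map (QuotientGroup.mk' Q) := by
      rw [Subgroup.map_sup, QuotientGroup.map_mk'_self, sup_bot_eq]
    have h3 := Subgroup.card_mul_index (Q.subgroupOf (φ.range ⊔ Q))
    let f := (QuotientGroup.mk' Q).domRestrict (φ.range ⊔ Q)
    have h4 : f.ker = Q.subgroupOf (φ.range ⊔ Q) := by
      rw [MonoidHom.ker_domRestrict, QuotientGroup.ker_mk']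
    have h5 := f.ker.card_mul_index
    rw [Subgroup.index_ker, MonoidHom.domRestrict_range, ← h2, ← h1, h4,
      Nat.card_congr (Subgroup.subgroupOfEquivOfLe le_sup_right).toEquiv, hQ] at h5
    rw [hker, ← h5, mul_comm]
  have h6 := ψ.ker.card_mul_index
  rw [Subgroup.index_ker, hcard, ← hrange] at h6
  have hsq : Nat.card ψ.range * Nat.card ψ.range = 8 := by
    have : Nat.card ψ.range * 8 * Nat.card ψ.range = (Nat.card ψ.range * Nat.card ψ.range) * 8 := by
      ring
    omega
  generalize Nat.card ψ.range = r at hsq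
  have : r ≤ 8 := Nat.le_of_dvd (by norm_num) ⟨r, hsq.symm⟩
  interval_cases r <;> omega

/-- Let B be the direct product of three cyclic groups of order 4. Then the automorphism of B inverting every element is not the square of any automorphism of B. -/
theorem result {B : Type*} [CommGroup B] [Finite B] (hB : Nonempty (B ≃* Multiplicative (ZMod 4 × ZMod 4 × ZMod 4)))
    (τ : B ≃* B) : τ.trans τ ≠ MulEquiv.inv B := by
  intro h
  have hinv : ∀ b : B, τ (τ b) = b⁻¹ := fun b => MulEquiv.congr_fun h b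
  obtain ⟨e⟩ := hB
  exact no_square_root_neg e τ hinv

end Cfsg.Agent.S3155
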