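import Cfsg.Statements.S3156
import Cfsg.Agent.Lib.SU.UnitalModel

set_option autoImplicit false
open Cfsg

namespace Cfsg.Agent.S3156

/-- If a finite group T is isomorphic to a Sylow 2-subgroup of the projective special unitary group of dimension 3 with parameter 4 (realised over the field with 16 elements), then no subgroup of the automorphism group of T is isomorphic to the symmetric group of degree 3. -/
theorem result {T : Type*} [Group T] [Finite T] (hT : (∃ (F : Type) (_ : Field F) (_ : Fintype F), Fintype.card F = 16 ∧ ∃ S : Sylow 2 (Cfsg.PSU 3 F 4), Nonempty (T ≃* ↥(S : Subgroup (Cfsg.PSU 3 F 4))))) (H : Subgroup (MulAut T)) : ¬ Nonempty (↥H ≃* Equiv.Perm (Fin 3)) := by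
  rintro ⟨e⟩
  haveI : Fact (Nat.Prime 2) := ⟨Nat.prime_two⟩
  obtain ⟨F, iF, iFF, hF, S, ⟨f⟩⟩ := hT
  haveI : CharP F 2 := charP_of_card_eq_prime_pow (f := 4) (by rw [hF]; norm_num)
  obtain ⟨U₀, hU⟩ := CfsgLib.SU.unital_sylow_psu (n := 2) (by norm_num) (by rw [hF]; norm_num) S
  let U := U₀.congr f
  set a : ↥H := e.symm (Equiv.swap 0 1)
  set r : ↥H := e.symm (finRotate 3)
  have haa : a * a = 1 := by rw [← map_mul, Equiv.swap_mul_self, map_one]
  have hr3 : r * (r * r) = 1 := by
    rw [← map_mul, ← map_mul, show finRotate 3 * (finRotate 3 * finRotate 3) = 1 by decide, map_one]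
  have har : a * r * a = r * r := by
    rw [← map_mul, ← map_mul, ← map_mul]; congr 1; decide
  have hr1 : r ≠ 1 := fun h => by
    have := e.symm.injective (h.trans (map_one e.symm).symm)
    revert this; decide
  have happ : ∀ (g g' : ↥H) (x : T), (g * g').1 x = g.1 (g'.1 x) := fun g g' x => rfl
  have ha : ∀ z ∈ Subgroup.center T, a.1 z = z := fun z hz => U.fix_center a.1 (fun x => by
    rw [← happ, haa]; rfl) hz
  have hrz : ∀ z ∈ Subgroup.center T, r.1 z ∈ Subgroup.center T := fun z hz =>
    U.mem_center_iff.2 (U.pi_apply_zero r.1 (U.mem_center_iff.1 hz))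
  have hr : ∀ z ∈ Subgroup.center T, r.1 z = z := fun z hz => by
    have h1 : r.1 (r.1 z) = r.1 z := by
      rw [← happ, ← har, happ, happ, ha z hz, ha _ (hrz z hz)]
    exact r.1.injective h1
  refine hr1 (Subtype.ext (MulEquiv.ext fun x => U.eq_refl_of_three r.1 (fun y => ?_) ?_ hr x))
  · rw [← happ, ← happ, mul_assoc, hr3]; rfl
  · intro u hu3 hub
    rw [show U.bar u = u ^ 2 ^ 2 from hU u] at hub
    calc u = (u * u ^ 2 ^ 2) * (u * u ^ 2 ^ 2) / (u ^ 3) ^ 3 := by
          have h0 : u ≠ 0 := left_ne_zero_of_mul_eq_one hub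
          field_simp
          ring
      _ = 1 := by rw [hub, hu3]; norm_num

end Cfsg.Agent.S3156
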