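import Cfsg.Statements.S3157
import Cfsg.Agent.Lib.Invol.SymThreeSixtyFour
-- import your own Cfsg.Agent.* helpers here

set_option autoImplicit false
open Cfsg

namespace Cfsg.Agent.S3157

/-- Let T be a non-abelian group of order 64 admitting automorphisms ρ of order 3 and x of order 2 with x ρ x⁻¹ = ρ⁻¹ (so they generate a symmetric group of degree 3), where ρ fixes only the identity. Then T is isomorphic to a Sylow 2-subgroup of the projective special linear group of dimension 3 over the field with 4 elements, and the subgroup of fixed points of x is dihedral of order 8 or quaternion of order 8. -/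
theorem result {T : Type*} [Group T] [Finite T] (hT : Nat.card T = 64) (hna : ¬ IsMulCommutative T) (ρ x : MulAut T) (hρ : orderOf ρ = 3) (hx : orderOf x = 2)
    (hxr : x * ρ * x⁻¹ = ρ⁻¹) (hfp : ∀ y : T, ρ y = y → y = 1) (C : Subgroup T) (hC : ∀ y : T, y ∈ C ↔ x y = y) :
    (∃ (F : Type) (_ : Field F) (_ : Fintype F), Fintype.card F = 4 ∧
        ∃ S : Sylow 2 (Matrix.ProjectiveSpecialLinearGroup (Fin 3) F), Nonempty (T ≃* ↥(S : Subgroup (Matrix.ProjectiveSpecialLinearGroup (Fin 3) F)))) ∧
      (Nonempty (↥C ≃* DihedralGroup 4) ∨ Nonempty (↥C ≃* QuaternionGroup 2)) := by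
  have hρ3 : ρ ^ 3 = 1 := hρ ▸ pow_orderOf_eq_one ρ
  have hx2 : x ^ 2 = 1 := hx ▸ pow_orderOf_eq_one x
  have hcube : ∀ y, ρ (ρ (ρ y)) = y := fun y => by
    have := congrArg (fun f : MulAut T => f y) hρ3
    simpa [pow_succ] using this
  have hxx : ∀ y, x (x y) = y := fun y => by
    have := congrArg (fun f : MulAut T => f y) hx2
    simpa [pow_succ] using this
  have h : CfsgLib.Invol.SymThreeSixtyFour.Fpf T ρ :=
    ⟨IsPGroup.of_card (n := 6) (by rw [hT]; rfl), hcube, hfp⟩
  have hxr' : ∀ y, x (ρ y) = ρ (ρ (x y)) := fun y => by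
    have h1 : x * ρ = ρ⁻¹ * x := mul_inv_eq_iff_eq_mul.1 hxr
    have h2 : x (ρ y) = ρ.symm (x y) := congrArg (fun f : MulAut T => f y) h1
    rw [h2]
    apply ρ.injective
    rw [MulEquiv.apply_symm_apply, hcube]
  obtain ⟨⟨e, -⟩, hCiso⟩ := CfsgLib.Invol.SymThreeSixtyFour.structure_main h hT hna hxr' hxx C hC
  letI : Fintype (GaloisField 2 2) := Fintype.ofFinite _
  have hF : Fintype.card (GaloisField 2 2) = 4 := by
    rw [← Nat.card_eq_fintype_card, GaloisField.card 2 2 (by norm_num)]; rfl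
  exact ⟨⟨GaloisField 2 2, inferInstance, inferInstance, hF,
    CfsgLib.Invol.HeisFour.exists_sylow_psl hF e⟩, hCiso⟩

end Cfsg.Agent.S3157
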