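import Cfsg.Statements.S3158
import Cfsg.Agent.Lib.Invol.Basic
import Cfsg.Agent.Lib.Coprime.Solvable


set_option autoImplicit false
open Cfsg

namespace Cfsg.Agent.S3158

/-- Let U be a group of order q² with q = 2^n ≥ 2, and y an automorphism of U of order q − 1 all of whose nontrivial powers fix only the identity. Let V be a proper normal y-invariant subgroup of U such that V and U/V are elementary abelian 2-groups and there is an isomorphism from V to U/V commuting with the actions of y. Then U is abelian. -/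
theorem result {U : Type*} [Group U] [Finite U] (n : ℕ) (hn : 1 ≤ n) (hU : Nat.card U = (2 ^ n) ^ 2)
    (y : MulAut U) (hy : orderOf y = 2 ^ n - 1) (hfp : ∀ k : ℕ, y ^ k ≠ 1 → ∀ u : U, (y ^ k) u = u → u = 1)
    (V : Subgroup U) [V.Normal] (hV : V ≠ ⊤) (hyV : ∀ v ∈ V, y v ∈ V)
    (hVe : ∀ v ∈ V, v ^ 2 = 1) (hQe : ∀ u : U, u ^ 2 ∈ V) (hQc : ∀ u w : U, u * w * u⁻¹ * w⁻¹ ∈ V)
    (φ : ↥V ≃* U ⧸ V) (hφ : ∀ (v : ↥V) (u : U), (QuotientGroup.mk u : U ⧸ V) = φ v → φ ⟨y v, hyV v v.2⟩ = QuotientGroup.mk (y u)) :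
    IsMulCommutative U := by
  haveI : Fact (Nat.Prime 2) := ⟨Nat.prime_two⟩
  haveI hU2 : IsPGroup 2 U := IsPGroup.of_card (n := n * 2) (by rw [hU, ← pow_mul])
  haveI : Nontrivial U := by
    rw [← Finite.one_lt_card_iff_nontrivial, hU, ← pow_mul]
    exact Nat.one_lt_pow (by omega) one_lt_two
  have hcardV : Nat.card V = 2 ^ n := by
    have h := Subgroup.card_mul_index V
    rw [Subgroup.index, ← Nat.card_congr φ.toEquiv, hU, ← sq] at h
    exact Nat.pow_left_injective two_ne_zero h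
  have hpowV : ∀ (k : ℕ) (v : U), v ∈ V → (y ^ k) v ∈ V := by
    intro k
    induction k with
    | zero => exact fun v hv => hv
    | succ k ih => exact fun v hv => by rw [pow_succ, MulAut.mul_apply]; exact ih _ (hyV v hv)
  obtain ⟨v₀, hv₀, hv₀1⟩ := (Subgroup.bot_or_exists_ne_one V).resolve_left (by
    intro e
    rw [e, Subgroup.card_bot] at hcardV
    exact absurd hcardV.symm (Nat.one_lt_pow (by omega) one_lt_two).ne')
  have horb : ∀ v ∈ V, v ≠ 1 → ∀ w ∈ V, w ≠ 1 → ∃ k : ℕ, (y ^ k) v = w := by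
    intro v hv hv1 w hw hw1
    have hne : ∀ k : ℕ, (y ^ k) v ≠ 1 := fun k h => hv1 ((y ^ k).injective (h.trans (map_one _).symm))
    let f : Fin (orderOf y) → {z : V // z ≠ 1} := fun i =>
      ⟨⟨(y ^ (i : ℕ)) v, hpowV _ v hv⟩, fun h => hne _ (congrArg Subtype.val h)⟩
    have hle : ∀ i j : Fin (orderOf y), (i : ℕ) ≤ j → (y ^ (i : ℕ)) v = (y ^ (j : ℕ)) v →
        (i : ℕ) = j := by
      intro i j hij h
      have h2 : (y ^ ((j : ℕ) - i)) v = v := by
        apply (y ^ (i : ℕ)).injective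
        rw [← MulAut.mul_apply, ← pow_add, Nat.add_sub_cancel' hij, h]
      by_contra hne'
      refine hv1 (hfp _ ?_ v h2)
      exact pow_ne_one_of_lt_orderOf (by omega) (by omega)
    have hinj : Function.Injective f := by
      intro i j h
      have h' : (y ^ (i : ℕ)) v = (y ^ (j : ℕ)) v :=
        congrArg (fun z : {z : V // z ≠ 1} => ((z : V) : U)) h
      rcases le_total (i : ℕ) j with hij | hij
      · exact Fin.ext (hle i j hij h')
      · exact (Fin.ext (hle j i hij h'.symm)).symm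
    classical
    haveI : Fintype V := Fintype.ofFinite V
    have hbij := (Fintype.bijective_iff_injective_and_card f).2 ⟨hinj, by
      rw [Fintype.card_fin, Fintype.card_subtype_compl, Fintype.card_subtype_eq,
        ← Nat.card_eq_fintype_card, hcardV, hy]⟩
    obtain ⟨i, hi⟩ := hbij.2 ⟨⟨w, hw⟩, fun h => hw1 (congrArg Subtype.val h)⟩
    exact ⟨i, congrArg (fun z : {z : V // z ≠ 1} => ((z : V) : U)) hi⟩
  have hVZ : ∀ v ∈ V, v ∈ Subgroup.center U := by
    haveI : Group.IsNilpotent U := hU2.isNilpotent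
    have hZ := CfsgLib.Coprime.nilpotent_inf_center_ne_bot V
      (fun e => hv₀1 (by rw [e, Subgroup.mem_bot] at hv₀; exact hv₀))
    obtain ⟨z, ⟨hzV, hzZ⟩, hz1⟩ := (Subgroup.bot_or_exists_ne_one _).resolve_left hZ
    intro v hv
    rcases eq_or_ne v 1 with rfl | hv1
    · exact one_mem _
    · have hzZ : z ∈ Subgroup.center U := hzZ
      obtain ⟨k, rfl⟩ := horb z hzV hz1 v hv hv1
      rw [Subgroup.mem_center_iff] at hzZ ⊢
      intro g
      obtain ⟨h, rfl⟩ := (y ^ k).surjective g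
      rw [← map_mul, hzZ h, map_mul]
  have hsq : ∀ (u : U), ∀ w ∈ V, (u * w) ^ 2 = u ^ 2 := by
    intro u w hw
    have hc : Commute u w := Subgroup.mem_center_iff.1 (hVZ w hw) u
    rw [hc.mul_pow, hVe w hw, mul_one]
  have hσ : ∃ σ : V → U, ∀ (v : V) (u : U), (QuotientGroup.mk u : U ⧸ V) = φ v → u ^ 2 = σ v := by
    refine ⟨fun v => (Quotient.out (φ v)) ^ 2, fun v u hu => ?_⟩
    have h : (Quotient.out (φ v))⁻¹ * u ∈ V := by
      rw [← QuotientGroup.eq, QuotientGroup.out_eq', hu]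
    show u ^ 2 = (Quotient.out (φ v)) ^ 2
    rw [← hsq (Quotient.out (φ v)) _ h, mul_inv_cancel_left]
  obtain ⟨σ, hσ⟩ := hσ
  have hσV : ∀ v, σ v ∈ V := fun v => by
    obtain ⟨u, hu⟩ := QuotientGroup.mk'_surjective V (φ v)
    rw [← hσ v u hu]
    exact hQe u
  have hσy : ∀ (k : ℕ) (v : V), σ ⟨(y ^ k) v, hpowV k v v.2⟩ = (y ^ k) (σ v) := by
    intro k
    induction k with
    | zero => exact fun v => rfl
    | succ k ih =>
      intro v
      obtain ⟨u, hu⟩ := QuotientGroup.mk'_surjective V (φ v)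
      have h1 : σ ⟨y v, hyV v v.2⟩ = y (σ v) := by
        rw [← hσ v u hu, map_pow]
        exact (hσ _ (y u) (hφ v u hu).symm).symm
      have h2 : (⟨(y ^ (k + 1)) v, hpowV (k + 1) v v.2⟩ : V) =
          ⟨(y ^ k) (⟨y v, hyV v v.2⟩ : V), hpowV k _ (hyV v v.2)⟩ :=
        Subtype.ext (by show (y ^ (k + 1)) (v : U) = (y ^ k) (y v); rw [pow_succ, MulAut.mul_apply])
      rw [h2, ih, h1, pow_succ, MulAut.mul_apply]
  have hσ1 : σ 1 = 1 := by
    rw [← hσ 1 1 (by rw [map_one]; rfl), one_pow]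
  suffices hhom : ∀ a b : V, σ (a * b) = σ a * σ b by
    refine ⟨⟨fun u w => ?_⟩⟩
    have ha : (QuotientGroup.mk u : U ⧸ V) = φ (φ.symm (QuotientGroup.mk u)) :=
      (φ.apply_symm_apply _).symm
    have hb : (QuotientGroup.mk w : U ⧸ V) = φ (φ.symm (QuotientGroup.mk w)) :=
      (φ.apply_symm_apply _).symm
    have hab : (QuotientGroup.mk (u * w) : U ⧸ V) =
        φ (φ.symm (QuotientGroup.mk u) * φ.symm (QuotientGroup.mk w)) := by
      rw [map_mul, ← ha, ← hb, QuotientGroup.mk_mul]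
    have h := hσ _ _ hab
    rw [hhom, ← hσ _ _ ha, ← hσ _ _ hb] at h
    simp only [sq] at h
    have h' : w * (u * w) = u * (w * w) := mul_left_cancel (a := u) (by
      rw [← mul_assoc u w, ← mul_assoc u u]
      exact h)
    exact (mul_right_cancel (b := w) (by rw [mul_assoc, mul_assoc]; exact h'.symm))
  rcases eq_or_ne (σ ⟨v₀, hv₀⟩) 1 with h0 | h0
  · have hall : ∀ v : V, σ v = 1 := by
      intro v
      rcases eq_or_ne v 1 with rfl | hv1
      · exact hσ1
      · obtain ⟨k, hk⟩ := horb v₀ hv₀ hv₀1 v v.2 (fun h => hv1 (Subtype.ext h))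
        have := hσy k ⟨v₀, hv₀⟩
        rw [h0, map_one] at this
        rw [← this]
        congr 1
        exact Subtype.ext hk.symm
    intro a b
    rw [hall, hall, hall, one_mul]
  · obtain ⟨k, hk⟩ := horb v₀ hv₀ hv₀1 _ (hσV _) h0
    have hall : ∀ v : V, σ v = (y ^ k) v := by
      intro v
      rcases eq_or_ne v 1 with rfl | hv1
      · rw [hσ1, OneMemClass.coe_one, map_one]
      · obtain ⟨j, hj⟩ := horb v₀ hv₀ hv₀1 v v.2 (fun h => hv1 (Subtype.ext h))
        have h1 := hσy j ⟨v₀, hv₀⟩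
        calc σ v = σ ⟨(y ^ j) v₀, hpowV j v₀ hv₀⟩ := congrArg σ (Subtype.ext hj.symm)
          _ = (y ^ j) (σ ⟨v₀, hv₀⟩) := h1
          _ = (y ^ k) v := by
            rw [← hk, ← MulAut.mul_apply, ← pow_add, add_comm, pow_add, MulAut.mul_apply, hj]
    intro a b
    rw [hall, hall, hall, Subgroup.coe_mul, map_mul]

end Cfsg.Agent.S3158
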