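import Cfsg.Statements.S3163
import Mathlib.GroupTheory.Index
import Mathlib.Tactic.Group


set_option autoImplicit false
open Cfsg

namespace Cfsg.Agent.S3163

/-- Let S be a non-abelian finite 2-group which is the product S = AB of two elementary abelian subgroups A and B, and suppose that the centralizer in S of every element of A outside B is exactly A. Then the centralizer of every element of B outside A is exactly B; A and B are maximal elementary abelian subgroups of S and the only ones; the centre of S is A ∩ B; and every element of S outside A ∪ B has centralizer of order at most min(|A|, |B|). -/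
theorem result {S : Type*} [Group S] [Finite S] (hS : IsPGroup 2 S) (hna : ¬ IsMulCommutative S) (A B : Subgroup S)
    (hA : Cfsg.IsElementaryAbelian 2 A) (hB : Cfsg.IsElementaryAbelian 2 B) (hAB : ∀ s : S, ∃ a ∈ A, ∃ b ∈ B, s = a * b)
    (hC : ∀ a ∈ A, a ∉ B → Subgroup.centralizer ({a} : Set S) = A) :
    (∀ b ∈ B, b ∉ A → Subgroup.centralizer ({b} : Set S) = B) ∧
      (∀ E : Subgroup S, Cfsg.IsElementaryAbelian 2 E → (∀ E' : Subgroup S, Cfsg.IsElementaryAbelian 2 E' → E ≤ E' → E' = E) → E = A ∨ E = B) ∧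
      (∀ E' : Subgroup S, Cfsg.IsElementaryAbelian 2 E' → A ≤ E' → E' = A) ∧ (∀ E' : Subgroup S, Cfsg.IsElementaryAbelian 2 E' → B ≤ E' → E' = B) ∧
      Subgroup.center S = A ⊓ B ∧
      (∀ x : S, x ∉ A → x ∉ B → Nat.card ↥(Subgroup.centralizer ({x} : Set S)) ≤ min (Nat.card ↥A) (Nat.card ↥B)) := by
  have hcomm : ∀ {E : Subgroup S}, Cfsg.IsElementaryAbelian 2 E → ∀ u ∈ E, ∀ v ∈ E, u * v = v * u :=
    fun {E} hE u hu v hv => congrArg Subtype.val (hE.1.is_comm.comm ⟨u, hu⟩ ⟨v, hv⟩)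
  have hcA := hcomm hA
  have hcB := hcomm hB
  have hcen : ∀ z ∈ A, z ∈ B → ∀ s : S, s * z = z * s := by
    intro z hzA hzB s
    obtain ⟨a, ha, b, hb, rfl⟩ := hAB s
    rw [mul_assoc, hcB b hb z hzB, ← mul_assoc, hcA a ha z hzA, mul_assoc]
  have hCB : ∀ b ∈ B, b ∉ A → Subgroup.centralizer ({b} : Set S) = B := by
    intro b hb hbA
    ext s
    rw [Subgroup.mem_centralizer_singleton_iff]
    refine ⟨fun hs => ?_, fun hs => hcB s hs b hb⟩
    obtain ⟨a, ha, b', hb', rfl⟩ := hAB s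
    by_contra hsB
    have haB : a ∉ B := fun h => hsB (B.mul_mem h hb')
    have : a * b = b * a := mul_right_cancel (b := b')
      (by rw [mul_assoc, hcB b hb b' hb', ← mul_assoc, hs, mul_assoc])
    have h2 : b ∈ Subgroup.centralizer ({a} : Set S) := Subgroup.mem_centralizer_singleton_iff.2 this.symm
    rw [hC a ha haB] at h2
    exact hbA h2
  obtain ⟨a₀, ha₀, ha₀B⟩ : ∃ a ∈ A, a ∉ B := by
    by_contra hc
    push Not at hc
    refine hna ⟨⟨fun u v => ?_⟩⟩
    have hS' : ∀ s, s ∈ B := fun s => by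
      obtain ⟨a, ha, b, hb, rfl⟩ := hAB s
      exact B.mul_mem (hc a ha) hb
    exact hcB u (hS' u) v (hS' v)
  obtain ⟨b₀, hb₀, hb₀A⟩ : ∃ b ∈ B, b ∉ A := by
    by_contra hc
    push Not at hc
    refine hna ⟨⟨fun u v => ?_⟩⟩
    have hS' : ∀ s, s ∈ A := fun s => by
      obtain ⟨a, ha, b, hb, rfl⟩ := hAB s
      exact A.mul_mem ha (hc b hb)
    exact hcA u (hS' u) v (hS' v)
  have hsub : ∀ E : Subgroup S, Cfsg.IsElementaryAbelian 2 E → E ≤ A ∨ E ≤ B := by
    intro E hE
    have hun : ∀ e ∈ E, e ∈ A ∨ e ∈ B := by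
      intro e he
      obtain ⟨a, ha, b, hb, rfl⟩ := hAB e
      by_contra hc
      push Not at hc
      have haB : a ∉ B := fun h => hc.2 (B.mul_mem h hb)
      have hbA : b ∉ A := fun h => hc.1 (A.mul_mem ha h)
      have h2 := hE.2 _ he
      have : a * b = b * a := by
        have h3 : (a * b)⁻¹ = a * b := by
          rw [inv_eq_iff_mul_eq_one, ← pow_two, h2]
        rw [← h3, mul_inv_rev, show b⁻¹ = b by rw [inv_eq_iff_mul_eq_one, ← pow_two, hB.2 b hb],
          show a⁻¹ = a by rw [inv_eq_iff_mul_eq_one, ← pow_two, hA.2 a ha]]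
      have h4 : b ∈ Subgroup.centralizer ({a} : Set S) := Subgroup.mem_centralizer_singleton_iff.2 this.symm
      rw [hC a ha haB] at h4
      exact hbA h4
    by_contra hc
    push Not at hc
    obtain ⟨e, he, he'⟩ := SetLike.not_le_iff_exists.1 hc.1
    obtain ⟨f, hf, hf'⟩ := SetLike.not_le_iff_exists.1 hc.2
    have heB := (hun e he).resolve_left he'
    have hfA := (hun f hf).resolve_right hf'
    rcases hun _ (E.mul_mem he hf) with h | h
    · exact he' ((A.mul_mem_cancel_right hfA).1 h)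
    · exact hf' ((B.mul_mem_cancel_left heB).1 h)
  refine ⟨hCB, fun E hE hmax => ?_, fun E' hE' hle => ?_, fun E' hE' hle => ?_, ?_, fun x hxA hxB => ?_⟩
  · rcases hsub E hE with h | h
    · exact Or.inl (hmax A hA h).symm
    · exact Or.inr (hmax B hB h).symm
  · rcases hsub E' hE' with h | h
    · exact le_antisymm h hle
    · exact absurd (h (hle ha₀)) ha₀B
  · rcases hsub E' hE' with h | h
    · exact absurd (h (hle hb₀)) hb₀A
    · exact le_antisymm h hle
  · ext z
    rw [Subgroup.mem_center_iff, Subgroup.mem_inf]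
    refine ⟨fun hz => ⟨?_, ?_⟩, fun hz => hcen z hz.1 hz.2⟩
    · rw [← hC a₀ ha₀ ha₀B, Subgroup.mem_centralizer_singleton_iff]; exact (hz a₀).symm
    · rw [← hCB b₀ hb₀ hb₀A, Subgroup.mem_centralizer_singleton_iff]; exact (hz b₀).symm
  have key : ∀ D : Subgroup S, (∀ d ∈ D, d ∉ A ⊓ B → Subgroup.centralizer ({d} : Set S) = D) →
      x ∉ D → Subgroup.centralizer ({x} : Set S) ⊓ D ≤ A ⊓ B := by
    intro D hD hxD d hd
    by_contra hc
    apply hxD
    rw [← hD d hd.2 hc, Subgroup.mem_centralizer_singleton_iff]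
    exact (Subgroup.mem_centralizer_singleton_iff.1 hd.1).symm
  have hDA := key A (fun d hd hc => hC d hd fun h => hc ⟨hd, h⟩) hxA
  have hDB := key B (fun d hd hc => hCB d hd fun h => hc ⟨h, hd⟩) hxB
  have hprod : Nat.card S * Nat.card ↥(A ⊓ B) = Nat.card A * Nat.card B := by
    rw [← Nat.card_prod, ← Nat.card_prod]
    obtain ⟨f, hf⟩ : ∃ f : S → S × S, ∀ s, (f s).1 ∈ A ∧ (f s).2 ∈ B ∧ s = (f s).1 * (f s).2 := by
      choose a ha b hb hs using hAB
      exact ⟨fun s => (a s, b s), fun s => ⟨ha s, hb s, hs s⟩⟩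
    refine Nat.card_congr
      { toFun := fun p => (⟨(f p.1).1 * p.2, A.mul_mem (hf p.1).1 p.2.2.1⟩,
          ⟨(p.2 : S)⁻¹ * (f p.1).2, B.mul_mem (B.inv_mem p.2.2.2) (hf p.1).2.1⟩)
        invFun := fun p => (p.1 * p.2, ⟨(f (p.1 * p.2)).1⁻¹ * p.1, ?_⟩)
        left_inv := fun p => ?_
        right_inv := fun p => ?_ }
    · refine ⟨A.mul_mem (A.inv_mem (hf _).1) p.1.2, ?_⟩
      have h := (hf ((p.1 : S) * p.2)).2.2
      rw [show (f ((p.1 : S) * p.2)).1⁻¹ * (p.1 : S) = (f ((p.1 : S) * p.2)).2 * (p.2 : S)⁻¹ by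
        rw [eq_mul_inv_iff_mul_eq, mul_assoc, inv_mul_eq_iff_eq_mul]; exact h]
      exact B.mul_mem (hf _).2.1 (B.inv_mem p.2.2)
    · have e : ((f p.1).1 * (p.2 : S)) * ((p.2 : S)⁻¹ * (f p.1).2) = p.1 := by
        rw [← mul_assoc, mul_inv_cancel_right, ← (hf p.1).2.2]
      refine Prod.ext e (Subtype.ext ?_)
      simp only [e]
      group
    · have h := (hf ((p.1 : S) * p.2)).2.2
      refine Prod.ext (Subtype.ext ?_) (Subtype.ext ?_)
      · simp [← mul_assoc]
      · show ((f ((p.1 : S) * p.2)).1⁻¹ * (p.1 : S))⁻¹ * (f ((p.1 : S) * p.2)).2 = p.2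
        rw [mul_inv_rev, inv_inv, mul_assoc, ← h, inv_mul_cancel_left]
  have hb : ∀ D : Subgroup S, Subgroup.centralizer ({x} : Set S) ⊓ D ≤ A ⊓ B →
      Nat.card ↥(Subgroup.centralizer ({x} : Set S)) * Nat.card D ≤ Nat.card A * Nat.card B := by
    intro D hD
    set K := Subgroup.centralizer ({x} : Set S) with hK
    have h1 : Nat.card K = Nat.card ↥(K ⊓ D) * D.relIndex K := by
      have h := Subgroup.relIndex_mul_relIndex ⊥ (K ⊓ D) K bot_le inf_le_left
      rw [Subgroup.relIndex_bot_left, Subgroup.relIndex_bot_left, Subgroup.inf_relIndex_left] at h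
      exact h.symm
    have h2 : D.relIndex K ≤ D.index := by
      rw [← Subgroup.relIndex_top_right]
      exact Subgroup.relIndex_le_of_le_right le_top (by rw [Subgroup.relIndex_top_right]; exact Subgroup.index_ne_zero_of_finite)
    calc Nat.card K * Nat.card D ≤ (Nat.card ↥(A ⊓ B) * D.index) * Nat.card D := by
          rw [h1]
          exact Nat.mul_le_mul_right _ (Nat.mul_le_mul (Subgroup.card_le_of_le hD) h2)
      _ = Nat.card S * Nat.card ↥(A ⊓ B) := by rw [mul_assoc, D.index_mul_card, mul_comm]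
      _ = _ := hprod
  refine le_min ?_ ?_
  · exact Nat.le_of_mul_le_mul_right ((hb B hDB)) Nat.card_pos
  · exact Nat.le_of_mul_le_mul_right ((hb A hDA).trans_eq (mul_comm _ _)) Nat.card_pos

end Cfsg.Agent.S3163
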