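import Cfsg.Statements.S3164
import Cfsg.Agent.S1754
import Cfsg.Agent.S3153
import Cfsg.Agent.Lib.Coprime.PComponent
import Cfsg.Agent.Lib.Coprime.Action
import Cfsg.Agent.Lib.Coprime.LBalance.Main

set_option autoImplicit false
open Cfsg

namespace Cfsg.Agent.S3164

open Subgroup
open scoped commutatorElement

theorem isQuasisimple_of_surjective {X Y : Type*} [Group X] [Group Y] (h : Cfsg.IsQuasisimple X)
    {f : X →* Y} (hf : Function.Surjective f) (hk : f.ker ≠ ⊤) : Cfsg.IsQuasisimple Y := by
  haveI := h.1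
  haveI : Group.IsPerfect Y := ⟨by
    rw [commutator_def, ← Subgroup.map_top_of_surjective f hf, ← Subgroup.map_commutator, ← commutator_def,
      Group.IsPerfect.commutator_eq_top]⟩
  haveI : Nontrivial Y := by
    by_contra hn
    rw [not_nontrivial_iff_subsingleton] at hn
    exact hk (eq_top_iff.2 fun x _ => Subsingleton.elim _ _)
  refine CfsgLib.Coprime.isQuasisimple_of_normal_le_center fun N hN => ?_
  rcases CfsgLib.Coprime.subnormal_eq_top_or_le_center h
    (show (N.comap f).Normal from inferInstance).isSubnormal with e | e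
  · exact Or.inl (Subgroup.comap_injective hf (e.trans (Subgroup.comap_top f).symm))
  · refine Or.inr fun y hy => Subgroup.mem_center_iff.2 fun w => ?_
    obtain ⟨x, rfl⟩ := hf y
    obtain ⟨u, rfl⟩ := hf w
    rw [← map_mul, ← map_mul, Subgroup.mem_center_iff.1 (e hy) u]

theorem component_le_pLayer {G : Type*} [Group G] [Finite G] {A : Subgroup G} (hA : Cfsg.IsComponent A)
    (hne : ¬ A ≤ Cfsg.pPrimeCore 2 G) : A ≤ Cfsg.pLayer 2 G := by
  haveI : Fact (Nat.Prime 2) := ⟨Nat.prime_two⟩
  set π := QuotientGroup.mk' (Cfsg.pPrimeCore 2 G) with hπ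
  have hcomp : Cfsg.IsComponent (A.map π) := by
    refine ⟨hA.1.map (QuotientGroup.mk'_surjective _), isQuasisimple_of_surjective hA.2
      (π.subgroupMap_surjective A) fun e => hne fun a ha => ?_⟩
    have h : π.subgroupMap A ⟨a, ha⟩ = 1 := MonoidHom.mem_ker.1 (e ▸ Subgroup.mem_top _)
    exact (QuotientGroup.eq_one_iff a).1 (congrArg Subtype.val h)
  have hK := CfsgLib.Coprime.isPComponent_pComponentOver (p := 2) hcomp
  have hle : CfsgLib.Coprime.pComponentOver 2 (A.map π) ≤ A :=
    CfsgLib.Coprime.pComponentOver_le_of_map_eq hA.1 rfl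
  rcases CfsgLib.Coprime.eq_or_le_center_of_le_component hA hK.1 hle with e | e
  · exact e ▸ CfsgLib.Coprime.pComponent_le_pLayer hK
  · exfalso
    apply CfsgLib.Coprime.not_le_of_isComponent_of_isSolvable hcomp
      (R := (⁅A, CfsgLib.Coprime.pComponentOver 2 (A.map π)⁆).map π)
    · rw [(Subgroup.commutator_eq_bot_iff_le_centralizer).2 fun a ha => Subgroup.mem_centralizer_iff.2
        fun x hx => (Subgroup.mem_centralizer_iff.1 (CfsgLib.Coprime.subgroupOf_le_center hle e hx) a ha).symm,
        Subgroup.map_bot]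
      infer_instance
    · rw [Subgroup.map_commutator, CfsgLib.Coprime.map_pComponentOver hcomp]
      exact (CfsgLib.Coprime.commutator_self_of_isComponent hcomp).ge

theorem layer_eq_top_of_normal_perfect {G : Type*} [Group G] [Finite G] {Y : Subgroup G} [Y.Normal]
    (hY : ⁅Y, Y⁆ = Y) (hle : Y ≤ Cfsg.layer G) : Cfsg.layer ↥Y = ⊤ := by
  set M : Subgroup G := sSup {K | Cfsg.IsComponent K ∧ K ≤ Y} with hM
  set M' : Subgroup G := sSup {K | Cfsg.IsComponent K ∧ ¬ K ≤ Y} with hM'
  have hMY : M ≤ Y := sSup_le fun K hK => hK.2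
  have hYM' : Y ≤ centralizer (M' : Set G) := by
    rw [Subgroup.le_centralizer_iff]
    refine sSup_le fun K hK => ?_
    rw [← Subgroup.commutator_eq_bot_iff_le_centralizer]
    exact (CfsgLib.Coprime.component_le_or_commutator_eq_bot hK.1
      (Subgroup.Normal.isSubnormal inferInstance)).resolve_left hK.2
  have hMM : M' ≤ normalizer (M : Set G) :=
    ((Subgroup.le_centralizer_iff.1 hYM').trans (Subgroup.centralizer_le hMY)).trans
      (Subgroup.centralizer_le_normalizer _)
  have hsup : Cfsg.layer G ≤ M ⊔ M' := sSup_le fun K hK => by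
    by_cases h : K ≤ Y
    · exact (le_sSup ⟨hK, h⟩ : K ≤ M).trans le_sup_left
    · exact (le_sSup ⟨hK, h⟩ : K ≤ M').trans le_sup_right
  have hYM : Y ≤ M := by
    rw [← hY, Subgroup.commutator_le]
    intro y hy z hz
    obtain ⟨m, hm, m', hm', rfl⟩ := CfsgLib.Coprime.mem_sup_exists hMM (hsup (hle hy))
    obtain ⟨n, hn, n', hn', rfl⟩ := CfsgLib.Coprime.mem_sup_exists hMM (hsup (hle hz))
    have hn'Y : n' ∈ Y := (mul_mem_cancel_left (hMY hn)).1 hz
    have c1 : Commute n' m' := (Subgroup.mem_centralizer_iff.1 (hYM' hn'Y) m' hm').symm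
    have c2 : Commute m n' := (Subgroup.mem_centralizer_iff.1 (hYM' (hMY hm)) n' hn').symm
    have c3 : Commute n m' := (Subgroup.mem_centralizer_iff.1 (hYM' (hMY hn)) m' hm').symm
    have c4 : Commute n n' := (Subgroup.mem_centralizer_iff.1 (hYM' (hMY hn)) n' hn').symm
    have e : ⁅m * m', n * n'⁆ = ⁅m, n⁆ := by
      have e1 : ⁅m', n * n'⁆ = 1 :=
        commutatorElement_eq_one_iff_commute.2 (c3.symm.mul_right c1.symm)
      have e2 : ⁅m, n'⁆ = 1 := commutatorElement_eq_one_iff_commute.2 c2
      calc ⁅m * m', n * n'⁆ = m * ⁅m', n * n'⁆ * m⁻¹ * ⁅m, n * n'⁆ := by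
            simp only [commutatorElement_def]; group
        _ = ⁅m, n⁆ * (n * ⁅m, n'⁆ * n⁻¹) := by
            rw [e1, mul_one, mul_inv_cancel, one_mul]; simp only [commutatorElement_def]; group
        _ = ⁅m, n⁆ := by rw [e2, mul_one, mul_inv_cancel, mul_one]
    rw [e, commutatorElement_def]
    exact mul_mem (mul_mem (mul_mem hm hn) (inv_mem hm)) (inv_mem hn)
  refine eq_top_iff.2 fun x _ => ?_
  have hMle : M ≤ (Cfsg.layer ↥Y).map Y.subtype := sSup_le fun K hK => by
    rw [← Subgroup.map_subgroupOf_eq_of_le hK.2]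
    exact Subgroup.map_mono (CfsgLib.Coprime.component_le_layer
      (CfsgLib.Coprime.isComponent_subgroupOf hK.1 hK.2))
  exact (Subgroup.mem_map_iff_mem Y.subtype_injective).1 (hMle (hYM x.2))

/-- Let A be a standard subgroup of a finite group G whose centralizer has cyclic Sylow 2-subgroups, t an involution centralizing A, and X the normal closure of A in G. If X has a t-invariant 2-subgroup R with [R, t] nontrivial and contained in A, then X is semisimple (X equals its own layer, a central product of quasisimple groups) and the centre of X has odd order. -/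
theorem result {G : Type*} [Group G] [Finite G] (A : Subgroup G) (hA : Cfsg.IsStandardSubgroup A)
    (hcyc : ∀ R : Sylow 2 ↥(Subgroup.centralizer (A : Set G)), IsCyclic ↥(R : Subgroup ↥(Subgroup.centralizer (A : Set G)))) (t : G) (ht : orderOf t = 2) (htA : t ∈ Subgroup.centralizer (A : Set G))
    (R : Subgroup G) (hR2 : IsPGroup 2 ↥R) (hRX : R ≤ Subgroup.normalClosure (A : Set G)) (hRt : ∀ r ∈ R, t * r * t⁻¹ ∈ R)
    (hc1 : ⁅R, Subgroup.zpowers t⁆ ≠ ⊥) (hc2 : ⁅R, Subgroup.zpowers t⁆ ≤ A) :
    Cfsg.layer ↥(Subgroup.normalClosure (A : Set G)) = ⊤ ∧ Odd (Nat.card ↥(Subgroup.center ↥(Subgroup.normalClosure (A : Set G)))) := by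
  classical
  haveI : Fact (Nat.Prime 2) := ⟨Nat.prime_two⟩
  obtain ⟨hqs, htight, hcc, hNN⟩ := id hA
  set X := Subgroup.normalClosure (A : Set G) with hX
  have hAX : A ≤ X := fun a ha => Subgroup.subset_normalClosure ha
  have hperf : ⁅A, A⁆ = A := Cfsg.Agent.S3153.commutator_eq_self_of_isQuasisimple hqs
  have hCt : ∀ s : G, orderOf s = 2 → s ∈ centralizer (A : Set G) → ∀ x, Commute x s → x ∈ normalizer (A : Set G) :=
    fun s hs hsA x hx => (Cfsg.Agent.S1754.result A hA s hs hsA).1 (mem_centralizer_singleton_iff.2 hx.eq)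
  -- `A` is not normal
  have hnA : ¬ A.Normal := by
    intro hn
    apply hc1
    rw [Subgroup.commutator_eq_bot_iff_le_centralizer]
    intro r hr
    rw [Subgroup.mem_centralizer_iff]
    intro s hs
    have hrA : r ∈ A := by
      have := hRX hr
      rwa [hX, Subgroup.normalClosure_eq_self] at this
    obtain ⟨k, rfl⟩ := Subgroup.mem_zpowers_iff.1 hs
    exact ((show Commute r t from Subgroup.mem_centralizer_iff.1 htA r hrA).zpow_right k).eq.symm
  -- the involution `a`
  obtain ⟨r, hr, hrt⟩ : ∃ r ∈ R, ¬ Commute r t := by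
    by_contra h
    push Not at h
    apply hc1
    rw [Subgroup.commutator_eq_bot_iff_le_centralizer]
    intro r hr
    rw [Subgroup.mem_centralizer_iff]
    intro s hs
    obtain ⟨k, rfl⟩ := Subgroup.mem_zpowers_iff.1 hs
    exact ((h r hr).zpow_right k).eq.symm
  have haA : ⁅r, t⁆ ∈ A := hc2 (Subgroup.commutator_mem_commutator hr (Subgroup.mem_zpowers t))
  have ha0 : ⁅r, t⁆ = r * t * r⁻¹ * t⁻¹ := commutatorElement_def r t
  generalize ⁅r, t⁆ = a at haA ha0
  have ht2 : t ^ 2 = 1 := by rw [← ht, pow_orderOf_eq_one]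
  have ht1 : t ≠ 1 := fun e => by rw [e, orderOf_one] at ht; exact absurd ht (by norm_num)
  have hta : r * t * r⁻¹ = a * t := by rw [ha0, inv_mul_cancel_right]
  have hat : Commute a t := Subgroup.mem_centralizer_iff.1 htA a haA
  have ha2 : a ^ 2 = 1 := by
    have h := congrArg (· ^ 2) hta
    rw [conj_pow, ht2, mul_one, mul_inv_cancel, hat.mul_pow, ht2, mul_one] at h
    exact h.symm
  have ha1 : a ≠ 1 := fun e => hrt (mul_inv_eq_iff_eq_mul.1 (by rw [hta, e, one_mul]))
  have hane : a ≠ t := fun e => ht1 (conj_eq_one_iff.1 (by rw [hta, e, ← pow_two, ht2]))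
  have hao : orderOf a = 2 := orderOf_eq_prime ha2 ha1
  -- the odd core
  set V := Cfsg.oddCore G with hV
  haveI hVn : V.Normal := inferInstance
  have hVcop : (Nat.card V).Coprime 2 := CfsgLib.Coprime.pPrimeCore_coprime Nat.prime_two
  have haV : a ∉ V := fun h => by
    have h2 := Subgroup.orderOf_dvd_natCard V h
    rw [hao] at h2
    exact Nat.prime_two.ne_one (Nat.eq_one_of_dvd_coprimes hVcop h2 dvd_rfl)
  have hD : ∀ x ∈ V, x ∈ normalizer (A : Set G) → ∀ q ∈ A, Commute q x := by
    intro x hx hxN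
    have hmem : ∀ q ∈ A, ⁅q, x⁆ ∈ A ∧ ⁅q, x⁆ ∈ V := fun q hq => by
      constructor
      · rw [commutatorElement_def, mul_assoc, mul_assoc]
        refine mul_mem hq ?_
        rw [← mul_assoc]
        exact (Subgroup.mem_normalizer_iff.1 hxN _).1 (inv_mem hq)
      · rw [commutatorElement_def]
        exact mul_mem (hVn.conj_mem x hx q) (inv_mem hx)
    rcases CfsgLib.Coprime.subnormal_eq_top_or_le_center hqs
      (inferInstance : (V.subgroupOf A).Normal).isSubnormal with e | e
    · exact absurd (Subgroup.subgroupOf_eq_top.1 e haA) haV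
    · refine Cfsg.Agent.S3153.commute_of_commutator_central hperf fun q hq => ⟨(hmem q hq).1, fun s hs => ?_⟩
      exact congrArg Subtype.val (Subgroup.mem_center_iff.1
        (e (x := ⟨⁅q, x⁆, (hmem q hq).1⟩) (Subgroup.mem_subgroupOf.2 (hmem q hq).2)) ⟨s, hs⟩)
  have hDeq : V ⊓ centralizer ({t} : Set G) = V ⊓ centralizer ({a * t} : Set G) := by
    refine Subgroup.eq_of_le_of_card_ge ?_ (le_of_eq ?_)
    · rintro x ⟨hx, hxt⟩
      have hxt' : Commute x t := Subgroup.mem_centralizer_singleton_iff.1 hxt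
      exact ⟨hx, Subgroup.mem_centralizer_singleton_iff.2
        ((hD x hx (hCt t ht htA x hxt') a haA).symm.mul_right hxt').eq⟩
    · refine Nat.card_congr ((MulAut.conj r⁻¹).toEquiv.subtypeEquiv fun x => ?_)
      simp only [Subgroup.mem_inf, Subgroup.mem_centralizer_singleton_iff, MulEquiv.toEquiv_eq_coe,
        MulEquiv.coe_toEquiv, MulAut.conj_apply, inv_inv, ← hta]
      constructor
      · rintro ⟨h1, h2⟩
        refine ⟨by simpa using hVn.conj_mem x h1 r⁻¹, ?_⟩
        have := (show Commute x (r * t * r⁻¹) from h2).map (MulAut.conj r⁻¹).toMonoidHom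
        simpa [mul_assoc, commute_iff_eq] using this
      · rintro ⟨h1, h2⟩
        refine ⟨by simpa [mul_assoc] using hVn.conj_mem _ h1 r, ?_⟩
        have := (show Commute (r⁻¹ * x * r) t from h2).map (MulAut.conj r).toMonoidHom
        simpa [mul_assoc, commute_iff_eq] using this
  have hVa : ∀ x ∈ V, Commute x a := by
    set B : Subgroup G := Subgroup.closure {t, a} with hB
    haveI : IsMulCommutative B := Subgroup.isMulCommutative_closure (by
      rintro u (rfl | rfl) v (rfl | rfl) <;> first | rfl | exact hat.eq | exact hat.eq.symm)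
    have helem : ∀ u ∈ B, u = 1 ∨ u = t ∨ u = a ∨ u = t * a := by
      have a0 : t * t = 1 := by rw [← pow_two, ht2]
      have a0' : a * a = 1 := by rw [← pow_two, ha2]
      have a1 : a * t = t * a := hat.eq
      have a2 : ∀ y, t * (t * y) = y := fun y => by rw [← mul_assoc, a0, one_mul]
      have a3 : ∀ y, a * (t * y) = t * (a * y) := fun y => by rw [← mul_assoc, a1, mul_assoc]
      intro u hu
      induction hu using Subgroup.closure_induction with
      | mem y hy => rcases hy with e | e <;> simp [Set.mem_singleton_iff.1 e] at * <;> simp [e]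
      | one => simp
      | mul u v _ _ hu hv =>
        rcases hu with e1 | e1 | e1 | e1 <;> rcases hv with e2 | e2 | e2 | e2 <;>
          simp [e1, e2, mul_assoc, a0, a0', a1, a2, a3]
      | inv u _ hu =>
        rcases hu with e | e | e | e <;> rw [e]
        · simp
        · exact Or.inr (Or.inl (inv_eq_of_mul_eq_one_right a0))
        · exact Or.inr (Or.inr (Or.inl (inv_eq_of_mul_eq_one_right a0')))
        · exact Or.inr (Or.inr (Or.inr (inv_eq_of_mul_eq_one_right (by simp [mul_assoc, a3, a2, a0', a0]))))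
    have hsq : ∀ u ∈ B, u ^ 2 = 1 := by
      intro u hu
      rcases helem u hu with e | e | e | e <;> rw [e]
      exacts [one_pow 2, ht2, ha2, by rw [hat.symm.mul_pow, ht2, ha2, one_mul]]
    have hncyc : ¬ IsCyclic B := by
      intro hc
      obtain ⟨g, hg⟩ := hc.exists_generator
      have key : ∀ y ∈ B, y ≠ 1 → y = (g : G) := by
        intro y hy hy1
        obtain ⟨k, hk⟩ := Subgroup.mem_zpowers_iff.1 (hg ⟨y, hy⟩)
        have hk' : (g : G) ^ k = y := by rw [← SubgroupClass.coe_zpow, hk]
        rcases Int.even_or_odd k with ⟨m, rfl⟩ | ⟨m, rfl⟩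
        · exact absurd (by rw [← hk', ← two_mul, zpow_mul, zpow_ofNat, hsq g g.2, one_zpow]) hy1
        · rw [← hk', zpow_add, zpow_mul, zpow_ofNat, hsq g g.2, one_zpow, one_mul, zpow_one]
      exact hane ((key a (Subgroup.subset_closure (Set.mem_insert_of_mem _ rfl)) ha1).trans
        (key t (Subgroup.subset_closure (Set.mem_insert _ _)) ht1).symm)
    have hcop : (Nat.card B).Coprime (Nat.card V) := by
      obtain ⟨n, hn⟩ := IsPGroup.iff_card.1 (show IsPGroup 2 B from fun u => ⟨1, Subtype.ext (hsq u u.2)⟩)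
      rw [hn]
      exact hVcop.symm.pow_left n
    have h := CfsgLib.Coprime.le_of_centralizers_le hncyc
      (le_top.trans (Subgroup.normalizer_eq_top V).ge) hcop
      (W := Subgroup.centralizer ({a} : Set G)) (fun u hu hu1 x hx => by
        have key : x ∈ V ⊓ centralizer ({t} : Set G) → x ∈ centralizer ({a} : Set G) := fun h1 =>
          Subgroup.mem_centralizer_singleton_iff.2
            (hD x h1.1 (hCt t ht htA x (Subgroup.mem_centralizer_singleton_iff.1 h1.2)) a haA).eq.symm
        rcases helem u hu with e | e | e | e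
        · exact absurd e hu1
        · rw [e] at hx; exact key hx
        · rw [e] at hx; exact hx.2
        · rw [e, ← hat.eq, ← hDeq] at hx; exact key hx)
    exact fun x hx => Subgroup.mem_centralizer_singleton_iff.1 (h hx)
  have hAV : A ≤ centralizer (V : Set G) := by
    rcases CfsgLib.Coprime.subnormal_eq_top_or_le_center hqs
      (inferInstance : ((centralizer (V : Set G)).subgroupOf A).Normal).isSubnormal with e | e
    · exact Subgroup.subgroupOf_eq_top.1 e
    have hac : a ∈ centralizer (A : Set G) := Subgroup.mem_centralizer_iff.2 fun q hq =>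
      congrArg Subtype.val (Subgroup.mem_center_iff.1 (e (x := ⟨a, haA⟩) (Subgroup.mem_subgroupOf.2
        (Subgroup.mem_centralizer_iff.2 fun x hx => (hVa x hx).eq))) ⟨q, hq⟩)
    exact fun q hq => Subgroup.mem_centralizer_iff.2 fun x hx =>
      (hD x hx (hCt a hao hac x (hVa x hx)) q hq).eq.symm
  have hXV : X ≤ centralizer (V : Set G) := Subgroup.normalClosure_le_normal hAV
  -- `A` lies in the 2-layer
  have hAL : A ≤ Cfsg.pLayer 2 G := by
    have hcen : centralizer (Subgroup.zpowers t : Set G) = centralizer ({t} : Set G) := by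
      rw [Subgroup.zpowers_eq_closure, Subgroup.centralizer_closure]
    have htp : IsPGroup 2 (Subgroup.zpowers t) :=
      IsPGroup.of_card (n := 1) (by rw [Nat.card_zpowers, ht, pow_one])
    have hbal := CfsgLib.Coprime.lBalance_two (X := G) (Subgroup.zpowers t) htp
    rw [hcen] at hbal
    have hAC : A ≤ centralizer ({t} : Set G) := fun q hq =>
      Subgroup.mem_centralizer_singleton_iff.2 (Subgroup.mem_centralizer_iff.1 htA q hq)
    refine le_trans ?_ hbal
    rw [← Subgroup.map_subgroupOf_eq_of_le hAC]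
    refine Subgroup.map_mono (component_le_pLayer (Cfsg.Agent.S1754.result A hA t ht htA).2 fun h => ?_)
    have h2 := Subgroup.orderOf_dvd_natCard _ (h (x := ⟨a, hAC haA⟩) (Subgroup.mem_subgroupOf.2 haA))
    rw [← Subgroup.orderOf_coe, hao] at h2
    exact Nat.prime_two.ne_one (Nat.eq_one_of_dvd_coprimes (CfsgLib.Coprime.pPrimeCore_coprime Nat.prime_two) h2 dvd_rfl)
  have hXL : X ≤ Cfsg.pLayer 2 G := by
    haveI := CfsgLib.Coprime.pLayer_normal (G := G) (p := 2)
    exact Subgroup.normalClosure_le_normal hAL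
  have hXperf : ⁅X, X⁆ = X := by
    refine le_antisymm (Subgroup.commutator_le_self X) ?_
    haveI : (⁅X, X⁆).Normal := inferInstance
    exact Subgroup.normalClosure_le_normal (hperf.ge.trans (Subgroup.commutator_mono hAX hAX))
  haveI hXn : X.Normal := Subgroup.normalClosure_normal
  set π := QuotientGroup.mk' V with hπ
  haveI : (X.map π).Normal := hXn.map π (QuotientGroup.mk'_surjective _)
  have hYtop : Cfsg.layer ↥(X.map π) = ⊤ := layer_eq_top_of_normal_perfect
    (by rw [← Subgroup.map_commutator, hXperf])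
    ((Subgroup.map_mono hXL).trans CfsgLib.Coprime.map_pLayer.le)
  have hYO : Cfsg.pPrimeCore 2 ↥(X.map π) = ⊥ := by
    refine Subgroup.map_injective (X.map π).subtype_injective ?_
    rw [Subgroup.map_bot, CfsgLib.Coprime.map_pPrimeCore_of_isSubnormal
      (Subgroup.Normal.isSubnormal inferInstance)]
    rw [CfsgLib.Coprime.pPrimeCore_quotient_eq_bot Nat.prime_two, bot_inf_eq]
  let f : ↥X →* ↥(X.map π) := π.subgroupMap X
  have hf : Function.Surjective f := π.subgroupMap_surjective X
  have hcentV : ∀ x : ↥X, (x : G) ∈ V → x ∈ center ↥X := fun x hx => Subgroup.mem_center_iff.2 fun y =>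
    Subtype.ext (Subgroup.mem_centralizer_iff.1 (hXV y.2) _ hx).symm
  have hkerV : ∀ x ∈ f.ker, (x : G) ∈ V := fun x hx =>
    (QuotientGroup.eq_one_iff (x : G)).1 (congrArg Subtype.val (MonoidHom.mem_ker.1 hx))
  have hkodd : ¬ 2 ∣ Nat.card f.ker := fun hd => by
    obtain ⟨k, hk⟩ := exists_prime_orderOf_dvd_card' 2 hd
    have h2 := Subgroup.orderOf_dvd_natCard V (hkerV k k.2)
    rw [Subgroup.orderOf_coe, Subgroup.orderOf_coe, hk] at h2
    exact Nat.prime_two.ne_one (Nat.eq_one_of_dvd_coprimes hVcop h2 dvd_rfl)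
  have hpl : Cfsg.pLayer 2 ↥X = ⊤ := by
    have hm := CfsgLib.Coprime.map_pLayer_of_ker (p := 2) hf hkodd
    rw [CfsgLib.Coprime.pLayer_eq_layer hYO, hYtop] at hm
    have hsup : Cfsg.pLayer 2 ↥X ⊔ f.ker = ⊤ := by rw [← Subgroup.comap_map_eq, hm, Subgroup.comap_top]
    haveI := CfsgLib.Coprime.pLayer_normal (G := ↥X) (p := 2)
    refine eq_top_iff.2 ?_
    have htop : ⁅(⊤ : Subgroup ↥X), (⊤ : Subgroup ↥X)⁆ = (⊤ : Subgroup ↥X) := by
      refine Subgroup.map_injective X.subtype_injective ?_
      rw [Subgroup.map_commutator, ← MonoidHom.range_eq_map, Subgroup.range_subtype, hXperf]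
    rw [← htop, Subgroup.commutator_le]
    intro x _ y _
    obtain ⟨l, hl, k, hk, rfl⟩ := Subgroup.mem_sup_of_normal_right.1 (hsup.ge (Subgroup.mem_top x))
    obtain ⟨l', hl', k', hk', rfl⟩ := Subgroup.mem_sup_of_normal_right.1 (hsup.ge (Subgroup.mem_top y))
    have ck := Subgroup.mem_center_iff.1 (hcentV k (hkerV k hk))
    have ck' := Subgroup.mem_center_iff.1 (hcentV k' (hkerV k' hk'))
    have e : ⁅l * k, l' * k'⁆ = ⁅l, l'⁆ := by
      have e1 : ⁅k, l' * k'⁆ = 1 := commutatorElement_eq_one_iff_commute.2 (Commute.symm (ck _))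
      have e2 : ⁅l, k'⁆ = 1 := commutatorElement_eq_one_iff_commute.2 (ck' _)
      calc ⁅l * k, l' * k'⁆ = l * ⁅k, l' * k'⁆ * l⁻¹ * ⁅l, l' * k'⁆ := by
            simp only [commutatorElement_def]; group
        _ = ⁅l, l'⁆ * (l' * ⁅l, k'⁆ * l'⁻¹) := by
            rw [e1, mul_one, mul_inv_cancel, one_mul]; simp only [commutatorElement_def]; group
        _ = ⁅l, l'⁆ := by rw [e2, mul_one, mul_inv_cancel, mul_one]
    rw [e, commutatorElement_def]
    exact mul_mem (mul_mem (mul_mem hl hl') (inv_mem hl)) (inv_mem hl')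
  have hOX : Cfsg.pPrimeCore 2 ↥X ≤ center ↥X := fun x hx => hcentV x
    ((CfsgLib.Coprime.map_pPrimeCore_of_isSubnormal (p := 2) hXn.isSubnormal).le (Subgroup.mem_map_of_mem _ hx)).1
  refine ⟨eq_top_iff.2 (hpl ▸ sSup_le fun K hK => CfsgLib.Coprime.component_le_layer ⟨hK.1, ?_⟩), ?_⟩
  · have hKp := CfsgLib.Coprime.commutator_self_pComponent hK
    haveI : Group.IsPerfect ↥K := Subgroup.isPerfect_iff.2 hKp
    haveI : Nontrivial ↥K := by
      rw [Subgroup.nontrivial_iff_ne_bot]
      exact fun e => CfsgLib.Coprime.pComponent_not_le_pPrimeCore hK (e ▸ bot_le)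
    set q := QuotientGroup.mk' (Cfsg.pPrimeCore 2 ↥X) with hq
    refine CfsgLib.Coprime.isQuasisimple_of_normal_le_center fun N hN => ?_
    have hNs : (N.map K.subtype).IsSubnormal :=
      (CfsgLib.Coprime.isSubnormal_map_subtype_iff hK.1 N).2 hN.isSubnormal
    rcases CfsgLib.Coprime.eq_or_le_center_of_le_component hK.2.1
      (hNs.map (f := q) (QuotientGroup.mk'_surjective _)) (Subgroup.map_mono (Subgroup.map_subtype_le N)) with e | e
    · left
      have := hK.2.2 _ hNs (Subgroup.map_subtype_le N) e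
      refine Subgroup.map_injective K.subtype_injective ?_
      rw [this, ← MonoidHom.range_eq_map, Subgroup.range_subtype]
    · right
      have hc : ⁅N.map K.subtype, K⁆ = ⊥ := by
        refine CfsgLib.Coprime.commutator_eq_bot_of_perfect hKp ?_
        have h1 : ⁅N.map K.subtype, K⁆ ≤ Cfsg.pPrimeCore 2 ↥X := by
          rw [← QuotientGroup.ker_mk' (Cfsg.pPrimeCore 2 ↥X), ← Subgroup.map_eq_bot_iff, Subgroup.map_commutator,
            Subgroup.commutator_eq_bot_iff_le_centralizer]
          exact CfsgLib.Coprime.subgroupOf_le_center (Subgroup.map_mono (Subgroup.map_subtype_le N)) e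
        rw [Subgroup.commutator_eq_bot_iff_le_centralizer]
        exact fun x hx => Subgroup.mem_centralizer_iff.2 fun y _ => Subgroup.mem_center_iff.1 (hOX (h1 hx)) y
      intro n hn
      refine Subgroup.mem_center_iff.2 fun k => Subtype.ext ?_
      exact Subgroup.mem_centralizer_iff.1
        (Subgroup.commutator_eq_bot_iff_le_centralizer.1 hc (Subgroup.mem_map_of_mem _ hn)) k k.2
  · rw [← Nat.not_even_iff_odd, even_iff_two_dvd]
    intro hd
    obtain ⟨z, hz⟩ := exists_prime_orderOf_dvd_card' 2 hd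
    set z0 : G := ((z : ↥X) : G) with hz0
    have hzo : orderOf z0 = 2 := by rw [hz0, Subgroup.orderOf_coe, Subgroup.orderOf_coe, hz]
    have hzc : ∀ x ∈ X, Commute x z0 := fun x hx =>
      congrArg Subtype.val (Subgroup.mem_center_iff.1 z.2 ⟨x, hx⟩)
    apply hnA
    rw [← Subgroup.normalizer_eq_top_iff, eq_top_iff]
    intro g _
    rw [hNN]
    by_contra hg
    have hodd := htight.2 g hg
    have hmem : z0 ∈ centralizer (A : Set G) ⊓ (centralizer (A : Set G)).map (MulAut.conj g).toMonoidHom := by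
      refine ⟨Subgroup.mem_centralizer_iff.2 fun q hq => (hzc q (hAX hq)).eq, g⁻¹ * z0 * g,
        Subgroup.mem_centralizer_iff.2 fun q hq => ?_, by simp [mul_assoc]⟩
      have := (hzc (g * q * g⁻¹) (hXn.conj_mem q (hAX hq) g)).map (MulAut.conj g⁻¹).toMonoidHom
      simpa [mul_assoc, commute_iff_eq] using this
    have h2 := Subgroup.orderOf_dvd_natCard _ hmem
    rw [hzo] at h2
    exact (Nat.not_even_iff_odd.2 hodd) (even_iff_two_dvd.2 h2)

end Cfsg.Agent.S3164
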