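import Cfsg.Statements.S3166
import Mathlib.Algebra.Ring.GeomSum
import Mathlib.Algebra.BigOperators.Intervals
import Mathlib.Tactic


set_option autoImplicit false
open Cfsg

namespace Cfsg.Agent.S3166

/-- Let q = 2^n with n ≥ 1. If q⁴ − q³ + q² − q + 1 is a power p^m of a prime p, then m = 1: the value is never a prime power with exponent greater than 1. -/
theorem result (n p m : ℕ) (hn : 1 ≤ n) (hp : p.Prime) (h : (2 ^ n) ^ 4 - (2 ^ n) ^ 3 + (2 ^ n) ^ 2 - 2 ^ n + 1 = p ^ m) : m = 1 := by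
  obtain ⟨q, hq⟩ : ∃ q : ℕ, q = 2 ^ n := ⟨_, rfl⟩
  rw [← hq] at h
  have hq2 : 2 ≤ q := by
    rw [hq]; calc 2 = 2 ^ 1 := rfl
      _ ≤ 2 ^ n := Nat.pow_le_pow_right two_pos hn
  have h1 : q ^ 3 ≤ q ^ 4 := Nat.pow_le_pow_right (by omega) (by omega)
  have h2 : q ≤ q ^ 4 - q ^ 3 + q ^ 2 := by
    have := Nat.le_self_pow (n := 2) (by omega) q
    omega
  have hz : (q : ℤ) ^ 4 - (q : ℤ) ^ 3 + (q : ℤ) ^ 2 - q + 1 = (p : ℤ) ^ m := by
    have h' := congrArg (Nat.cast (R := ℤ)) h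
    push_cast [Nat.cast_sub h1, Nat.cast_sub h2] at h'
    exact h'
  have hqz : (2 : ℤ) ≤ q := by exact_mod_cast hq2
  rcases Nat.even_or_odd m with ⟨k, hk⟩ | hmo
  · exfalso
    rw [hk, ← two_mul, mul_comm, pow_mul] at hz
    generalize (p : ℤ) ^ k = s at hz
    have hlt : (2 * (q : ℤ) ^ 2 - q) ^ 2 < (2 * s) ^ 2 := by nlinarith
    have hlt' : (2 * s) ^ 2 < (2 * (q : ℤ) ^ 2 - q + 1) ^ 2 := by nlinarith
    have hpos : (0 : ℤ) ≤ 2 * (q : ℤ) ^ 2 - q := by nlinarith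
    rw [sq_lt_sq, abs_of_nonneg hpos] at hlt
    rw [sq_lt_sq, abs_of_nonneg (by omega : (0 : ℤ) ≤ 2 * (q : ℤ) ^ 2 - q + 1)] at hlt'
    omega
  have hp2 : (2 : ℤ) ≤ p := by exact_mod_cast hp.two_le
  have hdvd : (q : ℤ) ∣ (p : ℤ) - 1 := by
    have h3 : (q : ℤ) ∣ (∑ i ∈ Finset.range m, (p : ℤ) ^ i) * ((p : ℤ) - 1) := by
      rw [geom_sum_mul, ← hz]
      exact ⟨(q : ℤ) ^ 3 - (q : ℤ) ^ 2 + q - 1, by ring⟩
    have hpodd : ¬ (2 : ℤ) ∣ (p : ℤ) ^ m := by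
      rw [← hz]
      intro hd
      have hq' : (2 : ℤ) ∣ q := by
        rw [hq]; push_cast; exact dvd_pow_self 2 (by omega)
      have h5 : (2 : ℤ) ∣ (q : ℤ) ^ 4 - (q : ℤ) ^ 3 + (q : ℤ) ^ 2 - q := by
        have : (2 : ℤ) ∣ (q : ℤ) * ((q : ℤ) ^ 3 - (q : ℤ) ^ 2 + q - 1) := hq'.mul_right _
        rwa [show (q : ℤ) * ((q : ℤ) ^ 3 - (q : ℤ) ^ 2 + q - 1) =
          (q : ℤ) ^ 4 - (q : ℤ) ^ 3 + (q : ℤ) ^ 2 - q by ring] at this
      have h6 := (dvd_add_right h5).1 hd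
      omega
    have hp1 : (p : ℤ) % 2 = 1 := by
      rcases Int.emod_two_eq_zero_or_one (p : ℤ) with h0 | h0
      · exact absurd (dvd_pow (Int.dvd_of_emod_eq_zero h0) hmo.pos.ne') hpodd
      · exact h0
    have hsum : (∑ i ∈ Finset.range m, (p : ℤ) ^ i) % 2 = 1 := by
      rw [Finset.sum_int_mod]
      have : ∀ i ∈ Finset.range m, (p : ℤ) ^ i % 2 = 1 := fun i _ => by
        exact Int.odd_iff.1 ((Int.odd_iff.2 hp1).pow)
      rw [Finset.sum_congr rfl this, Finset.sum_const, Finset.card_range, nsmul_one]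
      obtain ⟨k, hk⟩ := hmo
      rw [hk]; push_cast; omega
    refine IsCoprime.dvd_of_dvd_mul_left ?_ h3
    rw [hq]; push_cast
    refine IsCoprime.pow_left ?_
    generalize (∑ i ∈ Finset.range m, (p : ℤ) ^ i) = s at hsum ⊢
    exact ⟨-(s / 2), 1, by omega⟩
  obtain ⟨a, ha⟩ := hdvd
  have ha1 : 1 ≤ a := by
    by_contra hc
    have : (q : ℤ) * a ≤ 0 := mul_nonpos_of_nonneg_of_nonpos (by omega) (by omega)
    omega
  have hm4 : m < 4 := by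
    by_contra hc
    have h7 : (q : ℤ) < p := by nlinarith
    have h8 : (q : ℤ) ^ 4 < (p : ℤ) ^ 4 := by gcongr
    have h9 : (p : ℤ) ^ 4 ≤ (p : ℤ) ^ m := pow_le_pow_right₀ (by omega) (by omega)
    nlinarith
  obtain ⟨k, hk⟩ := hmo
  rcases (by omega : k = 0 ∨ k = 1) with rfl | rfl
  · omega
  exfalso
  rw [hk, show (p : ℤ) = 1 + q * a by omega] at hz
  have e1 : (q : ℤ) * (3 * a + 3 * q * a ^ 2 + (q : ℤ) ^ 2 * a ^ 3 - (-1 + q - (q : ℤ) ^ 2 + (q : ℤ) ^ 3)) = 0 := by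
    linear_combination (-1 : ℤ) * hz
  have e2 := (mul_eq_zero.1 e1).resolve_left (by omega)
  have hq0 : (0 : ℤ) < (q : ℤ) ^ 2 := by positivity
  have hcube : a ^ 3 < q := by
    by_contra hc
    have h1 : (q : ℤ) ^ 2 * q ≤ (q : ℤ) ^ 2 * a ^ 3 := mul_le_mul_of_nonneg_left (by omega) hq0.le
    nlinarith
  have hdiv : (q : ℤ) ≤ 3 * a + 1 := Int.le_of_dvd (by omega)
    ⟨1 - q + (q : ℤ) ^ 2 - 3 * a ^ 2 - q * a ^ 3, by linear_combination e2⟩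
  have ha' : a = 1 := by
    by_contra hc
    have h2a : 2 ≤ a := by omega
    have h4 : 4 * a ≤ a ^ 3 := by nlinarith
    omega
  subst ha'
  rcases (by omega : (q : ℤ) = 2 ∨ (q : ℤ) = 3 ∨ (q : ℤ) = 4) with h' | h' | h' <;>
    rw [h'] at e2 <;> norm_num at e2

end Cfsg.Agent.S3166
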