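import Cfsg.Statements.S3174
import Cfsg.Agent.Lib.PGroup.RudvalisType.Claim

set_option autoImplicit false
open Cfsg

namespace Cfsg.Agent.S3174

/-- Let T be a finite 2-group of order at least 2^14 in which the fourth term of the upper central series has order 16. Let W be the centralizer in T of the third term Z₃(T), and suppose the Frattini subgroup of W has order at most 8 and lies in every subgroup of W of index at most 16. Then T has order exactly 2^14; the derived subgroup of W and the Frattini subgroup of W both equal Z₃(T), which is elementary abelian of order 8; the centre of W has order 8; W is normal in T with quotient dihedral of order 8; and W modulo its derived subgroup is elementary abelian of order 2^8. -/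
theorem result {T : Type*} [Group T] [Finite T]
    (hT : IsPGroup 2 T) (ha : 2 ^ 14 ≤ Nat.card T) (hb : Nat.card ↥(Subgroup.upperCentralSeries T 4) = 16)
    (W : Subgroup T) (hW : W = Subgroup.centralizer ((Subgroup.upperCentralSeries T 3 : Subgroup T) : Set T))
    (hc : Nat.card ↥(frattini ↥W) ≤ 8) (hd : ∀ U : Subgroup ↥W, U.index ≤ 16 → frattini ↥W ≤ U) :
    Nat.card T = 2 ^ 14 ∧
      (commutator ↥W).map W.subtype = Subgroup.upperCentralSeries T 3 ∧
      (frattini ↥W).map W.subtype = Subgroup.upperCentralSeries T 3 ∧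
      Nat.card ↥(Subgroup.center ↥W) = 8 ∧
      Nat.card ↥(Subgroup.upperCentralSeries T 3) = 8 ∧ (∀ z ∈ Subgroup.upperCentralSeries T 3, z ^ 2 = 1) ∧
      (∃ (_ : W.Normal), Nonempty (T ⧸ W ≃* DihedralGroup 4)) ∧
      Nat.card (↥W ⧸ commutator ↥W) = 2 ^ 8 ∧ (∀ x : ↥W ⧸ commutator ↥W, x ^ 2 = 1) := by
  subst hW
  have H : CfsgLib.PGroup.RudvalisType.Hyp T := ⟨hT, ha, hb, hc, hd⟩
  obtain ⟨h1, hi, h11, hF, -⟩ := H.main_bound
  obtain ⟨f, hf, hker⟩ := H.quotient_dihedral
  have hcm := H.commutator_eq
  have hcard3 : Nat.card ↥(Subgroup.upperCentralSeries T 3) = 8 := H.card_Z (by norm_num)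
  refine ⟨h1, hcm, hF, ?_, hcard3, fun z hz => by rw [sq]; exact H.Z3_sq hz, ⟨inferInstance, ?_⟩, ?_, ?_⟩
  · rw [← Subgroup.card_map_of_injective (Subgroup.subtype_injective _), H.center_eq]
    exact hcard3
  · exact ⟨(QuotientGroup.quotientMulEquivOfEq hker.symm).trans (QuotientGroup.quotientKerEquivOfSurjective f hf)⟩
  · have h2 := Subgroup.index_mul_card (commutator ↥(CfsgLib.PGroup.RudvalisType.W T))
    rw [← Subgroup.card_map_of_injective (Subgroup.subtype_injective _)
      (K := commutator ↥(CfsgLib.PGroup.RudvalisType.W T)), hcm, H.card_Z (by norm_num), h11] at h2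
    show (commutator ↥(CfsgLib.PGroup.RudvalisType.W T)).index = 2 ^ 8
    omega
  · intro x
    induction x using QuotientGroup.induction_on with
    | _ u =>
      rw [← QuotientGroup.mk_pow, QuotientGroup.eq_one_iff, sq]
      obtain ⟨v, hv, e⟩ := hcm.ge (H.sq_mem u)
      rwa [show u * u = v from Subtype.ext e.symm]

end Cfsg.Agent.S3174
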