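import Cfsg.Statements.S3175
import Cfsg.Agent.Lib.PGroup.RudvalisType.Weak
import Mathlib.GroupTheory.SchurZassenhaus

set_option autoImplicit false
open Cfsg

namespace Cfsg.Agent.S3175

/-- Let G be a finite group whose Sylow 2-subgroup T has order at least 2^14 and whose upper central series has fourth term of order 16; let W be the centralizer in T of the third term, and suppose the Frattini subgroup of W has order at most 8 and lies in every subgroup of W of index at most 16. Then the normalizer of T in G has a normal 2-complement, and W is weakly closed in T with respect to G. -/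
theorem result {G : Type*} [Group G] [Finite G]
    (T : Sylow 2 G) (ha : 2 ^ 14 ≤ Nat.card ↥(T : Subgroup G))
    (hb : Nat.card ↥(Subgroup.upperCentralSeries ↥(T : Subgroup G) 4) = 16)
    (W : Subgroup ↥(T : Subgroup G))
    (hW : W = Subgroup.centralizer ((Subgroup.upperCentralSeries ↥(T : Subgroup G) 3 : Subgroup ↥(T : Subgroup G)) : Set ↥(T : Subgroup G)))
    (hc : Nat.card ↥(frattini ↥W) ≤ 8)
    (hd : ∀ U : Subgroup ↥W, U.index ≤ 16 → frattini ↥W ≤ U) :
    Cfsg.HasNormalPComplement 2 ↥(Subgroup.normalizer ((T : Subgroup G) : Set G)) ∧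
      Cfsg.IsWeaklyClosed (W.map (T : Subgroup G).subtype) (T : Subgroup G) := by
  classical
  haveI : Fact (Nat.Prime 2) := ⟨Nat.prime_two⟩
  subst hW
  have H : CfsgLib.PGroup.RudvalisType.Hyp ↥(T : Subgroup G) := ⟨T.isPGroup', ha, hb, hc, hd⟩
  obtain ⟨-, -, h11, hF, -⟩ := H.main_bound
  refine ⟨?_, Subgroup.map_subtype_le _, fun g hg => ?_⟩
  · -- odd elements centralise
    obtain ⟨N, hNdef⟩ : ∃ N, N = Subgroup.normalizer ((T : Subgroup G) : Set G) := ⟨_, rfl⟩
    rw [← hNdef]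
    have hTN : (T : Subgroup G) ≤ N := hNdef ▸ Subgroup.le_normalizer
    let T' : Sylow 2 ↥N := T.subtype hTN
    haveI hT'n : (T' : Subgroup ↥N).Normal := by
      subst hNdef
      exact Subgroup.normal_in_normalizer
    obtain ⟨K, hK⟩ := Subgroup.exists_left_complement'_of_coprime (N := (T' : Subgroup ↥N)) T'.card_coprime_index
    refine ⟨T', K, ?_, hK⟩
    have hKodd : Odd (Nat.card K) := by
      rw [← hK.index_eq_card]
      exact Nat.odd_iff.2 (Nat.two_dvd_ne_zero.1 T'.not_dvd_index)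
    have hcomm : ∀ k ∈ K, ∀ t ∈ (T' : Subgroup ↥N), k * t * k⁻¹ = t := by
      intro k hk t ht
      have hmem : (k : G) ∈ Subgroup.normalizer ((T : Subgroup G) : Set G) := hNdef ▸ k.2
      let α : MulAut ↥(T : Subgroup G) := (T : Subgroup G).normalizerMonoidHom ⟨(k : G), hmem⟩
      have hα : α ^ Nat.card K = 1 := by
        rw [← map_pow]
        refine (congrArg _ (Subtype.ext ?_)).trans (map_one _)
        show (k : G) ^ Nat.card K = 1
        exact congrArg (fun a : ↥N => (a : G)) (congrArg Subtype.val (pow_card_eq_one' (x := (⟨k, hk⟩ : K))))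
      have h := H.aut_trivial α hKodd hα
      have h2 : α ⟨(t : G), ht⟩ = ⟨(t : G), ht⟩ := by rw [h]; rfl
      exact Subtype.ext (congrArg Subtype.val h2 : (k : G) * (t : G) * (k : G)⁻¹ = (t : G))
    refine ⟨fun k hk n => ?_⟩
    obtain ⟨⟨⟨a, ha'⟩, ⟨b, hb'⟩⟩, rfl⟩ := hK.2 n
    have h1 : b * k * b⁻¹ = k := by
      have h2 := hcomm k hk b hb'
      rw [mul_inv_eq_iff_eq_mul] at h2
      rw [← h2, mul_inv_cancel_right]
    show a * b * k * (a * b)⁻¹ ∈ K
    rw [show a * b * k * (a * b)⁻¹ = a * (b * k * b⁻¹) * a⁻¹ by group, h1]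
    exact mul_mem (mul_mem ha' hk) (inv_mem ha')
  · -- weak closure
    have hle : ∀ u : ↥(CfsgLib.PGroup.RudvalisType.W ↥(T : Subgroup G)),
        g * ((u : ↥(T : Subgroup G)) : G) * g⁻¹ ∈ (T : Subgroup G) := fun u => hg ⟨_, ⟨_, u.2, rfl⟩, rfl⟩
    let ι : ↥(CfsgLib.PGroup.RudvalisType.W ↥(T : Subgroup G)) →* ↥(T : Subgroup G) :=
      MonoidHom.mk' (fun u => ⟨_, hle u⟩) fun a b => Subtype.ext (by simp [mul_assoc])
    have hι : Function.Injective ι := fun a b h => Subtype.ext (Subtype.ext (by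
      have := congrArg Subtype.val h
      simpa [ι] using this))
    obtain ⟨Y, hY⟩ : ∃ Y, Y = (frattini ↥(CfsgLib.PGroup.RudvalisType.W ↥(T : Subgroup G))).map ι := ⟨_, rfl⟩
    have heq : ι.range = CfsgLib.PGroup.RudvalisType.W ↥(T : Subgroup G) := by
      refine H.eq_W ι.range Y ?_ ?_ ?_ ?_ ?_
      · rw [← Nat.card_congr (MonoidHom.ofInjective hι).toEquiv]
        exact h11
      · rw [hY, Subgroup.card_map_of_injective hι]
        exact hc
      · rw [hY]
        rintro _ ⟨z, hz, rfl⟩ _ ⟨u, rfl⟩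
        rw [← map_mul, ← map_mul]
        refine congrArg _ (Subtype.ext ?_)
        exact (H.Z3_comm (H.frattini_le z hz) u.2).eq
      · rw [hY]
        rintro _ ⟨u, rfl⟩
        exact ⟨_, H.sq_frattini u, map_mul ι u u⟩
      · rw [hY]
        rintro _ ⟨u, rfl⟩ _ ⟨v, rfl⟩
        exact ⟨_, H.cm_frattini u v, map_commutatorElement ι u v⟩
    ext a
    constructor
    · rintro ⟨_, ⟨u, hu, rfl⟩, rfl⟩
      exact ⟨ι ⟨u, hu⟩, heq.le ⟨_, rfl⟩, rfl⟩
    · rintro ⟨u, hu, rfl⟩
      obtain ⟨v, rfl⟩ := heq.ge hu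
      exact ⟨_, ⟨_, v.2, rfl⟩, rfl⟩

end Cfsg.Agent.S3175
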