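import Cfsg.Statements.S3178
import Cfsg.Agent.Lib.Fusion.PComplement
import Cfsg.Agent.Lib.Invol.CyclicIndexTwo
import Cfsg.Agent.Lib.Invol.DihedralSubgroup
import Cfsg.Agent.Lib.Coprime.Action


set_option autoImplicit false
open Cfsg

namespace Cfsg.Agent.S3178

open CfsgLib.Invol

theorem iterate_fix {H : Type*} [Group H] (σ : MulAut H) {x k : H} (hx : σ x = x * k) (hk : σ k = k) :
    ∀ i : ℕ, (σ ^ i) x = x * k ^ i := by
  intro i
  induction i with
  | zero => simp
  | succ i ih =>
    rw [pow_succ', MulAut.mul_apply, ih, map_mul, map_pow, hx, hk, pow_succ' k, mul_assoc]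

/-- An odd automorphism of an abelian 2-group fixing its involutions is trivial. -/
theorem aut_fix_of_fix_omega {H : Type*} [Group H] [Finite H] (hH : IsPGroup 2 H)
    (hc : ∀ x y : H, x * y = y * x) (σ : MulAut H) {m : ℕ} (hm : Odd m) (hσ : σ ^ m = 1)
    (h : ∀ x : H, x ^ 2 = 1 → σ x = x) : σ = 1 := by
  have key : ∀ (j : ℕ) (x : H), x ^ 2 ^ j = 1 → σ x = x := by
    intro j
    induction j with
    | zero => intro x hx; rw [pow_zero, pow_one] at hx; rw [hx, map_one]
    | succ j ih =>
      intro x hx
      have h2 : σ (x ^ 2) = x ^ 2 := ih _ (by rw [← pow_mul, ← pow_succ']; exact hx)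
      have hk2 : (x⁻¹ * σ x) ^ 2 = 1 := by
        rw [(show Commute x⁻¹ (σ x) from hc _ _).mul_pow, ← map_pow, h2, inv_pow, inv_mul_cancel]
      have hit := iterate_fix σ (x := x) (k := x⁻¹ * σ x) (by rw [mul_inv_cancel_left]) (h _ hk2) m
      rw [hσ, MulAut.one_apply, left_eq_mul] at hit
      obtain ⟨l, rfl⟩ := hm
      rw [pow_succ, pow_mul, hk2, one_pow, one_mul, inv_mul_eq_one] at hit
      exact hit.symm
  ext x
  obtain ⟨j, hj⟩ := hH x
  exact key j x hj

theorem locally {G : Type*} [Group G] [Finite G] {n : ℕ} (hn : 3 ≤ n) (S : Sylow 2 G)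
    {A B : (S : Subgroup G)} (F : CyclicFrame (2 ^ n) ((2 : ℤ) ^ (n - 1) + 1) 0 A B) :
    CfsgLib.Fusion.LocallyPNilpotentAction 2 (S : Subgroup G) := by
  haveI : Fact (Nat.Prime 2) := ⟨Nat.prime_two⟩
  set m : ℤ := 2 ^ (n - 1) with hm
  have h2m : 2 * m = (2 : ℤ) ^ n := by rw [hm, ← pow_succ', Nat.sub_add_cancel (by omega)]
  have hN : (((2 ^ n : ℕ) : ℤ)) = 2 * m := by rw [h2m]; push_cast; rfl
  obtain ⟨m', hm'⟩ : ∃ m', m = 4 * m' := ⟨2 ^ (n - 3), by
    rw [hm, show (4 : ℤ) = 2 ^ 2 by norm_num, ← pow_add]; congr 1; omega⟩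
  set z := A ^ m with hz
  have hz1 : z ≠ 1 := fun h => by
    rw [hz, F.zpow_eq_one_iff, hN] at h
    have hpos : 0 < m := by rw [hm]; positivity
    have := Int.le_of_dvd hpos h
    omega
  -- squares lie in `⟨A²⟩`
  have hsq : ∀ w : (S : Subgroup G), ∃ i : ℤ, w ^ 2 = A ^ (2 * i) := by
    intro w
    obtain ⟨i, rfl | rfl⟩ := F.exists_eq w
    · exact ⟨i, by rw [← zpow_natCast, ← zpow_mul]; congr 1; ring⟩
    · exact ⟨(2 * m' + 1) * i, by rw [F.ref_sq]; congr 1; rw [hm']; ring⟩
  have hom : ∀ w : (S : Subgroup G), w ^ 2 = 1 → w = 1 ∨ w = z ∨ w = B ∨ w = z * B := by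
    intro w hw
    have half : ∀ i : ℤ, m ∣ i → A ^ i = 1 ∨ A ^ i = z := by
      rintro i ⟨l, rfl⟩
      rcases Int.even_or_odd' l with ⟨q, rfl | rfl⟩
      · exact Or.inl (F.zpow_eq_one_iff.2 ⟨q, by rw [hN]; ring⟩)
      · refine Or.inr (F.zpow_eq_iff.2 ?_)
        rw [ZMod.intCast_eq_intCast_iff_dvd_sub, hN]
        exact ⟨-q, by ring⟩
    obtain ⟨i, rfl | rfl⟩ := F.exists_eq w
    · rw [← zpow_natCast, ← zpow_mul, F.zpow_eq_one_iff, hN] at hw
      have hmi : m ∣ i := by
        push_cast at hw
        rw [mul_comm i] at hw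
        exact (mul_dvd_mul_iff_left two_ne_zero).1 hw
      rcases half i hmi with h | h
      · exact Or.inl h
      · exact Or.inr (Or.inl h)
    · rw [F.ref_sq, F.zpow_eq_one_iff, hN, hm'] at hw
      have hmi : m ∣ i := by
        have h1 : (4 * m' : ℤ) ∣ (2 * m' + 1) * i := by
          refine (mul_dvd_mul_iff_left (two_ne_zero (α := ℤ))).1 ?_
          rw [show 2 * ((2 * m' + 1) * i) = (1 + (4 * m' + 1)) * i + 0 by ring]
          exact hw
        rw [← hm'] at h1
        refine IsCoprime.dvd_of_dvd_mul_left ?_ h1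
        rw [hm]
        refine IsCoprime.pow_left ⟨-m', 1, by ring⟩
      rcases half i hmi with h | h
      · exact Or.inr (Or.inr (Or.inl (by rw [h, one_mul])))
      · exact Or.inr (Or.inr (Or.inr (by rw [h])))
  have hzB : z * B = B * z := by
    rw [hz, F.b_mul_zpow]
    congr 1
    rw [F.zpow_eq_iff, ZMod.intCast_eq_intCast_iff_dvd_sub, hN, hm']
    exact ⟨2 * m', by ring⟩
  have hzA : z * A = A * z := by rw [hz]; exact ((Commute.refl A).zpow_left m).eq
  have hz2 : z ^ 2 = 1 := by
    rw [hz, ← zpow_natCast, ← zpow_mul, F.zpow_eq_one_iff, hN]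
    exact ⟨1, by push_cast; ring⟩
  have hB2 : B ^ 2 = 1 := by rw [pow_two, F.sq, zpow_zero]
  have hzc : ∀ w : (S : Subgroup G), Commute z w := by
    intro w
    obtain ⟨i, rfl | rfl⟩ := F.exists_eq w
    · exact (show Commute z A from hzA).zpow_right i
    · exact ((show Commute z A from hzA).zpow_right i).mul_right hzB
  -- a square which is an involution equals `z`
  have hsqz : ∀ w : (S : Subgroup G), w ^ 2 ≠ 1 → (w ^ 2) ^ 2 = 1 → w ^ 2 = z := by
    intro w hw hw2
    obtain ⟨i, hi⟩ := hsq w
    rcases hom _ hw2 with h | h | h | h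
    · exact absurd h hw
    · exact h
    · exfalso
      rw [hi] at h
      exact F.zpow_ne_mul (2 * i) 0 (by rw [zpow_zero, one_mul]; exact h)
    · exfalso
      rw [hi] at h
      exact F.zpow_ne_mul _ _ h
  -- normalizers of non-elementary subgroups fix `z`
  have hfix : ∀ (Q : Subgroup G), Q ≤ (S : Subgroup G) → (∃ q ∈ Q, q ^ 2 ≠ 1) →
      ∀ g ∈ Subgroup.normalizer (Q : Set G), g * (z : G) * g⁻¹ = z := by
    rintro Q hQ ⟨q, hq, hq2⟩ g hg
    obtain ⟨j, hj⟩ := S.2 ⟨q, hQ hq⟩
    have hj' : q ^ 2 ^ j = 1 := by simpa using congrArg Subtype.val hj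
    obtain ⟨i, -, hi⟩ := (Nat.dvd_prime_pow Nat.prime_two).1 (orderOf_dvd_of_pow_eq_one hj')
    have hi2 : 2 ≤ i := by
      by_contra h
      exact hq2 (orderOf_dvd_iff_pow_eq_one.1 (hi ▸ (pow_dvd_pow 2 (show i ≤ 1 by omega)).trans (by norm_num)))
    set y := q ^ 2 ^ (i - 2) with hy
    have hyQ : y ∈ Q := pow_mem hq _
    have hyo : orderOf y = 4 := by
      rw [hy, orderOf_pow, hi, Nat.gcd_eq_right (pow_dvd_pow 2 (Nat.sub_le _ _)),
        Nat.pow_div (Nat.sub_le _ _) two_pos, show i - (i - 2) = 2 by omega]
      norm_num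
    have hy2 : y ^ 2 = (z : G) := by
      have h := hsqz ⟨y, hQ hyQ⟩ (fun h => by
        have h' : y ^ 2 = 1 := by simpa using congrArg Subtype.val h
        have := orderOf_dvd_of_pow_eq_one h'
        rw [hyo] at this; norm_num at this) (Subtype.ext (by
          show (y ^ 2) ^ 2 = 1
          rw [← pow_mul, ← pow_orderOf_eq_one y, hyo]))
      simpa using congrArg Subtype.val h
    have hgy : g * y * g⁻¹ ∈ Q := (Subgroup.mem_normalizer_iff.1 hg y).1 hyQ
    have hgyo : orderOf (g * y * g⁻¹) = 4 := by
      rw [show g * y * g⁻¹ = MulAut.conj g y from rfl, MulEquiv.orderOf_eq, hyo]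
    have h := hsqz ⟨_, hQ hgy⟩ (fun h => by
      have h' : (g * y * g⁻¹) ^ 2 = 1 := by simpa using congrArg Subtype.val h
      have := orderOf_dvd_of_pow_eq_one h'
      rw [hgyo] at this; norm_num at this) (Subtype.ext (by
        show ((g * y * g⁻¹) ^ 2) ^ 2 = 1
        rw [← pow_mul, ← pow_orderOf_eq_one (g * y * g⁻¹), hgyo]))
    have h' : (g * y * g⁻¹) ^ 2 = (z : G) := by simpa using congrArg Subtype.val h
    rw [conj_pow, hy2] at h'
    exact h'
  -- `V = Ω₁((S : Subgroup G))` and its centralizer
  have hVsq : ∀ w, (w = 1 ∨ w = z ∨ w = B ∨ w = z * B) → w ^ 2 = 1 := by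
    intro w hw
    rcases hw with h | h | h | h <;> rw [h]
    · exact one_pow 2
    · exact hz2
    · exact hB2
    · rw [(show Commute z B from hzB).mul_pow, hz2, hB2, one_mul]
  have hVB : ∀ w, (w = 1 ∨ w = z ∨ w = B ∨ w = z * B) → Commute w B := by
    intro w hw
    rcases hw with h | h | h | h <;> rw [h]
    · exact Commute.one_left _
    · exact hzB
    · exact (hzc B).mul_left (Commute.refl B)
  have hVc : ∀ x y, (x = 1 ∨ x = z ∨ x = B ∨ x = z * B) → (y = 1 ∨ y = z ∨ y = B ∨ y = z * B) →
      Commute x y := by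
    intro x y hx hy
    rcases hy with h | h | h | h <;> rw [h]
    · exact Commute.one_right x
    · exact (hzc x).symm
    · exact hVB x hx
    · exact (hzc x).symm.mul_right (hVB x hx)
  let V : Subgroup (S : Subgroup G) :=
    { carrier := {w | w = 1 ∨ w = z ∨ w = B ∨ w = z * B}
      one_mem' := Or.inl rfl
      mul_mem' := fun {x y} hx hy => hom (x * y) (by
        rw [(hVc x y hx hy).mul_pow, hVsq x hx, hVsq y hy, one_mul])
      inv_mem' := fun {x} hx => hom x⁻¹ (by rw [inv_pow, hVsq x hx, inv_one]) }
  have hBi : B ∈ V := Or.inr (Or.inr (Or.inl rfl))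
  let D : Subgroup (S : Subgroup G) := Subgroup.centralizer ({B} : Set (S : Subgroup G))
  have hDform : ∀ w, w ∈ D → ∃ i : ℤ, w = A ^ (2 * i) ∨ w = A ^ (2 * i) * B := by
    intro w hw
    have hw' : w * B = B * w := Subgroup.mem_centralizer_singleton_iff.1 hw
    have heven : ∀ i : ℤ, A ^ i * B = B * A ^ i → ∃ q, i = 2 * q := by
      intro i h
      rw [F.b_mul_zpow, F.mul_b_eq_iff, ZMod.intCast_eq_intCast_iff_dvd_sub, hN] at h
      rw [show ((2 : ℤ) ^ (n - 1) + 1) * i - i = m * i by rw [hm]; ring, mul_comm 2 m] at h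
      exact (mul_dvd_mul_iff_left (by rw [hm]; positivity)).1 h
    obtain ⟨i, rfl | rfl⟩ := F.exists_eq w
    · obtain ⟨q, rfl⟩ := heven i hw'
      exact ⟨q, Or.inl rfl⟩
    · obtain ⟨q, rfl⟩ := heven i (mul_right_cancel (hw'.trans (mul_assoc B _ B).symm))
      exact ⟨q, Or.inr rfl⟩
  have hDc : ∀ x ∈ D, ∀ y ∈ D, x * y = y * x := by
    intro x hx y hy
    have hA2 : ∀ i : ℤ, Commute (A ^ (2 * i)) B := fun i => by
      show A ^ (2 * i) * B = B * A ^ (2 * i)
      rw [F.b_mul_zpow, F.mul_b_eq_iff, ZMod.intCast_eq_intCast_iff_dvd_sub, hN]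
      exact ⟨i, by rw [hm]; ring⟩
    obtain ⟨i, hi⟩ := hDform x hx
    obtain ⟨j, hj⟩ := hDform y hy
    have hAA : Commute (A ^ (2 * i)) (A ^ (2 * j)) := (Commute.refl A).zpow_zpow _ _
    rcases hi with rfl | rfl <;> rcases hj with rfl | rfl
    · exact hAA.eq
    · exact (hAA.mul_right (hA2 i)).eq
    · exact (hAA.mul_left (hA2 j).symm).eq
    · exact ((hAA.mul_right (hA2 i)).mul_left ((hA2 j).symm.mul_right (Commute.refl B))).eq
  -- normalizers of `V` fix `z`
  set V' := V.map (S : Subgroup G).subtype with hV'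
  have hfixV : ∀ g ∈ Subgroup.normalizer (V' : Set G), g * (z : G) * g⁻¹ = z := by
    intro g hg
    set N := Subgroup.normalizer (V' : Set G)
    let C : Subgroup N := (Subgroup.centralizer (V' : Set G)).subgroupOf N
    haveI : C.Normal := inferInstance
    have hPN : (S : Subgroup G) ≤ N := by
      intro w hw
      refine Subgroup.mem_normalizer_iff.2 fun x => ?_
      constructor
      · rintro ⟨v, hv, rfl⟩
        refine ⟨⟨w, hw⟩ * v * ⟨w, hw⟩⁻¹, hom _ ?_, rfl⟩
        rw [conj_pow]
        simp [hVsq v hv]
      · rintro ⟨v, hv, hv'⟩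
        refine ⟨⟨w, hw⟩⁻¹ * v * ⟨w, hw⟩, hom _ ?_, ?_⟩
        · have hcp : (⟨w, hw⟩⁻¹ * v * ⟨w, hw⟩ : (S : Subgroup G)) ^ 2 = ⟨w, hw⟩⁻¹ * v ^ 2 * ⟨w, hw⟩ := by
            have := conj_pow (i := 2) (a := (⟨w, hw⟩ : (S : Subgroup G))⁻¹) (b := v)
            rwa [inv_inv] at this
          rw [hcp]
          simp [hVsq v hv]
        · show w⁻¹ * (v : G) * w = x
          rw [show (v : G) = w * x * w⁻¹ from hv']; group
    let SN : Sylow 2 N := S.subtype hPN
    obtain ⟨T, hT⟩ : ∃ T : Sylow 2 C, (T : Subgroup C) = (SN : Subgroup N).subgroupOf C :=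
      ⟨((SN.2.comap_subtype).toSylow (by
        have := CfsgLib.Fusion.not_dvd_relIndex_inf_of_normal SN C
        rwa [Subgroup.inf_relIndex_right] at this)), rfl⟩
    have hmem := Sylow.normalizer_sup_eq_top T ▸ Subgroup.mem_top (⟨g, hg⟩ : N)
    obtain ⟨u, hu, c, hc, huc⟩ := Subgroup.mem_sup_of_normal_right.1 hmem
    have hcz : (c : G) * (z : G) * (c : G)⁻¹ = z := by
      have h := Subgroup.mem_centralizer_iff.1 (show (c : G) ∈ Subgroup.centralizer (V' : Set G) from hc)
        (z : G) ⟨z, Or.inr (Or.inl rfl), rfl⟩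
      rw [← h, mul_inv_cancel_right]
    let Q : Subgroup G := ((T : Subgroup C).map C.subtype).map N.subtype
    have hQu : (u : G) ∈ Subgroup.normalizer (Q : Set G) :=
      Subgroup.le_normalizer_map N.subtype (Subgroup.mem_map_of_mem N.subtype hu)
    have hmemT : ∀ q : (S : Subgroup G), q ∈ D → (q : G) ∈ Q := by
      intro q hq
      have hqC : (q : G) ∈ Subgroup.centralizer (V' : Set G) := by
        refine Subgroup.mem_centralizer_iff.2 ?_
        rintro _ ⟨v, hv, rfl⟩
        have hqB : Commute q B := Subgroup.mem_centralizer_singleton_iff.1 hq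
        have : Commute v q := by
          rcases hv with h | h | h | h <;> rw [h]
          · exact Commute.one_left q
          · exact hzc q
          · exact hqB.symm
          · exact (hzc q).mul_left hqB.symm
        exact congrArg Subtype.val this.eq
      refine ⟨⟨q, hPN q.2⟩, ⟨⟨⟨q, hPN q.2⟩, hqC⟩, ?_, rfl⟩, rfl⟩
      rw [hT]
      exact q.2
    have hQle : Q ≤ (S : Subgroup G) := by
      rintro _ ⟨_, ⟨x, hx, rfl⟩, rfl⟩
      rw [hT] at hx
      exact hx
    have hD4 : ∃ q ∈ Q, q ^ 2 ≠ 1 := by
      refine ⟨((A ^ (2 : ℤ) : (S : Subgroup G)) : G), hmemT _ (Subgroup.mem_centralizer_singleton_iff.2 ?_), fun h => ?_⟩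
      · rw [F.b_mul_zpow, F.mul_b_eq_iff, ZMod.intCast_eq_intCast_iff_dvd_sub, hN]
        exact ⟨1, by rw [hm]; ring⟩
      · have h' : (A ^ (2 : ℤ)) ^ 2 = 1 := Subtype.ext (by simpa using h)
        rw [← zpow_natCast, ← zpow_mul, F.zpow_eq_one_iff, hN] at h'
        have h2 := Int.le_of_dvd (by norm_num) h'
        have hpos : 0 < m := by rw [hm]; positivity
        norm_num at h2
        omega
    have h := hfix Q hQle hD4 u hQu
    have hg' : g = (u : G) * c := (congrArg Subtype.val huc).symm
    rw [hg', mul_inv_rev, show (u : G) * c * z * ((c : G)⁻¹ * (u : G)⁻¹) =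
      u * ((c : G) * z * (c : G)⁻¹) * (u : G)⁻¹ by group, hcz, h]
  -- the local condition
  intro Q hQ g hg hgo
  set σ := Subgroup.normalizerMonoidHom Q ⟨g, hg⟩ with hσ
  have hσm : σ ^ orderOf g = 1 := by
    rw [hσ, ← map_pow, show (⟨g, hg⟩ : Subgroup.normalizer (Q : Set G)) ^ orderOf g = 1 from
      Subtype.ext (by simp [pow_orderOf_eq_one]), map_one]
  have hodd : Odd (orderOf g) := Nat.coprime_two_right.1 hgo
  have hQp : IsPGroup 2 Q := S.2.to_le hQ
  have hval : ∀ x : Q, ((σ x : Q) : G) = g * x * g⁻¹ := fun x => rfl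
  -- the involutions of `Q` are fixed
  have homega : ∀ x : Q, x ^ 2 = 1 → σ x = x := by
    by_cases hall : ∀ x : Q, x ^ 2 = 1
    · -- elementary case
      have hle : ∀ x : Q, (⟨(x : G), hQ x.2⟩ : (S : Subgroup G)) ∈ V := fun x => hom _ (Subtype.ext (by
        simpa using congrArg Subtype.val (hall x)))
      have hc : ∀ x y : Q, x * y = y * x := fun x y => by
        have hi : ∀ w : Q, w⁻¹ = w := fun w => inv_eq_of_mul_eq_one_left (by rw [← pow_two, hall])
        calc x * y = (x * y)⁻¹ := (hi _).symm
          _ = y * x := by rw [mul_inv_rev, hi, hi]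
      by_cases hzQ : (z : G) ∈ Q
      · have hzfix : g * (z : G) * g⁻¹ = z := by
          by_cases hBQ : (B : G) ∈ Q
          · refine hfixV g ?_
            have hQV : Q = V' := by
              refine le_antisymm (fun x hx => ⟨⟨x, hQ hx⟩, hle ⟨x, hx⟩, rfl⟩) ?_
              rintro _ ⟨v, hv, rfl⟩
              rcases hv with h | h | h | h <;> rw [h]
              · exact one_mem Q
              · exact hzQ
              · exact hBQ
              · exact mul_mem hzQ hBQ
            rw [← hQV]; exact hg
          · rcases hle (σ ⟨z, hzQ⟩) with h | h | h | h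
            · exfalso
              have h1 : σ ⟨z, hzQ⟩ = 1 := Subtype.ext (by simpa using congrArg Subtype.val h)
              have h2 := σ.injective (h1.trans (map_one σ).symm)
              exact hz1 (Subtype.ext (by simpa using congrArg Subtype.val h2))
            · simpa [hval] using congrArg Subtype.val h
            · exfalso; exact hBQ ((congrArg Subtype.val h) ▸ (σ ⟨z, hzQ⟩).2)
            · exfalso
              refine hBQ ?_
              have h' : ((σ ⟨z, hzQ⟩ : Q) : G) = (z : G) * B := congrArg Subtype.val h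
              have := mul_mem (inv_mem hzQ) (σ ⟨z, hzQ⟩).2
              rwa [h', inv_mul_cancel_left] at this
        -- fixed subgroup of index at most two
        have hfix2 : σ = 1 := by
          refine aut_eq_one_of_fix_index_two hQp σ hodd hσm (Subgroup.zpowers ⟨z, hzQ⟩) ?_ ?_
          · intro x y hx hy
            rcases hle (x⁻¹ * y) with h | h | h | h
            · rw [show x⁻¹ * y = 1 from Subtype.ext (by simpa using congrArg Subtype.val h)]
              exact one_mem _
            · rw [show x⁻¹ * y = ⟨z, hzQ⟩ from Subtype.ext (by simpa using congrArg Subtype.val h)]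
              exact Subgroup.mem_zpowers _
            all_goals
              exfalso
              have hnot : ∀ w : Q, w ∉ Subgroup.zpowers (⟨z, hzQ⟩ : Q) →
                  (⟨(w : G), hQ w.2⟩ : (S : Subgroup G)) = B ∨ (⟨(w : G), hQ w.2⟩ : (S : Subgroup G)) = z * B := by
                intro w hw
                rcases hle w with h | h | h | h
                · exact absurd (by rw [show w = 1 from Subtype.ext (by simpa using congrArg Subtype.val h)]; exact one_mem _) hw
                · exact absurd (by rw [show w = ⟨z, hzQ⟩ from Subtype.ext (by simpa using congrArg Subtype.val h)]; exact Subgroup.mem_zpowers _) hw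
                · exact Or.inl h
                · exact Or.inr h
              have e : (⟨((x⁻¹ * y : Q) : G), hQ (x⁻¹ * y).2⟩ : (S : Subgroup G)) =
                  (⟨(x : G), hQ x.2⟩ : (S : Subgroup G))⁻¹ * ⟨(y : G), hQ y.2⟩ := Subtype.ext (by simp)
              rw [e] at h
              have hBi' : B⁻¹ = B := inv_eq_of_mul_eq_one_left (by rw [← pow_two, hB2])
              have hzi : z⁻¹ = z := inv_eq_of_mul_eq_one_left (by rw [← pow_two, hz2])
              have hBz : B ≠ z := fun e => F.zpow_ne_mul m 0 (by rw [zpow_zero, one_mul, e, hz])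
              rcases hnot x hx with h1 | h1 <;> rcases hnot y hy with h2 | h2 <;> rw [h1, h2] at h
            · rw [inv_mul_cancel] at h; exact F.zpow_ne_mul 0 0 (by simpa using h)
            · rw [← mul_assoc, hBi', ← hzB, mul_assoc, ← pow_two, hB2, mul_one] at h; exact hBz h.symm
            · rw [mul_inv_rev, hzi, hBi', mul_assoc, hzB, ← mul_assoc, ← pow_two, hB2, one_mul] at h
              exact hBz h.symm
            · rw [inv_mul_cancel] at h; exact F.zpow_ne_mul 0 0 (by simpa using h)
            · rw [inv_mul_cancel] at h; exact F.zpow_ne_mul 0 m (by simpa [hz] using h)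
            · rw [← mul_assoc, hBi', ← hzB, mul_assoc, ← pow_two, hB2, mul_one] at h
              exact F.zpow_ne_mul m m (by rw [← hz]; exact h)
            · rw [mul_inv_rev, hzi, hBi', mul_assoc, hzB, ← mul_assoc, ← pow_two, hB2, one_mul] at h
              exact F.zpow_ne_mul m m (by rw [← hz, hzB]; exact h)
            · rw [inv_mul_cancel] at h; exact F.zpow_ne_mul 0 m (by simpa [hz] using h)
          · intro k hk
            obtain ⟨i, rfl⟩ := Subgroup.mem_zpowers_iff.1 hk
            rw [map_zpow, show σ ⟨z, hzQ⟩ = ⟨z, hzQ⟩ from Subtype.ext (by rw [hval]; exact hzfix)]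
        intro x _; rw [hfix2]; rfl
      · -- `Q` has order at most two
        intro x _
        by_cases hx1 : x = 1
        · rw [hx1, map_one]
        have huniq : ∀ u v : Q, u ≠ 1 → v ≠ 1 → u = v := by
          intro u v hu hv
          have hmem : ∀ w : Q, w ≠ 1 → (⟨(w : G), hQ w.2⟩ : (S : Subgroup G)) = B ∨ (⟨(w : G), hQ w.2⟩ : (S : Subgroup G)) = z * B := by
            intro w hw
            rcases hle w with h | h | h | h
            · exact absurd (Subtype.ext (by simpa using congrArg Subtype.val h)) hw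
            · exact absurd (by rw [← congrArg Subtype.val h]; exact w.2) hzQ
            · exact Or.inl h
            · exact Or.inr h
          rcases hmem u hu with h1 | h1 <;> rcases hmem v hv with h2 | h2
          · exact Subtype.ext (congrArg (fun w : (S : Subgroup G) => (w : G)) (h1.trans h2.symm))
          · exfalso
            refine hzQ ?_
            have h1' : (u : G) = (B : G) := congrArg Subtype.val h1
            have h2' : (v : G) = (z : G) * B := congrArg Subtype.val h2
            have := mul_mem v.2 (inv_mem u.2)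
            rwa [h1', h2', mul_inv_cancel_right] at this
          · exfalso
            refine hzQ ?_
            have h1' : (v : G) = (B : G) := congrArg Subtype.val h2
            have h2' : (u : G) = (z : G) * B := congrArg Subtype.val h1
            have := mul_mem u.2 (inv_mem v.2)
            rwa [h1', h2', mul_inv_cancel_right] at this
          · exact Subtype.ext (congrArg (fun w : (S : Subgroup G) => (w : G)) (h1.trans h2.symm))
        exact huniq _ _ (fun h => hx1 (σ.injective (h.trans (map_one σ).symm))) hx1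
    · push Not at hall
      obtain ⟨q, hq⟩ := hall
      have hzfix := hfix Q hQ ⟨q, q.2, fun h => hq (Subtype.ext (by simpa using h))⟩ g hg
      intro x hx
      -- the involutions form a set of at most three elements containing `z`
      have hp : ∀ y : Q, y ^ 2 = 1 → (⟨(y : G), hQ y.2⟩ : (S : Subgroup G)) ∈ V := fun y hy =>
        hom _ (Subtype.ext (by simpa using congrArg Subtype.val hy))
      have hσ2 : ∀ y : Q, y ^ 2 = 1 → (σ y) ^ 2 = 1 := fun y hy => by rw [← map_pow, hy, map_one]
      rcases hp x hx with h | h | h | h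
      · rw [show x = 1 from Subtype.ext (by simpa using congrArg Subtype.val h), map_one]
      · refine Subtype.ext ?_
        rw [hval, show (x : G) = z from congrArg Subtype.val h, hzfix]
      all_goals
        -- `x` is one of `B`, `z B`
        by_contra hne
        have hx' : ((σ x : Q) : G) = (z : G) * x := by
          rcases hp _ (hσ2 x hx) with h' | h' | h' | h'
          · exfalso
            have h1 : σ x = 1 := Subtype.ext (by simpa using congrArg Subtype.val h')
            have h2 := σ.injective (h1.trans (map_one σ).symm)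
            exact hne (by rw [h2, map_one])
          · exfalso
            have h1 : ((σ x : Q) : G) = (z : G) := congrArg Subtype.val h'
            rw [hval] at h1
            have h2 : (x : G) = z := by
              have := congrArg (fun w => g⁻¹ * w * g) (h1.trans hzfix.symm)
              simpa [mul_assoc] using this
            have h3 : (⟨(x : G), hQ x.2⟩ : (S : Subgroup G)) = z := Subtype.ext h2
            rw [h] at h3
            first
            | exact F.zpow_ne_mul m 0 (by rw [zpow_zero, one_mul, h3, hz])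
            | exact F.zpow_ne_mul m m (by rw [← hz]; exact h3.symm)
          all_goals
            first
            | (exfalso; exact hne (Subtype.ext ((congrArg (fun w : (S : Subgroup G) => (w : G)) h').trans (congrArg (fun w : (S : Subgroup G) => (w : G)) h).symm)))
            | (have h1 : ((σ x : Q) : G) = _ := congrArg (fun w : (S : Subgroup G) => (w : G)) h'
               have h2 : (x : G) = _ := congrArg (fun w : (S : Subgroup G) => (w : G)) h
               rw [h1, h2]
               first
               | rfl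
               | (show ((B : (S : Subgroup G)) : G) = (z : G) * ((z : G) * (B : G))
                  rw [← mul_assoc, ← pow_two, show (z : G) ^ 2 = 1 from by simpa using congrArg Subtype.val hz2, one_mul]))
        have hxz : (z : G) ∈ Q := by
          have := mul_mem (σ x).2 (inv_mem x.2)
          rwa [hx', mul_inv_cancel_right] at this
        have hσz : σ ⟨z, hxz⟩ = ⟨z, hxz⟩ := Subtype.ext (by rw [hval]; exact hzfix)
        have hcx : (z : G) * x = x * z := congrArg Subtype.val (hzc ⟨(x : G), hQ x.2⟩).eq
        have hit := iterate_fix σ (x := x) (k := ⟨z, hxz⟩)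
          (Subtype.ext (by show _ = (x : G) * z; rw [hx', hcx])) hσz (orderOf g)
        rw [hσm, MulAut.one_apply, left_eq_mul] at hit
        have hz2' : (⟨z, hxz⟩ : Q) ^ 2 = 1 := Subtype.ext (by simpa using congrArg Subtype.val hz2)
        obtain ⟨l, hl⟩ := hodd
        rw [hl, pow_succ, pow_mul, hz2', one_pow, one_mul] at hit
        exact hz1 (Subtype.ext (by simpa using congrArg Subtype.val hit))
  -- conclude
  have hσ1 : σ = 1 := by
    by_cases hQc : ∀ x y : Q, x * y = y * x
    · exact aut_fix_of_fix_omega hQp hQc σ hodd hσm homega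
    · push Not at hQc
      -- `Q` contains `B`, and `C_Q(B)` has index two
      have hQP : ∀ w : (S : Subgroup G), (w : G) ∈ Q := by
        obtain ⟨x, y, hxy⟩ := hQc
        obtain ⟨w, hw⟩ : ∃ w : (S : Subgroup G), (w : G) ∈ Q ∧ w ∉ D := by
          by_contra hall
          push Not at hall
          refine hxy (Subtype.ext ?_)
          exact congrArg (fun w : (S : Subgroup G) => (w : G)) (hDc ⟨x, hQ x.2⟩ (hall ⟨x, hQ x.2⟩ x.2) ⟨y, hQ y.2⟩ (hall ⟨y, hQ y.2⟩ y.2))
        -- `⟨w⟩` has index two
        have hwo : (Subgroup.zpowers w).index = 2 := by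
          have hodd : ∀ i : ℤ, ¬ (A ^ i ∈ D) → i % 2 = 1 := by
            intro i hi
            by_contra h
            obtain ⟨q, rfl⟩ : (2 : ℤ) ∣ i := by omega
            refine hi (Subgroup.mem_centralizer_singleton_iff.2 ?_)
            rw [F.b_mul_zpow, F.mul_b_eq_iff, ZMod.intCast_eq_intCast_iff_dvd_sub, hN]
            exact ⟨q, by rw [hm]; ring⟩
          have hord : orderOf w = 2 ^ n := by
            rw [show n = n - 1 + 1 by omega]
            refine orderOf_eq_prime_pow ?_ ?_
            · intro h
              obtain ⟨i, hi⟩ := F.exists_eq w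
              have hio : i % 2 = 1 := by
                rcases hi with rfl | rfl
                · exact hodd i hw.2
                · refine hodd i fun h => hw.2 (mul_mem h (Subgroup.mem_centralizer_singleton_iff.2 rfl))
              have h2 : A ^ (2 ^ (n - 1) * i) = 1 := by
                rcases hi with rfl | rfl
                · rw [← zpow_natCast, ← zpow_mul] at h
                  push_cast at h
                  rwa [mul_comm]
                · rw [show (2 : ℕ) ^ (n - 1) = 2 * 2 ^ (n - 2) by rw [← pow_succ']; congr 1; omega,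
                    pow_mul, F.ref_sq, ← zpow_natCast, ← zpow_mul, F.zpow_eq_one_iff, hN] at h
                  rw [F.zpow_eq_one_iff, hN]
                  have e : ((2 : ℤ) ^ (n - 1) + 1 + 1) * i + 0 = 2 * ((2 * m' + 1) * i) := by
                    rw [← hm, hm']; ring
                  push_cast at h
                  rw [show (1 + ((2 : ℤ) ^ (n - 1) + 1)) * i + 0 = 2 * ((2 * m' + 1) * i) by rw [← hm, hm']; ring,
                    show (2 : ℤ) * ((2 * m' + 1) * i) * 2 ^ (n - 2) = (2 * m' + 1) * (2 ^ (n - 1) * i) by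
                      rw [show n - 1 = n - 2 + 1 by omega, pow_succ']; ring] at h
                  refine IsCoprime.dvd_of_dvd_mul_left ?_ h
                  rw [h2m]
                  exact IsCoprime.pow_left ⟨-m', 1, by ring⟩
              rw [F.zpow_eq_one_iff, hN, hm, mul_comm 2] at h2
              have := (mul_dvd_mul_iff_left (by positivity)).1 h2
              omega
            · rw [Nat.sub_add_cancel (by omega)]
              obtain ⟨i, hi | hi⟩ := F.exists_eq w
              · rw [hi, ← zpow_natCast, ← zpow_mul, F.zpow_eq_one_iff]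
                exact dvd_mul_left _ _
              · rw [hi, show (2 : ℕ) ^ n = 2 * 2 ^ (n - 1) by rw [← pow_succ', Nat.sub_add_cancel (by omega)],
                  pow_mul, F.ref_sq, ← zpow_natCast, ← zpow_mul, F.zpow_eq_one_iff, hN]
                exact ⟨(2 * m' + 1) * i, by push_cast; rw [← hm, hm']; ring⟩
          have := (Subgroup.zpowers w).card_mul_index
          rw [Nat.card_zpowers, hord, F.card, mul_comm 2] at this
          exact Nat.eq_of_mul_eq_mul_left F.pos this
        have hle : Subgroup.zpowers w ≤ Q.subgroupOf (S : Subgroup G) := Subgroup.zpowers_le.2 hw.1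
        have hne : Subgroup.zpowers w ≠ Q.subgroupOf (S : Subgroup G) := by
          intro e
          refine hxy ?_
          obtain ⟨i, hi⟩ := Subgroup.mem_zpowers_iff.1 (e.ge (show (⟨x, hQ x.2⟩ : (S : Subgroup G)) ∈ Q.subgroupOf (S : Subgroup G) from x.2))
          obtain ⟨j, hj⟩ := Subgroup.mem_zpowers_iff.1 (e.ge (show (⟨y, hQ y.2⟩ : (S : Subgroup G)) ∈ Q.subgroupOf (S : Subgroup G) from y.2))
          refine Subtype.ext ?_
          have := ((Commute.refl w).zpow_zpow i j).eq
          rw [hi, hj] at this
          exact congrArg (fun w : (S : Subgroup G) => (w : G)) this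
        have htop : Q.subgroupOf (S : Subgroup G) = ⊤ := by
          rw [← Subgroup.index_eq_one]
          have h1 := Subgroup.index_dvd_of_le hle
          rw [hwo] at h1
          rcases (Nat.dvd_prime Nat.prime_two).1 h1 with h | h
          · exact h
          · exfalso
            have h2 := Subgroup.relIndex_mul_index hle
            rw [hwo, h] at h2
            have h3 : (Subgroup.zpowers w).relIndex (Q.subgroupOf (S : Subgroup G)) = 1 := by omega
            exact hne (le_antisymm hle (Subgroup.relIndex_eq_one.1 h3))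
        exact fun u => htop.ge (Subgroup.mem_top u)
      set K : Subgroup Q := Subgroup.centralizer ({⟨(B : G), hQP B⟩} : Set Q) with hK
      have hBσ : σ ⟨(B : G), hQP B⟩ = ⟨(B : G), hQP B⟩ :=
        homega _ (Subtype.ext (by simpa using congrArg Subtype.val hB2))
      have hKD : ∀ x : Q, x ∈ K ↔ (⟨(x : G), hQ x.2⟩ : (S : Subgroup G)) ∈ D := by
        intro x
        rw [hK, Subgroup.mem_centralizer_singleton_iff]
        show _ ↔ _ ∈ Subgroup.centralizer ({B} : Set (S : Subgroup G))
        rw [Subgroup.mem_centralizer_singleton_iff, Subtype.ext_iff, Subtype.ext_iff]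
        rfl
      have hσK : ∀ x : Q, x ∈ K → σ x ∈ K := by
        intro x hx
        rw [hK, Subgroup.mem_centralizer_singleton_iff] at hx ⊢
        rw [← hBσ, ← map_mul, hx, map_mul]
      refine aut_eq_one_of_fix_index_two hQp σ hodd hσm K ?_ ?_
      · intro x y hx hy
        rw [hKD] at hx hy ⊢
        have hA2 : ∀ i : ℤ, A ^ (2 * i) ∈ D := fun i => Subgroup.mem_centralizer_singleton_iff.2 (by
          rw [F.b_mul_zpow, F.mul_b_eq_iff, ZMod.intCast_eq_intCast_iff_dvd_sub, hN]
          exact ⟨i, by rw [hm]; ring⟩)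
        have hBD : B ∈ D := Subgroup.mem_centralizer_singleton_iff.2 rfl
        have hidx : D.index = 2 := by
          rw [Subgroup.index_eq_two_iff_exists_notMem_and']
          refine ⟨A⁻¹, fun h => ?_, fun w => ?_⟩
          · obtain ⟨i, hi | hi⟩ := hDform _ (inv_mem_iff.1 h)
            · rw [← zpow_one A, ← zpow_mul, one_mul, F.zpow_eq_iff,
                ZMod.intCast_eq_intCast_iff_dvd_sub, hN] at hi
              obtain ⟨q, hq⟩ := hi
              have : (2 : ℤ) ∣ 1 := ⟨i - m * q, by linarith⟩
              omega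
            · exact F.zpow_ne_mul 1 (2 * i) (by rw [zpow_one]; exact hi)
          · obtain ⟨i, rfl | rfl⟩ := F.exists_eq w
            · rcases Int.even_or_odd' i with ⟨q, rfl | rfl⟩
              · exact Or.inr (hA2 q)
              · refine Or.inl ?_
                rw [← zpow_neg_one, ← zpow_add, show (-1 : ℤ) + (2 * q + 1) = 2 * q by ring]
                exact hA2 q
            · rcases Int.even_or_odd' i with ⟨q, rfl | rfl⟩
              · exact Or.inr (mul_mem (hA2 q) hBD)
              · refine Or.inl ?_
                rw [← zpow_neg_one, ← mul_assoc, ← zpow_add, show (-1 : ℤ) + (2 * q + 1) = 2 * q by ring]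
                exact mul_mem (hA2 q) hBD
        have e : (⟨((x⁻¹ * y : Q) : G), hQ (x⁻¹ * y).2⟩ : (S : Subgroup G)) =
            (⟨(x : G), hQ x.2⟩ : (S : Subgroup G))⁻¹ * ⟨(y : G), hQ y.2⟩ := Subtype.ext (by simp)
        rw [e, Subgroup.mul_mem_iff_of_index_two hidx, inv_mem_iff]
        exact iff_of_false hx hy
      · -- the restriction to `K`
        let e : K →* K :=
          { toFun := fun k => ⟨σ k, hσK k k.2⟩
            map_one' := Subtype.ext (map_one σ)
            map_mul' := fun u v => Subtype.ext (map_mul σ (u : Q) (v : Q)) }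
        have he : Function.Bijective e := Finite.injective_iff_bijective.1 fun u v h =>
          Subtype.ext (σ.injective (congrArg Subtype.val h))
        let σK : MulAut K := MulEquiv.ofBijective e he
        have hit : ∀ (i : ℕ) (k : K), (((σK ^ i) k : K) : Q) = (σ ^ i) (k : Q) := by
          intro i
          induction i with
          | zero => simp
          | succ i ih =>
            intro k; rw [pow_succ', pow_succ', MulAut.mul_apply, MulAut.mul_apply, ← ih]; rfl
        have h1 : σK = 1 := aut_fix_of_fix_omega (hQp.to_subgroup K)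
          (fun u v => Subtype.ext (Subtype.ext (congrArg (fun w : (S : Subgroup G) => (w : G))
            (hDc _ ((hKD _).1 u.2) _ ((hKD _).1 v.2)))))
          σK hodd (MulEquiv.ext fun k => Subtype.ext (by rw [hit, hσm]; rfl))
          fun k hk => Subtype.ext (homega k (congrArg Subtype.val hk))
        exact fun k hk => congrArg (fun s : MulAut K => ((s ⟨k, hk⟩ : K) : Q)) h1
  refine Subgroup.mem_centralizer_iff.2 fun q hq => ?_
  have h4 : g * q * g⁻¹ = q := by
    rw [← hval ⟨q, hq⟩, hσ1]; rfl
  exact (mul_inv_eq_iff_eq_mul.1 h4).symm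

/-- Groups with a modular Sylow 2-subgroup have a normal 2-complement. Let S, of order 2^(n+1) with n ≥ 3, be a Sylow 2-subgroup of a finite group G, and suppose S contains an element a of order 2^n and an involution b with b a b⁻¹ = a^(2^(n-1) + 1); so S is the non-abelian 2-group with a cyclic subgroup of index 2 that is neither dihedral, semidihedral nor generalized quaternion. Then G has a normal 2-complement. -/
theorem result {G : Type*} [Group G] [Finite G]
    (S : Sylow 2 G) (n : ℕ) (hn : 3 ≤ n) (hS : Nat.card ↥(S : Subgroup G) = 2 ^ (n + 1))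
    (a b : G) (ha : a ∈ (S : Subgroup G)) (hb : b ∈ (S : Subgroup G))
    (hao : orderOf a = 2 ^ n) (hbo : orderOf b = 2) (hrel : b * a * b⁻¹ = a ^ (2 ^ (n - 1) + 1)) :
    Cfsg.HasNormalPComplement 2 G := by
  haveI : Fact (Nat.Prime 2) := ⟨Nat.prime_two⟩
  set P := (S : Subgroup G) with hPdef
  set A : P := ⟨a, ha⟩ with hA
  set B : P := ⟨b, hb⟩ with hB
  have h1le : 1 ≤ 2 ^ (n - 1) := Nat.one_le_two_pow
  have hAo : orderOf A = 2 ^ n := by rw [hA, Subgroup.orderOf_mk, hao]
  have hconj : B * A * B⁻¹ = A ^ ((2 : ℤ) ^ (n - 1) + 1) := by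
    refine Subtype.ext ?_
    show b * a * b⁻¹ = ((A ^ ((2 : ℤ) ^ (n - 1) + 1) : P) : G)
    rw [hrel, ← zpow_natCast, SubgroupClass.coe_zpow]
    push_cast
    rfl
  have hBA : B ∉ Subgroup.zpowers A := by
    intro hmem
    obtain ⟨i, hi⟩ := Subgroup.mem_zpowers_iff.1 hmem
    rw [← hi, ((Commute.refl A).zpow_left i).eq, mul_inv_cancel_right] at hconj
    have h2 : A ^ ((2 : ℤ) ^ (n - 1)) = 1 := by
      rw [zpow_add_one] at hconj
      exact mul_eq_right.1 hconj.symm
    rw [← orderOf_dvd_iff_zpow_eq_one, hAo] at h2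
    have h3 := Int.le_of_dvd (by positivity) h2
    have h4 : (2 : ℤ) * 2 ^ (n - 1) = 2 ^ n := by rw [← pow_succ', Nat.sub_add_cancel (by omega)]
    push_cast at h3
    have h5 : (0 : ℤ) < 2 ^ (n - 1) := by positivity
    omega
  have F : CfsgLib.Invol.CyclicFrame (2 ^ n) ((2 : ℤ) ^ (n - 1) + 1) 0 A B :=
    ⟨hAo, by rw [hS, pow_succ'], hBA, hconj,
      Subtype.ext (by show b * b = _; rw [zpow_zero, ← pow_two, ← hbo, pow_orderOf_eq_one]; rfl),
      by positivity⟩
  exact CfsgLib.Fusion.hasNormalPComplement_of_locallyPNilpotentAction S (locally hn S F)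

end Cfsg.Agent.S3178
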