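import Cfsg.Statements.S3179
import Mathlib
import Cfsg.Agent.S1163
import Cfsg.Agent.Lib.Fusion.PSUThree.Two
import Cfsg.Agent.Lib.Classical.ProjLine
import Cfsg.Agent.Lib.Classical.SLBasic

set_option autoImplicit false
open Cfsg

namespace Cfsg.Agent.S3179

open Matrix

theorem card_gl_five : Nat.card (GL (Fin 5) (ZMod 2)) = 9999360 := by
  rw [Matrix.card_GL_field, Fin.prod_univ_five, ZMod.card]
  rfl

/-- An element of order three acting on the first two coordinates. -/
def genA : GL (Fin 5) (ZMod 2) :=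
  ⟨!![0,1,0,0,0; 1,1,0,0,0; 0,0,1,0,0; 0,0,0,1,0; 0,0,0,0,1],
   !![1,1,0,0,0; 1,0,0,0,0; 0,0,1,0,0; 0,0,0,1,0; 0,0,0,0,1], by decide +kernel, by decide +kernel⟩

/-- An element of order three acting on the next two coordinates. -/
def genB : GL (Fin 5) (ZMod 2) :=
  ⟨!![1,0,0,0,0; 0,1,0,0,0; 0,0,0,1,0; 0,0,1,1,0; 0,0,0,0,1],
   !![1,0,0,0,0; 0,1,0,0,0; 0,0,1,1,0; 0,0,1,0,0; 0,0,0,0,1], by decide +kernel, by decide +kernel⟩

theorem exists_exponent_three {G : Type*} [Group G] [Finite G] {a b : G} (hA : a ^ 3 = 1)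
    (hB : b ^ 3 = 1) (hAB : a * b = b * a)
    (hinj : Function.Injective fun r : Fin 3 × Fin 3 => a ^ (r.1 : ℕ) * b ^ (r.2 : ℕ)) :
    ∃ K : Subgroup G, 9 ≤ Nat.card K ∧ IsPGroup 3 K ∧ ∀ x ∈ K, x ^ 3 = 1 := by
  set K : Subgroup G := Subgroup.closure {a, b} with hK
  haveI hKc : IsMulCommutative K := Subgroup.isMulCommutative_closure (by
    rintro x (rfl | rfl) y (rfl | rfl) <;> first | rfl | exact hAB | exact hAB.symm)
  have h3 : ∀ x ∈ K, x ^ 3 = 1 := by
    intro x hx
    induction hx using Subgroup.closure_induction with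
    | mem y hy => rcases hy with rfl | rfl <;> assumption
    | one => exact one_pow 3
    | mul u v hu hv ihu ihv =>
      rw [(show Commute u v from setLike_mul_comm hu hv).mul_pow, ihu, ihv, one_mul]
    | inv u _ ih => rw [inv_pow, ih, inv_one]
  refine ⟨K, ?_, fun x => ⟨1, Subtype.ext (by rw [pow_one]; exact h3 x x.2)⟩, h3⟩
  have hma : a ∈ K := Subgroup.subset_closure (Set.mem_insert _ _)
  have hmb : b ∈ K := Subgroup.subset_closure (Set.mem_insert_of_mem _ rfl)
  let f : Fin 3 × Fin 3 → K := fun r => ⟨a ^ (r.1 : ℕ) * b ^ (r.2 : ℕ), mul_mem (pow_mem hma _) (pow_mem hmb _)⟩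
  have hf : Function.Injective f := fun r s e => hinj (congrArg Subtype.val e)
  have h := Nat.card_le_card_of_injective f hf
  rwa [Nat.card_prod, Nat.card_fin] at h

theorem orderOf_ne_nine (g : GL (Fin 5) (ZMod 2)) : orderOf g ≠ 9 := by
  classical
  intro hg
  haveI : Fact (Nat.Prime 3) := ⟨Nat.prime_three⟩
  obtain ⟨K, h9, hKp, h3⟩ := exists_exponent_three (a := genA) (b := genB) (by decide +kernel)
    (by decide +kernel) (by decide +kernel) (by decide +kernel)
  obtain ⟨P, hP⟩ := hKp.exists_le_sylow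
  have hPc : Nat.card P = 9 := by
    rw [P.card_eq_multiplicity, card_gl_five,
      show (9999360 : ℕ) = 3 ^ 2 * 1111040 from rfl, Nat.factorization_mul (by norm_num) (by norm_num),
      Nat.Prime.factorization_pow Nat.prime_three, Finsupp.add_apply, Finsupp.single_eq_same,
      Nat.factorization_eq_zero_of_not_dvd (by norm_num)]
    norm_num
  have hKP : K = (P : Subgroup _) := Subgroup.eq_of_le_of_card_ge hP (hPc ▸ h9)
  have hgp : IsPGroup 3 (Subgroup.zpowers g) := IsPGroup.of_card (n := 2) (by rw [Nat.card_zpowers, hg]; rfl)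
  obtain ⟨R, hR⟩ := hgp.exists_le_sylow
  obtain ⟨c, rfl⟩ := MulAction.exists_smul_eq (GL (Fin 5) (ZMod 2)) P R
  have hgR := hR (Subgroup.mem_zpowers g)
  rw [Sylow.coe_subgroup_smul, Subgroup.mem_pointwise_smul_iff_inv_smul_mem, ← hKP] at hgR
  have h := h3 _ hgR
  rw [← smul_pow', smul_eq_iff_eq_inv_smul, smul_one] at h
  have := orderOf_dvd_of_pow_eq_one h
  rw [hg] at this
  norm_num at this

theorem exists_root {F : Type*} [Field F] [Fintype F] (hF : Fintype.card F = 8) :
    ∃ c : F, c ^ 3 + c + 1 = 0 := by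
  classical
  obtain ⟨a, ha⟩ := Finset.exists_mem_notMem_of_card_lt_card
    (s := ({0, 1} : Finset F)) (t := Finset.univ) (by
      rw [Finset.card_univ, hF]; exact lt_of_le_of_lt (Finset.card_le_two) (by norm_num))
  simp only [Finset.mem_insert, Finset.mem_singleton, not_or] at ha
  have h7 : a ^ 7 = 1 := by
    have := FiniteField.pow_card_sub_one_eq_one a ha.2.1
    rwa [hF] at this
  have h2 : (2 : F) = 0 := by
    have h := FiniteField.cast_card_eq_zero F
    rw [hF, show ((8 : ℕ) : F) = 2 ^ 3 by norm_num] at h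
    exact pow_eq_zero_iff (by norm_num) |>.1 h
  have key : (a - 1) * ((a ^ 3 + a + 1) * (a ^ 3 + a ^ 2 + 1)) = 0 := by
    linear_combination h7 + (a ^ 4 - a ^ 3) * h2
  rcases mul_eq_zero.1 key with h | h
  · exact absurd (sub_eq_zero.1 h) ha.2.2
  rcases mul_eq_zero.1 h with h | h
  · exact ⟨a, h⟩
  · refine ⟨a⁻¹, ?_⟩
    have := ha.2.1
    field_simp
    linear_combination h

theorem exists_order_nine {F : Type*} [Field F] [Fintype F] (hF : Fintype.card F = 8) :
    ∃ y : Matrix.ProjectiveSpecialLinearGroup (Fin 2) F, orderOf y = 9 := by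
  haveI : Fact (Nat.Prime 3) := ⟨Nat.prime_three⟩
  obtain ⟨c, hc⟩ := exists_root hF
  have h2 : (2 : F) = 0 := by
    have h := FiniteField.cast_card_eq_zero F
    rw [hF, show ((8 : ℕ) : F) = 2 ^ 3 by norm_num] at h
    exact pow_eq_zero_iff (by norm_num) |>.1 h
  let g : Matrix.SpecialLinearGroup (Fin 2) F := ⟨!![c, 1; 1, 0], by
    rw [Matrix.det_fin_two_of]; linear_combination (-1 : F) * h2⟩
  let M : Matrix (Fin 2) (Fin 2) F := !![c ^ 3, c ^ 2 + 1; c ^ 2 + 1, c]
  have hg3 : ((g ^ 3 : Matrix.SpecialLinearGroup (Fin 2) F) : Matrix (Fin 2) (Fin 2) F) = M := by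
    rw [pow_succ, pow_two, Matrix.SpecialLinearGroup.coe_mul, Matrix.SpecialLinearGroup.coe_mul,
      show (g : Matrix (Fin 2) (Fin 2) F) = !![c, 1; 1, 0] from rfl]
    ext i j
    fin_cases i <;> fin_cases j <;>
      simp [M, Matrix.mul_apply, Fin.sum_univ_two] <;>
      first
      | ring1
      | linear_combination c * h2
      | linear_combination (2 * c) * h2
      | linear_combination h2
  refine ⟨QuotientGroup.mk g, orderOf_eq_prime_pow (p := 3) (n := 1) (fun h => ?_) ?_⟩
  · rw [pow_one, ← QuotientGroup.mk_pow, QuotientGroup.eq_one_iff, Matrix.SpecialLinearGroup.mem_center_iff] at h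
    obtain ⟨r, -, hr⟩ := h
    rw [hg3] at hr
    have h01 := congrFun (congrFun hr 1) 0
    simp [M, Matrix.scalar_apply] at h01
    have hc1 : c = 1 := by
      have : (c - 1) * (c - 1) = 0 := by linear_combination (-1 : F) * h01 + (-c) * h2
      rcases mul_eq_zero.1 this with h | h <;> exact sub_eq_zero.1 h
    rw [hc1] at hc
    exact one_ne_zero (show (1 : F) = 0 by linear_combination hc + (-1 : F) * h2)
  · have e : g ^ 9 = 1 := by
      rw [show (9 : ℕ) = 3 * 3 from rfl, pow_mul]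
      refine Subtype.ext ?_
      rw [pow_succ, pow_two, Matrix.SpecialLinearGroup.coe_mul, Matrix.SpecialLinearGroup.coe_mul, hg3,
        Matrix.SpecialLinearGroup.coe_one]
      have t : M * M + M + 1 = 0 := by
        ext i j
        fin_cases i <;> fin_cases j <;>
          simp [M, Matrix.mul_apply, Fin.sum_univ_two] <;>
          first
          | linear_combination (c ^ 3) * hc + (c ^ 2 + 1) * h2
          | linear_combination (c ^ 2 + 1) * hc
          | linear_combination hc * (c ^ 2 + 1) + 0 * h2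
          | linear_combination c * hc + (c ^ 2 + 1) * h2
      have hd : M * M * M - 1 = (M - 1) * (M * M + M + 1) := by noncomm_ring
      rw [t, mul_zero, sub_eq_zero] at hd
      exact hd
    rw [show (3 : ℕ) ^ (1 + 1) = 9 from rfl, ← QuotientGroup.mk_pow, e, QuotientGroup.mk_one]

/-- Let X be a section of the general linear group GL(5, 2), that is, a quotient of a subgroup of it. If X is isomorphic to PSL(2, 2^n) for some n ≥ 2, to a Suzuki group over the field with 2^(2m+1) elements for some m ≥ 1, or to PSU(3, 2^n) for some n ≥ 2, then X is isomorphic to PSL(2, 4). -/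
theorem result {H : Subgroup (GL (Fin 5) (ZMod 2))}
    {K : Subgroup ↥H} [K.Normal]
    (hX : (∃ (n : ℕ) (F : Type) (_ : Field F) (_ : Fintype F), 2 ≤ n ∧ Fintype.card F = 2 ^ n ∧
        Nonempty (↥H ⧸ K ≃* Matrix.ProjectiveSpecialLinearGroup (Fin 2) F)) ∨
      (∃ (m : ℕ) (F : Type) (_ : Field F) (_ : Fintype F), 1 ≤ m ∧ Fintype.card F = 2 ^ (2 * m + 1) ∧
        Nonempty (↥H ⧸ K ≃* ↥(Cfsg.Lie.Sz F (2 ^ (m + 1))))) ∨
      (∃ (n : ℕ) (F : Type) (_ : Field F) (_ : Fintype F), 2 ≤ n ∧ Fintype.card F = 4 ^ n ∧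
        Nonempty (↥H ⧸ K ≃* Cfsg.PSU 3 F (2 ^ n)))) :
    ∃ (F : Type) (_ : Field F) (_ : Fintype F), Fintype.card F = 4 ∧
      Nonempty (↥H ⧸ K ≃* Matrix.ProjectiveSpecialLinearGroup (Fin 2) F) := by
  classical
  have hdiv : Nat.card (↥H ⧸ K) ∣ 9999360 :=
    card_gl_five ▸ ((Subgroup.card_quotient_dvd_card K).trans (Subgroup.card_subgroup_dvd_card H))
  rcases hX with ⟨n, F, _, _, hn, hF, he⟩ | ⟨m, F, _, _, hm, hF, he⟩ | ⟨n, F, _, _, hn, hF, he⟩
  · obtain ⟨e⟩ := he
    rw [Nat.card_congr e.toEquiv] at hdiv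
    have hc := CfsgLib.Classical.card_psl2 (F := F)
    rw [hF, Nat.Coprime.gcd_eq_one (by
      rw [Nat.coprime_two_left, Nat.odd_sub (Nat.one_le_two_pow)]
      simp [Nat.even_pow, show n ≠ 0 by omega]), one_mul] at hc
    rw [hc] at hdiv
    have hn10 : n ≤ 13 := by
      by_contra h
      have h1 := Nat.le_of_dvd (by norm_num) ((Dvd.intro _ rfl).trans hdiv)
      have h2 : 2 ^ 14 ≤ 2 ^ n := Nat.pow_le_pow_right (by norm_num) (by omega)
      have h3 : 2 ^ n ∣ 9999360 := (Dvd.intro _ rfl).trans hdiv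
      have h4 : 2 ^ 14 ∣ 9999360 := (pow_dvd_pow 2 (by omega)).trans h3
      norm_num at h4
    interval_cases n
    · exact ⟨F, inferInstance, inferInstance, hF, ⟨e⟩⟩
    · exfalso
      obtain ⟨y, hy⟩ := exists_order_nine (F := F) (by rw [hF]; norm_num)
      obtain ⟨h, hh⟩ := QuotientGroup.mk'_surjective K (e.symm y)
      have h9 : 9 ∣ orderOf h := by
        rw [← hy, ← e.symm.orderOf_eq, ← hh]; exact orderOf_map_dvd _ _
      refine orderOf_ne_nine (((h : ↥H) : GL (Fin 5) (ZMod 2)) ^ (orderOf h / 9)) ?_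
      rw [orderOf_pow_of_dvd (by
          have := orderOf_pos h
          have := Nat.le_of_dvd this h9
          omega) (by rw [Subgroup.orderOf_coe]; exact Nat.div_dvd_of_dvd h9),
        Subgroup.orderOf_coe, Nat.div_div_self h9 (orderOf_pos h).ne']
    all_goals norm_num at hdiv
  · exfalso
    obtain ⟨e⟩ := he
    rw [Nat.card_congr e.toEquiv, (Cfsg.Agent.S1163.result hm hF).1, mul_assoc] at hdiv
    have hm2 : m ≤ 3 := by
      by_contra h
      have h4 : 2 ^ 18 ∣ 9999360 := by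
        refine (pow_dvd_pow 2 (show 18 ≤ (2 * m + 1) * 2 by omega)).trans ?_
        rw [pow_mul]
        exact (Dvd.intro _ rfl).trans hdiv
      norm_num at h4
    interval_cases m <;> norm_num at hdiv
  · exfalso
    obtain ⟨e⟩ := he
    rw [Nat.card_congr e.toEquiv] at hdiv
    have hq : Fintype.card F = (2 ^ n) ^ 2 := by rw [hF, ← pow_mul, mul_comm n 2, pow_mul]; norm_num
    obtain ⟨C⟩ := CfsgLib.Classical.uctx_exists hq
    have hc := CfsgLib.PSUThreeTwo.card_PSU_three C hq
    rw [CfsgLib.Classical.card_gu_formula C hq 2] at hc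
    simp only [Finset.prod_range_succ, Finset.prod_range_zero, one_mul, if_pos (Even.zero (α := ℕ)),
      if_neg Nat.not_even_one, show (2 * (2 - 1) / 2 : ℕ) = 1 from rfl, pow_one] at hc
    have hd : 2 ^ n * ((2 ^ n) ^ (0 + 1) + 1) * ((2 ^ n) ^ (1 + 1) - 1) * ((2 ^ n) ^ 2 * ((2 ^ n) ^ 2 - 2 ^ n + 1))
        ∣ 9999360 * 3 := by
      refine dvd_trans (dvd_of_eq ?_) (mul_dvd_mul hdiv (Nat.gcd_dvd_left 3 (2 ^ n + 1)))
      rw [hc]
      ring
    have hn10 : n ≤ 4 := by
      by_contra h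
      have h4 : 2 ^ 15 ∣ 9999360 * 3 := by
        refine (pow_dvd_pow 2 (show 15 ≤ n + n * 2 by omega)).trans (dvd_trans ?_ hd)
        rw [pow_add, pow_mul]
        exact mul_dvd_mul (dvd_mul_of_dvd_left (dvd_mul_right _ _) _) (dvd_mul_right _ _)
      norm_num at h4
    interval_cases n <;> norm_num at hd

end Cfsg.Agent.S3179
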