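import Cfsg.Statements.S3180
import Cfsg.Agent.Lib.Invol.WeaklyClosed


set_option autoImplicit false
open Cfsg

namespace Cfsg.Agent.S3180

/-- Let P be a Sylow p-subgroup of a finite group J and P₁ a subgroup of P that is weakly closed in P with respect to J. If J acts on a set and two points, each fixed by every element of P₁, lie in one J-orbit, then they lie in one orbit of the normalizer of P₁ in J. -/
theorem result {J : Type*} [Group J] [Finite J]
    {p : ℕ} [Fact p.Prime] (P : Sylow p J) (P₁ : Subgroup J) (hW : Cfsg.IsWeaklyClosed P₁ (P : Subgroup J))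
    {Ω : Type*} [MulAction J Ω] (x y : Ω) (hx : ∀ g ∈ P₁, g • x = x) (hy : ∀ g ∈ P₁, g • y = y)
    (hc : ∃ g : J, g • x = y) :
    ∃ g ∈ Subgroup.normalizer (P₁ : Set J), g • x = y := by
  obtain ⟨g, hg⟩ := hc
  have h1 : P₁ ≤ MulAction.stabilizer J x := fun w hw => hx w hw
  have h2 : P₁.map (MulAut.conj g⁻¹).toMonoidHom ≤ MulAction.stabilizer J x := by
    intro w hw
    rw [CfsgLib.Invol.mem_conj_map, inv_inv] at hw
    have := hy _ hw
    rw [mul_smul, mul_smul, ← hg, inv_smul_smul, smul_left_cancel_iff] at this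
    exact this
  obtain ⟨c, hc, hce⟩ := CfsgLib.Invol.exists_mem_conj_eq P hW h1 h2
  refine ⟨g * c, CfsgLib.Invol.mem_normalizer_of_conj_map_eq ?_, ?_⟩
  · rw [← CfsgLib.Invol.conj_map_conj_map, hce, CfsgLib.Invol.conj_map_conj_map, mul_inv_cancel,
      CfsgLib.Invol.conj_map_one]
  · rw [mul_smul, MulAction.mem_stabilizer_iff.1 hc, hg]

end Cfsg.Agent.S3180
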