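import Cfsg.Statements.S3183
import Cfsg.Agent.Lib.Fusion.Sylow
import Mathlib.GroupTheory.Nilpotent
import Mathlib.Tactic.Group


set_option autoImplicit false
open Cfsg

namespace Cfsg.Agent.S3183

/-- Let G be a finite group in which the intersection of any two distinct Sylow 2-subgroups is contained in the centre of some Sylow 2-subgroup, and let S be a Sylow 2-subgroup. Then for every x in S the centralizer of x in S is a Sylow 2-subgroup of the centralizer of x in G (no 2-subgroup centralizing x is larger), and for every other Sylow 2-subgroup T the intersection S ∩ T lies in both the centre of S and the centre of T. -/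
theorem result {G : Type*} [Group G] [Finite G]
    (hCI : ∀ S T : Sylow 2 G, S ≠ T → ∃ U : Sylow 2 G,
      (S : Subgroup G) ⊓ (T : Subgroup G) ≤ (Subgroup.center ↥(U : Subgroup G)).map (U : Subgroup G).subtype)
    (S : Sylow 2 G) :
    (∀ x ∈ (S : Subgroup G), ∀ P : Subgroup G, IsPGroup 2 ↥P → P ≤ Subgroup.centralizer ({x} : Set G) →
        Nat.card ↥P ≤ Nat.card ↥((S : Subgroup G) ⊓ Subgroup.centralizer ({x} : Set G))) ∧
    (∀ T : Sylow 2 G, T ≠ S →
        (S : Subgroup G) ⊓ (T : Subgroup G) ≤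
          (Subgroup.center ↥(S : Subgroup G)).map (S : Subgroup G).subtype ⊓
            (Subgroup.center ↥(T : Subgroup G)).map (T : Subgroup G).subtype) := by
  haveI : Fact (Nat.Prime 2) := ⟨Nat.prime_two⟩
  have hcen : ∀ U : Sylow 2 G, ∀ x ∈ (Subgroup.center ↥(U : Subgroup G)).map (U : Subgroup G).subtype,
      x ∈ (U : Subgroup G) ∧ ∀ u ∈ (U : Subgroup G), u * x = x * u := by
    rintro U _ ⟨z, hz, rfl⟩
    exact ⟨z.2, fun u hu => congrArg Subtype.val (Subgroup.mem_center_iff.1 hz ⟨u, hu⟩)⟩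
  have main : ∀ k, ∀ S T : Sylow 2 G, S ≠ T →
      Nat.card G - Nat.card ↥((S : Subgroup G) ⊓ (T : Subgroup G)) ≤ k →
      (S : Subgroup G) ≤ Subgroup.centralizer (((S : Subgroup G) ⊓ (T : Subgroup G) : Subgroup G) : Set G) := by
    intro k
    induction k using Nat.strong_induction_on with
    | _ k ih =>
    intro S T hST hk
    obtain ⟨D, hD⟩ : ∃ D : Subgroup G, D = (S : Subgroup G) ⊓ (T : Subgroup G) := ⟨_, rfl⟩
    rw [← hD] at hk ⊢
    obtain ⟨U, hU⟩ := hCI S T hST
    rw [← hD] at hU
    have hUD : ∀ d ∈ D, d ∈ (U : Subgroup G) ∧ ∀ u ∈ (U : Subgroup G), u * d = d * u :=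
      fun d hd => hcen U d (hU hd)
    have hUC : (U : Subgroup G) ≤ Subgroup.centralizer (D : Set G) := fun u hu =>
      Subgroup.mem_centralizer_iff.2 fun d hd => ((hUD d hd).2 u hu).symm
    by_cases hSU : S = U
    · rw [hSU]; exact hUC
    have hDS : D ≤ S := hD ▸ inf_le_left
    have step : ∀ V : Sylow 2 G, S ≠ V → D < (S : Subgroup G) ⊓ (V : Subgroup G) →
        (S : Subgroup G) ≤ Subgroup.centralizer (D : Set G) := by
      intro V hSV hlt
      have h1 : Nat.card D < Nat.card ↥((S : Subgroup G) ⊓ (V : Subgroup G)) :=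
        lt_of_le_of_ne (Subgroup.card_le_of_le hlt.le)
          fun h => hlt.ne (Subgroup.eq_of_le_of_card_ge hlt.le h.ge)
      have h2 := Subgroup.card_le_card_group ((S : Subgroup G) ⊓ (V : Subgroup G))
      exact (ih _ (by omega) S V hSV le_rfl).trans (Subgroup.centralizer_le hlt.le)
    by_cases hlt : D < (S : Subgroup G) ⊓ (U : Subgroup G)
    · exact step U hSU hlt
    obtain ⟨R, hR⟩ : ∃ R : Subgroup G, R = (S : Subgroup G) ⊓ Subgroup.normalizer (D : Set G) := ⟨_, rfl⟩
    have hDne : D.subgroupOf (S : Subgroup G) < ⊤ := by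
      refine lt_top_iff_ne_top.2 fun h => hST ?_
      have h1 : (S : Subgroup G) ≤ T := (Subgroup.subgroupOf_eq_top.1 h).trans (hD ▸ inf_le_right)
      exact (Sylow.ext (S.3 T.2 h1)).symm
    haveI : Group.IsNilpotent (S : Subgroup G) := S.2.isNilpotent
    obtain ⟨r, hrN, hrD⟩ := SetLike.exists_of_lt (Group.normalizerCondition_of_isNilpotent _ hDne)
    have hDR : D < R := by
      refine lt_of_le_of_ne (hR ▸ le_inf hDS Subgroup.le_normalizer) fun he => hrD ?_
      have h1 : (r : G) ∈ R := by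
        rw [hR]
        refine ⟨r.2, Subgroup.mem_normalizer_iff.2 fun d => ⟨fun hd => ?_, fun hd => ?_⟩⟩
        · exact (Subgroup.mem_normalizer_iff.1 hrN ⟨d, hDS hd⟩).1 hd
        · have hd' : d ∈ (S : Subgroup G) := by
            have := mul_mem (mul_mem (inv_mem r.2) (hDS hd)) r.2
            simpa [mul_assoc] using this
          exact (Subgroup.mem_normalizer_iff.1 hrN ⟨d, hd'⟩).2 hd
      rw [← he] at h1
      exact h1
    have hUN : (U : Subgroup G) ≤ Subgroup.normalizer (D : Set G) := fun u hu =>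
      Subgroup.mem_normalizer_iff.2 fun d => by
        have hc : ∀ e ∈ D, u * e = e * u := fun e he => (hUD e he).2 u hu
        refine ⟨fun hd => by rwa [hc d hd, mul_inv_cancel_right], fun hd => ?_⟩
        have e := hc _ hd
        have : u * d * u⁻¹ = d := by
          refine mul_left_cancel (a := u) (e.trans ?_)
          group
        rwa [this] at hd
    have hi : ¬ 2 ∣ (U : Subgroup G).relIndex (Subgroup.normalizer (D : Set G)) :=
      fun hdd => U.not_dvd_index (hdd.trans (Dvd.intro _ (Subgroup.relIndex_mul_index hUN)))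
    obtain ⟨n, hn, hnR⟩ := CfsgLib.Fusion.exists_conj_le_of_not_dvd_relIndex (p := 2) U.2 hUN hi
      (S.2.to_le (show R ≤ S from hR ▸ inf_le_left)) (hR ▸ inf_le_right)
    have hV : ∀ x, x ∈ ((n⁻¹ • U : Sylow 2 G) : Subgroup G) ↔ n * x * n⁻¹ ∈ (U : Subgroup G) := by
      intro x
      rw [Sylow.coe_subgroup_smul, Subgroup.mem_pointwise_smul_iff_inv_smul_mem]
      simp [MulAut.smul_def]
    by_cases hSV : S = n⁻¹ • U
    · intro s hs
      refine Subgroup.mem_centralizer_iff.2 fun d hd => ?_
      have h1 : n * d * n⁻¹ ∈ D := (Subgroup.mem_normalizer_iff.1 hn d).1 hd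
      have h2 := (hUD _ h1).2 _ ((hV s).1 (by rw [← hSV]; exact hs))
      apply mul_left_cancel (a := n)
      apply mul_right_cancel (b := n⁻¹)
      calc n * (d * s) * n⁻¹ = n * d * n⁻¹ * (n * s * n⁻¹) := by group
        _ = n * s * n⁻¹ * (n * d * n⁻¹) := h2.symm
        _ = n * (s * d) * n⁻¹ := by group
    refine step _ hSV (hDR.trans_le (le_inf (hR ▸ inf_le_left) fun x hx => (hV x).2 ?_))
    exact hnR ⟨x, hx, rfl⟩
  have hZ : ∀ S T : Sylow 2 G, S ≠ T → (S : Subgroup G) ⊓ (T : Subgroup G) ≤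
      (Subgroup.center ↥(S : Subgroup G)).map (S : Subgroup G).subtype := by
    intro S T hST x hx
    refine ⟨⟨x, hx.1⟩, Subgroup.mem_center_iff.2 fun s => Subtype.ext ?_, rfl⟩
    exact (Subgroup.mem_centralizer_iff.1 (main _ S T hST le_rfl s.2) x hx).symm
  refine ⟨fun x hx P hP hPx => ?_, fun T hT => le_inf (hZ S T (Ne.symm hT)) ?_⟩
  · have hPN : P ≤ Subgroup.normalizer ((Subgroup.zpowers x : Subgroup G) : Set G) := fun q hq =>
      Subgroup.mem_normalizer_iff.2 fun d => by
        have hqx : Commute q x := Subgroup.mem_centralizer_singleton_iff.1 (hPx hq)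
        refine ⟨fun hd => ?_, fun hd => ?_⟩
        · obtain ⟨k, rfl⟩ := Subgroup.mem_zpowers_iff.1 hd
          rwa [(hqx.zpow_right k).eq, mul_inv_cancel_right]
        · obtain ⟨k, hk⟩ := Subgroup.mem_zpowers_iff.1 hd
          have : d = x ^ k := by
            apply mul_left_cancel (a := q)
            rw [(hqx.zpow_right k).eq, hk, inv_mul_cancel_right]
          exact this ▸ Subgroup.zpow_mem_zpowers x k
    have hQ : IsPGroup 2 ↥(P ⊔ Subgroup.zpowers x) :=
      hP.to_sup_of_normal_right' (S.2.to_le (Subgroup.zpowers_le.2 hx)) hPN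
    obtain ⟨T, hT⟩ := hQ.exists_le_sylow
    by_cases hTS : S = T
    · exact Subgroup.card_le_of_le (le_inf (le_sup_left.trans (hTS ▸ hT)) hPx)
    · have hle : (S : Subgroup G) ≤ Subgroup.centralizer ({x} : Set G) := fun s hs =>
        Subgroup.mem_centralizer_singleton_iff.2
          ((hcen S x (hZ S T hTS ⟨hx, hT (le_sup_right (a := P) (Subgroup.mem_zpowers x))⟩)).2 s hs)
      rw [inf_eq_left.2 hle]
      obtain ⟨U, hU⟩ := hP.exists_le_sylow
      exact (Subgroup.card_le_of_le hU).trans (Nat.card_congr (U.equiv S).toEquiv).le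
  · rw [inf_comm]; exact hZ T S hT

end Cfsg.Agent.S3183
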