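import Cfsg.Statements.S3190
import Cfsg.Agent.Lib.Coprime.Solvable
import Mathlib.Tactic.Group


set_option autoImplicit false
open Cfsg

namespace Cfsg.Agent.S3190

/-- Let p be an odd prime and, inside a finite group, let P be a p-subgroup normalized by a Klein four-group T. Let R be a subgroup of P, normal in P and normalized by T, such that P is the product of R with the centralizer of T in P. If T centralizes the centre of P, then T centralizes the centre of R. -/
theorem result {X : Type*} [Group X] [Finite X]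
    {p : ℕ} (hp : p.Prime) (hodd : Odd p) (P T R : Subgroup X) (hP : IsPGroup p ↥P) (hT : IsKleinFour ↥T)
    (hTP : T ≤ Subgroup.normalizer (P : Set X)) (hRP : R ≤ P) (hRn : (R.subgroupOf P).Normal)
    (hTR : T ≤ Subgroup.normalizer (R : Set X)) (hfac : R ⊔ (P ⊓ Subgroup.centralizer (T : Set X)) = P)
    (hZ : T ≤ Subgroup.centralizer (((Subgroup.center ↥P).map P.subtype : Subgroup X) : Set X)) :
    T ≤ Subgroup.centralizer (((Subgroup.center ↥R).map R.subtype : Subgroup X) : Set X) := by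
  haveI : Fact p.Prime := ⟨hp⟩
  haveI := hT
  haveI := hRn
  haveI : Group.IsNilpotent P := hP.isNilpotent
  intro t ht
  rw [Subgroup.mem_centralizer_iff]
  rintro _ ⟨⟨z, hzR⟩, hzc, rfl⟩
  show z * t = t * z
  have hzc' : ∀ r ∈ R, r * z = z * r := fun r hr =>
    congrArg Subtype.val (Subgroup.mem_center_iff.1 hzc ⟨r, hr⟩)
  have htt : t * t = 1 := congrArg Subtype.val (IsKleinFour.mul_self (⟨t, ht⟩ : T))
  have hti : t⁻¹ = t := inv_eq_of_mul_eq_one_right htt
  let W : Subgroup X :=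
    { carrier := {w | w ∈ R ∧ (∀ r ∈ R, r * w = w * r) ∧ t * w * t⁻¹ = w⁻¹}
      one_mem' := ⟨one_mem R, fun r _ => by simp, by simp⟩
      mul_mem' := fun {a b} ha hb => ⟨mul_mem ha.1 hb.1,
        fun r hr => by rw [← mul_assoc, ha.2.1 r hr, mul_assoc, hb.2.1 r hr, mul_assoc],
        by rw [show t * (a * b) * t⁻¹ = (t * a * t⁻¹) * (t * b * t⁻¹) by group, ha.2.2, hb.2.2,
          ← mul_inv_rev, hb.2.1 a ha.1]⟩
      inv_mem' := fun {a} ha => ⟨inv_mem ha.1, fun r hr => (Commute.inv_right (ha.2.1 r hr) :),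
        by rw [show t * a⁻¹ * t⁻¹ = (t * a * t⁻¹)⁻¹ by group, ha.2.2]⟩ }
  have hWP : W ≤ P := fun w hw => hRP hw.1
  have hRconj : ∀ q ∈ P, ∀ r ∈ R, q * r * q⁻¹ ∈ R := fun q hq r hr =>
    hRn.conj_mem ⟨r, hRP hr⟩ hr ⟨q, hq⟩
  have hconj : ∀ q ∈ P, (∀ w ∈ W, t * (q * w * q⁻¹) * t⁻¹ = q * (t * w * t⁻¹) * q⁻¹) →
      ∀ w ∈ W, q * w * q⁻¹ ∈ W := by
    intro q hq hqt w hw
    refine ⟨hRconj q hq w hw.1, fun r hr => ?_, ?_⟩
    · have h1 : q⁻¹ * r * q ∈ R := by simpa using hRconj q⁻¹ (inv_mem hq) r hr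
      have h2 := hw.2.1 _ h1
      calc r * (q * w * q⁻¹) = q * (q⁻¹ * r * q * w) * q⁻¹ := by group
        _ = q * (w * (q⁻¹ * r * q)) * q⁻¹ := by rw [h2]
        _ = _ := by group
    · rw [hqt w hw, hw.2.2]; group
  have hPN : P ≤ Subgroup.normalizer (W : Set X) := by
    rw [← hfac]
    refine sup_le (fun r hr => ?_) (fun q hq => ?_)
    · rw [Subgroup.mem_normalizer_iff]
      intro w
      refine ⟨fun hw => by rwa [hw.2.1 r hr, mul_inv_cancel_right], fun hw => ?_⟩
      have h := hw.2.1 r hr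
      have : r * w * r⁻¹ = w := by
        refine mul_left_cancel (a := r) (h.trans ?_)
        group
      rwa [this] at hw
    · have hqi : ∀ {u}, u ∈ P ⊓ Subgroup.centralizer (T : Set X) → ∀ w ∈ W, u * w * u⁻¹ ∈ W := by
        intro u hu
        refine hconj u hu.1 fun w _ => ?_
        have hc : t * u = u * t := Subgroup.mem_centralizer_iff.1 hu.2 t ht
        calc t * (u * w * u⁻¹) * t⁻¹ = (t * u) * w * (t * u)⁻¹ := by group
          _ = (u * t) * w * (u * t)⁻¹ := by rw [hc]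
          _ = _ := by group
      rw [Subgroup.mem_normalizer_iff]
      intro w
      refine ⟨fun hw => hqi hq w hw, fun hw => ?_⟩
      have := hqi (inv_mem hq) _ hw
      simpa [mul_assoc] using this
  haveI : (W.subgroupOf P).Normal := Subgroup.normal_subgroupOf_of_le_normalizer hPN
  have hW1 : W.subgroupOf P = ⊥ := by
    by_contra hne
    refine CfsgLib.Coprime.nilpotent_inf_center_ne_bot _ hne (eq_bot_iff.2 fun w hw => ?_)
    have hw2 : ((w : P) : X) ∈ W := hw.1
    have hc := Subgroup.mem_centralizer_iff.1 (hZ ht) (w : X) ⟨w, hw.2, rfl⟩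
    have h1 := hw2.2.2
    rw [← hc, mul_inv_cancel_right] at h1
    have h2 : (w : P) ^ 2 = 1 := Subtype.ext (by
      show (w : X) ^ 2 = 1
      rw [pow_two]; nth_rewrite 2 [h1]; exact mul_inv_cancel _)
    obtain ⟨k, hk⟩ := IsPGroup.iff_orderOf.1 hP w
    rcases (Nat.dvd_prime Nat.prime_two).1 (orderOf_dvd_of_pow_eq_one h2) with h3 | h3
    · rw [Subgroup.mem_bot]; exact orderOf_eq_one_iff.1 h3
    · rw [h3] at hk
      have : Odd (p ^ k) := hodd.pow
      rw [← hk] at this
      exact absurd this (by decide)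
  have hzt : t * z * t⁻¹ ∈ R := (Subgroup.mem_normalizer_iff.1 (hTR ht) z).1 hzR
  have hcz : ∀ r ∈ R, r * (t * z * t⁻¹) = (t * z * t⁻¹) * r := by
    intro r hr
    have h1 := hzc' _ ((Subgroup.mem_normalizer_iff.1 (hTR ht) r).1 hr)
    rw [hti] at h1 ⊢
    calc r * (t * z * t) = t * ((t * r * t) * z) * t := by
          simp only [← mul_assoc, htt, one_mul]
      _ = t * (z * (t * r * t)) * t := by rw [h1]
      _ = t * z * t * r * (t * t) := by group
      _ = _ := by rw [htt, mul_one]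
  have hwW : z⁻¹ * (t * z * t⁻¹) ∈ W := by
    refine ⟨mul_mem (inv_mem hzR) hzt, fun r hr => ?_, ?_⟩
    · exact ((Commute.inv_right (hzc' r hr)).mul_right (hcz r hr) :)
    · rw [mul_inv_rev, inv_inv, hti]
      calc t * (z⁻¹ * (t * z * t)) * t = t * z⁻¹ * t * z * (t * t) := by group
        _ = (t * z * t)⁻¹ * z := by rw [htt, mul_one, mul_inv_rev, mul_inv_rev, hti, ← mul_assoc]
  have h1 : z⁻¹ * (t * z * t⁻¹) = 1 := congrArg Subtype.val
    (show (⟨_, hWP hwW⟩ : P) = 1 from Subgroup.mem_bot.1 (hW1 ▸ (show (⟨_, hWP hwW⟩ : P) ∈ W.subgroupOf P from hwW)))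
  rw [inv_mul_eq_one] at h1
  calc z * t = t * z * t⁻¹ * t := by rw [← h1]
    _ = t * z := by rw [inv_mul_cancel_right]

end Cfsg.Agent.S3190
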