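import Cfsg.Statements.S3192
import Cfsg.Agent.Lib.CIT.ThreeSizes.Main
import Cfsg.Agent.Lib.Classical.PSL2ClassSizes

set_option autoImplicit false
open Cfsg

namespace Cfsg.Agent.S3192

/-- Simple groups of conjugate type rank three. For a finite group G consider the set of indices of the centralizers of the non-central elements of G. Then G is a non-abelian simple group for which this set has exactly three members if and only if G is isomorphic to PSL(2, 2^m) for some m ≥ 2. -/
theorem result (G : Type*) [Group G] [Finite G] :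
    (IsSimpleGroup G ∧ ¬ IsMulCommutative G ∧
        Set.ncard {m : ℕ | ∃ x : G, x ∉ Subgroup.center G ∧ m = (Subgroup.centralizer ({x} : Set G)).index} = 3) ↔
      ∃ (m : ℕ) (F : Type) (_ : Field F) (_ : Fintype F), 2 ≤ m ∧ Fintype.card F = 2 ^ m ∧
        Nonempty (G ≃* Matrix.ProjectiveSpecialLinearGroup (Fin 2) F) := by
  constructor
  · rintro ⟨hsimp, hna, h3⟩
    haveI := hsimp
    refine CfsgLib.CIT.ThreeSizes.psl_of_three hna ?_
    rw [← h3]
    have hz := CfsgLib.CIT.ThreeSizes.center_eq_bot hna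
    have hidx : ∀ x : G, (Subgroup.centralizer ({x} : Set G)).index =
        Nat.card G / CfsgLib.CIT.ThreeSizes.cc x := fun x => by
      refine (Nat.div_eq_of_eq_mul_left Nat.card_pos ?_).symm
      rw [mul_comm]; exact (Subgroup.card_mul_index _).symm
    have hset : {m : ℕ | ∃ x : G, x ∉ Subgroup.center G ∧ m = (Subgroup.centralizer ({x} : Set G)).index} =
        (fun v => Nat.card G / v) '' {v : ℕ | ∃ x : G, x ≠ 1 ∧ CfsgLib.CIT.ThreeSizes.cc x = v} := by
      ext v
      simp only [Set.mem_ofPred_eq, Set.mem_image, hz, Subgroup.mem_bot]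
      constructor
      · rintro ⟨x, hx, rfl⟩
        exact ⟨_, ⟨x, hx, rfl⟩, (hidx x).symm⟩
      · rintro ⟨_, ⟨x, hx, rfl⟩, rfl⟩
        exact ⟨x, hx, (hidx x).symm⟩
    rw [hset]
    refine (Set.InjOn.ncard_image ?_).symm
    rintro _ ⟨x, -, rfl⟩ _ ⟨y, -, rfl⟩ h
    have h' : (Subgroup.centralizer ({x} : Set G)).index = (Subgroup.centralizer ({y} : Set G)).index := by
      rw [hidx, hidx]; exact h
    have h1 := Subgroup.card_mul_index (Subgroup.centralizer ({x} : Set G))
    have h2 := Subgroup.card_mul_index (Subgroup.centralizer ({y} : Set G))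
    rw [h'] at h1
    exact Nat.eq_of_mul_eq_mul_right (Nat.pos_of_ne_zero Subgroup.index_ne_zero_of_finite) (h1.trans h2.symm)
  · rintro ⟨m, F, iF, iF', hm, hF, ⟨e⟩⟩
    have h2 : 2 ∣ Fintype.card F := hF ▸ dvd_pow_self 2 (by omega)
    have h4 : 4 ≤ Fintype.card F := hF ▸ (Nat.pow_le_pow_right (by norm_num : 0 < 2) hm)
    haveI hP : IsSimpleGroup (Matrix.ProjectiveSpecialLinearGroup (Fin 2) F) :=
      Matrix.ProjectiveSpecialLinearGroup.rank_two_simple (by rw [Nat.card_eq_fintype_card]; omega)
    haveI := e.toEquiv.nontrivial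
    haveI hG : IsSimpleGroup G := e.isSimpleGroup
    have hd : Nat.gcd 2 (Fintype.card F - 1) = 1 := by
      rw [Nat.gcd_rec, show (Fintype.card F - 1) % 2 = 1 by omega]; rfl
    have hcases : ∀ A, CfsgLib.Classical.PSL2ClassSizes.size (F := F) A = 1 ∨
        CfsgLib.Classical.PSL2ClassSizes.size A = Fintype.card F ^ 2 - 1 ∨
        CfsgLib.Classical.PSL2ClassSizes.size A = Fintype.card F * (Fintype.card F + 1) ∨
        CfsgLib.Classical.PSL2ClassSizes.size A = Fintype.card F * (Fintype.card F - 1) := by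
      intro A
      rcases CfsgLib.Classical.PSL2ClassSizes.size_cases A with ⟨-, h⟩ | h | ⟨-, h, -⟩ | ⟨-, h, -⟩ | h | h
      · exact Or.inl h
      · rw [hd, Nat.div_one] at h; exact Or.inr (Or.inl h)
      · omega
      · omega
      · exact Or.inr (Or.inr (Or.inl h))
      · exact Or.inr (Or.inr (Or.inr h))
    have heq : ∀ x : G, (Subgroup.centralizer ({x} : Set G)).index =
        (Subgroup.centralizer ({e x} : Set (Matrix.ProjectiveSpecialLinearGroup (Fin 2) F))).index := by
      intro x
      rw [← CfsgLib.Char.card_isConj, ← CfsgLib.Char.card_isConj]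
      refine Nat.card_congr (e.toEquiv.subtypeEquiv fun y => ⟨fun h => e.toMonoidHom.map_isConj h, fun h => ?_⟩)
      have := e.symm.toMonoidHom.map_isConj h
      simpa using this
    have h1 : ∀ q : ℕ, 4 ≤ q → q ^ 2 - 1 ≠ q * (q + 1) ∧ q ^ 2 - 1 ≠ q * (q - 1) ∧
        q * (q + 1) ≠ q * (q - 1) ∧ q ^ 2 - 1 ≠ 1 ∧ q * (q + 1) ≠ 1 ∧ q * (q - 1) ≠ 1 := by
      intro q hq
      obtain ⟨r, rfl⟩ : ∃ r, q = r + 4 := ⟨q - 4, by omega⟩
      have ea : (r + 4) ^ 2 - 1 = r * r + 8 * r + 15 := by rw [show (r + 4) ^ 2 = r * r + 8 * r + 15 + 1 by ring]; rfl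
      have eb : (r + 4) * (r + 4 - 1) = r * r + 7 * r + 12 := by rw [show r + 4 - 1 = r + 3 from rfl]; ring
      have ec : (r + 4) * (r + 4 + 1) = r * r + 9 * r + 20 := by ring
      rw [ea, eb, ec]
      omega
    obtain ⟨d1, d2, d3, d4, d5, d6⟩ := h1 _ h4
    have hidx1 : ∀ x : G, x ∈ Subgroup.center G → (Subgroup.centralizer ({x} : Set G)).index = 1 := fun x hx =>
      Subgroup.index_eq_one.2 (eq_top_iff.2 fun g _ =>
        Subgroup.mem_centralizer_singleton_iff.2 (Subgroup.mem_center_iff.1 hx g))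
    have hna : ¬ IsMulCommutative G := fun h => by
      obtain ⟨A, hA⟩ := CfsgLib.Classical.PSL2ClassSizes.exists_nonsplit (F := F) h4
      change (Subgroup.centralizer
        ({CfsgLib.PSL2Two.π A} : Set (Matrix.ProjectiveSpecialLinearGroup (Fin 2) F))).index = _ at hA
      rw [← e.apply_symm_apply (CfsgLib.PSL2Two.π A), ← heq,
        hidx1 _ (Subgroup.mem_center_iff.2 fun g => h.is_comm.comm g _)] at hA
      exact d6 hA.symm
    refine ⟨hG, hna, ?_⟩
    rw [Set.ncard_eq_three]
    refine ⟨Fintype.card F ^ 2 - 1, Fintype.card F * (Fintype.card F + 1),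
      Fintype.card F * (Fintype.card F - 1), d1, d2, d3, ?_⟩
    ext v
    simp only [Set.mem_ofPred_eq, Set.mem_insert_iff, Set.mem_singleton_iff]
    constructor
    · rintro ⟨x, hx, rfl⟩
      obtain ⟨A, hA⟩ := CfsgLib.PSL2Two.π_surjective (e x)
      rw [heq, ← hA]
      rcases hcases A with h | h | h | h
      · exfalso
        refine hx (Subgroup.mem_center_iff.2 fun g => Subgroup.mem_centralizer_singleton_iff.1 ?_)
        have h' : (Subgroup.centralizer ({x} : Set G)).index = 1 := by rw [heq, ← hA]; exact h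
        rw [Subgroup.index_eq_one.1 h']
        trivial
      · exact Or.inl h
      · exact Or.inr (Or.inl h)
      · exact Or.inr (Or.inr h)
    · intro hv
      have key : ∀ A : CfsgLib.PSL2Two.SL2 F, CfsgLib.Classical.PSL2ClassSizes.size A = v → v ≠ 1 →
          ∃ x : G, x ∉ Subgroup.center G ∧ v = (Subgroup.centralizer ({x} : Set G)).index := by
        intro A hA hv1
        have h' : (Subgroup.centralizer ({e.symm (CfsgLib.PSL2Two.π A)} : Set G)).index = v := by
          rw [heq, e.apply_symm_apply]; exact hA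
        exact ⟨_, fun hc => hv1 (h'.symm.trans (hidx1 _ hc)), h'.symm⟩
      rcases hv with rfl | rfl | rfl
      · obtain ⟨A, hA⟩ := CfsgLib.Classical.PSL2ClassSizes.exists_unipotent (F := F)
        rw [hd, Nat.div_one] at hA
        exact key A hA d4
      · obtain ⟨A, hA⟩ := CfsgLib.Classical.PSL2ClassSizes.exists_split (F := F) h4 (by omega)
        exact key A hA d5
      · obtain ⟨A, hA⟩ := CfsgLib.Classical.PSL2ClassSizes.exists_nonsplit (F := F) h4
        exact key A hA d6

end Cfsg.Agent.S3192
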