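import Cfsg.Statements.S3195
import Cfsg.Agent.Lib.Invol.InvertedOdd
import Mathlib.Tactic.Group


set_option autoImplicit false
open Cfsg

namespace Cfsg.Agent.S3195

/-- Let A be a Klein four-subgroup of a finite group G. If every G-conjugate of every involution of A commutes with some involution of A (its centralizer meets A nontrivially), then A meets the largest normal 2-subgroup O₂(G) nontrivially. -/
theorem result {G : Type*} [Group G] [Finite G]
    (A : Subgroup G) (hA : IsKleinFour ↥A)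
    (h : ∀ a ∈ A, a ≠ 1 → ∀ g : G, A ⊓ Subgroup.centralizer ({g * a * g⁻¹} : Set G) ≠ ⊥) :
    A ⊓ Cfsg.pCore 2 G ≠ ⊥ := by
  haveI := hA
  intro hbot
  have hA2 : ∀ a ∈ A, a * a = 1 := fun a ha => congrArg Subtype.val (IsKleinFour.mul_self (⟨a, ha⟩ : A))
  have hinvol : ∀ a ∈ A, a ≠ 1 → orderOf a = 2 := fun a ha h1 =>
    CfsgLib.Invol.invol_iff.2 ⟨hA2 a ha, h1⟩
  have hAc : ∀ a ∈ A, ∀ b ∈ A, Commute a b := by
    intro a ha b hb
    have h2 := hA2 _ (mul_mem ha hb)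
    have : b * a = a * b := by
      calc b * a = (a * a) * b * a * (b * b) := by rw [hA2 a ha, hA2 b hb, one_mul, mul_one]
        _ = a * (a * b * (a * b)) * b := by group
        _ = a * b := by rw [h2, mul_one]
    exact this.symm
  have key : ∀ a ∈ A, a ≠ 1 → ∀ g : G, ∃ c ∈ A, c ≠ 1 ∧ Commute c (g * a * g⁻¹) := by
    intro a ha h1 g
    obtain ⟨c, hc, hc1⟩ := (Subgroup.ne_bot_iff_exists_ne_one).1 (h a ha h1 g) |> fun ⟨c, hc⟩ => (⟨c.1, c.2, fun e => hc (Subtype.ext e)⟩ : ∃ c, c ∈ A ⊓ Subgroup.centralizer ({g * a * g⁻¹} : Set G) ∧ c ≠ 1)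
    exact ⟨c, hc.1, hc1, Subgroup.mem_centralizer_singleton_iff.1 hc.2⟩
  -- each involution of `A` inverts an element of odd order centralized by another one
  have hpair : ∀ a ∈ A, a ≠ 1 → ∃ x, x ≠ 1 ∧ Odd (orderOf x) ∧ a * x * a⁻¹ = x⁻¹ ∧
      ∃ b ∈ A, b ≠ 1 ∧ b ≠ a ∧ Commute b x := by
    intro a ha h1
    obtain ⟨x, hx1, hxo, hxa⟩ := CfsgLib.Invol.exists_odd_inverted_of_notMem_pCore (hinvol a ha h1)
      (fun hm => h1 (Subgroup.mem_bot.1 (hbot ▸ ⟨ha, hm⟩)))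
    obtain ⟨k, hk, hkk⟩ := CfsgLib.Invol.exists_sqrt_of_odd hxo
    obtain ⟨c, hc, hc1, hck⟩ := key a ha h1 k
    obtain ⟨l, rfl⟩ := Subgroup.mem_zpowers_iff.1 hk
    have hka : x ^ l * a * (x ^ l)⁻¹ = x * a := by
      have h2 := CfsgLib.Invol.conj_zpow_of_inverts hxa l
      have h3 : a * (x ^ l)⁻¹ = x ^ l * a := by
        have h4 : a * x ^ l * a⁻¹ = (x ^ l)⁻¹ := h2.trans (zpow_neg x l)
        calc a * (x ^ l)⁻¹ = a * (a * x ^ l * a⁻¹) := by rw [h4]
          _ = (a * a) * x ^ l * a⁻¹ := by group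
          _ = x ^ l * a := by rw [hA2 a ha, one_mul, CfsgLib.Invol.invol_inv (hinvol a ha h1)]
      rw [mul_assoc, h3, ← mul_assoc, hkk]
    rw [hka] at hck
    have hca : c ≠ a := by
      intro e
      rw [e] at hck
      apply hx1
      refine CfsgLib.Invol.eq_one_of_odd_of_mul_self hxo ?_
      have : a * x * a⁻¹ = x := by
        have := hck.eq
        rw [mul_assoc x, hA2 a ha, mul_one, ← mul_assoc] at this
        rwa [CfsgLib.Invol.invol_inv (hinvol a ha h1)]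
      rw [hxa] at this
      exact mul_eq_one_iff_eq_inv.2 this.symm
    refine ⟨x, hx1, hxo, hxa, c, hc, hc1, hca, ?_⟩
    have := hck.mul_right (hAc c hc a ha).inv_right
    rwa [mul_inv_cancel_right] at this
  obtain ⟨a₀, ha₀, ha₀1⟩ : ∃ a ∈ A, a ≠ 1 := by
    haveI : Nontrivial A := Finite.one_lt_card_iff_nontrivial.1 (by rw [hA.card_four]; norm_num)
    obtain ⟨a, ha⟩ := exists_ne (1 : A)
    exact ⟨a, a.2, fun e => ha (Subtype.ext e)⟩
  obtain ⟨x, hx1, hxo, hxa₀, b, hb, hb1, hba, hbx⟩ := hpair a₀ ha₀ ha₀1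
  obtain ⟨y, hy1, hyo, hyb, a, ha, ha1, hab, hay⟩ := hpair b hb hb1
  have hthree : ∀ c ∈ A, c ≠ 1 → ∀ u ∈ A, u ≠ 1 → ∀ v ∈ A, v ≠ 1 → u ≠ v → c = u ∨ c = v ∨ c = u * v := by
    intro c hc hc1 u hu hu1 v hv hv1 huv
    by_contra hcon
    push Not at hcon
    have huv1 : u * v ≠ 1 := fun e => huv ((mul_eq_one_iff_eq_inv.1 e).trans
      (CfsgLib.Invol.invol_inv (hinvol v hv hv1)))
    have h5 : Nat.card A < 5 := by rw [hA.card_four]; norm_num
    haveI := Fintype.ofFinite A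
    classical
    have hsub : ({⟨1, one_mem A⟩, ⟨c, hc⟩, ⟨u, hu⟩, ⟨v, hv⟩, ⟨u * v, mul_mem hu hv⟩} : Finset A).card ≤ Nat.card A := by
      rw [Nat.card_eq_fintype_card]; exact Finset.card_le_univ _
    rw [Finset.card_insert_of_notMem (by simp [Subtype.ext_iff, Ne.symm hc1, Ne.symm hu1, Ne.symm hv1, Ne.symm huv1]),
      Finset.card_insert_of_notMem (by simp [Subtype.ext_iff, hcon.1, hcon.2.1, hcon.2.2]),
      Finset.card_insert_of_notMem (by simp [Subtype.ext_iff, huv, hv1]),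
      Finset.card_insert_of_notMem (by simp [Subtype.ext_iff, hu1]),
      Finset.card_singleton] at hsub
    omega
  -- `a` inverts `x`
  have hax : a * x * a⁻¹ = x⁻¹ := by
    rcases hthree a ha ha1 a₀ ha₀ ha₀1 b hb hb1 (Ne.symm hba) with e | e | e
    · rw [e]; exact hxa₀
    · exact absurd e hab
    · rw [e, show a₀ * b * x * (a₀ * b)⁻¹ = a₀ * (b * x * b⁻¹) * a₀⁻¹ by group, hbx.eq,
        mul_inv_cancel_right, hxa₀]
  clear hxa₀
  have hia : a⁻¹ = a := CfsgLib.Invol.invol_inv (hinvol a ha ha1)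
  have hib : b⁻¹ = b := CfsgLib.Invol.invol_inv (hinvol b hb hb1)
  have hab' : Commute a b := hAc a ha b hb
  have hsa : SemiconjBy a x x⁻¹ := mul_inv_eq_iff_eq_mul.1 hax
  have hsb : SemiconjBy b y y⁻¹ := mul_inv_eq_iff_eq_mul.1 hyb
  have hcases : ∀ u : G, ∀ c ∈ A, c ≠ 1 → Commute c u → Commute a u ∨ Commute b u ∨ Commute (a * b) u := by
    intro u c hc hc1 hcu
    rcases hthree c hc hc1 a ha ha1 b hb hb1 hab with rfl | rfl | rfl <;> tauto
  obtain ⟨k, hk, hkk⟩ := CfsgLib.Invol.exists_sqrt_of_odd hxo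
  obtain ⟨l, hl, hll⟩ := CfsgLib.Invol.exists_sqrt_of_odd hyo
  obtain ⟨i, rfl⟩ := Subgroup.mem_zpowers_iff.1 hk
  obtain ⟨j, rfl⟩ := Subgroup.mem_zpowers_iff.1 hl
  have hkb : Commute b (x ^ i) := hbx.zpow_right i
  have hla : Commute a (y ^ j) := hay.zpow_right j
  have hka : a * (x ^ i)⁻¹ = x ^ i * a := by
    have := (hsa.zpow_right i).inv_right.eq
    rwa [inv_zpow, inv_inv] at this
  have hlb : b * (y ^ j)⁻¹ = y ^ j * b := by
    have := (hsb.zpow_right j).inv_right.eq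
    rwa [inv_zpow, inv_inv] at this
  have eb : y ^ j * b * (y ^ j)⁻¹ = y * b := by rw [mul_assoc, hlb, ← mul_assoc, hll]
  have exa : Commute b (y * b) → False := fun hc => by
    apply hy1
    refine CfsgLib.Invol.eq_one_of_odd_of_mul_self hyo (mul_eq_one_iff_eq_inv.2 ?_)
    have h2 : Commute b y := by
      have := hc.mul_right (Commute.refl b).inv_right
      rwa [mul_inv_cancel_right] at this
    rw [← hyb, h2.eq, mul_inv_cancel_right]
  -- `d = y b` commutes with `x`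
  have hdx : Commute (y * b) x := by
    obtain ⟨c, hc, hc1, hcd⟩ := key b hb hb1 ((x ^ i)⁻¹ * y ^ j)
    have hcd' : Commute (x ^ i * c * (x ^ i)⁻¹) (y * b) := by
      have := hcd.map (MulAut.conj (x ^ i))
      simp only [MulAut.conj_apply] at this
      rwa [show x ^ i * ((x ^ i)⁻¹ * y ^ j * b * ((x ^ i)⁻¹ * y ^ j)⁻¹) * (x ^ i)⁻¹ =
        y ^ j * b * (y ^ j)⁻¹ by group, eb] at this
    have hda : Commute a (y * b) := hay.mul_right hab'
    rcases hthree c hc hc1 a ha ha1 b hb hb1 hab with rfl | rfl | rfl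
    · rw [mul_assoc, hka, ← mul_assoc, hkk] at hcd'
      have := hcd'.mul_left hda.inv_left
      rw [mul_inv_cancel_right] at this
      exact this.symm
    · rw [← hkb.eq, mul_inv_cancel_right] at hcd'
      exact (exa hcd').elim
    · have e : x ^ i * (a * b) * (x ^ i)⁻¹ = x * (a * b) := by
        rw [hab'.eq, ← mul_assoc (x ^ i), ← hkb.eq, mul_assoc b, mul_assoc b, mul_assoc (x ^ i) a,
          hka, ← mul_assoc (x ^ i), hkk, ← mul_assoc, ← mul_assoc, hbx.eq]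
      rw [e] at hcd'
      have h2 := hcd'.map (MulAut.conj a)
      simp only [MulAut.conj_apply] at h2
      rw [show a * (x * (a * b)) * a⁻¹ = x⁻¹ * (a * b) by
        rw [← mul_assoc a x, hsa.eq, mul_assoc x⁻¹, mul_assoc x⁻¹, ((Commute.refl a).mul_right hab').eq,
          mul_inv_cancel_right],
        show a * (y * b) * a⁻¹ = y * b by rw [hda.eq, mul_inv_cancel_right]] at h2
      have h3 := hcd'.mul_left h2.inv_left
      rw [show x * (a * b) * (x⁻¹ * (a * b))⁻¹ = x * x by group] at h3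
      have h4 := h3.zpow_left i
      rw [(Commute.refl x).mul_zpow, hkk] at h4
      exact h4.symm
  have hxy : Commute x y := by
    have := hdx.symm.mul_right hbx.symm.inv_right
    rwa [mul_inv_cancel_right] at this
  -- the conjugate `x y a b` of `a b`
  obtain ⟨c, hc, hc1, hce⟩ := key (a * b) (mul_mem ha hb) (fun e => hab ((mul_eq_one_iff_eq_inv.1 e).trans hib)) (x ^ i * y ^ j)
  have e : x ^ i * y ^ j * (a * b) * (x ^ i * y ^ j)⁻¹ = x * y * (a * b) := by
    have hlk : Commute (y ^ j) (x ^ i) := hxy.symm.zpow_zpow j i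
    calc x ^ i * y ^ j * (a * b) * (x ^ i * y ^ j)⁻¹
        = x ^ i * (y ^ j * a) * (b * (y ^ j)⁻¹) * (x ^ i)⁻¹ := by group
      _ = x ^ i * (a * y ^ j) * (y ^ j * b) * (x ^ i)⁻¹ := by rw [hla.eq, hlb]
      _ = x ^ i * a * (y ^ j * y ^ j) * (b * (x ^ i)⁻¹) := by group
      _ = x ^ i * (a * y) * ((x ^ i)⁻¹ * b) := by rw [hll, hkb.inv_right.eq]; group
      _ = x ^ i * (y * a) * ((x ^ i)⁻¹ * b) := by rw [hay.eq]
      _ = x ^ i * y * (a * (x ^ i)⁻¹) * b := by group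
      _ = (x ^ i * y) * x ^ i * a * b := by rw [hka]; group
      _ = (y * x ^ i) * x ^ i * a * b := by rw [(hxy.zpow_left i).eq]
      _ = x * y * (a * b) := by rw [mul_assoc y, hkk, hxy.eq, mul_assoc]
  rw [e] at hce
  have habx : a * b * x * (a * b)⁻¹ = x⁻¹ := by
    rw [show a * b * x * (a * b)⁻¹ = a * (b * x * b⁻¹) * a⁻¹ by group, hbx.eq, mul_inv_cancel_right, hax]
  have haby : a * b * y * (a * b)⁻¹ = y⁻¹ := by
    rw [hab'.eq, show b * a * y * (b * a)⁻¹ = b * (a * y * a⁻¹) * b⁻¹ by group, hay.eq, mul_inv_cancel_right, hyb]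
  have hstrip : ∀ c ∈ A, Commute c (x * y * (a * b)) → c * x * c⁻¹ * (c * y * c⁻¹) = x * y := by
    intro c hc h2
    have h3 := h2.mul_right (hAc c hc _ (mul_mem ha hb)).inv_right
    rw [mul_inv_cancel_right] at h3
    rw [← (show c * (x * y) * c⁻¹ = c * x * c⁻¹ * (c * y * c⁻¹) by group), h3.eq, mul_inv_cancel_right]
  rcases hthree c hc hc1 a ha ha1 b hb hb1 hab with rfl | rfl | rfl
  · have h2 := hstrip c ha hce
    rw [hax, hay.eq, mul_inv_cancel_right, mul_left_inj] at h2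
    exact hx1 (CfsgLib.Invol.eq_one_of_odd_of_mul_self hxo (mul_eq_one_iff_eq_inv.2 h2.symm))
  · have h2 := hstrip c hb hce
    rw [hbx.eq, mul_inv_cancel_right, hyb, mul_right_inj] at h2
    exact hy1 (CfsgLib.Invol.eq_one_of_odd_of_mul_self hyo (mul_eq_one_iff_eq_inv.2 h2.symm))
  · have h2 := hstrip _ (mul_mem ha hb) hce
    rw [habx, haby, ← mul_inv_rev, hxy.symm.eq] at h2
    have hodd : Odd (orderOf (x * y)) := (hxo.mul hyo).of_dvd_nat hxy.orderOf_mul_dvd_mul_orderOf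
    have h3 := CfsgLib.Invol.eq_one_of_odd_of_mul_self hodd (mul_eq_one_iff_eq_inv.2 h2.symm)
    have h4 : x = y⁻¹ := mul_eq_one_iff_eq_inv.1 h3
    apply hx1
    refine CfsgLib.Invol.eq_one_of_odd_of_mul_self hxo (mul_eq_one_iff_eq_inv.2 ?_)
    rw [← hax, h4, show a * y⁻¹ * a⁻¹ = (a * y * a⁻¹)⁻¹ by group, hay.eq, mul_inv_cancel_right]

end Cfsg.Agent.S3195
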