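import Cfsg.Statements.S3196
import Cfsg.Agent.Lib.Coprime.Core
import Mathlib.FieldTheory.Finite.Basic
import Mathlib.Tactic.Group


set_option autoImplicit false
open Cfsg

namespace Cfsg.Agent.S3196

/-- Let p be a prime and K a set of subgroups of order p of a finite group G, closed under conjugation, such that at least two distinct members of K commute elementwise, and whenever two distinct members X, Y of K commute: every subgroup of order p of the group XY they generate belongs to K, and every member W of K has centralizer meeting XY nontrivially. Then some member V of K commutes elementwise with every member of K and lies in O_p(G); in particular G is not simple. -/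
theorem result {G : Type*} [Group G] [Finite G]
    {p : ℕ} (hp : p.Prime) (K : Set (Subgroup G)) (hK : ∀ X ∈ K, Nat.card ↥X = p)
    (hKc : ∀ X ∈ K, ∀ g : G, X.map (MulAut.conj g).toMonoidHom ∈ K)
    (hex : ∃ X ∈ K, ∃ Y ∈ K, X ≠ Y ∧ ∀ x ∈ X, ∀ y ∈ Y, x * y = y * x)
    (ha : ∀ X ∈ K, ∀ Y ∈ K, X ≠ Y → (∀ x ∈ X, ∀ y ∈ Y, x * y = y * x) →
      ∀ Z : Subgroup G, Z ≤ X ⊔ Y → Nat.card ↥Z = p → Z ∈ K)
    (hb : ∀ X ∈ K, ∀ Y ∈ K, X ≠ Y → (∀ x ∈ X, ∀ y ∈ Y, x * y = y * x) →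
      ∀ W ∈ K, (X ⊔ Y) ⊓ Subgroup.centralizer (W : Set G) ≠ ⊥) :
    (∃ V ∈ K, (∀ W ∈ K, ∀ v ∈ V, ∀ w ∈ W, v * w = w * v) ∧ V ≤ Cfsg.pCore p G) ∧ ¬ IsSimpleGroup G := by
  haveI : Fact p.Prime := ⟨hp⟩
  let Q : G → Prop := fun x => x ≠ 1 ∧ Subgroup.zpowers x ∈ K
  have hord : ∀ x, Q x → orderOf x = p := fun x hx => (Nat.card_zpowers x).symm.trans (hK _ hx.2)
  have hgen : ∀ X ∈ K, ∀ x ∈ X, x ≠ 1 → Subgroup.zpowers x = X := by
    intro X hX x hx hx1
    refine Subgroup.eq_of_le_of_card_ge (Subgroup.zpowers_le.2 hx) ?_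
    rw [hK X hX, Nat.card_zpowers]
    have hd : orderOf x ∣ p := by rw [← hK X hX]; exact Subgroup.orderOf_dvd_natCard X hx
    rcases (Nat.dvd_prime hp).1 hd with h | h
    · exact absurd (orderOf_eq_one_iff.1 h) hx1
    · exact h.ge
  have hexg : ∀ X ∈ K, ∃ x, Q x ∧ Subgroup.zpowers x = X := by
    intro X hX
    haveI : Nontrivial X := Finite.one_lt_card_iff_nontrivial.1 (by rw [hK X hX]; exact hp.one_lt)
    obtain ⟨x, hx⟩ := exists_ne (1 : X)
    have hx1 : (x : G) ≠ 1 := fun e => hx (Subtype.ext e)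
    exact ⟨x, ⟨hx1, by rw [hgen X hX x x.2 hx1]; exact hX⟩, hgen X hX x x.2 hx1⟩
  have hpow : ∀ x, Q x → ∀ i : ℤ, x ^ i ≠ 1 → Subgroup.zpowers (x ^ i) = Subgroup.zpowers x ∧ Q (x ^ i) := by
    intro x hx i hi
    have e := hgen _ hx.2 _ (Subgroup.zpow_mem_zpowers x i) hi
    exact ⟨e, hi, by rw [e]; exact hx.2⟩
  -- commuting passes to generators
  have hcomm : ∀ {x y : G}, Commute x y → ∀ u ∈ Subgroup.zpowers x, ∀ v ∈ Subgroup.zpowers y, u * v = v * u := by
    intro x y h u hu v hv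
    obtain ⟨i, rfl⟩ := Subgroup.mem_zpowers_iff.1 hu
    obtain ⟨j, rfl⟩ := Subgroup.mem_zpowers_iff.1 hv
    exact (h.zpow_zpow i j).eq
  have hback : ∀ x, Q x → ∀ i : ℤ, x ^ i ≠ 1 → ∀ y, Commute (x ^ i) y → Commute x y := by
    intro x hx i hi y h
    obtain ⟨k, hk⟩ := Subgroup.mem_zpowers_iff.1 ((hpow x hx i hi).1.symm ▸ Subgroup.mem_zpowers x)
    rw [← hk]; exact h.zpow_left k
  -- a subgroup of order `p` normalized by an element of order `p` is centralized by it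
  have hnorm : ∀ c r, Q c → Q r → r * c * r⁻¹ ∈ Subgroup.zpowers c → Commute r c := by
    intro c r hc hr h
    obtain ⟨k, hk⟩ := Subgroup.mem_zpowers_iff.1 h
    have hn : ∀ n : ℕ, r ^ n * c * (r ^ n)⁻¹ = c ^ (k ^ n) := by
      intro n
      induction n with
      | zero => simp
      | succ n ih =>
        rw [pow_succ' r, show r * r ^ n * c * (r * r ^ n)⁻¹ = r * (r ^ n * c * (r ^ n)⁻¹) * r⁻¹ by group,
          ih, ← conj_zpow, ← hk, ← zpow_mul, ← pow_succ']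
    have h1 := hn p
    rw [← hord r hr, pow_orderOf_eq_one, one_mul, inv_one, mul_one, hord r hr] at h1
    have h2 : ((k : ZMod p)) = 1 := by
      have h3 : c ^ (1 : ℤ) = c ^ (k ^ p) := by rw [zpow_one]; exact h1
      rw [zpow_eq_zpow_iff_modEq, hord c hc, ← ZMod.intCast_eq_intCast_iff] at h3
      push_cast at h3
      rw [ZMod.pow_card] at h3
      exact h3.symm
    have h4 : c ^ k = c ^ (1 : ℤ) := by
      rw [zpow_eq_zpow_iff_modEq, hord c hc, ← ZMod.intCast_eq_intCast_iff, h2]; norm_num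
    rw [hk, zpow_one, mul_inv_eq_iff_eq_mul] at h4
    exact h4
  -- each member is centralized by a point of every line
  have hline : ∀ x y, Q x → Q y → Commute x y → y ∉ Subgroup.zpowers x → ∀ w, Q w →
      ∃ i j : ℤ, Q (x ^ i * y ^ j) ∧ Commute (x ^ i * y ^ j) w := by
    intro x y hx hy hxy hne w hw
    have hXY : Subgroup.zpowers x ≠ Subgroup.zpowers y := fun e => hne (e ▸ Subgroup.mem_zpowers y)
    obtain ⟨v, hv, hv1⟩ := (Subgroup.ne_bot_iff_exists_ne_one).1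
      (hb _ hx.2 _ hy.2 hXY (hcomm hxy) _ hw.2) |> fun ⟨v, hv⟩ =>
        (⟨v.1, v.2, fun e => hv (Subtype.ext e)⟩ : ∃ v, v ∈ (Subgroup.zpowers x ⊔ Subgroup.zpowers y) ⊓
          Subgroup.centralizer ((Subgroup.zpowers w : Subgroup G) : Set G) ∧ v ≠ 1)
    have hprod : ∀ u ∈ Subgroup.zpowers x ⊔ Subgroup.zpowers y, ∃ i j : ℤ, u = x ^ i * y ^ j := by
      let M : Subgroup G :=
        { carrier := {u | ∃ i j : ℤ, u = x ^ i * y ^ j}
          one_mem' := ⟨0, 0, by simp⟩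
          mul_mem' := by
            rintro _ _ ⟨i, j, rfl⟩ ⟨i', j', rfl⟩
            refine ⟨i + i', j + j', ?_⟩
            rw [zpow_add, zpow_add, mul_assoc (x ^ i), ← mul_assoc (y ^ j), (hxy.zpow_zpow i' j).symm.eq]
            group
          inv_mem' := by
            rintro _ ⟨i, j, rfl⟩
            refine ⟨-i, -j, ?_⟩
            rw [mul_inv_rev, ← zpow_neg, ← zpow_neg, (hxy.zpow_zpow (-i) (-j)).eq] }
      intro u hu
      exact (sup_le (Subgroup.zpowers_le.2 (show x ∈ M from ⟨1, 0, by simp⟩))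
        (Subgroup.zpowers_le.2 (show y ∈ M from ⟨0, 1, by simp⟩)) hu :)
    obtain ⟨i, j, rfl⟩ := hprod v hv.1
    have hvp : (x ^ i * y ^ j) ^ p = 1 := by
      rw [(hxy.zpow_zpow i j).mul_pow, ← zpow_natCast, ← zpow_natCast, ← zpow_mul, ← zpow_mul,
        mul_comm i, mul_comm j, zpow_mul, zpow_mul, zpow_natCast, zpow_natCast]
      rw [← hord x hx, pow_orderOf_eq_one, hord x hx, ← hord y hy, pow_orderOf_eq_one]
      simp
    refine ⟨i, j, ⟨hv1, ha _ hx.2 _ hy.2 hXY (hcomm hxy) _ (Subgroup.zpowers_le.2 hv.1) ?_⟩, ?_⟩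
    · rw [Nat.card_zpowers, orderOf_eq_prime hvp hv1]
    · exact (Subgroup.mem_centralizer_iff.1 hv.2 w (Subgroup.mem_zpowers w)).symm
  -- a square without diagonals yields a central commutator
  have hsquare : ∀ x z w u, Q x → Q z → Q w → Q u → Commute x z → Commute z w → Commute w u → Commute u x →
      ¬ Commute x w → ¬ Commute z u → ∃ i j : ℤ, ∃ c, Q c ∧ c = x⁻¹ * (w ^ i)⁻¹ * x * w ^ i ∧
        c = u ^ j * z * (u ^ j)⁻¹ * z⁻¹ ∧ ¬ Commute x (w ^ i) ∧ Q (w ^ i) ∧ Commute c x ∧ Commute c (w ^ i) := by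
    intro x z w u hx hz hw hu hxz hzw hwu hux hxw hzu
    have hzx : z ∉ Subgroup.zpowers x := fun h => hzu (hcomm hux.symm z h u (Subgroup.mem_zpowers u))
    have hV : Q (x * z) := by
      have hXY : Subgroup.zpowers x ≠ Subgroup.zpowers z := fun e => hzx (e ▸ Subgroup.mem_zpowers z)
      have h1 : x * z ≠ 1 := fun e => hzx (by
        rw [(mul_eq_one_iff_inv_eq.1 e).symm]; exact inv_mem (Subgroup.mem_zpowers x))
      refine ⟨h1, ha _ hx.2 _ hz.2 hXY (hcomm hxz) _ (Subgroup.zpowers_le.2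
        (Subgroup.mul_mem_sup (Subgroup.mem_zpowers x) (Subgroup.mem_zpowers z))) ?_⟩
      rw [Nat.card_zpowers, orderOf_eq_prime (p := p) ?_ h1]
      rw [hxz.mul_pow, ← hord x hx, pow_orderOf_eq_one, hord x hx, ← hord z hz, pow_orderOf_eq_one, one_mul]
    have huw : u ∉ Subgroup.zpowers w := fun h => hzu (hcomm hzw z (Subgroup.mem_zpowers z) u h)
    obtain ⟨i, j, hq, hc⟩ := hline w u hw hu hwu huw (x * z) hV
    obtain ⟨c, hc'⟩ : ∃ c, c = x⁻¹ * (w ^ i)⁻¹ * x * w ^ i := ⟨_, rfl⟩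
    have hzw' : Commute z (w ^ i) := hzw.zpow_right i
    have hux' : Commute (u ^ j) x := hux.zpow_left j
    have hwu' : Commute (w ^ i) (u ^ j) := hwu.zpow_zpow i j
    have heq : x * w ^ i * (z * u ^ j) = w ^ i * x * (u ^ j * z) := by
      calc x * w ^ i * (z * u ^ j) = x * (w ^ i * z) * u ^ j := by group
        _ = x * z * (w ^ i * u ^ j) := by rw [hzw'.symm.eq]; group
        _ = w ^ i * u ^ j * (x * z) := hc.eq.symm
        _ = w ^ i * (u ^ j * x) * z := by group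
        _ = _ := by rw [hux'.eq]; group
    have hc2 : c = u ^ j * z * (u ^ j)⁻¹ * z⁻¹ := by
      rw [hc']
      apply mul_right_cancel (b := z * u ^ j)
      calc x⁻¹ * (w ^ i)⁻¹ * x * w ^ i * (z * u ^ j) = x⁻¹ * (w ^ i)⁻¹ * (x * w ^ i * (z * u ^ j)) := by group
        _ = u ^ j * z := by rw [heq]; group
        _ = _ := by group
    have hcx : Commute c x := by
      have h1 : Commute (u ^ j) x := hux'
      rw [hc2]
      exact (((h1.mul_left hxz.symm).mul_left h1.inv_left).mul_left hxz.symm.inv_left)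
    have hcw : Commute c (w ^ i) := by
      rw [hc2]
      exact (((hwu'.symm.mul_left hzw').mul_left hwu'.symm.inv_left).mul_left hzw'.inv_left)
    have hnc : ¬ Commute x (w ^ i) := by
      intro h
      have hwi : w ^ i = 1 := by
        by_contra hwi
        exact hxw ((hback w hw i hwi x h.symm).symm)
      have huj : u ^ j ≠ 1 := fun e => hq.1 (by rw [hwi, e, one_mul])
      refine hzu ((hback u hu j huj z ?_).symm)
      have e : c = 1 := by rw [hc', hwi]; group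
      rw [hc2, mul_inv_eq_one, mul_inv_eq_iff_eq_mul] at e
      exact e
    have hwi1 : w ^ i ≠ 1 := fun e => hnc (by rw [e]; exact Commute.one_right x)
    have hwQ := (hpow w hw i hwi1).2
    have hc1 : c ≠ 1 := fun e => hnc (by
      have h1 : x⁻¹ * (w ^ i)⁻¹ * x * w ^ i = 1 := hc'.symm.trans e
      calc x * w ^ i = w ^ i * x * (x⁻¹ * (w ^ i)⁻¹ * x * w ^ i) := by group
        _ = w ^ i * x := by rw [h1, mul_one])
    have hconj : (w ^ i)⁻¹ * x * w ^ i = x * c := by rw [hc']; group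
    have hxcQ : Subgroup.zpowers (x * c) ∈ K := by
      have := hKc _ hx.2 (w ^ i)⁻¹
      rw [MonoidHom.map_zpowers] at this
      rwa [show (MulAut.conj (w ^ i)⁻¹).toMonoidHom x = x * c by
        rw [← hconj]; show (w ^ i)⁻¹ * x * (w ^ i)⁻¹⁻¹ = _; rw [inv_inv]] at this
    have hne : Subgroup.zpowers x ≠ Subgroup.zpowers (x * c) := by
      intro e
      have h1 : x * c ∈ Subgroup.zpowers x := e.symm ▸ Subgroup.mem_zpowers (x * c)
      rw [← hconj] at h1
      have h2 := hnorm x (w ^ i)⁻¹ hx ⟨inv_ne_one.2 hwi1, by rw [Subgroup.zpowers_inv]; exact hwQ.2⟩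
        (by rwa [inv_inv])
      exact hnc (Commute.inv_left_iff.1 h2).symm
    have hcQ : Q c := by
      refine ⟨hc1, ha _ hx.2 _ hxcQ hne (hcomm ((Commute.refl x).mul_right hcx.symm)) _ ?_ ?_⟩
      · have h := Subgroup.mul_mem_sup (inv_mem (Subgroup.mem_zpowers x)) (Subgroup.mem_zpowers (x * c))
        rw [inv_mul_cancel_left] at h
        exact Subgroup.zpowers_le.2 h
      · rw [Nat.card_zpowers, orderOf_eq_prime (p := p) ?_ hc1]
        have h3 : (x * c) ^ p = 1 := by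
          rw [← hconj, show ((w ^ i)⁻¹ * x * w ^ i) = (w ^ i)⁻¹ * x * ((w ^ i)⁻¹)⁻¹ by rw [inv_inv],
            conj_pow, ← hord x hx, pow_orderOf_eq_one]
          group
        rw [hcx.symm.mul_pow, ← hord x hx, pow_orderOf_eq_one, one_mul, hord x hx] at h3
        exact h3
    exact ⟨i, j, c, hcQ, hc', hc2, hnc, hwQ, hcx, hcw⟩
  -- some member is central in `K`
  have hrad : ∃ v, Q v ∧ ∀ w, Q w → Commute v w := by
    by_contra hcon
    push Not at hcon
    obtain ⟨X, hX, Y, hY, hXY, hXYc⟩ := hex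
    obtain ⟨x₀, hx₀, rfl⟩ := hexg X hX
    obtain ⟨y, hy, rfl⟩ := hexg Y hY
    have hxy : Commute x₀ y := hXYc _ (Subgroup.mem_zpowers _) _ (Subgroup.mem_zpowers _)
    have hne₀ : ∀ {a b}, Q a → Q b → b ∈ Subgroup.zpowers a → Subgroup.zpowers a = Subgroup.zpowers b :=
      fun {a b} ha hb h => (hgen _ ha.2 b h hb.1).symm
    obtain ⟨w, hw, hyw⟩ := hcon y hy
    obtain ⟨a₀, b₀, hq, hqw⟩ := hline y x₀ hy hx₀ hxy.symm (fun h => hXY (hne₀ hy hx₀ h).symm) w hw
    obtain ⟨q, hq'⟩ : ∃ q, q = y ^ a₀ * x₀ ^ b₀ := ⟨_, rfl⟩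
    rw [← hq'] at hq hqw
    have hyq : Commute y q := hq' ▸ ((Commute.refl y).zpow_right a₀).mul_right (hxy.symm.zpow_right b₀)
    obtain ⟨u₀, hu₀, hqu⟩ := hcon q hq
    have hqy : q ∉ Subgroup.zpowers y := fun h => hyw (by
      obtain ⟨k, hk⟩ := Subgroup.mem_zpowers_iff.1 h
      rw [← hk] at hqw
      exact hback y hy k (fun e => hq.1 (hk ▸ e)) w hqw)
    obtain ⟨a₁, b₁, hp₁, hp₁u⟩ := hline y q hy hq hyq hqy u₀ hu₀
    have hqwn : w ∉ Subgroup.zpowers q := fun h => hyw (hcomm hyq y (Subgroup.mem_zpowers y) w h)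
    obtain ⟨a₂, b₂, hp₂, hp₂u⟩ := hline q w hq hw hqw hqwn u₀ hu₀
    have ha₁ : y ^ a₁ ≠ 1 := by
      intro e
      rw [e, one_mul] at hp₁ hp₁u
      exact hqu (hback q hq b₁ hp₁.1 u₀ hp₁u)
    have hb₂ : w ^ b₂ ≠ 1 := by
      intro e
      rw [e, mul_one] at hp₂ hp₂u
      exact hqu (hback q hq a₂ hp₂.1 u₀ hp₂u)
    have hp₁q : Commute q (y ^ a₁ * q ^ b₁) := (hyq.symm.zpow_right a₁).mul_right ((Commute.refl q).zpow_right b₁)
    have hp₂q : Commute q (q ^ a₂ * w ^ b₂) := ((Commute.refl q).zpow_right a₂).mul_right (hqw.zpow_right b₂)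
    have hp12 : ¬ Commute (y ^ a₁ * q ^ b₁) (q ^ a₂ * w ^ b₂) := by
      intro h
      have h1 : Commute (y ^ a₁) (q ^ a₂ * w ^ b₂) := by
        have := h.mul_left (hp₂q.zpow_left b₁).inv_left
        rwa [mul_inv_cancel_right] at this
      have h2 := hback y hy a₁ ha₁ _ h1
      have h3 : Commute y (w ^ b₂) := by
        have := (hyq.zpow_right a₂).inv_right.mul_right h2
        rwa [inv_mul_cancel_left] at this
      exact hyw (hback w hw b₂ hb₂ y h3.symm).symm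
    obtain ⟨i, -, c, hc, hc1, -, hnc, hwQ, hcx, hcw⟩ :=
      hsquare q _ u₀ _ hq hp₁ hu₀ hp₂ hp₁q hp₁u hp₂u.symm hp₂q.symm hqu hp12
    obtain ⟨w₁, hw₁⟩ : ∃ w₁, w₁ = u₀ ^ i := ⟨_, rfl⟩
    rw [← hw₁] at hc1 hnc hwQ hcw
    obtain ⟨r, hr, hcr⟩ := hcon c hc
    have hcq : c ∉ Subgroup.zpowers q := by
      intro h
      have h0 : w₁⁻¹ * q * w₁ ∈ Subgroup.zpowers q := by
        rw [show w₁⁻¹ * q * w₁ = q * c by rw [hc1]; group]
        exact mul_mem (Subgroup.mem_zpowers q) h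
      have h2 := hnorm q w₁⁻¹ hq ⟨inv_ne_one.2 hwQ.1, by rw [Subgroup.zpowers_inv]; exact hwQ.2⟩ (by rwa [inv_inv])
      exact hnc (Commute.inv_left_iff.1 h2).symm
    have hcw₁ : c ∉ Subgroup.zpowers w₁ := by
      intro h
      have h0 : q⁻¹ * w₁ * q ∈ Subgroup.zpowers w₁ := by
        rw [show q⁻¹ * w₁ * q = w₁ * (q⁻¹ * w₁⁻¹ * q * w₁)⁻¹ by group, ← hc1]
        exact mul_mem (Subgroup.mem_zpowers w₁) (inv_mem h)
      have h2 := hnorm w₁ q⁻¹ hwQ ⟨inv_ne_one.2 hq.1, by rw [Subgroup.zpowers_inv]; exact hq.2⟩ (by rwa [inv_inv])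
      exact hnc (Commute.inv_left_iff.1 h2)
    obtain ⟨a, b, hx', hx'r⟩ := hline q c hq hc hcx.symm hcq r hr
    obtain ⟨d, e, hw', hw'r⟩ := hline w₁ c hwQ hc hcw.symm hcw₁ r hr
    have haq : q ^ a ≠ 1 := fun h1 => by
      rw [h1, one_mul] at hx' hx'r
      exact hcr (hback c hc b hx'.1 r hx'r)
    have hdw : w₁ ^ d ≠ 1 := fun h1 => by
      rw [h1, one_mul] at hw' hw'r
      exact hcr (hback c hc e hw'.1 r hw'r)
    have hcx' : Commute c (q ^ a * c ^ b) := (hcx.zpow_right a).mul_right ((Commute.refl c).zpow_right b)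
    have hcw' : Commute c (w₁ ^ d * c ^ e) := (hcw.zpow_right d).mul_right ((Commute.refl c).zpow_right e)
    have hx'w' : ¬ Commute (q ^ a * c ^ b) (w₁ ^ d * c ^ e) := by
      intro h
      have h1 : Commute (q ^ a) (w₁ ^ d * c ^ e) := by
        have := h.mul_left (hcw'.zpow_left b).inv_left
        rwa [mul_inv_cancel_right] at this
      have h2 := hback q hq a haq _ h1
      have h3 : Commute q (w₁ ^ d) := by
        have := h2.mul_right (hcx.symm.zpow_right e).inv_right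
        rwa [mul_inv_cancel_right] at this
      exact hnc (hback w₁ hwQ d hdw q h3.symm).symm
    obtain ⟨k, l, c', -, hc'1, hc'2, hnc', hrQ, -, -⟩ :=
      hsquare c _ r _ hc hx' hr hw' hcx' hx'r hw'r.symm hcw'.symm hcr hx'w'
    -- conjugation by powers of `w₁` moves `q ^ a` only by powers of `c`
    have hmove : ∀ m : ℤ, w₁ ^ m * q ^ a * (w₁ ^ m)⁻¹ * (q ^ a)⁻¹ ∈ Subgroup.zpowers c := by
      intro m
      have h1 : q * w₁ * q⁻¹ = c * w₁ := by
        have h0 := hcx.inv_right.eq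
        have hw0 : w₁ * q * c = q * w₁ := by rw [hc1]; group
        calc q * w₁ * q⁻¹ = w₁ * q * c * q⁻¹ := by rw [hw0]
          _ = w₁ * q * (q⁻¹ * c) := by rw [mul_assoc (w₁ * q), h0]
          _ = w₁ * c := by group
          _ = c * w₁ := hcw.eq.symm
      have h2 : q * w₁ ^ m * q⁻¹ = c ^ m * w₁ ^ m := by rw [← conj_zpow, h1, hcw.mul_zpow]
      have h3 : w₁ ^ m * q * (w₁ ^ m)⁻¹ = (c ^ m)⁻¹ * q := by
        calc w₁ ^ m * q * (w₁ ^ m)⁻¹ = (c ^ m)⁻¹ * (c ^ m * w₁ ^ m) * q * (w₁ ^ m)⁻¹ := by group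
          _ = (c ^ m)⁻¹ * q := by rw [← h2]; group
      rw [← conj_zpow, h3, ((hcx.zpow_left m).inv_left).mul_zpow, mul_inv_cancel_right]
      exact Subgroup.zpow_mem _ (inv_mem (Subgroup.zpow_mem_zpowers c m)) _
    have hc'C : c' ∈ Subgroup.zpowers c := by
      obtain ⟨n, hn⟩ : ∃ n : ℤ, (w₁ ^ d * c ^ e) ^ l = w₁ ^ (d * l) * c ^ n := ⟨e * l, by
        rw [(hcw.symm.zpow_zpow d e).mul_zpow, ← zpow_mul, ← zpow_mul]⟩
      have hcn : Commute (c ^ n) (q ^ a * c ^ b) := hcx'.zpow_left n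
      have hcb : Commute (w₁ ^ (d * l)) (c ^ b) := hcw.symm.zpow_zpow _ b
      rw [hc'2, hn]
      rw [show w₁ ^ (d * l) * c ^ n * (q ^ a * c ^ b) * (w₁ ^ (d * l) * c ^ n)⁻¹ * (q ^ a * c ^ b)⁻¹ =
        w₁ ^ (d * l) * (c ^ n * (q ^ a * c ^ b) * (c ^ n)⁻¹) * (w₁ ^ (d * l))⁻¹ * (q ^ a * c ^ b)⁻¹ by group,
        hcn.eq, mul_inv_cancel_right,
        show w₁ ^ (d * l) * (q ^ a * c ^ b) * (w₁ ^ (d * l))⁻¹ * (q ^ a * c ^ b)⁻¹ =
          w₁ ^ (d * l) * q ^ a * (c ^ b * (w₁ ^ (d * l))⁻¹) * (c ^ b)⁻¹ * (q ^ a)⁻¹ by group,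
        ← hcb.inv_left.eq,
        show w₁ ^ (d * l) * q ^ a * ((w₁ ^ (d * l))⁻¹ * c ^ b) * (c ^ b)⁻¹ * (q ^ a)⁻¹ =
          w₁ ^ (d * l) * q ^ a * (w₁ ^ (d * l))⁻¹ * (q ^ a)⁻¹ by group]
      exact hmove _
    have h5 : (r ^ k)⁻¹ * c * r ^ k ∈ Subgroup.zpowers c := by
      rw [show (r ^ k)⁻¹ * c * r ^ k = c * (c⁻¹ * (r ^ k)⁻¹ * c * r ^ k) by group, ← hc'1]
      exact mul_mem (Subgroup.mem_zpowers c) hc'C
    have h6 := hnorm c (r ^ k)⁻¹ hc ⟨inv_ne_one.2 hrQ.1, by rw [Subgroup.zpowers_inv]; exact hrQ.2⟩ (by rwa [inv_inv])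
    exact hnc' (Commute.inv_left_iff.1 h6).symm
  obtain ⟨v, hv, hvc⟩ := hrad
  have hconjQ : ∀ g : G, Q (g * v * g⁻¹) := by
    intro g
    refine ⟨fun e => hv.1 (by
      calc v = g⁻¹ * (g * v * g⁻¹) * g := by group
        _ = 1 := by rw [e]; group), ?_⟩
    have := hKc _ hv.2 g
    rwa [MonoidHom.map_zpowers] at this
  have hnc : IsMulCommutative (Subgroup.normalClosure ({v} : Set G)) := by
    refine Subgroup.isMulCommutative_closure fun a ha b hb => ?_
    obtain ⟨v', hv', hav⟩ := Group.mem_conjugatesOfSet_iff.1 ha; rw [Set.mem_singleton_iff.1 hv'] at hav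
    obtain ⟨v', hv', hbv⟩ := Group.mem_conjugatesOfSet_iff.1 hb; rw [Set.mem_singleton_iff.1 hv'] at hbv
    obtain ⟨g, rfl⟩ := isConj_iff.1 hav
    obtain ⟨g', rfl⟩ := isConj_iff.1 hbv
    have h := (hvc _ (hconjQ (g⁻¹ * g'))).map (MulAut.conj g)
    simp only [MulAut.conj_apply] at h
    rw [show g * (g⁻¹ * g' * v * (g⁻¹ * g')⁻¹) * g⁻¹ = g' * v * g'⁻¹ by group] at h
    exact h.eq
  have hpg : IsPGroup p (Subgroup.normalClosure ({v} : Set G)) := by
    intro a
    refine ⟨1, Subtype.ext ?_⟩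
    rw [pow_one]
    show (a : G) ^ p = 1
    have : ∀ u ∈ Subgroup.normalClosure ({v} : Set G), u ^ p = 1 := by
      intro u hu
      induction hu using Subgroup.closure_induction with
      | mem u hu =>
        obtain ⟨v', hv', huv⟩ := Group.mem_conjugatesOfSet_iff.1 hu; rw [Set.mem_singleton_iff.1 hv'] at huv
        obtain ⟨g, rfl⟩ := isConj_iff.1 huv
        rw [conj_pow, ← hord v hv, pow_orderOf_eq_one]; group
      | one => exact one_pow p
      | mul a b ha hb iha ihb =>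
        have : Commute a b := congrArg Subtype.val (hnc.is_comm.comm ⟨a, ha⟩ ⟨b, hb⟩)
        rw [this.mul_pow, iha, ihb, one_mul]
      | inv a ha iha => rw [inv_pow, iha, inv_one]
    exact this a a.2
  have hvO : Subgroup.zpowers v ≤ Cfsg.pCore p G := by
    rw [Subgroup.zpowers_le]
    exact CfsgLib.Coprime.le_pCore hpg (Subgroup.subset_normalClosure (by simp))
  refine ⟨⟨_, hv.2, fun W hW a ha b hb => ?_, hvO⟩, fun hs => ?_⟩
  · obtain ⟨w, hw, rfl⟩ := hexg W hW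
    exact hcomm (hvc w hw) a ha b hb
  have hne : Cfsg.pCore p G ≠ ⊥ := fun e => hv.1 (Subgroup.mem_bot.1 (e ▸ hvO (Subgroup.mem_zpowers v)))
  have htop := ((CfsgLib.Coprime.pCore_normal' (G := G) p).eq_bot_or_eq_top).resolve_left hne
  have hG : IsPGroup p G := by
    have := CfsgLib.Coprime.pCore_isPGroup (G := G) p
    rw [htop] at this
    exact this.of_equiv Subgroup.topEquiv
  haveI : Nontrivial G := hs.toNontrivial
  haveI := hG.center_nontrivial
  have hcen : Subgroup.center G = ⊤ :=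
    ((inferInstance : (Subgroup.center G).Normal).eq_bot_or_eq_top).resolve_left
      ((Subgroup.nontrivial_iff_ne_bot _).1 inferInstance)
  obtain ⟨X, hX, Y, hY, hXY, -⟩ := hex
  have htopK : ∀ Z ∈ K, Z = ⊤ := by
    intro Z hZ
    haveI : Z.Normal := ⟨fun a ha g => by
      have hg : g ∈ Subgroup.center G := hcen ▸ Subgroup.mem_top g
      rwa [← Subgroup.mem_center_iff.1 hg a, mul_inv_cancel_right]⟩
    refine ((inferInstance : Z.Normal).eq_bot_or_eq_top).resolve_left fun e => ?_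
    have := hK Z hZ
    rw [e, Subgroup.card_bot] at this
    exact hp.one_lt.ne this
  exact hXY ((htopK X hX).trans (htopK Y hY).symm)

end Cfsg.Agent.S3196
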