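import Cfsg.Statements.S3199
import Cfsg.Agent.Lib.Invol.JTwoType.Assembly
import Cfsg.Agent.Lib.Invol.JTwoType.Normal

set_option autoImplicit false
open Cfsg

namespace Cfsg.Agent.S3199

/-- Let G be a finite group with no normal subgroup of index 2 whose Sylow 2-subgroups are isomorphic to those of the Hall–Janko group J₂, and let z be an involution central in a Sylow 2-subgroup of G. Then the centralizer of z modulo its largest normal subgroup of odd order is isomorphic to the centralizer of a 2-central involution in J₂ or to the centralizer of a 2-central involution in the third Janko group J₃. -/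
theorem result {G : Type*} [Group G] [Finite G]
    (S : Sylow 2 G) (P : Sylow 2 Cfsg.Spor.J2) (hS : Nonempty (↥(S : Subgroup G) ≃* ↥(P : Subgroup Cfsg.Spor.J2)))
    (h2 : ∀ H : Subgroup G, H.Normal → H.index ≠ 2)
    (z : G) (hz : orderOf z = 2) (hzS : z ∈ (S : Subgroup G)) (hzc : ∀ s ∈ (S : Subgroup G), s * z = z * s) :
    (∃ (z' : Cfsg.Spor.J2) (Q : Sylow 2 Cfsg.Spor.J2), orderOf z' = 2 ∧ z' ∈ (Q : Subgroup Cfsg.Spor.J2) ∧
        (∀ s ∈ (Q : Subgroup Cfsg.Spor.J2), s * z' = z' * s) ∧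
        Nonempty ((↥(Subgroup.centralizer ({z} : Set G)) ⧸ Cfsg.oddCore ↥(Subgroup.centralizer ({z} : Set G))) ≃*
          ↥(Subgroup.centralizer ({z'} : Set Cfsg.Spor.J2)))) ∨
      (∃ (F : Type) (_ : Field F) (_ : Fintype F) (ω : F), Fintype.card F = 4 ∧ ω ^ 2 + ω + 1 = 0 ∧
        ∃ (z' : Cfsg.Spor.J3 F ω) (Q : Sylow 2 (Cfsg.Spor.J3 F ω)), orderOf z' = 2 ∧ z' ∈ (Q : Subgroup (Cfsg.Spor.J3 F ω)) ∧
          (∀ s ∈ (Q : Subgroup (Cfsg.Spor.J3 F ω)), s * z' = z' * s) ∧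
          Nonempty ((↥(Subgroup.centralizer ({z} : Set G)) ⧸ Cfsg.oddCore ↥(Subgroup.centralizer ({z} : Set G))) ≃*
            ↥(Subgroup.centralizer ({z'} : Set (Cfsg.Spor.J3 F ω))))) := by
  left
  haveI : Fact (Nat.Prime 2) := ⟨Nat.prime_two⟩
  obtain ⟨c⟩ := CfsgLib.Invol.JTwoType.exists_coord (S : Subgroup G) P hS
  obtain rfl := CfsgLib.Invol.JTwoType.eq_center c hz hzS hzc
  obtain ⟨SK, cK, hzK, hfus⟩ := CfsgLib.Invol.JTwoType.exists_quotient_coord S c h2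
  obtain ⟨hp⟩ := CfsgLib.Invol.JTwoType.exists_pts SK cK hzK hfus
  obtain ⟨hpre, hx⟩ := CfsgLib.Invol.JTwoType.exists_prehyp SK cK hzK
    (CfsgLib.Coprime.pPrimeCore_quotient_eq_bot Nat.prime_two)
    (fun x hx k => CfsgLib.Invol.JTwoType.not_fused SK cK hzK hx k) hp
  obtain ⟨z', R, h1, h2', h3, ⟨e⟩⟩ := CfsgLib.Invol.JTwo.exists_iso_J2 hpre hx
  have htop : Subgroup.centralizer ({cK.ι 1} : Set (↥(Subgroup.centralizer ({c.ι 1} : Set G)) ⧸
      Cfsg.oddCore ↥(Subgroup.centralizer ({c.ι 1} : Set G)))) = ⊤ :=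
    eq_top_iff.2 fun g _ => Subgroup.mem_centralizer_singleton_iff.2 (hzK g)
  exact ⟨z', R, h1, h2', h3,
    ⟨(Subgroup.topEquiv.symm.trans (MulEquiv.subgroupCongr htop.symm)).trans e⟩⟩

end Cfsg.Agent.S3199
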