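import Cfsg.Statements.S3200
import Cfsg.Agent.Lib.Coprime.Hall
import Cfsg.Agent.Lib.Coprime.Core
import Cfsg.Agent.Lib.Char.Burnside


set_option autoImplicit false
open Cfsg

namespace Cfsg.Agent.S3200

/-- An abelian subgroup of odd order whose index is a power of two. -/
def AbCompl (G : Type*) [Group G] : Prop :=
  ∃ (C : Subgroup G) (k : ℕ), IsMulCommutative C ∧ Odd (Nat.card C) ∧
    Nat.card G = Nat.card C * 2 ^ k

theorem exists_of_abCompl {G : Type*} [Group G] [Finite G] (h : AbCompl G) :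
    ∃ (P : Sylow 2 G) (D : Subgroup G), IsMulCommutative ↥D ∧
      Subgroup.IsComplement' (P : Subgroup G) D := by
  haveI : Fact (Nat.Prime 2) := ⟨Nat.prime_two⟩
  obtain ⟨C, k, hC, hodd, hcard⟩ := h
  obtain ⟨P⟩ : Nonempty (Sylow 2 G) := inferInstance
  refine ⟨P, C, hC, ?_⟩
  have hP : Nat.card (P : Subgroup G) = 2 ^ k := by
    rw [P.card_eq_multiplicity, hcard, Nat.factorization_mul Nat.card_pos.ne' (by positivity),
      Finsupp.add_apply, Nat.factorization_eq_zero_of_not_dvd hodd.not_two_dvd_nat, zero_add,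
      Nat.Prime.factorization_pow Nat.prime_two, Finsupp.single_eq_same]
  refine Subgroup.isComplement'_of_coprime ?_ ?_
  · rw [hP, hcard, mul_comm]
  · rw [hP]
    exact Nat.Coprime.pow_left _ (Nat.coprime_two_left.2 hodd)

theorem abCompl_quotient {G : Type*} [Group G] [Finite G] (h : AbCompl G) (N : Subgroup G)
    [N.Normal] : AbCompl (G ⧸ N) := by
  obtain ⟨C, k, hC, hodd, hcard⟩ := h
  haveI := hC
  set D := C.map (QuotientGroup.mk' N) with hD
  have hidx : D.index ∣ 2 ^ k := by
    have h1 : C.index = 2 ^ k := Nat.eq_of_mul_eq_mul_left Nat.card_pos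
      (C.card_mul_index.trans hcard)
    exact h1 ▸ C.index_map_dvd (QuotientGroup.mk'_surjective N)
  obtain ⟨i, -, hi⟩ := (Nat.dvd_prime_pow Nat.prime_two).1 hidx
  exact ⟨D, i, Subgroup.map_isMulCommutative C _,
    hodd.of_dvd_nat (CfsgLib.Coprime.card_map_dvd_card _ C), by rw [← hi, D.card_mul_index]⟩

theorem abCompl_normal {G : Type*} [Group G] [Finite G] (h : AbCompl G) (N : Subgroup G)
    [N.Normal] : AbCompl N := by
  obtain ⟨C, k, hC, hodd, hcard⟩ := h
  set π := QuotientGroup.mk' N with hπ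
  have h1 : C.index = 2 ^ k := Nat.eq_of_mul_eq_mul_left Nat.card_pos
    (C.card_mul_index.trans hcard)
  have e1 : Nat.card ↥(C ⊔ N) = Nat.card N * Nat.card (C.map π) := by
    rw [CfsgLib.Coprime.card_eq_card_mul_card_map_mk' N le_sup_right, Subgroup.map_sup,
      QuotientGroup.map_mk'_self, sup_bot_eq]
  have e2 : Nat.card C = Nat.card (C.subgroupOf N) * Nat.card (C.map π) := by
    set g := π.comp C.subtype with hg
    rw [show C.map π = g.range by rw [hg, MonoidHom.range_comp, Subgroup.range_subtype],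
      ← g.ker.card_mul_index, Subgroup.index_ker]
    congr 1
    refine Nat.card_congr
      { toFun := fun c => ⟨⟨c.1.1, (QuotientGroup.eq_one_iff _).1 c.2⟩,
          Subgroup.mem_subgroupOf.2 c.1.2⟩
        invFun := fun n => ⟨⟨n.1.1, Subgroup.mem_subgroupOf.1 n.2⟩,
          (QuotientGroup.eq_one_iff _).2 n.1.2⟩
        left_inv := fun _ => rfl
        right_inv := fun _ => rfl }
  have e3 : Nat.card C * C.relIndex (C ⊔ N) = Nat.card ↥(C ⊔ N) := by
    rw [← Nat.card_congr (Subgroup.subgroupOfEquivOfLe (le_sup_left : C ≤ C ⊔ N)).toEquiv]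
    exact (C.subgroupOf (C ⊔ N)).card_mul_index
  have e4 : C.relIndex (C ⊔ N) ∣ 2 ^ k :=
    h1 ▸ Subgroup.relIndex_dvd_index_of_le le_sup_left
  obtain ⟨i, -, hi⟩ := (Nat.dvd_prime_pow Nat.prime_two).1 e4
  refine ⟨C.subgroupOf N, i, ⟨⟨fun a b => Subtype.ext (Subtype.ext ?_)⟩⟩,
    hodd.of_dvd_nat (e2 ▸ dvd_mul_right _ _), ?_⟩
  · exact congrArg (Subtype.val : C → G) (hC.is_comm.comm
      (⟨_, Subgroup.mem_subgroupOf.1 a.2⟩ : C) ⟨_, Subgroup.mem_subgroupOf.1 b.2⟩)
  · rw [e1, hi, e2] at e3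
    refine (Nat.eq_of_mul_eq_mul_right (Nat.card_pos (α := C.map π)) ?_).symm
    rw [← e3]; ring

universe u

/-- A group with an abelian 2-complement is solvable. -/
theorem isSolvable_of_abCompl (G : Type u) [Group G] [Finite G] (h : AbCompl G) :
    Group.IsSolvable G := by
  induction hn : Nat.card G using Nat.strong_induction_on generalizing G with
  | _ n ih =>
    subst hn
    by_cases hN : ∃ N : Subgroup G, N.Normal ∧ N ≠ ⊥ ∧ N ≠ ⊤
    · obtain ⟨N, hNn, hNb, hNt⟩ := hN
      have h1 : Nat.card N < Nat.card G := lt_of_le_of_ne (Subgroup.card_le_card_group N)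
        fun e => hNt (Subgroup.eq_top_of_card_eq N e)
      have h2 : Nat.card (G ⧸ N) < Nat.card G := by
        rw [Subgroup.card_eq_card_quotient_mul_card_subgroup N]
        exact lt_mul_of_one_lt_right Nat.card_pos ((Subgroup.one_lt_card_iff_ne_bot N).2 hNb)
      have s1 := ih _ h1 N (abCompl_normal h N) rfl
      have s2 := ih _ h2 (G ⧸ N) (abCompl_quotient h N) rfl
      exact Group.isSolvable_of_ker_le_range N.subtype (QuotientGroup.mk' N) (by simp)
    push Not at hN
    obtain ⟨C, k, hC, -, hcard⟩ := h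
    rcases eq_or_ne C ⊥ with rfl | hC1
    · rw [Subgroup.card_bot, one_mul] at hcard
      haveI : Fact (Nat.Prime 2) := ⟨Nat.prime_two⟩
      haveI := (IsPGroup.of_card hcard).isNilpotent
      infer_instance
    obtain ⟨⟨g, hg⟩, hg1⟩ := Subgroup.ne_bot_iff_exists_ne_one.1 hC1
    haveI : Nontrivial G := ⟨⟨g, 1, fun e => hg1 (Subtype.ext e)⟩⟩
    haveI : IsSimpleGroup G := ⟨fun N hNn => or_iff_not_imp_left.mpr (hN N hNn)⟩
    have hle : C ≤ Subgroup.centralizer ({g} : Set G) := fun x hx =>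
      Subgroup.mem_centralizer_singleton_iff.2
        (congrArg Subtype.val (hC.is_comm.comm (⟨x, hx⟩ : C) ⟨g, hg⟩))
    have h1 : C.index = 2 ^ k := Nat.eq_of_mul_eq_mul_left Nat.card_pos
      (C.card_mul_index.trans hcard)
    obtain ⟨i, -, hi⟩ := (Nat.dvd_prime_pow Nat.prime_two).1
      (h1 ▸ Subgroup.index_dvd_of_le hle)
    exact Group.isSolvable_of_comm
      (CfsgLib.Char.comm_of_class_prime_pow Nat.prime_two (fun e => hg1 (Subtype.ext e)) hi)

/-- Let H be a finite group in which a Sylow 2-subgroup has an abelian complement (an abelian subgroup meeting it trivially whose product with it is all of H). Then H is solvable, and every subgroup and every quotient group of H again has a Sylow 2-subgroup with an abelian complement. -/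
theorem result {H : Type*} [Group H] [Finite H]
    (S : Sylow 2 H) (C : Subgroup H) (hC : IsMulCommutative ↥C) (hSC : Subgroup.IsComplement' (S : Subgroup H) C) :
    Group.IsSolvable H ∧
    (∀ L : Subgroup H, ∃ (P : Sylow 2 ↥L) (D : Subgroup ↥L), IsMulCommutative ↥D ∧ Subgroup.IsComplement' (P : Subgroup ↥L) D) ∧
    (∀ (N : Subgroup H) [N.Normal], ∃ (P : Sylow 2 (H ⧸ N)) (D : Subgroup (H ⧸ N)),
      IsMulCommutative ↥D ∧ Subgroup.IsComplement' (P : Subgroup (H ⧸ N)) D) := by
  haveI : Fact (Nat.Prime 2) := ⟨Nat.prime_two⟩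
  obtain ⟨k, hk⟩ := S.2.exists_card_eq
  have hcard : Nat.card H = Nat.card C * 2 ^ k := by rw [← hSC.card_mul, hk, mul_comm]
  have hodd : Odd (Nat.card C) := by
    rw [← Nat.not_even_iff_odd, even_iff_two_dvd, ← (Subgroup.IsComplement'.symm hSC).index_eq_card]
    exact S.not_dvd_index
  have hA : AbCompl H := ⟨C, k, hC, hodd, hcard⟩
  haveI hsol : Group.IsSolvable H := isSolvable_of_abCompl H hA
  refine ⟨hsol, fun L => ?_, fun N _ => ?_⟩
  · apply exists_of_abCompl
    obtain ⟨j, m, hm, hL⟩ := Nat.exists_eq_two_pow_mul_odd (Nat.card_pos (α := L)).ne'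
    rw [mul_comm] at hL
    have hm2 : m.Coprime (2 ^ j) := Nat.Coprime.pow_right _ hm.coprime_two_right
    obtain ⟨D, hD⟩ := CfsgLib.Coprime.exists_hall (G := L) hL hm2
    refine ⟨D, j, ?_, hD ▸ hm, by rw [hD, hL]⟩
    obtain ⟨g, hg⟩ := CfsgLib.Coprime.hall_le_conj (G := H) hcard
      (Nat.Coprime.pow_right _ hodd.coprime_two_right) rfl (K := D.map L.subtype)
      (by rw [Subgroup.card_map_of_injective L.subtype_injective, hD]
          exact Nat.Coprime.pow_right _ hm.coprime_two_right)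
    refine ⟨⟨fun a b => ?_⟩⟩
    have h1 := hC.is_comm.comm (⟨_, hg (Subgroup.mem_map_of_mem _ (Subgroup.mem_map_of_mem L.subtype a.2))⟩ : C)
      ⟨_, hg (Subgroup.mem_map_of_mem _ (Subgroup.mem_map_of_mem L.subtype b.2))⟩
    have h2 := congrArg (Subtype.val : C → H) h1
    simp only [Subgroup.coe_mul, ← map_mul] at h2
    exact Subtype.ext (Subtype.ext ((MulAut.conj g).injective h2))
  · apply exists_of_abCompl
    exact abCompl_quotient hA N

end Cfsg.Agent.S3200
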