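import Cfsg.Statements.S3203
import Cfsg.Agent.Lib.Fusion.Transfer
import Cfsg.Agent.Lib.Fusion.Sylow
import Mathlib.Tactic.Group


set_option autoImplicit false
open Cfsg

namespace Cfsg.Agent.S3203

/-- Let S be a Sylow 2-subgroup of a finite group G having exactly two subgroups A ≠ B that are maximal among its elementary abelian subgroups, with S = AB. Then A and B are each weakly closed in S with respect to G, and the normalizer of S normalizes both A and B. -/
theorem result {G : Type*} [Group G] [Finite G] (S : Sylow 2 G)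
    (A B : Subgroup ↥(S : Subgroup G)) (hAB : A ≠ B)
    (hA : Cfsg.IsElementaryAbelian 2 A ∧ ∀ C : Subgroup ↥(S : Subgroup G), Cfsg.IsElementaryAbelian 2 C → A ≤ C → C = A)
    (hB : Cfsg.IsElementaryAbelian 2 B ∧ ∀ C : Subgroup ↥(S : Subgroup G), Cfsg.IsElementaryAbelian 2 C → B ≤ C → C = B)
    (honly : ∀ C : Subgroup ↥(S : Subgroup G), Cfsg.IsElementaryAbelian 2 C →
      (∀ D : Subgroup ↥(S : Subgroup G), Cfsg.IsElementaryAbelian 2 D → C ≤ D → D = C) → C = A ∨ C = B)
    (hprod : ∀ s : ↥(S : Subgroup G), ∃ a ∈ A, ∃ b ∈ B, a * b = s)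
    (A' B' : Subgroup G) (hA' : A' = A.map (S : Subgroup G).subtype) (hB' : B' = B.map (S : Subgroup G).subtype) :
    Cfsg.IsWeaklyClosed A' (S : Subgroup G) ∧ Cfsg.IsWeaklyClosed B' (S : Subgroup G) ∧
      Subgroup.normalizer ((S : Subgroup G) : Set G) ≤ Subgroup.normalizer (A' : Set G) ⊓ Subgroup.normalizer (B' : Set G) := by
  haveI : Fact (Nat.Prime 2) := ⟨Nat.prime_two⟩
  obtain ⟨P, hP⟩ : ∃ P : Subgroup G, P = (S : Subgroup G) := ⟨_, rfl⟩
  have hA'S : A' ≤ (S : Subgroup G) := hA' ▸ Subgroup.map_subtype_le A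
  have hB'S : B' ≤ (S : Subgroup G) := hB' ▸ Subgroup.map_subtype_le B
  have hmem : ∀ {C : Subgroup ↥(S : Subgroup G)} {x : ↥(S : Subgroup G)}, (x : G) ∈ C.map (S : Subgroup G).subtype ↔ x ∈ C :=
    fun {C x} => Subgroup.mem_map_iff_mem Subtype.coe_injective
  -- elementary abelian subgroups of `G` inside `S` lie in `A'` or in `B'`
  have hmax : ∀ E : Subgroup G, Cfsg.IsElementaryAbelian 2 E → E ≤ (S : Subgroup G) → E ≤ A' ∨ E ≤ B' := by
    intro E hE hES
    have hE0 : Cfsg.IsElementaryAbelian 2 (E.subgroupOf (S : Subgroup G)) := by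
      refine ⟨⟨⟨fun u v => Subtype.ext (Subtype.ext ?_)⟩⟩, fun u hu => Subtype.ext ?_⟩
      · exact (congrArg Subtype.val (hE.1.is_comm.comm ⟨((u : ↥(S : Subgroup G)) : G), u.2⟩ ⟨((v : ↥(S : Subgroup G)) : G), v.2⟩) :)
      · exact hE.2 _ hu
    obtain ⟨C, hCle, hC⟩ := Finite.exists_le_maximal (p := fun C => Cfsg.IsElementaryAbelian 2 C) hE0
    rcases honly C hC.1 (fun D hD hle => le_antisymm (hC.2 hD hle) hle) with rfl | rfl
    · exact Or.inl (hA' ▸ fun x hx => ⟨⟨x, hES hx⟩, hCle hx, rfl⟩)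
    · exact Or.inr (hB' ▸ fun x hx => ⟨⟨x, hES hx⟩, hCle hx, rfl⟩)
  have helt : ∀ {H K : Type _} [Group H] [Group K] (f : H →* K) (C : Subgroup H),
      Cfsg.IsElementaryAbelian 2 C → Cfsg.IsElementaryAbelian 2 (C.map f) := by
    intro H K _ _ f C hC
    refine ⟨⟨⟨?_⟩⟩, ?_⟩
    · rintro ⟨_, u, hu, rfl⟩ ⟨_, v, hv, rfl⟩
      exact Subtype.ext (show f u * f v = f v * f u by
        rw [← map_mul, ← map_mul]; exact congrArg f (congrArg Subtype.val (hC.1.is_comm.comm ⟨u, hu⟩ ⟨v, hv⟩)))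
    · rintro _ ⟨u, hu, rfl⟩
      rw [← map_pow, hC.2 u hu, map_one]
  have hA'e : Cfsg.IsElementaryAbelian 2 A' := hA' ▸ helt _ A hA.1
  have hB'e : Cfsg.IsElementaryAbelian 2 B' := hB' ▸ helt _ B hB.1
  have hnot : ¬ A' ≤ B' ∧ ¬ B' ≤ A' := by
    refine ⟨fun h => hAB ?_, fun h => hAB ?_⟩
    · rw [hA', hB', Subgroup.map_subtype_le_map_subtype] at h
      exact (hA.2 B hB.1 h).symm
    · rw [hA', hB', Subgroup.map_subtype_le_map_subtype] at h
      exact hB.2 A hA.1 h
  -- an element normalizing `S` permutes `A'` and `B'`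
  have hperm : ∀ U, U = A' ∨ U = B' → ∀ n ∈ Subgroup.normalizer ((S : Subgroup G) : Set G),
      CfsgLib.Fusion.conjBy n U = A' ∨ CfsgLib.Fusion.conjBy n U = B' := by
    intro U hU n hn
    have hnS : CfsgLib.Fusion.conjBy n (S : Subgroup G) = S := CfsgLib.Fusion.conjBy_eq_iff.2 hn
    have hUS : U ≤ (S : Subgroup G) := by rcases hU with rfl | rfl <;> assumption
    have hUe : Cfsg.IsElementaryAbelian 2 U := by rcases hU with rfl | rfl <;> assumption
    have h1 : CfsgLib.Fusion.conjBy n U ≤ (S : Subgroup G) := hnS ▸ CfsgLib.Fusion.conjBy_mono hUS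
    have hback : ∀ V, (V = A' ∨ V = B') → CfsgLib.Fusion.conjBy n U ≤ V → CfsgLib.Fusion.conjBy n U = V := by
      intro V hV hle
      refine le_antisymm hle ?_
      have hVS : V ≤ (S : Subgroup G) := by rcases hV with rfl | rfl <;> assumption
      have hVe : Cfsg.IsElementaryAbelian 2 V := by rcases hV with rfl | rfl <;> assumption
      have hni : n⁻¹ ∈ Subgroup.normalizer ((S : Subgroup G) : Set G) := inv_mem hn
      have h2 : U ≤ CfsgLib.Fusion.conjBy n⁻¹ V := by
        have := CfsgLib.Fusion.conjBy_mono (g := n⁻¹) hle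
        rwa [CfsgLib.Fusion.conjBy_inv_conjBy] at this
      have h3 : CfsgLib.Fusion.conjBy n⁻¹ V ≤ (S : Subgroup G) :=
        (CfsgLib.Fusion.conjBy_eq_iff.2 hni) ▸ CfsgLib.Fusion.conjBy_mono hVS
      have h4 : CfsgLib.Fusion.conjBy n⁻¹ V ≤ U := by
        rcases hmax _ (helt _ V hVe) h3 with h | h <;> rcases hU with rfl | rfl
        · exact h
        · exact absurd (h2.trans h) hnot.2
        · exact absurd (h2.trans h) hnot.1
        · exact h
      have := CfsgLib.Fusion.conjBy_mono (g := n) h4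
      rwa [CfsgLib.Fusion.conjBy_conjBy_inv] at this
    rcases hmax _ (helt _ U hUe) h1 with h | h
    · exact Or.inl (hback A' (Or.inl rfl) h)
    · exact Or.inr (hback B' (Or.inr rfl) h)
  -- `S` itself normalizes `A'`
  have hSA : ∀ s ∈ (S : Subgroup G), CfsgLib.Fusion.conjBy s A' = A' := by
    intro s hs
    refine (hperm A' (Or.inl rfl) s (Subgroup.le_normalizer hs)).resolve_right fun h => hnot.2 ?_
    obtain ⟨a, ha, b, hb, hab⟩ := hprod ⟨s, hs⟩⁻¹
    have hab' : (a : G) * b = s⁻¹ := congrArg Subtype.val hab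
    have hc : ∀ {D : Subgroup ↥(S : Subgroup G)}, Cfsg.IsElementaryAbelian 2 D → ∀ u ∈ D, ∀ v ∈ D, (u : G) * v = (v : G) * u :=
      fun {D} hD u hu v hv => congrArg (fun w : ↥D => ((w : ↥(S : Subgroup G)) : G)) (hD.1.is_comm.comm ⟨u, hu⟩ ⟨v, hv⟩)
    intro v hv
    rw [hB'] at hv
    obtain ⟨v, hv, rfl⟩ := hv
    have h1 : (b : G)⁻¹ * v * b = v := by
      rw [mul_assoc, hc hB.1 v hv b hb, inv_mul_cancel_left]
    have h2 : (v : G) ∈ CfsgLib.Fusion.conjBy s A' := by rw [h, hB']; exact ⟨v, hv, rfl⟩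
    rw [CfsgLib.Fusion.mem_conjBy, hA', show s⁻¹ * (v : G) * s =
        ((a * b * v * (a * b)⁻¹ : ↥(S : Subgroup G)) : G) by push_cast; rw [hab', inv_inv],
      hmem] at h2
    rw [hA', show ((S : Subgroup G).subtype v) = (v : G) from rfl, hmem]
    have h3 : a * b * v * (a * b)⁻¹ = a * v * a⁻¹ := by
      have : b * v * b⁻¹ = v := Subtype.ext (by push_cast; rw [hc hB.1 b hb v hv, mul_inv_cancel_right])
      calc a * b * v * (a * b)⁻¹ = a * (b * v * b⁻¹) * a⁻¹ := by group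
        _ = _ := by rw [this]
    rw [h3] at h2
    have := mul_mem (mul_mem (inv_mem ha) h2) ha
    simpa [mul_assoc] using this
  have hN : ∀ n ∈ Subgroup.normalizer ((S : Subgroup G) : Set G), CfsgLib.Fusion.conjBy n A' = A' := by
    intro n hn
    obtain ⟨M, hM⟩ : ∃ M, M = Subgroup.normalizer (A' : Set G) := ⟨_, rfl⟩
    have hsq : n * n ∈ M := by
      rw [hM]
      refine CfsgLib.Fusion.conjBy_eq_iff.1 ?_
      rcases hperm A' (Or.inl rfl) n hn with h | h
      · rw [← CfsgLib.Fusion.conjBy_conjBy, h, h]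
      · rcases hperm B' (Or.inr rfl) n hn with h' | h'
        · rw [← CfsgLib.Fusion.conjBy_conjBy, h, h']
        · have := congrArg (CfsgLib.Fusion.conjBy n⁻¹) (h.trans h'.symm)
          rw [CfsgLib.Fusion.conjBy_inv_conjBy, CfsgLib.Fusion.conjBy_inv_conjBy] at this
          exact absurd this.le hnot.1
    have ho : n ^ (orderOf n / 2 ^ (orderOf n).factorization 2) ∈ M := by
      obtain ⟨w, hw⟩ : ∃ w, w = n ^ (orderOf n / 2 ^ (orderOf n).factorization 2) := ⟨_, rfl⟩
      rw [← hw, hM]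
      refine CfsgLib.Fusion.conjBy_eq_iff.1 (hSA _ ?_)
      have hwp : IsPGroup 2 (Subgroup.zpowers w) := IsPGroup.of_card (n := (orderOf n).factorization 2) (by
        rw [Nat.card_zpowers, hw, orderOf_pow, Nat.gcd_eq_right (Nat.ordCompl_dvd _ _),
          Nat.div_div_self (Nat.ordProj_dvd _ _) (orderOf_pos n).ne'])
      have hle : Subgroup.zpowers w ≤ Subgroup.normalizer ((S : Subgroup G) : Set G) :=
        Subgroup.zpowers_le.2 (hw ▸ pow_mem hn _)
      have := S.3 (hwp.to_sup_of_normal_right' S.2 hle) le_sup_right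
      exact this.le (Subgroup.mem_sup_left (Subgroup.mem_zpowers w))
    have hodd : Odd (orderOf n / 2 ^ (orderOf n).factorization 2) := by
      rw [Nat.odd_iff]
      have := Nat.not_dvd_ordCompl Nat.prime_two (orderOf_pos n).ne'
      omega
    obtain ⟨l, hl⟩ := hodd
    refine CfsgLib.Fusion.conjBy_eq_iff.2 ?_
    rw [← hM]
    rw [hl, pow_succ, pow_mul, pow_two] at ho
    exact (M.mul_mem_cancel_left (pow_mem hsq l)).1 ho
  have hNB : ∀ n ∈ Subgroup.normalizer ((S : Subgroup G) : Set G), CfsgLib.Fusion.conjBy n B' = B' := by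
    intro n hn
    refine (hperm B' (Or.inr rfl) n hn).resolve_left fun h => ?_
    have := congrArg (CfsgLib.Fusion.conjBy n⁻¹) (h.trans (hN n hn).symm)
    rw [CfsgLib.Fusion.conjBy_inv_conjBy, CfsgLib.Fusion.conjBy_inv_conjBy] at this
    exact hnot.2 this.le
  have hwc : ∀ U V : Subgroup G, (U = A' ∧ V = B') ∨ (U = B' ∧ V = A') →
      Cfsg.IsWeaklyClosed U (S : Subgroup G) := by
    intro U V hUV
    have hUe : Cfsg.IsElementaryAbelian 2 U := by rcases hUV with ⟨rfl, rfl⟩ | ⟨rfl, rfl⟩ <;> assumption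
    have hVe : Cfsg.IsElementaryAbelian 2 V := by rcases hUV with ⟨rfl, rfl⟩ | ⟨rfl, rfl⟩ <;> assumption
    have hUS : U ≤ (S : Subgroup G) := by rcases hUV with ⟨rfl, rfl⟩ | ⟨rfl, rfl⟩ <;> assumption
    have hUmax : ∀ E, Cfsg.IsElementaryAbelian 2 E → E ≤ (S : Subgroup G) → E ≤ U ∨ E ≤ V := by
      intro E h1 h2
      rcases hUV with ⟨rfl, rfl⟩ | ⟨rfl, rfl⟩
      · exact hmax E h1 h2
      · exact (hmax E h1 h2).symm
    have hfixU : ∀ n ∈ Subgroup.normalizer ((S : Subgroup G) : Set G), CfsgLib.Fusion.conjBy n U = U := by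
      rcases hUV with ⟨rfl, rfl⟩ | ⟨rfl, rfl⟩ <;> assumption
    have hfixV : ∀ n ∈ Subgroup.normalizer ((S : Subgroup G) : Set G), CfsgLib.Fusion.conjBy n V = V := by
      rcases hUV with ⟨rfl, rfl⟩ | ⟨rfl, rfl⟩ <;> assumption
    have hne : ¬ U ≤ V := by
      rcases hUV with ⟨rfl, rfl⟩ | ⟨rfl, rfl⟩
      exacts [hnot.1, hnot.2]
    refine ⟨hUS, fun g hg => ?_⟩
    rcases hUmax _ (helt _ U hUe) hg with h | h
    · exact CfsgLib.Fusion.conjBy_eq_of_le h
    exfalso
    -- `V^(g⁻¹)` is an elementary abelian subgroup above `U`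
    obtain ⟨E, hE⟩ : ∃ E, E = CfsgLib.Fusion.conjBy g⁻¹ V := ⟨_, rfl⟩
    have hUE : U ≤ E := by
      have := CfsgLib.Fusion.conjBy_mono (g := g⁻¹) h
      rwa [CfsgLib.Fusion.conjBy_inv_conjBy, ← hE] at this
    have hEe : Cfsg.IsElementaryAbelian 2 E := hE ▸ helt _ V hVe
    have hEN : E ≤ Subgroup.normalizer (U : Set G) := fun e he => Subgroup.mem_normalizer_iff.2 fun u => by
      have hc : ∀ u ∈ U, e * u = u * e := fun u hu =>
        congrArg Subtype.val (hEe.1.is_comm.comm ⟨e, he⟩ ⟨u, hUE hu⟩)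
      refine ⟨fun hu => by rwa [hc u hu, mul_inv_cancel_right], fun hu => ?_⟩
      have h2 := hc _ hu
      have : e * u * e⁻¹ = u := by
        refine mul_left_cancel (a := e) (h2.trans ?_)
        group
      rwa [this] at hu
    have hSN : (S : Subgroup G) ≤ Subgroup.normalizer (U : Set G) := fun s hs =>
      CfsgLib.Fusion.conjBy_eq_iff.1 (hfixU s (Subgroup.le_normalizer hs))
    have hi : ¬ 2 ∣ (S : Subgroup G).relIndex (Subgroup.normalizer (U : Set G)) :=
      fun hdd => S.not_dvd_index (hdd.trans (Dvd.intro _ (Subgroup.relIndex_mul_index hSN)))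
    have hEp : IsPGroup 2 E := fun e => ⟨1, Subtype.ext (by simpa using hEe.2 _ e.2)⟩
    obtain ⟨c, hc, hcE⟩ := CfsgLib.Fusion.exists_conj_le_of_not_dvd_relIndex (p := 2) S.2 hSN hi hEp hEN
    have hcU : U ≤ CfsgLib.Fusion.conjBy c E := (CfsgLib.Fusion.conjBy_eq_iff.2 hc).ge.trans (CfsgLib.Fusion.conjBy_mono hUE)
    rcases hUmax _ (helt _ E hEe) hcE with h2 | h2
    · -- then `U` and `V` are conjugate, hence by Burnside conjugate in the normalizer of `S`
      have hcard : Nat.card V ≤ Nat.card U := by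
        rw [← CfsgLib.Fusion.card_conjBy g⁻¹ V, ← hE, ← CfsgLib.Fusion.card_conjBy c E]
        exact Subgroup.card_le_of_le h2
      have hgV : CfsgLib.Fusion.conjBy g U = V :=
        Subgroup.eq_of_le_of_card_ge h (by rw [CfsgLib.Fusion.card_conjBy]; exact hcard)
      obtain ⟨d, hd, hdg⟩ := CfsgLib.Fusion.exists_mem_normalizer_conj S (X := (U : Set G)) (Y := (V : Set G))
        hSN (fun s hs => CfsgLib.Fusion.conjBy_eq_iff.1 (hfixV s (Subgroup.le_normalizer hs))) g
        (fun x => by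
          refine ⟨fun hx => hgV ▸ CfsgLib.Fusion.conj_mem_conjBy hx, fun hx => ?_⟩
          have : g * x * g⁻¹ ∈ CfsgLib.Fusion.conjBy g U := by rw [hgV]; exact hx
          rw [CfsgLib.Fusion.mem_conjBy] at this
          simpa [mul_assoc] using this)
      have h5 := hfixU _ hdg
      rw [← CfsgLib.Fusion.conjBy_conjBy, hgV, CfsgLib.Fusion.conjBy_eq_iff.2 hd] at h5
      exact hne h5.ge
    · exact hne (hcU.trans h2)
  exact ⟨hwc A' B' (Or.inl ⟨rfl, rfl⟩), hwc B' A' (Or.inr ⟨rfl, rfl⟩), fun n hn =>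
    ⟨CfsgLib.Fusion.conjBy_eq_iff.1 (hN n hn), CfsgLib.Fusion.conjBy_eq_iff.1 (hNB n hn)⟩⟩

end Cfsg.Agent.S3203
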