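import Cfsg.Statements.S3206
import Cfsg.Agent.Lib.Invol.ZStar
import Cfsg.Agent.Lib.Invol.CyclicCentralizer
import Cfsg.Agent.Lib.Fusion.Abelian
import Cfsg.Agent.Lib.Fusion.Transfer
import Cfsg.Agent.Lib.Classical.SL2Sylow
import Cfsg.Agent.Lib.Coprime.Action
import Cfsg.Agent.Lib.Classical.ProjLine

set_option autoImplicit false
open Cfsg

namespace Cfsg.Agent.S3206

open Subgroup
open scoped commutatorElement

theorem comm_of_sylow {G : Type*} [Group G] [Finite G]
    (hab : ∀ S : Sylow 2 G, IsMulCommutative ↥(S : Subgroup G)) {P : Subgroup G} (hP : IsPGroup 2 P)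
    {a b : G} (ha : a ∈ P) (hb : b ∈ P) : a * b = b * a := by
  obtain ⟨S, hS⟩ := hP.exists_le_sylow
  haveI := hab S
  exact congrArg Subtype.val (mul_comm' (⟨a, hS ha⟩ : (S : Subgroup G)) ⟨b, hS hb⟩)

/-- Abelian Sylow 2-subgroups of `PSL(2,q)`, `q` odd, are elementary of order 4. -/
theorem psl_abelian_sylow {F : Type*} [Field F] [Fintype F] (hodd : Odd (Fintype.card F)) (h3 : 3 < Fintype.card F)
    (P : Sylow 2 (Matrix.ProjectiveSpecialLinearGroup (Fin 2) F))
    (hP : IsMulCommutative (P : Subgroup (Matrix.ProjectiveSpecialLinearGroup (Fin 2) F))) :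
    Nat.card (P : Subgroup (Matrix.ProjectiveSpecialLinearGroup (Fin 2) F)) = 4 ∧
      ∀ x ∈ (P : Subgroup (Matrix.ProjectiveSpecialLinearGroup (Fin 2) F)), x ^ 2 = 1 := by
  classical
  haveI : Fact (Nat.Prime 2) := ⟨Nat.prime_two⟩
  haveI hs : IsSimpleGroup (Matrix.ProjectiveSpecialLinearGroup (Fin 2) F) :=
    Matrix.ProjectiveSpecialLinearGroup.rank_two_simple (by rw [Nat.card_eq_fintype_card]; omega)
  set π := QuotientGroup.mk' (Subgroup.center (Matrix.SpecialLinearGroup (Fin 2) F))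
  have hπ : Function.Surjective π := QuotientGroup.mk'_surjective _
  obtain ⟨S, hS⟩ := Sylow.mapSurjective_surjective hπ 2 P
  obtain ⟨k, hk, ⟨e⟩⟩ := CfsgLib.Classical.sylow_two_quaternion hodd S
  haveI : NeZero (2 ^ k) := ⟨by positivity⟩
  have hPe : (P : Subgroup _) = (S : Subgroup _).map π := by rw [← hS]; rfl
  have h2 := CfsgLib.Classical.two_ne_zero_of_odd_card hodd
  have hcen : ∀ z ∈ Subgroup.center (Matrix.SpecialLinearGroup (Fin 2) F), z ^ 2 = 1 := by
    intro z hz
    obtain ⟨r, hr, hz'⟩ := Matrix.SpecialLinearGroup.mem_center_iff.1 hz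
    rw [Fintype.card_fin] at hr
    refine Subtype.ext ?_
    rw [Matrix.SpecialLinearGroup.coe_pow, ← hz', ← map_pow, hr, map_one, Matrix.SpecialLinearGroup.coe_one]
  have hk1 : k = 1 := by
    let a : QuaternionGroup (2 ^ k) := QuaternionGroup.a 1
    let x : QuaternionGroup (2 ^ k) := QuaternionGroup.xa 0
    set a' : ↥(S : Subgroup (Matrix.SpecialLinearGroup (Fin 2) F)) := e.symm a
    set x' : ↥(S : Subgroup (Matrix.SpecialLinearGroup (Fin 2) F)) := e.symm x
    have hc : π ((⁅a', x'⁆ : ↥(S : Subgroup (Matrix.SpecialLinearGroup (Fin 2) F))) : Matrix.SpecialLinearGroup (Fin 2) F) = 1 := by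
      rw [show ((⁅a', x'⁆ : ↥(S : Subgroup (Matrix.SpecialLinearGroup (Fin 2) F))) : Matrix.SpecialLinearGroup (Fin 2) F) =
        ⁅(a' : Matrix.SpecialLinearGroup (Fin 2) F), (x' : Matrix.SpecialLinearGroup (Fin 2) F)⁆ from rfl,
        map_commutatorElement, commutatorElement_eq_one_iff_mul_comm]
      have ha'' : π (a' : Matrix.SpecialLinearGroup (Fin 2) F) ∈ (P : Subgroup (Matrix.ProjectiveSpecialLinearGroup (Fin 2) F)) :=
        hPe ▸ Subgroup.mem_map_of_mem π a'.2
      have hx'' : π (x' : Matrix.SpecialLinearGroup (Fin 2) F) ∈ (P : Subgroup (Matrix.ProjectiveSpecialLinearGroup (Fin 2) F)) :=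
        hPe ▸ Subgroup.mem_map_of_mem π x'.2
      haveI := hP
      exact congrArg Subtype.val (mul_comm' (⟨_, ha''⟩ : (P : Subgroup (Matrix.ProjectiveSpecialLinearGroup (Fin 2) F))) ⟨_, hx''⟩)
    have h4 : ⁅a, x⁆ ^ 2 = 1 := by
      have h := hcen _ ((QuotientGroup.eq_one_iff _).1 hc)
      have h' : (⁅a', x'⁆) ^ 2 = 1 := Subtype.ext h
      have := congrArg e h'
      rw [map_pow, map_one, map_commutatorElement] at this
      simpa [a', x'] using this
    have hpow : ((2 * 2 ^ k : ℕ) : ZMod (2 * 2 ^ k)) = 0 := ZMod.natCast_self _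
    have e2 : ⁅a, x⁆ = QuaternionGroup.a (1 + 1) := by
      rw [commutatorElement_def]
      show QuaternionGroup.a 1 * QuaternionGroup.xa 0 * QuaternionGroup.a (-1) *
        QuaternionGroup.xa (((2 ^ k : ℕ) : ZMod (2 * 2 ^ k)) + 0) = _
      simp only [QuaternionGroup.a_mul_xa, QuaternionGroup.xa_mul_a, QuaternionGroup.xa_mul_xa]
      congr 1
      push_cast at hpow ⊢
      linear_combination hpow
    rw [e2, pow_two, QuaternionGroup.a_mul_a, QuaternionGroup.one_def, QuaternionGroup.a.injEq] at h4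
    have h5 : ((4 : ℕ) : ZMod (2 * 2 ^ k)) = 0 := by push_cast; linear_combination h4
    rw [ZMod.natCast_eq_zero_iff] at h5
    have := Nat.le_of_dvd (by norm_num) h5
    by_contra hne
    have : 2 ^ 2 ≤ 2 ^ k := Nat.pow_le_pow_right (by norm_num) (by omega)
    omega
  have hS8 : Nat.card (S : Subgroup (Matrix.SpecialLinearGroup (Fin 2) F)) = 8 := by
    rw [Nat.card_congr e.toEquiv, Nat.card_eq_fintype_card, QuaternionGroup.card, hk1]
    norm_num
  have h4 : Nat.card (P : Subgroup (Matrix.ProjectiveSpecialLinearGroup (Fin 2) F)) = 4 := by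
    obtain ⟨z, hz⟩ := exists_prime_orderOf_dvd_card' 2 (G := ↥(S : Subgroup (Matrix.SpecialLinearGroup (Fin 2) F)))
      (by rw [hS8]; norm_num)
    have hz1 : (z : Matrix.SpecialLinearGroup (Fin 2) F) ≠ 1 := fun e1 => by
      rw [show z = 1 from Subtype.ext e1, orderOf_one] at hz; exact absurd hz (by norm_num)
    have hzz : (z : Matrix.SpecialLinearGroup (Fin 2) F) * z = 1 := by
      rw [← pow_two]; exact congrArg Subtype.val (hz ▸ pow_orderOf_eq_one z)
    have hzm := CfsgLib.Classical.involution_eq_neg_one h2 hz1 hzz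
    have hzc : π z = 1 := (QuotientGroup.eq_one_iff _).2 (Subgroup.mem_center_iff.2 fun g => Subtype.ext (by
      rw [Matrix.SpecialLinearGroup.coe_mul, Matrix.SpecialLinearGroup.coe_mul, hzm]
      simp))
    let f := π.subgroupMap (S : Subgroup (Matrix.SpecialLinearGroup (Fin 2) F))
    have hker : f.ker = Subgroup.zpowers z := by
      refine le_antisymm (fun y hy => ?_) (Subgroup.zpowers_le.2 (MonoidHom.mem_ker.2 (Subtype.ext hzc)))
      have hy2 := hcen _ ((QuotientGroup.eq_one_iff _).1 (congrArg Subtype.val (MonoidHom.mem_ker.1 hy) :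
        π (y : Matrix.SpecialLinearGroup (Fin 2) F) = 1))
      by_cases hy1 : (y : Matrix.SpecialLinearGroup (Fin 2) F) = 1
      · rw [show y = 1 from Subtype.ext hy1]; exact one_mem _
      · have hym := CfsgLib.Classical.involution_eq_neg_one h2 hy1 (by rw [← pow_two]; exact hy2)
        rw [show y = z from Subtype.ext (Subtype.ext (hym.trans hzm.symm))]
        exact Subgroup.mem_zpowers z
    have h := Subgroup.card_eq_card_quotient_mul_card_subgroup f.ker
    rw [hS8, Nat.card_congr (QuotientGroup.quotientKerEquivOfSurjective f (π.subgroupMap_surjective _)).toEquiv,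
      hker, Nat.card_zpowers, hz] at h
    have hP4 : Nat.card ((S : Subgroup (Matrix.SpecialLinearGroup (Fin 2) F)).map π) = 4 := by omega
    rw [← hP4, hPe]
  have hcyc : ¬ IsCyclic (P : Subgroup (Matrix.ProjectiveSpecialLinearGroup (Fin 2) F)) := by
    intro hc
    have hd4 : 4 ∣ Nat.card (Matrix.ProjectiveSpecialLinearGroup (Fin 2) F) :=
      h4 ▸ Subgroup.card_subgroup_dvd_card _
    obtain ⟨H, hH⟩ := CfsgLib.Invol.exists_index_two_of_cyclic
      (even_iff_two_dvd.2 ((dvd_mul_right 2 2).trans hd4)) P hc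
    haveI := Subgroup.normal_of_index_eq_two hH
    rcases hs.eq_bot_or_eq_top_of_normal H inferInstance with e1 | e1
    · rw [e1, Subgroup.index_bot] at hH
      rw [hH] at hd4
      omega
    · rw [e1, Subgroup.index_top] at hH; norm_num at hH
  refine ⟨h4, fun x hx => ?_⟩
  by_contra hx2
  refine hcyc (isCyclic_of_orderOf_eq_card ⟨x, hx⟩ ?_)
  rw [h4]
  have hd : orderOf (⟨x, hx⟩ : (P : Subgroup (Matrix.ProjectiveSpecialLinearGroup (Fin 2) F))) ∣ 2 ^ 2 := by
    have := orderOf_dvd_natCard (⟨x, hx⟩ : (P : Subgroup (Matrix.ProjectiveSpecialLinearGroup (Fin 2) F)))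
    rwa [h4] at this
  obtain ⟨i, hi, hi'⟩ := (Nat.dvd_prime_pow Nat.prime_two).1 hd
  have : i = 2 := by
    by_contra hne
    refine hx2 ?_
    have : orderOf (⟨x, hx⟩ : (P : Subgroup (Matrix.ProjectiveSpecialLinearGroup (Fin 2) F))) ∣ 2 := by
      rw [hi']; exact pow_dvd_pow 2 (show i ≤ 1 by omega)
    exact congrArg Subtype.val (orderOf_dvd_iff_pow_eq_one.1 this)
  rw [hi', this]; norm_num

/-- A simple normal subgroup with trivial centralizer and 2-power index contains the abelian Sylow 2-subgroup. -/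
theorem eq_top_of_simple_of_abelian_sylow {M : Type*} [Group M] [Finite M] (K : Subgroup M) [K.Normal]
    (hK : IsSimpleGroup K) (hKperf : ⁅K, K⁆ = K) (hKeven : Even (Nat.card K))
    (hC : centralizer (K : Set M) = ⊥) (P : Sylow 2 M)
    (hP : IsMulCommutative (P : Subgroup M)) (hKP : K ⊔ (P : Subgroup M) = ⊤) : K = ⊤ := by
  classical
  haveI : Fact (Nat.Prime 2) := ⟨Nat.prime_two⟩
  suffices hPK : (P : Subgroup M) ≤ K by rwa [sup_of_le_left hPK] at hKP
  set A := normalizer ((P : Subgroup M) : Set M) with hA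
  have hPA : (P : Subgroup M) ≤ A := Subgroup.le_normalizer
  haveI : ((P : Subgroup M).subgroupOf A).Normal := Subgroup.normal_subgroupOf_of_le_normalizer le_rfl
  haveI : IsMulCommutative ((P : Subgroup M).subgroupOf A) := by
    refine ⟨⟨fun a b => Subtype.ext (Subtype.ext ?_)⟩⟩
    haveI := hP
    have h := congrArg Subtype.val (mul_comm' (⟨_, Subgroup.mem_subgroupOf.1 a.2⟩ : (P : Subgroup M)) ⟨_, Subgroup.mem_subgroupOf.1 b.2⟩)
    exact h
  have hcop : Nat.Coprime (Nat.card ((P : Subgroup M).subgroupOf A)) ((P : Subgroup M).subgroupOf A).index := by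
    obtain ⟨n, hn⟩ := P.2.exists_card_eq
    rw [Nat.card_congr (Subgroup.subgroupOfEquivOfLe hPA).toEquiv, hn]
    exact (Nat.prime_two.coprime_iff_not_dvd.2 fun hd =>
      P.not_dvd_index (hd.trans (Subgroup.relIndex_dvd_index_of_le hPA))).pow_left n
  have hKle : K ≤ Cfsg.pResidual 2 M :=
    (hKperf.ge.trans (Subgroup.commutator_mono le_top le_top)).trans
      (CfsgLib.Fusion.commutator_le_pResidual_of_abelian P hP)
  have hfoc : ⁅(P : Subgroup M), A⁆ ≤ K := by
    rw [← CfsgLib.Fusion.inf_pResidual_abelian_sylow P hP]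
    refine inf_le_right.trans ?_
    have hq : IsPGroup 2 (M ⧸ K) := by
      refine (P.2.map (QuotientGroup.mk' K)).of_equiv ((MulEquiv.subgroupCongr ?_).trans Subgroup.topEquiv)
      rw [← Subgroup.map_top_of_surjective _ (QuotientGroup.mk'_surjective K), ← hKP, Subgroup.map_sup,
        (Subgroup.map_eq_bot_iff _).2 (QuotientGroup.ker_mk' K).ge, bot_sup_eq]
    exact CfsgLib.Fusion.pResidual_le_of_isPGroup_quotient K hq
  by_contra hPK
  obtain ⟨p, hp, hpK⟩ := SetLike.not_le_iff_exists.1 hPK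
  have hdec := CfsgLib.Fusion.le_commutator_sup_center ((P : Subgroup M).subgroupOf A) hcop
    (x := ⟨p, hPA hp⟩) (Subgroup.mem_subgroupOf.2 hp)
  have hc1 : (⁅(P : Subgroup M).subgroupOf A, (⊤ : Subgroup ↥A)⁆).map A.subtype ≤ ⁅(P : Subgroup M), A⁆ := by
    rw [Subgroup.map_commutator, Subgroup.map_subgroupOf_eq_of_le hPA, ← MonoidHom.range_eq_map,
      Subgroup.range_subtype]
  obtain ⟨z, hz, hz1⟩ : ∃ z ∈ center ↥A ⊓ (P : Subgroup M).subgroupOf A, z ≠ 1 := by
    by_contra h
    push Not at h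
    rw [sup_of_le_left ((fun w hw => (h w hw).symm ▸ one_mem _) :
      center ↥A ⊓ (P : Subgroup M).subgroupOf A ≤ ⁅(P : Subgroup M).subgroupOf A, (⊤ : Subgroup ↥A)⁆)] at hdec
    exact hpK (hfoc (hc1 (Subgroup.mem_map_of_mem _ hdec)))
  obtain ⟨i, hi⟩ : ∃ i, orderOf z = 2 ^ (i + 1) := by
    obtain ⟨n, hn⟩ := IsPGroup.iff_orderOf.1
      (P.2.of_equiv (Subgroup.subgroupOfEquivOfLe hPA).symm) ⟨z, hz.2⟩
    rw [← Subgroup.orderOf_coe] at hn
    cases n with
    | zero => rw [pow_zero] at hn; exact absurd (orderOf_eq_one_iff.1 hn) hz1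
    | succ n => exact ⟨n, hn⟩
  set v := z ^ 2 ^ i with hv
  have hvo : orderOf v = 2 := by
    rw [hv, orderOf_pow' _ (by positivity), hi, pow_succ, Nat.gcd_eq_right (dvd_mul_right _ _), Nat.mul_div_cancel_left _ (by positivity)]
  have hvm : v ∈ center ↥A ⊓ (P : Subgroup M).subgroupOf A := pow_mem hz _
  set w : M := (v : M) with hw
  have hwo : orderOf w = 2 := by rw [hw, Subgroup.orderOf_coe, hvo]
  have hwc : CfsgLib.Invol.IsZCentral w := by
    refine CfsgLib.Invol.zstar_of_weakly_closed P hwo fun g hg => ?_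
    obtain ⟨n, hn, e⟩ := CfsgLib.Fusion.abelian_sylow_control P hP (Subgroup.mem_subgroupOf.1 hvm.2) g hg
    rw [← e]
    have := congrArg Subtype.val (Subgroup.mem_center_iff.1 hvm.1 ⟨n, hn⟩)
    exact mul_inv_eq_iff_eq_mul.2 this
  have hwK : w ∈ centralizer (K : Set M) := by
    have hbot : Cfsg.pPrimeCore 2 M ⊓ K = ⊥ := by
      rcases hK.eq_bot_or_eq_top_of_normal ((Cfsg.pPrimeCore 2 M).subgroupOf K) inferInstance with e | e
      · rw [← Subgroup.map_subgroupOf_eq_of_le (inf_le_right : Cfsg.pPrimeCore 2 M ⊓ K ≤ K), Subgroup.inf_subgroupOf_right, e,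
          Subgroup.map_bot]
      · exfalso
        have hle : K ≤ Cfsg.pPrimeCore 2 M := Subgroup.subgroupOf_eq_top.1 e
        exact Nat.prime_two.ne_one (Nat.eq_one_of_dvd_coprimes (CfsgLib.Coprime.pPrimeCore_coprime Nat.prime_two)
          (hKeven.two_dvd.trans (Subgroup.card_dvd_of_le hle)) dvd_rfl)
    refine Subgroup.mem_centralizer_iff.2 fun k hk => ?_
    have hm : w * k * w⁻¹ * k⁻¹ ∈ Cfsg.pPrimeCore 2 M ⊓ K :=
      ⟨hwc k, K.mul_mem ((inferInstance : K.Normal).conj_mem k hk w) (K.inv_mem hk)⟩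
    rw [hbot, Subgroup.mem_bot, ← commutatorElement_def, commutatorElement_eq_one_iff_mul_comm] at hm
    exact hm.symm
  rw [hC, Subgroup.mem_bot] at hwK
  rw [hwK, orderOf_one] at hwo
  norm_num at hwo

/-- Let G be a non-abelian finite simple group with abelian Sylow 2-subgroups, and let t be an involution of G whose centralizer is a maximal subgroup of G and is the direct product of the subgroup generated by t with a subgroup E having a normal subgroup isomorphic to PSL(2, q), q odd and greater than 3, with trivial centralizer in E. Then every finite perfect group having a central 2-subgroup with quotient isomorphic to G has that central subgroup trivial (G has no nontrivial perfect central extension by a 2-group), and every automorphism of G of 2-power order that fixes every element of some Sylow 2-subgroup of G is inner. -/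
theorem result {G : Type*} [Group G] [Finite G] [IsSimpleGroup G]
    (hG : ¬ IsMulCommutative G) (hab : ∀ S : Sylow 2 G, IsMulCommutative ↥(S : Subgroup G))
    (t : G) (ht : orderOf t = 2) (hmax : IsCoatom (Subgroup.centralizer ({t} : Set G)))
    (E : Subgroup G) (hE : Cfsg.IsInternalDirectProduct (Subgroup.zpowers t) E (Subgroup.centralizer ({t} : Set G)))
    {F : Type*} [Field F] [Fintype F] (hFo : Odd (Fintype.card F)) (hF3 : 3 < Fintype.card F)
    (N : Subgroup ↥E) [N.Normal] (hN : Nonempty (↥N ≃* Matrix.ProjectiveSpecialLinearGroup (Fin 2) F))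
    (hNc : Subgroup.centralizer (N : Set ↥E) = ⊥) :
    (∀ (L : Type) (_ : Group L) (_ : Finite L) (Z : Subgroup L) (_ : Z.Normal), commutator L = ⊤ → Z ≤ Subgroup.center L →
        IsPGroup 2 ↥Z → Nonempty (L ⧸ Z ≃* G) → Z = ⊥) ∧
    (∀ (φ : G ≃* G) (k : ℕ), φ ^ (2 ^ k) = 1 → (∃ S : Sylow 2 G, ∀ s ∈ (S : Subgroup G), φ s = s) →
        ∃ g : G, ∀ x : G, φ x = g * x * g⁻¹) := by
  classical
  haveI : Fact (Nat.Prime 2) := ⟨Nat.prime_two⟩
  obtain ⟨hTC, hEC, hTE, hinf, hsup⟩ := hE
  set C := Subgroup.centralizer ({t} : Set G) with hC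
  have htC : t ∈ C := hTC (Subgroup.mem_zpowers t)
  have htcen : ∀ c ∈ C, Commute c t := fun c hc => Subgroup.mem_centralizer_singleton_iff.1 hc
  -- the simple subgroup `K`
  set K := N.map E.subtype with hK
  obtain ⟨eN⟩ := hN
  set eK : K ≃* Matrix.ProjectiveSpecialLinearGroup (Fin 2) F :=
    (N.equivMapOfInjective E.subtype E.subtype_injective).symm.trans eN with heK
  have hKE : K ≤ E := Subgroup.map_subtype_le N
  have hKC : K ≤ C := hKE.trans hEC
  haveI hPs : IsSimpleGroup (Matrix.ProjectiveSpecialLinearGroup (Fin 2) F) :=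
    Matrix.ProjectiveSpecialLinearGroup.rank_two_simple (by rw [Nat.card_eq_fintype_card]; omega)
  haveI : Nontrivial K := eK.toEquiv.nontrivial
  haveI hKs : IsSimpleGroup K := IsSimpleGroup.isSimpleGroup_of_surjective eK.symm.toMonoidHom eK.symm.surjective
  obtain ⟨PK⟩ : Nonempty (Sylow 2 K) := inferInstance
  have hPKab : ∀ P : Sylow 2 K, IsMulCommutative (P : Subgroup K) := fun P =>
    ⟨⟨fun a b => Subtype.ext (Subtype.ext (by
      exact comm_of_sylow hab (P.2.map K.subtype) (Subgroup.mem_map_of_mem K.subtype a.2)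
        (Subgroup.mem_map_of_mem K.subtype b.2)))⟩⟩
  have hP4 : ∀ P : Sylow 2 K, Nat.card (P : Subgroup K) = 4 ∧ ∀ x ∈ (P : Subgroup K), x ^ 2 = 1 := by
    intro P
    let Q := Sylow.mapSurjective (f := eK.toMonoidHom) eK.surjective P
    have hQ : IsMulCommutative (Q : Subgroup (Matrix.ProjectiveSpecialLinearGroup (Fin 2) F)) := by
      refine ⟨⟨?_⟩⟩
      rintro ⟨a, a', ha', rfl⟩ ⟨b, b', hb', rfl⟩
      haveI := hPKab P
      refine Subtype.ext ?_
      show eK.toMonoidHom a' * eK.toMonoidHom b' = eK.toMonoidHom b' * eK.toMonoidHom a'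
      rw [← map_mul, ← map_mul]
      exact congrArg _ (congrArg Subtype.val (mul_comm' (⟨a', ha'⟩ : (P : Subgroup K)) ⟨b', hb'⟩))
    obtain ⟨h4, h2⟩ := psl_abelian_sylow hFo hF3 Q hQ
    refine ⟨(Nat.card_congr ((P : Subgroup K).equivMapOfInjective eK.toMonoidHom eK.injective).toEquiv).trans h4, fun x hx => ?_⟩
    have h := h2 (eK x) ⟨x, hx, rfl⟩
    rw [← map_pow, ← map_one eK] at h
    exact eK.injective h
  have hKnc : ¬ IsMulCommutative K := by
    intro hc
    haveI := hc
    have hd : Nat.Prime (Nat.card K) := by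
      letI : CommGroup K := { (inferInstance : Group K) with mul_comm := mul_comm' }
      exact IsSimpleGroup.prime_card
    have h4 : 4 ∣ Nat.card K := (hP4 PK).1 ▸ Subgroup.card_subgroup_dvd_card _
    rcases hd.eq_one_or_self_of_dvd 4 h4 with h | h
    · omega
    · rw [← h] at hd; norm_num at hd
  have hKperf : ⁅K, K⁆ = K := by
    rcases hKs.eq_bot_or_eq_top_of_normal (commutator K) inferInstance with e | e
    · refine absurd ⟨⟨fun a b => ?_⟩⟩ hKnc
      have : ⁅a, b⁆ ∈ commutator K := Subgroup.commutator_mem_commutator (Subgroup.mem_top a) (Subgroup.mem_top b)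
      rw [e, Subgroup.mem_bot, commutatorElement_eq_one_iff_mul_comm] at this
      exact this
    · rw [← Subgroup.map_subtype_commutator, e, ← MonoidHom.range_eq_map, Subgroup.range_subtype]
  have hEK : E ≤ normalizer (K : Set G) := by
    have h := Subgroup.le_normalizer_map E.subtype (H := N)
    rwa [Subgroup.normalizer_eq_top N, ← MonoidHom.range_eq_map, Subgroup.range_subtype] at h
  have hCK : C ≤ normalizer (K : Set G) := by
    rw [← hsup]
    refine sup_le (Subgroup.zpowers_le.2 (Subgroup.centralizer_le_normalizer _ ?_)) hEK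
    exact Subgroup.mem_centralizer_iff.2 fun x hx => (hTE t (Subgroup.mem_zpowers t) x (hKE hx)).symm
  have hcentE : ∀ x ∈ E, (∀ y ∈ K, Commute x y) → x = 1 := by
    intro x hx h
    have : (⟨x, hx⟩ : E) ∈ centralizer (N : Set E) := Subgroup.mem_centralizer_iff.2 fun n hn =>
      Subtype.ext (h n (Subgroup.mem_map_of_mem E.subtype hn)).eq.symm
    rw [hNc, Subgroup.mem_bot] at this
    exact congrArg Subtype.val this
  have hdec : ∀ c ∈ C, ∃ u ∈ zpowers t, ∃ x ∈ E, u * x = c := by
    intro c hc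
    rw [← hsup] at hc
    exact CfsgLib.Coprime.mem_sup_exists ((fun x hx => Subgroup.centralizer_le_normalizer _
      (Subgroup.mem_centralizer_iff.2 fun u hu => hTE u hu x hx)) : E ≤ normalizer (zpowers t : Set G)) hc
  have hcentC : ∀ c ∈ C, (∀ y ∈ K, Commute c y) → c ∈ zpowers t := by
    intro c hc h
    obtain ⟨u, hu, x, hx, rfl⟩ := hdec c hc
    have hx1 : x = 1 := hcentE x hx fun y hy => by
      have h1 : Commute u y := hTE u hu y (hKE hy)
      have := (h1.inv_left).mul_left (h y hy)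
      rwa [inv_mul_cancel_left] at this
    rwa [hx1, mul_one]
  -- facts relative to a Sylow subgroup containing `t`
  have key : ∀ S : Sylow 2 G, t ∈ (S : Subgroup G) → ∃ V NK : Subgroup G,
      V ≤ (S : Subgroup G) ∧ V ≤ K ∧ NK ≤ K ∧ NK ≤ normalizer ((S : Subgroup G) : Set G) ∧
      (∀ s ∈ (S : Subgroup G), ∃ u ∈ zpowers t, ∃ v ∈ V, u * v = s) ∧
      (V ≤ Subgroup.closure {w | ∃ v ∈ V, ∃ k ∈ NK, w = ⁅v, k⁆}) ∧
      (∀ v ∈ V, (∀ k ∈ NK, Commute v k) → v = 1) ∧
      (S : Subgroup G) ≤ Subgroup.closure {w | ∃ n ∈ normalizer ((S : Subgroup G) : Set G), w = n * t * n⁻¹} ∧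
      (∃ n ∈ normalizer ((S : Subgroup G) : Set G), n ∉ C) ∧
      (∀ k ∈ K, (∀ v ∈ V, Commute k v) → (∃ j : ℕ, k ^ 2 ^ j = 1) → k ∈ V) := by
    intro S htS
    have hSC : (S : Subgroup G) ≤ C := fun x hx =>
      Subgroup.mem_centralizer_singleton_iff.2 (comm_of_sylow hab S.2 hx htS)
    set V := (S : Subgroup G) ⊓ K with hV
    have hV2 : IsPGroup 2 (V.subgroupOf K) :=
      (S.2.to_le (inf_le_left : V ≤ S)).comap_of_injective K.subtype K.subtype_injective
    obtain ⟨P, hP⟩ := hV2.exists_le_sylow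
    have hVP : V = (P : Subgroup K).map K.subtype := by
      refine Subgroup.eq_of_le_of_card_ge
        (le_trans (Subgroup.map_subgroupOf_eq_of_le (inf_le_right : V ≤ K)).ge (Subgroup.map_mono hP)) ?_
      -- a conjugate of `P` in `C` lies in `S`
      set Q := ((P : Subgroup K).map K.subtype) with hQ
      have hQ2 : IsPGroup 2 (Q.subgroupOf C) := (P.2.map K.subtype).comap_of_injective C.subtype C.subtype_injective
      obtain ⟨R, hR⟩ := hQ2.exists_le_sylow
      obtain ⟨c, hc⟩ := MulAction.exists_smul_eq C R (S.subtype hSC)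
      have hle : Q.map (MulAut.conj (c : G)).toMonoidHom ≤ V := by
        rintro _ ⟨q, hq, rfl⟩
        have hqK : q ∈ K := Subgroup.map_subtype_le _ hq
        refine ⟨?_, (Subgroup.mem_normalizer_iff.1 (hCK c.2) q).1 hqK⟩
        have h1 : MulAut.conj c ⟨q, hKC hqK⟩ ∈ ((c • R : Sylow 2 C) : Subgroup C) := by
          rw [Sylow.coe_subgroup_smul]
          exact Subgroup.smul_mem_pointwise_smul _ (MulAut.conj c) _
            (hR (x := ⟨q, hKC hqK⟩) (Subgroup.mem_subgroupOf.2 hq))
        rw [hc] at h1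
        exact Subgroup.mem_subgroupOf.1 h1
      exact (Subgroup.card_map_of_injective (MulAut.conj (c : G)).injective).symm.trans_le
        (Subgroup.card_le_of_le hle)
    set NK := (normalizer ((P : Subgroup K) : Set K)).map K.subtype with hNK
    have hNKV : NK ≤ normalizer (V : Set G) := hVP ▸ Subgroup.le_normalizer_map _
    have hV4 : Nat.card V = 4 := by
      rw [hVP, Subgroup.card_map_of_injective K.subtype_injective]; exact (hP4 P).1
    have hSdec : ∀ s ∈ (S : Subgroup G), ∃ u ∈ zpowers t, ∃ v ∈ V, u * v = s := by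
      intro s hs
      obtain ⟨u, hu, x, hx, e⟩ := hdec s (hSC hs)
      refine ⟨u, hu, x, ⟨?_, ?_⟩, e⟩
      · have : x = u⁻¹ * s := by rw [← e, inv_mul_cancel_left]
        rw [this]; exact (S : Subgroup G).mul_mem ((S : Subgroup G).inv_mem ((Subgroup.zpowers_le.2 htS) hu)) hs
      have hxS : x ∈ (S : Subgroup G) := by
        have : x = u⁻¹ * s := by rw [← e, inv_mul_cancel_left]
        rw [this]; exact (S : Subgroup G).mul_mem ((S : Subgroup G).inv_mem ((Subgroup.zpowers_le.2 htS) hu)) hs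
      set M := K ⊔ zpowers x with hM
      have hxM : x ∈ M := Subgroup.mem_sup_right (Subgroup.mem_zpowers x)
      have hME : M ≤ E := sup_le hKE (Subgroup.zpowers_le.2 hx)
      haveI hKn : (K.subgroupOf M).Normal := Subgroup.normal_subgroupOf_of_le_normalizer (hME.trans hEK)
      have hx2 : IsPGroup 2 (zpowers (⟨x, hxM⟩ : M)) := by
        refine (S.2.comap_of_injective M.subtype M.subtype_injective).to_le (Subgroup.zpowers_le.2 ?_)
        exact hxS
      obtain ⟨R, hR⟩ := hx2.exists_le_sylow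
      haveI : Nontrivial (K.subgroupOf M) :=
        (Subgroup.subgroupOfEquivOfLe (le_sup_left : K ≤ M)).toEquiv.nontrivial
      have htop := eq_top_of_simple_of_abelian_sylow (K.subgroupOf M)
        (IsSimpleGroup.isSimpleGroup_of_surjective (Subgroup.subgroupOfEquivOfLe (le_sup_left : K ≤ M)).symm.toMonoidHom
          (Subgroup.subgroupOfEquivOfLe (le_sup_left : K ≤ M)).symm.surjective)
        (Subgroup.map_injective M.subtype_injective (by
          rw [Subgroup.map_commutator, Subgroup.map_subgroupOf_eq_of_le (le_sup_left : K ≤ M), hKperf]))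
        (by
          rw [Nat.card_congr (Subgroup.subgroupOfEquivOfLe (le_sup_left : K ≤ M)).toEquiv]
          exact even_iff_two_dvd.2 ((dvd_mul_right 2 2).trans ((dvd_of_eq (hP4 P).1.symm).trans (Subgroup.card_subgroup_dvd_card _))))
        ((Subgroup.eq_bot_iff_forall _).2 fun m hm => Subtype.ext (hcentE m (hME m.2) fun y hy =>
          congrArg Subtype.val (Subgroup.mem_centralizer_iff.1 hm ⟨y, Subgroup.mem_sup_left hy⟩
            (Subgroup.mem_subgroupOf.2 hy)).symm))
        R ⟨⟨fun a b => Subtype.ext (Subtype.ext (by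
          exact comm_of_sylow hab (R.2.map M.subtype) (Subgroup.mem_map_of_mem M.subtype a.2)
            (Subgroup.mem_map_of_mem M.subtype b.2)))⟩⟩
        (by
          refine eq_top_iff.2 fun m _ => ?_
          obtain ⟨a, ha, b, hb, e⟩ := CfsgLib.Coprime.mem_sup_exists
            ((Subgroup.zpowers_le.2 hx).trans hEK) (show (m : G) ∈ K ⊔ zpowers x from m.2)
          obtain ⟨i, rfl⟩ := Subgroup.mem_zpowers_iff.1 hb
          have : m = ⟨a, Subgroup.mem_sup_left ha⟩ * (⟨x, hxM⟩ : M) ^ i := Subtype.ext (by simp [← e])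
          rw [this]
          exact Subgroup.mul_mem_sup (Subgroup.mem_subgroupOf.2 ha) (hR (zpow_mem (Subgroup.mem_zpowers _) i)))
      exact Subgroup.mem_subgroupOf.1 (htop.ge (Subgroup.mem_top (⟨x, hxM⟩ : M)))
    have hNKS : NK ≤ normalizer ((S : Subgroup G) : Set G) := by
      intro k hk
      have hkC : k ∈ C := hKC (Subgroup.map_subtype_le _ hk)
      refine Subgroup.mem_normalizer_iff_map_conj_eq.2 (Subgroup.eq_of_le_of_card_ge ?_
        (Subgroup.card_map_of_injective (MulAut.conj k).injective).ge)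
      rintro _ ⟨s, hs, rfl⟩
      obtain ⟨u, hu, v, hv, rfl⟩ := hSdec s hs
      obtain ⟨i, rfl⟩ := Subgroup.mem_zpowers_iff.1 hu
      show k * (t ^ i * v) * k⁻¹ ∈ (S : Subgroup G)
      rw [← mul_assoc k, ((htcen k hkC).zpow_right i).eq, mul_assoc (t ^ i) k, mul_assoc (t ^ i)]
      exact mul_mem (zpow_mem htS i) ((Subgroup.mem_normalizer_iff.1 (hNKV hk) v).1 hv).1
    have hfoc : (P : Subgroup K) = ⁅(P : Subgroup K), normalizer ((P : Subgroup K) : Set K)⁆ := by
      rw [← CfsgLib.Fusion.inf_pResidual_abelian_sylow P (hPKab P), inf_of_le_left]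
      refine le_trans ?_ (CfsgLib.Fusion.commutator_le_pResidual_of_abelian P (hPKab P))
      have : commutator K = ⊤ := Subgroup.map_injective K.subtype_injective (by
        rw [Subgroup.map_subtype_commutator, hKperf, ← MonoidHom.range_eq_map, Subgroup.range_subtype])
      rw [this]; exact le_top
    have hgenV : V ≤ Subgroup.closure {w | ∃ v ∈ V, ∃ k ∈ NK, w = ⁅v, k⁆} := by
      intro v hv
      rw [hVP, hfoc, Subgroup.map_commutator, ← hVP, ← hNK, Subgroup.commutator_def] at hv
      refine Subgroup.closure_mono ?_ hv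
      rintro w ⟨a, ha, b, hb, e⟩
      exact ⟨a, ha, b, hb, e.symm⟩
    have hfix : ∀ v ∈ V, (∀ k ∈ NK, Commute v k) → v = 1 := by
      intro v hv h
      rw [hVP] at hv
      obtain ⟨v, hv, rfl⟩ := hv
      set A := normalizer ((P : Subgroup K) : Set K) with hA
      have hPA : (P : Subgroup K) ≤ A := Subgroup.le_normalizer
      haveI : IsMulCommutative ((P : Subgroup K).subgroupOf A) := ⟨⟨fun a b => Subtype.ext (Subtype.ext (by
        have h' := congrArg Subtype.val ((hPKab P).is_comm.comm (⟨_, Subgroup.mem_subgroupOf.1 a.2⟩ : (P : Subgroup K))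
          ⟨_, Subgroup.mem_subgroupOf.1 b.2⟩)
        exact h'))⟩⟩
      have hcop : Nat.Coprime (Nat.card ((P : Subgroup K).subgroupOf A)) ((P : Subgroup K).subgroupOf A).index := by
        obtain ⟨n, hn⟩ := P.2.exists_card_eq
        rw [Nat.card_congr (Subgroup.subgroupOfEquivOfLe hPA).toEquiv, hn]
        exact (Nat.prime_two.coprime_iff_not_dvd.2 fun hd =>
          P.not_dvd_index (hd.trans (Subgroup.relIndex_dvd_index_of_le hPA))).pow_left n
      have hvc : (⟨v, hPA hv⟩ : A) ∈ commutator A := by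
        refine (Subgroup.mem_map_iff_mem A.subtype_injective).1 ?_
        rw [Subgroup.map_subtype_commutator]
        have hv' := hv
        rw [hfoc] at hv'
        exact Subgroup.commutator_mono hPA le_rfl hv'
      have h1 := CfsgLib.Fusion.central_inf_commutator_eq_one ((P : Subgroup K).subgroupOf A) hcop
        (x := ⟨v, hPA hv⟩) (Subgroup.mem_center_iff.2 fun w => Subtype.ext (Subtype.ext
          (h _ (Subgroup.mem_map_of_mem K.subtype w.2)).eq.symm)) hvc (Subgroup.mem_subgroupOf.2 hv)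
      rw [show v = 1 from congrArg Subtype.val h1, map_one]
    obtain ⟨n, hn, hnC⟩ : ∃ n ∈ normalizer ((S : Subgroup G) : Set G), n ∉ C := by
      by_contra h
      push Not at h
      have hz : CfsgLib.Invol.IsZCentral t := by
        refine CfsgLib.Invol.zstar_of_weakly_closed S ht fun g hg => ?_
        obtain ⟨n, hn, e⟩ := CfsgLib.Fusion.abelian_sylow_control S (hab S) htS g hg
        rw [← e]
        exact mul_inv_eq_iff_eq_mul.2 (htcen n (h n hn)).eq
      have hO : Cfsg.pPrimeCore 2 G = ⊥ := by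
        refine (IsSimpleGroup.eq_bot_or_eq_top_of_normal (Cfsg.pPrimeCore 2 G) inferInstance).resolve_right fun e => ?_
        have hd := CfsgLib.Coprime.pPrimeCore_coprime (G := G) Nat.prime_two
        rw [e, Subgroup.card_top] at hd
        exact Nat.prime_two.ne_one (Nat.eq_one_of_dvd_coprimes hd (ht ▸ orderOf_dvd_natCard t) dvd_rfl)
      have htop : C = ⊤ := eq_top_iff.2 fun g _ => by
        have := hz g
        rw [hO, Subgroup.mem_bot, ← commutatorElement_def, commutatorElement_eq_one_iff_mul_comm] at this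
        exact Subgroup.mem_centralizer_singleton_iff.2 this.symm
      exact hmax.1 htop
    refine ⟨V, NK, inf_le_left, inf_le_right, Subgroup.map_subtype_le _, hNKS, hSdec, hgenV, hfix, ?_,
      ⟨n, hn, hnC⟩, ?_⟩
    · set W := Subgroup.closure {w | ∃ n ∈ normalizer ((S : Subgroup G) : Set G), w = n * t * n⁻¹} with hW
      have htW : t ∈ W := Subgroup.subset_closure ⟨1, one_mem _, by simp⟩
      have hWinv : ∀ k ∈ normalizer ((S : Subgroup G) : Set G), ∀ w ∈ W, k * w * k⁻¹ ∈ W := by
        intro k hk w hw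
        have : W ≤ W.comap (MulAut.conj k).toMonoidHom := by
          rw [hW, Subgroup.closure_le]
          rintro _ ⟨m, hm, rfl⟩
          exact Subgroup.subset_closure ⟨k * m, mul_mem hk hm, by simp [mul_assoc]⟩
        exact this hw
      obtain ⟨u, hu, v, hv, e⟩ := hSdec (n * t * n⁻¹) ((Subgroup.mem_normalizer_iff.1 hn t).1 htS)
      have hvW : v ∈ W := by
        rw [show v = u⁻¹ * (n * t * n⁻¹) by rw [← e, inv_mul_cancel_left]]
        exact mul_mem (inv_mem ((Subgroup.zpowers_le.2 htW) hu)) (Subgroup.subset_closure ⟨n, hn, rfl⟩)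
      have hv1 : v ≠ 1 := by
        rintro rfl
        rw [mul_one] at e
        obtain ⟨i, rfl⟩ := Subgroup.mem_zpowers_iff.1 hu
        apply hnC
        rcases Int.even_or_odd i with ⟨j, rfl⟩ | ⟨j, rfl⟩
        · rw [← two_mul, zpow_mul, zpow_ofNat, ← ht, pow_orderOf_eq_one, one_zpow] at e
          have h1 : t = 1 := conj_eq_one_iff.1 e.symm
          rw [h1, orderOf_one] at ht; exact absurd ht (by norm_num)
        · rw [zpow_add, zpow_mul, zpow_ofNat, ← ht, pow_orderOf_eq_one, one_zpow, one_mul, zpow_one] at e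
          exact Subgroup.mem_centralizer_singleton_iff.2 (mul_inv_eq_iff_eq_mul.1 e.symm)
      obtain ⟨k, hk, hkv⟩ : ∃ k ∈ NK, k * v * k⁻¹ ≠ v := by
        by_contra h
        push Not at h
        exact hv1 (hfix v hv fun k hk => (mul_inv_eq_iff_eq_mul.1 (h k hk)).symm)
      have hVW : V ≤ W := by
        have h3 : 3 ≤ Nat.card (V ⊓ W : Subgroup G) := by
          let f : Fin 3 → (V ⊓ W : Subgroup G) := ![1, ⟨v, hv, hvW⟩,
            ⟨k * v * k⁻¹, (Subgroup.mem_normalizer_iff.1 (hNKV hk) v).1 hv, hWinv k (hNKS hk) v hvW⟩]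
          have hf : Function.Injective f := by
            have h02 : k * v * k⁻¹ ≠ 1 := fun e1 => hv1 (conj_eq_one_iff.1 e1)
            intro a b e
            fin_cases a <;> fin_cases b <;>
              first
                | rfl
                | (exfalso
                   simp only [f, Subtype.ext_iff] at e
                   first
                     | exact hv1 e
                     | exact hv1 e.symm
                     | exact h02 e
                     | exact h02 e.symm
                     | exact hkv e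
                     | exact hkv e.symm)
          have := Nat.card_le_card_of_injective f hf
          rwa [Nat.card_fin] at this
        have hd : Nat.card (V ⊓ W : Subgroup G) ∣ 4 := hV4 ▸ Subgroup.card_dvd_of_le inf_le_left
        have h4 : 4 ≤ Nat.card (V ⊓ W : Subgroup G) := by
          by_contra hlt
          rw [show Nat.card (V ⊓ W : Subgroup G) = 3 by omega] at hd
          norm_num at hd
        exact (Subgroup.eq_of_le_of_card_ge inf_le_left (hV4 ▸ h4)).ge.trans inf_le_right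
      intro s hs
      obtain ⟨u, hu, v, hv, rfl⟩ := hSdec s hs
      exact mul_mem ((Subgroup.zpowers_le.2 htW) hu) (hVW hv)
    · intro k hk hkv ⟨j, hj⟩
      have hkp : IsPGroup 2 (zpowers (⟨k, hk⟩ : K)) := by
        obtain ⟨i, -, hi⟩ := (Nat.dvd_prime_pow Nat.prime_two).1 (orderOf_dvd_of_pow_eq_one
          (show (⟨k, hk⟩ : K) ^ 2 ^ j = 1 from Subtype.ext hj))
        exact IsPGroup.of_card (n := i) (by rw [Nat.card_zpowers, hi])
      have hT := P.2.to_sup_of_normal_left' hkp (Subgroup.zpowers_le.2 (Subgroup.centralizer_le_normalizer _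
        (Subgroup.mem_centralizer_iff.2 fun w hw => Subtype.ext
          (hkv w (hVP ▸ Subgroup.mem_map_of_mem K.subtype hw)).eq.symm)))
      have e := P.3 hT le_sup_left
      rw [hVP]
      exact ⟨⟨k, hk⟩, e ▸ Subgroup.mem_sup_right (Subgroup.mem_zpowers _), rfl⟩
  obtain ⟨S₀, hS₀⟩ : ∃ S : Sylow 2 G, t ∈ (S : Subgroup G) := by
    obtain ⟨S, hS⟩ := (show IsPGroup 2 (zpowers t) from
      IsPGroup.of_card (n := 1) (by rw [Nat.card_zpowers, ht, pow_one])).exists_le_sylow
    exact ⟨S, hS (Subgroup.mem_zpowers t)⟩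
  refine ⟨?_, ?_⟩
  · -- central extensions
    intro L _ _ Z _ hperfL hZc hZp ⟨e⟩
    obtain ⟨V, NK, hVS, hVK, hNKK, hNKS, hSdec, hgenV, -, hgenS, -, -⟩ := key S₀ hS₀
    set f : L →* G := e.toMonoidHom.comp (QuotientGroup.mk' Z) with hf
    have hfs : Function.Surjective f := e.surjective.comp (QuotientGroup.mk'_surjective Z)
    have hfk : ∀ z, f z = 1 ↔ z ∈ Z := fun z => by
      show e (QuotientGroup.mk' Z z) = 1 ↔ _
      rw [MulEquiv.map_eq_one_iff]
      exact QuotientGroup.eq_one_iff z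
    have hfz : ∀ a b, f a = f b → ∃ z ∈ Z, b = a * z := fun a b h =>
      ⟨a⁻¹ * b, (hfk _).1 (by rw [map_mul, map_inv, h, inv_mul_cancel]), by rw [mul_inv_cancel_left]⟩
    have hzc : ∀ z ∈ Z, ∀ w, Commute w z := fun z hz w => Subgroup.mem_center_iff.1 (hZc hz) w
    set T := (S₀ : Subgroup G).comap f with hT
    have hT2 : IsPGroup 2 T := S₀.2.comap_of_ker_isPGroup f (hZp.to_le fun z hz => (hfk z).1 hz)
    have hTx : ∀ x, f x = t → ∀ u ∈ T, Commute x u := by
      intro x hx
      have hS : (S₀ : Subgroup G) ≤ (centralizer ({x} : Set L)).map f := by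
        intro s hs
        obtain ⟨a, ha, b, hb, rfl⟩ := hSdec s hs
        refine mul_mem (Subgroup.zpowers_le.2 (show t ∈ (centralizer ({x} : Set L)).map f from
          ⟨x, Subgroup.mem_centralizer_singleton_iff.2 rfl, hx⟩) ha) ?_
        revert hb b
        suffices V ≤ (centralizer ({x} : Set L)).map f from fun b hb _ => this hb
        refine hgenV.trans ((Subgroup.closure_le _).2 ?_)
        rintro _ ⟨v, hv, k, hk, rfl⟩
        obtain ⟨v', rfl⟩ := hfs v
        obtain ⟨k', rfl⟩ := hfs k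
        refine ⟨⁅v', k'⁆, Subgroup.mem_centralizer_singleton_iff.2 ?_, map_commutatorElement f v' k'⟩
        obtain ⟨z1, hz1, e1⟩ := hfz v' (x * v' * x⁻¹) (by
          rw [map_mul, map_mul, map_inv, hx, (htcen _ (hKC (hVK hv))).eq.symm, mul_inv_cancel_right])
        obtain ⟨z2, hz2, e2⟩ := hfz k' (x * k' * x⁻¹) (by
          rw [map_mul, map_mul, map_inv, hx, (htcen _ (hKC (hNKK hk))).eq.symm, mul_inv_cancel_right])
        have : x * ⁅v', k'⁆ * x⁻¹ = ⁅v', k'⁆ := by
          rw [← MulAut.conj_apply, map_commutatorElement, MulAut.conj_apply, MulAut.conj_apply, e1, e2]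
          simp only [commutatorElement_def]
          calc v' * z1 * (k' * z2) * (v' * z1)⁻¹ * (k' * z2)⁻¹
              = v' * (z1 * k') * z2 * z1⁻¹ * v'⁻¹ * z2⁻¹ * k'⁻¹ := by group
            _ = v' * k' * (z1 * z2 * z1⁻¹) * v'⁻¹ * z2⁻¹ * k'⁻¹ := by rw [← (hzc z1 hz1 k').eq]; group
            _ = v' * k' * z2 * v'⁻¹ * z2⁻¹ * k'⁻¹ := by rw [(hzc z2 hz2 z1).eq, mul_inv_cancel_right]
            _ = v' * k' * (z2 * v'⁻¹) * z2⁻¹ * k'⁻¹ := by group
            _ = v' * k' * v'⁻¹ * k'⁻¹ := by rw [← (hzc z2 hz2 v'⁻¹).eq]; group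
        exact (mul_inv_eq_iff_eq_mul.1 this).symm
      intro u hu
      obtain ⟨w, hw, e1⟩ := hS hu
      obtain ⟨z, hz, rfl⟩ := hfz w u e1
      exact (show Commute x w from (Subgroup.mem_centralizer_singleton_iff.1 hw).symm).mul_right (hzc z hz x)
    have hTc : T ≤ centralizer (T : Set L) := by
      have hS : (S₀ : Subgroup G) ≤ (centralizer (T : Set L)).map f := by
        refine hgenS.trans ((Subgroup.closure_le _).2 ?_)
        rintro _ ⟨n, hn, rfl⟩
        obtain ⟨n', rfl⟩ := hfs n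
        obtain ⟨x, hx⟩ := hfs t
        refine ⟨n' * x * n'⁻¹, Subgroup.mem_centralizer_iff.2 fun u hu => ?_, by
          rw [map_mul, map_mul, map_inv, hx]⟩
        have hu' : n'⁻¹ * u * n' ∈ T := by
          show f (n'⁻¹ * u * n') ∈ (S₀ : Subgroup G)
          rw [map_mul, map_mul, map_inv]
          exact (Subgroup.mem_normalizer_iff''.1 hn _).1 hu
        have := (hTx x hx _ hu').map (MulAut.conj n').toMonoidHom
        simpa [mul_assoc, commute_iff_eq] using this.symm
      intro u hu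
      obtain ⟨w, hw, e1⟩ := hS hu
      obtain ⟨z, hz, rfl⟩ := hfz w u e1
      exact mul_mem hw (Subgroup.mem_centralizer_iff.2 fun a _ => (hzc z hz a).eq)
    haveI : IsMulCommutative T := ⟨⟨fun a b => Subtype.ext (Subgroup.mem_centralizer_iff.1 (hTc b.2) a a.2)⟩⟩
    have hcop : Nat.Coprime (Nat.card T) T.index := by
      obtain ⟨n, hn⟩ := hT2.exists_card_eq
      rw [hn, Subgroup.index_comap_of_surjective _ hfs]
      exact (Nat.prime_two.coprime_iff_not_dvd.2 S₀.not_dvd_index).pow_left n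
    refine (Subgroup.eq_bot_iff_forall _).2 fun z hz => ?_
    exact CfsgLib.Fusion.central_inf_commutator_eq_one T hcop (hZc hz) (hperfL ▸ Subgroup.mem_top z)
      (show f z ∈ (S₀ : Subgroup G) by rw [(hfk z).2 hz]; exact one_mem _)
  -- automorphisms
  intro φ k hφ ⟨S₁, hS₁⟩
  suffices main : ∀ (S : Sylow 2 G), t ∈ (S : Subgroup G) → ∀ ψ : MulAut G, ψ ^ 2 ^ k = 1 →
      (∀ s ∈ (S : Subgroup G), ψ s = s) → ∃ g : G, ψ = MulAut.conj g by
    obtain ⟨g0, hg0⟩ := MulAction.exists_smul_eq G S₁ S₀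
    have hψ : (MulAut.conj g0 * (φ : MulAut G) * (MulAut.conj g0)⁻¹) ^ 2 ^ k = 1 := by
      rw [conj_pow, show (φ : MulAut G) ^ 2 ^ k = 1 from hφ, mul_one, mul_inv_cancel]
    obtain ⟨g, hg⟩ := main S₀ hS₀ _ hψ fun s hs => by
      rw [← hg0, Sylow.coe_subgroup_smul] at hs
      obtain ⟨s', hs', rfl⟩ := hs
      simp [MulAut.inv_def, mul_assoc, hS₁ s' hs']
    refine ⟨g0⁻¹ * g * g0, fun x => ?_⟩
    have h := DFunLike.congr_fun hg (g0 * x * g0⁻¹)
    simp [MulAut.inv_def, mul_assoc] at h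
    have h' := congrArg (fun y => g0⁻¹ * y * g0) h
    simp [mul_assoc] at h'
    rw [h']
    group
  intro S htS ψ₀ hψ₀ hfix₀
  obtain ⟨V, NK, hVS, hVK, hNKK, hNKS, hSdec, -, hfixV, -, ⟨n₀, hn₀, hn₀C⟩, hVmem⟩ := key S htS
  have hψC : ∀ ψ : MulAut G, ψ t = t → ∀ c ∈ C, ψ c ∈ C := fun ψ hψ c hc => by
    have h := (htcen c hc).map ψ.toMonoidHom
    simp only [MulEquiv.coe_toMonoidHom, hψ] at h
    exact Subgroup.mem_centralizer_singleton_iff.2 h
  have hψK : K.map ψ₀.toMonoidHom = K := by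
    set K' := K.map ψ₀.toMonoidHom with hK'
    have hK'C : K' ≤ C := by
      rintro _ ⟨y, hy, rfl⟩; exact hψC ψ₀ (hfix₀ t htS) y (hKC hy)
    have hKn' : K ≤ normalizer (K' : Set G) := by
      intro y hy
      refine Subgroup.mem_normalizer_iff_map_conj_eq.2 (Subgroup.eq_of_le_of_card_ge ?_
        (Subgroup.card_map_of_injective (MulAut.conj y).injective).ge)
      rintro _ ⟨_, ⟨w, hw, rfl⟩, rfl⟩
      have hyC := hKC hy
      have hpre : ψ₀⁻¹ y ∈ C := hψC ψ₀⁻¹ (by
        have h := congrArg (fun z => ψ₀⁻¹ z) (hfix₀ t htS); simpa using h.symm) y hyC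
      refine ⟨ψ₀⁻¹ y * w * (ψ₀⁻¹ y)⁻¹, (Subgroup.mem_normalizer_iff.1 (hCK hpre) w).1 hw, ?_⟩
      simp
    haveI : ((K' ⊓ K).subgroupOf K).Normal := by
      rw [Subgroup.inf_subgroupOf_right]
      exact Subgroup.normal_subgroupOf_of_le_normalizer hKn'
    rcases hKs.eq_bot_or_eq_top_of_normal ((K' ⊓ K).subgroupOf K) inferInstance with h | h
    · exfalso
      have hbot : K' ⊓ K = ⊥ := by
        rw [← Subgroup.map_subgroupOf_eq_of_le (inf_le_right : K' ⊓ K ≤ K), h, Subgroup.map_bot]
      apply hKnc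
      refine ⟨⟨fun a b => ?_⟩⟩
      have hz : ∀ a : K, ψ₀ (a : G) ∈ zpowers t := fun a => hcentC _ (hK'C ⟨a, a.2, rfl⟩) fun y hy => by
        have hm : ⁅ψ₀ (a : G), y⁆ ∈ K' ⊓ K := by
          refine ⟨?_, ?_⟩
          · rw [commutatorElement_def, mul_assoc, mul_assoc]
            refine K'.mul_mem ⟨a, a.2, rfl⟩ ?_
            rw [← mul_assoc]
            exact (Subgroup.mem_normalizer_iff.1 (hKn' hy) _).1 (K'.inv_mem ⟨a, a.2, rfl⟩)
          · rw [commutatorElement_def]
            exact K.mul_mem ((Subgroup.mem_normalizer_iff.1 (hCK (hK'C ⟨a, a.2, rfl⟩)) y).1 hy) (K.inv_mem hy)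
        rw [hbot, Subgroup.mem_bot, commutatorElement_eq_one_iff_mul_comm] at hm
        exact hm
      refine Subtype.ext (ψ₀.injective ?_)
      rw [Subgroup.coe_mul, Subgroup.coe_mul, map_mul, map_mul]
      obtain ⟨i, hi⟩ := Subgroup.mem_zpowers_iff.1 (hz a)
      obtain ⟨j, hj⟩ := Subgroup.mem_zpowers_iff.1 (hz b)
      rw [← hi, ← hj, ← zpow_add, ← zpow_add, add_comm]
    · exact (Subgroup.eq_of_le_of_card_ge ((Subgroup.subgroupOf_eq_top.1 h).trans inf_le_left)
        (Subgroup.card_map_of_injective ψ₀.injective).le).symm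
  -- the restriction to `K` is inner
  obtain ⟨k₁, hk₁, hψk⟩ : ∃ k₁ ∈ V, ∀ y ∈ K, ψ₀ y = k₁ * y * k₁⁻¹ := by
    let r : MulAut K := (K.equivMapOfInjective ψ₀.toMonoidHom ψ₀.injective).trans (MulEquiv.subgroupCongr hψK)
    have hr : ∀ y : K, ((r y : K) : G) = ψ₀ y := fun y => rfl
    have hrpow : ∀ (i : ℕ) (y : K), (((r ^ i) y : K) : G) = (ψ₀ ^ i) y := by
      intro i
      induction i with
      | zero => intro y; rfl
      | succ i ih =>
        intro y
        rw [pow_succ', pow_succ', MulAut.mul_apply, MulAut.mul_apply, hr, ih]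
    have hr1 : r ^ 2 ^ k = 1 := by
      refine MulEquiv.ext fun y => Subtype.ext ?_
      rw [hrpow, hψ₀]; rfl
    have hVc : ∀ v : K, (v : G) ∈ V → Commute (MulAut.conj v) r := fun v hv => by
      refine MulEquiv.ext fun y => Subtype.ext ?_
      simp [hr, hfix₀ _ (hVS hv)]
    set I := (MulAut.conj : K →* MulAut K).range with hI
    set P0 := (V.subgroupOf K).map (MulAut.conj : K →* MulAut K) ⊔ zpowers r with hP0
    have hconj : ∀ (f : MulAut K) (y : K), f * MulAut.conj y * f⁻¹ = MulAut.conj (f y) := fun f y => by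
      refine MulEquiv.ext fun z => ?_
      simp [MulAut.inv_def]
    haveI hIn : I.Normal := ⟨fun _ hm f => by
      obtain ⟨y, rfl⟩ := hm
      exact ⟨f y, (hconj f y).symm⟩⟩
    have hrp : IsPGroup 2 (zpowers r) := by
      obtain ⟨i, -, hi⟩ := (Nat.dvd_prime_pow Nat.prime_two).1 (orderOf_dvd_of_pow_eq_one hr1)
      exact IsPGroup.of_card (n := i) (by rw [Nat.card_zpowers, hi])
    have hVp : IsPGroup 2 ((V.subgroupOf K).map (MulAut.conj : K →* MulAut K)) :=
      ((S.2.to_le hVS).comap_of_injective K.subtype K.subtype_injective).map _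
    have hP0p : IsPGroup 2 P0 := hVp.to_sup_of_normal_left' hrp
      (Subgroup.zpowers_le.2 (Subgroup.centralizer_le_normalizer _ (Subgroup.mem_centralizer_iff.2 (by
        rintro _ ⟨v, hv, rfl⟩; exact (hVc v hv).eq))))
    have hP0c : IsMulCommutative P0 := by
      rw [hP0, Subgroup.zpowers_eq_closure, ← Subgroup.closure_eq ((V.subgroupOf K).map (MulAut.conj : K →* MulAut K)),
        ← Subgroup.closure_union]
      refine Subgroup.isMulCommutative_closure ?_
      rintro _ (⟨a, ha, rfl⟩ | rfl) _ (⟨b, hb, rfl⟩ | rfl)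
      · rw [← map_mul, ← map_mul]
        exact congrArg _ (Subtype.ext (comm_of_sylow hab S.2 (hVS ha) (hVS hb)))
      · exact (hVc a ha).eq
      · exact (hVc b hb).eq.symm
      · rfl
    set M := I ⊔ P0 with hM
    have hodd : ¬ 2 ∣ P0.relIndex M := by
      have h1 : (P0 ⊓ I).relIndex P0 * P0.relIndex M = (P0 ⊓ I).relIndex M :=
        Subgroup.relIndex_mul_relIndex _ _ _ inf_le_left le_sup_right
      have h2 : (P0 ⊓ I).relIndex I * I.relIndex M = (P0 ⊓ I).relIndex M :=
        Subgroup.relIndex_mul_relIndex _ _ _ inf_le_right le_sup_left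
      have h3 : I.relIndex M = (P0 ⊓ I).relIndex P0 := by
        rw [hM, sup_comm, Subgroup.relIndex_sup_right, inf_comm, Subgroup.inf_relIndex_right]
      rw [h3, ← h1, mul_comm] at h2
      have h4 : (P0 ⊓ I).relIndex I = P0.relIndex M :=
        mul_left_cancel₀ (show (P0 ⊓ I).relIndex P0 ≠ 0 from Subgroup.index_ne_zero_of_finite) h2
      rw [← h4]
      intro hd
      have hle : (V.subgroupOf K).map (MulAut.conj : K →* MulAut K) ≤ P0 ⊓ I :=
        le_inf le_sup_left (by rintro _ ⟨y, -, rfl⟩; exact ⟨y, rfl⟩)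
      have hd2 : 2 ∣ (V.subgroupOf K).index := by
        refine (hd.trans (Subgroup.relIndex_dvd_of_le_left _ hle)).trans ?_
        rw [hI, MonoidHom.range_eq_map]
        rw [Subgroup.relIndex_map_map]
        exact (Subgroup.relIndex_dvd_of_le_left _ le_sup_left).trans (dvd_of_eq (by
          rw [top_sup_eq, Subgroup.relIndex_top_right]))
      have hfull : ∃ P : Sylow 2 K, (P : Subgroup K) = V.subgroupOf K := by
        obtain ⟨P, hP⟩ := ((S.2.to_le hVS).comap_of_injective K.subtype K.subtype_injective).exists_le_sylow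
        refine ⟨P, le_antisymm (fun y hy => ?_) hP⟩
        exact hVmem y y.2 (fun v hv => congrArg (fun w : (P : Subgroup K) => ((w : K) : G)) ((hPKab P).is_comm.comm (⟨y, hy⟩ : (P : Subgroup K))
          ⟨⟨v, hVK hv⟩, hP (Subgroup.mem_subgroupOf.2 hv)⟩)) (by
            obtain ⟨i, hi⟩ := P.2 ⟨y, hy⟩
            exact ⟨i, congrArg (fun w : (P : Subgroup K) => ((w : K) : G)) hi⟩)
      obtain ⟨P, hP⟩ := hfull
      exact P.not_dvd_index (hP ▸ hd2)
    obtain ⟨Q, hQ⟩ : ∃ Q : Sylow 2 M, (Q : Subgroup M) = P0.subgroupOf M :=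
      ⟨(hP0p.comap_of_injective M.subtype M.subtype_injective).toSylow hodd, rfl⟩
    have hinj : Function.Injective (MulAut.conj : K →* MulAut K) := by
      refine (injective_iff_map_eq_one _).2 fun y hy => ?_
      have hyc : y ∈ center K := Subgroup.mem_center_iff.2 fun z => by
        have := DFunLike.congr_fun hy z
        simp only [MulAut.conj_apply, MulAut.one_apply] at this
        exact (mul_inv_eq_iff_eq_mul.1 this).symm
      rcases hKs.eq_bot_or_eq_top_of_normal (center K) inferInstance with h | h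
      · rwa [h, Subgroup.mem_bot] at hyc
      · exact absurd ⟨⟨fun a b => (Subgroup.mem_center_iff.1 (h.ge (Subgroup.mem_top a)) b).symm⟩⟩ hKnc
    have hIM : I ≤ M := le_sup_left
    haveI : (I.subgroupOf M).Normal := hIn.subgroupOf M
    let eI : K ≃* I.subgroupOf M :=
      (MonoidHom.ofInjective hinj).trans (Subgroup.subgroupOfEquivOfLe hIM).symm
    have htop := eq_top_of_simple_of_abelian_sylow (I.subgroupOf M)
      (by
        haveI : Nontrivial (I.subgroupOf M) := eI.toEquiv.symm.nontrivial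
        exact IsSimpleGroup.isSimpleGroup_of_surjective eI.toMonoidHom eI.surjective)
      (Subgroup.map_injective M.subtype_injective (by
        rw [Subgroup.map_commutator, Subgroup.map_subgroupOf_eq_of_le hIM, hI, MonoidHom.range_eq_map,
          ← Subgroup.map_commutator]
        congr 1
        refine Subgroup.map_injective K.subtype_injective ?_
        rw [Subgroup.map_commutator, ← MonoidHom.range_eq_map, Subgroup.range_subtype, hKperf]))
      (by
        rw [← Nat.card_congr eI.toEquiv]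
        exact even_iff_two_dvd.2 ((dvd_mul_right 2 2).trans ((dvd_of_eq (hP4 PK).1.symm).trans (Subgroup.card_subgroup_dvd_card _))))
      ((Subgroup.eq_bot_iff_forall _).2 fun m hm => by
        refine Subtype.ext (MulEquiv.ext fun y => hinj ?_)
        rw [← hconj]
        have := congrArg Subtype.val (Subgroup.mem_centralizer_iff.1 hm ⟨MulAut.conj y, hIM ⟨y, rfl⟩⟩
          (Subgroup.mem_subgroupOf.2 ⟨y, rfl⟩))
        rw [Subgroup.coe_mul, Subgroup.coe_mul] at this
        simp only at this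
        rw [← this, mul_inv_cancel_right]
        rfl)
      Q (by
        rw [hQ]
        exact ⟨⟨fun a b => Subtype.ext (Subtype.ext (by
          have h' := congrArg Subtype.val
            (hP0c.is_comm.comm (⟨_, Subgroup.mem_subgroupOf.1 a.2⟩ : P0) ⟨_, Subgroup.mem_subgroupOf.1 b.2⟩)
          exact h'))⟩⟩)
      (by rw [hQ, ← Subgroup.subgroupOf_sup hIM (le_sup_right : P0 ≤ M), ← hM, Subgroup.subgroupOf_self])
    have hrI : r ∈ I :=
      Subgroup.mem_subgroupOf.1 (htop.ge (Subgroup.mem_top ⟨r, Subgroup.mem_sup_right (Subgroup.mem_sup_right (Subgroup.mem_zpowers r))⟩))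
    obtain ⟨k₁, hk₁⟩ := hrI
    refine ⟨k₁, hVmem k₁ k₁.2 (fun v hv => ?_) ⟨k, ?_⟩, fun y hy => ?_⟩
    · have h := congrArg (fun w : MulAut K => ((w ⟨v, hVK hv⟩ : K) : G)) hk₁
      simp [hr, hfix₀ _ (hVS hv)] at h
      exact mul_inv_eq_iff_eq_mul.1 (by simpa [mul_assoc] using h)
    · have : k₁ ^ 2 ^ k = 1 := hinj (by rw [map_pow, hk₁, hr1, map_one])
      exact congrArg Subtype.val this
    · rw [← hr ⟨y, hy⟩, ← hk₁]; simp
  set ψ : MulAut G := (MulAut.conj k₁)⁻¹ * ψ₀ with hψ
  have hSab : ∀ a ∈ (S : Subgroup G), ∀ b ∈ (S : Subgroup G), a * b = b * a := fun a ha b hb =>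
    comm_of_sylow hab S.2 ha hb
  have hfix : ∀ s ∈ (S : Subgroup G), ψ s = s := fun s hs => by
    simp [hψ, MulAut.inv_def, hfix₀ s hs, mul_assoc, hSab s hs k₁ (hVS hk₁)]
  have hψpow : ∃ j : ℕ, ψ ^ 2 ^ j = 1 := by
    have hc : Commute (MulAut.conj k₁) ψ₀ := MulEquiv.ext fun y => by simp [hfix₀ _ (hVS hk₁)]
    obtain ⟨i, hi⟩ := S.2 ⟨k₁, hVS hk₁⟩
    refine ⟨i + k, ?_⟩
    rw [hψ, hc.inv_left.mul_pow, inv_pow, ← map_pow, pow_add, pow_mul k₁, pow_mul' ψ₀, hψ₀,
      show k₁ ^ 2 ^ i = 1 from congrArg Subtype.val hi]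
    simp
  have hψKfix : ∀ y ∈ K, ψ y = y := fun y hy => by simp [hψ, MulAut.inv_def, hψk y hy, mul_assoc]
  have hfixC : ∀ c ∈ C, ψ c = c := by
    have hmem : ∀ c ∈ C, c⁻¹ * ψ c ∈ zpowers t := fun c hc =>
      hcentC _ (mul_mem (inv_mem hc) (hψC ψ (hfix t htS) c hc)) fun y hy => by
        have h1 : ψ (c * y * c⁻¹) = c * y * c⁻¹ := hψKfix _ ((Subgroup.mem_normalizer_iff.1 (hCK hc) y).1 hy)
        rw [map_mul, map_mul, map_inv, hψKfix y hy] at h1
        show c⁻¹ * ψ c * y = y * (c⁻¹ * ψ c)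
        calc c⁻¹ * ψ c * y = c⁻¹ * (ψ c * y * (ψ c)⁻¹) * ψ c := by group
          _ = y * (c⁻¹ * ψ c) := by rw [h1]; group
    let δ : C →* zpowers t :=
      { toFun := fun c => ⟨(c : G)⁻¹ * ψ c, hmem c c.2⟩
        map_one' := Subtype.ext (by simp)
        map_mul' := fun a b => Subtype.ext (by
          obtain ⟨i, hi⟩ := Subgroup.mem_zpowers_iff.1 (hmem a a.2)
          show ((a : G) * b)⁻¹ * ψ (a * b) = ((a : G)⁻¹ * ψ a) * ((b : G)⁻¹ * ψ b)
          calc ((a : G) * b)⁻¹ * ψ (a * b) = (b : G)⁻¹ * ((a : G)⁻¹ * ψ a) * ψ b := by rw [map_mul]; group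
            _ = _ := by rw [← hi, (((htcen b b.2).inv_left).zpow_right i).eq, mul_assoc]) }
    have hker : δ.ker = ⊤ := by
      rw [← Subgroup.index_eq_one, Subgroup.index_ker]
      have hd : Nat.card δ.range ∣ 2 := by
        have := Subgroup.card_subgroup_dvd_card δ.range
        rwa [Nat.card_zpowers, ht] at this
      rcases (Nat.dvd_prime Nat.prime_two).1 hd with h | h
      · exact h
      exfalso
      have hSC : (S : Subgroup G) ≤ C := fun x hx =>
        Subgroup.mem_centralizer_singleton_iff.2 (hSab x hx t htS)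
      have hle : ((S.subtype hSC : Sylow 2 C) : Subgroup C) ≤ δ.ker := fun x hx =>
        MonoidHom.mem_ker.2 (Subtype.ext (show (x : G)⁻¹ * ψ x = 1 by rw [hfix (x : G) (Subgroup.mem_subgroupOf.1 hx), inv_mul_cancel]))
      have h2 := (Subgroup.index_dvd_of_le hle)
      rw [Subgroup.index_ker, h] at h2
      exact (S.subtype hSC).not_dvd_index h2
    intro c hc
    have := congrArg Subtype.val (MonoidHom.mem_ker.1 (hker.ge (Subgroup.mem_top (⟨c, hc⟩ : C))))
    exact (inv_mul_eq_one.1 this).symm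
  -- the normalizer of `S`
  set A := normalizer ((S : Subgroup G) : Set G) with hA
  have hδS : ∀ a ∈ A, ψ a * a⁻¹ ∈ (S : Subgroup G) := by
    intro a ha
    have hcen : ψ a * a⁻¹ ∈ centralizer ((S : Subgroup G) : Set G) := by
      refine Subgroup.mem_centralizer_iff.2 fun w hw => ?_
      have hs := (Subgroup.mem_normalizer_iff''.1 ha w).1 hw
      have h1 := hfix _ hs
      rw [map_mul, map_mul, map_inv, hfix w hw] at h1
      calc w * (ψ a * a⁻¹) = ψ a * ((ψ a)⁻¹ * w * ψ a) * a⁻¹ := by group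
        _ = ψ a * a⁻¹ * w := by rw [h1]; group
    have hcC : ψ a * a⁻¹ ∈ C := Subgroup.mem_centralizer_singleton_iff.2
      (Subgroup.mem_centralizer_iff.1 hcen t htS).symm
    have hit : ∀ i : ℕ, (ψ ^ i) a = (ψ a * a⁻¹) ^ i * a := by
      intro i
      induction i with
      | zero => simp
      | succ i ih =>
        rw [pow_succ', MulAut.mul_apply, ih, map_mul, hfixC _ (pow_mem hcC i), pow_succ]
        group
    obtain ⟨j, hj⟩ := hψpow
    have hp2 : (ψ a * a⁻¹) ^ 2 ^ j = 1 := by
      have := hit (2 ^ j)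
      rw [hj, MulAut.one_apply] at this
      exact mul_eq_right.1 this.symm
    obtain ⟨i, -, hi⟩ := (Nat.dvd_prime_pow Nat.prime_two).1 (orderOf_dvd_of_pow_eq_one hp2)
    have hT := S.2.to_sup_of_normal_left' (IsPGroup.of_card (G := zpowers (ψ a * a⁻¹)) (n := i)
      (by rw [Nat.card_zpowers, hi]))
      (Subgroup.zpowers_le.2 (Subgroup.centralizer_le_normalizer _ hcen))
    have e := S.3 hT le_sup_left
    exact e ▸ Subgroup.mem_sup_right (Subgroup.mem_zpowers _)
  letI : CommGroup (S : Subgroup G) :=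
    { (inferInstance : Group (S : Subgroup G)) with
      mul_comm := fun a b => Subtype.ext (hSab a a.2 b b.2) }
  obtain ⟨σ, hσ, hσψ⟩ : ∃ σ ∈ (S : Subgroup G), ∀ a ∈ A, ψ a = σ * a * σ⁻¹ := by
    letI : Fintype (↥A ⧸ (S : Subgroup G).subgroupOf A) := Fintype.ofFinite _
    let d : ↥A → (S : Subgroup G) := fun a => ⟨ψ a * (a : G)⁻¹, hδS a a.2⟩
    let cj : ↥A → ((S : Subgroup G) →* (S : Subgroup G)) := fun a =>
      { toFun := fun s => ⟨(a : G) * s * (a : G)⁻¹, (Subgroup.mem_normalizer_iff.1 a.2 _).1 s.2⟩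
        map_one' := Subtype.ext (by simp)
        map_mul' := fun s s' => Subtype.ext (by simp [mul_assoc]) }
    have hd : ∀ a b : ↥A, d (a * b) = d a * cj a (d b) := fun a b => Subtype.ext (by
      show ψ ((a : G) * b) * ((a : G) * b)⁻¹ = ψ a * (a : G)⁻¹ * ((a : G) * (ψ b * (b : G)⁻¹) * (a : G)⁻¹)
      rw [map_mul]; group)
    have hds : ∀ (a : ↥A) (s : ↥A), (s : G) ∈ (S : Subgroup G) → d (a * s) = d a := fun a s hs => by
      rw [hd, show d s = 1 from Subtype.ext (by show ψ (s : G) * (s : G)⁻¹ = 1; rw [hfix _ hs, mul_inv_cancel]),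
        map_one, mul_one]
    let σ : (S : Subgroup G) := ∏ q : ↥A ⧸ (S : Subgroup G).subgroupOf A, d q.out
    refine ⟨σ, σ.2, fun a ha => ?_⟩
    have hsum : σ = d ⟨a, ha⟩ ^ Fintype.card (↥A ⧸ (S : Subgroup G).subgroupOf A) * cj ⟨a, ha⟩ σ := by
      conv_lhs => rw [show σ = ∏ q : ↥A ⧸ (S : Subgroup G).subgroupOf A, d ((⟨a, ha⟩ : ↥A) • q).out from
        (Fintype.prod_equiv (MulAction.toPerm (⟨a, ha⟩ : ↥A)) _ _ fun q => rfl).symm]
      rw [map_prod, ← Finset.card_univ, ← Finset.prod_const, ← Finset.prod_mul_distrib]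
      refine Finset.prod_congr rfl fun q _ => ?_
      rw [← hd]
      have hmem : ((⟨a, ha⟩ : ↥A) * q.out)⁻¹ * ((⟨a, ha⟩ : ↥A) • q).out ∈ (S : Subgroup G).subgroupOf A := by
        rw [← QuotientGroup.eq, QuotientGroup.out_eq']
        conv_rhs => rw [← QuotientGroup.out_eq' q]
        rfl
      have := hds ((⟨a, ha⟩ : ↥A) * q.out) _ (Subgroup.mem_subgroupOf.1 hmem)
      rwa [mul_inv_cancel_left] at this
    have hcard : ∀ x : (S : Subgroup G), x ^ Fintype.card (↥A ⧸ (S : Subgroup G).subgroupOf A) = x := by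
      intro x
      have h2 : x ^ 2 = 1 := by
        obtain ⟨u, hu, v, hv, e⟩ := hSdec x x.2
        obtain ⟨i, rfl⟩ := Subgroup.mem_zpowers_iff.1 hu
        refine Subtype.ext ?_
        show (x : G) ^ 2 = 1
        rw [← e, (show Commute (t ^ i) v from hSab _ (zpow_mem htS i) _ (hVS hv)).mul_pow]
        have hv2 : v ^ 2 = 1 := by
          obtain ⟨P, hP⟩ := ((S.2.to_le hVS).comap_of_injective K.subtype K.subtype_injective).exists_le_sylow
          exact congrArg Subtype.val ((hP4 P).2 ⟨v, hVK hv⟩ (hP (Subgroup.mem_subgroupOf.2 hv)))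
        rw [hv2, mul_one, ← zpow_natCast, ← zpow_mul, mul_comm, zpow_mul, zpow_natCast, ← ht,
          pow_orderOf_eq_one, one_zpow]
      obtain ⟨j, hj⟩ : Odd (Fintype.card (↥A ⧸ (S : Subgroup G).subgroupOf A)) := by
        rw [← Nat.not_even_iff_odd, even_iff_two_dvd, ← Nat.card_eq_fintype_card, ← Subgroup.index_eq_card]
        exact fun hd => S.not_dvd_index (hd.trans (Subgroup.relIndex_dvd_index_of_le Subgroup.le_normalizer))
      rw [hj, pow_succ, pow_mul, h2, one_pow, one_mul]
    rw [hcard] at hsum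
    have h := congrArg Subtype.val hsum
    change (σ : G) = ψ a * a⁻¹ * (a * σ * a⁻¹) at h
    calc ψ a = (ψ a * a⁻¹ * (a * σ * a⁻¹)) * a * (σ : G)⁻¹ := by group
      _ = _ := by rw [← h]
  have hσt : σ ∈ zpowers t := by
    obtain ⟨u, hu, v, hv, rfl⟩ := hSdec σ hσ
    have hv1 : v = 1 := hfixV v hv fun w hw => by
      have h1 := hσψ w (hNKS hw)
      rw [hψKfix w (hNKK hw)] at h1
      have huw : Commute u w := hTE u hu w (hKE (hNKK hw))
      have h2 : Commute (u * v) w := (eq_mul_inv_iff_mul_eq.1 h1).symm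
      have := huw.inv_left.mul_left h2
      rwa [inv_mul_cancel_left] at this
    rwa [hv1, mul_one]
  have hall : ∀ x : G, ψ x = σ * x * σ⁻¹ := by
    have hC' : ∀ c ∈ C, ψ c = σ * c * σ⁻¹ := fun c hc => by
      obtain ⟨i, rfl⟩ := Subgroup.mem_zpowers_iff.1 hσt
      rw [hfixC c hc, ((htcen c hc).zpow_right i).eq.symm, mul_inv_cancel_right]
    have htop : MonoidHom.eqLocus ψ.toMonoidHom (MulAut.conj σ).toMonoidHom = ⊤ := by
      refine hmax.2 _ (lt_of_le_of_ne (fun c hc => hC' c hc) fun e => hn₀C ?_)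
      rw [e]
      exact hσψ n₀ hn₀
    exact fun x => (htop.ge (Subgroup.mem_top x) :)
  refine ⟨k₁ * σ, MulEquiv.ext fun x => ?_⟩
  have h := hall x
  simp [hψ, MulAut.inv_def] at h
  have h' := congrArg (fun y => k₁ * y * k₁⁻¹) h
  simp [mul_assoc] at h'
  rw [h']
  simp [mul_assoc]

end Cfsg.Agent.S3206
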