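import Cfsg.Statements.S3208
import Cfsg.Agent.Lib.Invol.Basic
import Mathlib.GroupTheory.Nilpotent


set_option autoImplicit false
open Cfsg

namespace Cfsg.Agent.S3208

theorem exists_larger {G : Type*} [Group G] [Finite G] {T H : Subgroup G} (h2 : IsPGroup 2 T)
    (hTH : T ≤ H) (h : 2 ∣ T.relIndex H) :
    ∃ U : Subgroup G, T ≤ U ∧ (U ≤ H ∧ IsPGroup 2 U) ∧ ¬ U ≤ T := by
  obtain ⟨S, hS⟩ := (h2.comap_of_injective H.subtype Subtype.coe_injective).exists_le_sylow
  refine ⟨(S : Subgroup H).map H.subtype, fun t ht =>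
    Subgroup.mem_map.2 ⟨⟨t, hTH ht⟩, hS (Subgroup.mem_comap.2 ht), rfl⟩,
    ⟨Subgroup.map_subtype_le _, S.2.map _⟩, fun hle => ?_⟩
  have hST : (S : Subgroup H) ≤ T.subgroupOf H := fun s hs =>
    Subgroup.mem_subgroupOf.2 (hle (Subgroup.mem_map.2 ⟨s, hs, rfl⟩))
  exact S.not_dvd_index (h.trans (Subgroup.index_dvd_of_le hST))

/-- Let j be an involution of a finite group G, H a subgroup of G, and T a Sylow 2-subgroup of H ∩ C_G(j) containing j such that ⟨j⟩ is a characteristic subgroup of T. Then T is a Sylow 2-subgroup of H. -/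
theorem result {G : Type*} [Group G] [Finite G]
    (j : G) (hj : orderOf j = 2) (H T : Subgroup G) (hT : T ≤ H ⊓ Subgroup.centralizer ({j} : Set G)) (h2 : IsPGroup 2 ↥T)
    (hSyl : ¬ 2 ∣ T.relIndex (H ⊓ Subgroup.centralizer ({j} : Set G))) (hjT : j ∈ T)
    (hchar : ((Subgroup.zpowers j).subgroupOf T).Characteristic) :
    ¬ 2 ∣ T.relIndex H := by
  by_contra h
  set C := H ⊓ Subgroup.centralizer ({j} : Set G) with hC
  have hTH : T ≤ H := hT.trans inf_le_left
  obtain ⟨U, hTU, hU, hTne⟩ := exists_larger h2 hTH h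
  have hN : ∀ u ∈ U, u ∈ Subgroup.normalizer (T : Set G) → u ∈ T := by
    intro u hu huN
    by_contra huT
    have hj' : u * j * u⁻¹ = j := by
      let ψ : MulAut T :=
        { toFun := fun t => ⟨u * t.1 * u⁻¹, (Subgroup.mem_normalizer_iff.1 huN t.1).1 t.2⟩
          invFun := fun t => ⟨u⁻¹ * t.1 * u, by
            have := (Subgroup.mem_normalizer_iff.1 (inv_mem huN) t.1).1 t.2
            simpa using this⟩
          left_inv := fun t => Subtype.ext (by simp [mul_assoc])
          right_inv := fun t => Subtype.ext (by simp [mul_assoc])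
          map_mul' := fun a b => Subtype.ext (by simp [mul_assoc]) }
      have hmem : (⟨j, hjT⟩ : T) ∈ ((Subgroup.zpowers j).subgroupOf T).comap ψ.toMonoidHom := by
        rw [hchar.fixed ψ]; exact Subgroup.mem_subgroupOf.2 (Subgroup.mem_zpowers j)
      have hmem' : u * j * u⁻¹ ∈ Subgroup.zpowers j := hmem
      obtain ⟨k, hk⟩ := Subgroup.mem_zpowers_iff.1 hmem'
      rcases Int.even_or_odd' k with ⟨l, rfl | rfl⟩
      · rw [zpow_mul, zpow_two, CfsgLib.Invol.invol_mul_self hj, one_zpow] at hk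
        exact absurd (conj_eq_one_iff.1 hk.symm) (CfsgLib.Invol.invol_ne_one hj)
      · rw [zpow_add, zpow_mul, zpow_two, CfsgLib.Invol.invol_mul_self hj, one_zpow, one_mul,
          zpow_one] at hk
        exact hk.symm
    have huC : u ∈ C := ⟨hU.1 hu, Subgroup.mem_centralizer_singleton_iff.2 (mul_inv_eq_iff_eq_mul.1 hj')⟩
    apply huT
    -- a 2-subgroup of `C` containing `T` equals `T`
    have hX : IsPGroup 2 ((U ⊓ C : Subgroup G)) := hU.2.to_le inf_le_left
    have hTX : T ≤ U ⊓ C := le_inf hTU hT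
    have hdvd : T.relIndex (U ⊓ C) ∣ T.relIndex C := ⟨(U ⊓ C).relIndex C,
      (Subgroup.relIndex_mul_relIndex T (U ⊓ C) C hTX inf_le_right).symm⟩
    obtain ⟨k, hk⟩ := hX.exists_card_eq
    have hk' : T.relIndex (U ⊓ C) ∣ 2 ^ k := hk ▸ Subgroup.index_dvd_card _
    obtain ⟨l, -, hl⟩ := (Nat.dvd_prime_pow Nat.prime_two).1 hk'
    rcases l with _ | l
    · rw [pow_zero, Subgroup.relIndex_eq_one] at hl
      exact hl ⟨hu, huC⟩
    · exact absurd ((dvd_pow_self 2 (Nat.succ_ne_zero l)).trans (hl ▸ hdvd)) hSyl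
  apply hTne
  have hU2 : IsPGroup 2 U := hU.2
  have : Group.IsNilpotent U := hU2.isNilpotent
  have hnc := normalizerCondition_of_isNilpotent (G := U)
  by_contra hne
  have hlt : T.subgroupOf U < ⊤ := lt_top_iff_ne_top.2 fun e => hne (Subgroup.subgroupOf_eq_top.1 e)
  obtain ⟨v, hv, hv'⟩ := SetLike.exists_of_lt (hnc _ hlt)
  apply hv'
  refine Subgroup.mem_subgroupOf.2 (hN v.1 v.2 ?_)
  rw [Subgroup.mem_normalizer_iff] at hv ⊢
  intro t
  constructor
  · intro ht
    exact (hv ⟨t, hTU ht⟩).1 ht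
  · intro ht
    have htU : t ∈ U := by
      have := mul_mem (mul_mem (inv_mem v.2) (hTU ht)) v.2
      simpa [mul_assoc] using this
    exact (hv ⟨t, htU⟩).2 ht

end Cfsg.Agent.S3208
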