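import Cfsg.Statements.S3209
import Cfsg.Agent.Lib.Char.TwoClasses
import Cfsg.Agent.Lib.Coprime.Action


set_option autoImplicit false
open Cfsg

namespace Cfsg.Agent.S3209

/-- In a copy of `SL(2, F)` with `|F|` odd, the square roots of the central involution form one class. -/
theorem order_four_class {G : Type*} [Group G] {F : Type*} [Field F] [Fintype F]
    (hF : Odd (Fintype.card F)) (L : Subgroup G) (e : ↥L ≃* Matrix.SpecialLinearGroup (Fin 2) F)
    {j : G} (hj : orderOf j = 2) (hjL : j ∈ L) :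
    ∃ a₀ ∈ L, a₀ * a₀ = j ∧ ∀ a ∈ L, (a * a = 1 → a = 1 ∨ a = j) ∧
      (a * a = j → ∃ g ∈ L, g * a₀ * g⁻¹ = a) := by
  have h2 : (2 : F) ≠ 0 := by
    refine Ring.two_ne_zero fun h => ?_
    have := FiniteField.even_card_of_char_two h
    exact (Nat.not_even_iff_odd.2 hF) (Nat.even_iff.2 this)
  set S2 := Matrix.SpecialLinearGroup (Fin 2) F
  have hCH : ∀ (x : S2) (i k : Fin 2), ((x * x : S2) : Matrix (Fin 2) (Fin 2) F) i k =
      x.1.trace * x.1 i k - (1 : Matrix (Fin 2) (Fin 2) F) i k := by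
    intro x i k
    have hd := x.det_coe
    rw [Matrix.det_fin_two] at hd
    rw [Matrix.SpecialLinearGroup.coe_mul]
    fin_cases i <;> fin_cases k <;>
      simp [Matrix.mul_apply, Fin.sum_univ_two, Matrix.trace_fin_two] <;> first | (linear_combination (0 : F) * hd) | (linear_combination (-1 : F) * hd) | (linear_combination (1 : F) * hd)
  have hinv : ∀ x : S2, x * x = 1 → x = 1 ∨ x = -1 := by
    intro x hx
    have h : ∀ i k, x.1.trace * x.1 i k = 2 * (1 : Matrix (Fin 2) (Fin 2) F) i k := by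
      intro i k
      have := hCH x i k
      rw [hx, Matrix.SpecialLinearGroup.coe_one] at this
      linear_combination -this
    have h00 := h 0 0
    have h11 := h 1 1
    have h01 := h 0 1
    have h10 := h 1 0
    simp at h00 h11 h01 h10
    have ht : x.1.trace ≠ 0 := fun e => h2 (by rw [e, zero_mul] at h00; exact h00.symm)
    have e01 : x.1 0 1 = 0 := h01.resolve_left ht
    have e10 : x.1 1 0 = 0 := h10.resolve_left ht
    have e11 : x.1 1 1 = x.1 0 0 := mul_left_cancel₀ ht (h11.trans h00.symm)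
    have hd := x.det_coe
    rw [Matrix.det_fin_two, e01, e11, zero_mul, sub_zero] at hd
    rcases mul_self_eq_one_iff.1 hd with e | e
    · refine Or.inl (Subtype.ext ?_)
      ext i k
      fin_cases i <;> fin_cases k <;> simp [e01, e10, e11, e]
    · refine Or.inr (Subtype.ext ?_)
      rw [Matrix.SpecialLinearGroup.coe_neg, Matrix.SpecialLinearGroup.coe_one]
      ext i k
      fin_cases i <;> fin_cases k <;> simp [e01, e10, e11, e]
  have hejo : orderOf (e ⟨j, hjL⟩) = 2 := by rw [e.orderOf_eq, Subgroup.orderOf_mk, hj]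
  have hej : e ⟨j, hjL⟩ = -1 := by
    have h : e ⟨j, hjL⟩ * e ⟨j, hjL⟩ = 1 := by
      have h0 := pow_orderOf_eq_one (e ⟨j, hjL⟩)
      rwa [hejo, sq] at h0
    refine (hinv _ h).resolve_left fun e1 => ?_
    rw [e1, orderOf_one] at hejo
    norm_num at hejo
  let w : S2 := ⟨!![0, -1; 1, 0], by simp [Matrix.det_fin_two]⟩
  have hw : w * w = -1 := Subtype.ext (by
    rw [Matrix.SpecialLinearGroup.coe_mul, Matrix.SpecialLinearGroup.coe_neg, Matrix.SpecialLinearGroup.coe_one]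
    ext i k; fin_cases i <;> fin_cases k <;> simp [w, Matrix.mul_apply, Fin.sum_univ_two])
  have hsq : ((e.symm w : L) : G) * (e.symm w : L) = j := by
    rw [← Subgroup.coe_mul, ← map_mul, hw, ← hej, MulEquiv.symm_apply_apply]
  refine ⟨(e.symm w : L), (e.symm w).2, hsq, fun a ha => ⟨fun h => ?_, fun h => ?_⟩⟩
  · have h' : e ⟨a, ha⟩ * e ⟨a, ha⟩ = 1 := by
      rw [← map_mul, show (⟨a, ha⟩ : L) * ⟨a, ha⟩ = 1 from Subtype.ext h, map_one]
    rcases hinv _ h' with e1 | e1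
    · exact Or.inl (congrArg Subtype.val (e.injective (e1.trans (map_one e).symm)))
    · exact Or.inr (congrArg Subtype.val (e.injective (e1.trans hej.symm)))
  · have key : ∀ x : S2, x * x = -1 → ¬ CfsgLib.Char.TwoClasses.IsScalar2 x.1 ∧ x.1.trace = 0 := by
      intro x hx
      have hns : ¬ CfsgLib.Char.TwoClasses.IsScalar2 x.1 := by
        intro hs
        obtain ⟨ε, hε, hxe⟩ := (CfsgLib.Char.TwoClasses.sl_scalar_iff x).1 hs
        have hm := congrArg Subtype.val hx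
        rw [Matrix.SpecialLinearGroup.coe_mul, hxe, Matrix.SpecialLinearGroup.coe_neg,
          Matrix.SpecialLinearGroup.coe_one] at hm
        have hh := congrFun (congrFun hm 0) 0
        simp at hh
        apply h2
        rw [pow_two] at hε
        linear_combination hh - hε
      refine ⟨hns, ?_⟩
      by_contra ht
      have h' : ∀ i k, x.1.trace * x.1 i k = 0 := by
        intro i k
        have := hCH x i k
        rw [hx, Matrix.SpecialLinearGroup.coe_neg, Matrix.SpecialLinearGroup.coe_one,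
          Matrix.neg_apply] at this
        linear_combination -this
      have hd := x.det_coe
      rw [Matrix.det_fin_two, (mul_eq_zero.1 (h' 0 0)).resolve_left ht,
        (mul_eq_zero.1 (h' 0 1)).resolve_left ht] at hd
      simp at hd
    have h' : e ⟨a, ha⟩ * e ⟨a, ha⟩ = -1 := by
      rw [← map_mul, show (⟨a, ha⟩ : L) * ⟨a, ha⟩ = ⟨j, hjL⟩ from Subtype.ext h, hej]
    obtain ⟨n1, t1⟩ := key w hw
    obtain ⟨n2, t2⟩ := key _ h'
    obtain ⟨c, hc⟩ := isConj_iff.1 (CfsgLib.Char.TwoClasses.sl_isConj_of_trace n1 n2 (t1.trans t2.symm)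
      (Or.inl (by
        rw [t1]
        simp only [CfsgLib.Char.TwoClasses.dsc]
        intro h4
        rcases mul_eq_zero.1 (show (2 : F) * 2 = 0 by linear_combination -h4) with h | h <;> exact h2 h)))
    refine ⟨(e.symm c : L), (e.symm c).2, ?_⟩
    rw [← Subgroup.coe_inv, ← map_inv, ← Subgroup.coe_mul, ← Subgroup.coe_mul, ← map_mul, ← map_mul, hc,
      MulEquiv.symm_apply_apply]

/-- Let L₁ ≅ SL₂(q₁) and L₂ ≅ SL₂(q₂), q₁ and q₂ odd, be elementwise-commuting subgroups of a finite group meeting in ⟨j⟩ for an involution j. Then L₁L₂ has exactly two conjugacy classes of involutions: the central involution j, and one further class (there is an involution x ≠ j in L₁L₂, and every involution of L₁L₂ other than j is conjugate to x by an element of L₁L₂). -/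
theorem result {G : Type*} [Group G] [Finite G]
    {F₁ : Type*} [Field F₁] [Fintype F₁] {F₂ : Type*} [Field F₂] [Fintype F₂]
    (hF₁ : Odd (Fintype.card F₁)) (hF₂ : Odd (Fintype.card F₂)) (L₁ L₂ : Subgroup G)
    (e₁ : ↥L₁ ≃* Matrix.SpecialLinearGroup (Fin 2) F₁) (e₂ : ↥L₂ ≃* Matrix.SpecialLinearGroup (Fin 2) F₂)
    (hc : ∀ x ∈ L₁, ∀ y ∈ L₂, x * y = y * x) (j : G) (hj : orderOf j = 2) (hm : L₁ ⊓ L₂ = Subgroup.zpowers j) :
    ∃ x ∈ L₁ ⊔ L₂, orderOf x = 2 ∧ x ≠ j ∧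
      ∀ y ∈ L₁ ⊔ L₂, orderOf y = 2 → y = j ∨ ∃ g ∈ L₁ ⊔ L₂, g * x * g⁻¹ = y := by
  obtain ⟨a₀, ha₀L, ha₀, hcl₁⟩ := order_four_class hF₁ L₁ e₁ hj (hm ▸ Subgroup.mem_zpowers j : j ∈ L₁ ⊓ L₂).1
  obtain ⟨b₀, hb₀L, hb₀, hcl₂⟩ := order_four_class hF₂ L₂ e₂ hj (hm ▸ Subgroup.mem_zpowers j : j ∈ L₁ ⊓ L₂).2
  have hjj : j * j = 1 := by rw [← sq, ← hj, pow_orderOf_eq_one]
  have hmem : ∀ {c : G}, c ∈ L₁ → c ∈ L₂ → c = 1 ∨ c = j := by
    intro c h1 h2
    have h : c ∈ L₁ ⊓ L₂ := ⟨h1, h2⟩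
    rw [hm] at h
    obtain ⟨n, rfl⟩ := Subgroup.mem_zpowers_iff.1 h
    rcases Int.emod_two_eq n with e | e <;> rw [← zpow_mod_orderOf, hj, Nat.cast_ofNat, e]
    · exact Or.inl (zpow_zero j)
    · exact Or.inr (zpow_one j)
  have hjne : j ≠ 1 := fun e => by simp [e] at hj
  have hne : a₀ * b₀ ≠ 1 ∧ a₀ * b₀ ≠ j := by
    have key : a₀ * b₀ ∈ Subgroup.zpowers j → False := by
      intro h
      have h2 : a₀ ∈ L₂ := by
        have hj2 : a₀ * b₀ ∈ L₂ := (hm ▸ h : a₀ * b₀ ∈ L₁ ⊓ L₂).2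
        simpa using L₂.mul_mem hj2 (L₂.inv_mem hb₀L)
      rcases hmem ha₀L h2 with e | e
      · exact hjne (by rw [← ha₀, e, one_mul])
      · exact hjne (by rw [← ha₀, e, hjj])
    exact ⟨fun e => key (e ▸ one_mem _), fun e => key (e ▸ Subgroup.mem_zpowers j)⟩
  have hsq : a₀ * b₀ * (a₀ * b₀) = 1 := by
    calc a₀ * b₀ * (a₀ * b₀) = a₀ * (b₀ * a₀) * b₀ := by group
      _ = a₀ * a₀ * (b₀ * b₀) := by rw [← hc a₀ ha₀L b₀ hb₀L]; group
      _ = 1 := by rw [ha₀, hb₀, hjj]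
  refine ⟨a₀ * b₀, Subgroup.mul_mem_sup ha₀L hb₀L, orderOf_eq_prime (by rw [sq]; exact hsq) hne.1,
    hne.2, fun y hy hyo => ?_⟩
  have hn : L₂ ≤ Subgroup.normalizer (L₁ : Set G) := fun b hb => by
    rw [Subgroup.mem_normalizer_iff]
    intro a
    constructor
    · intro ha
      rwa [← hc a ha b hb, mul_inv_cancel_right]
    · intro ha
      have h1 := hc _ ha b hb
      rw [inv_mul_cancel_right] at h1
      rwa [← mul_left_cancel h1] at ha
  obtain ⟨a, ha, b, hb, rfl⟩ := CfsgLib.Coprime.mem_sup_exists hn hy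
  have hy2 : a * a * (b * b) = 1 := by
    calc a * a * (b * b) = a * (a * b) * b := by group
      _ = a * (b * a) * b := by rw [hc a ha b hb]
      _ = (a * b) ^ 2 := by rw [sq]; group
      _ = 1 := by rw [← hyo]; exact pow_orderOf_eq_one _
  have haa : a * a ∈ L₂ := by
    rw [eq_inv_of_mul_eq_one_left hy2]
    exact inv_mem (mul_mem hb hb)
  rcases hmem (mul_mem ha ha) haa with e | e
  · rw [e, one_mul] at hy2
    have h3 : a = 1 ∨ a = j := (hcl₁ a ha).1 e
    have h4 : b = 1 ∨ b = j := (hcl₂ b hb).1 hy2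
    rcases h3 with rfl | rfl <;> rcases h4 with rfl | rfl
    · simp at hyo
    · exact Or.inl (one_mul _)
    · exact Or.inl (mul_one _)
    · rw [hjj, orderOf_one] at hyo
      norm_num at hyo
  · have hbb : b * b = j := by
      rw [e] at hy2
      rw [eq_inv_of_mul_eq_one_right hy2, inv_eq_of_mul_eq_one_right hjj]
    obtain ⟨g₁, hg₁, e₁'⟩ := (hcl₁ a ha).2 e
    obtain ⟨g₂, hg₂, e₂'⟩ := (hcl₂ b hb).2 hbb
    refine Or.inr ⟨g₁ * g₂, Subgroup.mul_mem_sup hg₁ hg₂, ?_⟩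
    calc g₁ * g₂ * (a₀ * b₀) * (g₁ * g₂)⁻¹ = g₁ * ((g₂ * a₀) * b₀ * g₂⁻¹) * g₁⁻¹ := by group
      _ = g₁ * ((a₀ * g₂) * b₀ * g₂⁻¹) * g₁⁻¹ := by rw [hc a₀ ha₀L g₂ hg₂]
      _ = g₁ * a₀ * (g₂ * b₀ * g₂⁻¹) * g₁⁻¹ := by group
      _ = g₁ * a₀ * (g₁⁻¹ * b) := by rw [e₂', mul_assoc, ← hc g₁⁻¹ (inv_mem hg₁) b hb]
      _ = a * b := by rw [← e₁']; group

end Cfsg.Agent.S3209
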