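import Cfsg.Statements.S3210
import Cfsg.Agent.Lib.Lie.CentralPair


set_option autoImplicit false
open Cfsg

namespace Cfsg.Agent.S3210

/-- Let G be a finite group with subgroups L₁ ≅ SL₂(q₁) and L₂ ≅ SL₂(q₂), q₁ and q₂ odd prime powers, which commute elementwise and meet in ⟨j⟩ for an involution j, and suppose L₁L₂ has index 2 in C_G(j). Then every element n of C_G(j) outside L₁L₂ either normalizes both L₁ and L₂, or conjugates L₁ onto L₂; in the second case q₁ = q₂ and there is an element n′ of C_G(j) outside L₁L₂ conjugating L₁ onto L₂ with n′² ∈ ⟨j⟩. -/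
theorem result {G : Type*} [Group G] [Finite G]
    {F₁ : Type*} [Field F₁] [Fintype F₁] {F₂ : Type*} [Field F₂] [Fintype F₂]
    (hF₁ : Odd (Fintype.card F₁)) (hF₂ : Odd (Fintype.card F₂)) (L₁ L₂ : Subgroup G)
    (e₁ : ↥L₁ ≃* Matrix.SpecialLinearGroup (Fin 2) F₁) (e₂ : ↥L₂ ≃* Matrix.SpecialLinearGroup (Fin 2) F₂)
    (hc : ∀ x ∈ L₁, ∀ y ∈ L₂, x * y = y * x) (j : G) (hj : orderOf j = 2) (hm : L₁ ⊓ L₂ = Subgroup.zpowers j)
    (hle : L₁ ⊔ L₂ ≤ Subgroup.centralizer ({j} : Set G)) (hi : (L₁ ⊔ L₂).relIndex (Subgroup.centralizer ({j} : Set G)) = 2) (n : G) (hn : n ∈ Subgroup.centralizer ({j} : Set G)) (hn' : n ∉ L₁ ⊔ L₂) :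
    (L₁.map (MulAut.conj n).toMonoidHom = L₁ ∧ L₂.map (MulAut.conj n).toMonoidHom = L₂) ∨
      (L₁.map (MulAut.conj n).toMonoidHom = L₂ ∧ Fintype.card F₁ = Fintype.card F₂ ∧
        ∃ n' ∈ Subgroup.centralizer ({j} : Set G), n' ∉ L₁ ⊔ L₂ ∧ L₁.map (MulAut.conj n').toMonoidHom = L₂ ∧ n' ^ 2 ∈ Subgroup.zpowers j) := by
  classical
  set C := Subgroup.centralizer ({j} : Set G) with hC
  set M := L₁ ⊔ L₂ with hM
  have hnorm : (M.subgroupOf C).Normal := Subgroup.normal_of_index_eq_two hi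
  have conjM : ∀ x ∈ M, n * x * n⁻¹ ∈ M := fun x hx =>
    Subgroup.mem_subgroupOf.1 (hnorm.conj_mem ⟨x, hle hx⟩ (Subgroup.mem_subgroupOf.2 hx) ⟨n, hn⟩)
  set f := (MulAut.conj n).toMonoidHom with hf
  have hfi : Function.Injective f := (MulAut.conj n).injective
  have hgen : L₁.map f ⊔ L₂.map f = M := by
    rw [← Subgroup.map_sup]
    refine Subgroup.eq_of_le_of_card_ge ?_ (by rw [Subgroup.card_map_of_injective hfi])
    rintro _ ⟨x, hx, rfl⟩
    exact conjM x hx
  have hXY : ∀ x ∈ L₁.map f, ∀ y ∈ L₂.map f, x * y = y * x := by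
    rintro _ ⟨x, hx, rfl⟩ _ ⟨y, hy, rfl⟩
    rw [← map_mul, ← map_mul, hc x hx y hy]
  have h1 := CfsgLib.CentralPair.le_of_commute_generate hF₁ e₁ hc j hj hm hXY hgen
  have h2 := CfsgLib.CentralPair.le_of_commute_generate hF₂ e₂ (fun x hx y hy => (hc y hy x hx).symm) j hj
    (by rw [inf_comm, hm]) hXY (by rw [hgen, hM, sup_comm])
  have big : ∀ L : Subgroup G, 6 ≤ Nat.card L → ¬ L.map f ≤ Subgroup.zpowers j := by
    intro L h6 hL
    have h := Subgroup.card_le_of_le hL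
    rw [Subgroup.card_map_of_injective hfi, Nat.card_zpowers, hj] at h
    omega
  have six₁ : 6 ≤ Nat.card L₁ := by
    rw [Nat.card_congr e₁.toEquiv, CfsgLib.Classical.card_sl2]
    have h2 := Fintype.one_lt_card (α := F₁)
    exact le_trans (by norm_num : 6 ≤ 2 * (1 * 3)) (Nat.mul_le_mul (by omega) (Nat.mul_le_mul (by omega) (by omega)))
  have six₂ : 6 ≤ Nat.card L₂ := by
    rw [Nat.card_congr e₂.toEquiv, CfsgLib.Classical.card_sl2]
    have h2 := Fintype.one_lt_card (α := F₂)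
    exact le_trans (by norm_num : 6 ≤ 2 * (1 * 3)) (Nat.mul_le_mul (by omega) (Nat.mul_le_mul (by omega) (by omega)))
  have hcc1 : Nat.card (L₁.map f) = Nat.card L₁ := Subgroup.card_map_of_injective hfi
  have hcc2 : Nat.card (L₂.map f) = Nat.card L₂ := Subgroup.card_map_of_injective hfi
  rcases h1 with h1 | h1
  · rcases h2 with h2 | h2
    · exact absurd (hm ▸ le_inf h2 h1) (big L₁ six₁)
    · right
      have c1 := Subgroup.card_le_of_le h1
      have c2 := Subgroup.card_le_of_le h2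
      rw [hcc1] at c1
      rw [hcc2] at c2
      have heq : L₁.map f = L₂ := Subgroup.eq_of_le_of_card_ge h1 (by rw [hcc1]; exact c2)
      refine ⟨heq, CfsgLib.CentralPair.card_sl2_injective (by
        rw [← Nat.card_congr e₁.toEquiv, ← Nat.card_congr e₂.toEquiv]; exact le_antisymm c1 c2), ?_⟩
      have hn2 : n * n ∈ M := by
        have := Subgroup.mul_self_mem_of_index_two hi (⟨n, hn⟩ : C)
        exact Subgroup.mem_subgroupOf.1 this
      have hnorm2 : L₁ ≤ Subgroup.normalizer (L₂ : Set G) := by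
        intro x hx
        refine Subgroup.mem_normalizer_iff.2 fun y => ⟨fun hy => by rw [hc x hx y hy, mul_inv_cancel_right]; exact hy, fun hy => ?_⟩
        have h := hc x hx _ hy
        have : y = x * y * x⁻¹ := by
          calc y = x⁻¹ * (x * y * x⁻¹ * x) := by group
            _ = x⁻¹ * (x * (x * y * x⁻¹)) := by rw [h]
            _ = x * y * x⁻¹ := by group
        rwa [this]
      have hn2' := SetLike.mem_coe.2 hn2
      rw [hM, Subgroup.coe_mul_of_left_le_normalizer_right _ _ hnorm2] at hn2'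
      obtain ⟨a, ha, b, hb, hab⟩ := hn2'
      have hab' : a * b = n * n := hab
      have ha' : n * a * n⁻¹ ∈ L₂ := h1 ⟨a, ha, rfl⟩
      have hb' : n * b * n⁻¹ ∈ L₁ := h2 ⟨b, hb, rfl⟩
      have hfix : (n * a * n⁻¹) * (n * b * n⁻¹) = a * b := by
        calc (n * a * n⁻¹) * (n * b * n⁻¹) = n * (a * b) * n⁻¹ := by group
          _ = n * (n * n) * n⁻¹ := by rw [hab']
          _ = n * n := by group
          _ = a * b := hab'.symm
      have hz : (n * a * n⁻¹) * b⁻¹ ∈ Subgroup.zpowers j := by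
        rw [← hm]
        refine ⟨?_, L₂.mul_mem ha' (L₂.inv_mem hb)⟩
        have e : (n * a * n⁻¹) * b⁻¹ = (n * b * n⁻¹)⁻¹ * a := by
          have h3 : (n * b * n⁻¹) * (n * a * n⁻¹) = a * b := by rw [hc _ hb' _ ha']; exact hfix
          calc (n * a * n⁻¹) * b⁻¹ = (n * b * n⁻¹)⁻¹ * ((n * b * n⁻¹) * (n * a * n⁻¹)) * b⁻¹ := by group
            _ = (n * b * n⁻¹)⁻¹ * (a * b) * b⁻¹ := by rw [h3]
            _ = _ := by group
        rw [e]
        exact L₁.mul_mem (L₁.inv_mem hb') ha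
      refine ⟨a⁻¹ * n, mul_mem (inv_mem (hle (Subgroup.mem_sup_left ha))) hn,
        fun hm' => hn' (by simpa using mul_mem (Subgroup.mem_sup_left ha : a ∈ M) hm'), ?_, ?_⟩
      · ext y
        rw [Subgroup.mem_map_equiv, MulAut.conj_symm_apply]
        constructor
        · intro hy
          have h4 : n * ((a⁻¹ * n)⁻¹ * y * (a⁻¹ * n)) * n⁻¹ ∈ L₂ := h1 ⟨_, hy, rfl⟩
          have h5 : a * y * a⁻¹ ∈ L₂ := by convert h4 using 1; group
          exact (Subgroup.mem_normalizer_iff.1 (hnorm2 ha) y).2 h5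
        · intro hy
          have h5 : a * y * a⁻¹ ∈ L₁.map f := heq ▸ (Subgroup.mem_normalizer_iff.1 (hnorm2 ha) y).1 hy
          obtain ⟨w, hw, hw'⟩ := h5
          have : (a⁻¹ * n)⁻¹ * y * (a⁻¹ * n) = w := by
            have hw'' : n * w * n⁻¹ = a * y * a⁻¹ := hw'
            calc (a⁻¹ * n)⁻¹ * y * (a⁻¹ * n) = n⁻¹ * (a * y * a⁻¹) * n := by group
              _ = n⁻¹ * (n * w * n⁻¹) * n := by rw [hw'']
              _ = w := by group
          rw [this]; exact hw
      · have e : (a⁻¹ * n) ^ 2 = ((n * a * n⁻¹) * b⁻¹)⁻¹ := by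
          have c : a⁻¹ * (n * a⁻¹ * n⁻¹) = (n * a⁻¹ * n⁻¹) * a⁻¹ :=
            hc _ (inv_mem ha) _ (by have := inv_mem ha'; convert this using 1; group)
          calc (a⁻¹ * n) ^ 2 = (a⁻¹ * (n * a⁻¹ * n⁻¹)) * (n * n) := by rw [sq]; group
            _ = ((n * a⁻¹ * n⁻¹) * a⁻¹) * (a * b) := by rw [c, hab']
            _ = n * a⁻¹ * n⁻¹ * b := by group
            _ = b * (n * a⁻¹ * n⁻¹) := by
              have hx := hfix
              have hcomm : Commute (n * a⁻¹ * n⁻¹) b := by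
                have h6 : (n * a * n⁻¹) * b⁻¹ ∈ L₁ := (hm.symm ▸ hz : _ ∈ L₁ ⊓ L₂).1
                have h7 : Commute ((n * a * n⁻¹) * b⁻¹) b := hc _ h6 b hb
                have h8 : Commute (n * a * n⁻¹) b := by simpa using h7.mul_left (Commute.refl b)
                have h9 := h8.inv_left
                convert h9 using 1; group
              exact hcomm.eq
            _ = ((n * a * n⁻¹) * b⁻¹)⁻¹ := by group
        rw [e]; exact inv_mem hz
  · rcases h2 with h2 | h2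
    · left
      exact ⟨Subgroup.eq_of_le_of_card_ge h2 hcc1.ge, Subgroup.eq_of_le_of_card_ge h1 hcc2.ge⟩
    · exact absurd (hm ▸ le_inf h2 h1) (big L₂ six₂)

end Cfsg.Agent.S3210
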