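import Cfsg.Statements.S3211
import Cfsg.Agent.Lib.Invol.ZStar
import Cfsg.Agent.Lib.Lie.CentralPair


set_option autoImplicit false
open Cfsg

namespace Cfsg.Agent.S3211

open Matrix in
theorem sl_sq_one {F : Type*} [Field F] [Fintype F] (hF : Odd (Fintype.card F))
    {A : SpecialLinearGroup (Fin 2) F} (h : A * A = 1) : A = 1 ∨ A.1 = -1 := by
  have h2 := CfsgLib.CentralPair.two_ne_zero_of_odd hF
  have hd : A.1.det = 1 := A.2
  have hm : A.1 * A.1 = 1 := congrArg Subtype.val h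
  rw [det_fin_two] at hd
  have e00 := congrFun (congrFun hm 0) 0
  have e01 := congrFun (congrFun hm 0) 1
  have e10 := congrFun (congrFun hm 1) 0
  simp [Matrix.mul_apply, Fin.sum_univ_two] at e00 e01 e10
  have htr : A.1 0 0 + A.1 1 1 ≠ 0 := fun h0 => h2 (by linear_combination (A.1 0 0) * h0 - hd - e00)
  have hb : A.1 0 1 = 0 := (mul_eq_zero.1 (show A.1 0 1 * (A.1 0 0 + A.1 1 1) = 0 by
    linear_combination e01)).resolve_right htr
  have hc : A.1 1 0 = 0 := (mul_eq_zero.1 (show A.1 1 0 * (A.1 0 0 + A.1 1 1) = 0 by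
    linear_combination e10)).resolve_right htr
  rw [hb, hc] at e00 hd
  have ha : A.1 0 0 * A.1 0 0 = 1 := by linear_combination e00
  have hda : A.1 1 1 = A.1 0 0 := by linear_combination (A.1 0 0) * hd - (A.1 1 1) * ha
  rcases mul_self_eq_one_iff.1 ha with h0 | h0
  · refine Or.inl (Subtype.ext ?_)
    ext i k
    fin_cases i <;> fin_cases k <;> simp [hb, hc, hda, h0]
  · refine Or.inr ?_
    ext i k
    fin_cases i <;> fin_cases k <;> simp [hb, hc, hda, h0]

open Matrix in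
theorem sq_neg_entries {F : Type*} [Field F] [Fintype F] (hF : Odd (Fintype.card F))
    {A : SpecialLinearGroup (Fin 2) F} (h : (A * A).1 = -1) :
    A.1 1 1 = -A.1 0 0 ∧ A.1 0 0 * A.1 0 0 + A.1 0 1 * A.1 1 0 = -1 := by
  have h2 := CfsgLib.CentralPair.two_ne_zero_of_odd hF
  have hd : A.1.det = 1 := A.2
  rw [det_fin_two] at hd
  have e00 := congrFun (congrFun (show A.1 * A.1 = -1 from h) 0) 0
  have e11 := congrFun (congrFun (show A.1 * A.1 = -1 from h) 1) 1
  simp [Matrix.mul_apply, Fin.sum_univ_two] at e00 e11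
  have hs : (A.1 0 0 + A.1 1 1) * (A.1 0 0 + A.1 1 1) = 0 := by
    linear_combination e00 + e11 + 2 * hd
  have := mul_self_eq_zero.1 hs
  exact ⟨by linear_combination this, e00⟩

open Matrix in
theorem exists_conj_standard {F : Type*} [Field F] [Fintype F] (hF : Odd (Fintype.card F))
    (A : SpecialLinearGroup (Fin 2) F) (h : (A * A).1 = -1) :
    ∃ P : SpecialLinearGroup (Fin 2) F, A.1 * P.1 = P.1 * !![0, -1; 1, 0] := by
  obtain ⟨hd, hq⟩ := sq_neg_entries hF h
  have h2 := CfsgLib.CentralPair.two_ne_zero_of_odd hF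
  have hrep : ∃ x y : F, A.1 1 0 * x ^ 2 - 2 * A.1 0 0 * x * y - A.1 0 1 * y ^ 2 = 1 := by
    by_cases hc : A.1 1 0 = 0
    · rw [hc, mul_zero, add_zero] at hq
      have ha : A.1 0 0 ≠ 0 := fun h0 => by rw [h0, mul_zero] at hq; exact (neg_ne_zero.2 one_ne_zero) hq.symm
      refine ⟨(-1 - A.1 0 1) / (2 * A.1 0 0), 1, ?_⟩
      rw [hc]
      field_simp
      ring
    · obtain ⟨s, t, hst⟩ := FiniteField.exists_root_sum_quadratic (R := F)
        (f := Polynomial.C (A.1 1 0) * Polynomial.X ^ 2)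
        (g := Polynomial.C (A.1 1 0)⁻¹ * Polynomial.X ^ 2 + Polynomial.C 0 * Polynomial.X + Polynomial.C (-1))
        (Polynomial.degree_C_mul_X_pow 2 hc) (Polynomial.degree_quadratic (inv_ne_zero hc))
        (Nat.odd_iff.1 hF)
      simp at hst
      refine ⟨s + A.1 0 0 / A.1 1 0 * t, t, ?_⟩
      field_simp
      field_simp at hst
      linear_combination hst - t ^ 2 * hq
  obtain ⟨x, y, hxy⟩ := hrep
  refine ⟨⟨!![x, A.1 0 0 * x + A.1 0 1 * y; y, A.1 1 0 * x + A.1 1 1 * y], ?_⟩, ?_⟩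
  · simp [det_fin_two]
    rw [hd]
    linear_combination hxy
  · ext i k
    fin_cases i <;> fin_cases k <;> simp [Matrix.mul_apply, Fin.sum_univ_two, hd]
    · linear_combination x * hq
    · linear_combination y * hq

open Matrix in
theorem commute_of_commute {F : Type*} [Field F] [Fintype F] (hF : Odd (Fintype.card F))
    (A P Q : SpecialLinearGroup (Fin 2) F) (h : (A * A).1 = -1) (hP : P * A = A * P)
    (hQ : Q * A = A * Q) : P * Q = Q * P := by
  obtain ⟨hd, hq⟩ := sq_neg_entries hF h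
  have h2 := CfsgLib.CentralPair.two_ne_zero_of_odd hF
  have p00 := congrFun (congrFun (congrArg Subtype.val hP) 0) 0
  have p01 := congrFun (congrFun (congrArg Subtype.val hP) 0) 1
  have p10 := congrFun (congrFun (congrArg Subtype.val hP) 1) 0
  have q00 := congrFun (congrFun (congrArg Subtype.val hQ) 0) 0
  have q01 := congrFun (congrFun (congrArg Subtype.val hQ) 0) 1
  have q10 := congrFun (congrFun (congrArg Subtype.val hQ) 1) 0
  simp [Matrix.mul_apply, Fin.sum_univ_two, hd] at p00 p01 p10 q00 q01 q10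
  have key : ∀ z : F, A.1 0 0 * z = 0 → A.1 0 1 * z = 0 → z = 0 := fun z h1 h3 => by
    linear_combination (-A.1 0 0) * h1 - (A.1 1 0) * h3 + z * hq
  have dbl : ∀ z : F, (2 : F) * z = 0 → z = 0 := fun z hz => (mul_eq_zero.1 hz).resolve_left h2
  have k1 : P.1 0 1 * Q.1 1 0 - Q.1 0 1 * P.1 1 0 = 0 := by
    refine key _ (dbl _ (dbl _ ?_)) ?_
    · linear_combination (-(P.1 0 0 - P.1 1 1)) * q00 + (Q.1 0 0 - Q.1 1 1) * p00 - (Q.1 1 0) * p01 +
        (P.1 1 0) * q01 + (P.1 0 1) * q10 - (Q.1 0 1) * p10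
    · linear_combination (-(P.1 0 1)) * q00 + (Q.1 0 1) * p00
  have k2 : P.1 0 1 * (Q.1 0 0 - Q.1 1 1) - Q.1 0 1 * (P.1 0 0 - P.1 1 1) = 0 := by
    refine key _ (dbl _ ?_) ?_
    · linear_combination (-(Q.1 0 0 - Q.1 1 1)) * p01 + (P.1 0 0 - P.1 1 1) * q01
    · linear_combination (P.1 0 1) * q01 - (Q.1 0 1) * p01
  have k3 : P.1 1 0 * (Q.1 0 0 - Q.1 1 1) - Q.1 1 0 * (P.1 0 0 - P.1 1 1) = 0 := by
    refine key _ (dbl _ ?_) ?_
    · linear_combination (Q.1 0 0 - Q.1 1 1) * p10 - (P.1 0 0 - P.1 1 1) * q10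
    · linear_combination (A.1 1 0) * k2 - (Q.1 0 0 - Q.1 1 1) * p00 + (P.1 0 0 - P.1 1 1) * q00
  exact Subtype.ext (by
    ext i k
    fin_cases i <;> fin_cases k <;> simp [Matrix.mul_apply, Fin.sum_univ_two]
    · linear_combination k1
    · linear_combination -k2
    · linear_combination k3
    · linear_combination -k1)

theorem sl_facts {G : Type*} [Group G] {F : Type*} [Field F] [Fintype F] (hF : Odd (Fintype.card F))
    (L : Subgroup G) (e : L ≃* Matrix.SpecialLinearGroup (Fin 2) F) (j : G) (hjL : j ∈ L)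
    (hj : orderOf j = 2) :
    (∀ s ∈ L, s * s = 1 → s = 1 ∨ s = j) ∧
    (∀ s ∈ L, ∀ t ∈ L, s * s = j → t * t = j → ∃ c ∈ L, c * s * c⁻¹ = t) ∧
    (∀ s ∈ L, ∀ p ∈ L, ∀ q ∈ L, s * s = j → p * s = s * p → q * s = s * q → p * q = q * p) := by
  have hjj : (⟨j, hjL⟩ : L) * ⟨j, hjL⟩ = 1 :=
    Subtype.ext ((sq j).symm.trans (hj ▸ pow_orderOf_eq_one j))
  have hej : (e ⟨j, hjL⟩).1 = -1 := by
    refine (sl_sq_one hF (by rw [← map_mul, hjj, map_one])).resolve_left fun h => ?_
    rw [← map_one e] at h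
    have : j = 1 := congrArg Subtype.val (e.injective h)
    rw [this, orderOf_one] at hj
    exact absurd hj (by decide)
  have hsq : ∀ (s : G) (hs : s ∈ L), s * s = j → (e ⟨s, hs⟩ * e ⟨s, hs⟩).1 = -1 := by
    intro s hs h
    rw [← map_mul, show (⟨s, hs⟩ : L) * ⟨s, hs⟩ = ⟨j, hjL⟩ from Subtype.ext h, hej]
  refine ⟨fun s hs h => ?_, fun s hs t ht h h' => ?_, fun s hs p hp q hq h h' h'' => ?_⟩
  · rcases sl_sq_one hF (A := e ⟨s, hs⟩)
      (by rw [← map_mul, show (⟨s, hs⟩ : L) * ⟨s, hs⟩ = 1 from Subtype.ext h, map_one]) with h1 | h1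
    · rw [← map_one e] at h1
      exact Or.inl (congrArg Subtype.val (e.injective h1))
    · exact Or.inr (congrArg Subtype.val (e.injective (Subtype.ext (h1.trans hej.symm))))
  · obtain ⟨P, hP⟩ := exists_conj_standard hF _ (hsq s hs h)
    obtain ⟨Q, hQ⟩ := exists_conj_standard hF _ (hsq t ht h')
    have hR : (Q * P⁻¹) * e ⟨s, hs⟩ * (Q * P⁻¹)⁻¹ = e ⟨t, ht⟩ := by
      set R : Matrix.SpecialLinearGroup (Fin 2) F :=
        ⟨!![0, -1; 1, 0], by simp [Matrix.det_fin_two]⟩ with hRdef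
      have e1 : e ⟨s, hs⟩ * P = P * R := Subtype.ext hP
      have e2 : e ⟨t, ht⟩ * Q = Q * R := Subtype.ext hQ
      calc (Q * P⁻¹) * e ⟨s, hs⟩ * (Q * P⁻¹)⁻¹ = Q * P⁻¹ * (e ⟨s, hs⟩ * P) * Q⁻¹ := by group
        _ = Q * R * Q⁻¹ := by rw [e1]; group
        _ = e ⟨t, ht⟩ := by rw [← e2]; group
    refine ⟨(e.symm (Q * P⁻¹) : L), SetLike.coe_mem _, ?_⟩
    have := congrArg e.symm hR
    rw [map_mul, map_mul, map_inv, e.symm_apply_apply, e.symm_apply_apply] at this
    exact congrArg Subtype.val this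
  · have hm : ∀ (a : G) (ha : a ∈ L), a * s = s * a → e ⟨a, ha⟩ * e ⟨s, hs⟩ = e ⟨s, hs⟩ * e ⟨a, ha⟩ := by
      intro a ha h0
      rw [← map_mul, ← map_mul]
      exact congrArg e (Subtype.ext h0)
    have := commute_of_commute hF _ _ _ (hsq s hs h) (hm p hp h') (hm q hq h'')
    rw [← map_mul, ← map_mul] at this
    exact congrArg Subtype.val (e.injective this)

/-- The square roots of `a` commuting with `j` and `u`. -/
def roots {G : Type*} [Group G] (j a u : G) : Set G := {x | x * j = j * x ∧ x * u = u * x ∧ x * x = a}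

theorem roots_conj {G : Type*} [Group G] (c j j' a a' u u' : G)
    (hj : c * j * c⁻¹ = j') (ha : c * a * c⁻¹ = a') (hu : c * u * c⁻¹ = u') :
    Nat.card (roots j a u) = Nat.card (roots j' a' u') := by
  refine Nat.card_congr ((MulAut.conj c).toEquiv.subtypeEquiv fun x => ?_)
  subst hj ha hu
  simp only [roots, Set.mem_setOf_eq, MulEquiv.toEquiv_eq_coe, MulEquiv.coe_toEquiv, MulAut.conj_apply]
  simp only [conj_mul, mul_left_inj, mul_right_inj]

/-- Let G be a finite group with subgroups L₁ ≅ SL₂(q₁) and L₂ ≅ SL₂(q₂), q₁ and q₂ odd prime powers, which commute elementwise and meet in ⟨j⟩ for an involution j, and suppose L₁L₂ has index 2 in C_G(j). If some n ∈ C_G(j) with n² = j interchanges L₁ and L₂ under conjugation (so that C_G(j) = L₁L₂⟨n⟩), then G = C_G(j)O(G). -/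
theorem result {G : Type*} [Group G] [Finite G]
    {F₁ : Type*} [Field F₁] [Fintype F₁] {F₂ : Type*} [Field F₂] [Fintype F₂]
    (hF₁ : Odd (Fintype.card F₁)) (hF₂ : Odd (Fintype.card F₂)) (L₁ L₂ : Subgroup G)
    (e₁ : ↥L₁ ≃* Matrix.SpecialLinearGroup (Fin 2) F₁) (e₂ : ↥L₂ ≃* Matrix.SpecialLinearGroup (Fin 2) F₂)
    (hc : ∀ x ∈ L₁, ∀ y ∈ L₂, x * y = y * x) (j : G) (hj : orderOf j = 2) (hm : L₁ ⊓ L₂ = Subgroup.zpowers j)
    (hle : L₁ ⊔ L₂ ≤ Subgroup.centralizer ({j} : Set G)) (hi : (L₁ ⊔ L₂).relIndex (Subgroup.centralizer ({j} : Set G)) = 2) (n : G) (hn : n ∈ Subgroup.centralizer ({j} : Set G))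
    (hn2 : n ^ 2 = j) (hswap : L₁.map (MulAut.conj n).toMonoidHom = L₂) :
    Subgroup.centralizer ({j} : Set G) ⊔ Cfsg.oddCore G = ⊤ := by
  classical
  set C := Subgroup.centralizer ({j} : Set G) with hC
  set M := L₁ ⊔ L₂ with hM
  have hjj : j * j = 1 := (sq j).symm.trans (hj ▸ pow_orderOf_eq_one j)
  have hjz : j ∈ L₁ ⊓ L₂ := hm.symm ▸ Subgroup.mem_zpowers j
  have hjne : j ≠ 1 := fun h => by rw [h, orderOf_one] at hj; exact absurd hj (by decide)
  obtain ⟨hU₁, hK₁, hA₁⟩ := sl_facts hF₁ L₁ e₁ j hjz.1 hj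
  obtain ⟨hU₂, hK₂, hA₂⟩ := sl_facts hF₂ L₂ e₂ j hjz.2 hj
  have hz12 : ∀ z ∈ L₁, z ∈ L₂ → z = 1 ∨ z = j := by
    intro z h1 h2
    obtain ⟨k, hk⟩ : ∃ k : ℤ, j ^ k = z :=
      Subgroup.mem_zpowers_iff.1 (by rw [← hm]; exact ⟨h1, h2⟩)
    rw [← zpow_mod_orderOf, hj] at hk
    rcases Int.emod_two_eq_zero_or_one k with h | h <;> simp [h] at hk
    · exact Or.inl hk.symm
    · exact Or.inr hk.symm
  have hjc : ∀ x ∈ C, x * j = j * x := fun x hx => Subgroup.mem_centralizer_singleton_iff.1 hx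
  have hCof : ∀ x : G, x * j = j * x → x ∈ C := fun x hx => Subgroup.mem_centralizer_singleton_iff.2 hx
  have h1C : ∀ a ∈ L₁, a ∈ C := fun a ha => hle (Subgroup.mem_sup_left ha)
  have h2C : ∀ a ∈ L₂, a ∈ C := fun a ha => hle (Subgroup.mem_sup_right ha)
  have hn12 : ∀ a ∈ L₁, n * a * n⁻¹ ∈ L₂ := fun a ha => hswap ▸ ⟨a, ha, rfl⟩
  have hn21 : ∀ b ∈ L₂, n * b * n⁻¹ ∈ L₁ := by
    intro b hb
    rw [← hswap] at hb
    obtain ⟨a, ha, hab⟩ := hb
    have hab' : n * a * n⁻¹ = b := hab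
    have : n * b * n⁻¹ = (n ^ 2) * a * (n ^ 2)⁻¹ := by rw [← hab', pow_two]; group
    rw [this, hn2, ← hjc a (h1C a ha), mul_inv_cancel_right]
    exact ha
  have hdec : ∀ x ∈ M, ∃ a ∈ L₁, ∃ b ∈ L₂, a * b = x := by
    intro x hx
    have hn' : L₁ ≤ Subgroup.normalizer (L₂ : Set G) := fun a ha => Subgroup.mem_normalizer_iff.2 fun b =>
      ⟨fun hb => by rw [hc a ha b hb, mul_inv_cancel_right]; exact hb, fun hb => by
        have : b = a⁻¹ * (a * b * a⁻¹) * (a⁻¹)⁻¹ := by group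
        rw [this, hc a⁻¹ (inv_mem ha) _ hb, mul_inv_cancel_right]
        exact hb⟩
    have := SetLike.mem_coe.2 hx
    rw [hM, Subgroup.coe_mul_of_left_le_normalizer_right _ _ hn'] at this
    exact this
  have hnM : n ∉ M := by
    intro hnM'
    obtain ⟨a, ha, b, hb, hab⟩ := hdec n hnM'
    have hsub : L₁ ≤ L₂ := by
      intro x hx
      have h1 : a⁻¹ * x * a ∈ L₁ := L₁.mul_mem (L₁.mul_mem (inv_mem ha) hx) ha
      have h2 := hn12 _ h1
      have : n * (a⁻¹ * x * a) * n⁻¹ = x := by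
        rw [← hab, show a * b * (a⁻¹ * x * a) * (a * b)⁻¹ = a * (b * (a⁻¹ * x * a)) * b⁻¹ * a⁻¹ by group,
          ← hc _ h1 b hb]
        group
      rwa [this] at h2
    have hsm : ∀ x ∈ L₁, x = 1 ∨ x = j := fun x hx => hz12 x hx (hsub hx)
    obtain ⟨A, hA⟩ : ∃ A : L₁, e₁ A = ⟨!![1, 1; 0, 1], by simp [Matrix.det_fin_two]⟩ :=
      ⟨e₁.symm _, e₁.apply_symm_apply _⟩
    have hne := CfsgLib.CentralPair.two_ne_zero_of_odd hF₁
    rcases hsm A.1 A.2 with h | h
    · have : e₁ A = 1 := by rw [show A = 1 from Subtype.ext h, map_one]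
      have h01 := congrFun (congrFun (congrArg Subtype.val this) 0) 1
      rw [hA] at h01
      simp at h01
    · have hA2 : e₁ A * e₁ A = 1 := by
        rw [← map_mul, show A * A = 1 from Subtype.ext (by show A.1 * A.1 = 1; rw [h, hjj]), map_one]
      have h01 := congrFun (congrFun (congrArg Subtype.val hA2) 0) 1
      rw [Matrix.SpecialLinearGroup.coe_mul, Matrix.SpecialLinearGroup.coe_one, hA] at h01
      simp [Matrix.mul_apply, Fin.sum_univ_two] at h01
      exact hne (by linear_combination h01)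
  have hout : ∀ x ∈ C, x ∉ M → ∃ m ∈ M, n * m = x := by
    intro x hx hxM
    refine ⟨n⁻¹ * x, ?_, mul_inv_cancel_left n x⟩
    have h := Subgroup.mul_mem_iff_of_index_two (H := M.subgroupOf C) hi (a := ⟨n, hn⟩⁻¹) (b := ⟨x, hx⟩)
    exact Subgroup.mem_subgroupOf.1 (h.2 (by
      simp only [inv_mem_iff, Subgroup.mem_subgroupOf]
      exact iff_of_false hnM hxM))
  have hnj : n * j = j * n := hjc n hn
  -- no involutions outside M
  have hinv : ∀ x ∈ C, x ∉ M → x * x ≠ 1 := by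
    intro x hx hxM h1
    obtain ⟨m, hm', rfl⟩ := hout x hx hxM
    obtain ⟨a, ha, b, hb, rfl⟩ := hdec m hm'
    have hnn : ∀ z ∈ C, n⁻¹ * z * n = n * z * n⁻¹ := by
      intro z hz
      have hz' : n * n * z = z * (n * n) := by rw [← sq, hn2]; exact (hjc z hz).symm
      calc n⁻¹ * z * n = n⁻¹ * (z * (n * n)) * n⁻¹ := by group
        _ = n⁻¹ * (n * n * z) * n⁻¹ := by rw [hz']
        _ = n * z * n⁻¹ := by group
    set a' := n * a * n⁻¹ with ha'
    set b' := n * b * n⁻¹ with hb'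
    have hexp : n * (a * b) * (n * (a * b)) = j * ((b' * a) * (a' * b)) := by
      calc n * (a * b) * (n * (a * b)) = (n * n) * ((n⁻¹ * a * n) * (n⁻¹ * b * n)) * (a * b) := by group
        _ = j * (a' * b') * (a * b) := by rw [← sq, hn2, hnn a (h1C a ha), hnn b (h2C b hb)]
        _ = j * (a' * (b' * a) * b) := by group
        _ = j * ((b' * a) * (a' * b)) := by
          rw [← hc (b' * a) (L₁.mul_mem (hn21 b hb) ha) a' (hn12 a ha)]; group
    rw [hexp] at h1
    set p := b' * a with hp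
    set q := a' * b with hq
    have hpq : p * q = j := by
      calc p * q = j⁻¹ * (j * (p * q)) := by group
        _ = j := by rw [h1, mul_one]; exact inv_eq_of_mul_eq_one_right hjj
    have hp1 : p ∈ L₁ := L₁.mul_mem (hn21 b hb) ha
    have hq2 : q ∈ L₂ := L₂.mul_mem (hn12 a ha) hb
    have hp2 : p ∈ L₂ := by
      rw [show p = j * q⁻¹ by rw [← hpq]; group]
      exact L₂.mul_mem hjz.2 (inv_mem hq2)
    have hq' : q = p := by
      have hqn : n * q * n⁻¹ = a * b' := by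
        calc n * q * n⁻¹ = (n * n) * a * (n * n)⁻¹ * (n * b * n⁻¹) := by rw [hq, ha']; group
          _ = a * b' := by rw [← sq, hn2, ← hjc a (h1C a ha), mul_inv_cancel_right]
      have hq1 : q ∈ L₁ := by
        rw [show q = p⁻¹ * j by rw [← hpq]; group]
        exact L₁.mul_mem (inv_mem hp1) hjz.1
      have hqc : n * q * n⁻¹ = q := by
        rcases hz12 q hq1 hq2 with h | h <;> rw [h]
        · group
        · rw [hnj, mul_inv_cancel_right]
      rw [hqc] at hqn
      have hpc : ∀ g ∈ C, g * p * g⁻¹ = p := by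
        intro g hg
        rcases hz12 p hp1 hp2 with h | h <;> rw [h]
        · group
        · rw [hjc g hg, mul_inv_cancel_right]
      rw [hqn]
      calc a * b' = a * p * a⁻¹ := by rw [hp]; group
        _ = p := hpc a (h1C a ha)
    rw [hq'] at hpq
    rcases hz12 p hp1 hp2 with h | h <;> rw [h] at hpq
    · rw [one_mul] at hpq; exact hjne hpq.symm
    · rw [hjj] at hpq; exact hjne hpq.symm
  -- conjugates of j in C
  have hshape : ∀ u ∈ C, u * u = 1 → u ≠ 1 → u ≠ j →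
      ∃ a ∈ L₁, ∃ b ∈ L₂, a * b = u ∧ a * a = j ∧ b * b = j := by
    intro u hu h1 hne1 hnej
    have huM : u ∈ M := by_contra fun h => hinv u hu h h1
    obtain ⟨a, ha, b, hb, rfl⟩ := hdec u huM
    have hab : a * a * (b * b) = 1 := by
      rw [← h1, show a * b * (a * b) = a * (b * a) * b by group, ← hc a ha b hb]; group
    have ha2 : a * a ∈ L₂ := by
      rw [eq_inv_of_mul_eq_one_left hab]
      exact inv_mem (L₂.mul_mem hb hb)
    rcases hz12 _ (L₁.mul_mem ha ha) ha2 with h | h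
    · exfalso
      rw [h, one_mul] at hab
      rcases hU₁ a ha h with rfl | rfl <;> rcases hU₂ b hb hab with rfl | rfl
      · exact hne1 (one_mul 1)
      · exact hnej (one_mul _)
      · exact hnej (mul_one _)
      · exact hne1 hjj
    · refine ⟨a, ha, b, hb, rfl, h, ?_⟩
      rw [h] at hab
      rw [← inv_eq_of_mul_eq_one_right hab, inv_eq_of_mul_eq_one_right hjj]
  have hstrict : ∀ i₁ ∈ L₁, i₁ * i₁ = j →
      Nat.card (roots j (i₁ * (n * i₁ * n⁻¹)) (i₁ * (n * i₁ * n⁻¹))) <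
        Nat.card (roots j j (i₁ * (n * i₁ * n⁻¹))) := by
    intro i₁ h1 h1s
    set i₂ := n * i₁ * n⁻¹ with hi₂
    have h2 : i₂ ∈ L₂ := hn12 i₁ h1
    have h2s : i₂ * i₂ = j := by
      rw [hi₂, show n * i₁ * n⁻¹ * (n * i₁ * n⁻¹) = n * (i₁ * i₁) * n⁻¹ by group, h1s, hnj, mul_inv_cancel_right]
    have hni₂ : n * i₂ * n⁻¹ = i₁ := by
      rw [hi₂, show n * (n * i₁ * n⁻¹) * n⁻¹ = n ^ 2 * i₁ * (n ^ 2)⁻¹ by rw [pow_two]; group, hn2,
        ← hjc i₁ (h1C i₁ h1), mul_inv_cancel_right]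
    set u := i₁ * i₂ with hu
    have h12 : i₁ * i₂ = i₂ * i₁ := hc i₁ h1 i₂ h2
    have huu : u * u = 1 := by
      rw [hu, show i₁ * i₂ * (i₁ * i₂) = i₁ * (i₂ * i₁) * i₂ by group, ← h12,
        show i₁ * (i₁ * i₂) * i₂ = (i₁ * i₁) * (i₂ * i₂) by group, h1s, h2s, hjj]
    have hi1u : i₁ * u = u * i₁ := by rw [hu, mul_assoc i₁ i₂ i₁, ← h12]
    have hi2u : i₂ * u = u * i₂ := by rw [hu, ← mul_assoc i₂, ← h12]
    have hi1j := hjc i₁ (h1C i₁ h1)
    have hi2j := hjc i₂ (h2C i₂ h2)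
    -- roots of u in M commute with each other and with i₁
    have hinner : ∀ x ∈ roots j u u, x ∈ M → x * i₁ = i₁ * x ∧
        ∀ y ∈ roots j u u, y ∈ M → x * y = y * x := by
      have hsplit : ∀ x ∈ roots j u u, x ∈ M →
          ∃ p ∈ L₁, ∃ q ∈ L₂, p * q = x ∧ p * i₁ = i₁ * p ∧ q * i₂ = i₂ * q := by
        rintro x ⟨-, -, hxs⟩ hxM
        obtain ⟨p, hp, q, hq, rfl⟩ := hdec x hxM
        refine ⟨p, hp, q, hq, rfl, ?_⟩
        have e : p * p * (q * q) = i₁ * i₂ := by
          rw [← hu, ← hxs, show p * q * (p * q) = p * (q * p) * q by group, ← hc p hp q hq]; group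
        have hz : i₁⁻¹ * (p * p) = i₂ * (q * q)⁻¹ := by
          calc i₁⁻¹ * (p * p) = i₁⁻¹ * (p * p * (q * q)) * (q * q)⁻¹ := by group
            _ = i₂ * (q * q)⁻¹ := by rw [e]; group
        set z := i₁⁻¹ * (p * p) with hzdef
        have hz1 : z ∈ L₁ := L₁.mul_mem (inv_mem h1) (L₁.mul_mem hp hp)
        have hz2 : z ∈ L₂ := hz ▸ L₂.mul_mem h2 (inv_mem (L₂.mul_mem hq hq))
        have hzc : ∀ g ∈ C, g * z = z * g := by
          intro g hg
          rcases hz12 z hz1 hz2 with h | h <;> rw [h]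
          · simp
          · exact hjc g hg
        constructor
        · have e1 : i₁ = (p * p) * z⁻¹ := by
            rw [hzdef]; group
          rw [e1]
          have hcz : p * z⁻¹ = z⁻¹ * p := ((show Commute p z from hzc p (h1C p hp)).inv_right).eq
          calc p * (p * p * z⁻¹) = (p * p) * (p * z⁻¹) := by group
            _ = (p * p) * (z⁻¹ * p) := by rw [hcz]
            _ = p * p * z⁻¹ * p := by group
        · have e2 : i₂ = z * (q * q) := by rw [hz]; group
          rw [e2]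
          calc q * (z * (q * q)) = (q * z) * (q * q) := by group
            _ = (z * q) * (q * q) := by rw [hzc q (h2C q hq)]
            _ = z * (q * q) * q := by group
      intro x hx hxM
      obtain ⟨p, hp, q, hq, rfl, hpi, hqi⟩ := hsplit x hx hxM
      refine ⟨?_, fun y hy hyM => ?_⟩
      · calc p * q * i₁ = p * (q * i₁) := by group
          _ = p * (i₁ * q) := by rw [hc i₁ h1 q hq]
          _ = (p * i₁) * q := by group
          _ = i₁ * (p * q) := by rw [hpi]; group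
      · obtain ⟨r, hr, s, hs, rfl, hri, hsi⟩ := hsplit y hy hyM
        have c1 : p * r = r * p := hA₁ i₁ h1 p hp r hr h1s hpi hri
        have c2 : q * s = s * q := hA₂ i₂ h2 q hq s hs h2s hqi hsi
        calc p * q * (r * s) = p * (q * r) * s := by group
          _ = p * (r * q) * s := by rw [hc r hr q hq]
          _ = (p * r) * (q * s) := by group
          _ = (r * p) * (s * q) := by rw [c1, c2]
          _ = r * (p * s) * q := by group
          _ = r * (s * p) * q := by rw [hc p hp s hs]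
          _ = r * s * (p * q) := by group
    -- roots of u outside M
    have houter : ∀ x ∈ roots j u u, x ∉ M → (x * i₂) * (x * i₂) = j := by
      rintro x ⟨hxj, hxu, hxs⟩ hxM
      have hxC := hCof x hxj
      obtain ⟨m, hm', rfl⟩ := hout x hxC hxM
      obtain ⟨a, ha, b, hb, rfl⟩ := hdec m hm'
      set x := n * (a * b) with hx
      have hp : x * i₂ * x⁻¹ ∈ L₁ := by
        rw [show x * i₂ * x⁻¹ = n * (a * (b * i₂ * b⁻¹) * a⁻¹) * n⁻¹ by rw [hx]; group,
          hc a ha _ (L₂.mul_mem (L₂.mul_mem hb h2) (inv_mem hb)), mul_inv_cancel_right]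
        exact hn21 _ (L₂.mul_mem (L₂.mul_mem hb h2) (inv_mem hb))
      have hq : x * i₁ * x⁻¹ ∈ L₂ := by
        rw [show x * i₁ * x⁻¹ = n * (a * (b * i₁) * b⁻¹ * a⁻¹) * n⁻¹ by rw [hx]; group, ← hc i₁ h1 b hb,
          show a * (i₁ * b) * b⁻¹ * a⁻¹ = a * i₁ * a⁻¹ by group]
        exact hn12 _ (L₁.mul_mem (L₁.mul_mem ha h1) (inv_mem ha))
      set p := x * i₂ * x⁻¹ with hpdef
      set q := x * i₁ * x⁻¹ with hqdef
      have hpq : q * p = i₁ * i₂ := by
        rw [hqdef, hpdef, show x * i₁ * x⁻¹ * (x * i₂ * x⁻¹) = x * (i₁ * i₂) * x⁻¹ by group, ← hu, hxu,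
          mul_inv_cancel_right]
      rw [← hc p hp q hq] at hpq
      have hz : i₁⁻¹ * p = i₂ * q⁻¹ := by
        calc i₁⁻¹ * p = i₁⁻¹ * (p * q) * q⁻¹ := by group
          _ = i₂ * q⁻¹ := by rw [hpq]; group
      rcases hz12 _ (L₁.mul_mem (inv_mem h1) hp) (hz ▸ L₂.mul_mem h2 (inv_mem hq)) with h | h
      · exfalso
        have hp1 : p = i₁ := by
          calc p = i₁ * (i₁⁻¹ * p) := by group
            _ = i₁ := by rw [h, mul_one]
        refine hinv (x * i₂⁻¹) (C.mul_mem hxC (inv_mem (h2C i₂ h2))) (fun hM' => hxM ?_) ?_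
        · have := M.mul_mem hM' (Subgroup.mem_sup_right (S := L₁) h2)
          rwa [inv_mul_cancel_right] at this
        · calc x * i₂⁻¹ * (x * i₂⁻¹) = (x * i₂ * x⁻¹)⁻¹ * (x * x) * i₂⁻¹ := by group
            _ = 1 := by rw [← hpdef, hp1, hxs, hu]; group
      · have hp1 : p = i₁ * j := by
          calc p = i₁ * (i₁⁻¹ * p) := by group
            _ = i₁ * j := by rw [h]
        calc x * i₂ * (x * i₂) = (x * i₂ * x⁻¹) * (x * x) * i₂ := by group
          _ = i₁ * j * (i₁ * i₂) * i₂ := by rw [← hpdef, hp1, hxs]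
          _ = i₁ * (j * i₁) * (i₂ * i₂) := by group
          _ = j := by
            rw [← hi1j, ← mul_assoc i₁, h1s, h2s, hjj, one_mul]
    set x₀ : G := if h : ∃ x ∈ roots j u u, x ∈ M then h.choose else 1 with hx₀
    have hx₀p : ∀ x ∈ roots j u u, x ∈ M → x₀ ∈ roots j u u ∧ x₀ ∈ M := by
      intro x hx hxM
      have h : ∃ x ∈ roots j u u, x ∈ M := ⟨x, hx, hxM⟩
      rw [hx₀, dif_pos h]
      exact h.choose_spec
    let f : roots j u u → G := fun x => if x.1 ∈ M then i₁ * (x₀⁻¹ * x.1) else x.1 * i₂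
    have hfM : ∀ x, (f x ∈ M ↔ x.1 ∈ M) := by
      intro x
      by_cases hx : x.1 ∈ M
      · simp only [f, if_pos hx]
        exact iff_of_true (M.mul_mem (Subgroup.mem_sup_left h1)
          (M.mul_mem (M.inv_mem (hx₀p _ x.2 hx).2) hx)) hx
      · simp only [f, if_neg hx]
        refine iff_of_false (fun h => hx ?_) hx
        have := M.mul_mem h (M.inv_mem (Subgroup.mem_sup_right (S := L₁) h2))
        rwa [mul_inv_cancel_right] at this
    have hf : ∀ x, f x ∈ roots j j u := by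
      rintro ⟨x, hx⟩
      by_cases hxM : x ∈ M
      · simp only [f, if_pos hxM]
        obtain ⟨hx0, hx0M⟩ := hx₀p _ hx hxM
        obtain ⟨hx0i, hx0c⟩ := hinner x₀ hx0 hx0M
        have hc0 : Commute x₀⁻¹ x := (show Commute x₀ x from hx0c x hx hxM).inv_left
        have hci : Commute i₁ (x₀⁻¹ * x) :=
          (show Commute x₀ i₁ from hx0i).symm.inv_right.mul_right
            (show Commute x i₁ from (hinner x hx hxM).1).symm
        refine ⟨?_, ?_, ?_⟩
        · exact ((show Commute i₁ j from hi1j).mul_left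
            ((show Commute x₀ j from hx0.1).inv_left.mul_left (show Commute x j from hx.1))).eq
        · exact ((show Commute i₁ u from hi1u).mul_left
            ((show Commute x₀ u from hx0.2.1).inv_left.mul_left (show Commute x u from hx.2.1))).eq
        · calc i₁ * (x₀⁻¹ * x) * (i₁ * (x₀⁻¹ * x)) = i₁ * ((x₀⁻¹ * x) * i₁) * (x₀⁻¹ * x) := by group
            _ = i₁ * i₁ * (x₀⁻¹ * (x * x₀⁻¹) * x) := by rw [← hci.eq]; group
            _ = i₁ * i₁ * ((x₀ * x₀)⁻¹ * (x * x)) := by rw [← hc0.eq]; group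
            _ = j := by rw [hx0.2.2, hx.2.2, h1s]; group
      · simp only [f, if_neg hxM]
        exact ⟨((show Commute x j from hx.1).mul_left (show Commute i₂ j from hi2j)).eq,
          ((show Commute x u from hx.2.1).mul_left (show Commute i₂ u from hi2u)).eq, houter x hx hxM⟩
    have hnroot : n ∈ roots j j u := by
      refine ⟨hnj, ?_, by rw [← sq, hn2]⟩
      calc n * u = (n * i₁ * n⁻¹) * (n * i₂ * n⁻¹) * n := by rw [hu]; group
        _ = u * n := by rw [← hi₂, hni₂, ← h12]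
    have hfinj : Function.Injective f := by
      intro x y hxy
      have hMM : x.1 ∈ M ↔ y.1 ∈ M := by rw [← hfM x, hxy, hfM y]
      by_cases hxM : x.1 ∈ M
      · simp only [f, if_pos hxM, if_pos (hMM.1 hxM), mul_right_inj] at hxy
        exact Subtype.ext hxy
      · simp only [f, if_neg hxM, if_neg (fun h => hxM (hMM.2 h)), mul_left_inj] at hxy
        exact Subtype.ext hxy
    have hfn : ∀ x, f x ≠ n := by
      intro x hx
      have hxM : x.1 ∉ M := fun h => hnM (hx ▸ (hfM x).2 h)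
      simp only [f, if_neg hxM] at hx
      have hx' : x.1 = n * i₂⁻¹ := by rw [← hx]; group
      have hsq := x.2.2.2
      rw [hx'] at hsq
      have hi1inv : i₁⁻¹ = j * i₁ := inv_eq_of_mul_eq_one_right (by rw [← mul_assoc, hi1j, mul_assoc, h1s, hjj])
      have hi2inv : i₂⁻¹ = i₂ * j := inv_eq_of_mul_eq_one_right (by rw [← mul_assoc, h2s, hjj])
      have : n * i₂⁻¹ * (n * i₂⁻¹) = j * u := by
        calc n * i₂⁻¹ * (n * i₂⁻¹) = (n * i₂ * n⁻¹)⁻¹ * n ^ 2 * i₂⁻¹ := by group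
          _ = j * i₁ * j * (i₂ * j) := by rw [hni₂, hn2, hi1inv, hi2inv]
          _ = j * i₁ * (j * i₂) * j := by group
          _ = j * i₁ * (i₂ * j) * j := by rw [hi2j]
          _ = j * (i₁ * i₂) * (j * j) := by group
          _ = j * u := by rw [hjj, mul_one]
      rw [this] at hsq
      exact hjne (mul_eq_right.1 hsq)
    haveI := Fintype.ofFinite G
    rw [Nat.card_eq_fintype_card, Nat.card_eq_fintype_card]
    exact Fintype.card_lt_of_injective_of_notMem (fun x => (⟨f x, hf x⟩ : roots j j u))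
      (fun x y h => hfinj (congrArg Subtype.val h)) (b := ⟨n, hnroot⟩)
      (by rintro ⟨x, hx⟩; exact hfn x (congrArg Subtype.val hx))
  -- strict inequality for every conjugate
  have hineq : ∀ u ∈ C, u * u = 1 → u ≠ 1 → u ≠ j → Nat.card (roots j u u) < Nat.card (roots j j u) := by
    intro u hu h1 hne1 hnej
    obtain ⟨a, ha, b, hb, hab, has, hbs⟩ := hshape u hu h1 hne1 hnej
    have h2s : (n * a * n⁻¹) * (n * a * n⁻¹) = j := by
      rw [show n * a * n⁻¹ * (n * a * n⁻¹) = n * (a * a) * n⁻¹ by group, has, hnj, mul_inv_cancel_right]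
    obtain ⟨c, hcL, hcb⟩ := hK₂ b hb (n * a * n⁻¹) (hn12 a ha) hbs h2s
    have hcu : c * u * c⁻¹ = a * (n * a * n⁻¹) := by
      rw [← hcb, ← hab, show c * (a * b) * c⁻¹ = (c * a) * b * c⁻¹ by group, ← hc a ha c hcL]; group
    have hcj : c * j * c⁻¹ = j := by rw [hjc c (h2C c hcL), mul_inv_cancel_right]
    rw [roots_conj c j j u _ u _ hcj hcu hcu, roots_conj c j j j j u _ hcj hcj hcu]
    exact hstrict a ha has
  have hiso : Cfsg.IsIsolatedInvolution j := by
    refine ⟨hj, fun g hg => by_contra fun hne => ?_⟩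
    set u := g * j * g⁻¹ with hu
    set v := g⁻¹ * j * g with hv
    have hgu : g⁻¹ * u * g⁻¹⁻¹ = j := by rw [hu]; group
    have hgv : g⁻¹ * j * g⁻¹⁻¹ = v := by rw [hv, inv_inv]
    have hu2 : u * u = 1 := by
      rw [hu, show g * j * g⁻¹ * (g * j * g⁻¹) = g * (j * j) * g⁻¹ by group, hjj]; group
    have hv2 : v * v = 1 := by
      rw [hv, show g⁻¹ * j * g * (g⁻¹ * j * g) = g⁻¹ * (j * j) * g by group, hjj]; group
    have hu1 : u ≠ 1 := fun h => hjne (by rw [← hgu, h]; group)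
    have hv1 : v ≠ 1 := fun h => hjne (by rw [show j = g * v * g⁻¹ by rw [hv]; group, h]; group)
    have hvj : v ≠ j := fun h => hne (by rw [hu]; nth_rw 1 [← h]; rw [hv]; group)
    have hvc : v ∈ C := by
      refine hCof v ?_
      have := congrArg (fun z => g⁻¹ * z * g⁻¹⁻¹) hg.eq
      simp only [conj_mul.symm, hgu, hgv] at this
      exact this
    have h1 := hineq u (hCof u hg.eq.symm) hu2 hu1 hne
    have h2 := hineq v hvc hv2 hv1 hvj
    have sym : ∀ a b c : G, roots a c b = roots b c a := fun a b c => Set.ext fun x =>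
      ⟨fun h => ⟨h.2.1, h.1, h.2.2⟩, fun h => ⟨h.2.1, h.1, h.2.2⟩⟩
    rw [roots_conj g⁻¹ j v u j u j hgv hgu hgu, roots_conj g⁻¹ j v j v u j hgv hgv hgu,
      sym v j j, sym v j v] at h1
    exact lt_irrefl _ (h1.trans h2)
  have hz := CfsgLib.Invol.zstar hiso
  haveI := CfsgLib.Coprime.pPrimeCore_characteristic (G := G) 2
  rw [eq_top_iff]
  rintro g -
  set w := j * (g * j * g⁻¹) with hw
  have hji : j⁻¹ = j := inv_eq_of_mul_eq_one_right hjj
  have hwO : w ∈ Cfsg.oddCore G := by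
    have := hz g
    rwa [hji, show j * g * j * g⁻¹ = w by rw [hw]; group] at this
  have hodd : Odd (orderOf w) := by
    rw [Nat.odd_iff]
    have h0 := Subgroup.orderOf_dvd_natCard _ hwO
    have := CfsgLib.Coprime.pPrimeCore_not_dvd (G := G) Nat.prime_two
    by_contra hcon
    exact this ((Nat.dvd_of_mod_eq_zero (by omega)).trans h0)
  obtain ⟨k, hk⟩ := hodd
  have hjw : j * w * j⁻¹ = w⁻¹ := by rw [hw, mul_inv_rev, hji]; group; simp [hjj, hji]
  have hjwk : j * (w ^ k)⁻¹ = w ^ k * j := by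
    have h := map_pow (MulAut.conj j).toMonoidHom w k
    simp only [MulEquiv.coe_toMonoidHom, MulAut.conj_apply, hjw, inv_pow] at h
    calc j * (w ^ k)⁻¹ = j * (j * w ^ k * j⁻¹) := by rw [h]
      _ = (j * j) * w ^ k * j⁻¹ := by group
      _ = w ^ k * j := by rw [hjj, hji, one_mul]
  have hgj : w ^ k * j * (w ^ k)⁻¹ = g * j * g⁻¹ := by
    have hwinv : w ^ (2 * k) = w⁻¹ := eq_inv_of_mul_eq_one_left (by rw [← pow_succ, ← hk, pow_orderOf_eq_one])
    rw [mul_assoc, hjwk, ← mul_assoc, ← pow_add, ← two_mul, hwinv, hw, mul_inv_rev, hji, mul_assoc, hjj, mul_one,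
      mul_inv_rev, mul_inv_rev, inv_inv, hji, mul_assoc]
  have hcen : (w ^ k)⁻¹ * g ∈ C := by
    refine hCof _ ?_
    calc (w ^ k)⁻¹ * g * j = (w ^ k)⁻¹ * (g * j * g⁻¹) * g := by group
      _ = (w ^ k)⁻¹ * (w ^ k * j * (w ^ k)⁻¹) * g := by rw [hgj]
      _ = j * ((w ^ k)⁻¹ * g) := by group
  rw [show g = w ^ k * ((w ^ k)⁻¹ * g) by group]
  exact Subgroup.mul_mem _ (Subgroup.mem_sup_right (Subgroup.pow_mem _ hwO k)) (Subgroup.mem_sup_left hcen)

end Cfsg.Agent.S3211
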