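import Cfsg.Statements.S3215
import Cfsg.Agent.Lib.Coprime.FpfAction
import Cfsg.Agent.Lib.Coprime.Solvable
import Cfsg.Agent.Lib.Coprime.PComponent
import Cfsg.Agent.Lib.Invol.Basic


set_option autoImplicit false
open Cfsg

namespace Cfsg.Agent.S3215

section

open CfsgLib.Coprime

variable {H : Type*} [Group H] [Finite H]

/-- In a 2-nilpotent centralizer of `t`, odd elements centralize the fixed points of `t` on a normal
2-subgroup. -/
theorem commute_of_complement {t x q : H} {Q : Subgroup H} [Q.Normal]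
    (hI : Cfsg.HasNormalPComplement 2 ↥(Subgroup.centralizer ({t} : Set H)))
    (hQ : IsPGroup 2 Q) (hx : Odd (orderOf x)) (hxt : Commute x t) (hq : q ∈ Q) (htq : Commute t q) :
    Commute x q := by
  haveI : Fact (Nat.Prime 2) := ⟨Nat.prime_two⟩
  set C := Subgroup.centralizer ({t} : Set H)
  obtain ⟨P, N, hNn, hNP⟩ := hI
  have hxC : x ∈ C := Subgroup.mem_centralizer_singleton_iff.2 hxt.eq
  have hqC : q ∈ C := Subgroup.mem_centralizer_singleton_iff.2 htq.symm.eq
  obtain ⟨n, hn⟩ := IsPGroup.iff_card.1 P.2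
  have hidx : N.index = 2 ^ n := by rw [hNP.symm.index_eq_card, hn]
  -- odd elements lie in `N`
  have hxN : (⟨x, hxC⟩ : C) ∈ N := by
    haveI := hNn
    rw [← QuotientGroup.eq_one_iff, ← orderOf_eq_one_iff]
    refine Nat.eq_one_of_dvd_coprimes ((Nat.coprime_two_right.2 hx).pow_right n)
      ((orderOf_map_dvd (QuotientGroup.mk' N) _).trans (by rw [Subgroup.orderOf_mk])) ?_
    rw [← hidx, Subgroup.index_eq_card]
    exact orderOf_dvd_natCard _
  have hcop : (Nat.card N).Coprime 2 := by
    rw [Nat.coprime_comm, Nat.prime_two.coprime_iff_not_dvd]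
    intro h2
    obtain ⟨⟨a, haN⟩, hao⟩ := exists_prime_orderOf_dvd_card' (G := N) 2 h2
    rw [Subgroup.orderOf_mk] at hao
    haveI := hNn
    have hp : IsPGroup 2 (Subgroup.zpowers a) :=
      IsPGroup.of_card (n := 1) (by rw [Nat.card_zpowers, hao, pow_one])
    obtain ⟨g, hg⟩ := CfsgLib.Invol.exists_conj_le_sylow hp P
    have h1 : g * a * g⁻¹ ∈ N ⊓ (P : Subgroup C) :=
      ⟨hNn.conj_mem a haN g, hg a (Subgroup.mem_zpowers a)⟩
    rw [disjoint_iff.1 hNP.disjoint, Subgroup.mem_bot, conj_eq_one_iff] at h1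
    rw [h1, orderOf_one] at hao
    norm_num at hao
  set c := (⟨x, hxC⟩ : C) * ⟨q, hqC⟩ * ⟨x, hxC⟩⁻¹ * ⟨q, hqC⟩⁻¹ with hc
  have hcN : c ∈ N := by
    rw [hc, mul_assoc, mul_assoc]
    refine N.mul_mem hxN ?_
    rw [← mul_assoc]
    exact hNn.conj_mem _ (N.inv_mem hxN) _
  have hcQ : c ∈ Q.subgroupOf C := by
    rw [Subgroup.mem_subgroupOf, hc]
    exact Q.mul_mem (Subgroup.Normal.conj_mem inferInstance q hq x) (Q.inv_mem hq)
  have h1 : c = 1 := by
    rw [← orderOf_eq_one_iff]
    obtain ⟨m, hm⟩ := IsPGroup.iff_card.1 (hQ.comap_subtype : IsPGroup 2 (Q.subgroupOf C))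
    exact Nat.eq_one_of_dvd_coprimes (hcop.pow_right m) (Subgroup.orderOf_dvd_natCard _ hcN)
      (hm ▸ Subgroup.orderOf_dvd_natCard _ hcQ)
  have h2 : x * q * x⁻¹ * q⁻¹ = 1 := congrArg Subtype.val h1
  exact mul_inv_eq_iff_eq_mul.1 (mul_inv_eq_one.1 h2)

theorem mulAut_comm_of_cyclic {G : Type*} [Group G] [Finite G] (F : Subgroup G) [IsCyclic F] :
    IsMulCommutative (MulAut F) :=
  ⟨⟨fun a b => (IsCyclic.mulAutMulEquiv F).injective (by rw [map_mul, map_mul, mul_comm])⟩⟩

theorem mulAut_cyclic_of_prime {G : Type*} [Group G] [Finite G] {p : ℕ} [hp : Fact p.Prime]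
    {P : Subgroup G} (hP : Nat.card P = p) : IsCyclic (MulAut P) := by
  haveI : IsCyclic P := isCyclic_of_prime_card hP
  haveI : IsCyclic (ZMod (Nat.card P))ˣ := hP ▸ inferInstance
  exact isCyclic_of_surjective (IsCyclic.mulAutMulEquiv P).symm.toMonoidHom (MulEquiv.surjective _)

theorem characteristic_of_cyclic {G : Type*} [Group G] [Finite G] [IsCyclic G] (K : Subgroup G) :
    K.Characteristic := by
  refine Subgroup.characteristic_iff_map_eq.2 fun e => ?_
  haveI : IsCyclic G := inferInstance
  classical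
  have hcard : Nat.card (K.map e.toMonoidHom) = Nat.card K :=
    Subgroup.card_map_of_injective e.injective
  haveI := Fintype.ofFinite G
  set n := Nat.card K with hn
  set S := Finset.univ.filter (fun x : G => x ^ n = 1) with hS
  have hSle : S.card ≤ n := IsCyclic.card_pow_eq_one_le Nat.card_pos
  have key : ∀ L : Subgroup G, Nat.card L = n → (L : Set G) = (S : Set G) := by
    intro L hL
    refine Set.eq_of_subset_of_ncard_le (fun x hx => ?_) ?_ (Set.toFinite _)
    · rw [hS, Finset.coe_filter]
      refine ⟨Finset.mem_univ x, ?_⟩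
      rw [← hL]
      exact congrArg Subtype.val (pow_card_eq_one' (x := (⟨x, hx⟩ : L)))
    · rw [Set.ncard_coe_finset, ← Nat.card_coe_set_eq]
      exact hSle.trans_eq hL.symm
  exact SetLike.coe_injective ((key _ hcard).trans (key K rfl).symm)

end

/-- Let H be a finite solvable group with no nontrivial normal subgroup of odd order in which the centralizer of every involution has a normal 2-complement. Let X be a Hall 2'-subgroup of H (odd order, index a power of 2) and Y = O₂(H). Then no non-identity element of X commutes with a non-identity element of Y (so for X ≠ 1 the group XY is a Frobenius group with kernel Y), every Sylow subgroup of X is cyclic, XY is normal in H, and H/XY is a cyclic 2-group. -/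
theorem result {H : Type*} [Group H] [Finite H] (hsol : Group.IsSolvable H)
    (hO : Cfsg.oddCore H = ⊥)
    (hI : ∀ t : H, orderOf t = 2 → Cfsg.HasNormalPComplement 2 ↥(Subgroup.centralizer ({t} : Set H)))
    (X : Subgroup H) (hXodd : Odd (Nat.card X)) (hXidx : ∃ k : ℕ, X.index = 2 ^ k) :
    (∀ x ∈ X, x ≠ 1 → ∀ y ∈ Cfsg.pCore 2 H, y ≠ 1 → x * y ≠ y * x) ∧
      (∀ (p : ℕ) [Fact p.Prime] (P : Sylow p ↥X), IsCyclic ↥(P : Subgroup ↥X)) ∧
      (X ⊔ Cfsg.pCore 2 H).Normal ∧
      ∀ hN : (X ⊔ Cfsg.pCore 2 H).Normal, IsCyclic (H ⧸ (X ⊔ Cfsg.pCore 2 H)) ∧ IsPGroup 2 (H ⧸ (X ⊔ Cfsg.pCore 2 H)) := by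
  open CfsgLib.Coprime in
  exact (by
    haveI : Fact (Nat.Prime 2) := ⟨Nat.prime_two⟩
    haveI := hsol
    set Q := Cfsg.pCore 2 H with hQdef
    haveI hQn : Q.Normal := pCore_normal' 2
    have hQ2 : IsPGroup 2 Q := pCore_isPGroup 2
    have hO' : Cfsg.pPrimeCore 2 H = ⊥ := hO
    have hCQ := centralizer_pCore_le hO'
    have hN : ∀ A : Subgroup H, A ≤ Subgroup.normalizer (Q : Set H) := fun A => by
      rw [Subgroup.normalizer_eq_top]; exact le_top
    have hinv : ∀ t : H, orderOf t = 2 → ∀ x : H, Odd (orderOf x) → Commute x t →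
        ∀ q ∈ Q, Commute t q → Commute x q := fun t ht x hx hxt q hq htq =>
      commute_of_complement (hI t ht) hQ2 hx hxt hq htq
    obtain ⟨k₀, hk₀⟩ := hXidx
    have hcopX : (Nat.card X).Coprime (Nat.card Q) := by
      obtain ⟨n, hn⟩ := IsPGroup.iff_card.1 hQ2
      rw [hn]
      exact (Nat.coprime_two_right.2 hXodd).pow_right n
    have hoddX : ∀ x ∈ X, Odd (orderOf x) := fun x hx =>
      hXodd.of_dvd_nat (Subgroup.orderOf_dvd_natCard _ hx)
    -- (a)
    have ha : ∀ x ∈ X, x ≠ 1 → ∀ y ∈ Q, y ≠ 1 → x * y ≠ y * x := by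
      intro x hx hx1 y hy hy1 hxy
      obtain ⟨m, hm⟩ := IsPGroup.iff_orderOf.1 hQ2 ⟨y, hy⟩
      rw [← Subgroup.orderOf_coe] at hm
      have hm0 : m ≠ 0 := by
        rintro rfl
        exact hy1 (orderOf_eq_one_iff.1 (by simpa using hm))
      set t := y ^ 2 ^ (m - 1) with htdef
      have ht : orderOf t = 2 := by
        rw [htdef, orderOf_pow_of_dvd (pow_ne_zero _ two_ne_zero)
          (by rw [hm]; exact pow_dvd_pow 2 (by omega)), hm, Nat.pow_div (by omega) two_pos,
          show m - (m - 1) = 1 by omega, pow_one]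
      have hxt : Commute x t := (show Commute x y from hxy).pow_right _
      have h := pq_lemma (P := Subgroup.zpowers t) (Q := Subgroup.zpowers x) (U := Q) (p := 2)
        (IsPGroup.of_card (n := 1) (by rw [Nat.card_zpowers, ht, pow_one]))
        (by rw [Nat.card_zpowers]; exact Nat.coprime_two_right.2 (hoddX x hx)) hQ2
        (by
          rw [Subgroup.zpowers_le, mem_centralizer_iff_conj_eq]
          intro a ha
          obtain ⟨i, rfl⟩ := Subgroup.mem_zpowers_iff.1 ha
          rw [(hxt.zpow_left i).eq, mul_inv_cancel_right])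
        (hN _) (hN _)
        (by
          intro q hq
          obtain ⟨hqQ, hqt⟩ := Subgroup.mem_inf.1 hq
          have hc := hinv t ht x (hoddX x hx) hxt q hqQ
            (Subgroup.mem_centralizer_iff.1 hqt t (Subgroup.mem_zpowers t))
          rw [mem_centralizer_iff_conj_eq]
          intro a ha
          obtain ⟨i, rfl⟩ := Subgroup.mem_zpowers_iff.1 ha
          rw [(hc.zpow_left i).eq, mul_inv_cancel_right])
      have hxQ : x ∈ Q := hCQ (h (Subgroup.mem_zpowers x))
      have : x ∈ X ⊓ Q := ⟨hx, hxQ⟩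
      rw [disjoint_of_coprime_card hcopX, Subgroup.mem_bot] at this
      exact hx1 this
    have hfpf : IsFpfOn X Q := by
      intro x hx hx1
      rw [Subgroup.eq_bot_iff_forall]
      intro y hy
      by_contra hy1
      exact ha x hx hx1 y hy.1 hy1 (Subgroup.mem_centralizer_singleton_iff.1 hy.2).symm
    have hQX : X ≠ ⊥ → Q ≠ ⊥ := by
      intro hX hQ
      rw [hQdef] at hQ
      rw [hQ] at hCQ
      obtain ⟨x, hx, hx1⟩ := (Subgroup.bot_or_exists_ne_one X).resolve_left hX
      refine hx1 (Subgroup.mem_bot.1 (hCQ (Subgroup.mem_centralizer_iff.2 fun y hy => ?_)))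
      rw [SetLike.mem_coe, Subgroup.mem_bot] at hy
      rw [hy, one_mul, mul_one]
    -- (b)
    have hb : ∀ (p : ℕ) [Fact p.Prime] (P : Sylow p ↥X), IsCyclic ↥(P : Subgroup ↥X) := by
      intro p hpf P
      rcases eq_or_ne X ⊥ with hX | hX
      · haveI : Subsingleton X := by rw [hX]; infer_instance
        exact isCyclic_of_subsingleton
      rcases hfpf.sylow_cyclic_or_quaternion (hN X) (hQX hX) P with h | ⟨rfl, n, ⟨e⟩⟩
      · exact h
      · exfalso
        have h4 : 2 ∣ Nat.card (P : Subgroup X) := by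
          rw [Nat.card_congr e.toEquiv, Nat.card_eq_fintype_card, QuaternionGroup.card]
          exact Dvd.dvd.mul_right (by norm_num : 2 ∣ 4) _
        exact hXodd.not_two_dvd_nat (h4.trans (Subgroup.card_subgroup_dvd_card _))
    set π := QuotientGroup.mk' Q with hπ
    set Xb := X.map π with hXb
    set M := X ⊔ Q with hMdef
    have hM : M = Xb.comap π := by rw [hXb, Subgroup.comap_map_eq, QuotientGroup.ker_mk']
    have hinjX : ∀ x ∈ X, π x = 1 → x = 1 := by
      intro x hx h
      have : x ∈ X ⊓ Q := ⟨hx, (QuotientGroup.eq_one_iff x).1 h⟩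
      rwa [disjoint_of_coprime_card hcopX, Subgroup.mem_bot] at this
    have hXbodd : Odd (Nat.card Xb) := hXodd.of_dvd_nat (Subgroup.card_map_dvd X π)
    have hXbidx : ∃ j : ℕ, Xb.index = 2 ^ j := by
      obtain ⟨j, -, hj⟩ := (Nat.dvd_prime_pow Nat.prime_two).1
        (hk₀ ▸ Subgroup.index_map_dvd X (QuotientGroup.mk'_surjective Q))
      exact ⟨j, hj⟩
    -- odd normal subgroups of the quotient lie in the image of `X`
    have hodd_le : ∀ N : Subgroup (H ⧸ Q), N.Normal → Odd (Nat.card N) → N ≤ Xb := by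
      intro N hNn hNodd
      have hd : Xb.relIndex (Xb ⊔ N) ∣ Nat.card N := relIndex_sup_dvd_card Xb N
      obtain ⟨j, hj⟩ := hXbidx
      have h1 : Xb.relIndex (Xb ⊔ N) = 1 :=
        Nat.eq_one_of_dvd_coprimes ((Nat.coprime_two_right.2 hNodd).pow_right j) hd
          (hj ▸ Dvd.intro _ (Subgroup.relIndex_mul_index (le_sup_left : Xb ≤ Xb ⊔ N)))
      exact le_sup_right.trans (Subgroup.relIndex_eq_one.1 h1)
    haveI : Group.IsSolvable (H ⧸ Q) :=
      Group.isSolvable_of_surjective (QuotientGroup.mk'_surjective Q)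
    set F := Cfsg.fittingSubgroup (H ⧸ Q) with hF
    haveI hFn : F.Normal := Subgroup.sSup_normal _ fun _ h => h.1
    have hFC := centralizer_fitting_le (G := H ⧸ Q)
    haveI hFnil : Group.IsNilpotent F := fitting_isNilpotent
    have hFodd : Odd (Nat.card F) := by
      rw [← Nat.not_even_iff_odd, even_iff_two_dvd]
      intro h2
      obtain ⟨P, hP⟩ := (IsPGroup.of_bot (G := F) (p := 2)).exists_le_sylow
      haveI : (P : Subgroup F).Characteristic :=
        P.characteristic_of_normal (P.normal_of_normalizerCondition Group.normalizerCondition_of_isNilpotent)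
      have hPn : ((P : Subgroup F).map F.subtype).Normal := map_subtype_normal_of_characteristic F _
      have hle := le_pCore (p := 2) (N := (P : Subgroup F).map F.subtype) (P.2.map _)
      rw [pCore_quotient_eq_bot, le_bot_iff, Subgroup.map_eq_bot_iff_of_injective _ F.subtype_injective]
        at hle
      have h := P.card_eq_multiplicity
      rw [hle, Subgroup.card_bot] at h
      have := (Nat.prime_two.factorization_pos_of_dvd Nat.card_pos.ne' h2)
      exact absurd h.symm (Nat.one_lt_pow (by omega) one_lt_two).ne'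
    have hFX : F ≤ Xb := hodd_le F hFn hFodd
    have hZb : IsZGroup Xb := by
      have hinj : Function.Injective (π.subgroupMap X) := by
        rw [injective_iff_map_eq_one]
        intro x hx
        exact Subtype.ext (hinjX x x.2 (congrArg Subtype.val hx))
      haveI : IsZGroup X := ⟨fun p hp P => by haveI := Fact.mk hp; exact hb p P⟩
      exact IsZGroup.of_injective (f := (MulEquiv.ofBijective (π.subgroupMap X)
        ⟨hinj, π.subgroupMap_surjective X⟩).symm.toMonoidHom) (MulEquiv.injective _)
    haveI hFcyc : IsCyclic F := by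
      haveI := hZb
      haveI : IsZGroup F := IsZGroup.of_injective (f := Subgroup.inclusion hFX)
        (Subgroup.inclusion_injective _)
      infer_instance
    -- the quotient modulo the image of `X` is abelian
    have hcomm : commutator (H ⧸ Q) ≤ Xb := by
      refine le_trans ?_ hFX
      refine le_trans ?_ hFC
      have hker : commutator (H ⧸ Q) ≤ (MulAut.conjNormal (H := F)).ker := by
        rw [commutator, Subgroup.commutator_le]
        intro a _ b _
        rw [MonoidHom.mem_ker, map_commutatorElement]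
        haveI : IsMulCommutative (MulAut F) := mulAut_comm_of_cyclic F
        exact commutatorElement_eq_one_iff_commute.2 (mul_comm' _ _)
      refine hker.trans fun g hg => ?_
      rw [Subgroup.mem_centralizer_iff]
      intro f hf
      have h : g * f * g⁻¹ = f :=
        congrArg Subtype.val (DFunLike.congr_fun (MonoidHom.mem_ker.1 hg) (⟨f, hf⟩ : F))
      exact (mul_inv_eq_iff_eq_mul.1 h).symm
    have hXbn : Xb.Normal := ⟨fun a ha g => by
      have h := mul_mem (hcomm (Subgroup.commutator_mem_commutator (Subgroup.mem_top g) (Subgroup.mem_top a))) ha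
      rwa [commutatorElement_def, inv_mul_cancel_right] at h⟩
    have hMn : M.Normal := by
      rw [hM]
      exact hXbn.comap π
    refine ⟨ha, hb, hMn, fun hN' => ?_⟩
    have hMidx : ∃ j : ℕ, M.index = 2 ^ j := by
      obtain ⟨j, -, hj⟩ := (Nat.dvd_prime_pow Nat.prime_two).1
        (hk₀ ▸ Subgroup.index_dvd_of_le (le_sup_left : X ≤ M))
      exact ⟨j, hj⟩
    obtain ⟨j, hj⟩ := hMidx
    refine ⟨?_, IsPGroup.of_card (n := j) (by rw [← Subgroup.index_eq_card]; exact hj)⟩
    rcases eq_or_ne X ⊥ with hX | hX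
    · have hall : IsPGroup 2 H := IsPGroup.of_card (n := k₀) (by
        rw [← Subgroup.index_bot (G := H), ← hX]; exact hk₀)
      have htop : (⊤ : Subgroup H) ≤ Q := le_pCore (IsPGroup.to_subgroup hall ⊤)
      have : Subsingleton (H ⧸ M) :=
        QuotientGroup.subsingleton_iff.2 (top_unique (htop.trans le_sup_right))
      exact isCyclic_of_subsingleton
    -- a subgroup of prime order in `F`
    have hFne : F ≠ ⊥ := by
      intro hF0
      rw [← hF, hF0] at hFC
      obtain ⟨x, hx, hx1⟩ := (Subgroup.bot_or_exists_ne_one X).resolve_left hX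
      refine hx1 (hinjX x hx (Subgroup.mem_bot.1 (hFC (Subgroup.mem_centralizer_iff.2 fun y hy => ?_))))
      rw [SetLike.mem_coe, Subgroup.mem_bot] at hy
      rw [hy, one_mul, mul_one]
    haveI : Nontrivial F := (Subgroup.nontrivial_iff_ne_bot F).2 hFne
    obtain ⟨p, hp, hpd⟩ := Nat.exists_prime_and_dvd (Finite.one_lt_card (α := F)).ne'
    haveI : Fact p.Prime := ⟨hp⟩
    obtain ⟨⟨f, hfF⟩, hfo⟩ := exists_prime_orderOf_dvd_card' (G := F) p hpd
    rw [Subgroup.orderOf_mk] at hfo
    set P₀ := Subgroup.zpowers f with hP₀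
    have hP₀F : P₀ ≤ F := Subgroup.zpowers_le.2 hfF
    haveI hP₀n : P₀.Normal := by
      haveI : (P₀.subgroupOf F).Characteristic := characteristic_of_cyclic _
      have := map_subtype_normal_of_characteristic F (P₀.subgroupOf F)
      rwa [Subgroup.map_subgroupOf_eq_of_le hP₀F] at this
    set φ := MulAut.conjNormal (H := P₀) with hφ
    have hkerodd : Odd (Nat.card φ.ker) := by
      rw [← Nat.not_even_iff_odd, even_iff_two_dvd]
      intro h2
      obtain ⟨⟨u, huk⟩, huo⟩ := exists_prime_orderOf_dvd_card' (G := φ.ker) 2 h2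
      rw [Subgroup.orderOf_mk] at huo
      have huf : u * f * u⁻¹ = f :=
        congrArg Subtype.val (DFunLike.congr_fun (MonoidHom.mem_ker.1 huk) (⟨f, Subgroup.mem_zpowers f⟩ : P₀))
      obtain ⟨x, hx, rfl⟩ := hFX hfF
      obtain ⟨w, rfl⟩ := QuotientGroup.mk'_surjective Q u
      have hx1 : x ≠ 1 := fun e => by
        rw [e, map_one, orderOf_one] at hfo
        exact hp.one_lt.ne hfo
      have hzX : Subgroup.zpowers x ≤ X := Subgroup.zpowers_le.2 hx
      obtain ⟨n, hn, hwn⟩ := exists_fixed_in_coset (hN (Subgroup.zpowers x))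
        (hcopX.coprime_dvd_left (Subgroup.card_dvd_of_le hzX))
        (Or.inl (isSolvable_of_isMulCommutative inferInstance))
        (show w ∈ Subgroup.normalizer (Q : Set H) from hN ⊤ (Subgroup.mem_top w)) (fun a ha => by
          obtain ⟨i, rfl⟩ := Subgroup.mem_zpowers_iff.1 ha
          rw [← QuotientGroup.eq_one_iff]
          show π (x ^ i * w * (x ^ i)⁻¹ * w⁻¹) = 1
          have hc : Commute (π w) (π x) := mul_inv_eq_iff_eq_mul.1 huf
          rw [map_mul, map_mul, map_mul, map_inv, map_inv, map_zpow, (hc.symm.zpow_left i).eq]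
          group)
      have hvx : Commute x (w * n) :=
        Subgroup.mem_centralizer_iff.1 hwn x (Subgroup.mem_zpowers x)
      set v := w * n with hv
      have hπv : π v = π w := by
        rw [hv, map_mul, show π n = 1 from (QuotientGroup.eq_one_iff n).2 hn, mul_one]
      have hv2 : v ^ 2 = 1 := by
        by_contra h
        refine ha x hx hx1 (v ^ 2) ((QuotientGroup.eq_one_iff _).1 ?_) h (hvx.pow_right 2).eq
        show π (v ^ 2) = 1
        rw [map_pow, hπv, ← huo]
        exact pow_orderOf_eq_one _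
      have hv1 : v ≠ 1 := fun e => by
        rw [← hπv, e, map_one, orderOf_one] at huo
        norm_num at huo
      have hvo : orderOf v = 2 := orderOf_eq_prime hv2 hv1
      have hfv : IsFpfOn (Subgroup.zpowers v) Q := by
        intro a haz ha1
        rw [Subgroup.eq_bot_iff_forall]
        intro q hq
        by_contra hq1
        obtain ⟨i, rfl⟩ := Subgroup.mem_zpowers_iff.1 haz
        have hvi : v ^ i = v := by
          rcases Int.emod_two_eq i with e | e
          · exact absurd (by rw [← zpow_mod_orderOf, hvo, Nat.cast_ofNat, e, zpow_zero]) ha1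
          · rw [← zpow_mod_orderOf, hvo, Nat.cast_ofNat, e, zpow_one]
        obtain ⟨hqQ, hqv⟩ := Subgroup.mem_inf.1 hq
        rw [hvi, Subgroup.mem_centralizer_singleton_iff] at hqv
        exact ha x hx hx1 q hqQ hq1 (hinv v hvo x (hoddX x hx) hvx q hqQ hqv.symm).eq
      have hc := hfv.coprime (hN _)
      rw [Nat.card_zpowers, hvo] at hc
      obtain ⟨m, hm⟩ := IsPGroup.iff_card.1 hQ2
      rcases m with _ | m
      · exact hQX hX (Subgroup.card_eq_one.1 (by simpa using hm))
      · rw [hm, Nat.coprime_two_left] at hc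
        exact hc.not_two_dvd_nat (dvd_pow_self 2 (Nat.succ_ne_zero m))
    have hkerle : φ.ker ≤ Xb := hodd_le φ.ker inferInstance hkerodd
    haveI : IsCyclic (MulAut P₀) := mulAut_cyclic_of_prime (by rw [Nat.card_zpowers, hfo])
    haveI : IsCyclic ((H ⧸ Q) ⧸ φ.ker) :=
      isCyclic_of_injective (QuotientGroup.kerLift φ) (QuotientGroup.kerLift_injective φ)
    haveI : IsCyclic ((H ⧸ Q) ⧸ Xb) :=
      isCyclic_of_surjective (QuotientGroup.map φ.ker Xb (MonoidHom.id _) hkerle) (by
        intro z
        obtain ⟨g, rfl⟩ := QuotientGroup.mk'_surjective _ z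
        exact ⟨QuotientGroup.mk' _ g, rfl⟩)
    have e : M = ((QuotientGroup.mk' Xb).comp π).ker := by
      rw [← MonoidHom.comap_ker, QuotientGroup.ker_mk', hM]
    exact isCyclic_of_injective
      ((QuotientGroup.kerLift ((QuotientGroup.mk' Xb).comp π)).comp
        (QuotientGroup.quotientMulEquivOfEq e).toMonoidHom)
      ((QuotientGroup.kerLift_injective _).comp (MulEquiv.injective _)))

end Cfsg.Agent.S3215
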