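import Cfsg.Statements.S3222
import Cfsg.Agent.Lib.Invol.ZStar
import Cfsg.Agent.Lib.Invol.TransferOrder
import Cfsg.Agent.Lib.Invol.FourCentralizer
import Cfsg.Agent.Lib.Char.Burnside
import Cfsg.Agent.Lib.Char.DihedralEight
import Cfsg.Agent.Lib.Coprime.Core
import Cfsg.Agent.Lib.Perm.Groups.AltAut
import Cfsg.Agent.Lib.Fusion.Transfer
import Cfsg.Agent.Lib.Fusion.Sylow
import Cfsg.Agent.S3261
import Cfsg.Agent.S0497

set_option autoImplicit false
set_option maxRecDepth 20000
set_option synthInstance.maxSize 4000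
set_option synthInstance.maxHeartbeats 200000
open Cfsg

namespace Cfsg.Agent.S3222

open Subgroup
open scoped commutatorElement

/-- The model of the centraliser. -/
abbrev M : Type := Multiplicative (ZMod 2) × Equiv.Perm (Fin 4)

/-- The central involution. -/
def tM : M := (Multiplicative.ofAdd 1, 1)

/-- The involution generating the derived group of a Sylow 2-subgroup. -/
def zM : M := (1, Equiv.swap 0 2 * Equiv.swap 1 3)

/-- An element of order four commuting with `zM`. -/
def rM : M := (1, Equiv.swap 0 3 * Equiv.swap 0 2 * Equiv.swap 0 1)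

/-- A transposition commuting with `zM`. -/
def sM : M := (1, Equiv.swap 0 2)

/-- Membership in the Sylow 2-subgroup. -/
abbrev inT (p : M) : Prop := p * zM = zM * p

/-- Membership in the normal elementary abelian subgroup of order eight. -/
abbrev inE (p : M) : Prop := p.2 * p.2 = 1 ∧ Equiv.Perm.sign p.2 = 1

theorem card_M : Nat.card M = 48 := by
  rw [Nat.card_prod, Nat.card_perm, Nat.card_fin, Nat.card_congr Multiplicative.toAdd, Nat.card_zmod]
  rfl

theorem card_T : Nat.card {p : M // inT p} = 16 := by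
  rw [Nat.card_eq_fintype_card]; decide +kernel

theorem card_T_one : Nat.card {p : M // inT p ∧ p.1 = 1} = 8 := by
  rw [Nat.card_eq_fintype_card]; decide +kernel

theorem T_pow : ∀ p : M, inT p → p ^ 4 = 1 := by decide +kernel

theorem tM_central : ∀ p : M, p * tM = tM * p := by decide +kernel

theorem center_cases : ∀ p : M, (∀ q : M, q * p = p * q) → p = 1 ∨ p = tM := by decide +kernel

theorem tM_facts : tM ≠ 1 ∧ tM * tM = 1 ∧ zM ≠ 1 ∧ zM * zM = 1 ∧ tM * zM ≠ 1 ∧
    tM * zM * (tM * zM) = 1 ∧ inT tM ∧ inT zM ∧ inT (tM * zM) := by decide +kernel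

theorem distinct : tM ≠ zM ∧ tM * zM ≠ tM ∧ tM * zM ≠ zM ∧ tM.1 ≠ 1 ∧ (tM * zM).1 ≠ 1 := by decide +kernel

theorem gen_inT : inT rM ∧ inT sM ∧ ⁅rM, sM⁆ = zM := by decide +kernel

theorem comm_T : ∀ p q : M, inT p → inT q → ⁅p, q⁆ = 1 ∨ ⁅p, q⁆ = zM := by decide +kernel

theorem centerT_cases : ∀ p : M, inT p → (∀ q, inT q → q * p = p * q) →
    p = 1 ∨ p = tM ∨ p = zM ∨ p = tM * zM := by decide +kernel

theorem centerT_comm : ∀ q : M, inT q → q * tM = tM * q ∧ q * zM = zM * q ∧ q * (tM * zM) = tM * zM * q := by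
  decide +kernel

theorem normal_inE : ∀ p : M, (∀ q : M, inT (q * p * q⁻¹)) → inE p := by decide +kernel

theorem inE_inT : ∀ p : M, inE p → inT p := by decide +kernel

theorem inE_cases : ∀ p : M, inE p → p ≠ 1 → p = tM ∨
    (∃ q : M, q * p * q⁻¹ = zM) ∨ ∃ q : M, q * p * q⁻¹ = tM * zM := by decide +kernel

theorem tz_product : ∃ q r : M, r * (tM * zM * (q * (tM * zM) * q⁻¹)) * r⁻¹ = zM := by decide +kernel

theorem z_product : ∃ q r : M, q * zM * q⁻¹ * (r * zM * r⁻¹) = zM := by decide +kernel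

theorem invol_cases : ∀ p : M, p * p = 1 → p ≠ 1 → p = tM ∨ (∃ q : M, q * p * q⁻¹ = zM) ∨
    (∃ q : M, q * p * q⁻¹ = tM * zM) ∨ ∃ q : M, q * p * q⁻¹ = (p.1, Equiv.swap 0 2) := by decide +kernel

theorem graph_sigma : ∀ p : M, inT p → Equiv.Perm.sign p.2 = -1 →
    ∃ q r : M, p * (q * p * q⁻¹) * (r * p * r⁻¹) = (p.1, Equiv.swap 0 2) := by decide +kernel

theorem even_inT : ∀ p : M, inT p → Equiv.Perm.sign p.2 = 1 → inE p := by decide +kernel

/-- The sign-twisted dihedral parametrisation. -/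
def par (a : Multiplicative (ZMod 2)) : DihedralGroup 4 → M
  | .r i => (if Equiv.Perm.sign (rM.2 ^ i.val) = 1 then 1 else a, rM.2 ^ i.val)
  | .sr i => (if Equiv.Perm.sign (sM.2 * rM.2 ^ i.val) = 1 then 1 else a, sM.2 * rM.2 ^ i.val)

theorem par_mul : ∀ a p q, par a (p * q) = par a p * par a q := by decide +kernel

theorem par_inj : ∀ a p q, par a p = par a q → p = q := by decide +kernel

theorem par_inT : ∀ a d, inT (par a d) := by decide +kernel

theorem par_comm : ∀ a, ⁅par a (.r 1), par a (.sr 0)⁆ = zM := by decide +kernel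

theorem par_form : ∀ a d, inE (par a d) ∧ (par a d).1 = 1 ∨
    ∃ v : M, inE v ∧ v.1 = 1 ∧ par a d = (a, Equiv.swap 0 2) * v := by decide +kernel

theorem par_surj : ∀ p : M, inT p → ∀ a, ∃ d, (par a d).2 = p.2 := by decide +kernel

theorem inE_one_cases : ∀ p : M, inE p → p.1 = 1 → p = 1 ∨ ∃ q : M, q * zM * q⁻¹ = p := by decide +kernel

theorem inE_first : ∀ p : M, inE p → p ≠ tM → (¬ ∃ q : M, q * p * q⁻¹ = tM * zM) → p.1 = 1 := by decide +kernel

theorem inE_sq : ∀ p : M, inE p → p * p = 1 := by decide +kernel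

theorem card_V : Nat.card {p : M // inE p ∧ p.1 = 1} = 4 := by
  rw [Nat.card_eq_fintype_card]; decide +kernel

theorem three_product : ∀ a : Multiplicative (ZMod 2), ∃ q : M,
    (a, Equiv.swap 0 2) * (q * (a, Equiv.swap 0 2) * q⁻¹) =
      ((1, Equiv.swap 0 2 * Equiv.swap 0 1) : M) := by decide +kernel

theorem three_elt : ((1, Equiv.swap 0 2 * Equiv.swap 0 1) : M) ^ 3 = 1 ∧
    ((1, Equiv.swap 0 2 * Equiv.swap 0 1) : M) ≠ 1 := by decide +kernel

theorem transp_noncomm : ∀ b : Multiplicative (ZMod 2),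
    ((b, Equiv.swap 0 2) : M) * (b, Equiv.swap 0 1) ≠ (b, Equiv.swap 0 1) * (b, Equiv.swap 0 2) := by
  decide +kernel

theorem transp_conj : ∀ b : Multiplicative (ZMod 2), ∀ p : Equiv.Perm (Fin 4), p.support.card = 2 →
    ∃ q : M, q * (b, Equiv.swap 0 2) * q⁻¹ = (b, p) := by decide +kernel

theorem card_seven : ∀ b : Multiplicative (ZMod 2),
    Fintype.card {p : M // p = tM ∨ (p.1 = b ∧ p.2.support.card = 2)} = 7 := by decide +kernel

theorem support_swap01 : (Equiv.swap (0 : Fin 4) 1).support.card = 2 := by decide +kernel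

theorem zmod_two_ne : ∀ a : Multiplicative (ZMod 2), a ≠ 1 → ((a, 1) : M) = tM := by decide +kernel

theorem isSolvable_M : Group.IsSolvable M :=
  CfsgLib.Char.isSolvable_of_card_two_primes Nat.prime_two Nat.prime_three M 4 1 (by rw [card_M]; rfl)

/-! ## Six points -/

/-- An element of order three on six points is a three-cycle or a product of two. -/
theorem six_order_three {p : Equiv.Perm (Fin 6)} (hp : orderOf p = 3) (h : ¬ p.IsThreeCycle) :
    p.cycleType = {3, 3} := by
  obtain ⟨n, hn⟩ := Equiv.Perm.cycleType_prime_order (σ := p) (by rw [hp]; exact Nat.prime_three)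
  have hle := p.support.card_le_univ
  rw [← p.sum_cycleType, hn, hp, Multiset.sum_replicate, smul_eq_mul, Fintype.card_fin] at hle
  rw [hn, hp]
  rcases n with - | - | n
  · exact absurd (show p.cycleType = {3} by rw [hn, hp]; rfl) h
  · rfl
  · omega

/-- An automorphism of the alternating group on six points fixing an element of order three
is conjugation by a permutation. -/
theorem alt_six_aut (φ : ↥(alternatingGroup (Fin 6)) ≃* ↥(alternatingGroup (Fin 6)))
    (y : ↥(alternatingGroup (Fin 6))) (hy : orderOf y = 3) (hfix : φ y = y) :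
    ∃ σ : Equiv.Perm (Fin 6), ∀ g, (φ g : Equiv.Perm (Fin 6)) = σ * g * σ⁻¹ := by
  classical
  refine CfsgLib.Perm.Groups.AltAut.exists_conj_of_three_cycles (by rw [Fintype.card_fin]; norm_num) φ fun c hc => ?_
  have hord3 : ∀ w : ↥(alternatingGroup (Fin 6)), orderOf w = 3 → orderOf (w : Equiv.Perm (Fin 6)) = 3 :=
    fun w hw => by rw [Subgroup.orderOf_coe, hw]
  have hconjT : ∀ {u v : ↥(alternatingGroup (Fin 6))}, IsConj u v →
      (u : Equiv.Perm (Fin 6)).cycleType = (v : Equiv.Perm (Fin 6)).cycleType := fun {u v} h =>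
    Equiv.Perm.isConj_iff_cycleType_eq.1 ((alternatingGroup (Fin 6)).subtype.map_isConj h)
  by_cases hy3 : (y : Equiv.Perm (Fin 6)).IsThreeCycle
  · have h1 := hconjT (φ.toMonoidHom.map_isConj
      (alternatingGroup.isThreeCycle_isConj (by rw [Nat.card_fin]; norm_num) hy3 hc))
    rw [MulEquiv.coe_toMonoidHom, hfix] at h1
    exact h1.symm.trans hy3
  · by_contra hφc
    have hc3 : orderOf c = 3 := by rw [← Subgroup.orderOf_coe]; exact hc.orderOf
    have hy' := six_order_three (hord3 y hy) hy3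
    have hc' := six_order_three (hord3 (φ c) (by rw [MulEquiv.orderOf_eq, hc3])) hφc
    obtain ⟨σ, hσ⟩ := isConj_iff.1 (Equiv.Perm.isConj_iff_cycleType_eq.2 (hy'.trans hc'.symm))
    -- an odd permutation commutes with `y`
    obtain ⟨τ, hτs, hτ⟩ : ∃ τ : Equiv.Perm (Fin 6), Equiv.Perm.sign τ = -1 ∧
        τ * (y : Equiv.Perm (Fin 6)) = (y : Equiv.Perm (Fin 6)) * τ := by
      let y₀ : Equiv.Perm (Fin 6) := Equiv.swap 0 1 * Equiv.swap 1 2 * (Equiv.swap 3 4 * Equiv.swap 4 5)
      let τ₀ : Equiv.Perm (Fin 6) := Equiv.swap 0 3 * Equiv.swap 1 4 * Equiv.swap 2 5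
      have hy₀ : y₀.cycleType = {3, 3} := six_order_three
        (orderOf_eq_prime (by decide +kernel) (by decide +kernel))
        (fun h => absurd h.card_support (by decide +kernel))
      obtain ⟨ρ, hρ⟩ := isConj_iff.1 (Equiv.Perm.isConj_iff_cycleType_eq.2 (hy₀.trans hy'.symm))
      refine ⟨ρ * τ₀ * ρ⁻¹, ?_, ?_⟩
      · rw [map_mul, map_mul, map_inv, mul_comm _ (Equiv.Perm.sign τ₀), mul_inv_cancel_right]
        decide +kernel
      · rw [← hρ]
        calc ρ * τ₀ * ρ⁻¹ * (ρ * y₀ * ρ⁻¹) = ρ * (τ₀ * y₀) * ρ⁻¹ := by group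
          _ = ρ * (y₀ * τ₀) * ρ⁻¹ := by rw [show τ₀ * y₀ = y₀ * τ₀ by decide +kernel]
          _ = _ := by group
    obtain ⟨m, hm⟩ : ∃ m : ↥(alternatingGroup (Fin 6)), m * y * m⁻¹ = φ c := by
      rcases Int.units_eq_one_or (Equiv.Perm.sign σ) with h | h
      · exact ⟨⟨σ, Equiv.Perm.mem_alternatingGroup.2 h⟩, Subtype.ext hσ⟩
      · refine ⟨⟨σ * τ, Equiv.Perm.mem_alternatingGroup.2 (by rw [map_mul, h, hτs]; rfl)⟩, Subtype.ext ?_⟩
        show σ * τ * (y : Equiv.Perm (Fin 6)) * (σ * τ)⁻¹ = _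
        rw [show σ * τ * (y : Equiv.Perm (Fin 6)) * (σ * τ)⁻¹ = σ * (τ * y) * τ⁻¹ * σ⁻¹ by group, hτ,
          ← hσ]
        group
    have h1 : IsConj y c := by
      refine isConj_iff.2 ⟨φ.symm m, φ.injective ?_⟩
      rw [map_mul, map_mul, map_inv, φ.apply_symm_apply, hfix, hm]
    exact hy3 ((hconjT h1).trans hc)

/-- Let G be a finite group of even order such that (1) some involution t lying in the centre of a Sylow 2-subgroup of G has C_G(t) ≅ Z₂ × S₄, and (2) every Sylow 2-subgroup S of G satisfies C_G(S′) = S, where S′ is the derived subgroup of S. Then G = C_G(t) if G is solvable, and G ≅ S₆ otherwise. -/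
theorem result {G : Type*} [Group G] [Finite G] (hev : Even (Nat.card G))
    (t : G) (ht : orderOf t = 2) (T : Sylow 2 G) (htT : t ∈ (T : Subgroup G)) (htc : ∀ s ∈ (T : Subgroup G), s * t = t * s)
    (e : ↥(Subgroup.centralizer ({t} : Set G)) ≃* (Multiplicative (ZMod 2) × Equiv.Perm (Fin 4)))
    (h2 : ∀ S : Sylow 2 G, Subgroup.centralizer ((⁅(S : Subgroup G), (S : Subgroup G)⁆ : Subgroup G) : Set G) = (S : Subgroup G)) :
    (Group.IsSolvable G → Subgroup.centralizer ({t} : Set G) = ⊤) ∧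
      (¬ Group.IsSolvable G → Nonempty (G ≃* Equiv.Perm (Fin 6))) := by
  classical
  haveI : Fact (Nat.Prime 2) := ⟨Nat.prime_two⟩
  haveI := isSolvable_M
  set C := Subgroup.centralizer ({t} : Set G) with hC
  set el : M →* G := C.subtype.comp e.symm.toMonoidHom with hel
  have hinj : Function.Injective el := (Subgroup.subtype_injective _).comp e.symm.injective
  have helC : ∀ p, el p ∈ C := fun p => (e.symm p).2
  have hsurj : ∀ g ∈ C, ∃ p, el p = g := fun g hg => ⟨e ⟨g, hg⟩, by simp [hel]⟩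
  have htC : t ∈ C := mem_centralizer_singleton_iff.2 rfl
  have helt : el tM = t := by
    obtain ⟨p, hp⟩ := hsurj t htC
    rcases center_cases p (fun q => hinj (by
      rw [map_mul, map_mul, hp]; exact mem_centralizer_singleton_iff.1 (helC q))) with h | h
    · rw [h, map_one] at hp
      exact absurd hp.symm (CfsgLib.Invol.invol_ne_one ht)
    · rw [← h, hp]
  obtain ⟨hn1, hn2, hn3, hn4, hn6, hn9, htT0, hzT0, htzT0⟩ := tM_facts
  obtain ⟨hn5, hn7, hn8, hn10, hn11⟩ := distinct
  obtain ⟨hrT, hsT, hrs⟩ := gen_inT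
  set z := el zM with hz
  have hcardC : Nat.card ↥C = 48 := by rw [Nat.card_congr e.toEquiv, card_M]
  -- the Sylow 2-subgroup
  set T0 : Subgroup M := Subgroup.centralizer ({zM} : Set M) with hT0
  have hT0' : ∀ p, p ∈ T0 ↔ inT p := fun p => mem_centralizer_singleton_iff
  have hcardT0 : Nat.card ↥T0 = 16 := by
    rw [← card_T]; exact Nat.card_congr (Equiv.subtypeEquivRight hT0')
  set T1 : Subgroup G := T0.map el with hT1
  have hcardT1 : Nat.card ↥T1 = 16 := by rw [hT1, card_map_of_injective hinj, hcardT0]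
  have hT1p : IsPGroup 2 ↥T1 := IsPGroup.of_card (n := 4) (by rw [hcardT1]; norm_num)
  obtain ⟨T', hT'⟩ : ∃ S : Sylow 2 G, (S : Subgroup G) = T1 := by
    obtain ⟨S, hS⟩ := hT1p.exists_le_sylow
    refine ⟨S, (Subgroup.eq_of_le_of_card_ge hS ?_).symm⟩
    have hTC : (T : Subgroup G) ≤ C := fun s hs => mem_centralizer_singleton_iff.2 (htc s hs)
    have h1 := Subgroup.card_dvd_of_le hTC
    rw [hcardC] at h1
    obtain ⟨k, hk⟩ := T.isPGroup'.exists_card_eq
    have hST : Nat.card ↥(S : Subgroup G) = Nat.card ↥(T : Subgroup G) := by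
      rw [S.card_eq_multiplicity, T.card_eq_multiplicity]
    rw [hcardT1, hST, hk]
    rw [hk] at h1
    have : k ≤ 4 := by
      by_contra hk5
      have : 2 ^ 5 ∣ 48 := (pow_dvd_pow 2 (by omega)).trans h1
      norm_num at this
    calc 2 ^ k ≤ 2 ^ 4 := Nat.pow_le_pow_right (by norm_num) this
      _ = 16 := by norm_num
  have hT1mem : ∀ g ∈ T1, ∃ p, inT p ∧ el p = g := fun g hg => by
    obtain ⟨p, hp, hpg⟩ := Subgroup.mem_map.1 hg
    exact ⟨p, (hT0' p).1 hp, hpg⟩
  have helT1 : ∀ p, inT p → el p ∈ T1 := fun p hp => Subgroup.mem_map_of_mem _ ((hT0' p).2 hp)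
  have hCz : Subgroup.centralizer ({z} : Set G) = T1 := by
    refine le_antisymm (fun g hg => ?_) (fun g hg => ?_)
    · rw [← hT', ← h2 T', hT', mem_centralizer_iff]
      intro w hw
      have hle : ⁅T1, T1⁆ ≤ Subgroup.zpowers z := by
        rw [hT1, ← Subgroup.map_commutator, Subgroup.map_le_iff_le_comap, Subgroup.commutator_le]
        intro p hp q hq
        rw [Subgroup.mem_comap]
        rcases comm_T p q ((hT0' p).1 hp) ((hT0' q).1 hq) with h | h <;> rw [h]
        · rw [map_one]; exact one_mem _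
        · exact mem_zpowers z
      obtain ⟨k, hk⟩ := Subgroup.mem_zpowers_iff.1 (hle hw)
      rw [← hk]
      exact ((show Commute g z from mem_centralizer_singleton_iff.1 hg).zpow_right k).symm
    · obtain ⟨p, hp, rfl⟩ := hT1mem g hg
      rw [mem_centralizer_singleton_iff, hz, ← map_mul, ← map_mul, hp]
  have hz2 : orderOf z = 2 := orderOf_eq_prime
    (by rw [pow_two, hz, ← map_mul, hn4, map_one])
    (fun h => hn3 (hinj (h.trans (map_one el).symm)))
  -- the three central involutions are pairwise non-conjugate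
  have hNT : ∀ n ∈ Subgroup.normalizer (T1 : Set G), n ∈ T1 := fun n hn => by
    rw [← hCz, mem_centralizer_singleton_iff]
    have hn' := Subgroup.mem_normalizer_iff.1 hn
    obtain ⟨p, hp, hpe⟩ := hT1mem _ ((hn' (el rM)).1 (helT1 _ hrT))
    obtain ⟨q, hq, hqe⟩ := hT1mem _ ((hn' (el sM)).1 (helT1 _ hsT))
    have hpq : el ⁅p, q⁆ = n * z * n⁻¹ := by
      rw [map_commutatorElement, hpe, hqe, hz, ← hrs, map_commutatorElement,
        commutatorElement_def, commutatorElement_def]
      group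
    rcases comm_T p q hp hq with h | h
    · rw [h, map_one] at hpq
      exact absurd (conj_eq_one_iff.1 hpq.symm) (CfsgLib.Invol.invol_ne_one hz2)
    · rw [h] at hpq
      exact mul_inv_eq_iff_eq_mul.1 hpq.symm
  have hburn : ∀ p q : M, (∀ r, inT r → r * p = p * r) → (∀ r, inT r → r * q = q * r) →
      ∀ g : G, g * el p * g⁻¹ = el q → p = q := by
    intro p q hp hq g hg
    have hle : ∀ r : M, (∀ u, inT u → u * r = r * u) → (T' : Subgroup G) ≤ Subgroup.centralizer {el r} := by
      intro r hr u hu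
      rw [hT'] at hu
      obtain ⟨v, hv, rfl⟩ := hT1mem u hu
      rw [mem_centralizer_singleton_iff, ← map_mul, ← map_mul, hr v hv]
    obtain ⟨n, hn, hne⟩ := CfsgLib.Fusion.exists_normalizer_conj_eq_of_central T' (hle p hp) g
      (by rw [hg]; exact hle q hq)
    rw [hT'] at hn
    obtain ⟨v, hv, rfl⟩ := hT1mem n (hNT n hn)
    rw [hg, ← map_mul, hp v hv, ← map_inv, ← map_mul, mul_inv_cancel_right] at hne
    exact hinj hne
  have hct : ∀ r, inT r → r * tM = tM * r := fun r hr => (centerT_comm r hr).1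
  have hcz : ∀ r, inT r → r * zM = zM * r := fun r hr => (centerT_comm r hr).2.1
  have hctz : ∀ r, inT r → r * (tM * zM) = tM * zM * r := fun r hr => (centerT_comm r hr).2.2
  -- normal 2-subgroups
  have hA : ∀ A : Subgroup G, A.Normal → IsPGroup 2 ↥A → A ≠ ⊥ → C = ⊤ := by
    have hAle : ∀ A : Subgroup G, A.Normal → IsPGroup 2 ↥A → A ≤ T1 := fun A hAn hA => by
      obtain ⟨S, hS⟩ := hA.exists_le_sylow
      obtain ⟨g, hg⟩ := MulAction.exists_smul_eq G S T'
      rw [← hT', ← hg]
      intro a ha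
      exact ⟨g⁻¹ * a * g, hS (by simpa using hAn.conj_mem a ha g⁻¹), by
        show g * (g⁻¹ * a * g) * g⁻¹ = a
        group⟩
    have hAE : ∀ A : Subgroup G, A.Normal → IsPGroup 2 ↥A → ∀ a ∈ A, ∃ p, inE p ∧ el p = a := by
      intro A hAn hA a ha
      obtain ⟨p, -, rfl⟩ := hT1mem a (hAle A hAn hA ha)
      refine ⟨p, normal_inE p fun q => ?_, rfl⟩
      obtain ⟨r, hr, hre⟩ := hT1mem _ (hAle A hAn hA (hAn.conj_mem _ ha (el q)))
      rw [← map_inv, ← map_mul, ← map_mul] at hre
      rwa [hinj hre] at hr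
    have hA1 : ∀ A : Subgroup G, A.Normal → IsPGroup 2 ↥A → t ∈ A → C = ⊤ := by
      intro A hAn hA htA
      refine top_le_iff.1 fun g _ => ?_
      obtain ⟨p, hp, hpe⟩ := hAE A hAn hA _ (hAn.conj_mem t htA g)
      rw [hC, mem_centralizer_singleton_iff]
      rcases inE_cases p hp (fun h => by
        rw [h, map_one, eq_comm, conj_eq_one_iff] at hpe
        exact CfsgLib.Invol.invol_ne_one ht hpe) with h | ⟨q, hq⟩ | ⟨q, hq⟩
      · rw [h, helt] at hpe
        exact mul_inv_eq_iff_eq_mul.1 hpe.symm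
      · refine absurd (hburn tM zM hct hcz (el q * g) ?_) hn5
        rw [← hq, helt, map_mul, map_mul, hpe, map_inv]; group
      · refine absurd (hburn tM (tM * zM) hct hctz (el q * g) ?_) hn7.symm
        rw [← hq, helt, map_mul, map_mul, hpe, map_inv]; group
    intro A hAn hA hA0
    by_cases htA : t ∈ A
    · exact hA1 A hAn hA htA
    have hzA : z ∈ A := by
      obtain ⟨⟨a, ha⟩, ha1⟩ := A.ne_bot_iff_exists_ne_one.1 hA0
      obtain ⟨p, hp, hpe⟩ := hAE A hAn hA a ha
      have hconj : ∀ q r : M, q * p * q⁻¹ = r → el r ∈ A := fun q r h => by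
        rw [← h, map_mul, map_mul, map_inv, hpe]
        exact hAn.conj_mem a ha _
      rcases inE_cases p hp (fun h => ha1 (Subtype.ext (by
        rw [OneMemClass.coe_one, ← map_one el, ← h, hpe]))) with h | ⟨q, hq⟩ | ⟨q, hq⟩
      · rw [h, helt] at hpe
        exact absurd (hpe ▸ ha) htA
      · exact hconj q _ hq
      · have h1 := hconj q _ hq
        obtain ⟨u, v, huv⟩ := tz_product
        rw [hz, ← huv, map_mul, map_mul, map_inv, map_mul el (tM * zM) (u * (tM * zM) * u⁻¹),
          map_mul el (u * (tM * zM)) u⁻¹, map_inv, map_mul el u (tM * zM)]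
        exact hAn.conj_mem _ (mul_mem h1 (hAn.conj_mem _ h1 _)) _
    haveI := hAn
    refine hA1 (Subgroup.centralizer (A : Set G)) inferInstance (hT1p.to_le ?_) ?_
    · exact (Subgroup.centralizer_le (Set.singleton_subset_iff.2 hzA)).trans hCz.le
    · rw [mem_centralizer_iff]
      intro a ha
      obtain ⟨p, -, rfl⟩ := hT1mem a (hAle A hAn hA ha)
      rw [← helt, ← map_mul, ← map_mul, tM_central]
  have hsolvC : C = ⊤ → Group.IsSolvable G := fun h => by
    have hs : Function.Surjective el := fun g => hsurj g (h ▸ Subgroup.mem_top g)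
    exact Group.isSolvable_of_surjective hs
  -- no normal subgroup of odd order
  have hodd : ∀ K : Subgroup G, K.Normal → Odd (Nat.card ↥K) → K = ⊥ := by
    intro K hK hKo
    by_contra hKb
    have hinv : ∀ g : G, ∀ k ∈ K, (g * z * g⁻¹) * k * (g * z * g⁻¹)⁻¹ = k⁻¹ := by
      intro g
      let φ : K ≃* K := MulAut.conjNormal (g * z * g⁻¹)
      have hfix : ∀ k, φ k = k → k = 1 := fun k hk => by
        have h1 := congrArg Subtype.val hk
        rw [show ((φ k : K) : G) = (g * z * g⁻¹) * k * (g * z * g⁻¹)⁻¹ from MulAut.conjNormal_apply _ k] at h1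
        have h2 : g⁻¹ * (k : G) * g ∈ T1 := by
          rw [← hCz, mem_centralizer_singleton_iff]
          calc g⁻¹ * (k : G) * g * z = g⁻¹ * ((k : G) * (g * z * g⁻¹)) * g := by group
            _ = g⁻¹ * ((g * z * g⁻¹) * k) * g := by rw [← mul_inv_eq_iff_eq_mul.1 h1]
            _ = _ := by group
        obtain ⟨p, hp, hpe⟩ := hT1mem _ h2
        have h4 : (g⁻¹ * (k : G) * g) ^ 4 = 1 := by rw [← hpe, ← map_pow, T_pow p hp, map_one]
        have h5 : (k : G) ^ 4 = 1 := by
          have := conj_pow (a := g⁻¹) (b := (k : G)) (i := 4)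
          rw [inv_inv] at this
          rw [this] at h4
          calc (k : G) ^ 4 = g * (g⁻¹ * (k : G) ^ 4 * g) * g⁻¹ := by group
            _ = 1 := by rw [h4]; group
        apply Subtype.ext
        exact CfsgLib.Invol.eq_one_of_odd_of_pow_two (k := 2)
          (Odd.of_dvd_nat hKo (by rw [Subgroup.orderOf_coe]; exact orderOf_dvd_natCard k)) h5
      have hφ2 : Function.Involutive φ := fun k => by
        apply Subtype.ext
        simp only [φ, MulAut.conjNormal_apply]
        calc _ = g * (z * z) * g⁻¹ * k * (g * (z * z) * g⁻¹)⁻¹ := by group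
          _ = _ := by rw [CfsgLib.Invol.invol_mul_self hz2]; group
      intro k hk
      have := congrArg Subtype.val (congrFun (MonoidHom.FixedPointFree.coe_eq_inv_of_involutive
        (φ := φ.toMonoidHom) hfix hφ2) ⟨k, hk⟩)
      rwa [MulEquiv.coe_toMonoidHom, show ((φ ⟨k, hk⟩ : K) : G) = (g * z * g⁻¹) * k * (g * z * g⁻¹)⁻¹
        from MulAut.conjNormal_apply _ _] at this
    obtain ⟨⟨k, hk⟩, hk1⟩ := K.ne_bot_iff_exists_ne_one.1 hKb
    obtain ⟨q, r, hqr⟩ := z_product
    have h1 := hinv 1 k hk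
    have hzq : z = el q * z * (el q)⁻¹ * (el r * z * (el r)⁻¹) := by
      rw [hz]; simp only [← map_inv, ← map_mul, hqr]
    rw [one_mul, inv_one, mul_one] at h1
    have h2 := hinv (el r) k hk
    have h3 := hinv (el q) k⁻¹ (inv_mem hk)
    rw [hzq, show el q * z * (el q)⁻¹ * (el r * z * (el r)⁻¹) * k * (el q * z * (el q)⁻¹ * (el r * z * (el r)⁻¹))⁻¹ =
      (el q * z * (el q)⁻¹) * ((el r * z * (el r)⁻¹) * k * (el r * z * (el r)⁻¹)⁻¹) * (el q * z * (el q)⁻¹)⁻¹
      by group, h2, h3, inv_inv] at h1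
    refine hk1 (Subtype.ext ?_)
    exact CfsgLib.Invol.eq_one_of_odd_of_pow_two (k := 1)
      (Odd.of_dvd_nat hKo (by
        rw [show orderOf k = orderOf (⟨k, hk⟩ : K) from (Subgroup.orderOf_mk k hk).symm]
        exact orderOf_dvd_natCard _))
      (by rw [pow_one, pow_two]; exact (congrArg (k * ·) h1).trans (mul_inv_cancel k))
  have heven : ∀ K : Subgroup G, K.Normal → K ≠ ⊥ → Even (Nat.card ↥K) := fun K hK hKb => by
    by_contra h
    exact hKb (hodd K hK (Nat.not_even_iff_odd.1 h))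
  have hab : ∀ K : Subgroup G, K.Normal → (∀ a ∈ K, ∀ b ∈ K, a * b = b * a) → K ≠ ⊥ → C = ⊤ := by
    intro K hK hcm hKb
    let A : Subgroup G :=
      { carrier := {x | x ∈ K ∧ x * x = 1}
        one_mem' := ⟨one_mem K, one_mul 1⟩
        mul_mem' := fun {a b} ha hb => ⟨mul_mem ha.1 hb.1, by
          rw [show a * b * (a * b) = a * (b * a) * b by group, hcm b hb.1 a ha.1,
            show a * (a * b) * b = (a * a) * (b * b) by group, ha.2, hb.2, one_mul]⟩
        inv_mem' := fun {a} ha => ⟨inv_mem ha.1, by rw [← mul_inv_rev, ha.2, inv_one]⟩ }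
    refine hA A ⟨fun a ha g => ⟨hK.conj_mem a ha.1 g, ?_⟩⟩ ?_ ?_
    · rw [show g * a * g⁻¹ * (g * a * g⁻¹) = g * (a * a) * g⁻¹ by group, ha.2]; group
    · exact fun a => ⟨1, Subtype.ext (by rw [pow_one, pow_two]; exact a.2.2)⟩
    · intro h
      obtain ⟨x, hxK, hx⟩ := CfsgLib.Invol.exists_invol_mem (heven K hK hKb)
      have : x ∈ A := ⟨hxK, CfsgLib.Invol.invol_mul_self hx⟩
      rw [h, mem_bot] at this
      exact CfsgLib.Invol.invol_ne_one hx this
  obtain ⟨N, ⟨hNn, hNb⟩, hNmin⟩ := (Set.toFinite {K : Subgroup G | K.Normal ∧ K ≠ ⊥}).exists_minimal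
      ⟨⊤, Subgroup.normal_top, fun h => CfsgLib.Invol.invol_ne_one ht
        (Subgroup.mem_bot.1 (h ▸ Subgroup.mem_top t))⟩
  haveI := hNn
  have hperf' : C ≠ ⊤ → ⁅N, N⁆ = N := fun hne => by
    refine le_antisymm (Subgroup.commutator_le_self N) (hNmin ⟨inferInstance, fun hD =>
      hne (hab N hNn (fun a ha b hb => ?_) hNb)⟩ (Subgroup.commutator_le_self N))
    exact mem_centralizer_iff.1 (Subgroup.commutator_eq_bot_iff_le_centralizer.1 hD hb) a ha
  refine ⟨fun hsol => by_contra fun hne => ?_, fun hns => ?_⟩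
  · exact (hsol.commutator_lt_of_ne_bot hNb).ne (hperf' hne)
  -- the nonsolvable case
  have hnot : C ≠ ⊤ := fun h => hns (hsolvC h)
  have hA' : ∀ A : Subgroup G, A.Normal → IsPGroup 2 ↥A → A = ⊥ := fun A hAn hA2 =>
    by_contra fun h => hnot (hA A hAn hA2 h)
  have hperf := hperf' hnot
  have hsubc : ∀ x : ↥N, x ∈ commutator ↥N := fun x => by
    have h2' := Subgroup.map_subtype_commutator N
    rw [hperf] at h2'
    obtain ⟨y, hy, hyx⟩ := h2'.ge x.2
    rwa [← Subtype.ext hyx]
  have hno2N : ∀ H : Subgroup ↥N, H.index ≠ 2 := fun H hH => by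
    haveI := Subgroup.normal_of_index_eq_two hH
    haveI : IsCyclic (↥N ⧸ H) := isCyclic_of_prime_card (p := 2) (by rw [← Subgroup.index_eq_card, hH])
    have hle : commutator ↥N ≤ H := by
      rw [_root_.commutator_def, Subgroup.commutator_le]
      intro p _ q _
      rw [← QuotientGroup.eq_one_iff, ← QuotientGroup.mk'_apply, map_commutatorElement,
        commutatorElement_eq_one_iff_mul_comm]
      letI := IsCyclic.commGroup (α := ↥N ⧸ H)
      exact mul_comm _ _
    rw [show H = ⊤ from top_le_iff.1 fun x _ => hle (hsubc x), Subgroup.index_top] at hH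
    omega
  have hNle : ∀ H : Subgroup G, H.index = 2 → N ≤ H := fun H hH => by
    haveI := Subgroup.normal_of_index_eq_two hH
    haveI : IsCyclic (G ⧸ H) := isCyclic_of_prime_card (p := 2) (by rw [← Subgroup.index_eq_card, hH])
    rw [← hperf, Subgroup.commutator_le]
    intro p _ q _
    rw [← QuotientGroup.eq_one_iff, ← QuotientGroup.mk'_apply, map_commutatorElement,
      commutatorElement_eq_one_iff_mul_comm]
    letI := IsCyclic.commGroup (α := G ⧸ H)
    exact mul_comm _ _
  set K0 : Subgroup M := N.comap el with hK0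
  have hK0n : K0.Normal := hNn.comap el
  have hK0c : ∀ {p q r : M}, p ∈ K0 → q * p * q⁻¹ = r → r ∈ K0 := fun {p q r} hp h => h ▸ hK0n.conj_mem p hp q
  obtain ⟨p0, hp0, hp0T, hp01⟩ : ∃ p, p ∈ K0 ∧ inT p ∧ p ≠ 1 := by
    obtain ⟨x, hxN, hx⟩ := CfsgLib.Invol.exists_invol_mem (heven N hNn hNb)
    obtain ⟨S, hS⟩ := (IsPGroup.of_card (n := 1) (by rw [Nat.card_zpowers, hx, pow_one]) :
      IsPGroup 2 ↥(Subgroup.zpowers x)).exists_le_sylow
    obtain ⟨g, hg⟩ := MulAction.exists_smul_eq G S T'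
    have h1 : g * x * g⁻¹ ∈ T1 := by
      rw [← hT', ← hg]
      exact ⟨x, hS (mem_zpowers x), rfl⟩
    obtain ⟨p, hp, hpe⟩ := hT1mem _ h1
    refine ⟨p, ?_, hp, fun h => ?_⟩
    · rw [hK0, Subgroup.mem_comap, hpe]; exact hNn.conj_mem x hxN g
    · rw [h, map_one, eq_comm, conj_eq_one_iff] at hpe
      exact CfsgLib.Invol.invol_ne_one hx hpe
  set M0 : Subgroup G := (T0 ⊓ (MonoidHom.fst (Multiplicative (ZMod 2)) (Equiv.Perm (Fin 4))).ker).map el with hM0
  have hM0le : M0 ≤ T1 := Subgroup.map_mono inf_le_left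
  have hM0card : Nat.card ↥M0 = 8 := by
    rw [hM0, card_map_of_injective hinj, ← card_T_one]
    exact Nat.card_congr (Equiv.subtypeEquivRight fun p => by
      rw [Subgroup.mem_inf, hT0', MonoidHom.mem_ker]; rfl)
  have htransfer : ∀ x : G, orderOf x = 2 → (∀ g : G, g * x * g⁻¹ ∉ M0) → x ∉ N := by
    intro x hx hno hxN
    obtain ⟨H, hH, hxH⟩ := CfsgLib.Invol.exists_index_two_notMem T' M0 (hT' ▸ hM0le) (by
      have := Subgroup.relIndex_mul_relIndex ⊥ M0 T1 bot_le hM0le
      rw [Subgroup.relIndex_bot_left, Subgroup.relIndex_bot_left, hM0card, hcardT1] at this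
      rw [hT']; omega) (n := 1) (fun y _ hy => by
        have : orderOf y ≠ 1 := fun h => hy (orderOf_eq_one_iff.1 h ▸ one_mem _)
        have := orderOf_pos y
        norm_num
        omega) x (by rw [hx]; norm_num) hno
    exact hxH (hNle H hH hxN)
  have hzN : z ∈ N := by
    by_contra hzN
    have hcent : ∀ p, p ∈ K0 → inT p → p = 1 ∨ p = tM ∨ p = tM * zM := by
      intro p hp hpT
      rcases centerT_cases p hpT (fun q hq => by
        by_contra hne
        refine hzN ?_
        rcases comm_T q p hq hpT with h | h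
        · exact absurd (commutatorElement_eq_one_iff_mul_comm.1 h) hne
        · rw [hz, ← h, ← Subgroup.mem_comap, commutatorElement_def]
          exact mul_mem (hK0n.conj_mem p hp q) (inv_mem hp)) with h | h | h | h
      · exact Or.inl h
      · exact Or.inr (Or.inl h)
      · subst h; exact absurd hp hzN
      · exact Or.inr (Or.inr h)
    have hno : tM * zM ∉ K0 := fun h => hzN (by
      obtain ⟨q, r, hqr⟩ := tz_product
      exact hK0c (mul_mem h (hK0n.conj_mem _ h q)) hqr)
    have htK : tM ∈ K0 := by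
      rcases hcent p0 hp0 hp0T with h | h | h
      · exact absurd h hp01
      · exact h ▸ hp0
      · exact absurd (h ▸ hp0) hno
    refine htransfer t ht (fun g hg => ?_) (helt ▸ htK)
    obtain ⟨p, hp, hpe⟩ := Subgroup.mem_map.1 hg
    have hpK : p ∈ K0 := by
      rw [hK0, Subgroup.mem_comap, hpe]; exact hNn.conj_mem t (helt ▸ htK) g
    have hp1 : p.1 = 1 := hp.2
    rcases hcent p hpK ((hT0' p).1 hp.1) with h | h | h
    · rw [h, map_one, eq_comm, conj_eq_one_iff] at hpe
      exact CfsgLib.Invol.invol_ne_one ht hpe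
    · exact hn10 (h ▸ hp1)
    · exact hno (h ▸ hpK)
  have hzK : zM ∈ K0 := hzN
  have htN : t ∉ N := fun htN => by
    have htzN : el (tM * zM) ∈ N := by rw [map_mul, helt]; exact mul_mem htN hzN
    -- the only possible conjugates in `M0` of either are transpositions
    have hM0cases : ∀ (q : M), (∀ r, inT r → r * q = q * r) → q ≠ 1 → q ≠ zM → q * q = 1 →
        (∃ g : G, g * el q * g⁻¹ ∈ M0) → ∃ g : G, g * el q * g⁻¹ = el (1, Equiv.swap 0 2) := by
      rintro q hq hq1 hqz hqq ⟨g, hg⟩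
      obtain ⟨p, hp, hpe⟩ := Subgroup.mem_map.1 hg
      have hp1 : p.1 = 1 := hp.2
      have hpp : p * p = 1 := hinj (by
        rw [map_mul, hpe, map_one, show g * el q * g⁻¹ * (g * el q * g⁻¹) = g * (el q * el q) * g⁻¹ by group,
          ← map_mul, hqq, map_one]; group)
      have hpne : p ≠ 1 := fun h => by
        rw [h, map_one, eq_comm, conj_eq_one_iff] at hpe
        exact hq1 (hinj (hpe.trans (map_one el).symm))
      have hmove : ∀ u r : M, u * p * u⁻¹ = r → el u * g * el q * (el u * g)⁻¹ = el r := fun u r h => by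
        rw [← h, map_mul, map_mul, map_inv, hpe]; group
      rcases invol_cases p hpp hpne with h | ⟨u, hu⟩ | ⟨u, hu⟩ | ⟨u, hu⟩
      · exact absurd (h ▸ hp1) hn10
      · exact absurd (hburn q zM hq hcz _ (hmove u _ hu)) hqz
      · have := congrArg Prod.fst hu
        simp only [Prod.fst_mul, Prod.fst_inv, hp1, mul_one, mul_inv_cancel] at this
        exact absurd this.symm hn11
      · exact ⟨el u * g, by rw [hmove u _ hu, hp1]⟩
    by_cases hA1 : ∀ g : G, g * t * g⁻¹ ∉ M0
    · exact htransfer t ht hA1 htN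
    · push Not at hA1
      obtain ⟨g, hg⟩ := hM0cases tM hct hn1 hn5 hn2 (by rw [helt]; exact hA1)
      refine htransfer (el (tM * zM)) (orderOf_eq_prime (by
        rw [pow_two, ← map_mul, hn9, map_one])
        (fun h => hn6 (hinj (h.trans (map_one el).symm)))) (fun k hk => ?_) htzN
      obtain ⟨k', hk'⟩ := hM0cases (tM * zM) hctz hn6 hn8 hn9 ⟨k, hk⟩
      refine hn7 (hburn (tM * zM) tM hctz hct (g⁻¹ * k') ?_)
      rw [show g⁻¹ * k' * el (tM * zM) * (g⁻¹ * k')⁻¹ = g⁻¹ * (k' * el (tM * zM) * k'⁻¹) * g by group,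
        hk', ← hg]
      group
  have htK : tM ∉ K0 := fun h => htN (helt ▸ h)
  have htzK : tM * zM ∉ K0 := fun h => htK (by
    have := mul_mem h hzK
    rwa [mul_assoc, hn4, mul_one] at this)
  have hVK : ∀ v : M, inE v → v.1 = 1 → v ∈ K0 := fun v hv hv1 => by
    rcases inE_one_cases v hv hv1 with h | ⟨q, hq⟩
    · rw [h]; exact one_mem _
    · exact hK0c hzK hq
  -- the centraliser of `z` in `N`
  let zN : ↥N := ⟨z, hzN⟩
  have hzN2 : orderOf zN = 2 := by rw [← Subgroup.orderOf_coe]; exact hz2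
  have hcentN : ∀ x : ↥N, x ∈ Subgroup.centralizer ({zN} : Set ↥N) ↔ ∃ p ∈ K0, inT p ∧ el p = x := by
    intro x
    constructor
    · intro hx
      have h1 : (x : G) ∈ T1 := by
        rw [← hCz, mem_centralizer_singleton_iff]
        exact congrArg Subtype.val (mem_centralizer_singleton_iff.1 hx)
      obtain ⟨p, hp, hpe⟩ := hT1mem _ h1
      exact ⟨p, by rw [hK0, Subgroup.mem_comap, hpe]; exact x.2, hp, hpe⟩
    · rintro ⟨p, -, hp, hpe⟩
      rw [mem_centralizer_singleton_iff]
      apply Subtype.ext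
      show (x : G) * z = z * x
      rw [← hpe, hz, ← map_mul, ← map_mul, hp]
  have hCNb : Subgroup.centralizer (N : Set G) = ⊥ :=
    hA' _ inferInstance (hT1p.to_le ((Subgroup.centralizer_le (Set.singleton_subset_iff.2 hzN)).trans hCz.le))
  have hconjinj : Function.Injective (MulAut.conjNormal : G →* MulAut ↥N) := by
    refine (injective_iff_map_eq_one _).2 fun g hg => ?_
    refine (Subgroup.mem_bot).1 (hCNb ▸ mem_centralizer_iff.2 fun n hn => ?_)
    have h := congrArg (fun w : MulAut ↥N => ((w ⟨n, hn⟩ : ↥N) : G)) hg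
    simp only [MulAut.conjNormal_apply, MulAut.one_apply] at h
    exact (mul_inv_eq_iff_eq_mul.1 h).symm
  by_cases hbig : ∀ p, p ∈ K0 → inT p → Equiv.Perm.sign p.2 = 1
  · -- the centraliser is a four group
    exfalso
    have hKV : ∀ p, (p ∈ K0 ∧ inT p) ↔ (inE p ∧ p.1 = 1) := by
      intro p
      refine ⟨fun ⟨hp, hpT⟩ => ?_, fun ⟨hv, hv1⟩ => ⟨hVK p hv hv1, inE_inT p hv⟩⟩
      have hE := even_inT p hpT (hbig p hp hpT)
      exact ⟨hE, inE_first p hE (fun h => htK (h ▸ hp)) fun ⟨q, hq⟩ => htzK (hK0c hp hq)⟩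
    let φ : {p : M // inE p ∧ p.1 = 1} → ↥(Subgroup.centralizer ({zN} : Set ↥N)) := fun p =>
      ⟨⟨el p.1, hVK _ p.2.1 p.2.2⟩, (hcentN _).2 ⟨p.1, ((hKV _).2 p.2).1, ((hKV _).2 p.2).2, rfl⟩⟩
    have hφ : Function.Bijective φ := by
      refine ⟨fun p q h => Subtype.ext (hinj (congrArg (fun w => ((w.1 : ↥N) : G)) h)), fun x => ?_⟩
      obtain ⟨p, hp, hpT, hpe⟩ := (hcentN x.1).1 x.2
      exact ⟨⟨p, (hKV p).1 ⟨hp, hpT⟩⟩, Subtype.ext (Subtype.ext hpe)⟩
    have h4 : Nat.card ↥(Subgroup.centralizer ({zN} : Set ↥N)) = 4 := by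
      rw [← Nat.card_congr (Equiv.ofBijective φ hφ), card_V]
    have hpc : Cfsg.pCore 2 ↥N = ⊥ := by
      have h1 := CfsgLib.Coprime.pCore_map_subtype_eq 2 N
      rw [hA' _ (CfsgLib.Coprime.pCore_normal' 2) (CfsgLib.Coprime.pCore_isPGroup 2), bot_inf_eq,
        Subgroup.map_eq_bot_iff_of_injective _ N.subtype_injective] at h1
      exact h1
    obtain ⟨eA⟩ := CfsgLib.Invol.iso_alternating_five hzN2 h4 (fun c hc => by
        obtain ⟨p, hp, hpT, hpe⟩ := (hcentN c).1 hc
        apply Subtype.ext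
        rw [SubmonoidClass.coe_pow, OneMemClass.coe_one, ← hpe, ← map_pow, pow_two,
          inE_sq p ((hKV p).1 ⟨hp, hpT⟩).1, map_one])
      (by
        rintro ⟨P, K, hK, hKP⟩
        haveI := hK
        obtain ⟨k, hk⟩ := P.isPGroup'.exists_card_eq
        haveI : Group.IsSolvable (↥N ⧸ K) := by
          refine CfsgLib.Char.isSolvable_of_card_two_primes Nat.prime_two Nat.prime_three _ k 0 ?_
          rw [← Subgroup.index_eq_card, hKP.symm.index_eq_card, hk, pow_zero, mul_one]
        by_cases hKt : K = ⊤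
        · have h1 := hKP.symm.index_eq_card
          rw [hKt, Subgroup.index_top] at h1
          have h2' := P.dvd_card_of_dvd_card (show (2 : ℕ) ∣ Nat.card ↥N from hzN2 ▸ orderOf_dvd_natCard zN)
          rw [← h1] at h2'
          norm_num at h2'
        · haveI : Nontrivial (↥N ⧸ K) := by
            rw [← Finite.one_lt_card_iff_nontrivial, ← Subgroup.index_eq_card]
            exact Subgroup.one_lt_index_of_ne_top hKt
          have h1 := Group.IsSolvable.commutator_lt_top_of_nontrivial (↥N ⧸ K)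
          refine h1.ne (top_le_iff.1 ?_)
          rintro x -
          obtain ⟨y, rfl⟩ := QuotientGroup.mk'_surjective K x
          refine (show (commutator ↥N).map (QuotientGroup.mk' K) ≤ commutator (↥N ⧸ K) from ?_)
            (Subgroup.mem_map_of_mem _ (hsubc y))
          rw [_root_.commutator_def, _root_.commutator_def, Subgroup.map_commutator]
          exact Subgroup.commutator_mono le_top le_top)
      (fun E hE hEe => by
        haveI := hE
        have : E = ⊥ := le_bot_iff.1 (hpc ▸ CfsgLib.Coprime.le_pCore (p := 2)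
          (fun a => ⟨1, Subtype.ext (by rw [pow_one]; exact hEe.2 _ a.2)⟩))
        rw [this, Subgroup.card_bot]
        norm_num)
    have h5 : 4 ≤ Fintype.card (Fin 5) := by rw [Fintype.card_fin]; norm_num
    have h56 : Fintype.card (Fin 5) ≠ 6 := by rw [Fintype.card_fin]; norm_num
    have hAut : Nat.card (MulAut ↥N) = 120 := by
      rw [Nat.card_congr (MulAut.congr eA).toEquiv, ← Nat.card_congr (Equiv.ofBijective _
        (CfsgLib.Perm.Groups.AltAut.conjNormal_bijective (Ω := Fin 5) h5 h56)), Nat.card_perm, Nat.card_fin]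
      rfl
    have hd : 48 ∣ 120 := by
      rw [← hcardC, ← hAut]
      exact (Subgroup.card_subgroup_dvd_card C).trans (Subgroup.card_dvd_of_injective _ hconjinj)
    norm_num at hd
  -- the centraliser is dihedral
  push Not at hbig
  obtain ⟨p1, hp1K, hp1T, hp1s⟩ := hbig
  set a := p1.1 with ha
  have hσ : ((a, Equiv.swap 0 2) : M) ∈ K0 := by
    obtain ⟨q, r, hqr⟩ := graph_sigma p1 hp1T ((Int.units_eq_one_or _).resolve_left hp1s)
    rw [← hqr]
    exact mul_mem (mul_mem hp1K (hK0n.conj_mem _ hp1K q)) (hK0n.conj_mem _ hp1K r)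
  have hparK : ∀ d, par a d ∈ K0 := fun d => by
    rcases par_form a d with ⟨h1, h2'⟩ | ⟨v, hv, hv1, hd⟩
    · exact hVK _ h1 h2'
    · rw [hd]; exact mul_mem hσ (hVK v hv hv1)
  have hKpar : ∀ p, p ∈ K0 → inT p → ∃ d, par a d = p := by
    intro p hp hpT
    obtain ⟨d, hd⟩ := par_surj p hpT a
    refine ⟨d, ?_⟩
    have h1 := mul_mem hp (inv_mem (hparK d))
    have h2' : (p * (par a d)⁻¹).2 = 1 := by rw [Prod.snd_mul, Prod.snd_inv, hd, mul_inv_cancel]
    by_cases h : (p * (par a d)⁻¹).1 = 1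
    · exact (mul_inv_eq_one.1 (Prod.ext h h2' : p * (par a d)⁻¹ = 1)).symm
    · refine absurd ?_ htK
      rw [← zmod_two_ne _ h, show (((p * (par a d)⁻¹).1, 1) : M) = p * (par a d)⁻¹ from Prod.ext rfl h2'.symm]
      exact h1
  let f : DihedralGroup 4 →* ↥(Subgroup.centralizer ({zN} : Set ↥N)) :=
    MonoidHom.mk' (fun d => ⟨⟨el (par a d), hparK d⟩, (hcentN _).2 ⟨_, hparK d, par_inT a d, rfl⟩⟩)
      fun p q => Subtype.ext (Subtype.ext (by
        show el (par a (p * q)) = el (par a p) * el (par a q)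
        rw [par_mul, map_mul]))
  have hf : Function.Bijective f := by
    refine ⟨fun p q h => par_inj a p q (hinj (congrArg (fun w => ((w.1 : ↥N) : G)) h)), fun x => ?_⟩
    obtain ⟨p, hp, hpT, hpe⟩ := (hcentN x.1).1 x.2
    obtain ⟨d, rfl⟩ := hKpar p hp hpT
    exact ⟨d, Subtype.ext (Subtype.ext hpe)⟩
  let eD := (MulEquiv.ofBijective f hf).symm
  haveI := Fintype.ofFinite ↥N
  have hcardN := CfsgLib.Char.card_of_centralizer_dihedral_eight' hno2N zN hzN2 eD
  -- the Frattini argument
  have hP : ∀ g : G, g ∈ N ⊓ T1 ↔ ∃ d, el (par a d) = g := by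
    intro g
    constructor
    · rintro ⟨hgN, hgT⟩
      obtain ⟨p, hp, rfl⟩ := hT1mem g hgT
      obtain ⟨d, rfl⟩ := hKpar p hgN hp
      exact ⟨d, rfl⟩
    · rintro ⟨d, rfl⟩
      exact ⟨hparK d, helT1 _ (par_inT a d)⟩
  have hcardP : Nat.card ↥(N ⊓ T1) = 8 := by
    rw [← Nat.card_congr (Equiv.ofBijective (fun d => (⟨el (par a d), (hP _).2 ⟨d, rfl⟩⟩ : ↥(N ⊓ T1)))
      ⟨fun p q h => par_inj a p q (hinj (congrArg (fun w : ↥(N ⊓ T1) => (w : G)) h)), fun x => by
        obtain ⟨d, hd⟩ := (hP x.1).1 x.2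
        exact ⟨d, Subtype.ext hd⟩⟩), Nat.card_eq_fintype_card, DihedralGroup.card]
  have hindex : N.index = 2 := by
    have hsy := CfsgLib.Fusion.not_dvd_relIndex_inf_of_normal T' N
    rw [hT', inf_comm] at hsy
    set P0 := (N ⊓ T1).subgroupOf N with hP0
    have hP0p : IsPGroup 2 ↥P0 :=
      (hT1p.to_le inf_le_right).of_equiv (Subgroup.subgroupOfEquivOfLe inf_le_left).symm
    have hmap : (P0.map N.subtype) = N ⊓ T1 := by
      rw [hP0, Subgroup.subgroupOf_map_subtype, inf_of_le_left inf_le_left]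
    have hfr := Sylow.normalizer_sup_eq_top (hP0p.toSylow hsy)
    have hcoe : ((hP0p.toSylow hsy : Sylow 2 ↥N) : Subgroup ↥N) = P0 := rfl
    rw [hcoe, hmap] at hfr
    have hnorm : Subgroup.normalizer ((N ⊓ T1 : Subgroup G) : Set G) ≤ T1 := by
      intro n hn
      have hn' := Subgroup.mem_normalizer_iff.1 hn
      obtain ⟨d1, h1⟩ := (hP _).1 ((hn' (el (par a (.r 1)))).1 ((hP _).2 ⟨_, rfl⟩))
      obtain ⟨d2, h2'⟩ := (hP _).1 ((hn' (el (par a (.sr 0)))).1 ((hP _).2 ⟨_, rfl⟩))
      have hpq : el ⁅par a d1, par a d2⁆ = n * z * n⁻¹ := by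
        rw [map_commutatorElement, h1, h2', hz, ← par_comm a, map_commutatorElement,
          commutatorElement_def, commutatorElement_def]
        group
      rcases comm_T _ _ (par_inT a d1) (par_inT a d2) with h | h
      · rw [h, map_one] at hpq
        exact absurd (conj_eq_one_iff.1 hpq.symm) (CfsgLib.Invol.invol_ne_one hz2)
      · rw [h] at hpq
        rw [← hCz, mem_centralizer_singleton_iff]
        exact mul_inv_eq_iff_eq_mul.1 hpq.symm
    have hsup : T1 ⊔ N = ⊤ := top_le_iff.1 (hfr ▸ sup_le_sup_right hnorm N)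
    have h1 : N.relIndex (T1 ⊔ N) = N.relIndex T1 := Subgroup.relIndex_sup_right T1 N
    rw [hsup, Subgroup.relIndex_top_right] at h1
    have h2' := Subgroup.relIndex_mul_relIndex ⊥ (N ⊓ T1) T1 bot_le inf_le_right
    rw [Subgroup.relIndex_bot_left, Subgroup.relIndex_bot_left, hcardP, hcardT1,
      Subgroup.inf_relIndex_right, ← h1] at h2'
    omega
  have hcardG : Nat.card G = 2 * Nat.card ↥N := by
    rw [← N.card_mul_index, hindex, mul_comm]
  rcases hcardN with h168 | h360
  · -- seven conjugates only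
    exfalso
    let O : Set G := {x | ∃ g : G, g * t * g⁻¹ = x}
    have hO : Nat.card O = 7 := by
      have h1 := MulAction.orbitEquivQuotientStabilizer (ConjAct G) t
      have h2' : Subgroup.index C = 7 := by
        have := C.card_mul_index
        rw [hcardC, hcardG, h168] at this
        omega
      have h3 : MulAction.orbit (ConjAct G) t = O := by
        ext x
        constructor
        · rintro ⟨g, rfl⟩; exact ⟨ConjAct.ofConjAct g, (ConjAct.smul_def g t).symm⟩
        · rintro ⟨g, rfl⟩; exact ⟨ConjAct.toConjAct g, ConjAct.toConjAct_smul g t⟩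
      rw [← h3, Nat.card_congr h1, ← Subgroup.index_eq_card, ConjAct.stabilizer_eq_centralizer, ← h2', hC]
      rfl
    have hiso : Cfsg.IsIsolatedInvolution t := by
      refine ⟨ht, fun g hg => ?_⟩
      by_contra hne
      obtain ⟨p, hpe⟩ := hsurj (g * t * g⁻¹) (mem_centralizer_singleton_iff.2 hg.symm)
      have hpp : p * p = 1 := hinj (by
        rw [map_mul, hpe, map_one, show g * t * g⁻¹ * (g * t * g⁻¹) = g * (t * t) * g⁻¹ by group,
          CfsgLib.Invol.invol_mul_self ht]; group)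
      have hp1 : p ≠ 1 := fun h => by
        rw [h, map_one, eq_comm, conj_eq_one_iff] at hpe
        exact CfsgLib.Invol.invol_ne_one ht hpe
      have hmove : ∀ u r : M, u * p * u⁻¹ = r → el u * g * t * (el u * g)⁻¹ = el r := fun u r h => by
        rw [← h, map_mul, map_mul, map_inv, hpe]; group
      rcases invol_cases p hpp hp1 with h | ⟨u, hu⟩ | ⟨u, hu⟩ | ⟨u, hu⟩
      · exact hne (by rw [← hpe, h, helt])
      · exact hn5 (hburn tM zM hct hcz _ (by rw [helt]; exact hmove u _ hu))
      · exact hn7 (hburn tM (tM * zM) hct hctz _ (by rw [helt]; exact hmove u _ hu)).symm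
      · set b := p.1 with hb
        have hsw : el (b, Equiv.swap 0 2) ∈ O := ⟨_, hmove u _ hu⟩
        let F : {q : M // q = tM ∨ (q.1 = b ∧ q.2.support.card = 2)} → O := fun q => ⟨el q.1, by
          rcases q.2 with h | ⟨h1, h2'⟩
          · rw [h, helt]; exact ⟨1, by group⟩
          · obtain ⟨w, hw⟩ := transp_conj b q.1.2 h2'
            obtain ⟨k, hk⟩ := hsw
            refine ⟨el w * k, ?_⟩
            rw [show q.1 = (b, q.1.2) from Prod.ext h1 rfl, ← hw, map_mul, map_mul, map_inv, ← hk]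
            group⟩
        have hFi : Function.Injective F := fun q r h => Subtype.ext (hinj (congrArg (fun w : O => (w : G)) h))
        have hFb : Function.Bijective F := by
          rw [Nat.bijective_iff_injective_and_card]
          exact ⟨hFi, by rw [hO, Nat.card_eq_fintype_card, card_seven b]⟩
        have hOC : ∀ x ∈ O, x ∈ C := fun x hx => by
          obtain ⟨q, hq⟩ := hFb.2 ⟨x, hx⟩
          rw [← show el q.1 = x from congrArg Subtype.val hq]
          exact helC _
        have hOcomm : ∀ x ∈ O, ∀ y ∈ O, x * y = y * x := by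
          rintro x ⟨k, rfl⟩ y ⟨l, rfl⟩
          have := mem_centralizer_singleton_iff.1 (hOC _ ⟨k⁻¹ * l, rfl⟩)
          calc k * t * k⁻¹ * (l * t * l⁻¹) = k * (t * (k⁻¹ * l * t * (k⁻¹ * l)⁻¹)) * k⁻¹ := by group
            _ = k * (k⁻¹ * l * t * (k⁻¹ * l)⁻¹ * t) * k⁻¹ := by rw [this]
            _ = _ := by group
        refine transp_noncomm b (hinj ?_)
        rw [map_mul, map_mul]
        exact hOcomm _ hsw _ (F ⟨(b, Equiv.swap 0 1), Or.inr ⟨rfl, support_swap01⟩⟩).2
    refine hnot (top_le_iff.1 fun g _ => ?_)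
    have h1 := CfsgLib.Invol.zstar hiso g
    have hcop : Odd (Nat.card ↥(Cfsg.pPrimeCore 2 G)) :=
      Nat.coprime_two_right.1 (CfsgLib.Coprime.pPrimeCore_coprime Nat.prime_two)
    have hn : (Cfsg.pPrimeCore 2 G).Normal := Subgroup.sSup_normal _ fun _ h => h.1
    rw [hodd _ hn hcop, mem_bot] at h1
    rw [hC, mem_centralizer_singleton_iff]
    exact (mul_inv_eq_iff_eq_mul.1 (mul_inv_eq_one.1 h1)).symm
  · -- the symmetric group on six points
    haveI := Cfsg.Agent.S3261.isSimple_of_dihedral hno2N zN hzN2 eD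
    obtain ⟨ι⟩ := Cfsg.Agent.S0497.result (G := ↥N) (by rw [h360])
    haveI : (alternatingGroup (Fin 6)).Normal := alternatingGroup.normal
    let ψ : G →* MulAut ↥(alternatingGroup (Fin 6)) := (MulAut.congr ι).toMonoidHom.comp MulAut.conjNormal
    have hψ : Function.Injective ψ := (MulAut.congr ι).injective.comp hconjinj
    let R : Subgroup (MulAut ↥(alternatingGroup (Fin 6))) :=
      (MulAut.conjNormal : Equiv.Perm (Fin 6) →* MulAut ↥(alternatingGroup (Fin 6))).range
    have hN : N ≤ R.comap ψ := fun n hn => by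
      refine ⟨((ι ⟨n, hn⟩ : ↥(alternatingGroup (Fin 6))) : Equiv.Perm (Fin 6)), MulEquiv.ext fun w => Subtype.ext ?_⟩
      rw [MulAut.conjNormal_apply]
      show _ = ((ι (MulAut.conjNormal n (ι.symm w)) : ↥(alternatingGroup (Fin 6))) : Equiv.Perm (Fin 6))
      rw [show MulAut.conjNormal n (ι.symm w) = (⟨n, hn⟩ : ↥N) * ι.symm w * (⟨n, hn⟩ : ↥N)⁻¹ from
        Subtype.ext (MulAut.conjNormal_apply _ _), map_mul, map_mul, map_inv, ι.apply_symm_apply]
      rfl
    have htR : t ∈ R.comap ψ := by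
      obtain ⟨q, hq⟩ := three_product a
      have hxK : ((1, Equiv.swap 0 2 * Equiv.swap 0 1) : M) ∈ K0 := hq ▸ mul_mem hσ (hK0n.conj_mem _ hσ q)
      let x : ↥N := ⟨el (1, Equiv.swap 0 2 * Equiv.swap 0 1), hxK⟩
      have hx : orderOf x = 3 := by
        haveI : Fact (Nat.Prime 3) := ⟨Nat.prime_three⟩
        refine orderOf_eq_prime (Subtype.ext ?_) (fun h => three_elt.2 (hinj ?_))
        · rw [SubmonoidClass.coe_pow, OneMemClass.coe_one]
          show el _ ^ 3 = 1
          rw [← map_pow, three_elt.1, map_one]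
        · exact (congrArg Subtype.val h).trans (map_one el).symm
      have hfix : MulAut.conjNormal t x = x := Subtype.ext (by
        rw [MulAut.conjNormal_apply]
        show t * el _ * t⁻¹ = el _
        rw [← helt, ← map_inv, ← map_mul, ← map_mul, ← tM_central, mul_inv_cancel_right])
      obtain ⟨σ, hσ'⟩ := alt_six_aut (ψ t) (ι x) (by rw [MulEquiv.orderOf_eq, hx]) (by
        show ι (MulAut.conjNormal t (ι.symm (ι x))) = ι x
        rw [ι.symm_apply_apply, hfix])
      exact ⟨σ, MulEquiv.ext fun w => Subtype.ext (by rw [MulAut.conjNormal_apply, hσ'])⟩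
    have hall : ∀ g, ψ g ∈ R := fun g => by
      have hne : R.comap ψ ≠ N := fun h => htN (h ▸ htR)
      have h1 := Subgroup.relIndex_mul_index hN
      rw [hindex] at h1
      rcases (Nat.dvd_prime Nat.prime_two).1 (Dvd.intro_left _ h1) with h | h
      · rw [Subgroup.index_eq_one] at h
        exact Subgroup.mem_comap.1 (h ▸ Subgroup.mem_top g)
      · rw [h] at h1
        have h3 : N.relIndex (R.comap ψ) = 1 := by omega
        exact absurd (le_antisymm (Subgroup.relIndex_eq_one.1 h3) hN) hne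
    let ψR : G →* ↥R := ψ.codRestrict R hall
    have hψR : Function.Injective ψR := fun g h he => hψ (congrArg Subtype.val he)
    let π : Equiv.Perm (Fin 6) →* ↥R := MonoidHom.rangeRestrict _
    have hπ : Function.Surjective π := MonoidHom.rangeRestrict_surjective _
    have h720 : Nat.card G = Nat.card (Equiv.Perm (Fin 6)) := by
      rw [hcardG, h360, Nat.card_perm, Nat.card_fin]; rfl
    have h1 := Nat.card_le_card_of_injective ψR hψR
    have h2' := Nat.card_le_card_of_surjective π hπ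
    have hψRb : Function.Bijective ψR := (Nat.bijective_iff_injective_and_card ψR).2 ⟨hψR, by omega⟩
    have hπb : Function.Bijective π := (Nat.bijective_iff_surjective_and_card π).2 ⟨hπ, by omega⟩
    exact ⟨(MulEquiv.ofBijective ψR hψRb).trans (MulEquiv.ofBijective π hπb).symm⟩

end Cfsg.Agent.S3222
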