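import Cfsg.Statements.S3240
import Cfsg.Agent.Lib.CIT.Main
import Cfsg.Agent.Lib.CIT.ThreeSystems.Main
import Cfsg.Agent.Lib.CIT.ThreeSystems.Exclude

set_option autoImplicit false
set_option linter.style.haveILetI false
open Cfsg

namespace Cfsg.Agent.S3240

open CfsgLib.CIT CfsgLib.CIT.ThreeSystems

/-- Call a subgroup A of a finite group G strongly self-centralizing if C_G(a) = A for every non-identity a ∈ A. Let G be a finite non-abelian simple group with three pairwise non-conjugate strongly self-centralizing subgroups A₁, A₂, A₃ with [N_G(A₁) : A₁] = 2, [N_G(A₂) : A₂] = [N_G(A₃) : A₃] = 4, |A₁| = n₁ ≥ 5, |A₂| = n₂ > 5, |A₃| = n₃ > 5, such that |G| ≤ 3 n₁² n₂² n₃² and the Sylow r-subgroups of G are abelian for every odd prime r not dividing n₁n₂n₃. Then G is isomorphic to a Suzuki group. -/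
theorem result {G : Type*} [Group G] [Finite G] [IsSimpleGroup G] (hG : ¬ IsMulCommutative G)
    (A₁ A₂ A₃ : Subgroup G)
    (hsc : ∀ A ∈ ({A₁, A₂, A₃} : Set (Subgroup G)), ∀ a ∈ A, a ≠ 1 → Subgroup.centralizer ({a} : Set G) = A)
    (hnc : ∀ g : G, A₁.map (MulAut.conj g).toMonoidHom ≠ A₂ ∧ A₁.map (MulAut.conj g).toMonoidHom ≠ A₃ ∧ A₂.map (MulAut.conj g).toMonoidHom ≠ A₃)
    (h₁ : A₁.relIndex (Subgroup.normalizer (A₁ : Set G)) = 2) (h₂ : A₂.relIndex (Subgroup.normalizer (A₂ : Set G)) = 4)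
    (h₃ : A₃.relIndex (Subgroup.normalizer (A₃ : Set G)) = 4)
    (hn₁ : 5 ≤ Nat.card ↥A₁) (hn₂ : 5 < Nat.card ↥A₂) (hn₃ : 5 < Nat.card ↥A₃)
    (hord : Nat.card G ≤ 3 * Nat.card ↥A₁ ^ 2 * Nat.card ↥A₂ ^ 2 * Nat.card ↥A₃ ^ 2)
    (hab : ∀ r : ℕ, r.Prime → r ≠ 2 → ¬ r ∣ Nat.card ↥A₁ * Nat.card ↥A₂ * Nat.card ↥A₃ →
      ∀ P : Sylow r G, IsMulCommutative ↥(P : Subgroup G)) :
    Cfsg.Lie.IsoSuzuki G := by
  haveI := Fintype.ofFinite G
  have hrev : ∀ {X Y : Subgroup G} {g : G}, X.map (MulAut.conj g).toMonoidHom = Y →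
      Y.map (MulAut.conj g⁻¹).toMonoidHom = X := by
    intro X Y g h
    rw [← h]
    show cj g⁻¹ (cj g X) = X
    rw [cj_mul, inv_mul_cancel, cj_one]
  let D : Hyp G :=
    { A := ![A₁, A₂, A₃]
      self := fun i a ha h1 => hsc _ (by fin_cases i <;> simp) a ha h1
      sep := fun i j hij g h => by
        fin_cases i <;> fin_cases j
        all_goals first
          | exact hij rfl
          | exact (hnc g).1 h
          | exact (hnc g).2.1 h
          | exact (hnc g).2.2 h
          | exact (hnc g⁻¹).1 (hrev h)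
          | exact (hnc g⁻¹).2.1 (hrev h)
          | exact (hnc g⁻¹).2.2 (hrev h)
      index := fun i => by fin_cases i <;> assumption
      low₀ := hn₁
      low₁ := hn₂
      low₂ := hn₃
      bound := hord }
  have hc : IsCIT G := D.isCIT hab
  rcases simple_cases hG hc with ⟨K, iK, iK', hK, ⟨e⟩⟩ | ⟨K, iK, iK', hK, ⟨e⟩⟩ | h
  · exfalso
    have hcard : Nat.gcd 2 (Fintype.card K - 1) * Nat.card G =
        Fintype.card K * ((Fintype.card K - 1) * (Fintype.card K + 1)) := by
      rw [Nat.card_congr e.toEquiv]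
      exact CfsgLib.Classical.card_psl2
    rcases hK with hK | ⟨n, hn, hK⟩ | ⟨hp, k, hk⟩
    · rw [hK] at hcard
      norm_num at hcard
      exact D.card_ne_small (a := 3) (k := 45) (by norm_num) (by rw [Nat.card_eq_fintype_card]; omega)
        (by norm_num)
    · haveI : Fact (Nat.Prime 2) := ⟨Nat.prime_two⟩
      haveI : CharP K 2 := by
        obtain ⟨q, hq⟩ := CharP.exists K
        haveI := hq
        obtain ⟨m, hqp, hm⟩ := FiniteField.card K q
        have h2 : q = 2 := by
          have hd : q ∣ 2 ^ n := hK ▸ hm ▸ dvd_pow_self q m.pos.ne'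
          exact (Nat.prime_dvd_prime_iff_eq hqp Nat.prime_two).1 (hqp.dvd_of_dvd_pow hd)
        exact h2 ▸ hq
      obtain ⟨y, -, hy⟩ := D.exists_four (i := 1) rfl
      exact psl_two_no_four (e y) (by rw [MulEquiv.orderOf_eq, hy])
    · refine D.card_ne_psl hp hk ?_
      rcases hp.eq_two_or_odd with h2 | h2
      · rw [h2] at hcard
        norm_num at hcard
        exact (D.card_ne_small (a := 1) (k := 3) (by norm_num) (by rw [Nat.card_eq_fintype_card]; omega)
          (by norm_num)).elim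
      · rw [show Nat.gcd 2 (Fintype.card K - 1) = 2 from
          Nat.gcd_eq_left (by omega)] at hcard
        exact hcard
  · exfalso
    have hcard := CfsgLib.Classical.card_psl_mul (F := K) (n := 3) (by norm_num)
    rw [hK, ← Nat.card_congr e.toEquiv] at hcard
    simp [Fin.prod_univ_three] at hcard
    exact D.card_ne_small (a := 6) (k := 315) (by norm_num) (by rw [Nat.card_eq_fintype_card]; omega)
      (by norm_num)
  · exact h

end Cfsg.Agent.S3240
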