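import Cfsg.Statements.S3243
import Cfsg.Agent.Lib.Recog.OrderSix.Main

set_option autoImplicit false
open Cfsg

namespace Cfsg.Agent.S3243

/-- Let G be a finite non-abelian simple group with a single conjugacy class of involutions containing an element t of order 6 with C_G(t) = ⟨t⟩. Then G is isomorphic to L₂(11), L₂(13), L₃(3), the Mathieu group M₁₁, or the Janko group J₁. -/
theorem result {G : Type*} [Group G] [Finite G] [IsSimpleGroup G]
    (hG : ¬ IsMulCommutative G) (h1 : ∀ x y : G, orderOf x = 2 → orderOf y = 2 → IsConj x y)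
    (t : G) (ht : orderOf t = 6) (hC : Subgroup.centralizer ({t} : Set G) = Subgroup.zpowers t) :
    (∃ (F : Type) (_ : Field F) (_ : Fintype F), (Fintype.card F = 11 ∨ Fintype.card F = 13) ∧
        Nonempty (G ≃* Matrix.ProjectiveSpecialLinearGroup (Fin 2) F)) ∨
      (∃ (F : Type) (_ : Field F) (_ : Fintype F), Fintype.card F = 3 ∧ Nonempty (G ≃* Matrix.ProjectiveSpecialLinearGroup (Fin 3) F)) ∨
      Cfsg.Spor.IsoM11 G ∨ Cfsg.Spor.IsoJ1 G := by
  exact CfsgLib.Recog.OrderSix.main hG h1 t ht hC

end Cfsg.Agent.S3243
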