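import Cfsg.Statements.S3244
import Cfsg.Agent.S1293
import Cfsg.Agent.S1327
import Cfsg.Agent.Lib.Invol.Signalizer
import Cfsg.Agent.Lib.Invol.PConstrained
import Cfsg.Agent.Lib.Invol.BrauerSuzuki
import Cfsg.Agent.Lib.Invol.InvertedOdd
import Cfsg.Agent.Lib.Coprime.LBalance.LocalBalance


set_option autoImplicit false
open Cfsg

namespace Cfsg.Agent.S3244

open Subgroup CfsgLib.Coprime

set_option linter.unusedSectionVars false

variable {H : Type*} [Group H] [Finite H]

local notation "C" x:max => centralizer ({x} : Set _)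
local notation "oc" x:max => Cfsg.centralizerPPrimeCore 2 x

theorem le_core_of_layer (hL : Cfsg.pLayer 2 H = ⊥) {a : H}
    (ha : orderOf a = 2) {X : Subgroup H}
    (hX : X ≤ centralizer (zpowers a : Set H)) (hXp : ¬ 2 ∣ Nat.card X)
    (hn : centralizer (zpowers a : Set H) ≤ normalizer (X : Set H)) :
    X ≤ Cfsg.pPrimeCore 2 H := by
  have hp := Nat.prime_two
  have h1 := (Cfsg.Agent.S1293.result 2 hL (zpowers a)
    (IsPGroup.of_card (n := 1) (by rw [Nat.card_zpowers, ha, pow_one]))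
    (by rw [Ne, zpowers_eq_bot]; exact CfsgLib.Invol.invol_ne_one ha)).2
  set N := normalizer (zpowers a : Set H)
  set D := centralizer (zpowers a : Set H)
  have hDN : D ≤ N := centralizer_le_normalizer_self _
  haveI hDn : (D.subgroupOf N).Normal :=
    (normal_subgroupOf_iff_le_normalizer hDN).2 (normalizer_le_normalizer_centralizer _)
  haveI : ((X.subgroupOf N).subgroupOf (D.subgroupOf N)).Normal := by
    refine ⟨fun x hx g => ?_⟩
    rw [mem_subgroupOf, mem_subgroupOf] at hx ⊢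
    exact CfsgLib.Coprime.conj_mem_of_le_normalizer hn g.2 hx
  have hXN : X.subgroupOf N ≤ D.subgroupOf N := comap_mono hX
  have hle : (X.subgroupOf N).subgroupOf (D.subgroupOf N) ≤ Cfsg.pPrimeCore 2 (D.subgroupOf N) := by
    refine CfsgLib.Coprime.le_pPrimeCore_of_not_dvd hp ?_
    rw [Nat.card_congr (subgroupOfEquivOfLe hXN).toEquiv,
      Nat.card_congr (subgroupOfEquivOfLe (hX.trans hDN)).toEquiv]
    exact hXp
  have h2 : X.subgroupOf N ≤ Cfsg.pPrimeCore 2 N := by
    have h3 := map_mono (f := (D.subgroupOf N).subtype) hle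
    rw [map_subgroupOf_eq_of_le hXN,
      CfsgLib.Coprime.pPrimeCore_map_subtype_eq hp] at h3
    exact h3.trans inf_le_left
  have h4 := map_mono (f := N.subtype) h2
  rw [map_subgroupOf_eq_of_le (hX.trans hDN)] at h4
  exact h4.trans h1

theorem oc_le (x : H) : oc x ≤ C x := map_subtype_le _

theorem oc_comm {x y : H} (hy : y ∈ oc x) : Commute y x :=
  (mem_centralizer_singleton_iff.1 (oc_le x hy) : y * x = x * y)

theorem oc_conj {x y : H} (g : H) (hy : y ∈ oc x) : g * y * g⁻¹ ∈ oc (g * x * g⁻¹) := by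
  have h := mem_map_of_mem (MulAut.conj g).toMonoidHom hy
  rwa [CfsgLib.Coprime.map_centralizerPPrimeCore_equiv] at h

theorem oc_conj_of_comm {x y g : H} (hg : Commute g x) (hy : y ∈ oc x) : g * y * g⁻¹ ∈ oc x := by
  have h := oc_conj g hy
  rwa [show g * x * g⁻¹ = x by rw [hg.eq, mul_inv_cancel_right]] at h

theorem odd_card_oc (x : H) : Odd (Nat.card ↥(oc x)) := by
  show Odd (Nat.card ((Cfsg.pPrimeCore 2 ↥(C x)).map (C x).subtype))
  rw [card_map_of_injective (C x).subtype_injective]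
  exact Nat.odd_iff.2 (Nat.two_dvd_ne_zero.1 (CfsgLib.Coprime.pPrimeCore_not_dvd Nat.prime_two))

theorem odd_orderOf_oc {x y : H} (hy : y ∈ oc x) : Odd (orderOf y) :=
  (odd_card_oc x).of_dvd_nat (Subgroup.orderOf_dvd_natCard _ hy)

theorem isPGroup_zpowers_invol {x : H} (hx : orderOf x = 2) : IsPGroup 2 (zpowers x) :=
  IsPGroup.of_card (n := 1) (by rw [Nat.card_zpowers, hx, pow_one])

theorem normalizer_zpowers_invol {x : H} (hx : orderOf x = 2) :
    normalizer (zpowers x : Set H) = C x := by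
  apply le_antisymm
  · intro g hg
    have h : g * x * g⁻¹ ∈ zpowers x := (mem_normalizer_iff.1 hg x).1 (mem_zpowers x)
    obtain ⟨k, hk⟩ := mem_zpowers_iff.1 h
    have hne : g * x * g⁻¹ ≠ 1 := CfsgLib.Invol.invol_ne_one (CfsgLib.Invol.invol_conj hx g)
    rw [← hk, ← zpow_mod_orderOf, hx] at hne
    have hk' : g * x * g⁻¹ = x := by
      rw [← hk, ← zpow_mod_orderOf, hx]
      rcases Int.emod_two_eq_zero_or_one k with h' | h'
      · exact absurd (by norm_num [h']) hne
      · norm_num [h']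
    exact mem_centralizer_singleton_iff.2 (mul_inv_eq_iff_eq_mul.1 hk')
  · rw [← CfsgLib.Coprime.centralizer_zpowers_eq]
    exact centralizer_le_normalizer_self _

theorem balance {a b : H} (ha : orderOf a = 2) (hab : Commute a b)
    (hL : Cfsg.pLayer 2 ↥(C b) = ⊥) {x : H} (hx : x ∈ oc a) (hxb : Commute x b) :
    x ∈ oc b := by
  set X : Subgroup ↥(C b) := (oc a).subgroupOf (C b) with hXd
  have haB : a ∈ C b := mem_centralizer_singleton_iff.2 hab.eq
  have hle : X ≤ Cfsg.pPrimeCore 2 ↥(C b) := by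
    refine le_core_of_layer hL (a := ⟨a, haB⟩) (by rw [← Subgroup.orderOf_coe]; exact ha) ?_ ?_ ?_
    · intro y hy
      rw [CfsgLib.Coprime.centralizer_zpowers_eq, mem_centralizer_singleton_iff]
      exact Subtype.ext (oc_comm (mem_subgroupOf.1 hy)).eq
    · intro hd
      have hsub : Nat.card X ∣ Nat.card ↥(oc a) := card_comap_dvd_of_injective _ _ (C b).subtype_injective
      have := (odd_card_oc a).of_dvd_nat (hd.trans hsub)
      exact absurd this (by decide)
    · intro g hg
      rw [CfsgLib.Coprime.centralizer_zpowers_eq, mem_centralizer_singleton_iff] at hg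
      have hga : Commute (g : H) a := congrArg Subtype.val hg
      refine mem_normalizer_iff.2 fun y => ⟨fun hy => oc_conj_of_comm hga hy, fun hy => ?_⟩
      have h := oc_conj_of_comm hga.inv_left (mem_subgroupOf.1 hy)
      refine mem_subgroupOf.2 ?_
      simpa [mul_assoc] using h
  exact ⟨⟨x, mem_centralizer_singleton_iff.2 hxb.eq⟩, hle (mem_subgroupOf.2 hx), rfl⟩

theorem inverted_of_fixed_trivial (K : Subgroup H) (t : H) (hn : ∀ x ∈ K, t * x * t⁻¹ ∈ K)
    (ht : t * t = 1) (hfix : ∀ x ∈ K, Commute x t → x = 1) :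
    ∀ x ∈ K, t * x * t⁻¹ = x⁻¹ := by
  have hti : t⁻¹ = t := inv_eq_of_mul_eq_one_right ht
  let φ : K → K := fun x => ⟨(x : H)⁻¹ * (t * x * t⁻¹), mul_mem (inv_mem x.2) (hn _ x.2)⟩
  have hinj : Function.Injective φ := by
    intro x y h
    have h' : (x : H)⁻¹ * (t * x * t⁻¹) = (y : H)⁻¹ * (t * y * t⁻¹) := congrArg Subtype.val h
    have h1 : Commute ((y : H) * (x : H)⁻¹) t := by
      show _ * t = t * _
      calc (y : H) * (x : H)⁻¹ * t = y * ((x : H)⁻¹ * (t * x * t⁻¹)) * t * (x : H)⁻¹ := by group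
        _ = y * ((y : H)⁻¹ * (t * y * t⁻¹)) * t * (x : H)⁻¹ := by rw [h']
        _ = t * ((y : H) * (x : H)⁻¹) := by group
    exact Subtype.ext (mul_inv_eq_one.1 (hfix _ (mul_mem y.2 (inv_mem x.2)) h1)).symm
  intro x hx
  obtain ⟨y, hy⟩ := (Finite.injective_iff_surjective.1 hinj) ⟨x, hx⟩
  have hy' : (y : H)⁻¹ * (t * y * t⁻¹) = x := congrArg Subtype.val hy
  rw [← hy']
  have hi : ∀ u : H, t * (t * u) = u := fun u => by rw [← mul_assoc, ht, one_mul]
  simp only [hti, mul_inv_rev, inv_inv, mul_assoc, hi, ht, mul_one]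

theorem exists_maximal_local {T : Subgroup H} (hT : IsPGroup 2 T) (hT1 : T ≠ ⊥) :
    ∃ M : Subgroup H, Cfsg.IsMaximalTwoLocal M ∧ normalizer (T : Set H) ≤ M := by
  obtain ⟨M, hle, hM⟩ := Finite.exists_le_maximal
    (p := fun N : Subgroup H => Cfsg.IsTwoLocal N) (a := normalizer (T : Set H)) ⟨T, hT, hT1, rfl⟩
  exact ⟨M, ⟨hM.1, fun N hN hMN => le_antisymm (hM.2 hN hMN) hMN⟩, hle⟩

theorem maximal_local_data {M : Subgroup H} (hM : Cfsg.IsMaximalTwoLocal M)
    (hcy : IsCyclic ↥(center ↥(Cfsg.pCore 2 ↥M))) :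
    ∃ w : H, orderOf w = 2 ∧ M = C w ∧ ∀ v : H, orderOf v = 2 →
      v ∈ (Cfsg.pCore 2 ↥M).map M.subtype →
      (∀ y ∈ (Cfsg.pCore 2 ↥M).map M.subtype, Commute y v) → v = w := by
  haveI : Fact (Nat.Prime 2) := ⟨Nat.prime_two⟩
  obtain ⟨T, hT, hT1, hMT⟩ := hM.1
  haveI := CfsgLib.Coprime.pCore_normal' (G := ↥M) 2
  haveI := CfsgLib.Coprime.pCore_characteristic (G := ↥M) 2
  set Y := (Cfsg.pCore 2 ↥M).map M.subtype with hY
  have hYp : IsPGroup 2 Y := (CfsgLib.Coprime.pCore_isPGroup 2).map _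
  have hTY : T ≤ Y := by
    have hTM : T ≤ M := hMT ▸ le_normalizer
    haveI : (T.subgroupOf M).Normal := normal_subgroupOf_of_le_normalizer hMT.le
    have := map_mono (f := M.subtype)
      (CfsgLib.Coprime.le_pCore (hT.of_equiv (subgroupOfEquivOfLe hTM).symm))
    rwa [map_subgroupOf_eq_of_le hTM] at this
  have hY1 : Y ≠ ⊥ := fun e => hT1 (le_bot_iff.1 (e ▸ hTY))
  have huniq : ∀ u v : H, orderOf u = 2 → orderOf v = 2 → u ∈ Y → v ∈ Y →
      (∀ y ∈ Y, Commute y u) → (∀ y ∈ Y, Commute y v) → u = v := by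
    intro u v hu hv huY hvY huc hvc
    have lift : ∀ u : H, orderOf u = 2 → u ∈ Y → (∀ y ∈ Y, Commute y u) →
        ∃ c : ↥(center ↥(Cfsg.pCore 2 ↥M)), orderOf c = 2 ∧ (((c : ↥(Cfsg.pCore 2 ↥M)) : ↥M) : H) = u := by
      rintro _ hu ⟨u, huY, rfl⟩ huc
      refine ⟨⟨⟨u, huY⟩, mem_center_iff.2 fun y => Subtype.ext (Subtype.ext
        (huc _ (mem_map_of_mem _ y.2)).eq)⟩, ?_, rfl⟩
      rw [← Subgroup.orderOf_coe, ← Subgroup.orderOf_coe, ← Subgroup.orderOf_coe]
      exact hu
    obtain ⟨a, ha, rfl⟩ := lift u hu huY huc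
    obtain ⟨b, hb, rfl⟩ := lift v hv hvY hvc
    have hab : a = b := by
      classical
      have := Fintype.ofFinite ↥(center ↥(Cfsg.pCore 2 ↥M))
      haveI := hcy
      by_contra hne
      have h1 := CfsgLib.Invol.invol_ne_one ha
      have h2 := CfsgLib.Invol.invol_ne_one hb
      have hc := IsCyclic.card_pow_eq_one_le (α := ↥(center ↥(Cfsg.pCore 2 ↥M))) two_pos
      have hs : ({1, a, b} : Finset _) ⊆
          Finset.univ.filter fun x : ↥(center ↥(Cfsg.pCore 2 ↥M)) => x ^ 2 = 1 := by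
        intro x hx
        simp only [Finset.mem_insert, Finset.mem_singleton] at hx
        refine Finset.mem_filter.2 ⟨Finset.mem_univ _, ?_⟩
        rcases hx with rfl | rfl | rfl
        · exact one_pow 2
        · rw [pow_two]; exact CfsgLib.Invol.invol_mul_self ha
        · rw [pow_two]; exact CfsgLib.Invol.invol_mul_self hb
      have := (Finset.card_le_card hs).trans hc
      rw [Finset.card_eq_three.2 ⟨1, a, b, h1.symm, h2.symm, hne, rfl⟩] at this
      omega
    rw [hab]
  obtain ⟨w, hwY, hw, hYw, -⟩ := CfsgLib.Invol.exists_central_prime_order hYp hY1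
  have hwc : ∀ y ∈ Y, Commute y w := fun y hy => mem_centralizer_singleton_iff.1 (hYw hy)
  have hMY : M ≤ normalizer (Y : Set H) :=
    le_normalizer.trans (CfsgLib.PGroup.le_normalizer_map_char _)
  have hMw : M ≤ C w := by
    intro m hm
    refine mem_centralizer_singleton_iff.2 (mul_inv_eq_iff_eq_mul.1 ?_)
    have hconj := CfsgLib.Invol.invol_conj hw m
    refine huniq _ w hconj hw ((mem_normalizer_iff.1 (hMY hm) w).1 hwY) hwY (fun y hy => ?_) hwc
    have hy' := CfsgLib.Coprime.conj_mem_of_le_normalizer hMY (inv_mem hm) hy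
    rw [inv_inv] at hy'
    have h := (hwc _ hy').map (MulAut.conj m).toMonoidHom
    simpa [mul_assoc] using h
  have hloc : Cfsg.IsTwoLocal (C w) :=
    ⟨zpowers w, isPGroup_zpowers_invol hw,
      by rw [Ne, zpowers_eq_bot]; exact CfsgLib.Invol.invol_ne_one hw,
      (normalizer_zpowers_invol hw).symm⟩
  exact ⟨w, hw, (hM.2 _ hloc hMw).symm, fun v hv hvY hvc => huniq v w hv hw hvY hwY hvc hwc⟩

/-- Say that a finite group G is of characteristic 2 type in the early sense when a Sylow 2-subgroup S of G has a self-centralizing normal subgroup of rank at least 3, S normalizes no nontrivial subgroup of odd order, and every 2-local subgroup of G is 2-constrained. If G is a non-abelian simple group of characteristic 2 type in this sense, then for some maximal 2-local subgroup M of G the centre of O₂(M) is not cyclic. -/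
theorem result {G : Type*} [Group G] [Finite G] [IsSimpleGroup G]
    (hG : ¬ IsMulCommutative G) (S : Sylow 2 G) (A : Subgroup G) (hA : Cfsg.IsSCN (S : Subgroup G) A) (hA3 : ¬ Cfsg.PRankLE 2 2 ↥A)
    (hinv : ∀ X : Subgroup G, Odd (Nat.card ↥X) → (S : Subgroup G) ≤ Subgroup.normalizer (X : Set G) → X = ⊥)
    (hcon : ∀ T : Subgroup G, IsPGroup 2 ↥T → T ≠ ⊥ → Cfsg.IsPConstrained 2 ↥(Subgroup.normalizer (T : Set G))) :
    ∃ M : Subgroup G, Cfsg.IsMaximalTwoLocal M ∧ ¬ IsCyclic ↥(Subgroup.center ↥(Cfsg.pCore 2 ↥M)) := by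
  haveI : Fact (Nat.Prime 2) := ⟨Nat.prime_two⟩
  by_contra hne
  push Not at hne
  -- centralizers of involutions
  have hclean : ∀ x : G, orderOf x = 2 → CfsgLib.Invol.PCons 2 ↥(C x) := fun x hx => by
    have h := CfsgLib.Invol.isPConstrained_iff.1 (hcon (zpowers x) (isPGroup_zpowers_invol hx)
      (by rw [Ne, zpowers_eq_bot]; exact CfsgLib.Invol.invol_ne_one hx))
    rwa [normalizer_zpowers_invol hx] at h
  have hlayer : ∀ x : G, orderOf x = 2 → Cfsg.pLayer 2 ↥(C x) = ⊥ := fun x hx =>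
    (Cfsg.Agent.S1327.result 2).1 (CfsgLib.Invol.isPConstrained_iff.2 (hclean x hx))
  -- involutions centralizing the 2-core of a maximal local with trivial odd core
  have hmax : ∀ M : Subgroup G, Cfsg.IsMaximalTwoLocal M → Cfsg.pPrimeCore 2 ↥M = ⊥ →
      ∃ w : G, orderOf w = 2 ∧ M = C w ∧ ∀ v : G, orderOf v = 2 → v ∈ M →
        (∀ y ∈ (Cfsg.pCore 2 ↥M).map M.subtype, Commute y v) → v = w := by
    intro M hM hO
    obtain ⟨w, hw, hMw, hu⟩ := maximal_local_data hM (hne M hM)
    refine ⟨w, hw, hMw, fun v hv hvM hvc => hu v hv ?_ hvc⟩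
    obtain ⟨T, hT, hT1, hMT⟩ := hM.1
    have hc : CfsgLib.Invol.PClean 2 ↥M := by
      refine CfsgLib.Invol.pClean_of_pCons ?_ hO
      have h := CfsgLib.Invol.isPConstrained_iff.1 (hcon T hT hT1)
      rwa [← hMT] at h
    exact ⟨⟨v, hvM⟩, hc.centralizer_le (mem_centralizer_iff.2 fun y hy => Subtype.ext
      (hvc _ (mem_map_of_mem _ hy)).eq), rfl⟩
  -- the Sylow subgroup and its central involution
  obtain ⟨hAS, hSA, hAc⟩ := hA
  have hAcomm : ∀ x ∈ A, ∀ y ∈ A, Commute x y := fun x hx y hy => by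
    have := (Subgroup.mem_inf.1 (hAc.ge hy)).2
    exact mem_centralizer_iff.1 this x hx
  let E : Subgroup G :=
    { carrier := {x | x ∈ A ∧ x * x = 1}
      one_mem' := ⟨one_mem A, one_mul 1⟩
      mul_mem' := fun {x y} hx hy => ⟨mul_mem hx.1 hy.1, by
        rw [(hAcomm _ hy.1 _ hx.1).mul_mul_mul_comm, hx.2, hy.2, one_mul]⟩
      inv_mem' := fun {x} hx => ⟨inv_mem hx.1, by rw [← mul_inv_rev, hx.2, inv_one]⟩ }
  have hEA : ∀ {e : G}, e ∈ E → e ∈ A := fun h => h.1
  have hEsq : ∀ {e : G}, e ∈ E → e * e = 1 := fun h => h.2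
  have hEcomm : ∀ {a b : G}, a ∈ E → b ∈ E → Commute a b := fun ha hb => hAcomm _ (hEA ha) _ (hEA hb)
  have hEord : ∀ {e : G}, e ∈ E → e ≠ 1 → orderOf e = 2 := fun h h1 =>
    CfsgLib.Invol.invol_iff.2 ⟨hEsq h, h1⟩
  have hEcard : 4 < Nat.card E := by
    obtain ⟨B, -, hBexp, hB⟩ : ∃ B : Subgroup ↥A, IsMulCommutative ↥B ∧ (∀ a ∈ B, a ^ 2 = 1) ∧
        2 ^ 2 < Nat.card B := by
      simp only [Cfsg.PRankLE, not_forall, not_le] at hA3
      obtain ⟨B, h1, h2, h3⟩ := hA3
      exact ⟨B, h1, h2, h3⟩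
    have hle : B.map A.subtype ≤ E := by
      rintro _ ⟨b, hb, rfl⟩
      exact ⟨b.2, by rw [← pow_two]; exact congrArg Subtype.val (hBexp b hb)⟩
    have := card_le_of_le hle
    rw [card_map_of_injective A.subtype_injective] at this
    exact lt_of_lt_of_le hB this
  have hS1 : (S : Subgroup G) ≠ ⊥ := fun e => by
    have hle : E ≤ ⊥ := fun x hx => e ▸ hAS (hEA hx)
    rw [le_bot_iff.1 hle, card_bot] at hEcard
    omega
  obtain ⟨z, hzS, hz, hSz, -⟩ := CfsgLib.Invol.exists_central_prime_order S.2 hS1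
  have hz1 := CfsgLib.Invol.invol_ne_one hz
  have hzz := CfsgLib.Invol.invol_mul_self hz
  -- the centralizer of `z`
  have hCz : Cfsg.IsMaximalTwoLocal (C z) ∧ Cfsg.pPrimeCore 2 ↥(C z) = ⊥ := by
    obtain ⟨M, hM, hle⟩ := exists_maximal_local (isPGroup_zpowers_invol hz)
      (by rw [Ne, zpowers_eq_bot]; exact hz1)
    rw [normalizer_zpowers_invol hz] at hle
    have hO : Cfsg.pPrimeCore 2 ↥M = ⊥ := by
      have h := hinv ((Cfsg.pPrimeCore 2 ↥M).map M.subtype) ?_ ?_
      · exact (map_eq_bot_iff_of_injective _ M.subtype_injective).1 h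
      · rw [card_map_of_injective M.subtype_injective]
        exact Nat.odd_iff.2 (Nat.two_dvd_ne_zero.1 (CfsgLib.Coprime.pPrimeCore_not_dvd Nat.prime_two))
      · haveI := CfsgLib.Coprime.pPrimeCore_characteristic (G := ↥M) 2
        exact (hSz.trans hle).trans (le_normalizer.trans (CfsgLib.PGroup.le_normalizer_map_char _))
    obtain ⟨w, hw, hMw, hu⟩ := hmax M hM hO
    have hzw : z = w := by
      refine hu z hz (hle (hSz hzS)) fun y hy => ?_
      haveI := CfsgLib.Coprime.pCore_characteristic (G := ↥M) 2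
      have hSN : (S : Subgroup G) ≤ normalizer (((Cfsg.pCore 2 ↥M).map M.subtype : Subgroup G) : Set G) :=
        (hSz.trans hle).trans (le_normalizer.trans (CfsgLib.PGroup.le_normalizer_map_char _))
      have hsup := IsPGroup.to_sup_of_normal_right' S.2 ((CfsgLib.Coprime.pCore_isPGroup (G := ↥M) 2).map M.subtype) hSN
      have heq := S.is_maximal' hsup le_sup_left
      exact mem_centralizer_singleton_iff.1 (hSz (heq.le (mem_sup_right hy)))
    subst hzw
    rw [hMw] at hM hO
    exact ⟨hM, hO⟩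
  have hocz : oc z = ⊥ := by
    show (Cfsg.pPrimeCore 2 ↥(C z)).map (C z).subtype = ⊥
    rw [hCz.2, Subgroup.map_bot]
  have hcentral : ∀ v : G, orderOf v = 2 → (∀ s ∈ S, Commute s v) → v = z := by
    intro v hv hvc
    obtain ⟨w, hw, hMw, hu⟩ := hmax _ hCz.1 hCz.2
    haveI := CfsgLib.Coprime.pCore_characteristic (G := ↥(C z)) 2
    have hSN : (S : Subgroup G) ≤ normalizer (((Cfsg.pCore 2 ↥(C z)).map (C z).subtype : Subgroup G) : Set G) :=
      hSz.trans (le_normalizer.trans (CfsgLib.PGroup.le_normalizer_map_char _))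
    have heq := S.is_maximal' (IsPGroup.to_sup_of_normal_right' S.2
      ((CfsgLib.Coprime.pCore_isPGroup (G := ↥(C z)) 2).map (C z).subtype) hSN) le_sup_left
    have hvz : Commute z v := hvc z hzS
    rw [hu v hv (mem_centralizer_singleton_iff.2 hvz.symm.eq) fun y hy => hvc y (heq.le (mem_sup_right hy)),
      hu z hz (mem_centralizer_singleton_iff.2 rfl) fun y hy => mem_centralizer_singleton_iff.1
        (map_subtype_le (Cfsg.pCore 2 ↥(C z)) hy)]
  have hSA' : ∀ s ∈ (S : Subgroup G), ∀ e ∈ E, s * e * s⁻¹ ∈ E := fun s hs e he =>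
    ⟨CfsgLib.Coprime.conj_mem_of_le_normalizer hSA hs (hEA he), by rw [conj_mul, hEsq he, mul_one, mul_inv_cancel]⟩
  have hzA : z ∈ A := hAc.le (Subgroup.mem_inf.2 ⟨hzS, mem_centralizer_iff.2 fun a ha =>
    mem_centralizer_singleton_iff.1 (hSz (hAS ha))⟩)
  have hzE : z ∈ E := ⟨hzA, hzz⟩
  -- `z` inverts the cores
  have hinvert : ∀ w : G, orderOf w = 2 → Commute w z → ∀ x ∈ oc w, z * x * z⁻¹ = x⁻¹ := by
    intro w hw hwz
    refine inverted_of_fixed_trivial _ z (fun x hx => oc_conj_of_comm hwz.symm hx) hzz fun x hx hxz => ?_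
    have := balance hw hwz (hlayer z hz) hx hxz
    rwa [hocz, mem_bot] at this
  have habel : ∀ w : G, orderOf w = 2 → Commute w z → ∀ x ∈ oc w, ∀ y ∈ oc w, Commute x y := by
    intro w hw hwz x hx y hy
    have h := hinvert w hw hwz _ (mul_mem hx hy)
    rw [← conj_mul, hinvert w hw hwz x hx, hinvert w hw hwz y hy, ← mul_inv_rev] at h
    exact (inv_inj.1 h).symm
  -- splitting by a commuting involution
  have split : ∀ a b : G, orderOf a = 2 → orderOf b = 2 → Commute a z → Commute a b → Commute b z →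
      b ≠ z → ∀ x ∈ oc a, ∃ u v : G, u ∈ oc a ∧ u ∈ oc b ∧ v ∈ oc a ∧ v ∈ oc (b * z) ∧ x * x = u * v := by
    intro a b ha hb haz hab hbz hne' x hx
    have hx' := oc_conj_of_comm hab.symm hx
    have hc := habel a ha haz x hx _ hx'
    have hu : x * (b * x * b⁻¹) ∈ oc a := mul_mem hx hx'
    have hv : x * (b * x * b⁻¹)⁻¹ ∈ oc a := mul_mem hx (inv_mem hx')
    have hbb : b * (b * x * b⁻¹) * b⁻¹ = x := by
      rw [CfsgLib.Invol.invol_inv hb]
      calc b * (b * x * b) * b = b * b * x * (b * b) := by group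
        _ = x := by rw [CfsgLib.Invol.invol_mul_self hb, one_mul, mul_one]
    refine ⟨_, _, hu, balance ha hab (hlayer b hb) hu ?_, hv, balance ha (hab.mul_right haz) (hlayer _ ?_) hv ?_, ?_⟩
    · have : b * (x * (b * x * b⁻¹)) * b⁻¹ = x * (b * x * b⁻¹) := by
        rw [← conj_mul, hbb]; exact hc.eq.symm
      exact (mul_inv_eq_iff_eq_mul.1 this).symm
    · exact CfsgLib.Invol.invol_iff.2 ⟨by rw [hbz.symm.mul_mul_mul_comm, CfsgLib.Invol.invol_mul_self hb, hzz, one_mul],
        fun e => hne' ((mul_eq_one_iff_eq_inv.1 e).trans (CfsgLib.Invol.invol_inv hz))⟩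
    · have h1 : b * (x * (b * x * b⁻¹)⁻¹) * b⁻¹ = (x * (b * x * b⁻¹)⁻¹)⁻¹ := by
        rw [← conj_mul, ← conj_inv, hbb, mul_inv_rev, inv_inv]
      have h2 := hinvert a ha haz _ hv
      refine ((mul_inv_eq_iff_eq_mul.1 ?_).symm : _ * (b * z) = b * z * _)
      rw [mul_inv_rev b z, show ∀ v : G, b * z * v * (z⁻¹ * b⁻¹) = b * (z * v * z⁻¹) * b⁻¹ from fun v => by group,
        h2, ← conj_inv, h1, inv_inv]
    · have := hc.inv_right.eq
      calc x * x = x * x * ((b * x * b⁻¹) * (b * x * b⁻¹)⁻¹) := by rw [mul_inv_cancel, mul_one]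
        _ = x * (x * (b * x * b⁻¹)) * (b * x * b⁻¹)⁻¹ := by group
        _ = x * ((b * x * b⁻¹) * x) * (b * x * b⁻¹)⁻¹ := by rw [hc.eq]
        _ = x * (b * x * b⁻¹) * (x * (b * x * b⁻¹)⁻¹) := by group
  have hsq : ∀ {a x y : G}, x ∈ oc a → Commute (x * x) y → Commute x y := by
    intro a x y hx h
    obtain ⟨m, hm⟩ := odd_orderOf_oc hx
    have h' := h.pow_left (m + 1)
    rwa [← pow_two, ← pow_mul, show 2 * (m + 1) = orderOf x + 1 by omega, pow_succ, pow_orderOf_eq_one,
      one_mul] at h'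
  have hEz : ∀ {e : G}, e ∈ E → Commute e z := fun he => hEcomm he hzE
  have hEne : ∀ {c d : G}, c ∈ E → d ∈ E → d ≠ c → c * d ≠ 1 := fun {c d} hc hd hdc e => hdc (by
    rw [← inv_eq_of_mul_eq_one_right e, inv_eq_of_mul_eq_one_right (hEsq hc)])
  -- the first pair
  have pair : ∀ c ∈ E, c ≠ 1 → c ≠ z → ∀ x ∈ oc c, ∀ y ∈ oc (c * z), Commute x y := by
    intro c hc hc1 hcz x hx y hy
    obtain ⟨d, hd, hd1, hdc, hdz, hdcz⟩ : ∃ d ∈ E, d ≠ 1 ∧ d ≠ c ∧ d ≠ z ∧ d ≠ c * z := by
      by_contra hno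
      push Not at hno
      have hsub : (E : Set G) ⊆ {1, c, z, c * z} := by
        intro d hd
        simp only [Set.mem_insert_iff, Set.mem_singleton_iff]
        rcases eq_or_ne d 1 with h | h
        · exact Or.inl h
        rcases eq_or_ne d c with h' | h'
        · exact Or.inr (Or.inl h')
        rcases eq_or_ne d z with h'' | h''
        · exact Or.inr (Or.inr (Or.inl h''))
        · exact Or.inr (Or.inr (Or.inr (hno d hd h h' h'')))
      have h4 := Set.ncard_le_ncard hsub (Set.toFinite _)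
      have h4' : ({1, c, z, c * z} : Set G).ncard ≤ 4 := by
        refine (Set.ncard_insert_le _ _).trans ?_
        refine Nat.succ_le_succ ((Set.ncard_insert_le _ _).trans ?_)
        refine Nat.succ_le_succ ((Set.ncard_insert_le _ _).trans ?_)
        rw [Set.ncard_singleton]
      have : Nat.card E = (E : Set G).ncard := Nat.card_coe_set_eq _
      omega
    have hczE := mul_mem hc hzE
    have hczo : orderOf (c * z) = 2 := hEord hczE (hEne hc hzE hcz.symm)
    obtain ⟨u, v, hu, hud, hv, hvd, e⟩ := split c d (hEord hc hc1) (hEord hd hd1) (hEz hc)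
      (hEcomm hc hd) (hEz hd) hdz x hx
    obtain ⟨u', v', hu', hud', hv', hvd', e'⟩ := split (c * z) d hczo (hEord hd hd1) (hEz hczE)
      (hEcomm hczE hd) (hEz hd) hdz y hy
    have hdzE := mul_mem hd hzE
    have hdzo : orderOf (d * z) = 2 := hEord hdzE (hEne hd hzE hdz.symm)
    have k1 : Commute u u' := habel d (hEord hd hd1) (hEz hd) u hud u' hud'
    have k2 : Commute v v' := habel _ hdzo (hEz hdzE) v hvd v' hvd'
    have hcd := mul_mem hc hd
    have hcdo : orderOf (c * d) = 2 := hEord hcd (hEne hc hd hdc)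
    have hcdeq : (c * z) * (d * z) = c * d := by
      rw [(hEcomm hzE hd).mul_mul_mul_comm, hzz, mul_one]
    have k3 : Commute u v' := habel _ hcdo (hEz hcd) u
      (balance (hEord hc hc1) (hEcomm hc hcd) (hlayer _ hcdo) hu ((oc_comm hu).mul_right (oc_comm hud))) v'
      (balance hczo (hEcomm hczE hcd) (hlayer _ hcdo) hv'
        (hcdeq ▸ (oc_comm hv').mul_right (oc_comm hvd')))
    have hcdz := mul_mem hc hdzE
    have hcdzo : orderOf (c * (d * z)) = 2 := hEord hcdz (hEne hc hdzE fun e => hdcz (by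
      rw [← e, mul_assoc, hzz, mul_one]))
    have hcdzeq : c * z * d = c * (d * z) := by rw [mul_assoc, (hEcomm hzE hd).eq]
    have k4 : Commute v u' := habel _ hcdzo (hEz hcdz) v
      (balance (hEord hc hc1) (hEcomm hc hcdz) (hlayer _ hcdzo) hv ((oc_comm hv).mul_right (oc_comm hvd))) u'
      (balance hczo (hEcomm hczE hcdz) (hlayer _ hcdzo) hu'
        (hcdzeq ▸ (oc_comm hu').mul_right (oc_comm hud')))
    refine hsq hx (hsq hy ?_).symm
    rw [e, e']
    exact ((k1.mul_right k3).mul_left (k4.mul_right k2)).symm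
  have allpairs : ∀ a ∈ E, a ≠ 1 → ∀ c ∈ E, c ≠ 1 → ∀ x ∈ oc a, ∀ y ∈ oc c, Commute x y := by
    intro a ha ha1 c hc hc1 x hx y hy
    rcases eq_or_ne c z with rfl | hcz
    · rw [hocz, mem_bot] at hy
      rw [hy]
      exact Commute.one_right x
    obtain ⟨u, v, -, huc, -, hvc, e⟩ := split a c (hEord ha ha1) (hEord hc hc1) (hEz ha) (hEcomm ha hc)
      (hEz hc) hcz x hx
    refine hsq hx ?_
    rw [e]
    exact (habel c (hEord hc hc1) (hEz hc) u huc y hy).mul_left (pair c hc hc1 hcz y hy v hvc).symm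
  -- their join is odd, invariant, hence trivial
  let U : Set G := {x | ∃ e ∈ E, e ≠ 1 ∧ x ∈ oc e}
  have hWcomm : ∀ x ∈ closure U, ∀ y ∈ closure U, Commute x y := by
    have h1 : U ⊆ (centralizer U : Set G) := fun x hx => mem_centralizer_iff.2 fun y hy => by
      obtain ⟨a, ha, ha1, hxa⟩ := hx
      obtain ⟨c, hc, hc1, hyc⟩ := hy
      exact (allpairs a ha ha1 c hc hc1 x hxa y hyc).eq.symm
    intro x hx y hy
    have h2 : closure U ≤ centralizer ((closure U : Subgroup G) : Set G) := by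
      rw [centralizer_closure, closure_le]
      exact h1
    exact mem_centralizer_iff.1 (h2 hy) x hx
  have hWodd : ∀ x ∈ closure U, Odd (orderOf x) := by
    intro x hx
    induction hx using closure_induction with
    | mem x hx =>
      obtain ⟨a, -, -, hxa⟩ := hx
      exact odd_orderOf_oc hxa
    | one => rw [orderOf_one]; exact odd_one
    | mul x y hx hy ox oy =>
      exact (ox.mul oy).of_dvd_nat ((hWcomm x hx y hy).orderOf_mul_dvd_mul_orderOf)
    | inv x _ ox => rwa [orderOf_inv]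
  have hW : closure U = ⊥ := by
    refine hinv _ ?_ ?_
    · refine Nat.odd_iff.2 (Nat.two_dvd_ne_zero.1 fun h2 => ?_)
      obtain ⟨t, ht⟩ := exists_prime_orderOf_dvd_card' 2 h2
      have := hWodd _ t.2
      rw [Subgroup.orderOf_coe, ht] at this
      exact absurd this (by decide)
    · refine CfsgLib.Invol.le_normalizer_of_forall_conj fun s hs x hx => ?_
      have : (closure U).map (MulAut.conj s).toMonoidHom ≤ closure U := by
        rw [MonoidHom.map_closure]
        refine closure_mono ?_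
        rintro _ ⟨y, ⟨e, he, he1, hy⟩, rfl⟩
        exact ⟨s * e * s⁻¹, hSA' s hs e he, fun h => he1 (conj_eq_one_iff.1 h), oc_conj s hy⟩
      exact this (mem_map_of_mem _ hx)
  have hocE : ∀ e ∈ E, e ≠ 1 → oc e = ⊥ := fun e he he1 =>
    eq_bot_iff.2 fun x hx => hW.le (subset_closure ⟨e, he, he1, hx⟩)
  -- conjugation into `S` inside `C z`
  have hsylz : ∀ P : Subgroup G, IsPGroup 2 P → P ≤ C z →
      ∃ g ∈ C z, ∀ x ∈ P, g * x * g⁻¹ ∈ (S : Subgroup G) := by
    intro P hP hPz
    obtain ⟨g, hg⟩ := CfsgLib.Invol.exists_conj_le_sylow (hP.of_equiv (subgroupOfEquivOfLe hPz).symm)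
      (S.subtype hSz)
    refine ⟨g, g.2, fun x hx => ?_⟩
    exact mem_subgroupOf.1 (hg ⟨x, hPz hx⟩ (mem_subgroupOf.2 hx))
  -- all cores of involutions commuting with `z` are trivial
  have hoc : ∀ w : G, orderOf w = 2 → Commute w z → oc w = ⊥ := by
    intro w hw hwz
    obtain ⟨g, hg, hgS⟩ := hsylz (zpowers w) (isPGroup_zpowers_invol hw)
      (zpowers_le.2 (mem_centralizer_singleton_iff.2 hwz.eq))
    have hwS := hgS w (mem_zpowers w)
    have hw2 := CfsgLib.Invol.invol_conj hw g
    suffices h : oc (g * w * g⁻¹) = ⊥ by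
      refine eq_bot_iff.2 fun x hx => ?_
      have := oc_conj g hx
      rw [h, mem_bot, conj_eq_one_iff] at this
      rw [this]
      exact one_mem _
    generalize g * w * g⁻¹ = t at hwS hw2
    have htz : Commute t z := mem_centralizer_singleton_iff.1 (hSz hwS)
    let φ : E →* E :=
      { toFun := fun e => ⟨e.1 * (t * e.1 * t⁻¹), mul_mem e.2 (hSA' t hwS _ e.2)⟩
        map_one' := by simp
        map_mul' := fun a b => Subtype.ext (by
          show a.1 * b.1 * (t * (a.1 * b.1) * t⁻¹) = _ * (b.1 * (t * b.1 * t⁻¹))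
          rw [← conj_mul]
          exact (hEcomm b.2 (hSA' t hwS _ a.2)).mul_mul_mul_comm _ _) }
    have hrange : φ.range ≤ φ.ker := by
      rintro _ ⟨e, rfl⟩
      refine MonoidHom.mem_ker.2 (Subtype.ext ?_)
      show e.1 * (t * e.1 * t⁻¹) * (t * (e.1 * (t * e.1 * t⁻¹)) * t⁻¹) = 1
      have hbb : t * (t * e.1 * t⁻¹) * t⁻¹ = e.1 := by
        rw [CfsgLib.Invol.invol_inv hw2]
        calc t * (t * e.1 * t) * t = t * t * e.1 * (t * t) := by group
          _ = e.1 := by rw [CfsgLib.Invol.invol_mul_self hw2, one_mul, mul_one]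
      rw [← conj_mul, hbb, (hEcomm (hSA' t hwS _ e.2) e.2).eq]
      exact hEsq (mul_mem e.2 (hSA' t hwS _ e.2))
    have hker : 2 < Nat.card φ.ker := by
      by_contra hle
      have h1 := Subgroup.card_mul_index φ.ker
      rw [Subgroup.index_ker] at h1
      have h2 := card_le_of_le hrange
      have : Nat.card φ.ker * Nat.card φ.range ≤ 2 * 2 := Nat.mul_le_mul (by omega) (by omega)
      omega
    obtain ⟨e, he, he1, hez⟩ : ∃ e ∈ φ.ker, e.1 ≠ 1 ∧ e.1 ≠ z := by
      by_contra hno
      push Not at hno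
      have hsub : ((φ.ker.map E.subtype : Subgroup G) : Set G) ⊆ {1, z} := by
        rintro _ ⟨e, he, rfl⟩
        rcases eq_or_ne e.1 1 with h | h
        · exact Or.inl h
        · exact Or.inr (hno e he h)
      have h4 := Set.ncard_le_ncard hsub (Set.toFinite _)
      have h4' : ({1, z} : Set G).ncard ≤ 2 :=
        (Set.ncard_insert_le _ _).trans (by rw [Set.ncard_singleton])
      have h5 : Nat.card (φ.ker.map E.subtype) =
          ((φ.ker.map E.subtype : Subgroup G) : Set G).ncard := Nat.card_coe_set_eq _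
      rw [card_map_of_injective E.subtype_injective] at h5
      omega
    have hte : Commute t e.1 := by
      have h : e.1 * (t * e.1 * t⁻¹) = 1 := congrArg Subtype.val (MonoidHom.mem_ker.1 he)
      have h' := (inv_eq_of_mul_eq_one_right h).symm.trans (inv_eq_of_mul_eq_one_right (hEsq e.2))
      exact mul_inv_eq_iff_eq_mul.1 h'
    refine eq_bot_iff.2 fun x hx => ?_
    obtain ⟨u, v, -, hu, -, hv, e'⟩ := split t e.1 hw2 (hEord e.2 he1) htz hte (hEz e.2) hez x hx
    rw [hocE _ e.2 he1, mem_bot] at hu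
    rw [hocE _ (mul_mem e.2 hzE) (hEne e.2 hzE hez.symm), mem_bot] at hv
    rw [hu, hv, mul_one] at e'
    exact mem_bot.2 (CfsgLib.Invol.eq_one_of_odd_of_mul_self (odd_orderOf_oc hx) e')
  -- the only maximal centralizer of an involution commuting with `z`
  have hclaim : ∀ w : G, orderOf w = 2 → Commute w z → Cfsg.IsMaximalTwoLocal (C w) → w = z := by
    by_contra hno
    push Not at hno
    obtain ⟨w₀, hw₀, hw₀z, hw₀m, hw₀ne⟩ := hno
    let s : Set (G × Subgroup G) := {q | orderOf q.1 = 2 ∧ Commute q.1 z ∧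
      Cfsg.IsMaximalTwoLocal (C q.1) ∧ q.1 ≠ z ∧ IsPGroup 2 q.2 ∧ q.2 ≤ C z ∧ q.2 ≤ C q.1 ∧
      z ∈ q.2 ∧ q.1 ∈ q.2}
    have hs : s.Nonempty := by
      refine ⟨(w₀, zpowers w₀ ⊔ zpowers z), hw₀, hw₀z, hw₀m, hw₀ne, ?_, ?_, ?_,
        mem_sup_right (mem_zpowers z), mem_sup_left (mem_zpowers w₀)⟩
      · refine IsPGroup.to_sup_of_normal_right' (isPGroup_zpowers_invol hw₀) (isPGroup_zpowers_invol hz) ?_
        rw [normalizer_zpowers_invol hz, zpowers_le]
        exact mem_centralizer_singleton_iff.2 hw₀z.eq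
      · exact sup_le (zpowers_le.2 (mem_centralizer_singleton_iff.2 hw₀z.eq))
          (zpowers_le.2 (mem_centralizer_singleton_iff.2 rfl))
      · exact sup_le (zpowers_le.2 (mem_centralizer_singleton_iff.2 rfl))
          (zpowers_le.2 (mem_centralizer_singleton_iff.2 hw₀z.symm.eq))
    obtain ⟨⟨w₁, P₁⟩, h₁, hP₁⟩ := Set.exists_max_image s (fun q => Nat.card q.2) (Set.toFinite s) hs
    obtain ⟨hw₁, hw₁z, hw₁m, hw₁ne, hP₁p, hP₁z, hP₁w, hzP₁, hwP₁⟩ := h₁
    -- move it into `S`
    obtain ⟨g, hg, hgS⟩ := hsylz P₁ hP₁p hP₁z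
    have hgz : g * z * g⁻¹ = z := mul_inv_eq_iff_eq_mul.2 (mem_centralizer_singleton_iff.1 hg)
    have hmapC : ∀ x : G, (C x).map (MulAut.conj g).toMonoidHom = C (g * x * g⁻¹) := by
      intro x
      ext y
      rw [Subgroup.mem_map_equiv, MulAut.conj_symm_apply, mem_centralizer_singleton_iff,
        mem_centralizer_singleton_iff]
      constructor
      · intro h
        calc y * (g * x * g⁻¹) = g * (g⁻¹ * y * g * x) * g⁻¹ := by group
          _ = g * (x * (g⁻¹ * y * g)) * g⁻¹ := by rw [h]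
          _ = g * x * g⁻¹ * y := by group
      · intro h
        calc g⁻¹ * y * g * x = g⁻¹ * (y * (g * x * g⁻¹)) * g := by group
          _ = g⁻¹ * (g * x * g⁻¹ * y) * g := by rw [h]
          _ = x * (g⁻¹ * y * g) := by group
    let P := P₁.map (MulAut.conj g).toMonoidHom
    let w := g * w₁ * g⁻¹
    have hw : orderOf w = 2 := CfsgLib.Invol.invol_conj hw₁ g
    have hPS : P ≤ (S : Subgroup G) := by
      rintro _ ⟨x, hx, rfl⟩
      exact hgS x hx
    have hwP : w ∈ P := ⟨w₁, hwP₁, rfl⟩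
    have hzP : z ∈ P := ⟨z, hzP₁, hgz⟩
    have hwz : Commute w z := mem_centralizer_singleton_iff.1 (hSz (hPS hwP))
    have hPw : P ≤ C w := hmapC w₁ ▸ map_mono hP₁w
    have hwne : w ≠ z := fun e => hw₁ne (by
      have : g * w₁ * g⁻¹ = g * z * g⁻¹ := e.trans hgz.symm
      exact mul_left_cancel (mul_right_cancel this))
    have hPp : IsPGroup 2 P := hP₁p.map _
    have hPcard : ∀ w' : G, orderOf w' = 2 → Commute w' z → Cfsg.IsMaximalTwoLocal (C w') → w' ≠ z →
        ∀ Q : Subgroup G, IsPGroup 2 Q → Q ≤ C z → Q ≤ C w' → z ∈ Q → w' ∈ Q →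
        Nat.card Q ≤ Nat.card P := fun w' a b c d Q e f g' h i => by
      have := hP₁ (w', Q) ⟨a, b, c, d, e, f, g', h, i⟩
      rwa [show Nat.card P = Nat.card P₁ from card_map_of_injective (MulAut.conj g).injective]
    have hwm : Cfsg.IsMaximalTwoLocal (C w) := by
      constructor
      · exact ⟨zpowers w, isPGroup_zpowers_invol hw,
          by rw [Ne, zpowers_eq_bot]; exact CfsgLib.Invol.invol_ne_one hw,
          (normalizer_zpowers_invol hw).symm⟩
      · intro N hN hle
        obtain ⟨T, hT, hT1, rfl⟩ := hN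
        have hN' : Cfsg.IsTwoLocal ((normalizer (T : Set G)).map (MulAut.conj g).symm.toMonoidHom) :=
          ⟨T.map (MulAut.conj g).symm.toMonoidHom, hT.map _,
            fun e => hT1 ((map_eq_bot_iff_of_injective _ (MulAut.conj g).symm.injective).1 e),
            map_equiv_normalizer_eq T _⟩
        have h := hw₁m.2 _ hN' (fun x hx => Subgroup.mem_map_equiv.2 (by
          rw [MulEquiv.symm_symm]
          exact hle ((hmapC w₁).le (mem_map_of_mem _ hx))))
        ext x
        rw [← hmapC w₁, ← h, Subgroup.mem_map_equiv, Subgroup.mem_map_equiv, MulEquiv.symm_symm,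
          MulEquiv.apply_symm_apply]
    by_cases hPS' : (S : Subgroup G) ≤ P
    · exact hwne (hcentral w hw fun s hs => mem_centralizer_singleton_iff.1 (hPw (hPS' hs)))
    -- normalizers grow
    have hgrow : ∀ R : Subgroup G, IsPGroup 2 R → P ≤ R → ¬ R ≤ P →
        Nat.card P < Nat.card ↥(R ⊓ normalizer (P : Set G)) := by
      intro R hR hPR hRP
      have hlt : P < R ⊓ normalizer (P : Set G) := by
        refine lt_of_le_of_ne (le_inf hPR le_normalizer) fun e => hRP ?_
        haveI : Group.IsNilpotent R := hR.isNilpotent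
        by_contra hne'
        have htop : P.subgroupOf R < ⊤ :=
          lt_top_iff_ne_top.2 fun e' => hne' (subgroupOf_eq_top.1 e')
        obtain ⟨x, hxN, hxP⟩ := SetLike.exists_of_lt
          (Group.normalizerCondition_of_isNilpotent (G := R) _ htop)
        refine hxP (mem_subgroupOf.2 (e.ge (Subgroup.mem_inf.2 ⟨x.2, mem_normalizer_iff.2 fun y => ?_⟩)))
        constructor
        · intro hy
          exact (mem_normalizer_iff.1 hxN ⟨y, hPR hy⟩).1 hy
        · intro hy
          have hyR : y ∈ R := by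
            have := mul_mem (mul_mem (inv_mem x.2) (hPR hy)) x.2
            rwa [show (x : G)⁻¹ * ((x : G) * y * (x : G)⁻¹) * (x : G) = y by group] at this
          exact (mem_normalizer_iff.1 hxN ⟨y, hyR⟩).2 hy
      refine lt_of_le_of_ne (card_le_of_le hlt.le) fun e => hlt.ne ?_
      exact eq_of_le_of_card_ge hlt.le e.ge
    have hP1 : P ≠ ⊥ := fun e => hz1 (mem_bot.1 (e ▸ hzP))
    obtain ⟨M, hM, hNM⟩ := exists_maximal_local hPp hP1
    obtain ⟨v, hv, hMv, -⟩ := maximal_local_data hM (hne M hM)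
    rw [hMv] at hM hNM
    have hvz : Commute v z := (mem_centralizer_singleton_iff.1 (hNM (le_normalizer hzP)) : z * v = v * z).symm
    have hNz : normalizer (P : Set G) ≤ C z := by
      by_cases hvne : v = z
      · rw [← hvne]; exact hNM
      exfalso
      set R := (S : Subgroup G) ⊓ normalizer (P : Set G)
      have hRv : R ≤ C v := inf_le_right.trans hNM
      have hsup : IsPGroup 2 ↥(R ⊔ zpowers v) := IsPGroup.to_sup_of_normal_right'
        (S.2.to_le inf_le_left) (isPGroup_zpowers_invol hv) (by rw [normalizer_zpowers_invol hv]; exact hRv)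
      have h1 := hPcard v hv hvz hM hvne (R ⊔ zpowers v) hsup
        (sup_le (inf_le_left.trans hSz) (zpowers_le.2 (mem_centralizer_singleton_iff.2 hvz.eq)))
        (sup_le hRv (zpowers_le.2 (mem_centralizer_singleton_iff.2 rfl)))
        (mem_sup_left (Subgroup.mem_inf.2 ⟨hzS, le_normalizer hzP⟩)) (mem_sup_right (mem_zpowers v))
      have h2 : Nat.card P < Nat.card R := hgrow S S.2 hPS hPS'
      have h3 := card_le_of_le (le_sup_left : R ≤ R ⊔ zpowers v)
      omega
    have hO : Cfsg.pPrimeCore 2 ↥(C w) = ⊥ :=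
      (map_eq_bot_iff_of_injective _ (C w).subtype_injective).1 (hoc w hw hwz)
    haveI := CfsgLib.Coprime.pCore_characteristic (G := ↥(C w)) 2
    have hPN : P ≤ normalizer (((Cfsg.pCore 2 ↥(C w)).map (C w).subtype : Subgroup G) : Set G) :=
      hPw.trans (le_normalizer.trans (CfsgLib.PGroup.le_normalizer_map_char _))
    set R := P ⊔ (Cfsg.pCore 2 ↥(C w)).map (C w).subtype
    have hR : IsPGroup 2 R := IsPGroup.to_sup_of_normal_right' hPp
      ((CfsgLib.Coprime.pCore_isPGroup (G := ↥(C w)) 2).map (C w).subtype) hPN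
    have hRP : R ≤ P := by
      by_contra hnot
      have h2 := hgrow R hR le_sup_left hnot
      have h1 := hPcard w hw hwz hwm hwne (R ⊓ normalizer (P : Set G)) (hR.to_le inf_le_left)
        (inf_le_right.trans hNz) (inf_le_left.trans (sup_le hPw (map_subtype_le _)))
        (Subgroup.mem_inf.2 ⟨mem_sup_left hzP, le_normalizer hzP⟩)
        (Subgroup.mem_inf.2 ⟨mem_sup_left hwP, le_normalizer hwP⟩)
      omega
    obtain ⟨w', hw', -, hu⟩ := hmax _ hwm hO
    refine hwne ?_
    rw [hu w hw (mem_centralizer_singleton_iff.2 rfl) fun y hy => mem_centralizer_singleton_iff.1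
        (map_subtype_le (Cfsg.pCore 2 ↥(C w)) hy),
      hu z hz (mem_centralizer_singleton_iff.2 hwz.symm.eq) fun y hy => mem_centralizer_singleton_iff.1
        (hSz (hPS (hRP (mem_sup_right hy))))]
  -- `z` is weakly closed in `S`
  have hiso : ∀ g : G, g * z * g⁻¹ ∈ S → g * z * g⁻¹ = z := by
    intro g hgS
    have hz' := CfsgLib.Invol.invol_conj hz g
    set z' := g * z * g⁻¹ with hzd
    have hz'z : Commute z' z := mem_centralizer_singleton_iff.1 (hSz hgS)
    obtain ⟨M, hM, hle⟩ := exists_maximal_local (isPGroup_zpowers_invol hz')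
      (by rw [Ne, zpowers_eq_bot]; exact CfsgLib.Invol.invol_ne_one hz')
    rw [normalizer_zpowers_invol hz'] at hle
    obtain ⟨v, hv, hMv, -⟩ := maximal_local_data hM (hne M hM)
    rw [hMv] at hM hle
    have hvz : v = z := by
      refine hclaim v hv (mem_centralizer_singleton_iff.1 (hle ?_) : z * v = v * z).symm hM
      exact mem_centralizer_singleton_iff.2 hz'z.symm.eq
    rw [hvz] at hle
    have hcard : Nat.card ↥(C z) ≤ Nat.card ↥(C z') := by
      rw [← card_map_of_injective (K := C z) (show Function.Injective (MulAut.conj g).toMonoidHom from (MulAut.conj g).injective)]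
      refine card_le_of_le ?_
      rintro _ ⟨x, hx, rfl⟩
      refine mem_centralizer_singleton_iff.2 ?_
      show g * x * g⁻¹ * (g * z * g⁻¹) = g * z * g⁻¹ * (g * x * g⁻¹)
      rw [conj_mul, conj_mul, mem_centralizer_singleton_iff.1 hx]
    have heq := eq_of_le_of_card_ge hle hcard
    exact hcentral z' hz' fun s hs => mem_centralizer_singleton_iff.1 (heq ▸ hSz hs)
  have hzc := CfsgLib.Invol.zstar_of_weakly_closed S hz hiso
  have hO : Cfsg.pPrimeCore 2 G = ⊥ := by
    haveI := CfsgLib.Coprime.pPrimeCore_characteristic (G := G) 2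
    rcases Subgroup.Normal.eq_bot_or_eq_top (inferInstance : (Cfsg.pPrimeCore 2 G).Normal) with h | h
    · exact h
    · exfalso
      have := CfsgLib.Coprime.pPrimeCore_not_dvd (G := G) Nat.prime_two
      rw [h, card_top] at this
      exact this (hz ▸ orderOf_dvd_natCard z)
  have hzcen : z ∈ center G := mem_center_iff.2 fun g => by
    have h := hzc g
    rw [hO, mem_bot] at h
    exact (mul_inv_eq_iff_eq_mul.1 (mul_inv_eq_one.1 h)).symm
  rcases Subgroup.Normal.eq_bot_or_eq_top (inferInstance : (center G).Normal) with h | h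
  · exact hz1 (mem_bot.1 (h ▸ hzcen))
  · exact hG ⟨⟨fun a b => (mem_center_iff.1 (h ▸ mem_top b) a)⟩⟩

end Cfsg.Agent.S3244
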