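import Cfsg.Statements.S3246
import Cfsg.Agent.Lib.Invol.PConstrained
import Cfsg.Agent.Lib.Invol.NormalFourExists


set_option autoImplicit false
open Cfsg

namespace Cfsg.Agent.S3246

end Cfsg.Agent.S3246

namespace CfsgLib.Invol

open Subgroup

/-- An odd-order subgroup normalized by `S` meets the centralizer of an involution `u ∈ S` trivially,
if that centralizer has self-centralizing 2-core and `u` has at most two conjugates under `S`. -/
theorem eq_bot_of_centralizer_clean {G : Type*} [Group G] [Finite G] (S : Sylow 2 G)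
    {X : Subgroup G} (hSX : (S : Subgroup G) ≤ normalizer (X : Set G)) (hX : Odd (Nat.card X))
    {u : G} (hu : orderOf u = 2) (huS : u ∈ S) (hH : PClean 2 ↥(centralizer ({u} : Set G)))
    (hidx : (centralizer ({⟨u, huS⟩} : Set (S : Subgroup G))).index ∣ 2) :
    X ⊓ centralizer ({u} : Set G) ≤ ⊥ := by
  haveI : Fact (Nat.Prime 2) := ⟨Nat.prime_two⟩
  intro x ⟨hxX, hxH⟩
  set H := centralizer ({u} : Set G) with hHdef
  set Q := (Cfsg.pCore 2 H).map H.subtype with hQ
  haveI := CfsgLib.Coprime.pCore_characteristic (G := H) 2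
  have hNQ : normalizer (H : Set G) ≤ normalizer (Q : Set G) :=
    CfsgLib.PGroup.le_normalizer_map_char _
  have hQp : IsPGroup 2 Q := (CfsgLib.Coprime.pCore_isPGroup 2).map _
  set T := (S : Subgroup G) ⊓ H with hT
  have hxo : (orderOf x).Coprime 2 :=
    (Nat.coprime_two_left.2 hX).symm.coprime_dvd_left (orderOf_dvd_natCard _ hxX)
  -- `T` has index at most two in the 2-group generated by it and `Q`
  have hTQ : IsPGroup 2 ↥(Q ⊔ T) :=
    hQp.to_sup_of_normal_left' (S.2.to_le inf_le_left)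
      ((inf_le_right : T ≤ H).trans (le_normalizer.trans hNQ))
  have hTS : T.relIndex (S : Subgroup G) ∣ 2 := by
    refine (dvd_of_eq ?_).trans hidx
    show (T.subgroupOf (S : Subgroup G)).index = _
    congr 1
    ext y
    simp only [mem_subgroupOf, hT, mem_inf, hHdef, mem_centralizer_singleton_iff, SetLike.coe_mem,
      true_and]
    exact ⟨fun h => Subtype.ext h, fun h => congrArg Subtype.val h⟩
  have hrel : T.relIndex Q ≤ 2 := by
    obtain ⟨R, hR⟩ := hTQ.exists_le_sylow
    have h1 : Nat.card ↥(Q ⊔ T) ≤ Nat.card (S : Subgroup G) := by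
      rw [S.card_eq_multiplicity, ← R.card_eq_multiplicity]
      exact Subgroup.card_le_of_le hR
    have h2 : Nat.card T * T.relIndex (S : Subgroup G) = Nat.card (S : Subgroup G) := by
      rw [← Nat.card_congr (subgroupOfEquivOfLe (inf_le_left : T ≤ (S : Subgroup G))).toEquiv]
      exact (T.subgroupOf (S : Subgroup G)).card_mul_index
    have h3 : Nat.card T * T.relIndex (Q ⊔ T) = Nat.card ↥(Q ⊔ T) := by
      rw [← Nat.card_congr (subgroupOfEquivOfLe (le_sup_right : T ≤ Q ⊔ T)).toEquiv]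
      exact (T.subgroupOf (Q ⊔ T)).card_mul_index
    have h4 : T.relIndex (Q ⊔ T) ≤ T.relIndex (S : Subgroup G) :=
      Nat.le_of_mul_le_mul_left (h3.trans_le (h1.trans h2.ge)) Nat.card_pos
    refine le_trans ?_ (h4.trans (Nat.le_of_dvd two_pos hTS))
    exact Subgroup.relIndex_le_of_le_right le_sup_left (Subgroup.index_ne_zero_of_finite)
  have hxQ : x ∈ normalizer (Q : Set G) := hNQ (le_normalizer hxH)
  have hfix : ∀ q ∈ Q, q ∈ T → x * q * x⁻¹ = q := by
    intro q hq hqT
    have h1 : x * q * x⁻¹ * q⁻¹ ∈ Q :=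
      mul_mem ((Subgroup.mem_normalizer_iff.1 hxQ q).1 hq) (inv_mem hq)
    have h2 : x * q * x⁻¹ * q⁻¹ ∈ X := by
      rw [show x * q * x⁻¹ * q⁻¹ = x * (q * x⁻¹ * q⁻¹) by group]
      exact mul_mem hxX ((Subgroup.mem_normalizer_iff.1 (hSX hqT.1) _).1 (inv_mem hxX))
    exact mul_inv_eq_one.1 (eq_one_of_coprime_of_isPGroup hQp h1
      ((Nat.coprime_two_left.2 hX).symm.coprime_dvd_left (orderOf_dvd_natCard _ h2)))
  have hall : ∀ q ∈ Q, x * q * x⁻¹ = q := by
    intro q hq
    by_cases hqT : q ∈ T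
    · exact hfix q hq hqT
    have h2 : (T.subgroupOf Q).index = 2 := by
      have h0 : (T.subgroupOf Q).index ≤ 2 := hrel
      have h1 : (T.subgroupOf Q).index ≠ 1 := fun e =>
        hqT (mem_subgroupOf.1 ((index_eq_one.1 e).ge (mem_top (⟨q, hq⟩ : Q))))
      have h3 : (T.subgroupOf Q).index ≠ 0 := Subgroup.index_ne_zero_of_finite
      omega
    set q' := x * q * x⁻¹ with hq'
    have hq'Q : q' ∈ Q := (Subgroup.mem_normalizer_iff.1 hxQ q).1 hq
    have hq'T : q' ∉ T := by
      intro h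
      have h5 : q' = q := mul_left_cancel (mul_right_cancel (hfix q' hq'Q h))
      exact hqT (h5 ▸ h)
    have hd : q' * q⁻¹ ∈ T := by
      refine mem_subgroupOf.1 ((Subgroup.mul_mem_iff_of_index_two h2
        (a := (⟨q', hq'Q⟩ : Q)) (b := ⟨q⁻¹, inv_mem hq⟩)).2 (iff_of_false ?_ ?_))
      · exact fun h => hq'T (mem_subgroupOf.1 h)
      · exact fun h => hqT (by simpa using inv_mem (mem_subgroupOf.1 h))
    have hdQ : q' * q⁻¹ ∈ Q := mul_mem hq'Q (inv_mem hq)
    have h1 := CfsgLib.Coprime.eq_one_of_conj_eq_mul (a := x) (x := q) (u := q' * q⁻¹)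
      (by rw [inv_mul_cancel_right]) (hfix _ hdQ hd) ?_
    · exact mul_inv_eq_one.1 h1
    · obtain ⟨k, hk⟩ := hQp.exists_card_eq
      exact (hxo.pow_right k).coprime_dvd_right (hk ▸ orderOf_dvd_natCard _ hdQ)
  have h1 := hH ⟨x, hxH⟩ (by rwa [← Subgroup.orderOf_coe]) (mem_centralizer_iff.2 fun y hy =>
    Subtype.ext (mul_inv_eq_iff_eq_mul.1 (hall _ (mem_map_of_mem H.subtype hy))).symm)
  exact Subgroup.mem_bot.2 (congrArg Subtype.val h1)

end CfsgLib.Invol

namespace Cfsg.Agent.S3246

/-- Let G be a finite group whose Sylow 2-subgroup S has a self-centralizing normal subgroup of rank at least 3. Suppose that either every maximal 2-local subgroup of G is 2-constrained with no nontrivial normal subgroup of odd order, or the centralizer of every involution of G is 2-constrained with no nontrivial normal subgroup of odd order. Then S normalizes no nontrivial subgroup of G of odd order and every 2-local subgroup of G is 2-constrained. -/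
theorem result {G : Type*} [Group G] [Finite G]
    (S : Sylow 2 G) (A : Subgroup G) (hA : Cfsg.IsSCN (S : Subgroup G) A) (hA3 : ¬ Cfsg.PRankLE 2 2 ↥A)
    (h : (∀ M : Subgroup G, Cfsg.IsMaximalTwoLocal M → Cfsg.IsPConstrained 2 ↥M ∧ Cfsg.oddCore ↥M = ⊥) ∨
      (∀ t : G, orderOf t = 2 → Cfsg.IsPConstrained 2 ↥(Subgroup.centralizer ({t} : Set G)) ∧
        Cfsg.oddCore ↥(Subgroup.centralizer ({t} : Set G)) = ⊥)) :
    (∀ X : Subgroup G, Odd (Nat.card ↥X) → (S : Subgroup G) ≤ Subgroup.normalizer (X : Set G) → X = ⊥) ∧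
      (∀ T : Subgroup G, IsPGroup 2 ↥T → T ≠ ⊥ → Cfsg.IsPConstrained 2 ↥(Subgroup.normalizer (T : Set G))) := by
  classical
  haveI : Fact (Nat.Prime 2) := ⟨Nat.prime_two⟩
  have hclean : ∀ t : G, orderOf t = 2 →
      CfsgLib.Invol.PClean 2 ↥(Subgroup.centralizer ({t} : Set G)) := by
    intro t ht
    rcases h with h | h
    · have hloc : Cfsg.IsTwoLocal (Subgroup.normalizer (Subgroup.zpowers t : Set G)) :=
        ⟨_, IsPGroup.of_card (n := 1) (by rw [Nat.card_zpowers, ht, pow_one]),
          fun e => CfsgLib.Invol.invol_ne_one ht (Subgroup.zpowers_eq_bot.1 e), rfl⟩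
      obtain ⟨M, htM, hM⟩ := Finite.exists_le_maximal (p := fun M : Subgroup G => Cfsg.IsTwoLocal M)
        hloc
      obtain ⟨hc, hO⟩ := h M ⟨hM.prop, fun N hN hle => le_antisymm (hM.2 hN hle) hle⟩
      have hz : Subgroup.zpowers t ≤ M := Subgroup.le_normalizer.trans htM
      refine CfsgLib.Invol.pClean_subgroup_congr ?_ (CfsgLib.Invol.pClean_inf_centralizer
        (CfsgLib.Invol.pClean_of_pCons (CfsgLib.Invol.isPConstrained_iff.1 hc) hO)
        (IsPGroup.of_card (n := 1) (by rw [Nat.card_zpowers, ht, pow_one]) :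
          IsPGroup 2 (Subgroup.zpowers t)) (hz.trans Subgroup.le_normalizer))
      ext x
      simp only [Subgroup.mem_inf, Subgroup.mem_centralizer_singleton_iff]
      constructor
      · rintro ⟨-, hx⟩
        exact (Subgroup.mem_centralizer_iff.1 hx t (Subgroup.mem_zpowers t)).symm
      · intro hx
        have hxc : x ∈ Subgroup.centralizer (Subgroup.zpowers t : Set G) := by
          refine Subgroup.mem_centralizer_iff.2 ?_
          rintro _ ⟨i, rfl⟩
          exact ((show Commute x t from hx).zpow_right i).eq.symm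
        exact ⟨htM (Subgroup.centralizer_le_normalizer _ hxc), hxc⟩
    · exact CfsgLib.Invol.pClean_of_pCons
        (CfsgLib.Invol.isPConstrained_iff.1 (h t ht).1) (h t ht).2
  refine ⟨fun X hX hSX => ?_, fun T hT hT1 => ?_⟩
  swap
  · obtain ⟨x, -, hxo, hTx, hCx⟩ := CfsgLib.Invol.exists_central_prime_order hT hT1
    exact CfsgLib.Invol.isPConstrained_iff.2 (CfsgLib.Invol.pCons_normalizer hT
      (CfsgLib.Invol.pCons_centralizer_of_le (CfsgLib.Invol.pCons_of_pClean (hclean x hxo)) hT hTx hCx))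
  set B := A.subgroupOf (S : Subgroup G) with hB
  haveI hBn : B.Normal := Subgroup.normal_subgroupOf_of_le_normalizer hA.2.1
  have hAab : IsMulCommutative A := ⟨⟨fun a b => Subtype.ext
    (Subgroup.mem_centralizer_iff.1 (hA.2.2.ge b.2).2 a a.2)⟩⟩
  have hBab : IsMulCommutative B := ⟨⟨fun a b => Subtype.ext (Subtype.ext (congrArg (Subtype.val : A → G)
    (hAab.is_comm.comm (⟨_, Subgroup.mem_subgroupOf.1 a.2⟩ : A) ⟨_, Subgroup.mem_subgroupOf.1 b.2⟩)))⟩⟩
  have hBc : ¬ IsCyclic B := by
    intro hc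
    haveI : IsCyclic A := isCyclic_of_surjective (Subgroup.subgroupOfEquivOfLe hA.1).toMonoidHom
      (MulEquiv.surjective _)
    refine hA3 fun E _ hE => ?_
    obtain ⟨q, hq⟩ := IsCyclic.exists_generator (α := E)
    rw [← orderOf_eq_card_of_forall_mem_zpowers hq]
    calc orderOf q ≤ 2 := Nat.le_of_dvd two_pos
          (orderOf_dvd_of_pow_eq_one (Subtype.ext (hE _ q.2)))
      _ ≤ 2 ^ 2 := by norm_num
  obtain ⟨U, hUn, hU4, hU2⟩ := CfsgLib.Invol.exists_normal_four_of_abelian S.2 hBn hBab hBc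
  haveI := hUn
  have hidx := CfsgLib.Invol.relIndex_centralizer_four S.2 U hU4
  set V := U.map (S : Subgroup G).subtype with hV
  haveI hUc : IsMulCommutative U := ⟨⟨fun a b => by
    have ha : (a : (S : Subgroup G)) * a = 1 := by rw [← pow_two]; exact hU2 _ a.2
    have hb : (b : (S : Subgroup G)) * b = 1 := by rw [← pow_two]; exact hU2 _ b.2
    have hab : ((a : (S : Subgroup G)) * b) * (a * b) = 1 := by
      rw [← pow_two]; exact hU2 _ (mul_mem a.2 b.2)
    refine Subtype.ext ?_
    have h1 := inv_eq_of_mul_eq_one_left hab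
    rw [mul_inv_rev, inv_eq_of_mul_eq_one_left ha, inv_eq_of_mul_eq_one_left hb] at h1
    exact h1.symm⟩⟩
  haveI hVc : IsMulCommutative V := Subgroup.map_isMulCommutative U _
  have hVS : V ≤ (S : Subgroup G) := Subgroup.map_subtype_le U
  have hVcard : Nat.card V = 4 := by
    rw [hV, Subgroup.card_map_of_injective (Subgroup.subtype_injective _), hU4]
  have hVcyc : ¬ IsCyclic V := by
    intro hc
    obtain ⟨⟨_, u, hu, rfl⟩, hq⟩ := IsCyclic.exists_generator (α := V)
    have h1 := orderOf_eq_card_of_forall_mem_zpowers hq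
    rw [hVcard] at h1
    have h2 : orderOf (⟨(S : Subgroup G).subtype u, Subgroup.mem_map_of_mem _ hu⟩ : V) ∣ 2 := by
      refine orderOf_dvd_of_pow_eq_one (Subtype.ext ?_)
      show ((u : (S : Subgroup G)) : G) ^ 2 = 1
      exact congrArg Subtype.val (hU2 u hu)
    rw [h1] at h2
    exact absurd (Nat.le_of_dvd two_pos h2) (by norm_num)
  refine le_bot_iff.1 (CfsgLib.Coprime.le_of_centralizers_le (A := V) hVcyc (hVS.trans hSX) ?_ ?_)
  · rw [hVcard, show (4 : ℕ) = 2 ^ 2 by norm_num]
    exact Nat.Coprime.pow_left 2 (Nat.coprime_two_left.2 hX)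
  rintro _ ⟨u, hu, rfl⟩ hu1
  have hu2 : orderOf ((u : (S : Subgroup G)) : G) = 2 :=
    orderOf_eq_prime (congrArg Subtype.val (hU2 u hu)) hu1
  exact CfsgLib.Invol.eq_bot_of_centralizer_clean S hSX hX hu2 u.2 (hclean _ hu2)
    ((Subgroup.index_dvd_of_le (Subgroup.centralizer_le (by simpa using hu))).trans hidx)

end Cfsg.Agent.S3246
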