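import Cfsg.Statements.S3254
import Cfsg.Agent.Lib.Perm.ThreeP.Orbitals

set_option autoImplicit false
open Cfsg

namespace Cfsg.Agent.S3254

/-- Let p > 3 be a prime and G a finite non-abelian simple group acting faithfully and transitively on a set Ω of 3p points, such that the normalizer of a Sylow p-subgroup of G has order 2p. If the action is primitive then p = 5 and G ≅ A₆; if it is imprimitive then p = 2^m + 1 for some m and G ≅ PSL₂(2^m). -/
theorem result {G : Type*} [Group G] [Finite G] [IsSimpleGroup G] (hG : ¬ IsMulCommutative G)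
    (p : ℕ) (hp : p.Prime) (hp3 : 3 < p) {Ω : Type*} [Fintype Ω] [MulAction G Ω] [FaithfulSMul G Ω]
    (htr : MulAction.IsPretransitive G Ω) (hΩ : Fintype.card Ω = 3 * p)
    (P : Sylow p G) (hN : Nat.card ↥(Subgroup.normalizer ((P : Subgroup G) : Set G)) = 2 * p) :
    (MulAction.IsPreprimitive G Ω → p = 5 ∧ Nonempty (G ≃* ↥(alternatingGroup (Fin 6)))) ∧
      (¬ MulAction.IsPreprimitive G Ω → ∃ (F : Type) (_ : Field F) (_ : Fintype F) (m : ℕ), Fintype.card F = 2 ^ m ∧ p = 2 ^ m + 1 ∧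
        Nonempty (G ≃* Matrix.ProjectiveSpecialLinearGroup (Fin 2) F)) := by
  classical
  haveI : Fact p.Prime := ⟨hp⟩
  haveI := htr
  haveI : Fintype G := Fintype.ofFinite G
  have hΩ' : Nat.card Ω = 3 * p := by rw [Nat.card_eq_fintype_card, hΩ]
  have hdvd : p ∣ Nat.card G := by
    obtain ⟨a⟩ : Nonempty Ω := Fintype.card_pos_iff.1 (by rw [hΩ]; have := hp.pos; omega)
    refine (dvd_mul_left p 3).trans ?_
    rw [← hΩ', ← MulAction.index_stabilizer_of_transitive G a]
    exact Subgroup.index_dvd_card _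
  obtain ⟨t, hself, hsq⟩ := CfsgLib.Perm.ThreeP.exists_selfTwo hG hp3 P hdvd hN
  have h : CfsgLib.Perm.ThreeP.Ctx p (P : Subgroup G) t Ω := ⟨hself, hΩ', hsq, hG⟩
  refine ⟨fun hprim => ?_, fun hnp => CfsgLib.Perm.ThreeP.imprimitive hself.five hΩ' P hN hnp⟩
  haveI := hprim
  exact CfsgLib.Perm.ThreeP.primitive h fun u hu hfree h2 χ θ hne hχ hθ hπ hχ1 hθ1 hχu hθu =>
    CfsgLib.Perm.ThreeP.rankThree hΩ' hu hfree h2 hne hχ hθ hπ hχ1 hθ1 hχu hθu

end Cfsg.Agent.S3254
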