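import Cfsg.Statements.S3260
import Cfsg.Agent.Lib.CFun.CoprimeQuad.Reduce

set_option autoImplicit false
open Cfsg

namespace Cfsg.Agent.S3260

open scoped MatrixGroups
open Subgroup

/-- The projective groups over isomorphic rings are isomorphic. -/
theorem involves_congr_ring {F K : Type*} [CommRing F] [CommRing K] (e : F ≃+* K) {G : Type*} [Group G]
    (h : Cfsg.Involves (Matrix.ProjectiveSpecialLinearGroup (Fin 2) F) G) :
    Cfsg.Involves (Matrix.ProjectiveSpecialLinearGroup (Fin 2) K) G := by
  obtain ⟨H, R, hn, ⟨i⟩⟩ := h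
  let m : SL(2, F) ≃* SL(2, K) :=
    { (Matrix.SpecialLinearGroup.map (n := Fin 2) e.toRingHom) with
      invFun := Matrix.SpecialLinearGroup.map (n := Fin 2) e.symm.toRingHom
      left_inv := fun g => by ext i j; simp
      right_inv := fun g => by ext i j; simp }
  have hc : (Subgroup.center SL(2, F)).map m.toMonoidHom = Subgroup.center SL(2, K) := by
    ext x
    constructor
    · rintro ⟨y, hy, rfl⟩
      rw [Subgroup.mem_center_iff]
      intro g
      have := congrArg m (Subgroup.mem_center_iff.1 hy (m.symm g))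
      simpa using this
    · intro hx
      refine ⟨m.symm x, Subgroup.mem_center_iff.2 fun g => m.injective ?_, m.apply_symm_apply x⟩
      simpa using Subgroup.mem_center_iff.1 hx (m g)
  exact ⟨H, R, hn, ⟨i.trans (QuotientGroup.congr _ _ m hc)⟩⟩

/-- Let p ≥ 5 be a prime, G a finite p-constrained group with Sylow p-subgroup S, and A a group of automorphisms of G of order coprime to |G| whose fixed-point subgroup has no section isomorphic to PSL₂(p). Then G = O_{p'}(G) · N_G(Z(J(S))), where J(S) is the subgroup generated by the abelian subgroups of S of largest order. -/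
theorem result {G : Type*} [Group G] [Finite G] (p : ℕ) [hp : Fact p.Prime] (hp5 : 5 ≤ p)
    (hG : Cfsg.IsPConstrained p G) (S : Sylow p G) (A : Subgroup (MulAut G)) (hA : (Nat.card ↥A).Coprime (Nat.card G))
    (C : Subgroup G) (hC : ∀ g : G, g ∈ C ↔ ∀ a ∈ A, a g = g)
    {F : Type*} [Field F] [Fintype F] (hF : Fintype.card F = p)
    (hfix : ¬ Cfsg.Involves (Matrix.ProjectiveSpecialLinearGroup (Fin 2) F) ↥C) :
    Cfsg.pPrimeCore p G ⊔ Subgroup.normalizer (Cfsg.centerThompsonAOf (S : Subgroup G) : Set G) = ⊤ := by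
  classical
  have hpp := hp.out
  by_cases hpG : p ∣ Nat.card G
  swap
  · refine eq_top_iff.2 (le_sup_of_le_left (CfsgLib.Coprime.le_pPrimeCore_of_not_dvd hpp ?_))
    rwa [Subgroup.card_top]
  haveI : Finite A := inferInstance
  let φ : A →* MulAut G := A.subtype
  let Γ := SemidirectProduct G A φ
  haveI : Finite Γ := Finite.of_equiv _ SemidirectProduct.equivProd.symm
  let ι : G →* Γ := SemidirectProduct.inl
  let κ : A →* Γ := SemidirectProduct.inr
  have hι : Function.Injective ι := SemidirectProduct.inl_injective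
  set Gt := ι.range with hGt
  set At := κ.range with hAt
  haveI : Gt.Normal := by
    rw [hGt, show ι.range = (SemidirectProduct.rightHom : Γ →* A).ker from
      SemidirectProduct.range_inl_eq_ker_rightHom]
    infer_instance
  have hGc : Nat.card Gt = Nat.card G := (Nat.card_congr (MonoidHom.ofInjective hι).toEquiv).symm
  have hAc : Nat.card At = Nat.card A :=
    (Nat.card_congr (MonoidHom.ofInjective (f := κ) SemidirectProduct.inr_injective).toEquiv).symm
  have htop : Gt ⊔ At = ⊤ := eq_top_iff.2 fun x _ => by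
    rw [← SemidirectProduct.inl_left_mul_inr_right x]
    exact Subgroup.mul_mem_sup ⟨_, rfl⟩ ⟨_, rfl⟩
  have hcop' : (Nat.card At).Coprime (Nat.card Gt) := by rw [hGc, hAc]; exact hA
  have hPC : CfsgLib.Invol.PCons p ↥Gt :=
    CfsgLib.Invol.pCons_congr (MonoidHom.ofInjective hι) (CfsgLib.Invol.isPConstrained_iff.1 hG)
  have hfix' : ¬ Cfsg.Involves (Matrix.ProjectiveSpecialLinearGroup (Fin 2) (ZMod p))
      ↥(Gt ⊓ Subgroup.centralizer (At : Set Γ)) := by
    intro h
    refine hfix (involves_congr_ring (ZMod.ringEquivOfPrime F hpp hF) ?_)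
    have hle : ∀ x : ↥(Gt ⊓ Subgroup.centralizer (At : Set Γ)), ∃ g ∈ C, ι g = x := by
      rintro ⟨x, ⟨g, rfl⟩, hx⟩
      refine ⟨g, (hC g).2 fun a ha => ?_, rfl⟩
      have h1 := Subgroup.mem_centralizer_iff.1 hx (κ ⟨a, ha⟩) ⟨_, rfl⟩
      refine hι ?_
      show (SemidirectProduct.inl (φ ⟨a, ha⟩ g) : Γ) = SemidirectProduct.inl g
      rw [SemidirectProduct.inl_aut, map_inv]
      exact mul_inv_eq_iff_eq_mul.2 h1
    let j : ↥(Gt ⊓ Subgroup.centralizer (At : Set Γ)) →* C :=
      { toFun := fun x => ⟨(hle x).choose, (hle x).choose_spec.1⟩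
        map_one' := Subtype.ext (hι (by rw [(hle 1).choose_spec.2]; simp))
        map_mul' := fun x y => Subtype.ext (hι (by
          rw [(hle (x * y)).choose_spec.2, Subgroup.coe_mul, Subgroup.coe_mul, map_mul, (hle x).choose_spec.2,
            (hle y).choose_spec.2])) }
    have hj : Function.Injective j := fun x y hxy => by
      have h2 := congrArg (fun c : C => ι (c : G)) hxy
      refine Subtype.ext ?_
      rw [← (hle x).choose_spec.2, ← (hle y).choose_spec.2]
      exact h2
    exact CfsgLib.Fusion.involves_of_injective j hj h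
  let S' : Sylow p Γ := Sylow.ofCard ((S : Subgroup G).map ι) (by
    rw [Subgroup.card_map_of_injective hι, S.card_eq_multiplicity, SemidirectProduct.card,
      Nat.factorization_mul Nat.card_pos.ne' Nat.card_pos.ne', Finsupp.add_apply,
      Nat.factorization_eq_zero_of_not_dvd (hpp.coprime_iff_not_dvd.1
        ((hA.coprime_dvd_right hpG).symm)), add_zero])
  have hN := CfsgLib.CoprimeQuad.zj_normal_of_operators hp5 Gt At htop hcop' (by rwa [hGc]) hPC hfix' S'
  set Z := Cfsg.centerThompsonAOf (S : Subgroup G) with hZ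
  have hZ' : Cfsg.centerThompsonAOf (S' : Subgroup Γ) = Z.map ι := by
    have h1 := CfsgLib.Fusion.map_zjFun (S : Subgroup G).subtype (S : Subgroup G).subtype_injective
    have h2 := CfsgLib.Fusion.map_zjFun (ι.comp (S : Subgroup G).subtype)
      (hι.comp (S : Subgroup G).subtype_injective)
    rw [← Subgroup.map_map, h1, Subgroup.range_subtype, MonoidHom.range_comp, Subgroup.range_subtype] at h2
    exact h2.symm
  rw [hZ'] at hN
  set K := Cfsg.pPrimeCore p Γ with hK
  haveI : K.Normal := Subgroup.sSup_normal _ fun _ h => h.1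
  set O := Cfsg.pPrimeCore p G with hO
  haveI : O.Normal := Subgroup.sSup_normal _ fun _ h => h.1
  have hKO : K.comap ι ≤ O := CfsgLib.Coprime.le_pPrimeCore_of_not_dvd hpp fun h =>
    CfsgLib.Coprime.pPrimeCore_not_dvd (G := Γ) hpp
      (h.trans (Subgroup.card_comap_dvd_of_injective K ι hι))
  set π := QuotientGroup.mk' O with hπ
  have hZn : (Z.map π).Normal := by
    have h1 := (hN.comap ι).map π (QuotientGroup.mk'_surjective O)
    convert h1 using 1
    refine le_antisymm (Subgroup.map_mono fun z hz => Subgroup.mem_comap.2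
      (Subgroup.mem_sup_right ⟨z, hz, rfl⟩)) ?_
    rintro _ ⟨x, hx, rfl⟩
    obtain ⟨k, hk, z, hz, hkz⟩ := Subgroup.mem_sup_of_normal_left.1 (Subgroup.mem_comap.1 hx)
    obtain ⟨z, hz', rfl⟩ := hz
    refine ⟨z, hz', ?_⟩
    have h3 : x * z⁻¹ ∈ O := hKO (Subgroup.mem_comap.2 (by
      rw [map_mul, map_inv, ← hkz, mul_inv_cancel_right]; exact hk))
    exact QuotientGroup.eq.2 (by
      have := Subgroup.Normal.conj_mem inferInstance _ h3 z⁻¹
      simpa [mul_assoc] using this)
  refine eq_top_iff.2 fun g _ => ?_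
  obtain ⟨n, hn, hne⟩ := CfsgLib.Fusion.normalizer_map_le (p := p) O
    (CfsgLib.Coprime.pPrimeCore_not_dvd hpp) (X := Z) (S.2.to_le (inf_le_left.trans (Subgroup.map_subtype_le _)))
    (show π g ∈ Subgroup.normalizer (Z.map π : Set (G ⧸ O)) by
      rw [Subgroup.normalizer_eq_top]; exact Subgroup.mem_top _)
  have h4 : g * n⁻¹ ∈ O := by
    rw [← QuotientGroup.eq_one_iff]
    show π (g * n⁻¹) = 1
    rw [map_mul, map_inv, hne, mul_inv_cancel]
  have h5 := Subgroup.mul_mem_sup h4 hn
  rwa [inv_mul_cancel_right] at h5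

end Cfsg.Agent.S3260
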