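import Cfsg.Statements.S3265
import Cfsg.Agent.Lib.Perm.OddProductGraph

set_option autoImplicit false
open Cfsg

namespace Cfsg.Agent.S3265

/-- Let n ≥ 5 and let X be a conjugacy class of involutions of the symmetric group of degree n. The graph on X joining two distinct involutions whose product has odd order is connected and has diameter exactly 2. -/
theorem result (n : ℕ) (hn : 5 ≤ n) (t : Equiv.Perm (Fin n)) (ht : orderOf t = 2) :
    (SimpleGraph.fromRel fun x y : {x : Equiv.Perm (Fin n) // IsConj t x} =>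
        Odd (orderOf (x.1 * y.1))).Connected ∧
      (SimpleGraph.fromRel fun x y : {x : Equiv.Perm (Fin n) // IsConj t x} =>
        Odd (orderOf (x.1 * y.1))).diam = 2 := by
  refine CfsgLib.OddProd.diam_two_of _ ?_ ?_
  · rintro ⟨x, hx⟩ ⟨y, hy⟩ hxy hna
    obtain ⟨z, hz, h1, h2⟩ := CfsgLib.OddProd.exists_common ht hx hy (by simp; omega)
    refine ⟨⟨z, hz⟩, ?_, ?_⟩
    · refine ⟨fun e => hna ⟨hxy, ?_⟩, Or.inl h1⟩
      have e' : x = z := congrArg Subtype.val e
      subst e'; exact Or.inr h2
    · refine ⟨fun e => hna ⟨hxy, ?_⟩, Or.inr h2⟩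
      have e' : z = y := congrArg Subtype.val e
      subst e'; exact Or.inl h1
  · obtain ⟨s, hs, hne, hcomm⟩ := CfsgLib.OddProd.exists_commuting ht (by simpa using hn)
    refine ⟨⟨t, IsConj.refl t⟩, ⟨s, hs⟩, fun e => hne (congrArg Subtype.val e).symm, ?_⟩
    have hs2 : s * s = 1 := by
      obtain ⟨g, rfl⟩ := isConj_iff.1 hs
      rw [show g * t * g⁻¹ * (g * t * g⁻¹) = g * (t * t) * g⁻¹ by group, ← pow_two t, ← ht,
        pow_orderOf_eq_one, mul_one, mul_inv_cancel]
    have ht2 : t * t = 1 := by rw [← pow_two, ← ht, pow_orderOf_eq_one]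
    have h : ∀ a b : Equiv.Perm (Fin n), a * a = 1 → b * b = 1 → Commute a b → a ≠ b →
        ¬ Odd (orderOf (a * b)) := fun a b ha hb hab hne' => by
      have : orderOf (a * b) = 2 := orderOf_eq_prime
        (by rw [hab.mul_pow, pow_two, pow_two, ha, hb, one_mul])
        (fun h => hne' ((eq_inv_of_mul_eq_one_left h).trans (inv_eq_of_mul_eq_one_right hb)))
      rw [this]; decide
    rintro ⟨-, h1 | h1⟩
    · exact h t s ht2 hs2 hcomm hne.symm h1
    · exact h s t hs2 ht2 hcomm.symm hne h1

end Cfsg.Agent.S3265
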