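import Cfsg.Statements.S3266
import Cfsg.Agent.Lib.Perm.OddProductPSL

set_option autoImplicit false
open Cfsg

namespace Cfsg.Agent.S3266

/-- Let F be a finite field with at least 4 elements and let X be a conjugacy class of involutions of PSL(2, F). The graph on X joining two distinct involutions whose product has odd order is connected and has diameter exactly 2. -/
theorem result {F : Type*} [Field F] [Fintype F] (hF : 4 ≤ Fintype.card F)
    (t : Matrix.ProjectiveSpecialLinearGroup (Fin 2) F) (ht : orderOf t = 2) :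
    (SimpleGraph.fromRel fun x y : {x : Matrix.ProjectiveSpecialLinearGroup (Fin 2) F // IsConj t x} =>
        Odd (orderOf (x.1 * y.1))).Connected ∧
      (SimpleGraph.fromRel fun x y : {x : Matrix.ProjectiveSpecialLinearGroup (Fin 2) F // IsConj t x} =>
        Odd (orderOf (x.1 * y.1))).diam = 2 := by
  have hinv : ∀ s, IsConj t s → orderOf s = 2 := fun s hs => by
    obtain ⟨g, rfl⟩ := isConj_iff.1 hs
    rw [show g * t * g⁻¹ = MulAut.conj g t from rfl, MulEquiv.orderOf_eq, ht]
  have hswap : ∀ a b : Matrix.ProjectiveSpecialLinearGroup (Fin 2) F, Odd (orderOf (a * b)) →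
      Odd (orderOf (b * a)) := fun a b h => by
    rwa [show b * a = MulAut.conj b (a * b) by simp [MulAut.conj_apply, mul_assoc], MulEquiv.orderOf_eq]
  refine CfsgLib.OddProd.diam_two_of _ ?_ ?_
  · rintro ⟨x, hx⟩ ⟨y, hy⟩ hxy hna
    obtain ⟨z, hz, h1, h2⟩ := CfsgLib.OddProdPSL.exists_partner hF (hinv x hx) (hinv y hy)
      fun h => hna ⟨hxy, Or.inl h⟩
    refine ⟨⟨z, CfsgLib.OddProdPSL.isConj_of_invol ht hz⟩, ?_, ?_⟩
    · refine ⟨fun e => hna ⟨hxy, ?_⟩, Or.inl h1⟩
      have e' : x = z := congrArg Subtype.val e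
      subst e'; exact Or.inr h2
    · refine ⟨fun e => hna ⟨hxy, ?_⟩, Or.inr h2⟩
      have e' : z = y := congrArg Subtype.val e
      subst e'; exact Or.inl h1
  · obtain ⟨x, y, hx, hy, hne, hc⟩ := CfsgLib.OddProdPSL.exists_commuting_pair hF
    refine ⟨⟨x, CfsgLib.OddProdPSL.isConj_of_invol ht hx⟩, ⟨y, CfsgLib.OddProdPSL.isConj_of_invol ht hy⟩,
      fun e => hne (congrArg Subtype.val e), ?_⟩
    have h : ¬ Odd (orderOf (x * y)) := by
      have : orderOf (x * y) = 2 := by
        refine orderOf_eq_prime ?_ fun e => hne ?_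
        · rw [hc.mul_pow]
          have e1 := pow_orderOf_eq_one x
          have e2 := pow_orderOf_eq_one y
          rw [hx] at e1
          rw [hy] at e2
          rw [e1, e2, one_mul]
        · exact (eq_inv_of_mul_eq_one_left e).trans (CfsgLib.Invol.invol_inv hy)
      rw [this]; decide
    rintro ⟨-, h1 | h1⟩
    · exact h h1
    · exact h (hswap _ _ h1)

end Cfsg.Agent.S3266
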