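import Cfsg.Statements.S3269
import Cfsg.Agent.Lib.Invol.BrauerSuzuki
import Cfsg.Agent.Lib.Coprime.Core
import Cfsg.Agent.Lib.Fusion.Transfer


set_option autoImplicit false
open Cfsg

namespace Cfsg.Agent.S3269

variable {G : Type*} [Group G]

/-- A decomposition with a quaternion factor and the involution of that factor. -/
private def Dec (S Q R : Subgroup G) (z : G) : Prop :=
  Cfsg.IsInternalDirectProduct Q R S ∧ (∃ n : ℕ, 1 ≤ n ∧ Nonempty (Q ≃* QuaternionGroup (2 ^ n))) ∧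
    z ∈ Q ∧ orderOf z = 2

private theorem split {S Q R : Subgroup G} (h : Cfsg.IsInternalDirectProduct Q R S) {s : G}
    (hs : s ∈ S) : ∃ a ∈ Q, ∃ b ∈ R, s = a * b := by
  obtain ⟨-, -, h3, -, h5⟩ := h
  let f : Q × R →* G := MonoidHom.noncommCoprod Q.subtype R.subtype fun a b => h3 a a.2 b b.2
  have hr : f.range = S := by
    rw [show f.range = Q.subtype.range ⊔ R.subtype.range from MonoidHom.noncommCoprod_range _ _ _,
      Subgroup.range_subtype, Subgroup.range_subtype, h5]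
  rw [← hr] at hs
  obtain ⟨⟨a, b⟩, rfl⟩ := hs
  exact ⟨a, a.2, b, b.2, rfl⟩

private theorem parts {S Q R : Subgroup G} (h : Cfsg.IsInternalDirectProduct Q R S) {a b c d : G}
    (ha : a ∈ Q) (hb : b ∈ R) (hc : c ∈ Q) (hd : d ∈ R) (he : a * b = c * d) : a = c ∧ b = d := by
  have h1 : c⁻¹ * a = d * b⁻¹ := by
    rw [eq_mul_inv_iff_mul_eq, mul_assoc, he, inv_mul_cancel_left]
  have h2 : c⁻¹ * a = 1 := Subgroup.mem_bot.1 (h.2.2.2.1 ▸ Subgroup.mem_inf.2
    ⟨mul_mem (inv_mem hc) ha, h1 ▸ mul_mem hd (inv_mem hb)⟩)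
  have h3 : a = c := (inv_mul_eq_one.1 h2).symm
  exact ⟨h3, mul_left_cancel (h3 ▸ he)⟩

private theorem mul_parts {S Q R : Subgroup G} (h : Cfsg.IsInternalDirectProduct Q R S) {a b c d : G}
    (_ha : a ∈ Q) (hb : b ∈ R) (hc : c ∈ Q) (_hd : d ∈ R) : a * b * (c * d) = a * c * (b * d) := by
  calc a * b * (c * d) = a * (b * c) * d := by group
    _ = a * (c * b) * d := by rw [h.2.2.1 c hc b hb]
    _ = a * c * (b * d) := by group

private theorem Dec.invol {S Q R : Subgroup G} {z : G} (h : Dec S Q R z) : orderOf z = 2 := h.2.2.2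

private theorem Dec.sq_one {S Q R : Subgroup G} {z : G} (h : Dec S Q R z) {x : G} (hx : x ∈ Q)
    (hxx : x * x = 1) : x = 1 ∨ x = z := by
  obtain ⟨-, ⟨m, -, ⟨e⟩⟩, hz, hzo⟩ := h
  rcases CfsgLib.Invol.quaternion_sq_one (q := e ⟨x, hx⟩)
    (by rw [← map_mul, ← map_one e]; exact congrArg e (Subtype.ext hxx)) with h1 | h1
  · exact Or.inl (congrArg Subtype.val (e.injective (h1.trans (map_one e).symm)))
  rcases CfsgLib.Invol.quaternion_sq_one (q := e ⟨z, hz⟩)
    (by rw [← map_mul, ← map_one e]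
        exact congrArg e (Subtype.ext (CfsgLib.Invol.invol_mul_self hzo))) with h2 | h2
  · exact absurd (congrArg Subtype.val (e.injective (h2.trans (map_one e).symm)))
      (CfsgLib.Invol.invol_ne_one hzo)
  · exact Or.inr (congrArg Subtype.val (e.injective (h1.trans h2.symm)))

private theorem Dec.central {S Q R : Subgroup G} {z : G} (h : Dec S Q R z) {x : G} (hx : x ∈ Q)
    (hxx : x * x = 1) {y : G} (hy : y ∈ Q) : x * y = y * x := by
  obtain ⟨-, ⟨m, -, ⟨e⟩⟩, -, -⟩ := h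
  have key : ∀ q, e ⟨x, hx⟩ * q = q * e ⟨x, hx⟩ := by
    intro q
    rcases CfsgLib.Invol.quaternion_sq_one (q := e ⟨x, hx⟩)
      (by rw [← map_mul, ← map_one e]; exact congrArg e (Subtype.ext hxx)) with h1 | h1
    · rw [h1, one_mul, mul_one]
    · rw [h1]
      cases q with
      | a i => rw [QuaternionGroup.a_mul_a, QuaternionGroup.a_mul_a, add_comm]
      | xa i =>
        rw [QuaternionGroup.a_mul_xa, QuaternionGroup.xa_mul_a]
        congr 1
        have : ((2 ^ m : ℕ) : ZMod (2 * 2 ^ m)) + ((2 ^ m : ℕ) : ZMod (2 * 2 ^ m)) = 0 := by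
          rw [← Nat.cast_add, ← two_mul, ZMod.natCast_self]
        linear_combination -this
  have := key (e ⟨y, hy⟩)
  rw [← map_mul, ← map_mul] at this
  exact congrArg Subtype.val (e.injective this)

private theorem Dec.noncomm {S Q R : Subgroup G} {z : G} (h : Dec S Q R z) :
    ¬ ∀ a ∈ Q, ∀ b ∈ Q, a * b = b * a := by
  obtain ⟨-, ⟨m, hm, ⟨e⟩⟩, -, -⟩ := h
  intro hab
  have hall : ∀ q r : QuaternionGroup (2 ^ m), q * r = r * q := fun q r => by
    apply e.symm.injective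
    rw [map_mul, map_mul]
    exact Subtype.ext (hab _ (e.symm q).2 _ (e.symm r).2)
  have h4 := CfsgLib.Invol.quaternion_central_sq (N := 2 ^ m)
    (le_self_pow₀ (by norm_num) (by omega)) (q := .xa 0) (hall _ _) (hall _ _)
  have h2 := orderOf_dvd_of_pow_eq_one (show (QuaternionGroup.xa (0 : ZMod (2 * 2 ^ m))) ^ 2 = 1 by
    rw [pow_two]; exact h4)
  rw [QuaternionGroup.orderOf_xa] at h2
  norm_num at h2

private theorem Dec.inf_eq_bot [Finite G] {S : Sylow 2 G} {Q R T : Subgroup G} {z : G}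
    (h : Dec (S : Subgroup G) Q R z) (hT : z ∉ T) {x : G} (hx : x ∈ Q) (hxT : x ∈ T) : x = 1 := by
  obtain ⟨k, hk⟩ := CfsgLib.Invol.orderOf_pow_two_of_mem (P := S) (a := x) (h.1.1 hx)
  rcases k with _ | k
  · exact orderOf_eq_one_iff.1 (by simpa using hk)
  · have h1 : x ^ 2 ^ k * x ^ 2 ^ k = 1 := by
      rw [← pow_add, ← two_mul, ← pow_succ', ← hk, pow_orderOf_eq_one]
    rcases h.sq_one (pow_mem hx _) h1 with h2 | h2
    · exfalso
      have := Nat.le_of_dvd (by positivity) (orderOf_dvd_of_pow_eq_one h2)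
      rw [hk, pow_succ'] at this
      have : 0 < 2 ^ k := by positivity
      omega
    · exact absurd (h2 ▸ pow_mem hxT _) hT

/-- The involutions of two quaternion factors agree or one lies in the other's complement. -/
private theorem Dec.eq_or_mem [Finite G] {S : Sylow 2 G} {Q R Q' R' : Subgroup G} {z z' : G}
    (h : Dec (S : Subgroup G) Q R z) (h' : Dec (S : Subgroup G) Q' R' z') : z' = z ∨ z' ∈ R := by
  obtain ⟨q, hq, r, hr, he⟩ := split h.1 (h'.1.1 h'.2.2.1)
  by_contra hne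
  rw [not_or] at hne
  have hnR : z' ∉ R := hne.2
  have hnQ : z' ∉ Q := fun hm => by
    rcases h.sq_one hm (CfsgLib.Invol.invol_mul_self h'.invol) with h1 | h1
    · exact CfsgLib.Invol.invol_ne_one h'.invol h1
    · exact hne.1 h1
  refine h'.noncomm fun x hx y hy => ?_
  have hxS := h'.1.1 hx
  obtain ⟨q1, hq1, r1, hr1, hxe⟩ := split h.1 hxS
  obtain ⟨q2, hq2, r2, hr2, hye⟩ := split h.1 (h'.1.1 hy)
  obtain ⟨x', hx', r', hr', hre⟩ := split h'.1 (h.1.2.1 hr1)
  obtain ⟨q3, hq3, r3, hr3, hx'e⟩ := split h.1 (h'.1.1 hx')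
  obtain ⟨q4, hq4, r4, hr4, hr'e⟩ := split h.1 (h'.1.2.1 hr')
  have hq34 : q3 * q4 = 1 := ((parts h.1 (mul_mem hq3 hq4) (mul_mem hr3 hr4) (one_mem _) hr1
    (by rw [one_mul, ← mul_parts h.1 hq3 hr3 hq4 hr4, ← hx'e, ← hr'e, ← hre]))).1
  have h42 : q4 * q2 = q2 * q4 := (parts h.1 (mul_mem hq4 hq2) (mul_mem hr4 hr2) (mul_mem hq2 hq4)
    (mul_mem hr2 hr4) (by
      rw [← mul_parts h.1 hq4 hr4 hq2 hr2, ← mul_parts h.1 hq2 hr2 hq4 hr4, ← hr'e, ← hye]
      exact (h'.1.2.2.1 y hy r' hr').symm)).1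
  have h32 : Commute q3 q2 := by
    rw [eq_inv_of_mul_eq_one_left hq34]
    exact (show Commute q4 q2 from h42).inv_left
  have hxy' : x' * y = y * x' := by
    rw [← mul_inv_eq_one]
    refine h'.inf_eq_bot hnR (mul_mem (mul_mem hx' hy) (inv_mem (mul_mem hy hx'))) ?_
    have : x' * y * (y * x')⁻¹ = r3 * r2 * (r2 * r3)⁻¹ := by
      rw [hx'e, hye, mul_parts h.1 hq3 hr3 hq2 hr2, mul_parts h.1 hq2 hr2 hq3 hr3, h32.eq]
      have hc : Commute (q2 * q3) (r3 * r2 * (r2 * r3)⁻¹) := h.1.2.2.1 _ (mul_mem hq2 hq3) _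
        (mul_mem (mul_mem hr3 hr2) (inv_mem (mul_mem hr2 hr3)))
      calc _ = q2 * q3 * (r3 * r2 * (r2 * r3)⁻¹) * (q2 * q3)⁻¹ := by group
        _ = _ := by rw [hc.eq, mul_inv_cancel_right]
    rw [this]
    exact mul_mem (mul_mem hr3 hr2) (inv_mem (mul_mem hr2 hr3))
  have hr1y : Commute r1 y := by
    rw [hre]
    exact (show Commute x' y from hxy').mul_left (show Commute y r' from h'.1.2.2.1 y hy r' hr').symm
  have h12 : Commute r1 r2 := by
    have h2 : Commute r1 q2 := (show Commute q2 r1 from h.1.2.2.1 q2 hq2 r1 hr1).symm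
    have h3 : r2 = q2⁻¹ * y := by rw [hye, inv_mul_cancel_left]
    rw [h3]; exact h2.inv_right.mul_right hr1y
  rw [← mul_inv_eq_one]
  refine h'.inf_eq_bot hnQ (mul_mem (mul_mem hx hy) (inv_mem (mul_mem hy hx))) ?_
  have : x * y * (y * x)⁻¹ = q1 * q2 * (q2 * q1)⁻¹ := by
    rw [hxe, hye, mul_parts h.1 hq1 hr1 hq2 hr2, mul_parts h.1 hq2 hr2 hq1 hr1, h12.eq]
    group
  rw [this]
  exact mul_mem (mul_mem hq1 hq2) (inv_mem (mul_mem hq2 hq1))

private theorem Dec.conj {S Q R : Subgroup G} {z m : G} (h : Dec S Q R z)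
    (hm : m ∈ Subgroup.normalizer (S : Set G)) :
    Dec S (Q.map (MulAut.conj m).toMonoidHom) (R.map (MulAut.conj m).toMonoidHom) (m * z * m⁻¹) := by
  obtain ⟨⟨h1, h2, h3, h4, h5⟩, ⟨k, hk, ⟨e⟩⟩, hz, hzo⟩ := h
  have hS : S.map (MulAut.conj m).toMonoidHom = S := by
    ext x
    have h := Subgroup.mem_set_normalizer_iff.1 hm (m⁻¹ * x * m)
    rw [show m * (m⁻¹ * x * m) * m⁻¹ = x by group] at h
    rw [Subgroup.mem_map_equiv, MulAut.conj_symm_apply]
    exact h
  refine ⟨⟨hS ▸ Subgroup.map_mono h1, hS ▸ Subgroup.map_mono h2, ?_, ?_, ?_⟩,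
    ⟨k, hk, ⟨(Subgroup.equivMapOfInjective _ _ (MulAut.conj m).injective).symm.trans e⟩⟩,
    ⟨z, hz, by simp⟩, ?_⟩
  · rintro _ ⟨a, ha, rfl⟩ _ ⟨b, hb, rfl⟩
    rw [← map_mul, ← map_mul, h3 a ha b hb]
  · rw [← Subgroup.map_inf _ _ _ (MulAut.conj m).injective, h4, Subgroup.map_bot]
  · rw [← Subgroup.map_sup, h5, hS]
  · rw [← hzo, show m * z * m⁻¹ = MulAut.conj m z from rfl, MulEquiv.orderOf_eq]

/-- Let G be a finite group whose Sylow 2-subgroup S is an internal direct product Q × R with Q generalized quaternion (of order at least 8) and R a subgroup all of whose involutions are central in R. Then G is not simple. In particular no finite simple group has a Sylow 2-subgroup that is a direct product of one or more generalized quaternion groups. -/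
theorem result {G : Type*} [Group G] [Finite G]
    (S : Sylow 2 G) (Q R : Subgroup G) (hQR : Cfsg.IsInternalDirectProduct Q R (S : Subgroup G))
    (n : ℕ) (hn : 1 ≤ n) (eQ : ↥Q ≃* QuaternionGroup (2 ^ n))
    (hR : ∀ r ∈ R, orderOf r = 2 → ∀ s ∈ R, r * s = s * r) :
    ¬ IsSimpleGroup G := by
  haveI : Fact (Nat.Prime 2) := ⟨Nat.prime_two⟩
  intro hsimp
  classical
  set z0 : Q := eQ.symm (QuaternionGroup.a ((2 ^ n : ℕ) : ZMod (2 * 2 ^ n))) with hz0
  have hz0o : orderOf ((z0 : Q) : G) = 2 := by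
    rw [hz0, Subgroup.orderOf_coe, MulEquiv.orderOf_eq, CfsgLib.Invol.invol_iff]
    refine ⟨?_, fun h => ?_⟩
    · rw [QuaternionGroup.a_mul_a, QuaternionGroup.one_def]
      congr 1
      rw [← Nat.cast_add, ← two_mul, ZMod.natCast_self]
    · rw [QuaternionGroup.one_def] at h
      injection h with h
      rw [ZMod.natCast_eq_zero_iff] at h
      have := Nat.le_of_dvd (by positivity) h
      have : 0 < 2 ^ n := by positivity
      omega
  set z : G := ((z0 : Q) : G) with hz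
  have hd : Dec (S : Subgroup G) Q R z :=
    ⟨hQR, ⟨n, hn, ⟨eQ⟩⟩, z0.2, hz0o⟩
  -- involutions of `S` are central
  have hcen : ∀ x ∈ (S : Subgroup G), x * x = 1 → ∀ s ∈ (S : Subgroup G), x * s = s * x := by
    intro x hx hxx s hs
    obtain ⟨a, ha, b, hb, rfl⟩ := split hQR hx
    obtain ⟨c, hc, d, hd', rfl⟩ := split hQR hs
    have h := (parts hQR (mul_mem ha ha) (mul_mem hb hb) (one_mem _) (one_mem _)
      (by rw [← mul_parts hQR ha hb ha hb, hxx, one_mul]))
    have hac : a * c = c * a := hd.central ha h.1 hc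
    have hbd : b * d = d * b := by
      by_cases hb1 : b = 1
      · simp [hb1]
      · exact hR b hb (CfsgLib.Invol.invol_iff.2 ⟨h.2, hb1⟩) d hd'
    rw [mul_parts hQR ha hb hc hd', mul_parts hQR hc hd' ha hb, hac, hbd]
  -- the product of the central involutions of all decompositions
  set Z := Subgroup.center ↥(S : Subgroup G) with hZ
  letI : CommGroup Z := { (inferInstance : Group Z) with
    mul_comm := fun a b => Subtype.ext (Subgroup.mem_center_iff.1 b.2 a) }
  haveI : Fintype Z := Fintype.ofFinite Z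
  set F : Finset Z := Finset.univ.filter fun w =>
    ∃ Q' R', Dec (S : Subgroup G) Q' R' ((w : ↥(S : Subgroup G)) : G) with hF
  have hzS : z ∈ (S : Subgroup G) := hQR.1 z0.2
  have hzc : (⟨z, hzS⟩ : ↥(S : Subgroup G)) ∈ Z := Subgroup.mem_center_iff.2 fun s =>
    Subtype.ext (hcen z hzS (CfsgLib.Invol.invol_mul_self hz0o) s s.2).symm
  set zZ : Z := ⟨⟨z, hzS⟩, hzc⟩ with hzZ
  have hzF : zZ ∈ F := Finset.mem_filter.2 ⟨Finset.mem_univ _, Q, R, hd⟩
  set p : Z := ∏ w ∈ F, w with hp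
  set P : G := ((p : ↥(S : Subgroup G)) : G) with hP
  let RZ : Subgroup Z := (R.subgroupOf (S : Subgroup G)).subgroupOf Z
  have hrest : ∏ w ∈ F.erase zZ, w ∈ RZ := by
    refine Subgroup.prod_mem _ fun w hw => ?_
    obtain ⟨hne, hwF⟩ := Finset.mem_erase.1 hw
    obtain ⟨-, Q', R', hd'⟩ := Finset.mem_filter.1 hwF
    rcases hd.eq_or_mem hd' with h | h
    · exact absurd (Subtype.ext (Subtype.ext h)) hne
    · exact h
  have hp1 : p ≠ 1 := by
    intro h
    rw [hp, ← Finset.mul_prod_erase F _ hzF] at h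
    have hm : zZ ∈ RZ := by
      rw [eq_inv_of_mul_eq_one_left h]
      exact inv_mem hrest
    exact CfsgLib.Invol.invol_ne_one hz0o
      (Subgroup.mem_bot.1 (hQR.2.2.2.1 ▸ Subgroup.mem_inf.2 ⟨z0.2, hm⟩))
  have hp2 : p * p = 1 := by
    rw [hp, ← Finset.prod_mul_distrib]
    refine Finset.prod_eq_one fun w hw => ?_
    obtain ⟨-, Q', R', hd'⟩ := Finset.mem_filter.1 hw
    exact Subtype.ext (Subtype.ext (CfsgLib.Invol.invol_mul_self hd'.invol))
  have hPS : P ∈ (S : Subgroup G) := (p : ↥(S : Subgroup G)).2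
  have hPo : orderOf P = 2 := CfsgLib.Invol.invol_iff.2
    ⟨congrArg (fun w : Z => ((w : ↥(S : Subgroup G)) : G)) hp2,
      fun h => hp1 (Subtype.ext (Subtype.ext h))⟩
  have hPN : ∀ m ∈ Subgroup.normalizer ((S : Subgroup G) : Set G), m * P * m⁻¹ = P := by
    intro m hm
    have h1 : ∀ x, x ∈ (S : Subgroup G) ↔ m * x * m⁻¹ ∈ (S : Subgroup G) :=
      fun x => Subgroup.mem_set_normalizer_iff.1 hm x
    let f : Z →* Z :=
      MonoidHom.mk' (fun w => ⟨⟨m * ((w : ↥(S : Subgroup G)) : G) * m⁻¹, (h1 _).1 w.1.2⟩,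
        Subgroup.mem_center_iff.2 fun s => by
          obtain ⟨s, hs⟩ := s
          have hs' : m⁻¹ * s * m ∈ (S : Subgroup G) := (h1 _).2 (by
            rw [show m * (m⁻¹ * s * m) * m⁻¹ = s by group]; exact hs)
          have h := congrArg Subtype.val (Subgroup.mem_center_iff.1 w.2 ⟨_, hs'⟩)
          have h' := congrArg (fun x => m * x * m⁻¹) h
          exact Subtype.ext (by simpa [mul_assoc] using h')⟩)
        (fun a b => Subtype.ext (Subtype.ext (by simp [mul_assoc])))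
    have hfi : Function.Injective f := fun a b h => Subtype.ext (Subtype.ext
      (mul_left_cancel (mul_right_cancel (congrArg (fun w : Z => ((w : ↥(S : Subgroup G)) : G)) h))))
    have hFF : F.image f = F := by
      refine Finset.eq_of_subset_of_card_le (fun w hw => ?_)
        (le_of_eq (Finset.card_image_of_injective _ hfi).symm)
      obtain ⟨v, hv, rfl⟩ := Finset.mem_image.1 hw
      obtain ⟨-, Q', R', hd'⟩ := Finset.mem_filter.1 hv
      exact Finset.mem_filter.2 ⟨Finset.mem_univ _, _, _, hd'.conj hm⟩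
    have h : f p = p := by
      rw [hp, map_prod, ← Finset.prod_image (f := fun w => w) hfi.injOn, hFF]
    exact congrArg (fun w : Z => ((w : ↥(S : Subgroup G)) : G)) h
  have hwc : ∀ g : G, g * P * g⁻¹ ∈ S → g * P * g⁻¹ = P := by
    intro g hg
    obtain ⟨m, hm, he⟩ := CfsgLib.Fusion.exists_normalizer_conj_eq_of_central S (x := P)
      (fun s hs => Subgroup.mem_centralizer_singleton_iff.2
        (hcen P hPS (CfsgLib.Invol.invol_mul_self hPo) s hs).symm) g
      (fun s hs => Subgroup.mem_centralizer_singleton_iff.2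
        (hcen _ hg (CfsgLib.Invol.invol_mul_self (CfsgLib.Invol.invol_conj hPo g)) s hs).symm)
    rw [← he, hPN m hm]
  have hz' := CfsgLib.Invol.zstar_of_weakly_closed S hPo hwc
  haveI := CfsgLib.Coprime.pPrimeCore_characteristic (G := G) 2
  have hO : Cfsg.pPrimeCore 2 G = ⊥ :=
    (Subgroup.Normal.eq_bot_or_eq_top (inferInstance : (Cfsg.pPrimeCore 2 G).Normal)).resolve_right
      fun h => CfsgLib.Invol.notMem_pPrimeCore hPo (h ▸ Subgroup.mem_top P)
  have hPc := CfsgLib.Invol.eq_of_zcentral_bot hz' hO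
  rcases Subgroup.Normal.eq_bot_or_eq_top (inferInstance : (Subgroup.center G).Normal) with h | h
  · exact CfsgLib.Invol.invol_ne_one hPo (Subgroup.mem_bot.1 (h ▸ hPc))
  · exact hd.noncomm fun a _ b _ => Subgroup.mem_center_iff.1 (h ▸ Subgroup.mem_top b) a

end Cfsg.Agent.S3269
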