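import Cfsg.Statements.S3276
import Cfsg.Agent.Lib.Invol.TwoClasses
import Mathlib.Tactic.Group


set_option autoImplicit false
open Cfsg

namespace Cfsg.Agent.S3276

/-- Let x and y be commuting, non-conjugate involutions of a finite group G, and suppose that for every involution u commuting with x, each conjugate of y that commutes with u also commutes with y. Then the normal closure of y is a proper, normal, elementary abelian 2-subgroup of G; and if y is the only involution of that normal closure commuting with x, it has order at most 4. -/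
theorem result {G : Type*} [Group G] [Finite G] (x y : G) (hx : orderOf x = 2) (hy : orderOf y = 2)
    (hxy : Commute x y) (hnc : ¬ IsConj x y)
    (hstar : ∀ u : G, orderOf u = 2 → Commute u x → ∀ g : G, Commute (g * y * g⁻¹) u → Commute (g * y * g⁻¹) y) :
    Subgroup.normalClosure ({y} : Set G) ≠ ⊤ ∧ Cfsg.IsElementaryAbelian 2 (Subgroup.normalClosure ({y} : Set G)) ∧
      ((∀ u ∈ Subgroup.normalClosure ({y} : Set G), orderOf u = 2 → Commute u x → u = y) →
        Nat.card ↥(Subgroup.normalClosure ({y} : Set G)) ≤ 4) := by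
  classical
  set V := Subgroup.normalClosure ({y} : Set G) with hV
  have hy2 : y * y = 1 := by rw [← pow_two]; exact hy ▸ pow_orderOf_eq_one y
  have hcy : ∀ g : G, Commute (g * y * g⁻¹) y := by
    intro g
    have hy' : orderOf (g * y * g⁻¹) = 2 := by
      rw [show g * y * g⁻¹ = MulAut.conj g y from rfl, MulEquiv.orderOf_eq, hy]
    obtain ⟨u, hu, hux, huy⟩ := CfsgLib.Invol.exists_invol_commute_both hx hy'
      (fun hc => hnc (hc.trans (isConj_iff.2 ⟨g⁻¹, by group⟩)))
    exact hstar u hu hux g huy.symm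
  have hpair : ∀ g g' : G, Commute (g * y * g⁻¹) (g' * y * g'⁻¹) := by
    intro g g'
    have h := (hcy (g'⁻¹ * g)).map (MulAut.conj g')
    simp only [MulAut.conj_apply] at h
    rwa [show g' * (g'⁻¹ * g * y * (g'⁻¹ * g)⁻¹) * g'⁻¹ = g * y * g⁻¹ by group] at h
  have hset : ∀ a ∈ Group.conjugatesOfSet ({y} : Set G), ∃ g : G, g * y * g⁻¹ = a := by
    intro a ha
    obtain ⟨b, hb, hab⟩ := Group.mem_conjugatesOfSet_iff.1 ha
    rw [Set.mem_singleton_iff.1 hb] at hab
    exact isConj_iff.1 hab
  have hcomm : IsMulCommutative V := Subgroup.isMulCommutative_closure fun a ha b hb => by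
    obtain ⟨g, rfl⟩ := hset a ha
    obtain ⟨g', rfl⟩ := hset b hb
    exact hpair g g'
  have hsq : ∀ a ∈ V, a ^ 2 = 1 := by
    intro a ha
    induction ha using Subgroup.closure_induction with
    | mem a ha =>
      obtain ⟨g, rfl⟩ := hset a ha
      rw [pow_two, show g * y * g⁻¹ * (g * y * g⁻¹) = g * (y * y) * g⁻¹ by group, hy2]; group
    | one => exact one_pow 2
    | mul a b ha hb iha ihb =>
      have : Commute a b := congrArg Subtype.val
        (hcomm.is_comm.comm ⟨a, ha⟩ ⟨b, hb⟩)
      rw [this.mul_pow, iha, ihb, one_mul]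
    | inv a ha iha => rw [inv_pow, iha, inv_one]
  have hne : V ≠ ⊤ := by
    intro htop
    haveI : IsMulCommutative G := ⟨⟨fun a b => congrArg Subtype.val
      (hcomm.is_comm.comm ⟨a, htop ▸ Subgroup.mem_top a⟩ ⟨b, htop ▸ Subgroup.mem_top b⟩)⟩⟩
    have hle : V ≤ Subgroup.zpowers y := by
      haveI : (Subgroup.zpowers y).Normal := ⟨fun a ha g => by
        rwa [‹IsMulCommutative G›.is_comm.comm g a, mul_inv_cancel_right]⟩
      exact Subgroup.normalClosure_le_normal (by simp)
    rcases (show x = 1 ∨ x = y by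
        obtain ⟨k, hk⟩ := Subgroup.mem_zpowers_iff.1 (hle (htop ▸ Subgroup.mem_top x))
        rw [← zpow_mod_orderOf, hy] at hk
        rcases Int.emod_two_eq_zero_or_one k with h0 | h0 <;> simp [h0] at hk <;> simp [← hk]) with h | h
    · rw [h, orderOf_one] at hx; omega
    · exact hnc (h ▸ IsConj.refl x)
  refine ⟨hne, ⟨hcomm, hsq⟩, fun huniq => ?_⟩
  have hx2 : x * x = 1 := by rw [← pow_two]; exact hx ▸ pow_orderOf_eq_one x
  have hxv : ∀ v ∈ V, x * v * x⁻¹ ∈ V := fun v hv => Subgroup.normalClosure_normal.conj_mem v hv x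
  have hfix : ∀ v ∈ V, Commute v x → v ∈ Subgroup.zpowers y := by
    intro v hv hvx
    by_cases h1 : v = 1
    · rw [h1]; exact one_mem _
    · rw [huniq v hv (orderOf_eq_prime (hsq v hv) h1) hvx]; exact Subgroup.mem_zpowers y
  have hc : ∀ a ∈ V, ∀ b ∈ V, a * b = b * a := fun a ha b hb =>
    congrArg Subtype.val (hcomm.is_comm.comm ⟨a, ha⟩ ⟨b, hb⟩)
  let f : V →* G := MonoidHom.mk' (fun v => (v : G) * (x * v * x⁻¹)) (fun a b => by
    have h := hc _ (hxv a a.2) b b.2
    calc ((a : G) * b) * (x * ((a : G) * b) * x⁻¹) = a * (b * (x * a * x⁻¹)) * (x * b * x⁻¹) := by group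
      _ = a * ((x * a * x⁻¹) * b) * (x * b * x⁻¹) := by rw [h]
      _ = _ := by group)
  have hker : f.ker.map V.subtype ≤ Subgroup.zpowers y := by
    rintro _ ⟨v, hv, rfl⟩
    refine hfix v v.2 ?_
    have h1 : (v : G) * (x * v * x⁻¹) = 1 := hv
    have h2 : x * (v : G) * x⁻¹ = v := by
      have h3 : (v : G) * v = 1 := by rw [← pow_two]; exact hsq _ v.2
      exact mul_left_cancel (h1.trans h3.symm)
    exact (show (x : G) * v = v * x by rw [← mul_inv_eq_iff_eq_mul]; exact h2).symm
  have hrange : f.range ≤ Subgroup.zpowers y := by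
    rintro _ ⟨v, rfl⟩
    refine hfix _ (V.mul_mem v.2 (hxv v v.2)) ?_
    show (v : G) * (x * v * x⁻¹) * x = x * ((v : G) * (x * v * x⁻¹))
    have hxi : x⁻¹ = x := inv_eq_of_mul_eq_one_right hx2
    rw [show (v : G) * (x * v * x⁻¹) * x = v * x * v by group, hc v v.2 _ (hxv v v.2)]
    calc (v : G) * x * v = v * x⁻¹ * v := by rw [hxi]
      _ = (x * x) * v * x⁻¹ * v := by rw [hx2, one_mul]
      _ = x * (x * v * x⁻¹ * v) := by group
  have hcy2 : Nat.card (Subgroup.zpowers y) = 2 := by rw [Nat.card_zpowers, hy]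
  calc Nat.card V = Nat.card f.ker * Nat.card f.range := by
        rw [← f.ker.card_mul_index, Subgroup.index_ker]
    _ ≤ 2 * 2 := by
        refine Nat.mul_le_mul ?_ ?_
        · rw [← hcy2, ← Subgroup.card_subtype V f.ker]
          exact Subgroup.card_le_of_le hker
        · rw [← hcy2]; exact Subgroup.card_le_of_le hrange

end Cfsg.Agent.S3276
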