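import Cfsg.Statements.S3279
import Cfsg.Agent.Lib.Invol.BrauerSuzuki
import Cfsg.Agent.Lib.Coprime.Core
import Cfsg.Agent.Lib.Fusion.Transfer
import Cfsg.Agent.Lib.Invol.NormalFourExists
import Cfsg.Agent.Lib.Invol.TransferOrder


set_option autoImplicit false
open Cfsg

namespace Cfsg.Agent.S3279

variable {G : Type*} [Group G]

/-- The involutions commuting with `x`. -/
private def invs (x : G) : Set G := {a | orderOf a = 2 ∧ Commute x a}

private theorem four_false [Finite G] {x a b c d : G}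
    (h3 : Nat.card {u : ↥(Subgroup.centralizer ({x} : Set G)) // orderOf u = 2} ≤ 3)
    (ha : a ∈ invs x) (hb : b ∈ invs x) (hc : c ∈ invs x) (hd : d ∈ invs x) (hab : a ≠ b) :
    a = c ∨ a = d ∨ b = c ∨ b = d ∨ c = d := by
  by_contra hh
  simp only [not_or] at hh
  obtain ⟨hac, had, hbc, hbd, hcd⟩ := hh
  let mk : ∀ e, e ∈ invs x → {u : ↥(Subgroup.centralizer ({x} : Set G)) // orderOf u = 2} :=
    fun e he => ⟨⟨e, Subgroup.mem_centralizer_singleton_iff.2 he.2.eq.symm⟩,
      by rw [Subgroup.orderOf_mk]; exact he.1⟩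
  let f : Fin 4 → {u : ↥(Subgroup.centralizer ({x} : Set G)) // orderOf u = 2} :=
    ![mk a ha, mk b hb, mk c hc, mk d hd]
  have hf : Function.Injective f := by
    intro i j hij
    fin_cases i <;> fin_cases j <;>
      simp_all [f, mk, Ne.symm hab, Ne.symm hac, Ne.symm had, Ne.symm hbc, Ne.symm hbd, Ne.symm hcd]
  have := Nat.card_le_card_of_injective f hf
  simp only [Nat.card_eq_fintype_card, Fintype.card_fin] at this
  omega

private theorem card_invs_conj [Finite G] {x : G}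
    (h3 : Nat.card {u : ↥(Subgroup.centralizer ({x} : Set G)) // orderOf u = 2} ≤ 3) (g : G) :
    Nat.card {u : ↥(Subgroup.centralizer ({g * x * g⁻¹} : Set G)) // orderOf u = 2} ≤ 3 := by
  have hmem : ∀ u : {u : ↥(Subgroup.centralizer ({g * x * g⁻¹} : Set G)) // orderOf u = 2},
      g⁻¹ * (u.1 : G) * g ∈ Subgroup.centralizer ({x} : Set G) := fun u => by
    rw [Subgroup.mem_centralizer_singleton_iff]
    have h := Subgroup.mem_centralizer_singleton_iff.1 u.1.2
    calc g⁻¹ * (u.1 : G) * g * x = g⁻¹ * ((u.1 : G) * (g * x * g⁻¹)) * g := by group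
      _ = g⁻¹ * (g * x * g⁻¹ * (u.1 : G)) * g := by rw [h]
      _ = x * (g⁻¹ * (u.1 : G) * g) := by group
  let f : {u : ↥(Subgroup.centralizer ({g * x * g⁻¹} : Set G)) // orderOf u = 2} →
      {u : ↥(Subgroup.centralizer ({x} : Set G)) // orderOf u = 2} := fun u =>
    ⟨⟨g⁻¹ * (u.1 : G) * g, hmem u⟩, by
      rw [Subgroup.orderOf_mk]
      have h2 : orderOf (u.1 : G) = 2 := by rw [Subgroup.orderOf_coe]; exact u.2
      simpa using CfsgLib.Invol.invol_conj h2 g⁻¹⟩
  have hf : Function.Injective f := fun u v h =>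
    Subtype.ext (Subtype.ext (mul_left_cancel (mul_right_cancel
      (congrArg (fun z : {u : ↥(Subgroup.centralizer ({x} : Set G)) // orderOf u = 2} => (z.1 : G)) h))))
  exact le_trans (Nat.card_le_card_of_injective f hf) h3

private theorem invol_of_isConj {u a : G} (h : IsConj u a) (hu : orderOf u = 2) : orderOf a = 2 := by
  obtain ⟨c, rfl⟩ := isConj_iff.1 h
  exact CfsgLib.Invol.invol_conj hu c

private theorem mem_zpowers_invol {x a : G} (hx : orderOf x = 2) (ha : orderOf a = 2)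
    (h : a ∈ Subgroup.zpowers x) : a = x := by
  obtain ⟨i, rfl⟩ := Subgroup.mem_zpowers_iff.1 h
  rcases Int.even_or_odd' i with ⟨l, rfl | rfl⟩
  · rw [zpow_mul, zpow_two, CfsgLib.Invol.invol_mul_self hx, one_zpow, orderOf_one] at ha
    omega
  · rw [zpow_add, zpow_mul, zpow_two, CfsgLib.Invol.invol_mul_self hx, one_zpow, one_mul, zpow_one]

private theorem zpowers_invol_unique [Finite G] {q a b : G} (ha : orderOf a = 2) (hb : orderOf b = 2)
    (haq : a ∈ Subgroup.zpowers q) (hbq : b ∈ Subgroup.zpowers q) : a = b := by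
  classical
  have := Fintype.ofFinite G
  obtain ⟨w, hw⟩ := Finset.card_eq_one.1 ((IsCyclic.card_orderOf_eq_totient (α := Subgroup.zpowers q)
    (d := 2) (by rw [← ha, ← Subgroup.orderOf_mk a haq]; exact orderOf_dvd_card)).trans Nat.totient_two)
  have h1 : (⟨a, haq⟩ : Subgroup.zpowers q) ∈
      Finset.univ.filter (fun x : Subgroup.zpowers q => orderOf x = 2) := by simp [ha]
  have h2 : (⟨b, hbq⟩ : Subgroup.zpowers q) ∈
      Finset.univ.filter (fun x : Subgroup.zpowers q => orderOf x = 2) := by simp [hb]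
  rw [hw, Finset.mem_singleton] at h1 h2
  exact congrArg Subtype.val (h1.trans h2.symm)

private theorem conj_mem_of_index_two [Finite G] [IsSimpleGroup G]
    (hnc : ∃ a b : G, ¬ a * b = b * a) (S : Sylow 2 G) (M : Subgroup ↥(S : Subgroup G))
    (hM : M.index = 2) {x : G} (hx : orderOf x = 2) :
    ∃ g : G, ∃ u ∈ M, (u : G) = g * x * g⁻¹ := by
  by_contra hh
  have hrel : (M.map (S : Subgroup G).subtype).relIndex (S : Subgroup G) = 2 := by
    show ((M.map (S : Subgroup G).subtype).comap (S : Subgroup G).subtype).index = 2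
    rw [Subgroup.comap_map_eq_self_of_injective Subtype.coe_injective, hM]
  obtain ⟨H, hH⟩ := CfsgLib.Invol.exists_index_two_of_no_conj S _ (Subgroup.map_subtype_le M) hrel
    (n := 1) (fun a _ ha => by
      have : a ≠ 1 := fun h => ha (h ▸ one_mem _)
      have := orderOf_eq_one_iff.not.2 this
      have := orderOf_pos a
      simp only [Nat.sub_self, pow_zero]
      omega) x (by rw [hx, pow_one]) (fun g hg => by
      obtain ⟨u, hu, hue⟩ := hg
      exact hh ⟨g, u, hu, hue⟩)
  haveI hHn := Subgroup.normal_of_index_eq_two hH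
  rcases hHn.eq_bot_or_eq_top with h | h
  · rw [h, Subgroup.index_bot] at hH
    obtain ⟨a, b, hab⟩ := hnc
    haveI : Fact (Nat.Prime 2) := ⟨Nat.prime_two⟩
    haveI : IsCyclic G := isCyclic_of_prime_card (p := 2) hH
    obtain ⟨q, hq⟩ := IsCyclic.exists_generator (α := G)
    obtain ⟨i, rfl⟩ := Subgroup.mem_zpowers_iff.1 (hq a)
    obtain ⟨j, rfl⟩ := Subgroup.mem_zpowers_iff.1 (hq b)
    exact hab (Commute.zpow_zpow_self q i j).eq
  · rw [h, Subgroup.index_top] at hH
    omega

private theorem pair_in [Finite G] [IsSimpleGroup G] (hnc : ∃ a b : G, ¬ a * b = b * a)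
    (S : Sylow 2 G) {u : G} (hu : orderOf u = 2) :
    ∃ a1 a2 : G, a1 ∈ (S : Subgroup G) ∧ a2 ∈ (S : Subgroup G) ∧ IsConj u a1 ∧ IsConj u a2 ∧
      a1 ≠ a2 := by
  haveI : Fact (Nat.Prime 2) := ⟨Nat.prime_two⟩
  obtain ⟨g, hg, hgne⟩ : ∃ g : G, Commute u (g * u * g⁻¹) ∧ g * u * g⁻¹ ≠ u := by
    by_contra hh
    simp only [not_exists, not_and, not_not] at hh
    haveI := CfsgLib.Coprime.pPrimeCore_characteristic (G := G) 2
    have hO : Cfsg.pPrimeCore 2 G = ⊥ :=
      (Subgroup.Normal.eq_bot_or_eq_top (inferInstance : (Cfsg.pPrimeCore 2 G).Normal)).resolve_right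
        fun h => CfsgLib.Invol.notMem_pPrimeCore hu (h ▸ Subgroup.mem_top u)
    have hc := CfsgLib.Invol.eq_of_zcentral_bot (CfsgLib.Invol.zstar ⟨hu, hh⟩) hO
    rcases Subgroup.Normal.eq_bot_or_eq_top (inferInstance : (Subgroup.center G).Normal) with h | h
    · exact CfsgLib.Invol.invol_ne_one hu (Subgroup.mem_bot.1 (h ▸ hc))
    · obtain ⟨a, b, hab⟩ := hnc
      exact hab (Subgroup.mem_center_iff.1 (h ▸ Subgroup.mem_top b) a)
  obtain ⟨k, hk⟩ := CfsgLib.Invol.exists_conj_le_sylow (Q := Subgroup.closure ({u, g * u * g⁻¹} : Set G))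
    (IsPGroup.of_card (n := 2) (CfsgLib.Invol.isKleinFour_closure_pair hu
      (CfsgLib.Invol.invol_conj hu g) (Ne.symm hgne) hg).card_four) S
  refine ⟨k * u * k⁻¹, k * (g * u * g⁻¹) * k⁻¹, hk _ (Subgroup.subset_closure (by simp)),
    hk _ (Subgroup.subset_closure (by simp)), isConj_iff.2 ⟨k, rfl⟩,
    isConj_iff.2 ⟨k * g, by group⟩, fun h => hgne (mul_left_cancel (mul_right_cancel h)).symm⟩

/-- Let G be a finite simple group and x an involution of G whose centralizer contains at most three involutions. Then C_G(x) contains a Sylow 2-subgroup of G, and all involutions of G are conjugate. -/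
theorem result {G : Type*} [Group G] [Finite G] [IsSimpleGroup G] (x : G) (hx : orderOf x = 2)
    (h3 : Nat.card {u : ↥(Subgroup.centralizer ({x} : Set G)) // orderOf u = 2} ≤ 3) :
    (∃ S : Sylow 2 G, (S : Subgroup G) ≤ Subgroup.centralizer ({x} : Set G)) ∧
      ∀ u v : G, orderOf u = 2 → orderOf v = 2 → IsConj u v := by
  haveI : Fact (Nat.Prime 2) := ⟨Nat.prime_two⟩
  classical
  by_cases hab : ∀ a b : G, a * b = b * a
  · obtain ⟨S⟩ : Nonempty (Sylow 2 G) := inferInstance
    refine ⟨⟨S, fun s _ => Subgroup.mem_centralizer_singleton_iff.2 (hab _ _)⟩, fun u v hu hv => ?_⟩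
    have hn : (Subgroup.zpowers x).Normal := ⟨fun a ha g => by
      rwa [hab g a, mul_inv_cancel_right]⟩
    have htop := hn.eq_bot_or_eq_top.resolve_left fun h =>
      CfsgLib.Invol.invol_ne_one hx (Subgroup.zpowers_eq_bot.1 h)
    have key : ∀ a : G, orderOf a = 2 → a = x := fun a ha => mem_zpowers_invol hx ha
      (htop ▸ Subgroup.mem_top a)
    rw [key u hu, key v hv]
  simp only [not_forall] at hab
  by_cases hA : ∃ S : Sylow 2 G, (S : Subgroup G) ≤ Subgroup.centralizer ({x} : Set G)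
  · refine ⟨hA, ?_⟩
    obtain ⟨S, hS⟩ := hA
    intro u v hu hv
    have hI : ∀ a : G, a ∈ (S : Subgroup G) → orderOf a = 2 → a ∈ invs x := fun a ha hao =>
      ⟨hao, (Subgroup.mem_centralizer_singleton_iff.1 (hS ha)).symm⟩
    obtain ⟨a1, a2, ha1, ha2, hu1, hu2, hne⟩ := pair_in hab S hu
    obtain ⟨b1, b2, hb1, hb2, hv1, hv2, hne'⟩ := pair_in hab S hv
    have h4 := four_false h3 (hI a1 ha1 (invol_of_isConj hu1 hu)) (hI a2 ha2 (invol_of_isConj hu2 hu))
      (hI b1 hb1 (invol_of_isConj hv1 hv)) (hI b2 hb2 (invol_of_isConj hv2 hv)) hne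
    rcases h4 with h | h | h | h | h
    · exact hu1.trans (h ▸ hv1.symm)
    · exact hu1.trans (h ▸ hv2.symm)
    · exact hu2.trans (h ▸ hv1.symm)
    · exact hu2.trans (h ▸ hv2.symm)
    · exact absurd h hne'
  exfalso
  have hno : ∀ (g : G) (S : Sylow 2 G), ¬ ∀ s ∈ (S : Subgroup G), Commute (g * x * g⁻¹) s := by
    intro g S hc
    refine hA ⟨g⁻¹ • S, fun a ha => ?_⟩
    rw [Sylow.coe_subgroup_smul] at ha
    obtain ⟨s, hs, rfl⟩ := ha
    have h := Commute.map (hc s hs) (MulAut.conj g⁻¹).toMonoidHom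
    refine Subgroup.mem_centralizer_singleton_iff.2 ?_
    simpa [mul_assoc] using h.eq.symm
  obtain ⟨S, hS⟩ := (IsPGroup.of_card (n := 1) (G := Subgroup.zpowers x) (p := 2)
    (by rw [Nat.card_zpowers, hx, pow_one])).exists_le_sylow
  have hxS : x ∈ (S : Subgroup G) := hS (Subgroup.mem_zpowers x)
  have hxnc : ¬ ∀ s ∈ (S : Subgroup G), Commute x s := by simpa using hno 1 S
  by_cases hV : ∀ B : Subgroup ↥(S : Subgroup G), B.Normal → IsMulCommutative B → IsCyclic B
  · rcases CfsgLib.Invol.cyclic_or_std S.2 hV with hc | ⟨-, k, r, e, a, b, -, F, -⟩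
    · obtain ⟨q, hq⟩ := IsCyclic.exists_generator (α := ↥(S : Subgroup G))
      refine hxnc fun s hs => ?_
      obtain ⟨i, hi⟩ := Subgroup.mem_zpowers_iff.1 (hq ⟨x, hxS⟩)
      obtain ⟨j, hj⟩ := Subgroup.mem_zpowers_iff.1 (hq ⟨s, hs⟩)
      have h : Commute (q ^ i) (q ^ j) := Commute.zpow_zpow_self q i j
      rw [hi, hj] at h
      exact congrArg Subtype.val h.eq
    · haveI hAn : (Subgroup.zpowers a).Normal := Subgroup.normal_of_index_eq_two F.index_two
      obtain ⟨g, hg⟩ := conj_mem_of_index_two hab S (Subgroup.zpowers a) F.index_two hx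
      obtain ⟨u, hu, hue⟩ := hg
      refine hno g S fun s hs => ?_
      have huo : orderOf u = 2 := by
        rw [← Subgroup.orderOf_coe, show (u : G) = g * x * g⁻¹ from hue]
        exact CfsgLib.Invol.invol_conj hx g
      have h := zpowers_invol_unique huo (CfsgLib.Invol.invol_conj huo ⟨s, hs⟩) hu
        (hAn.conj_mem u hu ⟨s, hs⟩)
      have h' : s * (u : G) * s⁻¹ = u := (congrArg Subtype.val h).symm
      rw [show g * x * g⁻¹ = (u : G) from hue.symm]
      exact (mul_inv_eq_iff_eq_mul.1 h').symm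
  simp only [not_forall] at hV
  obtain ⟨B, hBn, hBab, hBc⟩ := hV
  obtain ⟨V, hVn, hV4, hV2⟩ := CfsgLib.Invol.exists_normal_four_of_abelian S.2 hBn hBab hBc
  haveI := hVn
  obtain ⟨w0, hw0V, hw0o, hw0c⟩ := CfsgLib.Invol.exists_fixed_of_normalized (p := 2)
    (P := (⊤ : Subgroup ↥(S : Subgroup G))) (S.2.to_subgroup ⊤) (S.2.to_subgroup V)
    (fun h => by rw [h, Subgroup.card_bot] at hV4; omega)
    (le_of_le_of_eq le_top (Subgroup.normalizer_eq_top_iff.2 hVn).symm)
  set w : G := (w0 : G) with hwd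
  have hwo : orderOf w = 2 := by rw [hwd, Subgroup.orderOf_coe]; exact hw0o
  have hwS : w ∈ (S : Subgroup G) := w0.2
  have hwc : ∀ s ∈ (S : Subgroup G), Commute w s := fun s hs =>
    (congrArg Subtype.val (Subgroup.mem_centralizer_singleton_iff.1
      (hw0c (Subgroup.mem_top (⟨s, hs⟩ : ↥(S : Subgroup G)))))).symm
  have hVab : ∀ a ∈ V, ∀ b ∈ V, (a : G) * b = b * a := by
    intro a ha b hb
    have hh : ∀ c ∈ V, c⁻¹ = c := fun c hc =>
      inv_eq_of_mul_eq_one_right (by rw [← pow_two]; exact hV2 c hc)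
    have := hh (a * b) (mul_mem ha hb)
    rw [mul_inv_rev, hh a ha, hh b hb] at this
    exact congrArg Subtype.val this.symm
  obtain ⟨v0, hv0, hv01, hv0w⟩ : ∃ v ∈ V, v ≠ 1 ∧ v ≠ w0 := by
    by_contra hh
    simp only [not_exists, not_and, not_not] at hh
    have hle : V ≤ Subgroup.zpowers w0 := fun v hv => by
      by_cases h1 : v = 1
      · rw [h1]; exact one_mem _
      · rw [hh v hv h1]; exact Subgroup.mem_zpowers _
    have := Subgroup.card_le_of_le hle
    rw [Nat.card_zpowers, hw0o, hV4] at this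
    omega
  -- a conjugate of `x` in `V`
  have hinV : ∀ g : G, g * x * g⁻¹ ∈ (S : Subgroup G) →
      (∀ v ∈ V, Commute (g * x * g⁻¹) (v : G)) → ∃ u ∈ V, (u : G) = g * x * g⁻¹ := by
    intro g hgS hgc
    have hmem : ∀ v ∈ V, v ≠ 1 → ((v : ↥(S : Subgroup G)) : G) ∈ invs (g * x * g⁻¹) := fun v hv h1 =>
      ⟨CfsgLib.Invol.invol_iff.2 ⟨congrArg Subtype.val ((pow_two v).symm.trans (hV2 v hv)),
        fun h => h1 (Subtype.ext h)⟩, hgc v hv⟩
    have hgo := CfsgLib.Invol.invol_conj hx g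
    by_contra hh
    simp only [not_exists, not_and] at hh
    have hne1 : v0 * w0 ≠ 1 := fun h => hv0w (by
      rw [eq_inv_of_mul_eq_one_left h]
      exact inv_eq_of_mul_eq_one_right (by rw [← pow_two]; exact hV2 w0 hw0V))
    rcases four_false (card_invs_conj h3 g) (hmem v0 hv0 hv01)
      (hmem w0 hw0V (CfsgLib.Invol.invol_ne_one hw0o)) (hmem _ (mul_mem hv0 hw0V) hne1)
      (⟨hgo, Commute.refl _⟩ : g * x * g⁻¹ ∈ invs (g * x * g⁻¹))
      (fun h => hv0w (Subtype.ext h)) with h | h | h | h | h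
    · exact hv01 (mul_eq_left.1 (Subtype.ext h : v0 = v0 * w0).symm |> fun h' =>
        absurd h' (CfsgLib.Invol.invol_ne_one hw0o))
    · exact hh v0 hv0 h
    · exact hv01 (mul_eq_right.1 (Subtype.ext h : w0 = v0 * w0).symm)
    · exact hh w0 hw0V h
    · exact hh _ (mul_mem hv0 hw0V) h
  obtain ⟨g0, hg0⟩ : ∃ g : G, ∃ u ∈ V, (u : G) = g * x * g⁻¹ := by
    by_cases hxV : ∀ v ∈ V, Commute x ((v : ↥(S : Subgroup G)) : G)
    · exact ⟨1, hinV 1 (by simpa using hxS) (by simpa using hxV)⟩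
    · have hd := CfsgLib.Invol.relIndex_centralizer_four S.2 V hV4
      have hi : (Subgroup.centralizer (V : Set ↥(S : Subgroup G))).index = 2 := by
        rcases (Nat.dvd_prime Nat.prime_two).1 hd with h | h
        · refine absurd (fun v hv => ?_) hxV
          have hm : (⟨x, hxS⟩ : ↥(S : Subgroup G)) ∈ Subgroup.centralizer (V : Set ↥(S : Subgroup G)) :=
            (Subgroup.index_eq_one.1 h).symm ▸ Subgroup.mem_top _
          exact (congrArg Subtype.val (Subgroup.mem_centralizer_iff.1 hm v hv)).symm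
        · exact h
      obtain ⟨g, u, hu, hue⟩ := conj_mem_of_index_two hab S _ hi hx
      refine ⟨g, hinV g (hue ▸ u.2) fun v hv => ?_⟩
      rw [show g * x * g⁻¹ = (u : G) from hue.symm]
      exact (congrArg Subtype.val (Subgroup.mem_centralizer_iff.1 hu v hv)).symm
  obtain ⟨u0, hu0V, hu0e⟩ := hg0
  set x1 : G := (u0 : G) with hx1d
  have hx1o : orderOf x1 = 2 := hu0e ▸ CfsgLib.Invol.invol_conj hx g0
  have hx1S : x1 ∈ (S : Subgroup G) := u0.2
  have hnoconj : ∀ (g : G) (T : Sylow 2 G), ¬ ∀ s ∈ (T : Subgroup G), Commute (g * x1 * g⁻¹) s := by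
    intro g T hc
    refine hno (g * g0) T fun s hs => ?_
    have := hc s hs
    rwa [hu0e, show g * (g0 * x * g0⁻¹) * g⁻¹ = g * g0 * x * (g * g0)⁻¹ by group] at this
  have hx1w : ∀ g : G, g * x1 * g⁻¹ ≠ w := fun g h => hnoconj g S fun s hs => h ▸ hwc s hs
  have hwx : Commute x1 w := (hwc x1 hx1S).symm
  have hne : x1 ≠ w := by simpa using hx1w 1
  have hxwo : orderOf (x1 * w) = 2 := CfsgLib.Invol.invol_iff.2 ⟨by
      rw [Commute.mul_mul_mul_comm hwx.symm, CfsgLib.Invol.invol_mul_self hx1o, CfsgLib.Invol.invol_mul_self hwo,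
        one_mul], fun h => hne ((eq_inv_of_mul_eq_one_left h).trans (CfsgLib.Invol.invol_inv hwo))⟩
  have h31 : Nat.card {u : ↥(Subgroup.centralizer ({x1} : Set G)) // orderOf u = 2} ≤ 3 := by
    rw [hu0e]; exact card_invs_conj h3 g0
  have hlist : ∀ a : G, orderOf a = 2 → Commute x1 a → a = x1 ∨ a = w ∨ a = x1 * w := by
    intro a hao hac
    rcases four_false h31 (⟨hx1o, Commute.refl _⟩ : x1 ∈ invs x1) (⟨hwo, hwx⟩ : w ∈ invs x1)
      (⟨hao, hac⟩ : a ∈ invs x1) (⟨hxwo, (Commute.refl x1).mul_right hwx⟩ : x1 * w ∈ invs x1) hne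
      with h | h | h | h | h
    · exact Or.inl h.symm
    · exact absurd (mul_eq_left.1 h.symm) (CfsgLib.Invol.invol_ne_one hwo)
    · exact Or.inr (Or.inl h.symm)
    · exact absurd (mul_eq_right.1 h.symm) (CfsgLib.Invol.invol_ne_one hx1o)
    · exact Or.inr (Or.inr h)
  -- conjugates of `x1` in `S`
  have hconj : ∀ s ∈ (S : Subgroup G), s * x1 * s⁻¹ = x1 ∨ s * x1 * s⁻¹ = x1 * w := by
    intro s hs
    rcases hlist _ (CfsgLib.Invol.invol_conj hx1o s)
      (hVab u0 hu0V _ (hVn.conj_mem u0 hu0V ⟨s, hs⟩)) with h | h | h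
    · exact Or.inl h
    · exact absurd h (hx1w s)
    · exact Or.inr h
  obtain ⟨y, hy, hyx⟩ : ∃ y ∈ (S : Subgroup G), ¬ Commute x1 y := by
    have := hnoconj 1 S
    simp only [one_mul, inv_one, mul_one, not_forall] at this
    obtain ⟨y, hy, hyx⟩ := this
    exact ⟨y, hy, hyx⟩
  have hmove : ∀ s ∈ (S : Subgroup G), ¬ Commute x1 s → s * x1 * s⁻¹ = x1 * w := fun s hs hn =>
    (hconj s hs).resolve_left fun h => hn (mul_inv_eq_iff_eq_mul.1 h).symm
  -- products of two elements moving `x1`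
  have hprod : ∀ s ∈ (S : Subgroup G), ∀ t ∈ (S : Subgroup G),
      ¬ Commute x1 s → ¬ Commute x1 t → Commute x1 (s * t) := by
    intro s hs t ht hns hnt
    refine (mul_inv_eq_iff_eq_mul.1 (?_ : s * t * x1 * (s * t)⁻¹ = x1)).symm
    calc s * t * x1 * (s * t)⁻¹ = s * (t * x1 * t⁻¹) * s⁻¹ := by group
      _ = s * x1 * s⁻¹ * (s * w * s⁻¹) := by rw [hmove t ht hnt]; group
      _ = x1 * w * w := by rw [hmove s hs hns, ← (hwc s hs).eq, mul_inv_cancel_right]
      _ = x1 := by rw [mul_assoc, CfsgLib.Invol.invol_mul_self hwo, mul_one]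
  have hsq : ∀ s ∈ (S : Subgroup G), Commute x1 (s * s) := fun s hs => by
    by_cases h : Commute x1 s
    · exact h.mul_right h
    · exact hprod s hs s hs h h
  have hconjxw : ∀ g : G, g * (x1 * w) * g⁻¹ ≠ w := fun g h => hx1w (g * y) (by
    rw [← hmove y hy hyx] at h
    rw [← h]; group)
  -- a conjugate `w'` of `w` in `S` moving `x1`
  obtain ⟨w', hw'S, hw'c, hw'x⟩ : ∃ w' : G, w' ∈ (S : Subgroup G) ∧ IsConj w w' ∧ ¬ Commute x1 w' := by
    obtain ⟨a1, a2, ha1, ha2, h1, h2, hne'⟩ := pair_in hab S hwo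
    have key : ∀ a, a ∈ (S : Subgroup G) → IsConj w a → Commute x1 a → a = w := by
      intro a _ hc hac
      obtain ⟨g, hg⟩ := isConj_iff.1 hc.symm
      rcases hlist a (invol_of_isConj hc hwo) hac with h | h | h
      · exact absurd (h ▸ hg) (hx1w g)
      · exact h
      · exact absurd (h ▸ hg) (hconjxw g)
    by_cases hc1 : Commute x1 a1
    · refine ⟨a2, ha2, h2, fun hc2 => hne' ?_⟩
      rw [key a1 ha1 h1 hc1, key a2 ha2 h2 hc2]
    · exact ⟨a1, ha1, h1, hc1⟩
  have hw'o : orderOf w' = 2 := invol_of_isConj hw'c hwo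
  have hw'w : w' ≠ w := fun h => hw'x (h ▸ hwx)
  have hw'move := hmove w' hw'S hw'x
  obtain ⟨g, hgw, hgS⟩ : ∃ g : G, g * w' * g⁻¹ = w ∧
      ∀ a ∈ (S : Subgroup G), Commute w' a → g * a * g⁻¹ ∈ (S : Subgroup G) := by
    obtain ⟨h, hh⟩ := isConj_iff.1 hw'c
    have hTH : CfsgLib.Fusion.conjBy h (S : Subgroup G) ≤ Subgroup.centralizer ({w'} : Set G) := by
      rintro _ ⟨s, hs, rfl⟩
      rw [Subgroup.mem_centralizer_singleton_iff, ← hh]
      exact (Commute.map (hwc s hs) (MulAut.conj h).toMonoidHom).eq.symm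
    have hi : ¬ 2 ∣ (CfsgLib.Fusion.conjBy h (S : Subgroup G)).relIndex
        (Subgroup.centralizer ({w'} : Set G)) := fun h2 => S.not_dvd_index (by
      have h3 := h2.trans (Subgroup.relIndex_dvd_index_of_le hTH)
      rwa [show CfsgLib.Fusion.conjBy h (S : Subgroup G) = (S : Subgroup G).map (MulAut.conj h).toMonoidHom
        from rfl, Subgroup.index_map_of_bijective (MulAut.conj h).bijective] at h3)
    obtain ⟨c, hc, hcle⟩ := CfsgLib.Fusion.exists_conj_le_of_not_dvd_relIndex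
      (CfsgLib.Fusion.isPGroup_conjBy h S.2) hTH hi
      (S.2.to_le (inf_le_left : (S : Subgroup G) ⊓ Subgroup.centralizer ({w'} : Set G) ≤ _))
      inf_le_right
    refine ⟨h⁻¹ * c, ?_, fun a ha hac => ?_⟩
    · calc h⁻¹ * c * w' * (h⁻¹ * c)⁻¹ = h⁻¹ * (c * w' * c⁻¹) * h := by group
        _ = h⁻¹ * w' * h := by rw [Subgroup.mem_centralizer_singleton_iff.1 hc, mul_inv_cancel_right]
        _ = w := by rw [← hh]; group
    · have h4 := CfsgLib.Fusion.mem_conjBy.1 (hcle (CfsgLib.Fusion.conj_mem_conjBy (g := c)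
        (Subgroup.mem_inf.2 ⟨ha, Subgroup.mem_centralizer_singleton_iff.2 hac.eq.symm⟩)))
      rwa [show h⁻¹ * c * a * (h⁻¹ * c)⁻¹ = h⁻¹ * (c * a * c⁻¹) * h by group]
  -- only `w` survives in the common centralizer
  have hfix : ∀ r ∈ (S : Subgroup G), Commute x1 r → Commute w' r → r = 1 ∨ r = w := by
    intro r hr hrx hrw
    obtain ⟨k, hk⟩ := CfsgLib.Invol.orderOf_pow_two_of_mem (P := S) hr
    have hone : ∀ j : ℕ, orderOf (r ^ j) = 2 → r ^ j = w := fun j hj => by
      rcases hlist _ hj (hrx.pow_right j) with h | h | h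
      · exact absurd (h ▸ hrw.pow_right j).symm hw'x
      · exact h
      · refine absurd ?_ hw'x
        have h' : Commute w' (x1 * w) := h ▸ hrw.pow_right j
        have h'' := h'.mul_right (hwc w' hw'S).symm
        rw [mul_assoc, CfsgLib.Invol.invol_mul_self hwo, mul_one] at h''
        exact h''.symm
    rcases k with _ | _ | k
    · exact Or.inl (orderOf_eq_one_iff.1 (by simpa using hk))
    · exact Or.inr (by simpa using hone 1 (by simpa using hk))
    · exfalso
      have ho : orderOf (r ^ 2 ^ (k + 1)) = 2 := by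
        rw [orderOf_pow, hk, Nat.gcd_eq_right (pow_dvd_pow 2 (by omega)), Nat.pow_div (by omega) two_pos,
          show k + 1 + 1 - (k + 1) = 1 by omega, pow_one]
      have hsq' : r ^ 2 ^ k * r ^ 2 ^ k = w := by
        rw [← pow_add, ← two_mul, ← pow_succ']; exact hone _ ho
      have hrS := hgS _ (pow_mem hr (2 ^ k)) (hrw.pow_right _)
      have hz := hsq _ hrS
      rw [show g * r ^ 2 ^ k * g⁻¹ * (g * r ^ 2 ^ k * g⁻¹) = g * (r ^ 2 ^ k * r ^ 2 ^ k) * g⁻¹ by group,
        hsq'] at hz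
      rcases hlist _ (CfsgLib.Invol.invol_conj hwo g) hz with h | h | h
      · exact hx1w g⁻¹ (by rw [← h]; group)
      · exact hw'w (mul_left_cancel (mul_right_cancel (hgw.trans h.symm)))
      · exact hconjxw g⁻¹ (by rw [← h]; group)
  -- the centralizer of `x1` in `S` is the four-group
  set R0 := Subgroup.centralizer ({u0} : Set ↥(S : Subgroup G)) with hR0
  have hR0mem : ∀ s : ↥(S : Subgroup G), s ∈ R0 ↔ Commute x1 (s : G) := fun s => by
    rw [hR0, Subgroup.mem_centralizer_singleton_iff]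
    exact ⟨fun h => (congrArg Subtype.val h).symm, fun h => Subtype.ext h.eq.symm⟩
  have hR0i : R0.index = 2 := by
    refine Subgroup.index_eq_two_iff.2 ⟨⟨y, hy⟩, fun b => ?_⟩
    rw [xor_iff_not_iff', hR0mem, hR0mem]
    refine ⟨fun hb => ?_, fun hb hb2 => hyx ?_⟩
    · by_contra hbc
      exact hb (hprod _ b.2 _ hy hbc hyx)
    · have := hb2.inv_right.mul_right hb
      simpa using this
  haveI hR0n : R0.Normal := Subgroup.normal_of_index_eq_two hR0i
  have hR0V : R0 ≤ V := by
    by_contra hle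
    set π := QuotientGroup.mk' V with hπ
    haveI : (R0.map π).Normal := Subgroup.Normal.map hR0n π (QuotientGroup.mk'_surjective _)
    obtain ⟨t, ⟨r, hrR, hrt⟩, hto, htc⟩ := CfsgLib.Invol.exists_fixed_of_normalized (p := 2)
      (P := (⊤ : Subgroup (↥(S : Subgroup G) ⧸ V))) ((S.2.to_quotient _).to_subgroup ⊤)
      ((S.2.to_quotient _).to_subgroup (R0.map π))
      (by rw [Ne, Subgroup.map_eq_bot_iff, QuotientGroup.ker_mk']; exact hle)
      (le_of_le_of_eq le_top (Subgroup.normalizer_eq_top_iff.2 this).symm)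
    set w1 : ↥(S : Subgroup G) := ⟨w', hw'S⟩ with hw1
    have hv : r⁻¹ * (w1 * r * w1⁻¹) ∈ V := by
      rw [← QuotientGroup.eq_one_iff, ← QuotientGroup.mk'_apply, map_mul, map_inv, map_mul, map_mul,
        map_inv, ← hπ, hrt, Subgroup.mem_centralizer_singleton_iff.1 (htc (Subgroup.mem_top _)),
        mul_inv_cancel_right, inv_mul_cancel]
    set v : G := ((r⁻¹ * (w1 * r * w1⁻¹) : ↥(S : Subgroup G)) : G) with hvd
    have hve : w' * (r : G) * w'⁻¹ = r * v := by simp [hvd, hw1, mul_assoc]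
    have hvv : v * v = 1 := congrArg Subtype.val ((pow_two _).symm.trans (hV2 _ hv))
    have hwv : Commute w' v := by
      have e : (r : G) * v * (w' * v * w'⁻¹) = r := by
        rw [← hve, show w' * (r : G) * w'⁻¹ * (w' * v * w'⁻¹) = w' * (r * v) * w'⁻¹ by group, ← hve,
          show w' * (w' * (r : G) * w'⁻¹) * w'⁻¹ = w' * w' * r * (w' * w')⁻¹ by group,
          CfsgLib.Invol.invol_mul_self hw'o]
        group
      have e2 : w' * v * w'⁻¹ = v := by
        have e3 : v * (w' * v * w'⁻¹) = 1 := mul_left_cancel (a := (r : G))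
          (by rw [← mul_assoc, e, mul_one])
        exact (inv_eq_of_mul_eq_one_right e3).symm.trans (inv_eq_of_mul_eq_one_right hvv)
      exact mul_inv_eq_iff_eq_mul.1 e2
    have hrx : Commute x1 (r : G) := (hR0mem r).1 hrR
    have hvx : Commute x1 v := hVab u0 hu0V _ hv
    have hrt1 : r ∉ V := fun h => by
      rw [← QuotientGroup.eq_one_iff, ← QuotientGroup.mk'_apply, ← hπ, hrt] at h
      rw [h, orderOf_one] at hto
      omega
    rcases hfix v (r⁻¹ * (w1 * r * w1⁻¹)).2 hvx hwv with h | h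
    · rw [h, mul_one] at hve
      rcases hfix r r.2 hrx (mul_inv_eq_iff_eq_mul.1 hve) with h' | h'
      · exact hrt1 (by rw [show r = 1 from Subtype.ext h']; exact one_mem V)
      · exact hrt1 (by rw [show r = w0 from Subtype.ext h']; exact hw0V)
    · have hm : Commute w' ((r : G) * x1) := mul_inv_eq_iff_eq_mul.1 (by
        calc w' * ((r : G) * x1) * w'⁻¹ = w' * (r : G) * w'⁻¹ * (w' * x1 * w'⁻¹) := by group
          _ = (r : G) * w * (x1 * w) := by rw [hve, h, hw'move]
          _ = (r : G) * (w * w) * x1 := by rw [hwx.eq]; group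
          _ = (r : G) * x1 := by rw [CfsgLib.Invol.invol_mul_self hwo, mul_one])
      have hru : r * u0 ∈ V := by
        rcases hfix _ (mul_mem r.2 hx1S) (hrx.mul_right (Commute.refl _)) hm with h' | h'
        · rw [show r * u0 = 1 from Subtype.ext h']; exact one_mem V
        · rw [show r * u0 = w0 from Subtype.ext h']; exact hw0V
      exact hrt1 (by simpa using mul_mem hru (inv_mem hu0V))
  -- the dihedral group of order eight
  set m : ↥(S : Subgroup G) := ⟨x1 * w', mul_mem hx1S hw'S⟩ with hmd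
  have hmm : (x1 * w') * (x1 * w') = w := by
    calc x1 * w' * (x1 * w') = x1 * (w' * x1 * w'⁻¹) := by
          rw [CfsgLib.Invol.invol_inv hw'o]; group
      _ = x1 * x1 * w := by rw [hw'move, mul_assoc]
      _ = w := by rw [CfsgLib.Invol.invol_mul_self hx1o, one_mul]
  have hmo : orderOf m = 4 := by
    rw [← Subgroup.orderOf_coe]
    show orderOf (x1 * w') = 4
    exact orderOf_eq_prime_pow (p := 2) (n := 1)
      (by rw [pow_one, pow_two, hmm]; exact CfsgLib.Invol.invol_ne_one hwo)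
      (by rw [pow_succ 2 1, pow_one, pow_mul, pow_two (x1 * w'), hmm, pow_two]
          exact CfsgLib.Invol.invol_mul_self hwo)
  have hVR : V ≤ R0 := fun v hv => (hR0mem v).2 (hVab u0 hu0V v hv)
  have h8 : Nat.card ↥(S : Subgroup G) = 8 := by
    rw [← R0.card_mul_index, hR0i, le_antisymm hR0V hVR, hV4]
  have hMi : (Subgroup.zpowers m).index = 2 := by
    have := (Subgroup.zpowers m).card_mul_index
    rw [Nat.card_zpowers, hmo, h8] at this
    omega
  obtain ⟨g', u, hu, hue⟩ := conj_mem_of_index_two hab S (Subgroup.zpowers m) hMi hx1o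
  have hm2 : (m * m : ↥(S : Subgroup G)) = w0 := Subtype.ext hmm
  have huo : orderOf u = 2 := by
    rw [← Subgroup.orderOf_coe, show (u : G) = g' * x1 * g'⁻¹ from hue]
    exact CfsgLib.Invol.invol_conj hx1o g'
  have := zpowers_invol_unique hw0o huo (hm2 ▸ mul_mem (Subgroup.mem_zpowers m) (Subgroup.mem_zpowers m)) hu
  exact hx1w g' (hue.symm.trans (congrArg Subtype.val this).symm)

end Cfsg.Agent.S3279
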