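import Cfsg.Statements.S3283
import Cfsg.Agent.Lib.ExtraNine.Main

set_option autoImplicit false
open Cfsg

namespace Cfsg.Agent.S3283

/-- Let G be a finite group with an involution z whose centralizer M has Q = O₂(M) extraspecial of order 2⁹ with C_M(Q) ≤ Q, and M/Q isomorphic to S₃ × A₆ or to S₃ × S₆. Then G is not simple. -/
theorem result {G : Type*} [Group G] [Finite G] (z : G) (hz : orderOf z = 2)
    (hQ : Cfsg.IsExtraspecial 2 ↥(Cfsg.pCore 2 ↥(Subgroup.centralizer ({z} : Set G)))) (hQ9 : Nat.card ↥(Cfsg.pCore 2 ↥(Subgroup.centralizer ({z} : Set G))) = 2 ^ 9)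
    (hCQ : Subgroup.centralizer ((Cfsg.pCore 2 ↥(Subgroup.centralizer ({z} : Set G))) : Set ↥(Subgroup.centralizer ({z} : Set G))) ≤ Cfsg.pCore 2 ↥(Subgroup.centralizer ({z} : Set G)))
    (hMQ : Nonempty (↥(Subgroup.centralizer ({z} : Set G)) ⧸ Cfsg.pCore 2 ↥(Subgroup.centralizer ({z} : Set G)) ≃* (Equiv.Perm (Fin 3) × ↥(alternatingGroup (Fin 6)))) ∨
      Nonempty (↥(Subgroup.centralizer ({z} : Set G)) ⧸ Cfsg.pCore 2 ↥(Subgroup.centralizer ({z} : Set G)) ≃* (Equiv.Perm (Fin 3) × Equiv.Perm (Fin 6)))) :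
    ¬ IsSimpleGroup G := by
  intro hsimple
  haveI := hsimple
  classical
  set Q0 := Cfsg.pCore 2 ↥(Subgroup.centralizer ({z} : Set G)) with hQ0
  haveI : Fact (Nat.Prime 2) := ⟨Nat.prime_two⟩
  haveI hn : Q0.Normal := CfsgLib.Coprime.pCore_normal' (G := ↥(Subgroup.centralizer ({z} : Set G))) 2
  obtain ⟨ψ, hker, hrange⟩ : ∃ ψ : ↥(Subgroup.centralizer ({z} : Set G)) →* CfsgLib.ExtraNine.GS,
      (∀ x, ψ x = 1 ↔ x ∈ Q0) ∧
      ∀ p : CfsgLib.ExtraNine.GS, Equiv.Perm.sign p.1 = 1 → Equiv.Perm.sign p.2 = 1 →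
        ∃ x, ψ x = p := by
    rcases hMQ with ⟨⟨e⟩⟩ | ⟨⟨e⟩⟩
    · refine ⟨((MonoidHom.id (Equiv.Perm (Fin 3))).prodMap (alternatingGroup (Fin 6)).subtype).comp
        (e.toMonoidHom.comp (QuotientGroup.mk' Q0)), fun x => ?_, fun p _ h2 => ?_⟩
      · rw [MonoidHom.comp_apply, map_eq_one_iff _ (Prod.map_injective.2
          ⟨Function.injective_id, Subgroup.subtype_injective _⟩), MonoidHom.comp_apply,
          MulEquiv.coe_toMonoidHom, EmbeddingLike.map_eq_one_iff, QuotientGroup.mk'_apply,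
          QuotientGroup.eq_one_iff]
      · obtain ⟨y, hy⟩ := QuotientGroup.mk'_surjective Q0
          (e.symm (p.1, ⟨p.2, Equiv.Perm.mem_alternatingGroup.2 h2⟩))
        refine ⟨y, ?_⟩
        rw [MonoidHom.comp_apply, MonoidHom.comp_apply, hy, MulEquiv.coe_toMonoidHom,
          MulEquiv.apply_symm_apply]
        rfl
    · refine ⟨e.toMonoidHom.comp (QuotientGroup.mk' Q0), fun x => ?_, fun p _ _ => ?_⟩
      · rw [MonoidHom.comp_apply, MulEquiv.coe_toMonoidHom, EmbeddingLike.map_eq_one_iff,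
          QuotientGroup.mk'_apply, QuotientGroup.eq_one_iff]
      · obtain ⟨y, hy⟩ := QuotientGroup.mk'_surjective Q0 (e.symm p)
        exact ⟨y, by rw [MonoidHom.comp_apply, hy, MulEquiv.coe_toMonoidHom,
          MulEquiv.apply_symm_apply]⟩
  obtain ⟨Q, π, h⟩ := CfsgLib.ExtraNine.pi_nine hz hQ hQ9 hCQ ψ hker hrange
  refine CfsgLib.ExtraNine.simple_false (fun hcomm => ?_) h
  obtain ⟨a, -, b, -, hab⟩ := h.not_central
  exact hab (hcomm.is_comm.comm a b)

end Cfsg.Agent.S3283
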