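import Cfsg.Statements.S3284
import Cfsg.Agent.Lib.ExtraNine.Main
import Cfsg.Agent.Lib.Coprime.Component

set_option autoImplicit false
open Cfsg

namespace Cfsg.Agent.S3284

/-- There is no non-abelian finite simple group with an involution z whose centralizer M has generalized Fitting subgroup Q = F*(M) extraspecial of order 2⁹ and M/Q isomorphic to the subgroup of S₃ × S₆ consisting of the pairs of permutations with equal sign (a group (3 × A₆)·2 in which an involution outside 3 × A₆ induces S₃ on the first factor and S₆ on the second). -/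
theorem result {G : Type*} [Group G] [Finite G] [IsSimpleGroup G] (hG : ¬ IsMulCommutative G) (z : G) (hz : orderOf z = 2)
    [hn : (Cfsg.generalizedFittingSubgroup ↥(Subgroup.centralizer ({z} : Set G))).Normal]
    (hQ : Cfsg.IsExtraspecial 2 ↥(Cfsg.generalizedFittingSubgroup ↥(Subgroup.centralizer ({z} : Set G)))) (hQ9 : Nat.card ↥(Cfsg.generalizedFittingSubgroup ↥(Subgroup.centralizer ({z} : Set G))) = 2 ^ 9)
    (e : (↥(Subgroup.centralizer ({z} : Set G)) ⧸ Cfsg.generalizedFittingSubgroup ↥(Subgroup.centralizer ({z} : Set G))) ≃*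
      ↥(MonoidHom.ker (Equiv.Perm.sign.comp (MonoidHom.fst (Equiv.Perm (Fin 3)) (Equiv.Perm (Fin 6))) *
          Equiv.Perm.sign.comp (MonoidHom.snd (Equiv.Perm (Fin 3)) (Equiv.Perm (Fin 6)))))) :
    False := by
  classical
  haveI : Fact (Nat.Prime 2) := ⟨Nat.prime_two⟩
  set C := Subgroup.centralizer ({z} : Set G)
  have heq : Cfsg.generalizedFittingSubgroup ↥C = Cfsg.pCore 2 ↥C := le_antisymm
    (CfsgLib.Coprime.le_pCore (p := 2) hQ.1.1)
    ((CfsgLib.Coprime.pCore_le_fitting (G := ↥C) 2).trans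
      CfsgLib.Coprime.fitting_le_generalizedFitting)
  have hCQ : Subgroup.centralizer ((Cfsg.pCore 2 ↥C) : Set ↥C) ≤ Cfsg.pCore 2 ↥C := by
    rw [← heq]; exact CfsgLib.Coprime.centralizer_generalizedFitting_le
  obtain ⟨Q, π, h⟩ := CfsgLib.ExtraNine.pi_nine hz (heq ▸ hQ) (heq ▸ hQ9) hCQ
    ((Subgroup.subtype _).comp (e.toMonoidHom.comp (QuotientGroup.mk' _)))
    (fun x => by
      rw [← heq, MonoidHom.comp_apply, map_eq_one_iff _ (Subgroup.subtype_injective _),
        MonoidHom.comp_apply, MulEquiv.coe_toMonoidHom, EmbeddingLike.map_eq_one_iff,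
        QuotientGroup.mk'_apply, QuotientGroup.eq_one_iff])
    (fun p h1 h2 => by
      obtain ⟨y, hy⟩ := QuotientGroup.mk'_surjective _ (e.symm ⟨p, by
        rw [MonoidHom.mem_ker]
        show Equiv.Perm.sign p.1 * Equiv.Perm.sign p.2 = 1
        rw [h1, h2, one_mul]⟩)
      refine ⟨y, ?_⟩
      rw [MonoidHom.comp_apply, MonoidHom.comp_apply, hy, MulEquiv.coe_toMonoidHom,
        MulEquiv.apply_symm_apply]
      rfl)
  exact CfsgLib.ExtraNine.simple_false hG h

end Cfsg.Agent.S3284
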