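import Cfsg.Statements.S3294
import Cfsg.Agent.Lib.Invol.OddCore
import Cfsg.Agent.Lib.Invol.QuaternionAut
import Cfsg.Agent.Lib.Coprime.Solvable


set_option autoImplicit false
open Cfsg

namespace Cfsg.Agent.S3294

/-- A finite solvable group whose Sylow 2-subgroups are generalized quaternion of order at least 32 has a normal 2-complement. -/
theorem result {G : Type*} [Group G] [Finite G] (hsol : Group.IsSolvable G) (T : Sylow 2 G) (n : ℕ) (hn : 3 ≤ n) (hT : Nonempty ((T : Subgroup G) ≃* QuaternionGroup (2 ^ n))) : Cfsg.HasNormalPComplement 2 G := by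
  haveI : Fact (Nat.Prime 2) := ⟨Nat.prime_two⟩
  haveI := hsol
  obtain ⟨e⟩ := hT
  haveI := CfsgLib.Coprime.pPrimeCore_characteristic (G := G) 2
  have hN : (Nat.card (Cfsg.pPrimeCore 2 G)).Coprime 2 := CfsgLib.Coprime.pPrimeCore_coprime Nat.prime_two
  obtain ⟨T', ⟨e'⟩⟩ := CfsgLib.Invol.exists_sylow_quotient_equiv (Cfsg.pPrimeCore 2 G) hN T
  obtain ⟨ψ, hψ⟩ : ∃ ψ, ψ = e'.symm.trans e := ⟨_, rfl⟩
  haveI : Group.IsSolvable (G ⧸ Cfsg.pPrimeCore 2 G) :=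
    Group.isSolvable_of_surjective (QuotientGroup.mk'_surjective _)
  refine CfsgLib.Invol.hasNormalPComplement_of_isPGroup_quotient _ hN
    (CfsgLib.Invol.isPGroup_two_of_odd_centralizes
      (CfsgLib.Coprime.pPrimeCore_quotient_eq_bot Nat.prime_two) fun x hx => ?_)
  have hle : Cfsg.pCore 2 (G ⧸ Cfsg.pPrimeCore 2 G) ≤ (T' : Subgroup _) :=
    CfsgLib.Coprime.pCore_le_sylow T'
  haveI := CfsgLib.Coprime.pCore_normal' (G := G ⧸ Cfsg.pPrimeCore 2 G) 2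
  let φ : ↥(Cfsg.pCore 2 (G ⧸ Cfsg.pPrimeCore 2 G)) →* QuaternionGroup (2 ^ n) :=
    ψ.toMonoidHom.comp (Subgroup.inclusion hle)
  have h1 := CfsgLib.Invol.aut_eq_one_of_quaternion_normal
    (CfsgLib.Coprime.pCore_isPGroup (G := G ⧸ Cfsg.pPrimeCore 2 G) 2) hn φ
    (ψ.injective.comp (Subgroup.inclusion_injective hle))
    (fun q h => by
      obtain ⟨t, rfl⟩ := ψ.surjective q
      refine ⟨⟨(t : G ⧸ Cfsg.pPrimeCore 2 G) * h * (t : G ⧸ Cfsg.pPrimeCore 2 G)⁻¹,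
        (inferInstance : (Cfsg.pCore 2 (G ⧸ Cfsg.pPrimeCore 2 G)).Normal).conj_mem _ h.2 _⟩, ?_⟩
      show ψ _ = ψ t * ψ _ * (ψ t)⁻¹
      rw [← map_inv, ← map_mul, ← map_mul]
      rfl)
    (MulAut.conjNormal x) hx (by rw [← map_pow, pow_orderOf_eq_one, map_one])
  rw [Subgroup.mem_centralizer_iff]
  intro r hr
  have h2 := congrArg (fun s : MulAut ↥(Cfsg.pCore 2 (G ⧸ Cfsg.pPrimeCore 2 G)) => ((s ⟨r, hr⟩ : ↥(Cfsg.pCore 2 (G ⧸ Cfsg.pPrimeCore 2 G))) : G ⧸ Cfsg.pPrimeCore 2 G)) h1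
  simp only [MulAut.conjNormal_apply, MulAut.one_apply] at h2
  exact (mul_inv_eq_iff_eq_mul.1 h2).symm

end Cfsg.Agent.S3294
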