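import Cfsg.Statements.S3303
import Cfsg.Agent.Lib.Invol.OddCore
import Cfsg.Agent.Lib.Invol.DihedralSubgroup
import Cfsg.Agent.S3305
import Cfsg.Agent.Lib.Coprime.Solvable


set_option autoImplicit false
open Cfsg

namespace Cfsg.Agent.S3303

/-- Let G be a finite solvable group in which the intersection of any two distinct Sylow 2-subgroups is cyclic. Then G/O(G) has a normal Sylow 2-subgroup, where O(G) is the largest normal subgroup of odd order. -/
theorem result {G : Type*} [Group G] [Finite G] (hs : Group.IsSolvable G)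
    (hC : ∀ S T : Sylow 2 G, S ≠ T → IsCyclic ↥((S : Subgroup G) ⊓ (T : Subgroup G))) :
    ∃ P : Sylow 2 (G ⧸ Cfsg.oddCore G), (P : Subgroup (G ⧸ Cfsg.oddCore G)).Normal := by
  haveI : Fact (Nat.Prime 2) := ⟨Nat.prime_two⟩
  haveI := hs
  haveI := CfsgLib.Coprime.pPrimeCore_characteristic (G := G) 2
  haveI hN : (Cfsg.oddCore G).Normal := Subgroup.normal_of_characteristic _
  have h0 : Cfsg.pPrimeCore 2 (G ⧸ Cfsg.oddCore G) = ⊥ :=
    CfsgLib.Coprime.pPrimeCore_quotient_eq_bot Nat.prime_two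
  have hC' := Cfsg.Agent.S3305.result hC (Cfsg.oddCore G)
  haveI : Group.IsSolvable (G ⧸ Cfsg.oddCore G) :=
    Group.isSolvable_of_surjective (QuotientGroup.mk'_surjective _)
  obtain ⟨P⟩ : Nonempty (Sylow 2 (G ⧸ Cfsg.oddCore G)) := inferInstance
  by_cases hone : ∀ Q : Sylow 2 (G ⧸ Cfsg.oddCore G), Q = P
  · haveI : Subsingleton (Sylow 2 (G ⧸ Cfsg.oddCore G)) := ⟨fun a b => (hone a).trans (hone b).symm⟩
    exact ⟨P, P.normal_of_subsingleton⟩
  push Not at hone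
  obtain ⟨Q, hQ⟩ := hone
  haveI := hC' Q P hQ
  have hle : Cfsg.pCore 2 (G ⧸ Cfsg.oddCore G) ≤ (Q : Subgroup _) ⊓ (P : Subgroup _) :=
    le_inf (CfsgLib.Coprime.pCore_le_sylow Q) (CfsgLib.Coprime.pCore_le_sylow P)
  haveI : IsCyclic ↥(Cfsg.pCore 2 (G ⧸ Cfsg.oddCore G)) :=
    isCyclic_of_injective (Subgroup.inclusion hle) (Subgroup.inclusion_injective hle)
  haveI := CfsgLib.Coprime.pCore_normal' (G := G ⧸ Cfsg.oddCore G) 2
  have hp := CfsgLib.Invol.isPGroup_two_of_odd_centralizes h0 fun x hx => by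
    rw [Subgroup.mem_centralizer_iff]
    intro r hr
    have h1 := CfsgLib.Invol.aut_eq_one_of_cyclic_two_group
      (CfsgLib.Coprime.pCore_isPGroup (G := G ⧸ Cfsg.oddCore G) 2)
      (MulAut.conjNormal x : MulAut ↥(Cfsg.pCore 2 (G ⧸ Cfsg.oddCore G))) hx
      (by rw [← map_pow, pow_orderOf_eq_one, map_one])
    have h2 := congrArg (fun s : MulAut ↥(Cfsg.pCore 2 (G ⧸ Cfsg.oddCore G)) => ((s ⟨r, hr⟩ : ↥(Cfsg.pCore 2 (G ⧸ Cfsg.oddCore G))) : G ⧸ Cfsg.oddCore G)) h1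
    simp only [MulAut.conjNormal_apply, MulAut.one_apply] at h2
    exact (mul_inv_eq_iff_eq_mul.1 h2).symm
  refine ⟨P, ?_⟩
  rw [(P.3 (hp.to_subgroup ⊤) le_top).symm]
  infer_instance

end Cfsg.Agent.S3303
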