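import Cfsg.Statements.S3304
import Cfsg.Agent.Lib.Invol.GLTwoThree
import Cfsg.Agent.Lib.Coprime.Core
import Cfsg.Agent.Lib.Coprime.Solvable
import Cfsg.Agent.Lib.Coprime.UniqueOrderP
import Cfsg.Agent.Lib.Char.Zassenhaus.SixTypes
import Cfsg.Agent.Lib.PGroup.CyclicIndexTwoAut

set_option autoImplicit false
open Cfsg

namespace Cfsg.Agent.S3304

open Subgroup CfsgLib

/-- A 2-group of rank one has one involution. -/
theorem uniqueOrder_of_rank {P : Type*} [Group P] [Finite P] (hP : IsPGroup 2 P)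
    (hr : Cfsg.PRankLE 2 1 P) : Coprime.UniqueOrderP 2 P := by
  haveI : Fact (Nat.Prime 2) := ⟨Nat.prime_two⟩
  classical
  intro x y hx hy hx1
  haveI : Nontrivial P := ⟨⟨x, 1, hx1⟩⟩
  haveI := hP.center_nontrivial
  obtain ⟨k, hk⟩ := (IsPGroup.iff_card.1 (hP.to_subgroup (center P)))
  have hk0 : k ≠ 0 := fun h => by
    rw [h, pow_zero] at hk
    exact absurd hk (Finite.one_lt_card (α := center P)).ne'
  obtain ⟨z, hz⟩ := exists_prime_orderOf_dvd_card' (G := center P) 2 (hk ▸ dvd_pow_self 2 hk0)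
  have hz2 : (z : P) ^ 2 = 1 := by
    rw [← orderOf_dvd_iff_pow_eq_one, Subgroup.orderOf_coe, hz]
  have hz1 : (z : P) ≠ 1 := fun h => by
    rw [show z = 1 from Subtype.ext h, orderOf_one] at hz; exact absurd hz (by decide)
  have key : ∀ v : P, v ^ 2 = 1 → v = 1 ∨ v = (z : P) := by
    intro v hv
    by_contra h
    push Not at h
    have hcomm : Commute (z : P) v := (mem_center_iff.1 z.2 v).symm
    set A := closure ({(z : P), v} : Set P)
    have hA : IsMulCommutative A := Subgroup.isMulCommutative_closure (by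
      rintro a (rfl | rfl) b (rfl | rfl)
      exacts [rfl, hcomm.eq, hcomm.symm.eq, rfl])
    have hA2 : ∀ a ∈ A, a ^ 2 = 1 := by
      intro a ha
      induction ha using closure_induction with
      | mem w hw => rcases hw with rfl | rfl; exacts [hz2, hv]
      | one => exact one_pow 2
      | mul u w hu hw h1 h2 =>
        rw [(show Commute u w from congrArg Subtype.val (hA.is_comm.comm ⟨u, hu⟩ ⟨w, hw⟩)).mul_pow, h1, h2,
          one_mul]
      | inv u hu h1 => rw [inv_pow, h1, inv_one]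
    have hcard := hr A hA hA2
    have : ({1, (z : P), v} : Finset P).card ≤ Nat.card A := by
      rw [← Nat.card_eq_finsetCard]
      refine Nat.card_le_card_of_injective (fun w => (⟨w.1, ?_⟩ : A)) fun u w e => Subtype.ext (Subtype.mk.inj e)
      have := w.2
      simp only [Finset.mem_insert, Finset.mem_singleton] at this
      rcases this with e | e | e <;> rw [e]
      exacts [one_mem _, subset_closure (Or.inl rfl), subset_closure (Or.inr rfl)]
    rw [Finset.card_insert_of_notMem (by simp [hz1.symm, h.1.symm]), Finset.card_pair h.2.symm] at this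
    omega
  rcases key x hx with rfl | rfl
  · exact absurd rfl hx1
  rcases key y hy with rfl | rfl
  · exact one_mem _
  · exact mem_zpowers _

/-- The hypothesis passes to `G / O(G)`. -/
theorem rank_inter_quotient {G : Type*} [Group G] [Finite G]
    (hI : ∀ S T : Sylow 2 G, S ≠ T → Cfsg.PRankLE 2 1 ↥((S : Subgroup G) ⊓ (T : Subgroup G)))
    [(Cfsg.oddCore G).Normal]
    (S T : Sylow 2 (G ⧸ Cfsg.oddCore G)) (hne : S ≠ T) :
    Cfsg.PRankLE 2 1 ↥((S : Subgroup (G ⧸ Cfsg.oddCore G)) ⊓ (T : Subgroup (G ⧸ Cfsg.oddCore G))) := by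
  haveI : Fact (Nat.Prime 2) := ⟨Nat.prime_two⟩
  intro A hA hA2
  haveI := hA
  set O := Cfsg.oddCore G
  let π := QuotientGroup.mk' O
  have hπ : Function.Surjective π := QuotientGroup.mk'_surjective O
  set X := A.map ((S : Subgroup (G ⧸ O)) ⊓ (T : Subgroup (G ⧸ O))).subtype with hX
  have hXS : X ≤ (S : Subgroup (G ⧸ O)) := (map_subtype_le A).trans inf_le_left
  have hXT : X ≤ (T : Subgroup (G ⧸ O)) := (map_subtype_le A).trans inf_le_right
  have hXc : Nat.card X = Nat.card A := card_map_of_injective (Subgroup.subtype_injective _)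
  have hXp : IsPGroup 2 X := (S.isPGroup'.to_le hXS)
  -- a Sylow subgroup of the preimage maps onto `X`
  obtain ⟨P⟩ : Nonempty (Sylow 2 (X.comap π)) := inferInstance
  have hOodd : ¬ 2 ∣ Nat.card O := CfsgLib.Coprime.pPrimeCore_not_dvd (G := G) Nat.prime_two
  set Y := (P : Subgroup (X.comap π)).map (X.comap π).subtype with hY
  have hYX : Y.map π ≤ X := by
    rw [map_le_iff_le_comap]; exact map_subtype_le _
  have hYp : IsPGroup 2 Y := P.isPGroup'.map _
  have hinj : ∀ H : Subgroup G, IsPGroup 2 H → Nat.card (H.map π) = Nat.card H := by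
    intro H hH
    suffices hj : ∀ a ∈ H, ∀ b ∈ H, π a = π b → a = b by
      have hi : Function.Injective (π.comp H.subtype) := fun a b e => Subtype.ext (hj _ a.2 _ b.2 e)
      have hr : (π.comp H.subtype).range = H.map π := by rw [MonoidHom.range_comp, Subgroup.range_subtype]
      rw [← hr]
      exact (Nat.card_congr (MonoidHom.ofInjective hi).toEquiv).symm
    intro a ha b hb hab
    have h1 : a⁻¹ * b ∈ O := QuotientGroup.eq.1 hab
    have h2 : a⁻¹ * b ∈ H := mul_mem (inv_mem ha) hb
    obtain ⟨k, hk⟩ := IsPGroup.iff_card.1 hH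
    have d1 : orderOf (a⁻¹ * b) ∣ Nat.card O := Subgroup.orderOf_dvd_natCard _ h1
    have d2 : orderOf (a⁻¹ * b) ∣ 2 ^ k := hk ▸ Subgroup.orderOf_dvd_natCard _ h2
    have := orderOf_eq_one_iff.1 (Nat.eq_one_of_dvd_coprimes
      (Nat.Coprime.pow_left k ((Nat.Prime.coprime_iff_not_dvd Nat.prime_two).2 hOodd)) d2 d1)
    exact inv_mul_eq_one.1 this
  have hYe : Y.map π = X := by
    refine eq_of_le_of_card_ge hYX ?_
    obtain ⟨n, hn⟩ := IsPGroup.iff_card.1 hXp
    rw [hinj Y hYp, show Nat.card Y = Nat.card (P : Subgroup (X.comap π)) from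
      card_map_of_injective (Subgroup.subtype_injective _), hn]
    refine Nat.le_of_dvd Nat.card_pos (P.pow_dvd_card_of_pow_dvd_card ?_)
    rw [← hn]
    exact card_dvd_of_surjective (π.subgroupComap X) (π.subgroupComap_surjective_of_surjective X hπ)
  -- Sylow subgroups of `G` over `S`, `T` containing `Y`
  have hlift : ∀ U : Sylow 2 (G ⧸ O), X ≤ (U : Subgroup (G ⧸ O)) →
      ∃ U' : Sylow 2 G, Y ≤ (U' : Subgroup G) ∧ (U' : Subgroup G).map π = (U : Subgroup (G ⧸ O)) := by
    intro U hXU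
    let W := (U : Subgroup (G ⧸ O)).comap π
    obtain ⟨V, hV⟩ := (hYp.comap_of_injective W.subtype W.subtype_injective).exists_le_sylow
    have hVp : IsPGroup 2 ((V : Subgroup W).map W.subtype) := V.isPGroup'.map _
    obtain ⟨U', hU'⟩ := hVp.exists_le_sylow
    refine ⟨U', ?_, ?_⟩
    · intro y hy
      have hyW : y ∈ W := by
        show π y ∈ (U : Subgroup (G ⧸ O))
        exact hXU (hYe ▸ mem_map_of_mem π hy)
      exact hU' ⟨⟨y, hyW⟩, hV hy, rfl⟩
    · have hsmall : (U : Subgroup (G ⧸ O)) ≤ (U' : Subgroup G).map π := by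
        have h1 : ((V : Subgroup W).map W.subtype).map π = (U : Subgroup (G ⧸ O)) := by
          refine eq_of_le_of_card_ge (map_le_iff_le_comap.2 (map_subtype_le _)) ?_
          obtain ⟨n, hn⟩ := IsPGroup.iff_card.1 U.isPGroup'
          rw [hinj _ hVp, card_map_of_injective (Subgroup.subtype_injective _), hn]
          refine Nat.le_of_dvd Nat.card_pos (V.pow_dvd_card_of_pow_dvd_card ?_)
          rw [← hn]
          exact card_dvd_of_surjective (π.subgroupComap _) (π.subgroupComap_surjective_of_surjective _ hπ)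
        exact h1 ▸ map_mono hU'
      exact U.3 (U'.isPGroup'.map _) hsmall
  obtain ⟨S', hS', eS⟩ := hlift S hXS
  obtain ⟨T', hT', eT⟩ := hlift T hXT
  have hne' : S' ≠ T' := fun e => hne (Sylow.ext (by rw [← eS, ← eT, e]))
  have hle : Y ≤ (S' : Subgroup G) ⊓ (T' : Subgroup G) := le_inf hS' hT'
  have hYc : Nat.card Y = Nat.card A := by rw [← hinj Y hYp, hYe, hXc]
  have hYinj : ∀ u ∈ Y, ∀ w ∈ Y, π u = π w → u = w := by
    intro u hu w hw huw
    have h1 : u⁻¹ * w ∈ O := QuotientGroup.eq.1 huw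
    obtain ⟨k, hk⟩ := IsPGroup.iff_card.1 hYp
    have d1 : orderOf (u⁻¹ * w) ∣ Nat.card O := Subgroup.orderOf_dvd_natCard _ h1
    have d2 : orderOf (u⁻¹ * w) ∣ 2 ^ k := hk ▸ Subgroup.orderOf_dvd_natCard _ (mul_mem (inv_mem hu) hw)
    exact inv_mul_eq_one.1 (orderOf_eq_one_iff.1 (Nat.eq_one_of_dvd_coprimes
      (Nat.Coprime.pow_left k ((Nat.Prime.coprime_iff_not_dvd Nat.prime_two).2 hOodd)) d2 d1))
  have hπA : ∀ y ∈ Y, ∃ a ∈ A, π y = (a : G ⧸ O) := fun y hy => by
    have h : π y ∈ X := hYe ▸ mem_map_of_mem π hy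
    obtain ⟨a, ha, hae⟩ := h
    exact ⟨a, ha, hae.symm⟩
  let Y' := Y.subgroupOf ((S' : Subgroup G) ⊓ (T' : Subgroup G))
  have hc' : IsMulCommutative Y' := by
    refine ⟨⟨fun u w => Subtype.ext (Subtype.ext ?_)⟩⟩
    obtain ⟨a, ha, hae⟩ := hπA _ u.2
    obtain ⟨b, hb, hbe⟩ := hπA _ w.2
    refine hYinj _ (mul_mem u.2 w.2) _ (mul_mem w.2 u.2) ?_
    have hab : ((a * b : ↥((S : Subgroup (G ⧸ O)) ⊓ (T : Subgroup (G ⧸ O)))) : G ⧸ O) = ((b * a : _) : G ⧸ O) :=
      congrArg (fun v : A => ((v : ↥((S : Subgroup (G ⧸ O)) ⊓ (T : Subgroup (G ⧸ O)))) : G ⧸ O))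
        (hA.is_comm.comm ⟨a, ha⟩ ⟨b, hb⟩)
    have e1 : π ((u.1 : G)) = _ := hae
    have e2 : π ((w.1 : G)) = _ := hbe
    show π ((u.1 : G) * (w.1 : G)) = π ((w.1 : G) * (u.1 : G))
    rw [map_mul, map_mul, e1, e2]
    exact hab
  have h2' : ∀ v ∈ Y', v ^ 2 = 1 := by
    intro v hv
    apply Subtype.ext
    obtain ⟨a, ha, hae⟩ := hπA _ hv
    refine hYinj ((v : G) ^ 2) (pow_mem (mem_subgroupOf.1 hv) 2) 1 (one_mem Y) ?_
    have e1 : π (v : G) = _ := hae
    show π ((v : G) ^ 2) = π (1 : G)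
    rw [map_pow, map_one, e1, ← SubgroupClass.coe_pow, hA2 a ha]
    rfl
  have h := hI S' T' hne' Y' hc' h2'
  rwa [Nat.card_congr (subgroupOfEquivOfLe hle).toEquiv, hYc] at h

/-- The case `O(Q) = 1`. -/
theorem main {Q : Type*} [Group Q] [Finite Q] [Group.IsSolvable Q] (hO : Cfsg.pPrimeCore 2 Q = ⊥)
    (hI : ∀ S T : Sylow 2 Q, S ≠ T → Cfsg.PRankLE 2 1 ↥((S : Subgroup Q) ⊓ (T : Subgroup Q))) :
    (∃ P : Sylow 2 Q, (P : Subgroup Q).Normal) ∨ Nonempty (Q ≃* GL (Fin 2) (ZMod 3)) ∨
    (Nat.card Q = 48 ∧ Nat.card ↥(Subgroup.center Q) = 2 ∧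
      Nonempty (Q ⧸ Subgroup.center Q ≃* Equiv.Perm (Fin 4)) ∧
      ∀ P : Sylow 2 Q, Nonempty (↥(P : Subgroup Q) ≃* QuaternionGroup 4)) := by
  classical
  haveI : Fact (Nat.Prime 2) := ⟨Nat.prime_two⟩
  haveI : Fact (Nat.Prime 3) := ⟨Nat.prime_three⟩
  by_cases hn : ∃ P : Sylow 2 Q, (P : Subgroup Q).Normal
  · exact Or.inl hn
  right
  push Not at hn
  set R := Cfsg.pCore 2 Q with hRdef
  haveI hRn : R.Normal := CfsgLib.Coprime.pCore_normal' 2
  have hRp : IsPGroup 2 R := CfsgLib.Coprime.pCore_isPGroup 2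
  have hself : centralizer (R : Set Q) ≤ R := CfsgLib.Coprime.centralizer_pCore_le hO
  have hRS : ∀ S : Sylow 2 Q, R ≤ (S : Subgroup Q) := fun S => by
    obtain ⟨g, hg⟩ := hRp.exists_le_sylow
    obtain ⟨c, rfl⟩ := MulAction.exists_smul_eq Q g S
    intro r hr
    refine ⟨c⁻¹ * r * c, hg (by simpa using hRn.conj_mem r hr c⁻¹), ?_⟩
    simp [MulAut.conj_apply, mul_assoc]
  obtain ⟨S⟩ : Nonempty (Sylow 2 Q) := inferInstance
  have hnS := hn S
  obtain ⟨T, hT⟩ : ∃ T : Sylow 2 Q, T ≠ S := by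
    by_contra h
    push Not at h
    exact hnS ⟨fun x hx g => by
      have h2 : (g • S : Sylow 2 Q) = S := h _
      have : g * x * g⁻¹ ∈ ((g • S : Sylow 2 Q) : Subgroup Q) := ⟨x, hx, rfl⟩
      rwa [h2] at this⟩
  have hRrank : Cfsg.PRankLE 2 1 R := fun A hA hA2 => by
    haveI := hA
    let ι := Subgroup.inclusion (le_inf (hRS S) (hRS T))
    have h := hI S T hT.symm (A.map ι) inferInstance (by
      rintro _ ⟨a, ha, rfl⟩; rw [← map_pow, hA2 a ha, map_one])
    rwa [card_map_of_injective (Subgroup.inclusion_injective _)] at h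
  have hu := uniqueOrder_of_rank hRp hRrank
  -- an element of odd prime order
  have hodd : ∃ a : Q, orderOf a ≠ 1 ∧ Odd (orderOf a) := by
    by_contra h
    push Not at h
    apply hnS
    have : (S : Subgroup Q) = ⊤ := by
      apply Subgroup.eq_top_of_card_eq
      suffices h2 : ∀ {q : ℕ}, q.Prime → q ∣ Nat.card Q → q = 2 by
        rw [S.card_eq_multiplicity,
          Nat.eq_prime_pow_of_unique_prime_dvd (p := 2) (Nat.card_pos (α := Q)).ne' h2,
          Nat.factorization_pow_self Nat.prime_two]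
      intro q hq hd
      by_contra h2
      haveI := Fact.mk hq
      obtain ⟨a, ha⟩ := exists_prime_orderOf_dvd_card' q hd
      exact h a (by rw [ha]; exact hq.ne_one) (by rw [ha]; exact hq.odd_of_ne_two h2)
    rw [this]
    infer_instance
  obtain ⟨a, ha1, hao⟩ := hodd
  let c : Q →* MulAut R := MulAut.conjNormal
  have hker : c.ker ≤ R := fun g hg => hself (mem_centralizer_iff.2 fun r hr => by
    have h : g * r * g⁻¹ = r :=
      congrArg Subtype.val (MulEquiv.ext_iff.1 (MonoidHom.mem_ker.1 hg) ⟨r, hr⟩)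
    exact (mul_inv_eq_iff_eq_mul.1 h).symm)
  have hca : orderOf (c a) ≠ 1 := fun h => by
    have h2 : a ∈ R := hker (MonoidHom.mem_ker.2 (orderOf_eq_one_iff.1 h))
    obtain ⟨k, hk⟩ := IsPGroup.iff_card.1 hRp
    exact ha1 (Nat.eq_one_of_dvd_coprimes (Nat.Coprime.pow_left k (Nat.coprime_two_left.2 hao))
      (hk ▸ Subgroup.orderOf_dvd_natCard _ h2) dvd_rfl)
  have hnotP : ¬ IsPGroup 2 (MulAut R) := fun hP => by
    obtain ⟨k, hk⟩ := hP (c a)
    exact hca (Nat.eq_one_of_dvd_coprimes (Nat.Coprime.pow_left k (Nat.coprime_two_left.2 hao))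
      (orderOf_dvd_of_pow_eq_one hk) (orderOf_map_dvd c a))
  haveI : Finite (MulAut R) := Finite.of_injective (fun σ => ⇑σ) DFunLike.coe_injective
  have hcyc : ¬ IsCyclic R := fun hc => hnotP (by
    obtain ⟨k, hk⟩ := IsPGroup.iff_card.1 hRp
    rcases Nat.eq_zero_or_pos k with h0 | h0
    · exact IsPGroup.of_card (n := 0) (by rw [IsCyclic.card_mulAut, hk, h0]; rfl)
    · exact IsPGroup.of_card (n := k - 1) (by rw [IsCyclic.card_mulAut, hk, Nat.totient_prime_pow Nat.prime_two h0]; simp))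
  obtain ⟨e⟩ : Nonempty (R ≃* QuaternionGroup 2) := by
    rcases CfsgLib.Coprime.cyclic_or_quaternion_of_unique_two hRp hu with h | ⟨k, ⟨e⟩⟩
    · exact absurd h hcyc
    rcases Nat.lt_or_ge k 2 with hk | hk
    · interval_cases k
      · exact absurd (e.isCyclic.2 QuaternionGroup.quaternionGroup_one_isCyclic) hcyc
      · exact ⟨e⟩
    · exact absurd ((CfsgLib.CyclicTwoAut.isPGroup_mulAut_quaternion hk).of_equiv (MulAut.congr e).symm) hnotP
  -- the order is 48
  have hR8 : Nat.card R = 8 := by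
    rw [Nat.card_congr e.toEquiv, Nat.card_eq_fintype_card, QuaternionGroup.card]
  have hcenR : Nat.card (center R) = 2 := by
    rw [Nat.card_congr (Subgroup.centerCongr e).toEquiv]
    have hc : Fintype.card {x : QuaternionGroup 2 // ∀ y, y * x = x * y} = 2 := by decide +kernel
    refine Eq.trans ?_ hc
    rw [← Nat.card_eq_fintype_card]
    exact Nat.card_congr (Equiv.subtypeEquivRight (p := fun x : QuaternionGroup 2 => x ∈ Subgroup.center (QuaternionGroup 2))
      (q := fun x : QuaternionGroup 2 => ∀ y, y * x = x * y) fun x => mem_center_iff)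
  let z := (center R).map R.subtype
  have hkz : c.ker = z := by
    refine le_antisymm ?_ ?_
    · intro g hg
      refine ⟨⟨g, hker hg⟩, mem_center_iff.2 fun r => Subtype.ext ?_, rfl⟩
      have h : g * r * g⁻¹ = r :=
        congrArg Subtype.val (MulEquiv.ext_iff.1 (MonoidHom.mem_ker.1 hg) r)
      exact (mul_inv_eq_iff_eq_mul.1 h).symm
    · rintro _ ⟨w, hw, rfl⟩
      refine MonoidHom.mem_ker.2 (MulEquiv.ext fun r => Subtype.ext ?_)
      show (w : Q) * r * (w : Q)⁻¹ = r
      rw [show (w : Q) * r = r * w from (congrArg Subtype.val (mem_center_iff.1 hw r)).symm, mul_inv_cancel_right]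
  have hzc : Nat.card z = 2 := by
    rw [card_map_of_injective R.subtype_injective, hcenR]
  have hQeq : Nat.card Q = 2 * Nat.card c.range := by
    rw [← c.ker.card_mul_index, index_ker, hkz, hzc]
  have hrange : Nat.card c.range ≤ 24 := (Subgroup.card_le_card_group _).trans
    ((Nat.card_congr (MulAut.congr e).toEquiv).le.trans CfsgLib.GLTwoThree.card_mulAut_le)
  have ha3 : ∃ p : ℕ, p.Prime ∧ p ≠ 2 ∧ p ∣ Nat.card Q := by
    obtain ⟨p, hp, hpd⟩ := Nat.exists_prime_and_dvd ha1
    exact ⟨p, hp, fun h => by rw [h] at hpd; exact Nat.not_even_iff_odd.2 hao (even_iff_two_dvd.2 hpd),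
      hpd.trans (orderOf_dvd_natCard a)⟩
  have h8 : 8 ∣ Nat.card Q := hR8 ▸ card_subgroup_dvd_card R
  have hSylow : Nat.card (S : Subgroup Q) ≠ 8 := fun h => hnS (by
    rw [← eq_of_le_of_card_ge (hRS S) (by rw [h, hR8])]; exact hRn)
  have hQ48 : Nat.card Q = 48 := by
    obtain ⟨p, hp, hp2, hpQ⟩ := ha3
    obtain ⟨m, hm⟩ := Nat.Coprime.mul_dvd_of_dvd_of_dvd
      (Nat.Coprime.pow_left 3 ((Nat.coprime_primes Nat.prime_two hp).2 hp2.symm)) h8 hpQ
    have hle : Nat.card Q ≤ 48 := by omega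
    have hp5 : p ≤ 6 ∧ 3 ≤ p := ⟨by
      have : 1 ≤ m := Nat.pos_of_ne_zero fun h => Nat.card_pos.ne' (by rw [hm, h, mul_zero])
      nlinarith, by have := hp.two_le; omega⟩
    have hval : ∀ n : ℕ, n = 24 ∨ n = 40 → Nat.card Q ≠ n := by
      intro n hn' hQn
      refine hSylow ?_
      rw [S.card_eq_multiplicity, hQn]
      rcases hn' with rfl | rfl
      · rw [show 24 = 2 ^ 3 * 3 by norm_num, Nat.factorization_mul (by norm_num) (by norm_num), Finsupp.add_apply,
          Nat.Prime.factorization_pow Nat.prime_two, Finsupp.single_eq_same,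
          Nat.factorization_eq_zero_of_not_dvd (by norm_num : ¬ 2 ∣ 3)]
        norm_num
      · rw [show 40 = 2 ^ 3 * 5 by norm_num, Nat.factorization_mul (by norm_num) (by norm_num), Finsupp.add_apply,
          Nat.Prime.factorization_pow Nat.prime_two, Finsupp.single_eq_same,
          Nat.factorization_eq_zero_of_not_dvd (by norm_num : ¬ 2 ∣ 5)]
        norm_num
    have h1 := hval 24 (Or.inl rfl)
    have h2 := hval 40 (Or.inr rfl)
    obtain ⟨hp6, hp3⟩ := hp5
    have hpos := Nat.card_pos (α := Q)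
    interval_cases p
    · omega
    · exact absurd hp (by decide)
    · omega
    · exact absurd hp (by decide)
  have hcz : center Q = z := by
    refine le_antisymm ?_ ?_
    · rw [← hkz]
      intro g hg
      exact MonoidHom.mem_ker.2 (MulEquiv.ext fun r => Subtype.ext (by
        show g * r * g⁻¹ = r
        rw [← mem_center_iff.1 hg r, mul_inv_cancel_right]))
    · haveI : z.Normal := hkz ▸ inferInstance
      intro w hw
      rcases eq_or_ne w 1 with rfl | hw1
      · exact one_mem _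
      rw [mem_center_iff]
      intro g
      have h2 : g * w * g⁻¹ ∈ z := Subgroup.Normal.conj_mem inferInstance w hw g
      have hcd := Nat.card_eq_two_iff' (⟨1, one_mem z⟩ : z) |>.1 hzc
      obtain ⟨u, -, huu⟩ := hcd
      have e1 := huu ⟨w, hw⟩ (fun e => hw1 (congrArg Subtype.val e))
      have e2 := huu ⟨g * w * g⁻¹, h2⟩ (fun e => hw1 (conj_eq_one_iff.1 (congrArg Subtype.val e)))
      have e3 : g * w * g⁻¹ = w := congrArg Subtype.val (e2.trans e1.symm)
      exact mul_inv_eq_iff_eq_mul.1 e3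
  by_cases hinv : ∃ t : Q, orderOf t = 2 ∧ t ∉ R
  · obtain ⟨t, ht, htR⟩ := hinv
    obtain ⟨F⟩ := CfsgLib.GLTwoThree.nonempty_frame R e hself hQ48 le_rfl ht htR
    obtain ⟨F'⟩ := CfsgLib.GLTwoThree.nonempty_frame_gl
    exact Or.inl (CfsgLib.GLTwoThree.nonempty_equiv F F')
  right
  push Not at hinv
  refine ⟨hQ48, by rw [hcz]; exact hzc, ?_, ?_⟩
  · set Z := center Q
    let π := QuotientGroup.mk' Z
    have hZR : Z ≤ R := by rw [hcz]; exact map_subtype_le _
    set V := R.map π with hV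
    haveI : V.Normal := hRn.map π (QuotientGroup.mk'_surjective Z)
    have hcomapV : V.comap π = R := comap_map_eq_self (by rw [QuotientGroup.ker_mk']; exact hZR)
    have hV4 : Nat.card V = 4 := by
      have h := Subgroup.index_comap_of_surjective V (QuotientGroup.mk'_surjective Z)
      rw [hcomapV] at h
      have h1 := R.card_mul_index
      rw [h, hR8, hQ48] at h1
      have h2 := V.card_mul_index
      have h3 := Z.card_eq_card_quotient_mul_card_subgroup
      rw [hQ48, show Nat.card Z = 2 from hcz ▸ hzc] at h3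
      have h6 : V.index = 6 := by omega
      rw [h6] at h2
      omega
    have hsq : ∀ r : R, (r * r : R) ∈ center R := by
      have : ∀ x y : QuaternionGroup 2, y * (x * x) = x * x * y := by decide +kernel
      intro r
      refine mem_center_iff.2 fun s => e.injective ?_
      rw [map_mul e s, map_mul e r, map_mul e (r * r), map_mul e r]
      exact this _ _
    have hV2 : ∀ v ∈ V, v * v = 1 := by
      rintro _ ⟨r, hr, rfl⟩
      rw [← map_mul]
      refine (QuotientGroup.eq_one_iff _).2 ?_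
      rw [hcz]
      exact ⟨_, hsq ⟨r, hr⟩, rfl⟩
    have hC : centralizer (V : Set (Q ⧸ Z)) ≤ V := by
      set C := (centralizer (V : Set (Q ⧸ Z))).comap π
      haveI : C.Normal := inferInstance
      suffices IsPGroup 2 C by
        intro w hw
        obtain ⟨g, rfl⟩ := QuotientGroup.mk'_surjective Z w
        exact mem_map_of_mem π (CfsgLib.Coprime.le_pCore this hw)
      intro g
      by_contra hg
      have : ∃ b ∈ C, orderOf b = 3 := by
        by_contra h3
        push Not at h3
        apply hg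
        obtain ⟨k, -, hk⟩ := (Nat.dvd_prime_pow Nat.prime_two).1 (show orderOf (g : Q) ∣ 2 ^ 4 from by
          have hd : orderOf (g : Q) ∣ 2 ^ 4 * 3 := by
            rw [show 2 ^ 4 * 3 = 48 from rfl, ← hQ48]; exact orderOf_dvd_natCard _
          refine (Nat.Coprime.dvd_mul_right ?_).1 hd
          rw [Nat.coprime_comm, Nat.Prime.coprime_iff_not_dvd Nat.prime_three]
          intro h3'
          exact h3 ((g : Q) ^ (orderOf (g : Q) / 3)) (pow_mem g.2 _)
            (CfsgLib.Invol.odd_dvd_orderOf (Nat.div_dvd_of_dvd h3') |>.trans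
              (Nat.div_div_self h3' (orderOf_pos _).ne')))
        exact ⟨k, Subtype.ext (by rw [SubgroupClass.coe_pow, ← hk]; exact pow_orderOf_eq_one _)⟩
      obtain ⟨b, hbC, hb3⟩ := this
      have hact : orderOf ((MulAut.congr e) (c b)) = 3 := by
        rw [MulEquiv.orderOf_eq]
        rcases (Nat.dvd_prime Nat.prime_three).1 (hb3 ▸ orderOf_map_dvd c b) with h | h
        · exfalso
          have h2 : b ∈ R := hker (MonoidHom.mem_ker.2 (orderOf_eq_one_iff.1 h))
          have := Subgroup.orderOf_dvd_natCard R h2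
          rw [hb3, hR8] at this
          omega
        · exact h
      refine CfsgLib.GLTwoThree.not_commute_inner hact fun q => ?_
      -- `b` centralizes `R` modulo the centre
      obtain ⟨r, rfl⟩ := e.surjective q
      have h1 : MulAut.conj (e r) = (MulAut.congr e) (c r) := by
        refine MulEquiv.ext fun x => e.symm.injective (Subtype.ext ?_)
        simp [c, MulAut.congr, MulAut.conj_apply]
      rw [h1]
      refine Commute.map ?_ (MulAut.congr e)
      have h2 : π b * π r = π r * π b :=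
        (mem_centralizer_iff.1 (mem_comap.1 hbC) (π r) ⟨r, r.2, rfl⟩).symm
      rw [← map_mul, ← map_mul] at h2
      have h3 := QuotientGroup.eq.1 h2
      rw [hcz, ← hkz, MonoidHom.mem_ker, map_mul, map_inv, map_mul, map_mul, inv_mul_eq_one] at h3
      exact h3
    have hX24 : Nat.card (Q ⧸ Z) = 24 := by
      have h3 := Z.card_eq_card_quotient_mul_card_subgroup
      rw [hQ48, show Nat.card Z = 2 from hcz ▸ hzc] at h3
      omega
    rcases CfsgLib.Char.Zassenhaus.equiv_of_self_centralizing_four V hV4 hV2 hC (fun hP => by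
      obtain ⟨k, hk⟩ := IsPGroup.iff_card.1 hP
      rw [hX24] at hk
      have : 3 ∣ 2 ^ k := ⟨8, hk.symm⟩
      exact absurd (Nat.prime_three.dvd_of_dvd_pow this) (by decide)) with h | h
    · exact h
    · obtain ⟨f⟩ := h
      have := Nat.card_congr f.toEquiv
      rw [hX24, nat_card_alternatingGroup, Nat.card_eq_fintype_card, Fintype.card_fin] at this
      exact absurd this (by decide)
  · intro P
    have hP16 : Nat.card (P : Subgroup Q) = 16 := by
      rw [P.card_eq_multiplicity, hQ48, show 48 = 2 ^ 4 * 3 by norm_num,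
        Nat.factorization_mul (by norm_num) (by norm_num), Finsupp.add_apply,
        Nat.Prime.factorization_pow Nat.prime_two, Finsupp.single_eq_same,
        Nat.factorization_eq_zero_of_not_dvd (by norm_num : ¬ 2 ∣ 3)]
      norm_num
    have hPu : CfsgLib.Coprime.UniqueOrderP 2 (P : Subgroup Q) := by
      intro x y hx hy hx1
      have hin : ∀ w : (P : Subgroup Q), w ^ 2 = 1 → (w : Q) ∈ R := fun w hw => by
        rcases eq_or_ne (w : Q) 1 with h | h
        · rw [h]; exact one_mem R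
        · exact hinv w (orderOf_eq_prime (congrArg Subtype.val hw) h)
      obtain ⟨k, hk⟩ := hu ⟨x, hin x hx⟩ ⟨y, hin y hy⟩ (Subtype.ext (congrArg (fun w : (P : Subgroup Q) => (w : Q)) hx))
        (Subtype.ext (congrArg (fun w : (P : Subgroup Q) => (w : Q)) hy)) (fun e => hx1 (Subtype.ext (congrArg (fun w : R => (w : Q)) e)))
      exact ⟨k, Subtype.ext (congrArg (fun w : R => (w : Q)) hk)⟩
    rcases CfsgLib.Coprime.cyclic_or_quaternion_of_unique_two P.isPGroup' hPu with h | ⟨k, ⟨f⟩⟩
    · exact absurd (isCyclic_of_injective (Subgroup.inclusion (hRS P)) (Subgroup.inclusion_injective _)) hcyc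
    · have := Nat.card_congr f.toEquiv
      rw [hP16, Nat.card_eq_fintype_card, QuaternionGroup.card] at this
      have hk2 : k = 2 := Nat.pow_right_injective le_rfl (show 2 ^ k = 2 ^ 2 by omega)
      subst hk2
      exact ⟨f⟩

/-- Let G be a finite solvable group in which the intersection of any two distinct Sylow 2-subgroups has 2-rank at most 1 (contains no Klein four-group). Write Q = G/O(G), O(G) the largest normal subgroup of odd order. Then Q has a normal Sylow 2-subgroup; or Q is isomorphic to GL(2,3); or Q has order 48, centre of order 2 with central quotient isomorphic to the symmetric group of degree 4, and generalized quaternion Sylow 2-subgroups of order 16 (the binary octahedral group). The last two are the two representation groups of the symmetric group of degree 4. -/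
theorem result {G : Type*} [Group G] [Finite G] (hs : Group.IsSolvable G)
    (hI : ∀ S T : Sylow 2 G, S ≠ T → Cfsg.PRankLE 2 1 ↥((S : Subgroup G) ⊓ (T : Subgroup G))) :
    (∃ P : Sylow 2 (G ⧸ Cfsg.oddCore G), (P : Subgroup (G ⧸ Cfsg.oddCore G)).Normal) ∨
    Nonempty ((G ⧸ Cfsg.oddCore G) ≃* GL (Fin 2) (ZMod 3)) ∨
    (Nat.card (G ⧸ Cfsg.oddCore G) = 48 ∧ Nat.card ↥(Subgroup.center (G ⧸ Cfsg.oddCore G)) = 2 ∧
      Nonempty ((G ⧸ Cfsg.oddCore G) ⧸ Subgroup.center (G ⧸ Cfsg.oddCore G) ≃* Equiv.Perm (Fin 4)) ∧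
      ∀ P : Sylow 2 (G ⧸ Cfsg.oddCore G), Nonempty (↥(P : Subgroup (G ⧸ Cfsg.oddCore G)) ≃* QuaternionGroup 4)) := by
  classical
  haveI : Fact (Nat.Prime 2) := ⟨Nat.prime_two⟩
  haveI : Fact (Nat.Prime 3) := ⟨Nat.prime_three⟩
  haveI := hs
  haveI hOn : (Cfsg.oddCore G).Normal := inferInstanceAs (Cfsg.pPrimeCore 2 G).Normal
  haveI : Group.IsSolvable (G ⧸ Cfsg.oddCore G) := inferInstance
  have hO1 : Cfsg.pPrimeCore 2 (G ⧸ Cfsg.oddCore G) = ⊥ := CfsgLib.Coprime.pPrimeCore_quotient_eq_bot Nat.prime_two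
  exact main hO1 (rank_inter_quotient hI)

end Cfsg.Agent.S3304
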