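import Cfsg.Statements.S3309
import Cfsg.Agent.Lib.Fusion.Tate
import Cfsg.Agent.Lib.Fusion.Transfer
import Mathlib.GroupTheory.SpecificGroups.Dihedral


set_option autoImplicit false
open Cfsg

namespace Cfsg.Agent.S3309

open Subgroup
open DihedralGroup (r sr)

/-- The group `2 × D₈`. -/
abbrev D2 : Type := Multiplicative (ZMod 2) × DihedralGroup 4

def ea : D2 := (Multiplicative.ofAdd 1, r 0)
def ez : D2 := (1, r 2)
def eb : D2 := (Multiplicative.ofAdd 1, r 2)
def es : D2 := (1, sr 0)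
def et : D2 := (1, sr 1)

/-- The parity of `i` in `r i`, `sr i`. -/
def par : DihedralGroup 4 → ZMod 2
  | r i => (i.val : ZMod 2)
  | sr i => (i.val : ZMod 2)

/-- The reflection bit. -/
def refl : DihedralGroup 4 → ZMod 2
  | r _ => 0
  | sr _ => 1

/-- The linear functionals on the Frattini quotient. -/
def func (u v w : ZMod 2) : D2 →* Multiplicative (ZMod 2) where
  toFun x := Multiplicative.ofAdd (u * Multiplicative.toAdd x.1 + v * refl x.2 + w * par x.2)
  map_one' := by revert u v w; decide +kernel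
  map_mul' := by revert u v w; decide +kernel

section
variable {G : Type*} [Group G] [Finite G] (S : Sylow 2 G) (e : ↥(S : Subgroup G) ≃* D2)

/-- The embedding of the model. -/
def emb : D2 →* G := (S : Subgroup G).subtype.comp e.symm.toMonoidHom

omit [Finite G] in
theorem emb_inj : Function.Injective (emb S e) := Subtype.val_injective.comp e.symm.injective

omit [Finite G] in
theorem emb_mem (x : D2) : emb S e x ∈ (S : Subgroup G) := (e.symm x).2

omit [Finite G] in
theorem exists_emb {w : G} (hw : w ∈ (S : Subgroup G)) : ∃ x, emb S e x = w :=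
  ⟨e ⟨w, hw⟩, by simp [emb]⟩

omit [Finite G] in
theorem conj_of_model {x y : D2} (h : ∃ k : D2, k * x * k⁻¹ = y) : IsConj (emb S e x) (emb S e y) := by
  obtain ⟨k, rfl⟩ := h
  exact isConj_iff.2 ⟨emb S e k, by simp⟩

omit [Finite G] in
theorem le_centralizer_of_central {c : D2} (hc : ∀ k : D2, k * c = c * k) :
    (S : Subgroup G) ≤ centralizer ({emb S e c} : Set G) := by
  intro w hw
  obtain ⟨k, rfl⟩ := exists_emb S e hw
  refine Subgroup.mem_centralizer_singleton_iff.2 ?_
  rw [← map_mul, ← map_mul, hc]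

theorem central_sep {x y : D2} (hx : ∀ k : D2, k * x = x * k) (hy : ∀ k : D2, k * y = y * k)
    (hxy : IsConj (emb S e x) (emb S e y)) :
    ∃ φ : D2 ≃* D2, φ x = y ∧ ∃ m : ℕ, Odd m ∧ ∀ c : D2, (∀ k : D2, k * c = c * k) → φ^[m] c = c := by
  haveI : Fact (Nat.Prime 2) := ⟨Nat.prime_two⟩
  obtain ⟨g, hg⟩ := isConj_iff.1 hxy
  obtain ⟨n, hn, hnx⟩ := CfsgLib.Fusion.exists_normalizer_conj_eq_of_central S
    (le_centralizer_of_central S e hx) g (by rw [hg]; exact le_centralizer_of_central S e hy)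
  rw [hg] at hnx
  set N := normalizer ((S : Subgroup G) : Set G)
  let φ : D2 ≃* D2 := (e.symm.trans ((Subgroup.normalizerMonoidHom (S : Subgroup G) ⟨n, hn⟩))).trans e
  have hφ : ∀ c : D2, emb S e (φ c) = n * emb S e c * n⁻¹ := by
    intro c
    simp [emb, φ]
    rfl
  refine ⟨φ, emb_inj S e (by rw [hφ, hnx]), ((S : Subgroup G).subgroupOf N).index, ?_, ?_⟩
  · rw [← Nat.not_even_iff_odd, even_iff_two_dvd]
    exact fun h => S.not_dvd_index (h.trans (relIndex_dvd_index_of_le le_normalizer))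
  intro c hc
  set m := ((S : Subgroup G).subgroupOf N).index
  have hit : ∀ j : ℕ, emb S e (φ^[j] c) = n ^ j * emb S e c * (n ^ j)⁻¹ := by
    intro j
    induction j with
    | zero => simp
    | succ j ih => rw [Function.iterate_succ_apply', hφ, ih, pow_succ']; group
  have hm : n ^ m ∈ (S : Subgroup G) := by
    haveI : ((S : Subgroup G).subgroupOf N).Normal := Subgroup.normal_in_normalizer
    exact Subgroup.mem_subgroupOf.1 (Subgroup.pow_index_mem ((S : Subgroup G).subgroupOf N) ⟨n, hn⟩)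
  refine emb_inj S e ?_
  rw [hit, Subgroup.mem_centralizer_singleton_iff.1 (le_centralizer_of_central S e hc hm),
    mul_inv_cancel_right]

theorem not_conj_a_b : ¬ IsConj (emb S e ea) (emb S e eb) := by
  intro h
  obtain ⟨φ, hφ, m, hm, hfix⟩ := central_sep S e (x := ea) (y := eb) (by decide +kernel) (by decide +kernel) h
  have hz : φ ez = ez := by
    have h1 : φ ez = φ (1, r 1) * φ (1, r 1) := by rw [← map_mul]; rfl
    have h2 : ∀ x : D2, x * x = 1 ∨ x * x = ez := by decide +kernel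
    rcases h2 (φ (1, r 1)) with h3 | h3
    · rw [← h1, map_eq_one_iff φ φ.injective] at h3
      exact absurd h3 (by decide +kernel)
    · rw [h1, h3]
  have hb : φ eb = ea := by
    rw [show eb = ea * ez from by decide +kernel, map_mul, hφ, hz]; decide +kernel
  obtain ⟨j, rfl⟩ := hm
  have hit : ∀ i : ℕ, φ^[2 * i] ea = ea := by
    intro i
    induction i with
    | zero => rfl
    | succ i ih =>
      rw [show 2 * (i + 1) = 2 * i + 1 + 1 by ring, Function.iterate_succ_apply',
        Function.iterate_succ_apply', ih, hφ, hb]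
  have := hfix ea (by decide +kernel)
  rw [show 2 * j + 1 = Nat.succ (2 * j) from rfl, Function.iterate_succ_apply', hit, hφ] at this
  exact absurd this (by decide +kernel)

theorem not_conj_of_z {c : D2} (hc : ∀ k : D2, k * c = c * k) (hne : c ≠ ez) :
    ¬ IsConj (emb S e ez) (emb S e c) := by
  intro h
  obtain ⟨φ, hφ, -⟩ := central_sep S e (x := ez) (y := c) (by decide +kernel) hc h
  have h1 : φ ez = φ (1, r 1) * φ (1, r 1) := by rw [← map_mul]; rfl
  have h2 : ∀ x : D2, x * x = 1 ∨ x * x = ez := by decide +kernel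
  rcases h2 (φ (1, r 1)) with h3 | h3
  · rw [← h1, map_eq_one_iff φ φ.injective] at h3
    exact absurd h3 (by decide +kernel)
  · exact hne (hφ ▸ h1.trans h3)

/-- Transfer: a central involution outside a maximal subgroup has a conjugate inside. -/
theorem exists_conj_in [IsSimpleGroup G] (hG : ¬ IsMulCommutative G) (χ : D2 →* Multiplicative (ZMod 2))
    {x : D2} (hx : x * x = 1) (hxχ : χ x ≠ 1) :
    ∃ m : D2, χ m = 1 ∧ IsConj (emb S e x) (emb S e m) := by
  by_contra hno
  push Not at hno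
  haveI : Fact (Nat.Prime 2) := ⟨Nat.prime_two⟩
  set Q := χ.ker.map (emb S e)
  have hQS : Q ≤ (S : Subgroup G) := by
    rintro _ ⟨k, -, rfl⟩
    exact emb_mem S e k
  have hrange : (⊤ : Subgroup D2).map (emb S e) = (S : Subgroup G) := by
    refine le_antisymm ?_ fun w hw => ?_
    · rintro _ ⟨k, -, rfl⟩
      exact emb_mem S e k
    · obtain ⟨k, rfl⟩ := exists_emb S e hw
      exact ⟨k, Subgroup.mem_top k, rfl⟩
  have hidx : Q.relIndex (S : Subgroup G) = 2 := by
    rw [← hrange, relIndex_map_map_of_injective _ _ (emb_inj S e), relIndex_top_right,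
      Subgroup.index_ker]
    have h1 : χ.range = ⊤ := by
      refine eq_top_iff.2 fun y _ => ?_
      have h01 : ∀ y z : Multiplicative (ZMod 2), z ≠ 1 → y = 1 ∨ y = z := by decide +kernel
      rcases h01 y (χ x) hxχ with rfl | rfl
      · exact one_mem _
      · exact ⟨x, rfl⟩
    rw [h1]
    simp
  obtain ⟨M, hMn, hMi, -⟩ := CfsgLib.Fusion.thompson_transfer S hQS hidx
    (u := emb S e x) (by rw [pow_two, ← map_mul, hx, map_one]) (fun g hg => by
      obtain ⟨m, hm, hme⟩ := hg
      exact hno m hm (isConj_iff.2 ⟨g, hme.symm⟩))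
  rcases hMn.eq_bot_or_eq_top with rfl | rfl
  · rw [index_bot] at hMi
    haveI : Fact (Nat.card G).Prime := ⟨hMi ▸ Nat.prime_two⟩
    haveI : IsCyclic G := isCyclic_of_prime_card rfl
    exact hG IsCyclic.commutative
  · simp at hMi

theorem extremal {x c : D2} (hc : ∀ k : D2, k * c = c * k) (h : IsConj (emb S e x) (emb S e c)) :
    ∃ φ : D2 → D2, φ x = c ∧ (∀ k, k * x = x * k → IsConj (emb S e k) (emb S e (φ k))) ∧
      (∀ k l, k * x = x * k → l * x = x * l → φ (k * l) = φ k * φ l ∧ (φ k = φ l → k = l)) := by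
  haveI : Fact (Nat.Prime 2) := ⟨Nat.prime_two⟩
  obtain ⟨g, hg⟩ := isConj_iff.1 h
  set R := CfsgLib.Fusion.conjBy g ((S : Subgroup G) ⊓ centralizer ({emb S e x} : Set G)) with hR
  have hRC : R ≤ centralizer ({emb S e c} : Set G) := by
    refine CfsgLib.Fusion.conjBy_le_iff.2 fun u hu => ?_
    have h1 := Subgroup.mem_centralizer_singleton_iff.1 (Subgroup.mem_inf.1 hu).2
    refine Subgroup.mem_centralizer_singleton_iff.2 ?_
    rw [← hg]
    calc g * u * g⁻¹ * (g * emb S e x * g⁻¹) = g * (u * emb S e x) * g⁻¹ := by group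
      _ = g * (emb S e x * u) * g⁻¹ := by rw [h1]
      _ = g * emb S e x * g⁻¹ * (g * u * g⁻¹) := by group
  obtain ⟨d, hd, hdR⟩ := CfsgLib.Fusion.exists_conj_le_of_not_dvd_relIndex S.2
    (le_centralizer_of_central S e hc)
    (fun hdv => S.not_dvd_index (hdv.trans (relIndex_dvd_index_of_le (le_centralizer_of_central S e hc))))
    (CfsgLib.Fusion.isPGroup_conjBy g (S.2.to_le inf_le_left)) hRC
  have hmem : ∀ k, k * x = x * k → ∃ k', emb S e k' = (d * g) * emb S e k * (d * g)⁻¹ := by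
    intro k hk
    refine exists_emb S e ?_
    have := CfsgLib.Fusion.conjBy_le_iff.1 hdR _ (CfsgLib.Fusion.conj_mem_conjBy (g := g)
      (show emb S e k ∈ (S : Subgroup G) ⊓ centralizer ({emb S e x} : Set G) from Subgroup.mem_inf.2
        ⟨emb_mem S e k, Subgroup.mem_centralizer_singleton_iff.2 (by rw [← map_mul, ← map_mul, hk])⟩))
    rwa [show (d * g) * emb S e k * (d * g)⁻¹ = d * (g * emb S e k * g⁻¹) * d⁻¹ by group]
  choose! φ hφ using hmem
  refine ⟨φ, ?_, fun k hk => isConj_iff.2 ⟨d * g, (hφ k hk).symm⟩, fun k l hk hl => ⟨?_, fun he => ?_⟩⟩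
  · refine emb_inj S e ?_
    rw [hφ x rfl, show (d * g) * emb S e x * (d * g)⁻¹ = d * (g * emb S e x * g⁻¹) * d⁻¹ by group, hg,
      Subgroup.mem_centralizer_singleton_iff.1 hd, mul_inv_cancel_right]
  · refine emb_inj S e ?_
    rw [hφ (k * l) (by rw [mul_assoc, hl, ← mul_assoc, hk, mul_assoc]), map_mul, map_mul, hφ k hk, hφ l hl]
    group
  · have := hφ k hk
    rw [he, hφ l hl] at this
    exact emb_inj S e (mul_left_cancel (mul_right_cancel this)).symm

/-- The final contradiction: `s` and `sa` fused to `a`, and `t`, `ta` fused to `b`. -/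
theorem contra {s t : D2}
    (hs : s * ea = ea * s ∧ s * eb = eb * s ∧ s * ez = ez * s ∧ s ≠ ea)
    (hclass : ∀ x : D2, x * x = 1 → x ≠ 1 → (∃ k : D2, k * s * k⁻¹ = x) ∨ (∃ k : D2, k * (s * ea) * k⁻¹ = x) ∨
      (∃ k : D2, k * t * k⁻¹ = x) ∨ (∃ k : D2, k * (t * ea) * k⁻¹ = x) ∨ x = ea ∨ x = eb ∨ x = ez)
    (hcomm : ∀ k l : D2, ∀ u ∈ [k * s * k⁻¹, k * (s * ea) * k⁻¹], ∀ v ∈ [l * t * l⁻¹, l * (t * ea) * l⁻¹],
      u * v ≠ v * u)
    (h1 : IsConj (emb S e ea) (emb S e s)) (h2 : IsConj (emb S e ea) (emb S e (s * ea)))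
    (h3 : IsConj (emb S e eb) (emb S e t)) (h4 : IsConj (emb S e eb) (emb S e (t * ea))) : False := by
  have hab := not_conj_a_b S e
  have hza := not_conj_of_z S e (c := ea) (by decide +kernel) (by decide +kernel)
  have hzb := not_conj_of_z S e (c := eb) (by decide +kernel) (by decide +kernel)
  obtain ⟨φ, hφs, hφc, hφm⟩ := extremal S e (c := ea) (by decide +kernel) h1.symm
  have hcls : ∀ x : D2, x * x = 1 → x ≠ 1 →
      (IsConj (emb S e ea) (emb S e x) ∧ (x = ea ∨ ((∃ k : D2, k * s * k⁻¹ = x) ∨ (∃ k : D2, k * (s * ea) * k⁻¹ = x)))) ∨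
      (IsConj (emb S e eb) (emb S e x) ∧ (x = eb ∨ ∃ k l : D2, k * t * k⁻¹ = x ∨ l * (t * ea) * l⁻¹ = x)) ∨
      x = ez := by
    intro x hx hx1
    rcases hclass x hx hx1 with h | h | ⟨k, h⟩ | ⟨k, h⟩ | h | h | h
    · exact Or.inl ⟨h1.trans (conj_of_model S e h), Or.inr (Or.inl h)⟩
    · exact Or.inl ⟨h2.trans (conj_of_model S e h), Or.inr (Or.inr h)⟩
    · exact Or.inr (Or.inl ⟨h3.trans (conj_of_model S e ⟨k, h⟩), Or.inr ⟨k, k, Or.inl h⟩⟩)
    · exact Or.inr (Or.inl ⟨h4.trans (conj_of_model S e ⟨k, h⟩), Or.inr ⟨k, k, Or.inr h⟩⟩)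
    · exact Or.inl ⟨h ▸ IsConj.refl _, Or.inl h⟩
    · exact Or.inr (Or.inl ⟨h ▸ IsConj.refl _, Or.inl h⟩)
    · exact Or.inr (Or.inr h)
  have h1' : (1 : D2) * s = s * 1 := by rw [one_mul, mul_one]
  have hφ1 : φ 1 = 1 := by
    have := (hφm 1 1 h1' h1').1
    rwa [mul_one, left_eq_mul] at this
  have hinv : ∀ k : D2, k * s = s * k → k * k = 1 → k ≠ 1 → φ k * φ k = 1 ∧ φ k ≠ 1 := by
    intro k hk hkk hk1
    refine ⟨by rw [← (hφm k k hk hk).1, hkk, hφ1], fun h0 => hk1 ?_⟩
    exact (hφm k 1 hk h1').2 (h0.trans hφ1.symm)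
  have hka : ea * s = s * ea := hs.1.symm
  have hkb : eb * s = s * eb := hs.2.1.symm
  have hkz : ez * s = s * ez := hs.2.2.1.symm
  obtain ⟨a1, a2⟩ := hinv ea hka (by decide +kernel) (by decide +kernel)
  obtain ⟨b1, b2⟩ := hinv eb hkb (by decide +kernel) (by decide +kernel)
  obtain ⟨z1, z2⟩ := hinv ez hkz (by decide +kernel) (by decide +kernel)
  -- the image of `a`
  have hA : (∃ k : D2, k * s * k⁻¹ = φ ea) ∨ (∃ k : D2, k * (s * ea) * k⁻¹ = φ ea) := by
    rcases hcls (φ ea) a1 a2 with ⟨-, h | h⟩ | ⟨h, -⟩ | h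
    · exact absurd ((hφm ea s hka rfl).2 (h.trans hφs.symm)) hs.2.2.2.symm
    · exact h
    · exact absurd ((hφc ea hka).trans h.symm) hab
    · exact absurd (h ▸ (hφc ea hka).symm) hza
  have hB : φ eb = eb := by
    rcases hcls (φ eb) b1 b2 with ⟨h, -⟩ | ⟨-, h | ⟨k, l, h⟩⟩ | h
    · exact absurd (h.trans (hφc eb hkb).symm) hab
    · exact h
    · obtain ⟨k', hk'⟩ : ∃ k', φ ea ∈ [k' * s * k'⁻¹, k' * (s * ea) * k'⁻¹] := by
        rcases hA with ⟨k', h'⟩ | ⟨k', h'⟩ <;> exact ⟨k', by simp [h']⟩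
      obtain ⟨l', hl'⟩ : ∃ l', φ eb ∈ [l' * t * l'⁻¹, l' * (t * ea) * l'⁻¹] := by
        rcases h with h | h
        · exact ⟨k, by simp [h]⟩
        · exact ⟨l, by simp [h]⟩
      refine absurd ?_ (hcomm k' l' _ hk' _ hl')
      rw [← (hφm ea eb hka hkb).1, ← (hφm eb ea hkb hka).1]
      congr 1
    · exact absurd (h ▸ (hφc eb hkb).symm) hzb
  have hZ : φ ez = ez := by
    rcases hcls (φ ez) z1 z2 with ⟨h, -⟩ | ⟨h, -⟩ | h
    · exact absurd ((hφc ez hkz).trans h.symm) hza
    · exact absurd ((hφc ez hkz).trans h.symm) hzb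
    · exact h
  have hfin : φ ea = ea := by
    rw [show ea = eb * ez from by decide +kernel, (hφm eb ez hkb hkz).1, hB, hZ]
  exact hs.2.2.2 ((hφm ea s hka rfl).2 (hfin.trans hφs.symm)).symm

theorem noncentral_conj {m : D2} (hm : m * m = 1) (hnc : m ≠ 1 ∧ m ≠ ea ∧ m ≠ eb ∧ m ≠ ez) :
    ∃ x ∈ [es, et, es * ea, et * ea], ∃ k : D2, k * x * k⁻¹ = m := by
  revert m; decide +kernel

include S e in
theorem contradiction [IsSimpleGroup G] (hG : ¬ IsMulCommutative G) : False := by
  have hab := not_conj_a_b S e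
  have hza := not_conj_of_z S e (c := ea) (by decide +kernel) (by decide +kernel)
  have hzb := not_conj_of_z S e (c := eb) (by decide +kernel) (by decide +kernel)
  have step : ∀ χ : D2 →* Multiplicative (ZMod 2), χ ea ≠ 1 → χ eb ≠ 1 → ∀ c ∈ [ea, eb],
      ∃ x ∈ [es, et, es * ea, et * ea], χ x = 1 ∧ IsConj (emb S e c) (emb S e x) := by
    intro χ ha hb c hc
    have hc' : c = ea ∨ c = eb := by simpa using hc
    obtain ⟨m, hm, hmc⟩ := exists_conj_in S e hG χ (x := c) (by rcases hc' with rfl | rfl <;> decide +kernel)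
      (by rcases hc' with rfl | rfl <;> assumption)
    obtain ⟨g, hg⟩ := isConj_iff.1 hmc
    have hmm : m * m = 1 := by
      refine emb_inj S e ?_
      rw [map_mul, map_one, ← hg, show g * emb S e c * g⁻¹ * (g * emb S e c * g⁻¹) =
        g * (emb S e c * emb S e c) * g⁻¹ by group, ← map_mul,
        show c * c = 1 by rcases hc' with rfl | rfl <;> decide +kernel, map_one]
      group
    obtain ⟨x, hx, k, hk⟩ := noncentral_conj hmm (by
      refine ⟨fun h0 => ?_, fun h0 => ha (h0 ▸ hm), fun h0 => hb (h0 ▸ hm), fun h0 => ?_⟩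
      · subst h0
        rw [map_one, conj_eq_one_iff, map_eq_one_iff _ (emb_inj S e)] at hg
        rcases hc' with rfl | rfl <;> exact absurd hg (by decide +kernel)
      · subst h0
        rcases hc' with rfl | rfl
        · exact hza hmc.symm
        · exact hzb hmc.symm)
    refine ⟨x, hx, ?_, hmc.trans (conj_of_model S e ⟨k, hk⟩).symm⟩
    rw [← hk, map_mul, map_mul, map_inv, mul_comm (χ k), mul_inv_cancel_right] at hm
    exact hm
  let A (x : D2) : Prop := IsConj (emb S e ea) (emb S e x)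
  let B (x : D2) : Prop := IsConj (emb S e eb) (emb S e x)
  have excl : ∀ x, A x → ¬ B x := fun x ha hb => hab (ha.trans hb.symm)
  have pick : ∀ (c : D2), c ∈ [ea, eb] → ∀ u v w : ZMod 2, u = 1 → ∃ x ∈ [es, et, es * ea, et * ea],
      func u v w x = 1 ∧ IsConj (emb S e c) (emb S e x) := fun c hc u v w hu =>
    step (func u v w) (by subst hu; revert v w; decide +kernel) (by subst hu; revert v w; decide +kernel) c hc
  have key : ∀ (c : D2), c ∈ [ea, eb] →
      let C : D2 → Prop := fun x => IsConj (emb S e c) (emb S e x)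
      (C es ∨ C et) ∧ (C (es * ea) ∨ C (et * ea)) ∧ (C es ∨ C (et * ea)) ∧ (C et ∨ C (es * ea)) := by
    intro c hc C
    have aux : ∀ v w : ZMod 2, ∀ P Q : D2,
        (∀ x ∈ [es, et, es * ea, et * ea], func 1 v w x = 1 → x = P ∨ x = Q) → C P ∨ C Q := by
      intro v w P Q hPQ
      obtain ⟨x, hx, hx1, hxc⟩ := pick c hc 1 v w rfl
      rcases hPQ x hx hx1 with rfl | rfl
      · exact Or.inl hxc
      · exact Or.inr hxc
    exact ⟨aux 0 0 es et (by decide +kernel), aux 1 0 (es * ea) (et * ea) (by decide +kernel),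
      aux 0 1 es (et * ea) (by decide +kernel), aux 1 1 et (es * ea) (by decide +kernel)⟩
  obtain ⟨a1, a2, a3, a4⟩ := key ea (by simp)
  obtain ⟨b1, b2, b3, b4⟩ := key eb (by simp)
  have hA : (A es ∧ A (es * ea)) ∨ (A et ∧ A (et * ea)) := by
    rcases a1 with x | x
    · rcases a2 with y | y
      · exact Or.inl ⟨x, y⟩
      · rcases a4 with z | z
        · exact Or.inr ⟨z, y⟩
        · exact Or.inl ⟨x, z⟩
    · rcases a2 with y | y
      · rcases a3 with z | z
        · exact Or.inl ⟨z, y⟩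
        · exact Or.inr ⟨x, z⟩
      · exact Or.inr ⟨x, y⟩
  rcases hA with ⟨x1, x2⟩ | ⟨x1, x2⟩
  · refine contra S e (s := es) (t := et) (by decide +kernel) (by decide +kernel) (by decide +kernel) x1 x2 ?_ ?_
    · exact b1.resolve_left (excl _ x1)
    · exact b2.resolve_left (excl _ x2)
  · refine contra S e (s := et) (t := es) (by decide +kernel) (by decide +kernel) (by decide +kernel) x1 x2 ?_ ?_
    · exact b1.resolve_right (excl _ x1)
    · exact b2.resolve_right (excl _ x2)

end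

/-- A finite group whose Sylow 2-subgroups are isomorphic to the direct product of a group of order 2 and the dihedral group of order 8 is not a non-abelian simple group. -/
theorem result {G : Type*} [Group G] [Finite G] (S : Sylow 2 G) (hS : Nonempty (↥(S : Subgroup G) ≃* Multiplicative (ZMod 2) × DihedralGroup 4))
    [IsSimpleGroup G] (hG : ¬ IsMulCommutative G) : False := by
  obtain ⟨e⟩ := hS
  exact contradiction S e hG

end Cfsg.Agent.S3309
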