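import Cfsg.Statements.S3310
import Cfsg.Agent.Lib.Invol.RankOneInter.Main

set_option autoImplicit false
open Cfsg

namespace Cfsg.Agent.S3310

/-- Let G be a finite nonsolvable group; write O(G) for its largest normal subgroup of odd order and O₂(G) for its largest normal 2-subgroup. Suppose that every intersection of two distinct Sylow 2-subgroups of G has 2-rank at most 1, that some two distinct Sylow 2-subgroups of G/O(G) have a non-cyclic intersection, and that no Sylow 2-subgroup of G is a quaternion group, ordinary or generalized (of order 2^k ≥ 8). Then either (a) O₂(G) is a quaternion group, ordinary or generalized (of order 2^k ≥ 8), and G has a normal subgroup G₁ of odd index containing O₂(G)O(G) with G₁/O₂(G)O(G) isomorphic to PSL(2,2ⁿ) (n ≥ 2), a Suzuki group over the field with 2^(2m+1) elements (m ≥ 1), or PSU(3,2ⁿ) (n ≥ 2); or (b) G has a normal subgroup G₁ containing O(G),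 of index odd or twice an odd number, with G₁/O(G) isomorphic to the central product of two copies of SL(2,5) with amalgamated centres. -/
theorem result {G : Type*} [Group G] [Finite G] (hns : ¬ Group.IsSolvable G)
    (hI : ∀ S T : Sylow 2 G, S ≠ T → Cfsg.PRankLE 2 1 ↥((S : Subgroup G) ⊓ (T : Subgroup G)))
    (hnC : ∃ S T : Sylow 2 (G ⧸ Cfsg.oddCore G), S ≠ T ∧
      ¬ IsCyclic ↥((S : Subgroup (G ⧸ Cfsg.oddCore G)) ⊓ (T : Subgroup (G ⧸ Cfsg.oddCore G))))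
    (hnQ : ∀ S : Sylow 2 G, ∀ n : ℕ, IsEmpty (↥(S : Subgroup G) ≃* QuaternionGroup (2 ^ (n + 1)))) :
    (∃ (G₁ : Subgroup G) (_ : G₁.Normal) (_ : ((Cfsg.pCore 2 G ⊔ Cfsg.oddCore G).subgroupOf G₁).Normal),
      Odd G₁.index ∧ Cfsg.pCore 2 G ⊔ Cfsg.oddCore G ≤ G₁ ∧
      (∃ n : ℕ, Nonempty (↥(Cfsg.pCore 2 G) ≃* QuaternionGroup (2 ^ (n + 1)))) ∧
      ((∃ (n : ℕ) (F : Type) (_ : Field F) (_ : Fintype F), 2 ≤ n ∧ Fintype.card F = 2 ^ n ∧
          Nonempty (↥G₁ ⧸ (Cfsg.pCore 2 G ⊔ Cfsg.oddCore G).subgroupOf G₁ ≃* Matrix.ProjectiveSpecialLinearGroup (Fin 2) F)) ∨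
       (∃ (m : ℕ) (F : Type) (_ : Field F) (_ : Fintype F), 1 ≤ m ∧ Fintype.card F = 2 ^ (2 * m + 1) ∧
          Nonempty (↥G₁ ⧸ (Cfsg.pCore 2 G ⊔ Cfsg.oddCore G).subgroupOf G₁ ≃* ↥(Cfsg.Lie.Sz F (2 ^ (m + 1))))) ∨
       (∃ (n : ℕ) (F : Type) (_ : Field F) (_ : Fintype F), 2 ≤ n ∧ Fintype.card F = 4 ^ n ∧
          Nonempty (↥G₁ ⧸ (Cfsg.pCore 2 G ⊔ Cfsg.oddCore G).subgroupOf G₁ ≃* Cfsg.PSU 3 F (2 ^ n))))) ∨
    (∃ (G₁ : Subgroup G) (_ : G₁.Normal) (_ : ((Cfsg.oddCore G).subgroupOf G₁).Normal),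
      (Odd G₁.index ∨ ∃ k : ℕ, Odd k ∧ G₁.index = 2 * k) ∧ Cfsg.oddCore G ≤ G₁ ∧
      ∃ (Z : Subgroup (Matrix.SpecialLinearGroup (Fin 2) (ZMod 5) × Matrix.SpecialLinearGroup (Fin 2) (ZMod 5))) (_ : Z.Normal),
        Z = Subgroup.zpowers ((-1 : Matrix.SpecialLinearGroup (Fin 2) (ZMod 5)), (-1 : Matrix.SpecialLinearGroup (Fin 2) (ZMod 5))) ∧
        Nonempty (↥G₁ ⧸ (Cfsg.oddCore G).subgroupOf G₁ ≃*
          (Matrix.SpecialLinearGroup (Fin 2) (ZMod 5) × Matrix.SpecialLinearGroup (Fin 2) (ZMod 5)) ⧸ Z)) := by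
  rcases CfsgLib.RankOneInter.main hI hns hnC hnQ with h | ⟨G₁, hn, hn', hodd, hle, hrest⟩
  · exact Or.inl h
  · exact Or.inr ⟨G₁, hn, hn', Or.inl hodd, hle, hrest⟩

end Cfsg.Agent.S3310
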