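import Cfsg.Statements.S3311
import Cfsg.Agent.Lib.NormalRankTwo.Quaternion
import Cfsg.Agent.Lib.PGroup.FourGen.Main

set_option autoImplicit false
open Cfsg

namespace Cfsg.Agent.S3311

theorem exists_frame {G : Type*} [Group G] [Finite G] (T : Sylow 2 G)
    (hd2 : ∀ A : Subgroup ↥T, A.Normal → IsMulCommutative ↥A → ∃ a b : ↥T, Subgroup.closure {a, b} = A)
    (hN : ¬ Subgroup.normalizer ((T : Subgroup G) : Set G) ≤
      (T : Subgroup G) ⊔ Subgroup.centralizer ((T : Subgroup G) : Set G)) :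
    ∃ n : G, CfsgLib.NormalRankTwo.Frame T n := by
  have h8 : CfsgLib.PGroup.FourGen.NoEight ↥(T : Subgroup G) := by
    intro A hA hA2
    have hcomm : IsMulCommutative ↥A := ⟨⟨fun a b => by
      have hi : ∀ x : A, x⁻¹ = x := fun x =>
        inv_eq_of_mul_eq_one_right (Subtype.ext (by rw [← pow_two]; exact hA2 x x.2))
      calc a * b = (a * b)⁻¹ := (hi _).symm
        _ = b * a := by rw [mul_inv_rev, hi a, hi b]⟩⟩
    obtain ⟨a, b, hab⟩ := hd2 A hA hcomm
    have ha : a ∈ A := hab ▸ Subgroup.subset_closure (Set.mem_insert a _)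
    have hb : b ∈ A := hab ▸ Subgroup.subset_closure (Set.mem_insert_of_mem a rfl)
    have hnorm : Subgroup.zpowers b ≤ Subgroup.normalizer (Subgroup.zpowers a : Set ↥(T : Subgroup G)) :=
      Subgroup.zpowers_le.2 (Subgroup.centralizer_le_normalizer _ (Subgroup.mem_centralizer_iff.2 fun x hx =>
        congrArg Subtype.val (hcomm.is_comm.comm ⟨x, Subgroup.zpowers_le.2 ha hx⟩ ⟨b, hb⟩)))
    have hle : A ≤ Subgroup.zpowers a ⊔ Subgroup.zpowers b := by
      rw [← hab, Subgroup.closure_le]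
      rintro x (rfl | rfl)
      exacts [Subgroup.mem_sup_left (Subgroup.mem_zpowers _), Subgroup.mem_sup_right (Subgroup.mem_zpowers _)]
    let f : Subgroup.zpowers a × Subgroup.zpowers b → A := fun p =>
      ⟨p.1.1 * p.2.1, mul_mem (Subgroup.zpowers_le.2 ha p.1.2) (Subgroup.zpowers_le.2 hb p.2.2)⟩
    have hf : Function.Surjective f := fun x => by
      obtain ⟨y, hy, k, hk, e⟩ := CfsgLib.Coprime.mem_sup_exists hnorm (hle x.2)
      exact ⟨(⟨y, hy⟩, ⟨k, hk⟩), Subtype.ext e⟩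
    refine (Nat.card_le_card_of_surjective f hf).trans ?_
    rw [Nat.card_prod, Nat.card_zpowers, Nat.card_zpowers]
    exact Nat.mul_le_mul (orderOf_le_of_pow_eq_one two_pos (hA2 a ha))
      (orderOf_le_of_pow_eq_one two_pos (hA2 b hb))
  obtain ⟨m, hm, hmT⟩ := SetLike.not_le_iff_exists.1 hN
  obtain ⟨i, r, hr, hir⟩ := Nat.exists_eq_two_pow_mul_odd (orderOf_pos m).ne'
  have hodd : Odd (orderOf (m ^ 2 ^ i)) := by
    refine hr.of_dvd_nat (orderOf_dvd_of_pow_eq_one ?_)
    rw [← pow_mul, ← hir, pow_orderOf_eq_one]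
  refine ⟨m ^ 2 ^ i, pow_mem hm _, hodd, ?_, fun E hET hEn hE2 => ?_, fun R M hR hsq => ?_⟩
  · by_contra hno
    push Not at hno
    have h2 : m ^ r ∈ (T : Subgroup G) := CfsgLib.NormalRankTwo.mem_sylow_of_normalizes T (pow_mem hm _)
      (i := i) (by rw [← pow_mul, mul_comm, ← hir, pow_orderOf_eq_one])
    have hc : m ^ 2 ^ i ∈ Subgroup.centralizer ((T : Subgroup G) : Set G) :=
      Subgroup.mem_centralizer_iff.2 fun t ht => (hno t ht).symm
    have hb := Nat.gcd_eq_gcd_ab (2 ^ i) r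
    rw [((Nat.coprime_two_left.2 hr).pow_left i).gcd_eq_one, Nat.cast_one] at hb
    refine hmT ?_
    rw [show m = (m ^ 2 ^ i) ^ Nat.gcdA (2 ^ i) r * (m ^ r) ^ Nat.gcdB (2 ^ i) r by
      rw [← zpow_natCast m (2 ^ i), ← zpow_natCast m r, ← zpow_mul, ← zpow_mul, ← zpow_add, ← hb, zpow_one]]
    exact mul_mem (Subgroup.mem_sup_right (zpow_mem hc _)) (Subgroup.mem_sup_left (zpow_mem h2 _))
  · have h := h8 (E.subgroupOf (T : Subgroup G)) ⟨fun a ha t => hEn t t.2 a ha⟩ fun a ha => by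
      rw [pow_two]; exact Subtype.ext (hE2 a ha)
    rwa [Nat.card_congr (Subgroup.subgroupOfEquivOfLe hET).toEquiv] at h
  · rw [← Subgroup.relIndex_subgroupOf hR]
    exact CfsgLib.PGroup.FourGen.relIndex_le_sixteen T.2 h8 fun a ha => hsq a ha

/-- Let G be a non-abelian finite simple group with Sylow 2-subgroup T. Suppose every normal abelian subgroup of T is generated by two elements, some normal abelian subgroup of T is not cyclic (so the normal rank of T is exactly 2), and the normalizer N_G(T) is not contained in T·C_G(T). Then T has order 4, 64 or 128. -/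
theorem result {G : Type*} [Group G] [Finite G]
    [IsSimpleGroup G] (hna : ¬ IsMulCommutative G) (T : Sylow 2 G)
    (hd2 : ∀ A : Subgroup ↥T, A.Normal → IsMulCommutative ↥A → ∃ a b : ↥T, Subgroup.closure {a, b} = A)
    (hd2' : ∃ A : Subgroup ↥T, A.Normal ∧ IsMulCommutative ↥A ∧ ¬ IsCyclic ↥A)
    (hN : ¬ Subgroup.normalizer ((T : Subgroup G) : Set G) ≤ (T : Subgroup G) ⊔ Subgroup.centralizer ((T : Subgroup G) : Set G)) :
    Nat.card ↥T = 4 ∨ Nat.card ↥T = 64 ∨ Nat.card ↥T = 128 := by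
  obtain ⟨n, F⟩ := exists_frame T hd2 hN
  rcases F.cases with hab | ⟨W, S, h2, h4, hinv⟩ | ⟨W, S, h16⟩
  · exact Or.inl (F.card_of_comm hna hab)
  · exact (F.false_of_quaternion hna S h2 h4 hinv).elim
  · exact Or.inr (F.card_of_sixteen hna S h16)

end Cfsg.Agent.S3311
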