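import Cfsg.Statements.S3312
import Cfsg.Agent.Lib.Invol.GlaubermanFusion
import Cfsg.Agent.Lib.Invol.StochasticRow
import Cfsg.Agent.Lib.Invol.WeaklyClosed
import Cfsg.Agent.Lib.Coprime.Core


set_option autoImplicit false
open Cfsg

namespace Cfsg.Agent.S3312

open scoped ComplexConjugate
open CfsgLib.Block

private theorem zpowers_invol_unique {G : Type*} [Group G] [Finite G] {q a b : G}
    (ha : orderOf a = 2) (hb : orderOf b = 2) (haq : a ∈ Subgroup.zpowers q)
    (hbq : b ∈ Subgroup.zpowers q) : a = b := by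
  classical
  have := Fintype.ofFinite G
  obtain ⟨w, hw⟩ := Finset.card_eq_one.1 ((IsCyclic.card_orderOf_eq_totient (α := Subgroup.zpowers q)
    (d := 2) (by rw [← ha, ← Subgroup.orderOf_mk a haq]; exact orderOf_dvd_card)).trans Nat.totient_two)
  have h1 : (⟨a, haq⟩ : Subgroup.zpowers q) ∈
      Finset.univ.filter (fun x : Subgroup.zpowers q => orderOf x = 2) := by simp [ha]
  have h2 : (⟨b, hbq⟩ : Subgroup.zpowers q) ∈
      Finset.univ.filter (fun x : Subgroup.zpowers q => orderOf x = 2) := by simp [hb]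
  rw [hw, Finset.mem_singleton] at h1 h2
  exact congrArg Subtype.val (h1.trans h2.symm)

private theorem conjugate_commuting_mem {G : Type*} [Group G] [Finite G] (T : Sylow 2 G)
    {W : Subgroup G} (hWT : W ≤ (T : Subgroup G)) (hcT : ∀ w ∈ W, ∀ a ∈ (T : Subgroup G), Commute w a)
    (hwc : Cfsg.IsWeaklyClosed W (T : Subgroup G)) {u : G} (hu : u ∈ W) (g : G)
    (hc : ∀ w ∈ W, Commute w (g * u * g⁻¹)) : g * u * g⁻¹ ∈ W := by
  haveI : Fact (Nat.Prime 2) := ⟨Nat.prime_two⟩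
  obtain ⟨c, hcH, he⟩ := CfsgLib.Invol.exists_mem_conj_eq T hwc
    (H := Subgroup.centralizer ({g * u * g⁻¹} : Set G)) (a := g)
    (fun w hw => Subgroup.mem_centralizer_singleton_iff.2 (hc w hw).eq) (by
      rintro _ ⟨w, hw, rfl⟩
      rw [Subgroup.mem_centralizer_singleton_iff]
      exact (Commute.map (hcT w hw u (hWT hu)) (MulAut.conj g).toMonoidHom).eq)
  have hm : g * u * g⁻¹ ∈ W.map (MulAut.conj g).toMonoidHom := ⟨u, hu, rfl⟩
  rw [← he] at hm
  obtain ⟨w, hw, hwe⟩ := hm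
  have h := Subgroup.mem_centralizer_singleton_iff.1 hcH
  have hwe' : c * w * c⁻¹ = g * u * g⁻¹ := hwe
  have : w = g * u * g⁻¹ :=
    mul_left_cancel (a := c) (((mul_inv_eq_iff_eq_mul.1 hwe').trans h.symm))
  rwa [← this]

private theorem exists_section {G : Type*} [Group G] [Fintype G] {M : Ideal AlgInt} [M.IsMaximal]
    (hM : IsPModular 2 M) (T : Sylow 2 G) (W : Subgroup G) (hWT : W ≤ (T : Subgroup G))
    (hcT : ∀ w ∈ W, ∀ a ∈ (T : Subgroup G), Commute w a)
    (hwc : Cfsg.IsWeaklyClosed W (T : Subgroup G)) {t : G} (htT : t ∈ (T : Subgroup G)) (htW : t ∉ W)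
    (hcos : ∀ w ∈ W, orderOf (w * t) = 2 →
      W.subgroupOf (Subgroup.centralizer ({w * t} : Set G)) ≤
        Cfsg.pPrimePCore 2 ↥(Subgroup.centralizer ({w * t} : Set G)))
    {u : G} (huW : u ∈ W) (huo : orderOf u = 2) {e w : G} (hw : w ∈ W) (hwe : e = w * t)
    (heo : orderOf e = 2) (g : G) :
    ∃ f : {e : G // ∃ w ∈ W, e = w * t ∧ orderOf e = 2}, ∀ χ ∈ principalBlock M G,
      (χ : G → ℂ) (e * (g * u * g⁻¹)) = (χ : G → ℂ) (f : G) := by
  classical
  haveI : Fact (Nat.Prime 2) := ⟨Nat.prime_two⟩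
  set v := g * u * g⁻¹ with hvd
  have hvo : orderOf v = 2 := CfsgLib.Invol.invol_conj huo g
  obtain ⟨d, hd, hv0o, hord⟩ := CfsgLib.Invol.exists_conj_two_pow heo hvo
  set v0 := d * v * d⁻¹ with hv0
  obtain ⟨k, hk⟩ := CfsgLib.Invol.exists_conj_le_sylow
    (CfsgLib.Invol.two_group_of_pair heo hv0o hord) T
  have hke : k * e * k⁻¹ ∈ (T : Subgroup G) := hk e (Subgroup.subset_closure (by simp))
  have hkv : k * v0 * k⁻¹ ∈ (T : Subgroup G) := hk v0 (Subgroup.subset_closure (by simp))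
  have heT : e ∈ (T : Subgroup G) := hwe ▸ mul_mem (hWT hw) htT
  obtain ⟨c, hc, hce⟩ := CfsgLib.Invol.exists_mem_conj_eq T hwc
    (H := Subgroup.centralizer ({e} : Set G)) (a := k⁻¹)
    (fun w hw => Subgroup.mem_centralizer_singleton_iff.2 (hcT w hw e heT).eq) (by
      rintro _ ⟨w', hw', rfl⟩
      rw [Subgroup.mem_centralizer_singleton_iff]
      have h := Commute.map (hcT w' hw' _ hke) (MulAut.conj k⁻¹).toMonoidHom
      simpa [mul_assoc] using h.eq)
  have hcc : Commute c e := Subgroup.mem_centralizer_singleton_iff.1 hc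
  set v1 := c⁻¹ * v0 * c with hv1
  have hv1W : v1 ∈ W := by
    have e1 : v1 = (c⁻¹ * d * g) * u * (c⁻¹ * d * g)⁻¹ := by rw [hv1, hv0, hvd]; group
    rw [e1]
    refine conjugate_commuting_mem T hWT hcT hwc huW _ fun w' hw' => ?_
    rw [← e1]
    have hm : c * w' * c⁻¹ ∈ W.map (MulAut.conj k⁻¹).toMonoidHom := hce ▸ ⟨w', hw', rfl⟩
    obtain ⟨w2, hw2, hw2e⟩ := hm
    have h := Commute.map (hcT w2 hw2 _ hkv) (MulAut.conj (c⁻¹ * k⁻¹)).toMonoidHom
    have e2 : (MulAut.conj (c⁻¹ * k⁻¹)).toMonoidHom w2 = w' := by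
      have : k⁻¹ * w2 * k⁻¹⁻¹ = c * w' * c⁻¹ := hw2e
      calc (MulAut.conj (c⁻¹ * k⁻¹)).toMonoidHom w2 = c⁻¹ * (k⁻¹ * w2 * k⁻¹⁻¹) * c := by
            show c⁻¹ * k⁻¹ * w2 * (c⁻¹ * k⁻¹)⁻¹ = _
            group
        _ = w' := by rw [this]; group
    have e3 : (MulAut.conj (c⁻¹ * k⁻¹)).toMonoidHom (k * v0 * k⁻¹) = v1 := by
      show c⁻¹ * k⁻¹ * (k * v0 * k⁻¹) * (c⁻¹ * k⁻¹)⁻¹ = _
      rw [hv1]; group
    rwa [e2, e3] at h
  set v' := c⁻¹ * v * c with hv'
  set d' := c⁻¹ * d * c with hd'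
  have hev : c⁻¹ * (e * v) * c = e * v' := by
    calc c⁻¹ * (e * v) * c = c⁻¹ * e * c * (c⁻¹ * v * c) := by group
      _ = e * v' := by rw [mul_assoc c⁻¹, ← hcc.eq, inv_mul_cancel_left]
  have hd'z : d' ∈ Subgroup.zpowers (e * v') := by
    obtain ⟨i, hi⟩ := Subgroup.mem_zpowers_iff.1 hd
    refine Subgroup.mem_zpowers_iff.2 ⟨i, ?_⟩
    rw [← hev, hd', ← hi]
    have := conj_zpow (i := i) (a := c⁻¹) (b := e * v)
    simpa using this
  have hv'o : orderOf v' = 2 := by simpa [hv'] using CfsgLib.Invol.invol_conj hvo c⁻¹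
  have hv1e : v1 = d' * v' * d'⁻¹ := by rw [hv1, hd', hv', hv0]; group
  have hv1o : orderOf v1 = 2 := by simpa [hv1] using CfsgLib.Invol.invol_conj hv0o c⁻¹
  have hcomm : Commute v1 e := hcT v1 hv1W e heT
  set f := e * v1 with hf
  have hfo : orderOf f = 2 := CfsgLib.Invol.invol_iff.2 ⟨by
    rw [hf, hcomm.mul_mul_mul_comm, CfsgLib.Invol.invol_mul_self heo,
      CfsgLib.Invol.invol_mul_self hv1o, one_mul],
    fun h => htW (by
      have h' : w * t = v1⁻¹ := hwe ▸ eq_inv_of_mul_eq_one_left h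
      rw [show t = w⁻¹ * v1⁻¹ by rw [← h', inv_mul_cancel_left]]
      exact mul_mem (inv_mem hw) (inv_mem hv1W))⟩
  have hfw : f = (v1 * w) * t := by rw [hf, ← hcomm.eq, hwe, ← mul_assoc]
  refine ⟨⟨f, v1 * w, mul_mem hv1W hw, hfw, hfo⟩, fun χ hχ => ?_⟩
  show (χ : G → ℂ) (e * v) = (χ : G → ℂ) f
  have hcl : (χ : G → ℂ) (e * v) = (χ : G → ℂ) (e * v') :=
    CfsgLib.Char.classFun_isConj (CfsgLib.Char.isClassFunction_irr χ)
      (isConj_iff.2 ⟨c⁻¹, by rw [inv_inv, hev]⟩)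
  rw [hcl]
  -- the structure of `e * v'`
  set r := e * v' with hr
  obtain ⟨i, hi⟩ := Subgroup.mem_zpowers_iff.1 hd'z
  have hrv : v' * r * v'⁻¹ = r⁻¹ := CfsgLib.Invol.invol_conj_mul' heo hv'o
  have hvd' : v' * d'⁻¹ * v'⁻¹ = d' := by
    have h := CfsgLib.Invol.conj_zpow_of_inverts hrv (-i)
    rw [neg_neg, zpow_neg, hi] at h
    exact h
  have hv1' : v1 = d' * d' * v' := by
    rw [hv1e]
    calc d' * v' * d'⁻¹ = d' * (v' * d'⁻¹ * v'⁻¹) * v' := by group
      _ = d' * d' * v' := by rw [hvd']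
  have hfpow : f = r ^ (1 - 2 * i) := by
    have hvinv : v' * (d' * d') * v'⁻¹ = (r ^ (2 * i))⁻¹ := by
      rw [← hi, ← zpow_add, ← two_mul, CfsgLib.Invol.conj_zpow_of_inverts hrv, zpow_neg]
    rw [sub_eq_add_neg, zpow_add, zpow_one, zpow_neg, ← hvinv, hr, hf, hv1',
      CfsgLib.Invol.invol_inv hv'o]
    simp only [mul_assoc]
    rw [← mul_assoc v' v', CfsgLib.Invol.invol_mul_self hv'o, one_mul]
  have hfz : f ∈ Subgroup.zpowers r := hfpow ▸ Subgroup.zpow_mem_zpowers _ _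
  set a := f * r with ha
  have hfa : f * a = r := by rw [ha, ← mul_assoc, CfsgLib.Invol.invol_mul_self hfo, one_mul]
  have hfr : Commute f r := by rw [hfpow]; exact Commute.zpow_self r _
  -- two-part of the order of `r`
  have hfac : (orderOf r).factorization 2 = 1 := by
    have h1 : orderOf r = orderOf (e * v) := by
      rw [← hev]
      exact MulEquiv.orderOf_eq (MulAut.conj c⁻¹) (e * v) |> fun h => by simpa using h
    have h2 : orderOf (e * v0) = 2 := by
      have : e * v0 = c * f * c⁻¹ := by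
        calc e * v0 = (e * c) * v1 * c⁻¹ := by rw [hv1]; group
          _ = c * f * c⁻¹ := by rw [← hcc.eq, hf, mul_assoc c e v1]
      rw [this]; exact CfsgLib.Invol.invol_conj hfo c
    rw [h2] at hord
    rw [h1]
    exact (Nat.pow_right_injective le_rfl (hord.symm.trans (pow_one 2).symm : _ = _))
  have hm : Odd (orderOf r / 2) := by
    have h := Nat.not_dvd_ordCompl Nat.prime_two (orderOf_pos r).ne'
    rw [hfac, pow_one] at h
    rw [Nat.odd_iff]; omega
  have heven : Even (orderOf r) := by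
    have h := Nat.ordProj_dvd (orderOf r) 2
    rw [hfac, pow_one] at h
    exact even_iff_two_dvd.2 h
  have hhalf : r ^ (orderOf r / 2) = f :=
    zpowers_invol_unique (CfsgLib.Invol.orderOf_pow_half heven) hfo
      (Subgroup.pow_mem _ (Subgroup.mem_zpowers r) _) hfz
  have haodd : Odd (orderOf a) := by
    refine hm.of_dvd_nat (orderOf_dvd_of_pow_eq_one ?_)
    rw [ha, hfr.mul_pow, hhalf]
    obtain ⟨l, hl⟩ := hm
    rw [hl, pow_succ, pow_mul, pow_two, CfsgLib.Invol.invol_mul_self hfo, one_pow, one_mul,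
      CfsgLib.Invol.invol_mul_self hfo]
  set H := Subgroup.centralizer ({f} : Set G) with hH
  have hC : ∀ x : G, x ∈ H ↔ Commute x f := fun x => Subgroup.mem_centralizer_singleton_iff
  have hd'H : d' ∈ H := (hC _).2 (by rw [← hi, hfpow]; exact Commute.zpow_zpow_self r _ _)
  have hv1H : v1 ∈ H := (hC _).2 (hcomm.mul_right (Commute.refl v1))
  have hv'e : v' = d'⁻¹ * v1 * d' := by rw [hv1e]; group
  have hv'H : v' ∈ H := by rw [hv'e]; exact mul_mem (mul_mem (inv_mem hd'H) hv1H) hd'H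
  have hkey : (⟨v1, hv1H⟩ : H) ∈ Cfsg.pPrimePCore 2 H := by
    have hsub : W.subgroupOf H ≤ Cfsg.pPrimePCore 2 H := by
      have := hcos _ (mul_mem hv1W hw) (hfw ▸ hfo)
      rw [← hfw] at this
      exact this
    exact hsub hv1W
  haveI : (Cfsg.pPrimeCore 2 H).Normal :=
    haveI := CfsgLib.Coprime.pPrimeCore_characteristic (G := H) 2
    inferInstance
  haveI : (Cfsg.pCore 2 (H ⧸ Cfsg.pPrimeCore 2 H)).Characteristic :=
    CfsgLib.Coprime.pCore_characteristic 2
  have hv'core : (⟨v', hv'H⟩ : H) ∈ Cfsg.pPrimePCore 2 H := by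
    have h := (inferInstance : ((Cfsg.pCore 2 (H ⧸ Cfsg.pPrimeCore 2 H)).comap
      (QuotientGroup.mk' (Cfsg.pPrimeCore 2 H))).Normal).conj_mem _ hkey (⟨d', hd'H⟩ : H)⁻¹
    rw [show (⟨v', hv'H⟩ : H) = (⟨d', hd'H⟩ : H)⁻¹ * ⟨v1, hv1H⟩ * (⟨d', hd'H⟩ : H)⁻¹⁻¹ from
      Subtype.ext (show v' = d'⁻¹ * v1 * d'⁻¹⁻¹ by rw [inv_inv]; exact hv'e)]
    exact h
  have haH : a ∈ H := (hC _).2 ((Commute.refl f).mul_left hfr.symm)
  have haeq : a = v1 * v' := by
    rw [ha, hf, hr, ← hcomm.eq, mul_assoc v1 e, ← mul_assoc e e,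
      CfsgLib.Invol.invol_mul_self heo, one_mul]
  have haO : (⟨a, haH⟩ : H) ∈ Cfsg.pPrimeCore 2 H := by
    have h : (⟨a, haH⟩ : H) ∈ Cfsg.pPrimePCore 2 H := by
      have := mul_mem hkey hv'core
      convert this using 1
      exact Subtype.ext haeq
    rw [← QuotientGroup.eq_one_iff]
    have hmem : ((⟨a, haH⟩ : H) : H ⧸ Cfsg.pPrimeCore 2 H) ∈
        Cfsg.pCore 2 (H ⧸ Cfsg.pPrimeCore 2 H) := h
    obtain ⟨j, hj⟩ := CfsgLib.Coprime.pCore_isPGroup (G := H ⧸ Cfsg.pPrimeCore 2 H) 2 ⟨_, hmem⟩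
    have hdvd : orderOf ((⟨a, haH⟩ : H) : H ⧸ Cfsg.pPrimeCore 2 H) ∣ orderOf a :=
      (orderOf_map_dvd (QuotientGroup.mk' (Cfsg.pPrimeCore 2 H)) ⟨a, haH⟩).trans
        (by rw [Subgroup.orderOf_mk])
    exact CfsgLib.Invol.eq_one_of_odd_of_pow_two (haodd.of_dvd_nat hdvd)
      (by simpa using congrArg Subtype.val hj)
  have := Fintype.ofFinite (IrrCharacter H)
  have h := CfsgLib.Invol.irr_secElt_mul hM (x := f) ⟨1, by rw [hfo, pow_one]⟩ hC hχ
    (Cfsg.pPrimeCore 2 H) (CfsgLib.Coprime.pPrimeCore_not_dvd Nat.prime_two) (y := 1) haO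
    (by rw [orderOf_one]; norm_num)
    (by rw [one_mul, Subgroup.orderOf_mk]; exact haodd.not_two_dvd_nat)
  simpa [hfa] using h

/-- A non-simplicity criterion by weak closure. Let T be a Sylow 2-subgroup of a finite group G, W a nontrivial subgroup of the centre of T that is weakly closed in T with respect to G, and t an involution of T outside W. Suppose that for every involution x in the coset Wt, W lies in O_{2',2}(C_G(x)), the preimage of O₂ of C_G(x)/O_{2'}(C_G(x)). Then G is not simple. -/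
theorem result {G : Type*} [Group G] [Finite G]
    (T : Sylow 2 G) (W : Subgroup G) (hW1 : W ≠ ⊥) (hWZ : W ≤ (T : Subgroup G) ⊓ Subgroup.centralizer ((T : Subgroup G) : Set G))
    (hwc : Cfsg.IsWeaklyClosed W (T : Subgroup G)) (t : G) (ht : orderOf t = 2) (htT : t ∈ (T : Subgroup G)) (htW : t ∉ W)
    (hcos : ∀ w ∈ W, orderOf (w * t) = 2 →
      W.subgroupOf (Subgroup.centralizer ({w * t} : Set G)) ≤ Cfsg.pPrimePCore 2 ↥(Subgroup.centralizer ({w * t} : Set G))) :
    ¬ IsSimpleGroup G := by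
  classical
  haveI : Fact (Nat.Prime 2) := ⟨Nat.prime_two⟩
  intro hsimp
  have := Fintype.ofFinite G
  have := Fintype.ofFinite (IrrCharacter G)
  obtain ⟨M, hM⟩ := CfsgLib.Block.exists_pModular Nat.prime_two
  haveI := hM.2.1
  have hWT : W ≤ (T : Subgroup G) := fun w hw => (hWZ hw).1
  have hcT : ∀ w ∈ W, ∀ a ∈ (T : Subgroup G), Commute w a := fun w hw a ha =>
    (Subgroup.mem_centralizer_iff.1 (hWZ hw).2 a ha).symm
  have hWN : ¬ W.Normal := fun hn =>
    htW ((hn.eq_bot_or_eq_top.resolve_left hW1).symm ▸ Subgroup.mem_top t)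
  -- an involution of `W`
  obtain ⟨u, huW, huo⟩ := CfsgLib.Invol.exists_invol_mem (H := W) (by
    obtain ⟨k, hk⟩ := (T.2.to_le hWT).exists_card_eq
    rcases k with _ | k
    · exact absurd (W.eq_bot_of_card_eq (by simpa using hk)) hW1
    · rw [hk]; exact (Nat.even_pow' (Nat.succ_ne_zero k)).2 even_two)
  let ι := {e : G // ∃ w ∈ W, e = w * t ∧ orderOf e = 2}
  haveI : Nonempty ι := ⟨⟨t, 1, one_mem _, (one_mul t).symm, ht⟩⟩
  have hrel : ∀ (e : ι) (g : G), ∃ f : ι, ∀ χ ∈ principalBlock M G,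
      (χ : G → ℂ) ((e : G) * (g * u * g⁻¹)) = (χ : G → ℂ) (f : G) := by
    intro e g
    obtain ⟨e, w, hw, hwe, heo⟩ := e
    exact exists_section hM T W hWT hcT hwc htT htW hcos huW huo hw hwe heo g
  choose F hF using hrel
  obtain ⟨q, hq0, hqpos, hq⟩ := CfsgLib.Invol.exists_invariant_weight F
  have horth : ∀ e : ι, ∑ χ ∈ Finset.univ.filter (· ∈ principalBlock M G),
      (χ : G → ℂ) 1 * conj ((χ : G → ℂ) (e : G)) = 0 := by
    intro e
    obtain ⟨w, -, -, heo⟩ := e.2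
    have h := blockUnion_orthogonal_regular_singular hM
      (.of_isPBlock (isPBlock_principalBlock (M := M) (G := G))) (g := 1) (h := (e : G))
      (by rw [orderOf_one]; norm_num) (by rw [heo])
    rw [finsum_mem_eq_toFinset_sum] at h
    exact Eq.trans (Finset.sum_congr (by ext; simp) fun _ _ => rfl) h
  have hzero : ∀ χ ∈ principalBlock M G, χ ≠ oneChar G →
      ∑ e, (q e : ℂ) * (χ : G → ℂ) (e : G) = 0 := by
    intro χ hχ hne
    set S := ∑ e, (q e : ℂ) * (χ : G → ℂ) (e : G) with hS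
    have hd := CfsgLib.Char.irr_one_ne_zero χ
    have hN : (Nat.card G : ℂ) ≠ 0 := Nat.cast_ne_zero.mpr Nat.card_pos.ne'
    have h1 : ∑ e, (q e : ℂ) * ((Nat.card G : ℂ) * (χ : G → ℂ) (e : G) * (χ : G → ℂ) u /
        (χ : G → ℂ) 1) = (Nat.card G : ℂ) * S := by
      calc _ = ∑ e, (q e : ℂ) * ∑ g : G, (χ : G → ℂ) (F e g : G) := Finset.sum_congr rfl fun e _ => by
            rw [← sum_conj_char χ (e : G) u]
            exact congrArg _ (Finset.sum_congr rfl fun g _ => hF e g χ hχ)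
        _ = ∑ e, ∑ f, (q e : ℂ) * ((Finset.univ.filter fun g => F e g = f).card : ℂ) *
            (χ : G → ℂ) (f : G) := Finset.sum_congr rfl fun e _ => by
            rw [← Finset.sum_fiberwise (Finset.univ : Finset G) (F e) fun g => (χ : G → ℂ) (F e g : G),
              Finset.mul_sum]
            refine Finset.sum_congr rfl fun f _ => ?_
            rw [Finset.sum_congr rfl (g := fun _ => (χ : G → ℂ) (f : G))
              (fun g hg => by rw [(Finset.mem_filter.1 hg).2]), Finset.sum_const, nsmul_eq_mul,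
              mul_assoc]
        _ = ∑ f, (∑ e, (q e : ℂ) * ((Finset.univ.filter fun g => F e g = f).card : ℂ)) *
            (χ : G → ℂ) (f : G) := by
            rw [Finset.sum_comm]
            exact Finset.sum_congr rfl fun f _ => (Finset.sum_mul _ _ _).symm
        _ = (Nat.card G : ℂ) * S := by
            rw [hS, Finset.mul_sum]
            refine Finset.sum_congr rfl fun f _ => ?_
            have h := congrArg (fun r : ℝ => (r : ℂ)) (hq f)
            simp only [Complex.ofReal_sum, Complex.ofReal_mul, Complex.ofReal_natCast] at h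
            rw [h, Nat.card_eq_fintype_card, mul_assoc]
    have h2 : (Nat.card G : ℂ) * S * ((χ : G → ℂ) u / (χ : G → ℂ) 1 - 1) = 0 := by
      rw [mul_sub, mul_one, ← h1, sub_eq_zero, h1, hS, Finset.mul_sum, Finset.sum_mul]
      rw [hS, Finset.mul_sum] at h1
      rw [← h1]
      exact Finset.sum_congr rfl fun e _ => by ring
    rcases mul_eq_zero.1 h2 with h | h
    · exact (mul_eq_zero.1 h).resolve_left hN
    · exfalso
      rw [sub_eq_zero, div_eq_one_iff_eq hd] at h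
      obtain ⟨K, hKn, hK⟩ := CfsgLib.Invol.exists_charKernel χ
      rcases hKn.eq_bot_or_eq_top with rfl | rfl
      · exact CfsgLib.Invol.invol_ne_one huo (Subgroup.mem_bot.1 ((hK u).2 h))
      · exact hne (CfsgLib.Invol.eq_oneChar_of_constant χ fun g => (hK g).1 (Subgroup.mem_top g))
  have hsum : ∑ χ ∈ Finset.univ.filter (· ∈ principalBlock M G),
      (χ : G → ℂ) 1 * conj (∑ e, (q e : ℂ) * (χ : G → ℂ) (e : G)) = 0 := by
    calc _ = ∑ χ ∈ Finset.univ.filter (· ∈ principalBlock M G), ∑ e,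
          (q e : ℂ) * ((χ : G → ℂ) 1 * conj ((χ : G → ℂ) (e : G))) :=
          Finset.sum_congr rfl fun χ _ => by
            rw [map_sum, Finset.mul_sum]
            exact Finset.sum_congr rfl fun e _ => by rw [map_mul, Complex.conj_ofReal]; ring
      _ = 0 := by
        rw [Finset.sum_comm]
        exact Finset.sum_eq_zero fun e _ => by rw [← Finset.mul_sum, horth e, mul_zero]
  rw [Finset.sum_eq_single (oneChar G) (fun χ hχ h => by
      rw [hzero χ (Finset.mem_filter.1 hχ).2 h, map_zero, mul_zero])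
    (fun h => absurd (by simp [one_mem_principalBlock]) h)] at hsum
  simp only [oneChar, one_mul, mul_one, ← Complex.ofReal_sum, Complex.conj_ofReal] at hsum
  exact hqpos.ne' (Complex.ofReal_eq_zero.1 hsum)

end Cfsg.Agent.S3312
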