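import Cfsg.Statements.S3313
import Cfsg.Agent.Lib.Invol.HallJankoCount
import Cfsg.Agent.Lib.Coprime.Component
import Cfsg.Agent.Lib.Coprime.Core
import Cfsg.Agent.Lib.PGroup.ExtraspecialClassify

set_option autoImplicit false
open Cfsg

namespace Cfsg.Agent.S3313

/-- The order of a simple group with the involution pattern of the Hall–Janko group. Let G be a non-abelian finite simple group with exactly two conjugacy classes of involutions, represented by z and t, such that: F*(C_G(z)) is an extraspecial 2-group; Q = O₂(C_G(z)) has order 32 and C_G(z) is the semidirect product of Q by a subgroup isomorphic to A₅; every involution of Q is conjugate to z and every other involution of C_G(z) is conjugate to t; C_G(t) is an internal direct product V × B with V a four-group containing t and B ≅ A₅; every involution of B is conjugate to z and every other involution of C_G(t) is conjugate to t. Then |G| = 604800. -/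
theorem result {G : Type*} [Group G] [Finite G]
    [IsSimpleGroup G] (hna : ¬ IsMulCommutative G) (z t : G) (hz : orderOf z = 2) (ht : orderOf t = 2)
    (hzt : ¬ IsConj z t) (hcl : ∀ x : G, orderOf x = 2 → IsConj x z ∨ IsConj x t)
    (hex : Cfsg.IsExtraspecial 2 ↥(Cfsg.generalizedFittingSubgroup ↥(Subgroup.centralizer ({z} : Set G))))
    (hQ : Nat.card ↥(Cfsg.pCore 2 ↥(Subgroup.centralizer ({z} : Set G))) = 32)
    (K : Subgroup G) (hK : Nonempty (↥K ≃* alternatingGroup (Fin 5)))
    (hKC : K ⊔ (Cfsg.pCore 2 ↥(Subgroup.centralizer ({z} : Set G))).map (Subgroup.centralizer ({z} : Set G)).subtype = Subgroup.centralizer ({z} : Set G))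
    (hKQ : K ⊓ (Cfsg.pCore 2 ↥(Subgroup.centralizer ({z} : Set G))).map (Subgroup.centralizer ({z} : Set G)).subtype = ⊥)
    (hQz : ∀ x ∈ (Cfsg.pCore 2 ↥(Subgroup.centralizer ({z} : Set G))).map (Subgroup.centralizer ({z} : Set G)).subtype, orderOf x = 2 → IsConj x z)
    (hCz : ∀ x ∈ Subgroup.centralizer ({z} : Set G), orderOf x = 2 →
      x ∉ (Cfsg.pCore 2 ↥(Subgroup.centralizer ({z} : Set G))).map (Subgroup.centralizer ({z} : Set G)).subtype → IsConj x t)
    (V B : Subgroup G) (hVB : Cfsg.IsInternalDirectProduct V B (Subgroup.centralizer ({t} : Set G)))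
    (hV : Nat.card ↥V = 4) (hV2 : ∀ v ∈ V, v ^ 2 = 1) (htV : t ∈ V) (hB : Nonempty (↥B ≃* alternatingGroup (Fin 5)))
    (hBz : ∀ x ∈ B, orderOf x = 2 → IsConj x z)
    (hCt : ∀ x ∈ Subgroup.centralizer ({t} : Set G), orderOf x = 2 → x ∉ B → IsConj x t) :
    Nat.card G = 604800 := by
  classical
  haveI : Fact (Nat.Prime 2) := ⟨Nat.prime_two⟩
  haveI : Fact (Nat.Prime 5) := ⟨Nat.prime_five⟩
  letI := Fintype.ofFinite G
  obtain ⟨eB⟩ := hB
  set C := Subgroup.centralizer ({z} : Set G) with hCdef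
  set D := Subgroup.centralizer ({t} : Set G) with hDdef
  set O := Cfsg.pCore 2 ↥C with hO
  set Q := O.map C.subtype with hQdef
  have hCmem : ∀ {a : G}, a ∈ C ↔ a * z = z * a := fun {a} => Subgroup.mem_centralizer_singleton_iff
  have hDmem : ∀ {a : G}, a ∈ D ↔ a * t = t * a := fun {a} => Subgroup.mem_centralizer_singleton_iff
  have hzz : z * z = 1 := by rw [← pow_two, ← hz, pow_orderOf_eq_one]
  have htt : t * t = 1 := by rw [← pow_two, ← ht, pow_orderOf_eq_one]
  have hz1 : z ≠ 1 := fun h => by rw [h, orderOf_one] at hz; omega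
  have hord : ∀ {a : G}, a * a = 1 → a ≠ 1 → orderOf a = 2 := fun {a} h h' =>
    orderOf_eq_prime (by rw [pow_two]; exact h) h'
  have hord' : ∀ {a : G}, orderOf a = 2 → a * a = 1 ∧ a ≠ 1 := fun {a} h =>
    ⟨by rw [← pow_two, ← h, pow_orderOf_eq_one], fun e => by rw [e, orderOf_one] at h; omega⟩
  have hconjord : ∀ {a b : G}, IsConj a b → orderOf a = 2 → b * b = 1 ∧ b ≠ 1 := by
    intro a b h ha
    obtain ⟨g, rfl⟩ := isConj_iff.1 h
    exact hord' ((MulAut.conj g).orderOf_eq a ▸ ha)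
  -- `Q` is the generalized Fitting subgroup
  have hstar : Cfsg.generalizedFittingSubgroup ↥C = O := by
    haveI := CfsgLib.Coprime.generalizedFitting_normal (G := ↥C)
    exact le_antisymm (CfsgLib.Coprime.le_pCore hex.1.1)
      ((CfsgLib.Coprime.pCore_le_fitting 2).trans CfsgLib.Coprime.fitting_le_generalizedFitting)
  rw [hstar] at hex
  have hselfc : Subgroup.centralizer (O : Set ↥C) ≤ O := by
    rw [← hstar]; exact CfsgLib.Coprime.centralizer_generalizedFitting_le
  have hOn : O.Normal := CfsgLib.Coprime.pCore_normal' 2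
  have hQC : Q ≤ C := Subgroup.map_subtype_le _
  have hQ32 : Nat.card Q = 32 := by
    rw [Nat.card_congr (O.equivMapOfInjective C.subtype C.subtype_injective).toEquiv.symm]; exact hQ
  have hQmem : ∀ (a : G) (ha : a ∈ C), a ∈ Q ↔ (⟨a, ha⟩ : ↥C) ∈ O := by
    intro a ha
    refine ⟨?_, fun h => ⟨_, h, rfl⟩⟩
    rintro ⟨b, hb, rfl⟩
    exact hb
  have hzC : z ∈ C := hCmem.2 rfl
  have hzQ : z ∈ Q := by
    rw [hQmem z hzC]
    exact hselfc (Subgroup.mem_centralizer_iff.2 fun b _ => Subtype.ext (hCmem.1 b.2))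
  obtain ⟨hsc, -⟩ := CfsgLib.PGroup.smallCenter_of_extraspecial (p := 2) hex
  have hcenO : ∀ a : ↥O, a ∈ Subgroup.center ↥O → ((a : ↥C) : G) = 1 ∨ ((a : ↥C) : G) = z := by
    intro a ha
    have hzO : (⟨z, hzC⟩ : ↥C) ∈ O := (hQmem z hzC).1 hzQ
    have hzc : (⟨⟨z, hzC⟩, hzO⟩ : ↥O) ∈ Subgroup.center ↥O :=
      Subgroup.mem_center_iff.2 fun b => Subtype.ext (Subtype.ext (hCmem.1 b.1.2))
    have hzc1 : (⟨⟨z, hzC⟩, hzO⟩ : ↥O) ≠ 1 := fun h => hz1 (congrArg (fun q : ↥O => ((q : ↥C) : G)) h)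
    obtain ⟨k, hk⟩ := Subgroup.mem_zpowers_iff.1 (hsc.zpowers_cover hzc hzc1 ha)
    have hk' : ((a : ↥C) : G) = z ^ k := by rw [← hk]; simp
    rw [hk']
    rcases Int.even_or_odd' k with ⟨m, rfl | rfl⟩
    · left; rw [zpow_mul, zpow_two, hzz, one_zpow]
    · right; rw [zpow_add, zpow_mul, zpow_two, hzz, one_zpow, one_mul, zpow_one]
  have hQle : ∀ a ∈ Q, a * z = z * a := fun a ha => hCmem.1 (hQC ha)
  have hQcomm : ∀ a ∈ Q, ∀ b ∈ Q, a * b = b * a ∨ a * b = z * (b * a) := by
    intro a ha b hb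
    have h := hsc.comm_mem ⟨⟨a, hQC ha⟩, (hQmem a (hQC ha)).1 ha⟩ ⟨⟨b, hQC hb⟩, (hQmem b (hQC hb)).1 hb⟩
    rcases hcenO _ h with h' | h' <;> rw [commutatorElement_def] at h' <;>
      simp only [Subgroup.coe_mul, Subgroup.coe_inv] at h'
    · exact Or.inl (calc a * b = a * b * a⁻¹ * b⁻¹ * (b * a) := by group
        _ = b * a := by rw [h', one_mul])
    · exact Or.inr (calc a * b = a * b * a⁻¹ * b⁻¹ * (b * a) := by group
        _ = z * (b * a) := by rw [h'])
  have hQsq : ∀ a ∈ Q, a * a = 1 ∨ a * a = z := by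
    intro a ha
    have h := hcenO _ (hsc.pow_mem ⟨⟨a, hQC ha⟩, (hQmem a (hQC ha)).1 ha⟩)
    simpa [pow_two] using h
  have hQcen : ∀ a ∈ Q, (∀ b ∈ Q, a * b = b * a) → a = 1 ∨ a = z := by
    intro a ha hab
    exact hcenO ⟨⟨a, hQC ha⟩, (hQmem a (hQC ha)).1 ha⟩ (Subgroup.mem_center_iff.2 fun b =>
      Subtype.ext (Subtype.ext (hab _ ⟨_, b.2, rfl⟩).symm))
  obtain ⟨eK⟩ := hK
  have hKC' : K ≤ C := hKC ▸ le_sup_left
  have hQn : ∀ c ∈ C, ∀ a ∈ Q, c * a * c⁻¹ ∈ Q := by
    rintro c hc a ⟨a', ha', rfl⟩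
    exact ⟨_, hOn.conj_mem a' ha' ⟨c, hc⟩, rfl⟩
  have hcardC : Nat.card C = 1920 := by
    let F : ↥Q × ↥K → ↥C := fun p => ⟨p.1.1 * p.2.1, C.mul_mem (hQC p.1.2) (hKC' p.2.2)⟩
    have hF : Function.Bijective F := by
      constructor
      · rintro ⟨a, b⟩ ⟨a', b'⟩ h
        have h' : (a : G) * b = a' * b' := congrArg Subtype.val h
        have h2 : (b : G) * (b' : G)⁻¹ ∈ K ⊓ Q := ⟨K.mul_mem b.2 (K.inv_mem b'.2), by
          rw [show (b : G) * (b' : G)⁻¹ = (a : G)⁻¹ * a' by
            rw [mul_inv_eq_iff_eq_mul, mul_assoc, ← h', inv_mul_cancel_left]]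
          exact Q.mul_mem (Q.inv_mem a.2) a'.2⟩
        rw [hKQ, Subgroup.mem_bot, mul_inv_eq_one] at h2
        rw [h2] at h'
        exact Prod.ext (Subtype.ext (mul_right_cancel h')) (Subtype.ext h2)
      · intro c
        let S : Subgroup G :=
          { carrier := {x | ∃ a ∈ Q, ∃ b ∈ K, x = a * b}
            one_mem' := ⟨1, Q.one_mem, 1, K.one_mem, by simp⟩
            mul_mem' := by
              rintro _ _ ⟨a, ha, b, hb, rfl⟩ ⟨a', ha', b', hb', rfl⟩
              exact ⟨a * (b * a' * b⁻¹), Q.mul_mem ha (hQn b (hKC' hb) a' ha'), b * b',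
                K.mul_mem hb hb', by group⟩
            inv_mem' := by
              rintro _ ⟨a, ha, b, hb, rfl⟩
              exact ⟨b⁻¹ * a⁻¹ * b⁻¹⁻¹, hQn _ (C.inv_mem (hKC' hb)) _ (Q.inv_mem ha), b⁻¹, K.inv_mem hb,
                by group⟩ }
        have hle : C ≤ S := by
          rw [← hKC]
          exact sup_le (fun b hb => ⟨1, Q.one_mem, b, hb, by simp⟩)
            (fun a ha => ⟨a, ha, 1, K.one_mem, by simp⟩)
        obtain ⟨a, ha, b, hb, he⟩ := hle c.2
        exact ⟨(⟨a, ha⟩, ⟨b, hb⟩), Subtype.ext he.symm⟩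
    rw [← Nat.card_eq_of_bijective F hF, Nat.card_prod, hQ32, Nat.card_congr eK.toEquiv,
      CfsgLib.Invol.HallJanko.card_alt_five]
  -- an element of order five of `K`
  obtain ⟨f₀, hf₀⟩ := exists_prime_orderOf_dvd_card' (G := ↥K) 5
    (by rw [Nat.card_congr eK.toEquiv, CfsgLib.Invol.HallJanko.card_alt_five]; norm_num)
  set f : G := (f₀ : G) with hfdef
  have hf5 : orderOf f = 5 := by rw [hfdef, Subgroup.orderOf_coe, hf₀]
  have hfC : f ∈ C := hKC' f₀.2
  have hfix : ∀ a ∈ Q, f * a = a * f → a = 1 ∨ a = z := by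
    let W : Subgroup G := Q ⊓ Subgroup.centralizer {f}
    have hW2 : IsPGroup 2 W := (IsPGroup.of_card (p := 2) (n := 5) (by rw [hQ32]; norm_num)).to_le inf_le_left
    obtain ⟨m, hm⟩ := IsPGroup.iff_card.1 hW2
    letI : MulAction (Subgroup.zpowers f) Q :=
      { smul := fun g a => ⟨(g : G) * a * (g : G)⁻¹, hQn _ ((Subgroup.zpowers_le.2 hfC) g.2) a a.2⟩
        one_smul := fun a => Subtype.ext (by show (1 : G) * a * (1 : G)⁻¹ = a; group)
        mul_smul := fun g g' a => Subtype.ext (by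
          show (g : G) * g' * a * ((g : G) * g')⁻¹ = (g : G) * ((g' : G) * a * (g' : G)⁻¹) * (g : G)⁻¹
          group) }
    have hmod := (IsPGroup.of_card (p := 5) (n := 1) (G := Subgroup.zpowers f)
      (by rw [Nat.card_zpowers, hf5, pow_one])).card_modEq_card_fixedPoints Q
    have hWfix : Nat.card (MulAction.fixedPoints (Subgroup.zpowers f) Q) = Nat.card W := Nat.card_congr
      { toFun := fun a => ⟨a.1.1, a.1.2, Subgroup.mem_centralizer_singleton_iff.2 (by
          have h : f * (a.1 : G) * f⁻¹ = a.1 := congrArg Subtype.val (a.2 ⟨f, Subgroup.mem_zpowers f⟩)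
          exact (mul_inv_eq_iff_eq_mul.1 h).symm)⟩
        invFun := fun w => ⟨⟨w.1, w.2.1⟩, fun g => Subtype.ext (by
          show (g : G) * w.1 * (g : G)⁻¹ = w.1
          obtain ⟨i, hi⟩ := Subgroup.mem_zpowers_iff.1 g.2
          rw [← hi, (show Commute f w.1 from (Subgroup.mem_centralizer_singleton_iff.1 w.2.2).symm).zpow_left i,
            mul_inv_cancel_right])⟩
        left_inv := fun a => rfl
        right_inv := fun w => rfl }
    rw [hQ32, hWfix, hm] at hmod
    have hm5 : m ≤ 5 := by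
      have h := Subgroup.card_le_of_le (inf_le_left : W ≤ Q)
      rw [hm, hQ32] at h
      by_contra hlt
      have := Nat.pow_le_pow_right (show 2 > 0 by norm_num) (show 6 ≤ m by omega)
      omega
    have hm15 : m = 1 ∨ m = 5 := by interval_cases m <;> simp_all [Nat.ModEq]
    rcases hm15 with rfl | rfl
    · intro a ha hfa
      by_contra hne
      push Not at hne
      have h3 : ({1, z, a} : Finset G).card = 3 := by
        simp [Finset.card_insert_of_notMem, hz1.symm, Ne.symm hne.1, Ne.symm hne.2]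
      have hsub : ∀ x ∈ ({1, z, a} : Finset G), x ∈ W := by
        intro x hx
        simp only [Finset.mem_insert, Finset.mem_singleton] at hx
        rcases hx with rfl | rfl | rfl
        · exact W.one_mem
        · exact ⟨hzQ, Subgroup.mem_centralizer_singleton_iff.2 (hCmem.1 hfC).symm⟩
        · exact ⟨ha, Subgroup.mem_centralizer_singleton_iff.2 hfa.symm⟩
      have := Nat.card_le_card_of_injective
        (fun x : ({1, z, a} : Finset G) => (⟨x.1, hsub x.1 x.2⟩ : W))
        fun x y h => Subtype.ext (congrArg (fun w : W => (w : G)) h)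
      rw [Nat.card_eq_fintype_card, Fintype.card_coe, h3, hm] at this
      omega
    · exfalso
      have hWQ : W = Q := Subgroup.eq_of_le_of_card_ge inf_le_left (by rw [hm, hQ32]; norm_num)
      have hfQ : f ∈ Q := by
        rw [hQmem f hfC]
        refine hselfc (Subgroup.mem_centralizer_iff.2 fun b hb => Subtype.ext ?_)
        have hb' : (b : G) ∈ W := hWQ.symm ▸ (⟨b, hb, rfl⟩ : (b : G) ∈ Q)
        exact Subgroup.mem_centralizer_singleton_iff.1 hb'.2
      have := Subgroup.orderOf_dvd_natCard _ hfQ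
      rw [hQ32, hf5] at this
      norm_num at this
  obtain ⟨h11, hline⟩ := CfsgLib.Invol.HallJanko.invol_data hQ32 hzQ hz1 hzz hQle hQcomm hQsq hQcen f
    (by rw [← hf5, pow_orderOf_eq_one]) (hQn f hfC) (hCmem.1 hfC) hfix
  -- the centralizer of `t`
  obtain ⟨hVD, hBD, hVBc, hVBi, hVBs⟩ := hVB
  have hVfac : ∀ x ∈ D, ∃ v ∈ V, ∃ b ∈ B, x = v * b := by
    let S : Subgroup G :=
      { carrier := {x | ∃ v ∈ V, ∃ b ∈ B, x = v * b}
        one_mem' := ⟨1, V.one_mem, 1, B.one_mem, by simp⟩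
        mul_mem' := by
          rintro _ _ ⟨a, ha, b, hb, rfl⟩ ⟨a', ha', b', hb', rfl⟩
          exact ⟨a * a', V.mul_mem ha ha', b * b', B.mul_mem hb hb',
            ((show Commute b a' from (hVBc a' ha' b hb).symm).mul_mul_mul_comm a b')⟩
        inv_mem' := by
          rintro _ ⟨a, ha, b, hb, rfl⟩
          exact ⟨a⁻¹, V.inv_mem ha, b⁻¹, B.inv_mem hb, by
            rw [hVBc _ (V.inv_mem ha) _ (B.inv_mem hb), _root_.mul_inv_rev]⟩ }
    have hle : D ≤ S := by
      rw [← hVBs]
      exact sup_le (fun v hv => ⟨v, hv, 1, B.one_mem, by simp⟩) (fun b hb => ⟨1, V.one_mem, b, hb, by simp⟩)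
    exact fun x hx => hle hx
  have hVuniq : ∀ v ∈ V, ∀ b ∈ B, ∀ v' ∈ V, ∀ b' ∈ B, v * b = v' * b' → v = v' ∧ b = b' := by
    intro v hv b hb v' hv' b' hb' h
    have h1 : v'⁻¹ * v ∈ V ⊓ B := ⟨V.mul_mem (V.inv_mem hv') hv, by
      rw [show v'⁻¹ * v = b' * b⁻¹ by rw [eq_mul_inv_iff_mul_eq, mul_assoc, h, inv_mul_cancel_left]]
      exact B.mul_mem hb' (B.inv_mem hb)⟩
    rw [hVBi, Subgroup.mem_bot, inv_mul_eq_one] at h1
    exact ⟨h1.symm, mul_left_cancel (h1 ▸ h)⟩
  have hcardD : Nat.card D = 240 := by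
    let F : ↥V × ↥B → ↥D := fun p => ⟨p.1.1 * p.2.1, D.mul_mem (hVD p.1.2) (hBD p.2.2)⟩
    have hF : Function.Bijective F := by
      refine ⟨fun p q h => ?_, fun x => ?_⟩
      · obtain ⟨h1, h2⟩ := hVuniq _ p.1.2 _ p.2.2 _ q.1.2 _ q.2.2 (congrArg Subtype.val h)
        exact Prod.ext (Subtype.ext h1) (Subtype.ext h2)
      · obtain ⟨v, hv, b, hb, he⟩ := hVfac x x.2
        exact ⟨(⟨v, hv⟩, ⟨b, hb⟩), Subtype.ext he.symm⟩
    rw [← Nat.card_eq_of_bijective F hF, Nat.card_prod, hV, Nat.card_congr eB.toEquiv,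
      CfsgLib.Invol.HallJanko.card_alt_five]
  -- `z`-conjugates in `C(t)` are the involutions of `B`
  have hzB : ∀ x : G, IsConj z x ∧ x * t = t * x ↔ x ∈ B ∧ x * x = 1 ∧ x ≠ 1 := by
    intro x
    constructor
    · rintro ⟨hx, hxt⟩
      obtain ⟨h1, h2⟩ := hconjord hx hz
      refine ⟨?_, h1, h2⟩
      by_contra hxB
      exact hzt (hx.trans (hCt x (hDmem.2 hxt) (hord h1 h2) hxB))
    · rintro ⟨hxB, h1, h2⟩
      exact ⟨(hBz x hxB (hord h1 h2)).symm, hDmem.1 (hBD hxB)⟩
  have hcardBinv : Nat.card {x : G // IsConj z x ∧ x * t = t * x} = 15 := by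
    rw [← CfsgLib.Invol.HallJanko.alt_five_invol, ← Nat.card_eq_fintype_card]
    exact Nat.card_congr
      { toFun := fun x => ⟨eB ⟨x.1, ((hzB _).1 x.2).1⟩, by
          rw [← map_mul]; exact (map_eq_one_iff _ eB.injective).2 (Subtype.ext ((hzB _).1 x.2).2.1),
          fun h => ((hzB _).1 x.2).2.2 (congrArg Subtype.val ((map_eq_one_iff _ eB.injective).1 h))⟩
        invFun := fun y => ⟨(eB.symm y.1 : G), (hzB _).2 ⟨(eB.symm y.1).2, by
          have := congrArg eB.symm y.2.1
          rw [map_mul, map_one] at this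
          exact congrArg Subtype.val this, fun h => y.2.2 (by
            have h' : eB.symm y.1 = 1 := Subtype.ext h
            rw [← eB.apply_symm_apply y.1, h', map_one])⟩⟩
        left_inv := fun x => Subtype.ext (by simp)
        right_inv := fun y => Subtype.ext (by simp) }
  -- the `t`-class in `C(z)`
  have hM : Nat.card {v : G // IsConj t v ∧ v * z = z * v} = 120 := by
    have h1 := CfsgLib.Invol.HallJanko.card_pairs_rel z (fun a b => IsConj t b ∧ b * a = a * b)
      (fun g a b => and_congr ⟨fun h => h.trans (isConj_iff.2 ⟨g, rfl⟩),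
          fun h => h.trans (isConj_iff.2 ⟨g⁻¹, by group⟩)⟩ (by
        rw [show g * b * g⁻¹ * (g * a * g⁻¹) = g * (b * a) * g⁻¹ by group,
          show g * a * g⁻¹ * (g * b * g⁻¹) = g * (a * b) * g⁻¹ by group, mul_left_inj, mul_right_inj]))
    have h2 := CfsgLib.Invol.HallJanko.card_pairs_rel t (fun a b => IsConj z b ∧ b * a = a * b)
      (fun g a b => and_congr ⟨fun h => h.trans (isConj_iff.2 ⟨g, rfl⟩),
          fun h => h.trans (isConj_iff.2 ⟨g⁻¹, by group⟩)⟩ (by
        rw [show g * b * g⁻¹ * (g * a * g⁻¹) = g * (b * a) * g⁻¹ by group,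
          show g * a * g⁻¹ * (g * b * g⁻¹) = g * (a * b) * g⁻¹ by group, mul_left_inj, mul_right_inj]))
    have h3 : Nat.card {p : G × G // IsConj z p.1 ∧ IsConj t p.2 ∧ p.2 * p.1 = p.1 * p.2} =
        Nat.card {p : G × G // IsConj t p.1 ∧ IsConj z p.2 ∧ p.2 * p.1 = p.1 * p.2} :=
      Nat.card_congr ((Equiv.prodComm G G).subtypeEquiv fun p =>
        ⟨fun h => ⟨h.2.1, h.1, h.2.2.symm⟩, fun h => ⟨h.2.1, h.1, h.2.2.symm⟩⟩)
    rw [h1, h2, hcardBinv] at h3
    have e1 := CfsgLib.Invol.card_isConj_mul z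
    have e2 := CfsgLib.Invol.card_isConj_mul t
    rw [← hCdef, hcardC] at e1
    rw [← hDdef, hcardD] at e2
    have hpos : 0 < Nat.card {x : G // IsConj z x} := Nat.pos_of_ne_zero fun h0 => by
      rw [h0, zero_mul] at e1; exact Nat.card_pos.ne' e1.symm
    refine Nat.eq_of_mul_eq_mul_left hpos ?_
    rw [h3]
    have : Nat.card {x : G // IsConj t x} = 8 * Nat.card {x : G // IsConj z x} := by omega
    rw [this]; ring
  -- noncommuting involutions of `Q` for an outer involution
  have hgood : ∀ v : G, IsConj t v → v * z = z * v →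
      Nat.card {u : G // (u ∈ Q ∧ u * u = 1 ∧ u ≠ 1) ∧ u * v ≠ v * u} = 8 := by
    intro v hv hvz
    obtain ⟨g, rfl⟩ := isConj_iff.1 hv
    have hz'B : g⁻¹ * z * g ∈ B ∧ (g⁻¹ * z * g) * (g⁻¹ * z * g) = 1 ∧ g⁻¹ * z * g ≠ 1 :=
      (hzB _).1 ⟨isConj_iff.2 ⟨g⁻¹, by group⟩, by
        calc g⁻¹ * z * g * t = g⁻¹ * (z * (g * t * g⁻¹)) * g := by group
          _ = g⁻¹ * (g * t * g⁻¹ * z) * g := by rw [hvz]
          _ = _ := by group⟩
    have hcom : Nat.card {u : G // (u ∈ Q ∧ u * u = 1 ∧ u ≠ 1) ∧ u * (g * t * g⁻¹) = g * t * g⁻¹ * u} = 3 := by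
      rw [← CfsgLib.Invol.HallJanko.alt_five_invol_commute (eB ⟨_, hz'B.1⟩)
        (by rw [← map_mul]; exact (map_eq_one_iff _ eB.injective).2 (Subtype.ext hz'B.2.1))
        (fun h => hz'B.2.2 (congrArg Subtype.val ((map_eq_one_iff _ eB.injective).1 h))),
        ← Nat.card_eq_fintype_card]
      have hto : ∀ u : {u : G // (u ∈ Q ∧ u * u = 1 ∧ u ≠ 1) ∧ u * (g * t * g⁻¹) = g * t * g⁻¹ * u},
          g⁻¹ * u.1 * g ∈ B ∧ (g⁻¹ * u.1 * g) * (g⁻¹ * u.1 * g) = 1 ∧ g⁻¹ * u.1 * g ≠ 1 := by
        rintro ⟨u, ⟨hu, h1, h2⟩, h3⟩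
        refine (hzB _).1 ⟨(hQz u hu (hord h1 h2)).symm.trans (isConj_iff.2 ⟨g⁻¹, by group⟩), ?_⟩
        calc g⁻¹ * u * g * t = g⁻¹ * (u * (g * t * g⁻¹)) * g := by group
          _ = g⁻¹ * (g * t * g⁻¹ * u) * g := by rw [h3]
          _ = _ := by group
      exact Nat.card_congr
        { toFun := fun u => ⟨eB ⟨_, (hto u).1⟩,
            by rw [← map_mul]; exact (map_eq_one_iff _ eB.injective).2 (Subtype.ext (hto u).2.1),
            fun h => (hto u).2.2 (congrArg Subtype.val ((map_eq_one_iff _ eB.injective).1 h)),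
            by
              rw [← map_mul, ← map_mul]
              refine congrArg eB (Subtype.ext ?_)
              show g⁻¹ * u.1 * g * (g⁻¹ * z * g) = g⁻¹ * z * g * (g⁻¹ * u.1 * g)
              calc g⁻¹ * u.1 * g * (g⁻¹ * z * g) = g⁻¹ * (u.1 * z) * g := by group
                _ = _ := by rw [hQle _ u.2.1.1]; group⟩
          invFun := fun y => ⟨g * (eB.symm y.1 : G) * g⁻¹, by
            set x : G := (eB.symm y.1 : G) with hx
            have hxB : x ∈ B := (eB.symm y.1).2
            have hx2 : x * x = 1 := by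
              have := congrArg eB.symm y.2.1
              rw [map_mul, map_one] at this
              exact congrArg Subtype.val this
            have hx1 : x ≠ 1 := fun h => y.2.2.1 (by
              have h' : eB.symm y.1 = 1 := Subtype.ext h
              rw [← eB.apply_symm_apply y.1, h', map_one])
            have hxz : x * (g⁻¹ * z * g) = g⁻¹ * z * g * x := by
              have := congrArg eB.symm y.2.2.2
              rw [map_mul, map_mul, eB.symm_apply_apply] at this
              exact congrArg Subtype.val this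
            have h1 : g * x * g⁻¹ * (g * x * g⁻¹) = 1 := by
              calc g * x * g⁻¹ * (g * x * g⁻¹) = g * (x * x) * g⁻¹ := by group
                _ = 1 := by rw [hx2]; group
            have h2 : g * x * g⁻¹ ≠ 1 := fun h => hx1 (conj_eq_one_iff.1 h)
            refine ⟨⟨?_, h1, h2⟩, ?_⟩
            · have hC' : g * x * g⁻¹ ∈ C := hCmem.2 (by
                calc g * x * g⁻¹ * z = g * (x * (g⁻¹ * z * g)) * g⁻¹ := by group
                  _ = _ := by rw [hxz]; group)
              by_contra hq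
              exact hzt ((((hzB x).2 ⟨hxB, hx2, hx1⟩).1.trans (isConj_iff.2 ⟨g, rfl⟩)).trans
                (hCz _ hC' (hord h1 h2) hq))
            · calc g * x * g⁻¹ * (g * t * g⁻¹) = g * (x * t) * g⁻¹ := by group
                _ = _ := by rw [hDmem.1 (hBD hxB)]; group⟩
          left_inv := fun u => Subtype.ext (by simp [mul_assoc])
          right_inv := fun y => Subtype.ext (by
            refine Eq.trans (congrArg eB (Subtype.ext (?_ : _ = (eB.symm y.1 : G)))) (eB.apply_symm_apply _)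
            show g⁻¹ * (g * (eB.symm y.1 : G) * g⁻¹) * g = _
            group) }
    have htot := Fintype.card_subtype_compl (α := {u : G // u ∈ Q ∧ u * u = 1 ∧ u ≠ 1})
      (fun u => u.1 * (g * t * g⁻¹) = g * t * g⁻¹ * u.1)
    rw [← Nat.card_eq_fintype_card, ← Nat.card_eq_fintype_card, ← Nat.card_eq_fintype_card,
      h11, Nat.card_congr (Equiv.subtypeSubtypeEquivSubtypeInter (fun u : G => u ∈ Q ∧ u * u = 1 ∧ u ≠ 1)
        (fun u => ¬ (u * (g * t * g⁻¹) = g * t * g⁻¹ * u))),
      Nat.card_congr (Equiv.subtypeSubtypeEquivSubtypeInter (fun u : G => u ∈ Q ∧ u * u = 1 ∧ u ≠ 1)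
        (fun u => u * (g * t * g⁻¹) = g * t * g⁻¹ * u)), hcom] at htot
    exact htot
  -- pairs over `z`
  have hconjz : ∀ {u : G}, IsConj z u → u * u = 1 ∧ u ≠ 1 := fun h => hconjord h hz
  have hconjt : ∀ {u : G}, IsConj t u → u * u = 1 ∧ u ≠ 1 := fun h => hconjord h ht
  have hcommpow : ∀ {u v w : G}, u * u = 1 → v * v = 1 → w ∈ Subgroup.zpowers (u * v) → w * w = 1 →
      u * w = w * u ∧ v * w = w * v := by
    intro u v w hu hv hw hww
    obtain ⟨k, hk⟩ := Subgroup.mem_zpowers_iff.1 hw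
    have hwi : w⁻¹ = w := inv_eq_of_mul_eq_one_right hww
    have hui : u⁻¹ = u := inv_eq_of_mul_eq_one_right hu
    have hvi : v⁻¹ = v := inv_eq_of_mul_eq_one_right hv
    have h1 : u * w * u⁻¹ = w := by
      conv_rhs => rw [← hwi, ← hk, ← inv_zpow, _root_.mul_inv_rev, hvi, hui]
      rw [← hk, ← conj_zpow]
      congr 1
      rw [hui, ← mul_assoc, hu, one_mul]
    have h2 : v * w * v⁻¹ = w := by
      conv_rhs => rw [← hwi, ← hk, ← inv_zpow, _root_.mul_inv_rev, hvi, hui]
      rw [← hk, ← conj_zpow]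
      congr 1
      rw [hvi, mul_assoc, mul_assoc, hv, mul_one]
    exact ⟨mul_inv_eq_iff_eq_mul.1 h1, mul_inv_eq_iff_eq_mul.1 h2⟩
  have hN1 : Nat.card {p : G × G // IsConj z p.1 ∧ IsConj t p.2 ∧ z ∈ Subgroup.zpowers (p.1 * p.2)} = 960 := by
    have hiff : ∀ p : G × G, (IsConj z p.1 ∧ IsConj t p.2 ∧ z ∈ Subgroup.zpowers (p.1 * p.2)) ↔
        ((IsConj t p.2 ∧ p.2 * z = z * p.2) ∧ (p.1 ∈ Q ∧ p.1 * p.1 = 1 ∧ p.1 ≠ 1) ∧ p.1 * p.2 ≠ p.2 * p.1) := by
      rintro ⟨u, v⟩
      constructor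
      · rintro ⟨hu, hv, hm⟩
        obtain ⟨hu2, hu1⟩ := hconjz hu
        obtain ⟨hv2, hv1⟩ := hconjt hv
        obtain ⟨huz, hvz⟩ := hcommpow hu2 hv2 hm hzz
        have huQ : u ∈ Q := by
          by_contra hq
          exact hzt (hu.trans (hCz u (hCmem.2 huz) (hord hu2 hu1) hq))
        refine ⟨⟨hv, hvz⟩, ⟨huQ, hu2, hu1⟩, fun huv => ?_⟩
        -- then `z = u v`
        have hsq : u * v * (u * v) = 1 := by
          calc u * v * (u * v) = u * (v * u) * v := by group
            _ = u * u * (v * v) := by rw [← huv]; group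
            _ = 1 := by rw [hu2, hv2, one_mul]
        obtain ⟨k, hk⟩ := Subgroup.mem_zpowers_iff.1 hm
        rcases Int.even_or_odd' k with ⟨m, rfl | rfl⟩
        · rw [zpow_mul, zpow_two, hsq, one_zpow] at hk; exact hz1 hk.symm
        · rw [zpow_add, zpow_mul, zpow_two, hsq, one_zpow, one_mul, zpow_one] at hk
          have hvQ : v ∈ Q := by
            have hk' : u * v = z := hk
            rw [← inv_mul_cancel_left u v, hk']
            exact Q.mul_mem (Q.inv_mem huQ) hzQ
          exact hzt ((hQz v hvQ (hord hv2 hv1)).symm.trans hv.symm)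
      · rintro ⟨⟨hv, hvz⟩, ⟨huQ, hu2, hu1⟩, huv⟩
        obtain ⟨hv2, hv1⟩ := hconjt hv
        refine ⟨(hQz u huQ (hord hu2 hu1)).symm, hv, ?_⟩
        have hw := CfsgLib.Invol.HallJanko.comm_square hu2 hv2
        set u' := v * u * v⁻¹ with hu'
        have hu'Q : u' ∈ Q := hQn v (hCmem.2 hvz) u huQ
        have hu'2 : u' * u' = 1 := by
          calc u' * u' = v * (u * u) * v⁻¹ := by rw [hu']; group
            _ = 1 := by rw [hu2]; group
        have hu'1 : u' ≠ 1 := fun h => hu1 (conj_eq_one_iff.1 h)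
        have huz : u ≠ z := fun h => huv (by rw [h]; exact hvz.symm)
        have hu'z : u' ≠ z := fun h => huz (by
          calc u = v⁻¹ * u' * v := by rw [hu']; group
            _ = z := by rw [h, mul_assoc, ← hvz, inv_mul_cancel_left])
        by_cases hcm : u * u' = u' * u
        · rcases hline u huQ u' hu'Q hu2 hu'2 hu1 hu'1 huz hu'z hcm with h | h
          · exact absurd (show u * v = v * u from (mul_inv_eq_iff_eq_mul.1 (hu' ▸ h)).symm) huv
          · refine Subgroup.mem_zpowers_iff.2 ⟨2, ?_⟩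
            show (u * v) ^ (2 : ℤ) = z
            rw [show (2 : ℤ) = ((2 : ℕ) : ℤ) from rfl, zpow_natCast, hw, h, ← mul_assoc, hu2, one_mul]
        · have h' := (hQcomm u huQ u' hu'Q).resolve_left hcm
          refine Subgroup.mem_zpowers_iff.2 ⟨4, ?_⟩
          show (u * v) ^ (4 : ℤ) = z
          rw [show (4 : ℤ) = ((4 : ℕ) : ℤ) from rfl, zpow_natCast, show 4 = 2 * 2 from rfl, pow_mul, hw,
            pow_two]
          calc u * u' * (u * u') = z * (u' * u) * (u * u') := by rw [h']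
            _ = z * (u' * (u * u) * u') := by group
            _ = z := by rw [hu2, mul_one, hu'2, mul_one]
    rw [Nat.card_congr (Equiv.subtypeEquivRight hiff)]
    have e : {p : G × G // (IsConj t p.2 ∧ p.2 * z = z * p.2) ∧ (p.1 ∈ Q ∧ p.1 * p.1 = 1 ∧ p.1 ≠ 1) ∧
        p.1 * p.2 ≠ p.2 * p.1} ≃ Σ v : {v : G // IsConj t v ∧ v * z = z * v},
          {u : G // (u ∈ Q ∧ u * u = 1 ∧ u ≠ 1) ∧ u * v.1 ≠ v.1 * u} :=
      { toFun := fun p => ⟨⟨p.1.2, p.2.1⟩, ⟨p.1.1, p.2.2⟩⟩
        invFun := fun q => ⟨(q.2.1, q.1.1), q.1.2, q.2.2⟩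
        left_inv := fun p => rfl
        right_inv := fun q => rfl }
    rw [Nat.card_congr e, Nat.card_sigma, Finset.sum_congr rfl fun v _ => hgood v.1 v.2.1 v.2.2,
      Finset.sum_const, Finset.card_univ, ← Nat.card_eq_fintype_card, hM]
    rfl
  -- pairs over `t`
  have hN2 : Nat.card {p : G × G // IsConj z p.1 ∧ IsConj t p.2 ∧ t ∈ Subgroup.zpowers (p.1 * p.2)} = 195 := by
    rw [← CfsgLib.Invol.HallJanko.alt_five_odd_pairs, ← Nat.card_eq_fintype_card]
    have ht1 : t ≠ 1 := fun h => by rw [h, orderOf_one] at ht; omega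
    have htB : t ∉ B := fun h => hzt (hBz t h ht).symm
    have hfwd : ∀ p : {p : G × G // IsConj z p.1 ∧ IsConj t p.2 ∧ t ∈ Subgroup.zpowers (p.1 * p.2)},
        ∃ b ∈ B, p.1.2 = t * b ∧ p.1.1 ∈ B ∧ b * b = 1 ∧ p.1.1 * p.1.1 = 1 ∧ p.1.1 ≠ 1 ∧
          (p.1.1 * b) ^ 15 = 1 := by
      rintro ⟨⟨u, v⟩, hu, hv, hm⟩
      obtain ⟨hu2, hu1⟩ := hconjz hu
      obtain ⟨hv2, -⟩ := hconjt hv
      obtain ⟨hut, hvt⟩ := hcommpow hu2 hv2 hm htt
      have huB := ((hzB u).1 ⟨hu, hut⟩).1
      obtain ⟨w, hw, b, hb, rfl⟩ := hVfac v (hDmem.2 hvt)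
      have hb2 : b * b = 1 := by
        have e : w * b * (w * b) = w * w * (b * b) := by
          calc w * b * (w * b) = w * (b * w) * b := by group
            _ = w * w * (b * b) := by rw [← hVBc w hw b hb]; group
        rw [hv2, ← pow_two w, hV2 w hw, one_mul] at e
        exact e.symm
      have hexp : (u * b) ^ 30 = 1 := by
        have h := CfsgLib.Invol.HallJanko.alt_five_exponent (eB ⟨u * b, B.mul_mem huB hb⟩)
        rw [← map_pow, map_eq_one_iff _ eB.injective] at h
        exact congrArg Subtype.val h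
      obtain ⟨k, hk⟩ := Subgroup.mem_zpowers_iff.1 hm
      have hcw : Commute w (u * b) := hVBc w hw _ (B.mul_mem huB hb)
      have hprod : u * (w * b) = w * (u * b) := by rw [← mul_assoc, ← hVBc w hw u huB, mul_assoc]
      have hk' : w ^ k * (u * b) ^ k = t * 1 := by
        rw [← hcw.mul_zpow, ← hprod, mul_one]; exact hk
      obtain ⟨hwk, hbk⟩ := hVuniq _ (V.zpow_mem hw k) _ (B.zpow_mem (B.mul_mem huB hb) k) t htV 1 B.one_mem hk'
      rcases Int.even_or_odd' k with ⟨m, rfl | rfl⟩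
      · rw [zpow_mul, zpow_two, ← pow_two, hV2 w hw, one_zpow] at hwk
        exact absurd hwk.symm ht1
      · rw [zpow_add, zpow_mul, zpow_two, ← pow_two, hV2 w hw, one_zpow, one_mul, zpow_one] at hwk
        subst hwk
        refine ⟨b, hb, rfl, huB, hb2, hu2, hu1, ?_⟩
        have h30 : (u * b) ^ (30 : ℤ) = 1 := by rw [show (30 : ℤ) = ((30 : ℕ) : ℤ) from rfl, zpow_natCast]; exact hexp
        have h15 : (u * b) ^ ((2 * m + 1) * 15) = 1 := by rw [zpow_mul, hbk, one_zpow]
        rw [show (2 * m + 1) * 15 = 30 * m + ((15 : ℕ) : ℤ) by push_cast; ring, zpow_add, zpow_mul, h30,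
          one_zpow, one_mul, zpow_natCast] at h15
        exact h15
    choose b hb hpb hpB hb2 hu2 hu1 h15 using hfwd
    exact Nat.card_congr
      { toFun := fun p => ⟨(eB ⟨p.1.1, hpB p⟩, eB ⟨b p, hb p⟩),
          by rw [← map_mul]; exact (map_eq_one_iff _ eB.injective).2 (Subtype.ext (hu2 p)),
          fun h => hu1 p (congrArg Subtype.val ((map_eq_one_iff _ eB.injective).1 h)),
          by rw [← map_mul]; exact (map_eq_one_iff _ eB.injective).2 (Subtype.ext (hb2 p)),
          by rw [← map_mul, ← map_pow]; exact (map_eq_one_iff _ eB.injective).2 (Subtype.ext (h15 p))⟩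
        invFun := fun q => ⟨((eB.symm q.1.1 : G), t * (eB.symm q.1.2 : G)), by
          obtain ⟨⟨q1, q2⟩, e1, e2, e3, e4⟩ := q
          set u : G := (eB.symm q1 : G) with hudef
          set c : G := (eB.symm q2 : G) with hcdef
          have huB : u ∈ B := (eB.symm q1).2
          have hcB : c ∈ B := (eB.symm q2).2
          have hu2 : u * u = 1 := by
            have := congrArg eB.symm e1; rw [map_mul, map_one] at this
            exact congrArg Subtype.val this
          have hu1 : u ≠ 1 := fun h => e2 (by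
            have h' : eB.symm q1 = 1 := Subtype.ext h
            rw [← eB.apply_symm_apply q1, h', map_one])
          have hc2 : c * c = 1 := by
            have := congrArg eB.symm e3; rw [map_mul, map_one] at this
            exact congrArg Subtype.val this
          have h15 : (u * c) ^ 15 = 1 := by
            have := congrArg eB.symm e4; rw [map_pow, map_mul, map_one] at this
            exact congrArg Subtype.val this
          have htc : t * c = c * t := hVBc t htV c hcB
          have hv2 : t * c * (t * c) = 1 := by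
            calc t * c * (t * c) = t * (c * t) * c := by group
              _ = t * t * (c * c) := by rw [← htc]; group
              _ = 1 := by rw [htt, hc2, one_mul]
          have hvB : t * c ∉ B := fun h => htB (by simpa using B.mul_mem h (B.inv_mem hcB))
          have hv1 : t * c ≠ 1 := fun h => hvB (h ▸ B.one_mem)
          refine ⟨((hzB u).2 ⟨huB, hu2, hu1⟩).1,
            (hCt _ (D.mul_mem (hVD htV) (hBD hcB)) (hord hv2 hv1) hvB).symm, ?_⟩
          refine Subgroup.mem_zpowers_iff.2 ⟨15, ?_⟩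
          show (u * (t * c)) ^ (15 : ℤ) = t
          have hcomm : Commute t (u * c) := hVBc t htV _ (B.mul_mem huB hcB)
          rw [show u * (t * c) = t * (u * c) by rw [← mul_assoc, ← hVBc t htV u huB, mul_assoc],
            show (15 : ℤ) = ((15 : ℕ) : ℤ) from rfl, zpow_natCast, hcomm.mul_pow, h15, mul_one,
            show 15 = 2 * 7 + 1 from rfl, pow_succ, pow_mul, pow_two, htt, one_pow, one_mul]⟩
        left_inv := fun p => Subtype.ext (Prod.ext (by simp) (by simpa using (hpb p).symm))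
        right_inv := fun q => by
          refine Subtype.ext (Prod.ext (by simp) ?_)
          generalize_proofs _ _ _ hmem hb'
          simp only
          refine Eq.trans (congrArg eB (Subtype.ext ?_)) (eB.apply_symm_apply _)
          show b _ = _
          apply mul_left_cancel (a := t)
          exact (hpb _).symm }
  have hall : ∀ x : G, orderOf x = 2 → IsConj z x ∨ IsConj t x := fun x hx =>
    (hcl x hx).imp IsConj.symm IsConj.symm
  have h := CfsgLib.Invol.thompson_two_classes z t hz ht hzt hall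
  rw [← hCdef, ← hDdef, hcardC, hcardD, hN1, hN2] at h
  exact h

end Cfsg.Agent.S3313
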