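import Cfsg.Statements.S3315
import Cfsg.Agent.Lib.SU.UnitalModel

set_option autoImplicit false
open Cfsg

namespace Cfsg.Agent.S3315

/-- Let S be a Sylow 2-subgroup of SU₃(2ⁿ), n ≥ 2 (realised over the field with 4ⁿ elements). If a finite 2-group R contains a subgroup S' of index 2 isomorphic to S, then the centre of S' is contained in the centre of R. -/
theorem result {R : Type*} [Group R] [Finite R]
    (hR : IsPGroup 2 R) (n : ℕ) (hn : 2 ≤ n) {F : Type*} [Field F] [Fintype F] (hF : Fintype.card F = 4 ^ n)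
    (P : Sylow 2 ↥(Cfsg.SU 3 F (2 ^ n))) (S' : Subgroup R) (hS : Nonempty (↥S' ≃* ↥(P : Subgroup ↥(Cfsg.SU 3 F (2 ^ n)))))
    (hidx : S'.index = 2) :
    (Subgroup.center ↥S').map S'.subtype ≤ Subgroup.center R := by
  haveI : Fact (Nat.Prime 2) := ⟨Nat.prime_two⟩
  haveI : CharP F 2 := charP_of_card_eq_prime_pow (f := 2 * n) (by
    rw [hF, pow_mul]; norm_num)
  obtain ⟨U₀, -⟩ := CfsgLib.SU.unital_sylow_su (by omega) (by
    rw [hF, ← pow_mul, mul_comm, pow_mul]; norm_num) P
  obtain ⟨e⟩ := hS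
  let U := U₀.congr e
  haveI : S'.Normal := Subgroup.normal_of_index_eq_two hidx
  rintro _ ⟨z, hz, rfl⟩
  rw [Subgroup.mem_center_iff]
  intro r
  by_cases hr : r ∈ S'
  · exact congrArg Subtype.val (Subgroup.mem_center_iff.1 hz ⟨r, hr⟩)
  let α : ↥S' ≃* ↥S' := MulAut.conjNormal r
  have h2 : r * r ∈ S' := Subgroup.mul_self_mem_of_index_two hidx r
  have hfix := U.fix_center α (fun x => ?_) hz
  · have h := congrArg Subtype.val hfix
    rw [show ((α z : S') : R) = r * z * r⁻¹ from MulAut.conjNormal_apply r z] at h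
    exact mul_inv_eq_iff_eq_mul.1 h
  have : α (α x) = ⟨r * r, h2⟩ * x * (⟨r * r, h2⟩ : S')⁻¹ := by
    apply Subtype.ext
    simp only [Subgroup.coe_mul, Subgroup.coe_inv]
    rw [show ((α (α x) : S') : R) = r * (α x : S') * r⁻¹ from MulAut.conjNormal_apply r (α x),
      show ((α x : S') : R) = r * x * r⁻¹ from MulAut.conjNormal_apply r x]
    group
  rw [this, U.pi_conj]

end Cfsg.Agent.S3315
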