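import Cfsg.Statements.S3329
import Cfsg.Agent.Lib.Spor.AltEightLocal.Data

set_option autoImplicit false
set_option synthInstance.maxSize 4000
set_option synthInstance.maxHeartbeats 80000
open Cfsg

namespace Cfsg.Agent.S3329

/-- A 3-local characterization of the alternating group of degree 8. Let G be a finite group whose Sylow 3-subgroup D is elementary abelian of order 9, generated by y and z, and suppose: (i) C_G(D) = D and N_G(D)/D is dihedral of order 8; (ii) D is normal in C_G(y), C_G(y) has order 18, D is normal in N_G(⟨y⟩) and N_G(⟨y⟩)/D is elementary abelian of order 4; (iii) C_G(z) is isomorphic to the direct product of a cyclic group of order 3 and the alternating group of degree 5, and N_G(⟨z⟩) is isomorphic to the subgroup of index 2 of Sym(3) × Sym(5) consisting of the pairs of permutations whose signs agree. Then G is isomorphic to the alternating group of degree 8. -/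
theorem result {G : Type*} [Group G] [Finite G]
    (P : Sylow 3 G) (D : Subgroup G) (hDP : D = P) (y z : G) (hgen : Subgroup.closure {y, z} = D)
    (hcomm : IsMulCommutative D) (hcard : Nat.card D = 9) (hexp : ∀ a ∈ D, a ^ 3 = 1)
    (hC : Subgroup.centralizer (D : Set G) = D)
    (eN : Subgroup.normalizer (D : Set G) ⧸ D.subgroupOf (Subgroup.normalizer (D : Set G)) ≃* DihedralGroup 4)
    (hyn : (D.subgroupOf (Subgroup.centralizer ({y} : Set G))).Normal)
    (hycard : Nat.card (Subgroup.centralizer ({y} : Set G)) = 18)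
    (Ny : Subgroup G) (hNy : Ny = Subgroup.normalizer (Subgroup.zpowers y : Set G))
    (hyN : D ≤ Ny) [hyNn : (D.subgroupOf Ny).Normal]
    (hyNcard : Nat.card (Ny ⧸ D.subgroupOf Ny) = 4) (hyNexp : ∀ g : Ny ⧸ D.subgroupOf Ny, g ^ 2 = 1)
    (eC : Subgroup.centralizer ({z} : Set G) ≃* Multiplicative (ZMod 3) × alternatingGroup (Fin 5))
    (eL : Subgroup.normalizer (Subgroup.zpowers z : Set G) ≃*
      (((Equiv.Perm.sign).comp (MonoidHom.fst (Equiv.Perm (Fin 3)) (Equiv.Perm (Fin 5)))) *
        ((Equiv.Perm.sign).comp (MonoidHom.snd (Equiv.Perm (Fin 3)) (Equiv.Perm (Fin 5))))).ker) :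
    Nonempty (G ≃* alternatingGroup (Fin 8)) := by
  haveI : Fact (Nat.Prime 3) := ⟨Nat.prime_three⟩
  have hyD : y ∈ D := hgen ▸ Subgroup.subset_closure (Set.mem_insert y {z})
  have hzD : z ∈ D := hgen ▸ Subgroup.subset_closure (Set.mem_insert_of_mem y rfl)
  have hcm : ∀ a ∈ D, ∀ b ∈ D, a * b = b * a := fun a ha b hb =>
    congrArg Subtype.val (hcomm.is_comm.comm ⟨a, ha⟩ ⟨b, hb⟩)
  have hsmall : ∀ a b : G, a ∈ D → b ∈ D → b ∈ Subgroup.zpowers a →
      Nat.card (Subgroup.closure ({b, a} : Set G)) ≤ 3 := fun a b ha _ hb => by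
    have hle : Subgroup.closure ({b, a} : Set G) ≤ Subgroup.zpowers a := by
      rw [Subgroup.closure_le]
      rintro w (rfl | rfl)
      · exact hb
      · exact Subgroup.mem_zpowers _
    refine (Subgroup.card_le_of_le hle).trans ?_
    rw [Nat.card_zpowers]
    exact Nat.le_of_dvd (by norm_num) (orderOf_dvd_of_pow_eq_one (hexp a ha))
  have hyz : y ∉ Subgroup.zpowers z := fun h => by
    have := hsmall z y hzD hyD h
    rw [hgen, hcard] at this
    omega
  have hy1 : y ≠ 1 := fun h => hyz (h ▸ one_mem _)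
  have hz1 : z ≠ 1 := fun h => by
    have := hsmall y z hyD hzD (h ▸ one_mem _)
    rw [Set.pair_comm, hgen, hcard] at this
    omega
  obtain ⟨f, hf, hfz, hfr, hfD⟩ := CfsgLib.Spor.AltEightLocal.exists_first z (hexp z hzD) hz1 eL D hzD
    hcard hexp hcm
  have hND : Nat.card (Subgroup.normalizer (D : Set G)) = 72 := by
    rw [← (D.subgroupOf (Subgroup.normalizer (D : Set G))).card_mul_index, Subgroup.index_eq_card,
      Nat.card_congr eN.toEquiv, DihedralGroup.nat_card,
      Nat.card_congr (Subgroup.subgroupOfEquivOfLe Subgroup.le_normalizer).toEquiv, hcard]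
  subst hfz
  obtain ⟨F, rfl⟩ := CfsgLib.Spor.AltEightLocal.exists_frame f hf hfr (by rw [hfD]; exact hND)
  have hFD : F.D = D := hfD
  have hle : D ≤ Subgroup.centralizer ({y} : Set G) := fun a ha =>
    Subgroup.mem_centralizer_singleton_iff.2 (hcm a ha y hyD)
  refine CfsgLib.Spor.AltEightLocal.nonempty_mulEquiv F (F.hyp_of_data ?_ ?_ ?_ (hFD ▸ hyD) hy1 hyz hycard ?_)
  · rw [hFD]; exact hC
  · rw [hFD, hDP]; exact P.not_dvd_index
  · rw [hFD]; exact hND
  · rw [hFD]
    exact (Subgroup.normal_subgroupOf_iff_le_normalizer hle).1 hyn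

end Cfsg.Agent.S3329
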