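import Cfsg.Statements.S3330
import Cfsg.Agent.Lib.Spor.SymEightLocal.Data

set_option autoImplicit false
set_option synthInstance.maxSize 4000
set_option synthInstance.maxHeartbeats 80000
open Cfsg

namespace Cfsg.Agent.S3330

/-- A 3-local characterization of the symmetric group of degree 8, with one exceptional configuration. Let G be a finite group whose Sylow 3-subgroup D is elementary abelian of order 9, generated by y and z, and suppose: (i) C_G(D) has order 18, N_G(D)/D is isomorphic to the direct product of a dihedral group of order 8 and a group of order 2, and N_G(D)/C_G(D) is dihedral of order 8; (ii) D is normal in C_G(y), C_G(y) has order 36 with every square lying in D, D is normal in N_G(⟨y⟩), and N_G(⟨y⟩) has order 72 with every square lying in D; (iii) C_G(z) is isomorphic to the direct product of a cyclic group of order 3 and Sym(5), and N_G(⟨z⟩) is isomorphic to Sym(3) × Sym(5). Then either G is isomorphic to the symmetric group of degree 8, or the generalized Fitting subgroup of G is a minimal normal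 subgroup isomorphic to Alt(5) × Alt(5) of index 4 with every square of G lying in it. -/
theorem result {G : Type*} [Group G] [Finite G]
    (P : Sylow 3 G) (D : Subgroup G) (hDP : D = P) (y z : G) (hgen : Subgroup.closure {y, z} = D)
    (hcomm : IsMulCommutative D) (hcard : Nat.card D = 9) (hexp : ∀ a ∈ D, a ^ 3 = 1)
    (hC : Nat.card (Subgroup.centralizer (D : Set G)) = 18)
    (eN : Subgroup.normalizer (D : Set G) ⧸ D.subgroupOf (Subgroup.normalizer (D : Set G)) ≃* DihedralGroup 4 × Multiplicative (ZMod 2))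
    [hcn : ((Subgroup.centralizer (D : Set G)).subgroupOf (Subgroup.normalizer (D : Set G))).Normal]
    (eNC : Subgroup.normalizer (D : Set G) ⧸ (Subgroup.centralizer (D : Set G)).subgroupOf (Subgroup.normalizer (D : Set G)) ≃* DihedralGroup 4)
    (hyn : (D.subgroupOf (Subgroup.centralizer ({y} : Set G))).Normal)
    (hycard : Nat.card (Subgroup.centralizer ({y} : Set G)) = 36)
    (hysq : ∀ g ∈ Subgroup.centralizer ({y} : Set G), g ^ 2 ∈ D)
    (Ny : Subgroup G) (hNy : Ny = Subgroup.normalizer (Subgroup.zpowers y : Set G))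
    (hyNn : (D.subgroupOf Ny).Normal) (hyNcard : Nat.card Ny = 72) (hyNsq : ∀ g ∈ Ny, g ^ 2 ∈ D)
    (eC : Subgroup.centralizer ({z} : Set G) ≃* Multiplicative (ZMod 3) × Equiv.Perm (Fin 5))
    (eL : Subgroup.normalizer (Subgroup.zpowers z : Set G) ≃* Equiv.Perm (Fin 3) × Equiv.Perm (Fin 5)) :
    Nonempty (G ≃* Equiv.Perm (Fin 8)) ∨
      ∃ N : Subgroup G, N.Normal ∧ Cfsg.generalizedFittingSubgroup G = N ∧
        Nonempty (N ≃* alternatingGroup (Fin 5) × alternatingGroup (Fin 5)) ∧
        (∀ K : Subgroup G, K.Normal → K ≤ N → K = ⊥ ∨ K = N) ∧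
        N.index = 4 ∧ ∀ g : G, g ^ 2 ∈ N := by
  haveI : Fact (Nat.Prime 3) := ⟨Nat.prime_three⟩
  have hyD : y ∈ D := hgen ▸ Subgroup.subset_closure (Set.mem_insert y {z})
  have hzD : z ∈ D := hgen ▸ Subgroup.subset_closure (Set.mem_insert_of_mem y rfl)
  have hcm : ∀ a ∈ D, ∀ b ∈ D, a * b = b * a := fun a ha b hb =>
    congrArg Subtype.val (hcomm.is_comm.comm ⟨a, ha⟩ ⟨b, hb⟩)
  have hsmall : ∀ a b : G, a ∈ D → b ∈ D → b ∈ Subgroup.zpowers a →
      Nat.card (Subgroup.closure ({b, a} : Set G)) ≤ 3 := fun a b ha _ hb => by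
    have hle : Subgroup.closure ({b, a} : Set G) ≤ Subgroup.zpowers a := by
      rw [Subgroup.closure_le]
      rintro w (rfl | rfl)
      · exact hb
      · exact Subgroup.mem_zpowers _
    refine (Subgroup.card_le_of_le hle).trans ?_
    rw [Nat.card_zpowers]
    exact Nat.le_of_dvd (by norm_num) (orderOf_dvd_of_pow_eq_one (hexp a ha))
  have hyz : y ∉ Subgroup.zpowers z := fun h => by
    have := hsmall z y hzD hyD h
    rw [hgen, hcard] at this
    omega
  have hz1 : z ≠ 1 := fun h => by
    have := hsmall y z hyD hzD (h ▸ one_mem _)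
    rw [Set.pair_comm, hgen, hcard] at this
    omega
  obtain ⟨f, hf, hfz, hfr, hfD⟩ := CfsgLib.Spor.SymEightLocal.exists_first z (hexp z hzD) hz1 eL D hzD
    hcard hexp hcm
  subst hfD
  have hND : Nat.card (Subgroup.normalizer ((CfsgLib.Spor.SymEightLocal.eD.map f : Subgroup G) : Set G)) = 144 := by
    rw [← ((CfsgLib.Spor.SymEightLocal.eD.map f).subgroupOf (Subgroup.normalizer
        ((CfsgLib.Spor.SymEightLocal.eD.map f : Subgroup G) : Set G))).card_mul_index, Subgroup.index_eq_card,
      Nat.card_congr eN.toEquiv, Nat.card_prod, DihedralGroup.nat_card,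
      Nat.card_congr (Subgroup.subgroupOfEquivOfLe Subgroup.le_normalizer).toEquiv, hcard,
      Nat.card_congr Multiplicative.toAdd, Nat.card_zmod]
  have hidx : ¬ 3 ∣ (CfsgLib.Spor.SymEightLocal.eD.map f).index := hDP ▸ P.not_dvd_index
  subst hfz
  obtain ⟨X, rfl⟩ := CfsgLib.Spor.SymEightLocal.exists_frame f hf hfr hND hidx
  have hle : X.D ≤ Subgroup.centralizer ({y} : Set G) := fun a ha =>
    Subgroup.mem_centralizer_singleton_iff.2 (hcm a ha y hyD)
  have H : CfsgLib.Spor.SymEightLocal.Hyp X := by
    refine ⟨hC, hidx, hND, X.mixed_of_data hyD hyz hycard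
      ((Subgroup.normal_subgroupOf_iff_le_normalizer hle).1 hyn), ?_,
      CfsgLib.Spor.SymEightLocal.squares_of_data eN⟩
    intro _
    exact ⟨eNC⟩
  cases he : X.eps with
  | false => exact Or.inl (CfsgLib.Spor.SymEightLocal.nonempty_sym_eight H he)
  | true => exact Or.inr (CfsgLib.Spor.SymEightLocal.exceptional H he)

end Cfsg.Agent.S3330
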