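import Cfsg.Statements.S3332
import Cfsg.Agent.Lib.OddConseq.NormalAbelianCores
import Cfsg.Agent.Lib.ZNGroup.Reduction

set_option autoImplicit false
open Cfsg

namespace Cfsg.Agent.S3332

/-- Let G be a finite group of 2-rank at least 4 with O_{2'}(G) = 1 whose Sylow 2-subgroup S has a normal abelian subgroup of rank at least 3 that is its own centralizer in S. If the centralizer of every involution of G is solvable, then O_{2'}(C_G(t)) = 1 for every involution t of G. -/
theorem result {G : Type*} [Group G] [Finite G]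
    (hrank : ¬ Cfsg.PRankLE 2 3 G) (hO : Cfsg.oddCore G = ⊥) (S : Sylow 2 G)
    (A : Subgroup G) (hAS : A ≤ S) (hAn : (A.subgroupOf S).Normal) (hAc : IsMulCommutative A)
    (hAself : (S : Subgroup G) ⊓ Subgroup.centralizer (A : Set G) = A) (hA3 : ¬ Cfsg.PRankLE 2 2 A)
    (hsol : ∀ t : G, orderOf t = 2 → Group.IsSolvable (Subgroup.centralizer ({t} : Set G))) :
    ∀ t : G, orderOf t = 2 → Cfsg.oddCore (Subgroup.centralizer ({t} : Set G)) = ⊥ := by
  intro t ht
  have hab : IsMulCommutative ↥(A.subgroupOf (S : Subgroup G)) := ⟨⟨fun a b => Subtype.ext (Subtype.ext (by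
    show ((a : ↥(S : Subgroup G)) : G) * ((b : ↥(S : Subgroup G)) : G) = ((b : ↥(S : Subgroup G)) : G) * ((a : ↥(S : Subgroup G)) : G)
    exact congrArg (fun x : ↥A => (x : G)) (hAc.is_comm.comm ⟨((a : ↥(S : Subgroup G)) : G), a.2⟩ ⟨((b : ↥(S : Subgroup G)) : G), b.2⟩)))⟩⟩
  have h3 : ¬ Cfsg.PRankLE 2 2 ↥(A.subgroupOf (S : Subgroup G)) := by
    intro h
    refine hA3 fun B hB hB2 => ?_
    let e := (Subgroup.subgroupOfEquivOfLe hAS).symm
    have := h (B.map e.toMonoidHom) ⟨⟨?_⟩⟩ ?_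
    · rwa [Subgroup.card_map_of_injective (f := e.toMonoidHom) e.injective] at this
    · rintro ⟨_, a, ha, rfl⟩ ⟨_, b, hb, rfl⟩
      refine Subtype.ext ?_
      show e.toMonoidHom a * e.toMonoidHom b = e.toMonoidHom b * e.toMonoidHom a
      rw [← map_mul, ← map_mul, show a * b = b * a from congrArg Subtype.val (hB.is_comm.comm ⟨a, ha⟩ ⟨b, hb⟩)]
    · rintro _ ⟨a, ha, rfl⟩
      rw [← map_pow, hB2 a ha, map_one]
  exact (Subgroup.map_eq_bot_iff_of_injective _ (Subgroup.subtype_injective _)).1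
    (CfsgLib.TwoGenCore.NormalAbelian.cores_eq_bot hO (CfsgLib.ZNGroup.not_componentType hsol) S hAn hab h3 t ht)

end Cfsg.Agent.S3332
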