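import Cfsg.Statements.S3335
import Cfsg.Agent.Lib.Char.AlternatingPresentation

set_option autoImplicit false
open Cfsg

namespace Cfsg.Agent.S3335

/-- A presentation of the alternating group of degree n ≥ 3 on generators x_1, …, x_{n−2} (indexed here by 0, …, n−3): the first generator cubes to 1, every other generator squares to 1, the product of two consecutive generators has order dividing 3, and the product of two generators at distance at least 2 has order dividing 2. The group so presented is isomorphic to the alternating group of degree n. -/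
theorem result (n : ℕ) (hn : 3 ≤ n) :
    Nonempty (PresentedGroup
      ({g : FreeGroup (Fin (n - 2)) | ∃ i : Fin (n - 2), i.val = 0 ∧ g = FreeGroup.of i ^ 3} ∪
       {g | ∃ i : Fin (n - 2), 1 ≤ i.val ∧ g = FreeGroup.of i ^ 2} ∪
       {g | ∃ i j : Fin (n - 2), j.val = i.val + 1 ∧ g = (FreeGroup.of i * FreeGroup.of j) ^ 3} ∪
       {g | ∃ i j : Fin (n - 2), i.val + 1 < j.val ∧ g = (FreeGroup.of i * FreeGroup.of j) ^ 2})
      ≃* alternatingGroup (Fin n)) := by
  classical
  haveI : NeZero n := ⟨by omega⟩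
  let R : Set (FreeGroup (Fin (n - 2))) :=
    ({g : FreeGroup (Fin (n - 2)) | ∃ i : Fin (n - 2), i.val = 0 ∧ g = FreeGroup.of i ^ 3} ∪
    {g | ∃ i : Fin (n - 2), 1 ≤ i.val ∧ g = FreeGroup.of i ^ 2} ∪
    {g | ∃ i j : Fin (n - 2), j.val = i.val + 1 ∧ g = (FreeGroup.of i * FreeGroup.of j) ^ 3} ∪
    {g | ∃ i j : Fin (n - 2), i.val + 1 < j.val ∧ g = (FreeGroup.of i * FreeGroup.of j) ^ 2})
  have hR := CfsgLib.Char.AltPres.gen_rel (n := n) (m := n - 2) (by omega)
  let G : Fin (n - 2) → alternatingGroup (Fin n) := fun i =>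
    ⟨CfsgLib.Char.AltPres.gen n i, CfsgLib.Char.AltPres.gen_mem_alt (by omega)⟩
  have hrel : ∀ r ∈ R, FreeGroup.lift G r = 1 := by
    rintro r (((⟨i, hi, rfl⟩ | ⟨i, hi, rfl⟩) | ⟨i, j, hij, rfl⟩) | ⟨i, j, hij, rfl⟩) <;>
      refine Subtype.ext ?_ <;> simp only [map_pow, map_mul, FreeGroup.lift_apply_of, SubmonoidClass.coe_pow, Subgroup.coe_mul, G, OneMemClass.coe_one]
    · rw [hi]; exact hR.cube (by have := i.2; omega)
    · exact hR.sq i hi i.2
    · rw [hij]; exact hR.braid i (by have := j.2; omega)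
    · exact hR.far i j hij j.2
  let φ : PresentedGroup R →* alternatingGroup (Fin n) := PresentedGroup.toGroup hrel
  let x : ℕ → PresentedGroup R := fun i => if h : i < n - 2 then PresentedGroup.of ⟨i, h⟩ else 1
  have hmk : ∀ r ∈ R, PresentedGroup.mk R r = 1 := fun r hr => PresentedGroup.one_of_mem hr
  have hx : ∀ i : Fin (n - 2), x i = PresentedGroup.of i := fun i => by simp [x, i.2]
  have hrelx : CfsgLib.Char.AltPres.Rel x (n - 2) := by
    refine ⟨fun h0 => ?_, fun i h1 h2 => ?_, fun i hi => ?_, fun i j h1 h2 => ?_⟩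
    · have := hmk _ (Or.inl (Or.inl (Or.inl ⟨⟨0, h0⟩, rfl, rfl⟩)))
      rw [map_pow] at this
      rw [show x 0 = x ((⟨0, h0⟩ : Fin (n - 2)) : ℕ) from rfl, hx]
      exact this
    · have := hmk _ (Or.inl (Or.inl (Or.inr ⟨⟨i, h2⟩, h1, rfl⟩)))
      rw [map_pow] at this
      rw [show x i = x ((⟨i, h2⟩ : Fin (n - 2)) : ℕ) from rfl, hx]
      exact this
    · have := hmk _ (Or.inl (Or.inr ⟨⟨i, by omega⟩, ⟨i + 1, hi⟩, rfl, rfl⟩))
      rw [map_pow, map_mul] at this
      rw [show x i = x ((⟨i, by omega⟩ : Fin (n - 2)) : ℕ) from rfl, hx,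
        show x (i + 1) = x ((⟨i + 1, hi⟩ : Fin (n - 2)) : ℕ) from rfl, hx]
      exact this
    · have := hmk _ (Or.inr ⟨⟨i, by omega⟩, ⟨j, h2⟩, h1, rfl⟩)
      rw [map_pow, map_mul] at this
      rw [show x i = x ((⟨i, by omega⟩ : Fin (n - 2)) : ℕ) from rfl, hx,
        show x j = x ((⟨j, h2⟩ : Fin (n - 2)) : ℕ) from rfl, hx]
      exact this
  obtain ⟨hfin, hle⟩ := CfsgLib.Char.AltPres.card_closure_le (n - 2) hrelx
  have htop : Subgroup.closure (x '' Set.Iio (n - 2)) = ⊤ := by
    rw [eq_top_iff, ← PresentedGroup.closure_range_of R]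
    refine Subgroup.closure_mono ?_
    rintro _ ⟨i, rfl⟩
    exact ⟨i, i.2, hx i⟩
  rw [htop] at hfin hle
  haveI : Finite (PresentedGroup R) := Finite.of_equiv _ Subgroup.topEquiv.toEquiv
  rw [Nat.card_congr Subgroup.topEquiv.toEquiv, show n - 2 + 2 = n by omega] at hle
  have hsurj : Function.Surjective φ := by
    intro g
    have hmem : (g : Equiv.Perm (Fin n)) ∈ (φ.range).map (alternatingGroup (Fin n)).subtype := by
      refine (Subgroup.closure_le _).2 ?_ (CfsgLib.Char.AltPres.mem_closure_gen (n := n) (n - 2) (by omega) (by omega) g g.2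
        fun k hk => absurd k.2 (by omega))
      rintro _ ⟨i, hi, rfl⟩
      exact ⟨G ⟨i, hi⟩, ⟨PresentedGroup.of ⟨i, hi⟩, PresentedGroup.toGroup.of hrel⟩, rfl⟩
    obtain ⟨g', ⟨w, hw⟩, hg'⟩ := hmem
    exact ⟨w, hw.trans (Subtype.ext hg')⟩
  haveI : Nontrivial (Fin n) := Fin.nontrivial_iff_two_le.2 (by omega)
  have hA : 2 * Nat.card (alternatingGroup (Fin n)) = n.factorial := by
    rw [two_mul_nat_card_alternatingGroup, Nat.card_perm, Nat.card_fin]
  have hle' : Nat.card (PresentedGroup R) ≤ Nat.card (alternatingGroup (Fin n)) := by omega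
  exact ⟨MulEquiv.ofBijective φ (Function.Surjective.bijective_of_nat_card_le hsurj hle')⟩

end Cfsg.Agent.S3335
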