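import Cfsg.Statements.S3346
import Cfsg.Agent.Lib.Spor.HSType.Final

set_option autoImplicit false
open Cfsg

namespace Cfsg.Agent.S3346

/-- A characterization of the Higman–Sims group. Let G be a finite group with an involution t, H = C_G(t) and R = O₂(H). Suppose R is the central product of a cyclic group of order 4 with an extraspecial group of order 32 (R = CE with C cyclic of order 4 central in R, E extraspecial of order 32, and C ∩ E = Z(E)), and H/R is isomorphic to Sym(5). Suppose further that V ≤ R is elementary abelian of order 8 with M = N_G(V) satisfying O₂(M) ≅ C₄ × C₄ × C₄ and M/O₂(M) ≅ GL(3,2). Then G is isomorphic to the Higman–Sims group. -/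
theorem result {G : Type*} [Group G] [Finite G]
    (t : G) (ht : orderOf t = 2) (H : Subgroup G) (hH : H = Subgroup.centralizer ({t} : Set G))
    (R : Subgroup G) (hR : R = (Cfsg.pCore 2 H).map H.subtype)
    (Cy E : Subgroup G) (hCy : IsCyclic Cy) (hCycard : Nat.card Cy = 4)
    (hCyle : Cy ≤ R ⊓ Subgroup.centralizer (R : Set G))
    (hEle : E ≤ R) (hEex : Cfsg.IsExtraspecial 2 E) (hEcard : Nat.card E = 32)
    (hprod : Cy ⊔ E = R) (hmeet : Cy ⊓ E = E ⊓ Subgroup.centralizer (E : Set G))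
    (eH : H ⧸ Cfsg.pCore 2 H ≃* Equiv.Perm (Fin 5))
    (V : Subgroup G) (hVcomm : IsMulCommutative V) (hVexp : ∀ v ∈ V, v ^ 2 = 1) (hVcard : Nat.card V = 8)
    (hVR : V ≤ R) (M : Subgroup G) (hM : M = Subgroup.normalizer (V : Set G))
    (eOM : Cfsg.pCore 2 M ≃* Multiplicative (ZMod 4 × ZMod 4 × ZMod 4))
    (eM : M ⧸ Cfsg.pCore 2 M ≃* GL (Fin 3) (ZMod 2)) :
    Cfsg.Spor.IsoHS G := by
  let K : CfsgLib.Spor.HSType.Ctx G t :=
    { ht := ht, H := H, hH := hH, R := R, hR := hR, Cy := Cy, E := E, hCy := hCy, hCycard := hCycard,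
      hCyle := hCyle, hEle := hEle, hEex := hEex, hEcard := hEcard, hprod := hprod, hmeet := hmeet, eH := eH,
      V := V, hVcomm := hVcomm, hVexp := hVexp, hVcard := hVcard, hVR := hVR, M := M, hM := hM, eOM := eOM,
      eM := eM }
  obtain ⟨D, hDM, hDA, hDV⟩ := K.exists_mdata
  obtain ⟨F, hc, hac⟩ := D.exists_mgens
  let W : CfsgLib.Spor.HSType.Frame K := { D := D, hM := hDM, hA := hDA, hV := hDV, F := F, hc := hc }
  obtain ⟨Q⟩ := CfsgLib.Spor.HSType.exists_pres (W := W) (W.split hac)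
  have hcard : Nat.card ↥(Subgroup.centralizer ({t} : Set G)) = 7680 := by
    have h := K.card_H
    rw [K.hH] at h
    exact h
  obtain ⟨e⟩ := Q.equiv_P hcard
  obtain ⟨e'⟩ := CfsgLib.Spor.HSPerm.nonempty_equiv_HS
  exact ⟨e.trans e'.symm⟩

end Cfsg.Agent.S3346
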