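import Cfsg.Statements.S3358
import Cfsg.Agent.Lib.Char.Zassenhaus.SixTypes
import Cfsg.Agent.Lib.Char.ZGroupPresentation

set_option autoImplicit false
open Cfsg

namespace Cfsg.Agent.S3358

open Subgroup CfsgLib.Char.Zassenhaus Matrix

variable {G : Type*} [Group G] [Finite G] (ψ : ZRep G)

include ψ in
/-- The matrices of the powers of a nontrivial element sum to zero. -/
theorem sum_pow_eq_zero {a : G} {p : ℕ} (ha : orderOf a = p) (ha1 : a ≠ 1) :
    ∑ j ∈ Finset.range p, ψ.rho (a ^ j) = 0 := by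
  refine eq_zero_of_rho_mul ψ ha1 ?_
  rw [Finset.mul_sum]
  have h := Finset.sum_range_succ' (fun j => ψ.rho (a ^ j)) p
  rw [Finset.sum_range_succ] at h
  have e : a ^ p = 1 := ha ▸ pow_orderOf_eq_one a
  rw [e, pow_zero, add_left_inj] at h
  rw [h]
  exact Finset.sum_congr rfl fun j _ => by rw [← map_mul, ← pow_succ']

include ψ in
/-- A subgroup of order `pq` is cyclic. -/
theorem commute_of_prime_orders {a w : G} {p q : ℕ} (hp : p.Prime) (hq : q.Prime) (ha : orderOf a = p)
    (hw : orderOf w = q) (hn : a * w * a⁻¹ ∈ zpowers w) : Commute a w := by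
  classical
  by_contra hc
  have ha1 : a ≠ 1 := fun e => hp.ne_one (ha.symm.trans (by rw [e, orderOf_one]))
  have hw1 : w ≠ 1 := fun e => hq.ne_one (hw.symm.trans (by rw [e, orderOf_one]))
  have hnj : ∀ (j : ℕ) (v : G), v ∈ zpowers w → a ^ j * v * (a ^ j)⁻¹ ∈ zpowers w := by
    intro j
    induction j with
    | zero => intro v hv; simpa using hv
    | succ j ih =>
      intro v hv
      obtain ⟨i, rfl⟩ := mem_zpowers_iff.1 hv
      rw [show a ^ (j + 1) * w ^ i * (a ^ (j + 1))⁻¹ = a ^ j * (a * w ^ i * a⁻¹) * (a ^ j)⁻¹ by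
        rw [pow_succ]; group]
      exact ih _ (by rw [← conj_zpow]; exact zpow_mem hn i)
  set g : ℕ → ℕ → G := fun j i => w ^ i * a ^ j * (w ^ i)⁻¹ with hg
  have hinj : ∀ j, 0 < j → j < p → Set.InjOn (fun i => g j i * (a ^ j)⁻¹) (Finset.range q) := by
    intro j hj0 hjp i hi i' hi' e
    have hcop : Nat.Coprime j (orderOf a) :=
      ha ▸ ((Nat.Prime.coprime_iff_not_dvd hp).2 (fun h => by have := Nat.le_of_dvd hj0 h; omega)).symm
    have hjc : ¬ Commute (a ^ j) w := fun h => hc (by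
      obtain ⟨m, hm⟩ := exists_pow_eq_self_of_coprime hcop
      rw [← hm]; exact h.pow_left m)
    have e' : w ^ i * a ^ j * (w ^ i)⁻¹ = w ^ i' * a ^ j * (w ^ i')⁻¹ := mul_right_cancel e
    have hcomm : Commute (a ^ j) (w ^ ((i : ℤ) - i')) := by
      show a ^ j * w ^ ((i : ℤ) - i') = w ^ ((i : ℤ) - i') * a ^ j
      rw [_root_.zpow_sub, zpow_natCast, zpow_natCast]
      calc a ^ j * (w ^ i * (w ^ i')⁻¹) = (w ^ i')⁻¹ * (w ^ i' * a ^ j * (w ^ i')⁻¹) * w ^ i' * (w ^ i * (w ^ i')⁻¹) := by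
            group
        _ = (w ^ i')⁻¹ * (w ^ i * a ^ j * (w ^ i)⁻¹) * w ^ i' * (w ^ i * (w ^ i')⁻¹) := by rw [e']
        _ = _ := by group
    by_contra hne
    have hd : Int.gcd ((i : ℤ) - i') q = 1 := by
      rw [Int.gcd_comm, Int.gcd_def, Int.natAbs_natCast]
      refine (Nat.Prime.coprime_iff_not_dvd hq).2 fun h => hne ?_
      have h1 := Finset.mem_range.1 (Finset.mem_coe.1 hi)
      have h2 := Finset.mem_range.1 (Finset.mem_coe.1 hi')
      have h3 : ((i : ℤ) - i').natAbs < q := by omega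
      have := Nat.eq_zero_of_dvd_of_lt h h3
      omega
    refine hjc ?_
    have hb := Int.gcd_eq_gcd_ab ((i : ℤ) - i') q
    rw [hd] at hb
    have : w = (w ^ ((i : ℤ) - i')) ^ Int.gcdA ((i : ℤ) - i') q := by
      rw [← _root_.zpow_mul]
      conv_lhs => rw [← zpow_one w, show (1 : ℤ) = ((1 : ℕ) : ℤ) from rfl, hb, _root_.zpow_add, _root_.zpow_mul w (q : ℤ),
        zpow_natCast, show w ^ q = 1 from hw ▸ pow_orderOf_eq_one w, _root_.one_zpow, mul_one]
    rw [this]
    exact hcomm.zpow_right _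
  have hzero : ∀ j, 0 < j → j < p → ∑ i ∈ Finset.range q, ψ.rho (g j i) = 0 := by
    intro j hj0 hjp
    have himg : (Finset.range q).image (fun i => g j i * (a ^ j)⁻¹) = (Finset.range q).image (w ^ ·) := by
      refine Finset.eq_of_subset_of_card_le (fun v hv => ?_) ?_
      · obtain ⟨i, -, rfl⟩ := Finset.mem_image.1 hv
        rw [← hw]
        refine (mem_zpowers_iff_mem_range_orderOf).1 ?_
        rw [hg]
        simp only
        rw [show w ^ i * a ^ j * (w ^ i)⁻¹ * (a ^ j)⁻¹ = w ^ i * (a ^ j * (w ^ i)⁻¹ * (a ^ j)⁻¹) by group]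
        exact mul_mem (pow_mem (mem_zpowers w) i) (hnj j _ (inv_mem (pow_mem (mem_zpowers w) i)))
      · rw [Finset.card_image_of_injOn (hinj j hj0 hjp)]
        exact Finset.card_image_le
    have h1 : ∑ i ∈ Finset.range q, ψ.rho (g j i * (a ^ j)⁻¹) = 0 := by
      rw [← Finset.sum_image (f := fun v => ψ.rho v) (hinj j hj0 hjp), himg, Finset.sum_image]
      · exact sum_pow_eq_zero ψ hw hw1
      · intro i hi i' hi' e
        exact pow_injOn_Iio_orderOf (by rw [Set.mem_Iio, hw]; exact Finset.mem_range.1 (Finset.mem_coe.1 hi))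
          (by rw [Set.mem_Iio, hw]; exact Finset.mem_range.1 (Finset.mem_coe.1 hi')) e
    calc ∑ i ∈ Finset.range q, ψ.rho (g j i)
        = (∑ i ∈ Finset.range q, ψ.rho (g j i * (a ^ j)⁻¹)) * ψ.rho (a ^ j) := by
          rw [Finset.sum_mul]
          exact Finset.sum_congr rfl fun i _ => by rw [← map_mul, inv_mul_cancel_right]
      _ = 0 := by rw [h1, zero_mul]
  have hrow : ∀ i, ∑ j ∈ Finset.range p, ψ.rho (g j i) = 0 := fun i => by
    rw [show (∑ j ∈ Finset.range p, ψ.rho (g j i)) =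
      ψ.rho (w ^ i) * (∑ j ∈ Finset.range p, ψ.rho (a ^ j)) * ψ.rho ((w ^ i)⁻¹) by
        rw [Finset.mul_sum, Finset.sum_mul]
        exact Finset.sum_congr rfl fun j _ => by rw [← map_mul, ← map_mul],
      sum_pow_eq_zero ψ ha ha1, mul_zero, zero_mul]
  have htot : ∑ j ∈ Finset.range p, ∑ i ∈ Finset.range q, ψ.rho (g j i) = 0 := by
    rw [Finset.sum_comm]; exact Finset.sum_eq_zero fun i _ => hrow i
  obtain ⟨p', rfl⟩ : ∃ p', p = p' + 1 := ⟨p - 1, by have := hp.pos; omega⟩
  rw [Finset.sum_range_succ', Finset.sum_eq_zero fun j hj => hzero (j + 1) (Nat.succ_pos _)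
    (by have := Finset.mem_range.1 hj; omega), zero_add] at htot
  have h0 : ∀ i ∈ Finset.range q, ψ.rho (g 0 i) = 1 := fun i _ => by
    rw [hg]; simp only; rw [pow_zero, mul_one, mul_inv_cancel, map_one]
  rw [Finset.sum_congr rfl h0, Finset.sum_const, Finset.card_range] at htot
  have := congrFun (congrFun htot ⟨0, n_pos ψ⟩) ⟨0, n_pos ψ⟩
  rw [Matrix.smul_apply, Matrix.one_apply_eq, Matrix.zero_apply, nsmul_one] at this
  exact hq.ne_zero (by exact_mod_cast this)

include ψ in
/-- The strengthened congruence in the presentation. -/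
theorem congruence {x y : G} {n m r : ℕ} (hx : orderOf x = n) (hy : orderOf y = m)
    (hxy : x⁻¹ * y * x = y ^ r) (hnm : Nat.Coprime n m) :
    r ^ (n / ∏ p ∈ n.primeFactors, p) % m = 1 % m := by
  have hnpos : 0 < n := hx ▸ orderOf_pos x
  have hmpos : 0 < m := hy ▸ orderOf_pos y
  haveI : NeZero m := ⟨hmpos.ne'⟩
  have hit : ∀ k : ℕ, (x ^ k)⁻¹ * y * x ^ k = y ^ (r ^ k) := fun k => by
    induction k with
    | zero => simp
    | succ k ih =>
      have h := conj_pow (i := r ^ k) (a := x⁻¹) (b := y)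
      rw [inv_inv, hxy, ← pow_mul] at h
      calc (x ^ (k + 1))⁻¹ * y * x ^ (k + 1) = x⁻¹ * ((x ^ k)⁻¹ * y * x ^ k) * x := by rw [pow_succ]; group
        _ = y ^ (r ^ (k + 1)) := by rw [ih, ← h, pow_succ, mul_comm]
  have hrn : (r : ZMod m) ^ n = 1 := by
    have h := hit n
    rw [← hx, pow_orderOf_eq_one, inv_one, one_mul, mul_one, hx] at h
    nth_rewrite 1 [← pow_one y] at h
    rw [← Nat.cast_pow, ← Nat.cast_one, ZMod.natCast_eq_natCast_iff, ← hy]
    exact (pow_eq_pow_iff_modEq.1 h).symm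
  have hprime : ∀ p ∈ n.primeFactors, (r : ZMod m) ^ (n / p) = 1 := by
    intro p hpn
    obtain ⟨hp, hpd, -⟩ := Nat.mem_primeFactors.1 hpn
    set a := x ^ (n / p) with ha
    have hao : orderOf a = p := by
      rw [ha, orderOf_pow_of_dvd (Nat.div_pos (Nat.le_of_dvd hnpos hpd) hp.pos).ne'
        (hx.symm ▸ Nat.div_dvd_of_dvd hpd), hx, Nat.div_div_self hpd hnpos.ne']
    set R := r ^ (n / p) with hR
    have hay : a⁻¹ * y * a = y ^ R := hit (n / p)
    have hRp : (R : ZMod m) ^ p = 1 := by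
      rw [hR, Nat.cast_pow, ← pow_mul, Nat.div_mul_cancel hpd, hrn]
    -- the geometric sum is a unit
    have hmod : ∀ q : ℕ, q.Prime → q ∣ m → (R : ZMod q) = 1 := by
      intro q hq hqm
      set w := y ^ (m / q) with hw
      have hwo : orderOf w = q := by
        rw [hw, orderOf_pow_of_dvd (Nat.div_pos (Nat.le_of_dvd hmpos hqm) hq.pos).ne'
          (hy.symm ▸ Nat.div_dvd_of_dvd hqm), hy, Nat.div_div_self hqm hmpos.ne']
      have haw : a⁻¹ * w * a = w ^ R := by
        rw [hw]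
        have h := conj_pow (i := m / q) (a := a⁻¹) (b := y)
        rw [inv_inv, hay] at h
        rw [← h, ← pow_mul, ← pow_mul, mul_comm]
      have hc := commute_of_prime_orders ψ (a := a⁻¹) hp hq (by rw [orderOf_inv, hao]) hwo
        (by rw [inv_inv, haw]; exact pow_mem (mem_zpowers w) R)
      rw [hc.eq, inv_mul_cancel_right] at haw
      nth_rewrite 1 [← pow_one w] at haw
      rw [← Nat.cast_one, ZMod.natCast_eq_natCast_iff, ← hwo]
      exact (pow_eq_pow_iff_modEq.1 haw).symm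
    set Sg := ∑ i ∈ Finset.range p, R ^ i with hSg
    have hu : IsUnit (Sg : ZMod m) := by
      rw [ZMod.isUnit_iff_coprime]
      refine Nat.coprime_of_dvd fun q hq hqS hqm => ?_
      have h1 : (Sg : ZMod q) = p := by
        rw [hSg, Nat.cast_sum]
        simp [hmod q hq hqm]
      rw [(ZMod.natCast_eq_zero_iff Sg q).2 hqS, eq_comm, ZMod.natCast_eq_zero_iff] at h1
      have hqp : q = p := (Nat.prime_dvd_prime_iff_eq hq hp).1 h1
      exact hq.ne_one (Nat.eq_one_of_dvd_coprimes hnm (hqp ▸ hpd) hqm)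
    have h2 : (Sg : ZMod m) * ((R : ZMod m) - 1) = 0 := by
      rw [hSg, Nat.cast_sum]
      simp only [Nat.cast_pow]
      rw [geom_sum_mul, hRp, sub_self]
    have h3 := sub_eq_zero.1 (hu.mul_right_eq_zero.1 h2)
    rwa [hR, Nat.cast_pow] at h3
  set o := orderOf (r : ZMod m) with ho
  have hod : o ∣ n / ∏ p ∈ n.primeFactors, p := by
    have hon : o ∣ n := orderOf_dvd_of_pow_eq_one hrn
    have ho0 : o ≠ 0 := fun e => hnpos.ne' (Nat.eq_zero_of_zero_dvd (e ▸ hon))
    have hrad : (∏ p ∈ n.primeFactors, p) ∣ n := Nat.prod_primeFactors_dvd n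
    rw [← Nat.factorization_le_iff_dvd ho0 (Nat.div_pos (Nat.le_of_dvd hnpos hrad) (Nat.pos_of_ne_zero fun e =>
      hnpos.ne' (Nat.eq_zero_of_zero_dvd (e ▸ hrad)))).ne']
    intro q
    rw [Nat.factorization_div hrad, Finsupp.tsub_apply]
    by_cases hq : q ∈ n.primeFactors
    · obtain ⟨hqp, hqd, -⟩ := Nat.mem_primeFactors.1 hq
      have h1 : o ∣ n / q := orderOf_dvd_of_pow_eq_one (hprime q hq)
      have h2 := (Nat.factorization_le_iff_dvd ho0
        (Nat.div_pos (Nat.le_of_dvd hnpos hqd) hqp.pos).ne').2 h1 q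
      rw [Nat.factorization_div hqd, Finsupp.tsub_apply, hqp.factorization_self] at h2
      have h3 : (∏ p ∈ n.primeFactors, p).factorization q = 1 := by
        rw [Nat.factorization_prod_apply fun p hp => (Nat.prime_of_mem_primeFactors hp).ne_zero,
          Finset.sum_eq_single q]
        · exact hqp.factorization_self
        · intro p hp hne
          rw [(Nat.prime_of_mem_primeFactors hp).factorization, Finsupp.single_eq_of_ne hne.symm]
        · exact fun h => absurd hq h
      rw [h3]; exact h2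
    · have h2 := (Nat.factorization_le_iff_dvd ho0 hnpos.ne').2 hon q
      have hz : n.factorization q = 0 := Finsupp.notMem_support_iff.1 (by rwa [Nat.support_factorization])
      rw [hz] at h2
      omega
  obtain ⟨c, hc⟩ := hod
  have h1 : (r : ZMod m) ^ (n / ∏ p ∈ n.primeFactors, p) = 1 := by
    rw [hc, pow_mul, pow_orderOf_eq_one, one_pow]
  rw [← Nat.cast_pow, ← Nat.cast_one, ZMod.natCast_eq_natCast_iff] at h1
  exact h1

/-- The relators. -/
abbrev rels (n m r : ℕ) : Set (FreeGroup (Fin 2)) :=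
  {FreeGroup.of (0 : Fin 2) ^ n, FreeGroup.of (1 : Fin 2) ^ m,
    (FreeGroup.of (0 : Fin 2))⁻¹ * FreeGroup.of 1 * FreeGroup.of 0 * (FreeGroup.of (1 : Fin 2) ^ r)⁻¹}

/-- The presentation of a metacyclic group. -/
theorem presented {H : Type*} [Group H] [Finite H] {x y : H} {n m r : ℕ} (hcl : closure {x, y} = ⊤)
    (hx : orderOf x = n) (hy : orderOf y = m) (hxy : x⁻¹ * y * x = y ^ r) (hnm : Nat.Coprime n m) :
    Nonempty (H ≃* PresentedGroup (rels n m r)) := by
  have hrels : ∀ w ∈ rels n m r, FreeGroup.lift ![x, y] w = 1 := by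
    rintro w (rfl | rfl | rfl) <;>
      simp only [map_mul, map_inv, map_pow, FreeGroup.lift_apply_of, Matrix.cons_val_zero, Matrix.cons_val_one]
    · rw [← hx, pow_orderOf_eq_one]
    · rw [← hy, pow_orderOf_eq_one]
    · rw [hxy, mul_inv_cancel]
  set π := PresentedGroup.toGroup hrels with hπ
  set X : PresentedGroup (rels n m r) := PresentedGroup.of 0 with hX
  set Y : PresentedGroup (rels n m r) := PresentedGroup.of 1 with hY
  have hXn : X ^ n = 1 := by
    have := PresentedGroup.one_of_mem (rels := rels n m r) (Set.mem_insert (FreeGroup.of (0 : Fin 2) ^ n) _)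
    rwa [map_pow] at this
  have hYm : Y ^ m = 1 := by
    have := PresentedGroup.one_of_mem (rels := rels n m r)
      (Set.mem_insert_of_mem _ (Set.mem_insert (FreeGroup.of (1 : Fin 2) ^ m) _))
    rwa [map_pow] at this
  have hXY : X⁻¹ * Y * X = Y ^ r := by
    have := PresentedGroup.one_of_mem (rels := rels n m r)
      (Set.mem_insert_of_mem _ (Set.mem_insert_of_mem _ (Set.mem_singleton
        ((FreeGroup.of (0 : Fin 2))⁻¹ * FreeGroup.of 1 * FreeGroup.of 0 * (FreeGroup.of (1 : Fin 2) ^ r)⁻¹))))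
    simp only [map_mul, map_inv, map_pow] at this
    exact eq_of_mul_inv_eq_one this
  have hYX : ∀ j : ℕ, Y ^ j * X = X * Y ^ (r * j) := fun j => by
    rw [pow_mul, ← hXY, ← inv_inv X, ← inv_inv X, inv_inv, inv_inv]
    have h := conj_pow (i := j) (a := X⁻¹) (b := Y)
    rw [inv_inv] at h
    rw [h]
    group
  have hnpos : 0 < n := hx ▸ orderOf_pos x
  have hmpos : 0 < m := hy ▸ orderOf_pos y
  have hrX : ∀ u : PresentedGroup (rels n m r), (∃ i j : ℕ, u = X ^ i * Y ^ j) → ∃ i j : ℕ, u * X = X ^ i * Y ^ j := by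
    rintro _ ⟨i, j, rfl⟩
    exact ⟨i + 1, r * j, by rw [mul_assoc, hYX, ← mul_assoc, ← pow_succ]⟩
  have hform : ∀ u : PresentedGroup (rels n m r), ∃ i j : ℕ, u = X ^ i * Y ^ j := by
    have hXk : ∀ (k : ℕ) (u : PresentedGroup (rels n m r)), (∃ i j : ℕ, u = X ^ i * Y ^ j) →
        ∃ i j : ℕ, u * X ^ k = X ^ i * Y ^ j := by
      intro k
      induction k with
      | zero => intro u hu; simpa using hu
      | succ k ih => intro u hu; rw [pow_succ, ← mul_assoc]; exact hrX _ (ih u hu)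
    intro u
    refine Subgroup.closure_induction_right (p := fun v _ => ∃ i j : ℕ, v = X ^ i * Y ^ j) ⟨0, 0, by simp⟩
      ?_ ?_ (show u ∈ closure (Set.range (PresentedGroup.of (rels := rels n m r))) by
        rw [PresentedGroup.closure_range_of]; exact mem_top u)
    · rintro v hv _ ⟨k, rfl⟩ hv'
      fin_cases k
      · exact hrX v hv'
      · obtain ⟨i, j, rfl⟩ := hv'
        exact ⟨i, j + 1, by rw [mul_assoc, pow_succ]; rfl⟩
    · rintro v hv _ ⟨k, rfl⟩ hv'
      fin_cases k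
      · show ∃ i j : ℕ, v * X⁻¹ = _
        rw [show X⁻¹ = X ^ (n - 1) from inv_eq_of_mul_eq_one_right (by
          rw [← pow_succ', Nat.sub_add_cancel hnpos, hXn])]
        exact hXk _ v hv'
      · obtain ⟨i, j, rfl⟩ := hv'
        refine ⟨i, j + (m - 1), ?_⟩
        show X ^ i * Y ^ j * Y⁻¹ = _
        rw [show Y⁻¹ = Y ^ (m - 1) from inv_eq_of_mul_eq_one_right (by
          rw [← pow_succ', Nat.sub_add_cancel hmpos, hYm]), mul_assoc, ← pow_add]
  have hπX : π X = x := PresentedGroup.toGroup.of hrels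
  have hπY : π Y = y := PresentedGroup.toGroup.of hrels
  refine ⟨(MulEquiv.ofBijective π ⟨(injective_iff_map_eq_one _).2 fun u hu => ?_, ?_⟩).symm⟩
  · obtain ⟨i, j, rfl⟩ := hform u
    rw [map_mul, map_pow, map_pow, hπX, hπY] at hu
    have h1 : orderOf (x ^ i) = 1 := Nat.eq_one_of_dvd_coprimes hnm (hx ▸ orderOf_pow_dvd i)
      (by rw [eq_inv_of_mul_eq_one_left hu, orderOf_inv, ← hy]; exact orderOf_pow_dvd j)
    have h2 : x ^ i = 1 := orderOf_eq_one_iff.1 h1
    rw [h2, one_mul] at hu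
    obtain ⟨c, hc⟩ := hx ▸ orderOf_dvd_of_pow_eq_one h2
    obtain ⟨d, hd⟩ := hy ▸ orderOf_dvd_of_pow_eq_one hu
    rw [hc, hd, pow_mul, pow_mul, hXn, hYm, one_pow, one_pow, one_mul]
  · rw [← MonoidHom.range_eq_top, eq_top_iff, ← hcl, closure_le]
    rintro _ (rfl | rfl)
    · exact ⟨X, hπX⟩
    · exact ⟨Y, hπY⟩

/-- The group of order four acting regularly on four points. -/
theorem exists_four_embedding : ∃ f : DihedralGroup 2 →* Equiv.Perm (Fin 4), Function.Injective f := by
  have e : DihedralGroup 2 ≃ Fin 4 := Fintype.equivFinOfCardEq (by rw [DihedralGroup.card])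
  exact ⟨(e.permCongrHom.toMonoidHom).comp (MulAction.toPermHom (DihedralGroup 2) (DihedralGroup 2)),
    e.permCongrHom.injective.comp MulAction.toPerm_injective⟩

theorem alt_five_not_solvable : ¬ Group.IsSolvable (alternatingGroup (Fin 5)) := fun h => by
  haveI := h
  refine Equiv.Perm.fin_5_not_solvable ?_
  refine (Group.isSolvable_iff_subgroup_quotient (alternatingGroup (Fin 5))).2 ⟨h, ?_⟩
  exact CfsgLib.Char.Zassenhaus.isSolvable_of_dvd_sixty
    (by rw [← Subgroup.index_eq_card, alternatingGroup.index_eq_two]; norm_num)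
    (by rw [← Subgroup.index_eq_card, alternatingGroup.index_eq_two]; norm_num)

/-- Structure of solvable Frobenius complements. Let G be a finite solvable group that occurs as a Frobenius complement. Then G has a normal subgroup G₀ such that G/G₀ is isomorphic to a subgroup of Sym(4) (G₀ is the kernel of a homomorphism to Sym(4)), all Sylow subgroups of G₀ are cyclic, and G₀ has a presentation ⟨x, y | x^n = 1, y^m = 1, x⁻¹ y x = y^r⟩ with n, m ≥ 1, gcd(r − 1, m) = gcd(n, m) = 1 and r^(n/n′) ≡ 1 (mod m), where n′ is the product of the distinct primes dividing n. -/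
theorem result {G : Type*} [Group G] [Finite G] (hsol : Group.IsSolvable G)
    (hFC : ∃ (L : Type) (_ : Group L) (_ : Finite L) (H : Subgroup L), Cfsg.IsFrobeniusComplement H ∧ Nonempty (G ≃* H)) :
    ∃ G₀ : Subgroup G, G₀.Normal ∧
      (∃ f : G →* Equiv.Perm (Fin 4), f.ker = G₀) ∧
      (∀ (p : ℕ) [Fact p.Prime] (P : Sylow p G₀), IsCyclic P) ∧
      ∃ n m r : ℕ, 0 < n ∧ 0 < m ∧ Nat.Coprime (r - 1) m ∧ Nat.Coprime n m ∧ 1 ≤ r ∧
        r ^ (n / ∏ p ∈ n.primeFactors, p) % m = 1 % m ∧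
        Nonempty (G₀ ≃* PresentedGroup
          ({FreeGroup.of (0 : Fin 2) ^ n, FreeGroup.of (1 : Fin 2) ^ m,
            (FreeGroup.of (0 : Fin 2))⁻¹ * FreeGroup.of 1 * FreeGroup.of 0 * (FreeGroup.of (1 : Fin 2) ^ r)⁻¹} :
            Set (FreeGroup (Fin 2)))) := by
  classical
  obtain ⟨L, _, _, H, hH, ⟨e⟩⟩ := hFC
  obtain ⟨ψ₀⟩ := exists_zrep_of_complement hH
  let ψ := ψ₀.comap e.toMonoidHom e.injective
  obtain ⟨N, hN, hNz, hNt⟩ := exists_six ψ
  haveI := hNz
  haveI := hsol
  have hf : ∃ f : G →* Equiv.Perm (Fin 4), f.ker = N := by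
    rcases hNt with h | ⟨f, -, h⟩ | ⟨f, -, h⟩ | ⟨f, -, h⟩ | ⟨f, hf, -⟩ | ⟨f, hf, -⟩
    · exact ⟨1, by rw [MonoidHom.ker_one, h]⟩
    · obtain ⟨ι, hι⟩ := exists_four_embedding
      exact ⟨ι.comp f, by rw [MonoidHom.ker_comp_of_injective f ι hι, h]⟩
    · exact ⟨(alternatingGroup (Fin 4)).subtype.comp f,
        by rw [MonoidHom.ker_comp_of_injective f _ (Subgroup.subtype_injective _), h]⟩
    · exact ⟨f, h⟩
    · exact absurd (Group.isSolvable_of_surjective hf) alt_five_not_solvable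
    · exact absurd (Group.isSolvable_of_surjective hf) Equiv.Perm.fin_5_not_solvable
  obtain ⟨x, y, n, m, r, hcl, hx, hy, hxy, hrm, hnm, hr, -⟩ := CfsgLib.Char.zgroup_presentation (G := N)
  refine ⟨N, hN, hf, fun p hp P => IsZGroup.isZGroup p hp.out P, n, m, r, hx ▸ orderOf_pos x,
    hy ▸ orderOf_pos y, hrm, hnm, hr, congruence (ψ.comap N.subtype N.subtype_injective) hx hy hxy hnm,
    presented hcl hx hy hxy hnm⟩

end Cfsg.Agent.S3358
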