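import Cfsg.Statements.S3362
import Cfsg.Agent.Lib.Char.MTwelve

set_option autoImplicit false
open Cfsg

namespace Cfsg.Agent.S3362

/-- An explicit construction of the Mathieu groups of degrees 11 and 12. On the points 0, …, 11 let s = (3 4 5)(6 7 8)(9 10 11), t = (3 6 9)(4 7 10)(5 8 11), u = (4 6 5 9)(7 8 11 10), v = (4 7 5 11)(6 10 9 8), w = (4 10 5 8)(6 11 9 7), x₁ = (0 3)(6 7)(8 10)(9 11), x₂ = (0 1)(6 9)(7 10)(8 11), x₃ = (1 2)(6 11)(7 9)(8 10) (each written as a product of transpositions). Then the group M₁₂ generated by all eight permutations is sharply 5-transitive on the 12 points and has order 95040, and the group M₁₁ generated by the first seven has order 7920 and is the stabilizer of the point 2 in M₁₂. -/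
theorem result
    (s t u v w x₁ x₂ x₃ : Equiv.Perm (Fin 12))
    (hs : s = Equiv.swap (3 : Fin 12) 5 * Equiv.swap (3 : Fin 12) 4 * Equiv.swap (6 : Fin 12) 8 * Equiv.swap (6 : Fin 12) 7 * Equiv.swap (9 : Fin 12) 11 * Equiv.swap (9 : Fin 12) 10) (ht : t = Equiv.swap (3 : Fin 12) 9 * Equiv.swap (3 : Fin 12) 6 * Equiv.swap (4 : Fin 12) 10 * Equiv.swap (4 : Fin 12) 7 * Equiv.swap (5 : Fin 12) 11 * Equiv.swap (5 : Fin 12) 8)
    (hu : u = Equiv.swap (4 : Fin 12) 9 * Equiv.swap (4 : Fin 12) 5 * Equiv.swap (4 : Fin 12) 6 * Equiv.swap (7 : Fin 12) 10 * Equiv.swap (7 : Fin 12) 11 * Equiv.swap (7 : Fin 12) 8) (hv : v = Equiv.swap (4 : Fin 12) 11 * Equiv.swap (4 : Fin 12) 5 * Equiv.swap (4 : Fin 12) 7 * Equiv.swap (6 : Fin 12) 8 * Equiv.swap (6 : Fin 12) 9 * Equiv.swap (6 : Fin 12) 10) (hw : w = Equiv.swap (4 : Fin 12) 8 * Equiv.swap (4 : Fin 12) 5 * Equiv.swap (4 : Fin 12) 10 *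 Equiv.swap (6 : Fin 12) 7 * Equiv.swap (6 : Fin 12) 9 * Equiv.swap (6 : Fin 12) 11)
    (hx₁ : x₁ = Equiv.swap (0 : Fin 12) 3 * Equiv.swap (6 : Fin 12) 7 * Equiv.swap (8 : Fin 12) 10 * Equiv.swap (9 : Fin 12) 11) (hx₂ : x₂ = Equiv.swap (0 : Fin 12) 1 * Equiv.swap (6 : Fin 12) 9 * Equiv.swap (7 : Fin 12) 10 * Equiv.swap (8 : Fin 12) 11)
    (hx₃ : x₃ = Equiv.swap (1 : Fin 12) 2 * Equiv.swap (6 : Fin 12) 11 * Equiv.swap (7 : Fin 12) 9 * Equiv.swap (8 : Fin 12) 10)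
    (M₁₂ M₁₁ : Subgroup (Equiv.Perm (Fin 12))) (hM₁₂ : M₁₂ = Subgroup.closure {s, t, u, v, w, x₁, x₂, x₃})
    (hM₁₁ : M₁₁ = Subgroup.closure {s, t, u, v, w, x₁, x₂}) :
    MulAction.IsMultiplyPretransitive M₁₂ (Fin 12) 5 ∧ (∀ y : Fin 5 ↪ Fin 12, MulAction.stabilizer M₁₂ y = ⊥) ∧
    Nat.card M₁₂ = 95040 ∧ Nat.card M₁₁ = 7920 ∧
    M₁₁ = M₁₂ ⊓ MulAction.stabilizer (Equiv.Perm (Fin 12)) (2 : Fin 12) := by
  classical
  let π : Fin 8 → Equiv.Perm (Fin 12) := ![s, t, u, v, w, x₁, x₂, x₃]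
  have hπ : ∀ i x, π i x = CfsgLib.Char.MTwelve.tab i x := by
    simp only [π, hs, ht, hu, hv, hw, hx₁, hx₂, hx₃]
    decide +kernel
  obtain ⟨hc5, hc4, hstab, htr, hfix⟩ := CfsgLib.Char.MTwelve.chain π hπ
  have h12 : M₁₂ = CfsgLib.Char.MTwelve.grp π [0, 1, 2, 3, 4, 5, 6, 7] := by
    rw [hM₁₂, CfsgLib.Char.MTwelve.grp]
    congr 1
    ext g
    simp only [Set.mem_insert_iff, Set.mem_singleton_iff, Set.mem_image, Set.mem_setOf_eq, List.mem_cons,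
      List.not_mem_nil, or_false]
    constructor
    · rintro (h | h | h | h | h | h | h | h) <;> subst h
      exacts [⟨0, by simp, rfl⟩, ⟨1, by simp, rfl⟩, ⟨2, by simp, rfl⟩, ⟨3, by simp, rfl⟩,
        ⟨4, by simp, rfl⟩, ⟨5, by simp, rfl⟩, ⟨6, by simp, rfl⟩, ⟨7, by simp, rfl⟩]
    · rintro ⟨i, -, rfl⟩
      fin_cases i <;> simp [π]
  have h11 : M₁₁ = CfsgLib.Char.MTwelve.grp π [0, 1, 2, 3, 4, 5, 6] := by
    rw [hM₁₁, CfsgLib.Char.MTwelve.grp]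
    congr 1
    ext g
    simp only [Set.mem_insert_iff, Set.mem_singleton_iff, Set.mem_image, Set.mem_setOf_eq, List.mem_cons,
      List.not_mem_nil, or_false]
    constructor
    · rintro (h | h | h | h | h | h | h) <;> subst h
      exacts [⟨0, by simp, rfl⟩, ⟨1, by simp, rfl⟩, ⟨2, by simp, rfl⟩, ⟨3, by simp, rfl⟩,
        ⟨4, by simp, rfl⟩, ⟨5, by simp, rfl⟩, ⟨6, by simp, rfl⟩]
    · rintro ⟨i, hi, rfl⟩
      rcases hi with rfl | rfl | rfl | rfl | rfl | rfl | rfl <;> simp [π]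
  have hto : ∀ y : Fin 5 ↪ Fin 12, ∃ g ∈ M₁₂, ∀ i, g (y i) = ![2, 1, 0, 3, 4] i := by
    intro y
    obtain ⟨g, hg, h0, h1, h2, h3, h4⟩ := htr y y.injective
    refine ⟨g, h12 ▸ hg, fun i => ?_⟩
    fin_cases i
    exacts [h0, h1, h2, h3, h4]
  refine ⟨⟨fun x y => ?_⟩, fun y => ?_, by rw [h12]; exact hc5, by rw [h11]; exact hc4,
    by rw [h11, h12]; exact hstab⟩
  · obtain ⟨g, hg, hgx⟩ := hto x
    obtain ⟨g', hg', hgy⟩ := hto y
    refine ⟨⟨g'⁻¹ * g, M₁₂.mul_mem (M₁₂.inv_mem hg') hg⟩, Function.Embedding.ext fun i => ?_⟩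
    show g'⁻¹ (g (x i)) = y i
    rw [hgx, ← hgy, Equiv.Perm.inv_def, Equiv.symm_apply_apply]
  · obtain ⟨g, hg, hgy⟩ := hto y
    refine (Subgroup.eq_bot_iff_forall _).2 fun z hz => ?_
    have hz' : ∀ i, (z : Equiv.Perm (Fin 12)) (y i) = y i := fun i =>
      congrArg (fun e : Fin 5 ↪ Fin 12 => e i) (MulAction.mem_stabilizer_iff.1 hz)
    have key : ∀ i, (g * z * g⁻¹) (![2, 1, 0, 3, 4] i) = ![2, 1, 0, 3, 4] i := fun i => by
      rw [← hgy, Equiv.Perm.mul_apply, Equiv.Perm.mul_apply, Equiv.Perm.inv_def, Equiv.symm_apply_apply, hz']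
    have h1 := hfix (g * z * g⁻¹) (h12 ▸ M₁₂.mul_mem (M₁₂.mul_mem hg z.2) (M₁₂.inv_mem hg))
      (key 0) (key 1) (key 2) (key 3) (key 4)
    have h2 : (z : Equiv.Perm (Fin 12)) = g⁻¹ * (g * z * g⁻¹) * g := by group
    rw [h1, mul_one, inv_mul_cancel] at h2
    exact Subtype.ext h2

end Cfsg.Agent.S3362
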