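import Cfsg.Statements.S3365
import Cfsg.Agent.Lib.Perm.FixityFour.TwoMain
import Cfsg.Agent.Lib.Perm.FixityFour.ThreeMain

set_option autoImplicit false
open Cfsg

namespace Cfsg.Agent.S3365

/-- Finite simple groups acting with fixity 4. Let G be a finite non-abelian simple group acting faithfully and transitively on a finite set so that every non-identity element fixes at most 4 points and some non-identity element fixes exactly 4 (fixity 4). Let P be a Sylow 3-subgroup, S a Sylow 2-subgroup, f the largest number of fixed points of an involution of G, and a a point. Then one of the following holds: (1) f ≥ 1 and G has a strongly embedded subgroup; (2) 1 ≤ f ≤ 3 and S is dihedral or semidihedral; (3) f = 4 and G has sectional 2-rank at most 4; (4) the point stabilizer G_a has odd order divisible by 3 and either G has a strongly 3-embedded subgroup (a proper subgroup H of order divisible by 3 such that H ∩ gHg⁻¹ has order prime to 3 for every element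 g outside H), or |P| = 3 and a Sylow 2-subgroup of N_G(P) has order at most 4, or P is elementary abelian of order 9, or P is extraspecial of order 27 and exponent 3, or P is isomorphic to a Sylow 3-subgroup of Sym(9) (the wreath product C₃ ≀ C₃); (5) G_a has order prime to 6. -/
theorem result {G Ω : Type*} [Group G] [Finite G] [IsSimpleGroup G] (hna : ¬ IsMulCommutative G)
    [MulAction G Ω] [FaithfulSMul G Ω] [Finite Ω] (htrans : MulAction.IsPretransitive G Ω)
    (hfix : ∀ g : G, g ≠ 1 → Nat.card (MulAction.fixedBy Ω g) ≤ 4)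
    (hfix4 : ∃ g : G, g ≠ 1 ∧ Nat.card (MulAction.fixedBy Ω g) = 4)
    (P : Sylow 3 G) (S : Sylow 2 G) (f : ℕ)
    (hf : ∀ g : G, orderOf g = 2 → Nat.card (MulAction.fixedBy Ω g) ≤ f)
    (hf' : ∃ g : G, orderOf g = 2 ∧ Nat.card (MulAction.fixedBy Ω g) = f) (a : Ω) :
    (1 ≤ f ∧ ∃ H : Subgroup G, Cfsg.IsStronglyEmbedded H) ∨
    (1 ≤ f ∧ f ≤ 3 ∧ ((∃ n : ℕ, Nonempty ((S : Subgroup G) ≃* DihedralGroup n)) ∨ Cfsg.IsQuasiDihedral (S : Subgroup G))) ∨
    (f = 4 ∧ Cfsg.SectionalPRankLE 2 4 G) ∨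
    (Odd (Nat.card (MulAction.stabilizer G a)) ∧ 3 ∣ Nat.card (MulAction.stabilizer G a) ∧
      ((∃ H : Subgroup G, H ≠ ⊤ ∧ 3 ∣ Nat.card H ∧ ∀ g : G, g ∉ H → ¬ 3 ∣ Nat.card ↥(H ⊓ H.map (MulAut.conj g).toMonoidHom)) ∨
       (Nat.card P = 3 ∧ ∀ T : Sylow 2 (Subgroup.normalizer ((P : Subgroup G) : Set G)), Nat.card T ≤ 4) ∨
       (Nat.card P = 9 ∧ ∀ x ∈ (P : Subgroup G), x ^ 3 = 1) ∨
       (Nat.card P = 27 ∧ Cfsg.IsExtraspecial 3 (P : Subgroup G) ∧ ∀ x ∈ (P : Subgroup G), x ^ 3 = 1) ∨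
       (∃ T : Sylow 3 (Equiv.Perm (Fin 9)), Nonempty ((P : Subgroup G) ≃* (T : Subgroup (Equiv.Perm (Fin 9))))))) ∨
    (Nat.card (MulAction.stabilizer G a)).Coprime 6 := by
  classical
  haveI := htrans
  have hbd : CfsgLib.Perm.FixityFour.AtMostFour G Ω := fun g hg => by
    rw [← Nat.card_coe_set_eq]
    exact hfix g hg
  have hfaith : ∀ g : G, (∀ ω : Ω, g • ω = ω) → g = 1 := fun g hg =>
    FaithfulSMul.eq_of_smul_eq_smul (α := Ω) fun ω => by rw [hg, one_smul]
  have hfN : ∀ g : G, orderOf g = 2 → (MulAction.fixedBy Ω g).ncard ≤ f := fun g hg => by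
    rw [← Nat.card_coe_set_eq]
    exact hf g hg
  rcases Nat.eq_zero_or_pos f with hf0 | hf1
  swap
  · rcases CfsgLib.Perm.FixityFour.cases_of_invol_fix hna hbd hfaith S hf1 hfN
      (hf'.imp fun g hg => ⟨hg.1, (Nat.card_coe_set_eq _).symm.trans hg.2⟩) with h | ⟨h3, h⟩ | h
    · exact Or.inl ⟨hf1, h⟩
    · exact Or.inr (Or.inl ⟨hf1, h3, h⟩)
    · exact Or.inr (Or.inr (Or.inl h))
  have hempty : ∀ v : G, orderOf v = 2 → MulAction.fixedBy Ω v = ∅ := fun v hv =>
    (Set.ncard_eq_zero).1 (Nat.eq_zero_of_le_zero (hf0 ▸ hfN v hv))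
  have hodd : Odd (Nat.card (MulAction.stabilizer G a)) := by
    rw [← Nat.not_even_iff_odd, even_iff_two_dvd]
    intro h2
    haveI : Fact (Nat.Prime 2) := ⟨Nat.prime_two⟩
    obtain ⟨⟨v, hva⟩, hv⟩ := exists_prime_orderOf_dvd_card' 2 h2
    have hmem : a ∈ MulAction.fixedBy Ω v := hva
    rw [hempty v ((Subgroup.orderOf_coe _).trans hv)] at hmem
    exact hmem
  by_cases h3 : 3 ∣ Nat.card (MulAction.stabilizer G a)
  · haveI : Fact (Nat.Prime 3) := ⟨Nat.prime_three⟩
    obtain ⟨⟨u, hua⟩, hu⟩ := exists_prime_orderOf_dvd_card' 3 h3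
    refine Or.inr (Or.inr (Or.inr (Or.inl ⟨hodd, h3, ?_⟩)))
    rcases CfsgLib.Perm.FixityFour.cases_of_three hna hbd hfaith hempty P
      ⟨u, (Subgroup.orderOf_coe _).trans hu, a, hua⟩ with h | h | h
    · exact Or.inl h
    · exact Or.inr (Or.inr (Or.inl h))
    · exact Or.inr (Or.inr (Or.inr (Or.inl h)))
  · refine Or.inr (Or.inr (Or.inr (Or.inr ?_)))
    rw [show (6 : ℕ) = 2 * 3 by norm_num, Nat.coprime_mul_iff_right]
    exact ⟨(Nat.coprime_two_right).2 hodd,
      ((Nat.prime_three.coprime_iff_not_dvd).2 h3).symm⟩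

end Cfsg.Agent.S3365
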