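import Cfsg.Statements.S3366
import Cfsg.Agent.Lib.Char.ShapePSpFourThree.Main

set_option autoImplicit false
open Cfsg

namespace Cfsg.Agent.S3366

/-- Let X be a finite group with O₃(X) extraspecial of order 27 and exponent 3, X/O₃(X) isomorphic to SL(2,3), O₂(X) = 1, and a Sylow 3-subgroup of X containing an elementary abelian subgroup of order 27. Then X is isomorphic to the centralizer in PSp(4,3) of a 3-central element of order 3 (an element of order 3 in the centre of a Sylow 3-subgroup). -/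
theorem result {X : Type*} [Group X] [Finite X]
    (hR : Cfsg.IsExtraspecial 3 (Cfsg.pCore 3 X)) (hRcard : Nat.card (Cfsg.pCore 3 X) = 27)
    (hRexp : ∀ r ∈ Cfsg.pCore 3 X, r ^ 3 = 1)
    (e : X ⧸ Cfsg.pCore 3 X ≃* Matrix.SpecialLinearGroup (Fin 2) (ZMod 3))
    (hO2 : Cfsg.pCore 2 X = ⊥)
    (hE : ∃ E : Subgroup X, IsMulCommutative E ∧ (∀ a ∈ E, a ^ 3 = 1) ∧ Nat.card E = 27)
    (F : Type*) [Field F] [Fintype F] (hF : Fintype.card F = 3) :
    ∃ (c : Cfsg.PSp 2 F) (S : Sylow 3 (Cfsg.PSp 2 F)), orderOf c = 3 ∧ c ∈ (S : Subgroup (Cfsg.PSp 2 F)) ∧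
      c ∈ Subgroup.centralizer ((S : Subgroup (Cfsg.PSp 2 F)) : Set (Cfsg.PSp 2 F)) ∧
      Nonempty (X ≃* Subgroup.centralizer ({c} : Set (Cfsg.PSp 2 F))) := by
  haveI hn : (Cfsg.pCore 3 X).Normal := CfsgLib.Coprime.pCore_normal' 3
  haveI : Fact (Nat.Prime 3) := ⟨Nat.prime_three⟩
  have hcomm : ∀ a b : Cfsg.pCore 3 X, (open scoped commutatorElement in ⁅a, b⁆) ∈ Subgroup.center (Cfsg.pCore 3 X) := by
    intro a b
    rw [← hR.1.2.2]
    exact Subgroup.commutator_mem_commutator (Subgroup.mem_top a) (Subgroup.mem_top b)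
  let S : CfsgLib.Char.ShapePSpFourThree.Setting X :=
    { R := Cfsg.pCore 3 X
      π := e.toMonoidHom.comp (QuotientGroup.mk' _)
      surj := e.surjective.comp (QuotientGroup.mk'_surjective _)
      ker := by
        ext x
        show e _ = 1 ↔ _
        rw [MulEquiv.map_eq_one_iff]
        exact QuotientGroup.eq_one_iff x
      card_R := hRcard
      exp_R := hRexp
      card_Z := hR.2
      comm_Z := hcomm
      no_two := fun N hN hp => le_bot_iff.1 (hO2 ▸ CfsgLib.Coprime.le_pCore (hN := hN) hp)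
      exists_elem := hE }
  let eF : F ≃+* ZMod 3 := (ZMod.ringEquivOfPrime F Nat.prime_three hF).symm
  obtain ⟨φ⟩ := S.iso_model eF hF
  obtain ⟨χ⟩ := CfsgLib.Char.ShapePSpFourThree.centralizer_iso hF
  obtain ⟨T, hT1, hT2⟩ := CfsgLib.Char.ShapePSpFourThree.exists_sylow hF
  exact ⟨_, T, CfsgLib.Char.ShapePSpFourThree.cElem_order hF, hT1, hT2, ⟨φ.trans χ⟩⟩

end Cfsg.Agent.S3366
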