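import Cfsg.Statements.S3370
import Mathlib
import Cfsg.Agent.Lib.Coprime.UniqueOrderP

set_option autoImplicit false
open Cfsg

namespace Cfsg.Agent.S3370

theorem geom_odd {q : ℕ} (hq : Odd q) (n : ℕ) : Odd (∑ i ∈ Finset.range n, q ^ i) ↔ Odd n := by
  rw [Finset.odd_sum_iff_odd_card_odd, Finset.filter_true_of_mem fun i _ => hq.pow, Finset.card_range]

theorem geom_odd_int {x : ℤ} (hx : Odd x) (a : ℕ) : Odd (∑ i ∈ Finset.range a, x ^ i) ↔ Odd a := by
  induction a with
  | zero => simp
  | succ a ih =>
    rw [Finset.sum_range_succ, Int.odd_add, iff_false_right (Int.not_even_iff_odd.2 hx.pow), ih]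
    exact Nat.odd_add_one.symm

theorem two_pow_sub_one_eq {p a n : ℕ} (hp : p.Prime) (ha : 1 ≤ a) (h : 2 ^ n = p ^ a + 1) : a = 1 := by
  have hn : 2 ≤ n := by
    have : 2 ≤ p ^ a := hp.two_le.trans (Nat.le_self_pow (by omega) p)
    by_contra hn
    interval_cases n <;> omega
  have h4 : (p ^ a + 1) % 4 = 0 := by
    rw [← h, show n = n - 2 + 2 by omega, pow_add]
    omega
  have hpo : Odd p := (Nat.Prime.eq_two_or_odd' hp).resolve_left fun e => by
    subst e
    have : 2 ∣ 2 ^ a := dvd_pow_self 2 (by omega)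
    omega
  rcases Nat.even_or_odd a with ⟨c, rfl⟩ | hao
  · obtain ⟨t, ht⟩ := hpo.pow (n := c)
    rw [pow_add, ht] at h4
    ring_nf at h4
    omega
  · have hsum : ((p : ℤ) + 1) * (∑ i ∈ Finset.range a, (-(p : ℤ)) ^ i) = 2 ^ n := by
      have hg := mul_neg_geom_sum (-(p : ℤ)) a
      rw [hao.neg_pow, sub_neg_eq_add, sub_neg_eq_add] at hg
      rw [show (1 : ℤ) + p = p + 1 by ring] at hg
      rw [hg, show (2 : ℤ) ^ n = ((2 ^ n : ℕ) : ℤ) by push_cast; rfl, h]
      push_cast
      ring
    have hodd : Odd (∑ i ∈ Finset.range a, (-(p : ℤ)) ^ i) := (geom_odd_int (((Int.odd_coe_nat p).2 hpo).neg) a).2 hao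
    have hdvd : (∑ i ∈ Finset.range a, (-(p : ℤ)) ^ i).natAbs ∣ 2 ^ n := by
      refine ⟨p + 1, ?_⟩
      have := congrArg Int.natAbs hsum
      rw [Int.natAbs_mul, show ((p : ℤ) + 1).natAbs = p + 1 by omega, Int.natAbs_pow] at this
      rw [mul_comm]
      exact this.symm
    obtain ⟨k, -, hk⟩ := (Nat.dvd_prime_pow Nat.prime_two).1 hdvd
    have h1 : (∑ i ∈ Finset.range a, (-(p : ℤ)) ^ i).natAbs = 1 := by
      have := hodd.natAbs
      rw [hk] at this ⊢
      rcases Nat.eq_zero_or_pos k with rfl | hk0
      · rfl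
      · exact absurd this (Nat.not_odd_iff_even.2 (Nat.even_pow.2 ⟨even_two, hk0.ne'⟩))
    have := congrArg Int.natAbs hsum
    rw [Int.natAbs_mul, h1, mul_one, Int.natAbs_pow, show ((p : ℤ) + 1).natAbs = p + 1 by omega,
      show ((2 : ℤ)).natAbs = 2 from rfl, h, Nat.add_right_cancel_iff] at this
    by_contra ha1
    exact absurd this (Nat.ne_of_lt (by
      calc p = p ^ 1 := (pow_one p).symm
        _ < p ^ a := Nat.pow_lt_pow_right hp.one_lt (by omega)))

theorem odd_pow_sub_one_eq {q n m : ℕ} (hq : Odd q) (hq1 : 1 < q) (hn : 1 ≤ n)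
    (h : q ^ n = 2 ^ m + 1) : n = 1 ∨ (q = 3 ∧ n = 2) := by
  have key : ∀ k : ℕ, (∑ i ∈ Finset.range k, q ^ i) * (q - 1) = q ^ k - 1 :=
    fun k => geom_sum_mul_of_one_le hq1.le k
  rcases Nat.even_or_odd n with ⟨k, rfl⟩ | hodd
  · right
    have h2 : (q ^ k - 1) * (q ^ k + 1) = 2 ^ m := by
      rw [mul_comm, ← Nat.sq_sub_sq, one_pow, ← pow_mul]
      rw [show k * 2 = k + k by ring, h, Nat.add_sub_cancel]
    obtain ⟨t, ht⟩ := hq.pow (n := k)
    have hk : 1 ≤ k := by omega
    have hqk : q ≤ q ^ k := Nat.le_self_pow (by omega) q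
    obtain ⟨a, -, ha⟩ := (Nat.dvd_prime_pow Nat.prime_two).1 (Dvd.intro _ h2)
    obtain ⟨b, -, hb⟩ := (Nat.dvd_prime_pow Nat.prime_two).1 (Dvd.intro_left _ h2)
    have h3 : q ^ k = 3 := by
      rcases Nat.lt_or_ge a 2 with ha2 | ha2
      · interval_cases a <;> omega
      · have : 4 ∣ 2 ^ a := dvd_trans (by norm_num) (pow_dvd_pow 2 ha2)
        rcases Nat.lt_or_ge b 2 with hb2 | hb2
        · interval_cases b <;> omega
        · have : 4 ∣ 2 ^ b := dvd_trans (by norm_num) (pow_dvd_pow 2 hb2)
          omega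
    have hq3 : q = 3 := by obtain ⟨t, ht⟩ := hq; omega
    subst hq3
    have : k = 1 := Nat.pow_right_injective (le_refl 2 |>.trans (by norm_num : 2 ≤ 3))
      (show 3 ^ k = 3 ^ 1 by rw [h3, pow_one])
    exact ⟨rfl, by omega⟩
  · left
    have hk := key n
    rw [h, Nat.add_sub_cancel] at hk
    obtain ⟨a, -, ha⟩ := (Nat.dvd_prime_pow Nat.prime_two).1 (Dvd.intro _ hk)
    have ho := (geom_odd hq n).2 hodd
    rw [ha] at ho
    have ha0 : a = 0 := by
      by_contra ha0
      exact absurd ho (Nat.not_odd_iff_even.2 (Nat.even_pow.2 ⟨even_two, ha0⟩))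
    rw [ha0, pow_zero] at ha
    rw [ha, one_mul] at hk
    have h' : q ^ n = q ^ 1 := by rw [pow_one]; omega
    exact Nat.pow_right_injective hq1 h'

/-- a semidihedral Sylow 2-subgroup of `GL(2,3)` -/
def xMat : GL (Fin 2) (ZMod 3) :=
  ⟨!![1, 1; 1, 0], !![0, 1; 1, 2], by decide, by decide⟩

/-- the involution -/
def yMat : GL (Fin 2) (ZMod 3) :=
  ⟨!![1, 0; 2, 2], !![1, 0; 2, 2], by decide, by decide⟩

theorem mat_facts : ∃ x y : GL (Fin 2) (ZMod 3), x ^ 8 = 1 ∧ x ^ 4 ≠ 1 ∧ y ^ 2 = 1 ∧ y ≠ 1 ∧
    y * x * y = x ^ 3 := by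
  refine ⟨xMat, yMat, ?_, ?_, ?_, ?_, ?_⟩ <;> decide

theorem card_gl : Nat.card (GL (Fin 2) (ZMod 3)) = 48 := by
  rw [Matrix.card_GL_field]
  simp [Fin.prod_univ_two, ZMod.card]

theorem quasiDihedral_of_card_sixteen {G : Type*} [Group G] [Finite G] (φ : G →* GL (Fin 2) (ZMod 3))
    (hφ : Function.Injective φ) (hG : IsPGroup 2 G) (h16 : Nat.card G = 16) :
    Cfsg.IsQuasiDihedral G := by
  haveI := Fact.mk Nat.prime_two
  obtain ⟨mX, mY, hx8, hx4, hy2, hy1, hconj⟩ := mat_facts
  have hox : orderOf mX = 8 := orderOf_eq_prime_pow (p := 2) (n := 2) hx4 hx8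
  have hyinv : mY⁻¹ = mY := inv_eq_of_mul_eq_one_right (by rw [← pow_two]; exact hy2)
  have hnorm : mY ∈ Subgroup.normalizer ((Subgroup.zpowers mX) : Set (GL (Fin 2) (ZMod 3))) := by
    have hz : ∀ z ∈ Subgroup.zpowers mX, mY * z * mY ∈ Subgroup.zpowers mX := by
      rintro z ⟨i, rfl⟩
      refine ⟨3 * i, ?_⟩
      have e : MulAut.conj mY (mX ^ i) = (MulAut.conj mY mX) ^ i := map_zpow _ _ i
      simp only [MulAut.conj_apply, hyinv, hconj] at e
      show mX ^ (3 * i) = mY * mX ^ i * mY
      rw [e, zpow_mul]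
      norm_cast
    rw [Subgroup.mem_normalizer_iff]
    intro z
    rw [hyinv]
    refine ⟨hz z, fun h => ?_⟩
    have := hz _ h
    rw [show mY * (mY * z * mY) * mY = mY ^ 2 * z * mY ^ 2 by simp only [pow_two, mul_assoc], hy2, one_mul,
      mul_one] at this
    exact this
  let P : Subgroup (GL (Fin 2) (ZMod 3)) := Subgroup.zpowers mX ⊔ Subgroup.zpowers mY
  have hoy : orderOf mY = 2 := orderOf_eq_prime hy2 hy1
  have hxyP : Subgroup.zpowers mX ≤ P ∧ Subgroup.zpowers mY ≤ P := ⟨le_sup_left, le_sup_right⟩
  have hPp : IsPGroup 2 P := IsPGroup.to_sup_of_normal_left'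
    (IsPGroup.of_card (n := 3) (by rw [Nat.card_zpowers, hox]; rfl))
    (IsPGroup.of_card (n := 1) (by rw [Nat.card_zpowers, hoy]; rfl))
    (Subgroup.zpowers_le.2 hnorm)
  obtain ⟨Q, hQ⟩ := hPp.exists_le_sylow
  have hQc : Nat.card (Q : Subgroup (GL (Fin 2) (ZMod 3))) = 16 := by
    rw [Sylow.card_eq_multiplicity, card_gl, show 48 = 2 ^ 4 * 3 by norm_num,
      Nat.factorization_mul (by norm_num) (by norm_num), Finsupp.add_apply,
      Nat.Prime.factorization_pow Nat.prime_two, Finsupp.single_eq_same,
      Nat.factorization_eq_zero_of_not_dvd (by norm_num : ¬ 2 ∣ 3)]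
    norm_num
  obtain ⟨R, hR⟩ := (hG.of_surjective φ.rangeRestrict φ.rangeRestrict_surjective).exists_le_sylow
  have hRc : Nat.card φ.range = 16 := by
    rw [← Nat.card_congr (MonoidHom.ofInjective hφ).toEquiv, h16]
  have hRe : φ.range = (R : Subgroup _) := Subgroup.eq_of_le_of_card_ge hR (by
    rw [hRc, Sylow.card_eq_multiplicity, ← Sylow.card_eq_multiplicity Q, hQc])
  obtain ⟨c, hc⟩ := MulAction.exists_smul_eq (GL (Fin 2) (ZMod 3)) Q R
  have key : ∀ z ∈ P, ∃ g : G, φ g = c * z * c⁻¹ := by
    intro z hz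
    show c * z * c⁻¹ ∈ φ.range
    rw [hRe, ← hc]
    exact ⟨z, hQ hz, rfl⟩
  obtain ⟨x, hx⟩ := key mX (hxyP.1 (Subgroup.mem_zpowers _))
  obtain ⟨y, hy⟩ := key mY (hxyP.2 (Subgroup.mem_zpowers _))
  refine ⟨3, le_rfl, h16, x, y, ?_, ?_, hφ ?_⟩
  · rw [← orderOf_injective φ hφ, hx, ← MulAut.conj_apply, MulEquiv.orderOf_eq, hox]
    rfl
  · rw [← orderOf_injective φ hφ, hy, ← MulAut.conj_apply, MulEquiv.orderOf_eq, hoy]
  · rw [map_mul, map_mul, map_inv, map_pow, hx, hy, conj_pow, show 2 ^ (3 - 1) - 1 = 3 from rfl, ← hconj]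
    simp only [mul_inv_rev, inv_inv, hyinv]
    group


/-- Let q be a prime, V a non-trivial finite vector space over the field with q elements, and G a non-trivial finite p-group (p prime) acting faithfully and linearly on V and transitively on the non-zero vectors. Then either q = 2 and G has prime order p = |V| − 1; or p = 2, V has q elements with q = 2^m + 1 and G is cyclic of order 2^m; or p = 2, q = 3, V has 9 elements and G is cyclic of order 8, quaternion of order 8, or semidihedral of order 16. -/
theorem result (q : ℕ) [Fact q.Prime] {V : Type*} [AddCommGroup V] [Module (ZMod q) V] [Finite V] [Nontrivial V]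
    {G : Type*} [Group G] [Finite G] [Nontrivial G] (p : ℕ) [Fact p.Prime] (hG : IsPGroup p G)
    (ρ : G →* (V ≃ₗ[ZMod q] V)) (hρ : Function.Injective ρ)
    (htrans : ∀ v w : V, v ≠ 0 → w ≠ 0 → ∃ g : G, ρ g v = w) :
    (q = 2 ∧ p = Nat.card V - 1 ∧ Nat.card G = p) ∨
    (p = 2 ∧ Nat.card V = q ∧ (∃ m : ℕ, q = 2 ^ m + 1 ∧ Nat.card G = 2 ^ m) ∧ IsCyclic G) ∨
    (p = 2 ∧ q = 3 ∧ Nat.card V = 9 ∧
      ((IsCyclic G ∧ Nat.card G = 8) ∨ Nonempty (G ≃* QuaternionGroup 2) ∨ (Cfsg.IsQuasiDihedral G ∧ Nat.card G = 16))) := by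
  classical
  have hq := (Fact.out : q.Prime)
  have hp := (Fact.out : p.Prime)
  letI act : MulAction G V :=
    { smul := fun g v => ρ g v
      one_smul := fun v => by show ρ 1 v = v; rw [map_one]; rfl
      mul_smul := fun g h v => by show ρ (g * h) v = ρ g (ρ h v); rw [map_mul]; rfl }
  obtain ⟨v, hv⟩ := exists_ne (0 : V)
  have horb : MulAction.orbit G v = {w : V | w ≠ 0} := by
    ext w
    refine ⟨?_, fun hw => MulAction.mem_orbit_iff.2 (htrans v w hv hw)⟩
    rintro ⟨g, rfl⟩ (h : ρ g v = 0)
    exact hv ((ρ g).injective (h.trans (map_zero _).symm))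
  obtain ⟨a, ha⟩ : ∃ a, Nat.card V = p ^ a + 1 := by
    obtain ⟨a, ha⟩ := hG.card_orbit v
    refine ⟨a, ?_⟩
    have h1 : Nat.card {w : V // w ≠ 0} = p ^ a := by
      rw [← ha]
      exact Nat.card_congr (Equiv.setCongr horb.symm)
    haveI := Fintype.ofFinite V
    rw [Nat.card_eq_fintype_card, Fintype.card_subtype_compl, Fintype.card_subtype_eq] at h1
    rw [Nat.card_eq_fintype_card]
    have : 0 < Fintype.card V := Fintype.card_pos
    omega
  have hfin : Module.Finite (ZMod q) V := Module.Finite.of_finite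
  obtain ⟨n, hn, hVn⟩ : ∃ n, Module.finrank (ZMod q) V = n ∧ Nat.card V = q ^ n :=
    ⟨_, rfl, by rw [@Module.natCard_eq_pow_finrank (ZMod q) V _ _ _ hfin, Nat.card_zmod]⟩
  have hn1 : 1 ≤ n := hn ▸ Module.finrank_pos
  -- stabilisers
  have hdvd : ∀ k, p ^ k = Nat.card G → a ≤ k := fun k hk => by
    have h1 := MulAction.index_stabilizer G v
    rw [horb] at h1
    have h2 : (MulAction.stabilizer G v).index ∣ p ^ k := hk ▸ Subgroup.index_dvd_card _
    rw [h1] at h2
    have h3 : ({w : V | w ≠ 0} : Set V).ncard = p ^ a := by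
      rw [← Nat.card_coe_set_eq]
      haveI := Fintype.ofFinite V
      have e : Nat.card {w : V // w ≠ 0} + 1 = p ^ a + 1 := by
        rw [← ha, Nat.card_eq_fintype_card, Fintype.card_subtype_compl, Fintype.card_subtype_eq,
          Nat.card_eq_fintype_card]
        have : 0 < Fintype.card V := Fintype.card_pos
        omega
      exact Nat.add_right_cancel e
    rw [h3] at h2
    exact (Nat.pow_dvd_pow_iff_le_right hp.one_lt).1 h2
  obtain ⟨k, hk⟩ := IsPGroup.iff_card.1 hG
  have hk1 : 1 ≤ k := Nat.pos_of_ne_zero fun e => by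
    subst e
    rw [pow_zero, Nat.card_eq_one_iff_unique] at hk
    haveI := hk.1
    exact false_of_nontrivial_of_subsingleton G
  rcases hq.eq_two_or_odd' with hq2 | hqo
  · -- characteristic two
    subst hq2
    have ha1 : 1 ≤ a := Nat.pos_of_ne_zero fun e => by
      subst e
      have hsub : ∀ g : G, g = 1 := fun g => hρ (LinearEquiv.ext fun w => by
        rw [map_one]
        show ρ g w = w
        rcases eq_or_ne w 0 with rfl | hw
        · exact map_zero _
        rw [pow_zero] at ha
        by_contra hne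
        have : Nat.card ({0, w, ρ g w} : Finset V) ≤ 2 :=
          (Nat.card_le_card_of_injective _ Subtype.val_injective).trans ha.le
        rw [Nat.card_eq_fintype_card, Fintype.card_coe, Finset.card_insert_of_notMem (by
          simp only [Finset.mem_insert, Finset.mem_singleton, not_or]
          exact ⟨hw.symm, fun h => hw ((ρ g).injective (h.symm.trans (map_zero _).symm))⟩),
          Finset.card_pair (Ne.symm hne)] at this
        omega)
      haveI : Subsingleton G := ⟨fun x y => (hsub x).trans (hsub y).symm⟩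
      exact false_of_nontrivial_of_subsingleton G
    have hpn : 2 ^ n = p ^ a + 1 := hVn.symm.trans ha
    obtain rfl := two_pow_sub_one_eq hp ha1 hpn
    rw [pow_one] at hpn ha
    refine Or.inl ⟨rfl, by omega, ?_⟩
    -- point stabilisers are trivial
    have hst : ∀ g : G, g • v = v → g = 1 := by
      intro g hg
      let H := Subgroup.zpowers g
      have hH : IsPGroup p H := hG.to_subgroup H
      have hmod := hH.card_modEq_card_fixedPoints V
      let F : Submodule (ZMod 2) V :=
        { carrier := MulAction.fixedPoints H V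
          zero_mem' := fun h => map_zero (ρ (h : G))
          add_mem' := fun {x y} hx hy h => by
            show ρ (h : G) (x + y) = x + y
            rw [map_add, show ρ (h : G) x = x from hx h, show ρ (h : G) y = y from hy h]
          smul_mem' := fun c x hx h => by
            show ρ (h : G) (c • x) = c • x
            rw [map_smul, show ρ (h : G) x = x from hx h] }
      have hFv : v ∈ F := by
        rintro ⟨h, i, rfl⟩
        have : g ∈ MulAction.stabilizer G v := hg
        exact (MulAction.stabilizer G v).zpow_mem this i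
      have hF : Nat.card (MulAction.fixedPoints H V) = 2 ^ Module.finrank (ZMod 2) F := by
        have := @Module.natCard_eq_pow_finrank (ZMod 2) F _ _ _ (Module.Finite.of_finite)
        rw [Nat.card_zmod] at this
        exact this
      have hle : Module.finrank (ZMod 2) F ≤ n := hn ▸ Submodule.finrank_le F
      have hpos : 1 ≤ Module.finrank (ZMod 2) F := by
        by_contra hc
        have : F = ⊥ := Submodule.finrank_eq_zero.1 (by omega)
        exact hv ((Submodule.mem_bot _).1 (this ▸ hFv))
      rw [hVn, hF] at hmod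
      have hmod : 2 ^ n % p = 2 ^ Module.finrank (ZMod 2) F % p := hmod
      have hfn : Module.finrank (ZMod 2) F = n := by
        by_contra hne
        have hlt : 2 ^ (Module.finrank (ZMod 2) F + 1) ≤ 2 ^ n :=
          Nat.pow_le_pow_right (by norm_num) (by omega)
        rw [pow_succ] at hlt
        have h2 : 2 ≤ 2 ^ Module.finrank (ZMod 2) F := Nat.le_self_pow (by omega) 2
        rw [hpn, Nat.add_mod_left, Nat.mod_eq_of_lt hp.one_lt, Nat.mod_eq_of_lt (by omega)] at hmod
        omega
      have hFtop : F = ⊤ := Submodule.eq_top_of_finrank_eq (hfn.trans hn.symm)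
      refine hρ (LinearEquiv.ext fun w => ?_)
      rw [map_one]
      exact (hFtop ▸ Submodule.mem_top : w ∈ F) ⟨g, Subgroup.mem_zpowers g⟩
    have : Nat.card G ≤ p := by
      have h1 := Nat.card_le_card_of_injective
        (fun g : G => (⟨g • v, (horb.subset ⟨g, rfl⟩)⟩ : {w : V // w ≠ 0})) fun g h e => by
          have e : g • v = h • v := congrArg Subtype.val e
          have := hst (h⁻¹ * g) (by rw [mul_smul, e, inv_smul_smul])
          exact (inv_mul_eq_one.1 this).symm
      haveI := Fintype.ofFinite V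
      rw [Nat.card_eq_fintype_card (α := {w : V // w ≠ 0}), Fintype.card_subtype_compl,
        Fintype.card_subtype_eq, ← Nat.card_eq_fintype_card, ha] at h1
      omega
    rw [hk] at this ⊢
    exact le_antisymm this (Nat.le_self_pow (by omega) p)
  · -- odd characteristic
    right
    have hpn : q ^ n = p ^ a + 1 := hVn.symm.trans ha
    have hp2 : p = 2 := by
      by_contra h
      obtain ⟨t, ht⟩ := (hp.eq_two_or_odd'.resolve_left h).pow (n := a)
      obtain ⟨u, hu⟩ := hqo.pow (n := n)
      omega
    subst hp2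
    rcases odd_pow_sub_one_eq hqo hq.one_lt hn1 hpn with rfl | ⟨rfl, rfl⟩
    · left
      rw [pow_one] at hVn hpn
      have h1 : Module.finrank (ZMod q) V = 1 := hn
      let e := LinearEquiv.ofFinrankEq (R := ZMod q) (M := V) (M' := ZMod q) (by rw [h1, Module.finrank_self])
      let χ : G →* ZMod q :=
        { toFun := fun g => e (ρ g (e.symm 1))
          map_one' := by rw [map_one]; exact e.apply_symm_apply 1
          map_mul' := fun g h => by
            rw [map_mul]
            show e (ρ g (ρ h (e.symm 1))) = _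
            have hh : ρ h (e.symm 1) = e (ρ h (e.symm 1)) • e.symm 1 := by
              rw [← map_smul, smul_eq_mul, mul_one, e.symm_apply_apply]
            conv_lhs => rw [hh, map_smul, map_smul, smul_eq_mul, mul_comm] }
      have hχ : Function.Injective χ := by
        intro g h e'
        refine hρ (LinearEquiv.ext fun w => ?_)
        have hw : w = e w • e.symm 1 := by rw [← map_smul, smul_eq_mul, mul_one, e.symm_apply_apply]
        rw [hw, map_smul, map_smul, show ρ g (e.symm 1) = ρ h (e.symm 1) from e.injective e']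
      haveI : IsCyclic G := isCyclic_of_subgroup_isDomain χ hχ
      refine ⟨rfl, hVn, ⟨k, ?_, hk⟩, inferInstance⟩
      have hle : Nat.card G ≤ 2 ^ a := by
        have h2 := Nat.card_le_card_of_injective (fun g : G => (⟨g • v, (horb.subset ⟨g, rfl⟩)⟩ : {w : V // w ≠ 0}))
          fun g h e' => by
            refine hχ ?_
            have e' : ρ g v = ρ h v := congrArg Subtype.val e'
            have hv' : v = e v • e.symm 1 := by rw [← map_smul, smul_eq_mul, mul_one, e.symm_apply_apply]
            rw [hv', map_smul, map_smul] at e'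
            exact congrArg e (smul_right_injective V (fun h0 : e v = 0 => hv (e.injective (h0.trans (map_zero e).symm))) e')
        haveI := Fintype.ofFinite V
        rw [Nat.card_eq_fintype_card (α := {w : V // w ≠ 0}), Fintype.card_subtype_compl,
          Fintype.card_subtype_eq, ← Nat.card_eq_fintype_card (α := V), ha] at h2
        rw [hk] at h2 ⊢
        exact h2.trans_eq (Nat.add_sub_cancel (2 ^ a) 1)
      rw [hk, Nat.pow_le_pow_iff_right (by norm_num)] at hle
      rw [hpn, le_antisymm hle (hdvd k hk.symm)]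
    · right
      have hV9 : Nat.card V = 9 := by rw [hVn]; norm_num
      refine ⟨rfl, rfl, hV9, ?_⟩
      let b := Module.finBasisOfFinrankEq (ZMod 3) V hn
      let M : G →* Matrix (Fin 2) (Fin 2) (ZMod 3) :=
        { toFun := fun g => LinearMap.toMatrix b b (ρ g).toLinearMap
          map_one' := by rw [map_one]; exact LinearMap.toMatrix_id b
          map_mul' := fun g h => by rw [map_mul, ← LinearMap.toMatrix_mul]; rfl }
      have hφ : Function.Injective M.toHomUnits := fun g h e' => hρ (LinearEquiv.toLinearMap_injective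
        ((LinearMap.toMatrix b b).injective (congrArg Units.val e')))
      have hk4 : k ≤ 4 := by
        have := (Nat.card_congr (MonoidHom.ofInjective hφ).toEquiv) ▸ Subgroup.card_subgroup_dvd_card M.toHomUnits.range
        rw [hk, card_gl] at this
        by_contra h
        have h2 : 2 ^ 5 ∣ 48 := dvd_trans (pow_dvd_pow 2 (by omega)) this
        norm_num at h2
      have ha3 : a = 3 := Nat.pow_right_injective (le_refl 2) (show 2 ^ a = 2 ^ 3 by norm_num at hpn ⊢; omega)
      have hak := hdvd k hk.symm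
      rcases Nat.lt_or_ge k 4 with hk3 | hk3
      · obtain rfl : k = 3 := by omega
        have hu : CfsgLib.Coprime.UniqueOrderP 2 G := by
          have hneg : ∀ x : G, x ^ 2 = 1 → x ≠ 1 → ∀ w : V, ρ x w = -w := by
            intro x hx hx1 w
            by_contra hne
            have hz : w + ρ x w ≠ 0 := fun h => hne (eq_neg_of_add_eq_zero_right h)
            have hfix : ρ x (w + ρ x w) = w + ρ x w := by
              have h2 : ρ x (ρ x w) = w := by
                show (ρ x * ρ x) w = w
                rw [← map_mul, ← pow_two, hx, map_one]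
                rfl
              rw [map_add, h2, add_comm]
            have h1 := MulAction.index_stabilizer G (w + ρ x w)
            have ho : MulAction.orbit G (w + ρ x w) = {u : V | u ≠ 0} := by
              ext u
              refine ⟨?_, fun hu => MulAction.mem_orbit_iff.2 (htrans _ u hz hu)⟩
              rintro ⟨g, rfl⟩ (h : ρ g _ = 0)
              exact hz ((ρ g).injective (h.trans (map_zero _).symm))
            rw [ho, ← horb, ← MulAction.index_stabilizer] at h1
            have h3 : (MulAction.stabilizer G v).index = 8 := by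
              rw [MulAction.index_stabilizer, horb, ← Nat.card_coe_set_eq]
              haveI := Fintype.ofFinite V
              show Nat.card {w : V // w ≠ 0} = 8
              rw [Nat.card_eq_fintype_card]
              have : Fintype.card {w : V // w ≠ 0} = 8 := by
                rw [Fintype.card_subtype_compl, Fintype.card_subtype_eq, ← Nat.card_eq_fintype_card, hV9]
              exact this
            have h4 := Subgroup.card_mul_index (MulAction.stabilizer G (w + ρ x w))
            rw [h1, h3, hk] at h4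
            have h5 : MulAction.stabilizer G (w + ρ x w) = ⊥ := Subgroup.card_eq_one.1 (by omega)
            exact hx1 (Subgroup.mem_bot.1 (h5 ▸ (hfix : x ∈ MulAction.stabilizer G (w + ρ x w))))
          intro x y hx hy hx1
          rcases eq_or_ne y 1 with rfl | hy1
          · exact one_mem _
          · rw [show y = x from hρ (LinearEquiv.ext fun w => (hneg y hy hy1 w).trans (hneg x hx hx1 w).symm)]
            exact Subgroup.mem_zpowers x
        rcases CfsgLib.Coprime.cyclic_or_quaternion_of_unique_two hG hu with hc | ⟨j, ⟨eQ⟩⟩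
        · exact Or.inl ⟨hc, hk⟩
        · refine Or.inr (Or.inl ⟨?_⟩)
          have := Nat.card_congr eQ.toEquiv
          rw [hk, Nat.card_eq_fintype_card, QuaternionGroup.card] at this
          rwa [show 2 ^ j = 2 by omega] at eQ
      · obtain rfl : k = 4 := by omega
        exact Or.inr (Or.inr ⟨quasiDihedral_of_card_sixteen M.toHomUnits hφ hG hk, hk⟩)

end Cfsg.Agent.S3370
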