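import Cfsg.Statements.S3371
import Cfsg.Agent.Lib.Char.HalfLinear.Blocks
import Cfsg.Agent.Lib.Invol.CyclicNormalAbelian

set_option autoImplicit false
open Cfsg

namespace Cfsg.Agent.S3371

/-- Let q be a prime, V a non-trivial finite vector space over the field with q elements, and G a finite p-group (p prime) acting faithfully and linearly on V such that all G-orbits on the non-zero vectors have the same size. Then one of the following holds: G is cyclic or generalized quaternion and acts semiregularly on the non-zero vectors; or V has q² elements with q = 2^m − 1 and G is dihedral of order 2^(m+1) or semidihedral of order 2^(m+2); or V has q² elements with q = 2^m + 1 and, in suitable coordinates V = F_q², G is exactly the group of maps (x, y) ↦ (a x, ± a⁻¹ y) and (x, y) ↦ (± a⁻¹ y, a x) with a ≠ 0; or V has 81 elements (q = 3) and G is a 2-group. -/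
theorem result (q : ℕ) [Fact q.Prime] {V : Type*} [AddCommGroup V] [Module (ZMod q) V] [Finite V] [Nontrivial V]
    {G : Type*} [Group G] [Finite G] (p : ℕ) [Fact p.Prime] (hG : IsPGroup p G)
    (ρ : G →* (V ≃ₗ[ZMod q] V)) (hρ : Function.Injective ρ)
    (hhalf : ∀ v w : V, v ≠ 0 → w ≠ 0 → Nat.card {u : V | ∃ g : G, ρ g v = u} = Nat.card {u : V | ∃ g : G, ρ g w = u}) :
    ((IsCyclic G ∨ ∃ n : ℕ, Nonempty (G ≃* QuaternionGroup n)) ∧ ∀ v : V, v ≠ 0 → ∀ g : G, ρ g v = v → g = 1) ∨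
    (Nat.card V = q ^ 2 ∧ ∃ m : ℕ, q = 2 ^ m - 1 ∧
      (Nonempty (G ≃* DihedralGroup (2 ^ m)) ∨ (Cfsg.IsQuasiDihedral G ∧ Nat.card G = 2 ^ (m + 2)))) ∨
    (Nat.card V = q ^ 2 ∧ (∃ m : ℕ, q = 2 ^ m + 1) ∧
      ∃ e : V ≃ₗ[ZMod q] (Fin 2 → ZMod q), ∀ f : (Fin 2 → ZMod q) ≃ₗ[ZMod q] (Fin 2 → ZMod q),
        (∃ g : G, f = e.symm.trans ((ρ g).trans e)) ↔
        ∃ a s : ZMod q, a ≠ 0 ∧ (s = 1 ∨ s = -1) ∧
          ((∀ v, f v = ![a * v 0, s * a⁻¹ * v 1]) ∨ (∀ v, f v = ![s * a⁻¹ * v 1, a * v 0]))) ∨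
    (Nat.card V = 81 ∧ q = 3 ∧ p = 2) := by
  have hT : CfsgLib.Char.HalfLinear.HT ρ := CfsgLib.Char.HalfLinear.ht_of_orbits hhalf
  by_cases hqp : q = p
  · haveI := CfsgLib.Char.HalfLinear.subsingleton_of_char hG hρ hT hqp
    exact Or.inl ⟨Or.inl isCyclic_of_subsingleton, fun v _ g _ => Subsingleton.elim g 1⟩
  by_cases hf : CfsgLib.Char.HalfLinear.Fpf ρ
  · exact Or.inl ⟨CfsgLib.Char.HalfLinear.cyclic_or_quaternion_of_fpf hG hqp hf, hf⟩
  have hirr := (CfsgLib.Char.HalfLinear.irred_or_fpf hG hρ hqp hT).resolve_right hf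
  by_cases hn : ∀ B : Subgroup G, B.Normal → IsMulCommutative B → IsCyclic B
  · rcases CfsgLib.Invol.cyclic_or_std hG hn with hc | ⟨hp2, k, r, e, a, b, hstd, F, -⟩
    · refine absurd (CfsgLib.Char.HalfLinear.fpf_of_unique hG hρ hirr ?_) hf
      exact CfsgLib.Char.HalfLinear.unique_of_cyclic
    · subst hp2
      obtain ⟨hk, ⟨hr, he | he⟩ | ⟨hk3, hr, he⟩⟩ := hstd
      · subst he
        exact Or.inr (Or.inl (CfsgLib.Char.HalfLinear.frame_case hρ hT hirr hqp F (Or.inl ⟨hk, hr⟩) hf))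
      · refine absurd (CfsgLib.Char.HalfLinear.fpf_of_unique hG hρ hirr ?_) hf
        subst hr he
        exact CfsgLib.Char.HalfLinear.unique_of_quaternion_frame hk F
      · subst he
        exact Or.inr (Or.inl (CfsgLib.Char.HalfLinear.frame_case hρ hT hirr hqp F (Or.inr ⟨hk3, hr⟩) hf))
  · push Not at hn
    obtain ⟨B, hBn, hBc, hBnc⟩ := hn
    haveI := hBn
    obtain ⟨hp2, H, W0, W1, P⟩ := CfsgLib.Char.HalfLinear.blocks_case hG hρ hT hirr hBc hBnc
    subst hp2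
    rcases P.conclusion hρ hT hqp hG with h | ⟨h1, h2⟩
    · exact Or.inr (Or.inr (Or.inl h))
    · exact Or.inr (Or.inr (Or.inr ⟨h1, h2, rfl⟩))

end Cfsg.Agent.S3371
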