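import Cfsg.Statements.S3375

import Cfsg.Agent.Lib.Char.Recog.AutSmall

set_option autoImplicit false
open Cfsg

namespace Cfsg.Agent.S3375

/-- Let γ be an automorphism of order 2 of a finite group H. (i) If γ fixes only the identity, then H is abelian and γ inverts every element. (ii) If γ has exactly two fixed points and H has a subgroup of index 2, then H has a γ-invariant abelian subgroup of index 2 on which γ acts by inversion. -/
theorem result {H : Type*} [Group H] [Finite H] (γ : MulAut H) (hγ : orderOf γ = 2) :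
    ((∀ h : H, γ h = h → h = 1) → (∀ a b : H, a * b = b * a) ∧ ∀ h : H, γ h = h⁻¹) ∧
    ((Nat.card {h : H // γ h = h} = 2 ∧ ∃ M : Subgroup H, M.index = 2) →
      ∃ A : Subgroup H, A.index = 2 ∧ IsMulCommutative A ∧ (∀ a ∈ A, γ a ∈ A) ∧ ∀ a ∈ A, γ a = a⁻¹) := by
  refine ⟨fun h => ?_, fun h => ?_⟩
  · have hinv := CfsgLib.Char.invol_fpf_inverts hγ h
    exact ⟨CfsgLib.Char.invol_comm_of_inverts hinv, hinv⟩
  · obtain ⟨hc, M, hM⟩ := h
    exact CfsgLib.Char.invol_two_fixed_points hγ hc M hM

end Cfsg.Agent.S3375
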