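import Cfsg.Statements.S3376
import Cfsg.Agent.Lib.Char.WreathThree

set_option autoImplicit false
open Cfsg

namespace Cfsg.Agent.S3376

open CfsgLib.Char.WreathThree

/-- The product of three disjoint three-cycles. -/
def cyc : Equiv.Perm (Fin 9) :=
  Equiv.swap (0 : Fin 9) 1 * Equiv.swap 1 2 * Equiv.swap 3 4 * Equiv.swap 4 5 * Equiv.swap 6 7 * Equiv.swap 7 8

abbrev M : Subgroup (Equiv.Perm (Fin 9)) := Subgroup.centralizer ({cyc} : Set (Equiv.Perm (Fin 9)))

theorem mem_M {g : Equiv.Perm (Fin 9)} (h : cyc * g = g * cyc) : g ∈ M :=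
  Subgroup.mem_centralizer_singleton_iff.2 (by simpa using h.symm)

def mA : M := ⟨Equiv.swap 0 1 * Equiv.swap 1 2, mem_M (by decide)⟩
def mB : M := ⟨Equiv.swap 3 4 * Equiv.swap 4 5, mem_M (by decide)⟩
def mC : M := ⟨Equiv.swap 6 7 * Equiv.swap 7 8, mem_M (by decide)⟩
def mS : M := ⟨Equiv.addRight 3, mem_M (by decide)⟩
def mT : M := ⟨Equiv.swap 3 6 * Equiv.swap 4 7 * Equiv.swap 5 8, mem_M (by decide)⟩

def model : Gens M where
  A := mA
  B := mB
  C := mC
  s := mS
  t := mT
  hA := by decide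
  hB := by decide
  hC := by decide
  hs := by decide
  ht := by decide
  hAB := by decide
  hAC := by decide
  hBC := by decide
  sA := by decide
  sB := by decide
  sC := by decide
  tA := by decide
  tB := by decide
  tC := by decide
  tS := by decide

set_option maxHeartbeats 1000000 in
theorem model_injective : Function.Injective model.toFun :=
  model.toFun_injective (by decide) (by decide) (by decide)

/-- Triples of images of the points `0`, `3`, `6` under a permutation commuting with `cyc`. -/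
abbrev Triples : Type :=
  {x : Fin 9 × Fin 9 × Fin 9 // x.1.val / 3 ≠ x.2.1.val / 3 ∧ x.1.val / 3 ≠ x.2.2.val / 3 ∧
    x.2.1.val / 3 ≠ x.2.2.val / 3}

set_option maxRecDepth 8000 in
theorem card_triples : Fintype.card Triples = 162 := by decide

theorem same_block : ∀ a b : Fin 9, a.val / 3 = b.val / 3 → b = a ∨ b = cyc a ∨ b = cyc (cyc a) := by
  decide

theorem card_M_le : Nat.card M ≤ 162 := by
  have hcomm : ∀ (g : M) x, (g : Equiv.Perm (Fin 9)) (cyc x) = cyc ((g : Equiv.Perm (Fin 9)) x) :=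
    fun g x => Equiv.ext_iff.1 (Subgroup.mem_centralizer_singleton_iff.1 g.2) x
  have hne : ∀ (g : M) (i j : Fin 9), j ≠ i → j ≠ cyc i → j ≠ cyc (cyc i) →
      ((g : Equiv.Perm (Fin 9)) i).val / 3 ≠ ((g : Equiv.Perm (Fin 9)) j).val / 3 := by
    intro g i j h1 h2 h3 h
    rcases same_block _ _ h with h' | h' | h'
    · exact h1 ((g : Equiv.Perm (Fin 9)).injective h')
    · exact h2 ((g : Equiv.Perm (Fin 9)).injective (h'.trans (hcomm g i).symm))
    · refine h3 ((g : Equiv.Perm (Fin 9)).injective (h'.trans ?_))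
      rw [hcomm, hcomm]
  let F : M → Triples := fun g => ⟨((g : Equiv.Perm (Fin 9)) 0, (g : Equiv.Perm (Fin 9)) 3, (g : Equiv.Perm (Fin 9)) 6),
    hne g 0 3 (by decide) (by decide) (by decide), hne g 0 6 (by decide) (by decide) (by decide),
    hne g 3 6 (by decide) (by decide) (by decide)⟩
  have hF : Function.Injective F := by
    intro g g' h
    have h0 : (g : Equiv.Perm (Fin 9)) 0 = (g' : Equiv.Perm (Fin 9)) 0 :=
      congrArg (fun x : Triples => x.1.1) h
    have h3 : (g : Equiv.Perm (Fin 9)) 3 = (g' : Equiv.Perm (Fin 9)) 3 :=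
      congrArg (fun x : Triples => x.1.2.1) h
    have h6 : (g : Equiv.Perm (Fin 9)) 6 = (g' : Equiv.Perm (Fin 9)) 6 :=
      congrArg (fun x : Triples => x.1.2.2) h
    have hcover : ∀ x : Fin 9, ∃ i : Fin 9, (i = 0 ∨ i = 3 ∨ i = 6) ∧
        (x = i ∨ x = cyc i ∨ x = cyc (cyc i)) := by decide
    refine Subtype.ext (Equiv.ext fun x => ?_)
    obtain ⟨i, hi, hx⟩ := hcover x
    have hgi : (g : Equiv.Perm (Fin 9)) i = (g' : Equiv.Perm (Fin 9)) i := by
      rcases hi with h | h | h <;> rw [h]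
      · exact h0
      · exact h3
      · exact h6
    rcases hx with h | h | h <;> rw [h]
    · exact hgi
    · rw [hcomm g i, hcomm g' i, hgi]
    · rw [hcomm g (cyc i), hcomm g' (cyc i), hcomm g i, hcomm g' i, hgi]
  calc Nat.card M ≤ Nat.card Triples := Nat.card_le_card_of_injective F hF
    _ = 162 := by rw [Nat.card_eq_fintype_card, card_triples]

/-- The shift on exponent vectors attached to conjugation by the element of order three. -/
def shiftSub (n : V) : V := rot n - n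

theorem vec_cases : ∀ n : V, n ≠ 0 → ∃ k : Fin 3, shiftSub^[(k : ℕ)] n = (1, 1, 1) ∨
    shiftSub^[(k : ℕ)] n = (2, 2, 2) := by decide

/-- The generators inside the group of the statement. -/
theorem exists_gens {G : Type*} [Group G] [Finite G]
    (S : Subgroup G) (J : Subgroup G) [J.Normal] [S.Normal] (hJcomm : IsMulCommutative J)
    (hJexp : ∀ a ∈ J, a ^ 3 = 1) (hJS : J ≤ S) (hidx : J.relIndex S = 3) (hJcard : Nat.card J = 27)
    (t : G) (ht : t ^ 2 = 1) (htS : t ∉ S)
    (Z : Subgroup G) (hZ : Z = S ⊓ Subgroup.centralizer (S : Set G))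
    (hZcard : Nat.card Z = 3) (hZt : ∀ z ∈ Z, t * z = z * t) (hnt : ∃ x ∈ S, t * x ≠ x * t) :
    ∃ d : Gens G, Function.Injective d.toFun := by
  have htinv : t⁻¹ = t := inv_eq_of_mul_eq_one_right (by rw [← pow_two, ht])
  have hJc : ∀ a ∈ J, ∀ b ∈ J, a * b = b * a := fun a ha b hb =>
    congrArg Subtype.val (mul_comm' (⟨a, ha⟩ : J) ⟨b, hb⟩)
  have hcoset : ∀ s ∈ S, s ∉ J → ∀ x ∈ S, x ∈ J ∨ x * s⁻¹ ∈ J ∨ x * s ∈ J := by
    intro s hs hsJ x hx
    let Q := S ⧸ J.subgroupOf S
    have hQ : Nat.card Q = 3 := hidx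
    have : Fact (Nat.Prime 3) := ⟨by norm_num⟩
    have hsQ : (QuotientGroup.mk ⟨s, hs⟩ : Q) ≠ 1 := by
      rw [ne_eq, QuotientGroup.eq_one_iff, Subgroup.mem_subgroupOf]; exact hsJ
    have htop : Subgroup.zpowers (QuotientGroup.mk ⟨s, hs⟩ : Q) = ⊤ :=
      zpowers_eq_top_of_prime_card hQ hsQ
    have hord : orderOf (QuotientGroup.mk ⟨s, hs⟩ : Q) = 3 := by
      rw [← Nat.card_zpowers, htop, Subgroup.card_top, hQ]
    have hmem : (QuotientGroup.mk ⟨x, hx⟩ : Q) ∈ Subgroup.zpowers (QuotientGroup.mk ⟨s, hs⟩ : Q) :=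
      htop ▸ Subgroup.mem_top _
    classical
    rw [← mem_powers_iff_mem_zpowers, mem_powers_iff_mem_range_orderOf, hord, Finset.mem_image]
      at hmem
    obtain ⟨k, hk, hkx⟩ := hmem
    rw [Finset.mem_range] at hk
    rw [← QuotientGroup.mk_pow, QuotientGroup.eq, Subgroup.mem_subgroupOf] at hkx
    simp only [Subgroup.coe_mul, InvMemClass.coe_inv, SubmonoidClass.coe_pow] at hkx
    interval_cases k
    · left; simpa using hkx
    · right; left
      have := ‹J.Normal›.conj_mem _ hkx s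
      simpa [mul_assoc] using this
    · right; right
      have h1 : (s ^ 2)⁻¹ * x ∈ J := hkx
      have h3 : s ^ 3 ∈ J := by
        have h := pow_card_eq_one' (x := (QuotientGroup.mk ⟨s, hs⟩ : Q))
        rw [hQ, ← QuotientGroup.mk_pow, QuotientGroup.eq_one_iff, Subgroup.mem_subgroupOf] at h
        simpa using h
      have := ‹J.Normal›.conj_mem _ (J.mul_mem h3 h1) s⁻¹
      simpa [mul_assoc, pow_succ] using this
  -- a commuting fixed element lies in `Z`
  have hfix : ∀ s ∈ S, s ∉ J → ∀ j ∈ J, s * j = j * s → j ∈ Z := by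
    intro s hs hsJ j hj hsj
    rw [hZ]
    refine Subgroup.mem_inf.2 ⟨hJS hj, Subgroup.mem_centralizer_iff.2 fun x hx => ?_⟩
    have hsj' : s⁻¹ * j = j * s⁻¹ := (Commute.inv_left hsj).eq
    rcases hcoset s hs hsJ x hx with h | h | h
    · exact hJc x h j hj
    · have e : x = (x * s⁻¹) * s := by group
      rw [e, mul_assoc, hsj, ← mul_assoc, hJc _ h j hj, mul_assoc]
    · have e : x = (x * s) * s⁻¹ := by group
      rw [e, mul_assoc, hsj', ← mul_assoc, hJc _ h j hj, mul_assoc]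
  obtain ⟨s, hs, hsJ⟩ : ∃ s ∈ S, s ∉ J := by
    by_contra hall
    push Not at hall
    rw [Subgroup.relIndex_eq_one.2 hall] at hidx
    omega
  have hcube : ∀ x ∈ S, x ∉ J → x ^ 3 ∈ Z := by
    intro x hx hxJ
    refine hfix x hx hxJ _ ?_ (Commute.self_pow x 3).eq
    have h := pow_card_eq_one' (x := (QuotientGroup.mk ⟨x, hx⟩ : S ⧸ J.subgroupOf S))
    rw [show Nat.card (S ⧸ J.subgroupOf S) = 3 from hidx, ← QuotientGroup.mk_pow,
      QuotientGroup.eq_one_iff, Subgroup.mem_subgroupOf] at h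
    simpa using h
  -- maps on `J`
  have : IsMulCommutative J := hJcomm
  letI : CommGroup J := { (inferInstance : Group J) with mul_comm := fun a b => mul_comm' a b }
  let σ : J →* J :=
    { toFun := fun j => ⟨s * j * s⁻¹, ‹J.Normal›.conj_mem j j.2 s⟩
      map_one' := by ext; simp
      map_mul' := fun a b => by ext; simp [mul_assoc] }
  let τ : J →* J :=
    { toFun := fun j => ⟨t * j * t⁻¹, ‹J.Normal›.conj_mem j j.2 t⟩
      map_one' := by ext; simp
      map_mul' := fun a b => by ext; simp [mul_assoc] }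
  have hσv : ∀ j : J, ((σ j : J) : G) = s * j * s⁻¹ := fun _ => rfl
  have hτv : ∀ j : J, ((τ j : J) : G) = t * j * t⁻¹ := fun _ => rfl
  have he3 : ∀ j : J, j ^ 3 = 1 := fun j => Subtype.ext (by simpa using hJexp j j.2)
  have hinv3 : ∀ j : J, j⁻¹ = j * j := fun j =>
    inv_eq_of_mul_eq_one_right (by rw [← mul_assoc, ← pow_three']; exact he3 j)
  have hs3J : s ^ 3 ∈ J := by
    have h := pow_card_eq_one' (x := (QuotientGroup.mk ⟨s, hs⟩ : S ⧸ J.subgroupOf S))
    rw [show Nat.card (S ⧸ J.subgroupOf S) = 3 from hidx, ← QuotientGroup.mk_pow,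
      QuotientGroup.eq_one_iff, Subgroup.mem_subgroupOf] at h
    simpa using h
  have hσ3 : ∀ j : J, σ (σ (σ j)) = j := fun j => by
    apply Subtype.ext
    rw [hσv, hσv, hσv]
    have e : s * (s * (s * j * s⁻¹) * s⁻¹) * s⁻¹ = s ^ 3 * j * (s ^ 3)⁻¹ := by
      simp only [pow_succ, pow_zero, one_mul]; group
    rw [e, hJc _ hs3J _ j.2, mul_inv_cancel_right]
  let D : J →* J := σ / MonoidHom.id J
  have hD : ∀ j, D j = σ j / j := fun _ => rfl
  have hD2 : ∀ j, D (D j) = j * σ j * σ (σ j) := fun j => by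
    have h : σ j * σ j = (σ j)⁻¹ := (hinv3 _).symm
    rw [hD, hD, map_div, div_div_eq_mul_div, div_mul_eq_mul_div, div_div, h, div_inv_eq_mul]
    ac_rfl
  have hD3 : ∀ j, D (D (D j)) = 1 := fun j => by
    rw [hD2, hD, map_div, map_div, hσ3]
    simp only [div_eq_mul_inv]
    calc σ j * j⁻¹ * (σ (σ j) * (σ j)⁻¹) * (j * (σ (σ j))⁻¹)
        = (σ j * (σ j)⁻¹) * (j⁻¹ * j) * (σ (σ j) * (σ (σ j))⁻¹) := by ac_rfl
      _ = 1 := by simp
  have hkerZ : ∀ j : J, D j = 1 → (j : G) ∈ Z := by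
    intro j hj
    rw [hD, div_eq_one] at hj
    refine hfix s hs hsJ j j.2 ?_
    have h := congrArg Subtype.val hj
    rw [hσv, mul_inv_eq_iff_eq_mul] at h
    exact h
  -- `Z` is contained in `J`
  obtain ⟨z0, hz0, hz0ne⟩ : ∃ z0 : J, D z0 = 1 ∧ z0 ≠ 1 := by
    by_contra hall
    push Not at hall
    have : Nontrivial J := Finite.one_lt_card_iff_nontrivial.1 (by omega)
    obtain ⟨j, hj⟩ := exists_ne (1 : J)
    exact hj (hall _ (hall _ (hall _ (hD3 j))))
  have hZp : ∀ z ∈ Z, z ≠ 1 → Z = Subgroup.zpowers z := by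
    intro z hz hz1
    refine (Subgroup.eq_of_le_of_card_ge (by rwa [Subgroup.zpowers_le]) ?_).symm
    have h3 : orderOf z ∣ 3 := hZcard ▸ Subgroup.orderOf_dvd_natCard _ hz
    rw [Nat.card_zpowers, hZcard]
    rcases (Nat.dvd_prime (by norm_num : Nat.Prime 3)).1 h3 with h | h
    · exact absurd (orderOf_eq_one_iff.1 h) hz1
    · omega
  have hZJ : Z ≤ J := by
    rw [hZp _ (hkerZ _ hz0) (by simpa using hz0ne), Subgroup.zpowers_le]
    exact z0.2
  have hZcent : ∀ z ∈ Z, ∀ x ∈ S, x * z = z * x := fun z hz x hx => by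
    rw [hZ, Subgroup.mem_inf, Subgroup.mem_centralizer_iff] at hz
    exact hz.2 x hx
  -- the second power of `D` maps onto `Z`
  obtain ⟨u, hu⟩ : ∃ u : J, D (D u) ≠ 1 := by
    by_contra hall
    push Not at hall
    have hker : Nat.card D.ker ≤ 3 := by
      rw [← hZcard]
      refine Nat.card_le_card_of_injective (fun x => (⟨((x : J) : G), hkerZ _ x.2⟩ : Z)) ?_
      intro x y h
      exact Subtype.ext (Subtype.ext (congrArg (fun z : Z => (z : G)) h))
    have hran : Nat.card D.range ≤ Nat.card D.ker := by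
      refine Subgroup.card_le_of_le ?_
      rintro _ ⟨x, rfl⟩
      exact hall x
    have := Subgroup.card_mul_index D.ker
    rw [Subgroup.index_ker, hJcard] at this
    nlinarith
  have huZ : ∀ j, ((D (D j) : J) : G) ∈ Z := fun j => hkerZ _ (hD3 j)
  have honto : ∀ z ∈ Z, ∃ j : J, ((D (D j) : J) : G) = z := by
    intro z hz
    rw [hZp _ (huZ u) (by simpa using hu), Subgroup.mem_zpowers_iff] at hz
    obtain ⟨k, rfl⟩ := hz
    exact ⟨u ^ k, by simp⟩
  -- cubes in the coset
  have hcubeD : ∀ j : J, ((j : G) * s) ^ 3 = ((D (D j) : J) : G) * s ^ 3 := by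
    intro j
    rw [hD2, Subgroup.coe_mul, Subgroup.coe_mul, hσv (σ j), hσv j]
    simp only [pow_succ, pow_zero, one_mul]
    group
  obtain ⟨j₁, hj₁⟩ := honto _ (Z.inv_mem (hcube s hs hsJ))
  obtain ⟨s₁, hs₁, hs₁J, hs₁3, hconj₁⟩ : ∃ s₁ ∈ S, s₁ ∉ J ∧ s₁ ^ 3 = 1 ∧
      ∀ j : J, ((σ j : J) : G) = s₁ * j * s₁⁻¹ := by
    refine ⟨(j₁ : G) * s, S.mul_mem (hJS j₁.2) hs,
      fun h => hsJ ((J.mul_mem_cancel_left j₁.2).1 h), ?_, fun j => ?_⟩
    · rw [hcubeD, hj₁, inv_mul_cancel]
    · have e : (j₁ : G) * s * j * ((j₁ : G) * s)⁻¹ = (j₁ : G) * (σ j : J) * (j₁ : G)⁻¹ := by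
        rw [hσv]; group
      rw [e, hJc _ j₁.2 _ (σ j).2, mul_inv_cancel_right]
  have hcube₁ : ∀ j : J, ((j : G) * s₁) ^ 3 = ((D (D j) : J) : G) := by
    intro j
    rw [hD2, Subgroup.coe_mul, Subgroup.coe_mul, hconj₁ (σ j), hconj₁]
    conv_lhs => rw [show ((j : G) * s₁) ^ 3 =
      (j : G) * (s₁ * j * s₁⁻¹) * (s₁ * (s₁ * j * s₁⁻¹) * s₁⁻¹) * s₁ ^ 3 by
        simp only [pow_succ, pow_zero, one_mul]; group]
    rw [hs₁3, mul_one]
  -- the involution
  have htS' : t * s₁ * t⁻¹ ∈ S := ‹S.Normal›.conj_mem _ hs₁ t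
  have htt : ∀ j : J, τ (τ j) = j := fun j => by
    apply Subtype.ext
    rw [hτv, hτv, htinv]
    calc t * (t * (j : G) * t) * t = t ^ 2 * j * t ^ 2 := by rw [pow_two]; simp only [mul_assoc]
      _ = j := by rw [ht, one_mul, mul_one]
  have hτZ : ∀ j : J, (j : G) ∈ Z → τ j = j := fun j hj => by
    apply Subtype.ext
    rw [hτv, hZt _ hj, mul_inv_cancel_right]
  rcases hcoset s₁ hs₁ hs₁J _ htS' with h | h | h
  · refine absurd ?_ hs₁J
    have := ‹J.Normal›.conj_mem _ h t⁻¹
    simpa [mul_assoc] using this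
  · -- `t` acts trivially modulo `J`: impossible
    exfalso
    set j₀ := t * s₁ * t⁻¹ * s₁⁻¹ with hj₀
    have hts : t * s₁ * t⁻¹ = j₀ * s₁ := by rw [hj₀, inv_mul_cancel_right]
    have hcomm : ∀ j : J, τ (σ j) = σ (τ j) := fun j => by
      apply Subtype.ext
      rw [hτv, hconj₁, hconj₁ (τ j), hτv]
      have e : t * (s₁ * j * s₁⁻¹) * t⁻¹ = (t * s₁ * t⁻¹) * (t * j * t⁻¹) * (t * s₁ * t⁻¹)⁻¹ := by
        group
      have hmem : s₁ * (t * j * t⁻¹) * s₁⁻¹ ∈ J :=
        ‹J.Normal›.conj_mem _ (‹J.Normal›.conj_mem _ j.2 t) s₁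
      rw [e, hts]
      calc j₀ * s₁ * (t * j * t⁻¹) * (j₀ * s₁)⁻¹
          = j₀ * (s₁ * (t * j * t⁻¹) * s₁⁻¹) * j₀⁻¹ := by group
        _ = _ := by rw [hJc _ h _ hmem, mul_inv_cancel_right]
    have hτD : ∀ j, τ (D j) = D (τ j) := fun j => by rw [hD, hD, map_div, hcomm]
    have hid : ∀ j, τ j = j := by
      intro j
      set w := τ j / j with hw
      have hτw : τ w = w⁻¹ := by rw [hw, map_div, htt, inv_div]
      have hDDw : D (D w) = 1 := by
        rw [hw, map_div, map_div, ← hτD, ← hτD, hτZ _ (huZ j), div_self']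
      have h1 : τ (D w) = D w := hτZ _ (hkerZ _ hDDw)
      rw [hτD, hτw, map_inv] at h1
      have hDw : D w = 1 := by
        have h2 : D w * D w = 1 := by
          nth_rewrite 2 [← h1]; rw [mul_inv_cancel]
        rw [← inv_eq_one, hinv3, h2]
      have h3 : τ w = w := hτZ _ (hkerZ _ hDw)
      rw [hτw] at h3
      have h4 : w * w = 1 := by nth_rewrite 2 [← h3]; rw [mul_inv_cancel]
      have hw1 : w = 1 := by rw [← inv_eq_one, hinv3, h4]
      exact div_eq_one.1 hw1
    have htj : ∀ j : G, j ∈ J → t * j = j * t := fun j hj => by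
      have h := congrArg Subtype.val (hid ⟨j, hj⟩)
      rw [hτv, mul_inv_eq_iff_eq_mul] at h
      exact h
    have hj₀1 : j₀ = 1 := by
      have e : s₁ = j₀ * (j₀ * s₁) := by
        calc s₁ = t * (t * s₁ * t⁻¹) * t⁻¹ := by
              rw [htinv]
              calc s₁ = t ^ 2 * s₁ * t ^ 2 := by rw [ht, one_mul, mul_one]
                _ = _ := by rw [pow_two]; simp only [mul_assoc]
          _ = t * (j₀ * s₁) * t⁻¹ := by rw [hts]
          _ = (t * j₀) * (s₁ * t⁻¹) := by simp only [mul_assoc]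
          _ = j₀ * (t * s₁ * t⁻¹) := by rw [htj _ h]; simp only [mul_assoc]
          _ = _ := by rw [hts]
      rw [← mul_assoc] at e
      have e2 : j₀ * j₀ = 1 := mul_eq_right.1 e.symm
      have e3 := hJexp _ h
      rw [pow_succ, pow_two, e2, one_mul] at e3
      exact e3
    rw [hj₀1, one_mul, mul_inv_eq_iff_eq_mul] at hts
    have hts' : Commute t s₁ := hts
    obtain ⟨x, hx, hxt⟩ := hnt
    apply hxt
    rcases hcoset s₁ hs₁ hs₁J x hx with h' | h' | h'
    · exact htj _ h'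
    · have := (show Commute t (x * s₁⁻¹) from htj _ h').mul_right hts'
      rwa [inv_mul_cancel_right] at this
    · have := (show Commute t (x * s₁) from htj _ h').mul_right hts'.inv_right
      rwa [mul_inv_cancel_right] at this
  · -- `t` inverts `s₁` modulo `J`
    set c := t * s₁⁻¹ * t⁻¹ * s₁⁻¹ with hc
    have hcJ : c ∈ J := by
      have e : c = (s₁ * (t * s₁ * t⁻¹ * s₁) * s₁⁻¹)⁻¹ := by rw [hc]; group
      rw [e]
      exact J.inv_mem (‹J.Normal›.conj_mem _ h s₁)
    have hcs : t * s₁⁻¹ * t⁻¹ = c * s₁ := by rw [hc, inv_mul_cancel_right]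
    let c' : J := ⟨c, hcJ⟩
    have hDc : D (D c') = 1 := by
      apply Subtype.ext
      rw [← hcube₁]
      show (c * s₁) ^ 3 = 1
      rw [← hcs, conj_pow, inv_pow, hs₁3, inv_one, mul_one, mul_inv_cancel]
    have hστc : c * (s₁ * (t * c * t⁻¹)⁻¹ * s₁⁻¹) = 1 := by
      have e1 : t * (c * s₁)⁻¹ * t⁻¹ = c * s₁ * (t * c * t⁻¹)⁻¹ := by
        calc t * (c * s₁)⁻¹ * t⁻¹ = (t * s₁⁻¹ * t⁻¹) * (t * c * t⁻¹)⁻¹ := by group
          _ = _ := by rw [hcs]
      have e2 : t * (c * s₁)⁻¹ * t⁻¹ = s₁ := by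
        calc t * (c * s₁)⁻¹ * t⁻¹ = t * (t * s₁⁻¹ * t⁻¹)⁻¹ * t⁻¹ := by rw [hcs]
          _ = (t * t) * s₁ * (t * t)⁻¹ := by group
          _ = s₁ := by rw [← pow_two, ht]; simp
      rw [e2] at e1
      calc c * (s₁ * (t * c * t⁻¹)⁻¹ * s₁⁻¹) = (c * s₁ * (t * c * t⁻¹)⁻¹) * s₁⁻¹ := by group
        _ = 1 := by rw [← e1, mul_inv_cancel]
    set x := c⁻¹ * s₁ with hxdef
    have hx3 : x ^ 3 = 1 := by
      have h := hcube₁ c'⁻¹
      rw [map_inv, map_inv, hDc, inv_one] at h
      simpa using h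
    have hxJ : x ∉ J := fun h' => hs₁J ((J.mul_mem_cancel_left (J.inv_mem hcJ)).1 h')
    have hxS : x ∈ S := S.mul_mem (S.inv_mem (hJS hcJ)) hs₁
    have hconjx : ∀ j : J, ((σ j : J) : G) = x * j * x⁻¹ := fun j => by
      have e : x * j * x⁻¹ = c⁻¹ * (s₁ * j * s₁⁻¹) * c⁻¹⁻¹ := by rw [hxdef]; group
      rw [e, ← hconj₁, hJc _ (J.inv_mem hcJ) _ (σ j).2, mul_inv_cancel_right]
    have htx : t * x⁻¹ * t⁻¹ = x := by
      have hm : s₁ * (t * c * t⁻¹) * s₁⁻¹ = c := by
        have := eq_inv_of_mul_eq_one_left hστc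
        calc s₁ * (t * c * t⁻¹) * s₁⁻¹ = (s₁ * (t * c * t⁻¹)⁻¹ * s₁⁻¹)⁻¹ := by group
          _ = c := this.symm
      calc t * x⁻¹ * t⁻¹ = (t * s₁⁻¹ * t⁻¹) * (t * c * t⁻¹) := by rw [hxdef]; group
        _ = c * (s₁ * (t * c * t⁻¹) * s₁⁻¹) * s₁ := by rw [hcs]; group
        _ = (c * c) * s₁ := by rw [hm]
        _ = x := by
          have h' := congrArg Subtype.val (hinv3 c')
          rw [hxdef]
          congr 1
          simpa [c'] using h'.symm
    have hx2 : x ^ 2 = x⁻¹ := by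
      rw [eq_inv_iff_mul_eq_one, ← pow_succ]; exact hx3
    have htxs : t * x = x ^ 2 * t := by
      rw [hx2]
      calc t * x = (t * x⁻¹ * t⁻¹)⁻¹ * t := by group
        _ = x⁻¹ * t := by rw [htx]
    have hσσ : ∀ j : J, ((σ (σ j) : J) : G) = x ^ 2 * j * (x ^ 2)⁻¹ := fun j => by
      rw [hconjx, hconjx]; simp only [pow_succ, pow_zero, one_mul]; group
    have hτσ : ∀ j, τ (σ j) = σ (σ (τ j)) := fun j => by
      apply Subtype.ext
      rw [hσσ, hτv, hτv, hconjx]
      calc t * (x * j * x⁻¹) * t⁻¹ = (t * x) * j * (t * x)⁻¹ := by group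
        _ = x ^ 2 * t * j * (x ^ 2 * t)⁻¹ := by rw [htxs]
        _ = _ := by group
    have hDDt : D (D (τ u)) = D (D u) := by
      have e : D (D (τ u)) = τ (D (D u)) := by
        rw [hD2, hD2, map_mul, map_mul, hτσ (σ u), hτσ u, hσ3]
        ac_rfl
      rw [e, hτZ _ (huZ u)]
    set v := u * τ u with hv
    have hτv' : τ v = v := by rw [hv, map_mul, htt, mul_comm]
    have hDDv : D (D v) ≠ 1 := by
      rw [hv, map_mul, map_mul, hDDt, ← hinv3]
      simpa using hu
    have hxv : ∀ j : J, x * j = (σ j : J) * x := fun j => by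
      rw [hconjx, inv_mul_cancel_right]
    have htv : ∀ j : J, t * j = (τ j : J) * t := fun j => by rw [hτv, inv_mul_cancel_right]
    let d : Gens G :=
      { A := v, B := σ v, C := σ (σ v), s := x, t := t
        hA := hJexp _ v.2, hB := hJexp _ (σ v).2, hC := hJexp _ (σ (σ v)).2
        hs := hx3, ht := ht
        hAB := hJc _ v.2 _ (σ v).2, hAC := hJc _ v.2 _ (σ (σ v)).2
        hBC := hJc _ (σ v).2 _ (σ (σ v)).2
        sA := hxv v, sB := hxv (σ v), sC := by rw [hxv, hσ3]
        tA := by rw [htv, hτv']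
        tB := by rw [htv, hτσ, hτv']
        tC := by rw [htv, hτσ, hτσ, hσ3, hτv']
        tS := htxs }
    have hvecJ : ∀ n, d.vec n ∈ J := fun n =>
      J.mul_mem (J.mul_mem (J.pow_mem v.2 _) (J.pow_mem (σ v).2 _)) (J.pow_mem (σ (σ v)).2 _)
    have hshift : ∀ n, d.vec n = 1 → d.vec (shiftSub n) = 1 := by
      intro n hn
      have e := d.s_vec n
      rw [hn, mul_one] at e
      have e1 : d.vec (rot n) = 1 := mul_eq_right.1 e.symm
      have e2 := d.vec_add (shiftSub n) n
      rw [shiftSub, sub_add_cancel, e1, hn, mul_one] at e2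
      exact e2.symm
    have hiter : ∀ (k : ℕ) n, d.vec n = 1 → d.vec (shiftSub^[k] n) = 1 := by
      intro k
      induction k with
      | zero => exact fun n hn => hn
      | succ k ih => exact fun n hn => by rw [Function.iterate_succ_apply]; exact ih _ (hshift n hn)
    have h111 : d.vec (1, 1, 1) = ((D (D v) : J) : G) := by
      rw [hD2]
      simp [Gens.vec, d, ZMod.val_one]
    refine ⟨d, d.toFun_injective ?_ (fun n h => hxJ (by rw [show x = d.vec n from h.symm]; exact hvecJ n)) ?_⟩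
    · intro n hn
      by_contra hne
      obtain ⟨k, hk | hk⟩ := vec_cases n hne
      · have := hiter k n hn
        rw [hk, h111] at this
        exact hDDv (Subtype.ext this)
      · have := hiter k n hn
        rw [hk] at this
        have e := d.vec_add (2, 2, 2) (2, 2, 2)
        rw [this, one_mul, show ((2, 2, 2) : V) + (2, 2, 2) = (1, 1, 1) by decide, h111] at e
        exact hDDv (Subtype.ext e)
    · intro n i h
      exact htS (by rw [show t = _ from h.symm]; exact S.mul_mem (hJS (hvecJ n)) (S.pow_mem hxS _))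

/-- Let G be a group of order 162 = 3⁴·2 with Sylow 3-subgroup S and Sylow 2-subgroup T, having an elementary abelian normal subgroup J of order 27, such that Z = Z(S) has order 3, Z centralizes T, and C_S(T) ≠ S. Then G is isomorphic to the centralizer in Sym(9) of a product of three disjoint 3-cycles. -/
theorem result {G : Type*} [Group G] [Finite G] (hG : Nat.card G = 162)
    (S : Sylow 3 G) (T : Sylow 2 G) (J : Subgroup G) [hJn : J.Normal] (hJcomm : IsMulCommutative J)
    (hJexp : ∀ a ∈ J, a ^ 3 = 1) (hJcard : Nat.card J = 27)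
    (Z : Subgroup G) (hZ : Z = (S : Subgroup G) ⊓ Subgroup.centralizer ((S : Subgroup G) : Set G)) (hZcard : Nat.card Z = 3)
    (hZT : Z ≤ Subgroup.centralizer ((T : Subgroup G) : Set G))
    (hST : (S : Subgroup G) ⊓ Subgroup.centralizer ((T : Subgroup G) : Set G) ≠ S) :
    Nonempty (G ≃* Subgroup.centralizer ({Equiv.swap (0 : Fin 9) 1 * Equiv.swap 1 2 * Equiv.swap 3 4 * Equiv.swap 4 5 * Equiv.swap 6 7 * Equiv.swap 7 8} : Set (Equiv.Perm (Fin 9)))) := by
  classical
  have h3 : Fact (Nat.Prime 3) := ⟨by norm_num⟩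
  have h2 : Fact (Nat.Prime 2) := ⟨by norm_num⟩
  have hScard : Nat.card (S : Subgroup G) = 81 := by
    rw [S.card_eq_multiplicity, hG]
    have : (162 : ℕ).factorization 3 = 4 := by
      rw [show (162 : ℕ) = 2 * 3 ^ 4 by norm_num, Nat.factorization_mul (by norm_num) (by norm_num),
        Nat.Prime.factorization (by norm_num), Nat.Prime.factorization_pow (by norm_num)]
      simp
    rw [this]; norm_num
  have hTcard : Nat.card (T : Subgroup G) = 2 := by
    rw [T.card_eq_multiplicity, hG]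
    have : (162 : ℕ).factorization 2 = 1 := by
      rw [show (162 : ℕ) = 2 * 3 ^ 4 by norm_num, Nat.factorization_mul (by norm_num) (by norm_num),
        Nat.Prime.factorization (by norm_num), Nat.Prime.factorization_pow (by norm_num)]
      simp
    rw [this]; norm_num
  have hindex : (S : Subgroup G).index = 2 := by
    have := Subgroup.card_mul_index (S : Subgroup G)
    rw [hScard, hG] at this; omega
  have : (S : Subgroup G).Normal := Subgroup.normal_of_index_eq_two hindex
  have hJS : J ≤ S := by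
    obtain ⟨Q, hQ⟩ := (IsPGroup.of_card (n := 3) (by rw [hJcard]; norm_num) : IsPGroup 3 J).exists_le_sylow
    have hu := Sylow.unique_of_normal S inferInstance
    rwa [Subsingleton.elim Q S] at hQ
  have hidx : J.relIndex S = 3 := by
    have := Subgroup.card_mul_index (J.subgroupOf (S : Subgroup G))
    rw [Nat.card_congr (Subgroup.subgroupOfEquivOfLe hJS).toEquiv, hJcard, hScard] at this
    change 27 * J.relIndex S = 81 at this
    omega
  obtain ⟨t, htT, ht1⟩ : ∃ t ∈ (T : Subgroup G), t ≠ 1 := by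
    have : Nontrivial (T : Subgroup G) := Finite.one_lt_card_iff_nontrivial.1 (by omega)
    obtain ⟨t, ht⟩ := exists_ne (1 : (T : Subgroup G))
    exact ⟨t, t.2, by simpa using ht⟩
  have ht2 : t ^ 2 = 1 := by
    have h := pow_card_eq_one' (x := (⟨t, htT⟩ : (T : Subgroup G)))
    rw [hTcard] at h
    exact congrArg Subtype.val h
  have htS : t ∉ (S : Subgroup G) := by
    intro h
    have e := orderOf_eq_prime ht2 ht1
    have := Subgroup.orderOf_dvd_natCard _ h
    rw [e, hScard] at this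
    omega
  have hT : ∀ y ∈ (T : Subgroup G), y = 1 ∨ y = t := by
    intro y hy
    have hz : Subgroup.zpowers t = (T : Subgroup G) := Subgroup.eq_of_le_of_card_ge
      (by rwa [Subgroup.zpowers_le]) (by rw [Nat.card_zpowers, orderOf_eq_prime ht2 ht1, hTcard])
    rw [← hz, ← mem_powers_iff_mem_zpowers, mem_powers_iff_mem_range_orderOf,
      orderOf_eq_prime ht2 ht1, Finset.mem_image] at hy
    obtain ⟨k, hk, rfl⟩ := hy
    rw [Finset.mem_range] at hk
    interval_cases k <;> simp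
  have hnt : ∃ x ∈ (S : Subgroup G), t * x ≠ x * t := by
    by_contra hall
    push Not at hall
    refine hST (inf_eq_left.2 fun x hx => Subgroup.mem_centralizer_iff.2 fun y hy => ?_)
    rcases hT y hy with rfl | rfl
    · simp
    · exact hall x hx
  obtain ⟨d, hd⟩ := exists_gens (S : Subgroup G) J hJcomm hJexp hJS hidx hJcard t ht2 htS Z hZ hZcard
    (fun z hz => Subgroup.mem_centralizer_iff.1 (hZT hz) t htT) hnt
  exact d.equiv model hG.le card_M_le hd model_injective

end Cfsg.Agent.S3376
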