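import Cfsg.Statements.S3378
import Cfsg.Agent.Lib.Char.Presentation
import Cfsg.Agent.Lib.Char.Burnside
import Cfsg.Agent.Lib.Char.Zassenhaus.Table
import Cfsg.Agent.Lib.Invol.BrauerSuzuki
import Cfsg.Agent.Lib.Invol.SimpleSixty
import Cfsg.Agent.S3377

set_option autoImplicit false
open Cfsg

namespace Cfsg.Agent.S3378

universe v

open CfsgLib.Char.Zassenhaus in
theorem sl25_gens : ∃ a b c : SL25, a ^ 3 = 1 ∧ b ^ 5 = 1 ∧ c ^ 2 = 1 ∧ c * a = a * c ∧ c * b = b * c ∧
    (a * b) ^ 2 = c ∧ ∀ H : Subgroup SL25, a ∈ H → b ∈ H → H = ⊤ := by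
  obtain ⟨b, hb⟩ : ∃ b : SL25, toQ b = (0, 1, 4, 2) := ⟨⟨!![0, 1; 4, 2], by decide⟩, rfl⟩
  have hB5 : A5 * A5 * b * b * b * A5 * b = B5 := toQ_injective (by
    simp only [toQ_mul, toQ_A5, toQ_B5, hb]; decide +kernel)
  refine ⟨A5, b, (A5 * b) ^ 2, A5_cube, ?_, ?_, ?_, ?_, rfl, fun H ha hb' => ?_⟩
  · apply toQ_injective
    simp only [pow_succ, pow_zero, one_mul, toQ_mul, hb, toQ_one]
    decide +kernel
  · apply toQ_injective
    simp only [pow_succ, pow_zero, one_mul, toQ_mul, hb, toQ_A5, toQ_one]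
    decide +kernel
  · apply toQ_injective
    simp only [pow_succ, pow_zero, one_mul, toQ_mul, hb, toQ_A5]
    decide +kernel
  · apply toQ_injective
    simp only [pow_succ, pow_zero, one_mul, toQ_mul, hb, toQ_A5]
    decide +kernel
  · rw [eq_top_iff]
    intro g _
    have hB : B5 ∈ H := hB5 ▸ H.mul_mem (H.mul_mem (H.mul_mem (H.mul_mem (H.mul_mem (H.mul_mem ha ha) hb') hb') hb') ha) hb'
    exact sl25_induction (p := fun g => g ∈ H) H.one_mem (fun x hx => H.mul_mem hx ha) (fun x hx => H.mul_mem hx hB) g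

theorem card_sl25 : Nat.card (Matrix.SpecialLinearGroup (Fin 2) (ZMod 5)) = 120 :=
  (Nat.card_congr (Equiv.ofBijective CfsgLib.Char.Zassenhaus.idx ⟨fun g h e => by
      rw [← CfsgLib.Char.Zassenhaus.el_idx g, e, CfsgLib.Char.Zassenhaus.el_idx], fun k =>
      ⟨CfsgLib.Char.Zassenhaus.el k, CfsgLib.Char.Zassenhaus.idx_el k⟩⟩)).trans (Nat.card_fin 120)

abbrev rels : Set (FreeGroup (Fin 3)) :=
  {FreeGroup.of (0 : Fin 3) ^ 3, FreeGroup.of (1 : Fin 3) ^ 5, FreeGroup.of (2 : Fin 3) ^ 2,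
    (FreeGroup.of (2 : Fin 3))⁻¹ * FreeGroup.of 0 * FreeGroup.of 2 * (FreeGroup.of (0 : Fin 3))⁻¹,
    (FreeGroup.of (2 : Fin 3))⁻¹ * FreeGroup.of 1 * FreeGroup.of 2 * (FreeGroup.of (1 : Fin 3))⁻¹,
    (FreeGroup.of (0 : Fin 3) * FreeGroup.of 1) ^ 2 * (FreeGroup.of (2 : Fin 3))⁻¹}

/-- a group of order 120 generated by elements satisfying the relations is the presented group -/
theorem equiv_presented {H : Type*} [Group H] [Finite H] (hcard : Nat.card H = 120) (a b c : H)
    (ha : a ^ 3 = 1) (hb : b ^ 5 = 1) (hc : c ^ 2 = 1) (hca : c * a = a * c) (hcb : c * b = b * c)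
    (hab : (a * b) ^ 2 = c) (hgen : ∀ K : Subgroup H, a ∈ K → b ∈ K → K = ⊤) :
    Nonempty (PresentedGroup rels ≃* H) := by
  have hca' : c⁻¹ * (a * (c * a⁻¹)) = 1 := by
    rw [← mul_assoc a, ← hca, mul_assoc, mul_inv_cancel, mul_one, inv_mul_cancel]
  have hcb' : c⁻¹ * (b * (c * b⁻¹)) = 1 := by
    rw [← mul_assoc b, ← hcb, mul_assoc, mul_inv_cancel, mul_one, inv_mul_cancel]
  have hrel : ∀ r ∈ rels, FreeGroup.lift ![a, b, c] r = 1 := by
    rintro r (rfl | rfl | rfl | rfl | rfl | rfl) <;>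
      simp [ha, hb, hc, hab, mul_assoc, hca', hcb']
  let φ : PresentedGroup rels →* H := PresentedGroup.toGroup hrel
  have hφ : ∀ i, φ (PresentedGroup.of i) = ![a, b, c] i := fun i => PresentedGroup.toGroup.of hrel
  have hgen' : Subgroup.closure ({PresentedGroup.of 0, PresentedGroup.of 1, PresentedGroup.of 2} :
      Set (PresentedGroup rels)) = ⊤ := by
    rw [eq_top_iff, ← PresentedGroup.closure_range_of rels]
    refine Subgroup.closure_mono ?_
    rintro _ ⟨i, rfl⟩
    fin_cases i <;> simp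
  have hmk : ∀ r ∈ rels, PresentedGroup.mk rels r = 1 := fun r hr => PresentedGroup.one_of_mem hr
  have r1 := hmk _ (Or.inl rfl)
  have r2 := hmk _ (Or.inr (Or.inl rfl))
  have r3 := hmk _ (Or.inr (Or.inr (Or.inl rfl)))
  have r4 := hmk _ (Or.inr (Or.inr (Or.inr (Or.inl rfl))))
  have r5 := hmk _ (Or.inr (Or.inr (Or.inr (Or.inr (Or.inl rfl)))))
  have r6 := hmk _ (Or.inr (Or.inr (Or.inr (Or.inr (Or.inr rfl)))))
  simp only [map_pow, map_mul, map_inv] at r1 r2 r3 r4 r5 r6
  rw [mul_inv_eq_one, mul_assoc, inv_mul_eq_iff_eq_mul] at r4 r5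
  rw [mul_inv_eq_one] at r6
  obtain ⟨hfin, hle⟩ := CfsgLib.Char.Presentation.card_le_one_twenty hgen' r1 r2 r3 r4.symm r5.symm r6
  have hsurj : Function.Surjective φ :=
    MonoidHom.range_eq_top.1 (hgen _ ⟨_, hφ 0⟩ ⟨_, hφ 1⟩)
  exact ⟨MulEquiv.ofBijective φ (Function.Surjective.bijective_of_nat_card_le hsurj (hle.trans hcard.ge))⟩

/-- small orders dividing sixty give solvable groups -/
theorem solvable_of_dvd_sixty {H : Type v} [Group H] [Finite H] (hd : Nat.card H ∣ 60)
    (hlt : Nat.card H < 60) : Group.IsSolvable H := by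
  by_cases h30 : Nat.card H = 30
  · haveI : IsZGroup H := IsZGroup.of_squarefree (by
      rw [h30, show (30 : ℕ) = 2 * (3 * 5) by norm_num, Nat.squarefree_mul_iff, Nat.squarefree_mul_iff]
      exact ⟨by norm_num, Nat.prime_two.prime.squarefree, by norm_num, Nat.prime_three.prime.squarefree,
        Nat.prime_five.prime.squarefree⟩)
    infer_instance
  · have hm : Nat.card H ∈ Nat.divisors 60 := Nat.mem_divisors.2 ⟨hd, by norm_num⟩
    rw [show Nat.divisors 60 = {1, 2, 3, 4, 5, 6, 10, 12, 15, 20, 30, 60} by decide] at hm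
    simp only [Finset.mem_insert, Finset.mem_singleton] at hm
    have key := fun p q a b (hp : p.Prime) (hq : q.Prime) =>
      CfsgLib.Char.isSolvable_of_card_two_primes.{v} (p := p) (q := q) hp hq H a b
    rcases hm with h | h | h | h | h | h | h | h | h | h | h | h
    · exact key 2 3 0 0 Nat.prime_two Nat.prime_three h
    · exact key 2 3 1 0 Nat.prime_two Nat.prime_three h
    · exact key 2 3 0 1 Nat.prime_two Nat.prime_three h
    · exact key 2 3 2 0 Nat.prime_two Nat.prime_three h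
    · exact key 2 5 0 1 Nat.prime_two Nat.prime_five h
    · exact key 2 3 1 1 Nat.prime_two Nat.prime_three h
    · exact key 2 5 1 1 Nat.prime_two Nat.prime_five h
    · exact key 2 3 2 1 Nat.prime_two Nat.prime_three h
    · exact key 3 5 1 1 Nat.prime_three Nat.prime_five h
    · exact key 2 5 2 1 Nat.prime_two Nat.prime_five h
    · exact absurd h h30
    · omega

theorem exists_gens {G : Type v} [Group G] [Finite G] (hG : Nat.card G = 120)
    (hns : ¬ Group.IsSolvable G)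
    (hS : ∀ P : Sylow 2 G, Nonempty ((P : Subgroup G) ≃* QuaternionGroup 2)) :
    ∃ a b c : G, a ^ 3 = 1 ∧ b ^ 5 = 1 ∧ c ^ 2 = 1 ∧ c * a = a * c ∧ c * b = b * c ∧
      (a * b) ^ 2 = c ∧ ∀ K : Subgroup G, a ∈ K → b ∈ K → K = ⊤ := by
  haveI := Fact.mk Nat.prime_two
  classical
  have two : ∀ (K : Subgroup G) [K.Normal], Group.IsSolvable K → Group.IsSolvable (G ⧸ K) → False :=
    fun K _ h1 h2 => hns (Group.isSolvable_of_ker_le_range K.subtype (QuotientGroup.mk' K) (by
      rw [QuotientGroup.ker_mk', Subgroup.range_subtype]))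
  have hO : ∀ K : Subgroup G, K.Normal → Odd (Nat.card K) → K = ⊥ := by
    intro K hK hodd
    by_contra hne
    have hd : Nat.card K ∣ 15 := by
      refine (Nat.Coprime.dvd_mul_left (n := 15) (?_ : Nat.Coprime (Nat.card K) 8)).1
        ((Subgroup.card_subgroup_dvd_card K).trans (by rw [hG]))
      exact (Nat.Coprime.pow_right 3 (Nat.coprime_two_right.2 hodd))
    have h1 : 1 < Nat.card K := (Subgroup.one_lt_card_iff_ne_bot K).2 hne
    have hci := Subgroup.card_mul_index K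
    rw [hG] at hci
    have hm : Nat.card K ∈ Nat.divisors 15 := Nat.mem_divisors.2 ⟨hd, by norm_num⟩
    rw [show Nat.divisors 15 = {1, 3, 5, 15} by decide] at hm
    simp only [Finset.mem_insert, Finset.mem_singleton] at hm
    have hq : Nat.card (G ⧸ K) = K.index := (Subgroup.index_eq_card K).symm
    haveI := hK
    refine two K (solvable_of_dvd_sixty (hd.trans (by norm_num)) ?_) ?_
    · rcases hm with h | h | h | h <;> omega
    · rcases hm with h | h | h | h
      · omega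
      · exact CfsgLib.Char.isSolvable_of_card_two_primes Nat.prime_two Nat.prime_five _ 3 1
          (by rw [hq]; rw [h] at hci; omega)
      · exact CfsgLib.Char.isSolvable_of_card_two_primes Nat.prime_two Nat.prime_three _ 3 1
          (by rw [hq]; rw [h] at hci; omega)
      · exact CfsgLib.Char.isSolvable_of_card_two_primes Nat.prime_two Nat.prime_three _ 3 0
          (by rw [hq]; rw [h] at hci; omega)
  obtain ⟨S⟩ : Nonempty (Sylow 2 G) := inferInstance
  obtain ⟨eS⟩ := hS S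
  have hz2 : Nat.card (Subgroup.center G) = 2 :=
    CfsgLib.Invol.card_center_eq_two S (le_refl 2) even_two eS hO
  let Z := Subgroup.center G
  have hq60 : Nat.card (G ⧸ Z) = 60 := by
    have := Subgroup.card_eq_card_quotient_mul_card_subgroup Z
    rw [hG, hz2] at this
    omega
  haveI hsimple : IsSimpleGroup (G ⧸ Z) := by
    haveI : Nontrivial (G ⧸ Z) := Finite.one_lt_card_iff_nontrivial.1 (by omega)
    refine ⟨fun M hM => ?_⟩
    by_contra hc
    push Not at hc
    have hci := Subgroup.card_mul_index M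
    rw [hq60] at hci
    have h1 : Group.IsSolvable M := solvable_of_dvd_sixty ⟨_, hci.symm⟩ (by
      have hi : 1 < M.index := Subgroup.one_lt_index_of_ne_top hc.2
      nlinarith [Nat.card_pos (α := M)])
    have h2 : Group.IsSolvable ((G ⧸ Z) ⧸ M) := solvable_of_dvd_sixty
      (by rw [← Subgroup.index_eq_card]; exact ⟨_, (mul_comm (Nat.card M) _ ▸ hci).symm⟩) (by
      rw [← Subgroup.index_eq_card]
      have := (Subgroup.one_lt_card_iff_ne_bot M).2 hc.1
      nlinarith [Nat.pos_of_ne_zero (Subgroup.index_ne_zero_of_finite (H := M))])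
    have h3 : Group.IsSolvable (G ⧸ Z) := Group.isSolvable_of_ker_le_range M.subtype (QuotientGroup.mk' M) (by
      rw [QuotientGroup.ker_mk', Subgroup.range_subtype])
    exact two Z
      (CfsgLib.Char.isSolvable_of_card_two_primes Nat.prime_two Nat.prime_three _ 1 0 hz2) h3
  obtain ⟨e⟩ := CfsgLib.Invol.mulEquiv_alternating_five hq60
  obtain ⟨h3, h5, h2, n3, n5, n2⟩ := Cfsg.Agent.S3377.a5gen_facts
  have hlift : ∀ q : G ⧸ Z, ∃ x : G, (x : G ⧸ Z) = q := QuotientGroup.mk_surjective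
  obtain ⟨x, hx⟩ := hlift (e.symm (Cfsg.Agent.S3377.a5gen 0))
  obtain ⟨y, hy⟩ := hlift (e.symm (Cfsg.Agent.S3377.a5gen 1))
  have hsq : ∀ w : G, (w : G ⧸ Z) = 1 → w ^ 2 = 1 := fun w hw => by
    have hw : w ∈ Z := (QuotientGroup.eq_one_iff w).1 hw
    have := pow_card_eq_one' (x := (⟨w, hw⟩ : Z))
    rw [hz2] at this
    exact congrArg Subtype.val this
  have ha : (x ^ 4) ^ 3 = 1 := by
    have h := hsq (x ^ 3) (by rw [QuotientGroup.mk_pow, hx, ← map_pow, h3, map_one])
    rw [← pow_mul] at h ⊢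
    rw [show 4 * 3 = 3 * 2 * 2 by norm_num, pow_mul, h, one_pow]
  have hb : (y ^ 6) ^ 5 = 1 := by
    have h := hsq (y ^ 5) (by rw [QuotientGroup.mk_pow, hy, ← map_pow, h5, map_one])
    rw [← pow_mul] at h ⊢
    rw [show 6 * 5 = 5 * 2 * 3 by norm_num, pow_mul, h, one_pow]
  have hxi : ((x ^ 4 : G) : G ⧸ Z) = e.symm (Cfsg.Agent.S3377.a5gen 0) := by
    rw [QuotientGroup.mk_pow, hx, ← map_pow, pow_succ, h3, one_mul]
  have hyi : ((y ^ 6 : G) : G ⧸ Z) = e.symm (Cfsg.Agent.S3377.a5gen 1) := by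
    rw [QuotientGroup.mk_pow, hy, ← map_pow, pow_succ, h5, one_mul]
  set a := x ^ 4 with ha'
  set b := y ^ 6 with hb'
  have habi : ((a * b : G) : G ⧸ Z) = e.symm (Cfsg.Agent.S3377.a5gen 0 * Cfsg.Agent.S3377.a5gen 1) := by
    rw [QuotientGroup.mk_mul, hxi, hyi, map_mul]
  have hcZ : (a * b) ^ 2 ∈ Z := (QuotientGroup.eq_one_iff _).1 (by
    rw [QuotientGroup.mk_pow, habi, ← map_pow, h2, map_one])
  -- the only involution of the group is central
  have hc1 : (a * b) ^ 2 ≠ 1 := by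
    intro h
    have hne : a * b ∉ Z := fun hm => n2 (e.symm.injective (by
      rw [← habi, map_one, (QuotientGroup.eq_one_iff _).2 hm]))
    have hz : ∃ z : G, z ∈ Z ∧ z ≠ 1 ∧ z ^ 2 = 1 := by
      obtain ⟨z, hz⟩ := exists_prime_orderOf_dvd_card' (G := Z) 2 (by rw [hz2])
      exact ⟨z, z.2, fun e => by
        rw [show z = 1 from Subtype.ext e, orderOf_one] at hz
        norm_num at hz, congrArg Subtype.val (hz ▸ pow_orderOf_eq_one z)⟩
    obtain ⟨z, hzZ, hz1, hz2'⟩ := hz
    have hE : IsPGroup 2 (Subgroup.zpowers (a * b) ⊔ Subgroup.zpowers z : Subgroup G) := by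
      refine IsPGroup.to_sup_of_normal_right' ?_ ?_ (fun g _ => ?_)
      · refine IsPGroup.of_card (n := 1) ?_
        rw [Nat.card_zpowers, pow_one]
        exact orderOf_eq_prime h fun e => hne (e ▸ one_mem _)
      · refine IsPGroup.of_card (n := 1) ?_
        rw [Nat.card_zpowers, pow_one]
        exact orderOf_eq_prime hz2' hz1
      · refine Subgroup.centralizer_le_normalizer _ (Subgroup.mem_centralizer_iff.2 ?_)
        rintro _ ⟨i, rfl⟩
        exact (Subgroup.mem_center_iff.1 (Z.zpow_mem hzZ i) g).symm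
    obtain ⟨P, hP⟩ := hE.exists_le_sylow
    obtain ⟨eP⟩ := hS P
    have hu : ∀ w : G, ∀ hw : w ∈ (P : Subgroup G), w ^ 2 = 1 → w = 1 ∨
        eP ⟨w, hw⟩ = QuaternionGroup.a (2 : ZMod (2 * 2)) := by
      intro w hw h2w
      have : eP ⟨w, hw⟩ * eP ⟨w, hw⟩ = 1 := by
        rw [← map_mul, ← eP.map_one]
        exact congrArg eP (Subtype.ext (by show w * w = 1; rw [← pow_two, h2w]))
      rcases CfsgLib.Invol.quaternion_sq_one this with h | h
      · exact Or.inl (congrArg Subtype.val (eP.injective (h.trans eP.map_one.symm)))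
      · exact Or.inr h
    have m1 : a * b ∈ (P : Subgroup G) := hP (Subgroup.mem_sup_left (Subgroup.mem_zpowers _))
    have m2 : z ∈ (P : Subgroup G) := hP (Subgroup.mem_sup_right (Subgroup.mem_zpowers _))
    rcases hu _ m1 h with h1 | h1
    · exact hne (h1 ▸ one_mem _)
    · rcases hu _ m2 hz2' with h4 | h4
      · exact hz1 h4
      · have heq : a * b = z := congrArg Subtype.val (eP.injective (h1.trans h4.symm))
        exact hne (heq ▸ hzZ)
  refine ⟨a, b, (a * b) ^ 2, ha, hb, hsq _ ((QuotientGroup.eq_one_iff _).2 hcZ), (Subgroup.mem_center_iff.1 hcZ a).symm,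
    (Subgroup.mem_center_iff.1 hcZ b).symm, rfl, fun K hKa hKb => ?_⟩
  have hZK : Z ≤ K := by
    intro w hw
    have hmem : (a * b) ^ 2 ∈ K := pow_mem (K.mul_mem hKa hKb) 2
    rcases eq_or_ne w 1 with rfl | hw1
    · exact one_mem _
    · obtain ⟨u, v, huv, hall⟩ := Nat.card_eq_two_iff.1 hz2
      have : (⟨w, hw⟩ : Z) = ⟨_, hcZ⟩ := by
        rcases eq_or_ne (⟨w, hw⟩ : Z) ⟨_, hcZ⟩ with h | h
        · exact h
        · exfalso
          have n1 : (⟨w, hw⟩ : Z) ≠ 1 := fun e => hw1 (congrArg Subtype.val e)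
          have n2' : (⟨_, hcZ⟩ : Z) ≠ 1 := fun e => hc1 (congrArg Subtype.val e)
          haveI := Fintype.ofFinite Z
          have hcard2 : Fintype.card Z = 2 := by rw [← Nat.card_eq_fintype_card, hz2]
          have := Finset.card_le_univ ({1, ⟨w, hw⟩, ⟨_, hcZ⟩} : Finset Z)
          rw [hcard2,
            Finset.card_eq_three.2 ⟨_, _, _, n1.symm, n2'.symm, h, rfl⟩] at this
          omega
      rw [show w = (a * b) ^ 2 from congrArg Subtype.val this]
      exact hmem
  have hmap : K.map (QuotientGroup.mk' Z) = ⊤ := by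
    let L := (K.map (QuotientGroup.mk' Z)).map e.toMonoidHom
    have hLt : L = ⊤ := by
      have m0 : Cfsg.Agent.S3377.a5gen 0 ∈ L := ⟨_, ⟨a, hKa, rfl⟩, (congrArg e hxi).trans (e.apply_symm_apply _)⟩
      have m1 : Cfsg.Agent.S3377.a5gen 1 ∈ L := ⟨_, ⟨b, hKb, rfl⟩, (congrArg e hyi).trans (e.apply_symm_apply _)⟩
      haveI := Fact.mk Nat.prime_three
      haveI := Fact.mk Nat.prime_five
      have hd : ∀ g ∈ L, orderOf g ∣ Nat.card L := fun g hg =>
        Subgroup.orderOf_mk g hg ▸ orderOf_dvd_natCard (⟨g, hg⟩ : L)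
      have d3 := hd _ m0
      have d5 := hd _ m1
      have d2 := hd _ (L.mul_mem m0 m1)
      rw [orderOf_eq_prime h3 n3] at d3
      rw [orderOf_eq_prime h5 n5] at d5
      rw [orderOf_eq_prime h2 n2] at d2
      have h60 : Nat.card (alternatingGroup (Fin 5)) = 60 := (Nat.card_congr e.toEquiv).symm.trans hq60
      have hci := Subgroup.card_mul_index L
      rw [h60] at hci
      obtain ⟨k, hk⟩ : 30 ∣ Nat.card L := by omega
      rw [hk] at hci
      rcases (Nat.dvd_prime Nat.prime_two).1 (⟨k, by nlinarith⟩ : L.index ∣ 2) with h | h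
      · exact Subgroup.index_eq_one.1 h
      · haveI := Subgroup.normal_of_index_eq_two h
        haveI := alternatingGroup.isSimpleGroup_five
        rcases IsSimpleGroup.eq_bot_or_eq_top_of_normal L inferInstance with h' | h'
        · rw [h', Subgroup.index_bot, h60] at h
          omega
        · exact h'
    rw [eq_top_iff]
    intro q _
    obtain ⟨q', hq', hqe⟩ := (hLt ▸ Subgroup.mem_top (e q) : e q ∈ L)
    exact e.injective hqe ▸ hq'
  rw [eq_top_iff]
  intro g _
  obtain ⟨k, hk, hkg⟩ := (hmap ▸ Subgroup.mem_top (g : G ⧸ Z) : (g : G ⧸ Z) ∈ K.map (QuotientGroup.mk' Z))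
  have : k⁻¹ * g ∈ Z := QuotientGroup.eq.1 hkg
  rw [← mul_inv_cancel_left k g]
  exact K.mul_mem hk (hZK this)


/-- Every non-solvable group of order 120 whose Sylow 2-subgroups are quaternion of order 8 is isomorphic to SL(2,5), and SL(2,5) has the presentation ⟨x, y, z | x³ = y⁵ = z² = 1, z⁻¹xz = x, z⁻¹yz = y, (xy)² = z⟩. -/
theorem result :
    (∀ (G : Type*) [Group G] [Finite G], Nat.card G = 120 → ¬ Group.IsSolvable G →
      (∀ P : Sylow 2 G, Nonempty ((P : Subgroup G) ≃* QuaternionGroup 2)) →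
      Nonempty (G ≃* Matrix.SpecialLinearGroup (Fin 2) (ZMod 5))) ∧
    Nonempty (PresentedGroup ({FreeGroup.of (0 : Fin 3) ^ 3, FreeGroup.of (1 : Fin 3) ^ 5, FreeGroup.of (2 : Fin 3) ^ 2,
        (FreeGroup.of (2 : Fin 3))⁻¹ * FreeGroup.of 0 * FreeGroup.of 2 * (FreeGroup.of (0 : Fin 3))⁻¹,
        (FreeGroup.of (2 : Fin 3))⁻¹ * FreeGroup.of 1 * FreeGroup.of 2 * (FreeGroup.of (1 : Fin 3))⁻¹,
        (FreeGroup.of (0 : Fin 3) * FreeGroup.of 1) ^ 2 * (FreeGroup.of (2 : Fin 3))⁻¹} : Set (FreeGroup (Fin 3)))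
      ≃* Matrix.SpecialLinearGroup (Fin 2) (ZMod 5)) := by
  obtain ⟨a, b, c, ha, hb, hc, hca, hcb, hab, hgen⟩ := sl25_gens
  obtain ⟨e0⟩ := equiv_presented card_sl25 a b c ha hb hc hca hcb hab hgen
  refine ⟨fun G _ _ hG hns hS => ?_, ⟨e0⟩⟩
  obtain ⟨a', b', c', h1, h2, h3, h4, h5, h6, h7⟩ := exists_gens hG hns hS
  obtain ⟨e1⟩ := equiv_presented hG a' b' c' h1 h2 h3 h4 h5 h6 h7
  exact ⟨e1.symm.trans e0⟩

end Cfsg.Agent.S3378
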