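import Cfsg.Statements.S3381
import Mathlib

set_option autoImplicit false
open Cfsg

namespace Cfsg.Agent.S3381

/-- Let G be a finite group acting faithfully and linearly on a non-trivial finite vector space V over the field with q elements (q prime) so that every non-zero vector has a stabilizer of order 2, and suppose G has a central involution. Then V has q^(2r) elements for some r and G contains exactly q^r + 1 non-central involutions. -/
theorem result
    (q : ℕ) [Fact q.Prime] {V : Type*} [AddCommGroup V] [Module (ZMod q) V] [Finite V] [Nontrivial V]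
    {G : Type*} [Group G] [Finite G] (ρ : G →* (V ≃ₗ[ZMod q] V)) (hρ : Function.Injective ρ)
    (hstab : ∀ v : V, v ≠ 0 → Nat.card {g : G // ρ g v = v} = 2)
    (z : G) (hz : orderOf z = 2) (hzc : z ∈ Subgroup.center G) :
    ∃ r : ℕ, Nat.card V = q ^ (2 * r) ∧
      Nat.card {g : G // orderOf g = 2 ∧ g ∉ Subgroup.center G} = q ^ r + 1 := by
  classical
  haveI : Fintype V := Fintype.ofFinite V
  haveI : Fintype G := Fintype.ofFinite G
  have hq := (Fact.out : q.Prime)
  haveI : Module.Finite (ZMod q) V := Module.Finite.of_finite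
  -- stabilisers
  have huniq : ∀ v : V, v ≠ 0 → ∃ t : G, t ≠ 1 ∧ ρ t v = v ∧ ∀ g, ρ g v = v → g = 1 ∨ g = t := by
    intro v hv
    have h2 := hstab v hv
    have h1 : ρ 1 v = v := by rw [map_one]; rfl
    obtain ⟨a, b, hab, hall⟩ := Nat.card_eq_two_iff.1 h2
    have cases : ∀ g : G, ρ g v = v → g = a.1 ∨ g = b.1 := fun g hg => by
      have : (⟨g, hg⟩ : {g : G // ρ g v = v}) ∈ ({a, b} : Set _) := hall ▸ Set.mem_univ _
      rcases this with h | h
      · exact Or.inl (congrArg Subtype.val h)
      · exact Or.inr (congrArg Subtype.val h)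
    have hne : a.1 ≠ b.1 := fun e => hab (Subtype.ext e)
    rcases cases 1 h1 with h | h
    · exact ⟨b.1, fun e => hne (h.symm.trans e.symm), b.2, fun g hg => (cases g hg).imp (fun e => e.trans h.symm) id⟩
    · exact ⟨a.1, fun e => hne (e.trans h), a.2, fun g hg => (cases g hg).symm.imp (fun e => e.trans h.symm) id⟩
  have hsq : ∀ v : V, v ≠ 0 → ∀ g, ρ g v = v → g * g = 1 := by
    intro v hv g hg
    obtain ⟨t, ht1, htv, htu⟩ := huniq v hv
    have hgg : ρ (g * g) v = v := by rw [map_mul]; show ρ g (ρ g v) = v; rw [hg, hg]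
    rcases htu g hg with rfl | rfl
    · exact one_mul 1
    · rcases htu _ hgg with h | h
      · exact h
      · exact absurd (mul_eq_left.1 h) ht1
  have hcomm : ∀ {c : G}, c ∈ Subgroup.center G → ∀ g (v : V), ρ g (ρ c v) = ρ c (ρ g v) := fun {c} hc g v => by
    show (ρ g * ρ c) v = (ρ c * ρ g) v
    rw [← map_mul, ← map_mul, Subgroup.mem_center_iff.1 hc g]
  have invol2 : ∀ {t : G}, t * t = 1 → ∀ v : V, ρ t (ρ t v) = v := fun {t} ht v => by
    show (ρ t * ρ t) v = v
    rw [← map_mul, ht, map_one]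
    rfl
  -- a central involution is minus one
  have hminus : ∀ c : G, c * c = 1 → c ≠ 1 → c ∈ Subgroup.center G → q ≠ 2 ∧ ∀ v : V, ρ c v = -v := by
    intro c hc2 hc1 hcc
    have cv := invol2 hc2
    have key : ∀ w : V, w ≠ 0 → ρ c w = w → ∀ t : G, ρ t w = w → t = 1 ∨ t = c := by
      intro w hw hwc t htw
      obtain ⟨t', -, -, hu⟩ := huniq w hw
      rcases hu c hwc with e | e
      · exact absurd e hc1
      · exact e.symm ▸ hu t htw
    obtain ⟨v₁, hv₁⟩ : ∃ v : V, ρ c v ≠ v := by
      by_contra h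
      push Not at h
      exact hc1 (hρ (LinearEquiv.ext fun v => by rw [map_one]; exact h v))
    have hv₁0 : v₁ ≠ 0 := fun e => hv₁ (e ▸ map_zero _)
    -- no nonzero fixed point
    have hfix : ∀ w : V, ρ c w = w → w = 0 := by
      intro w hwc
      by_contra hw
      obtain ⟨t, ht1, htv, htu⟩ := huniq v₁ hv₁0
      have tt := invol2 (hsq v₁ hv₁0 t htv)
      have hw' : ρ c (w + ρ t w) = w + ρ t w := by rw [map_add, hwc, ← hcomm hcc, hwc]
      have htw' : ρ t (w + ρ t w) = w + ρ t w := by rw [map_add, tt, add_comm]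
      have htc : t ≠ c := fun e => hv₁ (e ▸ htv)
      by_cases hsum : w + ρ t w = 0
      · -- `t` negates `w`
        have htw : ρ t w = -w := eq_neg_of_add_eq_zero_right hsum
        have hne : w + w ≠ 0 ∨ w + w = 0 := (em _).symm
        rcases hne with h | h
        · -- odd characteristic: split `v₁`
          obtain ⟨u, hu⟩ : ∃ u : V, u = v₁ - ρ c v₁ := ⟨_, rfl⟩
          have hu0 : u ≠ 0 := hu ▸ sub_ne_zero.2 (Ne.symm hv₁)
          have huc : ρ c u = -u := by rw [hu, map_sub, cv, neg_sub]
          have hvv : u + w ≠ 0 := fun e => by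
            have := congrArg (ρ c) (eq_neg_of_add_eq_zero_left e)
            rw [huc, map_neg, hwc, ← eq_neg_of_add_eq_zero_left e] at this
            have e2 : u + u = 0 := by
              conv_lhs => arg 1; rw [← this]
              exact neg_add_cancel u
            have e3 : u = -w := eq_neg_of_add_eq_zero_left e
            rw [e3, ← neg_add, neg_eq_zero] at e2
            exact h e2
          obtain ⟨s, hs1, hsv, -⟩ := huniq (u + w) hvv
          have e1 := hcomm hcc s (u + w)
          rw [hsv, map_add, map_add, huc, hwc, map_neg] at e1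
          have e4 : ρ s u + ρ s w = u + w := by rw [← map_add]; exact hsv
          have hsw2 : ρ s w + ρ s w = w + w := by
            linear_combination (norm := abel) e4 + e1
          have hsw : ρ s (w + w) = w + w := by rw [map_add]; exact hsw2
          rcases key (w + w) h (by rw [map_add, hwc]) s hsw with e | e
          · exact hs1 e
          · subst e
            rw [map_add, huc, hwc] at hsv
            have e2 : u + u = 0 := by linear_combination (norm := abel) -hsv
            have e5 : ρ s (u + u) = -(u + u) := by rw [map_add, huc, neg_add]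
            have h2 : (2 : ZMod q) ≠ 0 := fun h2 => h (by rw [← two_smul (ZMod q) w, h2, zero_smul])
            have : (2 : ZMod q) • u = 0 := by rw [two_smul]; exact e2
            exact hu0 ((smul_eq_zero.1 this).resolve_left h2)
        · have hneg : -w = w := neg_eq_of_add_eq_zero_left h
          rcases key w hw hwc t (htw.trans hneg) with e | e
          · exact ht1 e
          · exact htc e
      · rcases key _ hsum hw' t htw' with e | e
        · exact ht1 e
        · exact htc e
    have hneg : ∀ v : V, ρ c v = -v := fun v =>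
      eq_neg_of_add_eq_zero_left ((add_comm _ _).trans (hfix (v + ρ c v) (by rw [map_add, cv, add_comm])))
    refine ⟨fun e => ?_, hneg⟩
    subst e
    refine hv₁ ?_
    rw [hneg, neg_eq_iff_add_eq_zero, ← two_smul (ZMod 2) v₁, show (2 : ZMod 2) = 0 from rfl, zero_smul]
  have hz2 : z * z = 1 := by rw [← pow_two, ← hz, pow_orderOf_eq_one]
  have hz1 : z ≠ 1 := fun e => by rw [e, orderOf_one] at hz; norm_num at hz
  obtain ⟨hq2, hneg⟩ := hminus z hz2 hz1 hzc
  have h2 : (2 : ZMod q) ≠ 0 := fun h => hq2 (((Nat.prime_dvd_prime_iff_eq hq Nat.prime_two).1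
    ((ZMod.natCast_eq_zero_iff 2 q).1 (by exact_mod_cast h))))
  let I := {g : G // orderOf g = 2 ∧ g ∉ Subgroup.center G}
  let F : G → Submodule (ZMod q) V := fun g => LinearMap.ker ((ρ g).toLinearMap - LinearMap.id)
  have hF : ∀ g v, v ∈ F g ↔ ρ g v = v := fun g v => by
    simp [F, sub_eq_zero]
  have hI : ∀ t : I, (t.1 * t.1 = 1) ∧ t.1 ≠ 1 := fun t =>
    ⟨by have := pow_orderOf_eq_one t.1; rwa [t.2.1, pow_two] at this, fun e => by
      have := t.2.1; rw [e, orderOf_one] at this; norm_num at this⟩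
  have hex : ∀ v : V, v ≠ 0 → ∃ t : I, v ∈ F t.1 ∧ ∀ s : I, v ∈ F s.1 → s = t := by
    intro v hv
    obtain ⟨t, ht1, htv, htu⟩ := huniq v hv
    have ht2 := hsq v hv t htv
    have htc : t ∉ Subgroup.center G := fun h => by
      have := (hminus t ht2 ht1 h).2 v
      rw [htv] at this
      have e : (2 : ZMod q) • v = 0 := by rw [two_smul]; nth_rewrite 1 [this]; exact neg_add_cancel v
      exact hv ((smul_eq_zero.1 e).resolve_left h2)
    refine ⟨⟨t, orderOf_eq_prime (by rw [pow_two]; exact ht2) ht1, htc⟩, (hF _ _).2 htv, fun s hs => ?_⟩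
    exact Subtype.ext ((htu s.1 ((hF _ _).1 hs)).resolve_left (hI s).2)
  have hdisj : ∀ t s : I, t ≠ s → F t.1 ⊓ F s.1 = ⊥ := fun t s hts => by
    rw [Submodule.eq_bot_iff]
    intro v hv
    by_contra h
    obtain ⟨u, -, hu⟩ := hex v h
    exact hts ((hu t hv.1).trans (hu s hv.2).symm)
  -- the companion involution
  have hneg' : ∀ t : I, ∃ t' : I, t' ≠ t ∧ ∀ v, ρ t'.1 v = -(ρ t.1 v) := by
    intro t
    have hv : ∀ v, ρ (z * t.1) v = -(ρ t.1 v) := fun v => by rw [map_mul]; exact hneg _
    have hc : z * t.1 ∉ Subgroup.center G := fun h => t.2.2 (by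
      have := mul_mem (inv_mem hzc) h
      rwa [inv_mul_cancel_left] at this)
    have h1 : z * t.1 ≠ 1 := fun h => hc (h ▸ one_mem _)
    have h2' : (z * t.1) ^ 2 = 1 := by
      rw [(show Commute z t.1 from (Subgroup.mem_center_iff.1 hzc t.1).symm).mul_pow, pow_two, pow_two,
        hz2, (hI t).1, one_mul]
    refine ⟨⟨z * t.1, orderOf_eq_prime h2' h1, hc⟩, fun e => hz1 ?_, hv⟩
    exact mul_eq_right.1 (congrArg Subtype.val e)
  let d : I → ℕ := fun t => Module.finrank (ZMod q) (F t.1)
  let n := Module.finrank (ZMod q) V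
  have hle : ∀ t s : I, t ≠ s → d t + d s ≤ n := fun t s hts => by
    have := Submodule.finrank_sup_add_finrank_inf_eq (F t.1) (F s.1)
    rw [hdisj t s hts, finrank_bot, add_zero] at this
    exact this ▸ Submodule.finrank_le _
  have hpair : ∀ t t' : I, t' ≠ t → (∀ v, ρ t'.1 v = -(ρ t.1 v)) → F t.1 ⊔ F t'.1 = ⊤ ∧ d t + d t' = n := by
    intro t t' ht' hv
    have hsup : F t.1 ⊔ F t'.1 = ⊤ := by
      rw [eq_top_iff]
      intro v _
      have e : v = (2 : ZMod q)⁻¹ • (v + ρ t.1 v) + (2 : ZMod q)⁻¹ • (v - ρ t.1 v) := by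
        rw [← smul_add, show v + ρ t.1 v + (v - ρ t.1 v) = (2 : ZMod q) • v by rw [two_smul]; abel,
          smul_smul, inv_mul_cancel₀ h2, one_smul]
      rw [e]
      refine Submodule.add_mem_sup (Submodule.smul_mem _ _ ((hF _ _).2 ?_)) (Submodule.smul_mem _ _ ((hF _ _).2 ?_))
      · rw [map_add, invol2 (hI t).1, add_comm]
      · rw [hv, map_sub, invol2 (hI t).1, neg_sub]
    refine ⟨hsup, ?_⟩
    have := Submodule.finrank_sup_add_finrank_inf_eq (F t.1) (F t'.1)
    rw [hdisj t t' ht'.symm, hsup, finrank_bot, add_zero, finrank_top] at this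
    exact this.symm
  have hhalf : ∀ t : I, d t + d t = n := by
    intro t
    obtain ⟨t', ht', hv⟩ := hneg' t
    obtain ⟨hsup, hdt⟩ := hpair t t' ht' hv
    by_contra hne
    -- every vector lies in one of the two eigenspaces
    have hall : ∀ v : V, v ∈ F t.1 ∨ v ∈ F t'.1 := by
      intro v
      rcases eq_or_ne v 0 with rfl | hv0
      · exact Or.inl (zero_mem _)
      obtain ⟨s, hs, -⟩ := hex v hv0
      by_contra hc
      push Not at hc
      have s1 : s ≠ t := fun e => hc.1 (e ▸ hs)
      have s2 : s ≠ t' := fun e => hc.2 (e ▸ hs)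
      obtain ⟨s', hs', hsv⟩ := hneg' s
      obtain ⟨-, hds⟩ := hpair s s' hs' hsv
      have s3 : s' ≠ t := fun e => s2 (by
        refine Subtype.ext (hρ (LinearEquiv.ext fun w => ?_))
        rw [hv, ← e, hsv, neg_neg])
      have s4 : s' ≠ t' := fun e => s1 (by
        refine Subtype.ext (hρ (LinearEquiv.ext fun w => ?_))
        have h3 := hsv w
        rw [e, hv, neg_inj] at h3
        exact h3.symm)
      have a := hle s t s1
      have b := hle s t' s2
      have c := hle s' t s3
      have e := hle s' t' s4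
      omega
    -- two proper subspaces cannot cover
    have hnt : F t.1 ≠ ⊤ := fun e => (hI t).2 (hρ (LinearEquiv.ext fun w => by
      rw [map_one]; exact (hF _ _).1 (e ▸ Submodule.mem_top)))
    have hnt' : F t'.1 ≠ ⊤ := fun e => (hI t').2 (hρ (LinearEquiv.ext fun w => by
      rw [map_one]; exact (hF _ _).1 (e ▸ Submodule.mem_top)))
    obtain ⟨a, ha⟩ : ∃ a : V, a ∉ F t.1 := by
      by_contra h; push Not at h; exact hnt (eq_top_iff.2 fun w _ => h w)
    obtain ⟨b, hb⟩ : ∃ b : V, b ∉ F t'.1 := by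
      by_contra h; push Not at h; exact hnt' (eq_top_iff.2 fun w _ => h w)
    have ha' := (hall a).resolve_left ha
    have hb' := (hall b).resolve_right hb
    rcases hall (a + b) with h | h
    · exact ha (by simpa using Submodule.sub_mem _ h hb')
    · exact hb (by simpa using Submodule.sub_mem _ h ha')
  obtain ⟨v₀, hv₀⟩ := exists_ne (0 : V)
  obtain ⟨t₀, ht₀, -⟩ := hex v₀ hv₀
  refine ⟨d t₀, ?_, ?_⟩
  · rw [two_mul, hhalf t₀, Module.natCard_eq_pow_finrank (K := ZMod q) (V := V), Nat.card_zmod]
  · have hdc : ∀ t : I, d t = d t₀ := fun t => by have := hhalf t; have := hhalf t₀; omega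
    have hcardF : ∀ t : I, Nat.card {v : F t.1 // v ≠ 0} = q ^ d t₀ - 1 := by
      intro t
      rw [Nat.card_eq_fintype_card, Fintype.card_subtype_compl, Fintype.card_subtype_eq,
        ← Nat.card_eq_fintype_card, Module.natCard_eq_pow_finrank (K := ZMod q), Nat.card_zmod]
      exact congrArg (fun k => q ^ k - 1) (hdc t)
    let e : (Σ t : I, {v : F t.1 // v ≠ 0}) ≃ {v : V // v ≠ 0} := by
      refine Equiv.ofBijective (fun p => ⟨(p.2.1 : V), fun h => p.2.2 (Subtype.ext h)⟩) ⟨?_, ?_⟩
      · rintro ⟨t, ⟨⟨v, hv⟩, hv0⟩⟩ ⟨s, ⟨⟨w, hw⟩, hw0⟩⟩ h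
        have h : v = w := congrArg Subtype.val h
        subst h
        have : t = s := by
          by_contra hne
          exact hv0 (Subtype.ext ((Submodule.eq_bot_iff _).1 (hdisj t s hne) v ⟨hv, hw⟩))
        subst this
        rfl
      · rintro ⟨v, hv⟩
        obtain ⟨t, ht, -⟩ := hex v hv
        exact ⟨⟨t, ⟨⟨v, ht⟩, fun h => hv (congrArg Subtype.val h)⟩⟩, rfl⟩
    have hcount := Nat.card_congr e
    rw [Nat.card_sigma, Finset.sum_congr rfl (fun t _ => hcardF t), Finset.sum_const, smul_eq_mul,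
      Finset.card_univ, ← Nat.card_eq_fintype_card, Nat.card_eq_fintype_card (α := {v : V // v ≠ 0}),
      Fintype.card_subtype_compl, Fintype.card_subtype_eq, ← Nat.card_eq_fintype_card (α := V),
      Module.natCard_eq_pow_finrank (K := ZMod q) (V := V), Nat.card_zmod,
      show Module.finrank (ZMod q) V = d t₀ * 2 from by rw [mul_two]; exact (hhalf t₀).symm, pow_mul] at hcount
    have hd1 : 1 ≤ d t₀ := Nat.one_le_iff_ne_zero.2 fun h0 => hv₀ ((Submodule.eq_bot_iff _).1
      (Submodule.finrank_eq_zero.1 h0) v₀ ht₀)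
    have hQ : 2 ≤ q ^ d t₀ := hq.two_le.trans (Nat.le_self_pow (by omega) q)
    have hsqsub : (q ^ d t₀) ^ 2 - 1 = (q ^ d t₀ + 1) * (q ^ d t₀ - 1) := by
      rw [← Nat.sq_sub_sq, one_pow]
    rw [hsqsub] at hcount
    exact Nat.eq_of_mul_eq_mul_right (by omega) hcount

end Cfsg.Agent.S3381
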