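import Cfsg.Statements.S3382
import Mathlib

set_option autoImplicit false
open Cfsg

namespace Cfsg.Agent.S3382

theorem fix_step {T : Type*} [Group T] (hT : IsPGroup 2 T) (φ : MulAut T) {r : ℕ} (hr : Odd r)
    (hφ : φ ^ r = 1) (H K : T → Prop) (hH : ∀ x, H x → φ x = x) (hK : ∀ x, K x → K (φ x))
    (hidx : ∀ x y, K x → ¬ H x → K y → ¬ H y → H (x⁻¹ * y)) : ∀ x, K x → φ x = x := by
  intro x hx
  by_cases hxH : H x
  · exact hH x hxH
  have h2 : ¬ H (φ x) := fun h => hxH (φ.injective (hH _ h) ▸ h)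
  obtain ⟨k, hk⟩ : ∃ k, k = x⁻¹ * φ x := ⟨_, rfl⟩
  have hkf : φ k = k := hH k (hk ▸ hidx x (φ x) hx hxH (hK x hx) h2)
  have hpow : ∀ j : ℕ, (φ ^ j) x = x * k ^ j := by
    intro j
    induction j with
    | zero => simp
    | succ j ih =>
      rw [pow_succ', MulAut.mul_apply, ih, map_mul, map_pow, hkf, show φ x = x * k by rw [hk, mul_inv_cancel_left],
        pow_succ', mul_assoc]
  have hkr : k ^ r = 1 := by
    have h := hpow r
    rw [hφ, MulAut.one_apply] at h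
    exact mul_eq_left.1 h.symm
  obtain ⟨e, he⟩ := hT k
  have hcop : Nat.Coprime r (2 ^ e) := Nat.Coprime.pow_right e (Nat.coprime_two_right.2 hr)
  have hk1 : k = 1 := by
    have := Nat.dvd_gcd (orderOf_dvd_of_pow_eq_one hkr) (orderOf_dvd_of_pow_eq_one he)
    rw [hcop.gcd_eq_one, Nat.dvd_one, orderOf_eq_one_iff] at this
    exact this
  rw [hk1] at hk
  exact (inv_mul_eq_one.1 hk.symm).symm


/-- the signed permutation matrices -/
def mats (q : ℕ) : List (Matrix (Fin 2) (Fin 2) (ZMod q)) :=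
  [!![1, 0; 0, 1], !![1, 0; 0, -1], !![-1, 0; 0, 1], !![-1, 0; 0, -1],
   !![0, 1; 1, 0], !![0, 1; -1, 0], !![0, -1; 1, 0], !![0, -1; -1, 0]]

theorem mats_facts (q : ℕ) (hq : q = 2 ∨ q = 3) :
    (∀ X ∈ mats q, ∀ Y ∈ mats q, X * X ≠ 1 → Y * Y ≠ 1 →
      (X * X = Y * Y ∧ X ^ 4 = 1 ∧ (X ^ 3 * Y = 1 ∨ X ^ 3 * Y = X * X))) ∧
    (∀ X ∈ mats q, ∀ Y ∈ mats q, X * X = 1 → Y * Y = 1 → X ≠ 1 → Y ≠ 1 →
      (∃ Z ∈ mats q, Z * Z ≠ 1 ∧ X = Z * Z) ∨ (∃ Z ∈ mats q, Z * Z ≠ 1 ∧ Y = Z * Z) ∨ X * Y * (X * Y) ≠ 1 ∨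
        X * Y = 1 ∨ ∃ Z ∈ mats q, Z * Z ≠ 1 ∧ X * Y = Z * Z) ∧
    (∀ Z ∈ mats q, Z * Z ≠ 1 → q = 3 ∧ (Z = !![0, -1; 1, 0] ∨ Z = !![0, -1; 1, 0] ^ 3)) := by
  rcases hq with rfl | rfl <;> refine ⟨?_, ?_, ?_⟩ <;> decide +kernel

theorem units_small (q : ℕ) (hq : q = 2 ∨ q = 3) : ∀ a : ZMod q, a ≠ 0 → a = 1 ∨ a = -1 := by
  rcases hq with rfl | rfl <;> decide

theorem small_case (q : ℕ) [Fact q.Prime]
    (T : Subgroup ((Fin 2 → ZMod q) ≃ₗ[ZMod q] (Fin 2 → ZMod q))) (hq : q = 2 ∨ q = 3)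
    (hT : ∀ f, f ∈ T ↔ ∃ a s : ZMod q, a ≠ 0 ∧ (s = 1 ∨ s = -1) ∧
      ((∀ v, f v = ![a * v 0, s * a⁻¹ * v 1]) ∨ (∀ v, f v = ![s * a⁻¹ * v 1, a * v 0])))
    (φ : MulAut T)
    (step : ∀ H K : T → Prop, (∀ x, H x → φ x = x) → (∀ x, K x → K (φ x)) →
      (∀ x y, K x → ¬ H x → K y → ¬ H y → H (x⁻¹ * y)) → ∀ x, K x → φ x = x) :
    ∀ x, φ x = x := by
  classical
  let ψ : T →* Matrix (Fin 2) (Fin 2) (ZMod q) :=
    (LinearMap.toMatrixAlgEquiv' (R := ZMod q) (n := Fin 2)).toMonoidHom.comp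
      { toFun := fun f => (f.1 : (Fin 2 → ZMod q) →ₗ[ZMod q] (Fin 2 → ZMod q))
        map_one' := rfl
        map_mul' := fun f g => rfl }
  have hψ : Function.Injective ψ := fun f g h => Subtype.ext (LinearEquiv.toLinearMap_injective
    (LinearMap.toMatrixAlgEquiv'.injective h))
  obtain ⟨L, hL⟩ : ∃ L : List (Matrix (Fin 2) (Fin 2) (ZMod q)), L = mats q := ⟨_, rfl⟩
  have hmem : ∀ f : T, ψ f ∈ L := by
    intro f
    obtain ⟨a, s, ha, hs, h⟩ := (hT f.1).1 f.2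
    have hu : a = 1 ∨ a = -1 := units_small q hq a ha
    have e : ∀ i j, ψ f i j = f.1 (Pi.single j 1) i := fun i j => by
      show LinearMap.toMatrix' (f.1 : (Fin 2 → ZMod q) →ₗ[ZMod q] (Fin 2 → ZMod q)) i j = _
      rw [LinearMap.toMatrix'_apply]
      congr 1
    rcases h with h | h <;> rcases hu with rfl | rfl <;> rcases hs with rfl | rfl <;>
      rw [hL, mats] <;> simp only [List.mem_cons, List.not_mem_nil, or_false] <;>
      [left; (right; left); (right; right; right; left); (right; right; left);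
       (right; right; right; right; left); (right; right; right; right; right; right; left);
       (right; right; right; right; right; right; right); (right; right; right; right; right; left)] <;>
      ext i j <;> rw [e, h] <;> fin_cases i <;> fin_cases j <;> simp
  obtain ⟨d1, d2, d3⟩ := mats_facts q hq
  subst hL
  have inL : ∀ Z ∈ mats q, ∀ x : T, Z * Z ≠ 1 → ψ x = Z * Z → (∃ y : T, ψ y = Z) → ∃ y, y * y ≠ 1 ∧ x = y * y :=
    fun Z _ x hz hx ⟨y, hy⟩ => ⟨y, fun e => hz (by rw [← hy, ← map_mul, e, map_one]),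
      hψ (by rw [hx, map_mul, hy])⟩
  have hne : ∀ x : T, x ≠ 1 → ψ x ≠ 1 := fun x hx h => hx (hψ (h.trans (map_one ψ).symm))
  let H1 : T → Prop := fun x => x = 1 ∨ ∃ y, y * y ≠ 1 ∧ x = y * y
  let C : T → Prop := fun x => H1 x ∨ x * x ≠ 1
  have hH1 : ∀ x, H1 x → φ x = x := by
    refine step (fun x => x = 1) H1 (fun x hx => by rw [hx, map_one]) ?_ ?_
    · rintro x (rfl | ⟨y, hy, rfl⟩)
      · left; exact map_one φ
      · exact Or.inr ⟨φ y, fun e => hy (φ.injective (by rw [map_mul, e, map_one])), map_mul φ y y⟩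
    · intro x y hx hx1 hy hy1
      obtain ⟨u, hu, rfl⟩ := hx.resolve_left hx1
      obtain ⟨w, hw, rfl⟩ := hy.resolve_left hy1
      have := (d1 _ (hmem u) _ (hmem w) (by rw [← map_mul]; exact hne _ hu) (by rw [← map_mul]; exact hne _ hw)).1
      rw [← map_mul, ← map_mul] at this
      show (u * u)⁻¹ * (w * w) = 1
      rw [hψ this, inv_mul_cancel]
  have hC : ∀ x, C x → φ x = x := by
    refine step H1 C hH1 ?_ ?_
    · rintro x (hx | hx)
      · exact Or.inl ((hH1 x hx).symm ▸ hx)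
      · exact Or.inr fun e => hx (φ.injective (by rw [map_mul, e, map_one]))
    · intro x y hx hx1 hy hy1
      have nx := hx.resolve_left hx1
      have ny := hy.resolve_left hy1
      obtain ⟨e1, e4, e⟩ := d1 _ (hmem x) _ (hmem y) (by rw [← map_mul]; exact hne _ nx) (by rw [← map_mul]; exact hne _ ny)
      have hx4 : x ^ 4 = 1 := hψ (by rw [map_pow, e4, map_one])
      have hxi : x⁻¹ = x ^ 3 := inv_eq_of_mul_eq_one_right (by rw [← pow_succ']; exact hx4)
      rw [hxi]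
      rcases e with e | e
      · exact Or.inl (hψ (by rw [map_mul, map_pow, e, map_one]))
      · exact Or.inr ⟨x, nx, hψ (by rw [map_mul, map_pow, e, map_mul])⟩
  intro x
  refine step C (fun _ => True) hC (fun _ _ => trivial) ?_ x trivial
  intro x y _ hx _ hy
  have sx : x * x = 1 := by by_contra h; exact hx (Or.inr h)
  have sy : y * y = 1 := by by_contra h; exact hy (Or.inr h)
  have nx : x ≠ 1 := fun h => hx (Or.inl (Or.inl h))
  have ny : y ≠ 1 := fun h => hy (Or.inl (Or.inl h))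
  have hsurj : ∀ Z ∈ mats q, ∀ x : T, Z * Z ≠ 1 → ψ x = Z * Z → H1 x := by
    intro Z hZ x hz hx'
    refine Or.inr (inL Z hZ x hz hx' ?_)
    obtain ⟨h3, hW⟩ := d3 Z hZ hz
    subst h3
    let e : (Fin 2 → ZMod 3) ≃ₗ[ZMod 3] (Fin 2 → ZMod 3) :=
      { toFun := fun v => ![-v 1, v 0]
        invFun := fun v => ![v 1, -v 0]
        map_add' := fun v w => by ext i; fin_cases i <;> simp <;> ring
        map_smul' := fun c v => by ext i; fin_cases i <;> simp
        left_inv := fun v => by ext i; fin_cases i <;> simp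
        right_inv := fun v => by ext i; fin_cases i <;> simp }
    have he : e ∈ T := (hT e).2 ⟨1, -1, one_ne_zero, Or.inr rfl, Or.inr fun v => by
      ext i; fin_cases i <;> simp [e]⟩
    have he' : ψ ⟨e, he⟩ = !![0, -1; 1, 0] := by
      ext i j
      show LinearMap.toMatrix' (e : (Fin 2 → ZMod 3) →ₗ[ZMod 3] (Fin 2 → ZMod 3)) i j = _
      rw [LinearMap.toMatrix'_apply]
      fin_cases i <;> fin_cases j <;> simp [e]
    rcases hW with rfl | rfl
    · exact ⟨⟨e, he⟩, he'⟩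
    · exact ⟨⟨e, he⟩ ^ 3, by rw [map_pow, he']⟩
  rw [inv_eq_of_mul_eq_one_right sx]
  rcases d2 _ (hmem x) _ (hmem y) (by rw [← map_mul, sx, map_one]) (by rw [← map_mul, sy, map_one]) (hne _ nx) (hne _ ny)
    with ⟨Z, hZ, hz, e⟩ | ⟨Z, hZ, hz, e⟩ | e | e | ⟨Z, hZ, hz, e⟩
  · exact absurd (Or.inl (hsurj Z hZ x hz e)) hx
  · exact absurd (Or.inl (hsurj Z hZ y hz e)) hy
  · exact Or.inr fun h => e (by rw [← map_mul, ← map_mul, h, map_one])
  · exact Or.inl (Or.inl (hψ (by rw [map_mul, e, map_one])))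
  · exact Or.inl (hsurj Z hZ _ hz (by rw [map_mul, e]))

/-- Let q = 2^m + 1 be a prime other than 5. Then the automorphism group of the group of linear maps of F_q² of the forms (x, y) ↦ (a x, ± a⁻¹ y) and (x, y) ↦ (± a⁻¹ y, a x) with a ≠ 0 is itself a 2-group. -/
theorem result (q m : ℕ) [Fact q.Prime] (hq : q = 2 ^ m + 1) (hq5 : q ≠ 5)
    (T : Subgroup ((Fin 2 → ZMod q) ≃ₗ[ZMod q] (Fin 2 → ZMod q)))
    (hT : ∀ f, f ∈ T ↔ ∃ a s : ZMod q, a ≠ 0 ∧ (s = 1 ∨ s = -1) ∧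
      ((∀ v, f v = ![a * v 0, s * a⁻¹ * v 1]) ∨ (∀ v, f v = ![s * a⁻¹ * v 1, a * v 0]))) :
    IsPGroup 2 (MulAut T) := by
  classical
  have hqp := (Fact.out : q.Prime)
  haveI : Finite T := Finite.of_injective (fun f : T => ((f : (Fin 2 → ZMod q) ≃ₗ[ZMod q] (Fin 2 → ZMod q)) :
      (Fin 2 → ZMod q) → (Fin 2 → ZMod q)))
    fun f g h => Subtype.ext (LinearEquiv.ext fun v => congrFun h v)
  haveI : Finite (MulAut T) := Finite.of_injective (fun f : MulAut T => (f : T → T)) DFunLike.coe_injective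
  -- coordinates of an element
  let Dg : T → ZMod q → ZMod q → Prop := fun f a s =>
    ∀ v, (f : (Fin 2 → ZMod q) ≃ₗ[ZMod q] (Fin 2 → ZMod q)) v = ![a * v 0, s * a⁻¹ * v 1]
  let An : T → ZMod q → ZMod q → Prop := fun f a s =>
    ∀ v, (f : (Fin 2 → ZMod q) ≃ₗ[ZMod q] (Fin 2 → ZMod q)) v = ![s * a⁻¹ * v 1, a * v 0]
  let Ok : ZMod q → ZMod q → Prop := fun a s => a ≠ 0 ∧ (s = 1 ∨ s = -1)
  have cases : ∀ f : T, ∃ a s, Ok a s ∧ (Dg f a s ∨ An f a s) := fun f => by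
    obtain ⟨a, s, ha, hs, h⟩ := (hT f).1 f.2
    exact ⟨a, s, ⟨ha, hs⟩, h⟩
  have okmul : ∀ {a s b t}, Ok a s → Ok b t → Ok (a * b) (s * t) := fun {a s b t} h h' => by
    refine ⟨mul_ne_zero h.1 h'.1, ?_⟩
    rcases h.2 with rfl | rfl <;> rcases h'.2 with rfl | rfl <;> simp
  have mkD : ∀ a s, Ok a s → ∃ f : T, Dg f a s := by
    intro a s ⟨ha, hs⟩
    have hs2 : s * s = 1 := by rcases hs with rfl | rfl <;> simp
    let e : (Fin 2 → ZMod q) ≃ₗ[ZMod q] (Fin 2 → ZMod q) :=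
      { toFun := fun v => ![a * v 0, s * a⁻¹ * v 1]
        invFun := fun v => ![a⁻¹ * v 0, s * a * v 1]
        map_add' := fun v w => by ext i; fin_cases i <;> simp [mul_add]
        map_smul' := fun c v => by ext i; fin_cases i <;> simp <;> ring
        left_inv := fun v => by
          ext i; fin_cases i <;> simp [← mul_assoc, inv_mul_cancel₀ ha]
          rw [show s * a * s * a⁻¹ = (s * s) * (a * a⁻¹) by ring, hs2, mul_inv_cancel₀ ha]; simp
        right_inv := fun v => by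
          ext i; fin_cases i <;> simp [← mul_assoc, mul_inv_cancel₀ ha]
          rw [show s * a⁻¹ * s * a = (s * s) * (a⁻¹ * a) by ring, hs2, inv_mul_cancel₀ ha]; simp }
    exact ⟨⟨e, (hT e).2 ⟨a, s, ha, hs, Or.inl fun v => rfl⟩⟩, fun v => rfl⟩
  have ext2 : ∀ {f g : T} {a s}, Dg f a s → Dg g a s → f = g := fun {f g a s} h h' =>
    Subtype.ext (LinearEquiv.ext fun v => (h v).trans (h' v).symm)
  have one_D : Dg 1 1 1 := fun v => by
    rw [inv_one, one_mul, one_mul, one_mul]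
    ext i; fin_cases i <;> rfl
  have DD : ∀ {f g : T} {a s b t}, Dg f a s → Dg g b t → Dg (f * g) (a * b) (s * t) := fun {f g a s b t} h h' v => by
    show f.1 (g.1 v) = _
    rw [h', h]; simp only [Matrix.cons_val_zero, Matrix.cons_val_one]; rw [mul_inv]; ext i; fin_cases i <;> simp <;> ring
  have AA : ∀ {f g : T} {a s b t}, Ok a s → An f a s → An g b t → Dg (f * g) (s * a⁻¹ * b) (s * t) := fun {f g a s b t} ho h h' v => by
    show f.1 (g.1 v) = _
    rw [h', h]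
    ext i
    rcases ho.2 with hs | hs <;> subst hs <;> fin_cases i <;> simp [mul_inv] <;> ring
  have Dmap : ∀ {f : T} {a s}, Dg f a s → ∀ j : ℕ, Dg (f ^ j) (a ^ j) (s ^ j) := by
    intro f a s h j
    induction j with
    | zero => simpa using one_D
    | succ j ih => rw [pow_succ, pow_succ, pow_succ]; exact DD ih h
  have Duniq : ∀ {f : T} {a s b t}, a ≠ 0 → Dg f a s → Dg f b t → a = b ∧ s = t := fun {f a s b t} ha h h' => by
    have e0 := congrFun ((h ![1, 1]).symm.trans (h' ![1, 1])) 0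
    have e1 := congrFun ((h ![1, 1]).symm.trans (h' ![1, 1])) 1
    simp at e0 e1
    exact ⟨e0, by rw [← e0] at e1; exact mul_right_cancel₀ (inv_ne_zero ha) e1⟩
  have notBoth : ∀ {f : T} {a s b t}, a ≠ 0 → Dg f a s → An f b t → False := fun {f a s b t} ha h h' => by
    have e0 := congrFun ((h ![1, 0]).symm.trans (h' ![1, 0])) 0
    simp at e0
    exact ha e0
  have ferm : ∀ a : ZMod q, a ≠ 0 → a ^ 2 ^ m = 1 := fun a ha => by
    have := ZMod.pow_card_sub_one_eq_one ha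
    rwa [show q - 1 = 2 ^ m by rw [hq, Nat.add_sub_cancel]] at this
  have sq1 : ∀ {a s}, Ok a s → s * s = 1 := fun {a s} h => by rcases h.2 with rfl | rfl <;> simp
  have Asq : ∀ {f : T} {a s}, Ok a s → An f a s → Dg (f * f) s 1 := fun {f a s} ho h => by
    have := AA ho h h
    rwa [sq1 ho, mul_assoc, inv_mul_cancel₀ ho.1, mul_one] at this
  have A4 : ∀ {f : T} {a s}, Ok a s → An f a s → f ^ 4 = 1 := fun {f a s} ho h => by
    have h2 := DD (Asq ho h) (Asq ho h)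
    rw [sq1 ho, one_mul] at h2
    rw [show f ^ 4 = f * f * (f * f) by simp [pow_succ, mul_assoc]]
    exact ext2 h2 one_D
  have hP : IsPGroup 2 T := fun f => by
    obtain ⟨a, s, ho, h | h⟩ := cases f
    · refine ⟨m + 1, ext2 (Dmap h _) ?_⟩
      rw [pow_succ, pow_mul, pow_mul, ferm a ho.1, one_pow, pow_two, ← mul_pow, sq1 ho] at *
      simpa [one_pow] using one_D
    · exact ⟨2, A4 ho h⟩
  refine IsPGroup.of_card (n := (Nat.card (MulAut T)).primeFactorsList.length)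
    (Nat.eq_prime_pow_of_unique_prime_dvd Nat.card_pos.ne' fun {r} hr hrd => ?_)
  by_contra hr2
  haveI := Fact.mk hr
  obtain ⟨φ, hφo⟩ := exists_prime_orderOf_dvd_card' (G := MulAut T) r hrd
  have hodd : Odd r := hr.eq_two_or_odd'.resolve_left hr2
  have hφr : φ ^ r = 1 := hφo ▸ pow_orderOf_eq_one φ
  suffices hall : ∀ x, φ x = x by
    have : φ = 1 := MulEquiv.ext hall
    rw [this, orderOf_one] at hφo
    exact hr.one_lt.ne hφo
  have step := fix_step hP φ hodd hφr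
  have hm2 : m ≠ 2 := fun e => hq5 (by rw [hq, e]; norm_num)
  have hneg : ∀ x : ZMod q, x * x = 1 → x ≠ 1 → x = -1 := fun x h h1 =>
    (mul_self_eq_one_iff.1 h).resolve_left h1
  have Dmk : ∀ x : T, ∀ a s, Ok a s → An x a s → ∀ y : T, ∀ b t, Ok b t → An y b t →
      ∃ c u, Ok c u ∧ Dg (x⁻¹ * y) c u := by
    intro x a s ho h y b t ho' h'
    obtain ⟨c, u, ho2, hd | hd⟩ := cases (x⁻¹ * y)
    · exact ⟨c, u, ho2, hd⟩
    · exfalso
      have hz := AA ho h hd
      rw [mul_inv_cancel_left] at hz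
      exact notBoth (mul_ne_zero (mul_ne_zero (fun e => by
        rcases ho.2 with hs | hs <;> rw [e] at hs <;> simp at hs) (inv_ne_zero ho.1)) ho2.1) hz h'
  have Ddiv : ∀ {x y : T} {a s b t}, Ok a s → Dg x a s → Dg y b t → Dg (x⁻¹ * y) (a⁻¹ * b) (s * t) := by
    intro x y a s b t ho h h'
    have hok : Ok a⁻¹ s := ⟨inv_ne_zero ho.1, ho.2⟩
    obtain ⟨i, hi⟩ := mkD _ _ hok
    have h1 := DD h hi
    rw [mul_inv_cancel₀ ho.1, sq1 ho] at h1
    rw [inv_eq_of_mul_eq_one_right (ext2 h1 one_D)]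
    exact DD hi h'
  rcases Nat.lt_or_ge m 3 with hm | hm
  · -- `q = 2` or `q = 3`
    exact small_case q T (by interval_cases m <;> omega) hT φ step
  · -- `m ≥ 3`
    haveI : Fact (2 < q) := ⟨by
      have : 2 ^ 3 ≤ 2 ^ m := Nat.pow_le_pow_right (by norm_num) hm
      omega⟩
    obtain ⟨ω, hω0, hω⟩ : ∃ ω : ZMod q, ω ≠ 0 ∧ ω ^ 2 ^ (m - 1) ≠ 1 := by
      obtain ⟨g, hg⟩ := IsCyclic.exists_ofOrder_eq_natCard (α := (ZMod q)ˣ)
      rw [Nat.card_eq_fintype_card, ZMod.card_units, show q - 1 = 2 ^ m by rw [hq, Nat.add_sub_cancel]] at hg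
      refine ⟨g, g.ne_zero, fun h => ?_⟩
      have := Nat.le_of_dvd (pow_pos two_pos _) (orderOf_dvd_of_pow_eq_one (Units.ext (by simpa using h) : g ^ 2 ^ (m - 1) = 1))
      rw [hg, Nat.pow_le_pow_iff_right (by norm_num)] at this
      omega
    have hω4 : ω ^ 4 ≠ 1 := fun h => hω (by
      rw [show m - 1 = m - 3 + 2 by omega, pow_add, show (2 : ℕ) ^ (m - 3) * 2 ^ 2 = 4 * 2 ^ (m - 3) by ring,
        pow_mul, h, one_pow])
    let A : T → Prop := fun x => ∃ a s, Ok a s ∧ Dg x a s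
    have hgen : ∀ s, Ok ω s → ∀ g : T, Dg g ω s → A (φ g) := by
      intro s ho g hg
      obtain ⟨b, t, hob, hb | hb⟩ := cases (φ g)
      · exact ⟨b, t, hob, hb⟩
      · exfalso
        have e := A4 hob hb
        rw [← map_pow] at e
        have e4 : g ^ 4 = 1 := φ.injective (e.trans (map_one φ).symm)
        have hd := Dmap hg 4
        rw [e4] at hd
        exact hω4 (Duniq one_ne_zero one_D hd).1.symm
    have Amul : ∀ x y, A x → A y → A (x * y) := fun x y ⟨a, s, ho, h⟩ ⟨b, t, ho', h'⟩ =>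
      ⟨a * b, s * t, okmul ho ho', DD h h'⟩
    have hdl : ∀ a : ZMod q, a ≠ 0 → ∃ j : ℕ, a = ω ^ j := by
      intro a ha
      obtain ⟨g, hg⟩ := IsCyclic.exists_generator (α := (ZMod q)ˣ)
      have hgo : orderOf (Units.mk0 ω hω0) = 2 ^ m := by
        haveI := Fact.mk Nat.prime_two
        rw [show m = (m - 1) + 1 by omega]
        refine orderOf_eq_prime_pow (fun h => hω ?_) (Units.ext ?_)
        · simpa using congrArg Units.val h
        · rw [show (m - 1) + 1 = m by omega]; simpa using ferm ω hω0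
      have htop : Subgroup.zpowers (Units.mk0 ω hω0) = ⊤ := by
        refine Subgroup.eq_top_of_card_eq _ ?_
        rw [Nat.card_zpowers, hgo, Nat.card_eq_fintype_card, ZMod.card_units]
        omega
      obtain ⟨j, hj⟩ := mem_powers_iff_mem_zpowers.2 (htop ▸ Subgroup.mem_top (Units.mk0 a ha) :
        Units.mk0 a ha ∈ Subgroup.zpowers (Units.mk0 ω hω0))
      exact ⟨j, by simpa using (congrArg Units.val hj).symm⟩
    have hAinv : ∀ x, A x → A (φ x) := by
      rintro x ⟨a, s, ho, h⟩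
      obtain ⟨gp, hgp⟩ := mkD ω 1 ⟨hω0, Or.inl rfl⟩
      obtain ⟨gm, hgm⟩ := mkD ω (-1) ⟨hω0, Or.inr rfl⟩
      have Ap : ∀ j : ℕ, A (φ (gp ^ j)) := by
        intro j
        induction j with
        | zero => rw [pow_zero, map_one]; exact ⟨1, 1, ⟨one_ne_zero, Or.inl rfl⟩, one_D⟩
        | succ j ih => rw [pow_succ, map_mul]; exact Amul _ _ ih (hgen 1 ⟨hω0, Or.inl rfl⟩ gp hgp)
      rcases ho.2 with hs | hs
      · obtain ⟨j, rfl⟩ := hdl a ho.1
        rw [ext2 h (show Dg (gp ^ j) (ω ^ j) s by simpa [hs] using Dmap hgp j)]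
        exact Ap j
      · obtain ⟨j, hj⟩ := hdl (a * ω⁻¹) (mul_ne_zero ho.1 (inv_ne_zero hω0))
        have e := DD (Dmap hgp j) hgm
        rw [one_pow, one_mul, ← hj, mul_assoc, inv_mul_cancel₀ hω0, mul_one, ← hs] at e
        rw [ext2 h e, map_mul]
        exact Amul _ _ (Ap j) (hgen (-1) ⟨hω0, Or.inr rfl⟩ gm hgm)
    let S : ℕ → T → Prop := fun i x => (∃ y, A y ∧ y * y = x) ∧ x ^ 2 ^ i = 1
    have hS : ∀ i x, S i x → ∃ c : ZMod q, c ≠ 0 ∧ c ^ 2 ^ i = 1 ∧ c ^ 2 ^ (m - 1) = 1 ∧ Dg x c 1 := by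
      rintro i x ⟨⟨y, ⟨b, t, ho, hy⟩, rfl⟩, hxi⟩
      have h := DD hy hy
      rw [sq1 ho] at h
      refine ⟨b * b, mul_ne_zero ho.1 ho.1, ?_, ?_, h⟩
      · have := Dmap h (2 ^ i)
        rw [hxi] at this
        exact (Duniq one_ne_zero one_D this).1.symm
      · rw [← pow_two, ← pow_mul, ← pow_succ', show m - 1 + 1 = m by omega]
        exact ferm b ho.1
    have hSmk : ∀ (x : T) (c : ZMod q), c ≠ 0 → Dg x c 1 → c ^ 2 ^ (m - 1) = 1 → ∀ i, c ^ 2 ^ i = 1 → S i x := by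
      intro x c hc hx hc1 i hci
      refine ⟨?_, ext2 (Dmap hx _) (by rw [hci, one_pow]; exact one_D)⟩
      obtain ⟨j, rfl⟩ := hdl c hc
      obtain ⟨k, rfl⟩ : Even j := by
        by_contra hj
        obtain ⟨k, rfl⟩ := Nat.not_even_iff_odd.1 hj
        refine hω ?_
        rw [← pow_mul, show (2 * k + 1) * 2 ^ (m - 1) = 2 ^ (m - 1 + 1) * k + 2 ^ (m - 1) by rw [pow_succ]; ring,
          pow_add, show m - 1 + 1 = m by omega, pow_mul, ferm ω hω0, one_pow, one_mul] at hc1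
        exact hc1
      obtain ⟨y, hy⟩ := mkD (ω ^ k) 1 ⟨pow_ne_zero _ hω0, Or.inl rfl⟩
      refine ⟨y, ⟨_, _, ⟨pow_ne_zero _ hω0, Or.inl rfl⟩, hy⟩, ext2 (DD hy hy) ?_⟩
      rw [← pow_add, one_mul]
      exact hx
    have hSfix : ∀ i, ∀ x, S i x → φ x = x := by
      intro i
      induction i with
      | zero => rintro x ⟨-, hx⟩; rw [pow_zero, pow_one] at hx; rw [hx, map_one]
      | succ i ih =>
        refine step (S i) (S (i + 1)) ih
          (fun x ⟨⟨y, hy, hyx⟩, hx⟩ => ⟨⟨φ y, hAinv y hy, by rw [← map_mul, hyx]⟩, by rw [← map_pow, hx, map_one]⟩) ?_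
        intro x y hx hxn hy hyn
        obtain ⟨a, ha, hai, ham, hxa⟩ := hS _ _ hx
        obtain ⟨b, hb, hbi, hbm, hyb⟩ := hS _ _ hy
        have na : a ^ 2 ^ i = -1 := hneg _ (by rw [← pow_add, ← mul_two, ← pow_succ, hai]) fun h =>
          hxn (hSmk x a ha hxa ham i h)
        have nb : b ^ 2 ^ i = -1 := hneg _ (by rw [← pow_add, ← mul_two, ← pow_succ, hbi]) fun h =>
          hyn (hSmk y b hb hyb hbm i h)
        have hd := Ddiv ⟨ha, Or.inl rfl⟩ hxa hyb
        rw [one_mul] at hd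
        refine hSmk _ _ (mul_ne_zero (inv_ne_zero ha) hb) hd ?_ i ?_
        · rw [mul_pow, inv_pow, ham, hbm, inv_one, one_mul]
        · rw [mul_pow, inv_pow, na, nb, inv_mul_cancel₀ (neg_ne_zero.2 one_ne_zero)]
    let Om : T → Prop := fun x => A x ∧ x ^ 2 ^ (m - 1) = 1
    have hev : ∀ s : ZMod q, (s = 1 ∨ s = -1) → s ^ 2 ^ (m - 1) = 1 := fun s hs => by
      rcases hs with rfl | rfl
      · exact one_pow _
      · exact Even.neg_one_pow (Nat.even_pow.2 ⟨even_two, by omega⟩)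
    have hOm : ∀ x, Om x → φ x = x := by
      refine step (S (m - 1)) Om (hSfix _) (fun x ⟨h1, h2⟩ => ⟨hAinv x h1, by rw [← map_pow, h2, map_one]⟩) ?_
      rintro x y ⟨⟨a, s, ho, hx⟩, hxp⟩ hxn ⟨⟨b, t, ho', hy⟩, hyp⟩ hyn
      have ha1 : a ^ 2 ^ (m - 1) = 1 := by
        have := Dmap hx (2 ^ (m - 1)); rw [hxp] at this; exact (Duniq one_ne_zero one_D this).1.symm
      have hb1 : b ^ 2 ^ (m - 1) = 1 := by
        have := Dmap hy (2 ^ (m - 1)); rw [hyp] at this; exact (Duniq one_ne_zero one_D this).1.symm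
      have hs : s = -1 := ho.2.resolve_left fun h => hxn (hSmk x a ho.1 (h ▸ hx) ha1 _ ha1)
      have ht : t = -1 := ho'.2.resolve_left fun h => hyn (hSmk y b ho'.1 (h ▸ hy) hb1 _ hb1)
      have hd := Ddiv ho hx hy
      rw [hs, ht, neg_mul_neg, one_mul] at hd
      exact hSmk _ _ (mul_ne_zero (inv_ne_zero ho.1) ho'.1) hd (by rw [mul_pow, inv_pow, ha1, hb1, inv_one, one_mul]) _
        (by rw [mul_pow, inv_pow, ha1, hb1, inv_one, one_mul])
    have hAfix : ∀ x, A x → φ x = x := by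
      refine step Om A hOm hAinv ?_
      rintro x y ⟨a, s, ho, hx⟩ hxn ⟨b, t, ho', hy⟩ hyn
      have nn : ∀ (z : T) (c u : ZMod q), Ok c u → Dg z c u → ¬ Om z → c ^ 2 ^ (m - 1) = -1 := by
        intro z c u hoc hz hzn
        refine hneg _ (by rw [← pow_add, ← mul_two, ← pow_succ, show m - 1 + 1 = m by omega, ferm c hoc.1]) fun h => hzn ?_
        exact ⟨⟨c, u, hoc, hz⟩, ext2 (Dmap hz _) (by rw [h, hev u hoc.2]; exact one_D)⟩
      have hd := Ddiv ho hx hy
      have hok : Ok (a⁻¹ * b) (s * t) := okmul ⟨inv_ne_zero ho.1, ho.2⟩ ho'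
      refine ⟨⟨_, _, hok, hd⟩, ext2 (Dmap hd _) ?_⟩
      rw [mul_pow, inv_pow, nn x a s ho hx hxn, nn y b t ho' hy hyn, inv_mul_cancel₀ (neg_ne_zero.2 one_ne_zero),
        hev _ hok.2]
      exact one_D
    intro x
    refine step A (fun _ => True) hAfix (fun _ _ => trivial) ?_ x trivial
    intro x y _ hx _ hy
    obtain ⟨a, s, ho, h | h⟩ := cases x
    · exact absurd ⟨a, s, ho, h⟩ hx
    obtain ⟨b, t, ho', h' | h'⟩ := cases y
    · exact absurd ⟨b, t, ho', h'⟩ hy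
    obtain ⟨c, u, hoc, hd⟩ := Dmk x a s ho h y b t ho' h'
    exact ⟨c, u, hoc, hd⟩

end Cfsg.Agent.S3382
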