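import Cfsg.Statements.S3390
import Cfsg.Agent.Lib.Char.FixityTwo.LocalTwo
import Cfsg.Agent.Lib.Char.FixityTwo.SignKernel

set_option autoImplicit false
open Cfsg

namespace Cfsg.Agent.S3390

/-- Let G be a finite group acting faithfully and transitively on a finite set Ω with fixity 2 (every non-identity element fixes at most two points, and some fixes exactly two). Let α ∈ Ω and S a Sylow 2-subgroup of G. Then one of the following holds: the stabilizer S_α of α in S is trivial; S is dihedral or semidihedral and either |S_α| = 2 or |S : S_α| = 2; |S| ≥ 4, S has exactly one orbit of size 2 on Ω, every other S-orbit is regular, and G has a normal subgroup of index 2 or of index |S| which is a Frobenius group; or S ≤ G_α. -/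
theorem result {G : Type*} [Group G] [Finite G] {Ω : Type*} [Fintype Ω] [MulAction G Ω] [FaithfulSMul G Ω] (htr : MulAction.IsPretransitive G Ω)
    (hfix : ∀ g : G, g ≠ 1 → Nat.card (MulAction.fixedBy Ω g) ≤ 2) (hex : ∃ g : G, g ≠ 1 ∧ Nat.card (MulAction.fixedBy Ω g) = 2) (α : Ω) (S : Sylow 2 G) :
    (S : Subgroup G) ⊓ MulAction.stabilizer G α = ⊥ ∨
    (((∃ n : ℕ, Nonempty (↥(S : Subgroup G) ≃* DihedralGroup n)) ∨ Cfsg.IsQuasiDihedral ↥(S : Subgroup G)) ∧
       (Nat.card ↥((S : Subgroup G) ⊓ MulAction.stabilizer G α) = 2 ∨ ((S : Subgroup G) ⊓ MulAction.stabilizer G α).relIndex (S : Subgroup G) = 2)) ∨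
    (4 ≤ Nat.card (S : Subgroup G) ∧
       (∃ ω : Ω, Nat.card (MulAction.orbit ↥(S : Subgroup G) ω) = 2 ∧
          ∀ ω' : Ω, ω' ∉ MulAction.orbit ↥(S : Subgroup G) ω → Nat.card (MulAction.orbit ↥(S : Subgroup G) ω') = Nat.card (S : Subgroup G)) ∧
       ∃ N : Subgroup G, N.Normal ∧ (N.index = 2 ∨ N.index = Nat.card (S : Subgroup G)) ∧ (∃ H : Subgroup ↥N, Cfsg.IsFrobeniusComplement H)) ∨
    (S : Subgroup G) ≤ MulAction.stabilizer G α := by
  classical
  haveI : Finite Ω := Finite.of_fintype Ω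
  have hfixS : ∀ g : ↥(S : Subgroup G), g ≠ 1 → Nat.card (MulAction.fixedBy Ω g) ≤ 2 := fun g hg => by
    have e : MulAction.fixedBy Ω g = MulAction.fixedBy Ω (g : G) := Set.ext fun _ => Iff.rfl
    rw [e]
    exact hfix g.1 fun h => hg (Subtype.ext h)
  set P := (S : Subgroup G) with hP
  have est : MulAction.stabilizer ↥P α = (P ⊓ MulAction.stabilizer G α).subgroupOf P := by
    ext g
    rw [Subgroup.mem_subgroupOf, Subgroup.mem_inf]
    exact ⟨fun h => ⟨g.2, h⟩, fun h => h.2⟩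
  have ecard : Nat.card ↥(P ⊓ MulAction.stabilizer G α) = Nat.card (MulAction.stabilizer ↥P α) := by
    rw [est, Nat.card_congr (Subgroup.subgroupOfEquivOfLe inf_le_left).toEquiv]
  have erel : (P ⊓ MulAction.stabilizer G α).relIndex P = (MulAction.stabilizer ↥P α).index := by
    rw [est, Subgroup.relIndex]
  by_cases hT : MulAction.stabilizer ↥P α = ⊥
  · left
    rw [est, Subgroup.subgroupOf_eq_bot, disjoint_iff] at hT
    rwa [inf_eq_left.2 inf_le_left] at hT
  by_cases hT' : MulAction.stabilizer ↥P α = ⊤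
  · refine Or.inr (Or.inr (Or.inr fun g hg => ?_))
    exact (show (⟨g, hg⟩ : ↥P) ∈ MulAction.stabilizer ↥P α from hT' ▸ Subgroup.mem_top _)
  obtain ⟨β, hne, hβ, ⟨u, hu⟩, hF, hA⟩ := CfsgLib.Char.FixityTwo.stab_dichotomy S.2 hfixS α hT hT'
  rcases hA with ⟨horb, hind⟩ | ⟨hc, hsh⟩
  swap
  · exact Or.inr (Or.inl ⟨hsh, Or.inl (ecard.trans hc)⟩)
  set T := MulAction.stabilizer ↥P α
  have hPcard : Nat.card ↥P = Nat.card T * 2 := by rw [← T.card_mul_index, hind]
  have hT2 : 2 ≤ Nat.card T := T.one_lt_card_iff_ne_bot.2 hT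
  by_cases hreg : ∀ ω : Ω, ω ≠ α → ω ≠ β → MulAction.stabilizer ↥P ω = ⊥
  · refine Or.inr (Or.inr (Or.inl ⟨by omega, ⟨α, ?_, fun ω hω => ?_⟩, ?_⟩))
    · rw [← hind]; exact (MulAction.index_stabilizer ↥P α).symm.trans rfl
    · have h1 : ω ≠ α := fun h => hω (by rw [h]; exact MulAction.mem_orbit_self α)
      have h2 : ω ≠ β := fun h => hω (by rw [h, ← hu]; exact MulAction.mem_orbit α u)
      have h := MulAction.index_stabilizer ↥P ω
      rw [hreg ω h1 h2, Subgroup.index_bot] at h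
      exact h.symm
    · obtain ⟨N, hN, hN2, hH⟩ := CfsgLib.Char.FixityTwo.exists_normal_index_two hfix S hne hu horb hind hT hβ hreg
      exact ⟨N, hN, Or.inl hN2, hH⟩
  push Not at hreg
  obtain ⟨ω, h1, h2, hR⟩ := hreg
  refine Or.inr (Or.inl ⟨?_, Or.inr (erel.trans hind)⟩)
  set R := MulAction.stabilizer ↥P ω
  have hdisj : ∀ x : ↥P, x ∈ T → x ∈ R → x = 1 := by
    intro x hxT hxR
    by_contra hx
    rcases hF x hxT hx ω hxR with h | h
    · exact h1 h
    · exact h2 h
  have hR' : R ≠ ⊤ := by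
    intro h
    exact hT (T.eq_bot_iff_forall.2 fun x hx => hdisj x hx (h ▸ Subgroup.mem_top x))
  obtain ⟨δ, -, -, -, -, hB⟩ := CfsgLib.Char.FixityTwo.stab_dichotomy S.2 hfixS ω hR hR'
  rcases hB with ⟨-, hRind⟩ | ⟨-, hsh⟩
  swap
  · exact hsh
  -- both stabilisers have index two and meet trivially: the group is a four-group
  have hRle : Nat.card R ≤ 2 := by
    have hinj : Function.Injective fun r : ↥R => (QuotientGroup.mk r.1 : ↥P ⧸ T) := by
      intro a b h
      have h' := hdisj _ (QuotientGroup.eq.1 h) (mul_mem (inv_mem a.2) b.2)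
      exact Subtype.ext (inv_mul_eq_one.1 h')
    have h := Nat.card_le_card_of_injective _ hinj
    rwa [← Subgroup.index_eq_card, hind] at h
  have hRcard : Nat.card ↥P = Nat.card R * 2 := by rw [← R.card_mul_index, hRind]
  have h4 : Nat.card ↥P = 4 := by omega
  obtain ⟨r, hrR, hr⟩ := R.ne_bot_iff_exists_ne_one.1 hR |> fun ⟨x, hx⟩ =>
    (⟨x.1, x.2, fun h => hx (Subtype.ext h)⟩ : ∃ r, r ∈ R ∧ r ≠ 1)
  haveI : Fact (Nat.Prime 2) := ⟨Nat.prime_two⟩
  have hcomm : ∀ a b : ↥P, a * b = b * a :=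
    IsPGroup.commutative_of_card_eq_prime_sq (p := 2) (by rw [h4]; norm_num)
  have hsq : ∀ {H : Subgroup ↥P}, Nat.card H = 2 → ∀ x ∈ H, x * x = 1 := by
    intro H hH x hx
    have h := pow_card_eq_one' (G := ↥H) (x := ⟨x, hx⟩)
    rw [hH, pow_two] at h
    exact congrArg Subtype.val h
  have hrr : r * r = 1 := hsq (by omega) r hrR
  have hexp : ∀ g : ↥P, g * g = 1 := by
    intro g
    by_cases hg : g ∈ T
    · exact hsq (by omega) g hg
    · have hgr : g * r ∈ T := by
        rw [Subgroup.mul_mem_iff_of_index_two hind]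
        exact ⟨fun h => absurd h hg, fun h => absurd (hdisj r h hrR) hr⟩
      have h := hsq (by omega) _ hgr
      rwa [show g * r * (g * r) = (g * g) * (r * r) by rw [mul_assoc, ← mul_assoc r g r, hcomm r g, mul_assoc g r r, ← mul_assoc],
        hrr, mul_one] at h
  haveI : Nontrivial ↥P := Finite.one_lt_card_iff_nontrivial.1 (by omega)
  haveI : IsKleinFour ↥P := ⟨h4, by
    refine Monoid.exponent_eq_prime_iff Nat.prime_two |>.2 fun g hg => ?_
    rw [orderOf_eq_prime_iff, pow_two]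
    exact ⟨hexp g, hg⟩⟩
  exact Or.inl ⟨2, IsKleinFour.nonempty_mulEquiv⟩

end Cfsg.Agent.S3390
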