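import Cfsg.Statements.S3391
import Cfsg.Agent.Lib.Lie.Suz.Sub.Fixity
-- import your own Cfsg.Agent.* helpers here

set_option autoImplicit false
open Cfsg

open CfsgLib.Lie

namespace Cfsg.Agent.S3391

/-- Let q = 2^{2m+1} ≥ 8 and let G be isomorphic to the Suzuki group Sz(q). If G acts faithfully and transitively on a finite set Ω with fixity 2 (every non-identity element fixes at most two points, and some fixes exactly two), then either |Ω| = q² + 1 and the action is 2-transitive, or |Ω| = q²(q² + 1) and the point stabilizers have order q − 1. -/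
theorem result {G : Type*} [Group G] [Finite G] (F : Type) [Field F] [Fintype F] (m : ℕ) (hm : 1 ≤ m) (hF : Fintype.card F = 2 ^ (2 * m + 1))
    (e : G ≃* ↥(Cfsg.Lie.Sz F (2 ^ (m + 1)))) {Ω : Type*} [Fintype Ω] [MulAction G Ω] [FaithfulSMul G Ω] (htr : MulAction.IsPretransitive G Ω)
    (hfix : ∀ g : G, g ≠ 1 → Nat.card (MulAction.fixedBy Ω g) ≤ 2) (hex : ∃ g : G, g ≠ 1 ∧ Nat.card (MulAction.fixedBy Ω g) = 2) :
    (Fintype.card Ω = Fintype.card F ^ 2 + 1 ∧ MulAction.IsMultiplyPretransitive G Ω 2) ∨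
    (Fintype.card Ω = Fintype.card F ^ 2 * (Fintype.card F ^ 2 + 1) ∧ ∀ α : Ω, Nat.card (MulAction.stabilizer G α) = Fintype.card F - 1) := by
  classical
  obtain ⟨t⟩ := Suz.exists_twEquiv hm hF
  let ψ : ↥(Cfsg.Sz F m) ≃* G := t.trans e.symm
  letI : MulAction ↥(Cfsg.Sz F m) Ω := MulAction.compHom Ω ψ.toMonoidHom
  have hs : ∀ (g : ↥(Cfsg.Sz F m)) (w : Ω), g • w = ψ g • w := fun _ _ => rfl
  have hf : ∀ g : ↥(Cfsg.Sz F m), g ≠ 1 → Nat.card (MulAction.fixedBy Ω g) ≤ 2 := fun g hg =>
    hfix (ψ g) fun h => hg ((map_eq_one_iff ψ ψ.injective).1 h)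
  obtain ⟨g0, hg0, hc0⟩ := hex
  obtain ⟨⟨α, hα⟩⟩ : Nonempty (MulAction.fixedBy Ω g0) := (Nat.card_pos_iff.1 (by omega)).1
  set H := MulAction.stabilizer ↥(Cfsg.Sz F m) α with hHdef
  have hbot : H ≠ ⊥ := fun h => hg0 (by
    have h1 : ψ.symm g0 ∈ H := by
      rw [hHdef, MulAction.mem_stabilizer_iff, hs, MulEquiv.apply_symm_apply]; exact hα
    rw [h, Subgroup.mem_bot] at h1
    rw [← ψ.apply_symm_apply g0, h1, map_one])
  have htop : H ≠ ⊤ := fun h => by
    have hall : ∀ g : G, g • α = α := fun g => by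
      have h1 : ψ.symm g ∈ H := h ▸ Subgroup.mem_top _
      rw [hHdef, MulAction.mem_stabilizer_iff, hs, MulEquiv.apply_symm_apply] at h1
      exact h1
    haveI : Subsingleton Ω := ⟨fun x y => by
      obtain ⟨g, rfl⟩ := htr.exists_smul_eq α x
      obtain ⟨g', rfl⟩ := htr.exists_smul_eq α y
      rw [hall, hall]⟩
    have h2 : Nat.card (MulAction.fixedBy Ω g0) ≤ 1 := Finite.card_le_one_iff_subsingleton.2 inferInstance
    omega
  haveI : MulAction.IsPretransitive ↥(Cfsg.Sz F m) Ω := ⟨fun x y => by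
    obtain ⟨g, hg⟩ := htr.exists_smul_eq x y
    exact ⟨ψ.symm g, by rw [hs, MulEquiv.apply_symm_apply]; exact hg⟩⟩
  have hO : Fintype.card Ω * Nat.card ↥H =
      Fintype.card F ^ 2 * (Fintype.card F ^ 2 + 1) * (Fintype.card F - 1) := by
    rw [← Suz.card_Sz hm hF, ← Nat.card_eq_fintype_card,
      ← MulAction.index_stabilizer_of_transitive ↥(Cfsg.Sz F m) α, mul_comm, ← hHdef]
    exact H.card_mul_index
  have h8 := Suz.eight_le_q hF hm
  rcases Suz.fixity_stab hm hF hf α hbot htop with ⟨p, hp⟩ | hcard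
  · left
    have hH : Nat.card ↥H = Fintype.card F ^ 2 * (Fintype.card F - 1) := by
      rw [← Suz.card_stab hm hF p]
      exact Nat.card_congr (Equiv.subtypeEquivRight fun g => hp g)
    refine ⟨Nat.eq_of_mul_eq_mul_right (show 0 < Fintype.card F ^ 2 * (Fintype.card F - 1) from
      Nat.mul_pos (pow_pos (by omega) 2) (by omega)) ?_, ?_⟩
    · rw [← hH, hO]
      rw [hH]
      ring
    · have htr' := fun x => MulAction.exists_smul_eq ↥(Cfsg.Sz F m) α x
      choose c hc using htr'
      have key : ∀ x y : Ω, ∀ g : ↥(Cfsg.Sz F m), g • x = y ↔ g • (c x • p) = c y • p := by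
        intro x y g
        have h1 := hp ((c y)⁻¹ * (g * c x))
        rw [mul_smul, mul_smul, hc, inv_smul_eq_iff, hc, mul_smul, mul_smul, inv_smul_eq_iff] at h1
        exact h1
      have hinj : ∀ x y : Ω, c x • p = c y • p → x = y := fun x y h => by
        have := (key x y 1).2 (by rw [one_smul, h])
        rwa [one_smul] at this
      haveI h2t := Suz.two_trans hF (m := m)
      refine MulAction.is_two_pretransitive_iff.2 fun {a b x y} hab hxy => ?_
      obtain ⟨g, hga, hgb⟩ := MulAction.is_two_pretransitive_iff.1 h2t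
        (fun h => hab (hinj a b h)) (fun h => hxy (hinj x y h))
      exact ⟨ψ g, (key a x g).2 hga, (key b y g).2 hgb⟩
  · right
    refine ⟨Nat.eq_of_mul_eq_mul_right (show 0 < Fintype.card F - 1 by omega)
      ((congrArg (Fintype.card Ω * ·) hcard.symm).trans hO), fun β => ?_⟩
    obtain ⟨g, rfl⟩ := htr.exists_smul_eq α β
    rw [← hcard, MulAction.stabilizer_smul_eq_stabilizer_map_conj,
      Subgroup.card_map_of_injective (MulAut.conj g).injective]
    exact (Nat.card_congr (Equiv.subtypeEquiv ψ.toEquiv fun _ => Iff.rfl)).symm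

end Cfsg.Agent.S3391
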