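import Cfsg.Statements.S3718
import Cfsg.Agent.Lib.OneComposite.Core
import Cfsg.Agent.Lib.OneComposite.Numeric
import Cfsg.Agent.S2497
import Cfsg.Agent.S2475
import Cfsg.Agent.S0252
import Cfsg.Agent.S0253
import Cfsg.Agent.S0254
import Cfsg.Agent.S0330
-- import your own Cfsg.Agent.* helpers here

set_option autoImplicit false
open Cfsg

namespace Cfsg.Agent.S3718

/-- Let G be a finite simple group whose set of element orders contains at most one composite number (at most one element order that is neither 1 nor a prime). Then G is cyclic of prime order, or isomorphic to PSL₂(q) for q ∈ {5, 7, 8, 9, 11, 13, 16}, to PSL₃(4), to the Suzuki group Sz(8), to PSL₂(3ⁿ) with (3ⁿ − 1)/2 and (3ⁿ + 1)/4 both prime, or to PSL₂(2ⁿ) with 2ⁿ − 1 and (2ⁿ + 1)/3 both prime. -/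
theorem result {G : Type*} [Group G] [Finite G] [IsSimpleGroup G]
    (h1 : {n : ℕ | n ∈ Set.range (orderOf : G → ℕ) ∧ 1 < n ∧ ¬ n.Prime}.Subsingleton) :
    (Nat.card G).Prime ∨
    (∃ (F : Type) (_ : Field F) (_ : Fintype F), (Fintype.card F = 5 ∨ Fintype.card F = 7 ∨ Fintype.card F = 8 ∨ Fintype.card F = 9 ∨
        Fintype.card F = 11 ∨ Fintype.card F = 13 ∨ Fintype.card F = 16) ∧ Nonempty (G ≃* Matrix.ProjectiveSpecialLinearGroup (Fin 2) F)) ∨
    (∃ (F : Type) (_ : Field F) (_ : Fintype F), Fintype.card F = 4 ∧ Nonempty (G ≃* Matrix.ProjectiveSpecialLinearGroup (Fin 3) F)) ∨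
    (∃ (F : Type) (_ : Field F) (_ : Fintype F), Fintype.card F = 8 ∧ Nonempty (G ≃* ↥(Cfsg.Lie.Sz F 4))) ∨
    (∃ (F : Type) (_ : Field F) (_ : Fintype F), ∃ n r s : ℕ, r.Prime ∧ s.Prime ∧ 3 ^ n - 1 = 2 * r ∧ 3 ^ n + 1 = 4 * s ∧
        Fintype.card F = 3 ^ n ∧ Nonempty (G ≃* Matrix.ProjectiveSpecialLinearGroup (Fin 2) F)) ∨
    (∃ (F : Type) (_ : Field F) (_ : Fintype F), ∃ n r : ℕ, (2 ^ n - 1).Prime ∧ r.Prime ∧ 2 ^ n + 1 = 3 * r ∧
        Fintype.card F = 2 ^ n ∧ Nonempty (G ≃* Matrix.ProjectiveSpecialLinearGroup (Fin 2) F)) := by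
  classical
  by_cases hp : (Nat.card G).Prime
  · exact Or.inl hp
  refine Or.inr ?_
  have hna : ¬ IsMulCommutative G := fun hc => hp (by
    haveI := hc
    letI : CommGroup G :=
      { (inferInstance : Group G) with mul_comm := fun a b => IsMulCommutative.is_comm.comm a b }
    exact IsSimpleGroup.prime_card)
  have hone : ∀ a b : ℕ, a ∈ Set.range (orderOf : G → ℕ) → b ∈ Set.range (orderOf : G → ℕ) →
      1 < a → ¬ a.Prime → 1 < b → ¬ b.Prime → a = b :=
    fun a b ha hb ha1 ha2 hb1 hb2 => h1 ⟨ha, ha1, ha2⟩ ⟨hb, hb1, hb2⟩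
  have hdiv : ∀ (g : G) (d : ℕ), d ∣ orderOf g → d ∈ Set.range (orderOf : G → ℕ) := fun g d hd =>
    ⟨g ^ (orderOf g / d), orderOf_pow_orderOf_div (orderOf_pos g).ne' hd⟩
  by_cases hE : ∀ g : G, g ≠ 1 → IsPrimePow (orderOf g)
  · -- all orders are prime powers
    rcases Cfsg.Agent.S2497.result hna hE with ⟨⟨e⟩⟩ | ⟨F, iF, iF', hF, ⟨e⟩⟩ | h | ⟨F, iF, iF', h⟩
    · letI : Fintype (GaloisField 3 2) := Fintype.ofFinite _
      have hK : Fintype.card (GaloisField 3 2) = 9 := by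
        rw [← Nat.card_eq_fintype_card, GaloisField.card 3 2 (by norm_num)]; norm_num
      exact Or.inl ⟨GaloisField 3 2, inferInstance, inferInstance, by rw [hK]; decide,
        ⟨e.trans (Cfsg.Agent.S0254.result hK).some.symm⟩⟩
    · simp only [Finset.mem_insert, Finset.mem_singleton] at hF
      rcases hF with hF | hF | hF | hF
      · haveI : Fact (Nat.Prime 5) := ⟨Nat.prime_five⟩
        exact Or.inl ⟨ZMod 5, inferInstance, inferInstance, by rw [ZMod.card]; decide,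
          ⟨(e.trans (Cfsg.Agent.S0252.result hF).some).trans
            (Cfsg.Agent.S0253.result (ZMod.card 5)).some.symm⟩⟩
      · exact Or.inl ⟨F, iF, iF', Or.inr (Or.inl hF), ⟨e⟩⟩
      · exact Or.inl ⟨F, iF, iF', Or.inr (Or.inr (Or.inl hF)), ⟨e⟩⟩
      · -- orders four and eight
        exfalso
        haveI : Fact (Nat.Prime 17) := ⟨by norm_num⟩
        haveI : CharP F 17 := by
          obtain ⟨p, hc⟩ := CharP.exists F
          haveI := hc
          obtain ⟨n, hpp, hn⟩ := FiniteField.card F p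
          rw [hF] at hn
          have : p = 17 := ((Nat.prime_dvd_prime_iff_eq hpp (by norm_num)).1 (hn ▸ dvd_pow_self p n.ne_zero))
          exact this ▸ hc
        have hr : ∀ d, d ∣ 8 → d ∈ Set.range (orderOf : G → ℕ) := by
          intro d hd
          have hmem : d ∈ Set.range (orderOf : Matrix.ProjectiveSpecialLinearGroup (Fin 2) F → ℕ) := by
            rw [Cfsg.Agent.S2475.result 17 (by omega), hF]
            exact Or.inr (Or.inl hd)
          obtain ⟨x, hx⟩ := hmem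
          exact ⟨e.symm x, by rw [MulEquiv.orderOf_eq, hx]⟩
        have := hone 4 8 (hr 4 (by norm_num)) (hr 8 dvd_rfl) (by norm_num) (by norm_num) (by norm_num)
          (by norm_num)
        omega
    · exact Or.inr (Or.inl h)
    · rcases h with ⟨hF, he⟩ | ⟨hF, ⟨e⟩⟩
      · exact Or.inr (Or.inr (Or.inl ⟨F, iF, iF', hF, he⟩))
      · -- orders four and twenty-five
        exfalso
        have hF' : Fintype.card F = 2 ^ (2 * 2 + 1) := by rw [hF]; norm_num
        obtain ⟨e'⟩ := CfsgLib.Lie.Suz.exists_twEquiv (F := F) (m := 2) (by norm_num) hF'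
        have e2 : G ≃* Cfsg.Sz F 2 := e.trans e'.symm
        haveI : Finite (Cfsg.Sz F 2) := Finite.of_equiv _ e2.toEquiv
        obtain ⟨T, hT, hcard, -⟩ := CfsgLib.Lie.Suz.exists_tori (m := 2) (by norm_num) hF' (k := 25)
          (Or.inr (by norm_num))
        haveI := CfsgLib.Lie.Suz.torus_cyclic (by norm_num) hF' hT
        obtain ⟨g, hg⟩ := IsCyclic.exists_ofOrder_eq_natCard (α := T)
        rw [hcard, ← Subgroup.orderOf_coe] at hg
        have h25 : 25 ∈ Set.range (orderOf : G → ℕ) := ⟨e2.symm g, by rw [MulEquiv.orderOf_eq, hg]⟩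
        haveI : Fact (Nat.Prime 2) := ⟨Nat.prime_two⟩
        have hexp := (Cfsg.Agent.S0330.result (m := 2) (by norm_num) hF' (default : Sylow 2 (Cfsg.Sz F 2))).2.1
        obtain ⟨x, hx⟩ : ∃ x : ((default : Sylow 2 (Cfsg.Sz F 2)) : Subgroup (Cfsg.Sz F 2)), x ^ 2 ≠ 1 := by
          by_contra hcon
          push Not at hcon
          have := Monoid.exponent_dvd_of_forall_pow_eq_one hcon
          exact absurd (hexp ▸ this) (by norm_num)
        have h4 : orderOf x = 4 := by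
          have hd : orderOf x ∣ 2 ^ 2 := by
            refine orderOf_dvd_of_pow_eq_one ?_
            exact (congrArg (x ^ ·) (show (2 : ℕ) ^ 2 = _ from hexp.symm)).trans (Monoid.pow_exponent_eq_one x)
          obtain ⟨i, hi, hi'⟩ := (Nat.dvd_prime_pow Nat.prime_two).1 hd
          interval_cases i
          · exact absurd (by rw [orderOf_eq_one_iff.1 hi', one_pow]) hx
          · exact absurd (orderOf_dvd_iff_pow_eq_one.1 hi'.dvd) hx
          · exact hi'
        rw [← Subgroup.orderOf_coe] at h4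
        have h4' : 4 ∈ Set.range (orderOf : G → ℕ) := ⟨e2.symm x, by rw [MulEquiv.orderOf_eq, h4]⟩
        have := hone 4 25 h4' h25 (by norm_num) (by norm_num) (by norm_num) (by norm_num)
        omega
  -- the composite order is a product of two primes
  push Not at hE
  obtain ⟨g, hg1, hg⟩ := hE
  obtain ⟨p₁, hp₁, hp₁g⟩ := Nat.exists_prime_and_dvd (fun e => hg1 (orderOf_eq_one_iff.1 e))
  obtain ⟨p₂, hp₂, hp₂g, hne⟩ : ∃ p₂ : ℕ, p₂.Prime ∧ p₂ ∣ orderOf g ∧ p₂ ≠ p₁ := by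
    by_contra hcon
    push Not at hcon
    exact hg (isPrimePow_iff_unique_prime_dvd.2 ⟨p₁, ⟨hp₁, hp₁g⟩, fun y hy => hcon y hy.1 hy.2⟩)
  have hm : p₁ * p₂ ∈ Set.range (orderOf : G → ℕ) :=
    hdiv g _ (((Nat.coprime_primes hp₁ hp₂).2 hne.symm).mul_dvd_of_dvd_of_dvd hp₁g hp₂g)
  have hm1 : 1 < p₁ * p₂ := lt_of_lt_of_le hp₁.one_lt (Nat.le_mul_of_pos_right _ hp₂.pos)
  have hm2 : ¬ (p₁ * p₂).Prime := Nat.not_prime_mul hp₁.ne_one hp₂.ne_one
  have hall : ∀ x : G, orderOf x = 1 ∨ (orderOf x).Prime ∨ orderOf x = p₁ * p₂ := by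
    intro x
    by_contra hcon
    push Not at hcon
    exact hcon.2.2 (hone _ _ ⟨x, rfl⟩ hm (by have := orderOf_pos x; omega) hcon.2.1 hm1 hm2)
  by_cases h2 : 2 ∣ p₁ * p₂
  · -- the composite order is `2r`
    obtain ⟨r, hr, hr2, hmr⟩ : ∃ r : ℕ, r.Prime ∧ r ≠ 2 ∧ p₁ * p₂ = 2 * r := by
      rcases Nat.prime_two.dvd_mul.1 h2 with h | h
      · have e := (Nat.prime_dvd_prime_iff_eq Nat.prime_two hp₁).1 h
        exact ⟨p₂, hp₂, fun e' => hne (e'.trans e), by rw [e]⟩
      · have e := (Nat.prime_dvd_prime_iff_eq Nat.prime_two hp₂).1 h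
        exact ⟨p₁, hp₁, fun e' => hne (e.symm.trans e'.symm), by rw [e, mul_comm]⟩
    rw [hmr] at hm hall hm1 hm2
    have hS : CfsgLib.OneComposite.Spec G r :=
      { prime := hr
        ne_two := hr2
        two := fun x hx => by
          rcases hall x with h | h | h
          · omega
          · exact Or.inl ((Nat.prime_dvd_prime_iff_eq Nat.prime_two h).1 hx).symm
          · exact Or.inr h
        mult := fun x hx => by
          rcases hall x with h | h | h
          · rw [h] at hx; exact absurd hx hr.not_dvd_one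
          · exact Or.inl ((Nat.prime_dvd_prime_iff_eq hr h).1 hx).symm
          · exact Or.inr h }
    obtain ⟨g', hg'⟩ := hm
    obtain ⟨F, iF, iF', hodd, h5, ⟨e⟩⟩ := hS.iso_psl2_odd hna hg'
    obtain ⟨p, hc⟩ := CharP.exists F
    haveI := hc
    obtain ⟨n, hpp, hn⟩ := FiniteField.card F p
    haveI : Fact p.Prime := ⟨hpp⟩
    have hgcd : Nat.gcd 2 (Fintype.card F - 1) = 2 := by
      obtain ⟨j, hj⟩ := hodd
      rw [hj, Nat.add_sub_cancel, Nat.gcd_mul_right_right]
    have hR : ∀ a : ℕ, (a ∣ (Fintype.card F - 1) / 2 ∨ a ∣ (Fintype.card F + 1) / 2) →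
        1 < a → ¬ a.Prime → a = 2 * r := by
      intro a ha ha1 ha2
      have hmem : a ∈ Set.range (orderOf : Matrix.ProjectiveSpecialLinearGroup (Fin 2) F → ℕ) := by
        rw [Cfsg.Agent.S2475.result p (by omega), hgcd]
        exact Or.inr ha
      obtain ⟨x, hx⟩ := hmem
      exact hone a (2 * r) ⟨e.symm x, by rw [MulEquiv.orderOf_eq, hx]⟩ ⟨g', hg'⟩ ha1 ha2 hm1 hm2
    rcases CfsgLib.OneComposite.odd_numeric hpp hn hodd h5 hr hr2 hR with
      h | h | h | h | ⟨h3, a, s, ha, hs, h₁, h₂⟩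
    · exact Or.inl ⟨F, iF, iF', Or.inl h, ⟨e⟩⟩
    · exact Or.inl ⟨F, iF, iF', Or.inr (Or.inl h), ⟨e⟩⟩
    · exact Or.inl ⟨F, iF, iF', Or.inr (Or.inr (Or.inr (Or.inr (Or.inl h)))), ⟨e⟩⟩
    · exact Or.inl ⟨F, iF, iF', Or.inr (Or.inr (Or.inr (Or.inr (Or.inr (Or.inl h))))), ⟨e⟩⟩
    · subst h3
      exact Or.inr (Or.inr (Or.inr (Or.inl ⟨F, iF, iF', n, a, s, ha, hs, h₁, h₂, hn, ⟨e⟩⟩)))
  · -- all elements of even order are involutions
    have heven : ∀ x : G, 2 ∣ orderOf x → orderOf x = 2 := by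
      intro x hx
      rcases hall x with h | h | h
      · omega
      · exact ((Nat.prime_dvd_prime_iff_eq Nat.prime_two h).1 hx).symm
      · exact absurd (h ▸ hx) h2
    obtain ⟨F, iF, iF', n, hn, hF, ⟨e⟩⟩ := CfsgLib.OneComposite.iso_psl2_even hna heven
    haveI : CharP F 2 := CfsgLib.Classical.PSL2Spectrum.char_two_of_dvd (hF ▸ dvd_pow_self 2 (by omega))
    haveI : Fact (Nat.Prime 2) := ⟨Nat.prime_two⟩
    have h4 : 4 ≤ Fintype.card F := hF ▸ le_trans (by norm_num) (Nat.pow_le_pow_right two_pos hn)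
    have hgcd : Nat.gcd 2 (Fintype.card F - 1) = 1 := by
      refine Nat.coprime_two_left.2 (Nat.odd_iff.2 ?_)
      obtain ⟨j, hj⟩ : 2 ∣ 2 ^ n := dvd_pow_self 2 (by omega)
      omega
    have hR : ∀ a : ℕ, (a ∣ 2 ^ n - 1 ∨ a ∣ 2 ^ n + 1) → a ∈ Set.range (orderOf : G → ℕ) := by
      intro a ha
      have hmem : a ∈ Set.range (orderOf : Matrix.ProjectiveSpecialLinearGroup (Fin 2) F → ℕ) := by
        rw [Cfsg.Agent.S2475.result 2 h4, hgcd, Nat.div_one, Nat.div_one, hF]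
        exact Or.inr ha
      obtain ⟨x, hx⟩ := hmem
      exact ⟨e.symm x, by rw [MulEquiv.orderOf_eq, hx]⟩
    rcases CfsgLib.OneComposite.even_numeric hn fun a b ha hb => hone a b (hR a ha) (hR b hb) with
      h | h | h | ⟨hA, r, hr, hB⟩
    · haveI : Fact (Nat.Prime 5) := ⟨Nat.prime_five⟩
      exact Or.inl ⟨ZMod 5, inferInstance, inferInstance, by rw [ZMod.card]; decide,
        ⟨(e.trans (Cfsg.Agent.S0252.result (by rw [hF, h]; norm_num)).some).trans
          (Cfsg.Agent.S0253.result (ZMod.card 5)).some.symm⟩⟩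
    · exact Or.inl ⟨F, iF, iF', Or.inr (Or.inr (Or.inl (by rw [hF, h]; norm_num))), ⟨e⟩⟩
    · exact Or.inl ⟨F, iF, iF', Or.inr (Or.inr (Or.inr (Or.inr (Or.inr (Or.inr (by rw [hF, h]; norm_num)))))),
        ⟨e⟩⟩
    · exact Or.inr (Or.inr (Or.inr (Or.inr ⟨F, iF, iF', n, r, hA, hr, hB, hF, ⟨e⟩⟩)))

end Cfsg.Agent.S3718
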