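import Cfsg.Statements.S3406
import Cfsg.Agent.S3718
import Cfsg.Agent.S2475
import Cfsg.Agent.S0252
import Cfsg.Agent.S0253
import Cfsg.Agent.S0254
import Cfsg.Agent.S0324
import Cfsg.Agent.S0330
import Cfsg.Agent.Lib.Char.Burnside
import Cfsg.Agent.Lib.Lie.Suz.Twisted
import Cfsg.Agent.Lib.CIT.PrimeGraphPsl

set_option autoImplicit false
set_option linter.style.haveILetI false
open Cfsg

namespace Cfsg.Agent.S3406

/-- Six element orders force six orbits of the automorphism group. -/
private theorem six_orders {G : Type*} [Group G] [Finite G]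
    (h5 : Nat.card (MulAction.orbitRel.Quotient (MulAut G) G) ≤ 5) (S : Finset ℕ) (hS : 5 < S.card)
    (hmem : ∀ d ∈ S, d ∈ Set.range (orderOf : G → ℕ)) : False := by
  classical
  choose x hx using hmem
  let f : {d // d ∈ S} → MulAction.orbitRel.Quotient (MulAut G) G := fun d => Quotient.mk'' (x d.1 d.2)
  have hf : Function.Injective f := by
    rintro ⟨a, ha⟩ ⟨b, hb⟩ e
    obtain ⟨φ, hφ⟩ := Quotient.exact' e
    apply Subtype.ext
    show a = b
    rw [← hx a ha, ← hx b hb, ← hφ]
    exact MulEquiv.orderOf_eq φ (x b hb)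
  have h := Nat.card_le_card_of_injective f hf
  rw [Nat.card_eq_fintype_card, Fintype.card_coe] at h
  omega

/-- At most one composite element order. -/
private theorem one_composite {G : Type*} [Group G] [Finite G] [IsSimpleGroup G]
    (hG : ¬ IsMulCommutative G) (h5 : Nat.card (MulAction.orbitRel.Quotient (MulAut G) G) ≤ 5) :
    {n : ℕ | n ∈ Set.range (orderOf : G → ℕ) ∧ 1 < n ∧ ¬ n.Prime}.Subsingleton := by
  classical
  intro a ha b hb
  by_contra hab
  -- three prime divisors
  obtain ⟨p, q, r, hp, hq, hr, hpq, hpr, hqr⟩ : ∃ p q r : ℕ, p ∈ (Nat.card G).primeFactors ∧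
      q ∈ (Nat.card G).primeFactors ∧ r ∈ (Nat.card G).primeFactors ∧ p ≠ q ∧ p ≠ r ∧ q ≠ r := by
    refine Finset.two_lt_card_iff.1 ?_
    by_contra hle
    apply hG
    have hsol : Group.IsSolvable G := by
      obtain ⟨p, q, hp, hq, hsub⟩ : ∃ p q : ℕ, p.Prime ∧ q.Prime ∧ (Nat.card G).primeFactors ⊆ {p, q} := by
        rcases Nat.eq_zero_or_pos (Nat.card G).primeFactors.card with h0 | h0
        · exact ⟨2, 2, Nat.prime_two, Nat.prime_two, by rw [Finset.card_eq_zero.1 h0]; exact Finset.empty_subset _⟩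
        rcases Nat.lt_or_ge (Nat.card G).primeFactors.card 2 with h1 | h1
        · obtain ⟨p, hp⟩ := Finset.card_eq_one.1 (show (Nat.card G).primeFactors.card = 1 by omega)
          have := (Nat.mem_primeFactors.1 (hp ▸ Finset.mem_singleton_self p)).1
          exact ⟨p, p, this, this, by rw [hp]; simp⟩
        · obtain ⟨p, q, hne, hpq⟩ := Finset.card_eq_two.1 (show (Nat.card G).primeFactors.card = 2 by omega)
          exact ⟨p, q, (Nat.mem_primeFactors.1 (hpq ▸ Finset.mem_insert_self p {q})).1,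
            (Nat.mem_primeFactors.1 (hpq ▸ Finset.mem_insert_of_mem (Finset.mem_singleton_self q))).1, hpq.subset⟩
      have hfac := Nat.prod_factorization_pow_eq_self (Nat.card_pos (α := G)).ne'
      rw [Finsupp.prod, Nat.support_factorization] at hfac
      rcases eq_or_ne p q with rfl | hne
      · refine CfsgLib.Char.isSolvable_of_card_two_primes hp hp G ((Nat.card G).factorization p) 0 ?_
        rw [pow_zero, mul_one]
        conv_lhs => rw [← hfac]
        rw [Finset.prod_subset (show (Nat.card G).primeFactors ⊆ {p} by simpa using hsub) fun x _ hx => by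
          rw [← Nat.support_factorization, Finsupp.notMem_support_iff] at hx; rw [hx, pow_zero],
          Finset.prod_singleton]
      · refine CfsgLib.Char.isSolvable_of_card_two_primes hp hq G ((Nat.card G).factorization p)
          ((Nat.card G).factorization q) ?_
        conv_lhs => rw [← hfac]
        rw [Finset.prod_subset hsub fun x _ hx => by
          rw [← Nat.support_factorization, Finsupp.notMem_support_iff] at hx; rw [hx, pow_zero],
          Finset.prod_pair hne]
    exact ⟨⟨IsSimpleGroup.comm_iff_isSolvable.2 hsol⟩⟩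
  have hc : ∀ {s : ℕ}, s ∈ (Nat.card G).primeFactors → s ∈ Set.range (orderOf : G → ℕ) := fun {s} hs => by
    haveI : Fact s.Prime := ⟨(Nat.mem_primeFactors.1 hs).1⟩
    exact exists_prime_orderOf_dvd_card' s (Nat.mem_primeFactors.1 hs).2.1
  have hprime : ∀ {s : ℕ}, s ∈ (Nat.card G).primeFactors → s.Prime := fun hs => (Nat.mem_primeFactors.1 hs).1
  refine six_orders h5 {1, p, q, r, a, b} ?_ ?_
  · have ne1 : ∀ {s : ℕ}, s.Prime → ∀ {c : ℕ}, ¬ c.Prime → s ≠ c := fun hs _ hc e => hc (e ▸ hs)
    have := (hprime hp).one_lt; have := (hprime hq).one_lt; have := (hprime hr).one_lt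
    have := ha.2.1; have := hb.2.1
    rw [Finset.card_insert_of_notMem, Finset.card_insert_of_notMem, Finset.card_insert_of_notMem,
      Finset.card_insert_of_notMem, Finset.card_pair hab]
    · omega
    · simp [ne1 (hprime hr) ha.2.2, ne1 (hprime hr) hb.2.2]
    · simp [ne1 (hprime hq) ha.2.2, ne1 (hprime hq) hb.2.2, hqr]
    · simp [ne1 (hprime hp) ha.2.2, ne1 (hprime hp) hb.2.2, hpq, hpr]
    · simp only [Finset.mem_insert, Finset.mem_singleton, not_or]
      omega
  · simp only [Finset.mem_insert, Finset.mem_singleton, forall_eq_or_imp, forall_eq]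
    exact ⟨⟨1, orderOf_one⟩, hc hp, hc hq, hc hr, ha.1, hb.1⟩

/-- A non-abelian simple group has an element of order four once its Sylow 2-subgroups are non-abelian. -/
private theorem range_equiv {G H : Type*} [Group G] [Group H] (e : G ≃* H) {d : ℕ}
    (hd : d ∈ Set.range (orderOf : H → ℕ)) : d ∈ Set.range (orderOf : G → ℕ) := by
  obtain ⟨x, rfl⟩ := hd
  exact ⟨e.symm x, MulEquiv.orderOf_eq e.symm x⟩

/-- A non-abelian finite simple group on whose elements the full automorphism group has at most five orbits is isomorphic to the alternating group of degree 5 or 6, to PSL(2, 7) or to PSL(2, 8). -/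
theorem result {G : Type*} [Group G] [Finite G] [IsSimpleGroup G]
    (hG : ¬ IsMulCommutative G)
    (h5 : Nat.card (MulAction.orbitRel.Quotient (MulAut G) G) ≤ 5) :
    Nonempty (G ≃* ↥(alternatingGroup (Fin 5))) ∨ Nonempty (G ≃* ↥(alternatingGroup (Fin 6))) ∨
    (∃ (F : Type) (_ : Field F) (_ : Fintype F), (Fintype.card F = 7 ∨ Fintype.card F = 8) ∧ Nonempty (G ≃* Matrix.ProjectiveSpecialLinearGroup (Fin 2) F)) := by
  classical
  have spec : ∀ (F : Type) [Field F] [Fintype F] (p : ℕ) [Fact p.Prime], 4 ≤ Fintype.card F →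
      p ∣ Fintype.card F → (G ≃* Matrix.ProjectiveSpecialLinearGroup (Fin 2) F) → ∀ d : ℕ,
      (d ∣ p ∨ d ∣ (Fintype.card F - 1) / Nat.gcd 2 (Fintype.card F - 1) ∨
        d ∣ (Fintype.card F + 1) / Nat.gcd 2 (Fintype.card F - 1)) → d ∈ Set.range (orderOf : G → ℕ) := by
    intro F _ _ p _ h4 hp e d hd
    haveI : CharP F p := by
      obtain ⟨l, hl⟩ := CharP.exists F
      haveI := hl
      obtain ⟨n, hlp, hn⟩ := FiniteField.card F l
      have : p = l := (Nat.prime_dvd_prime_iff_eq Fact.out hlp).1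
        ((Fact.out : p.Prime).dvd_of_dvd_pow (hn ▸ hp))
      exact this ▸ hl
    refine range_equiv e ?_
    rw [Cfsg.Agent.S2475.result p h4]
    exact hd
  rcases Cfsg.Agent.S3718.result (one_composite hG h5) with
    hp | ⟨F, _, _, hF, ⟨e⟩⟩ | ⟨F, _, _, hF, ⟨e⟩⟩ | ⟨F, _, _, hF, ⟨e⟩⟩ |
    ⟨F, _, _, n, r, s, hr, hs, h1, h2, hF, ⟨e⟩⟩ | ⟨F, _, _, n, r, hA, hr, hB, hF, ⟨e⟩⟩
  · haveI : Fact (Nat.card G).Prime := ⟨hp⟩
    haveI := isCyclic_of_prime_card (α := G) (p := Nat.card G) rfl
    exact absurd (IsCyclic.isMulCommutative (α := G)) hG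
  · haveI : Fact (Nat.Prime 2) := ⟨Nat.prime_two⟩
    rcases hF with hF | hF | hF | hF | hF | hF | hF
    · exact Or.inl ⟨e.trans (Cfsg.Agent.S0253.result hF).some⟩
    · exact Or.inr (Or.inr ⟨F, inferInstance, inferInstance, Or.inl hF, ⟨e⟩⟩)
    · exact Or.inr (Or.inr ⟨F, inferInstance, inferInstance, Or.inr hF, ⟨e⟩⟩)
    · exact Or.inr (Or.inl ⟨e.trans (Cfsg.Agent.S0254.result hF).some⟩)
    · haveI : Fact (Nat.Prime 11) := ⟨by norm_num⟩
      refine (six_orders h5 {1, 2, 3, 5, 6, 11} (by decide) fun d hd => spec F 11 (by omega) (by omega) e d ?_).elim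
      rw [hF]
      fin_cases hd <;> norm_num
    · haveI : Fact (Nat.Prime 13) := ⟨by norm_num⟩
      refine (six_orders h5 {1, 2, 3, 6, 7, 13} (by decide) fun d hd => spec F 13 (by omega) (by omega) e d ?_).elim
      rw [hF]
      fin_cases hd <;> norm_num
    · refine (six_orders h5 {1, 2, 3, 5, 15, 17} (by decide) fun d hd => spec F 2 (by omega) (by omega) e d ?_).elim
      rw [hF]
      fin_cases hd <;> norm_num
  · haveI : Fact (Nat.Prime 2) := ⟨Nat.prime_two⟩
    haveI : Fintype (Projectivization F (Fin 3 → F)) := Fintype.ofFinite _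
    have hcard : Nat.card G = 20160 := by
      rw [Nat.card_congr e.toEquiv, CfsgLib.Spor.Plane.card_psl_three_four F hF]
    refine (six_orders h5 {1, 2, 3, 4, 5, 7} (by decide) fun d hd => ?_).elim
    have hprime : ∀ s : ℕ, s.Prime → s ∣ 20160 → s ∈ Set.range (orderOf : G → ℕ) := fun s hs hd => by
      haveI : Fact s.Prime := ⟨hs⟩
      exact exists_prime_orderOf_dvd_card' s (hcard ▸ hd)
    fin_cases hd
    · exact ⟨1, orderOf_one⟩
    · exact hprime 2 Nat.prime_two (by norm_num)
    · exact hprime 3 Nat.prime_three (by norm_num)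
    · refine range_equiv e ?_
      haveI : CharP F 2 := CfsgLib.Classical.PSL2Spectrum.char_two_of_dvd (by rw [hF]; norm_num)
      let x : Matrix.SpecialLinearGroup (Fin 3) F := ⟨!![1, 1, 0; 0, 1, 1; 0, 0, 1], by simp [Matrix.det_fin_three]⟩
      have hx4 : x ^ 4 = 1 := by
        apply Subtype.ext
        rw [Matrix.SpecialLinearGroup.coe_pow, Matrix.SpecialLinearGroup.coe_one]
        ext i j
        fin_cases i <;> fin_cases j <;>
          simp [x, pow_succ, Matrix.mul_apply, Fin.sum_univ_three, CharTwo.add_self_eq_zero]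
      have hx2 : x ^ 2 ∉ Subgroup.center (Matrix.SpecialLinearGroup (Fin 3) F) := fun hm => by
        obtain ⟨c, -, hc⟩ := Matrix.SpecialLinearGroup.mem_center_iff.1 hm
        have h02 : ((x ^ 2 : Matrix.SpecialLinearGroup (Fin 3) F) : Matrix (Fin 3) (Fin 3) F) 0 2 = 0 := by
          rw [← hc]; simp [Matrix.scalar]
        rw [pow_two, Matrix.SpecialLinearGroup.coe_mul] at h02
        simp [x, Matrix.mul_apply, Fin.sum_univ_three] at h02
      refine ⟨QuotientGroup.mk' _ x, orderOf_eq_prime_pow (p := 2) (n := 1) (fun h => hx2 ?_) ?_⟩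
      · rw [← map_pow, QuotientGroup.mk'_apply, QuotientGroup.eq_one_iff, pow_one] at h
        exact h
      · rw [show (2 : ℕ) ^ (1 + 1) = 4 by rfl, ← map_pow, hx4, map_one]
    · exact hprime 5 Nat.prime_five (by norm_num)
    · exact hprime 7 (by norm_num) (by norm_num)
  · haveI : Fact (Nat.Prime 2) := ⟨Nat.prime_two⟩
    have hF' : Fintype.card F = 2 ^ (2 * 1 + 1) := by rw [hF]; norm_num
    obtain ⟨e'⟩ := CfsgLib.Lie.Suz.exists_twEquiv (F := F) (m := 1) le_rfl hF'
    have e2 : G ≃* Cfsg.Sz F 1 := e.trans e'.symm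
    haveI : Finite (Cfsg.Sz F 1) := Finite.of_equiv _ e2.toEquiv
    have hcard : Nat.card G = 29120 := by
      rw [Nat.card_congr e2.toEquiv, Cfsg.Agent.S0324.result le_rfl hF']; norm_num
    refine (six_orders h5 {1, 2, 4, 5, 7, 13} (by decide) fun d hd => ?_).elim
    have hprime : ∀ s : ℕ, s.Prime → s ∣ 29120 → s ∈ Set.range (orderOf : G → ℕ) := fun s hs hd => by
      haveI : Fact s.Prime := ⟨hs⟩
      exact exists_prime_orderOf_dvd_card' s (hcard ▸ hd)
    fin_cases hd
    · exact ⟨1, orderOf_one⟩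
    · exact hprime 2 Nat.prime_two (by norm_num)
    · have hexp := (Cfsg.Agent.S0330.result (m := 1) le_rfl hF' (default : Sylow 2 (Cfsg.Sz F 1))).2.1
      obtain ⟨x, hx⟩ : ∃ x : ((default : Sylow 2 (Cfsg.Sz F 1)) : Subgroup (Cfsg.Sz F 1)), x ^ 2 ≠ 1 := by
        by_contra hcon
        push Not at hcon
        have := Monoid.exponent_dvd_of_forall_pow_eq_one hcon
        exact absurd (hexp ▸ this) (by norm_num)
      have h4 : orderOf x = 2 ^ (1 + 1) := orderOf_eq_prime_pow (by rwa [pow_one]) (by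
        have := Monoid.pow_exponent_eq_one x
        rwa [hexp] at this)
      exact range_equiv e2 ⟨x, (Subgroup.orderOf_coe x).trans h4⟩
    · exact hprime 5 Nat.prime_five (by norm_num)
    · exact hprime 7 (by norm_num) (by norm_num)
    · exact hprime 13 (by norm_num) (by norm_num)
  · haveI : Fact (Nat.Prime 3) := ⟨Nat.prime_three⟩
    have hn : 2 ≤ n := by
      have := hr.two_le
      rcases n with _ | _ | n
      · norm_num at h1; omega
      · norm_num at h1; omega
      · omega
    have h9 : 3 ^ 2 ≤ 3 ^ n := Nat.pow_le_pow_right (by norm_num) hn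
    have h3n : 3 ∣ 3 ^ n := dvd_pow_self 3 (by omega)
    have hr3 : r ≠ 3 := fun e3 => by omega
    have hs3 : s ≠ 3 := fun e3 => by omega
    have hr2 : r ≠ 2 := fun e2 => by omega
    have hs2 : s ≠ 2 := fun e2 => by omega
    have hrs : r ≠ s := fun e => by omega
    have := hr.two_le; have := hs.two_le
    refine (six_orders h5 {1, 2, 3, r, s, 2 * s} ?_ fun d hd => spec F 3 (by omega)
      (hF ▸ dvd_pow_self 3 (by omega)) e d ?_).elim
    · rw [Finset.card_insert_of_notMem, Finset.card_insert_of_notMem, Finset.card_insert_of_notMem,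
        Finset.card_insert_of_notMem, Finset.card_pair] <;> simp <;> omega
    · rw [hF, show Nat.gcd 2 (3 ^ n - 1) = 2 from Nat.gcd_eq_left ⟨r, h1⟩, show (3 ^ n - 1) / 2 = r by omega,
        show (3 ^ n + 1) / 2 = 2 * s by omega]
      simp only [Finset.mem_insert, Finset.mem_singleton] at hd
      rcases hd with rfl | rfl | rfl | rfl | rfl | rfl
      · exact Or.inl (one_dvd _)
      · exact Or.inr (Or.inr (dvd_mul_right 2 s))
      · exact Or.inl dvd_rfl
      · exact Or.inr (Or.inl dvd_rfl)
      · exact Or.inr (Or.inr (dvd_mul_left _ 2))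
      · exact Or.inr (Or.inr dvd_rfl)
  · haveI : Fact (Nat.Prime 2) := ⟨Nat.prime_two⟩
    have hn2 : 2 ≤ n := by
      rcases n with _ | _ | n
      · norm_num at hA
      · norm_num at hA
      · omega
    by_cases h8 : n = 3
    · exact Or.inr (Or.inr ⟨F, inferInstance, inferInstance, Or.inr (by rw [hF, h8]; norm_num), ⟨e⟩⟩)
    have hn : 4 ≤ n := by
      rcases eq_or_ne n 2 with rfl | h
      · norm_num at hB; omega
      · omega
    have h16 : 2 ^ 4 ≤ 2 ^ n := Nat.pow_le_pow_right two_pos hn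
    have hodd : Odd (2 ^ n - 1) := hA.odd_of_ne_two (by omega)
    have hro : r ≠ 2 := fun e2 => by omega
    have hr3 : r ≠ 3 := fun e3 => by omega
    refine (six_orders h5 {1, 2, 3, r, 2 ^ n - 1, 3 * r} ?_ fun d hd => spec F 2 (by omega)
      (hF ▸ dvd_pow_self 2 (by omega)) e d ?_).elim
    · have := hr.two_le
      rw [Finset.card_insert_of_notMem, Finset.card_insert_of_notMem, Finset.card_insert_of_notMem,
        Finset.card_insert_of_notMem, Finset.card_pair] <;> simp <;> omega
    · rw [hF, show Nat.gcd 2 (2 ^ n - 1) = 1 from Nat.coprime_two_left.2 hodd, Nat.div_one, Nat.div_one, hB]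
      simp only [Finset.mem_insert, Finset.mem_singleton] at hd
      rcases hd with rfl | rfl | rfl | rfl | rfl | rfl
      · exact Or.inl (one_dvd _)
      · exact Or.inl dvd_rfl
      · exact Or.inr (Or.inr (dvd_mul_right 3 r))
      · exact Or.inr (Or.inr (dvd_mul_left _ 3))
      · exact Or.inr (Or.inl dvd_rfl)
      · exact Or.inr (Or.inr dvd_rfl)

end Cfsg.Agent.S3406
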