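import Cfsg.Statements.S3410
import Cfsg.Agent.Lib.ONan.Main
-- import your own Cfsg.Agent.* helpers here

set_option autoImplicit false
open Cfsg

namespace Cfsg.Agent.S3410

/-- Let a finite group G act faithfully and 2-transitively on a finite set X, and let N be an abelian normal subgroup of the stabilizer of a point x which is not semiregular on the remaining points (some non-identity element of N fixes a second point). Then the generalized Fitting subgroup of G is isomorphic to PSL_n(F) for some n ≥ 3 and some finite field F. -/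
theorem result {G X : Type*} [Group G] [Finite G] [Fintype X]
    [MulAction G X] [FaithfulSMul G X] (h2 : MulAction.IsMultiplyPretransitive G X 2) (x : X)
    (N : Subgroup G) (hNle : N ≤ MulAction.stabilizer G x)
    (hNnormal : ∀ g ∈ MulAction.stabilizer G x, ∀ n ∈ N, g * n * g⁻¹ ∈ N) (hNab : IsMulCommutative N)
    (hnsr : ∃ n ∈ N, n ≠ 1 ∧ ∃ y : X, y ≠ x ∧ n • y = y) :
    ∃ (F : Type) (_ : Field F) (_ : Fintype F) (n : ℕ), 3 ≤ n ∧
      Nonempty (↥(Cfsg.generalizedFittingSubgroup G) ≃* Matrix.ProjectiveSpecialLinearGroup (Fin n) F) := by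
  obtain ⟨n₀, hn₀, hn₀1, y, hyx, hy⟩ := hnsr
  obtain ⟨I⟩ := CfsgLib.ONan.exists_config h2 x N hNle hNnormal
    (fun a ha b hb => congrArg Subtype.val (hNab.is_comm.comm ⟨a, ha⟩ ⟨b, hb⟩))
    ⟨n₀, hn₀, hn₀1, y, hyx, hy⟩
  obtain ⟨m, F, hF, hFt, hm, -, M, hM, ⟨e⟩, hC⟩ := I.exists_psl h2 hyx.symm
  haveI := CfsgLib.Classical.psl_isSimple (F := F) (show 3 ≤ m + 1 by omega)
  haveI : IsSimpleGroup M := e.isSimpleGroup
  exact ⟨F, hF, hFt, m + 1, by omega,
    ⟨(MulEquiv.subgroupCongr (CfsgLib.ONan.fStar_eq hM hC)).trans e⟩⟩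

end Cfsg.Agent.S3410
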