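import Cfsg.Statements.S3412
import Cfsg.Agent.Lib.Char.LThreeThree.Graph

set_option autoImplicit false
open Cfsg

namespace Cfsg.Agent.S3412

/-- Let H be a finite group whose commuting graph (vertices the non-identity elements, two joined when they commute) is isomorphic to that of PSL_3(3): there is a bijection between the non-identity elements of H and of PSL_3(3) under which two elements commute exactly when their images do. Then H ≅ PSL_3(3). -/
theorem result {H : Type*} [Group H] [Finite H]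
    (f : {h : H // h ≠ 1} ≃ {g : Matrix.ProjectiveSpecialLinearGroup (Fin 3) (ZMod 3) // g ≠ 1})
    (hf : ∀ x y : {h : H // h ≠ 1}, (x : H) * y = y * x ↔ ((f x) : Matrix.ProjectiveSpecialLinearGroup (Fin 3) (ZMod 3)) * (f y) = (f y) * (f x)) :
    Nonempty (H ≃* Matrix.ProjectiveSpecialLinearGroup (Fin 3) (ZMod 3)) := by
  classical
  haveI : Fact (Nat.Prime 3) := ⟨Nat.prime_three⟩
  obtain ⟨u, hu, ⟨e⟩⟩ := CfsgLib.Char.LThreeThree.psl_invol
  obtain ⟨el, hel⟩ := CfsgLib.Char.GLThreeCent.exists_emb u hu e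
  haveI : IsSimpleGroup (Matrix.ProjectiveSpecialLinearGroup (Fin 3) (ZMod 3)) :=
    CfsgLib.Classical.psl_isSimple le_rfl
  have hno : ∀ K : Subgroup (Matrix.ProjectiveSpecialLinearGroup (Fin 3) (ZMod 3)), K.index ≠ 2 := by
    intro K hK
    haveI := Subgroup.normal_of_index_eq_two hK
    rcases Subgroup.Normal.eq_bot_or_eq_top (H := K) inferInstance with rfl | rfl
    · rw [Subgroup.index_bot, CfsgLib.Char.LThreeThree.card_psl33] at hK; norm_num at hK
    · rw [Subgroup.index_top] at hK; norm_num at hK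
  let φ : H ≃ Matrix.ProjectiveSpecialLinearGroup (Fin 3) (ZMod 3) :=
    (Equiv.optionSubtypeNe (1 : H)).symm.trans (f.optionCongr.trans (Equiv.optionSubtypeNe _))
  have h1 : φ 1 = 1 := by simp [φ]
  have hne : ∀ a : H, ∀ ha : a ≠ 1, φ a = (f ⟨a, ha⟩ : Matrix.ProjectiveSpecialLinearGroup (Fin 3) (ZMod 3)) :=
    fun a ha => by simp [φ, Equiv.optionSubtypeNe_symm_of_ne ha]
  refine CfsgLib.Char.LThreeThree.iso_of_commute_equiv
    ⟨hel, CfsgLib.Char.LThreeThree.card_psl33, inferInstance, hno⟩ φ h1 fun a b => ?_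
  by_cases ha : a = 1
  · subst ha; simp [h1]
  by_cases hb : b = 1
  · subst hb; simp [h1]
  rw [hne a ha, hne b hb]
  exact hf ⟨a, ha⟩ ⟨b, hb⟩

end Cfsg.Agent.S3412
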