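import Cfsg.Statements.S3413
import Cfsg.Agent.Lib.Char.MEleven.Graph

set_option autoImplicit false
open Cfsg

namespace Cfsg.Agent.S3413

/-- Let H be a finite group whose commuting graph (vertices the non-identity elements, two joined when they commute) is isomorphic to that of the Mathieu group M_11: there is a bijection between the non-identity elements of H and of M_11 under which two elements commute exactly when their images do. Then H ≅ M_11. -/
theorem result {H : Type*} [Group H] [Finite H]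
    (f : {h : H // h ≠ 1} ≃ {g : ↥Cfsg.Spor.M11 // g ≠ 1})
    (hf : ∀ x y : {h : H // h ≠ 1}, (x : H) * y = y * x ↔ ((f x) : ↥Cfsg.Spor.M11) * (f y) = (f y) * (f x)) :
    Nonempty (H ≃* ↥Cfsg.Spor.M11) := by
  classical
  haveI : Fact (Nat.Prime 2) := ⟨Nat.prime_two⟩
  obtain ⟨u, hu⟩ := exists_prime_orderOf_dvd_card' (G := ↥Cfsg.Spor.M11) 2
    (by rw [CfsgLib.Spor.card_sporM11]; norm_num)
  obtain ⟨e⟩ := CfsgLib.Spor.M11Cent.centralizer_equiv hu
  obtain ⟨el, hel⟩ := CfsgLib.Char.GLThreeCent.exists_emb u hu e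
  haveI := CfsgLib.Char.MEleven.simple_sporM11
  have hno : ∀ K : Subgroup ↥Cfsg.Spor.M11, K.index ≠ 2 := by
    intro K hK
    haveI := Subgroup.normal_of_index_eq_two hK
    rcases Subgroup.Normal.eq_bot_or_eq_top (H := K) inferInstance with rfl | rfl
    · rw [Subgroup.index_bot, CfsgLib.Spor.card_sporM11] at hK; norm_num at hK
    · rw [Subgroup.index_top] at hK; norm_num at hK
  let φ : H ≃ ↥Cfsg.Spor.M11 :=
    (Equiv.optionSubtypeNe (1 : H)).symm.trans (f.optionCongr.trans (Equiv.optionSubtypeNe _))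
  have h1 : φ 1 = 1 := by simp [φ]
  have hne : ∀ a : H, ∀ ha : a ≠ 1, φ a = (f ⟨a, ha⟩ : ↥Cfsg.Spor.M11) :=
    fun a ha => by simp [φ, Equiv.optionSubtypeNe_symm_of_ne ha]
  refine CfsgLib.Char.MEleven.iso_of_commute_equiv (G := ↥Cfsg.Spor.M11) (t := u) (el := el)
    ⟨hel, CfsgLib.Spor.card_sporM11, hno⟩ φ h1 fun a b => ?_
  by_cases ha : a = 1
  · subst ha; simp [h1]
  by_cases hb : b = 1
  · subst hb; simp [h1]
  rw [hne a ha, hne b hb]
  exact hf ⟨a, ha⟩ ⟨b, hb⟩

end Cfsg.Agent.S3413
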