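import Cfsg.Statements.S3427
import Cfsg.Agent.Lib.Char.GTwoTwo.Main
import Cfsg.Agent.Lib.Char.GTwoTwo.Model
import Cfsg.Agent.S1059
-- import your own Cfsg.Agent.* helpers here

set_option autoImplicit false
open Cfsg

namespace Cfsg.Agent.S3427

/-- Let F be the field with 2 elements and let M be the Chevalley group of type G₂ over F (a non-simple group of order 12096 whose derived subgroup, of index 2, is isomorphic to PSU(3, 3)). A finite group G is isomorphic to M if and only if G has the same set of element orders and the same order as M. -/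
theorem result {G : Type*} [Group G] [Finite G] {F : Type*} [Field F] [Fintype F] (hF : Fintype.card F = 2) :
    Nonempty (G ≃* ↥(Cfsg.Lie.chevG2.group F)) ↔
      (Set.range (orderOf : G → ℕ) = Set.range (orderOf : ↥(Cfsg.Lie.chevG2.group F) → ℕ) ∧ Nat.card G = Nat.card ↥(Cfsg.Lie.chevG2.group F)) := by
  classical
  constructor
  · rintro ⟨e⟩
    refine ⟨?_, Nat.card_congr e.toEquiv⟩
    rw [show (orderOf : G → ℕ) = (orderOf : ↥(Cfsg.Lie.chevG2.group F) → ℕ) ∘ e from
      funext fun g => (e.orderOf_eq g).symm, e.surjective.range_comp]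
  · rintro ⟨hspec, hcard⟩
    haveI : Fact (Nat.Prime 2) := ⟨Nat.prime_two⟩
    haveI : Fact (Nat.Prime 3) := ⟨Nat.prime_three⟩
    obtain ⟨C⟩ := CfsgLib.Lie.Chev.nonempty_full (D := Cfsg.Lie.chevG2) (by simp)
    obtain ⟨e⟩ := C.G.nonempty_groupEquiv (ZMod.ringEquivOfPrime F Nat.prime_two hF)
    have h12096 : Nat.card ↥(Cfsg.Lie.chevG2.group (ZMod 2)) = 12096 := by
      rw [Cfsg.Agent.S1059.result (ZMod.card 2)]; norm_num
    haveI : Fintype (GaloisField 3 2) := Fintype.ofFinite _
    have hK : Fintype.card (GaloisField 3 2) = 9 := by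
      rw [← Nat.card_eq_fintype_card, GaloisField.card 3 2 two_ne_zero]; norm_num
    obtain ⟨R⟩ := CfsgLib.Char.SU33.exists_root (F := GaloisField 3 2) hK
    have hm := CfsgLib.Char.GTwoTwo.Model.hyp_model R hK h12096
    have hH : ∀ n, (∃ g : G, orderOf g = n) ↔
        ∃ g : ↥(Cfsg.Lie.chevG2.group (ZMod 2)), orderOf g = n := by
      intro n
      show n ∈ Set.range (orderOf : G → ℕ) ↔ _
      rw [hspec]
      constructor
      · rintro ⟨g, hg⟩; exact ⟨e.symm g, by rw [MulEquiv.orderOf_eq, hg]⟩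
      · rintro ⟨g, hg⟩; exact ⟨e g, by rw [MulEquiv.orderOf_eq, hg]⟩
    have hG : CfsgLib.Char.GTwoTwo.Hyp G :=
      ⟨by rw [hcard, ← Nat.card_congr e.toEquiv, h12096],
        fun g hg => ((hH 14).1 ⟨g, hg⟩).elim fun w hw => hm.no14 w hw,
        fun g hg => ((hH 21).1 ⟨g, hg⟩).elim fun w hw => hm.no21 w hw,
        (hH 4).2 hm.four⟩
    obtain ⟨f⟩ := CfsgLib.Char.GTwoTwo.iso_of_hyp hG hm
    exact ⟨f.trans e⟩

end Cfsg.Agent.S3427
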