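import Cfsg.Statements.S3433
import Cfsg.Agent.Lib.Char.Epp.Main

set_option autoImplicit false
open Cfsg

namespace Cfsg.Agent.S3433

/-- A finite group whose set of element orders is exactly {1, 2, 3, 4, 5} is isomorphic to the alternating group of degree 6, or has a normal elementary abelian 2-subgroup with quotient isomorphic to the alternating group of degree 5. -/
theorem result {G : Type*} [Group G] [Finite G] (h : Set.range (orderOf : G → ℕ) = {k : ℕ | 1 ≤ k ∧ k ≤ 5}) :
    Nonempty (G ≃* ↥(alternatingGroup (Fin 6))) ∨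
      ∃ (N : Subgroup G) (_ : N.Normal), Cfsg.IsElementaryAbelian 2 N ∧ Nonempty (G ⧸ N ≃* ↥(alternatingGroup (Fin 5))) := by
  have hmem : ∀ k, 1 ≤ k → k ≤ 5 → k ∈ Set.range (orderOf : G → ℕ) := fun k h1 h5 => by
    rw [h]; exact ⟨h1, h5⟩
  have hsmall : CfsgLib.Char.Epp.Small5 G := fun g => by
    have := Set.mem_range_self (f := (orderOf : G → ℕ)) g
    rw [h] at this
    exact this.2
  have hdvd : ∀ k, 1 ≤ k → k ≤ 5 → k ∣ Nat.card G := fun k h1 h5 => by
    obtain ⟨g, hg⟩ := hmem k h1 h5
    exact hg ▸ orderOf_dvd_natCard g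
  exact CfsgLib.Char.Epp.structure_five hsmall (hdvd 2 (by norm_num) (by norm_num)) (hdvd 3 (by norm_num) (by norm_num))
    (hdvd 5 (by norm_num) le_rfl)

end Cfsg.Agent.S3433
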