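import Cfsg.Statements.S3438
import Cfsg.Agent.Lib.Char.ExtPlane
import Cfsg.Agent.Lib.Char.SpectraThree

set_option autoImplicit false
open Cfsg

namespace Cfsg.Agent.S3438

/-- There is a finite solvable group with exactly the same set of element orders as the simple group PSU(3,3) (realised over the field with 9 elements). -/
theorem result {F : Type*} [Field F] [Fintype F] (hF : Fintype.card F = 9) :
    ∃ (H : Type) (_ : Group H) (_ : Fintype H), Group.IsSolvable H ∧ Set.range (orderOf : H → ℕ) = Set.range (orderOf : Cfsg.PSU 3 F 3 → ℕ) := by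
  haveI : Fact (Nat.Prime 7) := ⟨by norm_num⟩
  obtain ⟨H, hg, hfi, hs, hr⟩ := CfsgLib.Char.ExtPlane.exists_solvable_of_check 7 6
    CfsgLib.Char.ExtPlane.triList CfsgLib.Char.ExtPlane.triListInv CfsgLib.Char.ExtPlane.triListOrd
    CfsgLib.Char.ExtPlane.triList_check Nat.prime_two Nat.prime_three (a := 3) (b := 1) (by rfl)
  refine ⟨H, hg, hfi, hs, ?_⟩
  rw [CfsgLib.Char.SpectraThree.range_psu_three_three hF]
  refine Set.ext fun n => (hr n).trans ?_
  have key : ∀ n < 14, (n = 7 ∨ ∃ i < CfsgLib.Char.ExtPlane.triList.length,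
      CfsgLib.Char.ExtPlane.triListOrd.getD i 0 = n) ↔ ∃ m ∈ [7, 8, 12], n ∣ m := by
    decide +kernel
  rcases Nat.lt_or_ge n 14 with h | h
  · exact key n h
  · have hmax : ∀ i < CfsgLib.Char.ExtPlane.triList.length, CfsgLib.Char.ExtPlane.triListOrd.getD i 0 < 14 := by
      decide +kernel
    constructor
    · rintro (rfl | ⟨i, hi, rfl⟩)
      · omega
      · exact absurd (hmax i hi) (by omega)
    · rintro ⟨m, hm, hd⟩
      simp only [List.mem_cons, List.not_mem_nil, or_false] at hm
      have := Nat.le_of_dvd (by omega) hd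
      omega

end Cfsg.Agent.S3438
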