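import Cfsg.Statements.S3443

import Cfsg.Agent.Lib.Char.FibrePower

set_option autoImplicit false
open Cfsg

namespace Cfsg.Agent.S3443

/-- Let G be a finite group and V a normal elementary abelian subgroup of G (abelian of prime exponent p, possibly trivial). Then the semidirect product V ⋊ G, with G acting on V by conjugation, has exactly the same set of element orders as G. -/
theorem result {G : Type*} [Group G] [Finite G] (V : Subgroup G) [V.Normal] (p : ℕ) (hp : p.Prime)
    (hcomm : ∀ x y : V, x * y = y * x) (hexp : ∀ x : V, x ^ p = 1) :
    Set.range (orderOf : V ⋊[MulAut.conjNormal] G → ℕ) = Set.range (orderOf : G → ℕ) := by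
  classical
  let f : V ⋊[MulAut.conjNormal] G →* CfsgLib.Char.fibrePow V Bool :=
    { toFun := fun x => ⟨fun b => if b then x.right else (x.left : G) * x.right,
        CfsgLib.Char.mem_fibrePow.2 ⟨QuotientGroup.mk x.right, fun b => by
          cases b
          · show QuotientGroup.mk ((x.left : G) * x.right) = _
            rw [QuotientGroup.mk_mul, (QuotientGroup.eq_one_iff (x.left : G)).2 x.left.2, one_mul]
          · rfl⟩⟩
      map_one' := Subtype.ext (funext fun b => by cases b <;> simp)
      map_mul' := fun x y => Subtype.ext (funext fun b => by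
        cases b <;> simp [MulAut.conjNormal_apply, mul_assoc]) }
  have hinj : Function.Injective f := fun x y h => by
    have h1 := congrFun (congrArg Subtype.val h) true
    have h0 := congrFun (congrArg Subtype.val h) false
    simp [f] at h1 h0
    rw [h1] at h0
    exact SemidirectProduct.ext (Subtype.ext (mul_right_cancel h0)) h1
  refine le_antisymm ?_ ?_
  · rw [← CfsgLib.Char.range_orderOf_fibrePow hp (fun v hv => congrArg Subtype.val (hexp ⟨v, hv⟩)) Bool]
    rintro n ⟨x, rfl⟩
    exact ⟨f x, orderOf_injective f hinj x⟩
  · rintro n ⟨g, rfl⟩
    exact ⟨SemidirectProduct.inr g, orderOf_injective _ SemidirectProduct.inr_injective g⟩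

end Cfsg.Agent.S3443
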