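import Cfsg.Statements.S3444

import Cfsg.Agent.Lib.Char.FibrePower

set_option autoImplicit false
open Cfsg

namespace Cfsg.Agent.S3444

/-- A finite group with a non-trivial solvable normal subgroup is not determined by its set of element orders, not even up to finitely many possibilities: for every bound N there is a finite group of order greater than N with exactly the same set of element orders. -/
theorem result {G : Type*} [Group G] [Finite G] (K : Subgroup G) [K.Normal] (hK : K ≠ ⊥)
    (hs : Group.IsSolvable K) (N : ℕ) :
    ∃ (H : Type) (_ : Group H) (_ : Fintype H), N < Fintype.card H ∧ Set.range (orderOf : H → ℕ) = Set.range (orderOf : G → ℕ) := by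
  obtain ⟨V, hn, p, hp, hne, hV⟩ := CfsgLib.Char.exists_normal_exponent_prime K hK hs
  exact CfsgLib.Char.exists_large_isospectral hp hV hne N

end Cfsg.Agent.S3444
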