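import Cfsg.Statements.S3448

import Cfsg.Agent.Lib.Char.SquareSpectrum

set_option autoImplicit false
open Cfsg

namespace Cfsg.Agent.S3448

/-- The set of element orders of the direct product of two copies of the alternating group of degree 5 is {1, 2, 3, 5, 6, 10, 15}. (It is shared by the direct product of two Frobenius groups of orders 50 and 75, so this direct product is not determined by its element orders.) -/
theorem result : Set.range (orderOf : alternatingGroup (Fin 5) × alternatingGroup (Fin 5) → ℕ) = {1, 2, 3, 5, 6, 10, 15} := by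
  classical
  have h : ∀ g : alternatingGroup (Fin 5), g ^ 2 = 1 ∨ g ^ 3 = 1 ∨ g ^ 5 = 1 := by decide +kernel
  haveI : Fact (Nat.Prime 2) := ⟨Nat.prime_two⟩
  haveI : Fact (Nat.Prime 3) := ⟨Nat.prime_three⟩
  haveI : Fact (Nat.Prime 5) := ⟨Nat.prime_five⟩
  have hc : Nat.card (alternatingGroup (Fin 5)) = 60 := by
    rw [nat_card_alternatingGroup]; simp [Nat.factorial]
  rw [CfsgLib.Char.range_square (G := alternatingGroup (Fin 5)) (p := 2) (A := 3) (B := 5) (by norm_num) (by norm_num)
    (by norm_num) h (exists_prime_orderOf_dvd_card' 2 (by rw [hc]; norm_num))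
    (exists_prime_orderOf_dvd_card' 3 (by rw [hc]; norm_num)) (exists_prime_orderOf_dvd_card' 5 (by rw [hc]; norm_num))]
  ext n
  simp only [CfsgLib.Char.pairDivisors, Set.mem_setOf_eq, Set.mem_insert_iff, Set.mem_singleton_iff]
  constructor
  · intro hn
    have : n ≤ 15 := by
      rcases hn with h | h | h <;> have := Nat.le_of_dvd (by norm_num) h <;> omega
    interval_cases n <;> simp_all
  · rintro (rfl | rfl | rfl | rfl | rfl | rfl | rfl) <;> norm_num

end Cfsg.Agent.S3448
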