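import Cfsg.Statements.S3449

import Cfsg.Agent.Lib.Char.SquareSpectrum

set_option autoImplicit false
open Cfsg

namespace Cfsg.Agent.S3449

/-- The direct product of three copies of the alternating group of degree 5 has exactly the same set of element orders as the cyclic group of order 30, namely the divisors of 30; in particular a direct power of a non-abelian simple group need not be determined by its element orders. -/
theorem result : Set.range (orderOf : alternatingGroup (Fin 5) × alternatingGroup (Fin 5) × alternatingGroup (Fin 5) → ℕ) =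
      Set.range (orderOf : Multiplicative (ZMod 30) → ℕ) := by
  classical
  have h : ∀ g : alternatingGroup (Fin 5), g ^ 30 = 1 := by decide +kernel
  haveI : Fact (Nat.Prime 2) := ⟨Nat.prime_two⟩
  haveI : Fact (Nat.Prime 3) := ⟨Nat.prime_three⟩
  haveI : Fact (Nat.Prime 5) := ⟨Nat.prime_five⟩
  have hc : Nat.card (alternatingGroup (Fin 5)) = 60 := by
    rw [nat_card_alternatingGroup]; simp [Nat.factorial]
  obtain ⟨a, ha⟩ := exists_prime_orderOf_dvd_card' (G := alternatingGroup (Fin 5)) 2 (by rw [hc]; norm_num)
  obtain ⟨b, hb⟩ := exists_prime_orderOf_dvd_card' (G := alternatingGroup (Fin 5)) 3 (by rw [hc]; norm_num)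
  obtain ⟨c, hd⟩ := exists_prime_orderOf_dvd_card' (G := alternatingGroup (Fin 5)) 5 (by rw [hc]; norm_num)
  ext n
  constructor
  · rintro ⟨g, rfl⟩
    have hg : orderOf g ∣ 30 := orderOf_dvd_of_pow_eq_one (Prod.ext (h _) (Prod.ext (h _) (h _)))
    obtain ⟨z, hz⟩ := IsCyclic.exists_ofOrder_eq_natCard (α := Multiplicative (ZMod 30))
    rw [Nat.card_eq_fintype_card, Fintype.card_multiplicative, ZMod.card] at hz
    exact CfsgLib.Char.exists_orderOf_of_dvd (hz.symm ▸ hg : orderOf g ∣ orderOf z)
  · rintro ⟨z, rfl⟩
    have hz : orderOf z ∣ 30 := by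
      have := orderOf_dvd_natCard z
      rwa [Nat.card_eq_fintype_card, Fintype.card_multiplicative, ZMod.card] at this
    have h30 : orderOf (a, b, c) = 30 := by rw [Prod.orderOf_mk, Prod.orderOf_mk, ha, hb, hd]; rfl
    exact CfsgLib.Char.exists_orderOf_of_dvd (h30.symm ▸ hz : orderOf z ∣ orderOf (a, b, c))

end Cfsg.Agent.S3449
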