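import Cfsg.Statements.S3466
import Cfsg.Agent.Lib.Char.SpFourSpec.CasesThree
import Cfsg.Agent.Lib.Char.SpFourSpec.Range
import Cfsg.Agent.Lib.Char.SpFourThreeSolvable

set_option autoImplicit false
open Cfsg

namespace Cfsg.Agent.S3466

/-- Let F be a finite field with q ≥ 3 elements such that q is not of the form 3^(2t+1) with t ≥ 1. Then PSp(4,F) is not determined by its set of element orders, not even up to finitely many groups: for every bound N there is a finite group of order greater than N with exactly the same set of element orders as PSp(4,F). -/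
theorem result {F : Type*} [Field F] [Fintype F] (h3 : 3 ≤ Fintype.card F) (hq : ∀ t : ℕ, 1 ≤ t → Fintype.card F ≠ 3 ^ (2 * t + 1)) (N : ℕ) :
    ∃ (H : Type) (_ : Group H) (_ : Fintype H), N < Fintype.card H ∧ Set.range (orderOf : H → ℕ) = Set.range (orderOf : Cfsg.PSp 2 F → ℕ) := by
  classical
  obtain ⟨p, hcp⟩ := CharP.exists F
  obtain ⟨f, hp, hq'⟩ := FiniteField.card F p
  haveI : Fact p.Prime := ⟨hp⟩
  by_cases h33 : Fintype.card F = 3
  · obtain ⟨H, iG, iF, hs, hr⟩ := CfsgLib.Char.SpFourThreeSolvable.exists_solvable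
    have h5 : (5 : ℕ) ∈ Set.range (orderOf : H → ℕ) := hr.symm ▸ ⟨5, by simp, dvd_rfl⟩
    obtain ⟨g, hg⟩ := h5
    have hne : (⊤ : Subgroup H) ≠ ⊥ := fun h => by
      have : g = 1 := Subgroup.mem_bot.1 (h ▸ Subgroup.mem_top g)
      rw [this, orderOf_one] at hg
      omega
    haveI := hs
    obtain ⟨V, _, r, hr', hVne, hV⟩ := CfsgLib.Char.exists_normal_exponent_prime (⊤ : Subgroup H) hne inferInstance
    obtain ⟨G, i, j, hN, hG⟩ := CfsgLib.Char.exists_large_isospectral hr' hV hVne N
    exact ⟨G, i, j, hN, hG.trans (hr.trans (CfsgLib.Char.SpFourThreeSpectrum.range_psp_four_three h33).symm)⟩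
  rw [CfsgLib.Char.SpFourSpec.range_psp_four hq']
  have hf : (f : ℕ) ≠ 0 := f.ne_zero
  letI : Fintype (GaloisField p (2 * f)) := Fintype.ofFinite _
  have hK : Fintype.card (GaloisField p (2 * f)) = (p ^ (f : ℕ)) ^ 2 := by
    rw [← Nat.card_eq_fintype_card, GaloisField.card p _ (by omega), ← pow_mul, mul_comm]
  rcases eq_or_ne p 2 with h2 | h2
  · exact CfsgLib.Char.SpFourSpec.exists_large_two h2 hf hK N
  rcases eq_or_ne p 3 with h3' | h3'
  · subst h3'
    rcases Nat.even_or_odd (f : ℕ) with he | ⟨t, ht⟩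
    · exact CfsgLib.Char.SpFourSpec.exists_large_three he f.pos hK N
    · rcases Nat.eq_zero_or_pos t with ht0 | ht0
      · exact absurd (by rw [hq', ht, ht0]; rfl) h33
      · exact absurd (by rw [hq', ht]) (hq t ht0)
  · refine CfsgLib.Char.SpFourSpec.exists_large_odd ?_ hf hK N
    by_contra hlt
    have := hp.two_le
    interval_cases p <;> first | exact h2 rfl | exact h3' rfl | norm_num at hp

end Cfsg.Agent.S3466
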