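import Cfsg.Statements.S3489

import Cfsg.Agent.Lib.Char.SpectrumTenGroup

set_option autoImplicit false
open Cfsg

namespace Cfsg.Agent.S3489

/-- The alternating group of degree 10 is not determined by its set of element orders, not even up to finitely many groups: for every bound N there is a finite group of order greater than N with exactly the same set of element orders as the alternating group of degree 10. -/
theorem result (N : ℕ) : ∃ (H : Type) (_ : Group H) (_ : Fintype H), N < Fintype.card H ∧ Set.range (orderOf : H → ℕ) = Set.range (orderOf : alternatingGroup (Fin 10) → ℕ) := by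
  classical
  haveI : Finite (CfsgLib.Char.Semi CfsgLib.Char.TwoS5.bincover (CfsgLib.Char.SpecTen.Ker (N + 1))) :=
    Nat.finite_of_card_ne_zero (Nat.ne_zero_of_lt (CfsgLib.Char.SpecTen.card_large (N + 1)))
  refine ⟨CfsgLib.Char.Semi CfsgLib.Char.TwoS5.bincover (CfsgLib.Char.SpecTen.Ker (N + 1)), inferInstance,
    Fintype.ofFinite _, ?_, ?_⟩
  · letI : Fintype (CfsgLib.Char.Semi CfsgLib.Char.TwoS5.bincover (CfsgLib.Char.SpecTen.Ker (N + 1))) :=
      Fintype.ofFinite _
    rw [← Nat.card_eq_fintype_card]
    exact lt_of_le_of_lt (Nat.le_succ N) (CfsgLib.Char.SpecTen.card_large (N + 1))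
  · rw [CfsgLib.Char.SpecTen.range_orderOf, CfsgLib.Char.range_orderOf_altTen]

end Cfsg.Agent.S3489
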