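import Cfsg.Statements.S3494
import Mathlib.GroupTheory.GroupAction.Primitive

set_option autoImplicit false
open Cfsg

namespace Cfsg.Agent.S3494

/-- The orbital of `(α, ω)`. -/
private def Rel {G Ω : Type*} [Group G] [MulAction G Ω] (α ω x y : Ω) : Prop :=
  ∃ g : G, g • α = x ∧ g • ω = y

private theorem key {G : Type*} [Group G] [Finite G] {Ω : Type*} [Fintype Ω] [MulAction G Ω]
    [FaithfulSMul G Ω] (hprim : MulAction.IsPreprimitive G Ω)
    (hep : ∀ (α : Ω) (ω : Ω), MulAction.IsPreprimitive (MulAction.stabilizer G α) (MulAction.orbit (MulAction.stabilizer G α) ω))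
    (α ω : Ω) (hω : ω ≠ α) (k₀ : G) (hk₀ : k₀ • α = α)
    (hfix : ∀ x ∈ MulAction.orbit (MulAction.stabilizer G α) ω, k₀ • x = x) : k₀ = 1 := by
  classical
  haveI := hprim
  haveI : Nontrivial Ω := ⟨⟨ω, α, hω⟩⟩
  set Δ := MulAction.orbit (MulAction.stabilizer G α) ω with hΔ
  let K : Subgroup G := MulAction.stabilizer G α ⊓ fixingSubgroup G Δ
  have memK : ∀ k, k ∈ K ↔ k • α = α ∧ ∀ x ∈ Δ, k • x = x := fun k => by
    simp only [K, Subgroup.mem_inf, MulAction.mem_stabilizer_iff, mem_fixingSubgroup_iff]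
  have hΔh : ∀ h : G, h • α = α → ∀ x ∈ Δ, h • x ∈ Δ := by
    rintro h hh _ ⟨u, rfl⟩
    exact ⟨⟨h, hh⟩ * u, by simp only [mul_smul]; rfl⟩
  have hKH : ∀ h : G, h • α = α → ∀ k ∈ K, h * k * h⁻¹ ∈ K := by
    intro h hh k hk
    obtain ⟨k1, k2⟩ := (memK k).1 hk
    have hh' : h⁻¹ • α = α := by rw [inv_smul_eq_iff, hh]
    refine (memK _).2 ⟨by rw [mul_smul, mul_smul, hh', k1, hh], fun x hx => ?_⟩
    rw [mul_smul, mul_smul, k2 _ (hΔh _ hh' x hx), smul_inv_smul]
  obtain ⟨g, hg⟩ := MulAction.exists_smul_eq G α ω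
  have hout : ∀ y ∈ Δ, Rel (G := G) α ω α y := by
    rintro _ ⟨u, rfl⟩
    exact ⟨u, u.2, rfl⟩
  by_cases hA : ∀ k ∈ K, ∀ y, Rel (G := G) α ω ω y → k • y = y
  · -- the kernel is normal in `G`
    have hle : K ≤ K.map (MulAut.conj g).toMonoidHom := by
      intro k hk
      obtain ⟨k1, k2⟩ := (memK k).1 hk
      refine Subgroup.mem_map.2 ⟨g⁻¹ * k * g, (memK _).2 ⟨?_, fun x hx => ?_⟩, by simp [mul_assoc]⟩
      · rw [mul_smul, mul_smul, hg, k2 ω ⟨1, one_smul _ _⟩, ← hg, inv_smul_smul]
      · obtain ⟨u, hu1, hu2⟩ := hout x hx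
        rw [mul_smul, mul_smul, hA k hk (g • x) ⟨g * u, by rw [mul_smul, hu1, hg],
          by rw [mul_smul, hu2]⟩, inv_smul_smul]
    have heq : K.map (MulAut.conj g).toMonoidHom = K :=
      (Subgroup.eq_of_le_of_card_ge hle (Nat.card_congr
        (Subgroup.equivMapOfInjective K _ (MulAut.conj g).injective).toEquiv).ge).symm
    have hgN : g ∈ Subgroup.normalizer (K : Set G) := by
      rw [Subgroup.mem_normalizer_iff]
      intro x
      constructor
      · intro hx
        rw [← heq]
        exact Subgroup.mem_map.2 ⟨x, hx, rfl⟩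
      · intro hx
        rw [← heq] at hx
        obtain ⟨y, hy, e⟩ := Subgroup.mem_map.1 hx
        exact (MulAut.conj g).injective e ▸ hy
    have hHN : MulAction.stabilizer G α ≤ Subgroup.normalizer (K : Set G) := by
      intro h hh
      rw [Subgroup.mem_normalizer_iff]
      refine fun x => ⟨hKH h hh x, fun hx => ?_⟩
      have := hKH h⁻¹ (by rw [inv_smul_eq_iff]; exact (MulAction.mem_stabilizer_iff.1 hh).symm) _ hx
      simpa [mul_assoc] using this
    have hcoatom : IsCoatom (MulAction.stabilizer G α) :=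
      (MulAction.isCoatom_stabilizer_iff_preprimitive G α).2 hprim
    have htop : Subgroup.normalizer (K : Set G) = ⊤ := by
      refine (hcoatom.le_iff.1 hHN).resolve_right fun e => hω ?_
      rw [← hg]
      exact MulAction.mem_stabilizer_iff.1 (e ▸ hgN)
    refine eq_of_smul_eq_smul fun x : Ω => ?_
    obtain ⟨u, hu⟩ := MulAction.exists_smul_eq G α x
    have hk : k₀ ∈ K := (memK _).2 ⟨hk₀, hfix⟩
    have := ((memK _).1 ((Subgroup.mem_normalizer_iff.1
      (htop ▸ Subgroup.mem_top u⁻¹ : u⁻¹ ∈ Subgroup.normalizer (K : Set G)) k₀).1 hk)).1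
    rw [mul_smul, mul_smul, inv_inv, hu, inv_smul_eq_iff, hu] at this
    rw [this, one_smul]
  · -- a moved out-neighbour of `ω` gives a congruence
    exfalso
    push Not at hA
    obtain ⟨k, hk, δ, hδ, hmove⟩ := hA
    let H := MulAction.stabilizer G α
    haveI := hep α δ
    let KH : Subgroup H := K.subgroupOf H
    haveI : KH.Normal := ⟨fun a ha b => Subgroup.mem_subgroupOf.2
      (hKH b b.2 _ (Subgroup.mem_subgroupOf.1 ha))⟩
    have hkH : k ∈ H := ((memK k).1 hk).1
    have hne : MulAction.fixedPoints KH (MulAction.orbit H δ) ≠ Set.univ := fun e => hmove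
      (congrArg Subtype.val (Set.eq_univ_iff_forall.1 e ⟨δ, MulAction.mem_orbit_self δ⟩
        ⟨⟨k, hkH⟩, Subgroup.mem_subgroupOf.2 hk⟩))
    haveI : MulAction.IsPretransitive KH (MulAction.orbit H δ) :=
      MulAction.IsQuasiPreprimitive.isPretransitive_of_normal hne
    have hH : ∀ h : H, Rel (G := G) α ω ω (h • δ) := by
      intro h
      obtain ⟨k', hk'⟩ := MulAction.exists_smul_eq KH
        (⟨δ, MulAction.mem_orbit_self δ⟩ : MulAction.orbit H δ) ⟨h • δ, h, rfl⟩
      obtain ⟨u, hu1, hu2⟩ := hδ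
      have hk'' := (memK _).1 (Subgroup.mem_subgroupOf.1 k'.2)
      refine ⟨(k'.1 : G) * u, by rw [mul_smul, hu1, hk''.2 ω ⟨1, one_smul _ _⟩], ?_⟩
      rw [mul_smul, hu2]
      exact congrArg Subtype.val hk'
    have hin : ∀ x ∈ Δ, Rel (G := G) α ω x δ := by
      rintro _ ⟨h, rfl⟩
      obtain ⟨u, hu1, hu2⟩ := hH h⁻¹
      refine ⟨(h : G) * u, by rw [mul_smul, hu1]; rfl, ?_⟩
      rw [mul_smul, hu2]
      exact smul_inv_smul h δ
    let In : Ω → Set Ω := fun y => {x | Rel (G := G) α ω x y}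
    have hIn : ∀ (v : G) (y : Ω), In (v • y) = (fun x => v • x) '' In y := by
      intro v y
      ext x
      constructor
      · rintro ⟨u, hu1, hu2⟩
        exact ⟨v⁻¹ • x, ⟨v⁻¹ * u, by rw [mul_smul, hu1],
          by rw [mul_smul, hu2, inv_smul_smul]⟩, smul_inv_smul v x⟩
      · rintro ⟨z, ⟨u, hu1, hu2⟩, rfl⟩
        exact ⟨v * u, by rw [mul_smul, hu1], by rw [mul_smul, hu2]⟩
    have hcard : ∀ y : Ω, Nat.card (In y) = Nat.card Δ := by
      intro y
      obtain ⟨v, rfl⟩ := MulAction.exists_smul_eq G α y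
      rw [hIn, Nat.card_image_of_injective (MulAction.injective v)]
      have e : In α = MulAction.orbit H (g⁻¹ • α) := by
        ext x
        constructor
        · rintro ⟨u, hu1, hu2⟩
          exact ⟨⟨u * g, by show (u * g) • α = α; rw [mul_smul, hg, hu2]⟩, by
            show (u * g) • g⁻¹ • α = x; rw [mul_smul, smul_inv_smul, hu1]⟩
        · rintro ⟨h, rfl⟩
          exact ⟨(h : G) * g⁻¹, by rw [mul_smul]; rfl, by
            rw [mul_smul, ← hg, inv_smul_smul]; exact h.2⟩
      rw [e]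
      have c1 := Nat.card_congr (MulAction.orbitProdStabilizerEquivGroup H (g⁻¹ • α))
      have c2 := Nat.card_congr (MulAction.orbitProdStabilizerEquivGroup H ω)
      rw [Nat.card_prod] at c1 c2
      have hs : Nat.card (MulAction.stabilizer H (g⁻¹ • α)) =
          Nat.card (MulAction.stabilizer H ω) := by
        refine Nat.card_congr
          { toFun := fun a => ⟨⟨g * a.1.1 * g⁻¹, ?_⟩, ?_⟩
            invFun := fun a => ⟨⟨g⁻¹ * a.1.1 * g, ?_⟩, ?_⟩
            left_inv := fun a => Subtype.ext (Subtype.ext (by simp [mul_assoc]))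
            right_inv := fun a => Subtype.ext (Subtype.ext (by simp [mul_assoc])) }
        · show (g * a.1.1 * g⁻¹) • α = α
          have h1 : a.1.1 • g⁻¹ • α = g⁻¹ • α := a.2
          rw [mul_smul, mul_smul, h1, smul_inv_smul]
        · show (g * a.1.1 * g⁻¹) • ω = ω
          have h1 : a.1.1 • α = α := a.1.2
          rw [mul_smul, mul_smul, ← hg, inv_smul_smul, h1]
        · show (g⁻¹ * a.1.1 * g) • α = α
          have h1 : a.1.1 • ω = ω := a.2
          rw [mul_smul, mul_smul, hg, h1, ← hg, inv_smul_smul]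
        · show (g⁻¹ * a.1.1 * g) • g⁻¹ • α = g⁻¹ • α
          have h1 : a.1.1 • α = α := a.1.2
          rw [mul_smul, mul_smul, smul_inv_smul, h1]
      rw [hs] at c1
      exact Nat.eq_of_mul_eq_mul_right Nat.card_pos (c1.trans c2.symm)
    have hΔin : ∀ y : Ω, (∀ x ∈ Δ, Rel (G := G) α ω x y) → In y = Δ := fun y hy =>
      (Set.eq_of_subset_of_ncard_le hy (hcard y).le (Set.toFinite _)).symm
    have e1 : In δ = Δ := hΔin δ hin
    have e2 : In (k • δ) = Δ := hΔin _ fun x hx => by
      obtain ⟨u, hu1, hu2⟩ := hin x hx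
      exact ⟨k * u, by rw [mul_smul, hu1, ((memK k).1 hk).2 x hx], by rw [mul_smul, hu2]⟩
    let B : Set Ω := {y | In y = Δ}
    have hB : MulAction.IsBlock G B := by
      rw [MulAction.isBlock_iff_smul_eq_or_disjoint]
      intro v
      by_cases hv : (fun x => v • x) '' Δ = Δ
      · left
        ext y
        rw [Set.mem_smul_set_iff_inv_smul_mem]
        show In (v⁻¹ • y) = Δ ↔ In y = Δ
        rw [← (Set.image_injective.2 (MulAction.injective v)).eq_iff, ← hIn, smul_inv_smul, hv]
      · right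
        rw [Set.disjoint_left]
        rintro _ ⟨y, hy, rfl⟩ hy'
        exact hv (by rw [← (show In y = Δ from hy), ← hIn]; exact hy'.trans hy.symm)
    rcases hprim.isTrivialBlock_of_isBlock hB with hs | hu
    · exact hmove (hs e2 e1)
    · have e3 : In ω = Δ := Set.eq_univ_iff_forall.1 hu ω
      obtain ⟨u, hu1, hu2⟩ : ω ∈ In ω := by rw [e3]; exact MulAction.mem_orbit_self ω
      exact hω (MulAction.injective u (hu2.trans hu1.symm))

/-- Manning's Theorem on extremely primitive groups. Let a finite group G act faithfully and primitively on a finite set Ω with non-trivial point stabilizers, and suppose every point stabilizer G_α acts primitively on each of its orbits. Then G_α acts faithfully on each of its orbits other than {α}: an element of G_α fixing every point of one such orbit is the identity. -/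
theorem result {G : Type*} [Group G] [Finite G] {Ω : Type*} [Fintype Ω] [MulAction G Ω] [FaithfulSMul G Ω] (hprim : MulAction.IsPreprimitive G Ω) (hH : ∀ α : Ω, MulAction.stabilizer G α ≠ ⊥) (hep : ∀ (α : Ω) (ω : Ω), MulAction.IsPreprimitive (MulAction.stabilizer G α) (MulAction.orbit (MulAction.stabilizer G α) ω))
    (α ω : Ω) (hω : ω ≠ α) (h : MulAction.stabilizer G α) (hfix : ∀ x ∈ MulAction.orbit (MulAction.stabilizer G α) ω, h • x = x) : h = 1 := by
  exact Subtype.ext (key hprim hep α ω hω h.1 h.2 hfix)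

end Cfsg.Agent.S3494
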