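import Cfsg.Statements.S3495
import Mathlib.GroupTheory.GroupAction.Primitive

set_option autoImplicit false
open Cfsg

namespace Cfsg.Agent.S3495

/-- Let a finite group G act faithfully and primitively on a finite set Ω with non-trivial point stabilizers, each acting primitively on every one of its orbits (an extremely primitive group), and suppose G has an elementary abelian normal p-subgroup N acting regularly on Ω (affine type). Then every non-trivial subgroup M of a point stabilizer G_α that is normal in G_α has the same orbits on Ω as G_α, and normalizes no subgroup of N other than 1 and N. -/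
theorem result {G : Type*} [Group G] [Finite G] {Ω : Type*} [Fintype Ω] [MulAction G Ω] [FaithfulSMul G Ω] (hprim : MulAction.IsPreprimitive G Ω) (hH : ∀ α : Ω, MulAction.stabilizer G α ≠ ⊥) (hep : ∀ (α : Ω) (ω : Ω), MulAction.IsPreprimitive (MulAction.stabilizer G α) (MulAction.orbit (MulAction.stabilizer G α) ω))
    (N : Subgroup G) [N.Normal] (hNc : IsMulCommutative N) (p : ℕ) (hp : p.Prime) (hNp : ∀ n ∈ N, n ^ p = 1)
    (hNtr : MulAction.IsPretransitive N Ω) (hNreg : ∀ ω : Ω, MulAction.stabilizer N ω = ⊥) (α : Ω) (M : Subgroup G) (hM : M ≠ ⊥) (hMle : M ≤ MulAction.stabilizer G α)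
    (hMn : MulAction.stabilizer G α ≤ Subgroup.normalizer (M : Set G)) :
    (∀ ω : Ω, MulAction.orbit M ω = MulAction.orbit (MulAction.stabilizer G α) ω) ∧
    (∀ L : Subgroup G, L ≤ N → M ≤ Subgroup.normalizer (L : Set G) → L = ⊥ ∨ L = N) := by
  classical
  haveI := hprim
  have mem_stab : ∀ {g : G}, g ∈ MulAction.stabilizer G α → g • α = α := fun h => h
  have huniq : ∀ n ∈ N, ∀ n' ∈ N, n • α = n' • α → n = n' := by
    intro n hn n' hn' e
    have h : (⟨n'⁻¹ * n, mul_mem (inv_mem hn') hn⟩ : N) ∈ MulAction.stabilizer N α := by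
      rw [MulAction.mem_stabilizer_iff]
      show (n'⁻¹ * n) • α = α
      rw [mul_smul, e, inv_smul_smul]
    rw [hNreg, Subgroup.mem_bot] at h
    exact (inv_mul_eq_one.1 (congrArg Subtype.val h)).symm
  have hsurj : ∀ ω : Ω, ∃ n ∈ N, n • α = ω := fun ω => by
    obtain ⟨n, hn⟩ := hNtr.exists_smul_eq α ω
    exact ⟨n, n.2, hn⟩
  have hirr : ∀ L : Subgroup G, L ≤ N → (∀ g ∈ MulAction.stabilizer G α, ∀ l ∈ L, g * l * g⁻¹ ∈ L) →
      L = ⊥ ∨ L = N := by
    intro L hLN hL
    have hLn : L.Normal := by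
      refine ⟨fun l hl g => ?_⟩
      obtain ⟨n, hn, e⟩ := hsurj (g • α)
      have hg : n⁻¹ * g ∈ MulAction.stabilizer G α := by
        rw [MulAction.mem_stabilizer_iff, mul_smul, ← e, inv_smul_smul]
      have h1 := hL _ hg l hl
      have h2 : n * ((n⁻¹ * g) * l * (n⁻¹ * g)⁻¹) * n⁻¹ = (n⁻¹ * g) * l * (n⁻¹ * g)⁻¹ := by
        rw [mul_inv_eq_iff_eq_mul]
        exact congrArg Subtype.val (hNc.is_comm.comm ⟨n, hn⟩ ⟨_, hLN h1⟩)
      rw [show g * l * g⁻¹ = n * ((n⁻¹ * g) * l * (n⁻¹ * g)⁻¹) * n⁻¹ by group, h2]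
      exact h1
    by_cases h0 : L = ⊥
    · exact Or.inl h0
    refine Or.inr (le_antisymm hLN fun n hn => ?_)
    have hfix : MulAction.fixedPoints L Ω ≠ Set.univ := fun e => h0 ((Subgroup.eq_bot_iff_forall _).2 fun l hl =>
      FaithfulSMul.eq_of_smul_eq_smul (α := Ω) fun ω => by
        rw [one_smul]; exact (Set.eq_univ_iff_forall.1 e ω) ⟨l, hl⟩)
    obtain ⟨l, hl⟩ := (MulAction.IsQuasiPreprimitive.isPretransitive_of_normal hfix).exists_smul_eq α (n • α)
    exact huniq l (hLN l.2) n hn hl ▸ l.2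
  have horb : ∀ ω : Ω, MulAction.orbit M ω = MulAction.orbit (MulAction.stabilizer G α) ω := by
    intro ω
    set Gα := MulAction.stabilizer G α with hGα
    have hsub : MulAction.orbit M ω ⊆ MulAction.orbit Gα ω := by
      rintro _ ⟨m, rfl⟩
      exact ⟨⟨(m : G), hMle m.2⟩, rfl⟩
    set M' := M.subgroupOf Gα
    haveI : M'.Normal := Subgroup.normal_subgroupOf_of_le_normalizer hMn
    haveI := hep α ω
    by_cases hfix : MulAction.fixedPoints M' (MulAction.orbit Gα ω) = Set.univ
    · have hfω : ∀ m ∈ M, m • ω = ω := fun m hm => by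
        have h := (Set.eq_univ_iff_forall.1 hfix ⟨ω, MulAction.mem_orbit_self ω⟩) ⟨⟨m, hMle hm⟩, hm⟩
        exact congrArg Subtype.val h
      by_cases hωα : ω = α
      · subst hωα
        refine subset_antisymm hsub ?_
        rintro _ ⟨g, rfl⟩
        exact ⟨1, by show (1 : M) • ω = g • ω; rw [one_smul]; exact (mem_stab g.2).symm⟩
      exfalso
      obtain ⟨n, hn, rfl⟩ := hsurj ω
      have hC : ∀ m ∈ M, m * n * m⁻¹ = n := fun m hm => by
        refine huniq _ (Subgroup.Normal.conj_mem ‹_› n hn m) n hn ?_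
        rw [mul_smul, mul_smul, inv_smul_eq_iff.2 (mem_stab (hMle hm)).symm, hfω m hm]
      rcases hirr (N ⊓ Subgroup.centralizer (M : Set G)) inf_le_left (fun g hg l hl =>
          ⟨Subgroup.Normal.conj_mem ‹_› l hl.1 g, Subgroup.mem_centralizer_iff.2 fun m hm => by
            have hm' : g⁻¹ * m * g ∈ M := by
              have := (Subgroup.mem_normalizer_iff.1 (hMn (inv_mem hg)) m).1 hm
              rwa [inv_inv] at this
            have h := Subgroup.mem_centralizer_iff.1 hl.2 _ hm'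
            calc m * (g * l * g⁻¹) = g * ((g⁻¹ * m * g) * l) * g⁻¹ := by group
              _ = g * l * g⁻¹ * m := by rw [h]; group⟩) with h | h
      · have : n ∈ N ⊓ Subgroup.centralizer (M : Set G) :=
          ⟨hn, Subgroup.mem_centralizer_iff.2 fun m hm => mul_inv_eq_iff_eq_mul.1 (hC m hm)⟩
        rw [h, Subgroup.mem_bot] at this
        exact hωα (by rw [this, one_smul])
      · refine hM ((Subgroup.eq_bot_iff_forall _).2 fun m hm => FaithfulSMul.eq_of_smul_eq_smul (α := Ω) fun x => ?_)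
        obtain ⟨k, hk, rfl⟩ := hsurj x
        have hc := Subgroup.mem_centralizer_iff.1 ((h.symm ▸ hk : k ∈ N ⊓ Subgroup.centralizer (M : Set G))).2 m hm
        rw [one_smul, ← mul_smul, hc, mul_smul, mem_stab (hMle hm)]
    · have ht := MulAction.IsQuasiPreprimitive.isPretransitive_of_normal (N := M') hfix
      refine subset_antisymm hsub ?_
      intro x hx
      obtain ⟨m, hm⟩ := ht.exists_smul_eq ⟨ω, MulAction.mem_orbit_self ω⟩ ⟨x, hx⟩
      exact ⟨⟨((m : Gα) : G), m.2⟩, congrArg Subtype.val hm⟩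
  refine ⟨horb, fun L hLN hL => hirr L hLN fun g hg l hl => ?_⟩
  have h : g • l • α ∈ MulAction.orbit M (l • α) := by
    rw [horb]; exact ⟨⟨g, hg⟩, rfl⟩
  obtain ⟨⟨m, hm⟩, e⟩ := h
  have e' : m • l • α = g • l • α := e
  have hconj := (Subgroup.mem_normalizer_iff.1 (hL hm) l).1 hl
  have := huniq _ (Subgroup.Normal.conj_mem ‹_› l (hLN hl) g) _ (hLN hconj) (by
    rw [mul_smul, mul_smul, mul_smul, mul_smul, inv_smul_eq_iff.2 (mem_stab hg).symm,
      inv_smul_eq_iff.2 (mem_stab (hMle hm)).symm, e'])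
  rw [this]; exact hconj

end Cfsg.Agent.S3495
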