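import Cfsg.Statements.S3508
import Mathlib

set_option autoImplicit false
open Cfsg

namespace Cfsg.Agent.S3508

open Polynomial in
theorem geom_sum_eq_sub_one_pow (p s : ℕ) [Fact p.Prime] :
    (∑ i ∈ Finset.range (p ^ s), (X : (ZMod p)[X]) ^ i) = (X - 1) ^ (p ^ s - 1) := by
  have h1 : 1 ≤ p ^ s := Nat.one_le_pow _ _ (Fact.out : p.Prime).pos
  have hX : (X : (ZMod p)[X]) - 1 ≠ 0 := by rw [← C_1]; exact X_sub_C_ne_zero 1
  refine mul_right_cancel₀ hX ?_
  rw [geom_sum_mul, ← pow_succ, Nat.sub_add_cancel h1, sub_pow_char_pow, one_pow]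

theorem nilpotent_pow_eq_zero {K V : Type*} [Field K] [AddCommGroup V] [Module K V] [FiniteDimensional K V]
    (f : Module.End K V) (hf : IsNilpotent f) : f ^ Module.finrank K V = 0 := by
  have h := (LinearMap.isNilpotent_iff_charpoly f).1 hf
  simpa [h] using f.aeval_self_charpoly

/-- affine transformations with unipotent linear part of order `p ^ r` -/
theorem affine_bound {V : Type*} [AddCommGroup V] [Finite V] (p m : ℕ) [Fact p.Prime]
    [Module (ZMod p) V] (hcard : Nat.card V = p ^ m)
    (φ : V →+ V) (a : V) (s : ℕ) (h : (fun x => φ x + a)^[p ^ (s + 1)] = id)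
    (hms : m + 1 ≤ p ^ s) : (fun x => φ x + a)^[p ^ s] = id := by
  haveI : Module.Finite (ZMod p) V := Module.Finite.of_finite
  rcases subsingleton_or_nontrivial V with hV | hV
  · funext x
    exact Subsingleton.elim _ _
  have hfr : Module.finrank (ZMod p) V = m := by
    have hfin : Module.Finite (ZMod p) V := Module.Finite.of_finite
    have : Nat.card V = Nat.card (ZMod p) ^ Module.finrank (ZMod p) V :=
      @Module.natCard_eq_pow_finrank (ZMod p) V _ _ _ hfin
    rw [hcard, Nat.card_zmod] at this
    exact (Nat.pow_right_injective (Fact.out : p.Prime).two_le this).symm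
  let L : Module.End (ZMod p) V := AddMonoidHom.toZModLinearMap p φ
  have hL : ∀ x : V, L x = φ x := fun x => rfl
  have iter : ∀ (k : ℕ) (x : V), (fun x => φ x + a)^[k] x = (L ^ k) x + (∑ i ∈ Finset.range k, L ^ i) a := by
    intro k
    induction k with
    | zero => intro x; simp
    | succ k ih =>
      intro x
      rw [Function.iterate_succ_apply, ih, pow_succ, Module.End.mul_apply, hL, map_add,
        Finset.sum_range_succ, LinearMap.add_apply]
      abel
  haveI : CharP (Module.End (ZMod p) V) p :=
    charP_of_injective_algebraMap (algebraMap (ZMod p) (Module.End (ZMod p) V)).injective p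
  have hfrob : ∀ t, (L - 1) ^ p ^ t = L ^ p ^ t - 1 := fun t => by
    rw [sub_pow_char_pow_of_commute (p := p) (h := Commute.one_right L), one_pow]
  have hL1 : L ^ p ^ (s + 1) = 1 := by
    have h0 : (∑ i ∈ Finset.range (p ^ (s + 1)), L ^ i) a = 0 := by
      have := iter (p ^ (s + 1)) 0
      rwa [h, id, map_zero, zero_add, eq_comm] at this
    refine LinearMap.ext fun x => ?_
    have := iter (p ^ (s + 1)) x
    rw [h, id, h0, add_zero] at this
    exact this.symm
  have hz : (L - 1) ^ m = 0 := by
    rw [← hfr]
    exact nilpotent_pow_eq_zero _ ⟨p ^ (s + 1), by rw [hfrob, hL1, sub_self]⟩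
  have h2 : L ^ p ^ s = 1 := sub_eq_zero.1 (by rw [← hfrob]; exact pow_eq_zero_of_le (by omega) hz)
  have h3 : ∑ i ∈ Finset.range (p ^ s), L ^ i = 0 := by
    have := congrArg (Polynomial.aeval L) (geom_sum_eq_sub_one_pow p s)
    simp only [map_sum, map_pow, Polynomial.aeval_X, map_sub, map_one] at this
    rw [this]
    exact pow_eq_zero_of_le (by omega) hz
  funext x
  rw [iter, h2, h3, Module.End.one_apply, LinearMap.zero_apply, add_zero, id]


/-- Let a finite group G act faithfully on a set Ω with p ^ m points (p prime) and have an elementary abelian normal p-subgroup N acting regularly on Ω (so G is a group of affine transformations of an m-dimensional space over the field with p elements). If G contains an element of order p ^ r with r ≥ 1, then p ^ (r − 1) ≤ m. In particular an element of order p ^ m forces m ≤ 2, and m ≤ 1 when p is odd. -/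
theorem result {G : Type*} [Group G] [Finite G] {Ω : Type*} [Fintype Ω] [MulAction G Ω] [FaithfulSMul G Ω] (p m : ℕ) (hp : p.Prime) (hcard : Fintype.card Ω = p ^ m)
    (N : Subgroup G) [N.Normal] (hNc : IsMulCommutative N) (hNp : ∀ n ∈ N, n ^ p = 1)
    (hNtr : MulAction.IsPretransitive N Ω) (hNreg : ∀ ω : Ω, MulAction.stabilizer N ω = ⊥)
    (g : G) (r : ℕ) (hr : 1 ≤ r) (hg : orderOf g = p ^ r) :
    p ^ (r - 1) ≤ m ∧ (r = m → m ≤ 2 ∧ (2 < p → m ≤ 1)) := by
  haveI := Fact.mk hp
  have hbound : p ^ (r - 1) ≤ m := by
    by_contra hlt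
    push Not at hlt
    obtain ⟨ω⟩ : Nonempty Ω := Fintype.card_pos_iff.1 (hcard ▸ pow_pos hp.pos m)
    have hbij : Function.Bijective fun n : N => n • ω := by
      refine ⟨fun a b e => ?_, fun x => hNtr.exists_smul_eq ω x⟩
      have : b⁻¹ * a ∈ MulAction.stabilizer N ω := by
        rw [MulAction.mem_stabilizer_iff, mul_smul]
        exact inv_smul_eq_iff.2 e
      rw [hNreg, Subgroup.mem_bot, inv_mul_eq_one] at this
      exact this.symm
    let e : Additive N ≃ Ω := Additive.toMul.trans (Equiv.ofBijective _ hbij)
    letI : CommGroup N := { (inferInstance : Group N) with mul_comm := fun a b => hNc.is_comm.comm a b }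
    let φ : Additive N →+ Additive N :=
      MonoidHom.toAdditive (MulAut.conjNormal g : MulAut N).toMonoidHom
    let a : Additive N := e.symm (g • ω)
    have hkey : ∀ x, e (φ x + a) = g • e x := by
      intro x
      have ha : ((Additive.toMul a : N) : G) • ω = g • ω := e.apply_symm_apply (g • ω)
      show (((MulAut.conjNormal g (Additive.toMul x) : N) : G) * (Additive.toMul a : N)) • ω
        = g • ((Additive.toMul x : N) : G) • ω
      rw [MulAut.conjNormal_apply, mul_smul, ha, ← mul_smul, ← mul_smul, inv_mul_cancel_right]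
    have hiter : ∀ k x, e ((fun x => φ x + a)^[k] x) = g ^ k • e x := by
      intro k
      induction k with
      | zero => intro x; simp
      | succ k ih => intro x; rw [Function.iterate_succ_apply', hkey, ih, ← mul_smul, pow_succ']
    have hcardV : Nat.card (Additive N) = p ^ m := by
      rw [Nat.card_congr e, Nat.card_eq_fintype_card, hcard]
    haveI : Finite (Additive N) := Nat.finite_of_card_ne_zero (hcardV ▸ (pow_pos hp.pos m).ne')
    have hord : g ^ p ^ (r - 1 + 1) = 1 := by
      rw [Nat.sub_add_cancel hr, ← hg, pow_orderOf_eq_one]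
    letI : Module (ZMod p) (Additive N) := AddCommGroup.zmodModule (fun v : Additive N =>
      Additive.toMul.injective (Subtype.ext (hNp _ (Additive.toMul v).2)))
    have := affine_bound p m hcardV φ a (r - 1)
      (funext fun x => e.injective (by rw [hiter, hord, one_smul, id])) hlt
    have hg1 : g ^ p ^ (r - 1) = 1 := FaithfulSMul.eq_of_smul_eq_smul (α := Ω) fun x => by
      rw [one_smul, ← e.apply_symm_apply x, ← hiter, this, id]
    have := Nat.le_of_dvd (pow_pos hp.pos _) (orderOf_dvd_of_pow_eq_one hg1)
    rw [hg, Nat.pow_le_pow_iff_right hp.one_lt] at this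
    omega
  refine ⟨hbound, fun hrm => ?_⟩
  subst hrm
  constructor
  · by_contra h
    push Not at h
    have h2 : 2 ^ (r - 1) ≤ r := (Nat.pow_le_pow_left hp.two_le _).trans hbound
    have : ∀ k, k + 3 < 2 ^ (k + 2) := fun k => by
      induction k with
      | zero => norm_num
      | succ k ih => rw [pow_succ]; omega
    have := this (r - 3)
    rw [show r - 3 + 2 = r - 1 by omega] at this
    omega
  · intro hp3
    by_contra h
    push Not at h
    have h2 : 3 ^ (r - 1) ≤ r := (Nat.pow_le_pow_left hp3 _).trans hbound
    have : ∀ k, k + 2 < 3 ^ (k + 1) := fun k => by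
      induction k with
      | zero => norm_num
      | succ k ih => rw [pow_succ]; omega
    have := this (r - 2)
    rw [show r - 2 + 1 = r - 1 by omega] at this
    omega

end Cfsg.Agent.S3508
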