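import Cfsg.Statements.S3514
import Cfsg.Agent.Lib.PGroup.ElementaryBasic
import Cfsg.Agent.Lib.Coprime.Hall
import Mathlib.GroupTheory.GroupAction.Quotient

set_option autoImplicit false
open Cfsg

namespace Cfsg.Agent.S3514

/-- Let p be a prime, V a finite vector space over the field with p elements, and H a group of linear transformations of V all of whose orbits on V have size coprime to p. (i) Every normal subgroup K of H has all its orbits on V of size coprime to p. (ii) If N is a group of linear transformations of V of order coprime to p that is normalized by H, then the group generated by N and H has all its orbits on V of size coprime to p. -/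
theorem result (p : ℕ) [Fact p.Prime] {V : Type*} [AddCommGroup V] [Module (ZMod p) V] [Finite V]
    (H : Subgroup (V ≃ₗ[ZMod p] V)) (hH : ∀ v : V, ¬ p ∣ Nat.card {u : V | ∃ h ∈ H, h v = u}) :
    (∀ K : Subgroup (V ≃ₗ[ZMod p] V), K ≤ H → H ≤ Subgroup.normalizer (K : Set (V ≃ₗ[ZMod p] V)) →
        ∀ v : V, ¬ p ∣ Nat.card {u : V | ∃ k ∈ K, k v = u}) ∧
    (∀ N : Subgroup (V ≃ₗ[ZMod p] V), ¬ p ∣ Nat.card N → H ≤ Subgroup.normalizer (N : Set (V ≃ₗ[ZMod p] V)) →
        ∀ v : V, ¬ p ∣ Nat.card {u : V | ∃ x ∈ N ⊔ H, x v = u}) := by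
  have horb : ∀ (X : Subgroup (V ≃ₗ[ZMod p] V)) (v : V),
      Nat.card {u : V | ∃ h ∈ X, h v = u} = (MulAction.stabilizer (V ≃ₗ[ZMod p] V) v).relIndex X := by
    intro X v
    rw [Subgroup.relIndex, show (MulAction.stabilizer (V ≃ₗ[ZMod p] V) v).subgroupOf X = MulAction.stabilizer X v from rfl,
      MulAction.index_stabilizer, Nat.card_coe_set_eq]
    congr 1
    ext u
    constructor
    · rintro ⟨h, hh, rfl⟩; exact ⟨⟨h, hh⟩, rfl⟩
    · rintro ⟨⟨h, hh⟩, rfl⟩; exact ⟨h, hh, rfl⟩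
  haveI : Finite (V ≃ₗ[ZMod p] V) := Finite.of_injective (fun e : V ≃ₗ[ZMod p] V => (e : V → V)) DFunLike.coe_injective
  have hrel : ∀ (X S : Subgroup (V ≃ₗ[ZMod p] V)),
      Nat.card ↥(S ⊓ X) * S.relIndex X = Nat.card X := fun X S => by
    rw [← Subgroup.inf_relIndex_right]
    exact CfsgLib.Coprime.card_mul_relIndex inf_le_right
  refine ⟨fun K hKH hN v => fun hd => hH v ?_, fun N hN hHN v => fun hd => ?_⟩
  · rw [horb] at hd ⊢
    set S := MulAction.stabilizer (V ≃ₗ[ZMod p] V) v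
    have h1 := CfsgLib.EABasic.card_sup_mul_card_inf_of_le_normalizer (H := S ⊓ H) (N := K) (inf_le_right.trans hN)
    have h2 := Subgroup.card_dvd_of_le (sup_le inf_le_right hKH : S ⊓ H ⊔ K ≤ H)
    obtain ⟨m, hm⟩ := h2
    have e : (S ⊓ H) ⊓ K = S ⊓ K := by rw [inf_assoc, inf_eq_right.2 hKH]
    rw [e, ← hrel K S] at h1
    have hH' := hrel H S
    have hpos : 0 < Nat.card ↥(S ⊓ H) * Nat.card ↥(S ⊓ K) := Nat.mul_pos Nat.card_pos Nat.card_pos
    have : Nat.card ↥(S ⊓ H) * Nat.card ↥(S ⊓ K) * S.relIndex H =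
        Nat.card ↥(S ⊓ H) * Nat.card ↥(S ⊓ K) * (S.relIndex K * m) := by
      calc Nat.card ↥(S ⊓ H) * Nat.card ↥(S ⊓ K) * S.relIndex H = Nat.card H * Nat.card ↥(S ⊓ K) := by
            rw [← hH']; ring
        _ = (Nat.card ↥(S ⊓ H ⊔ K) * Nat.card ↥(S ⊓ K)) * m := by rw [hm]; ring
        _ = _ := by rw [h1]; ring
    rw [Nat.eq_of_mul_eq_mul_left hpos this]
    exact hd.mul_right _
  · rw [horb] at hd
    set S := MulAction.stabilizer (V ≃ₗ[ZMod p] V) v
    have h1 := CfsgLib.EABasic.card_sup_mul_card_inf_of_le_normalizer (H := H) (N := N) hHN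
    have h2 := hrel (N ⊔ H) S
    have h3 : Nat.card ↥(S ⊓ H) ∣ Nat.card ↥(S ⊓ (N ⊔ H)) :=
      Subgroup.card_dvd_of_le (inf_le_inf_left _ le_sup_right)
    have h4 : Nat.card ↥(S ⊓ H) * S.relIndex (N ⊔ H) ∣ Nat.card ↥(S ⊓ H) * (S.relIndex H * Nat.card N) := by
      rw [← mul_assoc, hrel H S]
      refine (mul_dvd_mul_right h3 _).trans ?_
      rw [h2, ← h1, sup_comm H N]
      exact dvd_mul_right _ _
    have h5 := Nat.dvd_of_mul_dvd_mul_left Nat.card_pos h4
    rcases (Fact.out : p.Prime).dvd_mul.1 (hd.trans h5) with h | h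
    · exact hH v (by rw [horb]; exact h)
    · exact hN h

end Cfsg.Agent.S3514
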