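import Cfsg.Statements.S3531
import Cfsg.Agent.Lib.Spor.JOneSquare.Main
import Cfsg.Agent.Lib.Spor.JOneSquare.Models
import Cfsg.Agent.Lib.Spor.JOneSquare.SmallPSL
import Cfsg.Agent.Lib.CIT.PslModel

set_option autoImplicit false
open Cfsg

namespace Cfsg.Agent.S3531

/-- Let J be the first Janko group. A finite group with the same set of element orders as J × J is isomorphic to J × J. -/
theorem result {G : Type*} [Group G] [Finite G]
    (h : Set.range (orderOf : G → ℕ) = Set.range (orderOf : ↥Cfsg.Spor.J1 × ↥Cfsg.Spor.J1 → ℕ)) :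
    Nonempty (G ≃* ↥Cfsg.Spor.J1 × ↥Cfsg.Spor.J1) := by
  obtain ⟨hsub, hedge⟩ := CfsgLib.Spor.JOneSquare.spectrum h
  refine CfsgLib.Spor.JOneSquare.recognizable (CfsgLib.Spor.JOneSquare.cases_of_small
    (fun T _ _ he => he.elim CfsgLib.Spor.JOneSquare.small_five) fun T _ _ F _ _ hF he => ?_) hsub hedge
  haveI : Fact (Nat.Prime 11) := ⟨by norm_num⟩
  obtain ⟨e⟩ := he
  obtain ⟨a⟩ := CfsgLib.CIT.psl_congr (FiniteField.ringEquivOfCardEq (K := F) (K' := ZMod 11)
    (hF.trans (ZMod.card 11).symm))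
  exact CfsgLib.Spor.JOneSquare.small_eleven (e.trans a)

end Cfsg.Agent.S3531
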