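import Cfsg.Statements.S3532

import Cfsg.Agent.Lib.Char.SquareSpectrum

set_option autoImplicit false
open Cfsg

namespace Cfsg.Agent.S3532

/-- Let q ≥ 4 be a prime power and L = PSL(2,q). There is a finite solvable group with the same set of element orders as L × L (so L × L is not determined by its spectrum). -/
theorem result {F : Type*} [Field F] [Fintype F] (hF : 4 ≤ Fintype.card F) :
    ∃ (H : Type) (_ : Group H) (_ : Finite H), Group.IsSolvable H ∧
      Set.range (orderOf : H → ℕ) = Set.range (orderOf : Matrix.ProjectiveSpecialLinearGroup (Fin 2) F × Matrix.ProjectiveSpecialLinearGroup (Fin 2) F → ℕ) := by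
  classical
  obtain ⟨p, n, A, B, hp, hn, hA, hB, hpA, hpB, hAB, h⟩ := CfsgLib.Char.TwoChars.psl_three_tori (F := F) hF
  obtain ⟨H, i, j, hs, hr⟩ := CfsgLib.Char.exists_solvable_pairDivisors hp hn hA hB hpA hpB hAB
  exact ⟨H, i, j, hs, hr.trans h.symm⟩

end Cfsg.Agent.S3532
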