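import Cfsg.Statements.S3550
import Cfsg.Agent.Lib.Perm.DerangeIndex.Frobenius
import Cfsg.Agent.Lib.Char.DerangementIndex
import Cfsg.Agent.Lib.Char.Burnside
import Cfsg.Agent.Lib.Coprime.Fitting
import Cfsg.Agent.S0675
import Mathlib

set_option autoImplicit false
open Cfsg

namespace Cfsg.Agent.S3550

/-- Let G act faithfully and primitively on a finite set with n ≥ 2 points and suppose G has no non-trivial abelian normal subgroup (G is not of affine type). Let D be the subgroup generated by the derangements. Then the index of D in G is at most √n − 1. -/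
theorem result {G Ω : Type*} [Group G] [Finite G] [MulAction G Ω] [FaithfulSMul G Ω] [Finite Ω]
    (hprim : MulAction.IsPreprimitive G Ω) (hΩ : 2 ≤ Nat.card Ω) (hna : ∀ N : Subgroup G, N.Normal → IsMulCommutative ↥N → N = ⊥) :
    ((Subgroup.closure {g : G | ∀ ω : Ω, g • ω ≠ ω}).index : ℝ) ≤ Real.sqrt (Nat.card Ω) - 1 := by
  classical
  letI := Fintype.ofFinite Ω
  have hsolv : ∀ N : Subgroup G, N.Normal → Group.IsSolvable N → N = ⊥ := by
    intro N hN hs
    by_contra hNb
    haveI := hN
    obtain ⟨M, hMn, hMb, hMN, hmin⟩ := CfsgLib.Coprime.exists_minimal_normal_le hNb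
    haveI := hMn
    haveI : Group.IsSolvable M := solvable_of_solvable_injective (Subgroup.inclusion_injective hMN)
    have hc := (CfsgLib.Coprime.minimal_normal_solvable hMb hmin).1
    exact hMb (hna M hMn ⟨⟨fun x y => Subtype.ext (hc x x.2 y y.2)⟩⟩)
  have htr : MulAction.IsPretransitive G Ω := hprim.toIsPretransitive
  haveI : Nonempty Ω := (Nat.card_pos_iff.1 (by omega)).1
  obtain ⟨a⟩ := ‹Nonempty Ω›
  haveI : Nontrivial Ω := Finite.one_lt_card_iff_nontrivial.1 (by omega)
  have hinj : Function.Injective (MulAction.toPermHom G Ω) := MulAction.toPerm_injective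
  set D := CfsgLib.Char.derangementSubgroup G Ω with hD
  set k := D.index with hkdef
  set n := Nat.card Ω with hndef
  suffices hsmall : (k + 1) ^ 2 ≤ n by
    show (k : ℝ) ≤ Real.sqrt n - 1
    have h1 : ((k : ℝ) + 1) ≤ Real.sqrt n := by
      rw [Real.le_sqrt (by positivity) (by positivity)]
      exact_mod_cast hsmall
    linarith
  by_contra hsmall
  have hpair : CfsgLib.DerangeIndex.Pair G Ω D :=
    { normal := CfsgLib.Char.DerangementIndex.derangementSubgroup_normal
      trans := fun b c => by
        obtain ⟨⟨d, hd⟩, he⟩ :=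
          (CfsgLib.Char.derangementSubgroup_transitive htr).1.exists_smul_eq b c
        exact ⟨d, hd, he⟩
      uniq := fun g hg b c hb hc => by
        by_contra hne
        exact hg (CfsgLib.Char.DerangementIndex.mem_of_fix_two htr hne hb hc) }
  have hbig : n < (D.index + 1) ^ 2 := not_le.1 hsmall
  have hns : ¬ Group.IsSolvable G := fun hs => by
    have htop := hsolv ⊤ inferInstance (solvable_of_solvable_injective (Subgroup.subtype_injective ⊤))
    obtain ⟨b, hb⟩ := exists_ne a
    obtain ⟨d, -, he⟩ := hpair.trans a b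
    have hd : d = 1 := Subgroup.mem_bot.1 (htop ▸ Subgroup.mem_top d)
    rw [hd, one_smul] at he
    exact hb he.symm
  rcases Nat.lt_or_ge n 5 with h5 | h5
  · -- degree at most four
    apply hns
    have h1 : Nat.card G ∣ 2 ^ 3 * 3 ^ 1 := by
      refine (Subgroup.card_dvd_of_injective _ hinj).trans ?_
      rw [Nat.card_perm, ← hndef]
      interval_cases n <;> decide
    obtain ⟨c₁, c₂, hc₁, hc₂, hc⟩ := Nat.dvd_mul.1 h1
    obtain ⟨i, -, rfl⟩ := (Nat.dvd_prime_pow Nat.prime_two).1 hc₁
    obtain ⟨j, -, rfl⟩ := (Nat.dvd_prime_pow Nat.prime_three).1 hc₂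
    exact CfsgLib.Char.isSolvable_of_card_two_primes Nat.prime_two Nat.prime_three G i j hc.symm
  obtain ⟨p, e, hp, he, hpe, hord⟩ := hpair.hard a (by omega) hbig
  rw [← hndef] at hpe
  haveI := Fact.mk hp
  have hred : CfsgLib.DerangeIndex.Red G Ω D a p e :=
    ⟨hpair, fun g hg => eq_of_smul_eq_smul fun b : Ω => (hg b).trans (one_smul G b).symm,
      hp, he, hpe, hord⟩
  rcases Nat.lt_or_ge n 8 with h8 | h8
  · -- prime degree
    have hpn : n.Prime := by
      have he1 : e = 1 := by
        by_contra hne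
        rcases Nat.lt_or_ge p 3 with hp3 | hp3
        · have hp2 : p = 2 := by have := hp.two_le; omega
          subst hp2
          rcases Nat.lt_or_ge e 3 with h | h
          · rw [show e = 2 by omega] at hpe; omega
          · have h23 := Nat.pow_le_pow_right (show 0 < 2 by norm_num) h
            omega
        · have h1 : 3 ^ 2 ≤ p ^ e :=
            (Nat.pow_le_pow_left hp3 2).trans (Nat.pow_le_pow_right hp.pos (by omega))
          omega
      rw [hpe, he1, pow_one]
      exact hp
    set Γ := D.map (MulAction.toPermHom G Ω) with hΓ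
    haveI : MulAction.IsPretransitive Γ Ω := ⟨fun b c => by
      obtain ⟨d, hd, hdc⟩ := hpair.trans b c
      exact ⟨⟨_, Subgroup.mem_map_of_mem _ hd⟩, hdc⟩⟩
    rcases Cfsg.Agent.S0675.result (α := Ω) (by rw [← Nat.card_eq_fintype_card]; exact hpn) Γ with hs | h2
    · have hDb := hsolv D hpair.normal (solvable_of_solvable_injective
        (f := (Subgroup.equivMapOfInjective D _ hinj).toMonoidHom) (MulEquiv.injective _))
      obtain ⟨b, hb⟩ := exists_ne a
      obtain ⟨d, hd, hde⟩ := hpair.trans a b
      rw [hDb, Subgroup.mem_bot] at hd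
      rw [hd, one_smul] at hde
      exact hb hde.symm
    · obtain ⟨g₀, hg₀⟩ : ∃ g, g ∉ D := by
        by_contra hcon
        push Not at hcon
        have : D = ⊤ := eq_top_iff.2 fun g _ => hcon g
        rw [this, Subgroup.index_top] at hbig
        omega
      obtain ⟨g, hga, hgD⟩ := hpair.covers_stabilizer a g₀
      have hgnD : g ∉ D := fun hg => hg₀ (by rw [show g₀ = g * (g⁻¹ * g₀) by group]; exact mul_mem hg hgD)
      obtain ⟨b, hb⟩ := exists_ne a
      have hgb : g • b ≠ a := fun e' =>
        hb (MulAction.injective g (e'.trans (MulAction.mem_stabilizer_iff.1 hga).symm))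
      obtain ⟨⟨σ, hσ⟩, hd1, hd2⟩ := (MulAction.is_two_pretransitive_iff (G := Γ) (α := Ω)).1 h2
        hb.symm hgb.symm
      obtain ⟨d, hd, rfl⟩ := hσ
      refine hb.symm (hpair.uniq (d⁻¹ * g)
        (fun hm => hgnD (by simpa using mul_mem hd hm)) a b ?_ ?_)
      · rw [mul_smul, MulAction.mem_stabilizer_iff.1 hga, inv_smul_eq_iff]
        exact hd1.symm
      · rw [mul_smul, inv_smul_eq_iff]
        exact hd2.symm
  -- the regular normal subgroup is a `p`-group
  obtain ⟨P, hPn, hPt, hPs, -, -, -⟩ := hred.frobenius hbig h8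
  haveI := hPn
  have hPcard : Nat.card P = p ^ e := by
    rw [← hpe]
    refine Nat.card_eq_of_bijective (fun u : P => (u : G) • a) ⟨fun u v huv => ?_, fun c => ?_⟩
    · refine Subtype.ext (inv_mul_eq_one.1 (hPs _ (mul_mem (inv_mem u.2) v.2) a ?_))
      rw [mul_smul, ← (show (u : G) • a = (v : G) • a from huv), inv_smul_smul]
    · obtain ⟨u, hu, he'⟩ := hPt a c
      exact ⟨⟨u, hu⟩, he'⟩
  haveI : Nontrivial P := Finite.one_lt_card_iff_nontrivial.1 (by rw [hPcard]; omega)
  have hPpg : IsPGroup p P := IsPGroup.of_card hPcard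
  refine hPpg.bot_lt_center.ne' ((Subgroup.map_eq_bot_iff_of_injective _ P.subtype_injective).1
    (hna ((Subgroup.center P).map P.subtype) inferInstance ⟨⟨?_⟩⟩))
  rintro ⟨_, x, hx, rfl⟩ ⟨_, y, hy, rfl⟩
  exact Subtype.ext (congrArg Subtype.val (Subgroup.mem_center_iff.1 hx y)).symm

end Cfsg.Agent.S3550
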