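import Cfsg.Statements.S3554

import Cfsg.Agent.Lib.Char.RecogSmall

set_option autoImplicit false
open Cfsg

namespace Cfsg.Agent.S3554

/-- Let G act faithfully and transitively on a finite set and suppose G has a non-trivial cyclic normal subgroup. Then some element of G of prime order fixes no point. -/
theorem result {G Ω : Type*} [Group G] [Finite G] [MulAction G Ω] [FaithfulSMul G Ω] [Finite Ω]
    (htrans : MulAction.IsPretransitive G Ω) (C : Subgroup G) (hC : C.Normal) (hC1 : C ≠ ⊥) (hcyc : IsCyclic ↥C) :
    ∃ g : G, (orderOf g).Prime ∧ ∀ ω : Ω, g • ω ≠ ω := by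
  exact CfsgLib.Char.prime_derangement htrans C hC hC1 hcyc

end Cfsg.Agent.S3554
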