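import Cfsg.Statements.S3555
import Cfsg.Agent.Lib.Invol.InvDerangeMain

set_option autoImplicit false
open Cfsg

open scoped Pointwise

namespace Cfsg.Agent.S3555

/-- Let G act faithfully and transitively on a finite set and suppose every element of G fixing no point is an involution. Then either G is an elementary abelian 2-group, or G is a Frobenius group whose Frobenius kernel is an elementary abelian 2-group: G has a Frobenius complement H, and the elements lying in no conjugate of H, together with the identity, pairwise commute and square to the identity. -/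
theorem result {G Ω : Type*} [Group G] [Finite G] [MulAction G Ω] [FaithfulSMul G Ω] [Finite Ω]
    (htrans : MulAction.IsPretransitive G Ω) (hinv : ∀ g : G, (∀ ω : Ω, g • ω ≠ ω) → orderOf g = 2) :
    (IsMulCommutative G ∧ ∀ g : G, g ^ 2 = 1) ∨
    (∃ H : Subgroup G, Cfsg.IsFrobeniusComplement H ∧
      (∀ x ∈ Cfsg.frobeniusKernel H, x ^ 2 = 1) ∧
      ∀ x ∈ Cfsg.frobeniusKernel H, ∀ y ∈ Cfsg.frobeniusKernel H, x * y = y * x) := by
  classical
  haveI : Fintype G := Fintype.ofFinite G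
  haveI : Fintype Ω := Fintype.ofFinite Ω
  haveI := htrans
  have hinv' : ∀ g : G, CfsgLib.Invol.InvDerange.Der Ω g → g * g = 1 := fun g hg => by
    have h := pow_orderOf_eq_one g
    rw [hinv g hg, pow_two] at h
    exact h
  have hfirst : (∀ g : G, g ≠ 1 → ∀ ω : Ω, g • ω ≠ ω) → IsMulCommutative G ∧ ∀ g : G, g ^ 2 = 1 := by
    intro h
    have hsq : ∀ g : G, g * g = 1 := fun g => by
      by_cases hg : g = 1
      · rw [hg, mul_one]
      · exact hinv' g (h g hg)
    refine ⟨⟨⟨fun a b => ?_⟩⟩, fun g => (pow_two g).trans (hsq g)⟩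
    rw [← inv_eq_of_mul_eq_one_right (hsq (a * b)), mul_inv_rev, inv_eq_of_mul_eq_one_right (hsq a),
      inv_eq_of_mul_eq_one_right (hsq b)]
  rcases isEmpty_or_nonempty Ω with hE | hne
  · exact Or.inl (hfirst fun g _ ω => isEmptyElim ω)
  obtain ⟨ω₀⟩ := hne
  haveI : Nonempty Ω := ⟨ω₀⟩
  have hclosed := CfsgLib.Invol.InvDerange.closed_all (Ω := Ω) _ G rfl hinv'
  obtain ⟨K, hK, -, hd⟩ := CfsgLib.Invol.InvDerange.exists_kernel hinv' hclosed
  have hone : ∀ g : G, g ≠ 1 → ¬ CfsgLib.Invol.InvDerange.Der Ω g → CfsgLib.Invol.InvDerange.fx Ω g = 1 := by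
    intro g hg hgd
    have hcnt := CfsgLib.Invol.InvDerange.count (G := G) (Ω := Ω)
    have hz : ∑ g ∈ CfsgLib.Invol.InvDerange.fixSet G Ω, (CfsgLib.Invol.InvDerange.fx Ω g - 1) = 0 := by omega
    have h1 := (Finset.sum_eq_zero_iff.1 hz) g (by simp [CfsgLib.Invol.InvDerange.fixSet, hg, hgd])
    have h2 := CfsgLib.Invol.InvDerange.fx_pos hgd
    omega
  set H : Subgroup G := MulAction.stabilizer G ω₀ with hH
  by_cases hbot : H = ⊥
  · refine Or.inl (hfirst fun g hg ω hω => hg ?_)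
    obtain ⟨c, rfl⟩ := MulAction.exists_smul_eq G ω₀ ω
    have h1 : c⁻¹ * g * c ∈ H := by
      rw [hH, MulAction.mem_stabilizer_iff, mul_smul, mul_smul, hω, inv_smul_smul]
    rw [hbot, Subgroup.mem_bot] at h1
    calc g = c * (c⁻¹ * g * c) * c⁻¹ := by group
      _ = 1 := by rw [h1, mul_one, mul_inv_cancel]
  have hconj : ∀ (g x : G), x ∈ MulAut.conj g • H ↔ x • g • ω₀ = g • ω₀ := by
    intro g x
    rw [Subgroup.mem_pointwise_smul_iff_inv_smul_mem]
    show (MulAut.conj g)⁻¹ x ∈ H ↔ _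
    rw [hH, MulAction.mem_stabilizer_iff, MulAut.conj_inv_apply, mul_smul, mul_smul, inv_smul_eq_iff]
  have hker : ∀ x : G, x ∈ Cfsg.frobeniusKernel H ↔ x ∈ K := by
    intro x
    rw [hK, Cfsg.frobeniusKernel, Set.mem_setOf_eq]
    refine or_congr Iff.rfl ⟨fun h ω hω => ?_, fun h g hg => h _ ((hconj g x).1 hg)⟩
    obtain ⟨c, rfl⟩ := MulAction.exists_smul_eq G ω₀ ω
    exact h c ((hconj c x).2 hω)
  have hsqK : ∀ x ∈ K, x * x = 1 := by
    intro x hx
    rcases (hK x).1 hx with rfl | h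
    · simp
    · exact hinv' x h
  refine Or.inr ⟨H, ⟨hbot, fun htop => hbot ((Subgroup.eq_bot_iff_forall _).2 fun g hg => ?_), fun g hg => ?_⟩,
    fun x hx => (pow_two x).trans (hsqK x ((hker x).1 hx)), fun x hx y hy => ?_⟩
  · refine eq_of_smul_eq_smul (α := Ω) fun ω => ?_
    obtain ⟨c, rfl⟩ := MulAction.exists_smul_eq G ω₀ ω
    have hc : c • ω₀ = ω₀ := MulAction.mem_stabilizer_iff.1 (hH ▸ htop ▸ Subgroup.mem_top c)
    rw [one_smul, hc, MulAction.mem_stabilizer_iff.1 (hH ▸ hg)]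
  · refine (Subgroup.eq_bot_iff_forall _).2 fun x hx => ?_
    obtain ⟨hx1, hx2⟩ := Subgroup.mem_inf.1 hx
    by_contra hne1
    have hω₀ : x • ω₀ = ω₀ := MulAction.mem_stabilizer_iff.1 (hH ▸ hx1)
    have hone' := hone x hne1 fun h => h ω₀ hω₀
    rw [CfsgLib.Invol.InvDerange.fx] at hone'
    have := Finset.card_le_one.1 (le_of_eq hone') ω₀ (by simp [hω₀]) (g • ω₀) (by simp [(hconj g x).1 hx2])
    exact hg (hH ▸ MulAction.mem_stabilizer_iff.2 this.symm)
  · have hxy := hsqK _ (K.mul_mem ((hker x).1 hx) ((hker y).1 hy))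
    rw [← inv_eq_of_mul_eq_one_right hxy, mul_inv_rev, inv_eq_of_mul_eq_one_right (hsqK x ((hker x).1 hx)),
      inv_eq_of_mul_eq_one_right (hsqK y ((hker y).1 hy))]

end Cfsg.Agent.S3555
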