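import Cfsg.Statements.S3557
import Mathlib.GroupTheory.Sylow
import Mathlib.Tactic

set_option autoImplicit false
open Cfsg

namespace Cfsg.Agent.S3557

/-- A Sylow orbit is at least as large as the corresponding part of the degree. -/
theorem pow_dvd_orbit {G Ω : Type*} [Group G] [Finite G] [MulAction G Ω] [Finite Ω]
    [MulAction.IsPretransitive G Ω] {p : ℕ} [hp : Fact p.Prime] (P : Sylow p G) {e : ℕ}
    (he : p ^ e ∣ Nat.card Ω) (a : Ω) :
    p ^ e ∣ Nat.card (MulAction.orbit (P : Subgroup G) a) := by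
  have h1 : Nat.card (MulAction.orbit (P : Subgroup G) a) *
      Nat.card (MulAction.stabilizer (P : Subgroup G) a) = Nat.card (P : Subgroup G) := by
    rw [← Nat.card_prod]
    exact Nat.card_congr (MulAction.orbitProdStabilizerEquivGroup _ a)
  have h2 : Nat.card Ω * Nat.card (MulAction.stabilizer G a) = Nat.card G := by
    rw [← MulAction.index_stabilizer_of_transitive G a, mul_comm]
    exact Subgroup.card_mul_index _
  have h3 : Nat.card (MulAction.stabilizer (P : Subgroup G) a) ∣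
      Nat.card (MulAction.stabilizer G a) :=
    Subgroup.card_dvd_of_injective
      ({ toFun := fun x => ⟨((x : (P : Subgroup G)) : G), x.2⟩
         map_one' := rfl
         map_mul' := fun _ _ => rfl } :
        MulAction.stabilizer (P : Subgroup G) a →* MulAction.stabilizer G a)
      fun x y h => Subtype.ext (Subtype.ext (congrArg (fun u : MulAction.stabilizer G a => (u : G)) h))
  obtain ⟨k, hk⟩ := (IsPGroup.iff_card.1 (P.isPGroup'.to_subgroup
    (MulAction.stabilizer (P : Subgroup G) a)))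
  have h4 : p ^ e * p ^ k ∣ Nat.card G := h2 ▸ Nat.mul_dvd_mul he (hk ▸ h3)
  rw [← Subgroup.card_mul_index (P : Subgroup G), ← pow_add] at h4
  have h5 : p ^ (e + k) ∣ Nat.card (P : Subgroup G) :=
    (Nat.Coprime.pow_left _ ((hp.out.coprime_iff_not_dvd).2 P.not_dvd_index)).dvd_of_dvd_mul_right h4
  rw [pow_add, ← h1, hk] at h5
  exact (Nat.mul_dvd_mul_iff_right (pow_pos hp.out.pos k)).1 h5

/-- Let G act faithfully and transitively on a finite set with 2p² points, p a prime, and suppose G is 2-closed: every permutation of the set which, on each ordered pair of points, agrees with some element of G, is itself induced by an element of G. Then some element of G of prime order fixes no point. -/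
theorem result {G Ω : Type*} [Group G] [Finite G] [MulAction G Ω] [FaithfulSMul G Ω] [Finite Ω]
    (htrans : MulAction.IsPretransitive G Ω) (p : ℕ) (hp : p.Prime) (hcard : Nat.card Ω = 2 * p ^ 2)
    (hcl : ∀ σ : Equiv.Perm Ω, (∀ a b : Ω, ∃ g : G, σ a = g • a ∧ σ b = g • b) → ∃ g : G, ∀ a : Ω, σ a = g • a) :
    ∃ g : G, (orderOf g).Prime ∧ ∀ ω : Ω, g • ω ≠ ω := by
  classical
  haveI := Fact.mk hp
  haveI := htrans
  have hpG : p ∣ Nat.card G := by
    haveI : Nonempty Ω := (Nat.card_pos_iff.1 (hcard ▸ by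
      have := hp.pos; positivity : 0 < Nat.card Ω)).1
    obtain ⟨a⟩ := (inferInstance : Nonempty Ω)
    have h := Nat.card_congr (MulAction.orbitProdStabilizerEquivGroup G a)
    rw [Nat.card_prod, MulAction.orbit_eq_univ, Nat.card_coe_set_eq, Set.ncard_univ, hcard] at h
    exact ⟨2 * p * Nat.card (MulAction.stabilizer G a), by rw [← h]; ring⟩
  obtain ⟨P⟩ : Nonempty (Sylow p G) := inferInstance
  haveI : Nontrivial (P : Subgroup G) := (Subgroup.nontrivial_iff_ne_bot _).2 (P.ne_bot_of_dvd_card hpG)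
  have hPp : IsPGroup p (P : Subgroup G) := P.isPGroup'
  haveI := hPp.center_nontrivial
  obtain ⟨z₀, hz₀⟩ := exists_prime_orderOf_dvd_card' (G := ↥(Subgroup.center (P : Subgroup G))) p (by
    obtain ⟨k, hk, h⟩ := (hPp.to_subgroup (Subgroup.center _)).nontrivial_iff_card.1 inferInstance
    exact h ▸ dvd_pow_self p hk.ne')
  obtain ⟨z, hzc, hzo⟩ : ∃ z : (P : Subgroup G), z ∈ Subgroup.center _ ∧ orderOf z = p :=
    ⟨z₀, z₀.2, (Subgroup.orderOf_coe z₀).trans hz₀⟩
  have hzoG : orderOf (z : G) = p := (Subgroup.orderOf_coe z).trans hzo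
  by_cases hfree : ∀ ω : Ω, (z : G) • ω ≠ ω
  · exact ⟨(z : G), by rw [hzoG]; exact hp, hfree⟩
  obtain ⟨a, ha⟩ := not_forall.1 hfree
  rw [ne_eq, not_not] at ha
  have hcomm : ∀ (u : (P : Subgroup G)) (ω : Ω), z • u • ω = u • z • ω := fun u ω => by
    rw [← mul_smul, ← mul_smul, (Subgroup.mem_center_iff.1 hzc u).symm]
  have hO1 : ∀ c ∈ MulAction.orbit (P : Subgroup G) a, z • c = c := by
    rintro _ ⟨u, rfl⟩
    show z • u • a = u • a
    rw [hcomm, show z • a = a from ha]
  obtain ⟨b, hb⟩ : ∃ b, z • b ≠ b := by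
    by_contra hh
    have h1 : (z : G) = 1 := eq_of_smul_eq_smul fun ω : Ω => by
      rw [one_smul]; by_contra e; exact hh ⟨ω, e⟩
    rw [h1, orderOf_one] at hzoG
    exact hp.ne_one hzoG.symm
  have hbO : b ∉ MulAction.orbit (P : Subgroup G) a := fun h => hb (hO1 b h)
  -- exactly two orbits, both of size `p ^ 2`
  set O1 := MulAction.orbit (P : Subgroup G) a
  set O2 := MulAction.orbit (P : Subgroup G) b
  have hdisj : Disjoint O1 O2 := Set.disjoint_left.2 fun c h1 h2 => hbO (by
    rw [show O1 = MulAction.orbit (P : Subgroup G) c from (MulAction.orbit_eq_iff.2 h1).symm,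
      MulAction.orbit_eq_iff.2 h2]
    exact MulAction.mem_orbit_self b)
  have hle : O1.ncard + O2.ncard ≤ 2 * p ^ 2 := by
    rw [← Set.ncard_union_eq hdisj (Set.toFinite _) (Set.toFinite _), ← hcard, ← Set.ncard_univ]
    exact Set.ncard_le_ncard (Set.subset_univ _) (Set.toFinite _)
  have hd : ∀ c : Ω, p ^ 2 ≤ (MulAction.orbit (P : Subgroup G) c).ncard := fun c => by
    haveI : Nonempty (MulAction.orbit (P : Subgroup G) c) := ⟨⟨c, MulAction.mem_orbit_self c⟩⟩
    rw [← Nat.card_coe_set_eq]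
    exact Nat.le_of_dvd Nat.card_pos (pow_dvd_orbit P (hcard ▸ Dvd.intro_left 2 rfl) c)
  have hc1' : p ^ 2 ≤ O1.ncard := hd a
  have hc2' : p ^ 2 ≤ O2.ncard := hd b
  have hc1 : O1.ncard = p ^ 2 := by omega
  have hc2 : O2.ncard = p ^ 2 := by omega
  have hzp : z ^ p = 1 := orderOf_dvd_iff_pow_eq_one.1 hzo.dvd
  have hcover : ∀ c, c ∈ O1 ∨ c ∈ O2 := fun c => by
    by_contra hh
    have h1 : O1 ∪ O2 ⊂ Set.univ := ⟨Set.subset_univ _, fun h => hh (h (Set.mem_univ c))⟩
    have h2 := Set.ncard_lt_ncard h1 (Set.toFinite _)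
    rw [Set.ncard_union_eq hdisj (Set.toFinite _) (Set.toFinite _), hc1, hc2, Set.ncard_univ, hcard] at h2
    omega
  have hz2 : ∀ c ∈ O2, z • c ≠ c := by
    rintro _ ⟨u, rfl⟩ e
    exact hb (MulAction.injective u (((hcomm u b).symm.trans e)))
  -- the stabilizer of a `z`-orbit in the second orbit
  let M : Subgroup (P : Subgroup G) :=
    { carrier := {g | ∃ i : ℕ, g • b = z ^ i • b}
      one_mem' := ⟨0, by simp⟩
      mul_mem' := by
        rintro g g' ⟨i, hi⟩ ⟨j, hj⟩
        refine ⟨j + i, ?_⟩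
        rw [mul_smul, hj, ← mul_smul, (Subgroup.mem_center_iff.1 (pow_mem hzc j) g), mul_smul, hi,
          ← mul_smul, ← pow_add]
      inv_mem' := by
        rintro g ⟨i, hi⟩
        refine ⟨i * (p - 1), ?_⟩
        rw [inv_smul_eq_iff, ← mul_smul, (Subgroup.mem_center_iff.1 (pow_mem hzc _) g), mul_smul, hi,
          ← mul_smul, ← pow_add, show i * (p - 1) + i = p * i by
            obtain ⟨q, rfl⟩ := Nat.exists_eq_add_of_le hp.one_le
            rw [Nat.add_sub_cancel_left]; ring,
          pow_mul, hzp, one_pow, one_smul] }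
  have hzstab : Subgroup.zpowers z ⊓ MulAction.stabilizer (P : Subgroup G) b = ⊥ := by
    rw [Subgroup.eq_bot_iff_forall]
    intro x hx
    obtain ⟨hx1, hx2⟩ := Subgroup.mem_inf.1 hx
    by_contra hne
    haveI : Fact (Nat.card (Subgroup.zpowers z)).Prime := ⟨by rw [Nat.card_zpowers, hzo]; exact hp⟩
    have hgen := zpowers_eq_top_of_prime_card rfl (g := (⟨x, hx1⟩ : Subgroup.zpowers z))
      (fun e => hne (congrArg Subtype.val e))
    obtain ⟨i, hi⟩ := Subgroup.mem_zpowers_iff.1 (hgen ▸ Subgroup.mem_top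
      (⟨z, Subgroup.mem_zpowers z⟩ : Subgroup.zpowers z))
    have : x ^ i = z := congrArg Subtype.val hi
    exact hb (by rw [← this]; exact (zpow_mem hx2 i : _))
  have hMindex : M.index = p := by
    have h1 : Nat.card (MulAction.orbit M b) = p := by
      have hset : MulAction.orbit M b = MulAction.orbit (Subgroup.zpowers z) b := by
        ext c
        constructor
        · rintro ⟨⟨g, i, hi⟩, rfl⟩
          exact ⟨⟨z ^ i, ⟨i, zpow_natCast z i⟩⟩, hi.symm⟩
        · rintro ⟨⟨g, hg⟩, rfl⟩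
          obtain ⟨i, rfl⟩ := (mem_powers_iff_mem_zpowers.2 hg : g ∈ Submonoid.powers z)
          exact ⟨⟨z ^ i, i, rfl⟩, rfl⟩
      rw [hset, Nat.card_congr (MulAction.orbitEquivQuotientStabilizer _ b), ← Subgroup.index,
        show MulAction.stabilizer (Subgroup.zpowers z) b = ⊥ from ?_, Subgroup.index_bot,
        Nat.card_zpowers, hzo]
      rw [Subgroup.eq_bot_iff_forall]
      intro x hx
      exact Subtype.ext ((Subgroup.eq_bot_iff_forall _).1 hzstab x ⟨x.2, hx⟩)
    have h2 := Nat.card_congr (MulAction.orbitProdStabilizerEquivGroup M b)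
    have h3 := Nat.card_congr (MulAction.orbitProdStabilizerEquivGroup (P : Subgroup G) b)
    rw [Nat.card_prod, h1] at h2
    rw [Nat.card_prod, Nat.card_coe_set_eq, hc2] at h3
    have h4 : Nat.card (MulAction.stabilizer M b) =
        Nat.card (MulAction.stabilizer (P : Subgroup G) b) := by
      refine Nat.card_congr
        { toFun := fun x => ⟨x.1.1, x.2⟩
          invFun := fun x => ⟨⟨x.1, 0, (x.2 : x.1 • b = b).trans (by simp)⟩, x.2⟩
          left_inv := fun _ => rfl
          right_inv := fun _ => rfl }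
    have h5 := M.card_mul_index
    rw [← h2, ← h3, h4] at h5
    have hpos : 0 < p * Nat.card (MulAction.stabilizer (P : Subgroup G) b) :=
      Nat.mul_pos hp.pos Nat.card_pos
    refine Nat.eq_of_mul_eq_mul_left hpos ?_
    rw [h5]
    ring
  haveI hMn : M.Normal := by
    refine Subgroup.normal_of_index_eq_minFac_card ?_
    rw [hMindex]
    obtain ⟨k, hk, h⟩ := hPp.nontrivial_iff_card.1 inferInstance
    rw [h, hp.pow_minFac hk.ne']
  -- a central element of the image of `M` on the first orbit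
  let φ := MulAction.toPermHom (P : Subgroup G) O1
  have hMne : M.map φ.rangeRestrict ≠ ⊥ := by
    intro e
    rw [Subgroup.map_eq_bot_iff, MonoidHom.ker_rangeRestrict] at e
    have h1 : M ≤ MulAction.stabilizer (P : Subgroup G) a := fun g hg =>
      congrArg Subtype.val (Equiv.ext_iff.1 (e hg) ⟨a, MulAction.mem_orbit_self a⟩)
    have h2 := Nat.le_of_dvd (Nat.pos_of_ne_zero Subgroup.index_ne_zero_of_finite)
      (Subgroup.index_dvd_of_le h1)
    rw [MulAction.index_stabilizer, hc1, hMindex] at h2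
    have := hp.two_le
    nlinarith
  haveI : (M.map φ.rangeRestrict).Normal := hMn.map _ φ.rangeRestrict_surjective
  obtain ⟨w, hwM, hwne, hwc⟩ : ∃ w : φ.range, w ∈ M.map φ.rangeRestrict ∧ w ≠ 1 ∧
      w ∈ Subgroup.center φ.range := by
    have hQ : IsPGroup p φ.range := hPp.of_surjective _ φ.rangeRestrict_surjective
    have hdvd : p ∣ Nat.card (M.map φ.rangeRestrict) := by
      obtain ⟨k, hk, h⟩ := (hQ.to_subgroup _).nontrivial_iff_card.1
        ((Subgroup.nontrivial_iff_ne_bot _).2 hMne)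
      exact h ▸ dvd_pow_self p hk.ne'
    obtain ⟨w, hw, hwne⟩ := (hQ.of_equiv ConjAct.toConjAct).exists_fixed_point_of_prime_dvd_card_of_fixed_point
      (M.map φ.rangeRestrict) hdvd (a := 1) fun g => smul_one g
    refine ⟨w, w.2, fun e => hwne (Subtype.ext e.symm), Subgroup.mem_center_iff.2 fun g => ?_⟩
    have h1 : g * (w : φ.range) * g⁻¹ = w := congrArg Subtype.val (hw (ConjAct.toConjAct g))
    exact mul_inv_eq_iff_eq_mul.1 h1
  obtain ⟨r, hr⟩ := IsPGroup.iff_orderOf.1 (hPp.of_surjective _ φ.rangeRestrict_surjective) w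
  obtain ⟨r', rfl⟩ : ∃ r', r = r' + 1 := Nat.exists_eq_succ_of_ne_zero fun e => hwne (by
    rwa [e, pow_zero, orderOf_eq_one_iff] at hr)
  have hw'ne : w ^ p ^ r' ≠ 1 :=
    pow_ne_one_of_lt_orderOf (pow_ne_zero _ hp.ne_zero) (hr ▸ Nat.pow_lt_pow_right hp.one_lt (Nat.lt_succ_self r'))
  obtain ⟨m, hm, hmw⟩ := Subgroup.mem_map.1 (pow_mem hwM (p ^ r'))
  have hφ : ∀ (u : (P : Subgroup G)) (c : O1), ((φ u c : O1) : Ω) = u • (c : Ω) := fun _ _ => rfl
  have hmp : ∀ c ∈ O1, (m ^ p) • c = c := by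
    intro c hc
    have h1 : φ.rangeRestrict (m ^ p) = 1 := by
      rw [map_pow, hmw, ← pow_mul, ← pow_succ, ← hr, pow_orderOf_eq_one]
    have h2 : φ (m ^ p) = 1 := congrArg Subtype.val h1
    have := hφ (m ^ p) ⟨c, hc⟩
    rw [h2] at this
    exact this.symm
  have hmfree : ∀ c ∈ O1, m • c ≠ c := by
    intro c hc e
    refine hw'ne (Subtype.ext (Equiv.ext fun d => Subtype.ext ?_))
    rw [← hmw]
    show m • (d : Ω) = (d : Ω)
    obtain ⟨u, hu⟩ : (d : Ω) ∈ MulAction.orbit (P : Subgroup G) c := by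
      rw [MulAction.orbit_eq_iff.2 hc]; exact d.2
    rw [← hu]
    show m • u • c = u • c
    have h1 := Subgroup.mem_center_iff.1 (pow_mem hwc (p ^ r')) (φ.rangeRestrict u)
    rw [← hmw, ← map_mul, ← map_mul] at h1
    have h2 : φ (u * m) = φ (m * u) := congrArg Subtype.val h1
    have h3 := hφ (u * m) ⟨c, hc⟩
    rw [h2, hφ] at h3
    rw [← mul_smul]
    show (m * u) • c = u • c
    rw [show (m * u) • c = (u * m) • c from h3, mul_smul, e]
  have hblock : ∀ c ∈ O2, ∃ i : ℕ, m • c = z ^ i • c := by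
    rintro _ ⟨u, rfl⟩
    obtain ⟨i, hi⟩ := hMn.conj_mem m hm u⁻¹
    refine ⟨i, ?_⟩
    show m • u • b = z ^ i • u • b
    rw [inv_inv, mul_smul, mul_smul, inv_smul_eq_iff] at hi
    rw [hi, ← mul_smul, ← mul_smul, Subgroup.mem_center_iff.1 (pow_mem hzc i) u]
  have hzi : ∀ c ∈ O1, ∀ i : ℕ, z ^ i • c = c := fun c hc i => by
    induction i with
    | zero => simp
    | succ i ih => rw [pow_succ, mul_smul, hO1 c hc, ih]
  -- the permutation
  let f : Ω → Ω := fun c => if c ∈ O1 then m • c else z • c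
  have hmem : ∀ (u : (P : Subgroup G)) (c : Ω), u • c ∈ O1 ↔ c ∈ O1 := fun u c => by
    simp only [O1, ← MulAction.orbit_eq_iff]
    rw [MulAction.orbit_smul]
  have hfinj : Function.Injective f := by
    intro c d h
    simp only [f] at h
    split_ifs at h with h1 h2 h2
    · exact MulAction.injective m h
    · exact absurd ((hmem z d).1 (h ▸ (hmem m c).2 h1)) h2
    · exact absurd ((hmem z c).1 (h.symm ▸ (hmem m d).2 h2)) h1
    · exact MulAction.injective z h
  let σ : Equiv.Perm Ω := Equiv.ofBijective f (Finite.injective_iff_bijective.1 hfinj)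
  have hmix : ∀ c ∈ O1, ∀ d ∈ O2, ∃ g : (P : Subgroup G), g • c = m • c ∧ g • d = z • d := by
    intro c hc d hd
    obtain ⟨i, hi⟩ := hblock d hd
    refine ⟨z ^ (i * (p - 1) + 1) * m, ?_, ?_⟩
    · rw [mul_smul, hzi _ ((hmem m c).2 hc)]
    · rw [mul_smul, hi, ← mul_smul, ← pow_add, show i * (p - 1) + 1 + i = p * i + 1 by
        obtain ⟨q, rfl⟩ := Nat.exists_eq_add_of_le hp.one_le
        rw [Nat.add_sub_cancel_left]; ring,
        pow_succ, pow_mul, hzp, one_pow, one_mul]
  obtain ⟨g, hg⟩ := hcl σ fun c d => by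
    show ∃ g : G, f c = g • c ∧ f d = g • d
    simp only [f]
    by_cases hc : c ∈ O1 <;> by_cases hd : d ∈ O1
    · exact ⟨(m : G), by rw [if_pos hc]; rfl, by rw [if_pos hd]; rfl⟩
    · obtain ⟨u, h1, h2⟩ := hmix c hc d ((hcover d).resolve_left hd)
      exact ⟨(u : G), by rw [if_pos hc, ← h1]; rfl, by rw [if_neg hd, ← h2]; rfl⟩
    · obtain ⟨u, h1, h2⟩ := hmix d hd c ((hcover c).resolve_left hc)
      exact ⟨(u : G), by rw [if_neg hc, ← h2]; rfl, by rw [if_pos hd, ← h1]; rfl⟩
    · exact ⟨(z : G), by rw [if_neg hc]; rfl, by rw [if_neg hd]; rfl⟩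
  have hgf : ∀ c : Ω, g • c = f c := fun c => (hg c).symm
  have hgfree : ∀ c : Ω, g • c ≠ c := by
    intro c
    rw [hgf]
    simp only [f]
    split_ifs with h
    · exact hmfree c h
    · exact hz2 c ((hcover c).resolve_left h)
  have hpow : ∀ (k : ℕ) (c : Ω), (g ^ k) • c = if c ∈ O1 then m ^ k • c else z ^ k • c := by
    intro k
    induction k with
    | zero => intro c; simp
    | succ k ih =>
      intro c
      rw [pow_succ', mul_smul, ih, hgf]
      simp only [f]
      split_ifs with h1 h2 h2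
      · rw [pow_succ', mul_smul]
      · exact absurd ((hmem _ _).2 h1) h2
      · exact absurd ((hmem _ _).1 h2) h1
      · rw [pow_succ', mul_smul]
  refine ⟨g, ?_, hgfree⟩
  have hgp : g ^ p = 1 := eq_of_smul_eq_smul fun c : Ω => by
    rw [one_smul, hpow]
    split_ifs with h
    · exact hmp c h
    · rw [hzp, one_smul]
  have hg1 : g ≠ 1 := fun e => hgfree a (by rw [e, one_smul])
  rw [orderOf_eq_prime hgp hg1]
  exact hp

end Cfsg.Agent.S3557
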