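import Cfsg.Statements.S3575
import Cfsg.Agent.Lib.Char.UniformPartition

set_option autoImplicit false
open Cfsg

namespace Cfsg.Agent.S3575

open CfsgLib.Char.UniformPartition

/-- The arithmetic of the intervals `[a c, a c + (b - r c) (a / r)]`. -/
theorem cover_iff (a b r : ℕ) (ha : 2 ≤ a) (hb : 2 ≤ b) (hr : 2 ≤ r) (hab : r ≤ a * b) :
    (∀ k, 1 ≤ k → k * r ≤ a * b → ∃ c, r * c ≤ b ∧ a * c ≤ k ∧ k ≤ a * c + (b - r * c) * (a / r)) ↔
      (r ≤ a ∧ (a % r = 0 ∨ (b % r = 0 ∧ a % r = 1) ∨
        (a % r ≠ 0 ∧ b % r ≠ 0 ∧ (b % r) * (a % r) < r ∧ (b < r ∨ (b % r + r) * (a % r) ≤ (b % r) * a + r)))) := by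
  set A := a / r with hA
  set s := a % r with hs
  set B := b / r with hB
  set t := b % r with ht
  have ea : a = r * A + s := (Nat.div_add_mod a r).symm
  have eb : b = r * B + t := (Nat.div_add_mod b r).symm
  have hsr : s < r := Nat.mod_lt _ (by omega)
  have htr : t < r := Nat.mod_lt _ (by omega)
  have hcB : ∀ c, r * c ≤ b ↔ c ≤ B := fun c => by
    rw [hB, Nat.le_div_iff_mul_le (by omega), mul_comm]
  have hup : ∀ c, c ≤ B → a * c + (b - r * c) * A = b * A + c * s := by
    intro c hc
    obtain ⟨e, he⟩ := Nat.le.dest ((hcB c).2 hc)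
    rw [show b - r * c = e by omega, ← he, ea]
    ring
  have hab' : a * b = r * (b * A + B * s) + t * s := by
    rw [ea, eb]; ring
  -- the join condition
  have hjoinF : (b < r ∨ (t + r) * s ≤ t * a + r) ↔ (B = 0 ∨ s ≤ t * A + 1) := by
    refine or_congr ?_ ?_
    · rw [hB, Nat.div_eq_zero_iff]; omega
    · have e : t * a + r = r * (t * A + 1) + t * s := by rw [ea]; ring
      rw [e, add_mul, add_comm]
      constructor
      · intro h
        exact Nat.le_of_mul_le_mul_left (by linarith) (show 0 < r by omega)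
      · intro h
        have := Nat.mul_le_mul_left r h
        linarith
  constructor
  · intro H
    have hra : r ≤ a := by
      by_contra h
      obtain ⟨c, -, h1, h2⟩ := H 1 le_rfl (by omega)
      have hA0 : A = 0 := Nat.div_eq_of_lt (by omega)
      rw [hA0, mul_zero, add_zero] at h2
      rcases c with _ | c
      · omega
      · rw [Nat.mul_succ] at h1; omega
    refine ⟨hra, ?_⟩
    by_cases hs0 : s = 0
    · exact Or.inl hs0
    have hts : t * s < r := by
      by_contra h
      push Not at h
      obtain ⟨c, hc, -, h2⟩ := H (b * A + B * s + 1) (by omega) (by rw [hab', add_mul]; nlinarith)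
      rw [hup c ((hcB c).1 hc)] at h2
      have := Nat.mul_le_mul_right s ((hcB c).1 hc)
      omega
    have hjoin : B = 0 ∨ s ≤ t * A + 1 := by
      by_contra h
      push Not at h
      obtain ⟨hB0, hst⟩ := h
      have haB : a * 1 ≤ a * B := Nat.mul_le_mul_left a (Nat.one_le_iff_ne_zero.2 hB0)
      have haB2 : 2 ≤ a * B := ha.trans (by simpa using haB)
      obtain ⟨c, hc, h1, h2⟩ := H (a * B - 1) (Nat.le_sub_one_of_lt haB2) (by
        have h' : r * B ≤ b := (hcB B).2 le_rfl
        have := Nat.mul_le_mul_left a h'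
        have h'' : (a * B - 1) * r ≤ a * B * r := Nat.mul_le_mul_right r (Nat.sub_le _ _)
        nlinarith)
      have hcB' := (hcB c).1 hc
      have hclt : c + 1 ≤ B := by
        by_contra h'
        have : c = B := by omega
        subst this
        omega
      rw [hup c hcB'] at h2
      have h3 := Nat.mul_le_mul_right s hclt
      have e : a * B + t * A = b * A + B * s := by rw [ea, eb]; ring
      rw [add_mul, one_mul] at h3
      omega
    rcases Nat.eq_zero_or_pos t with ht0 | ht0
    · refine Or.inr (Or.inl ⟨ht0, ?_⟩)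
      rw [ht0, zero_mul] at hjoin
      rcases hjoin with h | h
      · rw [h, mul_zero, ht0] at eb; omega
      · omega
    · exact Or.inr (Or.inr ⟨hs0, by omega, hts, hjoinF.2 hjoin⟩)
  · rintro ⟨-, hcond⟩
    have hts : t * s < r := by
      rcases hcond with h | ⟨h, -⟩ | ⟨-, -, h, -⟩
      · rw [h, mul_zero]; omega
      · rw [h, zero_mul]; omega
      · exact h
    have hjoin : B = 0 ∨ s ≤ t * A + 1 := by
      rcases hcond with h | ⟨-, h⟩ | ⟨-, -, -, h⟩
      · exact Or.inr (by omega)
      · exact Or.inr (by omega)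
      · exact hjoinF.1 h
    intro k hk1 hk2
    have htop : k ≤ b * A + B * s := by
      by_contra h
      have := Nat.mul_le_mul_right r (show b * A + B * s + 1 ≤ k by omega)
      rw [hab'] at hk2
      nlinarith
    by_cases hc : B ≤ k / a
    · refine ⟨B, (hcB B).2 le_rfl, ?_, by rw [hup B le_rfl]; exact htop⟩
      exact (Nat.mul_le_mul_left a hc).trans (by rw [mul_comm]; exact Nat.div_mul_le_self k a)
    · push Not at hc
      refine ⟨k / a, (hcB _).2 hc.le, by rw [mul_comm]; exact Nat.div_mul_le_self k a, ?_⟩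
      rw [hup _ hc.le]
      rcases hjoin with h | h
      · exact absurd (h ▸ hc) (Nat.not_lt_zero _)
      have e1 : k < a * (k / a + 1) := Nat.lt_mul_div_succ k (by omega)
      obtain ⟨e, he⟩ := Nat.le.dest (show k / a + 1 ≤ B from hc)
      set c := k / a
      rw [eb, ← he]
      rw [ea] at e1
      nlinarith [Nat.zero_le (r * e * A), Nat.zero_le (c * s)]

/-- Let a, b ≥ 2 and consider the symmetric group of degree a·b acting on the partitions of an (a·b)-set into b parts of size a (encoded as maps onto a b-element set all of whose fibres have a elements; a permutation fixes such a partition when it permutes the fibres). Let r be a prime dividing the number (ab)!/((a!)^b·b!) of such partitions, and let ℓ and k be the remainders of a and b modulo r. Then every permutation of order r fixes some such partition if and only if r ≤ a and one of the following holds: ℓ = 0; or k = 0 and ℓ = 1; or ℓ and k are non-zero, k·ℓ < r, and either b < r or (k + r)·ℓ ≤ k·a + r. -/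
theorem result (a b : ℕ) (ha : 2 ≤ a) (hb : 2 ≤ b) (r : ℕ) (hr : r.Prime)
    (hrd : r ∣ (a * b).factorial / (a.factorial ^ b * b.factorial)) :
    (∀ σ : Equiv.Perm (Fin (a * b)), orderOf σ = r →
        ∃ f : Fin (a * b) → Fin b, (∀ j : Fin b, Nat.card {x : Fin (a * b) // f x = j} = a) ∧
          ∃ π : Equiv.Perm (Fin b), ∀ x : Fin (a * b), f (σ x) = π (f x)) ↔
      (r ≤ a ∧ (a % r = 0 ∨ (b % r = 0 ∧ a % r = 1) ∨
        (a % r ≠ 0 ∧ b % r ≠ 0 ∧ (b % r) * (a % r) < r ∧ (b < r ∨ (b % r + r) * (a % r) ≤ (b % r) * a + r)))) := by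
  classical
  have hab : r ≤ a * b := by
    by_contra h
    refine h (hr.dvd_factorial.1 (hrd.trans (Nat.div_dvd_of_dvd (Dvd.intro_left (Nat.uniformBell b a) ?_))))
    rw [mul_comm a b, ← Nat.uniformBell_mul_eq b (show a ≠ 0 by omega), mul_assoc]
  rw [← cover_iff a b r ha hb hr.two_le hab]
  have : Fact r.Prime := ⟨hr⟩
  constructor
  · intro H k hk1 hk2
    obtain ⟨σ, hσ, hm⟩ := exists_perm (Fin (a * b)) (r := r) hr (i := k) (by rw [Nat.card_fin]; exact hk2)
    have hne : σ ≠ 1 := fun h => by
      rw [mv_eq_zero h] at hm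
      rcases Nat.mul_eq_zero.1 hm.symm with h' | h'
      · omega
      · exact hr.ne_zero h'
    obtain ⟨f, hf, π, hπ⟩ := H σ (orderOf_eq_prime hσ hne)
    exact exists_count hr (by omega) hσ hm f hf π hπ
  · intro H σ hσ
    have hσr : σ ^ r = 1 := by rw [← hσ]; exact pow_orderOf_eq_one σ
    obtain ⟨k, -, hm⟩ := cycleType_eq hr hσr
    have hk : k * r ≤ a * b := hm ▸ (Finite.card_subtype_le _).trans_eq (Nat.card_fin _)
    have hk1 : 1 ≤ k := by
      by_contra h
      have h0 : k = 0 := by omega
      rw [h0, zero_mul, mv_eq, Finset.card_eq_zero, Equiv.Perm.support_eq_empty_iff] at hm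
      rw [hm, orderOf_one] at hσ
      exact hr.ne_one hσ.symm
    obtain ⟨c, h1, h2, h3⟩ := H k hk1 hk
    exact exists_fixed_partition hr h1 h2 h3 hσr hm

end Cfsg.Agent.S3575
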