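import Cfsg.Statements.S3593
import Cfsg.Agent.Lib.Char.MTwelveOrder.LocalModel
import Cfsg.Agent.Lib.Char.MTwelveOrder.FromModel
import Cfsg.Agent.Lib.Char.MTwelveNse
import Cfsg.Agent.Lib.Spor.Mults.MTwelve.Main
import Cfsg.Agent.Lib.Spor.OuterAut

set_option autoImplicit false
open Cfsg

namespace Cfsg.Agent.S3593

/-- Let M be the Mathieu group M₁₂ (order 95040). If a finite group G has the same order as M and the same set of values of the function 'number of elements of order n' (taken over the element orders n that occur), then G is isomorphic to M. -/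
theorem result {G : Type*} [Group G] [Finite G]
    (hcard : Nat.card G = Nat.card ↥Cfsg.Spor.M12)
    (hnse : {c : ℕ | 0 < c ∧ ∃ n : ℕ, c = Nat.card {g : G // orderOf g = n}} =
      {c : ℕ | 0 < c ∧ ∃ n : ℕ, c = Nat.card {g : ↥Cfsg.Spor.M12 // orderOf g = n}}) :
    Nonempty (G ≃* ↥Cfsg.Spor.M12) := by
  haveI := CfsgLib.Spor.Mults.MTwelve.isSimpleGroup_M12
  have hM : Nat.card ↥Cfsg.Spor.M12 = 95040 := CfsgLib.Spor.OuterAut.card_M12
  haveI : IsSimpleGroup G :=
    CfsgLib.Char.MTwelveNse.simple_of_nse (H := ↥Cfsg.Spor.M12) hM (hcard.trans hM) hnse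
  exact CfsgLib.Char.MTwelveOrder.iso_of_models (hcard.trans hM) fun L => L.exists_model

end Cfsg.Agent.S3593
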