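import Cfsg.Statements.S3598
import Cfsg.Agent.Lib.Char.PslSquare
import Cfsg.Agent.Lib.Char.SLTwoDegreeGraph
import Cfsg.Agent.Lib.Invol.SimpleSixty
import Cfsg.Agent.Lib.Perm.Dickson.Recog
import Cfsg.Agent.Lib.Perm.Dickson.Minimal
import Cfsg.Agent.Lib.CIT.PslModel
import Cfsg.Agent.Lib.Classical.ProjLine

set_option autoImplicit false
set_option linter.style.haveILetI false
open Cfsg

namespace Cfsg.Agent.S3598

open CfsgLib.Char

open CfsgLib.Char.TwoChars in
/-- No irreducible character of `PSL(2, q)` has degree `(q - 1) / 2` for `q ≡ 1 (mod 4)`. -/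
private theorem no_cuspHalf {F : Type*} [Field F] [Fintype F] [DecidableEq F] (h4 : Fintype.card F % 4 = 1)
    (hq : 4 ≤ Fintype.card F) (χ : IrrCharacter (Matrix.SpecialLinearGroup (Fin 2) F))
    (hz : ∀ z ∈ Subgroup.center (Matrix.SpecialLinearGroup (Fin 2) F),
      (χ : Matrix.SpecialLinearGroup (Fin 2) F → ℂ) z = (χ : Matrix.SpecialLinearGroup (Fin 2) F → ℂ) 1) :
    ¬ TwoChars.IsCuspHalf χ := by
  intro hc
  have hodd : Odd (Fintype.card F) := Nat.odd_iff.2 (by omega)
  obtain ⟨x, hx⟩ := exists_ell (F := F)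
  have hcard : Nat.card (Subgroup.centralizer ({x} : Set (Matrix.SpecialLinearGroup (Fin 2) F))) =
      Fintype.card F + 1 := card_centralizer_ell hodd hx
  have hxC : x ∈ Subgroup.centralizer ({x} : Set (Matrix.SpecialLinearGroup (Fin 2) F)) :=
    Subgroup.mem_centralizer_singleton_iff.2 rfl
  have hzC : negS ∈ Subgroup.center (Matrix.SpecialLinearGroup (Fin 2) F) :=
    (sl_mem_center_iff _).2 scalar_negS
  have hy : TwoClasses.IsEll (negS * x).1 := torus_ell hcard hodd (mul_mem (negS_mem hcard hodd) hxC)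
    fun hs => by
      have hm : negS * x ∈ Subgroup.center (Matrix.SpecialLinearGroup (Fin 2) F) := (sl_mem_center_iff _).2 hs
      exact TwoClasses.isEll_not_scalar hx ((sl_mem_center_iff _).1 (by
        simpa [← mul_assoc] using mul_mem (inv_mem hzC) hm))
  have hval : (χ : Matrix.SpecialLinearGroup (Fin 2) F → ℂ) (negS * x) =
      (χ : Matrix.SpecialLinearGroup (Fin 2) F → ℂ) x := by
    have h := irr_center_mul χ hzC x
    rw [hz _ hzC] at h
    exact mul_right_cancel₀ (irr_one_ne_zero χ) (h.trans (mul_comm _ _))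
  set m := (Fintype.card F + 1) / 2 with hm
  have hm2 : m % 2 = 1 := by omega
  have hsq : x ^ m * x ^ m = 1 := by
    rw [← pow_add, show m + m = Fintype.card F + 1 by omega, ← hcard]
    exact congrArg Subtype.val (pow_card_eq_one' (x := (⟨x, hxC⟩ : Subgroup.centralizer _)))
  have hneg : (negS * x) ^ m = negS * x ^ m := by
    rw [(show Commute negS x from (Subgroup.mem_center_iff.1 hzC x).symm).mul_pow]
    congr 1
    conv_lhs => rw [← Nat.mod_add_div m 2, hm2, pow_add, pow_one, pow_mul,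
      show (negS : Matrix.SpecialLinearGroup (Fin 2) F) ^ 2 = 1 from Subtype.ext (by simp [negS_val])]
    rw [one_pow, mul_one]
  obtain ⟨a1, a2⟩ := cuspHalf_ell hodd hq hc hx
  obtain ⟨b1, b2⟩ := cuspHalf_ell hodd hq hc hy
  rcases eq_or_ne (x ^ m) 1 with h1 | h1
  · have e1 := a1 h1
    have e2 := b2 (by rw [hneg, h1, mul_one]; exact TwoChars.negS_ne_one hodd)
    rw [hval, e1] at e2
    norm_num at e2
  · have e1 := a2 h1
    have hxm : x ^ m = TwoChars.negS :=
      (TwoChars.scalar_cases (TwoChars.scalar_of_sq_one hodd hsq)).resolve_left h1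
    have e2 := b1 (by rw [hneg, hxm]; exact Subtype.ext (by simp [TwoChars.negS_val]))
    rw [hval, e1] at e2
    norm_num at e2

/-- The degree hypotheses for `PSL(2, q)`, `q ≡ 1 (mod 8)`. -/
private theorem degs_psl {F : Type*} [Field F] [Fintype F] (h8 : Fintype.card F % 8 = 1)
    (h9 : 9 ≤ Fintype.card F) :
    PslSq.Degs (Matrix.ProjectiveSpecialLinearGroup (Fin 2) F) (Fintype.card F) := by
  classical
  haveI := (CfsgLib.Perm.Dickson.psl_simple_noncomm (F := F) (by rw [Nat.card_eq_fintype_card]; omega)).1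
  have hnc := (CfsgLib.Perm.Dickson.psl_simple_noncomm (F := F) (by rw [Nat.card_eq_fintype_card]; omega)).2
  have hinfl : ∀ θ : IrrCharacter (Matrix.ProjectiveSpecialLinearGroup (Fin 2) F),
      ∃ χ : IrrCharacter (Matrix.SpecialLinearGroup (Fin 2) F),
        ∀ g, (χ : Matrix.SpecialLinearGroup (Fin 2) F → ℂ) g =
          (θ : Matrix.ProjectiveSpecialLinearGroup (Fin 2) F → ℂ) (QuotientGroup.mk' _ g) :=
    fun θ => ⟨⟨_, isIrrCharacter_comp_surjective θ.2 (QuotientGroup.mk' _) (QuotientGroup.mk'_surjective _)⟩,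
      fun g => rfl⟩
  refine ⟨h8, h9, ?_, fun θ => ?_, ?_, ?_⟩
  · have h := CfsgLib.Classical.card_psl2 (F := F)
    rw [show Nat.gcd 2 (Fintype.card F - 1) = 2 from Nat.gcd_eq_left (by omega)] at h
    rw [h, mul_assoc]
  · obtain ⟨χ, hχ⟩ := hinfl θ
    obtain ⟨d, -, hd⟩ := isIrrCharacter_degree θ.2
    have hdχ : (χ : Matrix.SpecialLinearGroup (Fin 2) F → ℂ) 1 = d := by rw [hχ, map_one, hd]
    refine ⟨d, hd, ?_⟩
    rcases TwoChars.sl_deg_cases χ with ⟨-, e⟩ | ⟨-, e⟩ | ⟨_, -, -, e⟩ | ⟨-, e⟩ | ⟨-, e⟩ | ⟨hc, e⟩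
    · rw [hdχ] at e; exact Or.inl (by exact_mod_cast e)
    · rw [hdχ] at e; exact Or.inr (Or.inr (Or.inr (Or.inl (by exact_mod_cast e))))
    · rw [hdχ] at e; exact Or.inr (Or.inr (Or.inr (Or.inr (by exact_mod_cast e))))
    · rw [hdχ] at e; exact Or.inr (Or.inl (by exact_mod_cast e))
    · rw [hdχ] at e
      refine Or.inr (Or.inr (Or.inl ?_))
      have : (d : ℂ) + 1 = Fintype.card F := by rw [e]; ring
      exact_mod_cast this
    · refine absurd hc (no_cuspHalf (by omega) (by omega) χ fun z hz => ?_)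
      rw [hχ, hχ, map_one, QuotientGroup.mk'_apply, (QuotientGroup.eq_one_iff z).2 hz]
  · rw [CfsgLib.Char.card_linear, Subgroup.index_eq_one]
    refine ((inferInstance : (commutator (Matrix.ProjectiveSpecialLinearGroup (Fin 2) F)).Normal).eq_bot_or_eq_top
      ).resolve_left fun h => hnc ⟨⟨fun a b => ?_⟩⟩
    have := Subgroup.commutator_mem_commutator (Subgroup.mem_top a) (Subgroup.mem_top b)
    rw [← commutator_def, h, Subgroup.mem_bot] at this
    exact commutatorElement_eq_one_iff_mul_comm.1 this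
  · obtain ⟨θ, hθ⟩ : Fintype.card F ∈ Cfsg.charDegrees (Matrix.ProjectiveSpecialLinearGroup (Fin 2) F) :=
      TwoChars.q_mem_psl
    obtain ⟨d, -, hd⟩ := isIrrCharacter_degree θ.2
    rw [TwoChars.charDegree_eq_of_cast _ hd] at hθ
    refine Nat.card_eq_one_iff_unique.2 ⟨⟨fun a b => Subtype.ext (Subtype.ext (funext fun y => ?_))⟩,
      ⟨⟨θ, by rw [hd, hθ]⟩⟩⟩
    obtain ⟨g, rfl⟩ := QuotientGroup.mk'_surjective _ y
    obtain ⟨χa, ha⟩ := hinfl a.1
    obtain ⟨χb, hb⟩ := hinfl b.1
    rw [← ha, ← hb, TwoChars.sl_deg_q χa (by rw [ha, map_one, a.2]),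
      TwoChars.sl_deg_q χb (by rw [hb, map_one, b.2])]

/-- A perfect group of order 60 is simple. -/
private theorem simple_sixty {G : Type*} [Group G] [Finite G] (h : Nat.card G = 60) (hperf : commutator G = ⊤) :
    IsSimpleGroup G := by
  classical
  haveI : Fact (Nat.Prime 5) := ⟨Nat.prime_five⟩
  obtain ⟨P⟩ : Nonempty (Sylow 5 G) := inferInstance
  have hP : Nat.card ↥(P : Subgroup G) = 5 := by
    rw [P.card_eq_multiplicity, h, show (60 : ℕ) = 12 * 5 from rfl, Nat.factorization_mul (by norm_num) (by norm_num),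
      Finsupp.add_apply, Nat.factorization_eq_zero_of_not_dvd (show ¬ 5 ∣ 12 by norm_num),
      Nat.Prime.factorization_self Nat.prime_five, zero_add, pow_one]
  refine CfsgLib.Perm.Dickson.simple_of_sixty h hP fun hn => ?_
  haveI := hn
  haveI : IsCyclic ↥(P : Subgroup G) := isCyclic_of_prime_card hP
  have hcomm : ∀ a b : MulAut ↥(P : Subgroup G), a * b = b * a := fun a b =>
    (IsCyclic.mulAutMulEquiv ↥(P : Subgroup G)).injective (by rw [map_mul, map_mul, mul_comm])
  have hker : ∀ {H : Type _} [Group H] (f : G →* H), (∀ a b, f a * f b = f b * f a) → f.ker = ⊤ :=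
    fun f hf => top_le_iff.1 (hperf ▸ commutator_def G ▸ Subgroup.commutator_le.2 fun a _ b _ => by
      rw [MonoidHom.mem_ker, map_commutatorElement, commutatorElement_eq_one_iff_mul_comm]; exact hf a b)
  have hc : Subgroup.normalizer ((P : Subgroup G) : Set G) ≤ Subgroup.centralizer ((P : Subgroup G) : Set G) := by
    intro g _
    rw [Subgroup.mem_centralizer_iff]
    intro y hy
    have h1 := hker (MulAut.conjNormal (H := (P : Subgroup G))) (fun a b => hcomm _ _)
    have h2 : g ∈ (MulAut.conjNormal (H := (P : Subgroup G))).ker := h1 ▸ Subgroup.mem_top g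
    have h3 := congrArg Subtype.val (DFunLike.congr_fun (MonoidHom.mem_ker.1 h2) ⟨y, hy⟩)
    simp only [MulAut.conjNormal_apply, MulAut.one_apply] at h3
    exact (mul_inv_eq_iff_eq_mul.1 h3).symm
  have hcpl := MonoidHom.ker_transferSylow_isComplement' P hc
  have hPc : ∀ a b : ↥(P : Subgroup G), a * b = b * a :=
    fun a b => (IsCyclic.isMulCommutative (α := ↥(P : Subgroup G))).is_comm.comm a b
  rw [hker _ fun a b => hPc _ _] at hcpl
  rw [Subgroup.isComplement'_top_left] at hcpl
  rw [hcpl, Subgroup.card_bot] at hP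
  omega

/-- Let p be a prime and F a field with p² elements. If a finite group G has, for every d, the same number of irreducible complex characters of degree d as PSL(2,F) (the same first column of the character table, with multiplicities), then G is isomorphic to PSL(2,F). -/
theorem result {F : Type*} [Field F] [Fintype F] (p : ℕ) (hp : p.Prime)
    (hF : Fintype.card F = p ^ 2) {G : Type*} [Group G] [Finite G]
    (h : ∀ d : ℕ, Nat.card {χ : Cfsg.IrrCharacter G // (χ : G → ℂ) 1 = (d : ℂ)} =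
      Nat.card {χ : Cfsg.IrrCharacter (Matrix.ProjectiveSpecialLinearGroup (Fin 2) F) // (χ : Matrix.ProjectiveSpecialLinearGroup (Fin 2) F → ℂ) 1 = (d : ℂ)}) :
    Nonempty (G ≃* Matrix.ProjectiveSpecialLinearGroup (Fin 2) F) := by
  classical
  haveI : Fact p.Prime := ⟨hp⟩
  haveI := Fintype.ofFinite (IrrCharacter G)
  haveI := Fintype.ofFinite (IrrCharacter (Matrix.ProjectiveSpecialLinearGroup (Fin 2) F))
  -- a degree preserving bijection
  obtain ⟨e, he⟩ : ∃ e : IrrCharacter G ≃ IrrCharacter (Matrix.ProjectiveSpecialLinearGroup (Fin 2) F),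
      ∀ χ, (e χ : Matrix.ProjectiveSpecialLinearGroup (Fin 2) F → ℂ) 1 = (χ : G → ℂ) 1 := by
    refine ⟨Equiv.ofFiberEquiv (f := fun χ : IrrCharacter G => (χ : G → ℂ) 1)
      (g := fun θ : IrrCharacter (Matrix.ProjectiveSpecialLinearGroup (Fin 2) F) =>
        (θ : Matrix.ProjectiveSpecialLinearGroup (Fin 2) F → ℂ) 1) fun z => (Finite.card_eq.1 ?_).some,
      fun χ => Equiv.ofFiberEquiv_map (g := fun θ : IrrCharacter (Matrix.ProjectiveSpecialLinearGroup (Fin 2) F) =>
        (θ : Matrix.ProjectiveSpecialLinearGroup (Fin 2) F → ℂ) 1) _ χ⟩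
    by_cases hz : ∃ d : ℕ, z = d
    · obtain ⟨d, rfl⟩ := hz; exact h d
    · haveI : IsEmpty {χ : IrrCharacter G // (χ : G → ℂ) 1 = z} :=
        ⟨fun χ => hz (let ⟨d, _, hd⟩ := isIrrCharacter_degree χ.1.2; ⟨d, χ.2.symm.trans hd⟩)⟩
      haveI : IsEmpty {θ : IrrCharacter (Matrix.ProjectiveSpecialLinearGroup (Fin 2) F) //
          (θ : Matrix.ProjectiveSpecialLinearGroup (Fin 2) F → ℂ) 1 = z} :=
        ⟨fun χ => hz (let ⟨d, _, hd⟩ := isIrrCharacter_degree χ.1.2; ⟨d, χ.2.symm.trans hd⟩)⟩
      rw [Nat.card_of_isEmpty, Nat.card_of_isEmpty]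
  have hcard : Nat.card G = Nat.card (Matrix.ProjectiveSpecialLinearGroup (Fin 2) F) := by
    have h1 := sum_degree_sq (G := G)
    rw [Fintype.sum_equiv e _ (fun θ => (θ : Matrix.ProjectiveSpecialLinearGroup (Fin 2) F → ℂ) 1 ^ 2)
      (fun χ => by rw [he]), sum_degree_sq] at h1
    exact_mod_cast h1.symm
  rcases hp.eq_two_or_odd with rfl | hp2
  · -- order sixty
    have hq4 : Fintype.card F = 4 := by rw [hF]; rfl
    haveI := (CfsgLib.Perm.Dickson.psl_simple_noncomm (F := F) (by rw [Nat.card_eq_fintype_card]; omega)).1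
    have hnc := (CfsgLib.Perm.Dickson.psl_simple_noncomm (F := F) (by rw [Nat.card_eq_fintype_card]; omega)).2
    have h60 : Nat.card (Matrix.ProjectiveSpecialLinearGroup (Fin 2) F) = 60 := by
      have h := CfsgLib.Classical.card_psl2 (F := F)
      rw [hq4] at h
      simpa using h
    have hperf : commutator G = ⊤ := by
      rw [← Subgroup.index_eq_one, ← CfsgLib.Char.card_linear]
      have h1 := h 1
      simp only [Nat.cast_one] at h1
      rw [h1, CfsgLib.Char.card_linear, Subgroup.index_eq_one]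
      refine ((inferInstance : (commutator (Matrix.ProjectiveSpecialLinearGroup (Fin 2) F)).Normal).eq_bot_or_eq_top
        ).resolve_left fun h => hnc ⟨⟨fun a b => ?_⟩⟩
      have := Subgroup.commutator_mem_commutator (Subgroup.mem_top a) (Subgroup.mem_top b)
      rw [← commutator_def, h, Subgroup.mem_bot] at this
      exact commutatorElement_eq_one_iff_mul_comm.1 this
    haveI := simple_sixty (hcard.trans h60) hperf
    exact ⟨(CfsgLib.Invol.mulEquiv_alternating_five (hcard.trans h60)).some.trans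
      (CfsgLib.Invol.mulEquiv_alternating_five h60).some.symm⟩
  · have h8 : Fintype.card F % 8 = 1 := by
      rw [hF, Nat.pow_mod]
      have : p % 8 % 2 = 1 := by omega
      have : p % 8 < 8 := Nat.mod_lt _ (by norm_num)
      interval_cases hp8 : p % 8 <;> simp_all
    have h9 : 9 ≤ Fintype.card F := by
      have : 3 ≤ p := by have := hp.two_le; omega
      rw [hF]; nlinarith
    have DP := degs_psl h8 h9
    have D : PslSq.Degs G (Fintype.card F) := by
      refine ⟨h8, h9, by rw [hcard]; exact DP.card, fun χ => ?_, ?_, ?_⟩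
      · obtain ⟨d, hd, hc⟩ := DP.cases (e χ)
        exact ⟨d, by rw [← he, hd], hc⟩
      · rw [← DP.lin]; simpa using h 1
      · rw [h]; exact DP.st
    obtain ⟨K, _, _, hK, ⟨i⟩⟩ := PslSq.exists_psl hF D
    obtain ⟨j⟩ := CfsgLib.CIT.psl_congr (FiniteField.ringEquivOfCardEq hK)
    exact ⟨i.trans j⟩

end Cfsg.Agent.S3598
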