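import Cfsg.Statements.S3599
import Cfsg.Agent.Lib.Char.CriticalProduct

set_option autoImplicit false
open Cfsg

namespace Cfsg.Agent.S3599

open CfsgLib.Char.CriticalAffine

/-- A finite group is critical with respect to a set Ω of natural numbers when its set of element orders is Ω while no proper section H/N (H a subgroup, N normal in H, (H, N) ≠ (whole group, 1)) has Ω as its set of element orders. Let s ≥ 1 and let p(j,0), p(j,1) (j < s) be 2s pairwise distinct primes, and let Ω be the set of all products c(0)·…·c(s−1) with each c(j) ∈ {1, p(j,0), p(j,1)}. Then there are 2^s pairwise non-isomorphic finite groups critical with respect to Ω. -/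
theorem result (s : ℕ) (hs : 1 ≤ s) (p : Fin s → Fin 2 → ℕ)
    (hp : ∀ j i, (p j i).Prime) (hinj : ∀ j i j' i', p j i = p j' i' → j = j' ∧ i = i') :
    ∃ (G : Fin (2 ^ s) → Type) (_ : ∀ a, Group (G a)) (_ : ∀ a, Fintype (G a)),
      (∀ a b, a ≠ b → ¬ Nonempty (G a ≃* G b)) ∧
      ∀ a, Set.range (orderOf : (G a) → ℕ) = {m : ℕ | ∃ c : Fin s → ℕ, (∀ j, c j = 1 ∨ c j = p j 0 ∨ c j = p j 1) ∧ m = ∏ j, c j} ∧
      ∀ (H : Subgroup (G a)) (N : Subgroup ↥H) [N.Normal], (H ≠ ⊤ ∨ N ≠ ⊥) → Set.range (orderOf : (↥H ⧸ N) → ℕ) ≠ {m : ℕ | ∃ c : Fin s → ℕ, (∀ j, c j = 1 ∨ c j = p j 0 ∨ c j = p j 1) ∧ m = ∏ j, c j} := by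
  classical
  have hne : ∀ j (i : Fin 2), p j i ≠ p j i.rev := fun j i h => by
    have := (hinj _ _ _ _ h).2
    revert this; fin_cases i <;> decide
  let E : Fin (2 ^ s) ≃ (Fin s → Fin 2) := finFunctionFinEquiv.symm
  let P : Fin (2 ^ s) → Fin s → ℕ := fun a j => p j (E a j)
  let Q : Fin (2 ^ s) → Fin s → ℕ := fun a j => p j (E a j).rev
  have iP : ∀ a j, Fact (P a j).Prime := fun a j => ⟨hp _ _⟩
  have iQ : ∀ a j, Fact (Q a j).Prime := fun a j => ⟨hp _ _⟩
  have hPQ : ∀ a j, P a j ≠ Q a j := fun a j => hne _ _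
  have hPP : ∀ a i j, i ≠ j → P a i ≠ P a j := fun a i j h e => h (hinj _ _ _ _ e).1
  have hQQ : ∀ a i j, i ≠ j → Q a i ≠ Q a j := fun a i j h e => h (hinj _ _ _ _ e).1
  have hPQ' : ∀ a i j, P a i ≠ Q a j := fun a i j e => by
    obtain ⟨rfl, -⟩ := hinj _ _ _ _ e
    exact hne _ _ e
  have hor : ∀ (i : Fin 2) (j : Fin s) (r : ℕ),
      (r = 1 ∨ r = p j i ∨ r = p j i.rev) ↔ (r = 1 ∨ r = p j 0 ∨ r = p j 1) := by
    intro i j r
    fin_cases i
    · exact Iff.rfl
    · exact ⟨fun h => h.elim Or.inl fun h => Or.inr h.symm, fun h => h.elim Or.inl fun h => Or.inr h.symm⟩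
  have hset : ∀ a, {m | ∃ c : Fin s → ℕ, (∀ j, c j = 1 ∨ c j = P a j ∨ c j = Q a j) ∧ m = ∏ j, c j}
      = {m : ℕ | ∃ c : Fin s → ℕ, (∀ j, c j = 1 ∨ c j = p j 0 ∨ c j = p j 1) ∧ m = ∏ j, c j} := by
    intro a
    simp only [P, Q, hor]
  refine ⟨fun a => Prod' (P a) (Q a), fun a => inferInstance, fun a => Fintype.ofFinite _, ?_, ?_⟩
  · rintro a b hab ⟨e⟩
    refine hab (E.injective (funext fun j => ?_))
    by_contra hj
    have hrev : E b j = (E a j).rev := by
      revert hj
      generalize E a j = u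
      generalize E b j = v
      revert u v
      decide
    have hc := Nat.card_congr e.toEquiv
    rw [Nat.card_pi, Nat.card_pi] at hc
    have hfac : ∀ (r : ℕ), r ∣ Nat.card (Aff (P a j) (Q a j)) → r ∣ Nat.card (Aff (P b j) (Q b j)) := by
      intro r hr
      have h := hr.trans ((Finset.dvd_prod_of_mem (fun i => Nat.card (Aff (P a i) (Q a i)))
        (Finset.mem_univ j)).trans (dvd_of_eq hc))
      rw [← Finset.mul_prod_erase _ _ (Finset.mem_univ j)] at h
      refine (Nat.Coprime.dvd_of_dvd_mul_right (Nat.Coprime.prod_right fun i hi => ?_) h)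
      refine Nat.Coprime.coprime_dvd_left hr ?_
      rw [card_aff (hPQ a j), card_aff (hPQ b i)]
      have c : ∀ x y x' y', x ≠ x' → (p x y).Coprime (p x' y') := fun x y x' y' h =>
        (Nat.coprime_primes (hp _ _) (hp _ _)).2 fun e => h (hinj _ _ _ _ e).1
      have hji := (Finset.ne_of_mem_erase hi).symm
      exact Nat.Coprime.mul_left
        (Nat.Coprime.mul_right (c _ _ _ _ hji) ((c _ _ _ _ hji).pow_right _))
        (Nat.Coprime.mul_right ((c _ _ _ _ hji).pow_left _) ((c _ _ _ _ hji).pow _ _))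
    have hfac' : Nat.card (Aff (P b j) (Q b j)) ∣ Nat.card (Aff (P a j) (Q a j)) := by
      have h := (Finset.dvd_prod_of_mem (fun i => Nat.card (Aff (P b i) (Q b i)))
        (Finset.mem_univ j)).trans (dvd_of_eq hc.symm)
      rw [← Finset.mul_prod_erase _ _ (Finset.mem_univ j)] at h
      refine (Nat.Coprime.dvd_of_dvd_mul_right (Nat.Coprime.prod_right fun i hi => ?_) h)
      rw [card_aff (hPQ a i), card_aff (hPQ b j)]
      have c : ∀ x y x' y', x ≠ x' → (p x y).Coprime (p x' y') := fun x y x' y' h =>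
        (Nat.coprime_primes (hp _ _) (hp _ _)).2 fun e => h (hinj _ _ _ _ e).1
      have hji := (Finset.ne_of_mem_erase hi).symm
      exact Nat.Coprime.mul_left
        (Nat.Coprime.mul_right (c _ _ _ _ hji) ((c _ _ _ _ hji).pow_right _))
        (Nat.Coprime.mul_right ((c _ _ _ _ hji).pow_left _) ((c _ _ _ _ hji).pow _ _))
    have heq := Nat.dvd_antisymm (hfac _ dvd_rfl) hfac'
    have e1 : P b j = Q a j := by simp [P, Q, hrev]
    have e2 : Q b j = P a j := by simp [P, Q, hrev, Fin.rev_rev]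
    refine card_ne_swap (hPQ a j) (heq.trans ?_)
    rw [card_aff (hPQ b j), card_aff (hPQ a j).symm]
    exact congrArg₂ (fun x y : ℕ => y * x ^ orderOf (x : ZMod y)) e1 e2
  · intro a
    refine ⟨(range_prod (hPQ a) (hPP a) (hQQ a) (hPQ' a)).trans (hset a), ?_⟩
    intro H N hNn hprop heq
    have hmem : ∀ j (r : ℕ), (r = P a j ∨ r = Q a j) → r ∈ Set.range (orderOf : (H ⧸ N) → ℕ) := by
      intro j r hr
      rw [heq, ← hset a]
      refine ⟨fun i => if i = j then r else 1, fun i => ?_, ?_⟩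
      · by_cases h : i = j
        · subst h; simp only [if_true]; tauto
        · simp [h]
      · simp [Finset.prod_ite_eq']
    obtain ⟨h1, h2⟩ := section_eq (hPQ a) (hPP a) (hQQ a) (hPQ' a) H N
      (fun j => hmem j _ (Or.inl rfl)) (fun j => hmem j _ (Or.inr rfl))
    rcases hprop with h | h
    · exact h h1
    · exact h h2

end Cfsg.Agent.S3599
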