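import Cfsg.Statements.S3600
import Cfsg.Agent.Lib.Char.Epp.Main
import Cfsg.Agent.Lib.Char.Epp.Critical

set_option autoImplicit false
open Cfsg

namespace Cfsg.Agent.S3600

/-- A finite group is critical with respect to a set Ω of natural numbers when its set of element orders is Ω while no proper section has Ω as its set of element orders. A finite group critical with respect to {1, 2, 3, 4, 5} (the set of element orders of the alternating group of degree 6) is isomorphic either to the alternating group of degree 6 or to the affine group F² ⋊ SL(2,F) over the field F with four elements (realised as the matrices of SL(3,F) with last row (0, 0, 1)). -/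
theorem result {G : Type*} [Group G] [Finite G]
    (hcrit : Set.range (orderOf : G → ℕ) = ({1, 2, 3, 4, 5} : Set ℕ) ∧
      ∀ (H : Subgroup G) (N : Subgroup ↥H) [N.Normal], (H ≠ ⊤ ∨ N ≠ ⊥) → Set.range (orderOf : (↥H ⧸ N) → ℕ) ≠ ({1, 2, 3, 4, 5} : Set ℕ)) :
    Nonempty (G ≃* alternatingGroup (Fin 6)) ∨
      ∃ (F : Type) (_ : Field F) (_ : Fintype F), Fintype.card F = 4 ∧
        Nonempty (G ≃* ↥(Subgroup.closure {M : Matrix.SpecialLinearGroup (Fin 3) F |
          (M : Matrix (Fin 3) (Fin 3) F) 2 0 = 0 ∧ (M : Matrix (Fin 3) (Fin 3) F) 2 1 = 0 ∧ (M : Matrix (Fin 3) (Fin 3) F) 2 2 = 1})) := by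
  obtain ⟨hspec, hsec⟩ := hcrit
  have hmem : ∀ g : G, orderOf g ∈ ({1, 2, 3, 4, 5} : Set ℕ) := fun g => hspec ▸ Set.mem_range_self g
  have hsmall : CfsgLib.Char.Epp.Small5 G := fun g => by
    have := hmem g
    simp only [Set.mem_insert_iff, Set.mem_singleton_iff] at this
    omega
  have hdvd : ∀ k ∈ ({1, 2, 3, 4, 5} : Set ℕ), k ∣ Nat.card G := fun k hk => by
    obtain ⟨g, hg⟩ : k ∈ Set.range (orderOf : G → ℕ) := hspec ▸ hk
    exact hg ▸ orderOf_dvd_natCard g
  rcases CfsgLib.Char.Epp.structure_five hsmall (hdvd 2 (by simp)) (hdvd 3 (by simp)) (hdvd 5 (by simp)) with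
    h | ⟨N, hN, ⟨-, hexp⟩, ⟨e⟩⟩
  · exact Or.inl h
  right
  let π : G →* alternatingGroup (Fin 5) := e.toMonoidHom.comp (QuotientGroup.mk' N)
  have hker : π.ker = N := by
    ext g
    rw [MonoidHom.mem_ker]
    exact (map_eq_one_iff e e.injective).trans (QuotientGroup.eq_one_iff g)
  have hπ : Function.Surjective π := e.surjective.comp (QuotientGroup.mk'_surjective N)
  have h2 : ∀ n ∈ π.ker, n * n = 1 := fun n hn => by
    rw [← pow_two]; exact hexp n (hker ▸ hn)
  have hne : π.ker ≠ ⊥ := by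
    intro hb
    obtain ⟨g, hg⟩ : (4 : ℕ) ∈ Set.range (orderOf : G → ℕ) := hspec ▸ (by simp)
    have hinj : Function.Injective π := (MonoidHom.ker_eq_bot_iff π).1 hb
    exact CfsgLib.Char.Epp.alt_five_no_four (π g) (by rw [orderOf_injective π hinj g, hg])
  have hproper : ∀ H : Subgroup G, (∀ k, 1 ≤ k → k ≤ 5 → ∃ g ∈ H, orderOf g = k) → H = ⊤ := by
    intro H hH
    by_contra hHt
    refine hsec H (⊥ : Subgroup H) (Or.inl hHt) (Set.ext fun k => ⟨?_, ?_⟩)
    · rintro ⟨x, rfl⟩
      rw [← MulEquiv.orderOf_eq (QuotientGroup.quotientBot (G := H)) x, ← Subgroup.orderOf_coe]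
      exact hmem _
    · intro hk
      simp only [Set.mem_insert_iff, Set.mem_singleton_iff] at hk
      obtain ⟨g, hg, hgo⟩ := hH k (by omega) (by omega)
      refine ⟨(QuotientGroup.quotientBot (G := H)).symm ⟨g, hg⟩, ?_⟩
      rw [MulEquiv.orderOf_eq, Subgroup.orderOf_mk, hgo]
  obtain ⟨eA⟩ := hsmall.iso_aff π hπ h2 hne hproper
  refine ⟨CfsgLib.Spor.Fi22.U6.Four, inferInstance, inferInstance, CfsgLib.Spor.Fi22.U6.Four.card_four,
    ⟨eA.trans (MulEquiv.subgroupCongr ?_)⟩⟩
  exact (Subgroup.closure_eq CfsgLib.Char.Epp.Affine.Aff).symm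

end Cfsg.Agent.S3600
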