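import Cfsg.Statements.S3614
import Cfsg.Agent.Lib.Perm.Groups.PrimeTwinAlternating

set_option autoImplicit false
open Cfsg

namespace Cfsg.Agent.S3614

/-- Let G be an insoluble group acting faithfully and transitively on a finite set of prime size p, and suppose the normalizer of a Sylow p-subgroup of G has order p(p-1)/2. If p = q + 2 = 2r + 3 > 9 or p = q + 2 = 3r + 4 > 13 with q and r prime, then G is isomorphic to the alternating group of degree p. -/
theorem result {G Ω : Type*} [Group G] [Finite G] [MulAction G Ω] [FaithfulSMul G Ω] [Finite Ω]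
    (p : ℕ) (hp : p.Prime) (hΩ : Nat.card Ω = p) (htrans : MulAction.IsPretransitive G Ω)
    (hins : ¬ Group.IsSolvable G) (P : Sylow p G)
    (hN : 2 * Nat.card ↥(Subgroup.normalizer ((P : Subgroup G) : Set G)) = p * (p - 1))
    (q r : ℕ) (hq : q.Prime) (hr : r.Prime)
    (hcases : (p = q + 2 ∧ p = 2 * r + 3 ∧ 9 < p) ∨ (p = q + 2 ∧ p = 3 * r + 4 ∧ 13 < p)) :
    Nonempty (G ≃* alternatingGroup (Fin p)) := by
  classical
  haveI := htrans
  haveI : Fact p.Prime := ⟨hp⟩
  haveI : Fact r.Prime := ⟨hr⟩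
  haveI := Fintype.ofFinite Ω
  obtain ⟨htr, hins', P', hN'⟩ := CfsgLib.Perm.Heart.range_hypotheses (Ω := Ω) hins P hN
  haveI := htr
  have hpc : Fintype.card Ω = p := by rw [← Nat.card_eq_fintype_card, hΩ]
  have hr5 : 5 ≤ r := by
    have h4 : r ≠ 4 := fun h => by rw [h] at hr; norm_num at hr
    rcases hcases with ⟨h1, h2, h3⟩ | ⟨h1, h2, h3⟩ <;> omega
  have hq5 : 5 < q := by rcases hcases with ⟨h1, h2, h3⟩ | ⟨h1, h2, h3⟩ <;> omega
  have hpq : p = q + 2 := by rcases hcases with ⟨h1, h2, h3⟩ | ⟨h1, h2, h3⟩ <;> omega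
  have h5 := CfsgLib.Perm.Heart.twin_five_transitive hpc (MulAction.toPermHom G Ω).range hins' P' hN' hq hq5 hpq
  have hprim : MulAction.IsPreprimitive (MulAction.toPermHom G Ω).range Ω :=
    MulAction.IsPreprimitive.of_prime_card (by rw [hΩ]; exact hp)
  have hle : alternatingGroup Ω ≤ (MulAction.toPermHom G Ω).range := by
    rcases hcases with ⟨-, h2, -⟩ | ⟨-, h2, -⟩
    · exact CfsgLib.Perm.TwinAlt.alt_two hr5 (by rw [hpc, h2]) hprim h5
    · exact CfsgLib.Perm.TwinAlt.alt_three hr5 (by rw [hpc, h2]) hprim h5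
  have heq : (MulAction.toPermHom G Ω).range = alternatingGroup Ω := by
    haveI : Nontrivial Ω := Fintype.one_lt_card_iff_nontrivial.1 (hpc ▸ hp.one_lt)
    have h := Subgroup.relIndex_mul_index hle
    rw [alternatingGroup.index_eq_two] at h
    have hdvd : (MulAction.toPermHom G Ω).range.index ∣ 2 := ⟨_, by rw [mul_comm]; exact h.symm⟩
    rcases (Nat.dvd_prime Nat.prime_two).1 hdvd with h1 | h1
    · exact (CfsgLib.Perm.Heart.eq_top_false hpc _ P' hN' (Subgroup.index_eq_one.1 h1)).elim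
    · exact Equiv.Perm.eq_alternatingGroup_of_index_eq_two h1
  have hφ : Function.Injective (MulAction.toPermHom G Ω) := MulAction.toPerm_injective
  exact ⟨((MonoidHom.ofInjective hφ).trans (MulEquiv.subgroupCongr heq)).trans
    (Equiv.altCongrHom (Fintype.equivFinOfCardEq hpc))⟩

end Cfsg.Agent.S3614
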