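import Cfsg.Statements.S3643
import Cfsg.Agent.Lib.Char.MTwelveGraph.Main

set_option autoImplicit false
open Cfsg

namespace Cfsg.Agent.S3643

/-- Let G be a finite group of the same order as the Mathieu group M₁₂ whose character degree graph equals that of M₁₂ (same primes dividing some irreducible complex character degree, same pairs of distinct primes whose product divides some degree). Then G is isomorphic to M₁₂ or to the direct product of the alternating group of degree 4 with M₁₁. -/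
theorem result {G : Type*} [Group G] [Finite G] (hcard : Nat.card G = Nat.card ↥Cfsg.Spor.M12) (hΔ : Cfsg.degreePrimes G = Cfsg.degreePrimes ↥Cfsg.Spor.M12 ∧ Cfsg.degreeGraph G = Cfsg.degreeGraph ↥Cfsg.Spor.M12) :
    Nonempty (G ≃* ↥Cfsg.Spor.M12) ∨ Nonempty (G ≃* alternatingGroup (Fin 4) × ↥Cfsg.Spor.M11) := by
  classical
  obtain ⟨hp, hg⟩ := hΔ
  have h : Nat.card G = 95040 := hcard.trans CfsgLib.Spor.OuterAut.card_M12
  obtain ⟨h55, h99⟩ := CfsgLib.Char.MTwelveGraph.m12_degrees
  have h11 : 11 ∈ Cfsg.degreePrimes G := hp ▸ ⟨by norm_num, 55, h55, by norm_num⟩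
  obtain ⟨-, -, -, d, hd, hd'⟩ : (Cfsg.degreeGraph G).Adj 5 11 :=
    hg ▸ ⟨by norm_num, by norm_num, by norm_num, 55, h55, by norm_num⟩
  obtain ⟨-, -, -, d', hd₂, hd₂'⟩ : (Cfsg.degreeGraph G).Adj 3 11 :=
    hg ▸ ⟨by norm_num, by norm_num, by norm_num, 99, h99, by norm_num⟩
  exact CfsgLib.Char.MTwelveGraph.main h h11 ⟨d, hd, by simpa using hd'⟩ ⟨d', hd₂, by simpa using hd₂'⟩

end Cfsg.Agent.S3643
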