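import Cfsg.Statements.S3680
import Cfsg.Agent.Lib.Coprime.Primitive
import Cfsg.Agent.Lib.Perm.Groups.PowerSimple

set_option autoImplicit false
open Cfsg

namespace Cfsg.Agent.S3680

theorem minimal_normal_power {G : Type*} [Group G] [Finite G] (M : Subgroup G) [M.Normal] (hM : M ≠ ⊥)
    (hmin : ∀ K : Subgroup G, K.Normal → K ≤ M → K = ⊥ ∨ K = M) :
    ∃ (S : Type) (_ : Group S) (_ : IsSimpleGroup S) (n : ℕ), 1 ≤ n ∧ Nonempty (M ≃* (Fin n → S)) := by
  haveI : Nontrivial M := (Subgroup.nontrivial_iff_ne_bot M).2 hM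
  refine CfsgLib.Perm.Groups.exists_power_of_charSimple fun H hH => ?_
  rcases hmin (H.map M.subtype) inferInstance (Subgroup.map_subtype_le H) with h | h
  · exact Or.inl ((Subgroup.map_eq_bot_iff_of_injective H M.subtype_injective).1 h)
  · refine Or.inr (Subgroup.map_injective M.subtype_injective (h.trans ?_))
    rw [← MonoidHom.range_eq_map, Subgroup.range_subtype]


/-- The socle of a finite primitive permutation group. Let a finite group G act faithfully and primitively on a set Ω, and let N be the subgroup generated by the minimal normal subgroups of G. Then either N is an elementary abelian p-group for some prime p and acts regularly on Ω (transitively with trivial point stabilizers), or N is isomorphic to a direct product of m ≥ 1 copies of a non-abelian simple group. -/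
theorem result {G Ω : Type*} [Group G] [Finite G] [MulAction G Ω] [FaithfulSMul G Ω] [Finite Ω]
    (hprim : MulAction.IsPreprimitive G Ω) (N : Subgroup G)
    (hN : N = sSup {V : Subgroup G | V.Normal ∧ V ≠ ⊥ ∧ ∀ M : Subgroup G, M.Normal → M ≤ V → M = ⊥ ∨ M = V}) :
    (∃ p : ℕ, p.Prime ∧ IsMulCommutative N ∧ (∀ x : N, x ^ p = 1) ∧
      MulAction.IsPretransitive N Ω ∧ ∀ ω : Ω, MulAction.stabilizer N ω = ⊥) ∨
    (∃ (T : Type) (_ : Group T) (m : ℕ), 1 ≤ m ∧ IsSimpleGroup T ∧ ¬ IsMulCommutative T ∧ Nonempty (N ≃* (Fin m → T))) := by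
  classical
  haveI := hprim
  rcases subsingleton_or_nontrivial Ω with hΩ | hΩ
  · have h1 : ∀ g : G, g = 1 := fun g =>
      FaithfulSMul.eq_of_smul_eq_smul (α := Ω) fun x => Subsingleton.elim _ _
    haveI : Subsingleton G := ⟨fun a b => (h1 a).trans (h1 b).symm⟩
    refine Or.inl ⟨2, Nat.prime_two, ⟨⟨fun a b => Subsingleton.elim _ _⟩⟩, fun x => Subsingleton.elim _ _,
      ⟨fun x y => ⟨1, Subsingleton.elim _ _⟩⟩, fun ω => Subgroup.eq_bot_of_subsingleton _⟩
  obtain ⟨ω⟩ : Nonempty Ω := inferInstance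
  have hU : IsCoatom (MulAction.stabilizer G ω) :=
    (MulAction.isCoatom_stabilizer_iff_preprimitive G ω).2 hprim
  have hcore : (MulAction.stabilizer G ω).normalCore = ⊥ := by
    by_contra h
    haveI := CfsgLib.Coprime.primitive_normal_transitive hprim _ h
    obtain ⟨x, y, hxy⟩ := exists_pair_ne Ω
    obtain ⟨z, hz⟩ : ∃ z, z ≠ ω := by
      rcases eq_or_ne x ω with hx | hx
      · exact ⟨y, fun e => hxy (hx.trans e.symm)⟩
      · exact ⟨x, hx⟩
    obtain ⟨⟨m, hm⟩, e⟩ := MulAction.exists_smul_eq (MulAction.stabilizer G ω).normalCore ω z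
    exact hz (e.symm.trans (Subgroup.normalCore_le _ hm))
  haveI : Nontrivial G := by
    by_contra h
    rw [not_nontrivial_iff_subsingleton] at h
    exact hU.1 (Subsingleton.elim _ _)
  obtain ⟨A, hAn, hA, -, hAmin⟩ :=
    CfsgLib.Coprime.exists_minimal_normal_le (N := (⊤ : Subgroup G)) top_ne_bot
  haveI := hAn
  by_cases huniq : ∀ V : Subgroup G, V.Normal → V ≠ ⊥ →
      (∀ M : Subgroup G, M.Normal → M ≤ V → M = ⊥ ∨ M = V) → V = A
  · have hNA : N = A := by
      rw [hN]
      exact le_antisymm (sSup_le fun V hV => (huniq V hV.1 hV.2.1 hV.2.2).le)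
        (le_sSup ⟨hAn, hA, hAmin⟩)
    subst hNA
    obtain ⟨S, instS, hS, n, hn, ⟨e⟩⟩ := minimal_normal_power N hA hAmin
    by_cases hc : IsMulCommutative S
    · left
      letI : CommGroup S := { instS with mul_comm := fun a b => hc.is_comm.comm a b }
      haveI : Finite S := by
        haveI : Finite (Fin n → S) := Finite.of_equiv _ e.toEquiv
        exact Finite.of_surjective (fun f : Fin n → S => f ⟨0, hn⟩) fun s => ⟨fun _ => s, rfl⟩
      have hp : (Nat.card S).Prime := IsSimpleGroup.prime_card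
      have hcomm : ∀ a b : N, a * b = b * a := fun a b => e.injective (by
        rw [map_mul, map_mul]
        funext i
        exact hc.is_comm.comm _ _)
      have hMc : N ≤ Subgroup.centralizer (N : Set G) := fun a ha =>
        Subgroup.mem_centralizer_iff.2 fun b hb => congrArg Subtype.val (hcomm ⟨b, hb⟩ ⟨a, ha⟩)
      have ht := CfsgLib.Coprime.primitive_normal_transitive hprim N hA
      refine ⟨Nat.card S, hp, ⟨⟨hcomm⟩⟩, fun x => e.injective ?_, ht, fun w =>
        (Subgroup.eq_bot_iff_forall _).2 fun m hm => Subtype.ext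
          (CfsgLib.Coprime.abelian_transitive_regular hMc ht (hMc m.2)
            (MulAction.mem_stabilizer_iff.1 hm))⟩
      rw [map_pow, map_one]
      funext i
      exact pow_card_eq_one'
    · exact Or.inr ⟨S, instS, n, hn, hS, hc, ⟨e⟩⟩
  · push Not at huniq
    obtain ⟨B, hBn, hB, hBmin, hBA⟩ := huniq
    haveI := hBn
    obtain ⟨hCB, hCA, -, -, hnab, ⟨eAB⟩, -⟩ :=
      CfsgLib.Coprime.two_minimal_normal hU hcore A B hA hB hAmin hBmin hBA.symm
    have hNAB : N = A ⊔ B := by
      rw [hN]
      refine le_antisymm (sSup_le fun V hV => ?_)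
        (sup_le (le_sSup ⟨hAn, hA, hAmin⟩) (le_sSup ⟨hBn, hB, hBmin⟩))
      haveI := hV.1
      rcases eq_or_ne V A with h | h
      · exact h ▸ le_sup_left
      · exact ((CfsgLib.Coprime.commute_of_minimal_ne hV.2.2 hAmin hV.2.1 h).2.trans
          hCA.le).trans le_sup_right
    subst hNAB
    obtain ⟨S, instS, hS, n, hn, ⟨e⟩⟩ := minimal_normal_power A hA hAmin
    right
    refine ⟨S, instS, n + n, by omega, hS, fun hc => hnab ⟨⟨fun a b => e.injective (by
        rw [map_mul, map_mul]
        funext i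
        exact hc.is_comm.comm _ _)⟩⟩, ?_⟩
    obtain ⟨hinf, hle⟩ := CfsgLib.Coprime.commute_of_minimal_ne hAmin hBmin hA hBA.symm
    have comm : ∀ (a : A) (b : B), Commute (A.subtype a) (B.subtype b) := fun a b =>
      (Subgroup.mem_centralizer_iff.1 (hle a.2) b b.2).symm
    let φ : A × B →* G := MonoidHom.noncommCoprod A.subtype B.subtype comm
    have hinj : Function.Injective φ := by
      rw [injective_iff_map_eq_one]
      rintro ⟨a, b⟩ h
      have h' : (a : G) * b = 1 := h
      have ha : (a : G) ∈ A ⊓ B := ⟨a.2, by rw [eq_inv_of_mul_eq_one_left h']; exact B.inv_mem b.2⟩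
      rw [hinf, Subgroup.mem_bot] at ha
      rw [ha, one_mul] at h'
      exact Prod.ext (Subtype.ext ha) (Subtype.ext h')
    have hrange : φ.range = A ⊔ B := by
      rw [MonoidHom.noncommCoprod_range, Subgroup.range_subtype, Subgroup.range_subtype]
    let e1 : ↥(A ⊔ B) ≃* A × B :=
      (MulEquiv.subgroupCongr hrange.symm).trans (MonoidHom.ofInjective hinj).symm
    let e2 : (Fin n → S) × (Fin n → S) ≃* (Fin n ⊕ Fin n → S) :=
      { (Equiv.sumArrowEquivProdArrow (Fin n) (Fin n) S).symm with
        map_mul' := fun x y => by funext i; cases i <;> rfl }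
    exact ⟨e1.trans ((e.prodCongr (eAB.symm.trans e)).trans
      (e2.trans (MulEquiv.arrowCongr finSumFinEquiv (MulEquiv.refl S))))⟩

end Cfsg.Agent.S3680
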