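import Cfsg.Statements.S3682
import Cfsg.Agent.Lib.Char.ThompsonWielandt

set_option autoImplicit false
open Cfsg

namespace Cfsg.Agent.S3682

open CfsgLib.Char.TW

/-- Wielandt's bound toward the Sims conjecture. Let a finite group G act faithfully and primitively on a set Ω, let a and b be points, and suppose the orbit of b under the stabilizer of a has length d ≥ 2. Then there are a prime p and a normal p-subgroup P of the stabilizer of a, all of whose elements fix b, such that the index of P in the stabilizer of a divides d! · ((d - 1)!)^d. -/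
theorem result {G Ω : Type*} [Group G] [Finite G] [MulAction G Ω] [FaithfulSMul G Ω] [Finite Ω]
    (hprim : MulAction.IsPreprimitive G Ω) (a b : Ω) (d : ℕ) (hd : Nat.card (MulAction.orbit (MulAction.stabilizer G a) b) = d) (h2 : 2 ≤ d) :
    ∃ p : ℕ, p.Prime ∧ ∃ P : Subgroup (MulAction.stabilizer G a), P.Normal ∧ IsPGroup p P ∧ (∀ g : P, ((g : MulAction.stabilizer G a) : G) • b = b) ∧
      P.index ∣ Nat.factorial d * (Nat.factorial (d - 1)) ^ d := by
  have h2' : 2 ≤ Nat.card (MulAction.orbit (MulAction.stabilizer G a) b) := hd ▸ h2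
  have hP := pair_of_isPreprimitive hprim a b h2'
  have hr := (relIndex_stabilizer a b).trans hd
  rcases hP.wielandt hr with ⟨p, hp, -, hX, -⟩ | hb
  · refine ⟨p, hp, _, Subgroup.normalCore_normal _,
      hX.of_equiv (Subgroup.equivMapOfInjective _ _ (Subgroup.subtype_injective _)).symm, ?_,
      hP.index_snd_dvd hr⟩
    intro g
    exact (snd_le_inf _ _ (Subgroup.mem_map_of_mem _ g.2)).2
  · refine ⟨2, Nat.prime_two, ⊥, inferInstance, IsPGroup.of_bot, ?_, by rwa [Subgroup.index_bot]⟩
    intro g
    rw [Subgroup.mem_bot.1 g.2, OneMemClass.coe_one, one_smul]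

end Cfsg.Agent.S3682
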