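import Cfsg.Statements.S3686
import Cfsg.Agent.Lib.Recog.SubThree.Small
import Cfsg.Agent.Lib.Recog.SubThree.TwelveMain
import Cfsg.Agent.Lib.Recog.SubThree.FourMain
import Cfsg.Agent.Lib.Recog.SubThree.FourTwoMain
import Cfsg.Agent.Lib.Char.SuborbitThree.Main

set_option autoImplicit false
open Cfsg

namespace Cfsg.Agent.S3686

theorem perm_three_centralizer :
    ∀ p : Equiv.Perm (Fin 3), (∀ x, Equiv.Perm.sign x = 1 → p * x = x * p) → Equiv.Perm.sign p = 1 := by
  decide +kernel

/-- Let G be a finite insoluble group acting faithfully and primitively on a set Ω so that the stabilizer of a point a has an orbit of length 3. Then G is isomorphic to one of: the alternating or the symmetric group of degree 5, PGL(2, 7), PSL(2, 11), PSL(2, 13), PSL(2, p) for a prime p ≡ ±1 (mod 16), PSL(3, 3), or a group containing a normal subgroup of index 2 isomorphic to PSL(3, 3) with trivial centralizer. -/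
theorem result {G Ω : Type*} [Group G] [Finite G] [MulAction G Ω] [FaithfulSMul G Ω] [Finite Ω]
    (hsol : ¬ Group.IsSolvable G) (hprim : MulAction.IsPreprimitive G Ω) (a b : Ω) (h3 : Nat.card (MulAction.orbit (MulAction.stabilizer G a) b) = 3) :
    Nonempty (G ≃* alternatingGroup (Fin 5)) ∨ Nonempty (G ≃* Equiv.Perm (Fin 5)) ∨
      Nonempty (G ≃* GL (Fin 2) (ZMod 7) ⧸ Subgroup.center (GL (Fin 2) (ZMod 7))) ∨
      Nonempty (G ≃* Matrix.ProjectiveSpecialLinearGroup (Fin 2) (ZMod 11)) ∨
      Nonempty (G ≃* Matrix.ProjectiveSpecialLinearGroup (Fin 2) (ZMod 13)) ∨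
      (∃ p : ℕ, p.Prime ∧ (p % 16 = 1 ∨ p % 16 = 15) ∧ Nonempty (G ≃* Matrix.ProjectiveSpecialLinearGroup (Fin 2) (ZMod p))) ∨
      Nonempty (G ≃* Matrix.ProjectiveSpecialLinearGroup (Fin 3) (ZMod 3)) ∨
      (∃ N : Subgroup G, N.Normal ∧ N.index = 2 ∧ Subgroup.centralizer (N : Set G) = ⊥ ∧
        Nonempty (N ≃* Matrix.ProjectiveSpecialLinearGroup (Fin 3) (ZMod 3))) := by
  classical
  obtain ⟨B, g, k, hy⟩ := CfsgLib.Char.SuborbitThree.exists_hyp hprim a b h3
  generalize MulAction.stabilizer G a = H at hy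
  have mkP : Nat.card H < 60 → CfsgLib.Recog.SubThree.Prim H := fun hc =>
    ⟨hy.coatom, hy.core, CfsgLib.Invol.AltEightSubgroups.solvable_of_card_lt_sixty _ rfl hc, hsol⟩
  have hgB : B.map (MulAut.conj g).toMonoidHom = B := hy.norm
  have hk := hy.cardH
  have hB := hy.cardB
  rcases hy.shape with ⟨⟨e⟩⟩ | ⟨⟨e⟩⟩ | ⟨⟨e⟩⟩ | ⟨⟨e⟩⟩ | ⟨⟨e⟩⟩
  · have hc : Nat.card H = 3 := by
      rw [Nat.card_congr e.toEquiv, Nat.card_eq_fintype_card]; rfl
    exact Or.inl ((mkP (by omega)).small hc le_rfl Subgroup.le_normalizer (fun _ ha _ => ha) (by omega))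
  · have hc : Nat.card H = 6 := by
      rw [Nat.card_congr e.toEquiv, Nat.card_perm, Nat.card_fin]; rfl
    set X := ((alternatingGroup (Fin 3)).comap e.toMonoidHom).map H.subtype with hX
    have hX3 : Nat.card X = 3 := by
      have e1 : Nat.card X = Nat.card ((alternatingGroup (Fin 3)).comap e.toMonoidHom) :=
        (Nat.card_congr (Subgroup.equivMapOfInjective _ _ H.subtype_injective).toEquiv).symm
      have e2 : Nat.card ((alternatingGroup (Fin 3)).comap e.toMonoidHom) = Nat.card (alternatingGroup (Fin 3)) := by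
        conv_rhs => rw [← Subgroup.map_comap_eq_self_of_surjective (f := e.toMonoidHom) e.surjective
          (alternatingGroup (Fin 3))]
        exact Nat.card_congr (Subgroup.equivMapOfInjective _ _ e.injective).toEquiv
      rw [e1, e2, nat_card_alternatingGroup, Nat.card_fin]
      rfl
    refine Or.inl ((mkP (by omega)).small hX3 (Subgroup.map_subtype_le _) ?_ ?_ (by omega))
    · have : ((alternatingGroup (Fin 3)).comap e.toMonoidHom).Normal := Subgroup.Normal.comap inferInstance _
      intro x hx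
      rw [Subgroup.mem_normalizer_iff]
      intro n
      constructor
      · rintro ⟨m, hm, rfl⟩
        exact ⟨_, Subgroup.Normal.conj_mem inferInstance m hm ⟨x, hx⟩, rfl⟩
      · rintro ⟨m, hm, hmn⟩
        refine ⟨_, Subgroup.Normal.conj_mem inferInstance m hm ⟨x, hx⟩⁻¹, ?_⟩
        have hmn' : (m : G) = x * n * x⁻¹ := hmn
        simp [hmn', mul_assoc]
    · intro x hx hxc
      refine ⟨⟨x, hx⟩, ?_, rfl⟩
      show Equiv.Perm.sign (e ⟨x, hx⟩) = 1
      refine perm_three_centralizer _ fun y hy' => ?_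
      have hmem : ((e.symm y : H) : G) ∈ X := ⟨_, by
        show Equiv.Perm.sign (e (e.symm y)) = 1
        rw [e.apply_symm_apply]; exact hy', rfl⟩
      have h1 : e.symm y * ⟨x, hx⟩ = ⟨x, hx⟩ * e.symm y :=
        Subtype.ext (Subgroup.mem_centralizer_iff.1 hxc _ hmem)
      have h2 := congrArg e h1
      simpa using h2.symm
  · have hc : Nat.card H = 12 := by rw [Nat.card_congr e.toEquiv, DihedralGroup.nat_card]
    rcases (mkP (by omega)).twelve e with h | h | h | h
    exacts [Or.inr (Or.inl h), Or.inr (Or.inr (Or.inl h)), Or.inr (Or.inr (Or.inr (Or.inl h))),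
      Or.inr (Or.inr (Or.inr (Or.inr (Or.inl h))))]
  · have hc : Nat.card H = 24 := by
      rw [Nat.card_congr e.toEquiv, Nat.card_perm, Nat.card_fin]; rfl
    rcases (mkP (by omega)).symFour e hy.le (by omega) hgB hy.notMem with h | h
    exacts [Or.inr (Or.inr (Or.inr (Or.inr (Or.inr (Or.inl h))))),
      Or.inr (Or.inr (Or.inr (Or.inr (Or.inr (Or.inr (Or.inl h))))))]
  · have hc : Nat.card H = 48 := by
      rw [Nat.card_congr e.toEquiv, Nat.card_eq_fintype_card, CfsgLib.Recog.SubThree.ft_card]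
    exact Or.inr (Or.inr (Or.inr (Or.inr (Or.inr (Or.inr (Or.inr
      ((mkP (by omega)).symFourTwo e hy.le (by omega) hgB hy.notMem)))))))

end Cfsg.Agent.S3686
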