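import Cfsg.Statements.S3688
import Cfsg.Agent.Lib.Char.ThompsonWielandt

set_option autoImplicit false
open Cfsg

namespace Cfsg.Agent.S3688

open CfsgLib.Char.TW

/-- Let a finite group G act faithfully and primitively on a set Ω, let a and b be points such that the orbit of b under the stabilizer H of a has length d ≥ 2, and suppose that H is not strongly constrained: for no prime p does the generalized Fitting subgroup of H coincide with the largest normal p-subgroup of H. Then the order of H divides d! · ((d - 1)!)^d. -/
theorem result {G Ω : Type*} [Group G] [Finite G] [MulAction G Ω] [FaithfulSMul G Ω] [Finite Ω]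
    (hprim : MulAction.IsPreprimitive G Ω) (a b : Ω) (d : ℕ) (hd : Nat.card (MulAction.orbit (MulAction.stabilizer G a) b) = d) (h2 : 2 ≤ d)
    (hnc : ∀ p : ℕ, p.Prime → Cfsg.generalizedFittingSubgroup (MulAction.stabilizer G a) ≠ Cfsg.pCore p (MulAction.stabilizer G a)) :
    Nat.card (MulAction.stabilizer G a) ∣ Nat.factorial d * (Nat.factorial (d - 1)) ^ d := by
  have h2' : 2 ≤ Nat.card (MulAction.orbit (MulAction.stabilizer G a) b) := hd ▸ h2
  have hP := pair_of_isPreprimitive hprim a b h2'
  refine (hP.wielandt ((relIndex_stabilizer a b).trans hd)).resolve_left ?_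
  rintro ⟨p, hp, hc, -, -⟩
  haveI := Fact.mk hp
  exact hnc p hp (CfsgLib.CharPLoc.fStar_eq_pCore_iff.2 hc)

end Cfsg.Agent.S3688
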