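import Cfsg.Statements.S3693
import Cfsg.Agent.Lib.Char.ThompsonWielandt

set_option autoImplicit false
open Cfsg

namespace Cfsg.Agent.S3693

open CfsgLib.Char.TW

/-- Let a finite group G act faithfully and primitively on a set Ω, let a and b be points such that the orbit Δ of b under the stabilizer H of a has length d ≥ 2, and consider the permutation group induced on Δ by the elements of H fixing b. If that induced group has trivial Fitting subgroup (no non-trivial nilpotent normal subgroup), then the two-point stabilizer of a and b has trivial Fitting subgroup and the order of H divides d! · ((d - 1)!)^d. -/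
theorem result {G Ω : Type*} [Group G] [Finite G] [MulAction G Ω] [FaithfulSMul G Ω] [Finite Ω]
    (hprim : MulAction.IsPreprimitive G Ω) (a b : Ω) (d : ℕ) (hd : Nat.card (MulAction.orbit (MulAction.stabilizer G a) b) = d) (h2 : 2 ≤ d)
    (hF : Cfsg.fittingSubgroup ↥(((MulAction.stabilizer G b).subgroupOf (MulAction.stabilizer G a)).map (MulAction.toPermHom (MulAction.stabilizer G a) (MulAction.orbit (MulAction.stabilizer G a) b))) = ⊥) :
    Cfsg.fittingSubgroup ↥(MulAction.stabilizer G a ⊓ MulAction.stabilizer G b) = ⊥ ∧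
      Nat.card (MulAction.stabilizer G a) ∣ Nat.factorial d * (Nat.factorial (d - 1)) ^ d := by
  have h2' : 2 ≤ Nat.card (MulAction.orbit (MulAction.stabilizer G a) b) := hd ▸ h2
  have hP := pair_of_isPreprimitive hprim a b h2'
  set H := MulAction.stabilizer G a
  set K := MulAction.stabilizer G b
  set φ := MulAction.toPermHom H (MulAction.orbit H b)
  have hker : φ.ker ≤ ((H ⊓ K).subgroupOf H).normalCore := by
    refine Subgroup.normal_le_normalCore.2 fun x hx => Subgroup.mem_subgroupOf.2 ⟨x.2, ?_⟩
    have h := Equiv.ext_iff.1 (MonoidHom.mem_ker.1 hx) ⟨b, MulAction.mem_orbit_self b⟩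
    exact congrArg Subtype.val h
  have hcore : ∀ p : ℕ, p.Prime → coreOf p (H ⊓ K) = ⊥ := by
    intro p hp
    haveI := Fact.mk hp
    refine hP.coreOf_inf_eq_bot ?_
    rintro _ ⟨x, hx, rfl⟩
    let ψ : ↥(H ⊓ K) →* ↥((K.subgroupOf H).map φ) :=
      (φ.comp (Subgroup.inclusion inf_le_left)).codRestrict _ fun y =>
        Subgroup.mem_map_of_mem φ (show Subgroup.inclusion inf_le_left y ∈ K.subgroupOf H from y.2.2)
    have hψ : Function.Surjective ψ := by
      rintro ⟨_, y, hy, rfl⟩
      exact ⟨⟨y, y.2, hy⟩, rfl⟩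
    have h1 : ψ x ∈ (⊥ : Subgroup ↥((K.subgroupOf H).map φ)) :=
      hF ▸ CfsgLib.Coprime.map_fitting_le hψ
        (Subgroup.mem_map_of_mem ψ (CfsgLib.Coprime.pCore_le_fitting p hx))
    exact Subgroup.mem_map.2 ⟨⟨x, x.2.1⟩,
      hker (MonoidHom.mem_ker.2 (congrArg Subtype.val (Subgroup.mem_bot.1 h1))), rfl⟩
  refine ⟨fitting_eq_bot_of_coreOf hcore, ?_⟩
  refine (hP.wielandt ((relIndex_stabilizer a b).trans hd)).resolve_left ?_
  rintro ⟨p, hp, -, hX, hne⟩
  haveI := Fact.mk hp
  refine hne (le_bot_iff.1 ((le_coreOf (snd_le_inf H K) ?_ hX).trans (hcore p hp).le))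
  exact le_inf_normalizer H K (le_normalizer_ncore _ _)

end Cfsg.Agent.S3693
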