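import Cfsg.Statements.S3696
import Mathlib

set_option autoImplicit false
open Cfsg

namespace Cfsg.Agent.S3696

/-- AM-GM for lists of naturals -/
theorem prod_mul_length_pow_le (l : List ℕ) (n : ℕ) (h : l.sum ≤ n) :
    l.prod * l.length ^ l.length ≤ n ^ l.length := by
  rcases Nat.eq_zero_or_pos l.length with h0 | h0
  · rw [List.length_eq_zero_iff] at h0
    subst h0
    simp
  have hk : (0 : ℝ) < l.length := by exact_mod_cast h0
  have := Real.geom_mean_le_arith_mean (Finset.univ : Finset (Fin l.length)) (fun _ => (1 : ℝ))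
    (fun i => ((l[(i : ℕ)] : ℕ) : ℝ)) (fun _ _ => zero_le_one)
    (by simpa using hk) (fun _ _ => Nat.cast_nonneg _)
  simp only [Real.rpow_one, Finset.sum_const, Finset.card_univ, Fintype.card_fin, nsmul_eq_mul,
    mul_one, one_mul, ← Nat.cast_prod, ← Nat.cast_sum, Fin.prod_univ_getElem, Fin.sum_univ_getElem] at this
  have h2 := pow_le_pow_left₀ (Real.rpow_nonneg (Nat.cast_nonneg _) _) this l.length
  rw [Real.rpow_inv_natCast_pow (Nat.cast_nonneg _) h0.ne', div_pow, le_div_iff₀ (pow_pos hk _)] at h2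
  exact (Nat.cast_le (α := ℝ).1 (by rw [Nat.cast_mul, Nat.cast_pow, Nat.cast_pow]; exact h2)).trans (Nat.pow_le_pow_left h _)

theorem split_le {p : ℕ} (hp : 2 ≤ p) (d e : ℕ) (he : 1 ≤ e) : d * p + p ^ e ≤ p ^ (d + e) := by
  induction d with
  | zero => simp
  | succ d ih =>
    have h1 : p ≤ p ^ (d + e) := Nat.le_self_pow (by omega) p
    have h2 : p ^ (d + 1 + e) = p ^ (d + e) * p := by rw [← pow_succ]; ring_nf
    rw [h2, Nat.succ_mul]
    nlinarith

theorem card_mul_rel {G : Type*} [Group G] {H K : Subgroup G} (h : H ≤ K) :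
    Nat.card H * H.relIndex K = Nat.card K := by
  have := Subgroup.relIndex_mul_relIndex ⊥ H K bot_le h
  rwa [Subgroup.relIndex_bot_left, Subgroup.relIndex_bot_left] at this

/-- points moved by `K` -/
noncomputable def movedCard {Ω : Type*} (K : Subgroup (Equiv.Perm Ω)) : ℕ :=
  Nat.card {w : Ω // ∃ g ∈ K, g w ≠ w}

theorem rank_list {Ω : Type*} [Finite Ω] (p : ℕ) [Fact p.Prime]
    (A T : Subgroup (Equiv.Perm Ω)) (hA : IsPGroup p A)
    (hcomm : ∀ a ∈ A, ∀ b ∈ A, a * b = b * a) (hT : ∀ x, x ∈ T ↔ x ∈ A ∧ x ^ p = 1) :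
    ∀ n : ℕ, ∀ K : Subgroup (Equiv.Perm Ω), K ≤ A → Nat.card K = n →
      ∃ l : List ℕ, p ^ l.length = Nat.card (K ⊓ T : Subgroup (Equiv.Perm Ω)) ∧
        l.prod = Nat.card K ∧ l.sum ≤ movedCard K := by
  classical
  intro n
  induction n using Nat.strong_induction_on with
  | _ n ih =>
    intro K hK hn
    have hp := (Fact.out : p.Prime)
    rcases eq_or_ne K ⊥ with hb | hb
    · subst hb
      exact ⟨[], by simp, by simp, by simp⟩
    have hKp : IsPGroup p K := hA.to_le hK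
    haveI : Nontrivial K := (Subgroup.nontrivial_iff_ne_bot K).2 hb
    obtain ⟨a, ha, hca⟩ := hKp.nontrivial_iff_card.1 inferInstance
    obtain ⟨x, hx⟩ := exists_prime_orderOf_dvd_card' (G := K) p (hca ▸ dvd_pow_self p ha.ne')
    have hxT : (x : Equiv.Perm Ω) ∈ T := (hT _).2 ⟨hK x.2, by
      rw [← SubmonoidClass.coe_pow, ← hx, pow_orderOf_eq_one]; rfl⟩
    have hx1 : (x : Equiv.Perm Ω) ≠ 1 := fun h => hp.one_lt.ne' (by
      rw [← hx, orderOf_eq_one_iff]; exact Subtype.ext h)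
    obtain ⟨ω, hω⟩ : ∃ ω, (x : Equiv.Perm Ω) ω ≠ ω := by
      by_contra h
      push Not at h
      exact hx1 (Equiv.ext h)
    obtain ⟨S, hS⟩ : ∃ S : Subgroup (Equiv.Perm Ω), S = MulAction.stabilizer (Equiv.Perm Ω) ω := ⟨_, rfl⟩
    have hxS : (x : Equiv.Perm Ω) ∉ S := by rw [hS]; exact hω
    have hlt : Nat.card (K ⊓ S : Subgroup (Equiv.Perm Ω)) < n := by
      rw [← hn]
      refine lt_of_le_of_ne (Subgroup.card_le_of_le inf_le_left) fun e => hxS ?_
      exact ((Subgroup.eq_of_le_of_card_ge inf_le_left e.ge).ge x.2).2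
    obtain ⟨l, hl1, hl2, hl3⟩ := ih _ hlt (K ⊓ S) (inf_le_left.trans hK) rfl
    have hq : Nat.card (K ⊓ S : Subgroup (Equiv.Perm Ω)) * S.relIndex K = Nat.card K := by
      rw [← Subgroup.inf_relIndex_left, card_mul_rel inf_le_left]
    have hd : Nat.card (K ⊓ S ⊓ T : Subgroup (Equiv.Perm Ω)) * S.relIndex (K ⊓ T)
        = Nat.card (K ⊓ T : Subgroup (Equiv.Perm Ω)) := by
      rw [show K ⊓ S ⊓ T = K ⊓ T ⊓ S by ac_rfl, ← Subgroup.inf_relIndex_left,
        card_mul_rel inf_le_left]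
    obtain ⟨f, hf⟩ : ∃ f, S.relIndex K = p ^ f := hKp.index (S.subgroupOf K)
    obtain ⟨d, hd'⟩ : ∃ d, S.relIndex (K ⊓ T) = p ^ d :=
      (hA.to_le (inf_le_left.trans hK) : IsPGroup p (K ⊓ T : Subgroup (Equiv.Perm Ω))).index
        (S.subgroupOf (K ⊓ T))
    have hdf : d ≤ f := (Nat.pow_le_pow_iff_right hp.one_lt).1 (hd' ▸ hf ▸
      Subgroup.relIndex_le_of_le_right inf_le_left (hf ▸ (pow_pos hp.pos f).ne'))
    have hd1 : 1 ≤ d := Nat.one_le_iff_ne_zero.2 fun h => hxS (by
      rw [h, pow_zero, Subgroup.relIndex_eq_one] at hd'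
      exact hd' ⟨x.2, hxT⟩)
    have horb : Nat.card {w : Ω // w ∈ MulAction.orbit K ω} = S.relIndex K := by
      rw [Nat.card_congr (MulAction.orbitEquivQuotientStabilizer K ω), hS]
      rfl
    have hmoved : movedCard (K ⊓ S) + S.relIndex K ≤ movedCard K := by
      rw [← horb, movedCard, movedCard, ← Nat.card_sum]
      refine Nat.card_le_card_of_injective (Sum.elim (fun w => ⟨w.1, ?_⟩) (fun w => ⟨w.1, ?_⟩)) ?_
      · obtain ⟨g, hg, h⟩ := w.2
        exact ⟨g, hg.1, h⟩
      · obtain ⟨⟨h, hh⟩, e⟩ := MulAction.mem_orbit_iff.1 w.2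
        have e : h ω = w.1 := e
        refine ⟨x, x.2, fun hxe => hω (h.injective ?_)⟩
        rw [← Equiv.Perm.mul_apply, ← hcomm _ (hK x.2) _ (hK hh), Equiv.Perm.mul_apply, e, hxe]
      · rintro (a | a) (b | b) he
        · exact congrArg Sum.inl (Subtype.ext (Subtype.mk.inj he))
        · exfalso
          obtain ⟨g, hg, hga⟩ := a.2
          obtain ⟨⟨h, hh⟩, e⟩ := MulAction.mem_orbit_iff.1 b.2
          have e : h ω = a.1 := e.trans (Subtype.mk.inj he).symm
          have hgω : g ω = ω := by have := hg.2; rwa [hS] at this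
          apply hga
          rw [← e, ← Equiv.Perm.mul_apply, hcomm _ (hK hg.1) _ (hK hh), Equiv.Perm.mul_apply, hgω]
        · exfalso
          obtain ⟨g, hg, hga⟩ := b.2
          obtain ⟨⟨h, hh⟩, e⟩ := MulAction.mem_orbit_iff.1 a.2
          have e : h ω = b.1 := e.trans (Subtype.mk.inj he)
          have hgω : g ω = ω := by have := hg.2; rwa [hS] at this
          apply hga
          rw [← e, ← Equiv.Perm.mul_apply, hcomm _ (hK hg.1) _ (hK hh), Equiv.Perm.mul_apply, hgω]
        · exact congrArg Sum.inr (Subtype.ext (Subtype.mk.inj he))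
    refine ⟨List.replicate (d - 1) p ++ p ^ (f - d + 1) :: l, ?_, ?_, ?_⟩
    · rw [← hd, hd', ← hl1, ← pow_add, List.length_append, List.length_replicate, List.length_cons]
      congr 1
      omega
    · rw [List.prod_append, List.prod_replicate, List.prod_cons, hl2, ← mul_assoc, ← pow_add, ← hq,
        hf, mul_comm]
      congr 2
      omega
    · rw [List.sum_append, List.sum_replicate, List.sum_cons, smul_eq_mul]
      have := split_le hp.two_le (d - 1) (f - d + 1) (by omega)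
      rw [show d - 1 + (f - d + 1) = f by omega, ← hf] at this
      omega


/-- Let p be a prime, Ω a finite set with n ≥ p elements, and A an abelian p-subgroup of the symmetric group on Ω whose elements of order dividing p number p^k (so k is the rank of A). Then |A| · k^k ≤ n^k, that is, |A| ≤ (n/k)^k. -/
theorem result {Ω : Type*} [Fintype Ω] [DecidableEq Ω]
    (p : ℕ) (hp : p.Prime) (hn : p ≤ Fintype.card Ω) (A : Subgroup (Equiv.Perm Ω)) (hA : IsPGroup p A) (hab : IsMulCommutative A)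
    (k : ℕ) (hk : Nat.card {x : A // x ^ p = 1} = p ^ k) :
    Nat.card A * k ^ k ≤ Fintype.card Ω ^ k := by
  haveI := Fact.mk hp
  have hcomm : ∀ a ∈ A, ∀ b ∈ A, a * b = b * a := fun a ha b hb =>
    congrArg Subtype.val (hab.is_comm.comm (⟨a, ha⟩ : A) ⟨b, hb⟩)
  let T : Subgroup (Equiv.Perm Ω) :=
    { carrier := {x | x ∈ A ∧ x ^ p = 1}
      one_mem' := ⟨A.one_mem, one_pow _⟩
      mul_mem' := fun {a b} ha hb => ⟨A.mul_mem ha.1 hb.1, by
        rw [Commute.mul_pow (hcomm a ha.1 b hb.1), ha.2, hb.2, one_mul]⟩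
      inv_mem' := fun {a} ha => ⟨A.inv_mem ha.1, by rw [inv_pow, ha.2, inv_one]⟩ }
  obtain ⟨l, hl1, hl2, hl3⟩ := rank_list p A T hA hcomm (fun _ => Iff.rfl) _ A le_rfl rfl
  have e : {x : A // x ^ p = 1} ≃ ↥(A ⊓ T) :=
    { toFun := fun x => ⟨x.1.1, x.1.2, x.1.2, congrArg Subtype.val x.2⟩
      invFun := fun x => ⟨⟨x.1, x.2.1⟩, Subtype.ext x.2.2.2⟩
      left_inv := fun x => rfl
      right_inv := fun x => rfl }
  have hlk : l.length = k := Nat.pow_right_injective hp.two_le
    (show p ^ l.length = p ^ k by rw [hl1, ← hk, Nat.card_congr e])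
  rw [← hl2, ← hlk]
  refine prod_mul_length_pow_le l _ (hl3.trans ?_)
  rw [movedCard, ← Nat.card_eq_fintype_card]
  exact Nat.card_le_card_of_injective _ Subtype.val_injective

end Cfsg.Agent.S3696
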