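import Cfsg.Statements.S3733
import Cfsg.Agent.Lib.Coprime.Core

set_option autoImplicit false
set_option linter.style.haveILetI false
open Cfsg

namespace Cfsg.Agent.S3733

/-- Let A and V be subgroups of a finite group with V abelian and nontrivial and A normalizing V. Suppose a nonempty finite family of proper subgroups of A partitions A: every non-identity element of A lies in exactly one member. If the number of members minus one is coprime to the order of V, then some member B of the family has a non-identity fixed point on V, that is V ∩ C(B) ≠ 1. -/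
theorem result {G : Type*} [Group G] [Finite G] (A V : Subgroup G) (hVab : IsMulCommutative V) (hV : V ≠ ⊥) (hAV : A ≤ Subgroup.normalizer (V : Set G)) (𝒜 : Finset (Subgroup G)) (hne : 𝒜.Nonempty) (hprop : ∀ B ∈ 𝒜, B < A) (hpart : ∀ a ∈ A, a ≠ 1 → ∃! B, B ∈ 𝒜 ∧ a ∈ B) (hk : (𝒜.card - 1).Coprime (Nat.card V)) : ∃ B ∈ 𝒜, V ⊓ Subgroup.centralizer (B : Set G) ≠ ⊥ := by
  classical
  have := Fintype.ofFinite G
  by_contra hcon
  push Not at hcon
  open scoped IsMulCommutative in
  haveI := hVab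
  let c : G → V → V := fun g v =>
    if h : g * (v : G) * g⁻¹ ∈ V then ⟨_, h⟩ else 1
  have hc : ∀ g ∈ A, ∀ v : V, ((c g v : V) : G) = g * (v : G) * g⁻¹ := fun g hg v => by
    simp only [c, dif_pos ((Subgroup.mem_normalizer_iff.1 (hAV hg) _).1 v.2)]
  let φ : ∀ g ∈ A, V →* V := fun g hg => MonoidHom.mk' (c g) fun u v => Subtype.ext (by
    rw [hc g hg, Subgroup.coe_mul, Subgroup.coe_mul, hc g hg, hc g hg]; group)
  let S : Subgroup G → Finset G := fun B => Finset.univ.filter (· ∈ B)
  obtain ⟨v, hv⟩ : ∃ v : V, v ≠ 1 := by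
    obtain ⟨v, hv, hv1⟩ := (Subgroup.bot_or_exists_ne_one _).resolve_left hV
    exact ⟨⟨v, hv⟩, fun e => hv1 (congrArg Subtype.val e)⟩
  have hfix : ∀ B ∈ 𝒜, ∀ D : Subgroup G, B ≤ D → D ≤ A → ∏ g ∈ S D, c g v = 1 := by
    intro B hB D hBD hDA
    have hcen : ((∏ g ∈ S D, c g v : V) : G) ∈ V ⊓ Subgroup.centralizer (B : Set G) := by
      refine ⟨(∏ g ∈ S D, c g v : V).2, Subgroup.mem_centralizer_iff.2 fun b hb => ?_⟩
      have hbA := hDA (hBD hb)
      have h1 : φ b hbA (∏ g ∈ S D, c g v) = ∏ g ∈ S D, c g v := by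
        rw [map_prod]
        refine Finset.prod_nbij (fun g => b * g) (fun g hg => ?_) (fun g _ g' _ e => mul_left_cancel e)
          (fun g hg => ?_) (fun g hg => ?_)
        · simp only [S, Finset.mem_filter, Finset.mem_univ, true_and] at hg ⊢
          exact D.mul_mem (hBD hb) hg
        · simp only [S, Finset.coe_filter, Finset.mem_univ, true_and, Set.mem_image] at hg ⊢
          exact ⟨b⁻¹ * g, D.mul_mem (D.inv_mem (hBD hb)) hg, mul_inv_cancel_left b g⟩
        · simp only [S, Finset.mem_filter, Finset.mem_univ, true_and] at hg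
          refine Subtype.ext ?_
          show ((c b (c g v) : V) : G) = _
          rw [hc b hbA, hc g (hDA hg), hc _ (A.mul_mem hbA (hDA hg))]
          group
      have h2 := congrArg Subtype.val h1
      rw [show ((φ b hbA (∏ g ∈ S D, c g v) : V) : G) = b * _ * b⁻¹ from hc b hbA _] at h2
      exact mul_inv_eq_iff_eq_mul.1 h2
    rw [hcon B hB, Subgroup.mem_bot] at hcen
    exact Subtype.ext hcen
  have h1v : c 1 v = v := Subtype.ext (by rw [hc 1 A.one_mem]; group)
  have herase : ∀ D : Subgroup G, ∀ B ∈ 𝒜, B ≤ D → D ≤ A →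
      v * ∏ g ∈ (S D).erase 1, c g v = 1 := by
    intro D B hB hBD hDA
    have h := Finset.mul_prod_erase (S D) (fun g => c g v) (a := 1) (by simp [S, D.one_mem])
    rw [hfix B hB D hBD hDA, h1v] at h
    exact h
  have hunion : (S A).erase 1 = 𝒜.biUnion fun B => (S B).erase 1 := by
    ext g
    simp only [S, Finset.mem_erase, Finset.mem_filter, Finset.mem_univ, true_and, Finset.mem_biUnion]
    constructor
    · rintro ⟨hg1, hgA⟩
      obtain ⟨B, ⟨hB, hgB⟩, -⟩ := hpart g hgA hg1
      exact ⟨B, hB, hg1, hgB⟩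
    · rintro ⟨B, hB, hg1, hgB⟩
      exact ⟨hg1, (hprop B hB).le hgB⟩
  have hdisj : (𝒜 : Set (Subgroup G)).PairwiseDisjoint fun B => (S B).erase 1 := by
    intro B hB B' hB' hne'
    refine Finset.disjoint_left.2 fun g hg hg' => hne' ?_
    simp only [S, Finset.mem_erase, Finset.mem_filter, Finset.mem_univ, true_and] at hg hg'
    exact (hpart g ((hprop B hB).le hg.2) hg.1).unique ⟨hB, hg.2⟩ ⟨hB', hg'.2⟩
  obtain ⟨B₀, hB₀⟩ := hne
  have hA := herase A B₀ hB₀ (hprop B₀ hB₀).le le_rfl
  rw [hunion, Finset.prod_biUnion hdisj] at hA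
  have hk1 : v ^ 𝒜.card * ∏ B ∈ 𝒜, ∏ g ∈ (S B).erase 1, c g v = 1 := by
    rw [← Finset.prod_const, ← Finset.prod_mul_distrib]
    exact Finset.prod_eq_one fun B hB => herase B B hB le_rfl (hprop B hB).le
  have hpos : 0 < 𝒜.card := Finset.card_pos.2 ⟨B₀, hB₀⟩
  rw [← Nat.sub_add_cancel hpos, pow_succ, mul_assoc, hA, mul_one] at hk1
  refine hv (orderOf_eq_one_iff.1 (Nat.eq_one_of_dvd_coprimes hk (orderOf_dvd_of_pow_eq_one hk1) ?_))
  exact orderOf_dvd_natCard v

end Cfsg.Agent.S3733
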