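import Cfsg.Statements.S3741
import Cfsg.Agent.Lib.Coprime.UniqueOrderP
import Cfsg.Agent.Lib.Coprime.Core

set_option autoImplicit false
set_option linter.style.haveILetI false
open Cfsg

namespace Cfsg.Agent.S3741

/-- A finite `p`-group has at most as many maps to a group of order at most `p` as elements. -/
theorem card_hom_le {Y Z : Type*} [Group Y] [Finite Y] [Group Z] [Finite Z] {p : ℕ}
    [Fact p.Prime] (hY : IsPGroup p Y) (hZ : Nat.card Z ≤ p) :
    Nat.card (Y →* Z) ≤ Nat.card Y := by
  induction hn : Nat.card Y using Nat.strongRecOn generalizing Y with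
  | ind n ih =>
    subst hn
    rcases subsingleton_or_nontrivial Y with h | h
    · haveI : Subsingleton (Y →* Z) :=
        ⟨fun f g => MonoidHom.ext fun y => by rw [Subsingleton.elim y 1, map_one, map_one]⟩
      exact (Finite.card_le_one_iff_subsingleton.2 inferInstance).trans Nat.card_pos
    obtain ⟨M, hM, hMi⟩ := CfsgLib.Coprime.exists_normal_coatom hY
    obtain ⟨y, hy⟩ : ∃ y, y ∉ M := by
      by_contra h
      push Not at h
      rw [show M = ⊤ from eq_top_iff.2 fun y _ => h y, Subgroup.index_top] at hMi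
      exact (Fact.out : p.Prime).ne_one hMi.symm
    have hgen : M ⊔ Subgroup.zpowers y = ⊤ := by
      have h1 := Subgroup.relIndex_mul_index (le_sup_left : M ≤ M ⊔ Subgroup.zpowers y)
      rw [hMi] at h1
      rcases (Fact.out : p.Prime).eq_one_or_self_of_dvd _ (Dvd.intro _ h1) with h2 | h2
      · exact absurd (Subgroup.relIndex_eq_one.1 h2 (Subgroup.mem_sup_right (Subgroup.mem_zpowers y))) hy
      · rw [h2] at h1
        exact Subgroup.index_eq_one.1 ((Nat.mul_eq_left (Fact.out : p.Prime).ne_zero).1 h1)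
    have hinj : Function.Injective fun f : Y →* Z => (f.comp M.subtype, f y) := by
      intro f g hfg
      have hfst : f.comp M.subtype = g.comp M.subtype := congrArg Prod.fst hfg
      have hf : ⊤ ≤ f.eqLocus g := by
        rw [← hgen, sup_le_iff, Subgroup.zpowers_le]
        exact ⟨fun m hm => (DFunLike.congr_fun hfst ⟨m, hm⟩ :), congrArg Prod.snd hfg⟩
      exact MonoidHom.ext fun z => hf (Subgroup.mem_top z)
    haveI : Finite (M →* Z) :=
      Finite.of_injective (fun f => (f : M → Z)) DFunLike.coe_injective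
    have hcard : Nat.card M * p = Nat.card Y := by rw [← hMi, Subgroup.card_mul_index]
    have hMlt : Nat.card M < Nat.card Y := by
      rw [← hcard]; exact lt_mul_of_one_lt_right Nat.card_pos (Fact.out : p.Prime).one_lt
    calc Nat.card (Y →* Z) ≤ Nat.card ((M →* Z) × Z) := Nat.card_le_card_of_injective _ hinj
      _ = Nat.card (M →* Z) * Nat.card Z := Nat.card_prod _ _
      _ ≤ Nat.card M * p := Nat.mul_le_mul (ih _ hMlt (hY.to_subgroup M) rfl) hZ
      _ = Nat.card Y := hcard

/-- The two kernels of a pairing into a group of order at most `p`. -/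
theorem index_ker_le {A B Z : Type*} [Group A] [Finite A] [Group B] [Finite B] [CommGroup Z]
    [Finite Z] {p : ℕ} [Fact p.Prime] (hB : IsPGroup p B) (hZ : Nat.card Z ≤ p)
    (f : A →* B →* Z) : f.ker.index ≤ f.flip.ker.index := by
  rw [Subgroup.index_eq_card f.flip.ker, Subgroup.index_ker]
  haveI : Finite (B ⧸ f.flip.ker →* Z) :=
    Finite.of_injective (fun g => (g : B ⧸ f.flip.ker → Z)) DFunLike.coe_injective
  refine le_trans ?_ (card_hom_le (Z := Z) (hB.to_quotient f.flip.ker) hZ)
  refine Nat.card_le_card_of_injective (fun g : f.range => QuotientGroup.lift f.flip.ker g.1 ?_) ?_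
  · obtain ⟨a, ha⟩ := g.2
    intro b hb
    rw [MonoidHom.mem_ker, ← ha]
    exact DFunLike.congr_fun (MonoidHom.mem_ker.1 hb) a
  · intro g g' h
    exact Subtype.ext (MonoidHom.ext fun b =>
      DFunLike.congr_fun h (b : B ⧸ f.flip.ker))

/-- Let A and B be subgroups of a finite p-group with [A, B] ≤ A ∩ B and [A, B] of order at most p. Then |A : C_A(B)| = |B : C_B(A)|. -/
theorem result {G : Type*} [Group G] [Finite G] {p : ℕ} [Fact p.Prime] (hG : IsPGroup p G) (A B : Subgroup G) (hAB : ⁅A, B⁆ ≤ A ⊓ B) (hcard : Nat.card ↥⁅A, B⁆ ≤ p) : (A ⊓ Subgroup.centralizer (B : Set G)).relIndex A = (B ⊓ Subgroup.centralizer (A : Set G)).relIndex B := by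
  open scoped commutatorElement IsMulCommutative in
  have hN : A ⊔ B ≤ Subgroup.centralizer ((⁅A, B⁆ : Subgroup G) : Set G) := by
    set K := A ⊔ B
    set Z := ⁅A, B⁆
    have hZK : Z ≤ K := hAB.trans (inf_le_left.trans le_sup_left)
    haveI hn : (Z.subgroupOf K).Normal :=
      (Subgroup.normal_subgroupOf_iff_le_normalizer hZK).2
      (sup_le (Subgroup.normalizer_commutator_ge_left ..) (Subgroup.normalizer_commutator_ge_right ..))
    haveI := (hG.to_subgroup K).isNilpotent
    intro k hk
    refine Subgroup.mem_centralizer_iff.2 fun z hz => ?_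
    have hle : Z.subgroupOf K ≤ Subgroup.center K := by
      by_contra hnot
      have hcard' : Nat.card (Z.subgroupOf K) ≤ p := by
        rw [Nat.card_congr (Subgroup.subgroupOfEquivOfLe hZK).toEquiv]; exact hcard
      have hne : Z.subgroupOf K ⊓ Subgroup.center K ≠ ⊥ :=
        CfsgLib.Coprime.nilpotent_inf_center_ne_bot _ fun e => hnot (e ▸ bot_le)
      obtain ⟨i, hi⟩ := IsPGroup.iff_card.1 ((hG.to_subgroup K).to_subgroup (Z.subgroupOf K ⊓ Subgroup.center K))
      have hi0 : i ≠ 0 := fun h => hne (Subgroup.card_eq_one.1 (by rw [hi, h, pow_zero]))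
      exact hnot (le_of_eq_of_le (Subgroup.eq_of_le_of_card_ge inf_le_left
        (hcard'.trans (by rw [hi]; exact Nat.le_self_pow hi0 p))).symm inf_le_right)
    exact congrArg Subtype.val (Subgroup.mem_center_iff.1
      (hle (show (⟨z, hZK hz⟩ : K) ∈ Z.subgroupOf K from hz)) ⟨k, hk⟩).symm
  open scoped commutatorElement IsMulCommutative in
  haveI hZc : IsMulCommutative ↥⁅A, B⁆ := isMulCommutative_iff.2 fun a b => Subtype.ext
    (Subgroup.mem_centralizer_iff.1 (hN (inf_le_left.trans le_sup_left |> hAB.trans <| b.2)) a a.2)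
  open scoped commutatorElement IsMulCommutative in
  have hcomm : ∀ z ∈ ⁅A, B⁆, ∀ k ∈ A ⊔ B, z * k = k * z := fun z hz k hk =>
    Subgroup.mem_centralizer_iff.1 (hN hk) z hz
  open scoped commutatorElement IsMulCommutative in
  let f : A →* B →* ↥⁅A, B⁆ := MonoidHom.mk'
    (fun a => MonoidHom.mk'
      (fun b => (⟨⁅(a : G), (b : G)⁆, Subgroup.commutator_mem_commutator a.2 b.2⟩ : ↥⁅A, B⁆))
      fun b b' => Subtype.ext (by
        show ⁅(a : G), (b : G) * b'⁆ = ⁅(a : G), (b : G)⁆ * ⁅(a : G), (b' : G)⁆
        have h1 := hcomm _ (Subgroup.commutator_mem_commutator a.2 b'.2) b (Subgroup.mem_sup_right b.2)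
        calc ⁅(a : G), (b : G) * b'⁆ = ⁅(a : G), (b : G)⁆ * ((b : G) * ⁅(a : G), (b' : G)⁆) * (b : G)⁻¹ := by
              simp only [commutatorElement_def]; group
          _ = _ := by rw [← h1]; group))
    fun a a' => MonoidHom.ext fun b => Subtype.ext (by
      show ⁅(a : G) * a', (b : G)⁆ = ⁅(a : G), (b : G)⁆ * ⁅(a' : G), (b : G)⁆
      have h1 := hcomm _ (Subgroup.commutator_mem_commutator a'.2 b.2) a (Subgroup.mem_sup_left a.2)
      have h2 := hcomm _ (Subgroup.commutator_mem_commutator a.2 b.2) (⁅(a' : G), (b : G)⁆)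
        (Subgroup.mem_sup_left (hAB (Subgroup.commutator_mem_commutator a'.2 b.2)).1)
      calc ⁅(a : G) * a', (b : G)⁆ = (a : G) * ⁅(a' : G), (b : G)⁆ * (a : G)⁻¹ * ⁅(a : G), (b : G)⁆ := by
            simp only [commutatorElement_def]; group
        _ = ⁅(a' : G), (b : G)⁆ * ⁅(a : G), (b : G)⁆ := by rw [← h1]; group
        _ = _ := h2.symm)
  open scoped commutatorElement IsMulCommutative in
  have e1 : f.ker = (A ⊓ Subgroup.centralizer (B : Set G)).subgroupOf A := by
    ext a
    rw [MonoidHom.mem_ker, Subgroup.mem_subgroupOf, Subgroup.mem_inf, and_iff_right a.2,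
      Subgroup.mem_centralizer_iff]
    constructor
    · intro h b hb
      exact (commutatorElement_eq_one_iff_mul_comm.1
        (congrArg Subtype.val (DFunLike.congr_fun h (⟨b, hb⟩ : B)))).symm
    · intro h
      exact MonoidHom.ext fun b => Subtype.ext (commutatorElement_eq_one_iff_mul_comm.2 (h b b.2).symm)
  open scoped commutatorElement IsMulCommutative in
  have e2 : f.flip.ker = (B ⊓ Subgroup.centralizer (A : Set G)).subgroupOf B := by
    ext b
    rw [MonoidHom.mem_ker, Subgroup.mem_subgroupOf, Subgroup.mem_inf, and_iff_right b.2,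
      Subgroup.mem_centralizer_iff]
    constructor
    · intro h a ha
      exact commutatorElement_eq_one_iff_mul_comm.1
        (congrArg Subtype.val (DFunLike.congr_fun h (⟨a, ha⟩ : A)))
    · intro h
      exact MonoidHom.ext fun a => Subtype.ext (commutatorElement_eq_one_iff_mul_comm.2 (h a a.2))
  open scoped IsMulCommutative in
  refine le_antisymm ?_ ?_
  · have := index_ker_le (hG.to_subgroup B) hcard f
    rwa [e1, e2] at this
  · have := index_ker_le (hG.to_subgroup A) hcard f.flip
    rw [show f.flip.flip = f from rfl, e1, e2] at this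
    exact this

end Cfsg.Agent.S3741
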