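import Cfsg.Statements.S3742
-- import your own Cfsg.Agent.* helpers here
import Cfsg.Agent.Lib.Invol.GLTwoThree
import Mathlib.Data.Fintype.Perm

set_option autoImplicit false
open Cfsg

namespace Cfsg.Agent.S3742

/-- The admissible images of the two generators. -/
abbrev Good (p : QuaternionGroup 2 × QuaternionGroup 2) : Prop :=
  p.1 * p.1 ≠ 1 ∧ p.2 ≠ 1 ∧ p.2 ≠ p.1 ∧ p.2 ≠ p.1 * p.1 ∧ p.2 ≠ p.1 * p.1 * p.1

/-- The map with prescribed values at the generators. -/
def ext (p : QuaternionGroup 2 × QuaternionGroup 2) : QuaternionGroup 2 → QuaternionGroup 2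
  | .a i => p.1 ^ i.val
  | .xa i => p.2 * p.1 ^ i.val

theorem ext_mul : ∀ p, Good p → ∀ z w, ext p (z * w) = ext p z * ext p w := by decide +kernel

theorem ext_inj : ∀ p, Good p → ∀ z, ext p z = 1 → z = 1 := by decide +kernel

theorem word : ∀ z : QuaternionGroup 2, z = ext (.a 1, .xa 0) z := by decide +kernel

/-- The pairs of opposite faces of the octahedron on the elements of order four. -/
def diag (n : Fin 4) : Finset (Finset (QuaternionGroup 2)) :=
  let f : Finset (QuaternionGroup 2) := ![{.a 1, .xa 0, .xa 1}, {.a 1, .xa 2, .xa 3},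
    {.a 3, .xa 0, .xa 3}, {.a 3, .xa 2, .xa 1}] n
  {f, f.image (QuaternionGroup.a 2 * ·)}

/-- The index of a diagonal. -/
def idx (d : Finset (Finset (QuaternionGroup 2))) : Fin 4 :=
  if d = diag 0 then 0 else if d = diag 1 then 1 else if d = diag 2 then 2 else 3

theorem idx_spec : ∀ p, Good p → ∀ n, diag (idx ((diag n).image fun f => f.image (ext p))) =
    (diag n).image fun f => f.image (ext p) := by decide +kernel

theorem idx_diag : ∀ n, idx (diag n) = n := by decide +kernel

theorem idx_kernel : ∀ p, Good p → (∀ n, idx ((diag n).image fun f => f.image (ext p)) = n) →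
    p = (.a 1, .xa 0) := by decide +kernel

theorem good_of_aut (σ : MulAut (QuaternionGroup 2)) : Good (σ (.a 1), σ (.xa 0)) := by
  have h : Good (QuaternionGroup.a 1, QuaternionGroup.xa 0) := by decide +kernel
  simp only [Good, ← map_mul, ne_eq, EmbeddingLike.apply_eq_iff_eq, MulEquiv.map_eq_one_iff] at h ⊢
  exact h

theorem aut_eq (σ : MulAut (QuaternionGroup 2)) (z : QuaternionGroup 2) :
    σ z = ext (σ (.a 1), σ (.xa 0)) z := by
  cases z with
  | a i => conv_lhs => rw [word (.a i)]
           simp only [ext, map_pow]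
  | xa i => conv_lhs => rw [word (.xa i)]
            simp only [ext, map_mul, map_pow]

/-- The action on the diagonals. -/
def act (σ : MulAut (QuaternionGroup 2)) (n : Fin 4) : Fin 4 :=
  idx ((diag n).image fun f => f.image σ)

theorem act_spec (σ : MulAut (QuaternionGroup 2)) (n : Fin 4) :
    diag (act σ n) = (diag n).image fun f => f.image σ := by
  have e : (⇑σ : QuaternionGroup 2 → QuaternionGroup 2) = ext (σ (.a 1), σ (.xa 0)) :=
    funext (aut_eq σ)
  unfold act
  rw [e]
  exact idx_spec _ (good_of_aut σ) n

theorem act_mul (σ τ : MulAut (QuaternionGroup 2)) (n : Fin 4) : act (σ * τ) n = act σ (act τ n) := by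
  show idx _ = idx _
  rw [act_spec τ n, Finset.image_image]
  congr 1
  refine Finset.image_congr fun f _ => ?_
  show f.image (σ * τ) = (f.image τ).image σ
  rw [Finset.image_image]
  rfl

theorem act_one (n : Fin 4) : act 1 n = n := by
  show idx _ = n
  have : ((diag n).image fun f => f.image ((1 : MulAut (QuaternionGroup 2)) : _ → _)) = diag n := by
    simp
  rw [this, idx_diag]

/-- The permutation of the diagonals. -/
def perm : MulAut (QuaternionGroup 2) →* Equiv.Perm (Fin 4) where
  toFun σ :=
    { toFun := act σ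
      invFun := act σ⁻¹
      left_inv := fun n => by rw [← act_mul, inv_mul_cancel, act_one]
      right_inv := fun n => by rw [← act_mul, mul_inv_cancel, act_one] }
  map_one' := Equiv.ext act_one
  map_mul' σ τ := Equiv.ext (act_mul σ τ)

theorem perm_bijective : Function.Bijective perm := by
  classical
  have hinj : Function.Injective perm := by
    refine (injective_iff_map_eq_one _).2 fun σ hσ => ?_
    have h1 : ∀ n, act σ n = n := fun n => congrArg (fun g : Equiv.Perm (Fin 4) => g n) hσ
    have e : (⇑σ : QuaternionGroup 2 → QuaternionGroup 2) = ext (σ (.a 1), σ (.xa 0)) :=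
      funext (aut_eq σ)
    unfold act at h1
    rw [e] at h1
    have h2 := idx_kernel _ (good_of_aut σ) h1
    refine MulEquiv.ext fun z => ?_
    rw [aut_eq σ z, h2, ← word]
    rfl
  haveI : Finite (MulAut (QuaternionGroup 2)) := Finite.of_injective _ hinj
  refine ⟨hinj, ((Nat.bijective_iff_injective_and_card _).2 ⟨hinj, ?_⟩).2⟩
  rw [Nat.card_perm, Nat.card_fin]
  refine le_antisymm CfsgLib.GLTwoThree.card_mulAut_le ?_
  have h24 : Fintype.card {p // Good p} = 24 := by decide +kernel
  rw [show Nat.factorial 4 = 24 from rfl, ← h24, ← Nat.card_eq_fintype_card]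
  refine Nat.card_le_card_of_injective (fun p => MulEquiv.ofBijective
    (MonoidHom.mk' (ext p.1) (ext_mul p.1 p.2))
    (Finite.injective_iff_bijective.1 ((injective_iff_map_eq_one _).2 (ext_inj p.1 p.2)))) fun p q h => ?_
  have ha := congrArg (fun σ : MulAut (QuaternionGroup 2) => (σ (.a 1), σ (.xa 0))) h
  have hpq : ∀ p : QuaternionGroup 2 × QuaternionGroup 2, (ext p (.a 1), ext p (.xa 0)) = p := by
    decide +kernel
  exact Subtype.ext ((hpq p.1).symm.trans (ha.trans (hpq q.1)))

/-- The automorphism group of the quaternion group of order 8 is isomorphic to the symmetric group of degree 4. -/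
theorem result : Nonempty (MulAut (QuaternionGroup 2) ≃* Equiv.Perm (Fin 4)) := by
  exact ⟨MulEquiv.ofBijective perm perm_bijective⟩

end Cfsg.Agent.S3742
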