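import Cfsg.Statements.S3746
-- import your own Cfsg.Agent.* helpers here
import Cfsg.Agent.Lib.Coprime.Component

set_option autoImplicit false
open Cfsg

namespace Cfsg.Agent.S3746

open scoped commutatorElement

/-- Commutators ignore a central factor. -/
theorem commutator_sup_central {G : Type*} [Group G] {A Z : Subgroup G}
    (hZ : Z ≤ Subgroup.center G) : ⁅A ⊔ Z, A ⊔ Z⁆ ≤ ⁅A, A⁆ := by
  haveI : Z.Normal := ⟨fun z hz g => by
    rw [Subgroup.mem_center_iff.1 (hZ hz) g, mul_inv_cancel_right]; exact hz⟩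
  rw [Subgroup.commutator_le]
  intro x hx y hy
  obtain ⟨a, ha, z, hz, rfl⟩ := Subgroup.mem_sup_of_normal_right.1 hx
  obtain ⟨b, hb, w, hw, rfl⟩ := Subgroup.mem_sup_of_normal_right.1 hy
  have cz : ∀ g, Commute z g := fun g => (Subgroup.mem_center_iff.1 (hZ hz) g).symm
  have cw : ∀ g, Commute w g := fun g => (Subgroup.mem_center_iff.1 (hZ hw) g).symm
  have key : ⁅a * z, b * w⁆ = ⁅a, b⁆ := by
    simp only [commutatorElement_def, mul_inv_rev]
    calc a * z * (b * w) * (z⁻¹ * a⁻¹) * (w⁻¹ * b⁻¹)
        = a * ((z * (b * w)) * z⁻¹) * a⁻¹ * w⁻¹ * b⁻¹ := by group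
      _ = a * (b * w) * a⁻¹ * w⁻¹ * b⁻¹ := by rw [(cz _).eq, mul_inv_cancel_right]
      _ = a * b * (w * a⁻¹) * w⁻¹ * b⁻¹ := by group
      _ = a * b * (a⁻¹ * w) * w⁻¹ * b⁻¹ := by rw [(cw _).eq]
      _ = a * b * a⁻¹ * b⁻¹ := by group
  rw [key]; exact Subgroup.commutator_mem_commutator ha hb

/-- Let Z ≤ Z(G) be a central subgroup of a finite group G and E a subgroup of G containing Z whose image E/Z is a component of G/Z (subnormal and quasisimple). Then the derived subgroup [E, E] is a component of G. -/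
theorem result {G : Type*} [Group G] [Finite G] (Z : Subgroup G) (hZ : Z ≤ Subgroup.center G) [Z.Normal] (E : Subgroup G) (hZE : Z ≤ E) (hE : Cfsg.IsComponent (E.map (QuotientGroup.mk' Z))) : Cfsg.IsComponent ⁅E, E⁆ := by
  set q := QuotientGroup.mk' Z with hq
  set K := E.map q with hK
  set D := ⁅E, E⁆ with hD
  have hsq : Function.Surjective q := QuotientGroup.mk'_surjective Z
  have hker : q.ker = Z := QuotientGroup.ker_mk' Z
  have hKK := CfsgLib.Coprime.commutator_self_of_isComponent hE
  have hDq : D.map q = K := by rw [hD, Subgroup.map_commutator]; exact hKK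
  have hsupD : E ≤ D ⊔ Z := by
    intro x hx
    have : q x ∈ D.map q := hDq ▸ Subgroup.mem_map_of_mem q hx
    have h' : x ∈ (D.map q).comap q := this
    rwa [Subgroup.comap_map_eq, hker] at h'
  have hDD : ⁅D, D⁆ = D :=
    le_antisymm (Subgroup.commutator_le_self _)
      ((Subgroup.commutator_mono hsupD hsupD).trans (commutator_sup_central hZ))
  have hEsn : E.IsSubnormal := by
    have h := hE.1.comap q
    rwa [Subgroup.comap_map_eq, hker, sup_eq_left.2 hZE] at h
  have hDsn : D.IsSubnormal := by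
    have h : (commutator ↥E).IsSubnormal := Subgroup.Normal.isSubnormal inferInstance
    have h' := h.trans' hEsn
    rwa [commutator_def, Subgroup.map_commutator, ← MonoidHom.range_eq_map, Subgroup.range_subtype] at h'
  haveI : Group.IsPerfect D := Subgroup.isPerfect_iff.2 hDD
  haveI : Nontrivial D := (Subgroup.nontrivial_iff_ne_bot D).2 fun e => by
    have := CfsgLib.Coprime.nontrivial_of_isQuasisimple hE.2
    exact (Subgroup.nontrivial_iff_ne_bot K).1 this (by rw [← hDq, e, Subgroup.map_bot])
  refine ⟨hDsn, CfsgLib.Coprime.isQuasisimple_of_normal_le_center fun N hN => ?_⟩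
  set N' := N.map D.subtype with hN'
  have hN'D : N' ≤ D := Subgroup.map_subtype_le N
  have hN'sn : N'.IsSubnormal := (hN.isSubnormal).trans' hDsn
  rcases CfsgLib.Coprime.eq_or_le_center_of_le_component hE (hN'sn.map hsq)
    ((Subgroup.map_mono hN'D).trans hDq.le) with e | e
  · left
    have hsup : D ≤ N' ⊔ Z := by
      intro x hx
      have : q x ∈ N'.map q := e ▸ (hDq.le (Subgroup.mem_map_of_mem q hx))
      have h' : x ∈ (N'.map q).comap q := this
      rwa [Subgroup.comap_map_eq, hker] at h'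
    have : D ≤ N' := by
      calc D = ⁅D, D⁆ := hDD.symm
        _ ≤ ⁅N' ⊔ Z, N' ⊔ Z⁆ := Subgroup.commutator_mono hsup hsup
        _ ≤ ⁅N', N'⁆ := commutator_sup_central hZ
        _ ≤ N' := Subgroup.commutator_le_self _
    refine Subgroup.map_injective D.subtype_injective ?_
    rw [← MonoidHom.range_eq_map, Subgroup.range_subtype]
    exact le_antisymm hN'D this
  · right
    have hc := CfsgLib.Coprime.subgroupOf_le_center ((Subgroup.map_mono hN'D).trans hDq.le) e
    have h1 : ⁅N', D⁆.map q = ⊥ := by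
      rw [Subgroup.map_commutator, hDq, Subgroup.commutator_eq_bot_iff_le_centralizer]
      exact hc
    have h2 : ⁅N', D⁆ ≤ Z := by
      rw [← hker]; exact (Subgroup.map_eq_bot_iff _).1 h1
    have h3 : ⁅⁅N', D⁆, D⁆ = ⊥ := by
      rw [Subgroup.commutator_eq_bot_iff_le_centralizer]
      exact (h2.trans hZ).trans (Subgroup.center_le_centralizer _)
    have h4 := CfsgLib.Coprime.commutator_eq_bot_iff_forall.1
      (CfsgLib.Coprime.commutator_eq_bot_of_perfect hDD h3)
    intro x hx
    exact Subgroup.mem_center_iff.2 fun y => Subtype.ext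
      (h4 x (Subgroup.mem_map_of_mem D.subtype hx) y y.2).symm

end Cfsg.Agent.S3746
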