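import Cfsg.Statements.S3747
-- import your own Cfsg.Agent.* helpers here
import Cfsg.Agent.Lib.Coprime.Component

set_option autoImplicit false
open Cfsg

namespace Cfsg.Agent.S3747

open CfsgLib.Coprime

/-- A set of centre-free components generates a centre-free subgroup. -/
theorem sup_inf_centralizer {G : Type*} [Group G] [Finite G] (T : Finset (Subgroup G))
    (hT : ∀ K ∈ T, Cfsg.IsComponent K ∧ Subgroup.center ↥K = ⊥) :
    T.sup id ⊓ Subgroup.centralizer ((T.sup id : Subgroup G) : Set G) = ⊥ := by
  classical
  induction T using Finset.induction_on with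
  | empty => simp
  | @insert K T hKT ih =>
    obtain ⟨hK, hKc⟩ := hT K (Finset.mem_insert_self K T)
    set S : Subgroup G := T.sup id with hS
    have hSK : ⁅S, K⁆ = ⊥ := by
      rw [Subgroup.commutator_eq_bot_iff_le_centralizer]
      exact Finset.sup_le fun L hL => Subgroup.commutator_eq_bot_iff_le_centralizer.1
        (components_commute (hT L (Finset.mem_insert_of_mem hL)).1 hK fun e => hKT (e ▸ hL))
    have hcomm := commutator_eq_bot_iff_forall.1 hSK
    rw [Finset.sup_insert, id_eq, eq_bot_iff]
    rintro x ⟨hx, hxc⟩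
    have hnorm : K ≤ Subgroup.normalizer (S : Set G) :=
      (Subgroup.commutator_eq_bot_iff_le_centralizer.1
        (by rw [Subgroup.commutator_comm]; exact hSK)).trans (Subgroup.centralizer_le_normalizer _)
    have hx' : x ∈ ((K ⊔ S : Subgroup G) : Set G) := hx
    rw [Subgroup.coe_mul_of_left_le_normalizer_right K S hnorm] at hx'
    obtain ⟨k, hk, s, hs, rfl⟩ := hx'
    have hk1 : k = 1 := by
      have hmem : (⟨k, hk⟩ : K) ∈ Subgroup.center ↥K := Subgroup.mem_center_iff.2 fun y => Subtype.ext (by
        show (y : G) * k = k * y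
        have e1 : (y : G) * (k * s) = k * s * y :=
          Subgroup.mem_centralizer_iff.1 hxc y (Subgroup.mem_sup_left y.2)
        have e2 : s * y = y * s := hcomm s hs y y.2
        refine mul_right_cancel (b := s) ?_
        rw [mul_assoc, e1, mul_assoc, mul_assoc, e2])
      rw [hKc, Subgroup.mem_bot] at hmem
      exact congrArg Subtype.val hmem
    subst hk1
    simp only [one_mul] at hxc ⊢
    rw [← ih fun L hL => hT L (Finset.mem_insert_of_mem hL)]
    exact ⟨hs, Subgroup.centralizer_le (SetLike.coe_subset_coe.2 le_sup_right) hxc⟩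

/-- Inside the normal closure of a centre-free component there is no smaller normal subgroup. -/
theorem minimal_closure {G : Type*} [Group G] [Finite G] {K : Subgroup G} (hK : Cfsg.IsComponent K)
    (hKc : Subgroup.center ↥K = ⊥) {N : Subgroup G} (hN : N.Normal)
    (hle : N ≤ Subgroup.normalClosure (K : Set G)) :
    N = ⊥ ∨ N = Subgroup.normalClosure (K : Set G) := by
  classical
  haveI := hN
  haveI : Fintype G := Fintype.ofFinite G
  rcases component_le_or_commutator_eq_bot hK hN.isSubnormal with h | h
  · exact Or.inr (le_antisymm hle (Subgroup.normalClosure_le_normal h))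
  · left
    let c : G → Subgroup G := fun g => K.map (MulAut.conj g).toMonoidHom
    let T : Finset (Subgroup G) := Finset.univ.image c
    have hT : ∀ L ∈ T, Cfsg.IsComponent L ∧ Subgroup.center ↥L = ⊥ := by
      intro L hL
      obtain ⟨g, -, rfl⟩ := Finset.mem_image.1 hL
      refine ⟨isComponent_map_equiv (MulAut.conj g) hK, ?_⟩
      rw [← map_center_equiv (K.equivMapOfInjective _ (MulAut.conj g).injective), hKc, Subgroup.map_bot]
    have hmem : ∀ g, c g ≤ T.sup id := fun g =>
      Finset.le_sup (f := id) (Finset.mem_image.2 ⟨g, Finset.mem_univ g, rfl⟩)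
    have hcl : Subgroup.normalClosure (K : Set G) ≤ T.sup id := by
      rw [Subgroup.normalClosure, Subgroup.closure_le]
      intro x hx
      obtain ⟨k, hk, hc⟩ := Group.mem_conjugatesOfSet_iff.1 hx
      obtain ⟨g, hg⟩ := isConj_iff.1 hc
      exact hmem g ⟨k, hk, by simpa using hg⟩
    rw [← le_bot_iff, ← sup_inf_centralizer T hT]
    refine le_inf (hle.trans hcl) ?_
    rw [Subgroup.le_centralizer_iff]
    refine Finset.sup_le fun L hL => ?_
    obtain ⟨g, -, rfl⟩ := Finset.mem_image.1 hL
    show c g ≤ _
    rw [← Subgroup.commutator_eq_bot_iff_le_centralizer]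
    have := congrArg (Subgroup.map (MulAut.conj g).toMonoidHom) h
    rwa [Subgroup.map_commutator, Subgroup.map_bot, show N.map (MulAut.conj g).toMonoidHom = N from by
      ext x
      rw [Subgroup.mem_map_equiv, MulAut.conj_symm_apply, hN.mem_comm_iff, mul_inv_cancel_left]] at this

/-- Let G be a finite group. (a) If K is a component of G with trivial centre, then the normal closure of K in G is a minimal normal subgroup of G. (b) If the Fitting subgroup of G is trivial, then the layer E(G) is generated by the minimal normal subgroups of G. -/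
theorem result {G : Type*} [Group G] [Finite G] : (∀ K : Subgroup G, Cfsg.IsComponent K → Subgroup.center ↥K = ⊥ → (Subgroup.normalClosure (K : Set G) ≠ ⊥ ∧ ∀ N : Subgroup G, N.Normal → N ≤ Subgroup.normalClosure (K : Set G) → N = ⊥ ∨ N = Subgroup.normalClosure (K : Set G))) ∧ (Cfsg.fittingSubgroup G = ⊥ → sSup {N : Subgroup G | N ≠ ⊥ ∧ N.Normal ∧ ∀ N' : Subgroup G, N'.Normal → N' ≤ N → N' = ⊥ ∨ N' = N} = Cfsg.layer G) := by
  refine ⟨fun K hK hKc => ⟨?_, fun N hN hle => minimal_closure hK hKc hN hle⟩, fun hF => ?_⟩
  · intro e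
    haveI := nontrivial_of_isQuasisimple hK.2
    exact (Subgroup.nontrivial_iff_ne_bot K).1 inferInstance
      (le_bot_iff.1 (e ▸ Subgroup.le_normalClosure))
  have cfree : ∀ K : Subgroup G, Cfsg.IsComponent K → Subgroup.center ↥K = ⊥ := fun K hK => by
    have hs : ((Subgroup.center ↥K).map K.subtype).IsSubnormal :=
      (Subgroup.Normal.isSubnormal inferInstance).trans' hK.1
    haveI : Group.IsNilpotent ↥(Subgroup.center ↥K) := by
      open scoped IsMulCommutative in infer_instance
    haveI : Group.IsNilpotent ↥((Subgroup.center ↥K).map K.subtype) :=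
      Group.nilpotent_of_mulEquiv ((Subgroup.center ↥K).equivMapOfInjective _ K.subtype_injective)
    have := le_fitting_of_isSubnormal hs inferInstance
    rw [hF, le_bot_iff, Subgroup.map_eq_bot_iff_of_injective _ K.subtype_injective] at this
    exact this
  refine le_antisymm (sSup_le ?_) (sSup_le fun K hK => ?_)
  · rintro N ⟨hN1, hN, hmin⟩
    obtain ⟨K, ⟨hK, hKN, hK1⟩, hKmin⟩ := exists_minimal_of_wellFoundedLT
      (fun K : Subgroup G => K.IsSubnormal ∧ K ≤ N ∧ ¬ K ≤ ⊥)
      ⟨N, hN.isSubnormal, le_rfl, fun h => hN1 (le_bot_iff.1 h)⟩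
    rcases isComponent_or_isNilpotent_of_minimal (Z := ⊥) hK hK1 (by simp)
      (fun L hL hLK hL1 => le_antisymm hLK (hKmin ⟨hL, hLK.trans hKN, hL1⟩ hLK)) with h | h
    · haveI := hN
      have e : Subgroup.normalClosure (K : Set G) = N :=
        (hmin _ inferInstance (Subgroup.normalClosure_le_normal hKN)).resolve_left fun e =>
          hK1 (e ▸ Subgroup.le_normalClosure)
      rw [← e]
      haveI := layer_normal (G := G)
      exact Subgroup.normalClosure_le_normal (component_le_layer h)
    · exact absurd (hF ▸ le_fitting_of_isSubnormal hK h) hK1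
  · refine le_trans Subgroup.le_normalClosure (le_sSup ⟨?_, inferInstance, fun N hN hle =>
      minimal_closure hK (cfree K hK) hN hle⟩)
    intro e
    haveI := nontrivial_of_isQuasisimple hK.2
    exact (Subgroup.nontrivial_iff_ne_bot K).1 inferInstance
      (le_bot_iff.1 (e ▸ Subgroup.le_normalClosure))

end Cfsg.Agent.S3747
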