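import Cfsg.Statements.S3748
import Cfsg.Agent.Lib.Coprime.Component
import Cfsg.Agent.Lib.Coprime.Fitting
-- import your own Cfsg.Agent.* helpers here

set_option autoImplicit false
open Cfsg

namespace Cfsg.Agent.S3748

/-- Call a proper subgroup M of G primitive when M = N_G(N) for every non-trivial normal subgroup N of M. If M is a primitive subgroup of the finite group G, then no non-trivial subnormal subgroup of G is contained in M; in particular M ∩ F(G) = 1. -/
theorem result {G : Type*} [Group G] [Finite G] (M : Subgroup G) (hM : M ≠ ⊤) (hprim : ∀ N : Subgroup G, N ≤ M → M ≤ Subgroup.normalizer (N : Set G) → N ≠ ⊥ → Subgroup.normalizer (N : Set G) = M) : (∀ L : Subgroup G, L.IsSubnormal → L ≤ M → L = ⊥) ∧ M ⊓ Cfsg.fittingSubgroup G = ⊥ := by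
  classical
  set F := Cfsg.fittingSubgroup G with hF
  haveI hFn : F.Normal := CfsgLib.Coprime.fitting_normal
  have hFM : M ⊓ F = ⊥ := by
    by_contra hne
    have hMX : M ≤ Subgroup.normalizer ((M ⊓ F : Subgroup G) : Set G) := by
      intro m hm
      rw [Subgroup.mem_normalizer_iff_map_conj_eq, Subgroup.map_inf _ _ _ (MulEquiv.injective _),
        Subgroup.mem_normalizer_iff_map_conj_eq.1 (Subgroup.le_normalizer hm),
        Subgroup.mem_normalizer_iff_map_conj_eq.1 (by rw [Subgroup.normalizer_eq_top]; trivial)]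
    have hN := hprim _ inf_le_left hMX hne
    haveI := CfsgLib.Coprime.fitting_isNilpotent (G := G)
    have htop : (M ⊓ F).subgroupOf F = ⊤ := by
      by_contra h
      have hlt := Group.normalizerCondition_of_isNilpotent _ (lt_top_iff_ne_top.2 h)
      rw [← Subgroup.subgroupOf_normalizer_eq inf_le_right, hN, Subgroup.inf_subgroupOf_right] at hlt
      exact lt_irrefl _ hlt
    have hle : F ≤ M := (Subgroup.subgroupOf_eq_top.1 htop).trans inf_le_left
    have hF0 : F ≠ ⊥ := fun h => hne (by rw [h, inf_bot_eq])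
    have := hprim F hle (by rw [Subgroup.normalizer_eq_top]; exact le_top) hF0
    rw [Subgroup.normalizer_eq_top] at this
    exact hM this.symm
  refine ⟨fun L hL hLM => ?_, hFM⟩
  by_contra hL0
  obtain ⟨S, hS⟩ := (Set.toFinite {S : Subgroup G | S.IsSubnormal ∧ S ≤ L ∧ S ≠ ⊥}).exists_minimal
    ⟨L, hL, le_rfl, hL0⟩
  obtain ⟨⟨hS1, hSL, hS0⟩, hSmin⟩ := hS
  rcases CfsgLib.Coprime.isComponent_or_isNilpotent_of_minimal (Z := ⊥) hS1
      (fun h => hS0 (le_bot_iff.1 h)) (by simp)
      (fun N hN hNS hN0 => le_antisymm hNS (hSmin ⟨hN, hNS.trans hSL, fun h => hN0 h.le⟩ hNS))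
    with hc | hn
  · set D := sSup {K : Subgroup G | Cfsg.IsComponent K ∧ K ≤ M} with hD
    have hDM : D ≤ M := sSup_le fun K hK => hK.2
    have hD0 : D ≠ ⊥ := fun h => hS0 (le_bot_iff.1 (h ▸ le_sSup ⟨hc, hSL.trans hLM⟩))
    have hnorm : ∀ g : G, (∀ K : Subgroup G, Cfsg.IsComponent K → K ≤ M →
        K.map (MulAut.conj g).toMonoidHom ≤ D) → (∀ K : Subgroup G, Cfsg.IsComponent K → K ≤ M →
        K.map (MulAut.conj g⁻¹).toMonoidHom ≤ D) → g ∈ Subgroup.normalizer (D : Set G) := by
      intro g h1 h2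
      have e : ∀ a : G, (∀ K : Subgroup G, Cfsg.IsComponent K → K ≤ M →
          K.map (MulAut.conj a).toMonoidHom ≤ D) → D.map (MulAut.conj a).toMonoidHom ≤ D := by
        intro a ha
        rw [Subgroup.map_le_iff_le_comap, hD]
        exact sSup_le fun K hK => Subgroup.map_le_iff_le_comap.1 (ha K hK.1 hK.2)
      rw [Subgroup.mem_normalizer_iff_map_conj_eq]
      refine le_antisymm (e g h1) ?_
      intro x hx
      have := e g⁻¹ h2 (Subgroup.mem_map_of_mem _ hx)
      exact ⟨_, this, by simp [mul_assoc]⟩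
    have hMD : M ≤ Subgroup.normalizer (D : Set G) := fun g hg => by
      have key : ∀ a ∈ M, ∀ K : Subgroup G, Cfsg.IsComponent K → K ≤ M →
          K.map (MulAut.conj a).toMonoidHom ≤ D := by
        intro a ha K hK hKM
        refine le_sSup ⟨CfsgLib.Coprime.isComponent_map_equiv (MulAut.conj a) hK, ?_⟩
        rintro _ ⟨x, hx, rfl⟩
        exact mul_mem (mul_mem ha (hKM hx)) (inv_mem ha)
      exact hnorm g (key g hg) (key g⁻¹ (inv_mem hg))
    have hN := hprim D hDM hMD hD0
    have hE : Cfsg.layer G ≤ M := by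
      rw [← hN]
      intro g hg
      have key : ∀ a ∈ Cfsg.layer G, ∀ K : Subgroup G, Cfsg.IsComponent K → K ≤ M →
          K.map (MulAut.conj a).toMonoidHom ≤ D := by
        intro a ha K hK hKM
        rintro _ ⟨x, hx, rfl⟩
        have hKD : K ≤ D := le_sSup ⟨hK, hKM⟩
        exact hKD ((Subgroup.mem_normalizer_iff.1
            (CfsgLib.Coprime.layer_le_normalizer_component hK ha) x).1 hx)
      exact hnorm g (key g hg) (key g⁻¹ (inv_mem hg))
    haveI := CfsgLib.Coprime.layer_normal (G := G)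
    have h0 : Cfsg.layer G ≠ ⊥ := fun h =>
      hS0 (le_bot_iff.1 (h ▸ CfsgLib.Coprime.component_le_layer hc))
    have := hprim _ hE (by rw [Subgroup.normalizer_eq_top]; exact le_top) h0
    rw [Subgroup.normalizer_eq_top] at this
    exact hM this.symm
  · exact hS0 (le_bot_iff.1 (hFM ▸ le_inf (hSL.trans hLM)
      (CfsgLib.Coprime.le_fitting_of_isSubnormal hS1 hn)))

end Cfsg.Agent.S3748
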