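import Cfsg.Statements.S3749
-- import your own Cfsg.Agent.* helpers here
import Cfsg.Agent.Lib.Coprime.Core
import Cfsg.Agent.Lib.Coprime.Action
import Cfsg.Agent.Lib.Coprime.Subnormal

set_option autoImplicit false
open Cfsg

namespace Cfsg.Agent.S3749


/-- Call a proper subgroup M of G primitive when M = N_G(N) for every non-trivial normal subgroup N of M. Let M be a primitive subgroup of the finite group G, p a prime with O_p(M) ≠ 1, and N a normal subgroup of G with M ∩ N = 1. Then p does not divide the order of N; for every prime q there is exactly one Sylow q-subgroup of N normalized by M; and if the order of N has at least two prime divisors then M is not a maximal subgroup of G. -/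
theorem result {G : Type*} [Group G] [Finite G] (M : Subgroup G) (hM : M ≠ ⊤) (hprim : ∀ N : Subgroup G, N ≤ M → M ≤ Subgroup.normalizer (N : Set G) → N ≠ ⊥ → Subgroup.normalizer (N : Set G) = M) {p : ℕ} [Fact p.Prime] (hOp : Cfsg.pCore p ↥M ≠ ⊥) (N : Subgroup G) [N.Normal] (hMN : M ⊓ N = ⊥) : ¬ p ∣ Nat.card N ∧ (∀ q : ℕ, [Fact q.Prime] → ∃! Q : Sylow q ↥N, M ≤ Subgroup.normalizer ((Q : Subgroup ↥N).map N.subtype : Set G)) ∧ ((∃ q r : ℕ, q.Prime ∧ r.Prime ∧ q ≠ r ∧ q ∣ Nat.card N ∧ r ∣ Nat.card N) → ¬ IsCoatom M) := by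
  classical
  open CfsgLib.Coprime in
  have hp : p.Prime := Fact.out
  set P : Subgroup G := (Cfsg.pCore p ↥M).map M.subtype with hPdef
  have hPg : IsPGroup p P := by
    refine IsPGroup.map ?_ _
    exact CfsgLib.Coprime.pCore_isPGroup p
  have hPM : P ≤ M := Subgroup.map_subtype_le _
  have hMP : M ≤ Subgroup.normalizer (P : Set G) := by
    have h := Subgroup.le_normalizer_map (H := Cfsg.pCore p ↥M) M.subtype
    rw [Subgroup.normalizer_eq_top, ← MonoidHom.range_eq_map, Subgroup.range_subtype] at h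
    exact h
  have hPne : P ≠ ⊥ := fun e => hOp ((Subgroup.map_eq_bot_iff_of_injective _ M.subtype_injective).1 e)
  have hNP := hprim P hPM hMP hPne
  have hC : N ⊓ Subgroup.centralizer (P : Set G) = ⊥ := eq_bot_iff.2 fun x hx => hMN.le
    ⟨hNP.le (Subgroup.centralizer_le_normalizer _ hx.2), hx.1⟩
  have hPN : P ≤ Subgroup.normalizer (N : Set G) := by rw [Subgroup.normalizer_eq_top]; exact le_top
  have hndvd : ¬ p ∣ Nat.card N := by
    intro hd
    let act : MulAction ↥P ↥N := MulAction.compHom N ((MulAut.conjNormal (H := N)).comp P.subtype)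
    letI := act
    haveI : Fact p.Prime := ⟨hp⟩
    obtain ⟨n, hn, hn1⟩ := hPg.exists_fixed_point_of_prime_dvd_card_of_fixed_point N hd
      (a := (1 : N)) (fun a => by
        show MulAut.conjNormal (a : G) (1 : N) = 1
        exact map_one _)
    refine hn1 (Subtype.ext ?_)
    have h1 : (n : G) ∈ N ⊓ Subgroup.centralizer (P : Set G) := ⟨n.2, Subgroup.mem_centralizer_iff.2 fun a ha => by
      have h2 : MulAut.conjNormal a n = n := hn ⟨a, ha⟩
      have h3 := congrArg Subtype.val h2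
      rw [MulAut.conjNormal_apply, mul_inv_eq_iff_eq_mul] at h3
      exact h3⟩
    rw [hC, Subgroup.mem_bot] at h1
    exact h1.symm
  have hcop : (Nat.card P).Coprime (Nat.card N) := by
    obtain ⟨k, hk⟩ := IsPGroup.iff_card.1 hPg
    rw [hk]
    exact ((hp.coprime_iff_not_dvd).2 hndvd).pow_left k
  have hsolv : Group.IsSolvable P ∨ Group.IsSolvable N := by
    haveI := hPg.isNilpotent
    exact Or.inl inferInstance
  have huniq : ∀ q : ℕ, [Fact q.Prime] → ∃! Q : Sylow q ↥N,
      M ≤ Subgroup.normalizer ((Q : Subgroup ↥N).map N.subtype : Set G) := by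
    intro q _
    obtain ⟨Q, hQ, hPQ⟩ := CfsgLib.Coprime.exists_invariant_sylow hPN hcop hsolv q
    have hone : ∀ R, CfsgLib.Coprime.IsSylowIn q R N → P ≤ Subgroup.normalizer (R : Set G) → R = Q := by
      intro R hR hPR
      obtain ⟨c, hc, hcR⟩ := CfsgLib.Coprime.invariant_sylow_conj hPN hcop hsolv hQ hR hPQ hPR
      rw [hC, Subgroup.mem_bot] at hc
      rw [← hcR, hc, CfsgLib.Coprime.conjBy_one]
    have hMQ : M ≤ Subgroup.normalizer (Q : Set G) := fun m hm => by
      refine CfsgLib.Coprime.conjBy_eq_self_iff.1 (hone _ (hQ.conjBy (by rw [Subgroup.normalizer_eq_top]; trivial)) ?_)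
      intro a ha
      refine CfsgLib.Coprime.conjBy_eq_self_iff.1 ?_
      have hm' : m⁻¹ * a * m ∈ P := by
        have := (Subgroup.mem_normalizer_iff.1 (inv_mem (hMP hm)) a).1 ha
        rwa [inv_inv] at this
      rw [CfsgLib.Coprime.conjBy_conjBy, show a * m = m * (m⁻¹ * a * m) by group,
        ← CfsgLib.Coprime.conjBy_conjBy, CfsgLib.Coprime.conjBy_eq_self_iff.2 (hPQ hm')]
    refine ⟨hQ.toSylow, ?_, fun R hR => ?_⟩
    · show M ≤ Subgroup.normalizer (((hQ.toSylow : Subgroup N).map N.subtype : Subgroup G) : Set G)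
      rw [hQ.map_toSylow]; exact hMQ
    · apply Sylow.ext
      apply Subgroup.map_injective N.subtype_injective
      rw [hQ.map_toSylow]
      exact hone _ (CfsgLib.Coprime.isSylowIn_map R) (hPM.trans hR)
  refine ⟨hndvd, huniq, ?_⟩
  rintro ⟨q, r, hq, hr, hqr, hqd, hrd⟩ hmax
  haveI := Fact.mk hq
  obtain ⟨Q, hQn, -⟩ := huniq q
  set Q' : Subgroup G := (Q : Subgroup N).map N.subtype with hQ'
  have hQN : Q' ≤ N := Subgroup.map_subtype_le _
  have hQg : IsPGroup q Q' := Q.isPGroup'.map _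
  have hQne : Q' ≠ ⊥ := fun e => Q.ne_bot_of_dvd_card hqd
    ((Subgroup.map_eq_bot_iff_of_injective _ N.subtype_injective).1 e)
  have hlt : M < M ⊔ Q' := lt_of_le_of_ne le_sup_left fun e => hQne (eq_bot_iff.2 fun x hx =>
    hMN.le ⟨e ▸ Subgroup.mem_sup_right hx, hQN hx⟩)
  have htop := hmax.2 _ hlt
  have hNQ : N ≤ Q' := by
    intro x hx
    have hx' : x ∈ ((M ⊔ Q' : Subgroup G) : Set G) := by rw [htop]; trivial
    rw [Subgroup.coe_mul_of_left_le_normalizer_right M Q' hQn] at hx'
    obtain ⟨m, hm, y, hy, rfl⟩ := Set.mem_mul.1 hx'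
    have hmN : m ∈ M ⊓ N := ⟨hm, by simpa using N.mul_mem hx (N.inv_mem (hQN hy))⟩
    rw [hMN, Subgroup.mem_bot] at hmN
    rw [hmN, one_mul]; exact hy
  obtain ⟨k, hk⟩ := IsPGroup.iff_card.1 hQg
  rw [le_antisymm hNQ hQN, hk] at hrd
  exact hqr ((Nat.prime_dvd_prime_iff_eq hr hq).1 (hr.dvd_of_dvd_pow hrd)).symm


end Cfsg.Agent.S3749
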