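import Cfsg.Statements.S3750
-- import your own Cfsg.Agent.* helpers here
import Cfsg.Agent.Lib.Coprime.Component
import Cfsg.Agent.Lib.Coprime.Action
import Cfsg.Agent.Lib.Coprime.Solvable

set_option autoImplicit false
open Cfsg

namespace Cfsg.Agent.S3750


/-- Call a proper subgroup M of G primitive when M = N_G(N) for every non-trivial normal subgroup N of M. Let M be a primitive subgroup of the finite group G and N a normal subgroup of G with M ∩ F*(N) ≠ 1. Then F(G) = 1 and F*(N) = F*(G) = E(G); in particular every minimal normal subgroup of G is contained in N. -/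
theorem result {G : Type*} [Group G] [Finite G] (M : Subgroup G) (hM : M ≠ ⊤) (hprim : ∀ N : Subgroup G, N ≤ M → M ≤ Subgroup.normalizer (N : Set G) → N ≠ ⊥ → Subgroup.normalizer (N : Set G) = M) (N : Subgroup G) [N.Normal] (hMF : M ⊓ (Cfsg.generalizedFittingSubgroup ↥N).map N.subtype ≠ ⊥) : Cfsg.fittingSubgroup G = ⊥ ∧ (Cfsg.generalizedFittingSubgroup ↥N).map N.subtype = Cfsg.generalizedFittingSubgroup G ∧ Cfsg.generalizedFittingSubgroup G = Cfsg.layer G ∧ ∀ K : Subgroup G, K.Normal → K ≠ ⊥ → (∀ K' : Subgroup G, K'.Normal → K' ≤ K → K' = ⊥ ∨ K' = K) → K ≤ N := by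
  classical
  have hFn := CfsgLib.Coprime.fitting_normal (G := G)
  haveI := hFn
  haveI := CfsgLib.Coprime.fitting_isNilpotent (G := G)
  haveI := CfsgLib.Coprime.generalizedFitting_normal (G := G)
  have hnontriv : ∀ K : Subgroup G, K.Normal → K ≤ M → K = ⊥ := by
    intro K hK hKM
    by_contra hne
    haveI := hK
    exact hM ((hprim K hKM (by rw [Subgroup.normalizer_eq_top]; exact le_top) hne).symm.trans
      (Subgroup.normalizer_eq_top K))
  set FN := (Cfsg.generalizedFittingSubgroup ↥N).map N.subtype with hFNdef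
  have hFNeq : Cfsg.generalizedFittingSubgroup G ⊓ N = FN := CfsgLib.Coprime.generalizedFitting_inf_normal N
  haveI hFNn : FN.Normal := hFNeq ▸ inferInstance
  set A := M ⊓ FN with hA
  have hNA := hprim A inf_le_left (fun x hx => CfsgLib.Coprime.inf_le_normalizer Subgroup.le_normalizer
    (by rw [Subgroup.normalizer_eq_top]; exact le_top) hx) hMF
  have hCA : Subgroup.centralizer (A : Set G) ≤ M := hNA ▸ Subgroup.centralizer_le_normalizer _
  have hF : Cfsg.fittingSubgroup G = ⊥ := by
    set F := Cfsg.fittingSubgroup G with hFdef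
    by_contra hFne
    have hMFbot : M ⊓ F = ⊥ := by
      by_contra hne
      have hNF := hprim (M ⊓ F) inf_le_left (fun x hx => CfsgLib.Coprime.inf_le_normalizer Subgroup.le_normalizer
        (by rw [Subgroup.normalizer_eq_top]; exact le_top) hx) hne
      have hX : (M ⊓ F).subgroupOf F < ⊤ := lt_top_iff_ne_top.2 fun e =>
        hFne (hnontriv F hFn ((Subgroup.subgroupOf_eq_top.1 e).trans inf_le_left))
      obtain ⟨y, hy, hy'⟩ := SetLike.exists_of_lt (Group.normalizerCondition_of_isNilpotent (G := ↥F) _ hX)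
      refine hy' ⟨?_, y.2⟩
      rw [← Subgroup.subgroupOf_normalizer_eq inf_le_right] at hy
      exact hNF.le hy
    haveI : Nontrivial ↥F := (Subgroup.nontrivial_iff_ne_bot F).2 hFne
    have hc : Subgroup.center ↥F ≠ ⊥ := fun e => CfsgLib.Coprime.nilpotent_inf_center_ne_bot (⊤ : Subgroup ↥F)
      top_ne_bot (by rw [top_inf_eq, e])
    obtain ⟨z, hz1⟩ := (Subgroup.ne_bot_iff_exists_ne_one.1 hc)
    refine hz1 (Subtype.ext (Subtype.ext ?_))
    have hzF : ((z : ↥F) : G) ∈ Subgroup.centralizer (Cfsg.generalizedFittingSubgroup G : Set G) := by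
      have h1 : Cfsg.generalizedFittingSubgroup G ≤ Subgroup.centralizer ({((z : ↥F) : G)} : Set G) := by
        refine sup_le (fun e he => Subgroup.mem_centralizer_singleton_iff.2 ?_) (fun f hf => Subgroup.mem_centralizer_singleton_iff.2 ?_)
        · exact ((Subgroup.mem_centralizer_iff.1 (CfsgLib.Coprime.layer_le_centralizer_fitting he)) _ (z : ↥F).2).symm
        · exact congrArg Subtype.val (Subgroup.mem_center_iff.1 z.2 ⟨f, hf⟩)
      exact Subgroup.mem_centralizer_iff.2 fun b hb => Subgroup.mem_centralizer_singleton_iff.1 (h1 hb)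
    have hzA : ((z : ↥F) : G) ∈ M := hCA (Subgroup.centralizer_le
      (show (A : Set G) ⊆ Cfsg.generalizedFittingSubgroup G from fun x hx => (hFNeq.ge hx.2).1) hzF)
    exact (Subgroup.mem_bot).1 (hMFbot.le ⟨hzA, (z : ↥F).2⟩)
  have hCN : Subgroup.centralizer (FN : Set G) = ⊥ := hnontriv _ inferInstance
    ((Subgroup.centralizer_le (SetLike.coe_subset_coe.2 (inf_le_right : A ≤ FN))).trans hCA)
  have hcomm : ∀ K : Subgroup G, ⁅K, N⁆ = ⊥ → K = ⊥ := fun K h => eq_bot_iff.2 (hCN ▸
    (Subgroup.commutator_eq_bot_iff_le_centralizer.1 h).trans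
      (Subgroup.centralizer_le (SetLike.coe_subset_coe.2 (Subgroup.map_subtype_le _))))
  have hEG : Cfsg.generalizedFittingSubgroup G = Cfsg.layer G := by
    rw [Cfsg.generalizedFittingSubgroup, hF, sup_bot_eq]
  have hEN : Cfsg.layer G ≤ N := sSup_le fun K hK => by
    rcases CfsgLib.Coprime.component_le_or_commutator_eq_bot hK (Subgroup.Normal.isSubnormal inferInstance : N.IsSubnormal) with h | h
    · exact h
    · rw [hcomm K h]; exact bot_le
  refine ⟨hF, ?_, hEG, fun K hK hKne hmin => ?_⟩
  · rw [← hFNeq, inf_eq_left, hEG]; exact hEN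
  · haveI := hK
    rcases hmin (K ⊓ N) inferInstance inf_le_left with h | h
    · exact absurd (hcomm K (le_bot_iff.1 ((Subgroup.commutator_le_inf K N).trans h.le))) hKne
    · exact inf_eq_left.1 h


end Cfsg.Agent.S3750
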