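import Cfsg.Statements.S3753
-- import your own Cfsg.Agent.* helpers here
import Cfsg.Agent.Lib.PGroup.PrimitivePairStable
import Cfsg.Agent.S0626

set_option autoImplicit false
open Cfsg

namespace Cfsg.Agent.S3753


/-- Two distinct subgroups M₁, M₂ of G form a primitive pair when, for {i, j} = {1, 2}, every non-trivial normal subgroup A of M_i contained in M₁ ∩ M₂ satisfies N_{M_j}(A) = M₁ ∩ M₂; the pair has characteristic p when moreover C_{M_i}(O_p(M_i)) ≤ O_p(M_i) for both i and O_p(M₁)O_p(M₂) ≤ M₁ ∩ M₂. If the finite group G has a primitive pair (M₁, M₂) of characteristic p for some prime p, then M₁ or M₂ has non-abelian Sylow 2-subgroups. In particular no group of odd order has a primitive pair of characteristic p. -/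
theorem result {G : Type*} [Group G] [Finite G] {p : ℕ} [Fact p.Prime] (M₁ M₂ : Subgroup G) (hne : M₁ ≠ M₂) (hP : ∀ A : Subgroup G, A ≠ ⊥ → A ≤ M₁ ⊓ M₂ → (M₁ ≤ Subgroup.normalizer (A : Set G) → M₂ ⊓ Subgroup.normalizer (A : Set G) = M₁ ⊓ M₂) ∧ (M₂ ≤ Subgroup.normalizer (A : Set G) → M₁ ⊓ Subgroup.normalizer (A : Set G) = M₁ ⊓ M₂)) (hc₁ : Subgroup.centralizer (Cfsg.pCore p ↥M₁ : Set ↥M₁) ≤ Cfsg.pCore p ↥M₁) (hc₂ : Subgroup.centralizer (Cfsg.pCore p ↥M₂ : Set ↥M₂) ≤ Cfsg.pCore p ↥M₂) (hO : (Cfsg.pCore p ↥M₁).map M₁.subtype ⊔ (Cfsg.pCore p ↥M₂).map M₂.subtype ≤ M₁ ⊓ M₂) : (∃ S : Sylow 2 ↥M₁, ¬ IsMulCommutative (S : Subgroup ↥M₁)) ∨ (∃ S : Sylow 2 ↥M₂, ¬ IsMulCommutative (S : Subgroup ↥M₂)) := by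
  by_contra hcon
  obtain ⟨ha₁, ha₂⟩ : (∀ S : Sylow 2 ↥M₁, IsMulCommutative (S : Subgroup ↥M₁)) ∧
      (∀ S : Sylow 2 ↥M₂, IsMulCommutative (S : Subgroup ↥M₂)) :=
    ⟨fun S => by_contra fun h => hcon (Or.inl ⟨S, h⟩),
      fun S => by_contra fun h => hcon (Or.inr ⟨S, h⟩)⟩
  have h₁ : Cfsg.pCoreOf p M₁ ≤ M₁ ⊓ M₂ := le_sup_left.trans hO
  have h₂ : Cfsg.pCoreOf p M₂ ≤ M₁ ⊓ M₂ := le_sup_right.trans hO
  have hbot : ∀ M : Subgroup G,
      Subgroup.centralizer (Cfsg.pCore p ↥M : Set ↥M) ≤ Cfsg.pCore p ↥M →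
      Cfsg.pCoreOf p M = ⊥ → M = ⊥ := by
    intro M hc hM
    have h0 : Cfsg.pCore p ↥M = ⊥ :=
      (Subgroup.map_eq_bot_iff_of_injective _ M.subtype_injective).1 hM
    rw [h0] at hc
    refine (Subgroup.eq_bot_iff_forall _).2 fun x hx => ?_
    have h1 : (⟨x, hx⟩ : ↥M) ∈ (⊥ : Subgroup ↥M) := hc (Subgroup.mem_centralizer_iff.2 fun y hy => by
      rw [Subgroup.mem_bot.1 hy, one_mul, mul_one])
    exact congrArg Subtype.val (Subgroup.mem_bot.1 h1)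
  have hq₁ : Cfsg.pCoreOf p M₁ ≠ ⊥ := by
    intro h
    have h1 := hbot M₁ hc₁ h
    rw [h1, bot_inf_eq, le_bot_iff] at h₂
    exact hne (h1.trans (hbot M₂ hc₂ h₂).symm)
  have hq₂ : Cfsg.pCoreOf p M₂ ≠ ⊥ := by
    intro h
    have h1 := hbot M₂ hc₂ h
    rw [h1, inf_bot_eq, le_bot_iff] at h₁
    exact hne ((hbot M₁ hc₁ h₁).trans h1.symm)
  by_cases hp : p = 2
  · subst hp
    have key : ∀ A B : Subgroup G, (∀ S : Sylow 2 ↥A, IsMulCommutative (S : Subgroup ↥A)) →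
        Subgroup.centralizer (Cfsg.pCore 2 ↥A : Set ↥A) ≤ Cfsg.pCore 2 ↥A →
        Cfsg.pCoreOf 2 B ≤ A → Cfsg.pCoreOf 2 B ≤ Cfsg.pCoreOf 2 A := by
      intro A B hab hc hBA
      obtain ⟨T, hT⟩ := (((CfsgLib.Coprime.pCore_isPGroup (G := ↥B) 2).map B.subtype).comap_of_injective
        A.subtype A.subtype_injective).exists_le_sylow
      haveI := hab T
      intro x hx
      exact ⟨⟨x, hBA hx⟩, CfsgLib.PrimPairStable.sylow_le_pCore hc T (hT hx), rfl⟩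
    have he : Cfsg.pCoreOf 2 M₁ = Cfsg.pCoreOf 2 M₂ :=
      le_antisymm (key M₂ M₁ ha₂ hc₂ (h₁.trans inf_le_right))
        (key M₁ M₂ ha₁ hc₁ (h₂.trans inf_le_left))
    have hn : ∀ M : Subgroup G, M ≤ Subgroup.normalizer (Cfsg.pCoreOf 2 M : Set G) := fun M =>
      Subgroup.le_normalizer.trans (CfsgLib.LS.normalizer_le_normalizer_pCoreOf M)
    have n₁ := hn M₁
    have n₂ : M₂ ≤ Subgroup.normalizer (Cfsg.pCoreOf 2 M₁ : Set G) := he ▸ hn M₂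
    obtain ⟨e₁, e₂⟩ := hP _ hq₁ h₁
    exact hne ((inf_eq_left.2 n₁).symm.trans
      ((e₂ n₂).trans ((e₁ n₁).symm.trans (inf_eq_left.2 n₂))))
  · exact CfsgLib.PrimPairStable.false_of_stable hne (Cfsg.Agent.S0626.result hp ha₁)
      (Cfsg.Agent.S0626.result hp ha₂) hc₁ hc₂ h₁ h₂ hq₁ hq₂
      (fun A a b => (hP A a b).1) (fun A a b => (hP A a b).2)


end Cfsg.Agent.S3753
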