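import Cfsg.Statements.S3758
import Cfsg.Agent.Lib.ZNGroup.Reduction
-- import your own Cfsg.Agent.* helpers here

set_option autoImplicit false
open Cfsg

namespace Cfsg.Agent.S3758

/-- Let G be a finite group of even order in which every 2-local subgroup is solvable and C_G(Ω₁(Z(S))) ≤ N_G(S) for every Sylow 2-subgroup S, and suppose O_{2'}(G) = 1 = O₂(G). Fix a Sylow 2-subgroup S, put Z = Ω₁(Z(S)), H = O²(G) (generated by the elements of odd order) and R = S ∩ H. Then one of the following holds: H has a strongly embedded subgroup; R is dihedral (of order at least 4) or semidihedral; Z ∩ R has order 2 and is weakly closed in R with respect to H; or Z has order 4 and is exactly the subgroup generated by the involutions of R. -/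
theorem result {G : Type*} [Group G] [Finite G] (heven : Even (Nat.card G)) (hN : ∀ L : Subgroup G, Cfsg.IsTwoLocal L → Group.IsSolvable L) (hZ : ∀ S : Sylow 2 G, Subgroup.centralizer (Cfsg.omegaOne 2 ((S : Subgroup G) ⊓ Subgroup.centralizer ((S : Subgroup G) : Set G)) : Set G) ≤ Subgroup.normalizer ((S : Subgroup G) : Set G)) (hO' : Cfsg.pPrimeCore 2 G = ⊥) (hO : Cfsg.pCore 2 G = ⊥) (S : Sylow 2 G) : (∃ M : Subgroup ↥(Cfsg.pResidual 2 G), Cfsg.IsStronglyEmbedded M) ∨ ((∃ n : ℕ, 2 ≤ n ∧ Nonempty (↥((S : Subgroup G) ⊓ Cfsg.pResidual 2 G) ≃* DihedralGroup n)) ∨ Cfsg.IsQuasiDihedral ↥((S : Subgroup G) ⊓ Cfsg.pResidual 2 G)) ∨ (Nat.card ↥(Cfsg.omegaOne 2 ((S : Subgroup G) ⊓ Subgroup.centralizer ((S : Subgroup G) : Set G)) ⊓ Cfsg.pResidual 2 G) = 2 ∧ ∀ h ∈ Cfsg.pResidual 2 G, ∀ z ∈ Cfsg.omegaOne 2 ((S : Subgroup G) ⊓ Subgroup.centralizer ((S : Subgroup G) : Set G)) ⊓ Cfsg.pResidual 2 G, h * z * h⁻¹ ∈ (S : Subgroup G) → h * z * h⁻¹ ∈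 Cfsg.omegaOne 2 ((S : Subgroup G) ⊓ Subgroup.centralizer ((S : Subgroup G) : Set G))) ∨ (Nat.card ↥(Cfsg.omegaOne 2 ((S : Subgroup G) ⊓ Subgroup.centralizer ((S : Subgroup G) : Set G))) = 4 ∧ Cfsg.omegaOne 2 ((S : Subgroup G) ⊓ Cfsg.pResidual 2 G) = Cfsg.omegaOne 2 ((S : Subgroup G) ⊓ Subgroup.centralizer ((S : Subgroup G) : Set G))) := by
  haveI : Fact (Nat.Prime 2) := ⟨Nat.prime_two⟩
  have hC : ∀ t : G, orderOf t = 2 → Group.IsSolvable ↥(Subgroup.centralizer ({t} : Set G)) := fun t ht => by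
    have hle : Subgroup.centralizer ({t} : Set G) ≤ Subgroup.normalizer (Subgroup.zpowers t : Set G) := fun x hx =>
      Subgroup.centralizer_le_normalizer _ (by rwa [Subgroup.zpowers_eq_closure, Subgroup.centralizer_closure])
    haveI := hN _ ⟨Subgroup.zpowers t, IsPGroup.of_card (n := 1) (by rw [Nat.card_zpowers, ht, pow_one]),
      fun e => by rw [Subgroup.zpowers_eq_bot] at e; rw [e, orderOf_one] at ht; omega, rfl⟩
    exact Group.isSolvable_of_isSolvable_injective (Subgroup.inclusion_injective hle)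
  have h : CfsgLib.ZNGroup.Hyp G S := ⟨heven, hC, hZ, hO', hO⟩
  haveI := CfsgLib.Fusion.pResidual_normal (G := G) (p := 2)
  rcases h.omega_card with h2 | h4
  · obtain ⟨R, z, hR, hz, -⟩ := h.small_case h2
    let e : ↥(R : Subgroup ↥(Cfsg.pResidual 2 G)) ≃* ↥((S : Subgroup G) ⊓ Cfsg.pResidual 2 G) :=
      ((R : Subgroup ↥(Cfsg.pResidual 2 G)).equivMapOfInjective _ (Subgroup.subtype_injective _)).trans
        (MulEquiv.subgroupCongr hR)
    have hfin : ((∃ n : ℕ, 2 ≤ n ∧ Nonempty (↥(R : Subgroup ↥(Cfsg.pResidual 2 G)) ≃* DihedralGroup n)) ∨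
        Cfsg.IsQuasiDihedral ↥(R : Subgroup ↥(Cfsg.pResidual 2 G))) →
        ((∃ n : ℕ, 2 ≤ n ∧ Nonempty (↥((S : Subgroup G) ⊓ Cfsg.pResidual 2 G) ≃* DihedralGroup n)) ∨
          Cfsg.IsQuasiDihedral ↥((S : Subgroup G) ⊓ Cfsg.pResidual 2 G)) := fun hd =>
      hd.imp (fun ⟨n, hn, ⟨f⟩⟩ => ⟨n, hn, ⟨e.symm.trans f⟩⟩) (CfsgLib.Invol.isQuasiDihedral_congr e)
    rcases hz.embedded_or_charTwo h.solvable_residual with hM | ⟨hL, hr | hd⟩
    · exact Or.inl hM
    · -- rank at least three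
      have hN' : ∀ L : Subgroup ↥(Cfsg.pResidual 2 G), Cfsg.IsTwoLocal L → Group.IsSolvable L := by
        rintro L ⟨T, hT, hT1, rfl⟩
        have hT'1 : T.map (Cfsg.pResidual 2 G).subtype ≠ ⊥ := fun e1 =>
          hT1 ((Subgroup.map_eq_bot_iff_of_injective _ (Subgroup.subtype_injective _)).1 e1)
        haveI := hN _ ⟨_, hT.map _, hT'1, rfl⟩
        haveI : Group.IsSolvable ↥((Subgroup.normalizer (T : Set ↥(Cfsg.pResidual 2 G))).map (Cfsg.pResidual 2 G).subtype) :=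
          Group.isSolvable_of_isSolvable_injective (Subgroup.inclusion_injective (Subgroup.le_normalizer_map _))
        exact Group.isSolvable_of_isSolvable_injective
          (f := ((Subgroup.normalizer (T : Set ↥(Cfsg.pResidual 2 G))).equivMapOfInjective _
            (Subgroup.subtype_injective _)).toMonoidHom) (MulEquiv.injective _)
      have hZ' : ∀ Q : Sylow 2 ↥(Cfsg.pResidual 2 G), Subgroup.centralizer {w : ↥(Cfsg.pResidual 2 G) |
          w ∈ (Q : Subgroup ↥(Cfsg.pResidual 2 G)) ∧ w ^ 2 = 1 ∧ ∀ s ∈ (Q : Subgroup ↥(Cfsg.pResidual 2 G)), s * w = w * s} ≤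
          Subgroup.normalizer ((Q : Subgroup ↥(Cfsg.pResidual 2 G)) : Set ↥(Cfsg.pResidual 2 G)) := by
        intro Q x hx
        obtain ⟨g, hg⟩ := MulAction.exists_smul_eq ↥(Cfsg.pResidual 2 G) R Q
        have hmem : ∀ y, y ∈ (Q : Subgroup ↥(Cfsg.pResidual 2 G)) ↔ g⁻¹ * y * g ∈ (R : Subgroup ↥(Cfsg.pResidual 2 G)) := fun y => by
          rw [← hg, Sylow.coe_subgroup_smul, Subgroup.mem_pointwise_smul_iff_inv_smul_mem, MulAut.smul_def,
            ← map_inv, MulAut.conj_apply, inv_inv]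
        have hw : g * z * g⁻¹ * x = x * (g * z * g⁻¹) := by
          refine Subgroup.mem_centralizer_iff.1 hx _ ⟨(hmem _).2 ?_, ?_, fun s hs => ?_⟩
          · rw [show g⁻¹ * (g * z * g⁻¹) * g = z by group]; exact hz.mem
          · rw [conj_pow, pow_two, hz.sq, mul_one, mul_inv_cancel]
          · calc s * (g * z * g⁻¹) = g * ((g⁻¹ * s * g) * z) * g⁻¹ := by group
              _ = g * (z * (g⁻¹ * s * g)) * g⁻¹ := by rw [hz.central _ ((hmem s).1 hs)]
              _ = _ := by group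
        have hc : g⁻¹ * x * g ∈ Subgroup.normalizer ((R : Subgroup ↥(Cfsg.pResidual 2 G)) : Set ↥(Cfsg.pResidual 2 G)) := by
          refine hz.closed (Subgroup.mem_centralizer_singleton_iff.2 ?_)
          calc g⁻¹ * x * g * z = g⁻¹ * (x * (g * z * g⁻¹)) * g := by group
            _ = g⁻¹ * ((g * z * g⁻¹) * x) * g := by rw [hw]
            _ = _ := by group
        refine CfsgLib.ZNGroup.mem_normalizer_of_conj_mem fun k hk => (hmem _).2 ?_
        have := (Subgroup.mem_normalizer_iff.1 hc _).1 ((hmem k).1 hk)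
        rwa [show g⁻¹ * x * g * (g⁻¹ * k * g) * (g⁻¹ * x * g)⁻¹ = g⁻¹ * (x * k * x⁻¹) * g by group] at this
      rcases CfsgLib.ZNGroup.residual_shape hL hz.twoCore hN' hZ'
          (R.subtype (CfsgLib.ZNGroup.pResidual_self.ge.trans' le_top)) with hM | hd
      · exact Or.inl hM
      · let e' : ↥((R : Subgroup ↥(Cfsg.pResidual 2 G)).subgroupOf (Cfsg.pResidual 2 ↥(Cfsg.pResidual 2 G))) ≃*
            ↥(R : Subgroup ↥(Cfsg.pResidual 2 G)) :=
          Subgroup.subgroupOfEquivOfLe (CfsgLib.ZNGroup.pResidual_self.ge.trans' le_top)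
        rw [Sylow.coe_subtype] at hd
        exact Or.inr (Or.inl (hfin (hd.imp (fun ⟨n, hn, ⟨f⟩⟩ => ⟨n, hn, ⟨e'.symm.trans f⟩⟩)
          (CfsgLib.Invol.isQuasiDihedral_congr e'))))
    · exact Or.inr (Or.inl (hfin hd))
  · rcases h.large_case h4 with hM | hd | hL
    · exact Or.inl hM
    · exact Or.inr (Or.inr (Or.inr hd))
    · obtain ⟨P, hP⟩ := CfsgLib.LS.sylow_inf_normal S (Cfsg.pResidual 2 G)
      have hZ' : ∀ Q : Sylow 2 G, Subgroup.centralizer {w : G | w ∈ (Q : Subgroup G) ∧ w ^ 2 = 1 ∧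
          ∀ s ∈ (Q : Subgroup G), s * w = w * s} ≤ Subgroup.normalizer ((Q : Subgroup G) : Set G) := fun Q => by
        rw [← CfsgLib.ZNGroup.centralizer_omega Q]; exact hZ Q
      rcases CfsgLib.ZNGroup.residual_shape hL hO hN hZ' P with ⟨M, hM⟩ | hd
      · exact Or.inl ⟨_, CfsgLib.ZNGroup.stronglyEmbedded_descend hM _ h.even_residual⟩
      · let e : ↥(P : Subgroup ↥(Cfsg.pResidual 2 G)) ≃* ↥((S : Subgroup G) ⊓ Cfsg.pResidual 2 G) :=
          ((P : Subgroup ↥(Cfsg.pResidual 2 G)).equivMapOfInjective _ (Subgroup.subtype_injective _)).trans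
            (MulEquiv.subgroupCongr hP)
        exact Or.inr (Or.inl (hd.imp (fun ⟨n, hn, ⟨f⟩⟩ => ⟨n, hn, ⟨e.symm.trans f⟩⟩)
          (CfsgLib.Invol.isQuasiDihedral_congr e)))

end Cfsg.Agent.S3758
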