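import Cfsg.Statements.S3759
import Cfsg.Agent.Lib.ZNGroup.Reduction
-- import your own Cfsg.Agent.* helpers here

set_option autoImplicit false
open Cfsg

namespace Cfsg.Agent.S3759

/-- Let G be a finite group of even order in which the centralizer of every involution is solvable and C_G(Ω₁(Z(S))) ≤ N_G(S) for every Sylow 2-subgroup S, with O_{2'}(G) = 1 = O₂(G). Fix a Sylow 2-subgroup S and put Z = Ω₁(Z(S)), H = O²(G), R = S ∩ H. Then H has a strongly embedded subgroup; or Z ∩ R has order 2 and is weakly closed in R with respect to H; or Z has order 4 and equals the subgroup generated by the involutions of R; or the subgroup HZ has local characteristic 2: it has even order and every 2-local subgroup L of HZ satisfies C_L(O₂(L)) ≤ O₂(L). -/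
theorem result {G : Type*} [Group G] [Finite G] (heven : Even (Nat.card G)) (hC : ∀ t : G, orderOf t = 2 → Group.IsSolvable ↥(Subgroup.centralizer ({t} : Set G))) (hZ : ∀ S : Sylow 2 G, Subgroup.centralizer (Cfsg.omegaOne 2 ((S : Subgroup G) ⊓ Subgroup.centralizer ((S : Subgroup G) : Set G)) : Set G) ≤ Subgroup.normalizer ((S : Subgroup G) : Set G)) (hO' : Cfsg.pPrimeCore 2 G = ⊥) (hO : Cfsg.pCore 2 G = ⊥) (S : Sylow 2 G) : (∃ M : Subgroup ↥(Cfsg.pResidual 2 G), Cfsg.IsStronglyEmbedded M) ∨ (Nat.card ↥(Cfsg.omegaOne 2 ((S : Subgroup G) ⊓ Subgroup.centralizer ((S : Subgroup G) : Set G)) ⊓ Cfsg.pResidual 2 G) = 2 ∧ ∀ h ∈ Cfsg.pResidual 2 G, ∀ z ∈ Cfsg.omegaOne 2 ((S : Subgroup G) ⊓ Subgroup.centralizer ((S : Subgroup G) : Set G)) ⊓ Cfsg.pResidual 2 G, h * z * h⁻¹ ∈ (S : Subgroup G) → h * z * h⁻¹ ∈ Cfsg.omegaOne 2 ((S : Subgroup G) ⊓ Subgroup.centralizer ((S : Subgroup G) : Set G))) ∨ (Nat.card ↥(Cfsg.omegaOne 2 ((S : Subgroup G) ⊓ Subgroup.centralizer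 ((S : Subgroup G) : Set G))) = 4 ∧ Cfsg.omegaOne 2 ((S : Subgroup G) ⊓ Cfsg.pResidual 2 G) = Cfsg.omegaOne 2 ((S : Subgroup G) ⊓ Subgroup.centralizer ((S : Subgroup G) : Set G))) ∨ Cfsg.IsCharacteristicTwoType ↥(Cfsg.pResidual 2 G ⊔ Cfsg.omegaOne 2 ((S : Subgroup G) ⊓ Subgroup.centralizer ((S : Subgroup G) : Set G))) := by
  have h : CfsgLib.ZNGroup.Hyp G S := ⟨heven, hC, hZ, hO', hO⟩
  haveI : Fact (Nat.Prime 2) := ⟨Nat.prime_two⟩
  haveI := CfsgLib.Fusion.pResidual_normal (G := G) (p := 2)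
  rcases h.omega_card with h2 | h4
  · obtain ⟨R, z, -, hz, hZH⟩ := h.small_case h2
    rcases hz.embedded_or_charTwo h.solvable_residual with hM | ⟨hL, -⟩
    · exact Or.inl hM
    · refine Or.inr (Or.inr (Or.inr ?_))
      show Cfsg.IsCharacteristicTwoType ↥(Cfsg.pResidual 2 G ⊔ Cfsg.omegaCenterOf (S : Subgroup G))
      rwa [sup_eq_left.2 hZH]
  · rcases h.large_case h4 with hM | hd | hL
    · exact Or.inl hM
    · exact Or.inr (Or.inr (Or.inl hd))
    · refine Or.inr (Or.inr (Or.inr ?_))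
      haveI : (Cfsg.pResidual 2 G ⊔ Cfsg.omegaOne 2 ((S : Subgroup G) ⊓ Subgroup.centralizer ((S : Subgroup G) : Set G))).Normal := by
        refine Subgroup.normalizer_eq_top_iff.1 (top_le_iff.1 ?_)
        rw [← CfsgLib.Fusion.pResidual_sup_sylow S]
        refine sup_le (le_trans le_sup_left Subgroup.le_normalizer) fun s hs => ?_
        refine CfsgLib.ZNGroup.mem_normalizer_of_conj_mem fun k hk => ?_
        obtain ⟨a, ha, b, hb, rfl⟩ := Subgroup.mem_sup_of_normal_left.1 hk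
        rw [show s * (a * b) * s⁻¹ = (s * a * s⁻¹) * (s * b * s⁻¹) by group]
        refine Subgroup.mul_mem_sup ((inferInstance : (Cfsg.pResidual 2 G).Normal).conj_mem a ha s) ?_
        rwa [show s * b * s⁻¹ = b by rw [(h.mem_omega.1 hb).2.1 s hs, mul_inv_cancel_right]]
      refine CfsgLib.ZNGroup.isCharacteristicTwoType_of_normal hL _ ?_
      rw [even_iff_two_dvd]
      exact h.even_residual.two_dvd.trans (Subgroup.card_dvd_of_le le_sup_left)

end Cfsg.Agent.S3759
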