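import Cfsg.Statements.S3760


set_option autoImplicit false
set_option linter.style.haveILetI false
open Cfsg

namespace Cfsg.Agent.S3760

/-- Let the group G act transitively on a set X, let x ∈ X with stabilizer H = G_x, and let K ≤ H. Then N_G(K) acts transitively on the set of fixed points of K if and only if every G-conjugate of K contained in H is already an H-conjugate of K. -/
theorem result {G : Type*} [Group G] {X : Type*} [MulAction G X] (htrans : ∀ a b : X, ∃ g : G, g • a = b) (x : X) (K : Subgroup G) (hK : K ≤ MulAction.stabilizer G x) : (∀ a b : X, (∀ k ∈ K, k • a = a) → (∀ k ∈ K, k • b = b) → ∃ g ∈ Subgroup.normalizer (K : Set G), g • a = b) ↔ ∀ g : G, K.map (MulAut.conj g).toMonoidHom ≤ MulAction.stabilizer G x → ∃ h ∈ MulAction.stabilizer G x, K.map (MulAut.conj g).toMonoidHom = K.map (MulAut.conj h).toMonoidHom := by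
  have hmap : ∀ g h : G, K.map (MulAut.conj g).toMonoidHom = K.map (MulAut.conj h).toMonoidHom →
      h⁻¹ * g ∈ Subgroup.normalizer (K : Set G) := by
    intro g h e
    refine Subgroup.mem_normalizer_iff.2 fun z => ?_
    have h1 : ∀ c w : G, c * w * c⁻¹ ∈ K.map (MulAut.conj c).toMonoidHom ↔ w ∈ K := fun c w =>
      Subgroup.mem_map_iff_mem (f := (MulAut.conj c).toMonoidHom) (MulAut.conj c).injective
    have h2 := (h1 g z)
    rw [e, show g * z * g⁻¹ = h * (h⁻¹ * g * z * (h⁻¹ * g)⁻¹) * h⁻¹ by group, h1] at h2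
    exact h2.symm
  constructor
  · intro h g hg
    have hfix : ∀ k ∈ K, k • (g⁻¹ • x) = g⁻¹ • x := fun k hk => by
      have := MulAction.mem_stabilizer_iff.1 (hg ⟨k, hk, rfl⟩)
      rw [MulEquiv.coe_toMonoidHom, MulAut.conj_apply, mul_smul, mul_smul] at this
      rw [eq_inv_smul_iff]
      exact this
    obtain ⟨m, hm, hmx⟩ := h x (g⁻¹ • x) (fun k hk => MulAction.mem_stabilizer_iff.1 (hK hk)) hfix
    refine ⟨g * m, MulAction.mem_stabilizer_iff.2 (by rw [mul_smul, hmx, smul_inv_smul]), ?_⟩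
    ext z
    simp only [Subgroup.mem_map, MulEquiv.coe_toMonoidHom, MulAut.conj_apply]
    constructor
    · rintro ⟨k, hk, rfl⟩
      refine ⟨m⁻¹ * k * m, ?_, by group⟩
      simpa using (Subgroup.mem_normalizer_iff.1 (Subgroup.inv_mem _ hm) k).1 hk
    · rintro ⟨k, hk, rfl⟩
      exact ⟨m * k * m⁻¹, (Subgroup.mem_normalizer_iff.1 hm k).1 hk, by group⟩
  · intro h
    have key : ∀ a, (∀ k ∈ K, k • a = a) → ∃ n ∈ Subgroup.normalizer (K : Set G), n • x = a := by
      intro a ha
      obtain ⟨g, rfl⟩ := htrans x a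
      obtain ⟨s, hs, hs'⟩ := h g⁻¹ (by
        rintro _ ⟨k, hk, rfl⟩
        rw [MulAction.mem_stabilizer_iff, MulEquiv.coe_toMonoidHom, MulAut.conj_apply, inv_inv,
          mul_smul, mul_smul, ha k hk, inv_smul_smul])
      refine ⟨(s⁻¹ * g⁻¹)⁻¹, Subgroup.inv_mem _ (hmap _ _ hs'), ?_⟩
      rw [mul_inv_rev, inv_inv, inv_inv, mul_smul, MulAction.mem_stabilizer_iff.1 hs]
    intro a b ha hb
    obtain ⟨m, hm, rfl⟩ := key a ha
    obtain ⟨n, hn, rfl⟩ := key b hb
    exact ⟨n * m⁻¹, Subgroup.mul_mem _ hn (Subgroup.inv_mem _ hm), by rw [mul_smul, inv_smul_smul]⟩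

end Cfsg.Agent.S3760
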