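import Cfsg.Statements.S3764
-- import your own Cfsg.Agent.* helpers here
import Mathlib
import Cfsg.Agent.Lib.PGroup.FpfOperatorCommutator
import Cfsg.Agent.Lib.Coprime.Action

set_option autoImplicit false
open Cfsg

namespace Cfsg.Agent.S3764

open Subgroup
open scoped commutatorElement

/-- Let p, q, r be distinct primes and let X, Q, V be subgroups of a finite group with X of order r, Q an extraspecial q-group normalized by X with C_Q(X) = Z(Q), and V an elementary abelian p-group normalized by X and Q on which XQ acts faithfully ((X ⊔ Q) ∩ C(V) = 1). If C_V(X) = 1, then q = 2, r = 2^n + 1 for some n, and Q has order 2^(2n+1). -/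
theorem result {G : Type*} [Group G] [Finite G] {p q r : ℕ} (hp : p.Prime) (hq : q.Prime) (hr : r.Prime) (hpq : p ≠ q) (hpr : p ≠ r) (hqr : q ≠ r) (X Q V : Subgroup G) (hX : Nat.card X = r) (hQ : Cfsg.IsExtraspecial q ↥Q) (hXQ : X ≤ Subgroup.normalizer (Q : Set G)) (hCQ : Q ⊓ Subgroup.centralizer (X : Set G) = (Subgroup.center ↥Q).map Q.subtype) (hV : Cfsg.IsElementaryAbelian p V) (hXV : X ≤ Subgroup.normalizer (V : Set G)) (hQV : Q ≤ Subgroup.normalizer (V : Set G)) (hfaith : (X ⊔ Q) ⊓ Subgroup.centralizer (V : Set G) = ⊥) (hCV : V ⊓ Subgroup.centralizer (X : Set G) = ⊥) : q = 2 ∧ ∃ n : ℕ, r = 2 ^ n + 1 ∧ Nat.card Q = 2 ^ (2 * n + 1) := by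
  classical
  haveI := Fact.mk hp
  haveI := Fact.mk hq
  haveI := Fact.mk hr
  obtain ⟨⟨a, haX⟩, ha⟩ := exists_prime_orderOf_dvd_card' (G := X) r (hX ▸ dvd_rfl)
  rw [Subgroup.orderOf_mk] at ha
  have hXa : zpowers a = X := Subgroup.eq_of_le_of_card_ge (zpowers_le.2 haX) (by rw [Nat.card_zpowers, ha, hX])
  have hcent : centralizer (X : Set G) = centralizer ({a} : Set G) := by
    rw [← hXa, zpowers_eq_closure, centralizer_closure]
  have har : a ^ r = 1 := by rw [← ha]; exact pow_orderOf_eq_one a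
  obtain ⟨⟨hQp, hΦ, hcomm⟩, hZcard⟩ := hQ
  set Z := (center Q).map Q.subtype with hZ
  have hZq : Nat.card Z = q := by
    rw [hZ, Subgroup.card_map_of_injective Q.subtype_injective, hZcard]
  have hder : ∀ x ∈ Q, ∀ y ∈ Q, ⁅x, y⁆ ∈ Z := fun x hx y hy =>
    ⟨⁅(⟨x, hx⟩ : Q), ⟨y, hy⟩⁆, hcomm ▸ commutator_mem_commutator (mem_top _) (mem_top _), rfl⟩
  have hZc : ∀ y ∈ Z, ∀ x ∈ Q, y * x = x * y := by
    rintro _ ⟨y, hy, rfl⟩ x hx
    exact (congrArg Subtype.val (mem_center_iff.1 hy ⟨x, hx⟩)).symm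
  have hZa : ∀ y ∈ Z, a * y = y * a := by
    intro y hy
    rw [← hCQ, hcent] at hy
    exact (mem_centralizer_singleton_iff.1 hy.2).symm
  have hfix : V ⊓ centralizer {a} = ⊥ := by rw [← hcent]; exact hCV
  rcases CfsgLib.PGroup.FpfClassTwoOp.subgroup_case hV.1 hV.2 hr hpr.symm hpq.symm hqr har (hXV haX) hfix
      hQp hQV (hXQ haX) (map_subtype_le _) hZc hZa hder with h | ⟨n, hn, hq2, hrn, K, D, E, hKZ, hD, hDE, hEQ, hidx, hσ⟩
  · exfalso
    have hfix2 : Q ≤ Q ⊓ centralizer (X : Set G) := by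
      intro x hx
      refine ⟨hx, ?_⟩
      rw [hcent]
      refine mem_centralizer_singleton_iff.2 ?_
      have h1 : x⁻¹ * (a * x * a⁻¹) ∈ (X ⊔ Q) ⊓ centralizer (V : Set G) :=
        ⟨mem_sup_right (mul_mem (inv_mem hx) ((mem_normalizer_iff.1 (hXQ haX) x).1 hx)), h x hx⟩
      rw [hfaith, mem_bot, inv_mul_eq_one] at h1
      exact (mul_inv_eq_iff_eq_mul.1 h1.symm).symm
    rw [hCQ] at hfix2
    have hc : IsMulCommutative Q := isMulCommutative_iff.2 fun x y =>
      Subtype.ext (hZc _ (hfix2 x.2) _ y.2)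
    have hb : commutator Q = ⊥ := by
      rw [_root_.commutator_def, commutator_eq_bot_iff_le_centralizer]
      exact fun x _ => mem_centralizer_iff.2 fun y _ => isMulCommutative_iff.1 hc y x
    rw [← hcomm, hb, Subgroup.card_bot] at hZcard
    exact hq.ne_one hZcard.symm
  · have hK : K = ⊥ := by
      rcases (Nat.dvd_prime hq).1 (hZq ▸ card_dvd_of_le hKZ) with h | h
      · exact card_eq_one.1 h
      · exfalso
        have hKeq : K = Z := eq_of_le_of_card_ge hKZ (by rw [h, hZq])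
        have hDQ : Q ≤ D := fun d hd => (hD d).2 ⟨hd, fun x hx => hKeq ▸ hder d hd x hx⟩
        rw [relIndex_eq_one.2 (hEQ.trans hDQ)] at hidx
        have : 2 ^ 0 = 2 ^ (2 * n) := hidx
        have := Nat.pow_right_injective le_rfl this
        omega
    have hDZ : D = Z := by
      ext d
      rw [hD, hK]
      constructor
      · rintro ⟨hd, h⟩
        refine ⟨⟨d, hd⟩, mem_center_iff.2 fun x => Subtype.ext ?_, rfl⟩
        exact (commutatorElement_eq_one_iff_mul_comm.1 (mem_bot.1 (h x x.2))).symm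
      · intro hd
        exact ⟨map_subtype_le _ hd, fun x hx => mem_bot.2 (commutatorElement_eq_one_iff_mul_comm.2 (hZc d hd x hx))⟩
    have hEeq : E = Q := by
      refine le_antisymm hEQ ?_
      obtain ⟨j, hj⟩ := IsPGroup.iff_card.1 hQp
      have hcop : (Nat.card X).Coprime (Nat.card Q) := by
        rw [hX, hj]; exact ((Nat.coprime_primes hr hq).2 hqr.symm).pow_right j
      conv_lhs => rw [← CfsgLib.Coprime.commutator_sup_centralizer hXQ hcop
        (Or.inl (CfsgLib.Coprime.isSolvable_of_isMulCommutative (hXa ▸ inferInstance)))]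
      refine sup_le ?_ (by rw [hCQ, ← hDZ]; exact hDE)
      rw [← hXa]
      exact CfsgLib.PGroup.FpfClassTwoOp.commutator_zpowers_le (hXQ haX) hσ
    refine ⟨hq2, n, hrn, ?_⟩
    rw [hEeq, hDZ] at hidx
    have hmul := relIndex_mul_relIndex ⊥ Z Q bot_le (map_subtype_le _)
    rw [relIndex_bot_left, relIndex_bot_left, hidx, hZq, hq2] at hmul
    rw [← hmul, pow_succ']

end Cfsg.Agent.S3764
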