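import Cfsg.Statements.S3765
-- import your own Cfsg.Agent.* helpers here
import Mathlib
import Cfsg.Agent.Lib.PGroup.FpfOperatorCommutator
import Cfsg.Agent.Lib.PGroup.MinimalAction

set_option autoImplicit false
open Cfsg

namespace Cfsg.Agent.S3765

open Subgroup
open scoped commutatorElement

/-- Let p, q, r be distinct primes and let X, Q, V be subgroups of a finite group with X of order r normalizing the q-group Q and acting faithfully on it (X ∩ C(Q) = 1), and V a nontrivial elementary abelian p-group normalized by X and Q on which XQ acts faithfully. If q = 2 and r has the form 2^n + 1, assume in addition that Q is abelian. Then C_V(X) ≠ 1. -/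
theorem result {G : Type*} [Group G] [Finite G] {p q r : ℕ} (hp : p.Prime) (hq : q.Prime) (hr : r.Prime) (hpq : p ≠ q) (hpr : p ≠ r) (hqr : q ≠ r) (X Q V : Subgroup G) (hX : Nat.card X = r) (hQ : IsPGroup q Q) (hXQ : X ≤ Subgroup.normalizer (Q : Set G)) (hXfaith : X ⊓ Subgroup.centralizer (Q : Set G) = ⊥) (hV : Cfsg.IsElementaryAbelian p V) (hV1 : V ≠ ⊥) (hXV : X ≤ Subgroup.normalizer (V : Set G)) (hQV : Q ≤ Subgroup.normalizer (V : Set G)) (hfaith : (X ⊔ Q) ⊓ Subgroup.centralizer (V : Set G) = ⊥) (hexc : q = 2 → (∃ n : ℕ, r = 2 ^ n + 1) → IsMulCommutative Q) : V ⊓ Subgroup.centralizer (X : Set G) ≠ ⊥ := by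
  classical
  haveI := Fact.mk hp
  haveI := Fact.mk hq
  haveI := Fact.mk hr
  obtain ⟨⟨a, haX⟩, ha⟩ := exists_prime_orderOf_dvd_card' (G := X) r (hX ▸ dvd_rfl)
  rw [Subgroup.orderOf_mk] at ha
  have hXa : zpowers a = X := Subgroup.eq_of_le_of_card_ge (zpowers_le.2 haX) (by rw [Nat.card_zpowers, ha, hX])
  have hcent : centralizer (X : Set G) = centralizer ({a} : Set G) := by
    rw [← hXa, zpowers_eq_closure, centralizer_closure]
  have har : a ^ r = 1 := by rw [← ha]; exact pow_orderOf_eq_one a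
  intro hCV
  have hfix : V ⊓ centralizer {a} = ⊥ := by rw [← hcent]; exact hCV
  have hQX : ⁅Q, X⁆ ≠ ⊥ := by
    intro e
    rw [commutator_eq_bot_iff_le_centralizer] at e
    have hle : X ≤ X ⊓ centralizer (Q : Set G) := le_inf le_rfl (le_centralizer_iff.1 e)
    rw [hXfaith, le_bot_iff] at hle
    rw [hle, card_bot] at hX
    exact hr.ne_one hX.symm
  obtain ⟨P, hPQ, hP⟩ := exists_minimal_le_of_wellFoundedLT (α := Subgroup G)
    (fun U => U ≤ Q ∧ X ≤ normalizer (U : Set G) ∧ ⁅U, X⁆ ≠ ⊥) Q ⟨le_rfl, hXQ, hQX⟩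
  obtain ⟨-, hXP, hPX⟩ := hP.prop
  have hmin : ∀ U : Subgroup G, U < P → X ≤ normalizer (U : Set G) → ⁅U, X⁆ = ⊥ := fun U hU hn => by
    by_contra h
    exact hU.not_ge (hP.le_of_le ⟨hU.le.trans hPQ, hn, h⟩ hU.le)
  have hPp := hQ.to_le hPQ
  obtain ⟨-, htype, -, -⟩ := CfsgLib.PGroup.minimal_action_structure X X P hPp hXP le_rfl le_normalizer
    (by rw [hX]; exact (Nat.coprime_primes hr hq).2 hqr.symm) hPX hmin
  set Y := (commutator P).map P.subtype with hY
  have hYc : ∀ y ∈ Y, ∀ x ∈ P, y * x = x * y := by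
    rintro _ ⟨y, hy, rfl⟩ x hx
    rcases htype with hel | hsp
    · exact congrArg Subtype.val (isMulCommutative_iff.1 hel.1 y ⟨x, hx⟩)
    · rw [hsp.2.2] at hy
      exact (congrArg Subtype.val (mem_center_iff.1 hy ⟨x, hx⟩)).symm
  have hder : ∀ x ∈ P, ∀ y ∈ P, ⁅x, y⁆ ∈ Y := fun x hx y hy =>
    ⟨⁅(⟨x, hx⟩ : P), ⟨y, hy⟩⁆, commutator_mem_commutator (mem_top _) (mem_top _), rfl⟩
  have hYlt : Y < P := by
    refine lt_of_le_of_ne (map_subtype_le _) fun e => ?_
    haveI : Nontrivial P := (nontrivial_iff_ne_bot P).2 fun e => hPX (by rw [e, commutator_bot_left])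
    haveI := hPp.isNilpotent
    refine (Group.IsSolvable.commutator_lt_top_of_nontrivial P).ne (map_injective P.subtype_injective ?_)
    rw [← hY, e, ← MonoidHom.range_eq_map, range_subtype]
  have hYn : X ≤ normalizer (Y : Set G) := fun b hb => by
    refine mem_normalizer_iff.2 fun x => ⟨CfsgLib.PGroup.conj_mem_map_characteristic _ (hXP hb), fun h => ?_⟩
    have := CfsgLib.PGroup.conj_mem_map_characteristic (commutator P) (hXP (inv_mem hb)) h
    rwa [show b⁻¹ * (b * x * b⁻¹) * b⁻¹⁻¹ = x by group] at this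
  have hYa : ∀ y ∈ Y, a * y = y * a := fun y hy => by
    have h := commutator_eq_bot_iff_le_centralizer.1 (hmin Y hYlt hYn) hy
    exact (mem_centralizer_iff.1 h a haX)
  rcases CfsgLib.PGroup.FpfClassTwoOp.subgroup_case hV.1 hV.2 hr hpr.symm hpq.symm hqr har (hXV haX) hfix
      hPp (hPQ.trans hQV) (hXP haX) (map_subtype_le _) hYc hYa hder with h | ⟨n, hn, hq2, hrn, K, D, E, hKY, hD, hDE, hEQ, hidx, hσ⟩
  · refine hPX (le_bot_iff.1 ?_)
    rw [← hXa]
    refine CfsgLib.PGroup.FpfClassTwoOp.commutator_zpowers_le (hXP haX) fun x hx => ?_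
    rw [← hfaith]
    exact ⟨mem_sup_right (hPQ (mul_mem (inv_mem hx) ((mem_normalizer_iff.1 (hXP haX) x).1 hx))), h x hx⟩
  · have hab := hexc hq2 ⟨n, hrn⟩
    have hDQ : P ≤ D := fun d hd => (hD d).2 ⟨hd, fun x hx => by
      rw [commutatorElement_eq_one_iff_mul_comm.2
        (congrArg Subtype.val (isMulCommutative_iff.1 hab ⟨d, hPQ hd⟩ ⟨x, hPQ hx⟩) : d * x = x * d)]
      exact one_mem _⟩
    rw [relIndex_eq_one.2 (hEQ.trans hDQ)] at hidx
    have : 2 ^ 0 = 2 ^ (2 * n) := hidx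
    have := Nat.pow_right_injective le_rfl this
    omega

end Cfsg.Agent.S3765
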