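import Cfsg.Statements.S3767
-- import your own Cfsg.Agent.* helpers here
import Mathlib
import Cfsg.Agent.Lib.PGroup.ExtraspecialClassify

set_option autoImplicit false
open Cfsg

namespace Cfsg.Agent.S3767

open scoped commutatorElement

open Polynomial in
theorem roots_reverse_prod {F : Type*} [Field F] (s : Multiset F) (hs : ∀ a ∈ s, a ≠ 0) :
    ((s.map fun a => X - C a).prod).reverse.roots = s.map (·⁻¹) := by
  induction s using Multiset.induction_on with
  | empty => rw [Multiset.map_zero, Multiset.prod_zero, ← map_one C, reverse_C, roots_C, Multiset.map_zero]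
  | cons a s ih =>
    have ha : a ≠ 0 := hs a (Multiset.mem_cons_self a s)
    have h1 : (X - C a).reverse = C (-a) * (X - C a⁻¹) := by
      have : (X - C a).reverse = 1 - C a * X := by
        rw [sub_eq_add_neg, ← map_neg, reverse_add_C, natDegree_X, pow_one, map_neg,
          neg_mul, ← sub_eq_add_neg]
        simp [reverse, reflect]
      rw [this, mul_sub, ← C_mul, neg_mul, mul_inv_cancel₀ ha, map_neg, map_neg, map_one, neg_mul]
      ring
    rw [Multiset.map_cons, Multiset.prod_cons, reverse_mul_of_domain, h1, Multiset.map_cons]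
    have hne : ((s.map fun a => X - C a).prod).reverse ≠ 0 := by
      rw [Ne, reverse_eq_zero]
      exact Multiset.prod_ne_zero fun h0 => by
        obtain ⟨b, -, hb⟩ := Multiset.mem_map.1 h0
        exact X_sub_C_ne_zero b hb
    rw [roots_mul (mul_ne_zero (mul_ne_zero (C_ne_zero.2 (neg_ne_zero.2 ha)) (X_sub_C_ne_zero _)) hne),
      roots_C_mul _ (neg_ne_zero.2 ha), roots_X_sub_C, ih fun b hb => hs b (Multiset.mem_cons_of_mem hb)]
    rfl

open Polynomial in
theorem semiregular_symplectic {p : ℕ} [Fact p.Prime] {d h n : ℕ} (hd : d = 2 * n) (hh : 0 < h)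
    (hcop : h.Coprime p) (M J : Matrix (Fin d) (Fin d) (ZMod p)) (hJ : J.det ≠ 0)
    (hMJ : M.transpose * J * M = J) (hMh : M ^ h = 1) (hfpf : ∀ k, 0 < k → k < h → (M ^ k - 1).det ≠ 0) :
    h ∣ p ^ n + 1 ∨ h ∣ p ^ n - 1 := by
  classical
  rcases Nat.eq_zero_or_pos n with rfl | hn
  · right; simp
  haveI : NeZero h := ⟨hh.ne'⟩
  let F := AlgebraicClosure (ZMod p)
  haveI : CharP F p := charP_of_injective_ringHom (algebraMap (ZMod p) F).injective p
  let f := algebraMap (ZMod p) F
  set N := M.map f with hN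
  set q := N.charpoly with hq
  set R := q.roots with hR
  have hsplit : q.Splits := IsAlgClosed.splits q
  have hcard : Multiset.card R = d := by
    rw [hR, ← hsplit.natDegree_eq_card_roots, hq, Matrix.charpoly_natDegree_eq_dim, Fintype.card_fin]
  have hmapf : ∀ A : Matrix (Fin d) (Fin d) (ZMod p), A.map f = f.mapMatrix A := fun A => rfl
  -- every root is a primitive `h`-th root of unity
  have hprim : ∀ a ∈ R, IsPrimitiveRoot a h := by
    intro a ha
    have hdet : (Matrix.scalar (Fin d) a - N).det = 0 := by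
      rw [← Matrix.eval_charpoly]
      exact (mem_roots'.1 ha).2
    obtain ⟨v, hv0, hv⟩ := Matrix.exists_mulVec_eq_zero_iff.2 hdet
    have hv' : N.mulVec v = a • v := by
      rw [Matrix.sub_mulVec, sub_eq_zero] at hv
      rw [← hv, Matrix.scalar_apply]
      ext i; simp [Matrix.mulVec_diagonal]
    have hpow : ∀ k : ℕ, (N ^ k).mulVec v = a ^ k • v := by
      intro k
      induction k with
      | zero => simp
      | succ k hk => rw [pow_succ, ← Matrix.mulVec_mulVec, hv', Matrix.mulVec_smul, hk, smul_smul,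
          pow_succ, mul_comm]
    refine (IsPrimitiveRoot.iff hh).2 ⟨?_, fun k hk0 hkh hk => ?_⟩
    · have h1 := hpow h
      rw [hN, hmapf, ← map_pow, hMh, map_one, Matrix.one_mulVec] at h1
      by_contra hne
      obtain ⟨i, hi⟩ := Function.ne_iff.1 hv0
      have h2 := congrFun h1 i
      rw [Pi.smul_apply, smul_eq_mul] at h2
      exact hne (mul_right_cancel₀ hi (h2.symm.trans (one_mul _).symm))
    · have h1 : (N ^ k - 1).mulVec v = 0 := by
        rw [Matrix.sub_mulVec, hpow k, hk, one_smul, Matrix.one_mulVec, sub_self]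
      have h2 : (N ^ k - 1).det = 0 := Matrix.exists_mulVec_eq_zero_iff.1 ⟨v, hv0, h1⟩
      rw [hN, hmapf, ← map_pow, ← map_one f.mapMatrix, ← map_sub, ← RingHom.map_det] at h2
      exact hfpf k hk0 hkh ((map_eq_zero f).1 h2)
  have hne0 : ∀ a ∈ R, a ≠ 0 := fun a ha => (hprim a ha).ne_zero hh.ne'
  -- stable under inversion
  have hinv : R.map (·⁻¹) = R := by
    have hdetM : IsUnit M.det := by
      refine isUnit_iff_ne_zero.2 fun h0 => hJ ?_
      rw [← hMJ, Matrix.det_mul, h0, mul_zero]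
    have hMi : M⁻¹ = J⁻¹ * M.transpose * J := by
      refine Matrix.inv_eq_left_inv ?_
      rw [mul_assoc, mul_assoc, ← mul_assoc M.transpose, hMJ, Matrix.nonsing_inv_mul J (isUnit_iff_ne_zero.2 hJ)]
    have hJu : IsUnit J := (Matrix.isUnit_iff_isUnit_det J).2 (isUnit_iff_ne_zero.2 hJ)
    have hchar : M⁻¹.charpoly = M.charpoly := by
      obtain ⟨u, hu⟩ := hJu
      rw [hMi, ← hu, Matrix.charpoly_units_conj', Matrix.charpoly_transpose]
    have h2 : q = (C ((-1) ^ d * Ring.inverse M.det)).map f * q.reverse := by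
      have h1 := congrArg (Polynomial.map f) hchar
      rw [Matrix.charpoly_inv M ((Matrix.isUnit_iff_isUnit_det M).2 hdetM), Fintype.card_fin,
        ← Matrix.reverse_charpoly, ← Matrix.charpoly_map] at h1
      conv_lhs => rw [hq, hN, ← h1]
      rw [Polynomial.map_mul, map_mul C, map_pow, map_neg, map_one]
      congr 1
      rw [hq, hN, Matrix.charpoly_map, reverse, reverse, Polynomial.natDegree_map, ← reflect_map]
    have hc : f ((-1) ^ d * Ring.inverse M.det) ≠ 0 := by
      rw [Ne, map_eq_zero]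
      exact mul_ne_zero (pow_ne_zero _ (neg_ne_zero.2 one_ne_zero)) (IsUnit.ne_zero (isUnit_iff_ne_zero.2 (by
        rw [Ring.inverse_eq_inv']; exact inv_ne_zero hdetM.ne_zero)))
    have h3 : q.roots = q.reverse.roots := by
      conv_lhs => rw [h2, Polynomial.map_C, roots_C_mul _ hc]
    have h4 : q = (R.map fun a => X - C a).prod := hsplit.eq_prod_roots_of_monic (Matrix.charpoly_monic N)
    conv_rhs => rw [hR, h3, h4, roots_reverse_prod R hne0]
  -- stable under the Frobenius map
  have hfrob : R.map (fun a => a ^ p) = R := by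
    have h1 := hsplit.roots_map (frobenius F p)
    have h2 : q.map (frobenius F p) = q := by
      rw [hq, hN, Matrix.charpoly_map, Polynomial.map_map]
      congr 1
      ext x
      show (f x) ^ p = f x
      rw [← map_pow, ZMod.pow_card]
    rw [h2] at h1
    exact h1.symm
  obtain ⟨ζ, hζR⟩ := Multiset.exists_mem_of_ne_zero (s := R) (fun h0 => by
    rw [h0, Multiset.card_zero] at hcard; omega)
  have hζ := hprim ζ hζR
  let m : (ZMod h)ˣ → ℕ := fun u => R.count (ζ ^ (u : ZMod h).val)
  have hzval : ∀ a b : ℕ, a ≡ b [MOD h] → ζ ^ a = ζ ^ b := fun a b hab => by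
    rw [pow_eq_pow_mod a hζ.pow_eq_one, pow_eq_pow_mod b hζ.pow_eq_one, hab]
  have hval : ∀ u v : ZMod h, ζ ^ (u * v).val = (ζ ^ u.val) ^ v.val := fun u v => by
    rw [← pow_mul]; exact hzval _ _ (by rw [ZMod.val_mul, Nat.ModEq, Nat.mod_mod])
  let S : Submonoid (ZMod h)ˣ :=
    { carrier := {s | ∀ u, m (u * s) = m u}
      one_mem' := fun u => by rw [mul_one]
      mul_mem' := fun {a b} ha hb u => by rw [← mul_assoc, hb, ha] }
  let pu : (ZMod h)ˣ := ZMod.unitOfCoprime p hcop.symm
  have hneg : (-1 : (ZMod h)ˣ) ∈ S := by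
    intro u
    have e : ζ ^ ((u * -1 : (ZMod h)ˣ) : ZMod h).val = (ζ ^ (u : ZMod h).val)⁻¹ := by
      refine eq_inv_of_mul_eq_one_left ?_
      rw [← pow_add, ← pow_zero ζ]
      refine hzval _ _ ((ZMod.natCast_eq_natCast_iff _ _ _).1 ?_)
      simp
    show R.count _ = R.count _
    rw [e]
    conv_lhs => rw [← hinv]
    exact Multiset.count_map_eq_count' _ R inv_injective _
  have hpmem : pu ∈ S := by
    intro u
    have e : ζ ^ ((u * pu : (ZMod h)ˣ) : ZMod h).val = (ζ ^ (u : ZMod h).val) ^ p := by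
      rw [← pow_mul]
      refine hzval _ _ ((ZMod.natCast_eq_natCast_iff _ _ _).1 ?_)
      simp [pu, ZMod.coe_unitOfCoprime]
    show R.count _ = R.count _
    rw [e]
    conv_lhs => rw [← hfrob]
    exact Multiset.count_map_eq_count' _ R (frobenius_inj F p) _
  let K : Subgroup (ZMod h)ˣ := Subgroup.zpowers pu ⊔ Subgroup.zpowers (-1)
  have hKS : ∀ s ∈ K, s ∈ S := by
    let S' : Subgroup (ZMod h)ˣ :=
      { carrier := {s | ∀ u, m (u * s) = m u}
        one_mem' := S.one_mem
        mul_mem' := fun {a b} ha hb => S.mul_mem ha hb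
        inv_mem' := fun {a} ha u => ((ha (u * a⁻¹)).symm.trans (by rw [inv_mul_cancel_right])) }
    exact fun s hs => (sup_le (Subgroup.zpowers_le.2 hpmem) (Subgroup.zpowers_le.2 hneg) : K ≤ S') hs
  have hsum : ∑ u : (ZMod h)ˣ, m u = d := by
    rw [← hcard]
    let φ : (ZMod h)ˣ ↪ F := ⟨fun u => ζ ^ (u : ZMod h).val, fun a b hab => Units.ext
      (ZMod.val_injective h (hζ.pow_inj (ZMod.val_lt _) (ZMod.val_lt _) hab))⟩
    refine Eq.trans (Finset.sum_map Finset.univ φ (fun a => R.count a)).symm (Multiset.sum_count_eq_card ?_)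
    intro a ha
    obtain ⟨i, hi, hico, rfl⟩ := (hζ.isPrimitiveRoot_iff).1 (hprim a ha)
    refine Finset.mem_map.2 ⟨ZMod.unitOfCoprime i hico, Finset.mem_univ _, ?_⟩
    show ζ ^ (ZMod.unitOfCoprime i hico : ZMod h).val = ζ ^ i
    rw [ZMod.coe_unitOfCoprime, ZMod.val_natCast, Nat.mod_eq_of_lt hi]
  have hdvd : Nat.card K ∣ d := by
    have hbij : Function.Bijective (fun x : ((ZMod h)ˣ ⧸ K) × K => x.1.out * (x.2 : (ZMod h)ˣ)) := by
      refine ⟨fun x y hxy => ?_, fun u => ?_⟩
      · have h1 := congrArg (QuotientGroup.mk (s := K)) hxy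
        simp only [QuotientGroup.mk_mul_of_mem _ (SetLike.coe_mem _), QuotientGroup.out_eq'] at h1
        refine Prod.ext h1 (Subtype.ext ?_)
        simpa [h1] using hxy
      · exact ⟨((u : (ZMod h)ˣ ⧸ K), ⟨(u : (ZMod h)ˣ ⧸ K).out⁻¹ * u,
          QuotientGroup.eq.1 (QuotientGroup.out_eq' _)⟩), mul_inv_cancel_left _ _⟩
    rw [← hsum, ← hbij.sum_comp, Fintype.sum_prod_type]
    refine Finset.dvd_sum fun c _ => ?_
    have hconst : ∀ k : K, m (c.out * (k : (ZMod h)ˣ)) = m c.out := fun k => hKS _ k.2 _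
    rw [Finset.sum_congr rfl fun k _ => hconst k, Finset.sum_const, Finset.card_univ,
      ← Nat.card_eq_fintype_card, smul_eq_mul]
    exact Dvd.intro _ rfl
  -- conclude
  have hsq : (pu ^ n) ^ 2 = 1 := by
    rw [← pow_mul, mul_comm, ← hd]
    refine orderOf_dvd_iff_pow_eq_one.1 (dvd_trans ?_ hdvd)
    rw [← Nat.card_zpowers]
    exact Subgroup.card_dvd_of_le le_sup_left
  have hgoal : pu ^ n = 1 ∨ pu ^ n = -1 := by
    by_cases hmem : (-1 : (ZMod h)ˣ) ∈ Subgroup.zpowers pu
    · by_cases h1 : (-1 : (ZMod h)ˣ) = 1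
      · have h2 : (2 : ZMod h) = 0 := by
          have := congrArg (fun u : (ZMod h)ˣ => (u : ZMod h)) h1
          simp only [Units.val_neg, Units.val_one] at this
          linear_combination -this
        have h3 : h ∣ 2 := (ZMod.natCast_eq_zero_iff 2 h).1 (by exact_mod_cast h2)
        have : Subsingleton (ZMod h)ˣ := by
          rcases (Nat.dvd_prime Nat.prime_two).1 h3 with rfl | rfl <;>
            exact Fintype.card_le_one_iff_subsingleton.1 (by rw [ZMod.card_units_eq_totient]; decide)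
        exact Or.inl (Subsingleton.elim _ _)
      · by_contra! hne
        have hle := IsCyclic.card_pow_eq_one_le (α := ↥(Subgroup.zpowers pu)) (n := 2) (by norm_num)
        have h3 : ({1, ⟨-1, hmem⟩, ⟨pu ^ n, Subgroup.pow_mem _ (Subgroup.mem_zpowers pu) n⟩} :
            Finset ↥(Subgroup.zpowers pu)) ⊆ Finset.univ.filter (fun x => x ^ 2 = 1) := by
          intro x hx
          simp only [Finset.mem_insert, Finset.mem_singleton] at hx
          rw [Finset.mem_filter]
          refine ⟨Finset.mem_univ _, ?_⟩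
          rcases hx with rfl | rfl | rfl
          · exact one_pow _
          · exact Subtype.ext (by simp)
          · exact Subtype.ext hsq
        have h4 := (Finset.card_le_card h3).trans hle
        rw [Finset.card_eq_three.2 ⟨_, _, _, fun e => h1 (congrArg Subtype.val e).symm,
          fun e => hne.1 (congrArg Subtype.val e).symm, fun e => hne.2 (congrArg Subtype.val e).symm, rfl⟩] at h4
        omega
    · left
      have hlt : Subgroup.zpowers pu < K := lt_of_le_of_ne le_sup_left fun e =>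
        hmem (e.ge (Subgroup.mem_sup_right (Subgroup.mem_zpowers _)))
      obtain ⟨c, hc⟩ := Subgroup.card_dvd_of_le hlt.le
      have hc1 : c ≠ 1 := fun e => hlt.ne (Subgroup.eq_of_le_of_card_ge hlt.le (by rw [hc, e, mul_one]))
      have hc2 : c ∣ 2 := by
        have hle : Nat.card K ∣ Nat.card ↥(Subgroup.zpowers pu) * 2 := by
          rw [show Nat.card K = (Subgroup.zpowers pu).relIndex K * Nat.card ↥(Subgroup.zpowers pu) by
            rw [← Subgroup.relIndex_bot_left, ← Subgroup.relIndex_bot_left, mul_comm,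
              Subgroup.relIndex_mul_relIndex _ _ _ bot_le hlt.le], mul_comm]
          refine Nat.mul_dvd_mul_left _ ?_
          rw [show (Subgroup.zpowers pu).relIndex K = (Subgroup.zpowers pu).relIndex (Subgroup.zpowers (-1)) by
            rw [show K = Subgroup.zpowers (-1) ⊔ Subgroup.zpowers pu from sup_comm _ _, Subgroup.relIndex_sup_right]]
          refine (Subgroup.relIndex_dvd_of_le_left _ bot_le).trans ?_
          rw [Subgroup.relIndex_bot_left, Nat.card_zpowers]
          exact orderOf_dvd_of_pow_eq_one (by simp)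
        rw [hc] at hle
        exact Nat.dvd_of_mul_dvd_mul_left Nat.card_pos hle
      obtain rfl := ((Nat.dvd_prime Nat.prime_two).1 hc2).resolve_left hc1
      rw [hc, hd, Nat.card_zpowers, mul_comm (orderOf pu)] at hdvd
      exact orderOf_dvd_iff_pow_eq_one.1 (Nat.dvd_of_mul_dvd_mul_left two_pos hdvd)
  rcases hgoal with e | e
  · right
    have h5 := congrArg (fun u : (ZMod h)ˣ => (u : ZMod h)) e
    simp only [pu, Units.val_pow_eq_pow_val, ZMod.coe_unitOfCoprime, Units.val_one] at h5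
    refine (ZMod.natCast_eq_zero_iff _ _).1 ?_
    rw [Nat.cast_sub (Nat.one_le_pow _ _ (Fact.out : p.Prime).pos), Nat.cast_pow, h5, Nat.cast_one, sub_self]
  · left
    have h5 := congrArg (fun u : (ZMod h)ˣ => (u : ZMod h)) e
    simp only [pu, Units.val_pow_eq_pow_val, ZMod.coe_unitOfCoprime, Units.val_neg, Units.val_one] at h5
    refine (ZMod.natCast_eq_zero_iff _ _).1 ?_
    rw [Nat.cast_add, Nat.cast_pow, h5, Nat.cast_one, neg_add_cancel]


theorem semiregular_form {p : ℕ} [Fact p.Prime] {W : Type*} [CommGroup W] [Finite W] [Module (ZMod p) (Additive W)] {h n : ℕ}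
    (hW : Nat.card W = p ^ (2 * n)) (hh : 0 < h) (hcop : h.Coprime p)
    (β : W →* W) (Bf : W → W → ZMod p) (hBl : ∀ u u' v, Bf (u * u') v = Bf u v + Bf u' v)
    (hBr : ∀ u v v', Bf u (v * v') = Bf u v + Bf u v') (hnl : ∀ u, (∀ v, Bf u v = 0) → u = 1)
    (hnr : ∀ v, (∀ u, Bf u v = 0) → v = 1) (hinv : ∀ u v, Bf (β u) (β v) = Bf u v)
    (hper : ∀ w, β^[h] w = w) (hfree : ∀ k, 0 < k → k < h → ∀ w, β^[k] w = w → w = 1) :
    h ∣ p ^ n + 1 ∨ h ∣ p ^ n - 1 := by
  haveI : Module.Finite (ZMod p) (Additive W) := Module.Finite.of_finite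
  let γ : Additive W →ₗ[ZMod p] Additive W := (MonoidHom.toAdditive β).toZModLinearMap p
  have hγ : ∀ (k : ℕ) (v : Additive W), (γ ^ k) v = Additive.ofMul (β^[k] v.toMul) := by
    intro k
    induction k with
    | zero => exact fun v => rfl
    | succ k hk => exact fun v => by rw [pow_succ', Module.End.mul_apply, hk, Function.iterate_succ_apply']; rfl
  let f1 : Additive W → Additive W → ZMod p := fun u v => Bf u.toMul v.toMul
  let B : LinearMap.BilinForm (ZMod p) (Additive W) := LinearMap.mk₂ (ZMod p) f1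
    (fun a b v => hBl a.toMul b.toMul v.toMul)
    (fun c u v => ZMod.map_smul (AddMonoidHom.mk' (fun t => f1 t v) (fun a b => hBl a.toMul b.toMul v.toMul)) c u)
    (fun u a b => hBr u.toMul a.toMul b.toMul)
    (fun c u v => ZMod.map_smul (AddMonoidHom.mk' (fun t => f1 u t) (fun a b => hBr u.toMul a.toMul b.toMul)) c v)
  have hB : B.Nondegenerate :=
    ⟨fun u hu => Additive.toMul.injective (hnl u.toMul fun v => hu (Additive.ofMul v)),
      fun v hv => Additive.toMul.injective (hnr v.toMul fun u => hv (Additive.ofMul u))⟩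
  let b := Module.finBasis (ZMod p) (Additive W)
  have hdim : Module.finrank (ZMod p) (Additive W) = 2 * n := by
    have h1 := Module.natCard_eq_pow_finrank (K := ZMod p) (V := Additive W)
    rw [Nat.card_congr Additive.toMul, hW, Nat.card_zmod] at h1
    exact (Nat.pow_right_injective (Fact.out : p.Prime).two_le h1).symm
  set M := LinearMap.toMatrixAlgEquiv b γ with hM
  refine semiregular_symplectic hdim hh hcop M (BilinForm.toMatrix b B)
    ((LinearMap.BilinForm.nondegenerate_iff_det_ne_zero b).1 hB) ?_ ?_ fun k hk0 hkh h0 => ?_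
  · have := LinearMap.BilinForm.toMatrix_comp b b B γ γ
    rw [show B.comp γ γ = B from LinearMap.ext₂ fun u v => hinv u.toMul v.toMul] at this
    exact this.symm
  · rw [hM, ← map_pow, show γ ^ h = 1 from LinearMap.ext fun v => by rw [hγ, hper]; rfl, map_one]
  · obtain ⟨w, hw0, hw⟩ := Matrix.exists_mulVec_eq_zero_iff.2 h0
    set v := b.equivFun.symm w with hv
    have hrepr : ⇑(b.repr v) = w := by
      rw [← b.equivFun_apply, hv, LinearEquiv.apply_symm_apply]
    have h2 : (γ ^ k) v = v := by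
      apply b.repr.injective
      apply DFunLike.coe_injective
      rw [← LinearMap.toMatrix_mulVec_repr b b (γ ^ k) v, hrepr]
      have h3 : LinearMap.toMatrix b b (γ ^ k) = M ^ k := by
        rw [hM, ← map_pow]; rfl
      rw [Matrix.sub_mulVec, Matrix.one_mulVec, sub_eq_zero] at hw
      rw [h3, hw]
    rw [hγ] at h2
    have h4 : v = 0 := Additive.toMul.injective (hfree k hk0 hkh v.toMul (congrArg Additive.toMul h2))
    rw [h4, map_zero] at hrepr
    exact hw0 (hrepr ▸ rfl)

/-- Let P be an extraspecial p-group of order p^(2n+1) and H a cyclic group of order h prime to p acting on P (inside a common finite group: H normalizes P) so that C_P(x) = Z(P) for every non-identity x ∈ H. Then h divides p^n + 1 or h divides p^n − 1. -/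
theorem result {G : Type*} [Group G] [Finite G] {p : ℕ} [Fact p.Prime] (P H : Subgroup G) (hP : Cfsg.IsExtraspecial p ↥P) (n : ℕ) (hn : Nat.card P = p ^ (2 * n + 1)) (hH : IsCyclic H) (hcop : (Nat.card H).Coprime p) (hHP : H ≤ Subgroup.normalizer (P : Set G)) (hfix : ∀ x ∈ H, x ≠ 1 → P ⊓ Subgroup.centralizer {x} = (Subgroup.center ↥P).map P.subtype) : Nat.card H ∣ p ^ n + 1 ∨ Nat.card H ∣ p ^ n - 1 := by
  classical
  have hp : p.Prime := Fact.out
  obtain ⟨hsc, -⟩ := CfsgLib.PGroup.smallCenter_of_extraspecial hP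
  set Z : Subgroup ↥P := Subgroup.center ↥P with hZ
  letI : CommGroup (↥P ⧸ Z) :=
    { (inferInstance : Group (↥P ⧸ Z)) with
      mul_comm := fun a b => by
        induction a using QuotientGroup.induction_on with | H a => ?_
        induction b using QuotientGroup.induction_on with | H b => ?_
        rw [← QuotientGroup.mk_mul, ← QuotientGroup.mk_mul, QuotientGroup.eq]
        rw [show (a * b)⁻¹ * (b * a) = ⁅b⁻¹, a⁻¹⁆ by rw [commutatorElement_def]; group]
        exact hsc.comm_mem _ _ }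
  obtain ⟨g, hg⟩ := hH.exists_generator
  have hord : orderOf g = Nat.card H := orderOf_eq_card_of_forall_mem_zpowers hg
  -- the automorphism
  let α : ↥P ≃* ↥P :=
    { toFun := fun x => ⟨(g : G) * x * (g : G)⁻¹, (Subgroup.mem_normalizer_iff.1 (hHP g.2) x).1 x.2⟩
      invFun := fun x => ⟨(g : G)⁻¹ * x * (g : G), by
        have := (Subgroup.mem_normalizer_iff.1 (inv_mem (hHP g.2)) x).1 x.2
        rwa [inv_inv] at this⟩
      left_inv := fun x => Subtype.ext (by show (g : G)⁻¹ * ((g : G) * x * (g : G)⁻¹) * g = x; group)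
      right_inv := fun x => Subtype.ext (by show (g : G) * ((g : G)⁻¹ * x * g) * (g : G)⁻¹ = x; group)
      map_mul' := fun x y => Subtype.ext (by
        show (g : G) * (x * y) * (g : G)⁻¹ = (g : G) * x * (g : G)⁻¹ * ((g : G) * y * (g : G)⁻¹)
        group) }
  let β : (↥P ⧸ Z) →* (↥P ⧸ Z) := QuotientGroup.map Z Z α.toMonoidHom (fun z hz =>
    Subgroup.mem_center_iff.2 fun w => by
      obtain ⟨w, rfl⟩ := α.surjective w
      show α w * α z = α z * α w
      rw [← map_mul, ← map_mul, Subgroup.mem_center_iff.1 hz w])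
  have hβk : ∀ (k : ℕ) (x : ↥P), ∃ y : ↥P, (y : G) = (g : G) ^ k * x * ((g : G) ^ k)⁻¹ ∧
      β^[k] (x : ↥P ⧸ Z) = (y : ↥P ⧸ Z) := by
    intro k
    induction k with
    | zero => exact fun x => ⟨x, by simp, rfl⟩
    | succ k hk =>
      intro x
      obtain ⟨y, hy, hy'⟩ := hk x
      refine ⟨α y, ?_, ?_⟩
      · show (g : G) * y * (g : G)⁻¹ = _
        rw [hy, pow_succ']; group
      · rw [Function.iterate_succ_apply', hy']
        rfl
  -- fixed points
  have hfix' : ∀ (k : ℕ), g ^ k ≠ 1 → ∀ w : ↥P ⧸ Z, β^[k] w = w → w = 1 := by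
    intro k hk v hv
    obtain ⟨x, rfl⟩ := QuotientGroup.mk_surjective v
    rw [QuotientGroup.eq_one_iff]
    obtain ⟨y, hy, hy'⟩ := hβk k x
    have hv' : (y : ↥P ⧸ Z) = (x : ↥P ⧸ Z) := hy'.symm.trans hv
    set c : G := (g : G) ^ k with hc
    have hck : (⟨c, Subgroup.pow_mem _ g.2 k⟩ : H) = g ^ k := Subtype.ext rfl
    have hc1 : c ≠ 1 := fun e => hk (hck ▸ Subtype.ext e)
    have hfx := hfix c (Subgroup.pow_mem _ g.2 k) hc1
    set z : ↥P := x⁻¹ * y with hz
    have hzZ : z ∈ Z := QuotientGroup.eq.1 hv'.symm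
    have hzc : Commute c (z : G) := by
      have h1 : (z : G) ∈ P ⊓ Subgroup.centralizer {c} := hfx ▸ ⟨z, hzZ, rfl⟩
      exact (Subgroup.mem_centralizer_singleton_iff.1 h1.2).symm
    have h0 : c * x * c⁻¹ = x * (z : G) := by
      rw [← hy, hz, Subgroup.coe_mul, Subgroup.coe_inv, mul_inv_cancel_left]
    have hiter : ∀ j : ℕ, c ^ j * x * (c ^ j)⁻¹ = x * (z : G) ^ j := by
      intro j
      induction j with
      | zero => simp
      | succ j hj =>
        calc c ^ (j + 1) * x * (c ^ (j + 1))⁻¹ = c * (c ^ j * x * (c ^ j)⁻¹) * c⁻¹ := by rw [pow_succ']; group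
          _ = (c * x * c⁻¹) * (c * (z : G) ^ j * c⁻¹) := by rw [hj]; group
          _ = x * (z : G) * (z : G) ^ j := by rw [h0, (hzc.pow_right j).eq, mul_inv_cancel_right]
          _ = x * (z : G) ^ (j + 1) := by rw [pow_succ', mul_assoc]
    have hch : c ^ Nat.card H = 1 := by
      have := congrArg Subtype.val (pow_card_eq_one' (G := H) (x := g ^ k))
      simpa only [Subgroup.coe_pow, Subgroup.coe_one, hc] using this
    have h1 := hiter (Nat.card H)
    rw [hch, inv_one, mul_one, one_mul] at h1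
    have hzh : z ^ Nat.card H = 1 := Subtype.ext (by
      simpa using (mul_eq_left.1 h1.symm))
    have hzp : (⟨z, hzZ⟩ : Z) ^ p = 1 := by
      have := pow_card_eq_one' (G := Z) (x := ⟨z, hzZ⟩)
      rwa [hsc.card_center] at this
    have hz1 : z = 1 := orderOf_eq_one_iff.1 (Nat.eq_one_of_dvd_coprimes hcop
      (orderOf_dvd_of_pow_eq_one hzh) (orderOf_dvd_of_pow_eq_one (congrArg Subtype.val hzp)))
    have hxc : (x : G) ∈ P ⊓ Subgroup.centralizer {c} := by
      refine ⟨x.2, Subgroup.mem_centralizer_singleton_iff.2 ?_⟩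
      rw [hz1, Subgroup.coe_one, mul_one] at h0
      exact (eq_mul_inv_iff_mul_eq.1 h0.symm)
    rw [hfx] at hxc
    obtain ⟨w, hw, hwx⟩ := hxc
    exact (Subtype.ext hwx : w = x) ▸ hw
  -- the form
  have hcyc : Nat.card Z = p := hsc.card_center
  haveI : IsCyclic Z := isCyclic_of_prime_card hcyc
  let e : Additive Z ≃+ ZMod p := ((zmodCyclicMulEquiv (G := Z) inferInstance).symm.toAdditiveLeft).trans
    ((ZMod.ringEquivCongr hcyc).toAddEquiv)
  let cm : ↥P → ↥P → Additive Z := fun a b => Additive.ofMul ⟨⁅a, b⁆, hsc.comm_mem a b⟩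
  have hl : ∀ a a' b, cm (a * a') b = cm a b + cm a' b := fun a a' b =>
    congrArg Additive.ofMul (Subtype.ext (map_mul (CfsgLib.PGroup.commHom hsc.comm_mem b) a a') :
      (⟨_, hsc.comm_mem (a * a') b⟩ : Z) = ⟨_, hsc.comm_mem a b⟩ * ⟨_, hsc.comm_mem a' b⟩)
  have hsw : ∀ a b, cm b a = -cm a b := fun a b =>
    congrArg Additive.ofMul (Subtype.ext (commutatorElement_inv a b).symm :
      (⟨_, hsc.comm_mem b a⟩ : Z) = (⟨_, hsc.comm_mem a b⟩ : Z)⁻¹)
  have hzero : ∀ a b, cm a b = 0 ↔ ⁅a, b⁆ = 1 := fun a b =>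
    ⟨fun hh => congrArg (fun t : Additive Z => (t.toMul : ↥P)) hh,
      fun hh => congrArg Additive.ofMul (Subtype.ext hh : (⟨_, hsc.comm_mem a b⟩ : Z) = 1)⟩
  have hwd : ∀ a b z, z ∈ Z → cm (a * z) b = cm a b := fun a b z hz => by
    rw [hl, (hzero z b).2 (commutatorElement_eq_one_iff_mul_comm.2 (Subgroup.mem_center_iff.1 hz b).symm), add_zero]
  let rep : ↥P ⧸ Z → ↥P := Quotient.out
  have hrep : ∀ (a : ↥P) (b : ↥P), cm (rep (a : ↥P ⧸ Z)) b = cm a b := fun a b => by
    have hz : a⁻¹ * rep (a : ↥P ⧸ Z) ∈ Z := QuotientGroup.eq.1 (QuotientGroup.out_eq' _).symm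
    rw [← mul_inv_cancel_left a (rep _), hwd _ _ _ hz]
  have hrep2 : ∀ (a : ↥P) (b : ↥P), cm b (rep (a : ↥P ⧸ Z)) = cm b a := fun a b => by
    rw [hsw, hrep, ← hsw]
  let Bf : ↥P ⧸ Z → ↥P ⧸ Z → ZMod p := fun u v => e (cm (rep u) (rep v))
  have hs : ∀ u v, Bf u v = -Bf v u := fun u v => by
    show e _ = -e _
    rw [← map_neg, ← hsw]
  have hBl : ∀ u u' v, Bf (u * u') v = Bf u v + Bf u' v := by
    intro u u' v
    obtain ⟨a, rfl⟩ := QuotientGroup.mk_surjective u
    obtain ⟨a', rfl⟩ := QuotientGroup.mk_surjective u'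
    show e _ = e _ + e _
    rw [← map_add, ← QuotientGroup.mk_mul, hrep, hrep, hrep, hl]
  have hBr : ∀ u v v', Bf u (v * v') = Bf u v + Bf u v' := fun u v v' => by
    rw [hs u, hBl, hs u v, hs u v']; ring
  have hnl : ∀ u, (∀ v, Bf u v = 0) → u = 1 := by
    intro u hu
    obtain ⟨a, rfl⟩ := QuotientGroup.mk_surjective u
    rw [QuotientGroup.eq_one_iff]
    refine Subgroup.mem_center_iff.2 fun b => ?_
    have h1 : cm (rep (a : ↥P ⧸ Z)) (rep (b : ↥P ⧸ Z)) = 0 := e.map_eq_zero_iff.1 (hu _)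
    rw [hrep, hrep2, hzero] at h1
    exact (commutatorElement_eq_one_iff_mul_comm.1 h1).symm
  have hexp : ∀ w : ↥P ⧸ Z, w ^ p = 1 := by
    intro w
    obtain ⟨a, rfl⟩ := QuotientGroup.mk_surjective w
    rw [← QuotientGroup.mk_pow, QuotientGroup.eq_one_iff]
    exact hsc.pow_mem a
  refine @semiregular_form p _ (↥P ⧸ Z) _ _
    (AddCommGroup.zmodModule fun x => Additive.toMul.injective (hexp x.toMul)) (Nat.card H) n ?_ Nat.card_pos hcop β Bf hBl hBr hnl
    (fun v hv => hnl v fun u => by rw [hs, hv, neg_zero]) ?_ ?_ fun k hk0 hkh => hfix' k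
      (pow_ne_one_of_lt_orderOf hk0.ne' (hord ▸ hkh))
  · have h2 : Nat.card ↥P = Nat.card (↥P ⧸ Z) * Nat.card Z := Subgroup.card_eq_card_quotient_mul_card_subgroup Z
    rw [hn, hcyc, pow_succ] at h2
    exact (Nat.eq_of_mul_eq_mul_right hp.pos h2).symm
  · intro u v
    obtain ⟨a, rfl⟩ := QuotientGroup.mk_surjective u
    obtain ⟨b, rfl⟩ := QuotientGroup.mk_surjective v
    show e (cm (rep ((α a : ↥P) : ↥P ⧸ Z)) (rep ((α b : ↥P) : ↥P ⧸ Z))) = e (cm (rep _) (rep _))
    rw [hrep, hrep2, hrep, hrep2]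
    congr 1
    by_cases hg1 : g = 1
    · have : ∀ x, α x = x := fun x => Subtype.ext (by
        show (g : G) * x * (g : G)⁻¹ = x; simp [hg1])
      rw [this, this]
    refine congrArg Additive.ofMul (Subtype.ext ?_)
    show ⁅α a, α b⁆ = ⁅a, b⁆
    rw [← map_commutatorElement]
    have hmem : ((⁅a, b⁆ : ↥P) : G) ∈ P ⊓ Subgroup.centralizer {(g : G)} := by
      rw [hfix g g.2 (fun hh => hg1 (Subtype.ext hh))]
      exact ⟨_, hsc.comm_mem a b, rfl⟩
    refine Subtype.ext ?_
    show (g : G) * _ * (g : G)⁻¹ = _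
    rw [← Subgroup.mem_centralizer_singleton_iff.1 hmem.2, mul_inv_cancel_right]
  · intro w
    obtain ⟨a, rfl⟩ := QuotientGroup.mk_surjective w
    obtain ⟨y, hy, hy'⟩ := hβk (Nat.card H) a
    rw [← Subgroup.coe_pow, pow_card_eq_one', Subgroup.coe_one, one_mul, inv_one, mul_one] at hy
    rw [hy', Subtype.ext hy]

end Cfsg.Agent.S3767
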