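import Cfsg.Statements.S3768
import Cfsg.Agent.Lib.Coprime.Frobenius
import Cfsg.Agent.Lib.Coprime.Action

set_option autoImplicit false
open Cfsg

namespace Cfsg.Agent.S3768

/-- Let G be a finite Frobenius group with Frobenius complement R and Frobenius kernel K (the identity together with the elements in no conjugate of R), and let N be a normal subgroup of G not containing K. Then G/N is a Frobenius group with Frobenius complement RN/N whose Frobenius kernel is the image of K. -/
theorem result {G : Type*} [Group G] [Finite G] (R : Subgroup G) (hR : Cfsg.IsFrobeniusComplement R) (N : Subgroup G) [N.Normal] (hKN : ¬ Cfsg.frobeniusKernel R ⊆ N) : Cfsg.IsFrobeniusComplement (R.map (QuotientGroup.mk' N)) ∧ Cfsg.frobeniusKernel (R.map (QuotientGroup.mk' N)) = QuotientGroup.mk' N '' Cfsg.frobeniusKernel R := by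
  classical
  obtain ⟨K, hKs, hKn, hc⟩ := CfsgLib.Coprime.frob_kernel_subgroup hR
  haveI := hKn
  rw [← hKs] at hKN ⊢
  have hKne : K ≠ ⊥ := fun e => hKN (by rw [e]; intro x hx; simp [Subgroup.mem_bot.1 hx, one_mem])
  have hfpf := (CfsgLib.Coprime.frob_iff_fixed_point_free hc hKne hR.1).1 hR
  -- `N` lies in the kernel
  have hNK : N ≤ K := by
    intro x hx
    by_contra hxK
    have hxK' : x ∉ Cfsg.frobeniusKernel R := fun h => hxK (hKs.ge h)
    rw [CfsgLib.Coprime.frob_mem_kernel_iff] at hxK'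
    push Not at hxK'
    obtain ⟨hx1, g, hg⟩ := hxK'
    set h := g⁻¹ * x * g
    have hh1 : h ≠ 1 := fun e => hx1 (by
      have := congrArg (fun y => g * y * g⁻¹) e
      simpa [h, mul_assoc] using this)
    have hhN : h ∈ N := by
      simpa [h] using (inferInstance : N.Normal).conj_mem x hx g⁻¹
    let f : K → K := fun k => ⟨k * h * (k : G)⁻¹ * h⁻¹, by
      rw [mul_assoc (k : G), mul_assoc (k : G)]
      exact K.mul_mem k.2 (hKn.conj_mem (k : G)⁻¹ (K.inv_mem k.2) h)⟩
    have hf : Function.Injective f := by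
      intro a b hab
      have h1 : (a : G) * h * (a : G)⁻¹ = b * h * (b : G)⁻¹ :=
        mul_right_cancel (congrArg Subtype.val hab)
      have h2 : (b : G)⁻¹ * a ∈ K ⊓ Subgroup.centralizer ({h} : Set G) := by
        refine Subgroup.mem_inf.2 ⟨K.mul_mem (K.inv_mem b.2) a.2, Subgroup.mem_centralizer_singleton_iff.2 ?_⟩
        rw [mul_inv_eq_iff_eq_mul] at h1
        rw [mul_assoc, h1]
        group
      rw [hfpf h hg hh1, Subgroup.mem_bot, inv_mul_eq_one] at h2
      exact Subtype.ext h2.symm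
    refine hKN fun k hk => ?_
    obtain ⟨a, ha⟩ := Finite.surjective_of_injective hf ⟨k, hk⟩
    rw [show k = (a : G) * h * (a : G)⁻¹ * h⁻¹ from (congrArg Subtype.val ha).symm]
    exact mul_mem ((inferInstance : N.Normal).conj_mem h hhN a) (inv_mem hhN)
  set π := QuotientGroup.mk' N
  set K' := K.map π
  set R' := R.map π
  haveI : K'.Normal := hKn.map π (QuotientGroup.mk'_surjective N)
  have hdisj : Disjoint K' R' := by
    rw [Subgroup.disjoint_def]
    rintro _ ⟨k, hk, rfl⟩ ⟨r, hr, hrk⟩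
    have h1 : k⁻¹ * r ∈ N := by
      rw [← QuotientGroup.eq_one_iff, QuotientGroup.mk_mul, QuotientGroup.mk_inv, inv_mul_eq_one]
      exact hrk.symm
    have h2 : r ∈ K := by simpa using mul_mem hk (hNK h1)
    have h3 : r = 1 := Subgroup.disjoint_def.1 hc.disjoint h2 hr
    rw [← hrk, h3, map_one]
  have hc' : Subgroup.IsComplement' K' R' := by
    refine Subgroup.isComplement'_of_disjoint_and_mul_eq_univ hdisj ?_
    rw [← Subgroup.normal_mul, ← Subgroup.coe_top, ← Subgroup.map_sup, hc.sup_eq_top,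
      Subgroup.map_top_of_surjective π (QuotientGroup.mk'_surjective N)]
  have hK'ne : K' ≠ ⊥ := fun e => hKN fun k hk =>
    (QuotientGroup.eq_one_iff k).1 (Subgroup.mem_bot.1 (e.le ⟨k, hk, rfl⟩))
  have hR'ne : R' ≠ ⊥ := fun e => hR.1 ((Subgroup.eq_bot_iff_forall R).2 fun r hr =>
    Subgroup.disjoint_def.1 hc.disjoint
      (hNK ((QuotientGroup.eq_one_iff r).1 (Subgroup.mem_bot.1 (e.le ⟨r, hr, rfl⟩)))) hr)
  have hcop : ∀ r : G, r ∈ R → (Nat.card (Subgroup.zpowers r)).Coprime (Nat.card N) := by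
    intro r hr
    have h1 : (Nat.card R).Coprime (Nat.card K) := by
      have := CfsgLib.Coprime.frob_coprime_card_index hR
      rwa [hc.index_eq_card] at this
    exact (h1.coprime_dvd_left (Subgroup.card_dvd_of_le (Subgroup.zpowers_le.2 hr))).coprime_dvd_right
      (Subgroup.card_dvd_of_le hNK)
  have hF : Cfsg.IsFrobeniusComplement R' := by
    refine (CfsgLib.Coprime.frob_iff_fixed_point_free hc' hK'ne hR'ne).2 ?_
    rintro _ ⟨r, hr, rfl⟩ hr1
    rw [Subgroup.eq_bot_iff_forall]
    rintro _ ⟨⟨k, hk, rfl⟩, hkc⟩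
    have hfix : ∀ a ∈ Subgroup.zpowers r, a * k * a⁻¹ * k⁻¹ ∈ N := by
      intro a ha
      obtain ⟨i, rfl⟩ := ha
      rw [← QuotientGroup.eq_one_iff]
      simp only [QuotientGroup.mk_mul, QuotientGroup.mk_inv, QuotientGroup.mk_zpow]
      have hcm : Commute (π k) (π r) := Subgroup.mem_centralizer_singleton_iff.1 hkc
      change π r ^ i * π k * (π r ^ i)⁻¹ * (π k)⁻¹ = 1
      rw [((hcm.zpow_right i).symm).eq, mul_inv_cancel_right, mul_inv_cancel]
    obtain ⟨m, hm, hmk⟩ := CfsgLib.Coprime.exists_fixed_in_coset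
      (by rw [Subgroup.normalizer_eq_top]; exact le_top) (hcop r hr) (Or.inl inferInstance)
      (by rw [Subgroup.normalizer_eq_top]; trivial) hfix
    have hr1' : r ≠ 1 := fun e => hr1 (by rw [e, map_one])
    have hmem : k * m ∈ K ⊓ Subgroup.centralizer ({r} : Set G) :=
      ⟨mul_mem hk (hNK hm), Subgroup.mem_centralizer_singleton_iff.2
        (Subgroup.mem_centralizer_iff.1 hmk r (Subgroup.mem_zpowers r)).symm⟩
    rw [hfpf r hr hr1', Subgroup.mem_bot] at hmem
    refine (QuotientGroup.eq_one_iff k).2 ?_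
    rw [eq_inv_of_mul_eq_one_left hmem]
    exact inv_mem hm
  refine ⟨hF, ?_⟩
  obtain ⟨K'', hK'', hn'', hc''⟩ := CfsgLib.Coprime.frob_kernel_subgroup hF
  have hle : K' ≤ K'' := by
    intro x hx
    rw [← SetLike.mem_coe, hK'', CfsgLib.Coprime.frob_mem_kernel_iff]
    by_cases hx1 : x = 1
    · exact Or.inl hx1
    refine Or.inr fun g hg => hx1 ?_
    have h2 : g⁻¹ * x * g ∈ K' := by
      simpa using (inferInstance : K'.Normal).conj_mem x hx g⁻¹
    have h3 := congrArg (fun y => g * y * g⁻¹) (Subgroup.disjoint_def.1 hdisj h2 hg)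
    simpa [mul_assoc] using h3
  have he : K' = K'' := Subgroup.eq_of_le_of_card_ge hle (le_of_eq (by
    rw [← hc'.index_eq_card, ← hc''.index_eq_card]))
  rw [← hK'', ← he]
  rfl

end Cfsg.Agent.S3768
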