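import Cfsg.Statements.S3770
-- import your own Cfsg.Agent.* helpers here
import Mathlib
import Cfsg.Agent.Lib.PGroup.OneFixedFrobenius
import Cfsg.Agent.Lib.CFun.OddZgroupCore
import Cfsg.Agent.Lib.Coprime.Frobenius

set_option autoImplicit false
open Cfsg

namespace Cfsg.Agent.S3770

open Subgroup
open scoped commutatorElement

/-- Let G and V be subgroups of a finite group with G a Frobenius group with complement R of prime order and kernel K, G normalizing V, and V an elementary abelian ℓ-group for a prime ℓ not dividing the order of G. If C_V(R) has order ℓ, then the derived subgroup of K centralizes V. -/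
theorem result {X : Type*} [Group X] [Finite X] (G : Subgroup X) (V : Subgroup X) {ℓ : ℕ} (hℓ : ℓ.Prime) (hV : Cfsg.IsElementaryAbelian ℓ V) (hℓG : ¬ ℓ ∣ Nat.card G) (hGV : G ≤ Subgroup.normalizer (V : Set X)) (R : Subgroup ↥G) (hR : Cfsg.IsFrobeniusComplement R) (hRp : (Nat.card R).Prime) (hCV : Nat.card ↥(V ⊓ Subgroup.centralizer ((R.map G.subtype : Subgroup X) : Set X)) = ℓ) : ⁅Subgroup.closure (Subtype.val '' Cfsg.frobeniusKernel R), Subgroup.closure (Subtype.val '' Cfsg.frobeniusKernel R)⁆ ≤ Subgroup.centralizer (V : Set X) := by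
  classical
  haveI := Fact.mk hℓ
  obtain ⟨N₀, hN₀, hN₀n, -, hN₀nil⟩ := CfsgLib.Coprime.frob_kernel_data hR
  set K := N₀.map G.subtype with hK
  have hcl : closure (Subtype.val '' Cfsg.frobeniusKernel R) = K := by
    rw [← hN₀]
    refine le_antisymm ((closure_le _).2 ?_) ?_
    · rintro _ ⟨x, hx, rfl⟩; exact mem_map_of_mem _ hx
    · rintro _ ⟨x, hx, rfl⟩; exact subset_closure ⟨x, hx, rfl⟩
  rw [hcl]
  haveI := Fact.mk hRp
  obtain ⟨a₀, ha₀⟩ := exists_prime_orderOf_dvd_card' (G := R) (Nat.card R) dvd_rfl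
  have hgen : zpowers a₀ = ⊤ := eq_top_of_card_eq _ (by rw [Nat.card_zpowers, ha₀])
  set a : X := ((a₀ : G) : X) with ha
  have hRz : R.map G.subtype = zpowers a := by
    have h1 := congrArg (map R.subtype) hgen
    rw [MonoidHom.map_zpowers, ← MonoidHom.range_eq_map, range_subtype] at h1
    rw [← h1, MonoidHom.map_zpowers]
    rfl
  set N := normalizer (V : Set X) with hN
  have haN : a ∈ N := hGV (a₀ : G).2
  have hKN : K ≤ N := (map_subtype_le N₀).trans hGV
  letI : CommGroup V :=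
    { (inferInstance : Group V) with mul_comm := fun x y => isMulCommutative_iff.1 hV.1 x y }
  let c : N →* MulAut V := V.normalizerMonoidHom
  have hVl : ∀ v : V, v ^ ℓ = 1 := fun v => Subtype.ext (by simpa using hV.2 v v.2)
  let k := AlgebraicClosure (ZMod ℓ)
  haveI : CharP k ℓ := charP_of_injective_algebraMap (algebraMap (ZMod ℓ) k).injective ℓ
  obtain ⟨hfd, -⟩ := CfsgLib.PGroup.finrank_addHom (V := V) hVl k
  have hcast : ∀ m : ℕ, m ∣ Nat.card G → (m : k) ≠ 0 := fun m hm e =>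
    hℓG (((CharP.cast_eq_zero_iff k ℓ m).1 e).trans hm)
  have har : (⟨a, haN⟩ : N) ^ Nat.card R = 1 := Subtype.ext (by
    show a ^ Nat.card R = 1
    rw [ha, ← coe_pow, ← coe_pow, ← ha₀, pow_orderOf_eq_one]; rfl)
  set C := V ⊓ centralizer ((R.map G.subtype : Subgroup X) : Set X) with hC
  haveI : IsCyclic C := isCyclic_of_prime_card (p := ℓ) hCV
  obtain ⟨v₀, hv₀⟩ := IsCyclic.exists_generator (α := C)
  have hone : CfsgLib.CFun.OpW.OneFixed (CfsgLib.PGroup.dRep k c) (⟨a, haN⟩ : N) := by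
    refine CfsgLib.CFun.ZLen.oneFixed_dRep (hcast _ R.card_subgroup_dvd_card) har
      (⟨(v₀ : X), v₀.2.1⟩ : V) fun v hv => ?_
    have hv' : a * (v : X) * a⁻¹ = v := congrArg Subtype.val hv
    have hvC : (v : X) ∈ C := by
      refine ⟨v.2, mem_centralizer_iff.2 fun b hb => ?_⟩
      rw [SetLike.mem_coe, hRz] at hb
      obtain ⟨i, rfl⟩ := hb
      exact ((show Commute a v from mul_inv_eq_iff_eq_mul.1 hv').zpow_left i).eq
    obtain ⟨j, hj⟩ := mem_powers_iff_mem_zpowers.2 (hv₀ ⟨v, hvC⟩)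
    exact ⟨j, Subtype.ext (by simpa using (congrArg Subtype.val hj).symm)⟩
  have hmain := CfsgLib.PGroup.OneFixedFrob.comm_of_oneFixed (CfsgLib.PGroup.dRep k c)
    (K := K.subgroupOf N) (a := (⟨a, haN⟩ : N)) hRp har ?_ ?_ ?_ ?_ hone
  · rw [commutator_le]
    intro x hx y hy
    have e := hmain ⟨x, hKN hx⟩ hx ⟨y, hKN hy⟩ hy
    have e' : c (⟨x, hKN hx⟩ * ⟨y, hKN hy⟩)⁻¹ = c (⟨y, hKN hy⟩ * ⟨x, hKN hx⟩)⁻¹ :=
      MulEquiv.ext fun v => CfsgLib.CFun.ZLen.eq_of_dRep_eq hVl e v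
    rw [map_inv, map_inv, inv_inj] at e'
    refine mem_centralizer_iff.2 fun v hv => ?_
    have hm : y⁻¹ * (x⁻¹ * v * x) * y ∈ V :=
      (mem_normalizer_iff''.1 (hKN hy) _).1 ((mem_normalizer_iff''.1 (hKN hx) v).1 hv)
    have h1 := congrArg (fun f : MulAut V => ((f ⟨_, hm⟩ : V) : X)) e'
    replace h1 : x * y * (y⁻¹ * (x⁻¹ * v * x) * y) * (x * y)⁻¹ = y * x * (y⁻¹ * (x⁻¹ * v * x) * y) * (y * x)⁻¹ := h1
    rw [commutatorElement_def]
    have h2 : v = (y * x * y⁻¹ * x⁻¹) * v * (y * x * y⁻¹ * x⁻¹)⁻¹ := by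
      calc v = x * y * (y⁻¹ * (x⁻¹ * v * x) * y) * (x * y)⁻¹ := by group
        _ = y * x * (y⁻¹ * (x⁻¹ * v * x) * y) * (y * x)⁻¹ := h1
        _ = (y * x * y⁻¹ * x⁻¹) * v * (y * x * y⁻¹ * x⁻¹)⁻¹ := by group
    calc v * (x * y * x⁻¹ * y⁻¹) = (y * x * y⁻¹ * x⁻¹)⁻¹ * ((y * x * y⁻¹ * x⁻¹) * v * (y * x * y⁻¹ * x⁻¹)⁻¹) * (y * x * y⁻¹ * x⁻¹)⁻¹⁻¹ * (x * y * x⁻¹ * y⁻¹) := by group
      _ = (y * x * y⁻¹ * x⁻¹)⁻¹ * v * (y * x * y⁻¹ * x⁻¹)⁻¹⁻¹ * (x * y * x⁻¹ * y⁻¹) := by rw [← h2]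
      _ = (x * y * x⁻¹ * y⁻¹) * v := by group
  · refine mem_normalizer_iff.2 fun z => ?_
    have hn : G ≤ normalizer (K : Set X) := by
      have h1 := le_normalizer_map (H := N₀) G.subtype
      rwa [normalizer_eq_top_iff.2 hN₀n, ← MonoidHom.range_eq_map, range_subtype] at h1
    exact mem_normalizer_iff.1 (hn (a₀ : G).2) (z : X)
  · rintro z hz e
    obtain ⟨u, hu, huz⟩ := hz
    refine Subtype.ext ?_
    have hc : Commute a (z : X) := mul_inv_eq_iff_eq_mul.1 (congrArg Subtype.val e)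
    have ha1 : (a₀ : G) ≠ 1 := fun h1 => hRp.ne_one (by
      rw [← ha₀, ← Subgroup.orderOf_coe, h1, orderOf_one])
    have hc' : Commute (a₀ : G) u := Subtype.ext (by
      have h2 : a * (u : X) = (u : X) * a := by rw [show (u : X) = z from huz]; exact hc
      exact h2)
    have hu1 := CfsgLib.Coprime.frob_kernel_inter
      (show u ∈ Cfsg.frobeniusKernel R by rw [← hN₀]; exact hu)
      (CfsgLib.Coprime.frob_mem_of_commute hR a₀.2 ha1 hc')
    show (z : X) = 1
    rw [show (z : X) = G.subtype u from huz.symm, hu1]; rfl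
  · exact Group.nilpotent_of_surjective
      ((N₀.equivMapOfInjective G.subtype G.subtype_injective).trans
        (subgroupOfEquivOfLe hKN).symm).toMonoidHom
      ((N₀.equivMapOfInjective G.subtype G.subtype_injective).trans
        (subgroupOfEquivOfLe hKN).symm).surjective
  · refine hcast _ ?_
    rw [Nat.card_congr (subgroupOfEquivOfLe hKN).toEquiv, hK, card_map_of_injective G.subtype_injective]
    exact N₀.card_subgroup_dvd_card

end Cfsg.Agent.S3770
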