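import Cfsg.Statements.S3771
import Cfsg.Agent.Lib.Invol.NormalFour
import Cfsg.Agent.Lib.PGroup.ShortTools
import Cfsg.Agent.Lib.Coprime.Component
import Cfsg.Agent.Lib.Coprime.Solvable

set_option autoImplicit false
set_option linter.style.haveILetI false
open Cfsg

namespace Cfsg.Agent.S3771

/-- Let p be a prime and R a finite p-group of p-rank at most 2 (no elementary abelian subgroup of order p³) in which every element has order dividing p. Then R has order at most p³. -/
theorem result {R : Type*} [Group R] [Finite R] {p : ℕ} [Fact p.Prime] (hR : IsPGroup p R) (hrank : Cfsg.PRankLE p 2 R) (hexp : ∀ x : R, x ^ p = 1) : Nat.card R ≤ p ^ 3 := by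
  obtain ⟨A, ⟨hAn, hAc⟩, hAmax⟩ := exists_maximal_of_wellFoundedGT
    (fun A : Subgroup R => A.Normal ∧ IsMulCommutative A)
    ⟨⊥, inferInstance, ⟨⟨fun a b => Subsingleton.elim _ _⟩⟩⟩
  haveI := hAn
  have hCA : Subgroup.centralizer (A : Set R) ≤ A :=
    CfsgLib.Invol.centralizer_le_of_maximal hR hAn hAc fun B hB hBc hAB =>
      le_antisymm (hAmax ⟨hB, hBc⟩ hAB) hAB
  have hcomm : ∀ a ∈ A, ∀ b ∈ A, a * b = b * a := fun a ha b hb =>
    congrArg Subtype.val (isMulCommutative_iff.1 hAc ⟨a, ha⟩ ⟨b, hb⟩)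
  have hA2 : Nat.card A ≤ p ^ 2 := hrank A hAc fun a _ => hexp a
  have hp : p.Prime := Fact.out
  by_cases hz : A ≤ Subgroup.center R
  · have : A = ⊤ := top_le_iff.1 fun x _ => hCA (Subgroup.mem_centralizer_iff.2 fun a ha =>
      (Subgroup.mem_center_iff.1 (hz ha) x).symm)
    rw [this, Subgroup.card_top] at hA2
    exact hA2.trans (Nat.pow_le_pow_right hp.pos (by norm_num))
  obtain ⟨w, hwA, hwz⟩ := SetLike.not_le_iff_exists.1 hz
  haveI := hR.isNilpotent
  have hA0 : A ≠ ⊥ := fun e => hwz (by rw [e, Subgroup.mem_bot] at hwA; rw [hwA]; exact one_mem _)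
  have hcw : Subgroup.centralizer ({w} : Set R) = A := by
    refine le_antisymm (fun x hx => hCA ?_)
      fun a ha => Subgroup.mem_centralizer_singleton_iff.2 (hcomm a ha w hwA)
    let K : Subgroup R := A ⊓ Subgroup.centralizer ({x} : Set R)
    have hlt : A ⊓ Subgroup.center R < K := by
      refine lt_of_le_of_ne (fun a ha => ⟨ha.1, Subgroup.mem_centralizer_singleton_iff.2
        (Subgroup.mem_center_iff.1 ha.2 x).symm⟩) fun e => hwz ?_
      have hwK : w ∈ K :=
        ⟨hwA, Subgroup.mem_centralizer_singleton_iff.2 (Subgroup.mem_centralizer_singleton_iff.1 hx).symm⟩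
      exact (e ▸ hwK : w ∈ A ⊓ Subgroup.center R).2
    have hne := CfsgLib.Coprime.nilpotent_inf_center_ne_bot A hA0
    obtain ⟨i, hi⟩ := IsPGroup.iff_card.1 (hR.to_subgroup (A ⊓ Subgroup.center R))
    obtain ⟨j, hj⟩ := IsPGroup.iff_card.1 (hR.to_subgroup K)
    have hi0 : i ≠ 0 := fun h => hne (Subgroup.card_eq_one.1 (by rw [hi, h, pow_zero]))
    have hij : i < j := by
      by_contra h
      exact hlt.ne (Subgroup.eq_of_le_of_card_ge hlt.le
        (by rw [hi, hj]; exact Nat.pow_le_pow_right hp.pos (by omega)))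
    have hKA : K = A := Subgroup.eq_of_le_of_card_ge inf_le_left
      (hA2.trans (by rw [hj]; exact Nat.pow_le_pow_right hp.pos (by omega)))
    exact Subgroup.mem_centralizer_iff.2 fun a ha =>
      Subgroup.mem_centralizer_singleton_iff.1 (hKA.ge ha : a ∈ K).2
  have hidx : A.index ≤ p := by
    obtain ⟨j, hj⟩ := hR.index A
    have h1 : A.index < p ^ 2 := by
      rw [← hcw, ← CfsgLib.PGroup.card_setOf_isConj]
      refine lt_of_lt_of_le ?_ hA2
      have hmem : ∀ h : {h : R // IsConj w h}, (h : R) ∈ A := fun h => by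
        obtain ⟨c, hc⟩ := isConj_iff.1 h.2
        rw [← hc]; exact hAn.conj_mem w hwA c
      let f : {h : R // IsConj w h} → A := fun h => ⟨h, hmem h⟩
      refine lt_of_le_of_ne (Nat.card_le_card_of_injective f fun a b hab =>
        Subtype.ext (congrArg (fun a : A => (a : R)) hab)) fun e => ?_
      have hf := (Nat.bijective_iff_injective_and_card f).2 ⟨fun a b hab =>
        Subtype.ext (congrArg (fun a : A => (a : R)) hab), e⟩
      obtain ⟨⟨h, hh⟩, hh'⟩ := hf.2 1
      have : h = 1 := congrArg Subtype.val hh'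
      subst this
      exact hwz (isConj_one_left.1 hh ▸ one_mem _)
    rw [hj] at h1 ⊢
    exact (Nat.pow_le_pow_right hp.pos
      (Nat.lt_succ_iff.1 ((Nat.pow_lt_pow_iff_right hp.one_lt).1 h1))).trans (pow_one p).le
  rw [← Subgroup.card_mul_index A]
  exact (Nat.mul_le_mul hA2 hidx).trans (by rw [← pow_succ])

end Cfsg.Agent.S3771
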