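import Cfsg.Statements.S3772
import Cfsg.Agent.Lib.PGroup.InvolutionCount
-- import your own Cfsg.Agent.* helpers here

set_option autoImplicit false
open Cfsg

namespace Cfsg.Agent.S3772

/-- Let G be a finite 2-group whose Frattini subgroup Φ(G) has order 2, with |G : Φ(G)| = 2^d, and let j be the number of elements x of G with x² = 1. Then j = 2^d, or j = 2^d + 2^(d−r) or j = 2^d − 2^(d−r) for some positive integer r with 2r ≤ d. Moreover if d = 2r and j is 2^d + 2^r or 2^d − 2^r, then G is extraspecial. -/
theorem result {G : Type*} [Group G] [Finite G] (hG : IsPGroup 2 G) (hΦ : Nat.card (frattini G) = 2) (d : ℕ) (hd : (frattini G).index = 2 ^ d) : (Nat.card {x : G // x ^ 2 = 1} = 2 ^ d ∨ ∃ r : ℕ, 1 ≤ r ∧ 2 * r ≤ d ∧ (Nat.card {x : G // x ^ 2 = 1} = 2 ^ d + 2 ^ (d - r) ∨ Nat.card {x : G // x ^ 2 = 1} + 2 ^ (d - r) = 2 ^ d)) ∧ (∀ r : ℕ, d = 2 * r → (Nat.card {x : G // x ^ 2 = 1} = 2 ^ d + 2 ^ r ∨ Nat.card {x : G // x ^ 2 = 1} + 2 ^ r = 2 ^ d) → Cfsg.IsExtraspecial 2 G) := by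
  haveI := Fact.mk Nat.prime_two
  obtain ⟨z, h, hzΦ, hle⟩ := CfsgLib.PGroup.SquareData.of_frattini hG hΦ
  have hcard : Nat.card G = 2 ^ (d + 1) := by
    rw [← (frattini G).card_mul_index, hΦ, hd, pow_succ, mul_comm]
  obtain ⟨zc, -, hzc⟩ := (Nat.dvd_prime_pow Nat.prime_two).1
    (hcard ▸ (Subgroup.center G).card_subgroup_dvd_card)
  have hz1 : 1 ≤ zc := by
    by_contra hc
    have h0 : Nat.card (Subgroup.center G) = 1 := by rw [hzc, show zc = 0 by omega, pow_zero]
    have := Subgroup.card_le_of_le hle
    rw [hΦ, h0] at this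
    omega
  have hdpos : 1 ≤ d := by
    by_contra hc
    have hd0 : d = 0 := by omega
    rw [hd0, pow_zero, Subgroup.index_eq_one] at hd
    have htop : Subgroup.center G = ⊤ := top_le_iff.1 (hd ▸ hle)
    have hbot : frattini G ≤ ⊥ := CfsgLib.FrattiniLe.frattini_le_of_pow_of_commutator (p := 2)
      (fun g => by
        rw [Subgroup.mem_bot]
        have e : g ^ Nat.card G = 1 := pow_card_eq_one'
        rwa [hcard, hd0, zero_add, pow_one] at e)
      (by
        rw [_root_.commutator_def, Subgroup.commutator_le]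
        intro a _ b _
        rw [Subgroup.mem_bot, commutatorElement_eq_one_iff_mul_comm]
        exact Subgroup.mem_center_iff.1 (htop ▸ Subgroup.mem_top b) a)
    exact h.ne_one (Subgroup.mem_bot.1 (hbot hzΦ))
  have hN : (2 : ℤ) * Nat.card {x : G // x ^ 2 = 1} =
      2 ^ (d + 1) + CfsgLib.PGroup.signSum G := by
    rw [CfsgLib.PGroup.signSum, hcard]; push_cast; ring
  by_cases hall : ∀ t ∈ Subgroup.center G, t ^ 2 = 1
  · -- the centre is not of index one or two
    have hzd : zc + 1 ≤ d := by
      by_contra hc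
      have hnotop : Subgroup.center G ≠ ⊤ := by
        intro htop
        have hbot : frattini G ≤ ⊥ := CfsgLib.FrattiniLe.frattini_le_of_pow_of_commutator (p := 2)
          (fun g => Subgroup.mem_bot.2 (hall g (htop ▸ Subgroup.mem_top g)))
          (by
            rw [_root_.commutator_def, Subgroup.commutator_le]
            intro a _ b _
            rw [Subgroup.mem_bot, commutatorElement_eq_one_iff_mul_comm]
            exact Subgroup.mem_center_iff.1 (htop ▸ Subgroup.mem_top b) a)
        exact h.ne_one (Subgroup.mem_bot.1 (hbot hzΦ))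
      have hidx : (Subgroup.center G).index = 2 := by
        have e := (Subgroup.center G).card_mul_index
        rw [hzc, hcard] at e
        have hd2 : (Subgroup.center G).index ∣ 2 := by
          refine Nat.dvd_of_mul_dvd_mul_left (show 0 < 2 ^ d by positivity) ?_
          rw [← pow_succ, ← e]
          exact Nat.mul_dvd_mul_right (pow_dvd_pow 2 (by omega)) _
        exact ((Nat.dvd_prime Nat.prime_two).1 hd2).resolve_left
          (fun e => hnotop (Subgroup.index_eq_one.1 e))
      refine hnotop (eq_top_iff.2 fun a _ => Subgroup.mem_center_iff.2 fun b => ?_)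
      by_cases ha : a ∈ Subgroup.center G
      · exact Subgroup.mem_center_iff.1 ha b
      by_cases hb : b ∈ Subgroup.center G
      · exact (Subgroup.mem_center_iff.1 hb a).symm
      have hab : a * b ∈ Subgroup.center G :=
        (Subgroup.mul_mem_iff_of_index_two hidx).2 (iff_of_false ha hb)
      refine mul_left_cancel (a := a) ?_
      rw [Subgroup.mem_center_iff.1 hab a, mul_assoc]
    have hsq := h.sq_signSum
    rw [if_pos hall, hcard, hzc] at hsq
    push_cast at hsq
    rw [← pow_add] at hsq
    obtain ⟨k, hk, e⟩ := CfsgLib.PGroup.eq_pow_two_of_sq_eq hsq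
    obtain ⟨j, rfl⟩ : ∃ j, k = j + 1 := ⟨k - 1, by omega⟩
    refine ⟨Or.inr ⟨d - j, by omega, by omega, ?_⟩, ?_⟩
    · rw [show d - (d - j) = j by omega]
      rcases e with e | e
      · left
        zify
        rw [e, pow_succ, pow_succ] at hN
        linarith
      · right
        zify
        rw [e, pow_succ, pow_succ] at hN
        linarith
    · intro r hr hN'
      have hjr : j = r := by
        have hpos : (0 : ℤ) < 2 ^ j := by positivity
        have hpos' : (0 : ℤ) < 2 ^ r := by positivity
        have key : (2 : ℤ) ^ j = 2 ^ r := by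
          rcases e with e | e <;> rw [e, pow_succ, pow_succ] at hN <;> rcases hN' with hN' | hN' <;>
            zify at hN' <;> linarith
        exact_mod_cast Nat.pow_right_injective (le_refl 2) (by exact_mod_cast key : 2 ^ j = 2 ^ r)
      obtain rfl : zc = 1 := by omega
      have hΦZ : frattini G = Subgroup.center G :=
        Subgroup.eq_of_le_of_card_ge hle (by rw [hΦ, hzc, pow_one])
      refine ⟨⟨hG, hΦZ, ?_⟩, by rw [hzc, pow_one]⟩
      have hcΦ : commutator G ≤ frattini G := CfsgLib.Coprime.commutator_le_frattini hG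
      rw [← hΦZ]
      rcases Nat.prime_two.eq_one_or_self_of_dvd _
        (hΦ ▸ Subgroup.card_dvd_of_le hcΦ) with e1 | e1
      · exfalso
        have hbot : commutator G = ⊥ := Subgroup.eq_bot_of_card_eq _ e1
        have htop : Subgroup.center G = ⊤ := eq_top_iff.2 fun a _ => Subgroup.mem_center_iff.2
          fun b => commutatorElement_eq_one_iff_mul_comm.1 (Subgroup.mem_bot.1 (hbot ▸
            (_root_.commutator_def G ▸ Subgroup.commutator_mem_commutator (Subgroup.mem_top b)
              (Subgroup.mem_top a))))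
        rw [htop, Subgroup.card_top, hcard] at hzc
        have := Nat.pow_right_injective (le_refl 2) hzc
        omega
      · exact Subgroup.eq_of_le_of_card_ge hcΦ (by rw [hΦ, e1])
  · have hsq := h.sq_signSum
    rw [if_neg hall] at hsq
    rw [mul_self_eq_zero.1 hsq, add_zero, pow_succ] at hN
    refine ⟨Or.inl (by zify; linarith), fun r hr hN' => ?_⟩
    exfalso
    have hpos : (0 : ℤ) < 2 ^ r := by positivity
    rcases hN' with hN' | hN' <;> zify at hN' <;> linarith

end Cfsg.Agent.S3772
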