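import Cfsg.Statements.S3773
-- import your own Cfsg.Agent.* helpers here
import Mathlib
import Cfsg.Agent.Lib.PGroup.QuadraticSquares
import Cfsg.Agent.Lib.PGroup.FrattiniLe
import Cfsg.Agent.Lib.Coprime.PGroupFrattini

set_option autoImplicit false
open Cfsg

namespace Cfsg.Agent.S3773

open CfsgLib.QuadraticSquares
open scoped commutatorElement

/-- Let G be a finite 2-group of nilpotency class at most 2 and exponent dividing 4 in which the elements x with x² = 1 form a subgroup N. Then |G| ≤ |N|³, and |G| < |N|³ unless G is special. -/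
theorem result {G : Type*} [Group G] [Finite G] (hG : IsPGroup 2 G) (hcl : (⊤ : Subgroup G).lowerCentralSeries 2 = ⊥) (hexp : ∀ x : G, x ^ 4 = 1) (hN : ∀ x y : G, x ^ 2 = 1 → y ^ 2 = 1 → (x * y) ^ 2 = 1) : Nat.card G ≤ Nat.card {x : G // x ^ 2 = 1} ^ 3 ∧ (¬ Cfsg.IsSpecial 2 G → Nat.card G < Nat.card {x : G // x ^ 2 = 1} ^ 3) := by
  classical
  haveI : Fact (Nat.Prime 2) := ⟨Nat.prime_two⟩
  have hc2 : ∀ x y : G, ⁅x, y⁆ ∈ Subgroup.center G := by
    intro x y
    rw [Subgroup.lowerCentralSeries_succ, Subgroup.lowerCentralSeries_succ, Subgroup.lowerCentralSeries_zero,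
      Subgroup.commutator_eq_bot_iff_le_centralizer] at hcl
    refine Subgroup.mem_center_iff.2 fun g => ?_
    exact Subgroup.mem_centralizer_iff.1 (hcl (Subgroup.commutator_mem_commutator (Subgroup.mem_top x) (Subgroup.mem_top y))) g (Subgroup.mem_top g)
  have hswap : ∀ x y : G, x * y = ⁅x, y⁆ * (y * x) := fun x y => by rw [commutatorElement_def]; group
  have hbil : ∀ x y b : G, ⁅x, y * b⁆ = ⁅x, y⁆ * ⁅x, b⁆ := fun x y b => by
    calc ⁅x, y * b⁆ = ⁅x, y⁆ * (y * ⁅x, b⁆ * y⁻¹) := by simp only [commutatorElement_def]; group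
      _ = ⁅x, y⁆ * ⁅x, b⁆ := by rw [Subgroup.mem_center_iff.1 (hc2 x b) y, mul_inv_cancel_right]
  have hpow : ∀ x y : G, ⁅x, y ^ 2⁆ = ⁅x, y⁆ ^ 2 := fun x y => by rw [pow_two, hbil, pow_two]
  have hinv : ∀ x y : G, ⁅x, y⁆⁻¹ = ⁅y, x⁆ := fun x y => commutatorElement_inv x y
  have hpow' : ∀ x y : G, ⁅x ^ 2, y⁆ = ⁅x, y⁆ ^ 2 := fun x y => by
    rw [← inv_inj, ← inv_pow, hinv, hinv, hpow]
  have hmulsq : ∀ x y : G, (x * y) ^ 2 = ⁅y, x⁆ * (x ^ 2 * y ^ 2) := by
    intro x y
    calc (x * y) ^ 2 = x * (y * x) * y := by rw [pow_two]; simp only [mul_assoc]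
      _ = x * ⁅y, x⁆ * (x * y * y) := by rw [hswap y x]; simp only [mul_assoc]
      _ = ⁅y, x⁆ * (x ^ 2 * y ^ 2) := by
        rw [Subgroup.mem_center_iff.1 (hc2 y x) x, pow_two, pow_two]; simp only [mul_assoc]
  have hc4 : ∀ x y : G, ⁅x, y⁆ ^ 4 = 1 := fun x y => hexp _
  have hcsq : ∀ x y : G, ⁅x, y⁆ ^ 2 = 1 := by
    intro x y
    have hcomm : Commute (y ^ 2) (x ^ 2) := by
      refine commutatorElement_eq_one_iff_mul_comm.1 ?_
      rw [hpow, hpow', ← pow_mul]; exact hc4 _ _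
    have hcen : Commute (⁅x, y⁆) (y ^ 2 * x ^ 2) := (Subgroup.mem_center_iff.1 (hc2 x y) _).symm
    have h := hexp (y * x)
    rw [show 4 = 2 * 2 from rfl, pow_mul, hmulsq, hcen.mul_pow, hcomm.mul_pow, ← pow_mul, ← pow_mul,
      hexp, hexp, mul_one, mul_one] at h
    exact h
  have hsqc : ∀ x : G, x ^ 2 ∈ Subgroup.center G := fun x => Subgroup.mem_center_iff.2 fun g => by
    refine commutatorElement_eq_one_iff_mul_comm.1 ?_
    rw [hpow]; exact hcsq _ _
  let N : Subgroup G :=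
    { carrier := {x | x ^ 2 = 1}
      one_mem' := one_pow 2
      mul_mem' := fun {x y} hx hy => hN x y hx hy
      inv_mem' := fun {x} hx => by
        show x⁻¹ ^ 2 = 1
        rw [inv_pow, show x ^ 2 = 1 from hx, inv_one] }
  have hNN : Nat.card {x : G // x ^ 2 = 1} = Nat.card N := rfl
  rw [hNN]
  let W : Subgroup G := Subgroup.closure (Set.range fun x : G => x ^ 2)
  have hWN : W ≤ N := (Subgroup.closure_le _).2 (by
    rintro _ ⟨x, rfl⟩
    show (x ^ 2) ^ 2 = 1
    rw [← pow_mul]; exact hexp x)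
  have hWZ : W ≤ Subgroup.center G := (Subgroup.closure_le _).2 (by rintro _ ⟨x, rfl⟩; exact hsqc x)
  have hsqW : ∀ x : G, x ^ 2 ∈ W := fun x => Subgroup.subset_closure ⟨x, rfl⟩
  have hcW : ∀ x y : G, ⁅x, y⁆ ∈ W := fun x y => by
    have h : ⁅x, y⁆ = (y * x) ^ 2 * (y ^ 2 * x ^ 2)⁻¹ := by rw [hmulsq, mul_inv_cancel_right]
    rw [h]
    exact mul_mem (hsqW _) (inv_mem (mul_mem (hsqW _) (hsqW _)))
  have hWexp : ∀ w ∈ W, w ^ 2 = 1 := fun w hw => hWN hw
  have hsqN : ∀ x : G, x ^ 2 ∈ N := fun x => hWN (hsqW x)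
  have hcN : ∀ x y : G, ⁅x, y⁆ ∈ N := fun x y => hWN (hcW x y)
  obtain ⟨r, hr⟩ := IsPGroup.iff_card.1 (hG.to_subgroup W)
  have hWle : Nat.card W ≤ Nat.card N := Nat.le_of_dvd Nat.card_pos (Subgroup.card_dvd_of_le hWN)
  have hf : ∀ v, v ∉ N → ind (⊥ : Subgroup G) v = 0 := fun v hv =>
    if_neg fun h => hv (Subgroup.mem_bot.1 h)
  have hf1 : ind (⊥ : Subgroup G) 1 ≠ 0 := by simp [ind]
  have hmain : Nat.card G ≤ Nat.card W ^ 2 * Nat.card N := by
    have h := card_le_of_deg hsqN hcN le_top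
      (deg_ind hWZ hsqW hcW hWexp r ⊥ bot_le (by rw [hr, Subgroup.card_bot, one_mul])) hf1
      (fun v _ hv => hf v hv)
    rw [Subgroup.card_top, mul_comm 2 r, pow_mul, ← hr] at h
    exact h
  have hcube : Nat.card W ^ 2 * Nat.card N ≤ Nat.card N ^ 3 := by
    rw [pow_succ (Nat.card N) 2]
    exact Nat.mul_le_mul_right _ (Nat.pow_le_pow_left hWle 2)
  refine ⟨hmain.trans hcube, fun hns => ?_⟩
  by_contra hge
  rw [not_lt] at hge
  have heq : Nat.card W ^ 2 * Nat.card N = Nat.card N ^ 3 := le_antisymm hcube (hge.trans hmain)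
  have hGeq : Nat.card G = Nat.card W ^ 2 * Nat.card N := le_antisymm hmain (heq ▸ hge)
  have hWNeq : W = N := by
    refine Subgroup.eq_of_le_of_card_ge hWN ?_
    by_contra h
    have := Nat.mul_lt_mul_of_pos_right (Nat.pow_lt_pow_left (not_le.1 h) (two_ne_zero)) (Nat.card_pos (α := N))
    rw [heq, ← pow_succ] at this
    exact lt_irrefl _ this
  -- the degree of the indicator for `zpowers e`
  have hdeg : ∀ e ∈ W, e ≠ 1 → 1 ≤ r ∧ Deg (2 * (r - 1)) (ind (Subgroup.zpowers e)) := by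
    intro e he he1
    have ho : Nat.card (Subgroup.zpowers e) = 2 := by
      rw [Nat.card_zpowers]; exact orderOf_eq_prime (hWexp e he) he1
    have hle : Subgroup.zpowers e ≤ W := Subgroup.zpowers_le.2 he
    have hr1 : 1 ≤ r := by
      rcases Nat.eq_zero_or_pos r with rfl | h
      · have := Nat.le_of_dvd Nat.card_pos (Subgroup.card_dvd_of_le hle); rw [ho, hr] at this; simp at this
      · exact h
    refine ⟨hr1, deg_ind hWZ hsqW hcW hWexp (r - 1) _ hle ?_⟩
    rw [ho, hr, ← pow_succ']; congr 1; omega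
  have hz2 : ∀ e ∈ W, ∀ w, w ∈ Subgroup.zpowers e → w = 1 ∨ w = e := by
    intro e he w hw
    obtain ⟨j, rfl⟩ := mem_powers_iff_mem_zpowers.2 hw
    show e ^ j = 1 ∨ e ^ j = e
    rw [← Nat.div_add_mod j 2, pow_add, pow_mul, hWexp e he, one_pow, one_mul]
    rcases Nat.mod_two_eq_zero_or_one j with h | h <;> simp [h]
  have hcontra : ∀ k, k < 2 * r → ¬ Nat.card G ≤ 2 ^ k * Nat.card N := by
    intro k hk h
    rw [hGeq, hr, ← pow_mul, mul_comm r 2] at h
    exact absurd (Nat.le_of_mul_le_mul_right h Nat.card_pos)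
      (not_le.2 (Nat.pow_lt_pow_right one_lt_two hk))
  have hC : commutator G = W := by
    refine le_antisymm (by rw [commutator_def, Subgroup.commutator_le]; exact fun x _ y _ => hcW x y) ?_
    by_contra hnle
    obtain ⟨e, he, heC⟩ := SetLike.not_le_iff_exists.1 hnle
    have he1 : e ≠ 1 := fun h => heC (h ▸ one_mem _)
    have hCW : commutator G ≤ W := by
      rw [commutator_def, Subgroup.commutator_le]; exact fun x _ y _ => hcW x y
    have hcc : ∀ x y : G, ⁅x, y⁆ ∈ commutator G := fun x y =>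
      Subgroup.commutator_mem_commutator (Subgroup.mem_top x) (Subgroup.mem_top y)
    obtain ⟨H, hCH, -, heH, hsplit⟩ := exists_hyper hCW he heC
      (fun x hx => by rw [hWexp x hx]; exact one_mem _) (fun x _ y _ => hcc x y)
    have h1 := ((hdeg e he he1).2.mul ((deg_ind_hyper hWZ hsqW hcW he heH hsplit).2
      fun x y => hCH (hcc x y))).congr (g := ind (⊥ : Subgroup G)) fun v => by
        by_cases hv : v ^ 2 = 1
        · simp [ind, hv]
        · have hn : ¬ (v ^ 2 ∈ Subgroup.zpowers e ∧ v ^ 2 ∈ H) := by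
            rintro ⟨ha, hb⟩
            rcases hz2 e he _ ha with h | h
            · exact hv h
            · exact heH (h ▸ hb)
          rw [not_and] at hn
          by_cases ha : v ^ 2 ∈ Subgroup.zpowers e
          · simp [ind, hv, hn ha]
          · simp [ind, hv, ha]
    have h2 := card_le_of_deg hsqN hcN le_top h1 hf1 (fun v _ hv => hf v hv)
    rw [Subgroup.card_top] at h2
    have := (hdeg e he he1).1
    exact hcontra _ (by omega) h2
  have hZ : Subgroup.center G = W := by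
    refine le_antisymm (fun z hz => ?_) hWZ
    by_contra hzW
    have hzN : z ∉ N := fun h => hzW (hWNeq ▸ h)
    have he1 : z ^ 2 ≠ 1 := hzN
    obtain ⟨M, hNM, -, hzM, hsplit⟩ := exists_hyper (M := (⊤ : Subgroup G)) le_top (Subgroup.mem_top z) hzN
      (fun x _ => hsqN x) (fun x _ y _ => hcN x y)
    obtain ⟨hr1, hd⟩ := hdeg _ (hsqW z) he1
    have h2 := card_le_of_deg hsqN hcN hNM hd (by simp [ind]) fun v hv hvN => by
      refine if_neg fun h => ?_
      rcases hz2 _ (hsqW z) _ h with h | h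
      · exact hvN h
      · refine hzM ?_
        have hvz : v * z ∈ N := by
          show (v * z) ^ 2 = 1
          rw [Commute.mul_pow (show Commute v z from Subgroup.mem_center_iff.1 hz v), h, ← pow_two, ← pow_mul]
          exact hexp z
        simpa using mul_mem (inv_mem hv) (hNM hvz)
    refine hcontra (2 * (r - 1) + 1) (by omega) ?_
    calc Nat.card G = Nat.card (⊤ : Subgroup G) := Subgroup.card_top.symm
      _ ≤ 2 * Nat.card M := card_le_two_mul hsplit
      _ ≤ 2 * (2 ^ (2 * (r - 1)) * Nat.card N) := Nat.mul_le_mul_left 2 h2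
      _ = 2 ^ (2 * (r - 1) + 1) * Nat.card N := by ring
  have hΦ : frattini G = W := le_antisymm
    (CfsgLib.FrattiniLe.frattini_le_of_pow_of_commutator (p := 2) hsqW hC.le)
    ((Subgroup.closure_le _).2 (by rintro _ ⟨x, rfl⟩; exact CfsgLib.Coprime.pow_mem_frattini hG x))
  exact hns ⟨hG, hΦ.trans hZ.symm, hC.trans hZ.symm⟩

end Cfsg.Agent.S3773
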