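import Cfsg.Statements.S3774
-- import your own Cfsg.Agent.* helpers here
import Mathlib
import Cfsg.Agent.Lib.Char.Zsigmondy.Main
import Cfsg.Agent.Lib.Coprime.Solvable

set_option autoImplicit false
open Cfsg

namespace Cfsg.Agent.S3774

theorem fixed_modEq {Γ H : Type*} [Group Γ] [Finite Γ] [Group H] [Finite H] {r : ℕ} [Fact r.Prime]
    (φ : Γ →* MulAut H) (hΓ : IsPGroup r Γ) :
    Nat.card H ≡ Nat.card {h : H // ∀ g, φ g h = h} [MOD r] := by
  let act : MulAction Γ H := MulAction.compHom H φ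
  letI := act
  exact hΓ.card_modEq_card_fixedPoints H

/-- The orbits of a Sylow subgroup of a transitive group are large. -/
theorem sylow_orbit {Γ α : Type*} [Group Γ] [Finite Γ] [MulAction Γ α] {r a : ℕ} [Fact r.Prime]
    (T : Sylow r Γ) (v : α) (h : r ^ a ∣ (MulAction.stabilizer Γ v).index) :
    r ^ a ∣ (MulAction.orbit ↥(T : Subgroup Γ) v).ncard := by
  have hr : r.Prime := Fact.out
  rw [← MulAction.index_stabilizer]
  set S := MulAction.stabilizer Γ v
  set Sv := MulAction.stabilizer ↥(T : Subgroup Γ) v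
  have h1 : Nat.card Sv ∣ Nat.card S := by
    rw [← Subgroup.card_map_of_injective (K := Sv) (T : Subgroup Γ).subtype_injective]
    exact Subgroup.card_dvd_of_le (Subgroup.map_le_iff_le_comap.2 fun x hx => hx)
  obtain ⟨b, hb⟩ := IsPGroup.iff_card.1 T.isPGroup'
  obtain ⟨c, -, hc⟩ := (Nat.dvd_prime_pow hr).1 (hb ▸ Subgroup.card_subgroup_dvd_card Sv)
  have h2 : r ^ (c + a) ∣ Nat.card Γ := by
    rw [pow_add, ← hc, ← S.card_mul_index]
    exact Nat.mul_dvd_mul h1 h
  have h3 := T.pow_dvd_card_of_pow_dvd_card h2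
  rw [← Sv.card_mul_index, pow_add, ← hc] at h3
  exact Nat.dvd_of_mul_dvd_mul_left Nat.card_pos h3


/-- Let G be a nontrivial finite 2-group whose automorphism group permutes the involutions of G transitively. Then every involution of G is central, so that the involutions together with 1 form the subgroup Ω₁(Z(G)), and if this subgroup has order q then |G| is a power of q. -/
theorem result {G : Type*} [Group G] [Finite G] [Nontrivial G] (hG : IsPGroup 2 G) (htrans : ∀ x y : G, x ≠ 1 → x ^ 2 = 1 → y ≠ 1 → y ^ 2 = 1 → ∃ a : MulAut G, a x = y) : (∀ x : G, x ^ 2 = 1 → x ∈ Subgroup.center G) ∧ ∃ m : ℕ, Nat.card G = Nat.card {z : G // z ^ 2 = 1} ^ m := by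
  classical
  haveI : Fact (Nat.Prime 2) := ⟨Nat.prime_two⟩
  haveI := hG.isNilpotent
  -- a central involution
  obtain ⟨z₀, hz₀1, hz₀2, hz₀c⟩ : ∃ z : G, z ≠ 1 ∧ z ^ 2 = 1 ∧ z ∈ Subgroup.center G := by
    haveI := hG.center_nontrivial
    obtain ⟨k, hk⟩ := IsPGroup.iff_card.1 (hG.to_subgroup (Subgroup.center G))
    have hk0 : k ≠ 0 := by
      rintro rfl
      exact Finite.one_lt_card.ne' (hk.trans (pow_zero 2))
    obtain ⟨z, hz⟩ := exists_prime_orderOf_dvd_card' (G := Subgroup.center G) 2 (hk ▸ dvd_pow_self 2 hk0)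
    refine ⟨z, fun h => ?_, ?_, z.2⟩
    · rw [orderOf_eq_one_iff.2 (Subtype.ext h : z = 1)] at hz
      omega
    · rw [← Subgroup.coe_pow, ← hz, pow_orderOf_eq_one, Subgroup.coe_one]
  have hcentral : ∀ x : G, x ^ 2 = 1 → x ∈ Subgroup.center G := by
    intro x hx
    by_cases hx1 : x = 1
    · rw [hx1]; exact one_mem _
    obtain ⟨a, rfl⟩ := htrans z₀ x hz₀1 hz₀2 hx1 hx
    refine Subgroup.mem_center_iff.2 fun g => ?_
    obtain ⟨g, rfl⟩ := a.surjective g
    rw [← map_mul, ← map_mul, Subgroup.mem_center_iff.1 hz₀c g]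
  refine ⟨hcentral, ?_⟩
  let E : Subgroup G :=
    { carrier := {x | x ^ 2 = 1}
      one_mem' := one_pow 2
      mul_mem' := fun {x y} hx hy => by
        show (x * y) ^ 2 = 1
        have hc : Commute x y := (Subgroup.mem_center_iff.1 (hcentral x hx) y).symm
        rw [hc.mul_pow, hx, hy, one_mul]
      inv_mem' := fun {x} hx => by
        show x⁻¹ ^ 2 = 1
        rw [inv_pow, hx, inv_one] }
  have hEmem : ∀ a : MulAut G, ∀ x ∈ E, a x ∈ E := fun a x hx => by
    show (a x) ^ 2 = 1
    rw [← map_pow, show x ^ 2 = 1 from hx, map_one]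
  let ρ : MulAut G →* MulAut E := MonoidHom.mk'
    (fun a =>
      { toFun := fun x => ⟨a x, hEmem a x x.2⟩
        invFun := fun x => ⟨a⁻¹ x, hEmem a⁻¹ x x.2⟩
        left_inv := fun x => Subtype.ext (a.symm_apply_apply (x : G))
        right_inv := fun x => Subtype.ext (a.apply_symm_apply (x : G))
        map_mul' := fun x y => Subtype.ext (map_mul a (x : G) y) })
    (fun a b => MulEquiv.ext fun x => rfl)
  haveI : Finite (MulAut E) := Finite.of_injective (fun f => (f : E → E)) DFunLike.coe_injective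
  set A := ρ.range
  obtain ⟨n, hn⟩ := IsPGroup.iff_card.1 (hG.to_subgroup E)
  obtain ⟨m, hm⟩ := IsPGroup.iff_card.1 hG
  suffices hnm : n ∣ m by
    obtain ⟨d, rfl⟩ := hnm
    refine ⟨d, ?_⟩
    change Nat.card G = Nat.card E ^ d
    rw [hm, hn, pow_mul]
  have hn0 : n ≠ 0 := by
    rintro rfl
    have h1 : E = ⊥ := Subgroup.card_eq_one.1 (hn.trans (pow_zero 2))
    exact hz₀1 (Subgroup.mem_bot.1 (h1 ▸ (show z₀ ∈ E from hz₀2)))
  -- transitivity on the involutions
  have horbit : ∀ v : E, v ≠ 1 → (MulAction.stabilizer A v).index = 2 ^ n - 1 := by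
    intro v hv
    rw [MulAction.index_stabilizer]
    have : MulAction.orbit A v = {1}ᶜ := by
      ext w
      simp only [Set.mem_compl_iff, Set.mem_singleton_iff]
      constructor
      · rintro ⟨⟨a, ha⟩, rfl⟩ h
        exact hv (a.injective (h.trans (map_one a).symm))
      · intro hw
        obtain ⟨a, ha⟩ := htrans v w (fun h => hv (Subtype.ext h)) v.2 (fun h => hw (Subtype.ext h)) w.2
        exact ⟨⟨ρ a, ⟨a, rfl⟩⟩, Subtype.ext ha⟩
    rw [this, Set.ncard_compl, hn, Set.ncard_singleton]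
  -- a fixed-point-free element of `r`-power order gives a congruence
  have hcong : ∀ r : ℕ, r.Prime → ∀ u : A, (∃ k, orderOf u = r ^ k) →
      (∀ v : E, (u : MulAut E) v = v → v = 1) → 2 ^ m ≡ 1 [MOD r] := by
    intro r hr u hu hfpf
    haveI := Fact.mk hr
    obtain ⟨y, hy⟩ := u.2
    obtain ⟨k, hk⟩ := hu
    set c := orderOf y / r ^ (orderOf y).factorization r with hc
    have hcop : c.Coprime (r ^ k) :=
      ((hr.coprime_iff_not_dvd).2 (Nat.not_dvd_ordCompl hr (orderOf_pos y).ne')).symm.pow_right k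
    have hxord : IsPGroup r (Subgroup.zpowers (y ^ c)) := by
      refine IsPGroup.of_card (n := (orderOf y).factorization r) ?_
      rw [Nat.card_zpowers, orderOf_pow' y (Nat.pos_of_ne_zero (fun h => ?_)).ne']
      · rw [Nat.gcd_eq_right (Nat.ordCompl_dvd _ r)]
        exact Nat.div_div_self (Nat.ordProj_dvd _ r) (orderOf_pos y).ne'
      · exact Nat.not_dvd_ordCompl hr (orderOf_pos y).ne' (by rw [← hc, h]; exact dvd_zero r)
    have h := fixed_modEq (Subgroup.zpowers (y ^ c)).subtype hxord (H := G)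
    suffices h1 : Nat.card {g : G // ∀ a : Subgroup.zpowers (y ^ c), (a : MulAut G) g = g} = 1 by
      rw [hm] at h
      exact h.trans (h1 ▸ Nat.ModEq.refl _)
    let C : Subgroup G :=
      { carrier := {g | ∀ a : Subgroup.zpowers (y ^ c), (a : MulAut G) g = g}
        one_mem' := fun a => map_one _
        mul_mem' := fun {g h} hg hh a => by rw [map_mul, hg a, hh a]
        inv_mem' := fun {g} hg a => by rw [map_inv, hg a] }
    suffices hC : C = ⊥ by
      show Nat.card C = 1
      rw [hC, Subgroup.card_bot]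
    by_contra hne
    haveI := (Subgroup.nontrivial_iff_ne_bot C).2 hne
    obtain ⟨j, hj⟩ := IsPGroup.iff_card.1 (hG.to_subgroup C)
    have hj0 : j ≠ 0 := by
      rintro rfl
      exact Finite.one_lt_card.ne' (hj.trans (pow_zero 2))
    obtain ⟨v, hv⟩ := exists_prime_orderOf_dvd_card' (G := C) 2 (hj ▸ dvd_pow_self 2 hj0)
    have hv2 : (v : G) ^ 2 = 1 := by rw [← Subgroup.coe_pow, ← hv, pow_orderOf_eq_one, Subgroup.coe_one]
    have hfix : ((u : MulAut E) ^ c) ⟨v, hv2⟩ = ⟨v, hv2⟩ := by
      rw [← hy, ← map_pow]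
      exact Subtype.ext (v.2 ⟨y ^ c, Subgroup.mem_zpowers _⟩)
    have hfix' : (u : MulAut E) ⟨v, hv2⟩ = ⟨v, hv2⟩ := by
      obtain ⟨d, hd⟩ := exists_pow_eq_self_of_coprime (hk ▸ hcop : c.Coprime (orderOf u))
      have hd' : ((u : MulAut E) ^ c) ^ d = (u : MulAut E) := congrArg Subtype.val hd
      rw [← hd']
      have hpow : ∀ j : ℕ, (((u : MulAut E) ^ c) ^ j) (⟨v, hv2⟩ : E) = ⟨v, hv2⟩ := fun j => by
        induction j with
        | zero => simp
        | succ j hj => rw [pow_succ, MulAut.mul_apply, hfix, hj]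
      exact hpow d
    have h2 : (v : G) = 1 := congrArg Subtype.val (hfpf _ hfix')
    rw [orderOf_eq_one_iff.2 (Subtype.ext h2 : v = 1)] at hv
    omega
  -- fixed subgroups
  let W : A → Subgroup E := fun u => MonoidHom.eqLocus ((u : MulAut E) : E →* E) (MonoidHom.id E)
  have hWmem : ∀ (u : A) (v : E), v ∈ W u ↔ (u : MulAut E) v = v := fun _ _ => Iff.rfl
  have hWcard : ∀ u : A, u ≠ 1 → ∃ k, k < n ∧ Nat.card (W u) = 2 ^ k := by
    intro u hu
    obtain ⟨k, hk, hk'⟩ := (Nat.dvd_prime_pow Nat.prime_two).1 (hn ▸ Subgroup.card_subgroup_dvd_card (W u))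
    refine ⟨k, lt_of_le_of_ne hk fun e => hu ?_, hk'⟩
    have htop : W u = ⊤ := Subgroup.eq_top_of_card_eq _ (by rw [hk', e, hn])
    exact Subtype.ext (MulEquiv.ext fun v => (hWmem u v).1 (htop ▸ Subgroup.mem_top v))
  have hWmod : ∀ (r : ℕ) [Fact r.Prime] (u : A), (∃ k, orderOf u = r ^ k) →
      2 ^ n ≡ Nat.card (W u) [MOD r] := by
    intro r _ u hu
    obtain ⟨k, hk⟩ := hu
    have hp : IsPGroup r (Subgroup.zpowers u) := IsPGroup.of_card (by rw [Nat.card_zpowers, hk])
    have h := fixed_modEq (A.subtype.comp (Subgroup.zpowers u).subtype) hp (H := E)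
    rw [hn] at h
    refine h.trans (congrArg (· % r) (Nat.card_congr (Equiv.subtypeEquivRight fun v => ?_)))
    refine ⟨fun hv => hv ⟨u, Subgroup.mem_zpowers u⟩, fun hv a => ?_⟩
    obtain ⟨j, hj⟩ := mem_powers_iff_mem_zpowers.2 a.2
    show ((a : A) : MulAut E) v = v
    rw [← hj, Subgroup.coe_pow]
    clear hj
    induction j with
    | zero => simp
    | succ j hj' => rw [pow_succ, MulAut.mul_apply, (hWmem u v).1 hv, hj']
  have hsylow : ∀ (r a : ℕ) [Fact r.Prime], r ^ a ∣ 2 ^ n - 1 → ∀ T : Sylow r A, ∀ v : E, v ≠ 1 →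
      r ^ a ∣ (MulAction.orbit ↥(T : Subgroup A) v).ncard := fun r a _ h T v hv =>
    sylow_orbit T v (horbit v hv ▸ h)
  have hTne : ∀ (r : ℕ) [Fact r.Prime], r ∣ 2 ^ n - 1 → ∀ T : Sylow r A, ∀ v : E, v ≠ 1 →
      ∃ w : ↥(T : Subgroup A), ((w : A) : MulAut E) v ≠ v := by
    intro r _ h T v hv
    by_contra! hall
    have h1 := hsylow r 1 (by rwa [pow_one]) T v hv
    have h2 : MulAction.orbit ↥(T : Subgroup A) v = {v} := by
      ext w
      constructor
      · rintro ⟨g, rfl⟩; exact hall g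
      · intro h; rw [Set.mem_singleton_iff.1 h]; exact MulAction.mem_orbit_self v
    rw [h2, Set.ncard_singleton, pow_one, Nat.dvd_one] at h1
    exact (Fact.out : r.Prime).ne_one h1
  have hTpow : ∀ (r : ℕ) [Fact r.Prime] (T : Sylow r A) (u : A), u ∈ (T : Subgroup A) → ∃ k, orderOf u = r ^ k := by
    intro r _ T u hu
    obtain ⟨k, hk⟩ := (IsPGroup.iff_orderOf.1 T.isPGroup') ⟨u, hu⟩
    exact ⟨k, (Subgroup.orderOf_coe ⟨u, hu⟩).trans hk⟩
  have hv₀ : (⟨z₀, hz₀2⟩ : E) ≠ 1 := fun h => hz₀1 (congrArg Subtype.val h)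
  by_cases hn1 : n = 1
  · rw [hn1]; exact one_dvd m
  by_cases hn6 : n = 6
  · subst hn6
    have hfix0 : ∀ u : A, (∀ v : E, (u : MulAut E) v = v → v = 1) ↔ W u = ⊥ := fun u => by
      rw [Subgroup.eq_bot_iff_forall]; rfl
    have h3 : 2 ^ m ≡ 1 [MOD 3] := by
      haveI : Fact (Nat.Prime 3) := ⟨by norm_num⟩
      obtain ⟨T⟩ : Nonempty (Sylow 3 A) := inferInstance
      haveI : Nontrivial ↥(T : Subgroup A) := by
        obtain ⟨w, hw⟩ := hTne 3 (by norm_num) T _ hv₀
        exact ⟨w, 1, fun e => hw (by rw [e]; rfl)⟩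
      haveI := T.isPGroup'.center_nontrivial
      obtain ⟨z, hz⟩ := exists_ne (1 : Subgroup.center ↥(T : Subgroup A))
      have hzne : ((z : ↥(T : Subgroup A)) : A) ≠ 1 := fun e => hz (Subtype.ext (Subtype.ext e))
      refine hcong 3 (by norm_num) _ (hTpow 3 T _ (z : ↥(T : Subgroup A)).2) ((hfix0 _).2 ?_)
      set u : A := ((z : ↥(T : Subgroup A)) : A) with hu
      have h9 : 9 ∣ Nat.card (W u) - 1 := by
        letI act : MulAction ↥(T : Subgroup A) E := inferInstance
        set S : Set E := (W u : Set E) \ {1} with hS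
        have hSinv : ∀ (g : ↥(T : Subgroup A)) (v : E), v ∈ S → g • v ∈ S := by
          intro g v hv
          refine ⟨(hWmem _ _).2 ?_, fun h => hv.2 ?_⟩
          · have hc : (g : A) * u = u * (g : A) := congrArg Subtype.val (Subgroup.mem_center_iff.1 z.2 g)
            have hc' := congrArg (fun a : A => (a : MulAut E) v) hc
            simp only [Subgroup.coe_mul, MulAut.mul_apply] at hc'
            rw [(hWmem u v).1 hv.1] at hc'
            exact hc'.symm
          · exact ((g : A) : MulAut E).injective (h.trans (map_one _).symm)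
        let Ssub : SubMulAction ↥(T : Subgroup A) E := ⟨S, fun g {v} hv => hSinv g v hv⟩
        have hcard : Nat.card (W u) - 1 = Nat.card Ssub := by
          show _ = Nat.card S
          rw [Nat.card_coe_set_eq, hS, Set.ncard_sdiff (by simp [(W u).one_mem]) (Set.toFinite _),
            Set.ncard_singleton, ← Nat.card_coe_set_eq]
          rfl
        rw [hcard, Nat.card_congr (MulAction.selfEquivSigmaOrbits ↥(T : Subgroup A) Ssub)]
        haveI : Fintype (MulAction.orbitRel.Quotient ↥(T : Subgroup A) Ssub) := Fintype.ofFinite _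
        rw [Nat.card_sigma]
        refine Finset.dvd_sum fun o _ => ?_
        have h1 := hsylow 3 2 (by norm_num) T ((Quotient.out o : Ssub) : E) (Quotient.out o : Ssub).2.2
        rw [← SubMulAction.val_image_orbit, Set.ncard_image_of_injective _ Subtype.val_injective] at h1
        rwa [Nat.card_coe_set_eq]
      obtain ⟨k, hk, hk'⟩ := hWcard _ hzne
      rw [hk'] at h9
      interval_cases k <;> first | exact Subgroup.card_eq_one.1 (hk'.trans (pow_zero 2)) | norm_num at h9
    have h7 : 2 ^ m ≡ 1 [MOD 7] := by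
      haveI : Fact (Nat.Prime 7) := ⟨by norm_num⟩
      have hsmall : ∀ u : A, u ≠ 1 → (∃ k, orderOf u = 7 ^ k) → W u = ⊥ ∨ Nat.card (W u) = 8 := by
        intro u hu hu'
        obtain ⟨k, hk, hk'⟩ := hWcard u hu
        have h := hWmod 7 u hu'
        rw [hk'] at h
        interval_cases k
        · exact Or.inl (Subgroup.card_eq_one.1 (hk'.trans (pow_zero 2)))
        all_goals first | exact Or.inr hk' | exact absurd h (by decide)
      obtain ⟨T⟩ : Nonempty (Sylow 7 A) := inferInstance
      haveI : Nontrivial ↥(T : Subgroup A) := by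
        obtain ⟨w, hw⟩ := hTne 7 (by norm_num) T _ hv₀
        exact ⟨w, 1, fun e => hw (by rw [e]; rfl)⟩
      haveI := T.isPGroup'.center_nontrivial
      obtain ⟨z, hz⟩ := exists_ne (1 : Subgroup.center ↥(T : Subgroup A))
      have hzne : ((z : ↥(T : Subgroup A)) : A) ≠ 1 := fun e => hz (Subtype.ext (Subtype.ext e))
      set u : A := ((z : ↥(T : Subgroup A)) : A) with hu
      have huT : u ∈ (T : Subgroup A) := (z : ↥(T : Subgroup A)).2
      rcases hsmall u hzne (hTpow 7 T u huT) with hbot | hcard8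
      · exact hcong 7 (by norm_num) u (hTpow 7 T u huT) ((hfix0 u).2 hbot)
      have hWne : W u ≠ ⊥ := fun e => by rw [e, Subgroup.card_bot] at hcard8; omega
      obtain ⟨⟨v, hv⟩, hv1⟩ := Subgroup.ne_bot_iff_exists_ne_one.1 hWne
      obtain ⟨w, hw⟩ := hTne 7 (by norm_num) T v (fun e => hv1 (Subtype.ext e))
      have hwne : (w : A) ≠ 1 := fun e => hw (by rw [e]; rfl)
      rcases hsmall _ hwne (hTpow 7 T _ w.2) with hbot | hcard8'
      · exact hcong 7 (by norm_num) _ (hTpow 7 T _ w.2) ((hfix0 _).2 hbot)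
      have hc : (w : A) * u = u * (w : A) := congrArg Subtype.val (Subgroup.mem_center_iff.1 z.2 w)
      have hc' : ∀ x : E, ((w : A) : MulAut E) ((u : MulAut E) x) = (u : MulAut E) (((w : A) : MulAut E) x) :=
        fun x => congrArg (fun a : A => (a : MulAut E) x) hc
      have hwW : ∀ x ∈ W u, ((w : A) : MulAut E) x ∈ W u := fun x hx => by
        rw [hWmem, ← hc', (hWmem u x).1 hx]
      have huW : ∀ x ∈ W (w : A), (u : MulAut E) x ∈ W (w : A) := fun x hx => by
        rw [hWmem, hc', (hWmem (w : A) x).1 hx]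
      have hinf : W u ⊓ W (w : A) = ⊥ := by
        by_contra hne
        obtain ⟨k, hk⟩ : ∃ k, Nat.card ↥(W u ⊓ W (w : A)) = 2 ^ k := IsPGroup.iff_card.1 ((hG.to_subgroup E).to_subgroup _)
        have hle := Subgroup.card_dvd_of_le (inf_le_left : W u ⊓ W (w : A) ≤ W u)
        rw [hcard8, hk] at hle
        have hk3 : k ≤ 3 := by
          by_contra h
          have := Nat.le_of_dvd (by norm_num) hle
          have := Nat.pow_le_pow_right (show 0 < 2 by norm_num) (show 4 ≤ k by omega)
          omega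
        -- the fixed points of `w` on `W u`
        let rw' : MulAut ↥(W u) := MulEquiv.ofBijective
          (MonoidHom.codRestrict ((((w : A) : MulAut E) : E →* E).comp (W u).subtype) (W u) fun x => hwW _ x.2)
          (Finite.injective_iff_bijective.1 fun x y h =>
            Subtype.ext (((w : A) : MulAut E).injective (congrArg Subtype.val h)))
        have hcoe : ∀ (j : ℕ) (x : W u), (((rw' ^ j) x : W u) : E) = (((w : A) : MulAut E) ^ j) x := by
          intro j
          induction j with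
          | zero => intro x; simp
          | succ j hj => intro x; rw [pow_succ, pow_succ, MulAut.mul_apply, MulAut.mul_apply, hj]; rfl
        haveI : Finite (MulAut ↥(W u)) := Finite.of_injective (fun f => (f : ↥(W u) → ↥(W u))) DFunLike.coe_injective
        obtain ⟨d, hd⟩ := hTpow 7 T _ w.2
        have hrwp : rw' ^ 7 ^ d = 1 := MulEquiv.ext fun x => Subtype.ext (by
          rw [hcoe, ← Subgroup.coe_pow, ← hd, pow_orderOf_eq_one]; rfl)
        have hp : IsPGroup 7 (Subgroup.zpowers rw') := by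
          obtain ⟨e, -, he⟩ := (Nat.dvd_prime_pow Fact.out).1 (orderOf_dvd_of_pow_eq_one hrwp)
          exact IsPGroup.of_card (by rw [Nat.card_zpowers, he])
        have h := fixed_modEq (Subgroup.zpowers rw').subtype hp (H := ↥(W u))
        have e : Nat.card {x : W u // ∀ a : Subgroup.zpowers rw', (Subgroup.zpowers rw').subtype a x = x} = Nat.card ↥(W u ⊓ W (w : A)) := by
          refine Nat.card_congr
            { toFun := fun x => ⟨x.1.1, x.1.2, congrArg Subtype.val (x.2 ⟨rw', Subgroup.mem_zpowers _⟩)⟩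
              invFun := fun x => ⟨⟨x.1, x.2.1⟩, fun a => ?_⟩
              left_inv := fun x => rfl
              right_inv := fun x => rfl }
          obtain ⟨j, hj⟩ := mem_powers_iff_mem_zpowers.2 a.2
          show (a : MulAut ↥(W u)) _ = _
          rw [← hj]
          refine Subtype.ext ?_
          simp only
          rw [hcoe]
          clear hj
          induction j with
          | zero => simp
          | succ j hj' => rw [pow_succ, MulAut.mul_apply, (hWmem _ _).1 x.2.2, hj']
        rw [e, hk, hcard8] at h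
        interval_cases k
        · exact hne (Subgroup.card_eq_one.1 (hk.trans (pow_zero 2)))
        · exact absurd h (by decide)
        · exact absurd h (by decide)
        · have heq : W u ⊓ W (w : A) = W u := Subgroup.eq_of_le_of_card_ge inf_le_left (by rw [hk, hcard8]; norm_num)
          exact hw ((inf_eq_left.1 heq) hv)
      have hprod : Function.Bijective (fun x : W u × W (w : A) => ((x.1 : E) * x.2)) := by
        refine (Nat.bijective_iff_injective_and_card _).2 ⟨?_, by rw [Nat.card_prod, hcard8, hcard8', hn]; norm_num⟩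
        exact Subgroup.mul_injective_of_disjoint (disjoint_iff.2 hinf)
      refine hcong 7 (by norm_num) (u * (w : A)) (hTpow 7 T _ (mul_mem huT w.2)) fun x hx => ?_
      obtain ⟨⟨⟨a, ha⟩, ⟨b, hb⟩⟩, rfl⟩ := hprod.2 x
      have h1 : (u : MulAut E) (((w : A) : MulAut E) (a * b)) =
          ((w : A) : MulAut E) a * (u : MulAut E) b := by
        rw [map_mul, (hWmem (w : A) b).1 hb, map_mul, (hWmem u _).1 (hwW a ha)]
      have h2 := hprod.1 (a₁ := (⟨_, hwW a ha⟩, ⟨_, huW b hb⟩)) (a₂ := (⟨a, ha⟩, ⟨b, hb⟩)) (h1.symm.trans hx)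
      simp only [Prod.mk.injEq, Subtype.mk.injEq] at h2
      have ha1 : a = 1 := by
        have : a ∈ W u ⊓ W (w : A) := ⟨ha, (hWmem _ _).2 h2.1⟩
        rw [hinf] at this
        exact Subgroup.mem_bot.1 this
      have hb1 : b = 1 := by
        have : b ∈ W u ⊓ W (w : A) := ⟨(hWmem _ _).2 h2.2, hb⟩
        rw [hinf] at this
        exact Subgroup.mem_bot.1 this
      show a * b = 1
      rw [ha1, hb1, mul_one]
    have h32 : 2 ∣ m := by
      rw [← Nat.div_add_mod m 2, pow_add, pow_mul] at h3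
      have h4 : (2 ^ 2) ^ (m / 2) ≡ 1 [MOD 3] := by
        simpa using (show 2 ^ 2 ≡ 1 [MOD 3] by decide).pow (m / 2)
      have h5 := ((h4.mul_right (2 ^ (m % 2))).symm.trans h3)
      rw [one_mul] at h5
      rcases Nat.mod_two_eq_zero_or_one m with e | e
      · omega
      · rw [e] at h5; exact absurd h5 (by decide)
    have h73 : 3 ∣ m := by
      rw [← Nat.div_add_mod m 3, pow_add, pow_mul] at h7
      have h4 : (2 ^ 3) ^ (m / 3) ≡ 1 [MOD 7] := by
        simpa using (show 2 ^ 3 ≡ 1 [MOD 7] by decide).pow (m / 3)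
      have h5 := ((h4.mul_right (2 ^ (m % 3))).symm.trans h7)
      rw [one_mul] at h5
      have hlt := Nat.mod_lt m (show 0 < 3 by norm_num)
      interval_cases hm3 : m % 3
      · omega
      · exact absurd h5 (by decide)
      · exact absurd h5 (by decide)
    omega
  -- the general case: a primitive prime divisor
  obtain ⟨r, hr, hrd, hprim⟩ := CfsgLib.Char.Zsigmondy.exists_prim 2 n one_lt_two (by omega)
    (by omega) (fun h => by
      obtain ⟨-, j, hj⟩ := h
      have h3 : 3 = 2 ^ j := by simpa using hj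
      rcases Nat.eq_zero_or_pos j with rfl | hj0
      · simp at h3
      · have := dvd_pow_self 2 hj0.ne'
        omega)
  haveI := Fact.mk hr
  obtain ⟨T⟩ : Nonempty (Sylow r A) := inferInstance
  obtain ⟨w, hw⟩ := hTne r hrd T _ hv₀
  have hwne : (w : A) ≠ 1 := fun e => hw (by rw [e]; rfl)
  have h1n : 2 ^ n ≡ 1 [MOD r] := ((Nat.modEq_iff_dvd' Nat.one_le_two_pow).2 hrd).symm
  have hfp : W (w : A) = ⊥ := by
    obtain ⟨k, hk, hk'⟩ := hWcard _ hwne
    have h := hWmod r _ (hTpow r T _ w.2)
    rw [hk'] at h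
    rcases Nat.eq_zero_or_pos k with rfl | hk0
    · exact Subgroup.card_eq_one.1 (hk'.trans (pow_zero 2))
    · exact absurd ((Nat.modEq_iff_dvd' Nat.one_le_two_pow).1 (h1n.symm.trans h)) (hprim k hk0 hk)
  have hm1 := hcong r hr _ (hTpow r T _ w.2) ((Subgroup.eq_bot_iff_forall _).1 hfp)
  rw [← Nat.div_add_mod m n, pow_add, pow_mul] at hm1
  have h4 : (2 ^ n) ^ (m / n) ≡ 1 [MOD r] := by simpa using h1n.pow (m / n)
  have h5 := (h4.mul_right (2 ^ (m % n))).symm.trans hm1
  rw [one_mul] at h5
  rcases Nat.eq_zero_or_pos (m % n) with h | h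
  · exact Nat.dvd_of_mod_eq_zero h
  · exact absurd ((Nat.modEq_iff_dvd' Nat.one_le_two_pow).1 h5.symm) (hprim _ h (Nat.mod_lt _ (Nat.pos_of_ne_zero hn0)))


end Cfsg.Agent.S3774
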