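import Cfsg.Statements.S3775
-- import your own Cfsg.Agent.* helpers here

set_option autoImplicit false
open Cfsg

namespace Cfsg.Agent.S3775

theorem exists_idempotent_iterate {α : Type*} [Finite α] (f : α → α) :
    ∃ N, 0 < N ∧ ∀ a, f^[N] (f^[N] a) = f^[N] a := by
  obtain ⟨a, b, hne, hab⟩ := Finite.exists_ne_map_eq_of_infinite (fun n : ℕ => f^[n])
  suffices key : ∀ a b : ℕ, a < b → f^[a] = f^[b] → ∃ N, 0 < N ∧ ∀ x, f^[N] (f^[N] x) = f^[N] x by
    rcases lt_or_gt_of_ne hne with h | h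
    · exact key a b h hab
    · exact key b a h hab.symm
  intro a b hlt hab
  obtain ⟨d, rfl⟩ : ∃ d, b = a + d := ⟨b - a, by omega⟩
  have hk : ∀ k, f^[a + k * d] = f^[a] := by
    intro k
    induction k with
    | zero => simp
    | succ k hk =>
      rw [show a + (k + 1) * d = k * d + (a + d) by ring, Function.iterate_add, ← hab,
        ← Function.iterate_add, show k * d + a = a + k * d by ring, hk]
  have hN : a ≤ (a + 1) * d := by nlinarith
  refine ⟨(a + 1) * d, by nlinarith, fun x => ?_⟩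
  obtain ⟨m, hm⟩ := Nat.exists_eq_add_of_le' hN
  rw [← Function.iterate_add_apply]
  conv_lhs => rw [show (a + 1) * d + (a + 1) * d = m + (a + (a + 1) * d) by omega]
  rw [Function.iterate_add_apply, hk, ← Function.iterate_add_apply, ← hm]

theorem indec_to_irred {A : Type*} [CommGroup A] [Finite A] {p : ℕ} [Fact p.Prime] (hA : IsPGroup p A)
    (X : Subgroup (MulAut A)) (hX : (Nat.card X).Coprime p)
    (W₀ : Subgroup A) (hinv : ∀ x ∈ X, W₀.map x.toMonoidHom = W₀) (hW₀ : ∀ b ∈ W₀, b ^ p = 1)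
    (hne : W₀ ≠ ⊥) (hproper : ¬ ∀ a : A, a ∈ W₀ ↔ a ^ p = 1) :
    ∃ B C : Subgroup A, B ≠ ⊥ ∧ C ≠ ⊥ ∧ (∀ x ∈ X, B.map x.toMonoidHom = B) ∧
      (∀ x ∈ X, C.map x.toMonoidHom = C) ∧ B ⊓ C = ⊥ ∧ B ⊔ C = ⊤ := by
  classical
  have hp : p.Prime := Fact.out
  have hinvmem : ∀ (S : Subgroup A), (∀ x ∈ X, S.map x.toMonoidHom = S) →
      ∀ x : X, ∀ a ∈ S, (x : MulAut A) a ∈ S := fun S hS x a ha =>
    (hS x x.2).le ⟨a, ha, rfl⟩
  obtain ⟨E, hEexp⟩ : ∃ e, ∀ a : A, a ^ p ^ e = 1 := by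
    obtain ⟨k, hk⟩ := IsPGroup.iff_card.1 hA
    exact ⟨k, fun a => hk ▸ pow_card_eq_one'⟩
  obtain ⟨e, he, hmin⟩ : ∃ e, (∀ a : A, a ^ p ^ (e + 1) = 1) ∧ ∃ a : A, a ^ p ^ e ≠ 1 := by
    obtain ⟨b, hb⟩ := (Subgroup.ne_bot_iff_exists_ne_one.1 hne)
    have hb' : (b : A) ≠ 1 := fun h => hb (Subtype.ext h)
    have hex : ∃ e, ∀ a : A, a ^ p ^ e = 1 := ⟨E, hEexp⟩
    have hpos : Nat.find hex ≠ 0 := fun h => hb' (by simpa [h] using Nat.find_spec hex b)
    obtain ⟨e, he⟩ := Nat.exists_eq_succ_of_ne_zero hpos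
    refine ⟨e, fun a => by have := Nat.find_spec hex a; rwa [he] at this, ?_⟩
    by_contra! h
    have := Nat.find_min' hex h
    omega
  set P : Subgroup A := (powMonoidHom (p ^ e) : A →* A).range with hP
  have hPΩ : ∀ a ∈ P, a ^ p = 1 := by
    rintro _ ⟨a, rfl⟩
    rw [powMonoidHom_apply, ← pow_mul, ← pow_succ, he]
  obtain ⟨W, hWinv, hWP, hWne, v₀, hv₀, hv₀W⟩ : ∃ W : Subgroup A, (∀ x : X, ∀ a ∈ W, (x : MulAut A) a ∈ W) ∧
      W ≤ P ∧ W ≠ ⊥ ∧ ∃ v : A, v ^ p = 1 ∧ v ∉ W := by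
    by_cases h : ∀ v : A, v ^ p = 1 → v ∈ P
    · refine ⟨W₀, hinvmem W₀ hinv, fun a ha => h a (hW₀ a ha), hne, ?_⟩
      by_contra! h'
      exact hproper fun a => ⟨hW₀ a, h' a⟩
    · push Not at h
      refine ⟨P, ?_, le_rfl, ?_, h⟩
      · rintro x _ ⟨a, rfl⟩
        exact ⟨(x : MulAut A) a, by simp [map_pow]⟩
      · obtain ⟨a, ha⟩ := hmin
        exact fun hbot => ha ((Subgroup.mem_bot).1 (hbot ▸ ⟨a, rfl⟩ : a ^ p ^ e ∈ (⊥ : Subgroup A)))
  -- a complement of `W` in `P`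
  obtain ⟨D, hD, hDmax⟩ := (Set.toFinite {D : Subgroup A | D ≤ P ∧ D ⊓ W = ⊥}).exists_maximal
    ⟨⊥, bot_le, bot_inf_eq W⟩
  have hsplit : ∀ q ∈ P, ∃ w ∈ W, w⁻¹ * q ∈ D := by
    intro q hq
    by_contra! hno
    have hle : D ⊔ Subgroup.zpowers q ≤ D := by
      refine hDmax (y := D ⊔ Subgroup.zpowers q) ⟨sup_le hD.1 (Subgroup.zpowers_le.2 hq), ?_⟩ le_sup_left
      refine eq_bot_iff.2 fun z hz => ?_
      obtain ⟨d, hd, z₂, hz₂, hdz⟩ := Subgroup.mem_sup.1 hz.1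
      obtain ⟨j, rfl⟩ := Subgroup.mem_zpowers_iff.1 hz₂
      by_cases hj : (p : ℤ) ∣ j
      · obtain ⟨c, rfl⟩ := hj
        rw [zpow_mul, zpow_natCast, hPΩ q hq, one_zpow, mul_one] at hdz
        exact hD.2.le ⟨hdz ▸ hd, hz.2⟩
      · exfalso
        obtain ⟨u, w, huw⟩ := (Int.isCoprime_iff_gcd_eq_one.2 (by
          have := (Nat.Prime.coprime_iff_not_dvd hp).2 (fun h => hj (Int.natCast_dvd.2 h))
          rw [Int.gcd_comm]; simpa [Int.gcd, Nat.Coprime, Nat.gcd_comm] using this) : IsCoprime j (p : ℤ))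
        have hq' : q = (q ^ j) ^ u := by
          rw [← zpow_mul, show j * u = 1 + (p : ℤ) * (-w) by linarith, zpow_add, zpow_one, zpow_mul,
            zpow_natCast, hPΩ q hq, one_zpow, mul_one]
        refine hno (z ^ u) (W.zpow_mem hz.2 u) ?_
        rw [← hdz, mul_zpow, hq']
        simp only [mul_inv_rev]
        rw [← hq', mul_comm, ← mul_assoc, ← hq']
        simpa using D.inv_mem (D.zpow_mem hd u)
    exact hno 1 W.one_mem (by simpa using hle (Subgroup.mem_sup_right (Subgroup.mem_zpowers q)))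
  have huniq : ∀ a : A, a ∈ D → a ∈ W → a = 1 := fun a h1 h2 => Subgroup.mem_bot.1 (hD.2 ▸ ⟨h1, h2⟩)
  -- an endomorphism projecting onto `W`
  obtain ⟨ι, hι, n, hn1, ⟨f⟩⟩ := CommGroup.equiv_prod_multiplicative_zmod_of_finite A
  haveI := hι
  haveI : ∀ i, NeZero (n i) := fun i => ⟨by have := hn1 i; omega⟩
  set g : ι → A := fun i => f.symm (Pi.mulSingle i (Multiplicative.ofAdd (1 : ZMod (n i)))) with hg
  have hgn : ∀ i (k : ℕ), g i ^ k = 1 ↔ n i ∣ k := fun i k => by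
    rw [hg, ← map_pow, ← Pi.mulSingle_pow, EmbeddingLike.map_eq_one_iff, Pi.mulSingle_eq_one_iff,
      ← ofAdd_nsmul, ofAdd_eq_one, nsmul_one, ZMod.natCast_eq_zero_iff]
  have hy : ∀ i, ∃ y : A, y ^ n i = 1 ∧
      (n i = p ^ (e + 1) → y ^ p ^ e ∈ W ∧ (y ^ p ^ e)⁻¹ * g i ^ p ^ e ∈ D) ∧
      (n i ≠ p ^ (e + 1) → y = 1) := by
    intro i
    by_cases hi : n i = p ^ (e + 1)
    · obtain ⟨w, hw, hwD⟩ := hsplit _ (⟨g i, rfl⟩ : g i ^ p ^ e ∈ P)
      obtain ⟨y, rfl⟩ := hWP hw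
      exact ⟨y, hi ▸ he y, fun _ => ⟨hw, hwD⟩, fun h => absurd hi h⟩
    · exact ⟨1, one_pow _, fun h => absurd h hi, fun _ => rfl⟩
  choose y hyn hyW hy1 using hy
  let h : ∀ i, Multiplicative (ZMod (n i)) →* A := fun i =>
    { toFun := fun t => y i ^ (Multiplicative.toAdd t).val
      map_one' := by simp
      map_mul' := fun s t => by
        rw [toAdd_mul, ZMod.val_add, ← pow_add]
        exact (pow_eq_pow_mod _ (hyn i)).symm }
  let π₀ : A →* A := ∏ i, ((h i).comp (Pi.evalMonoidHom _ i)).comp f.toMonoidHom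
  have hrepr : ∀ a : A, ∃ c : ι → ℕ, a = ∏ i, g i ^ c i ∧ π₀ a = ∏ i, y i ^ c i := by
    intro a
    refine ⟨fun i => (Multiplicative.toAdd (f a i)).val, ?_, ?_⟩
    · apply f.injective
      simp only [hg, map_prod, map_pow, MulEquiv.apply_symm_apply, ← Pi.mulSingle_pow, ← ofAdd_nsmul,
        nsmul_one, ZMod.natCast_val, ZMod.cast_id', id_eq, ofAdd_toAdd]
      exact (Finset.univ_prod_mulSingle (f a)).symm
    · simp only [π₀, MonoidHom.finsetProd_apply]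
      rfl
  have hcoef : ∀ i (c : ℕ), g i ^ c = 1 → y i ^ c = 1 := fun i c hc => by
    obtain ⟨k, rfl⟩ := (hgn i c).1 hc
    rw [pow_mul, hyn, one_pow]
  have hg_split : ∀ a : A, ∀ c : ι → ℕ, a = ∏ i, g i ^ c i → ∀ i, g i ^ (c i) = 1 ∨ a ≠ 1 := by
    intro a c hac i
    by_contra! hcon
    refine hcon.1 ?_
    have h1 := congrFun (congrArg f (hac.symm.trans hcon.2)) i
    rw [map_one, map_prod, Finset.prod_apply, Finset.prod_eq_single i (fun j _ hj => by
      simp [hg, Pi.mulSingle_eq_of_ne (Ne.symm hj)]) (fun h => absurd (Finset.mem_univ i) h)] at h1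
    apply f.injective
    rw [map_one]
    funext j
    by_cases hj : j = i
    · exact hj ▸ h1
    · simp [hg, Pi.mulSingle_eq_of_ne hj]
  have hπΩ : ∀ a : A, a ^ p = 1 → π₀ a ∈ W := by
    intro a ha
    obtain ⟨c, hac, hπ⟩ := hrepr a
    have hcp : ∀ i, n i ∣ c i * p := fun i => by
      refine (hgn i _).1 ((hg_split (a ^ p) (fun j => c j * p) ?_ i).resolve_right fun h => h ha)
      rw [hac, ← Finset.prod_pow]
      simp only [pow_mul]
    rw [hπ]
    refine W.prod_mem fun i _ => ?_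
    by_cases hi : n i = p ^ (e + 1)
    · have hd := hcp i
      rw [hi, pow_succ] at hd
      obtain ⟨k, hk⟩ := Nat.dvd_of_mul_dvd_mul_right hp.pos hd
      rw [hk, pow_mul]
      exact W.pow_mem (hyW i hi).1 k
    · rw [hy1 i hi, one_pow]; exact W.one_mem
  have hπW : ∀ w ∈ W, π₀ w = w := by
    intro w hw
    obtain ⟨a, rfl⟩ := hWP hw
    obtain ⟨c, hac, hπ⟩ := hrepr a
    have hgen : ∀ i, (y i ^ p ^ e)⁻¹ * g i ^ p ^ e ∈ D := by
      intro i
      by_cases hi : n i = p ^ (e + 1)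
      · exact (hyW i hi).2
      · obtain ⟨k, hk, hk'⟩ := (Nat.dvd_prime_pow hp).1 ((hgn i _).1 (he (g i)))
        have hle : k ≤ e := by
          by_contra h'
          exact hi (hk'.trans (by rw [show k = e + 1 by omega]))
        have : g i ^ p ^ e = 1 := (hgn i _).2 (hk' ▸ Nat.pow_dvd_pow p hle)
        rw [hy1 i hi, this, one_pow, inv_one, one_mul]
        exact D.one_mem
    have hmem : π₀ (a ^ p ^ e) ∈ W := hπΩ _ (hPΩ _ ⟨a, rfl⟩)
    have key : (π₀ (a ^ p ^ e))⁻¹ * a ^ p ^ e ∈ D := by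
      rw [map_pow, hπ]
      conv in a ^ p ^ e => rw [hac]
      rw [← Finset.prod_pow, ← Finset.prod_pow, ← Finset.prod_inv_distrib, ← Finset.prod_mul_distrib]
      refine D.prod_mem fun i _ => ?_
      rw [← pow_mul, ← pow_mul, mul_comm (c i), pow_mul, pow_mul, ← inv_pow, ← mul_pow]
      exact D.pow_mem (hgen i) _
    exact inv_mul_eq_one.1 (huniq _ key (W.mul_mem (W.inv_mem hmem) hw))
  -- averaging
  haveI : Fintype X := Fintype.ofFinite X
  have h1lt : 1 < p ^ (e + 1) := Nat.one_lt_pow (by omega) hp.one_lt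
  obtain ⟨m, -, hm⟩ := Nat.exists_mul_mod_eq_one_of_coprime (hX.pow_right (e + 1)) h1lt
  let avg : A →* A := (powMonoidHom m).comp (∏ x : X, ((x : MulAut A) : A →* A).comp
    (π₀.comp (((x⁻¹ : X) : MulAut A) : A →* A)))
  have havg : ∀ a, avg a = (∏ x : X, (x : MulAut A) (π₀ (((x⁻¹ : X) : MulAut A) a))) ^ m := fun a => by
    simp [avg, MonoidHom.finsetProd_apply, Finset.prod_pow]
  have hequiv : ∀ (z : X) (a : A), avg ((z : MulAut A) a) = (z : MulAut A) (avg a) := by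
    intro z a
    rw [havg, havg, map_pow, map_prod]
    congr 1
    refine (Fintype.prod_equiv (Equiv.mulLeft z) _ _ fun x => ?_).symm
    simp [MulAut.mul_apply]
  have havΩ : ∀ a : A, a ^ p = 1 → avg a ∈ W := fun a ha => by
    rw [havg]
    exact W.pow_mem (W.prod_mem fun x _ => hWinv x _ (hπΩ _ (by rw [← map_pow, ha, map_one]))) m
  have havW : ∀ w ∈ W, avg w = w := fun w hw => by
    rw [havg]
    have : ∀ x : X, (x : MulAut A) (π₀ (((x⁻¹ : X) : MulAut A) w)) = w := fun x => by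
      rw [hπW _ (hWinv _ w hw)]; simp
    rw [Finset.prod_congr rfl fun x _ => this x, Finset.prod_const, Finset.card_univ, ← pow_mul,
      ← Nat.card_eq_fintype_card, pow_eq_pow_mod _ (he w), hm, pow_one]
  obtain ⟨N, hN0, hN⟩ := exists_idempotent_iterate avg
  let Φ : A →* A :=
    { toFun := avg^[N]
      map_one' := Function.iterate_fixed (map_one avg) N
      map_mul' := fun a b => iterate_map_mul avg N a b }
  have hΦ : ∀ a, Φ a = avg^[N] a := fun a => rfl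
  have hΦeq : ∀ (z : X) (a : A), Φ ((z : MulAut A) a) = (z : MulAut A) (Φ a) := fun z a => by
    rw [hΦ, hΦ]
    exact ((show Function.Semiconj ((z : MulAut A) : A → A) avg avg from
      fun b => (hequiv z b).symm).iterate_right N a).symm
  refine ⟨Φ.range, Φ.ker, ?_, ?_, ?_, ?_, ?_, ?_⟩
  · intro hbot
    obtain ⟨w, hw⟩ := Subgroup.ne_bot_iff_exists_ne_one.1 hWne
    refine hw (Subtype.ext ?_)
    have : (w : A) ∈ Φ.range := ⟨w, by rw [hΦ, Function.iterate_fixed (havW _ w.2)]⟩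
    rwa [hbot, Subgroup.mem_bot] at this
  · intro hbot
    have hw : avg v₀ ∈ W := havΩ v₀ hv₀
    have hmem : v₀ * (avg v₀)⁻¹ ∈ Φ.ker := by
      obtain ⟨N, rfl⟩ := Nat.exists_eq_succ_of_ne_zero hN0.ne'
      rw [MonoidHom.mem_ker, hΦ, Function.iterate_succ_apply, map_mul, map_inv, havW _ hw,
        mul_inv_cancel]
      exact Function.iterate_fixed (map_one avg) N
    rw [hbot, Subgroup.mem_bot, mul_inv_eq_one] at hmem
    exact hv₀W (hmem ▸ hw)
  · intro x hx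
    refine Subgroup.eq_of_le_of_card_ge ?_ ((Subgroup.card_map_of_injective x.injective).ge)
    rintro _ ⟨_, ⟨a, rfl⟩, rfl⟩
    exact ⟨x a, hΦeq ⟨x, hx⟩ a⟩
  · intro x hx
    refine Subgroup.eq_of_le_of_card_ge ?_ ((Subgroup.card_map_of_injective x.injective).ge)
    rintro _ ⟨a, ha, rfl⟩
    show Φ (x a) = 1
    rw [hΦeq ⟨x, hx⟩ a, MonoidHom.mem_ker.1 ha, map_one]
  · refine eq_bot_iff.2 ?_
    rintro _ ⟨⟨a, rfl⟩, ha⟩
    have ha' : Φ (Φ a) = 1 := ha
    rw [Subgroup.mem_bot, ← ha', hΦ, hΦ, hN]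
  · refine eq_top_iff.2 fun a _ => ?_
    rw [show a = Φ a * ((Φ a)⁻¹ * a) by group]
    refine Subgroup.mul_mem_sup ⟨a, rfl⟩ ?_
    rw [MonoidHom.mem_ker, map_mul, map_inv, hΦ, hΦ, hN, inv_mul_cancel]


/-- Let A be a finite abelian p-group and X a group of automorphisms of A of order prime to p. Call a subgroup of A invariant when every element of X maps it onto itself. Then the following are equivalent: (i) A is not the direct product of two nontrivial invariant subgroups; (ii) every invariant subgroup of A is one of the subgroups Ω_i(A) = {a : a^(p^i) = 1}; (iii) the subgroup Ω₁(A) of elements of order dividing p has no invariant subgroups other than 1 and itself. -/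
theorem result {A : Type*} [CommGroup A] [Finite A] {p : ℕ} [Fact p.Prime] (hA : IsPGroup p A) (X : Subgroup (MulAut A)) (hX : (Nat.card X).Coprime p) : ((¬ ∃ B C : Subgroup A, B ≠ ⊥ ∧ C ≠ ⊥ ∧ (∀ x ∈ X, B.map x.toMonoidHom = B) ∧ (∀ x ∈ X, C.map x.toMonoidHom = C) ∧ B ⊓ C = ⊥ ∧ B ⊔ C = ⊤) ↔ (∀ B : Subgroup A, (∀ x ∈ X, B.map x.toMonoidHom = B) → ∃ i : ℕ, ∀ a : A, a ∈ B ↔ a ^ p ^ i = 1)) ∧ ((∀ B : Subgroup A, (∀ x ∈ X, B.map x.toMonoidHom = B) → ∃ i : ℕ, ∀ a : A, a ∈ B ↔ a ^ p ^ i = 1) ↔ (∀ B : Subgroup A, (∀ x ∈ X, B.map x.toMonoidHom = B) → (∀ b ∈ B, b ^ p = 1) → B = ⊥ ∨ ∀ a : A, a ∈ B ↔ a ^ p = 1)) := by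
  classical
  have hp : p.Prime := Fact.out
  set Q₁ := ¬ ∃ B C : Subgroup A, B ≠ ⊥ ∧ C ≠ ⊥ ∧ (∀ x ∈ X, B.map x.toMonoidHom = B) ∧ (∀ x ∈ X, C.map x.toMonoidHom = C) ∧ B ⊓ C = ⊥ ∧ B ⊔ C = ⊤ with hQ₁
  set Q₂ := ∀ B : Subgroup A, (∀ x ∈ X, B.map x.toMonoidHom = B) → ∃ i : ℕ, ∀ a : A, a ∈ B ↔ a ^ p ^ i = 1 with hQ₂
  set Q₃ := ∀ B : Subgroup A, (∀ x ∈ X, B.map x.toMonoidHom = B) → (∀ b ∈ B, b ^ p = 1) → B = ⊥ ∨ ∀ a : A, a ∈ B ↔ a ^ p = 1 with hQ₃
  have hΩne : ∀ B : Subgroup A, B ≠ ⊥ → ∃ b ∈ B, b ≠ 1 ∧ b ^ p = 1 := by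
    intro B hB
    have := Subgroup.nontrivial_iff_ne_bot B |>.2 hB
    obtain ⟨k, hk⟩ := IsPGroup.iff_card.1 (hA.to_subgroup B)
    have hk0 : k ≠ 0 := by
      rintro rfl
      rw [pow_zero] at hk
      exact hB (Subgroup.card_eq_one.1 hk)
    obtain ⟨b, hb⟩ := exists_prime_orderOf_dvd_card' (G := ↥B) p (hk ▸ dvd_pow_self p hk0)
    refine ⟨b, b.2, fun h => hp.one_lt.ne' (hb.symm.trans (orderOf_eq_one_iff.2 (Subtype.ext h))), ?_⟩
    rw [← Subgroup.coe_pow, ← hb, pow_orderOf_eq_one, Subgroup.coe_one]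
  have h31 : Q₃ → Q₁ := by
    rintro h ⟨B, C, hB, hC, hBi, hCi, hBC, -⟩
    have aux : ∀ D : Subgroup A, D ≠ ⊥ → (∀ x ∈ X, D.map x.toMonoidHom = D) →
        ∀ a : A, a ^ p = 1 → a ∈ D := by
      intro D hD hDi a ha
      let D₁ : Subgroup A := D ⊓ (powMonoidHom p : A →* A).ker
      have hD₁i : ∀ x ∈ X, D₁.map x.toMonoidHom = D₁ := by
        intro x hx
        refine Subgroup.eq_of_le_of_card_ge ?_ ((Subgroup.card_map_of_injective x.injective).ge)
        rintro _ ⟨d, ⟨hd, hdp⟩, rfl⟩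
        refine ⟨(hDi x hx).le ⟨d, hd, rfl⟩, ?_⟩
        show (x d) ^ p = 1
        rw [← map_pow, show d ^ p = 1 from hdp, map_one]
      rcases h D₁ hD₁i (fun b hb => hb.2) with h1 | h1
      · obtain ⟨b, hb, hb1, hbp⟩ := hΩne D hD
        exact absurd (Subgroup.mem_bot.1 (h1 ▸ (⟨hb, hbp⟩ : b ∈ D₁))) hb1
      · exact ((h1 a).2 ha).1
    obtain ⟨b, hb, hb1, hbp⟩ := hΩne B hB
    exact hb1 (Subgroup.mem_bot.1 (hBC ▸ ⟨hb, aux C hC hCi b hbp⟩))
  have h13 : Q₁ → Q₃ := by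
    intro h B hBi hBp
    refine or_iff_not_imp_left.2 fun hB => ?_
    by_contra hno
    exact h (indec_to_irred hA X hX B hBi hBp hB hno)
  have h23 : Q₂ → Q₃ := by
    intro h B hBi hBp
    obtain ⟨i, hi⟩ := h B hBi
    cases i with
    | zero => exact Or.inl (eq_bot_iff.2 fun a ha => Subgroup.mem_bot.2 (by simpa using (hi a).1 ha))
    | succ i => exact Or.inr fun a => ⟨hBp a, fun ha => (hi a).2 (by rw [pow_succ', pow_mul, ha, one_pow])⟩
  have h32 : Q₃ → Q₂ := by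
    intro h B
    induction hk : Nat.card B using Nat.strongRecOn generalizing B with
    | ind k ih =>
      subst hk
      intro hBi
      by_cases hB : B = ⊥
      · exact ⟨0, fun a => by simp [hB]⟩
      have hker : ∀ a : A, a ^ p = 1 → a ∈ B := by
        intro a ha
        let D₁ : Subgroup A := B ⊓ (powMonoidHom p : A →* A).ker
        have hD₁i : ∀ x ∈ X, D₁.map x.toMonoidHom = D₁ := by
          intro x hx
          refine Subgroup.eq_of_le_of_card_ge ?_ ((Subgroup.card_map_of_injective x.injective).ge)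
          rintro _ ⟨d, ⟨hd, hdp⟩, rfl⟩
          refine ⟨(hBi x hx).le ⟨d, hd, rfl⟩, ?_⟩
          show (x d) ^ p = 1
          rw [← map_pow, show d ^ p = 1 from hdp, map_one]
        rcases h D₁ hD₁i (fun b hb => hb.2) with h1 | h1
        · obtain ⟨b, hb, hb1, hbp⟩ := hΩne B hB
          exact absurd (Subgroup.mem_bot.1 (h1 ▸ (⟨hb, hbp⟩ : b ∈ D₁))) hb1
        · exact ((h1 a).2 ha).1
      set B' := B.map (powMonoidHom p : A →* A) with hB'
      have hle : B' ≤ B := by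
        rintro _ ⟨b, hb, rfl⟩
        exact B.pow_mem hb p
      have hlt : Nat.card B' < Nat.card B := by
        refine lt_of_le_of_ne (Nat.le_of_dvd Nat.card_pos (Subgroup.card_dvd_of_le hle)) fun heq => ?_
        obtain ⟨b, hb, hb1, hbp⟩ := hΩne B hB
        have hinj : Set.InjOn (fun a : A => a ^ p) (B : Set A) := by
          refine Set.injOn_of_ncard_image_eq ?_ (Set.toFinite _)
          rw [← Nat.card_coe_set_eq, ← Nat.card_coe_set_eq]
          exact heq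
        exact hb1 (hinj hb B.one_mem (by simp [hbp]))
      have hB'i : ∀ x ∈ X, B'.map x.toMonoidHom = B' := by
        intro x hx
        refine Subgroup.eq_of_le_of_card_ge ?_ ((Subgroup.card_map_of_injective x.injective).ge)
        rintro _ ⟨_, ⟨b, hb, rfl⟩, rfl⟩
        exact ⟨x b, (hBi x hx).le ⟨b, hb, rfl⟩, by simp [map_pow]⟩
      obtain ⟨i, hi⟩ := ih _ hlt B' rfl hB'i
      refine ⟨i + 1, fun a => ⟨fun ha => ?_, fun ha => ?_⟩⟩
      · rw [pow_succ', pow_mul]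
        exact (hi _).1 ⟨a, ha, rfl⟩
      · rw [pow_succ', pow_mul] at ha
        obtain ⟨b, hb, hba⟩ := (hi _).2 ha
        have : a * b⁻¹ ∈ B := hker _ (by
          rw [mul_pow, inv_pow, show b ^ p = a ^ p from hba, mul_inv_cancel])
        simpa using B.mul_mem this hb
  exact ⟨⟨fun h => h32 (h13 h), fun h => h31 (h23 h)⟩, ⟨h23, h32⟩⟩


end Cfsg.Agent.S3775
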