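import Cfsg.Statements.S3778
import Cfsg.Agent.Lib.PGroup.Breadth

set_option autoImplicit false
open Cfsg

namespace Cfsg.Agent.S3778

open CfsgLib.Breadth in
open scoped commutatorElement in

/-- Averaging over the group: some element acts on more than `(1 - 1/p)` of the factors. -/
theorem count_lt {G : Type*} [Group G] [Finite G] {p : ℕ} [Fact p.Prime] (hG : IsPGroup p G)
    (b : ℕ) (hb : ∀ x : G, (Subgroup.centralizer ({x} : Set G)).index ≤ p ^ b) (c : ℕ)
    (hc : gam G c = ⊥) (hmin : gam G (c - 1) ≠ ⊥) (hc2 : 2 ≤ c) :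
    (c - 1) * (p - 1) < b * p := by
  classical
  haveI := Fintype.ofFinite G
  have hp : 2 ≤ p := (Fact.out : p.Prime).two_le
  let K : ℕ → Subgroup G := fun i => cK (N ⊥ i) (gam G i : Set G)
  have hN : ∀ i, N (⊥ : Subgroup G) i = gam G (i + 2) := fun i => by
    rw [N, Subgroup.commutator_bot_left, sup_bot_eq]
  have hK : ∀ i < c - 1, K i ≠ ⊤ := by
    intro i hi htop
    have hle : gam G (i + 1) ≤ gam G (i + 2) := by
      rw [← hN i]
      show ⁅gam G i, (⊤ : Subgroup G)⁆ ≤ N ⊥ i
      rw [Subgroup.commutator_comm, commutator_le_iff_le_cK]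
      exact htop.ge
    have hall : ∀ n, gam G (i + 1) ≤ gam G (i + 1 + n) := by
      intro n
      induction n with
      | zero => exact le_rfl
      | succ n ih => exact hle.trans (Subgroup.commutator_mono ih le_rfl)
    exact hmin (le_bot_iff.1 ((gam_antitone (show i + 1 ≤ c - 1 by omega)).trans
      ((hall (c - (i + 1))).trans (le_of_eq (by rw [show i + 1 + (c - (i + 1)) = c by omega, hc])))))
  have hcount : ∀ x : G, p ^ ((Finset.range (c - 1)).filter fun i => x ∉ K i).card ≤ p ^ b := by
    intro x
    refine le_trans ?_ ((R_bot_le c hc x).trans (hb x))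
    rw [← Finset.prod_const]
    refine le_trans (Finset.prod_le_prod' fun i hi => ?_)
      (Finset.prod_le_prod_of_subset_of_one_le' (fun i hi => Finset.mem_range.2 (by
        have := Finset.mem_range.1 (Finset.mem_filter.1 hi).1
        omega)) fun i _ _ => r_pos ⊥ x i)
    have hx := (Finset.mem_filter.1 hi).2
    simp only [K, mem_cK, not_forall] at hx
    obtain ⟨a, ha, hxa⟩ := hx
    exact p_le_relIndex hG fun hle =>
      hxa (hle (comm_mem_N (Subgroup.mem_sup_right (Subgroup.mem_zpowers x)) ha))
  have hcount' : ∀ x : G, ((Finset.range (c - 1)).filter fun i => x ∉ K i).card ≤ b := fun x =>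
    (Nat.pow_le_pow_iff_right (by omega)).1 (hcount x)
  have houter : ∀ i < c - 1,
      (p - 1) * Fintype.card G ≤ p * ((Finset.univ : Finset G).filter fun x => x ∉ K i).card := by
    intro i hi
    have hidx : p ≤ (K i).index := by
      rw [← Subgroup.relIndex_top_right]
      exact p_le_relIndex hG fun h => hK i hi (top_le_iff.1 h)
    have h1 : ((Finset.univ : Finset G).filter fun x => x ∈ K i).card * p ≤ Fintype.card G := by
      rw [← Nat.card_eq_fintype_card, ← (K i).card_mul_index,
        ← Fintype.card_subtype, ← Nat.card_eq_fintype_card]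
      exact Nat.mul_le_mul_left _ hidx
    have h2 := Finset.card_filter_add_card_filter_not (s := (Finset.univ : Finset G))
      (fun x => x ∈ K i)
    rw [Finset.card_univ] at h2
    rw [Nat.sub_mul, one_mul, ← h2, mul_add]
    rw [mul_comm] at h1
    omega
  have hsum : ∑ x : G, ((Finset.range (c - 1)).filter fun i => x ∉ K i).card =
      ∑ i ∈ Finset.range (c - 1), ((Finset.univ : Finset G).filter fun x => x ∉ K i).card := by
    simp only [Finset.card_filter]
    exact Finset.sum_comm
  have hlt : ∑ x : G, ((Finset.range (c - 1)).filter fun i => x ∉ K i).card <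
      ∑ _x : G, b := by
    refine Finset.sum_lt_sum (fun x _ => hcount' x) ⟨1, Finset.mem_univ 1, ?_⟩
    rw [Finset.card_eq_zero.2 (Finset.filter_eq_empty_iff.2 fun i _ h => h (one_mem _))]
    obtain ⟨x, hx⟩ : ∃ x, x ∉ K 0 := by
      by_contra hh
      push_neg at hh
      exact hK 0 (by omega) (top_le_iff.1 fun x _ => hh x)
    refine lt_of_lt_of_le ?_ (hcount' x)
    exact Finset.card_pos.2 ⟨0, Finset.mem_filter.2 ⟨Finset.mem_range.2 (by omega), hx⟩⟩
  rw [hsum, Finset.sum_const, Finset.card_univ, smul_eq_mul] at hlt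
  have hlow : (c - 1) * ((p - 1) * Fintype.card G) ≤
      p * ∑ i ∈ Finset.range (c - 1), ((Finset.univ : Finset G).filter fun x => x ∉ K i).card := by
    rw [Finset.mul_sum]
    simpa using Finset.card_nsmul_le_sum (Finset.range (c - 1)) _ _
      (fun i hi => houter i (Finset.mem_range.1 hi))
  refine Nat.lt_of_mul_lt_mul_right (a := Fintype.card G) ?_
  calc (c - 1) * (p - 1) * Fintype.card G = (c - 1) * ((p - 1) * Fintype.card G) := by ring
    _ ≤ _ := hlow
    _ < p * (Fintype.card G * b) := Nat.mul_lt_mul_of_pos_left hlt (by omega)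
    _ = b * p * Fintype.card G := by ring

/-- If G is a finite p-group in which every conjugacy class has at most p^b elements (every element has centralizer of index at most p^b), then G is abelian when b = 0, and when b ≥ 1 its nilpotency class c satisfies (c − 1)(p − 1) < bp, that is c < bp/(p − 1) + 1, and hence c ≤ 2b. -/
theorem result {G : Type*} [Group G] [Finite G] {p : ℕ} [Fact p.Prime] (hG : IsPGroup p G) (b : ℕ) (hb : ∀ x : G, (Subgroup.centralizer ({x} : Set G)).index ≤ p ^ b) : ∃ c : ℕ, (⊤ : Subgroup G).lowerCentralSeries c = ⊥ ∧ (b ≠ 0 → (c - 1) * (p - 1) < b * p ∧ c ≤ 2 * b) ∧ (b = 0 → c ≤ 1) := by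
  classical
  haveI : Group.IsNilpotent (⊤ : Subgroup G) := (hG.to_subgroup ⊤).isNilpotent
  have hex := (Subgroup.isNilpotent_iff_lowerCentralSeries (S := (⊤ : Subgroup G))).1 inferInstance
  set c := Nat.find hex with hcdef
  have hc : (⊤ : Subgroup G).lowerCentralSeries c = ⊥ := Nat.find_spec hex
  have hmain : 2 ≤ c → (c - 1) * (p - 1) < b * p := fun h2 =>
    count_lt hG b hb c hc (Nat.find_min hex (show c - 1 < c by omega)) h2
  have hp : 2 ≤ p := (Fact.out : p.Prime).two_le
  refine ⟨c, hc, fun hb0 => ?_, fun hb0 => ?_⟩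
  · rcases Nat.lt_or_ge c 2 with h | h
    · have hc0 : c - 1 = 0 := by omega
      rw [hc0, zero_mul]
      exact ⟨Nat.mul_pos (Nat.pos_of_ne_zero hb0) (by omega), by omega⟩
    · refine ⟨hmain h, ?_⟩
      have h1 := hmain h
      by_contra hlt
      have h2 : 2 * b * (p - 1) ≤ (c - 1) * (p - 1) := Nat.mul_le_mul_right _ (by omega)
      have h3 : b * p ≤ 2 * b * (p - 1) := by
        rw [mul_comm 2 b, mul_assoc]
        exact Nat.mul_le_mul_left b (by omega)
      omega
  · by_contra h
    have := hmain (by omega)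
    rw [hb0, zero_mul] at this
    exact Nat.not_lt_zero _ this

end Cfsg.Agent.S3778
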