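import Cfsg.Statements.S3780
import Cfsg.Agent.Lib.Coprime.PGroupFrattini
import Mathlib.GroupTheory.Index
-- import your own Cfsg.Agent.* helpers here

set_option autoImplicit false
open Cfsg

namespace Cfsg.Agent.S3780

/-- Let V be a finite abelian p-group and α an automorphism of V of order p whose fixed-point subgroup has order p^n. Then V can be generated by pn elements: some subset of V with at most pn elements generates V. -/
theorem result {V : Type*} [CommGroup V] [Finite V] {p : ℕ} [Fact p.Prime] (hV : IsPGroup p V) (α : MulAut V) (hα : orderOf α = p) (n : ℕ) (hfix : Nat.card {v : V // α v = v} = p ^ n) : ∃ S : Finset V, S.card ≤ p * n ∧ Subgroup.closure (S : Set V) = ⊤ := by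
  classical
  have hp : p.Prime := Fact.out
  haveI := Fintype.ofFinite V
  let Ω : Subgroup V := (powMonoidHom p : V →* V).ker
  -- the kernels of the iterates of `α - 1` on the elements of exponent `p`
  let N : V →* V := MonoidHom.mk' (fun v => α v / v) (fun a b => by rw [map_mul, mul_div_mul_comm])
  let D : ℕ → (V →* V) := fun i => Nat.rec (MonoidHom.id V) (fun _ f => f.comp N) i
  have hNΩ : ∀ v ∈ Ω, N v ∈ Ω := by
    intro v hv
    have hv' : v ^ p = 1 := hv
    show (α v / v) ^ p = 1
    rw [div_pow, ← map_pow, hv', map_one, div_one]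
  have hcard : ∀ i, Nat.card (Ω ⊓ (D i).ker : Subgroup V) ≤ p ^ (i * n) := by
    intro i
    induction i with
    | zero =>
      have : Ω ⊓ (D 0).ker = ⊥ := eq_bot_iff.2 fun v hv => hv.2
      rw [this, Subgroup.card_bot]
      simp
    | succ i ih =>
      have hstep : ∀ j, ∀ v ∈ Ω, D j v ∈ Ω := by
        intro j
        induction j with
        | zero => exact fun v hv => hv
        | succ j ihj => exact fun v hv => ihj (N v) (hNΩ v hv)
      let f : (Ω ⊓ (D (i + 1)).ker : Subgroup V) →* V :=
        N.comp (Ω ⊓ (D (i + 1)).ker : Subgroup V).subtype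
      have hrange : Nat.card f.range ≤ p ^ (i * n) := by
        refine le_trans (Subgroup.card_le_of_le ?_) ih
        rintro _ ⟨⟨v, hv⟩, rfl⟩
        exact ⟨hNΩ v hv.1, hv.2⟩
      have hker : Nat.card f.ker ≤ p ^ n := by
        rw [← hfix]
        refine Nat.card_le_card_of_injective (fun v => ⟨v.1.1, div_eq_one.1 v.2⟩) ?_
        intro a b e
        exact Subtype.ext (Subtype.ext (congrArg Subtype.val e :))
      have h1 := f.ker.index_mul_card
      rw [Subgroup.index_ker] at h1
      rw [← h1, Nat.succ_mul, pow_add]
      exact Nat.mul_le_mul hrange hker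
  have hpow : ∀ v ∈ Ω, D p v = 1 := by
    -- binomial expansion in the endomorphism ring of `Ω`
    haveI : IsMulCommutative Ω := inferInstance
    let A : AddMonoid.End (Additive Ω) := MonoidHom.toAdditive
      (MonoidHom.mk' (fun v : Ω => (⟨α v, by
        show α v.1 ^ p = 1
        rw [← map_pow, show v.1 ^ p = 1 from v.2, map_one]⟩ : Ω))
        (fun a b => Subtype.ext (map_mul α _ _)))
    have hA : ∀ (j : ℕ) (u : Additive Ω), ((A ^ j) u).toMul.1 = (α ^ j) u.toMul.1 := by
      intro j
      induction j with
      | zero => intro u; rfl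
      | succ j ihj =>
        intro u
        rw [pow_succ', pow_succ']
        show α ((A ^ j) u).toMul.1 = α ((α ^ j) u.toMul.1)
        rw [ihj]
    have hAp : A ^ p = 1 := AddMonoidHom.ext fun u => Additive.toMul.injective (Subtype.ext (by
      refine (hA p u).trans ?_
      rw [← hα, pow_orderOf_eq_one]
      rfl))
    have hD : ∀ (j : ℕ) (u : Additive Ω), D j u.toMul.1 = (((A - 1) ^ j) u).toMul.1 := by
      intro j
      induction j with
      | zero => intro u; rfl
      | succ j ihj =>
        intro u
        rw [pow_succ]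
        exact ihj ((A - 1) u)
    haveI hne : Nontrivial (Additive Ω) := by
      have h1 : Nontrivial V := by
        by_contra h
        rw [not_nontrivial_iff_subsingleton] at h
        have : α = 1 := MulEquiv.ext fun v => Subsingleton.elim _ _
        rw [this, orderOf_one] at hα
        exact hp.one_lt.ne hα
      obtain ⟨j, hj⟩ := IsPGroup.iff_card.1 hV
      have hd : p ∣ Nat.card V := by
        rcases j with _ | j
        · exact absurd (Finite.one_lt_card (α := V)) (by rw [hj]; simp)
        · exact hj ▸ dvd_pow_self p j.succ_ne_zero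
      obtain ⟨v, hv⟩ := exists_prime_orderOf_dvd_card' p hd
      refine ⟨⟨Additive.ofMul ⟨v, by show v ^ p = 1; rw [← hv, pow_orderOf_eq_one]⟩, 0, fun h => ?_⟩⟩
      have h' : v = 1 := congrArg (fun u : Additive Ω => (u.toMul : Ω).1) h
      rw [h', orderOf_one] at hv
      exact hp.one_lt.ne hv
    haveI : Nontrivial (AddMonoid.End (Additive Ω)) := by
      obtain ⟨u, hu⟩ := exists_ne (0 : Additive Ω)
      exact ⟨⟨1, 0, fun h => hu (DFunLike.congr_fun h u)⟩⟩
    haveI : CharP (AddMonoid.End (Additive Ω)) p := by
      refine (CharP.charP_iff_prime_eq_zero hp).2 (AddMonoidHom.ext fun u => ?_)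
      show ((p : AddMonoid.End (Additive Ω)) u) = 0
      rw [← nsmul_one p]
      exact Additive.toMul.injective (Subtype.ext u.toMul.2)
    intro v hv
    rw [show v = (Additive.ofMul (⟨v, hv⟩ : Ω)).toMul.1 from rfl, hD,
      sub_pow_char_of_commute p (Commute.one_right A), hAp, one_pow, sub_self]
    rfl
  have hΩ : Nat.card Ω ≤ p ^ (p * n) := by
    have h : Ω ⊓ (D p).ker = Ω := inf_eq_left.2 fun v hv => hpow v hv
    rw [← h]
    exact hcard p
  obtain ⟨T, -, hT, hTc⟩ := CfsgLib.Coprime.card_closure_sup_frattini hV (Finset.univ : Finset V)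
  have htop : Subgroup.closure ((Finset.univ : Finset V) : Set V) ⊔ frattini V = ⊤ := by simp
  rw [htop] at hT hTc
  refine ⟨T, ?_, frattini_nongenerating hT⟩
  have hle : (powMonoidHom p : V →* V).range ≤ frattini V := by
    rintro _ ⟨v, rfl⟩
    exact CfsgLib.Coprime.pow_mem_frattini hV v
  have h2 : p ^ T.card ≤ p ^ (p * n) := by
    refine le_trans ?_ hΩ
    have e1 := (powMonoidHom p : V →* V).ker.index_mul_card
    rw [Subgroup.index_ker] at e1
    have e2 : Nat.card (powMonoidHom p : V →* V).range ≤ Nat.card (frattini V) :=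
      Subgroup.card_le_of_le hle
    rw [Subgroup.card_top, ← e1] at hTc
    refine Nat.le_of_mul_le_mul_right ?_ (Nat.card_pos (α := frattini V))
    rw [← hTc, mul_comm]
    exact Nat.mul_le_mul le_rfl e2
  exact (Nat.pow_le_pow_iff_right hp.one_lt).1 h2

end Cfsg.Agent.S3780
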