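import Cfsg.Statements.S3781
import Cfsg.Agent.Lib.PGroup.CommutatorChain

set_option autoImplicit false
set_option linter.style.haveILetI false
open Cfsg

namespace Cfsg.Agent.S3781

/-- Let G be a finite p-group and n ≥ 1, and write γ_1(G) = G, γ_{k+1}(G) = [γ_k(G), G], and likewise γ_k(N) for a subgroup N. Let N be a normal subgroup of G contained in γ_n(G). If i > 1 and γ_{i+1}(N) ≠ 1, then |γ_i(N) : γ_{i+1}(N)| ≥ p^n. -/
theorem result {G : Type*} [Group G] [Finite G] {p : ℕ} [Fact p.Prime] (hG : IsPGroup p G) (n : ℕ) (hn : 1 ≤ n) (N : Subgroup G) [N.Normal] (hN : N ≤ (⊤ : Subgroup G).lowerCentralSeries (n - 1)) (i : ℕ) (hi : 1 < i) (hne : N.lowerCentralSeries i ≠ ⊥) : p ^ n ≤ (N.lowerCentralSeries i).relIndex (N.lowerCentralSeries (i - 1)) := by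
  obtain ⟨i, rfl⟩ : ∃ m, i = m + 1 := ⟨i - 1, by omega⟩
  haveI := hG.isNilpotent
  obtain ⟨m, hm⟩ := Subgroup.nilpotent_iff_lowerCentralSeries.1 (inferInstance : Group.IsNilpotent G)
  rw [add_tsub_cancel_right]
  by_contra hlt
  push Not at hlt
  haveI hAn : (N.lowerCentralSeries i).Normal := Subgroup.lowerCentralSeries_normal N i
  haveI hLn : (N.lowerCentralSeries (i + 1)).Normal := Subgroup.lowerCentralSeries_normal N (i + 1)
  set A := N.lowerCentralSeries i
  set L := N.lowerCentralSeries (i + 1) with hL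
  have hLA : L ≤ A := Subgroup.lowerCentralSeries_antitone N (Nat.le_succ i)
  let E := CfsgLib.PGroup.iterComm A (⊤ : Subgroup G)
  have key : ∀ j, j ≤ n → L.relIndex (E j ⊔ L) < p ^ (n - j) ∨ E j ⊔ L = L := by
    intro j
    induction j with
    | zero =>
      intro _
      left
      simpa [E, CfsgLib.PGroup.iterComm, sup_eq_left.2 hLA] using hlt
    | succ j ih =>
      intro hj
      haveI := CfsgLib.PGroup.iterComm_normal A (⊤ : Subgroup G) j
      haveI := CfsgLib.PGroup.iterComm_normal A (⊤ : Subgroup G) (j + 1)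
      have hle : E (j + 1) ⊔ L ≤ E j ⊔ L :=
        sup_le_sup_right (Subgroup.commutator_le_left (E j) ⊤) L
      rcases ih (by omega) with h1 | h1
      · by_cases h2 : E (j + 1) ⊔ L = E j ⊔ L
        · right
          rw [h2]
          refine le_antisymm (sup_le ?_ le_rfl) le_sup_right
          refine CfsgLib.PGroup.le_of_le_commutator_sup hm ?_
          exact le_sup_left.trans h2.ge
        · left
          have hmul := Subgroup.relIndex_mul_relIndex L _ _ le_sup_right hle
          have hd1 : 1 < (E (j + 1) ⊔ L).relIndex (E j ⊔ L) := by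
            refine Nat.one_lt_iff_ne_zero_and_ne_one.2 ⟨Subgroup.index_ne_zero_of_finite,
              fun h => h2 (le_antisymm hle (Subgroup.relIndex_eq_one.1 h))⟩
          obtain ⟨c, hc⟩ := (hG.to_subgroup (E j ⊔ L)).index
            ((E (j + 1) ⊔ L).subgroupOf (E j ⊔ L))
          change (E (j + 1) ⊔ L).relIndex (E j ⊔ L) = p ^ c at hc
          have hp : p ≤ (E (j + 1) ⊔ L).relIndex (E j ⊔ L) := by
            rcases Nat.eq_zero_or_pos c with h0 | h0
            · rw [hc, h0, pow_zero] at hd1; omega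
            · rw [hc]; exact Nat.le_self_pow h0.ne' p
          have hpow : p ^ (n - j) = p ^ (n - (j + 1)) * p := by
            rw [← pow_succ]; congr 1; omega
          refine Nat.lt_of_mul_lt_mul_right (a := p) (lt_of_le_of_lt ?_ (hpow ▸ h1))
          exact (Nat.mul_le_mul_left _ hp).trans hmul.le
      · right
        exact le_antisymm (hle.trans h1.le) le_sup_right
  obtain ⟨k, hk, hkL⟩ : ∃ k, k ≤ n - 1 ∧ E k ≤ L := by
    refine ⟨n - 1, le_rfl, ?_⟩
    rcases key (n - 1) (by omega) with h1 | h1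
    · rcases Nat.eq_zero_or_pos n with h0 | h0
      · omega
      haveI := CfsgLib.PGroup.iterComm_normal A (⊤ : Subgroup G) (n - 1)
      rw [show n - (n - 1) = 1 by omega, pow_one] at h1
      obtain ⟨c, hc⟩ := (hG.to_subgroup (E (n - 1) ⊔ L)).index (L.subgroupOf (E (n - 1) ⊔ L))
      change L.relIndex (E (n - 1) ⊔ L) = p ^ c at hc
      rcases Nat.eq_zero_or_pos c with h2 | h2
      · exact le_sup_left.trans (Subgroup.relIndex_eq_one.1 (by rw [hc, h2, pow_zero]))
      · rw [hc] at h1
        exact absurd (Nat.le_self_pow h2.ne' p) (not_le.2 h1)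
    · exact le_sup_left.trans h1.le
  have h1 : L ≤ ⁅L, (⊤ : Subgroup G)⁆ := calc
    L = ⁅A, N⁆ := hL
    _ ≤ ⁅A, (⊤ : Subgroup G).lowerCentralSeries k⁆ := Subgroup.commutator_mono le_rfl
        (hN.trans (Subgroup.lowerCentralSeries_antitone ⊤ hk))
    _ ≤ E (k + 1) := CfsgLib.PGroup.commutator_lowerCentralSeries_le_iterComm A ⊤ k
    _ ≤ ⁅L, (⊤ : Subgroup G)⁆ := Subgroup.commutator_mono hkL le_rfl
  exact hne (le_bot_iff.1 (CfsgLib.PGroup.le_of_le_commutator_sup hm (h1.trans le_sup_left)))

end Cfsg.Agent.S3781
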