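import Cfsg.Statements.S3784
import Mathlib.NumberTheory.Fermat
import Mathlib.Algebra.Ring.GeomSum
import Mathlib.Data.ZMod.IntUnitsPower
import Mathlib.Tactic.LinearCombination
import Mathlib.Tactic.Positivity
import Mathlib.Tactic.Linarith

set_option autoImplicit false
set_option linter.style.haveILetI false
open Cfsg

namespace Cfsg.Agent.S3784

/-- Let p, q be primes and a, b positive integers with p^a = q^b + 1. Then either p = 2, b = 1, a is prime and q = 2^a − 1; or q = 2, a = 1, b is a power of 2 and p = 2^b + 1; or p^a = 9 and q^b = 8. -/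
theorem result (p q a b : ℕ) (hp : p.Prime) (hq : q.Prime) (ha : 1 ≤ a) (hb : 1 ≤ b) (h : p ^ a = q ^ b + 1) : (p = 2 ∧ b = 1 ∧ a.Prime ∧ q + 1 = 2 ^ a) ∨ (q = 2 ∧ a = 1 ∧ (∃ m : ℕ, b = 2 ^ m) ∧ p = 2 ^ b + 1) ∨ (p ^ a = 9 ∧ q ^ b = 8) := by
  have hodd : ∀ (x : ℤ) (n : ℕ), Odd x → Odd n → Odd (∑ i ∈ Finset.range n, x ^ i) := by
    intro x n hx hn
    have e : ((∑ i ∈ Finset.range n, x ^ i : ℤ) : ZMod 2) = 1 := by
      push_cast
      rw [show (x : ZMod 2) = 1 from ZMod.intCast_eq_one_iff_odd.2 hx]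
      simp [ZMod.natCast_eq_one_iff_odd.2 hn]
    exact ZMod.intCast_eq_one_iff_odd.1 e
  have hone : ∀ (n : ℕ) (s : ℤ), Odd s → s ∣ (2 : ℤ) ^ n → s.natAbs = 1 := by
    intro n s hs hd
    have h1 : s.natAbs ∣ 2 ^ n := by simpa [Int.natAbs_pow] using Int.natAbs_dvd_natAbs.2 hd
    obtain ⟨i, -, hi⟩ := (Nat.dvd_prime_pow Nat.prime_two).1 h1
    rcases Nat.eq_zero_or_pos i with h0 | h0
    · rw [hi, h0, pow_zero]
    · exact absurd (Int.natAbs_odd.2 hs) (by
        rw [hi, Nat.not_odd_iff_even]; exact (even_two).pow_of_ne_zero h0.ne')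
  have hq1 : 2 ≤ q := hq.two_le
  have hp1 : 2 ≤ p := hp.two_le
  rcases hp.eq_two_or_odd' with rfl | hpodd
  · left
    have hqodd : Odd q := by
      refine hq.eq_two_or_odd'.resolve_left ?_
      rintro rfl
      have h1 : (2 : ℕ) ∣ 2 ^ a := dvd_pow_self 2 (by omega)
      have h2 : (2 : ℕ) ∣ 2 ^ b := dvd_pow_self 2 (by omega)
      omega
    have hbodd : Odd b := by
      by_contra hbe
      obtain ⟨c, hc⟩ := Nat.not_odd_iff_even.1 hbe
      have hsq : q ^ b % 4 = 1 := by
        obtain ⟨k, hk⟩ := hqodd.pow (n := c)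
        rw [hc, pow_add, hk, show (2 * k + 1) * (2 * k + 1) = 4 * (k * k + k) + 1 by ring,
          Nat.mul_add_mod_self_left]
      have ha1 : a = 1 := by
        by_contra h1
        have h4 : (2 : ℕ) ^ 2 ∣ 2 ^ a := pow_dvd_pow 2 (by omega)
        norm_num at h4
        omega
      have : 2 ≤ q ^ b := le_trans hq1 (Nat.le_self_pow (by omega) q)
      rw [ha1, pow_one] at h
      omega
    have hb1 : b = 1 := by
      have hgs := geom_sum_mul (-(q : ℤ)) b
      rw [hbodd.neg_pow] at hgs
      set s := ∑ i ∈ Finset.range b, (-(q : ℤ)) ^ i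
      have hs : Odd s := hodd _ b ((Int.odd_coe_nat q).2 hqodd).neg hbodd
      have h2a : (2 : ℤ) ^ a = s * ((q : ℤ) + 1) := by
        have : ((2 : ℕ) : ℤ) ^ a = (q : ℤ) ^ b + 1 := by exact_mod_cast h
        linear_combination this + hgs
      have habs := hone a s hs ⟨_, h2a⟩
      have hs1 : s = 1 := by
        rcases Int.natAbs_eq s with e | e
        · rw [e, habs]; rfl
        · exfalso
          rw [e, habs] at h2a
          have : (0 : ℤ) < 2 ^ a := by positivity
          push_cast at h2a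
          linarith [(Int.natCast_nonneg q)]
      rw [hs1, one_mul] at h2a
      have h3 : q + 1 = q ^ b + 1 := by
        rw [← h]; exact_mod_cast h2a.symm
      exact (Nat.pow_right_injective hq1) (show q ^ b = q ^ 1 by rw [pow_one]; omega)
    rw [hb1, pow_one] at h
    refine ⟨rfl, hb1, ?_, h.symm⟩
    refine (Nat.prime_of_pow_sub_one_prime (a := 2) ?_ (by rw [h, Nat.add_sub_cancel]; exact hq)).2
    rintro rfl
    rw [pow_one] at h
    omega
  · right
    have hq2 : q = 2 := by
      rcases hq.eq_two_or_odd' with h' | h'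
      · exact h'
      · obtain ⟨u, hu⟩ := hpodd.pow (n := a)
        obtain ⟨v, hv⟩ := h'.pow (n := b)
        omega
    subst hq2
    rcases Nat.even_or_odd a with ⟨c, hc⟩ | haodd
    · right
      set y := p ^ c
      have hy : 3 ≤ y := by
        have h3 : 3 ≤ p := by obtain ⟨k, hk⟩ := hpodd; omega
        exact h3.trans (Nat.le_self_pow (by omega) p)
      have h1 : (y - 1) * (y + 1) = 2 ^ b := by
        have : y * y = 2 ^ b + 1 := by rw [← pow_add, ← hc]; exact h
        obtain ⟨z, hz⟩ : ∃ z, y = z + 1 := ⟨y - 1, by omega⟩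
        rw [hz] at this ⊢
        rw [Nat.add_sub_cancel]
        nlinarith [this]
      obtain ⟨i, -, hi⟩ := (Nat.dvd_prime_pow Nat.prime_two).1 (h1 ▸ dvd_mul_right (y - 1) (y + 1))
      obtain ⟨j, -, hj⟩ := (Nat.dvd_prime_pow Nat.prime_two).1 (h1 ▸ dvd_mul_left (y + 1) (y - 1))
      have hi1 : i = 1 := by
        rcases lt_trichotomy i 1 with h0 | h0 | h0
        · rw [show i = 0 by omega, pow_zero] at hi; omega
        · exact h0
        · exfalso
          have h4 : (2 : ℕ) ^ 2 ∣ 2 ^ i := pow_dvd_pow 2 h0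
          have hj2 : 2 ≤ j := by
            by_contra hcon
            have : 2 ^ j ≤ 2 := (Nat.pow_le_pow_right (by norm_num) (show j ≤ 1 by omega)).trans (by norm_num)
            omega
          have h5 : (2 : ℕ) ^ 2 ∣ 2 ^ j := pow_dvd_pow 2 hj2
          norm_num at h4 h5
          omega
      rw [hi1, pow_one] at hi
      have hy3 : y = 3 := by omega
      have h9 : p ^ a = 9 := by rw [hc, pow_add]; show y * y = 9; rw [hy3]
      exact ⟨h9, by omega⟩
    · left
      have ha1 : a = 1 := by
        have hgs := geom_sum_mul (p : ℤ) a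
        set s := ∑ i ∈ Finset.range a, (p : ℤ) ^ i
        have hs : Odd s := hodd _ a ((Int.odd_coe_nat p).2 hpodd) haodd
        have h2b : (2 : ℤ) ^ b = s * ((p : ℤ) - 1) := by
          have : (p : ℤ) ^ a = ((2 : ℕ) : ℤ) ^ b + 1 := by exact_mod_cast h
          push_cast at this
          linear_combination -this - hgs
        have habs := hone b s hs ⟨_, h2b⟩
        have hp2 : (2 : ℤ) ≤ p := by exact_mod_cast hp1
        have hs1 : s = 1 := by
          rcases Int.natAbs_eq s with e | e
          · rw [e, habs]; rfl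
          · exfalso
            rw [e, habs] at h2b
            have : (0 : ℤ) < 2 ^ b := by positivity
            push_cast at h2b
            linarith
        rw [hs1, one_mul] at hgs
        have h3 : (p : ℤ) ^ a = p := by linarith
        have h4 : p ^ a = p ^ 1 := by rw [pow_one]; exact_mod_cast h3
        exact (Nat.pow_right_injective hp1) h4
      rw [ha1, pow_one] at h
      exact ⟨rfl, ha1, Nat.pow_of_pow_add_prime (a := 2) one_lt_two (by omega) (h ▸ hp), h⟩

end Cfsg.Agent.S3784
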