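import Cfsg.Statements.S3785
import Cfsg.Agent.Lib.PGroup.OmegaOdd
import Cfsg.Agent.Lib.PGroup.Basic
import Cfsg.Agent.Lib.Coprime.Fitting
import Cfsg.Agent.Lib.Coprime.Component
-- import your own Cfsg.Agent.* helpers here

set_option autoImplicit false
open Cfsg

namespace Cfsg.Agent.S3785

/-- Let G be a finite solvable group whose Fitting subgroup F(G) has odd order. If an element g of G commutes with every element of prime order of F(G), then g ∈ F(G). -/
theorem result {G : Type*} [Group G] [Finite G] (hG : Group.IsSolvable G) (hodd : Odd (Nat.card (Cfsg.fittingSubgroup G))) (g : G) (hg : ∀ x ∈ Cfsg.fittingSubgroup G, (orderOf x).Prime → g * x = x * g) : g ∈ Cfsg.fittingSubgroup G := by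
  classical
  haveI := hG
  set F := Cfsg.fittingSubgroup G with hF
  have hFn : F.Normal := by
    rw [hF, Cfsg.fittingSubgroup]
    exact Subgroup.sSup_normal _ fun _ h => h.1
  set S : Set G := {x | x ∈ F ∧ (orderOf x).Prime} with hS
  set K := Subgroup.centralizer S with hK
  have hKn : K.Normal := by
    refine ⟨fun k hk c => Subgroup.mem_centralizer_iff.2 fun x hx => ?_⟩
    have hx' : c⁻¹ * x * c ∈ S := by
      refine ⟨by simpa using hFn.conj_mem x hx.1 c⁻¹, ?_⟩
      have : orderOf (c⁻¹ * x * c) = orderOf x := by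
        simpa using (MulAut.conj c⁻¹).orderOf_eq x
      rw [this]; exact hx.2
    have h := Subgroup.mem_centralizer_iff.1 hk _ hx'
    calc x * (c * k * c⁻¹) = c * ((c⁻¹ * x * c) * k) * c⁻¹ := by group
      _ = c * (k * (c⁻¹ * x * c)) * c⁻¹ := by rw [h]
      _ = c * k * c⁻¹ * x := by group
  have hgK : g ∈ K := Subgroup.mem_centralizer_iff.2 fun x hx => (hg x hx.1 hx.2).symm
  -- an element of `K` of order prime to `p` centralizes `O_p(G)`
  have hcent : ∀ p : ℕ, p.Prime → ∀ k ∈ K, (orderOf k).Coprime p →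
      ∀ x ∈ Cfsg.pCore p G, Commute k x := by
    intro p hp k hk hkp x hx
    haveI := Fact.mk hp
    have hpF : Cfsg.pCore p G ≤ F := by
      rw [hF, CfsgLib.Coprime.fitting_eq_iSup_pCore]
      exact le_iSup (fun q : Nat.Primes => Cfsg.pCore (q : ℕ) G) ⟨p, hp⟩
    by_cases hb : Cfsg.pCore p G = ⊥
    · rw [hb, Subgroup.mem_bot] at hx
      simp [hx]
    have hP := CfsgLib.Coprime.pCore_isPGroup (G := G) p
    have hp2 : p ≠ 2 := by
      rintro rfl
      have h1 := Subgroup.card_dvd_of_le hpF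
      obtain ⟨j, hj⟩ := IsPGroup.iff_card.1 hP
      rcases j with _ | j
      · exact hb (Subgroup.eq_bot_of_card_eq _ (by simpa using hj))
      · rw [hj] at h1
        exact (Nat.not_even_iff_odd.2 hodd) (even_iff_two_dvd.2 ((dvd_pow_self 2 j.succ_ne_zero).trans h1))
    haveI := CfsgLib.Coprime.pCore_normal' (G := G) p
    refine CfsgLib.PGroup.commute_of_fix_omega_odd hp2 hP
      (by rw [Subgroup.normalizer_eq_top]; trivial)
      (fun hd => (hp.coprime_iff_not_dvd.1 hkp.symm) hd) (fun y hy hy1 => ?_) x hx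
    by_cases hy0 : y = 1
    · rw [hy0]; exact Commute.one_right k
    exact (Subgroup.mem_centralizer_iff.1 hk y
      ⟨hpF hy, by rw [orderOf_eq_prime hy1 hy0]; exact hp⟩).symm
  -- an element centralizing every `O_p(G)` lies in the centralizer of `F`
  have hCF : ∀ m : G, (∀ p : ℕ, p.Prime → ∀ x ∈ Cfsg.pCore p G, Commute m x) →
      m ∈ Subgroup.centralizer (F : Set G) := by
    intro m hm
    rw [← Subgroup.zpowers_le, Subgroup.le_centralizer_iff, hF,
      CfsgLib.Coprime.fitting_eq_iSup_pCore]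
    refine iSup_le fun p x hx => Subgroup.mem_centralizer_iff.2 ?_
    rintro _ ⟨i, rfl⟩
    exact ((hm p p.2 x hx).zpow_left i).eq
  refine CfsgLib.PGroup.mem_of_forall_prime_pow_mem fun q hq => ?_
  haveI := Fact.mk hq
  have hg0 : orderOf g ≠ 0 := (orderOf_pos g).ne'
  obtain ⟨a, k, hk, hgk⟩ := Nat.exists_eq_pow_mul_and_not_dvd hg0 q hq.ne_one
  refine ⟨k, hk, ?_⟩
  have hyq : (g ^ k) ^ q ^ a = 1 := by rw [← pow_mul, mul_comm, ← hgk, pow_orderOf_eq_one]
  set y := g ^ k with hy
  have hyK : y ∈ K := pow_mem hgK k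
  let D : Subgroup G := ⨅ p : {p : Nat.Primes // (p : ℕ) ≠ q},
    Subgroup.centralizer (Cfsg.pCore ((p : Nat.Primes) : ℕ) G : Set G)
  have hDn : D.Normal := by
    refine Subgroup.normal_iInf_normal fun p => ?_
    haveI := CfsgLib.Coprime.pCore_normal' (G := G) ((p : Nat.Primes) : ℕ)
    exact inferInstance
  have hyD : y ∈ D := by
    rw [Subgroup.mem_iInf]
    intro p
    rw [Subgroup.mem_centralizer_iff]
    intro x hx
    refine (hcent _ p.1.2 y hyK ?_ x hx).symm.eq
    refine Nat.Coprime.coprime_dvd_left (orderOf_dvd_of_pow_eq_one hyq) ?_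
    exact ((Nat.coprime_primes hq p.1.2).2 (Ne.symm p.2)).pow_left a
  haveI hMn : (K ⊓ D).Normal := inferInstance
  suffices h : Group.IsNilpotent (K ⊓ D : Subgroup G) by
    exact CfsgLib.Coprime.le_fitting h ⟨hyK, hyD⟩
  refine Group.of_quotient_center_nilpotent ?_
  refine IsPGroup.isNilpotent (p := q) fun z => ?_
  induction z using QuotientGroup.induction_on with
  | H m =>
    obtain ⟨b, l, hl, hml⟩ := Nat.exists_eq_pow_mul_and_not_dvd (orderOf_pos m).ne' q hq.ne_one
    refine ⟨b, ?_⟩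
    rw [← QuotientGroup.mk_pow, QuotientGroup.eq_one_iff]
    have hmK : ((m ^ q ^ b : (K ⊓ D : Subgroup G)) : G) ∈ K := (m ^ q ^ b).2.1
    have hmD : ((m ^ q ^ b : (K ⊓ D : Subgroup G)) : G) ∈ D := (m ^ q ^ b).2.2
    have hmord : (orderOf ((m ^ q ^ b : (K ⊓ D : Subgroup G)) : G)).Coprime q := by
      refine Nat.Coprime.coprime_dvd_left (orderOf_dvd_of_pow_eq_one ?_)
        ((hq.coprime_iff_not_dvd.2 hl).symm)
      rw [← Subgroup.coe_pow, ← pow_mul, ← hml, pow_orderOf_eq_one, Subgroup.coe_one]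
    set w := m ^ q ^ b with hw
    have hwF : (w : G) ∈ F := by
      refine (CfsgLib.Coprime.centralizer_fitting_le (G := G)) (hCF _ fun p hp x hx => ?_)
      rcases eq_or_ne p q with rfl | hpq
      · exact hcent p hp _ hmK hmord x hx
      · exact (Subgroup.mem_centralizer_iff.1 (Subgroup.mem_iInf.1 hmD ⟨⟨p, hp⟩, hpq⟩) x hx).symm
    rw [Subgroup.mem_center_iff]
    intro v
    refine Subtype.ext ?_
    show (v : G) * w = w * v
    -- `w` lies in the part of the Fitting subgroup of order prime to `q`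
    set C := Subgroup.centralizer ({(v : G)} : Set G) with hC
    suffices hwC : (w : G) ∈ C from (Subgroup.mem_centralizer_singleton_iff.1 hwC).symm
    refine CfsgLib.PGroup.mem_of_forall_prime_pow_mem fun p hp => ?_
    obtain ⟨c, l', hl', hwl⟩ := Nat.exists_eq_pow_mul_and_not_dvd (orderOf_pos (w : G)).ne' p hp.ne_one
    refine ⟨l', hl', ?_⟩
    haveI := Fact.mk hp
    rcases eq_or_ne p q with rfl | hpq
    · have h0 : c = 0 := by
        by_contra hc
        exact hq.coprime_iff_not_dvd.1 hmord.symm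
          (hwl ▸ (dvd_mul_of_dvd_left (dvd_pow_self p hc) l'))
      rw [h0, pow_zero, one_mul] at hwl
      rw [← hwl, pow_orderOf_eq_one]
      exact one_mem _
    · have hwp : ((w : G) ^ l') ^ p ^ c = 1 := by
        rw [← pow_mul, mul_comm, ← hwl, pow_orderOf_eq_one]
      have hmem : (w : G) ^ l' ∈ Cfsg.pCore p G := by
        have h1 := CfsgLib.PGroup.pow_pPrimePart_mem_pCore (p := p) (pow_mem hwF l')
        have h2 : (CfsgLib.PGroup.pPrimePart p G).Coprime (orderOf ((w : G) ^ l')) :=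
          Nat.Coprime.coprime_dvd_right (orderOf_dvd_of_pow_eq_one hwp)
            (((hp.coprime_iff_not_dvd.2 (CfsgLib.PGroup.not_dvd_pPrimePart hp)).symm).pow_right c)
        obtain ⟨t, ht⟩ := exists_pow_eq_self_of_coprime h2
        rw [← ht]
        exact pow_mem h1 t
      rw [Subgroup.mem_centralizer_singleton_iff]
      exact Subgroup.mem_centralizer_iff.1 (Subgroup.mem_iInf.1 v.2.2 ⟨⟨p, hp⟩, hpq⟩) _ hmem

end Cfsg.Agent.S3785
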