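import Cfsg.Statements.S3786
-- import your own Cfsg.Agent.* helpers here
import Cfsg.Agent.Lib.PGroup.ModularB.DoubleLength

set_option autoImplicit false
open Cfsg

namespace Cfsg.Agent.S3786


/-- The Hall–Higman bound on p-length. Let p be an odd prime and G a finite p-soluble group whose Sylow p-subgroups have exponent dividing p^e. (a) If p is not of the form 2^k + 1, or if the Sylow 2-subgroups of G are abelian, then G has p-length at most e. (b) In every case G has p-length at most 2e. -/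
theorem result {G : Type*} [Group G] [Finite G] {p : ℕ} [Fact p.Prime] (hp : p ≠ 2) (hG : Cfsg.IsPSolvable p G) (e : ℕ) (hexp : ∀ (P : Sylow p G), ∀ x ∈ (P : Subgroup G), x ^ p ^ e = 1) : (((¬ ∃ k : ℕ, p = 2 ^ k + 1) ∨ ∀ S : Sylow 2 G, IsMulCommutative (S : Subgroup G)) → Cfsg.PLengthLE p e G) ∧ Cfsg.PLengthLE p (2 * e) G := by
  have hexp' : ∀ x : G, IsPGroup p (Subgroup.zpowers x) → x ^ p ^ e = 1 := fun x hx => by
    obtain ⟨P, hP⟩ := hx.exists_le_sylow
    exact hexp P x (hP (Subgroup.mem_zpowers x))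
  refine ⟨fun hcond => CfsgLib.PGroup.ModularB.pLengthLE_of_exponent e G hG ?_ hexp',
    CfsgLib.PGroup.ModularB.pLengthLE_double hp e G hG hexp'⟩
  intro q hq hqp
  by_cases hq2 : q = 2
  · subst hq2
    rcases hcond with hnf | hab
    · exact Or.inr fun m i _ h => hnf (CfsgLib.PGroup.ModularB.exists_fermat Fact.out hp h)
    · refine Or.inl fun Q hQ => isMulCommutative_iff.2 fun a b => Subtype.ext ?_
      obtain ⟨S, hS⟩ := hQ.exists_le_sylow
      exact (congrArg Subtype.val (isMulCommutative_iff.1 (hab S) ⟨a, hS a.2⟩ ⟨b, hS b.2⟩) :)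
  · exact Or.inr fun m i _ h => hq2 (CfsgLib.PGroup.ModularB.eq_two_of_eq_pow Fact.out hp hq h)

end Cfsg.Agent.S3786
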