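import Cfsg.Statements.S3787
-- import your own Cfsg.Agent.* helpers here
import Cfsg.Agent.Lib.PGroup.ModularB.PLength
import Cfsg.Agent.Lib.PGroup.ModularB.Wreath

set_option autoImplicit false
open Cfsg

namespace Cfsg.Agent.S3787

open CfsgLib.PGroup.ModularB in
theorem mem_pCore {G : Type*} [Group G] [Finite G] {p : ℕ} [Fact p.Prime] (hG : Cfsg.IsPSolvable p G)
    (hcore : Cfsg.pPrimeCore p G = ⊥) (hex : NoExc p G) (hnw : NoWreath p G) {x : G}
    (hx : IsPGroup p (Subgroup.zpowers x)) : x ∈ Cfsg.pCore p G := by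
  classical
  by_contra hxF
  obtain ⟨e, he⟩ := IsPGroup.iff_card.1 hx
  rw [Nat.card_zpowers] at he
  have hex' : ∃ j, x ^ p ^ j ∈ Cfsg.pCore p G := ⟨e, by rw [← he, pow_orderOf_eq_one]; exact one_mem _⟩
  obtain ⟨j, hj⟩ : ∃ j, Nat.find hex' = j + 1 := Nat.exists_eq_succ_of_ne_zero fun h0 => hxF (by
    simpa [h0] using Nat.find_spec hex')
  have hyF : x ^ p ^ j ∉ Cfsg.pCore p G := Nat.find_min hex' (by omega)
  have hypF : (x ^ p ^ j) ^ p ∈ Cfsg.pCore p G := by
    rw [← pow_mul, ← pow_succ, ← hj]; exact Nat.find_spec hex'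
  obtain ⟨Φ, hΦ, V, hV, hVel, hCV, hK, hmap, hback⟩ := exists_reduced hG hcore
  set y := QuotientGroup.mk' Φ (x ^ p ^ j) with hy
  have hyV : y ∉ V := fun h => hyF (hback _ h)
  have hpel : IsPGroup p (Subgroup.zpowers y) := by
    rw [hy, ← MonoidHom.map_zpowers]
    exact (hx.to_le (Subgroup.zpowers_le.2 (Subgroup.pow_mem _ (Subgroup.mem_zpowers x) _))).map _
  have hyp : y ^ p ∈ V := by
    rw [hy, ← map_pow]
    exact hmap (Subgroup.mem_map_of_mem _ hypF)
  by_cases hN : ∀ v, v ∈ V → (v * y) ^ p = y ^ p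
  · refine hyV ?_
    have := mem_of_norm V hVel hCV hK (hex.quotient Φ) (n := 0) (x := y) (by simpa using hyp) (by simpa using hN)
    simpa using this
  push Not at hN
  obtain ⟨v, hv, hvy⟩ := hN
  obtain ⟨W, _, _, T, hW, hT, hinv⟩ := involves_wreath V hVel hyV hyp ⟨v, hv, hvy⟩
  exact hnw.quotient Φ W hW T hT hinv


/-- Let G be a finite p-soluble group, p an odd prime not of the form 2^k + 1, and suppose the wreath product C_p ≀ C_p (of order p^(p+1)) is not involved in a Sylow p-subgroup of G: no section of a Sylow p-subgroup is isomorphic to it. Then G has p-length at most 1. -/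
theorem result {G : Type*} [Group G] [Finite G] {p : ℕ} [Fact p.Prime] (hp2 : p ≠ 2) (hnf : (¬ ∃ k : ℕ, p = 2 ^ k + 1)) (hG : Cfsg.IsPSolvable p G) (P : Sylow p G) (hwr : ∀ (W : Type) [Group W] [Finite W], (∃ (B : Subgroup W) (t : W), B.Normal ∧ IsMulCommutative B ∧ (∀ b ∈ B, b ^ p = 1) ∧ Nat.card B = p ^ p ∧ orderOf t = p ∧ t ∉ B ∧ Nat.card W = p ^ (p + 1) ∧ Nat.card ↥(B ⊓ Subgroup.centralizer ({t} : Set W)) = p) → ¬ Cfsg.Involves W ↥(P : Subgroup G)) : Cfsg.PLengthLE p 1 G := by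
  classical
  open CfsgLib.PGroup.ModularB in
  have hex : NoExc p G := fun q hq _ => Or.inr fun m i hi h => by
    obtain rfl := eq_two_of_eq_pow Fact.out hp2 hq h
    exact hnf (exists_fermat Fact.out hp2 h)
  have hnw : CfsgLib.PGroup.ModularB.NoWreath p G :=
    CfsgLib.PGroup.ModularB.noWreath_of_sylow P fun W _ _ hW => hwr W hW
  set U₁ := (Cfsg.upperPSeries p G 1).1 with hU₁
  set U₂ := (Cfsg.upperPSeries p G 2).1 with hU₂
  haveI : U₁.Normal := (Cfsg.upperPSeries p G 1).2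
  haveI : U₂.Normal := (Cfsg.upperPSeries p G 2).2
  have hU₂eq : U₂ = CfsgLib.PGroup.stepP p U₁ := CfsgLib.PGroup.upperPSeries_succ_odd (n := 1) (by simp)
  have hbot : Cfsg.pPrimeCore p (G ⧸ U₁) = ⊥ :=
    CfsgLib.PGroup.pPrimeCore_stepPrime_eq_bot _ U₁ (CfsgLib.PGroup.upperPSeries_succ_even Even.zero)
  have hall : ∀ x : G, IsPGroup p (Subgroup.zpowers x) → x ∈ U₂ := by
    intro x hx
    rw [hU₂eq, Subgroup.mem_comap]
    exact mem_pCore (CfsgLib.PGroup.isPSolvable_quotient Fact.out hG U₁) hbot (hex.quotient U₁)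
      (hnw.quotient U₁) (by rw [← MonoidHom.map_zpowers]; exact hx.map _)
  show (Cfsg.upperPSeries p G (2 * 1 + 1)).1 = ⊤
  have h := CfsgLib.PGroup.ModularB.pLengthLE_of_exponent 0 (G ⧸ U₂)
    (CfsgLib.PGroup.isPSolvable_quotient Fact.out hG U₂) (hex.quotient U₂) (fun y hy => by
      obtain ⟨z, hz, rfl⟩ := CfsgLib.PGroup.PLengthExponent.exists_pPart_lift (QuotientGroup.mk' U₂)
        (QuotientGroup.mk'_surjective U₂) hy
      rw [pow_zero, pow_one]
      exact (QuotientGroup.eq_one_iff _).2 (hall z hz))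
  have hshift := CfsgLib.PGroup.upperPSeries_shift (p := p) U₂ even_two rfl 1
  rw [show (Cfsg.upperPSeries p (G ⧸ U₂) 1).1 = ⊤ from h, Subgroup.comap_top] at hshift
  exact hshift.symm

end Cfsg.Agent.S3787
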