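import Cfsg.Statements.S3788
-- import your own Cfsg.Agent.* helpers here
import Mathlib
import Cfsg.Agent.Lib.PGroup.CyclicNormalCore
import Cfsg.Agent.Lib.Coprime.Action

set_option autoImplicit false
open Cfsg

namespace Cfsg.Agent.S3788

open Subgroup
open scoped commutatorElement

universe u

theorem bottom {G : Type u} [Group G] [Finite G] {p : ℕ} [Fact p.Prime] (hG : Cfsg.IsPSolvable p G)
    (hcore : Cfsg.pPrimeCore p G = ⊥) {a : G} (ha : IsPGroup p (zpowers a))
    (hA : Cfsg.pCore p G ≤ normalizer (zpowers a : Set G))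
    (h : p ≠ 2 ∨ ¬ Cfsg.Involves (Equiv.Perm (Fin 4)) G) : a ∈ Cfsg.pCore p G := by
  classical
  have hp : p.Prime := Fact.out
  set F := Cfsg.pCore p G with hF
  haveI hFn : F.Normal := CfsgLib.Coprime.pCore_normal' p
  have hFp : IsPGroup p F := CfsgLib.Coprime.pCore_isPGroup p
  have hCF : centralizer (F : Set G) ≤ F := CfsgLib.Block.centralizer_pCore_le_of_isPSolvable hG hcore
  set Φ := (frattini F).map F.subtype with hΦdef
  haveI hΦn : Φ.Normal := CfsgLib.Coprime.map_subtype_normal_of_characteristic F (frattini F)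
  have hΦF : Φ ≤ F := map_subtype_le _
  set π := QuotientGroup.mk' Φ with hπ
  have hπ0 : ∀ x, π x = 1 ↔ x ∈ Φ := fun x => QuotientGroup.eq_one_iff x
  set V := F.map π with hVdef
  haveI hVn : V.Normal := hFn.map _ (QuotientGroup.mk'_surjective Φ)
  have hVel : Cfsg.IsElementaryAbelian p V := by
    refine ⟨isMulCommutative_iff.2 ?_, ?_⟩
    · rintro ⟨_, x, hx, rfl⟩ ⟨_, y, hy, rfl⟩
      refine Subtype.ext ?_
      show π x * π y = π y * π x
      rw [← commutatorElement_eq_one_iff_mul_comm, ← map_commutatorElement, hπ0]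
      exact ⟨⁅(⟨x, hx⟩ : F), ⟨y, hy⟩⁆,
        CfsgLib.Coprime.commutator_le_frattini hFp (commutator_mem_commutator (mem_top _) (mem_top _)), rfl⟩
    · rintro _ ⟨x, hx, rfl⟩
      rw [← map_pow, hπ0]
      exact ⟨(⟨x, hx⟩ : F) ^ p, CfsgLib.Coprime.pow_mem_frattini hFp _, rfl⟩
  have hCV : centralizer (V : Set (G ⧸ Φ)) ≤ V := by
    set C2 := (centralizer (V : Set (G ⧸ Φ))).comap π with hC2
    haveI : (centralizer (V : Set (G ⧸ Φ))).Normal := normal_centralizer
    haveI : C2.Normal := (inferInstance : (centralizer (V : Set (G ⧸ Φ))).Normal).comap π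
    have hC2p : IsPGroup p C2 := by
      refine IsPGroup.iff_card.2 ⟨_, Nat.eq_prime_pow_of_unique_prime_dvd Nat.card_pos.ne' fun {q} hq hqd => ?_⟩
      by_contra hqp
      haveI := Fact.mk hq
      obtain ⟨x, hx⟩ := exists_prime_orderOf_dvd_card' (G := C2) q hqd
      rw [← Subgroup.orderOf_coe] at hx
      have hxn : zpowers (x : G) ≤ normalizer (F : Set G) := by
        rw [normalizer_eq_top_iff.2 hFn]; exact le_top
      have hle : zpowers (x : G) ≤ centralizer (F : Set G) := by
        refine CfsgLib.Coprime.le_centralizer_of_trivial_on_frattini_quotient hxn ?_ ?_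
        · obtain ⟨k, hk⟩ := IsPGroup.iff_card.1 (hFp.to_subgroup (frattini F))
          rw [Nat.card_zpowers, hx, hk]
          exact ((Nat.coprime_primes hq hp).2 hqp).pow_right k
        · intro b hb f hf
          show b * f * b⁻¹ * f⁻¹ ∈ Φ
          rw [← commutatorElement_def, ← hπ0, map_commutatorElement, commutatorElement_eq_one_iff_mul_comm]
          have hbC : b ∈ C2 := zpowers_le.2 x.2 hb
          exact (mem_centralizer_iff.1 hbC (π f) (mem_map_of_mem _ hf)).symm
      obtain ⟨k, hk⟩ := IsPGroup.iff_card.1 hFp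
      have hxF : (x : G) ∈ F := hCF (hle (mem_zpowers _))
      have hd := orderOf_dvd_natCard (⟨x, hxF⟩ : F)
      rw [Subgroup.orderOf_mk, hx, hk] at hd
      exact hqp ((Nat.prime_dvd_prime_iff_eq hq hp).1 (hq.dvd_of_dvd_pow hd))
    intro c hc
    obtain ⟨x, rfl⟩ := QuotientGroup.mk'_surjective Φ c
    exact mem_map_of_mem _ (CfsgLib.Coprime.le_pCore hC2p hc)
  have hO : Cfsg.pCore p ((G ⧸ Φ) ⧸ V) = ⊥ := by
    set f := (QuotientGroup.mk' V).comp π with hf
    have hfs : Function.Surjective f := (QuotientGroup.mk'_surjective V).comp (QuotientGroup.mk'_surjective Φ)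
    have hker : f.ker = F := by
      rw [hf, ← MonoidHom.comap_ker, QuotientGroup.ker_mk', hVdef, comap_map_eq, QuotientGroup.ker_mk',
        sup_eq_left.2 hΦF]
    set O := Cfsg.pCore p ((G ⧸ Φ) ⧸ V)
    haveI : O.Normal := CfsgLib.Coprime.pCore_normal' p
    haveI : (O.comap f).Normal := (inferInstance : O.Normal).comap f
    have hle : O.comap f ≤ F := CfsgLib.Coprime.le_pCore
      ((CfsgLib.Coprime.pCore_isPGroup (G := (G ⧸ Φ) ⧸ V) p).comap_of_ker_isPGroup f (hker.symm ▸ hFp))
    rw [eq_bot_iff, ← map_comap_eq_self_of_surjective hfs O]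
    refine (map_mono hle).trans ?_
    rw [← hker, map_le_iff_le_comap, MonoidHom.comap_bot]
  have hK := CfsgLib.FFPair.centralizer_pPrimeCore_le_of_isPSolvable
    (CfsgLib.PGroup.isPSolvable_quotient hp (CfsgLib.PGroup.isPSolvable_quotient hp hG Φ) V) hO
  suffices h1 : π a ∈ V by
    obtain ⟨f, hf, hfa⟩ := h1
    have h2 : f⁻¹ * a ∈ Φ := by rw [← hπ0, map_mul, map_inv, hfa, inv_mul_cancel]
    simpa using mul_mem hf (hΦF h2)
  by_contra haV
  obtain ⟨j, hj⟩ := IsPGroup.iff_card.1 ha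
  rw [Nat.card_zpowers] at hj
  have hex : ∃ i, (π a) ^ p ^ i ∈ V := ⟨j, by rw [← hj, ← map_pow, pow_orderOf_eq_one, map_one]; exact one_mem _⟩
  classical
  set i := Nat.find hex with hi
  have hi0 : i ≠ 0 := fun e => haV (by
    have := Nat.find_spec hex
    rwa [← hi, e, pow_zero, pow_one] at this)
  set b := (π a) ^ p ^ (i - 1) with hb
  refine CfsgLib.PGroup.CyclicNormalCore.core V hVel hCV hK ?_ (a := b) ?_ ?_ ?_
  · exact h.imp id fun h2 h3 => h2 (CfsgLib.Fusion.involves_of_surjective π (QuotientGroup.mk'_surjective Φ) h3)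
  · exact Nat.find_min hex (by omega)
  · rw [hb, ← pow_mul, ← pow_succ, Nat.sub_add_cancel (Nat.pos_of_ne_zero hi0)]
    exact Nat.find_spec hex
  · rintro _ ⟨f, hf, rfl⟩
    have key : ∀ f ∈ F, ∀ z ∈ zpowers b, π f * z * (π f)⁻¹ ∈ zpowers b := by
      intro f hf z hz
      obtain ⟨l, rfl⟩ := mem_zpowers_iff.1 hz
      obtain ⟨s, hs⟩ := mem_zpowers_iff.1 ((mem_normalizer_iff.1 (hA hf) a).1 (mem_zpowers a))
      refine mem_zpowers_iff.2 ⟨s * l, ?_⟩
      rw [← conj_zpow, hb, ← conj_pow, ← map_inv, ← map_mul, ← map_mul, ← hs, map_zpow,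
        ← zpow_natCast (π a), ← zpow_natCast (π a ^ s), ← zpow_mul, ← zpow_mul, ← zpow_mul]
      ring_nf
    refine mem_normalizer_iff.2 fun z => ⟨key f hf z, fun h2 => ?_⟩
    have h3 := key f⁻¹ (inv_mem hf) _ h2
    rwa [map_inv, show (π f)⁻¹ * (π f * z * (π f)⁻¹) * (π f)⁻¹⁻¹ = z by group] at h3

/-- Let G be a finite p-soluble group, P a Sylow p-subgroup of G and A a cyclic normal subgroup of P. If p is odd, or if no section of G is isomorphic to the symmetric group of degree 4, then A ≤ O_{p',p}(G). -/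
theorem result {G : Type*} [Group G] [Finite G] {p : ℕ} [Fact p.Prime] (hG : Cfsg.IsPSolvable p G) (P : Sylow p G) (A : Subgroup G) (hAP : A ≤ (P : Subgroup G)) (hAn : (P : Subgroup G) ≤ Subgroup.normalizer (A : Set G)) (hA : IsCyclic A) (h : p ≠ 2 ∨ ¬ Cfsg.Involves (Equiv.Perm (Fin 4)) G) : A ≤ Cfsg.pPrimePCore p G := by
  classical
  have hp : p.Prime := Fact.out
  set O := Cfsg.pPrimeCore p G with hO
  set π := QuotientGroup.mk' O with hπ
  set P1 := P.mapSurjective (QuotientGroup.mk'_surjective O) with hP1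
  have hP1' : (P1 : Subgroup (G ⧸ O)) = (P : Subgroup G).map π := rfl
  obtain ⟨a, haA⟩ := hA.exists_generator
  have hAz : zpowers (a : G) = A := le_antisymm (zpowers_le.2 a.2) fun z hz => by
    obtain ⟨i, hi⟩ := haA ⟨z, hz⟩
    exact ⟨i, by simpa using congrArg Subtype.val hi⟩
  have hmain : π a ∈ Cfsg.pCore p (G ⧸ O) := by
    refine bottom (CfsgLib.PGroup.isPSolvable_quotient hp hG O) (CfsgLib.Coprime.pPrimeCore_quotient_eq_bot hp) ?_ ?_ ?_
    · rw [← MonoidHom.map_zpowers, hAz]
      exact ((P.2.to_le hAP).map _)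
    · have hle : Cfsg.pCore p (G ⧸ O) ≤ (P : Subgroup G).map π := by
        haveI : (Cfsg.pCore p (G ⧸ O)).Normal := CfsgLib.Coprime.pCore_normal' p
        rw [← hP1', ← P1.is_maximal' (IsPGroup.to_sup_of_normal_right P1.2 (CfsgLib.Coprime.pCore_isPGroup (G := G ⧸ O) p)) le_sup_left]
        exact le_sup_right
      refine hle.trans ?_
      rw [← MonoidHom.map_zpowers, hAz]
      exact (map_mono hAn).trans (le_normalizer_map π)
    · exact h.imp id fun h2 h3 => h2 (CfsgLib.Fusion.involves_of_surjective π (QuotientGroup.mk'_surjective O) h3)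
  rw [← hAz, zpowers_le]
  exact hmain

end Cfsg.Agent.S3788
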