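import Cfsg.Statements.S3790
-- import your own Cfsg.Agent.* helpers here
import Mathlib
import Cfsg.Agent.Lib.PGroup.PLengthSeries

set_option autoImplicit false
open Cfsg

namespace Cfsg.Agent.S3790

open Subgroup CfsgLib.PGroup.PLengthSeries

/-- Let G be a finite solvable group and p a prime. Suppose p₁, …, p_r are distinct primes, all different from p, that include every prime dividing the order of G other than p, and that G has p_i-length at most l_i for each i. Then G has p-length at most the product of the numbers 1 + l_i. -/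
theorem result {G : Type*} [Group G] [Finite G] (hG : Group.IsSolvable G) (p : ℕ) [Fact p.Prime] (r : ℕ) (q : Fin r → ℕ) (hq : ∀ i, (q i).Prime ∧ q i ≠ p) (hinj : Function.Injective q) (hcover : ∀ s : ℕ, s.Prime → s ∣ Nat.card G → s ≠ p → ∃ i, q i = s) (l : Fin r → ℕ) (hl : ∀ i, Cfsg.PLengthLE (q i) (l i) G) : Cfsg.PLengthLE p (Finset.univ.prod fun i => 1 + l i) G := by
  classical
  have hp : p.Prime := Fact.out
  suffices key : ∀ (s : Finset (Fin r)) (A B : Subgroup G), A.Normal → B.Normal → A ≤ B →
      (∀ t : ℕ, t.Prime → t ∣ A.relIndex B → t = p ∨ ∃ i ∈ s, q i = t) →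
      (∀ i ∈ s, Ser (q i) (l i) A B) → Ser p (s.prod fun i => 1 + l i) A B by
    have h := key Finset.univ ⊥ ⊤ inferInstance inferInstance bot_le
      (fun t ht htd => or_iff_not_imp_left.2 fun htp => by
        obtain ⟨i, hi⟩ := hcover t ht (by rwa [relIndex_bot_left, card_top] at htd) htp
        exact ⟨i, Finset.mem_univ i, hi⟩)
      (fun i _ => by
        haveI := Fact.mk (hq i).1
        have h1 := ser_upper (G := G) (p := q i) (l i)
        rwa [show (Cfsg.upperPSeries (q i) G (2 * l i + 1)).1 = ⊤ from hl i] at h1)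
    have h2 := le_upper h (j := 0) bot_le
    rw [Nat.zero_add] at h2
    exact top_le_iff.1 h2
  intro s
  induction s using Finset.induction_on with
  | empty =>
    intro A B hA hB hAB hprimes _
    rw [Finset.prod_empty]
    refine Ser.step (Ser.base hA hA le_rfl (by rw [relIndex_self]; exact hp.not_dvd_one)) hB hB hAB le_rfl
      ⟨_, Nat.eq_prime_pow_of_unique_prime_dvd ?_ fun {t} ht htd => (hprimes t ht htd).resolve_right
        fun ⟨_, hi, _⟩ => Finset.notMem_empty _ hi⟩ (by rw [relIndex_self]; exact hp.not_dvd_one)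
    exact FiniteIndex.index_ne_zero
  | @insert i s hi ih =>
    intro A B hA hB hAB hprimes hser
    haveI := Fact.mk (hq i).1
    rw [Finset.prod_insert hi]
    set P := s.prod fun j => 1 + l j
    have hsub : ∀ X Y : Subgroup G, X.Normal → Y.Normal → A ≤ X → X ≤ Y → Y ≤ B →
        ¬ q i ∣ X.relIndex Y → Ser p P X Y := by
      intro X Y hX hY hAX hXY hYB hn
      haveI := hX; haveI := hY
      refine ih X Y hX hY hXY (fun t ht htd => ?_) fun j hj => ?_
      · have hd : X.relIndex Y ∣ A.relIndex B := by
          rw [← relIndex_mul_relIndex A X B hAX (hXY.trans hYB), ← relIndex_mul_relIndex X Y B hXY hYB]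
          exact dvd_mul_of_dvd_right (dvd_mul_right _ _) _
        rcases hprimes t ht (htd.trans hd) with h | ⟨j, hj, h⟩
        · exact Or.inl h
        · rcases Finset.mem_insert.1 hj with rfl | hj'
          · exact absurd (h ▸ htd) hn
          · exact Or.inr ⟨j, hj', h⟩
      · have h1 := (hser j (Finset.mem_insert_of_mem hj)).restrict (H := X) (H' := Y) (hq j).1
        rwa [sup_eq_left.2 (inf_le_left.trans hAX), inf_eq_right.2 hYB, sup_eq_right.2 hXY] at h1
    have hmain : ∀ (k : ℕ) (X : Subgroup G), Ser (q i) k A X → X ≤ B → Ser p ((k + 1) * P) A X := by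
      intro k X h
      induction h with
      | base hA' hX hle hn =>
        intro hXB
        rw [Nat.zero_add, Nat.one_mul]
        exact hsub _ _ hA' hX le_rfl hle hXB hn
      | @step k A' X C D h1 hC hD l1 l2 hm hn ih2 =>
        intro hDB
        obtain ⟨hA', hX, hle⟩ := h1.normal_le
        have h2 : Ser p 0 X C := Ser.base hX hC l1 (by
          obtain ⟨m, hm⟩ := hm
          rw [hm]
          exact fun h => (hq i).2 ((Nat.prime_dvd_prime_iff_eq hp (hq i).1).1 (hp.dvd_of_dvd_pow h)).symm)
        have h3 := ((ih2 hA hAB hprimes hser hsub (l1.trans (l2.trans hDB))).trans hp h2).trans hp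
          (hsub C D hC hD (hle.trans l1) l2 hDB hn)
        rwa [Nat.add_zero, ← Nat.succ_mul] at h3
    rw [show (1 + l i) * P = (l i + 1) * P by ring]
    exact hmain (l i) B (hser i (Finset.mem_insert_self i s)) le_rfl

end Cfsg.Agent.S3790
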