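import Cfsg.Statements.S3791
-- import your own Cfsg.Agent.* helpers here
import Mathlib
import Cfsg.Agent.Lib.PGroup.PLengthSeries

set_option autoImplicit false
open Cfsg

namespace Cfsg.Agent.S3791

open Subgroup

universe u

theorem derived_add {G : Type u} [Group G] {N : Subgroup G} {a : ℕ} (h : derivedSeries G a ≤ N) :
    ∀ b, derivedSeries G (a + b) ≤ (derivedSeries N b).map N.subtype
  | 0 => by rwa [Nat.add_zero, derivedSeries_zero, ← MonoidHom.range_eq_map, range_subtype]
  | b + 1 => by
    rw [← Nat.add_assoc, derivedSeries_succ, derivedSeries_succ, map_commutator]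
    exact commutator_mono (derived_add h b) (derived_add h b)

theorem main {r : ℕ} (q : Fin r → ℕ) (hq : ∀ i, (q i).Prime) (d : Fin r → ℕ) :
    ∀ (n : ℕ) (G : Type u) [Group G] [Finite G], (∀ s : ℕ, s.Prime → s ∣ Nat.card G → ∃ i, q i = s) →
      (∀ i, ∀ S : Sylow (q i) G, derivedSeries ↥(S : Subgroup G) (d i) = ⊥) →
      ∀ l : Fin r → ℕ, (∀ i, Cfsg.PLengthLE (q i) (l i) G) → Finset.univ.sum l = n →
      derivedSeries G (Finset.univ.sum fun i => d i * l i) = ⊥ := by
  classical
  intro n
  induction n using Nat.strong_induction_on with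
  | _ n IH =>
    intro G _ _ hcover hd l hl hn
    set D := derivedSeries G (Finset.univ.sum fun i => d i * l i) with hD
    suffices hsub : ∀ i, D ≤ (Cfsg.upperPSeries (q i) G 1).1 by
      by_contra hne
      obtain ⟨s, hs, hsd⟩ := Nat.exists_prime_and_dvd (fun e => hne (card_eq_one.1 e) : Nat.card D ≠ 1)
      obtain ⟨i, rfl⟩ := hcover s hs (hsd.trans D.card_subgroup_dvd_card)
      haveI := Fact.mk (hq i)
      have h1 := card_dvd_of_le (hsub i)
      rw [CfsgLib.PGroup.pPrimeCore_eq_term_one] at h1
      exact CfsgLib.Coprime.pPrimeCore_not_dvd (G := G) (hq i) (hsd.trans h1)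
    intro i
    haveI := Fact.mk (hq i)
    rcases Nat.eq_zero_or_pos (l i) with h0 | hpos
    · have h := hl i
      rw [h0] at h
      exact le_top.trans (le_of_eq h.symm)
    set U₁ := (Cfsg.upperPSeries (q i) G 1).1 with hU₁
    set U₂ := (Cfsg.upperPSeries (q i) G 2).1 with hU₂
    have hle₂ : U₁ ≤ U₂ := by
      rw [hU₂, CfsgLib.PGroup.upperPSeries_succ_odd (n := 1) (by simp)]
      exact QuotientGroup.le_comap_mk' _ _
    set l' : Fin r → ℕ := fun j => if j = i then l i - 1 else l j with hl'
    have hlen : ∀ j, Cfsg.PLengthLE (q j) (l' j) (G ⧸ U₂) := by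
      intro j
      by_cases hj : j = i
      · subst hj
        rw [hl']; simp only [if_true]
        have hshift := CfsgLib.PGroup.upperPSeries_shift (p := q j) U₂ even_two rfl (2 * (l j - 1) + 1)
        rw [show 2 * (l j - 1) + 1 + 2 = 2 * l j + 1 by omega,
          show (Cfsg.upperPSeries (q j) G (2 * l j + 1)).1 = ⊤ from hl j] at hshift
        exact comap_injective (QuotientGroup.mk'_surjective U₂) (hshift.trans (comap_top _).symm)
      · haveI := Fact.mk (hq j)
        rw [hl']; simp only [hj, if_false]
        exact CfsgLib.PGroup.PLengthSeries.pLengthLE_quotient (hl j) U₂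
    have hlt : Finset.univ.sum l' < n := by
      rw [← hn]
      refine Finset.sum_lt_sum (fun j _ => ?_) ⟨i, Finset.mem_univ i, ?_⟩
      · by_cases hj : j = i
        · subst hj; simp [hl']
        · simp [hl', hj]
      · simp [hl']; omega
    have hsyl : ∀ j, ∀ S : Sylow (q j) (G ⧸ U₂), derivedSeries ↥(S : Subgroup (G ⧸ U₂)) (d j) = ⊥ := by
      intro j S
      haveI := Fact.mk (hq j)
      obtain ⟨T, hT⟩ := Sylow.mapSurjective_surjective (QuotientGroup.mk'_surjective U₂) (q j) S
      let f : (T : Subgroup G) →* (S : Subgroup (G ⧸ U₂)) :=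
        ((QuotientGroup.mk' U₂).comp (T : Subgroup G).subtype).codRestrict _ fun x => by
          rw [← hT, Sylow.coe_mapSurjective]; exact mem_map_of_mem _ x.2
      have hf : Function.Surjective f := fun y => by
        have hy : (y : G ⧸ U₂) ∈ (T : Subgroup G).map (QuotientGroup.mk' U₂) := by
          rw [← Sylow.coe_mapSurjective (QuotientGroup.mk'_surjective U₂), hT]; exact y.2
        obtain ⟨t, ht, e⟩ := hy
        exact ⟨⟨t, ht⟩, Subtype.ext e⟩
      rw [← map_derivedSeries_eq hf, hd j T, Subgroup.map_bot]
    have hih := IH _ hlt (G ⧸ U₂) (fun s hs hsd => hcover s hs (hsd.trans (Subgroup.card_quotient_dvd_card U₂)))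
      hsyl l' hlen rfl
    have h2 : derivedSeries G (Finset.univ.sum fun j => d j * l' j) ≤ U₂ := by
      intro x hx
      refine (QuotientGroup.eq_one_iff x).1 (mem_bot.1 ?_)
      rw [← hih, ← map_derivedSeries_eq (QuotientGroup.mk'_surjective U₂)]
      exact mem_map_of_mem _ hx
    have hsum : (Finset.univ.sum fun j => d j * l j) = (Finset.univ.sum fun j => d j * l' j) + d i := by
      rw [← Finset.sum_erase_add _ _ (Finset.mem_univ i), ← Finset.sum_erase_add _ _ (Finset.mem_univ i),
        Finset.sum_congr rfl (g := fun j => d j * l' j) (fun j hj => by simp [hl', Finset.ne_of_mem_erase hj]),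
        add_assoc]
      congr 1
      simp only [hl', if_true]
      calc d i * l i = d i * (l i - 1 + 1) := by rw [Nat.sub_add_cancel hpos]
        _ = d i * (l i - 1) + d i := by rw [Nat.mul_succ]
    rw [hD, hsum]
    refine (derived_add h2 (d i)).trans ?_
    rintro _ ⟨y, hy, rfl⟩
    refine (QuotientGroup.eq_one_iff _).1 ?_
    set F := Cfsg.pCore (q i) (G ⧸ U₁) with hF
    let S : Sylow (q i) G := default
    have hFS := CfsgLib.Coprime.pCore_le_sylow (S.mapSurjective (QuotientGroup.mk'_surjective U₁))
    rw [Sylow.coe_mapSurjective] at hFS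
    let f : U₂ →* G ⧸ U₁ := (QuotientGroup.mk' U₁).comp U₂.subtype
    let g : (S : Subgroup G) →* G ⧸ U₁ := (QuotientGroup.mk' U₁).comp (S : Subgroup G).subtype
    have hrange : ∀ k, (derivedSeries U₂ k).map f ≤ (derivedSeries (S : Subgroup G) k).map g := by
      intro k
      induction k with
      | zero =>
        rw [derivedSeries_zero, derivedSeries_zero, ← MonoidHom.range_eq_map, ← MonoidHom.range_eq_map]
        rintro _ ⟨u, rfl⟩
        have hu : (u : G) ∈ (Cfsg.pCore (q i) (G ⧸ U₁)).comap (QuotientGroup.mk' U₁) := by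
          have := u.2
          rwa [← CfsgLib.PGroup.stepP, ← CfsgLib.PGroup.upperPSeries_succ_odd (n := 1) (by simp)]
        obtain ⟨s, hs, hse⟩ := hFS hu
        exact ⟨⟨s, hs⟩, hse⟩
      | succ k hk =>
        rw [derivedSeries_succ, derivedSeries_succ, map_commutator, map_commutator]
        exact commutator_mono hk hk
    have := hrange (d i) (mem_map_of_mem f hy)
    rwa [hd i S, Subgroup.map_bot, mem_bot] at this

/-- The Hall–Higman bound on derived length: let G be a finite solvable group, let p₁, …, p_r be distinct primes that include every prime dividing the order of G, and suppose that for each i the Sylow p_i-subgroups of G have derived length at most d_i and G has p_i-length at most l_i. Then G has derived length at most Σ d_i l_i. -/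
theorem result {G : Type*} [Group G] [Finite G] (hG : Group.IsSolvable G) (r : ℕ) (q : Fin r → ℕ) (hq : ∀ i, (q i).Prime) (hinj : Function.Injective q) (hcover : ∀ s : ℕ, s.Prime → s ∣ Nat.card G → ∃ i, q i = s) (d l : Fin r → ℕ) (hd : ∀ i, ∀ P : Subgroup G, (haveI := Fact.mk (hq i); ∃ S : Sylow (q i) G, (S : Subgroup G) = P) → derivedSeries ↥P (d i) = ⊥) (hl : ∀ i, Cfsg.PLengthLE (q i) (l i) G) : derivedSeries G (Finset.univ.sum fun i => d i * l i) = ⊥ := by
  refine main q hq d _ G hcover (fun i S => ?_) l hl rfl
  haveI := Fact.mk (hq i)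
  exact hd i S ⟨S, rfl⟩

end Cfsg.Agent.S3791
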