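import Cfsg.Statements.S3794
import Cfsg.Agent.Lib.PGroup.FpfDerived
import Cfsg.Agent.Lib.PGroup.FixedPointFree
import Mathlib.GroupTheory.SemidirectProduct
-- import your own Cfsg.Agent.* helpers here

set_option autoImplicit false
open Cfsg

namespace Cfsg.Agent.S3794

/-- Let G be a finite solvable group with an automorphism σ satisfying σ⁴ = 1 and fixing only the identity. Then the derived subgroup G' is nilpotent. -/
theorem result {G : Type*} [Group G] [Finite G] (hG : Group.IsSolvable G) (σ : MulAut G) (hσ : σ ^ 4 = 1) (hfpf : ∀ g : G, σ g = g → g = 1) : Group.IsNilpotent (commutator G) := by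
  have hφ : MonoidHom.FixedPointFree σ := hfpf
  have hodd : (Nat.card G).Coprime 2 := by
    rw [Nat.coprime_comm, Nat.prime_two.coprime_iff_not_dvd]
    intro h2
    haveI : Fact (Nat.Prime 2) := ⟨Nat.prime_two⟩
    obtain ⟨P, hP⟩ := CfsgLib.PGroup.fpf_exists_invariant_sylow hφ 2
    have hσP : ∀ x ∈ (P : Subgroup G), σ x ∈ (P : Subgroup G) := fun x hx => by
      rw [← hP]; exact ⟨x, hx, rfl⟩
    let A := Subgroup.zpowers σ
    have hA : IsPGroup 2 A := by
      obtain ⟨k, -, hk⟩ := (Nat.dvd_prime_pow Nat.prime_two).1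
        (orderOf_dvd_of_pow_eq_one (show σ ^ 2 ^ 2 = 1 from hσ))
      exact IsPGroup.of_card (n := k) (by rw [Nat.card_zpowers, hk])
    have hinv : ∀ a ∈ A, ∀ x ∈ (P : Subgroup G), (a : MulAut G) x ∈ (P : Subgroup G) := by
      intro a ha
      obtain ⟨n, rfl⟩ := (Submonoid.mem_powers_iff _ _).1 (mem_powers_iff_mem_zpowers.2 ha)
      induction n with
      | zero => exact fun x hx => hx
      | succ n ih =>
        intro x hx
        rw [pow_succ', MulAut.mul_apply]
        exact hσP _ (ih (Subgroup.npow_mem_zpowers σ n) x hx)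
    let act : MulAction A (P : Subgroup G) :=
      { smul := fun a x => ⟨(a : MulAut G) x, hinv a a.2 x x.2⟩
        one_smul := fun x => Subtype.ext rfl
        mul_smul := fun a b x => Subtype.ext rfl }
    have hPd : 2 ∣ Nat.card (P : Subgroup G) := P.dvd_card_of_dvd_card h2
    obtain ⟨b, hb, hb1⟩ := hA.exists_fixed_point_of_prime_dvd_card_of_fixed_point
      (α := (P : Subgroup G)) hPd (a := 1) (fun a => Subtype.ext (map_one (a : MulAut G)))
    have hfix : σ (b : G) = b := congrArg Subtype.val (hb ⟨σ, Subgroup.mem_zpowers σ⟩)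
    exact hb1 (Subtype.ext (hfpf _ hfix)).symm
  let φ : Subgroup.zpowers σ →* MulAut G := (Subgroup.zpowers σ).subtype
  let Γ := G ⋊[φ] Subgroup.zpowers σ
  haveI : Finite Γ := Finite.of_equiv _ SemidirectProduct.equivProd.symm
  let K : Subgroup Γ := (SemidirectProduct.inl : G →* Γ).range
  have hKn : K.Normal := by
    show (SemidirectProduct.inl : G →* Γ).range.Normal
    rw [SemidirectProduct.range_inl_eq_ker_rightHom]
    infer_instance
  haveI := hG
  have hsol : Group.IsSolvable K :=
    Group.isSolvable_of_surjective (f := (SemidirectProduct.inl : G →* Γ).rangeRestrict)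
      (MonoidHom.rangeRestrict_surjective _)
  have h : CfsgLib.PGroup.FourFree Γ K := by
    refine ⟨SemidirectProduct.inr ⟨σ, Subgroup.mem_zpowers σ⟩, ?_, ?_, ?_⟩
    · rw [← map_pow, show (⟨σ, Subgroup.mem_zpowers σ⟩ : Subgroup.zpowers σ) ^ 4 = 1 from Subtype.ext hσ, map_one]
    · refine hodd.coprime_dvd_left ?_
      rw [← Nat.card_congr ((SemidirectProduct.inl : G →* Γ).ofInjective SemidirectProduct.inl_injective).toEquiv]
    · rw [eq_bot_iff]
      rintro x ⟨⟨g, rfl⟩, hx⟩
      have h1 := Subgroup.mem_centralizer_iff.1 hx _ (Subgroup.mem_zpowers _)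
      have hg : g = 1 := hfpf g (by
        apply SemidirectProduct.inl_injective (φ := φ)
        rw [show σ g = φ ⟨σ, Subgroup.mem_zpowers σ⟩ g from rfl, SemidirectProduct.inl_aut, h1, map_inv,
          mul_inv_cancel_right])
      rw [hg, map_one]
      exact Subgroup.one_mem _
  have hd := CfsgLib.PGroup.derived_nilpotent_of_four Γ K hKn hsol h
  have e : (commutator G).map (SemidirectProduct.inl : G →* Γ) = ⁅K, K⁆ := by
    rw [commutator_def, Subgroup.map_commutator, ← MonoidHom.range_eq_map]
  rw [← e] at hd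
  exact Group.nilpotent_of_mulEquiv
    ((commutator G).equivMapOfInjective (SemidirectProduct.inl : G →* Γ) SemidirectProduct.inl_injective).symm

end Cfsg.Agent.S3794
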