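import Cfsg.Statements.S3796
import Cfsg.Agent.Lib.PGroup.WardBase

set_option autoImplicit false
open Cfsg
open scoped IsMulCommutative

namespace Cfsg.Agent.S3796

/-- Ward's Theorem: let G be a finite solvable group and A an elementary abelian group of automorphisms of G of order p² (p a prime) with no non-identity common fixed point. Then G has Fitting height at most 2: G has Fitting height at most m when there is a chain of normal subgroups 1 = F₀ ≤ F₁ ≤ ⋯ ≤ F_m = G with each F_{i+1}/F_i nilpotent. -/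
theorem result {G : Type*} [Group G] [Finite G] (hG : Group.IsSolvable G) {p : ℕ} (hp : p.Prime) (A : Subgroup (MulAut G)) (hA : Cfsg.IsElementaryAbelian p A) (hcard : Nat.card A = p ^ 2) (hfpf : ∀ g : G, (∀ a ∈ A, a g = g) → g = 1) : ∃ F : Fin (2 + 1) → Subgroup G, F 0 = ⊥ ∧ F (Fin.last 2) = ⊤ ∧ Monotone F ∧ (∀ i, (F i).Normal) ∧ ∀ i : Fin 2, ∃ k : ℕ, (F i.succ).lowerCentralSeries k ≤ F i.castSucc := by
  classical
  haveI : Fact p.Prime := ⟨hp⟩
  haveI := hA.1
  have hexp : ∀ a : A, a ^ p = 1 := fun a => Subtype.ext (hA.2 a a.2)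
  have hcop : (Nat.card A).Coprime (Nat.card G) := by
    rw [hcard]
    refine Nat.Coprime.pow_left 2 ((Nat.Prime.coprime_iff_not_dvd hp).2 fun hd => ?_)
    have hmod := (IsPGroup.of_card (p := p) hcard).card_modEq_card_fixedPoints (α := G)
    have hfp : Nat.card (MulAction.fixedPoints A G) = 1 := by
      rw [Nat.card_eq_one_iff_unique]
      exact ⟨⟨fun a b => Subtype.ext ((hfpf a fun x hx => a.2 ⟨x, hx⟩).trans
        (hfpf b fun x hx => b.2 ⟨x, hx⟩).symm)⟩, ⟨⟨1, fun x => map_one (x : MulAut G)⟩⟩⟩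
    rw [hfp] at hmod
    have h0 : Nat.card G % p = 0 := Nat.mod_eq_zero_of_dvd hd
    rw [Nat.ModEq, h0, Nat.mod_eq_of_lt hp.one_lt] at hmod
    omega
  haveI := hG
  haveI : Group.IsSolvable A := CfsgLib.Coprime.isSolvable_of_isMulCommutative inferInstance
  obtain ⟨F, hFn, hF, hQ⟩ := CfsgLib.PGroup.isNilpotent_quotient_fitting_of_action
    (A₀ := A) inferInstance (CfsgLib.PGroup.ward_base hcard hexp) hG A.subtype hcop
    (fun g hg => hfpf g fun a ha => hg ⟨a, ha⟩)
  refine ⟨![⊥, F, ⊤], rfl, rfl, ?_, ?_, ?_⟩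
  · rw [Fin.monotone_iff_le_succ]
    intro i
    fin_cases i
    · exact bot_le (a := F)
    · exact le_top (a := F)
  · intro i
    fin_cases i
    · exact inferInstanceAs (⊥ : Subgroup G).Normal
    · exact hFn
    · exact inferInstanceAs (⊤ : Subgroup G).Normal
  · intro i
    fin_cases i
    · obtain ⟨n, hn⟩ := (Subgroup.isNilpotent_iff_lowerCentralSeries F).1 hF
      exact ⟨n, hn.le⟩
    · obtain ⟨n, hn⟩ := Subgroup.nilpotent_iff_lowerCentralSeries.1 hQ
      refine ⟨n, ?_⟩
      have h1 := Subgroup.map_lowerCentralSeries (⊤ : Subgroup G) (QuotientGroup.mk' F) n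
      rw [Subgroup.map_top_of_surjective _ (QuotientGroup.mk'_surjective F), hn,
        Subgroup.map_eq_bot_iff, QuotientGroup.ker_mk'] at h1
      exact h1

end Cfsg.Agent.S3796
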