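import Cfsg.Statements.S3797
-- import your own Cfsg.Agent.* helpers here
import Cfsg.Agent.Lib.PGroup.ConjInvol.Main
import Cfsg.Agent.Lib.PGroup.PSolvable
import Mathlib.GroupTheory.FiniteAbelian.Basic

set_option autoImplicit false
open Cfsg

namespace Cfsg.Agent.S3797

open Subgroup in
/-- An abelian `2`-group whose involutions are permuted transitively by automorphisms is homocyclic. -/
theorem homocyclic {S : Type*} [Group S] [Finite S] (hS : IsPGroup 2 S) (hab : IsMulCommutative S)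
    (htr : ∀ x y : S, x ≠ 1 → x ^ 2 = 1 → y ≠ 1 → y ^ 2 = 1 → ∃ a : MulAut S, a x = y) :
    ∃ m r : ℕ, Nonempty (S ≃* (Fin r → Multiplicative (ZMod (2 ^ m)))) := by
  classical
  letI : CommGroup S := { (inferInstance : Group S) with mul_comm := fun a b => hab.is_comm.comm a b }
  obtain ⟨ι, hι, n, hn1, ⟨e⟩⟩ := CommGroup.equiv_prod_multiplicative_zmod_of_finite S
  obtain ⟨N, hN⟩ := IsPGroup.iff_card.1 hS
  have hdvd : ∀ i, n i ∣ Nat.card S := fun i => by
    haveI : NeZero (n i) := ⟨by have := hn1 i; omega⟩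
    have h1 := Subgroup.card_dvd_of_surjective ((Pi.evalMonoidHom (fun i => Multiplicative (ZMod (n i))) i).comp
      e.toMonoidHom) (fun x => ⟨e.symm (Pi.mulSingle i x), by simp⟩)
    rwa [Nat.card_congr Multiplicative.toAdd, Nat.card_zmod] at h1
  have hk : ∀ i, ∃ k, n i = 2 ^ k := fun i => by
    obtain ⟨k, -, hk⟩ := (Nat.dvd_prime_pow Nat.prime_two).1 (hN ▸ hdvd i)
    exact ⟨k, hk⟩
  choose k hk using hk
  obtain rfl : n = fun i => 2 ^ k i := funext hk
  set m := Finset.univ.sup k with hm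
  have hk1 : ∀ i, 1 ≤ k i := fun i => by
    by_contra h0
    have := hn1 i
    simp only [show k i = 0 by omega, pow_zero] at this
    omega
  have hconst : k = fun _ => m := by
    funext i
    refine le_antisymm (Finset.le_sup (Finset.mem_univ i)) ?_
    obtain ⟨j, -, hj⟩ := Finset.exists_mem_eq_sup Finset.univ ⟨i, Finset.mem_univ i⟩ k
    rw [hm, hj]
    by_contra hlt
    -- involutions in the two coordinates
    let bb : ∀ _ : ι, (i : ι) → Multiplicative (ZMod (2 ^ k i)) :=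
      fun l => Pi.mulSingle l (Multiplicative.ofAdd (1 : ZMod (2 ^ k l)))
    have inv : ∀ l : ι, ∃ u : S, u ≠ 1 ∧ u ^ 2 = 1 ∧ e u = bb l ^ 2 ^ (k l - 1) := by
      intro l
      refine ⟨e.symm (bb l ^ 2 ^ (k l - 1)), ?_, ?_,
        e.apply_symm_apply _⟩
      · intro h
        rw [MulEquiv.map_eq_one_iff] at h
        have h1 := congrArg Multiplicative.toAdd (congrFun h l)
        simp only [bb, Pi.pow_apply, Pi.mulSingle_eq_same, toAdd_pow, toAdd_ofAdd, Pi.one_apply, toAdd_one,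
          nsmul_one, ZMod.natCast_eq_zero_iff] at h1
        exact absurd (Nat.le_of_dvd (by positivity) h1)
          (not_le.2 (Nat.pow_lt_pow_right one_lt_two (by have := hk1 l; omega)))
      · rw [← map_pow, ← pow_mul, ← pow_succ, Nat.sub_add_cancel (hk1 l), MulEquiv.map_eq_one_iff]
        simp only [bb]
        rw [          ← Pi.mulSingle_pow, Pi.mulSingle_eq_one_iff, ← ofAdd_nsmul, nsmul_one, ZMod.natCast_self, ofAdd_zero]
    obtain ⟨u, hu1, hu2, hue⟩ := inv j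
    obtain ⟨w, hw1, hw2, hwe⟩ := inv i
    obtain ⟨a, ha⟩ := htr u w hu1 hu2 hw1 hw2
    set z := a (e.symm (bb j)) with hz
    have hzw : z ^ 2 ^ (k j - 1) = w := by
      rw [hz, ← map_pow, ← map_pow, ← hue, MulEquiv.symm_apply_apply, ha]
    have h1 := congrFun hwe i
    rw [← hzw, map_pow, Pi.pow_apply, Pi.pow_apply] at h1
    simp only [bb, Pi.mulSingle_eq_same] at h1
    have h2 : (e z i) ^ 2 ^ (k j - 1) = 1 := by
      refine orderOf_dvd_iff_pow_eq_one.1 (dvd_trans ?_ (pow_dvd_pow 2 (show k i ≤ k j - 1 by omega)))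
      have h3 := orderOf_dvd_natCard (e z i)
      rwa [Nat.card_congr Multiplicative.toAdd, Nat.card_zmod] at h3
    rw [h2] at h1
    refine hw1 (e.injective (funext fun l => ?_))
    rw [map_one, hwe, Pi.pow_apply, Pi.one_apply]
    rcases eq_or_ne l i with rfl | hl
    · simp only [bb, Pi.mulSingle_eq_same]; exact h1.symm
    · simp only [bb, Pi.mulSingle_eq_of_ne hl, one_pow]
  obtain ⟨m', rfl⟩ : ∃ m', k = fun _ => m' := ⟨m, hconst⟩
  exact ⟨m', Fintype.card ι, ⟨e.trans (MulEquiv.arrowCongr (Fintype.equivFin ι) (MulEquiv.refl _))⟩⟩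

/-- Let G be a finite solvable group of even order whose Sylow 2-subgroups contain more than one involution, and suppose all involutions of G are conjugate. Then G has 2-length at most 1, and a Sylow 2-subgroup S of G is either homocyclic (a direct product of cyclic groups of one common order) or a non-abelian 2-group with more than one involution admitting a solvable group of automorphisms transitive on its involutions. -/
theorem result {G : Type*} [Group G] [Finite G] (hG : Group.IsSolvable G) (heven : Even (Nat.card G)) (S : Sylow 2 G) (htwo : ∃ x y : G, x ∈ (S : Subgroup G) ∧ y ∈ (S : Subgroup G) ∧ x ≠ y ∧ x ≠ 1 ∧ x ^ 2 = 1 ∧ y ≠ 1 ∧ y ^ 2 = 1) (hconj : ∀ x y : G, x ≠ 1 → x ^ 2 = 1 → y ≠ 1 → y ^ 2 = 1 → IsConj x y) : Cfsg.PLengthLE 2 1 G ∧ ((∃ m r : ℕ, Nonempty (↥(S : Subgroup G) ≃* (Fin r → Multiplicative (ZMod (2 ^ m))))) ∨ (¬ IsMulCommutative (S : Subgroup G) ∧ ∃ Y : Subgroup (MulAut ↥(S : Subgroup G)), Group.IsSolvable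 Y ∧ ∀ x y : ↥(S : Subgroup G), x ≠ 1 → x ^ 2 = 1 → y ≠ 1 → y ^ 2 = 1 → ∃ a ∈ Y, a x = y)) := by
  classical
  haveI : Fact (Nat.Prime 2) := ⟨Nat.prime_two⟩
  haveI := hG
  set O := Cfsg.pPrimeCore 2 G with hO
  have hOodd : (Nat.card O).Coprime 2 := CfsgLib.Coprime.pPrimeCore_coprime Nat.prime_two
  let π := QuotientGroup.mk' O
  haveI : Group.IsSolvable (G ⧸ O) := inferInstance
  have hSO : (S : Subgroup G) ⊓ O = ⊥ := by
    obtain ⟨a, ha⟩ := IsPGroup.iff_card.1 S.2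
    exact Subgroup.inf_eq_bot_of_coprime (by rw [ha]; exact (hOodd.symm.pow_left a))
  have hinj : ∀ x ∈ (S : Subgroup G), ∀ y ∈ (S : Subgroup G), π x = π y → x = y := by
    intro x hx y hy h
    have h1 : x⁻¹ * y ∈ (S : Subgroup G) ⊓ O :=
      Subgroup.mem_inf.2 ⟨mul_mem (inv_mem hx) hy, QuotientGroup.eq.1 h⟩
    rw [hSO, Subgroup.mem_bot, inv_mul_eq_one] at h1
    exact h1
  obtain ⟨x0, y0, hx0S, hy0S, hxy0, hx01, hx02, hy01, hy02⟩ := htwo
  have htwo' : ∃ x y : G ⧸ O, x ≠ y ∧ x ≠ 1 ∧ x ^ 2 = 1 ∧ y ≠ 1 ∧ y ^ 2 = 1 :=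
    ⟨π x0, π y0, fun h => hxy0 (hinj _ hx0S _ hy0S h),
      fun h => hx01 (hinj _ hx0S _ (one_mem _) (h.trans (map_one π).symm)), by rw [← map_pow, hx02, map_one],
      fun h => hy01 (hinj _ hy0S _ (one_mem _) (h.trans (map_one π).symm)), by rw [← map_pow, hy02, map_one]⟩
  have hlift : ∀ q : G ⧸ O, q ≠ 1 → q ^ 2 = 1 → ∃ g : G, g ≠ 1 ∧ g ^ 2 = 1 ∧ π g = q := by
    intro q hq1 hq2
    obtain ⟨g, rfl⟩ := QuotientGroup.mk'_surjective O q
    have hg2 : g ^ 2 ∈ O := (QuotientGroup.eq_one_iff _).1 hq2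
    obtain ⟨d, hd⟩ := Nat.coprime_two_right.1 hOodd
    have h1 : (g ^ (2 * d + 1)) ^ 2 = 1 := by
      rw [← pow_mul, mul_comm, pow_mul, ← hd]
      exact orderOf_dvd_iff_pow_eq_one.1 (Subgroup.orderOf_dvd_natCard O hg2)
    have h2 : π (g ^ (2 * d + 1)) = π g := by
      rw [map_pow, pow_succ, pow_mul, hq2, one_pow, one_mul]
    exact ⟨_, fun h => hq1 (by rw [← h2, h, map_one]), h1, h2⟩
  have hconj' : ∀ x y : G ⧸ O, x ≠ 1 → x ^ 2 = 1 → y ≠ 1 → y ^ 2 = 1 → IsConj x y := by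
    intro x y hx1 hx2 hy1 hy2
    obtain ⟨g, hg1, hg2, rfl⟩ := hlift x hx1 hx2
    obtain ⟨h, hh1, hh2, rfl⟩ := hlift y hy1 hy2
    exact π.map_isConj (hconj g h hg1 hg2 hh1 hh2)
  have hindex := CfsgLib.PGroup.ConjInvol.odd_index_pCore (G := G ⧸ O)
    (CfsgLib.Coprime.pPrimeCore_quotient_eq_bot Nat.prime_two) htwo' hconj'
  refine ⟨CfsgLib.PGroup.pLengthLE_one_of_not_dvd hindex, ?_⟩
  -- the preimage of `O₂(G/O)` is normal and contains `S`
  haveI : (Cfsg.pCore 2 (G ⧸ O)).Normal := CfsgLib.Coprime.pCore_normal' 2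
  set W := (Cfsg.pCore 2 (G ⧸ O)).comap π with hW
  haveI : W.Normal := inferInstance
  have hSW : (S : Subgroup G) ≤ W := by
    intro s hs
    rw [hW, Subgroup.mem_comap, ← QuotientGroup.eq_one_iff]
    set b : (G ⧸ O) ⧸ Cfsg.pCore 2 (G ⧸ O) := QuotientGroup.mk (π s)
    obtain ⟨a, ha⟩ := S.2 ⟨s, hs⟩
    have h1 : orderOf b ∣ 2 ^ a := by
      refine orderOf_dvd_of_pow_eq_one ?_
      show (QuotientGroup.mk (π s) : (G ⧸ O) ⧸ Cfsg.pCore 2 (G ⧸ O)) ^ 2 ^ a = 1
      rw [← QuotientGroup.mk_pow, ← map_pow, show s ^ 2 ^ a = 1 from congrArg Subtype.val ha, map_one,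
        QuotientGroup.mk_one]
    have h2 : orderOf b ∣ (Cfsg.pCore 2 (G ⧸ O)).index := by
      rw [Subgroup.index_eq_card]; exact orderOf_dvd_natCard b
    exact orderOf_eq_one_iff.1 (Nat.eq_one_of_dvd_coprimes
      ((Nat.prime_two.coprime_iff_not_dvd.2 hindex).pow_left a) h1 h2)
  have hWS : W ≤ O ⊔ (S : Subgroup G) := by
    intro g hg
    have hle : (Cfsg.pCore 2 (G ⧸ O)) ≤ (S : Subgroup G).map π :=
      CfsgLib.Coprime.pCore_le_sylow (S.mapSurjective (QuotientGroup.mk'_surjective O))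
    obtain ⟨s, hs, hse⟩ := hle hg
    rw [show g = g * s⁻¹ * s by group]
    refine Subgroup.mul_mem_sup ?_ hs
    rw [← QuotientGroup.eq_one_iff (N := O)]
    show π (g * s⁻¹) = 1
    rw [map_mul, map_inv, hse, mul_inv_cancel]
  -- fusion of involutions is controlled by the normalizer of `S`
  have hfuse : ∀ x ∈ (S : Subgroup G), ∀ y ∈ (S : Subgroup G), x ≠ 1 → x ^ 2 = 1 → y ≠ 1 → y ^ 2 = 1 →
      ∃ n ∈ Subgroup.normalizer ((S : Subgroup G) : Set G), n * x * n⁻¹ = y := by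
    intro x hx y hy hx1 hx2 hy1 hy2
    obtain ⟨g, hg⟩ := isConj_iff.1 (hconj x y hx1 hx2 hy1 hy2)
    have hgW : g ∈ W ⊔ Subgroup.normalizer ((S : Subgroup G) : Set G) := by
      have h0 := Sylow.normalizer_sup_eq_top' S hSW
      rw [sup_comm]; exact h0.ge (Subgroup.mem_top g)
    obtain ⟨w, hw, m, hm, rfl⟩ := CfsgLib.Coprime.mem_sup_exists
      (by rw [Subgroup.normalizer_eq_top_iff.2 (inferInstance : W.Normal)]; exact le_top) hgW
    obtain ⟨o, ho, s, hs, rfl⟩ := CfsgLib.Coprime.mem_sup_exists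
      (by rw [Subgroup.normalizer_eq_top_iff.2 (inferInstance : O.Normal)]; exact le_top) (hWS hw)
    refine ⟨s * m, mul_mem (Subgroup.le_normalizer hs) hm, ?_⟩
    have hy' : s * m * x * (s * m)⁻¹ ∈ (S : Subgroup G) :=
      (Subgroup.mem_normalizer_iff.1 (mul_mem (Subgroup.le_normalizer hs) hm) x).1 hx
    refine hinj _ hy' _ hy ?_
    have ho1 : π o = 1 := (QuotientGroup.eq_one_iff o).2 ho
    rw [← hg]
    simp only [map_mul, map_inv, ho1, one_mul, mul_inv_rev, inv_one, mul_one]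
  set Y := (Subgroup.normalizerMonoidHom (S : Subgroup G)).range with hY
  have hYsol : Group.IsSolvable Y :=
    Group.isSolvable_of_surjective (Subgroup.normalizerMonoidHom (S : Subgroup G)).rangeRestrict_surjective
  have hYtr : ∀ x y : ↥(S : Subgroup G), x ≠ 1 → x ^ 2 = 1 → y ≠ 1 → y ^ 2 = 1 → ∃ a ∈ Y, a x = y := by
    intro x y hx1 hx2 hy1 hy2
    obtain ⟨m, hm, hmxy⟩ := hfuse x x.2 y y.2 (fun h => hx1 (Subtype.ext h)) (congrArg Subtype.val hx2)
      (fun h => hy1 (Subtype.ext h)) (congrArg Subtype.val hy2)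
    exact ⟨_, ⟨⟨m, hm⟩, rfl⟩, Subtype.ext hmxy⟩
  by_cases hab : IsMulCommutative (S : Subgroup G)
  · exact Or.inl (homocyclic S.2 hab fun x y h1 h2 h3 h4 =>
      (hYtr x y h1 h2 h3 h4).imp fun a ha => ha.2)
  · exact Or.inr ⟨hab, Y, hYsol, hYtr⟩

end Cfsg.Agent.S3797
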