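import Cfsg.Statements.S3798
import Cfsg.Agent.Lib.PGroup.PSolvable
import Cfsg.Agent.Lib.PGroup.OmegaCentral
import Cfsg.Agent.Lib.Coprime.SchurZassenhaus

set_option linter.style.haveILetI false

set_option autoImplicit false
open Cfsg

namespace Cfsg.Agent.S3798

open Subgroup in
/-- The case `O_{p'}(G) = 1`. -/
theorem not_dvd_index_pCore {G : Type*} [Group G] [Finite G] {p : ℕ} [hp : Fact p.Prime] (hp2 : p ≠ 2)
    (hdvd : p ∣ Nat.card G) (hG : Cfsg.IsPSolvable p G) (hcore : Cfsg.pPrimeCore p G = ⊥)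
    (htrans : ∀ U V : Subgroup G, Nat.card U = p → Nat.card V = p → ∃ a : MulAut G, U.map a.toMonoidHom = V) :
    ¬ p ∣ (Cfsg.pCore p G).index := by
  haveI : Nontrivial G := (Finite.one_lt_card_iff_nontrivial).1
    (lt_of_lt_of_le hp.1.one_lt (Nat.le_of_dvd Nat.card_pos hdvd))
  set Q := Cfsg.pCore p G with hQdef
  haveI hQn : Q.Normal := CfsgLib.Coprime.pCore_normal' p
  have hQp : IsPGroup p Q := CfsgLib.Coprime.pCore_isPGroup p
  have hQc : ∀ a : MulAut G, Q.map a.toMonoidHom = Q := fun a => CfsgLib.Coprime.map_pCore_equiv a p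
  have hQ1 : Q ≠ ⊥ := (CfsgLib.PGroup.pCore_ne_bot_or_pPrimeCore_ne_bot hG).resolve_right (fun h => h hcore)
  haveI : Nontrivial Q := (nontrivial_iff_ne_bot Q).2 hQ1
  -- all elements of order `p` are central in `Q`
  obtain ⟨z, hz⟩ : ∃ z : center Q, orderOf z = p := by
    haveI : Nontrivial (center Q) := hQp.center_nontrivial
    obtain ⟨k, hk⟩ := (hQp.to_subgroup (center Q)).exists_card_eq
    refine exists_prime_orderOf_dvd_card' p ?_
    rcases k with _ | k
    · exact absurd hk (Finite.one_lt_card (α := center Q)).ne'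
    · exact hk ▸ dvd_pow_self p (Nat.succ_ne_zero k)
  have hz0 : orderOf ((z : Q) : G) = p := by rw [orderOf_coe, orderOf_coe, hz]
  have hzero : ∀ x : G, x ^ p = 1 → x ≠ 1 → ∃ a : MulAut G, ∃ k : ℤ, x = a ((z : Q) : G) ^ k := by
    intro x hx hx1
    obtain ⟨a, ha⟩ := htrans (zpowers ((z : Q) : G)) (zpowers x) (by rw [Nat.card_zpowers, hz0])
      (by rw [Nat.card_zpowers, orderOf_eq_prime hx hx1])
    rw [MonoidHom.map_zpowers] at ha
    have : x ∈ zpowers (a ((z : Q) : G)) := ha.ge (mem_zpowers x)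
    obtain ⟨k, hk⟩ := mem_zpowers_iff.1 this
    exact ⟨a, k, hk.symm⟩
  have hΩ : ∀ x : G, x ^ p = 1 → x ∈ Q ∧ ∀ y ∈ Q, Commute x y := by
    intro x hx
    by_cases hx1 : x = 1
    · exact hx1 ▸ ⟨one_mem _, fun y _ => Commute.one_left y⟩
    obtain ⟨a, k, rfl⟩ := hzero x hx hx1
    refine ⟨zpow_mem ((hQc a).le (mem_map_of_mem a.toMonoidHom (z : Q).2)) k, fun y hy => Commute.zpow_left ?_ k⟩
    obtain ⟨w, hw, rfl⟩ := (hQc a).ge hy
    exact (show Commute ((z : Q) : G) w from
      (congrArg Subtype.val (mem_center_iff.1 z.2 ⟨w, hw⟩)).symm).map a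
  -- the normal subgroup `K` with `K / Q = O_{p'}(G / Q)`
  haveI hKn' : (Cfsg.pPrimeCore p (G ⧸ Q)).Normal := inferInstance
  set K := (Cfsg.pPrimeCore p (G ⧸ Q)).comap (QuotientGroup.mk' Q) with hK
  haveI hKn : K.Normal := hKn'.comap _
  have hQK : Q ≤ K := fun x hx => by
    rw [hK, mem_comap, show QuotientGroup.mk' Q x = 1 from (QuotientGroup.eq_one_iff x).2 hx]
    exact one_mem _
  have hrel : ∀ N : Subgroup G, Q ≤ N → Nat.card (N.map (QuotientGroup.mk' Q)) = Q.relIndex N := by
    intro N hN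
    have e1 := relIndex_map_map (QuotientGroup.mk' Q) (⊥ : Subgroup G) N
    rw [Subgroup.map_bot, relIndex_bot_left, QuotientGroup.ker_mk', bot_sup_eq, sup_eq_left.2 hN] at e1
    exact e1
  have hKco : (Q.relIndex K).Coprime p := by
    rw [← hrel K hQK, hK, map_comap_eq_self_of_surjective (QuotientGroup.mk'_surjective Q)]
    exact CfsgLib.Coprime.pPrimeCore_coprime hp.1
  have hKmax : ∀ N : Subgroup G, N.Normal → Q ≤ N → (Q.relIndex N).Coprime p → N ≤ K := by
    intro N hN hQN hco
    haveI := hN.map _ (QuotientGroup.mk'_surjective Q)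
    rw [hK, ← map_le_iff_le_comap]
    exact CfsgLib.Coprime.le_pPrimeCore ((hrel N hQN).symm ▸ hco)
  by_cases hQtop : Q = ⊤
  · rw [hQtop, index_top, Nat.dvd_one]; exact hp.1.ne_one
  have hKQ : K ≠ Q := by
    intro h
    haveI : Nontrivial (G ⧸ Q) := QuotientGroup.nontrivial_iff.2 hQtop
    rcases CfsgLib.PGroup.pCore_ne_bot_or_pPrimeCore_ne_bot
      (CfsgLib.PGroup.isPSolvable_quotient hp.1 hG Q) with h1 | h1
    · exact h1 (CfsgLib.Coprime.pCore_quotient_eq_bot p)
    · refine h1 ?_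
      rw [← map_comap_eq_self_of_surjective (QuotientGroup.mk'_surjective Q) (Cfsg.pPrimeCore p (G ⧸ Q)),
        ← hK, h, QuotientGroup.map_mk'_self]
  -- the complement
  obtain ⟨n, hn⟩ := hQp.exists_card_eq
  obtain ⟨H, hH⟩ := exists_right_complement'_of_coprime (N := Q.subgroupOf K) (by
    show (Nat.card (Q.subgroupOf K)).Coprime (Q.relIndex K)
    rw [Nat.card_congr (subgroupOfEquivOfLe hQK).toEquiv, hn]
    exact (Nat.Coprime.pow_left _ hKco.symm))
  set K0 := H.map K.subtype with hK0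
  have hK0K : K0 ≤ K := map_subtype_le _
  have hK0c : Nat.card K0 = Q.relIndex K := by
    rw [hK0, card_map_of_injective K.subtype_injective, ← hH.symm.index_eq_card]; rfl
  have hK0p : (Nat.card K0).Coprime p := hK0c ▸ hKco
  have hsupK : K0 ⊔ Q = K := by
    have h1 := congrArg (Subgroup.map K.subtype) hH.sup_eq_top
    rw [Subgroup.map_sup, subgroupOf_map_subtype, inf_eq_left.2 hQK, ← MonoidHom.range_eq_map,
      range_subtype] at h1
    exact sup_comm Q K0 ▸ h1
  have hdisj : ∀ x ∈ Q, x ∈ K0 → x = 1 := by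
    intro x hxQ hx0
    obtain ⟨w, hw, rfl⟩ := hx0
    exact congrArg Subtype.val (disjoint_def.1 hH.disjoint (show w ∈ Q.subgroupOf K from hxQ) hw)
  -- no element of order `p` centralizes `K0`
  have hC : ∀ x : G, x ^ p = 1 → (∀ k ∈ K0, Commute x k) → x = 1 := by
    intro x hx hxk
    by_contra hx1
    have hxK : ∀ k ∈ K, Commute x k := by
      intro k hk
      rw [← hsupK, mem_sup_of_normal_right] at hk
      obtain ⟨u, hu, v, hv, rfl⟩ := hk
      exact (hxk u hu).mul_right ((hΩ x hx).2 v hv)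
    have hKc : ∀ a : MulAut G, K.map a.toMonoidHom = K := by
      intro a
      have hle : ∀ a : MulAut G, K.map a.toMonoidHom ≤ K := by
        intro a
        refine hKmax _ (hKn.map _ a.surjective) ((hQc a).ge.trans (map_mono hQK)) ?_
        conv => congr; rw [← hQc a]
        rw [relIndex_map_map_of_injective _ _ a.injective]
        exact hKco
      refine le_antisymm (hle a) fun k hk => ?_
      exact ⟨a.symm k, hle a.symm (mem_map_of_mem _ hk), a.apply_symm_apply k⟩
    have hall : ∀ y : G, y ^ p = 1 → ∀ k ∈ K, Commute y k := by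
      intro y hy k hk
      by_cases hy1 : y = 1
      · rw [hy1]; exact Commute.one_left k
      obtain ⟨a, ha⟩ := htrans (zpowers x) (zpowers y) (by rw [Nat.card_zpowers, orderOf_eq_prime hx hx1])
        (by rw [Nat.card_zpowers, orderOf_eq_prime hy hy1])
      rw [MonoidHom.map_zpowers] at ha
      obtain ⟨i, hi⟩ := mem_zpowers_iff.1 (ha.ge (mem_zpowers y) : y ∈ zpowers (a x))
      obtain ⟨w, hw, rfl⟩ := (hKc a).ge hk
      rw [← hi]
      exact ((hxK w hw).map a).zpow_left i
    have hcent : ∀ k ∈ K0, ∀ q ∈ Q, Commute k q := fun k hk => by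
      refine CfsgLib.PGroup.commute_of_fix_omega hp2 hQp (fun w hw h1 => (hΩ w h1).2) ?_ ?_
        fun w _ h1 => (hall w h1 k (hK0K hk)).symm
      · rw [normalizer_eq_top]; exact mem_top k
      · intro hd
        exact hp.1.ne_one (Nat.eq_one_of_dvd_coprimes hK0p
          (hd.trans (Subgroup.orderOf_dvd_natCard K0 hk)) dvd_rfl)
    -- `K0` is then normal in `G`
    have hK0n : K0.Normal := by
      refine ⟨fun k hk g => ?_⟩
      have hgk : g * k * g⁻¹ ∈ K := hKn.conj_mem _ (hK0K hk) g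
      rw [← hsupK, mem_sup_of_normal_right] at hgk
      obtain ⟨u, hu, v, hv, huv⟩ := hgk
      have h1 : (u * v) ^ Nat.card K0 = 1 := by
        rw [huv, conj_pow, show k ^ Nat.card K0 = 1 from
          congrArg Subtype.val (pow_card_eq_one' (x := (⟨k, hk⟩ : K0))), mul_one, mul_inv_cancel]
      rw [(hcent u hu v hv).mul_pow, show u ^ Nat.card K0 = 1 from
        congrArg Subtype.val (pow_card_eq_one' (x := (⟨u, hu⟩ : K0))), one_mul] at h1
      obtain ⟨j, hj⟩ := IsPGroup.iff_orderOf.1 hQp ⟨v, hv⟩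
      rw [Subgroup.orderOf_mk] at hj
      have hv1 : v = 1 := orderOf_eq_one_iff.1 (Nat.eq_one_of_dvd_coprimes
        (Nat.Coprime.pow_left j hK0p.symm) hj.dvd (orderOf_dvd_of_pow_eq_one h1))
      rw [← huv, hv1, mul_one]; exact hu
    refine hKQ ?_
    have h1 : K0 = ⊥ := le_bot_iff.1 ((CfsgLib.Coprime.le_pPrimeCore hK0p).trans hcore.le)
    rw [← hsupK, h1, bot_sup_eq]
  -- hence the normalizer of `K0` is a `p'`-group covering `G / Q`
  intro hd
  have hN : Q ⊔ normalizer (K0 : Set G) = ⊤ := by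
    refine eq_top_iff.2 fun g _ => ?_
    obtain ⟨x, hx, hxg⟩ := CfsgLib.Coprime.sz_conj_in (A := K0) (B := CfsgLib.Coprime.conjBy g K0) (N := Q)
      (by rw [normalizer_eq_top]; exact le_top) (by rw [hn]; exact (Nat.Coprime.pow_left _ hK0p.symm))
      (by
        rw [hsupK]
        exact (map_mono hK0K).trans (map_le_iff_le_comap.2 fun k hk => hKn.conj_mem k hk g))
      (CfsgLib.Coprime.card_conjBy g K0)
      (Or.inr (CfsgLib.Coprime.isSolvable_of_isNilpotent hQp.isNilpotent))
    rw [CfsgLib.Coprime.conjBy_conjBy] at hxg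
    have := CfsgLib.Coprime.conjBy_eq_self_iff.1 hxg
    rw [show g = x⁻¹ * (x * g) by group]
    exact mul_mem_sup (inv_mem hx) this
  have hdN : p ∣ Nat.card (normalizer (K0 : Set G)) := by
    refine hd.trans ?_
    rw [← relIndex_top_right, ← hN, sup_comm, relIndex_sup_right]
    exact relIndex_dvd_card _ _
  obtain ⟨x, hx⟩ := exists_prime_orderOf_dvd_card' p hdN
  have hxp : (x : G) ^ p = 1 := orderOf_dvd_iff_pow_eq_one.1 (by rw [orderOf_coe, hx])
  have hx1 : (x : G) = 1 := hC x hxp fun k hk => by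
    have hxQ := (hΩ x hxp).1
    have hc : (x : G) * k * (x : G)⁻¹ * k⁻¹ = 1 := by
      refine hdisj _ ?_ (mul_mem ((mem_normalizer_iff.1 x.2 k).1 hk) (inv_mem hk))
      rw [show (x : G) * k * (x : G)⁻¹ * k⁻¹ = (x : G) * (k * (x : G)⁻¹ * k⁻¹) by group]
      exact mul_mem hxQ (hQn.conj_mem _ (inv_mem hxQ) k)
    exact mul_inv_eq_iff_eq_mul.1 (mul_inv_eq_one.1 hc)
  rw [← orderOf_coe, hx1, orderOf_one] at hx
  exact hp.1.ne_one hx.symm

/-- The Gaschütz–Yen Theorem: let G be a finite p-soluble group, p an odd prime dividing its order, such that the automorphism group of G permutes the subgroups of G of order p transitively. Then G has p-length at most 1. -/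
theorem result {G : Type*} [Group G] [Finite G] {p : ℕ} [Fact p.Prime] (hp : p ≠ 2) (hdvd : p ∣ Nat.card G) (hG : Cfsg.IsPSolvable p G) (htrans : ∀ U V : Subgroup G, Nat.card U = p → Nat.card V = p → ∃ a : MulAut G, U.map a.toMonoidHom = V) : Cfsg.PLengthLE p 1 G := by
  classical
  have hp1 : p.Prime := Fact.out
  refine CfsgLib.PGroup.pLengthLE_one_of_not_dvd ?_
  set N := Cfsg.pPrimeCore p G with hN
  haveI : N.Characteristic := CfsgLib.Coprime.pPrimeCore_characteristic p
  have hco : (Nat.card N).Coprime p := CfsgLib.Coprime.pPrimeCore_coprime hp1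
  refine not_dvd_index_pCore hp ?_ (CfsgLib.PGroup.isPSolvable_quotient hp1 hG N)
    (CfsgLib.Coprime.pPrimeCore_quotient_eq_bot hp1) ?_
  · rw [← N.index_eq_card]
    rw [← N.card_mul_index] at hdvd
    exact (hp1.dvd_mul.1 hdvd).resolve_left fun h => hp1.ne_one (Nat.eq_one_of_dvd_coprimes hco h dvd_rfl)
  have lift : ∀ U : Subgroup (G ⧸ N), Nat.card U = p →
      ∃ V : Subgroup G, Nat.card V = p ∧ V.map (QuotientGroup.mk' N) = U := by
    intro U hU
    set W := U.comap (QuotientGroup.mk' N) with hW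
    have hNW : N ≤ W := fun x hx => by
      rw [hW, Subgroup.mem_comap, show QuotientGroup.mk' N x = 1 from (QuotientGroup.eq_one_iff x).2 hx]
      exact one_mem _
    have hWU : W.map (QuotientGroup.mk' N) = U :=
      Subgroup.map_comap_eq_self_of_surjective (QuotientGroup.mk'_surjective N) U
    have hd : p ∣ Nat.card W := by
      rw [CfsgLib.Coprime.card_eq_card_mul_card_map_mk' N hNW, hWU, hU]
      exact dvd_mul_left p _
    obtain ⟨w, hw⟩ := exists_prime_orderOf_dvd_card' p hd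
    refine ⟨Subgroup.zpowers (w : G), by rw [Nat.card_zpowers, Subgroup.orderOf_coe, hw], ?_⟩
    refine Subgroup.eq_of_le_of_card_ge ?_ ?_
    · rw [Subgroup.map_le_iff_le_comap, Subgroup.zpowers_le]
      exact w.2
    · rw [hU, MonoidHom.map_zpowers, Nat.card_zpowers]
      refine Nat.le_of_dvd (orderOf_pos _) ?_
      refine (hp1.eq_one_or_self_of_dvd _ ?_).elim (fun h1 => ?_) (fun h1 => h1.symm.dvd)
      · exact (orderOf_map_dvd (QuotientGroup.mk' N) (w : G)).trans (by rw [Subgroup.orderOf_coe, hw])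
      · exfalso
        have hwN : (w : G) ∈ N := (QuotientGroup.eq_one_iff _).1 (orderOf_eq_one_iff.1 h1)
        have := Subgroup.orderOf_dvd_natCard N hwN
        rw [Subgroup.orderOf_coe, hw] at this
        exact hp1.ne_one (Nat.eq_one_of_dvd_coprimes hco this dvd_rfl)
  intro U V hU hV
  obtain ⟨U', hU', rfl⟩ := lift U hU
  obtain ⟨V', hV', rfl⟩ := lift V hV
  obtain ⟨a, ha⟩ := htrans U' V' hU' hV'
  refine ⟨QuotientGroup.congr N N a (Subgroup.characteristic_iff_map_eq.1 inferInstance a), ?_⟩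
  rw [← ha, Subgroup.map_map, Subgroup.map_map]
  rfl

end Cfsg.Agent.S3798
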