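import Cfsg.Statements.S3800
import Cfsg.Agent.Lib.Fusion.ThompsonComplement

set_option autoImplicit false
set_option linter.style.haveILetI false
open Cfsg

namespace Cfsg.Agent.S3800

/-- Let G be a finite group, N a normal subgroup of G whose order is prime to p, and P a p-subgroup of G. Then in G/N the normalizer of the image of P is the image of N_G(P), and the centralizer of the image of P is the image of C_G(P). -/
theorem result {G : Type*} [Group G] [Finite G] {p : ℕ} [Fact p.Prime] (N : Subgroup G) [N.Normal] (hN : (Nat.card N).Coprime p) (P : Subgroup G) (hP : IsPGroup p P) : Subgroup.normalizer ((P.map (QuotientGroup.mk' N)) : Set (G ⧸ N)) = (Subgroup.normalizer (P : Set G)).map (QuotientGroup.mk' N) ∧ Subgroup.centralizer ((P.map (QuotientGroup.mk' N)) : Set (G ⧸ N)) = (Subgroup.centralizer (P : Set G)).map (QuotientGroup.mk' N) := by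
  have hN' : ¬ p ∣ Nat.card N := (Nat.Prime.coprime_iff_not_dvd Fact.out).1 hN.symm
  refine ⟨le_antisymm (CfsgLib.Fusion.normalizer_map_le N hN' hP) ?_,
    le_antisymm (CfsgLib.Fusion.centralizer_map_le N hN' hP) ?_⟩
  · exact Subgroup.le_normalizer_map _
  · rintro _ ⟨c, hc, rfl⟩
    refine Subgroup.mem_centralizer_iff.2 ?_
    rintro _ ⟨x, hx, rfl⟩
    rw [← map_mul, Subgroup.mem_centralizer_iff.1 hc x hx, map_mul]

end Cfsg.Agent.S3800
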