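import Cfsg.Statements.S3802
import Cfsg.Agent.Lib.Coprime.Subnormal

set_option autoImplicit false
set_option linter.style.haveILetI false
open Cfsg

namespace Cfsg.Agent.S3802

/-- Let G be a finite group, M a maximal subgroup of G and N a subnormal subgroup of G contained in M. Then N is contained in every conjugate of M, that is, N lies in the core of M in G. -/
theorem result {G : Type*} [Group G] [Finite G] (M N : Subgroup G) (hM : IsCoatom M) (hN : N.IsSubnormal) (hNM : N ≤ M) :
    N ≤ Subgroup.normalCore M := by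
  let T : Subgroup G := sSup {U : Subgroup G | U.IsSubnormal ∧ U ≤ M}
  have hT : T.IsSubnormal := CfsgLib.Coprime.isSubnormal_sSup fun U hU => hU.1
  have hTM : T ≤ M := sSup_le fun U hU => hU.2
  have hNT : N ≤ T := le_sSup ⟨hN, hNM⟩
  suffices hn : T.Normal by
    intro x hx g
    exact hTM (hn.conj_mem x (hNT hx) g)
  by_contra hn
  have hMT : M ≤ Subgroup.normalizer (T : Set G) := by
    intro m hm
    refine Subgroup.mem_normalizer_iff.2 fun x => ?_
    have key : ∀ k ∈ M, ∀ y ∈ T, k * y * k⁻¹ ∈ T := by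
      intro k hk y hy
      suffices h : T.map (MulAut.conj k).toMonoidHom ≤ M from
        le_sSup (a := T.map (MulAut.conj k).toMonoidHom)
          (show _ ∈ {U : Subgroup G | U.IsSubnormal ∧ U ≤ M} from
            ⟨hT.map (MulEquiv.surjective _), h⟩) ⟨y, hy, rfl⟩
      rintro _ ⟨z, hz, rfl⟩
      exact M.mul_mem (M.mul_mem hk (hTM hz)) (M.inv_mem hk)
    refine ⟨key m hm x, fun h => ?_⟩
    have := key m⁻¹ (M.inv_mem hm) _ h
    simpa [mul_assoc] using this
  have hNM' : Subgroup.normalizer (T : Set G) = M := by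
    rcases hMT.eq_or_lt with h | h
    · exact h.symm
    · exact absurd (Subgroup.normalizer_eq_top_iff.1 (hM.2 _ h)) hn
  obtain ⟨g, hne, hle⟩ := CfsgLib.Coprime.exists_conjBy_le_normalizer hT hn
  rw [hNM'] at hle
  refine hne (Subgroup.eq_of_le_of_card_ge
    (le_sSup ⟨CfsgLib.Coprime.isSubnormal_conjBy hT g, hle⟩) ?_)
  rw [CfsgLib.Coprime.card_conjBy]

end Cfsg.Agent.S3802
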