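import Cfsg.Statements.S3803
-- import your own Cfsg.Agent.* helpers here
import Cfsg.Agent.Lib.PGroup.SmallElementsIndex
import Cfsg.Agent.Lib.Coprime.Action
import Cfsg.Agent.Lib.Coprime.PGroupFrattini

set_option autoImplicit false
open Cfsg

namespace Cfsg.Agent.S3803


open Subgroup

universe u

/-- An element of odd order normalizing a cyclic `2`-group centralizes it. -/
private theorem commute_cyclic {X : Type u} [Group X] [Finite X] {C : Subgroup X} {k : ℕ}
    (hk : Nat.card C = 2 ^ k) (hC : IsCyclic C) {g : X} (hg : g ∈ normalizer (C : Set X))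
    (hgo : Odd (orderOf g)) {x : X} (hx : x ∈ C) : g * x * g⁻¹ = x := by
  set φ := C.normalizerMonoidHom ⟨g, hg⟩ with hφ
  have h1 : orderOf φ ∣ orderOf g := by
    have := orderOf_map_dvd C.normalizerMonoidHom (⟨g, hg⟩ : normalizer (C : Set X))
    rwa [Subgroup.orderOf_mk] at this
  have h2 : orderOf φ ∣ Nat.totient (2 ^ k) := by
    have := orderOf_dvd_natCard φ
    rwa [IsCyclic.card_mulAut, hk] at this
  have h3 : Nat.totient (2 ^ k) ∣ 2 ^ k := by
    rcases k with _ | k
    · simp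
    · rw [Nat.totient_prime_pow_succ Nat.prime_two, Nat.add_one_sub_one, mul_one]
      exact pow_dvd_pow 2 (Nat.le_succ k)
  have h4 : orderOf φ = 1 :=
    Nat.eq_one_of_dvd_coprimes (Nat.Coprime.pow_left k (Nat.coprime_two_left.2 hgo))
      (h2.trans h3) h1
  exact congrArg Subtype.val (DFunLike.congr_fun (orderOf_eq_one_iff.1 h4) ⟨x, hx⟩)

/-- An element of odd order normalizing all maximal subgroups of a `2`-group centralizes it. -/
private theorem commute_of_coatoms {X : Type u} [Group X] [Finite X] {E : Subgroup X}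
    (hE : IsPGroup 2 E) {g : X} (hg : g ∈ normalizer (E : Set X)) (hgo : Odd (orderOf g))
    (hmax : ∀ M : Subgroup E, IsCoatom M → g ∈ normalizer ((M.map E.subtype : Subgroup X) : Set X)) :
    ∀ x ∈ E, g * x * g⁻¹ = x := by
  haveI : Fact (Nat.Prime 2) := ⟨Nat.prime_two⟩
  obtain ⟨j, hj⟩ := IsPGroup.iff_card.1 (hE.to_subgroup (frattini E))
  have hc := CfsgLib.Coprime.le_centralizer_of_trivial_on_frattini_quotient
    (A := zpowers g) (K := E) (zpowers_le.2 hg)
    (by rw [Nat.card_zpowers, hj]; exact (Nat.coprime_two_right.2 hgo).pow_right j)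
    (fun w hw v hv => by
      have hwE : w ∈ normalizer (E : Set X) := zpowers_le.2 hg hw
      have hwv : w * v * w⁻¹ ∈ E := (mem_normalizer_iff.1 hwE v).1 hv
      refine ⟨⟨w * v * w⁻¹, hwv⟩ * ⟨v, hv⟩⁻¹, ?_, rfl⟩
      simp only [frattini, Order.radical, SetLike.mem_coe, mem_iInf]
      intro M hM
      haveI hMn : M.Normal := (CfsgLib.Coprime.coatom_data_of_pGroup hE hM).1
      by_cases hvM : (⟨v, hv⟩ : E) ∈ M
      · refine mul_mem ?_ (inv_mem hvM)
        obtain ⟨y, hy, hye⟩ := (mem_normalizer_iff.1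
          (zpowers_le.2 (hmax M hM) hw) v).1 ⟨⟨v, hv⟩, hvM, rfl⟩
        rwa [show (⟨w * v * w⁻¹, hwv⟩ : E) = y from Subtype.ext hye.symm]
      · have hi : M.index = 2 := (CfsgLib.Coprime.coatom_data_of_pGroup hE hM).2
        rw [mul_mem_iff_of_index_two hi]
        refine iff_of_false (fun h => hvM ?_) (fun h => hvM (inv_mem_iff.1 h))
        obtain ⟨y, hy, hye⟩ := (mem_normalizer_iff.1 (zpowers_le.2 (hmax M hM) hw) v).2
          ⟨_, h, rfl⟩
        rwa [show (⟨v, hv⟩ : E) = y from Subtype.ext hye.symm])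
  intro x hx
  exact mul_inv_eq_iff_eq_mul.2 (mem_centralizer_iff.1 (hc (mem_zpowers g)) x hx).symm

/-- Let P be a 2-subgroup and A a subgroup of odd order of a finite group, with A normalizing P. Let D ≤ P with 1 < |D| < |P|. If every subgroup of P of order |D|, and also every subgroup of P of order 4 in case |D| = 2, is normalized by A, then A centralizes P. -/
theorem result {X : Type*} [Group X] [Finite X] (P A D : Subgroup X) (hP : IsPGroup 2 P) (hA : Odd (Nat.card A))
    (hAP : A ≤ Subgroup.normalizer (P : Set X)) (hDP : D ≤ P) (hD1 : 1 < Nat.card D) (hD2 : Nat.card D < Nat.card P)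
    (hinv : ∀ E : Subgroup X, E ≤ P → (Nat.card E = Nat.card D ∨ (Nat.card D = 2 ∧ Nat.card E = 4)) → A ≤ Subgroup.normalizer (E : Set X)) :
    A ≤ Subgroup.centralizer (P : Set X) := by
  haveI : Fact (Nat.Prime 2) := ⟨Nat.prime_two⟩
  obtain ⟨k, hk⟩ := IsPGroup.iff_card.1 (hP.to_le hDP)
  obtain ⟨N, hN⟩ := IsPGroup.iff_card.1 hP
  have hk1 : 1 ≤ k := Nat.one_le_iff_ne_zero.2 fun h => by rw [hk, h, pow_zero] at hD1; omega
  have hkN : k + 1 ≤ N := by
    rw [hk, hN] at hD2
    exact Nat.lt_of_not_le fun h => not_lt.2 (Nat.pow_le_pow_right (by norm_num) h) hD2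
  intro g hg
  have hgP := hAP hg
  have hgo : Odd (orderOf g) := hA.of_dvd_nat (orderOf_dvd_natCard A hg)
  -- subgroups of prescribed order over a given one
  have hover : ∀ (C : Subgroup X) (i j : ℕ), C ≤ P → Nat.card C = 2 ^ i → i ≤ j → j ≤ N →
      ∃ E : Subgroup X, C ≤ E ∧ E ≤ P ∧ Nat.card E = 2 ^ j := by
    intro C i j hCP hCc hij hjN
    obtain ⟨E, hE, hCE⟩ := Sylow.exists_subgroup_card_pow_prime_le 2 (G := P)
      (hN ▸ pow_dvd_pow 2 hjN) (C.subgroupOf P)
      (by rw [Nat.card_congr (subgroupOfEquivOfLe hCP).toEquiv, hCc]) hij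
    refine ⟨E.map P.subtype, ?_, map_subtype_le _, ?_⟩
    · rw [← map_subgroupOf_eq_of_le hCP]; exact map_mono hCE
    · rw [card_map_of_injective P.subtype_injective, hE]
  refine CfsgLib.PGroup.commute_of_fix_smallExp hP hgP (fun h => ?_) fun x hx hx4 => ?_
  · exact Nat.not_even_iff_odd.2 hgo (even_iff_two_dvd.2 h)
  have hx4' : x ^ 4 = 1 := by simpa [CfsgLib.PGroup.smallExp] using hx4
  obtain ⟨i, hi2, hi⟩ := (Nat.dvd_prime_pow Nat.prime_two).1
    (orderOf_dvd_of_pow_eq_one (show x ^ 2 ^ 2 = 1 by simpa using hx4'))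
  show g * x = x * g
  suffices h : g * x * g⁻¹ = x by
    conv_rhs => rw [← h]
    group
  have hxc : Nat.card (zpowers x) = 2 ^ i := by rw [Nat.card_zpowers, hi]
  have hnorm : ∀ E : Subgroup X, E ≤ P →
      (Nat.card E = Nat.card D ∨ (Nat.card D = 2 ∧ Nat.card E = 4)) → g ∈ normalizer (E : Set X) :=
    fun E h1 h2 => hinv E h1 h2 hg
  by_cases hik : k < i
  · -- `|D| = 2` and `x` has order 4
    obtain ⟨rfl, rfl⟩ : k = 1 ∧ i = 2 := by omega
    refine commute_cyclic hxc inferInstance (hnorm _ (zpowers_le.2 hx) (Or.inr ⟨?_, ?_⟩)) hgo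
      (mem_zpowers x)
    · rw [hk]; rfl
    · rw [hxc]; rfl
  obtain ⟨E, hxE, hEP, hEc⟩ := hover (zpowers x) i k (zpowers_le.2 hx) hxc (by omega) (by omega)
  obtain ⟨F, hEF, hFP, hFc⟩ := hover E k (k + 1) hEP hEc (Nat.le_succ k) hkN
  have hxF : x ∈ F := hEF (hxE (mem_zpowers x))
  by_cases hFcyc : IsCyclic F
  · haveI : IsCyclic E := isCyclic_of_injective (inclusion hEF) (inclusion_injective hEF)
    exact commute_cyclic hEc inferInstance (hnorm E hEP (Or.inl (by rw [hEc, hk]))) hgo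
      (hxE (mem_zpowers x))
  have hFp : IsPGroup 2 F := hP.to_le hFP
  have hMn : ∀ M : Subgroup F, IsCoatom M → g ∈ normalizer ((M.map F.subtype : Subgroup X) : Set X) := by
    intro M hM
    refine hnorm _ ((map_subtype_le M).trans hFP) (Or.inl ?_)
    have hi' := (CfsgLib.Coprime.coatom_data_of_pGroup hFp hM).2
    have := M.card_mul_index
    rw [hi', hFc, pow_succ] at this
    rw [card_map_of_injective F.subtype_injective, hk]
    omega
  refine commute_of_coatoms hFp ?_ hgo hMn x hxF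
  -- `F` is generated by two of its maximal subgroups
  obtain ⟨M₁, hM₁⟩ : ∃ M : Subgroup F, IsCoatom M := by
    rcases eq_top_or_exists_le_coatom (⊥ : Subgroup F) with h | ⟨M, hM, -⟩
    · exact absurd (isCyclic_iff_exists_zpowers_eq_top.2 ⟨1, by rw [zpowers_one_eq_bot, h]⟩) hFcyc
    · exact ⟨M, hM⟩
  obtain ⟨y, -, hy⟩ := SetLike.exists_of_lt (lt_top_iff_ne_top.2 hM₁.1)
  obtain ⟨M₂, hM₂, hyM₂⟩ : ∃ M : Subgroup F, IsCoatom M ∧ y ∈ M := by
    rcases eq_top_or_exists_le_coatom (zpowers y) with h | ⟨M, hM, hle⟩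
    · exact absurd (isCyclic_iff_exists_zpowers_eq_top.2 ⟨y, h⟩) hFcyc
    · exact ⟨M, hM, hle (mem_zpowers y)⟩
  have hsup : M₁ ⊔ M₂ = ⊤ := hM₁.2 _ (lt_of_le_not_ge le_sup_left fun h =>
    hy (h (mem_sup_right hyM₂)))
  have hFeq : M₁.map F.subtype ⊔ M₂.map F.subtype = F := by
    rw [← Subgroup.map_sup, hsup, ← MonoidHom.range_eq_map, range_subtype]
  rw [← hFeq]
  exact normalizer_inf_normalizer_le_normalizer_sup _ _ ⟨hMn M₁ hM₁, hMn M₂ hM₂⟩


end Cfsg.Agent.S3803
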