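import Cfsg.Statements.S3804
-- import your own Cfsg.Agent.* helpers here
import Mathlib.Analysis.SpecialFunctions.Pow.Real
import Mathlib.Tactic.Linarith
import Mathlib.Tactic.Positivity

set_option autoImplicit false
open Cfsg

namespace Cfsg.Agent.S3804

/-- The order of a product set. -/
theorem card_prod {X : Type*} [Group X] [Finite X] (A B : Subgroup X) :
    Nat.card A * Nat.card B =
      Nat.card {x : X // ∃ a ∈ A, ∃ b ∈ B, a * b = x} * Nat.card ↥(A ⊓ B) := by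
  classical
  let R := {x : X // ∃ a ∈ A, ∃ b ∈ B, a * b = x}
  have hs : ∀ r : R, ∃ ab : A × B, (ab.1 : X) * ab.2 = r.1 := fun r => by
    obtain ⟨a, ha, b, hb, h⟩ := r.2; exact ⟨(⟨a, ha⟩, ⟨b, hb⟩), h⟩
  choose s hs using hs
  rw [← Nat.card_prod, ← Nat.card_prod]
  refine (Nat.card_congr (Equiv.ofBijective (fun q : R × ↥(A ⊓ B) =>
    ((⟨(s q.1).1 * (q.2 : X), A.mul_mem (s q.1).1.2 (Subgroup.mem_inf.1 q.2.2).1⟩ : A),
     (⟨(q.2 : X)⁻¹ * (s q.1).2, B.mul_mem (B.inv_mem (Subgroup.mem_inf.1 q.2.2).2) (s q.1).2.2⟩ : B))) ⟨?_, ?_⟩)).symm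
  · rintro ⟨r, i⟩ ⟨r', i'⟩ h
    simp only [Prod.mk.injEq, Subtype.mk.injEq] at h
    have hr : r = r' := Subtype.ext (by
      rw [← hs r, ← hs r']
      calc ((s r).1 : X) * (s r).2 = ((s r).1 * (i : X)) * ((i : X)⁻¹ * (s r).2) := by group
        _ = _ := by rw [h.1, h.2]; group)
    subst hr
    exact Prod.ext rfl (Subtype.ext (mul_left_cancel h.1))
  · rintro ⟨⟨a, ha⟩, ⟨b, hb⟩⟩
    set r : R := ⟨a * b, a, ha, b, hb, rfl⟩ with hr
    have e : ((s r).1 : X) * (s r).2 = a * b := hs r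
    refine ⟨(r, ⟨((s r).1 : X)⁻¹ * a, A.mul_mem (A.inv_mem (s r).1.2) ha, ?_⟩), ?_⟩
    · have : ((s r).1 : X)⁻¹ * a = (s r).2 * b⁻¹ := by
        rw [inv_mul_eq_iff_eq_mul, ← mul_assoc, e, mul_inv_cancel_right]
      show _ ∈ B
      rw [this]; exact B.mul_mem (s r).2.2 (B.inv_mem hb)
    · simp only [Prod.mk.injEq, Subtype.mk.injEq]
      refine ⟨mul_inv_cancel_left _ _, ?_⟩
      have : ((s r).1 : X)⁻¹ * a = (s r).2 * b⁻¹ := by
        rw [inv_mul_eq_iff_eq_mul, ← mul_assoc, e, mul_inv_cancel_right]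
      rw [this]; group

theorem prod_le {X : Type*} [Group X] [Finite X] {A B J : Subgroup X} (hA : A ≤ J) (hB : B ≤ J) :
    Nat.card A * Nat.card B ≤ Nat.card J * Nat.card ↥(A ⊓ B) ∧
      (Nat.card A * Nat.card B = Nat.card J * Nat.card ↥(A ⊓ B) →
        ∀ x ∈ J, ∃ a ∈ A, ∃ b ∈ B, a * b = x) := by
  rw [card_prod]
  let ι : {x : X // ∃ a ∈ A, ∃ b ∈ B, a * b = x} → J := fun x => ⟨x.1, by
    obtain ⟨a, ha, b, hb, h⟩ := x.2; exact h ▸ mul_mem (hA ha) (hB hb)⟩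
  have hι : Function.Injective ι := fun x y h => Subtype.ext (congrArg Subtype.val h :)
  refine ⟨Nat.mul_le_mul_right _ (Nat.card_le_card_of_injective ι hι), fun h x hx => ?_⟩
  have hc := Nat.eq_of_mul_eq_mul_right Nat.card_pos h
  obtain ⟨y, hy⟩ := ((Nat.bijective_iff_injective_and_card ι).2 ⟨hι, hc⟩).2 ⟨x, hx⟩
  have e : y.1 = x := congrArg Subtype.val hy
  exact e ▸ y.2


/-- Let G and H be subgroups of a finite group with G normalizing H, fix a real number α > 0, and for a subgroup A of G put m(A) = |A|^α · |C_H(A)|. Let A and B be nontrivial subgroups of G at which m attains its maximum over all nontrivial subgroups of G, and assume that A ∩ B ≠ 1 or that this maximum is at least |H|. Then AB = BA is a subgroup at which m is again maximal, C_H(A ∩ B) = C_H(A) C_H(B), and if A ∩ B ≠ 1 then m is maximal at A ∩ B as well. -/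
theorem result {X : Type*} [Group X] [Finite X] (G H : Subgroup X) (hGH : G ≤ Subgroup.normalizer (H : Set X)) (α : ℝ) (hα : 0 < α)
    (A B : Subgroup X) (hA : A ≤ G) (hB : B ≤ G) (hA1 : A ≠ ⊥) (hB1 : B ≠ ⊥)
    (hAmax : ∀ A' : Subgroup X, A' ≤ G → A' ≠ ⊥ → (fun A : Subgroup X => ((Nat.card A : ℝ) ^ α) * (Nat.card ↥(H ⊓ Subgroup.centralizer (A : Set X)) : ℝ)) A' ≤ (fun A : Subgroup X => ((Nat.card A : ℝ) ^ α) * (Nat.card ↥(H ⊓ Subgroup.centralizer (A : Set X)) : ℝ)) A)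
    (hBmax : ∀ A' : Subgroup X, A' ≤ G → A' ≠ ⊥ → (fun A : Subgroup X => ((Nat.card A : ℝ) ^ α) * (Nat.card ↥(H ⊓ Subgroup.centralizer (A : Set X)) : ℝ)) A' ≤ (fun A : Subgroup X => ((Nat.card A : ℝ) ^ α) * (Nat.card ↥(H ⊓ Subgroup.centralizer (A : Set X)) : ℝ)) B)
    (hcase : A ⊓ B ≠ ⊥ ∨ (Nat.card H : ℝ) ≤ (fun A : Subgroup X => ((Nat.card A : ℝ) ^ α) * (Nat.card ↥(H ⊓ Subgroup.centralizer (A : Set X)) : ℝ)) A) :
    (∀ a ∈ A, ∀ b ∈ B, ∃ b' ∈ B, ∃ a' ∈ A, a * b = b' * a') ∧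
    (∀ A' : Subgroup X, A' ≤ G → A' ≠ ⊥ → (fun A : Subgroup X => ((Nat.card A : ℝ) ^ α) * (Nat.card ↥(H ⊓ Subgroup.centralizer (A : Set X)) : ℝ)) A' ≤ (fun A : Subgroup X => ((Nat.card A : ℝ) ^ α) * (Nat.card ↥(H ⊓ Subgroup.centralizer (A : Set X)) : ℝ)) (A ⊔ B)) ∧
    (∀ h ∈ H ⊓ Subgroup.centralizer ((A ⊓ B : Subgroup X) : Set X), ∃ u ∈ H ⊓ Subgroup.centralizer (A : Set X), ∃ v ∈ H ⊓ Subgroup.centralizer (B : Set X), h = u * v) ∧
    (A ⊓ B ≠ ⊥ → ∀ A' : Subgroup X, A' ≤ G → A' ≠ ⊥ → (fun A : Subgroup X => ((Nat.card A : ℝ) ^ α) * (Nat.card ↥(H ⊓ Subgroup.centralizer (A : Set X)) : ℝ)) A' ≤ (fun A : Subgroup X => ((Nat.card A : ℝ) ^ α) * (Nat.card ↥(H ⊓ Subgroup.centralizer (A : Set X)) : ℝ)) (A ⊓ B)) := by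
  classical
  set μ : Subgroup X → ℝ := fun A : Subgroup X =>
    ((Nat.card A : ℝ) ^ α) * (Nat.card ↥(H ⊓ Subgroup.centralizer (A : Set X)) : ℝ) with hμ
  set CA := H ⊓ Subgroup.centralizer (A : Set X)
  set CB := H ⊓ Subgroup.centralizer (B : Set X)
  set CI := H ⊓ Subgroup.centralizer ((A ⊓ B : Subgroup X) : Set X)
  set CJ := H ⊓ Subgroup.centralizer ((A ⊔ B : Subgroup X) : Set X)
  have hJ : A ⊔ B ≤ G := sup_le hA hB
  have hJne : A ⊔ B ≠ ⊥ := fun h => hA1 (eq_bot_iff.2 (h ▸ le_sup_left))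
  have hAB : μ A = μ B := le_antisymm (hBmax A hA hA1) (hAmax B hB hB1)
  have hμJ : μ (A ⊔ B) ≤ μ A := hAmax _ hJ hJne
  have hμI : μ (A ⊓ B) ≤ μ A := by
    by_cases hI : A ⊓ B = ⊥
    · have h0 := hcase.resolve_left (not_not.2 hI)
      refine le_trans ?_ h0
      show ((Nat.card ↥(A ⊓ B) : ℝ) ^ α) * _ ≤ _
      rw [hI, Subgroup.card_bot, Nat.cast_one, Real.one_rpow, one_mul]
      exact_mod_cast Subgroup.card_le_of_le inf_le_left
    · exact hAmax _ (inf_le_left.trans hA) hI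
  have hCAI : CA ≤ CI := inf_le_inf_left H (Subgroup.centralizer_le (SetLike.coe_subset_coe.2 inf_le_left))
  have hCBI : CB ≤ CI := inf_le_inf_left H (Subgroup.centralizer_le (SetLike.coe_subset_coe.2 inf_le_right))
  have hCAB : CA ⊓ CB = CJ := by
    refine le_antisymm (fun x hx => ⟨hx.1.1, ?_⟩) (le_inf
      (inf_le_inf_left H (Subgroup.centralizer_le (SetLike.coe_subset_coe.2 le_sup_left)))
      (inf_le_inf_left H (Subgroup.centralizer_le (SetLike.coe_subset_coe.2 le_sup_right))))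
    have h1 : A ⊔ B ≤ Subgroup.centralizer {x} := sup_le
      (fun a ha => Subgroup.mem_centralizer_singleton_iff.2 (Subgroup.mem_centralizer_iff.1 hx.1.2 a ha))
      (fun b hb => Subgroup.mem_centralizer_singleton_iff.2 (Subgroup.mem_centralizer_iff.1 hx.2.2 b hb))
    exact Subgroup.mem_centralizer_iff.2 fun y hy => Subgroup.mem_centralizer_singleton_iff.1 (h1 hy)
  obtain ⟨h1, h1'⟩ := prod_le (A := A) (B := B) (J := A ⊔ B) le_sup_left le_sup_right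
  obtain ⟨h2, h2'⟩ := prod_le (A := CA) (B := CB) (J := CI) hCAI hCBI
  rw [hCAB] at h2 h2'
  have cpos : ∀ K : Subgroup X, (0 : ℝ) < (Nat.card K : ℝ) := fun K => by exact_mod_cast Nat.card_pos
  have e1 : ((Nat.card A * Nat.card B : ℕ) : ℝ) ^ α * ((Nat.card CA * Nat.card CB : ℕ) : ℝ) = μ A * μ B := by
    push_cast
    rw [Real.mul_rpow (cpos A).le (cpos B).le]
    show _ = (_ ^ α * (Nat.card CA : ℝ)) * (_ ^ α * (Nat.card CB : ℝ))
    ring
  have e2 : ((Nat.card ↥(A ⊔ B) * Nat.card ↥(A ⊓ B) : ℕ) : ℝ) ^ α * ((Nat.card CI * Nat.card CJ : ℕ) : ℝ) =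
      μ (A ⊔ B) * μ (A ⊓ B) := by
    push_cast
    rw [Real.mul_rpow (cpos _).le (cpos _).le]
    show _ = (_ ^ α * (Nat.card CJ : ℝ)) * (_ ^ α * (Nat.card CI : ℝ))
    ring
  have mpos : ∀ K : Subgroup X, 0 < μ K := fun K => mul_pos (Real.rpow_pos_of_pos (cpos K) α) (cpos _)
  set u : ℝ := ((Nat.card A * Nat.card B : ℕ) : ℝ) with hu
  set v : ℝ := ((Nat.card ↥(A ⊔ B) * Nat.card ↥(A ⊓ B) : ℕ) : ℝ) with hv
  set c : ℝ := ((Nat.card CA * Nat.card CB : ℕ) : ℝ) with hc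
  set d : ℝ := ((Nat.card CI * Nat.card CJ : ℕ) : ℝ) with hd
  have upos : 0 < u := by rw [hu]; exact_mod_cast Nat.mul_pos Nat.card_pos Nat.card_pos
  have cpos' : 0 < c := by rw [hc]; exact_mod_cast Nat.mul_pos Nat.card_pos Nat.card_pos
  have huv : u ≤ v := by rw [hu, hv]; exact_mod_cast h1
  have hcd : c ≤ d := by rw [hc, hd]; exact_mod_cast h2
  have hpow : u ^ α ≤ v ^ α := Real.rpow_le_rpow upos.le huv hα.le
  have upow : 0 < u ^ α := Real.rpow_pos_of_pos upos α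
  have key : μ (A ⊔ B) * μ (A ⊓ B) ≤ μ A * μ B := by
    rw [← hAB]; exact mul_le_mul hμJ hμI (mpos _).le (mpos _).le
  have hle : v ^ α * d ≤ u ^ α * c := by rw [e1, e2]; exact key
  have huv' : u = v := by
    by_contra hne
    have hlt : u ^ α < v ^ α := Real.rpow_lt_rpow upos.le (lt_of_le_of_ne huv hne) hα
    nlinarith [mul_le_mul hlt.le hcd cpos'.le (upow.trans hlt).le, mul_lt_mul_of_pos_right hlt cpos',
      mul_le_mul_of_nonneg_left hcd (upow.trans hlt).le]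
  have hcd' : c = d := by
    rw [← huv'] at hle
    exact le_antisymm hcd (le_of_mul_le_mul_left hle upow)
  have hprod : μ A * μ B = μ (A ⊔ B) * μ (A ⊓ B) := by rw [← e1, ← e2, huv', hcd']
  have hJeq : μ A ≤ μ (A ⊔ B) := by
    have := mul_le_mul_of_nonneg_left hμI (mpos (A ⊔ B)).le
    rw [← hprod, ← hAB] at this
    exact le_of_mul_le_mul_right this (mpos A)
  have hIeq : μ A ≤ μ (A ⊓ B) := by
    have := mul_le_mul_of_nonneg_right hμJ (mpos (A ⊓ B)).le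
    rw [← hprod, ← hAB] at this
    exact le_of_mul_le_mul_left this (mpos A)
  have hsurj := h1' (by rw [hu, hv] at huv'; exact_mod_cast huv')
  have hCsurj := h2' (by rw [hc, hd] at hcd'; exact_mod_cast hcd')
  refine ⟨fun a ha b hb => ?_, fun A' h h' => (hAmax A' h h').trans hJeq, fun h hh => ?_,
    fun _ A' h h' => (hAmax A' h h').trans hIeq⟩
  · obtain ⟨a', ha', b', hb', e⟩ := hsurj (a * b)⁻¹
      (inv_mem (mul_mem (Subgroup.mem_sup_left ha) (Subgroup.mem_sup_right hb)))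
    exact ⟨b'⁻¹, inv_mem hb', a'⁻¹, inv_mem ha', by rw [← mul_inv_rev, e, inv_inv]⟩
  · obtain ⟨x, hx, y, hy, e⟩ := hCsurj h hh
    exact ⟨x, hx, y, hy, e.symm⟩

end Cfsg.Agent.S3804
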