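import Cfsg.Statements.S3807
import Cfsg.Agent.Lib.PGroup.MaxClassSeries
-- import your own Cfsg.Agent.* helpers here

set_option autoImplicit false
open Cfsg

namespace Cfsg.Agent.S3807

open scoped commutatorElement

/-- Let S be a non-abelian finite p-group with an abelian subgroup A of index p. Then [S : Z(S)] = p·#[S,S], and either [S,S] has order p, S/Z(S) is elementary abelian of order p², and S has exactly p + 1 abelian subgroups of index p; or [S,S] has order at least p² and A is the only abelian subgroup of index p in S. -/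
theorem result {S : Type*} [Group S] [Finite S] (p : ℕ) [Fact p.Prime] (hS : IsPGroup p S) (hna : ¬ IsMulCommutative S)
    (A : Subgroup S) (hA : IsMulCommutative ↥A) (hAi : A.index = p) :
    (Subgroup.center S).index = p * Nat.card (commutator S) ∧
      ((Nat.card (commutator S) = p ∧ Cfsg.IsElementaryAbelian p (⊤ : Subgroup (S ⧸ Subgroup.center S)) ∧
          Nat.card (S ⧸ Subgroup.center S) = p ^ 2 ∧
          Nat.card {B : Subgroup S // IsMulCommutative ↥B ∧ B.index = p} = p + 1) ∨
        (p ^ 2 ≤ Nat.card (commutator S) ∧ ∀ B : Subgroup S, IsMulCommutative ↥B → B.index = p → B = A)) := by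
  haveI : Group.IsNilpotent S := hS.isNilpotent
  have hp : p.Prime := Fact.out
  obtain ⟨m, hm⟩ := IsPGroup.iff_card.1 hS
  have normalOf : ∀ B : Subgroup S, B.index = p → B.Normal := fun B hB => by
    refine Subgroup.normal_of_index_eq_minFac_card ?_
    have hm0 : m ≠ 0 := by
      rintro rfl
      have := B.index_dvd_card
      rw [hm, pow_zero, hB] at this
      exact hp.one_lt.ne' (Nat.eq_one_of_dvd_one this)
    rw [hm, hB, Nat.Prime.pow_minFac hp hm0]
  have maxOf : ∀ B K : Subgroup S, B.index = p → B ≤ K → K ≠ B → K = ⊤ := fun B K hB hK hne => by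
    rcases (Nat.dvd_prime hp).1 (hB ▸ Subgroup.index_dvd_of_le hK) with e | e
    · exact Subgroup.index_eq_one.1 e
    · exfalso
      apply hne
      refine (Subgroup.eq_of_le_of_card_ge hK ?_).symm
      have h1 := B.card_mul_index
      have h2 := K.card_mul_index
      rw [← h1, hB, e] at h2
      exact le_of_eq (Nat.eq_of_mul_eq_mul_right hp.pos h2)
  have commTop : ∀ H : Subgroup S, H = ⊤ → IsMulCommutative H → False := fun H hH hc =>
    hna ⟨⟨fun a b => congrArg Subtype.val
      (hc.is_comm.comm ⟨a, hH ▸ Subgroup.mem_top a⟩ ⟨b, hH ▸ Subgroup.mem_top b⟩)⟩⟩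
  -- the centre lies in every abelian subgroup of index p
  have hZle : ∀ B : Subgroup S, IsMulCommutative B → B.index = p → Subgroup.center S ≤ B := by
    intro B hB hBi
    by_contra hnle
    refine commTop (B ⊔ Subgroup.center S) (maxOf B _ hBi le_sup_left fun e => hnle (e ▸ le_sup_right)) ?_
    rw [← Subgroup.le_centralizer_iff_isMulCommutative]
    have hBc : ∀ b ∈ B, B ⊔ Subgroup.center S ≤ Subgroup.centralizer {b} := fun b hb => sup_le
      (fun c hc => Subgroup.mem_centralizer_singleton_iff.2
        (congrArg Subtype.val (hB.is_comm.comm ⟨c, hc⟩ ⟨b, hb⟩)))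
      (Subgroup.center_le_centralizer _)
    refine sup_le (fun b hb => ?_) (Subgroup.center_le_centralizer _)
    exact Subgroup.mem_centralizer_iff.2 fun c hc =>
      Subgroup.mem_centralizer_singleton_iff.1 (hBc b hb hc)
  have hAn : A.Normal := normalOf A hAi
  obtain ⟨t, ht⟩ := SetLike.exists_not_mem_of_ne_top A (fun e => commTop A e hA)
  have htop : A ⊔ Subgroup.zpowers t = ⊤ :=
    maxOf A _ hAi le_sup_left fun e => ht (e ▸ Subgroup.mem_sup_right (Subgroup.mem_zpowers t))
  have hAc : ∀ a b, a ∈ A → b ∈ A → a * b = b * a := fun a b ha hb =>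
    congrArg Subtype.val (hA.is_comm.comm ⟨a, ha⟩ ⟨b, hb⟩)
  have hmem : ∀ a, a ∈ A → ⁅t, a⁆ ∈ A := fun a ha => by
    rw [commutatorElement_def]
    exact A.mul_mem (hAn.conj_mem a ha t) (A.inv_mem ha)
  let φ : A →* S := MonoidHom.mk' (fun a => ⁅t, (a : S)⁆) fun a b => by
    have e : ⁅t, (a : S) * b⁆ = ⁅t, (a : S)⁆ * ((a : S) * ⁅t, (b : S)⁆ * (a : S)⁻¹) := by
      simp only [commutatorElement_def]; group
    show ⁅t, ((a * b : A) : S)⁆ = _
    rw [Subgroup.coe_mul, e, hAc _ _ a.2 (hmem b b.2), mul_inv_cancel_right]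
  have hker : φ.ker = (Subgroup.center S).subgroupOf A := by
    ext a
    rw [MonoidHom.mem_ker, Subgroup.mem_subgroupOf]
    show ⁅t, (a : S)⁆ = 1 ↔ _
    rw [commutatorElement_eq_one_iff_mul_comm]
    refine ⟨fun h => Subgroup.mem_center_iff.2 fun s => ?_,
      fun h => Subgroup.mem_center_iff.1 h t⟩
    have hle : A ⊔ Subgroup.zpowers t ≤ Subgroup.centralizer {(a : S)} := sup_le
      (fun b hb => Subgroup.mem_centralizer_singleton_iff.2 (hAc b a hb a.2))
      (Subgroup.zpowers_le.2 (Subgroup.mem_centralizer_singleton_iff.2 h))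
    exact Subgroup.mem_centralizer_singleton_iff.1 (hle (htop ▸ Subgroup.mem_top s))
  have hrange : φ.range = commutator S := by
    refine le_antisymm ?_ ?_
    · rintro _ ⟨a, rfl⟩
      show ⁅t, (a : S)⁆ ∈ _
      rw [_root_.commutator_def]
      exact Subgroup.commutator_mem_commutator (Subgroup.mem_top _) (Subgroup.mem_top _)
    · have hRA : φ.range ≤ A := by
        rintro _ ⟨a, rfl⟩
        exact hmem a a.2
      have hRn : φ.range.Normal := by
        rw [← Subgroup.normalizer_eq_top_iff, eq_top_iff, ← htop]
        refine sup_le (fun b hb => ?_) (Subgroup.zpowers_le.2 ?_)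
        · rw [Subgroup.mem_normalizer_iff]
          intro x
          refine ⟨fun hx => ?_, fun hx => ?_⟩
          · rw [hAc b x hb (hRA hx), mul_inv_cancel_right]; exact hx
          · have h1 := hRA hx
            have e : b * x * b⁻¹ = x := by
              have h2 := hAn.conj_mem _ h1 b⁻¹
              have e2 : b⁻¹ * (b * x * b⁻¹) * b⁻¹⁻¹ = x := by group
              rw [e2] at h2
              rw [hAc b x hb h2, mul_inv_cancel_right]
            rwa [e] at hx
        · rw [Subgroup.mem_normalizer_iff]
          intro x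
          refine ⟨?_, ?_⟩
          · rintro ⟨a, rfl⟩
            refine ⟨⟨t * a * t⁻¹, hAn.conj_mem _ a.2 t⟩, ?_⟩
            show ⁅t, t * (a : S) * t⁻¹⁆ = t * ⁅t, (a : S)⁆ * t⁻¹
            simp only [commutatorElement_def]; group
          · rintro ⟨a, ha⟩
            refine ⟨⟨t⁻¹ * a * t⁻¹⁻¹, hAn.conj_mem _ a.2 t⁻¹⟩, ?_⟩
            show ⁅t, t⁻¹ * (a : S) * t⁻¹⁻¹⁆ = x
            have ha' : ⁅t, (a : S)⁆ = t * x * t⁻¹ := ha
            rw [show ⁅t, t⁻¹ * (a : S) * t⁻¹⁻¹⁆ = t⁻¹ * ⁅t, (a : S)⁆ * t by
              simp only [commutatorElement_def]; group, ha']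
            group
      haveI := hRn
      let π := QuotientGroup.mk' φ.range
      have hAZ : ∀ a, a ∈ A → π a ∈ Subgroup.center (S ⧸ φ.range) := by
        intro a ha
        refine Subgroup.mem_center_iff.2 fun q => ?_
        obtain ⟨s, rfl⟩ := QuotientGroup.mk'_surjective φ.range q
        have hle : A ⊔ Subgroup.zpowers t ≤ (Subgroup.centralizer {π a}).comap π := sup_le
          (fun b hb => by
            rw [Subgroup.mem_comap, Subgroup.mem_centralizer_singleton_iff, ← map_mul, ← map_mul,
              hAc b a hb ha])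
          (Subgroup.zpowers_le.2 (by
            rw [Subgroup.mem_comap, Subgroup.mem_centralizer_singleton_iff]
            rw [← commutatorElement_eq_one_iff_mul_comm, ← map_commutatorElement]
            exact (QuotientGroup.eq_one_iff _).2 ⟨⟨a, ha⟩, rfl⟩))
        exact Subgroup.mem_centralizer_singleton_iff.1 (hle (htop ▸ Subgroup.mem_top s))
      have htq : ∀ s : S, π t * π s = π s * π t := fun s => by
        have hle : A ⊔ Subgroup.zpowers t ≤ (Subgroup.centralizer {π t}).comap π := sup_le
          (fun b hb => Subgroup.mem_centralizer_singleton_iff.2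
            (Subgroup.mem_center_iff.1 (hAZ b hb) (π t)).symm)
          (Subgroup.zpowers_le.2 (Subgroup.mem_centralizer_singleton_iff.2 rfl))
        exact (Subgroup.mem_centralizer_singleton_iff.1 (hle (htop ▸ Subgroup.mem_top s))).symm
      rw [_root_.commutator_def, Subgroup.commutator_le]
      intro u _ v _
      rw [← QuotientGroup.eq_one_iff]
      show π ⁅u, v⁆ = 1
      rw [map_commutatorElement, commutatorElement_eq_one_iff_mul_comm]
      have hle : A ⊔ Subgroup.zpowers t ≤ (Subgroup.centralizer {π v}).comap π := sup_le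
        (fun b hb => Subgroup.mem_centralizer_singleton_iff.2
          (Subgroup.mem_center_iff.1 (hAZ b hb) (π v)).symm)
        (Subgroup.zpowers_le.2 (Subgroup.mem_centralizer_singleton_iff.2 (htq v)))
      exact Subgroup.mem_centralizer_singleton_iff.1 (hle (htop ▸ Subgroup.mem_top u))
  have hidx : (Subgroup.center S).index = p * Nat.card (commutator S) := by
    rw [← Subgroup.relIndex_mul_index (hZle A hA hAi), hAi, ← hrange, ← Subgroup.index_ker, hker,
      mul_comm]
    rfl
  refine ⟨hidx, ?_⟩
  obtain ⟨j, -, hj⟩ := (Nat.dvd_prime_pow hp).1 (hm ▸ (commutator S).card_subgroup_dvd_card)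
  have hj0 : j ≠ 0 := by
    rintro rfl
    have hbot : commutator S = ⊥ := Subgroup.eq_bot_of_card_eq _ (hj.trans (pow_zero p))
    refine hna ⟨⟨fun a b => ?_⟩⟩
    rw [← commutatorElement_eq_one_iff_mul_comm, ← Subgroup.mem_bot, ← hbot, _root_.commutator_def]
    exact Subgroup.commutator_mem_commutator (Subgroup.mem_top _) (Subgroup.mem_top _)
  rcases Nat.lt_or_ge j 2 with hj2 | hj2
  · left
    obtain rfl : j = 1 := by omega
    rw [pow_one] at hj
    have hq : Nat.card (S ⧸ Subgroup.center S) = p ^ 2 := by
      rw [← Subgroup.index_eq_card, hidx, hj, pow_two]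
    have hnc : ¬ IsCyclic (S ⧸ Subgroup.center S) := fun hc =>
      hna ⟨⟨fun a b => commutative_of_cyclic_center_quotient (QuotientGroup.mk' (Subgroup.center S))
        (by rw [QuotientGroup.ker_mk']) a b⟩⟩
    refine ⟨hj, ⟨⟨⟨fun a b => Subtype.ext ?_⟩⟩, fun a _ => ?_⟩, hq, ?_⟩
    · letI := IsPGroup.commGroupOfCardEqPrimeSq hq
      exact mul_comm _ _
    · obtain ⟨k, hk, hk'⟩ := (Nat.dvd_prime_pow hp).1 (hq ▸ orderOf_dvd_natCard a)
      have hk1 : k ≤ 1 := by
        by_contra hk1
        obtain rfl : k = 2 := by omega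
        exact hnc (isCyclic_of_orderOf_eq_card a (hk'.trans hq.symm))
      exact orderOf_dvd_iff_pow_eq_one.1 (hk' ▸ (pow_dvd_pow p hk1).trans (pow_one p).dvd)
    · let e : {B : Subgroup S // IsMulCommutative ↥B ∧ B.index = p} ≃
          {H : Subgroup (S ⧸ Subgroup.center S) // Nat.card H = p} :=
        { toFun := fun B => ⟨B.1.map (QuotientGroup.mk' (Subgroup.center S)), by
            have hi : (B.1.map (QuotientGroup.mk' (Subgroup.center S))).index = p := by
              rw [Subgroup.index_map_eq _ (QuotientGroup.mk'_surjective _)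
                (by rw [QuotientGroup.ker_mk']; exact hZle B.1 B.2.1 B.2.2)]
              exact B.2.2
            have h1 := (B.1.map (QuotientGroup.mk' (Subgroup.center S))).card_mul_index
            rw [hi, hq, pow_two] at h1
            exact Nat.eq_of_mul_eq_mul_right hp.pos h1⟩
          invFun := fun H => ⟨H.1.comap (QuotientGroup.mk' (Subgroup.center S)), by
            haveI : IsCyclic H.1 := isCyclic_of_prime_card H.2
            exact ⟨⟨fun a b => commutative_of_cyclic_center_quotient
              ((QuotientGroup.mk' (Subgroup.center S)).subgroupComap H.1) (fun x hx => by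
                have hx' : (QuotientGroup.mk' (Subgroup.center S)) (x : S) = 1 :=
                  congrArg Subtype.val hx
                refine Subgroup.mem_center_iff.2 fun y => Subtype.ext ?_
                exact Subgroup.mem_center_iff.1 ((QuotientGroup.eq_one_iff _).1 hx') (y : S)) a b⟩⟩,
            by
              rw [Subgroup.index_comap_of_surjective _ (QuotientGroup.mk'_surjective _)]
              have h1 := H.1.card_mul_index
              rw [H.2, hq, pow_two] at h1
              exact Nat.eq_of_mul_eq_mul_left hp.pos h1⟩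
          left_inv := fun B => Subtype.ext (by
            show (B.1.map _).comap _ = B.1
            rw [Subgroup.comap_map_eq, QuotientGroup.ker_mk',
              sup_eq_left.2 (hZle B.1 B.2.1 B.2.2)])
          right_inv := fun H => Subtype.ext
            (Subgroup.map_comap_eq_self_of_surjective (QuotientGroup.mk'_surjective _) H.1) }
      rw [Nat.card_congr e]
      exact CfsgLib.PGroup.card_subgroups_prime_of_sq hq hnc
  · right
    refine ⟨hj ▸ Nat.pow_le_pow_right hp.pos hj2, fun B hB hBi => by_contra fun hne => ?_⟩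
    have hBA : B ⊔ A = ⊤ := maxOf A _ hAi le_sup_right fun e => hne
      (Subgroup.eq_of_le_of_card_ge (sup_eq_right.1 e) (by
        have h1 := A.card_mul_index
        have h2 := B.card_mul_index
        rw [← h2, hAi, hBi] at h1
        exact le_of_eq (Nat.eq_of_mul_eq_mul_right hp.pos h1)))
    have hle : B ⊓ A ≤ Subgroup.center S := fun x hx => Subgroup.mem_center_iff.2 fun s => by
      have hle' : B ⊔ A ≤ Subgroup.centralizer {x} := sup_le
        (fun b hb => Subgroup.mem_centralizer_singleton_iff.2
          (congrArg Subtype.val (hB.is_comm.comm ⟨b, hb⟩ ⟨x, hx.1⟩)))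
        (fun b hb => Subgroup.mem_centralizer_singleton_iff.2 (hAc b x hb hx.2))
      exact Subgroup.mem_centralizer_singleton_iff.1 (hle' (hBA ▸ Subgroup.mem_top s))
    have h1 := Nat.le_of_dvd (Nat.pos_of_ne_zero (B ⊓ A).index_ne_zero_of_finite)
      (Subgroup.index_dvd_of_le hle)
    have h2 : (B ⊓ A).index ≤ B.index * A.index := Subgroup.index_inf_le
    rw [hBi, hAi] at h2
    rw [hidx, hj] at h1
    have h3 : p * p ^ j ≤ p * p := h1.trans h2
    have h4 : p ^ j ≤ p ^ 1 := by rw [pow_one]; exact Nat.le_of_mul_le_mul_left h3 hp.pos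
    have := (Nat.pow_le_pow_iff_right hp.one_lt).1 h4
    omega

end Cfsg.Agent.S3807
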