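import Cfsg.Statements.S3808
import Cfsg.Agent.Lib.PGroup.ExtraspecialIndexP
-- import your own Cfsg.Agent.* helpers here

set_option autoImplicit false
open Cfsg

namespace Cfsg.Agent.S3808

/-- Let S be a finite p-group with an extraspecial subgroup Q of index p. Then either Z(S) = Z(Q), or S = Q·Z(S) and Z(S) has order p². -/
theorem result {S : Type*} [Group S] [Finite S] (p : ℕ) [Fact p.Prime] (hS : IsPGroup p S) (Q : Subgroup S) (hQ : Cfsg.IsExtraspecial p ↥Q) (hQi : Q.index = p) :
    Subgroup.center S = (Subgroup.center ↥Q).map Q.subtype ∨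
      (Q ⊔ Subgroup.center S = ⊤ ∧ Nat.card (Subgroup.center S) = p ^ 2) := by
  obtain ⟨hn, hle⟩ := CfsgLib.PGroup.center_le_of_index_prime hS Q hQ hQi
  have hinf : Q ⊓ Subgroup.center S = (Subgroup.center ↥Q).map Q.subtype := by
    refine le_antisymm (fun x hx => ?_) (le_inf (Subgroup.map_subtype_le _) hle)
    exact ⟨⟨x, hx.1⟩, Subgroup.mem_center_iff.2 fun y =>
      Subtype.ext (Subgroup.mem_center_iff.1 hx.2 (y : S)), rfl⟩
  by_cases hc : Subgroup.center S ≤ Q
  · left
    rw [← hinf, inf_eq_right.2 hc]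
  right
  have hprime : ∀ K : Subgroup S, Q ≤ K → K = Q ∨ K = ⊤ := fun K hK => by
    rcases (Nat.dvd_prime (Fact.out : p.Prime)).1 (hQi ▸ Subgroup.index_dvd_of_le hK) with e | e
    · exact Or.inr (Subgroup.index_eq_one.1 e)
    · left
      refine (Subgroup.eq_of_le_of_card_ge hK ?_).symm
      have h1 := Q.card_mul_index
      have h2 := K.card_mul_index
      rw [← h1, hQi, e] at h2
      exact le_of_eq (Nat.eq_of_mul_eq_mul_right (Fact.out : p.Prime).pos h2)
  have htop : Q ⊔ Subgroup.center S = ⊤ :=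
    (hprime _ le_sup_left).resolve_left fun e => hc (e ▸ le_sup_right)
  refine ⟨htop, ?_⟩
  have hcz : Nat.card ↥(Q ⊓ Subgroup.center S) = p := by
    rw [hinf, Subgroup.card_map_of_injective Q.subtype_injective]
    exact hQ.2
  have h1 := CfsgLib.PGroup.card_mul_relIndex (Q ⊓ Subgroup.center S) (Subgroup.center S) inf_le_right
  rw [Subgroup.inf_relIndex_right, ← Subgroup.relIndex_sup_left, htop,
    Subgroup.relIndex_top_right, hQi, hcz] at h1
  rw [pow_two, h1]

end Cfsg.Agent.S3808
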