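import Cfsg.Statements.S3809
import Cfsg.Agent.Lib.PGroup.ExtraspecialIndexP
-- import your own Cfsg.Agent.* helpers here

set_option autoImplicit false
open Cfsg

namespace Cfsg.Agent.S3809

open scoped commutatorElement

/-- Let S be a finite p-group with an extraspecial subgroup of index p. Then S has order p^(2+2n) for some n ≥ 1, derived length at most 3, and exponent dividing p³. -/
theorem result {S : Type*} [Group S] [Finite S] (p : ℕ) [Fact p.Prime] (hS : IsPGroup p S) (Q : Subgroup S) (hQ : Cfsg.IsExtraspecial p ↥Q) (hQi : Q.index = p) :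
    (∃ n : ℕ, 1 ≤ n ∧ Nat.card S = p ^ (2 + 2 * n)) ∧ derivedSeries S 3 = ⊥ ∧ ∀ x : S, x ^ (p ^ 3) = 1 := by
  obtain ⟨hn, hle⟩ := CfsgLib.PGroup.center_le_of_index_prime hS Q hQ hQi
  obtain ⟨n, hn1, hcard⟩ := CfsgLib.PGroup.extraspecial_card hQ
  have hquot : Nat.card (S ⧸ Q) = p := hQi
  refine ⟨⟨n, hn1, ?_⟩, ?_, fun x => ?_⟩
  · rw [← Q.card_mul_index, hQi, hcard, show 2 + 2 * n = 2 * n + 1 + 1 by ring, ← pow_succ]
  · have h1 : derivedSeries S 1 ≤ Q := by
      haveI : IsCyclic (S ⧸ Q) := isCyclic_of_prime_card hquot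
      rw [derivedSeries_one, _root_.commutator_def, Subgroup.commutator_le]
      intro a _ b _
      rw [← QuotientGroup.eq_one_iff]
      letI : CommGroup (S ⧸ Q) := IsCyclic.commGroup
      show (QuotientGroup.mk' Q) ⁅a, b⁆ = 1
      rw [map_commutatorElement, commutatorElement_eq_one_iff_mul_comm]
      exact mul_comm _ _
    have h2 : derivedSeries S 2 ≤ Subgroup.center S := by
      refine le_trans ?_ hle
      rw [derivedSeries_succ]
      refine le_trans (Subgroup.commutator_mono h1 h1) ?_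
      rw [Subgroup.commutator_le]
      intro a ha b hb
      refine ⟨⁅(⟨a, ha⟩ : Q), ⟨b, hb⟩⁆, ?_, map_commutatorElement Q.subtype _ _⟩
      rw [SetLike.mem_coe, ← hQ.1.2.2, _root_.commutator_def]
      exact Subgroup.commutator_mem_commutator (Subgroup.mem_top _) (Subgroup.mem_top _)
    rw [derivedSeries_succ, eq_bot_iff]
    refine le_trans (Subgroup.commutator_mono h2 h2) ?_
    rw [Subgroup.commutator_le]
    intro a ha b _
    rw [Subgroup.mem_bot, commutatorElement_eq_one_iff_mul_comm]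
    exact (Subgroup.mem_center_iff.1 ha b).symm
  · have hx : x ^ p ∈ Q := by
      rw [← QuotientGroup.eq_one_iff, QuotientGroup.mk_pow, ← hquot]
      exact pow_card_eq_one'
    obtain ⟨hs, -⟩ := CfsgLib.PGroup.smallCenter_of_extraspecial hQ
    have h3 : ((⟨⟨x ^ p, hx⟩ ^ p, hs.pow_mem _⟩ : Subgroup.center Q)) ^ p = 1 := by
      have := pow_card_eq_one' (G := Subgroup.center Q) (x := ⟨⟨x ^ p, hx⟩ ^ p, hs.pow_mem _⟩)
      rwa [hs.card_center] at this
    have h4 : ((x ^ p) ^ p) ^ p = 1 := congrArg (fun t : Subgroup.center Q => ((t : Q) : S)) h3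
    rw [pow_succ, pow_two, pow_mul, pow_mul]
    exact h4

end Cfsg.Agent.S3809
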