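import Cfsg.Statements.S3810
import Cfsg.Agent.Lib.PGroup.ExtraspecialIndexP
-- import your own Cfsg.Agent.* helpers here

set_option autoImplicit false
open Cfsg

namespace Cfsg.Agent.S3810

open scoped commutatorElement

/-- Let S be a finite p-group with an extraspecial subgroup of index p. Then S has an abelian subgroup of index p if and only if S has order p⁴. -/
theorem result {S : Type*} [Group S] [Finite S] (p : ℕ) [Fact p.Prime] (hS : IsPGroup p S) (Q : Subgroup S) (hQ : Cfsg.IsExtraspecial p ↥Q) (hQi : Q.index = p) :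
    (∃ A : Subgroup S, IsMulCommutative ↥A ∧ A.index = p) ↔ Nat.card S = p ^ 4 := by
  obtain ⟨hn, hle⟩ := CfsgLib.PGroup.center_le_of_index_prime hS Q hQ hQi
  obtain ⟨n, hn1, hcard⟩ := CfsgLib.PGroup.extraspecial_card hQ
  obtain ⟨hs, -⟩ := CfsgLib.PGroup.smallCenter_of_extraspecial hQ
  have hS4 : Nat.card S = p ^ (2 * n + 2) := by
    rw [← Q.card_mul_index, hQi, hcard, ← pow_succ]
  have hp1 := (Fact.out : p.Prime).one_lt
  constructor
  · rintro ⟨A, hA, hAi⟩
    have hAc : Nat.card A = p ^ (2 * n + 1) := by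
      have := A.card_mul_index
      rw [hAi, hS4, pow_succ] at this
      exact Nat.eq_of_mul_eq_mul_right (Fact.out : p.Prime).pos this
    haveI : Group.IsNilpotent S := hS.isNilpotent
    haveI : A.Normal := by
      refine Subgroup.normal_of_index_eq_minFac_card ?_
      rw [hAi, hS4, Nat.Prime.pow_minFac Fact.out (by omega)]
    set B := A.subgroupOf Q with hB
    have hBc : p ^ (2 * n) ≤ Nat.card B := by
      have h1 := B.card_mul_index
      rw [hcard, show B.index = A.relIndex Q from rfl] at h1
      have h2 : A.relIndex Q ≤ p :=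
        hAi ▸ Nat.le_of_dvd (Nat.pos_of_ne_zero A.index_ne_zero_of_finite)
          (Subgroup.relIndex_dvd_index_of_normal A Q)
      rw [pow_succ] at h1
      by_contra hlt
      push Not at hlt
      have h3 : Nat.card B * A.relIndex Q < p ^ (2 * n) * p :=
        Nat.lt_of_le_of_lt (Nat.mul_le_mul_left _ h2)
          (Nat.mul_lt_mul_of_pos_right hlt (by omega))
      omega
    have hBab : IsMulCommutative B := ⟨⟨fun a b => Subtype.ext (Subtype.ext
      (by simpa using congrArg Subtype.val (hA.is_comm.comm ⟨((a : Q) : S), a.2⟩ ⟨((b : Q) : S), b.2⟩)))⟩⟩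
    have h4 := hs.card_abelian_le B hBab
    rw [hcard, ← pow_succ'] at h4
    have h5 : p ^ (2 * n + 2 * n) ≤ p ^ (2 * n + 1 + 1) := by
      rw [pow_add]
      exact (Nat.mul_le_mul hBc hBc).trans h4
    have := (Nat.pow_le_pow_iff_right hp1).1 h5
    rw [hS4]
    congr 1
    omega
  · intro h4
    have hn' : n = 1 := by
      have := Nat.pow_right_injective hp1 (hS4.symm.trans h4)
      omega
    subst hn'
    haveI := hn
    haveI hna : ¬ IsMulCommutative S := fun hc => by
      have htop : Subgroup.center Q = ⊤ := eq_top_iff.2 fun a _ => Subgroup.mem_center_iff.2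
        fun b => Subtype.ext (hc.is_comm.comm (b : S) a)
      have h1 := hs.card_center
      rw [htop, Subgroup.card_top, hcard] at h1
      have := Nat.pow_right_injective hp1 (h1.trans (pow_one p).symm)
      omega
    set Z := (Subgroup.center ↥Q).map Q.subtype with hZdef
    have hZc : Nat.card Z = p := by
      rw [hZdef, Subgroup.card_map_of_injective Q.subtype_injective]
      exact hs.card_center
    haveI hZn : Z.Normal := inferInstance
    haveI : Group.IsNilpotent S := hS.isNilpotent
    haveI : Group.IsNilpotent (S ⧸ Z) := inferInstance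
    have hne : Q.map (QuotientGroup.mk' Z) ≠ ⊥ := by
      rw [Ne, Subgroup.map_eq_bot_iff, QuotientGroup.ker_mk']
      intro h
      have := Subgroup.card_le_of_le h
      rw [hcard, hZc] at this
      exact absurd this (not_le.2 (lt_self_pow₀ hp1 (by omega)))
    obtain ⟨⟨w, hw⟩, hw1'⟩ := Subgroup.ne_bot_iff_exists_ne_one.1
      (CfsgLib.Coprime.nilpotent_inf_center_ne_bot _ hne)
    have hw1 : w ≠ 1 := fun e => hw1' (Subtype.ext e)
    obtain ⟨⟨u, huQ, rfl⟩, hwc⟩ := hw
    have huZ : u ∉ Z := fun h => hw1 ((QuotientGroup.eq_one_iff u).2 h)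
    have hcomm : ∀ s : S, ⁅s, u⁆ ∈ Z := fun s => by
      rw [← QuotientGroup.eq_one_iff]
      show (QuotientGroup.mk' Z) ⁅s, u⁆ = 1
      rw [map_commutatorElement, commutatorElement_eq_one_iff_mul_comm]
      exact Subgroup.mem_center_iff.1 hwc _
    let φ : S →* S := MonoidHom.mk' (fun s => ⁅s, u⁆) fun a b => by
      have e : ⁅a * b, u⁆ = a * ⁅b, u⁆ * a⁻¹ * ⁅a, u⁆ := by
        simp only [commutatorElement_def]; group
      show ⁅a * b, u⁆ = ⁅a, u⁆ * ⁅b, u⁆
      rw [e, Subgroup.mem_center_iff.1 (hle (hcomm b)) a, mul_inv_cancel_right,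
        (Subgroup.mem_center_iff.1 (hle (hcomm b)) ⁅a, u⁆).symm]
    have hidx : φ.ker.index ≤ p := by
      rw [Subgroup.index_ker]
      refine le_trans (Subgroup.card_le_of_le ?_) hZc.le
      rintro _ ⟨s, rfl⟩
      exact hcomm s
    set N := Z ⊔ Subgroup.zpowers u with hN
    have hNab : IsMulCommutative N := by
      rw [← Subgroup.le_centralizer_iff_isMulCommutative]
      refine sup_le (hle.trans (Subgroup.center_le_centralizer _)) (Subgroup.zpowers_le.2 ?_)
      rw [Subgroup.mem_centralizer_iff]
      have hle' : N ≤ Subgroup.centralizer {u} := sup_le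
        (hle.trans (Subgroup.center_le_centralizer _))
        (Subgroup.zpowers_le.2 (Subgroup.mem_centralizer_singleton_iff.2 rfl))
      exact fun b hb => Subgroup.mem_centralizer_singleton_iff.1 (hle' hb)
    have hNc : p ^ 2 ≤ Nat.card N := by
      have hlt : Z < N := lt_of_le_of_ne le_sup_left fun e =>
        huZ (e ▸ Subgroup.mem_sup_right (Subgroup.mem_zpowers u))
      obtain ⟨k, hk⟩ := IsPGroup.iff_card.1 (hS.to_subgroup N)
      rcases Nat.lt_or_ge k 2 with hk2 | hk2
      · exfalso
        have : Nat.card N ≤ Nat.card Z := by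
          rw [hk, hZc]
          calc p ^ k ≤ p ^ 1 := Nat.pow_le_pow_right (by omega) (by omega)
            _ = p := pow_one p
        exact hlt.ne (Subgroup.eq_of_le_of_card_ge hlt.le this)
      · rw [hk]; exact Nat.pow_le_pow_right (by omega) hk2
    have hA0 : ∃ A : Subgroup S, IsMulCommutative A ∧ p ^ 3 ≤ Nat.card A := by
      by_cases hk : φ.ker ≤ N
      · refine ⟨N, hNab, ?_⟩
        have h1 := φ.ker.card_mul_index
        rw [h4] at h1
        have h2 : p ^ 4 ≤ Nat.card N * p := h1 ▸ Nat.mul_le_mul (Subgroup.card_le_of_le hk) hidx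
        rw [pow_succ] at h2
        exact Nat.le_of_mul_le_mul_right h2 (by omega)
      · obtain ⟨x, hx, hxN⟩ := SetLike.not_le_iff_exists.1 hk
        refine ⟨N ⊔ Subgroup.zpowers x, ?_, ?_⟩
        · rw [← Subgroup.le_centralizer_iff_isMulCommutative]
          have hxu : Commute x u := commutatorElement_eq_one_iff_mul_comm.1 hx
          have hNx : N ≤ Subgroup.centralizer {x} := sup_le
            (hle.trans (Subgroup.center_le_centralizer _))
            (Subgroup.zpowers_le.2 (Subgroup.mem_centralizer_singleton_iff.2 hxu.symm.eq))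
          refine sup_le (fun a ha => ?_) (Subgroup.zpowers_le.2 ?_)
          · have : N ⊔ Subgroup.zpowers x ≤ Subgroup.centralizer {a} := sup_le
              (fun b hb => Subgroup.mem_centralizer_singleton_iff.2
                (congrArg Subtype.val (hNab.is_comm.comm ⟨b, hb⟩ ⟨a, ha⟩)))
              (Subgroup.zpowers_le.2 (Subgroup.mem_centralizer_singleton_iff.2
                (Subgroup.mem_centralizer_singleton_iff.1 (hNx ha)).symm))
            exact Subgroup.mem_centralizer_iff.2 fun b hb =>
              Subgroup.mem_centralizer_singleton_iff.1 (this hb)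
          · have : N ⊔ Subgroup.zpowers x ≤ Subgroup.centralizer {x} := sup_le hNx
              (Subgroup.zpowers_le.2 (Subgroup.mem_centralizer_singleton_iff.2 rfl))
            exact Subgroup.mem_centralizer_iff.2 fun b hb =>
              Subgroup.mem_centralizer_singleton_iff.1 (this hb)
        · obtain ⟨k, hk'⟩ := IsPGroup.iff_card.1 (hS.to_subgroup (N ⊔ Subgroup.zpowers x))
          have hlt : N < N ⊔ Subgroup.zpowers x := lt_of_le_of_ne le_sup_left fun e =>
            hxN (e ▸ Subgroup.mem_sup_right (Subgroup.mem_zpowers x))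
          have hc : Nat.card N < Nat.card ↥(N ⊔ Subgroup.zpowers x) :=
            lt_of_le_of_ne (Subgroup.card_le_of_le hlt.le) fun e =>
              hlt.ne (Subgroup.eq_of_le_of_card_ge hlt.le e.ge)
          rw [hk'] at hc ⊢
          exact Nat.pow_le_pow_right (by omega) ((Nat.pow_lt_pow_iff_right hp1).1 (hNc.trans_lt hc))
    obtain ⟨A, hA, hA3⟩ := hA0
    obtain ⟨k, -, hk⟩ := (Nat.dvd_prime_pow (Fact.out : p.Prime)).1
      (h4 ▸ A.card_subgroup_dvd_card)
    have h1 := A.card_mul_index
    rw [h4, hk] at h1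
    rw [hk] at hA3
    have hk3 : 3 ≤ k := (Nat.pow_le_pow_iff_right hp1).1 hA3
    have hk4 : k ≠ 4 := by
      rintro rfl
      refine hna ?_
      have htop : A = ⊤ := A.eq_top_of_card_eq (by rw [hk, h4])
      exact ⟨⟨fun a b => congrArg Subtype.val
        (hA.is_comm.comm ⟨a, htop ▸ Subgroup.mem_top a⟩ ⟨b, htop ▸ Subgroup.mem_top b⟩)⟩⟩
    have hk4' : k ≤ 4 := by
      refine (Nat.pow_le_pow_iff_right hp1).1 ?_
      rw [← h1]
      exact Nat.le_mul_of_pos_right _ (Nat.pos_of_ne_zero A.index_ne_zero_of_finite)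
    obtain rfl : k = 3 := by omega
    refine ⟨A, hA, ?_⟩
    rw [pow_succ p 3] at h1
    exact Nat.eq_of_mul_eq_mul_left (by positivity) h1

end Cfsg.Agent.S3810
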