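import Cfsg.Statements.S3811
-- import your own Cfsg.Agent.* helpers here
import Cfsg.Agent.Lib.PGroup.NormalizerTower

set_option autoImplicit false
open Cfsg
open scoped commutatorElement

namespace Cfsg.Agent.S3811


/-- Let P be a finite p-group and E an abelian subgroup of P that contains its centralizer, has index p in its normalizer, and has index at least p² in P. Then the subgroups of P containing E are totally ordered by inclusion, each proper one has index p in its normalizer (so they form the normalizer tower of E, with all steps of index p), and the i-th member of the tower above E has nilpotency class i + 1 whenever it is a proper subgroup of P. -/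
theorem result {P : Type*} [Group P] [Finite P] (p : ℕ) [Fact p.Prime] (hP : IsPGroup p P)
    (E : Subgroup P) (hEab : IsMulCommutative ↥E) (hC : Subgroup.centralizer (E : Set P) ≤ E)
    (hN : (E.subgroupOf (Subgroup.normalizer (E : Set P))).index = p) (hidx : p ^ 2 ≤ E.index) :
    (∀ K L : Subgroup P, E ≤ K → E ≤ L → K ≤ L ∨ L ≤ K) ∧
      (∀ K : Subgroup P, E ≤ K → K ≠ ⊤ → (K.subgroupOf (Subgroup.normalizer (K : Set P))).index = p) ∧
      ∀ (i : ℕ) (K : Subgroup P) [Group.IsNilpotent ↥K], E ≤ K → K ≠ ⊤ → K.index * p ^ i = E.index →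
        Group.nilpotencyClass ↥K = i + 1 := by
  classical
  have hp : p.Prime := Fact.out
  have hsOf : ∀ X Y : Subgroup P, X ≤ Y → Nat.card (X.subgroupOf Y) * (X.subgroupOf Y).index = Nat.card Y ∧
      Nat.card (X.subgroupOf Y) = Nat.card X := fun X Y h =>
    ⟨(X.subgroupOf Y).card_mul_index, Nat.card_congr (Subgroup.subgroupOfEquivOfLe h).toEquiv⟩
  have hab : ∀ a ∈ E, ∀ b ∈ E, Commute a b := fun a ha b hb =>
    congrArg Subtype.val (mul_comm' (⟨a, ha⟩ : ↥E) ⟨b, hb⟩)
  have hN' : Nat.card ↥(Subgroup.normalizer (E : Set P)) = p * Nat.card E := by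
    obtain ⟨h1, h2⟩ := hsOf E _ Subgroup.le_normalizer
    rw [← h1, h2, hN, mul_comm]
  have T := CfsgLib.NormTower.tower E.index P E rfl hP hab hC hN'
  have hcov : ∀ K L : Subgroup P, E ≤ K → K < L → Subgroup.normalizer (K : Set P) ≤ L := by
    intro K L hEK hKL
    have hKtop : K ≠ ⊤ := fun e => not_top_lt (e ▸ hKL)
    have h := CfsgLib.Subnormalizer.lt_inf_normalizer (hP.to_subgroup L) hKL
    exact (CfsgLib.NormTower.sandwich (T K hEK hKtop).1 h inf_le_right).ge.trans inf_le_left
  refine ⟨fun K L hK hL => ?_, fun K hEK hK => ?_, ?_⟩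
  · by_contra hno
    push Not at hno
    have h1 : K ⊓ L < K := lt_of_le_of_ne inf_le_left fun e => hno.1 (inf_eq_left.1 e)
    have h2 : K ⊓ L < L := lt_of_le_of_ne inf_le_right fun e => hno.2 (inf_eq_right.1 e)
    have h0 : E ≤ K ⊓ L := le_inf hK hL
    have h3 : Subgroup.normalizer ((K ⊓ L : Subgroup P) : Set P) ≤ K ⊓ L :=
      le_inf (hcov _ _ h0 h1) (hcov _ _ h0 h2)
    have h4 := (T _ h0 (fun e => not_top_lt (e ▸ h1))).1
    have h5 := Subgroup.card_dvd_of_le h3
    rw [h4] at h5
    have h6 := Nat.le_of_dvd Nat.card_pos h5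
    have h7 : 0 < Nat.card ↥(K ⊓ L) := Nat.card_pos
    have h8 := hp.two_le
    nlinarith
  · obtain ⟨h1, h2⟩ := hsOf K _ (Subgroup.le_normalizer (H := K))
    rw [h2, (T K hEK hK).1, mul_comm p] at h1
    exact Nat.eq_of_mul_eq_mul_left Nat.card_pos h1
  intro i K _ hEK hK hi
  have hcard : Nat.card K = Nat.card E * p ^ i := by
    have h1 := K.card_mul_index
    rw [← E.card_mul_index, ← hi] at h1
    refine Nat.eq_of_mul_eq_mul_right (Nat.pos_of_ne_zero (Subgroup.index_ne_zero_of_finite (H := K))) ?_
    rw [h1]; ring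
  apply le_antisymm
  · rw [← Subgroup.lowerCentralSeries_eq_bot_iff_nilpotencyClass_le]
    apply Subgroup.map_injective K.subtype_injective
    have hmap : ∀ j, ((⊤ : Subgroup K).lowerCentralSeries j).map K.subtype = K.lowerCentralSeries j := by
      intro j
      induction j with
      | zero => rw [Subgroup.lowerCentralSeries_zero, Subgroup.lowerCentralSeries_zero,
          ← MonoidHom.range_eq_map, Subgroup.range_subtype]
      | succ j hj => rw [Subgroup.lowerCentralSeries_succ, Subgroup.lowerCentralSeries_succ,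
          Subgroup.map_commutator, hj, ← MonoidHom.range_eq_map, Subgroup.range_subtype]
    rw [hmap, Subgroup.map_bot]
    exact (T K hEK hK).2.1 i hcard
  · -- the class is large enough
    set Z : ℕ → Subgroup P := fun j => (Subgroup.upperCentralSeries ↥K j).map K.subtype with hZ
    set c := Group.nilpotencyClass ↥K with hc
    have hT : ∀ j, Nat.card ↥(E ⊔ Z (j + 1)) ≤ Nat.card E * p ^ j := by
      intro j
      induction j with
      | zero =>
        rw [pow_zero, mul_one]
        have hle : Z 1 ≤ E := by
          rintro _ ⟨z, hz, rfl⟩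
          rw [Subgroup.upperCentralSeries_one] at hz
          refine hC (Subgroup.mem_centralizer_iff.2 fun a ha => ?_)
          exact congrArg Subtype.val (Subgroup.mem_center_iff.1 hz ⟨a, hEK ha⟩)
        rw [zero_add, sup_eq_left.2 hle]
      | succ j hj =>
        set X := E ⊔ Z (j + 1) with hX
        have hXK : X ≤ K := sup_le hEK (Subgroup.map_subtype_le _)
        have hXtop : X ≠ ⊤ := fun e => hK (top_le_iff.1 (e ▸ hXK))
        have hle : E ⊔ Z (j + 1 + 1) ≤ Subgroup.normalizer (X : Set P) := by
          refine sup_le (le_sup_left.trans Subgroup.le_normalizer) ?_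
          rintro _ ⟨z, hz, rfl⟩
          refine CfsgLib.NormTower.mem_norm_of_cj_le ?_
          rintro _ ⟨x, hx, rfl⟩
          have hxK := hXK hx
          show (z : P) * x * (z : P)⁻¹ ∈ X
          rw [show (z : P) * x * (z : P)⁻¹ = ⁅(z : P), x⁆ * x by rw [commutatorElement_def]; group]
          refine X.mul_mem (Subgroup.mem_sup_right ⟨⁅z, (⟨x, hxK⟩ : K)⁆,
            Subgroup.mem_upperCentralSeries_succ_iff.1 hz _, map_commutatorElement _ _ _⟩) hx
        have h1 := Nat.le_of_dvd Nat.card_pos (Subgroup.card_dvd_of_le hle)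
        rw [(T X le_sup_left hXtop).1] at h1
        calc _ ≤ p * Nat.card X := h1
          _ ≤ p * (Nat.card E * p ^ j) := Nat.mul_le_mul_left p hj
          _ = Nat.card E * p ^ (j + 1) := by ring
    rcases Nat.eq_zero_or_pos c with h0 | h0
    · exfalso
      have hsub : Subsingleton ↥K := Group.nilpotencyClass_zero_iff_subsingleton.1 h0
      have hKb : K = ⊥ := by
        haveI := hsub
        exact Subgroup.eq_bot_of_subsingleton K
      have hEb : E = ⊥ := le_bot_iff.1 (hKb ▸ hEK)
      have hEC : (⊤ : Subgroup P) ≤ E := fun x _ => hC (Subgroup.mem_centralizer_iff.2 fun a ha => by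
        rw [hEb] at ha
        rw [Subgroup.mem_bot.1 ha, one_mul, mul_one])
      exact hK (top_le_iff.1 (hEC.trans hEK))
    obtain ⟨d, hd⟩ := Nat.exists_eq_add_one.2 h0
    have hfull : E ⊔ Z (d + 1) = K := by
      rw [hZ]
      simp only
      rw [← hd, Subgroup.upperCentralSeries_nilpotencyClass, ← MonoidHom.range_eq_map,
        Subgroup.range_subtype, sup_eq_right.2 hEK]
    have h1 := hT d
    rw [hfull, hcard] at h1
    have h2 := Nat.le_of_mul_le_mul_left h1 Nat.card_pos
    rw [Nat.pow_le_pow_iff_right hp.one_lt] at h2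
    omega


end Cfsg.Agent.S3811
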