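import Cfsg.Statements.S3815
import Cfsg.Agent.Lib.Coprime.Core

set_option autoImplicit false
set_option linter.style.haveILetI false
open Cfsg

namespace Cfsg.Agent.S3815

/-- Let G be a finite group, p a prime and d ∈ G an element of order prime to p. If dg has order prime to p for every element g ∈ G of order prime to p, then d ∈ O_{p'}(G). -/
theorem result {G : Type*} [Group G] [Finite G] {p : ℕ} [Fact p.Prime]
    (d : G) (hd : (orderOf d).Coprime p)
    (h : ∀ g : G, (orderOf g).Coprime p → (orderOf (d * g)).Coprime p) :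
    d ∈ Cfsg.pPrimeCore p G := by
  have hp : p.Prime := Fact.out
  let S : Set G := {a | (orderOf a).Coprime p ∧
    ∀ g : G, (orderOf g).Coprime p → (orderOf (a * g)).Coprime p}
  let M : Submonoid G :=
    { carrier := S
      one_mem' := ⟨by simp, fun g hg => by rwa [one_mul]⟩
      mul_mem' := fun {a b} ha hb => ⟨ha.2 b hb.1,
        fun g hg => by rw [mul_assoc]; exact ha.2 _ (hb.2 g hg)⟩ }
  let H : Subgroup G :=
    { M with
      inv_mem' := fun {a} ha => by
        have e : a⁻¹ = a ^ (orderOf a - 1) := inv_eq_of_mul_eq_one_right (by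
          rw [← pow_succ', Nat.sub_add_cancel (orderOf_pos a), pow_orderOf_eq_one])
        rw [e]
        exact M.pow_mem ha _ }
  have hconj : ∀ g a : G, orderOf (g * a * g⁻¹) = orderOf a := fun g a =>
    orderOf_injective (MulAut.conj g).toMonoidHom (MulEquiv.injective _) a
  haveI : H.Normal := by
    refine ⟨fun a ha g => ⟨(hconj g a).symm ▸ ha.1, fun y hy => ?_⟩⟩
    have e : g * a * g⁻¹ * y = g * (a * (g⁻¹ * y * g⁻¹⁻¹)) * g⁻¹ := by group
    rw [e, hconj]
    exact ha.2 _ ((hconj g⁻¹ y).symm ▸ hy)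
  refine CfsgLib.Coprime.le_pPrimeCore_of_not_dvd hp (N := H) (fun hd => ?_) ⟨hd, h⟩
  obtain ⟨x, hx⟩ := exists_prime_orderOf_dvd_card' (G := H) p hd
  have h1 := x.2.1
  rw [Subgroup.orderOf_coe, hx] at h1
  exact hp.ne_one ((Nat.coprime_self p).1 h1)

end Cfsg.Agent.S3815
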