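import Cfsg.Statements.S3820


set_option autoImplicit false
set_option linter.style.haveILetI false
open Cfsg

namespace Cfsg.Agent.S3820

theorem map_conj_mul {G : Type*} [Group G] (g h : G) (H : Subgroup G) :
    H.map (MulAut.conj (g * h)).toMonoidHom =
      (H.map (MulAut.conj h).toMonoidHom).map (MulAut.conj g).toMonoidHom := by
  rw [Subgroup.map_map]
  congr 1
  ext x
  simp [mul_assoc]

theorem map_conj_one {G : Type*} [Group G] (H : Subgroup G) :
    H.map (MulAut.conj (1 : G)).toMonoidHom = H := by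
  ext x
  simp

theorem map_conj_eq_self {G : Type*} [Group G] {g : G} {H : Subgroup G} :
    H.map (MulAut.conj g).toMonoidHom = H ↔ g ∈ Subgroup.normalizer (H : Set G) := by
  constructor
  · intro e
    refine Subgroup.mem_normalizer_iff.2 fun z => ?_
    have h1 : g * z * g⁻¹ ∈ H.map (MulAut.conj g).toMonoidHom ↔ z ∈ H :=
      Subgroup.mem_map_iff_mem (f := (MulAut.conj g).toMonoidHom) (MulAut.conj g).injective
    rw [e] at h1
    exact h1.symm
  · intro hg
    ext z
    constructor
    · rintro ⟨k, hk, rfl⟩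
      exact (Subgroup.mem_normalizer_iff.1 hg k).1 hk
    · intro hz
      refine ⟨g⁻¹ * z * g, ?_, by simp [mul_assoc]⟩
      simpa using (Subgroup.mem_normalizer_iff.1 (Subgroup.inv_mem _ hg) z).1 hz

/-- Call a subgroup H of G pronormal if H and gHg⁻¹ are conjugate inside ⟨H, gHg⁻¹⟩ for every g ∈ G. Let S ≤ H ≤ G be subgroups of a finite group with S pronormal in G (for instance S a Sylow subgroup). Then H is pronormal in G if and only if H and gHg⁻¹ are conjugate inside ⟨H, gHg⁻¹⟩ for every g ∈ N_G(S). In particular H is pronormal whenever N_G(S) ≤ H. -/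
theorem result {G : Type*} [Group G] [Finite G] (S H : Subgroup G) (hSH : S ≤ H)
    (hS : Cfsg.IsPronormal S) :
    Cfsg.IsPronormal H ↔
      ∀ g ∈ Subgroup.normalizer (S : Set G), ∃ w ∈ H ⊔ H.map (MulAut.conj g).toMonoidHom,
        H.map (MulAut.conj g).toMonoidHom = H.map (MulAut.conj w).toMonoidHom := by
  constructor
  · exact fun hH g _ => hH g
  · intro h g
    obtain ⟨u, hu, hSu⟩ := hS g
    have hn : u⁻¹ * g ∈ Subgroup.normalizer (S : Set G) := map_conj_eq_self.1 (by
      rw [map_conj_mul, hSu, ← map_conj_mul, inv_mul_cancel, map_conj_one])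
    obtain ⟨w, hw, hHw⟩ := h _ hn
    have hgu : H.map (MulAut.conj g).toMonoidHom =
        (H.map (MulAut.conj w).toMonoidHom).map (MulAut.conj u).toMonoidHom := by
      rw [← hHw, ← map_conj_mul, mul_inv_cancel_left]
    refine ⟨u * w, ?_, by rw [hgu, map_conj_mul]⟩
    have hu' : u ∈ H ⊔ H.map (MulAut.conj g).toMonoidHom :=
      sup_le_sup hSH (Subgroup.map_mono hSH) hu
    have h1 : u * w * u⁻¹ ∈ H.map (MulAut.conj u).toMonoidHom ⊔ H.map (MulAut.conj g).toMonoidHom := by
      have := Subgroup.mem_map_of_mem (MulAut.conj u).toMonoidHom hw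
      rwa [Subgroup.map_sup, ← map_conj_mul, mul_inv_cancel_left] at this
    have h2 : H.map (MulAut.conj u).toMonoidHom ≤ H ⊔ H.map (MulAut.conj g).toMonoidHom := by
      rintro _ ⟨k, hk, rfl⟩
      exact Subgroup.mul_mem _ (Subgroup.mul_mem _ hu' (Subgroup.mem_sup_left hk))
        (Subgroup.inv_mem _ hu')
    have := Subgroup.mul_mem _ (sup_le h2 le_sup_right h1) hu'
    rwa [inv_mul_cancel_right] at this

end Cfsg.Agent.S3820
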