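import Cfsg.Statements.S3821


set_option autoImplicit false
set_option linter.style.haveILetI false
open Cfsg

namespace Cfsg.Agent.S3821

theorem map_conj_mul {G : Type*} [Group G] (g h : G) (H : Subgroup G) :
    H.map (MulAut.conj (g * h)).toMonoidHom =
      (H.map (MulAut.conj h).toMonoidHom).map (MulAut.conj g).toMonoidHom := by
  rw [Subgroup.map_map]
  congr 1
  ext x
  simp [mul_assoc]

theorem map_conj_one {G : Type*} [Group G] (H : Subgroup G) :
    H.map (MulAut.conj (1 : G)).toMonoidHom = H := by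
  ext x
  simp

theorem map_conj_eq_self {G : Type*} [Group G] {g : G} {H : Subgroup G} :
    H.map (MulAut.conj g).toMonoidHom = H ↔ g ∈ Subgroup.normalizer (H : Set G) := by
  constructor
  · intro e
    refine Subgroup.mem_normalizer_iff.2 fun z => ?_
    have h1 : g * z * g⁻¹ ∈ H.map (MulAut.conj g).toMonoidHom ↔ z ∈ H :=
      Subgroup.mem_map_iff_mem (f := (MulAut.conj g).toMonoidHom) (MulAut.conj g).injective
    rw [e] at h1
    exact h1.symm
  · intro hg
    ext z
    constructor
    · rintro ⟨k, hk, rfl⟩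
      exact (Subgroup.mem_normalizer_iff.1 hg k).1 hk
    · intro hz
      refine ⟨g⁻¹ * z * g, ?_, by simp [mul_assoc]⟩
      simpa using (Subgroup.mem_normalizer_iff.1 (Subgroup.inv_mem _ hg) z).1 hz

/-- Let A be a normal subgroup of the finite group G and H a subgroup of A. Then H is pronormal in G (H and gHg⁻¹ conjugate inside ⟨H, gHg⁻¹⟩ for every g ∈ G) if and only if H is pronormal in A and G = A · N_G(H). -/
theorem result {G : Type*} [Group G] [Finite G] (A H : Subgroup G) [A.Normal] (hHA : H ≤ A) :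
    Cfsg.IsPronormal H ↔ (Cfsg.IsPronormal (H.subgroupOf A) ∧ A ⊔ Subgroup.normalizer (H : Set G) = ⊤) := by
  have hsub : ∀ a : A, ((H.subgroupOf A).map (MulAut.conj a).toMonoidHom).map A.subtype =
      H.map (MulAut.conj (a : G)).toMonoidHom := by
    intro a
    rw [Subgroup.map_map, show A.subtype.comp (MulAut.conj a).toMonoidHom =
      (MulAut.conj (a : G)).toMonoidHom.comp A.subtype from rfl, ← Subgroup.map_map,
      Subgroup.map_subgroupOf_eq_of_le hHA]
  have hsup : ∀ a : A, (H.subgroupOf A ⊔ (H.subgroupOf A).map (MulAut.conj a).toMonoidHom).map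
      A.subtype = H ⊔ H.map (MulAut.conj (a : G)).toMonoidHom := fun a => by
    rw [Subgroup.map_sup, hsub, Subgroup.map_subgroupOf_eq_of_le hHA]
  have hgA : ∀ g : G, H.map (MulAut.conj g).toMonoidHom ≤ A := by
    rintro g _ ⟨k, hk, rfl⟩
    exact ‹A.Normal›.conj_mem k (hHA hk) g
  constructor
  · intro h
    refine ⟨fun a => ?_, eq_top_iff.2 fun g _ => ?_⟩
    · obtain ⟨z, hz, he⟩ := h a
      rw [← hsup] at hz
      obtain ⟨b, hb, rfl⟩ := hz
      refine ⟨b, hb, Subgroup.map_injective A.subtype_injective ?_⟩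
      rw [hsub, hsub]
      exact he
    · obtain ⟨z, hz, he⟩ := h g
      have hzA : z ∈ A := sup_le hHA (hgA g) hz
      have hn : z⁻¹ * g ∈ Subgroup.normalizer (H : Set G) := map_conj_eq_self.1 (by
        rw [map_conj_mul, he, ← map_conj_mul, inv_mul_cancel, map_conj_one])
      have := Subgroup.mul_mem_sup hzA hn
      rwa [mul_inv_cancel_left] at this
  · rintro ⟨h, hF⟩ g
    have hg : g ∈ A ⊔ Subgroup.normalizer (H : Set G) := hF.symm ▸ Subgroup.mem_top g
    rw [Subgroup.mem_sup_of_normal_left] at hg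
    obtain ⟨a, ha, n, hn, rfl⟩ := hg
    obtain ⟨b, hb, he⟩ := h ⟨a, ha⟩
    have hb' := Subgroup.mem_map_of_mem A.subtype hb
    rw [hsup] at hb'
    have e1 : H.map (MulAut.conj (a * n)).toMonoidHom = H.map (MulAut.conj a).toMonoidHom := by
      rw [map_conj_mul, map_conj_eq_self.2 hn]
    rw [e1]
    refine ⟨b, hb', ?_⟩
    have := congrArg (Subgroup.map A.subtype) he
    rwa [hsub, hsub] at this

end Cfsg.Agent.S3821
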