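import Cfsg.Statements.S3824
import Cfsg.Agent.Lib.Char.Burnside
import Cfsg.Agent.Lib.PGroup.Basic
-- import your own Cfsg.Agent.* helpers here

set_option autoImplicit false
open Cfsg

namespace Cfsg.Agent.S3824

open Subgroup

universe u

private theorem aux : ∀ (G : Type u) [Group G] [Finite G] (A : Subgroup G),
    IsMulCommutative A → (∃ k : ℕ, A.index = 2 ^ k) → Group.IsSolvable G := by
  intro G _ _
  induction hn : Nat.card G using Nat.strong_induction_on generalizing G with
  | _ n ih =>
    subst hn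
    intro A hA ⟨k, hk⟩
    by_cases hN : ∃ N : Subgroup G, N.Normal ∧ N ≠ ⊥ ∧ N ≠ ⊤
    · obtain ⟨N, hNn, hNb, hNt⟩ := hN
      haveI := hA
      have h1 : Nat.card N < Nat.card G :=
        lt_of_le_of_ne (card_le_card_group N) fun h => hNt (eq_top_of_card_eq N h)
      have h2 : Nat.card (G ⧸ N) < Nat.card G := by
        rw [card_eq_card_quotient_mul_card_subgroup N]
        exact lt_mul_of_one_lt_right Nat.card_pos (N.one_lt_card_iff_ne_bot.2 hNb)
      have s1 : Group.IsSolvable N := by
        refine ih _ h1 N rfl (A.subgroupOf N) ?_ ?_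
        · refine ⟨⟨fun a b => Subtype.ext (Subtype.ext ?_)⟩⟩
          have h := congrArg Subtype.val (mul_comm' (⟨a.1.1, a.2⟩ : A) ⟨b.1.1, b.2⟩)
          exact h
        · have h := CfsgLib.PGroup.relIndex_dvd_index_normal_right A N
          obtain ⟨j, _, hj⟩ := (Nat.dvd_prime_pow Nat.prime_two).1 (hk ▸ h)
          exact ⟨j, hj⟩
      have s2 : Group.IsSolvable (G ⧸ N) := by
        refine ih _ h2 (G ⧸ N) rfl (A.map (QuotientGroup.mk' N)) (map_isMulCommutative _ _) ?_
        have h := index_map_dvd A (f := QuotientGroup.mk' N) (QuotientGroup.mk'_surjective N)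
        obtain ⟨j, _, hj⟩ := (Nat.dvd_prime_pow Nat.prime_two).1 (hk ▸ h)
        exact ⟨j, hj⟩
      exact Group.isSolvable_of_ker_le_range N.subtype (QuotientGroup.mk' N) (by simp)
    push Not at hN
    by_cases hA1 : A = ⊥
    · subst hA1
      rw [index_bot] at hk
      exact CfsgLib.Char.isSolvable_of_card_two_primes Nat.prime_two Nat.prime_three G k 0
        (by rw [hk]; simp)
    obtain ⟨⟨a, ha⟩, ha1⟩ := A.ne_bot_iff_exists_ne_one.1 hA1
    have hG : Nontrivial G := ⟨a, 1, fun h => ha1 (Subtype.ext h)⟩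
    haveI : IsSimpleGroup G := ⟨fun N hNn => or_iff_not_imp_left.2 (hN N hNn)⟩
    have hC : A ≤ centralizer ({a} : Set G) := fun x hx => mem_centralizer_singleton_iff.2
      (congrArg Subtype.val (mul_comm' (⟨x, hx⟩ : A) ⟨a, ha⟩))
    obtain ⟨j, _, hj⟩ := (Nat.dvd_prime_pow Nat.prime_two).1 (hk ▸ index_dvd_of_le hC)
    exact Group.isSolvable_of_comm (CfsgLib.Char.comm_of_class_prime_pow Nat.prime_two
      (fun h => ha1 (Subtype.ext h)) hj)

/-- Every finite group having an abelian subgroup whose index is a power of 2 is solvable. -/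
theorem result {G : Type*} [Group G] [Finite G]
    (A : Subgroup G) (hA : IsMulCommutative A) (hidx : ∃ k : ℕ, A.index = 2 ^ k) : Group.IsSolvable G := by
  exact aux G A hA hidx

end Cfsg.Agent.S3824
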