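import Cfsg.Statements.S3825
-- import your own Cfsg.Agent.* helpers here
import Mathlib.GroupTheory.FixedPointFree
import Mathlib.GroupTheory.Perm.Cycle.Type
import Mathlib.GroupTheory.Commutator.Basic

set_option autoImplicit false
open Cfsg

namespace Cfsg.Agent.S3825

/-- Let U be a subgroup of a finite group H and w an involution of H normalizing U and commuting with exactly two elements of U, the identity and y. If V is a non-cyclic elementary abelian 2-subgroup of U containing y which is normal in U and invariant under w, then V is a Sylow 2-subgroup of U, V has order 4, and U/V is abelian. -/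
theorem result {H : Type*} [Group H] [Finite H] (U : Subgroup H) (w : H) (hw : orderOf w = 2)
    (hwU : w ∈ Subgroup.normalizer (U : Set H)) (y : H) (hy : y ≠ 1) (hyU : y ∈ U)
    (hfix : ∀ u ∈ U, w * u * w⁻¹ = u ↔ (u = 1 ∨ u = y))
    (V : Subgroup H) (hVU : V ≤ U) (hVn : (V.subgroupOf U).Normal) (hVw : ∀ v ∈ V, w * v * w⁻¹ ∈ V)
    (hVe : Cfsg.IsElementaryAbelian 2 V) (hVc : ¬ IsCyclic ↥V) (hyV : y ∈ V) :
    ¬ 2 ∣ V.relIndex U ∧ Nat.card ↥V = 4 ∧ ⁅U, U⁆ ≤ V := by
  classical
  have hw2 : w * w = 1 := by rw [← pow_two, ← hw, pow_orderOf_eq_one]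
  have hwi : w⁻¹ = w := inv_eq_of_mul_eq_one_right hw2
  have hinv : ∀ u : H, w * (w * u * w⁻¹) * w⁻¹ = u := fun u => by
    rw [hwi]
    calc w * (w * u * w) * w = (w * w) * u * (w * w) := by group
      _ = u := by rw [hw2, one_mul, mul_one]
  have hmul : ∀ a b : H, w * (a * b) * w⁻¹ = (w * a * w⁻¹) * (w * b * w⁻¹) := fun a b => by group
  have hVc' : ∀ a ∈ V, ∀ b ∈ V, a * b = b * a := fun a ha b hb =>
    congrArg Subtype.val (isMulCommutative_iff.1 hVe.1 ⟨a, ha⟩ ⟨b, hb⟩)
  have hV2 : ∀ a ∈ V, a * a = 1 := fun a ha => (pow_two a).symm.trans (hVe.2 a ha)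
  have hVi : ∀ a ∈ V, a⁻¹ = a := fun a ha => inv_eq_of_mul_eq_one_right (hV2 a ha)
  -- the commutator map on `V`
  let T : V →* V := MonoidHom.mk' (fun a => ⟨a * (w * a * w⁻¹), mul_mem a.2 (hVw a a.2)⟩)
    fun a b => Subtype.ext (by
      simp only [Subgroup.coe_mul, hmul]
      calc (a : H) * b * ((w * a * w⁻¹) * (w * b * w⁻¹))
          = a * (b * (w * a * w⁻¹)) * (w * b * w⁻¹) := by group
        _ = a * ((w * a * w⁻¹) * b) * (w * b * w⁻¹) := by rw [hVc' b b.2 _ (hVw a a.2)]
        _ = _ := by group)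
  have hker : ∀ a : V, T a = 1 ↔ ((a : H) = 1 ∨ (a : H) = y) := fun a => by
    rw [← hfix a (hVU a.2), Subtype.ext_iff]
    show (a : H) * (w * a * w⁻¹) = 1 ↔ _
    rw [mul_eq_one_iff_inv_eq, hVi a a.2]
    exact eq_comm
  have hTT : ∀ a, T (T a) = 1 := fun a => Subtype.ext (by
    show (a : H) * (w * a * w⁻¹) * (w * ((a : H) * (w * a * w⁻¹)) * w⁻¹) = 1
    rw [hmul a, hinv, hVc' (w * a * w⁻¹) (hVw a a.2) a a.2, hV2 _ (mul_mem a.2 (hVw a a.2))])
  have hk2 : Nat.card T.ker ≤ 2 := by
    refine (Nat.card_le_card_of_injective (fun a : T.ker => decide (((a : V) : H) = 1)) fun a b h => ?_).trans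
      (by simp)
    have ha := (hker a).1 a.2
    have hb := (hker b).1 b.2
    refine Subtype.ext (Subtype.ext ?_)
    rcases ha with ha | ha <;> rcases hb with hb | hb <;> simp_all
  have hcard : Nat.card V ≤ 4 := by
    rw [← T.ker.card_mul_index, Subgroup.index_ker]
    have hr : Nat.card T.range ≤ Nat.card T.ker :=
      Subgroup.card_le_of_le (by rintro _ ⟨a, rfl⟩; exact hTT a)
    calc Nat.card T.ker * Nat.card T.range ≤ 2 * 2 := Nat.mul_le_mul hk2 (hr.trans hk2)
      _ = 4 := rfl
  have hV4 : Nat.card V = 4 := by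
    haveI : Fact (Nat.Prime 2) := ⟨Nat.prime_two⟩
    have hP : IsPGroup 2 V := fun a => ⟨1, Subtype.ext (by rw [pow_one]; exact hVe.2 a a.2)⟩
    obtain ⟨k, hk⟩ := hP.exists_card_eq
    rcases Nat.lt_or_ge k 2 with hk1 | hk1
    · exfalso
      refine hVc ?_
      rcases Nat.le_one_iff_eq_zero_or_eq_one.1 (Nat.le_of_lt_succ hk1) with rfl | rfl
      · exact (isCyclic_iff_exists_natCard_le_orderOf).2 ⟨1, by rw [hk, orderOf_one, pow_zero]⟩
      · exact isCyclic_of_prime_card (p := 2) (by rw [hk, pow_one])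
    · refine le_antisymm hcard ?_
      rw [hk]
      exact le_trans (by norm_num) (Nat.pow_le_pow_right (by norm_num : 0 < 2) hk1)
  -- `w` has no fixed coset
  haveI := hVn
  let N := V.subgroupOf U
  let α : U →* U := MonoidHom.mk' (fun u => ⟨w * u * w⁻¹, (Subgroup.mem_normalizer_iff.1 hwU u).1 u.2⟩)
    fun a b => Subtype.ext (hmul a b)
  let ᾱ : U ⧸ N →* U ⧸ N := QuotientGroup.map N N α fun u hu => hVw u hu
  have hfree : MonoidHom.FixedPointFree ᾱ := by
    intro c hc
    induction c using QuotientGroup.induction_on with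
    | _ u =>
      have h0 := QuotientGroup.eq.1 (hc.symm : (u : U ⧸ N) = (α u : U ⧸ N))
      have h1 : (u : H)⁻¹ * (w * u * w⁻¹) ∈ V := h0
      set v := (u : H)⁻¹ * (w * u * w⁻¹) with hv
      have hvfix : w * v * w⁻¹ = v := by
        have e : w * v * w⁻¹ = v⁻¹ := by
          rw [hv, hmul, hinv, mul_inv_rev, inv_inv]
          congr 1
          group
        rw [e, hVi v h1]
      rw [QuotientGroup.eq_one_iff]
      show (u : H) ∈ V
      rcases (hfix v (hVU h1)).1 hvfix with h | h
      · rcases (hfix u u.2).1 (inv_mul_eq_one.1 (hv ▸ h)).symm with e | e <;> rw [e]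
        · exact one_mem V
        · exact hyV
      · -- `y` is a commutator, so one can correct `u`
        obtain ⟨x, hx⟩ : ∃ x : V, (x : H) * (w * x * w⁻¹) = y := by
          by_contra hno
          push Not at hno
          have : T.range = ⊥ := eq_bot_iff.2 (by
            rintro _ ⟨a, rfl⟩
            rcases (hker _).1 (hTT a) with e | e
            · exact Subgroup.mem_bot.2 (Subtype.ext e)
            · exact absurd e (hno a))
          have h4 := T.ker.card_mul_index
          rw [Subgroup.index_ker, this, Subgroup.card_bot, hV4] at h4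
          omega
        have hcomm : (u : H) * x ∈ ({1, y} : Set H) := by
          refine (hfix _ (mul_mem u.2 (hVU x.2))).1 ?_
          have e1 : w * u * w⁻¹ = u * y := by rw [← h, hv, mul_inv_cancel_left]
          rw [hmul, e1, ← hx]
          calc (u : H) * (x * (w * x * w⁻¹)) * (w * x * w⁻¹)
              = u * x * ((w * x * w⁻¹) * (w * x * w⁻¹)) := by group
            _ = u * x := by rw [hV2 _ (hVw x x.2), mul_one]
        have hmem : (u : H) * x ∈ V := by
          rcases hcomm with e | e <;> rw [e]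
          · exact one_mem V
          · exact hyV
        have := mul_mem hmem (inv_mem x.2)
        rwa [mul_inv_cancel_right] at this
  have hinvol : Function.Involutive ᾱ := by
    intro c
    induction c using QuotientGroup.induction_on with
    | _ u => exact congrArg QuotientGroup.mk (Subtype.ext (hinv u))
  have hcomm := fun a b => (hfree.commute_all_of_involutive hinvol a b).eq
  have heq := hfree.coe_eq_inv_of_involutive hinvol
  refine ⟨?_, hV4, ?_⟩
  · intro h2
    haveI : Fact (Nat.Prime 2) := ⟨Nat.prime_two⟩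
    obtain ⟨c, hc⟩ := exists_prime_orderOf_dvd_card' (G := U ⧸ N) 2
      (by rw [← Subgroup.index_eq_card]; exact h2)
    have : ᾱ c = c := by
      rw [congrFun heq c, inv_eq_of_mul_eq_one_right]
      rw [← pow_two, ← hc, pow_orderOf_eq_one]
    rw [hfree c this, orderOf_one] at hc
    omega
  · rw [Subgroup.commutator_le]
    intro a ha b hb
    have := hcomm (QuotientGroup.mk ⟨a, ha⟩) (QuotientGroup.mk ⟨b, hb⟩)
    rw [← QuotientGroup.mk_mul, ← QuotientGroup.mk_mul] at this
    have h0 := QuotientGroup.eq.1 this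
    have h2 : ((a * b)⁻¹ * (b * a) : H) ∈ V := h0
    have h3 := Subgroup.Normal.conj_mem hVn ⟨_, hVU h2⟩ h2 (⟨b, hb⟩ * ⟨a, ha⟩ : U)
    have h4 : b * a * ((a * b)⁻¹ * (b * a)) * (b * a)⁻¹ ∈ V := h3
    have h5 := inv_mem h4
    open scoped commutatorElement in rw [commutatorElement_def]
    convert h5 using 1
    group

end Cfsg.Agent.S3825
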