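import Cfsg.Statements.S3835
-- import your own Cfsg.Agent.* helpers here
import Mathlib
import Cfsg.Agent.Lib.Qd.QdGroup

set_option autoImplicit false
open Cfsg

namespace Cfsg.Agent.S3835

open scoped commutatorElement

open CfsgLib.Qd Matrix in
theorem not_involves_small {p : ℕ} [Fact p.Prime] {n : ℕ} (hn : n < p ^ 2) :
    ¬ Cfsg.Involves ↥(Cfsg.qd p) ↥(alternatingGroup (Fin n)) := by
  classical
  rintro ⟨K, R, hR, ⟨e⟩⟩
  let f : K →* ↥(Cfsg.qd p) := e.toMonoidHom.comp (QuotientGroup.mk' _)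
  have hf : Function.Surjective f := e.surjective.comp (QuotientGroup.mk'_surjective _)
  let P : Sylow p K := Classical.arbitrary _
  let ι : K →* Equiv.Perm (Fin n) := (alternatingGroup (Fin n)).subtype.comp K.subtype
  have hι : Function.Injective ι := (Subgroup.subtype_injective _).comp (Subgroup.subtype_injective _)
  letI act : MulAction ↥(P : Subgroup K) (Fin n) := MulAction.compHom (Fin n) (ι.comp (P : Subgroup K).subtype)
  have hfix : ∀ (u v : ↥(P : Subgroup K)) (x : Fin n), ⁅u, v⁆ ∈ MulAction.stabilizer ↥(P : Subgroup K) x := by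
    intro u v x
    set St := MulAction.stabilizer ↥(P : Subgroup K) x with hSt
    obtain ⟨m, hm⟩ := IsPGroup.iff_card.1 P.isPGroup'
    obtain ⟨k, -, hk⟩ := (Nat.dvd_prime_pow Fact.out).1 (hm ▸ St.index_dvd_card)
    have hle : St.index ≤ n := by
      rw [hSt, MulAction.index_stabilizer]
      refine (Set.ncard_le_card _).trans (le_of_eq ?_)
      simp
    have hk1 : k < 2 := by
      by_contra h
      have := Nat.pow_le_pow_right (Fact.out : p.Prime).pos (show 2 ≤ k by omega)
      omega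
    interval_cases k
    · rw [(Subgroup.index_eq_one (H := St)).1 (by simpa using hk)]
      exact Subgroup.mem_top _
    · rw [pow_one] at hk
      have hnormal : St.Normal := by
        refine Subgroup.normal_of_index_eq_minFac_card ?_
        rw [hk, hm]
        have hm0 : m ≠ 0 := by
          rintro rfl
          have hd := hm ▸ St.index_dvd_card
          rw [hk, pow_zero, Nat.dvd_one] at hd
          exact (Fact.out : p.Prime).ne_one hd
        rw [Nat.pow_minFac hm0, (Fact.out : p.Prime).minFac_eq]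
      haveI := hnormal
      haveI : IsCyclic (↥(P : Subgroup K) ⧸ St) := isCyclic_of_prime_card (p := p) hk
      letI := IsCyclic.commGroup (α := ↥(P : Subgroup K) ⧸ St)
      rw [← QuotientGroup.eq_one_iff, ← QuotientGroup.mk'_apply, map_commutatorElement,
        commutatorElement_eq_one_iff_mul_comm]
      exact mul_comm _ _
  have hcP : ∀ a ∈ (P : Subgroup K), ∀ b ∈ (P : Subgroup K), a * b = b * a := by
    intro a ha b hb
    refine commutatorElement_eq_one_iff_mul_comm.1 (hι ?_)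
    rw [map_one]
    refine Equiv.ext fun x => ?_
    have h := hfix ⟨a, ha⟩ ⟨b, hb⟩ x
    exact h
  let U : Subgroup ↥(Cfsg.qd p) :=
    { carrier := {z | ∃ a w, (z : Matrix.SpecialLinearGroup (Fin 3) (ZMod p)) = affine (up a) w}
      one_mem' := ⟨0, 0, by rw [up_zero, affine_one]; rfl⟩
      mul_mem' := by
        rintro z z' ⟨a, w, hz⟩ ⟨b, v, hz'⟩
        exact ⟨a + b, w + (up a).1 *ᵥ v, by rw [Subgroup.coe_mul, hz, hz', affine_mul, up_mul]⟩
      inv_mem' := by
        rintro z ⟨a, w, hz⟩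
        refine ⟨-a, -((up (-a)).1 *ᵥ w), ?_⟩
        rw [Subgroup.coe_inv, hz]
        refine inv_eq_of_mul_eq_one_right ?_
        rw [affine_mul, up_mul, add_neg_cancel, Matrix.mulVec_neg, Matrix.mulVec_mulVec,
          ← Matrix.SpecialLinearGroup.coe_mul, up_mul, add_neg_cancel, up_zero,
          Matrix.SpecialLinearGroup.coe_one, Matrix.one_mulVec, add_neg_cancel, affine_one] }
  have hU : IsPGroup p U := by
    refine IsPGroup.of_card (n := 3) ?_
    let g : ZMod p × (Fin 2 → ZMod p) → U := fun q =>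
      ⟨⟨affine (up q.1) q.2, (mem_qd_iff _).2 ⟨_, _, rfl⟩⟩, q.1, q.2, rfl⟩
    have hg : Function.Bijective g := by
      refine ⟨fun q q' hq => ?_, ?_⟩
      · obtain ⟨e1, e2⟩ := affine_inj (congrArg (fun z : U => z.1.1) hq)
        exact Prod.ext (up_injective e1) e2
      · rintro ⟨z, a, w, hz⟩
        exact ⟨(a, w), Subtype.ext (Subtype.ext hz.symm)⟩
    rw [← Nat.card_congr (Equiv.ofBijective g hg)]
    simp [Nat.card_pi, pow_succ, mul_assoc]
  obtain ⟨T, hT⟩ := hU.exists_le_sylow
  let es := T.equiv (P.mapSurjective hf)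
  let x : U := ⟨⟨affine (up 1) 0, (mem_qd_iff _).2 ⟨_, _, rfl⟩⟩, 1, 0, rfl⟩
  let y : U := ⟨⟨affine (up 0) ![0, 1], (mem_qd_iff _).2 ⟨_, _, rfl⟩⟩, 0, ![0, 1], rfl⟩
  obtain ⟨a, ha, hax⟩ := (es ⟨x.1, hT x.2⟩).2
  obtain ⟨b, hb, hby⟩ := (es ⟨y.1, hT y.2⟩).2
  have hxy := congrArg f (hcP a ha b hb)
  rw [map_mul, map_mul, hax, hby, ← Subgroup.coe_mul, ← Subgroup.coe_mul, ← map_mul, ← map_mul] at hxy
  have h3 : affine (up 1) 0 * affine (up 0) ![0, 1] = affine (up (0 : ZMod p)) ![0, 1] * affine (up 1) 0 :=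
    congrArg (fun z : T => z.1.1) (es.injective (Subtype.ext hxy))
  rw [affine_mul, affine_mul] at h3
  simpa [dotProduct, Matrix.mulVec] using congrFun (affine_inj h3).2 0

open CfsgLib.Qd Matrix in
theorem embed {p : ℕ} [Fact p.Prime] (hp : p ≠ 2) {n : ℕ} (hn : p ^ 2 ≤ n) :
    ∃ H : Subgroup (alternatingGroup (Fin n)), Nonempty (↥H ≃* ↥(Cfsg.qd p)) := by
  classical
  let act : Matrix.SpecialLinearGroup (Fin 3) (ZMod p) → (Fin 2 → ZMod p) → (Fin 2 → ZMod p) := fun M v =>
    fun i => M.1 i.castSucc 0 * v 0 + M.1 i.castSucc 1 * v 1 + M.1 i.castSucc 2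
  have hact : ∀ A w v, act (affine A w) v = A.1 *ᵥ v + w := fun A w v => by
    funext i
    fin_cases i <;> simp [act, affine_coe, Matrix.mulVec, dotProduct, Fin.sum_univ_two]
  have hmul : ∀ z z' : ↥(Cfsg.qd p), ∀ v, act (z * z').1 v = act z.1 (act z'.1 v) := fun z z' v => by
    obtain ⟨A, w, hz⟩ := (mem_qd_iff _).1 z.2
    obtain ⟨B, u, hz'⟩ := (mem_qd_iff _).1 z'.2
    rw [Subgroup.coe_mul, hz, hz', affine_mul, hact, hact, hact, Matrix.SpecialLinearGroup.coe_mul,
      ← Matrix.mulVec_mulVec, Matrix.mulVec_add]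
    abel
  have hone : ∀ v, act (1 : ↥(Cfsg.qd p)).1 v = v := fun v => by
    rw [Subgroup.coe_one, ← affine_one, hact, Matrix.SpecialLinearGroup.coe_one, Matrix.one_mulVec, add_zero]
  let φ : ↥(Cfsg.qd p) →* Equiv.Perm (Fin 2 → ZMod p) := MonoidHom.mk'
    (fun z => ⟨act z.1, act (z⁻¹).1, fun v => by rw [← hmul, inv_mul_cancel, hone],
      fun v => by rw [← hmul, mul_inv_cancel, hone]⟩)
    (fun z z' => Equiv.ext fun v => hmul z z' v)
  have hinj : Function.Injective φ := by
    intro z z' h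
    obtain ⟨A, w, hz⟩ := (mem_qd_iff _).1 z.2
    obtain ⟨B, u, hz'⟩ := (mem_qd_iff _).1 z'.2
    have h1 : ∀ v, A.1 *ᵥ v + w = B.1 *ᵥ v + u := fun v => by
      rw [← hact, ← hact, ← hz, ← hz']
      exact congrArg (fun π : Equiv.Perm (Fin 2 → ZMod p) => π v) h
    have hw : w = u := by simpa using h1 0
    have hA : A = B := Subtype.ext (Matrix.ext_of_mulVec_single fun j => by
      simpa [hw] using h1 (Pi.single j 1))
    exact Subtype.ext (by rw [hz, hz', hw, hA])
  have hcard : Fintype.card (Fin 2 → ZMod p) ≤ Fintype.card (Fin n) := by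
    simpa using hn
  obtain ⟨j⟩ := Function.Embedding.nonempty_of_card_le hcard
  let ψ : ↥(Cfsg.qd p) →* Equiv.Perm (Fin n) := (Equiv.Perm.viaEmbeddingHom j).comp φ
  have hψ : Function.Injective ψ := (Equiv.Perm.viaEmbeddingHom_injective j).comp hinj
  let s : ↥(Cfsg.qd p) →* ℤˣ := Equiv.Perm.sign.comp ψ
  have hodd : ∀ z : ↥(Cfsg.qd p), z ^ p = 1 → s z = 1 := fun z hz => by
    have h1 : s z ^ p = 1 := by rw [← map_pow, hz, map_one]
    rcases Int.units_eq_one_or (s z) with h | h
    · exact h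
    · rw [h, ((Fact.out : p.Prime).odd_of_ne_two hp).neg_one_pow] at h1
      exact absurd h1 (by decide)
  let lin : Matrix.SpecialLinearGroup (Fin 2) (ZMod p) →* ↥(Cfsg.qd p) := MonoidHom.mk'
    (fun A => ⟨affine A 0, (mem_qd_iff _).2 ⟨_, _, rfl⟩⟩)
    (fun A B => Subtype.ext (by rw [Subgroup.coe_mul, affine_mul, Matrix.mulVec_zero, add_zero]))
  have hlin : ∀ A, s (lin A) = 1 := by
    intro A
    have : (⊤ : Subgroup (Matrix.SpecialLinearGroup (Fin 2) (ZMod p))) ≤ (s.comp lin).ker := by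
      rw [← closure_up_lo (lam := (1 : ZMod p)) one_ne_zero, Subgroup.closure_le]
      rintro x (rfl | rfl)
      · refine hodd _ ?_
        rw [← map_pow, up_pow, ZMod.natCast_self, zero_mul, up_zero, map_one]
      · refine hodd _ ?_
        rw [← map_pow, lo_pow, ZMod.natCast_self, zero_mul, lo_zero, map_one]
    exact this (Subgroup.mem_top A)
  have heven : ∀ z, ψ z ∈ alternatingGroup (Fin n) := by
    intro z
    obtain ⟨A, w, hz⟩ := (mem_qd_iff _).1 z.2
    let t : ↥(Cfsg.qd p) := ⟨affine 1 w, (mem_qd_iff _).2 ⟨_, _, rfl⟩⟩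
    have hzt : z = t * lin A := Subtype.ext (by
      show z.1 = affine 1 w * affine A 0
      rw [affine_mul, hz, one_mul, Matrix.SpecialLinearGroup.coe_one, Matrix.one_mulVec, add_zero])
    have hpow : ∀ k : ℕ, affine (1 : Matrix.SpecialLinearGroup (Fin 2) (ZMod p)) w ^ k = affine 1 (k • w) := by
      intro k
      induction k with
      | zero => rw [pow_zero, zero_smul, affine_one]
      | succ k hk => rw [pow_succ, hk, affine_mul, one_mul, Matrix.SpecialLinearGroup.coe_one,
          Matrix.one_mulVec, succ_nsmul]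
    rw [Equiv.Perm.mem_alternatingGroup]
    show s z = 1
    rw [hzt, map_mul, hlin, mul_one]
    refine hodd _ (Subtype.ext ?_)
    rw [Subgroup.coe_pow, Subgroup.coe_one]
    show affine 1 w ^ p = 1
    rw [hpow, show p • w = 0 from funext fun i => by simp, affine_one]
  let χ : ↥(Cfsg.qd p) →* ↥(alternatingGroup (Fin n)) := ψ.codRestrict _ heven
  have hχ : Function.Injective χ := fun a b h => hψ (congrArg Subtype.val h)
  exact ⟨χ.range, ⟨(MonoidHom.ofInjective hχ).symm⟩⟩


/-- Let p be an odd prime and n a natural number. The alternating group of degree n has a subgroup isomorphic to Qd(p) (the natural semidirect product of an elementary abelian group of order p² by SL₂(p)) if and only if n ≥ p²; and if n < p² then Qd(p) is not even involved in it. -/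
theorem result {p : ℕ} [Fact p.Prime] (hp : p ≠ 2) (n : ℕ) : ((∃ H : Subgroup (alternatingGroup (Fin n)), Nonempty (↥H ≃* ↥(Cfsg.qd p))) ↔ p ^ 2 ≤ n) ∧ (n < p ^ 2 → ¬ Cfsg.Involves ↥(Cfsg.qd p) ↥(alternatingGroup (Fin n))) := by
  refine ⟨⟨fun ⟨H, ⟨e⟩⟩ => ?_, embed hp⟩, not_involves_small⟩
  by_contra hn
  refine not_involves_small (p := p) (Nat.lt_of_not_le hn) ⟨H, ⊥, inferInstance, ⟨?_⟩⟩
  exact ((QuotientGroup.quotientMulEquivOfEq (Subgroup.bot_subgroupOf H)).trans QuotientGroup.quotientBot).trans e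


end Cfsg.Agent.S3835
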