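import Cfsg.Statements.S3836
import Cfsg.Agent.Lib.Coprime.Core

set_option autoImplicit false
set_option linter.style.haveILetI false
open Cfsg

namespace Cfsg.Agent.S3836

/-- Let G be a finite group that is p-stable in the normalizer form: for every p-subgroup Q and every x ∈ N_G(Q) with [Q, x, x] = 1, the image of x in N_G(Q)/C_G(Q) lies in O_p(N_G(Q)/C_G(Q)). Then every subgroup of G is p-stable in the same sense. -/
theorem result {G : Type*} [Group G] [Finite G] {p : ℕ} [Fact p.Prime] (hst : Cfsg.IsNormalizerPStable p G) (H : Subgroup G) : Cfsg.IsNormalizerPStable p ↥H := by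
  intro P hP g hg hcom
  set P' : Subgroup G := P.map H.subtype with hP'
  have hnorm : ∀ x : H, x ∈ Subgroup.normalizer (P : Set H) →
      (x : G) ∈ Subgroup.normalizer (P' : Set G) := fun x hx =>
    Subgroup.le_normalizer_map H.subtype ⟨x, hx, rfl⟩
  have hcen : ∀ x : H, x ∈ Subgroup.centralizer (P : Set H) ↔
      (x : G) ∈ Subgroup.centralizer (P' : Set G) := by
    intro x
    constructor
    · intro hx
      refine Subgroup.mem_centralizer_iff.2 ?_
      rintro _ ⟨y, hy, rfl⟩
      exact congrArg Subtype.val (Subgroup.mem_centralizer_iff.1 hx y hy)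
    · intro hx
      refine Subgroup.mem_centralizer_iff.2 fun y hy => Subtype.ext ?_
      exact Subgroup.mem_centralizer_iff.1 hx _ ⟨y, hy, rfl⟩
  have hcom' : ⁅⁅P', Subgroup.zpowers (g : G)⁆, Subgroup.zpowers (g : G)⁆ = ⊥ := by
    have := congrArg (Subgroup.map H.subtype) hcom
    rwa [Subgroup.map_commutator, Subgroup.map_commutator, MonoidHom.map_zpowers, Subgroup.map_bot]
      at this
  have hst' := hst P' (hP.map H.subtype) (g : G) (hnorm g hg) hcom'
  let N := Subgroup.normalizer (P : Set H)
  let N' := Subgroup.normalizer (P' : Set G)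
  let ι : N →* N' := (H.subtype.comp N.subtype).codRestrict N' fun x => hnorm x x.2
  let φ : N ⧸ (Subgroup.centralizer (P : Set H)).subgroupOf N →*
      N' ⧸ (Subgroup.centralizer (P' : Set G)).subgroupOf N' :=
    QuotientGroup.map _ _ ι fun x hx => (hcen x).1 hx
  have hinj : Function.Injective φ := by
    refine (injective_iff_map_eq_one φ).2 fun q hq => ?_
    obtain ⟨x, rfl⟩ := QuotientGroup.mk'_surjective _ q
    exact (QuotientGroup.eq_one_iff x).2 ((hcen x).2 ((QuotientGroup.eq_one_iff (ι x)).1 hq))
  haveI := CfsgLib.Coprime.pCore_normal'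
    (G := N' ⧸ (Subgroup.centralizer (P' : Set G)).subgroupOf N') p
  haveI := Subgroup.Normal.comap ‹_› φ
  exact CfsgLib.Coprime.le_pCore
    ((CfsgLib.Coprime.pCore_isPGroup p).comap_of_injective φ hinj) (show _ ∈ (Cfsg.pCore p _).comap φ from hst')

end Cfsg.Agent.S3836
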