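import Cfsg.Statements.S3838
-- import your own Cfsg.Agent.* helpers here
import Cfsg.Agent.Lib.Fusion.Tate
import Cfsg.Agent.Lib.Fusion.Abelian
import Cfsg.Agent.Lib.Fusion.PComplement
set_option autoImplicit false
open Cfsg

namespace Cfsg.Agent.S3838

open Subgroup
open scoped commutatorElement

/-- A `p`-nilpotent group modulo a normal subgroup meeting the Sylow subgroup in the Frattini subgroup. -/
theorem lift_complement {H : Type*} [Group H] [Finite H] {p : ℕ} [Fact p.Prime] (R : Sylow p H)
    (M : Subgroup H) [M.Normal] (hM : M ≤ (frattini (R : Subgroup H)).map (R : Subgroup H).subtype)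
    (h : Cfsg.HasNormalPComplement p (H ⧸ M)) : Cfsg.HasNormalPComplement p H := by
  set π := QuotientGroup.mk' M
  have hπ : Function.Surjective π := QuotientGroup.mk'_surjective M
  haveI := CfsgLib.Fusion.pResidual_normal (G := H ⧸ M) (p := p)
  set L := (Cfsg.pResidual p (H ⧸ M)).comap π
  have hMR : M ≤ (R : Subgroup H) := hM.trans (map_subtype_le _)
  have hc := (CfsgLib.Fusion.hasNormalPComplement_iff_forall_sylow.1 h) (R.mapSurjective hπ)
  have hLR : L ⊓ (R : Subgroup H) ≤ M := by
    rintro x ⟨hxL, hxR⟩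
    refine (QuotientGroup.eq_one_iff x).1 ?_
    exact mem_bot.1 (hc.disjoint.eq_bot ▸ ⟨hxL, mem_map_of_mem π hxR⟩)
  have hL := CfsgLib.Fusion.hasNormalPComplement_of_inf_le_frattini R L (hLR.trans hM)
  rw [CfsgLib.Fusion.hasNormalPComplement_iff_not_dvd] at hL ⊢
  have hle : Cfsg.pResidual p H ≤ (Cfsg.pResidual p L).map L.subtype := by
    refine (closure_le _).2 fun g hg => ?_
    have hgL : g ∈ L := by
      show π g ∈ Cfsg.pResidual p (H ⧸ M)
      exact subset_closure (Nat.Coprime.coprime_dvd_left (orderOf_map_dvd π g) hg)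
    refine ⟨⟨g, hgL⟩, subset_closure ?_, rfl⟩
    rw [Set.mem_setOf_eq, ← orderOf_coe]
    exact hg
  intro hd
  refine hL (hd.trans ((card_dvd_of_le hle).trans (dvd_of_eq ?_)))
  exact card_map_of_injective L.subtype_injective

/-- A Sylow subgroup abelian modulo `M`, with `p`-nilpotent normalizer. -/
theorem quotient_complement {H : Type*} [Group H] [Finite H] {p : ℕ} [Fact p.Prime] (R : Sylow p H)
    (M : Subgroup H) [M.Normal] (hMR : M ≤ (R : Subgroup H))
    (hab : ⁅(R : Subgroup H), (R : Subgroup H)⁆ ≤ M)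
    (hN : Cfsg.HasNormalPComplement p (normalizer ((R : Subgroup H) : Set H))) :
    Cfsg.HasNormalPComplement p (H ⧸ M) := by
  set π := QuotientGroup.mk' M
  have hπ : Function.Surjective π := QuotientGroup.mk'_surjective M
  refine CfsgLib.Fusion.hasNormalPComplement_of_normalizer_le_centralizer (R.mapSurjective hπ) ?_
  intro q hq
  obtain ⟨x, rfl⟩ := hπ q
  set N := normalizer ((R : Subgroup H) : Set H)
  have hxN : x ∈ N := by
    rw [show N = (normalizer (((R : Subgroup H).map π : Subgroup (H ⧸ M)) : Set (H ⧸ M))).comap π by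
      rw [comap_normalizer_eq_of_surjective _ hπ, comap_map_eq, QuotientGroup.ker_mk',
        sup_eq_left.2 hMR]]
    exact hq
  -- write `x` as `k * u`
  let RN : Sylow p N := R.subtype le_normalizer
  have hcN := (CfsgLib.Fusion.hasNormalPComplement_iff_forall_sylow.1 hN) RN
  haveI := CfsgLib.Fusion.pResidual_normal (G := N) (p := p)
  haveI : (RN : Subgroup N).Normal := normal_in_normalizer
  obtain ⟨k, hk, u, hu, hku⟩ := mem_sup_of_normal_left.1
    (hcN.sup_eq_top.symm ▸ mem_top (⟨x, hxN⟩ : N))
  have hu' : (u : H) ∈ (R : Subgroup H) := hu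
  refine mem_centralizer_iff.2 ?_
  rintro _ ⟨v, hv, rfl⟩
  have hkv : (k : H) * v = v * k := by
    have h1 := commute_of_normal_of_disjoint _ _ inferInstance inferInstance hcN.disjoint k
      (⟨v, le_normalizer hv⟩ : N) hk hv
    exact congrArg Subtype.val h1
  have hx : x = (k : H) * u := (congrArg Subtype.val hku).symm
  have huv : π u * π v = π v * π u := by
    rw [← map_mul, ← map_mul]
    refine QuotientGroup.eq.2 ?_
    rw [show (↑u * v)⁻¹ * (v * ↑u) = ⁅v⁻¹, (u : H)⁻¹⁆ by rw [commutatorElement_def]; group]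
    exact hab (commutator_mem_commutator (inv_mem hv) (inv_mem hu'))
  rw [hx, map_mul, mul_assoc, huv, ← mul_assoc, ← mul_assoc]
  congr 1
  rw [← map_mul, ← map_mul, hkv]

/-- Let G be a finite group with Sylow p-subgroup P such that N_G(P) has a normal p-complement. Then N_G(Q) has a normal p-complement for every subgroup Q with [P, P] ≤ Q ≤ Φ(P). -/
theorem result {G : Type*} [Group G] [Finite G] {p : ℕ} [Fact p.Prime] (P : Sylow p G) (hN : Cfsg.HasNormalPComplement p ↥(Subgroup.normalizer ((P : Subgroup G) : Set G))) (Q : Subgroup G) (h1 : (commutator ↥(P : Subgroup G)).map (P : Subgroup G).subtype ≤ Q) (h2 : Q ≤ (frattini ↥(P : Subgroup G)).map (P : Subgroup G).subtype) : Cfsg.HasNormalPComplement p ↥(Subgroup.normalizer (Q : Set G)) := by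
  set P' := (P : Subgroup G)
  have hQP : Q ≤ P' := h2.trans (map_subtype_le _)
  have hcomm : ⁅P', P'⁆ ≤ Q := by
    rwa [← map_subtype_commutator]
  have hPN : P' ≤ normalizer (Q : Set G) := by
    intro x hx
    refine mem_normalizer_iff.2 fun y => ?_
    have key : ∀ z ∈ P', ∀ y ∈ Q, z * y * z⁻¹ ∈ Q := fun z hz y hy => by
      rw [show z * y * z⁻¹ = ⁅z, y⁆ * y by rw [commutatorElement_def]; group]
      exact Q.mul_mem (hcomm (commutator_mem_commutator hz (hQP hy))) hy
    refine ⟨key x hx y, fun hy => ?_⟩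
    have h3 := key x⁻¹ (inv_mem hx) _ hy
    rwa [show x⁻¹ * (x * y * x⁻¹) * x⁻¹⁻¹ = y by group] at h3
  set H := normalizer (Q : Set G)
  let R : Sylow p H := P.subtype hPN
  have hQH : Q ≤ H := le_normalizer
  haveI : (Q.subgroupOf H).Normal := normal_in_normalizer
  have hRmap : (R : Subgroup H).map H.subtype = P' := map_subgroupOf_eq_of_le hPN
  refine lift_complement R (Q.subgroupOf H) ?_ ?_
  · -- the Frattini subgroups agree
    rintro ⟨y, hyH⟩ hy
    obtain ⟨z, hz, hzy⟩ := h2 (show y ∈ Q from hy)
    let e : (P : Subgroup G) ≃* (R : Subgroup H) := (subgroupOfEquivOfLe hPN).symm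
    refine ⟨e z, ?_, Subtype.ext hzy⟩
    exact frattini_le_comap_frattini_of_surjective (φ := e.toMonoidHom) e.surjective hz
  · refine quotient_complement R (Q.subgroupOf H) (fun y hy => hQP hy) ?_ ?_
    · refine commutator_le.2 fun a ha b hb => ?_
      exact hcomm (commutator_mem_commutator ha hb)
    · have hle : (normalizer ((R : Subgroup H) : Set H)).map H.subtype ≤ normalizer (P' : Set G) := by
        refine (le_normalizer_map _).trans ?_
        rw [hRmap]
      exact CfsgLib.Fusion.hasNormalPComplement_of_injective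
        ((inclusion hle).comp ((normalizer ((R : Subgroup H) : Set H)).equivMapOfInjective _
          H.subtype_injective).toMonoidHom)
        ((inclusion_injective hle).comp (MulEquiv.injective _)) hN

end Cfsg.Agent.S3838
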