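import Cfsg.Statements.S3839
-- import your own Cfsg.Agent.* helpers here
import Cfsg.Agent.Lib.Fusion.PComplement
import Cfsg.Agent.Lib.Fusion.Sylow
import Cfsg.Agent.Lib.Coprime.Action
import Cfsg.Agent.Lib.Coprime.Solvable

set_option autoImplicit false
open Cfsg

namespace Cfsg.Agent.S3839


open Subgroup
open CfsgLib.Fusion (conjBy mem_conjBy conjBy_le_iff conjBy_eq_iff conjBy_eq_of_le conj_mem_conjBy
  conjBy_mono conjBy_normalizer exists_conj_fully_normalized)

universe u

variable {p : ℕ} [Fact p.Prime]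

/-- Elements of order prime to `p` in a `p`-nilpotent group commute with its normal `p`-subgroups. -/
private theorem coprime_commute {N : Type u} [Group N] [Finite N]
    (h : Cfsg.HasNormalPComplement p N) (U : Subgroup N) [U.Normal] (hU : IsPGroup p U)
    {g x : N} (hg : g ∈ Cfsg.pResidual p N) (hx : x ∈ U) : g * x * g⁻¹ = x := by
  haveI := CfsgLib.Fusion.pResidual_normal (G := N) (p := p)
  have hK := CfsgLib.Fusion.hasNormalPComplement_iff_coprime.1 h
  have hdis : Disjoint (Cfsg.pResidual p N) U := by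
    rw [Subgroup.disjoint_def]
    intro y hy hy'
    obtain ⟨k, hk⟩ := hU ⟨y, hy'⟩
    exact orderOf_eq_one_iff.1 (Nat.eq_one_of_dvd_coprimes
      (Nat.Coprime.pow_right k (hK y hy)) dvd_rfl
      (orderOf_dvd_of_pow_eq_one (congrArg Subtype.val hk)))
  exact mul_inv_eq_iff_eq_mul.2
    (Subgroup.commute_of_normal_of_disjoint _ _ inferInstance inferInstance hdis g x hg hx).eq

/-- Elements normalizing a subgroup with `p`-nilpotent normalizer act on it as a `p`-group. -/
private theorem commute_of_nilpotent_normalizer {G : Type u} [Group G] [Finite G] {W : Subgroup G}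
    (hW : IsPGroup p W) (h : Cfsg.HasNormalPComplement p (normalizer (W : Set G))) {g : G}
    (hg : g ∈ normalizer (W : Set G)) : ∃ k : ℕ, ∀ x ∈ W, g ^ p ^ k * x * (g ^ p ^ k)⁻¹ = x := by
  haveI : (W.subgroupOf (normalizer (W : Set G))).Normal := normal_in_normalizer
  obtain ⟨k, hk⟩ := CfsgLib.Fusion.exists_pow_p_mem_pResidual (p := p)
    (⟨g, hg⟩ : normalizer (W : Set G))
  refine ⟨k, fun x hx => ?_⟩
  have := coprime_commute h (W.subgroupOf (normalizer (W : Set G)))
    (hW.of_equiv (subgroupOfEquivOfLe le_normalizer).symm) hk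
    (x := ⟨x, le_normalizer hx⟩) hx
  exact congrArg Subtype.val this

private theorem coprime_pow_eq {G : Type u} [Group G] [Finite G] {g : G}
    (hg : Nat.Coprime (orderOf g) p) (k : ℕ) : ∃ r : ℕ, (g ^ p ^ k) ^ r = g :=
  exists_pow_eq_self_of_coprime (hg.pow_right k).symm

/-- `N(U) p`-nilpotent is invariant under conjugation. -/
private theorem nilpotent_normalizer_conj {G : Type u} [Group G] [Finite G] {U : Subgroup G} (b : G)
    (h : Cfsg.HasNormalPComplement p (normalizer (conjBy b U : Set G))) :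
    Cfsg.HasNormalPComplement p (normalizer (U : Set G)) := by
  refine CfsgLib.Fusion.hasNormalPComplement_of_injective
    (((MulAut.conj b).toMonoidHom.comp (normalizer (U : Set G)).subtype).codRestrict
      (normalizer (conjBy b U : Set G)) fun x => ?_) (fun x y hxy => ?_) h
  · rw [← conjBy_normalizer]; exact conj_mem_conjBy x.2
  · exact Subtype.ext ((MulAut.conj b).injective (congrArg Subtype.val hxy))

private theorem main : ∀ (n : ℕ) (G : Type u) [Group G] [Finite G], Nat.card G = n →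
    ∀ (S : Sylow p G) (D : Subgroup G), Cfsg.IsStronglyClosed D (S : Subgroup G) →
      (∀ U : Subgroup G, U ≤ D → D ⊓ centralizer (U : Set G) ≤ U →
        Cfsg.HasNormalPComplement p (normalizer (U : Set G))) →
      Cfsg.HasNormalPComplement p G := by
  intro n
  induction n using Nat.strong_induction_on with
  | _ n ih =>
  intro G _ _ hn S D hD hU
  classical
  have hDS : D ≤ (S : Subgroup G) := hD.1
  by_cases hD1 : D = ⊥
  · have h := hU ⊥ bot_le (by rw [hD1]; exact inf_le_left)
    rw [normalizer_eq_top] at h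
    exact (CfsgLib.Fusion.hasNormalPComplement_congr topEquiv).1 h
  by_contra hG
  have hSD : (S : Subgroup G) ≤ normalizer (D : Set G) := fun s hs =>
    conjBy_eq_iff.1 (conjBy_eq_of_le (conjBy_le_iff.2 fun x hx =>
      hD.2 x hx s ((S : Subgroup G).mul_mem ((S : Subgroup G).mul_mem hs (hDS hx))
        ((S : Subgroup G).inv_mem hs))))
  have hsmall : ∀ H : Subgroup G, H ≠ ⊤ → Nat.card H < n := fun H hH =>
    hn ▸ lt_of_le_of_ne H.card_le_card_group fun h => hH (eq_top_of_card_eq H h)
  -- all normalizers of nontrivial subgroups of `D` are `p`-nilpotent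
  have hA : ∀ U : Subgroup G, U ≤ D → U ≠ ⊥ →
      Cfsg.HasNormalPComplement p (normalizer (U : Set G)) := by
    intro U₀ hU₀ hne₀
    obtain ⟨b, hb, -, hbi⟩ := exists_conj_fully_normalized S (hU₀.trans hDS)
    refine nilpotent_normalizer_conj b ?_
    set U := conjBy b U₀ with hUdef
    have hUD : U ≤ D := conjBy_le_iff.2 fun x hx => hD.2 x (hU₀ hx) b (hb (conj_mem_conjBy hx))
    have hUne : U ≠ ⊥ := fun h => hne₀ ((map_eq_bot_iff_of_injective _
      (MulAut.conj b).injective).1 h)
    have hUp : IsPGroup p U := S.2.to_le (hUD.trans hDS)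
    set H := normalizer (U : Set G) with hH
    by_cases hHtop : H = ⊤
    swap
    · -- induction in `N(U)`
      let SH : Sylow p H := ((S.2.to_le (inf_le_left (b := H))).of_equiv
        (subgroupOfEquivOfLe inf_le_right).symm).toSylow hbi
      refine ih _ (hsmall H hHtop) H rfl SH ((D ⊓ H).subgroupOf H) ⟨?_, ?_⟩ ?_
      · exact comap_mono (inf_le_inf_right H hDS)
      · intro x hx g hg
        exact ⟨hD.2 _ hx.1 (g : G) hg.1, (g * x * g⁻¹).2⟩
      · intro V hV hVc
        set V' := V.map H.subtype with hV'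
        have hV'D : V' ≤ D ⊓ H := (map_mono hV).trans (map_comap_le _ _)
        have hcen : D ⊓ centralizer ((U ⊔ V' : Subgroup G) : Set G) ≤ U ⊔ V' := by
          rintro d ⟨hd, hdc⟩
          have hdH : d ∈ H := centralizer_le_normalizer _
            (centralizer_le (le_sup_left : U ≤ U ⊔ V') hdc)
          have hdV : (⟨d, hdH⟩ : H) ∈ (D ⊓ H).subgroupOf H ⊓ centralizer (V : Set H) :=
            ⟨⟨hd, hdH⟩, mem_centralizer_iff.2 fun v hv => Subtype.ext
              (mem_centralizer_iff.1 hdc (v : G) (mem_sup_right ⟨v, hv, rfl⟩))⟩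
          exact mem_sup_right ⟨_, hVc hdV, rfl⟩
        have h1 := hU (U ⊔ V') (sup_le hUD (hV'D.trans inf_le_left)) hcen
        refine CfsgLib.Fusion.hasNormalPComplement_of_injective
          ((H.subtype.comp (normalizer (V : Set H)).subtype).codRestrict
            (normalizer ((U ⊔ V' : Subgroup G) : Set G)) fun x => ?_) (fun x y hxy => ?_) h1
        · exact normalizer_inf_normalizer_le_normalizer_sup U V'
            ⟨(x : H).2, le_normalizer_map H.subtype ⟨x, x.2, rfl⟩⟩
        · exact Subtype.ext (Subtype.ext (congrArg Subtype.val hxy :))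
    -- `U` is normal in `G`
    exfalso
    refine hG ?_
    haveI hUn : U.Normal := normalizer_eq_top_iff.1 hHtop
    set C := centralizer (U : Set G) with hC
    haveI : C.Normal := by rw [hC]; infer_instance
    set S₀ := (S : Subgroup G) ⊓ C with hS₀
    set D₀ := D ⊓ C with hD₀
    set W := U ⊔ D₀ with hWdef
    have hWp : IsPGroup p W := S.2.to_le (sup_le (hUD.trans hDS) (inf_le_left.trans hDS))
    have hWnil := hU W (sup_le hUD inf_le_left) (by
      rintro d ⟨hd, hdc⟩
      exact mem_sup_right ⟨hd, centralizer_le (le_sup_left : U ≤ W) hdc⟩)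
    have hS₀W : normalizer (S₀ : Set G) ≤ normalizer (W : Set G) := by
      intro x hx
      refine normalizer_inf_normalizer_le_normalizer_sup U D₀ ⟨(eq_top_iff' _).1 hHtop x, ?_⟩
      refine conjBy_eq_iff.1 (conjBy_eq_of_le (conjBy_le_iff.2 fun d hd => ?_))
      have h1 : x * d * x⁻¹ ∈ S₀ := (mem_normalizer_iff.1 hx d).1 ⟨hDS hd.1, hd.2⟩
      exact ⟨hD.2 d hd.1 x h1.1, h1.2⟩
    have hS₀i := CfsgLib.Fusion.not_dvd_relIndex_inf_of_normal S C
    let P₀ : Sylow p C := ((S.2.to_le (inf_le_left (b := C))).of_equiv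
      (subgroupOfEquivOfLe inf_le_right).symm).toSylow hS₀i
    have hfr : normalizer (S₀ : Set G) ⊔ C = ⊤ := by
      rw [← show ((P₀ : Subgroup C)).map C.subtype = S₀ from map_subgroupOf_eq_of_le inf_le_right]
      exact Sylow.normalizer_sup_eq_top P₀
    have hres : Cfsg.pResidual p G ≤ C := by
      refine CfsgLib.Fusion.pResidual_le_of_isPGroup_quotient C fun q => ?_
      induction q using QuotientGroup.induction_on with
      | _ g =>
        obtain ⟨m, hm, c, hc, rfl⟩ := mem_sup_of_normal_right.1 (hfr ▸ mem_top g)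
        obtain ⟨k, hk⟩ := commute_of_nilpotent_normalizer hWp hWnil (hS₀W hm)
        refine ⟨k, ?_⟩
        rw [QuotientGroup.mk_mul, (QuotientGroup.eq_one_iff c).2 hc, mul_one, ← QuotientGroup.mk_pow,
          QuotientGroup.eq_one_iff]
        exact mem_centralizer_iff.2 fun x hx =>
          (mul_inv_eq_iff_eq_mul.1 (hk x (mem_sup_left hx))).symm
    by_cases hCtop : C = ⊤
    swap
    · have hCnil : Cfsg.HasNormalPComplement p C := by
        refine ih _ (hsmall C hCtop) C rfl P₀ (D₀.subgroupOf C) ⟨?_, ?_⟩ ?_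
        · exact comap_mono (inf_le_inf_right C hDS)
        · intro x hx g hg
          exact ⟨hD.2 _ hx.1 (g : G) hg.1, (g * x * g⁻¹).2⟩
        · intro V hV hVc
          set V' := V.map C.subtype with hV'
          have hV'D : V' ≤ D₀ := (map_mono hV).trans (map_comap_le _ _)
          have hcen : D ⊓ centralizer ((U ⊔ V' : Subgroup G) : Set G) ≤ U ⊔ V' := by
            rintro d ⟨hd, hdc⟩
            have hdC : d ∈ C := centralizer_le (le_sup_left : U ≤ U ⊔ V') hdc
            have hdV : (⟨d, hdC⟩ : C) ∈ D₀.subgroupOf C ⊓ centralizer (V : Set C) :=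
              ⟨⟨hd, hdC⟩, mem_centralizer_iff.2 fun v hv => Subtype.ext
                (mem_centralizer_iff.1 hdc (v : G) (mem_sup_right ⟨v, hv, rfl⟩))⟩
            exact mem_sup_right ⟨_, hVc hdV, rfl⟩
          have h1 := hU (U ⊔ V') (sup_le hUD (hV'D.trans inf_le_left)) hcen
          refine CfsgLib.Fusion.hasNormalPComplement_of_injective
            ((C.subtype.comp (normalizer (V : Set C)).subtype).codRestrict
              (normalizer ((U ⊔ V' : Subgroup G) : Set G)) fun x => ?_) (fun x y hxy => ?_) h1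
          · exact normalizer_inf_normalizer_le_normalizer_sup U V'
              ⟨(eq_top_iff' _).1 hHtop _, le_normalizer_map C.subtype ⟨x, x.2, rfl⟩⟩
          · exact Subtype.ext (Subtype.ext (congrArg Subtype.val hxy :))
      rw [CfsgLib.Fusion.hasNormalPComplement_iff_coprime] at hCnil ⊢
      have hle : Cfsg.pResidual p G ≤ (Cfsg.pResidual p C).map C.subtype := by
        refine (closure_le _).2 fun g hg => ?_
        have hgC : g ∈ C := hres (CfsgLib.Fusion.mem_pResidual hg)
        exact ⟨⟨g, hgC⟩, CfsgLib.Fusion.mem_pResidual (by rw [Subgroup.orderOf_mk]; exact hg), rfl⟩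
      intro g hg
      obtain ⟨c, hc, rfl⟩ := hle hg
      show (orderOf (c : G)).Coprime p
      rw [Subgroup.orderOf_coe]
      exact hCnil c hc
    -- `U` is central
    set π := QuotientGroup.mk' U with hπ
    have hUS : U ≤ (S : Subgroup G) := hUD.trans hDS
    have hback : ∀ {A : Subgroup G}, U ≤ A → (A.map π).comap π = A := fun {A} hA => by
      rw [comap_map_eq, QuotientGroup.ker_mk', sup_eq_left.2 hA]
    have hq : Cfsg.HasNormalPComplement p (G ⧸ U) := by
      refine ih _ ?_ (G ⧸ U) rfl (S.mapSurjective (f := π) (QuotientGroup.mk'_surjective U))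
        (D.map π) ⟨?_, ?_⟩ ?_
      · rw [← hn, card_eq_card_quotient_mul_card_subgroup U]
        refine lt_mul_of_one_lt_right Nat.card_pos ?_
        exact U.one_lt_card_iff_ne_bot.2 hUne
      · rw [Sylow.coe_mapSurjective]; exact map_mono hDS
      · rintro _ ⟨x, hx, rfl⟩ g' hg'
        obtain ⟨g, rfl⟩ := QuotientGroup.mk'_surjective U g'
        rw [Sylow.coe_mapSurjective] at hg'
        rw [← map_inv, ← map_mul, ← map_mul] at hg' ⊢
        exact mem_map_of_mem π (hD.2 x hx g (hback hUS ▸ hg'))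
      · intro V hV hVc
        set V' := V.comap π with hV'
        have hV'D : V' ≤ D := (comap_mono hV).trans (hback hUD).le
        have hcen : D ⊓ centralizer (V' : Set G) ≤ V' := by
          rintro d ⟨hd, hdc⟩
          refine hVc ⟨mem_map_of_mem π hd, mem_centralizer_iff.2 fun v hv => ?_⟩
          obtain ⟨v', rfl⟩ := QuotientGroup.mk'_surjective U v
          rw [← map_mul, ← map_mul, mem_centralizer_iff.1 hdc v' hv]
        have h1 := hU V' hV'D hcen
        refine CfsgLib.Fusion.hasNormalPComplement_of_surjective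
          ((π.comp (normalizer (V' : Set G)).subtype).codRestrict (normalizer (V : Set (G ⧸ U)))
            fun x => ?_) ?_ h1
        · have h2 := le_normalizer_map π (mem_map_of_mem π x.2)
          rwa [map_comap_eq_self_of_surjective (QuotientGroup.mk'_surjective U)] at h2
        · rintro ⟨y, hy⟩
          obtain ⟨g, rfl⟩ := QuotientGroup.mk'_surjective U y
          refine ⟨⟨g, mem_normalizer_iff.2 fun x => ?_⟩, rfl⟩
          show π x ∈ V ↔ π (g * x * g⁻¹) ∈ V
          rw [map_mul, map_mul, map_inv]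
          exact mem_normalizer_iff.1 hy (π x)
    refine CfsgLib.Fusion.hasNormalPComplement_of_locallyPNilpotentAction S fun Q hQ g hg hgc => ?_
    have hQp : IsPGroup p Q := S.2.to_le hQ
    refine CfsgLib.Fusion.mem_centralizer_iff'.2 fun x hx => ?_
    obtain ⟨k, hk⟩ := commute_of_nilpotent_normalizer (hQp.map π)
      (CfsgLib.Fusion.hasNormalPComplement_subgroup _ hq)
      (le_normalizer_map π (mem_map_of_mem π hg))
    obtain ⟨r, hr⟩ := coprime_pow_eq hgc k
    set y := g ^ p ^ k with hy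
    have hyx : y * x * y⁻¹ * x⁻¹ ∈ U := by
      refine (QuotientGroup.eq_one_iff _).1 ?_
      show π (y * x * y⁻¹ * x⁻¹) = 1
      rw [map_mul, map_mul, map_mul, map_inv, map_inv, hy, map_pow,
        hk (π x) (mem_map_of_mem π hx), mul_inv_cancel]
    have hyQ : y * x * y⁻¹ ∈ Q := (mem_normalizer_iff.1 (pow_mem hg _) x).1 hx
    have hfix : y * x * y⁻¹ = x := by
      have h2 := CfsgLib.Coprime.eq_one_of_conj_eq_mul (a := y) (x := x)
        (u := y * x * y⁻¹ * x⁻¹) (by group)
        (mul_inv_eq_iff_eq_mul.2 (mem_centralizer_iff.1 (hCtop ▸ mem_top y : y ∈ C) _ hyx).symm) (by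
          obtain ⟨j, hj⟩ := IsPGroup.iff_orderOf.1 hQp ⟨_, mul_mem hyQ (inv_mem hx)⟩
          rw [Subgroup.orderOf_mk] at hj
          rw [hj]
          exact (hgc.coprime_dvd_left (orderOf_pow_dvd _)).pow_right j)
      exact mul_inv_eq_one.1 h2
    have : ∀ i : ℕ, y ^ i * x * (y ^ i)⁻¹ = x := fun i => by
      induction i with
      | zero => simp
      | succ i ihi => rw [pow_succ, show y ^ i * y * x * (y ^ i * y)⁻¹ = y ^ i * (y * x * y⁻¹) * (y ^ i)⁻¹ by group, hfix, ihi]
    rw [← hr]
    exact this r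
  -- Frobenius
  refine hG (CfsgLib.Fusion.hasNormalPComplement_of_locallyPNilpotentAction S fun Q hQ g hg hgc => ?_)
  obtain ⟨b, hbQ, -, hbi⟩ := exists_conj_fully_normalized S hQ
  set Q' := conjBy b Q with hQ'
  set N := normalizer (Q' : Set G) with hN
  set C := centralizer (Q' : Set G) with hC
  set S₀ := (S : Subgroup G) ⊓ C with hS₀
  let SN : Sylow p N := ((S.2.to_le (inf_le_left (b := N))).of_equiv
    (subgroupOfEquivOfLe inf_le_right).symm).toSylow hbi
  haveI : (C.subgroupOf N).Normal := by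
    rw [hC, hN, ← normalizerMonoidHom_ker]; infer_instance
  have hCN : C ≤ N := centralizer_le_normalizer _
  have hmap : ((SN : Subgroup N) ⊓ C.subgroupOf N).map N.subtype = S₀ := by
    rw [Subgroup.map_inf _ _ _ N.subtype_injective, map_subgroupOf_eq_of_le hCN,
      show ((SN : Subgroup N)).map N.subtype = (S : Subgroup G) ⊓ N from
        map_subgroupOf_eq_of_le inf_le_right, inf_assoc, inf_eq_right.2 hCN]
  let P₀ : Sylow p (C.subgroupOf N) := ((SN.2.to_le (inf_le_left (b := C.subgroupOf N))).of_equiv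
    (subgroupOfEquivOfLe inf_le_right).symm).toSylow
      (CfsgLib.Fusion.not_dvd_relIndex_inf_of_normal SN _)
  have hfr : normalizer (((SN : Subgroup N) ⊓ C.subgroupOf N : Subgroup N) : Set N) ⊔ C.subgroupOf N
      = ⊤ := by
    rw [← show ((P₀ : Subgroup (C.subgroupOf N))).map (C.subgroupOf N).subtype = _ from
      map_subgroupOf_eq_of_le inf_le_right]
    exact Sylow.normalizer_sup_eq_top P₀
  set U := D ⊓ S₀ with hUdef
  have hUne : U ≠ ⊥ := by
    intro h0
    haveI : Group.IsNilpotent (S : Subgroup G) := S.2.isNilpotent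
    haveI : (D.subgroupOf (S : Subgroup G)).Normal :=
      (normal_subgroupOf_iff_le_normalizer hDS).2 hSD
    obtain ⟨⟨z, hz⟩, hz1⟩ := ne_bot_iff_exists_ne_one.1
      (CfsgLib.Coprime.nilpotent_inf_center_ne_bot (D.subgroupOf (S : Subgroup G)) (fun h => hD1 (by
        rw [← map_subgroupOf_eq_of_le hDS, h, Subgroup.map_bot])))
    refine hz1 (Subtype.ext (Subtype.ext (mem_bot.1 (h0 ▸ (⟨hz.1, ?_⟩ : (z : G) ∈ U)))))
    refine ⟨z.2, mem_centralizer_iff.2 fun q hq => ?_⟩
    exact congrArg Subtype.val (mem_center_iff.1 hz.2 ⟨q, hbQ hq⟩)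
  have hgN : b * g * b⁻¹ ∈ N := by
    rw [hN, hQ', ← conjBy_normalizer]; exact conj_mem_conjBy hg
  obtain ⟨m, hm, c, hc, hmc⟩ := mem_sup_of_normal_right.1 (hfr ▸ mem_top (⟨b * g * b⁻¹, hgN⟩ : N))
  have hmS₀ : (m : G) ∈ normalizer (S₀ : Set G) := by
    rw [← hmap]; exact le_normalizer_map N.subtype ⟨m, hm, rfl⟩
  have hmU : (m : G) ∈ normalizer (U : Set G) :=
    conjBy_eq_iff.1 (conjBy_eq_of_le (conjBy_le_iff.2 fun d hd => by
      have h1 := (mem_normalizer_iff.1 hmS₀ d).1 hd.2
      exact ⟨hD.2 d hd.1 m h1.1, h1⟩))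
  have hQU : Q' ≤ normalizer (U : Set G) := fun q hq =>
    conjBy_eq_iff.1 (conjBy_eq_of_le (conjBy_le_iff.2 fun d hd => by
      have h2 : q * d * q⁻¹ = d := mul_inv_eq_iff_eq_mul.2 (mem_centralizer_iff.1 hd.2.2 q hq)
      rw [h2]; exact hd))
  -- inside `N(U)`
  set M := normalizer (U : Set G) with hM
  obtain ⟨k, hk⟩ := CfsgLib.Fusion.exists_pow_p_mem_pResidual (p := p) (⟨(m : G), hmU⟩ : M)
  have hMnil := hA U inf_le_left hUne
  have hQ'p : IsPGroup p Q' := S.2.to_le hbQ
  have hmQ : ∀ x ∈ Q', (m : G) ^ p ^ k * x * ((m : G) ^ p ^ k)⁻¹ = x := by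
    intro x hx
    have hx' : (m : G) ^ p ^ k * x * ((m : G) ^ p ^ k)⁻¹ ∈ Q' :=
      (mem_normalizer_iff.1 (pow_mem m.2 _) x).1 hx
    haveI := CfsgLib.Fusion.pResidual_normal (G := M) (p := p)
    set y : M := ⟨(m : G), hmU⟩ ^ p ^ k with hy
    have hin : y * ⟨x, hQU hx⟩ * y⁻¹ * ⟨x, hQU hx⟩⁻¹ ∈ Cfsg.pResidual p M := by
      rw [mul_assoc y, mul_assoc y]
      exact mul_mem hk ((inferInstance : (Cfsg.pResidual p M).Normal).conj_mem _ (inv_mem hk) _)
    have h1 := CfsgLib.Fusion.hasNormalPComplement_iff_coprime.1 hMnil _ hin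
    obtain ⟨j, hj⟩ := IsPGroup.iff_orderOf.1 hQ'p ⟨_, mul_mem hx' (inv_mem hx)⟩
    rw [Subgroup.orderOf_mk] at hj
    refine mul_inv_eq_one.1 (orderOf_eq_one_iff.1 (Nat.eq_one_of_dvd_coprimes (h1.pow_right j) ?_ hj.dvd))
    refine dvd_of_eq ((congrArg orderOf ?_).trans
      (Subgroup.orderOf_coe (y * ⟨x, hQU hx⟩ * y⁻¹ * ⟨x, hQU hx⟩⁻¹)))
    rfl
  -- back to `g`
  obtain ⟨r, hr⟩ := coprime_pow_eq (g := g) hgc k
  refine CfsgLib.Fusion.mem_centralizer_iff'.2 fun x hx => ?_
  set Φ := Q'.normalizerMonoidHom with hΦ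
  have hΦc : Φ c = 1 := by
    rw [← MonoidHom.mem_ker, hΦ, normalizerMonoidHom_ker]; exact hc
  have hΦm : Φ m ^ p ^ k = 1 := by
    rw [← map_pow]
    exact MulEquiv.ext fun z => Subtype.ext (hmQ z z.2)
  have hΦg : Φ (⟨b * g * b⁻¹, hgN⟩ ^ p ^ k) = 1 := by
    rw [← hmc, map_pow, map_mul, hΦc, mul_one, hΦm]
  have hΦg' : Φ ⟨b * g * b⁻¹, hgN⟩ = 1 := by
    have e : (⟨b * g * b⁻¹, hgN⟩ : N) = (⟨b * g * b⁻¹, hgN⟩ ^ p ^ k) ^ r := Subtype.ext (by
      rw [SubgroupClass.coe_pow, SubgroupClass.coe_pow]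
      show b * g * b⁻¹ = ((b * g * b⁻¹) ^ p ^ k) ^ r
      rw [conj_pow, conj_pow, hr])
    rw [e, map_pow, hΦg, one_pow]
  have h3 := DFunLike.congr_fun hΦg' (⟨b * x * b⁻¹, conj_mem_conjBy hx⟩ : Q')
  have h2 : b * g * b⁻¹ * (b * x * b⁻¹) * (b * g * b⁻¹)⁻¹ = b * x * b⁻¹ :=
    congrArg Subtype.val h3
  rw [show b * g * b⁻¹ * (b * x * b⁻¹) * (b * g * b⁻¹)⁻¹ = b * (g * x * g⁻¹) * b⁻¹ by group] at h2
  exact mul_left_cancel (mul_right_cancel h2)

/-- A Frobenius normal p-complement criterion relative to a strongly closed subgroup. Let G be a finite group, S a Sylow p-subgroup and D a subgroup of S strongly closed in S with respect to G. Then G has a normal p-complement if and only if N_G(U) has a normal p-complement for every subgroup U of D with C_D(U) ≤ U. -/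
theorem result {G : Type*} [Group G] [Finite G] {p : ℕ} [Fact p.Prime] (S : Sylow p G) (D : Subgroup G) (hD : Cfsg.IsStronglyClosed D (S : Subgroup G)) : Cfsg.HasNormalPComplement p G ↔ ∀ U : Subgroup G, U ≤ D → D ⊓ Subgroup.centralizer (U : Set G) ≤ U → Cfsg.HasNormalPComplement p ↥(Subgroup.normalizer (U : Set G)) := by
  exact ⟨fun h U _ _ => CfsgLib.Fusion.hasNormalPComplement_subgroup _ h,
    fun h => main (Nat.card G) G rfl S D hD h⟩


end Cfsg.Agent.S3839
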