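import Cfsg.Statements.S3858
-- import your own Cfsg.Agent.* helpers here
import Mathlib.GroupTheory.Sylow
import Mathlib.GroupTheory.Nilpotent

set_option autoImplicit false
open Cfsg

namespace Cfsg.Agent.S3858

open scoped Pointwise

theorem conj_isCoatom {G : Type*} [Group G] {M : Subgroup G} (hM : IsCoatom M) (g : G) :
    IsCoatom (M.map (MulAut.conj g).toMonoidHom) :=
  (OrderIso.isCoatom_iff (MulEquiv.mapSubgroup (MulAut.conj g)) M).2 hM

/-- A Sylow subgroup meeting a nonabelian simple normal subgroup is not normal. -/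
theorem not_normal {G : Type*} [Group G] [Finite G] (T : Subgroup G) [T.Normal] (hT : IsSimpleGroup T)
    (hna : ¬ IsMulCommutative T) {r : ℕ} [Fact r.Prime] (R : Sylow r G)
    (hR0 : (R : Subgroup G) ⊓ T ≠ ⊥) : Subgroup.normalizer ((R : Subgroup G) : Set G) ≠ ⊤ := by
  intro h
  haveI := hT
  haveI : (R : Subgroup G).Normal := Subgroup.normalizer_eq_top_iff.1 h
  have hn : ((R : Subgroup G).subgroupOf T).Normal := inferInstance
  rcases hn.eq_bot_or_eq_top with e | e
  · exact hR0 (disjoint_iff.1 (Subgroup.subgroupOf_eq_bot.1 e))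
  · have hp : IsPGroup r T := R.2.to_le (Subgroup.subgroupOf_eq_top.1 e)
    haveI : Nontrivial T := hT.1
    haveI := hp.center_nontrivial
    have hc := ((inferInstance : (Subgroup.center T).Normal).eq_bot_or_eq_top).resolve_left
      ((Subgroup.nontrivial_iff_ne_bot _).1 inferInstance)
    exact hna ⟨⟨fun a b => (Subgroup.mem_center_iff.1 (hc ▸ Subgroup.mem_top b) a)⟩⟩

/-- Let G be a finite group with a normal non-abelian simple subgroup T whose centralizer is trivial (G almost simple with socle T), r a prime and R a Sylow r-subgroup of G meeting T nontrivially. Then R lies in exactly one maximal subgroup of G if and only if G has exactly one conjugacy class of maximal subgroups whose index is prime to r. -/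
theorem result {G : Type*} [Group G] [Finite G] (T : Subgroup G) [T.Normal] (hT : IsSimpleGroup T) (hna : ¬ IsMulCommutative T)
    (hC : Subgroup.centralizer (T : Set G) = ⊥) {r : ℕ} [Fact r.Prime] (R : Sylow r G) (hR0 : (R : Subgroup G) ⊓ T ≠ ⊥) :
    (∃! M : Subgroup G, IsCoatom M ∧ (R : Subgroup G) ≤ M) ↔
      ((∃ M : Subgroup G, IsCoatom M ∧ ¬ r ∣ M.index) ∧
        ∀ M₁ M₂ : Subgroup G, IsCoatom M₁ → ¬ r ∣ M₁.index → IsCoatom M₂ → ¬ r ∣ M₂.index → ∃ g : G, M₂ = M₁.map (MulAut.conj g).toMonoidHom) := by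
  classical
  have hconjidx : ∀ (M : Subgroup G) (g : G), (M.map (MulAut.conj g).toMonoidHom).index = M.index :=
    fun M g => Subgroup.index_map_of_bijective (MulAut.conj g).bijective M
  have hcont : ∀ M : Subgroup G, ¬ r ∣ M.index →
      ∃ g : G, (R : Subgroup G) ≤ M.map (MulAut.conj g).toMonoidHom := by
    intro M hM
    obtain ⟨Q⟩ : Nonempty (Sylow r M) := inferInstance
    have hQp : IsPGroup r ↥((Q : Subgroup M).map M.subtype) := Q.2.map _
    have hQi : ¬ r ∣ ((Q : Subgroup M).map M.subtype).index := by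
      rw [Subgroup.index_map_subtype]
      exact (Fact.out : r.Prime).not_dvd_mul Q.not_dvd_index hM
    let P : Sylow r G := hQp.toSylow hQi
    obtain ⟨g, hg⟩ := MulAction.exists_smul_eq G P R
    refine ⟨g, ?_⟩
    rw [← hg, Sylow.coe_subgroup_smul]
    show MulAut.conj g • (P : Subgroup G) ≤ _
    rw [Subgroup.pointwise_smul_def]
    exact Subgroup.map_mono (Subgroup.map_subtype_le _)
  constructor
  · rintro ⟨M, ⟨hM, hRM⟩, huniq⟩
    refine ⟨⟨M, hM, fun h => R.not_dvd_index (h.trans (Subgroup.index_dvd_of_le hRM))⟩, ?_⟩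
    intro M₁ M₂ h1 i1 h2 i2
    obtain ⟨a, ha⟩ := hcont M₁ i1
    obtain ⟨b, hb⟩ := hcont M₂ i2
    have e := (huniq _ ⟨conj_isCoatom h1 a, ha⟩).trans (huniq _ ⟨conj_isCoatom h2 b, hb⟩).symm
    refine ⟨b⁻¹ * a, ?_⟩
    have := congrArg (Subgroup.map (MulAut.conj b⁻¹).toMonoidHom) e
    rw [Subgroup.map_map, Subgroup.map_map] at this
    have h1' : ∀ u v : G, (MulAut.conj u).toMonoidHom.comp (MulAut.conj v).toMonoidHom =
        (MulAut.conj (u * v)).toMonoidHom := fun u v => by
      ext z; simp [mul_assoc]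
    rw [h1', h1', inv_mul_cancel, map_one] at this
    rw [this]
    exact (Subgroup.map_id M₂).symm
  · rintro ⟨⟨M, hM, hMi⟩, hconj⟩
    obtain ⟨M0, hM0, hN⟩ := (eq_top_or_exists_le_coatom
      (Subgroup.normalizer ((R : Subgroup G) : Set G))).resolve_left (not_normal T hT hna R hR0)
    refine ⟨M0, ⟨hM0, Subgroup.le_normalizer.trans hN⟩, fun M1 ⟨h1, hR1⟩ => ?_⟩
    have hR0' : (R : Subgroup G) ≤ M0 := Subgroup.le_normalizer.trans hN
    obtain ⟨g, hg⟩ := hconj M0 M1 hM0 (fun h => R.not_dvd_index (h.trans (Subgroup.index_dvd_of_le hR0')))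
      h1 (fun h => R.not_dvd_index (h.trans (Subgroup.index_dvd_of_le hR1)))
    -- `R` and its conjugate are Sylow subgroups of `M1`
    have hR1' : ((g • R : Sylow r G) : Subgroup G) ≤ M1 := by
      rw [Sylow.coe_subgroup_smul, hg]
      show MulAut.conj g • (R : Subgroup G) ≤ _
      rw [Subgroup.pointwise_smul_def]
      exact Subgroup.map_mono hR0'
    obtain ⟨m, hm⟩ := MulAction.exists_smul_eq M1 ((g • R).subtype hR1') (R.subtype hR1)
    have hm' : (((m : G) * g) • R : Sylow r G) = R := by
      rw [mul_smul]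
      have := congrArg (fun Q : Sylow r M1 => (Q : Subgroup M1).map M1.subtype) hm
      rw [Sylow.smul_subtype] at this
      simp only [Sylow.coe_subtype, Subgroup.map_subgroupOf_eq_of_le hR1] at this
      refine Sylow.ext ?_
      rw [← this]
      refine (Subgroup.map_subgroupOf_eq_of_le ?_).symm
      exact Sylow.smul_le hR1' m
    have hmg : (m : G) * g ∈ M0 := hN (Sylow.smul_eq_iff_mem_normalizer.1 hm')
    rw [hg]
    ext z
    have hM1 : M0.map (MulAut.conj ((m : G) * g)).toMonoidHom = M0 := by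
      ext z
      rw [Subgroup.mem_map_equiv, MulAut.conj_symm_apply, M0.mul_mem_cancel_right hmg,
        M0.mul_mem_cancel_left (inv_mem hmg)]
    have hm1 : M1.map (MulAut.conj (m : G)).toMonoidHom = M1 := by
      ext z
      rw [Subgroup.mem_map_equiv, MulAut.conj_symm_apply, M1.mul_mem_cancel_right m.2,
        M1.mul_mem_cancel_left (inv_mem m.2)]
    have : M0 = M1 := by
      refine hM1.symm.trans (Eq.trans ?_ hm1)
      have e : M1.map (MulAut.conj (m : G)).toMonoidHom =
          (M0.map (MulAut.conj g).toMonoidHom).map (MulAut.conj (m : G)).toMonoidHom :=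
        congrArg (Subgroup.map (MulAut.conj (m : G)).toMonoidHom) hg
      rw [e, Subgroup.map_map]
      congr 1
      ext z; simp [mul_assoc]
    rw [← hg, this]

end Cfsg.Agent.S3858
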