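import Cfsg.Statements.S3859
-- import your own Cfsg.Agent.* helpers here
import Cfsg.Agent.S3858

set_option autoImplicit false
open Cfsg

namespace Cfsg.Agent.S3859

open scoped Pointwise

/-- Let G be a finite group with a normal non-abelian simple subgroup T whose centralizer is trivial (G almost simple with socle T), r a prime and R a Sylow r-subgroup of G meeting T nontrivially. If R lies in exactly one maximal subgroup of G, then G/T is an r-group. -/
theorem result {G : Type*} [Group G] [Finite G] (T : Subgroup G) [T.Normal] (hT : IsSimpleGroup T) (hna : ¬ IsMulCommutative T)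
    (hC : Subgroup.centralizer (T : Set G) = ⊥) {r : ℕ} [Fact r.Prime] (R : Sylow r G) (hR0 : (R : Subgroup G) ⊓ T ≠ ⊥)
    (huniq : ∃! M : Subgroup G, IsCoatom M ∧ (R : Subgroup G) ≤ M) : IsPGroup r (G ⧸ T) := by
  classical
  haveI := hT
  by_contra hq
  obtain ⟨M, ⟨hM, hRM⟩, huniq⟩ := huniq
  have hRT : (R : Subgroup G) ⊔ T ≠ ⊤ := fun e => by
    refine hq (R.2.of_surjective ((QuotientGroup.mk' T).comp (R : Subgroup G).subtype) fun c => ?_)
    obtain ⟨g, rfl⟩ := QuotientGroup.mk_surjective c
    obtain ⟨a, ha, t, ht, rfl⟩ := Subgroup.mem_sup_of_normal_right.1 (e ▸ Subgroup.mem_top g)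
    exact ⟨⟨a, ha⟩, by simp [(QuotientGroup.eq_one_iff t).2 ht]⟩
  obtain ⟨M0, hM0, hle0⟩ := (eq_top_or_exists_le_coatom _).resolve_left hRT
  have hTM : T ≤ M := huniq M0 ⟨hM0, le_sup_left.trans hle0⟩ ▸ (le_sup_right.trans hle0)
  set D := (R : Subgroup G) ⊓ T with hD
  have hRN : (R : Subgroup G) ≤ Subgroup.normalizer (D : Set G) := by
    refine fun a ha => Subgroup.mem_normalizer_iff.2 fun z => ?_
    have hTn : T.Normal := inferInstance
    simp only [hD, Subgroup.mem_inf]
    rw [(R : Subgroup G).mul_mem_cancel_right (inv_mem ha), (R : Subgroup G).mul_mem_cancel_left ha]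
    exact and_congr Iff.rfl ⟨fun h => hTn.conj_mem z h a, fun h => by
      simpa [mul_assoc] using hTn.conj_mem _ h a⁻¹⟩
  obtain ⟨P, hP⟩ := (R.2.to_le (inf_le_left : D ≤ _)).comap_subtype.exists_le_sylow (G := T)
  have hPD : (P : Subgroup T) = D.subgroupOf T := by
    refine (Subgroup.eq_of_le_of_card_ge hP ?_).symm
    obtain ⟨R', hR'⟩ := (P.2.map T.subtype).exists_le_sylow
    obtain ⟨g, rfl⟩ := MulAction.exists_smul_eq G R R'
    have h1 : (P : Subgroup T).map T.subtype ≤ D.map (MulAut.conj g).toMonoidHom := by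
      intro z hz
      have hzT : z ∈ T := Subgroup.map_subtype_le _ hz
      have hz' := hR' hz
      rw [Sylow.coe_subgroup_smul] at hz'
      obtain ⟨w, hw, rfl⟩ := hz'
      refine ⟨w, ⟨hw, ?_⟩, rfl⟩
      simpa [mul_assoc] using (inferInstance : T.Normal).conj_mem _ hzT g⁻¹
    have := Subgroup.card_le_of_le h1
    rwa [Subgroup.card_map_of_injective T.subtype_injective,
      Subgroup.card_map_of_injective (MulAut.conj g).injective,
      ← Nat.card_congr (Subgroup.subgroupOfEquivOfLe (inf_le_right : D ≤ T)).toEquiv] at this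
  have hsup : Subgroup.normalizer (D : Set G) ⊔ T = ⊤ := by
    have h := Sylow.normalizer_sup_eq_top (p := r) P
    rwa [hPD, Subgroup.map_subgroupOf_eq_of_le inf_le_right] at h
  have hND : Subgroup.normalizer (D : Set G) ≠ ⊤ := by
    intro e
    haveI : D.Normal := Subgroup.normalizer_eq_top_iff.1 e
    have hn : (D.subgroupOf T).Normal := inferInstance
    rcases hn.eq_bot_or_eq_top with e' | e'
    · exact hR0 (disjoint_iff.1 (Subgroup.subgroupOf_eq_bot.1 e') |> fun h => by
        rwa [inf_assoc, inf_idem] at h)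
    · have hp : IsPGroup r T := R.2.to_le ((Subgroup.subgroupOf_eq_top.1 e').trans inf_le_left)
      haveI : Nontrivial T := hT.1
      haveI := hp.center_nontrivial
      have hc := ((inferInstance : (Subgroup.center T).Normal).eq_bot_or_eq_top).resolve_left
        ((Subgroup.nontrivial_iff_ne_bot _).1 inferInstance)
      exact hna ⟨⟨fun a b => (Subgroup.mem_center_iff.1 (hc ▸ Subgroup.mem_top b) a)⟩⟩
  obtain ⟨M1, hM1, hle1⟩ := (eq_top_or_exists_le_coatom _).resolve_left hND
  have e := huniq M1 ⟨hM1, hRN.trans hle1⟩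
  exact hM.1 (top_le_iff.1 (hsup ▸ sup_le (e ▸ hle1) hTM))

end Cfsg.Agent.S3859
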