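import Cfsg.Statements.S3862
import Cfsg.Agent.Lib.Fusion.PComplement

set_option autoImplicit false
open Cfsg

namespace Cfsg.Agent.S3862

open Subgroup

private theorem locally {G : Type*} [Group G] [Finite G]
    (h : ∀ x : G, (∃ j : ℕ, orderOf x = 2 ^ j) → IsConj x x⁻¹ → x ∈ center G) (P : Sylow 2 G) :
    CfsgLib.Fusion.LocallyPNilpotentAction 2 (P : Subgroup G) := by
  intro Q hQ y hy hycop
  rw [Subgroup.mem_centralizer_iff]
  haveI : Fact (Nat.Prime 2) := ⟨Nat.prime_two⟩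
  have hQp : IsPGroup 2 Q := P.2.to_le hQ
  suffices hs : ∀ (n : ℕ) (v : G), v ∈ Q → orderOf v = n → Commute v y by
    exact fun v hv => hs _ v hv rfl
  intro n
  induction n using Nat.strong_induction_on with
  | _ n ih =>
  intro v hv hn
  rcases eq_or_ne v 1 with rfl | hv1
  · exact Commute.one_left y
  have hev : 2 ∣ orderOf v := by
    obtain ⟨k, hk⟩ := IsPGroup.iff_orderOf.1 hQp ⟨v, hv⟩
    rw [Subgroup.orderOf_mk] at hk
    rcases k with _ | k
    · rw [pow_zero, orderOf_eq_one_iff] at hk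
      exact absurd hk hv1
    · exact hk ▸ dvd_pow_self 2 k.succ_ne_zero
  have hsq : Commute (v ^ 2) y := ih (orderOf v / 2)
    (hn ▸ Nat.div_lt_self (orderOf_pos v) one_lt_two) _ (pow_mem hv 2)
    (orderOf_pow_of_dvd two_ne_zero hev)
  set u := y * v * y⁻¹ with hu
  have huQ : u ∈ Q := (Subgroup.mem_normalizer_iff.1 hy v).1 hv
  have hu2 : u ^ 2 = v ^ 2 := by
    rw [hu, conj_pow, ← hsq.eq, mul_inv_cancel_right]
  clear_value u
  set w := v⁻¹ * u with hw
  have hreal : u * w * u⁻¹ = w⁻¹ := by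
    have e : u = u⁻¹ * v * v := by
      rw [mul_assoc, ← pow_two, ← hu2, pow_two, inv_mul_cancel_left]
    rw [hw, mul_inv_rev, inv_inv]
    calc u * (v⁻¹ * u) * u⁻¹ = u * v⁻¹ := by group
      _ = u⁻¹ * v * v * v⁻¹ := by rw [← e]
      _ = u⁻¹ * v := by group
  have hwQ : w ∈ Q := mul_mem (inv_mem hv) huQ
  have hwc : w ∈ center G := h w (by
    obtain ⟨k, hk⟩ := IsPGroup.iff_orderOf.1 hQp ⟨w, hwQ⟩
    exact ⟨k, by rw [← hk, Subgroup.orderOf_mk]⟩) (isConj_iff.2 ⟨u, hreal⟩)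
  have hyw : y * v * y⁻¹ = v * w := by rw [hw, mul_inv_cancel_left, hu]
  have key : ∀ k : ℕ, y ^ k * v * (y ^ k)⁻¹ = v * w ^ k := by
    intro k
    induction k with
    | zero => simp
    | succ k ihk =>
      calc y ^ (k + 1) * v * (y ^ (k + 1))⁻¹
          = y * (y ^ k * v * (y ^ k)⁻¹) * y⁻¹ := by rw [pow_succ']; group
        _ = y * v * (w ^ k * y⁻¹) := by rw [ihk]; group
        _ = y * v * (y⁻¹ * w ^ k) := by rw [mem_center_iff.1 (pow_mem hwc k) y⁻¹]
        _ = (y * v * y⁻¹) * w ^ k := by group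
        _ = v * w ^ (k + 1) := by rw [hyw, mul_assoc, pow_succ']
  have h1 := key (orderOf y)
  rw [pow_orderOf_eq_one, one_mul, inv_one, mul_one] at h1
  have h2 : w ^ orderOf y = 1 := mul_eq_left.1 h1.symm
  have h3 : orderOf w = 1 := by
    obtain ⟨k, hk⟩ := IsPGroup.iff_orderOf.1 hQp ⟨w, hwQ⟩
    rw [Subgroup.orderOf_mk] at hk
    refine Nat.eq_one_of_dvd_coprimes (hycop.pow_right k) (orderOf_dvd_of_pow_eq_one h2) ?_
    rw [hk]
  rw [orderOf_eq_one_iff.1 h3, mul_one, mul_inv_eq_iff_eq_mul] at hyw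
  exact hyw.symm

/-- If every 2-element of the finite group G that is conjugate to its inverse lies in the centre of G, then G has a normal 2-complement. -/
theorem result {G : Type*} [Group G] [Finite G] (h : ∀ x : G, (∃ j : ℕ, orderOf x = 2 ^ j) → IsConj x x⁻¹ → x ∈ Subgroup.center G) : Cfsg.HasNormalPComplement 2 G := by
  haveI : Fact (Nat.Prime 2) := ⟨Nat.prime_two⟩
  exact CfsgLib.Fusion.hasNormalPComplement_of_locallyPNilpotentAction (default : Sylow 2 G)
    (locally h default)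

end Cfsg.Agent.S3862
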