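import Cfsg.Statements.S3863
import Cfsg.Agent.Lib.Coprime.Core


set_option autoImplicit false
set_option linter.style.haveILetI false
open Cfsg

namespace Cfsg.Agent.S3863

/-- Let x be an element of the finite group G that is conjugate to its inverse. Then some 2-element conjugates x to its inverse; if the conjugacy class of x has odd size then x ^ 2 = 1; and x lies in, and is conjugate to its inverse inside, every normal subgroup of odd index. -/
theorem result {G : Type*} [Group G] [Finite G] (x : G) (hx : IsConj x x⁻¹) : (∃ t : G, (∃ j : ℕ, orderOf t = 2 ^ j) ∧ t * x * t⁻¹ = x⁻¹) ∧ (Odd (Subgroup.centralizer ({x} : Set G)).index → x ^ 2 = 1) ∧ ∀ (N : Subgroup G) [N.Normal], Odd N.index → ∃ hxN : x ∈ N, IsConj (⟨x, hxN⟩ : N) (⟨x, hxN⟩ : N)⁻¹ := by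
  obtain ⟨c, hc⟩ := isConj_iff.1 hx
  obtain ⟨t, ⟨j, ht2⟩, ht⟩ : ∃ t : G, (∃ j : ℕ, orderOf t = 2 ^ j) ∧ t * x * t⁻¹ = x⁻¹ := by
    obtain ⟨j, m, hm, hjm⟩ := Nat.exists_eq_pow_mul_and_not_dvd (orderOf_pos c).ne' 2 (by norm_num)
    refine ⟨c ^ m, ⟨j, ?_⟩, ?_⟩
    · rw [orderOf_pow_of_dvd (fun e => hm (by simp [e])) (Dvd.intro_left _ hjm.symm), hjm,
        Nat.mul_div_cancel _ (Nat.pos_of_ne_zero fun e => hm (by simp [e]))]
    · have hk : ∀ k : ℕ, c ^ (2 * k + 1) * x * (c ^ (2 * k + 1))⁻¹ = x⁻¹ := by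
        intro k
        induction k with
        | zero => simpa using hc
        | succ k ih =>
          have e : c ^ (2 * (k + 1) + 1) * x * (c ^ (2 * (k + 1) + 1))⁻¹ =
              c * (c * (c ^ (2 * k + 1) * x * (c ^ (2 * k + 1))⁻¹) * c⁻¹) * c⁻¹ := by
            rw [show 2 * (k + 1) + 1 = 1 + (1 + (2 * k + 1)) by ring, pow_add c 1, pow_add c 1,
              pow_one]
            group
          have h1 : c * x⁻¹ * c⁻¹ = x := by
            calc c * x⁻¹ * c⁻¹ = (c * x * c⁻¹)⁻¹ := by group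
              _ = x := by rw [hc, inv_inv]
          rw [e, ih, h1, hc]
      obtain ⟨k, rfl⟩ : Odd m := Nat.not_even_iff_odd.1 fun he => hm he.two_dvd
      exact hk k
  refine ⟨⟨t, ⟨j, ht2⟩, ht⟩, fun hodd => ?_, fun N _ hNi => ?_⟩
  · by_contra hne
    let E : Subgroup G :=
      { carrier := {g | g * x * g⁻¹ = x ∨ g * x * g⁻¹ = x⁻¹}
        one_mem' := Or.inl (by simp)
        mul_mem' := fun {a b} ha hb => by
          have e : a * b * x * (a * b)⁻¹ = a * (b * x * b⁻¹) * a⁻¹ := by group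
          have e' : a * x⁻¹ * a⁻¹ = (a * x * a⁻¹)⁻¹ := by group
          show a * b * x * (a * b)⁻¹ = x ∨ a * b * x * (a * b)⁻¹ = x⁻¹
          rw [e]
          rcases hb with hb | hb <;> rcases ha with ha | ha <;>
            simp only [e', hb, ha, inv_inv, or_true, true_or]
        inv_mem' := fun {a} ha => by
          rcases ha with ha | ha
          · left
            calc a⁻¹ * x * a⁻¹⁻¹ = a⁻¹ * (a * x * a⁻¹) * a := by rw [ha]; group
              _ = x := by group
          · right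
            calc a⁻¹ * x * a⁻¹⁻¹ = a⁻¹ * (a * x * a⁻¹)⁻¹ * a := by rw [ha]; group
              _ = x⁻¹ := by group }
    have hCE : Subgroup.centralizer ({x} : Set G) ≤ E := fun g hg => Or.inl (by
      rw [Subgroup.mem_centralizer_singleton_iff.1 hg]; group)
    have h2 : ((Subgroup.centralizer ({x} : Set G)).subgroupOf E).index = 2 := by
      have hmem : ∀ g : G, g ∈ Subgroup.centralizer ({x} : Set G) ↔ g * x * g⁻¹ = x := fun g => by
        rw [Subgroup.mem_centralizer_singleton_iff, mul_inv_eq_iff_eq_mul]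
      have hx2 : x⁻¹ ≠ x := fun e => hne (by rw [pow_two]; nth_rw 1 [← e]; exact inv_mul_cancel x)
      refine Subgroup.index_eq_two_iff.2 ⟨⟨t, Or.inr ht⟩, fun b => ?_⟩
      simp only [Subgroup.mem_subgroupOf, Subgroup.coe_mul, hmem]
      have e : (b : G) * t * x * ((b : G) * t)⁻¹ = ((b : G) * x * (b : G)⁻¹)⁻¹ := by
        calc _ = (b : G) * (t * x * t⁻¹) * (b : G)⁻¹ := by group
          _ = _ := by rw [ht]; group
      rcases b.2 with hb | hb
      · exact Or.inr ⟨hb, by rw [e, hb]; exact hx2⟩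
      · exact Or.inl ⟨by rw [e, hb, inv_inv], by rw [hb]; exact hx2⟩
    have h3 := Subgroup.relIndex_mul_index hCE
    rw [Subgroup.relIndex, h2] at h3
    exact absurd (hodd.of_dvd_nat (Dvd.intro _ h3)) (by decide)
  · have hpow : ∀ y : G, y ^ 2 ∈ N → y ∈ N := by
      intro y hy
      obtain ⟨k, hk⟩ := hNi
      have h1 := N.pow_index_mem y
      rw [hk, pow_succ, pow_mul] at h1
      exact (N.mul_mem_cancel_left (N.pow_mem hy k)).1 h1
    have htN : t ∈ N := by
      have key : ∀ (i : ℕ) (y : G), y ^ 2 ^ i = 1 → y ∈ N := by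
        intro i
        induction i with
        | zero => intro y hy; simp only [pow_zero, pow_one] at hy; rw [hy]; exact N.one_mem
        | succ i ih =>
          intro y hy
          exact hpow y (ih _ (by rw [← pow_mul, ← pow_succ']; exact hy))
      exact key j t (ht2 ▸ pow_orderOf_eq_one t)
    have hxN : x ∈ N := by
      refine hpow x ?_
      have h1 : t * (x * t⁻¹ * x⁻¹) ∈ N :=
        N.mul_mem htN (‹N.Normal›.conj_mem _ (N.inv_mem htN) x)
      rw [show t * (x * t⁻¹ * x⁻¹) = (t * x * t⁻¹) * x⁻¹ by group, ht] at h1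
      have h2 := N.inv_mem h1
      rwa [mul_inv_rev, inv_inv, ← pow_two] at h2
    exact ⟨hxN, isConj_iff.2 ⟨⟨t, htN⟩, Subtype.ext ht⟩⟩

end Cfsg.Agent.S3863
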