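import Cfsg.Statements.S3865
-- import your own Cfsg.Agent.* helpers here
import Cfsg.Agent.Lib.PGroup.MaxClassFusion

set_option autoImplicit false
open Cfsg

namespace Cfsg.Agent.S3865


/-- Let G be a finite group whose Sylow p-subgroup P has order p ^ n with n ≥ 2 and nilpotency class n - 1 (maximal class), whose largest normal subgroup of order prime to p is trivial, and which has no proper normal subgroup of index prime to p. Then either some x ∈ P has a centralizer in G whose order has p-part p ^ 2, or G is quasisimple with centre of order at most p. -/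
theorem result {G : Type*} [Group G] [Finite G] (p : ℕ) [Fact p.Prime] (P : Sylow p G) (n : ℕ) (hP : Nat.card P = p ^ n) (hn : 2 ≤ n) (hmax : Group.nilpotencyClass ↥(P : Subgroup G) = n - 1) (hcore : Cfsg.pPrimeCore p G = ⊥) (hres : ∀ N : Subgroup G, N.Normal → (N.index).Coprime p → N = ⊤) : (∃ x ∈ (P : Subgroup G), (Nat.card (Subgroup.centralizer ({x} : Set G))).factorization p = 2) ∨ (Cfsg.IsQuasisimple G ∧ Nat.card (Subgroup.center G) ≤ p) := by
  by_cases hnone : ∀ x ∈ (P : Subgroup G),
      (Nat.card (Subgroup.centralizer ({x} : Set G))).factorization p ≠ 2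
  swap
  · push Not at hnone
    exact Or.inl hnone
  refine Or.inr ?_
  obtain ⟨Q, -, hQc, hQcard, -, hnc, hle⟩ :=
    CfsgLib.MaxClassFusion.dichotomy P hP hn hmax hcore hres hnone
  have hne : Subgroup.center G ≠ ⊤ := fun e => by
    refine hnc (Subgroup.Normal.quotient_commutative_iff_commutator_le.2 ?_)
    rw [e]
    exact le_top
  have hcQ : Subgroup.center G ≤ Q := hle _ inferInstance hne
  refine ⟨⟨Group.isPerfect_def.2 ?_, ?_⟩, (Subgroup.card_le_of_le hcQ).trans hQcard⟩
  · by_contra h
    exact hnc (Subgroup.Normal.quotient_commutative_iff_commutator_le.2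
      ((hle _ inferInstance h).trans hQc))
  haveI : Nontrivial (G ⧸ Subgroup.center G) := by
    by_contra h
    rw [not_nontrivial_iff_subsingleton] at h
    exact hne (QuotientGroup.subgroup_eq_top_of_subsingleton _ h)
  refine ⟨fun H hH => ?_⟩
  haveI := hH
  by_cases h : H.comap (QuotientGroup.mk' (Subgroup.center G)) = ⊤
  · refine Or.inr ?_
    rw [← Subgroup.map_comap_eq_self_of_surjective
      (QuotientGroup.mk'_surjective (Subgroup.center G)) H, h]
    exact Subgroup.map_top_of_surjective _ (QuotientGroup.mk'_surjective _)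
  · refine Or.inl (eq_bot_iff.2 ?_)
    rw [← Subgroup.map_comap_eq_self_of_surjective
      (QuotientGroup.mk'_surjective (Subgroup.center G)) H, Subgroup.map_le_iff_le_comap,
      MonoidHom.comap_bot, QuotientGroup.ker_mk']
    exact (hle _ inferInstance h).trans hQc

end Cfsg.Agent.S3865
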