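import Cfsg.Statements.S3866
import Cfsg.Agent.Lib.Coprime.Core


set_option autoImplicit false
set_option linter.style.haveILetI false
open Cfsg

namespace Cfsg.Agent.S3866

/-- Let A be a commutative normal subgroup of the finite group G with G generated by A and an element x. Then a ↦ x a x⁻¹ a⁻¹ is a surjective homomorphism from A onto the commutator subgroup of G whose kernel is the centralizer of x in A; in particular the commutator subgroup has order equal to the index in A of that centralizer. -/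
theorem result {G : Type*} [Group G] [Finite G] (A : Subgroup G) [A.Normal] (hA : IsMulCommutative A) (x : G) (hgen : A ⊔ Subgroup.zpowers x = ⊤) : (∀ a ∈ A, x * a * x⁻¹ * a⁻¹ ∈ commutator G) ∧ (∀ c ∈ commutator G, ∃ a ∈ A, x * a * x⁻¹ * a⁻¹ = c) ∧ (∀ a ∈ A, ∀ b ∈ A, x * (a * b) * x⁻¹ * (a * b)⁻¹ = (x * a * x⁻¹ * a⁻¹) * (x * b * x⁻¹ * b⁻¹)) ∧ Nat.card (commutator G) * Nat.card ↥(A ⊓ Subgroup.centralizer ({x} : Set G)) = Nat.card A := by
  open scoped commutatorElement in
  have hcA : ∀ a ∈ A, x * a * x⁻¹ * a⁻¹ ∈ A := fun a ha =>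
    A.mul_mem (‹A.Normal›.conj_mem a ha x) (A.inv_mem ha)
  have hcomm : ∀ a ∈ A, ∀ b ∈ A, a * b = b * a := fun a ha b hb =>
    congrArg Subtype.val (isMulCommutative_iff.1 hA ⟨a, ha⟩ ⟨b, hb⟩)
  have hhom : ∀ a ∈ A, ∀ b ∈ A, x * (a * b) * x⁻¹ * (a * b)⁻¹ =
      (x * a * x⁻¹ * a⁻¹) * (x * b * x⁻¹ * b⁻¹) := by
    intro a ha b hb
    calc x * (a * b) * x⁻¹ * (a * b)⁻¹ = (x * a * x⁻¹) * ((x * b * x⁻¹ * b⁻¹) * a⁻¹) := by group
      _ = (x * a * x⁻¹) * (a⁻¹ * (x * b * x⁻¹ * b⁻¹)) := by
          rw [hcomm _ (hcA b hb) _ (A.inv_mem ha)]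
      _ = _ := by group
  let φ : A →* G := MonoidHom.mk' (fun a => x * (a : G) * x⁻¹ * (a : G)⁻¹)
    fun a b => hhom a a.2 b b.2
  have hmem : ∀ a ∈ A, x * a * x⁻¹ * a⁻¹ ∈ commutator G := fun a _ =>
    Subgroup.commutator_mem_commutator (Subgroup.mem_top x) (Subgroup.mem_top a)
  have hRA : φ.range ≤ A := by
    rintro _ ⟨a, rfl⟩
    exact hcA a a.2
  have hrange : φ.range = commutator G := by
    refine le_antisymm ?_ ?_
    · rintro _ ⟨a, rfl⟩; exact hmem a a.2
    haveI hRn : φ.range.Normal := by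
      rw [← Subgroup.normalizer_eq_top_iff, eq_top_iff, ← hgen, sup_le_iff, Subgroup.zpowers_le]
      constructor
      · intro a ha
        refine Subgroup.mem_normalizer_iff.2 fun r => ?_
        constructor
        · intro hr
          rwa [hcomm a ha r (hRA hr), mul_inv_cancel_right]
        · intro hr
          have hrA : r ∈ A := by
            have := A.mul_mem (A.mul_mem (A.inv_mem ha) (hRA hr)) ha
            rwa [show a⁻¹ * (a * r * a⁻¹) * a = r by group] at this
          rwa [hcomm a ha r hrA, mul_inv_cancel_right] at hr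
      · refine Subgroup.mem_normalizer_iff.2 fun r => ⟨?_, ?_⟩
        · rintro ⟨a, rfl⟩
          exact ⟨⟨_, ‹A.Normal›.conj_mem a a.2 x⟩, by simp [φ]; group⟩
        · rintro ⟨a, ha⟩
          refine ⟨⟨_, ‹A.Normal›.conj_mem a a.2 x⁻¹⟩, ?_⟩
          calc _ = x⁻¹ * (φ a) * x := by simp [φ]; group
            _ = r := by rw [ha]; group
    set f := QuotientGroup.mk' φ.range
    have hcomx : ∀ a ∈ A, f x * f a = f a * f x := by
      intro a ha
      have h1 : f (x * a * x⁻¹ * a⁻¹) = 1 := (QuotientGroup.eq_one_iff _).2 ⟨⟨a, ha⟩, rfl⟩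
      rwa [map_mul, map_mul, map_mul, map_inv, map_inv, mul_inv_eq_one, mul_inv_eq_iff_eq_mul] at h1
    have hle : ⊤ ≤ Subgroup.center (G ⧸ φ.range) := by
      have hgen' : A.map f ⊔ Subgroup.zpowers (f x) = ⊤ := by
        rw [← MonoidHom.map_zpowers, ← Subgroup.map_sup, hgen,
          Subgroup.map_top_of_surjective f (QuotientGroup.mk'_surjective _)]
      have key : ∀ z, (∀ a ∈ A, f a * z = z * f a) → f x * z = z * f x →
          z ∈ Subgroup.center (G ⧸ φ.range) := by
        intro z h1 h2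
        have : (⊤ : Subgroup (G ⧸ φ.range)) ≤ Subgroup.centralizer {z} := by
          rw [← hgen', sup_le_iff, Subgroup.zpowers_le]
          refine ⟨?_, Subgroup.mem_centralizer_singleton_iff.2 h2⟩
          rintro _ ⟨a, ha, rfl⟩
          exact Subgroup.mem_centralizer_singleton_iff.2 (h1 a ha)
        exact Subgroup.mem_center_iff.2 fun y =>
          Subgroup.mem_centralizer_singleton_iff.1 (this (Subgroup.mem_top y))
      rw [← hgen', sup_le_iff, Subgroup.zpowers_le]
      refine ⟨?_, key _ (fun a ha => (hcomx a ha).symm) rfl⟩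
      rintro _ ⟨a, ha, rfl⟩
      exact key _ (fun b hb => by rw [← map_mul, hcomm b hb a ha, map_mul]) (hcomx a ha)
    rw [commutator_def]
    refine Subgroup.commutator_le.2 fun a _ b _ => (QuotientGroup.eq_one_iff _).1 ?_
    rw [← QuotientGroup.mk'_apply, map_commutatorElement]
    exact commutatorElement_eq_one_iff_mul_comm.2
      ((Subgroup.mem_center_iff.1 (hle (Subgroup.mem_top (f a))) (f b)).symm)
  refine ⟨hmem, fun c hc => ?_, hhom, ?_⟩
  · rw [← hrange] at hc
    obtain ⟨a, ha⟩ := hc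
    exact ⟨a, a.2, ha⟩
  · have hker : φ.ker = (A ⊓ Subgroup.centralizer ({x} : Set G)).subgroupOf A := by
      ext a
      simp only [φ, MonoidHom.mem_ker, MonoidHom.mk'_apply, Subgroup.mem_subgroupOf,
        Subgroup.mem_inf, Subgroup.mem_centralizer_singleton_iff, mul_inv_eq_one,
        mul_inv_eq_iff_eq_mul, a.2, true_and]
      rw [one_mul]
      exact eq_comm
    rw [← hrange, ← Nat.card_congr (Subgroup.subgroupOfEquivOfLe inf_le_left).toEquiv, ← hker,
      ← Subgroup.index_ker, mul_comm, Subgroup.card_mul_index]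

end Cfsg.Agent.S3866
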