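import Cfsg.Statements.S3867
import Cfsg.Agent.Lib.PGroup.SylowNumber
-- import your own Cfsg.Agent.* helpers here

set_option autoImplicit false
open Cfsg

namespace Cfsg.Agent.S3867

theorem card_sylow_of_surjective {A B : Type*} [Group A] [Finite A] [Group B] [Finite B] {p : ℕ}
    [Fact p.Prime] (f : A →* B) (hf : Function.Surjective f) (hk : IsPGroup p f.ker) :
    Nat.card (Sylow p A) = Nat.card (Sylow p B) := by
  refine Nat.card_congr (Equiv.ofBijective _ ⟨?_, Sylow.mapSurjective_surjective hf p⟩)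
  intro P Q h
  have h' : (P : Subgroup A).map f = (Q : Subgroup A).map f := congrArg Sylow.toSubgroup h
  refine Sylow.ext ?_
  rw [← Subgroup.comap_map_eq_self (f := f) (hk.le_sylow_of_normal P), h',
    Subgroup.comap_map_eq_self (hk.le_sylow_of_normal Q)]

/-- Let M and N be nontrivial normal subgroups of the finite group G with M ⊓ N trivial, and let p be a prime. Writing n(X) for the number of Sylow p-subgroups of a group X, one has n(G) · n(G/MN) = n(G/M) · n(G/N). -/
theorem result {G : Type*} [Group G] [Finite G] (p : ℕ) [Fact p.Prime] (M N : Subgroup G) [M.Normal] [N.Normal] (hM : M ≠ ⊥) (hN : N ≠ ⊥) (hMN : M ⊓ N = ⊥) : Nat.card (Sylow p G) * Nat.card (Sylow p (G ⧸ (M ⊔ N))) = Nat.card (Sylow p (G ⧸ M)) * Nat.card (Sylow p (G ⧸ N)) := by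
  obtain ⟨P⟩ : Nonempty (Sylow p G) := inferInstance
  set fM := QuotientGroup.mk' M
  let Pb : Sylow p (G ⧸ M) := P.mapSurjective (QuotientGroup.mk'_surjective M)
  haveI : (N.map fM).Normal := Subgroup.Normal.map inferInstance _ (QuotientGroup.mk'_surjective M)
  have h1 := CfsgLib.PGroup.SylowNum.card_sylow_quotient_mul P N
  have h2 := CfsgLib.PGroup.SylowNum.card_sylow_quotient_mul Pb (N.map fM)
  -- the third isomorphism theorem
  let g : G →* (G ⧸ M) ⧸ N.map fM := (QuotientGroup.mk' (N.map fM)).comp fM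
  have hgker : g.ker = M ⊔ N := by
    rw [← MonoidHom.comap_ker, QuotientGroup.ker_mk', Subgroup.comap_map_eq, QuotientGroup.ker_mk', sup_comm]
  have hgs : Function.Surjective g := (QuotientGroup.mk'_surjective _).comp (QuotientGroup.mk'_surjective _)
  let e : G ⧸ (M ⊔ N) ≃* (G ⧸ M) ⧸ N.map fM :=
    (QuotientGroup.quotientMulEquivOfEq hgker.symm).trans (QuotientGroup.quotientKerEquivOfSurjective g hgs)
  have h3 : Nat.card (Sylow p (G ⧸ (M ⊔ N))) = Nat.card (Sylow p ((G ⧸ M) ⧸ N.map fM)) :=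
    card_sylow_of_surjective e.toMonoidHom e.surjective
      (IsPGroup.of_card (n := 0) (by rw [pow_zero, Subgroup.card_eq_one, (MonoidHom.ker_eq_bot_iff e.toMonoidHom).2 e.injective]))
  -- `P N` and its image
  have hmap : ((P : Subgroup G) ⊔ N).map fM = (Pb : Subgroup (G ⧸ M)) ⊔ N.map fM := by
    rw [Subgroup.map_sup]; rfl
  have h4 : Nat.card (Sylow p ((P : Subgroup G) ⊔ N : Subgroup G)) =
      Nat.card (Sylow p ((Pb : Subgroup (G ⧸ M)) ⊔ N.map fM : Subgroup (G ⧸ M))) := by
    rw [← hmap]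
    refine card_sylow_of_surjective (fM.subgroupMap _) (fM.subgroupMap_surjective _) ?_
    -- the kernel is a `p`-group
    intro x
    have hxM : ((x : ((P : Subgroup G) ⊔ N : Subgroup G)) : G) ∈ M :=
      (QuotientGroup.eq_one_iff _).1 (congrArg Subtype.val x.2)
    have hx := x.1.2
    rw [← SetLike.mem_coe, Subgroup.mul_normal] at hx
    obtain ⟨u, hu, n, hn, hun⟩ := hx
    obtain ⟨k, hk⟩ := P.isPGroup' ⟨u, hu⟩
    have hk' : u ^ p ^ k = 1 := congrArg Subtype.val hk
    refine ⟨k, Subtype.ext (Subtype.ext ?_)⟩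
    change ((x : ((P : Subgroup G) ⊔ N : Subgroup G)) : G) ^ p ^ k = 1
    have hN' : ((x : ((P : Subgroup G) ⊔ N : Subgroup G)) : G) ^ p ^ k ∈ N := by
      rw [← QuotientGroup.eq_one_iff, QuotientGroup.mk_pow, ← hun, QuotientGroup.mk_mul,
        (QuotientGroup.eq_one_iff n).2 hn, mul_one, ← QuotientGroup.mk_pow, hk', QuotientGroup.mk_one]
    exact (Subgroup.eq_bot_iff_forall _).1 hMN _ (Subgroup.mem_inf.2 ⟨pow_mem hxM _, hN'⟩)
  rw [h1, h2, h4, h3]
  ring

end Cfsg.Agent.S3867
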