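import Cfsg.Statements.S3868
import Cfsg.Agent.Lib.PGroup.MinimalPClosed
-- import your own Cfsg.Agent.* helpers here

set_option autoImplicit false
open Cfsg

namespace Cfsg.Agent.S3868

/-- Structure of the non-simple minimal non-p-closed groups. Call a finite group p-closed when its Sylow p-subgroups are normal, and minimal non-p-closed when it is not p-closed but every proper subgroup and every proper quotient is. If such a group G is not simple, then there is a prime q ≠ p such that G has order p · q^e, where e is the multiplicative order of q modulo p, and G has a normal subgroup A of order q^e that is elementary abelian and is a minimal normal subgroup of G (so G is the semidirect product of A by a group of order p acting irreducibly). -/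
theorem result {G : Type*} [Group G] [Finite G] {p : ℕ} [Fact p.Prime]
    (hnc : ¬ Cfsg.IsPClosed p G) (hsub : ∀ H : Subgroup G, H ≠ ⊤ → Cfsg.IsPClosed p ↥H)
    (hquo : ∀ (N : Subgroup G) [N.Normal], N ≠ ⊥ → Cfsg.IsPClosed p (G ⧸ N)) (hns : ¬ IsSimpleGroup G) :
    ∃ q : ℕ, q.Prime ∧ q ≠ p ∧ Nat.card G = p * q ^ orderOf (q : ZMod p) ∧
      ∃ A : Subgroup G, A.Normal ∧ Nat.card ↥A = q ^ orderOf (q : ZMod p) ∧ Cfsg.IsElementaryAbelian q A ∧
        ∀ B : Subgroup G, B.Normal → B ≤ A → B = ⊥ ∨ B = A := by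
  classical
  obtain ⟨P, hP⟩ : ∃ P : Sylow p G, ¬ (P : Subgroup G).Normal := by
    by_contra h
    push Not at h
    exact hnc h
  haveI : Nontrivial G := by
    by_contra h
    rw [not_nontrivial_iff_subsingleton] at h
    exact hP ⟨fun n hn g => by rwa [Subsingleton.elim (g * n * g⁻¹) n]⟩
  obtain ⟨N0, hN0n, hN0b, hN0t⟩ : ∃ N : Subgroup G, N.Normal ∧ N ≠ ⊥ ∧ N ≠ ⊤ := by
    by_contra h
    push Not at h
    exact hns ⟨fun N hN => or_iff_not_imp_left.2 fun hb => h N hN hb⟩
  have hjoin : ∀ M : Subgroup G, M.Normal → M ≠ ⊥ → (P : Subgroup G) ⊔ M = ⊤ := by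
    intro M hM hMb
    haveI := hM
    by_contra hne
    have hn := hquo M hMb (P.mapSurjective (QuotientGroup.mk'_surjective M))
    rw [Sylow.coe_mapSurjective] at hn
    haveI hsn : ((P : Subgroup G) ⊔ M).Normal := by
      have := hn.comap (QuotientGroup.mk' M)
      rwa [Subgroup.comap_map_eq, QuotientGroup.ker_mk'] at this
    exact hP (CfsgLib.PGroup.normal_sylow_of_le_normal P _ le_sup_left (hsub _ hne))
  have hp' : ∀ M : Subgroup G, M.Normal → M ≠ ⊥ → M ≠ ⊤ → ¬ p ∣ Nat.card M := by
    intro M hM hMb hMt hd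
    haveI := hM
    let S : Sylow p M := default
    haveI := hsub M hMt S
    haveI : (S : Subgroup M).Characteristic := Sylow.characteristic_of_normal _ inferInstance
    have hSn : ((S : Subgroup M).map M.subtype).Normal := inferInstance
    have hSp : IsPGroup p ((S : Subgroup M).map M.subtype) := S.isPGroup'.map _
    have hSb : (S : Subgroup M).map M.subtype ≠ ⊥ := by
      rw [Ne, Subgroup.map_eq_bot_iff_of_injective _ M.subtype_injective]
      exact S.ne_bot_of_dvd_card hd
    have h1 := hjoin _ hSn hSb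
    rw [sup_eq_left.2 (hSp.le_sylow_of_normal P)] at h1
    rw [h1] at hP
    exact hP inferInstance
  obtain ⟨N, hN⟩ := (Set.toFinite {N : Subgroup G | N.Normal ∧ N ≠ ⊥ ∧ N ≠ ⊤}).exists_minimal
    ⟨N0, hN0n, hN0b, hN0t⟩
  obtain ⟨⟨hNn, hNb, hNt⟩, hNmin⟩ := hN
  haveI := hNn
  have hcardM : ∀ M : Subgroup G, M.Normal → M ≠ ⊥ → M ≠ ⊤ → M.index = Nat.card (P : Subgroup G) := by
    intro M hM hMb hMt
    haveI := hM
    have h1 := CfsgLib.PGroup.card_sup_dvd_of_normal (P : Subgroup G) M
    rw [hjoin M hM hMb, Subgroup.card_top, ← M.index_mul_card] at h1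
    refine Nat.dvd_antisymm (Nat.dvd_of_mul_dvd_mul_right Nat.card_pos h1) ?_
    have hcop : (Nat.card (P : Subgroup G)).Coprime (Nat.card M) := by
      obtain ⟨j, hj⟩ := IsPGroup.iff_card.1 P.isPGroup'
      rw [hj]
      exact ((Fact.out : p.Prime).coprime_iff_not_dvd.2 (hp' M hM hMb hMt)).pow_left j
    refine hcop.dvd_of_dvd_mul_right ?_
    rw [M.index_mul_card]
    exact Subgroup.card_subgroup_dvd_card _
  refine CfsgLib.PGroup.minimal_structure P N hP (hjoin N hNn hNb) (hp' N hNn hNb hNt) hNb
    (fun M hM hMb => ?_) (fun R Q hR hQ hRQ hne => ?_)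
  · by_cases hMt : M = ⊤
    · rw [hMt]; exact le_top
    haveI := hM
    by_contra hle
    -- the join of the two would still be a proper normal subgroup
    have hpd : ¬ p ∣ Nat.card (N ⊔ M : Subgroup G) := fun hd =>
      (Fact.out : p.Prime).not_dvd_mul (hp' N hNn hNb hNt) (hp' M hM hMb hMt)
        (hd.trans (CfsgLib.PGroup.card_sup_dvd_of_normal N M))
    have hb : N ⊔ M ≠ ⊥ := fun h => hNb (le_bot_iff.1 (h ▸ le_sup_left))
    have ht : N ⊔ M ≠ ⊤ := by
      intro h
      rw [h, Subgroup.card_top] at hpd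
      refine hP ?_
      have : (P : Subgroup G) = ⊥ := by
        refine Subgroup.eq_bot_of_card_eq _ ?_
        rw [P.card_eq_multiplicity, Nat.factorization_eq_zero_of_not_dvd hpd, pow_zero]
      rw [this]; infer_instance
    have e1 := hcardM N hNn hNb hNt
    have e2 := hcardM M hM hMb hMt
    have e3 := hcardM _ inferInstance hb ht
    have f1 : N = N ⊔ M := Subgroup.eq_of_le_of_card_ge le_sup_left (by
      have a := N.index_mul_card; have b := (N ⊔ M).index_mul_card
      rw [e1] at a; rw [e3, ← a] at b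
      exact (Nat.eq_of_mul_eq_mul_left Nat.card_pos b).le)
    have f2 : M = N ⊔ M := Subgroup.eq_of_le_of_card_ge le_sup_right (by
      have a := M.index_mul_card; have b := (N ⊔ M).index_mul_card
      rw [e2] at a; rw [e3, ← a] at b
      exact (Nat.eq_of_mul_eq_mul_left Nat.card_pos b).le)
    exact hle (f1.trans f2.symm).le
  · exact CfsgLib.PGroup.le_normalizer_of_isPClosed (P.isPGroup'.to_le hR) hRQ
      (fun hd => hp' N hNn hNb hNt (hd.trans (Subgroup.card_dvd_of_le hQ))) (hsub _ hne)

end Cfsg.Agent.S3868
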