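import Cfsg.Statements.S3869
import Cfsg.Agent.Lib.PGroup.MinimalPClosed
-- import your own Cfsg.Agent.* helpers here

set_option autoImplicit false
open Cfsg

namespace Cfsg.Agent.S3869

/-- Let p and q be distinct primes and G a finite non-abelian group with a normal elementary abelian q-subgroup A that is a minimal normal subgroup of G and has index p. Then A has order q^e with e the multiplicative order of q modulo p, and G is minimal non-p-closed: its Sylow p-subgroups are not normal, while in every proper subgroup and in every proper quotient of G the Sylow p-subgroups are normal. -/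
theorem result {G : Type*} [Group G] [Finite G] {p q : ℕ} [Fact p.Prime] (hq : q.Prime) (hpq : q ≠ p)
    (hna : ¬ IsMulCommutative G) (A : Subgroup G) [A.Normal] (hA : Cfsg.IsElementaryAbelian q A) (hidx : A.index = p)
    (hmin : ∀ B : Subgroup G, B.Normal → B ≤ A → B = ⊥ ∨ B = A) :
    Nat.card ↥A = q ^ orderOf (q : ZMod p) ∧ ¬ Cfsg.IsPClosed p G ∧ (∀ H : Subgroup G, H ≠ ⊤ → Cfsg.IsPClosed p ↥H) ∧
      ∀ (N : Subgroup G) [N.Normal], N ≠ ⊥ → Cfsg.IsPClosed p (G ⧸ N) := by
  classical
  have hp : p.Prime := Fact.out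
  haveI := Fact.mk hq
  haveI hAc := hA.1
  have hAq : IsPGroup q A := fun a => ⟨1, Subtype.ext (by simpa using hA.2 a a.2)⟩
  have hAp : ¬ p ∣ Nat.card A := by
    obtain ⟨j, hj⟩ := IsPGroup.iff_card.1 hAq
    rw [hj]
    exact fun hd => hpq ((Nat.prime_dvd_prime_iff_eq hp hq).1 (hp.dvd_of_dvd_pow hd)).symm
  obtain ⟨x, hx⟩ := exists_prime_orderOf_dvd_card' p (hidx ▸ A.index_dvd_card)
  have hxA : x ∉ A := fun h => hAp (hx ▸ A.orderOf_dvd_natCard h)
  have hgen : A ⊔ Subgroup.zpowers x = ⊤ := by
    refine Subgroup.index_eq_one.1 ?_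
    have h1 : (A ⊔ Subgroup.zpowers x).index ∣ p := hidx ▸ Subgroup.index_dvd_of_le le_sup_left
    rcases (Nat.dvd_prime hp).1 h1 with h | h
    · exact h
    · have h2 := Subgroup.relIndex_mul_index (le_sup_left : A ≤ A ⊔ Subgroup.zpowers x)
      rw [h, hidx] at h2
      have h3 : A.relIndex (A ⊔ Subgroup.zpowers x) = 1 :=
        Nat.eq_of_mul_eq_mul_right hp.pos (by rw [h2, one_mul])
      exact absurd ((le_sup_right.trans (Subgroup.relIndex_eq_one.1 h3))
        (Subgroup.mem_zpowers x)) hxA
  have hcomm : (∀ a ∈ A, Commute x a) → False := by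
    intro h
    refine hna ⟨⟨fun g₁ g₂ => ?_⟩⟩
    have key : ∀ g : G, g ∈ Subgroup.center G := by
      intro g
      have hg : g ∈ A ⊔ Subgroup.zpowers x := hgen ▸ Subgroup.mem_top g
      refine (sup_le ?_ (Subgroup.zpowers_le.2 ?_) : A ⊔ Subgroup.zpowers x ≤ Subgroup.center G) hg
      · intro a ha
        rw [Subgroup.mem_center_iff]
        intro u
        have hu : u ∈ A ⊔ Subgroup.zpowers x := hgen ▸ Subgroup.mem_top u
        have hle : A ⊔ Subgroup.zpowers x ≤ Subgroup.centralizer ({a} : Set G) := sup_le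
          (fun b hb => Subgroup.mem_centralizer_singleton_iff.2
            (congrArg Subtype.val (mul_comm' (⟨b, hb⟩ : A) ⟨a, ha⟩)))
          (Subgroup.zpowers_le.2 (Subgroup.mem_centralizer_singleton_iff.2 (h a ha).eq))
        exact Subgroup.mem_centralizer_singleton_iff.1 (hle hu)
      · rw [Subgroup.mem_center_iff]
        intro u
        have hu : u ∈ A ⊔ Subgroup.zpowers x := hgen ▸ Subgroup.mem_top u
        have hle : A ⊔ Subgroup.zpowers x ≤ Subgroup.centralizer ({x} : Set G) := sup_le
          (fun b hb => Subgroup.mem_centralizer_singleton_iff.2 (h b hb).eq.symm)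
          (Subgroup.zpowers_le.2 (Subgroup.mem_centralizer_singleton_iff.2 rfl))
        exact Subgroup.mem_centralizer_singleton_iff.1 (hle hu)
    exact Subgroup.mem_center_iff.1 (key g₂) g₁
  have hxC : x ∉ Subgroup.centralizer (A : Set G) := fun h =>
    hcomm fun a ha => (Subgroup.mem_centralizer_iff.1 h a ha).symm
  have hcard := CfsgLib.PGroup.card_of_minimal_normal_operator hp hq hpq A hA
    (orderOf_dvd_iff_pow_eq_one.1 hx.dvd) hxC hgen hmin
  have hPp : IsPGroup p (Subgroup.zpowers x) :=
    IsPGroup.of_card (n := 1) (by rw [Nat.card_zpowers, hx, pow_one])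
  refine ⟨hcard, ?_, fun H hH => ?_, fun N _ hNb => ?_⟩
  · intro hcl
    obtain ⟨P, hP⟩ := hPp.exists_le_sylow
    haveI := hcl P
    have hd : Disjoint (P : Subgroup G) A := by
      refine Subgroup.disjoint_of_coprime_natCard ?_
      obtain ⟨j, hj⟩ := IsPGroup.iff_card.1 P.isPGroup'
      rw [hj]; exact (hp.coprime_iff_not_dvd.2 hAp).pow_left j
    exact hcomm fun a ha => Subgroup.commute_of_normal_of_disjoint _ _ (hcl P) inferInstance hd
      x a (hP (Subgroup.mem_zpowers x)) ha
  · by_cases hHA : H ≤ A
    · intro P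
      have : (P : Subgroup H) = ⊥ := by
        refine Subgroup.eq_bot_of_card_eq _ ?_
        rw [P.card_eq_multiplicity, Nat.factorization_eq_zero_of_not_dvd
          (fun hd => hAp (hd.trans (Subgroup.card_dvd_of_le hHA))), pow_zero]
      rw [this]; infer_instance
    have hsup : H ⊔ A = ⊤ := by
      refine Subgroup.index_eq_one.1 ?_
      rcases (Nat.dvd_prime hp).1 (hidx ▸ Subgroup.index_dvd_of_le (le_sup_right : A ≤ H ⊔ A)) with h | h
      · exact h
      · have h2 := Subgroup.relIndex_mul_index (le_sup_right : A ≤ H ⊔ A)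
        rw [h, hidx] at h2
        have h3 : A.relIndex (H ⊔ A) = 1 := Nat.eq_of_mul_eq_mul_right hp.pos (by rw [h2, one_mul])
        exact absurd (le_sup_left.trans (Subgroup.relIndex_eq_one.1 h3)) hHA
    have hn : (H ⊓ A).Normal := by
      rw [← Subgroup.normalizer_eq_top_iff, eq_top_iff, ← hsup]
      refine sup_le (fun u hu => ?_) ?_
      · rw [Subgroup.mem_normalizer_iff_map_conj_eq, Subgroup.map_inf _ _ _ (MulEquiv.injective _),
          Subgroup.mem_normalizer_iff_map_conj_eq.1 (Subgroup.le_normalizer hu),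
          Subgroup.mem_normalizer_iff_map_conj_eq.1 (by rw [Subgroup.normalizer_eq_top]; trivial)]
      · exact (Subgroup.le_centralizer_iff.1 (inf_le_right.trans (Subgroup.le_centralizer A))).trans
          (Subgroup.centralizer_le_normalizer _)
    rcases hmin _ hn inf_le_right with h | h
    · intro P
      have hHc : Nat.card H ∣ p := by
        have hi : Function.Injective ((QuotientGroup.mk' A).comp H.subtype) := by
          rw [← MonoidHom.ker_eq_bot_iff, eq_bot_iff]
          intro u hu
          have h1 : (u : G) ∈ H ⊓ A := ⟨u.2, (QuotientGroup.eq_one_iff _).1 hu⟩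
          rw [h, Subgroup.mem_bot] at h1
          exact Subtype.ext h1
        exact hidx ▸ Subgroup.card_dvd_of_injective _ hi
      have hHp : IsPGroup p H := by
        obtain ⟨k, -, hk⟩ := (Nat.dvd_prime_pow (m := 1) (i := Nat.card H) hp).1 ((pow_one p).symm ▸ hHc)
        exact IsPGroup.of_card hk
      have : (P : Subgroup H) = ⊤ := by
        refine (P.3 ?_ le_top).symm
        exact hHp.to_subgroup ⊤
      rw [this]; infer_instance
    · exact absurd (top_le_iff.1 (hsup ▸ sup_le le_rfl (h ▸ inf_le_left))) hH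
  · have hAN : A ≤ N := by
      rcases hmin (N ⊓ A) inferInstance inf_le_right with h | h
      · exfalso
        have hd : Disjoint N A := disjoint_iff.2 h
        obtain ⟨⟨n, hn⟩, hn1⟩ := N.ne_bot_iff_exists_ne_one.1 hNb
        have hn' : n ∈ A ⊔ Subgroup.zpowers x := hgen ▸ Subgroup.mem_top n
        obtain ⟨a, ha, y, hy, hay⟩ := Subgroup.mem_sup_of_normal_left.1 hn'
        obtain ⟨k, hk⟩ := hy
        have hy1 : y ≠ 1 := by
          rintro rfl
          have : n ∈ N ⊓ A := ⟨hn, by rw [← hay, mul_one]; exact ha⟩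
          rw [h, Subgroup.mem_bot] at this
          exact hn1 (Subtype.ext this)
        have hyc : ∀ b ∈ A, Commute y b := by
          intro b hb
          have h1 : Commute n b :=
            Subgroup.commute_of_normal_of_disjoint _ _ ‹N.Normal› inferInstance hd n b hn hb
          have h2 : Commute a b := congrArg Subtype.val (mul_comm' (⟨a, ha⟩ : A) ⟨b, hb⟩)
          have : y = a⁻¹ * n := by rw [← hay]; group
          rw [this]
          exact h2.inv_left.mul_left h1
        have hy' : orderOf y = p := by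
          refine orderOf_eq_prime ?_ hy1
          rw [← hk]
          show (x ^ k) ^ p = 1
          rw [← zpow_natCast, ← zpow_mul, mul_comm, zpow_mul, zpow_natCast,
            orderOf_dvd_iff_pow_eq_one.1 hx.dvd, one_zpow]
        have hx' : x ∈ Subgroup.zpowers y := by
          rw [Subgroup.eq_of_le_of_card_ge (Subgroup.zpowers_le.2 ⟨k, hk⟩ :
            Subgroup.zpowers y ≤ Subgroup.zpowers x) (by rw [Nat.card_zpowers, Nat.card_zpowers, hx, hy'])]
          exact Subgroup.mem_zpowers x
        obtain ⟨l, rfl⟩ := hx'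
        exact hcomm fun b hb => (hyc b hb).zpow_left l
      · exact h ▸ inf_le_left
    intro P
    have hpg : IsPGroup p (G ⧸ N) := by
      refine IsPGroup.of_surjective ?_ (QuotientGroup.map A N (MonoidHom.id G) hAN)
        (fun u => ?_)
      · exact IsPGroup.of_card (n := 1) (by rw [pow_one]; exact hidx)
      · obtain ⟨g, rfl⟩ := QuotientGroup.mk_surjective u
        exact ⟨(g : G ⧸ A), rfl⟩
    have : (P : Subgroup (G ⧸ N)) = ⊤ := (P.3 (hpg.to_subgroup ⊤) le_top).symm
    rw [this]; infer_instance

end Cfsg.Agent.S3869
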