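import Cfsg.Statements.S3870
import Cfsg.Agent.Lib.Coprime.Core

set_option autoImplicit false
set_option linter.style.haveILetI false
open Cfsg

namespace Cfsg.Agent.S3870

/-- Let G be a finite simple group whose Sylow p-subgroups are not normal but such that every proper subgroup of G has a normal Sylow p-subgroup. Then any two distinct Sylow p-subgroups of G intersect trivially, and for every Sylow p-subgroup P the normalizer of every non-identity subgroup of P lies in the normalizer of P. -/
theorem result {G : Type*} [Group G] [Finite G] [IsSimpleGroup G] {p : ℕ} [Fact p.Prime]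
    (hnc : ¬ Cfsg.IsPClosed p G) (hsub : ∀ H : Subgroup G, H ≠ ⊤ → Cfsg.IsPClosed p ↥H) :
    (∀ P Q : Sylow p G, P ≠ Q → (P : Subgroup G) ⊓ (Q : Subgroup G) = ⊥) ∧
      ∀ (P : Sylow p G) (R : Subgroup G), R ≤ P → R ≠ ⊥ →
        Subgroup.normalizer (R : Set G) ≤ Subgroup.normalizer ((P : Subgroup G) : Set G) := by
  have TI : ∀ P Q : Sylow p G, P ≠ Q → (P : Subgroup G) ⊓ (Q : Subgroup G) = ⊥ := by
    by_contra hcon
    push Not at hcon
    obtain ⟨P₁, Q₁, h1, h2⟩ := hcon
    obtain ⟨D, ⟨hD0, P, Q, hPQ, rfl⟩, hmax⟩ := (Set.toFinite {D : Subgroup G |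
      D ≠ ⊥ ∧ ∃ P Q : Sylow p G, P ≠ Q ∧ D = (P : Subgroup G) ⊓ Q}).exists_maximal
      ⟨_, h2, P₁, Q₁, h1, rfl⟩
    set D := (P : Subgroup G) ⊓ Q with hD
    set N := Subgroup.normalizer (D : Set G) with hN
    have hNtop : N ≠ ⊤ := by
      intro e
      have hDn : D.Normal := Subgroup.normalizer_eq_top_iff.1 e
      rcases IsSimpleGroup.eq_bot_or_eq_top_of_normal D hDn with h | h
      · exact hD0 h
      · exact hPQ (Sylow.ext ((top_le_iff.1 (h.ge.trans inf_le_left)).trans
          (top_le_iff.1 (h.ge.trans inf_le_right)).symm))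
    obtain ⟨R, hRn⟩ : ∃ R : Sylow p N, (R : Subgroup N).Normal :=
      ⟨default, hsub N hNtop default⟩
    obtain ⟨S, hS⟩ := (R.isPGroup'.map N.subtype).exists_le_sylow
    have key : ∀ T : Sylow p G, D ≤ (T : Subgroup G) → D ≠ (T : Subgroup G) → T = S := by
      intro T hDT hne
      have hgrow : D < (T : Subgroup G) ⊓ N := by
        haveI := T.isPGroup'.isNilpotent
        have h := Group.normalizerCondition_of_isNilpotent (D.subgroupOf (T : Subgroup G))
          (lt_top_iff_ne_top.2 fun e => hne (le_antisymm hDT (Subgroup.subgroupOf_eq_top.1 e)))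
        refine lt_of_le_of_ne (le_inf hDT Subgroup.le_normalizer) fun e => h.not_ge ?_
        intro z hz
        show (z : G) ∈ D
        rw [e]
        refine ⟨z.2, Subgroup.mem_normalizer_iff.2 fun w => ?_⟩
        constructor
        · intro hw
          exact (Subgroup.mem_normalizer_iff.1 hz ⟨w, hDT hw⟩).1 hw
        · intro hw
          have hw' : w ∈ (T : Subgroup G) := by
            have := (T : Subgroup G).mul_mem
              ((T : Subgroup G).mul_mem ((T : Subgroup G).inv_mem z.2) (hDT hw)) z.2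
            simpa [mul_assoc] using this
          exact (Subgroup.mem_normalizer_iff.1 hz ⟨w, hw'⟩).2 hw
      have hTN : (T : Subgroup G) ⊓ N ≤ (S : Subgroup G) := by
        obtain ⟨R', hR'⟩ := (T.isPGroup'.comap_of_injective N.subtype N.subtype_injective).exists_le_sylow
        haveI := Sylow.unique_of_normal R hRn
        rw [Subsingleton.elim R' R] at hR'
        exact fun z hz => hS ⟨⟨z, hz.2⟩, hR' hz.1, rfl⟩
      by_contra hTS
      have hlt : D < (T : Subgroup G) ⊓ S := hgrow.trans_le (le_inf inf_le_left hTN)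
      exact hlt.not_ge (hmax ⟨ne_bot_of_le_ne_bot hD0 hlt.le, T, S, hTS, rfl⟩ hlt.le)
    refine hPQ ((key P inf_le_left ?_).trans (key Q inf_le_right ?_).symm)
    · intro e
      exact hPQ (Sylow.ext (P.3 Q.isPGroup' (e ▸ inf_le_right)).symm)
    · intro e
      exact hPQ (Sylow.ext (Q.3 P.isPGroup' (e ▸ inf_le_left)))
  refine ⟨TI, fun P R hRP hR1 g hg => ?_⟩
  refine Sylow.smul_eq_iff_mem_normalizer.1 ?_
  by_contra hne
  refine hR1 (le_bot_iff.1 ?_)
  rw [← TI (g • P) P hne]
  refine le_inf (fun r hr => ⟨g⁻¹ * r * g, hRP ?_, ?_⟩) hRP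
  · simpa using (Subgroup.mem_normalizer_iff.1 (Subgroup.inv_mem _ hg) r).1 hr
  · simp [MulAut.conj_apply, mul_assoc]

end Cfsg.Agent.S3870
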