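import Cfsg.Statements.S3872
-- import your own Cfsg.Agent.* helpers here
import Mathlib
import Cfsg.Agent.S4209
import Cfsg.Agent.Lib.PGroup.RegularOmega
import Cfsg.Agent.Lib.PGroup.MaxClassSeries
import Cfsg.Agent.Lib.Coprime.UniqueOrderP

set_option autoImplicit false
open Cfsg

namespace Cfsg.Agent.S3872

open scoped commutatorElement

/-- Say that a finite group is p-exponent closed when its elements of order dividing p form a subgroup. Let G be a finite p-group that is not p-exponent closed, but all of whose proper subgroups and proper quotients are. Then G is generated by two elements, has nilpotency class at least p, has exponent p², has cyclic center, and has order at least p^(p+1). -/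
theorem result {G : Type*} [Group G] [Finite G] {p : ℕ} [Fact p.Prime] (hG : IsPGroup p G)
    (hnc : ¬ (∃ H : Subgroup G, (H : Set G) = {g : G | g ^ p = 1})) (hsub : ∀ K : Subgroup G, K ≠ ⊤ → (∃ H : Subgroup ↥K, (H : Set ↥K) = {g : ↥K | g ^ p = 1}))
    (hquo : ∀ (N : Subgroup G) [N.Normal], N ≠ ⊥ → (∃ H : Subgroup (G ⧸ N), (H : Set (G ⧸ N)) = {g : (G ⧸ N) | g ^ p = 1})) :
    (∃ x y : G, Subgroup.closure ({x, y} : Set G) = ⊤) ∧ (⊤ : Subgroup G).lowerCentralSeries (p - 1) ≠ ⊥ ∧
      Monoid.exponent G = p ^ 2 ∧ IsCyclic ↥(Subgroup.center G) ∧ p ^ (p + 1) ≤ Nat.card G := by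
  classical
  have hp : p.Prime := Fact.out
  haveI := hG.isNilpotent
  obtain ⟨x, y, hx, hy, hxy⟩ : ∃ x y : G, x ^ p = 1 ∧ y ^ p = 1 ∧ (x * y) ^ p ≠ 1 := by
    by_contra! h
    exact hnc ⟨{ carrier := {g | g ^ p = 1}
                 one_mem' := one_pow p
                 mul_mem' := fun {a b} ha hb => h a b ha hb
                 inv_mem' := fun {a} ha => by
                   show a⁻¹ ^ p = 1
                   rw [inv_pow, show a ^ p = 1 from ha, inv_one] }, rfl⟩
  have hgen : Subgroup.closure ({x, y} : Set G) = ⊤ := by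
    by_contra hne
    obtain ⟨H, hH⟩ := hsub _ hne
    have hmem : ∀ g : ↥(Subgroup.closure ({x, y} : Set G)), g ∈ H ↔ g ^ p = 1 := fun g => Set.ext_iff.1 hH g
    have h1 : (⟨x, Subgroup.subset_closure (Or.inl rfl)⟩ : ↥(Subgroup.closure ({x, y} : Set G))) ∈ H :=
      (hmem _).2 (Subtype.ext hx)
    have h2 : (⟨y, Subgroup.subset_closure (Or.inr rfl)⟩ : ↥(Subgroup.closure ({x, y} : Set G))) ∈ H :=
      (hmem _).2 (Subtype.ext hy)
    exact hxy (congrArg Subtype.val ((hmem _).1 (mul_mem h1 h2)))
  have hquot : ∀ N : Subgroup G, N.Normal → N ≠ ⊥ → ∀ g : G, g ^ p ∈ N := by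
    intro N hN hne g
    obtain ⟨H, hH⟩ := @hquo N hN hne
    have hmem : ∀ q : G ⧸ N, q ∈ H ↔ q ^ p = 1 := fun q => Set.ext_iff.1 hH q
    have hle : Subgroup.closure ({x, y} : Set G) ≤ H.comap (QuotientGroup.mk' N) := by
      refine (Subgroup.closure_le _).2 ?_
      rintro _ (rfl | rfl)
      · exact (hmem _).2 (by rw [← map_pow, hx, map_one])
      · exact (hmem _).2 (by rw [← map_pow, hy, map_one])
    have hg : (QuotientGroup.mk' N g) ^ p = 1 := (hmem _).1 (hle (hgen.symm ▸ Subgroup.mem_top g))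
    rw [← map_pow] at hg
    exact (QuotientGroup.eq_one_iff _).1 hg
  have hexists : ∃ z : G, z ∈ Subgroup.center G ∧ orderOf z = p := by
    haveI : Nontrivial G := ⟨x * y, 1, fun h => hxy (by rw [h, one_pow])⟩
    haveI := hG.center_nontrivial
    obtain ⟨k, hk⟩ := IsPGroup.iff_card.1 (hG.to_subgroup (Subgroup.center G))
    have hk0 : k ≠ 0 := by
      rintro rfl
      exact Finite.one_lt_card.ne' (hk.trans (pow_zero p))
    obtain ⟨z, hz⟩ := exists_prime_orderOf_dvd_card' (G := Subgroup.center G) p (hk ▸ dvd_pow_self p hk0)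
    exact ⟨z, z.2, by rw [Subgroup.orderOf_coe, hz]⟩
  have hzN : ∀ z : G, z ∈ Subgroup.center G → (Subgroup.zpowers z).Normal := fun z hz => ⟨fun n hn g => by
    have hnc' : n ∈ Subgroup.center G := Subgroup.zpowers_le.2 hz hn
    rw [Subgroup.mem_center_iff.1 hnc' g, mul_inv_cancel_right]; exact hn⟩
  obtain ⟨z, hzc, hzo⟩ := hexists
  have hz1 : z ≠ 1 := fun h => hp.ne_one (by rw [← hzo, h, orderOf_one])
  have hpz : ∀ g : G, g ^ p ∈ Subgroup.zpowers z :=
    hquot _ (hzN z hzc) (by rwa [Ne, Subgroup.zpowers_eq_bot])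
  refine ⟨⟨x, y, hgen⟩, ?_⟩
  have hclass : (⊤ : Subgroup G).lowerCentralSeries (p - 1) ≠ ⊥ := by
    intro hcl
    have hreg := CfsgLib.RegularPowers.regular_pow_eq_iff (Cfsg.Agent.S4209.result hG hcl) x y⁻¹ 1
    rw [pow_one, inv_inv, hx, inv_pow, hy, inv_one] at hreg
    exact hxy (hreg.1 rfl)
  refine ⟨hclass, ?_, ?_, ?_⟩
  · have hd : Monoid.exponent G ∣ p ^ 2 := Monoid.exponent_dvd_of_forall_pow_eq_one fun g => by
      obtain ⟨i, hi⟩ := Subgroup.mem_zpowers_iff.1 (hpz g)
      rw [pow_two, pow_mul, ← hi, ← zpow_natCast, zpow_comm, zpow_natCast, ← hzo, pow_orderOf_eq_one, one_zpow]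
    obtain ⟨k, hk, hk'⟩ := (Nat.dvd_prime_pow hp).1 hd
    rcases (show k ≤ 1 ∨ k = 2 by omega) with h | rfl
    · exact absurd (orderOf_dvd_iff_pow_eq_one.1 ((Monoid.order_dvd_exponent (x * y)).trans
        (hk' ▸ (Nat.pow_dvd_pow p h).trans (pow_one p).dvd))) hxy
    · exact hk'
  · haveI : IsMulCommutative (Subgroup.center G) := inferInstance
    refine CfsgLib.Coprime.isCyclic_of_comm_of_unique (hG.to_subgroup _) ?_
    intro a b ha hb ha1
    have haz : ∀ a : Subgroup.center G, a ^ p = 1 → a ≠ 1 → (a : G) ∈ Subgroup.zpowers z ∧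
        Subgroup.zpowers (a : G) = Subgroup.zpowers z := by
      intro a ha ha1
      have hao : orderOf (a : G) = p := by
        rw [Subgroup.orderOf_coe]; exact orderOf_eq_prime ha ha1
      have hne : Subgroup.zpowers (a : G) ≠ ⊥ := by
        rw [Ne, Subgroup.zpowers_eq_bot]; exact fun h => ha1 (Subtype.ext h)
      have h2 := hquot _ (hzN _ a.2) hne (x * y)
      have h3 := hpz (x * y)
      have ho : orderOf ((x * y) ^ p) = p := by
        obtain ⟨i, hi⟩ := Subgroup.mem_zpowers_iff.1 h3
        refine orderOf_eq_prime ?_ hxy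
        rw [← hi, ← zpow_natCast, zpow_comm, zpow_natCast, ← hzo, pow_orderOf_eq_one, one_zpow]
      have e1 : Subgroup.zpowers ((x * y) ^ p) = Subgroup.zpowers (a : G) :=
        Subgroup.eq_of_le_of_card_ge (Subgroup.zpowers_le.2 h2) (by rw [Nat.card_zpowers, Nat.card_zpowers, ho, hao])
      have e2 : Subgroup.zpowers ((x * y) ^ p) = Subgroup.zpowers z :=
        Subgroup.eq_of_le_of_card_ge (Subgroup.zpowers_le.2 h3) (by rw [Nat.card_zpowers, Nat.card_zpowers, ho, hzo])
      exact ⟨(e1.symm.trans e2) ▸ Subgroup.mem_zpowers _, e1.symm.trans e2⟩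
    by_cases hb1 : b = 1
    · rw [hb1]; exact one_mem _
    obtain ⟨hbz, -⟩ := haz b hb hb1
    obtain ⟨-, hae⟩ := haz a ha ha1
    obtain ⟨i, hi⟩ := Subgroup.mem_zpowers_iff.1 (hae.symm ▸ hbz : (b : G) ∈ Subgroup.zpowers (a : G))
    exact ⟨i, Subtype.ext (by simpa using hi)⟩
  · obtain ⟨r, hr⟩ := IsPGroup.iff_card.1 hG
    have hr2 : 2 ≤ r := by
      by_contra h
      have hd := (orderOf_dvd_natCard (x * y)).trans (hr ▸ (Nat.pow_dvd_pow p (show r ≤ 1 by omega)).trans (pow_one p).dvd)
      exact hxy (orderOf_dvd_iff_pow_eq_one.1 hd)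
    have hidx := CfsgLib.PGroup.two_le_index_commutator hG hr hr2
    set L := fun i => (⊤ : Subgroup G).lowerCentralSeries i with hL
    have hstep : ∀ i, L i ≠ ⊥ → p * Nat.card (L (i + 1)) ≤ Nat.card (L i) := by
      intro i hi
      have hle : L (i + 1) ≤ L i := Subgroup.lowerCentralSeries_antitone _ (Nat.le_succ i)
      have hne : L (i + 1) ≠ L i := fun e => by
        have hall : ∀ j, L i ≤ L j := by
          intro j
          induction j with
          | zero => exact Subgroup.lowerCentralSeries_antitone _ (Nat.zero_le i)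
          | succ j hj =>
            rw [← e]
            show (⊤ : Subgroup G).lowerCentralSeries (i + 1) ≤ (⊤ : Subgroup G).lowerCentralSeries (j + 1)
            rw [Subgroup.lowerCentralSeries_succ, Subgroup.lowerCentralSeries_succ]
            exact Subgroup.commutator_mono hj le_rfl
        obtain ⟨j, hj⟩ := Subgroup.nilpotent_iff_lowerCentralSeries.1 (inferInstance : Group.IsNilpotent G)
        exact hi (le_bot_iff.1 ((hall j).trans hj.le))
      obtain ⟨k, hk⟩ := (hG.to_subgroup (L i)).index ((L (i + 1)).subgroupOf (L i))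
      have hmul := ((L (i + 1)).subgroupOf (L i)).card_mul_index
      rw [Nat.card_congr (Subgroup.subgroupOfEquivOfLe hle).toEquiv, hk] at hmul
      rcases Nat.eq_zero_or_pos k with rfl | hk0
      · rw [pow_zero, mul_one] at hmul
        exact absurd (Subgroup.eq_of_le_of_card_ge hle hmul.ge) hne
      · rw [← hmul, mul_comm p]
        exact Nat.mul_le_mul_left _ (Nat.le_self_pow hk0.ne' p)
    have hall : ∀ j, j + 1 ≤ p - 1 → p ^ (j + 1) ≤ Nat.card (L (p - 1 - j)) := by
      intro j
      induction j with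
      | zero =>
        intro _
        obtain ⟨k, hk⟩ := IsPGroup.iff_card.1 (hG.to_subgroup (L (p - 1)))
        rcases Nat.eq_zero_or_pos k with rfl | hk0
        · exact absurd (Subgroup.card_eq_one.1 (hk.trans (pow_zero p))) hclass
        · show p ^ 1 ≤ Nat.card (L (p - 1))
          rw [pow_one, hk]; exact Nat.le_self_pow hk0.ne' p
      | succ j hj =>
        intro hjp
        have h := hj (by omega)
        have hne : L (p - 1 - (j + 1)) ≠ ⊥ := fun e => hclass (le_bot_iff.1
          ((Subgroup.lowerCentralSeries_antitone _ (Nat.sub_le _ _)).trans e.le))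
        have h2 := hstep _ hne
        rw [show p - 1 - (j + 1) + 1 = p - 1 - j by omega] at h2
        calc p ^ (j + 1 + 1) = p * p ^ (j + 1) := pow_succ' p _
          _ ≤ _ := (Nat.mul_le_mul_left p h).trans h2
    have hp2 := hp.two_le
    have h1 : p ^ (p - 1) ≤ Nat.card (commutator G) := by
      have h := hall (p - 2) (by omega)
      rw [show p - 2 + 1 = p - 1 by omega, show p - 1 - (p - 2) = 1 by omega] at h
      simpa [hL, Subgroup.lowerCentralSeries_succ, commutator_def] using h
    rw [← (commutator G).card_mul_index, show p + 1 = p - 1 + 2 by omega, pow_add]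
    exact Nat.mul_le_mul h1 hidx

end Cfsg.Agent.S3872
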