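import Cfsg.Statements.S3873
import Cfsg.Agent.Lib.PGroup.MinimalPClosed
-- import your own Cfsg.Agent.* helpers here

set_option autoImplicit false
open Cfsg

namespace Cfsg.Agent.S3873

/-- Say that a finite group is p-exponent closed when its elements of order dividing p form a subgroup. Let G be a finite group that is not p-exponent closed, but all of whose proper subgroups and proper quotients are, and suppose G is neither simple nor a p-group. Then there is a prime q ≠ p such that G has order p · q^e, where e is the multiplicative order of q modulo p, and G has a normal elementary abelian subgroup of order q^e that is a minimal normal subgroup of G. -/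
theorem result {G : Type*} [Group G] [Finite G] {p : ℕ} [Fact p.Prime]
    (hnc : ¬ (∃ H : Subgroup G, (H : Set G) = {g : G | g ^ p = 1})) (hsub : ∀ K : Subgroup G, K ≠ ⊤ → (∃ H : Subgroup ↥K, (H : Set ↥K) = {g : ↥K | g ^ p = 1}))
    (hquo : ∀ (N : Subgroup G) [N.Normal], N ≠ ⊥ → (∃ H : Subgroup (G ⧸ N), (H : Set (G ⧸ N)) = {g : (G ⧸ N) | g ^ p = 1}))
    (hns : ¬ IsSimpleGroup G) (hnp : ¬ IsPGroup p G) :
    ∃ q : ℕ, q.Prime ∧ q ≠ p ∧ Nat.card G = p * q ^ orderOf (q : ZMod p) ∧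
      ∃ A : Subgroup G, A.Normal ∧ Nat.card ↥A = q ^ orderOf (q : ZMod p) ∧ Cfsg.IsElementaryAbelian q A ∧
        ∀ B : Subgroup G, B.Normal → B ≤ A → B = ⊥ ∨ B = A := by
  classical
  have hp : p.Prime := Fact.out
  haveI : Nontrivial G := by
    by_contra h
    rw [not_nontrivial_iff_subsingleton] at h
    exact hnp fun g => ⟨0, Subsingleton.elim _ _⟩
  obtain ⟨N0, hN0n, hN0b, hN0t⟩ : ∃ N : Subgroup G, N.Normal ∧ N ≠ ⊥ ∧ N ≠ ⊤ := by
    by_contra h
    push Not at h
    exact hns ⟨fun N hN => or_iff_not_imp_left.2 fun hb => h N hN hb⟩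
  -- two elements of order dividing `p` generate `G`
  obtain ⟨a, b, ha, hb, hab⟩ : ∃ a b : G, a ^ p = 1 ∧ b ^ p = 1 ∧ (a * b) ^ p ≠ 1 := by
    by_contra h
    push Not at h
    exact hnc ⟨⟨⟨⟨{g : G | g ^ p = 1}, fun {a b} ha hb => h a b ha hb⟩, one_pow p⟩,
      fun {a} (ha : a ^ p = 1) => show a⁻¹ ^ p = 1 by rw [inv_pow, ha, inv_one]⟩, rfl⟩
  have hgen : ∀ H : Subgroup G, a ∈ H → b ∈ H → H = ⊤ := by
    intro H haH hbH
    by_contra hH
    obtain ⟨W, hW⟩ := hsub H hH
    have h1 : (⟨a, haH⟩ : H) ∈ (W : Set H) := by rw [hW]; exact Subtype.ext ha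
    have h2 : (⟨b, hbH⟩ : H) ∈ (W : Set H) := by rw [hW]; exact Subtype.ext hb
    have h3 : (⟨a, haH⟩ * ⟨b, hbH⟩ : H) ∈ (W : Set H) := W.mul_mem h1 h2
    rw [hW] at h3
    exact hab (congrArg Subtype.val h3)
  have hexp : ∀ (M : Subgroup G), M.Normal → M ≠ ⊥ → ∀ g : G, g ^ p ∈ M := by
    intro M hM hMb g
    haveI := hM
    obtain ⟨W, hW⟩ := hquo M hMb
    have hWt : W.comap (QuotientGroup.mk' M) = ⊤ := by
      refine hgen _ ?_ ?_
      · show (a : G ⧸ M) ∈ (W : Set (G ⧸ M))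
        rw [hW, Set.mem_setOf_eq, ← QuotientGroup.mk_pow, ha, QuotientGroup.mk_one]
      · show (b : G ⧸ M) ∈ (W : Set (G ⧸ M))
        rw [hW, Set.mem_setOf_eq, ← QuotientGroup.mk_pow, hb, QuotientGroup.mk_one]
    have hg : g ∈ W.comap (QuotientGroup.mk' M) := hWt ▸ Subgroup.mem_top g
    have hg' : (g : G ⧸ M) ∈ (W : Set (G ⧸ M)) := hg
    rw [hW, Set.mem_setOf_eq, ← QuotientGroup.mk_pow, QuotientGroup.eq_one_iff] at hg'
    exact hg'
  obtain ⟨N, hN⟩ := (Set.toFinite {N : Subgroup G | N.Normal ∧ N ≠ ⊥ ∧ N ≠ ⊤}).exists_minimal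
    ⟨N0, hN0n, hN0b, hN0t⟩
  obtain ⟨⟨hNn, hNb, hNt⟩, hNmin⟩ := hN
  haveI := hNn
  have huniq : ∀ M : Subgroup G, M.Normal → M ≠ ⊥ → N ≤ M := by
    intro M hM hMb
    by_cases hMt : M = ⊤
    · rw [hMt]; exact le_top
    by_cases hi : N ⊓ M = ⊥
    · exfalso
      refine hnp fun g => ⟨1, ?_⟩
      rw [pow_one]
      have : g ^ p ∈ N ⊓ M := ⟨hexp N hNn hNb g, hexp M hM hMb g⟩
      rwa [hi, Subgroup.mem_bot] at this
    · haveI := hM
      exact (hNmin ⟨inferInstance, hi, fun h => hNt (top_le_iff.1 (h ▸ inf_le_left))⟩ inf_le_left).trans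
        inf_le_right
  have hNp : ¬ p ∣ Nat.card N := by
    intro hd
    obtain ⟨W, hW⟩ := hsub N hNt
    haveI : W.Characteristic := by
      refine Subgroup.characteristic_iff_comap_eq.2 fun φ => ?_
      refine SetLike.coe_injective ?_
      rw [Subgroup.coe_comap, hW]
      ext u
      simp [← map_pow]
    have hWn : (W.map N.subtype).Normal := inferInstance
    have hWb : W.map N.subtype ≠ ⊥ := by
      rw [Ne, Subgroup.map_eq_bot_iff_of_injective _ N.subtype_injective]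
      obtain ⟨u, hu⟩ := exists_prime_orderOf_dvd_card' p hd
      intro h
      have : u ∈ (W : Set N) := by rw [hW]; exact orderOf_dvd_iff_pow_eq_one.1 hu.dvd
      rw [h, SetLike.mem_coe, Subgroup.mem_bot] at this
      rw [this, orderOf_one] at hu
      exact hp.one_lt.ne hu
    have hWt : W = ⊤ := by
      rw [eq_top_iff]
      intro u _
      obtain ⟨v, hv, hve⟩ := huniq _ hWn hWb u.2
      obtain rfl : v = u := Subtype.ext hve
      exact hv
    refine hnp fun g => ⟨2, ?_⟩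
    have h1 : (⟨g ^ p, hexp N hNn hNb g⟩ : N) ∈ (W : Set N) := hWt ▸ Subgroup.mem_top _
    rw [hW] at h1
    rw [pow_two, pow_mul]
    exact congrArg Subtype.val h1
  let P : Sylow p G := default
  have hPN : (P : Subgroup G) ⊔ N = ⊤ := by
    refine Subgroup.index_eq_one.1 ?_
    have h1 : (P : Subgroup G).index.Coprime p :=
      (hp.coprime_iff_not_dvd.2 P.not_dvd_index).symm
    have h2 : IsPGroup p (G ⧸ N) := fun u => by
      obtain ⟨g, rfl⟩ := QuotientGroup.mk_surjective u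
      exact ⟨1, by rw [pow_one, ← QuotientGroup.mk_pow, QuotientGroup.eq_one_iff]; exact hexp N hNn hNb g⟩
    obtain ⟨j, hj⟩ := IsPGroup.iff_card.1 h2
    have h3 : ((P : Subgroup G) ⊔ N).index ∣ p ^ j := by
      rw [← hj]; exact Subgroup.index_dvd_of_le le_sup_right
    exact Nat.eq_one_of_dvd_coprimes (h1.pow_right j) (Subgroup.index_dvd_of_le le_sup_left) h3
  have hPexp : ∀ u ∈ (P : Subgroup G), u ^ p = 1 := by
    intro u hu
    have hd : Disjoint (P : Subgroup G) N := by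
      refine Subgroup.disjoint_of_coprime_natCard ?_
      obtain ⟨j, hj⟩ := IsPGroup.iff_card.1 P.isPGroup'
      rw [hj]; exact (hp.coprime_iff_not_dvd.2 hNp).pow_left j
    exact Subgroup.mem_bot.1 (hd.eq_bot ▸ Subgroup.mem_inf.2 ⟨pow_mem hu p, hexp N hNn hNb u⟩)
  refine CfsgLib.PGroup.minimal_structure P N (fun hPn => ?_) hPN hNp hNb huniq
    (fun R Q hR hQ hRQ hne => ?_)
  · haveI := hPn
    rcases eq_or_ne (P : Subgroup G) ⊥ with h | h
    · rw [h, bot_sup_eq] at hPN; exact hNt hPN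
    · have := huniq _ hPn h
      rw [sup_eq_left.2 this] at hPN
      refine hnp fun g => ⟨1, ?_⟩
      rw [pow_one]
      exact hPexp g (hPN ▸ Subgroup.mem_top g)
  · obtain ⟨W, hW⟩ := hsub _ hne
    have hQp : ¬ p ∣ Nat.card Q := fun hd => hNp (hd.trans (Subgroup.card_dvd_of_le hQ))
    have hRW : R.subgroupOf (R ⊔ Q) ≤ W := fun u hu => by
      rw [← SetLike.mem_coe, hW]
      exact Subtype.ext (hPexp u (hR hu))
    have hWp : IsPGroup p W := fun u => ⟨1, by
      have h1 : (u : ↥(R ⊔ Q)) ∈ (W : Set ↥(R ⊔ Q)) := u.2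
      rw [hW] at h1
      rw [pow_one]
      exact Subtype.ext h1⟩
    have hRp : IsPGroup p (R.subgroupOf (R ⊔ Q)) :=
      (P.isPGroup'.to_le hR).of_equiv (Subgroup.subgroupOfEquivOfLe le_sup_left).symm
    let S : Sylow p ↥(R ⊔ Q) := hRp.toSylow (CfsgLib.PGroup.not_dvd_relIndex_sup hRQ hQp)
    have hWR : W = R.subgroupOf (R ⊔ Q) := S.3 hWp hRW
    haveI : W.Normal := ⟨fun n hn g => by
      rw [← SetLike.mem_coe, hW] at hn ⊢
      show (g * n * g⁻¹) ^ p = 1
      rw [conj_pow, show n ^ p = 1 from hn, mul_one, mul_inv_cancel]⟩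
    exact le_sup_right.trans ((Subgroup.normal_subgroupOf_iff_le_normalizer le_sup_left).1
      (hWR ▸ inferInstance))

end Cfsg.Agent.S3873
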