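import Cfsg.Statements.S3875
-- import your own Cfsg.Agent.* helpers here
import Cfsg.Agent.Lib.PGroup.LeastNonPClosed
import Cfsg.Agent.Lib.Perm.Dickson.Minimal
import Cfsg.Agent.Lib.Char.SmallSpectra
import Mathlib.FieldTheory.Finite.GaloisField
import Mathlib.GroupTheory.SemidirectProduct

set_option autoImplicit false
open Cfsg

namespace Cfsg.Agent.S3875

open Subgroup

universe v

/-- A normal subgroup of prime power order makes the group `p`-closed as soon as the quotient is. -/
theorem pClosed_of_normal_pGroup {p : ℕ} [Fact p.Prime] {H : Type v} [Group H] [Finite H]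
    (R : Subgroup H) [R.Normal] (hR : IsPGroup p R) (hq : Cfsg.IsPClosed p (H ⧸ R)) :
    Cfsg.IsPClosed p H := by
  intro P
  have hRP : R ≤ (P : Subgroup H) := by
    rw [← P.3 (hR.to_sup_of_normal_left P.2) le_sup_right]
    exact le_sup_left
  have h := (hq (P.mapSurjective (QuotientGroup.mk'_surjective R))).comap (QuotientGroup.mk' R)
  rwa [Sylow.coe_mapSurjective, comap_map_eq, QuotientGroup.ker_mk', sup_eq_left.2 hRP] at h

theorem eq_of_le_closed {p : ℕ} [Fact p.Prime] {H : Type v} [Group H] [Finite H] {K : Subgroup H}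
    (hK : Cfsg.IsPClosed p K) (P Q : Sylow p H) (hP : (P : Subgroup H) ≤ K) (hQ : (Q : Subgroup H) ≤ K) :
    P = Q := by
  haveI := hK (P.subtype hP)
  obtain ⟨g, hg⟩ := MulAction.exists_smul_eq K (P.subtype hP) (Q.subtype hQ)
  rw [Sylow.smul_eq_of_normal] at hg
  exact Sylow.subtype_injective hg

/-- Every group whose Sylow `p`-subgroups are not normal is at least as large as the smaller bound. -/
theorem lower {p : ℕ} [Fact p.Prime] (hp : p ≠ 2) {m : ℕ}
    (hleast : ∀ k : ℕ, IsPrimePow k → k % p = 1 → m ≤ k) :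
    ∀ (n : ℕ) (H : Type v) [Group H] [Finite H], Nat.card H = n → ¬ Cfsg.IsPClosed p H →
      min (p * m) (p * (p ^ 2 - 1) / 2) ≤ n := by
  intro n
  induction n using Nat.strong_induction_on with
  | _ n ih =>
  intro H _ _ hn hnc
  by_contra hlt
  push Not at hlt
  rw [lt_min_iff] at hlt
  obtain ⟨hltm, hltp⟩ := hlt
  have hpr : p.Prime := Fact.out
  have hsub : ∀ K : Subgroup H, K ≠ ⊤ → Cfsg.IsPClosed p K := by
    intro K hK
    by_contra hKc
    have hl : Nat.card K < n := hn ▸ lt_of_le_of_ne (Subgroup.card_le_card_group K)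
      fun h => hK (Subgroup.card_eq_iff_eq_top K |>.1 h)
    have := ih _ hl K rfl hKc
    rw [min_le_iff] at this
    omega
  have hquot : ∀ (R : Subgroup H) [R.Normal], R ≠ ⊥ → Cfsg.IsPClosed p (H ⧸ R) := by
    intro R _ hR
    by_contra hRc
    have hl : Nat.card (H ⧸ R) < n := by
      rw [← hn, Subgroup.card_eq_card_quotient_mul_card_subgroup R]
      exact lt_mul_of_one_lt_right Nat.card_pos (Finite.one_lt_card_iff_nontrivial.2
        (R.nontrivial_iff_ne_bot.2 hR))
    have := ih _ hl _ rfl hRc
    rw [min_le_iff] at this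
    omega
  have hcore : ∀ (R : Subgroup H) [R.Normal], IsPGroup p R → R = ⊥ := by
    intro R _ hR
    by_contra hRne
    exact hnc (pClosed_of_normal_pGroup R hR (hquot R hRne))
  have h2n : 2 * n < p * (p ^ 2 - 1) := by omega
  have h3 : p * (p ^ 2 - 1) < p ^ 3 := by
    have h1 : p * (p ^ 2 - 1) < p * p ^ 2 := Nat.mul_lt_mul_of_pos_left
      (Nat.sub_lt (pow_pos hpr.pos 2) one_pos) hpr.pos
    calc p * (p ^ 2 - 1) < p * p ^ 2 := h1
      _ = p ^ 3 := by ring
  obtain ⟨P, hPn⟩ : ∃ P : Sylow p H, ¬ (P : Subgroup H).Normal := not_forall.1 hnc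
  have hnp : Nat.card (Sylow p H) ≠ 1 := by
    rw [P.card_eq_index_normalizer, Ne, index_eq_one]
    exact fun h => hPn (normalizer_eq_top_iff.1 h)
  have hnp1 : p + 1 ≤ Nat.card (Sylow p H) := by
    have h1 : Nat.card (Sylow p H) % p = 1 := by
      rw [card_sylow_modEq_one p H, Nat.mod_eq_of_lt hpr.one_lt]
    have h2 := Nat.div_add_mod (Nat.card (Sylow p H)) p
    have : p ≤ p * (Nat.card (Sylow p H) / p) := Nat.le_mul_of_pos_right _ (by
      rcases Nat.eq_zero_or_pos (Nat.card (Sylow p H) / p) with h | h
      · rw [h] at h2; omega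
      · exact h)
    omega
  -- the Sylow subgroups have order `p`
  have hPp : Nat.card P = p := by
    obtain ⟨a, ha⟩ := IsPGroup.iff_card.1 P.2
    have hle : Nat.card P * (p + 1) ≤ n := by
      rw [← hn, ← (P : Subgroup H).card_mul_index]
      refine Nat.mul_le_mul_left _ (hnp1.trans (Nat.le_of_dvd ?_ P.card_dvd_index))
      exact Nat.pos_of_ne_zero Subgroup.index_ne_zero_of_finite
    change Nat.card (P : Subgroup H) = p ^ a at ha
    change Nat.card (P : Subgroup H) = p
    rcases a with _ | _ | _ | a
    · exfalso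
      rw [pow_zero, Subgroup.card_eq_one] at ha
      exact hPn (ha ▸ inferInstance)
    · rw [ha, pow_one]
    · exfalso
      obtain ⟨Q, hQP⟩ : ∃ Q : Sylow p H, Q ≠ P := by
        by_contra hall
        push Not at hall
        haveI : Subsingleton (Sylow p H) := ⟨fun A B => (hall A).trans (hall B).symm⟩
        exact hnp (Nat.card_unique (α := Sylow p H))
      replace ha : Nat.card (P : Subgroup H) = p ^ 2 := ha
      have hQc : Nat.card (Q : Subgroup H) = p ^ 2 :=
        (Nat.card_congr (Q.equiv P).toEquiv).trans ha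
      by_cases hD : (P : Subgroup H) ⊓ (Q : Subgroup H) = ⊥
      · have hinj : Function.Injective (fun x : ↥(P : Subgroup H) × ↥(Q : Subgroup H) => (x.1 : H) * x.2) :=
          Subgroup.mul_injective_of_disjoint (disjoint_iff.2 hD)
        have h := Nat.card_le_card_of_injective _ hinj
        rw [Nat.card_prod, ha, hQc, hn] at h
        have : p ^ 3 ≤ p ^ 2 * p ^ 2 := by
          rw [← pow_add]; exact Nat.pow_le_pow_right hpr.pos (by norm_num)
        omega
      · set D := (P : Subgroup H) ⊓ (Q : Subgroup H) with hDdef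
        have hPC : (P : Subgroup H) ≤ Subgroup.centralizer (D : Set H) := fun x hx =>
          Subgroup.mem_centralizer_iff.2 fun d hd => congrArg Subtype.val
            ((IsPGroup.commutative_of_card_eq_prime_sq ha) (⟨d, hd.1⟩ : (P : Subgroup H)) ⟨x, hx⟩)
        have hQC : (Q : Subgroup H) ≤ Subgroup.centralizer (D : Set H) := fun x hx =>
          Subgroup.mem_centralizer_iff.2 fun d hd => congrArg Subtype.val
            ((IsPGroup.commutative_of_card_eq_prime_sq hQc) (⟨d, hd.2⟩ : (Q : Subgroup H)) ⟨x, hx⟩)
        by_cases hK : Subgroup.centralizer (D : Set H) = ⊤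
        · have hle : D ≤ center H := Subgroup.centralizer_eq_top_iff_subset.1 hK
          haveI : D.Normal := ⟨fun d hd g => by
            rw [Subgroup.mem_center_iff.1 (hle hd) g, mul_inv_cancel_right]; exact hd⟩
          exact hD (hcore D (P.2.to_le inf_le_left))
        · exact hQP (eq_of_le_closed (hsub _ hK) P Q hPC hQC).symm
    · exfalso
      rw [ha] at hle
      have h4 : p ^ 3 ≤ p ^ (a + 1 + 1 + 1) := Nat.pow_le_pow_right hpr.pos (by omega)
      have : p ^ (a + 1 + 1 + 1) ≤ p ^ (a + 1 + 1 + 1) * (p + 1) := Nat.le_mul_of_pos_right _ (by omega)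
      omega
  by_cases hsimple : IsSimpleGroup H
  · by_cases hc : IsMulCommutative H
    · exact hPn ⟨fun x hx g => by rw [hc.1.comm g x, mul_inv_cancel_right]; exact hx⟩
    · have := CfsgLib.PGroup.card_ge_of_simple_sylow_prime hp hc P hPp
      omega
  · haveI : Nontrivial H := by
      by_contra h
      rw [not_nontrivial_iff_subsingleton] at h
      exact hPn ⟨fun x hx g => by rwa [Subsingleton.elim (g * x * g⁻¹) x]⟩
    obtain ⟨N, hN, hNb, hNt⟩ : ∃ N : Subgroup H, N.Normal ∧ N ≠ ⊥ ∧ N ≠ ⊤ := by
      by_contra h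
      push Not at h
      exact hsimple ⟨fun N hN => Classical.or_iff_not_imp_left.2 fun hb => h N hN hb⟩
    haveI := hN
    -- `p` does not divide the order of `N`
    have hpN : ¬ p ∣ Nat.card N := by
      intro hd
      obtain ⟨S⟩ : Nonempty (Sylow p N) := Sylow.nonempty
      haveI := hsub N hNt S
      haveI := S.characteristic_of_normal inferInstance
      have h1 := hcore ((S : Subgroup N).map N.subtype) (S.2.map _)
      rw [map_eq_bot_iff_of_injective _ N.subtype_injective] at h1
      exact S.ne_bot_of_dvd_card hd h1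
    -- `H` is `N` times `P`
    have htop : N ⊔ (P : Subgroup H) = ⊤ := by
      by_contra hK
      have h := (hquot N hNb (P.mapSurjective (QuotientGroup.mk'_surjective N))).comap (QuotientGroup.mk' N)
      rw [Sylow.coe_mapSurjective, comap_map_eq, QuotientGroup.ker_mk', sup_comm] at h
      haveI := hsub _ hK (P.subtype le_sup_right)
      haveI := (P.subtype (le_sup_right : (P : Subgroup H) ≤ N ⊔ (P : Subgroup H))).characteristic_of_normal
        inferInstance
      haveI := h
      have h1 : (((P.subtype (le_sup_right : (P : Subgroup H) ≤ N ⊔ (P : Subgroup H))) :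
          Subgroup ↥(N ⊔ (P : Subgroup H))).map (N ⊔ (P : Subgroup H)).subtype).Normal := inferInstance
      rw [Sylow.coe_subtype, map_subgroupOf_eq_of_le le_sup_right] at h1
      exact hPn h1
    have hidx : N.index = p := by
      have hmap : (P : Subgroup H).map (QuotientGroup.mk' N) = ⊤ := by
        refine eq_top_iff.2 fun y _ => ?_
        obtain ⟨x, rfl⟩ := QuotientGroup.mk'_surjective N y
        have hx : x ∈ N ⊔ (P : Subgroup H) := htop ▸ mem_top x
        obtain ⟨a, ha, b, hb, rfl⟩ := Subgroup.mem_sup_of_normal_left.1 hx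
        refine ⟨b, hb, ?_⟩
        rw [map_mul, (QuotientGroup.eq_one_iff a).2 ha |> fun h => (show QuotientGroup.mk' N a = 1 from h), one_mul]
      have h1 : N.index ∣ p := by
        rw [index_eq_card, ← card_top, ← hmap]
        exact (card_map_dvd _ _).trans hPp.dvd
      exact ((Nat.dvd_prime hpr).1 h1).resolve_left fun h => hNt (index_eq_one.1 h)
    have hncard : n = Nat.card N * p := by rw [← hn, ← hidx, N.card_mul_index]
    have hdvd : Nat.card (Sylow p H) ∣ Nat.card N := by
      have h1 := P.card_dvd_index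
      have h2 : (P : Subgroup H).index = Nat.card N := by
        have := (P : Subgroup H).card_mul_index
        rw [show Nat.card (P : Subgroup H) = p from hPp, hn, hncard, mul_comm (Nat.card N)] at this
        exact Nat.eq_of_mul_eq_mul_left hpr.pos this
      rwa [h2] at h1
    obtain ⟨q, hq, hqd⟩ := Nat.exists_prime_and_dvd hnp
    haveI := Fact.mk hq
    obtain ⟨R⟩ : Nonempty (Sylow q N) := Sylow.nonempty
    set R' := (R : Subgroup N).map N.subtype with hR'
    have hqp : q ≠ p := fun h => hpN (h ▸ hqd.trans hdvd)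
    have hM : normalizer (R' : Set H) ⊔ N = ⊤ := Sylow.normalizer_sup_eq_top R
    obtain ⟨y, hy⟩ : ∃ y : normalizer (R' : Set H), orderOf y = p := by
      refine exists_prime_orderOf_dvd_card' p ?_
      have h1 : Nat.card ((normalizer (R' : Set H)).map (QuotientGroup.mk' N)) = p := by
        rw [← hidx, index_eq_card]
        have : (normalizer (R' : Set H)).map (QuotientGroup.mk' N) = ⊤ := by
          rw [eq_top_iff, ← map_top_of_surjective _ (QuotientGroup.mk'_surjective N), ← hM, Subgroup.map_sup,
            (Subgroup.map_eq_bot_iff _).2 (QuotientGroup.ker_mk' N).ge, sup_bot_eq]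
        rw [this, card_top]
      rw [← h1]
      exact card_map_dvd _ _
    have hyp : Nat.card (zpowers (y : H)) = p := by
      rw [Nat.card_zpowers, Subgroup.orderOf_coe, hy]
    obtain ⟨P', hP'⟩ := (IsPGroup.of_card (n := 1) (by rw [hyp, pow_one]) : IsPGroup p (zpowers (y : H))).exists_le_sylow
    have hP'c : Nat.card (P' : Subgroup H) = p := (Nat.card_congr (P'.equiv P).toEquiv).trans hPp
    have hP'eq : zpowers (y : H) = P' := eq_of_le_of_card_ge hP' (by rw [hP'c, hyp])
    have hP'R : (P' : Subgroup H) ≤ normalizer (R' : Set H) := hP'eq ▸ zpowers_le.2 y.2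
    have hR'card : Nat.card R' = q ^ (Nat.card N).factorization q := by
      rw [hR', card_map_of_injective N.subtype_injective, R.card_eq_multiplicity]
    by_cases hK : R' ⊔ (P' : Subgroup H) = ⊤
    · -- `N` is a `q`-group
      haveI : R'.Normal := normalizer_eq_top_iff.1 (eq_top_iff.2 (hK ▸ sup_le le_normalizer hP'R))
      have h1 : R'.index ∣ p := by
        have hmap : (P' : Subgroup H).map (QuotientGroup.mk' R') = ⊤ := by
          rw [eq_top_iff, ← map_top_of_surjective _ (QuotientGroup.mk'_surjective R'), ← hK, Subgroup.map_sup,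
            (Subgroup.map_eq_bot_iff _).2 (QuotientGroup.ker_mk' R').ge, bot_sup_eq]
        rw [index_eq_card, ← card_top, ← hmap]
        exact (card_map_dvd _ _).trans hP'c.dvd
      have h2 : R' ≤ N := map_subtype_le _
      have h3 : N.index ∣ R'.index := index_dvd_of_le h2
      have h4 : R'.index = p := Nat.dvd_antisymm h1 (hidx ▸ h3)
      have h5 : R' = N := by
        refine eq_of_le_of_card_ge h2 ?_
        have e1 := R'.card_mul_index
        rw [h4, hn, hncard] at e1
        exact (Nat.eq_of_mul_eq_mul_right hpr.pos e1).ge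
      obtain ⟨j, -, hj⟩ := (Nat.dvd_prime_pow hq).1 (hR'card ▸ h5 ▸ hdvd)
      have hj0 : j ≠ 0 := fun h => hnp (by rw [hj, h, pow_zero])
      have hpp : IsPrimePow (Nat.card (Sylow p H)) := by
        rw [hj]; exact hq.isPrimePow.pow hj0
      have h6 := hleast _ hpp (by rw [card_sylow_modEq_one p H, Nat.mod_eq_of_lt hpr.one_lt])
      have h7 : p * m ≤ p * Nat.card N := Nat.mul_le_mul_left _ (h6.trans (Nat.le_of_dvd Nat.card_pos hdvd))
      rw [mul_comm] at hncard
      omega
    · -- otherwise `R'` normalizes `P'`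
      set K := R' ⊔ (P' : Subgroup H) with hKdef
      haveI := hsub K hK (P'.subtype le_sup_right)
      have hRN : R' ≤ normalizer ((P' : Subgroup H) : Set H) := by
        refine le_trans (le_sup_left : R' ≤ K) ?_
        have h := le_normalizer_map (H := ((P'.subtype (le_sup_right : (P' : Subgroup H) ≤ K)) : Subgroup K)) K.subtype
        rw [normalizer_eq_top_iff.2 ‹_›, Sylow.coe_subtype, map_subgroupOf_eq_of_le le_sup_right,
          ← MonoidHom.range_eq_map, range_subtype] at h
        exact h
      have hmul : Nat.card R' * q ∣ Nat.card H := by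
        rw [← (normalizer (P' : Set H)).card_mul_index, ← P'.card_eq_index_normalizer]
        exact Nat.mul_dvd_mul (card_dvd_of_le hRN) hqd
      rw [hR'card, ← pow_succ, hn, hncard] at hmul
      have h8 := (((Nat.coprime_primes hq hpr).2 hqp).pow_left _).dvd_of_dvd_mul_right hmul
      exact Nat.pow_succ_factorization_not_dvd Nat.card_pos.ne' hq h8

/-- The action of a subgroup of the units of a field on its additive group. -/
def unitsAct {F : Type} [Field F] (Z : Subgroup Fˣ) : Z →* MulAut (Multiplicative F) where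
  toFun z := AddEquiv.toMultiplicative (DistribMulAction.toAddAut Z F z)
  map_one' := MulEquiv.ext fun x => by simp
  map_mul' a b := MulEquiv.ext fun x => by simp [mul_smul]

/-- The group of order `p m`. -/
theorem exists_affine {p m : ℕ} [Fact p.Prime] (hm : IsPrimePow m) (hm1 : m % p = 1) :
    ∃ (H : Type) (_ : Group H) (_ : Finite H), Nat.card H = p * m ∧ ¬ Cfsg.IsPClosed p H := by
  obtain ⟨q, a, hq, ha, rfl⟩ := hm
  rw [← Nat.prime_iff] at hq
  haveI := Fact.mk hq
  haveI := Fintype.ofFinite (GaloisField q a)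
  have hcard : Nat.card (GaloisField q a) = q ^ a := GaloisField.card q a (by omega)
  have hd : p ∣ Nat.card (GaloisField q a)ˣ := by
    rw [Nat.card_units, hcard]
    have h := Nat.div_add_mod (q ^ a) p
    exact ⟨q ^ a / p, by omega⟩
  obtain ⟨ζ, hζ⟩ := exists_prime_orderOf_dvd_card' p hd
  refine ⟨Multiplicative (GaloisField q a) ⋊[unitsAct (zpowers ζ)] zpowers ζ, inferInstance,
    Finite.of_equiv _ SemidirectProduct.equivProd.symm, ?_, ?_⟩
  · rw [Nat.card_congr SemidirectProduct.equivProd, Nat.card_prod, Nat.card_congr Multiplicative.toAdd,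
      hcard, Nat.card_zpowers, hζ, mul_comm]
  · intro hcl
    haveI : Finite (Multiplicative (GaloisField q a) ⋊[unitsAct (zpowers ζ)] zpowers ζ) :=
      Finite.of_equiv _ SemidirectProduct.equivProd.symm
    let z : zpowers ζ := ⟨ζ, mem_zpowers ζ⟩
    have hζp : ζ ^ p = 1 := by rw [← hζ]; exact pow_orderOf_eq_one ζ
    have hzp : IsPGroup p (zpowers ζ) := IsPGroup.of_card (n := 1) (by rw [Nat.card_zpowers, hζ, pow_one])
    obtain ⟨S, hS⟩ := (hzp.of_surjective
      (SemidirectProduct.inr (N := Multiplicative (GaloisField q a)) (φ := unitsAct (zpowers ζ))).rangeRestrict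
      (MonoidHom.rangeRestrict_surjective _)).exists_le_sylow
    haveI := hcl S
    let x : Multiplicative (GaloisField q a) := Multiplicative.ofAdd 1
    let A : Multiplicative (GaloisField q a) ⋊[unitsAct (zpowers ζ)] zpowers ζ := SemidirectProduct.inl x
    let B : Multiplicative (GaloisField q a) ⋊[unitsAct (zpowers ζ)] zpowers ζ := SemidirectProduct.inr z
    have hB : B ∈ (S : Subgroup _) := hS ⟨z, rfl⟩
    have hc : A * B * A⁻¹ * B⁻¹ ∈ (S : Subgroup _) :=
      mul_mem ((hcl S).conj_mem B hB A) (inv_mem hB)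
    have he : A * B * A⁻¹ * B⁻¹ = SemidirectProduct.inl (x * (unitsAct (zpowers ζ) z x)⁻¹) := by
      rw [map_mul, map_inv, SemidirectProduct.inl_aut, map_inv]
      simp only [A, B]
      group
    rw [he] at hc
    set u := x * (unitsAct (zpowers ζ) z x)⁻¹ with hu
    have hu1 : u = 1 := by
      obtain ⟨k, hk⟩ := S.2 ⟨_, hc⟩
      have hk' : u ^ p ^ k = 1 := SemidirectProduct.inl_injective (φ := unitsAct (zpowers ζ))
        (by rw [map_pow, map_one]; exact congrArg Subtype.val hk)
      have h1 : orderOf u ∣ p ^ k := orderOf_dvd_of_pow_eq_one hk'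
      have h2 : orderOf u ∣ q ^ a := by
        have h := orderOf_dvd_natCard u
        rwa [Nat.card_congr Multiplicative.toAdd, hcard] at h
      have hqp : q ≠ p := by
        rintro rfl
        rw [Nat.dvd_iff_mod_eq_zero.1 (dvd_pow_self q (by omega))] at hm1
        omega
      exact orderOf_eq_one_iff.1 (Nat.eq_one_of_dvd_coprimes
        (Nat.coprime_pow_primes k a Fact.out hq hqp.symm) h1 h2)
    rw [hu, mul_inv_eq_one] at hu1
    have h3 : (1 : GaloisField q a) = (ζ : GaloisField q a) := by
      have h4 := congrArg Multiplicative.toAdd hu1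
      simpa [x, z, unitsAct, Subgroup.smul_def, Units.smul_def] using h4
    have : ζ = 1 := Units.ext h3.symm
    rw [this, orderOf_one] at hζ
    exact (Fact.out : p.Prime).ne_one hζ.symm


/-- Let p be an odd prime and let m be the least prime power congruent to 1 modulo p. Then the least order of a finite group whose Sylow p-subgroups are not normal is the smaller of p · m and p(p² − 1)/2: every finite group whose Sylow p-subgroups are not normal has at least that order, and some group of exactly that order has non-normal Sylow p-subgroups. -/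
theorem result (p : ℕ) [Fact p.Prime] (hp : p ≠ 2) (m : ℕ) (hm : IsPrimePow m) (hm1 : m % p = 1)
    (hleast : ∀ k : ℕ, IsPrimePow k → k % p = 1 → m ≤ k) :
    (∀ (H : Type) [Group H] [Finite H], ¬ Cfsg.IsPClosed p H → min (p * m) (p * (p ^ 2 - 1) / 2) ≤ Nat.card H) ∧
      ∃ (H : Type) (_ : Group H) (_ : Finite H), Nat.card H = min (p * m) (p * (p ^ 2 - 1) / 2) ∧ ¬ Cfsg.IsPClosed p H := by
  refine ⟨fun H _ _ hH => lower hp hleast (Nat.card H) H rfl hH, ?_⟩
  by_cases hle : p * m ≤ p * (p ^ 2 - 1) / 2
  · obtain ⟨H, hG, hF, hc, hn⟩ := exists_affine (p := p) hm hm1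
    exact ⟨H, hG, hF, by rw [hc, min_eq_left hle], hn⟩
  · have hpr : p.Prime := Fact.out
    have h5 : 4 ≤ Nat.card (ZMod p) := by
      rw [Nat.card_zmod]
      by_contra h4
      have hp3 : p = 3 := by have := hpr.two_le; omega
      subst hp3
      have := hleast 4 ((Nat.prime_two).isPrimePow.pow (two_ne_zero)) (by norm_num)
      apply hle
      norm_num
      omega
    refine ⟨Matrix.ProjectiveSpecialLinearGroup (Fin 2) (ZMod p), inferInstance, inferInstance, ?_, ?_⟩
    · rw [min_eq_right (not_le.1 hle).le]
      have hodd : Odd (Fintype.card (ZMod p)) := by rw [ZMod.card]; exact hpr.odd_of_ne_two hp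
      have h := CfsgLib.Char.TwoChars.card_psl_odd hodd
      rw [ZMod.card] at h
      have e : p * (p ^ 2 - 1) = (p + 1) * ((p - 1) * p) := by
        have : p ^ 2 - 1 = (p + 1) * (p - 1) := by rw [← Nat.sq_sub_sq, one_pow]
        rw [this]; ring
      rw [e, ← h, Nat.mul_div_cancel _ two_pos]
    · obtain ⟨hs, hna⟩ := CfsgLib.Perm.Dickson.psl_simple_noncomm (F := ZMod p) h5
      haveI := hs
      intro hcl
      obtain ⟨S⟩ : Nonempty (Sylow p (Matrix.ProjectiveSpecialLinearGroup (Fin 2) (ZMod p))) := Sylow.nonempty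
      rcases IsSimpleGroup.eq_bot_or_eq_top_of_normal _ (hcl S) with h | h
      · have hd : p ∣ Nat.card (Matrix.ProjectiveSpecialLinearGroup (Fin 2) (ZMod p)) := by
          have hodd : Odd (Fintype.card (ZMod p)) := by rw [ZMod.card]; exact hpr.odd_of_ne_two hp
          have h := CfsgLib.Char.TwoChars.card_psl_odd hodd
          rw [ZMod.card] at h
          refine ((Nat.coprime_primes hpr Nat.prime_two).2 hp).dvd_of_dvd_mul_right ?_
          rw [h]
          exact dvd_mul_of_dvd_right (dvd_mul_left p _) _
        exact S.ne_bot_of_dvd_card hd h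
      · refine hna ?_
        have hnil : IsPGroup p (Matrix.ProjectiveSpecialLinearGroup (Fin 2) (ZMod p)) :=
          (h ▸ S.2 : IsPGroup p (⊤ : Subgroup (Matrix.ProjectiveSpecialLinearGroup (Fin 2) (ZMod p)))).of_equiv
            Subgroup.topEquiv
        haveI := hnil.center_nontrivial
        rcases IsSimpleGroup.eq_bot_or_eq_top_of_normal (Subgroup.center
          (Matrix.ProjectiveSpecialLinearGroup (Fin 2) (ZMod p))) inferInstance with h1 | h1
        · exact absurd h1 ((Subgroup.nontrivial_iff_ne_bot _).1 inferInstance)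
        · exact ⟨⟨fun a b => (Subgroup.mem_center_iff.1 (h1 ▸ Subgroup.mem_top b) a)⟩⟩

end Cfsg.Agent.S3875
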