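import Cfsg.Statements.S3878
-- import your own Cfsg.Agent.* helpers here
import Mathlib.NumberTheory.LSeries.PrimesInAP
import Cfsg.Agent.Lib.Perm.Dickson.Finite
import Cfsg.Agent.Lib.Perm.Dickson.Fields
import Cfsg.Agent.Lib.Perm.Dickson.Borel

set_option autoImplicit false
open Cfsg

namespace Cfsg.Agent.S3878

open CfsgLib.Perm.Dickson in
/-- `PGL(2,l)` for a suitable prime `l` has no Hall subgroup for a set containing `p`, `q` but not `r`. -/
theorem exists_counterexample (π : Set ℕ) {p q r : ℕ} (hp : p.Prime) (hq : q.Prime) (hr : r.Prime)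
    (hpπ : p ∈ π) (hqπ : q ∈ π) (hrπ : r ∉ π) (hpq : p ≠ q) (hq2 : q ≠ 2) :
    ∃ (G : Type) (_ : Group G) (_ : Finite G), ¬ Cfsg.IsEPiGroup π G := by
  have hpr : p ≠ r := fun e => hrπ (e ▸ hpπ)
  have hqr : q ≠ r := fun e => hrπ (e ▸ hqπ)
  have hco : (p ^ 6 * r ^ 3).Coprime q :=
    Nat.Coprime.mul_left (((Nat.coprime_primes hp hq).2 hpq).pow_left 6)
      (((Nat.coprime_primes hr hq).2 hqr.symm).pow_left 3)
  obtain ⟨a, ha1, ha2⟩ := Nat.chineseRemainder hco 1 (q - 1)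
  have hacop : a.Coprime (p ^ 6 * r ^ 3 * q) := by
    refine Nat.Coprime.mul_right ?_ ?_
    · rw [Nat.coprime_iff_gcd_eq_one, ha1.gcd_eq, Nat.gcd_one_left]
    · rw [Nat.coprime_iff_gcd_eq_one, ha2.gcd_eq]
      exact (Nat.coprime_self_sub_left hq.one_le).2 (Nat.coprime_one_left q)
  have hmod : p ^ 6 * r ^ 3 * q ≠ 0 :=
    Nat.mul_ne_zero (Nat.mul_ne_zero (pow_ne_zero _ hp.ne_zero) (pow_ne_zero _ hr.ne_zero)) hq.ne_zero
  obtain ⟨l, hlbig, hl, hla⟩ := Nat.forall_exists_prime_gt_and_modEq (max q 5) hmod hacop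
  have h1 : p ^ 6 * r ^ 3 ∣ l - 1 :=
    (Nat.modEq_iff_dvd' hl.one_le).1 ((hla.of_dvd (Dvd.intro q rfl)).trans ha1).symm
  have h2 : q ∣ l + 1 := by
    have e := ((hla.of_dvd (Dvd.intro_left (p ^ 6 * r ^ 3) rfl)).trans ha2).add_right 1
    rw [Nat.sub_add_cancel hq.one_le] at e
    exact Nat.modEq_zero_iff_dvd.1 (e.trans (Nat.modEq_zero_iff_dvd.2 dvd_rfl))
  have hp6 : p ^ 6 ∣ l - 1 := dvd_trans (Dvd.intro _ rfl) h1
  have hr3 : r ^ 3 ∣ l - 1 := dvd_trans (Dvd.intro_left _ rfl) h1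
  have hqn : ¬ q ∣ l - 1 := fun h => hq2 ((Nat.prime_dvd_prime_iff_eq hq Nat.prime_two).1 (by
    have := Nat.dvd_sub h2 h
    rwa [show l + 1 - (l - 1) = 2 by omega] at this))
  have hql : ¬ q ∣ l := fun h => by
    have := (Nat.prime_dvd_prime_iff_eq hq hl).1 h
    omega
  haveI := Fact.mk hl
  have hF : Nat.card (ZMod l) = l := Nat.card_zmod l
  haveI := finite_G2 (F := ZMod l)
  refine ⟨G2 (ZMod l), inferInstance, inferInstance, ?_⟩
  rintro ⟨H, hH1, hH2⟩
  have hG : Nat.card (G2 (ZMod l)) = l * (l - 1) * (l + 1) := by rw [card_G2, hF]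
  have hmul := H.card_mul_index
  have hqH : q ∣ Nat.card H := by
    refine (hq.dvd_mul.1 (hmul ▸ hG ▸ dvd_mul_of_dvd_right h2 _)).resolve_right (hH2 q hq hqπ)
  have hpH : p ^ 6 ∣ Nat.card H :=
    (((hp.coprime_iff_not_dvd).2 (hH2 p hp hpπ)).pow_left 6).dvd_of_dvd_mul_right
      (hmul ▸ hG ▸ dvd_mul_of_dvd_left (dvd_mul_of_dvd_right hp6 _) _)
  have hrH : ¬ r ∣ Nat.card H := fun h => hrπ (hH1 r hr h)
  have hsmall : ∀ m, m ∣ 60 → ¬ p ^ 6 ∣ m := fun m hm h => by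
    have h64 : 2 ^ 6 ≤ p ^ 6 := Nat.pow_le_pow_left hp.two_le 6
    have := Nat.le_of_dvd (by norm_num) (h.trans hm)
    norm_num at h64
    omega
  have h4 : ¬ p ^ 6 ∣ 4 := fun h => by
    have h64 : 2 ^ 6 ≤ p ^ 6 := Nat.pow_le_pow_left hp.two_le 6
    have := Nat.le_of_dvd (by norm_num) h
    norm_num at h64
    omega
  have htorus : ∀ m, (m ∣ 2 * (l - 1) ∨ m ∣ 2 * (l + 1)) → q ∣ m → p ^ 6 ∣ m → False := by
    intro m hm hqm hpm
    rcases hm with hm | hm
    · exact hqn ((hq.dvd_mul.1 (hqm.trans hm)).resolve_left fun h =>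
        hq2 ((Nat.prime_dvd_prime_iff_eq hq Nat.prime_two).1 h))
    · have := Nat.dvd_sub (hpm.trans hm) (hp6.mul_left 2)
      rw [show 2 * (l + 1) - 2 * (l - 1) = 4 by omega] at this
      exact h4 this
  cases classify_finite l H with
  | borel x h =>
    have := hqH.trans (Subgroup.card_dvd_of_le (le_bor h))
    rw [card_bor, hF] at this
    exact (hq.dvd_mul.1 this).elim hql hqn
  | cyclic a b hg h hne =>
    refine htorus _ ?_ hqH hpH
    rcases card_pairFix hg with ⟨-, e⟩ | ⟨-, e⟩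
    · exact Or.inl ((Subgroup.card_dvd_of_le h).trans (by rw [e, hF]; exact dvd_mul_left _ _))
    · exact Or.inr ((Subgroup.card_dvd_of_le h).trans (by rw [e, hF]; exact dvd_mul_left _ _))
  | dihedral a b hg h hn hC =>
    obtain ⟨hc, -⟩ := dihedral_of_le hg.1 (isCyclic_pairFix hg.1) h hn
    refine htorus _ ?_ hqH hpH
    have hd : Nat.card H ∣ 2 * Nat.card (pairFix a b) :=
      hc ▸ Nat.mul_dvd_mul_left 2 (Subgroup.card_dvd_of_le inf_le_right)
    rcases card_pairFix hg with ⟨-, e⟩ | ⟨-, e⟩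
    · exact Or.inl (by rwa [e, hF] at hd)
    · exact Or.inr (by rwa [e, hF] at hd)
  | a4 hN _ _ _ => exact hsmall 12 (by norm_num) (hN ▸ hpH)
  | s4 hN _ _ _ =>
    have h64 : 2 ^ 6 ≤ p ^ 6 := Nat.pow_le_pow_left hp.two_le 6
    have := Nat.le_of_dvd (by norm_num) (hN ▸ hpH)
    norm_num at h64
    omega
  | a5 hN _ _ _ => exact hsmall 60 dvd_rfl (hN ▸ hpH)
  | subfield σ F1 h3 h =>
    have hF1 : Nat.card F1 = l := by
      obtain ⟨m, hm, e⟩ := exists_card_pow F1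
      rw [hF] at e
      rw [(hl.pow_eq_iff.1 e).1]
    have hsub : Nat.card (pslSub F1) ∣ Nat.card H := by
      have e : Nat.card (conjG σ H) = Nat.card H := Subgroup.card_map_of_injective (MulEquiv.injective _)
      rw [← e]
      refine Subgroup.card_dvd_of_le ?_
      rcases h with h | ⟨-, h⟩
      · rw [h]; rintro _ ⟨k, -, rfl⟩; exact ⟨k, rfl⟩
      · rw [h]
    refine hrH (dvd_trans ?_ hsub)
    have hb := card_pslSub F1
    rw [card_pglSub, hF1] at hb
    have h3' : r ^ 3 ∣ Nat.gcd 2 (l - 1) * Nat.card (pslSub F1) :=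
      hb ▸ dvd_mul_of_dvd_left (dvd_mul_of_dvd_right hr3 _) _
    have h5 : r ^ 3 ∣ 2 * Nat.card (pslSub F1) := h3'.trans (Nat.mul_dvd_mul_right (Nat.gcd_dvd_left _ _) _)
    rcases eq_or_ne r 2 with rfl | hr2
    · rw [pow_succ'] at h5
      exact dvd_trans (dvd_pow_self 2 two_ne_zero) (Nat.dvd_of_mul_dvd_mul_left two_pos h5)
    · exact ((hr.dvd_mul.1 ((dvd_pow_self r three_ne_zero).trans h5)).resolve_left fun h =>
        hr2 ((Nat.prime_dvd_prime_iff_eq hr Nat.prime_two).1 h))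

theorem good_D (π : Set ℕ) (hπ : (∀ p q : ℕ, p.Prime → q.Prime → p ∈ π → q ∈ π → p = q) ∨ ∀ p : ℕ, p.Prime → p ∈ π)
    (G : Type) [Group G] [Finite G] : Cfsg.IsDPiGroup π G := by
  intro H K hH hK
  rcases hπ with hπ | hπ
  · by_cases hex : ∃ p : ℕ, p.Prime ∧ p ∈ π
    · obtain ⟨p, hp, hpπ⟩ := hex
      haveI := Fact.mk hp
      have key : ∀ M : Subgroup G, Maximal (Cfsg.IsPiSubgroup π) M → ∃ P : Sylow p G, (P : Subgroup G) = M := by
        intro M hM
        have hMp : IsPGroup p M := IsPGroup.of_card (Nat.eq_prime_pow_of_unique_prime_dvd Nat.card_pos.ne'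
          fun {d} hd hdvd => (hπ d p hd hp (hM.1 d hd hdvd) hpπ))
        obtain ⟨P, hP⟩ := hMp.exists_le_sylow
        refine ⟨P, le_antisymm (hM.2 (fun s hs hsd => ?_) hP) hP⟩
        obtain ⟨k, hk⟩ := IsPGroup.iff_card.1 P.2
        rw [hk] at hsd
        exact ((Nat.prime_dvd_prime_iff_eq hs hp).1 (hs.dvd_of_dvd_pow hsd)) ▸ hpπ
      obtain ⟨P, rfl⟩ := key H hH
      obtain ⟨Q, rfl⟩ := key K hK
      obtain ⟨g, hg⟩ := MulAction.exists_smul_eq G P Q
      exact ⟨g, (congrArg (fun R : Sylow p G => (R : Subgroup G)) hg).symm⟩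
    · push Not at hex
      have key : ∀ M : Subgroup G, Maximal (Cfsg.IsPiSubgroup π) M → M = ⊥ := fun M hM =>
        Subgroup.card_eq_one.1 (by
          by_contra h
          obtain ⟨s, hs, hd⟩ := Nat.exists_prime_and_dvd h
          exact hex s hs (hM.1 s hs hd))
      refine ⟨1, ?_⟩
      rw [key H hH, key K hK, Subgroup.map_bot]
  · have key : ∀ M : Subgroup G, Maximal (Cfsg.IsPiSubgroup π) M → M = ⊤ := fun M hM =>
      top_le_iff.1 (hM.2 (fun s hs _ => hπ s hs) le_top)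
    refine ⟨1, ?_⟩
    rw [key H hH, key K hK]
    exact (Subgroup.map_top_of_surjective _ (MulEquiv.surjective _)).symm

theorem E_of_D (π : Set ℕ) (G : Type) [Group G] [Finite G] (hD : Cfsg.IsDPiGroup π G) : Cfsg.IsEPiGroup π G := by
  obtain ⟨H, -, hH⟩ := (Set.toFinite {M : Subgroup G | Cfsg.IsPiSubgroup π M}).exists_le_maximal
    (show (⊥ : Subgroup G) ∈ {M : Subgroup G | Cfsg.IsPiSubgroup π M} from fun s hs hd => by
      rw [Subgroup.card_bot, Nat.dvd_one] at hd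
      exact absurd hd hs.ne_one)
  refine ⟨H, hH.1, fun p hp hpπ => ?_⟩
  haveI := Fact.mk hp
  obtain ⟨P⟩ : Nonempty (Sylow p G) := inferInstance
  obtain ⟨M, hPM, hM⟩ := (Set.toFinite {M : Subgroup G | Cfsg.IsPiSubgroup π M}).exists_le_maximal
    (show (P : Subgroup G) ∈ {M : Subgroup G | Cfsg.IsPiSubgroup π M} from fun s hs hd => by
      obtain ⟨k, hk⟩ := IsPGroup.iff_card.1 P.2
      rw [hk] at hd
      exact ((Nat.prime_dvd_prime_iff_eq hs hp).1 (hs.dvd_of_dvd_pow hd)) ▸ hpπ)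
  obtain ⟨g, rfl⟩ := hD H M hH hM
  have hi : (H.map (MulAut.conj g).toMonoidHom).index = H.index :=
    Subgroup.index_map_of_bijective (MulEquiv.bijective _) H
  rw [← hi]
  exact fun h => P.not_dvd_index (h.trans (Subgroup.index_dvd_of_le hPM))


/-- For a set of primes π the following are equivalent: every finite group has a Hall π-subgroup; in every finite group the maximal π-subgroups are pairwise conjugate; π contains at most one prime or contains every prime. -/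
theorem result (π : Set ℕ) :
    ((∀ (G : Type) [Group G] [Finite G], Cfsg.IsEPiGroup π G) ↔
      ((∀ p q : ℕ, p.Prime → q.Prime → p ∈ π → q ∈ π → p = q) ∨ ∀ p : ℕ, p.Prime → p ∈ π)) ∧
    ((∀ (G : Type) [Group G] [Finite G], Cfsg.IsDPiGroup π G) ↔
      ((∀ p q : ℕ, p.Prime → q.Prime → p ∈ π → q ∈ π → p = q) ∨ ∀ p : ℕ, p.Prime → p ∈ π)) := by
  have hne : ¬ ((∀ p q : ℕ, p.Prime → q.Prime → p ∈ π → q ∈ π → p = q) ∨ ∀ p : ℕ, p.Prime → p ∈ π) →
      ∃ (G : Type) (_ : Group G) (_ : Finite G), ¬ Cfsg.IsEPiGroup π G := by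
    intro h
    push Not at h
    obtain ⟨⟨p, q, hp, hq, hpπ, hqπ, hpq⟩, r, hr, hrπ⟩ := h
    by_cases hq2 : q = 2
    · exact exists_counterexample π hq hp hr hqπ hpπ hrπ (Ne.symm hpq) (fun h => hpq (h.trans hq2.symm))
    · exact exists_counterexample π hp hq hr hpπ hqπ hrπ hpq hq2
  constructor
  · refine ⟨fun h => ?_, fun h G _ _ => E_of_D π G (good_D π h G)⟩
    by_contra hc
    obtain ⟨G, i1, i2, hG⟩ := hne hc
    exact hG (@h G i1 i2)
  · refine ⟨fun h => ?_, fun h G _ _ => good_D π h G⟩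
    by_contra hc
    obtain ⟨G, i1, i2, hG⟩ := hne hc
    exact hG (@E_of_D π G i1 i2 (@h G i1 i2))


end Cfsg.Agent.S3878
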