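import Cfsg.Statements.S3882
import Cfsg.Agent.Lib.PGroup.MetacyclicClasses
-- import your own Cfsg.Agent.* helpers here

set_option autoImplicit false
open Cfsg

namespace Cfsg.Agent.S3882

/-- Let p be an odd prime and G a finite metacyclic p-group (G has a cyclic normal subgroup with cyclic quotient). Suppose |G'| = p^n and 0 ≤ s ≤ n. Then an element g lies in the subgroup generated by the p^s-th powers if and only if its conjugacy class has at most p^(n−s) elements; in particular the subgroup generated by the p^n-th powers is the center of G. -/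
theorem result {G : Type*} [Group G] [Finite G] {p : ℕ} [Fact p.Prime] (hp : p ≠ 2) (hG : IsPGroup p G) (hmc : Cfsg.IsMetacyclic G) (n : ℕ) (hGn : Nat.card ↥(commutator G) = p ^ n) (s : ℕ) (hs : s ≤ n) (g : G) :
    (g ∈ Subgroup.closure {x : G | ∃ y : G, y ^ p ^ s = x} ↔ (Subgroup.centralizer ({g} : Set G)).index ≤ p ^ (n - s)) ∧
      Subgroup.closure {x : G | ∃ y : G, y ^ p ^ n = x} = Subgroup.center G := by
  have S := CfsgLib.Metacyclic.Setup.mk hp hG hGn hmc
  have hset : ∀ t : ℕ, Subgroup.closure {x : G | ∃ y : G, y ^ p ^ t = x} = Cfsg.powerClosure p t (⊤ : Subgroup G) := by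
    intro t
    rw [Cfsg.powerClosure]
    congr 1
    ext x
    exact ⟨fun ⟨y, hy⟩ => ⟨y, Subgroup.mem_top y, hy.symm⟩, fun ⟨y, _, hy⟩ => ⟨y, hy.symm⟩⟩
  refine ⟨?_, ?_⟩
  · rw [hset, S.mem_powerClosure_iff, S.index_le_iff g hs]
  · ext z
    rw [hset, S.mem_powerClosure_iff, ← S.index_le_iff z le_rfl, Nat.sub_self, pow_zero]
    refine ⟨fun h => ?_, fun h => le_of_eq ?_⟩
    · obtain ⟨k, -, hk⟩ := S.exists_index_eq z
      have h1 : (Subgroup.centralizer ({z} : Set G)).index = 1 :=
        le_antisymm h (hk ▸ Nat.pow_pos (Fact.out : p.Prime).pos)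
      rw [Subgroup.index_eq_one] at h1
      exact Subgroup.mem_center_iff.2 fun x => Subgroup.mem_centralizer_singleton_iff.1 (h1.ge (Subgroup.mem_top x))
    · rw [Subgroup.index_eq_one, eq_top_iff]
      exact fun x _ => Subgroup.mem_centralizer_singleton_iff.2 (Subgroup.mem_center_iff.1 h x)

end Cfsg.Agent.S3882
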