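import Cfsg.Statements.S3883
import Cfsg.Agent.Lib.PGroup.MetacyclicClasses
-- import your own Cfsg.Agent.* helpers here

set_option autoImplicit false
open Cfsg

namespace Cfsg.Agent.S3883

/-- Let p be an odd prime and G a finite metacyclic p-group (G has a cyclic normal subgroup with cyclic quotient). Suppose G is non-abelian. Then an element g of G lies outside the Frattini subgroup if and only if its centralizer C_G(g) is abelian. -/
theorem result {G : Type*} [Group G] [Finite G] {p : ℕ} [Fact p.Prime] (hp : p ≠ 2) (hG : IsPGroup p G) (hmc : Cfsg.IsMetacyclic G) (hna : ¬ IsMulCommutative G) (g : G) :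
    g ∉ frattini G ↔ IsMulCommutative ↥(Subgroup.centralizer ({g} : Set G)) := by
  obtain ⟨n, S⟩ := CfsgLib.Metacyclic.exists_setup hp hG hmc
  rw [S.frattini_iff_index hna, not_lt, S.comm_iff_card_le]
  have h1 := S.derived_index_mul
  have h2 := (Subgroup.centralizer ({g} : Set G)).card_mul_index
  constructor
  · intro h
    refine le_of_mul_le_mul_right ?_ (pow_pos (Fact.out : p.Prime).pos n)
    rw [h1, ← h2]
    exact Nat.mul_le_mul_left _ h
  · intro h
    by_contra hlt
    push Not at hlt
    have h3 := Nat.mul_lt_mul_of_le_of_lt h hlt (Nat.pos_of_ne_zero (fun e => by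
      rw [e] at h
      exact absurd (Nat.le_zero.1 h) Nat.card_pos.ne'))
    rw [h1, h2] at h3
    exact lt_irrefl _ h3

end Cfsg.Agent.S3883
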