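import Cfsg.Statements.S3886
import Cfsg.Agent.Lib.PGroup.MetacyclicClasses
-- import your own Cfsg.Agent.* helpers here

set_option autoImplicit false
open Cfsg

namespace Cfsg.Agent.S3886

/-- Let p be an odd prime and G a finite metacyclic p-group (G has a cyclic normal subgroup with cyclic quotient). Then the largest value of |R| · |Z(R)| over subgroups R of G is |G : G'|², and the subgroups attaining it (the centrally large subgroups) are exactly the non-abelian subgroups together with the maximal abelian subgroups of G. -/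
theorem result {G : Type*} [Group G] [Finite G] {p : ℕ} [Fact p.Prime] (hp : p ≠ 2) (hG : IsPGroup p G) (hmc : Cfsg.IsMetacyclic G) : Cfsg.maxCentralProduct G = (commutator G).index ^ 2 ∧
    ∀ R : Subgroup G, Cfsg.IsCentrallyLarge R ↔ (¬ IsMulCommutative ↥R ∨ Maximal (fun K : Subgroup G => IsMulCommutative ↥K) R) := by
  obtain ⟨n, S⟩ := CfsgLib.Metacyclic.exists_setup hp hG hmc
  set M := Nat.card G * Nat.card (Subgroup.center G) with hM
  have hzc' : ∀ R : Subgroup G, Nat.card (Subgroup.center R) =
      Nat.card (R ⊓ Subgroup.centralizer (R : Set G) : Subgroup G) := fun R => by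
    rw [← CfsgLib.Metacyclic.map_center_eq, Subgroup.card_map_of_injective R.subtype_injective]
  have hle : ∀ R : Subgroup G, Nat.card R * Nat.card (Subgroup.center R) ≤ M := fun R => by
    refine le_trans (Nat.mul_le_mul_left _ ?_) (S.card_mul_centralizer_le R).1
    rw [hzc']
    exact Subgroup.card_le_of_le inf_le_right
  have hval : Cfsg.maxCentralProduct G = M := by
    refine IsGreatest.csSup_eq ⟨⟨⊤, ?_⟩, ?_⟩
    · rw [hzc', top_inf_eq, Subgroup.coe_top, Subgroup.centralizer_univ, Subgroup.card_top]
    · rintro k ⟨R, rfl⟩; exact hle R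
  refine ⟨hval.trans S.card_mul_center.symm, fun R => ?_⟩
  rw [Cfsg.IsCentrallyLarge, hval]
  have hzc := hzc' R
  constructor
  · intro heq
    by_cases hR : IsMulCommutative R
    · refine Or.inr ⟨hR, fun K hK hRK => ?_⟩
      rw [hzc] at heq
      have hle1 := Subgroup.card_le_of_le (inf_le_right : R ⊓ Subgroup.centralizer (R : Set G) ≤ _)
      have hle2 := (S.card_mul_centralizer_le R).1
      have hge : Nat.card (Subgroup.centralizer (R : Set G)) ≤
          Nat.card (R ⊓ Subgroup.centralizer (R : Set G) : Subgroup G) := by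
        refine le_of_mul_le_mul_left ?_ (Nat.card_pos (α := R))
        rw [heq]; exact hle2
      have hC := (Subgroup.eq_of_le_of_card_ge inf_le_right hge).ge.trans inf_le_left
      intro k hk
      refine hC (Subgroup.mem_centralizer_iff.2 fun r hr => ?_)
      exact congrArg Subtype.val (mul_comm' (⟨r, hRK hr⟩ : K) ⟨k, hk⟩)
    · exact Or.inl hR
  · intro h
    obtain ⟨hZ, hC⟩ : Subgroup.center G ≤ R ∧ Subgroup.centralizer (R : Set G) ≤ R := by
      rcases h with hR | ⟨hR, hmax⟩
      · have hZ := S.center_le_of_not_comm hR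
        obtain ⟨k, -, -, -, hiff, hC⟩ := S.lattice hZ
        exact ⟨hZ, hC (le_of_lt (not_le.1 fun hk => hR (hiff.2 hk)))⟩
      · refine ⟨le_sup_right.trans (hmax (CfsgLib.Metacyclic.isMulCommutative_sup_center hR) le_sup_left),
          fun c hc => hmax (CfsgLib.Metacyclic.isMulCommutative_sup hR inferInstance (Subgroup.zpowers_le.2 hc))
            le_sup_left (Subgroup.mem_sup_right (Subgroup.mem_zpowers c))⟩
    rw [hzc, inf_eq_right.2 hC]
    exact (S.card_mul_centralizer_le R).2.2 hZ

end Cfsg.Agent.S3886
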