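import Cfsg.Statements.S3889


set_option autoImplicit false
set_option linter.style.haveILetI false
open Cfsg

namespace Cfsg.Agent.S3889

/-- A finite abelian group that is the union of a family of proper subgroups any two of which intersect trivially is elementary abelian: its exponent is a prime. -/
theorem result {G : Type*} [CommGroup G] [Finite G] (𝓑 : Set (Subgroup G)) (hprop : ∀ B ∈ 𝓑, B ≠ ⊤)
    (hcov : ∀ g : G, ∃ B ∈ 𝓑, g ∈ B) (hdisj : ∀ B ∈ 𝓑, ∀ C ∈ 𝓑, B ≠ C → B ⊓ C = ⊥) :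
    (Monoid.exponent G).Prime := by
  obtain ⟨B₀, hB₀, -⟩ := hcov 1
  obtain ⟨y₀, hy₀⟩ : ∃ y, y ∉ B₀ := by
    by_contra h
    push Not at h
    exact hprop B₀ hB₀ (eq_top_iff.2 fun g _ => h g)
  have hnt : ∃ g : G, g ≠ 1 := ⟨y₀, fun e => hy₀ (e ▸ B₀.one_mem)⟩
  have same : ∀ B ∈ 𝓑, ∀ x ∈ B, x ≠ 1 → ∀ y, y ∉ B → ∀ m : ℕ, x ^ m = 1 ↔ y ^ m = 1 := by
    intro B hB x hx hx1 y hy m
    obtain ⟨C, hC, hyC⟩ := hcov y
    obtain ⟨D, hD, hD'⟩ := hcov (x * y)
    have hxy : x * y ∉ B := fun h => hy ((B.mul_mem_cancel_left hx).1 h)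
    have hpow : (x * y) ^ m = x ^ m * y ^ m := mul_pow x y m
    constructor
    · intro h
      have hDC : D ≠ C := by
        intro e
        subst e
        have hxD : x ∈ D := (D.mul_mem_cancel_right hyC).1 hD'
        have hne : B ≠ D := fun e => hy (e.symm ▸ hyC)
        exact hx1 (Subgroup.mem_bot.1 (hdisj B hB D hD hne ▸ ⟨hx, hxD⟩))
      rw [← Subgroup.mem_bot, ← hdisj D hD C hC hDC]
      refine ⟨?_, C.pow_mem hyC m⟩
      rw [show y ^ m = (x * y) ^ m by rw [hpow, h, one_mul]]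
      exact D.pow_mem hD' m
    · intro h
      have hDB : D ≠ B := fun e => hxy (e ▸ hD')
      rw [← Subgroup.mem_bot, ← hdisj D hD B hB hDB]
      refine ⟨?_, B.pow_mem hx m⟩
      rw [show x ^ m = (x * y) ^ m by rw [hpow, h, mul_one]]
      exact D.pow_mem hD' m
  have all : ∀ a b : G, a ≠ 1 → b ≠ 1 → ∀ m : ℕ, a ^ m = 1 → b ^ m = 1 := by
    intro a b ha hb m h
    obtain ⟨B, hB, haB⟩ := hcov a
    by_cases hbB : b ∈ B
    · obtain ⟨c, hc⟩ : ∃ c, c ∉ B := by
        by_contra h'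
        push Not at h'
        exact hprop B hB (eq_top_iff.2 fun g _ => h' g)
      exact (same B hB b hbB hb c hc m).2 ((same B hB a haB ha c hc m).1 h)
    · exact (same B hB a haB ha b hbB m).1 h
  obtain ⟨g, hg⟩ := hnt
  obtain ⟨q, hq, hqd⟩ := Nat.exists_prime_and_dvd (mt orderOf_eq_one_iff.1 hg)
  have hz : orderOf (g ^ (orderOf g / q)) = q := orderOf_pow_orderOf_div (orderOf_pos g).ne' hqd
  have hz1 : g ^ (orderOf g / q) ≠ 1 := fun e => hq.ne_one (by rw [← hz, e, orderOf_one])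
  have hexp : Monoid.exponent G ∣ q := Monoid.exponent_dvd_of_forall_pow_eq_one fun b => by
    by_cases hb : b = 1
    · rw [hb, one_pow]
    · exact all _ b hz1 hb q (orderOf_dvd_iff_pow_eq_one.1 hz.dvd)
  rcases (Nat.dvd_prime hq).1 hexp with h | h
  · exact absurd (hz ▸ Monoid.order_dvd_exponent (g ^ (orderOf g / q))) (by
      rw [h]; exact fun h' => hq.ne_one (Nat.dvd_one.1 h'))
  · rw [h]; exact hq

end Cfsg.Agent.S3889
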