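import Cfsg.Statements.S3892
import Cfsg.Agent.Lib.Char.NilpotentCover
-- import your own Cfsg.Agent.* helpers here

set_option autoImplicit false
open Cfsg

namespace Cfsg.Agent.S3892

open Equiv Equiv.Perm
open scoped Pointwise
open CfsgLib.Char.NilpotentCover

theorem exists_cycle {n m : ℕ} (hm : 2 ≤ m) (hmn : m ≤ n) :
    ∃ g : Perm (Fin n), g.IsCycle ∧ g.support.card = m := by
  haveI : NeZero n := ⟨by omega⟩
  have hne : (⟨m - 1, by omega⟩ : Fin n) ≠ 0 := fun h => by
    have := congrArg Fin.val h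
    simp at this
    omega
  refine ⟨Fin.cycleRange ⟨m - 1, by omega⟩, Fin.isCycle_cycleRange hne, ?_⟩
  rw [← sum_cycleType, Fin.cycleType_cycleRange hne]
  simp
  omega

/-- The members through a long cycle stabilise the set of its fixed points. -/
theorem maps_fixed {n : ℕ} {g z x : Perm (Fin n)} (hg : g.IsCycle)
    (hz : z ∈ Subgroup.zpowers g) (hz1 : z ≠ 1) (h : x * z = z * x) (b : Fin n) :
    g (x b) = x b ↔ g b = b := by
  have h' := maps_support h b
  rw [support_eq hg hz hz1, mem_support, mem_support] at h'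
  exact not_iff_not.mp h'

theorem sym_general {n : ℕ} (hn : 5 ≤ n) : ¬ ∃ 𝓐 : Finset (Subgroup (Equiv.Perm (Fin n))),
    ((∀ A ∈ 𝓐, A ≠ ⊤) ∧ (∀ g : Equiv.Perm (Fin n), ∃ A ∈ 𝓐, g ∈ A)) ∧
    (∀ 𝓑 : Finset (Subgroup (Equiv.Perm (Fin n))),
      (∀ A ∈ 𝓑, A ≠ ⊤) ∧ (∀ g : Equiv.Perm (Fin n), ∃ A ∈ 𝓑, g ∈ A) → 𝓐.card ≤ 𝓑.card) ∧
    (∀ A ∈ 𝓐, Group.IsNilpotent ↥A) := by
  obtain ⟨g, hg, hgs⟩ := exists_cycle (n := n) (m := n - 1) (by omega) (by omega)
  have hco : g.supportᶜ.card = 1 := by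
    rw [Finset.card_compl, Fintype.card_fin, hgs]; omega
  obtain ⟨a, ha'⟩ := hg.nonempty_support
  have ha := mem_support.mp ha'
  obtain ⟨f, hf'⟩ := Finset.card_pos.mp (show 0 < g.supportᶜ.card by omega)
  have hf : g f = f := by simpa using hf'
  set s := Equiv.swap a (g a) with hs
  set g' := s * g * s with hg'
  have hfs : s f = f := swap_apply_of_ne_of_ne (fun h => ha (h ▸ hf))
    (fun h => ha (g.injective (h ▸ hf)))
  have hsupp : ∀ b, g' b = b ↔ g (s b) = s b := fun b => by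
    rw [hg', mul_apply, mul_apply]
    constructor <;> intro h
    · rw [← swap_apply_self a (g a) (g (s b))]
      exact congrArg s h
    · rw [h, hs, swap_apply_self]
  let M : Subgroup (Perm (Fin n)) := MulAction.stabilizer _ f
  have hC : ∀ z : Perm (Fin n), z * g = g * z → z ∈ Subgroup.zpowers g := fun z hz =>
    commute_cycle hg hz (Or.inl hco.le)
  have huniq : ∀ b, g b = b → b = f := fun b hb =>
    Finset.card_le_one.mp hco.le b (by simpa using hb) f hf'
  refine no_cover M (fun h => ?_) g g' hg.ne_one ?_ (fun z h1 h2 =>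
    cap_trivial hg ha (by omega) (hC z h1) h2)
  · have h1 : Equiv.swap f a ∈ M := h ▸ Subgroup.mem_top _
    have h2 : Equiv.swap f a f = f := h1
    rw [swap_apply_left] at h2
    exact ha (h2 ▸ hf)
  · rintro N hN (hgN | hgN) x hx
    · obtain ⟨z, hz1, hz, hcomm⟩ := exists_power N hN hg.ne_one hgN hC
      exact huniq _ ((maps_fixed hg hz hz1 (hcomm x hx) f).mpr hf)
    · have hss : s * s = 1 := swap_mul_self _ _
      have hss' : ∀ y : Perm (Fin n), s * (s * y) = y := fun y => by rw [← mul_assoc, hss, one_mul]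
      obtain ⟨z, hz1, hz, hcomm⟩ := exists_power N hN (g := g')
        (fun h => hg.ne_one (by
          have h' := congrArg (fun y => s * y * s) h
          simpa only [hg', mul_assoc, hss', hss, mul_one] using h')) hgN
        (p := fun z => s * z * s ∈ Subgroup.zpowers g) (fun z hz => hC _ (by
          have h' := congrArg (fun y => s * y * s) hz
          simpa only [hg', mul_assoc, hss', hss, mul_one] using h'))
      have h := (maps_fixed hg hz (fun h => hz1 (by
          have h' := congrArg (fun y => s * y * s) h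
          simpa only [mul_assoc, hss', hss, mul_one] using h'))
        (x := s * x * s) (by
          have h' := congrArg (fun y => s * y * s) (hcomm x hx)
          simpa only [mul_assoc, hss', hss, mul_one] using h') f).mpr hf
      have h2 := huniq _ h
      rw [mul_apply, mul_apply, hfs] at h2
      show x f = f
      rw [← hss' x, mul_apply, mul_apply, h2, hfs]

theorem sym_four : ¬ ∃ 𝓐 : Finset (Subgroup (Equiv.Perm (Fin 4))),
    ((∀ A ∈ 𝓐, A ≠ ⊤) ∧ (∀ g : Equiv.Perm (Fin 4), ∃ A ∈ 𝓐, g ∈ A)) ∧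
    (∀ 𝓑 : Finset (Subgroup (Equiv.Perm (Fin 4))),
      (∀ A ∈ 𝓑, A ≠ ⊤) ∧ (∀ g : Equiv.Perm (Fin 4), ∃ A ∈ 𝓑, g ∈ A) → 𝓐.card ≤ 𝓑.card) ∧
    (∀ A ∈ 𝓐, Group.IsNilpotent ↥A) := by
  have key : ∀ c ∈ ({c[0, 1, 2], c[0, 1, 3]} : Finset (Perm (Fin 4))),
      c ≠ 1 ∧ c ^ 3 = 1 ∧ Equiv.Perm.sign c = 1 ∧
      ∀ z : Perm (Fin 4), z * c = c * z → z = 1 ∨ z = c ∨ z = c * c := by decide
  refine no_cover (alternatingGroup (Fin 4)) (fun h => ?_) c[0, 1, 2] c[0, 1, 3]
    (key _ (by simp)).1 ?_ (by decide)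
  · have h1 : Equiv.swap (0 : Fin 4) 1 ∈ alternatingGroup (Fin 4) := h ▸ Subgroup.mem_top _
    rw [mem_alternatingGroup] at h1
    simp at h1
  · rintro N hN (h | h)
    · obtain ⟨h1, h2, h3, h4⟩ := key c[0, 1, 2] (Finset.mem_insert_self _ _)
      exact le_of_prime _ N hN h1 h2 h (mem_alternatingGroup.mpr h3) h4
    · obtain ⟨h1, h2, h3, h4⟩ := key c[0, 1, 3] (by simp)
      exact le_of_prime _ N hN h1 h2 h (mem_alternatingGroup.mpr h3) h4

theorem alt_five : ¬ ∃ 𝓐 : Finset (Subgroup ↥(alternatingGroup (Fin 5))),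
    ((∀ A ∈ 𝓐, A ≠ ⊤) ∧ (∀ g : ↥(alternatingGroup (Fin 5)), ∃ A ∈ 𝓐, g ∈ A)) ∧
    (∀ 𝓑 : Finset (Subgroup ↥(alternatingGroup (Fin 5))),
      (∀ A ∈ 𝓑, A ≠ ⊤) ∧ (∀ g : ↥(alternatingGroup (Fin 5)), ∃ A ∈ 𝓑, g ∈ A) →
        𝓐.card ≤ 𝓑.card) ∧
    (∀ A ∈ 𝓐, Group.IsNilpotent ↥A) := by
  have key : ∀ c ∈ ({c[0, 1, 2], c[0, 1, 3]} : Finset (Perm (Fin 5))),
      c ≠ 1 ∧ c ^ 3 = 1 ∧ c 4 = 4 ∧ Equiv.Perm.sign c = 1 ∧
      ∀ z : Perm (Fin 5), Equiv.Perm.sign z = 1 → z * c = c * z → z = 1 ∨ z = c ∨ z = c * c := by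
    decide +kernel
  have hcap : ∀ z : Perm (Fin 5), Equiv.Perm.sign z = 1 → z * c[0, 1, 2] = c[0, 1, 2] * z →
      z * c[0, 1, 3] = c[0, 1, 3] * z → z = 1 := by decide +kernel
  obtain ⟨-, -, -, hc, -⟩ := key c[0, 1, 2] (Finset.mem_insert_self _ _)
  obtain ⟨-, -, -, hc', -⟩ := key c[0, 1, 3] (by simp)
  let M : Subgroup ↥(alternatingGroup (Fin 5)) :=
    (MulAction.stabilizer (Perm (Fin 5)) (4 : Fin 5)).comap (alternatingGroup (Fin 5)).subtype
  refine no_cover M (fun h => ?_) ⟨c[0, 1, 2], hc⟩ ⟨c[0, 1, 3], hc'⟩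
    (fun h => (key _ (Finset.mem_insert_self _ _)).1 (congrArg Subtype.val h)) ?_
    (fun z h1 h2 => Subtype.ext
      (hcap z.1 z.2 (congrArg Subtype.val h1) (congrArg Subtype.val h2)))
  · have h1 : (⟨c[2, 3, 4], by rw [mem_alternatingGroup]; decide⟩ : ↥(alternatingGroup (Fin 5))) ∈ M :=
      h ▸ Subgroup.mem_top _
    have h2 : (c[2, 3, 4] : Perm (Fin 5)) 4 = 4 := h1
    revert h2; decide
  · rintro N hN (h | h)
    · obtain ⟨h1, h2, h3, h4, h5⟩ := key c[0, 1, 2] (Finset.mem_insert_self _ _)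
      refine le_of_prime M N hN (fun e => h1 (congrArg Subtype.val e)) (Subtype.ext h2) h h3
        (fun z hz => ?_)
      rcases h5 z.1 z.2 (congrArg Subtype.val hz) with e | e | e
      · exact Or.inl (Subtype.ext e)
      · exact Or.inr (Or.inl (Subtype.ext e))
      · exact Or.inr (Or.inr (Subtype.ext e))
    · obtain ⟨h1, h2, h3, h4, h5⟩ := key c[0, 1, 3] (by simp)
      refine le_of_prime M N hN (fun e => h1 (congrArg Subtype.val e)) (Subtype.ext h2) h h3
        (fun z hz => ?_)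
      rcases h5 z.1 z.2 (congrArg Subtype.val hz) with e | e | e
      · exact Or.inl (Subtype.ext e)
      · exact Or.inr (Or.inl (Subtype.ext e))
      · exact Or.inr (Or.inr (Subtype.ext e))

theorem alt_general {n m : ℕ} (hm : 4 ≤ m) (hmn : m < n) (hodd : Odd m)
    (hco' : n ≤ m + 1 ∨ n = m + 2) :
    ¬ ∃ 𝓐 : Finset (Subgroup ↥(alternatingGroup (Fin n))),
      ((∀ A ∈ 𝓐, A ≠ ⊤) ∧ (∀ g : ↥(alternatingGroup (Fin n)), ∃ A ∈ 𝓐, g ∈ A)) ∧
      (∀ 𝓑 : Finset (Subgroup ↥(alternatingGroup (Fin n))),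
        (∀ A ∈ 𝓑, A ≠ ⊤) ∧ (∀ g : ↥(alternatingGroup (Fin n)), ∃ A ∈ 𝓑, g ∈ A) →
          𝓐.card ≤ 𝓑.card) ∧
      (∀ A ∈ 𝓐, Group.IsNilpotent ↥A) := by
  obtain ⟨g, hg, hgs⟩ := exists_cycle (n := n) (m := m) (by omega) (by omega)
  have hco : g.supportᶜ.card = n - m := by rw [Finset.card_compl, Fintype.card_fin, hgs]
  have hsg : Equiv.Perm.sign g = 1 := by
    rw [hg.sign, hgs, hodd.neg_one_pow, neg_neg]
  obtain ⟨a, ha'⟩ := hg.nonempty_support
  have ha := mem_support.mp ha'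
  obtain ⟨f, hf'⟩ := Finset.card_pos.mp (show 0 < g.supportᶜ.card by omega)
  have hf : g f = f := by simpa using hf'
  set s := Equiv.swap a (g a) with hs
  have hsfix : ∀ b, g b = b → s b = b := fun b hb => swap_apply_of_ne_of_ne
    (fun h => ha (h ▸ hb)) (fun h => ha (g.injective (h ▸ hb)))
  set g' := s * g * s with hg'
  have hsg' : Equiv.Perm.sign g' = 1 := by
    rw [hg', map_mul, map_mul, hsg, mul_one, ← map_mul, swap_mul_self, map_one]
  have hC : ∀ z : Perm (Fin n), Equiv.Perm.sign z = 1 → z * g = g * z →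
      z ∈ Subgroup.zpowers g := fun z hs hz => commute_cycle hg hz (by
    rcases hco' with h | h
    · exact Or.inl (by omega)
    · exact Or.inr ⟨by omega, hsg, hs⟩)
  have hss : s * s = 1 := swap_mul_self _ _
  have hss' : ∀ y : Perm (Fin n), s * (s * y) = y := fun y => by rw [← mul_assoc, hss, one_mul]
  let M : Subgroup ↥(alternatingGroup (Fin n)) :=
    (MulAction.stabilizer (Perm (Fin n)) {b : Fin n | g b = b}).comap
      (alternatingGroup (Fin n)).subtype
  have hMmem : ∀ x : ↥(alternatingGroup (Fin n)),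
      (∀ b, g (x.1 b) = x.1 b ↔ g b = b) → x ∈ M := by
    intro x h
    show x.1 • {b : Fin n | g b = b} = {b : Fin n | g b = b}
    ext b
    rw [Set.mem_smul_set_iff_inv_smul_mem]
    have h1 := h ((x.1)⁻¹ b)
    rw [show x.1 ((x.1)⁻¹ b) = b from Equiv.apply_symm_apply x.1 b] at h1
    exact h1.symm
  refine no_cover M (fun h => ?_) ⟨g, hsg⟩ ⟨g', hsg'⟩
    (fun h => hg.ne_one (congrArg Subtype.val h)) ?_
    (fun z h1 h2 => Subtype.ext (cap_trivial hg ha (by omega)
      (hC z.1 z.2 (congrArg Subtype.val h1)) (congrArg Subtype.val h2)))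
  · have hga : g a ≠ f := fun h => ha (g.injective (h.trans hf.symm) ▸ hf)
    have hfa : f ≠ a := fun h => ha (h ▸ hf)
    have h1 : (⟨Equiv.swap f a * Equiv.swap f (g a), by
        rw [mem_alternatingGroup, map_mul, sign_swap hfa, sign_swap hga.symm]; rfl⟩ :
        ↥(alternatingGroup (Fin n))) ∈ M := h ▸ Subgroup.mem_top _
    have h2 : (Equiv.swap f a * Equiv.swap f (g a)) • {b : Fin n | g b = b} =
        {b : Fin n | g b = b} := h1
    have h3 : (Equiv.swap f a * Equiv.swap f (g a)) f ∈ {b : Fin n | g b = b} :=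
      h2 ▸ Set.smul_mem_smul_set hf
    rw [mul_apply, swap_apply_left, swap_apply_of_ne_of_ne hga ha] at h3
    exact ha (g.injective h3)
  · rintro N hN (hgN | hgN) x hx
    · obtain ⟨z, hz1, hz, hcomm⟩ := exists_power N hN
        (fun h => hg.ne_one (congrArg Subtype.val h)) hgN
        (p := fun z => z.1 ∈ Subgroup.zpowers g)
        (fun z hz => hC z.1 z.2 (congrArg Subtype.val hz))
      exact hMmem x (maps_fixed hg hz (fun h => hz1 (Subtype.ext h))
        (congrArg Subtype.val (hcomm x hx)))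
    · obtain ⟨z, hz1, hz, hcomm⟩ := exists_power N hN
        (fun h => hg.ne_one (by
          have h' := congrArg (fun y : ↥(alternatingGroup (Fin n)) => s * y.1 * s) h
          simpa only [hg', OneMemClass.coe_one, mul_assoc, hss', hss, mul_one] using h')) hgN
        (p := fun z => s * z.1 * s ∈ Subgroup.zpowers g)
        (fun z hz => hC _ (by rw [map_mul, map_mul, z.2, mul_one, ← map_mul, hss, map_one]) (by
          have h' := congrArg (fun y : ↥(alternatingGroup (Fin n)) => s * y.1 * s) hz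
          simpa only [hg', Subgroup.coe_mul, mul_assoc, hss', hss, mul_one] using h'))
      refine hMmem x fun b => ?_
      have h := maps_fixed hg hz (fun h => hz1 (Subtype.ext (by
          have h' := congrArg (fun y => s * y * s) h
          simpa only [OneMemClass.coe_one, mul_assoc, hss', hss, mul_one] using h')))
        (x := s * x.1 * s) (by
          have h' := congrArg (fun y : ↥(alternatingGroup (Fin n)) => s * y.1 * s) (hcomm x hx)
          simpa only [Subgroup.coe_mul, mul_assoc, hss', hss, mul_one] using h')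
      constructor
      · intro hb
        have h1 := h (s b)
        rw [mul_apply, mul_apply, hs, swap_apply_self, ← hs, hsfix _ hb] at h1
        have h2 := h1.mp hb
        have h3 := hsfix _ h2
        rw [hs, swap_apply_self] at h3
        rw [← hs] at h3
        exact h3.symm ▸ h2
      · intro hb
        have h1 := (h b).mpr hb
        rw [mul_apply, mul_apply, hsfix b hb] at h1
        have h3 := hsfix _ h1
        rw [hs, swap_apply_self] at h3
        rw [← hs] at h3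
        exact h3.symm ▸ h1

/-- A cover of a group is a finite set of proper subgroups whose union is the whole group; it is minimal when no cover has fewer members, and nilpotent when all its members are nilpotent. The alternating groups of degree at least 5 and the symmetric groups of degree at least 4 have no nilpotent minimal cover. -/
theorem result (n : ℕ) :
    (5 ≤ n → ¬ ∃ 𝓐 : Finset (Subgroup ↥(alternatingGroup (Fin n))), ((∀ A ∈ 𝓐, A ≠ ⊤) ∧ (∀ g : ↥(alternatingGroup (Fin n)), ∃ A ∈ 𝓐, g ∈ A)) ∧ (∀ 𝓑 : Finset (Subgroup ↥(alternatingGroup (Fin n))), (∀ A ∈ 𝓑, A ≠ ⊤) ∧ (∀ g : ↥(alternatingGroup (Fin n)), ∃ A ∈ 𝓑, g ∈ A) → 𝓐.card ≤ 𝓑.card) ∧ (∀ A ∈ 𝓐, Group.IsNilpotent ↥A)) ∧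
    (4 ≤ n → ¬ ∃ 𝓐 : Finset (Subgroup (Equiv.Perm (Fin n))), ((∀ A ∈ 𝓐, A ≠ ⊤) ∧ (∀ g : (Equiv.Perm (Fin n)), ∃ A ∈ 𝓐, g ∈ A)) ∧ (∀ 𝓑 : Finset (Subgroup (Equiv.Perm (Fin n))), (∀ A ∈ 𝓑, A ≠ ⊤) ∧ (∀ g : (Equiv.Perm (Fin n)), ∃ A ∈ 𝓑, g ∈ A) → 𝓐.card ≤ 𝓑.card) ∧ (∀ A ∈ 𝓐, Group.IsNilpotent ↥A)) := by
  refine ⟨fun hn => ?_, fun hn => ?_⟩
  · by_cases h5 : n = 5
    · subst h5
      exact alt_five
    rcases Nat.even_or_odd n with he | ho
    · exact alt_general (m := n - 1) (by omega) (by omega) (Nat.Even.sub_odd (by omega) he odd_one)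
        (Or.inl (by omega))
    · refine alt_general (m := n - 2) (by omega) (by omega) ?_ (Or.inr (by omega))
      obtain ⟨k, rfl⟩ := ho
      exact ⟨k - 1, by omega⟩
  · by_cases h4 : n = 4
    · subst h4
      exact sym_four
    exact sym_general (by omega)

end Cfsg.Agent.S3892
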