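import Cfsg.Statements.S3893
import Cfsg.Agent.Lib.PGroup.NilpotentCover

set_option autoImplicit false
set_option linter.style.haveILetI false
open Cfsg

namespace Cfsg.Agent.S3893

open Matrix CfsgLib.PGroup

section
variable {F : Type*} [Field F]

/-- `diag(a, t, t⁻¹, a⁻¹)` -/
def torusUnit (a t : Fˣ) : GL (Fin 4) F where
  val := Matrix.diagonal ![(a : F), t, (t⁻¹ : Fˣ), (a⁻¹ : Fˣ)]
  inv := Matrix.diagonal ![((a⁻¹ : Fˣ) : F), (t⁻¹ : Fˣ), t, a]
  val_inv := by
    rw [Matrix.diagonal_mul_diagonal, ← Matrix.diagonal_one]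
    congr 1
    funext i
    fin_cases i <;> simp
  inv_val := by
    rw [Matrix.diagonal_mul_diagonal, ← Matrix.diagonal_one]
    congr 1
    funext i
    fin_cases i <;> simp

/-- An upper unitriangular involution in the Suzuki group. -/
def uMat : Matrix (Fin 4) (Fin 4) F := !![1, 0, 1, 1; 0, 1, 0, 1; 0, 0, 1, 0; 0, 0, 0, 1]

/-- The antidiagonal. -/
def wMat : Matrix (Fin 4) (Fin 4) F := !![0, 0, 0, 1; 0, 0, 1, 0; 0, 1, 0, 0; 1, 0, 0, 0]

theorem two_zero [CharP F 2] : (2 : F) = 0 := by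
  exact_mod_cast CharP.cast_eq_zero F 2

theorem uMat_sq [CharP F 2] : uMat (F := F) * uMat = 1 := by
  ext i j
  fin_cases i <;> fin_cases j <;>
    simp [uMat, Matrix.mul_apply, Fin.sum_univ_four, CharTwo.add_self_eq_zero]

theorem wMat_sq : wMat (F := F) * wMat = 1 := by
  ext i j
  fin_cases i <;> fin_cases j <;> simp [wMat, Matrix.mul_apply, Fin.sum_univ_four]

theorem mem_sz_of {g : GL (Fin 4) F} {e : ℕ} (h1 : g ∈ Cfsg.Lie.Sp4 F)
    (h2 : Cfsg.Lie.star4 (g : Matrix (Fin 4) (Fin 4) F) =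
      (g : Matrix (Fin 4) (Fin 4) F).map (fun x => x ^ e)) : g ∈ Cfsg.Lie.Sz F e :=
  Subgroup.subset_closure ⟨h1, h2⟩

theorem torus_mem {a t : Fˣ} {e : ℕ} (he : e ≠ 0) (h1 : a * t = a ^ e) (h2 : a * t⁻¹ = t ^ e) :
    torusUnit a t ∈ Cfsg.Lie.Sz F e := by
  refine mem_sz_of ?_ ?_
  · intro u v
    simp [Cfsg.Lie.altForm4, torusUnit, Matrix.mulVec_diagonal]
    field_simp
  · have h3 : (a : F) * t = (a : F) ^ e := by exact_mod_cast congrArg Units.val h1
    have h4 : (a : F) * ((t : F))⁻¹ = (t : F) ^ e := by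
      have := congrArg Units.val h2
      simpa using this
    have h5 : (t : F) * (a : F)⁻¹ = ((t : F) ^ e)⁻¹ := by
      rw [← h4]; field_simp
    have h6 : ((a : F)⁻¹) * (t : F)⁻¹ = ((a : F) ^ e)⁻¹ := by
      rw [← h3]; field_simp
    ext i j
    fin_cases i <;> fin_cases j <;>
      simp [Cfsg.Lie.star4, Cfsg.Lie.pairOf, torusUnit, Matrix.diagonal, h3, h4, he]
    · rw [← h5]
    · rw [← h6]; ring

/-- The involution `u` as a unit. -/
def uUnit [CharP F 2] : GL (Fin 4) F := ⟨uMat, uMat, uMat_sq, uMat_sq⟩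

/-- The involution `w` as a unit. -/
def wUnit : GL (Fin 4) F := ⟨wMat, wMat, wMat_sq, wMat_sq⟩

theorem uUnit_mem [CharP F 2] {e : ℕ} (he : e ≠ 0) : uUnit (F := F) ∈ Cfsg.Lie.Sz F e := by
  refine mem_sz_of ?_ ?_
  · intro u v
    simp [Cfsg.Lie.altForm4, uUnit, uMat, dotProduct, Fin.sum_univ_four]
    linear_combination (u 2 * v 3 + u 3 * v 2 + u 3 * v 3) * two_zero (F := F)
  · ext i j
    fin_cases i <;> fin_cases j <;>
      simp [Cfsg.Lie.star4, Cfsg.Lie.pairOf, uUnit, uMat, he, CharTwo.neg_eq]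

theorem wUnit_mem [CharP F 2] {e : ℕ} (he : e ≠ 0) : wUnit (F := F) ∈ Cfsg.Lie.Sz F e := by
  refine mem_sz_of ?_ ?_
  · intro u v
    simp [Cfsg.Lie.altForm4, wUnit, wMat, dotProduct, Fin.sum_univ_four]
    ring
  · ext i j
    fin_cases i <;> fin_cases j <;>
      simp [Cfsg.Lie.star4, Cfsg.Lie.pairOf, wUnit, wMat, he, CharTwo.neg_eq]

/-- Upper triangular matrices. -/
def IsUT (x : GL (Fin 4) F) : Prop := ∀ i j : Fin 4, j < i → (x : Matrix (Fin 4) (Fin 4) F) i j = 0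

theorem isUT_mul {x y : GL (Fin 4) F} (hx : IsUT x) (hy : IsUT y) : IsUT (x * y) := by
  intro i j hij
  rw [Units.val_mul, Matrix.mul_apply]
  refine Finset.sum_eq_zero fun k _ => ?_
  by_cases hk : k < i
  · rw [hx i k hk, zero_mul]
  · rw [hy k j (lt_of_lt_of_le hij (not_lt.1 hk)), mul_zero]

theorem isUT_one : IsUT (1 : GL (Fin 4) F) := fun i j hij => by
  rw [Units.val_one, Matrix.one_apply_ne (ne_of_gt hij)]

theorem isUT_inv [Finite F] {x : GL (Fin 4) F} (hx : IsUT x) : IsUT x⁻¹ := by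
  have hpow : ∀ k : ℕ, IsUT (x ^ k) := by
    intro k
    induction k with
    | zero => rw [pow_zero]; exact isUT_one
    | succ k ih => rw [pow_succ]; exact isUT_mul ih hx
  obtain ⟨k, hk⟩ : x⁻¹ ∈ Submonoid.powers x :=
    ((isOfFinOrder_of_finite x).mem_powers_iff_mem_zpowers).2
      (inv_mem (Subgroup.mem_zpowers x))
  rw [← hk]
  exact hpow k

/-- The Borel subgroup of upper triangular matrices. -/
def borelUT (F : Type*) [Field F] [Finite F] : Subgroup (GL (Fin 4) F) where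
  carrier := {x | IsUT x}
  mul_mem' := fun hx hy => isUT_mul hx hy
  one_mem' := isUT_one
  inv_mem' := fun hx => isUT_inv hx

theorem isUT_of_isDiag {x : GL (Fin 4) F} (hx : IsDiagGL x) : IsUT x :=
  fun i j hij => hx i j (ne_of_gt hij)

end

/-- A cover of a group is a finite set of proper subgroups whose union is the whole group; it is minimal when no cover has fewer members, and nilpotent when all its members are nilpotent. The Suzuki groups Sz(q), q = 2^(2m+1) with m ≥ 1, have no nilpotent minimal cover. -/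
theorem result {F : Type*} [Field F] [Fintype F] (m : ℕ) (hm : 1 ≤ m) (hF : Fintype.card F = 2 ^ (2 * m + 1)) :
    ¬ ∃ 𝓐 : Finset (Subgroup ↥(Cfsg.Lie.Sz F (2 ^ (m + 1)))), ((∀ A ∈ 𝓐, A ≠ ⊤) ∧ (∀ g : ↥(Cfsg.Lie.Sz F (2 ^ (m + 1))), ∃ A ∈ 𝓐, g ∈ A)) ∧ (∀ 𝓑 : Finset (Subgroup ↥(Cfsg.Lie.Sz F (2 ^ (m + 1)))), (∀ A ∈ 𝓑, A ≠ ⊤) ∧ (∀ g : ↥(Cfsg.Lie.Sz F (2 ^ (m + 1))), ∃ A ∈ 𝓑, g ∈ A) → 𝓐.card ≤ 𝓑.card) ∧ (∀ A ∈ 𝓐, Group.IsNilpotent ↥A) := by
  classical
  obtain ⟨p, hp⟩ := CharP.exists F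
  haveI := hp
  obtain ⟨⟨k, hk0⟩, hpp, hk⟩ := FiniteField.card F p
  have hp2 : p = 2 := by
    refine (Nat.prime_dvd_prime_iff_eq hpp Nat.prime_two).1 (hpp.dvd_of_dvd_pow
      (n := 2 * m + 1) ?_)
    rw [← hF, hk]
    exact dvd_pow_self p hk0.ne'
  subst hp2
  haveI : Finite F := inferInstance
  set q := Fintype.card F with hq
  set e := 2 ^ (m + 1) with he
  have he0 : e ≠ 0 := pow_ne_zero _ two_ne_zero
  have hq4 : 4 ≤ q := by
    rw [hF]
    calc 4 = 2 ^ 2 := rfl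
      _ ≤ _ := Nat.pow_le_pow_right (by norm_num) (by omega)
  have hmod3 : 2 ^ (2 * m + 1) % 3 = 2 := by
    rw [pow_succ, pow_mul, Nat.mul_mod, Nat.pow_mod]
    norm_num
  have hodd : ¬ 2 ∣ q - 1 := by
    have : 2 ∣ q := by rw [hF]; exact dvd_pow_self 2 (by omega)
    omega
  obtain ⟨ℓ, hℓ, hℓq⟩ := Nat.exists_prime_and_dvd (show q - 1 ≠ 1 by omega)
  have hℓ5 : 4 < ℓ := by
    have h2 : ℓ ≠ 2 := fun h => hodd (h ▸ hℓq)
    have h3 : ℓ ≠ 3 := fun h => by
      subst h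
      rw [hF] at hℓq
      have : 1 ≤ 2 ^ (2 * m + 1) := Nat.one_le_two_pow
      omega
    have h4 : ℓ ≠ 4 := fun h => by subst h; norm_num at hℓ
    have := hℓ.two_le
    omega
  haveI := Fact.mk hℓ
  have hcu : Nat.card Fˣ = q - 1 := by rw [Nat.card_units, Nat.card_eq_fintype_card]
  obtain ⟨a, ha⟩ := exists_prime_orderOf_dvd_card' (G := Fˣ) ℓ (hcu ▸ hℓq)
  have hinj : ∀ x : Fˣ, x ^ ℓ = 1 → x ^ 2 = 1 → x = 1 := fun x h1 h2 => by
    have h := Nat.eq_one_of_dvd_coprimes ((Nat.coprime_primes hℓ Nat.prime_two).2 (by omega))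
      (orderOf_dvd_of_pow_eq_one h1) (orderOf_dvd_of_pow_eq_one h2)
    exact orderOf_eq_one_iff.1 h
  have haℓ : a ^ ℓ = 1 := ha ▸ pow_orderOf_eq_one a
  have ha1 : a ≠ 1 := fun h => by rw [h, orderOf_one] at ha; omega
  have hee : a ^ (e * e) = a ^ 2 := by
    have hee' : e * e = 2 * (q - 1) + 2 := by
      have h1 : e * e = 2 * q := by rw [he, hF, ← pow_add, ← pow_succ']; congr 1; ring
      omega
    rw [hee', pow_add, mul_comm 2 (q - 1), pow_mul, ← hcu, pow_card_eq_one', one_pow, one_mul]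
  set t : Fˣ := a⁻¹ * a ^ e with ht
  have h1 : a * t = a ^ e := by rw [ht, mul_inv_cancel_left]
  have h2 : a * t⁻¹ = t ^ e := by
    rw [ht, mul_pow, ← pow_mul, hee, inv_pow, _root_.mul_inv_rev, inv_inv]
    rw [pow_two]
    calc a * ((a ^ e)⁻¹ * a) = (a ^ e)⁻¹ * (a * a) := by rw [mul_left_comm]
      _ = _ := rfl
  have haa : a * a ≠ 1 := fun h => ha1 (hinj a haℓ (by rw [pow_two, h]))
  have hae : a ^ e ≠ 1 := fun h => haa (by rw [← pow_two, ← hee, pow_mul, h, one_pow])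
  have hae1 : a ^ e ≠ a := fun h => ha1 (by
    have h' : a ^ 2 = a := by rw [← hee, pow_mul, h, h]
    rwa [pow_two, mul_eq_left] at h')
  have hae2 : a ^ e ≠ a * a := fun h => haa (by
    rw [← pow_two] at h
    have h' : a ^ 2 * a ^ 2 = a ^ 2 :=
      calc a ^ 2 * a ^ 2 = (a ^ 2) ^ 2 := (pow_two _).symm
        _ = (a ^ e) ^ 2 := by rw [h]
        _ = (a ^ 2) ^ e := pow_right_comm _ _ _
        _ = (a ^ e) ^ e := by rw [h]
        _ = a ^ 2 := by rw [← pow_mul, hee]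
    rw [mul_eq_left] at h'
    rwa [← pow_two])
  have htℓ : t ^ ℓ = 1 := by
    rw [ht, mul_pow, inv_pow, haℓ, inv_one, one_mul, ← pow_mul, mul_comm, pow_mul, haℓ, one_pow]
  have hat : a ≠ t := fun h => hae2 (h1.symm.trans (by rw [← h]))
  have hati : a ≠ t⁻¹ := fun h => hae (h1.symm.trans (by rw [h, inv_mul_cancel]))
  have haai : a ≠ a⁻¹ := fun h => haa (eq_inv_iff_mul_eq_one.1 h)
  have htti : t ≠ t⁻¹ := fun h => hae1 (by
    have h' := hinj t htℓ (by rw [pow_two]; exact eq_inv_iff_mul_eq_one.1 h)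
    rw [← h1, h', mul_one])
  have htai : t ≠ a⁻¹ := fun h => hae (h1.symm.trans (by rw [h, mul_inv_cancel]))
  have htiai : t⁻¹ ≠ a⁻¹ := fun h => hat (inv_injective h).symm
  have hinjF : Function.Injective (Units.val : Fˣ → F) := Units.val_injective
  set d : GL (Fin 4) F := torusUnit a t with hd
  have hdD : IsDiagGL d := fun i j hij => by
    simp [hd, torusUnit, Matrix.diagonal_apply_ne _ hij]
  have hdist : ∀ i j, (d : Matrix (Fin 4) (Fin 4) F) i i = (d : Matrix (Fin 4) (Fin 4) F) j j →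
      i = j := by
    have hF' : ∀ x y : Fˣ, x ≠ y → (x : F) ≠ (y : F) := fun x y h h' => h (hinjF h')
    intro i j
    have e1 := hF' _ _ hat
    have e2 := hF' _ _ hati
    have e3 := hF' _ _ haai
    have e4 := hF' _ _ htti
    have e5 := hF' _ _ htai
    have e6 := hF' _ _ htiai
    rw [Units.val_inv_eq_inv_val] at e2 e3 e4 e5
    rw [Units.val_inv_eq_inv_val, Units.val_inv_eq_inv_val] at e6
    fin_cases i <;> fin_cases j <;>
      simp [hd, torusUnit, e1, e2, e3, e4, e5, e6, e1.symm, e2.symm, e3.symm, e4.symm, e5.symm,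
        e6.symm]
  have hdord : orderOf d = ℓ := by
    refine orderOf_eq_prime (Units.ext ?_) ?_
    · rw [Units.val_pow_eq_pow_val, Units.val_one]
      show (Matrix.diagonal ![(a : F), t, (t⁻¹ : Fˣ), (a⁻¹ : Fˣ)]) ^ ℓ = 1
      rw [Matrix.diagonal_pow, ← Matrix.diagonal_one]
      congr 1
      funext i
      have ha' : (a : F) ^ ℓ = 1 := by rw [← Units.val_pow_eq_pow_val, haℓ, Units.val_one]
      have ht' : (t : F) ^ ℓ = 1 := by rw [← Units.val_pow_eq_pow_val, htℓ, Units.val_one]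
      fin_cases i <;> simp [ha', ht']
    · intro h
      have := congrFun (congrFun (congrArg (fun g : GL (Fin 4) F => (g : Matrix (Fin 4) (Fin 4) F)) h) 0) 0
      simp [hd, torusUnit, ha1] at this
  set S := Cfsg.Lie.Sz F e with hS
  set dS : S := ⟨d, torus_mem he0 h1 h2⟩ with hdS
  set uS : S := ⟨uUnit, uUnit_mem he0⟩ with huS
  set B : Subgroup S := (borelUT F).subgroupOf S with hB
  have huUT : IsUT (uUnit (F := F)) := by
    intro i j hij
    fin_cases i <;> fin_cases j <;> simp [uUnit, uMat] at hij ⊢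
  have key : ∀ A : Subgroup S, Group.IsNilpotent A → dS ∈ A →
      ∀ x ∈ A, IsDiagGL (x : GL (Fin 4) F) := by
    intro A hA hdA x hx
    haveI := hA
    have hA' : Group.IsNilpotent (A.map S.subtype) :=
      Group.nilpotent_of_mulEquiv (A.equivMapOfInjective S.subtype S.subtype_injective)
    exact le_diagGL_of_nilpotent _ hA' hℓ hℓ5 (Subgroup.mem_map_of_mem _ hdA) hdD hdord hdist
      (Subgroup.mem_map_of_mem _ hx)
  refine no_nilpotent_minimal_cover B ?_ dS (uS * dS * uS⁻¹) ?_ ?_ ?_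
  · intro h
    have hw : (⟨wUnit, wUnit_mem he0⟩ : S) ∈ B := h ▸ Subgroup.mem_top _
    have := hw 3 0 (by decide)
    simp [wUnit, wMat] at this
  · intro A _ hA hdA x hx
    exact isUT_of_isDiag (key A hA hdA x hx)
  · intro A _ hA hdA x hx
    haveI := hA
    have h := key (A.map (MulAut.conj uS⁻¹).toMonoidHom)
      (Group.nilpotent_of_mulEquiv (A.equivMapOfInjective _ (MulAut.conj uS⁻¹).injective))
      ⟨_, hdA, by simp [mul_assoc]⟩ (uS⁻¹ * x * uS) ⟨x, hx, by simp [mul_assoc]⟩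
    have hx' : (x : GL (Fin 4) F) =
        uUnit * ((uS⁻¹ * x * uS : S) : GL (Fin 4) F) * uUnit⁻¹ := by
      simp [huS, mul_assoc]
    show IsUT (x : GL (Fin 4) F)
    rw [hx']
    exact isUT_mul (isUT_mul huUT (isUT_of_isDiag h)) (isUT_inv huUT)
  · intro A _ hA hdA hdA'
    have h := key A hA hdA _ hdA' 0 2 (by decide)
    replace h : ((uMat (F := F)) * Matrix.diagonal ![(a : F), t, (t⁻¹ : Fˣ), (a⁻¹ : Fˣ)] *
        uMat (F := F)) 0 2 = 0 := h
    simp only [Matrix.mul_apply (N := uMat), Matrix.mul_diagonal, Fin.sum_univ_four] at h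
    simp [uMat] at h
    apply hati
    apply hinjF
    rw [Units.val_inv_eq_inv_val]
    exact CharTwo.add_eq_zero.1 h

end Cfsg.Agent.S3893
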