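import Cfsg.Statements.S3894
import Cfsg.Agent.Lib.PGroup.LinearCoverTwo

set_option autoImplicit false
set_option linter.style.haveILetI false
open Cfsg

namespace Cfsg.Agent.S3894

open Matrix CfsgLib.PGroup CfsgLib.PGroup.LinCov

variable {F : Type*} [Field F] [Finite F]

local notation "⟪" g "⟫" => ((g : GL (Fin 2) F) : Matrix (Fin 2) (Fin 2) F)
local notation "π₂" => QuotientGroup.mk' (Subgroup.center (GL (Fin 2) F))

theorem center_scalar {z : GL (Fin 2) F} (hz : z ∈ Subgroup.center (GL (Fin 2) F)) :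
    ∃ c : F, ⟪z⟫ = c • (1 : Matrix (Fin 2) (Fin 2) F) := by
  obtain ⟨c, hc⟩ := Matrix.GeneralLinearGroup.mem_center_iff_val_mem_range_scalar.1 hz
  exact ⟨c, by rw [← hc, Matrix.scalar_apply, Matrix.smul_one_eq_diagonal]⟩

omit [Finite F] in
theorem dtor_mulVec (a : Fˣ) (x : Fin 2 → F) :
    ⟪SpecialLinearGroup.toGL (dtor a)⟫ *ᵥ x = ![(a : F) * x 0, (a : F)⁻¹ * x 1] := by
  funext i
  change ((!![(a : F), 0; 0, (a⁻¹ : Fˣ)] : Matrix _ _ F) *ᵥ x) i = _
  fin_cases i <;> simp [dotProduct, Fin.sum_univ_two]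

theorem borel_case (G : Subgroup (GL (Fin 2) F ⧸ Subgroup.center (GL (Fin 2) F)))
    (hG : ∀ s, π₂ (SpecialLinearGroup.toGL s) ∈ G) {ℓ : ℕ} (hℓ : ℓ.Prime) (hℓ2 : ℓ ≠ 2)
    (hℓq : ℓ ∣ Nat.card F - 1) : NoNilCover G := by
  haveI := Fact.mk hℓ
  obtain ⟨a, ha⟩ := exists_prime_orderOf_dvd_card' (G := Fˣ) ℓ (by rw [Nat.card_units]; exact hℓq)
  have hℓ3 : 2 < ℓ := lt_of_le_of_ne hℓ.two_le (Ne.symm hℓ2)
  have ha1 : a ≠ 1 := fun h => by rw [h, orderOf_one] at ha; omega
  have ha2 : a ≠ a⁻¹ := fun h => by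
    have h2 : a ^ 2 = 1 := by rw [pow_two]; exact eq_inv_iff_mul_eq_one.1 h
    have := Nat.le_of_dvd two_pos (ha ▸ orderOf_dvd_of_pow_eq_one h2)
    omega
  set d : GL (Fin 2) F := SpecialLinearGroup.toGL (dtor a) with hd
  have hdval : ⟪d⟫ = Matrix.diagonal ![(a : F), (a⁻¹ : Fˣ)] := by
    ext i j
    change (!![(a : F), 0; 0, (a⁻¹ : Fˣ)] : Matrix _ _ F) i j = _
    fin_cases i <;> fin_cases j <;> simp
  have hdD : IsDiagGL d := fun i j hij => by rw [hdval, Matrix.diagonal_apply_ne _ hij]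
  have hdord : orderOf d = ℓ := by
    refine orderOf_eq_prime (Units.ext ?_) ?_
    · rw [Units.val_pow_eq_pow_val, Units.val_one, hdval, Matrix.diagonal_pow, ← Matrix.diagonal_one]
      congr 1
      have h1 : a ^ ℓ = 1 := ha ▸ pow_orderOf_eq_one a
      have ha' : (a : F) ^ ℓ = 1 := by rw [← Units.val_pow_eq_pow_val, h1, Units.val_one]
      funext i
      fin_cases i <;> simp [ha']
    · intro h
      have := congrFun (congrFun (congrArg (fun g : GL (Fin 2) F => (g : Matrix (Fin 2) (Fin 2) F)) h) 0) 0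
      simp [hdval, ha1] at this
  have hdist : ∀ i j, ⟪d⟫ i i = ⟪d⟫ j j → i = j := by
    intro i j
    have hne : (a : F) ≠ (a⁻¹ : Fˣ) := fun h => ha2 (Units.ext h)
    rw [hdval]
    fin_cases i <;> fin_cases j <;> intro h <;> simp at h ⊢
    · exact hne (by simpa using h)
    · exact hne (by simpa using h.symm)
  have hdiag : diagGL F 2 ≤ utGL F 2 := fun x hx i j hij => hx i j (ne_of_gt hij)
  refine no_nilpotent_minimal_cover_lift π₂ (QuotientGroup.mk'_surjective _)
    (by rw [QuotientGroup.ker_mk']) G (utGL F 2) (by rw [QuotientGroup.ker_mk']; exact center_le_utGL)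
    (SpecialLinearGroup.toGL (tvec ![0, 1])) (hG _) ?_
    (SpecialLinearGroup.toGL (regUni F 2)) d (hG _) (hG _)
    (fun A hA hu => le_utGL_of_nilpotent A hA hu) ?_ ?_
  · intro h
    have h1 := h 1 0 (by decide)
    change (!![(1 : F) - ![0, 1] 0 * ![0, 1] 1, _; -(![0, 1] 1 * ![0, 1] 1), _] : Matrix _ _ F) 1 0 = 0
      at h1
    simp at h1
  · exact fun A hA h => (le_diagGL_of_nilpotent A hA hℓ hℓ3 h hdD hdord hdist).trans hdiag
  · intro A hA hu hd'
    have h := le_diagGL_of_nilpotent A hA hℓ hℓ3 hd' hdD hdord hdist hu 0 1 (by decide)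
    rw [regUni_apply] at h
    simp at h

theorem counting_case (G : Subgroup (GL (Fin 2) F ⧸ Subgroup.center (GL (Fin 2) F)))
    (hG : ∀ s, π₂ (SpecialLinearGroup.toGL s) ∈ G) (h2 : (2 : F) ≠ 0) (hq : 4 ≤ Nat.card F)
    {r : ℕ} (hr : r.Prime) (hr2 : r ≠ 2) (hrq : r ∣ Nat.card F + 1) : NoNilCover G := by
  classical
  haveI := Fact.mk hr
  haveI := Fintype.ofFinite F
  obtain ⟨p, hchar⟩ := CharP.exists F
  haveI := hchar
  obtain ⟨⟨f, hf0⟩, hp, hpf⟩ := FiniteField.card F p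
  haveI := Fact.mk hp
  set q := Nat.card F with hqdef
  have hqp : q = p ^ f := by rw [hqdef, Nat.card_eq_fintype_card, hpf]; rfl
  set Forms : Set (Subgroup (GL (Fin 2) F)) :=
    {X | (∃ v : Fin 2 → F, v ≠ 0 ∧ X = vstab v) ∨
      ∃ x, Ellip x ∧ X = Subgroup.centralizer {x}} with hForms
  have hzX : ∀ X ∈ Forms, Subgroup.center (GL (Fin 2) F) ≤ X := by
    rintro X (⟨v, hv, rfl⟩ | ⟨x, hx, rfl⟩) z hz
    · obtain ⟨c, hc⟩ := center_scalar hz
      exact ⟨c, by rw [hc, Matrix.smul_mulVec, Matrix.one_mulVec]⟩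
    · exact mem_cent_iff.2 ((Subgroup.mem_center_iff.1 hz x).symm)
  have hns : ∀ v : Fin 2 → F, v ≠ 0 → ∀ α : F,
      ⟪SpecialLinearGroup.toGL (tvec v)⟫ ≠ α • (1 : Matrix (Fin 2) (Fin 2) F) := by
    intro v hv α h
    have e01 := congrFun (congrFun h 0) 1
    have e10 := congrFun (congrFun h 1) 0
    change v 0 * v 0 = _ at e01
    change -(v 1 * v 1) = _ at e10
    simp at e01 e10
    exact hv (funext fun i => by fin_cases i <;> assumption)
  -- the split torus element
  obtain ⟨a, ha⟩ : ∃ a : Fˣ, a * a ≠ 1 := by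
    by_contra hc
    push Not at hc
    have hsub : (Finset.univ : Finset Fˣ) ⊆ {1, -1} := fun c _ => by
      have h1 : (c : F) * c = 1 := by rw [← Units.val_mul, hc c, Units.val_one]
      rcases mul_self_eq_one_iff.1 h1 with h | h
      · simp [show c = 1 from Units.ext h]
      · simp [show c = -1 from Units.ext h]
    have h1 : (Finset.univ : Finset Fˣ).card ≤ 2 :=
      (Finset.card_le_card hsub).trans Finset.card_le_two
    rw [Finset.card_univ, ← Nat.card_eq_fintype_card, Nat.card_units, ← hqdef] at h1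
    omega
  set d : GL (Fin 2) F := SpecialLinearGroup.toGL (dtor a) with hd
  have hdval : ⟪d⟫ = !![(a : F), 0; 0, (a⁻¹ : Fˣ)] := rfl
  have hns' : ∀ α : F, ⟪d⟫ ≠ α • (1 : Matrix (Fin 2) (Fin 2) F) := by
    intro α hα
    have e0 := congrFun (congrFun hα 0) 0
    have e1 := congrFun (congrFun hα 1) 1
    rw [hdval] at e0 e1
    simp at e0 e1
    exact ha (by rw [← eq_inv_iff_mul_eq_one]; exact Units.ext (by simpa using e0.trans e1.symm))
  have hsame : ∀ v : Fin 2 → F, v ≠ 0 → ∀ A : Subgroup (GL (Fin 2) F), Group.IsNilpotent A →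
      SpecialLinearGroup.toGL (tvec v) ∈ A → d ∈ A → False := by
    intro v hv A hA hu' hd'
    set u : GL (Fin 2) F := SpecialLinearGroup.toGL (tvec v) with hu
    haveI := hA
    have hup : ∀ k : ℕ, ⟪u ^ k⟫ = !![1 - (k : F) * (v 0 * v 1), (k : F) * (v 0 * v 0);
        -((k : F) * (v 1 * v 1)), 1 + (k : F) * (v 0 * v 1)] := by
      intro k
      induction k with
      | zero => simp [Matrix.one_fin_two]
      | succ k ih =>
        rw [pow_succ, Units.val_mul, ih, hu]
        change _ * (!![1 - v 0 * v 1, v 0 * v 0; -(v 1 * v 1), 1 + v 0 * v 1] : Matrix _ _ F) = _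
        rw [Matrix.mul_fin_two]
        ext i j
        fin_cases i <;> fin_cases j <;> push_cast <;> simp <;> ring
    have huq : u ^ q = 1 := Units.ext (by
      have h0 : (q : F) = 0 := by
        rw [hqdef, Nat.card_eq_fintype_card]; exact FiniteField.cast_card_eq_zero F
      rw [hup, h0]
      simp [Matrix.one_fin_two])
    have hdq : d ^ (q - 1) = 1 := by
      have h1 : a ^ (q - 1) = 1 := by rw [hqdef, ← Nat.card_units]; exact pow_card_eq_one'
      have ha' : (a : F) ^ (q - 1) = 1 := by rw [← Units.val_pow_eq_pow_val, h1, Units.val_one]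
      apply Units.ext
      rw [Units.val_pow_eq_pow_val, hdval, show (!![(a : F), 0; 0, (a⁻¹ : Fˣ)]) =
        Matrix.diagonal ![(a : F), (a⁻¹ : Fˣ)] from by
          ext i j; fin_cases i <;> fin_cases j <;> simp, Matrix.diagonal_pow, Units.val_one,
        ← Matrix.diagonal_one]
      congr 1
      funext i
      fin_cases i <;> simp [ha']
    have hcopd : (orderOf (⟨d, hd'⟩ : A)).Coprime p := by
      rw [← orderOf_injective A.subtype A.subtype_injective, Subgroup.coe_subtype]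
      refine (Nat.Coprime.coprime_dvd_left (orderOf_dvd_of_pow_eq_one hdq) ?_)
      refine (Nat.Coprime.symm ((hp.coprime_iff_not_dvd).2 fun h => ?_))
      have : p ∣ q := hqp ▸ dvd_pow_self p hf0.ne'
      have h1 := Nat.dvd_sub this h
      rw [show q - (q - 1) = 1 by omega] at h1
      exact hp.ne_one (Nat.dvd_one.1 h1)
    have hupg : IsPGroup p (Subgroup.zpowers (⟨u, hu'⟩ : A)) := by
      rintro ⟨w, hw⟩
      refine ⟨f, Subtype.ext ?_⟩
      obtain ⟨i, rfl⟩ := hw
      have : (⟨u, hu'⟩ : A) ^ q = 1 := Subtype.ext huq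
      simp only [SubgroupClass.coe_pow, ← hqp, OneMemClass.coe_one]
      rw [← zpow_natCast, ← _root_.zpow_mul, mul_comm, _root_.zpow_mul, zpow_natCast, this,
        _root_.one_zpow]
    have hc := congrArg (fun g : A => ⟪(g : GL (Fin 2) F)⟫)
      (CfsgLib.Coprime.commute_of_coprime_pow hcopd hupg (Subgroup.mem_zpowers _)).eq
    simp only [Subgroup.coe_mul, Units.val_mul, hdval] at hc
    change _ * (!![1 - v 0 * v 1, v 0 * v 0; -(v 1 * v 1), 1 + v 0 * v 1] : Matrix _ _ F) =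
      (!![1 - v 0 * v 1, v 0 * v 0; -(v 1 * v 1), 1 + v 0 * v 1] : Matrix _ _ F) * _ at hc
    have hna : (a : F) ≠ ((a⁻¹ : Fˣ) : F) := fun h => ha (eq_inv_iff_mul_eq_one.1 (Units.ext h))
    have e01 := congrFun (congrFun hc 0) 1
    have e10 := congrFun (congrFun hc 1) 0
    rw [Matrix.mul_fin_two, Matrix.mul_fin_two] at e01 e10
    simp only [Matrix.of_apply, Matrix.cons_val', Matrix.cons_val_zero, Matrix.cons_val_one,
      Matrix.empty_val', Matrix.cons_val_fin_one] at e01 e10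
    have v0 : v 0 = 0 := by
      have : v 0 * v 0 * ((a : F) - ((a⁻¹ : Fˣ) : F)) = 0 := by linear_combination e01
      exact mul_self_eq_zero.1 ((mul_eq_zero.1 this).resolve_right (sub_ne_zero.2 hna))
    have v1 : v 1 = 0 := by
      have : v 1 * v 1 * ((a : F) - ((a⁻¹ : Fˣ) : F)) = 0 := by linear_combination e10
      exact mul_self_eq_zero.1 ((mul_eq_zero.1 this).resolve_right (sub_ne_zero.2 hna))
    exact hv (funext fun i => by fin_cases i <;> assumption)
  -- the witnesses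
  have hrep : ∀ X ∈ Forms, ∃ s : Matrix.SpecialLinearGroup (Fin 2) F,
      (∀ A : Subgroup (GL (Fin 2) F), Group.IsNilpotent A → SpecialLinearGroup.toGL s ∈ A → A ≤ X) ∧
      (∀ Y ∈ Forms, SpecialLinearGroup.toGL s ∈ Y → Y = X) ∧
      (∀ A : Subgroup (GL (Fin 2) F), Group.IsNilpotent A → SpecialLinearGroup.toGL s ∈ A → d ∈ A → False) := by
    rintro X (⟨v, hv, rfl⟩ | ⟨x, hx, rfl⟩)
    · refine ⟨tvec v, fun A hA h => le_vstab_of_nilpotent hv A hA h, ?_, hsame v hv⟩
      rintro Y (⟨w, hw, rfl⟩ | ⟨x, hx, rfl⟩) hY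
      · exact (vstab_eq_of_tvec_mem hv hw hY).symm
      · obtain ⟨c, hc⟩ := tvec_mem_vstab v
        exact absurd hc ((cent_eq_of_mem hx (mem_cent_iff.1 hY) (hns v hv)).1 v hv c)
    · have hrd : r ∣ Nat.card (Subgroup.centralizer ({x} : Set (GL (Fin 2) F))) := by
        rw [← sq_sub_one_dvd_card_cent hx, ← hqdef,
          show q ^ 2 - 1 = (q + 1) * (q - 1) from by rw [← Nat.sq_sub_sq, one_pow]]
        exact dvd_mul_of_dvd_left hrq _
      obtain ⟨⟨h, hhx⟩, hord⟩ := exists_prime_orderOf_dvd_card' r hrd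
      rw [Subgroup.orderOf_mk] at hord
      have hcop : r.Coprime (q - 1) := (hr.coprime_iff_not_dvd).2 fun hd => hr2 (by
        have h1 : r ∣ (q + 1) - (q - 1) := Nat.dvd_sub hrq hd
        rw [show q + 1 - (q - 1) = 2 by omega] at h1
        exact (Nat.prime_dvd_prime_iff_eq hr Nat.prime_two).1 h1)
      have hunit : ∀ c : Fˣ, c ^ r = 1 → c = 1 := fun c hc => by
        have h1 : orderOf c ∣ q - 1 := by
          rw [hqdef, ← Nat.card_units]; exact orderOf_dvd_natCard c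
        exact orderOf_eq_one_iff.1
          (Nat.eq_one_of_dvd_coprimes hcop (orderOf_dvd_of_pow_eq_one hc) h1)
      have hdet1 : ⟪h⟫.det = 1 := by
        have hdr : GeneralLinearGroup.det h ^ r = 1 := by
          rw [← map_pow, ← hord, pow_orderOf_eq_one, map_one]
        exact congrArg Units.val (hunit _ hdr)
      have hnsh : ∀ α : F, ⟪h⟫ ≠ α • (1 : Matrix (Fin 2) (Fin 2) F) := by
        intro α hα
        have hpow := pow_orderOf_eq_one h
        rw [hord] at hpow
        have h1 := congrArg (fun g : GL (Fin 2) F => (g : Matrix (Fin 2) (Fin 2) F)) hpow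
        simp only [Units.val_pow_eq_pow_val, hα, _root_.smul_pow, one_pow, Units.val_one] at h1
        have h00 := congrFun (congrFun h1 0) 0
        simp at h00
        have hα0 : α ≠ 0 := fun h0 => by rw [h0, zero_pow hr.ne_zero] at h00; exact zero_ne_one h00
        have hu := hunit (Units.mk0 α hα0) (Units.ext (by simpa using h00))
        have h1' : α = 1 := congrArg Units.val hu
        rw [h1', one_smul] at hα
        rw [show h = 1 from Units.ext hα, orderOf_one] at hord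
        exact hr.ne_one hord.symm
      obtain ⟨hell, hcent⟩ := cent_eq_of_mem hx (mem_cent_iff.1 hhx) hnsh
      refine ⟨⟨⟪h⟫, hdet1⟩, ?_, ?_, ?_⟩
      · intro A hA hs
        rw [← hcent]
        have heq : SpecialLinearGroup.toGL (⟨⟪h⟫, hdet1⟩ : Matrix.SpecialLinearGroup (Fin 2) F) = h :=
          Units.ext rfl
        exact le_cent_of_nilpotent hr hr2 h2 A hA (heq ▸ hs) hord hell
      · intro Y hY hs
        have heq : SpecialLinearGroup.toGL (⟨⟪h⟫, hdet1⟩ : Matrix.SpecialLinearGroup (Fin 2) F) = h :=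
          Units.ext rfl
        rw [heq] at hs
        rcases hY with ⟨w, hw, rfl⟩ | ⟨x', hx', rfl⟩
        · obtain ⟨c, hc⟩ := hs
          exact absurd hc (hell w hw c)
        · exact ((cent_eq_of_mem hx' (mem_cent_iff.1 hs) hnsh).2).symm.trans hcent
      · intro A hA hs hd'
        have heq : SpecialLinearGroup.toGL (⟨⟪h⟫, hdet1⟩ : Matrix.SpecialLinearGroup (Fin 2) F) = h :=
          Units.ext rfl
        have hdX := le_cent_of_nilpotent hr hr2 h2 A hA (heq ▸ hs) hord hell hd'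
        refine (cent_eq_of_mem hell (mem_cent_iff.1 hdX) hns').1 ![1, 0]
          (fun e => by simpa using congrFun e 0) (a : F) ?_
        rw [hd, dtor_mulVec]
        funext i
        fin_cases i <;> simp

  rintro ⟨𝓐, ⟨hproper, hcov⟩, hmin, hnil⟩
  set L : Subgroup G → Subgroup (GL (Fin 2) F) := fun A => (A.map G.subtype).comap π₂ with hL
  have hLnil : ∀ A ∈ 𝓐, Group.IsNilpotent (L A) := fun A hA =>
    isNilpotent_comap _ (by rw [QuotientGroup.ker_mk']) _ (haveI := hnil A hA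
      Group.nilpotent_of_mulEquiv (A.equivMapOfInjective G.subtype G.subtype_injective))
  obtain ⟨Ad, hAd, hdA⟩ := hcov ⟨π₂ d, hG _⟩
  choose! rep hforced huniq hbad using hrep
  choose m hmA hmem using fun X => hcov ⟨π₂ (SpecialLinearGroup.toGL (rep X)), hG _⟩
  have hmle : ∀ X ∈ Forms, L (m X) ≤ X := fun X hX =>
    hforced X hX _ (hLnil _ (hmA X)) ⟨_, hmem X, rfl⟩
  have hinj : Set.InjOn m Forms := fun X hX Y hY h =>
    (huniq X hX Y hY (hmle Y hY (h ▸ (⟨_, hmem X, rfl⟩ : _ ∈ L (m X))))).symm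
  have hne : ∀ X ∈ Forms, m X ≠ Ad := fun X hX h =>
    hbad X hX _ (hLnil _ (hmA X)) ⟨_, hmem X, rfl⟩ ⟨_, h ▸ hdA, rfl⟩
  set D : Subgroup (GL (Fin 2) F) → Subgroup G := fun X => (X.map π₂).subgroupOf G with hD
  set 𝓕 : Finset (Subgroup (GL (Fin 2) F)) := Forms.toFinite.toFinset with h𝓕
  have hcard : 𝓕.card + 1 ≤ 𝓐.card := by
    have h1 : (𝓕.image m).card = 𝓕.card :=
      Finset.card_image_of_injOn (fun X hX Y hY =>
        hinj (Forms.toFinite.mem_toFinset.1 hX) (Forms.toFinite.mem_toFinset.1 hY))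
    have h2 : 𝓕.image m ⊆ 𝓐.erase Ad := fun A hA => by
      obtain ⟨X, hX, rfl⟩ := Finset.mem_image.1 hA
      exact Finset.mem_erase.2 ⟨hne X (Forms.toFinite.mem_toFinset.1 hX), hmA X⟩
    have h3 := Finset.card_le_card h2
    rw [h1, Finset.card_erase_of_mem hAd] at h3
    have := Finset.card_pos.2 ⟨Ad, hAd⟩
    omega
  have hle := hmin (𝓕.image D) ⟨?_, ?_⟩
  · have := Finset.card_image_le (s := 𝓕) (f := D)
    omega
  · intro A hA
    obtain ⟨X, hX, rfl⟩ := Finset.mem_image.1 hA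
    have hX' := Forms.toFinite.mem_toFinset.1 hX
    intro htop
    have hall : ∀ s, SpecialLinearGroup.toGL s ∈ X := by
      intro s
      have h1 : (⟨π₂ (SpecialLinearGroup.toGL s), hG s⟩ : G) ∈ D X := htop ▸ Subgroup.mem_top _
      have h2 : SpecialLinearGroup.toGL s ∈ (X.map π₂).comap π₂ := h1
      rw [Subgroup.comap_map_eq, QuotientGroup.ker_mk', sup_eq_left.2 (hzX X hX')] at h2
      exact h2
    rcases hX' with ⟨v, hv, rfl⟩ | ⟨x, hx, rfl⟩
    · have e01 : (![0, 1] : Fin 2 → F) ≠ 0 := fun e => by simpa using congrFun e 1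
      have e10 : (![1, 0] : Fin 2 → F) ≠ 0 := fun e => by simpa using congrFun e 0
      have h01 := vstab_eq_of_tvec_mem e01 hv (hall _)
      have h10 := vstab_eq_of_tvec_mem e10 hv (hall _)
      have h3 := tvec_mem_vstab (F := F) ![1, 0]
      rw [h10, ← h01] at h3
      obtain ⟨c, hc⟩ := h3
      obtain ⟨e, he⟩ := tvec_eigen e10 hc
      simpa using congrFun he 1
    · have e10 : (![1, 0] : Fin 2 → F) ≠ 0 := fun e => by simpa using congrFun e 0
      obtain ⟨c, hc⟩ := tvec_mem_vstab (F := F) ![1, 0]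
      exact (cent_eq_of_mem hx (mem_cent_iff.1 (hall _)) (hns _ e10)).1 _ e10 c hc
  · intro g
    obtain ⟨y, hy⟩ := QuotientGroup.mk'_surjective (Subgroup.center (GL (Fin 2) F)) (g.1)
    by_cases hell : Ellip y
    · exact ⟨D (Subgroup.centralizer {y}), Finset.mem_image_of_mem _
        (Forms.toFinite.mem_toFinset.2 (Or.inr ⟨y, hell, rfl⟩)),
        ⟨y, mem_cent_iff.2 (Commute.refl y), hy⟩⟩
    · simp only [Ellip, ne_eq, not_forall, not_not] at hell
      obtain ⟨v, hv, c, hc⟩ := hell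
      exact ⟨D (vstab v), Finset.mem_image_of_mem _
        (Forms.toFinite.mem_toFinset.2 (Or.inl ⟨v, hv, rfl⟩)), ⟨y, ⟨c, hc⟩, hy⟩⟩

/-- A cover of a group is a finite set of proper subgroups whose union is the whole group; it is minimal when no cover has fewer members, and nilpotent when all its members are nilpotent. Let F be a finite field with q elements and n ≥ 3, or n = 2 and q ≥ 4. Then no subgroup of PGL_n(F) = GL_n(F)/Z(GL_n(F)) containing the image of SL_n(F) has a nilpotent minimal cover. -/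
theorem result {F : Type*} [Field F] [Fintype F] (n : ℕ) (hn : 3 ≤ n ∨ (n = 2 ∧ 4 ≤ Fintype.card F))
    (G : Subgroup (GL (Fin n) F ⧸ Subgroup.center (GL (Fin n) F)))
    (hG : ((Matrix.SpecialLinearGroup.toGL : Matrix.SpecialLinearGroup (Fin n) F →* GL (Fin n) F).range).map
      (QuotientGroup.mk' (Subgroup.center (GL (Fin n) F))) ≤ G) :
    ¬ ∃ 𝓐 : Finset (Subgroup ↥G), ((∀ A ∈ 𝓐, A ≠ ⊤) ∧ (∀ g : ↥G, ∃ A ∈ 𝓐, g ∈ A)) ∧ (∀ 𝓑 : Finset (Subgroup ↥G), (∀ A ∈ 𝓑, A ≠ ⊤) ∧ (∀ g : ↥G, ∃ A ∈ 𝓑, g ∈ A) → 𝓐.card ≤ 𝓑.card) ∧ (∀ A ∈ 𝓐, Group.IsNilpotent ↥A) := by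
  classical
  haveI : Finite F := Finite.of_fintype F
  have hG' : ∀ s, QuotientGroup.mk' _ (Matrix.SpecialLinearGroup.toGL s) ∈ G := fun s =>
    hG ⟨_, ⟨s, rfl⟩, rfl⟩
  by_cases hn3 : 3 ≤ n
  · exact noNilCover_of_three_le G hG' hn3
  rcases hn with hn | ⟨rfl, hq⟩
  · exact absurd hn hn3
  rw [← Nat.card_eq_fintype_card] at hq
  by_cases hodd : ∃ ℓ : ℕ, ℓ.Prime ∧ ℓ ≠ 2 ∧ ℓ ∣ Nat.card F - 1
  · obtain ⟨ℓ, h1, h2, h3⟩ := hodd
    exact borel_case G hG' h1 h2 h3
  push Not at hodd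
  set q := Nat.card F with hqdef
  have hpow : ∃ k, q - 1 = 2 ^ k := ⟨_, Nat.eq_prime_pow_of_unique_prime_dvd (by omega) fun {d} hd hdq => by
    by_contra hne
    exact hodd d hd hne hdq⟩
  obtain ⟨k, hk⟩ := hpow
  obtain ⟨k, rfl⟩ : ∃ j, k = j + 2 := ⟨k - 2, by
    by_contra hc
    have : k ≤ 1 := by omega
    interval_cases k <;> omega⟩
  rw [pow_add] at hk
  have h2 : (2 : F) ≠ 0 := by
    intro h0
    obtain ⟨p, hp⟩ := CharP.exists F
    haveI := hp
    obtain ⟨f, hpp, hf⟩ := FiniteField.card F p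
    have hp2 : p ∣ 2 := (CharP.cast_eq_zero_iff F p 2).1 (by exact_mod_cast h0)
    rw [(Nat.prime_dvd_prime_iff_eq hpp Nat.prime_two).1 hp2, ← Nat.card_eq_fintype_card,
      ← hqdef] at hf
    have : 2 ∣ q := hf ▸ dvd_pow_self 2 f.2.ne'
    omega
  obtain ⟨r, hr, hrq⟩ := Nat.exists_prime_and_dvd (show (q + 1) / 2 ≠ 1 by omega)
  refine counting_case G hG' h2 hq hr ?_ (hrq.trans (Nat.div_dvd_of_dvd (by omega)))
  rintro rfl
  omega

end Cfsg.Agent.S3894
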