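import Cfsg.Statements.S3895
import Cfsg.Agent.Lib.PGroup.TwoClasses
-- import your own Cfsg.Agent.* helpers here

set_option autoImplicit false
open Cfsg

namespace Cfsg.Agent.S3895

/-- Let G be a finite group with Sylow 2-subgroup P, and write k₂(G) for the number of conjugacy classes of G consisting of 2-elements (elements of 2-power order, the identity included). Then k₂(G) > |P|/2 if and only if G has a normal 2-complement and P has more than |P|/2 conjugacy classes. -/
theorem result {G : Type*} [Group G] [Finite G] (P : Sylow 2 G) :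
    Nat.card ↥(P : Subgroup G) < 2 * Nat.card {c : ConjClasses G // ∀ x ∈ c.carrier, ∃ k : ℕ, orderOf x = 2 ^ k} ↔
      Cfsg.HasNormalPComplement 2 G ∧ Nat.card ↥(P : Subgroup G) < 2 * Nat.card (ConjClasses ↥(P : Subgroup G)) := by
  haveI : Fact (Nat.Prime 2) := ⟨Nat.prime_two⟩
  have e : Nat.card {c : ConjClasses G // ∀ x ∈ c.carrier, ∃ k : ℕ, orderOf x = 2 ^ k}
      = CfsgLib.PGroup.piClassCount {2} G := by
    refine Nat.card_congr (Equiv.subtypeEquivRight fun c => forall₂_congr fun x _ => ⟨?_, fun h => ?_⟩)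
    · rintro ⟨k, hk⟩ r hr hd
      rw [hk] at hd
      exact Finset.mem_singleton.2 ((Nat.prime_dvd_prime_iff_eq hr Nat.prime_two).1 (hr.dvd_of_dvd_pow hd))
    · exact ⟨_, Nat.eq_prime_pow_of_unique_prime_dvd (orderOf_pos x).ne'
        fun {q} hq hd => Finset.mem_singleton.1 (h q hq hd)⟩
  rw [e]
  constructor
  · intro h
    refine ⟨CfsgLib.PGroup.two_complement_of_many_classes ?_, lt_of_lt_of_le h ?_⟩
    · rwa [← CfsgLib.PGroup.piPart_singleton P]
    · exact Nat.mul_le_mul_left 2 (CfsgLib.PGroup.piClassCount_singleton_le_sylow P)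
  · rintro ⟨h1, h2⟩
    exact lt_of_lt_of_le h2
      (Nat.mul_le_mul_left 2 (CfsgLib.PGroup.classCount_sylow_le_piClassCount h1 P))

end Cfsg.Agent.S3895
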