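import Cfsg.Statements.S3897
import Cfsg.Agent.Lib.PGroup.PiClasses

set_option autoImplicit false
open Cfsg

namespace Cfsg.Agent.S3897

/-- Let p be an odd prime and G a finite group with Sylow p-subgroup P, and write k_p(G) for the number of conjugacy classes of G consisting of p-elements (elements of p-power order, the identity included). Then k_p(G) > (p + 1)|P|/(2p) if and only if G has a normal p-complement and P is abelian. -/
theorem result {G : Type*} [Group G] [Finite G] {p : ℕ} [Fact p.Prime] (hp : p ≠ 2) (P : Sylow p G) :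
    (p + 1) * Nat.card ↥(P : Subgroup G) < 2 * p * Nat.card {c : ConjClasses G // ∀ x ∈ c.carrier, ∃ k : ℕ, orderOf x = p ^ k} ↔
      Cfsg.HasNormalPComplement p G ∧ IsMulCommutative ↥(P : Subgroup G) := by
  have hprime : p.Prime := Fact.out
  have e : Nat.card {c : ConjClasses G // ∀ x ∈ c.carrier, ∃ k : ℕ, orderOf x = p ^ k}
      = CfsgLib.PGroup.piClassCount {p} G := by
    refine Nat.card_congr (Equiv.subtypeEquivRight fun c => forall₂_congr fun x _ => ⟨?_, fun h => ?_⟩)
    · rintro ⟨k, hk⟩ r hr hd
      rw [hk] at hd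
      exact Finset.mem_singleton.2 ((Nat.prime_dvd_prime_iff_eq hr hprime).1 (hr.dvd_of_dvd_pow hd))
    · exact ⟨_, Nat.eq_prime_pow_of_unique_prime_dvd (orderOf_pos x).ne'
        fun {q} hq hd => Finset.mem_singleton.1 (h q hq hd)⟩
  rw [e, CfsgLib.PGroup.piPart_singleton P]
  constructor
  · intro h
    obtain ⟨h1, h2⟩ := CfsgLib.PGroup.pComplement_of_many_classes h
    exact ⟨h1, h2 P⟩
  · rintro ⟨h1, h2⟩
    haveI := h2
    have hab : ∀ Q : Sylow p G, IsMulCommutative (Q : Subgroup G) := fun Q => ⟨⟨fun a b =>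
      (Q.equiv P).injective (by rw [map_mul, map_mul, mul_comm'])⟩⟩
    have h3 := CfsgLib.PGroup.piPart_le_piClassCount h1 hab
    have hpos : 0 < CfsgLib.PGroup.piPart {p} G := by
      rw [← CfsgLib.PGroup.piPart_singleton P]; exact Nat.card_pos
    have h2' := hprime.two_le
    nlinarith

end Cfsg.Agent.S3897
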