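import Cfsg.Statements.S3899
import Cfsg.Agent.Lib.PGroup.PiClasses

set_option autoImplicit false
open Cfsg

namespace Cfsg.Agent.S3899

/-- Let π be a finite non-empty set of odd primes with smallest member p and G a finite group. Write k_π(G) for the number of conjugacy classes of G consisting of π-elements (elements all of whose order's prime divisors lie in π) and |G|_π for the π-part of the order of G. If k_π(G) > (p + 1)|G|_π/(2p), then G has a normal π-complement (a normal subgroup of order prime to π whose index is a π-number) and an abelian Hall π-subgroup. -/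
theorem result {G : Type*} [Group G] [Finite G] (π : Finset ℕ) (hπ : ∀ r ∈ π, r.Prime) (h2 : 2 ∉ π) (p : ℕ) (hp : p ∈ π)
    (hmin : ∀ r ∈ π, p ≤ r) (hk : (p + 1) * π.prod (fun r => r ^ (Nat.card G).factorization r) < 2 * p * Nat.card {c : ConjClasses G // ∀ x ∈ c.carrier, ∀ r : ℕ, r.Prime → r ∣ orderOf x → r ∈ π}) :
    (∃ N : Subgroup G, N.Normal ∧ (∀ r : ℕ, r.Prime → r ∣ Nat.card ↥N → r ∉ π) ∧ ∀ r : ℕ, r.Prime → r ∣ N.index → r ∈ π) ∧ ∃ H : Subgroup G, Cfsg.IsPiHall (↑π : Set ℕ) H ∧ IsMulCommutative ↥H := by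
  refine CfsgLib.PGroup.exists_piComplement_abelian_hall π hπ fun r hr => ?_
  haveI := Fact.mk (hπ r hr)
  refine CfsgLib.PGroup.pComplement_of_many_classes ?_
  have h1 := CfsgLib.PGroup.piClassCount_le_prime_mul (G := G) hπ hr
  have h2 := CfsgLib.PGroup.piPart_eq_mul (G := G) hr
  have hlt : (p + 1) * CfsgLib.PGroup.piPart π G < 2 * p * CfsgLib.PGroup.piClassCount π G := hk
  rw [h2] at hlt
  have h3 : (p + 1) * CfsgLib.PGroup.piPart {r} G < 2 * p * CfsgLib.PGroup.piClassCount {r} G := by
    refine Nat.lt_of_mul_lt_mul_right (a := CfsgLib.PGroup.piPart (π.erase r) G) ?_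
    calc _ = (p + 1) * (CfsgLib.PGroup.piPart {r} G * CfsgLib.PGroup.piPart (π.erase r) G) := by ring
      _ < 2 * p * CfsgLib.PGroup.piClassCount π G := hlt
      _ ≤ 2 * p * (CfsgLib.PGroup.piClassCount {r} G * CfsgLib.PGroup.piPart (π.erase r) G) :=
        Nat.mul_le_mul_left _ h1
      _ = _ := by ring
  refine Nat.lt_of_mul_lt_mul_right (a := p) ?_
  calc (r + 1) * CfsgLib.PGroup.piPart {r} G * p ≤ (p + 1) * CfsgLib.PGroup.piPart {r} G * r := by
        nlinarith [Nat.mul_le_mul_right (CfsgLib.PGroup.piPart {r} G) (hmin r hr)]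
    _ < 2 * p * CfsgLib.PGroup.piClassCount {r} G * r :=
        Nat.mul_lt_mul_of_pos_right h3 (hπ r hr).pos
    _ = _ := by ring

end Cfsg.Agent.S3899
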