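import Cfsg.Statements.S3901
import Cfsg.Agent.Lib.Invol.BrauerSuzuki
import Cfsg.Agent.Lib.Coprime.UniqueOrderP
import Cfsg.Agent.Lib.Coprime.Solvable
import Cfsg.Agent.Lib.Char.Burnside
import Cfsg.Agent.Lib.Coprime.FrattiniExtra
import Mathlib.GroupTheory.SpecificGroups.ZGroup

set_option autoImplicit false
open Cfsg

namespace Cfsg.Agent.S3901

open Subgroup
open scoped commutatorElement

/-- Two commuting elements of coprime orders whose product has prime power order. -/
theorem false_of_commute {G : Type*} [Group G] {x y : G} {p r : ℕ} (hp : p.Prime) (hr : r.Prime)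
    (hpr : p ≠ r) (hx : p ∣ orderOf x) (hy : r ∣ orderOf y) (hc : Commute x y)
    (hco : (orderOf x).Coprime (orderOf y)) (h : IsPrimePow (orderOf (x * y))) : False := by
  obtain ⟨s, n, hs, -, hsn⟩ := (isPrimePow_nat_iff _).1 h
  rw [hc.orderOf_mul_eq_mul_orderOf_of_coprime hco] at hsn
  have e1 := (Nat.prime_dvd_prime_iff_eq hp hs).1
    (hp.dvd_of_dvd_pow (hsn.symm ▸ hx.mul_right _))
  have e2 := (Nat.prime_dvd_prime_iff_eq hr hs).1
    (hr.dvd_of_dvd_pow (hsn.symm ▸ hy.mul_left _))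
  exact hpr (e1.trans e2.symm)

/-- A group without two independent commuting elements of the same prime order, all whose elements
have prime power order, is solvable. -/
theorem solvable_of_no_pair {Q : Type*} [Group Q] [Finite Q]
    (hpp : ∀ x : Q, x ≠ 1 → IsPrimePow (orderOf x))
    (hno : ∀ q : ℕ, q.Prime → ∀ a b : Q, orderOf a = q → orderOf b = q → Commute a b →
      b ∈ zpowers a) :
    Group.IsSolvable Q := by
  have hu : ∀ (q : ℕ) [Fact q.Prime] (S : Sylow q Q),
      CfsgLib.Coprime.UniqueOrderP q (S : Subgroup Q) := by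
    intro q _ S x y hx hy hx1
    by_cases hy1 : y = 1
    · rw [hy1]; exact one_mem _
    haveI : Nontrivial (S : Subgroup Q) := ⟨⟨x, 1, hx1⟩⟩
    haveI := S.2.center_nontrivial
    obtain ⟨k, hk⟩ := (S.2.to_subgroup (center (S : Subgroup Q))).exists_card_eq
    have hd : q ∣ Nat.card (center (S : Subgroup Q)) := by
      rcases k with _ | k
      · exact absurd hk (by rw [pow_zero]; exact Finite.one_lt_card.ne')
      · rw [hk]; exact dvd_pow_self q (by omega)
    obtain ⟨z, hz⟩ := exists_prime_orderOf_dvd_card' q hd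
    have hzq : orderOf (((z : (S : Subgroup Q)) : Q)) = q := by
      rw [Subgroup.orderOf_coe, Subgroup.orderOf_coe, hz]
    have hmem : ∀ w : (S : Subgroup Q), w ^ q = 1 → w ≠ 1 →
        ((z : (S : Subgroup Q)) : Q) ∈ zpowers (w : Q) := fun w hw hw1 =>
      hno q Fact.out _ _ (by rw [Subgroup.orderOf_coe]; exact orderOf_eq_prime hw hw1) hzq
        (congrArg Subtype.val (mem_center_iff.1 z.2 w))
    have hzy : zpowers ((z : (S : Subgroup Q)) : Q) = zpowers (y : Q) :=
      eq_of_le_of_card_ge (zpowers_le.2 (hmem y hy hy1)) (by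
        rw [Nat.card_zpowers, Nat.card_zpowers, hzq, Subgroup.orderOf_coe, orderOf_eq_prime hy hy1])
    have hyx : (y : Q) ∈ zpowers (x : Q) :=
      zpowers_le.2 (hmem x hx hx1) (hzy ▸ mem_zpowers _)
    obtain ⟨i, hi⟩ := mem_zpowers_iff.1 hyx
    exact mem_zpowers_iff.2 ⟨i, Subtype.ext (by simpa using hi)⟩
  have hcyc : ∀ q : ℕ, q.Prime → q ≠ 2 → ∀ S : Sylow q Q, IsCyclic (S : Subgroup Q) := by
    intro q hq hq2 S
    haveI := Fact.mk hq
    exact CfsgLib.Coprime.isCyclic_of_unique_odd hq2 S.2 (hu q S)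
  haveI : Fact (Nat.Prime 2) := ⟨Nat.prime_two⟩
  set O : Subgroup Q := Cfsg.pPrimeCore 2 Q with hO
  have hOodd : ¬ 2 ∣ Nat.card O := CfsgLib.Coprime.pPrimeCore_not_dvd Nat.prime_two
  haveI : IsZGroup O := by
    refine ⟨fun q hq T => ?_⟩
    haveI := Fact.mk hq
    by_cases hq2 : q = 2
    · have hT : Nat.card (T : Subgroup O) = 1 := by
        obtain ⟨k, hk⟩ := T.2.exists_card_eq
        rcases k with _ | k
        · rw [hk, pow_zero]
        · exact absurd ((hq2 ▸ dvd_pow_self q (Nat.succ_ne_zero k) : 2 ∣ q ^ (k + 1)).trans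
            (hk ▸ Subgroup.card_subgroup_dvd_card (T : Subgroup O))) hOodd
      haveI : Subsingleton (T : Subgroup O) := (Nat.card_eq_one_iff_unique.1 hT).1
      exact isCyclic_of_subsingleton
    · obtain ⟨S, hS⟩ := (T.2.map O.subtype).exists_le_sylow
      haveI := hcyc q hq hq2 S
      exact isCyclic_of_injective
        ((Subgroup.inclusion hS).comp
          ((T : Subgroup O).equivMapOfInjective O.subtype O.subtype_injective).toMonoidHom)
        ((Subgroup.inclusion_injective hS).comp (MulEquiv.injective _))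
  by_cases heven : 2 ∣ Nat.card Q
  swap
  · haveI : IsZGroup Q := ⟨fun q hq T => by
      haveI := Fact.mk hq
      by_cases hq2 : q = 2
      · subst hq2
        have hT : Nat.card (T : Subgroup Q) = 1 := by
          obtain ⟨k, hk⟩ := T.2.exists_card_eq
          rcases k with _ | k
          · rw [hk, pow_zero]
          · exact absurd ((dvd_pow_self 2 (Nat.succ_ne_zero k)).trans
              (hk ▸ Subgroup.card_subgroup_dvd_card (T : Subgroup Q))) heven
        haveI : Subsingleton (T : Subgroup Q) := (Nat.card_eq_one_iff_unique.1 hT).1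
        exact isCyclic_of_subsingleton
      · exact hcyc q hq hq2 T⟩
    infer_instance
  obtain ⟨z, hz⟩ := exists_prime_orderOf_dvd_card' 2 heven
  obtain ⟨P, hP⟩ := (IsPGroup.of_card (p := 2) (n := 1)
    (show Nat.card (zpowers z) = 2 ^ 1 by rw [Nat.card_zpowers, hz, pow_one])).exists_le_sylow
  have hzP : z ∈ (P : Subgroup Q) := hP (mem_zpowers z)
  have hzc : CfsgLib.Invol.IsZCentral z := by
    refine CfsgLib.Invol.zcentral_of_unique_invol P hz fun w hw hwo => ?_
    have hw2 : (⟨w, hw⟩ : (P : Subgroup Q)) ^ 2 = 1 :=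
      Subtype.ext (by simp [← hwo, pow_orderOf_eq_one])
    have hz2 : (⟨z, hzP⟩ : (P : Subgroup Q)) ^ 2 = 1 :=
      Subtype.ext (by simp [← hz, pow_orderOf_eq_one])
    have hz1 : (⟨z, hzP⟩ : (P : Subgroup Q)) ≠ 1 := fun e => by
      rw [show z = 1 from congrArg Subtype.val e, orderOf_one] at hz
      norm_num at hz
    obtain ⟨i, hi⟩ := mem_zpowers_iff.1 (hu 2 P _ _ hz2 hw2 hz1)
    have hwz : z ^ i = w := congrArg Subtype.val hi
    rcases Int.even_or_odd i with ⟨j, rfl⟩ | ⟨j, rfl⟩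
    · rw [← two_mul, zpow_mul, zpow_ofNat, ← hz, pow_orderOf_eq_one, one_zpow] at hwz
      rw [← hwz, orderOf_one] at hwo
      norm_num at hwo
    · rw [zpow_add_one, zpow_mul, zpow_ofNat, ← hz, pow_orderOf_eq_one, one_zpow, one_mul] at hwz
      exact hwz.symm
  haveI : O.Normal := by
    haveI := CfsgLib.Coprime.pPrimeCore_characteristic (G := Q) 2
    infer_instance
  have hquot : IsPGroup 2 (Q ⧸ O) := by
    intro g
    obtain ⟨x, rfl⟩ := QuotientGroup.mk_surjective g
    by_cases hx1 : (x : Q ⧸ O) = 1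
    · exact ⟨0, by simpa using hx1⟩
    have hx : x ≠ 1 := fun e => hx1 (by rw [e]; rfl)
    obtain ⟨s, n, hs, -, hsn⟩ := (isPrimePow_nat_iff _).1 (hpp x hx)
    by_cases hs2 : s = 2
    · exact ⟨n, by rw [← QuotientGroup.mk_pow, ← hs2, hsn, pow_orderOf_eq_one]; rfl⟩
    exfalso
    have hzO : z ∉ O := fun h => hOodd (hz ▸ Subgroup.orderOf_dvd_natCard O h)
    have hoz : orderOf (z : Q ⧸ O) = 2 := orderOf_eq_prime
      (by rw [← QuotientGroup.mk_pow, ← hz, pow_orderOf_eq_one]; rfl)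
      (fun e => hzO ((QuotientGroup.eq_one_iff z).1 e))
    have hcomm : Commute (z : Q ⧸ O) (x : Q ⧸ O) := commutatorElement_eq_one_iff_commute.1
      ((QuotientGroup.eq_one_iff _).2 (hzc x) :
        ((z * x * z⁻¹ * x⁻¹ : Q) : Q ⧸ O) = 1)
    have hdvd : orderOf (x : Q ⧸ O) ∣ s ^ n := by
      rw [hsn]; exact orderOf_map_dvd (QuotientGroup.mk' O) x
    obtain ⟨m, -, hm⟩ := (Nat.dvd_prime_pow hs).1 hdvd
    have hm0 : m ≠ 0 := fun e => hx1 (orderOf_eq_one_iff.1 (by rw [hm, e, pow_zero]))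
    have hsx : s ∣ orderOf (x : Q ⧸ O) := hm ▸ dvd_pow_self s hm0
    have hprod : orderOf ((z * x : Q) : Q ⧸ O) = 2 * s ^ m := by
      rw [QuotientGroup.mk_mul, hcomm.orderOf_mul_eq_mul_orderOf_of_coprime, hoz, hm]
      rw [hoz, hm]
      exact ((Nat.coprime_primes Nat.prime_two hs).2 (Ne.symm hs2)).pow_right m
    have hne : z * x ≠ 1 := fun e => by
      rw [e] at hprod
      rw [QuotientGroup.mk_one, orderOf_one] at hprod
      exact absurd (Dvd.intro _ hprod.symm : 2 ∣ 1) (by norm_num)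
    obtain ⟨t, k, ht, -, htk⟩ := (isPrimePow_nat_iff _).1 (hpp _ hne)
    have hd : orderOf ((z * x : Q) : Q ⧸ O) ∣ t ^ k := by
      rw [htk]; exact orderOf_map_dvd (QuotientGroup.mk' O) (z * x)
    rw [hprod] at hd
    have e1 := (Nat.prime_dvd_prime_iff_eq Nat.prime_two ht).1
      (Nat.prime_two.dvd_of_dvd_pow ((dvd_mul_right 2 _).trans hd))
    have e2 := (Nat.prime_dvd_prime_iff_eq hs ht).1
      (hs.dvd_of_dvd_pow (((dvd_pow_self s hm0).mul_left 2).trans hd))
    exact hs2 (e2.trans e1.symm)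
  haveI : Group.IsNilpotent (Q ⧸ O) := hquot.isNilpotent
  exact Group.isSolvable_of_ker_le_range O.subtype (QuotientGroup.mk' O)
    (by rw [QuotientGroup.ker_mk', range_subtype])

/-- Conjugation by a product over a transversal kills fixed points: a group of exponent pattern
`q × q` modulo `C` with fixed-point-free elements outside. -/
theorem fixed_eq_one {W : Type*} [CommGroup W] [Finite W] {q : ℕ} (hq : q.Prime)
    (hco : (Nat.card W).Coprime q) (α β : MulAut W) (hab : Commute α β) (hα : α ^ q = 1)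
    (hβ : β ^ q = 1)
    (hfpf : ∀ i j : ℕ, ¬ (q ∣ i ∧ q ∣ j) → ∀ w : W, (α ^ i * β ^ j) w = w → w = 1) (w : W) :
    w = 1 := by
  classical
  haveI := Fact.mk hq
  haveI : NeZero q := ⟨hq.pos.ne'⟩
  have hsum : ∀ γ : MulAut W, γ ^ q = 1 → (∀ u, γ u = u → u = 1) →
      ∀ u : W, ∏ i : ZMod q, (γ ^ i.val) u = 1 := by
    intro γ hγ hfix u
    refine hfix _ ?_
    rw [map_prod]
    refine Fintype.prod_equiv (Equiv.addRight (1 : ZMod q)) _ _ fun i => ?_
    rw [← MulAut.mul_apply, ← pow_succ', Equiv.coe_addRight, ZMod.val_add, ZMod.val_one]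
    rw [← pow_eq_pow_mod _ hγ]
  have hb := hsum β hβ fun u hu => hfpf 0 1
    (fun h => hq.ne_one (Nat.dvd_one.1 h.2)) u (by rw [pow_zero, pow_one, one_mul]; exact hu)
  have hk : ∀ k : ZMod q, ∏ i : ZMod q, ((α * β ^ k.val) ^ i.val) w = 1 := fun k =>
    hsum _ (by rw [(hab.pow_right _).mul_pow, hα, ← pow_mul, mul_comm k.val, pow_mul, hβ,
        one_pow, mul_one])
      (fun u hu => hfpf 1 k.val (fun h => hq.ne_one (Nat.dvd_one.1 h.1)) u
        (by rw [pow_one]; exact hu)) w
  have htot : ∏ k : ZMod q, ∏ i : ZMod q, ((α * β ^ k.val) ^ i.val) w = 1 :=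
    Finset.prod_eq_one fun k _ => hk k
  rw [Finset.prod_comm, Finset.prod_eq_single (0 : ZMod q)] at htot
  · rw [Finset.prod_congr rfl (fun k _ => by
        rw [ZMod.val_zero, pow_zero, MulAut.one_apply] :
          ∀ k ∈ (Finset.univ : Finset (ZMod q)), ((α * β ^ k.val) ^ (0 : ZMod q).val) w = w),
      Finset.prod_const, Finset.card_univ, ZMod.card] at htot
    exact (hco.pow_left_bijective).injective (by simpa using htot)
  · intro i _ hi
    have e : ∀ k : ZMod q, ((α * β ^ k.val) ^ i.val) w = (α ^ i.val) ((β ^ (k * i).val) w) := by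
      intro k
      rw [(hab.pow_right _).mul_pow, ← pow_mul, MulAut.mul_apply, ZMod.val_mul,
        ← pow_eq_pow_mod _ hβ]
    rw [Finset.prod_congr rfl fun k _ => e k, ← map_prod]
    rw [show ∏ k : ZMod q, (β ^ (k * i).val) w = ∏ j : ZMod q, (β ^ j.val) w from
      Fintype.prod_equiv (Equiv.mulRight₀ i hi) _ _ fun k => rfl, hb w, map_one]
  · exact fun h => absurd (Finset.mem_univ _) h

variable {G : Type*} [Group G] [Finite G]

/-- An element acting fixed-point-freely on `D` and on the abelian `V` forces fixed points of `D`. -/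
theorem eq_bot_of_frobenius {D V : Subgroup G} [IsMulCommutative V] {x : G} {q : ℕ}
    (hq : orderOf x = q) (hqp : q.Prime)
    (hxD : x ∈ normalizer (D : Set G)) (hDV : D ≤ normalizer (V : Set G))
    (hxV : x ∈ normalizer (V : Set G)) (hco : (Nat.card V).Coprime (Nat.card D))
    (hfix : ∀ v ∈ V, (∀ d ∈ D, d * v * d⁻¹ = v) → v = 1)
    (hxd : ∀ i : ℕ, ¬ q ∣ i → ∀ d ∈ D, x ^ i * d * (x ^ i)⁻¹ = d → d = 1)
    (hxv : ∀ v ∈ V, x * v * x⁻¹ = v → v = 1) : V = ⊥ := by
  classical
  open scoped IsMulCommutative in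
  haveI := Fintype.ofFinite D
  haveI : NeZero q := ⟨hqp.pos.ne'⟩
  let ρ := V.normalizerMonoidHom
  let xN : normalizer (V : Set G) := ⟨x, hxV⟩
  let dN : D → normalizer (V : Set G) := fun d => ⟨d, hDV d.2⟩
  have hval : ∀ (g : normalizer (V : Set G)) (v : V), ((ρ g v : V) : G) = g * v * (g : G)⁻¹ :=
    fun g v => rfl
  refine (Subgroup.eq_bot_iff_forall _).2 fun v0 hv0 => ?_
  set v : V := ⟨v0, hv0⟩ with hv
  have hD : ∀ u : V, ∏ d : D, ρ (dN d) u = 1 := by
    intro u
    refine Subtype.ext (hfix _ (SetLike.coe_mem _) fun e he => ?_)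
    have h1 : ρ (dN ⟨e, he⟩) (∏ d : D, ρ (dN d) u) = ∏ d : D, ρ (dN d) u := by
      rw [map_prod]
      refine Fintype.prod_equiv (Equiv.mulLeft ⟨e, he⟩) _ _ fun d => ?_
      rw [← MulAut.mul_apply, ← map_mul]
      rfl
    exact congrArg Subtype.val h1
  have hxpow : ρ xN ^ q = 1 := by
    rw [← map_pow, show xN ^ q = 1 from Subtype.ext (by simp [xN, ← hq, pow_orderOf_eq_one]),
      map_one]
  have hx : ∀ u : V, ∏ i : ZMod q, (ρ xN ^ i.val) u = 1 := by
    intro u
    refine Subtype.ext (hxv _ (SetLike.coe_mem _) ?_)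
    have h1 : ρ xN (∏ i : ZMod q, (ρ xN ^ i.val) u) = ∏ i : ZMod q, (ρ xN ^ i.val) u := by
      haveI := Fact.mk hqp
      rw [map_prod]
      refine Fintype.prod_equiv (Equiv.addRight (1 : ZMod q)) _ _ fun i => ?_
      rw [← MulAut.mul_apply, ← pow_succ', Equiv.coe_addRight, ZMod.val_add, ZMod.val_one,
        ← pow_eq_pow_mod _ hxpow]
    exact congrArg Subtype.val h1
  have htot : ∏ d : D, ρ (dN d) (∏ i : ZMod q, (ρ xN ^ i.val) (ρ (dN d)⁻¹ v)) = 1 :=
    Finset.prod_eq_one fun d _ => by rw [hx, map_one]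
  simp only [map_prod] at htot
  rw [Finset.prod_comm, Finset.prod_eq_single (0 : ZMod q)] at htot
  · rw [Finset.prod_congr rfl (fun d _ => by
        rw [ZMod.val_zero, pow_zero, MulAut.one_apply, ← MulAut.mul_apply, ← map_mul,
          mul_inv_cancel, map_one, MulAut.one_apply] :
          ∀ d ∈ (Finset.univ : Finset D), ρ (dN d) ((ρ xN ^ (0 : ZMod q).val) (ρ (dN d)⁻¹ v)) = v),
      Finset.prod_const, Finset.card_univ, ← Nat.card_eq_fintype_card] at htot
    have := (hco.pow_left_bijective).injective (show v ^ Nat.card D = (1 : V) ^ Nat.card D by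
      rw [htot, one_pow])
    exact congrArg Subtype.val this
  · intro i _ hi
    have hiq : ¬ q ∣ i.val := fun hd => hi ((ZMod.val_eq_zero i).1
      (Nat.eq_zero_of_dvd_of_lt hd (ZMod.val_lt i)))
    let σ : D → D := fun d => ⟨(d : G) * (x ^ i.val * (d : G)⁻¹ * (x ^ i.val)⁻¹),
      D.mul_mem d.2 (((mem_normalizer_iff.1 (pow_mem hxD i.val)) _).1 (inv_mem d.2))⟩
    have hσ : Function.Bijective σ := by
      refine Finite.injective_iff_bijective.1 fun g k hgk => ?_
      have e : (g : G) * (x ^ i.val * (g : G)⁻¹ * (x ^ i.val)⁻¹) =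
          (k : G) * (x ^ i.val * (k : G)⁻¹ * (x ^ i.val)⁻¹) := congrArg Subtype.val hgk
      have e2 : x ^ i.val * ((k : G)⁻¹ * g) * (x ^ i.val)⁻¹ = (k : G)⁻¹ * g := by
        calc x ^ i.val * ((k : G)⁻¹ * g) * (x ^ i.val)⁻¹
            = (k : G)⁻¹ * ((k : G) * (x ^ i.val * (k : G)⁻¹ * (x ^ i.val)⁻¹)) *
                (x ^ i.val * g * (x ^ i.val)⁻¹) := by group
          _ = _ := by rw [← e]; group
      exact Subtype.ext (inv_mul_eq_one.1 (hxd _ hiq _ (D.mul_mem (inv_mem k.2) g.2) e2)).symm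
    rw [← hD ((ρ xN ^ i.val) v)]
    refine Fintype.prod_bijective σ hσ _ _ fun d => ?_
    rw [← map_pow, ← MulAut.mul_apply, ← MulAut.mul_apply, ← MulAut.mul_apply, ← map_mul,
      ← map_mul, ← map_mul]
    refine congrArg (fun g => ρ g v) (Subtype.ext ?_)
    show (d : G) * x ^ i.val * (d : G)⁻¹ =
      (d : G) * (x ^ i.val * (d : G)⁻¹ * (x ^ i.val)⁻¹) * x ^ i.val
    group
  · exact fun h => absurd (Finset.mem_univ _) h

/-- Let N be a non-trivial normal subgroup of the finite group G such that every element of G outside N has prime power order. If N is not solvable, then G/N is solvable. -/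
theorem result {G : Type*} [Group G] [Finite G] (N : Subgroup G) [N.Normal] (hN : N ≠ ⊥) (hns : ¬ Group.IsSolvable ↥N)
    (h : ∀ x : G, x ∉ N → IsPrimePow (orderOf x)) : Group.IsSolvable (G ⧸ N) := by
  classical
  by_contra hnot
  have hbar : ∀ g : G ⧸ N, g ≠ 1 → IsPrimePow (orderOf g) := by
    intro g hg
    obtain ⟨x, rfl⟩ := QuotientGroup.mk_surjective g
    obtain ⟨s, n, hs, -, hsn⟩ := (isPrimePow_nat_iff _).1
      (h x fun hx => hg ((QuotientGroup.eq_one_iff x).2 hx))
    obtain ⟨m, -, hm⟩ := (Nat.dvd_prime_pow hs).1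
      (hsn ▸ orderOf_map_dvd (QuotientGroup.mk' N) x)
    rw [show orderOf (x : G ⧸ N) = s ^ m from hm]
    exact (hs.isPrimePow).pow fun e => hg (orderOf_eq_one_iff.1 (by
      rw [show orderOf (x : G ⧸ N) = s ^ m from hm, e, pow_zero]))
  obtain ⟨q, hq, a', b', ha', hb', hab', hb'a⟩ : ∃ q : ℕ, q.Prime ∧ ∃ a b : G ⧸ N,
      orderOf a = q ∧ orderOf b = q ∧ Commute a b ∧ b ∉ zpowers a := by
    by_contra hc
    push_neg at hc
    exact hnot (solvable_of_no_pair hbar fun q hq a b ha hb hab => hc q hq a b ha hb hab)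
  haveI := Fact.mk hq
  -- a prime divisor of `|N|` other than `q`
  obtain ⟨r, hr, hrq, hrN⟩ : ∃ r, r.Prime ∧ r ≠ q ∧ r ∣ Nat.card N := by
    by_contra hc
    push_neg at hc
    have hpN : IsPGroup q N := IsPGroup.iff_card.2 ⟨_, Nat.eq_prime_pow_of_unique_prime_dvd
      Nat.card_pos.ne' fun {s} hs hd => by
        by_contra hsq
        exact hc s hs hsq hd⟩
    haveI := hpN.isNilpotent
    exact hns inferInstance
  haveI := Fact.mk hr
  obtain ⟨R⟩ : Nonempty (Sylow r N) := inferInstance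
  set R0 : Subgroup G := (R : Subgroup N).map N.subtype with hR0
  have hfr : normalizer (R0 : Set G) ⊔ N = ⊤ := Sylow.normalizer_sup_eq_top R
  obtain ⟨H, ⟨hHM, hHN⟩, hHmin⟩ := (Set.toFinite {H : Subgroup G |
    H ≤ normalizer (R0 : Set G) ∧ H ⊔ N = ⊤}).exists_minimal ⟨_, le_rfl, hfr⟩
  set D : Subgroup H := N.subgroupOf H with hD
  haveI hDnil : Group.IsNilpotent D := by
    refine CfsgLib.Coprime.isNilpotent_of_le ?_ (frattini_nilpotent (G := H))
    refine CfsgLib.Coprime.le_frattini_of_forall_coatom fun M hM => ?_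
    by_contra hle
    have htop : M ⊔ D = ⊤ := hM.2 _ (lt_of_le_of_ne le_sup_left fun e => hle (e ▸ le_sup_right))
    have hsup : M.map H.subtype ⊔ N = ⊤ := by
      refine top_le_iff.1 (hHN.ge.trans (sup_le ?_ le_sup_right))
      intro x hx
      have hmem : x ∈ (M ⊔ D).map H.subtype := ⟨⟨x, hx⟩, htop ▸ mem_top _, rfl⟩
      rw [Subgroup.map_sup] at hmem
      exact (sup_le_sup le_rfl (show D.map H.subtype ≤ N by
        rintro _ ⟨d, hd, rfl⟩; exact hd)) hmem
    have := hHmin ⟨(map_subtype_le M).trans hHM, hsup⟩ (map_subtype_le M)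
    refine hM.1 (eq_top_iff.2 fun x _ => ?_)
    obtain ⟨m, hm, e⟩ := this x.2
    rwa [← Subtype.ext e]
  -- the preimage of the elementary group and its Sylow subgroup
  set π := QuotientGroup.mk' N
  set E : Subgroup (G ⧸ N) := zpowers a' ⊔ zpowers b' with hE
  have hEp : IsPGroup q E := IsPGroup.to_sup_of_normal_right'
    (IsPGroup.of_card (n := 1) (by rw [Nat.card_zpowers, ha', pow_one]))
    (IsPGroup.of_card (n := 1) (by rw [Nat.card_zpowers, hb', pow_one]))
    (zpowers_le.2 (mem_normalizer_iff.2 fun n => by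
      constructor
      · intro hn
        obtain ⟨i, rfl⟩ := mem_zpowers_iff.1 hn
        rw [(hab'.zpow_right i).eq, mul_inv_cancel_right]
        exact zpow_mem (mem_zpowers _) i
      · intro hn
        obtain ⟨i, hi⟩ := mem_zpowers_iff.1 hn
        have e : n = b' ^ i := by
          rw [show n = a'⁻¹ * (a' * n * a'⁻¹) * a' by group, ← hi, mul_assoc,
            ← (hab'.zpow_right i).eq, inv_mul_cancel_left]
        rw [e]
        exact zpow_mem (mem_zpowers _) i))
  have hπH : ∀ g, ∃ x ∈ H, π x = g := by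
    intro g
    obtain ⟨y, rfl⟩ := QuotientGroup.mk'_surjective N g
    obtain ⟨x, hx, n, hn, rfl⟩ := mem_sup_of_normal_right.1
      (show y ∈ H ⊔ N by rw [hHN]; exact mem_top y)
    exact ⟨x, hx, by
      rw [map_mul, show π n = 1 from (QuotientGroup.eq_one_iff n).2 hn, mul_one]⟩
  set PE : Subgroup G := H ⊓ E.comap π with hPE
  let f : PE →* E := (π.comp PE.subtype).codRestrict E fun x => x.2.2
  have hf : Function.Surjective f := by
    intro e
    obtain ⟨x, hx, hxe⟩ := hπH e
    exact ⟨⟨x, hx, show π x ∈ E by rw [hxe]; exact e.2⟩, Subtype.ext hxe⟩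
  obtain ⟨S⟩ : Nonempty (Sylow q PE) := inferInstance
  have hStop : (S : Subgroup PE).map f = ⊤ :=
    (S.mapSurjective hf).3 (hEp.to_subgroup ⊤) le_top |>.symm
  obtain ⟨a0, ha0S, ha0⟩ := (hStop ▸ mem_top _ : (⟨a', mem_sup_left (mem_zpowers a')⟩ : E) ∈
    (S : Subgroup PE).map f)
  obtain ⟨b0, hb0S, hb0⟩ := (hStop ▸ mem_top _ : (⟨b', mem_sup_right (mem_zpowers b')⟩ : E) ∈
    (S : Subgroup PE).map f)
  set S0 : Subgroup G := (S : Subgroup PE).map PE.subtype with hS0
  have hS0p : IsPGroup q S0 := S.2.map _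
  have hS0H : S0 ≤ H := (map_subtype_le _).trans inf_le_left
  set Q1 : Subgroup G := S0 ⊓ N with hQ1
  -- elements outside `N` fix nothing of order prime to their own
  have hcentral : ∀ {s : ℕ} {y v : G}, s.Prime → y ∉ N → (∃ n, orderOf y = s ^ n) → v ∈ N →
      ¬ s ∣ orderOf v → Commute y v → v = 1 := by
    intro s y v hs hy ⟨n, hn⟩ hv hsv hc
    by_contra hv1
    obtain ⟨t, ht, htv⟩ := Nat.exists_prime_and_dvd (fun e => hv1 (orderOf_eq_one_iff.1 e))
    have hn0 : n ≠ 0 := fun e => hy (by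
      rw [orderOf_eq_one_iff.1 (hn.trans (by rw [e, pow_zero]))]; exact N.one_mem)
    refine false_of_commute hs ht (fun e => hsv (e ▸ htv)) (hn ▸ dvd_pow_self s hn0) htv hc
      (by rw [hn]; exact (hs.coprime_iff_not_dvd.2 hsv).pow_left n) (h _ fun hm => hy ?_)
    simpa using N.mul_mem hm (N.inv_mem hv)
  have hS0ord : ∀ y ∈ S0, ∃ n, orderOf y = q ^ n := by
    intro y hy
    obtain ⟨n, hn⟩ := hS0p ⟨y, hy⟩
    obtain ⟨m, -, hm⟩ := (Nat.dvd_prime_pow hq).1
      (orderOf_dvd_of_pow_eq_one (congrArg Subtype.val hn : y ^ q ^ n = 1))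
    exact ⟨m, hm⟩
  -- fixed points of `Q1` on normalized abelian `q'`-subgroups of `N`
  have kill : ∀ V : Subgroup G, V ≤ N → IsMulCommutative V → ¬ q ∣ Nat.card V →
      S0 ≤ normalizer (V : Set G) → ∀ v ∈ V, (∀ d ∈ Q1, d * v * d⁻¹ = v) → v = 1 := by
    intro V hVN hVc hVq hVn v hv hfixv
    set W : Subgroup G := V ⊓ centralizer (Q1 : Set G) with hW
    haveI : IsMulCommutative W := isMulCommutative_iff.2 fun x y => Subtype.ext
      (congrArg Subtype.val (isMulCommutative_iff.1 hVc ⟨x, x.2.1⟩ ⟨y, y.2.1⟩) :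
        ((x : G) * y = y * x))
    open scoped IsMulCommutative in
    have hS0W : S0 ≤ normalizer (W : Set G) := fun s hs => by
      refine mem_normalizer_iff.2 fun n => ?_
      simp only [hW, mem_inf, mem_centralizer_iff, SetLike.mem_coe]
      refine and_congr (mem_normalizer_iff.1 (hVn hs) n) ⟨fun hn d hd => ?_, fun hn d hd => ?_⟩
      · have hd' : s⁻¹ * d * s ∈ Q1 := mem_inf.2 ⟨S0.mul_mem (S0.mul_mem (inv_mem hs)
          (mem_inf.1 hd).1) hs, by simpa using ‹N.Normal›.conj_mem d (mem_inf.1 hd).2 s⁻¹⟩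
        have e := hn _ hd'
        calc d * (s * n * s⁻¹) = s * (s⁻¹ * d * s * n) * s⁻¹ := by group
          _ = s * (n * (s⁻¹ * d * s)) * s⁻¹ := by rw [e]
          _ = s * n * s⁻¹ * d := by group
      · have hd' : s * d * s⁻¹ ∈ Q1 := mem_inf.2 ⟨S0.mul_mem (S0.mul_mem hs
          (mem_inf.1 hd).1) (inv_mem hs), ‹N.Normal›.conj_mem d (mem_inf.1 hd).2 s⟩
        have e := hn _ hd'
        calc d * n = s⁻¹ * (s * d * s⁻¹ * (s * n * s⁻¹)) * s := by group
          _ = s⁻¹ * (s * n * s⁻¹ * (s * d * s⁻¹)) * s := by rw [e]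
          _ = n * d := by group
    let ρ := W.normalizerMonoidHom
    let aN : normalizer (W : Set G) := ⟨a0, hS0W (mem_map_of_mem _ ha0S)⟩
    let bN : normalizer (W : Set G) := ⟨b0, hS0W (mem_map_of_mem _ hb0S)⟩
    have hker : ∀ g : normalizer (W : Set G), (g : G) ∈ Q1 → ρ g = 1 := fun g hg =>
      MulEquiv.ext fun w => Subtype.ext (by
        show (g : G) * w * (g : G)⁻¹ = w
        rw [(mem_centralizer_iff.1 w.2.2) g hg, mul_inv_cancel_right])
    have hπa : π (a0 : G) = a' := congrArg Subtype.val ha0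
    have hπb : π (b0 : G) = b' := congrArg Subtype.val hb0
    have haS : (a0 : G) ∈ S0 := mem_map_of_mem _ ha0S
    have hbS : (b0 : G) ∈ S0 := mem_map_of_mem _ hb0S
    have hN' : ∀ y : G, π y = 1 → y ∈ N := fun y hy => (QuotientGroup.eq_one_iff y).1 hy
    have hcomm : Commute (ρ aN) (ρ bN) := by
      refine commutatorElement_eq_one_iff_commute.1 ?_
      rw [← map_commutatorElement]
      refine hker _ (mem_inf.2 ⟨?_, hN' _ ?_⟩)
      · show ⁅(a0 : G), (b0 : G)⁆ ∈ S0
        exact S0.mul_mem (S0.mul_mem (S0.mul_mem haS hbS) (inv_mem haS)) (inv_mem hbS)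
      · show π ⁅(a0 : G), (b0 : G)⁆ = 1
        rw [map_commutatorElement, hπa, hπb]
        exact commutatorElement_eq_one_iff_commute.2 hab'
    have hvW : v ∈ W := mem_inf.2 ⟨hv, mem_centralizer_iff.2 fun d hd =>
      mul_inv_eq_iff_eq_mul.1 (hfixv d hd)⟩
    have hWd : Nat.card W ∣ Nat.card V := card_dvd_of_le inf_le_left
    refine congrArg Subtype.val (fixed_eq_one hq
      ((hq.coprime_iff_not_dvd.2 fun hd => hVq (hd.trans hWd)).symm) (ρ aN) (ρ bN) hcomm ?_ ?_ ?_
      (⟨v, hvW⟩ : W))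
    · rw [← map_pow]
      refine hker _ (mem_inf.2 ⟨?_, hN' _ ?_⟩)
      · exact S0.pow_mem haS q
      · show π ((a0 : G) ^ q) = 1
        rw [map_pow, hπa, ← ha', pow_orderOf_eq_one]
    · rw [← map_pow]
      refine hker _ (mem_inf.2 ⟨?_, hN' _ ?_⟩)
      · exact S0.pow_mem hbS q
      · show π ((b0 : G) ^ q) = 1
        rw [map_pow, hπb, ← hb', pow_orderOf_eq_one]
    · intro i j hij w hw
      rw [← map_pow, ← map_pow, ← map_mul] at hw
      set y : G := (a0 : G) ^ i * (b0 : G) ^ j with hy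
      have hw' : y * w * y⁻¹ = w := congrArg Subtype.val hw
      have hyS : y ∈ S0 := S0.mul_mem (S0.pow_mem haS i) (S0.pow_mem hbS j)
      have hyN : y ∉ N := by
        intro hyN
        have hone : a' ^ i * b' ^ j = 1 := by
          rw [← hπa, ← hπb, ← map_pow, ← map_pow, ← map_mul]
          exact (QuotientGroup.eq_one_iff y).2 hyN
        apply hij
        have hbz : b' ^ j ∈ zpowers a' := by
          rw [eq_inv_of_mul_eq_one_right hone]
          exact inv_mem (pow_mem (mem_zpowers a') i)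
        have hj : q ∣ j := by
          by_contra hj
          obtain ⟨m, hm⟩ := exists_pow_eq_self_of_coprime (x := b') (n := j)
            (by rw [hb']; exact (hq.coprime_iff_not_dvd.2 hj).symm)
          exact hb'a (hm ▸ pow_mem hbz m)
        refine ⟨?_, hj⟩
        have hbj : b' ^ j = 1 := by
          rw [← orderOf_dvd_iff_pow_eq_one, hb']; exact hj
        rw [hbj, mul_one, ← orderOf_dvd_iff_pow_eq_one, ha'] at hone
        exact hone
      refine Subtype.ext (hcentral hq hyN (hS0ord y hyS) (hVN w.2.1) ?_ (mul_inv_eq_iff_eq_mul.1 hw'))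
      exact fun hd => hVq (hd.trans (Subgroup.orderOf_dvd_natCard V w.2.1))
  set DG : Subgroup G := D.map H.subtype with hDG
  have hDGN : DG ≤ N := by rintro _ ⟨d, hd, rfl⟩; exact hd
  have hDGmem : ∀ y, y ∈ H → y ∈ N → y ∈ DG := fun y h1 h2 => ⟨⟨y, h1⟩, h2, rfl⟩
  have hQ1D : Q1 ≤ DG := fun y hy => hDGmem y (hS0H (mem_inf.1 hy).1) (mem_inf.1 hy).2
  -- `D` is a `q`-group
  have hDq : IsPGroup q DG := by
    have key : IsPGroup q D := by
      refine IsPGroup.iff_card.2 ⟨_, Nat.eq_prime_pow_of_unique_prime_dvd Nat.card_pos.ne'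
        fun {s} hs hd => ?_⟩
      by_contra hsq
      haveI := Fact.mk hs
      obtain ⟨T⟩ : Nonempty (Sylow s D) := inferInstance
      haveI hTn : (T : Subgroup D).Normal := inferInstance
      have hTne : (T : Subgroup D) ≠ ⊥ := fun e => by
        have := T.dvd_card_of_dvd_card hd
        rw [e, card_bot, Nat.dvd_one] at this
        exact hs.ne_one this
      have hne := CfsgLib.Coprime.nilpotent_inf_center_ne_bot (T : Subgroup D) hTne
      obtain ⟨⟨c, hc⟩, hc1⟩ := Subgroup.ne_bot_iff_exists_ne_one.1 hne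
      obtain ⟨k, hk⟩ := T.2 ⟨c, hc.1⟩
      have hck : c ^ s ^ k = 1 := congrArg Subtype.val hk
      -- the central `s`-elements
      set V : Subgroup G := ((center D).map D.subtype).map H.subtype with hV
      have hVN : V ≤ N := by
        rintro _ ⟨_, ⟨d, -, rfl⟩, rfl⟩
        exact d.2
      let V' : Subgroup G :=
        { carrier := {v | v ∈ V ∧ ∃ n, v ^ s ^ n = 1}
          one_mem' := ⟨V.one_mem, 0, one_pow _⟩
          mul_mem' := by
            rintro u v ⟨hu, m, hm⟩ ⟨hv, n, hn⟩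
            refine ⟨V.mul_mem hu hv, m + n, ?_⟩
            obtain ⟨_, ⟨u', hu', rfl⟩, rfl⟩ := hu
            obtain ⟨_, ⟨v', -, rfl⟩, rfl⟩ := hv
            have hcu : Commute (H.subtype (D.subtype u')) (H.subtype (D.subtype v')) :=
              (((show Commute u' v' from (mem_center_iff.1 hu' v').symm).map D.subtype).map H.subtype)
            rw [hcu.mul_pow, pow_add, pow_mul, hm, one_pow, one_mul, mul_comm, pow_mul, hn, one_pow]
          inv_mem' := by
            rintro u ⟨hu, m, hm⟩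
            exact ⟨V.inv_mem hu, m, by rw [inv_pow, hm, inv_one]⟩ }
      have hVab : IsMulCommutative V' := isMulCommutative_iff.2 fun u v => Subtype.ext (by
        obtain ⟨_, ⟨u', hu', eu⟩, eu'⟩ := u.2.1
        obtain ⟨_, ⟨v', -, ev⟩, ev'⟩ := v.2.1
        show (u : G) * v = v * u
        rw [← eu', ← ev', ← eu, ← ev]
        exact ((((show Commute u' v' from (mem_center_iff.1 hu' v').symm).map D.subtype).map
          H.subtype)).eq)
      have hVq : ¬ q ∣ Nat.card V' := fun hdq => by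
        obtain ⟨⟨w, hw, m, hm⟩, ho⟩ := exists_prime_orderOf_dvd_card' q hdq
        rw [← Subgroup.orderOf_coe] at ho
        change orderOf w = q at ho
        exact hsq ((Nat.prime_dvd_prime_iff_eq hq hs).1
          (hq.dvd_of_dvd_pow (ho ▸ orderOf_dvd_of_pow_eq_one hm))).symm
      have hVn : S0 ≤ normalizer (V' : Set G) := by
        intro y hy
        have hyH := hS0H hy
        haveI : ((center D).map D.subtype).Normal := ConjAct.normal_of_characteristic_of_normal
        refine mem_normalizer_iff.2 fun v => ?_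
        have hVc : v ∈ V ↔ y * v * y⁻¹ ∈ V := by
          constructor
          · rintro ⟨w, hw, rfl⟩
            exact ⟨⟨y, hyH⟩ * w * ⟨y, hyH⟩⁻¹, Normal.conj_mem ‹_› w hw _, rfl⟩
          · rintro ⟨w, hw, e⟩
            refine ⟨⟨y, hyH⟩⁻¹ * w * ⟨y, hyH⟩, ?_, ?_⟩
            · have := Normal.conj_mem ‹((center D).map D.subtype).Normal› w hw (⟨y, hyH⟩ : H)⁻¹
              rwa [inv_inv] at this
            · have e' : (w : G) = y * v * y⁻¹ := e
              show y⁻¹ * (w : G) * y = v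
              rw [e']
              group
        show (v ∈ V ∧ ∃ n, v ^ s ^ n = 1) ↔ (y * v * y⁻¹ ∈ V ∧ ∃ n, (y * v * y⁻¹) ^ s ^ n = 1)
        simp only [hVc, conj_pow, mul_inv_eq_one, mul_eq_left]
      have h1 := kill V' (fun v hv => hVN hv.1) hVab hVq hVn ((c : H) : G)
        ⟨⟨(c : H), ⟨c, hc.2, rfl⟩, rfl⟩, k, congrArg (fun t : D => ((t : H) : G)) hck⟩ (fun d hd => by
          obtain ⟨d', hd', rfl⟩ := hQ1D hd
          have e := congrArg (fun t : D => ((t : H) : G)) (mem_center_iff.1 hc.2 ⟨d', hd'⟩)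
          exact mul_inv_eq_iff_eq_mul.2 e)
      exact hc1 (Subtype.ext (Subtype.ext (Subtype.ext h1)))
    exact key.map _
  -- the Sylow subgroup of `N`
  set V : Subgroup G := ((center (R : Subgroup N)).map (R : Subgroup N).subtype).map N.subtype with hV
  have hVR : V ≤ R0 := Subgroup.map_mono (map_subtype_le _)
  have hVN : V ≤ N := map_subtype_le _
  haveI : IsMulCommutative V := isMulCommutative_iff.2 fun u v => Subtype.ext (by
    obtain ⟨_, ⟨u', hu', eu⟩, eu'⟩ := u.2
    obtain ⟨_, ⟨v', -, ev⟩, ev'⟩ := v.2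
    show (u : G) * v = v * u
    rw [← eu', ← ev', ← eu, ← ev]
    exact (((show Commute u' v' from (mem_center_iff.1 hu' v').symm).map
      (R : Subgroup N).subtype).map N.subtype).eq)
  have hVne : V ≠ ⊥ := by
    haveI : Nontrivial (R : Subgroup N) := (Subgroup.nontrivial_iff_ne_bot _).2 fun e => by
      have := R.dvd_card_of_dvd_card hrN
      rw [e, card_bot, Nat.dvd_one] at this
      exact hr.ne_one this
    haveI := R.2.center_nontrivial
    intro e
    rw [hV, map_eq_bot_iff_of_injective _ N.subtype_injective,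
      map_eq_bot_iff_of_injective _ (Subgroup.subtype_injective _)] at e
    exact (Subgroup.nontrivial_iff_ne_bot _).1 inferInstance e
  have hVr : IsPGroup r V := ((R.2.to_subgroup _).map _).map _
  have hVcard : ∀ s : ℕ, s.Prime → s ≠ r → ¬ s ∣ Nat.card V := fun s hs hsr hd => by
    obtain ⟨n, hn⟩ := hVr.exists_card_eq
    exact hsr ((Nat.prime_dvd_prime_iff_eq hs hr).1 (hs.dvd_of_dvd_pow (hn ▸ hd)))
  have hMV : normalizer (R0 : Set G) ≤ normalizer (V : Set G) := by
    intro g hg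
    rw [mem_normalizer_iff]
    have key : ∀ g ∈ normalizer (R0 : Set G), ∀ v ∈ V, g * v * g⁻¹ ∈ V := by
      rintro g hg _ ⟨_, ⟨c, hc, rfl⟩, rfl⟩
      obtain ⟨d, hd, e⟩ := (mem_normalizer_iff.1 hg _).1
        (mem_map_of_mem N.subtype (c.2 : (c : N) ∈ (R : Subgroup N)))
      refine ⟨d, ⟨⟨d, hd⟩, mem_center_iff.2 fun w => Subtype.ext (N.subtype_injective ?_), rfl⟩, e⟩
      obtain ⟨w', hw', ew⟩ := (mem_normalizer_iff''.1 hg _).1
        (mem_map_of_mem N.subtype (w.2 : (w : N) ∈ (R : Subgroup N)))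
      have hcw := congrArg (fun t : (R : Subgroup N) => ((t : N) : G))
        (mem_center_iff.1 hc ⟨w', hw'⟩)
      simp only [Subgroup.coe_mul, Subgroup.coe_subtype] at hcw e ew ⊢
      rw [e, show ((w : N) : G) = g * (w' : G) * g⁻¹ by rw [ew]; group]
      calc g * (w' : G) * g⁻¹ * (g * ((c : N) : G) * g⁻¹)
          = g * ((w' : G) * ((c : N) : G)) * g⁻¹ := by group
        _ = g * (((c : N) : G) * (w' : G)) * g⁻¹ := by rw [hcw]
        _ = _ := by group
    intro v
    refine ⟨key g hg v, fun hv => ?_⟩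
    simpa [mul_assoc] using key g⁻¹ (inv_mem hg) _ hv
  obtain ⟨s, hs, hsq, hsr, hsd⟩ : ∃ s, s.Prime ∧ s ≠ q ∧ s ≠ r ∧ s ∣ Nat.card (G ⧸ N) := by
    by_contra hc
    push_neg at hc
    refine hnot (CfsgLib.Char.isSolvable_of_card_two_primes hq hr (G ⧸ N)
      ((Nat.card (G ⧸ N)).factorization q) ((Nat.card (G ⧸ N)).factorization r) ?_)
    have hprod := Nat.prod_factorization_pow_eq_self (n := Nat.card (G ⧸ N)) Nat.card_pos.ne'
    rw [Finsupp.prod_of_support_subset _ (s := {q, r}) ?_ _ (fun i _ => pow_zero i),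
      Finset.prod_pair hrq.symm] at hprod
    · exact hprod.symm
    · intro t ht
      rw [Nat.support_factorization, Nat.mem_primeFactors] at ht
      simp only [Finset.mem_insert, Finset.mem_singleton]
      by_contra hne
      push_neg at hne
      exact hc t ht.1 hne.1 hne.2 ht.2.1
  haveI := Fact.mk hs
  obtain ⟨x0, hx0⟩ := exists_prime_orderOf_dvd_card' s hsd
  obtain ⟨x1, hx1H, hx1⟩ := hπH x0
  obtain ⟨x, hxo⟩ : ∃ x : H, orderOf x = s := by
    refine exists_prime_orderOf_dvd_card' s ?_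
    have h1 : orderOf x0 ∣ orderOf x1 := hx1 ▸ orderOf_map_dvd π x1
    rw [hx0] at h1
    exact h1.trans (Subgroup.orderOf_dvd_natCard H hx1H)
  have hxG : orderOf (x : G) = s := by rw [Subgroup.orderOf_coe, hxo]
  have hDGs : ¬ s ∣ Nat.card DG := fun hd => by
    obtain ⟨n, hn⟩ := hDq.exists_card_eq
    exact hsq ((Nat.prime_dvd_prime_iff_eq hs hq).1 (hs.dvd_of_dvd_pow (hn ▸ hd)))
  have hxN : ∀ i : ℕ, ¬ s ∣ i → (x : G) ^ i ∉ N := by
    intro i hi hxi
    obtain ⟨m, hm⟩ := exists_pow_eq_self_of_coprime (x := (x : G)) (n := i)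
      (by rw [hxG]; exact (hs.coprime_iff_not_dvd.2 hi).symm)
    have hxN : (x : G) ∈ N := hm ▸ N.pow_mem hxi m
    exact hDGs (hxG ▸ Subgroup.orderOf_dvd_natCard DG (hDGmem _ x.2 hxN))
  have hxord : ∀ i : ℕ, ¬ s ∣ i → ∃ n, orderOf ((x : G) ^ i) = s ^ n := fun i hi => ⟨1, by
    rw [pow_one, (Nat.Coprime.orderOf_pow (by rw [hxG]; exact hs.coprime_iff_not_dvd.2 hi)), hxG]⟩
  have hs1 : ¬ s ∣ 1 := fun e => hs.ne_one (Nat.dvd_one.1 e)
  refine hVne (eq_bot_of_frobenius (D := DG) hxG hs ?_ ?_ (hMV (hHM x.2)) ?_ ?_ ?_ ?_)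
  · refine mem_normalizer_iff.2 fun n => ⟨?_, fun hn => ?_⟩
    · rintro ⟨d, hd, rfl⟩
      exact hDGmem _ (H.mul_mem (H.mul_mem x.2 d.2) (inv_mem x.2)) (‹N.Normal›.conj_mem _ hd _)
    · have h1 := ‹N.Normal›.conj_mem _ (hDGN hn) (x : G)⁻¹
      have h2 : (x : G)⁻¹ * ((x : G) * n * (x : G)⁻¹) * (x : G)⁻¹⁻¹ = n := by group
      refine hDGmem _ ?_ (h2 ▸ h1)
      exact h2 ▸ H.mul_mem (H.mul_mem (inv_mem x.2) (map_subtype_le _ hn)) (inv_mem (inv_mem x.2))
  · exact (map_subtype_le _).trans (hHM.trans hMV)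
  · obtain ⟨n, hn⟩ := hDq.exists_card_eq
    rw [hn]
    exact ((hq.coprime_iff_not_dvd.2 (hVcard q hq hrq.symm)).symm).pow_right n
  · exact fun v hv hfix => kill V hVN inferInstance (hVcard q hq hrq.symm)
      ((hS0H.trans hHM).trans hMV) v hv fun d hd => hfix d (hQ1D hd)
  · intro i hi d hd hxd
    exact hcentral hs (hxN i hi) (hxord i hi) (hDGN hd)
      (fun e => hDGs (e.trans (Subgroup.orderOf_dvd_natCard DG hd))) (mul_inv_eq_iff_eq_mul.1 hxd)
  · intro v hv hxv
    by_contra hv1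
    have hx : (x : G) ∉ N := by simpa using hxN 1 hs1
    exact hv1 (hcentral hs hx ⟨1, by rw [pow_one, hxG]⟩ (hVN hv)
        (fun e => hVcard s hs hsr (e.trans (Subgroup.orderOf_dvd_natCard V hv)))
        (mul_inv_eq_iff_eq_mul.1 hxv))

end Cfsg.Agent.S3901
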