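import Cfsg.Statements.S3903
import Cfsg.Agent.Lib.PGroup.CentralizerCount

set_option autoImplicit false
open Cfsg

namespace Cfsg.Agent.S3903

/-- Let N be a proper normal subgroup of the finite group G such that every element x of G outside N has prime power order and has centralizer C_G(x) a maximal subgroup of G. Then N is solvable. -/
theorem result {G : Type*} [Group G] [Finite G] (N : Subgroup G) [N.Normal] (hN : N ≠ ⊤)
    (h : ∀ x : G, x ∉ N → IsPrimePow (orderOf x) ∧ IsCoatom (Subgroup.centralizer ({x} : Set G))) : Group.IsSolvable ↥N := by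
  by_contra hns
  have hG : ¬ Group.IsSolvable G := fun hs => hns inferInstance
  have hlt := CfsgLib.PGroup.card_lt_two_mul_of_cover N ⊥ bot_le fun x hx => by
    obtain ⟨hpp, hmax⟩ := h x hx
    obtain ⟨p, k, hp, hk0, hk⟩ := (isPrimePow_nat_iff _).1 hpp
    haveI := Fact.mk hp
    set C := Subgroup.centralizer ({x} : Set G) with hC
    have hCp : IsPGroup p C := by
      rw [IsPGroup.iff_card]
      refine ⟨_, Nat.eq_prime_pow_of_unique_prime_dvd Nat.card_pos.ne' fun {q} hq hd => ?_⟩
      by_contra hqp
      haveI := Fact.mk hq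
      obtain ⟨z, hz⟩ := exists_prime_orderOf_dvd_card' q hd
      have hc : Commute x (z : G) := (Subgroup.mem_centralizer_singleton_iff.1 z.2 : _).symm
      rw [← Subgroup.orderOf_coe] at hz
      have hco : (orderOf x).Coprime (orderOf (z : G)) := by
        rw [hz, ← hk]; exact Nat.Coprime.pow_left _ ((Nat.coprime_primes hp hq).2 (Ne.symm hqp))
      have hord := hc.orderOf_mul_eq_mul_orderOf_of_coprime hco
      have hxz : x * (z : G) ∉ N := fun hm => hx (by
        obtain ⟨m, hm'⟩ := exists_pow_eq_self_of_coprime (x := x) hco.symm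
        rw [← hm']
        refine pow_mem ?_ _
        have := pow_mem hm (orderOf (z : G))
        rwa [hc.mul_pow, pow_orderOf_eq_one, mul_one] at this)
      obtain ⟨r, n, hr, -, hrn⟩ := (isPrimePow_nat_iff _).1 (h _ hxz).1
      have e1 : r = p := ((Nat.prime_dvd_prime_iff_eq hp hr).1 (hp.dvd_of_dvd_pow (hrn ▸ hord ▸
        (dvd_mul_of_dvd_left (hk ▸ dvd_pow_self p hk0.ne') _)))).symm
      have e2 : r = q := ((Nat.prime_dvd_prime_iff_eq hq hr).1 (hq.dvd_of_dvd_pow (hrn ▸ hord ▸
        (dvd_mul_of_dvd_right hz.symm.dvd _)))).symm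
      exact hqp (e2.symm.trans e1)
    obtain ⟨P, hP⟩ := hCp.exists_le_sylow
    rcases hP.lt_or_eq with hlt | heq
    · exfalso
      have htop := hmax.2 _ hlt
      haveI : Group.IsNilpotent G :=
        IsPGroup.isNilpotent (p := p) fun g => by
          obtain ⟨j, hj⟩ := P.2 ⟨g, htop ▸ Subgroup.mem_top g⟩
          exact ⟨j, congrArg Subtype.val hj⟩
      exact hG inferInstance
    · refine ⟨p, hp, ?_, P, fun hab => ?_, ?_⟩
      · exact (hk ▸ dvd_pow_self p hk0.ne').trans (orderOf_dvd_natCard x)
      · haveI := hab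
        exact hG (CfsgLib.PGroup.isSolvable_of_abelian_coatom _ (heq ▸ hmax))
      · refine Subgroup.mem_sup_left (CfsgLib.PGroup.mem_centerIn.2 ⟨?_, fun w hw => ?_⟩)
        · exact hP (Subgroup.mem_centralizer_singleton_iff.2 rfl)
        · exact Subgroup.mem_centralizer_singleton_iff.1 (heq ▸ hw : w ∈ C)
  have h1 : N.index ≠ 1 := fun h1 => hN (Subgroup.index_eq_one.1 h1)
  have h2 := N.index_ne_zero_of_finite
  have h3 : 2 * Nat.card N ≤ Nat.card G := by
    rw [← N.card_mul_index, mul_comm 2]
    exact Nat.mul_le_mul_left _ (by omega)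
  omega

end Cfsg.Agent.S3903
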