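import Cfsg.Statements.S3908
import Cfsg.Agent.Lib.Invol.BGroup
-- import your own Cfsg.Agent.* helpers here

set_option autoImplicit false
open Cfsg

namespace Cfsg.Agent.S3908

/-- Let G be a finite group in which any two abelian subgroups of the same order are conjugate. Then a Sylow 2-subgroup of G is cyclic, elementary abelian or generalized quaternion, and for an odd prime p a Sylow p-subgroup of G is cyclic or has exponent dividing p. -/
theorem result {G : Type*} [Group G] [Finite G] (hB : ∀ A B : Subgroup G, IsMulCommutative ↥A → IsMulCommutative ↥B → Nat.card ↥A = Nat.card ↥B → ∃ g : G, B = A.map (MulAut.conj g).toMonoidHom) :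
    (∀ P : Sylow 2 G, IsCyclic ↥(P : Subgroup G) ∨ Cfsg.IsElementaryAbelian 2 (P : Subgroup G) ∨ ∃ k : ℕ, Nonempty (↥(P : Subgroup G) ≃* QuaternionGroup (2 ^ k))) ∧
    ∀ (p : ℕ) [Fact p.Prime], p ≠ 2 → ∀ P : Sylow p G, IsCyclic ↥(P : Subgroup G) ∨ ∀ x ∈ (P : Subgroup G), x ^ p = 1 := by
  have hB' : CfsgLib.Invol.AbelianConjugate G := hB
  refine ⟨fun P => ?_, fun p _ hp P => ?_⟩
  · haveI : Fact (Nat.Prime 2) := ⟨Nat.prime_two⟩
    rcases hB'.unique_or_exponent P with h | h
    · rcases CfsgLib.Coprime.cyclic_or_quaternion_of_unique_two P.2 h with h1 | h1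
      · exact Or.inl h1
      · exact Or.inr (Or.inr h1)
    · refine Or.inr (Or.inl ⟨⟨⟨fun a b => Subtype.ext ?_⟩⟩, h⟩)
      have e : ∀ x : G, x ∈ (P : Subgroup G) → x⁻¹ = x := fun x hx =>
        inv_eq_of_mul_eq_one_right (by rw [← pow_two]; exact h x hx)
      calc (a : G) * b = ((a : G) * b)⁻¹ := (e _ (mul_mem a.2 b.2)).symm
        _ = (b : G) * a := by rw [mul_inv_rev, e _ a.2, e _ b.2]
  · rcases hB'.unique_or_exponent P with h | h
    · exact Or.inl (CfsgLib.Coprime.isCyclic_of_unique_odd hp P.2 h)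
    · exact Or.inr h

end Cfsg.Agent.S3908
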