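import Cfsg.Statements.S3909
import Cfsg.Agent.Lib.Coprime.Core

set_option autoImplicit false
set_option linter.style.haveILetI false
open Cfsg

namespace Cfsg.Agent.S3909

/-- Let G be a finite group in which any two abelian subgroups of the same order are conjugate. Let M be a normal subgroup of G. If M contains an element of the same order as a ∈ G, then a ∈ M; and if M is elementary abelian of order p^t with p prime and t ≥ 2, then M is the unique Sylow p-subgroup of G. -/
theorem result {G : Type*} [Group G] [Finite G] (hB : ∀ A B : Subgroup G, IsMulCommutative ↥A → IsMulCommutative ↥B → Nat.card ↥A = Nat.card ↥B → ∃ g : G, B = A.map (MulAut.conj g).toMonoidHom) (M : Subgroup G) [M.Normal] :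
    (∀ a : G, (∃ m ∈ M, orderOf m = orderOf a) → a ∈ M) ∧
    ∀ (p t : ℕ) [Fact p.Prime], 2 ≤ t → Nat.card ↥M = p ^ t → Cfsg.IsElementaryAbelian p M → ∀ P : Sylow p G, (P : Subgroup G) = M := by
  have habs : ∀ a : G, (∃ m ∈ M, orderOf m = orderOf a) → a ∈ M := by
    rintro a ⟨m, hm, hma⟩
    obtain ⟨g, hg⟩ := hB (Subgroup.zpowers m) (Subgroup.zpowers a) inferInstance inferInstance
      (by rw [Nat.card_zpowers, Nat.card_zpowers, hma])
    obtain ⟨y, hy, hya⟩ := hg ▸ Subgroup.mem_zpowers a
    rw [← hya]
    exact ‹M.Normal›.conj_mem y (Subgroup.zpowers_le.2 hm hy) g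
  refine ⟨habs, fun p t _ ht hcard hel P => ?_⟩
  have hMp : IsPGroup p M := IsPGroup.of_card hcard
  obtain ⟨R, hR⟩ := hMp.exists_le_sylow
  obtain ⟨c, rfl⟩ := MulAction.exists_smul_eq G R P
  have hRM : (R : Subgroup G) = M := by
    refine le_antisymm (fun x hx => ?_) hR
    haveI := Fact.out (p := p.Prime)
    obtain ⟨m, hm, hm1⟩ : ∃ m ∈ M, orderOf m = p := by
      obtain ⟨m, hm⟩ := exists_prime_orderOf_dvd_card' (G := M) p
        (hcard ▸ dvd_pow_self p (by omega))
      exact ⟨m, m.2, by rw [Subgroup.orderOf_coe, hm]⟩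
    by_contra hxM
    -- some element of order `p ^ 2`
    obtain ⟨k, hk⟩ := R.isPGroup' ⟨x, hx⟩
    have hk' : x ^ p ^ k ∈ M := by
      rw [show x ^ p ^ k = 1 from congrArg Subtype.val hk]; exact M.one_mem
    clear hk hx
    induction k generalizing x with
    | zero => exact hxM (by simpa using hk')
    | succ k ih =>
      by_cases hxp : x ^ p ∈ M
      · have hpp : x ^ p ^ 2 = 1 := by rw [pow_two, pow_mul]; exact hel.2 _ hxp
        obtain ⟨i, hi, hio⟩ := (Nat.dvd_prime_pow Fact.out).1 (orderOf_dvd_of_pow_eq_one hpp)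
        interval_cases i
        · rw [pow_zero, orderOf_eq_one_iff] at hio
          exact hxM (hio ▸ M.one_mem)
        · exact hxM (habs x ⟨m, hm, by rw [hm1, hio, pow_one]⟩)
        · obtain ⟨D, hD⟩ := Sylow.exists_subgroup_card_pow_prime (G := M) p (n := 2)
            (hcard ▸ pow_dvd_pow p ht)
          haveI : IsMulCommutative M := hel.1
          have hDc : IsMulCommutative (D.map M.subtype) := by
            refine isMulCommutative_iff.2 ?_
            rintro ⟨_, a, ha, rfl⟩ ⟨_, b, hb, rfl⟩
            exact Subtype.ext (congrArg (fun z : M => (z : G)) (isMulCommutative_iff.1 hel.1 a b))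
          obtain ⟨g, hg⟩ := hB (D.map M.subtype) (Subgroup.zpowers x) hDc inferInstance (by
            rw [Subgroup.card_map_of_injective M.subtype_injective, hD, Nat.card_zpowers, hio])
          obtain ⟨y, hy, hyx⟩ := hg ▸ Subgroup.mem_zpowers x
          obtain ⟨z, -, rfl⟩ := hy
          exact hxM (hyx ▸ ‹M.Normal›.conj_mem _ z.2 g)
      · exact ih (x ^ p) hxp (by rw [← pow_mul, ← pow_succ']; exact hk')
  rw [Sylow.coe_subgroup_smul, hRM]
  exact Subgroup.Normal.conj_smul_eq_self c M

end Cfsg.Agent.S3909
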