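import Cfsg.Statements.S3910
import Cfsg.Agent.Lib.Coprime.UniqueOrderP
import Cfsg.Agent.Lib.Coprime.MinimalNonNilpotent

set_option autoImplicit false
set_option linter.style.haveILetI false
open Cfsg

namespace Cfsg.Agent.S3910

/-- A finite nilpotent group in which any two abelian subgroups of the same order are conjugate is cyclic. -/
theorem result {G : Type*} [Group G] [Finite G] (hB : ∀ A B : Subgroup G, IsMulCommutative ↥A → IsMulCommutative ↥B → Nat.card ↥A = Nat.card ↥B → ∃ g : G, B = A.map (MulAut.conj g).toMonoidHom) (hnil : Group.IsNilpotent G) : IsCyclic G := by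
  haveI := hnil
  haveI : IsZGroup G := ⟨fun p hp P => ?_⟩
  · infer_instance
  haveI := Fact.mk hp
  -- conjugation inside `P` suffices
  have hconj : ∀ A B : Subgroup P, IsMulCommutative A → IsMulCommutative B →
      Nat.card A = Nat.card B → ∃ g : P, B = A.map (MulAut.conj g).toMonoidHom := by
    intro A B hA hB' hcard
    have hinj := (P : Subgroup G).subtype_injective
    have hab : ∀ C : Subgroup P, IsMulCommutative C →
        IsMulCommutative (C.map (P : Subgroup G).subtype) := by
      intro C hC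
      refine isMulCommutative_iff.2 ?_
      rintro ⟨_, a, ha, rfl⟩ ⟨_, b, hb, rfl⟩
      exact Subtype.ext (congrArg (fun z : C => ((z : P) : G))
        (isMulCommutative_iff.1 hC ⟨a, ha⟩ ⟨b, hb⟩))
    obtain ⟨g, hg⟩ := hB _ _ (hab A hA) (hab B hB')
      (by rw [Subgroup.card_map_of_injective hinj, Subgroup.card_map_of_injective hinj, hcard])
    haveI hPn : (P : Subgroup G).Normal := by
      have h := (Group.isNilpotent_of_finite_tfae (G := G)).out 0 3 rfl rfl
      exact h.1 hnil p ⟨hp⟩ P
    obtain ⟨u, v, hu, hv, rfl⟩ : ∃ u v : G, u ∈ (P : Subgroup G) ∧ (orderOf v).Coprime p ∧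
        g = u * v := by
      obtain ⟨k, m, hm, hkm⟩ := Nat.exists_eq_pow_mul_and_not_dvd (orderOf_pos g).ne' p hp.ne_one
      have hc : (p ^ k).Coprime m := (hp.coprime_iff_not_dvd.2 hm).pow_left k
      have hbez := Nat.gcd_eq_gcd_ab (p ^ k) m
      rw [show (p ^ k).gcd m = 1 from hc, Nat.cast_one] at hbez
      refine ⟨(g ^ m) ^ Nat.gcdB (p ^ k) m, (g ^ (p ^ k)) ^ Nat.gcdA (p ^ k) m, ?_, ?_, ?_⟩
      · refine Subgroup.zpow_mem _ ?_ _
        have hpg : IsPGroup p (Subgroup.zpowers (g ^ m)) := by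
          refine IsPGroup.of_card (n := k) ?_
          rw [Nat.card_zpowers, orderOf_pow_of_dvd (fun e => hm (by simp [e]))
            (Dvd.intro_left _ hkm.symm), hkm,
            Nat.mul_div_cancel _ (Nat.pos_of_ne_zero fun e => hm (by simp [e]))]
        obtain ⟨Q, hQ⟩ := hpg.exists_le_sylow
        haveI := Sylow.unique_of_normal P hPn
        rw [Subsingleton.elim P Q]
        exact hQ (Subgroup.mem_zpowers _)
      · refine Nat.Coprime.coprime_dvd_left ?_ (hp.coprime_iff_not_dvd.2 hm).symm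
        refine (orderOf_dvd_of_mem_zpowers (Subgroup.zpow_mem_zpowers _ _)).trans ?_
        rw [orderOf_pow_of_dvd (pow_ne_zero _ hp.ne_zero) (Dvd.intro _ hkm.symm), hkm,
          Nat.mul_div_cancel_left _ (pow_pos hp.pos _)]
      · rw [← zpow_natCast g m, ← zpow_natCast g (p ^ k), ← zpow_mul, ← zpow_mul, ← zpow_add,
          add_comm, ← hbez, zpow_one]
    refine ⟨⟨u, hu⟩, Subgroup.map_injective hinj ?_⟩
    rw [hg, Subgroup.map_map, Subgroup.map_map]
    have key : ∀ a : P, v * (a : G) * v⁻¹ = a := fun a => by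
      rw [(CfsgLib.Coprime.commute_of_coprime_pow hv P.isPGroup' a.2).eq, mul_inv_cancel_right]
    have e : ((MulAut.conj (u * v)).toMonoidHom.comp (P : Subgroup G).subtype) =
        (P : Subgroup G).subtype.comp (MulAut.conj (⟨u, hu⟩ : P)).toMonoidHom := by
      ext a
      simp only [MonoidHom.comp_apply, MulEquiv.coe_toMonoidHom, MulAut.conj_apply,
        Subgroup.coe_subtype, Subgroup.coe_mul, Subgroup.coe_inv]
      calc u * v * (a : G) * (u * v)⁻¹ = u * (v * (a : G) * v⁻¹) * u⁻¹ := by group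
        _ = _ := by rw [key]
    rw [e]
  -- one subgroup of order `p`
  have hu : CfsgLib.Coprime.UniqueOrderP p P := by
    refine CfsgLib.Coprime.uniqueOrderP_of_unique_subgroup fun H K hH hK => ?_
    haveI : Nontrivial P := by
      rcases subsingleton_or_nontrivial P with h | h
      · exact absurd (hH.symm.trans (Nat.card_of_subsingleton (1 : H))) hp.ne_one
      · exact h
    haveI := P.isPGroup'.center_nontrivial
    obtain ⟨k, hk, hkc⟩ := (P.isPGroup'.to_subgroup (Subgroup.center P)).nontrivial_iff_card.1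
      inferInstance
    obtain ⟨z, hz⟩ := exists_prime_orderOf_dvd_card' (G := Subgroup.center P) p
      (hkc ▸ dvd_pow_self p hk.ne')
    have hcomm : ∀ L : Subgroup P, Nat.card L = p → IsMulCommutative L := fun L hL =>
      haveI := isCyclic_of_prime_card hL; inferInstance
    have main : ∀ L : Subgroup P, Nat.card L = p → L = Subgroup.zpowers (z : P) := by
      intro L hL
      have hZ : Nat.card (Subgroup.zpowers (z : P)) = p := by
        rw [Nat.card_zpowers, Subgroup.orderOf_coe, hz]
      obtain ⟨g, hg⟩ := hconj _ L (hcomm _ hZ) (hcomm L hL) (hZ.trans hL.symm)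
      rw [hg, MonoidHom.map_zpowers]
      congr 1
      exact (mul_inv_eq_iff_eq_mul.2 (Subgroup.mem_center_iff.1 z.2 g))
    rw [main H hH, main K hK]
  rcases CfsgLib.Coprime.cyclic_or_quaternion_of_unique P.isPGroup' hu with h | ⟨-, n, ⟨e⟩⟩
  · exact h
  by_cases hn : n = 0
  · subst hn
    haveI : IsCyclic (QuaternionGroup (2 ^ 0)) := isCyclic_of_orderOf_eq_card (QuaternionGroup.xa 0)
      (by rw [QuaternionGroup.orderOf_xa, Nat.card_eq_fintype_card, QuaternionGroup.card]; rfl)
    exact isCyclic_of_surjective e.symm e.symm.surjective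
  exfalso
  let i : ZMod (2 * 2 ^ n) := ((2 ^ (n - 1) : ℕ) : ZMod (2 * 2 ^ n))
  have hi : orderOf (QuaternionGroup.a i : QuaternionGroup (2 ^ n)) = 4 := by
    have h2 : 2 * 2 ^ n = 2 ^ (n - 1) * 4 := by
      rw [show (4 : ℕ) = 2 ^ 2 by norm_num, ← pow_succ', ← pow_add]; congr 1; omega
    have hlt : 2 ^ (n - 1) < 2 * 2 ^ n := by
      have := Nat.two_pow_pos (n - 1); omega
    rw [QuaternionGroup.orderOf_a, ZMod.val_natCast, Nat.mod_eq_of_lt hlt,
      Nat.gcd_eq_right (Dvd.intro _ h2.symm), h2, Nat.mul_div_cancel_left _ (Nat.two_pow_pos _)]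
  have hcard : Nat.card (Subgroup.zpowers (e.symm (QuaternionGroup.a i))) =
      Nat.card (Subgroup.zpowers (e.symm (QuaternionGroup.xa 0))) := by
    rw [Nat.card_zpowers, Nat.card_zpowers, MulEquiv.orderOf_eq, MulEquiv.orderOf_eq, hi,
      QuaternionGroup.orderOf_xa]
  obtain ⟨g, hg⟩ := hconj _ _ inferInstance inferInstance hcard
  have hmem : e.symm (QuaternionGroup.xa 0) ∈
      (Subgroup.zpowers (e.symm (QuaternionGroup.a i))).map (MulAut.conj g).toMonoidHom :=
    hg ▸ Subgroup.mem_zpowers _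
  obtain ⟨y, hy, hgy⟩ := hmem
  obtain ⟨k, rfl⟩ := Subgroup.mem_zpowers_iff.1 hy
  have h1 := congrArg e hgy
  simp only [MulEquiv.coe_toMonoidHom, MulAut.conj_apply, map_mul, map_inv, map_zpow,
    MulEquiv.apply_symm_apply] at h1
  have ha : ∀ m : ℕ, ∃ j, (QuaternionGroup.a i : QuaternionGroup (2 ^ n)) ^ m =
      QuaternionGroup.a j := by
    intro m
    induction m with
    | zero => exact ⟨0, by rw [pow_zero]; rfl⟩
    | succ m ih =>
      obtain ⟨j, hj⟩ := ih
      exact ⟨j + i, by rw [pow_succ, hj, QuaternionGroup.a_mul_a]⟩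
  obtain ⟨j, hj⟩ : ∃ j, (QuaternionGroup.a i : QuaternionGroup (2 ^ n)) ^ k =
      QuaternionGroup.a j := by
    rw [← zpow_mod_orderOf, ← Int.toNat_of_nonneg (Int.emod_nonneg k (by rw [hi]; norm_num)),
      zpow_natCast]
    exact ha _
  rw [conj_zpow, hj, mul_inv_eq_iff_eq_mul] at h1
  cases hc : e g <;> simp [hc] at h1

end Cfsg.Agent.S3910
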