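import Cfsg.Statements.S3914
import Cfsg.Agent.Lib.BGroup.Cases
import Cfsg.Agent.Lib.BGroup.Three.Tail

set_option autoImplicit false
open Cfsg

namespace Cfsg.Agent.S3914

/-- Let G be a finite group in which any two abelian subgroups of the same order are conjugate. If M is a non-abelian simple normal subgroup of G, then M is isomorphic to SL₂(2^f) with f ∈ {2, 3, 5}, or to PSL₂(q) for a prime power q ≥ 5 with q ≡ 3 or 5 (mod 8), or to the first Janko group J₁. -/
theorem result {G : Type*} [Group G] [Finite G] (hB : ∀ A B : Subgroup G, IsMulCommutative ↥A → IsMulCommutative ↥B → Nat.card ↥A = Nat.card ↥B → ∃ g : G, B = A.map (MulAut.conj g).toMonoidHom) (M : Subgroup G) [M.Normal] (hs : IsSimpleGroup ↥M) (hna : ¬ IsMulCommutative ↥M) :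
    (∃ (F : Type) (_ : Field F) (_ : Fintype F), (Fintype.card F = 2 ^ 2 ∨ Fintype.card F = 2 ^ 3 ∨ Fintype.card F = 2 ^ 5) ∧
        Nonempty (↥M ≃* Matrix.SpecialLinearGroup (Fin 2) F)) ∨
    (∃ (F : Type) (_ : Field F) (_ : Fintype F), 5 ≤ Fintype.card F ∧ (Fintype.card F % 8 = 3 ∨ Fintype.card F % 8 = 5) ∧
        Nonempty (↥M ≃* Matrix.ProjectiveSpecialLinearGroup (Fin 2) F)) ∨
    Cfsg.Spor.IsoJ1 ↥M := by
  haveI := hs
  have hne : ∃ a b : M, a * b ≠ b * a := by
    by_contra h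
    push Not at h
    exact hna ⟨⟨h⟩⟩
  obtain ⟨hX⟩ := CfsgLib.BGroup.exists_setting hB M hne
  exact hX.concl hne fun S h8 hns hO => hX.isoJ1 S h8 hns hO

end Cfsg.Agent.S3914
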