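import Cfsg.Statements.S3917
import Cfsg.Agent.Lib.Coprime.UniqueOrderP
import Cfsg.Agent.Lib.Coprime.Core

set_option autoImplicit false
set_option linter.style.haveILetI false
open Cfsg

namespace Cfsg.Agent.S3917

/-- Say that a group has self-centralizing non-cyclic subgroups when every non-cyclic subgroup H satisfies C_G(H) ≤ H. A finite abelian group with self-centralizing non-cyclic subgroups is cyclic or elementary abelian of order p² for a prime p. -/
theorem result {G : Type*} [CommGroup G] [Finite G] (hX : (∀ H : Subgroup G, ¬ IsCyclic ↥H → Subgroup.centralizer (H : Set G) ≤ H)) :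
    IsCyclic G ∨ ∃ p : ℕ, p.Prime ∧ Nat.card G = p ^ 2 ∧ Monoid.exponent G = p := by
  have hcyc : ∀ H : Subgroup G, H ≠ ⊤ → IsCyclic H := by
    intro H hH
    by_contra hn
    exact hH (top_le_iff.1 fun g _ => hX H hn (Subgroup.mem_centralizer_iff.2 fun a _ => mul_comm a g))
  by_cases hG : IsCyclic G
  · exact Or.inl hG
  obtain ⟨p, hp, P, hP⟩ : ∃ p : ℕ, p.Prime ∧ ∃ P : Sylow p G, ¬ IsCyclic P := by
    by_contra h
    push Not at h
    haveI : IsZGroup G := ⟨fun p hp P => h p hp P⟩
    exact hG inferInstance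
  haveI := Fact.mk hp
  have hPtop : (P : Subgroup G) = ⊤ := by
    by_contra h
    exact hP (hcyc _ h)
  have hGp : IsPGroup p G := by
    have h := P.isPGroup'
    rw [hPtop] at h
    exact h.of_equiv Subgroup.topEquiv
  have hu : ¬ CfsgLib.Coprime.UniqueOrderP p G := fun hu =>
    hG (CfsgLib.Coprime.isCyclic_of_comm_of_unique hGp hu)
  unfold CfsgLib.Coprime.UniqueOrderP at hu
  push Not at hu
  obtain ⟨x, y, hx, hy, hx1, hxy⟩ := hu
  let f : G →* G := powMonoidHom p
  have hker : f.ker = ⊤ := by
    by_contra hne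
    haveI := hcyc _ hne
    have hle : Nat.card f.ker ≤ p := by
      rw [← IsCyclic.exponent_eq_card]
      refine Nat.le_of_dvd hp.pos (Monoid.exponent_dvd_of_forall_pow_eq_one fun a => Subtype.ext ?_)
      simpa [f] using MonoidHom.mem_ker.1 a.2
    have hox : orderOf x = p := orderOf_eq_prime hx hx1
    have hxk : Subgroup.zpowers x ≤ f.ker :=
      Subgroup.zpowers_le.2 (MonoidHom.mem_ker.2 (by simpa [f] using hx))
    have he : Subgroup.zpowers x = f.ker :=
      Subgroup.eq_of_le_of_card_ge hxk (by rw [Nat.card_zpowers, hox]; exact hle)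
    exact hxy (he ▸ MonoidHom.mem_ker.2 (by simpa [f] using hy))
  have hall : ∀ g : G, g ^ p = 1 := fun g =>
    MonoidHom.mem_ker.1 (hker.symm ▸ Subgroup.mem_top g : g ∈ f.ker)
  refine Or.inr ⟨p, hp, ?_, ?_⟩
  · let K : Subgroup G := Subgroup.zpowers x ⊔ Subgroup.zpowers y
    have hKc : ¬ IsCyclic K := by
      intro hK
      have h1 : Nat.card K ≤ p := by
        rw [← IsCyclic.exponent_eq_card]
        exact Nat.le_of_dvd hp.pos
          (Monoid.exponent_dvd_of_forall_pow_eq_one fun a => Subtype.ext (by simpa using hall a))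
      refine hxy ?_
      have he : Subgroup.zpowers x = K :=
        Subgroup.eq_of_le_of_card_ge le_sup_left
          (by rw [Nat.card_zpowers, orderOf_eq_prime hx hx1]; exact h1)
      exact he ▸ (Subgroup.mem_sup_right (Subgroup.mem_zpowers y))
    have hK : K = ⊤ := by
      by_contra h
      exact hKc (hcyc K h)
    obtain ⟨k, hk⟩ := IsPGroup.iff_card.1 hGp
    have h1 : Nat.card K ∣ p * p := by
      refine (CfsgLib.Coprime.card_sup_dvd_of_normal _ _).trans ?_
      rw [Nat.card_zpowers, Nat.card_zpowers]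
      exact Nat.mul_dvd_mul (orderOf_dvd_of_pow_eq_one hx) (orderOf_dvd_of_pow_eq_one hy)
    rw [hK, Subgroup.card_top, hk, ← pow_two, Nat.pow_dvd_pow_iff_le_right hp.one_lt] at h1
    rw [hk]
    congr 1
    refine le_antisymm h1 ?_
    by_contra hlt
    exact hG (isCyclic_of_card_dvd_prime (p := p) (by
      rw [hk]; exact (pow_dvd_pow p (by omega : k ≤ 1)).trans (by rw [pow_one])))
  · refine ((Nat.dvd_prime hp).1 (Monoid.exponent_dvd_of_forall_pow_eq_one hall)).resolve_left
      fun h1 => hx1 ?_
    have := Monoid.pow_exponent_eq_one x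
    rwa [h1, pow_one] at this

end Cfsg.Agent.S3917
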