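import Cfsg.Statements.S3918
import Cfsg.Agent.Lib.PGroup.NormalRankTwo
-- import your own Cfsg.Agent.* helpers here

set_option autoImplicit false
open Cfsg

namespace Cfsg.Agent.S3918

/-- Say that a group has self-centralizing non-cyclic subgroups when every non-cyclic subgroup H satisfies C_G(H) ≤ H. For an odd prime p, a finite non-abelian p-group has self-centralizing non-cyclic subgroups if and only if it has order p³. -/
theorem result {G : Type*} [Group G] [Finite G] {p : ℕ} [Fact p.Prime] (hp : p ≠ 2) (hG : IsPGroup p G) (hna : ¬ IsMulCommutative G) :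
    (∀ H : Subgroup G, ¬ IsCyclic ↥H → Subgroup.centralizer (H : Set G) ≤ H) ↔ Nat.card G = p ^ 3 := by
  have hp' : p.Prime := Fact.out
  have comm_of_sq : ∀ {K : Type _} [Group K] [Finite K], Nat.card K = p ^ 2 → IsMulCommutative K :=
    fun hK => by
      letI := IsPGroup.commGroupOfCardEqPrimeSq hK
      exact ⟨⟨mul_comm⟩⟩
  obtain ⟨k, hk⟩ := IsPGroup.iff_card.1 hG
  have hk3 : 3 ≤ k := by
    by_contra hlt
    rcases k with _ | _ | _ | k
    · haveI : Subsingleton G := (Nat.card_eq_one_iff_unique.1 (hk.trans (pow_zero p))).1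
      exact hna ⟨⟨fun a b => Subsingleton.elim _ _⟩⟩
    · haveI := isCyclic_of_prime_card (hk.trans (pow_one p))
      exact hna inferInstance
    · exact hna (comm_of_sq hk)
    · omega
  constructor
  · intro h
    have hncG : ¬ IsCyclic (⊤ : Subgroup G) := fun hc => by
      haveI : IsCyclic G := Subgroup.topEquiv.isCyclic.1 hc
      exact hna inferInstance
    obtain ⟨E, -, hEn, hE, hEc⟩ := CfsgLib.PGroup.exists_normal_rank_two hG hp ⊤ hncG
    have hEnc : ¬ IsCyclic E := fun hc => by
      obtain ⟨g, hg⟩ := hc.exists_generator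
      have h1 : orderOf g = Nat.card E := orderOf_eq_card_of_forall_mem_zpowers hg
      have h2 : orderOf g ∣ p := orderOf_dvd_of_pow_eq_one (Subtype.ext (hE.2 g g.2))
      rw [h1, hEc] at h2
      have := Nat.le_of_dvd hp'.pos h2
      exact absurd this (not_le.2 (lt_self_pow₀ hp'.one_lt (by omega)))
    have hCE := h E hEnc
    haveI : Nontrivial G := by
      rw [← Finite.one_lt_card_iff_nontrivial, hk]; exact Nat.one_lt_pow (by omega) hp'.one_lt
    have hZE : Subgroup.center G ≤ E := (Subgroup.center_le_centralizer _).trans hCE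
    have hne : Subgroup.center G ≠ E := fun e => by
      have hC : Subgroup.centralizer (E : Set G) = ⊤ := eq_top_iff.2 fun g _ =>
        Subgroup.mem_centralizer_iff.2 fun x hx => (Subgroup.mem_center_iff.1 (e.symm ▸ hx) g).symm
      have h1 := Subgroup.card_le_of_le hCE
      rw [hC, Subgroup.card_top, hk, hEc] at h1
      have := (Nat.pow_le_pow_iff_right hp'.one_lt).1 h1
      omega
    obtain ⟨u, huE, huZ⟩ : ∃ u ∈ E, u ∉ Subgroup.center G := by
      by_contra hno
      push Not at hno
      exact hne (le_antisymm hZE hno)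
    have hZc : Nat.card (Subgroup.center G) = p := by
      obtain ⟨a, ha, ha'⟩ := (Nat.dvd_prime_pow hp').1 (hEc ▸ Subgroup.card_dvd_of_le hZE)
      haveI := hG.center_nontrivial
      have ha0 : a ≠ 0 := fun e => by
        have h1 := Finite.one_lt_card (α := Subgroup.center G)
        rw [ha', e, pow_zero] at h1
        exact absurd h1 (lt_irrefl 1)
      have ha2 : a ≠ 2 := fun e =>
        hne (Subgroup.eq_of_le_of_card_ge hZE (by rw [hEc, ha', e]))
      rw [ha', show a = 1 by omega, pow_one]
    have hC : Subgroup.centralizer ({u} : Set G) ≤ E := by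
      intro g hg
      refine hCE (Subgroup.mem_centralizer_iff.2 fun x hx => ?_)
      have hle : Subgroup.center G ⊔ Subgroup.zpowers u = E := by
        have hlt : Subgroup.center G < Subgroup.center G ⊔ Subgroup.zpowers u :=
          lt_of_le_of_ne le_sup_left fun e =>
            huZ (e ▸ Subgroup.mem_sup_right (Subgroup.mem_zpowers u))
        have hle' : Subgroup.center G ⊔ Subgroup.zpowers u ≤ E := sup_le hZE (Subgroup.zpowers_le.2 huE)
        obtain ⟨a, ha, ha'⟩ := (Nat.dvd_prime_pow hp').1 (hEc ▸ Subgroup.card_dvd_of_le hle')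
        have hc : Nat.card (Subgroup.center G) < Nat.card ↥(Subgroup.center G ⊔ Subgroup.zpowers u) :=
          lt_of_le_of_ne (Subgroup.card_le_of_le hlt.le) fun e =>
            hlt.ne (Subgroup.eq_of_le_of_card_ge hlt.le e.ge)
        rw [hZc, ha'] at hc
        have ha2 : a = 2 := by
          have h1 : p ^ 1 < p ^ a := by rw [pow_one]; exact hc
          have h2 := (Nat.pow_lt_pow_iff_right hp'.one_lt).1 h1
          omega
        exact Subgroup.eq_of_le_of_card_ge hle' (by rw [hEc, ha', ha2])
      rw [← hle] at hx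
      have hcle : Subgroup.center G ⊔ Subgroup.zpowers u ≤ Subgroup.centralizer {g} := sup_le
        (Subgroup.center_le_centralizer _)
        (Subgroup.zpowers_le.2 (Subgroup.mem_centralizer_singleton_iff.2
          (Subgroup.mem_centralizer_singleton_iff.1 hg).symm))
      exact Subgroup.mem_centralizer_singleton_iff.1 (hcle hx)
    have hidx : (Subgroup.centralizer ({u} : Set G)).index < p ^ 2 := by
      rw [Subgroup.index_eq_card, ← hEc]
      let f : G ⧸ Subgroup.centralizer ({u} : Set G) → E :=
        Quotient.lift (fun g => (⟨g * u * g⁻¹, hEn.conj_mem u huE g⟩ : E)) fun a b hab => by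
          have hab' : a⁻¹ * b ∈ Subgroup.centralizer ({u} : Set G) := QuotientGroup.leftRel_apply.1 hab
          rw [Subgroup.mem_centralizer_singleton_iff] at hab'
          apply Subtype.ext
          show a * u * a⁻¹ = b * u * b⁻¹
          calc a * u * a⁻¹ = a * (u * (a⁻¹ * b)) * b⁻¹ := by group
            _ = a * ((a⁻¹ * b) * u) * b⁻¹ := by rw [hab']
            _ = b * u * b⁻¹ := by group
      have hf : Function.Injective f := fun x y => by
        induction x using Quotient.inductionOn with | _ a => ?_
        induction y using Quotient.inductionOn with | _ b => ?_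
        intro e
        have e' : a * u * a⁻¹ = b * u * b⁻¹ := congrArg Subtype.val e
        refine Quotient.sound (QuotientGroup.leftRel_apply.2
          (Subgroup.mem_centralizer_singleton_iff.2 ?_))
        calc a⁻¹ * b * u = a⁻¹ * (b * u * b⁻¹) * b := by group
          _ = a⁻¹ * (a * u * a⁻¹) * b := by rw [e']
          _ = u * (a⁻¹ * b) := by group
      haveI := Fintype.ofFinite E
      haveI := Fintype.ofFinite (G ⧸ Subgroup.centralizer ({u} : Set G))
      rw [Nat.card_eq_fintype_card, Nat.card_eq_fintype_card]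
      refine Fintype.card_lt_of_injective_of_notMem f hf (b := (1 : E)) ?_
      rintro ⟨x, hx⟩
      induction x using Quotient.inductionOn with | _ a => ?_
      have e' : a * u * a⁻¹ = 1 := congrArg Subtype.val hx
      exact huZ (by rw [conj_eq_one_iff.1 e']; exact one_mem _)
    obtain ⟨b, -, hb⟩ := (Nat.dvd_prime_pow hp').1 (hk ▸ (Subgroup.centralizer ({u} : Set G)).index_dvd_card)
    rw [hb] at hidx
    have hb1 : b ≤ 1 := Nat.lt_succ_iff.1 ((Nat.pow_lt_pow_iff_right hp'.one_lt).1 hidx)
    have h1 := (Subgroup.centralizer ({u} : Set G)).card_mul_index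
    rw [hk, hb] at h1
    have h2 : p ^ k ≤ p ^ 3 := by
      rw [← h1, show p ^ 3 = p ^ 2 * p ^ 1 by ring]
      exact Nat.mul_le_mul ((Subgroup.card_le_of_le hC).trans hEc.le)
        (Nat.pow_le_pow_right hp'.pos hb1)
    have h3 := (Nat.pow_le_pow_iff_right hp'.one_lt).1 h2
    rw [hk, show k = 3 by omega]
  · intro h3 H hH g hg
    by_contra hgH
    obtain ⟨a, ha, ha'⟩ := (Nat.dvd_prime_pow hp').1 (h3 ▸ H.card_subgroup_dvd_card)
    interval_cases a
    · exact hH (Subgroup.card_eq_one.1 (ha'.trans (pow_zero p)) ▸ inferInstance)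
    · exact hH (isCyclic_of_prime_card (ha'.trans (pow_one p)))
    · have hab := comm_of_sq ha'
      have hle : H ≤ Subgroup.centralizer (H : Set G) := fun x hx =>
        Subgroup.mem_centralizer_iff.2 fun y hy =>
          congrArg Subtype.val (hab.is_comm.comm ⟨y, hy⟩ ⟨x, hx⟩)
      have htop : Subgroup.centralizer (H : Set G) = ⊤ := by
        refine Subgroup.eq_top_of_card_eq _ ?_
        obtain ⟨b, hb, hb'⟩ := (Nat.dvd_prime_pow hp').1
          (h3 ▸ (Subgroup.centralizer (H : Set G)).card_subgroup_dvd_card)
        have hlt : Nat.card H < Nat.card (Subgroup.centralizer (H : Set G)) :=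
          lt_of_le_of_ne (Subgroup.card_le_of_le hle) fun e =>
            hgH ((Subgroup.eq_of_le_of_card_ge hle e.ge).symm ▸ hg)
        rw [ha', hb', Nat.pow_lt_pow_iff_right hp'.one_lt] at hlt
        rw [hb', h3, show b = 3 by omega]
      have hHZ : H ≤ Subgroup.center G := fun x hx => Subgroup.mem_center_iff.2 fun y =>
        (Subgroup.mem_centralizer_iff.1 (htop ▸ Subgroup.mem_top y) x hx).symm
      obtain ⟨c, hc, hc'⟩ := (Nat.dvd_prime_pow hp').1
        (h3 ▸ (Subgroup.center G).index_dvd_card)
      have h1 := (Subgroup.center G).card_mul_index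
      rw [h3, hc'] at h1
      have h2 : p ^ 2 * p ^ c ≤ p ^ 3 := by
        rw [← h1]; exact Nat.mul_le_mul_right _ (ha' ▸ Subgroup.card_le_of_le hHZ)
      rw [← pow_add, Nat.pow_le_pow_iff_right hp'.one_lt] at h2
      refine hna ?_
      have hq : IsCyclic (G ⧸ Subgroup.center G) := by
        rcases c with _ | _ | c
        · haveI : Subsingleton (G ⧸ Subgroup.center G) :=
            (Nat.card_eq_one_iff_unique.1 (hc'.trans (pow_zero p))).1
          infer_instance
        · exact isCyclic_of_prime_card (hc'.trans (pow_one p))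
        · omega
      exact ⟨⟨fun a b => commutative_of_cyclic_center_quotient
        (QuotientGroup.mk' (Subgroup.center G)) (by rw [QuotientGroup.ker_mk']) a b⟩⟩
    · exact hgH (by rw [H.eq_top_of_card_eq (ha'.trans h3.symm)]; exact Subgroup.mem_top g)

end Cfsg.Agent.S3918
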