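import Cfsg.Statements.S3919
-- import your own Cfsg.Agent.* helpers here
import Cfsg.Agent.S0112
import Cfsg.Agent.S0113
import Cfsg.Agent.Lib.PGroup.MaxClassSeries
import Cfsg.Agent.Lib.Coprime.UniqueOrderP

set_option autoImplicit false
open Cfsg

namespace Cfsg.Agent.S3919

open Subgroup

/-- The centre of a 2-group of maximal class has order at most two. -/
theorem card_center_le {G : Type*} [Group G] [Finite G] (hna : ¬ IsMulCommutative G) {n : ℕ}
    (hn : Nat.card G = 2 ^ n) (hcl : Group.nilpotencyClass G = n - 1) : Nat.card (center G) ≤ 2 := by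
  haveI := Fact.mk Nat.prime_two
  have hG : IsPGroup 2 G := IsPGroup.of_card hn
  haveI := hG.isNilpotent
  obtain ⟨r, hr⟩ := hG.index (center G)
  have h2 : 2 ≤ r := by
    by_contra hlt
    refine hna ⟨⟨fun a b => ?_⟩⟩
    haveI : IsCyclic (G ⧸ center G) := by
      rcases (show r = 0 ∨ r = 1 by omega) with rfl | rfl
      · haveI : Subsingleton (G ⧸ center G) :=
          (Nat.card_eq_one_iff_unique.1 (by rw [← index_eq_card, hr, pow_zero])).1
        exact isCyclic_of_subsingleton
      · exact isCyclic_of_prime_card (p := 2) (by rw [← index_eq_card, hr, pow_one])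
    exact commutative_of_cyclic_center_quotient (QuotientGroup.mk' (center G))
      (by rw [QuotientGroup.ker_mk']) a b
  have h := CfsgLib.PGroup.lowerCentralSeries_le_of_index hG h2 hr
  have hb : (⊤ : Subgroup G).lowerCentralSeries (r - 1 + 1) = ⊥ := by
    rw [eq_bot_iff, Subgroup.lowerCentralSeries_succ, commutator_le]
    intro a ha b _
    rw [mem_bot, commutatorElement_eq_one_iff_commute]
    exact (mem_center_iff.1 (h ha) b).symm
  have hle := Subgroup.lowerCentralSeries_eq_bot_iff_nilpotencyClass_le.1 hb
  have h1 := card_mul_index (center G)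
  rw [hr, hn] at h1
  have h3 : Nat.card (center G) * 2 ^ r ≤ 2 * 2 ^ r := by
    rw [h1, ← pow_succ']
    exact Nat.pow_le_pow_right (by norm_num) (by omega)
  exact Nat.le_of_mul_le_mul_right h3 (pow_pos (by norm_num) r)

/-- In a non-cyclic 2-group that is not quaternion there is a four-group; otherwise a cyclic
self-centralizing subgroup of order four. -/
theorem exists_four {G : Type*} [Group G] [Finite G] (hG : IsPGroup 2 G) (hna : ¬ IsMulCommutative G) :
    ∃ A : Subgroup G, Nat.card A = 4 ∧ (¬ IsCyclic A ∨ centralizer (A : Set G) = A) := by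
  classical
  haveI := Fact.mk Nat.prime_two
  by_cases hu : CfsgLib.Coprime.UniqueOrderP 2 G
  · rcases CfsgLib.Coprime.cyclic_or_quaternion_of_unique_two hG hu with hc | ⟨m, ⟨e⟩⟩
    · exact absurd ⟨⟨fun a b => by letI := hc.commGroup; exact mul_comm a b⟩⟩ hna
    haveI : NeZero (2 ^ m) := ⟨pow_ne_zero m two_ne_zero⟩
    refine ⟨zpowers (e.symm (.xa 0)), ?_, Or.inr (le_antisymm (fun g hg => ?_) ?_)⟩
    · rw [Nat.card_zpowers, MulEquiv.orderOf_eq]; exact QuaternionGroup.orderOf_xa 0
    · have hc : e g * .xa 0 = .xa 0 * e g := by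
        have h := congrArg e (mem_centralizer_iff.1 hg _ (mem_zpowers _))
        rw [map_mul, map_mul, e.apply_symm_apply] at h
        exact h.symm
      have hq : ∃ k : ℕ, (QuaternionGroup.xa 0 : QuaternionGroup (2 ^ m)) ^ k = e g := by
        have two : ∀ i : ZMod (2 * 2 ^ m), i + i = 0 → i = 0 ∨ i = ((2 ^ m : ℕ) : ZMod (2 * 2 ^ m)) := by
          intro i hi
          have h := congrArg ZMod.val hi
          rw [ZMod.val_add, ZMod.val_zero] at h
          have hlt := ZMod.val_lt i
          obtain ⟨c, hc⟩ := Nat.dvd_of_mod_eq_zero h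
          have hc2 : i.val = 2 ^ m * c := by rw [mul_assoc] at hc; omega
          have : c < 2 := Nat.lt_of_mul_lt_mul_left (a := 2 ^ m) (by rw [← hc2]; linarith)
          interval_cases c
          · left; exact (ZMod.val_eq_zero i).1 (by simpa using hc2)
          · right; rw [← ZMod.natCast_zmod_val i, hc2, mul_one]
        rcases hx : e g with i | i <;> rw [hx] at hc
        · rw [QuaternionGroup.a_mul_xa, QuaternionGroup.xa_mul_a, QuaternionGroup.xa.injEq, zero_sub,
            zero_add, neg_eq_iff_add_eq_zero] at hc
          rcases two i hc with rfl | rfl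
          · exact ⟨0, by rw [pow_zero, QuaternionGroup.one_def]⟩
          · exact ⟨2, QuaternionGroup.xa_sq 0⟩
        · rw [QuaternionGroup.xa_mul_xa, QuaternionGroup.xa_mul_xa, QuaternionGroup.a.injEq, add_zero,
            sub_zero] at hc
          rcases two i (by linear_combination -hc) with rfl | rfl
          · exact ⟨1, pow_one _⟩
          · refine ⟨3, ?_⟩
            rw [pow_succ, QuaternionGroup.xa_sq, QuaternionGroup.a_mul_xa, zero_sub]
            refine congrArg QuaternionGroup.xa ?_
            rw [neg_eq_iff_add_eq_zero, ← Nat.cast_add, ← two_mul, ZMod.natCast_self]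
      obtain ⟨k, hk⟩ := hq
      have : g = e.symm (.xa 0) ^ k := by rw [← map_pow, hk, e.symm_apply_apply]
      rw [this]
      exact pow_mem (mem_zpowers _) k
    · intro a ha
      exact mem_centralizer_iff.2 fun b hb => setLike_mul_comm hb ha
  · simp only [CfsgLib.Coprime.UniqueOrderP, not_forall] at hu
    obtain ⟨x, y, hx, hy, hx1, hyx⟩ := hu
    -- a central involution and another one
    haveI : Nontrivial G := ⟨x, 1, hx1⟩
    haveI := hG.center_nontrivial
    obtain ⟨c, hc⟩ := exists_prime_orderOf_dvd_card' (G := center G) 2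
      ((hG.to_subgroup _).card_eq_or_dvd.resolve_left (Finite.one_lt_card (α := center G)).ne')
    have hzo : orderOf (c : G) = 2 := by rw [Subgroup.orderOf_coe, hc]
    obtain ⟨t, ht, htc⟩ : ∃ t : G, t ^ 2 = 1 ∧ t ∉ zpowers (c : G) := by
      by_contra hcon
      push Not at hcon
      apply hyx
      have hle : zpowers x ≤ zpowers (c : G) := zpowers_le.2 (hcon x hx)
      rw [eq_of_le_of_card_ge hle (by
        rw [Nat.card_zpowers, Nat.card_zpowers, hzo, orderOf_eq_prime hx hx1])]
      exact hcon y hy
    have ht1 : t ≠ 1 := fun e => htc (e ▸ one_mem _)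
    have hto : orderOf t = 2 := orderOf_eq_prime ht ht1
    have hc1 : (c : G) ≠ 1 := fun e => by rw [e, orderOf_one] at hzo; omega
    have hcc : (c : G) * c = 1 := by rw [← pow_two, ← hzo, pow_orderOf_eq_one]
    have htt : t * t = 1 := by rw [← pow_two, ht]
    have hct : t * c = c * t := mem_center_iff.1 c.2 t
    have hne : (c : G) ≠ t := fun e => htc (e ▸ mem_zpowers _)
    have h3 : (c : G) * t * ((c : G) * t) = 1 := by
      rw [mul_assoc, ← mul_assoc t, hct, mul_assoc (c : G) t t, htt, mul_one, hcc]
    let A : Subgroup G :=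
      { carrier := {g | g = 1 ∨ g = c ∨ g = t ∨ g = c * t}
        one_mem' := Or.inl rfl
        mul_mem' := by
          have e1 : (c : G) * ((c : G) * t) = t := by rw [← mul_assoc, hcc, one_mul]
          have e2 : t * ((c : G) * t) = c := by rw [← mul_assoc, hct, mul_assoc, htt, mul_one]
          have e3 : (c : G) * t * c = t := by rw [mul_assoc, hct, e1]
          have e4 : (c : G) * t * t = c := by rw [mul_assoc, htt, mul_one]
          rintro a b (rfl | rfl | rfl | rfl) (rfl | rfl | rfl | rfl) <;>
            simp [hcc, htt, hct, h3, e1, e2, e3, e4]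
        inv_mem' := by
          rintro a (rfl | rfl | rfl | rfl)
          · exact Or.inl inv_one
          · exact Or.inr (Or.inl (inv_eq_of_mul_eq_one_right hcc))
          · exact Or.inr (Or.inr (Or.inl (inv_eq_of_mul_eq_one_right htt)))
          · exact Or.inr (Or.inr (Or.inr (inv_eq_of_mul_eq_one_right h3))) }
    have hA : Nat.card A = 4 := by
      have hset : (A : Set G) = {1, (c : G), t, (c : G) * t} := rfl
      rw [show Nat.card A = (A : Set G).ncard from Nat.card_coe_set_eq _, hset]
      refine Set.ncard_eq_four.2 ⟨1, c, t, (c : G) * t, Ne.symm hc1, Ne.symm ht1, ?_, hne, ?_, ?_, rfl⟩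
      · intro e
        exact hne ((eq_inv_of_mul_eq_one_left e.symm).trans (inv_eq_of_mul_eq_one_right htt))
      · intro e; exact ht1 (mul_eq_left.1 e.symm)
      · intro e; exact hc1 (mul_eq_right.1 e.symm)
    refine ⟨A, hA, Or.inl fun hcyc => ?_⟩
    obtain ⟨g, hg⟩ := hcyc.exists_generator
    have h4 : orderOf g = 4 := (orderOf_eq_card_of_forall_mem_zpowers hg).trans hA
    have hg2 : (g : G) ^ 2 = 1 := by
      rcases g.2 with e | e | e | e <;> rw [e]
      · simp
      · rw [pow_two, hcc]
      · exact ht
      · rw [pow_two, h3]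
    have := Nat.le_of_dvd (by norm_num) (orderOf_dvd_of_pow_eq_one (Subtype.ext hg2 : g ^ 2 = 1))
    omega

/-- Say that a group has self-centralizing non-cyclic subgroups when every non-cyclic subgroup H satisfies C_G(H) ≤ H. A finite non-abelian 2-group G of order 2^n has self-centralizing non-cyclic subgroups if and only if G has nilpotency class n − 1 (that is, G is dihedral, semidihedral or generalized quaternion). -/
theorem result {G : Type*} [Group G] [Finite G] (hna : ¬ IsMulCommutative G) (n : ℕ) (hG : Nat.card G = 2 ^ n) :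
    (∀ H : Subgroup G, ¬ IsCyclic ↥H → Subgroup.centralizer (H : Set G) ≤ H) ↔ (⊤ : Subgroup G).lowerCentralSeries (n - 2) ≠ ⊥ := by
  classical
  haveI := Fact.mk Nat.prime_two
  have hp : IsPGroup 2 G := IsPGroup.of_card hG
  haveI := hp.isNilpotent
  have hn3 : 3 ≤ n := by
    by_contra hlt
    apply hna
    rcases (show n = 0 ∨ n = 1 ∨ n = 2 by omega) with rfl | rfl | rfl
    · haveI : Subsingleton G := (Nat.card_eq_one_iff_unique.1 (hG.trans (pow_zero 2))).1
      exact ⟨⟨fun a b => Subsingleton.elim _ _⟩⟩
    · haveI : IsCyclic G := isCyclic_of_prime_card (p := 2) (by rw [hG, pow_one])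
      exact ⟨⟨fun a b => IsCyclic.commGroup.mul_comm a b⟩⟩
    · letI := IsPGroup.commGroupOfCardEqPrimeSq (p := 2) hG
      exact ⟨⟨mul_comm⟩⟩
  have hub : Group.nilpotencyClass G ≤ n - 1 := by
    rw [← Subgroup.lowerCentralSeries_eq_bot_iff_nilpotencyClass_le]
    have h := CfsgLib.PGroup.pow_le_index_lowerCentralSeries hp hG (by omega) (n - 1) (by omega)
    rw [min_eq_right (by omega : n ≤ n - 1 + 1), ← hG] at h
    have h1 := card_mul_index ((⊤ : Subgroup G).lowerCentralSeries (n - 1))
    rw [← card_eq_one]
    refine le_antisymm (Nat.le_of_mul_le_mul_right ?_ (Nat.card_pos (α := G))) Nat.card_pos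
    rw [one_mul]
    exact le_trans (Nat.mul_le_mul_left _ h) h1.le
  have hiff : (⊤ : Subgroup G).lowerCentralSeries (n - 2) ≠ ⊥ ↔ Group.nilpotencyClass G = n - 1 := by
    rw [Ne, Subgroup.lowerCentralSeries_eq_bot_iff_nilpotencyClass_le]
    omega
  rw [hiff]
  constructor
  · intro h
    obtain ⟨A, hA, hor⟩ := exists_four hp hna
    refine Cfsg.Agent.S0112.result n hG A (by rw [hA]; norm_num) ?_
    rcases hor with hnc | hC
    · refine le_antisymm (h A hnc) fun a ha => Subgroup.mem_centralizer_iff.2 fun b hb => ?_
      letI := IsPGroup.commGroupOfCardEqPrimeSq (p := 2) (G := A) (by rw [hA]; norm_num)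
      exact congrArg Subtype.val (mul_comm (⟨b, hb⟩ : A) ⟨a, ha⟩)
    · exact hC
  · intro hcl H hH g hg
    obtain ⟨C, hC, hCi⟩ := Cfsg.Agent.S0113.result n hn3 hG hcl
    haveI := hC
    haveI : C.Normal := Subgroup.normal_of_index_eq_two hCi
    obtain ⟨x, hx, hxC⟩ : ∃ x ∈ H, x ∉ C := by
      by_contra hcon
      push Not at hcon
      exact hH (isCyclic_of_le hcon)
    have hsup : C ⊔ Subgroup.zpowers x = ⊤ := by
      have h2 : 2 = (C ⊔ Subgroup.zpowers x).relIndex ⊤ * C.relIndex (C ⊔ Subgroup.zpowers x) := by
        rw [mul_comm, Subgroup.relIndex_mul_relIndex _ _ _ le_sup_left le_top, Subgroup.relIndex_top_right, hCi]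
      rw [Subgroup.relIndex_top_right] at h2
      rcases (Nat.dvd_prime Nat.prime_two).1 (Dvd.intro _ h2.symm) with e | e
      · exact Subgroup.index_eq_one.1 e
      · rw [e] at h2
        have h3 : C.relIndex (C ⊔ Subgroup.zpowers x) = 1 := by omega
        exact absurd (Subgroup.relIndex_eq_one.1 h3 (Subgroup.mem_sup_right (Subgroup.mem_zpowers x))) hxC
    set K := Subgroup.centralizer ({x} : Set G) with hK
    have hKC : K ⊓ C ≤ Subgroup.center G := by
      intro k ⟨hk, hkC⟩
      refine Subgroup.mem_center_iff.2 fun y => ?_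
      have hle : C ⊔ Subgroup.zpowers x ≤ Subgroup.centralizer ({k} : Set G) := by
        refine sup_le (fun c hc => Subgroup.mem_centralizer_singleton_iff.2 (setLike_mul_comm hc hkC)) ?_
        rw [Subgroup.zpowers_le]
        exact Subgroup.mem_centralizer_singleton_iff.2 (Subgroup.mem_centralizer_singleton_iff.1 hk).symm
      rw [hsup] at hle
      exact Subgroup.mem_centralizer_singleton_iff.1 (hle (Subgroup.mem_top y))
    have hZ := card_center_le hna hG hcl
    have hgK : g ∈ K := Subgroup.mem_centralizer_singleton_iff.2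
      (Subgroup.mem_centralizer_iff.1 hg x hx).symm
    -- the central involution lies in `H`
    have hZH : Subgroup.center G ≤ H := by
      have hlt : 2 < Nat.card H := by
        by_contra hle
        apply hH
        have : Nat.card H = 1 ∨ Nat.card H = 2 := by
          have := Nat.card_pos (α := H); omega
        rcases this with e | e
        · haveI : Subsingleton H := (Nat.card_eq_one_iff_unique.1 e).1
          exact isCyclic_of_subsingleton
        · exact isCyclic_of_prime_card (p := 2) e
      have hHC : H ⊓ C ≠ ⊥ := by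
        intro e
        have h1 : C.relIndex H = Nat.card H := by
          rw [Subgroup.relIndex, show C.subgroupOf H = ⊥ from
            Subgroup.subgroupOf_eq_bot.2 (disjoint_iff.2 (by rw [inf_comm]; exact e)), Subgroup.index_bot]
        have h2 := Subgroup.relIndex_dvd_index_of_normal C H
        rw [h1, hCi] at h2
        have := Nat.le_of_dvd (by norm_num) h2
        omega
      obtain ⟨⟨u, hu⟩, hu1⟩ := exists_prime_orderOf_dvd_card' (G := ↥(H ⊓ C)) 2
        ((hp.to_subgroup _).card_eq_or_dvd.resolve_left (fun e => hHC (Subgroup.card_eq_one.1 e)))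
      rw [Subgroup.orderOf_mk] at hu1
      intro z hz
      by_cases hz1 : z = 1
      · rw [hz1]; exact one_mem _
      have hzo : orderOf z = 2 := by
        have h1 : orderOf z ≤ 2 := (Nat.le_of_dvd Nat.card_pos
          (Subgroup.orderOf_mk z hz ▸ orderOf_dvd_natCard (⟨z, hz⟩ : Subgroup.center G))).trans hZ
        have h2 : orderOf z ≠ 1 := fun e => hz1 (orderOf_eq_one_iff.1 e)
        have := orderOf_pos z; omega
      have hzC : z ∈ C := by
        by_contra hzC
        apply hna
        have htop : C ⊔ Subgroup.zpowers z ≤ Subgroup.centralizer (C : Set G) :=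
          sup_le (fun c hc => Subgroup.mem_centralizer_iff.2 fun d hd => setLike_mul_comm hd hc)
            (Subgroup.zpowers_le.2 ((Subgroup.center_le_centralizer _) hz))
        have hidx : (C ⊔ Subgroup.zpowers z).index = 1 := by
          have hd := Subgroup.index_dvd_of_le (le_sup_left : C ≤ C ⊔ Subgroup.zpowers z)
          rw [hCi] at hd
          refine ((Nat.dvd_prime Nat.prime_two).1 hd).resolve_right fun e => hzC ?_
          have := Subgroup.relIndex_mul_index (le_sup_left : C ≤ C ⊔ Subgroup.zpowers z)
          rw [e, hCi] at this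
          have h4 : C.relIndex (C ⊔ Subgroup.zpowers z) = 1 := by omega
          exact Subgroup.relIndex_eq_one.1 h4 (Subgroup.mem_sup_right (Subgroup.mem_zpowers z))
        rw [Subgroup.index_eq_one] at hidx
        rw [hidx] at htop
        refine ⟨⟨fun a b => ?_⟩⟩
        have hCc : C ≤ Subgroup.center G := fun c hc => Subgroup.mem_center_iff.2 fun y =>
          (Subgroup.mem_centralizer_iff.1 (htop (Subgroup.mem_top y)) c hc).symm
        haveI : IsCyclic (G ⧸ C) := isCyclic_of_prime_card (p := 2) (by rw [← Subgroup.index_eq_card, hCi])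
        exact commutative_of_cyclic_center_quotient (QuotientGroup.mk' C)
          (by rw [QuotientGroup.ker_mk']; exact hCc) a b
      haveI := Fintype.ofFinite C
      have h2 := IsCyclic.card_pow_eq_one_le (α := C) (n := 2) (by norm_num)
      have : z = u := by
        by_contra hne
        let S : Finset C := {1, ⟨z, hzC⟩, ⟨u, hu.2⟩}
        have hS : S.card = 3 := Finset.card_eq_three.2 ⟨_, _, _,
          fun e => hz1 (congrArg Subtype.val e).symm,
          fun e => by
            have h1 : (1 : G) = u := congrArg Subtype.val e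
            rw [← h1, orderOf_one] at hu1; omega,
          fun e => hne (congrArg Subtype.val e), rfl⟩
        have hsub : S ⊆ Finset.univ.filter fun a => a ^ 2 = 1 := by
          intro a ha
          simp only [S, Finset.mem_insert, Finset.mem_singleton] at ha
          refine Finset.mem_filter.2 ⟨Finset.mem_univ _, Subtype.ext ?_⟩
          rcases ha with rfl | rfl | rfl
          · simp
          · show z ^ 2 = 1; rw [← hzo, pow_orderOf_eq_one]
          · show u ^ 2 = 1; rw [← hu1, pow_orderOf_eq_one]
        have := (Finset.card_le_card hsub).trans h2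
        omega
      exact this ▸ hu.1
    by_cases hgC : g ∈ C
    · exact hZH (hKC ⟨hgK, hgC⟩)
    · have hxK : x ∈ K := Subgroup.mem_centralizer_singleton_iff.2 rfl
      have hmC : g * x⁻¹ ∈ C :=
        (Subgroup.mul_mem_iff_of_index_two hCi).2
          (iff_of_false hgC (fun h => hxC (by simpa using C.inv_mem h)))
      have := hZH (hKC ⟨K.mul_mem hgK (K.inv_mem hxK), hmC⟩)
      simpa using mul_mem this hx

end Cfsg.Agent.S3919
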