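import Cfsg.Statements.S3921
import Cfsg.Agent.Lib.Perm.SelfCentCyc.Converse
import Cfsg.Agent.S0144
import Cfsg.Agent.S0252
import Cfsg.Agent.S0253
-- import your own Cfsg.Agent.* helpers here

set_option autoImplicit false
open Cfsg

namespace Cfsg.Agent.S3921

/-- Say that a group has self-centralizing non-cyclic subgroups when every non-cyclic subgroup H satisfies C_G(H) ≤ H. A non-abelian finite simple group has self-centralizing non-cyclic subgroups if and only if it is isomorphic to PSL₂(q) with q = 4, q = 9, or q a prime of the form 2^k + 1 or 2^k − 1. -/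
theorem result {G : Type*} [Group G] [Finite G] [IsSimpleGroup G] (hna : ¬ IsMulCommutative G) :
    (∀ H : Subgroup G, ¬ IsCyclic ↥H → Subgroup.centralizer (H : Set G) ≤ H) ↔ ∃ (F : Type) (_ : Field F) (_ : Fintype F),
      (Fintype.card F = 4 ∨ Fintype.card F = 9 ∨ ((Fintype.card F).Prime ∧ ∃ k : ℕ, Fintype.card F = 2 ^ k + 1 ∨ Fintype.card F = 2 ^ k - 1)) ∧
      Nonempty (G ≃* Matrix.ProjectiveSpecialLinearGroup (Fin 2) F) := by
  classical
  constructor
  · intro hsc
    obtain ⟨F, iF, iF', hodd, ⟨e⟩⟩ := CfsgLib.Perm.SelfCentCyc.exists_psl hna hsc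
    exact ⟨F, iF, iF', CfsgLib.Perm.SelfCentCyc.card_cases hna hsc hodd e, ⟨e⟩⟩
  · rintro ⟨F, iF, iF', hF, ⟨e⟩⟩
    have transfer : ∀ {T : Type} [Group T], (G ≃* T) → CfsgLib.Perm.SelfCentCyc.SC T →
        ∀ H : Subgroup G, ¬ IsCyclic ↥H → Subgroup.centralizer (H : Set G) ≤ H := by
      intro T _ f hT H hH c hc
      have h1 : f c ∈ H.map f.toMonoidHom := hT (H.map f.toMonoidHom)
        (fun h => hH (isCyclic_of_surjective (H.equivMapOfInjective f.toMonoidHom f.injective).symm.toMonoidHom
          (H.equivMapOfInjective f.toMonoidHom f.injective).symm.surjective))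
        (Subgroup.mem_centralizer_iff.2 fun y hy => by
          obtain ⟨u, hu, rfl⟩ := hy
          show f u * f c = f c * f u
          rw [← map_mul, ← map_mul, Subgroup.mem_centralizer_iff.1 hc u hu])
      exact (Subgroup.mem_map_iff_mem f.injective).1 h1
    have main : ∀ {K : Type} [Field K] [Fintype K], Fintype.card K % 2 = 1 → 5 ≤ Fintype.card K →
        CfsgLib.Perm.SelfCentCyc.Good (Fintype.card K) →
        (G ≃* Matrix.ProjectiveSpecialLinearGroup (Fin 2) K) →
        ∀ H : Subgroup G, ¬ IsCyclic ↥H → Subgroup.centralizer (H : Set G) ≤ H := by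
      intro K _ _ h2 h5 hg f
      haveI : IsSimpleGroup (Matrix.ProjectiveSpecialLinearGroup (Fin 2) K) := f.symm.isSimpleGroup
      exact transfer f (CfsgLib.Perm.SelfCentCyc.sc_psl h2 h5 hg)
    have hsolv : ∀ a b : ℕ, Nat.card G ≠ 2 ^ a * 3 ^ b := fun a b hc =>
      hna (isMulCommutative_iff.2 (IsSimpleGroup.comm_iff_isSolvable.2
        (Cfsg.Agent.S0144.result 2 3 a b Nat.prime_two Nat.prime_three hc)))
    rcases hF with h4 | h9 | hp
    · haveI : Fact (Nat.Prime 5) := ⟨Nat.prime_five⟩
      exact main (K := ZMod 5) (by rw [ZMod.card]) (by rw [ZMod.card])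
        (by rw [ZMod.card]; exact Or.inr ⟨Nat.prime_five, 2, Or.inl rfl⟩)
        ((e.trans (Cfsg.Agent.S0252.result h4).some).trans
          (Cfsg.Agent.S0253.result (F := ZMod 5) (ZMod.card 5)).some.symm)
    · exact main (by rw [h9]) (by omega) (Or.inl h9) e
    · have hcard := CfsgLib.Classical.card_psl2 (F := F)
      rw [← Nat.card_congr e.toEquiv] at hcard
      obtain ⟨hP, hk⟩ := hp
      have h2 := hP.two_le
      have h2' : Fintype.card F ≠ 2 := fun h => hsolv 1 1 (by simpa [h] using hcard)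
      have h3' : Fintype.card F ≠ 3 := fun h => hsolv 2 1 (by
        rw [h, show Nat.gcd 2 (3 - 1) = 2 from rfl] at hcard; omega)
      have h4' : Fintype.card F ≠ 4 := fun h => absurd (h ▸ hP) (by norm_num)
      have hodd : Fintype.card F % 2 = 1 := Nat.odd_iff.1 (hP.odd_of_ne_two h2')
      exact main hodd (by omega) (Or.inr ⟨hP, hk⟩) e

end Cfsg.Agent.S3921
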