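import Cfsg.Statements.S3927
-- import your own Cfsg.Agent.* helpers here
import Cfsg.Agent.Lib.PGroup.NormalClosureMaximal

set_option autoImplicit false
open Cfsg

namespace Cfsg.Agent.S3927

open CfsgLib.NCMax in
theorem key : ∀ (n : ℕ) (G : Type*) [Group G] [Finite G], Nat.card G = n → ∀ α : MulAut G,
    Subgroup.closure (Set.range (fun c : G => c * (α c)⁻¹)) = ⊤ → ∀ k : ℕ,
    Subgroup.closure (Set.range ((fun c : G => c * (α c)⁻¹)^[k])) = ⊤ := by
  intro n
  induction n using Nat.strongRecOn with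
  | ind n ih =>
    intro G _ _ hn α hG k
    subst hn
    set cm : G → G := fun c => c * (α c)⁻¹ with hcm
    by_contra hne
    set H := Subgroup.closure (Set.range cm^[k]) with hH
    have hcomm : Function.Semiconj (α : G → G) cm cm := fun a => by simp [hcm]
    have hHα : ∀ h ∈ H, α h ∈ H := by
      intro h hh
      have : H ≤ H.comap (α : G →* G) := by
        refine (Subgroup.closure_le _).2 ?_
        rintro _ ⟨a, rfl⟩
        exact Subgroup.subset_closure ⟨α a, ((hcomm.iterate_right k) a).symm⟩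
      exact this hh
    let φ : ↥(Subgroup.zpowers α) →* MulAut G := (Subgroup.zpowers α).subtype
    haveI : Finite (SemidirectProduct G ↥(Subgroup.zpowers α) φ) :=
      Finite.of_equiv _ SemidirectProduct.equivProd.symm
    let α₀ : ↥(Subgroup.zpowers α) := ⟨α, Subgroup.mem_zpowers α⟩
    let x : SemidirectProduct G ↥(Subgroup.zpowers α) φ := SemidirectProduct.inr α₀
    let il : G →* SemidirectProduct G ↥(Subgroup.zpowers α) φ := SemidirectProduct.inl
    have hxg : ∀ g : G, x * il g * x⁻¹ = il (α g) := fun g =>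
      (((SemidirectProduct.inl_aut (φ := φ) α₀ g).trans (by rw [map_inv])).symm)
    have hgx : ∀ g : G, il g * x * (il g)⁻¹ = il (cm g) * x := fun g => by
      simp only [hcm, map_mul, map_inv]
      rw [← hxg g]; group
    -- subgroups given by their first component
    have hpow : ∀ (P : Subgroup G), (∀ h ∈ P, α h ∈ P) → ∀ t : ↥(Subgroup.zpowers α),
        ∀ h ∈ P, φ t h ∈ P := by
      intro P hP t
      obtain ⟨j, hj⟩ := (isOfFinOrder_of_finite α).mem_powers_iff_mem_zpowers.2 t.2
      suffices ∀ h ∈ P, (α ^ j) h ∈ P by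
        intro h hh
        show (t : MulAut G) h ∈ P
        rw [← hj]; exact this h hh
      clear hj
      induction j with
      | zero => simp
      | succ j hj => intro h hh; rw [pow_succ', MulAut.mul_apply]; exact hP _ (hj h hh)
    let LS : ∀ (P : Subgroup G), (∀ h ∈ P, α h ∈ P) →
        Subgroup (SemidirectProduct G ↥(Subgroup.zpowers α) φ) := fun P hP =>
      { carrier := {z | z.left ∈ P}
        one_mem' := P.one_mem
        mul_mem' := fun {a b} ha hb => P.mul_mem ha (hpow P hP a.right _ hb)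
        inv_mem' := fun {a} ha => hpow P hP a.right⁻¹ _ (P.inv_mem ha) }
    have hLSmem : ∀ (P : Subgroup G) (hP : ∀ h ∈ P, α h ∈ P)
        (z : SemidirectProduct G ↥(Subgroup.zpowers α) φ), z ∈ LS P hP ↔ z.left ∈ P :=
      fun _ _ _ => Iff.rfl
    set A := Subgroup.zpowers x with hA
    have hdec : ∀ z : SemidirectProduct G ↥(Subgroup.zpowers α) φ,
        ∃ j : ℤ, z = il z.left * x ^ j := by
      intro z
      obtain ⟨j, hj⟩ := Subgroup.mem_zpowers_iff.1 z.right.2
      refine ⟨j, ?_⟩
      have : z.right = α₀ ^ j := Subtype.ext hj.symm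
      conv_lhs => rw [← SemidirectProduct.inl_left_mul_inr_right z, this, map_zpow]
    have hAL : ∀ (P : Subgroup G) (hP : ∀ h ∈ P, α h ∈ P), A ≤ LS P hP := fun P hP =>
      Subgroup.zpowers_le.2 ((hLSmem P hP x).2 P.one_mem)
    have hnc : Subgroup.normalClosure (A : Set (SemidirectProduct G ↥(Subgroup.zpowers α) φ)) = ⊤ := by
      set N := Subgroup.normalClosure (A : Set (SemidirectProduct G ↥(Subgroup.zpowers α) φ))
      have hxN : x ∈ N := Subgroup.subset_normalClosure (Subgroup.mem_zpowers x)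
      have hcN : (⊤ : Subgroup G) ≤ N.comap il := hG.ge.trans ((Subgroup.closure_le _).2 (by
        rintro _ ⟨g, rfl⟩
        have h1 := N.mul_mem (Subgroup.normalClosure_normal.conj_mem x hxN (il g)) (N.inv_mem hxN)
        rwa [hgx g, mul_inv_cancel_right] at h1))
      refine eq_top_iff.2 fun z _ => ?_
      obtain ⟨j, hj⟩ := hdec z
      rw [hj]
      exact N.mul_mem (hcN (Subgroup.mem_top z.left)) (N.zpow_mem hxN j)
    have htop : ∀ P : Subgroup (SemidirectProduct G ↥(Subgroup.zpowers α) φ), x ∈ P →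
        (∀ g : G, il g ∈ P) → P = ⊤ := fun P hxP hP => eq_top_iff.2 fun z _ => by
      obtain ⟨j, hj⟩ := hdec z
      rw [hj]; exact P.mul_mem (hP _) (P.zpow_mem hxP j)
    set L := LS H hHα with hL
    have hLne : L ≠ ⊤ := fun e => hne (eq_top_iff.2 fun g _ =>
      ((hLSmem H hHα (il g)).1 (show il g ∈ L by rw [e]; exact Subgroup.mem_top _) : g ∈ H))
    have hYL : genJoin A ≤ L := by
      refine sSup_le ?_
      rintro K ⟨hAK, hKne, hgen⟩
      have hxK : x ∈ K := hAK (Subgroup.mem_zpowers x)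
      set K₀ := K.comap il with hK₀
      have hK₀α : ∀ a ∈ K₀, α a ∈ K₀ := fun a ha => by
        show il (α a) ∈ K
        rw [← hxg a]; exact K.mul_mem (K.mul_mem hxK ha) (K.inv_mem hxK)
      set K₁ := Subgroup.closure (cm '' (K₀ : Set G)) with hK₁
      have hK₁₀ : K₁ ≤ K₀ := (Subgroup.closure_le _).2 (by
        rintro _ ⟨a, ha, rfl⟩
        show il (cm a) ∈ K
        have h1 := K.mul_mem (K.mul_mem (K.mul_mem ha hxK) (K.inv_mem ha)) (K.inv_mem hxK)
        rwa [hgx a, mul_inv_cancel_right] at h1)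
      have hK₁α : ∀ a ∈ K₁, α a ∈ K₁ := fun a ha => by
        have : K₁ ≤ K₁.comap (α : G →* G) := (Subgroup.closure_le _).2 (by
          rintro _ ⟨b, hb, rfl⟩
          exact Subgroup.subset_closure ⟨α b, hK₀α b hb, (hcomm b).symm⟩)
        exact this ha
      set K' := K₁.map il ⊔ A with hK'
      have hK'K : K' ≤ K := sup_le (Subgroup.map_le_iff_le_comap.2 hK₁₀) hAK
      have hK'L : K' ≤ LS K₁ hK₁α := sup_le (Subgroup.map_le_iff_le_comap.2 fun a ha => ha) (hAL K₁ hK₁α)
      have hgenN : ∀ y : SemidirectProduct G ↥(Subgroup.zpowers α) φ,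
          (∀ b ∈ K₁, y * il b * y⁻¹ ∈ K') → y * x * y⁻¹ ∈ K' →
          y ∈ Subgroup.normalizer (K' : Set (SemidirectProduct G ↥(Subgroup.zpowers α) φ)) := by
        intro y h1 h2
        refine CfsgLib.Coprime.conjBy_eq_self_iff.1 (Subgroup.eq_of_le_of_card_ge ?_
          (by rw [CfsgLib.Coprime.card_conjBy]))
        refine Subgroup.map_le_iff_le_comap.2 (sup_le ?_ (Subgroup.zpowers_le.2 h2))
        exact Subgroup.map_le_iff_le_comap.2 fun b hb => h1 b hb
      have hxK' : x ∈ K' := Subgroup.mem_sup_right (Subgroup.mem_zpowers x)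
      have hxN' : x ∈ Subgroup.normalizer (K' : Set (SemidirectProduct G ↥(Subgroup.zpowers α) φ)) :=
        Subgroup.le_normalizer hxK'
      have haN : ∀ a ∈ K₀, il a ∈
          Subgroup.normalizer (K' : Set (SemidirectProduct G ↥(Subgroup.zpowers α) φ)) := by
        intro a ha
        have hca : cm a ∈ K₁ := Subgroup.subset_closure ⟨a, ha, rfl⟩
        refine hgenN _ (fun b hb => ?_) ?_
        · have hconj : K₁ ≤ K₁.comap (MulAut.conj a).toMonoidHom := (Subgroup.closure_le _).2 (by
            rintro _ ⟨e, he, rfl⟩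
            show a * cm e * a⁻¹ ∈ K₁
            have hae : cm (a * e) * (cm a)⁻¹ = a * cm e * a⁻¹ := by
              simp only [hcm, map_mul]; group
            rw [← hae]
            exact K₁.mul_mem (Subgroup.subset_closure ⟨a * e, K₀.mul_mem ha he, rfl⟩) (K₁.inv_mem hca))
          refine Subgroup.mem_sup_left ⟨a * b * a⁻¹, hconj hb, ?_⟩
          simp
        · rw [hgx a]
          exact K'.mul_mem (Subgroup.mem_sup_left ⟨_, hca, rfl⟩) hxK'
      have hKN : K ≤ Subgroup.normalizer (K' : Set (SemidirectProduct G ↥(Subgroup.zpowers α) φ)) := by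
        intro z hz
        obtain ⟨j, hj⟩ := hdec z
        have hl : z.left ∈ K₀ := by
          show il z.left ∈ K
          have h1 := K.mul_mem hz (K.zpow_mem hxK (-j))
          rwa [hj, mul_assoc, ← zpow_add, add_neg_cancel, zpow_zero, mul_one] at h1
        rw [hj]
        exact mul_mem (haN _ hl) (Subgroup.zpow_mem _ hxN' j)
      haveI : (K'.subgroupOf K).Normal := (Subgroup.normal_subgroupOf_iff_le_normalizer hK'K).2 hKN
      have hKK' : K ≤ K' := fun z hz => Subgroup.mem_subgroupOf.1 ((hgen.ge.trans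
        (Subgroup.normalClosure_le_normal (N := K'.subgroupOf K)
        (fun w hw => (le_sup_right : A ≤ K') hw))) (Subgroup.mem_top (⟨z, hz⟩ : K)))
      have hK01 : K₀ ≤ K₁ := fun a ha => (hLSmem K₁ hK₁α (il a)).1 (hK'L (hKK' ha))
      have hK₀ne : K₀ ≠ ⊤ := fun e => hKne (htop K hxK fun g => (e ▸ Subgroup.mem_top g : g ∈ K₀))
      have hlt : Nat.card ↥K₀ < Nat.card G := by
        have := CfsgLib.Coprime.card_lt_of_lt (lt_top_iff_ne_top.2 hK₀ne)
        rwa [Subgroup.card_top] at this
      let f : ↥K₀ →* ↥K₀ := MonoidHom.codRestrict ((α : G →* G).comp K₀.subtype) K₀ fun a => hK₀α _ a.2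
      have hf : Function.Bijective f := Finite.injective_iff_bijective.1 fun a b h =>
        Subtype.ext (α.injective (congrArg Subtype.val h))
      let β : MulAut ↥K₀ := MulEquiv.ofBijective f hf
      have hsemi : Function.Semiconj (Subtype.val : ↥K₀ → G) (fun c : ↥K₀ => c * (β c)⁻¹) cm :=
        fun a => rfl
      have hβ : Subgroup.closure (Set.range (fun c : ↥K₀ => c * (β c)⁻¹)) = ⊤ := by
        apply Subgroup.map_injective K₀.subtype_injective
        rw [MonoidHom.map_closure, ← MonoidHom.range_eq_map, Subgroup.range_subtype]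
        refine le_antisymm ((Subgroup.closure_le _).2 ?_) (hK01.trans ((Subgroup.closure_le _).2 ?_))
        · rintro _ ⟨_, ⟨a, rfl⟩, rfl⟩
          exact (a * (β a)⁻¹).2
        · rintro _ ⟨a, ha, rfl⟩
          exact Subgroup.subset_closure ⟨_, ⟨⟨a, ha⟩, rfl⟩, rfl⟩
      have hrec := ih _ hlt ↥K₀ rfl β hβ k
      have hK₀H : K₀ ≤ H := by
        rw [← K₀.range_subtype, MonoidHom.range_eq_map, ← hrec, MonoidHom.map_closure]
        refine (Subgroup.closure_le _).2 ?_
        rintro _ ⟨_, ⟨a, rfl⟩, rfl⟩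
        exact Subgroup.subset_closure ⟨(a : G), ((hsemi.iterate_right k) a).symm⟩
      refine fun z hz => (hLSmem H hHα z).2 (hK₀H ?_)
      exact hK01.antisymm hK₁₀ ▸ (hLSmem K₁ hK₁α z).1 (hK'L (hKK' hz))
    have hY : genJoin A ≠ ⊤ := fun e => hLne (top_le_iff.1 (e ▸ hYL))
    have hAne : A ≠ ⊤ := fun e => hLne (top_le_iff.1 (e ▸ hAL H hHα))
    obtain ⟨M, hM, hLM⟩ := exists_coatom L hLne
    have hAM : A ≤ M := (hAL H hHα).trans hLM
    have hxM : x ∈ M := hAM (Subgroup.mem_zpowers x)
    have hstep : ∀ g : G, il (cm g) ∈ M → il g ∈ M := by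
      intro g hg
      rw [← normalizer_coatom_of_nc hnc hM hAM]
      have hm : il g * x * (il g)⁻¹ ∈ M := hgx g ▸ M.mul_mem hg hxM
      have hM' : IsCoatom (CfsgLib.Coprime.conjBy (il g)⁻¹ M) :=
        (OrderIso.isCoatom_iff (MulEquiv.mapSubgroup (MulAut.conj (il g)⁻¹)) M).2 hM
      have hAM' : A ≤ CfsgLib.Coprime.conjBy (il g)⁻¹ M := Subgroup.zpowers_le.2
        (CfsgLib.Coprime.mem_conjBy.2 (by rwa [inv_inv]))
      exact inv_mem_iff.1 (CfsgLib.Coprime.conjBy_eq_self_iff.1
        (eq_of_coatoms A hnc hY _ M hM' hM hAM' hAM))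
    have hiter : ∀ j : ℕ, ∀ g : G, il (cm^[j] g) ∈ M → il g ∈ M := by
      intro j
      induction j with
      | zero => simp
      | succ j hj => intro g hg; exact hstep g (hj (cm g) hg)
    refine hM.1 (htop M hxM fun g => hiter k g (hLM ((hLSmem H hHα _).2 ?_)))
    exact Subgroup.subset_closure ⟨g, rfl⟩


/-- Let G be a finite group and α an automorphism of G with [G, α] = G, that is, the elements g·α(g)⁻¹ generate G. Then for every k ≥ 1 the iterated commutators [g, α, …, α] with k entries α — the values of the k-th iterate of the map c ↦ c·α(c)⁻¹ — also generate G. -/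
theorem result {G : Type*} [Group G] [Finite G] (α : MulAut G) (hG : Subgroup.closure (Set.range (fun c : G => c * (α c)⁻¹)) = ⊤) (k : ℕ) (hk : 1 ≤ k) :
    Subgroup.closure (Set.range ((fun c : G => c * (α c)⁻¹)^[k])) = ⊤ := by
  exact key _ G rfl α hG k


end Cfsg.Agent.S3927
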