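import Cfsg.Statements.S3933
import Cfsg.Agent.Lib.PGroup.SylowNumber
import Cfsg.Agent.Lib.Char.Burnside

set_option autoImplicit false
open Cfsg

namespace Cfsg.Agent.S3933

universe u

variable {G : Type u} [Group G] [Finite G]

/-- Two subgroups of coprime index factorise the group. -/
theorem exists_mul_of_coprime_index (A B : Subgroup G) (h : Nat.Coprime A.index B.index) (g : G) :
    ∃ a ∈ A, a⁻¹ * g ∈ B := by
  let f : A ⧸ B.subgroupOf A → G ⧸ B :=
    Quotient.map' (fun a : A => (a : G)) fun x y hxy => by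
      rw [QuotientGroup.leftRel_apply] at hxy ⊢
      simpa [Subgroup.mem_subgroupOf] using hxy
  have hinj : Function.Injective f := by
    intro x y
    induction x using QuotientGroup.induction_on with | _ x =>
    induction y using QuotientGroup.induction_on with | _ y =>
    intro hxy
    have hxy' : ((x : G) : G ⧸ B) = ((y : G) : G ⧸ B) := hxy
    rw [QuotientGroup.eq] at hxy' ⊢
    simpa [Subgroup.mem_subgroupOf] using hxy'
  have hdvd : B.index ∣ B.relIndex A := by
    have h1 : B.index ∣ (B ⊓ A).index := Subgroup.index_dvd_of_le inf_le_left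
    rw [← Subgroup.relIndex_mul_index (inf_le_right : B ⊓ A ≤ A), Subgroup.inf_relIndex_right] at h1
    exact h.symm.dvd_of_dvd_mul_right h1
  have hle : Nat.card (G ⧸ B) ≤ Nat.card (A ⧸ B.subgroupOf A) := by
    refine Nat.le_of_dvd Nat.card_pos ?_
    rw [← Subgroup.index_eq_card, ← Subgroup.index_eq_card]
    exact hdvd
  obtain ⟨x, hx⟩ := (hinj.bijective_of_nat_card_le hle).2 (g : G ⧸ B)
  induction x using QuotientGroup.induction_on with | _ x =>
  exact ⟨x, x.2, QuotientGroup.eq.1 hx⟩

open Subgroup in
/-- If the Sylow numbers for `p` and `r` are powers of distinct primes `q` and `s` and `p ≠ s`,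
then a simple group is impossible. -/
theorem no_factor [IsSimpleGroup G] {p r q s i j : ℕ} [Fact p.Prime] [Fact r.Prime]
    (hq : q.Prime) (hs : s.Prime) (hp : Nat.card (Sylow p G) = q ^ i)
    (hr : Nat.card (Sylow r G) = s ^ j) (hqs : q ≠ s) (hps : p ≠ s) (hpG : p ∣ Nat.card G)
    (hr1 : Nat.card (Sylow r G) ≠ 1) : False := by
  obtain ⟨R⟩ : Nonempty (Sylow r G) := inferInstance
  set B := normalizer (R : Set G) with hB
  have hBi : B.index = s ^ j := by rw [hB, ← R.card_eq_index_normalizer, hr]
  obtain ⟨P₀⟩ : Nonempty (Sylow p ↥B) := inferInstance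
  obtain ⟨P, hP⟩ := (IsPGroup.map P₀.isPGroup' B.subtype).exists_le_sylow
  have hPB : (P : Subgroup G) ≤ B := by
    have heq : ((P₀ : Subgroup B).map B.subtype) = (P : Subgroup G) := by
      refine Subgroup.eq_of_le_of_card_ge hP ?_
      rw [Subgroup.card_subtype, P.card_eq_multiplicity, P₀.card_eq_multiplicity, ← B.card_mul_index,
        Nat.factorization_mul Nat.card_pos.ne' (by rw [hBi]; exact pow_ne_zero _ hs.ne_zero)]
      have : (B.index).factorization p = 0 := by
        rw [hBi, hs.factorization_pow, Finsupp.single_eq_of_ne hps]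
      simp [this]
    rw [← heq]
    exact map_subtype_le _
  set A := normalizer (P : Set G) with hA
  have hco : Nat.Coprime A.index B.index := by
    rw [hBi, hA, ← P.card_eq_index_normalizer, hp]
    exact Nat.Coprime.pow _ _ ((Nat.coprime_primes hq hs).2 hqs)
  have hncl : normalClosure ((P : Subgroup G) : Set G) ≤ B := by
    rw [normalClosure, closure_le]
    intro x hx
    obtain ⟨y, hy, hxy⟩ := Group.mem_conjugatesOfSet_iff.1 hx
    obtain ⟨c, rfl⟩ := isConj_iff.1 hxy
    obtain ⟨a, ha, hab⟩ := exists_mul_of_coprime_index A B hco c⁻¹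
    have hy' : a⁻¹ * y * a ∈ B := by
      refine hPB ?_
      have := (mem_normalizer_iff.1 (inv_mem ha) y).1 hy
      simpa using this
    have := B.mul_mem (B.mul_mem (B.inv_mem hab) hy') hab
    simpa [mul_assoc] using this
  rcases (inferInstance : (normalClosure ((P : Subgroup G) : Set G)).Normal).eq_bot_or_eq_top with h | h
  · have hbot : (P : Subgroup G) = ⊥ := le_bot_iff.1 (h ▸ le_normalClosure)
    exact P.ne_bot_of_dvd_card hpG hbot
  · refine hr1 ?_
    have hBt : B = ⊤ := top_le_iff.1 (h ▸ hncl)
    rw [R.card_eq_index_normalizer, ← hB, hBt, index_top]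

open Subgroup in
theorem isSolvable_aux : ∀ (n : ℕ) (G : Type u) [Group G] [Finite G], Nat.card G = n →
    (∀ (r : ℕ) [Fact r.Prime], Nat.card (Sylow r G) = 1 ∨ IsPrimePow (Nat.card (Sylow r G))) →
      Group.IsSolvable G := by
  classical
  intro n
  induction n using Nat.strong_induction_on with
  | _ n ih =>
  intro G _ _ hn h
  have hdiv : ∀ {m c : ℕ}, m ∣ c → (c = 1 ∨ IsPrimePow c) → (m = 1 ∨ IsPrimePow m) := by
    rintro m c hmc (rfl | hc)
    · exact Or.inl (Nat.dvd_one.1 hmc)
    · by_cases h1 : m = 1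
      · exact Or.inl h1
      · exact Or.inr (hc.dvd hmc h1)
  by_cases hN : ∃ N : Subgroup G, N.Normal ∧ N ≠ ⊥ ∧ N ≠ ⊤
  · obtain ⟨N, hNn, hNb, hNt⟩ := hN
    have hlt : Nat.card N < n := hn ▸
      (N.card_le_card_group).lt_of_ne fun e => hNt (N.eq_top_of_card_eq e)
    have hlt' : Nat.card (G ⧸ N) < n := by
      rw [← index_eq_card, ← hn, ← N.card_mul_index]
      exact lt_mul_of_one_lt_left (Nat.pos_of_ne_zero FiniteIndex.index_ne_zero)
        ((one_lt_card_iff_ne_bot N).2 hNb)
    haveI hsN : Group.IsSolvable N := by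
      refine ih _ hlt N rfl fun r _ => hdiv ?_ (h r)
      obtain ⟨Q⟩ : Nonempty (Sylow r N) := inferInstance
      obtain ⟨P, hP⟩ := (IsPGroup.map Q.isPGroup' N.subtype).exists_le_sylow
      set NQ := normalizer (((Q : Subgroup N).map N.subtype : Subgroup G) : Set G) with hNQ
      have hfr : NQ ⊔ N = ⊤ := Sylow.normalizer_sup_eq_top Q
      have h1 : Nat.card (Sylow r N) = NQ.index := by
        rw [Q.card_eq_index_normalizer]
        have : normalizer (Q : Set N) = NQ.subgroupOf N := by
          show normalizer ((Q : Subgroup N) : Set N) = NQ.subgroupOf N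
          ext x
          simp only [mem_subgroupOf, hNQ, mem_normalizer_iff, SetLike.mem_coe]
          constructor
          · intro hx y
            constructor
            · rintro ⟨z, hz, rfl⟩
              exact ⟨x * z * x⁻¹, (hx z).1 hz, by simp⟩
            · rintro ⟨z, hz, hzy⟩
              refine ⟨x⁻¹ * z * x, ?_, ?_⟩
              · exact (hx _).2 (by simp only [mul_assoc, mul_inv_cancel_left, mul_inv_cancel, mul_one, inv_inv, inv_mul_cancel_left, inv_mul_cancel]; exact hz)
              · have hzy' : (z : G) = x * y * (x : G)⁻¹ := hzy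
                simp [hzy', mul_assoc]
          · intro hx z
            have hz := hx (z : G)
            have e1 : ∀ w : N, (w : G) ∈ (Q : Subgroup N).map N.subtype ↔ w ∈ (Q : Subgroup N) :=
              fun w => mem_map_iff_mem N.subtype_injective
            exact ((e1 z).symm.trans hz).trans (e1 (x * z * x⁻¹))
        rw [this]
        change NQ.relIndex N = _
        rw [← CfsgLib.PGroup.SylowNum.relIndex_sup_normal NQ N, hfr, relIndex_top_right]
      rw [h1, P.card_eq_index_normalizer]
      refine index_dvd_of_le ?_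
      have heq : (Q : Subgroup N).map N.subtype = (P : Subgroup G) ⊓ N := by
        refine le_antisymm (le_inf hP (map_subtype_le _)) ?_
        intro x hx
        have hle : (Q : Subgroup N) ≤ (P : Subgroup G).subgroupOf N := fun y hy =>
          hP (mem_map_of_mem _ hy)
        have := Q.is_maximal' (P.isPGroup'.comap_subtype) hle
        exact ⟨⟨x, hx.2⟩, this ▸ (mem_subgroupOf.2 hx.1 : (⟨x, hx.2⟩ : N) ∈ _), rfl⟩
      rw [hNQ, heq]
      intro g hg
      replace hg : g ∈ normalizer ((P : Subgroup G) : Set G) := hg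
      rw [mem_normalizer_iff] at hg ⊢
      intro y
      simp only [SetLike.mem_coe, mem_inf, ← hg y]
      exact and_congr_right' ⟨fun hy => hNn.conj_mem y hy g, fun hy => by
        simpa [mul_assoc] using hNn.conj_mem _ hy g⁻¹⟩
    haveI hsQ : Group.IsSolvable (G ⧸ N) := by
      refine ih _ hlt' _ rfl fun r _ => hdiv ?_ (h r)
      obtain ⟨P⟩ : Nonempty (Sylow r G) := inferInstance
      exact ⟨_, CfsgLib.PGroup.SylowNum.card_sylow_quotient_mul P N⟩
    exact solvable_of_ker_le_range N.subtype (QuotientGroup.mk' N) (by simp)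
  by_contra hns
  push Not at hN
  haveI : Nontrivial G := by
    by_contra hnt
    rw [not_nontrivial_iff_subsingleton] at hnt
    exact hns inferInstance
  haveI : IsSimpleGroup G := ⟨fun N hN' => or_iff_not_imp_left.2 (hN N hN')⟩
  set S := (Nat.card G).primeFactors with hS
  have hex : ∀ p ∈ S, ∃ q i : ℕ, q.Prime ∧ q ≠ p ∧ q ∈ S ∧ 0 < i ∧ Nat.card (Sylow p G) = q ^ i := by
    intro p hp
    have hpp := Nat.prime_of_mem_primeFactors hp
    haveI : Fact p.Prime := ⟨hpp⟩
    obtain ⟨P⟩ : Nonempty (Sylow p G) := inferInstance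
    rcases h p with h1 | h1
    · exfalso
      rw [P.card_eq_index_normalizer, index_eq_one] at h1
      replace h1 : normalizer ((P : Subgroup G) : Set G) = ⊤ := h1
      rw [normalizer_eq_top_iff] at h1
      rcases h1.eq_bot_or_eq_top with h2 | h2
      · exact P.ne_bot_of_dvd_card (Nat.dvd_of_mem_primeFactors hp) h2
      · obtain ⟨k, hk⟩ := P.isPGroup'.exists_card_eq
        rw [h2, card_top] at hk
        exact hns (CfsgLib.Char.isSolvable_of_card_two_primes hpp hpp G k 0 (by simpa using hk))
    · obtain ⟨q, i, hq, hi, hqi⟩ := (isPrimePow_nat_iff _).1 h1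
      refine ⟨q, i, hq, ?_, Nat.mem_primeFactors.2 ⟨hq, ?_, Nat.card_pos.ne'⟩, hi, hqi.symm⟩
      · rintro rfl
        exact not_dvd_card_sylow q G (hqi ▸ dvd_pow_self q hi.ne')
      · refine (dvd_pow_self q hi.ne').trans (hqi ▸ ?_)
        rw [P.card_eq_index_normalizer]
        exact index_dvd_card _
  choose f i hfp hfne hfS hi hf using hex
  have key : ∀ p (hp : p ∈ S) r (hr : r ∈ S), f p hp ≠ f r hr → p = f r hr := by
    intro p hp r hr hne
    by_contra hps
    haveI : Fact p.Prime := ⟨Nat.prime_of_mem_primeFactors hp⟩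
    haveI : Fact r.Prime := ⟨Nat.prime_of_mem_primeFactors hr⟩
    refine no_factor (hfp p hp) (hfp r hr) (hf p hp) (hf r hr) hne hps
      (Nat.dvd_of_mem_primeFactors hp) ?_
    rw [hf r hr]
    exact (Nat.one_lt_pow (hi r hr).ne' (hfp r hr).one_lt).ne'
  obtain ⟨p, hp⟩ : S.Nonempty := Nat.nonempty_primeFactors.2 Finite.one_lt_card
  obtain ⟨r, hr, hrp, hrq⟩ : ∃ r ∈ S, r ≠ p ∧ r ≠ f p hp := by
    by_contra hc
    push Not at hc
    have hsub : S ⊆ {p, f p hp} := fun r hr => by
      by_cases he : r = p
      · simp [he]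
      · simp [hc r hr he]
    have hprod := Nat.prod_factorization_pow_eq_self (n := Nat.card G) Nat.card_pos.ne'
    refine hns (CfsgLib.Char.isSolvable_of_card_two_primes (Nat.prime_of_mem_primeFactors hp)
      (hfp p hp) G ((Nat.card G).factorization p) ((Nat.card G).factorization (f p hp)) ?_)
    rw [Finsupp.prod, Nat.support_factorization, ← hS] at hprod
    rw [Finset.prod_subset hsub (fun x _ hx => by
      rw [Finsupp.notMem_support_iff.1 (by rwa [Nat.support_factorization]), pow_zero]),
      Finset.prod_pair (hfne p hp).symm] at hprod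
    exact hprod.symm
  by_cases he : f r hr = f p hp
  · have h1 : f p hp ≠ f (f p hp) (hfS p hp) := fun e => hfne _ (hfS p hp) e.symm
    have h2 : f r hr ≠ f (f p hp) (hfS p hp) := he.trans_ne h1
    exact hrp ((key r hr _ _ h2).trans (key p hp _ _ h1).symm)
  · exact hrq (key r hr p hp he)

/-- If for every prime r the number of Sylow r-subgroups of the finite group G is a prime power or 1, then G is solvable. -/
theorem result {G : Type*} [Group G] [Finite G] (h : ∀ (r : ℕ) [Fact r.Prime], Nat.card (Sylow r G) = 1 ∨ IsPrimePow (Nat.card (Sylow r G))) :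
    Group.IsSolvable G := by
  exact isSolvable_aux _ G rfl h

end Cfsg.Agent.S3933
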