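import Cfsg.Statements.S3937
import Cfsg.Agent.Lib.Coprime.Subnormal
import Cfsg.Agent.Lib.Coprime.Fitting
import Cfsg.Agent.Lib.PGroup.Basic
-- import your own Cfsg.Agent.* helpers here

set_option autoImplicit false
open Cfsg

namespace Cfsg.Agent.S3937

open Subgroup
open scoped commutatorElement

universe u

private def brk {G : Type u} [Group G] (g x : G) : G := x * g * x⁻¹ * g⁻¹

private theorem foldl_eq {G : Type u} [Group G] (g : G) : ∀ (n : ℕ) (x : G),
    (List.replicate n g).foldl (fun a b => a * b * a⁻¹ * b⁻¹) x = (brk g)^[n] x := by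
  intro n
  induction n with
  | zero => intro x; rfl
  | succ n ih => intro x; rw [List.replicate_succ, List.foldl_cons, ih, Function.iterate_succ_apply]; rfl

private theorem mem_fitting_of_engel : ∀ (G : Type u) [Group G] [Finite G] (g : G),
    (∀ x, ∃ n, (brk g)^[n] x = 1) → g ∈ Cfsg.fittingSubgroup G := by
  intro G _ _
  induction hc : Nat.card G using Nat.strong_induction_on generalizing G with
  | _ c ih =>
    subst hc
    intro g hg
    have hcyc : Group.IsNilpotent (zpowers g) := by
      refine ⟨1, ?_⟩
      rw [Subgroup.upperCentralSeries_one, eq_top_iff]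
      rintro ⟨a, i, rfl⟩ -
      rw [mem_center_iff]
      rintro ⟨b, j, rfl⟩
      exact Subtype.ext ((Commute.refl g).zpow_zpow j i).eq
    have hrestr : ∀ M : Subgroup G, ∀ hgM : g ∈ M, M ≠ ⊤ →
        (⟨g, hgM⟩ : M) ∈ Cfsg.fittingSubgroup M := by
      intro M hgM hM
      refine ih _ (lt_of_le_of_ne M.card_le_card_group fun h => hM (eq_top_of_card_eq M h)) M rfl _
        fun x => ?_
      obtain ⟨n, hn⟩ := hg x
      refine ⟨n, Subtype.ext ?_⟩
      rw [coe_one, ← hn]
      have : ∀ k : ℕ, (((brk (⟨g, hgM⟩ : M))^[k] x : M) : G) = (brk g)^[k] (x : G) := by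
        intro k
        induction k with
        | zero => rfl
        | succ k ihk => rw [Function.iterate_succ_apply', Function.iterate_succ_apply', ← ihk]; rfl
      exact this n
    by_cases hsub : (zpowers g).IsSubnormal
    · exact CfsgLib.Coprime.le_fitting_of_isSubnormal hsub hcyc (mem_zpowers g)
    obtain ⟨M, hM, hgM, huniq⟩ := CfsgLib.Coprime.zipper hsub fun X hgX hX => by
      have hmem := hrestr X (hgX (mem_zpowers g)) hX
      have hle : (zpowers g).subgroupOf X ≤ Cfsg.fittingSubgroup X := by
        intro y hy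
        obtain ⟨k, hk⟩ := hy
        have : y = (⟨g, hgX (mem_zpowers g)⟩ : X) ^ k := Subtype.ext (by rw [coe_zpow]; exact hk.symm)
        rw [this]; exact zpow_mem hmem k
      haveI := CfsgLib.Coprime.fitting_isNilpotent (G := X)
      haveI : (Cfsg.fittingSubgroup X).Normal := CfsgLib.Coprime.fitting_normal
      have h1 : (((zpowers g).subgroupOf X).subgroupOf (Cfsg.fittingSubgroup X)).IsSubnormal :=
        CfsgLib.PGroup.isSubnormal_of_isNilpotent _
      exact h1.trans hle (Normal.isSubnormal inferInstance)
    have hgM' : g ∈ M := hgM (mem_zpowers g)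
    have hMn : M.Normal := by
      obtain ⟨x, hx⟩ : ∃ x, x ∉ M := by
        by_contra h
        push Not at h
        exact hM.1 (eq_top_iff.2 fun x _ => h x)
      have hex : ∃ n, (brk g)^[n] x ∈ M := by
        obtain ⟨n, hn⟩ := hg x
        exact ⟨n, hn ▸ one_mem M⟩
      obtain ⟨y, hy, hfy⟩ : ∃ y, y ∉ M ∧ brk g y ∈ M := by
        classical
        have h0 : Nat.find hex ≠ 0 := fun h => hx (by simpa [h] using Nat.find_spec hex)
        obtain ⟨k, hk⟩ := Nat.exists_eq_succ_of_ne_zero h0
        refine ⟨(brk g)^[k] x, Nat.find_min hex (by omega), ?_⟩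
        rw [← Function.iterate_succ_apply' (brk g) k x, ← hk]
        exact Nat.find_spec hex
      have hconj : y * g * y⁻¹ ∈ M := by
        have := mul_mem hfy hgM'
        simpa [brk] using this
      set M' := M.map (MulAut.conj y⁻¹).toMonoidHom with hM'
      have hg' : g ∈ M' := ⟨y * g * y⁻¹, hconj, by simp [mul_assoc]⟩
      have hne : M' ≠ ⊤ := fun h => hM.1 (map_injective (f := (MulAut.conj y⁻¹).toMonoidHom)
        (MulEquiv.injective _) (by rw [← hM', h, map_top_of_surjective _ (MulEquiv.surjective _)]))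
      have hle : M' ≤ M := huniq M' (zpowers_le.2 hg') hne
      have hyN : y⁻¹ ∈ normalizer (M : Set G) := by
        rw [mem_normalizer_iff_map_conj_eq]
        exact eq_of_le_of_card_ge hle (le_of_eq (card_map_of_injective (MulEquiv.injective _)).symm)
      rw [← normalizer_eq_top_iff]
      refine hM.2 _ (lt_of_le_of_ne le_normalizer fun h => hy ?_)
      have := inv_mem hyN
      rw [inv_inv] at this
      rwa [← h] at this
    haveI := hMn
    haveI := CfsgLib.Coprime.fitting_isNilpotent (G := M)
    haveI hFc : (Cfsg.fittingSubgroup M).Characteristic := CfsgLib.Coprime.fitting_characteristic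
    have hF : ((Cfsg.fittingSubgroup M).map M.subtype).Normal := inferInstance
    exact CfsgLib.Coprime.le_fitting (N := (Cfsg.fittingSubgroup M).map M.subtype)
      (Group.nilpotent_of_mulEquiv (equivMapOfInjective _ _ M.subtype_injective))
      (mem_map_of_mem M.subtype (hrestr M hgM' hM.1))

private theorem engel_of_mem_fitting (G : Type u) [Group G] [Finite G] (g : G)
    (hg : g ∈ Cfsg.fittingSubgroup G) (x : G) : ∃ n, (brk g)^[n] x = 1 := by
  set F := Cfsg.fittingSubgroup G
  haveI : F.Normal := CfsgLib.Coprime.fitting_normal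
  haveI := CfsgLib.Coprime.fitting_isNilpotent (G := G)
  obtain ⟨n, hn⟩ := Subgroup.nilpotent_iff_lowerCentralSeries.1 (inferInstance : Group.IsNilpotent F)
  have h1 : brk g x ∈ F := mul_mem (‹F.Normal›.conj_mem g hg x) (inv_mem hg)
  have key : ∀ k : ℕ, ∃ u : F, (u : G) = (brk g)^[k + 1] x ∧
      u ∈ (⊤ : Subgroup F).lowerCentralSeries k := by
    intro k
    induction k with
    | zero => exact ⟨⟨_, h1⟩, rfl, mem_top _⟩
    | succ k ihk =>
      obtain ⟨u, hu, hk⟩ := ihk
      refine ⟨⁅u, (⟨g, hg⟩ : F)⁆, ?_, ?_⟩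
      · rw [Function.iterate_succ_apply' (brk g) (k + 1) x, ← hu]
        rfl
      · rw [Subgroup.lowerCentralSeries_succ]
        exact commutator_mem_commutator hk (mem_top _)
  obtain ⟨u, hu, hk⟩ := key n
  rw [hn, mem_bot] at hk
  exact ⟨n + 1, by rw [← hu, hk]; rfl⟩

/-- Baer's characterization of the Fitting subgroup: in a finite group G, an element g lies in the Fitting subgroup if and only if g is a left Engel element, that is, for every x there is n with [x, g, g, …, g] = 1 (n entries g, [a, b] = aba⁻¹b⁻¹). -/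
theorem result {G : Type*} [Group G] [Finite G] (g : G) :
    g ∈ Cfsg.fittingSubgroup G ↔ ∀ x : G, ∃ n : ℕ, (List.replicate n g).foldl (fun a b => a * b * a⁻¹ * b⁻¹) x = 1 := by
  simp only [foldl_eq]
  exact ⟨fun h x => engel_of_mem_fitting G g h x, fun h => mem_fitting_of_engel G g h⟩

end Cfsg.Agent.S3937
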