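import Cfsg.Statements.S3939
import Cfsg.Agent.S3937
import Cfsg.Agent.Lib.PGroup.Basic
-- import your own Cfsg.Agent.* helpers here

set_option autoImplicit false
open Cfsg

namespace Cfsg.Agent.S3939

open Subgroup
open scoped Pointwise

universe u

private theorem foldl_coe {G : Type u} [Group G] {K : Subgroup G} (g : K) :
    ∀ (n : ℕ) (x : K), (((List.replicate n g).foldl (fun a b => a * b * a⁻¹ * b⁻¹) x : K) : G) =
      (List.replicate n (g : G)).foldl (fun a b => a * b * a⁻¹ * b⁻¹) (x : G) := by
  intro n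
  induction n with
  | zero => intro x; rfl
  | succ n ih => intro x; rw [List.replicate_succ, List.replicate_succ, List.foldl_cons, List.foldl_cons, ih]; rfl

private theorem center_ne_bot {G : Type u} [Group G] [Finite G] {g : G} (hg1 : g ≠ 1)
    (h : ∀ x : G, Group.IsNilpotent (closure ({x, g} : Set G))) : center G ≠ ⊥ := by
  classical
  have hgF : g ∈ Cfsg.fittingSubgroup G := by
    rw [Cfsg.Agent.S3937.result]
    intro x
    set K := closure ({x, g} : Set G)
    have hgK : g ∈ K := subset_closure (by simp)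
    have hxK : x ∈ K := subset_closure (by simp)
    have hF : (⟨g, hgK⟩ : K) ∈ Cfsg.fittingSubgroup K := by
      haveI := h x
      have hT : (⊤ : Subgroup K).Normal ∧ Group.IsNilpotent (⊤ : Subgroup K) :=
        ⟨inferInstance, Group.nilpotent_of_mulEquiv Subgroup.topEquiv.symm⟩
      exact le_sSup (a := (⊤ : Subgroup K)) hT (mem_top _)
    obtain ⟨n, hn⟩ := (Cfsg.Agent.S3937.result _).1 hF ⟨x, hxK⟩
    exact ⟨n, by rw [← foldl_coe (⟨g, hgK⟩ : K) n ⟨x, hxK⟩, hn]; rfl⟩
  obtain ⟨p, hp, hpd⟩ := Nat.exists_prime_and_dvd (n := orderOf g) (by simpa using hg1)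
  haveI := Fact.mk hp
  set w := g ^ CfsgLib.PGroup.pPrimePart p G with hw
  have hwO : w ∈ Cfsg.pCore p G := CfsgLib.PGroup.pow_pPrimePart_mem_pCore hgF
  have hw1 : w ≠ 1 := fun e => CfsgLib.PGroup.not_dvd_pPrimePart (G := G) hp
    (hpd.trans (orderOf_dvd_of_pow_eq_one e))
  have hOp := CfsgLib.PGroup.isPGroup_pCore p G
  haveI hOn : (Cfsg.pCore p G).Normal := Subgroup.sSup_normal _ fun _ hM => hM.1
  -- elements of order prime to `p` commute with `w`
  have hcomm : ∀ x : G, ¬ p ∣ orderOf x → Commute x w := by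
    intro x hx
    set K := closure ({x, g} : Set G)
    have hgK : g ∈ K := subset_closure (by simp)
    have hxK : x ∈ K := subset_closure (by simp)
    haveI := h x
    have hwK : w ∈ K := pow_mem hgK _
    haveI hN : ((Cfsg.pCore p G).subgroupOf K).Normal := inferInstance
    have hNp : IsPGroup p ((Cfsg.pCore p G).subgroupOf K) := hOp.comap_subtype
    suffices hm : (⟨x, hxK⟩ : K) ∈ centralizer ({⟨w, hwK⟩} : Set K) from
      (congrArg Subtype.val (mem_centralizer_singleton_iff.1 hm) : x * w = w * x)
    refine CfsgLib.PGroup.mem_of_forall_prime_pow_mem fun q hq => ?_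
    haveI := Fact.mk hq
    by_cases hqp : q = p
    · subst hqp
      refine ⟨orderOf x, hx, ?_⟩
      have : (⟨x, hxK⟩ : K) ^ orderOf x = 1 := Subtype.ext (by simp [pow_orderOf_eq_one])
      rw [this]; exact one_mem _
    refine ⟨CfsgLib.PGroup.pPrimePart q K, CfsgLib.PGroup.not_dvd_pPrimePart hq, ?_⟩
    have hT : (⊤ : Subgroup K).Normal ∧ Group.IsNilpotent (⊤ : Subgroup K) :=
      ⟨inferInstance, Group.nilpotent_of_mulEquiv Subgroup.topEquiv.symm⟩
    have hq' := CfsgLib.PGroup.pow_pPrimePart_mem_pCore (p := q)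
      (le_sSup (a := (⊤ : Subgroup K)) hT (mem_top (⟨x, hxK⟩ : K)) :
        (⟨x, hxK⟩ : K) ∈ Cfsg.fittingSubgroup K)
    haveI : (Cfsg.pCore q K).Normal := Subgroup.sSup_normal _ fun _ hM => hM.1
    have hd : Disjoint (Cfsg.pCore q K) ((Cfsg.pCore p G).subgroupOf K) :=
      IsPGroup.disjoint_of_ne q p hqp _ _ (CfsgLib.PGroup.isPGroup_pCore q K) hNp
    exact mem_centralizer_singleton_iff.2
      (Subgroup.commute_of_normal_of_disjoint _ _ inferInstance inferInstance hd _ _ hq' hwO).eq
  set N := normalClosure ({w} : Set G) with hNdef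
  have hNO : N ≤ Cfsg.pCore p G := normalClosure_le_normal (by simpa using hwO)
  have hNx : ∀ x : G, ¬ p ∣ orderOf x → N ≤ centralizer ({x} : Set G) := by
    intro x hx
    refine (closure_le _).2 fun u hu => ?_
    obtain ⟨w', hw', hc⟩ := Group.mem_conjugatesOfSet_iff.1 hu
    rw [Set.mem_singleton_iff.1 hw'] at hc
    obtain ⟨c, rfl⟩ := isConj_iff.1 hc
    have ho : ¬ p ∣ orderOf (c⁻¹ * x * c) := by
      rwa [show orderOf (c⁻¹ * x * c) = orderOf x by simpa using (MulAut.conj c⁻¹).orderOf_eq x]
    refine mem_centralizer_singleton_iff.2 ?_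
    calc c * w * c⁻¹ * x = c * (w * (c⁻¹ * x * c)) * c⁻¹ := by group
      _ = c * ((c⁻¹ * x * c) * w) * c⁻¹ := by rw [(hcomm _ ho).eq]
      _ = x * (c * w * c⁻¹) := by group
  let P : Sylow p G := default
  have hNP : N ≤ (P : Subgroup G) := hNO.trans (CfsgLib.PGroup.pCore_le_sylow P)
  have hNb : (N.subgroupOf (P : Subgroup G)) ≠ ⊥ := by
    intro e
    have h1 : (⟨w, hNP (subset_normalClosure rfl)⟩ : (P : Subgroup G)) ∈
        N.subgroupOf (P : Subgroup G) := subset_normalClosure (s := ({w} : Set G)) rfl
    rw [e, mem_bot] at h1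
    exact hw1 (congrArg Subtype.val h1)
  haveI := P.isPGroup'.isNilpotent
  obtain ⟨z, hzN, hz1⟩ : ∃ z : (P : Subgroup G),
      z ∈ N.subgroupOf (P : Subgroup G) ⊓ center (P : Subgroup G) ∧ z ≠ 1 := by
    have hmeet : N.subgroupOf (P : Subgroup G) ⊓ center (P : Subgroup G) ≠ ⊥ := by
      intro hbot
      have key : ∀ n, N.subgroupOf (P : Subgroup G) ⊓
          Subgroup.upperCentralSeries (P : Subgroup G) n = ⊥ := by
        intro n
        induction n with
        | zero => simp
        | succ n ihn =>
          rw [eq_bot_iff]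
          rintro u ⟨hu, huz⟩
          have hu' : u ∈ center (P : Subgroup G) := by
            rw [mem_center_iff]
            intro y
            have h1 : u * y * u⁻¹ * y⁻¹ ∈ N.subgroupOf (P : Subgroup G) := by
              rw [show u * y * u⁻¹ * y⁻¹ = u * (y * u⁻¹ * y⁻¹) by group]
              exact mul_mem hu (Subgroup.Normal.conj_mem inferInstance _ (inv_mem hu) y)
            have h2 := (Subgroup.mem_upperCentralSeries_succ_iff.1 huz) y
            have h3 : u * y * u⁻¹ * y⁻¹ ∈ N.subgroupOf (P : Subgroup G) ⊓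
                Subgroup.upperCentralSeries (P : Subgroup G) n := ⟨h1, h2⟩
            rw [ihn, mem_bot] at h3
            calc y * u = (u * y * u⁻¹ * y⁻¹) * y * u := by rw [h3, one_mul]
              _ = u * y := by group
          exact hbot.le ⟨hu, hu'⟩
      obtain ⟨n, hn⟩ := (inferInstance : Group.IsNilpotent (P : Subgroup G)).nilpotent'
      exact hNb (by simpa [hn] using key n)
    obtain ⟨⟨z, hz⟩, hz1⟩ := (ne_bot_iff_exists_ne_one).1 hmeet
    exact ⟨z, hz, fun e => hz1 (Subtype.ext e)⟩
  intro hC
  refine hz1 (Subtype.ext (mem_bot.1 (hC ▸ mem_center_iff.2 fun y => ?_)))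
  suffices hy : y ∈ centralizer ({(z : G)} : Set G) from mem_centralizer_singleton_iff.1 hy
  have htop : (centralizer ({(z : G)} : Set G)).index = 1 := by
    by_contra hne
    obtain ⟨q, hq, hqd⟩ := Nat.exists_prime_and_dvd hne
    haveI := Fact.mk hq
    by_cases hqp : q = p
    · subst hqp
      refine P.not_dvd_index (hqd.trans (index_dvd_of_le fun u hu => ?_))
      exact mem_centralizer_singleton_iff.2
        (congrArg Subtype.val ((mem_center_iff.1 hzN.2) ⟨u, hu⟩))
    · refine (default : Sylow q G).not_dvd_index (hqd.trans (index_dvd_of_le fun u hu => ?_))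
      have ho : ¬ p ∣ orderOf u := by
        obtain ⟨k, hk⟩ := IsPGroup.iff_orderOf.1 (default : Sylow q G).isPGroup' ⟨u, hu⟩
        rw [Subgroup.orderOf_mk] at hk
        rw [hk]
        exact fun hd => hqp ((Nat.prime_dvd_prime_iff_eq hp hq).1 (hp.dvd_of_dvd_pow hd)).symm
      exact mem_centralizer_singleton_iff.2
        (mem_centralizer_singleton_iff.1 (hNx u ho hzN.1)).symm
  rw [index_eq_one.1 htop]; trivial

private theorem mem_upper : ∀ (G : Type u) [Group G] [Finite G] (g : G),
    (∀ x : G, Group.IsNilpotent (closure ({x, g} : Set G))) →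
      ∃ n, g ∈ Subgroup.upperCentralSeries G n := by
  intro G _ _
  induction hc : Nat.card G using Nat.strong_induction_on generalizing G with
  | _ c ih =>
    subst hc
    intro g h
    by_cases hg1 : g = 1
    · exact ⟨0, hg1 ▸ one_mem _⟩
    have hlt : Nat.card (G ⧸ center G) < Nat.card G := by
      rw [card_eq_card_quotient_mul_card_subgroup (center G)]
      exact lt_mul_of_one_lt_right Nat.card_pos
        ((center G).one_lt_card_iff_ne_bot.2 (center_ne_bot hg1 h))
    obtain ⟨n, hn⟩ := ih _ hlt (G ⧸ center G) rfl (g : G ⧸ center G) fun x => by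
      obtain ⟨x, rfl⟩ := QuotientGroup.mk_surjective x
      haveI := h x
      let f := (QuotientGroup.mk' (center G)).subgroupMap (closure ({x, g} : Set G))
      have hsur : Function.Surjective f := MonoidHom.subgroupMap_surjective _ _
      have := Group.nilpotent_of_surjective f hsur
      rwa [MonoidHom.map_closure, Set.image_pair] at this
    refine ⟨n + 1, ?_⟩
    rw [← Nat.succ_eq_add_one, ← Subgroup.comap_upperCentralSeries_quotient_center]
    exact hn

private theorem nilpotent_closure {G : Type u} [Group G] {g : G} {n : ℕ}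
    (hg : g ∈ Subgroup.upperCentralSeries G n) (x : G) :
    Group.IsNilpotent (closure ({x, g} : Set G)) := by
  set K := closure ({x, g} : Set G)
  have key : ∀ m, (Subgroup.upperCentralSeries G m).subgroupOf K ≤ Subgroup.upperCentralSeries K m := by
    intro m
    induction m with
    | zero => simp
    | succ m ih =>
      intro u hu
      rw [Subgroup.mem_upperCentralSeries_succ_iff]
      intro y
      exact ih ((Subgroup.mem_upperCentralSeries_succ_iff.1 hu) y)
  have hgK : g ∈ K := subset_closure (by simp)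
  have hxK : x ∈ K := subset_closure (by simp)
  have hgn : (⟨g, hgK⟩ : K) ∈ Subgroup.upperCentralSeries K n := key n hg
  refine ⟨n + 1, ?_⟩
  rw [eq_top_iff]
  intro u _
  rw [Subgroup.mem_upperCentralSeries_succ_iff]
  set Z := Subgroup.upperCentralSeries K n
  haveI : Z.Normal := inferInstance
  have hall : ∀ y : K, (y : K ⧸ Z) ∈ zpowers ((⟨x, hxK⟩ : K) : K ⧸ Z) := by
    rintro ⟨y, hy⟩
    induction hy using closure_induction with
    | mem a ha =>
      rcases ha with rfl | rfl
      · exact mem_zpowers _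
      · rw [(QuotientGroup.eq_one_iff _).2 hgn]; exact one_mem _
    | one => exact one_mem _
    | mul a b ha hb iha ihb => exact mul_mem iha ihb
    | inv a ha iha => exact inv_mem iha
  intro y
  rw [← QuotientGroup.eq_one_iff]
  obtain ⟨i, hi⟩ := hall u
  obtain ⟨j, hj⟩ := hall y
  rw [commutatorElement_def, QuotientGroup.mk_mul, QuotientGroup.mk_mul, QuotientGroup.mk_mul,
    QuotientGroup.mk_inv, QuotientGroup.mk_inv, ← hi, ← hj]
  have := (Commute.refl ((⟨x, hxK⟩ : K) : K ⧸ Z)).zpow_zpow i j
  rw [this.eq]; group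

/-- In a finite group G the set of elements g such that the subgroup generated by g and x is nilpotent for every x ∈ G is exactly the hypercenter of G (the last term of the upper central series). -/
theorem result {G : Type*} [Group G] [Finite G] (g : G) :
    (∀ x : G, Group.IsNilpotent ↥(Subgroup.closure ({x, g} : Set G))) ↔ g ∈ ⨆ n : ℕ, Subgroup.upperCentralSeries G n := by
  rw [Subgroup.mem_iSup_of_directed (Subgroup.upperCentralSeries_mono G).directed_le]
  exact ⟨mem_upper G g, fun ⟨n, hn⟩ x => nilpotent_closure hn x⟩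

end Cfsg.Agent.S3939
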