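import Cfsg.Statements.S3941
-- import your own Cfsg.Agent.* helpers here
import Mathlib.GroupTheory.SpecificGroups.Alternating
import Mathlib.GroupTheory.Perm.Fin
import Mathlib.GroupTheory.Perm.ViaEmbedding

set_option autoImplicit false
open Cfsg

namespace Cfsg.Agent.S3941

open Equiv in
/-- Two `p`-elements of a small alternating group whose product is an involution. -/
theorem exists_pair {p : ℕ} [Fact p.Prime] (hp : p ≠ 2) :
    ∃ m ≤ max p 4, ∃ a b : Perm (Fin m), Perm.sign a = 1 ∧ Perm.sign b = 1 ∧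
      a ^ p = 1 ∧ b ^ p = 1 ∧ a * b ≠ 1 ∧ (a * b) ^ 2 = 1 := by
  rcases eq_or_ne p 3 with rfl | h3
  · exact ⟨4, le_max_right _ _, swap 0 1 * swap 1 2, swap 0 1 * swap 1 3, by decide +kernel⟩
  have h5 : 5 ≤ p := by
    have := (Fact.out : p.Prime).two_le
    have h4 : p ≠ 4 := by rintro rfl; exact absurd (Fact.out : Nat.Prime 4) (by norm_num)
    omega
  obtain ⟨k, rfl⟩ : ∃ k, p = k + 5 := ⟨p - 5, by omega⟩
  set c : Perm (Fin (k + 5)) := finRotate (k + 5) with hc
  set τ : Perm (Fin (k + 5)) := swap 0 2 with hτ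
  have hcp : c ^ (k + 5) = 1 := by
    have h := (isCycle_finRotate (n := k + 3)).orderOf
    rw [support_finRotate, Finset.card_univ, Fintype.card_fin] at h
    have h' := pow_orderOf_eq_one c
    rw [hc] at h' ⊢
    rwa [h] at h' 
  have hsc : Perm.sign c = 1 := by
    have : Odd (k + 5) := (Fact.out : (k + 5).Prime).odd_of_ne_two hp
    rw [hc, sign_finRotate, Even.neg_one_pow]
    exact Nat.not_odd_iff_even.1 fun h => Nat.not_even_iff_odd.2 this h.add_one
  have hab : c * (τ * c⁻¹ * τ⁻¹) = swap 1 3 * swap 0 2 := by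
    rw [show c * (τ * c⁻¹ * τ⁻¹) = (c * τ * c⁻¹) * τ⁻¹ by group, hτ, swap_inv, ← swap_apply_apply]
    congr 1
  refine ⟨k + 5, le_max_left _ _, c, τ * c⁻¹ * τ⁻¹, hsc, by simp [hsc], hcp,
    by rw [conj_pow, inv_pow, hcp]; simp, ?_, ?_⟩
  · rw [hab]
    intro h
    have := Perm.ext_iff.1 h 0
    rw [Perm.mul_apply, swap_apply_left, swap_apply_of_ne_of_ne
      (by simp [Fin.ext_iff, Fin.val_ofNat, Nat.mod_eq_of_lt]) (by simp [Fin.ext_iff, Fin.val_ofNat, Nat.mod_eq_of_lt])] at this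
    simp [Fin.ext_iff, Fin.val_ofNat, Nat.mod_eq_of_lt] at this
  · rw [hab, sq]
    have hcm : Commute (swap (1 : Fin (k + 5)) 3) (swap 0 2) := by
      refine (Perm.Disjoint.commute fun x => ?_)
      by_cases h : x = 1 ∨ x = 3
      · right
        rcases h with rfl | rfl <;> refine swap_apply_of_ne_of_ne ?_ ?_ <;>
          simp [Fin.ext_iff, Fin.val_ofNat, Nat.mod_eq_of_lt]
      · push Not at h
        left
        exact swap_apply_of_ne_of_ne h.1 h.2
    rw [hcm.symm.mul_mul_mul_comm, swap_mul_self, swap_mul_self, one_mul]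

/-- Let n ≥ 5 and p an odd prime with p ≤ n, and suppose that every proper subgroup of the alternating group of degree n whose order is divisible by p has a normal Sylow p-subgroup. Then n = p. -/
theorem result (n p : ℕ) (hn : 5 ≤ n) [Fact p.Prime] (hp : p ≠ 2) (hpn : p ≤ n)
    (h : ∀ H : Subgroup ↥(alternatingGroup (Fin n)), H ≠ ⊤ → p ∣ Nat.card ↥H → Cfsg.IsPClosed p ↥H) : n = p := by
  classical
  by_contra hne
  have hpn' : p ≤ n - 1 := by omega
  obtain ⟨m, hm, a, b, sa, sb, pa, pb, ab1, ab2⟩ := exists_pair (p := p) hp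
  have hmn : m ≤ n - 1 := hm.trans (by omega)
  let ι : Fin m ↪ Fin n := (Fin.castLEEmb (hmn.trans (Nat.sub_le n 1)))
  let φ : Equiv.Perm (Fin m) →* Equiv.Perm (Fin n) := Equiv.Perm.viaEmbeddingHom ι
  let last : Fin n := ⟨n - 1, by omega⟩
  have hfix : ∀ x, φ x last = last := fun x => by
    refine Equiv.Perm.viaEmbedding_apply_of_notMem x ι last ?_
    rintro ⟨i, hi⟩
    have := congrArg Fin.val hi
    simp [ι, last] at this
    omega
  have hsgn : ∀ x, Equiv.Perm.sign (φ x) = Equiv.Perm.sign x := fun x => by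
    simp [φ, Equiv.Perm.viaEmbeddingHom, Equiv.Perm.extendDomainHom]
  let H : Subgroup ↥(alternatingGroup (Fin n)) := MulAction.stabilizer _ last
  let A : alternatingGroup (Fin n) := ⟨φ a, by rw [Equiv.Perm.mem_alternatingGroup, hsgn, sa]⟩
  let B : alternatingGroup (Fin n) := ⟨φ b, by rw [Equiv.Perm.mem_alternatingGroup, hsgn, sb]⟩
  have hA : A ∈ H := hfix a
  have hB : B ∈ H := hfix b
  have hinj : Function.Injective φ := Equiv.Perm.viaEmbeddingHom_injective ι
  let A' : H := ⟨A, hA⟩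
  let B' : H := ⟨B, hB⟩
  have pA : A' ^ p = 1 := Subtype.ext (Subtype.ext (by
    show φ a ^ p = 1
    rw [← map_pow, pa, map_one]))
  have pB : B' ^ p = 1 := Subtype.ext (Subtype.ext (by
    show φ b ^ p = 1
    rw [← map_pow, pb, map_one]))
  have hAB : A' * B' ≠ 1 := fun e => ab1 (hinj (by
    rw [map_mul, map_one]; exact congrArg (fun z : H => ((z.1 : alternatingGroup (Fin n)) : Equiv.Perm (Fin n))) e))
  have hAB2 : (A' * B') ^ 2 = 1 := Subtype.ext (Subtype.ext (by
    show (φ a * φ b) ^ 2 = 1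
    rw [← map_mul, ← map_pow, ab2, map_one]))
  have hne1 : A' ≠ 1 ∨ B' ≠ 1 := by
    by_contra hc; push Not at hc; exact hAB (by rw [hc.1, hc.2, one_mul])
  have hdvd : p ∣ Nat.card H := by
    rcases hne1 with h1 | h1
    · exact orderOf_eq_prime pA h1 ▸ orderOf_dvd_natCard A'
    · exact orderOf_eq_prime pB h1 ▸ orderOf_dvd_natCard B'
  have htop : H ≠ ⊤ := by
    intro e
    obtain ⟨g, hg⟩ : ∃ g : alternatingGroup (Fin n), g • last ≠ last := by
      have : MulAction.IsPretransitive (alternatingGroup (Fin n)) (Fin n) :=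
        alternatingGroup.isPretransitive_of_three_le_card (Fin n) (by simp; omega)
      obtain ⟨g, hg⟩ := MulAction.exists_smul_eq (alternatingGroup (Fin n)) last (⟨0, by omega⟩ : Fin n)
      exact ⟨g, fun e' => by rw [hg] at e'; simp [last, Fin.ext_iff] at e'; omega⟩
    exact hg (show g ∈ H from e ▸ Subgroup.mem_top g)
  obtain ⟨P⟩ : Nonempty (Sylow p H) := inferInstance
  haveI := h H htop hdvd P
  have mem : ∀ x : H, x ^ p = 1 → x ∈ (P : Subgroup H) := fun x hx => by
    have hpg : IsPGroup p ↥(Subgroup.zpowers x) := by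
      rintro ⟨y, k, rfl⟩
      exact ⟨1, Subtype.ext (by
        show (x ^ k) ^ p ^ 1 = 1
        rw [pow_one, ← zpow_natCast, ← zpow_mul, mul_comm, zpow_mul, zpow_natCast, hx, one_zpow])⟩
    obtain ⟨Q, hQ⟩ := hpg.exists_le_sylow
    haveI := Sylow.unique_of_normal P (h H htop hdvd P)
    rw [Subsingleton.elim P Q]
    exact hQ (Subgroup.mem_zpowers x)
  obtain ⟨k, hk⟩ := P.2 ⟨A' * B', mul_mem (mem A' pA) (mem B' pB)⟩
  have hk' : (A' * B') ^ p ^ k = 1 := congrArg Subtype.val hk
  have hcop : Nat.Coprime (p ^ k) 2 :=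
    (((Nat.coprime_primes (Fact.out : p.Prime) Nat.prime_two).2 hp).pow_left k)
  exact hAB (orderOf_eq_one_iff.1 (Nat.eq_one_of_dvd_coprimes hcop
    (orderOf_dvd_of_pow_eq_one hk') (orderOf_dvd_of_pow_eq_one hAB2)))

end Cfsg.Agent.S3941
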