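import Cfsg.Statements.S3946
import Cfsg.Agent.Lib.PGroup.Splitting
import Mathlib.GroupTheory.SemidirectProduct

set_option autoImplicit false
open Cfsg

namespace Cfsg.Agent.S3946

/-- Call an automorphism α of order n of a group G splitting when x · α(x) · α²(x) ⋯ α^(n−1)(x) = 1 for every x ∈ G. A finite group admitting a splitting automorphism of prime order is nilpotent (this contains the case of a fixed-point-free automorphism of prime order). -/
theorem result {G : Type*} [Group G] [Finite G] (α : MulAut G) (hp : (orderOf α).Prime)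
    (hsplit : ∀ x : G, (((List.range (orderOf α)).map (fun i : ℕ => (α ^ i) x)).prod = 1)) : Group.IsNilpotent G := by
  classical
  have hfin : IsOfFinOrder α := orderOf_pos_iff.1 hp.pos
  let φ : Subgroup.zpowers α →* MulAut G := (Subgroup.zpowers α).subtype
  haveI : Finite (Subgroup.zpowers α) := Nat.finite_of_card_ne_zero (by rw [Nat.card_zpowers]; exact hp.ne_zero)
  haveI : Finite (G ⋊[φ] Subgroup.zpowers α) := Finite.of_equiv _ SemidirectProduct.equivProd.symm
  let a : G ⋊[φ] Subgroup.zpowers α := SemidirectProduct.inr ⟨α, Subgroup.mem_zpowers α⟩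
  have hS : CfsgLib.PGroup.SplitPair (SemidirectProduct.inl (φ := φ)).range a (orderOf α) := by
    refine ⟨⟨fun n hn g => ?_⟩, ?_, ?_, ?_⟩
    · rw [SemidirectProduct.range_inl_eq_ker_rightHom] at hn ⊢
      exact (inferInstance : (SemidirectProduct.rightHom (φ := φ)).ker.Normal).conj_mem n hn g
    · rw [SemidirectProduct.range_inl_eq_ker_rightHom, MonoidHom.mem_ker]
      intro h
      rw [SemidirectProduct.rightHom_inr] at h
      have h1 : α = 1 := congrArg Subtype.val h
      exact hp.ne_one (by rw [h1, orderOf_one])
    · refine eq_top_iff.2 fun g _ => ?_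
      rw [← SemidirectProduct.inl_left_mul_inr_right g]
      refine mul_mem (Subgroup.mem_sup_left ⟨g.left, rfl⟩) (Subgroup.mem_sup_right ?_)
      obtain ⟨i, hi⟩ := Subgroup.mem_zpowers_iff.1 g.right.2
      refine Subgroup.mem_zpowers_iff.2 ⟨i, ?_⟩
      rw [← map_zpow]
      congr 1
      exact Subtype.ext (by rw [Subgroup.coe_zpow]; exact hi)
    · rintro _ ⟨x, rfl⟩
      have key : ∀ n : ℕ, (SemidirectProduct.inl x * a) ^ n =
          SemidirectProduct.inl ((List.range n).map (fun i : ℕ => (α ^ i) x)).prod * a ^ n := by
        intro n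
        induction n with
        | zero => simp
        | succ n ih =>
          have hc : a ^ n * SemidirectProduct.inl x = SemidirectProduct.inl ((α ^ n) x) * a ^ n := by
            rw [← map_pow]
            have h1 := SemidirectProduct.inl_aut (φ := φ) ((⟨α, Subgroup.mem_zpowers α⟩ : Subgroup.zpowers α) ^ n) x
            have h2 : φ ((⟨α, Subgroup.mem_zpowers α⟩ : Subgroup.zpowers α) ^ n) x = (α ^ n) x := rfl
            rw [h2, map_inv] at h1
            rw [h1]; simp [mul_assoc]
          rw [pow_succ, ih, List.range_succ, List.map_append, List.prod_append, List.map_singleton,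
            List.prod_singleton, map_mul, mul_assoc, ← mul_assoc (a ^ n), hc, pow_succ]
          simp only [mul_assoc]
      rw [key, hsplit x, map_one, one_mul, ← map_pow]
      have h3 : (⟨α, Subgroup.mem_zpowers α⟩ : Subgroup.zpowers α) ^ orderOf α = 1 :=
        Subtype.ext (pow_orderOf_eq_one α)
      rw [h3, map_one]
  haveI := CfsgLib.PGroup.SplitPair.isNilpotent hp hS
  exact Group.nilpotent_of_mulEquiv (MonoidHom.ofInjective (SemidirectProduct.inl_injective (φ := φ))).symm

end Cfsg.Agent.S3946
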