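import Cfsg.Statements.S3949
-- import your own Cfsg.Agent.* helpers here

set_option autoImplicit false
open Cfsg

namespace Cfsg.Agent.S3949

private theorem iterate_eq {G : Type*} [Group G] (α : MulAut G) {g : G} (hg : α g = g⁻¹) :
    ∀ n : ℕ, (fun c : G => c * (α c)⁻¹)^[n] g = g ^ 2 ^ n := by
  intro n
  induction n with
  | zero => simp
  | succ n ih =>
    rw [Function.iterate_succ_apply', ih]
    show g ^ 2 ^ n * (α (g ^ 2 ^ n))⁻¹ = _
    rw [map_pow, hg, inv_pow, inv_inv, ← pow_add, pow_succ, mul_two]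

/-- Let G be a finite group and α an automorphism of G of order 2 such that the elements g·α(g)⁻¹ generate G. Let j be a positive integer such that 2^j divides the order of no element inverted by α. Then the set of values of the j-th iterate of the map c ↦ c·α(c)⁻¹ is exactly the set of elements of odd order inverted by α. -/
theorem result {G : Type*} [Group G] [Finite G] (α : MulAut G) (hα : orderOf α = 2) (hG : Subgroup.closure (Set.range (fun c : G => c * (α c)⁻¹)) = ⊤)
    (j : ℕ) (hj : ∀ g : G, α g = g⁻¹ → ¬ 2 ^ j ∣ orderOf g) :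
    Set.range ((fun c : G => c * (α c)⁻¹)^[j]) = {g : G | Odd (orderOf g) ∧ α g = g⁻¹} := by
  have hαα : ∀ c, α (α c) = c := fun c => by
    have h := pow_orderOf_eq_one α
    rw [hα, pow_two] at h
    exact congrArg (fun e : MulAut G => e c) h
  rcases j with _ | i
  · exact absurd (one_dvd _) (pow_zero 2 ▸ hj 1 (by simp))
  ext g
  constructor
  · rintro ⟨c, rfl⟩
    rw [Function.iterate_succ_apply]
    have hd : α (c * (α c)⁻¹) = (c * (α c)⁻¹)⁻¹ := by
      rw [map_mul, map_inv, hαα, mul_inv_rev, inv_inv]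
    rw [iterate_eq α hd i]
    refine ⟨?_, by rw [map_pow, hd, inv_pow]⟩
    set d := c * (α c)⁻¹
    rw [Nat.odd_iff, ← Nat.two_dvd_ne_zero, orderOf_pow]
    intro h2
    refine hj d hd ?_
    have hgcd : (orderOf d).gcd (2 ^ i) ∣ orderOf d := Nat.gcd_dvd_left _ _
    obtain ⟨f, hfi, hf⟩ := (Nat.dvd_prime_pow Nat.prime_two).1 (Nat.gcd_dvd_right (orderOf d) (2 ^ i))
    rw [hf] at hgcd h2
    have h3 : 2 ^ f * 2 ∣ orderOf d := Nat.mul_dvd_of_dvd_div hgcd h2
    rcases hfi.eq_or_lt with rfl | hlt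
    · rwa [pow_succ]
    · exfalso
      have h4 : 2 ^ (f + 1) ∣ (orderOf d).gcd (2 ^ i) :=
        Nat.dvd_gcd (by rwa [pow_succ]) (pow_dvd_pow 2 hlt)
      rw [hf] at h4
      exact absurd ((Nat.pow_dvd_pow_iff_le_right (by norm_num)).1 h4) (by omega)
  · rintro ⟨hodd, hg⟩
    obtain ⟨k, hk⟩ := exists_pow_eq_self_of_coprime (x := g) (n := 2 ^ (i + 1))
      ((Nat.coprime_two_left.2 hodd).pow_left _)
    refine ⟨g ^ k, ?_⟩
    rw [iterate_eq α (by rw [map_pow, hg, inv_pow]) (i + 1), ← pow_mul, mul_comm, pow_mul, hk]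

end Cfsg.Agent.S3949
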