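import Cfsg.Statements.S3950
import Cfsg.Agent.Lib.PGroup.StemExtension
-- import your own Cfsg.Agent.* helpers here

set_option autoImplicit false
open Cfsg

namespace Cfsg.Agent.S3950

/-- A finite abelian group has trivial Schur multiplier if and only if it is cyclic. -/
theorem result {G : Type*} [CommGroup G] [Finite G] : Cfsg.HasCyclicSchurMultiplier G 1 ↔ IsCyclic G := by
  constructor
  · intro h
    by_contra hc
    obtain ⟨p, θ, hp, hθ⟩ := CfsgLib.Schur.exists_surjection_square hc
    haveI := Fact.mk hp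
    obtain ⟨X, _, _, ρ, hρ, ⟨e⟩⟩ := CfsgLib.Schur.exists_pullback θ hθ (CfsgLib.Schur.HeisG.proj p p (RingHom.id _))
      (CfsgLib.Schur.HeisG.isStemExtension p p (RingHom.id _))
    obtain ⟨π, hπ⟩ := h.2 X ρ hρ
    haveI : Subsingleton ρ.ker := hπ.subsingleton
    haveI : Subsingleton (Multiplicative (ZMod p)) :=
      ((CfsgLib.Schur.HeisG.kerEquiv p p (RingHom.id _)).symm.trans e).injective.subsingleton
    exact not_subsingleton (Multiplicative (ZMod p)) inferInstance
  · intro h
    haveI := h
    exact CfsgLib.Schur.hasCyclic_one_of_ker_eq_bot fun Γ _ _ σ hσ => CfsgLib.Schur.ker_eq_bot_of_isCyclic hσ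

end Cfsg.Agent.S3950
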