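import Cfsg.Statements.S3951
import Cfsg.Agent.Lib.PGroup.StemExtension
-- import your own Cfsg.Agent.* helpers here

set_option autoImplicit false
open Cfsg

namespace Cfsg.Agent.S3951

/-- For positive integers `m` and `n` with `n` dividing `m`, the Schur multiplier of the abelian group `ZMod m × ZMod n` (written multiplicatively) is cyclic of order `n`. In particular the elementary abelian group of order `p ^ 2` has multiplier of order `p`. -/
theorem result (m n : ℕ) [NeZero m] [NeZero n] (hnm : n ∣ m) : Cfsg.HasCyclicSchurMultiplier (Multiplicative (ZMod m × ZMod n)) n := by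
  let f := ZMod.castHom hnm (ZMod n)
  refine ⟨⟨CfsgLib.Schur.HeisG m n f, inferInstance, inferInstance, CfsgLib.Schur.HeisG.proj m n f,
    CfsgLib.Schur.HeisG.isStemExtension m n f, ⟨CfsgLib.Schur.HeisG.kerEquiv m n f⟩⟩, fun Γ _ _ σ hσ => ?_⟩
  obtain ⟨a, ha⟩ := hσ.1 (Multiplicative.ofAdd ((1 : ZMod m), (0 : ZMod n)))
  obtain ⟨b, hb⟩ := hσ.1 (Multiplicative.ofAdd ((0 : ZMod m), (1 : ZMod n)))
  refine CfsgLib.Schur.abelian_two_generated hσ (fun x y => mul_comm x y) (a := a) (b := b) ?_ ?_
  · rw [eq_top_iff, ha, hb]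
    intro t _
    have h : t = Multiplicative.ofAdd ((1 : ZMod m), (0 : ZMod n)) ^ t.toAdd.1.val *
        Multiplicative.ofAdd ((0 : ZMod m), (1 : ZMod n)) ^ t.toAdd.2.val := by
      apply Multiplicative.toAdd.injective
      simp [Prod.ext_iff]
    rw [h]
    exact mul_mem (pow_mem (CfsgLib.Schur.mem_pair_left _ _) _)
      (pow_mem (CfsgLib.Schur.mem_pair_right _ _) _)
  · rw [hb]
    apply Multiplicative.toAdd.injective
    simp [Prod.ext_iff]

end Cfsg.Agent.S3951
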