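import Cfsg.Statements.S3952
import Cfsg.Agent.Lib.PGroup.SchurExponent
-- import your own Cfsg.Agent.* helpers here

set_option autoImplicit false
open Cfsg

namespace Cfsg.Agent.S3952

/-- If `A` is the Schur multiplier of the finite group `Q`, then the square of the exponent of `A` divides the order of `Q`. -/
theorem result {Q : Type*} [Group Q] [Finite Q] {A : Type*} [CommGroup A] (hA : Cfsg.HasSchurMultiplier Q A) : Monoid.exponent A ^ 2 ∣ Nat.card Q := by
  obtain ⟨⟨Γ, _, _, σ, hσ, ⟨e⟩⟩, -⟩ := hA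
  haveI : Finite A := Finite.of_equiv _ e.toEquiv
  obtain ⟨a, ha⟩ := Monoid.exists_orderOf_eq_exponent (Monoid.ExponentExists.of_finite (G := A))
  rw [← ha]
  have hpos : orderOf a ≠ 0 := (orderOf_pos a).ne'
  rcases eq_or_ne (orderOf a) 1 with h1 | h1
  · rw [h1, one_pow]; exact one_dvd _
  refine (Nat.dvd_iff_prime_pow_dvd_dvd _ _).2 fun p k hp hk => ?_
  -- prime powers dividing the square
  set j := (orderOf a).factorization p
  have hkj : k ≤ 2 * j := by
    have := (hp.pow_dvd_iff_le_factorization (pow_ne_zero 2 hpos)).1 hk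
    simpa [Nat.factorization_pow] using this
  refine dvd_trans (pow_dvd_pow p hkj) ?_
  have hord : orderOf (e.symm (a ^ (orderOf a / p ^ j)) : Γ) = p ^ j := by
    rw [Subgroup.orderOf_coe, MulEquiv.orderOf_eq, orderOf_pow, Nat.gcd_eq_right
      (Nat.div_dvd_of_dvd (Nat.ordProj_dvd _ _)), Nat.div_div_self (Nat.ordProj_dvd _ _) hpos]
  exact CfsgLib.Schur.exponent_sq_dvd σ hσ _ (e.symm _).2 hp hord

end Cfsg.Agent.S3952
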