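import Cfsg.Statements.S3963
import Cfsg.Agent.Lib.PGroup.StemExtension
-- import your own Cfsg.Agent.* helpers here

set_option autoImplicit false
open Cfsg

namespace Cfsg.Agent.S3963

/-- For every `n ≥ 1` the dicyclic (generalized quaternion) group of order `4 n` has trivial Schur multiplier. -/
theorem result (n : ℕ) [NeZero n] : Cfsg.HasCyclicSchurMultiplier (QuaternionGroup n) 1 := by
  refine CfsgLib.Schur.hasCyclic_one_of_ker_eq_bot fun Γ _ _ σ hσ => ?_
  obtain ⟨a, ha⟩ := hσ.1 (QuaternionGroup.a 1)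
  obtain ⟨x, hx⟩ := hσ.1 (QuaternionGroup.xa 0)
  have hgen : Subgroup.closure ({σ x, σ a} : Set (QuaternionGroup n)) = ⊤ := by
    rw [eq_top_iff, ha, hx]
    rintro (i | i) _
    · have h : (QuaternionGroup.a 1 : QuaternionGroup n) ^ i.val = QuaternionGroup.a i := by
        rw [QuaternionGroup.a_one_pow, ZMod.natCast_zmod_val]
      rw [← h]
      exact pow_mem (CfsgLib.Schur.mem_pair_right _ _) _
    · have h : (QuaternionGroup.xa 0 : QuaternionGroup n) * QuaternionGroup.a 1 ^ i.val = QuaternionGroup.xa i := by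
        rw [QuaternionGroup.a_one_pow, QuaternionGroup.xa_mul_a, zero_add, ZMod.natCast_zmod_val]
      rw [← h]
      exact mul_mem (CfsgLib.Schur.mem_pair_left _ _) (pow_mem (CfsgLib.Schur.mem_pair_right _ _) _)
  have hrel : σ x * σ a * (σ x)⁻¹ * σ a = 1 := by
    rw [ha, hx, mul_assoc, mul_assoc, ← mul_assoc (QuaternionGroup.a 1), ← eq_inv_mul_iff_mul_eq]
    rw [mul_one, eq_comm, inv_eq_iff_mul_eq_one]
    have h2 : (QuaternionGroup.xa 0 : QuaternionGroup n)⁻¹ = QuaternionGroup.xa (n : ZMod (2 * n)) := by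
      refine inv_eq_of_mul_eq_one_right ?_
      rw [QuaternionGroup.xa_mul_xa, sub_zero, ← two_mul,
        show (2 : ZMod (2 * n)) * n = ((2 * n : ℕ) : ZMod (2 * n)) by push_cast; ring, ZMod.natCast_self]
      rfl
    rw [h2]
    simp only [QuaternionGroup.a_mul_xa, QuaternionGroup.xa_mul_a, QuaternionGroup.xa_mul_xa]
    rw [show ((n : ZMod (2 * n)) + ((n : ZMod (2 * n)) - 1 + 1) - 0) = ((2 * n : ℕ) : ZMod (2 * n)) by
      push_cast; ring, ZMod.natCast_self]
    rfl
  have hk : x * x * (a ^ n)⁻¹ ∈ σ.ker := by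
    rw [MonoidHom.mem_ker, map_mul, map_mul, map_inv, map_pow, ha, hx, QuaternionGroup.a_one_pow,
      QuaternionGroup.xa_mul_xa, add_zero, sub_zero, mul_inv_cancel]
  have hcomm : Commute x (a ^ n) := by
    have hz : Commute x (x * x * (a ^ n)⁻¹) := Subgroup.mem_center_iff.1 (hσ.2.1 hk) x
    have := ((Commute.refl x).mul_right (Commute.refl x)).inv_right.mul_right hz
    rwa [inv_mul_cancel_left, Commute.inv_right_iff] at this
  obtain ⟨w, hw, hwn, hle⟩ := CfsgLib.Schur.dihedral_type hσ hgen hrel hcomm inferInstance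
  rw [eq_bot_iff]
  intro g hg
  obtain ⟨i, rfl⟩ := Subgroup.mem_zpowers_iff.1 (hle hg)
  rw [MonoidHom.mem_ker, map_zpow, hw, ha, inv_zpow, inv_eq_one, ← zpow_natCast, ← zpow_mul,
    ← orderOf_dvd_iff_zpow_eq_one, QuaternionGroup.orderOf_a_one] at hg
  obtain ⟨c, hc⟩ := hg
  rw [show i = n * c by push_cast at hc; linarith, zpow_mul, zpow_natCast, hwn, one_zpow]
  exact one_mem _

end Cfsg.Agent.S3963
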