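import Cfsg.Statements.S3964
import Cfsg.Agent.Lib.PGroup.StemExtension
-- import your own Cfsg.Agent.* helpers here

set_option autoImplicit false
open Cfsg

namespace Cfsg.Agent.S3964

/-- For odd `n` the dihedral group of order `2 n` has trivial Schur multiplier. -/
theorem result (n : ℕ) (hn : Odd n) : Cfsg.HasCyclicSchurMultiplier (DihedralGroup n) 1 := by
  haveI : NeZero n := ⟨hn.pos.ne'⟩
  refine CfsgLib.Schur.hasCyclic_one_of_ker_eq_bot fun Γ _ _ σ hσ => ?_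
  obtain ⟨a, ha⟩ := hσ.1 (DihedralGroup.r 1)
  obtain ⟨x, hx⟩ := hσ.1 (DihedralGroup.sr 0)
  obtain ⟨hgen, hrel, hcomm⟩ := CfsgLib.Schur.dihedral_lifts hσ ha hx
  obtain ⟨w, hw, hwn, hle⟩ := CfsgLib.Schur.dihedral_type hσ hgen hrel hcomm inferInstance
  rw [eq_bot_iff]
  intro g hg
  obtain ⟨i, rfl⟩ := Subgroup.mem_zpowers_iff.1 (hle hg)
  rw [MonoidHom.mem_ker, map_zpow, hw, ha, inv_zpow, inv_eq_one, ← zpow_natCast, ← zpow_mul,
    ← orderOf_dvd_iff_zpow_eq_one, DihedralGroup.orderOf_r_one] at hg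
  have hdi : (n : ℤ) ∣ i := by
    refine Int.dvd_of_dvd_mul_right_of_gcd_one hg ?_
    exact Nat.coprime_two_right.2 hn
  obtain ⟨c, rfl⟩ := hdi
  rw [zpow_mul, zpow_natCast, hwn, one_zpow]
  exact one_mem _

end Cfsg.Agent.S3964
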