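import Cfsg.Statements.S3965
import Cfsg.Agent.Lib.PGroup.StemExtension
-- import your own Cfsg.Agent.* helpers here

set_option autoImplicit false
open Cfsg

namespace Cfsg.Agent.S3965

/-- For even `n ≥ 2` the dihedral group of order `2 n` has Schur multiplier cyclic of order `2`. -/
theorem result (n : ℕ) [NeZero n] (hn : Even n) : Cfsg.HasCyclicSchurMultiplier (DihedralGroup n) 2 := by
  obtain ⟨σ₀, hσ₀, hk⟩ := CfsgLib.Schur.exists_dicyclic_stem n hn
  haveI : Fact (Nat.Prime 2) := ⟨Nat.prime_two⟩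
  haveI : IsCyclic σ₀.ker := isCyclic_of_prime_card hk
  refine ⟨⟨QuaternionGroup n, inferInstance, inferInstance, σ₀, hσ₀, ⟨((zmodCyclicMulEquiv (inferInstance :
    IsCyclic σ₀.ker)).symm.trans (AddEquiv.toMultiplicative (ZMod.ringEquivCongr hk).toAddEquiv))⟩⟩,
    fun Γ _ _ σ hσ => ?_⟩
  obtain ⟨a, ha⟩ := hσ.1 (DihedralGroup.r 1)
  obtain ⟨x, hx⟩ := hσ.1 (DihedralGroup.sr 0)
  obtain ⟨hgen, hrel, hcomm⟩ := CfsgLib.Schur.dihedral_lifts hσ ha hx
  obtain ⟨w, hw, hwn, hle⟩ := CfsgLib.Schur.dihedral_type hσ hgen hrel hcomm inferInstance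
  obtain ⟨m, rfl⟩ := hn
  refine CfsgLib.Schur.exists_surjection_zmod (w ^ m) ?_ (by rw [← pow_mul, mul_two, hwn]) ?_
  · rw [MonoidHom.mem_ker, map_pow, hw, ha, inv_pow, inv_eq_one, ← pow_mul,
      ← orderOf_dvd_iff_pow_eq_one, DihedralGroup.orderOf_r_one, two_mul]
  · intro g hg
    obtain ⟨i, rfl⟩ := Subgroup.mem_zpowers_iff.1 (hle hg)
    rw [MonoidHom.mem_ker, map_zpow, hw, ha, inv_zpow, inv_eq_one, ← zpow_natCast, ← zpow_mul,
      ← orderOf_dvd_iff_zpow_eq_one, DihedralGroup.orderOf_r_one] at hg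
    obtain ⟨c, hc⟩ := hg
    refine ⟨c, ?_⟩
    change (w ^ m) ^ c = w ^ i
    rw [← zpow_natCast, ← zpow_mul]
    congr 1
    push_cast at hc
    linarith

end Cfsg.Agent.S3965
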