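import Cfsg.Statements.S3968
-- import your own Cfsg.Agent.* helpers here
import Mathlib
import Cfsg.Agent.Lib.Char.Integrality

set_option autoImplicit false
open Cfsg

namespace Cfsg.Agent.S3968

theorem trace_idem {V : Type*} [AddCommGroup V] [Module ℂ V] [FiniteDimensional ℂ V]
    (E : Module.End ℂ V) (h : E * E = E) :
    (Module.finrank ℂ (LinearMap.range E) : ℂ) = LinearMap.trace ℂ V E := by
  have hproj : LinearMap.IsProj (LinearMap.range E) E :=
    ⟨fun x => LinearMap.mem_range_self E x, by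
      rintro x ⟨y, rfl⟩
      exact congrArg (fun f : Module.End ℂ V => f y) h⟩
  exact hproj.trace.symm

theorem blichfeldt {G : Type*} [Group G] [Finite G] {p : ℕ} [Fact p.Prime] {n : ℕ}
    (ρ : Representation ℂ G (Fin n → ℂ)) [ρ.IsIrreducible] (hn : n = p)
    (hker : ∀ g, ρ g = 1 → g = 1) (hdiv : p ^ 2 ∣ Nat.card G) (hcen : Subgroup.center G = ⊥) : False := by
  classical
  have hp : p.Prime := Fact.out
  obtain ⟨P⟩ : Nonempty (Sylow p G) := inferInstance
  set Z := Subgroup.center ↥(P : Subgroup G) with hZ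
  have hfin : Module.finrank ℂ (Fin n → ℂ) = p := by rw [Module.finrank_fin_fun, hn]
  have hvanish : ∀ z ∈ Z, z ≠ 1 → ρ.character ((z : ↥(P : Subgroup G)) : G) = 0 := by
    intro z hz hz1
    have hle : (P : Subgroup G) ≤ Subgroup.centralizer ({(z : G)} : Set G) := fun a ha =>
      Subgroup.mem_centralizer_singleton_iff.2 (congrArg Subtype.val (Subgroup.mem_center_iff.1 hz ⟨a, ha⟩))
    have hcop : Nat.Coprime (Module.finrank ℂ (Fin n → ℂ)) (Subgroup.centralizer ({(z : G)} : Set G)).index := by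
      rw [hfin, hp.coprime_iff_not_dvd]
      exact fun h => P.not_dvd_index (h.trans (Subgroup.index_dvd_of_le hle))
    refine (CfsgLib.Char.char_zero_or_norm_eq_degree ρ _ hcop).resolve_right fun h => hz1 ?_
    obtain ⟨ω, hω⟩ := (CfsgLib.Char.norm_char_eq_iff ρ _).1 h
    have hzc : (z : G) ∈ Subgroup.center G := Subgroup.mem_center_iff.2 fun a => by
      refine mul_inv_eq_one.1 (hker _ ?_)
      have hmem : ρ (a * z) = ρ ((z : G) * a) := by
        rw [map_mul, map_mul, hω]; ext v; simp [Module.End.mul_apply]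
      rw [map_mul, hmem, ← map_mul, mul_inv_cancel, map_one]
    rw [hcen, Subgroup.mem_bot] at hzc
    exact Subtype.ext hzc
  haveI : Fintype Z := Fintype.ofFinite Z
  let σ : Z →* Module.End ℂ (Fin n → ℂ) := ρ.comp ((P : Subgroup G).subtype.comp Z.subtype)
  have htr : ∀ z : Z, LinearMap.trace ℂ (Fin n → ℂ) (σ z) = if z = 1 then (p : ℂ) else 0 := by
    intro z
    by_cases h : z = 1
    · rw [if_pos h, h, map_one, LinearMap.trace_one, hfin]
    · rw [if_neg h]
      exact hvanish z z.2 fun e => h (Subtype.ext e)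
  have hcardP : p ^ 2 ∣ Nat.card ↥(P : Subgroup G) := P.pow_dvd_card_of_pow_dvd_card hdiv
  have hPnt : Nontrivial ↥(P : Subgroup G) := by
    refine Finite.one_lt_card_iff_nontrivial.1 (lt_of_lt_of_le ?_ (Nat.le_of_dvd Nat.card_pos hcardP))
    exact Nat.one_lt_pow two_ne_zero hp.one_lt
  -- the centre has order `p`
  have hZp : Nat.card Z = p := by
    haveI hnt : Nontrivial Z := P.isPGroup'.center_nontrivial
    have hc0 : (Nat.card Z : ℂ) ≠ 0 := Nat.cast_ne_zero.2 Nat.card_pos.ne'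
    set E : Module.End ℂ (Fin n → ℂ) := (Nat.card Z : ℂ)⁻¹ • ∑ z : Z, σ z with hE
    have habs : ∀ w : Z, σ w * ∑ z : Z, σ z = ∑ z : Z, σ z := fun w => by
      rw [Finset.mul_sum]
      exact Fintype.sum_equiv (Equiv.mulLeft w) _ _ fun z => (map_mul σ w z).symm
    have hidem : E * E = E := by
      rw [hE, smul_mul_smul_comm, Finset.sum_mul, Finset.sum_congr rfl fun z _ => habs z, Finset.sum_const,
        Finset.card_univ, ← Nat.card_eq_fintype_card, ← Nat.cast_smul_eq_nsmul ℂ, smul_smul]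
      congr 1
      field_simp
    have h1 := trace_idem E hidem
    rw [hE, map_smul, map_sum, Finset.sum_congr rfl fun z _ => htr z, Finset.sum_ite_eq',
      if_pos (Finset.mem_univ _), smul_eq_mul, eq_inv_mul_iff_mul_eq₀ hc0] at h1
    have h2 : Nat.card Z ∣ p := Dvd.intro _ (by exact_mod_cast h1)
    exact ((Nat.dvd_prime hp).1 h2).resolve_left Finite.one_lt_card.ne'
  obtain ⟨x, hx⟩ := (isCyclic_of_prime_card hZp).exists_generator
  have hord : orderOf x = p := by rw [orderOf_eq_card_of_forall_mem_zpowers hx, hZp]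
  haveI : NeZero p := ⟨hp.ne_zero⟩
  obtain ⟨ζ, hζ⟩ : ∃ ζ : ℂ, IsPrimitiveRoot ζ p := ⟨_, Complex.isPrimitiveRoot_exp p hp.ne_zero⟩
  have hp0 : (p : ℂ) ≠ 0 := Nat.cast_ne_zero.2 hp.ne_zero
  set A : Module.End ℂ (Fin n → ℂ) := σ x with hA
  have hAp : A ^ p = 1 := by rw [hA, ← map_pow, show x ^ p = 1 from orderOf_dvd_iff_pow_eq_one.1 hord.dvd, map_one]
  let S : ℕ → Module.End ℂ (Fin n → ℂ) := fun j => ∑ i : Fin p, (ζ ^ (j * i.val)) • A ^ i.val
  have hstep : ∀ j i, A ^ i * S j = (ζ ^ (j * i))⁻¹ • S j := by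
    intro j i
    show A ^ i * ∑ k : Fin p, (ζ ^ (j * k.val)) • A ^ k.val = _ • ∑ k : Fin p, (ζ ^ (j * k.val)) • A ^ k.val
    rw [Finset.mul_sum, Finset.smul_sum]
    refine Fintype.sum_equiv (Equiv.addLeft (Fin.ofNat p i)) _ _ fun k => ?_
    have hval : ((Equiv.addLeft (Fin.ofNat p i)) k).val = (i + k.val) % p := by
      simp [Fin.val_add, Fin.ofNat, Nat.add_mod]
    rw [mul_smul_comm, ← pow_add, hval, smul_smul]
    congr 1
    · have hz : ζ ^ (j * ((i + k.val) % p)) = ζ ^ (j * (i + k.val)) := by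
        rw [mul_comm j, pow_mul, ← pow_eq_pow_mod _ hζ.pow_eq_one, ← pow_mul, mul_comm]
      rw [hz, mul_add, pow_add, inv_mul_cancel_left₀ (pow_ne_zero _ (hζ.ne_zero hp.ne_zero))]
    · rw [← pow_eq_pow_mod _ hAp]
  let e : ℕ → Module.End ℂ (Fin n → ℂ) := fun j => (p : ℂ)⁻¹ • S j
  have hidem : ∀ j, e j * e j = e j := by
    intro j
    show ((p : ℂ)⁻¹ • S j) * ((p : ℂ)⁻¹ • S j) = (p : ℂ)⁻¹ • S j
    rw [smul_mul_smul_comm]
    have h1 : S j * S j = (p : ℂ) • S j := by
      conv_lhs => arg 1; change ∑ i : Fin p, (ζ ^ (j * i.val)) • A ^ i.val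
      rw [Finset.sum_mul]
      rw [Finset.sum_congr rfl fun i _ => by
        rw [smul_mul_assoc, hstep, smul_smul, mul_inv_cancel₀ (pow_ne_zero _ (hζ.ne_zero hp.ne_zero)), one_smul]]
      rw [Finset.sum_const, Finset.card_univ, Fintype.card_fin, ← Nat.cast_smul_eq_nsmul ℂ]
    rw [h1, smul_smul]
    congr 1
    field_simp
  have hrank : ∀ j, Module.finrank ℂ (LinearMap.range (e j)) = 1 := by
    intro j
    have h1 := trace_idem (e j) (hidem j)
    have h2 : LinearMap.trace ℂ (Fin n → ℂ) (e j) = 1 := by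
      show LinearMap.trace ℂ (Fin n → ℂ) ((p : ℂ)⁻¹ • ∑ i : Fin p, (ζ ^ (j * i.val)) • A ^ i.val) = 1
      rw [map_smul, map_sum, Finset.sum_eq_single (0 : Fin p)]
      · simp [LinearMap.trace_one, hfin, inv_mul_cancel₀ hp0, smul_eq_mul]
      · intro i _ hi
        rw [map_smul, hA, ← map_pow, htr, if_neg, smul_zero]
        exact pow_ne_one_of_lt_orderOf (fun h => hi (Fin.ext h)) (by rw [hord]; exact i.isLt)
      · simp
    rw [h2] at h1
    exact_mod_cast h1
  have hsum : ∀ v, ∑ j : Fin p, e j.val v = v := by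
    intro v
    show ∑ j : Fin p, ((p : ℂ)⁻¹ • ∑ i : Fin p, (ζ ^ (j.val * i.val)) • A ^ i.val) v = v
    simp only [LinearMap.smul_apply, LinearMap.sum_apply, Finset.smul_sum]
    rw [Finset.sum_comm, Finset.sum_eq_single (0 : Fin p)]
    · rw [Finset.sum_congr rfl fun j _ => show (p : ℂ)⁻¹ • ζ ^ (j.val * (0 : Fin p).val) • (A ^ (0 : Fin p).val) v =
        (p : ℂ)⁻¹ • v by simp]
      rw [Finset.sum_const, Finset.card_univ, Fintype.card_fin, ← Nat.cast_smul_eq_nsmul ℂ, smul_smul,
        mul_inv_cancel₀ hp0, one_smul]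
    · intro i _ hi
      rw [← Finset.smul_sum, ← Finset.sum_smul]
      have hgeom : ∑ j : Fin p, ζ ^ (j.val * i.val) = 0 := by
        have h1 : ζ ^ i.val ≠ 1 := hζ.pow_ne_one_of_pos_of_lt (fun h => hi (Fin.ext h)) i.isLt
        rw [Fin.sum_univ_eq_sum_range (fun j => ζ ^ (j * i.val)) p]
        simp only [mul_comm _ i.val, pow_mul]
        rw [geom_sum_eq h1, ← pow_mul, mul_comm, pow_mul, hζ.pow_eq_one, one_pow, sub_self, zero_div]
      rw [hgeom, zero_smul, smul_zero]
    · simp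
  -- elements of `P` commute
  have hscal : ∀ (a : ↥(P : Subgroup G)) (j : ℕ), ∃ c : ℂ, ∀ v, ρ (a : G) (e j v) = c • e j v := by
    intro a j
    obtain ⟨w, hw0, hw⟩ := finrank_eq_one_iff'.1 (hrank j)
    have hcomm : ρ (a : G) * e j = e j * ρ (a : G) := by
      have hc : Commute (ρ (a : G)) A := by
        rw [hA]
        show ρ (a : G) * ρ (((x : ↥(P : Subgroup G))) : G) = ρ (((x : ↥(P : Subgroup G))) : G) * ρ (a : G)
        rw [← map_mul, ← map_mul]
        exact congrArg ρ (congrArg Subtype.val (Subgroup.mem_center_iff.1 x.2 a))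
      exact (Commute.sum_right _ _ _ fun i _ => (hc.pow_right i.val).smul_right _).smul_right _
    obtain ⟨y, hy⟩ := LinearMap.mem_range.1 w.2
    obtain ⟨c, hc⟩ := hw ⟨ρ (a : G) w, ρ (a : G) y, by
      rw [← hy, ← Module.End.mul_apply, ← Module.End.mul_apply, hcomm]⟩
    refine ⟨c, fun v => ?_⟩
    obtain ⟨d, hd⟩ := hw ⟨e j v, v, rfl⟩
    have hd' : d • (w : Fin n → ℂ) = e j v := congrArg Subtype.val hd
    have hc' : c • (w : Fin n → ℂ) = ρ (a : G) w := congrArg Subtype.val hc
    rw [← hd', map_smul, ← hc', smul_comm]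
  have hab : ∀ a b : ↥(P : Subgroup G), a * b = b * a := by
    intro a b
    refine Subtype.ext (mul_inv_eq_one.1 (hker _ ?_))
    have h1 : ρ (((a * b : ↥(P : Subgroup G)) : G)) = ρ ((b * a : ↥(P : Subgroup G)) : G) := by
      refine LinearMap.ext fun v => ?_
      rw [← hsum v, map_sum, map_sum]
      refine Finset.sum_congr rfl fun j _ => ?_
      obtain ⟨c, hc⟩ := hscal a j.val
      obtain ⟨d, hd⟩ := hscal b j.val
      rw [Subgroup.coe_mul, Subgroup.coe_mul, map_mul, map_mul, Module.End.mul_apply, Module.End.mul_apply,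
        hd, map_smul, hc, map_smul, hd, smul_comm]
    rw [map_mul, h1, ← map_mul, mul_inv_cancel, map_one]
  have hZtop : Z = ⊤ := eq_top_iff.2 fun a _ => Subgroup.mem_center_iff.2 fun b => hab b a
  rw [hZtop, Subgroup.card_top] at hZp
  have h3 := Nat.le_of_dvd hp.pos (hZp ▸ hcardP)
  nlinarith [hp.two_le]


/-- Let `p` be a prime and `G` a finite group with a faithful irreducible complex character of degree `p` (so `G` is an irreducible linear group in `p` variables). If `p ^ 2` divides the order of `G`, then the centre of `G` is nontrivial. -/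
theorem result {G : Type*} [Group G] [Finite G] (p : ℕ) (hp : p.Prime) (χ : Cfsg.IrrCharacter G) (hdeg : χ.1 1 = p) (hfaith : ∀ g : G, χ.1 g = χ.1 1 → g = 1) (hdiv : p ^ 2 ∣ Nat.card G) : Subgroup.center G ≠ ⊥ := by
  haveI := Fact.mk hp
  obtain ⟨χ, n, ρ, hρ, rfl⟩ := χ
  intro hcen
  have hn : n = p := by
    have h := Representation.char_one ρ
    rw [Module.finrank_fin_fun] at h
    have h2 : (n : ℂ) = p := h.symm.trans hdeg
    exact_mod_cast h2
  exact blichfeldt ρ hn (fun g hg => hfaith g (by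
    show LinearMap.trace ℂ _ (ρ g) = LinearMap.trace ℂ _ (ρ 1)
    rw [hg, MonoidHom.map_one])) hdiv hcen


end Cfsg.Agent.S3968
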