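import Cfsg.Statements.S3969
-- import your own Cfsg.Agent.* helpers here
import Mathlib
import Cfsg.Agent.Lib.Fusion.Abelian

set_option autoImplicit false
open Cfsg

namespace Cfsg.Agent.S3969

open Subgroup CfsgLib.Fusion
open scoped IsMulCommutative

universe u
variable {G : Type u} [Group G] [Finite G] {p : ℕ} [hp : Fact p.Prime]

omit [Finite G] in
/-- An element of `p'`-order fixing `Ω₁` of an abelian `p`-group fixes the whole group. -/
theorem fixes_of_fixes_omega (P : Subgroup G) (hab : IsMulCommutative P) {y : G}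
    (hy : y ∈ normalizer (P : Set G)) (hcop : (orderOf y).Coprime p)
    (h : ∀ x ∈ P, x ^ p = 1 → y * x * y⁻¹ = x) :
    ∀ (k : ℕ), ∀ x ∈ P, x ^ p ^ k = 1 → y * x * y⁻¹ = x := by
  intro k
  induction k with
  | zero => intro x _ hx; rw [pow_zero, pow_one] at hx; subst hx; group
  | succ k ih =>
    intro x hx hxk
    have hxp : y * x ^ p * y⁻¹ = x ^ p :=
      ih _ (P.pow_mem hx p) (by rw [← pow_mul, ← pow_succ']; exact hxk)
    have hyx : y * x * y⁻¹ ∈ P := (Subgroup.mem_normalizer_iff.1 hy x).1 hx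
    set c := y * x * y⁻¹ * x⁻¹ with hc
    have hcP : c ∈ P := P.mul_mem hyx (P.inv_mem hx)
    have hcom : Commute (y * x * y⁻¹) x⁻¹ :=
      congrArg Subtype.val (hab.is_comm.comm (⟨_, hyx⟩ : P) ⟨x⁻¹, P.inv_mem hx⟩)
    have hcp : c ^ p = 1 := by
      rw [hc, hcom.mul_pow, conj_pow, inv_pow, hxp, mul_inv_cancel]
    have hfix := h c hcP hcp
    have hit : ∀ j : ℕ, y ^ j * x * (y ^ j)⁻¹ = c ^ j * x := by
      intro j
      induction j with
      | zero => simp
      | succ j ihj =>
        calc y ^ (j + 1) * x * (y ^ (j + 1))⁻¹ = y * (y ^ j * x * (y ^ j)⁻¹) * y⁻¹ := by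
              rw [pow_succ']; group
          _ = y * (c ^ j * x) * y⁻¹ := by rw [ihj]
          _ = (y * c * y⁻¹) ^ j * (y * x * y⁻¹) := by rw [conj_pow]; group
          _ = c ^ j * (c * x) := by
              rw [hfix, show y * x * y⁻¹ = c * x by rw [hc]; group]
          _ = c ^ (j + 1) * x := by rw [pow_succ, ← mul_assoc]
    have h1 := hit (orderOf y)
    rw [pow_orderOf_eq_one, one_mul, inv_one, mul_one, right_eq_mul] at h1
    have hc1 : c = 1 := by
      have := Nat.eq_one_of_dvd_coprimes hcop (orderOf_dvd_of_pow_eq_one h1)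
        (orderOf_dvd_of_pow_eq_one hcp)
      exact orderOf_eq_one_iff.1 this
    exact mul_inv_eq_one.1 hc1

/-- `Ω₁` of an abelian `p`-group has order dividing `p ^ rank`. -/
theorem exists_omega (P : Subgroup G) (hab : IsMulCommutative P) (hP : IsPGroup p P) :
    ∃ (Ω : Subgroup G) (a : ℕ), (∀ x, x ∈ Ω ↔ x ∈ P ∧ x ^ p = 1) ∧
      Nat.card Ω = p ^ a ∧ a ≤ Group.rank P := by
  haveI := hab
  let f : P →* P := powMonoidHom p
  obtain ⟨b, hb⟩ := hP.exists_card_eq
  have hker : Nat.card f.ker = f.range.index := by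
    have h1 := Subgroup.card_mul_index f.ker
    have h2 := Subgroup.card_mul_index f.range
    rw [Subgroup.index_ker] at h1
    exact Nat.eq_of_mul_eq_mul_left (Nat.card_pos (α := f.range))
      (((mul_comm _ _).trans h1).trans h2.symm)
  have hdvd : Nat.card (P ⧸ f.range) ∣ p ^ Group.rank P := by
    refine (card_dvd_exponent_pow_rank' (P ⧸ f.range) fun g => ?_).trans
      (pow_dvd_pow p (Group.rank_le_of_surjective (QuotientGroup.mk' f.range)
        (QuotientGroup.mk'_surjective _)))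
    obtain ⟨x, rfl⟩ := QuotientGroup.mk'_surjective _ g
    rw [← map_pow, QuotientGroup.mk'_apply, QuotientGroup.eq_one_iff]
    exact ⟨x, rfl⟩
  rw [← Subgroup.index_eq_card, ← hker] at hdvd
  obtain ⟨a, ha, hae⟩ := (Nat.dvd_prime_pow hp.out).1 hdvd
  refine ⟨f.ker.map P.subtype, a, fun x => ?_, ?_, ha⟩
  · constructor
    · rintro ⟨z, hz, rfl⟩
      exact ⟨z.2, congrArg Subtype.val (MonoidHom.mem_ker.1 hz)⟩
    · rintro ⟨hx, hxp⟩
      exact ⟨⟨x, hx⟩, MonoidHom.mem_ker.2 (Subtype.ext hxp), rfl⟩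
  · rw [← hae]
    exact Nat.card_congr (f.ker.equivMapOfInjective P.subtype P.subtype_injective).toEquiv.symm

/-- Let `P` be an abelian Sylow `p`-subgroup of the finite group `G`, generated by `d` elements (`d` its minimal number of generators). If the order of `G` is coprime to `(p - 1)(p ^ 2 - 1) ⋯ (p ^ d - 1)`, then `G` has a normal `p`-complement. (The classical statement needs only the largest number of cyclic factors of `P` of equal order in place of `d`; the form here follows from it.) -/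
theorem result {G : Type*} [Group G] [Finite G] (p : ℕ) [Fact p.Prime] (P : Sylow p G) (hab : IsMulCommutative (P : Subgroup G)) (hcop : Nat.Coprime (Nat.card G) (∏ i ∈ Finset.Icc 1 (Group.rank (P : Subgroup G)), (p ^ i - 1))) : Cfsg.HasNormalPComplement p G := by
  obtain ⟨Ω, a, hΩ, hcard, ha⟩ := exists_omega (P : Subgroup G) hab P.2
  refine hasNormalPComplement_of_normalizer_le_centralizer P
    (le_of_forall_prime_pow fun q hq x hx hk => ?_)
  haveI := Fact.mk hq
  by_cases hx1 : x = 1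
  · subst hx1; exact one_mem _
  obtain ⟨k, hk⟩ := hk
  obtain ⟨j, -, hj⟩ := (Nat.dvd_prime_pow hq).1 (orderOf_dvd_of_pow_eq_one hk)
  rcases eq_or_ne q p with rfl | hqp
  · have hz : IsPGroup q (Subgroup.zpowers x) := IsPGroup.of_card ((Nat.card_zpowers x).trans hj)
    obtain ⟨c, hc, hc2⟩ := exists_conj_le_of_not_dvd_relIndex P.2 Subgroup.le_normalizer
      (fun hd => P.not_dvd_index (hd.trans
        (Subgroup.relIndex_dvd_index_of_le Subgroup.le_normalizer))) hz (Subgroup.zpowers_le.2 hx)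
    have hxP : x ∈ (P : Subgroup G) := (Subgroup.mem_normalizer_iff.1 hc x).2
      (conjBy_le_iff.1 hc2 x (Subgroup.mem_zpowers x))
    exact Subgroup.mem_centralizer_iff.2 fun v hv =>
      congrArg Subtype.val (hab.is_comm.comm (⟨v, hv⟩ : (P : Subgroup G)) ⟨x, hxP⟩)
  · have hqdvd : q ∣ Nat.card G := by
      have hj0 : j ≠ 0 := fun h0 => hx1 (orderOf_eq_one_iff.1 (by rw [hj, h0, pow_zero]))
      exact (dvd_pow_self q hj0).trans (hj ▸ orderOf_dvd_natCard x)
    have hxΩ : x ∈ normalizer (Ω : Set G) := Subgroup.mem_normalizer_fintype fun z hz => by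
      rw [SetLike.mem_coe, hΩ] at hz ⊢
      exact ⟨(Subgroup.mem_normalizer_iff.1 hx z).1 hz.1, by rw [conj_pow, hz.2]; group⟩
    have hcen := mem_centralizer_of_prime_pow hcard hxΩ ⟨k, hk⟩ hqp (fun i hi hia hdvd => by
      have h1 : q ∣ ∏ i ∈ Finset.Icc 1 (Group.rank (P : Subgroup G)), (p ^ i - 1) :=
        hdvd.trans (Finset.dvd_prod_of_mem _ (Finset.mem_Icc.2 ⟨hi, hia.trans ha⟩))
      exact hq.not_dvd_one (hcop ▸ Nat.dvd_gcd hqdvd h1))
    obtain ⟨b, hb⟩ := P.2.exists_card_eq
    refine Subgroup.mem_centralizer_iff.2 fun v hv => ?_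
    refine (mul_inv_eq_iff_eq_mul.1 (fixes_of_fixes_omega (P : Subgroup G) hab hx ?_
      (fun z hz hzp => mul_inv_eq_iff_eq_mul.2
        (Subgroup.mem_centralizer_iff.1 hcen z ((hΩ z).2 ⟨hz, hzp⟩)).symm) b v hv ?_)).symm
    · rw [hj]; exact Nat.Coprime.pow_left _ ((Nat.coprime_primes hq Fact.out).2 hqp)
    · rw [← hb]; exact congrArg Subtype.val (pow_card_eq_one' (x := (⟨v, hv⟩ : (P : Subgroup G))))

end Cfsg.Agent.S3969
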