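import Cfsg.Statements.S3970
-- import your own Cfsg.Agent.* helpers here
import Mathlib
import Cfsg.Agent.S3969

set_option autoImplicit false
open Cfsg

namespace Cfsg.Agent.S3970

open Subgroup

universe u

theorem rank_le_one {P : Type*} [Group P] [Finite P] [IsCyclic P] : Group.rank P ≤ 1 := by
  classical
  obtain ⟨g, hg⟩ := IsCyclic.exists_generator (α := P)
  refine (Group.rank_le (S := {g}) ?_).trans (le_of_eq (Finset.card_singleton g))
  rw [Finset.coe_singleton, ← Subgroup.zpowers_eq_closure]
  exact eq_top_iff.2 fun x _ => hg x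

/-- The smallest prime divisor has a normal complement. -/
theorem complement_smallest {G : Type u} [Group G] [Finite G] {p : ℕ} [hp : Fact p.Prime]
    (hmin : ∀ q : ℕ, q.Prime → q ∣ Nat.card G → p ≤ q)
    (P : Sylow p G) (hab : IsMulCommutative (P : Subgroup G))
    (hr : Group.rank (P : Subgroup G) ≤ 2) (h12 : ¬ 12 ∣ Nat.card G) :
    Cfsg.HasNormalPComplement p G := by
  refine S3969.result p P hab (Nat.coprime_of_dvd fun q hq hqG hqd => ?_)
  obtain ⟨i, hi, hqi⟩ := (hq.prime.dvd_finsetProd_iff _).1 hqd
  rw [Finset.mem_Icc] at hi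
  have hpq := hmin q hq hqG
  have h1p := hp.out.two_le
  rcases (show i = 1 ∨ i = 2 by omega) with rfl | rfl
  · rw [pow_one] at hqi
    exact absurd (Nat.le_of_dvd (by omega) hqi) (by omega)
  · have hd : q ∣ (p + 1) * (p - 1) := by
      have h := Nat.sq_sub_sq p 1
      rw [one_pow] at h
      rwa [← h]
    rcases hq.dvd_mul.1 hd with hd | hd
    · have hle := Nat.le_of_dvd (by omega) hd
      have hne : q ≠ p := fun e => by
        subst e
        exact hq.not_dvd_one ((Nat.dvd_add_right dvd_rfl).1 hd)
      have hq1 : q = p + 1 := by omega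
      have hp2 : p = 2 := by
        rcases hp.out.eq_two_or_odd with h | h
        · exact h
        · rcases hq.eq_two_or_odd with h' | h' <;> omega
      subst hp2
      subst hq1
      -- `3 ∣ |G|`, so `4 ∤ |G|` and the Sylow `2`-subgroup is cyclic
      have h4 : ¬ 4 ∣ Nat.card G := fun h4 => h12
        (show 4 * 3 ∣ Nat.card G from Nat.Coprime.mul_dvd_of_dvd_of_dvd (by norm_num) h4 hqG)
      obtain ⟨k, hk⟩ := P.2.exists_card_eq
      have hk1 : k ≤ 1 := by
        by_contra hk1
        refine h4 ((pow_dvd_pow 2 (show 2 ≤ k by omega)).trans ?_)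
        rw [← hk]; exact Subgroup.card_subgroup_dvd_card _
      haveI : IsCyclic (P : Subgroup G) := by
        rcases (show k = 0 ∨ k = 1 by omega) with rfl | rfl
        · haveI : Subsingleton (P : Subgroup G) :=
            (Nat.card_eq_one_iff_unique.1 (by rw [hk, pow_zero])).1
          infer_instance
        · exact isCyclic_of_prime_card (p := 2) (by rw [hk, pow_one])
      have := rank_le_one (P := (P : Subgroup G))
      omega
    · exact absurd (Nat.le_of_dvd (by omega) hd) (by omega)

/-- The hypothesis of the statement. -/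
def Small (G : Type u) [Group G] [Finite G] : Prop :=
  ∀ p : ℕ, p.Prime → p ∣ Nat.card G → (∃ q : ℕ, q.Prime ∧ q ∣ Nat.card G ∧ p < q) →
    ∀ P : Sylow p G, IsMulCommutative (P : Subgroup G) ∧ Group.rank (P : Subgroup G) ≤ 2

theorem solvable_of_small : ∀ n : ℕ, ∀ (G : Type u) [Group G] [Finite G], Nat.card G = n →
    Small G → ¬ 12 ∣ Nat.card G → Group.IsSolvable G := by
  intro n
  induction n using Nat.strong_induction_on with
  | _ n ih =>
    intro G _ _ hn h h12
    rcases subsingleton_or_nontrivial G with hG | hG
    · infer_instance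
    set p := (Nat.card G).minFac with hpdef
    have hG1 : Nat.card G ≠ 1 := (Finite.one_lt_card (α := G)).ne'
    have hp : p.Prime := Nat.minFac_prime hG1
    haveI := Fact.mk hp
    have hmin : ∀ q : ℕ, q.Prime → q ∣ Nat.card G → p ≤ q :=
      fun q hq hd => Nat.minFac_le_of_dvd hq.two_le hd
    by_cases hlarge : ∃ q : ℕ, q.Prime ∧ q ∣ Nat.card G ∧ p < q
    · have hpd := Nat.minFac_dvd (Nat.card G)
      obtain ⟨hab, hr⟩ := h p hp hpd hlarge default
      obtain ⟨P, N, hN, hc⟩ := complement_smallest hmin default hab hr h12
      haveI := hN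
      have hidx : N.index = Nat.card P := hc.symm.index_eq_card
      have hcN : Nat.card N * Nat.card P = Nat.card G := hc.card_mul_card
      have hlt : Nat.card N < n := by
        rw [← hn, ← hcN]
        refine lt_mul_of_one_lt_right Nat.card_pos ?_
        haveI : Nontrivial (P : Subgroup G) :=
          (Subgroup.nontrivial_iff_ne_bot _).2 (P.ne_bot_of_dvd_card hpd)
        exact Finite.one_lt_card
      have hNd : Nat.card N ∣ Nat.card G := Subgroup.card_subgroup_dvd_card N
      have hsN : Small N := by
        intro r hr' hrN hex Q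
        haveI := Fact.mk hr'
        have hrp : r ≠ p := fun e => P.not_dvd_index (by rw [hc.index_eq_card, ← e]; exact hrN)
        obtain ⟨q, hq, hqN, hrq⟩ := hex
        have hQcard : Nat.card ((Q : Subgroup N).map N.subtype) =
            r ^ (Nat.card G).factorization r := by
          rw [← Nat.card_congr ((Q : Subgroup N).equivMapOfInjective N.subtype
            N.subtype_injective).toEquiv, Q.card_eq_multiplicity, ← hcN,
            Nat.factorization_mul Nat.card_pos.ne' Nat.card_pos.ne', Finsupp.add_apply]
          obtain ⟨k, hk⟩ := P.2.exists_card_eq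
          rw [hk, Nat.factorization_pow, Finsupp.smul_apply,
            Nat.factorization_eq_zero_of_not_dvd
              (fun hd => hrp ((Nat.prime_dvd_prime_iff_eq hr' hp).1 hd)), smul_zero, add_zero]
        obtain ⟨R, hR⟩ := ((IsPGroup.of_card hQcard : IsPGroup r ((Q : Subgroup N).map N.subtype))
          ).exists_le_sylow
        have hR' : (R : Subgroup G) = (Q : Subgroup N).map N.subtype :=
          (Subgroup.eq_of_le_of_card_ge hR (by rw [R.card_eq_multiplicity, hQcard])).symm
        obtain ⟨hab', hr2⟩ := h r hr' (hrN.trans hNd) ⟨q, hq, hqN.trans hNd, hrq⟩ R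
        let e : (Q : Subgroup N) ≃* (R : Subgroup G) :=
          ((Q : Subgroup N).equivMapOfInjective N.subtype N.subtype_injective).trans
            (MulEquiv.subgroupCongr hR'.symm)
        exact ⟨⟨⟨fun a b => e.injective (by rw [map_mul, map_mul, hab'.is_comm.comm])⟩⟩,
          (Group.rank_congr e).le.trans hr2⟩
      have hsolN := ih _ hlt N rfl hsN fun hd => h12 (hd.trans hNd)
      haveI : Group.IsNilpotent (G ⧸ N) := by
        obtain ⟨k, hk⟩ := P.2.exists_card_eq
        exact (IsPGroup.of_card (p := p) (n := k)
          (by rw [← Subgroup.index_eq_card, hidx, hk])).isNilpotent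
      exact solvable_of_ker_le_range N.subtype (QuotientGroup.mk' N) (by simp)
    · push Not at hlarge
      have hpg : IsPGroup p G := IsPGroup.of_card (n := (Nat.card G).primeFactorsList.length)
        (Nat.eq_prime_pow_of_unique_prime_dvd Nat.card_pos.ne' fun {q} hq hd =>
          le_antisymm (hlarge q hq hd) (hmin q hq hd))
      haveI := hpg.isNilpotent
      infer_instance

/-- Let `G` be a finite group such that for every prime `p` dividing its order, other than the largest such prime, the Sylow `p`-subgroups are abelian and generated by at most two elements, and suppose `12` does not divide the order of `G`. Then `G` is solvable. In particular a group of cube-free order not divisible by `12` is solvable. -/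
theorem result {G : Type*} [Group G] [Finite G] (h : ∀ p : ℕ, p.Prime → p ∣ Nat.card G → (∃ q : ℕ, q.Prime ∧ q ∣ Nat.card G ∧ p < q) → ∀ P : Sylow p G, IsMulCommutative (P : Subgroup G) ∧ Group.rank (P : Subgroup G) ≤ 2) (h12 : ¬ 12 ∣ Nat.card G) : Group.IsSolvable G := by
  exact solvable_of_small _ G rfl h h12

end Cfsg.Agent.S3970
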