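import Cfsg.Statements.S3976
import Cfsg.Agent.Lib.PGroup.SubgroupCount
import Mathlib.GroupTheory.PGroup
-- import your own Cfsg.Agent.* helpers here

set_option autoImplicit false
open Cfsg

namespace Cfsg.Agent.S3976

/-- Let `p` be a prime and `G` a group of order `p ^ m`. For every `s ≤ m` the number of normal subgroups of `G` of order `p ^ s` is congruent to `1` modulo `p`. -/
theorem result {G : Type*} [Group G] [Finite G] (p m s : ℕ) (hp : p.Prime) (hG : Nat.card G = p ^ m) (hs : s ≤ m) : Nat.card {H : Subgroup G // H.Normal ∧ Nat.card H = p ^ s} ≡ 1 [MOD p] := by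
  classical
  haveI := Fact.mk hp
  have hpg : IsPGroup p G := IsPGroup.of_card hG
  let X := {H : Subgroup G // Nat.card H = p ^ s}
  letI act : MulAction G X :=
    { smul := fun g H => ⟨H.1.map (MulAut.conj g).toMonoidHom, by
        rw [Subgroup.card_map_of_injective (MulEquiv.injective _)]; exact H.2⟩
      one_smul := fun H => Subtype.ext (by
        show H.1.map (MulAut.conj (1 : G)).toMonoidHom = H.1
        rw [map_one]; exact Subgroup.map_id _)
      mul_smul := fun a b H => Subtype.ext (by
        show H.1.map (MulAut.conj (a * b)).toMonoidHom =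
          (H.1.map (MulAut.conj b).toMonoidHom).map (MulAut.conj a).toMonoidHom
        rw [Subgroup.map_map, map_mul]; rfl) }
  have h1 := hpg.card_modEq_card_fixedPoints X
  have h2 := CfsgLib.PGroup.card_subgroups_prime_pow_modEq (G := G) p s hp (hG ▸ pow_dvd_pow p hs)
  have e : MulAction.fixedPoints G X ≃ {H : Subgroup G // H.Normal ∧ Nat.card H = p ^ s} :=
    { toFun := fun H => ⟨H.1.1, ⟨fun n hn g => by
        have h : H.1.1.map (MulAut.conj g).toMonoidHom = H.1.1 := congrArg Subtype.val (H.2 g)
        rw [← h]
        exact Subgroup.mem_map_of_mem _ hn⟩, H.1.2⟩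
      invFun := fun H => ⟨⟨H.1, H.2.2⟩, fun g => Subtype.ext (by
        show H.1.map (MulAut.conj g).toMonoidHom = H.1
        haveI := H.2.1
        exact Subgroup.mem_normalizer_iff_map_conj_eq.1 (by rw [Subgroup.normalizer_eq_top]; trivial))⟩
      left_inv := fun H => rfl
      right_inv := fun H => rfl }
  rw [Nat.card_congr e] at h1
  exact h1.symm.trans h2

end Cfsg.Agent.S3976
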