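import Cfsg.Statements.S3977
import Cfsg.Agent.Lib.PGroup.OmegaCentral
import Cfsg.Agent.Lib.Coprime.PGroupFrattini
-- import your own Cfsg.Agent.* helpers here

set_option autoImplicit false
open Cfsg

namespace Cfsg.Agent.S3977

open Subgroup

universe u

private theorem aux : ∀ (G : Type u) [Group G] [Finite G] (p m s : ℕ), p.Prime →
    Nat.card G = p ^ m → 1 ≤ s → s < m → (p ≠ 2 ∨ 2 ≤ s) →
    (∀ H K : Subgroup G, Nat.card H = p ^ s → Nat.card K = p ^ s → H = K) → IsCyclic G := by
  intro G _ _ p m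
  induction m using Nat.strong_induction_on generalizing G with
  | _ m ih =>
    intro s hp hG hs hsm h2 huniq
    haveI := Fact.mk hp
    have hpg : IsPGroup p G := IsPGroup.of_card hG
    obtain ⟨H, hH⟩ := Sylow.exists_subgroup_card_pow_prime p (n := s) (hG ▸ pow_dvd_pow p hsm.le)
    have hlarge : ∀ K : Subgroup G, ∀ k, s ≤ k → Nat.card K = p ^ k → H ≤ K := by
      intro K k hk hKc
      obtain ⟨L, hL⟩ := Sylow.exists_subgroup_card_pow_prime p (n := s) (G := K)
        (hKc ▸ pow_dvd_pow p hk)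
      have h1 := huniq H (L.map K.subtype) hH (by rwa [card_map_of_injective K.subtype_injective])
      rw [h1]
      exact map_subtype_le L
    have hcard : ∀ M : Subgroup G, IsCoatom M → Nat.card M = p ^ (m - 1) := by
      intro M hM
      obtain ⟨_, hMi⟩ := CfsgLib.Coprime.coatom_data_of_pGroup hpg hM
      have h1 := M.index_mul_card
      rw [hMi, hG, show m = (m - 1) + 1 by omega, pow_succ'] at h1
      exact Nat.eq_of_mul_eq_mul_left hp.pos h1
    have hcyc : ∀ M : Subgroup G, IsCoatom M → s < m - 1 → IsCyclic M := by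
      intro M hM hlt
      refine ih (m - 1) (by omega) M s hp (hcard M hM) hs hlt h2 fun A B hA hB => ?_
      apply map_injective M.subtype_injective
      exact huniq _ _ (by rwa [card_map_of_injective M.subtype_injective])
        (by rwa [card_map_of_injective M.subtype_injective])
    haveI : Nontrivial G := Finite.one_lt_card_iff_nontrivial.1
      (hG ▸ Nat.one_lt_pow (by omega) hp.one_lt)
    -- one maximal subgroup gives a cyclic group
    by_cases huM : ∀ M N : Subgroup G, IsCoatom M → IsCoatom N → M = N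
    · obtain ⟨M, hM, -⟩ := (eq_top_or_exists_le_coatom (⊥ : Subgroup G)).resolve_left bot_ne_top
      obtain ⟨x, hx⟩ : ∃ x, x ∉ M := by
        by_contra h
        push Not at h
        exact hM.1 (eq_top_iff.2 fun x _ => h x)
      rcases eq_top_or_exists_le_coatom (zpowers x) with h | ⟨N, hN, hle⟩
      · exact ⟨⟨x, fun y => by
          have : y ∈ zpowers x := h ▸ mem_top y
          exact this⟩⟩
      · exact absurd (hle (mem_zpowers x)) (huM N M hN hM ▸ hx)
    push Not at huM
    obtain ⟨M, N, hM, hN, hMN⟩ := huM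
    exfalso
    have hsm' : s < m - 1 := by
      refine lt_of_le_of_ne (by omega) fun h => hMN ?_
      exact huniq M N (h ▸ hcard M hM) (h ▸ hcard N hN)
    obtain ⟨⟨a, haM⟩, ha⟩ := (hcyc M hM hsm').exists_generator
    obtain ⟨⟨b, hbN⟩, hb⟩ := (hcyc N hN hsm').exists_generator
    have hMa : M = zpowers a := by
      refine le_antisymm (fun y hy => ?_) (zpowers_le.2 haM)
      obtain ⟨k, hk⟩ := ha ⟨y, hy⟩
      exact ⟨k, congrArg Subtype.val hk⟩
    have hNb : N = zpowers b := by
      refine le_antisymm (fun y hy => ?_) (zpowers_le.2 hbN)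
      obtain ⟨k, hk⟩ := hb ⟨y, hy⟩
      exact ⟨k, congrArg Subtype.val hk⟩
    obtain ⟨hMn, hMi⟩ := CfsgLib.Coprime.coatom_data_of_pGroup hpg hM
    obtain ⟨hNn, hNi⟩ := CfsgLib.Coprime.coatom_data_of_pGroup hpg hN
    have haN : a ∉ N := fun h => hMN ((eq_of_le_of_card_ge (hMa ▸ zpowers_le.2 h)
      (le_of_eq ((hcard N hN).trans (hcard M hM).symm))))
    have hbM : b ∉ M := fun h => hMN ((eq_of_le_of_card_ge (hNb ▸ zpowers_le.2 h)
      (le_of_eq ((hcard M hM).trans (hcard N hN).symm)))).symm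
    -- the intersection is generated by the `p`-th powers
    have hxp : ∀ z : G, z ^ p ∈ M ⊓ N := fun z =>
      ⟨hMi ▸ M.pow_index_mem z, hNi ▸ N.pow_index_mem z⟩
    have hpos : 1 ≤ m - 1 := by omega
    have hao : orderOf a = p ^ (m - 1) := by rw [← Nat.card_zpowers, ← hMa, hcard M hM]
    have hbo : orderOf b = p ^ (m - 1) := by rw [← Nat.card_zpowers, ← hNb, hcard N hN]
    have hint : ∀ z ∈ M ⊓ N, z ∈ zpowers (a ^ p) := by
      rintro z ⟨hzM, hzN⟩
      rw [hMa] at hzM
      obtain ⟨k, rfl⟩ := hzM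
      have hk : (p : ℤ) ∣ k := by
        by_contra hk
        have hcop : IsCoprime k (p : ℤ) :=
          ((Nat.prime_iff_prime_int.1 hp).coprime_iff_not_dvd.2 hk).symm
        obtain ⟨u, v, huv⟩ := hcop
        refine haN ?_
        have : a = (a ^ k) ^ u * (a ^ p) ^ v := by
          rw [← zpow_natCast, ← zpow_mul, ← zpow_mul, ← zpow_add, mul_comm k, mul_comm (p : ℤ),
            huv, zpow_one]
        rw [this]
        exact mul_mem (zpow_mem (show a ^ k ∈ N from hzN) u) (zpow_mem (show a ^ p ∈ N from (hxp a).2) v)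
      obtain ⟨c, rfl⟩ := hk
      exact ⟨c, by simp [zpow_mul]⟩
    obtain ⟨u, hu⟩ := hint _ (hxp b)
    have hu' : b ^ p = (a ^ u) ^ p := by
      rw [← zpow_natCast (a ^ u), ← zpow_mul, mul_comm, zpow_mul, zpow_natCast]; exact hu.symm
    -- commutators are central
    have hcen : ∀ z ∈ M ⊓ N, Commute z a ∧ Commute z b := by
      rintro z ⟨hzM, hzN⟩
      rw [hMa] at hzM
      rw [hNb] at hzN
      obtain ⟨k, hk⟩ := hzM
      obtain ⟨l, hl⟩ := hzN
      exact ⟨hk ▸ ((Commute.refl a).zpow_left k), hl ▸ ((Commute.refl b).zpow_left l)⟩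
    set a' := (a ^ u)⁻¹ with ha'
    have ha'M : a' ∈ M := inv_mem (zpow_mem haM u)
    set c := b * a' * b⁻¹ * a'⁻¹ with hc
    have hcMN : c ∈ M ⊓ N := by
      refine mem_inf.2 ⟨mul_mem (hMn.conj_mem a' ha'M b) (inv_mem ha'M), ?_⟩
      rw [hc, show b * a' * b⁻¹ * a'⁻¹ = b * (a' * b⁻¹ * a'⁻¹) by group]
      exact mul_mem hbN (hNn.conj_mem _ (inv_mem hbN) a')
    obtain ⟨hca, hcb⟩ := hcen c hcMN
    have hca' : Commute c a' := (hca.zpow_right u).inv_right
    have hrel : b * a' = c * (a' * b) := by rw [hc]; group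
    have hpw := CfsgLib.PGroup.mul_pow_of_commute_commutator hrel hca' hcb p
    -- `c ^ p = 1`
    have hcp : c ^ p = 1 := by
      have h1 : (b * a' * b⁻¹) ^ p = a' ^ p := by
        rw [conj_pow]
        have h2 : Commute (a' ^ p) b := (hcen _ (hxp a')).2
        rw [← h2.eq, mul_inv_cancel_right]
      have h3 : b * a' * b⁻¹ = c * a' := by rw [hc]; group
      rw [h3, hca'.mul_pow] at h1
      exact mul_eq_right.1 h1
    set x := a' * b with hx
    have hxpow : x ^ p = c ^ p.choose 2 := by
      rw [hx, hpw, ha', hu', inv_pow, inv_mul_cancel, one_mul]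
    have hx1 : x ^ p ^ s = 1 := by
      rcases h2 with h | h
      · obtain ⟨d, hd⟩ := hp.dvd_choose_self two_ne_zero (lt_of_le_of_ne hp.two_le (Ne.symm h))
        rw [hd, pow_mul, hcp, one_pow] at hxpow
        exact orderOf_dvd_iff_pow_eq_one.1
          ((orderOf_dvd_of_pow_eq_one hxpow).trans (dvd_pow_self p (by omega)))
      · have h1 : x ^ (p * p) = 1 := by
          rw [pow_mul, hxpow, ← pow_mul, mul_comm, pow_mul, hcp, one_pow]
        exact orderOf_dvd_iff_pow_eq_one.1 ((orderOf_dvd_of_pow_eq_one h1).trans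
          ((pow_two p).symm.dvd.trans (pow_dvd_pow p h)))
    -- `x` lies in the unique subgroup of order `p ^ s`, hence in `M`
    obtain ⟨j, hj, hjx⟩ := (Nat.dvd_prime_pow hp).1 (orderOf_dvd_of_pow_eq_one hx1)
    obtain ⟨K, hK, hxK⟩ := Sylow.exists_subgroup_card_pow_prime_le p (m := s)
      (hG ▸ pow_dvd_pow p hsm.le) (zpowers x) (by rw [Nat.card_zpowers, hjx]) hj
    have hxM : x ∈ M := hlarge M (m - 1) hsm'.le (hcard M hM)
      (huniq H K hH hK ▸ hxK (mem_zpowers x))
    exact hbM ((mul_mem_cancel_left ha'M).1 hxM)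

/-- Let `p` be a prime and `G` a group of order `p ^ m` which has exactly one subgroup of order `p ^ s`, where `1 ≤ s < m`, and where `s ≥ 2` if `p = 2`. Then `G` is cyclic. (For `p = 2` and `s = 1` the generalized quaternion groups also occur; that case is the classical criterion for a unique involution.) -/
theorem result {G : Type*} [Group G] [Finite G] (p m s : ℕ) (hp : p.Prime) (hG : Nat.card G = p ^ m) (hs : 1 ≤ s) (hsm : s < m) (h2 : p ≠ 2 ∨ 2 ≤ s) (huniq : ∀ H K : Subgroup G, Nat.card H = p ^ s → Nat.card K = p ^ s → H = K) : IsCyclic G := by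
  exact aux G p m s hp hG hs hsm h2 huniq

end Cfsg.Agent.S3977
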