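import Cfsg.Statements.S3978
import Cfsg.Agent.Lib.PGroup.SchurCovers
-- import your own Cfsg.Agent.* helpers here

set_option autoImplicit false
open Cfsg

namespace Cfsg.Agent.S3978

/-- A finite group `Q` has trivial Schur multiplier if and only if, for every `n`, every homomorphism from `Q` to the projective general linear group (the quotient of `GL n ℂ` by its centre) lifts to a homomorphism into `GL n ℂ`. -/
theorem result {Q : Type*} [Group Q] [Finite Q] : Cfsg.HasCyclicSchurMultiplier Q 1 ↔ ∀ (n : ℕ) (γ : Q →* (GL (Fin n) ℂ ⧸ Subgroup.center (GL (Fin n) ℂ))), ∃ ρ : Q →* GL (Fin n) ℂ, (QuotientGroup.mk' (Subgroup.center (GL (Fin n) ℂ))).comp ρ = γ := by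
  have hid : Cfsg.IsStemExtension (MonoidHom.id Q) := CfsgLib.Schur.isStem_id
  constructor
  · intro h n γ
    haveI : Subsingleton (CfsgLib.Schur.mult Q) := CfsgLib.Schur.subsingleton_mult_iff.2 h
    haveI : Subsingleton (MonoidHom.id Q).ker := by rw [MonoidHom.ker_id]; infer_instance
    refine CfsgLib.Schur.exists_projective_lift (MonoidHom.id Q) (fun Δ _ _ τ hτs hτc => ?_) γ
    refine CfsgLib.Schur.noTwist_of_card hid ?_ hτs hτc
    rw [Nat.card_unique, Nat.card_unique]
  · intro h
    refine CfsgLib.Schur.hasCyclic_one_of_ker_eq_bot fun Δ _ _ τ hτ => ?_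
    obtain ⟨π, hπ⟩ := CfsgLib.Schur.exists_surjection_of_noTwist hid hτ
      (CfsgLib.Schur.noTwist_of_lifts (MonoidHom.id Q) h τ hτ.1 hτ.2.1)
    haveI : Subsingleton (MonoidHom.id Q).ker := by rw [MonoidHom.ker_id]; infer_instance
    haveI := hπ.subsingleton
    exact τ.ker.eq_bot_of_subsingleton

end Cfsg.Agent.S3978
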