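import Cfsg.Statements.S3981
-- import your own Cfsg.Agent.* helpers here
import Mathlib.GroupTheory.Nilpotent
import Mathlib.Algebra.Group.Subgroup.Pointwise
import Mathlib.GroupTheory.Sylow
import Mathlib.GroupTheory.PGroup

set_option autoImplicit false
open Cfsg
open scoped Pointwise

namespace Cfsg.Agent.S3981

open Subgroup in
/-- In a `p`-group over `Q`, some element of order `p` is centralized or inverted. -/
theorem exists_fixed_or_inverted {G : Type*} [Group G] [Finite G] (p : ℕ) [Fact p.Prime]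
    (Q R : Subgroup G) (hR : IsPGroup p ↥R) (y : G) (hy : y * y = 1)
    (hyQ : y ∈ normalizer (Q : Set G)) (hQR : Q ≤ R) (hne : R ≠ Q)
    (hyR : y ∈ normalizer (R : Set G)) :
    ∃ x ∈ normalizer (Q : Set G), x ∉ Q ∧ x ^ p ∈ Q ∧
      (y * x * y⁻¹ * x ∈ Q ∨ y * x * y⁻¹ * x⁻¹ ∈ Q) := by
  classical
  set N := normalizer (Q : Set G) with hN
  have hQN : Q ≤ N := le_normalizer
  haveI : (Q.subgroupOf N).Normal := (normal_subgroupOf_iff_le_normalizer hQN).2 le_rfl
  set π := QuotientGroup.mk' (Q.subgroupOf N) with hπ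
  set W : Subgroup N := R.subgroupOf N with hW
  set V := W.map π with hV
  have hWp : IsPGroup p W := hR.comap_subtype
  have hVp : IsPGroup p V := hWp.map π
  haveI : Nontrivial V := by
    rw [nontrivial_iff_ne_bot]
    intro e
    rw [hV, Subgroup.map_eq_bot_iff, hπ, QuotientGroup.ker_mk'] at e
    haveI : Group.IsNilpotent R := hR.isNilpotent
    have hlt : Q.subgroupOf R < ⊤ := lt_top_iff_ne_top.2 fun h =>
      hne (le_antisymm (subgroupOf_eq_top.1 h) hQR)
    have hgt := Group.normalizerCondition_of_isNilpotent (G := R) _ hlt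
    rw [← subgroupOf_normalizer_eq hQR] at hgt
    obtain ⟨r, hr, hrQ⟩ := SetLike.exists_of_lt hgt
    exact hrQ (mem_subgroupOf.2 (mem_subgroupOf.1
      (e (mem_subgroupOf.2 r.2 : (⟨r.1, mem_subgroupOf.1 hr⟩ : N) ∈ W))))
  haveI : Nontrivial (center V) := hVp.center_nontrivial
  obtain ⟨z, hz⟩ := exists_prime_orderOf_dvd_card' (G := center V) p
    ((hVp.to_subgroup _).card_eq_or_dvd.resolve_left (Finite.one_lt_card (α := center V)).ne')
  have zp : ((z : V) : N ⧸ Q.subgroupOf N) ^ p = 1 := by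
    rw [← Subgroup.coe_pow, ← Subgroup.coe_pow, ← hz, pow_orderOf_eq_one]; rfl
  have z1 : ((z : V) : N ⧸ Q.subgroupOf N) ≠ 1 := fun e => by
    have : z = 1 := Subtype.ext (Subtype.ext e)
    rw [this, orderOf_one] at hz
    exact (Fact.out : p.Prime).ne_one hz.symm
  obtain ⟨a, ha, hav⟩ := Subgroup.mem_map.1 (z : V).2
  let y' : N := ⟨y, hyQ⟩
  have hyy : π y' * π y' = 1 := by
    rw [← map_mul, show y' * y' = 1 from Subtype.ext hy, map_one]
  have hya : y' * a * y'⁻¹ ∈ W := mem_subgroupOf.2 ((mem_normalizer_iff.1 hyR _).1 (mem_subgroupOf.1 ha))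
  set v := π a with hv
  set v' := π y' * v * (π y')⁻¹ with hv'
  have hv'V : v' ∈ V := ⟨_, hya, by rw [map_mul, map_mul, map_inv]⟩
  have hc : Commute v v' := by
    have := mem_center_iff.1 z.2 ⟨v', hv'V⟩
    have e : v' * (((z : V)) : N ⧸ Q.subgroupOf N) = (((z : V)) : N ⧸ Q.subgroupOf N) * v' :=
      congrArg Subtype.val this
    rw [← hav] at e
    exact e.symm
  have vp : v ^ p = 1 := by rw [hav]; exact zp
  have v'p : v' ^ p = 1 := by rw [hv', conj_pow, vp, mul_one, mul_inv_cancel]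
  have mem : ∀ u : N, π u = 1 → (u : G) ∈ Q := fun u h =>
    mem_subgroupOf.1 ((QuotientGroup.eq_one_iff u).1 h)
  by_cases hw : v' * v = 1
  · refine ⟨a, a.2, fun h => z1 ?_, mem (a ^ p) (by rw [map_pow]; exact vp), Or.inl ?_⟩
    · rw [← hav]; exact (QuotientGroup.eq_one_iff a).2 (mem_subgroupOf.2 h)
    · exact mem (y' * a * y'⁻¹ * a) (by rw [map_mul, map_mul, map_mul, map_inv]; exact hw)
  · set b : N := y' * a * y'⁻¹ * a with hb
    have hbv : π b = v' * v := by rw [hb, map_mul, map_mul, map_mul, map_inv]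
    refine ⟨b, b.2, fun h => hw ?_, mem (b ^ p) ?_, Or.inr (mem (y' * b * y'⁻¹ * b⁻¹) ?_)⟩
    · rw [← hbv]; exact (QuotientGroup.eq_one_iff b).2 (mem_subgroupOf.2 h)
    · rw [map_pow, hbv, hc.symm.mul_pow, vp, v'p, one_mul]
    · rw [map_mul, map_mul, map_mul, map_inv, map_inv, hbv, mul_inv_eq_one]
      have hyi : (π y')⁻¹ = π y' := inv_eq_of_mul_eq_one_right hyy
      calc π y' * (v' * v) * (π y')⁻¹ = (π y' * v' * (π y')⁻¹) * v' := by rw [hv']; group
        _ = v * v' := by
          congr 1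
          rw [hv', hyi]
          calc π y' * (π y' * v * π y') * π y' = (π y' * π y') * v * (π y' * π y') := by group
            _ = v := by rw [hyy, one_mul, mul_one]
        _ = v' * v := hc.eq

/-- Let p be an odd prime, Q a p-subgroup of the finite group G and y an involution normalizing Q. Then Q is maximal among the p-subgroups of G normalized by y if and only if the image of y in N_G(Q) ⧸ Q neither inverts nor centralizes any element of order p there; the latter is phrased inside N_G(Q): for every x in N_G(Q) outside Q with x ^ p ∈ Q, neither y x y⁻¹ x nor y x y⁻¹ x⁻¹ lies in Q. -/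
theorem result {G : Type*} [Group G] [Finite G] (p : ℕ) [Fact p.Prime] (hp2 : p ≠ 2) (Q : Subgroup G) (hQ : IsPGroup p ↥Q) (y : G) (hy : orderOf y = 2) (hyQ : y ∈ Subgroup.normalizer (Q : Set G)) : (∀ R : Subgroup G, IsPGroup p ↥R → Q ≤ R → y ∈ Subgroup.normalizer (R : Set G) → R = Q) ↔ ∀ x : G, x ∈ Subgroup.normalizer (Q : Set G) → x ∉ Q → x ^ p ∈ Q → (y * x * y⁻¹ * x ∉ Q ∧ y * x * y⁻¹ * x⁻¹ ∉ Q) := by
  have hyy : y * y = 1 := by rw [← sq, ← hy]; exact pow_orderOf_eq_one y
  constructor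
  · intro hmax x hxN hxQ hxp
    by_contra hc
    apply hxQ
    set R := Q ⊔ Subgroup.zpowers x with hR
    have hle : Subgroup.zpowers x ≤ Subgroup.normalizer (Q : Set G) := Subgroup.zpowers_le.2 hxN
    have hmul : ((R : Subgroup G) : Set G) = (Q : Set G) * (Subgroup.zpowers x : Set G) :=
      Subgroup.coe_mul_of_right_le_normalizer_left Q _ hle
    have hRp : IsPGroup p R := by
      obtain ⟨k, hk⟩ := hQ ⟨x ^ p, hxp⟩
      have hk' : (x ^ p) ^ p ^ k = 1 := congrArg Subtype.val hk
      have hxo : orderOf x ∣ p ^ (k + 1) := orderOf_dvd_of_pow_eq_one (by rw [pow_succ', pow_mul]; exact hk')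
      obtain ⟨j, -, hj⟩ := (Nat.dvd_prime_pow (Fact.out : p.Prime)).1 hxo
      exact hQ.to_sup_of_normal_left' (IsPGroup.of_card (by rw [Nat.card_zpowers, hj])) hle
    have hxR : y * x * y⁻¹ ∈ R := by
      rcases not_and_or.1 hc with h | h <;> rw [not_not] at h
      · have : y * x * y⁻¹ = (y * x * y⁻¹ * x) * x⁻¹ := by group
        rw [this]
        exact mul_mem (Subgroup.mem_sup_left h) (inv_mem (Subgroup.mem_sup_right (Subgroup.mem_zpowers x)))
      · have : y * x * y⁻¹ = (y * x * y⁻¹ * x⁻¹) * x := by group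
        rw [this]
        exact mul_mem (Subgroup.mem_sup_left h) (Subgroup.mem_sup_right (Subgroup.mem_zpowers x))
    have hfwd : ∀ r ∈ R, y * r * y⁻¹ ∈ R := by
      have : R ≤ R.comap (MulAut.conj y).toMonoidHom :=
        sup_le (fun q hq => Subgroup.mem_sup_left ((Subgroup.mem_normalizer_iff.1 hyQ q).1 hq))
          (Subgroup.zpowers_le.2 hxR)
      exact fun r hr => this hr
    have hyR : y ∈ Subgroup.normalizer (R : Set G) := Subgroup.mem_normalizer_iff.2 fun r =>
      ⟨hfwd r, fun h => by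
        have := hfwd _ h
        have e : y * (y * r * y⁻¹) * y⁻¹ = (y * y) * r * (y * y)⁻¹ := by group
        rwa [e, hyy, one_mul, inv_one, mul_one] at this⟩
    have := hmax R hRp le_sup_left hyR
    exact this ▸ Subgroup.mem_sup_right (Subgroup.mem_zpowers x)
  · intro h R hR hQR hyR
    by_contra hne
    obtain ⟨x, hxN, hxQ, hxp, hor⟩ := exists_fixed_or_inverted p Q R hR y hyy hyQ hQR hne hyR
    obtain ⟨h1, h2⟩ := h x hxN hxQ hxp
    exact hor.elim h1 h2

end Cfsg.Agent.S3981
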