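import Cfsg.Statements.S3982
import Cfsg.Agent.Lib.PGroup.Basic
import Cfsg.Agent.Lib.CFun.Tools
import Cfsg.Agent.Lib.Coprime.Core

set_option autoImplicit false
set_option linter.style.haveILetI false
open Cfsg
open scoped Pointwise

namespace Cfsg.Agent.S3982

/-- Let p be an odd prime and G a finite group of even order divisible by p in which the centralizer of every non-identity p-element has odd order. If some nontrivial p-subgroup of G has a normalizer of even order, then the normalizer of every Sylow p-subgroup of G has even order. -/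
theorem result {G : Type*} [Group G] [Finite G] (p : ℕ) [Fact p.Prime] (hp2 : p ≠ 2) (hpG : p ∣ Nat.card G) (h2G : 2 ∣ Nat.card G) (hC : ∀ g : G, g ≠ 1 → (∃ k : ℕ, orderOf g = p ^ k) → Odd (Nat.card ↥(Subgroup.centralizer ({g} : Set G)))) (Q : Subgroup G) (hQ : IsPGroup p ↥Q) (hQ1 : Q ≠ ⊥) (hev : Even (Nat.card ↥(Subgroup.normalizer (Q : Set G)))) (P : Sylow p G) : Even (Nat.card ↥(Subgroup.normalizer ((P : Subgroup G) : Set G))) := by
  classical
  obtain ⟨X₀, ⟨hX₀p, hX₀1, hX₀e⟩, hmax⟩ := (Set.toFinite {X : Subgroup G | IsPGroup p X ∧ X ≠ ⊥ ∧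
    Even (Nat.card (Subgroup.normalizer (X : Set G)))}).exists_maximal ⟨Q, hQ, hQ1, hev⟩
  set X := Subgroup.normalizer (X₀ : Set G) with hX
  obtain ⟨S, hS⟩ := (hX₀p.comap_of_injective X.subtype X.subtype_injective :
    IsPGroup p (X₀.subgroupOf X)).exists_le_sylow
  suffices key : Even (Nat.card (Subgroup.normalizer ((((S : Subgroup X).map X.subtype) : Subgroup G) : Set G))) by
    have hS0 : X₀ ≤ (S : Subgroup X).map X.subtype := by
      rw [← Subgroup.map_subgroupOf_eq_of_le (Subgroup.le_normalizer : X₀ ≤ X)]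
      exact Subgroup.map_mono hS
    have hSX : (S : Subgroup X).map X.subtype = X₀ := le_antisymm
      (hmax ⟨S.isPGroup'.map _, ne_bot_of_le_ne_bot hX₀1 hS0, key⟩ hS0) hS0
    obtain ⟨R, hR⟩ := hX₀p.exists_le_sylow
    have hRX : (R : Subgroup G) = X₀ := by
      by_contra hne
      haveI := R.isPGroup'.isNilpotent
      have h := Group.normalizerCondition_of_isNilpotent (X₀.subgroupOf (R : Subgroup G))
        (lt_top_iff_ne_top.2 fun e => hne (le_antisymm (Subgroup.subgroupOf_eq_top.1 e) hR))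
      obtain ⟨z, hz, hzX⟩ := SetLike.exists_of_lt h
      have hzN : (z : G) ∈ X := by
        refine Subgroup.mem_normalizer_iff.2 fun w => ⟨fun hw => ?_, fun hw => ?_⟩
        · exact (Subgroup.mem_normalizer_iff.1 hz ⟨w, hR hw⟩).1 hw
        · have hw' : w ∈ (R : Subgroup G) := by
            have := (R : Subgroup G).mul_mem
              ((R : Subgroup G).mul_mem ((R : Subgroup G).inv_mem z.2) (hR hw)) z.2
            simpa [mul_assoc] using this
          exact (Subgroup.mem_normalizer_iff.1 hz ⟨w, hw'⟩).2 hw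
      have hp' : IsPGroup p (X₀ ⊔ Subgroup.zpowers (z : G) : Subgroup G) :=
        R.isPGroup'.to_le (sup_le hR (Subgroup.zpowers_le.2 z.2))
      have hle : (X₀ ⊔ Subgroup.zpowers (z : G)).subgroupOf X ≤ (S : Subgroup X) := by
        have hn : (X₀.subgroupOf X).Normal := Subgroup.normal_in_normalizer
        obtain ⟨T, hT⟩ := (hp'.comap_of_injective X.subtype X.subtype_injective).exists_le_sylow
        have hSe : (S : Subgroup X) = X₀.subgroupOf X := by
          refine le_antisymm (fun y hy => ?_) hS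
          show (y : G) ∈ X₀
          rw [← hSX]; exact ⟨y, hy, rfl⟩
        haveI := Sylow.unique_of_normal S (hSe ▸ hn)
        rw [Subsingleton.elim S T]
        exact hT
      have := hle (show (⟨z, hzN⟩ : X) ∈ (X₀ ⊔ Subgroup.zpowers (z : G)).subgroupOf X from
        Subgroup.mem_sup_right (Subgroup.mem_zpowers _))
      exact hzX (hSX ▸ (⟨_, this, rfl⟩ : (z : G) ∈ (S : Subgroup X).map X.subtype))
    obtain ⟨g, rfl⟩ := MulAction.exists_smul_eq G R P
    rw [Sylow.coe_subgroup_smul, hRX,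
      show MulAut.conj g • X₀ = X₀.map (MulAut.conj g).toMonoidHom from rfl]
    rw [even_iff_two_dvd] at hX₀e ⊢
    refine hX₀e.trans ?_
    rw [← Subgroup.card_map_of_injective (K := X) (f := (MulAut.conj g).toMonoidHom) (MulAut.conj g).injective]
    exact Subgroup.card_dvd_of_le (Subgroup.le_normalizer_map _)
  -- an involution of `X` inverts `X₀`
  obtain ⟨t, ht⟩ := exists_prime_orderOf_dvd_card' (G := X) 2 hX₀e.two_dvd
  have ht2 : (t : G) * t = 1 := by
    rw [← pow_two]; exact congrArg Subtype.val (orderOf_dvd_iff_pow_eq_one.1 ht.dvd)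
  have hti : (t : G)⁻¹ = t := inv_eq_of_mul_eq_one_right ht2
  have hodd : ∀ y : G, y ∈ X₀ → y ≠ 1 → (t : G) * y * (t : G)⁻¹ ≠ y := by
    intro y hy hy1 he
    obtain ⟨k, hk⟩ := (IsPGroup.iff_orderOf.1 hX₀p) ⟨y, hy⟩
    refine Nat.not_even_iff_odd.2 (hC y hy1 ⟨k, by rw [← hk, Subgroup.orderOf_mk]⟩) ?_
    rw [even_iff_two_dvd, ← ht, ← Subgroup.orderOf_coe]
    exact Subgroup.orderOf_dvd_natCard _
      (Subgroup.mem_centralizer_singleton_iff.2 (mul_inv_eq_iff_eq_mul.1 he))
  have hconjmem : ∀ y ∈ X₀, (t : G) * y * (t : G)⁻¹ ∈ X₀ := fun y hy =>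
    (Subgroup.mem_normalizer_iff.1 t.2 y).1 hy
  let φ : X₀ → X₀ := fun y => ⟨(y : G)⁻¹ * ((t : G) * y * (t : G)⁻¹),
    X₀.mul_mem (X₀.inv_mem y.2) (hconjmem y y.2)⟩
  have hφ : Function.Injective φ := by
    intro a b hab
    have h1 : (a : G)⁻¹ * ((t : G) * a * (t : G)⁻¹) = (b : G)⁻¹ * ((t : G) * b * (t : G)⁻¹) :=
      congrArg Subtype.val hab
    refine Subtype.ext (mul_inv_eq_one.1 (Classical.byContradiction fun h1' =>
      hodd _ (X₀.mul_mem b.2 (X₀.inv_mem a.2)) h1' ?_) ).symm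
    calc (t : G) * ((b : G) * (a : G)⁻¹) * (t : G)⁻¹
        = (b : G) * ((b : G)⁻¹ * ((t : G) * b * (t : G)⁻¹)) * ((t : G) * a * (t : G)⁻¹)⁻¹ := by group
      _ = (b : G) * (a : G)⁻¹ := by rw [← h1]; group
  have hinv : ∀ y ∈ X₀, (t : G) * y * (t : G)⁻¹ = y⁻¹ := by
    intro y hy
    obtain ⟨a, ha⟩ := (Finite.injective_iff_surjective.1 hφ) ⟨y, hy⟩
    have ha' : (a : G)⁻¹ * ((t : G) * a * (t : G)⁻¹) = y := congrArg Subtype.val ha
    rw [← ha', hti]
    calc (t : G) * ((a : G)⁻¹ * (t * a * t)) * t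
        = t * (a : G)⁻¹ * t * a * (t * t) := by group
      _ = t * (a : G)⁻¹ * (t : G)⁻¹ * a := by rw [ht2, mul_one, hti]
      _ = _ := by group; simp [hti, ← mul_assoc]
  let Cx : Subgroup X := (Subgroup.centralizer (X₀ : Set G)).subgroupOf X
  haveI : Cx.Normal := by
    refine (Subgroup.normal_subgroupOf_iff_le_normalizer (Subgroup.centralizer_le_normalizer _)).2 ?_
    exact CfsgLib.CFun.le_normalizer_centralizer le_rfl
  obtain ⟨y₀, hy₀, hy₀1⟩ := (Subgroup.bot_or_exists_ne_one _).resolve_left hX₀1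
  have hCodd : Odd (Nat.card Cx) := by
    obtain ⟨k, hk⟩ := (IsPGroup.iff_orderOf.1 hX₀p) ⟨y₀, hy₀⟩
    refine (hC y₀ hy₀1 ⟨k, by rw [← hk, Subgroup.orderOf_mk]⟩).of_dvd_nat ?_
    rw [Nat.card_congr (Subgroup.subgroupOfEquivOfLe (Subgroup.centralizer_le_normalizer _)).toEquiv]
    exact Subgroup.card_dvd_of_le (Subgroup.centralizer_le (Set.singleton_subset_iff.2 hy₀))
  -- `t` is central modulo `Cx`
  have hcentral : ∀ r : X, t * r * t⁻¹ * r⁻¹ ∈ Cx := by
    intro r
    refine Subgroup.mem_centralizer_iff.2 fun y hy => ?_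
    have hr : ∀ u ∈ X₀, (r : G)⁻¹ * u * r ∈ X₀ := fun u hu => by
      simpa using (Subgroup.mem_normalizer_iff.1 (X.inv_mem r.2) u).1 hu
    have h1 : (t : G) * r * (t : G)⁻¹ * (r : G)⁻¹ * y * ((t : G) * r * (t : G)⁻¹ * (r : G)⁻¹)⁻¹ = y := by
      calc _ = (t : G) * ((r : G) * ((t : G)⁻¹ * ((r : G)⁻¹ * y * r) * t) * (r : G)⁻¹) * (t : G)⁻¹ := by group
        _ = (t : G) * ((r : G) * ((r : G)⁻¹ * y * r)⁻¹ * (r : G)⁻¹) * (t : G)⁻¹ := by
          rw [show (t : G)⁻¹ * ((r : G)⁻¹ * y * r) * t = ((r : G)⁻¹ * y * r)⁻¹ by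
            have := hinv _ (hr y hy); rwa [hti] at this ⊢]
        _ = (t : G) * y⁻¹ * (t : G)⁻¹ := by group
        _ = y := by rw [hinv _ (X₀.inv_mem hy), inv_inv]
    exact (mul_inv_eq_iff_eq_mul.1 h1).symm
  let W : Subgroup X := Cx ⊔ (S : Subgroup X)
  let Y : Subgroup X := W ⊔ Subgroup.zpowers t
  have htW : t ∈ Subgroup.normalizer (W : Set X) := by
    refine Subgroup.mem_normalizer_iff_map_conj_eq.2 (Subgroup.eq_of_le_of_card_ge ?_ ?_)
    · change W.map (MulAut.conj t).toMonoidHom ≤ W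
      rw [show W = Cx ⊔ (S : Subgroup X) from rfl, Subgroup.map_sup, sup_le_iff]
      refine ⟨?_, ?_⟩
      · rintro _ ⟨c, hc, rfl⟩
        exact Subgroup.mem_sup_left (‹Cx.Normal›.conj_mem c hc t)
      · rintro _ ⟨r, hr, rfl⟩
        have := (Cx ⊔ (S : Subgroup X)).mul_mem (Subgroup.mem_sup_left (hcentral r)) (Subgroup.mem_sup_right hr)
        rwa [inv_mul_cancel_right] at this
    · exact (Subgroup.card_map_of_injective (MulAut.conj t).injective).ge
  have hWY : W ≤ Y := le_sup_left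
  haveI : (W.subgroupOf Y).Normal :=
    (Subgroup.normal_subgroupOf_iff_le_normalizer hWY).2
      (sup_le Subgroup.le_normalizer (Subgroup.zpowers_le.2 htW))
  have hWodd : Odd (Nat.card W) := by
    obtain ⟨i, hi⟩ := IsPGroup.iff_card.1 S.isPGroup'
    refine Odd.of_dvd_nat ?_ ((sup_comm Cx (S : Subgroup X)) ▸ CfsgLib.PGroup.card_sup_dvd_of_normal (S : Subgroup X) Cx)
    rw [hi]
    exact ((Fact.out : p.Prime).odd_of_ne_two hp2).pow.mul hCodd
  have hSW : (S : Subgroup X) ≤ W := le_sup_right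
  let SW : Sylow p ↥(W.subgroupOf Y) :=
    (S.subtype (hSW.trans hWY)).subtype (show _ ≤ W.subgroupOf Y from fun y hy => hSW hy)
  have hFr := SW.normalizer_sup_eq_top
  rw [Sylow.coe_subtype, Subgroup.map_subgroupOf_eq_of_le (show _ ≤ W.subgroupOf Y from fun y hy => hSW hy),
    Sylow.coe_subtype] at hFr
  set NY := Subgroup.normalizer (((S : Subgroup X).subgroupOf Y : Subgroup Y) : Set Y)
  have hevY : 2 ∣ Nat.card Y :=
    ht ▸ Y.orderOf_dvd_natCard (Subgroup.mem_sup_right (Subgroup.mem_zpowers t))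
  have hdvd : Nat.card Y ∣ Nat.card NY * Nat.card (W.subgroupOf Y) := by
    have := CfsgLib.PGroup.card_sup_dvd_of_normal NY (W.subgroupOf Y)
    rwa [hFr, Subgroup.card_top] at this
  rw [Nat.card_congr (Subgroup.subgroupOfEquivOfLe hWY).toEquiv] at hdvd
  have hNY : 2 ∣ Nat.card NY :=
    ((Nat.prime_two.dvd_mul).1 (hevY.trans hdvd)).resolve_right
      (fun h => Nat.not_even_iff_odd.2 hWodd (even_iff_two_dvd.2 h))
  rw [even_iff_two_dvd]
  refine hNY.trans ?_
  rw [← Subgroup.card_map_of_injective (K := NY) (f := X.subtype.comp Y.subtype)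
    (X.subtype_injective.comp Y.subtype_injective)]
  refine Subgroup.card_dvd_of_le ((Subgroup.le_normalizer_map _).trans (le_of_eq ?_))
  rw [← Subgroup.map_map, Subgroup.map_subgroupOf_eq_of_le (hSW.trans hWY)]

end Cfsg.Agent.S3982
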