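import Cfsg.Statements.S3983


set_option autoImplicit false
set_option linter.style.haveILetI false
open scoped Pointwise
open Cfsg

namespace Cfsg.Agent.S3983

/-- Distinct Sylow subgroups of a TI Sylow class meet trivially. -/
theorem sylow_inf_eq_bot {G : Type*} [Group G] [Finite G] {p : ℕ} [Fact p.Prime] (P : Sylow p G)
    (hTI : ∀ g : G, g ∉ Subgroup.normalizer ((P : Subgroup G) : Set G) →
      (P : Subgroup G) ⊓ (MulAut.conj g • (P : Subgroup G)) = ⊥)
    (A B : Sylow p G) (hAB : A ≠ B) : (A : Subgroup G) ⊓ (B : Subgroup G) = ⊥ := by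
  obtain ⟨a, rfl⟩ := MulAction.exists_smul_eq G P A
  obtain ⟨b, rfl⟩ := MulAction.exists_smul_eq G P B
  have hn : a⁻¹ * b ∉ Subgroup.normalizer ((P : Subgroup G) : Set G) := fun h =>
    hAB ((congrArg (a • ·) (Sylow.smul_eq_iff_mem_normalizer.2 h)).symm.trans
      (by simp only [← mul_smul, mul_inv_cancel_left]))
  refine (Subgroup.eq_bot_iff_forall _).2 fun x ⟨hxa, hxb⟩ => ?_
  obtain ⟨u, hu, rfl⟩ := hxa
  have h1 : (u : G) ∈ (P : Subgroup G) ⊓ (MulAut.conj (a⁻¹ * b) • (P : Subgroup G)) := by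
    refine ⟨hu, ?_⟩
    obtain ⟨w, hw, hwe⟩ := hxb
    refine ⟨w, hw, ?_⟩
    simp only [MulDistribMulAction.toMonoidEnd_apply, MulDistribMulAction.toMonoidHom_apply,
      MulAut.smul_def, MulAut.conj_apply] at hwe ⊢
    calc a⁻¹ * b * w * (a⁻¹ * b)⁻¹ = a⁻¹ * (b * w * b⁻¹) * a := by group
      _ = u := by rw [hwe]; group
  rw [hTI _ hn, Subgroup.mem_bot] at h1
  rw [h1]
  simp

/-- Let P be a Sylow p-subgroup of the finite group G that meets each conjugate g P g⁻¹ with g outside N_G(P) trivially, and let U be a subgroup of G of order divisible by p. Then a Sylow p-subgroup Q of U has the same property inside U: Q meets each conjugate u Q u⁻¹ with u ∈ U outside N_U(Q) trivially. -/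
theorem result {G : Type*} [Group G] [Finite G] (p : ℕ) [Fact p.Prime] (P : Sylow p G) (hTI : ∀ g : G, g ∉ Subgroup.normalizer ((P : Subgroup G) : Set G) → (P : Subgroup G) ⊓ (MulAut.conj g • (P : Subgroup G)) = ⊥) (U : Subgroup G) (hU : p ∣ Nat.card ↥U) (Q : Sylow p ↥U) : ∀ u : ↥U, u ∉ Subgroup.normalizer ((Q : Subgroup ↥U) : Set ↥U) → (Q : Subgroup ↥U) ⊓ (MulAut.conj u • (Q : Subgroup ↥U)) = ⊥ := by
  intro u hu
  obtain ⟨A, hA⟩ := (Q.isPGroup'.map U.subtype).exists_le_sylow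
  obtain ⟨B, hB⟩ := ((u • Q).isPGroup'.map U.subtype).exists_le_sylow
  have hne : A ≠ B := by
    rintro rfl
    refine hu (Sylow.smul_eq_iff_mem_normalizer.1 ?_)
    have hp' : IsPGroup p ((A : Subgroup G).subgroupOf U) :=
      A.isPGroup'.comap_of_injective U.subtype U.subtype_injective
    refine Sylow.ext ?_
    rw [← (u • Q).3 hp' (Subgroup.map_le_iff_le_comap.1 hB),
      ← Q.3 hp' (Subgroup.map_le_iff_le_comap.1 hA)]
  have h := sylow_inf_eq_bot P hTI A B hne
  rw [← Sylow.coe_subgroup_smul, Subgroup.eq_bot_iff_forall]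
  intro x hx
  have h2 : (x : G) ∈ (A : Subgroup G) ⊓ (B : Subgroup G) := ⟨hA ⟨x, hx.1, rfl⟩, hB ⟨x, hx.2, rfl⟩⟩
  rw [h, Subgroup.mem_bot] at h2
  exact Subtype.ext h2

end Cfsg.Agent.S3983
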