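import Cfsg.Statements.S3984
import Cfsg.Agent.Lib.Coprime.Core

set_option autoImplicit false
set_option linter.style.haveILetI false
open scoped Pointwise
open Cfsg

namespace Cfsg.Agent.S3984

/-- Distinct Sylow subgroups of a TI Sylow class meet trivially. -/
theorem sylow_inf_eq_bot {G : Type*} [Group G] [Finite G] {p : ℕ} [Fact p.Prime] (P : Sylow p G)
    (hTI : ∀ g : G, g ∉ Subgroup.normalizer ((P : Subgroup G) : Set G) →
      (P : Subgroup G) ⊓ (MulAut.conj g • (P : Subgroup G)) = ⊥)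
    (A B : Sylow p G) (hAB : A ≠ B) : (A : Subgroup G) ⊓ (B : Subgroup G) = ⊥ := by
  obtain ⟨a, rfl⟩ := MulAction.exists_smul_eq G P A
  obtain ⟨b, rfl⟩ := MulAction.exists_smul_eq G P B
  have hn : a⁻¹ * b ∉ Subgroup.normalizer ((P : Subgroup G) : Set G) := fun h =>
    hAB ((congrArg (a • ·) (Sylow.smul_eq_iff_mem_normalizer.2 h)).symm.trans
      (by simp only [← mul_smul, mul_inv_cancel_left]))
  refine (Subgroup.eq_bot_iff_forall _).2 fun x ⟨hxa, hxb⟩ => ?_
  obtain ⟨u, hu, rfl⟩ := hxa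
  have h1 : (u : G) ∈ (P : Subgroup G) ⊓ (MulAut.conj (a⁻¹ * b) • (P : Subgroup G)) := by
    refine ⟨hu, ?_⟩
    obtain ⟨w, hw, hwe⟩ := hxb
    refine ⟨w, hw, ?_⟩
    simp only [MulDistribMulAction.toMonoidEnd_apply, MulDistribMulAction.toMonoidHom_apply,
      MulAut.smul_def, MulAut.conj_apply] at hwe ⊢
    calc a⁻¹ * b * w * (a⁻¹ * b)⁻¹ = a⁻¹ * (b * w * b⁻¹) * a := by group
      _ = u := by rw [hwe]; group
  rw [hTI _ hn, Subgroup.mem_bot] at h1
  rw [h1]
  simp

/-- Let P be a Sylow p-subgroup of the finite group G that meets each conjugate g P g⁻¹ with g outside N_G(P) trivially, and let N be a normal subgroup of G of order prime to p. Then every Sylow p-subgroup Q of G ⧸ N meets each conjugate x Q x⁻¹ with x outside its normalizer trivially. -/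
theorem result {G : Type*} [Group G] [Finite G] (p : ℕ) [Fact p.Prime] (P : Sylow p G) (hTI : ∀ g : G, g ∉ Subgroup.normalizer ((P : Subgroup G) : Set G) → (P : Subgroup G) ⊓ (MulAut.conj g • (P : Subgroup G)) = ⊥) (N : Subgroup G) [N.Normal] (hN : (Nat.card ↥N).Coprime p) (Q : Sylow p (G ⧸ N)) : ∀ x : G ⧸ N, x ∉ Subgroup.normalizer ((Q : Subgroup (G ⧸ N)) : Set (G ⧸ N)) → (Q : Subgroup (G ⧸ N)) ⊓ (MulAut.conj x • (Q : Subgroup (G ⧸ N))) = ⊥ := by
  intro z hz
  have hsurj := QuotientGroup.mk'_surjective N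
  have hlift : ∀ R : Sylow p (G ⧸ N), ∃ A : Sylow p G,
      (A : Subgroup G).map (QuotientGroup.mk' N) = (R : Subgroup (G ⧸ N)) := fun R => by
    obtain ⟨A, rfl⟩ := Sylow.mapSurjective_surjective hsurj p R
    exact ⟨A, rfl⟩
  obtain ⟨A, hA⟩ := hlift Q
  obtain ⟨B, hB⟩ := hlift (z • Q)
  rw [← Sylow.coe_subgroup_smul, ← hA, ← hB, Subgroup.eq_bot_iff_forall]
  rintro _ ⟨⟨a, ha, rfl⟩, ⟨b, hb, hab⟩⟩
  let H : Subgroup G := (B : Subgroup G) ⊔ N
  have haH : a ∈ H := by
    have h1 : b⁻¹ * a ∈ N := by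
      rw [← QuotientGroup.eq]
      exact hab
    have := H.mul_mem (Subgroup.mem_sup_left hb) (Subgroup.mem_sup_right h1)
    rwa [mul_inv_cancel_left] at this
  have hidx : ¬ p ∣ ((B : Subgroup G).subgroupOf H).index := by
    rw [show ((B : Subgroup G).subgroupOf H).index = (B : Subgroup G).relIndex H from rfl]
    refine fun hd => B.not_dvd_index (hd.trans ?_)
    exact Subgroup.relIndex_dvd_index_of_le le_sup_left
  have hap : IsPGroup p (Subgroup.zpowers (⟨a, haH⟩ : H)) :=
    ((A.isPGroup'.to_le (Subgroup.zpowers_le.2 ha)).comap_of_injective H.subtype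
      H.subtype_injective).to_le (Subgroup.zpowers_le.2
        (show (⟨a, haH⟩ : H) ∈ (Subgroup.zpowers a).comap H.subtype from Subgroup.mem_zpowers a))
  obtain ⟨C, hC⟩ := hap.exists_le_sylow
  obtain ⟨h, hh⟩ := MulAction.exists_smul_eq H
    (IsPGroup.toSylow (p := p) (P := (B : Subgroup G).subgroupOf H)
      (B.isPGroup'.comap_of_injective H.subtype H.subtype_injective) hidx) C
  have hmem : a ∈ MulAut.conj (h : G) • (B : Subgroup G) := by
    have h1 : (⟨a, haH⟩ : H) ∈ (C : Subgroup H) := hC (Subgroup.mem_zpowers _)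
    rw [← hh] at h1
    obtain ⟨w, hw, hwe⟩ := h1
    exact ⟨(w : G), hw, congrArg Subtype.val hwe⟩
  by_cases hAB : A = (h : G) • B
  · exfalso
    refine hz (Sylow.smul_eq_iff_mem_normalizer.1 (Sylow.ext ?_))
    rw [← hA, ← hB, hAB, Sylow.coe_subgroup_smul]
    have e : ∀ g : G, g ∈ H → (MulAut.conj g • (B : Subgroup G)).map (QuotientGroup.mk' N) =
        (B : Subgroup G).map (QuotientGroup.mk' N) := by
      intro g hg
      have hgN : g ∈ (((B : Subgroup G) ⊔ N : Subgroup G) : Set G) := hg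
      rw [Subgroup.mul_normal] at hgN
      obtain ⟨b', hb', n', hn', rfl⟩ := hgN
      have hf : QuotientGroup.mk' N (b' * n') = QuotientGroup.mk' N b' := by
        rw [map_mul, show QuotientGroup.mk' N n' = 1 from (QuotientGroup.eq_one_iff n').2 hn', mul_one]
      change ((B : Subgroup G).map (MulAut.conj (b' * n')).toMonoidHom).map _ = _
      rw [Subgroup.map_map]
      have : (QuotientGroup.mk' N).comp (MulAut.conj (b' * n')).toMonoidHom =
          (QuotientGroup.mk' N).comp (MulAut.conj b').toMonoidHom := by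
        ext x
        rw [MonoidHom.comp_apply, MonoidHom.comp_apply, MulEquiv.coe_toMonoidHom,
          MulEquiv.coe_toMonoidHom, MulAut.conj_apply, MulAut.conj_apply]
        simp only [map_mul, map_inv,
          show QuotientGroup.mk' N n' = 1 from (QuotientGroup.eq_one_iff n').2 hn', mul_one]
      rw [this, ← Subgroup.map_map]
      congr 1
      exact Subgroup.mem_normalizer_iff_map_conj_eq.1 (Subgroup.le_normalizer hb')
    exact (e h h.2).symm
  · have h2 := sylow_inf_eq_bot P hTI A ((h : G) • B) hAB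
    have h3 : a ∈ (A : Subgroup G) ⊓ (((h : G) • B : Sylow p G) : Subgroup G) := ⟨ha, hmem⟩
    rw [h2, Subgroup.mem_bot] at h3
    rw [h3, map_one]

end Cfsg.Agent.S3984
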