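import Cfsg.Statements.S3985
import Cfsg.Agent.Lib.PGroup.ShortTools

set_option autoImplicit false
set_option linter.style.haveILetI false
open scoped Pointwise
open Cfsg

namespace Cfsg.Agent.S3985

/-- Let P be a cyclic Sylow p-subgroup of the finite group G. Then P meets each conjugate g P g⁻¹ with g outside N_G(P) trivially if and only if P is weakly self-centralizing: C_G(x) = C_G(P) for every non-identity x ∈ P. -/
theorem result {G : Type*} [Group G] [Finite G] (p : ℕ) [Fact p.Prime] (P : Sylow p G) (hcyc : IsCyclic ↥(P : Subgroup G)) : (∀ g : G, g ∉ Subgroup.normalizer ((P : Subgroup G) : Set G) → (P : Subgroup G) ⊓ (MulAut.conj g • (P : Subgroup G)) = ⊥) ↔ ∀ x : G, x ∈ (P : Subgroup G) → x ≠ 1 → Subgroup.centralizer ({x} : Set G) = Subgroup.centralizer ((P : Subgroup G) : Set G) := by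
  have hPab : ∀ a ∈ (P : Subgroup G), ∀ b ∈ (P : Subgroup G), a * b = b * a := fun a ha b hb =>
    congrArg Subtype.val (isMulCommutative_iff.1 IsCyclic.commutative (⟨a, ha⟩ : (P : Subgroup G)) ⟨b, hb⟩)
  obtain ⟨a, ha⟩ := IsCyclic.exists_generator (α := (P : Subgroup G))
  have hcen : ∀ g : G, g * (a : G) = (a : G) * g →
      g ∈ Subgroup.centralizer ((P : Subgroup G) : Set G) := by
    intro g hg
    refine Subgroup.mem_centralizer_iff.2 fun y hy => ?_
    obtain ⟨i, hi⟩ := ha ⟨y, hy⟩
    have e : (a : G) ^ i = y := congrArg Subtype.val hi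
    rw [← e]
    exact ((show Commute g (a : G) from hg).zpow_right i).eq.symm
  constructor
  · intro hTI z hzP hz
    refine le_antisymm (fun g hg => ?_) (Subgroup.centralizer_le (Set.singleton_subset_iff.2 hzP))
    have hgn : g ∈ Subgroup.normalizer ((P : Subgroup G) : Set G) := by
      by_contra h
      have h1 : z ∈ (P : Subgroup G) ⊓ (MulAut.conj g • (P : Subgroup G)) := ⟨hzP, z, hzP, by
        simp only [MulDistribMulAction.toMonoidEnd_apply, MulDistribMulAction.toMonoidHom_apply,
          MulAut.smul_def, MulAut.conj_apply]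
        rw [Subgroup.mem_centralizer_singleton_iff.1 hg, mul_inv_cancel_right]⟩
      rw [hTI g h, Subgroup.mem_bot] at h1
      exact hz h1
    obtain ⟨r, hr⟩ := ha ⟨g * (a : G) * g⁻¹, (Subgroup.mem_normalizer_iff.1 hgn _).1 a.2⟩
    have hr' : g * (a : G) * g⁻¹ = (a : G) ^ r := (congrArg Subtype.val hr).symm
    obtain ⟨n, hn⟩ := IsPGroup.iff_card.1 P.isPGroup'
    have hao : orderOf (a : G) = p ^ n := by
      rw [Subgroup.orderOf_coe, orderOf_eq_card_of_forall_mem_zpowers ha, hn]
    obtain ⟨i, hi⟩ := ha ⟨z, hzP⟩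
    have hi' : (a : G) ^ i = z := congrArg Subtype.val hi
    have hri : (a : G) ^ (r * i) = (a : G) ^ i := by
      rw [zpow_mul, ← hr', conj_zpow, hi', Subgroup.mem_centralizer_singleton_iff.1 hg,
        mul_inv_cancel_right]
    have hp' : Prime (p : ℤ) := Nat.prime_iff_prime_int.1 Fact.out
    have hr1 : (p : ℤ) ∣ r - 1 := by
      by_contra hd
      refine hz ?_
      have h1 : ((orderOf (a : G) : ℕ) : ℤ) ∣ (r - 1) * i := by
        refine orderOf_dvd_iff_zpow_eq_one.2 ?_
        rw [sub_mul, one_mul, zpow_sub, hri, mul_inv_cancel]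
      have h2 : ((orderOf (a : G) : ℕ) : ℤ) ∣ i := by
        refine IsCoprime.dvd_of_dvd_mul_left ?_ h1
        rw [hao, Nat.cast_pow]
        exact ((hp'.coprime_iff_not_dvd).2 hd).pow_left
      rw [← hi', orderOf_dvd_iff_zpow_eq_one.1 h2]
    have h1 : g ^ p ^ n ∈ Subgroup.centralizer ((P : Subgroup G) : Set G) :=
      hcen _ (CfsgLib.PGroup.commute_pow_of_conj_eq_zpow hr' hr1 (hao ▸ pow_orderOf_eq_one _)).eq
    obtain ⟨m, hm, hmP⟩ := CfsgLib.PGroup.exists_pow_isPGroup (p := p) g
    refine CfsgLib.PGroup.mem_of_pow_mem_coprime Fact.out h1 hm ?_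
    have h2 : Subgroup.zpowers (g ^ m) ⊔ (P : Subgroup G) = (P : Subgroup G) :=
      P.3 (hmP.to_sup_of_normal_right' P.isPGroup'
        (Subgroup.zpowers_le.2 (Subgroup.pow_mem _ hgn m))) le_sup_right
    have h3 : g ^ m ∈ (P : Subgroup G) := h2 ▸ Subgroup.mem_sup_left (Subgroup.mem_zpowers _)
    exact Subgroup.mem_centralizer_iff.2 fun y hy => hPab y hy _ h3
  · intro h g hg
    refine (Subgroup.eq_bot_iff_forall _).2 ?_
    rintro y ⟨hy, w, hw, hwe⟩
    simp only [MulDistribMulAction.toMonoidEnd_apply, MulDistribMulAction.toMonoidHom_apply,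
      MulAut.smul_def, MulAut.conj_apply] at hwe
    by_contra hy1
    have hw1 : w ≠ 1 := fun e => hy1 (by rw [← hwe, e, mul_one, mul_inv_cancel])
    refine hg ?_
    have hle : ((P : Subgroup G).map (MulAut.conj g).toMonoidHom) ≤
        Subgroup.normalizer ((P : Subgroup G) : Set G) := by
      rintro _ ⟨u, hu, rfl⟩
      refine Subgroup.centralizer_le_normalizer _ ?_
      rw [← h y hy hy1]
      refine Subgroup.mem_centralizer_singleton_iff.2 ?_
      rw [← hwe]
      simp only [MulEquiv.coe_toMonoidHom, MulAut.conj_apply]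
      calc g * u * g⁻¹ * (g * w * g⁻¹) = g * (u * w) * g⁻¹ := by group
        _ = g * w * g⁻¹ * (g * u * g⁻¹) := by rw [hPab u hu w hw]; group
    have h2 := P.3 ((P.isPGroup'.map (MulAut.conj g).toMonoidHom).to_sup_of_normal_right'
      P.isPGroup' hle) le_sup_right
    have h3 : (P : Subgroup G).map (MulAut.conj g).toMonoidHom ≤ (P : Subgroup G) :=
      le_sup_left.trans h2.le
    refine Subgroup.mem_normalizer_iff_map_conj_eq.2 (Subgroup.eq_of_le_of_card_ge h3 ?_)
    exact (Subgroup.card_map_of_injective (MulAut.conj g).injective).ge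

end Cfsg.Agent.S3985
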