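import Cfsg.Statements.S3986
import Cfsg.Agent.Lib.PGroup.ShortTools
import Cfsg.Agent.Lib.Coprime.MinimalNonNilpotent

set_option autoImplicit false
set_option linter.style.haveILetI false
open Cfsg

namespace Cfsg.Agent.S3986

/-- Let p be a prime and G a finite group. Then some Sylow p-subgroup of G is a direct factor of G (it is normal and has a normal complement) if and only if every element of p-power order commutes with every element whose order is a power of a prime other than p. -/
theorem result {G : Type*} [Group G] [Finite G] (p : ℕ) [Fact p.Prime] : (∃ (P : Sylow p G) (K : Subgroup G), (P : Subgroup G).Normal ∧ K.Normal ∧ (P : Subgroup G) ⊓ K = ⊥ ∧ (P : Subgroup G) ⊔ K = ⊤) ↔ ∀ x y : G, (∃ a : ℕ, orderOf x = p ^ a) → (∃ q b : ℕ, q.Prime ∧ q ≠ p ∧ orderOf y = q ^ b) → x * y = y * x := by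
  constructor
  · rintro ⟨P, K, hP, hK, hinf, hsup⟩ x y ⟨a, hx⟩ ⟨q, b, hq, hqp, hy⟩
    have hxP : x ∈ (P : Subgroup G) := by
      obtain ⟨Q, hQ⟩ := (IsPGroup.of_card (p := p) (n := a) (G := Subgroup.zpowers x)
        (by rw [Nat.card_zpowers, hx])).exists_le_sylow
      haveI := Sylow.unique_of_normal P hP
      rw [Subsingleton.elim P Q]
      exact hQ (Subgroup.mem_zpowers x)
    have hyK : y ∈ K := by
      obtain ⟨n, hn⟩ := IsPGroup.iff_card.1 P.isPGroup'
      have hidx : K.index = Nat.card (P : Subgroup G) :=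
        (Subgroup.isComplement'_of_disjoint_and_mul_eq_univ (disjoint_iff.2 hinf)
          (by rw [← Subgroup.normal_mul, hsup]; rfl) :
            Subgroup.IsComplement' (P : Subgroup G) K).index_eq_card
      refine CfsgLib.PGroup.mem_of_pow_mem_coprime (p := p) (n := n) (m := orderOf y) Fact.out ?_ ?_ ?_
      · rw [← hn, ← hidx]; exact K.pow_index_mem y
      · rw [hy]
        exact fun hd => hqp ((Nat.prime_dvd_prime_iff_eq (Fact.out : p.Prime) hq).1
          ((Fact.out : p.Prime).dvd_of_dvd_pow hd)).symm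
      · rw [pow_orderOf_eq_one]; exact one_mem _
    exact (Subgroup.commute_of_normal_of_disjoint _ _ hP hK (disjoint_iff.2 hinf) x y hxP hyK).eq
  · intro h
    let P : Sylow p G := default
    have hcen : ∀ r : ℕ, r.Prime → r ≠ p → ∀ y : G, (∃ b, orderOf y = r ^ b) →
        y ∈ Subgroup.centralizer ((P : Subgroup G) : Set G) := fun r hr hrp y ⟨b, hb⟩ =>
      Subgroup.mem_centralizer_iff.2 fun x hx => by
        obtain ⟨a, ha⟩ := (IsPGroup.iff_orderOf.1 P.isPGroup') ⟨x, hx⟩
        exact h x y ⟨a, by rw [← ha, Subgroup.orderOf_mk]⟩ ⟨r, b, hr, hrp, hb⟩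
    haveI hP : (P : Subgroup G).Normal := by
      refine CfsgLib.Coprime.sylow_normal_of_forall P fun r hr hrp => ?_
      haveI := Fact.mk hr
      refine ⟨default, fun y hy => Subgroup.centralizer_le_normalizer _ (hcen r hr hrp y ?_)⟩
      obtain ⟨b, hb⟩ := (IsPGroup.iff_orderOf.1 (default : Sylow r G).isPGroup') ⟨y, hy⟩
      exact ⟨b, by rw [← hb, Subgroup.orderOf_mk]⟩
    obtain ⟨K, hK⟩ := Subgroup.exists_right_complement'_of_coprime P.card_coprime_index
    have hKP : ∀ k ∈ K, k ∈ Subgroup.centralizer ((P : Subgroup G) : Set G) := by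
      intro k hk
      have hcop : (orderOf k).Coprime p := by
        refine Nat.Coprime.coprime_dvd_left (K.orderOf_dvd_natCard hk) ?_
        rw [← hK.symm.index_eq_card]
        exact ((Fact.out : p.Prime).coprime_iff_not_dvd.2 P.not_dvd_index).symm
      refine CfsgLib.PGroup.mem_of_forall_prime_pow_mem fun r hr => ?_
      haveI := Fact.mk hr
      by_cases hrp : r = p
      · subst hrp
        refine ⟨orderOf k, (Fact.out : r.Prime).coprime_iff_not_dvd.1 hcop.symm, ?_⟩
        rw [pow_orderOf_eq_one]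
        exact one_mem _
      · obtain ⟨m, hm, hmp⟩ := CfsgLib.PGroup.exists_pow_isPGroup (p := r) k
        obtain ⟨b, hb⟩ := IsPGroup.iff_card.1 hmp
        exact ⟨m, hm, hcen r hr hrp _ ⟨b, by rw [← hb, Nat.card_zpowers]⟩⟩
    refine ⟨P, K, hP, ?_, disjoint_iff.1 hK.disjoint, hK.sup_eq_top⟩
    rw [← Subgroup.normalizer_eq_top_iff, eq_top_iff, ← hK.sup_eq_top, sup_le_iff]
    refine ⟨fun x hx => Subgroup.centralizer_le_normalizer _ ?_, Subgroup.le_normalizer⟩
    exact Subgroup.mem_centralizer_iff.2 fun k hk =>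
      (Subgroup.mem_centralizer_iff.1 (hKP k hk) x hx).symm

end Cfsg.Agent.S3986
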