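import Cfsg.Statements.S3987
-- import your own Cfsg.Agent.* helpers here
import Cfsg.Agent.Lib.PGroup.Basic
import Mathlib.GroupTheory.SchurZassenhaus
import Mathlib.GroupTheory.Sylow
import Mathlib.Data.Nat.ChineseRemainder

set_option autoImplicit false
open Cfsg

namespace Cfsg.Agent.S3987

open Subgroup in
/-- A subgroup containing a Sylow subgroup of every prime is everything. -/
theorem eq_top_of_sylows {G : Type*} [Group G] [Finite G] (C : Subgroup G)
    (h : ∀ q : ℕ, q.Prime → ∃ Q : Sylow q G, (Q : Subgroup G) ≤ C) : C = ⊤ := by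
  rw [← Subgroup.index_eq_one]
  by_contra hne
  obtain ⟨q, hq, hd⟩ := Nat.exists_prime_and_dvd hne
  haveI := Fact.mk hq
  obtain ⟨Q, hQ⟩ := h q hq
  exact Q.not_dvd_index (hd.trans (Subgroup.index_dvd_of_le hQ))

theorem exists_pow_eq_left {G : Type*} [Group G] {x y : G} (hc : Commute x y)
    (hcop : (orderOf x).Coprime (orderOf y)) : ∃ e : ℕ, (x * y) ^ e = x := by
  obtain ⟨e, he1, he0⟩ := Nat.chineseRemainder hcop 1 0
  refine ⟨e, ?_⟩
  rw [hc.mul_pow, pow_eq_pow_iff_modEq.2 he1, pow_one, pow_eq_pow_iff_modEq.2 he0, pow_zero, mul_one]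

/-- Let p be a prime and G a finite group. Then some Sylow p-subgroup of G is a direct factor of G (normal with a normal complement) if and only if for every element x of p-power order and every element y whose order is a power of a prime other than p, the conjugacy class of x y has as many elements as the product of the sizes of the classes of x and of y. -/
theorem result {G : Type*} [Group G] [Finite G] (p : ℕ) [Fact p.Prime] : (∃ (P : Sylow p G) (K : Subgroup G), (P : Subgroup G).Normal ∧ K.Normal ∧ (P : Subgroup G) ⊓ K = ⊥ ∧ (P : Subgroup G) ⊔ K = ⊤) ↔ ∀ x y : G, (∃ a : ℕ, orderOf x = p ^ a) → (∃ q b : ℕ, q.Prime ∧ q ≠ p ∧ orderOf y = q ^ b) → (Subgroup.centralizer ({x * y} : Set G)).index = (Subgroup.centralizer ({x} : Set G)).index * (Subgroup.centralizer ({y} : Set G)).index := by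
  classical
  have hp : p.Prime := Fact.out
  constructor
  · rintro ⟨P, K, hPn, hKn, hinf, hsup⟩ x y ⟨a, hxa⟩ ⟨q, b, hq, hqp, hyb⟩
    haveI := hPn; haveI := hKn
    haveI := Fact.mk hq
    have hcomm : ∀ u ∈ (P : Subgroup G), ∀ v ∈ K, u * v = v * u := fun u hu v hv =>
      (Subgroup.commute_of_normal_of_disjoint _ _ hPn hKn (disjoint_iff.2 hinf) u v hu hv).eq
    have hxP : x ∈ (P : Subgroup G) := by
      haveI := Sylow.unique_of_normal P hPn
      have hpg : IsPGroup p ↥(Subgroup.zpowers x) := IsPGroup.of_card (by rw [Nat.card_zpowers, hxa])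
      obtain ⟨Q, hQ⟩ := hpg.exists_le_sylow
      rw [Subsingleton.elim P Q]; exact hQ (Subgroup.mem_zpowers x)
    have hcompl : Subgroup.IsComplement' (P : Subgroup G) K :=
      Subgroup.isComplement'_of_disjoint_and_mul_eq_univ (disjoint_iff.2 hinf) (by
        rw [← Subgroup.mul_normal, hsup]; rfl)
    have hyK : y ∈ K := by
      rw [← QuotientGroup.eq_one_iff]
      have h1 : orderOf (y : G ⧸ K) ∣ q ^ b := hyb ▸ orderOf_map_dvd (QuotientGroup.mk' K) y
      obtain ⟨k, hk⟩ := P.2.exists_card_eq
      have h2 : orderOf (y : G ⧸ K) ∣ p ^ k := by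
        rw [← hk, ← hcompl.index_eq_card, Subgroup.index]
        exact orderOf_dvd_natCard _
      exact orderOf_eq_one_iff.1 (Nat.eq_one_of_dvd_coprimes
        ((Nat.coprime_primes hq hp).2 hqp |>.pow b k) h1 h2)
    have hxy : Commute x y := hcomm x hxP y hyK
    have hcop : (orderOf x).Coprime (orderOf y) := by
      rw [hxa, hyb]; exact ((Nat.coprime_primes hp hq).2 (Ne.symm hqp)).pow a b
    obtain ⟨e, he⟩ := exists_pow_eq_left hxy hcop
    obtain ⟨f, hf⟩ := exists_pow_eq_left hxy.symm hcop.symm
    rw [← hxy.eq] at hf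
    have hCeq : Subgroup.centralizer ({x * y} : Set G) =
        Subgroup.centralizer {x} ⊓ Subgroup.centralizer {y} := by
      ext g
      simp only [Subgroup.mem_inf, Subgroup.mem_centralizer_singleton_iff]
      constructor
      · intro h
        have hg : Commute g (x * y) := h
        exact ⟨by have := hg.pow_right e; rwa [he] at this, by have := hg.pow_right f; rwa [hf] at this⟩
      · rintro ⟨h1, h2⟩
        exact (Commute.mul_right h1 h2 : Commute g (x * y))
    rw [hCeq]
    refine le_antisymm (Subgroup.index_inf_le) (Nat.le_of_dvd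
      (Nat.pos_of_ne_zero Subgroup.index_ne_zero_of_finite) ?_)
    have hKC : K ≤ Subgroup.centralizer {x} := fun v hv =>
      Subgroup.mem_centralizer_singleton_iff.2 (hcomm x hxP v hv).symm
    have hPC : (P : Subgroup G) ≤ Subgroup.centralizer {y} := fun u hu =>
      Subgroup.mem_centralizer_singleton_iff.2 (hcomm u hu y hyK)
    refine Nat.Coprime.mul_dvd_of_dvd_of_dvd ?_ (Subgroup.index_dvd_of_le inf_le_left)
      (Subgroup.index_dvd_of_le inf_le_right)
    refine Nat.Coprime.coprime_dvd_left (Subgroup.index_dvd_of_le hKC)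
      (Nat.Coprime.coprime_dvd_right (Subgroup.index_dvd_of_le hPC) ?_)
    obtain ⟨k, hk⟩ := P.2.exists_card_eq
    rw [hcompl.index_eq_card, hk]
    exact ((Nat.Prime.coprime_iff_not_dvd hp).2 P.not_dvd_index).pow_left k
  · intro h
    have hcomm : ∀ x y : G, (∃ a : ℕ, orderOf x = p ^ a) →
        (∃ q b : ℕ, q.Prime ∧ q ≠ p ∧ orderOf y = q ^ b) → x * y = y * x := by
      intro x y hx hy
      have hxy := h x y hx hy
      have hle : Subgroup.centralizer {x} ⊓ Subgroup.centralizer {y} ≤
          Subgroup.centralizer ({x * y} : Set G) := by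
        rintro g ⟨h1, h2⟩
        rw [Subgroup.mem_centralizer_singleton_iff]
        exact (Commute.mul_right (Subgroup.mem_centralizer_singleton_iff.1 h1)
          (Subgroup.mem_centralizer_singleton_iff.1 h2) : Commute g (x * y))
      have hidx : (Subgroup.centralizer {x} ⊓ Subgroup.centralizer {y}).index ≤
          (Subgroup.centralizer ({x * y} : Set G)).index := hxy ▸ Subgroup.index_inf_le
      have heq : Subgroup.centralizer {x} ⊓ Subgroup.centralizer {y} =
          Subgroup.centralizer ({x * y} : Set G) := by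
        by_contra hne
        exact absurd hidx (not_le.2 (Subgroup.index_strictAnti (lt_of_le_of_ne hle hne)))
      have hm : x * y ∈ Subgroup.centralizer {x} ⊓ Subgroup.centralizer {y} :=
        heq ▸ Subgroup.mem_centralizer_singleton_iff.2 rfl
      have := Subgroup.mem_centralizer_singleton_iff.1 hm.1
      rw [mul_assoc] at this
      exact (mul_left_cancel this).symm
    obtain ⟨P⟩ : Nonempty (Sylow p G) := inferInstance
    have hQC : ∀ q : ℕ, q.Prime → q ≠ p → ∀ H : Subgroup G, IsPGroup q H →
        H ≤ Subgroup.centralizer ((P : Subgroup G) : Set G) := by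
      intro q hq hqp H hH v hv
      haveI := Fact.mk hq
      refine Subgroup.mem_centralizer_iff.2 fun u hu => hcomm u v ?_ ⟨q, ?_⟩
      · obtain ⟨a, ha⟩ := IsPGroup.iff_orderOf.1 P.2 ⟨u, hu⟩
        exact ⟨a, by rw [← ha, Subgroup.orderOf_mk]⟩
      · obtain ⟨b, hb⟩ := IsPGroup.iff_orderOf.1 hH ⟨v, hv⟩
        exact ⟨b, hq, hqp, by rw [← hb, Subgroup.orderOf_mk]⟩
    have hPn : (P : Subgroup G).Normal := by
      rw [← Subgroup.normalizer_eq_top_iff]
      refine eq_top_of_sylows _ fun q hq => ?_
      rcases eq_or_ne q p with rfl | hqp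
      · exact ⟨P, Subgroup.le_normalizer⟩
      · haveI := Fact.mk hq
        obtain ⟨Q⟩ : Nonempty (Sylow q G) := inferInstance
        exact ⟨Q, (hQC q hq hqp _ Q.2).trans (Subgroup.centralizer_le_normalizer _)⟩
    obtain ⟨K, hK⟩ := Subgroup.exists_right_complement'_of_coprime (N := (P : Subgroup G))
      P.card_coprime_index
    have hKC : K ≤ Subgroup.centralizer ((P : Subgroup G) : Set G) := by
      rw [← Subgroup.subgroupOf_eq_top]
      refine eq_top_of_sylows _ fun q hq => ?_
      haveI := Fact.mk hq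
      obtain ⟨Q⟩ : Nonempty (Sylow q K) := inferInstance
      refine ⟨Q, fun v hv => Subgroup.mem_subgroupOf.2 ?_⟩
      rcases eq_or_ne q p with rfl | hqp
      · have h1 : Nat.card K = (P : Subgroup G).index := hK.symm.index_eq_card.symm
        have : Q.1 = ⊥ := by
          rw [Subgroup.eq_bot_iff_card, Q.card_eq_multiplicity,
            Nat.factorization_eq_zero_of_not_dvd (by rw [h1]; exact P.not_dvd_index), pow_zero]
        rw [show v = 1 from Subgroup.mem_bot.1 (this ▸ hv)]
        exact one_mem _
      · exact hQC q hq hqp _ (Q.2.map K.subtype) (Subgroup.mem_map_of_mem K.subtype hv)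
    refine ⟨P, K, hPn, ?_, hK.disjoint.eq_bot, hK.sup_eq_top⟩
    rw [← Subgroup.normalizer_eq_top_iff, eq_top_iff, ← hK.sup_eq_top]
    refine sup_le ?_ Subgroup.le_normalizer
    exact (Subgroup.le_centralizer_iff.1 hKC).trans (Subgroup.centralizer_le_normalizer _)

end Cfsg.Agent.S3987
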