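import Cfsg.Statements.S3989
import Cfsg.Agent.Lib.Fusion.PComplement
import Cfsg.Agent.Lib.Fusion.Residual
import Cfsg.Agent.Lib.Fusion.System.PSolvableModel
import Cfsg.Agent.Lib.Block.FongSwan.Central

set_option autoImplicit false
open Cfsg

namespace Cfsg.Agent.S3989

universe u

open Subgroup

private def Hyp (p : ℕ) (G : Type u) [Group G] : Prop :=
  ∀ x y : G, (∃ a : ℕ, orderOf x = p ^ a) → (∃ q b : ℕ, q.Prime ∧ q ≠ p ∧ orderOf y = q ^ b) →
    ∀ z : G, IsConj (x * y) z ↔ ∃ a b : G, z = a * x * a⁻¹ * (b * y * b⁻¹)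

private theorem hyp_quotient {p : ℕ} [hp : Fact p.Prime] {G : Type u} [Group G] [Finite G]
    (h : Hyp p G) (N : Subgroup G) [N.Normal] : Hyp p (G ⧸ N) := by
  intro X Y hX hY Z
  have key : ∀ (r : ℕ), r.Prime → ∀ W : G ⧸ N, (∃ a : ℕ, orderOf W = r ^ a) →
      ∃ w : G, (w : G ⧸ N) = W ∧ ∃ a : ℕ, orderOf w = r ^ a := by
    intro r hr W ⟨a, ha⟩
    obtain ⟨g, rfl⟩ := QuotientGroup.mk_surjective W
    set n := orderOf g with hn
    have hn0 : n ≠ 0 := (orderOf_pos g).ne'
    obtain ⟨e, m, hm, hnm⟩ := Nat.exists_eq_pow_mul_and_not_dvd hn0 r hr.ne_one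
    have hcop : Nat.Coprime m (r ^ a) := Nat.Coprime.pow_right a (hr.coprime_iff_not_dvd.2 hm).symm
    obtain ⟨k, hk0, hk1⟩ := Nat.chineseRemainder hcop 0 1
    refine ⟨g ^ k, ?_, ?_⟩
    · rw [QuotientGroup.mk_pow]
      calc (g : G ⧸ N) ^ k = (g : G ⧸ N) ^ 1 := pow_eq_pow_iff_modEq.2 (by rw [ha]; exact hk1)
        _ = _ := pow_one _
    · obtain ⟨l, hl⟩ := Nat.modEq_zero_iff_dvd.1 hk0
      have hd : orderOf (g ^ k) ∣ r ^ e := orderOf_dvd_of_pow_eq_one (by
        rw [← pow_mul, show k * r ^ e = n * l by rw [hnm, hl]; ring, pow_mul, hn, pow_orderOf_eq_one, one_pow])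
      obtain ⟨i, -, hi⟩ := (Nat.dvd_prime_pow hr).1 hd
      exact ⟨i, hi⟩
  obtain ⟨q, b, hq, hqp, hYb⟩ := hY
  obtain ⟨x, rfl, hx⟩ := key p hp.out X hX
  obtain ⟨y, rfl, hy⟩ := key q hq Y ⟨b, hYb⟩
  obtain ⟨i, hi⟩ := hy
  have hxy := h x y hx ⟨q, i, hq, hqp, hi⟩
  constructor
  · intro hc
    obtain ⟨C, hC⟩ := isConj_iff.1 hc
    obtain ⟨c, rfl⟩ := QuotientGroup.mk_surjective C
    obtain ⟨a, b, hab⟩ := (hxy (c * (x * y) * c⁻¹)).1 (isConj_iff.2 ⟨c, rfl⟩)
    refine ⟨(a : G ⧸ N), (b : G ⧸ N), ?_⟩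
    rw [← hC]
    simpa using congrArg (QuotientGroup.mk : G → G ⧸ N) hab
  · rintro ⟨A, B, rfl⟩
    obtain ⟨a, rfl⟩ := QuotientGroup.mk_surjective A
    obtain ⟨b, rfl⟩ := QuotientGroup.mk_surjective B
    obtain ⟨c, hc⟩ := isConj_iff.1 ((hxy _).2 ⟨a, b, rfl⟩)
    refine isConj_iff.2 ⟨(c : G ⧸ N), ?_⟩
    simpa using congrArg (QuotientGroup.mk : G → G ⧸ N) hc

private theorem main {p : ℕ} [hp : Fact p.Prime] : ∀ n : ℕ, ∀ (G : Type u) [Group G] [Finite G],
    Nat.card G ≤ n → Hyp p G → Cfsg.IsPSolvable p G := by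
  intro n
  induction n with
  | zero => intro G _ _ hcard; have := (Nat.card_pos : 0 < Nat.card G); omega
  | succ n ih =>
    intro G _ _ hcard h
    rcases subsingleton_or_nontrivial G with hs | hnt
    · exact ⟨0, fun _ => ⊥, rfl, Subgroup.ext fun g => by simp [Subsingleton.elim g 1],
        monotone_const, fun _ => inferInstance, fun i => Fin.elim0 i⟩
    obtain ⟨N, ⟨hNn, hN1⟩, hmin⟩ : ∃ N : Subgroup G, (N.Normal ∧ N ≠ ⊥) ∧
        ∀ M : Subgroup G, M.Normal → M ≠ ⊥ → M ≤ N → M = N := by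
      obtain ⟨N, hN⟩ := ((Set.toFinite {N : Subgroup G | N.Normal ∧ N ≠ ⊥})).exists_minimal
        ⟨⊤, inferInstance, top_ne_bot⟩
      exact ⟨N, hN.prop, fun M h1 h2 h3 => le_antisymm h3 (hN.le_of_le ⟨h1, h2⟩ h3)⟩
    haveI := hNn
    have hq : Cfsg.IsPSolvable p (G ⧸ N) := by
      refine ih _ ?_ (hyp_quotient h N)
      have h1 := card_eq_card_quotient_mul_card_subgroup N
      have h2 : 1 < Nat.card N := (one_lt_card_iff_ne_bot _).2 hN1
      have h3 : 0 < Nat.card (G ⧸ N) := Nat.card_pos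
      nlinarith
    -- every prime power element of coprime order normalising a p-subgroup of N centralises it
    have hcore : ∀ (Q : Subgroup G), IsPGroup p Q → Q ≤ N → ∀ y ∈ N,
        (∃ q b : ℕ, q.Prime ∧ q ≠ p ∧ orderOf y = q ^ b) →
        (∀ u ∈ Q, y * u * y⁻¹ ∈ Q) → ∀ u ∈ Q, y * u = u * y := by
      intro Q hQp hQN y hyN hy hnorm u hu
      by_contra hne
      set x := u * y * u⁻¹ * y⁻¹ with hx
      have hxQ : x ∈ Q := by
        rw [show x = u * (y * u⁻¹ * y⁻¹) by simp only [hx]; group]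
        exact mul_mem hu (hnorm _ (inv_mem hu))
      have hx1 : x ≠ 1 := fun e => hne (by
        have e2 : x * (y * u) = u * y := by simp only [hx]; group
        rwa [e, one_mul] at e2)
      obtain ⟨a, ha⟩ := IsPGroup.iff_orderOf.1 hQp ⟨x, hxQ⟩
      rw [Subgroup.orderOf_mk] at ha
      have hxy : IsConj y (x * y) := isConj_iff.2 ⟨u, by simp only [hx]; group⟩
      let S : Submonoid G :=
        { carrier := {m | ∀ z, IsConj y z → IsConj y (m * z)}
          one_mem' := fun z hz => by rwa [one_mul]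
          mul_mem' := fun {c d} hc hd z hz => by rw [mul_assoc]; exact hc _ (hd z hz) }
      have hsub : Subgroup.normalClosure {x} ≤ N :=
        normalClosure_le_normal (Set.singleton_subset_iff.2 (hQN hxQ))
      have hK : Subgroup.normalClosure {x} = N := hmin _ inferInstance
        (fun e => hx1 (mem_bot.1 (e ▸ subset_normalClosure rfl))) hsub
      have hS : Subgroup.normalClosure {x} ≤
          Subgroup.closure ((S : Set G)) := by
        refine (Subgroup.closure_le _).2 fun m hm => subset_closure ?_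
        obtain ⟨x', hx', hm'⟩ := Group.mem_conjugatesOfSet_iff.1 hm
        rw [Set.mem_singleton_iff] at hx'
        subst hx'
        obtain ⟨c, rfl⟩ := isConj_iff.1 hm'
        intro z hz
        obtain ⟨b, rfl⟩ := isConj_iff.1 hz
        exact hxy.trans ((h x y ⟨a, ha⟩ hy _).2 ⟨c, b, rfl⟩)
      have hmem : y⁻¹ ∈ S := by
        have h1 : y⁻¹ ∈ Subgroup.closure (S : Set G) := hS (hK.symm ▸ inv_mem hyN)
        rw [← Subgroup.mem_toSubmonoid, Subgroup.closure_toSubmonoid_of_finite,
          Submonoid.closure_eq] at h1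
        exact h1
      have h1 := hmem y (IsConj.refl y)
      rw [inv_mul_cancel] at h1
      rw [isConj_one_left.1 h1] at hne
      exact hne (by simp)
    obtain ⟨T⟩ : Nonempty (Sylow p N) := inferInstance
    have hloc : CfsgLib.Fusion.LocallyPNilpotentAction p (T : Subgroup N) := by
      intro Q hQ
      suffices H : ∀ m : ℕ, ∀ g ∈ Subgroup.normalizer (Q : Set N), orderOf g = m →
          Nat.Coprime m p → g ∈ Subgroup.centralizer (Q : Set N) from
        fun g hg hc => H _ g hg rfl hc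
      intro m
      induction m using Nat.recOnPosPrimePosCoprime with
      | prime_pow q b hpr hb =>
        intro g hg ho hc
        rw [mem_centralizer_iff]
        intro u hu
        have hqp : q ≠ p := fun e => by
          subst e
          exact hpr.ne_one (Nat.eq_one_of_dvd_coprimes hc (dvd_pow_self q hb.ne') dvd_rfl)
        have := hcore (Q.map N.subtype) ((T.2.to_le hQ).map _) (map_subtype_le _) (g : G) g.2
          ⟨q, b, hpr, hqp, by rw [Subgroup.orderOf_coe, ho]⟩
          (by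
            rintro _ ⟨v, hv, rfl⟩
            exact ⟨g * v * g⁻¹, (Subgroup.mem_normalizer_iff.1 hg v).1 hv, rfl⟩)
          (u : G) ⟨u, hu, rfl⟩
        exact Subtype.ext this.symm
      | zero => intro g _ ho; exact absurd ho (orderOf_pos g).ne'
      | one => intro g _ ho _; rw [orderOf_eq_one_iff.1 ho]; exact one_mem _
      | coprime c d hc1 hd1 hcd ihc ihd =>
        intro g hg ho hcop
        obtain ⟨k, hk⟩ := Int.isCoprime_iff_gcd_eq_one.2 (by exact_mod_cast hcd :
          Int.gcd (c : ℤ) (d : ℤ) = 1)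
        have e : g = (g ^ c) ^ k * (g ^ d) ^ hk.choose := by
          have := hk.choose_spec
          rw [← zpow_natCast, ← zpow_natCast, ← zpow_mul, ← zpow_mul, ← zpow_add,
            show (c : ℤ) * k + (d : ℤ) * hk.choose = 1 by linarith, zpow_one]
        rw [e]
        refine mul_mem (zpow_mem (ihd _ (pow_mem hg _) ?_ ?_) _) (zpow_mem (ihc _ (pow_mem hg _) ?_ ?_) _)
        · rw [orderOf_pow_of_dvd (by omega) (ho ▸ dvd_mul_right c d), ho,
            Nat.mul_div_cancel_left _ (by omega)]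
        · exact hcop.coprime_dvd_left (dvd_mul_left d c)
        · rw [orderOf_pow_of_dvd (by omega) (ho ▸ dvd_mul_left d c), ho,
            Nat.mul_div_cancel _ (by omega)]
        · exact hcop.coprime_dvd_left (dvd_mul_right c d)
    obtain ⟨T', hcompl⟩ : ∃ T' : Sylow p N,
        (Cfsg.pResidual p N).IsComplement' (T' : Subgroup N) :=
      ⟨default, CfsgLib.Fusion.hasNormalPComplement_iff_forall_sylow.1
        (CfsgLib.Fusion.hasNormalPComplement_of_locallyPNilpotentAction T hloc) default⟩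
    have hR := (CfsgLib.Fusion.hasNormalPComplement_iff_not_dvd).1
        (CfsgLib.Fusion.hasNormalPComplement_of_locallyPNilpotentAction T hloc)
    haveI : (Cfsg.pResidual p N).Characteristic := by
      refine characteristic_iff_map_le.2 fun e => ?_
      rw [map_le_iff_le_comap]
      exact (closure_le _).2 fun x hx => CfsgLib.Fusion.mem_pResidual
        (Nat.Coprime.coprime_dvd_left (orderOf_map_dvd e.toMonoidHom x) hx)
    let R := (Cfsg.pResidual p N).map N.subtype
    haveI : R.Normal := inferInstance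
    rcases eq_or_ne R ⊥ with hR0 | hR0
    · refine CfsgLib.Fusion.isPSolvable_of_pGroup_extension N ?_ hq
      have hb : Cfsg.pResidual p N = ⊥ := (map_eq_bot_iff_of_injective _ N.subtype_injective).1 hR0
      rw [hb, isComplement'_bot_left] at hcompl
      intro g
      obtain ⟨j, hj⟩ := T'.2 ⟨g, hcompl.symm ▸ mem_top g⟩
      exact ⟨j, congrArg Subtype.val hj⟩
    · have hRN : R = N := hmin R inferInstance hR0 (map_subtype_le _)
      refine CfsgLib.Block.FongSwan.isPSolvable_of_coprime_extension (QuotientGroup.mk' N)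
        (QuotientGroup.mk'_surjective N) ?_ hq
      rw [QuotientGroup.ker_mk', ← hRN, card_map_of_injective N.subtype_injective]
      exact ((hp.out.coprime_iff_not_dvd).2 hR).symm


/-- Let p be a prime and G a finite group such that for every element x of p-power order and every element y whose order is a power of a prime other than p, the conjugacy class of x y is the set of all products of a conjugate of x with a conjugate of y. Then G is p-solvable. -/
theorem result {G : Type*} [Group G] [Finite G] (p : ℕ) [Fact p.Prime] (h : ∀ x y : G, (∃ a : ℕ, orderOf x = p ^ a) → (∃ q b : ℕ, q.Prime ∧ q ≠ p ∧ orderOf y = q ^ b) → ∀ z : G, IsConj (x * y) z ↔ ∃ a b : G, z = a * x * a⁻¹ * (b * y * b⁻¹)) : Cfsg.IsPSolvable p G := by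
  exact main _ G le_rfl h

end Cfsg.Agent.S3989
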