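import Cfsg.Statements.S3992
-- import your own Cfsg.Agent.* helpers here
import Mathlib
import Cfsg.Agent.Lib.Coprime.FpfAction
import Cfsg.Agent.Lib.Coprime.Fitting
import Cfsg.Agent.Lib.Coprime.Core

set_option autoImplicit false
open Cfsg

namespace Cfsg.Agent.S3992

universe u

open Subgroup

theorem eq_of_commute {G : Type u} [Group G] [Finite G] (hpp : ∀ g : G, g ≠ 1 → IsPrimePow (orderOf g))
    {a g : G} {q r : ℕ} (hq : q.Prime) (ha : orderOf a = q) (hc : Commute a g) (hr : r.Prime)
    (hrg : r ∣ orderOf g) : r = q := by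
  by_contra hne
  have ho : orderOf (g ^ (orderOf g / r)) = r := orderOf_pow_orderOf_div (orderOf_pos g).ne' hrg
  have hco : (orderOf a).Coprime (orderOf (g ^ (orderOf g / r))) := by
    rw [ha, ho]; exact (Nat.coprime_primes hq hr).2 (Ne.symm hne)
  have h := (hc.pow_right _).orderOf_mul_eq_mul_orderOf_of_coprime hco
  rw [ha, ho] at h
  have h1 : a * g ^ (orderOf g / r) ≠ 1 := by
    intro e
    rw [e, orderOf_one] at h
    have := hq.two_le; have := hr.two_le; nlinarith
  obtain ⟨s, k, hs, -, hk⟩ := (isPrimePow_nat_iff _).1 (hpp _ h1)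
  rw [h] at hk
  have e1 := (Nat.prime_dvd_prime_iff_eq hq hs).1 (hq.dvd_of_dvd_pow (hk ▸ dvd_mul_right q r))
  have e2 := (Nat.prime_dvd_prime_iff_eq hr hs).1 (hr.dvd_of_dvd_pow (hk ▸ dvd_mul_left r q))
  exact hne (e2.trans e1.symm)

theorem isPGroup_of_commute {G : Type u} [Group G] [Finite G] (hpp : ∀ g : G, g ≠ 1 → IsPrimePow (orderOf g))
    {a : G} {q : ℕ} (hq : q.Prime) (ha : orderOf a = q) (H : Subgroup G) (hH : ∀ g ∈ H, Commute a g) :
    IsPGroup q H := by
  haveI := Fact.mk hq
  refine IsPGroup.iff_orderOf.2 fun g => ?_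
  rw [← Subgroup.orderOf_coe]
  exact ⟨_, Nat.eq_prime_pow_of_unique_prime_dvd (orderOf_pos _).ne'
    fun {r} hr hrd => eq_of_commute hpp hq ha (hH g g.2) hr hrd⟩

theorem exists_orderOf {G : Type u} [Group G] [Finite G] {H : Subgroup G} (hH : H ≠ ⊥) :
    ∃ q : ℕ, q.Prime ∧ ∃ a ∈ H, orderOf a = q := by
  obtain ⟨q, hq, hqd⟩ := Nat.exists_prime_and_dvd (fun e => hH (Subgroup.card_eq_one.1 e) : Nat.card H ≠ 1)
  haveI := Fact.mk hq
  obtain ⟨a, ha⟩ := exists_prime_orderOf_dvd_card' q hqd
  exact ⟨q, hq, a, a.2, by rw [Subgroup.orderOf_coe, ha]⟩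

theorem isFpfOn {G : Type u} [Group G] [Finite G] (hpp : ∀ g : G, g ≠ 1 → IsPrimePow (orderOf g))
    {p : ℕ} (hp : p.Prime) {A N : Subgroup G} (hN : IsPGroup p N) (hA : ¬ p ∣ Nat.card A) :
    CfsgLib.Coprime.IsFpfOn A N := by
  intro a ha ha1
  refine (Subgroup.eq_bot_iff_forall _).2 fun v hv => ?_
  by_contra hv1
  haveI := Fact.mk hp
  obtain ⟨k, hk⟩ := hN.to_le (zpowers_le.2 hv.1) |> IsPGroup.iff_card.1
  rw [Nat.card_zpowers] at hk
  have hk0 : k ≠ 0 := fun e => hv1 (orderOf_eq_one_iff.1 (by rw [hk, e, pow_zero]))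
  have ho : orderOf (v ^ (orderOf v / p)) = p := orderOf_pow_orderOf_div (orderOf_pos v).ne' (hk ▸ dvd_pow_self p hk0)
  obtain ⟨r, hr, hrd⟩ := Nat.exists_prime_and_dvd (fun e => ha1 (orderOf_eq_one_iff.1 e))
  have h := eq_of_commute hpp hp ho (Commute.pow_left (mem_centralizer_singleton_iff.1 hv.2) _) hr hrd
  exact hA (h ▸ hrd.trans (orderOf_mk_dvd ha))
where
  orderOf_mk_dvd {G : Type u} [Group G] {A : Subgroup G} {a : G} (ha : a ∈ A) : orderOf a ∣ Nat.card A := by
    rw [← Subgroup.orderOf_mk a ha]; exact orderOf_dvd_natCard _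

theorem two_primes {G : Type u} [Group G] [Finite G] (hpp : ∀ g : G, g ≠ 1 → IsPrimePow (orderOf g))
    [Group.IsSolvable G] : (Nat.card G).primeFactors.card ≤ 2 := by
  classical
  by_cases htriv : (⊤ : Subgroup G) = ⊥
  · rw [← Subgroup.card_top, htriv, Subgroup.card_bot]; simp
  obtain ⟨N, hNn, hN1, -, hNmin⟩ := CfsgLib.Coprime.exists_minimal_normal_le htriv
  obtain ⟨hNab, p, hp, hNp⟩ := CfsgLib.Coprime.minimal_normal_solvable hN1 hNmin
  haveI := Fact.mk hp
  have hNpg : IsPGroup p N := fun x => ⟨1, Subtype.ext (by simpa using hNp x x.2)⟩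
  set P := Cfsg.pCore p G with hPdef
  haveI hPn : P.Normal := CfsgLib.Coprime.pCore_normal' p
  have hPp : IsPGroup p P := CfsgLib.Coprime.pCore_isPGroup p
  obtain ⟨c, hc⟩ := IsPGroup.iff_card.1 hPp
  by_cases hPtop : P = ⊤
  · refine le_trans (Finset.card_le_card (t := {p}) fun r hr => ?_) (by simp)
    obtain ⟨hr', hrd, -⟩ := Nat.mem_primeFactors.1 hr
    rw [← Subgroup.card_top, ← hPtop, hc] at hrd
    exact Finset.mem_singleton.2 ((Nat.prime_dvd_prime_iff_eq hr' hp).1 (hr'.dvd_of_dvd_pow hrd))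
  have htop : (⊤ : Subgroup (G ⧸ P)) ≠ ⊥ := by
    intro e
    refine hPtop (eq_top_iff.2 fun g _ => (QuotientGroup.eq_one_iff g).1 ?_)
    exact Subgroup.mem_bot.1 (e ▸ Subgroup.mem_top _)
  obtain ⟨Qb, hQn, hQ1, -, hQmin⟩ := CfsgLib.Coprime.exists_minimal_normal_le htop
  haveI : Group.IsSolvable (G ⧸ P) := Group.isSolvable_of_surjective (QuotientGroup.mk'_surjective P)
  obtain ⟨hQab, q, hq, hQq⟩ := CfsgLib.Coprime.minimal_normal_solvable hQ1 hQmin
  haveI := Fact.mk hq
  have hQpg : IsPGroup q Qb := fun x => ⟨1, Subtype.ext (by simpa using hQq x x.2)⟩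
  have hpq : p ≠ q := by
    rintro rfl
    have h := CfsgLib.Coprime.le_pCore hQpg
    rw [CfsgLib.Coprime.pCore_quotient_eq_bot p] at h
    exact hQ1 (le_bot_iff.1 h)
  set M := Qb.comap (QuotientGroup.mk' P) with hM
  haveI hMn : M.Normal := hQn.comap _
  let S : Sylow q M := default
  set Q := (S : Subgroup M).map M.subtype with hQdef
  have hQp : IsPGroup q Q := S.2.map _
  have hnd : ∀ {A : Subgroup G}, IsPGroup q A → ¬ p ∣ Nat.card A := by
    intro A hA hd
    obtain ⟨k, hk⟩ := IsPGroup.iff_card.1 hA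
    rw [hk] at hd
    exact hpq ((Nat.prime_dvd_prime_iff_eq hp hq).1 (hp.dvd_of_dvd_pow hd))
  have hQfpf := isFpfOn hpp hp hNpg (hnd hQp)
  have hQP : Q ⊓ P = ⊥ := by
    refine Subgroup.inf_eq_bot_of_coprime ?_
    rw [hc]
    exact (((Nat.Prime.coprime_iff_not_dvd hp).2 (hnd hQp)).pow_left c).symm
  have hQel : ∀ x ∈ Q, x ^ q = 1 ∧ ∀ y ∈ Q, x * y = y * x := by
    intro x hx
    have hxb : QuotientGroup.mk' P x ∈ Qb := by
      obtain ⟨m, -, rfl⟩ := hx; exact m.2
    refine ⟨?_, fun y hy => ?_⟩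
    · rw [← Subgroup.mem_bot, ← hQP]
      refine ⟨pow_mem hx q, (QuotientGroup.eq_one_iff _).1 ?_⟩
      rw [← QuotientGroup.mk'_apply, map_pow, hQq _ hxb]
    · have hyb : QuotientGroup.mk' P y ∈ Qb := by
        obtain ⟨m, -, rfl⟩ := hy; exact m.2
      rw [← commutatorElement_eq_one_iff_mul_comm, ← Subgroup.mem_bot, ← hQP]
      refine ⟨?_, (QuotientGroup.eq_one_iff _).1 ?_⟩
      · show x * y * x⁻¹ * y⁻¹ ∈ Q
        exact mul_mem (mul_mem (mul_mem hx hy) (inv_mem hx)) (inv_mem hy)
      · rw [← QuotientGroup.mk'_apply, map_commutatorElement, commutatorElement_eq_one_iff_mul_comm]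
        exact hQab _ hxb _ hyb
  haveI : IsMulCommutative Q := ⟨⟨fun a b => Subtype.ext ((hQel a a.2).2 b b.2)⟩⟩
  have hNnorm : ∀ A : Subgroup G, A ≤ normalizer (N : Set G) := fun A => by
    rw [Subgroup.normalizer_eq_top_iff.2 hNn]; exact le_top
  have hQcyc := hQfpf.isCyclic (hNnorm Q) hN1
  have hfr : normalizer (Q : Set G) ⊔ M = ⊤ := Sylow.normalizer_sup_eq_top S
  refine le_trans (Finset.card_le_card (t := {p, q}) fun r hr => ?_) (Finset.card_insert_le _ _)
  obtain ⟨hr', hrd, -⟩ := Nat.mem_primeFactors.1 hr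
  by_contra hrpq
  simp only [Finset.mem_insert, Finset.mem_singleton, not_or] at hrpq
  obtain ⟨hrp, hrq⟩ := hrpq
  haveI := Fact.mk hr'
  have hrN : r ∣ Nat.card (normalizer (Q : Set G)) := by
    rw [← Subgroup.card_top, ← hfr] at hrd
    have h := CfsgLib.Coprime.card_sup_dvd_of_normal (normalizer (Q : Set G)) M
    rcases hr'.dvd_mul.1 (hrd.trans h) with h | h
    · exact h
    · exfalso
      have hcard : Nat.card M = Nat.card P * Nat.card Qb := by
        have := CfsgLib.Coprime.card_eq_card_mul_card_map_mk' P (M := M)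
          (fun x hx => by
            show QuotientGroup.mk' P x ∈ Qb
            rw [(QuotientGroup.eq_one_iff x).2 hx |> fun e => (e : QuotientGroup.mk' P x = 1)]
            exact one_mem _)
        rwa [hM, Subgroup.map_comap_eq_self_of_surjective (QuotientGroup.mk'_surjective P)] at this
      obtain ⟨d, hd⟩ := IsPGroup.iff_card.1 hQpg
      rw [hcard, hc, hd] at h
      rcases hr'.dvd_mul.1 h with h | h
      · exact hrp ((Nat.prime_dvd_prime_iff_eq hr' hp).1 (hr'.dvd_of_dvd_pow h))
      · exact hrq ((Nat.prime_dvd_prime_iff_eq hr' hq).1 (hr'.dvd_of_dvd_pow h))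
  obtain ⟨y, hy⟩ := exists_prime_orderOf_dvd_card' r hrN
  rw [← Subgroup.orderOf_coe] at hy
  have hQ1' : Q ≠ ⊥ := by
    intro e
    have hS : (S : Subgroup M) = ⊥ := (Subgroup.map_eq_bot_iff_of_injective _ M.subtype_injective).1 e
    obtain ⟨q', hq', b, hb, hbo⟩ := exists_orderOf hQ1
    obtain ⟨d, hd⟩ := IsPGroup.iff_card.1 hQpg
    have hd0 : d ≠ 0 := fun e => hQ1 (Subgroup.card_eq_one.1 (by rw [hd, e, pow_zero]))
    have hqM : q ∣ Nat.card M := by
      have h := Subgroup.card_dvd_of_surjective (QuotientGroup.mk' P |>.subgroupComap Qb)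
        (MonoidHom.subgroupComap_surjective_of_surjective _ _ (QuotientGroup.mk'_surjective P))
      exact (hd ▸ dvd_pow_self q hd0).trans h
    have h2 : q ∣ Nat.card (S : Subgroup M) := S.dvd_card_of_dvd_card hqM
    rw [hS, Subgroup.card_bot] at h2
    exact hq.not_dvd_one h2
  obtain ⟨x, hx⟩ := hQcyc.exists_generator
  have hxQ : zpowers (x : G) = Q := le_antisymm (zpowers_le.2 x.2) fun z hz => by
    obtain ⟨i, hi⟩ := hx ⟨z, hz⟩
    exact ⟨i, by simpa using congrArg Subtype.val hi⟩
  have hxo : orderOf (x : G) = q := by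
    refine orderOf_eq_prime (hQel _ x.2).1 fun e => hQ1' ?_
    rw [← hxQ, e, Subgroup.zpowers_one_eq_bot]
  have hconj : (y : G) * x * (y : G)⁻¹ ∈ zpowers (x : G) := by
    rw [hxQ]; exact (mem_normalizer_iff.1 y.2 _).1 x.2
  set A := Q ⊔ zpowers (y : G) with hA
  have hAcard : ¬ p ∣ Nat.card A := by
    intro h
    have hd : Nat.card A ∣ Nat.card (zpowers (y : G)) * Nat.card Q := by
      rw [hA, sup_comm]
      exact CfsgLib.Coprime.card_sup_dvd_of_le_normalizer (zpowers_le.2 y.2)
    rcases hp.dvd_mul.1 (h.trans hd) with h | h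
    · rw [Nat.card_zpowers, hy] at h
      exact hrp ((Nat.prime_dvd_prime_iff_eq hp hr').1 h).symm
    · exact hnd hQp h
  haveI : IsMulCommutative N := ⟨⟨fun a b => Subtype.ext (hNab a a.2 b b.2)⟩⟩
  have hcomm := (isFpfOn hpp hp hNpg hAcard).commute_of_prime (hNnorm A) hN1
    (mem_sup_left x.2) (mem_sup_right (mem_zpowers (y : G))) (hxo ▸ hq) (hy ▸ hr') hconj
  exact hrq (eq_of_commute hpp hq hxo hcomm.symm hr' (hy ▸ dvd_rfl))

/-- Let G be a finite non-solvable group in which every element has prime-power order, and let R be its largest solvable normal subgroup. Then R is a p-group for some prime p; G/R has a non-abelian simple normal subgroup contained in every nontrivial normal subgroup of G/R (its unique minimal normal subgroup); and the order of every solvable subgroup of G has at most two prime divisors. -/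
theorem result {G : Type*} [Group G] [Finite G] (hns : ¬ Group.IsSolvable G) (hpp : ∀ g : G, g ≠ 1 → IsPrimePow (orderOf g))
    (R : Subgroup G) [R.Normal] (hRs : Group.IsSolvable ↥R) (hRmax : ∀ N : Subgroup G, N.Normal → Group.IsSolvable ↥N → N ≤ R) :
    (∃ p : ℕ, p.Prime ∧ IsPGroup p ↥R) ∧
      (∃ M : Subgroup (G ⧸ R), M.Normal ∧ IsSimpleGroup ↥M ∧ ¬ IsMulCommutative ↥M ∧
        ∀ N : Subgroup (G ⧸ R), N.Normal → N ≠ ⊥ → M ≤ N) ∧
      ∀ H : Subgroup G, Group.IsSolvable ↥H → (Nat.card ↥H).primeFactors.card ≤ 2 := by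
  classical
  haveI := hRs
  have hpart1 : ∃ p : ℕ, p.Prime ∧ IsPGroup p ↥R := by
    by_cases hR1 : R = ⊥
    · exact ⟨2, Nat.prime_two, hR1 ▸ IsPGroup.of_bot⟩
    obtain ⟨N, hNn, hN1, hNR, hNmin⟩ := CfsgLib.Coprime.exists_minimal_normal_le hR1
    haveI : Group.IsSolvable N := Group.isSolvable_of_isSolvable_injective (Subgroup.inclusion_injective hNR)
    obtain ⟨-, p, hp, hNp⟩ := CfsgLib.Coprime.minimal_normal_solvable hN1 hNmin
    haveI := Fact.mk hp
    have hNpg : IsPGroup p N := fun x => ⟨1, Subtype.ext (by simpa using hNp x x.2)⟩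
    refine ⟨p, hp, IsPGroup.iff_card.2 ⟨_, Nat.eq_prime_pow_of_unique_prime_dvd Nat.card_pos.ne' fun {q} hq hqd => ?_⟩⟩
    by_contra hqp
    haveI := Fact.mk hq
    let S : Sylow q R := default
    set Q := (S : Subgroup R).map R.subtype
    have hQp : IsPGroup q Q := S.2.map _
    set Z := (center Q).map Q.subtype
    have hZp : IsPGroup q Z := (hQp.to_subgroup _).map _
    haveI : IsMulCommutative Z := inferInstance
    have hnd : ¬ p ∣ Nat.card Z := fun h => by
      obtain ⟨k, hk⟩ := IsPGroup.iff_card.1 hZp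
      rw [hk] at h
      exact hqp ((Nat.prime_dvd_prime_iff_eq hp hq).1 (hp.dvd_of_dvd_pow h)).symm
    have hZc := (isFpfOn hpp hp hNpg hnd).isCyclic (by rw [Subgroup.normalizer_eq_top_iff.2 hNn]; exact le_top) hN1
    have hZ1 : Z ≠ ⊥ := by
      intro e
      have hc : center Q = ⊥ := (Subgroup.map_eq_bot_iff_of_injective _ Q.subtype_injective).1 e
      haveI : Nontrivial Q := by
        refine (Subgroup.nontrivial_iff_ne_bot Q).2 fun e => ?_
        have hS : (S : Subgroup R) = ⊥ := (Subgroup.map_eq_bot_iff_of_injective _ R.subtype_injective).1 e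
        have := S.dvd_card_of_dvd_card hqd
        rw [hS, Subgroup.card_bot] at this
        exact hq.not_dvd_one this
      exact (Subgroup.nontrivial_iff_ne_bot _).1 hQp.center_nontrivial hc
    have hnorm : normalizer (Q : Set G) ≤ normalizer (Z : Set G) := by
      intro g hg
      have hle : ∀ g ∈ normalizer (Q : Set G), ∀ z ∈ Z, g * z * g⁻¹ ∈ Z := by
        rintro g hg _ ⟨z, hz, rfl⟩
        refine ⟨⟨g * z * g⁻¹, (mem_normalizer_iff.1 hg _).1 z.2⟩, mem_center_iff.2 fun w => Subtype.ext ?_, rfl⟩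
        have hw : g⁻¹ * w * g ∈ Q := (mem_normalizer_iff''.1 hg _).1 w.2
        have h := congrArg Subtype.val (mem_center_iff.1 hz ⟨_, hw⟩)
        simp only [Subgroup.coe_mul] at h ⊢
        calc (w : G) * (g * z * g⁻¹) = g * (g⁻¹ * w * g * z) * g⁻¹ := by group
          _ = g * z * g⁻¹ * w := by rw [h]; group
      refine mem_normalizer_iff.2 fun z => ⟨hle g hg z, fun h => ?_⟩
      have := hle g⁻¹ (inv_mem hg) _ h
      simpa [mul_assoc] using this
    have hsolv : Group.IsSolvable (normalizer (Q : Set G)) := by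
      obtain ⟨q', hq', a, haZ, hao⟩ := exists_orderOf hZ1
      obtain rfl : q' = q := by
        obtain ⟨k, hk⟩ := IsPGroup.iff_orderOf.1 hZp ⟨a, haZ⟩
        rw [Subgroup.orderOf_mk, hao] at hk
        exact (Nat.prime_dvd_prime_iff_eq hq' hq).1 (hq'.dvd_of_dvd_pow (dvd_of_eq hk))
      set φ : normalizer (Q : Set G) →* MulAut Z := Z.normalizerMonoidHom.comp (Subgroup.inclusion hnorm)
      have hkp : IsPGroup q' φ.ker := by
        have h := isPGroup_of_commute hpp hq hao (centralizer {a}) fun g hg => (mem_centralizer_singleton_iff.1 hg).symm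
        refine IsPGroup.of_injective h
          { toFun := fun g => ⟨((g : normalizer (Q : Set G)) : G), ?_⟩
            map_one' := rfl
            map_mul' := fun _ _ => rfl } ?_
        · refine mem_centralizer_singleton_iff.2 ?_
          have hg := congrArg (fun e : MulAut Z => ((e ⟨a, haZ⟩ : Z) : G)) (MonoidHom.mem_ker.1 g.2)
          exact mul_inv_eq_iff_eq_mul.1 hg
        · intro g g' e
          have h1 := congrArg Subtype.val e
          exact Subtype.ext (Subtype.ext h1)
      haveI : IsCyclic Z := hZc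
      haveI : Group.IsSolvable (MulAut Z) := Group.isSolvable_of_isSolvable_injective (f := (IsCyclic.mulAutMulEquiv Z).toMonoidHom) (IsCyclic.mulAutMulEquiv Z).injective
      haveI : Group.IsSolvable φ.ker := by haveI := hkp.isNilpotent; infer_instance
      exact Group.isSolvable_of_ker_le_range φ.ker.subtype φ (by simp)
    refine hns ?_
    have hfr : normalizer (Q : Set G) ⊔ R = ⊤ := Sylow.normalizer_sup_eq_top S
    haveI : Group.IsSolvable (G ⧸ R) := by
      haveI := hsolv
      refine Group.isSolvable_of_surjective (f := (QuotientGroup.mk' R).comp (normalizer (Q : Set G)).subtype) ?_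
      rw [← MonoidHom.range_eq_top, MonoidHom.range_comp, Subgroup.range_subtype]
      have := congrArg (Subgroup.map (QuotientGroup.mk' R)) hfr
      rw [Subgroup.map_sup, QuotientGroup.map_mk'_self, sup_bot_eq, Subgroup.map_top_of_surjective _ (QuotientGroup.mk'_surjective R)] at this
      exact this
    exact Group.isSolvable_of_ker_le_range R.subtype (QuotientGroup.mk' R) (by simp)
  refine ⟨hpart1, ?_, fun H hH => ?_⟩
  · have hppb : ∀ g : G ⧸ R, g ≠ 1 → IsPrimePow (orderOf g) := by
      intro g hg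
      obtain ⟨x, rfl⟩ := QuotientGroup.mk'_surjective R g
      refine (hpp x fun e => hg (by rw [e, map_one])).dvd (orderOf_map_dvd _ x) fun e => hg (orderOf_eq_one_iff.1 e)
    have hrad : ∀ N : Subgroup (G ⧸ R), N.Normal → Group.IsSolvable N → N = ⊥ := by
      intro N hN hNs
      set f : ↥(N.comap (QuotientGroup.mk' R)) →* ↥N := (QuotientGroup.mk' R).subgroupComap N
      have hle : R ≤ N.comap (QuotientGroup.mk' R) := QuotientGroup.le_comap_mk' R N
      have hs : Group.IsSolvable ↥(N.comap (QuotientGroup.mk' R)) := by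
        refine Group.isSolvable_of_ker_le_range (Subgroup.inclusion hle) f fun x hx => ?_
        exact ⟨⟨x, (QuotientGroup.eq_one_iff _).1 (congrArg Subtype.val (MonoidHom.mem_ker.1 hx))⟩, rfl⟩
      have h := Subgroup.map_mono (f := QuotientGroup.mk' R) (hRmax _ (hN.comap _) hs)
      rw [QuotientGroup.map_mk'_self, Subgroup.map_comap_eq_self_of_surjective (QuotientGroup.mk'_surjective R)] at h
      exact le_bot_iff.1 h
    have htop : (⊤ : Subgroup (G ⧸ R)) ≠ ⊥ := by
      intro e
      refine hns ?_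
      haveI : Group.IsSolvable (G ⧸ R) := Group.isSolvable_of_top_eq_bot _ e
      exact Group.isSolvable_of_ker_le_range R.subtype (QuotientGroup.mk' R) (by simp)
    have hcommute : ∀ A B : Subgroup (G ⧸ R), A ≠ ⊥ → (∀ a ∈ A, ∀ b ∈ B, Commute a b) → Group.IsSolvable B := by
      intro A B hA hAB
      obtain ⟨q, hq, a, ha, hao⟩ := exists_orderOf hA
      haveI := Fact.mk hq
      haveI := (isPGroup_of_commute hppb hq hao B (hAB a ha)).isNilpotent
      infer_instance
    obtain ⟨M, hMn, hM1, -, hMmin⟩ := CfsgLib.Coprime.exists_minimal_normal_le htop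
    have hMns : ¬ Group.IsSolvable M := fun h => hM1 (hrad M hMn h)
    refine ⟨M, hMn, ?_, fun hab => hMns (CfsgLib.Coprime.isSolvable_of_isMulCommutative hab), fun N hN hN1 => ?_⟩
    · haveI : Nontrivial M := (Subgroup.nontrivial_iff_ne_bot M).2 hM1
      refine ⟨fun K hK => ?_⟩
      rcases eq_or_ne K ⊥ with h | hK1
      · exact Or.inl h
      right
      obtain ⟨N, hNn, hN1, hNK, hNmin⟩ := CfsgLib.Coprime.exists_minimal_normal_le hK1
      have hNns : ¬ Group.IsSolvable N := by
        intro hs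
        haveI := hs
        obtain ⟨-, p, hp, hNp⟩ := CfsgLib.Coprime.minimal_normal_solvable hN1 hNmin
        haveI := Fact.mk hp
        have hNpg : IsPGroup p N := fun x => ⟨1, Subtype.ext (by simpa using hNp x x.2)⟩
        have hle := CfsgLib.Coprime.le_pCore hNpg
        haveI := CfsgLib.Coprime.pCore_characteristic (G := M) p
        haveI := CfsgLib.Coprime.map_subtype_normal_of_characteristic M (Cfsg.pCore p M)
        have hcp : IsPGroup p ((Cfsg.pCore p M).map M.subtype) := (CfsgLib.Coprime.pCore_isPGroup p).map _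
        haveI := hcp.isNilpotent
        have hb := hrad ((Cfsg.pCore p M).map M.subtype) inferInstance inferInstance
        rw [Subgroup.map_eq_bot_iff_of_injective _ M.subtype_injective] at hb
        exact hN1 (le_bot_iff.1 (hb ▸ hle))
      have hNG : (N.map M.subtype).Normal := by
        refine ⟨?_⟩
        rintro _ ⟨n, hn, rfl⟩ g
        set c : MulAut M := MulAut.conjNormal g
        have hN'n : (N.map c.toMonoidHom).Normal := hNn.map _ c.surjective
        rcases hNmin (N ⊓ N.map c.toMonoidHom) inferInstance inf_le_left with h | h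
        · exfalso
          have hN'1 : (N.map c.toMonoidHom).map M.subtype ≠ ⊥ := by
            rw [Ne, Subgroup.map_eq_bot_iff_of_injective _ M.subtype_injective,
              Subgroup.map_eq_bot_iff_of_injective (f := c.toMonoidHom) _ c.injective]
            exact hN1
          have hs := hcommute _ (N.map M.subtype) hN'1 (by
            rintro _ ⟨a, ha, rfl⟩ _ ⟨b, hb, rfl⟩
            exact Commute.map (Subgroup.commute_of_normal_of_disjoint _ _ hN'n hNn
              (disjoint_iff.2 (inf_comm N _ ▸ h)) a b ha hb) M.subtype)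
          haveI := hs
          exact hNns (Group.isSolvable_of_isSolvable_injective
            (f := (N.equivMapOfInjective M.subtype M.subtype_injective).toMonoidHom)
            (N.equivMapOfInjective M.subtype M.subtype_injective).injective)
        · have hle : N ≤ N.map c.toMonoidHom := inf_eq_left.1 h
          have heq : N = N.map c.toMonoidHom := Subgroup.eq_of_le_of_card_ge hle
            (by rw [Subgroup.card_map_of_injective (f := c.toMonoidHom) c.injective])
          exact ⟨c n, heq ▸ Subgroup.mem_map_of_mem _ hn, MulAut.conjNormal_apply g n⟩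
      rcases hMmin _ hNG (Subgroup.map_subtype_le N) with h | h
      · exact absurd ((Subgroup.map_eq_bot_iff_of_injective _ M.subtype_injective).1 h) hN1
      · have htopN : N = ⊤ := Subgroup.map_injective M.subtype_injective
          (h.trans (by rw [← MonoidHom.range_eq_map, Subgroup.range_subtype]))
        exact top_unique (htopN ▸ hNK)
    · rcases hMmin (N ⊓ M) inferInstance inf_le_right with h | h
      · exact absurd (hcommute N M hN1 fun a ha b hb =>
          Subgroup.commute_of_normal_of_disjoint _ _ hN hMn (disjoint_iff.2 h) a b ha hb) hMns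
      · exact inf_eq_right.1 h
  · haveI := hH
    refine two_primes (fun g hg => ?_)
    rw [← Subgroup.orderOf_coe]
    exact hpp g fun e => hg (Subtype.ext e)

end Cfsg.Agent.S3992
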