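import Cfsg.Statements.S3994
import Cfsg.Agent.Lib.PGroup.FrobeniusCount

set_option autoImplicit false
open Cfsg

namespace Cfsg.Agent.S3994

open Subgroup

variable {G : Type*} [Group G] [Finite G]

private theorem dvd_card_orderOf (n M : ℕ) (hn : n ≠ 0)
    (hM : ∀ q, q.Prime → q ∣ n → M ∣ ordCompl[q] (Nat.card G)) (S : Finset ℕ)
    (hS : S ⊆ n.primeFactors) : ∀ m, M ∣ m → m ∣ Nat.card G →
      M ∣ Nat.card {g : G // orderOf g ∣ m ∧ ∀ q ∈ S, q ^ n.factorization q ∣ orderOf g} := by
  classical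
  induction S using Finset.induction with
  | empty =>
    intro m hMm hm
    refine hMm.trans ?_
    have h := CfsgLib.PGroup.hall_card_roots_aux _ G rfl m 1
    simp only [isConj_one_right] at h
    rw [Nat.card_unique, one_mul, Nat.gcd_eq_left hm] at h
    refine h.trans (dvd_of_eq (Nat.card_congr (Equiv.subtypeEquivRight fun g => ?_)))
    simp [orderOf_dvd_iff_pow_eq_one, eq_comm]
  | @insert q S hq ih =>
    intro m hMm hm
    have hqn := hS (Finset.mem_insert_self q S)
    rw [Nat.mem_primeFactors] at hqn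
    set a := n.factorization q with ha
    have ha1 : 1 ≤ a := hqn.1.factorization_pos_of_dvd hn hqn.2.1
    set L := ordCompl[q] (Nat.card G) * q ^ (a - 1) with hL
    have hkey : ∀ g : G, orderOf g ∣ L ↔ ¬ q ^ a ∣ orderOf g := by
      intro g
      have hqL : ¬ q ∣ ordCompl[q] (Nat.card G) := Nat.not_dvd_ordCompl hqn.1 Nat.card_pos.ne'
      constructor
      · intro h h'
        have h2 := (Nat.Coprime.dvd_of_dvd_mul_left
          (((hqn.1.coprime_iff_not_dvd.2 hqL).pow_left a)) (h'.trans h))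
        have := (Nat.pow_dvd_pow_iff_le_right hqn.1.one_lt).1 h2
        omega
      · intro h
        have h0 : orderOf g ≠ 0 := (orderOf_pos g).ne'
        rw [← Nat.ordProj_mul_ordCompl_eq_self (orderOf g) q, mul_comm]
        refine mul_dvd_mul (Nat.ordCompl_dvd_ordCompl_of_dvd (orderOf_dvd_natCard g) q)
          (pow_dvd_pow q ?_)
        by_contra hc
        exact h ((pow_dvd_pow q (by omega)).trans (Nat.ordProj_dvd (orderOf g) q))
    have h1 := ih ((Finset.subset_insert _ _).trans hS) m hMm hm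
    have h2 := ih ((Finset.subset_insert _ _).trans hS) (m.gcd L)
      (Nat.dvd_gcd hMm ((hM q hqn.1 hqn.2.1).trans (dvd_mul_right _ _)))
      ((Nat.gcd_dvd_left _ _).trans hm)
    let P : {g : G // orderOf g ∣ m ∧ ∀ r ∈ S, r ^ n.factorization r ∣ orderOf g} → Prop :=
      fun g => q ^ a ∣ orderOf g.1
    have hsum : Nat.card {g // P g} + Nat.card {g // ¬ P g} =
        Nat.card {g : G // orderOf g ∣ m ∧ ∀ r ∈ S, r ^ n.factorization r ∣ orderOf g} := by
      rw [← Nat.card_sum]
      exact Nat.card_congr (Equiv.sumCompl P)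
    have e1 : Nat.card {g // P g} =
        Nat.card {g : G // orderOf g ∣ m ∧ ∀ r ∈ insert q S, r ^ n.factorization r ∣ orderOf g} :=
      Nat.card_congr
        { toFun := fun g => ⟨g.1.1, g.1.2.1, Finset.forall_mem_insert .. |>.2 ⟨g.2, g.1.2.2⟩⟩
          invFun := fun g => ⟨⟨g.1, g.2.1, (Finset.forall_mem_insert .. |>.1 g.2.2).2⟩,
            (Finset.forall_mem_insert .. |>.1 g.2.2).1⟩
          left_inv := fun _ => rfl
          right_inv := fun _ => rfl }
    have e2 : Nat.card {g // ¬ P g} =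
        Nat.card {g : G // orderOf g ∣ m.gcd L ∧ ∀ r ∈ S, r ^ n.factorization r ∣ orderOf g} :=
      Nat.card_congr
        { toFun := fun g => ⟨g.1.1, Nat.dvd_gcd g.1.2.1 ((hkey _).2 g.2), g.1.2.2⟩
          invFun := fun g => ⟨⟨g.1, g.2.1.trans (Nat.gcd_dvd_left _ _), g.2.2⟩,
            (hkey _).1 (g.2.1.trans (Nat.gcd_dvd_right _ _))⟩
          left_inv := fun _ => rfl
          right_inv := fun _ => rfl }
    rw [← e1]
    rw [← e2] at h2
    rw [← hsum] at h1
    exact (Nat.dvd_add_left h2).1 h1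

/-- Let G be a finite group and n a positive integer. The number of elements of G whose order is divisible by n is either 0 or divisible by the largest divisor of the order of G that is coprime to n. -/
theorem result {G : Type*} [Group G] [Finite G] (n : ℕ) (hn : 0 < n) :
    Nat.card {g : G // n ∣ orderOf g} = 0 ∨
      (Nat.card G / Nat.gcd (Nat.card G) (n ^ Nat.card G)) ∣ Nat.card {g : G // n ∣ orderOf g} := by
  refine Or.inr ?_
  set N := Nat.card G with hN
  set M := N / Nat.gcd N (n ^ N) with hM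
  have hN0 : 0 < N := Nat.card_pos
  have hMN : M ∣ N := Nat.div_dvd_of_dvd (Nat.gcd_dvd_left _ _)
  have hMq : ∀ q, q.Prime → q ∣ n → M ∣ ordCompl[q] N := by
    intro q hq hqn
    refine Nat.dvd_div_of_mul_dvd ?_
    have h1 : ordProj[q] N ∣ Nat.gcd N (n ^ N) := Nat.dvd_gcd (Nat.ordProj_dvd N q)
      ((pow_dvd_pow_of_dvd hqn _).trans (pow_dvd_pow n (Nat.factorization_lt q hN0.ne').le))
    refine (mul_dvd_mul_right h1 M).trans ?_
    rw [hM, Nat.mul_div_cancel' (Nat.gcd_dvd_left _ _)]
  refine (dvd_card_orderOf n M hn.ne' hMq n.primeFactors subset_rfl N hMN dvd_rfl).trans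
    (dvd_of_eq (Nat.card_congr (Equiv.subtypeEquivRight fun g => ?_)))
  constructor
  · rintro ⟨-, h⟩
    rw [Nat.dvd_iff_prime_pow_dvd_dvd]
    intro q k hq hk
    rcases Nat.eq_zero_or_pos k with rfl | hk0
    · simp
    · exact (pow_dvd_pow q ((hq.pow_dvd_iff_le_factorization hn.ne').1 hk)).trans
        (h q (Nat.mem_primeFactors.2 ⟨hq, (dvd_pow_self q hk0.ne').trans hk, hn.ne'⟩))
  · intro h
    exact ⟨orderOf_dvd_natCard g, fun q _ => (Nat.ordProj_dvd n q).trans h⟩

end Cfsg.Agent.S3994
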