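import Cfsg.Statements.S3995
-- import your own Cfsg.Agent.* helpers here
import Cfsg.Agent.S3993
import Cfsg.Agent.Lib.PGroup.MillerCount
import Cfsg.Agent.Lib.Coprime.UniqueOrderP
set_option autoImplicit false
open Cfsg

namespace Cfsg.Agent.S3995

universe u

open Subgroup

section

variable {G : Type u} [Group G] [Finite G]

/-- The number of elements of order `m`. -/
noncomputable def cnt (G : Type u) [Group G] (m : ℕ) : ℕ := Nat.card {g : G // orderOf g = m}

theorem cnt_zero_of_not (m : ℕ) (h : ∀ g : G, orderOf g ≠ m) : cnt G m = 0 := by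
  haveI : IsEmpty {g : G // orderOf g = m} := ⟨fun g => h g.1 g.2⟩
  exact Nat.card_of_isEmpty

theorem totient_dvd_cnt (m : ℕ) : m.totient ∣ cnt G m := by
  rw [cnt, CfsgLib.PGroup.Miller.card_orderOf_eq_mul]
  exact dvd_mul_right _ _

theorem sum_cnt_eq (m : ℕ) (hm : m ≠ 0) :
    Nat.card {x : G // x ^ m = 1} = ∑ d ∈ m.divisors, cnt G d := by
  classical
  letI : Fintype G := Fintype.ofFinite G
  simp only [cnt, Nat.card_eq_fintype_card, Fintype.card_subtype]
  exact (sum_card_orderOf_eq_card_pow_eq_one hm).symm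

theorem dvd_sum_cnt (m : ℕ) (hm : m ∣ Nat.card G) : m ∣ ∑ d ∈ m.divisors, cnt G d := by
  rw [← sum_cnt_eq m (fun e => Nat.card_pos.ne' (zero_dvd_iff.1 (e ▸ hm)))]
  exact Cfsg.Agent.S3993.result m hm

theorem zmod_two_gen (x : Multiplicative (ZMod 2)) :
    ∃ i : ℤ, Multiplicative.ofAdd (1 : ZMod 2) ^ i = x := by
  have h : x = 1 ∨ x = Multiplicative.ofAdd 1 := by revert x; decide
  rcases h with rfl | rfl
  · exact ⟨0, zpow_zero _⟩
  · exact ⟨1, zpow_one _⟩

theorem cnt_one : cnt G 1 = 1 := by
  rw [cnt, Nat.card_eq_one_iff_exists]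
  exact ⟨⟨1, orderOf_one⟩, fun g => Subtype.ext (orderOf_eq_one_iff.1 g.2)⟩

theorem dvd_one_add_cnt {p : ℕ} (hp : p.Prime) (hd : p ∣ Nat.card G) : p ∣ 1 + cnt G p := by
  have h := dvd_sum_cnt p hd
  rw [hp.divisors, Finset.sum_pair hp.ne_one.symm, cnt_one] at h
  exact h

end

/-- Let G be a finite group such that the numbers of elements of each order that occurs in G (the numbers #{g : o(g) = m}, m ranging over the element orders of G) take exactly two values, 1 and some n ≠ 1. Then either G is a p-group of exponent p and order at least 3 for some prime p, or G is the quaternion group of order 8, or G is cyclic of order 4, or G ≅ Z₂ × P for a p-group P of exponent p with p an odd prime. -/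
theorem result {G : Type*} [Group G] [Finite G] (n : ℕ) (hn : n ≠ 1) (h : ((fun m : ℕ => Nat.card {g : G // orderOf g = m}) '' Set.range (orderOf : G → ℕ)) = {1, n}) :
    (∃ p : ℕ, p.Prime ∧ IsPGroup p G ∧ 3 ≤ Nat.card G ∧ Monoid.exponent G = p) ∨
      Nonempty (G ≃* QuaternionGroup 2) ∨ (IsCyclic G ∧ Nat.card G = 4) ∨
      (∃ (p : ℕ) (P : Type) (_ : Group P) (_ : Finite P), p.Prime ∧ p ≠ 2 ∧ IsPGroup p P ∧ Monoid.exponent P = p ∧
        Nonempty (G ≃* Multiplicative (ZMod 2) × P)) := by
  have hC : ∀ m, (∃ g : G, orderOf g = m) → cnt G m = 1 ∨ cnt G m = n := fun m ⟨g, hg⟩ => by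
    have h1 : cnt G m ∈ ({1, n} : Set ℕ) := h ▸ ⟨m, ⟨g, hg⟩, rfl⟩
    simpa using h1
  have hC0 : ∀ m, cnt G m = 0 ∨ cnt G m = 1 ∨ cnt G m = n := fun m => by
    by_cases hm : ∃ g : G, orderOf g = m
    · exact Or.inr (hC m hm)
    · exact Or.inl (cnt_zero_of_not m fun g hg => hm ⟨g, hg⟩)
  obtain ⟨m₀, ⟨g₀, hg₀⟩, hm₀⟩ : n ∈ ((fun m : ℕ => Nat.card {g : G // orderOf g = m}) ''
      Set.range (orderOf : G → ℕ)) := by rw [h]; simp
  change cnt G m₀ = n at hm₀
  have hn2 : 2 ≤ n := by
    haveI : Nonempty {g : G // orderOf g = m₀} := ⟨⟨g₀, hg₀⟩⟩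
    have h1 : 0 < cnt G m₀ := Nat.card_pos
    omega
  have hbig : ∀ m, (∃ g : G, orderOf g = m) → 2 ≤ m.totient → cnt G m = n ∧ m.totient ∣ n := by
    intro m hm ht
    have hd := totient_dvd_cnt (G := G) m
    rcases hC m hm with h1 | h1
    · rw [h1] at hd; have := Nat.le_of_dvd one_pos hd; omega
    · exact ⟨h1, h1 ▸ hd⟩
  have hel : ∀ p : ℕ, p.Prime → p ∣ Nat.card G → ∃ g : G, orderOf g = p := fun p hp hd => by
    haveI := Fact.mk hp
    exact exists_prime_orderOf_dvd_card' p hd
  have hoddp : ∀ p : ℕ, p.Prime → p ≠ 2 → p ∣ Nat.card G →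
      cnt G p = n ∧ p ∣ n + 1 ∧ Even n ∧ ∀ g : G, orderOf g ≠ p ^ 2 := by
    intro p hp hp2 hd
    have h2p := hp.two_le
    obtain ⟨h1, h2⟩ := hbig p (hel p hp hd) (by rw [Nat.totient_prime hp]; omega)
    have hn1 : p ∣ n + 1 := by
      have h3 := dvd_one_add_cnt hp hd
      rwa [h1, add_comm] at h3
    refine ⟨h1, hn1, ?_, fun g hg => ?_⟩
    · rw [Nat.totient_prime hp] at h2
      obtain ⟨j, hj⟩ := hp.odd_of_ne_two hp2
      exact (even_iff_two_dvd.2 (dvd_trans ⟨j, by omega⟩ h2))
    · obtain ⟨-, h3⟩ := hbig (p ^ 2) ⟨g, hg⟩ (by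
        rw [Nat.totient_prime_pow hp two_pos, show 2 - 1 = 1 from rfl, pow_one]
        exact le_trans h2p (Nat.le_mul_of_pos_right p (by omega)))
      rw [Nat.totient_prime_pow hp two_pos, show 2 - 1 = 1 from rfl, pow_one] at h3
      have h4 : p ∣ n := dvd_trans (dvd_mul_right _ _) h3
      exact hp.not_dvd_one ((Nat.dvd_add_right h4).1 hn1)
  have huniq : ∀ p q : ℕ, p.Prime → q.Prime → p ≠ 2 → q ≠ 2 → p ∣ Nat.card G → q ∣ Nat.card G →
      p = q := by
    intro p q hp hq hp2 hq2 hpd hqd
    by_contra hne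
    obtain ⟨hp1, hpn, -, -⟩ := hoddp p hp hp2 hpd
    obtain ⟨hq1, -, -, -⟩ := hoddp q hq hq2 hqd
    have h1 := dvd_sum_cnt (p * q)
      (Nat.Coprime.mul_dvd_of_dvd_of_dvd ((Nat.coprime_primes hp hq).2 hne) hpd hqd)
    have hdiv : (p * q).divisors = {1, p, q, p * q} := by
      rw [Nat.divisors_mul, hp.divisors, hq.divisors]
      ext x
      simp [Finset.mem_mul]
      tauto
    have hpq : p ≠ p * q := fun e => hq.ne_one (by
      nth_rewrite 1 [← mul_one p] at e; exact (Nat.eq_of_mul_eq_mul_left hp.pos e).symm)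
    have hqp : q ≠ p * q := fun e => hp.ne_one (by
      nth_rewrite 1 [← one_mul q] at e; exact (Nat.eq_of_mul_eq_mul_right hq.pos e).symm)
    have h1pq : 1 ≠ p * q := fun e => hp.ne_one (Nat.eq_one_of_mul_eq_one_right e.symm)
    rw [hdiv, Finset.sum_insert (by simp [hp.ne_one.symm, hq.ne_one.symm, h1pq]),
      Finset.sum_insert (by simp [hne, hpq]), Finset.sum_pair hqp, hp1, hq1, cnt_one] at h1
    have h2 : p ∣ 1 + (n + (n + cnt G (p * q))) := dvd_trans (dvd_mul_right _ _) h1
    rw [show 1 + (n + (n + cnt G (p * q))) = n + 1 + (n + cnt G (p * q)) by ring,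
      Nat.dvd_add_right hpn] at h2
    have h3 := hp.two_le
    rcases hC0 (p * q) with e | e | e <;> rw [e] at h2
    · exact hp.not_dvd_one ((Nat.dvd_add_right h2).1 hpn)
    · obtain ⟨g, hg⟩ : ∃ g : G, orderOf g = p * q := by
        by_contra hno
        rw [cnt_zero_of_not _ fun g hg => hno ⟨g, hg⟩] at e
        exact zero_ne_one e
      obtain ⟨h4, -⟩ := hbig (p * q) ⟨g, hg⟩ (by
        rw [Nat.totient_mul ((Nat.coprime_primes hp hq).2 hne), Nat.totient_prime hp,
          Nat.totient_prime hq]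
        have : 2 ≤ p - 1 := by omega
        have : 1 ≤ q - 1 := by have := hq.two_le; omega
        calc 2 = 2 * 1 := rfl
          _ ≤ (p - 1) * (q - 1) := Nat.mul_le_mul (by omega) (by omega))
      omega
    · rw [← two_mul] at h2
      have h5 : p ∣ n := (hp.dvd_mul.1 h2).resolve_left fun h6 => hp2
        ((Nat.prime_dvd_prime_iff_eq hp Nat.prime_two).1 h6)
      exact hp.not_dvd_one ((Nat.dvd_add_right h5).1 hpn)
  have hord : ∀ (g : G) (q : ℕ) (i : ℕ), q ^ i ∣ orderOf g → ∃ x : G, orderOf x = q ^ i :=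
    fun g q i hd => ⟨g ^ (orderOf g / q ^ i), orderOf_pow_orderOf_div (orderOf_pos g).ne' hd⟩
  -- facts about the prime two
  have htwo : ∀ g : G, orderOf g = 4 → Even n → cnt G 2 = 1 ∧ cnt G 4 = n ∧ 4 ∣ n + 2 := by
    intro g hg hev
    have hd4 : 4 ∣ Nat.card G := hg ▸ orderOf_dvd_natCard g
    obtain ⟨h4, -⟩ := hbig 4 ⟨g, hg⟩ (by decide)
    have h2 : cnt G 2 = 1 := by
      have h1 := dvd_one_add_cnt (G := G) Nat.prime_two (dvd_trans (by norm_num) hd4)
      rcases hC 2 (hel 2 Nat.prime_two (dvd_trans (by norm_num) hd4)) with e | e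
      · exact e
      · rw [e] at h1; obtain ⟨j, hj⟩ := hev; omega
    refine ⟨h2, h4, ?_⟩
    have h1 := dvd_sum_cnt 4 hd4
    rw [show (4 : ℕ).divisors = {1, 2, 4} by decide, Finset.sum_insert (by decide),
      Finset.sum_pair (by decide), cnt_one, h2, h4] at h1
    omega
  by_cases hodd : ∃ p : ℕ, p.Prime ∧ p ≠ 2 ∧ p ∣ Nat.card G
  · obtain ⟨p, hp, hp2, hpd⟩ := hodd
    haveI := Fact.mk hp
    obtain ⟨hp1, hpn, hev, hpsq⟩ := hoddp p hp hp2 hpd
    have h2p := hp.two_le
    have hPexp : ∀ g : G, (∃ k, g ^ p ^ k = 1) → g ^ p = 1 := by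
      rintro g ⟨k, hk⟩
      obtain ⟨i, -, hi⟩ := (Nat.dvd_prime_pow hp).1 (orderOf_dvd_of_pow_eq_one hk)
      rcases Nat.lt_or_ge i 2 with hi2 | hi2
      · exact orderOf_dvd_iff_pow_eq_one.1 (hi ▸ (pow_dvd_pow p (show i ≤ 1 by omega)).trans
          (pow_one p).dvd)
      · obtain ⟨x, hx⟩ := hord g p 2 (hi ▸ pow_dvd_pow p hi2)
        exact absurd hx (hpsq x)
    by_cases h2d : 2 ∣ Nat.card G
    · -- a central involution and an odd prime
      right; right; right
      have hc2 : cnt G 2 = 1 := by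
        have h1 := dvd_one_add_cnt (G := G) Nat.prime_two h2d
        rcases hC 2 (hel 2 Nat.prime_two h2d) with e | e
        · exact e
        · rw [e] at h1; obtain ⟨j, hj⟩ := hev; omega
      obtain ⟨z, hz⟩ := hel 2 Nat.prime_two h2d
      have hzu : ∀ x : G, orderOf x = 2 → x = z := fun x hx => by
        haveI := (Nat.card_eq_one_iff_unique.1 hc2).1
        exact congrArg Subtype.val (Subsingleton.elim (⟨x, hx⟩ : {g : G // orderOf g = 2}) ⟨z, hz⟩)
      have hzc : ∀ x : G, x * z = z * x := fun x => by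
        have h1 := hzu (x * z * x⁻¹) (by
          rw [show x * z * x⁻¹ = MulAut.conj x z from rfl, MulEquiv.orderOf_eq, hz])
        exact mul_inv_eq_iff_eq_mul.1 h1
      have hzp : cnt G (2 * p) = n := by
        obtain ⟨y, hy⟩ := hel p hp hpd
        refine (hbig (2 * p) ⟨z * y, ?_⟩ ?_).1
        · rw [Commute.orderOf_mul_eq_mul_orderOf_of_coprime (hzc y).symm (by
            rw [hz, hy]; exact (Nat.coprime_primes Nat.prime_two hp).2 (Ne.symm hp2)), hz, hy]
        · rw [Nat.totient_mul ((Nat.coprime_primes Nat.prime_two hp).2 (Ne.symm hp2)),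
            Nat.totient_prime hp, Nat.totient_two]
          omega
      have hno4 : ∀ g : G, orderOf g ≠ 4 := by
        intro g hg
        obtain ⟨-, h4, h4n⟩ := htwo g hg hev
        have h4p : cnt G (4 * p) = 0 := by
          refine cnt_zero_of_not _ fun x hx => ?_
          have hcop : Nat.Coprime 4 p := by
            rw [show 4 = 2 ^ 2 from rfl]
            exact Nat.Coprime.pow_left 2 ((Nat.coprime_primes Nat.prime_two hp).2 (Ne.symm hp2))
          obtain ⟨-, h5⟩ := hbig (4 * p) ⟨x, hx⟩ (by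
            rw [Nat.totient_mul hcop, show Nat.totient 4 = 2 by decide, Nat.totient_prime hp]
            omega)
          rw [Nat.totient_mul hcop, show Nat.totient 4 = 2 by decide, Nat.totient_prime hp] at h5
          obtain ⟨j, hj⟩ := hp.odd_of_ne_two hp2
          have h6 : 4 ∣ n := dvd_trans ⟨j, by omega⟩ h5
          omega
        have hne4 : (4 : ℕ) ≠ p := fun e => by rw [← e] at hp; norm_num at hp
        have hdiv : (4 * p).divisors = {1, 2, 4, p, 2 * p, 4 * p} := by
          rw [Nat.divisors_mul, hp.divisors, show (4 : ℕ).divisors = {1, 2, 4} by decide]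
          ext x
          simp [Finset.mem_mul]
          tauto
        have h1 := dvd_sum_cnt (4 * p) (Nat.Coprime.mul_dvd_of_dvd_of_dvd (by
          rw [show 4 = 2 ^ 2 from rfl]
          exact Nat.Coprime.pow_left 2 ((Nat.coprime_primes Nat.prime_two hp).2 (Ne.symm hp2)))
          (hg ▸ orderOf_dvd_natCard g) hpd)
        rw [hdiv, Finset.sum_insert (by simp; omega), Finset.sum_insert (by simp; omega),
          Finset.sum_insert (by simp; omega), Finset.sum_insert (by simp; omega),
          Finset.sum_pair (by omega), cnt_one, hc2, h4, hp1, hzp, h4p] at h1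
        have h2 : p ∣ 3 * (n + 1) - 1 := by
          rw [show 3 * (n + 1) - 1 = 1 + (1 + (n + (n + (n + 0)))) by omega]
          exact dvd_trans (dvd_mul_left _ _) h1
        have h3 : p ∣ 3 * (n + 1) := dvd_mul_of_dvd_right hpn 3
        have h7 := Nat.dvd_sub h3 h2
        rw [show 3 * (n + 1) - (3 * (n + 1) - 1) = 1 by omega] at h7
        exact hp.not_dvd_one h7
      -- the structure
      obtain ⟨P⟩ : Nonempty (Sylow p G) := inferInstance
      haveI : Fact (Nat.Prime 2) := ⟨Nat.prime_two⟩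
      obtain ⟨S⟩ : Nonempty (Sylow 2 G) := inferInstance
      have hSle : (S : Subgroup G) ≤ zpowers z := by
        intro x hx
        obtain ⟨k, hk⟩ := S.isPGroup' ⟨x, hx⟩
        obtain ⟨i, -, hi⟩ := (Nat.dvd_prime_pow Nat.prime_two).1
          (orderOf_dvd_of_pow_eq_one (congrArg Subtype.val hk : x ^ 2 ^ k = 1))
        rcases (show i = 0 ∨ i = 1 ∨ 2 ≤ i by omega) with rfl | rfl | hi2
        · show x ∈ zpowers z
          rw [show x = 1 from orderOf_eq_one_iff.1 (hi.trans (pow_zero 2))]; exact one_mem _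
        · rw [hzu x (hi.trans (pow_one 2))]; exact mem_zpowers z
        · obtain ⟨y, hy⟩ := hord x 2 2 (hi ▸ pow_dvd_pow 2 hi2)
          exact absurd hy (hno4 y)
      have hS2 : Nat.card (S : Subgroup G) = 2 := by
        have h1 := card_dvd_of_le hSle
        rw [Nat.card_zpowers, hz] at h1
        refine ((Nat.dvd_prime Nat.prime_two).1 h1).resolve_left fun e => ?_
        have h3 := S.not_dvd_index
        have h4 := (S : Subgroup G).card_mul_index
        rw [e, one_mul] at h4
        exact h3 (h4 ▸ h2d)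
      obtain ⟨a, ha⟩ := P.isPGroup'.exists_card_eq
      have hidx : (P : Subgroup G).index = 2 := by
        have hi := (P : Subgroup G).card_mul_index
        obtain ⟨b, w, hw, he⟩ := Nat.exists_eq_pow_mul_and_not_dvd
          (index_ne_zero_of_finite (H := (P : Subgroup G))) 2 (by norm_num)
        have hw1 : w = 1 := by
          by_contra hw1
          obtain ⟨q, hq, hqd⟩ := Nat.exists_prime_and_dvd hw1
          have hqi : q ∣ (P : Subgroup G).index := he ▸ hqd.mul_left _
          rcases eq_or_ne q 2 with rfl | hq2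
          · exact hw hqd
          · obtain rfl := huniq p q hp hq hp2 hq2 hpd (hqi.trans (P : Subgroup G).index_dvd_card)
            exact P.not_dvd_index hqi
        rw [hw1, mul_one] at he
        have hf := Sylow.card_eq_multiplicity S
        rw [hS2, ← hi, ha, he, Nat.factorization_mul (pow_ne_zero _ hp.ne_zero) (by simp),
          hp.factorization_pow, Nat.prime_two.factorization_pow] at hf
        simp [Ne.symm hp2, hp2] at hf
        rw [he, Nat.pow_right_injective (le_refl 2) (show 2 ^ b = 2 ^ 1 by rw [pow_one]; exact hf.symm)]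
        norm_num
      let c := Nat.card (P : Subgroup G)
      let Q := {_x : Fin c // True}
      let e : (P : Subgroup G) ≃ Q :=
        (Finite.equivFin _).trans (Equiv.subtypeUnivEquiv (fun _ => trivial)).symm
      letI : Group Q := e.symm.group
      let eP : (P : Subgroup G) ≃* Q := (e.symm.mulEquiv).symm
      have hexp : Monoid.exponent Q = p := by
        rw [← Monoid.exponent_eq_of_mulEquiv eP]
        refine ((Nat.dvd_prime hp).1 (Monoid.exponent_dvd_of_forall_pow_eq_one fun g =>
          Subtype.ext (hPexp g (P.isPGroup' g |>.imp fun k hk => congrArg Subtype.val hk)))).resolve_left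
          fun e1 => ?_
        have h5 := Monoid.exp_eq_one_iff.1 e1
        have h6 := P.card_eq_multiplicity
        rw [Nat.card_unique] at h6
        have h7 : 0 < (Nat.card G).factorization p :=
          hp.factorization_pos_of_dvd Nat.card_pos.ne' hpd
        exact absurd h6.symm (Nat.one_lt_pow h7.ne' hp.one_lt).ne'
      refine ⟨p, Q, inferInstance, inferInstance, hp, hp2,
        P.isPGroup'.of_surjective eP.toMonoidHom eP.surjective, hexp, ?_⟩
      let f : Multiplicative (ZMod 2) →* G := monoidHomOfForallMemZpowers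
        (g := Multiplicative.ofAdd (1 : ZMod 2)) (g' := z)
        (fun x => mem_zpowers_iff.2 (zmod_two_gen x)) (by rw [hz]; simp)
      have hfz : ∀ x, f x ∈ zpowers z := fun x => by
        obtain ⟨i, rfl⟩ := zmod_two_gen x
        rw [map_zpow, monoidHomOfForallMemZpowers_apply_gen]
        exact zpow_mem (mem_zpowers z) i
      let F : Multiplicative (ZMod 2) × Q →* G :=
        f.noncommCoprod ((P : Subgroup G).subtype.comp eP.symm.toMonoidHom) fun x y => by
          obtain ⟨i, hi⟩ := mem_zpowers_iff.1 (hfz x)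
          rw [← hi]
          exact (show Commute z _ from (hzc _).symm).zpow_left i
      refine ⟨(MulEquiv.ofBijective F ?_).symm⟩
      have hcard : Nat.card G = Nat.card (Multiplicative (ZMod 2) × Q) := by
        rw [← (P : Subgroup G).card_mul_index, hidx, Nat.card_prod, ← Nat.card_congr e, mul_comm]
        simp
      refine (Nat.bijective_iff_surjective_and_card F).2 ⟨?_, hcard.symm⟩
      have htop : F.range = ⊤ := by
        rw [eq_top_iff]
        intro g _
        have hzP : z ∉ (P : Subgroup G) := fun hzP => by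
          have := (P : Subgroup G).orderOf_dvd_natCard hzP
          rw [hz, ha] at this
          exact hp2 ((Nat.prime_dvd_prime_iff_eq Nat.prime_two hp).1
            (Nat.prime_two.dvd_of_dvd_pow this)).symm
        have hPF : ∀ y ∈ (P : Subgroup G), y ∈ F.range := fun y hy =>
          ⟨(1, eP ⟨y, hy⟩), by simp [F]⟩
        have hzF : z ∈ F.range :=
          ⟨(Multiplicative.ofAdd 1, 1), by simp [F, f, monoidHomOfForallMemZpowers_apply_gen]⟩
        by_cases hg : g ∈ (P : Subgroup G)
        · exact hPF g hg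
        · have h1 : z⁻¹ * g ∈ (P : Subgroup G) := by
            rw [mul_mem_iff_of_index_two hidx]
            exact iff_of_false (fun h => hzP (by simpa using inv_mem h)) hg
          simpa using F.range.mul_mem hzF (hPF _ h1)
      exact MonoidHom.range_eq_top.1 htop
    · -- an odd `p`-group
      left
      have hG : IsPGroup p G := by
        refine IsPGroup.of_card (n := (Nat.card G).primeFactorsList.length) ?_
        refine Nat.eq_prime_pow_of_unique_prime_dvd Nat.card_pos.ne' fun {q} hq hqd => ?_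
        rcases eq_or_ne q 2 with rfl | hq2
        · exact absurd hqd h2d
        · exact huniq q p hq hp hq2 hp2 hqd hpd
      refine ⟨p, hp, hG, ?_, ?_⟩
      · have := Nat.le_of_dvd Nat.card_pos hpd
        have : p ≠ 2 := hp2
        omega
      · refine ((Nat.dvd_prime hp).1 (Monoid.exponent_dvd_of_forall_pow_eq_one fun g =>
          hPexp g (hG g))).resolve_left fun e1 => ?_
        have := Monoid.exp_eq_one_iff.1 e1
        rw [Nat.card_unique] at hpd
        exact hp.not_dvd_one hpd
  -- two-groups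
  push Not at hodd
  have h2d : 2 ∣ Nat.card G := by
    obtain ⟨q, hq, hqd⟩ := Nat.exists_prime_and_dvd (n := Nat.card G) (fun e => by
      haveI : Nonempty {g : G // orderOf g = m₀} := ⟨⟨g₀, hg₀⟩⟩
      have h1 : cnt G m₀ ≤ 1 := e ▸ Finite.card_subtype_le _
      omega)
    rcases eq_or_ne q 2 with rfl | hne
    · exact hqd
    · exact absurd hqd (hodd q hq hne)
  have hG : IsPGroup 2 G := by
    refine IsPGroup.of_card (n := (Nat.card G).primeFactorsList.length) ?_
    refine Nat.eq_prime_pow_of_unique_prime_dvd Nat.card_pos.ne' fun {q} hq hqd => ?_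
    by_contra hne
    exact hodd q hq hne hqd
  haveI : Fact (Nat.Prime 2) := ⟨Nat.prime_two⟩
  by_cases h4 : ∃ g : G, orderOf g = 4
  · obtain ⟨g, hg⟩ := h4
    obtain ⟨-, hev'⟩ := hbig 4 ⟨g, hg⟩ (by decide)
    rw [show Nat.totient 4 = 2 by decide] at hev'
    obtain ⟨hc2, -, h4n⟩ := htwo g hg (even_iff_two_dvd.2 hev')
    have hexp : Monoid.exponent G ∣ 4 := Monoid.exponent_dvd_of_forall_pow_eq_one fun x => by
      obtain ⟨k, hk⟩ := hG x
      obtain ⟨i, -, hi⟩ := (Nat.dvd_prime_pow Nat.prime_two).1 (orderOf_dvd_of_pow_eq_one hk)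
      refine orderOf_dvd_iff_pow_eq_one.1 ?_
      rw [hi, show 4 = 2 ^ 2 from rfl]
      refine pow_dvd_pow 2 ?_
      by_contra hi3
      obtain ⟨y, hy⟩ := hord x 2 3 (hi ▸ pow_dvd_pow 2 (by omega))
      obtain ⟨-, h8⟩ := hbig 8 ⟨y, hy⟩ (by decide)
      rw [show Nat.totient 8 = 4 by decide] at h8
      omega
    have hu : CfsgLib.Coprime.UniqueOrderP 2 G := fun x y hx hy hx1 => by
      by_cases hy1 : y = 1
      · rw [hy1]; exact one_mem _
      haveI := (Nat.card_eq_one_iff_unique.1 hc2).1
      have h1 := congrArg Subtype.val (Subsingleton.elim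
        (⟨y, orderOf_eq_prime hy hy1⟩ : {g : G // orderOf g = 2}) ⟨x, orderOf_eq_prime hx hx1⟩)
      have h2 : y = x := h1
      rw [h2]; exact mem_zpowers x
    have hcyc : IsCyclic G → IsCyclic G ∧ Nat.card G = 4 := fun hc => by
      refine ⟨hc, ?_⟩
      rw [← IsCyclic.exponent_eq_card]
      exact Nat.dvd_antisymm hexp (hg ▸ Monoid.order_dvd_exponent g)
    rcases CfsgLib.Coprime.cyclic_or_quaternion_of_unique_two hG hu with hc | ⟨k, ⟨e⟩⟩
    · exact Or.inr (Or.inr (Or.inl (hcyc hc)))
    · rw [Monoid.exponent_eq_of_mulEquiv e, QuaternionGroup.exponent] at hexp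
      rcases (show k = 0 ∨ k = 1 ∨ 2 ≤ k by omega) with rfl | rfl | hk
      · haveI : IsCyclic (QuaternionGroup (2 ^ 0)) := QuaternionGroup.quaternionGroup_one_isCyclic
        exact Or.inr (Or.inr (Or.inl (hcyc (isCyclic_of_surjective e.symm e.symm.surjective))))
      · exact Or.inr (Or.inl ⟨e⟩)
      · exfalso
        have h1 : 2 * 2 ^ k ∣ 4 := (Nat.mul_dvd_mul_left 2 (Nat.dvd_lcm_left _ _)).trans hexp
        have h2 := Nat.le_of_dvd four_pos h1
        have h3 : 2 ^ 2 ≤ 2 ^ k := Nat.pow_le_pow_right two_pos hk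
        omega
  · left
    have hexp : ∀ x : G, x ^ 2 = 1 := fun x => by
      obtain ⟨k, hk⟩ := hG x
      obtain ⟨i, -, hi⟩ := (Nat.dvd_prime_pow Nat.prime_two).1 (orderOf_dvd_of_pow_eq_one hk)
      rcases Nat.lt_or_ge i 2 with hi2 | hi2
      · exact orderOf_dvd_iff_pow_eq_one.1 (hi ▸ (pow_dvd_pow 2 (show i ≤ 1 by omega)).trans
          (pow_one 2).dvd)
      · exact absurd (hord x 2 2 (hi ▸ pow_dvd_pow 2 hi2)) h4
    refine ⟨2, Nat.prime_two, hG, ?_, ?_⟩
    · rcases eq_or_ne m₀ 1 with rfl | hm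
      · rw [cnt_one] at hm₀; omega
      · have h1 : cnt G m₀ < Nat.card G :=
          Finite.card_subtype_lt (p := fun g : G => orderOf g = m₀) (x := 1)
            (by rw [orderOf_one]; exact Ne.symm hm)
        rw [hm₀] at h1
        omega
    · refine ((Nat.dvd_prime Nat.prime_two).1
        (Monoid.exponent_dvd_of_forall_pow_eq_one hexp)).resolve_left fun e1 => ?_
      have := Monoid.exp_eq_one_iff.1 e1
      rw [Nat.card_unique] at h2d
      omega

end Cfsg.Agent.S3995
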