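import Cfsg.Statements.S3997
import Cfsg.Agent.Lib.Coprime.Core

set_option autoImplicit false
set_option linter.style.haveILetI false
open Cfsg

namespace Cfsg.Agent.S3997

/-- Let G and H be finite groups with the same order type: for every m they have the same number of elements of order m. If G is nilpotent then so is H. -/
theorem result {G H : Type*} [Group G] [Finite G] [Group H] [Finite H] (hT : (∀ m : ℕ, Nat.card {g : G // orderOf g = m} = Nat.card {h : H // orderOf h = m})) (hG : Group.IsNilpotent G) :
    Group.IsNilpotent H := by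
  classical
  haveI := hG
  have := Fintype.ofFinite G
  have := Fintype.ofFinite H
  let e : G ≃ H := Equiv.ofFiberEquiv (f := fun g : G => orderOf g) (g := fun h : H => orderOf h)
    fun m => ((Fintype.equivFin _).trans ((finCongr (by simpa only [← Nat.card_eq_fintype_card] using hT m)).trans (Fintype.equivFin _).symm))
  have he : ∀ g, orderOf (e g) = orderOf g := fun g => Equiv.ofFiberEquiv_map _ g
  refine ((Group.isNilpotent_of_finite_tfae (G := H)).out 0 3 rfl rfl).2 fun p hp Q => ?_
  let P : Sylow p G := default
  have hPn : (P : Subgroup G).Normal :=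
    ((Group.isNilpotent_of_finite_tfae (G := G)).out 0 3 rfl rfl).1 hG p hp P
  have hcard : Nat.card (Q : Subgroup H) = Nat.card (P : Subgroup G) := by
    rw [Q.card_eq_multiplicity, P.card_eq_multiplicity, Nat.card_congr e]
  have hset : ∀ h : H, h ∈ (Q : Subgroup H) ↔ ∃ k, orderOf h = p ^ k := by
    have hinj : ∀ h : (Q : Subgroup H), e.symm h ∈ (P : Subgroup G) := by
      intro h
      obtain ⟨k, hk⟩ := (IsPGroup.iff_orderOf.1 Q.isPGroup') h
      obtain ⟨R, hR⟩ := (IsPGroup.of_card (p := p) (n := k) (G := Subgroup.zpowers (e.symm h))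
        (by rw [Nat.card_zpowers, ← he, Equiv.apply_symm_apply, Subgroup.orderOf_coe, hk])).exists_le_sylow
      haveI := Sylow.unique_of_normal P hPn
      rw [Subsingleton.elim P R]
      exact hR (Subgroup.mem_zpowers _)
    let f : ↥(Q : Subgroup H) → ↥(P : Subgroup G) := fun h => ⟨e.symm h, hinj h⟩
    have hf : Function.Bijective f := (Nat.bijective_iff_injective_and_card f).2
      ⟨fun a b hab => Subtype.ext (e.symm.injective
        (congrArg Subtype.val hab : e.symm (a : H) = e.symm (b : H))), hcard⟩
    intro h
    constructor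
    · intro hh
      obtain ⟨k, hk⟩ := (IsPGroup.iff_orderOf.1 Q.isPGroup') ⟨h, hh⟩
      exact ⟨k, by rw [← hk, Subgroup.orderOf_mk]⟩
    · rintro ⟨k, hk⟩
      obtain ⟨R, hR⟩ := (IsPGroup.of_card (p := p) (n := k) (G := Subgroup.zpowers (e.symm h))
        (by rw [Nat.card_zpowers, ← he, Equiv.apply_symm_apply, hk])).exists_le_sylow
      haveI := Sylow.unique_of_normal P hPn
      rw [← Subsingleton.elim P R] at hR
      obtain ⟨q, hq⟩ := hf.2 ⟨e.symm h, hR (Subgroup.mem_zpowers _)⟩
      have : (q : H) = h := e.symm.injective (congrArg Subtype.val hq)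
      exact this ▸ q.2
  exact ⟨fun x hx g => (hset _).2 (by
    obtain ⟨k, hk⟩ := (hset x).1 hx
    exact ⟨k, by rw [← hk]; exact orderOf_injective (MulAut.conj g).toMonoidHom (MulAut.conj g).injective x⟩)⟩

end Cfsg.Agent.S3997
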