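import Cfsg.Statements.S4002
import Cfsg.Agent.S3633
import Mathlib.NumberTheory.Bertrand

set_option autoImplicit false
open Cfsg

namespace Cfsg.Agent.S4002

/-- If the set of element orders of a finite group G is {1, 2, …, n} with n ≥ 7, then G is not solvable. -/
theorem result {G : Type*} [Group G] [Finite G] (n : ℕ) (hn : 7 ≤ n) (h : Set.range (orderOf : G → ℕ) = {k : ℕ | 1 ≤ k ∧ k ≤ n}) : ¬ Group.IsSolvable G := by
  classical
  obtain ⟨p, q, r, hp, hq, hr, hpq, hqr, hrn, hbig⟩ : ∃ p q r : ℕ, p.Prime ∧ q.Prime ∧ r.Prime ∧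
      p < q ∧ q < r ∧ r ≤ n ∧ n < p * q := by
    by_cases h1 : n < 15
    · exact ⟨3, 5, 7, by norm_num, by norm_num, by norm_num, by norm_num, by norm_num, hn, h1⟩
    by_cases h2 : n < 35
    · exact ⟨5, 7, 11, by norm_num, by norm_num, by norm_num, by norm_num, by norm_num, by omega, h2⟩
    by_cases h3 : n < 77
    · exact ⟨7, 11, 13, by norm_num, by norm_num, by norm_num, by norm_num, by norm_num, by omega, h3⟩
    obtain ⟨p, hp, hp1, hp2⟩ := Nat.exists_prime_lt_and_le_two_mul (n / 8) (by omega)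
    obtain ⟨q, hq, hq1, hq2⟩ := Nat.exists_prime_lt_and_le_two_mul (2 * (n / 8)) (by omega)
    obtain ⟨r, hr, hr1, hr2⟩ := Nat.exists_prime_lt_and_le_two_mul (2 * (2 * (n / 8))) (by omega)
    refine ⟨p, q, r, hp, hq, hr, by omega, by omega, by omega, ?_⟩
    have : (n / 8 + 1) * (2 * (n / 8) + 1) ≤ p * q := Nat.mul_le_mul (by omega) (by omega)
    nlinarith [Nat.div_add_mod n 8, Nat.mod_lt n (by norm_num : 8 > 0)]
  have hno : ∀ x : G, orderOf x ≤ n := fun x =>
    (h.le ⟨x, rfl⟩ : 1 ≤ orderOf x ∧ orderOf x ≤ n).2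
  have hdiv : ∀ k : ℕ, k.Prime → k ≤ n → k ∣ Nat.card G := fun k hk hkn => by
    obtain ⟨x, hx⟩ := h.ge (show k ∈ {k : ℕ | 1 ≤ k ∧ k ≤ n} from ⟨hk.one_lt.le, hkn⟩)
    exact hx ▸ orderOf_dvd_natCard x
  refine (Cfsg.Agent.S3633.result {p, q, r} ?_ ⟨?_, ?_⟩ (⊥ : Subgroup G) inferInstance).2
  · exact le_of_eq (Finset.card_eq_three.2 ⟨p, q, r, by omega, by omega, by omega, rfl⟩).symm
  · intro k hk
    simp only [Finset.mem_insert, Finset.mem_singleton] at hk
    rcases hk with rfl | rfl | rfl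
    · exact ⟨hp, hdiv _ hp (by omega)⟩
    · exact ⟨hq, hdiv _ hq (by omega)⟩
    · exact ⟨hr, hdiv _ hr hrn⟩
  · intro k hk l hl hkl ⟨x, hx⟩
    simp only [Finset.mem_insert, Finset.mem_singleton] at hk hl
    have hxn := hx ▸ hno x
    have h1 : p * q ≤ p * r := Nat.mul_le_mul_left p hqr.le
    have h2 : p * q ≤ q * r := Nat.mul_le_mul hpq.le hqr.le
    rcases hk with rfl | rfl | rfl <;> rcases hl with rfl | rfl | rfl <;>
      first | exact hkl rfl | nlinarith

end Cfsg.Agent.S4002
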