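import Cfsg.Statements.S4003
-- import your own Cfsg.Agent.* helpers here
import Mathlib
import Cfsg.Agent.Lib.PGroup.MillerCount
import Cfsg.Agent.Lib.PGroup.ClassSize

set_option autoImplicit false
open Cfsg

namespace Cfsg.Agent.S4003

open Subgroup

universe u
variable {G : Type u} [Group G] [Finite G]

/-- Elements of order `N * m` split into commuting parts. -/
theorem card_orderOf_mul {N m : ℕ} (hco : N.Coprime m) :
    Nat.card {g : G // orderOf g = N * m} = Nat.card (Σ y : {y : G // orderOf y = m},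
      {x : centralizer ({(y : G)} : Set G) // orderOf x = N}) := by
  by_cases hNm : N * m = 0
  · haveI : IsEmpty {g : G // orderOf g = N * m} := ⟨fun g => (orderOf_pos g.1).ne' (g.2.trans hNm)⟩
    haveI : IsEmpty (Σ y : {y : G // orderOf y = m},
        {x : centralizer ({(y : G)} : Set G) // orderOf x = N}) := ⟨fun a => by
      rcases mul_eq_zero.1 hNm with h | h
      · exact (orderOf_pos a.2.1).ne' (a.2.2.trans h)
      · exact (orderOf_pos a.1.1).ne' (a.1.2.trans h)⟩
    rw [Nat.card_of_isEmpty, Nat.card_of_isEmpty]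
  let F : (Σ y : {y : G // orderOf y = m}, {x : centralizer ({(y : G)} : Set G) // orderOf x = N}) →
      {g : G // orderOf g = N * m} := fun a => ⟨(a.2.1 : G) * a.1.1, by
    have hc : Commute (a.2.1 : G) a.1.1 := mem_centralizer_singleton_iff.1 a.2.1.2
    rw [hc.orderOf_mul_eq_mul_orderOf_of_coprime (by rw [Subgroup.orderOf_coe, a.2.2, a.1.2]; exact hco),
      Subgroup.orderOf_coe, a.2.2, a.1.2]⟩
  refine (Nat.card_congr (Equiv.ofBijective F ⟨?_, ?_⟩)).symm
  · rintro ⟨⟨y, hy⟩, ⟨x, hx⟩⟩ ⟨⟨y', hy'⟩, ⟨x', hx'⟩⟩ he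
    have he' : (x : G) * y = x' * y' := congrArg Subtype.val he
    obtain ⟨a, ha1, ha2⟩ := Nat.chineseRemainder hco 1 0
    have key : ∀ (u v : G), Commute u v → orderOf u = N → orderOf v = m → (u * v) ^ a = u := by
      intro u v huv hu hv
      rw [huv.mul_pow]
      have h1 : u ^ a = u ^ 1 := pow_eq_pow_iff_modEq.2 (hu ▸ ha1)
      have h2 : v ^ a = v ^ 0 := pow_eq_pow_iff_modEq.2 (hv ▸ ha2)
      rw [h1, h2, pow_one, pow_zero, mul_one]
    have hx0 : (x : G) = x' := by
      rw [← key x y (mem_centralizer_singleton_iff.1 x.2) (by rw [Subgroup.orderOf_coe]; exact hx) hy,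
        ← key x' y' (mem_centralizer_singleton_iff.1 x'.2) (by rw [Subgroup.orderOf_coe]; exact hx') hy',
        he']
    obtain rfl : y = y' := mul_left_cancel (hx0 ▸ he')
    obtain rfl : x = x' := Subtype.ext hx0
    rfl
  · rintro ⟨g, hg⟩
    obtain ⟨a, ha1, ha2⟩ := Nat.chineseRemainder hco 1 0
    obtain ⟨b, hb1, hb2⟩ := Nat.chineseRemainder hco 0 1
    have hab : a + b ≡ 1 [MOD N * m] := (Nat.modEq_and_modEq_iff_modEq_mul hco).1
      ⟨by simpa using ha1.add hb1, by simpa using ha2.add hb2⟩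
    have hga : g ^ a * g ^ b = g := by
      have h1 : g ^ (a + b) = g ^ 1 := pow_eq_pow_iff_modEq.2 (hg ▸ hab)
      rwa [pow_add, pow_one] at h1
    obtain ⟨c, hc⟩ := Nat.modEq_zero_iff_dvd.1 ha2
    obtain ⟨d, hd⟩ := Nat.modEq_zero_iff_dvd.1 hb1
    have hN : orderOf (g ^ a) ∣ N := orderOf_dvd_of_pow_eq_one (by
      rw [← pow_mul, hc, show m * c * N = N * m * c by ring, ← hg, pow_mul, pow_orderOf_eq_one,
        one_pow])
    have hm : orderOf (g ^ b) ∣ m := orderOf_dvd_of_pow_eq_one (by
      rw [← pow_mul, hd, show N * d * m = N * m * d by ring, ← hg, pow_mul, pow_orderOf_eq_one,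
        one_pow])
    have hcomm : Commute (g ^ a) (g ^ b) := Commute.pow_pow_self g a b
    have hprod : orderOf (g ^ a) * orderOf (g ^ b) = N * m := by
      rw [← hcomm.orderOf_mul_eq_mul_orderOf_of_coprime
        ((hco.coprime_dvd_left hN).coprime_dvd_right hm), hga, hg]
    have hN0 : N ≠ 0 := fun e => hNm (by rw [e, zero_mul])
    have hm0 : m ≠ 0 := fun e => hNm (by rw [e, mul_zero])
    have hNe : orderOf (g ^ a) = N := by
      refine Nat.dvd_antisymm hN ?_
      exact (hco.coprime_dvd_right hm).dvd_of_dvd_mul_right (hprod ▸ dvd_mul_right N m)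
    have hme : orderOf (g ^ b) = m :=
      Nat.eq_of_mul_eq_mul_left (Nat.pos_of_ne_zero hN0) (hNe ▸ hprod)
    exact ⟨⟨⟨g ^ b, hme⟩, ⟨⟨g ^ a, mem_centralizer_singleton_iff.2 hcomm.eq⟩,
      by rw [Subgroup.orderOf_mk]; exact hNe⟩⟩, Subtype.ext hga⟩

/-- Let G be a finite group, p an odd prime dividing the order of G whose Sylow p-subgroups are not cyclic, and n = p^s·m with s > 1 and m coprime to p. Then the number of elements of G of order n is a multiple of p^s. -/
theorem result {G : Type*} [Group G] [Finite G] (p : ℕ) [Fact p.Prime] (hodd : p ≠ 2) (hpG : p ∣ Nat.card G)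
    (P : Sylow p G) (hP : ¬ IsCyclic ↥(P : Subgroup G)) (s m : ℕ) (hs : 1 < s) (hm : Nat.Coprime p m) :
    p ^ s ∣ Nat.card {g : G // orderOf g = p ^ s * m} := by
  classical
  rw [card_orderOf_mul (Nat.Coprime.pow_left s hm)]
  letI : Fintype G := Fintype.ofFinite G
  letI : Fintype {y : G // orderOf y = m} := Fintype.ofFinite _
  rw [Nat.card_sigma]
  let cl : {y : G // orderOf y = m} → ConjClasses G := fun y => ConjClasses.mk y.1
  rw [← Finset.sum_fiberwise (Finset.univ) cl]
  refine Finset.dvd_sum fun C _ => ?_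
  by_cases hC : ∃ y : {y : G // orderOf y = m}, cl y = C
  swap
  · rw [Finset.filter_eq_empty_iff.2 fun y _ h => hC ⟨y, h⟩, Finset.sum_empty]
    exact dvd_zero _
  obtain ⟨⟨y₀, hy₀⟩, rfl⟩ := hC
  set C₀ := Subgroup.centralizer ({y₀} : Set G)
  rw [Finset.sum_eq_card_nsmul (b := Nat.card {x : C₀ // orderOf x = p ^ s}), smul_eq_mul]
  swap
  · intro y hy
    obtain ⟨g, hg⟩ := isConj_iff.1 (ConjClasses.mk_eq_mk_iff_isConj.1 (Finset.mem_filter.1 hy).2)
    have hmap : (Subgroup.centralizer ({(y : G)} : Set G)).map (MulAut.conj g).toMonoidHom = C₀ := by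
      ext z
      rw [Subgroup.mem_map_equiv, Subgroup.mem_centralizer_singleton_iff,
        Subgroup.mem_centralizer_singleton_iff, MulAut.conj_symm_apply]
      rw [← show g * (y : G) * g⁻¹ = y₀ from hg]
      constructor <;> intro h
      · calc z * (g * (y : G) * g⁻¹) = g * ((g⁻¹ * z * g) * y) * g⁻¹ := by group
          _ = g * (y * (g⁻¹ * z * g)) * g⁻¹ := by rw [h]
          _ = g * (y : G) * g⁻¹ * z := by group
      · calc g⁻¹ * z * g * y = g⁻¹ * (z * (g * (y : G) * g⁻¹)) * g := by group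
          _ = g⁻¹ * (g * (y : G) * g⁻¹ * z) * g := by rw [h]
          _ = y * (g⁻¹ * z * g) := by group
    let e := ((Subgroup.centralizer ({(y : G)} : Set G)).equivMapOfInjective _
      (MulAut.conj g).injective).trans (MulEquiv.subgroupCongr hmap)
    exact Nat.card_congr (e.toEquiv.subtypeEquiv fun x => by
      rw [show e.toEquiv x = e x from rfl, e.orderOf_eq])
  have hcard : (Finset.univ.filter fun y => cl y = cl ⟨y₀, hy₀⟩).card = C₀.index := by
    rw [← CfsgLib.PGroup.ncard_carrier_eq_index, ← Nat.card_coe_set_eq, ← Nat.card_eq_finsetCard]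
    refine Nat.card_congr ⟨fun y => ⟨y.1.1, ConjClasses.mem_carrier_iff_mk_eq.2
        (Finset.mem_filter.1 y.2).2⟩, fun z => ⟨⟨z.1, ?_⟩, Finset.mem_filter.2
          ⟨Finset.mem_univ _, ConjClasses.mem_carrier_iff_mk_eq.1 z.2⟩⟩,
        fun y => rfl, fun z => rfl⟩
    obtain ⟨g, hg⟩ := isConj_iff.1 (ConjClasses.mk_eq_mk_iff_isConj.1
      (ConjClasses.mem_carrier_iff_mk_eq.1 z.2))
    exact (((MulAut.conj g).orderOf_eq z.1).symm.trans (congrArg orderOf hg)).trans hy₀
  rw [hcard]
  let S : Sylow p C₀ := default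
  by_cases hcyc : IsCyclic (S : Subgroup C₀)
  · have hpi : p ∣ C₀.index := by
      by_contra hpi
      apply hP
      have hT : ¬ p ∣ ((S : Subgroup C₀).map C₀.subtype).index := by
        rw [← Subgroup.relIndex_mul_index (Subgroup.map_subtype_le (S : Subgroup C₀))]
        intro hd
        rcases (Fact.out : p.Prime).dvd_mul.1 hd with h | h
        · rw [Subgroup.relIndex, Subgroup.subgroupOf,
            Subgroup.comap_map_eq_self_of_injective C₀.subtype_injective] at h
          exact S.not_dvd_index h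
        · exact hpi h
      let T : Sylow p G := (S.2.map C₀.subtype).toSylow hT
      obtain ⟨g, hg⟩ := MulAction.exists_smul_eq G T P
      haveI : IsCyclic (T : Subgroup G) :=
        ((S : Subgroup C₀).equivMapOfInjective C₀.subtype C₀.subtype_injective).isCyclic.1 hcyc
      subst hg
      exact (Sylow.equivSMul T g).isCyclic.1 inferInstance
    have h2 := CfsgLib.PGroup.Miller.pow_pred_dvd_card_orderOf (p := p) (G := C₀) (s := s) (by omega)
    have := mul_dvd_mul hpi h2
    rwa [← pow_succ', Nat.sub_add_cancel (by omega)] at this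
  · exact dvd_mul_of_dvd_right
      (CfsgLib.PGroup.Miller.dvd_card_orderOf_of_sylow hodd S hcyc hs) _

end Cfsg.Agent.S4003
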