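import Cfsg.Statements.S4005
import Cfsg.Agent.Lib.Coprime.FpfAction
import Cfsg.Agent.Lib.Coprime.Solvable
import Cfsg.Agent.Lib.Char.Burnside
-- import your own Cfsg.Agent.* helpers here

set_option autoImplicit false
open Cfsg

namespace Cfsg.Agent.S4005

open Subgroup

private theorem eq_of_dvd_le_three {r n : ℕ} (hr : 2 ≤ r) (h : r ∣ n) (h0 : 0 < n) (hn : n ≤ 3) :
    n = r := by
  have := Nat.le_of_dvd h0 h
  interval_cases n <;> interval_cases r <;> omega

variable {G : Type*} [Group G] [Finite G]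

private theorem not_comm (hle : ∀ g : G, orderOf g ≤ 3) {q r : ℕ}
    (hq : q.Prime) (hr : r.Prime) (hqr : q ≠ r) {x y : G} (hx : orderOf x = q) (hy : orderOf y = r) :
    x * y ≠ y * x := by
  intro h
  have e := Commute.orderOf_mul_eq_mul_orderOf_of_coprime (x := x) (y := y) h
    (by rw [hx, hy]; exact (Nat.coprime_primes hq hr).2 hqr)
  rw [hx, hy] at e
  have h1 := hle (x * y)
  rw [e] at h1
  nlinarith [hq.two_le, hr.two_le]

private theorem mem_zpowers_of_comm (hle : ∀ g : G, orderOf g ≤ 3) {q r : ℕ}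
    (hq : q.Prime) (hr : r.Prime) (hqr : q ≠ r) (V : Subgroup G) [V.Normal] (hV : V ≠ ⊥)
    (hVord : ∀ v ∈ V, v ≠ 1 → orderOf v = q) {x y : G} (hx : orderOf x = r) (hxy : x * y = y * x)
    (hy : y ^ r = 1) : y ∈ zpowers x := by
  haveI := Fact.mk hr
  let E := closure ({x, y} : Set G)
  have hc : ∀ a ∈ ({x, y} : Set G), ∀ b ∈ ({x, y} : Set G), a * b = b * a := by
    rintro a (rfl | rfl) b (rfl | rfl) <;> first | rfl | exact hxy | exact hxy.symm
  haveI hE : IsMulCommutative E := isMulCommutative_closure hc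
  have hpow : ∀ e ∈ E, e ^ r = 1 := by
    intro e he
    induction he using closure_induction with
    | mem a ha => rcases ha with rfl | rfl; exacts [hx ▸ pow_orderOf_eq_one _, hy]
    | one => simp
    | mul a b ha hb iha ihb =>
      rw [Commute.mul_pow (congrArg Subtype.val (mul_comm' (⟨a, ha⟩ : E) ⟨b, hb⟩)), iha, ihb,
        one_mul]
    | inv a _ iha => rw [inv_pow, iha, inv_one]
  have hfpf : CfsgLib.Coprime.IsFpfOn E V := by
    intro a ha ha1
    rw [eq_bot_iff_forall]
    rintro v ⟨hvV, hvc⟩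
    by_contra hv
    exact not_comm hle hr hq hqr.symm (orderOf_eq_prime (hpow a ha) ha1) (hVord v hvV hv)
      (mem_centralizer_singleton_iff.1 hvc).symm
  haveI : IsCyclic E := hfpf.isCyclic (by rw [normalizer_eq_top]; exact le_top) hV
  obtain ⟨g, hg⟩ := IsCyclic.exists_generator (α := E)
  have hgr : orderOf g ∣ r := orderOf_dvd_of_pow_eq_one (Subtype.ext (hpow g g.2))
  have hEc : Nat.card E ∣ r := by rwa [← orderOf_eq_card_of_forall_mem_zpowers hg]
  have hxE : zpowers x ≤ E := zpowers_le.2 (subset_closure (Set.mem_insert _ _))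
  have e := eq_of_le_of_card_ge hxE (by
    rw [Nat.card_zpowers, hx]; exact Nat.le_of_dvd hr.pos hEc)
  rw [e]; exact subset_closure (Set.mem_insert_of_mem _ rfl)

private theorem sylow_card (hle : ∀ g : G, orderOf g ≤ 3) {q r : ℕ} [Fact r.Prime]
    (hq : q.Prime) (hr : r.Prime) (hqr : q ≠ r) (hr' : ∀ g : G, IsPrimePow (orderOf g) → r ∣ orderOf g → orderOf g = r)
    (hex : ∃ x : G, orderOf x = r) (V : Subgroup G) [V.Normal] (hV : V ≠ ⊥)
    (hVord : ∀ v ∈ V, v ≠ 1 → orderOf v = q) (P : Sylow r G) : Nat.card P = r := by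
  obtain ⟨x0, hx0⟩ := hex
  have hd : r ∣ Nat.card P := P.dvd_card_of_dvd_card (hx0 ▸ orderOf_dvd_natCard x0)
  haveI : Nontrivial P := Finite.one_lt_card_iff_nontrivial.1
    (lt_of_lt_of_le hr.one_lt (Nat.le_of_dvd Nat.card_pos hd))
  have hord : ∀ g : G, g ∈ P → g ≠ 1 → orderOf g = r := by
    intro g hg hg1
    obtain ⟨k, hk⟩ := IsPGroup.iff_orderOf.1 P.isPGroup' ⟨g, hg⟩
    rw [Subgroup.orderOf_mk] at hk
    have hk0 : k ≠ 0 := by rintro rfl; simp [hg1] at hk
    exact hr' g (hk ▸ hr.isPrimePow.pow hk0) (hk ▸ dvd_pow_self r hk0)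
  haveI := P.isPGroup'.center_nontrivial
  obtain ⟨z, hz⟩ := exists_ne (1 : center P)
  have hz1 : ((z : P) : G) ≠ 1 := fun h => hz (Subtype.ext (Subtype.ext h))
  have hzr := hord _ (z : P).2 hz1
  have hall : (P : Subgroup G) ≤ zpowers ((z : P) : G) := by
    intro y hy
    refine mem_zpowers_of_comm hle hq hr hqr V hV hVord hzr ?_ ?_
    · exact congrArg Subtype.val (mem_center_iff.1 z.2 ⟨y, hy⟩).symm
    · by_cases h : y = 1
      · simp [h]
      · exact orderOf_dvd_iff_pow_eq_one.1 (hord y hy h).dvd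
  have e := le_antisymm hall (zpowers_le.2 (z : P).2)
  rw [e, Nat.card_zpowers, hzr]

/-- A finite group whose set of element orders is exactly {1, 2, 3} has either a normal elementary abelian 3-subgroup of index 2 or a normal elementary abelian 2-subgroup of index 3. -/
theorem result {G : Type*} [Group G] [Finite G] (h : Set.range (orderOf : G → ℕ) = {k : ℕ | 1 ≤ k ∧ k ≤ 3}) :
    (∃ N : Subgroup G, N.Normal ∧ Cfsg.IsElementaryAbelian 3 N ∧ N.index = 2) ∨
      (∃ N : Subgroup G, N.Normal ∧ Cfsg.IsElementaryAbelian 2 N ∧ N.index = 3) := by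
  have hle : ∀ g : G, orderOf g ≤ 3 := fun g => (h.le ⟨g, rfl⟩ : _ ∧ _).2
  have hex : ∀ k, 1 ≤ k → k ≤ 3 → ∃ x : G, orderOf x = k := fun k h1 h2 => h.ge ⟨h1, h2⟩
  have hr' : ∀ r : ℕ, r.Prime → ∀ g : G, IsPrimePow (orderOf g) → r ∣ orderOf g → orderOf g = r := by
    intro r hr g _ hd
    exact eq_of_dvd_le_three hr.two_le hd (orderOf_pos g) (hle g)
  have hprimes : ∀ r : ℕ, r.Prime → r ∣ Nat.card G → r = 2 ∨ r = 3 := by
    intro r hr hd
    haveI := Fact.mk hr
    obtain ⟨x, hx⟩ := exists_prime_orderOf_dvd_card' r hd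
    have := hle x
    have := hr.two_le
    omega
  haveI hsol : Group.IsSolvable G := by
    refine CfsgLib.Char.isSolvable_of_card_two_primes Nat.prime_two Nat.prime_three G
      ((Nat.card G).factorization 2) ((Nat.card G).factorization 3) ?_
    refine Nat.eq_of_factorization_eq Nat.card_pos.ne' (by positivity) fun t => ?_
    rw [Nat.factorization_mul (by positivity) (by positivity), Nat.prime_two.factorization_pow,
      Nat.prime_three.factorization_pow]
    by_cases ht : t.Prime ∧ t ∣ Nat.card G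
    · rcases hprimes t ht.1 ht.2 with rfl | rfl <;> simp
    · have h0 : (Nat.card G).factorization t = 0 := by
        by_cases h1 : t.Prime
        · exact Nat.factorization_eq_zero_of_not_dvd fun hd => ht ⟨h1, hd⟩
        · exact Nat.factorization_eq_zero_of_not_prime _ h1
      rcases eq_or_ne t 2 with rfl | h2
      · simp [h0]
      rcases eq_or_ne t 3 with rfl | h3'
      · simp [h0]
      simp [h0, Ne.symm h2, Ne.symm h3']
  -- a nontrivial p-core
  have hFne : Cfsg.fittingSubgroup G ≠ ⊥ := by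
    intro h0
    have := CfsgLib.Coprime.centralizer_fitting_le (G := G)
    rw [h0, coe_bot] at this
    obtain ⟨x, hx⟩ := hex 2 (by norm_num) (by norm_num)
    have h2 : x ∈ (⊥ : Subgroup G) := this (mem_centralizer_iff.2 (by simp))
    rw [mem_bot] at h2
    simp [h2] at hx
  obtain ⟨⟨q, hq⟩, hqne⟩ : ∃ q : Nat.Primes, Cfsg.pCore (q : ℕ) G ≠ ⊥ := by
    by_contra h0
    push Not at h0
    exact hFne (by rw [CfsgLib.Coprime.fitting_eq_iSup_pCore]; simp [h0])
  haveI := Fact.mk hq
  set V := Cfsg.pCore q G with hVdef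
  haveI hVn : V.Normal := CfsgLib.Coprime.pCore_normal' q
  have hVp : IsPGroup q V := CfsgLib.Coprime.pCore_isPGroup q
  have hVord : ∀ v ∈ V, v ≠ 1 → orderOf v = q := by
    intro v hv hv1
    obtain ⟨k, hk⟩ := IsPGroup.iff_orderOf.1 hVp ⟨v, hv⟩
    rw [Subgroup.orderOf_mk] at hk
    have hk0 : k ≠ 0 := by rintro rfl; simp [hv1] at hk
    exact hr' q hq v (hk ▸ hq.isPrimePow.pow hk0) (hk ▸ dvd_pow_self q hk0)
  have hq23 : q = 2 ∨ q = 3 := by
    refine hprimes q hq ?_
    obtain ⟨⟨v, hv⟩, hv1⟩ := (ne_bot_iff_exists_ne_one).1 hqne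
    exact hVord v hv (fun h0 => hv1 (Subtype.ext h0)) ▸ orderOf_dvd_natCard v
  have hCV : centralizer (V : Set G) ≤ V := by
    refine CfsgLib.Coprime.centralizer_pCore_le ?_
    by_contra hne
    obtain ⟨⟨y, hy⟩, hy1⟩ := (ne_bot_iff_exists_ne_one).1 hne
    have hy1' : y ≠ 1 := fun h0 => hy1 (Subtype.ext h0)
    obtain ⟨r, hr, hrd⟩ := Nat.exists_prime_and_dvd (n := orderOf y) (by simpa using hy1')
    have hcop := CfsgLib.Coprime.pPrimeCore_coprime (G := G) hq
    have hry : orderOf y ∣ Nat.card (Cfsg.pPrimeCore q G) :=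
      Subgroup.orderOf_dvd_natCard _ hy
    have hqr : q ≠ r := by
      rintro rfl
      exact (hq.coprime_iff_not_dvd.1 hcop.symm) (hrd.trans hry)
    have hyr : orderOf y = r := eq_of_dvd_le_three hr.two_le hrd (orderOf_pos y) (hle y)
    obtain ⟨⟨v, hv⟩, hv1⟩ := (ne_bot_iff_exists_ne_one).1 hqne
    have hd : Disjoint V (Cfsg.pPrimeCore q G) := by
      rw [disjoint_iff]
      refine inf_eq_bot_of_coprime ?_
      obtain ⟨j, hj⟩ := IsPGroup.iff_card.1 hVp
      rw [hj]; exact hcop.symm.pow_left j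
    haveI : (Cfsg.pPrimeCore q G).Normal := inferInstance
    exact not_comm hle hq hr hqr (hVord v hv fun h0 => hv1 (Subtype.ext h0)) hyr
      (Subgroup.commute_of_normal_of_disjoint V _ hVn inferInstance hd v y hv hy)
  have helem2 : ∀ g : G, orderOf g ∣ 2 → g * g = 1 := fun g hg => by
    rw [← pow_two]; exact orderOf_dvd_iff_pow_eq_one.1 hg
  haveI := Fact.mk Nat.prime_two
  haveI := Fact.mk Nat.prime_three
  let T : Sylow 2 G := default
  let P : Sylow 3 G := default
  have hT2 : ∀ g ∈ (T : Subgroup G), g * g = 1 := by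
    intro g hg
    by_cases hg1 : g = 1
    · simp [hg1]
    refine helem2 g ?_
    obtain ⟨k, hk⟩ := IsPGroup.iff_orderOf.1 T.isPGroup' ⟨g, hg⟩
    rw [Subgroup.orderOf_mk] at hk
    have hk0 : k ≠ 0 := by rintro rfl; simp [hg1] at hk
    rw [hr' 2 Nat.prime_two g (hk ▸ Nat.prime_two.isPrimePow.pow hk0) (hk ▸ dvd_pow_self 2 hk0)]
  have hTc : ∀ a ∈ (T : Subgroup G), ∀ b ∈ (T : Subgroup G), a * b = b * a := by
    intro a ha b hb
    have h3 := hT2 _ (mul_mem ha hb)
    calc a * b = a * (a * b * (a * b)) * b := by rw [h3, mul_one]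
      _ = (a * a) * b * a * (b * b) := by group
      _ = b * a := by rw [hT2 a ha, hT2 b hb, one_mul, mul_one]
  have hcard : Nat.card G = Nat.card T * Nat.card P := by
    refine Nat.eq_of_factorization_eq Nat.card_pos.ne'
      (Nat.mul_ne_zero Nat.card_pos.ne' Nat.card_pos.ne') fun t => ?_
    rw [T.card_eq_multiplicity, P.card_eq_multiplicity, Nat.factorization_mul (by positivity)
      (by positivity), Nat.prime_two.factorization_pow, Nat.prime_three.factorization_pow]
    by_cases ht : t.Prime ∧ t ∣ Nat.card G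
    · rcases hprimes t ht.1 ht.2 with rfl | rfl <;> simp
    · have h0 : (Nat.card G).factorization t = 0 := by
        by_cases h1 : t.Prime
        · exact Nat.factorization_eq_zero_of_not_dvd fun hd => ht ⟨h1, hd⟩
        · exact Nat.factorization_eq_zero_of_not_prime _ h1
      rcases eq_or_ne t 2 with rfl | h2
      · simp [h0]
      rcases eq_or_ne t 3 with rfl | h3'
      · simp [h0]
      simp [h0, Ne.symm h2, Ne.symm h3']
  rcases hq23 with rfl | rfl
  · right
    have hVT : V ≤ (T : Subgroup G) := by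
      obtain ⟨S, hS⟩ := hVp.exists_le_sylow
      obtain ⟨g, hg⟩ := MulAction.exists_smul_eq G S T
      intro v hv
      rw [← hg, Sylow.coe_subgroup_smul, mem_pointwise_smul_iff_inv_smul_mem]
      exact hS (by simpa [MulAut.smul_def, mul_assoc] using hVn.conj_mem v hv g⁻¹)
    have hTV : (T : Subgroup G) ≤ V := fun t ht => hCV (mem_centralizer_iff.2
      fun v hv => hTc v (hVT hv) t ht)
    have hTe : (T : Subgroup G) = V := le_antisymm hTV hVT
    refine ⟨V, hVn, ⟨⟨⟨fun a b => Subtype.ext (hTc a (hVT a.2) b (hVT b.2))⟩⟩,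
      fun a ha => by rw [pow_two]; exact hT2 a (hVT ha)⟩, ?_⟩
    have hP := sylow_card hle Nat.prime_two Nat.prime_three (by norm_num) (hr' 3 Nat.prime_three)
      (hex 3 (by norm_num) le_rfl) V hqne hVord P
    have h1 := V.index_mul_card
    rw [hcard, hP, hTe, mul_comm] at h1
    exact Nat.eq_of_mul_eq_mul_left Nat.card_pos h1
  · left
    have hT := sylow_card hle Nat.prime_three Nat.prime_two (by norm_num) (hr' 2 Nat.prime_two)
      (hex 2 (by norm_num) (by norm_num)) V hqne hVord T
    have hidx : (P : Subgroup G).index = 2 := by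
      have h1 := (P : Subgroup G).index_mul_card
      rw [hcard, hT] at h1
      exact Nat.eq_of_mul_eq_mul_right Nat.card_pos h1
    haveI hPn : (P : Subgroup G).Normal := normal_of_index_eq_two hidx
    have hout : ∀ g : G, g ∉ (P : Subgroup G) → g * g = 1 := by
      intro g hg
      refine helem2 g ?_
      have hd : 2 ∣ orderOf g := by
        by_contra hnd
        have h1 : g ^ orderOf g ∈ (P : Subgroup G) := by rw [pow_orderOf_eq_one]; exact one_mem _
        have h2 : g ^ 2 ∈ (P : Subgroup G) := hidx ▸ (P : Subgroup G).pow_index_mem g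
        obtain ⟨m, hm⟩ : Odd (orderOf g) := Nat.not_even_iff_odd.1 fun he => hnd he.two_dvd
        rw [hm, pow_add, pow_mul, pow_one] at h1
        exact hg ((mul_mem_cancel_left (pow_mem h2 m)).1 h1)
      rw [hr' 2 Nat.prime_two g ?_ hd]
      have : orderOf g = 2 := by
        have h1 := hle g
        have := orderOf_pos g
        omega
      rw [this]; exact Nat.prime_two.isPrimePow
    obtain ⟨t, ht⟩ : ∃ t, t ∉ (P : Subgroup G) := by
      by_contra h0
      push Not at h0
      rw [show (P : Subgroup G) = ⊤ from eq_top_iff.2 fun x _ => h0 x, index_top] at hidx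
      norm_num at hidx
    have hinv : ∀ x ∈ (P : Subgroup G), t * x * t = x⁻¹ := by
      intro x hx
      have h1 := hout (t * x) fun h0 => ht ((mul_mem_cancel_right hx).1 h0)
      exact eq_inv_of_mul_eq_one_left (by simpa [mul_assoc] using h1)
    refine ⟨P, hPn, ⟨⟨⟨fun a b => Subtype.ext ?_⟩⟩, fun a ha => ?_⟩, hidx⟩
    · have h1 := hinv _ (mul_mem a.2 b.2)
      have h2 : t * (a.1 * b.1) * t = (t * a.1 * t) * (t * b.1 * t) := by
        have := hout t ht
        calc t * (a.1 * b.1) * t = t * a.1 * (1 * b.1) * t := by group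
          _ = t * a.1 * ((t * t) * b.1) * t := by rw [this]
          _ = (t * a.1 * t) * (t * b.1 * t) := by group
      rw [h2, hinv _ a.2, hinv _ b.2, ← mul_inv_rev] at h1
      exact (inv_injective h1).symm
    · by_cases ha1 : a = 1
      · simp [ha1]
      obtain ⟨k, hk⟩ := IsPGroup.iff_orderOf.1 P.isPGroup' ⟨a, ha⟩
      rw [Subgroup.orderOf_mk] at hk
      have hk0 : k ≠ 0 := by rintro rfl; simp [ha1] at hk
      rw [← hr' 3 Nat.prime_three a (hk ▸ Nat.prime_three.isPrimePow.pow hk0)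
        (hk ▸ dvd_pow_self 3 hk0)]
      exact pow_orderOf_eq_one a

end Cfsg.Agent.S4005
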