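import Cfsg.Statements.S4010
import Cfsg.Agent.Lib.PGroup.LinearDerivedUnipotent

set_option autoImplicit false
open Cfsg

namespace Cfsg.Agent.S4010

/-- Let F be a field, n ≥ 1, and P a finite p-group (p a prime) admitting an injective homomorphism into the general linear group of degree n over F. Then the derived length of P is at most ⌊log₂ n⌋ + 1: that term of the derived series of P is trivial. -/
theorem result {P : Type*} [Group P] [Finite P] (p : ℕ) [Fact p.Prime] (hP : IsPGroup p P) (F : Type*) [Field F] (n : ℕ) (hn : 1 ≤ n) (ρ : P →* Matrix.GeneralLinearGroup (Fin n) F) (hρ : Function.Injective ρ) : derivedSeries P (Nat.log 2 n + 1) = ⊥ := by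
  let θ : P →* Module.End F (Fin n → F) :=
    ((Matrix.toLinAlgEquiv' : Matrix (Fin n) (Fin n) F ≃ₐ[F] _).toAlgHom.toMonoidHom).comp
      ((Units.coeHom (Matrix (Fin n) (Fin n) F)).comp ρ)
  have hθ : Function.Injective θ := fun a b hab => hρ (Units.ext (Matrix.toLinAlgEquiv'.injective hab))
  by_cases hp0 : (p : F) = 0
  · haveI : CharP F p := (CharP.charP_iff_prime_eq_zero Fact.out).2 hp0
    refine CfsgLib.LinDerived.derivedSeries_unipotent _ hP ?_ θ hθ
    rw [Module.finrank_fin_fun]
    exact (Nat.lt_pow_succ_log_self Nat.one_lt_two n).le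
  · have h := CfsgLib.LinDerived.derivedSeries_eq_bot (e := 1) hp0 one_pos
      (fun V _ _ _ _ R _ _ _ => Module.finrank_pos) hP θ hθ
    rwa [Module.finrank_fin_fun, Nat.div_one] at h

end Cfsg.Agent.S4010
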