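import Cfsg.Statements.S4013
import Cfsg.Agent.Lib.PGroup.ShortTools

set_option autoImplicit false
set_option linter.style.haveILetI false
open Cfsg

namespace Cfsg.Agent.S4013

/-- Let G be a finite p-group (p prime) and N < M normal subgroups of G such that for some g ∈ M ∖ N the conjugacy class of g is exactly M ∖ N. Then p = 2 and N has index 2 in M. -/
theorem result {G : Type*} [Group G] [Finite G] (p : ℕ) [Fact p.Prime] (hG : IsPGroup p G) (N M : Subgroup G) [N.Normal] [M.Normal] (hNM : N < M) (g : G) (hgM : g ∈ M) (hgN : g ∉ N) (hcl : {h : G | IsConj g h} = (M : Set G) \ (N : Set G)) : p = 2 ∧ N.relIndex M = 2 := by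
  have hp : p.Prime := Fact.out
  have hcard : Nat.card {h : G // IsConj g h} + Nat.card N = Nat.card M := by
    have e : Nat.card {h : G // IsConj g h} = ((M : Set G) \ (N : Set G)).ncard := by
      rw [← hcl]; exact Nat.card_coe_set_eq _
    rw [e, show Nat.card N = (N : Set G).ncard from Nat.card_coe_set_eq _,
      show Nat.card M = (M : Set G).ncard from Nat.card_coe_set_eq _,
      Set.ncard_sdiff_add_ncard_of_subset hNM.le]
  obtain ⟨j, hj⟩ := (hG.to_subgroup M).index (N.subgroupOf M)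
  obtain ⟨c, hc⟩ := hG.index (Subgroup.centralizer ({g} : Set G))
  change N.relIndex M = p ^ j at hj
  rw [CfsgLib.PGroup.card_setOf_isConj, hc, ← Subgroup.relIndex_bot_left (H := M),
    ← Subgroup.relIndex_mul_relIndex ⊥ N M bot_le hNM.le, Subgroup.relIndex_bot_left, hj] at hcard
  have hj0 : j ≠ 0 := by
    rintro rfl
    exact hNM.not_ge (Subgroup.relIndex_eq_one.1 (by rw [hj, pow_zero]))
  obtain ⟨a, ha⟩ := IsPGroup.iff_card.1 (hG.to_subgroup N)
  rw [ha] at hcard
  have hca : a ≤ c := by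
    by_contra hlt
    have h1 : p ^ (c + 1) ∣ p ^ a * p ^ j := dvd_mul_of_dvd_left (pow_dvd_pow p (by omega)) _
    have h2 : p ^ (c + 1) ∣ p ^ a := pow_dvd_pow p (by omega)
    have h3 : p ^ (c + 1) ∣ p ^ c := (Nat.dvd_add_left h2).1 (hcard ▸ h1)
    exact absurd (Nat.le_of_dvd (pow_pos hp.pos _) h3)
      (not_le.2 (Nat.pow_lt_pow_right hp.one_lt (Nat.lt_succ_self c)))
  have h1 : p ^ (c - a) + 1 = p ^ j := by
    refine Nat.eq_of_mul_eq_mul_left (pow_pos hp.pos a) ?_
    rw [mul_add, ← pow_add, Nat.add_sub_cancel' hca, mul_one, hcard]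
  have hca0 : c - a = 0 := by
    by_contra h0
    have h2 : p ∣ 1 :=
      (Nat.dvd_add_right (dvd_pow_self p h0)).1 (h1 ▸ dvd_pow_self p hj0)
    exact hp.ne_one (Nat.dvd_one.1 h2)
  rw [hca0, pow_zero] at h1
  have hp2 : p = 2 := ((Nat.prime_dvd_prime_iff_eq hp Nat.prime_two).1
    ((dvd_pow_self p hj0).trans (by rw [← h1])))
  exact ⟨hp2, by rw [hj, ← h1]⟩

end Cfsg.Agent.S4013
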