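import Cfsg.Statements.S4014
import Mathlib.GroupTheory.RegularWreathProduct
import Mathlib.GroupTheory.Solvable
import Mathlib.GroupTheory.Perm.ViaEmbedding

set_option autoImplicit false
open Cfsg

namespace Cfsg.Agent.S4014

open Subgroup
open scoped commutatorElement

theorem derivedSeries_commutator {W : Type*} [Group W] (k : ℕ) :
    (derivedSeries (commutator W) k).map (commutator W).subtype = derivedSeries W (k + 1) := by
  induction k with
  | zero => rw [derivedSeries_zero, ← MonoidHom.range_eq_map, Subgroup.range_subtype, derivedSeries_one]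
  | succ k ih => rw [derivedSeries_succ, map_commutator, ih, ← derivedSeries_succ]

theorem derivedSeries_congr_bot {A B : Type*} [Group A] [Group B] (e : A ≃* B) {k : ℕ}
    (h : derivedSeries B k = ⊥) : derivedSeries A k = ⊥ := by
  rw [← map_eq_bot_iff_of_injective _ (f := e.toMonoidHom) e.injective, map_derivedSeries_eq e.surjective, h]

theorem derivedSeries_eq_bot_of_le {W : Type*} [Group W] {j k : ℕ} (hjk : j ≤ k)
    (h : derivedSeries W j = ⊥) : derivedSeries W k = ⊥ := by
  induction hjk with
  | refl => exact h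
  | step _ ih => rw [derivedSeries_succ, ih, commutator_bot_left]

variable {D Q : Type*} [Group D] [Group Q]

theorem right_commutator (hQ : ∀ a b : Q, a * b = b * a) (x : commutator (D ≀ᵣ Q)) :
    (x : D ≀ᵣ Q).right = 1 := by
  have h : commutator (D ≀ᵣ Q) ≤ (RegularWreathProduct.rightHom : D ≀ᵣ Q →* Q).ker := by
    rw [commutator_def, commutator_le]
    intro a _ b _
    rw [MonoidHom.mem_ker, map_commutatorElement, commutatorElement_eq_one_iff_mul_comm]
    exact hQ _ _
  exact h x.2

/-- The base coordinates of the derived subgroup of a wreath product. -/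
def leftHom (hQ : ∀ a b : Q, a * b = b * a) : commutator (D ≀ᵣ Q) →* (Q → D) where
  toFun x := (x : D ≀ᵣ Q).left
  map_one' := rfl
  map_mul' x y := by
    funext q
    simp [right_commutator hQ x]

theorem derivedSeries_wreath_eq_bot (hQ : ∀ a b : Q, a * b = b * a) {k : ℕ}
    (h : derivedSeries D k = ⊥) : derivedSeries (D ≀ᵣ Q) (k + 1) = ⊥ := by
  rw [← derivedSeries_commutator, (map_eq_bot_iff_of_injective _ (subtype_injective _))]
  rw [eq_bot_iff]
  intro x hx
  have hl : (x : D ≀ᵣ Q).left = 1 := funext fun q => by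
    have := map_derivedSeries_le_derivedSeries ((Pi.evalMonoidHom (fun _ : Q => D) q).comp (leftHom hQ)) k
      (mem_map_of_mem _ hx)
    rw [h, mem_bot] at this
    exact this
  exact mem_bot.2 (Subtype.ext (RegularWreathProduct.ext hl (right_commutator hQ x)))

theorem derivedSeries_wreath_ne_bot (hQ : ∀ a b : Q, a * b = b * a) [Nontrivial Q] {k : ℕ}
    (h : derivedSeries D k ≠ ⊥) : derivedSeries (D ≀ᵣ Q) (k + 1) ≠ ⊥ := by
  classical
  rw [← derivedSeries_commutator, Ne, map_eq_bot_iff_of_injective _ (subtype_injective _)]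
  intro hbot
  obtain ⟨g, hg⟩ := exists_ne (1 : Q)
  have hsurj : Function.Surjective ((Pi.evalMonoidHom (fun _ : Q => D) 1).comp (leftHom (D := D) hQ)) := by
    intro d
    let a : D ≀ᵣ Q := ⟨Pi.mulSingle 1 d, 1⟩
    refine ⟨⟨⁅a, RegularWreathProduct.inl g⁆, commutator_mem_commutator (mem_top _) (mem_top _)⟩, ?_⟩
    show (⁅a, RegularWreathProduct.inl g⁆).left 1 = d
    simp [commutatorElement_def, a, Pi.mulSingle_eq_of_ne (inv_ne_one.2 hg), Pi.mulSingle_eq_of_ne hg]
  apply h
  rw [← map_derivedSeries_eq hsurj, hbot, Subgroup.map_bot]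

theorem derivedSeries_iterated (G : Type) [Group G] [Nontrivial G] (hG : ∀ a b : G, a * b = b * a) :
    ∀ k : ℕ, derivedSeries (IteratedWreathProduct G k) k = ⊥ ∧
      derivedSeries (IteratedWreathProduct G (k + 1)) k ≠ ⊥
  | 0 => by
    refine ⟨?_, ?_⟩
    · rw [derivedSeries_zero, eq_bot_iff]
      intro x _
      exact mem_bot.2 (@Subsingleton.elim PUnit _ x 1)
    · rw [derivedSeries_zero]
      obtain ⟨g, hg⟩ := exists_ne (1 : G)
      intro h
      have := mem_bot.1 (h ▸ mem_top (⟨1, g⟩ : IteratedWreathProduct G 1))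
      exact hg (congrArg RegularWreathProduct.right this)
  | k + 1 =>
    ⟨derivedSeries_wreath_eq_bot (D := IteratedWreathProduct G k) hG (derivedSeries_iterated G hG k).1,
      derivedSeries_wreath_ne_bot (D := IteratedWreathProduct G (k + 1)) hG (derivedSeries_iterated G hG k).2⟩

/-- Let p be a prime, n ≥ 1, and P a Sylow p-subgroup of the symmetric group on n letters. Then the derived length of P is exactly k = ⌊log_p n⌋ (the largest k with p^k ≤ n): the k-th derived subgroup of P is trivial and, when k ≥ 1, the (k−1)-st is not. -/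
theorem result (p : ℕ) [Fact p.Prime] (n : ℕ) (hn : 1 ≤ n) (P : Sylow p (Equiv.Perm (Fin n))) : derivedSeries ↥(P : Subgroup (Equiv.Perm (Fin n))) (Nat.log p n) = ⊥ ∧ (1 ≤ Nat.log p n → derivedSeries ↥(P : Subgroup (Equiv.Perm (Fin n))) (Nat.log p n - 1) ≠ ⊥) := by
  classical
  have hp : p.Prime := Fact.out
  let G := Multiplicative (ZMod p)
  have hGcard : Nat.card G = p := (Nat.card_congr Multiplicative.toAdd).trans (Nat.card_zmod p)
  haveI : Nontrivial G := Finite.one_lt_card_iff_nontrivial.1 (hGcard ▸ hp.one_lt)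
  have hW := derivedSeries_iterated G (fun a b => mul_comm a b)
  refine ⟨?_, fun hk => ?_⟩
  · rw [eq_bot_iff]
    intro x hx
    refine mem_bot.2 (Subtype.ext (Equiv.ext fun a => ?_))
    obtain ⟨j, hj⟩ := P.2.card_orbit a
    let O := MulAction.orbit (P : Subgroup (Equiv.Perm (Fin n))) a
    let φ := MulAction.toPermHom (P : Subgroup (Equiv.Perm (Fin n))) O
    obtain ⟨Q, hQ⟩ := (P.2.of_surjective φ.rangeRestrict φ.rangeRestrict_surjective).exists_le_sylow
    have hjn : p ^ j ≤ n := by
      have := Nat.card_le_card_of_injective (fun o : O => (o : Fin n)) Subtype.val_injective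
      rw [Nat.card_fin, show Nat.card O = p ^ j from hj] at this
      exact this
    have hQbot : derivedSeries (Q : Subgroup (Equiv.Perm O)) (Nat.log p n) = ⊥ :=
      derivedSeries_eq_bot_of_le (Nat.le_log_of_pow_le hp.one_lt hjn)
        (derivedSeries_congr_bot (Sylow.mulEquivIteratedWreathProduct p j O hj G hGcard Q) (hW j).1)
    have hmem := map_derivedSeries_le_derivedSeries ((inclusion hQ).comp φ.rangeRestrict) _
      (mem_map_of_mem _ hx)
    rw [hQbot, mem_bot] at hmem
    have h1 : φ x = 1 := congrArg Subtype.val hmem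
    have h2 := congrArg (fun e : Equiv.Perm O => ((e ⟨a, MulAction.mem_orbit_self a⟩ : O) : Fin n)) h1
    exact h2
  · obtain ⟨m, hm⟩ : ∃ m, Nat.log p n = m + 1 := ⟨Nat.log p n - 1, by omega⟩
    have hle : p ^ (m + 1) ≤ n := hm ▸ Nat.pow_log_le_self p (by omega)
    obtain ⟨Q⟩ : Nonempty (Sylow p (Equiv.Perm (Fin (p ^ (m + 1))))) := inferInstance
    let ι := Equiv.Perm.viaEmbeddingHom (Fin.castLEEmb hle)
    obtain ⟨P', hP'⟩ := (Q.2.map ι).exists_le_sylow
    let e := P.equiv P'
    let f : (Q : Subgroup (Equiv.Perm (Fin (p ^ (m + 1))))) →* (P : Subgroup (Equiv.Perm (Fin n))) :=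
      e.symm.toMonoidHom.comp ((inclusion hP').comp (ι.subgroupMap Q))
    have hf : Function.Injective f := e.symm.injective.comp ((inclusion_injective hP').comp
      (fun u v huv => Subtype.ext (Equiv.Perm.viaEmbeddingHom_injective _ (congrArg Subtype.val huv))))
    rw [hm, Nat.add_sub_cancel]
    intro hbot
    refine (hW m).2 (derivedSeries_congr_bot
      (Sylow.mulEquivIteratedWreathProduct p (m + 1) (Fin (p ^ (m + 1))) (Nat.card_fin _) G hGcard Q).symm ?_)
    rw [← map_eq_bot_iff_of_injective _ hf, eq_bot_iff, ← hbot]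
    exact map_derivedSeries_le_derivedSeries f m

end Cfsg.Agent.S4014
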