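import Cfsg.Statements.S4015
import Cfsg.Agent.Lib.PGroup.LinearDerived
import Cfsg.Agent.S4014
import Mathlib.FieldTheory.Finite.Basic
import Mathlib.FieldTheory.Galois.Basic
import Mathlib.LinearAlgebra.Matrix.GeneralLinearGroup.Card

set_option autoImplicit false
open Cfsg

namespace Cfsg.Agent.S4015

open Subgroup

section
variable {F : Type*} [Field F]

/-- Conjugation of endomorphisms by a linear equivalence, as a monoid homomorphism. -/
def endConj {V W : Type*} [AddCommGroup V] [Module F V] [AddCommGroup W] [Module F W] (e : V ≃ₗ[F] W) :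
    Module.End F V →* Module.End F W where
  toFun f := e.toLinearMap ∘ₗ f ∘ₗ e.symm.toLinearMap
  map_one' := LinearMap.ext fun x => by simp
  map_mul' f g := LinearMap.ext fun x => by simp

theorem endConj_injective {V W : Type*} [AddCommGroup V] [Module F V] [AddCommGroup W] [Module F W] (e : V ≃ₗ[F] W) :
    Function.Injective (endConj e) := fun f g h => LinearMap.ext fun x => by
  simpa [endConj] using LinearMap.congr_fun h (e x)

/-- Endomorphisms of the first factor act on a product. -/
def endFst (V C : Type*) [AddCommGroup V] [Module F V] [AddCommGroup C] [Module F C] :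
    Module.End F V →* Module.End F (V × C) where
  toFun f := f.prodMap LinearMap.id
  map_one' := LinearMap.ext fun x => by simp
  map_mul' f g := LinearMap.ext fun x => by simp

theorem endFst_injective (V C : Type*) [AddCommGroup V] [Module F V] [AddCommGroup C] [Module F C] :
    Function.Injective (endFst (F := F) V C) := fun f g h => LinearMap.ext fun x => by
  simpa [endFst] using congrArg Prod.fst (LinearMap.congr_fun h (x, 0))

/-- The imprimitive representation of a wreath product. -/
def wreathRep {D Q V : Type*} [Group D] [Group Q] [AddCommGroup V] [Module F V] (ρ : D →* Module.End F V) :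
    D ≀ᵣ Q →* Module.End F (Q → V) where
  toFun w :=
    { toFun := fun f q => ρ (w.left q) (f (w.right⁻¹ * q))
      map_add' := fun f g => funext fun q => by simp
      map_smul' := fun c f => funext fun q => by simp }
  map_one' := LinearMap.ext fun f => funext fun q => by simp
  map_mul' a b := LinearMap.ext fun f => funext fun q => by simp [mul_assoc]

theorem wreathRep_injective {D Q V : Type*} [Group D] [Group Q] [AddCommGroup V] [Module F V] [Nontrivial V]
    {ρ : D →* Module.End F V} (hρ : Function.Injective ρ) : Function.Injective (wreathRep (Q := Q) ρ) := by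
  classical
  refine (injective_iff_map_eq_one _).2 fun w hw => ?_
  obtain ⟨v, hv⟩ := exists_ne (0 : V)
  have h : ∀ (f : Q → V) (q : Q), ρ (w.left q) (f (w.right⁻¹ * q)) = f q :=
    fun f q => congrFun (LinearMap.congr_fun hw f) q
  have hr : w.right = 1 := by
    by_contra hne
    have := h (Pi.single 1 v) 1
    rw [mul_one, Pi.single_eq_same, Pi.single_eq_of_ne (inv_ne_one.2 hne), map_zero] at this
    exact hv this.symm
  refine RegularWreathProduct.ext (funext fun q => hρ ?_) hr
  rw [RegularWreathProduct.one_left, Pi.one_apply, map_one]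
  refine LinearMap.ext fun x => ?_
  have := h (fun _ => x) q
  simpa using this

end

universe uF

variable {F : Type uF} [Field F] [Fintype F]

theorem fieldBound {p e q : ℕ} [Fact p.Prime] (hq : Fintype.card F = q) (he : e = orderOf (q : ZMod p)) :
    CfsgLib.LinDerived.FieldBound F p e ∧
      ∀ (V : Type uF) [AddCommGroup V] [Module F V] [FiniteDimensional F V] (R : Subalgebra F (Module.End F V)),
        (∀ r ∈ R, ∀ s ∈ R, r * s = s * r) → (∀ r ∈ R, r ≠ 0 → Function.Injective r) →
          (∃ z ∈ R, z ≠ 1 ∧ z ^ p = 1) → e ∣ Module.finrank F R := by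
  classical
  have key : ∀ (V : Type uF) [AddCommGroup V] [Module F V] [FiniteDimensional F V] (R : Subalgebra F (Module.End F V)),
        (∀ r ∈ R, ∀ s ∈ R, r * s = s * r) → (∀ r ∈ R, r ≠ 0 → Function.Injective r) →
          (∃ z ∈ R, z ≠ 1 ∧ z ^ p = 1) → e ∣ Module.finrank F R := by
    intro V _ _ _ R hcomm hinj ⟨z, hz, hz1, hzp⟩
    have hp : p.Prime := Fact.out
    haveI : Nontrivial V := by
      by_contra h
      rw [not_nontrivial_iff_subsingleton] at h
      exact hz1 (LinearMap.ext fun x => Subsingleton.elim _ _)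
    haveI : Finite R := Module.finite_of_finite F
    letI := Fintype.ofFinite R
    letI : CommRing R := { (inferInstance : Ring R) with mul_comm := fun r s => Subtype.ext (hcomm r r.2 s s.2) }
    haveI : NoZeroDivisors R := ⟨fun {r s} hrs => by
      by_contra h
      push Not at h
      refine h.2 (Subtype.ext (LinearMap.ext fun m => hinj r r.2 (fun h' => h.1 (Subtype.ext h')) ?_))
      simpa using LinearMap.congr_fun (congrArg Subtype.val hrs) m⟩
    haveI : IsDomain R := NoZeroDivisors.to_isDomain R
    letI : Field R := Fintype.fieldOfDomain R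
    have hz0 : (⟨z, hz⟩ : R) ≠ 0 := fun h => by
      have : z = 0 := congrArg Subtype.val h
      rw [this, zero_pow hp.ne_zero] at hzp
      exact zero_ne_one hzp
    have hord : orderOf (Units.mk0 (⟨z, hz⟩ : R) hz0) = p := by
      refine orderOf_eq_prime (Units.ext (Subtype.ext ?_)) fun h => hz1 ?_
      · rw [Units.val_pow_eq_pow_val, Units.val_mk0, SubmonoidClass.coe_pow]
        exact hzp
      · exact congrArg (fun u : Rˣ => ((u : R) : Module.End F V)) h
    have hdvd : p ∣ Fintype.card R - 1 := by
      rw [← Fintype.card_units, ← hord]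
      exact orderOf_dvd_card
    rw [Module.card_eq_pow_finrank (K := F) (V := R), hq] at hdvd
    have hpos : 1 ≤ q ^ Module.finrank F R := Nat.one_le_pow _ _ (hq ▸ Fintype.card_pos)
    have h2 := (ZMod.natCast_eq_natCast_iff _ _ p).2 ((Nat.modEq_iff_dvd' hpos).2 hdvd)
    push_cast at h2
    rw [he]
    exact orderOf_dvd_of_pow_eq_one h2.symm
  exact ⟨fun V _ _ _ _ R h1 h2 h3 => Nat.le_of_dvd Module.finrank_pos (key V R h1 h2 h3), key⟩

theorem semiBound {p e q : ℕ} [Fact p.Prime] (hq : Fintype.card F = q) (he : e = orderOf (q : ZMod p))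
    (hqp : (q : ZMod p) ≠ 0) : CfsgLib.LinDerived.SemiBound F p e p := by
  classical
  intro V _ _ _ _ R hcomm hinj z hz hz1 hzp s s' hss' hs's hsR ⟨k, hk⟩ _ a ha hsa
  have hp : p.Prime := Fact.out
  have hed : e ∣ Module.finrank F R := (fieldBound hq he).2 V R hcomm hinj ⟨z, hz, hz1, hzp⟩
  have hep : e.Coprime p := by
    refine Nat.Coprime.symm ((hp.coprime_iff_not_dvd).2 fun h => ?_)
    have h1 : e ∣ p - 1 := he ▸ ZMod.orderOf_dvd_card_sub_one hqp
    have h2 := Nat.le_of_dvd (by have := hp.two_le; omega) (h.trans h1)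
    have := hp.two_le
    omega
  haveI : Finite R := Module.finite_of_finite F
  letI := Fintype.ofFinite R
  letI : CommRing R := { (inferInstance : Ring R) with mul_comm := fun r s => Subtype.ext (hcomm r r.2 s s.2) }
  haveI : NoZeroDivisors R := ⟨fun {r s} hrs => by
    by_contra h
    push Not at h
    refine h.2 (Subtype.ext (LinearMap.ext fun m => hinj r r.2 (fun h' => h.1 (Subtype.ext h')) ?_))
    simpa using LinearMap.congr_fun (congrArg Subtype.val hrs) m⟩
  haveI : IsDomain R := NoZeroDivisors.to_isDomain R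
  letI : Field R := Fintype.fieldOfDomain R
  let c : R →ₐ[F] R :=
    { toFun := fun r => ⟨s * r * s', hsR r r.2⟩
      map_one' := Subtype.ext (show s * 1 * s' = 1 by rw [mul_one, hss'])
      map_mul' := fun x y => Subtype.ext (show s * ((x : Module.End F V) * y) * s' = (s * x * s') * (s * y * s') by
        simp only [mul_assoc]; rw [← mul_assoc s' s, hs's, one_mul])
      map_zero' := Subtype.ext (show s * 0 * s' = 0 by rw [mul_zero, zero_mul])
      map_add' := fun x y => Subtype.ext
        (show s * ((x : Module.End F V) + y) * s' = s * x * s' + s * y * s' by rw [mul_add, add_mul])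
      commutes' := fun t => Subtype.ext
        (show s * algebraMap F _ t * s' = algebraMap F _ t by rw [← Algebra.commutes, mul_assoc, hss', mul_one]) }
  have hc : Function.Bijective c := Finite.injective_iff_bijective.1 c.toRingHom.injective
  let σ : R ≃ₐ[F] R := AlgEquiv.ofBijective c hc
  have hiter : ∀ (m : ℕ) (r : R), ((σ ^ m) r : Module.End F V) = s ^ m * r * s' ^ m := by
    intro m
    induction m with
    | zero => intro r; simp
    | succ m ih =>
      intro r
      rw [pow_succ', AlgEquiv.mul_apply, pow_succ' s, pow_succ s']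
      show s * ((σ ^ m) r : Module.End F V) * s' = _
      rw [ih]
      simp only [mul_assoc]
  have hσk : σ ^ p ^ k = 1 := by
    have hs'k : s' ^ p ^ k = 1 := by
      have h := (show Commute s s' from hss'.trans hs's.symm).mul_pow (p ^ k)
      rw [hss', one_pow, hk, one_mul] at h
      exact h.symm
    refine AlgEquiv.ext fun r => Subtype.ext ?_
    rw [hiter, hk, hs'k, one_mul, mul_one]
    rfl
  have hσ1 : σ ≠ 1 := fun h => hsa <| by
    have h1 : s * a * s' = a := congrArg Subtype.val (AlgEquiv.congr_fun h ⟨a, ha⟩)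
    conv_rhs => rw [← h1, mul_assoc, hs's, mul_one]
  have hpd : p ∣ Module.finrank F R := by
    rw [← IsGalois.card_aut_eq_finrank F R]
    refine dvd_trans ?_ (orderOf_dvd_natCard σ)
    obtain ⟨j, -, hj⟩ := (Nat.dvd_prime_pow hp).1 (orderOf_dvd_of_pow_eq_one hσk)
    rcases j with _ | j
    · exact absurd (orderOf_eq_one_iff.1 (hj.trans (pow_zero p))) hσ1
    · exact hj ▸ dvd_pow_self p (Nat.succ_ne_zero j)
  exact Nat.le_of_dvd Module.finrank_pos (hep.symm.mul_dvd_of_dvd_of_dvd hpd hed)

theorem exists_rep {p e q : ℕ} [Fact p.Prime] (hq : Fintype.card F = q) (he : e = orderOf (q : ZMod p))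
    (he0 : 0 < e) : ∀ k, ∃ ρ : IteratedWreathProduct (Multiplicative (ZMod p)) (k + 1) →*
      Module.End F (Fin (e * p ^ k) → F), Function.Injective ρ
  | 0 => by
    classical
    have hp : p.Prime := Fact.out
    have hdvd : p ∣ Nat.card (GL (Fin e) F) := by
      rw [Matrix.card_GL_field]
      refine dvd_trans ?_ (Finset.dvd_prod_of_mem _ (Finset.mem_univ (⟨0, he0⟩ : Fin e)))
      rw [hq, pow_zero, ← ZMod.natCast_eq_zero_iff, Nat.cast_sub (Nat.one_le_pow _ _ (hq ▸ Fintype.card_pos)),
        Nat.cast_pow, Nat.cast_one, he, pow_orderOf_eq_one, sub_self]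
    obtain ⟨x, hx⟩ := exists_prime_orderOf_dvd_card' (G := GL (Fin e) F) p hdvd
    have hcz : Nat.card (Subgroup.zpowers x) = p := (Nat.card_zpowers x).trans hx
    have hcm : Nat.card (Multiplicative (ZMod p)) = p :=
      (Nat.card_congr Multiplicative.toAdd).trans (Nat.card_zmod p)
    let f : Multiplicative (ZMod p) →* GL (Fin e) F :=
      (Subgroup.zpowers x).subtype.comp (mulEquivOfPrimeCardEq hcm hcz).toMonoidHom
    have hr : Function.Injective (RegularWreathProduct.rightHom :
        PUnit ≀ᵣ Multiplicative (ZMod p) →* Multiplicative (ZMod p)) := fun u v h =>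
      RegularWreathProduct.ext (funext fun _ => Subsingleton.elim _ _) h
    have hem : e * p ^ 0 = e := by rw [pow_zero, mul_one]
    refine ⟨(endConj (LinearEquiv.funCongrLeft F F (finCongr hem))).comp
      (((Matrix.toLinAlgEquiv' : Matrix (Fin e) (Fin e) F ≃ₐ[F] _).toAlgHom.toMonoidHom).comp
        ((Units.coeHom (Matrix (Fin e) (Fin e) F)).comp (f.comp RegularWreathProduct.rightHom))), ?_⟩
    intro u v h
    refine hr ((mulEquivOfPrimeCardEq hcm hcz).injective (Subtype.ext ?_))
    exact Units.ext (Matrix.toLinAlgEquiv'.injective (endConj_injective _ h))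
  | k + 1 => by
    classical
    obtain ⟨ρ, hρ⟩ := exists_rep hq he he0 k
    have hpos : 0 < e * p ^ k := Nat.mul_pos he0 (pow_pos (Fact.out : p.Prime).pos k)
    haveI : Nontrivial (Fin (e * p ^ k) → F) := by
      haveI : Nonempty (Fin (e * p ^ k)) := ⟨⟨0, hpos⟩⟩
      infer_instance
    have hfr : Module.finrank F (Multiplicative (ZMod p) → (Fin (e * p ^ k) → F)) =
        Module.finrank F (Fin (e * p ^ (k + 1)) → F) := by
      rw [Module.finrank_pi_fintype, Finset.sum_const, Finset.card_univ, Module.finrank_fin_fun,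
        Module.finrank_fin_fun, smul_eq_mul, Fintype.card_multiplicative, ZMod.card, pow_succ]
      ring
    refine ⟨(endConj (LinearEquiv.ofFinrankEq _ _ hfr)).comp (wreathRep (Q := Multiplicative (ZMod p)) ρ), ?_⟩
    exact (endConj_injective _).comp (wreathRep_injective hρ)

/-- Let p be an odd prime, F a finite field with q elements where p does not divide q, and e the multiplicative order of q modulo p. Let n ≥ e and write w = ⌊n/e⌋ and k = ⌊log_p w⌋. Then a Sylow p-subgroup of GL(n, F) has derived length exactly k + 1: its (k+1)-st derived subgroup is trivial and its k-th is not. -/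
theorem result (p : ℕ) [Fact p.Prime] (hp : p ≠ 2) (F : Type*) [Field F] [Fintype F] (q : ℕ) (hq : Fintype.card F = q) (hpq : ¬ p ∣ q) (n : ℕ) (hn : orderOf (q : ZMod p) ≤ n) (P : Sylow p (Matrix.GeneralLinearGroup (Fin n) F)) : derivedSeries ↥(P : Subgroup (Matrix.GeneralLinearGroup (Fin n) F)) (Nat.log p (n / orderOf (q : ZMod p)) + 1) = ⊥ ∧ derivedSeries ↥(P : Subgroup (Matrix.GeneralLinearGroup (Fin n) F)) (Nat.log p (n / orderOf (q : ZMod p))) ≠ ⊥ := by
  classical
  have hprime : p.Prime := Fact.out
  have hqp : (q : ZMod p) ≠ 0 := fun h => hpq ((ZMod.natCast_eq_zero_iff _ _).1 h)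
  have he0 : 0 < orderOf (q : ZMod p) :=
    orderOf_pos_iff.2 (isOfFinOrder_iff_isUnit.2 (isUnit_iff_ne_zero.2 hqp))
  set e := orderOf (q : ZMod p) with he
  have hp0 : (p : F) ≠ 0 := by
    intro h
    obtain ⟨a, b, hab⟩ := Nat.Coprime.cast (R := ℤ) ((hprime.coprime_iff_not_dvd).2 hpq)
    have := congrArg (fun z : ℤ => (z : F)) hab
    push_cast at this
    rw [h, show (q : F) = 0 from hq ▸ FiniteField.cast_card_eq_zero F, mul_zero, mul_zero, add_zero] at this
    exact zero_ne_one this
  set k := Nat.log p (n / e) with hk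
  refine ⟨?_, ?_⟩
  · let θ : (P : Subgroup (GL (Fin n) F)) →* Module.End F (Fin n → F) :=
      ((Matrix.toLinAlgEquiv' : Matrix (Fin n) (Fin n) F ≃ₐ[F] _).toAlgHom.toMonoidHom).comp
        ((Units.coeHom (Matrix (Fin n) (Fin n) F)).comp (P : Subgroup (GL (Fin n) F)).subtype)
    have hθ : Function.Injective θ := fun a b hab => Subtype.ext (Units.ext (Matrix.toLinAlgEquiv'.injective hab))
    have h := CfsgLib.LinDerived.derivedSeries_eq_bot_base (b := p) hp0 he0 (fieldBound hq rfl).1 hprime.one_lt le_rfl
      (semiBound hq rfl hqp) P.2 θ hθ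
    rwa [Module.finrank_fin_fun] at h
  · obtain ⟨ρ, hρ⟩ := exists_rep (F := F) (p := p) hq rfl he0 k
    have hle : e * p ^ k ≤ n := by
      have h1 : p ^ k ≤ n / e := Nat.pow_log_le_self p (Nat.div_pos hn he0).ne'
      calc e * p ^ k ≤ e * (n / e) := Nat.mul_le_mul_left _ h1
        _ ≤ n := Nat.mul_div_le n e
    have hfr : Module.finrank F ((Fin (e * p ^ k) → F) × (Fin (n - e * p ^ k) → F)) =
        Module.finrank F (Fin n → F) := by
      rw [Module.finrank_prod, Module.finrank_fin_fun, Module.finrank_fin_fun, Module.finrank_fin_fun]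
      omega
    let φ : IteratedWreathProduct (Multiplicative (ZMod p)) (k + 1) →* Matrix (Fin n) (Fin n) F :=
      ((LinearMap.toMatrixAlgEquiv' : Module.End F (Fin n → F) ≃ₐ[F] _).toAlgHom.toMonoidHom).comp
        ((endConj (LinearEquiv.ofFinrankEq _ _ hfr)).comp ((endFst _ _).comp ρ))
    have hφ : Function.Injective φ := LinearMap.toMatrixAlgEquiv'.injective.comp
      ((endConj_injective _).comp ((endFst_injective _ _).comp hρ))
    have hcm : Nat.card (Multiplicative (ZMod p)) = p :=
      (Nat.card_congr Multiplicative.toAdd).trans (Nat.card_zmod p)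
    have hW : IsPGroup p (IteratedWreathProduct (Multiplicative (ZMod p)) (k + 1)) := IsPGroup.of_card
      (n := ∑ i ∈ Finset.range (k + 1), p ^ i) (by rw [IteratedWreathProduct.card, hcm])
    let ψ : IteratedWreathProduct (Multiplicative (ZMod p)) (k + 1) →* GL (Fin n) F := φ.toHomUnits
    have hψ : Function.Injective ψ := fun u v h => hφ (congrArg Units.val h)
    obtain ⟨P', hP'⟩ := (hW.of_surjective ψ.rangeRestrict ψ.rangeRestrict_surjective).exists_le_sylow
    let f : IteratedWreathProduct (Multiplicative (ZMod p)) (k + 1) →* (P : Subgroup (GL (Fin n) F)) :=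
      (P.equiv P').symm.toMonoidHom.comp ((inclusion hP').comp ψ.rangeRestrict)
    have hf : Function.Injective f := (P.equiv P').symm.injective.comp
      ((inclusion_injective hP').comp fun u v h => hψ (congrArg Subtype.val h))
    intro hbot
    haveI : Nontrivial (Multiplicative (ZMod p)) := Finite.one_lt_card_iff_nontrivial.1 (by rw [hcm]; exact hprime.one_lt)
    refine (Cfsg.Agent.S4014.derivedSeries_iterated (Multiplicative (ZMod p)) (fun a b => mul_comm a b) k).2 ?_
    rw [← map_eq_bot_iff_of_injective _ hf, eq_bot_iff, ← hbot]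
    exact map_derivedSeries_le_derivedSeries f k

end Cfsg.Agent.S4015
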