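import Cfsg.Statements.S4016
import Cfsg.Agent.Lib.PGroup.CyclicSylowSimple
import Cfsg.Agent.Lib.Invol.ThreePoint

set_option autoImplicit false
open Cfsg

namespace Cfsg.Agent.S4016

open Subgroup CfsgLib.PGroup.CSylow

universe u

variable {p : ℕ} [hp : Fact p.Prime]

private theorem normal_of_le_normalizer {G : Type u} [Group G] [Finite G] (P : Sylow p G)
    {T : Subgroup G} [hT : T.Normal] (hP : (P : Subgroup G) ≤ T)
    (hTN : T ≤ normalizer ((P : Subgroup G) : Set G)) : (P : Subgroup G).Normal := by
  refine ⟨fun a ha g => mem_sylow_of_mem_normalizer P ?_ (hTN (hT.conj_mem a (hP ha) g))⟩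
  have h := (P.2.to_le (zpowers_le.2 ha)).map (MulAut.conj g).toMonoidHom
  rwa [MonoidHom.map_zpowers] at h

private theorem hasNormalPComplement_lift {G : Type u} [Group G] [Finite G] (M : Subgroup G)
    [M.Normal] (hM : ¬ p ∣ Nat.card M) (h : Cfsg.HasNormalPComplement p (G ⧸ M)) :
    Cfsg.HasNormalPComplement p G := by
  rw [CfsgLib.Fusion.hasNormalPComplement_iff_coprime]
  intro g hg
  have hle : Cfsg.pResidual p G ≤ (Cfsg.pResidual p (G ⧸ M)).comap (QuotientGroup.mk' M) :=
    (closure_le _).2 fun x hx => CfsgLib.Fusion.mem_pResidual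
      (Nat.Coprime.coprime_dvd_left (orderOf_map_dvd (QuotientGroup.mk' M) x) hx)
  have h1 := CfsgLib.Fusion.hasNormalPComplement_iff_coprime.1 h _ (hle hg)
  have h2 : g ^ orderOf (QuotientGroup.mk' M g) ∈ M := (QuotientGroup.eq_one_iff _).1 (by
    change QuotientGroup.mk' M (g ^ _) = 1
    rw [map_pow, pow_orderOf_eq_one])
  refine Nat.Coprime.coprime_dvd_left (orderOf_dvd_of_pow_eq_one ?_)
    (h1.mul_left (hp.out.coprime_iff_not_dvd.2 hM).symm)
  rw [pow_mul]
  exact congrArg Subtype.val (pow_card_eq_one' (x := (⟨_, h2⟩ : M)))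

private theorem main (k : ℕ) : ∀ (G : Type u) [Group G] [Finite G] (P : Sylow p G), Nat.card G = k →
    IsCyclic (P : Subgroup G) → (∀ H : Subgroup G, ¬ p ∣ Nat.card H → IsMulCommutative H) →
    Cfsg.HasNormalPComplement p G ∨ (P : Subgroup G).Normal := by
  induction k using Nat.strong_induction_on with
  | _ k ih =>
    intro G _ _ P hk hcyc hab
    by_cases hp2 : p = 2
    · subst hp2
      exact Or.inl (CfsgLib.Invol.hasNormalPComplement_two_of_isCyclic P hcyc)
    by_cases hpG : p ∣ Nat.card G
    swap
    · exact Or.inl (CfsgLib.Fusion.hasNormalPComplement_of_not_dvd hpG)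
    by_cases hex : ∃ P' : Sylow p G,
        normalizer ((P' : Subgroup G) : Set G) ≤ centralizer ((P' : Subgroup G) : Set G)
    · obtain ⟨P', hP'⟩ := hex
      exact Or.inl (CfsgLib.Fusion.hasNormalPComplement_of_normalizer_le_centralizer P' hP')
    push Not at hex
    have hcycs : ∀ P' : Sylow p G, IsCyclic (P' : Subgroup G) := fun P' => isCyclic_sylow P P' hcyc
    obtain ⟨h₀, hh₀N, hh₀c, hh₀C⟩ := exists_not_mem_centralizer P hcyc (hex P)
    have IH : ∀ L : Subgroup G, L ≠ ⊤ → ∀ S : Sylow p L,
        Cfsg.HasNormalPComplement p L ∨ (S : Subgroup L).Normal := fun L hL S => by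
      refine ih _ ?_ L S rfl (isCyclic_sylow_subgroup P hcyc S) (subgroup_hyp hab L)
      rw [← hk]
      exact lt_of_le_of_ne (Nat.le_of_dvd Nat.card_pos L.card_subgroup_dvd_card)
        (fun e => hL (eq_top_of_card_eq L e))
    -- a normal `p'`-subgroup
    have caseA : ∀ M : Subgroup G, M.Normal → M ≠ ⊥ → ¬ p ∣ Nat.card M →
        Cfsg.HasNormalPComplement p G ∨ (P : Subgroup G).Normal := by
      intro M hMn hM1 hMp
      haveI := hMn
      have hlt : Nat.card (G ⧸ M) < k := by
        rw [← hk, M.card_eq_card_quotient_mul_card_subgroup]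
        exact lt_mul_of_one_lt_right Nat.card_pos ((one_lt_card_iff_ne_bot M).2 hM1)
      let Pb := P.mapSurjective (QuotientGroup.mk'_surjective M)
      have hPb : (Pb : Subgroup (G ⧸ M)) = (P : Subgroup G).map (QuotientGroup.mk' M) := rfl
      have hPbc : IsCyclic (Pb : Subgroup (G ⧸ M)) := by
        rw [hPb]
        haveI := hcyc
        exact isCyclic_of_surjective ((QuotientGroup.mk' M).subgroupMap (P : Subgroup G))
          (MonoidHom.subgroupMap_surjective _ _)
      rcases ih _ hlt (G ⧸ M) Pb rfl hPbc (quotient_hyp hab hMp) with h | h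
      · exact Or.inl (hasNormalPComplement_lift M hMp h)
      · right
        haveI : ((P : Subgroup G).map (QuotientGroup.mk' M)).Normal := hPb ▸ h
        set T := ((P : Subgroup G).map (QuotientGroup.mk' M)).comap (QuotientGroup.mk' M) with hT
        haveI : T.Normal := inferInstance
        refine normal_of_le_normalizer P (T := T) (le_comap_map _ _) ?_
        rw [hT, comap_map_eq, QuotientGroup.ker_mk']
        refine sup_le le_normalizer ?_
        -- `M` centralizes `P`
        let φ : G →* MulAut M := MulAut.conjNormal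
        have hh₀ : φ h₀ = 1 := by
          refine MulEquiv.ext fun m => Subtype.ext ?_
          change h₀ * m * h₀⁻¹ = (m : G)
          rw [commute_of_normalizes hab hMp hh₀c (le_top.trans (normalizer_eq_top M).ge (mem_top h₀)) m.2,
            mul_inv_cancel_right]
        obtain ⟨x, n, r, hxP, hn, hgen, hr⟩ := exists_power P hcyc hh₀N
        have hr1 : ¬ (p : ℤ) ∣ r - 1 := fun hd =>
          hh₀C (mem_centralizer_of_residue P hcyc hh₀c hn hgen hr hd)
        have h1 : φ x ^ (r - 1) = 1 := by
          have e := congrArg φ hr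
          rw [map_mul, map_mul, map_inv, map_zpow, hh₀, one_mul, inv_one, mul_one] at e
          rw [zpow_sub, zpow_one, ← e, mul_inv_cancel]
        have h2 : φ x = 1 := by
          obtain ⟨a, b, hab'⟩ := ((Nat.prime_iff_prime_int.1 hp.out).coprime_iff_not_dvd.2 hr1).pow_left (m := n)
          have h3 : φ x ^ (p ^ n) = 1 := by rw [← map_pow, ← hn, pow_orderOf_eq_one, map_one]
          have h4 : φ x ^ (a * (p : ℤ) ^ n + b * (r - 1)) = φ x := by rw [hab', zpow_one]
          rw [zpow_add, mul_comm a, zpow_mul, ← Nat.cast_pow, zpow_natCast, h3, _root_.one_zpow, one_mul,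
            mul_comm b, zpow_mul, h1, _root_.one_zpow] at h4
          exact h4.symm
        refine le_trans (fun m hm => mem_centralizer_iff.2 fun a ha => ?_) (centralizer_le_normalizer _)
        obtain ⟨j, rfl⟩ := hgen a ha
        have hx : Commute x m := by
          have := congrArg (fun f : MulAut M => ((f ⟨m, hm⟩ : M) : G)) h2
          simp only [φ, MulAut.conjNormal_apply, MulAut.one_apply] at this
          exact mul_inv_eq_iff_eq_mul.1 this
        exact (hx.zpow_left j).eq
    -- a normal subgroup whose order is divisible by `p`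
    have caseB : ∀ C : Subgroup G, C.Normal → C ≠ ⊤ → p ∣ Nat.card C →
        (Cfsg.HasNormalPComplement p G ∨ (P : Subgroup G).Normal) ∨
          ∃ R : Subgroup G, R.Normal ∧ R ≠ ⊥ ∧ IsPGroup p R ∧ (R = C ∨ ((P : Subgroup G) ≤ C → (P : Subgroup G) = R)) := by
      intro C hCn hC hpC
      haveI := hCn
      obtain ⟨S⟩ : Nonempty (Sylow p C) := inferInstance
      rcases IH C hC S with hN | hS
      · by_cases hK : coprimePart C hN = ⊥
        · refine Or.inr ⟨C, hCn, fun e => ?_, ?_, Or.inl rfl⟩
          · rw [e, card_bot] at hpC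
            exact hp.out.not_dvd_one hpC
          · rw [IsPGroup.iff_orderOf]
            rintro ⟨c, hc⟩
            rw [orderOf_mk]
            obtain ⟨a, m, hm, hcm⟩ :=
              Nat.exists_eq_pow_mul_and_not_dvd (orderOf_pos c).ne' p hp.out.ne_one
            refine ⟨a, ?_⟩
            have hco : (orderOf (c ^ p ^ a)).Coprime p := Nat.Coprime.coprime_dvd_left
              (orderOf_dvd_of_pow_eq_one (by rw [← pow_mul, ← hcm, pow_orderOf_eq_one]))
              ((hp.out.coprime_iff_not_dvd.2 hm).symm)
            have hmem : c ^ p ^ a ∈ coprimePart C hN := mem_coprimePart.2 ⟨pow_mem hc _, hco⟩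
            rw [hK, mem_bot] at hmem
            exact Nat.dvd_antisymm (orderOf_dvd_of_pow_eq_one hmem) (hcm ▸ dvd_mul_right _ _)
        · refine Or.inl (caseA _ (normalizer_eq_top_iff.1 (top_le_iff.1 ?_)) hK (not_dvd_card_coprimePart C hN))
          exact (normalizer_eq_top C).ge.trans (normalizer_le_normalizer_coprimePart C hN)
      · haveI := hS
        haveI := Sylow.characteristic_of_normal S hS
        refine Or.inr ⟨(S : Subgroup C).map C.subtype, inferInstance, fun e => ?_, S.2.map _, Or.inr fun hPC => ?_⟩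
        · rw [map_eq_bot_iff_of_injective _ C.subtype_injective] at e
          have := S.dvd_card_of_dvd_card hpC
          rw [e, card_bot] at this
          exact hp.out.not_dvd_one this
        · refine le_antisymm ?_ ?_
          · have h1 : (P.subtype hPC : Subgroup C) ≤ S :=
              le_sylow_of_le_normalizer S (P.subtype hPC).2
                (le_top.trans (normalizer_eq_top (S : Subgroup C)).ge)
            intro a ha
            exact ⟨⟨a, hPC ha⟩, h1 (mem_subgroupOf.2 ha), rfl⟩
          · haveI : ((S : Subgroup C).map C.subtype).Normal := inferInstance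
            exact le_sup_right.trans (P.3 (P.2.to_sup_of_normal_right (S.2.map _)) le_sup_left).le
    by_cases hM : ∃ M : Subgroup G, M.Normal ∧ M ≠ ⊥ ∧ M ≠ ⊤
    · obtain ⟨M, hMn, hM1, hM2⟩ := hM
      by_cases hpM : p ∣ Nat.card M
      swap
      · exact caseA M hMn hM1 hpM
      obtain h | ⟨R, hRn, hR1, hRp, -⟩ := caseB M hMn hM2 hpM
      · exact h
      haveI := hRn
      have hRP : R ≤ (P : Subgroup G) :=
        le_sup_right.trans (P.3 (P.2.to_sup_of_normal_right hRp) le_sup_left).le
      set C := centralizer (R : Set G) with hC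
      haveI hCn : C.Normal := normal_centralizer
      have hPC : (P : Subgroup G) ≤ C := fun a ha =>
        mem_centralizer_iff.2 fun b hb => commute_of_mem P hcyc (hRP hb) ha
      have hCtop : C ≠ ⊤ := by
        intro e
        obtain ⟨a, ha, ha1⟩ := (bot_or_exists_ne_one R).resolve_left hR1
        exact hh₀C (mem_centralizer_of_commute P hcyc hh₀N hh₀c (hRP ha) ha1
          (mem_centralizer_iff.1 (e.ge (mem_top h₀) : h₀ ∈ C) a ha).symm)
      have hpC : p ∣ Nat.card C := (P.dvd_card_of_dvd_card hpG).trans (card_dvd_of_le hPC)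
      obtain h | ⟨R', hR'n, -, hR'p, hR'⟩ := caseB C hCn hCtop hpC
      · exact h
      rcases hR' with rfl | hR'
      · exact Or.inr (P.3 hR'p hPC ▸ hR'n)
      · exact Or.inr (hR' hPC ▸ hR'n)
    push Not at hM
    refine (Minimal.false (G := G) (p := p) ⟨hp2, hpG, hcycs, hab,
      fun M hMn => or_iff_not_imp_left.2 (hM M hMn), hex, fun P' L hL hle => ?_⟩).elim
    refine le_antisymm ?_ hle
    have hPL : (P' : Subgroup G) ≤ L := le_normalizer.trans hle
    rcases IH L hL (P'.subtype hPL) with h | h
    · exfalso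
      obtain ⟨g, hgN, hgc, hgC⟩ := exists_not_mem_centralizer P' (hcycs P') (hex P')
      refine hgC (mem_centralizer_of_coprime_commutators P' (hcycs P') hgN hgc
        (not_dvd_card_coprimePart L h) fun a ha => ?_)
      rw [mul_assoc g, mul_assoc g]
      refine mul_mem (mem_coprimePart.2 ⟨hle hgN, hgc⟩) ?_
      exact (mem_normalizer_iff.1 (normalizer_le_normalizer_coprimePart L h
        (le_normalizer (hPL ha))) _).1 (inv_mem (mem_coprimePart.2 ⟨hle hgN, hgc⟩))
    · exact (normal_subgroupOf_iff_le_normalizer hPL).1 h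

/-- If a Sylow `p`-subgroup is cyclic and all `p'`-subgroups are abelian, there is a normal
`p`-complement or the Sylow subgroup is normal. -/
theorem result {G : Type*} [Group G] [Finite G] {p : ℕ}
    [Fact p.Prime] (P : Sylow p G) (hcyc : IsCyclic P)
    (hab : ∀ H : Subgroup G, ¬ p ∣ Nat.card H → IsMulCommutative H) :
    Cfsg.HasNormalPComplement p G ∨ (P : Subgroup G).Normal :=
  main _ G P rfl hcyc hab

end Cfsg.Agent.S4016
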