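import Cfsg.Agent.Lib.Coprime.SchurZassenhaus
import Cfsg.Agent.Lib.Coprime.Fitting
-- under Cfsg/Agent/.
import Cfsg.Statements.S4022
-- import your own Cfsg.Agent.* helpers here

set_option autoImplicit false
universe u
open Cfsg

namespace Cfsg.Agent.S4022

open Subgroup CfsgLib.Coprime

private theorem exists_normal_pGroup {G : Type u} [Group G] [Finite G] [Group.IsSolvable G]
    [Nontrivial G] : ∃ (p : ℕ) (N : Subgroup G), p.Prime ∧ N.Normal ∧ N ≠ ⊥ ∧ IsPGroup p N := by
  obtain ⟨M, hMn, hM, -, hmin⟩ := exists_minimal_normal_le (N := (⊤ : Subgroup G)) top_ne_bot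
  haveI := hMn
  have hlt : ⁅M, M⁆ ≠ M := fun h => by
    haveI : Nontrivial M := (nontrivial_iff_ne_bot M).2 hM
    refine (Group.IsSolvable.commutator_lt_top_of_nontrivial M).ne (Subgroup.map_injective M.subtype_injective ?_)
    rw [_root_.commutator_def, map_commutator, ← MonoidHom.range_eq_map, range_subtype, h]
  have hab : ⁅M, M⁆ = ⊥ := (hmin _ inferInstance (commutator_le_self M)).resolve_right hlt
  haveI : IsMulCommutative M := le_centralizer_iff_isMulCommutative.1
    (commutator_eq_bot_iff_le_centralizer.1 hab)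
  obtain ⟨p, hp, hpd⟩ := Nat.exists_prime_and_dvd
    (fun h => hM (card_eq_one.1 h) : Nat.card M ≠ 1)
  haveI := Fact.mk hp
  let S : Sylow p M := default
  haveI : (S : Subgroup M).Normal := ⟨fun a ha g => by rwa [mul_comm' g a, mul_inv_cancel_right]⟩
  haveI : (S : Subgroup M).Characteristic := S.characteristic_of_normal inferInstance
  refine ⟨p, (S : Subgroup M).map M.subtype, hp, ConjAct.normal_of_characteristic_of_normal, ?_, S.2.map _⟩
  rw [Ne, map_eq_bot_iff_of_injective _ M.subtype_injective]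
  exact S.ne_bot_of_dvd_card hpd

private theorem card_inf_mul_card_map {G : Type u} [Group G] [Finite G] (N : Subgroup G) [N.Normal]
    (L : Subgroup G) :
    Nat.card ↥(L ⊓ N) * Nat.card (L.map (QuotientGroup.mk' N)) = Nat.card L := by
  set π := QuotientGroup.mk' N
  have h1 := (π.comp L.subtype).ker.card_mul_index
  rw [index_ker, MonoidHom.range_comp, range_subtype] at h1
  rw [← h1]
  congr 1
  exact Nat.card_congr ⟨fun x => ⟨⟨x.1, x.2.1⟩, (QuotientGroup.eq_one_iff _).2 x.2.2⟩,
    fun x => ⟨x.1.1, x.1.2, (QuotientGroup.eq_one_iff _).1 x.2⟩, fun _ => rfl, fun _ => rfl⟩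

private theorem eq_of_card_eq_of_cyclic {G : Type u} [Group G] [Finite G] {P A B : Subgroup G}
    (hP : IsCyclic P) (hA : A ≤ P) (hB : B ≤ P) (h : Nat.card A = Nat.card B) : A = B := by
  classical
  haveI := hP
  haveI := Fintype.ofFinite P
  have key : ∀ C : Subgroup G, C ≤ P → Nat.card C = Nat.card A →
      (C.subgroupOf P : Set P).toFinset = Finset.univ.filter (fun a : P => a ^ Nat.card A = 1) := by
    intro C hC hc
    refine Finset.eq_of_subset_of_card_le (fun x hx => ?_) ?_
    · rw [Set.mem_toFinset] at hx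
      rw [Finset.mem_filter]
      have h2 := Subgroup.orderOf_dvd_natCard (C.subgroupOf P) hx
      rw [Nat.card_congr (subgroupOfEquivOfLe hC).toEquiv, hc] at h2
      exact ⟨Finset.mem_univ _, orderOf_dvd_iff_pow_eq_one.1 h2⟩
    · refine (IsCyclic.card_pow_eq_one_le (α := P) Nat.card_pos).trans ?_
      rw [Set.toFinset_card, ← Nat.card_eq_fintype_card]
      exact (hc.symm.trans (Nat.card_congr (subgroupOfEquivOfLe hC).toEquiv).symm).le
  have h1 : A.subgroupOf P = B.subgroupOf P :=
    SetLike.coe_injective (Set.toFinset_inj.1 ((key A hA rfl).trans (key B hB h.symm).symm))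
  calc A = (A.subgroupOf P).map P.subtype := (map_subgroupOf_eq_of_le hA).symm
    _ = B := by rw [h1, map_subgroupOf_eq_of_le hB]

/-- When the Sylow subgroups for `p` are cyclic, a nontrivial normal `p`-subgroup yields a normal
subgroup of order `p` lying in every subgroup of order divisible by `p`. -/
private theorem exists_cyclic_core {G : Type u} [Group G] [Finite G] {p : ℕ} [Fact p.Prime]
    (hcyc : ∀ P : Sylow p G, IsCyclic P) (N : Subgroup G) [N.Normal] (hN : N ≠ ⊥) (hNp : IsPGroup p N) :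
    ∃ Z : Subgroup G, Z.Normal ∧ Z ≠ ⊥ ∧ ∀ L : Subgroup G, p ∣ Nat.card L → Z ≤ L := by
  have hp : p.Prime := Fact.out
  obtain ⟨x, hx⟩ := exists_prime_orderOf_dvd_card' (G := N) p (by
    obtain ⟨j, hj⟩ := hNp.exists_card_eq
    rcases j with _ | j
    · exact absurd (card_eq_one.1 (by simpa using hj)) hN
    · exact hj ▸ dvd_pow_self p (Nat.succ_ne_zero j))
  set Z := zpowers (x : G) with hZ
  have hxo : orderOf (x : G) = p := by rw [Subgroup.orderOf_coe, hx]
  have hZc : Nat.card Z = p := by rw [hZ, Nat.card_zpowers, hxo]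
  have huniq : ∀ L : Subgroup G, Nat.card L = p → L = Z := by
    intro L hL
    obtain ⟨P, hP⟩ := (IsPGroup.of_card (n := 1) (by rw [hL, pow_one]) : IsPGroup p L).exists_le_sylow
    have hNP : N ≤ P := by
      have := P.is_maximal' (P.2.to_sup_of_normal_right hNp) le_sup_left
      exact le_of_le_of_eq le_sup_right this
    exact eq_of_card_eq_of_cyclic (hcyc P) hP (zpowers_le.2 (hNP x.2)) (hL.trans hZc.symm)
  have hZn : Z.Normal := ⟨fun z hz g => by
    rw [← huniq (conjBy g Z) (by rw [card_conjBy, hZc])]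
    exact conj_mem_conjBy hz⟩
  refine ⟨Z, hZn, fun h => hp.one_lt.ne' (by rw [← hZc, h, card_bot]), fun L hL => ?_⟩
  obtain ⟨y, hy⟩ := exists_prime_orderOf_dvd_card' (G := L) p hL
  rw [← huniq (zpowers (y : G)) (by rw [Nat.card_zpowers, Subgroup.orderOf_coe, hy])]
  exact zpowers_le.2 y.2

/-- Conjugacy of two subgroups of the same order from their images modulo a normal subgroup
contained in both, or of order prime to theirs. -/
private theorem lift_conj {G : Type u} [Group G] [Finite G] [Group.IsSolvable G] (N H K : Subgroup G)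
    [N.Normal] (hc : Nat.card H = Nat.card K)
    (hN : (N ≤ H ∧ N ≤ K) ∨ (Nat.card N).Coprime (Nat.card H))
    (hq : ∀ H' K' : Subgroup (G ⧸ N), H' = H.map (QuotientGroup.mk' N) →
      K' = K.map (QuotientGroup.mk' N) → Nat.card H' = Nat.card K' → ∃ g, conjBy g H' = K') :
    ∃ g, conjBy g H = K := by
  set π := QuotientGroup.mk' N with hπ
  have hcard : ∀ L : Subgroup G, Nat.card ↥(L ⊓ N) * Nat.card (L.map π) = Nat.card L :=
    card_inf_mul_card_map N
  have hinf : Nat.card ↥(H ⊓ N) = Nat.card ↥(K ⊓ N) := by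
    rcases hN with ⟨h1, h2⟩ | h
    · rw [inf_eq_right.2 h1, inf_eq_right.2 h2]
    · rw [inf_eq_bot_of_coprime h.symm, inf_eq_bot_of_coprime (hc ▸ h.symm)]
  have hc' : Nat.card (H.map π) = Nat.card (K.map π) := by
    have e1 := hcard H
    have e2 := hcard K
    rw [hinf, hc] at e1
    exact Nat.eq_of_mul_eq_mul_left Nat.card_pos (e1.trans e2.symm)
  obtain ⟨q, hq'⟩ := hq _ _ rfl rfl hc'
  obtain ⟨g, rfl⟩ := QuotientGroup.mk'_surjective N q
  rw [hπ, ← conjBy_map] at hq'
  have hle : conjBy g H ≤ K ⊔ N := by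
    intro x hx
    have : π x ∈ K.map π := hq' ▸ mem_map_of_mem _ hx
    have h2 : x ∈ (K.map π).comap π := this
    rwa [comap_map_eq, hπ, QuotientGroup.ker_mk'] at h2
  rcases hN with ⟨-, h2⟩ | h
  · rw [sup_eq_left.2 h2] at hle
    exact ⟨g, eq_of_le_of_card_ge hle (by rw [card_conjBy, hc])⟩
  · obtain ⟨x, -, hx⟩ := sz_conj_in (A := K) (B := conjBy g H) (N := N)
      (le_of_le_of_eq le_top (normalizer_eq_top_iff.2 inferInstance).symm) (hc ▸ h) hle
      (by rw [card_conjBy, hc]) (Or.inr inferInstance)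
    exact ⟨x * g, by rw [← conjBy_conjBy]; exact hx⟩

/-- Subgroups of equal order prime to `r` are conjugate when all other Sylow subgroups are cyclic. -/
private theorem conj_of_not_dvd (r : ℕ) : ∀ (n : ℕ) (G : Type u) [Group G] [Finite G],
    Nat.card G = n → Group.IsSolvable G → (∀ p : ℕ, p.Prime → p ≠ r → ∀ P : Sylow p G, IsCyclic P) →
    ∀ H K : Subgroup G, Nat.card H = Nat.card K → (∀ p : ℕ, p.Prime → p ∣ Nat.card H → p ≠ r) →
      ∃ g, conjBy g H = K := by
  intro n
  induction n using Nat.strong_induction_on with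
  | _ n ih =>
  intro G _ _ hn hsol hcyc H K hc hH
  haveI := hsol
  rcases subsingleton_or_nontrivial G with hs | hs
  · exact ⟨1, Subsingleton.elim _ _⟩
  obtain ⟨p, N, hp, hNn, hN, hNp⟩ := exists_normal_pGroup (G := G)
  haveI := Fact.mk hp
  haveI := hNn
  -- the quotient by a nontrivial normal subgroup
  have hquot : ∀ (M : Subgroup G) [M.Normal], M ≠ ⊥ → ∀ H' K' : Subgroup (G ⧸ M),
      H' = H.map (QuotientGroup.mk' M) → K' = K.map (QuotientGroup.mk' M) →
      Nat.card H' = Nat.card K' → ∃ g, conjBy g H' = K' := by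
    intro M _ hM H' K' e1 e2 hc'
    refine ih (Nat.card (G ⧸ M)) ?_ (G ⧸ M) rfl inferInstance ?_ H' K' hc' ?_
    · rw [← hn, ← M.card_mul_index, index_eq_card]
      exact lt_mul_of_one_lt_left Nat.card_pos ((one_lt_card_iff_ne_bot M).2 hM)
    · intro q hq hqr Q
      haveI := Fact.mk hq
      obtain ⟨P, rfl⟩ := Sylow.mapSurjective_surjective (QuotientGroup.mk'_surjective M) q Q
      haveI := hcyc q hq hqr P
      exact isCyclic_of_surjective _ ((QuotientGroup.mk' M).subgroupMap_surjective P)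
    · intro q hq hd
      exact hH q hq (hd.trans (by rw [e1]; exact card_map_dvd H _))
  by_cases hpH : p ∣ Nat.card H
  swap
  · refine lift_conj N H K hc (Or.inr ?_) (hquot N hN)
    obtain ⟨j, hj⟩ := hNp.exists_card_eq
    rw [hj]
    exact ((Nat.Prime.coprime_iff_not_dvd hp).2 hpH).pow_left j
  obtain ⟨Z, hZn, hZ1, hZle⟩ := exists_cyclic_core (hcyc p hp (hH p hp hpH)) N hN hNp
  haveI := hZn
  exact lift_conj Z H K hc (Or.inl ⟨hZle H hpH, hZle K (hc ▸ hpH)⟩) (hquot Z hZ1)

private theorem conj_of_dr (r : ℕ) : ∀ (n : ℕ) (G : Type u) [Group G] [Finite G],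
    Nat.card G = n → Group.IsSolvable G → (∀ p : ℕ, p.Prime → p ≠ r → ∀ P : Sylow p G, IsCyclic P) →
    (∀ p : ℕ, p.Prime → ∀ H K : Subgroup G, IsPGroup p H → IsPGroup p K → Nat.card H = Nat.card K →
      ∃ g, conjBy g H = K) →
    ∀ H K : Subgroup G, Nat.card H = Nat.card K → ∃ g, conjBy g H = K := by
  intro n
  induction n using Nat.strong_induction_on with
  | _ n ih =>
  intro G _ _ hn hsol hcyc hD H K hc
  haveI := hsol
  rcases subsingleton_or_nontrivial G with hs | hs
  · exact ⟨1, Subsingleton.elim _ _⟩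
  obtain ⟨p, N, hp, hNn, hN, hNp⟩ := exists_normal_pGroup (G := G)
  haveI := Fact.mk hp
  haveI := hNn
  have hquot : ∀ (M : Subgroup G) [M.Normal], M ≠ ⊥ → ∀ H' K' : Subgroup (G ⧸ M),
      H' = H.map (QuotientGroup.mk' M) → K' = K.map (QuotientGroup.mk' M) →
      Nat.card H' = Nat.card K' → ∃ g, conjBy g H' = K' := by
    intro M _ hM H' K' _ _ hc'
    refine ih (Nat.card (G ⧸ M)) ?_ (G ⧸ M) rfl inferInstance ?_ ?_ H' K' hc'
    · rw [← hn, ← M.card_mul_index, index_eq_card]
      exact lt_mul_of_one_lt_left Nat.card_pos ((one_lt_card_iff_ne_bot M).2 hM)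
    · intro q hq hqr Q
      haveI := Fact.mk hq
      obtain ⟨P, rfl⟩ := Sylow.mapSurjective_surjective (QuotientGroup.mk'_surjective M) q Q
      haveI := hcyc q hq hqr P
      exact isCyclic_of_surjective _ ((QuotientGroup.mk' M).subgroupMap_surjective P)
    · intro q hq A B hA hB hAB
      haveI := Fact.mk hq
      -- lift to q-subgroups of equal order
      have lift : ∀ A : Subgroup (G ⧸ M), IsPGroup q A → ∃ P : Sylow q G,
          ((P : Subgroup G) ⊓ A.comap (QuotientGroup.mk' M)).map (QuotientGroup.mk' M) = A := by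
        intro A hA
        obtain ⟨Q, hQ⟩ := hA.exists_le_sylow
        obtain ⟨P, rfl⟩ := Sylow.mapSurjective_surjective (QuotientGroup.mk'_surjective M) q Q
        refine ⟨P, le_antisymm ?_ ?_⟩
        · rintro _ ⟨x, hx, rfl⟩; exact hx.2
        · intro a ha
          obtain ⟨x, hx, rfl⟩ := hQ ha
          exact ⟨x, ⟨hx, ha⟩, rfl⟩
      obtain ⟨P1, h1⟩ := lift A hA
      obtain ⟨P2, h2⟩ := lift B hB
      have hMc : ∀ C : Subgroup (G ⧸ M), M ≤ C.comap (QuotientGroup.mk' M) := fun C x hx => by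
        show (QuotientGroup.mk' M) x ∈ C
        rw [show (QuotientGroup.mk' M) x = 1 from (QuotientGroup.eq_one_iff x).2 hx]
        exact one_mem C
      have hPM : Nat.card ↥((P1 : Subgroup G) ⊓ M) = Nat.card ↥((P2 : Subgroup G) ⊓ M) := by
        obtain ⟨c, hcc⟩ := MulAction.exists_smul_eq G P1 P2
        have e : conjBy c ((P1 : Subgroup G) ⊓ M) = (P2 : Subgroup G) ⊓ M := by
          rw [← hcc]
          show Subgroup.map _ _ = _
          rw [Subgroup.map_inf _ _ _ (MulEquiv.injective _)]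
          congr 1
          exact conjBy_eq_self_iff.2 (le_of_le_of_eq le_top (normalizer_eq_top_iff.2 inferInstance).symm (mem_top c))
        rw [← e, card_conjBy]
      have hcardP : Nat.card ↥((P1 : Subgroup G) ⊓ A.comap (QuotientGroup.mk' M)) =
          Nat.card ↥((P2 : Subgroup G) ⊓ B.comap (QuotientGroup.mk' M)) := by
        rw [← card_inf_mul_card_map M ((P1 : Subgroup G) ⊓ A.comap (QuotientGroup.mk' M)),
          ← card_inf_mul_card_map M ((P2 : Subgroup G) ⊓ B.comap (QuotientGroup.mk' M)), h1, h2,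
          inf_assoc, inf_assoc, inf_eq_right.2 (hMc A), inf_eq_right.2 (hMc B), hPM, hAB]
      obtain ⟨g, hg⟩ := hD q hq _ _ (P1.2.to_le inf_le_left) (P2.2.to_le inf_le_left) hcardP
      exact ⟨QuotientGroup.mk' M g, by rw [← h1, ← conjBy_map, hg, h2]⟩
  rcases Decidable.em (p ∣ Nat.card H) with hpH | hpH
  swap
  · refine lift_conj N H K hc (Or.inr ?_) (hquot N hN)
    obtain ⟨j, hj⟩ := hNp.exists_card_eq
    rw [hj]
    exact ((Nat.Prime.coprime_iff_not_dvd hp).2 hpH).pow_left j
  by_cases hpr : p = r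
  swap
  · obtain ⟨Z, hZn, hZ1, hZle⟩ := exists_cyclic_core (hcyc p hp hpr) N hN hNp
    haveI := hZn
    exact lift_conj Z H K hc (Or.inl ⟨hZle H hpH, hZle K (hc ▸ hpH)⟩) (hquot Z hZ1)
  subst hpr
  have hconjN : ∀ g, conjBy g N = N := fun g => conjBy_eq_self_iff.2
    (le_of_le_of_eq le_top (normalizer_eq_top_iff.2 hNn).symm (mem_top g))
  obtain ⟨b, hb⟩ := hNp.exists_card_eq
  by_cases hbig : p ^ b ∣ Nat.card H
  · have hNle : ∀ L : Subgroup G, p ^ b ∣ Nat.card L → N ≤ L := by
      intro L hL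
      obtain ⟨A, hA⟩ := Sylow.exists_subgroup_card_pow_prime (G := L) p hL
      have hA' : Nat.card (A.map L.subtype) = p ^ b := by rw [card_map_of_injective L.subtype_injective, hA]
      obtain ⟨g, hg⟩ := hD p hp N (A.map L.subtype) hNp (IsPGroup.of_card hA') (by rw [hA', hb])
      rw [hconjN] at hg
      exact le_of_eq_of_le hg (map_subtype_le A)
    exact lift_conj N H K hc (Or.inl ⟨hNle H hbig, hNle K (hc ▸ hbig)⟩) (hquot N hN)
  set a := (Nat.card H).factorization p with ha
  have hab : a ≤ b := by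
    by_contra hlt
    exact hbig ((pow_dvd_pow p (by omega : b ≤ a)).trans (Nat.ordProj_dvd _ p))
  -- the Sylow subgroups of `H` and `K` lie in `N`
  have hsyl : ∀ L : Subgroup G, Nat.card L = Nat.card H → Nat.card ↥(L ⊓ N) = p ^ a := by
    intro L hL
    obtain ⟨A, hA⟩ := Sylow.exists_subgroup_card_pow_prime (G := L) p
      (show p ^ a ∣ Nat.card L by rw [hL]; exact Nat.ordProj_dvd _ p)
    obtain ⟨N0, hN0⟩ := Sylow.exists_subgroup_card_pow_prime (G := N) p
      (show p ^ a ∣ Nat.card N by rw [hb]; exact pow_dvd_pow p hab)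
    have hA' : Nat.card (A.map L.subtype) = p ^ a := by rw [card_map_of_injective L.subtype_injective, hA]
    have hN0' : Nat.card (N0.map N.subtype) = p ^ a := by rw [card_map_of_injective N.subtype_injective, hN0]
    obtain ⟨g, hg⟩ := hD p hp (N0.map N.subtype) (A.map L.subtype) (IsPGroup.of_card hN0')
      (IsPGroup.of_card hA') (by rw [hA', hN0'])
    have hAN : A.map L.subtype ≤ L ⊓ N := le_inf (map_subtype_le A) (by
      rw [← hg]; exact (map_mono (map_subtype_le N0)).trans (hconjN g).le)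
    refine le_antisymm ?_ (hA' ▸ Subgroup.card_le_of_le hAN)
    obtain ⟨j, hj⟩ := (hNp.to_le (inf_le_right : L ⊓ N ≤ N)).exists_card_eq
    rw [hj]
    refine Nat.pow_le_pow_right hp.pos ((hp.pow_dvd_iff_le_factorization Nat.card_pos.ne').1 ?_)
    rw [← hL, ← hj]
    exact card_dvd_of_le inf_le_left
  set R := K ⊓ N with hR
  obtain ⟨g, hg⟩ := hD p hp (H ⊓ N) R (hNp.to_le inf_le_right) (hNp.to_le inf_le_right)
    (by rw [hR, hsyl H rfl, hsyl K hc.symm])
  set H1 := conjBy g H with hH1
  have hH1c : Nat.card H1 = Nat.card K := by rw [hH1, card_conjBy, hc]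
  have hR1 : R = H1 ⊓ N := by
    rw [← hg, hH1]
    conv_rhs => rw [← hconjN g]
    exact Subgroup.map_inf _ _ _ (MulEquiv.injective _)
  set W := normalizer (R : Set G) with hW
  have hle : ∀ L : Subgroup G, L ⊓ N = R → L ≤ W := fun L hL x hx => by
    rw [hW, ← conjBy_eq_self_iff, ← hL]
    show Subgroup.map _ _ = _
    rw [Subgroup.map_inf _ _ _ (MulEquiv.injective _)]
    exact congrArg₂ (· ⊓ ·) (conjBy_eq_self_of_mem hx) (hconjN x)
  have hcompl : ∀ L : Subgroup G, L ⊓ N = R → Nat.card L = Nat.card H →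
      ∃ L' : Subgroup G, L' ≤ L ∧ R ⊔ L' = L ∧ p ^ a * Nat.card L' = Nat.card H := by
    intro L hL hLc
    haveI : ((L ⊓ N).subgroupOf L).Normal := by rw [inf_comm, inf_subgroupOf_right]; infer_instance
    have hRc : Nat.card ((L ⊓ N).subgroupOf L) = p ^ a := by
      rw [Nat.card_congr (subgroupOfEquivOfLe inf_le_left).toEquiv, hsyl L hLc]
    have hcop : (Nat.card ((L ⊓ N).subgroupOf L)).Coprime ((L ⊓ N).subgroupOf L).index := by
      rw [hRc]
      refine ((Nat.Prime.coprime_iff_not_dvd hp).2 fun hd => ?_).pow_left a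
      have h1 := ((L ⊓ N).subgroupOf L).card_mul_index
      rw [hRc, hLc] at h1
      exact Nat.pow_succ_factorization_not_dvd (Nat.card_pos (α := H)).ne' hp
        (dvd_trans (by rw [pow_succ]; exact mul_dvd_mul_left _ hd) h1.dvd)
    obtain ⟨C, hC⟩ := exists_right_complement'_of_coprime hcop
    refine ⟨C.map L.subtype, map_subtype_le C, ?_, ?_⟩
    · rw [← hL]
      conv_lhs => rw [← map_subgroupOf_eq_of_le (inf_le_left : L ⊓ N ≤ L)]
      rw [← Subgroup.map_sup, hC.sup_eq_top, ← MonoidHom.range_eq_map, range_subtype]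
    · rw [card_map_of_injective L.subtype_injective, ← hRc, hC.card_mul, hLc]
  obtain ⟨H', hH'1, hH'R, hH'c⟩ := hcompl H1 hR1.symm (hH1c.trans hc.symm)
  obtain ⟨K', hK'1, hK'R, hK'c⟩ := hcompl K rfl hc.symm
  have hH'W : H' ≤ W := hH'1.trans (hle H1 hR1.symm)
  have hK'W : K' ≤ W := hK'1.trans (hle K rfl)
  obtain ⟨⟨c, hcW⟩, hcc⟩ := conj_of_not_dvd p (Nat.card W) W rfl inferInstance (fun q hq hqp Q => by
      haveI := Fact.mk hq
      obtain ⟨P, hP⟩ := (Q.2.map W.subtype).exists_le_sylow
      haveI := hcyc q hq hqp P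
      haveI := Subgroup.isCyclic_of_le hP
      exact isCyclic_of_surjective _ ((Q : Subgroup W).equivMapOfInjective W.subtype W.subtype_injective).symm.surjective)
    (H'.subgroupOf W) (K'.subgroupOf W)
    (by
      rw [Nat.card_congr (subgroupOfEquivOfLe hH'W).toEquiv, Nat.card_congr (subgroupOfEquivOfLe hK'W).toEquiv]
      exact Nat.eq_of_mul_eq_mul_left (Nat.pow_pos hp.pos) (hH'c.trans hK'c.symm))
    (fun q hq hqd hqp => by
      rw [Nat.card_congr (subgroupOfEquivOfLe hH'W).toEquiv, hqp] at hqd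
      refine Nat.pow_succ_factorization_not_dvd (Nat.card_pos (α := H)).ne' hp ?_
      rw [pow_succ, ← ha]
      exact dvd_trans (mul_dvd_mul_left _ hqd) hH'c.dvd)
  have hcc' : conjBy c H' = K' := by
    have := congrArg (Subgroup.map W.subtype) hcc
    rwa [conjBy_map, map_subgroupOf_eq_of_le hH'W, map_subgroupOf_eq_of_le hK'W] at this
  refine ⟨c * g, ?_⟩
  rw [← conjBy_conjBy, ← hH1, ← hH'R, ← hK'R]
  show Subgroup.map _ _ = _
  rw [Subgroup.map_sup]
  exact congrArg₂ (· ⊔ ·) (conjBy_eq_self_iff.2 hcW) hcc'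

/-- Let G be a finite solvable group in which, for every prime p, any two p-subgroups of the same order are conjugate, and suppose the Sylow p-subgroups of G are cyclic for all primes p with at most one exception. Then any two subgroups of G of the same order are conjugate. -/
theorem result {G : Type*} [Group G] [Finite G]
    [Group.IsSolvable G] (hD : ∀ p : ℕ, p.Prime → ∀ H K : Subgroup G, IsPGroup p H → IsPGroup p K → Nat.card H = Nat.card K →
      ∃ g : G, K = H.map (MulAut.conj g).toMonoidHom)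
    (r : ℕ) (hcyc : ∀ p : ℕ, p.Prime → p ≠ r → ∀ P : Sylow p G, IsCyclic P) :
    ∀ H K : Subgroup G, Nat.card H = Nat.card K → ∃ g : G, K = H.map (MulAut.conj g).toMonoidHom := by
  intro H K h
  obtain ⟨g, hg⟩ := conj_of_dr r _ G rfl inferInstance (fun p hp hpr P => hcyc p hp hpr P)
    (fun p hp A B hA hB hAB => by
      obtain ⟨g, hg⟩ := hD p hp A B hA hB hAB
      exact ⟨g, hg.symm⟩) H K h
  exact ⟨g, hg.symm⟩

end Cfsg.Agent.S4022
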