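import Cfsg.Agent.Lib.PGroup.PSolvable
import Cfsg.Agent.Lib.Fusion.PrimeCoreQuotient
import Cfsg.Agent.Lib.Coprime.Core
import Cfsg.Agent.Lib.Coprime.UniqueOrderP
-- under Cfsg/Agent/.
import Cfsg.Statements.S4024
-- import your own Cfsg.Agent.* helpers here

set_option autoImplicit false
open Cfsg

namespace Cfsg.Agent.S4024

open Subgroup in
/-- A `p`-group, `p` odd, with a unique proper nontrivial subgroup of some order is cyclic. -/
private theorem isCyclic_of_unique_card {P : Type*} [Group P] [Finite P] {p : ℕ} [Fact p.Prime]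
    (hp : p ≠ 2) (hP : IsPGroup p P) (W : Subgroup P) (hW1 : W ≠ ⊥) (hWt : W ≠ ⊤)
    (hu : ∀ A : Subgroup P, Nat.card A = Nat.card W → A = W) : IsCyclic P := by
  have hpp : p.Prime := Fact.out
  obtain ⟨m, hm⟩ := (hP.to_subgroup W).exists_card_eq
  obtain ⟨n, hn⟩ := hP.exists_card_eq
  have hm1 : 1 ≤ m := by
    by_contra h
    obtain rfl : m = 0 := by omega
    exact hW1 (card_eq_one.1 (by rw [hm, pow_zero]))
  have hmn : p ^ m ∣ Nat.card P := hm ▸ card_subgroup_dvd_card W
  have key : ∀ x : P, x ∈ W ∨ W ≤ zpowers x := by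
    intro x
    obtain ⟨j, hj⟩ := (hP.to_subgroup (zpowers x)).exists_card_eq
    rcases Nat.le_total j m with h | h
    · left
      obtain ⟨A, hA, hxA⟩ := Sylow.exists_subgroup_card_pow_prime_le p hmn (zpowers x) hj h
      rw [← hu A (hA.trans hm.symm)]
      exact hxA (mem_zpowers x)
    · right
      obtain ⟨A, hA, -⟩ := Sylow.exists_subgroup_card_pow_prime_le p
        (G := zpowers x) (n := 0) (m := m) (by rw [hj]; exact pow_dvd_pow p h) ⊥ (by simp) (Nat.zero_le m)
      have e := hu (A.map (zpowers x).subtype)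
        (by rw [card_map_of_injective (zpowers x).subtype_injective, hA, hm])
      exact e ▸ map_subtype_le A
  obtain ⟨x, -, hx⟩ := SetLike.exists_of_lt (lt_top_iff_ne_top.2 hWt)
  have hWc : IsCyclic W := isCyclic_of_le ((key x).resolve_left hx)
  refine CfsgLib.Coprime.isCyclic_of_unique_odd hp hP fun x y hx hy hx1 => ?_
  have hle : ∀ u : P, u ^ p = 1 → u ∈ W := by
    intro u hu'
    rcases eq_or_ne u 1 with rfl | hu1
    · exact one_mem W
    have ho : Nat.card (zpowers u) = p ^ 1 := by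
      rw [Nat.card_zpowers, orderOf_eq_prime hu' hu1, pow_one]
    obtain ⟨A', hA', hAA'⟩ := Sylow.exists_subgroup_card_pow_prime_le p hmn (zpowers u) ho hm1
    exact (hu A' (hA'.trans hm.symm)) ▸ hAA' (mem_zpowers u)
  haveI := hWc
  set xw : W := ⟨x, hle x hx⟩
  set yw : W := ⟨y, hle y hy⟩
  classical
  haveI := Fintype.ofFinite W
  have hcard := IsCyclic.card_pow_eq_one_le (α := W) (n := p) hpp.pos
  have hsub : (zpowers xw : Set W).toFinset ⊆ Finset.univ.filter (fun a : W => a ^ p = 1) := by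
    intro a ha
    rw [Set.mem_toFinset] at ha
    obtain ⟨i, rfl⟩ := mem_zpowers_iff.1 ha
    have h1 : xw ^ p = 1 := Subtype.ext hx
    rw [Finset.mem_filter, ← zpow_natCast, ← zpow_mul, mul_comm, zpow_mul, zpow_natCast, h1, one_zpow]
    exact ⟨Finset.mem_univ _, rfl⟩
  have hxw : orderOf xw = p := by
    rw [← Subgroup.orderOf_coe]; exact orderOf_eq_prime hx hx1
  have heq := Finset.eq_of_subset_of_card_le hsub (hcard.trans (by
    rw [Set.toFinset_card, ← Nat.card_eq_fintype_card]
    exact ((Nat.card_zpowers xw).trans hxw).ge))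
  have hym : yw ∈ (zpowers xw : Set W).toFinset := by
    rw [heq, Finset.mem_filter]
    exact ⟨Finset.mem_univ _, Subtype.ext hy⟩
  rw [Set.mem_toFinset] at hym
  obtain ⟨i, hi⟩ := mem_zpowers_iff.1 hym
  exact mem_zpowers_iff.2 ⟨i, congrArg Subtype.val hi⟩

/-- Let p be an odd prime and G a finite group in which any two p-subgroups of the same order are conjugate, with Sylow p-subgroup P. If H is a normal p-solvable subgroup of G whose order is divisible by p, then P is abelian, and either P ≤ H or P is cyclic. -/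
theorem result {G : Type*} [Group G] [Finite G]
    {p : ℕ} [Fact p.Prime] (hp : p ≠ 2) (hC : ∀ H K : Subgroup G, IsPGroup p H → IsPGroup p K → Nat.card H = Nat.card K →
      ∃ g : G, K = H.map (MulAut.conj g).toMonoidHom) (P : Sylow p G)
    (H : Subgroup G) [H.Normal] (hsolv : Cfsg.IsPSolvable p H) (hdiv : p ∣ Nat.card H) :
    IsMulCommutative P ∧ ((P : Subgroup G) ≤ H ∨ IsCyclic P) := by
  classical
  have hpp : p.Prime := Fact.out
  have habc : IsCyclic P → IsMulCommutative P := fun h => by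
    haveI := h
    let _ := IsCyclic.commGroup (α := P)
    exact isMulCommutative_iff.2 fun a b => mul_comm a b
  by_cases hcyc : IsCyclic P
  · exact ⟨habc hcyc, Or.inr hcyc⟩
  set K := Cfsg.pPrimeCore p G with hK
  haveI : K.Normal := Subgroup.sSup_normal _ (fun _ h => h.1)
  set π := QuotientGroup.mk' K with hπ
  set Hb := H.map π with hHb
  haveI : Hb.Normal := Subgroup.Normal.map inferInstance π (QuotientGroup.mk'_surjective K)
  have hHbs : Cfsg.IsPSolvable p Hb :=
    CfsgLib.Fusion.isPSolvable_of_surjective (π.subgroupMap H) (π.subgroupMap_surjective H) hsolv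
  have hpK : ¬ p ∣ Nat.card K := fun hd => hpp.one_lt.ne'
    (Nat.dvd_one.1 ((CfsgLib.Coprime.pPrimeCore_coprime (G := G) hpp) ▸ Nat.dvd_gcd hd dvd_rfl))
  have hbot : Cfsg.pPrimeCore p Hb = ⊥ := by
    apply Subgroup.map_injective Hb.subtype_injective
    rw [CfsgLib.Coprime.pPrimeCore_map_subtype_eq hpp, CfsgLib.Coprime.pPrimeCore_quotient_eq_bot hpp,
      bot_inf_eq, Subgroup.map_bot]
  -- an element of order `p` of `H` survives in the quotient
  obtain ⟨x, hx⟩ := exists_prime_orderOf_dvd_card' p hdiv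
  have hxK : (x : G) ∉ K := fun h => hpK (by
    have := Subgroup.orderOf_dvd_natCard K h
    rwa [Subgroup.orderOf_coe, hx] at this)
  haveI : Nontrivial Hb := (Subgroup.nontrivial_iff_ne_bot _).2 fun h => hxK (by
    have := Subgroup.mem_map_of_mem π x.2
    rw [← hHb, h, Subgroup.mem_bot] at this
    exact (QuotientGroup.eq_one_iff _).1 this)
  have hV : Cfsg.pCore p Hb ≠ ⊥ :=
    (CfsgLib.PGroup.pCore_ne_bot_or_pPrimeCore_ne_bot hHbs).resolve_right (fun h => h hbot)
  set V := (Cfsg.pCore p Hb).map Hb.subtype with hVdef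
  haveI : (Cfsg.pCore p (G ⧸ K)).Normal := CfsgLib.Coprime.pCore_normal' p
  have hVeq : V = Cfsg.pCore p (G ⧸ K) ⊓ Hb := CfsgLib.Coprime.pCore_map_subtype_eq p Hb
  haveI : V.Normal := hVeq ▸ inferInstance
  have hVp : IsPGroup p V := (CfsgLib.Coprime.pCore_isPGroup (G := Hb) p).map _
  set R := V.comap π with hR
  have hKR : K ≤ R := fun k hk => by
    show π k ∈ V
    rw [show π k = 1 from (QuotientGroup.eq_one_iff k).2 hk]
    exact one_mem V
  -- `T` is a Sylow subgroup of `R` with `R = T K`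
  set T := (P : Subgroup G) ⊓ R with hT
  obtain ⟨T', hT'⟩ : ∃ T' : Sylow p R, (T' : Subgroup R) = (P : Subgroup G).subgroupOf R := by
    have hX : (P : Subgroup G).relIndex R = (P : Subgroup G).relIndex ((P : Subgroup G) ⊔ R) := by
      have e : ∀ {A B : Subgroup G}, A ≤ B → Nat.card A * A.relIndex B = Nat.card B := fun {A B} h => by
        rw [← Subgroup.relIndex_bot_left, Subgroup.relIndex_mul_relIndex _ _ _ bot_le h, Subgroup.relIndex_bot_left]
      have e1 := e (show (P : Subgroup G) ⊓ R ≤ R from inf_le_right)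
      have e2 := e (show (P : Subgroup G) ⊓ R ≤ P from inf_le_left)
      have e3 := e (show R ≤ (P : Subgroup G) ⊔ R from le_sup_right)
      have e4 := e (show (P : Subgroup G) ≤ (P : Subgroup G) ⊔ R from le_sup_left)
      rw [Subgroup.inf_relIndex_right] at e1
      rw [Subgroup.inf_relIndex_left] at e2
      rw [Subgroup.relIndex_sup_right] at e3
      apply Nat.eq_of_mul_eq_mul_left (Nat.card_pos (α := P))
      rw [e4, ← e3, ← e1, ← e2]
      ring
    have hnd : ¬ p ∣ ((P : Subgroup G).subgroupOf R).index := fun hd => P.not_dvd_index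
      (hd.trans (hX.dvd.trans (Subgroup.relIndex_dvd_index_of_le le_sup_left)))
    exact ⟨(P.2.comap_subtype (H := (P : Subgroup G)) (K := R)).toSylow hnd, rfl⟩
  have hgen : R ≤ T ⊔ K := by
    intro r hr
    have hfull : ((T' : Subgroup R).map R.subtype).map π = V := by
      refine Subgroup.eq_of_le_of_card_ge ?_ ?_
      · rintro _ ⟨_, ⟨u, -, rfl⟩, rfl⟩
        exact u.2
      · rw [hT']
        have h1 : ¬ p ∣ ((P : Subgroup G).subgroupOf R).index := hT' ▸ T'.not_dvd_index
        set f := π.comp R.subtype with hf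
        have hfr : f.range = V := by
          ext v
          constructor
          · rintro ⟨u, rfl⟩; exact u.2
          · intro hv
            obtain ⟨g, rfl⟩ := QuotientGroup.mk'_surjective K v
            exact ⟨⟨g, hv⟩, rfl⟩
        rw [Subgroup.map_map, ← hf]
        set S := (P : Subgroup G).subgroupOf R
        have h2 : (S.map f).relIndex f.range ∣ S.index := by
          have e : (S.map f).subgroupOf f.range = S.map f.rangeRestrict := by
            ext ⟨v, hv⟩
            simp [Subgroup.mem_subgroupOf, Subgroup.mem_map, Subtype.ext_iff]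
          rw [Subgroup.relIndex, e]
          exact Subgroup.index_map_dvd _ f.rangeRestrict_surjective
        rw [hfr] at h2
        have hle : S.map f ≤ V := by rw [← hfr]; exact Subgroup.map_le_range f S
        obtain ⟨j, hj⟩ := (hVp.index ((S.map f).subgroupOf V))
        rcases j with _ | j
        · rw [pow_zero, ← Subgroup.relIndex] at hj
          exact Subgroup.card_le_of_le (Subgroup.relIndex_eq_one.1 hj)
        · exfalso
          rw [← Subgroup.relIndex] at hj
          exact h1 (((dvd_pow_self p (Nat.succ_ne_zero j)).trans hj.symm.dvd).trans h2)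
    have hm : π r ∈ ((T' : Subgroup R).map R.subtype).map π := hfull.symm ▸ hr
    rw [hT', Subgroup.subgroupOf_map_subtype] at hm
    obtain ⟨u, hu, hu'⟩ := hm
    rw [show r = u * (u⁻¹ * r) by group]
    exact Subgroup.mul_mem_sup hu ((QuotientGroup.eq_one_iff _).1 (by
      show π (u⁻¹ * r) = 1
      rw [map_mul, map_inv, hu', inv_mul_cancel]))
  have hTP : T ≤ (P : Subgroup G) := inf_le_left
  have hTne : T ≠ ⊥ := fun h => hV (by
    apply Subgroup.map_injective Hb.subtype_injective
    rw [Subgroup.map_bot, ← hVdef, eq_bot_iff]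
    intro v hv
    obtain ⟨g, rfl⟩ := QuotientGroup.mk'_surjective K v
    have h1 : g ∈ T ⊔ K := hgen hv
    rw [h, bot_sup_eq] at h1
    exact Subgroup.mem_bot.2 ((QuotientGroup.eq_one_iff g).2 h1))
  have huniq : ∀ A : Subgroup G, A ≤ P → Nat.card A = Nat.card T → A = T := by
    intro A hA hcard
    obtain ⟨g, hg⟩ := hC T A (P.2.to_le hTP) (P.2.to_le hA) hcard.symm
    refine Subgroup.eq_of_le_of_card_ge ?_ hcard.ge
    intro a ha
    refine Subgroup.mem_inf.2 ⟨hA ha, ?_⟩
    rw [hg] at ha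
    obtain ⟨t, ht, rfl⟩ := ha
    exact (inferInstance : R.Normal).conj_mem t ht.2 g
  have cycP : ∀ A : Subgroup G, A ≤ P → A ≠ ⊥ → A ≠ (P : Subgroup G) →
      (∀ B : Subgroup G, B ≤ P → Nat.card B = Nat.card A → B = A) → IsCyclic P := by
    intro A hA hA1 hA2 hu
    refine isCyclic_of_unique_card hp P.2 (A.subgroupOf P)
      (fun h => hA1 (by rwa [Subgroup.subgroupOf_eq_bot, disjoint_iff, inf_eq_left.2 hA] at h))
      (fun h => hA2 (le_antisymm hA (Subgroup.subgroupOf_eq_top.1 h))) fun B hB => ?_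
    have e := hu (B.map (P : Subgroup G).subtype) (Subgroup.map_subtype_le B) (by
      rw [Subgroup.card_map_of_injective (P : Subgroup G).subtype_injective, hB,
        Nat.card_congr (Subgroup.subgroupOfEquivOfLe hA).toEquiv])
    rw [← e, Subgroup.subgroupOf, Subgroup.comap_map_eq_self_of_injective (P : Subgroup G).subtype_injective]
  have hTeq : T = (P : Subgroup G) := by
    by_contra h
    exact hcyc (cycP T hTP hTne h huniq)
  have hPR : (P : Subgroup G) ≤ R := hTeq ▸ inf_le_right
  have hPH : (P : Subgroup G) ≤ H := by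
    have h1 : R ≤ H ⊔ K := by
      intro r hr
      have h2 : π r ∈ Hb := (hVeq.le.trans inf_le_right) hr
      have h3 : r ∈ Hb.comap π := h2
      rwa [hHb, Subgroup.comap_map_eq, QuotientGroup.ker_mk'] at h3
    intro x hx
    have hx' : x ∈ H ⊔ K := h1 (hPR hx)
    rw [Subgroup.mem_sup_of_normal_left] at hx'
    obtain ⟨y, hy, k, hk, rfl⟩ := hx'
    set ρ := QuotientGroup.mk' H
    have he : ρ (y * k) = ρ k := by
      rw [map_mul, show ρ y = 1 from (QuotientGroup.eq_one_iff y).2 hy, one_mul]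
    obtain ⟨j, hj⟩ := P.2 ⟨_, hx⟩
    have h2 := orderOf_dvd_of_pow_eq_one (show (ρ k) ^ p ^ j = 1 by
      rw [← he, ← map_pow, show (y * k) ^ p ^ j = 1 from congrArg Subtype.val hj, map_one])
    have h3 := (orderOf_map_dvd ρ k).trans (Subgroup.orderOf_dvd_natCard K hk)
    have h4 : ρ (y * k) = 1 := he.trans (orderOf_eq_one_iff.1 (Nat.eq_one_of_dvd_coprimes
      (((Nat.Prime.coprime_iff_not_dvd hpp).2 hpK).pow_left j) h2 h3))
    exact (QuotientGroup.eq_one_iff _).1 h4
  refine ⟨?_, Or.inl hPH⟩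
  by_contra hna
  set Z := (Subgroup.center P).map (P : Subgroup G).subtype with hZ
  haveI : Nontrivial P := by
    refine (Subgroup.nontrivial_iff_ne_bot _).2 fun h => hTne ?_
    exact le_bot_iff.1 (h ▸ hTP)
  refine hcyc (cycP Z (Subgroup.map_subtype_le _) ?_ ?_ ?_)
  · haveI := P.2.center_nontrivial
    rw [hZ, Ne, Subgroup.map_eq_bot_iff_of_injective _ (P : Subgroup G).subtype_injective]
    exact (Subgroup.nontrivial_iff_ne_bot _).1 inferInstance
  · intro h
    refine hna (isMulCommutative_iff.2 fun a b => ?_)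
    have ha : (a : G) ∈ Z := h.symm ▸ a.2
    obtain ⟨a', ha', he⟩ := ha
    obtain rfl : a' = a := Subtype.ext he
    exact ((Subgroup.mem_center_iff.1 ha') b).symm
  intro A hA hcard
  obtain ⟨g, hg⟩ := hC Z A (P.2.to_le (Subgroup.map_subtype_le _)) (P.2.to_le hA) hcard.symm
  refine Subgroup.eq_of_le_of_card_ge ?_ hcard.ge
  obtain ⟨Pr, hPr⟩ : ∃ Pr : Sylow p R, (Pr : Subgroup R) = (P : Subgroup G).subgroupOf R := ⟨T', hT'⟩
  have htop := Sylow.normalizer_sup_eq_top' P hPR
  intro a ha
  rw [hg] at ha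
  obtain ⟨z, hz, rfl⟩ := ha
  obtain ⟨z', hz', rfl⟩ := hz
  have hgm : g ∈ Subgroup.normalizer ((P : Subgroup G) : Set G) ⊔ K := by
    have h1 : R ≤ Subgroup.normalizer ((P : Subgroup G) : Set G) ⊔ K := hgen.trans
      (sup_le (le_sup_of_le_left (hTP.trans Subgroup.le_normalizer)) le_sup_right)
    have h2 : Subgroup.normalizer ((P : Subgroup G) : Set G) ⊔ K = ⊤ :=
      eq_top_iff.2 (htop ▸ sup_le le_sup_left h1)
    exact h2.symm ▸ Subgroup.mem_top g
  rw [sup_comm, Subgroup.mem_sup_of_normal_left] at hgm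
  obtain ⟨k, hk, n, hn, rfl⟩ := hgm
  have hn' := Subgroup.mem_normalizer_iff.1 hn
  set w : G := n * z' * n⁻¹ with hw
  have hwP : w ∈ (P : Subgroup G) := (hn' _).1 z'.2
  have haP : k * w * k⁻¹ ∈ (P : Subgroup G) := by
    have : k * n * (z' : G) * (k * n)⁻¹ ∈ (P : Subgroup G) := by
      apply hA; rw [hg]; exact ⟨z', ⟨z', hz', rfl⟩, rfl⟩
    rwa [hw, show k * (n * z' * n⁻¹) * k⁻¹ = k * n * z' * (k * n)⁻¹ by group]
  have hkw : k * w * k⁻¹ * w⁻¹ = 1 := by
    have h1 : k * w * k⁻¹ * w⁻¹ ∈ K := by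
      rw [show k * w * k⁻¹ * w⁻¹ = k * (w * k⁻¹ * w⁻¹) by group]
      exact mul_mem hk ((inferInstance : K.Normal).conj_mem _ (inv_mem hk) w)
    have h2 : k * w * k⁻¹ * w⁻¹ ∈ (P : Subgroup G) := mul_mem haP (inv_mem hwP)
    obtain ⟨j, hj⟩ := P.2 ⟨_, h2⟩
    have h3 := orderOf_dvd_of_pow_eq_one (show (k * w * k⁻¹ * w⁻¹) ^ p ^ j = 1 from congrArg Subtype.val hj)
    have h4 := Subgroup.orderOf_dvd_natCard K h1
    exact orderOf_eq_one_iff.1 (Nat.eq_one_of_dvd_coprimes
      (((Nat.Prime.coprime_iff_not_dvd hpp).2 hpK).pow_left j) h3 h4)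
  show (MulAut.conj (k * n)).toMonoidHom (z' : G) ∈ Z
  rw [show (MulAut.conj (k * n)).toMonoidHom (z' : G) = w by
    show k * n * z' * (k * n)⁻¹ = w
    rw [← mul_inv_eq_one.1 hkw, hw]; group]
  refine ⟨⟨w, hwP⟩, Subgroup.mem_center_iff.2 fun b => Subtype.ext ?_, rfl⟩
  show (b : G) * w = w * b
  have hb : n⁻¹ * b * n ∈ (P : Subgroup G) := by
    have h5 := hn' (n⁻¹ * b * n)
    rw [show n * (n⁻¹ * b * n) * n⁻¹ = b by group] at h5
    exact h5.2 b.2
  have h6 : n⁻¹ * b * n * z' = z' * (n⁻¹ * b * n) :=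
    congrArg Subtype.val (Subgroup.mem_center_iff.1 hz' ⟨_, hb⟩)
  calc (b : G) * w = n * ((n⁻¹ * b * n) * z') * n⁻¹ := by rw [hw]; group
    _ = n * (z' * (n⁻¹ * b * n)) * n⁻¹ := by rw [← h6]
    _ = w * b := by rw [hw]; group

end Cfsg.Agent.S4024
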