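import Cfsg.Statements.S4027
import Cfsg.Agent.S3861

set_option autoImplicit false
open Cfsg

namespace Cfsg.Agent.S4027

/-- Let G be a finite group in which every element x of odd order satisfies N_G(⟨x⟩) = C_G(x). Then the Sylow 2-subgroups of G are normal. -/
theorem result {G : Type*} [Group G] [Finite G]
    (hirr : ∀ x : G, (∀ r : ℕ, r.Prime → r ∣ orderOf x → r ≠ 2) →
      Subgroup.normalizer ((Subgroup.zpowers x : Subgroup G) : Set G) ≤ Subgroup.centralizer {x}) (P : Sylow 2 G) :
    (P : Subgroup G).Normal := by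
  refine (Cfsg.Agent.S3861.result P).1 fun x hx1 hx hc => ?_
  obtain ⟨g, hg⟩ := isConj_iff.1 hc
  have h2 : orderOf x ≠ 2 := fun e => by rw [e] at hx; exact absurd hx (by decide)
  have hgN : g ∈ Subgroup.normalizer ((Subgroup.zpowers x : Subgroup G) : Set G) := by
    refine Subgroup.mem_normalizer_fintype fun y hy => ?_
    obtain ⟨k, rfl⟩ := hy
    show g * x ^ k * g⁻¹ ∈ Subgroup.zpowers x
    rw [← conj_zpow, hg, inv_zpow]
    exact inv_mem (Subgroup.zpow_mem_zpowers x k)
  have hgC := hirr x (fun r _ hd e => by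
    obtain ⟨j, hj⟩ := hx
    rw [hj, e] at hd
    omega) hgN
  rw [Subgroup.mem_centralizer_singleton_iff] at hgC
  rw [hgC, mul_inv_cancel_right] at hg
  refine h2 (orderOf_eq_prime (by rw [pow_two]; nth_rewrite 2 [hg]; exact mul_inv_cancel x) hx1)

end Cfsg.Agent.S4027
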