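import Cfsg.Statements.S4028
import Cfsg.Agent.Lib.PGroup.ShortTools

set_option autoImplicit false
set_option linter.style.haveILetI false
open Cfsg

namespace Cfsg.Agent.S4028

/-- Let G be a finite group with Sylow 2-subgroup P. Then N_G(⟨x⟩) = C_G(x) holds for every 2-element x of G if and only if N_P(⟨y⟩) = C_P(y) holds for every y ∈ P (computed inside P). -/
theorem result {G : Type*} [Group G] [Finite G] (P : Sylow 2 G) :
    (∀ x : G, (∀ r : ℕ, r.Prime → r ∣ orderOf x → r = 2) →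
      Subgroup.normalizer ((Subgroup.zpowers x : Subgroup G) : Set G) ≤ Subgroup.centralizer {x}) ↔
    (∀ y : ↥(P : Subgroup G), Subgroup.normalizer ((Subgroup.zpowers y : Subgroup ↥(P : Subgroup G)) : Set ↥(P : Subgroup G)) ≤
        Subgroup.centralizer {y}) := by
  constructor
  · intro h y g hg
    have h2 : ∀ r : ℕ, r.Prime → r ∣ orderOf (y : G) → r = 2 := by
      intro r hr hd
      obtain ⟨k, hk⟩ := IsPGroup.iff_orderOf.1 P.isPGroup' y
      rw [Subgroup.orderOf_coe, hk] at hd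
      exact (Nat.prime_dvd_prime_iff_eq hr Nat.prime_two).1 (hr.dvd_of_dvd_pow hd)
    have hg' : (g : G) ∈ Subgroup.normalizer (Subgroup.zpowers (y : G) : Set G) := by
      have e : Subgroup.zpowers (y : G) = (Subgroup.zpowers y).map (P : Subgroup G).subtype := by
        rw [MonoidHom.map_zpowers]; rfl
      rw [e]
      exact Subgroup.le_normalizer_map _ ⟨g, hg, rfl⟩
    exact Subgroup.mem_centralizer_singleton_iff.2
      (Subtype.ext (Subgroup.mem_centralizer_singleton_iff.1 (h (y : G) h2 hg')))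
  · intro h x hx g hg
    obtain ⟨n, hn⟩ : ∃ n, orderOf x = 2 ^ n :=
      ⟨_, Nat.eq_prime_pow_of_unique_prime_dvd (orderOf_pos x).ne' fun {r} hr hd => hx r hr hd⟩
    rcases Nat.eq_zero_or_pos n with h0 | h0
    · rw [h0, pow_zero, orderOf_eq_one_iff] at hn
      subst hn
      exact Subgroup.mem_centralizer_singleton_iff.2 (by rw [mul_one, one_mul])
    obtain ⟨r, hr⟩ := Subgroup.mem_zpowers_iff.1
      ((Subgroup.mem_normalizer_iff.1 hg x).1 (Subgroup.mem_zpowers x))
    have hr1 : ((2 : ℕ) : ℤ) ∣ r - 1 := by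
      rcases Int.even_or_odd r with ⟨j, hj⟩ | ⟨j, hj⟩
      · exfalso
        have h1 : (g * x * g⁻¹) ^ 2 ^ (n - 1) = 1 := by
          rw [← hr, ← zpow_natCast, ← zpow_mul, hj, ← two_mul,
            show 2 * j * ((2 ^ (n - 1) : ℕ) : ℤ) = ((2 ^ n : ℕ) : ℤ) * j by
              push_cast; rw [show (2 : ℤ) ^ n = 2 ^ (n - 1) * 2 by rw [← pow_succ]; congr 1; omega]; ring,
            zpow_mul, zpow_natCast, ← hn, pow_orderOf_eq_one, one_zpow]
        rw [conj_pow, conj_eq_one_iff] at h1
        have h2 := orderOf_dvd_of_pow_eq_one h1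
        rw [hn, Nat.pow_dvd_pow_iff_le_right (by norm_num)] at h2
        omega
      · exact ⟨j, by rw [hj]; push_cast; ring⟩
    have h1 : g ^ 2 ^ n ∈ Subgroup.centralizer ({x} : Set G) :=
      Subgroup.mem_centralizer_singleton_iff.2
        (CfsgLib.PGroup.commute_pow_of_conj_eq_zpow hr.symm hr1 (hn ▸ pow_orderOf_eq_one x)).eq
    obtain ⟨m, hm, hmP⟩ := CfsgLib.PGroup.exists_pow_isPGroup (p := 2) g
    refine CfsgLib.PGroup.mem_of_pow_mem_coprime Nat.prime_two h1 hm ?_
    have hx2 : IsPGroup 2 (Subgroup.zpowers x) := IsPGroup.of_card (by rw [Nat.card_zpowers, hn])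
    obtain ⟨R, hR⟩ := (hmP.to_sup_of_normal_right' hx2
      (Subgroup.zpowers_le.2 (Subgroup.pow_mem _ hg m))).exists_le_sylow
    obtain ⟨c, rfl⟩ := MulAction.exists_smul_eq G P R
    obtain ⟨x', hx', hxe⟩ := hR (Subgroup.mem_sup_right (Subgroup.mem_zpowers x))
    obtain ⟨g', hg', hge⟩ := hR (Subgroup.mem_sup_left (Subgroup.mem_zpowers (g ^ m)))
    simp only [MulDistribMulAction.toMonoidEnd_apply, MulDistribMulAction.toMonoidHom_apply,
      MulAut.smul_def, MulAut.conj_apply] at hxe hge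
    have hn' : (⟨g', hg'⟩ : (P : Subgroup G)) ∈
        Subgroup.normalizer (Subgroup.zpowers (⟨x', hx'⟩ : (P : Subgroup G)) :
          Set ((P : Subgroup G))) := by
      refine Subgroup.mem_normalizer_iff.2 fun z => ?_
      have key : ∀ w : (P : Subgroup G), w ∈ Subgroup.zpowers (⟨x', hx'⟩ : (P : Subgroup G)) ↔
          c * (w : G) * c⁻¹ ∈ Subgroup.zpowers x := by
        intro w
        constructor
        · rintro ⟨i, rfl⟩
          exact ⟨i, by simp [← hxe, conj_zpow]⟩
        · rintro ⟨i, hi⟩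
          refine ⟨i, Subtype.ext ?_⟩
          simp only [← hxe, conj_zpow] at hi
          simpa using hi
      rw [key, key, Subgroup.mem_normalizer_iff.1 (Subgroup.pow_mem _ hg m) (c * (z : G) * c⁻¹)]
      simp only [Subgroup.coe_mul, Subgroup.coe_inv, ← hge]
      rw [show c * g' * c⁻¹ * (c * (z : G) * c⁻¹) * (c * g' * c⁻¹)⁻¹ =
        c * (g' * (z : G) * g'⁻¹) * c⁻¹ by group]
    have hc : g' * x' = x' * g' :=
      congrArg Subtype.val (Subgroup.mem_centralizer_singleton_iff.1 (h ⟨x', hx'⟩ hn'))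
    refine Subgroup.mem_centralizer_singleton_iff.2 ?_
    rw [← hge, ← hxe]
    calc c * g' * c⁻¹ * (c * x' * c⁻¹) = c * (g' * x') * c⁻¹ := by group
      _ = c * x' * c⁻¹ * (c * g' * c⁻¹) := by rw [hc]; group

end Cfsg.Agent.S4028
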