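import Cfsg.Statements.S4029
-- import your own Cfsg.Agent.* helpers here
import Cfsg.Agent.Lib.Char.Counting
import Cfsg.Agent.Lib.Char.Linear
import Cfsg.Agent.Lib.Coprime.PGroupFrattini

set_option autoImplicit false
open Cfsg

namespace Cfsg.Agent.S4029

open scoped commutatorElement in
open Cfsg CfsgLib.Char in
/-- There are at least as many real classes as elements of `P / Φ(P)`. -/
theorem frattini_index_le_real {P : Type*} [Group P] [Finite P] (hP : IsPGroup 2 P) :
    Nat.card (P ⧸ frattini P) ≤
      Nat.card {C : ConjClasses P // ∀ g : P, ConjClasses.mk g = C → IsConj g g⁻¹} := by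
  haveI := Fact.mk Nat.prime_two
  rw [← card_real_irr]
  letI : CommGroup (P ⧸ frattini P) :=
    { (inferInstance : Group (P ⧸ frattini P)) with
      mul_comm := fun a b => by
        obtain ⟨x, rfl⟩ := QuotientGroup.mk_surjective a
        obtain ⟨y, rfl⟩ := QuotientGroup.mk_surjective b
        rw [← QuotientGroup.mk_mul, ← QuotientGroup.mk_mul]
        refine QuotientGroup.eq.2 (CfsgLib.Coprime.commutator_le_frattini hP ?_)
        have : (x * y)⁻¹ * (y * x) = ⁅y⁻¹, x⁻¹⁆ := by rw [commutatorElement_def]; group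
        rw [this]
        exact Subgroup.commutator_mem_commutator (Subgroup.mem_top _) (Subgroup.mem_top _) }
  rw [← CommGroup.card_monoidHom_of_hasEnoughRootsOfUnity (P ⧸ frattini P) ℂ]
  haveI : Finite (IrrCharacter P) := inferInstance
  refine Nat.card_le_card_of_injective (fun f : (P ⧸ frattini P) →* ℂˣ =>
    (⟨(linearCharEquiv (f.comp (QuotientGroup.mk' (frattini P)))).1, fun g => ?_⟩ :
      {χ : IrrCharacter P // ∀ g : P, ((χ : P → ℂ) g).im = 0})) ?_
  · show (((f.comp (QuotientGroup.mk' (frattini P))) g : ℂˣ) : ℂ).im = 0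
    have h2 : (g : P ⧸ frattini P) ^ 2 = 1 := by
      rw [← QuotientGroup.mk_pow, QuotientGroup.eq_one_iff]
      exact CfsgLib.Coprime.pow_mem_frattini hP g
    have h3 : ((f (g : P ⧸ frattini P) : ℂˣ) : ℂ) ^ 2 = 1 := by
      rw [← Units.val_pow_eq_pow_val, ← map_pow, h2, map_one, Units.val_one]
    rcases sq_eq_one_iff.1 h3 with e | e <;>
      · show ((f (g : P ⧸ frattini P) : ℂˣ) : ℂ).im = 0
        rw [e]; simp
  · intro f f' h
    have := linearCharEquiv.injective (Subtype.ext (congrArg Subtype.val h :))
    exact QuotientGroup.monoidHom_ext _ this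

/-- Let P be a finite 2-group in which N_P(⟨y⟩) = C_P(y) for every y ∈ P. If s is the number of conjugacy classes of involutions of P, then #(P/Φ(P)) ≤ s + 1; in particular the subgroup generated by the involutions of P has order at least #(P/Φ(P)). -/
theorem result {P : Type*} [Group P] [Finite P] (hP : IsPGroup 2 P)
    (hirr : ∀ y : P, Subgroup.normalizer ((Subgroup.zpowers y : Subgroup P) : Set P) ≤ Subgroup.centralizer {y}) :
    Nat.card (P ⧸ frattini P) ≤ Nat.card {c : ConjClasses P // ∃ y : P, ConjClasses.mk y = c ∧ orderOf y = 2} + 1 ∧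
    Nat.card (P ⧸ frattini P) ≤ Nat.card (Subgroup.closure {y : P | orderOf y = 2}) := by
  classical
  have hreal : ∀ (C : {C : ConjClasses P // ∀ g : P, ConjClasses.mk g = C → IsConj g g⁻¹}) (g : P),
      ConjClasses.mk g = C.1 → g = 1 ∨ orderOf g = 2 := by
    intro C g hg
    obtain ⟨k, hk⟩ := isConj_iff.1 (C.2 g hg)
    have hkN : k ∈ Subgroup.normalizer ((Subgroup.zpowers g : Subgroup P) : Set P) := by
      refine Subgroup.mem_normalizer_iff.2 fun h => ?_
      have e : ∀ i : ℤ, k * g ^ i * k⁻¹ = g ^ (-i) := fun i => by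
        rw [← conj_zpow, hk, inv_zpow, zpow_neg]
      constructor
      · rintro ⟨i, rfl⟩; exact ⟨-i, (e i).symm⟩
      · rintro ⟨i, hi⟩
        refine ⟨-i, ?_⟩
        have hi' : k * h * k⁻¹ = g ^ i := hi.symm
        have h2 := e (-i)
        rw [neg_neg, ← hi'] at h2
        exact mul_left_cancel (mul_right_cancel h2)
    have hc := Subgroup.mem_centralizer_singleton_iff.1 (hirr g hkN)
    rw [hc, mul_inv_cancel_right] at hk
    have h2 : g ^ 2 = 1 := by rw [pow_two]; nth_rewrite 1 [hk]; exact inv_mul_cancel g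
    by_cases h1 : g = 1
    · exact Or.inl h1
    · exact Or.inr (orderOf_eq_prime h2 h1)
  have h0 := frattini_index_le_real hP
  refine ⟨h0.trans ?_, h0.trans ?_⟩
  · refine le_of_le_of_eq (Nat.card_le_card_of_injective (fun C =>
      if h : C.1 = ConjClasses.mk 1 then none else
        some (⟨C.1, by
          obtain ⟨g, hg⟩ := ConjClasses.mk_surjective C.1
          exact ⟨g, hg, (hreal C g hg).resolve_left fun e => h (by rw [← hg, e])⟩⟩ :
          {c : ConjClasses P // ∃ y : P, ConjClasses.mk y = c ∧ orderOf y = 2})) ?_)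
      Finite.card_option
    intro C D h
    by_cases hC : C.1 = ConjClasses.mk 1 <;> by_cases hD : D.1 = ConjClasses.mk 1
    · exact Subtype.ext (hC.trans hD.symm)
    · simp [hC, hD] at h
    · simp [hC, hD] at h
    · simp only [dif_neg hC, dif_neg hD, Option.some.injEq, Subtype.mk.injEq] at h
      exact Subtype.ext h
  · refine Nat.card_le_card_of_injective (fun C => (⟨Quotient.out C.1, ?_⟩ :
      ↥(Subgroup.closure {y : P | orderOf y = 2}))) ?_
    · rcases hreal C _ (Quotient.out_eq C.1) with h | h
      · rw [h]; exact one_mem _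
      · exact Subgroup.subset_closure h
    · intro C D h
      refine Subtype.ext ?_
      rw [← Quotient.out_eq C.1, ← Quotient.out_eq D.1]
      exact congrArg _ (congrArg Subtype.val h)

end Cfsg.Agent.S4029
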