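import Cfsg.Statements.S4031
import Cfsg.Agent.Lib.Goldschmidt.Consumers.ThreeIrrational
import Cfsg.Agent.S1169

set_option autoImplicit false
open Cfsg

namespace Cfsg.Agent.S4031

/-- Let G be a finite non-abelian simple group in which N_G(⟨x⟩) = C_G(x) for every 3-element x. Then either G is isomorphic to PSL₂(q) with q an odd power of 3, q ≥ 27, or G is simple of the order of a Suzuki group (so 3 does not divide its order). -/
theorem result {G : Type*} [Group G] [Finite G] [IsSimpleGroup G] (hna : ¬ IsMulCommutative G)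
    (hirr : ∀ x : G, (∀ r : ℕ, r.Prime → r ∣ orderOf x → r = 3) →
      Subgroup.normalizer ((Subgroup.zpowers x : Subgroup G) : Set G) ≤ Subgroup.centralizer {x}) :
    (∃ f : ℕ, 1 ≤ f ∧ Nonempty (G ≃* Matrix.ProjectiveSpecialLinearGroup (Fin 2) (GaloisField 3 (2 * f + 1)))) ∨
    Cfsg.IsSuzuki G := by
  exact CfsgLib.Gold.ThreeIrrational.psl_or_suzuki (fun _ _ _ _ => Cfsg.Agent.S1169.result) hna hirr

end Cfsg.Agent.S4031
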