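import Cfsg.Statements.S4032
import Cfsg.Agent.Lib.Coprime.SchurZassenhaus
import Cfsg.Agent.Lib.Coprime.Core

set_option autoImplicit false
set_option linter.style.haveILetI false
open Cfsg

namespace Cfsg.Agent.S4032

/-- Let π be a set of primes and G a finite group in which N_G(⟨x⟩) = C_G(x) for every π-element x. If N is a normal subgroup of G whose order is divisible by no prime of π, then G/N has the same property: N_{G/N}(⟨y⟩) = C_{G/N}(y) for every π-element y of G/N. -/
theorem result {G : Type*} [Group G] [Finite G] (π : Set ℕ)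
    (hirr : ∀ x : G, (∀ r : ℕ, r.Prime → r ∣ orderOf x → r ∈ π) →
      Subgroup.normalizer ((Subgroup.zpowers x : Subgroup G) : Set G) ≤ Subgroup.centralizer {x})
    (N : Subgroup G) [N.Normal] (hN : ∀ r : ℕ, r.Prime → r ∣ Nat.card N → r ∉ π) :
    ∀ y : G ⧸ N, (∀ r : ℕ, r.Prime → r ∣ orderOf y → r ∈ π) →
      Subgroup.normalizer ((Subgroup.zpowers y : Subgroup (G ⧸ N)) : Set (G ⧸ N)) ≤ Subgroup.centralizer {y} := by
  intro y hy g hg
  obtain ⟨x₀, rfl⟩ := QuotientGroup.mk'_surjective N y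
  set f := QuotientGroup.mk' N
  have hcop : (Nat.card N).Coprime (orderOf (f x₀)) :=
    Nat.coprime_of_dvd fun r hr h1 h2 => hN r hr h1 (hy r hr h2)
  obtain ⟨k, hk⟩ : ∃ k : ℕ, f x₀ ^ (Nat.card N * k) = f x₀ := by
    obtain ⟨k, hk⟩ := exists_pow_eq_self_of_coprime hcop
    exact ⟨k, by rw [pow_mul]; exact hk⟩
  obtain ⟨x, hxy, hxd⟩ : ∃ x : G, f x = f x₀ ∧ orderOf x ∣ orderOf (f x₀) := by
    refine ⟨x₀ ^ (Nat.card N * k), by rw [map_pow, hk], orderOf_dvd_of_pow_eq_one ?_⟩
    have hmem : x₀ ^ orderOf (f x₀) ∈ N := by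
      rw [← QuotientGroup.eq_one_iff, ← QuotientGroup.mk'_apply, map_pow, pow_orderOf_eq_one]
    rw [← pow_mul, mul_comm, pow_mul, pow_mul,
      show (x₀ ^ orderOf (f x₀)) ^ Nat.card N = 1 from
        orderOf_dvd_iff_pow_eq_one.1 (N.orderOf_dvd_natCard hmem), one_pow]
  rw [← hxy] at hg ⊢
  obtain ⟨n, rfl⟩ := QuotientGroup.mk'_surjective N g
  have hB : (Subgroup.zpowers x).map (MulAut.conj n).toMonoidHom ≤ Subgroup.zpowers x ⊔ N := by
    rw [MonoidHom.map_zpowers, Subgroup.zpowers_le]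
    have h1 : f (n * x * n⁻¹) ∈ Subgroup.zpowers (f x) := by
      rw [map_mul, map_mul, map_inv]
      exact (Subgroup.mem_normalizer_iff.1 hg _).1 (Subgroup.mem_zpowers _)
    rw [← MonoidHom.map_zpowers, ← Subgroup.mem_comap, Subgroup.comap_map_eq,
      QuotientGroup.ker_mk'] at h1
    exact h1
  obtain ⟨u, hu, hux⟩ := CfsgLib.Coprime.sz_conj_in (A := Subgroup.zpowers x)
    (B := (Subgroup.zpowers x).map (MulAut.conj n).toMonoidHom) (N := N)
    (by rw [Subgroup.normalizer_eq_top N]; exact le_top)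
    (by rw [Nat.card_zpowers]; exact Nat.Coprime.coprime_dvd_right hxd hcop) hB
    (Subgroup.card_map_of_injective (MulAut.conj n).injective)
    (Or.inl inferInstance)
  have hmem : u * n ∈ Subgroup.normalizer (Subgroup.zpowers x : Set G) := by
    refine CfsgLib.Coprime.conjBy_eq_self_iff.1 ?_
    rw [← CfsgLib.Coprime.conjBy_conjBy]
    exact hux
  have hπ : ∀ r : ℕ, r.Prime → r ∣ orderOf x → r ∈ π := fun r hr hd => hy r hr (hd.trans hxd)
  have hc := congrArg f (Subgroup.mem_centralizer_singleton_iff.1 (hirr x hπ hmem))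
  simp only [map_mul, show f u = 1 from (QuotientGroup.eq_one_iff u).2 hu, one_mul] at hc
  exact Subgroup.mem_centralizer_singleton_iff.2 hc

end Cfsg.Agent.S4032
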