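import Cfsg.Statements.S4034
import Cfsg.Agent.Lib.PGroup.ClassSize
import Mathlib.GroupTheory.SchurZassenhaus

set_option linter.style.haveILetI false

set_option autoImplicit false
open Cfsg

namespace Cfsg.Agent.S4034

/-- Let G be a finite group and p a prime. Every conjugacy class of p-regular elements of G (elements of order prime to p) has p-power size if and only if G has an abelian p-complement, i.e. an abelian subgroup of order prime to p and p-power index. -/
theorem result {G : Type*} [Group G] [Finite G] {p : ℕ} (hp : p.Prime) :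
    (∀ x : G, (orderOf x).Coprime p → ∃ k : ℕ, (ConjClasses.mk x).carrier.ncard = p ^ k) ↔
    (∃ H : Subgroup G, IsMulCommutative H ∧ ¬ p ∣ Nat.card H ∧ ∃ k : ℕ, H.index = p ^ k) := by
  haveI := Fact.mk hp
  constructor
  · intro h0
    have h : CfsgLib.PGroup.RegularClassesPrimePow p G := fun x hx => by
      obtain ⟨k, hk⟩ := h0 x hx
      exact ⟨k, (CfsgLib.PGroup.ncard_carrier_eq_index x).symm.trans hk⟩
    haveI := CfsgLib.PGroup.isSolvable_of_regularClassesPrimePow hp G h
    set N := Cfsg.pCore p G with hN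
    haveI hNn : N.Normal := CfsgLib.Coprime.pCore_normal' p
    obtain ⟨hab, hmem⟩ := CfsgLib.PGroup.regular_mem_pPrimeCore (h.quotient hp N)
      (CfsgLib.Coprime.pCore_quotient_eq_bot p)
    set F := Cfsg.pPrimeCore p (G ⧸ N) with hF
    haveI : F.Characteristic := CfsgLib.Coprime.pPrimeCore_characteristic p
    have hFco : (Nat.card F).Coprime p := CfsgLib.Coprime.pPrimeCore_coprime hp
    set M := F.comap (QuotientGroup.mk' N) with hM
    have hNM : N ≤ M := fun x hx => by
      rw [hM, Subgroup.mem_comap, show QuotientGroup.mk' N x = 1 from (QuotientGroup.eq_one_iff x).2 hx]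
      exact one_mem _
    have hMc := CfsgLib.Coprime.card_eq_card_mul_card_map_mk' N hNM
    rw [hM, Subgroup.map_comap_eq_self_of_surjective (QuotientGroup.mk'_surjective N), ← hM] at hMc
    have hrel : (N.subgroupOf M).index = Nat.card F := by
      have e := (N.subgroupOf M).card_mul_index
      rw [Nat.card_congr (Subgroup.subgroupOfEquivOfLe hNM).toEquiv, hMc] at e
      exact Nat.eq_of_mul_eq_mul_left Nat.card_pos e
    obtain ⟨n, hn⟩ : ∃ n : ℕ, Nat.card N = p ^ n := (CfsgLib.Coprime.pCore_isPGroup (G := G) p).exists_card_eq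
    obtain ⟨H', hH'⟩ := Subgroup.exists_right_complement'_of_coprime (N := N.subgroupOf M) (by
      rw [Nat.card_congr (Subgroup.subgroupOfEquivOfLe hNM).toEquiv, hrel, hn]
      exact Nat.Coprime.pow_left _ hFco.symm)
    set H := H'.map M.subtype with hH
    have hHc : Nat.card H = Nat.card F := by
      rw [hH, Subgroup.card_map_of_injective M.subtype_injective, ← hH'.symm.index_eq_card, hrel]
    refine ⟨H, ⟨⟨fun a b => ?_⟩⟩, fun hd => hp.ne_one (Nat.eq_one_of_dvd_coprimes hFco (hHc ▸ hd) dvd_rfl), ?_⟩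
    · have key : ∀ w : M, w ∈ H' → (QuotientGroup.mk' N) (w : G) = 1 → w = 1 := fun w hw h1 =>
        Subgroup.disjoint_def.1 hH'.disjoint
          (show w ∈ N.subgroupOf M from (QuotientGroup.eq_one_iff (w : G)).1 h1) hw
      obtain ⟨a', ha', haa⟩ := a.2
      obtain ⟨b', hb', hbb⟩ := b.2
      have hc : (QuotientGroup.mk' N) (a' : G) * (QuotientGroup.mk' N) (b' : G) =
          (QuotientGroup.mk' N) (b' : G) * (QuotientGroup.mk' N) (a' : G) :=
        congrArg Subtype.val (hab.is_comm.comm (⟨_, a'.2⟩ : F) ⟨_, b'.2⟩)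
      have h1 := key (a' * b' * a'⁻¹ * b'⁻¹) (mul_mem (mul_mem (mul_mem ha' hb') (inv_mem ha')) (inv_mem hb'))
        (by simp only [Subgroup.coe_mul, Subgroup.coe_inv, map_mul, map_inv]; rw [hc]; group)
      have h2 : a' * b' = b' * a' := by
        calc a' * b' = a' * b' * a'⁻¹ * b'⁻¹ * (b' * a') := by group
          _ = b' * a' := by rw [h1, one_mul]
      refine Subtype.ext ?_
      show (a : G) * b = b * a
      rw [← haa, ← hbb, ← map_mul, ← map_mul, h2]
    · refine ⟨_, Nat.eq_prime_pow_of_unique_prime_dvd H.index_ne_zero_of_finite fun {q} hq hd => ?_⟩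
      by_contra hqp
      haveI := Fact.mk hq
      have hidx : H.index = Nat.card N * F.index := by
        have e1 := H.card_mul_index
        rw [← F.index_comap_of_surjective (QuotientGroup.mk'_surjective N), ← hM]
        refine Nat.eq_of_mul_eq_mul_left (Nat.card_pos (α := H)) ?_
        rw [e1, hHc, ← mul_assoc, mul_comm (Nat.card F), ← hMc, Subgroup.card_mul_index]
      rw [hidx] at hd
      rcases hq.dvd_mul.1 hd with h1 | h1
      · rw [hn] at h1
        exact hqp ((Nat.prime_dvd_prime_iff_eq hq hp).1 (hq.dvd_of_dvd_pow h1))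
      rw [Subgroup.index] at h1
      obtain ⟨z, hz⟩ := exists_prime_orderOf_dvd_card' q h1
      obtain ⟨g, rfl⟩ := QuotientGroup.mk_surjective z
      obtain ⟨y, hy, hyg⟩ := CfsgLib.PGroup.exists_coprime_lift F hp g
        (by rw [hz]; exact (Nat.coprime_primes hq hp).2 hqp)
      rw [← hyg, (QuotientGroup.eq_one_iff y).2 (hmem y hy), orderOf_one] at hz
      exact hq.ne_one hz.symm
  · rintro ⟨H, hHab, hpH, k, hk⟩ x hx
    haveI := hHab
    obtain ⟨c, -, hc⟩ := CfsgLib.PGroup.exists_conj_mem_of_abelian_complement hp H hk x hx ⊤ le_top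
      (Subgroup.mem_top x)
    rw [CfsgLib.PGroup.ncard_carrier_eq_index x]
    have hle : H ≤ (Subgroup.centralizer ({x} : Set G)).comap (MulAut.conj c⁻¹).toMonoidHom := by
      intro w hw
      rw [Subgroup.mem_comap, Subgroup.mem_centralizer_singleton_iff]
      have h1 : w * (c * x * c⁻¹) = c * x * c⁻¹ * w := congrArg Subtype.val (mul_comm' (⟨w, hw⟩ : H) ⟨_, hc⟩)
      show c⁻¹ * w * c⁻¹⁻¹ * x = x * (c⁻¹ * w * c⁻¹⁻¹)
      calc c⁻¹ * w * c⁻¹⁻¹ * x = c⁻¹ * (w * (c * x * c⁻¹)) * c := by group
        _ = c⁻¹ * (c * x * c⁻¹ * w) * c := by rw [h1]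
        _ = x * (c⁻¹ * w * c⁻¹⁻¹) := by group
    have hd := Subgroup.index_dvd_of_le hle
    rw [Subgroup.index_comap_of_surjective _ (MulEquiv.surjective _), hk] at hd
    obtain ⟨j, -, hj⟩ := (Nat.dvd_prime_pow hp).1 hd
    exact ⟨j, hj⟩

end Cfsg.Agent.S4034
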