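import Cfsg.Statements.S4033
import Cfsg.Agent.Lib.PGroup.TwoRegular.Main
import Cfsg.Agent.S4034

set_option autoImplicit false
open Cfsg

namespace Cfsg.Agent.S4033

/-- Let G be a finite group and p a prime, and suppose the conjugacy classes of p-regular elements of G (elements of order prime to p) have exactly two distinct sizes. Then either G has an abelian p-complement (an abelian subgroup of order prime to p and p-power index), or there are a prime q ≠ p, a Sylow p-subgroup P, a Sylow q-subgroup Q and a central subgroup A such that PQ is a normal subgroup of order #P·#Q and G is the internal direct product PQ × A. -/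
theorem result {G : Type*} [Group G] [Finite G] {p : ℕ} (hp : p.Prime)
    (h2 : Set.ncard (Set.range fun x : {x : G // (orderOf x).Coprime p} => (ConjClasses.mk (x : G)).carrier.ncard) = 2) :
    (∃ H : Subgroup G, IsMulCommutative H ∧ ¬ p ∣ Nat.card H ∧ ∃ k : ℕ, H.index = p ^ k) ∨
    (∃ (q : ℕ) (_ : Fact q.Prime) (P : Sylow p G) (Q : Sylow q G) (A : Subgroup G), q ≠ p ∧
        A ≤ Subgroup.center G ∧ Nat.card ↥((P : Subgroup G) ⊔ (Q : Subgroup G)) = Nat.card P * Nat.card Q ∧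
        ((P : Subgroup G) ⊔ (Q : Subgroup G)).Normal ∧
        ((P : Subgroup G) ⊔ (Q : Subgroup G)) ⊓ A = ⊥ ∧ ((P : Subgroup G) ⊔ (Q : Subgroup G)) ⊔ A = ⊤) := by
  haveI := Fact.mk hp
  have hidx : ∀ x : G, (ConjClasses.mk x).carrier.ncard = CfsgLib.ClassGraph.cidx x :=
    CfsgLib.PGroup.ncard_carrier_eq_index
  have hcop : ∀ g : G, ¬ p ∣ orderOf g → (orderOf g).Coprime p := fun g hg =>
    (hp.coprime_iff_not_dvd.2 hg).symm
  obtain ⟨a, b, hab, hS⟩ := Set.ncard_eq_two.1 h2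
  obtain ⟨n, hn⟩ : ∃ n : ℕ, 1 < n ∧ (∀ g : G, ¬ p ∣ orderOf g →
      CfsgLib.ClassGraph.cidx g = 1 ∨ CfsgLib.ClassGraph.cidx g = n) := by
    have h1 : (1 : ℕ) ∈ ({a, b} : Set ℕ) := hS ▸
      ⟨⟨1, by rw [orderOf_one]; exact Nat.coprime_one_left p⟩, by
        show (ConjClasses.mk (1 : G)).carrier.ncard = 1
        rw [hidx]; exact CfsgLib.ClassGraph.cidx_of_mem_center (Subgroup.one_mem _)⟩
    have hpos : ∀ k ∈ ({a, b} : Set ℕ), 0 < k := fun k hk => by
      rw [← hS] at hk
      obtain ⟨x, rfl⟩ := hk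
      simp only [hidx]
      exact Nat.pos_of_ne_zero Subgroup.index_ne_zero_of_finite
    have hmem : ∀ g : G, ¬ p ∣ orderOf g → CfsgLib.ClassGraph.cidx g ∈ ({a, b} : Set ℕ) := fun g hg =>
      hS ▸ ⟨⟨g, hcop g hg⟩, hidx g⟩
    have ha := hpos a (by simp)
    have hb := hpos b (by simp)
    rcases h1 with h1 | h1
    · exact ⟨b, by omega, fun g hg => by simpa [← h1] using hmem g hg⟩
    · rw [Set.mem_singleton_iff] at h1
      exact ⟨a, by omega, fun g hg => by simpa [← h1, or_comm] using hmem g hg⟩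
  obtain ⟨hn1, hreg⟩ := hn
  by_cases htwo : ∀ k : ℕ, ∃ l : ℕ, l.Prime ∧ l ≠ p ∧ l ≠ k ∧
      ∃ u : G, CfsgLib.ThreeCop.IsQ l u ∧ u ∉ Subgroup.center G
  · left
    have hH : CfsgLib.TwoRegular.Hyp G p n := ⟨hp, hn1, hreg, htwo⟩
    refine (Cfsg.Agent.S4034.result hp).1 fun x hx => ?_
    rw [hidx]
    rcases hreg x (hp.coprime_iff_not_dvd.1 hx.symm) with e | e <;> rw [e]
    · exact ⟨0, rfl⟩
    · exact ⟨_, Nat.eq_prime_pow_of_unique_prime_dvd (by omega) fun {r} hr hrn => hH.eq_p hr hrn⟩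
  · push Not at htwo
    obtain ⟨k, hk⟩ := htwo
    by_cases hkk : k.Prime ∧ k ≠ p
    · right
      haveI := Fact.mk hkk.1
      obtain ⟨A, hA⟩ := CfsgLib.TwoRegular.exists_decomp hkk.2
        (fun l hl hlp hlk u hu => hk l hl hlp hlk u hu) (default : Sylow p G) (default : Sylow k G)
      exact ⟨k, ⟨hkk.1⟩, _, _, A, hkk.2, hA⟩
    · left
      refine (Cfsg.Agent.S4034.result hp).1 fun x hx => ⟨0, ?_⟩
      rw [hidx, pow_zero]
      refine CfsgLib.ClassGraph.cidx_of_mem_center ?_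
      by_contra hxZ
      obtain ⟨l, hl, a, ha, haz, haZ⟩ := CfsgLib.FourSizes.exists_primary hxZ
      haveI := Fact.mk hl
      have hlp : l ≠ p := by
        rintro rfl
        refine haZ ?_
        rw [ha.eq_one fun hd => hl.not_dvd_one (Nat.Coprime.eq_one_of_dvd
          (Nat.Coprime.coprime_dvd_left (hd.trans ?_) hx) dvd_rfl ▸ dvd_rfl)]
        · exact Subgroup.one_mem _
        · obtain ⟨j, rfl⟩ := haz
          exact orderOf_dvd_of_pow_eq_one (by
            rw [← zpow_natCast, ← zpow_mul, mul_comm, zpow_mul, zpow_natCast, pow_orderOf_eq_one, one_zpow])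
      exact haZ (hk l hl hlp (fun e => hkk ⟨e ▸ hl, e ▸ hlp⟩) a ha)

end Cfsg.Agent.S4033
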