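import Cfsg.Statements.S4035
import Cfsg.Agent.Lib.PGroup.JordanCover
import Cfsg.Agent.Lib.PGroup.ClassSize
import Mathlib.GroupTheory.SchurZassenhaus
-- import your own Cfsg.Agent.* helpers here

set_option autoImplicit false
open Cfsg

namespace Cfsg.Agent.S4035

/-- Let G be a finite group and p a prime such that p divides the size of no conjugacy class of p-regular elements (elements of order prime to p). Then G is the internal direct product of a Sylow p-subgroup P and a normal subgroup H of order prime to p: P is normal, P ⊓ H = 1 and PH = G. -/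
theorem result {G : Type*} [Group G] [Finite G] {p : ℕ} [Fact p.Prime]
    (h : ∀ x : G, (orderOf x).Coprime p → ¬ p ∣ (ConjClasses.mk x).carrier.ncard) (P : Sylow p G) :
    (P : Subgroup G).Normal ∧ ∃ H : Subgroup G, H.Normal ∧ ¬ p ∣ Nat.card H ∧
      (P : Subgroup G) ⊓ H = ⊥ ∧ (P : Subgroup G) ⊔ H = ⊤ := by
  have hp : p.Prime := Fact.out
  -- every regular element centralizes a conjugate of `P`
  have hcent : ∀ y : G, (orderOf y).Coprime p → ∃ c : G, ∀ u ∈ (P : Subgroup G), Commute (c * u * c⁻¹) y := by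
    intro y hy
    have hnd := h y hy
    rw [CfsgLib.PGroup.ncard_carrier_eq_index] at hnd
    let T : Sylow p (Subgroup.centralizer ({y} : Set G)) := Classical.arbitrary _
    have hT : IsPGroup p ((T : Subgroup _).map (Subgroup.centralizer ({y} : Set G)).subtype) := T.2.map _
    have hTi : ¬ p ∣ ((T : Subgroup _).map (Subgroup.centralizer ({y} : Set G)).subtype).index := by
      rw [Subgroup.index_map_subtype]
      intro hd
      rcases hp.dvd_mul.1 hd with hd | hd
      · exact T.not_dvd_index hd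
      · exact hnd hd
    let Q : Sylow p G := hT.toSylow hTi
    obtain ⟨c, hc⟩ := MulAction.exists_smul_eq G P Q
    refine ⟨c, fun u hu => ?_⟩
    have hmem : c * u * c⁻¹ ∈ (Q : Subgroup G) := by
      rw [← hc, Sylow.coe_subgroup_smul]
      exact ⟨u, hu, rfl⟩
    obtain ⟨v, -, hv⟩ := (show c * u * c⁻¹ ∈ (T : Subgroup ↥(Subgroup.centralizer ({y} : Set G))).map
      (Subgroup.centralizer ({y} : Set G)).subtype from hmem)
    rw [← hv]
    exact Subgroup.mem_centralizer_singleton_iff.1 v.2
  -- hence the normalizer of `P` meets every class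
  have hN : Subgroup.normalizer ((P : Subgroup G) : Set G) = ⊤ := by
    refine CfsgLib.PGroup.eq_top_of_forall_conj_mem _ fun g => ?_
    obtain ⟨x, y, hxy, rfl, ⟨e, hxe⟩, -, hy, -⟩ := CfsgLib.PGroup.exists_split g hp
    obtain ⟨c, hc⟩ := hcent y (hp.coprime_iff_not_dvd.2 hy).symm
    -- a Sylow subgroup of the centralizer of `y`
    set C := Subgroup.centralizer ({y} : Set G)
    have hQC : ((c • P : Sylow p G) : Subgroup G) ≤ C := by
      rw [Sylow.coe_subgroup_smul]
      rintro _ ⟨u, hu, rfl⟩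
      exact Subgroup.mem_centralizer_singleton_iff.2 (hc u hu).eq
    let Q' : Sylow p C := (c • P).subtype hQC
    have hxC : x ∈ C := Subgroup.mem_centralizer_singleton_iff.2 hxy.eq
    have hxp : IsPGroup p (Subgroup.zpowers (⟨x, hxC⟩ : C)) := by
      obtain ⟨i, -, hi⟩ := (Nat.dvd_prime_pow hp).1 hxe
      exact IsPGroup.of_card (n := i) (by rw [Nat.card_zpowers, Subgroup.orderOf_mk, hi])
    obtain ⟨R, hR⟩ := hxp.exists_le_sylow
    obtain ⟨d, rfl⟩ := MulAction.exists_smul_eq C Q' R
    have h1 := hR (Subgroup.mem_zpowers _)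
    rw [Sylow.coe_subgroup_smul, Subgroup.mem_pointwise_smul_iff_inv_smul_mem] at h1
    have h2 : (d : G)⁻¹ * x * (d : G) ∈ ((c • P : Sylow p G) : Subgroup G) := by
      simpa [MulAut.smul_def, Subgroup.mem_subgroupOf, Q'] using h1
    rw [Sylow.coe_subgroup_smul, Subgroup.mem_pointwise_smul_iff_inv_smul_mem] at h2
    refine ⟨(d : G) * c, ?_⟩
    have hdy : (d : G)⁻¹ * y * (d : G) = y := by
      rw [mul_assoc, ← Subgroup.mem_centralizer_singleton_iff.1 d.2, inv_mul_cancel_left]
    rw [show ((d : G) * c)⁻¹ * (x * y) * ((d : G) * c) =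
      (c⁻¹ * ((d : G)⁻¹ * x * d) * c) * (c⁻¹ * ((d : G)⁻¹ * y * d) * c) by group, hdy]
    refine mul_mem (Subgroup.le_normalizer (by simpa [MulAut.smul_def, mul_assoc] using h2)) ?_
    refine Subgroup.mem_normalizer_iff.2 fun z => ?_
    have hcomm : ∀ v ∈ (P : Subgroup G), Commute v (c⁻¹ * y * c) := fun v hv => by
      have := (hc v hv).map (MulAut.conj c⁻¹)
      simpa [mul_assoc] using this
    constructor
    · intro hz
      rw [← (hcomm z hz).eq, mul_inv_cancel_right]
      exact hz
    · intro hz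
      have e := (hcomm _ hz).eq
      have e2 : c⁻¹ * y * c * z = z * (c⁻¹ * y * c) := by
        have := congrArg (fun w => (c⁻¹ * y * c)⁻¹ * w * (c⁻¹ * y * c)) e
        simp [mul_assoc] at this ⊢
        exact this.symm
      rw [e2, mul_inv_cancel_right] at hz
      exact hz
  have hPn : (P : Subgroup G).Normal := Subgroup.normalizer_eq_top_iff.1 hN
  haveI := hPn
  obtain ⟨H, hH⟩ := Subgroup.exists_right_complement'_of_coprime P.card_coprime_index
  have hHp : ¬ p ∣ Nat.card H := by
    rw [← hH.symm.index_eq_card]; exact P.not_dvd_index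
  have hHc : ∀ y ∈ H, ∀ u ∈ (P : Subgroup G), Commute u y := by
    intro y hy u hu
    obtain ⟨c, hc⟩ := hcent y ((hp.coprime_iff_not_dvd.2 fun hd => hHp (hd.trans
      (Subgroup.orderOf_dvd_natCard H hy))).symm)
    have := hc (c⁻¹ * u * c) (by simpa using hPn.conj_mem u hu c⁻¹)
    simpa [mul_assoc] using this
  have hHn : H.Normal := by
    refine ⟨fun a ha g => ?_⟩
    have hg : g ∈ (P : Subgroup G) ⊔ H := hH.sup_eq_top ▸ Subgroup.mem_top g
    rw [Subgroup.mem_sup_of_normal_left] at hg
    obtain ⟨u, hu, k, hk, rfl⟩ := hg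
    have hmem : k * a * k⁻¹ ∈ H := H.mul_mem (H.mul_mem hk ha) (H.inv_mem hk)
    rw [show u * k * a * (u * k)⁻¹ = u * (k * a * k⁻¹) * u⁻¹ by group, (hHc _ hmem u hu).eq,
      mul_inv_cancel_right]
    exact hmem
  exact ⟨hPn, H, hHn, hHp, hH.disjoint.eq_bot, hH.sup_eq_top⟩

end Cfsg.Agent.S4035
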