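import Cfsg.Statements.S4036
import Cfsg.Agent.Lib.Coprime.Core

set_option autoImplicit false
set_option linter.style.haveILetI false
open Cfsg

namespace Cfsg.Agent.S4036

/-- Let P be a finite abelian p-group and K a group of automorphisms of P (a subgroup of Aut P) whose order is divisible by p. If all non-identity elements of K have the same fixed-point subgroup on P, then K has no non-trivial normal subgroup of order prime to p. -/
theorem result {P : Type*} [CommGroup P] [Finite P] {p : ℕ}
    [Fact p.Prime] (hP : IsPGroup p P) (K : Subgroup (MulAut P)) (hK : p ∣ Nat.card K)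
    (hfix : ∀ x y : MulAut P, x ∈ K → y ∈ K → x ≠ 1 → y ≠ 1 → ∀ v : P, x v = v ↔ y v = v) :
    ∀ N : Subgroup ↥K, N.Normal → ¬ p ∣ Nat.card N → N = ⊥ := by
  intro N hN hNp
  classical
  have := Fintype.ofFinite N
  obtain ⟨x, hx⟩ := exists_prime_orderOf_dvd_card' (G := K) p hK
  have hx1 : (x : MulAut P) ≠ 1 := fun e => (Fact.out : p.Prime).ne_one
    (by rw [← hx, ← Subgroup.orderOf_coe, e, orderOf_one])
  let e : P →* P :=
    { toFun := fun v => ∏ n : N, ((n : K) : MulAut P) v
      map_one' := by simp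
      map_mul' := fun u v => by simp [Finset.prod_mul_distrib] }
  have he : ∀ v, ((x : MulAut P)) (e v) = e ((x : MulAut P) v) := by
    intro v
    show ((x : MulAut P)) (∏ n : N, ((n : K) : MulAut P) v) = ∏ n : N, ((n : K) : MulAut P) _
    rw [map_prod]
    refine Fintype.prod_bijective (fun n : N => ⟨x * (n : K) * x⁻¹, hN.conj_mem _ n.2 x⟩)
      ((Nat.bijective_iff_injective_and_card _).2 ⟨fun a b hab => Subtype.ext (by
        simpa using congrArg Subtype.val hab), rfl⟩) _ _ fun n => ?_
    simp [MulAut.mul_apply]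
  have hfixe : ∀ v, (∀ n : N, ((n : K) : MulAut P) v = v) → e v = v ^ Nat.card N := fun v hv => by
    show ∏ n : N, ((n : K) : MulAut P) v = _
    rw [Finset.prod_congr rfl fun n _ => hv n, Finset.prod_const, Nat.card_eq_fintype_card]; rfl
  have hker : e.ker = ⊥ := by
    by_contra hne
    have := Fintype.ofFinite e.ker
    haveI : Nontrivial e.ker := (Subgroup.nontrivial_iff_ne_bot _).2 hne
    obtain ⟨k, hk0, hk⟩ := (hP.to_subgroup e.ker).nontrivial_iff_card.1 inferInstance
    have hinv : ∀ w : P, w ∈ e.ker → (x : MulAut P) w ∈ e.ker := fun w hw => by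
      rw [MonoidHom.mem_ker, ← he, MonoidHom.mem_ker.1 hw, map_one]
    let σ : Equiv.Perm e.ker := Equiv.ofBijective (fun w => ⟨(x : MulAut P) w, hinv w w.2⟩)
      ((Nat.bijective_iff_injective_and_card _).2 ⟨fun a b hab => Subtype.ext
        ((x : MulAut P).injective (congrArg Subtype.val hab)), rfl⟩)
    have hpow : ∀ (i : ℕ) (w : e.ker), ((σ ^ i) w : P) = ((x : MulAut P) ^ i) w := by
      intro i
      induction i with
      | zero => intro w; rfl
      | succ i ih =>
        intro w
        rw [pow_succ', pow_succ', Equiv.Perm.mul_apply, MulAut.mul_apply, ← ih]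
        rfl
    have hσ : σ ^ p ^ 1 = 1 := Equiv.ext fun w => Subtype.ext (by
      rw [hpow, pow_one, ← hx, ← Subgroup.orderOf_coe, pow_orderOf_eq_one]; rfl)
    obtain ⟨w, hw, hw1⟩ := Equiv.Perm.exists_fixed_point_of_prime'
      (by rw [← Nat.card_eq_fintype_card, hk]; exact dvd_pow_self p hk0.ne') hσ (a := 1)
      (Subtype.ext (map_one (x : MulAut P)))
    refine hw1 (Subtype.ext ?_)
    have hfw : ∀ n : N, ((n : K) : MulAut P) w = w := by
      intro n
      by_cases hn1 : ((n : K) : MulAut P) = 1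
      · rw [hn1]; rfl
      · exact (hfix _ _ x.2 (n : K).2 hx1 hn1 _).1 (congrArg Subtype.val hw)
    have h1 := hfixe w hfw
    rw [MonoidHom.mem_ker.1 w.2] at h1
    obtain ⟨i, hi⟩ := hP (w : P)
    exact orderOf_eq_one_iff.1 (Nat.eq_one_of_dvd_coprimes
      (((Fact.out : p.Prime).coprime_iff_not_dvd.2 hNp).pow_left i)
      (orderOf_dvd_of_pow_eq_one hi) (orderOf_dvd_of_pow_eq_one h1.symm))
  have hbij : Function.Bijective e := (Nat.bijective_iff_injective_and_card _).2
    ⟨(MonoidHom.ker_eq_bot_iff e).1 hker, rfl⟩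
  refine (Subgroup.eq_bot_iff_forall _).2 fun n hn => Subtype.ext (MulEquiv.ext fun v => ?_)
  obtain ⟨u, rfl⟩ := hbij.2 v
  show ((n : K) : MulAut P) (∏ m : N, ((m : K) : MulAut P) u) = ∏ m : N, ((m : K) : MulAut P) u
  rw [map_prod]
  exact Fintype.prod_bijective (fun m : N => (⟨n, hn⟩ : N) * m) (Group.mulLeft_bijective _) _ _
    fun m => by simp [MulAut.mul_apply]

end Cfsg.Agent.S4036
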