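import Cfsg.Statements.S4038
import Cfsg.Agent.Lib.PGroup.CoprimeMax.Main
import Cfsg.Agent.Lib.PGroup.FixedPointFree
import Cfsg.Agent.Lib.Fusion.ThompsonComplement
import Cfsg.Agent.Lib.Coprime.MinimalNonNilpotent
import Cfsg.Agent.Lib.FT.NoMinSimple
-- import your own Cfsg.Agent.* helpers here

set_option autoImplicit false
open Cfsg

namespace Cfsg.Agent.S4038

open Subgroup CfsgLib.Coprime
open scoped commutatorElement

variable {A : Type*} [Group A] [Finite A]

/-- The class condition, stated on elements. -/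
def TwoClass {G : Type*} [Group G] (M : Subgroup G) : Prop :=
  ∀ a ∈ M, ∀ b ∈ M, ∀ c ∈ M, (∃ i, a ^ 2 ^ i = 1) → (∃ i, b ^ 2 ^ i = 1) → (∃ i, c ^ 2 ^ i = 1) →
    Commute ⁅a, b⁆ c

/-- The action induced on a quotient by an invariant normal subgroup. -/
def quotAct {G : Type*} [Group G] (φ : A →* MulAut G) (N : Subgroup G) [N.Normal]
    (hN : ∀ a, N.map (φ a).toMonoidHom = N) : A →* MulAut (G ⧸ N) where
  toFun a := QuotientGroup.congr N N (φ a) (hN a)
  map_one' := by
    ext x
    obtain ⟨g, rfl⟩ := QuotientGroup.mk'_surjective N x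
    simp
  map_mul' a b := by
    ext x
    obtain ⟨g, rfl⟩ := QuotientGroup.mk'_surjective N x
    simp only [map_mul]
    rfl

theorem quotAct_mk {G : Type*} [Group G] (φ : A →* MulAut G) (N : Subgroup G) [N.Normal]
    (hN : ∀ a, N.map (φ a).toMonoidHom = N) (a : A) (g : G) :
    quotAct φ N hN a (QuotientGroup.mk' N g) = QuotientGroup.mk' N (φ a g) := rfl

private theorem solvable_aux.{u} : ∀ (k : ℕ) (G : Type u) [Group G] [Finite G], Nat.card G = k →
    ∀ φ : A →* MulAut G, (Nat.card A).Coprime (Nat.card G) →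
    ∀ M : Subgroup G, M ≠ ⊤ → (∀ a : A, ∀ m : G, m ∈ M → φ a m ∈ M) →
      (∀ H : Subgroup G, M ≤ H → H ≠ ⊤ → (∀ a : A, ∀ h : G, h ∈ H → φ a h ∈ H) → H = M) →
      Group.IsNilpotent M → TwoClass M → Group.IsSolvable G := by
  intro k
  induction k using Nat.strong_induction_on with
  | _ k ih =>
  intro G _ _ hk φ hcop M hMtop hMinv hMmax hnil hc2
  haveI := hnil
  classical
  rcases Nat.even_or_odd (Nat.card G) with heven | hodd
  swap
  · exact CfsgLib.FT.isSolvable_of_odd G hodd
  have hA : Odd (Nat.card A) := Nat.coprime_two_right.1 (hcop.coprime_dvd_right heven.two_dvd)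
  haveI hAs : Group.IsSolvable A := CfsgLib.FT.isSolvable_of_odd A hA
  have hmap : ∀ {X : Subgroup G}, (∀ a : A, ∀ x : G, x ∈ X → φ a x ∈ X) →
      ∀ a, X.map (φ a).toMonoidHom = X := fun {X} h a =>
    eq_of_le_of_card_ge (map_le_iff_le_comap.2 fun x hx => h a x hx)
      (card_map_of_injective (φ a).injective).ge
  by_cases hcore : ∃ N : Subgroup G, N.Normal ∧ (∀ a : A, ∀ x : G, x ∈ N → φ a x ∈ N) ∧ N ≠ ⊥ ∧ N ≤ M
  · -- pass to a quotient
    obtain ⟨N, hN, hNinv, hNne, hNM⟩ := hcore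
    haveI := hN
    haveI : Group.IsNilpotent N :=
      Group.nilpotent_of_mulEquiv (Subgroup.subgroupOfEquivOfLe hNM)
    set π := QuotientGroup.mk' N
    have hπs := QuotientGroup.mk'_surjective N
    have hlt : Nat.card (G ⧸ N) < k := by
      rw [← index_eq_card, ← hk, ← N.card_mul_index]
      exact lt_mul_of_one_lt_left (Nat.pos_of_ne_zero FiniteIndex.index_ne_zero)
        ((one_lt_card_iff_ne_bot N).2 hNne)
    have hcomap : (M.map π).comap π = M := by
      rw [comap_map_eq, QuotientGroup.ker_mk', sup_eq_left.2 hNM]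
    haveI : Group.IsNilpotent (M.map π) :=
      Group.nilpotent_of_surjective (π.subgroupMap M) (π.subgroupMap_surjective M)
    haveI := ih _ hlt (G ⧸ N) rfl (quotAct φ N (hmap hNinv))
      (hcop.coprime_dvd_right (card_quotient_dvd_card N)) (M.map π)
      (fun e => hMtop (by rw [← hcomap, e, comap_top]))
      (by
        rintro a _ ⟨m, hm, rfl⟩
        rw [quotAct_mk]
        exact ⟨φ a m, hMinv a m hm, rfl⟩)
      (fun H hMH hH hHinv => by
        have h1 := hMmax (H.comap π) (fun m hm => hMH ⟨m, hm, rfl⟩)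
          (fun e => hH (by rw [← map_comap_eq_self_of_surjective hπs H, e, map_top_of_surjective π hπs]))
          (fun a h hh => by
            show π (φ a h) ∈ H
            rw [← quotAct_mk φ N (hmap hNinv)]
            exact hHinv a _ hh)
        rw [← map_comap_eq_self_of_surjective hπs H, h1])
      inferInstance (by
        rintro _ ⟨a, ha, rfl⟩ _ ⟨b, hb, rfl⟩ _ ⟨c, hc, rfl⟩ ha2 hb2 hc2'
        obtain ⟨e, he⟩ := CfsgLib.PGroup.CoprimeMax.exists_odd_exponent (Nat.card G) Nat.card_pos.ne'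
        have hlift : ∀ a : G, (∃ i, π a ^ 2 ^ i = 1) → π a = π ((a ^ e)⁻¹ * a) := fun a ha => by
          rw [map_mul, map_inv, map_pow,
            (he _ (π a) ((orderOf_map_dvd π a).trans (orderOf_dvd_natCard a))).2.2.1 ha, inv_one, one_mul]
        rw [hlift a ha2, hlift b hb2, hlift c hc2', ← map_commutatorElement]
        exact (hc2 _ (mul_mem (inv_mem (pow_mem ha e)) ha) _ (mul_mem (inv_mem (pow_mem hb e)) hb) _
          (mul_mem (inv_mem (pow_mem hc e)) hc) (he G a (orderOf_dvd_natCard a)).2.2.2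
          (he G b (orderOf_dvd_natCard b)).2.2.2 (he G c (orderOf_dvd_natCard c)).2.2.2).map π)
    exact Group.isSolvable_of_ker_le_range N.subtype π (by rw [QuotientGroup.ker_mk', range_subtype])
  push Not at hcore
  have hNinvN : ∀ {X : Subgroup G}, (∀ a : A, ∀ x : G, x ∈ X → φ a x ∈ X) →
      ∀ a : A, ∀ g : G, g ∈ normalizer (X : Set G) → φ a g ∈ normalizer (X : Set G) := by
    intro X hX a g hg
    have h1 : φ a g ∈ (normalizer (X : Set G)).map (φ a).toMonoidHom := ⟨g, hg, rfl⟩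
    rwa [show (normalizer (X : Set G)).map (φ a).toMonoidHom = normalizer (X.map (φ a).toMonoidHom : Set G)
      from map_equiv_normalizer_eq X (φ a), hmap hX a] at h1
  have hnorm : ∀ X : Subgroup G, (∀ a : A, ∀ x : G, x ∈ X → φ a x ∈ X) → X ≠ ⊥ → X ≤ M →
      M ≤ normalizer (X : Set G) → normalizer (X : Set G) = M := fun X hXinv hX hXM hMX =>
    hMmax _ hMX (fun e => hcore X (normalizer_eq_top_iff.1 e) hXinv hX hXM) (hNinvN hXinv)
  -- normal complements for the primes of `M`
  have key : ∀ p : ℕ, p.Prime → p ∣ Nat.card M → Cfsg.HasNormalPComplement p G := by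
    intro p hp hpM
    haveI : Fact p.Prime := ⟨hp⟩
    let PM : Sylow p M := default
    haveI hPMn : (PM : Subgroup M).Normal := inferInstance
    haveI : Unique (Sylow p M) := Sylow.unique_of_normal PM hPMn
    set P₀ := (PM : Subgroup M).map M.subtype with hP₀
    have hP₀ne : P₀ ≠ ⊥ := by
      rw [hP₀, Ne, map_eq_bot_iff_of_injective _ M.subtype_injective]
      exact PM.ne_bot_of_dvd_card hpM
    have hP₀M : P₀ ≤ M := map_subtype_le _
    have hmem : ∀ T : Subgroup G, T ≤ M → IsPGroup p T → T ≤ P₀ := by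
      intro T hTM hT
      obtain ⟨R, hR⟩ := (hT.comap_subtype : IsPGroup p (T.subgroupOf M)).exists_le_sylow
      rw [Subsingleton.elim R PM] at hR
      exact (map_subgroupOf_eq_of_le hTM).ge.trans (map_mono hR)
    have hP₀p : IsPGroup p P₀ := PM.isPGroup'.map M.subtype
    have hP₀inv : ∀ a : A, ∀ x : G, x ∈ P₀ → φ a x ∈ P₀ := fun a x hx =>
      hmem (P₀.map (φ a).toMonoidHom) (by rintro _ ⟨y, hy, rfl⟩; exact hMinv a y (hP₀M hy))
        (hP₀p.map _) ⟨x, hx, rfl⟩
    have hMN : M ≤ normalizer (P₀ : Set G) := by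
      rw [← range_subtype M]
      have h1 : (normalizer ((PM : Subgroup M) : Set M)).map M.subtype ≤ normalizer (P₀ : Set G) :=
        le_normalizer_map M.subtype
      rwa [normalizer_eq_top_iff.2 hPMn, ← MonoidHom.range_eq_map] at h1
    have hNP := hnorm P₀ hP₀inv hP₀ne hP₀M hMN
    obtain ⟨P, hP⟩ := hP₀p.exists_le_sylow
    have heq : P₀ = (P : Subgroup G) := by
      by_contra hne
      have hlt : P₀.subgroupOf (P : Subgroup G) < ⊤ := lt_top_iff_ne_top.2 fun e =>
        hne (le_antisymm hP (subgroupOf_eq_top.1 e))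
      haveI : Group.IsNilpotent (P : Subgroup G) := P.2.isNilpotent
      obtain ⟨g, hg, hg'⟩ := SetLike.exists_of_lt (Group.normalizerCondition_of_isNilpotent _ hlt)
      rw [← subgroupOf_normalizer_eq hP, mem_subgroupOf, hNP] at hg
      exact hg' (mem_subgroupOf.2 (hmem ((P : Subgroup G) ⊓ M) inf_le_right (P.2.to_le inf_le_left)
        ⟨g.2, hg⟩))
    rw [heq] at hP₀inv hP₀ne hP₀M hMN hNP hP₀p
    by_cases hp2 : p = 2
    · subst hp2
      have hp2elt : ∀ x ∈ (P : Subgroup G), ∃ i, x ^ 2 ^ i = 1 := fun x hx => by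
        obtain ⟨i, hi⟩ := hP₀p ⟨x, hx⟩
        exact ⟨i, congrArg Subtype.val hi⟩
      have hMP : ∀ g ∈ M, Odd (orderOf g) → g ∈ centralizer ((P : Subgroup G) : Set G) := by
        intro g hg hodd
        refine mem_centralizer_iff.2 fun u hu => ?_
        have h1 := commute_of_coprime_pow (p := 2) (b := (⟨g, hg⟩ : M)) (y := ⟨u, hP₀M hu⟩)
          (by rw [Subgroup.orderOf_mk]; exact Nat.coprime_two_right.2 hodd)
          (P := (P : Subgroup G).subgroupOf M) hP₀p.comap_subtype hu
        exact (congrArg Subtype.val h1.eq).symm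
      refine CfsgLib.PGroup.CoprimeMax.hasNormalPComplement_two φ hA P
        (fun a ha b hb c hc => hc2 a (hP₀M ha) b (hP₀M hb) c (hP₀M hc) (hp2elt a ha) (hp2elt b hb)
          (hp2elt c hc)) (hmap hP₀inv) fun X hXP hX hPX hXinv g hg hodd => hMP g ?_ hodd
      have hXinv' : ∀ a : A, ∀ x : G, x ∈ X → φ a x ∈ X := fun a x hx => hXinv a ▸ ⟨x, hx, rfl⟩
      rw [← hnorm X hXinv' hX (hXP.trans hP₀M) ?_]
      · exact hg
      intro m hm
      obtain ⟨e, he⟩ := CfsgLib.PGroup.CoprimeMax.exists_odd_exponent (Nat.card G) Nat.card_pos.ne'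
      obtain ⟨hmo, -, -, j, hj⟩ := he G m (orderOf_dvd_natCard m)
      rw [show m = m ^ e * ((m ^ e)⁻¹ * m) by group]
      refine mul_mem ((centralizer_le (SetLike.coe_subset_coe.2 hXP)).trans (centralizer_le_normalizer _)
        (hMP _ (pow_mem hm e) hmo)) (hPX ?_)
      set w := (m ^ e)⁻¹ * m
      have hw : IsPGroup 2 (zpowers w) := by
        intro z
        obtain ⟨i, hi⟩ := mem_zpowers_iff.1 z.2
        refine ⟨j, Subtype.ext ?_⟩
        rw [SubmonoidClass.coe_pow, ← hi, ← zpow_natCast, ← zpow_mul, mul_comm, zpow_mul, zpow_natCast,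
          hj, one_zpow]
        rfl
      exact heq ▸ hmem _ (zpowers_le.2 (mul_mem (inv_mem (pow_mem hm e)) hm)) hw (mem_zpowers w)
    · -- odd primes: Thompson's theorem
      set J := Cfsg.thompsonSubgroupOf p (P : Subgroup G)
      have hJinv : ∀ a : A, ∀ x : G, x ∈ J → φ a x ∈ J := by
        intro a x hx
        have h1 := CfsgLib.Fusion.map_thompsonSubgroupOf (p := p) (φ a).toMonoidHom
          (P := (P : Subgroup G)) (fun y _ hy => (φ a).injective (hy.trans (map_one _).symm))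
        rw [hmap hP₀inv a] at h1
        exact h1.le ⟨x, hx, rfl⟩
      have hNJ := hnorm J hJinv (CfsgLib.Fusion.thompsonSubgroupOf_ne_bot hP₀p hP₀ne)
        ((CfsgLib.Fusion.thompsonSubgroupOf_le _).trans hP₀M)
        (hMN.trans (CfsgLib.Fusion.normalizer_le_normalizer_thompsonSubgroupOf _))
      set Z := CfsgLib.Fusion.centerOf (P : Subgroup G)
      have hZinv : ∀ a : A, ∀ x : G, x ∈ Z → φ a x ∈ Z := by
        rintro a x ⟨hx1, hx2⟩
        refine ⟨hP₀inv a x hx1, mem_centralizer_iff.2 fun u hu => ?_⟩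
        obtain ⟨v, hv, rfl⟩ : u ∈ (P : Subgroup G).map (φ a).toMonoidHom := (hmap hP₀inv a).symm ▸ hu
        show φ a v * φ a x = φ a x * φ a v
        rw [← map_mul, ← map_mul, mem_centralizer_iff.1 hx2 v hv]
      have hZne : Z ≠ ⊥ := by
        haveI : Nontrivial (P : Subgroup G) := (nontrivial_iff_ne_bot _).2 hP₀ne
        haveI := hP₀p.center_nontrivial
        obtain ⟨⟨⟨z, hz⟩, hzc⟩, hz1⟩ := exists_ne (1 : center (P : Subgroup G))
        intro e
        have h1 : z ∈ Z := ⟨hz, mem_centralizer_iff.2 fun u hu =>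
          congrArg Subtype.val (mem_center_iff.1 hzc ⟨u, hu⟩)⟩
        rw [e, mem_bot] at h1
        exact hz1 (Subtype.ext (Subtype.ext h1))
      have hNZ := hnorm Z hZinv hZne (inf_le_left.trans hP₀M)
        (hMN.trans (CfsgLib.Fusion.normalizer_le_normalizer_centerOf _))
      haveI : Group.IsNilpotent ↥(normalizer (J : Set G)) :=
        Group.nilpotent_of_mulEquiv (MulEquiv.subgroupCongr hNJ).symm
      haveI : Group.IsNilpotent ↥(centralizer (Z : Set G)) :=
        Group.nilpotent_of_mulEquiv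
          (subgroupOfEquivOfLe ((centralizer_le_normalizer _).trans hNZ.le))
      exact CfsgLib.Fusion.hasNormalPComplement_of_thompson hp2 G P
        (CfsgLib.PGroup.hasNormalPComplement_of_isNilpotent p)
        (CfsgLib.PGroup.hasNormalPComplement_of_isNilpotent p)
  set π₀ := (Nat.card M).primeFactors
  let K : Subgroup G := ⨅ p ∈ π₀, Cfsg.pResidual p G
  haveI hKn : K.Normal := normal_iInf_normal fun p => normal_iInf_normal fun _ =>
    CfsgLib.Fusion.pResidual_normal
  have hKinv : ∀ a : A, ∀ x : G, x ∈ K → φ a x ∈ K := by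
    intro a x hx
    simp only [K, mem_iInf] at hx ⊢
    intro p hp
    have h1 : Cfsg.pResidual p G ≤ (Cfsg.pResidual p G).comap (φ a).toMonoidHom :=
      (closure_le _).2 fun y hy => subset_closure (by
        show (orderOf (φ a y)).Coprime p
        rwa [MulEquiv.orderOf_eq])
    exact h1 (hx p hp)
  have hKcop : (Nat.card M).Coprime (Nat.card K) := Nat.coprime_of_dvd fun p hp h1 h2 => by
    haveI : Fact p.Prime := ⟨hp⟩
    exact CfsgLib.Fusion.hasNormalPComplement_iff_not_dvd.1 (key p hp h1)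
      (h2.trans (card_dvd_of_le (iInf₂_le p (Nat.mem_primeFactors.2 ⟨hp, h1, Nat.card_pos.ne'⟩))))
  by_cases hKbot : K = ⊥
  · -- `G` is nilpotent
    have hd : ∀ p ∈ π₀, ∃ n, derivedSeries G n ≤ Cfsg.pResidual p G := by
      intro p hp
      haveI : Fact p.Prime := ⟨Nat.prime_of_mem_primeFactors hp⟩
      haveI := CfsgLib.Fusion.pResidual_normal (G := G) (p := p)
      haveI := (CfsgLib.Fusion.isPGroup_quotient_pResidual (p := p) (Cfsg.pResidual p G)
        le_rfl).isNilpotent
      obtain ⟨n, hn⟩ := (inferInstance : Group.IsSolvable (G ⧸ Cfsg.pResidual p G)).solvable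
      refine ⟨n, fun x hx => ?_⟩
      have h1 := map_derivedSeries_le_derivedSeries (QuotientGroup.mk' (Cfsg.pResidual p G)) n
        ⟨x, hx, rfl⟩
      rw [hn, mem_bot] at h1
      exact (QuotientGroup.eq_one_iff x).1 h1
    choose! n hn using hd
    refine ⟨⟨π₀.sup n, ?_⟩⟩
    rw [eq_bot_iff, ← hKbot]
    exact le_iInf₂ fun p hp => (derivedSeries_antitone G (Finset.le_sup hp)).trans (hn p hp)
  have hMKinv : ∀ {X Y : Subgroup G}, (∀ a : A, ∀ x : G, x ∈ X → φ a x ∈ X) →
      (∀ a : A, ∀ x : G, x ∈ Y → φ a x ∈ Y) → ∀ a : A, ∀ x : G, x ∈ X ⊔ Y → φ a x ∈ X ⊔ Y := by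
    intro X Y hX hY a x hx
    exact (sup_le (fun y hy => show φ a y ∈ X ⊔ Y from mem_sup_left (hX a y hy))
      (fun y hy => show φ a y ∈ X ⊔ Y from mem_sup_right (hY a y hy)) :
      X ⊔ Y ≤ (X ⊔ Y).comap (φ a).toMonoidHom) hx
  have hsup : M ⊔ K = ⊤ := by
    by_contra h
    exact hcore K hKn hKinv hKbot (left_eq_sup.1 (hMmax _ le_sup_left h (hMKinv hMinv hKinv)).symm)
  have hMK : M ≤ normalizer (K : Set G) := by rw [normalizer_eq_top]; exact le_top
  obtain ⟨q, hq, hqK⟩ := Nat.exists_prime_and_dvd (show Nat.card K ≠ 1 from fun h =>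
    hKbot (eq_bot_of_card_eq K h))
  haveI : Fact q.Prime := ⟨hq⟩
  -- a Sylow subgroup of `K` invariant under `M` and `A`
  obtain ⟨Q, hQ, hQM, hQinv⟩ : ∃ Q : Subgroup G, IsSylowIn q Q K ∧ M ≤ normalizer (Q : Set G) ∧
      ∀ a : A, ∀ x : G, x ∈ Q → φ a x ∈ Q := by
    obtain ⟨Q₀, hQ₀, hQ₀M⟩ := exists_invariant_sylow (A := M) (K := K) hMK hKcop
      (Or.inl inferInstance) q
    set C := K ⊓ centralizer (M : Set G) with hC
    have hCinv : ∀ a : A, ∀ x : G, x ∈ C → φ a x ∈ C := by
      rintro a x ⟨hx1, hx2⟩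
      refine ⟨hKinv a x hx1, mem_centralizer_iff.2 fun u hu => ?_⟩
      obtain ⟨v, hv, rfl⟩ : u ∈ M.map (φ a).toMonoidHom := (hmap hMinv a).symm ▸ hu
      show φ a v * φ a x = φ a x * φ a v
      rw [← map_mul, ← map_mul, mem_centralizer_iff.1 hx2 v hv]
    let ι : G →* G ⋊[φ] A := SemidirectProduct.inl
    have hι : Function.Injective ι := SemidirectProduct.inl_injective
    haveI : Finite (G ⋊[φ] A) := Finite.of_equiv (G × A) SemidirectProduct.equivProd.symm
    set A' : Subgroup (G ⋊[φ] A) := (SemidirectProduct.inr : A →* G ⋊[φ] A).range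
    have hconj : ∀ (a : A) (X : Subgroup G),
        conjBy (SemidirectProduct.inr a : G ⋊[φ] A) (X.map ι) = (X.map (φ a).toMonoidHom).map ι := by
      intro a X
      rw [CfsgLib.Coprime.conjBy, Subgroup.map_map, Subgroup.map_map]
      congr 1
      ext g <;> simp [ι, SemidirectProduct.inl_aut]
    have hA'C : A' ≤ normalizer (C.map ι : Set (G ⋊[φ] A)) := by
      rintro _ ⟨a, rfl⟩
      rw [← conjBy_eq_self_iff, hconj, hmap hCinv a]
    have hcard : (Nat.card A').Coprime (Nat.card (C.map ι)) := by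
      rw [card_map_of_injective hι]
      refine (hcop.coprime_dvd_right (card_subgroup_dvd_card C)).coprime_dvd_left ?_
      exact card_range_dvd _
    obtain ⟨x, hx, hxA⟩ := exists_invariant_conj hA'C hcard
      (Or.inl (Group.isSolvable_of_surjective (MonoidHom.rangeRestrict_surjective
        (SemidirectProduct.inr : A →* G ⋊[φ] A))))
      (S := Q₀.map ι) (by
        rintro _ ⟨a, rfl⟩
        have h1 : IsSylowIn q (Q₀.map (φ a).toMonoidHom) K :=
          ⟨(map_mono hQ₀.1).trans (hmap hKinv a).le, by rw [card_map_of_injective (φ a).injective, hQ₀.2]⟩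
        have h2 : M ≤ normalizer (Q₀.map (φ a).toMonoidHom : Set G) := by
          rw [show normalizer (Q₀.map (φ a).toMonoidHom : Set G) =
            (normalizer (Q₀ : Set G)).map (φ a).toMonoidHom from (map_equiv_normalizer_eq Q₀ (φ a)).symm]
          exact (hmap hMinv a).ge.trans (map_mono hQ₀M)
        obtain ⟨c, hc, hcQ⟩ := invariant_sylow_conj hMK hKcop (Or.inl inferInstance) hQ₀ h1 hQ₀M h2
        refine ⟨ι c, ⟨c, hc, rfl⟩, ?_⟩
        rw [hconj, ← conjBy_map ι c Q₀, hcQ])
    obtain ⟨c, hc, rfl⟩ := hx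
    refine ⟨conjBy c Q₀, hQ₀.conjBy (le_normalizer hc.1), ?_, fun a g hg => ?_⟩
    · intro m hm
      have h1 : c * m * c⁻¹ = m := by rw [← mem_centralizer_iff.1 hc.2 m hm, mul_inv_cancel_right]
      rw [← conjBy_eq_self_iff, conjBy_conjBy, show m * c = c * m from mem_centralizer_iff.1 hc.2 m hm,
        ← conjBy_conjBy, conjBy_eq_self_iff.2 (hQ₀M hm)]
    · have h1 := conjBy_eq_self_iff.2 (hxA ⟨a, rfl⟩)
      rw [← conjBy_map ι c Q₀, hconj] at h1
      exact (map_injective hι h1) ▸ ⟨g, hg, rfl⟩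
  have hQne : Q ≠ ⊥ := fun e => by
    have h1 := hQ.2
    rw [e, card_bot] at h1
    have h2 := hq.factorization_pos_of_dvd Nat.card_pos.ne' hqK
    have := Nat.one_lt_pow h2.ne' hq.one_lt
    omega
  have htop : M ⊔ Q = ⊤ := by
    by_contra h
    exact hQne (le_bot_iff.1 ((inf_eq_bot_of_coprime hKcop) ▸
      le_inf (left_eq_sup.1 (hMmax _ le_sup_left h (hMKinv hMinv hQinv)).symm) hQ.1))
  have hKQ : K = Q := by
    refine le_antisymm (fun x hx => ?_) hQ.1
    have hx' : x ∈ Q ⊔ M := by rw [sup_comm, htop]; trivial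
    obtain ⟨a, ha, m, hm, rfl⟩ := mem_sup_exists hQM hx'
    have hm' : m ∈ M ⊓ K := ⟨hm, by
      have := mul_mem (inv_mem (hQ.1 ha)) hx
      rwa [inv_mul_cancel_left] at this⟩
    rw [inf_eq_bot_of_coprime hKcop, mem_bot] at hm'
    rwa [hm', mul_one]
  haveI : Group.IsNilpotent K := by
    haveI := (hKQ ▸ hQ.isPGroup : IsPGroup q K).isNilpotent
    infer_instance
  haveI : Group.IsSolvable (G ⧸ K) := by
    refine Group.isSolvable_of_surjective (f := (QuotientGroup.mk' K).comp M.subtype) fun x => ?_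
    obtain ⟨g, rfl⟩ := QuotientGroup.mk'_surjective K x
    obtain ⟨m, hm, c, hc, rfl⟩ := mem_sup_of_normal_right.1 (hsup.ge (mem_top g))
    refine ⟨⟨m, hm⟩, ?_⟩
    show QuotientGroup.mk' K m = QuotientGroup.mk' K (m * c)
    rw [map_mul, show QuotientGroup.mk' K c = 1 from (QuotientGroup.eq_one_iff c).2 hc, mul_one]
  exact Group.isSolvable_of_ker_le_range K.subtype (QuotientGroup.mk' K)
    (by rw [QuotientGroup.ker_mk', range_subtype])

/-- Let A and G be finite groups of coprime orders with A acting on G by automorphisms. Suppose G has a proper A-invariant subgroup M, maximal among proper A-invariant subgroups, which is nilpotent and whose Sylow 2-subgroups have nilpotency class at most 2. Then G is solvable. -/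
theorem result {G A : Type*} [Group G] [Finite G]
    [Group A] [Finite A] (φ : A →* MulAut G) (hcop : (Nat.card A).Coprime (Nat.card G))
    (M : Subgroup G) (hMtop : M ≠ ⊤) (hMinv : ∀ a : A, ∀ m : G, m ∈ M → φ a m ∈ M)
    (hMmax : ∀ H : Subgroup G, M ≤ H → H ≠ ⊤ → (∀ a : A, ∀ h : G, h ∈ H → φ a h ∈ H) → H = M)
    (hnil : Group.IsNilpotent M) (h2 : ∀ S : Sylow 2 ↥M, Group.nilpotencyClass ↥(S : Subgroup ↥M) ≤ 2) :
    Group.IsSolvable G := by
  refine solvable_aux _ G rfl φ hcop M hMtop hMinv hMmax hnil fun a ha b hb c hc ha2 hb2 hc2 => ?_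
  haveI := hnil
  haveI : Fact (Nat.Prime 2) := ⟨Nat.prime_two⟩
  let S : Sylow 2 ↥M := default
  haveI : Unique (Sylow 2 M) := Sylow.unique_of_normal S inferInstance
  have hmem : ∀ x : M, (∃ i, (x : G) ^ 2 ^ i = 1) → x ∈ (S : Subgroup M) := by
    rintro x ⟨i, hi⟩
    have hx : IsPGroup 2 (Subgroup.zpowers x) := by
      intro z
      obtain ⟨n, hn⟩ := Subgroup.mem_zpowers_iff.1 z.2
      refine ⟨i, Subtype.ext ?_⟩
      rw [SubmonoidClass.coe_pow, ← hn, ← zpow_natCast, ← zpow_mul, mul_comm, zpow_mul, zpow_natCast,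
        show x ^ 2 ^ i = 1 from Subtype.ext hi, one_zpow]
      rfl
    obtain ⟨R, hR⟩ := hx.exists_le_sylow
    exact Subsingleton.elim R S ▸ hR (Subgroup.mem_zpowers x)
  haveI : Group.IsNilpotent (S : Subgroup M) := S.2.isNilpotent
  have h1 : (⟨⟨a, ha⟩, hmem _ ha2⟩ : (S : Subgroup M)) ∈
      Subgroup.upperCentralSeries (S : Subgroup M) (1 + 1) := by
    rw [Subgroup.upperCentralSeries_eq_top_iff_nilpotencyClass_le.2 (h2 S)]; trivial
  have h3 := Subgroup.mem_upperCentralSeries_succ_iff.1 h1 ⟨⟨b, hb⟩, hmem _ hb2⟩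
  rw [Subgroup.upperCentralSeries_one] at h3
  exact (congrArg (fun z : (S : Subgroup M) => ((z : M) : G))
    (mem_center_iff.1 h3 ⟨⟨c, hc⟩, hmem _ hc2⟩)).symm

end Cfsg.Agent.S4038
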