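import Cfsg.Statements.S4039
import Cfsg.Agent.Lib.PGroup.FixedPointFree
import Cfsg.Agent.Lib.Coprime.Action
import Cfsg.Agent.Lib.Fusion.PComplement

set_option autoImplicit false
open Cfsg

namespace Cfsg.Agent.S4039
open Subgroup CfsgLib.Coprime
open scoped commutatorElement

/-- The local condition for a Sylow subgroup of a nilpotent maximal subgroup of class two. -/
theorem local_centralizes {G : Type*} [Group G] [Finite G] (p : ℕ) [Fact p.Prime] {M P : Subgroup G}
    (hPM : P ≤ M) (hMP : M ≤ normalizer (P : Set G)) (hc2 : ∀ a ∈ M, ∀ b ∈ M, ∀ c ∈ M, Commute ⁅a, b⁆ c)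
    (hP : IsPGroup p P) (hnorm : ∀ X : Subgroup G, X ≤ P → X ≠ ⊥ → M ≤ normalizer (X : Set G) →
      normalizer (X : Set G) = M) {Q : Subgroup G} (hQ : Q ≤ P)
    (hsyl : ¬ p ∣ (P ⊓ normalizer (Q : Set G)).relIndex (normalizer (Q : Set G))) {g : G}
    (hg : g ∈ normalizer (Q : Set G)) (hgp : (orderOf g).Coprime p) : g ∈ centralizer (Q : Set G) := by
  by_cases hPb : P = ⊥
  · refine mem_centralizer_iff.2 fun u hu => ?_
    rw [show u = 1 from mem_bot.1 (hPb ▸ hQ hu), one_mul, mul_one]
  set N := normalizer (Q : Set G) with hN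
  set C := centralizer (Q : Set G) with hC
  have hCN : C ≤ N := centralizer_le_normalizer _
  set E := P ⊓ C with hE
  have hEN : E ≤ P ⊓ N := inf_le_inf_left P hCN
  -- the centre of `P` lies in `E`
  have hZ : ∀ a ∈ M, ∀ b ∈ P, ⁅a, b⁆ ∈ E := by
    intro a ha b hb
    refine Subgroup.mem_inf.2 ⟨?_, mem_centralizer_iff.2 fun u hu => ?_⟩
    · rw [_root_.commutatorElement_def]
      exact mul_mem ((mem_normalizer_iff.1 (hMP ha) b).1 hb) (inv_mem hb)
    · exact (hc2 a ha b (hPM hb) u (hPM (hQ hu))).eq.symm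
  have hME : M ≤ normalizer (E : Set G) := by
    intro a ha
    rw [mem_normalizer_iff]
    have hh : ∀ a ∈ M, ∀ e ∈ E, a * e * a⁻¹ ∈ E := fun a ha e he => by
      rw [show a * e * a⁻¹ = ⁅a, e⁆ * e by rw [_root_.commutatorElement_def]; group]
      exact mul_mem (hZ a ha e he.1) he
    refine fun e => ⟨hh a ha e, fun he => ?_⟩
    simpa [mul_assoc] using hh _ (inv_mem ha) _ he
  have hE1 : E ≠ ⊥ := fun he => by
    haveI : Nontrivial P := (nontrivial_iff_ne_bot P).2 hPb
    haveI := hP.center_nontrivial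
    obtain ⟨z, hz⟩ := exists_ne (1 : center P)
    refine hz (Subtype.ext (Subtype.ext ?_))
    have : ((z : P) : G) ∈ E := Subgroup.mem_inf.2 ⟨(z : P).2, mem_centralizer_iff.2 fun u hu =>
      congrArg Subtype.val (mem_center_iff.1 z.2 ⟨u, hQ hu⟩)⟩
    rw [he, mem_bot] at this
    exact this
  have hNE := hnorm E inf_le_left hE1 hME
  -- `E` is a Sylow subgroup of `C`
  have hEC : ¬ p ∣ E.relIndex C := by
    intro hd
    haveI : (C.subgroupOf N).Normal := inferInstance
    obtain ⟨S, hS⟩ : ∃ S : Sylow p N, (S : Subgroup N) = (P ⊓ N).subgroupOf N :=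
      ⟨((hP.to_le inf_le_left).of_equiv (subgroupOfEquivOfLe inf_le_right).symm).toSylow hsyl, rfl⟩
    refine CfsgLib.Fusion.not_dvd_relIndex_inf_of_normal S (C.subgroupOf N) ?_
    rw [hS, ← relIndex_map_map_of_injective _ _ N.subtype_injective, map_subgroupOf_eq_of_le hCN,
      Subgroup.map_inf _ _ _ N.subtype_injective, map_subgroupOf_eq_of_le hCN, map_subgroupOf_eq_of_le inf_le_right]
    rwa [show P ⊓ N ⊓ C = E by rw [hE, inf_assoc, inf_eq_right.2 hCN]]
  -- Frattini argument
  obtain ⟨c, hcC, hcg⟩ : ∃ c ∈ C, c * g ∈ normalizer (E : Set G) := by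
    have hgE : conjBy g E ≤ C := by
      rintro _ ⟨e, he, rfl⟩
      refine mem_centralizer_iff.2 fun u hu => ?_
      have h1 := mem_centralizer_iff.1 he.2 _
        (show g⁻¹ * u * g ∈ (Q : Set G) by simpa using (mem_normalizer_iff.1 (inv_mem hg) u).1 hu)
      show u * (g * e * g⁻¹) = g * e * g⁻¹ * u
      calc u * (g * e * g⁻¹) = g * (g⁻¹ * u * g * e) * g⁻¹ := by group
        _ = g * (e * (g⁻¹ * u * g)) * g⁻¹ := by rw [h1]
        _ = g * e * g⁻¹ * u := by group
    let T : Sylow p C := ((hP.to_le (inf_le_left : E ≤ P)).of_equiv (subgroupOfEquivOfLe inf_le_right).symm).toSylow hEC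
    obtain ⟨T', hT'⟩ := (((hP.to_le (inf_le_left : E ≤ P)).map (MulAut.conj g).toMonoidHom).of_equiv
      (subgroupOfEquivOfLe hgE).symm).exists_le_sylow (G := C)
    obtain ⟨c, hc⟩ := MulAction.exists_smul_eq C T' T
    refine ⟨c, c.2, ?_⟩
    rw [← conjBy_eq_self_iff, ← conjBy_conjBy]
    refine eq_of_le_of_card_ge ?_ (by rw [card_conjBy, card_conjBy])
    rintro _ ⟨v, hv, rfl⟩
    have h1 : (⟨(c : G) * v * (c : G)⁻¹, mul_mem (mul_mem c.2 (hgE hv)) (inv_mem c.2)⟩ : C) ∈ ((c • T' : Sylow p C) : Subgroup C) :=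
      ⟨⟨v, hgE hv⟩, hT' hv, rfl⟩
    rw [hc] at h1
    exact h1
  rw [hNE] at hcg
  -- a power of `c * g` centralizes `Q`
  obtain ⟨k, hk⟩ := hP.exists_card_eq
  have hpow : (c * g) ^ p ^ k ∈ C := by
    refine mem_centralizer_iff.2 fun u hu => ?_
    have huP : u ∈ P := hQ hu
    set z := ⁅c * g, u⁆ with hz
    have hzc : ∀ v ∈ M, Commute z v := hc2 _ hcg u (hPM huP)
    have hzP : z ∈ P := (hZ _ hcg u huP).1
    have hi : ∀ i : ℕ, (c * g) ^ i * u * ((c * g) ^ i)⁻¹ = z ^ i * u := by
      intro i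
      induction i with
      | zero => simp
      | succ i ihi =>
        rw [pow_succ' (c * g), show c * g * (c * g) ^ i * u * (c * g * (c * g) ^ i)⁻¹ =
          c * g * ((c * g) ^ i * u * ((c * g) ^ i)⁻¹) * (c * g)⁻¹ by simp only [mul_inv_rev, mul_assoc], ihi]
        calc c * g * (z ^ i * u) * (c * g)⁻¹ = (c * g * z ^ i) * u * (c * g)⁻¹ := by group
          _ = z ^ i * (c * g) * u * (c * g)⁻¹ := by rw [((hzc _ hcg).pow_left i).eq]
          _ = z ^ i * z * u := by rw [hz, _root_.commutatorElement_def]; group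
          _ = z ^ (i + 1) * u := by rw [pow_succ]
    have h1 := hi (p ^ k)
    rw [← hk, show z ^ Nat.card P = 1 from congrArg Subtype.val (pow_card_eq_one' (x := (⟨z, hzP⟩ : P))), one_mul, hk] at h1
    exact (mul_inv_eq_iff_eq_mul.1 h1).symm
  haveI hCn : (C.subgroupOf N).Normal := inferInstance
  have hgq : QuotientGroup.mk' (C.subgroupOf N) (⟨g, hg⟩ : N) ^ p ^ k = 1 := by
    have e : QuotientGroup.mk' (C.subgroupOf N) (⟨g, hg⟩ : N) =
        QuotientGroup.mk' (C.subgroupOf N) (⟨c * g, mul_mem (hCN hcC) hg⟩ : N) := by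
      rw [show (⟨c * g, mul_mem (hCN hcC) hg⟩ : N) = ⟨c, hCN hcC⟩ * ⟨g, hg⟩ from rfl, map_mul,
        show QuotientGroup.mk' (C.subgroupOf N) (⟨c, hCN hcC⟩ : N) = 1 from (QuotientGroup.eq_one_iff _).2 hcC, one_mul]
    rw [e, ← map_pow]
    exact (QuotientGroup.eq_one_iff _).2 hpow
  have h1 := orderOf_eq_one_iff.1 (Nat.eq_one_of_dvd_coprimes (hgp.pow_right k)
    ((orderOf_map_dvd (QuotientGroup.mk' (C.subgroupOf N)) (⟨g, hg⟩ : N)).trans (by rw [Subgroup.orderOf_mk]))
    (orderOf_dvd_of_pow_eq_one hgq))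
  exact (QuotientGroup.eq_one_iff (⟨g, hg⟩ : N)).1 h1

private theorem solvable_aux.{u} : ∀ (k : ℕ) (G : Type u) [Group G] [Finite G], Nat.card G = k →
    ∀ M : Subgroup G, IsCoatom M → Group.IsNilpotent M → (∀ a ∈ M, ∀ b ∈ M, ∀ c ∈ M, Commute ⁅a, b⁆ c) →
      Group.IsSolvable G := by
  intro k
  induction k using Nat.strong_induction_on with
  | _ k ih =>
  intro G _ _ hk M hmax hnil hc2
  haveI := hnil
  classical
  by_cases hcore : ∃ N : Subgroup G, N.Normal ∧ N ≠ ⊥ ∧ N ≤ M
  · -- pass to a quotient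
    obtain ⟨N, hN, hNne, hNM⟩ := hcore
    haveI := hN
    haveI : Group.IsNilpotent N :=
      Group.nilpotent_of_mulEquiv (Subgroup.subgroupOfEquivOfLe hNM)
    set π := QuotientGroup.mk' N
    have hlt : Nat.card (G ⧸ N) < k := by
      rw [← index_eq_card, ← hk, ← N.card_mul_index]
      exact lt_mul_of_one_lt_left (Nat.pos_of_ne_zero FiniteIndex.index_ne_zero)
        ((one_lt_card_iff_ne_bot N).2 hNne)
    have hcomap : (M.map π).comap π = M := by
      rw [comap_map_eq, QuotientGroup.ker_mk', sup_eq_left.2 hNM]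
    have hmax' : IsCoatom (M.map π) := by
      refine ⟨fun e => hmax.1 ?_, fun B hB => ?_⟩
      · rw [← hcomap, e, comap_top]
      · have h1 : M < B.comap π := by
          rw [← hcomap]
          exact (comap_lt_comap_of_surjective (QuotientGroup.mk'_surjective N)).2 hB
        have h2 := hmax.2 _ h1
        rw [← map_comap_eq_self_of_surjective (QuotientGroup.mk'_surjective N) B, h2,
          map_top_of_surjective π (QuotientGroup.mk'_surjective N)]
    haveI : Group.IsNilpotent (M.map π) :=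
      Group.nilpotent_of_surjective (π.subgroupMap M) (π.subgroupMap_surjective M)
    haveI := ih _ hlt (G ⧸ N) rfl (M.map π) hmax' inferInstance (by
      rintro _ ⟨a, ha, rfl⟩ _ ⟨b, hb, rfl⟩ _ ⟨c, hc, rfl⟩
      rw [← map_commutatorElement]
      exact (hc2 a ha b hb c hc).map π)
    exact Group.isSolvable_of_ker_le_range N.subtype π (by rw [QuotientGroup.ker_mk', range_subtype])
  push Not at hcore
  by_cases hMbot : M = ⊥
  · -- prime order
    subst hMbot
    refine Group.isSolvable_of_comm fun a b => ?_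
    rcases eq_or_ne a 1 with rfl | ha
    · simp
    have h1 : zpowers a = ⊤ := hmax.2 _ (bot_lt_iff_ne_bot.2 fun e => ha (zpowers_eq_bot.1 e))
    obtain ⟨j, rfl⟩ := mem_zpowers_iff.1 (h1.ge (mem_top b))
    exact (Commute.self_zpow a j).eq
  -- normal complements for the primes of `M`
  have key : ∀ p : ℕ, p.Prime → p ∣ Nat.card M → Cfsg.HasNormalPComplement p G := by
    intro p hp hpM
    haveI : Fact p.Prime := ⟨hp⟩
    let PM : Sylow p M := default
    haveI hPMn : (PM : Subgroup M).Normal := inferInstance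
    set P₀ := (PM : Subgroup M).map M.subtype with hP₀
    have hP₀ne : P₀ ≠ ⊥ := by
      rw [hP₀, Ne, map_eq_bot_iff_of_injective _ M.subtype_injective]
      exact PM.ne_bot_of_dvd_card hpM
    have hP₀M : P₀ ≤ M := map_subtype_le _
    have hMN : M ≤ normalizer (P₀ : Set G) := by
      rw [← range_subtype M]
      have h1 : (normalizer ((PM : Subgroup M) : Set M)).map M.subtype ≤ normalizer (P₀ : Set G) :=
        le_normalizer_map M.subtype
      rwa [normalizer_eq_top_iff.2 hPMn, ← MonoidHom.range_eq_map] at h1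
    have hnorm : ∀ X : Subgroup G, X ≠ ⊥ → X ≤ M → M ≤ normalizer (X : Set G) →
        normalizer (X : Set G) = M := by
      intro X hX hXM hMX
      rcases hMX.eq_or_lt with h | h
      · exact h.symm
      · exact absurd hXM (hcore X (normalizer_eq_top_iff.1 (hmax.2 _ h)) hX)
    have hNP := hnorm P₀ hP₀ne hP₀M hMN
    obtain ⟨P, hP⟩ := ((PM.isPGroup'.map M.subtype : IsPGroup p P₀)).exists_le_sylow
    have heq : P₀ = (P : Subgroup G) := by
      by_contra hne
      have hlt : P₀.subgroupOf (P : Subgroup G) < ⊤ := lt_top_iff_ne_top.2 fun e =>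
        hne (le_antisymm hP (subgroupOf_eq_top.1 e))
      haveI : Group.IsNilpotent (P : Subgroup G) := P.2.isNilpotent
      obtain ⟨g, hg, hg'⟩ := SetLike.exists_of_lt (Group.normalizerCondition_of_isNilpotent _ hlt)
      rw [← subgroupOf_normalizer_eq hP, mem_subgroupOf, hNP] at hg
      -- `g` is a `p`-element of `M`, hence in its Sylow subgroup
      have hgp : IsPGroup p (zpowers (⟨(g : G), hg⟩ : M)) := by
        obtain ⟨j, hj⟩ := IsPGroup.iff_orderOf.1 P.2 g
        exact IsPGroup.of_card (n := j) (by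
          rw [Nat.card_zpowers, ← Subgroup.orderOf_coe]
          show orderOf (g : G) = p ^ j
          rw [Subgroup.orderOf_coe, hj])
      obtain ⟨T, hT⟩ := hgp.exists_le_sylow
      haveI : Unique (Sylow p M) := Sylow.unique_of_normal PM hPMn
      exact hg' (mem_subgroupOf.2 ⟨⟨(g : G), hg⟩,
        by rw [← Subsingleton.elim T PM]; exact hT (mem_zpowers _), rfl⟩)
    rw [heq] at hP₀ne hP₀M hMN hNP
    refine CfsgLib.Fusion.hasNormalPComplement_of_locallyPNilpotentAction P fun Q hQ g hg hgp => ?_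
    -- conjugate `Q` so that the Sylow subgroup meets its normalizer in a Sylow subgroup
    obtain ⟨R⟩ : Nonempty (Sylow p (normalizer (Q : Set G))) := inferInstance
    obtain ⟨P₂, hP₂⟩ := (R.2.map (normalizer (Q : Set G)).subtype).exists_le_sylow
    obtain ⟨x, hx⟩ := MulAction.exists_smul_eq G P₂ P
    have hx' : conjBy x (P₂ : Subgroup G) = P := by rw [← hx]; rfl
    have hQR : Q.subgroupOf (normalizer (Q : Set G)) ≤ R := by
      haveI : (Q.subgroupOf (normalizer (Q : Set G))).Normal := normal_in_normalizer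
      exact le_sup_left.trans (R.is_maximal'
        (IsPGroup.to_sup_of_normal_left ((P.2.to_le hQ).of_equiv (subgroupOfEquivOfLe le_normalizer).symm) R.2) le_sup_right).le
    have hQ2 : Q ≤ P₂ := fun u hu => hP₂ ⟨⟨u, le_normalizer hu⟩, hQR hu, rfl⟩
    have hg' : x * g * x⁻¹ ∈ normalizer (conjBy x Q : Set G) := by
      rw [← conjBy_eq_self_iff, conjBy_conjBy, show x * g * x⁻¹ * x = x * g by group, ← conjBy_conjBy,
        conjBy_eq_self_iff.2 hg]
    have key2 := local_centralizes p (P := (P : Subgroup G)) hP₀M hMN hc2 P.2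
      (fun X hXP hX hMX => hnorm X hX (hXP.trans hP₀M) hMX)
      (Q := conjBy x Q) (hx' ▸ map_mono hQ2) (by
        rw [show normalizer (conjBy x Q : Set G) = conjBy x (normalizer (Q : Set G)) from
            (map_equiv_normalizer_eq Q (MulAut.conj x)).symm, ← hx', conjBy, conjBy,
          ← Subgroup.map_inf _ _ _ (MulEquiv.injective _), relIndex_map_map_of_injective _ _ (MulEquiv.injective _)]
        intro hd
        refine R.not_dvd_index ?_
        refine hd.trans ?_
        rw [inf_relIndex_right]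
        refine dvd_trans (relIndex_dvd_of_le_left (normalizer (Q : Set G)) hP₂) ?_
        rw [relIndex, subgroupOf, comap_map_eq_self_of_injective (normalizer (Q : Set G)).subtype_injective])
      hg' (by rwa [← MulAut.conj_apply, MulEquiv.orderOf_eq])
    refine mem_centralizer_iff.2 fun u hu => ?_
    have h1 := mem_centralizer_iff.1 key2 _ (conj_mem_conjBy (g := x) hu)
    have h2 : x * (u * g) * x⁻¹ = x * (g * u) * x⁻¹ := by
      calc x * (u * g) * x⁻¹ = x * u * x⁻¹ * (x * g * x⁻¹) := by group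
        _ = x * g * x⁻¹ * (x * u * x⁻¹) := h1
        _ = x * (g * u) * x⁻¹ := by group
    simpa using h2
  set S := (Nat.card M).primeFactors
  let K : Subgroup G := ⨅ p ∈ S, Cfsg.pResidual p G
  haveI hKn : K.Normal := normal_iInf_normal fun p => normal_iInf_normal fun _ =>
    CfsgLib.Fusion.pResidual_normal
  have hKcop : (Nat.card M).Coprime (Nat.card K) := Nat.coprime_of_dvd fun p hp h1 h2 => by
    haveI : Fact p.Prime := ⟨hp⟩
    exact CfsgLib.Fusion.hasNormalPComplement_iff_not_dvd.1 (key p hp h1)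
      (h2.trans (card_dvd_of_le (iInf₂_le p (Nat.mem_primeFactors.2 ⟨hp, h1, Nat.card_pos.ne'⟩))))
  by_cases hKbot : K = ⊥
  · -- `G` is nilpotent
    have hd : ∀ p ∈ S, ∃ n, derivedSeries G n ≤ Cfsg.pResidual p G := by
      intro p hp
      haveI : Fact p.Prime := ⟨Nat.prime_of_mem_primeFactors hp⟩
      haveI := CfsgLib.Fusion.pResidual_normal (G := G) (p := p)
      haveI := (CfsgLib.Fusion.isPGroup_quotient_pResidual (p := p) (Cfsg.pResidual p G)
        le_rfl).isNilpotent
      obtain ⟨n, hn⟩ := (inferInstance : Group.IsSolvable (G ⧸ Cfsg.pResidual p G)).solvable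
      refine ⟨n, fun x hx => ?_⟩
      have h1 := map_derivedSeries_le_derivedSeries (QuotientGroup.mk' (Cfsg.pResidual p G)) n
        ⟨x, hx, rfl⟩
      rw [hn, mem_bot] at h1
      exact (QuotientGroup.eq_one_iff x).1 h1
    choose! n hn using hd
    refine ⟨⟨S.sup n, ?_⟩⟩
    rw [eq_bot_iff, ← hKbot]
    exact le_iInf₂ fun p hp => (derivedSeries_antitone G (Finset.le_sup hp)).trans (hn p hp)
  -- `M` acts coprimely on `K`
  have hsup : M ⊔ K = ⊤ := hmax.2 _ (left_lt_sup.2 fun h => hcore K hKn hKbot h)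
  have hMK : M ≤ normalizer (K : Set G) := by rw [normalizer_eq_top]; exact le_top
  obtain ⟨q, hq, hqK⟩ := Nat.exists_prime_and_dvd (show Nat.card K ≠ 1 from fun h =>
    hKbot (eq_bot_of_card_eq K h))
  haveI : Fact q.Prime := ⟨hq⟩
  obtain ⟨Q, hQ, hQM⟩ := exists_invariant_sylow (A := M) (K := K) hMK hKcop
    (Or.inl inferInstance) q
  have hQne : Q ≠ ⊥ := fun e => by
    have h1 := hQ.2
    rw [e, card_bot] at h1
    have h2 := hq.factorization_pos_of_dvd Nat.card_pos.ne' hqK
    have := Nat.one_lt_pow h2.ne' hq.one_lt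
    omega
  have htop : M ⊔ Q = ⊤ := hmax.2 _ (left_lt_sup.2 fun h => hQne
    (le_bot_iff.1 ((inf_eq_bot_of_coprime hKcop) ▸ le_inf h hQ.1)))
  have hKQ : K = Q := by
    refine le_antisymm (fun x hx => ?_) hQ.1
    have hx' : x ∈ Q ⊔ M := by rw [sup_comm, htop]; trivial
    obtain ⟨a, ha, m, hm, rfl⟩ := mem_sup_exists hQM hx'
    have hm' : m ∈ M ⊓ K := ⟨hm, by
      have := mul_mem (inv_mem (hQ.1 ha)) hx
      rwa [inv_mul_cancel_left] at this⟩
    rw [inf_eq_bot_of_coprime hKcop, mem_bot] at hm'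
    rwa [hm', mul_one]
  haveI : Group.IsNilpotent K := by
    haveI := (hKQ ▸ hQ.isPGroup : IsPGroup q K).isNilpotent
    infer_instance
  haveI : Group.IsSolvable (G ⧸ K) := by
    refine Group.isSolvable_of_surjective (f := (QuotientGroup.mk' K).comp M.subtype) fun x => ?_
    obtain ⟨g, rfl⟩ := QuotientGroup.mk'_surjective K x
    obtain ⟨m, hm, c, hc, rfl⟩ := mem_sup_of_normal_right.1 (hsup.ge (mem_top g))
    refine ⟨⟨m, hm⟩, ?_⟩
    show QuotientGroup.mk' K m = QuotientGroup.mk' K (m * c)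
    rw [map_mul, (QuotientGroup.eq_one_iff c).2 hc |> fun h => (show QuotientGroup.mk' K c = 1 from h),
      mul_one]
  exact Group.isSolvable_of_ker_le_range K.subtype (QuotientGroup.mk' K)
    (by rw [QuotientGroup.ker_mk', range_subtype])


/-- A finite group possessing a maximal subgroup that is nilpotent of class at most 2 is solvable. -/
theorem result {G : Type*} [Group G] [Finite G]
    (M : Subgroup G) (hmax : IsCoatom M) (hnil : Group.IsNilpotent M) (hcl : Group.nilpotencyClass ↥M ≤ 2) :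
    Group.IsSolvable G := by
  refine solvable_aux _ G rfl M hmax hnil fun a ha b hb c hc => ?_
  haveI := hnil
  have h1 : (⟨a, ha⟩ : M) ∈ Subgroup.upperCentralSeries M (1 + 1) := by
    rw [Subgroup.upperCentralSeries_eq_top_iff_nilpotencyClass_le.2 hcl]; trivial
  have h2 := Subgroup.mem_upperCentralSeries_succ_iff.1 h1 ⟨b, hb⟩
  rw [Subgroup.upperCentralSeries_one] at h2
  exact (congrArg Subtype.val (mem_center_iff.1 h2 ⟨c, hc⟩)).symm

end Cfsg.Agent.S4039
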