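import Cfsg.Statements.S4040
import Cfsg.Agent.Lib.PGroup.FixedPointFree
import Cfsg.Agent.Lib.Coprime.Action

set_option autoImplicit false
open Cfsg

namespace Cfsg.Agent.S4040

open Subgroup CfsgLib.Coprime

private theorem solvable_aux.{u} : ∀ (k : ℕ) (G : Type u) [Group G] [Finite G], Nat.card G = k →
    ∀ M : Subgroup G, IsCoatom M → Group.IsNilpotent M → Odd (Nat.card M) →
      Group.IsSolvable G := by
  intro k
  induction k using Nat.strong_induction_on with
  | _ k ih =>
  intro G _ _ hk M hmax hnil hodd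
  haveI := hnil
  classical
  by_cases hcore : ∃ N : Subgroup G, N.Normal ∧ N ≠ ⊥ ∧ N ≤ M
  · -- pass to a quotient
    obtain ⟨N, hN, hNne, hNM⟩ := hcore
    haveI := hN
    haveI : Group.IsNilpotent N :=
      Group.nilpotent_of_mulEquiv (Subgroup.subgroupOfEquivOfLe hNM)
    set π := QuotientGroup.mk' N
    have hlt : Nat.card (G ⧸ N) < k := by
      rw [← index_eq_card, ← hk, ← N.card_mul_index]
      exact lt_mul_of_one_lt_left (Nat.pos_of_ne_zero FiniteIndex.index_ne_zero)
        ((one_lt_card_iff_ne_bot N).2 hNne)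
    have hcomap : (M.map π).comap π = M := by
      rw [comap_map_eq, QuotientGroup.ker_mk', sup_eq_left.2 hNM]
    have hmax' : IsCoatom (M.map π) := by
      refine ⟨fun e => hmax.1 ?_, fun B hB => ?_⟩
      · rw [← hcomap, e, comap_top]
      · have h1 : M < B.comap π := by
          rw [← hcomap]
          exact (comap_lt_comap_of_surjective (QuotientGroup.mk'_surjective N)).2 hB
        have h2 := hmax.2 _ h1
        rw [← map_comap_eq_self_of_surjective (QuotientGroup.mk'_surjective N) B, h2,
          map_top_of_surjective π (QuotientGroup.mk'_surjective N)]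
    haveI : Group.IsNilpotent (M.map π) :=
      Group.nilpotent_of_surjective (π.subgroupMap M) (π.subgroupMap_surjective M)
    haveI := ih _ hlt (G ⧸ N) rfl (M.map π) hmax' inferInstance
      (Odd.of_dvd_nat hodd (card_map_dvd M π))
    exact Group.isSolvable_of_ker_le_range N.subtype π (by rw [QuotientGroup.ker_mk', range_subtype])
  push Not at hcore
  by_cases hMbot : M = ⊥
  · -- prime order
    subst hMbot
    refine Group.isSolvable_of_comm fun a b => ?_
    rcases eq_or_ne a 1 with rfl | ha
    · simp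
    have h1 : zpowers a = ⊤ := hmax.2 _ (bot_lt_iff_ne_bot.2 fun e => ha (zpowers_eq_bot.1 e))
    obtain ⟨j, rfl⟩ := mem_zpowers_iff.1 (h1.ge (mem_top b))
    exact (Commute.self_zpow a j).eq
  -- normal complements for the primes of `M`
  have key : ∀ p : ℕ, p.Prime → p ∣ Nat.card M → Cfsg.HasNormalPComplement p G := by
    intro p hp hpM
    haveI : Fact p.Prime := ⟨hp⟩
    have hp2 : p ≠ 2 := fun e => by
      subst e
      exact absurd hpM (Nat.two_dvd_ne_zero.2 (Nat.odd_iff.1 hodd))
    let PM : Sylow p M := default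
    haveI hPMn : (PM : Subgroup M).Normal := inferInstance
    set P₀ := (PM : Subgroup M).map M.subtype with hP₀
    have hP₀ne : P₀ ≠ ⊥ := by
      rw [hP₀, Ne, map_eq_bot_iff_of_injective _ M.subtype_injective]
      exact PM.ne_bot_of_dvd_card hpM
    have hP₀M : P₀ ≤ M := map_subtype_le _
    have hMN : M ≤ normalizer (P₀ : Set G) := by
      rw [← range_subtype M]
      have h1 : (normalizer ((PM : Subgroup M) : Set M)).map M.subtype ≤ normalizer (P₀ : Set G) :=
        le_normalizer_map M.subtype
      rwa [normalizer_eq_top_iff.2 hPMn, ← MonoidHom.range_eq_map] at h1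
    have hnorm : ∀ X : Subgroup G, X ≠ ⊥ → X ≤ M → M ≤ normalizer (X : Set G) →
        normalizer (X : Set G) = M := by
      intro X hX hXM hMX
      rcases hMX.eq_or_lt with h | h
      · exact h.symm
      · exact absurd hXM (hcore X (normalizer_eq_top_iff.1 (hmax.2 _ h)) hX)
    have hNP := hnorm P₀ hP₀ne hP₀M hMN
    obtain ⟨P, hP⟩ := ((PM.isPGroup'.map M.subtype : IsPGroup p P₀)).exists_le_sylow
    have heq : P₀ = (P : Subgroup G) := by
      by_contra hne
      have hlt : P₀.subgroupOf (P : Subgroup G) < ⊤ := lt_top_iff_ne_top.2 fun e =>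
        hne (le_antisymm hP (subgroupOf_eq_top.1 e))
      haveI : Group.IsNilpotent (P : Subgroup G) := P.2.isNilpotent
      obtain ⟨g, hg, hg'⟩ := SetLike.exists_of_lt (Group.normalizerCondition_of_isNilpotent _ hlt)
      rw [← subgroupOf_normalizer_eq hP, mem_subgroupOf, hNP] at hg
      -- `g` is a `p`-element of `M`, hence in its Sylow subgroup
      have hgp : IsPGroup p (zpowers (⟨(g : G), hg⟩ : M)) := by
        obtain ⟨j, hj⟩ := IsPGroup.iff_orderOf.1 P.2 g
        exact IsPGroup.of_card (n := j) (by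
          rw [Nat.card_zpowers, ← Subgroup.orderOf_coe]
          show orderOf (g : G) = p ^ j
          rw [Subgroup.orderOf_coe, hj])
      obtain ⟨T, hT⟩ := hgp.exists_le_sylow
      haveI : Unique (Sylow p M) := Sylow.unique_of_normal PM hPMn
      exact hg' (mem_subgroupOf.2 ⟨⟨(g : G), hg⟩,
        by rw [← Subsingleton.elim T PM]; exact hT (mem_zpowers _), rfl⟩)
    rw [heq] at hP₀ne hP₀M hMN hNP
    have hPG : IsPGroup p (P : Subgroup G) := P.2
    have hMp : Cfsg.HasNormalPComplement p M :=
      CfsgLib.PGroup.hasNormalPComplement_of_isNilpotent p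
    have hJ : normalizer (Cfsg.thompsonSubgroupOf p (P : Subgroup G) : Set G) = M :=
      hnorm _ (CfsgLib.Fusion.thompsonSubgroupOf_ne_bot hPG hP₀ne)
        ((CfsgLib.Fusion.thompsonSubgroupOf_le _).trans hP₀M)
        (hMN.trans (CfsgLib.Fusion.normalizer_le_normalizer_thompsonSubgroupOf _))
    have hZ : normalizer (CfsgLib.Fusion.centerOf (P : Subgroup G) : Set G) = M :=
      hnorm _ (CfsgLib.Fusion.centerOf_ne_bot hPG hP₀ne) (inf_le_left.trans hP₀M)
        (hMN.trans (CfsgLib.Fusion.normalizer_le_normalizer_centerOf _))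
    refine CfsgLib.Fusion.hasNormalPComplement_of_thompson hp2 G P (by rw [hJ]; exact hMp) ?_
    have hle : centralizer (CfsgLib.Fusion.centerOf (P : Subgroup G) : Set G) ≤ M :=
      hZ ▸ centralizer_le_normalizer _
    exact CfsgLib.Fusion.hasNormalPComplement_of_injective (Subgroup.inclusion hle)
      (Subgroup.inclusion_injective hle) hMp
  set S := (Nat.card M).primeFactors
  let K : Subgroup G := ⨅ p ∈ S, Cfsg.pResidual p G
  haveI hKn : K.Normal := normal_iInf_normal fun p => normal_iInf_normal fun _ =>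
    CfsgLib.Fusion.pResidual_normal
  have hKcop : (Nat.card M).Coprime (Nat.card K) := Nat.coprime_of_dvd fun p hp h1 h2 => by
    haveI : Fact p.Prime := ⟨hp⟩
    exact CfsgLib.Fusion.hasNormalPComplement_iff_not_dvd.1 (key p hp h1)
      (h2.trans (card_dvd_of_le (iInf₂_le p (Nat.mem_primeFactors.2 ⟨hp, h1, Nat.card_pos.ne'⟩))))
  by_cases hKbot : K = ⊥
  · -- `G` is nilpotent
    have hd : ∀ p ∈ S, ∃ n, derivedSeries G n ≤ Cfsg.pResidual p G := by
      intro p hp
      haveI : Fact p.Prime := ⟨Nat.prime_of_mem_primeFactors hp⟩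
      haveI := CfsgLib.Fusion.pResidual_normal (G := G) (p := p)
      haveI := (CfsgLib.Fusion.isPGroup_quotient_pResidual (p := p) (Cfsg.pResidual p G)
        le_rfl).isNilpotent
      obtain ⟨n, hn⟩ := (inferInstance : Group.IsSolvable (G ⧸ Cfsg.pResidual p G)).solvable
      refine ⟨n, fun x hx => ?_⟩
      have h1 := map_derivedSeries_le_derivedSeries (QuotientGroup.mk' (Cfsg.pResidual p G)) n
        ⟨x, hx, rfl⟩
      rw [hn, mem_bot] at h1
      exact (QuotientGroup.eq_one_iff x).1 h1
    choose! n hn using hd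
    refine ⟨⟨S.sup n, ?_⟩⟩
    rw [eq_bot_iff, ← hKbot]
    exact le_iInf₂ fun p hp => (derivedSeries_antitone G (Finset.le_sup hp)).trans (hn p hp)
  -- `M` acts coprimely on `K`
  have hsup : M ⊔ K = ⊤ := hmax.2 _ (left_lt_sup.2 fun h => hcore K hKn hKbot h)
  have hMK : M ≤ normalizer (K : Set G) := by rw [normalizer_eq_top]; exact le_top
  obtain ⟨q, hq, hqK⟩ := Nat.exists_prime_and_dvd (show Nat.card K ≠ 1 from fun h =>
    hKbot (eq_bot_of_card_eq K h))
  haveI : Fact q.Prime := ⟨hq⟩
  obtain ⟨Q, hQ, hQM⟩ := exists_invariant_sylow (A := M) (K := K) hMK hKcop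
    (Or.inl inferInstance) q
  have hQne : Q ≠ ⊥ := fun e => by
    have h1 := hQ.2
    rw [e, card_bot] at h1
    have h2 := hq.factorization_pos_of_dvd Nat.card_pos.ne' hqK
    have := Nat.one_lt_pow h2.ne' hq.one_lt
    omega
  have htop : M ⊔ Q = ⊤ := hmax.2 _ (left_lt_sup.2 fun h => hQne
    (le_bot_iff.1 ((inf_eq_bot_of_coprime hKcop) ▸ le_inf h hQ.1)))
  have hKQ : K = Q := by
    refine le_antisymm (fun x hx => ?_) hQ.1
    have hx' : x ∈ Q ⊔ M := by rw [sup_comm, htop]; trivial
    obtain ⟨a, ha, m, hm, rfl⟩ := mem_sup_exists hQM hx'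
    have hm' : m ∈ M ⊓ K := ⟨hm, by
      have := mul_mem (inv_mem (hQ.1 ha)) hx
      rwa [inv_mul_cancel_left] at this⟩
    rw [inf_eq_bot_of_coprime hKcop, mem_bot] at hm'
    rwa [hm', mul_one]
  haveI : Group.IsNilpotent K := by
    haveI := (hKQ ▸ hQ.isPGroup : IsPGroup q K).isNilpotent
    infer_instance
  haveI : Group.IsSolvable (G ⧸ K) := by
    refine Group.isSolvable_of_surjective (f := (QuotientGroup.mk' K).comp M.subtype) fun x => ?_
    obtain ⟨g, rfl⟩ := QuotientGroup.mk'_surjective K x
    obtain ⟨m, hm, c, hc, rfl⟩ := mem_sup_of_normal_right.1 (hsup.ge (mem_top g))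
    refine ⟨⟨m, hm⟩, ?_⟩
    show QuotientGroup.mk' K m = QuotientGroup.mk' K (m * c)
    rw [map_mul, (QuotientGroup.eq_one_iff c).2 hc |> fun h => (show QuotientGroup.mk' K c = 1 from h),
      mul_one]
  exact Group.isSolvable_of_ker_le_range K.subtype (QuotientGroup.mk' K)
    (by rw [QuotientGroup.ker_mk', range_subtype])

/-- A finite group possessing a maximal subgroup that is nilpotent of odd order is solvable. -/
theorem result {G : Type*} [Group G] [Finite G]
    (M : Subgroup G) (hmax : IsCoatom M) (hnil : Group.IsNilpotent M) (hodd : Odd (Nat.card M)) :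
    Group.IsSolvable G := by
  exact solvable_aux _ G rfl M hmax hnil hodd

end Cfsg.Agent.S4040
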