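import Cfsg.Statements.S4043
-- import your own Cfsg.Agent.* helpers here
import Mathlib
import Cfsg.Agent.Lib.Coprime.SchurZassenhaus

set_option autoImplicit false
open Cfsg

namespace Cfsg.Agent.S4043

open Subgroup CfsgLib.Coprime

universe u
variable {G : Type u} [Group G] [Finite G] {p : ℕ} [hp : Fact p.Prime]

/-- The normal `p`-complement of a complement `A` of `N`, seen inside the whole group. -/
theorem exists_core (N : Subgroup G) [N.Normal] {A : Subgroup G} (hA : A.IsComplement' N)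
    (hAp : Cfsg.HasNormalPComplement p A) :
    ∃ (K P : Subgroup G), K ≤ A ∧ P ≤ A ∧ IsPGroup p P ∧ A ≤ normalizer (K : Set G) ∧ A ≤ K ⊔ P ∧
      (K.map (QuotientGroup.mk' N)).Normal ∧ Nat.card K * p ^ (N.index.factorization p) = N.index ∧
      (Nat.card K).Coprime p ∧
      ∀ x : G, (orderOf x).Coprime p → x ∈ K ⊔ N := by
  obtain ⟨P, M, hMn, hMc⟩ := hAp
  have hcA : Nat.card A = N.index := hA.index_eq_card.symm
  have hcP : Nat.card P = p ^ (N.index.factorization p) := by rw [P.card_eq_multiplicity, hcA]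
  have hcK : Nat.card (M.map A.subtype) = Nat.card M :=
    Nat.card_congr (M.equivMapOfInjective A.subtype A.subtype_injective).toEquiv.symm
  have hmul : Nat.card M * Nat.card P = Nat.card A := hMc.card_mul_card
  have hcop : (Nat.card M).Coprime p := by
    have h := P.not_dvd_index
    rw [hMc.index_eq_card] at h
    exact ((hp.out.coprime_iff_not_dvd).2 h).symm
  let f : A →* G ⧸ N := (QuotientGroup.mk' N).comp A.subtype
  have hf : Function.Surjective f := by
    intro y
    obtain ⟨x, rfl⟩ := QuotientGroup.mk'_surjective N y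
    obtain ⟨a, ha, n, hn, rfl⟩ := Subgroup.mem_sup_of_normal_right.1
      (show x ∈ A ⊔ N by rw [hA.sup_eq_top]; exact mem_top _)
    refine ⟨⟨a, ha⟩, ?_⟩
    simp only [f, MonoidHom.comp_apply, Subgroup.coe_subtype, map_mul]
    rw [QuotientGroup.mk'_apply, QuotientGroup.mk'_apply, (QuotientGroup.eq_one_iff n).2 hn,
      mul_one]
  have hmap : (M.map A.subtype).map (QuotientGroup.mk' N) = M.map f := Subgroup.map_map _ _ _
  have hnorm : (M.map f).Normal := hMn.map f hf
  refine ⟨M.map A.subtype, (P : Subgroup A).map A.subtype, map_subtype_le M,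
    map_subtype_le _, P.2.map _, ?_, ?_, ?_, ?_, ?_, ?_⟩
  · intro a ha
    refine Subgroup.mem_normalizer_fintype fun x hx => ?_
    obtain ⟨m, hm, rfl⟩ := hx
    exact ⟨⟨a, ha⟩ * m * ⟨a, ha⟩⁻¹, hMn.conj_mem m hm ⟨a, ha⟩, rfl⟩
  · rw [← Subgroup.map_sup, hMc.sup_eq_top, ← MonoidHom.range_eq_map, Subgroup.range_subtype]
  · rw [hmap]; exact hnorm
  · rw [hcK, ← hcP, hmul, hcA]
  · rwa [hcK]
  · intro x hx
    have hidx : (M.map f).index ∣ Nat.card P := by
      have h := M.index_map_dvd hf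
      rwa [hMc.symm.index_eq_card] at h
    have : QuotientGroup.mk' N x ∈ (M.map A.subtype).map (QuotientGroup.mk' N) := by
      rw [hmap, ← (QuotientGroup.eq_one_iff (N := M.map f) _), ← orderOf_eq_one_iff]
      refine Nat.eq_one_of_dvd_coprimes ?_ ((orderOf_map_dvd (QuotientGroup.mk' (M.map f)) _).trans
        (orderOf_map_dvd (QuotientGroup.mk' N) x)) ((_root_.orderOf_dvd_natCard _).trans hidx)
      rw [hcP]; exact hx.pow_right _
    rw [← Subgroup.mem_comap, Subgroup.comap_map_eq, QuotientGroup.ker_mk'] at this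
    exact this

/-- Without fixed points, the complement is the normalizer of its normal `p`-complement. -/
theorem normalizer_core (N : Subgroup G) [N.Normal] (hN : IsPGroup p N) {A K P : Subgroup G}
    (hA : A.IsComplement' N) (hK : K ≤ A) (hP : P ≤ A) (hPp : IsPGroup p P)
    (hAK : A ≤ normalizer (K : Set G)) (hgen : A ≤ K ⊔ P)
    (hC : ∀ n : G, n ∈ N → (∀ a : G, a ∈ A → a * n * a⁻¹ = n) → n = 1) :
    normalizer (K : Set G) ≤ A := by
  set C := N ⊓ normalizer (K : Set G) with hCdef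
  have hcomm : ∀ c ∈ C, ∀ k ∈ K, k * c * k⁻¹ = c := fun c hc k hk => by
    have h1 : k * c * k⁻¹ * c⁻¹ ∈ A ⊓ N := by
      refine ⟨hK ?_, N.mul_mem (‹N.Normal›.conj_mem c hc.1 k) (N.inv_mem hc.1)⟩
      rw [show k * c * k⁻¹ * c⁻¹ = k * (c * k⁻¹ * c⁻¹) by group]
      exact K.mul_mem hk ((Subgroup.mem_normalizer_iff.1 hc.2 _).1 (K.inv_mem hk))
    rw [hA.disjoint.eq_bot, Subgroup.mem_bot] at h1
    exact mul_inv_eq_one.1 h1
  have hCbot : C = ⊥ := by
    by_contra hne
    have hCp : IsPGroup p C := hN.to_le inf_le_left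
    letI : MulAction P C :=
      { smul := fun a s => ⟨a * s * (a : G)⁻¹, ‹N.Normal›.conj_mem _ s.2.1 _,
          (normalizer (K : Set G)).mul_mem ((normalizer (K : Set G)).mul_mem (hAK (hP a.2)) s.2.2)
          ((normalizer (K : Set G)).inv_mem (hAK (hP a.2)))⟩
        one_smul := fun s => Subtype.ext (show (1 : G) * s * 1⁻¹ = s by group)
        mul_smul := fun a b s => Subtype.ext (show (a * b : G) * s * (a * b : G)⁻¹
          = a * (b * s * (b : G)⁻¹) * (a : G)⁻¹ by group) }
    have h1 : (1 : C) ∈ MulAction.fixedPoints P C := fun a => Subtype.ext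
      (show (a : G) * 1 * (a : G)⁻¹ = 1 by group)
    haveI : Nontrivial C := (Subgroup.nontrivial_iff_ne_bot C).2 hne
    obtain ⟨k, hk⟩ := hCp.exists_card_eq
    have hpd : p ∣ Nat.card C := by
      rw [hk]
      refine dvd_pow_self _ fun e => ?_
      rw [e, pow_zero] at hk
      exact absurd hk (Finite.one_lt_card (α := C)).ne'
    obtain ⟨b, hb, hb1⟩ := hPp.exists_fixed_point_of_prime_dvd_card_of_fixed_point C hpd h1
    refine hb1 (Subtype.ext (hC b b.2.1 fun a ha => ?_).symm)
    have hle : K ⊔ P ≤ centralizer ({(b : G)} : Set G) := by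
      refine sup_le (fun k hk => ?_) (fun x hx => ?_)
      · exact mem_centralizer_singleton_iff.2 (mul_inv_eq_iff_eq_mul.1 (hcomm b b.2 k hk))
      · exact mem_centralizer_singleton_iff.2
          (mul_inv_eq_iff_eq_mul.1 (congrArg Subtype.val (hb ⟨x, hx⟩)))
    exact mul_inv_eq_iff_eq_mul.2 (mem_centralizer_singleton_iff.1 (hle (hgen ha)))
  intro g hg
  obtain ⟨a, ha, n, hn, rfl⟩ := Subgroup.mem_sup_of_normal_right.1
    (show g ∈ A ⊔ N by rw [hA.sup_eq_top]; exact mem_top _)
  have hnC : n ∈ C := ⟨hn, by simpa using (normalizer (K : Set G)).mul_mem ((normalizer (K : Set G)).inv_mem (hAK ha)) hg⟩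
  rw [hCbot, Subgroup.mem_bot] at hnC
  simpa [hnC] using ha

/-- Let G be a finite group that is the semidirect product of a normal p-subgroup N by a subgroup A, and also of N by a subgroup A₁, where p is a prime and A and A₁ both have normal p-complements. If C_N(A) = C_N(A₁) = 1, then A₁ is conjugate to A by an element of N. -/
theorem result {G : Type*} [Group G] [Finite G] {p : ℕ}
    [Fact p.Prime] (N : Subgroup G) [N.Normal] (hN : IsPGroup p N) (A A₁ : Subgroup G)
    (hA : A.IsComplement' N) (hA₁ : A₁.IsComplement' N)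
    (hAp : Cfsg.HasNormalPComplement p A) (hA₁p : Cfsg.HasNormalPComplement p A₁)
    (hC : ∀ n : G, n ∈ N → (∀ a : G, a ∈ A → a * n * a⁻¹ = n) → n = 1)
    (hC₁ : ∀ n : G, n ∈ N → (∀ a : G, a ∈ A₁ → a * n * a⁻¹ = n) → n = 1) :
    ∃ n : G, n ∈ N ∧ A₁ = A.map (MulAut.conj n).toMonoidHom := by
  obtain ⟨K, P, hK, hP, hPp, hAK, hgen, -, hcK, hcop, hall⟩ := exists_core N hA hAp
  obtain ⟨K₁, P₁, hK₁, -, -, hAK₁, -, -, hcK₁, hcop₁, -⟩ := exists_core N hA₁ hA₁p
  have hcard : Nat.card K₁ = Nat.card K :=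
    Nat.eq_of_mul_eq_mul_right (pow_pos (Fact.out : p.Prime).pos _) (hcK₁.trans hcK.symm)
  have hle : K₁ ≤ K ⊔ N := fun x hx => hall x (hcop₁.coprime_dvd_left
    ((Subgroup.orderOf_mk x hx).symm ▸ _root_.orderOf_dvd_natCard (⟨x, hx⟩ : K₁)))
  obtain ⟨n, hn, hnK⟩ := sz_conj_in (A := K) (B := K₁) (N := N)
    (le_top.trans (Subgroup.normalizer_eq_top N).ge)
    (by
      obtain ⟨k, hk⟩ := hN.exists_card_eq
      rw [hk]; exact (hcop.pow_right k).symm)
    hle hcard (Or.inr (haveI := hN.isNilpotent; inferInstance))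
  have hle₁ : conjBy n A₁ ≤ A := by
    intro x hx
    refine normalizer_core N hN hA hK hP hPp hAK hgen hC ?_
    rw [← hnK]
    exact Subgroup.mem_normalizer_fintype fun y hy => by
      rw [SetLike.mem_coe, mem_conjBy] at hy ⊢
      have := (Subgroup.mem_normalizer_iff.1 (hAK₁ (mem_conjBy.1 hx)) _).1 hy
      convert this using 1
      group
  have heq : conjBy n A₁ = A := Subgroup.eq_of_le_of_card_ge hle₁ (by
    rw [card_conjBy, ← hA₁.index_eq_card, ← hA.index_eq_card])
  refine ⟨n⁻¹, N.inv_mem hn, ?_⟩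
  rw [← heq]
  have h := conjBy_conjBy n⁻¹ n A₁
  rw [inv_mul_cancel, conjBy_one] at h
  exact h.symm

end Cfsg.Agent.S4043
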