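import Cfsg.Statements.S4044
import Cfsg.Agent.Lib.HallNumbers.Sixty
import Cfsg.Agent.Lib.HallNumbers.Counter

set_option autoImplicit false
open Cfsg

namespace Cfsg.Agent.S4044

/-- For an integer m ≥ 2 the following are equivalent: (a) every finite group whose order n is divisible by m with gcd(m, n/m) = 1 has a subgroup of order m; (b) m is a prime power, or m ≡ 2 (mod 4), or m ∈ {12, 24, 60}. -/
theorem result (m : ℕ) (hm : 2 ≤ m) :
    (∀ (G : Type) [Group G] [Finite G], m ∣ Nat.card G → m.Coprime (Nat.card G / m) →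
        ∃ H : Subgroup G, Nat.card H = m) ↔
    (IsPrimePow m ∨ m % 4 = 2 ∨ m = 12 ∨ m = 24 ∨ m = 60) := by
  constructor
  · intro h
    by_contra hno
    push Not at hno
    obtain ⟨hpp, h4, h12, h24, h60⟩ := hno
    have hsplit : ∃ r, r.Prime ∧ r ∣ m ∧ (m % 2 = 0 → r = 2) := by
      by_cases he : m % 2 = 0
      · exact ⟨2, Nat.prime_two, Nat.dvd_of_mod_eq_zero he, fun _ => rfl⟩
      · exact ⟨m.minFac, Nat.minFac_prime (by omega), Nat.minFac_dvd m, fun e => absurd e he⟩
    obtain ⟨r, hr, hrm, hre⟩ := hsplit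
    obtain ⟨b, B, hrB, hm'⟩ := Nat.exists_eq_pow_mul_and_not_dvd (show m ≠ 0 by omega) r hr.ne_one
    have hb : 1 ≤ b := by
      by_contra hb
      rw [show b = 0 by omega, pow_zero, one_mul] at hm'
      exact hrB (hm' ▸ hrm)
    have hBodd : Odd B := by
      rw [← Nat.not_even_iff_odd]
      intro he
      have hm2 : m % 2 = 0 := Nat.mod_eq_zero_of_dvd (hm' ▸ dvd_mul_of_dvd_right he.two_dvd _)
      exact hrB (hre hm2 ▸ he.two_dvd)
    have hB : 1 < B := by
      have hB0 : B ≠ 0 := fun e => by rw [e, mul_zero] at hm'; omega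
      by_contra hB
      exact hpp ((isPrimePow_nat_iff _).2 ⟨r, b, hr, hb, by rw [hm', show B = 1 by omega, mul_one]⟩)
    have hA2 : r = 2 → 2 ≤ b := fun e => by
      by_contra hb2
      obtain ⟨w, hw⟩ := hBodd
      rw [e, show b = 1 by omega, pow_one, hw] at hm'
      omega
    obtain ⟨G, i, j, hd, hc, hno⟩ := CfsgLib.HallNumbers.counter hr hb rfl hA2 hB hBodd
      (Nat.Coprime.pow_left b (hr.coprime_iff_not_dvd.2 hrB)) (hm' ▸ h12) (hm' ▸ h24) (hm' ▸ h60)
    obtain ⟨H, hH⟩ := @h G i j (hm' ▸ hd) (hm' ▸ hc)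
    exact hno H (hH.trans hm')
  · rintro (hpp | h2 | rfl | rfl | rfl) G _ _ hd hc
    · obtain ⟨p, k, hp, -, rfl⟩ := (isPrimePow_nat_iff _).1 hpp
      haveI := Fact.mk hp
      obtain ⟨K, hK⟩ := Sylow.exists_subgroup_card_pow_prime p hd
      exact ⟨K, hK⟩
    · have hs : Group.IsSolvable G := CfsgLib.HallNumbers.isSolvable_of_not_four_dvd (fun h4 => by
        obtain ⟨k, hk⟩ := hd
        rw [hk, Nat.mul_div_cancel_left k (by omega)] at hc
        obtain ⟨w, hw⟩ := Nat.coprime_two_left.1 (hc.coprime_dvd_left (by omega : 2 ∣ m))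
        obtain ⟨v, hv⟩ : ∃ v, m = 4 * v + 2 := ⟨m / 4, by omega⟩
        rw [hk, hv, hw, show (4 * v + 2) * (2 * w + 1) = 4 * (2 * v * w + v + w) + 2 by ring] at h4
        omega)
      exact CfsgLib.HallNumbers.exists_of_solvable hd hc (X := ⊤)
        (CfsgLib.Coprime.isSolvable_congr Subgroup.topEquiv.symm hs) (by rw [Subgroup.card_top]; exact hd)
    · exact CfsgLib.HallNumbers.twelve_twentyfour (Or.inl rfl) hd hc
    · exact CfsgLib.HallNumbers.twelve_twentyfour (Or.inr rfl) hd hc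
    · exact CfsgLib.HallNumbers.sixty hd hc

end Cfsg.Agent.S4044
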