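import Cfsg.Statements.S4049
import Cfsg.Agent.S3861

set_option autoImplicit false
open Cfsg

namespace Cfsg.Agent.S4049

/-- Let G be a finite group such that N_G(H)/C_G(H) has odd order for every nontrivial subgroup H of odd order. Then the Sylow 2-subgroups of G are normal. -/
theorem result {G : Type*} [Group G] [Finite G]
    (hhom : ∀ H : Subgroup G, H ≠ ⊥ → ¬ 2 ∣ Nat.card ↥H →
        ¬ 2 ∣ (Subgroup.centralizer (H : Set G)).relIndex (Subgroup.normalizer (H : Set G))) (P : Sylow 2 G) :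
    (P : Subgroup G).Normal := by
  refine (Cfsg.Agent.S3861.result P).1 fun x hx1 hx hc => ?_
  obtain ⟨g, hg⟩ := isConj_iff.1 hc
  set H := Subgroup.zpowers x
  set C := Subgroup.centralizer (H : Set G)
  set N := Subgroup.normalizer (H : Set G)
  have hgN : g ∈ N := by
    refine Subgroup.mem_normalizer_fintype fun y hy => ?_
    obtain ⟨k, rfl⟩ := hy
    show g * x ^ k * g⁻¹ ∈ H
    rw [← conj_zpow, hg, inv_zpow]
    exact inv_mem (Subgroup.zpow_mem_zpowers x k)
  refine hhom H (fun e => hx1 (Subgroup.zpowers_eq_bot.1 e))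
    (by rw [Nat.card_zpowers]; exact Nat.two_dvd_ne_zero.2 (Nat.odd_iff.1 hx)) ?_
  have hg2 : g ^ 2 ∈ C := by
    refine Subgroup.mem_centralizer_iff.2 fun y hy => ?_
    obtain ⟨k, rfl⟩ := hy
    have e : g ^ 2 * x * (g ^ 2)⁻¹ = x := by
      calc g ^ 2 * x * (g ^ 2)⁻¹ = g * (g * x * g⁻¹) * g⁻¹ := by rw [pow_two]; group
        _ = g * x⁻¹ * g⁻¹ := by rw [hg]
        _ = (g * x * g⁻¹)⁻¹ := by group
        _ = x := by rw [hg, inv_inv]
    exact (show Commute x (g ^ 2) from (mul_inv_eq_iff_eq_mul.1 e).symm).zpow_left k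
  have hgC : g ∉ C := fun h => by
    have h1 := Subgroup.mem_centralizer_iff.1 h x (Subgroup.mem_zpowers x)
    rw [← h1, mul_inv_cancel_right] at hg
    have h2 : orderOf x = 2 := orderOf_eq_prime
      (by rw [pow_two]; nth_rewrite 2 [hg]; exact mul_inv_cancel x) hx1
    rw [h2] at hx
    exact absurd hx (by decide)
  haveI : (C.subgroupOf N).Normal := by
    refine ⟨fun n hn m => Subgroup.mem_subgroupOf.2 (Subgroup.mem_centralizer_iff.2 fun y hy => ?_)⟩
    have h1 : (m : G)⁻¹ * y * (m : G) ∈ H := (Subgroup.mem_normalizer_iff''.1 m.2 y).1 hy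
    have h2 := Subgroup.mem_centralizer_iff.1 (Subgroup.mem_subgroupOf.1 hn) _ h1
    push_cast
    calc y * ((m : G) * n * (m : G)⁻¹) = m * ((m : G)⁻¹ * y * m * n) * (m : G)⁻¹ := by group
      _ = m * (n * ((m : G)⁻¹ * y * m)) * (m : G)⁻¹ := by rw [h2]
      _ = m * n * (m : G)⁻¹ * y := by group
  show 2 ∣ (C.subgroupOf N).index
  rw [Subgroup.index_eq_card]
  have h2 : orderOf ((⟨g, hgN⟩ : N) : N ⧸ C.subgroupOf N) = 2 := orderOf_eq_prime
    (by rw [← QuotientGroup.mk_pow, QuotientGroup.eq_one_iff]; exact Subgroup.mem_subgroupOf.2 hg2)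
    (fun h => hgC (Subgroup.mem_subgroupOf.1 ((QuotientGroup.eq_one_iff _).1 h)))
  exact h2 ▸ orderOf_dvd_natCard _

end Cfsg.Agent.S4049
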