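import Cfsg.Statements.S4050
import Cfsg.Agent.Lib.PGroup.PiClosed
-- import your own Cfsg.Agent.* helpers here

set_option autoImplicit false
open Cfsg

namespace Cfsg.Agent.S4050

/-- Let π be a set of primes and G a finite group. The π-elements of G (elements whose order is divisible only by primes of π) form a subgroup if and only if G is π-separable (it has a chain of normal subgroups from 1 to G with each successive index divisible only by primes in π or only by primes outside π) and N_G(H)/C_G(H) is a π'-group for every nontrivial π'-subgroup H of G. -/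
theorem result {G : Type*} [Group G] [Finite G] (π : Set ℕ)
    (hπ : ∀ p ∈ π, p.Prime) :
    (∃ K : Subgroup G, ∀ x : G, x ∈ K ↔ ∀ p : ℕ, p.Prime → p ∣ orderOf x → p ∈ π) ↔
    ((∃ (n : ℕ) (H : Fin (n + 1) → Subgroup G), H 0 = ⊥ ∧ H (Fin.last n) = ⊤ ∧ Monotone H ∧ (∀ i, (H i).Normal) ∧
      ∀ i : Fin n, (∀ q : ℕ, q.Prime → q ∣ (H i.castSucc).relIndex (H i.succ) → q ∈ π) ∨
        (∀ q : ℕ, q.Prime → q ∣ (H i.castSucc).relIndex (H i.succ) → q ∉ π)) ∧
     (∀ H : Subgroup G, H ≠ ⊥ → (∀ p : ℕ, p.Prime → p ∣ Nat.card ↥H → p ∉ π) →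
        ∀ p : ℕ, p.Prime → p ∣ (Subgroup.centralizer (H : Set G)).relIndex (Subgroup.normalizer (H : Set G)) → p ∉ π)) := by
  classical
  constructor
  · rintro ⟨K, hK⟩
    have hKn : K.Normal := ⟨fun a ha g => (hK _).2 fun p hp hd => (hK a).1 ha p hp
      (hd.trans (orderOf_map_dvd (MulAut.conj g).toMonoidHom a))⟩
    refine ⟨⟨2, ![⊥, K, ⊤], rfl, rfl, ?_, ?_, ?_⟩, ?_⟩
    · intro a b hab; fin_cases a <;> fin_cases b <;> simp at hab ⊢
    · intro i; fin_cases i <;> simp <;> infer_instance
    · intro i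
      fin_cases i
      · left
        intro q hq hd
        haveI := Fact.mk hq
        change q ∣ (⊥ : Subgroup G).relIndex K at hd
        rw [Subgroup.relIndex_bot_left] at hd
        obtain ⟨⟨a, ha⟩, hao⟩ := exists_prime_orderOf_dvd_card' q hd
        rw [Subgroup.orderOf_mk] at hao
        exact (hK a).1 ha q hq (hao ▸ dvd_rfl)
      · right
        intro q hq hd hqπ
        haveI := Fact.mk hq
        change q ∣ K.relIndex ⊤ at hd
        rw [Subgroup.relIndex_top_right, Subgroup.index_eq_card] at hd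
        obtain ⟨b, hb⟩ := exists_prime_orderOf_dvd_card' q hd
        obtain ⟨a, rfl⟩ := QuotientGroup.mk'_surjective K b
        obtain ⟨k, m, hm, ham⟩ := Nat.exists_eq_pow_mul_and_not_dvd (orderOf_pos a).ne' q hq.ne_one
        have h1 : a ^ m ∈ K := (hK _).2 fun p hp hd' => by
          have := hd'.trans (orderOf_dvd_of_pow_eq_one (show (a ^ m) ^ q ^ k = 1 by
            rw [← pow_mul, mul_comm, ← ham, pow_orderOf_eq_one]))
          rwa [(Nat.prime_dvd_prime_iff_eq hp hq).1 (hp.dvd_of_dvd_pow this)]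
        have h2 : QuotientGroup.mk' K a ^ m = 1 := by
          rw [← map_pow]; exact (QuotientGroup.eq_one_iff _).2 h1
        exact hm (hb ▸ orderOf_dvd_of_pow_eq_one h2)
    · intro H _ hH p hp hd hpπ
      haveI := Fact.mk hp
      rw [Subgroup.relIndex, ← Subgroup.normalizerMonoidHom_ker, Subgroup.index_ker] at hd
      obtain ⟨⟨_, ⟨y, rfl⟩⟩, hyo⟩ := exists_prime_orderOf_dvd_card' p hd
      replace hyo : orderOf (Subgroup.normalizerMonoidHom H y) = p := (Subgroup.orderOf_coe _).trans hyo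
      obtain ⟨k, m, hm, hym⟩ := Nat.exists_eq_pow_mul_and_not_dvd (orderOf_pos (y : G)).ne' p hp.ne_one
      have h1 : (y : G) ^ m ∈ K := (hK _).2 fun q hq hd' => by
        have := hd'.trans (orderOf_dvd_of_pow_eq_one (show ((y : G) ^ m) ^ p ^ k = 1 by
          rw [← pow_mul, mul_comm, ← hym, pow_orderOf_eq_one]))
        rwa [(Nat.prime_dvd_prime_iff_eq hq hp).1 (hq.dvd_of_dvd_pow this)]
      have hHK : ∀ b ∈ H, b ∈ K → b = 1 := fun b hb hbK => by
        refine orderOf_eq_one_iff.1 (Nat.eq_one_iff_not_exists_prime_dvd.2 fun q hq hd' => ?_)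
        exact hH q hq (hd'.trans (Subgroup.orderOf_mk b hb ▸ orderOf_dvd_natCard _)) ((hK b).1 hbK q hq hd')
      have h2 : (y ^ m) ∈ (Subgroup.normalizerMonoidHom H).ker := by
        rw [Subgroup.normalizerMonoidHom_ker, Subgroup.mem_subgroupOf, Subgroup.coe_pow]
        refine Subgroup.mem_centralizer_iff.2 fun b hb => ?_
        have h3 : (y : G) ^ m * b * ((y : G) ^ m)⁻¹ * b⁻¹ = 1 := by
          refine hHK _ (H.mul_mem ((Subgroup.mem_normalizer_iff.1 (pow_mem y.2 m) b).1 hb) (H.inv_mem hb)) ?_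
          rw [show (y : G) ^ m * b * ((y : G) ^ m)⁻¹ * b⁻¹ = (y : G) ^ m * (b * ((y : G) ^ m)⁻¹ * b⁻¹) by group]
          exact K.mul_mem h1 (hKn.conj_mem _ (K.inv_mem h1) b)
        rw [mul_inv_eq_one, mul_inv_eq_iff_eq_mul] at h3
        exact h3.symm
      rw [MonoidHom.mem_ker, map_pow] at h2
      exact hm (hyo ▸ orderOf_dvd_of_pow_eq_one h2)
  · rintro ⟨⟨n, H, h0, hl, hmono, hnorm, hstep⟩, hhom⟩
    have hom := CfsgLib.PGroup.PiClosed.homog_of_relIndex hhom
    have key : ∀ i : Fin (n + 1), ∃ L : Subgroup (H i), ∀ x : H i,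
        x ∈ L ↔ CfsgLib.PGroup.PiClosed.PiElem π x := by
      intro i
      induction i using Fin.induction with
      | zero =>
        refine ⟨⊤, fun x => iff_of_true trivial ?_⟩
        have hx1 : x = 1 := Subtype.ext (Subgroup.mem_bot.1 (h0 ▸ x.2))
        intro p hp hd
        rw [hx1, orderOf_one] at hd
        exact absurd hd hp.not_dvd_one
      | succ i ih =>
        obtain ⟨L, hL⟩ := ih
        have hle : H i.castSucc ≤ H i.succ := hmono (Fin.castSucc_le_succ i)
        haveI := hnorm i.castSucc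
        let e := Subgroup.subgroupOfEquivOfLe hle
        refine CfsgLib.PGroup.PiClosed.closed_of_extension (hom.subgroup _) ((H i.castSucc).subgroupOf (H i.succ))
          ⟨L.comap e.toMonoidHom, fun x => (hL _).trans
            (CfsgLib.PGroup.PiClosed.piElem_map_iff e.toMonoidHom e.injective)⟩ ?_
        rcases hstep i with hs | hs
        · exact ⟨⊤, fun x => iff_of_true trivial fun q hq hd => hs q hq (hd.trans (orderOf_dvd_natCard x))⟩
        · refine ⟨⊥, fun x => ⟨fun hx => ?_, fun hx => ?_⟩⟩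
          · intro p hp hd
            rw [Subgroup.mem_bot.1 hx, orderOf_one] at hd
            exact absurd hd hp.not_dvd_one
          · exact Subgroup.mem_bot.2 (orderOf_eq_one_iff.1 (Nat.eq_one_iff_not_exists_prime_dvd.2
              fun q hq hd => hs q hq (hd.trans (orderOf_dvd_natCard x)) (hx q hq hd)))
    obtain ⟨L, hL⟩ := key (Fin.last n)
    refine ⟨L.map (H (Fin.last n)).subtype, fun x => ⟨?_, fun hx => ?_⟩⟩
    · rintro ⟨a, ha, rfl⟩
      exact (CfsgLib.PGroup.PiClosed.piElem_map_iff _ Subtype.val_injective).2 ((hL a).1 ha)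
    · refine ⟨⟨x, hl ▸ Subgroup.mem_top x⟩, (hL _).2 ?_, rfl⟩
      exact (CfsgLib.PGroup.PiClosed.piElem_map_iff (H (Fin.last n)).subtype Subtype.val_injective).1 hx

end Cfsg.Agent.S4050
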