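import Cfsg.Statements.S4052
import Cfsg.Agent.Lib.PGroup.PiFusion
import Cfsg.Agent.Lib.Char.HallComplement
-- import your own Cfsg.Agent.* helpers here

set_option autoImplicit false
open Cfsg

namespace Cfsg.Agent.S4052

/-- Let π be a set of primes and G a finite group whose maximal π-subgroups are pairwise conjugate (so Hall π-subgroups exist, any two are conjugate, and every π-subgroup lies in one of them), and suppose N_G(H)/C_G(H) is a π-group for every nontrivial π-subgroup H. If either 3 does not divide the order of G, or the π'-elements of every proper subgroup of G form a subgroup, then the π'-elements of G form a subgroup. -/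
theorem result {G : Type*} [Group G] [Finite G] (π : Set ℕ)
    (hπ : ∀ p ∈ π, p.Prime) (hD : Cfsg.IsDPiGroup π G) (hhom : (∀ H : Subgroup G, H ≠ ⊥ → (∀ p : ℕ, p.Prime → p ∣ Nat.card ↥H → p ∈ π) →
        ∀ p : ℕ, p.Prime → p ∣ (Subgroup.centralizer (H : Set G)).relIndex (Subgroup.normalizer (H : Set G)) → p ∈ π))
    (hcase : ¬ 3 ∣ Nat.card G ∨ ∀ M : Subgroup G, M ≠ ⊤ →
      ∃ L : Subgroup ↥M, ∀ x : ↥M, x ∈ L ↔ ∀ p : ℕ, p.Prime → p ∣ orderOf x → p ∉ π) :
    (∃ K : Subgroup G, ∀ x : G, x ∈ K ↔ ∀ p : ℕ, p.Prime → p ∣ orderOf x → p ∉ π) := by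
  clear hcase hπ
  have hhom' : CfsgLib.PGroup.PiFusion.Homogeneous π G := by
    intro X hX q hq hd
    by_cases hX1 : X = ⊥
    · subst hX1
      rw [show Subgroup.centralizer ((⊥ : Subgroup G) : Set G) = ⊤ from eq_top_iff.2 fun g _ =>
        Subgroup.mem_centralizer_iff.2 fun u hu => by rw [show u = 1 from hu, one_mul, mul_one],
        Subgroup.relIndex_top_left] at hd
      exact absurd (Nat.dvd_one.1 hd) hq.ne_one
    exact hhom X hX1 hX q hq hd
  obtain ⟨H, -, hH⟩ := exists_maximal_ge_of_wellFoundedGT (fun U : Subgroup G => Cfsg.IsPiSubgroup π U) ⊥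
    (fun q hq hd => absurd (Nat.dvd_one.1 (Subgroup.card_bot (G := G) ▸ hd)) hq.ne_one)
  have hDom : CfsgLib.PGroup.PiFusion.Dominant π ⊤ H := ⟨le_top, hH.prop, fun U _ hU => by
    obtain ⟨W, hUW, hW⟩ := exists_maximal_ge_of_wellFoundedGT (fun U : Subgroup G => Cfsg.IsPiSubgroup π U) U hU
    obtain ⟨g, hg⟩ := hD W H hW hH
    exact ⟨g, Subgroup.mem_top g, (Subgroup.map_mono hUW).trans hg.ge⟩⟩
  -- no prime in `π` divides the index
  have hidx : ∀ p : ℕ, p.Prime → p ∈ π → ¬ p ∣ H.index := by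
    intro p hp hpπ h2
    haveI := Fact.mk hp
    let P : Sylow p G := default
    obtain ⟨g, -, hg⟩ := hDom.conj P le_top (CfsgLib.PGroup.PiFusion.isPiSubgroup_of_isPGroup hpπ P.2)
    have h3 : p ^ (Nat.card G).factorization p ∣ Nat.card H := by
      rw [← P.card_eq_multiplicity, ← CfsgLib.Coprime.card_conjBy g (P : Subgroup G)]
      exact Subgroup.card_dvd_of_le hg
    have h4 := mul_dvd_mul h3 h2
    rw [H.card_mul_index, ← pow_succ] at h4
    exact Nat.pow_succ_factorization_not_dvd Nat.card_pos.ne' hp h4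
  have hHall : Nat.Coprime (Nat.card H) H.index :=
    Nat.coprime_of_dvd fun p hp h1 h2 => hidx p hp (hH.prop p hp h1) h2
  obtain ⟨K, hK, hKH, hKH'⟩ := CfsgLib.Char.HallComplement.exists_complement H hHall (fun E p _ _ hE => by
    obtain ⟨g, -, hg⟩ := hDom.conj E le_top fun q hq hd => hH.prop q hq (hd.trans hE)
    exact ⟨g, hg⟩) (fun x hx y hy hxy => by
    obtain ⟨g, hg⟩ := isConj_iff.1 hxy
    obtain ⟨h, hh, he⟩ := CfsgLib.PGroup.PiFusion.Dominant.fusion hhom' _ _ _ hDom x hx rfl g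
      (Subgroup.mem_top g) (hg.symm ▸ hy)
    exact ⟨h, hh, he.trans hg⟩)
  haveI := hK
  have hcard : Nat.card K = H.index := by
    have h1 := CfsgLib.PGroup.card_sup_mul_card_inf H K
    rw [sup_comm, hKH, inf_comm, hKH', Subgroup.card_top, Subgroup.card_bot, mul_one,
      ← H.card_mul_index] at h1
    exact (Nat.eq_of_mul_eq_mul_left Nat.card_pos h1).symm
  refine ⟨K, fun x => ⟨fun hx p hp hd hpπ => hidx p hp hpπ
    (hcard ▸ hd.trans (Subgroup.orderOf_dvd_natCard K hx)), fun hx => ?_⟩⟩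
  rw [← QuotientGroup.eq_one_iff (N := K), ← orderOf_eq_one_iff]
  by_contra hne
  obtain ⟨q, hq, hqd⟩ := Nat.exists_prime_and_dvd hne
  have h1 : q ∣ Nat.card H := by
    have h2 : K.index = Nat.card H := by
      have h3 := K.card_mul_index
      rw [hcard, ← H.card_mul_index, mul_comm (Nat.card H)] at h3
      exact Nat.eq_of_mul_eq_mul_left (Nat.pos_of_ne_zero Subgroup.index_ne_zero_of_finite) h3
    rw [← h2, Subgroup.index_eq_card]
    exact hqd.trans (orderOf_dvd_natCard _)
  exact hx q hq (hqd.trans (orderOf_map_dvd (QuotientGroup.mk' K) x)) (hH.prop q hq h1)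

end Cfsg.Agent.S4052
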