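import Cfsg.Statements.S4056
import Cfsg.Agent.Lib.Coprime.UniqueOrderP
import Cfsg.Agent.Lib.PGroup.FrattiniLe

set_option autoImplicit false
set_option linter.style.haveILetI false
open Cfsg

namespace Cfsg.Agent.S4056

/-- In a finite 2-group of nilpotency class at most 2 and exponent dividing 4, the Frattini subgroup lies in the centre and is elementary abelian. -/
theorem result {P : Type*} [Group P] [Finite P] (hP : IsPGroup 2 P)
    (hcl : Group.nilpotencyClass P ≤ 2) (hexp : Monoid.exponent P ∣ 4) :
    frattini P ≤ Subgroup.center P ∧ Cfsg.IsElementaryAbelian 2 (frattini P) := by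
  haveI := hP.isNilpotent
  have h4 : ∀ x : P, x ^ 4 = 1 := fun x =>
    orderOf_dvd_iff_pow_eq_one.1 ((Monoid.order_dvd_exponent x).trans hexp)
  have hcen : commutator P ≤ Subgroup.center P := by
    have h2 : (⊤ : Subgroup P).lowerCentralSeries 2 = ⊥ :=
      Subgroup.lowerCentralSeries_eq_bot_iff_nilpotencyClass_le.2 hcl
    rw [Subgroup.lowerCentralSeries_succ, Subgroup.top_lowerCentralSeries_one,
      Subgroup.commutator_eq_bot_iff_le_centralizer, Subgroup.coe_top,
      Subgroup.centralizer_univ] at h2
    exact h2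
  open scoped commutatorElement in
  have hsq : ∀ x y : P, Commute (x ^ 2) y := by
    intro x y
    set c := ⁅x⁻¹, y⁻¹⁆ with hc'
    have hc : ∀ z : P, Commute c z := fun z =>
      ((Subgroup.mem_center_iff.1 (hcen (Subgroup.commutator_mem_commutator (Subgroup.mem_top _)
        (Subgroup.mem_top _)))) z).symm
    have hxy : x * y = y * x * c := by rw [hc', commutatorElement_def]; group
    have h1 := CfsgLib.Coprime.mul_pow_of_central hc hxy 4
    rw [h4, h4, h4, one_mul, one_mul, show Nat.choose 4 2 = 4 + 2 by rfl, pow_add, h4, one_mul] at h1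
    show x ^ 2 * y = y * x ^ 2
    calc x ^ 2 * y = x * (x * y) := by rw [pow_two, mul_assoc]
      _ = (x * y) * x * c := by conv_lhs => rw [hxy]
                                group
      _ = y * x * (c * x) * c := by rw [hxy]; group
      _ = y * x * (x * c) * c := by rw [(hc x).eq]
      _ = y * x ^ 2 := by rw [pow_two, mul_assoc (y * x), mul_assoc x c, ← pow_two, ← h1, mul_one, mul_assoc]
  let F : Subgroup P :=
    { carrier := {z | z ∈ Subgroup.center P ∧ z ^ 2 = 1}
      one_mem' := ⟨Subgroup.one_mem _, one_pow 2⟩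
      mul_mem' := fun {a b} ha hb => ⟨Subgroup.mul_mem _ ha.1 hb.1, by
        rw [(show Commute a b from (Subgroup.mem_center_iff.1 ha.1 b).symm).mul_pow, ha.2, hb.2,
          one_mul]⟩
      inv_mem' := fun {a} ha => ⟨Subgroup.inv_mem _ ha.1, by rw [inv_pow, ha.2, inv_one]⟩ }
  have hF : frattini P ≤ F := by
    refine CfsgLib.FrattiniLe.frattini_le_of_pow_of_commutator (p := 2)
      (fun x => ⟨Subgroup.mem_center_iff.2 fun y => (hsq x y).eq.symm, by rw [← pow_mul]; exact h4 x⟩) ?_
    rw [commutator_eq_closure, Subgroup.closure_le]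
    rintro _ ⟨x, y, rfl⟩
    refine ⟨hcen (Subgroup.commutator_mem_commutator (Subgroup.mem_top x) (Subgroup.mem_top y)), ?_⟩
    open scoped commutatorElement in
    have hc : ∀ z : P, Commute ⁅x, y⁆ z := fun z =>
      ((Subgroup.mem_center_iff.1 (hcen (Subgroup.commutator_mem_commutator (Subgroup.mem_top x)
        (Subgroup.mem_top y)))) z).symm
    open scoped commutatorElement in
    have h1 := CfsgLib.Coprime.mul_pow_of_central (g := y) (b := x) hc (by
      rw [← (hc (y * x)).eq, commutatorElement_def]; group) 4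
    rw [h4, h4, h4, one_mul, one_mul, show Nat.choose 4 2 = 4 + 2 by rfl, pow_add, h4, one_mul] at h1
    exact h1.symm
  refine ⟨fun x hx => (hF hx).1, ?_⟩
  exact ⟨isMulCommutative_iff.2 fun a b => Subtype.ext (Subgroup.mem_center_iff.1 (hF b.2).1 a),
    fun a ha => (hF ha).2⟩

end Cfsg.Agent.S4056
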