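import Cfsg.Statements.S4058
import Cfsg.Agent.Lib.Char.FrobeniusSchur
import Cfsg.Agent.Lib.Char.Integrality
import Cfsg.Agent.Lib.Char.Linear
import Mathlib.GroupTheory.Frattini

set_option linter.style.haveILetI false

set_option autoImplicit false
open Cfsg

namespace Cfsg.Agent.S4058

open scoped ComplexConjugate IsMulCommutative
open Subgroup CfsgLib.Char

universe u
variable {G : Type u} [Group G]

/-- Linear characters with values `±1`. -/
abbrev Sgn (G : Type u) [Group G] : Type u := {e : G →* ℂˣ // e ^ 2 = 1}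

theorem sgn_values (e : Sgn G) (g : G) : (e.1 g : ℂ) = 1 ∨ (e.1 g : ℂ) = -1 := by
  have h := congrArg (fun f : G →* ℂˣ => (f g : ℂ)) e.2
  simp only [MonoidHom.pow_apply, Units.val_pow_eq_pow_val, MonoidHom.one_apply, Units.val_one] at h
  exact sq_eq_one_iff.1 h

theorem conj_sgn (e : Sgn G) (g : G) : conj (e.1 g : ℂ) = (e.1 g : ℂ) := by
  rcases sgn_values e g with h | h <;> rw [h] <;> simp

theorem sgn_mul_self (e : Sgn G) (g : G) : (e.1 g : ℂ) * (e.1 g : ℂ) = 1 := by
  rcases sgn_values e g with h | h <;> rw [h] <;> simp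

theorem sgn_sq (e : Sgn G) (g : G) : (e.1 (g * g) : ℂ) = 1 := by
  rw [map_mul, Units.val_mul, sgn_mul_self]

variable [Finite G]

theorem twist_irr (e : Sgn G) (χ : IrrCharacter G) :
    IsIrrCharacter G (fun g => (e.1 g : ℂ) * (χ : G → ℂ) g) := by
  haveI := Fintype.ofFinite G
  refine isIrr_of_isCharacter_norm_one (isCharacter_mul (isCharacter_of_isIrr (isIrrCharacter_lin e.1)) (isCharacter_irr χ)) ?_
  rw [← classInner_irr_self χ]
  simp only [classInner, map_mul, conj_sgn]
  congr 1
  refine Finset.sum_congr rfl fun g _ => ?_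
  rw [mul_mul_mul_comm, sgn_mul_self, one_mul]

theorem exists_comm_sq_mem_frattini (hG : IsPGroup 2 G) :
    ∀ x y : G, x * y * x⁻¹ * y⁻¹ ∈ frattini G ∧ x * x ∈ frattini G := by
  haveI := Fact.mk Nat.prime_two
  have key : ∀ M : Subgroup G, IsCoatom M → ∀ x y : G, x * y * x⁻¹ * y⁻¹ ∈ M ∧ x * x ∈ M := by
    intro M hM x y
    haveI := hG.isNilpotent
    haveI : M.Normal := Subgroup.NormalizerCondition.normal_of_coatom M Group.normalizerCondition_of_isNilpotent hM
    obtain ⟨k, hk⟩ := (hG.to_quotient M).exists_card_eq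
    have hdvd : 2 ∣ Nat.card (G ⧸ M) := by
      rcases k with _ | k
      · exact absurd (index_eq_one.1 ((index_eq_card M).trans hk)) hM.1
      · exact hk ▸ dvd_pow_self 2 (Nat.succ_ne_zero k)
    obtain ⟨z, hz⟩ := exists_prime_orderOf_dvd_card' 2 hdvd
    obtain ⟨w, rfl⟩ := QuotientGroup.mk_surjective z
    have htop : (zpowers (w : G ⧸ M)).comap (QuotientGroup.mk' M) = ⊤ := by
      refine hM.2 _ (lt_of_le_of_ne (fun a ha => ?_) fun e => ?_)
      · rw [mem_comap, show QuotientGroup.mk' M a = 1 from (QuotientGroup.eq_one_iff a).2 ha]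
        exact one_mem _
      · have hw : w ∈ M := e ▸ (show QuotientGroup.mk' M w ∈ zpowers (w : G ⧸ M) from mem_zpowers _)
        rw [(QuotientGroup.eq_one_iff w).2 hw, orderOf_one] at hz
        omega
    have hall : ∀ a : G, ∃ i : ℤ, (w : G ⧸ M) ^ i = (a : G ⧸ M) := fun a =>
      mem_zpowers_iff.1 (htop ▸ mem_top a : a ∈ (zpowers (w : G ⧸ M)).comap (QuotientGroup.mk' M))
    obtain ⟨i, hi⟩ := hall x
    obtain ⟨j, hj⟩ := hall y
    refine ⟨(QuotientGroup.eq_one_iff _).1 ?_, (QuotientGroup.eq_one_iff _).1 ?_⟩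
    · simp only [QuotientGroup.mk_mul, QuotientGroup.mk_inv, ← hi, ← hj]
      group
    · rw [QuotientGroup.mk_mul, ← hi, ← zpow_add, ← two_mul, zpow_mul,
        show (w : G ⧸ M) ^ (2 : ℤ) = 1 by rw [zpow_ofNat, ← hz, pow_orderOf_eq_one], one_zpow]
  intro x y
  simp only [frattini, Order.radical, mem_iInf]
  exact ⟨fun M hM => (key M hM x y).1, fun M hM => (key M hM x y).2⟩

theorem card_sgn_ge (hG : IsPGroup 2 G) : Nat.card (G ⧸ frattini G) ≤ Nat.card (Sgn G) := by
  haveI : IsMulCommutative (G ⧸ frattini G) := ⟨⟨fun a b => by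
    obtain ⟨x, rfl⟩ := QuotientGroup.mk_surjective a
    obtain ⟨y, rfl⟩ := QuotientGroup.mk_surjective b
    have h := (QuotientGroup.eq_one_iff (N := frattini G) _).2 (exists_comm_sq_mem_frattini hG x y).1
    simp only [QuotientGroup.mk_mul, QuotientGroup.mk_inv] at h
    rw [mul_inv_eq_one, mul_inv_eq_iff_eq_mul] at h
    exact h⟩⟩
  rw [← CommGroup.card_monoidHom_of_hasEnoughRootsOfUnity (G ⧸ frattini G) ℂ]
  refine Nat.card_le_card_of_injective (fun f => ⟨f.comp (QuotientGroup.mk' (frattini G)), ?_⟩) ?_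
  · refine MonoidHom.ext fun x => ?_
    rw [MonoidHom.pow_apply, MonoidHom.one_apply, MonoidHom.comp_apply, ← map_pow, pow_two, ← map_mul,
      show QuotientGroup.mk' (frattini G) (x * x) = 1 from
        (QuotientGroup.eq_one_iff _).2 (exists_comm_sq_mem_frattini hG x x).2, map_one]
  · intro f g h
    exact QuotientGroup.monoidHom_ext _ (congrArg Subtype.val h)

/-- Let G be a finite 2-group with #(G/Φ(G)) ≥ 2^(2k+1). Then the number of elements x of G with x² = 1 is divisible by 2^(k+1). -/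
theorem result {G : Type*} [Group G] [Finite G] (hG : IsPGroup 2 G) (k : ℕ)
    (hgen : 2 ^ (2 * k + 1) ≤ Nat.card (G ⧸ frattini G)) :
    2 ^ (k + 1) ∣ Nat.card {x : G // x ^ 2 = 1} := by
  classical
  haveI := Fintype.ofFinite G
  haveI := Fintype.ofFinite (IrrCharacter G)
  haveI := Fact.mk Nat.prime_two
  haveI : Finite (G →* ℂˣ) :=
    Finite.of_injective (fun f => linearCharEquiv f) linearCharEquiv.injective
  haveI := Fintype.ofFinite (Sgn G)
  letI : Group (Sgn G) :=
    (inferInstance : Group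
      ({ carrier := {e : G →* ℂˣ | e ^ 2 = 1}
         one_mem' := one_pow 2
         mul_mem' := fun {a b} ha hb => by
           refine MonoidHom.ext fun g => ?_
           have h1 := DFunLike.congr_fun ha g
           have h2 := DFunLike.congr_fun hb g
           simp only [MonoidHom.pow_apply, MonoidHom.mul_apply, MonoidHom.one_apply] at h1 h2 ⊢
           rw [mul_pow, h1, h2, one_mul]
         inv_mem' := fun {a} ha => by
           refine MonoidHom.ext fun g => ?_
           have h1 := DFunLike.congr_fun ha g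
           simp only [MonoidHom.pow_apply, MonoidHom.inv_apply, MonoidHom.one_apply] at h1 ⊢
           rw [inv_pow, h1, inv_one] } : Subgroup (G →* ℂˣ)))
  letI : MulAction (Sgn G) (IrrCharacter G) :=
    { smul := fun e χ => ⟨_, twist_irr e χ⟩
      one_smul := fun χ => Subtype.ext (funext fun g => by
        show ((((1 : Sgn G)).1 g : ℂˣ) : ℂ) * (χ : G → ℂ) g = _
        rw [show ((1 : Sgn G)).1 = (1 : G →* ℂˣ) from rfl]; simp)
      mul_smul := fun a b χ => Subtype.ext (funext fun g => by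
        show (((a * b : Sgn G)).1 g : ℂ) * (χ : G → ℂ) g = (a.1 g : ℂ) * ((b.1 g : ℂ) * (χ : G → ℂ) g)
        rw [show ((a * b : Sgn G)).1 = a.1 * b.1 from rfl]; simp [mul_assoc]) }
  -- indicators and degrees
  have hν : ∀ χ : IrrCharacter G, ∃ v : ℤ, (v : ℂ) = (Nat.card G : ℂ)⁻¹ * ∑ s : G, (χ : G → ℂ) (s * s) := by
    rintro ⟨χ, n, ρ, hρ, rfl⟩
    haveI := hρ
    rcases (fs_indicator_cases ρ).1 with h | h | h
    · exact ⟨0, by rw [h]; simp⟩
    · exact ⟨1, by rw [h]; simp⟩
    · exact ⟨-1, by rw [h]; simp⟩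
  choose ν hν using hν
  have hdeg : ∀ χ : IrrCharacter G, ∃ d : ℕ, (χ : G → ℂ) 1 = d ∧ (∀ g, ‖(χ : G → ℂ) g‖ ≤ d) ∧ ∃ a, d = 2 ^ a := by
    intro χ
    obtain ⟨f, n, ρ, hρ, hf⟩ := χ
    subst hf
    refine ⟨_, Representation.char_one ρ, fun g => norm_char_le ρ g, ?_⟩
    obtain ⟨N, hN⟩ := hG.exists_card_eq
    obtain ⟨a, -, ha⟩ := (Nat.dvd_prime_pow Nat.prime_two).1
      (hN ▸ degree_dvd_card (⟨ρ.character, n, ρ, hρ, rfl⟩ : IrrCharacter G) (Representation.char_one ρ))
    exact ⟨a, ha⟩
  choose deg hdeg1 hdegle a hdega using hdeg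
  have hinv : ∀ (e : Sgn G) (χ : IrrCharacter G), ν (e • χ) = ν χ ∧ deg (e • χ) = deg χ := by
    intro e χ
    constructor
    · refine Int.cast_injective (α := ℂ) ?_
      rw [hν, hν]
      congr 1
      refine Finset.sum_congr rfl fun s _ => ?_
      show (e.1 (s * s) : ℂ) * (χ : G → ℂ) (s * s) = _
      rw [sgn_sq, one_mul]
    · refine Nat.cast_injective (R := ℂ) ?_
      rw [← hdeg1, ← hdeg1]
      show (e.1 1 : ℂ) * (χ : G → ℂ) 1 = _
      simp
  -- the number of square roots of one
  have hcount : (Nat.card {x : G // x ^ 2 = 1} : ℤ) = ∑ χ : IrrCharacter G, ν χ * deg χ := by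
    refine Int.cast_injective (α := ℂ) ?_
    push_cast
    have hcol : ∀ s : G, ∑ χ : IrrCharacter G, (χ : G → ℂ) (s * s) * (χ : G → ℂ) 1 =
        if s * s = 1 then (Nat.card G : ℂ) else 0 := by
      intro s
      have h := sum_irr_mul_conj (s * s) (1 : G)
      simp only [hdeg1, map_natCast] at h ⊢
      rw [h]
      by_cases hs : s * s = 1
      · rw [if_pos hs, if_pos (by rw [hs])]
        rw [hs]
        congr 1
        rw [show centralizer ({1} : Set G) = ⊤ from eq_top_iff.2 fun g _ => by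
          rw [mem_centralizer_singleton_iff]; simp, card_top]
      · rw [if_neg hs, if_neg (fun hc => hs (isConj_one_left.1 hc))]
    calc (Nat.card {x : G // x ^ 2 = 1} : ℂ)
        = (Nat.card G : ℂ)⁻¹ * ∑ s : G, ∑ χ : IrrCharacter G, (χ : G → ℂ) (s * s) * (χ : G → ℂ) 1 := by
          simp only [hcol]
          rw [← Finset.sum_filter, Finset.sum_const, nsmul_eq_mul]
          rw [mul_left_comm, inv_mul_cancel₀ (Nat.cast_ne_zero.2 Nat.card_pos.ne'), mul_one,
            Nat.card_eq_fintype_card, Fintype.card_subtype]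
          simp only [pow_two]
      _ = ∑ χ : IrrCharacter G, (ν χ : ℂ) * (deg χ : ℂ) := by
          rw [Finset.sum_comm, Finset.mul_sum]
          refine Finset.sum_congr rfl fun χ _ => ?_
          rw [← Finset.sum_mul, hν, hdeg1]; ring
  -- stabilizers
  have hstab : ∀ χ : IrrCharacter G, Nat.card (MulAction.stabilizer (Sgn G) χ) ≤ (deg χ) ^ 2 := by
    intro χ
    set K := MulAction.stabilizer (Sgn G) χ
    haveI : Fintype K := Fintype.ofFinite _
    let S : G → ℝ := fun s => ∑ e : K, ((e.1.1 s : ℂ)).re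
    have hS0 : ∀ s, 0 ≤ S s := by
      intro s
      by_cases h1 : ∀ e : K, (e.1.1 s : ℂ) = 1
      · exact Finset.sum_nonneg fun e _ => by rw [h1 e]; simp
      · push Not at h1
        obtain ⟨e₀, he₀⟩ := h1
        have hm : (e₀.1.1 s : ℂ) = -1 := (sgn_values e₀.1 s).resolve_left he₀
        have h2 : S s = -S s := by
          simp only [S, ← Finset.sum_neg_distrib]
          refine (Equiv.sum_comp (Equiv.mulLeft e₀) fun e : K => ((e.1.1 s : ℂ)).re).symm.trans ?_
          refine Finset.sum_congr rfl fun e _ => ?_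
          show (((e₀.1 * e.1 : Sgn G)).1 s : ℂ).re = _
          rw [show ((e₀.1 * e.1 : Sgn G)).1 = e₀.1.1 * e.1.1 from rfl, MonoidHom.mul_apply, Units.val_mul, hm]
          simp
        linarith
    have hχ : ∑ s : G, ‖(χ : G → ℂ) s‖ ^ 2 = (Nat.card G : ℝ) := by
      have h := classInner_irr_self χ
      rw [classInner, inv_mul_eq_one₀ (Nat.cast_ne_zero.2 Nat.card_pos.ne')] at h
      have h2 := congrArg Complex.re h
      simp only [Complex.mul_conj, Complex.natCast_re, Complex.re_sum, Complex.ofReal_re,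
        Complex.normSq_eq_norm_sq] at h2
      exact h2.symm
    have hfix : ∀ (e : K) (s : G), ‖(χ : G → ℂ) s‖ ^ 2 * ((e.1.1 s : ℂ)).re = ‖(χ : G → ℂ) s‖ ^ 2 := by
      intro e s
      have h : (e.1.1 s : ℂ) * (χ : G → ℂ) s = (χ : G → ℂ) s :=
        congrFun (congrArg Subtype.val (MulAction.mem_stabilizer_iff.1 e.2)) s
      rcases sgn_values e.1 s with h1 | h1
      · rw [h1]; simp
      · rw [h1, neg_one_mul, neg_eq_self] at h
        simp [h]
    have hone : ∑ s : G, S s = (Nat.card G : ℝ) := by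
      simp only [S]
      rw [Finset.sum_comm, Finset.sum_eq_single (1 : K)]
      · rw [show ((1 : K).1).1 = (1 : G →* ℂˣ) from rfl]
        simp [Nat.card_eq_fintype_card]
      · intro e _ he
        have hne : e.1.1 ≠ 1 := fun h => he (Subtype.ext (Subtype.ext h))
        obtain ⟨g, hg⟩ : ∃ g, e.1.1 g ≠ 1 := by
          by_contra hc
          push Not at hc
          exact hne (MonoidHom.ext hc)
        have hm : (e.1.1 g : ℂ) = -1 :=
          (sgn_values e.1 g).resolve_left fun h => hg (Units.val_eq_one.1 h)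
        have h2 := (Equiv.sum_comp (Equiv.mulLeft g) fun s : G => ((e.1.1 s : ℂ)).re).symm
        simp only [Equiv.coe_mulLeft, map_mul, Units.val_mul, hm, neg_one_mul, Complex.neg_re,
          Finset.sum_neg_distrib] at h2
        linarith
      · simp
    have h1 : (Nat.card K : ℝ) * (Nat.card G : ℝ) = ∑ s : G, ‖(χ : G → ℂ) s‖ ^ 2 * S s := by
      simp only [S, Finset.mul_sum, hfix, Finset.sum_const, nsmul_eq_mul]
      rw [← hχ, Finset.mul_sum]
      simp [Nat.card_eq_fintype_card]
    have h2 : ∑ s : G, ‖(χ : G → ℂ) s‖ ^ 2 * S s ≤ ∑ s : G, (deg χ : ℝ) ^ 2 * S s :=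
      Finset.sum_le_sum fun s _ => mul_le_mul_of_nonneg_right
        (pow_le_pow_left₀ (norm_nonneg _) (hdegle χ s) 2) (hS0 s)
    rw [← Finset.mul_sum, hone] at h2
    have h3 := le_of_mul_le_mul_right (h1.le.trans h2) (Nat.cast_pos.2 Nat.card_pos)
    exact_mod_cast h3
  obtain ⟨d, hd⟩ : ∃ d, Nat.card (Sgn G) = 2 ^ d := by
    refine (IsPGroup.exists_card_eq (p := 2) (G := Sgn G) fun e => ⟨1, ?_⟩)
    exact Subtype.ext e.2
  have hdk : 2 * k + 1 ≤ d := by
    rw [← Nat.pow_le_pow_iff_right (le_refl 2), ← hd]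
    exact hgen.trans (card_sgn_ge hG)
  -- each orbit contributes a multiple of `2 ^ (k + 1)`
  have key : ((2 ^ (k + 1) : ℕ) : ℤ) ∣ ∑ χ : IrrCharacter G, ν χ * deg χ := by
    rw [← Finset.sum_fiberwise Finset.univ
      (fun χ : IrrCharacter G => (Quotient.mk'' χ : MulAction.orbitRel.Quotient (Sgn G) (IrrCharacter G)))]
    refine Finset.dvd_sum fun o _ => ?_
    induction o using Quotient.inductionOn' with
    | h χ =>
      have hmem : ∀ ψ : IrrCharacter G,
          ((Quotient.mk'' ψ : MulAction.orbitRel.Quotient (Sgn G) (IrrCharacter G)) = Quotient.mk'' χ) ↔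
            ψ ∈ MulAction.orbit (Sgn G) χ := fun ψ => Quotient.eq''.trans MulAction.orbitRel_apply
      have hconst : ∀ ψ ∈ Finset.univ.filter
          (fun ψ : IrrCharacter G => (Quotient.mk'' ψ : MulAction.orbitRel.Quotient (Sgn G) (IrrCharacter G)) = Quotient.mk'' χ),
          ν ψ * deg ψ = ν χ * deg χ := by
        intro ψ hψ
        obtain ⟨e, rfl⟩ := (hmem ψ).1 (Finset.mem_filter.1 hψ).2
        rw [(hinv e χ).1, (hinv e χ).2]
      rw [Finset.sum_congr rfl hconst, Finset.sum_const, nsmul_eq_mul]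
      set N := (Finset.univ.filter
        (fun ψ : IrrCharacter G => (Quotient.mk'' ψ : MulAction.orbitRel.Quotient (Sgn G) (IrrCharacter G)) = Quotient.mk'' χ)).card with hN
      have hNorb : N = (MulAction.stabilizer (Sgn G) χ).index := by
        rw [MulAction.index_stabilizer, hN, ← Set.ncard_coe_finset]
        congr 1
        ext ψ
        simp [hmem]
      have hmul := (MulAction.stabilizer (Sgn G) χ).card_mul_index
      rw [← hNorb, hd] at hmul
      obtain ⟨b, -, hb⟩ := (Nat.dvd_prime_pow Nat.prime_two).1 (Dvd.intro _ hmul)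
      obtain ⟨c, -, hc⟩ := (Nat.dvd_prime_pow Nat.prime_two).1 (Dvd.intro_left _ hmul)
      rw [hb, hc, ← pow_add] at hmul
      have hbc := Nat.pow_right_injective (le_refl 2) hmul
      have hba : b ≤ 2 * a χ := by
        have h := hstab χ
        rw [hb, hdega, ← pow_mul, Nat.pow_le_pow_iff_right (le_refl 2)] at h
        omega
      have hdvd : 2 ^ (k + 1) ∣ N * deg χ := by
        rw [hc, hdega, ← pow_add]
        exact pow_dvd_pow 2 (by omega)
      have hz : ((2 ^ (k + 1) : ℕ) : ℤ) ∣ ((N * deg χ : ℕ) : ℤ) := Int.natCast_dvd_natCast.2 hdvd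
      refine hz.trans ⟨ν χ, ?_⟩
      push_cast
      ring
  rw [← hcount] at key
  exact Int.natCast_dvd_natCast.1 key

end Cfsg.Agent.S4058
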