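import Cfsg.Statements.S4059
import Cfsg.Agent.S3863
import Cfsg.Agent.Lib.Coprime.Core

set_option autoImplicit false
set_option linter.style.haveILetI false
open Cfsg

namespace Cfsg.Agent.S4059

/-- Let G be a finite group in which every element is conjugate to its inverse. Then: every non-identity element commuting with all elements of some Sylow 2-subgroup is an involution; the centre of G is an elementary abelian 2-group; the commutator quotient G/G' is an elementary abelian 2-group; and G is generated by its 2-elements. -/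
theorem result {G : Type*} [Group G] [Finite G] (hamb : ∀ x : G, IsConj x x⁻¹) :
    (∀ (S : Sylow 2 G) (x : G), x ∈ Subgroup.centralizer ((S : Subgroup G) : Set G) → x ≠ 1 → orderOf x = 2) ∧
    (∀ z : G, z ∈ Subgroup.center G → z ^ 2 = 1) ∧
    (∀ x : G, x ^ 2 ∈ commutator G) ∧
    Subgroup.closure {x : G | ∃ k : ℕ, orderOf x = 2 ^ k} = ⊤ := by
  have key : ∀ x : G, x ^ 2 ∈ commutator G := by
    intro x
    obtain ⟨t, ht⟩ := isConj_iff.1 (hamb x)
    have h1 : t * x * t⁻¹ * x⁻¹ ∈ commutator G :=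
      Subgroup.commutator_mem_commutator (Subgroup.mem_top t) (Subgroup.mem_top x)
    rw [ht] at h1
    simpa [pow_two] using Subgroup.inv_mem _ h1
  refine ⟨fun S x hx hx1 => ?_, fun z hz => ?_, key, ?_⟩
  · have hodd : Odd (Subgroup.centralizer ({x} : Set G)).index := by
      rw [← Nat.not_even_iff_odd, even_iff_two_dvd]
      exact fun hd => S.not_dvd_index (hd.trans (Subgroup.index_dvd_of_le fun s hs =>
        Subgroup.mem_centralizer_singleton_iff.2 (Subgroup.mem_centralizer_iff.1 hx s hs)))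
    exact orderOf_eq_prime ((Cfsg.Agent.S3863.result x (hamb x)).2.1 hodd) hx1
  · obtain ⟨t, ht⟩ := isConj_iff.1 (hamb z)
    rw [Subgroup.mem_center_iff.1 hz t, mul_inv_cancel_right] at ht
    rw [pow_two]
    nth_rw 2 [ht]
    exact mul_inv_cancel z
  · set K := Subgroup.closure {x : G | ∃ k : ℕ, orderOf x = 2 ^ k}
    haveI : K.Normal := by
      refine ⟨fun n hn g => ?_⟩
      have hle : K ≤ K.comap (MulAut.conj g).toMonoidHom :=
        (Subgroup.closure_le _).2 fun z hz => Subgroup.subset_closure (by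
          obtain ⟨k, hk⟩ := hz
          exact ⟨k, hk ▸ orderOf_injective (MulAut.conj g).toMonoidHom (MulAut.conj g).injective z⟩)
      exact hle hn
    refine eq_top_iff.2 fun x _ => ?_
    obtain ⟨⟨t, ⟨j, hj⟩, ht⟩, -, -⟩ := Cfsg.Agent.S3863.result x (hamb x)
    have htK : t ∈ K := Subgroup.subset_closure ⟨j, hj⟩
    have h1 : t * (x * t⁻¹ * x⁻¹) ∈ K :=
      K.mul_mem htK (‹K.Normal›.conj_mem _ (K.inv_mem htK) x)
    rw [show t * (x * t⁻¹ * x⁻¹) = t * x * t⁻¹ * x⁻¹ by group, ht] at h1
    have hx2 : x ^ 2 ∈ K := by simpa [pow_two] using K.inv_mem h1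
    let S : Sylow 2 G := default
    have hSK : (S : Subgroup G) ≤ K := fun s hs => by
      obtain ⟨k, hk⟩ := (IsPGroup.iff_orderOf.1 S.isPGroup') ⟨s, hs⟩
      exact Subgroup.subset_closure ⟨k, by rw [← hk, Subgroup.orderOf_mk]⟩
    have h2 : ¬ 2 ∣ K.index := fun hd => S.not_dvd_index (hd.trans (Subgroup.index_dvd_of_le hSK))
    obtain ⟨i, hi⟩ := Nat.not_even_iff_odd.1 (fun he => h2 he.two_dvd)
    have h3 := K.pow_index_mem x
    rw [hi, pow_succ, pow_mul] at h3
    exact (K.mul_mem_cancel_left (K.pow_mem hx2 i)).1 h3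

end Cfsg.Agent.S4059
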