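import Cfsg.Statements.S4060
import Cfsg.Agent.Lib.Coprime.Primitive
import Cfsg.Agent.Lib.Coprime.MaximalSubgroups
import Cfsg.Agent.S3863

set_option autoImplicit false
set_option linter.style.haveILetI false
open Cfsg

namespace Cfsg.Agent.S4060

/-- Let G be a finite solvable group with Sylow 2-subgroup S, and let x ≠ 1 be an element of odd order normalizing S. Then x is not conjugate to its inverse in G. -/
theorem result {G : Type*} [Group G] [Finite G] [Group.IsSolvable G]
    (S : Sylow 2 G) (x : G) (hx : x ≠ 1) (hodd : Odd (orderOf x))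
    (hnorm : x ∈ Subgroup.normalizer ((S : Subgroup G) : Set G)) : ¬ IsConj x x⁻¹ := by
  induction hn : Nat.card G using Nat.strongRecOn generalizing G with
  | ind n ih =>
    subst hn
    intro hreal
    haveI : Nontrivial G := ⟨⟨x, 1, hx⟩⟩
    obtain ⟨V, hVn, hV0, -, hmin⟩ :=
      CfsgLib.Coprime.exists_minimal_normal_le (N := (⊤ : Subgroup G)) top_ne_bot
    haveI := hVn
    by_cases hxV : x ∈ V
    · obtain ⟨q, d, hq, -, hVcard, -, -⟩ := CfsgLib.Coprime.exists_minimal_abelian V hV0 hmin
      have hq2 : q ≠ 2 := by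
        rintro rfl
        have h1 := V.orderOf_dvd_natCard hxV
        rw [hVcard] at h1
        obtain ⟨i, -, hi⟩ := (Nat.dvd_prime_pow Nat.prime_two).1 h1
        rcases Nat.eq_zero_or_pos i with h0 | h0
        · exact hx (orderOf_eq_one_iff.1 (by rw [hi, h0, pow_zero]))
        · rw [hi] at hodd
          exact Nat.not_odd_iff_even.2 (even_two.pow_of_ne_zero h0.ne') hodd
      have hinf : V ⊓ (S : Subgroup G) = ⊥ := by
        refine Subgroup.inf_eq_bot_of_coprime ?_
        obtain ⟨i, hi⟩ := IsPGroup.iff_card.1 S.isPGroup'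
        rw [hVcard, hi]
        exact Nat.Coprime.pow d i ((Nat.coprime_primes hq Nat.prime_two).2 hq2)
      have hle : (S : Subgroup G) ≤ Subgroup.centralizer ({x} : Set G) := by
        intro s hs
        have h1 : x * s * x⁻¹ * s⁻¹ ∈ V ⊓ (S : Subgroup G) := by
          refine ⟨?_, (S : Subgroup G).mul_mem ((Subgroup.mem_normalizer_iff.1 hnorm s).1 hs)
            ((S : Subgroup G).inv_mem hs)⟩
          have := V.mul_mem hxV (hVn.conj_mem _ (V.inv_mem hxV) s)
          simpa [mul_assoc] using this
        rw [hinf, Subgroup.mem_bot, mul_inv_eq_one, mul_inv_eq_iff_eq_mul] at h1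
        exact Subgroup.mem_centralizer_singleton_iff.2 h1.symm
      have hoddI : Odd (Subgroup.centralizer ({x} : Set G)).index := by
        rw [← Nat.not_even_iff_odd, even_iff_two_dvd]
        exact fun hd => S.not_dvd_index (hd.trans (Subgroup.index_dvd_of_le hle))
      have h2 := orderOf_dvd_of_pow_eq_one ((Cfsg.Agent.S3863.result x hreal).2.1 hoddI)
      rcases (Nat.dvd_prime Nat.prime_two).1 h2 with h | h
      · exact hx (orderOf_eq_one_iff.1 h)
      · rw [h] at hodd; exact absurd hodd (by decide)
    · set f := QuotientGroup.mk' V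
      have hsur := QuotientGroup.mk'_surjective V
      refine ih _ (CfsgLib.Coprime.card_quotient_lt hV0) (S.mapSurjective hsur) (f x)
        (fun e => hxV ((QuotientGroup.eq_one_iff x).1 e)) (hodd.of_dvd_nat (orderOf_map_dvd f x)) ?_ rfl
        (f.map_isConj hreal |> fun h => by rwa [map_inv] at h)
      exact Subgroup.le_normalizer_map f ⟨x, hnorm, rfl⟩

end Cfsg.Agent.S4060
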