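import Cfsg.Statements.S4061
import Cfsg.Agent.Lib.Coprime.UniqueOrderP
import Cfsg.Agent.Lib.Coprime.Primitive
import Cfsg.Agent.Lib.Invol.OddCore
import Cfsg.Agent.Lib.Invol.Basic
import Cfsg.Agent.S3863
import Mathlib.GroupTheory.FixedPointFree
import Mathlib.GroupTheory.Transfer
import Cfsg.Agent.Lib.PGroup.ShortTools
-- import your own Cfsg.Agent.* helpers here

set_option autoImplicit false
open Cfsg

namespace Cfsg.Agent.S4061

open Subgroup CfsgLib.Coprime

universe u

theorem invol_lift {G Q : Type*} [Group G] [Group Q] [Finite G] (π : G →* Q)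
    (hsur : Function.Surjective π) (hker : Odd (Nat.card π.ker)) {s : Q} (hs : orderOf s = 2) :
    ∃ a : G, orderOf a = 2 ∧ π a = s := by
  obtain ⟨x, rfl⟩ := hsur s
  have h2 : x ^ 2 ∈ π.ker := by
    rw [MonoidHom.mem_ker, map_pow, ← hs, pow_orderOf_eq_one]
  obtain ⟨k, hk⟩ := hker
  have h1 : (x ^ 2) ^ (2 * k + 1) = 1 := by
    rw [← hk]
    exact congrArg Subtype.val (pow_card_eq_one' (x := (⟨x ^ 2, h2⟩ : π.ker)))
  have hπ : π (x ^ (2 * k + 1)) = π x := by
    rw [map_pow, pow_succ, pow_mul, ← hs, pow_orderOf_eq_one, one_pow, one_mul]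
  refine ⟨x ^ (2 * k + 1), orderOf_eq_prime (by rw [← pow_mul, mul_comm, pow_mul, h1]) ?_, hπ⟩
  intro e
  rw [e, map_one] at hπ
  rw [← hπ, orderOf_one] at hs
  exact absurd hs (by norm_num)

theorem eq_one_of_self_inv {G : Type*} [Group G] {K : Subgroup G} (hK : Odd (Nat.card K)) {y : G}
    (hy : y ∈ K) (h : y = y⁻¹) : y = 1 := by
  refine orderOf_eq_one_iff.1 (Nat.dvd_one.1 ?_)
  rw [← Nat.coprime_two_right.2 hK, Nat.dvd_gcd_iff]
  exact ⟨Subgroup.orderOf_dvd_natCard K hy, orderOf_dvd_of_pow_eq_one (by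
    rw [pow_two]; nth_rw 2 [h]; exact mul_inv_cancel y)⟩

theorem card_two_of_cyclic {Q : Type*} [Group Q] [Finite Q] [Fact (Nat.Prime 2)]
    (hamb : ∀ x : Q, IsConj x x⁻¹) (heven : 2 ∣ Nat.card Q)
    (hcore : Cfsg.pPrimeCore 2 Q = ⊥) (T : Sylow 2 Q) (hc : IsCyclic T) : Nat.card Q = 2 := by
  have h2 : (Nat.card Q).minFac = 2 :=
    (Nat.minFac_eq_two_iff _).2 heven
  have hcomp := MonoidHom.ker_transferSylow_isComplement' T
    (IsCyclic.normalizer_le_centralizer h2 hc)
  set K := (MonoidHom.transferSylow T (IsCyclic.normalizer_le_centralizer h2 hc)).ker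
  have hK : K = ⊥ := le_bot_iff.1 (hcore ▸ le_pPrimeCore_of_not_dvd Nat.prime_two
    (fun h => T.not_dvd_index (hcomp.index_eq_card.symm ▸ h)))
  have hT : (T : Subgroup Q) = ⊤ := by
    rw [hK, isComplement'_bot_left] at hcomp
    exact hcomp
  haveI : IsCyclic Q := by
    have : IsCyclic (⊤ : Subgroup Q) := hT ▸ hc
    exact topEquiv.isCyclic.1 this
  obtain ⟨g, hg⟩ := IsCyclic.exists_ofOrder_eq_natCard (α := Q)
  obtain ⟨c, hcg⟩ := isConj_iff.1 (hamb g)
  haveI : IsMulCommutative Q := IsCyclic.commutative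
  rw [(IsMulCommutative.is_comm.comm c g : c * g = g * c), mul_inv_cancel_right] at hcg
  have h3 : g ^ 2 = 1 := by rw [pow_two]; nth_rw 2 [hcg]; exact mul_inv_cancel g
  have := orderOf_dvd_of_pow_eq_one h3
  rw [hg] at this
  exact Nat.dvd_antisymm this heven

theorem uniqueInvol (Q : Type u) [Group Q] [Finite Q] [Group.IsSolvable Q]
    (hamb : ∀ x : Q, IsConj x x⁻¹) (heven : 2 ∣ Nat.card Q)
    (hone : ∀ s t : Q, orderOf s = 2 → orderOf t = 2 → IsConj s t)
    (hcore : Cfsg.pPrimeCore 2 Q = ⊥) : UniqueOrderP 2 Q := by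
  haveI : Fact (Nat.Prime 2) := ⟨Nat.prime_two⟩
  haveI : Nontrivial Q := Finite.one_lt_card_iff_nontrivial.1
    (lt_of_lt_of_le one_lt_two (Nat.le_of_dvd Nat.card_pos heven))
  obtain ⟨N, hNn, hN0, -, hNmin⟩ := exists_minimal_normal_le (N := (⊤ : Subgroup Q)) top_ne_bot
  haveI := hNn
  obtain ⟨p, d, hp, hd, hNcard, -, hNab⟩ := exists_minimal_abelian N hN0 hNmin
  have hp2 : p = 2 := by
    by_contra hp2
    refine hN0 (le_bot_iff.1 (hcore ▸ le_pPrimeCore_of_not_dvd Nat.prime_two ?_))
    rw [hNcard]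
    exact fun h => hp2 ((Nat.prime_dvd_prime_iff_eq Nat.prime_two hp).1
      (Nat.prime_two.dvd_of_dvd_pow h)).symm
  subst hp2
  obtain ⟨e, heN, he⟩ : ∃ e ∈ N, orderOf e = 2 := CfsgLib.Invol.exists_invol_mem
    (by rw [hNcard]; exact even_two.pow_of_ne_zero hd.ne')
  have hall : ∀ t : Q, orderOf t = 2 → t ∈ N := by
    intro t ht
    obtain ⟨c, rfl⟩ := isConj_iff.1 (hone e t he ht)
    exact hNn.conj_mem e heN c
  set H := centralizer ({e} : Set Q) with hH
  by_cases hHtop : H = ⊤
  · have huniq : ∀ t : Q, orderOf t = 2 → t = e := by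
      intro t ht
      obtain ⟨c, rfl⟩ := isConj_iff.1 (hone e t he ht)
      have := mem_centralizer_singleton_iff.1 (hHtop ▸ mem_top c : c ∈ H)
      rw [this, mul_inv_cancel_right]
    intro x y hx hy hx1
    by_cases hy1 : y = 1
    · rw [hy1]; exact one_mem _
    · rw [huniq y (orderOf_eq_prime hy hy1), ← huniq x (orderOf_eq_prime hx hx1)]
      exact mem_zpowers x
  exfalso
  obtain ⟨M, hM, hHM⟩ := (eq_top_or_exists_le_coatom H).resolve_left hHtop
  have hNH : N ≤ H := fun x hx => mem_centralizer_singleton_iff.2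
    (mem_centralizer_iff.1 (hNab hx) e heN).symm
  set C := M.normalCore with hC
  have hNC : N ≤ C := normal_le_normalCore.2 (hNH.trans hHM)
  set π := QuotientGroup.mk' C with hπ
  have hsur := QuotientGroup.mk'_surjective C
  have hker : π.ker ≤ M := by rw [hπ, QuotientGroup.ker_mk']; exact normalCore_le M
  have hidx : (M.map π).index = M.index := index_map_eq M hsur hker
  have hmem : ∀ g : Q, π g ∈ M.map π → g ∈ M := fun g hg => by
    rw [← mem_comap, comap_map_eq_self hker] at hg; exact hg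
  have hMne : M.map π ≠ ⊤ := fun e => hM.1 (by
    rw [← comap_map_eq_self hker, e, comap_top])
  haveI : Nontrivial (Q ⧸ C) := by
    obtain ⟨g, hg⟩ := SetLike.exists_not_mem_of_ne_top (M.map π) hMne
    exact ⟨⟨g, 1, fun e => hg (e ▸ one_mem _)⟩⟩
  obtain ⟨K, hKn, hK0, -, hKmin⟩ := exists_minimal_normal_le (N := (⊤ : Subgroup (Q ⧸ C))) top_ne_bot
  haveI := hKn
  obtain ⟨-, -, -, -, -, -, hKab⟩ := exists_minimal_abelian K hK0 hKmin
  have hMcoatom : IsCoatom (M.map π) := by
    refine ⟨hMne, fun L hL => ?_⟩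
    rw [← map_comap_eq_self_of_surjective hsur L, hM.2 (L.comap π) ?_, map_top_of_surjective π hsur]
    exact lt_of_eq_of_lt (comap_map_eq_self hker).symm ((comap_lt_comap_of_surjective hsur).2 hL)
  have hMcore : (M.map π).normalCore = ⊥ := by
    have h1 : ((M.map π).normalCore.comap π) ≤ C :=
      normal_le_normalCore.2 ((comap_mono (normalCore_le _)).trans (comap_map_eq_self hker).le)
    rw [← map_comap_eq_self_of_surjective hsur (M.map π).normalCore, eq_bot_iff]
    refine (map_mono h1).trans ?_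
    exact ((map_eq_bot_iff C).2 (QuotientGroup.ker_mk' C).ge).le
  have hinf : K ⊓ M.map π = ⊥ := le_bot_iff.1
    ((inf_le_inf_right _ hKab).trans (centralizer_inf_eq_bot hMcoatom hMcore K hK0).le)
  have hsup := sup_eq_top_of_normal hMcoatom hMcore K hK0
  have hcompl : K.IsComplement' (M.map π) := by
    refine isComplement'_of_disjoint_and_mul_eq_univ (disjoint_iff.2 hinf) ?_
    rw [← normal_mul, hsup, coe_top]
  have hclass : M.index ∣ H.index := index_dvd_of_le hHM
  have hHodd : Odd H.index := by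
    have hcard : H.index = Nat.card {x : Q // orderOf x = 2} := by
      rw [hH, ← CfsgLib.PGroup.card_setOf_isConj]
      refine Nat.card_congr (Equiv.subtypeEquivRight fun x => ⟨fun h => ?_, fun h => hone e x he h⟩)
      obtain ⟨c, rfl⟩ := isConj_iff.1 h
      exact CfsgLib.Invol.invol_conj he c
    have hev := CfsgLib.Invol.even_card_sq_eq_one (G := Q) (even_iff_two_dvd.2 heven)
    have hsplit : Nat.card {x : Q // x * x = 1} = Nat.card {x : Q // orderOf x = 2} + 1 := by
      classical
      rw [← Finite.card_option]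
      exact Nat.card_congr
        { toFun := fun x => if h : x.1 = 1 then none else
            some ⟨x.1, CfsgLib.Invol.invol_iff.2 ⟨x.2, h⟩⟩
          invFun := fun o => o.elim ⟨1, by simp⟩ fun x => ⟨x.1, CfsgLib.Invol.invol_mul_self x.2⟩
          left_inv := fun x => by
            by_cases h : x.1 = 1
            · simp only [dif_pos h]; exact Subtype.ext h.symm
            · simp only [dif_neg h]; rfl
          right_inv := fun o => by
            rcases o with _ | ⟨x, hx⟩
            · simp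
            · simp [CfsgLib.Invol.invol_ne_one hx] }
    rw [hcard]
    rw [hsplit, Nat.even_add_one, Nat.not_even_iff_odd] at hev
    exact hev
  have hKodd : Odd (Nat.card K) := by
    rw [← hcompl.index_eq_card, hidx]
    exact hHodd.of_dvd_nat hclass
  obtain ⟨k0, hk0, hk1⟩ := K.ne_bot_iff_exists_ne_one.1 hK0 |> fun ⟨a, ha⟩ =>
    (⟨a.1, a.2, fun h => ha (Subtype.ext h)⟩ : ∃ a, a ∈ K ∧ a ≠ 1)
  obtain ⟨x, rfl⟩ := hsur k0
  obtain ⟨a, m, hm, hxo⟩ := Nat.exists_eq_pow_mul_and_not_dvd (orderOf_pos x).ne' 2 (by norm_num)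
  have hm0 : m ≠ 0 := fun h => hm (by simp [h])
  set y := x ^ 2 ^ a with hy
  have hyodd : Odd (orderOf y) := by
    rw [hy, orderOf_pow_of_dvd (by positivity) (Dvd.intro _ hxo.symm), hxo,
      Nat.mul_div_cancel_left _ (by positivity), ← Nat.not_even_iff_odd, even_iff_two_dvd]
    exact hm
  have hyK : π y ∈ K := by rw [hy, map_pow]; exact K.pow_mem hk0 _
  have hyC : y ∉ C := by
    intro hyC
    have h1 : (π x) ^ 2 ^ a = 1 := by
      rw [← map_pow, ← MonoidHom.mem_ker, hπ, QuotientGroup.ker_mk']; exact hyC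
    refine hk1 (orderOf_eq_one_iff.1 (Nat.eq_one_of_dvd_coprimes ?_
      (orderOf_dvd_of_pow_eq_one h1) (K.orderOf_dvd_natCard hk0)))
    exact Nat.Coprime.pow_left a (Nat.coprime_two_left.2 hKodd)
  obtain ⟨t, ⟨j, hto⟩, hty⟩ := (Cfsg.Agent.S3863.result y (hamb y)).1
  rcases j with _ | _ | j
  · rw [pow_zero, orderOf_eq_one_iff] at hto
    rw [hto, one_mul, inv_one, mul_one] at hty
    exact hyC ((eq_one_of_self_inv (K := zpowers y) (by rw [Nat.card_zpowers]; exact hyodd)
      (mem_zpowers y) hty) ▸ one_mem C)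
  · have htC : t ∈ C := hNC (hall t (by simpa using hto))
    have h1 : y * y ∈ C := by
      have h2 : t * (y * t⁻¹ * y⁻¹) ∈ C :=
        mul_mem htC ((M.normalCore_normal).conj_mem _ (inv_mem htC) y)
      have e : t * (y * t⁻¹ * y⁻¹) = (y * y)⁻¹ := by
        rw [show t * (y * t⁻¹ * y⁻¹) = t * y * t⁻¹ * y⁻¹ by group, hty]; group
      rw [e] at h2
      exact inv_mem_iff.1 h2
    obtain ⟨k, hk⟩ := hyodd
    have e : y = (y * y) ^ (k + 1) := by
      rw [← pow_two, ← pow_mul, show 2 * (k + 1) = (2 * k + 1) + 1 by ring, pow_succ, ← hk,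
        pow_orderOf_eq_one, one_mul]
    exact hyC (e.symm ▸ pow_mem h1 _ : y ∈ C)
  · set f := t ^ 2 ^ (j + 1) with hf
    have hfo : orderOf f = 2 := by
      rw [hf, orderOf_pow_of_dvd (by positivity) (hto ▸ pow_dvd_pow 2 (by omega)), hto,
        pow_succ 2 (j + 1), Nat.mul_div_cancel_left _ (by positivity)]
    have hfy : f * y * f⁻¹ = y := by
      have h2 : Commute (t * t) y := by
        refine mul_inv_eq_iff_eq_mul.1 ?_
        calc t * t * y * (t * t)⁻¹ = t * (t * y * t⁻¹) * t⁻¹ := by group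
          _ = t * y⁻¹ * t⁻¹ := by rw [hty]
          _ = (t * y * t⁻¹)⁻¹ := by group
          _ = y := by rw [hty, inv_inv]
      rw [hf, pow_succ', pow_mul, pow_two, (h2.pow_left _).eq, mul_inv_cancel_right]
    obtain ⟨c, hc⟩ := isConj_iff.1 (hone e f he hfo)
    have hcy : c⁻¹ * y * c ∈ M := by
      refine hHM (mem_centralizer_singleton_iff.2 ?_)
      have : Commute (c⁻¹ * f * c) (c⁻¹ * y * c) := by
        show c⁻¹ * f * c * (c⁻¹ * y * c) = c⁻¹ * y * c * (c⁻¹ * f * c)
        calc c⁻¹ * f * c * (c⁻¹ * y * c) = c⁻¹ * (f * y) * c := by group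
          _ = c⁻¹ * (y * f) * c := by rw [mul_inv_eq_iff_eq_mul.1 hfy]
          _ = _ := by group
      have e' : c⁻¹ * f * c = e := by rw [← hc]; group
      rw [e'] at this
      exact this.symm.eq
    have h3 : π (c⁻¹ * y * c) ∈ K ⊓ M.map π := by
      refine ⟨?_, mem_map_of_mem π hcy⟩
      have h4 := hKn.conj_mem _ hyK (π c⁻¹)
      rwa [← map_inv, inv_inv, ← map_mul, ← map_mul] at h4
    rw [hinf, mem_bot, map_mul, map_mul, map_inv, mul_eq_one_iff_eq_inv] at h3
    apply hyC
    rw [← QuotientGroup.ker_mk' C, MonoidHom.mem_ker, ← hπ]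
    calc π y = π c * ((π c)⁻¹ * π y) := by group
      _ = 1 := by rw [h3]; group


/-- Let G be a finite solvable group of even order in which every element is conjugate to its inverse and all involutions are conjugate. Then a Sylow 2-subgroup S of G has order 2 or is a generalized quaternion group (of order at least 8). Moreover, if S has order 2, then G is the semidirect product of its largest normal subgroup of odd order O(G) by S, O(G) equals the derived subgroup of G, and the involution of S inverts every element of O(G). -/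
theorem result {G : Type*} [Group G] [Finite G] [Group.IsSolvable G]
    (hamb : ∀ x : G, IsConj x x⁻¹) (heven : 2 ∣ Nat.card G) (hone : ∀ s t : G, orderOf s = 2 → orderOf t = 2 → IsConj s t) (S : Sylow 2 G) :
    (Nat.card S = 2 ∨ ∃ n : ℕ, Nonempty ((S : Subgroup G) ≃* QuaternionGroup (2 ^ (n + 1)))) ∧
    (Nat.card S = 2 → (S : Subgroup G).IsComplement' (Cfsg.oddCore G) ∧ Cfsg.oddCore G = commutator G ∧
        ∀ t : G, t ∈ S → t ≠ 1 → ∀ x : G, x ∈ Cfsg.oddCore G → t * x * t⁻¹ = x⁻¹) := by
  haveI : Fact (Nat.Prime 2) := ⟨Nat.prime_two⟩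
  set O := Cfsg.oddCore G with hO
  haveI : O.Characteristic := CfsgLib.Coprime.pPrimeCore_characteristic 2
  have hOc : (Nat.card O).Coprime 2 := CfsgLib.Coprime.pPrimeCore_coprime Nat.prime_two
  have hOodd : Odd (Nat.card O) := Nat.coprime_two_right.1 hOc
  set π := QuotientGroup.mk' O with hπ
  have hsur := QuotientGroup.mk'_surjective O
  haveI : Group.IsSolvable (G ⧸ O) := inferInstance
  have hambQ : ∀ x : G ⧸ O, IsConj x x⁻¹ := by
    intro x
    obtain ⟨g, rfl⟩ := hsur x
    rw [← map_inv]; exact π.map_isConj (hamb g)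
  have hevenQ : 2 ∣ Nat.card (G ⧸ O) := by
    rw [Subgroup.card_eq_card_quotient_mul_card_subgroup O] at heven
    exact (Nat.Coprime.dvd_of_dvd_mul_right hOc.symm heven)
  have honeQ : ∀ s t : G ⧸ O, orderOf s = 2 → orderOf t = 2 → IsConj s t := by
    intro s t hs ht
    obtain ⟨a, ha, rfl⟩ := invol_lift π hsur (by rw [hπ, QuotientGroup.ker_mk']; exact hOodd) hs
    obtain ⟨b, hb, rfl⟩ := invol_lift π hsur (by rw [hπ, QuotientGroup.ker_mk']; exact hOodd) ht
    exact π.map_isConj (hone a b ha hb)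
  have hcoreQ : Cfsg.pPrimeCore 2 (G ⧸ O) = ⊥ :=
    CfsgLib.Coprime.pPrimeCore_quotient_eq_bot Nat.prime_two
  obtain ⟨T, ⟨e⟩⟩ := CfsgLib.Invol.exists_sylow_quotient_equiv O hOc S
  have hu : UniqueOrderP 2 T := (uniqueInvol (G ⧸ O) hambQ hevenQ honeQ hcoreQ).subgroup _
  have hcyc : IsCyclic T → Nat.card (G ⧸ O) = 2 := fun hc =>
    card_two_of_cyclic hambQ hevenQ hcoreQ T hc
  have hS2 : IsCyclic T → Nat.card S = 2 := fun hc => by
    obtain ⟨k, hk⟩ := S.2.exists_card_eq
    have h1 : Nat.card T ∣ 2 :=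
      (Subgroup.card_subgroup_dvd_card (T : Subgroup (G ⧸ O))).trans (hcyc hc).dvd
    rcases (Nat.dvd_prime Nat.prime_two).1 h1 with h | h
    · exfalso
      have := T.dvd_card_of_dvd_card hevenQ
      omega
    · rw [Nat.card_congr e.toEquiv, h]
  refine ⟨?_, fun h2 => ?_⟩
  · rcases cyclic_or_quaternion_of_unique_two T.2 hu with hc | ⟨n, ⟨f⟩⟩
    · exact Or.inl (hS2 hc)
    · rcases n with _ | n
      · exact Or.inl (hS2 ((f.isCyclic).2 QuaternionGroup.quaternionGroup_one_isCyclic))
      · exact Or.inr ⟨n, ⟨e.trans f⟩⟩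
  · have hTc : IsCyclic T := isCyclic_of_prime_card (p := 2) (by rw [← Nat.card_congr e.toEquiv, h2])
    have hq := hcyc hTc
    have hidx : O.index = 2 := by rw [Subgroup.index_eq_card, hq]
    have hcomp : (S : Subgroup G).IsComplement' O := by
      refine Subgroup.isComplement'_of_coprime ?_ ?_
      · rw [h2, ← hidx, mul_comm, Subgroup.card_mul_index]
      · rw [h2]; exact hOc.symm
    refine ⟨hcomp, ?_, ?_⟩
    · haveI : IsCyclic (G ⧸ O) := isCyclic_of_prime_card hq
      refine le_antisymm ?_ ((Subgroup.Normal.quotient_commutative_iff_commutator_le (N := O)).1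
        ⟨⟨(IsCyclic.commutative (α := G ⧸ O)).is_comm.comm⟩⟩)
      intro x hx
      obtain ⟨c, hc⟩ := isConj_iff.1 (hamb x)
      have h1 : (Abelianization.of x) ^ 2 = 1 := by
        have := congrArg Abelianization.of hc
        rw [map_mul, map_mul, map_inv, map_inv, mul_inv_cancel_comm] at this
        rw [pow_two]
        nth_rw 2 [this]
        exact mul_inv_cancel _
      rw [← Abelianization.ker_of, MonoidHom.mem_ker]
      refine orderOf_eq_one_iff.1 (Nat.dvd_one.1 ?_)
      rw [← hOc, Nat.dvd_gcd_iff]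
      exact ⟨(orderOf_map_dvd Abelianization.of x).trans (Subgroup.orderOf_dvd_natCard O hx),
        orderOf_dvd_of_pow_eq_one h1⟩
    · intro t ht ht1 x hx
      have htt : t * t = 1 := by
        have h3 := Subgroup.orderOf_dvd_natCard (S : Subgroup G) ht
        rw [h2] at h3
        rw [← pow_two]
        exact orderOf_dvd_iff_pow_eq_one.1 h3
      have htO : t ∉ O := fun htO => ht1 (by
        have := hcomp.disjoint.le_bot (show t ∈ (S : Subgroup G) ⊓ O from ⟨ht, htO⟩)
        simpa using this)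
      have hfpf : MonoidHom.FixedPointFree (MulAut.conjNormal (H := O) t) := by
        intro y hy
        have hy' : t * y * t⁻¹ = (y : G) := by
          have := congrArg Subtype.val hy
          simpa using this
        obtain ⟨c, hc⟩ := isConj_iff.1 (hamb (y : G))
        obtain ⟨o, ho, hoy⟩ : ∃ o ∈ O, o * y * o⁻¹ = (y : G)⁻¹ := by
          by_cases hcO : c ∈ O
          · exact ⟨c, hcO, hc⟩
          · refine ⟨c * t, (Subgroup.mul_mem_iff_of_index_two hidx).2 (iff_of_false hcO htO), ?_⟩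
            calc c * t * y * (c * t)⁻¹ = c * (t * y * t⁻¹) * c⁻¹ := by group
              _ = _ := by rw [hy', hc]
        have hodd : Odd (orderOf o) := hOodd.of_dvd_nat (Subgroup.orderOf_dvd_natCard O ho)
        obtain ⟨k, hk⟩ := hodd
        have hsq : Commute (o ^ 2) (y : G) := by
          refine mul_inv_eq_iff_eq_mul.1 ?_
          calc o ^ 2 * y * (o ^ 2)⁻¹ = o * (o * y * o⁻¹) * o⁻¹ := by rw [pow_two]; group
            _ = o * (y : G)⁻¹ * o⁻¹ := by rw [hoy]
            _ = (o * y * o⁻¹)⁻¹ := by group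
            _ = y := by rw [hoy, inv_inv]
        have ho' : Commute o (y : G) := by
          have h4 : o = (o ^ 2) ^ (k + 1) := by
            rw [← pow_mul, show 2 * (k + 1) = (2 * k + 1) + 1 by ring, pow_succ, ← hk,
              pow_orderOf_eq_one, one_mul]
          rw [h4]; exact hsq.pow_left _
        rw [ho'.eq, mul_inv_cancel_right] at hoy
        apply Subtype.ext
        refine eq_one_of_self_inv hOodd y.2 hoy
      have hinv : Function.Involutive (MulAut.conjNormal (H := O) t) := by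
        intro y
        apply Subtype.ext
        simp only [MulAut.conjNormal_apply]
        calc t * (t * (y : G) * t⁻¹) * t⁻¹ = (t * t) * y * (t * t)⁻¹ := by group
          _ = y := by rw [htt]; simp
      have := congrFun (hfpf.coe_eq_inv_of_involutive hinv) ⟨x, hx⟩
      simpa using congrArg Subtype.val this

end Cfsg.Agent.S4061
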