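import Cfsg.Statements.S4062
import Mathlib

set_option autoImplicit false
open Cfsg Subgroup
open scoped commutatorElement

namespace Cfsg.Agent.S4062

universe u

variable {G : Type u} [Group G] [Finite G]

private theorem card_le_two_of_comm (hc : ∀ a b : G, a * b = b * a)
    (h : ∀ x y : G, orderOf x = orderOf y → IsConj x y) : Nat.card G ≤ 2 := by
  have heq : ∀ x y : G, orderOf x = orderOf y → x = y := fun x y hxy => by
    obtain ⟨c, hc'⟩ := isConj_iff.1 (h x y hxy)
    rw [hc c x, mul_inv_cancel_right] at hc'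
    exact hc'
  have hsq : ∀ x : G, x ≠ 1 → orderOf x = 2 := fun x hx => by
    have := heq x x⁻¹ (orderOf_inv x).symm
    exact orderOf_eq_prime (by rw [pow_two]; nth_rewrite 2 [this]; exact mul_inv_cancel x) hx
  by_contra hlt
  push Not at hlt
  have := Fintype.ofFinite G
  rw [Nat.card_eq_fintype_card] at hlt
  obtain ⟨a, b, c, hab, hac, hbc⟩ := Fintype.two_lt_card_iff.1 hlt
  by_cases ha : a = 1
  · exact hbc (heq b c (by rw [hsq b (fun hb => hab (ha.trans hb.symm)), hsq c (fun hb => hac (ha.trans hb.symm))]))
  · by_cases hb : b = 1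
    · exact hac (heq a c (by rw [hsq a ha, hsq c (fun hc' => hbc (hb.trans hc'.symm))]))
    · exact hab (heq a b (by rw [hsq a ha, hsq b hb]))

private theorem equiv_perm_three (h6 : Nat.card G = 6) (hnc : ¬ ∀ a b : G, a * b = b * a) :
    Nonempty (G ≃* Equiv.Perm (Fin 3)) := by
  haveI := Fact.mk Nat.prime_two
  haveI := Fact.mk Nat.prime_three
  obtain ⟨a, ha⟩ := exists_prime_orderOf_dvd_card' (G := G) 2 (by rw [h6]; norm_num)
  obtain ⟨x, hx⟩ := exists_prime_orderOf_dvd_card' (G := G) 3 (by rw [h6]; norm_num)
  have hA : (zpowers a).index = 3 := by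
    have := (zpowers a).card_mul_index
    rw [Nat.card_zpowers, ha, h6] at this
    omega
  have hker : (MulAction.toPermHom G (G ⧸ zpowers a)).ker = ⊥ := by
    rw [← Subgroup.normalCore_eq_ker]
    by_contra hne
    have hle := Subgroup.normalCore_le (zpowers a)
    have hcard : Nat.card (zpowers a).normalCore = 2 := by
      have hd := Subgroup.card_dvd_of_le hle
      rw [Nat.card_zpowers, ha] at hd
      rcases (Nat.dvd_prime Nat.prime_two).1 hd with h1 | h1
      · exact absurd (Subgroup.card_eq_one.1 h1) hne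
      · exact h1
    have heq : (zpowers a).normalCore = zpowers a :=
      Subgroup.eq_of_le_of_card_ge hle (by rw [hcard, Nat.card_zpowers, ha])
    have hxa : x * a * x⁻¹ ∈ zpowers a := by
      have ha' : a ∈ (zpowers a).normalCore := by rw [heq]; exact mem_zpowers a
      exact hle ((inferInstance : ((zpowers a).normalCore).Normal).conj_mem a ha' x)
    obtain ⟨k, hk⟩ := (Subgroup.mem_zpowers_iff).1 hxa
    have hcomm : Commute x a := by
      rcases Int.even_or_odd k with ⟨j, rfl⟩ | ⟨j, rfl⟩
      · exfalso
        have h1 : a ^ (j + j) = 1 := by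
          rw [← two_mul, zpow_mul, zpow_ofNat, ← ha, pow_orderOf_eq_one, _root_.one_zpow]
        rw [h1] at hk
        have : a = 1 := conj_eq_one_iff.1 hk.symm
        rw [this, orderOf_one] at ha; omega
      · have h1 : a ^ (2 * j + 1) = a := by
          rw [zpow_add, zpow_mul, zpow_ofNat, ← ha, pow_orderOf_eq_one, _root_.one_zpow, one_mul, zpow_one]
        rw [h1] at hk
        exact mul_inv_eq_iff_eq_mul.1 hk.symm
    have ho : orderOf (x * a) = 6 := by
      rw [hcomm.orderOf_mul_eq_mul_orderOf_of_coprime (by rw [hx, ha]; norm_num), hx, ha]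
    haveI : IsCyclic G := isCyclic_of_orderOf_eq_card (x * a) (by rw [ho, h6])
    letI := IsCyclic.commGroup (α := G)
    exact hnc mul_comm
  have hinj : Function.Injective (MulAction.toPermHom G (G ⧸ zpowers a)) := (MonoidHom.ker_eq_bot_iff _).1 hker
  have hq : Nat.card (G ⧸ zpowers a) = 3 := hA
  have e : G ⧸ zpowers a ≃ Fin 3 := by
    exact Nat.equivFinOfCardPos (by rw [hq]; norm_num) |>.trans (finCongr hq)
  have hc : Nat.card G = Nat.card (Equiv.Perm (G ⧸ zpowers a)) := by
    rw [h6, Nat.card_perm, hq]; rfl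
  exact ⟨(MulEquiv.ofBijective _ ((Nat.bijective_iff_injective_and_card _).2 ⟨hinj, hc⟩)).trans e.permCongrHom⟩

/-- A normal abelian subgroup of prime exponent containing all elements of that order. -/
private theorem exists_layer [Group.IsSolvable G] [Nontrivial G]
    (h : ∀ x y : G, orderOf x = orderOf y → IsConj x y) :
    ∃ (p : ℕ) (N : Subgroup G), p.Prime ∧ N.Normal ∧ N ≠ ⊥ ∧
      (∀ a b : G, a ∈ N → b ∈ N → a * b = b * a) ∧ (∀ x : G, x ∈ N ↔ x ^ p = 1) := by
  obtain ⟨k, hk0, hk1⟩ : ∃ k, derivedSeries G (k + 1) = ⊥ ∧ derivedSeries G k ≠ ⊥ := by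
    classical
    have hex := (Group.isSolvable_def G).1 inferInstance
    have h0 : Nat.find hex ≠ 0 := fun h0 => by
      have := Nat.find_spec hex
      rw [h0, derivedSeries_zero] at this
      exact top_ne_bot this
    obtain ⟨k, hk⟩ := Nat.exists_eq_succ_of_ne_zero h0
    exact ⟨k, by rw [← Nat.succ_eq_add_one, ← hk]; exact Nat.find_spec hex, Nat.find_min hex (by omega)⟩
  set D := derivedSeries G k
  haveI hDn : D.Normal := derivedSeries_normal G k
  have hab : ∀ a b : G, a ∈ D → b ∈ D → a * b = b * a := fun a b ha hb => by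
    have h3 : ⁅a, b⁆ ∈ derivedSeries G (k + 1) := commutator_mem_commutator ha hb
    rw [hk0] at h3
    exact commutatorElement_eq_one_iff_mul_comm.1 (mem_bot.1 h3)
  obtain ⟨p, hp, hpD⟩ := Nat.exists_prime_and_dvd ((one_lt_card_iff_ne_bot D).2 hk1).ne'
  haveI := Fact.mk hp
  obtain ⟨n, hn⟩ := exists_prime_orderOf_dvd_card' (G := D) p hpD
  have hno : orderOf (n : G) = p := (Subgroup.orderOf_coe n).trans hn
  have hmem : ∀ x : G, x ^ p = 1 → x ∈ D := fun x hx => by
    by_cases hx1 : x = 1
    · rw [hx1]; exact one_mem D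
    · obtain ⟨c, hc⟩ := isConj_iff.1 (h (n : G) x (hno.trans (orderOf_eq_prime hx hx1).symm))
      rw [← hc]; exact hDn.conj_mem _ n.2 c
  let N : Subgroup G :=
    { carrier := {x | x ^ p = 1}
      one_mem' := one_pow p
      mul_mem' := fun {a b} ha hb => by
        have : Commute a b := hab a b (hmem a ha) (hmem b hb)
        change (a * b) ^ p = 1
        rw [this.mul_pow, ha, hb, one_mul]
      inv_mem' := fun {a} ha => by
        change a⁻¹ ^ p = 1
        rw [inv_pow, ha, inv_one] }
  refine ⟨p, N, hp, ⟨fun a ha g => ?_⟩, fun h0 => ?_, fun a b ha hb => hab a b (hmem a ha) (hmem b hb), fun x => Iff.rfl⟩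
  · change (g * a * g⁻¹) ^ p = 1
    rw [conj_pow, show a ^ p = 1 from ha, mul_one, mul_inv_cancel]
  · have : (n : G) ∈ N := by change (n : G) ^ p = 1; rw [← hno, pow_orderOf_eq_one]
    rw [h0, mem_bot] at this
    rw [this, orderOf_one] at hno
    exact hp.one_lt.ne hno

private theorem index_centralizer_conj (t : G) :
    Nat.card (ConjClasses.mk t).carrier = (centralizer ({t} : Set G)).index := by
  have h1 : (centralizer ({t} : Set G)).index = (MulAction.stabilizer (ConjAct G) t).index := by
    rw [centralizer_eq_comap_stabilizer]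
    exact Subgroup.index_comap_of_surjective (f := (ConjAct.toConjAct (G := G)).toMonoidHom) _
      (ConjAct.toConjAct (G := G)).surjective
  rw [h1, MulAction.index_stabilizer, Nat.card_coe_set_eq, ConjAct.orbit_eq_carrier_conjClasses]

private theorem main (k : ℕ) : ∀ (G : Type u) [Group G] [Finite G] [Group.IsSolvable G], Nat.card G = k →
    (∀ x y : G, orderOf x = orderOf y → IsConj x y) →
    Nat.card G = 1 ∨ Nat.card G = 2 ∨ Nonempty (G ≃* Equiv.Perm (Fin 3)) := by
  induction k using Nat.strong_induction_on with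
  | _ k ih =>
    intro G _ _ _ hk h
    rcases subsingleton_or_nontrivial G with hs | hs
    · exact Or.inl (Nat.card_eq_one_iff_unique.2 ⟨hs, ⟨1⟩⟩)
    obtain ⟨p, N, hp, hN, hN1, hNc, hNp⟩ := exists_layer h
    haveI := hN
    haveI := Fact.mk hp
    have hmk : ∀ x : G, (x : G ⧸ N) = 1 ↔ x ∈ N := fun x => QuotientGroup.eq_one_iff x
    have hlift : ∀ x : G, p ∣ orderOf (x : G ⧸ N) → orderOf x = orderOf (x : G ⧸ N) * p := fun x hd => by
      set m := orderOf (x : G ⧸ N) with hm
      have hxm : x ^ m ∈ N := (hmk _).1 (by rw [QuotientGroup.mk_pow, hm, pow_orderOf_eq_one])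
      have hdvd : orderOf x ∣ m * p := orderOf_dvd_of_pow_eq_one (by rw [pow_mul]; exact (hNp _).1 hxm)
      have hm' : m ∣ orderOf x := orderOf_map_dvd (QuotientGroup.mk' N) x
      obtain ⟨r, hr⟩ := hm'
      have hmpos : 0 < m := orderOf_pos _
      rcases (Nat.dvd_prime hp).1 (Nat.dvd_of_mul_dvd_mul_left hmpos (hr ▸ hdvd)) with h1 | h1
      · exfalso
        obtain ⟨s, hs⟩ := hd
        have hxs : x ^ s ∈ N := (hNp _).2 (by rw [← pow_mul, mul_comm, ← hs, show m = orderOf x by rw [hr, h1, mul_one], pow_orderOf_eq_one])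
        have := orderOf_dvd_of_pow_eq_one (x := (x : G ⧸ N)) (n := s) (by rw [← QuotientGroup.mk_pow]; exact (hmk _).2 hxs)
        rw [← hm] at this
        have hspos : 0 < s := by rcases Nat.eq_zero_or_pos s with h0 | h0; · subst h0; omega
                                 exact h0
        have h2 := Nat.le_of_dvd hspos this
        have h3 : 2 * s ≤ p * s := Nat.mul_le_mul_right s hp.two_le
        omega
      · rw [hr, h1]
    have hQ : ∀ a b : G ⧸ N, orderOf a = orderOf b → IsConj a b := by
      intro a b hab
      have key : ∀ q : G ⧸ N, ∃ x : G, (x : G ⧸ N) = q ∧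
          orderOf x = if p ∣ orderOf q then orderOf q * p else orderOf q := by
        intro q
        obtain ⟨x, rfl⟩ := QuotientGroup.mk_surjective q
        by_cases hd : p ∣ orderOf (x : G ⧸ N)
        · exact ⟨x, rfl, by rw [if_pos hd]; exact hlift x hd⟩
        · set m := orderOf (x : G ⧸ N) with hm
          obtain ⟨j, hj⟩ := exists_pow_eq_self_of_coprime (x := (x : G ⧸ N)) (n := p)
            (hm ▸ (hp.coprime_iff_not_dvd.2 hd))
          refine ⟨(x ^ p) ^ j, by rw [QuotientGroup.mk_pow, QuotientGroup.mk_pow, hj], ?_⟩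
          rw [if_neg hd]
          refine Nat.dvd_antisymm (orderOf_dvd_of_pow_eq_one ?_) ?_
          · rw [← pow_mul, ← pow_mul, show p * (j * m) = m * p * j by ring, pow_mul, pow_mul,
              (hNp _).1 ((hmk _).1 (by rw [QuotientGroup.mk_pow, hm, pow_orderOf_eq_one])), one_pow]
          · have h1 := orderOf_map_dvd (QuotientGroup.mk' N) ((x ^ p) ^ j)
            rwa [QuotientGroup.mk'_apply, QuotientGroup.mk_pow, QuotientGroup.mk_pow, hj, ← hm] at h1
      obtain ⟨x, rfl, hx⟩ := key a
      obtain ⟨y, rfl, hy⟩ := key b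
      exact (QuotientGroup.mk' N).map_isConj (h x y (by rw [hx, hy, hab]))
    have hcard : Nat.card G = Nat.card (G ⧸ N) * Nat.card N := N.card_eq_card_quotient_mul_card_subgroup
    have hN2 : 1 < Nat.card N := (one_lt_card_iff_ne_bot N).2 hN1
    have hlt : Nat.card (G ⧸ N) < k := by
      rw [← hk, hcard]; exact lt_mul_of_one_lt_right Nat.card_pos hN2
    have hrec := ih _ hlt (G ⧸ N) rfl hQ
    -- no lifts of elements of order `p` of the quotient, if there are too many
    have hbig : ∀ s : Set (G ⧸ N), (∀ q ∈ s, orderOf q = p) → Nat.card s ≠ 0 →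
        Nat.card s * (p * p) ≤ Nat.card (G ⧸ N) := by
      intro s hs hs0
      obtain ⟨⟨q, hq⟩⟩ := (Nat.card_ne_zero.1 hs0).1
      obtain ⟨t, rfl⟩ := QuotientGroup.mk_surjective q
      have hord : ∀ x : G, (x : G ⧸ N) ∈ s → orderOf x = p * p := fun x hx => by
        rw [hlift x (by rw [hs _ hx]), hs _ hx]
      have h1 : Nat.card (QuotientGroup.mk ⁻¹' s : Set G) = Nat.card N * Nat.card s := by
        rw [← Nat.card_prod]; exact Nat.card_congr (QuotientGroup.preimageMkEquivSubgroupProdSet N s)
      have h2 : Nat.card (QuotientGroup.mk ⁻¹' s : Set G) ≤ (centralizer ({t} : Set G)).index := by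
        rw [← index_centralizer_conj]
        refine Nat.card_mono (Set.toFinite _) fun x hx => ?_
        rw [ConjClasses.mem_carrier_iff_mk_eq, ConjClasses.mk_eq_mk_iff_isConj]
        exact h x t (by rw [hord x hx, hord t hq])
      have h3 : p * p ≤ Nat.card (centralizer ({t} : Set G)) := by
        rw [← hord t hq, ← Nat.card_zpowers]
        refine Nat.le_of_dvd Nat.card_pos (Subgroup.card_dvd_of_le ?_)
        rw [Subgroup.zpowers_le, mem_centralizer_singleton_iff]
      have h4 := (centralizer ({t} : Set G)).card_mul_index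
      rw [hcard] at h4
      have h5 : Nat.card N * (Nat.card s * (p * p)) ≤ Nat.card N * Nat.card (G ⧸ N) := by
        calc Nat.card N * (Nat.card s * (p * p)) = p * p * Nat.card (QuotientGroup.mk ⁻¹' s : Set G) := by
              rw [h1]; ring
          _ ≤ Nat.card (centralizer ({t} : Set G)) * (centralizer ({t} : Set G)).index := Nat.mul_le_mul h3 h2
          _ = Nat.card N * Nat.card (G ⧸ N) := by rw [h4, mul_comm]
      exact Nat.le_of_mul_le_mul_left h5 (Nat.card_pos)
    -- the class of a nontrivial element of `N` fills `N`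
    obtain ⟨n, hn⟩ := exists_prime_orderOf_dvd_card' (G := N) p (by
      obtain ⟨x, hx, hx1⟩ := (bot_or_exists_ne_one N).resolve_left hN1
      rw [← orderOf_eq_prime ((hNp x).1 hx) hx1]
      exact (Subgroup.orderOf_coe ⟨x, hx⟩) ▸ orderOf_dvd_natCard _)
    have hno : orderOf (n : G) = p := (Subgroup.orderOf_coe n).trans hn
    have hn1 : (n : G) ≠ 1 := fun h0 => by rw [h0, orderOf_one] at hno; exact hp.one_lt.ne hno
    have hclass : (centralizer ({(n : G)} : Set G)).index = Nat.card N - 1 := by
      rw [← index_centralizer_conj, Nat.card_coe_set_eq,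
        show (ConjClasses.mk (n : G)).carrier = (N : Set G) \ {1} by
          ext x
          rw [ConjClasses.mem_carrier_iff_mk_eq, ConjClasses.mk_eq_mk_iff_isConj]
          constructor
          · intro hx
            obtain ⟨c, hc⟩ := isConj_iff.1 hx.symm
            refine ⟨hc ▸ hN.conj_mem _ n.2 c, fun h1 => hn1 ?_⟩
            rw [Set.mem_singleton_iff.1 h1] at hc
            exact conj_eq_one_iff.1 hc
          · rintro ⟨hx, hx1⟩
            exact h x n (by rw [hno, orderOf_eq_prime ((hNp x).1 hx) hx1]),
        Set.ncard_diff_singleton_of_mem (one_mem N), ← Nat.card_coe_set_eq]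
      rfl
    have hdiv : Nat.card N - 1 ∣ Nat.card (G ⧸ N) := by
      rw [← hclass]
      exact Subgroup.index_dvd_of_le (fun x hx => mem_centralizer_singleton_iff.2 (hNc _ _ hx n.2))
    rcases hrec with h1 | h2 | ⟨⟨e⟩⟩
    · right; left
      rw [h1] at hdiv hcard
      have := Nat.le_of_dvd one_pos hdiv
      omega
    · rw [h2] at hdiv hcard
      have := Nat.le_of_dvd two_pos hdiv
      have hnc : ¬ ∀ a b : G, a * b = b * a := fun hc => by
        have := card_le_two_of_comm hc h; omega
      obtain h3 | h3 : Nat.card N = 2 ∨ Nat.card N = 3 := by omega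
      · exact absurd (fun a b => (IsPGroup.isMulCommutative_of_card_eq_prime_sq (p := 2)
          (by rw [hcard, h3]; norm_num)).is_comm.comm a b) hnc
      · exact Or.inr (Or.inr (equiv_perm_three (by rw [hcard, h3]) hnc))
    · exfalso
      have h6 : Nat.card (G ⧸ N) = 6 := by
        rw [Nat.card_congr e.toEquiv, Nat.card_perm, Nat.card_fin]; rfl
      rw [h6] at hdiv
      have hcnt : ∀ j : ℕ, Nat.card {q : G ⧸ N | orderOf q = j} = Nat.card {s : Equiv.Perm (Fin 3) // orderOf s = j} :=
        fun j => Nat.card_congr (e.toEquiv.subtypeEquiv fun q => by simp)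
      have hle := Nat.le_of_dvd (by norm_num) hdiv
      have hpN : p ∣ Nat.card N := hn ▸ orderOf_dvd_natCard n
      have hp23 : p ≠ 2 ∧ p ≠ 3 := by
        constructor
        · rintro rfl
          have h2 : Nat.card {s : Equiv.Perm (Fin 3) // orderOf s = 2} = 3 := by
            rw [Nat.card_congr (Equiv.subtypeEquivRight (q := fun s => s * s = 1 ∧ s ≠ 1) fun s =>
              by rw [orderOf_eq_prime_iff, pow_two]), Nat.card_eq_fintype_card]
            decide
          have := hbig {q | orderOf q = 2} (fun q hq => hq) (by rw [hcnt, h2]; norm_num)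
          rw [hcnt, h2, h6] at this; omega
        · rintro rfl
          have h3 : Nat.card {s : Equiv.Perm (Fin 3) // orderOf s = 3} = 2 := by
            rw [Nat.card_congr (Equiv.subtypeEquivRight (q := fun s => s * s * s = 1 ∧ s ≠ 1) fun s =>
              by rw [orderOf_eq_prime_iff, pow_succ, pow_two]), Nat.card_eq_fintype_card]
            decide
          have := hbig {q | orderOf q = 3} (fun q hq => hq) (by rw [hcnt, h3]; norm_num)
          rw [hcnt, h3, h6] at this; omega
      have hdiv6 : Nat.card N - 1 = 1 ∨ Nat.card N - 1 = 2 ∨ Nat.card N - 1 = 3 ∨ Nat.card N - 1 = 6 := by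
        have : Nat.card N - 1 ∈ Nat.divisors 6 := Nat.mem_divisors.2 ⟨hdiv, by norm_num⟩
        rw [show Nat.divisors 6 = {1, 2, 3, 6} by decide] at this
        simpa using this
      have h7 : Nat.card N = 7 := by
        rcases hdiv6 with h1 | h1 | h1 | h1
        · rw [show Nat.card N = 2 by omega] at hpN
          exact absurd ((Nat.prime_dvd_prime_iff_eq hp Nat.prime_two).1 hpN) hp23.1
        · rw [show Nat.card N = 3 by omega] at hpN
          exact absurd ((Nat.prime_dvd_prime_iff_eq hp Nat.prime_three).1 hpN) hp23.2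
        · rw [show Nat.card N = 2 ^ 2 by omega] at hpN
          exact absurd ((Nat.prime_dvd_prime_iff_eq hp Nat.prime_two).1 (hp.dvd_of_dvd_pow hpN)) hp23.1
        · omega
      rw [h7] at hclass
      have hC : centralizer ({(n : G)} : Set G) = N :=
        (Subgroup.eq_of_le_of_card_ge (fun x hx => mem_centralizer_singleton_iff.2 (hNc _ _ hx n.2))
          (by
            have := (centralizer ({(n : G)} : Set G)).card_mul_index
            rw [hclass, hcard, h6, h7] at this
            omega)).symm
      haveI := Fact.mk (show Nat.Prime 7 by norm_num)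
      haveI : IsCyclic N := isCyclic_of_prime_card h7
      have hQc : ∀ a b : G ⧸ N, a * b = b * a := by
        intro a b
        obtain ⟨x, rfl⟩ := QuotientGroup.mk_surjective a
        obtain ⟨y, rfl⟩ := QuotientGroup.mk_surjective b
        rw [← commutatorElement_eq_one_iff_mul_comm]
        change QuotientGroup.mk' N x * _ * _ * _ = 1
        rw [QuotientGroup.mk'_apply, ← QuotientGroup.mk_inv, ← QuotientGroup.mk_inv, ← QuotientGroup.mk_mul,
          ← QuotientGroup.mk_mul, ← QuotientGroup.mk_mul, hmk, ← hC, mem_centralizer_singleton_iff]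
        have hcm : ∀ f g : MulAut N, f * g = g * f := fun f g =>
          (IsCyclic.mulAutMulEquiv N).injective (by rw [map_mul, map_mul, mul_comm])
        have h1 : MulAut.conjNormal (x * y * x⁻¹ * y⁻¹) = (1 : MulAut N) := by
          rw [map_mul, map_mul, map_mul, map_inv, map_inv, hcm (MulAut.conjNormal x), mul_assoc (MulAut.conjNormal y),
            mul_inv_cancel, mul_one, mul_inv_cancel]
        have h2 := congrArg (fun f : MulAut N => ((f n : N) : G)) h1
        simp only [MulAut.conjNormal_apply, MulAut.one_apply] at h2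
        exact mul_inv_eq_iff_eq_mul.1 h2
      have h01 := congrArg e (hQc (e.symm (Equiv.swap 0 1)) (e.symm (Equiv.swap 1 2)))
      simp only [map_mul, MulEquiv.apply_symm_apply] at h01
      exact absurd h01 (by decide)

/-- A finite solvable group in which any two elements of the same order are conjugate has order 1 or 2 or is isomorphic to the symmetric group of degree 3. -/
theorem result {G : Type*} [Group G] [Finite G] [Group.IsSolvable G]
    (h : ∀ x y : G, orderOf x = orderOf y → IsConj x y) :
    Nat.card G = 1 ∨ Nat.card G = 2 ∨ Nonempty (G ≃* Equiv.Perm (Fin 3)) :=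
  main _ G rfl h

end Cfsg.Agent.S4062
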