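import Cfsg.Statements.S4066
import Cfsg.Agent.Lib.Coprime.Core

set_option autoImplicit false
set_option linter.style.haveILetI false
open Cfsg

namespace Cfsg.Agent.S4066

/-- Let G be a finite group in which the centralizer of every element meets each of its conjugates by elements outside its normalizer trivially. Then any two distinct Sylow p-subgroups of G, for any prime p, intersect trivially. -/
theorem result {G : Type*} [Group G] [Finite G] (hTI : ∀ x : G, Cfsg.IsTISubset (Subgroup.centralizer ({x} : Set G) : Set G))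
    {p : ℕ} [Fact p.Prime] (P Q : Sylow p G) (hPQ : P ≠ Q) : (P : Subgroup G) ⊓ (Q : Subgroup G) = ⊥ := by
  by_contra hne
  obtain ⟨x, hx, hx1⟩ := (Subgroup.bot_or_exists_ne_one _).resolve_left hne
  obtain ⟨g, rfl⟩ := MulAction.exists_smul_eq G P Q
  haveI : Nontrivial (P : Subgroup G) := ⟨⟨⟨x, hx.1⟩, 1, fun e => hx1 (congrArg Subtype.val e)⟩⟩
  haveI := P.isPGroup'.center_nontrivial
  obtain ⟨z, hz⟩ := exists_ne (1 : Subgroup.center (P : Subgroup G))
  set z' : G := ((z : (P : Subgroup G)) : G) with hz'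
  have hz1 : z' ≠ 1 := fun e => hz (Subtype.ext (Subtype.ext e))
  have hPz : (P : Subgroup G) ≤ Subgroup.centralizer {z'} := fun u hu =>
    Subgroup.mem_centralizer_singleton_iff.2
      (congrArg Subtype.val (Subgroup.mem_center_iff.1 z.2 ⟨u, hu⟩))
  set C := Subgroup.centralizer ({z'} : Set G) with hC
  obtain ⟨u, hu, hux⟩ := hx.2
  simp only [MulDistribMulAction.toMonoidEnd_apply, MulDistribMulAction.toMonoidHom_apply,
    MulAut.smul_def, MulAut.conj_apply] at hux
  have hg : g ∈ Subgroup.normalizer (C : Set G) := by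
    by_contra h
    refine hx1 ?_
    have := hTI z' g h u (hPz hu) (by rw [hux]; exact hPz hx.1)
    rw [← hux, this, mul_one, mul_inv_cancel]
  have hQC : ((g • P : Sylow p G) : Subgroup G) ≤ C := by
    rintro _ ⟨w, hw, rfl⟩
    simp only [MulDistribMulAction.toMonoidEnd_apply, MulDistribMulAction.toMonoidHom_apply,
      MulAut.smul_def, MulAut.conj_apply]
    exact (Subgroup.mem_normalizer_iff.1 hg w).1 (hPz hw)
  refine hPQ (Sylow.ext ((P.3 (g • P).isPGroup' fun y hy => ?_).symm))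
  -- each `y ∈ P` lies in `Q`
  let D := Subgroup.centralizer ({y} : Set G)
  have hyD : y ∈ D := Subgroup.mem_centralizer_singleton_iff.2 rfl
  have hzD : z' ∈ D :=
    Subgroup.mem_centralizer_singleton_iff.2 (Subgroup.mem_centralizer_singleton_iff.1 (hPz hy)).symm
  have hnorm : C ≤ Subgroup.normalizer (D : Set G) := by
    intro c hc
    by_contra h
    refine hz1 (hTI y c h z' hzD ?_)
    rw [Subgroup.mem_centralizer_singleton_iff.1 hc, mul_inv_cancel_right]
    exact hzD
  -- the `p`-elements of `Z(D)`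
  let A : Subgroup G := D ⊓ Subgroup.centralizer (D : Set G)
  have hAc : ∀ a ∈ A, ∀ b ∈ A, Commute a b := fun a ha b hb =>
    Subgroup.mem_centralizer_iff.1 hb.2 a ha.1
  let T : Subgroup G :=
    { carrier := {a | a ∈ A ∧ ∃ k, a ^ p ^ k = 1}
      one_mem' := ⟨A.one_mem, 0, one_pow _⟩
      mul_mem' := fun {a b} ⟨ha, i, hi⟩ ⟨hb, j, hj⟩ => ⟨A.mul_mem ha hb, i + j, by
        rw [(hAc a ha b hb).mul_pow, pow_add, pow_mul, hi, one_pow, mul_comm, pow_mul, hj,
          one_pow, mul_one]⟩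
      inv_mem' := fun {a} ⟨ha, i, hi⟩ => ⟨A.inv_mem ha, i, by rw [inv_pow, hi, inv_one]⟩ }
  have hTp : IsPGroup p T := fun a => by
    obtain ⟨-, k, hk⟩ := a.2
    exact ⟨k, Subtype.ext hk⟩
  have hyT : y ∈ T := by
    obtain ⟨k, hk⟩ := P.isPGroup' ⟨y, hy⟩
    exact ⟨⟨hyD, Subgroup.mem_centralizer_iff.2 fun d hd =>
      Subgroup.mem_centralizer_singleton_iff.1 hd⟩, k, congrArg Subtype.val hk⟩
  have hCT : C ≤ Subgroup.normalizer (T : Set G) := by
    have hmove : ∀ c ∈ C, ∀ a ∈ T, c * a * c⁻¹ ∈ T := by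
      rintro c hc a ⟨ha, k, hk⟩
      refine ⟨⟨(Subgroup.mem_normalizer_iff.1 (hnorm hc) a).1 ha.1,
        Subgroup.mem_centralizer_iff.2 fun d hd => ?_⟩, k, by rw [conj_pow, hk, mul_one, mul_inv_cancel]⟩
      have hd' : c⁻¹ * d * c ∈ D := by
        simpa using (Subgroup.mem_normalizer_iff.1 (Subgroup.inv_mem _ (hnorm hc)) d).1 hd
      calc d * (c * a * c⁻¹) = c * ((c⁻¹ * d * c) * a) * c⁻¹ := by group
        _ = c * (a * (c⁻¹ * d * c)) * c⁻¹ := by rw [Subgroup.mem_centralizer_iff.1 ha.2 _ hd']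
        _ = c * a * c⁻¹ * d := by group
    intro c hc
    refine Subgroup.mem_normalizer_iff.2 fun a => ⟨hmove c hc a, fun h => ?_⟩
    simpa [mul_assoc] using hmove c⁻¹ (C.inv_mem hc) _ h
  have h2 := (g • P).3 (hTp.to_sup_of_normal_left' (g • P).isPGroup' (hQC.trans hCT)) le_sup_right
  exact h2 ▸ Subgroup.mem_sup_left hyT

end Cfsg.Agent.S4066
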