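import Cfsg.Statements.S4064
import Cfsg.Agent.Lib.Perm.TICent.Main
import Cfsg.Agent.Lib.Perm.TICent.Reduce
import Cfsg.Agent.S4066
import Cfsg.Agent.S1476
import Mathlib.GroupTheory.NoncommCoprod
import Mathlib.GroupTheory.SpecificGroups.Quaternion

set_option autoImplicit false
set_option linter.style.haveILetI false
open Cfsg

namespace Cfsg.Agent.S4064

open Subgroup CfsgLib.TICent

variable {G : Type*} [Group G] [Finite G]

theorem not_threeStep (hti : TIC G) (p : ℕ) (hp : p.Prime) :
    ¬ Cfsg.IsThreeStepGroup p G := by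
  rintro ⟨hP1, A, -, -, -, -, -, hLt, ⟨n, hn⟩, -, -⟩
  haveI : Fact p.Prime := ⟨hp⟩
  obtain ⟨S⟩ := (inferInstance : Nonempty (Sylow p G))
  have huniq : ∀ T : Sylow p G, T = S := by
    intro T
    by_contra hne
    exact hP1 (le_bot_iff.1 (Cfsg.Agent.S4066.result hti T S hne ▸
      le_inf (CfsgLib.Coprime.pCore_le_sylow T) (CfsgLib.Coprime.pCore_le_sylow S)))
  haveI : Subsingleton (Sylow p G) := ⟨fun a b => (huniq a).trans (huniq b).symm⟩
  haveI := S.normal_of_subsingleton
  have hS : (S : Subgroup G) ≤ Cfsg.pCore p G := CfsgLib.Coprime.le_pCore S.2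
  have hdvd := Subgroup.index_dvd_of_le (hS.trans (le_sup_left (b := A)))
  rcases n with - | n
  · exact hLt (Subgroup.index_eq_one.1 (by rw [hn, pow_zero]))
  · exact S.not_dvd_index ((hn ▸ dvd_pow_self p n.succ_ne_zero).trans hdvd)

theorem quaternion_param (hti : TIC G) {Q : Subgroup G} {n : ℕ}
    (e : ↥Q ≃* QuaternionGroup (2 ^ n)) : n ≤ 1 := by
  by_contra hn
  haveI : NeZero (2 ^ n) := ⟨pow_ne_zero _ two_ne_zero⟩
  have h4 : (4 : ZMod (2 * 2 ^ n)) ≠ 0 := by
    intro h
    have h' : ((4 : ℕ) : ZMod (2 * 2 ^ n)) = 0 := by exact_mod_cast h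
    have hdvd := Nat.le_of_dvd (by norm_num) ((ZMod.natCast_eq_zero_iff _ _).1 h')
    have : 4 ≤ 2 ^ n := by
      calc 4 = 2 ^ 2 := by norm_num
        _ ≤ 2 ^ n := Nat.pow_le_pow_right two_pos (by omega)
    omega
  set N : ZMod (2 * 2 ^ n) := ((2 ^ n : ℕ) : ZMod (2 * 2 ^ n)) with hN
  have hN2 : N + N = 0 := by
    rw [hN, ← Nat.cast_add, ← two_mul, ZMod.natCast_self]
  have hN0 : N ≠ 0 := by
    intro h
    have := Nat.le_of_dvd (Nat.two_pow_pos n) ((ZMod.natCast_eq_zero_iff _ _).1 h)
    have := Nat.two_pow_pos n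
    omega
  have hz : ∀ g : Q, Commute g (e.symm (QuaternionGroup.a N)) := by
    intro g
    have h : Commute (e g) (QuaternionGroup.a N) := by
      rcases e g with j | j
      · show QuaternionGroup.a (j + N) = QuaternionGroup.a (N + j)
        rw [add_comm]
      · show QuaternionGroup.xa (j + N) = QuaternionGroup.xa (j - N)
        rw [sub_eq_add_neg, ← eq_neg_of_add_eq_zero_left hN2]
    simpa using h.map e.symm
  have hne : e.symm (QuaternionGroup.a N) ≠ 1 := by
    intro h
    have h1 := congrArg e h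
    rw [MulEquiv.apply_symm_apply, map_one] at h1
    exact hN0 (QuaternionGroup.a.inj h1)
  have hn' := normal_cent_of_central (tic_subgroup hti Q) hne hz (e.symm (QuaternionGroup.xa 0))
  have hc := (mem_cent.1 (hn'.conj_mem _ (self_mem_cent _) (e.symm (QuaternionGroup.a 1)))).map e
  simp only [map_mul, map_inv, MulEquiv.apply_symm_apply] at hc
  rw [show (QuaternionGroup.a 1 : QuaternionGroup (2 ^ n))⁻¹ = QuaternionGroup.a (-1) from rfl,
    QuaternionGroup.a_mul_xa, QuaternionGroup.xa_mul_a] at hc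
  have h := QuaternionGroup.a.inj (hc.eq : _)
  exact h4 (by linear_combination h)

theorem complement_shape (hti : TIC G) {E C Q : Subgroup G} (hsup : C ⊔ Q = E)
    (hcomm : ∀ a ∈ C, ∀ b ∈ Q, a * b = b * a) (hC : IsCyclic C) (hCodd : Odd (Nat.card C))
    {n : ℕ} (e : ↥Q ≃* QuaternionGroup (2 ^ n)) :
    IsCyclic E ∨ ∃ m : ℕ, Odd m ∧ Nonempty (E ≃* Multiplicative (ZMod m) × QuaternionGroup 2) := by
  haveI : NeZero (2 ^ n) := ⟨pow_ne_zero _ two_ne_zero⟩
  have hQc : Nat.card Q = 4 * 2 ^ n := by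
    rw [Nat.card_congr e.toEquiv, Nat.card_eq_fintype_card, QuaternionGroup.card]
  have hcop : (Nat.card C).Coprime (Nat.card Q) := by
    rw [hQc, show 4 * 2 ^ n = 2 ^ (n + 2) by ring]
    exact Nat.Coprime.pow_right _ (Nat.coprime_two_right.2 hCodd)
  have hcm : ∀ (a : C) (b : Q), Commute (C.subtype a) (Q.subtype b) := fun a b => hcomm _ a.2 _ b.2
  let φ : C × Q →* G := MonoidHom.noncommCoprod C.subtype Q.subtype hcm
  have hφ : Function.Injective φ := by
    rw [injective_iff_map_eq_one]
    rintro ⟨a, b⟩ h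
    have h' : (a : G) * b = 1 := h
    have ha : (a : G) ∈ C ⊓ Q :=
      ⟨a.2, by rw [eq_inv_of_mul_eq_one_left h']; exact Q.inv_mem b.2⟩
    rw [Subgroup.inf_eq_bot_of_coprime hcop, Subgroup.mem_bot] at ha
    rw [ha, one_mul] at h'
    exact Prod.ext (Subtype.ext ha) (Subtype.ext h')
  have hr : φ.range = E := by
    show (MonoidHom.noncommCoprod C.subtype Q.subtype hcm).range = E
    rw [MonoidHom.noncommCoprod_range, Subgroup.range_subtype, Subgroup.range_subtype, hsup]
  let ε : C × Q ≃* E := (MonoidHom.ofInjective hφ).trans (MulEquiv.subgroupCongr hr)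
  have hn1 := quaternion_param hti e
  interval_cases n
  · left
    haveI : IsCyclic (QuaternionGroup 1) := QuaternionGroup.quaternionGroup_one_isCyclic
    haveI : IsCyclic Q := isCyclic_of_surjective
      (((e.trans (MulEquiv.cast (M := fun k => QuaternionGroup k) (pow_zero 2)))).symm)
      (MulEquiv.surjective _)
    haveI : IsCyclic (C × Q) := Group.isCyclic_prod_iff.2 ⟨hC, inferInstance, hcop⟩
    exact isCyclic_of_surjective ε ε.surjective
  · right
    exact ⟨Nat.card C, hCodd, ⟨ε.symm.trans (MulEquiv.prodCongr (zmodCyclicMulEquiv hC).symm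
      (e.trans (MulEquiv.cast (M := fun k => QuaternionGroup k) (pow_one 2))))⟩⟩

/-- Let G be a finite group in which the centralizer of every element meets each of its conjugates by elements outside its normalizer trivially. Then G is nilpotent; or G is a Frobenius group with a complement that is cyclic or isomorphic to the direct product of a cyclic group of odd order and the quaternion group of order 8; or G is isomorphic to PSL₂(2ⁿ) for some n ≥ 2. -/
theorem result {G : Type*} [Group G] [Finite G] (hTI : ∀ x : G, Cfsg.IsTISubset (Subgroup.centralizer ({x} : Set G) : Set G)) :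
    Group.IsNilpotent G ∨
    (∃ H : Subgroup G, Cfsg.IsFrobeniusComplement H ∧
      (IsCyclic H ∨ ∃ m : ℕ, Odd m ∧ Nonempty (H ≃* Multiplicative (ZMod m) × QuaternionGroup 2))) ∨
    (∃ n : ℕ, 2 ≤ n ∧ Nonempty (G ≃* Matrix.ProjectiveSpecialLinearGroup (Fin 2) (GaloisField 2 n))) := by
  have hti : TIC G := hTI
  by_cases hsol : Group.IsSolvable G
  · haveI := hsol
    rcases Cfsg.Agent.S1476.result (isCN hti) with h | ⟨K, E, -, -, hE, hc⟩ | ⟨p, hp, h3⟩
    · exact Or.inl h
    · refine Or.inr (Or.inl ⟨E, hE, ?_⟩)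
      rcases hc with hc | ⟨C, Q, hsup, hcomm, hC, hCodd, n, ⟨e⟩⟩
      · exact Or.inl hc
      · exact complement_shape hti hsup hcomm hC hCodd e
    · exact absurd h3 (not_threeStep hti p hp)
  · haveI := isSimpleGroup_of_not_solvable hti hsol
    have hna : ¬ IsMulCommutative G :=
      fun h => hsol (Group.isSolvable_of_comm fun a b => h.is_comm.comm a b)
    exact Or.inr (Or.inr (exists_psl hti hna))

end Cfsg.Agent.S4064
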