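import Cfsg.Statements.S4065
-- import your own Cfsg.Agent.* helpers here
import Mathlib.LinearAlgebra.Matrix.ProjectiveSpecialLinearGroup
import Mathlib.LinearAlgebra.Matrix.Notation
import Mathlib.FieldTheory.Finite.GaloisField
import Mathlib.Tactic.LinearCombination

set_option autoImplicit false
open Cfsg

namespace Cfsg.Agent.S4065

open Matrix

theorem two_by_two_commute {F : Type*} [Field F] (A X Y : Matrix (Fin 2) (Fin 2) F)
    (hA : ¬ ∃ r : F, A = r • 1) (hX : X * A = A * X) (hY : Y * A = A * Y) : X * Y = Y * X := by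
  have rel : ∀ Z : Matrix (Fin 2) (Fin 2) F, Z * A = A * Z →
      A 0 1 * Z 1 0 = A 1 0 * Z 0 1 ∧ A 0 1 * (Z 0 0 - Z 1 1) = (A 0 0 - A 1 1) * Z 0 1 ∧
      A 1 0 * (Z 0 0 - Z 1 1) = (A 0 0 - A 1 1) * Z 1 0 := by
    intro Z h
    have h00 := congrFun (congrFun h 0) 0
    have h01 := congrFun (congrFun h 0) 1
    have h10 := congrFun (congrFun h 1) 0
    simp only [Matrix.mul_apply, Fin.sum_univ_two] at h00 h01 h10
    refine ⟨?_, ?_, ?_⟩
    · linear_combination -h00
    · linear_combination h01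
    · linear_combination -h10
  obtain ⟨x1, x2, x3⟩ := rel X hX
  obtain ⟨y1, y2, y3⟩ := rel Y hY
  suffices key : X 0 1 * Y 1 0 = Y 0 1 * X 1 0 ∧
      X 0 1 * (Y 0 0 - Y 1 1) = Y 0 1 * (X 0 0 - X 1 1) ∧
      X 1 0 * (Y 0 0 - Y 1 1) = Y 1 0 * (X 0 0 - X 1 1) by
    obtain ⟨k1, k2, k3⟩ := key
    ext i j
    fin_cases i <;> fin_cases j <;> simp [Matrix.mul_apply, Fin.sum_univ_two]
    · linear_combination k1
    · linear_combination -k2
    · linear_combination k3
    · linear_combination -k1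
  by_cases hb : A 0 1 = 0
  · by_cases hc : A 1 0 = 0
    · have hd : A 0 0 - A 1 1 ≠ 0 := fun e => hA ⟨A 0 0, by
        ext i j
        fin_cases i <;> fin_cases j <;> simp [hb, hc]
        exact (sub_eq_zero.1 e).symm⟩
      have a1 : X 0 1 = 0 := by simpa [hb, hd] using x2.symm
      have a2 : X 1 0 = 0 := by simpa [hc, hd] using x3.symm
      have b1 : Y 0 1 = 0 := by simpa [hb, hd] using y2.symm
      have b2 : Y 1 0 = 0 := by simpa [hc, hd] using y3.symm
      simp [a1, a2, b1, b2]
    · have a1 : X 0 1 = 0 := by simpa [hb, hc] using x1.symm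
      have b1 : Y 0 1 = 0 := by simpa [hb, hc] using y1.symm
      refine ⟨by simp [a1, b1], by simp [a1, b1], mul_left_cancel₀ hc ?_⟩
      linear_combination X 1 0 * y3 - Y 1 0 * x3
  · have k1 : X 0 1 * Y 1 0 = Y 0 1 * X 1 0 := mul_left_cancel₀ hb (by
      linear_combination X 0 1 * y1 - Y 0 1 * x1)
    refine ⟨k1, mul_left_cancel₀ hb ?_, mul_left_cancel₀ hb ?_⟩
    · linear_combination X 0 1 * y2 - Y 0 1 * x2
    · linear_combination X 1 0 * y2 - Y 1 0 * x2 - (A 0 0 - A 1 1) * k1

open Cfsg in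
/-- Centralizers of non-identity elements in `SL (2, q)`, `q` even, are abelian. -/
theorem sl_ca {F : Type*} [Field F] [CharP F 2] (x a b : Matrix.SpecialLinearGroup (Fin 2) F)
    (hx : x ≠ 1) (ha : a * x = x * a) (hb : b * x = x * b) : a * b = b * a := by
  refine Subtype.ext (two_by_two_commute x.1 a.1 b.1 ?_ (congrArg Subtype.val ha) (congrArg Subtype.val hb))
  rintro ⟨r, hr⟩
  apply hx
  have h := x.2
  rw [hr, Matrix.det_smul, Fintype.card_fin, Matrix.det_one, mul_one] at h
  have h1 : r = 1 := CharTwo.sq_injective (by simpa using h)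
  exact Subtype.ext (by rw [hr, h1, one_smul]; rfl)

/-- Let F be a finite field with 2ⁿ elements, n ≥ 2. In PSL₂(F) the centralizer of every element meets each of its conjugates by elements outside its normalizer trivially. -/
theorem result (n : ℕ) (hn : 2 ≤ n)
    (x : Matrix.ProjectiveSpecialLinearGroup (Fin 2) (GaloisField 2 n)) :
    Cfsg.IsTISubset (Subgroup.centralizer ({x} : Set (Matrix.ProjectiveSpecialLinearGroup (Fin 2) (GaloisField 2 n))) :
      Set (Matrix.ProjectiveSpecialLinearGroup (Fin 2) (GaloisField 2 n))) := by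
  classical
  haveI : Fact (Nat.Prime 2) := ⟨Nat.prime_two⟩
  let F := GaloisField 2 n
  let π : Matrix.SpecialLinearGroup (Fin 2) F →* Matrix.ProjectiveSpecialLinearGroup (Fin 2) F :=
    QuotientGroup.mk' _
  have hπs : Function.Surjective π := QuotientGroup.mk'_surjective _
  have hπi : Function.Injective π := (MonoidHom.ker_eq_bot_iff π).1 (by
    rw [QuotientGroup.ker_mk', eq_bot_iff]
    intro c hc
    rw [Subgroup.mem_bot]
    obtain ⟨r, hr, hrc⟩ := Matrix.SpecialLinearGroup.mem_center_iff.1 hc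
    have h1 : r = 1 := CharTwo.sq_injective (by simpa using hr)
    exact Subtype.ext (by rw [← hrc, h1, map_one]; rfl))
  have ca : ∀ u v w : Matrix.ProjectiveSpecialLinearGroup (Fin 2) F, u ≠ 1 → v * u = u * v →
      w * u = u * w → v * w = w * v := by
    intro u v w hu hv hw
    obtain ⟨u', rfl⟩ := hπs u
    obtain ⟨v', rfl⟩ := hπs v
    obtain ⟨w', rfl⟩ := hπs w
    rw [← map_mul, ← map_mul] at hv hw ⊢
    exact congrArg π (sl_ca u' v' w' (fun e => hu (by rw [e, map_one])) (hπi hv) (hπi hw))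
  set C := Subgroup.centralizer ({x} : Set (Matrix.ProjectiveSpecialLinearGroup (Fin 2) F))
  by_cases hx : x = 1
  · intro g hg
    refine absurd ?_ hg
    have : (C : Set (Matrix.ProjectiveSpecialLinearGroup (Fin 2) F)) = Set.univ :=
      Set.eq_univ_of_forall fun y => Subgroup.mem_centralizer_singleton_iff.2 (by rw [hx, mul_one, one_mul])
    rw [this]
    intro z; exact iff_of_true (Set.mem_univ z) (Set.mem_univ _)
  intro g hg y hy hgy
  by_contra hy1
  apply hg
  have same : ∀ u ∈ C, u ≠ 1 → ∀ v, v ∈ C ↔ v * u = u * v := by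
    intro u hu hu1 v
    have hu' := Subgroup.mem_centralizer_singleton_iff.1 hu
    refine ⟨fun hv => ca x v u hx (Subgroup.mem_centralizer_singleton_iff.1 hv) hu', fun hv => ?_⟩
    exact Subgroup.mem_centralizer_singleton_iff.2 (ca u v x hu1 hv hu'.symm)
  refine Subgroup.mem_normalizer_iff.2 fun v => ?_
  show v ∈ C ↔ g * v * g⁻¹ ∈ C
  rw [same y hy hy1 v, same _ hgy (fun e => hy1 (conj_eq_one_iff.1 e)) (g * v * g⁻¹)]
  constructor
  · intro h
    calc g * v * g⁻¹ * (g * y * g⁻¹) = g * (v * y) * g⁻¹ := by group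
      _ = _ := by rw [h]; group
  · intro h
    have h' : g * (v * y) * g⁻¹ = g * (y * v) * g⁻¹ := by
      calc g * (v * y) * g⁻¹ = g * v * g⁻¹ * (g * y * g⁻¹) := by group
        _ = _ := by rw [h]; group
    exact mul_left_cancel (mul_right_cancel h')

end Cfsg.Agent.S4065
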