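import Cfsg.Statements.S4067
import Cfsg.Agent.Lib.Char.Linear
import Cfsg.Agent.Lib.Coprime.UniqueOrderP
import Mathlib.GroupTheory.SpecificGroups.Cyclic
-- import your own Cfsg.Agent.* helpers here

set_option autoImplicit false
open Cfsg

namespace Cfsg.Agent.S4067

open Subgroup
open scoped commutatorElement

variable {G : Type*} [Group G] [Finite G]

/-- An element of the orbit quotient. -/
abbrev Orb (G : Type*) [Group G] := MulAction.orbitRel.Quotient (MulAut G) G

theorem mk_apply (φ : MulAut G) (g : G) : (⟦φ g⟧ : Orb G) = ⟦g⟧ :=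
  Quotient.sound' ⟨φ, rfl⟩

theorem mk_conj (a g : G) : (⟦a * g * a⁻¹⟧ : Orb G) = ⟦g⟧ := by
  have := mk_apply (MulAut.conj a) g
  rwa [MulAut.conj_apply] at this

theorem card_orb_le_classes : Nat.card (Orb G) ≤ Nat.card (ConjClasses G) := by
  refine Nat.card_le_card_of_surjective
    (Quotient.lift (fun g => (⟦g⟧ : Orb G)) fun a b h => ?_) fun o => ?_
  · obtain ⟨c, rfl⟩ := isConj_iff.1 h
    exact (mk_conj c a).symm
  · obtain ⟨g, rfl⟩ := Quotient.exists_rep o
    exact ⟨ConjClasses.mk g, rfl⟩

theorem weight_count {q : ℕ} (hq : 0 < q) (hZ : Nat.card (center G) * q ≤ Nat.card G)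
    (D : Finset G) (hD : ∀ g ∈ D, g ∉ center G) (hDcard : q * Nat.card (center G) ≤ D.card)
    (hbig : ∀ g ∈ D, q ^ 2 ≤ Nat.card {h : G // (⟦h⟧ : Orb G) = ⟦g⟧})
    (hsmall : ∀ g, g ∉ center G → q ≤ Nat.card {h : G // (⟦h⟧ : Orb G) = ⟦g⟧}) :
    q * Nat.card (Orb G) ≤ Nat.card G := by
  classical
  haveI := Fintype.ofFinite G
  haveI := Fintype.ofFinite (Orb G)
  set Zs : Finset G := Finset.univ.filter (fun g => g ∈ center G) with hZs
  have hZscard : Zs.card = Nat.card (center G) := by
    rw [hZs, ← Fintype.card_subtype, ← Nat.card_eq_fintype_card]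
  have hdisj : Disjoint Zs D := Finset.disjoint_left.2 fun g h1 h2 =>
    hD g h2 (Finset.mem_filter.1 h1).2
  set R : Finset G := Finset.univ \ (Zs ∪ D) with hR
  have hRcard : R.card + (Zs.card + D.card) = Nat.card G := by
    rw [hR, ← Finset.card_union_of_disjoint hdisj, Finset.card_sdiff_add_card_eq_card
      (Finset.subset_univ _), Finset.card_univ, Nat.card_eq_fintype_card]
  let f : G → ℕ := fun g => if g ∈ center G then q ^ 2 else if g ∈ D then 1 else q
  have hsum : ∑ g, f g = q ^ 2 * Zs.card + D.card + q * R.card := by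
    rw [← Finset.sum_sdiff (Finset.subset_univ (Zs ∪ D)), ← hR,
      Finset.sum_union hdisj]
    have e1 : ∀ g ∈ Zs, f g = q ^ 2 := fun g hg => by simp [f, (Finset.mem_filter.1 hg).2]
    have e2 : ∀ g ∈ D, f g = 1 := fun g hg => by simp [f, hD g hg, hg]
    have e3 : ∀ g ∈ R, f g = q := fun g hg => by
      simp only [hR, Finset.mem_sdiff, Finset.mem_univ, true_and, Finset.mem_union, not_or, hZs,
        Finset.mem_filter] at hg
      simp [f, hg.1, hg.2]
    rw [Finset.sum_congr rfl e1, Finset.sum_congr rfl e2, Finset.sum_congr rfl e3]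
    simp; ring
  have hfib : ∀ o : Orb G, q ^ 2 ≤ ∑ g with (⟦g⟧ : Orb G) = o, f g := by
    intro o
    set S := Finset.univ.filter (fun g => (⟦g⟧ : Orb G) = o) with hS
    obtain ⟨g, rfl⟩ := Quotient.exists_rep o
    have hScard : S.card = Nat.card {h : G // (⟦h⟧ : Orb G) = ⟦g⟧} := by
      rw [hS, ← Fintype.card_subtype, ← Nat.card_eq_fintype_card]
    by_cases hg : g ∈ center G
    · refine le_trans ?_ (Finset.single_le_sum (f := f) (fun _ _ => Nat.zero_le _)
        (Finset.mem_filter.2 ⟨Finset.mem_univ g, rfl⟩))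
      simp [f, hg]
    have hf1 : ∀ h, 1 ≤ f h := fun h => by
      simp only [f]; split_ifs <;> first | omega | exact Nat.one_le_pow _ _ hq
    by_cases hex : ∃ h ∈ S, h ∈ D
    · obtain ⟨h, hh, hhD⟩ := hex
      have := hbig h hhD
      rw [(Finset.mem_filter.1 hh).2, ← hScard] at this
      refine this.trans ?_
      rw [Finset.card_eq_sum_ones]
      exact Finset.sum_le_sum fun h _ => hf1 h
    · push_neg at hex
      have hfq : ∀ h ∈ S, q ≤ f h := fun h hh => by
        simp only [f, if_neg (hex h hh)]
        split_ifs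
        · exact Nat.le_self_pow two_ne_zero q
        · exact le_rfl
      refine le_trans ?_ (Finset.card_nsmul_le_sum S f q hfq)
      rw [smul_eq_mul, hScard, pow_two]
      exact Nat.mul_le_mul_right q (hsmall g hg)
  have hle : Nat.card (Orb G) * q ^ 2 ≤ ∑ g, f g := by
    rw [← Finset.sum_fiberwise_of_maps_to (g := fun g : G => (⟦g⟧ : Orb G)) (t := Finset.univ)
      (fun g _ => Finset.mem_univ _)]
    refine le_trans ?_ (Finset.sum_le_sum fun o _ => hfib o)
    simp [Nat.card_eq_fintype_card]
  rw [hsum] at hle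
  refine Nat.le_of_mul_le_mul_left ?_ hq
  calc q * (q * Nat.card (Orb G)) = Nat.card (Orb G) * q ^ 2 := by ring
    _ ≤ _ := hle
    _ ≤ q * (R.card + (Zs.card + D.card)) := by
        rw [hZscard]
        rcases Nat.eq_or_lt_of_le (Nat.one_le_iff_ne_zero.2 hq.ne') with h1 | h1
        · subst h1; ring_nf; omega
        · nlinarith [Nat.mul_le_mul_left (q - 1) hDcard, Nat.sub_add_cancel h1.le]
    _ = q * Nat.card G := by rw [hRcard]

theorem classes_bound {H : Type*} [Group H] [Finite H] {q : ℕ}
    (hmin : ∀ d, d ∣ Nat.card H → d ≠ 1 → q ≤ d) (hder : q + 1 ≤ Nat.card (commutator H)) :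
    q * Nat.card (ConjClasses H) ≤ Nat.card H := by
  classical
  haveI := Fintype.ofFinite (Cfsg.IrrCharacter H)
  have hdeg : ∀ χ : Cfsg.IrrCharacter H, ∃ d : ℕ, (χ : H → ℂ) 1 = d ∧ 0 < d := fun χ => by
    obtain ⟨d, hd0, hd⟩ := CfsgLib.Char.isIrrCharacter_degree χ.2
    exact ⟨d, hd, hd0⟩
  choose d hd hd0 using hdeg
  have hsum : ∑ χ, d χ ^ 2 = Nat.card H := by
    have h := CfsgLib.Char.sum_degree_sq (G := H)
    simp only [hd] at h
    exact_mod_cast h
  set L := Finset.univ.filter (fun χ => d χ = 1) with hL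
  set N := Finset.univ.filter (fun χ => ¬ d χ = 1) with hN
  have hcardL : L.card = (commutator H).index := by
    rw [hL, ← Fintype.card_subtype, ← CfsgLib.Char.card_linear, ← Nat.card_eq_fintype_card]
    exact Nat.card_congr (Equiv.subtypeEquivRight fun χ => by rw [hd χ]; norm_cast)
  have hk : L.card + N.card = Nat.card (ConjClasses H) := by
    rw [hL, hN, Finset.card_filter_add_card_filter_not, Finset.card_univ,
      ← Nat.card_eq_fintype_card, CfsgLib.Char.card_irr_eq_card_conjClasses]
  have h1 : L.card + N.card * q ^ 2 ≤ Nat.card H := by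
    rw [← hsum, ← Finset.sum_filter_add_sum_filter_not Finset.univ (fun χ => d χ = 1), ← hL, ← hN]
    refine Nat.add_le_add (le_of_eq ?_) ?_
    · rw [Finset.card_eq_sum_ones]
      exact Finset.sum_congr rfl fun χ hχ => by simp [(Finset.mem_filter.1 hχ).2]
    · rw [← smul_eq_mul]
      exact Finset.card_nsmul_le_sum N (fun χ => d χ ^ 2) _ fun χ hχ => Nat.pow_le_pow_left
        (hmin _ (CfsgLib.Char.degree_dvd_card χ (hd χ)) (Finset.mem_filter.1 hχ).2) 2
  have h2 : (q + 1) * L.card ≤ Nat.card H := by
    rw [hcardL, ← (commutator H).card_mul_index]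
    exact Nat.mul_le_mul_right _ hder
  rcases Nat.eq_zero_or_pos q with rfl | hq
  · simp
  refine Nat.le_of_mul_le_mul_left ?_ hq
  rw [← hk]
  rcases Nat.eq_or_lt_of_le hq with h3 | h3
  · have h4 : q = 1 := h3.symm
    subst h4; omega
  · nlinarith [Nat.mul_le_mul_left (q - 1) h2, Nat.sub_add_cancel h3.le]

theorem small_derived {q : ℕ} [Fact q.Prime] (hdvd : q ∣ Nat.card G) (hmin : ∀ d, d ∣ Nat.card G → d ≠ 1 → q ≤ d)
    (hK : Nat.card (commutator G) = q) : commutator G ≤ center G := by
  intro z hz
  rw [mem_center_iff]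
  intro g
  haveI : IsCyclic (commutator G) := isCyclic_of_prime_card hK
  by_cases hz1 : z = 1
  · simp [hz1]
  have hgen : zpowers (⟨z, hz⟩ : commutator G) = ⊤ := by
    have := (zpowers (⟨z, hz⟩ : commutator G)).eq_bot_or_eq_top_of_prime_card (hp := hK ▸ (inferInstance : Fact q.Prime))
    exact this.resolve_left (by simpa [zpowers_eq_bot] using hz1)
  set e : MulAut (commutator G) := MulAut.conjNormal g with he
  have horder : orderOf e = 1 := by
    by_contra hne
    have hd1 : orderOf e ∣ Nat.card G := (orderOf_map_dvd MulAut.conjNormal g).trans (orderOf_dvd_natCard g)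
    have hd2 : orderOf e ∣ Nat.card (MulAut (commutator G)) := orderOf_dvd_natCard e
    rw [IsCyclic.card_mulAut, hK, Nat.totient_prime (Fact.out : q.Prime)] at hd2
    have h3 := hmin _ hd1 hne
    have h4 := Nat.le_of_dvd (Nat.sub_pos_of_lt (Fact.out : q.Prime).one_lt) hd2
    have h5 := (Fact.out : q.Prime).one_lt
    omega
  have := DFunLike.congr_fun (orderOf_eq_one_iff.1 horder) ⟨z, hz⟩
  have h2 : g * z * g⁻¹ = z := congrArg Subtype.val this
  exact mul_inv_eq_iff_eq_mul.1 h2

theorem orbit_bound (hna : ¬ IsMulCommutative G) :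
    Nat.card (Orb G) ≤ Nat.card G / (Nat.card G).minFac := by
  classical
  haveI := Fintype.ofFinite G
  have hG1 : Nat.card G ≠ 1 := fun h => hna ⟨⟨fun a b => by
    haveI := (Nat.card_eq_one_iff_unique.1 h).1
    exact Subsingleton.elim _ _⟩⟩
  set q := (Nat.card G).minFac with hqdef
  haveI hqf : Fact q.Prime := ⟨Nat.minFac_prime hG1⟩
  have hq : q.Prime := hqf.out
  have hdvdq : q ∣ Nat.card G := Nat.minFac_dvd _
  have hmin : ∀ d, d ∣ Nat.card G → d ≠ 1 → q ≤ d := by
    intro d hd hd1
    obtain ⟨r, hr, hrd⟩ := Nat.exists_prime_and_dvd hd1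
    exact (Nat.minFac_le_of_dvd hr.two_le (hrd.trans hd)).trans
      (Nat.le_of_dvd (Nat.pos_of_ne_zero fun h => by simp [h] at hd) hrd)
  rw [Nat.le_div_iff_mul_le hq.pos, mul_comm]
  by_cases hder : q + 1 ≤ Nat.card (commutator G)
  · exact le_trans (Nat.mul_le_mul_left q card_orb_le_classes) (classes_bound hmin hder)
  have hKne : Nat.card (commutator G) ≠ 1 := fun h => hna ⟨⟨fun a b => by
    rw [card_eq_one] at h
    have := commutator_mem_commutator (mem_top a) (mem_top b)
    rw [← commutator_def, h, mem_bot] at this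
    exact commutatorElement_eq_one_iff_commute.1 this⟩⟩
  have hK : Nat.card (commutator G) = q :=
    le_antisymm (by omega) (hmin _ (card_subgroup_dvd_card _) hKne)
  have hKZ := small_derived hdvdq hmin hK
  have hcomm : ∀ a b : G, ⁅a, b⁆ ∈ commutator G := fun a b =>
    commutator_mem_commutator (mem_top a) (mem_top b)
  have hcen : ∀ a b g : G, Commute g ⁅a, b⁆ := fun a b g => mem_center_iff.1 (hKZ (hcomm a b)) g
  have hpowK : ∀ c ∈ commutator G, c ^ q = 1 := fun c hc => by
    have h1 := (commutator G).orderOf_dvd_natCard hc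
    rw [hK] at h1
    exact orderOf_dvd_iff_pow_eq_one.1 h1
  -- the bilinear map
  have hmulL : ∀ a b y : G, ⁅a * b, y⁆ = ⁅a, y⁆ * ⁅b, y⁆ := fun a b y => by
    have e : ⁅a * b, y⁆ = a * ⁅b, y⁆ * a⁻¹ * ⁅a, y⁆ := by simp only [commutatorElement_def]; group
    rw [e, (hcen b y a).eq, mul_inv_cancel_right, (hcen a y ⁅b, y⁆).eq]
  let χ : G → G →* commutator G := fun y =>
    { toFun := fun g => ⟨⁅g, y⁆, hcomm g y⟩
      map_one' := Subtype.ext (by simp [commutatorElement_def])
      map_mul' := fun a b => Subtype.ext (hmulL a b y) }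
  have hqpow : ∀ x : G, x ^ q ∈ center G := fun x => by
    rw [mem_center_iff]
    intro y
    have : χ y (x ^ q) = 1 := by rw [map_pow]; exact Subtype.ext (by simpa using hpowK _ (χ y x).2)
    exact (commutatorElement_eq_one_iff_commute.1 (congrArg Subtype.val this)).symm
  have hnc : ∀ x : G, x ∉ center G → ∃ y : G, ⁅x, y⁆ ≠ 1 := fun x hx => by
    by_contra h
    push_neg at h
    exact hx (mem_center_iff.2 fun y => (commutatorElement_eq_one_iff_commute.1 (h y)).symm)
  obtain ⟨x₀, hx₀⟩ : ∃ x, x ∉ center G := by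
    by_contra h
    push_neg at h
    exact hna ⟨⟨fun a b => mem_center_iff.1 (h b) a⟩⟩
  have hidx : q * q ≤ (center G).index := by
    set n := (center G).index with hn
    have h1 : n ≠ 1 := fun h => hx₀ (index_eq_one.1 h ▸ mem_top x₀)
    have hnp : ¬ n.Prime := fun hp => hna (by
      haveI := Fact.mk hp
      haveI : IsCyclic (G ⧸ center G) := isCyclic_of_prime_card (p := n) (by rw [← index_eq_card])
      exact ⟨⟨commutative_of_cyclic_center_quotient (QuotientGroup.mk' (center G))
        (QuotientGroup.ker_mk' _).le⟩⟩)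
    have hn0 : 0 < n := Nat.pos_of_ne_zero index_ne_zero_of_finite
    obtain ⟨a, b, ha, hb, hab⟩ := (Nat.not_prime_iff_exists_mul_eq (by omega)).1 hnp
    rw [← hab]
    have hd : n ∣ Nat.card G := index_dvd_card _
    refine Nat.mul_le_mul (hmin a ((Dvd.intro b hab).trans hd) ?_)
      (hmin b ((Dvd.intro_left a hab).trans hd) ?_) <;> rintro rfl <;> omega
  have hZG : Nat.card (center G) * (q * q) ≤ Nat.card G := by
    rw [← (center G).card_mul_index]; exact Nat.mul_le_mul_left _ hidx
  -- central automorphisms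
  have hauto : ∀ x : G, x ∉ center G → ∀ w ∈ center G, w ^ q = 1 →
      (⟦x * w⟧ : Orb G) = ⟦x⟧ := by
    intro x hx w hw hwq
    obtain ⟨y, hy⟩ := hnc x hx
    set z : commutator G := χ y x with hz
    have hz1 : z ≠ 1 := fun h => hy (congrArg Subtype.val h)
    have hgen : ∀ c : commutator G, c ∈ zpowers z := fun c => mem_zpowers_of_prime_card hK hz1
    have hord : orderOf (⟨w, hw⟩ : center G) ∣ orderOf z := by
      rw [orderOf_eq_card_of_forall_mem_zpowers hgen, hK]
      exact orderOf_dvd_of_pow_eq_one (Subtype.ext (by simpa using hwq))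
    set lam : G →* center G := (monoidHomOfForallMemZpowers (g' := (⟨w, hw⟩ : center G)) hgen hord).comp (χ y) with hlam
    have hlx : lam x = ⟨w, hw⟩ := monoidHomOfForallMemZpowers_apply_gen hgen hord
    have hlZ : ∀ c ∈ center G, lam c = 1 := fun c hc => by
      rw [hlam, MonoidHom.comp_apply, show χ y c = 1 from Subtype.ext
        (commutatorElement_eq_one_iff_commute.2 (mem_center_iff.1 hc y).symm), map_one]
    let φ : G →* G :=
      { toFun := fun g => g * lam g
        map_one' := by simp
        map_mul' := fun a b => by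
          rw [map_mul, Subgroup.coe_mul]
          have h := mem_center_iff.1 (lam a).2 b
          calc a * b * ((lam a : G) * lam b) = a * (b * lam a) * lam b := by group
            _ = a * (lam a * b) * lam b := by rw [h]
            _ = _ := by group }
    have hinj : Function.Injective φ := by
      refine (injective_iff_map_eq_one φ).2 fun g hg => ?_
      have hg' : g * (lam g : G) = 1 := hg
      have hgZ : g ∈ center G := by
        rw [eq_inv_of_mul_eq_one_left hg']; exact inv_mem (lam g).2
      rw [hlZ g hgZ] at hg'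
      simpa using hg'
    have hb : Function.Bijective φ := Finite.injective_iff_bijective.1 hinj
    have := mk_apply (MulEquiv.ofBijective φ hb) x
    rw [MulEquiv.ofBijective_apply] at this
    simpa [φ, hlx] using this
  have hsmall : ∀ g, g ∉ center G → q ≤ Nat.card {h : G // (⟦h⟧ : Orb G) = ⟦g⟧} := by
    intro g hg
    rw [← hK]
    exact Nat.card_le_card_of_injective
      (fun c : commutator G => (⟨g * c, hauto g hg c (hKZ c.2) (hpowK c c.2)⟩ :
        {h : G // (⟦h⟧ : Orb G) = ⟦g⟧}))
      fun a b h => Subtype.ext (mul_left_cancel (congrArg Subtype.val h))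
  set W := Finset.univ.filter (fun w : G => w ∈ center G ∧ w ^ q = 1) with hW
  by_cases hWbig : q ^ 2 ≤ W.card
  · refine weight_count hq.pos ((Nat.mul_le_mul_left _ (Nat.le_mul_self q)).trans hZG)
      (Finset.univ.filter fun g => g ∉ center G) (fun g hg => (Finset.mem_filter.1 hg).2) ?_ ?_ hsmall
    · have h1 := Finset.card_filter_add_card_filter_not (s := (Finset.univ : Finset G))
        (fun g => g ∈ center G)
      have h2 : (Finset.univ.filter (fun g => g ∈ center G)).card = Nat.card (center G) := by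
        rw [← Fintype.card_subtype, ← Nat.card_eq_fintype_card]
      rw [Finset.card_univ, ← Nat.card_eq_fintype_card, h2] at h1
      have h5 := hq.two_le
      nlinarith
    · intro g hg
      refine hWbig.trans ?_
      rw [← Fintype.card_coe, ← Nat.card_eq_fintype_card]
      exact Nat.card_le_card_of_injective
        (fun w : W => (⟨g * w.1, hauto g (Finset.mem_filter.1 hg).2 w.1
          (Finset.mem_filter.1 w.2).2.1 (Finset.mem_filter.1 w.2).2.2⟩ :
          {h : G // (⟦h⟧ : Orb G) = ⟦g⟧}))
        fun a b h => Subtype.ext (mul_left_cancel (congrArg Subtype.val h))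
  push_neg at hWbig
  -- the only central subgroup of order q is the derived subgroup
  have hWK : ∀ w ∈ center G, w ^ q = 1 → w ∈ commutator G := by
    intro w hw hwq
    by_contra hwK
    have h1 : Nat.card (commutator G × Fin q) ≤ W.card := by
      rw [← Fintype.card_coe W, ← Nat.card_eq_fintype_card]
      refine Nat.card_le_card_of_injective
        (fun a => (⟨(a.1 : G) * w ^ (a.2 : ℕ), Finset.mem_filter.2 ⟨Finset.mem_univ _,
          mul_mem (hKZ a.1.2) (pow_mem hw _), by
            rw [Commute.mul_pow (mem_center_iff.1 (pow_mem hw _) _), hpowK _ a.1.2, ← pow_mul,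
              mul_comm, pow_mul, hwq, one_pow, one_mul]⟩⟩ : W)) ?_
      rintro ⟨a, i⟩ ⟨b, j⟩ h
      have h' : (a : G) * w ^ (i : ℕ) = b * w ^ (j : ℕ) := congrArg Subtype.val h
      have h2 : w ^ ((i : ℤ) - j) ∈ commutator G := by
        have : w ^ ((i : ℤ) - j) = (a : G)⁻¹ * b := by
          rw [zpow_sub, zpow_natCast, zpow_natCast]
          calc w ^ (i : ℕ) * (w ^ (j : ℕ))⁻¹ = (a : G)⁻¹ * ((a : G) * w ^ (i : ℕ)) * (w ^ (j : ℕ))⁻¹ := by group
            _ = _ := by rw [h']; group
        rw [this]; exact mul_mem (inv_mem a.2) b.2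
      have hij : i = j := by
        by_contra hne
        refine hwK ?_
        have hw1 : orderOf w = q := orderOf_eq_prime hwq fun h => hwK (h ▸ one_mem _)
        have hcop : IsCoprime ((i : ℤ) - j) (q : ℤ) := by
          refine ((Nat.prime_iff_prime_int.1 hq).coprime_iff_not_dvd.2 fun hd => hne ?_).symm
          have := Int.eq_zero_of_abs_lt_dvd hd (by rw [abs_lt]; omega)
          exact Fin.ext (by omega)
        obtain ⟨u, v, huv⟩ := hcop
        have : w = (w ^ ((i : ℤ) - j)) ^ u := by
          rw [← zpow_mul]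
          conv_lhs => rw [← zpow_one w, ← huv, zpow_add, mul_comm v, zpow_mul w (q : ℤ),
            zpow_natCast, hwq, one_zpow, mul_one, mul_comm u]
        rw [this]; exact zpow_mem h2 u
      subst hij
      simpa using h'
    rw [Nat.card_prod, hK, Nat.card_fin] at h1
    rw [pow_two] at hWbig
    omega
  obtain ⟨y₀, hy₀⟩ := hnc x₀ hx₀
  set z : G := ⁅x₀, y₀⁆ with hzdef
  have hzK : z ∈ commutator G := hcomm _ _
  have hzq : z ^ q = 1 := hpowK z hzK
  have hzord : orderOf z = q := orderOf_eq_prime hzq hy₀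
  have hzgen : ∀ c ∈ commutator G, ∃ n < q, z ^ n = c := by
    intro c hc
    obtain ⟨n, hn⟩ := mem_powers_of_prime_card (g := (⟨z, hzK⟩ : commutator G)) (g' := ⟨c, hc⟩) hK
      (fun h => hy₀ (congrArg Subtype.val h))
    refine ⟨n % q, Nat.mod_lt _ hq.pos, ?_⟩
    rw [← hzord, pow_mod_orderOf]
    exact congrArg Subtype.val hn
  have hzc : ∀ g, Commute g z := hcen _ _
  -- the noncentral element `u`
  obtain ⟨u, c, hu, hc, hrule⟩ : ∃ (u : G) (c : ℕ → G), u ∉ center G ∧ (∀ i, c i ∈ center G) ∧
      ∀ i j, i < q → j < q → u ^ ((i + j) % q) * c ((i + j) % q) * z ^ (i * j) =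
        u ^ (i + j) * (c i * c j) := by
    by_cases hq2 : q = 2
    · obtain ⟨u, hu, hu2⟩ : ∃ u, u ∉ center G ∧ u * u = z := by
        set sq : center G →* center G := ⟨⟨fun a => a ^ 2, one_pow 2⟩, fun a b =>
          Commute.mul_pow (Subtype.ext (mem_center_iff.1 b.2 a)) 2⟩ with hsq
        have hker : Nat.card sq.ker ≤ 2 := by
          rw [← hq2, ← hK]
          refine Nat.card_le_card_of_injective (fun a => (⟨(a.1 : G), hWK _ a.1.2 (by
            rw [hq2]; exact congrArg Subtype.val (MonoidHom.mem_ker.1 a.2))⟩ : commutator G))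
            fun a b h => Subtype.ext (Subtype.ext (congrArg (fun v : commutator G => (v : G)) h))
        have hidx2 : sq.range.index ≤ 2 := by
          have h1 := sq.range.card_mul_index
          rw [← Subgroup.index_ker] at h1
          have h2 := sq.ker.card_mul_index
          have h3 : 0 < sq.ker.index := Nat.pos_of_ne_zero index_ne_zero_of_finite
          nlinarith
        have hmulsq : ∀ a b : center G, a ∉ sq.range → b ∉ sq.range → a * b ∈ sq.range := by
          intro a b ha hb
          have h2 : sq.range.index = 2 := by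
            refine le_antisymm hidx2 ?_
            have h0 := index_ne_zero_of_finite (H := sq.range)
            have h1 : sq.range.index ≠ 1 := fun h => ha (index_eq_one.1 h ▸ mem_top a)
            omega
          exact (mul_mem_iff_of_index_two h2).2 (iff_of_false ha hb)
        set zc : center G := ⟨z, hKZ hzK⟩ with hzc'
        let S : G → center G := fun g => ⟨g ^ 2, hq2 ▸ hqpow g⟩
        have hprod : S (x₀ * y₀) = S x₀ * S y₀ * zc := by
          apply Subtype.ext
          show (x₀ * y₀) ^ 2 = x₀ ^ 2 * y₀ ^ 2 * z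
          have hyx : y₀ * x₀ = z * x₀ * y₀ := by
            have h1 : z⁻¹ = z := inv_eq_of_mul_eq_one_right (by rw [← pow_two, ← hq2]; exact hzq)
            calc y₀ * x₀ = z⁻¹ * (x₀ * y₀) := by rw [hzdef, commutatorElement_def]; group
              _ = _ := by rw [h1, mul_assoc]
          calc (x₀ * y₀) ^ 2 = x₀ * (y₀ * x₀) * y₀ := by rw [pow_two]; group
            _ = x₀ * z * x₀ * y₀ * y₀ := by rw [hyx]; group
            _ = z * x₀ * x₀ * y₀ * y₀ := by rw [(hzc x₀).eq]
            _ = z * (x₀ ^ 2 * y₀ ^ 2) := by simp only [pow_two, mul_assoc]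
            _ = _ := ((hzc _).eq).symm
        have hxy0 : x₀ * y₀ ∉ center G := fun h => hy₀ (commutatorElement_eq_one_iff_commute.2 (by
          have h1 : Commute x₀ (x₀ * y₀) := mem_center_iff.1 h x₀
          have := (Commute.refl x₀).inv_right.mul_right h1
          simpa using this))
        have hy₀Z : y₀ ∉ center G := fun h =>
          hy₀ (commutatorElement_eq_one_iff_commute.2 (mem_center_iff.1 h x₀))
        obtain ⟨g, hg, hgr⟩ : ∃ g, g ∉ center G ∧ S g * zc⁻¹ ∈ sq.range := by
          by_cases hz : zc ∈ sq.range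
          · by_cases hx : S x₀ ∈ sq.range
            · exact ⟨x₀, hx₀, mul_mem hx (inv_mem hz)⟩
            by_cases hy : S y₀ ∈ sq.range
            · exact ⟨y₀, hy₀Z, mul_mem hy (inv_mem hz)⟩
            exact ⟨x₀ * y₀, hxy0, by rw [hprod, mul_inv_cancel_right]; exact hmulsq _ _ hx hy⟩
          · have hzi : zc⁻¹ ∉ sq.range := fun h => hz (inv_mem_iff.1 h)
            by_cases hx : S x₀ ∈ sq.range
            · by_cases hy : S y₀ ∈ sq.range
              · exact ⟨x₀ * y₀, hxy0, by rw [hprod, mul_inv_cancel_right]; exact mul_mem hx hy⟩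
              · exact ⟨y₀, hy₀Z, hmulsq _ _ hy hzi⟩
            · exact ⟨x₀, hx₀, hmulsq _ _ hx hzi⟩
        obtain ⟨s, hs⟩ := hgr
        refine ⟨g * (s : G)⁻¹, fun h => hg (by simpa using mul_mem h s.2), ?_⟩
        have hs' : (s : G) ^ 2 = g ^ 2 * z⁻¹ := congrArg Subtype.val hs
        have hcs : Commute g (s : G)⁻¹ := mem_center_iff.1 (inv_mem s.2) g
        rw [← pow_two, hcs.mul_pow, inv_pow, hs', mul_inv_rev, inv_inv, (hzc _).inv_left.eq.symm]
        rw [mul_inv_cancel_left]
      refine ⟨u, fun _ => 1, hu, fun _ => one_mem _, fun i j hi hj => ?_⟩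
      rw [hq2] at hi hj ⊢
      interval_cases i <;> interval_cases j <;> simp [pow_two, hu2]
    · have hodd : Odd q := hq.odd_of_ne_two hq2
      obtain ⟨h, hh⟩ := hodd
      have hpowhom : ∀ a b : G, (a * b) ^ q = a ^ q * b ^ q := by
        intro a b
        have hba : b * a = a * b * ⁅b⁻¹, a⁻¹⁆ := by simp only [commutatorElement_def]; group
        rw [CfsgLib.Coprime.mul_pow_of_central (fun g => (hcen _ _ g).symm) hba q]
        have : q ∣ q.choose 2 := hq.dvd_choose_self two_ne_zero (lt_of_le_of_ne hq.two_le (Ne.symm hq2))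
        obtain ⟨d, hd⟩ := this
        rw [hd, pow_mul, hpowK _ (hcomm _ _), one_pow, mul_one]
      let P : G →* center G := ⟨⟨fun a => ⟨a ^ q, hqpow a⟩, Subtype.ext (one_pow q)⟩,
        fun a b => Subtype.ext (hpowhom a b)⟩
      obtain ⟨u, hu, hu1⟩ : ∃ u, u ∉ center G ∧ u ^ q = 1 := by
        by_contra hno
        push_neg at hno
        have h1 : Nat.card P.ker ≤ q := by
          rw [← hK]
          exact Nat.card_le_card_of_injective (fun a => (⟨a.1, hWK _ (by
            by_contra hA
            exact hno _ hA (congrArg Subtype.val (MonoidHom.mem_ker.1 a.2)))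
            (congrArg Subtype.val (MonoidHom.mem_ker.1 a.2))⟩ : commutator G))
            fun a b h => Subtype.ext (congrArg (fun v : commutator G => (v : G)) h)
        have h2 : Nat.card P.range ≤ Nat.card (center G) :=
          Nat.card_le_card_of_injective _ Subtype.val_injective
        have h3 := P.ker.card_mul_index
        rw [Subgroup.index_ker] at h3
        have := Nat.card_pos (α := center G)
        have h4 := Nat.mul_le_mul h1 h2
        have h5 := hq.two_le
        have h6 := Nat.mul_le_mul_right (Nat.card (center G)) (Nat.mul_le_mul_right q h5)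
        nlinarith
      set r : G := z ^ (h + 1) with hr
      have hr2 : r ^ 2 = z := by
        rw [hr, ← pow_mul, show (h + 1) * 2 = q + 1 by omega, pow_succ, hzq, one_mul]
      have hrq : r ^ q = 1 := by rw [hr, ← pow_mul, mul_comm, pow_mul, hzq, one_pow]
      have hmod : ∀ n, r ^ n = r ^ (n % q) := fun n => by
        conv_lhs => rw [← Nat.mod_add_div n q, pow_add, pow_mul, hrq, one_pow, mul_one]
      refine ⟨u, fun i => (r ^ (i * i))⁻¹, hu, fun i => inv_mem (pow_mem
        (pow_mem (hKZ hzK) _) _), fun i j hi hj => ?_⟩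
      have e1 : r ^ ((i + j) % q * ((i + j) % q)) = r ^ ((i + j) * (i + j)) := by
        rw [hmod, hmod ((i + j) * (i + j)), ← Nat.mul_mod]
      have e2 : u ^ ((i + j) % q) = u ^ (i + j) := by
        conv_rhs => rw [← Nat.mod_add_div (i + j) q, pow_add, pow_mul, hu1, one_pow, mul_one]
      show u ^ ((i + j) % q) * (r ^ ((i + j) % q * ((i + j) % q)))⁻¹ * z ^ (i * j) =
        u ^ (i + j) * ((r ^ (i * i))⁻¹ * (r ^ (j * j))⁻¹)
      rw [e1, e2, mul_assoc, ← hr2]
      congr 1
      simp only [← pow_mul, ← zpow_natCast, ← zpow_mul, ← zpow_neg, ← zpow_add]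
      congr 1
      push_cast
      ring
  have hE : ∀ g, ∃ n, n < q ∧ z ^ n = ⁅g, u⁆ := fun g => hzgen _ (hcomm g u)
  choose e helt he using hE
  have hinj' : ∀ {a b : ℕ}, a < q → b < q → z ^ a = z ^ b → a = b := fun ha hb h =>
    pow_injOn_Iio_orderOf (by rw [Set.mem_Iio, hzord]; exact ha)
      (by rw [Set.mem_Iio, hzord]; exact hb) h
  have he_mul : ∀ a b, e (a * b) = (e a + e b) % q := fun a b => by
    refine hinj' (helt _) (Nat.mod_lt _ hq.pos) ?_
    rw [he, hmulL, ← he a, ← he b, ← pow_add, ← hzord, pow_mod_orderOf]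
  have he_cen : ∀ {g}, Commute g u → e g = 0 := fun hg => by
    refine hinj' (helt _) hq.pos ?_
    rw [he, commutatorElement_eq_one_iff_commute.2 hg, pow_zero]
  have hswap : ∀ b i, u ^ i * b * z ^ (e b * i) = b * u ^ i := by
    intro b i
    induction i with
    | zero => simp
    | succ i ih =>
      have hub : b * u = z ^ e b * (u * b) := by rw [he, commutatorElement_def]; group
      rw [pow_succ' u, ← mul_assoc b, hub]
      calc u * u ^ i * b * z ^ (e b * (i + 1))
          = u * (u ^ i * b * z ^ (e b * i)) * z ^ e b := by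
            rw [mul_add, mul_one, pow_add]; group
        _ = z ^ e b * (u * (u ^ i * b * z ^ (e b * i))) := ((hzc _).pow_right _).eq
        _ = _ := by rw [ih]; group
  let φ₀ : G →* G :=
    { toFun := fun g => g * (u ^ e g * c (e g))
      map_one' := by
        have h0 := hrule 0 0 hq.pos hq.pos
        simp only [Nat.zero_add, Nat.zero_mod, Nat.mul_zero, pow_zero, one_mul, mul_one] at h0
        have hc0 : c 0 = 1 := by simpa using h0
        rw [he_cen (Commute.one_left u)]
        simp [hc0]
      map_mul' := fun a b => by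
        have h0 := hrule (e a) (e b) (helt a) (helt b)
        rw [he_mul]
        set m := (e a + e b) % q
        have hca : ∀ g, Commute g (c (e a)) := mem_center_iff.1 (hc _)
        calc a * b * (u ^ m * c m)
            = a * b * (u ^ m * c m * z ^ (e a * e b)) * (z ^ (e a * e b))⁻¹ := by group
          _ = a * b * (u ^ e a * (u ^ e b * c (e a)) * c (e b)) * (z ^ (e a * e b))⁻¹ := by
              rw [h0, pow_add]; group
          _ = a * (b * u ^ e a) * c (e a) * (u ^ e b * c (e b)) * (z ^ (e a * e b))⁻¹ := by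
              rw [(hca (u ^ e b)).eq]; group
          _ = a * (u ^ e a * b * z ^ (e b * e a)) * c (e a) * (u ^ e b * c (e b)) *
                (z ^ (e a * e b))⁻¹ := by rw [hswap]
          _ = (z ^ (e a * e b))⁻¹ * (a * u ^ e a * b * (z ^ (e a * e b) * c (e a)) *
                (u ^ e b * c (e b))) := by
              rw [← ((hzc _).pow_right _).inv_right.eq, mul_comm (e b)]; group
          _ = (z ^ (e a * e b))⁻¹ * (a * u ^ e a * b * c (e a) *
                (z ^ (e a * e b) * (u ^ e b * c (e b)))) := by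
              rw [← ((hzc (c (e a))).pow_right (e a * e b)).eq]; group
          _ = (z ^ (e a * e b))⁻¹ * (a * u ^ e a * (c (e a) * b) *
                (z ^ (e a * e b) * (u ^ e b * c (e b)))) := by rw [← (hca b).eq]; group
          _ = (z ^ (e a * e b))⁻¹ * ((a * (u ^ e a * c (e a)) * (b * (u ^ e b * c (e b)))) *
                z ^ (e a * e b)) := by
              rw [← ((hzc (u ^ e b * c (e b))).pow_right (e a * e b)).eq]; group
          _ = _ := by
              rw [((hzc _).pow_right (e a * e b)).eq, inv_mul_cancel_left] }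
  have hcu : ∀ i, Commute (u ^ i * c i) u :=
    fun i => ((Commute.refl u).pow_left i).mul_left (mem_center_iff.1 (hc i) u).symm
  have heφ : ∀ g, e (φ₀ g) = e g := fun g => by
    show e (g * (u ^ e g * c (e g))) = e g
    rw [he_mul, he_cen (hcu _), Nat.add_zero, Nat.mod_eq_of_lt (helt g)]
  have hφinj : Function.Injective φ₀ := by
    refine (injective_iff_map_eq_one φ₀).2 fun g hg => ?_
    have h0 : e g = 0 := by rw [← heφ g, hg, he_cen (Commute.one_left u)]
    have h1 := φ₀.map_one
    have he1 : e 1 = 0 := he_cen (Commute.one_left u)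
    change (1 : G) * (u ^ e 1 * c (e 1)) = 1 at h1
    change g * (u ^ e g * c (e g)) = 1 at hg
    rw [he1, one_mul] at h1
    rw [h0, h1, mul_one] at hg
    exact hg
  set φ : MulAut G := MulEquiv.ofBijective φ₀ (Finite.injective_iff_bijective.1 hφinj) with hφ
  have hiter : ∀ g n, ∃ d ∈ center G, (φ ^ n) g = g * u ^ (n * e g) * d ∧ e ((φ ^ n) g) = e g := by
    intro g n
    induction n with
    | zero => exact ⟨1, one_mem _, by simp, by simp⟩
    | succ n ih =>
      obtain ⟨d, hd, h1, h2⟩ := ih
      refine ⟨d * c (e g), mul_mem hd (hc _), ?_, ?_⟩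
      · rw [pow_succ', MulAut.mul_apply, hφ, MulEquiv.ofBijective_apply, ← hφ]
        show (φ ^ n) g * (u ^ e ((φ ^ n) g) * c (e ((φ ^ n) g))) = _
        rw [h2, h1, show (n + 1) * e g = n * e g + e g by ring, pow_add]
        have := mem_center_iff.1 hd (u ^ e g)
        calc g * u ^ (n * e g) * d * (u ^ e g * c (e g))
            = g * u ^ (n * e g) * (d * u ^ e g) * c (e g) := by group
          _ = _ := by rw [← this]; group
      · rw [pow_succ', MulAut.mul_apply, hφ, MulEquiv.ofBijective_apply, ← hφ, heφ, h2]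
  refine weight_count hq.pos ((Nat.mul_le_mul_left _ (Nat.le_mul_self q)).trans hZG)
    (Finset.univ.filter fun g => ¬ Commute g u) ?_ ?_ ?_ hsmall
  · exact fun g hg hgZ => (Finset.mem_filter.1 hg).2 (mem_center_iff.1 hgZ u).symm
  · have h1 := Finset.card_filter_add_card_filter_not (s := (Finset.univ : Finset G))
      (fun g => Commute g u)
    have h2 : (Finset.univ.filter (fun g => Commute g u)).card =
        Nat.card (centralizer ({u} : Set G)) := by
      rw [← Fintype.card_subtype, ← Nat.card_eq_fintype_card]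
      exact Nat.card_congr (Equiv.subtypeEquivRight fun g => mem_centralizer_singleton_iff.symm)
    rw [Finset.card_univ, ← Nat.card_eq_fintype_card, h2] at h1
    have h3 : q ≤ (centralizer ({u} : Set G)).index := hmin _ (index_dvd_card _) fun h => hu
      (mem_center_iff.2 fun g => mem_centralizer_singleton_iff.1 (index_eq_one.1 h ▸ mem_top g))
    have h4 := (centralizer ({u} : Set G)).card_mul_index
    have h5 := hq.two_le
    nlinarith
  · intro g hg
    have hgu := (Finset.mem_filter.1 hg).2
    have hgZ : g ∉ center G := fun h => hgu (mem_center_iff.1 h u).symm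
    have heg : ¬ q ∣ e g := fun h => hgu (commutatorElement_eq_one_iff_commute.1 (by
      rw [← he, Nat.eq_zero_of_dvd_of_lt h (helt g), pow_zero]))
    have hmem : ∀ a : Fin q × commutator G,
        (⟦(φ ^ (a.1 : ℕ)) g * a.2⟧ : Orb G) = ⟦g⟧ := fun a => by
      rw [hauto _ (fun h => hgZ ?_) _ (hKZ a.2.2) (hpowK _ a.2.2), mk_apply]
      have hchar : (center G).Characteristic := inferInstance
      rw [← (characteristic_iff_comap_eq.1 hchar) (φ ^ (a.1 : ℕ))]
      exact h
    refine le_trans ?_ (Nat.card_le_card_of_injective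
      (fun a => (⟨_, hmem a⟩ : {h : G // (⟦h⟧ : Orb G) = ⟦g⟧})) ?_)
    · rw [Nat.card_prod, Nat.card_fin, hK, pow_two]
    · rintro ⟨i, k⟩ ⟨j, l⟩ hkl
      have h' : (φ ^ (i : ℕ)) g * k = (φ ^ (j : ℕ)) g * l := congrArg Subtype.val hkl
      obtain ⟨di, hdi, hi, -⟩ := hiter g i
      obtain ⟨dj, hdj, hj, -⟩ := hiter g j
      have hij : i = j := by
        have h2 : u ^ (((i : ℤ) - j) * e g) ∈ center G := by
          rw [hi, hj, mul_assoc g, mul_assoc g, mul_assoc g, mul_assoc g, mul_left_cancel_iff,
            mul_assoc, mul_assoc] at h'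
          rw [sub_mul, sub_eq_neg_add, zpow_add, zpow_neg, ← Nat.cast_mul, ← Nat.cast_mul,
            zpow_natCast, zpow_natCast, eq_mul_inv_of_mul_eq h', ← mul_assoc, ← mul_assoc,
            inv_mul_cancel, one_mul]
          exact mul_mem (mul_mem hdj (hKZ l.2)) (inv_mem (mul_mem hdi (hKZ k.2)))
        by_contra hne
        apply hu
        have hcop : IsCoprime (((i : ℤ) - j) * e g) (q : ℤ) := by
          refine ((Nat.prime_iff_prime_int.1 hq).coprime_iff_not_dvd.2 fun hd => ?_).symm
          rcases (Nat.prime_iff_prime_int.1 hq).dvd_or_dvd hd with hd | hd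
          · have := Int.eq_zero_of_abs_lt_dvd hd (by rw [abs_lt]; omega)
            exact hne (Fin.ext (by omega))
          · exact heg (Int.natCast_dvd_natCast.1 hd)
        obtain ⟨a, b, hab⟩ := hcop
        have : u = (u ^ (((i : ℤ) - j) * e g)) ^ a * ((u ^ q) ^ b) := by
          rw [← zpow_natCast u q, ← zpow_mul, ← zpow_mul, ← zpow_add, mul_comm _ a, mul_comm (q : ℤ) b,
            hab, zpow_one]
        rw [this]
        exact mul_mem (zpow_mem h2 a) (zpow_mem (hqpow u) b)
      subst hij
      exact Prod.ext rfl (Subtype.ext (mul_left_cancel h'))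


/-- Let G be a finite non-abelian group and p the least prime dividing its order. Then the automorphism group of G has at most #G/p orbits on G. -/
theorem result {G : Type*} [Group G] [Finite G] (hna : ¬ IsMulCommutative G) :
    Nat.card (MulAction.orbitRel.Quotient (MulAut G) G) ≤ Nat.card G / (Nat.card G).minFac := by
  exact orbit_bound hna

end Cfsg.Agent.S4067
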