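import Cfsg.Statements.S4068
import Cfsg.Agent.S1230
import Cfsg.Agent.S0252
import Cfsg.Agent.Lib.Char.CNOdd
import Cfsg.Agent.Lib.Char.Burnside
import Cfsg.Agent.Lib.Invol.ThreePoint
import Cfsg.Agent.Lib.Classical.SL2Sylow

set_option autoImplicit false
set_option linter.style.haveILetI false
open Cfsg

namespace Cfsg.Agent.S4068

open Subgroup

/-- Every nontrivial element has prime order. -/
def AllPrime (G : Type*) [Group G] : Prop := ∀ x : G, x ≠ 1 → (orderOf x).Prime

theorem allPrime_subgroup {G : Type*} [Group G] (h : AllPrime G) (H : Subgroup G) : AllPrime H :=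
  fun x hx => by
    rw [← Subgroup.orderOf_coe]
    exact h x fun e => hx (Subtype.ext e)

theorem allPrime_quotient {G : Type*} [Group G] (h : AllPrime G) (N : Subgroup G) [N.Normal] :
    AllPrime (G ⧸ N) := by
  intro y hy
  obtain ⟨x, rfl⟩ := QuotientGroup.mk'_surjective N y
  have hp := h x fun e => hy (by rw [e, map_one])
  rcases (Nat.dvd_prime hp).1 (orderOf_map_dvd (QuotientGroup.mk' N) x) with h1 | h1
  · exact absurd (orderOf_eq_one_iff.1 h1) hy
  · rwa [h1]

theorem eq_orderOf_of_commute {G : Type*} [Group G] (h : AllPrime G) {x y : G} (hx : x ≠ 1)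
    (hy : y ≠ 1) (hc : Commute x y) : orderOf y = orderOf x := by
  by_contra hne
  have hcop : (orderOf x).Coprime (orderOf y) :=
    (Nat.coprime_primes (h x hx) (h y hy)).2 fun e => hne e.symm
  have hmul := hc.orderOf_mul_eq_mul_orderOf_of_coprime hcop
  have hxy : x * y ≠ 1 := fun e => by
    rw [e, orderOf_one] at hmul
    exact (h x hx).ne_one (Nat.eq_one_of_mul_eq_one_right hmul.symm)
  have hp := h _ hxy
  rw [hmul] at hp
  exact Nat.not_prime_mul (h x hx).ne_one (h y hy).ne_one hp

theorem isCN {G : Type*} [Group G] [Finite G] (h : AllPrime G) : Cfsg.IsCNGroup G := by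
  intro x hx
  haveI : Fact (orderOf x).Prime := ⟨h x hx⟩
  refine IsPGroup.isNilpotent (p := orderOf x) ?_
  intro c
  refine ⟨1, ?_⟩
  by_cases hc : (c : G) = 1
  · rw [show c = 1 from Subtype.ext hc, one_pow]
  apply Subtype.ext
  rw [SubgroupClass.coe_pow, pow_one, OneMemClass.coe_one]
  rw [← eq_orderOf_of_commute h hx hc (mem_centralizer_singleton_iff.1 c.2).symm]
  exact pow_orderOf_eq_one _

theorem isSolvable_of_odd {G : Type*} [Group G] [Finite G] (h : AllPrime G)
    (hodd : Odd (Nat.card G)) : Group.IsSolvable G :=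
  CfsgLib.Char.isSolvable_of_cn_odd hodd (isCN h)

open Matrix in
theorem card_eq_four {F : Type*} [Field F] [Fintype F] {n : ℕ} (hn : 2 ≤ n)
    (hcard : Fintype.card F = 2 ^ n) (h : AllPrime (Matrix.ProjectiveSpecialLinearGroup (Fin 2) F))
    (h3 : ∀ p q r s : ℕ, p.Prime → q.Prime → r.Prime → s.Prime →
      p ∣ Nat.card (Matrix.ProjectiveSpecialLinearGroup (Fin 2) F) →
      q ∣ Nat.card (Matrix.ProjectiveSpecialLinearGroup (Fin 2) F) →
      r ∣ Nat.card (Matrix.ProjectiveSpecialLinearGroup (Fin 2) F) →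
      s ∣ Nat.card (Matrix.ProjectiveSpecialLinearGroup (Fin 2) F) →
      p ≠ q → p ≠ r → p ≠ s → q ≠ r → q ≠ s → r ≠ s → False) :
    Fintype.card F = 4 := by
  classical
  obtain ⟨p, hchar⟩ := CharP.exists F
  haveI := hchar
  obtain ⟨f, hpp, hf⟩ := FiniteField.card F p
  have hp2 : p = 2 := (Nat.prime_dvd_prime_iff_eq hpp Nat.prime_two).1
    (hpp.dvd_of_dvd_pow (n := n) (by rw [← hcard, hf]; exact dvd_pow_self p f.2.ne'))
  subst hp2
  set q := Fintype.card F with hq
  have hq4 : 4 ≤ q := by rw [hcard]; exact Nat.pow_le_pow_right two_pos hn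
  have hcen : Subgroup.center (Matrix.SpecialLinearGroup (Fin 2) F) = ⊥ := by
    rw [eq_bot_iff]
    intro z hz
    obtain ⟨r, hr, hrz⟩ := Matrix.SpecialLinearGroup.mem_center_iff.1 hz
    rw [Fintype.card_fin] at hr
    have h1 : r = 1 := by
      have h2 : (r + 1) * (r + 1) = 0 := by
        linear_combination hr + (r + 1) * CharTwo.two_eq_zero (R := F)
      exact CharTwo.add_eq_zero.1 (mul_self_eq_zero.1 h2)
    rw [mem_bot]
    apply Subtype.ext
    rw [← hrz, h1, map_one]
    rfl
  set π := QuotientGroup.mk' (Subgroup.center (Matrix.SpecialLinearGroup (Fin 2) F)) with hπ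
  have hπi : Function.Injective π := by
    rw [← MonoidHom.ker_eq_bot_iff, hπ, QuotientGroup.ker_mk', hcen]
  have hSL : AllPrime (Matrix.SpecialLinearGroup (Fin 2) F) := fun x hx => by
    rw [← orderOf_injective π hπi]
    exact h (π x) fun e => hx (hπi (e.trans (map_one _).symm))
  -- the split torus
  obtain ⟨a, ha⟩ := IsCyclic.exists_generator (α := Fˣ)
  have hao : orderOf a = q - 1 := by
    rw [orderOf_eq_card_of_forall_mem_zpowers ha, Nat.card_units, Nat.card_eq_fintype_card]
  let d : Matrix.SpecialLinearGroup (Fin 2) F :=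
    ⟨!![(a : F), 0; 0, (a⁻¹ : Fˣ)], by rw [Matrix.det_fin_two_of]; simp⟩
  have hdpow : ∀ k : ℕ, (d ^ k).1 = !![((a ^ k : Fˣ) : F), 0; 0, ((a⁻¹) ^ k : Fˣ)] := by
    intro k
    induction k with
    | zero => simp [Matrix.one_fin_two]
    | succ k ih =>
      rw [pow_succ, Matrix.SpecialLinearGroup.coe_mul, ih]
      simp [d, pow_succ, Matrix.mul_fin_two]
  have hdo : orderOf d = q - 1 := by
    rw [← hao]
    refine Nat.dvd_antisymm (orderOf_dvd_of_pow_eq_one ?_) (orderOf_dvd_of_pow_eq_one ?_)
    · apply Subtype.ext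
      rw [hdpow, inv_pow, pow_orderOf_eq_one]
      simp [Matrix.one_fin_two]
    · apply Units.ext
      have h0 : (d ^ orderOf d).1 0 0 = (1 : Matrix (Fin 2) (Fin 2) F) 0 0 := by
        rw [pow_orderOf_eq_one]; rfl
      rw [hdpow] at h0
      simpa using h0
  have hd1 : d ≠ 1 := fun e => by rw [e, orderOf_one] at hdo; omega
  have hprime : (q - 1).Prime := hdo ▸ hSL d hd1
  have hG : Nat.card (Matrix.ProjectiveSpecialLinearGroup (Fin 2) F) =
      Nat.card (Matrix.SpecialLinearGroup (Fin 2) F) :=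
    (Nat.card_congr (Equiv.ofBijective π ⟨hπi, QuotientGroup.mk'_surjective _⟩)).symm
  have hsl : Nat.card (Matrix.SpecialLinearGroup (Fin 2) F) = q * (q - 1) * (q + 1) := by
    rw [CfsgLib.Classical.card_sl2, mul_assoc]
  -- q is four or eight
  by_contra hne
  have hdvd3 : 3 ∣ q + 1 := by
    have hmod : q % 3 = 1 ∨ q % 3 = 2 := by
      have : ¬ 3 ∣ q := by
        rw [hcard]
        exact fun h => absurd (Nat.prime_three.dvd_of_dvd_pow h) (by norm_num)
      omega
    rcases hmod with hm | hm
    · exfalso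
      have h3q : 3 ∣ q - 1 := by omega
      rcases (Nat.dvd_prime hprime).1 h3q with h | h <;> omega
    · omega
  by_cases hn3 : n = 3
  · subst hn3
    have hq8 : q = 8 := by rw [hcard]; norm_num
    have ha7 : (a : F) ^ 7 = 1 := by
      rw [← Units.val_pow_eq_pow_val, show (7 : ℕ) = orderOf a by omega, pow_orderOf_eq_one,
        Units.val_one]
    have ha1 : (a : F) ≠ 1 := fun e => by
      rw [show a = 1 from Units.ext e, orderOf_one] at hao; omega
    obtain ⟨t, ht, ht1⟩ : ∃ t : F, t ^ 3 + t + 1 = 0 ∧ t ≠ 1 := by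
      have hfac : ((a : F) + 1) * (((a : F) ^ 3 + a + 1) * ((a : F) ^ 3 + (a : F) ^ 2 + 1)) = 0 := by
        linear_combination ha7 + ((a : F) ^ 6 + (a : F) ^ 5 + 2 * (a : F) ^ 4 + 2 * (a : F) ^ 3 + (a : F) ^ 2 + (a : F) + 1) * CharTwo.two_eq_zero (R := F)
      rcases mul_eq_zero.1 hfac with h | h
      · exact absurd (CharTwo.add_eq_zero.1 h) ha1
      rcases mul_eq_zero.1 h with h | h
      · exact ⟨a, h, ha1⟩
      · refine ⟨((a⁻¹ : Fˣ) : F), ?_, fun e => ha1 ?_⟩
        · have hinv : (a : F) * ((a⁻¹ : Fˣ) : F) = 1 := by simp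
          linear_combination (((a⁻¹ : Fˣ) : F)) ^ 3 * h - (((a : F) * ((a⁻¹ : Fˣ) : F)) ^ 2 + (a : F) * ((a⁻¹ : Fˣ) : F) + 1 + ((a⁻¹ : Fˣ) : F) * ((a : F) * ((a⁻¹ : Fˣ) : F) + 1)) * hinv
        · rw [← inv_inv a, Units.val_inv_eq_inv_val, e, inv_one]
    let x : Matrix.SpecialLinearGroup (Fin 2) F :=
      ⟨!![0, 1; 1, t], by
        rw [Matrix.det_fin_two_of]
        linear_combination (-1 : F) * CharTwo.two_eq_zero (R := F)⟩
    have h20 : (2 : F) = 0 := CharTwo.two_eq_zero
    have hx3 : (x ^ 3).1 = !![t, t * t + 1; t * t + 1, t ^ 3] := by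
      rw [pow_succ, pow_two, Matrix.SpecialLinearGroup.coe_mul, Matrix.SpecialLinearGroup.coe_mul]
      show !![(0 : F), 1; 1, t] * !![(0 : F), 1; 1, t] * !![(0 : F), 1; 1, t] = _
      rw [Matrix.mul_fin_two, Matrix.mul_fin_two]
      ext i j
      fin_cases i <;> fin_cases j <;> simp <;> grind
    have hx9 : x ^ 9 = 1 := by
      rw [show (9 : ℕ) = 3 * 3 from rfl, pow_mul]
      apply Subtype.ext
      rw [pow_succ, pow_two, Matrix.SpecialLinearGroup.coe_mul, Matrix.SpecialLinearGroup.coe_mul,
        hx3, Matrix.mul_fin_two, Matrix.mul_fin_two, Matrix.SpecialLinearGroup.coe_one,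
        Matrix.one_fin_two]
      have ht3 : t ^ 3 = t + 1 := by linear_combination ht - (t + 1) * h20
      ext i j
      fin_cases i <;> fin_cases j <;> simp only [Matrix.of_apply, Matrix.cons_val',
        Matrix.cons_val_zero, Matrix.cons_val_one, Matrix.empty_val', Matrix.cons_val_fin_one,
        Fin.mk_one, Fin.zero_eta, Fin.isValue] <;> rw [ht3] <;> grind
    have hx3' : x ^ 3 ≠ 1 := fun e => by
      have := congrArg (fun g : Matrix.SpecialLinearGroup (Fin 2) F => g.1 0 0) e
      simp [hx3] at this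
      exact ht1 this
    have hx : x ≠ 1 := fun e => hx3' (by rw [e, one_pow])
    have hd9 : orderOf x ∣ 3 ^ 2 := orderOf_dvd_of_pow_eq_one (by norm_num [hx9])
    have h1 := (Nat.prime_dvd_prime_iff_eq (hSL x hx) Nat.prime_three).1
      ((hSL x hx).dvd_of_dvd_pow hd9)
    exact hx3' (by rw [← h1]; exact pow_orderOf_eq_one x)
  · have hn4 : 4 ≤ n := by
      by_contra hlt
      have : n = 2 := by omega
      subst this
      exact hne (by rw [hcard]; norm_num)
    have hoddn : Odd n := by
      by_contra he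
      rw [Nat.not_odd_iff_even] at he
      obtain ⟨k, rfl⟩ := he
      have : 2 ^ (k + k) % 3 = 1 := by rw [← two_mul, pow_mul, Nat.pow_mod]; norm_num
      omega
    have hnp : n.Prime := by
      exact (Nat.prime_of_pow_sub_one_prime (a := 2) (by omega) (by rw [← hcard]; exact hprime)).2
    have h9 : ¬ 9 ∣ q + 1 := by
      intro h9
      obtain ⟨k, hk⟩ := hoddn
      have hk3 : ¬ 3 ∣ n := fun h => by
        rcases (Nat.dvd_prime hnp).1 h with h | h <;> omega
      rw [hcard, hk] at h9
      have hper : ∀ j : ℕ, 2 ^ (2 * j + 1) % 9 = [2, 8, 5].getD (j % 3) 0 := by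
        intro j
        rw [← Nat.mod_add_div j 3]
        rw [show 2 * (j % 3 + 3 * (j / 3)) + 1 = (2 * (j % 3) + 1) + 6 * (j / 3) by ring, pow_add,
          pow_mul, Nat.mul_mod, Nat.pow_mod]
        have := Nat.mod_lt j (show 3 > 0 by norm_num)
        interval_cases h : j % 3 <;> simp [Nat.mul_mod, Nat.pow_mod]
      have this_1 := hper k
      have hk' : k % 3 ≠ 1 := fun h => hk3 (by omega)
      have := Nat.mod_lt k (show 3 > 0 by norm_num)
      have hcase : 2 ^ (2 * k + 1) % 9 = 2 ∨ 2 ^ (2 * k + 1) % 9 = 5 := by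
        interval_cases h : k % 3
        · exact Or.inl this_1
        · exact absurd rfl hk'
        · exact Or.inr this_1
      generalize 2 ^ (2 * k + 1) = X at hcase h9
      omega
    obtain ⟨s, hs, hsd⟩ := Nat.exists_prime_and_dvd (show (q + 1) / 3 ≠ 1 by
      intro h1
      have : q = 2 := by omega
      omega)
    have h16 : 16 ≤ q := by rw [hcard]; exact Nat.pow_le_pow_right two_pos hn4
    have hsq : s ∣ q + 1 := hsd.trans (Nat.div_dvd_of_dvd hdvd3)
    have hs3 : s ≠ 3 := by rintro rfl; exact h9 (by omega)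
    have heven : 2 ∣ q := by rw [hcard]; exact dvd_pow_self 2 (by omega)
    have hs2 : s ≠ 2 := by rintro rfl; omega
    have hsq1 : s ≠ q - 1 := by
      rintro rfl
      have h1 := Nat.dvd_sub hsq (dvd_refl (q - 1))
      rw [show q + 1 - (q - 1) = 2 by omega] at h1
      have := Nat.le_of_dvd two_pos h1
      omega
    refine h3 2 (q - 1) 3 s Nat.prime_two hprime Nat.prime_three hs ?_ ?_ ?_ ?_ (by omega)
      (by omega) (Ne.symm hs2) (by omega) (Ne.symm hsq1) (Ne.symm hs3) <;> rw [hG, hsl]
    · exact dvd_mul_of_dvd_left (dvd_mul_of_dvd_left heven _) _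
    · exact dvd_mul_of_dvd_left (dvd_mul_left _ _) _
    · exact dvd_mul_of_dvd_right hdvd3 _
    · exact dvd_mul_of_dvd_right hsq _

/-- A finite non-solvable group on which its automorphism group has exactly four orbits is isomorphic to the alternating group of degree 5. -/
theorem result {G : Type*} [Group G] [Finite G] (hns : ¬ Group.IsSolvable G)
    (h4 : Nat.card (MulAction.orbitRel.Quotient (MulAut G) G) = 4) : Nonempty (G ≃* alternatingGroup (Fin 5)) := by
  classical
  have hBurn : 3 ≤ (Nat.card G).primeFactors.card := by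
    by_contra hlt
    apply hns
    set P := (Nat.card G).primeFactors with hP
    obtain ⟨a, b, ha, hb, hsub⟩ : ∃ a b : ℕ, a.Prime ∧ b.Prime ∧ P ⊆ {a, b} := by
      rcases Nat.lt_or_ge P.card 1 with h0 | h0
      · exact ⟨2, 2, Nat.prime_two, Nat.prime_two, by
          rw [Finset.card_eq_zero.1 (show P.card = 0 by omega)]; exact Finset.empty_subset _⟩
      rcases Nat.lt_or_ge P.card 2 with h1 | h1
      · obtain ⟨a, ha⟩ := Finset.card_eq_one.1 (show P.card = 1 by omega)
        have := Nat.prime_of_mem_primeFactors (show a ∈ P by rw [ha]; simp)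
        exact ⟨a, a, this, this, by rw [ha]; simp⟩
      · obtain ⟨a, b, -, hab⟩ := Finset.card_eq_two.1 (show P.card = 2 by omega)
        exact ⟨a, b, Nat.prime_of_mem_primeFactors (show a ∈ P by rw [hab]; simp),
          Nat.prime_of_mem_primeFactors (show b ∈ P by rw [hab]; simp), hab.subset⟩
    obtain ⟨i, m, hm, him⟩ :=
      Nat.exists_eq_pow_mul_and_not_dvd (Nat.card_pos (α := G)).ne' a ha.ne_one
    have hm0 : m ≠ 0 := fun e => hm (by simp [e])
    have hmb : m = b ^ _ := Nat.eq_prime_pow_of_unique_prime_dvd hm0 fun {d} hd hdm => by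
      have hdG : d ∈ ({a, b} : Finset ℕ) := hsub (Nat.mem_primeFactors.2
        ⟨hd, him ▸ hdm.mul_left _, Nat.card_pos.ne'⟩)
      simp only [Finset.mem_insert, Finset.mem_singleton] at hdG
      rcases hdG with rfl | rfl
      · exact absurd hdm hm
      · rfl
    exact CfsgLib.Char.isSolvable_of_card_two_primes ha hb G i _ (him.trans (by rw [← hmb]))
  have hcauchy : ∀ p ∈ (Nat.card G).primeFactors, ∃ x : G, orderOf x = p := fun p hp => by
    haveI := Fact.mk (Nat.prime_of_mem_primeFactors hp)
    exact exists_prime_orderOf_dvd_card' p (Nat.dvd_of_mem_primeFactors hp)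
  have hinvar : ∀ x y : G, MulAction.orbitRel (MulAut G) G x y → orderOf x = orderOf y := by
    rintro x y ⟨α, rfl⟩
    exact MulEquiv.orderOf_eq α y
  haveI := Fintype.ofFinite (MulAction.orbitRel.Quotient (MulAut G) G)
  let f : MulAction.orbitRel.Quotient (MulAut G) G → ℕ := Quotient.lift orderOf hinvar
  set V : Finset ℕ := Finset.univ.image f with hV
  have hVcard : V.card ≤ 4 := by
    refine Finset.card_image_le.trans ?_
    rw [Finset.card_univ, ← Nat.card_eq_fintype_card, h4]
  have hVmem : ∀ x : G, orderOf x ∈ V := fun x =>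
    Finset.mem_image.2 ⟨Quotient.mk _ x, Finset.mem_univ _, rfl⟩
  have hsubV : insert 1 (Nat.card G).primeFactors ⊆ V := by
    intro p hp
    rcases Finset.mem_insert.1 hp with rfl | hp
    · rw [← orderOf_one (G := G)]; exact hVmem 1
    · obtain ⟨x, hx⟩ := hcauchy p hp
      exact hx ▸ hVmem x
  have h1not : 1 ∉ (Nat.card G).primeFactors := fun h =>
    Nat.not_prime_one (Nat.prime_of_mem_primeFactors h)
  have hins := Finset.card_insert_of_notMem h1not
  have hVeq : V = insert 1 (Nat.card G).primeFactors :=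
    (Finset.eq_of_subset_of_card_le hsubV (by omega)).symm
  have hAP : AllPrime G := fun x hx => by
    have := hVmem x
    rw [hVeq, Finset.mem_insert] at this
    rcases this with h | h
    · exact absurd (orderOf_eq_one_iff.1 h) hx
    · exact Nat.prime_of_mem_primeFactors h
  have h3 : (Nat.card G).primeFactors.card ≤ 3 := by
    have := Finset.card_le_card hsubV
    omega
  haveI : Fact (Nat.Prime 2) := ⟨Nat.prime_two⟩
  obtain ⟨T⟩ : Nonempty (Sylow 2 G) := inferInstance
  have hnc : ¬ IsCyclic (T : Subgroup G) := fun hT => hns (by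
    obtain ⟨P, N, hN, hcomp⟩ := CfsgLib.Invol.hasNormalPComplement_two_of_isCyclic T hT
    haveI := hN
    haveI : Group.IsSolvable N := isSolvable_of_odd (allPrime_subgroup hAP N) (by
      rw [Nat.odd_iff, ← Nat.not_even_iff, even_iff_two_dvd]
      intro hd
      have h1 : ¬ 2 ∣ (P : Subgroup G).index := P.not_dvd_index
      rw [hcomp.index_eq_card] at h1
      exact h1 hd)
    haveI : Group.IsSolvable (G ⧸ N) := by
      obtain ⟨k, hk⟩ := IsPGroup.iff_card.1 P.2
      haveI : Group.IsNilpotent (G ⧸ N) := (IsPGroup.of_card (p := 2) (n := k) (by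
        rw [← Subgroup.index_eq_card, hcomp.symm.index_eq_card, hk])).isNilpotent
      infer_instance
    exact solvable_of_ker_le_range N.subtype (QuotientGroup.mk' N)
      (by rw [QuotientGroup.ker_mk', Subgroup.range_subtype]))
  have hnn : ¬ (T : Subgroup G).Normal := fun hT => hns (by
    haveI := hT
    haveI : Group.IsNilpotent (T : Subgroup G) := T.2.isNilpotent
    haveI : Group.IsSolvable (G ⧸ (T : Subgroup G)) :=
      isSolvable_of_odd (allPrime_quotient hAP _) (by
        rw [Nat.odd_iff, ← Nat.not_even_iff, even_iff_two_dvd]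
        exact T.not_dvd_index)
    exact solvable_of_ker_le_range (T : Subgroup G).subtype (QuotientGroup.mk' (T : Subgroup G))
      ((QuotientGroup.ker_mk' (T : Subgroup G)).le.trans (Subgroup.range_subtype _).ge))
  obtain ⟨F, _, _, hF, ⟨e⟩⟩ := Cfsg.Agent.S1230.result T hnc hnn (fun t ht => by
    have hsq : ∀ c ∈ centralizer ({t} : Set G), c ^ 2 = 1 := fun c hc => by
      by_cases hc1 : c = 1
      · rw [hc1, one_pow]
      have := eq_orderOf_of_commute hAP (x := t) (fun e => by simp [e] at ht) hc1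
        (mem_centralizer_singleton_iff.1 hc).symm
      rw [← ht, ← this]
      exact pow_orderOf_eq_one c
    refine ⟨isMulCommutative_iff.2 fun a b => ?_, hsq⟩
    exact Commute.of_orderOf_dvd_two (fun c : centralizer ({t} : Set G) =>
      orderOf_dvd_of_pow_eq_one (Subtype.ext (hsq c c.2))) a b)
  obtain ⟨n, hn⟩ := IsPGroup.iff_card.1 T.2
  have hn2 : 2 ≤ n := by
    by_contra hlt
    apply hnc
    interval_cases n
    · haveI : Subsingleton (T : Subgroup G) := (Nat.card_eq_one_iff_unique.1 (by simpa using hn)).1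
      exact isCyclic_of_subsingleton
    · exact isCyclic_of_prime_card (p := 2) (by simpa using hn)
  have hF4 := card_eq_four hn2 (hF.trans hn) (fun y hy => by
      rw [← MulEquiv.orderOf_eq e.symm]
      exact hAP (e.symm y) fun h => hy (by rw [← e.apply_symm_apply y, h, map_one]))
    (fun p q r s hp hq hr hs dp dq dr ds pq pr ps qr qs rs => by
      rw [← Nat.card_congr e.toEquiv] at dp dq dr ds
      have hsub : ({p, q, r, s} : Finset ℕ) ⊆ (Nat.card G).primeFactors := by
        intro u hu
        simp only [Finset.mem_insert, Finset.mem_singleton] at hu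
        rcases hu with rfl | rfl | rfl | rfl
        · exact Nat.mem_primeFactors.2 ⟨hp, dp, Nat.card_pos.ne'⟩
        · exact Nat.mem_primeFactors.2 ⟨hq, dq, Nat.card_pos.ne'⟩
        · exact Nat.mem_primeFactors.2 ⟨hr, dr, Nat.card_pos.ne'⟩
        · exact Nat.mem_primeFactors.2 ⟨hs, ds, Nat.card_pos.ne'⟩
      have := Finset.card_le_card hsub
      simp [pq, pr, ps, qr, qs, rs] at this
      omega)
  obtain ⟨e2⟩ := Cfsg.Agent.S0252.result hF4
  exact ⟨e.trans e2⟩

end Cfsg.Agent.S4068
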