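import Cfsg.Statements.S4071
import Cfsg.Agent.Lib.Fusion.Abelian

set_option autoImplicit false
open Cfsg

namespace Cfsg.Agent.S4071

theorem index_prime {G : Type*} [Group G] [Finite G] (M : Subgroup G) (hM : IsCoatom M)
    (hGM : commutator G ≤ M) [M.Normal] : M.index.Prime := by
  haveI : IsMulCommutative (G ⧸ M) := Subgroup.Normal.quotient_commutative_iff_commutator_le.2 hGM
  haveI : IsSimpleGroup (G ⧸ M) := by
    haveI : Nontrivial (G ⧸ M) := by
      rw [← Finite.one_lt_card_iff_nontrivial, ← Subgroup.index_eq_card]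
      have h1 : M.index ≠ 1 := fun h => hM.1 (Subgroup.index_eq_one.1 h)
      have h2 : M.index ≠ 0 := Subgroup.index_ne_zero_of_finite
      omega
    refine ⟨fun N _ => ?_⟩
    by_cases hN : N.comap (QuotientGroup.mk' M) = M
    · refine Or.inl (Subgroup.comap_injective (QuotientGroup.mk'_surjective M) ?_)
      rw [hN, MonoidHom.comap_bot, QuotientGroup.ker_mk']
    · refine Or.inr (Subgroup.comap_injective (QuotientGroup.mk'_surjective M) ?_)
      rw [hM.2 _ (lt_of_le_of_ne (QuotientGroup.le_comap_mk' M N) (Ne.symm hN)), Subgroup.comap_top]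
  open scoped IsMulCommutative in
  rw [Subgroup.index_eq_card]
  exact IsSimpleGroup.prime_card

/-- Let G be a finite solvable non-nilpotent group. Every non-abelian subgroup of G is self-normalizing if and only if G is a semidirect product ⟨x⟩ ⋉ A in which ⟨x⟩ is a p-group for some prime p, A is a normal abelian subgroup of order prime to p, x^p is central in G, and x acts fixed-point-freely on A (no non-identity element of A commutes with x). -/
theorem result {G : Type*} [Group G] [Finite G]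
    [Group.IsSolvable G] (hnn : ¬ Group.IsNilpotent G) :
    (∀ H : Subgroup G, ¬ IsMulCommutative H → Subgroup.normalizer (H : Set G) = H) ↔
    ∃ (x : G) (A : Subgroup G) (p : ℕ), p.Prime ∧ A.Normal ∧ IsMulCommutative A ∧ (∃ k : ℕ, orderOf x = p ^ k) ∧
      ¬ p ∣ Nat.card A ∧ (Subgroup.zpowers x).IsComplement' A ∧ x ^ p ∈ Subgroup.center G ∧
      ∀ a : G, a ∈ A → a ≠ 1 → x * a * x⁻¹ ≠ a := by
  classical
  constructor
  · intro hS
    have hnormal : ∀ M : Subgroup G, M.Normal → M ≠ ⊤ → IsMulCommutative M := fun M hM hne => by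
      by_contra hab
      have h := hS M hab
      rw [Subgroup.normalizer_eq_top] at h
      exact hne h.symm
    haveI : Nontrivial G := by
      by_contra h
      haveI := not_nontrivial_iff_subsingleton.1 h
      exact hnn inferInstance
    have hlt : commutator G ≠ ⊤ := (Group.IsSolvable.commutator_lt_top_of_nontrivial G).ne
    obtain ⟨M, hM, hGM⟩ := (IsCoatomic.eq_top_or_exists_le_coatom (commutator G)).resolve_left hlt
    have hMn : M.Normal := ⟨fun m hm g => by
      have h1 : g * m * g⁻¹ * m⁻¹ ∈ M := hGM (Subgroup.commutator_mem_commutator (Subgroup.mem_top g) (Subgroup.mem_top m))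
      simpa using mul_mem h1 hm⟩
    haveI := hMn
    haveI hMab := hnormal M hMn hM.1
    have hp : M.index.Prime := index_prime M hM hGM
    set p := M.index with hpdef
    haveI := Fact.mk hp
    have hpow : ∀ g : G, g ^ p ∈ M := fun g => M.pow_index_mem g
    obtain ⟨g, hg⟩ : ∃ g, g ∉ M := by
      by_contra h; push Not at h; exact hM.1 (eq_top_iff.2 fun x _ => h x)
    -- the `p'`-part of `M`
    let A : Subgroup G :=
      { carrier := {a | a ∈ M ∧ Nat.Coprime (orderOf a) p}
        one_mem' := ⟨one_mem M, by rw [orderOf_one]; exact Nat.coprime_one_left p⟩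
        mul_mem' := fun {a b} ha hb => ⟨mul_mem ha.1 hb.1, Nat.Coprime.coprime_dvd_left
          ((show Commute a b from congrArg Subtype.val (hMab.is_comm.comm ⟨a, ha.1⟩ ⟨b, hb.1⟩)).orderOf_mul_dvd_mul_orderOf)
          (Nat.Coprime.mul_left ha.2 hb.2)⟩
        inv_mem' := fun {a} ha => ⟨inv_mem ha.1, by rw [orderOf_inv]; exact ha.2⟩ }
    haveI hAn : A.Normal := ⟨fun a ha b => ⟨hMn.conj_mem a ha.1 b, by
      rw [show orderOf (b * a * b⁻¹) = orderOf a from (MulAut.conj b).orderOf_eq a]; exact ha.2⟩⟩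
    haveI hAab : IsMulCommutative A := ⟨⟨fun a b => Subtype.ext
      (show (a : G) * b = b * a from congrArg Subtype.val (hMab.is_comm.comm ⟨a, a.2.1⟩ ⟨b, b.2.1⟩))⟩⟩
    have hAco : ¬ p ∣ Nat.card A := fun hd => by
      obtain ⟨a, ha⟩ := exists_prime_orderOf_dvd_card' p hd
      have h := a.2.2
      rw [Subgroup.orderOf_coe, ha, Nat.coprime_self] at h
      exact hp.ne_one h
    have hmA : ∀ m ∈ M, ∃ k, m ^ p ^ k ∈ A := fun m hm => ⟨(orderOf m).factorization p, pow_mem hm _, by
      rw [orderOf_pow_of_dvd (pow_ne_zero _ hp.ne_zero) (Nat.ordProj_dvd _ _)]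
      exact (Nat.coprime_ordCompl hp (orderOf_pos m).ne').symm⟩
    have hidx : ∃ k, A.index = p ^ k := by
      rw [Subgroup.index_eq_card]
      refine IsPGroup.exists_card_eq (p := p) fun v => ?_
      obtain ⟨b, rfl⟩ := QuotientGroup.mk'_surjective A v
      obtain ⟨k, hk⟩ := hmA _ (hpow b)
      exact ⟨k + 1, by rw [← map_pow, pow_succ', pow_mul]; exact (QuotientGroup.eq_one_iff _).2 hk⟩
    -- a `p`-element outside `M`
    set c := orderOf g / p ^ (orderOf g).factorization p with hc
    have hpc : ¬ p ∣ c := Nat.not_dvd_ordCompl hp (orderOf_pos g).ne'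
    set x := g ^ c with hx
    have hxo : ∃ k, orderOf x = p ^ k := by
      refine ⟨(orderOf g).factorization p, ?_⟩
      rw [hx, orderOf_pow_of_dvd (fun h => hpc (by rw [hc, h]; exact dvd_zero p)) (Nat.div_dvd_of_dvd (Nat.ordProj_dvd _ _)),
        Nat.div_div_self (Nat.ordProj_dvd _ _) (orderOf_pos g).ne']
    have hxM : x ∉ M := by
      intro h
      refine hg ((QuotientGroup.eq_one_iff g).1 (orderOf_eq_one_iff.1 ?_))
      refine Nat.eq_one_of_dvd_coprimes ((hp.coprime_iff_not_dvd).2 hpc).symm (orderOf_dvd_of_pow_eq_one ?_) ?_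
      · rw [← QuotientGroup.mk_pow]; exact (QuotientGroup.eq_one_iff _).2 h
      · rw [hpdef, Subgroup.index_eq_card]; exact orderOf_dvd_natCard _
    have htop : M ⊔ Subgroup.zpowers x = ⊤ :=
      hM.2 _ (left_lt_sup.2 fun h => hxM (h (Subgroup.mem_zpowers x)))
    -- `x` moves `A`
    have hmove : ∃ a ∈ A, x * a * x⁻¹ ≠ a := by
      by_contra hcon
      push Not at hcon
      refine hnn ?_
      have hAc : A ≤ Subgroup.center G := fun a ha => by
        rw [Subgroup.mem_center_iff]
        intro b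
        have hle : M ⊔ Subgroup.zpowers x ≤ Subgroup.centralizer ({a} : Set G) := sup_le
          (fun m hm => Subgroup.mem_centralizer_singleton_iff.2
            (congrArg Subtype.val (hMab.is_comm.comm ⟨m, hm⟩ ⟨a, ha.1⟩)))
          (Subgroup.zpowers_le.2 (Subgroup.mem_centralizer_singleton_iff.2 (mul_inv_eq_iff_eq_mul.1 (hcon a ha))))
        exact Subgroup.mem_centralizer_singleton_iff.1 (hle (htop ▸ Subgroup.mem_top b))
      obtain ⟨k, hk⟩ := hidx
      have hq : IsPGroup p (G ⧸ A) := IsPGroup.of_card (by rw [← Subgroup.index_eq_card, hk])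
      haveI := hq.isNilpotent
      exact Subgroup.isNilpotent_of_ker_le_center (QuotientGroup.mk' A) (by rwa [QuotientGroup.ker_mk'])
    obtain ⟨a₀, ha₀, ha₀x⟩ := hmove
    have hnab : ∀ H : Subgroup G, x ∈ H → a₀ ∈ H → ¬ IsMulCommutative H := fun H hx' ha' hab =>
      ha₀x (mul_inv_eq_iff_eq_mul.2 (congrArg Subtype.val (hab.is_comm.comm ⟨x, hx'⟩ ⟨a₀, ha'⟩)))
    -- the Sylow subgroup is generated by `x`
    obtain ⟨k, hk⟩ := hxo
    obtain ⟨P, hP⟩ := (IsPGroup.of_card ((Nat.card_zpowers x).trans hk) : IsPGroup p (Subgroup.zpowers x)).exists_le_sylow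
    have hPA : ∀ v ∈ (P : Subgroup G), v ∈ A → v = 1 := fun v hv hvA => by
      obtain ⟨j, hj⟩ := IsPGroup.iff_orderOf.1 P.2 ⟨v, hv⟩
      rw [← Subgroup.orderOf_coe] at hj
      exact orderOf_eq_one_iff.1 (Nat.eq_one_of_dvd_coprimes (Nat.Coprime.pow_right j hvA.2) dvd_rfl hj.dvd)
    have hPx : (P : Subgroup G) = Subgroup.zpowers x := by
      by_contra hne
      haveI := P.2.isNilpotent
      have hne' : (Subgroup.zpowers x).subgroupOf (P : Subgroup G) ≠ ⊤ := fun h =>
        hne (le_antisymm (Subgroup.subgroupOf_eq_top.1 h) hP)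
      obtain ⟨b, hb, hbx⟩ := SetLike.exists_of_lt
        (Group.normalizerCondition_of_isNilpotent _ hne'.lt_top)
      have hbH : (b : G) ∈ Subgroup.normalizer ((A ⊔ Subgroup.zpowers x : Subgroup G) : Set G) := by
        rw [Subgroup.mem_normalizer_iff_map_conj_eq, Subgroup.map_sup]
        congr 1
        · exact Subgroup.mem_normalizer_iff_map_conj_eq.1 (by rw [Subgroup.normalizer_eq_top]; exact Subgroup.mem_top _)
        · rw [← Subgroup.mem_normalizer_iff_map_conj_eq, Subgroup.mem_normalizer_iff]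
          intro v
          constructor
          · intro hv
            exact Subgroup.mem_subgroupOf.1 ((Subgroup.mem_normalizer_iff.1 hb ⟨v, hP hv⟩).1 (Subgroup.mem_subgroupOf.2 hv))
          · intro hv
            have hvP : v ∈ (P : Subgroup G) := by
              have := mul_mem (mul_mem (inv_mem b.2) (hP hv)) b.2
              simpa [mul_assoc] using this
            exact Subgroup.mem_subgroupOf.1 ((Subgroup.mem_normalizer_iff.1 hb ⟨v, hvP⟩).2 (Subgroup.mem_subgroupOf.2 hv))
      rw [hS _ (hnab _ (Subgroup.mem_sup_right (Subgroup.mem_zpowers x)) (Subgroup.mem_sup_left ha₀)),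
        Subgroup.mem_sup_of_normal_left] at hbH
      obtain ⟨a, ha, z, hz, he⟩ := hbH
      have ha1 : a = 1 := hPA a (by
        rw [show a = (b : G) * z⁻¹ by rw [← he]; group]
        exact mul_mem b.2 (inv_mem (hP hz))) ha
      rw [ha1, one_mul] at he
      exact hbx (Subgroup.mem_subgroupOf.2 (he ▸ hz))
    have hcompl : (Subgroup.zpowers x).IsComplement' A := by
      obtain ⟨j, hj⟩ := hidx
      have hcard := A.card_mul_index
      have hcop : Nat.Coprime (Nat.card A) p := ((hp.coprime_iff_not_dvd).2 hAco).symm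
      have hPc : Nat.card (P : Subgroup G) = p ^ j := by
        rw [P.card_eq_multiplicity, ← hcard, hj, Nat.factorization_mul Nat.card_pos.ne' (pow_ne_zero _ hp.ne_zero),
          Finsupp.add_apply, Nat.factorization_eq_zero_of_not_dvd hAco, zero_add, Nat.factorization_pow_self hp]
      rw [← hPx]
      refine Subgroup.isComplement'_of_coprime (by rw [hPc, mul_comm, ← hj, hcard]) ?_
      rw [hPc]
      exact (hcop.pow_right j).symm
    have hxpc : x ^ p ∈ Subgroup.center G := by
      rw [Subgroup.mem_center_iff]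
      intro b
      have hle : M ⊔ Subgroup.zpowers x ≤ Subgroup.centralizer ({x ^ p} : Set G) := sup_le
        (fun m hm => Subgroup.mem_centralizer_singleton_iff.2
          (congrArg Subtype.val (hMab.is_comm.comm ⟨m, hm⟩ ⟨x ^ p, hpow x⟩)))
        (Subgroup.zpowers_le.2 (Subgroup.mem_centralizer_singleton_iff.2 (Commute.self_pow x p).eq))
      exact Subgroup.mem_centralizer_singleton_iff.1 (hle (htop ▸ Subgroup.mem_top b))
    have hAtop : A ⊔ Subgroup.zpowers x = ⊤ := by rw [sup_comm]; exact hcompl.sup_eq_top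
    have hcopA : Nat.Coprime (Nat.card A) A.index := by
      obtain ⟨j, hj⟩ := hidx
      rw [hj]
      exact (((hp.coprime_iff_not_dvd).2 hAco).symm).pow_right j
    set B := ⁅A, (⊤ : Subgroup G)⁆ with hB
    have hBA : B ≤ A := Subgroup.commutator_le_left A ⊤
    -- `[A, G] ⟨x⟩` is normal, hence everything
    have hBx : B ⊔ Subgroup.zpowers x = ⊤ := by
      by_contra hne
      have hcomm : ∀ u v : G, u * v * u⁻¹ * v⁻¹ ∈ B := by
        intro u v
        have hgen : ∀ u v : G, QuotientGroup.mk' B u * QuotientGroup.mk' B v = QuotientGroup.mk' B v * QuotientGroup.mk' B u := by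
          have hAc : ∀ a ∈ A, ∀ w : G, Commute (QuotientGroup.mk' B a) (QuotientGroup.mk' B w) := fun a ha w => by
            rw [← commutatorElement_eq_one_iff_commute, ← map_commutatorElement]
            exact (QuotientGroup.eq_one_iff _).2 (Subgroup.commutator_mem_commutator ha (Subgroup.mem_top w))
          intro u v
          have hu : u ∈ A ⊔ Subgroup.zpowers x := hAtop ▸ Subgroup.mem_top u
          have hv : v ∈ A ⊔ Subgroup.zpowers x := hAtop ▸ Subgroup.mem_top v
          rw [Subgroup.mem_sup_of_normal_left] at hu hv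
          obtain ⟨a, ha, z, hz, rfl⟩ := hu
          obtain ⟨a', ha', z', hz', rfl⟩ := hv
          obtain ⟨i, rfl⟩ := Subgroup.mem_zpowers_iff.1 hz
          obtain ⟨i', rfl⟩ := Subgroup.mem_zpowers_iff.1 hz'
          show Commute (QuotientGroup.mk' B (a * x ^ i)) (QuotientGroup.mk' B (a' * x ^ i'))
          rw [map_mul, map_mul]
          refine ((hAc a ha a').mul_right (hAc a ha _)).mul_left ((hAc a' ha' _).symm.mul_right ?_)
          rw [map_zpow, map_zpow]
          exact Commute.zpow_zpow_self _ i i'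
        have h1 := hgen u v
        rw [← QuotientGroup.eq_one_iff]
        show QuotientGroup.mk' B _ = 1
        rw [map_mul, map_mul, map_mul, map_inv, map_inv, h1]
        group
      have hn : (B ⊔ Subgroup.zpowers x).Normal := ⟨fun v hv u => by
        simpa using mul_mem (Subgroup.mem_sup_left (hcomm u v)) hv⟩
      haveI hab := hnormal _ hn hne
      -- then `x` centralizes `[A, G]`, hence all of `A`
      have hBc : B ≤ Subgroup.center G := fun b hb => by
        rw [Subgroup.mem_center_iff]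
        intro u
        have hu : u ∈ A ⊔ Subgroup.zpowers x := hAtop ▸ Subgroup.mem_top u
        have hle : A ⊔ Subgroup.zpowers x ≤ Subgroup.centralizer ({b} : Set G) := sup_le
          (fun a ha => Subgroup.mem_centralizer_singleton_iff.2
            (congrArg Subtype.val (hAab.is_comm.comm ⟨a, ha⟩ ⟨b, hBA hb⟩)))
          (Subgroup.zpowers_le.2 (Subgroup.mem_centralizer_singleton_iff.2 (congrArg Subtype.val
            (hab.is_comm.comm ⟨x, Subgroup.mem_sup_right (Subgroup.mem_zpowers x)⟩ ⟨b, Subgroup.mem_sup_left hb⟩))))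
        exact Subgroup.mem_centralizer_singleton_iff.1 (hle hu)
      have hb1 : x * a₀ * x⁻¹ * a₀⁻¹ = 1 := by
        have hb : x * a₀ * x⁻¹ * a₀⁻¹ ∈ B := hcomm x a₀
        exact CfsgLib.Fusion.central_inf_commutator_eq_one A hcopA (hBc hb)
          (Subgroup.commutator_mono le_top le_top hb) (hBA hb)
      exact ha₀x (mul_inv_eq_one.1 hb1)
    have hAB : A ≤ B := fun a ha => by
      have h := hBx ▸ Subgroup.mem_top a
      haveI : B.Normal := inferInstance
      rw [Subgroup.mem_sup_of_normal_left] at h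
      obtain ⟨b, hb, z, hz, he⟩ := h
      have hzA : z ∈ A := by rw [show z = b⁻¹ * a by rw [← he]; group]; exact mul_mem (inv_mem (hBA hb)) ha
      rw [← he, Subgroup.disjoint_def.1 hcompl.disjoint hz hzA, mul_one]
      exact hb
    refine ⟨x, A, p, hp, hAn, hAab, ⟨k, hk⟩, hAco, hcompl, hxpc, fun a ha ha1 hxa => ha1 ?_⟩
    refine CfsgLib.Fusion.central_inf_commutator_eq_one A hcopA ?_
      (Subgroup.commutator_mono le_top le_top (hAB ha)) ha
    rw [Subgroup.mem_center_iff]
    intro u
    have hle : A ⊔ Subgroup.zpowers x ≤ Subgroup.centralizer ({a} : Set G) := sup_le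
      (fun b hb => Subgroup.mem_centralizer_singleton_iff.2 (congrArg Subtype.val (hAab.is_comm.comm ⟨b, hb⟩ ⟨a, ha⟩)))
      (Subgroup.zpowers_le.2 (Subgroup.mem_centralizer_singleton_iff.2 (mul_inv_eq_iff_eq_mul.1 hxa)))
    exact Subgroup.mem_centralizer_singleton_iff.1 (hle (hAtop ▸ Subgroup.mem_top u))
  · rintro ⟨x, A, p, hp, hAn, hAab, ⟨k, hk⟩, hAco, hcompl, hxp, hfpf⟩ H hHna
    haveI := hAn
    refine le_antisymm (fun g hg => ?_) Subgroup.le_normalizer
    have hAtop : A ⊔ Subgroup.zpowers x = ⊤ := by rw [sup_comm]; exact hcompl.sup_eq_top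
    have hdec : ∀ g : G, ∃ a ∈ A, ∃ i : ℤ, g = a * x ^ i := fun g => by
      have h := hAtop ▸ Subgroup.mem_top g
      rw [Subgroup.mem_sup_of_normal_left] at h
      obtain ⟨a, ha, z, hz, rfl⟩ := h
      obtain ⟨i, rfl⟩ := Subgroup.mem_zpowers_iff.1 hz
      exact ⟨a, ha, i, rfl⟩
    -- an element of `H` outside `A ⟨x ^ p⟩`
    obtain ⟨y, hyH, a, ha, i, rfl, hi⟩ : ∃ y ∈ H, ∃ a ∈ A, ∃ i : ℤ, y = a * x ^ i ∧ ¬ (p : ℤ) ∣ i := by
      by_contra hcon
      push Not at hcon
      refine hHna ⟨⟨fun u v => Subtype.ext ?_⟩⟩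
      obtain ⟨a, ha, i, hu⟩ := hdec u
      obtain ⟨b, hb, j, hv⟩ := hdec v
      obtain ⟨i', rfl⟩ := hcon u u.2 a ha i hu
      obtain ⟨j', rfl⟩ := hcon v v.2 b hb j hv
      have hc : ∀ (n : ℤ) (w : G), Commute (x ^ ((p : ℤ) * n)) w := fun n w => by
        rw [zpow_mul, zpow_natCast]
        exact Commute.zpow_left (Subgroup.mem_center_iff.1 hxp w).symm n
      show (u : G) * v = v * u
      rw [hu, hv]
      have h1 : Commute a b := congrArg Subtype.val (hAab.is_comm.comm ⟨a, ha⟩ ⟨b, hb⟩)
      exact ((h1.mul_left (hc i' b)).mul_right ((hc j' _).symm))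
    -- `x ^ i` generates `⟨x⟩`
    obtain ⟨u, v, huv⟩ : ∃ u v : ℤ, i * u + (p : ℤ) ^ k * v = 1 := by
      have hcop : IsCoprime i ((p : ℤ) ^ k) := by
        refine IsCoprime.pow_right ?_
        rw [Int.isCoprime_iff_gcd_eq_one]
        rcases (Nat.dvd_prime hp).1 (Int.natCast_dvd_natCast.1 (Int.gcd_dvd_right i p)) with h | h
        · exact h
        · exact absurd (h ▸ Int.gcd_dvd_left i p) hi
      obtain ⟨u, v, huv⟩ := hcop
      exact ⟨u, v, by linarith⟩
    have hxi : x = (x ^ i) ^ u := by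
      rw [← zpow_mul]
      conv_lhs => rw [← zpow_one x, ← huv, zpow_add, zpow_mul x ((p : ℤ) ^ k), ← Nat.cast_pow, zpow_natCast,
        ← hk, pow_orderOf_eq_one, one_zpow, mul_one]
    -- `[A, H] ≤ A ∩ H` and `x` stabilizes it
    set y := a * x ^ i with hy
    have hgA : ∀ g : G, ∃ b ∈ A, ∃ h ∈ H, g = b * h := by
      intro g
      obtain ⟨b, hb, j, rfl⟩ := hdec g
      obtain ⟨c, hc, l, hl⟩ := hdec (y ^ (u * j))
      refine ⟨b * x ^ j * (y ^ (u * j))⁻¹, ?_, _, zpow_mem hyH (u * j), by group⟩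
      have hmod : QuotientGroup.mk' A (y ^ (u * j)) = QuotientGroup.mk' A (x ^ j) := by
        rw [map_zpow, map_mul, show QuotientGroup.mk' A a = 1 from (QuotientGroup.eq_one_iff a).2 ha,
          one_mul, map_zpow]
        conv_rhs => rw [hxi, ← zpow_mul, ← zpow_mul, map_zpow]
        rw [← zpow_mul]
      rw [← QuotientGroup.eq_one_iff]
      show QuotientGroup.mk' A _ = 1
      rw [map_mul, map_mul, map_inv, hmod, show QuotientGroup.mk' A b = 1 from (QuotientGroup.eq_one_iff b).2 hb]
      group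
    obtain ⟨b, hb, h, hh, rfl⟩ := hgA g
    have hbN : b ∈ Subgroup.normalizer (H : Set G) :=
      (Subgroup.mul_mem_cancel_right _ (Subgroup.le_normalizer hh)).1 hg
    -- `v ↦ [v, y]` is a bijection of `A ∩ H` and injective on `A`
    let φ : A → A := fun w => ⟨(w : G) * y * (w : G)⁻¹ * y⁻¹, by
      have := mul_mem w.2 (hAn.conj_mem _ (inv_mem w.2) y)
      simpa [mul_assoc] using this⟩
    have hyfix : ∀ w ∈ A, y * w * y⁻¹ = w → w = 1 := by
      intro w hw he
      by_contra hne
      refine hfpf w hw hne ?_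
      have h1 : Commute (x ^ i) w := by
        have haw : Commute a (x ^ i * w * (x ^ i)⁻¹) := congrArg Subtype.val
          (hAab.is_comm.comm ⟨a, ha⟩ ⟨_, hAn.conj_mem w hw (x ^ i)⟩)
        refine mul_inv_eq_iff_eq_mul.1 ?_
        calc x ^ i * w * (x ^ i)⁻¹ = a * (x ^ i * w * (x ^ i)⁻¹) * a⁻¹ := by rw [haw.eq]; group
          _ = y * w * y⁻¹ := by rw [hy]; group
          _ = w := he
      have h2 := h1.zpow_left u
      rw [← hxi] at h2
      rw [h2.eq, mul_inv_cancel_right]
    have hφ : Function.Injective φ := fun w w' e => by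
      have e' : (w : G) * y * (w : G)⁻¹ * y⁻¹ = (w' : G) * y * (w' : G)⁻¹ * y⁻¹ := congrArg Subtype.val e
      refine Subtype.ext (inv_mul_eq_one.1 (hyfix _ (mul_mem (inv_mem w.2) w'.2) ?_))
      calc y * ((w : G)⁻¹ * w') * y⁻¹ = (w : G)⁻¹ * ((w : G) * y * (w : G)⁻¹ * y⁻¹) * (y * w' * y⁻¹) := by group
        _ = (w : G)⁻¹ * w' := by rw [e']; group
    let ψ : {w : A // (w : G) ∈ H} → {w : A // (w : G) ∈ H} := fun w =>
      ⟨φ w.1, mul_mem (mul_mem (mul_mem w.2 hyH) (inv_mem w.2)) (inv_mem hyH)⟩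
    have hψ : Function.Surjective ψ := Finite.surjective_of_injective fun w w' e =>
      Subtype.ext (hφ (congrArg Subtype.val e))
    have hbH : (φ ⟨b, hb⟩ : G) ∈ H :=
      mul_mem ((Subgroup.mem_normalizer_iff.1 hbN y).1 hyH) (inv_mem hyH)
    obtain ⟨w, hw⟩ := hψ ⟨_, hbH⟩
    have hwb : w.1 = ⟨b, hb⟩ := hφ (congrArg Subtype.val hw)
    exact mul_mem (by have := w.2; rwa [hwb] at this) hh

end Cfsg.Agent.S4071
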