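import Cfsg.Agent.Lib.Fusion.AlperinTame
import Cfsg.Agent.Lib.Fusion.PComplement
-- under Cfsg/Agent/.
import Cfsg.Statements.S4251
-- import your own Cfsg.Agent.* helpers here

set_option autoImplicit false
open Cfsg

namespace Cfsg.Agent.S4251

/-- Let P be a Sylow p-subgroup of a finite group G. Call an intersection H = P ∩ Q with a Sylow p-subgroup Q tame when N_P(H) and N_Q(H) are Sylow p-subgroups of N_G(H). If N_G(H)/C_G(H) is a p-group for every nontrivial tame intersection H = P ∩ Q, then G has a normal p-complement. -/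
theorem result {G : Type*} [Group G] [Finite G] (p : ℕ) [Fact p.Prime] (P : Sylow p G)
    (h : ∀ Q : Sylow p G, (P : Subgroup G) ⊓ (Q : Subgroup G) ≠ ⊥ → (¬ p ∣ ((P : Subgroup G) ⊓ Subgroup.normalizer (((P : Subgroup G) ⊓ (Q : Subgroup G) : Subgroup G) : Set G)).relIndex (Subgroup.normalizer (((P : Subgroup G) ⊓ (Q : Subgroup G) : Subgroup G) : Set G)) ∧ ¬ p ∣ ((Q : Subgroup G) ⊓ Subgroup.normalizer (((P : Subgroup G) ⊓ (Q : Subgroup G) : Subgroup G) : Set G)).relIndex (Subgroup.normalizer (((P : Subgroup G) ⊓ (Q : Subgroup G) : Subgroup G) : Set G))) →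
      IsPGroup p (Subgroup.normalizer (((P : Subgroup G) ⊓ (Q : Subgroup G) : Subgroup G) : Set G) ⧸
        (Subgroup.centralizer (((P : Subgroup G) ⊓ (Q : Subgroup G) : Subgroup G) : Set G)).subgroupOf
          (Subgroup.normalizer (((P : Subgroup G) ⊓ (Q : Subgroup G) : Subgroup G) : Set G)))) :
    Cfsg.HasNormalPComplement p G := by
  classical
  have step : ∀ (Q : Sylow p G), CfsgLib.Fusion.Tame P Q → ∀ x ∈ Subgroup.normalizer (((P : Subgroup G) ⊓ (Q : Subgroup G) : Subgroup G) : Set G),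
      ∀ a ∈ (P : Subgroup G) ⊓ (Q : Subgroup G), ∃ u ∈ (P : Subgroup G), u * a * u⁻¹ = x⁻¹ * a * x := by
    intro Q hT x hx a ha
    set D := (P : Subgroup G) ⊓ (Q : Subgroup G) with hD
    by_cases hbot : D = ⊥
    · rw [hbot, Subgroup.mem_bot] at ha
      exact ⟨1, one_mem _, by rw [ha]; group⟩
    set N := Subgroup.normalizer (D : Set G) with hN
    set C := (Subgroup.centralizer (D : Set G)).subgroupOf N with hC
    haveI : C.Normal := by rw [hC, hN]; infer_instance
    have hp := h Q hbot hT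
    set π := QuotientGroup.mk' C
    have hall : ((P : Subgroup G).subgroupOf N).map π = ⊤ := by
      rw [← Subgroup.index_eq_one]
      obtain ⟨k, hk⟩ := hp.index (((P : Subgroup G).subgroupOf N).map π)
      rcases k with _ | k
      · exact hk.trans (pow_zero p)
      · exfalso
        have h1 := hT.1
        rw [Subgroup.inf_relIndex_right, Subgroup.relIndex] at h1
        exact h1 (((dvd_pow_self p (Nat.succ_ne_zero k)).trans hk.symm.dvd).trans
          (Subgroup.index_map_dvd _ (QuotientGroup.mk'_surjective C)))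
    obtain ⟨s, hs, he⟩ : π ⟨x, hx⟩ ∈ ((P : Subgroup G).subgroupOf N).map π := hall ▸ Subgroup.mem_top _
    have hc : ((⟨x, hx⟩ : N) * s⁻¹) ∈ C := (QuotientGroup.eq_one_iff _).1 (by
      show π ((⟨x, hx⟩ : N) * s⁻¹) = 1
      rw [map_mul, map_inv, he, mul_inv_cancel])
    have hc' : a * (x * (s : G)⁻¹) = x * (s : G)⁻¹ * a :=
      Subgroup.mem_centralizer_iff.1 (Subgroup.mem_subgroupOf.1 hc) a ha
    refine ⟨(s : G)⁻¹, inv_mem (Subgroup.mem_subgroupOf.1 hs), ?_⟩
    calc (s : G)⁻¹ * a * (s : G)⁻¹⁻¹ = x⁻¹ * (x * (s : G)⁻¹ * a) * s := by group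
      _ = x⁻¹ * (a * (x * (s : G)⁻¹)) * s := by rw [hc']
      _ = x⁻¹ * a * x := by group
  have chain : ∀ {D : Subgroup G} {g : G}, CfsgLib.Fusion.TameChain P D g →
      ∀ a ∈ D, ∃ u ∈ (P : Subgroup G), u * a * u⁻¹ = g⁻¹ * a * g := by
    intro D g hch
    induction hch with
    | nil D => exact fun a _ => ⟨1, one_mem _, by group⟩
    | @cons D g Q x hT hx hD _ ih =>
      intro a ha
      obtain ⟨u, hu, he⟩ := step Q hT x hx a (hD ha)
      obtain ⟨v, hv, hev⟩ := ih (x⁻¹ * a * x) ⟨a, ha, by simp [mul_assoc]⟩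
      refine ⟨v * u, mul_mem hv hu, ?_⟩
      rw [show v * u * a * (v * u)⁻¹ = v * (u * a * u⁻¹) * v⁻¹ by group, he, hev]
      group
  refine CfsgLib.Fusion.hasNormalPComplement_of_noExtraFusion P fun x hx y hy ⟨g, hg⟩ => ?_
  obtain ⟨D, hxD, hch⟩ := CfsgLib.Fusion.exists_tameChain P {x} g⁻¹ (Set.singleton_subset_iff.2 hx)
    (by rintro _ ⟨a, ha, rfl⟩; rw [Set.mem_singleton_iff] at ha; subst ha; show g⁻¹⁻¹ * a * g⁻¹ ∈ _; rw [inv_inv, hg]; exact hy)
  obtain ⟨u, hu, he⟩ := chain hch x (hxD (Set.mem_singleton x))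
  exact ⟨u, hu, by rw [he, inv_inv, hg]⟩

end Cfsg.Agent.S4251
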