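import Cfsg.Statements.S4072
import Cfsg.Agent.S4226
import Cfsg.Agent.S4251
import Cfsg.Agent.Lib.Fusion.Abelian
import Cfsg.Agent.Lib.Fusion.Transfer
import Cfsg.Agent.Lib.Fusion.Residual
import Cfsg.Agent.Lib.Coprime.PGroupFrattini

set_option autoImplicit false
open Cfsg

namespace Cfsg.Agent.S4072

open Subgroup in
/-- The centre of a minimal non-abelian `p`-group has index `p²`. -/
theorem center_index_sq {Q : Type*} [Group Q] [Finite Q] {p : ℕ} [Fact p.Prime] (hQ : IsPGroup p Q)
    (hna : ¬ IsMulCommutative Q) (hab : ∀ A : Subgroup Q, A ≠ ⊤ → IsMulCommutative A) :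
    (center Q).index = p ^ 2 := by
  classical
  have hcomm : ∀ A : Subgroup Q, A ≠ ⊤ → ∀ a ∈ A, ∀ b ∈ A, a * b = b * a := fun A hA a ha b hb =>
    congrArg Subtype.val ((hab A hA).is_comm.comm ⟨a, ha⟩ ⟨b, hb⟩)
  have hne : (⊥ : Subgroup Q) ≠ ⊤ := fun h => hna ⟨⟨fun a b => by
    rw [show a = 1 from mem_bot.1 (h ▸ mem_top a), one_mul, mul_one]⟩⟩
  obtain ⟨A, hA, -⟩ := (IsCoatomic.eq_top_or_exists_le_coatom (⊥ : Subgroup Q)).resolve_left hne
  obtain ⟨x, hx⟩ : ∃ x, x ∉ A := by
    by_contra h; push Not at h; exact hA.1 (eq_top_iff.2 fun x _ => h x)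
  have hzx : zpowers x ≠ ⊤ := fun h => hna ⟨⟨fun a b => by
    obtain ⟨i, rfl⟩ := mem_zpowers_iff.1 (h ▸ mem_top a : a ∈ zpowers x)
    obtain ⟨j, rfl⟩ := mem_zpowers_iff.1 (h ▸ mem_top b : b ∈ zpowers x)
    rw [← zpow_add, ← zpow_add, add_comm]⟩⟩
  obtain ⟨B, hB, hxB⟩ := (IsCoatomic.eq_top_or_exists_le_coatom (zpowers x)).resolve_left hzx
  have hAB : A ⊔ B = ⊤ := hA.2 _ (left_lt_sup.2 fun h => hx (h (hxB (mem_zpowers x))))
  have hsub : A ⊓ B ≤ center Q := by
    intro z hz
    rw [mem_center_iff]
    intro g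
    have hg : g ∈ centralizer ({z} : Set Q) := by
      have hle : A ⊔ B ≤ centralizer ({z} : Set Q) := sup_le
        (fun a ha => mem_centralizer_singleton_iff.2 (hcomm A hA.1 a ha z hz.1))
        (fun a ha => mem_centralizer_singleton_iff.2 (hcomm B hB.1 a ha z hz.2))
      exact hle (hAB ▸ mem_top g)
    exact mem_centralizer_singleton_iff.1 hg
  obtain ⟨-, hiA⟩ := CfsgLib.Coprime.coatom_data_of_pGroup hQ hA
  obtain ⟨-, hiB⟩ := CfsgLib.Coprime.coatom_data_of_pGroup hQ hB
  obtain ⟨k, hk⟩ := hQ.index (center Q)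
  have hle : (center Q).index ≤ p * p :=
    (Nat.le_of_dvd (Nat.pos_of_ne_zero index_ne_zero_of_finite) (index_dvd_of_le hsub)).trans
      ((index_inf_le (H := A) (K := B)).trans_eq (by rw [hiA, hiB]))
  have hp := (Fact.out : p.Prime).one_lt
  have hk2 : k ≤ 2 := by
    rw [hk, ← sq] at hle
    exact (Nat.pow_le_pow_iff_right hp).1 hle
  interval_cases k
  · exfalso
    exact hna ⟨⟨fun a b => (mem_center_iff.1 (index_eq_one.1 (hk.trans (pow_zero p)) ▸ mem_top b) a)⟩⟩
  · exfalso
    haveI : IsCyclic (Q ⧸ center Q) := isCyclic_of_prime_card (by rw [← index_eq_card, hk, pow_one])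
    exact hna ⟨⟨commutative_of_cyclic_center_quotient (QuotientGroup.mk' (center Q))
      (by rw [QuotientGroup.ker_mk'])⟩⟩
  · exact hk

/-- A finite group in which every non-abelian subgroup is self-normalizing is solvable or simple. -/
theorem result {G : Type*} [Group G] [Finite G] (hS : ∀ H : Subgroup G, ¬ IsMulCommutative H → Subgroup.normalizer (H : Set G) = H) :
    Group.IsSolvable G ∨ IsSimpleGroup G := by
  classical
  by_contra hcon
  push Not at hcon
  obtain ⟨hns, hnsimp⟩ := hcon
  haveI : Nontrivial G := by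
    by_contra h
    haveI := not_nontrivial_iff_subsingleton.1 h
    exact hns inferInstance
  have hnorm : ∀ H : Subgroup G, ¬ IsMulCommutative H → ∀ g ∈ Subgroup.normalizer (H : Set G), g ∈ H :=
    fun H hH g hg => (hS H hH) ▸ hg
  -- proper normal subgroups are abelian
  have hnormal : ∀ M : Subgroup G, M.Normal → M ≠ ⊤ → IsMulCommutative M := fun M hM hne => by
    by_contra hab
    have h := hS M hab
    rw [Subgroup.normalizer_eq_top] at h
    exact hne h.symm
  have hsolab : ∀ M : Subgroup G, IsMulCommutative M → Group.IsSolvable M := fun M h =>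
    Group.isSolvable_of_comm fun a b => h.is_comm.comm a b
  obtain ⟨N, hN, hNmax⟩ : ∃ N : Subgroup G, (N.Normal ∧ N ≠ ⊤) ∧
      ∀ M : Subgroup G, M.Normal ∧ M ≠ ⊤ → N ≤ M → M = N := by
    obtain ⟨N, hN, hmax⟩ := (Set.toFinite {M : Subgroup G | M.Normal ∧ M ≠ ⊤}).exists_maximal
      ⟨⊥, inferInstance, bot_ne_top⟩
    exact ⟨N, hN, fun M hM hle => le_antisymm (hmax hM hle) hle⟩
  haveI := hN.1
  haveI hNab := hnormal N hN.1 hN.2
  haveI := hsolab N hNab
  have hperf : commutator G = ⊤ := by
    by_contra h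
    haveI := hsolab _ (hnormal (commutator G) inferInstance h)
    exact hns (Group.isSolvable_of_ker_le_range (commutator G).subtype (Abelianization.of (G := G))
      (by rw [Abelianization.ker_of, Subgroup.range_subtype]))
  haveI hsimple : IsSimpleGroup (G ⧸ N) := by
    haveI : Nontrivial (G ⧸ N) := by
      rw [← Finite.one_lt_card_iff_nontrivial, ← Subgroup.index_eq_card]
      have h1 : N.index ≠ 1 := fun h => hN.2 (Subgroup.index_eq_one.1 h)
      have h2 : N.index ≠ 0 := Subgroup.index_ne_zero_of_finite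
      omega
    refine ⟨fun M hM => ?_⟩
    by_cases hMt : M.comap (QuotientGroup.mk' N) = ⊤
    · exact Or.inr (Subgroup.comap_injective (QuotientGroup.mk'_surjective N) (hMt.trans (Subgroup.comap_top _).symm))
    · refine Or.inl (Subgroup.comap_injective (QuotientGroup.mk'_surjective N) ?_)
      rw [hNmax _ ⟨hM.comap _, hMt⟩ (QuotientGroup.le_comap_mk' N M), MonoidHom.comap_bot, QuotientGroup.ker_mk']
  -- `N` is central
  have hNc : N ≤ Subgroup.center G := by
    set C := Subgroup.centralizer (N : Set G) with hC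
    have hNC : N ≤ C := fun a ha => Subgroup.mem_centralizer_iff.2 fun b hb =>
      congrArg Subtype.val (hNab.is_comm.comm ⟨b, hb⟩ ⟨a, ha⟩)
    by_cases hCt : C = ⊤
    · intro a ha
      rw [Subgroup.mem_center_iff]
      intro g
      exact (Subgroup.mem_centralizer_iff.1 (hCt ▸ Subgroup.mem_top g : g ∈ C) a ha).symm
    exfalso
    have hCN : C = N := hNmax C ⟨inferInstance, hCt⟩ hNC
    obtain ⟨r, hr, hrd⟩ := Nat.exists_prime_and_dvd
      (show Nat.card (G ⧸ N) ≠ 1 from (Finite.one_lt_card_iff_nontrivial.2 inferInstance).ne')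
    haveI := Fact.mk hr
    obtain ⟨R⟩ : Nonempty (Sylow r (G ⧸ N)) := inferInstance
    haveI : Nontrivial (R : Subgroup (G ⧸ N)) :=
      (Subgroup.nontrivial_iff_ne_bot _).2 (R.ne_bot_of_dvd_card hrd)
    obtain ⟨z, hzr⟩ := exists_prime_orderOf_dvd_card' (G := Subgroup.center (R : Subgroup (G ⧸ N))) r
      (by
        haveI := R.2.center_nontrivial
        obtain ⟨k, hk⟩ := (R.2.to_subgroup (Subgroup.center _)).exists_card_eq
        rcases k with _ | k
        · rw [pow_zero] at hk
          have := Finite.one_lt_card_iff_nontrivial.2 (inferInstance : Nontrivial (Subgroup.center (R : Subgroup (G ⧸ N))))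
          omega
        · exact hk ▸ dvd_pow_self r (Nat.succ_ne_zero k))
    set w : G ⧸ N := ((z : (R : Subgroup (G ⧸ N))) : G ⧸ N) with hw
    have hw1 : w ≠ 1 := fun h => by
      rw [show z = 1 from Subtype.ext (Subtype.ext h), orderOf_one] at hzr
      exact hr.ne_one hzr.symm
    set X := (Subgroup.zpowers w).comap (QuotientGroup.mk' N) with hX
    have hXna : ¬ IsMulCommutative X := fun hab => by
      obtain ⟨g, hg⟩ := QuotientGroup.mk'_surjective N w
      have hgX : g ∈ X := by rw [hX, Subgroup.mem_comap, hg]; exact Subgroup.mem_zpowers w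
      have hgC : g ∈ C := Subgroup.mem_centralizer_iff.2 fun b hb =>
        congrArg Subtype.val (hab.is_comm.comm ⟨b, QuotientGroup.le_comap_mk' N _ hb⟩ ⟨g, hgX⟩)
      rw [hCN] at hgC
      exact hw1 (hg ▸ (QuotientGroup.eq_one_iff g).2 hgC)
    have hNw : Subgroup.normalizer (Subgroup.zpowers w : Set (G ⧸ N)) ≤ Subgroup.zpowers w := by
      intro v hv
      obtain ⟨g, rfl⟩ := QuotientGroup.mk'_surjective N v
      refine hnorm X hXna g (Subgroup.mem_normalizer_iff.2 fun b => ?_)
      rw [hX, Subgroup.mem_comap, Subgroup.mem_comap, map_mul, map_mul, map_inv]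
      exact Subgroup.mem_normalizer_iff.1 hv _
    have hRw : (R : Subgroup (G ⧸ N)) ≤ Subgroup.zpowers w := fun v hv => by
      refine hNw (Subgroup.mem_normalizer_iff.2 fun b => ?_)
      have hvw : v * w = w * v := congrArg Subtype.val (Subgroup.mem_center_iff.1 z.2 ⟨v, hv⟩)
      constructor
      · intro hb
        obtain ⟨i, rfl⟩ := Subgroup.mem_zpowers_iff.1 hb
        rw [(show Commute v w from hvw).zpow_right i |>.eq, mul_inv_cancel_right]
        exact Subgroup.zpow_mem _ (Subgroup.mem_zpowers w) i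
      · intro hb
        obtain ⟨i, hi⟩ := Subgroup.mem_zpowers_iff.1 hb
        refine Subgroup.mem_zpowers_iff.2 ⟨i, ?_⟩
        rw [show b = v⁻¹ * (v * b * v⁻¹) * v by group, ← hi, mul_assoc,
          ((show Commute v w from hvw).zpow_right i).symm.eq, inv_mul_cancel_left]
    have heq : (R : Subgroup (G ⧸ N)) = Subgroup.zpowers w :=
      le_antisymm hRw (Subgroup.zpowers_le.2 (z : (R : Subgroup (G ⧸ N))).2)
    obtain ⟨R', K, hKn, hK⟩ := CfsgLib.Fusion.hasNormalPComplement_of_normalizer_le_centralizer R (by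
      intro v hv
      rw [heq] at hv ⊢
      obtain ⟨i, rfl⟩ := Subgroup.mem_zpowers_iff.1 (hNw hv)
      refine Subgroup.mem_centralizer_iff.2 fun b hb => ?_
      obtain ⟨j, rfl⟩ := Subgroup.mem_zpowers_iff.1 hb
      rw [← zpow_add, ← zpow_add, add_comm])
    rcases hKn.eq_bot_or_eq_top with h | h
    · subst h
      have hR' : (R' : Subgroup (G ⧸ N)) = ⊤ := Subgroup.isComplement'_bot_left.1 hK
      haveI := R'.2.isNilpotent
      haveI : Group.IsSolvable (G ⧸ N) := by
        haveI : Group.IsSolvable (⊤ : Subgroup (G ⧸ N)) := hR' ▸ (inferInstance : Group.IsSolvable (R' : Subgroup (G ⧸ N)))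
        exact Group.isSolvable_of_surjective (f := (Subgroup.topEquiv : (⊤ : Subgroup (G ⧸ N)) ≃* (G ⧸ N)).toMonoidHom) (Subgroup.topEquiv : (⊤ : Subgroup (G ⧸ N)) ≃* (G ⧸ N)).surjective
      exact hns (Group.isSolvable_of_ker_le_range N.subtype (QuotientGroup.mk' N)
        (by rw [QuotientGroup.ker_mk', Subgroup.range_subtype]))
    · subst h
      exact R'.ne_bot_of_dvd_card hrd (Subgroup.isComplement'_top_left.1 hK)
  -- so some Sylow subgroup is minimal non-abelian
  have hN1 : N ≠ ⊥ := by
    intro h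
    refine hnsimp ⟨fun M hM => ?_⟩
    subst h
    by_cases hMt : M = ⊤
    · exact Or.inr hMt
    · exact Or.inl (hNmax M ⟨hM, hMt⟩ bot_le)
  obtain ⟨q, hq, hqN⟩ := Nat.exists_prime_and_dvd (fun h => hN1 (Subgroup.card_eq_one.1 h) : Nat.card N ≠ 1)
  haveI := Fact.mk hq
  obtain ⟨a, ha⟩ := exists_prime_orderOf_dvd_card' q hqN
  obtain ⟨P, hP⟩ := (IsPGroup.of_card (n := 1) (by rw [Nat.card_zpowers, Subgroup.orderOf_coe, ha, pow_one]) :
    IsPGroup q (Subgroup.zpowers (a : G))).exists_le_sylow
  have hPna : ¬ IsMulCommutative (P : Subgroup G) := fun hab => by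
    haveI := hab
    have h1 := CfsgLib.Fusion.central_inf_commutator_eq_one (P : Subgroup G)
      (P.2.exists_card_eq.elim fun k hk => hk ▸ ((hq.coprime_iff_not_dvd).2 P.not_dvd_index).pow_left k)
      (hNc a.2) (hperf ▸ Subgroup.mem_top _) (hP (Subgroup.mem_zpowers (a : G)))
    rw [show a = 1 from Subtype.ext h1, orderOf_one] at ha
    exact hq.ne_one ha.symm
  have hsub : ∀ H : Subgroup G, H ≤ (P : Subgroup G) → H ≠ (P : Subgroup G) → IsMulCommutative H := by
    intro H hle hne
    by_contra hab
    haveI := P.2.isNilpotent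
    have hne' : H.subgroupOf (P : Subgroup G) ≠ ⊤ := fun h => hne (le_antisymm hle (Subgroup.subgroupOf_eq_top.1 h))
    obtain ⟨g, hg, hgH⟩ := SetLike.exists_of_lt
      (Group.normalizerCondition_of_isNilpotent (H.subgroupOf (P : Subgroup G)) hne'.lt_top)
    refine hgH (Subgroup.mem_subgroupOf.2 (hnorm H hab g (Subgroup.mem_normalizer_iff.2 fun b => ?_)))
    constructor
    · intro hb
      exact Subgroup.mem_subgroupOf.1 ((Subgroup.mem_normalizer_iff.1 hg ⟨b, hle hb⟩).1 (Subgroup.mem_subgroupOf.2 hb))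
    · intro hb
      have hbP : b ∈ (P : Subgroup G) := by
        have := mul_mem (mul_mem (inv_mem g.2) (hle hb)) g.2
        simpa [mul_assoc] using this
      exact Subgroup.mem_subgroupOf.1 ((Subgroup.mem_normalizer_iff.1 hg ⟨b, hbP⟩).2 (Subgroup.mem_subgroupOf.2 hb))
  have habP : ∀ A : Subgroup (P : Subgroup G), A ≠ ⊤ → IsMulCommutative A := by
    intro A hA
    have hne : A.map (P : Subgroup G).subtype ≠ (P : Subgroup G) := fun h => hA (by
      apply Subgroup.map_injective (P : Subgroup G).subtype_injective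
      rw [h, ← MonoidHom.range_eq_map, Subgroup.range_subtype])
    have hab' := hsub _ (Subgroup.map_subtype_le A) hne
    refine ⟨⟨fun x y => ?_⟩⟩
    have h := congrArg Subtype.val
      (hab'.is_comm.comm (⟨_, Subgroup.mem_map_of_mem _ x.2⟩ : A.map (P : Subgroup G).subtype)
        ⟨_, Subgroup.mem_map_of_mem _ y.2⟩)
    apply Subtype.ext
    apply Subtype.ext
    simpa using h
  have hidx := center_index_sq P.2 hPna habP
  have hself : Subgroup.normalizer ((P : Subgroup G) : Set G) = P := hS _ hPna
  have hPne : (P : Subgroup G) ≠ ⊥ := fun h => hPna (by rw [h]; infer_instance)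
  by_cases hq2 : q = 2
  · subst hq2
    -- no fusion beyond the Sylow subgroup
    obtain ⟨R, K, hKn, hK⟩ := Cfsg.Agent.S4251.result 2 P fun Q' hne hT => by
      set D := (P : Subgroup G) ⊓ (Q' : Subgroup G) with hD
      set H := Subgroup.normalizer (D : Set G) with hH
      set C := Subgroup.centralizer (D : Set G) with hC
      by_cases hDP : D = (P : Subgroup G)
      · have hHP : H = (P : Subgroup G) := by rw [hH, hDP, hself]
        exact (hHP ▸ P.2 : IsPGroup 2 H).to_quotient _
      by_cases hHC : H ≤ C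
      · intro x
        obtain ⟨g, rfl⟩ := QuotientGroup.mk'_surjective _ x
        exact ⟨0, by rw [pow_zero, pow_one]; exact (QuotientGroup.eq_one_iff g).2 (hHC g.2)⟩
      haveI hDab := hsub D inf_le_left hDP
      have hDC : D ≤ C := fun b hb => Subgroup.mem_centralizer_iff.2 fun c hc =>
        congrArg Subtype.val (hDab.is_comm.comm ⟨c, hc⟩ ⟨b, hb⟩)
      have hCH : C ≤ H := Subgroup.centralizer_le_normalizer _
      have hCn : ∀ h ∈ H, ∀ c ∈ C, h * c * h⁻¹ ∈ C := fun h hh c hc =>
        Subgroup.mem_centralizer_iff.2 fun b hb => by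
          have h1 := Subgroup.mem_centralizer_iff.1 hc (h⁻¹ * b * h)
            ((Subgroup.mem_normalizer_iff''.1 hh b).1 hb)
          calc b * (h * c * h⁻¹) = h * ((h⁻¹ * b * h) * c) * h⁻¹ := by group
            _ = h * (c * (h⁻¹ * b * h)) * h⁻¹ := by rw [h1]
            _ = h * c * h⁻¹ * b := by group
      have hCab : IsMulCommutative C := by
        by_contra hab
        refine hHC fun h hh => hnorm C hab h (Subgroup.mem_normalizer_iff.2 fun b => ⟨hCn h hh b, fun hb => ?_⟩)
        simpa [mul_assoc] using hCn h⁻¹ (inv_mem hh) _ hb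
      have hcC : ∀ x ∈ C, ∀ y ∈ C, x * y = y * x := fun x hx y hy =>
        congrArg Subtype.val (hCab.is_comm.comm ⟨x, hx⟩ ⟨y, hy⟩)
      set T := (P : Subgroup G) ⊓ H with hTdef
      by_cases hTP : T = (P : Subgroup G)
      · -- `P` normalizes `D`
        have hPH : (P : Subgroup G) ≤ H := hTP ▸ inf_le_right
        set f := (QuotientGroup.mk' (C.subgroupOf H)).comp (Subgroup.inclusion hPH) with hf
        have hker : ∀ x : (P : Subgroup G), x ∈ f.ker ↔ (x : G) ∈ C := fun x => by
          rw [hf, MonoidHom.mem_ker]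
          exact (QuotientGroup.eq_one_iff _).trans Subgroup.mem_subgroupOf
        have hZle : Subgroup.center (P : Subgroup G) ≤ f.ker := fun x hx => (hker x).2
          (Subgroup.mem_centralizer_iff.2 fun b hb =>
            congrArg Subtype.val (Subgroup.mem_center_iff.1 hx ⟨b, (inf_le_left : D ≤ _) hb⟩))
        have hker2 : f.ker.index = 2 := by
          obtain ⟨k, hk⟩ := P.2.index f.ker
          have hdvd : f.ker.index ∣ 2 ^ 2 := hidx ▸ Subgroup.index_dvd_of_le hZle
          rw [hk] at hdvd
          have hk2 : k ≤ 2 := (Nat.pow_dvd_pow_iff_le_right (le_refl 2)).1 hdvd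
          interval_cases k
          · exfalso
            have hPC : (P : Subgroup G) ≤ C := fun x hx =>
              (hker ⟨x, hx⟩).1 (Subgroup.index_eq_one.1 (hk.trans (pow_zero 2)) ▸ Subgroup.mem_top _)
            exact hPna ⟨⟨fun x y => Subtype.ext (hcC x (hPC x.2) y (hPC y.2))⟩⟩
          · rw [hk, pow_one]
          · exfalso
            have hZ : f.ker = Subgroup.center (P : Subgroup G) :=
              (Subgroup.eq_of_le_of_card_ge hZle (by
                have h1 := f.ker.card_mul_index
                have h2 := (Subgroup.center (P : Subgroup G)).card_mul_index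
                rw [hk] at h1
                rw [hidx] at h2
                omega)).symm
            have hDZ : ∀ b ∈ D, ∀ x : (P : Subgroup G), (x : G) * b = b * x := fun b hb x => by
              have hbP : b ∈ (P : Subgroup G) := hb.1
              have h3 : (⟨b, hbP⟩ : (P : Subgroup G)) ∈ Subgroup.center (P : Subgroup G) := by
                rw [← hZ, hker]; exact hDC hb
              exact congrArg Subtype.val (Subgroup.mem_center_iff.1 h3 x)
            have hPC : (P : Subgroup G) ≤ C := fun x hx =>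
              Subgroup.mem_centralizer_iff.2 fun b hb => (hDZ b hb ⟨x, hx⟩).symm
            exact hPna ⟨⟨fun x y => Subtype.ext (hcC x (hPC x.2) y (hPC y.2))⟩⟩
        -- the automizer has a Sylow 2-subgroup of order two
        set R' := (P.subtype hPH).mapSurjective (QuotientGroup.mk'_surjective (C.subgroupOf H)) with hR'
        have hR2 : Nat.card (R' : Subgroup (H ⧸ C.subgroupOf H)) = 2 := by
          have hrange : (R' : Subgroup (H ⧸ C.subgroupOf H)) = f.range := by
            rw [hR', Sylow.coe_mapSurjective, hf, MonoidHom.range_comp, Sylow.coe_subtype]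
            congr 1
            ext x
            exact ⟨fun hx => ⟨⟨(x : G), hx⟩, rfl⟩, by rintro ⟨y, rfl⟩; exact y.2⟩
          rw [hrange, ← Subgroup.index_ker, hker2]
        haveI : Fact (Nat.Prime 2) := ⟨Nat.prime_two⟩
        obtain ⟨R'', M, hMn, hM⟩ := CfsgLib.Fusion.hasNormalPComplement_of_normalizer_le_centralizer R' (by
          intro v hv
          refine Subgroup.mem_centralizer_iff.2 fun b hb => ?_
          obtain ⟨c, hc1, hc⟩ : ∃ c ∈ (R' : Subgroup (H ⧸ C.subgroupOf H)), c ≠ 1 ∧ ∀ d ∈ (R' : Subgroup (H ⧸ C.subgroupOf H)), d = 1 ∨ d = c := by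
            obtain ⟨⟨c, hc⟩, ⟨d, hd⟩, hcd, huniv⟩ := Nat.card_eq_two_iff.1 hR2
            have h1 : (⟨1, one_mem _⟩ : (R' : Subgroup (H ⧸ C.subgroupOf H))) = ⟨c, hc⟩ ∨ (⟨1, one_mem _⟩ : (R' : Subgroup (H ⧸ C.subgroupOf H))) = ⟨d, hd⟩ := by
              have := huniv.symm ▸ Set.mem_univ (⟨1, one_mem _⟩ : (R' : Subgroup (H ⧸ C.subgroupOf H)))
              simpa using this
            have hcase : ∀ e (he : e ∈ (R' : Subgroup (H ⧸ C.subgroupOf H))), e = c ∨ e = d := fun e he => by
              have := huniv.symm ▸ Set.mem_univ (⟨e, he⟩ : (R' : Subgroup (H ⧸ C.subgroupOf H)))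
              simpa using this
            rcases h1 with h1 | h1
            · exact ⟨d, hd, fun h => hcd (h1.symm.trans (Subtype.ext h.symm)),
                fun e he => (hcase e he).imp (fun h => h.trans (congrArg Subtype.val h1).symm) id⟩
            · exact ⟨c, hc, fun h => hcd ((Subtype.ext h : (⟨c, hc⟩ : (R' : Subgroup (H ⧸ C.subgroupOf H))) = ⟨1, one_mem _⟩).trans h1),
                fun e he => ((hcase e he).symm).imp (fun h => h.trans (congrArg Subtype.val h1).symm) id⟩
          have hvc : v * c * v⁻¹ = c := ((hc.2 _ ((Subgroup.mem_normalizer_iff.1 hv c).1 hc1)).resolve_left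
            fun h => hc.1 (conj_eq_one_iff.1 h))
          rcases hc.2 b hb with rfl | rfl
          · rw [one_mul, mul_one]
          · exact (mul_inv_eq_iff_eq_mul.1 hvc).symm)
        -- the preimage of the odd complement is abelian, hence centralizes `D`
        set M' := (M.comap (QuotientGroup.mk' (C.subgroupOf H))).map H.subtype with hM'
        have hMab : IsMulCommutative M' := by
          by_contra hab
          have hHM : H ≤ M' := fun h hh => hnorm M' hab h (Subgroup.mem_normalizer_iff.2 fun b => by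
            have hn : ∀ h ∈ H, ∀ b ∈ M', h * b * h⁻¹ ∈ M' := by
              rintro h hh _ ⟨c, hc, rfl⟩
              exact ⟨⟨h, hh⟩ * c * ⟨h, hh⟩⁻¹, (hMn.comap _).conj_mem c hc _, rfl⟩
            exact ⟨hn h hh b, fun hb => by simpa [mul_assoc] using hn h⁻¹ (inv_mem hh) _ hb⟩)
          have hMt : M = ⊤ := by
            refine eq_top_iff.2 fun v _ => ?_
            obtain ⟨g, rfl⟩ := QuotientGroup.mk'_surjective _ v
            obtain ⟨c, hc, hcg⟩ := hHM g.2
            rw [← show c = g from Subtype.ext hcg]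
            exact hc
          rw [hMt] at hM
          have h1 := Subgroup.isComplement'_top_left.1 hM
          have h2 : Nat.card (R'' : Subgroup (H ⧸ C.subgroupOf H)) = 2 := by
            rw [Nat.card_congr (Sylow.equiv R'' R').toEquiv, hR2]
          rw [h1, Subgroup.card_bot] at h2
          omega
        have hMbot : M = ⊥ := (Subgroup.eq_bot_iff_forall _).2 fun v hv => by
          obtain ⟨g, rfl⟩ := QuotientGroup.mk'_surjective _ v
          refine (QuotientGroup.eq_one_iff g).2 (Subgroup.mem_subgroupOf.2 (Subgroup.mem_centralizer_iff.2 fun b hb => ?_))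
          have hbM : b ∈ M' := ⟨⟨b, hCH (hDC hb)⟩, by
            show QuotientGroup.mk' _ _ ∈ M
            rw [show QuotientGroup.mk' (C.subgroupOf H) ⟨b, hCH (hDC hb)⟩ = 1 from
              (QuotientGroup.eq_one_iff _).2 (Subgroup.mem_subgroupOf.2 (hDC hb))]
            exact one_mem _, rfl⟩
          exact congrArg Subtype.val (hMab.is_comm.comm ⟨b, hbM⟩ ⟨(g : G), ⟨g, hv, rfl⟩⟩)
        subst hMbot
        have htop : (R'' : Subgroup (H ⧸ C.subgroupOf H)) = ⊤ := Subgroup.isComplement'_bot_left.1 hM
        intro x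
        obtain ⟨k, hk⟩ := R''.2 ⟨x, htop ▸ Subgroup.mem_top x⟩
        exact ⟨k, congrArg Subtype.val hk⟩
      · -- otherwise a Sylow subgroup of the normalizer is normal, against tameness
        exfalso
        haveI hTab := hsub T inf_le_left hTP
        have hDT : D ≤ T := le_inf inf_le_left Subgroup.le_normalizer
        have hTC : T ≤ C := fun b hb => Subgroup.mem_centralizer_iff.2 fun c hc =>
          congrArg Subtype.val (hTab.is_comm.comm ⟨c, hDT hc⟩ ⟨b, hb⟩)
        set T' := (Q' : Subgroup G) ⊓ H with hT'def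
        have hTp : IsPGroup 2 T := P.2.to_le inf_le_left
        have hT'p : IsPGroup 2 T' := Q'.2.to_le inf_le_left
        obtain ⟨h, hh, hle⟩ := CfsgLib.Fusion.exists_conj_le_of_not_dvd_relIndex hTp inf_le_right hT.1 hT'p inf_le_right
        have hT'C : T' ≤ C := fun b hb => by
          have h1 : h * b * h⁻¹ ∈ C := hTC (hle ⟨b, hb, rfl⟩)
          simpa [mul_assoc] using hCn h⁻¹ (inv_mem hh) _ h1
        have hTn : T ≤ Subgroup.normalizer (T' : Set G) := fun b hb =>
          Subgroup.mem_normalizer_iff.2 fun c => by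
            constructor
            · intro hc; rw [hcC b (hTC hb) c (hT'C hc), mul_inv_cancel_right]; exact hc
            · intro hc
              have h1 := hcC b⁻¹ (inv_mem (hTC hb)) _ (hT'C hc)
              rw [show c = b⁻¹ * (b * c * b⁻¹) * b⁻¹⁻¹ by group, h1, mul_inv_cancel_right]
              exact hc
        have hsupp : IsPGroup 2 ↥(T ⊔ T') := hTp.to_sup_of_normal_right' hT'p hTn
        have hsupH : T ⊔ T' ≤ H := sup_le inf_le_right inf_le_right
        obtain ⟨h', hh', hle'⟩ := CfsgLib.Fusion.exists_conj_le_of_not_dvd_relIndex hTp inf_le_right hT.1 hsupp hsupH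
        have hcard := Subgroup.card_dvd_of_le hle'
        rw [CfsgLib.Fusion.card_conjBy] at hcard
        have hTT : T ⊔ T' = T := (Subgroup.eq_of_le_of_card_ge le_sup_left (Nat.le_of_dvd Nat.card_pos hcard)).symm
        have hT'D : T' ≤ D := le_inf ((le_sup_right.trans hTT.le).trans inf_le_left) inf_le_left
        -- but the normalizer in `Q'` is larger
        haveI := Q'.2.isNilpotent
        have hDQ : D.subgroupOf (Q' : Subgroup G) ≠ ⊤ := fun h => by
          rw [Subgroup.subgroupOf_eq_top] at h
          refine hDP (le_antisymm inf_le_left (le_inf le_rfl ?_))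
          have h2 : (Q' : Subgroup G) ≤ (P : Subgroup G) := h.trans inf_le_left
          rw [Subgroup.eq_of_le_of_card_ge h2 (by rw [P.card_eq_multiplicity, Q'.card_eq_multiplicity])]
        obtain ⟨g, hg, hgD⟩ := SetLike.exists_of_lt
          (Group.normalizerCondition_of_isNilpotent (D.subgroupOf (Q' : Subgroup G)) hDQ.lt_top)
        refine hgD (Subgroup.mem_subgroupOf.2 (hT'D ⟨g.2, Subgroup.mem_normalizer_iff.2 fun b => ?_⟩))
        constructor
        · intro hb
          exact Subgroup.mem_subgroupOf.1 ((Subgroup.mem_normalizer_iff.1 hg ⟨b, hb.2⟩).1 (Subgroup.mem_subgroupOf.2 hb))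
        · intro hb
          have hbQ : b ∈ (Q' : Subgroup G) := by
            have := mul_mem (mul_mem (inv_mem g.2) hb.2) g.2
            simpa [mul_assoc] using this
          exact Subgroup.mem_subgroupOf.1 ((Subgroup.mem_normalizer_iff.1 hg ⟨b, hbQ⟩).2 (Subgroup.mem_subgroupOf.2 hb))
    by_cases hKt : K = ⊤
    · subst hKt
      exact R.ne_bot_of_dvd_card (hqN.trans (Subgroup.card_subgroup_dvd_card N)) (Subgroup.isComplement'_top_left.1 hK)
    haveI := hsolab K (hnormal K hKn hKt)
    haveI := R.2.isNilpotent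
    refine hns (Group.isSolvable_of_ker_le_range K.subtype (QuotientGroup.mk' K)
      (by rw [QuotientGroup.ker_mk', Subgroup.range_subtype]) (G'' := G ⧸ K) (hG'' := ?_))
    exact Group.isSolvable_of_surjective (f := (QuotientGroup.mk' K).comp (R : Subgroup G).subtype) fun x => by
      obtain ⟨g, rfl⟩ := QuotientGroup.mk'_surjective K x
      obtain ⟨⟨k, r⟩, he, -⟩ := hK.existsUnique g
      refine ⟨r, ?_⟩
      show QuotientGroup.mk' K (r : G) = QuotientGroup.mk' K g
      rw [← he, map_mul, show QuotientGroup.mk' K (k : G) = 1 from (QuotientGroup.eq_one_iff _).2 k.2, one_mul]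
  · -- odd primes: Hall and Wielandt
    have hlcs : (P : Subgroup G).lowerCentralSeries 2 = ⊥ := by
      haveI : IsMulCommutative ((P : Subgroup G) ⧸ Subgroup.center (P : Subgroup G)) :=
        ⟨⟨(IsPGroup.commutative_of_card_eq_prime_sq (by rw [← Subgroup.index_eq_card, hidx]))⟩⟩
      have hle := Subgroup.Normal.quotient_commutative_iff_commutator_le.1 this
      rw [eq_bot_iff, Subgroup.lowerCentralSeries_succ, Subgroup.commutator_le]
      intro x hx y hy
      rw [Subgroup.lowerCentralSeries_succ, Subgroup.lowerCentralSeries_zero, ← Subgroup.map_subtype_commutator] at hx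
      obtain ⟨x', hx', rfl⟩ := hx
      rw [Subgroup.mem_bot, commutatorElement_eq_one_iff_mul_comm]
      exact congrArg Subtype.val (Subgroup.mem_center_iff.1 (hle hx') ⟨y, hy⟩).symm
    have hcl : (P : Subgroup G).lowerCentralSeries (q - 1) = ⊥ := by
      refine le_bot_iff.1 (le_of_le_of_eq (Subgroup.lowerCentralSeries_antitone _ ?_) hlcs)
      have := hq.two_le
      omega
    have h1 := Cfsg.Agent.S4226.result P hcl
    have hGq : Cfsg.pResidual q G = ⊤ := by
      by_contra hne
      haveI hMn := CfsgLib.Fusion.pResidual_normal (G := G) (p := q)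
      haveI := hsolab _ (hnormal _ hMn hne)
      have hpg := CfsgLib.Fusion.isPGroup_quotient_pResidual (p := q) (Cfsg.pResidual q G) le_rfl
      haveI := hpg.isNilpotent
      exact hns (Group.isSolvable_of_ker_le_range (Cfsg.pResidual q G).subtype (QuotientGroup.mk' (Cfsg.pResidual q G))
        (by rw [QuotientGroup.ker_mk', Subgroup.range_subtype]))
    rw [hGq, top_inf_eq, hself] at h1
    refine hPne ?_
    rw [← h1, Cfsg.pResidualOf]
    refine (Subgroup.map_eq_bot_iff_of_injective _ (Subgroup.subtype_injective _)).2 ?_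
    rw [Cfsg.pResidual, Subgroup.closure_eq_bot_iff]
    intro x hx
    obtain ⟨k, hk⟩ := IsPGroup.iff_orderOf.1 P.2 x
    rw [Set.mem_setOf_eq, hk] at hx
    rw [Set.mem_singleton_iff, ← orderOf_eq_one_iff, hk]
    rcases k with _ | k
    · exact pow_zero q
    · exact absurd ((Nat.coprime_pow_left_iff (Nat.succ_pos k) q q).1 hx) (by simp [hq.ne_one])

end Cfsg.Agent.S4072
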