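import Cfsg.Statements.S4073
import Cfsg.Agent.Lib.Perm.SelfNormNonab.Converse

set_option autoImplicit false
set_option linter.style.haveILetI false
open Cfsg

namespace Cfsg.Agent.S4073

/-- Let G be a finite non-abelian simple group. Every non-abelian subgroup of G is self-normalizing if and only if G is isomorphic to PSL₂(2ⁿ) for some n ≥ 2 with 2ⁿ − 1 prime (this includes the alternating group of degree 5 as PSL₂(4)). -/
theorem result {G : Type*} [Group G] [Finite G] [IsSimpleGroup G]
    (hna : ¬ IsMulCommutative G) :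
    (∀ H : Subgroup G, ¬ IsMulCommutative H → Subgroup.normalizer (H : Set G) = H) ↔
    ∃ n : ℕ, 2 ≤ n ∧ (2 ^ n - 1).Prime ∧ Nonempty (G ≃* Matrix.ProjectiveSpecialLinearGroup (Fin 2) (GaloisField 2 n)) := by
  constructor
  · intro h
    have hperf : commutator G = ⊤ := by
      rcases (inferInstance : (commutator G).Normal).eq_bot_or_eq_top with h1 | h1
      · exact absurd ⟨⟨fun a b => by
          have hm := Subgroup.commutator_mem_commutator (Subgroup.mem_top a) (Subgroup.mem_top b)
          rw [← _root_.commutator_def, h1, Subgroup.mem_bot] at hm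
          exact commutatorElement_eq_one_iff_mul_comm.1 hm⟩⟩ hna
      · exact h1
    have hct := CfsgLib.SelfNormNonab.isCT h hperf
    obtain ⟨t, ht⟩ := CfsgLib.CTSimple.exists_invol hct hna
    obtain ⟨F, iF, iF', f, hf2, hF, ⟨e⟩⟩ := CfsgLib.CTSimple.exists_psl hct hna ht
    refine ⟨f, hf2, CfsgLib.SelfNormNonab.prime_of_selfNorm h hct hna ht f ?_, ⟨e.trans ?_⟩⟩
    · exact CfsgLib.SelfNormNonab.card_group e hF hf2
    · letI := Fintype.ofFinite (GaloisField 2 f)
      have hcard : Fintype.card F = Fintype.card (GaloisField 2 f) := by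
        rw [hF, ← Nat.card_eq_fintype_card, GaloisField.card 2 f (by omega)]
      exact CfsgLib.SelfNormNonab.pslCongr (FiniteField.ringEquivOfCardEq hcard)
  · rintro ⟨n, hn, hP, ⟨e⟩⟩
    haveI := e.symm.isSimpleGroup
    haveI := Fintype.ofFinite (GaloisField 2 n)
    refine CfsgLib.SelfNormNonab.sn_of_mulEquiv e (CfsgLib.SelfNormNonab.selfNorm_psl hn ?_ hP ?_)
    · rw [← Nat.card_eq_fintype_card, GaloisField.card 2 n (by omega)]
    · exact fun hc => hna ⟨⟨fun a b => e.injective (by rw [map_mul, map_mul]; exact hc.is_comm.comm _ _)⟩⟩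

end Cfsg.Agent.S4073
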