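import Cfsg.Statements.S4074
import Cfsg.Agent.Lib.PGroup.DihedralSubgroups
-- import your own Cfsg.Agent.* helpers here

set_option autoImplicit false
open Cfsg

namespace Cfsg.Agent.S4074

/-- For n > 2, every non-abelian subgroup of the dihedral group of order 2n is self-normalizing if and only if n = 4 or n is odd. -/
theorem result (n : ℕ) (hn : 2 < n) :
    (∀ H : Subgroup (DihedralGroup n), ¬ IsMulCommutative H → Subgroup.normalizer (H : Set (DihedralGroup n)) = H) ↔
    (n = 4 ∨ Odd n) := by
  haveI : NeZero n := ⟨by omega⟩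
  constructor
  · intro h
    by_contra hno
    obtain ⟨hn4, hodd⟩ := not_or.1 hno
    obtain ⟨m, hm⟩ := Nat.not_odd_iff_even.1 hodd
    set A := AddSubgroup.zmultiples ((2 : ℕ) : ZMod n) with hA
    have hnab : ¬ IsMulCommutative (CfsgLib.PGroup.dihedralSub A) := by
      refine CfsgLib.PGroup.dihedralSub_nonabelian (AddSubgroup.mem_zmultiples _) ?_
      rw [← Nat.cast_add, Ne, ZMod.natCast_eq_zero_iff]
      intro hd
      have h1 := Nat.le_of_dvd (by norm_num) hd
      omega
    have h2 : (2 : ZMod n) ∈ A := by
      rw [hA, show ((2 : ℕ) : ZMod n) = 2 by norm_num]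
      exact AddSubgroup.mem_zmultiples _
    have h1 : DihedralGroup.r (1 : ZMod n) ∈
        Subgroup.normalizer (CfsgLib.PGroup.dihedralSub A : Set (DihedralGroup n)) := by
      rw [Subgroup.mem_normalizer_iff]
      rintro (j | j)
      · rw [DihedralGroup.inv_r, DihedralGroup.r_mul_r, DihedralGroup.r_mul_r,
          show (1 : ZMod n) + j + -1 = j by ring]
      · rw [DihedralGroup.inv_r, DihedralGroup.r_mul_sr, DihedralGroup.sr_mul_r,
          CfsgLib.PGroup.sr_mem_dihedralSub, CfsgLib.PGroup.sr_mem_dihedralSub,
          show j - 1 + -1 = j - 2 by ring]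
        exact ⟨fun hj => A.sub_mem hj h2, fun hj => by simpa using A.add_mem hj h2⟩
    rw [h _ hnab, CfsgLib.PGroup.r_mem_dihedralSub, hA, AddSubgroup.mem_zmultiples_iff] at h1
    obtain ⟨t, ht⟩ := h1
    rw [zsmul_eq_mul, ← Int.cast_natCast, ← Int.cast_mul, ← Int.cast_one, ← sub_eq_zero,
      ← Int.cast_sub, ZMod.intCast_zmod_eq_zero_iff_dvd] at ht
    obtain ⟨s, hs⟩ := ht
    rw [hm] at hs
    push_cast at hs
    have : t * 2 - 1 = 2 * ((m : ℤ) * s) := by linear_combination hs
    omega
  · intro hn' H hH
    have hnc : ¬ IsCyclic H := fun hc => hH inferInstance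
    rcases hn' with rfl | hodd
    · -- order eight: every nonabelian subgroup is everything
      haveI := Fact.mk Nat.prime_two
      have hc : Nat.card (DihedralGroup 4) = 2 ^ 3 := by rw [DihedralGroup.nat_card]; norm_num
      obtain ⟨k, hk, hk'⟩ := (Nat.dvd_prime_pow Nat.prime_two).1 (hc ▸ H.card_subgroup_dvd_card)
      have : k = 3 := by
        by_contra hne
        interval_cases k
        · exact hnc (Subgroup.card_eq_one.1 (hk'.trans (pow_zero 2)) ▸ inferInstance)
        · exact hnc (isCyclic_of_prime_card (hk'.trans (pow_one 2)))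
        · exact hH (by
            letI := IsPGroup.commGroupOfCardEqPrimeSq hk'
            exact ⟨⟨mul_comm⟩⟩)
        · exact hne rfl
      rw [H.eq_top_of_card_eq (by rw [hk', this, hc])]
      exact top_le_iff.1 Subgroup.le_normalizer
    · obtain ⟨i, a, hi, ha, ha0⟩ := CfsgLib.PGroup.exists_sr_r_of_not_isCyclic H hnc
      refine le_antisymm (fun g hg => ?_) Subgroup.le_normalizer
      obtain ⟨m, hm⟩ := hodd
      have half : ∀ x : ZMod n, DihedralGroup.r (x + x) ∈ H → DihedralGroup.r x ∈ H := by
        intro x hx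
        have := H.pow_mem hx (m + 1)
        rw [DihedralGroup.r_pow] at this
        have h0 : ((2 * m + 1 : ℕ) : ZMod n) = 0 := by rw [← hm, ZMod.natCast_self]
        push_cast at h0 this
        rwa [show (x + x) * ((m : ZMod n) + 1) = x by linear_combination x * h0] at this
      have rot : ∀ x : ZMod n, DihedralGroup.r x ∈ Subgroup.normalizer (H : Set (DihedralGroup n)) →
          DihedralGroup.r x ∈ H := by
        intro x hx
        refine half x ?_
        have h1 := (Subgroup.mem_normalizer_iff.1 hx _).1 hi
        rw [DihedralGroup.inv_r, DihedralGroup.r_mul_sr, DihedralGroup.sr_mul_r] at h1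
        have h2 := H.mul_mem h1 hi
        rw [DihedralGroup.sr_mul_sr] at h2
        rwa [show i - (i - x + -x) = x + x by ring] at h2
      rcases g with j | j
      · exact rot j hg
      · have h1 := mul_mem (Subgroup.le_normalizer hi) hg
        rw [DihedralGroup.sr_mul_sr] at h1
        have h2 := H.mul_mem hi (rot _ h1)
        rwa [DihedralGroup.sr_mul_r, add_sub_cancel] at h2

end Cfsg.Agent.S4074
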