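import Cfsg.Statements.S4075
import Cfsg.Agent.Lib.PGroup.ShortTools
import Cfsg.Agent.Lib.Coprime.MinimalNonNilpotent

set_option autoImplicit false
set_option linter.style.haveILetI false
open Cfsg

namespace Cfsg.Agent.S4075

/-- Let G be a finite nilpotent group. Every non-abelian subgroup of G is self-normalizing if and only if G is abelian or G is a minimal non-abelian p-group for some prime p (non-abelian of prime-power order with every proper subgroup abelian). -/
theorem result {G : Type*} [Group G] [Finite G]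
    [Group.IsNilpotent G] :
    (∀ H : Subgroup G, ¬ IsMulCommutative H → Subgroup.normalizer (H : Set G) = H) ↔
    (IsMulCommutative G ∨ (IsPrimePow (Nat.card G) ∧ ¬ IsMulCommutative G ∧ ∀ H : Subgroup G, H ≠ ⊤ → IsMulCommutative H)) := by
  constructor
  · intro h
    have hall : ∀ H : Subgroup G, H ≠ ⊤ → IsMulCommutative H := by
      intro H hH
      by_contra hc
      exact (Group.normalizerCondition_of_isNilpotent H (lt_top_iff_ne_top.2 hH)).ne (h H hc).symm
    by_cases hG : IsMulCommutative G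
    · exact Or.inl hG
    refine Or.inr ⟨?_, hG, hall⟩
    haveI : Nontrivial G := by
      rcases subsingleton_or_nontrivial G with hs | hs
      · exact absurd (isMulCommutative_iff.2 fun a b => Subsingleton.elim _ _) hG
      · exact hs
    obtain ⟨p, hp, hpd⟩ := Nat.exists_prime_and_dvd (Finite.one_lt_card (α := G)).ne'
    refine isPrimePow_iff_unique_prime_dvd.2 ⟨p, ⟨hp, hpd⟩, fun q ⟨hq, hqd⟩ => ?_⟩
    by_contra hne
    refine hG ?_
    have hsylow : ∀ r : ℕ, r.Prime → ∀ P : Sylow r G, (P : Subgroup G) ≠ ⊤ := by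
      intro r hr P e
      haveI := Fact.mk hr
      obtain ⟨i, hi⟩ := IsPGroup.iff_card.1 P.isPGroup'
      rw [e, Subgroup.card_top] at hi
      exact hne (((Nat.prime_dvd_prime_iff_eq hq hr).1 (hq.dvd_of_dvd_pow (hi ▸ hqd))).trans
        ((Nat.prime_dvd_prime_iff_eq hp hr).1 (hp.dvd_of_dvd_pow (hi ▸ hpd))).symm)
    refine isMulCommutative_iff.2 fun a b => ?_
    have hmem : ∀ a b : G, (∀ r : ℕ, r.Prime → ∃ k : ℕ, ¬ r ∣ k ∧ Commute (a ^ k) b) → Commute a b := by
      intro a b hab
      refine Subgroup.mem_centralizer_singleton_iff.1 (CfsgLib.PGroup.mem_of_forall_prime_pow_mem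
        (S := Subgroup.centralizer ({b} : Set G)) fun r hr => ?_)
      obtain ⟨k, hk, hk'⟩ := hab r hr
      exact ⟨k, hk, Subgroup.mem_centralizer_singleton_iff.2 hk'.eq⟩
    refine (hmem a b fun r hr => ?_).eq
    haveI := Fact.mk hr
    obtain ⟨m, hm, hmP⟩ := CfsgLib.PGroup.exists_pow_isPGroup (p := r) a
    refine ⟨m, hm, (hmem b (a ^ m) fun s hs => ?_).symm⟩
    haveI := Fact.mk hs
    obtain ⟨l, hl, hlP⟩ := CfsgLib.PGroup.exists_pow_isPGroup (p := s) b
    refine ⟨l, hl, ?_⟩
    by_cases hrs : r = s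
    · subst hrs
      obtain ⟨P, hP⟩ := hmP.exists_le_sylow
      obtain ⟨Q, hQ⟩ := hlP.exists_le_sylow
      haveI hPn : (P : Subgroup G).Normal :=
        ((Group.isNilpotent_of_finite_tfae (G := G)).out 0 3 rfl rfl).1 ‹_› r ⟨hr⟩ P
      haveI := Sylow.unique_of_normal P hPn
      rw [Subsingleton.elim Q P] at hQ
      exact congrArg Subtype.val (isMulCommutative_iff.1 (hall _ (hsylow r hr P))
        ⟨_, hQ (Subgroup.mem_zpowers _)⟩ ⟨_, hP (Subgroup.mem_zpowers _)⟩)
    · obtain ⟨j, hj⟩ := IsPGroup.iff_card.1 hlP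
      refine CfsgLib.Coprime.commute_of_coprime_pow (p := r) ?_ hmP (Subgroup.mem_zpowers _)
      rw [← Nat.card_zpowers, hj]
      exact Nat.Coprime.pow_left j ((Nat.coprime_primes hs hr).2 (Ne.symm hrs))
  · rintro (h | ⟨-, -, h⟩) H hH
    · exact absurd (isMulCommutative_iff.2 fun a b => Subtype.ext (isMulCommutative_iff.1 h _ _)) hH
    · have : H = ⊤ := by_contra fun hne => hH (h H hne)
      subst this
      exact Subgroup.normalizer_eq_top _

end Cfsg.Agent.S4075
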