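import Cfsg.Statements.S4078
import Cfsg.Agent.Lib.Solv.TwoGenerated.Main

set_option autoImplicit false
open Cfsg

namespace Cfsg.Agent.S4078

/-- For an element x of a finite group G let Sol(x) be the set of y ∈ G such that x and y generate a solvable subgroup. Then G is solvable if and only if Sol(x) is (the carrier of) a subgroup of G for every x ∈ G. -/
theorem result {G : Type*} [Group G] [Finite G] :
    Group.IsSolvable G ↔ ∀ x : G, ∃ H : Subgroup G, (H : Set G) = {y : G | Group.IsSolvable ↥(Subgroup.closure ({x, y} : Set G))} := by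
  refine ⟨fun h => ?_, fun h => ?_⟩
  · haveI := h
    exact CfsgLib.Solv.TwoGen.solubilizerSubgroups_of_solvable (G := G)
  · refine CfsgLib.Solv.TwoGen.isSolvable_of_minimal
      (fun G _ => CfsgLib.Solv.TwoGen.SolubilizerSubgroups G) ?_ ?_ ?_ G h
    · intro G _ _ H hG x
      obtain ⟨K, hK⟩ := hG (x : G)
      refine ⟨K.subgroupOf H, Set.ext fun y => ?_⟩
      rw [Set.mem_setOf_eq, CfsgLib.Solv.TwoGen.solvable_closure_iff, SetLike.mem_coe,
        Subgroup.mem_subgroupOf, ← SetLike.mem_coe, hK]
      rfl
    · intro G _ _ N _ hN hG x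
      obtain ⟨x, rfl⟩ := QuotientGroup.mk'_surjective N x
      obtain ⟨K, hK⟩ := hG x
      refine ⟨K.map (QuotientGroup.mk' N), Set.ext fun q => ⟨?_, fun hq => ?_⟩⟩
      · rintro ⟨y, hy, rfl⟩
        rw [hK] at hy
        exact CfsgLib.Solv.TwoGen.solvable_closure_of_map _ x y hy
      · obtain ⟨y, rfl⟩ := QuotientGroup.mk'_surjective N q
        refine ⟨y, ?_, rfl⟩
        rw [hK]
        show Group.IsSolvable _
        haveI := hN
        haveI : Group.IsSolvable (Subgroup.closure ({QuotientGroup.mk' N x, QuotientGroup.mk' N y} : Set _)) := hq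
        exact Group.isSolvable_of_ker_le_range
          (Subgroup.inclusion (inf_le_left : Subgroup.closure ({x, y} : Set G) ⊓ N ≤ _))
          ((QuotientGroup.mk' N).subgroupMap (Subgroup.closure ({x, y} : Set G))) (by
            intro z hz
            refine ⟨⟨z, z.2, (QuotientGroup.eq_one_iff _).1 (congrArg Subtype.val hz)⟩, rfl⟩)
          (hG' := Group.isSolvable_of_isSolvable_injective (f := Subgroup.inclusion inf_le_right)
            (Subgroup.inclusion_injective _))
          (hG'' := CfsgLib.Solv.TwoGen.solvable_of_eq (CfsgLib.Solv.TwoGen.map_pair _ x y).symm hq)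
    · intro G _ _ hG hsimple hsol
      by_contra hns
      exact CfsgLib.Solv.TwoGen.false_of_solubilizer hns hsimple hsol hG

end Cfsg.Agent.S4078
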