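import Cfsg.Statements.S4080
-- import your own Cfsg.Agent.* helpers here

set_option autoImplicit false
open Cfsg

namespace Cfsg.Agent.S4080

/-- An automorphism of order `p` of `(ℤ/p²)²`, `p ≥ 5`, fixes the elements killed by `p`. -/
theorem fixes_torsion {p : ℕ} [Fact p.Prime] (hp : 3 < p) {M : Type*} [AddCommGroup M] [Finite M]
    (hM : Nat.card M = p ^ 4) (hker : ∀ m : M, p • m = 0 → ∃ n, m = p • n)
    (hpp : ∀ m : M, p • p • m = 0) (f : AddMonoid.End M) (hf : f ^ p = 1)
    (x : M) (hx' : p • x = 0) : f x = x := by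
  have hp' : p.Prime := Fact.out
  let N : AddMonoid.End M := f - 1
  -- the binomial expansion
  have hexp : ∀ m : M, m = ∑ i ∈ Finset.range (p + 1), p.choose i • (N ^ i) m := by
    intro m
    conv_lhs => rw [show m = (f ^ p) m by rw [hf]; rfl,
      show f = N + 1 from (sub_add_cancel f 1).symm, (Commute.one_right N).add_pow]
    simp only [one_pow, mul_one]
    erw [AddMonoidHom.finsetSum_apply]
    refine Finset.sum_congr rfl fun i _ => ?_
    rw [← nsmul_eq_mul']
    rfl
  -- the subgroup killed by `p`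
  let μ : M →+ M := nsmulAddMonoidHom p
  have hrange : μ.range = μ.ker := by
    ext m
    refine ⟨?_, fun hm => ?_⟩
    · rintro ⟨n, rfl⟩; exact hpp n
    · obtain ⟨n, hn⟩ := hker m hm; exact ⟨n, hn.symm⟩
  have hV : Nat.card μ.ker = p ^ 2 := by
    have h1 := μ.ker.card_mul_index
    rw [AddSubgroup.index_ker, hrange, hM] at h1
    exact Nat.mul_self_inj.1 (h1.trans (by ring))
  -- `N ^ 2` kills it
  have hNV : ∀ v : M, p • v = 0 → N (N v) = 0 := by
    have hinv : ∀ v : M, p • v = 0 → p • N v = 0 := fun v hv => by rw [← map_nsmul, hv, map_zero]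
    have hNpow : ∀ (i : ℕ) (v : M), p • v = 0 → p • (N ^ i) v = 0 := by
      intro i
      induction i with
      | zero => intro v hv; exact hv
      | succ i ih => intro v hv; rw [pow_succ]; exact ih _ (hinv v hv)
    have hNp : ∀ v : M, p • v = 0 → (N ^ p) v = 0 := by
      intro v hv
      have h := hexp v
      rw [Finset.sum_range_succ, Nat.choose_self, one_nsmul,
        Finset.sum_eq_single 0] at h
      · rw [Nat.choose_zero_right, one_nsmul, pow_zero] at h
        exact (eq_comm.1 h |> fun e => by simpa using e)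
      · intro i hi hi0
        obtain ⟨c, hc⟩ := hp'.dvd_choose_self hi0 (Finset.mem_range.1 hi)
        rw [hc, mul_comm, mul_nsmul', hNpow i v hv, nsmul_zero]
      · exact fun h0 => absurd (Finset.mem_range.2 hp'.pos) h0
    let W₁ : AddSubgroup M := μ.ker.map N
    let W₂ : AddSubgroup M := W₁.map N
    have hW₁ : W₁ ≤ μ.ker := by
      rintro _ ⟨v, hv, rfl⟩; exact hinv v hv
    have hW₂ : W₂ ≤ W₁ := AddSubgroup.map_mono hW₁
    -- an invariant subgroup equal to its image is trivial
    have hfix : ∀ W : AddSubgroup M, W ≤ μ.ker → W.map N = W → W = ⊥ := by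
      intro W hW he
      rw [eq_bot_iff]
      intro w hw
      have : ∀ i, ∃ v ∈ W, (N ^ i) v = w := by
        intro i
        induction i with
        | zero => exact ⟨w, hw, rfl⟩
        | succ i ih =>
          obtain ⟨v, hv, e⟩ := ih
          rw [← he] at hv
          obtain ⟨v', hv', rfl⟩ := hv
          exact ⟨v', hv', by rw [pow_succ]; exact e⟩
      obtain ⟨v, hv, e⟩ := this p
      rw [AddSubgroup.mem_bot, ← e, hNp v (hW hv)]
    have hc₁ : Nat.card W₁ ≤ p := by
      obtain ⟨i, hi, hi'⟩ := (Nat.dvd_prime_pow hp').1 (hV ▸ AddSubgroup.card_dvd_of_le hW₁)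
      rcases Nat.lt_or_ge i 2 with h | h
      · rw [hi']; exact (Nat.pow_le_pow_right hp'.pos (Nat.lt_succ_iff.1 h)).trans (pow_one p).le
      · have : W₁ = μ.ker :=
          AddSubgroup.eq_of_le_of_card_ge hW₁ (by rw [hV, hi', show i = 2 by omega])
        have hb : μ.ker = ⊥ := hfix _ le_rfl this
        rw [hb, AddSubgroup.card_bot] at hV
        exact absurd hV (ne_of_lt (Nat.one_lt_pow (by norm_num) hp'.one_lt))
    intro v hv
    have hmem : N (N v) ∈ W₂ := ⟨N v, ⟨v, hv, rfl⟩, rfl⟩
    have hb : W₂ = ⊥ := by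
      by_cases he : W₂ = W₁
      · rw [he, hfix W₁ hW₁ he]
      · have hlt : Nat.card W₂ < Nat.card W₁ := lt_of_le_of_ne (AddSubgroup.card_le_of_le hW₂)
          fun e => he (AddSubgroup.eq_of_le_of_card_ge hW₂ e.ge)
        obtain ⟨i, -, hi⟩ := (Nat.dvd_prime_pow hp').1
          (hV ▸ AddSubgroup.card_dvd_of_le (hW₂.trans hW₁))
        refine AddSubgroup.eq_bot_of_card_eq _ ?_
        rcases i with _ | i
        · rw [hi, pow_zero]
        · exfalso
          have : p ≤ Nat.card W₂ := hi ▸ Nat.le_self_pow (by omega) p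
          omega
    rw [hb] at hmem
    exact hmem
  have hN2 : ∀ m : M, ∃ n, (N ^ 2) m = p • n := by
    intro m
    refine hker _ ?_
    rw [← map_nsmul, pow_two]
    exact hNV _ (hpp m)
  -- hence `p • N m = 0`
  have hmain : ∀ m : M, p • N m = 0 := by
    intro m
    have h := hexp m
    rw [Finset.sum_range_succ', Nat.choose_zero_right, one_nsmul, pow_zero] at h
    have hs : ∑ i ∈ Finset.range p, p.choose (i + 1) • (N ^ (i + 1)) m = 0 := by simpa using h
    rw [Finset.sum_eq_single 0] at hs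
    · simpa using hs
    · intro i hi hi0
      have hip := Finset.mem_range.1 hi
      obtain ⟨n, hn⟩ := hN2 m
      obtain ⟨j, rfl⟩ : ∃ j, i = j + 1 := ⟨i - 1, by omega⟩
      have e : (N ^ (j + 1 + 1)) m = p • (N ^ j) n := by
        rw [show j + 1 + 1 = j + 2 by omega, pow_add]
        show (N ^ j) ((N ^ 2) m) = _
        rw [hn, map_nsmul]
      rcases Nat.lt_or_ge (j + 1 + 1) p with h1 | h1
      · obtain ⟨c, hc⟩ := hp'.dvd_choose_self (show j + 1 + 1 ≠ 0 by omega) h1
        rw [hc, e, mul_comm, mul_nsmul', hpp, nsmul_zero]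
      · obtain ⟨l, rfl⟩ : ∃ l, j = l + 2 := ⟨j - 2, by omega⟩
        obtain ⟨n', hn'⟩ := hN2 n
        have e' : (N ^ (l + 2)) n = p • (N ^ l) n' := by
          rw [pow_add]
          show (N ^ l) ((N ^ 2) n) = _
          rw [hn', map_nsmul]
        rw [e, e', hpp, nsmul_zero]
    · exact fun h0 => absurd (Finset.mem_range.2 hp'.pos) h0
  obtain ⟨m, rfl⟩ := hker _ hx'
  have hN0 : N (p • m) = 0 := by rw [map_nsmul, hmain]
  exact sub_eq_zero.1 (show f (p • m) - p • m = 0 from hN0)

/-- Let p > 3 be a prime and L the direct product of two cyclic groups of order p². Every automorphism of L of order p fixes every element of order p of L. -/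
theorem result {p : ℕ} [Fact p.Prime] (hp : 3 < p)
    (a : MulAut (Multiplicative (ZMod (p ^ 2) × ZMod (p ^ 2)))) (ha : orderOf a = p)
    (x : Multiplicative (ZMod (p ^ 2) × ZMod (p ^ 2))) (hx : orderOf x = p) : a x = x := by
  have hp' : p.Prime := Fact.out
  haveI : NeZero (p ^ 2) := ⟨pow_ne_zero _ hp'.ne_zero⟩
  let f : AddMonoid.End (ZMod (p ^ 2) × ZMod (p ^ 2)) :=
    AddMonoidHom.mk' (fun m => Multiplicative.toAdd (a (Multiplicative.ofAdd m))) fun u v => by
      show Multiplicative.toAdd (a (Multiplicative.ofAdd u * Multiplicative.ofAdd v)) = _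
      rw [map_mul, toAdd_mul]
  have hfk : ∀ (k : ℕ) (m : ZMod (p ^ 2) × ZMod (p ^ 2)),
      (f ^ k) m = Multiplicative.toAdd ((a ^ k) (Multiplicative.ofAdd m)) := by
    intro k
    induction k with
    | zero => intro m; rw [pow_zero, pow_zero]; rfl
    | succ k ih => intro m; exact ih (f m)
  have hap : a ^ p = 1 := by
    have := pow_orderOf_eq_one a
    rwa [ha] at this
  have hf : f ^ p = 1 := AddMonoidHom.ext fun m => (hfk p m).trans (by rw [hap]; rfl)
  have h0 : ∀ u : ZMod (p ^ 2), p • p • u = 0 := fun u => by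
    simp only [nsmul_eq_mul, ← mul_assoc, ← Nat.cast_mul]
    rw [show ((p * p : ℕ) : ZMod (p ^ 2)) = 0 from
      (ZMod.natCast_eq_zero_iff _ _).2 (dvd_of_eq (by ring)), zero_mul]
  have hdiv : ∀ x : ZMod (p ^ 2), p • x = 0 → ∃ y, x = p • y := by
    intro x hx
    have h1 : ((p * x.val : ℕ) : ZMod (p ^ 2)) = 0 := by
      rw [Nat.cast_mul, ZMod.natCast_zmod_val, ← nsmul_eq_mul, hx]
    obtain ⟨c, hc⟩ := (ZMod.natCast_eq_zero_iff _ _).1 h1
    have hc' : x.val = p * c := Nat.eq_of_mul_eq_mul_left hp'.pos (hc.trans (by ring))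
    exact ⟨(c : ZMod (p ^ 2)), by rw [nsmul_eq_mul, ← Nat.cast_mul, ← hc', ZMod.natCast_zmod_val]⟩
  have hx' : p • Multiplicative.toAdd x = 0 := by
    have h1 := pow_orderOf_eq_one x
    rw [hx] at h1
    exact congrArg Multiplicative.toAdd h1
  refine Multiplicative.toAdd.injective ?_
  refine fixes_torsion hp ?_ ?_ (fun m => Prod.ext (h0 m.1) (h0 m.2)) f hf _ hx'
  · rw [Nat.card_prod, Nat.card_zmod]; ring
  · rintro ⟨u, v⟩ h
    obtain ⟨u', hu⟩ := hdiv u (congrArg Prod.fst h)
    obtain ⟨v', hv⟩ := hdiv v (congrArg Prod.snd h)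
    exact ⟨(u', v'), Prod.ext hu hv⟩

end Cfsg.Agent.S4080
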