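import Cfsg.Statements.S4081
import Cfsg.Agent.Lib.PGroup.ThreeOrbits

set_option autoImplicit false
open Cfsg

namespace Cfsg.Agent.S4081

/-- With orders restricted to `{1, p, q}`, three orbits means transitivity on each order. -/
theorem three_iff {G : Type*} [Group G] [Finite G] {p q : ℕ} (hp : p.Prime) (hq : q.Prime) (hpq : p ≠ q)
    (hpG : p ∣ Nat.card G) (hqG : q ∣ Nat.card G) :
    Nat.card (MulAction.orbitRel.Quotient (MulAut G) G) = 3 ↔
      (∀ g : G, orderOf g = 1 ∨ orderOf g = p ∨ orderOf g = q) ∧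
      ∀ g h : G, orderOf g = orderOf h → ∃ a : MulAut G, a g = h := by
  classical
  haveI := Fact.mk hp
  haveI := Fact.mk hq
  let f : MulAction.orbitRel.Quotient (MulAut G) G → ℕ :=
    Quotient.lift (fun g : G => orderOf g) fun a b hab => by
      obtain ⟨c, rfl⟩ := MulAction.orbitRel_apply.1 hab
      exact MulEquiv.orderOf_eq c b
  haveI := Fintype.ofFinite (MulAction.orbitRel.Quotient (MulAut G) G)
  have hsub : ({1, p, q} : Finset ℕ) ⊆ Finset.univ.image f := by
    intro n hn
    simp only [Finset.mem_insert, Finset.mem_singleton] at hn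
    simp only [Finset.mem_image, Finset.mem_univ, true_and]
    rcases hn with rfl | rfl | rfl
    · exact ⟨Quotient.mk'' 1, orderOf_one⟩
    · obtain ⟨x, hx⟩ := exists_prime_orderOf_dvd_card' (G := G) n hpG
      exact ⟨Quotient.mk'' x, hx⟩
    · obtain ⟨x, hx⟩ := exists_prime_orderOf_dvd_card' (G := G) n hqG
      exact ⟨Quotient.mk'' x, hx⟩
  have h3 : ({1, p, q} : Finset ℕ).card = 3 := by
    rw [Finset.card_insert_of_notMem, Finset.card_pair hpq]
    simp only [Finset.mem_insert, Finset.mem_singleton, not_or]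
    exact ⟨hp.ne_one.symm, hq.ne_one.symm⟩
  rw [Nat.card_eq_fintype_card, ← Finset.card_univ]
  constructor
  · intro h
    have h1 : (Finset.univ.image f).card ≤ 3 := Finset.card_image_le.trans h.le
    have himg := (Finset.eq_of_subset_of_card_le hsub (h3 ▸ h1)).symm
    have hinj : Set.InjOn f ((Finset.univ : Finset (MulAction.orbitRel.Quotient (MulAut G) G)) : Set _) :=
      Finset.card_image_iff.1 (by rw [himg, h3, h])
    refine ⟨fun g => ?_, fun g k hgk => ?_⟩
    · have : orderOf g ∈ Finset.univ.image f := Finset.mem_image.2 ⟨Quotient.mk'' g, Finset.mem_univ _, rfl⟩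
      rw [himg] at this
      simpa using this
    · have he := hinj (Finset.mem_coe.2 (Finset.mem_univ (Quotient.mk'' g)))
        (Finset.mem_coe.2 (Finset.mem_univ (Quotient.mk'' k))) hgk
      obtain ⟨a, ha⟩ := MulAction.orbitRel_apply.1 (Quotient.exact he.symm)
      exact ⟨a, ha⟩
  · rintro ⟨h1, h2⟩
    have hinj : Function.Injective f := by
      intro a b
      induction a using Quotient.inductionOn' with
      | h g =>
        induction b using Quotient.inductionOn' with
        | h k =>
          intro hgk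
          obtain ⟨a, ha⟩ := h2 k g hgk.symm
          exact Quotient.sound' (MulAction.orbitRel_apply.2 ⟨a, ha⟩)
    rw [← Finset.card_image_of_injective _ hinj, ← h3]
    congr 1
    refine Finset.Subset.antisymm ?_ hsub
    intro n hn
    obtain ⟨c, -, rfl⟩ := Finset.mem_image.1 hn
    induction c using Quotient.inductionOn' with
    | h g =>
      simp only [Finset.mem_insert, Finset.mem_singleton]
      exact h1 g

/-- Let G be a finite group whose order is not a prime power. Then the automorphism group of G has exactly three orbits on G if and only if there are distinct primes p, q with #G = pⁿ·q (n ≥ 1) such that G has a normal elementary abelian Sylow p-subgroup P, p is a primitive root modulo q (the multiplicative order of p mod q is q − 1), and every element of order q of G acts on P without non-identity fixed points. -/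
theorem result {G : Type*} [Group G] [Finite G] (hnpp : ¬ IsPrimePow (Nat.card G)) (hnt : Nat.card G ≠ 1) :
    Nat.card (MulAction.orbitRel.Quotient (MulAut G) G) = 3 ↔
    ∃ (p q n : ℕ) (_ : Fact p.Prime) (_ : Fact q.Prime), p ≠ q ∧ 1 ≤ n ∧ Nat.card G = p ^ n * q ∧
      (∀ P : Sylow p G, (P : Subgroup G).Normal ∧ Cfsg.IsElementaryAbelian p (P : Subgroup G)) ∧
      orderOf (p : ZMod q) = q - 1 ∧
      ∀ x y : G, orderOf x = q → orderOf y = p → x * y * x⁻¹ ≠ y := by
  classical
  constructor
  · intro h
    obtain ⟨p, hp, hpG⟩ := Nat.exists_prime_and_dvd hnt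
    obtain ⟨q, hq, hqG, hpq⟩ : ∃ q, q.Prime ∧ q ∣ Nat.card G ∧ p ≠ q := by
      by_contra hc
      push Not at hc
      refine hnpp ((isPrimePow_nat_iff _).2 ⟨p, (Nat.card G).primeFactorsList.length, hp, ?_, ?_⟩)
      · rw [List.length_pos_iff]
        intro h0
        rw [Nat.primeFactorsList_eq_nil] at h0
        rcases h0 with h0 | h0
        · exact Nat.card_pos.ne' h0
        · exact hnt h0
      · exact (Nat.eq_prime_pow_of_unique_prime_dvd Nat.card_pos.ne'
          (fun {r} hr hd => (hc r hr hd).symm)).symm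
    obtain ⟨hord, htrans⟩ := (three_iff hp hq hpq hpG hqG).1 h
    haveI := Fact.mk hp
    haveI := Fact.mk hq
    obtain ⟨x, hx⟩ := exists_prime_orderOf_dvd_card' (G := G) p hpG
    obtain ⟨y, hy⟩ := exists_prime_orderOf_dvd_card' (G := G) q hqG
    haveI : Group.IsSolvable G := by
      refine CfsgLib.Char.isSolvable_of_card_two_primes hp hq G ((Nat.card G).factorization p)
        ((Nat.card G).factorization q) ?_
      conv_lhs => rw [← Nat.prod_factorization_pow_eq_self (Nat.card_pos (α := G)).ne']
      rw [Finsupp.prod, Nat.support_factorization,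
        show (Nat.card G).primeFactors = {p, q} from ?_, Finset.prod_pair hpq]
      ext r
      simp only [Nat.mem_primeFactors, Finset.mem_insert, Finset.mem_singleton]
      refine ⟨fun hr => ?_, ?_⟩
      · haveI := Fact.mk hr.1
        obtain ⟨w, hw⟩ := exists_prime_orderOf_dvd_card' (G := G) r hr.2.1
        have := hord w
        rw [hw] at this
        exact this.resolve_left hr.1.ne_one
      · rintro (rfl | rfl)
        · exact ⟨hp, hpG, Nat.card_pos.ne'⟩
        · exact ⟨hq, hqG, Nat.card_pos.ne'⟩
    have hG1 : (⊤ : Subgroup G) ≠ ⊥ := fun h0 => hp.ne_one (by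
      rw [← hx, show x = 1 from Subgroup.mem_bot.1 (h0 ▸ Subgroup.mem_top x), orderOf_one])
    obtain ⟨M, hMn, hM1, -, hmin⟩ := CfsgLib.Coprime.exists_minimal_normal_le hG1
    haveI := hMn
    obtain ⟨hMab, -⟩ := CfsgLib.Coprime.minimal_normal_solvable hM1 hmin
    haveI : IsMulCommutative M := ⟨⟨fun a b => Subtype.ext (hMab a a.2 b b.2)⟩⟩
    have hMF := CfsgLib.Coprime.le_fitting (N := M)
      ((Group.isNilpotent_iff _).2 ⟨1, Subgroup.upperCentralSeries_one_eq_top_iff.2 inferInstance⟩)
    obtain ⟨m, hmM, hm1⟩ := (Subgroup.bot_or_exists_ne_one M).resolve_left hM1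
    rcases (hord m).resolve_left (fun h0 => hm1 (orderOf_eq_one_iff.1 h0)) with hm | hm
    · obtain ⟨n, h1, h2, h3, h4, h5⟩ := CfsgLib.PGroup.orbit_structure hp hq hpq hord htrans ⟨y, hy⟩ (hMF hmM) hm
      exact ⟨p, q, n, ⟨hp⟩, ⟨hq⟩, hpq, h1, h2, h3, h4, h5⟩
    · obtain ⟨n, h1, h2, h3, h4, h5⟩ := CfsgLib.PGroup.orbit_structure hq hp hpq.symm
        (fun g => (hord g).imp_right Or.symm) htrans ⟨x, hx⟩ (hMF hmM) hm
      exact ⟨q, p, n, ⟨hq⟩, ⟨hp⟩, hpq.symm, h1, h2, h3, h4, h5⟩
  · rintro ⟨p, q, n, hp, hq, hpq, hn, hcard, hP, hord, hfix⟩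
    refine (three_iff hp.1 hq.1 hpq ?_ ?_).2
      (CfsgLib.PGroup.three_orbits_of_structure hpq hn hcard hP hord hfix)
    · exact hcard ▸ dvd_mul_of_dvd_left (dvd_pow_self p (by omega)) q
    · exact hcard ▸ dvd_mul_left q _

end Cfsg.Agent.S4081
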