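import Cfsg.Statements.S4082
import Cfsg.Agent.Lib.PGroup.PByCyclic

set_option autoImplicit false
open Cfsg

namespace Cfsg.Agent.S4082

/-- Let p be an odd prime and G a finite group with Sylow p-subgroup P. Say that G has restricted p-by-cyclic subgroups when every subgroup H of G whose Sylow p-subgroup is normal in H with cyclic quotient is itself cyclic or dihedral of order 2pⁿ for some n. Then G has restricted p-by-cyclic subgroups if and only if P is cyclic and one of the following holds: (1) N_G(P) = C_G(P); or (2) N_G(P)/C_G(P) has order 2 and, for the subgroup Q of order p of P, the centralizer C_G(Q) is abelian and every element of N_G(Q) outside C_G(Q) is an involution inverting every element of C_G(Q). -/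
theorem result {G : Type*} [Group G] [Finite G] {p : ℕ}
    [Fact p.Prime] (hp : p ≠ 2) (P : Sylow p G) :
    (∀ H : Subgroup G, (∀ S : Sylow p ↥H, (S : Subgroup ↥H).Normal) →
        (∀ (S : Sylow p ↥H) [(S : Subgroup ↥H).Normal], IsCyclic (↥H ⧸ (S : Subgroup ↥H))) →
        IsCyclic H ∨ (∃ n : ℕ, Nonempty (H ≃* DihedralGroup (p ^ n)))) ↔
    (IsCyclic P ∧
      (Subgroup.normalizer ((P : Subgroup G) : Set G) = Subgroup.centralizer ((P : Subgroup G) : Set G) ∨
       ((Subgroup.centralizer ((P : Subgroup G) : Set G)).relIndex (Subgroup.normalizer ((P : Subgroup G) : Set G)) = 2 ∧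
        ∀ Q : Subgroup G, Q ≤ P → Nat.card Q = p →
          IsMulCommutative ↥(Subgroup.centralizer (Q : Set G)) ∧
          ∀ x : G, x ∈ Subgroup.normalizer (Q : Set G) → x ∉ Subgroup.centralizer (Q : Set G) →
            orderOf x = 2 ∧ ∀ c : G, c ∈ Subgroup.centralizer (Q : Set G) → x * c * x⁻¹ = c⁻¹))) := by
  classical
  have hpp : p.Prime := Fact.out
  have hodd : ∀ k, Odd (p ^ k) := fun k => (hpp.odd_of_ne_two hp).pow
  constructor
  · intro h
    -- elements normalizing without centralizing act as inversion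
    have pair : ∀ Q : Subgroup G, IsPGroup p Q → ∀ x ∈ Subgroup.normalizer (Q : Set G),
        x ∉ Subgroup.centralizer (Q : Set G) → orderOf x = 2 ∧ ∀ q ∈ Q, x * q * x⁻¹ = q⁻¹ := by
      intro Q hQ x hx hxc
      obtain ⟨h1, h2⟩ := CfsgLib.PByCyclic.sylow_normal_sup_zpowers hQ hx
      have hxH : x ∈ Q ⊔ Subgroup.zpowers x := Subgroup.mem_sup_right (Subgroup.mem_zpowers x)
      rcases h (Q ⊔ Subgroup.zpowers x) h1 h2 with hc | ⟨n, ⟨e⟩⟩
      · refine absurd (Subgroup.mem_centralizer_iff.2 fun q hq => ?_) hxc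
        obtain ⟨⟨g, hg⟩⟩ := hc
        obtain ⟨a, ha⟩ := Subgroup.mem_zpowers_iff.1 (hg ⟨q, Subgroup.mem_sup_left hq⟩)
        obtain ⟨b, hb⟩ := Subgroup.mem_zpowers_iff.1 (hg ⟨x, hxH⟩)
        have := ((Commute.refl g).zpow_zpow a b).eq
        rw [ha, hb] at this
        exact congrArg Subtype.val this
      · have hrot : ∀ q, ∀ hq : q ∈ Q, ∃ j, e ⟨q, Subgroup.mem_sup_left hq⟩ = DihedralGroup.r j := by
          intro q hq
          cases hc : e ⟨q, Subgroup.mem_sup_left hq⟩ with
          | r j => exact ⟨j, rfl⟩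
          | sr j =>
            exfalso
            have h3 := e.orderOf_eq ⟨q, Subgroup.mem_sup_left hq⟩
            rw [hc, DihedralGroup.orderOf_sr, Subgroup.orderOf_mk] at h3
            obtain ⟨k, hk⟩ := IsPGroup.iff_orderOf.1 hQ ⟨q, hq⟩
            rw [Subgroup.orderOf_mk, ← h3] at hk
            exact Nat.not_odd_iff_even.2 even_two (hk ▸ hodd k)
        cases hc : e ⟨x, hxH⟩ with
        | r i =>
          refine absurd (Subgroup.mem_centralizer_iff.2 fun q hq => ?_) hxc
          obtain ⟨j, hj⟩ := hrot q hq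
          have : (⟨q, Subgroup.mem_sup_left hq⟩ : ↥(Q ⊔ Subgroup.zpowers x)) * ⟨x, hxH⟩ =
              ⟨x, hxH⟩ * ⟨q, Subgroup.mem_sup_left hq⟩ := by
            apply e.injective
            rw [map_mul, map_mul, hc, hj, DihedralGroup.r_mul_r, DihedralGroup.r_mul_r, add_comm]
          exact congrArg Subtype.val this
        | sr i =>
          have hx2 : orderOf x = 2 := by
            have h3 := e.orderOf_eq ⟨x, hxH⟩
            rw [hc, DihedralGroup.orderOf_sr, Subgroup.orderOf_mk] at h3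
            exact h3.symm
          refine ⟨hx2, fun q hq => ?_⟩
          obtain ⟨j, hj⟩ := hrot q hq
          have : (⟨x, hxH⟩ : ↥(Q ⊔ Subgroup.zpowers x)) * ⟨q, Subgroup.mem_sup_left hq⟩ * ⟨x, hxH⟩⁻¹ =
              ⟨q, Subgroup.mem_sup_left hq⟩⁻¹ := by
            apply e.injective
            rw [map_mul, map_mul, map_inv, map_inv, hc, hj, DihedralGroup.inv_sr, DihedralGroup.sr_mul_r,
              DihedralGroup.sr_mul_sr, DihedralGroup.inv_r]
            congr 1
            abel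
          exact congrArg Subtype.val this
    have hcyc : IsCyclic P := by
      have h1 : ∀ S : Sylow p ↥(P : Subgroup G), (S : Subgroup ↥(P : Subgroup G)) = ⊤ := fun S =>
        (S.is_maximal' (P.2.to_subgroup ⊤) le_top).symm
      have h2 : ∀ (S : Sylow p ↥(P : Subgroup G)) [(S : Subgroup ↥(P : Subgroup G)).Normal],
          IsCyclic (↥(P : Subgroup G) ⧸ (S : Subgroup ↥(P : Subgroup G))) := fun S _ => by
        haveI : Subsingleton (↥(P : Subgroup G) ⧸ (S : Subgroup ↥(P : Subgroup G))) :=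
          QuotientGroup.subsingleton_iff.2 (h1 S)
        infer_instance
      rcases h (P : Subgroup G) (fun S => by rw [h1 S]; infer_instance) h2 with hc | ⟨n, ⟨e⟩⟩
      · exact hc
      · exfalso
        obtain ⟨k, hk⟩ := P.2.exists_card_eq
        have h3 := Nat.card_congr e.toEquiv
        rw [DihedralGroup.nat_card, hk] at h3
        exact Nat.not_odd_iff_even.2 (h3 ▸ even_two_mul _) (hodd k)
    refine ⟨hcyc, ?_⟩
    set N := Subgroup.normalizer ((P : Subgroup G) : Set G)
    set C := Subgroup.centralizer ((P : Subgroup G) : Set G)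
    by_cases hNC : N ≤ C
    · exact Or.inl (le_antisymm hNC (Subgroup.centralizer_le_normalizer _))
    right
    obtain ⟨x₀, hx₀N, hx₀C⟩ := SetLike.not_le_iff_exists.1 hNC
    have h₀ := pair _ P.2 x₀ hx₀N hx₀C
    refine ⟨?_, fun Q hQP hQp => ?_⟩
    · show (C.subgroupOf N).index = 2
      refine Subgroup.index_eq_two_iff.2 ⟨⟨x₀, hx₀N⟩, fun u => ?_⟩
      rw [Subgroup.mem_subgroupOf, Subgroup.mem_subgroupOf]
      by_cases hu : (u : G) ∈ C
      · exact Or.inr ⟨hu, fun hc => hx₀C (by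
          have hc' : (u : G) * x₀ ∈ C := hc
          have := mul_mem (inv_mem hu) hc'
          rwa [inv_mul_cancel_left] at this)⟩
      · refine Or.inl ⟨show (u : G) * x₀ ∈ C from Subgroup.mem_centralizer_iff.2 fun q hq => ?_, hu⟩
        have h1 := (pair _ P.2 u u.2 hu).2 _ (inv_mem hq)
        rw [inv_inv] at h1
        have h2 := h₀.2 q hq
        refine (mul_inv_eq_iff_eq_mul.1 ?_).symm
        calc (u : G) * x₀ * q * ((u : G) * x₀)⁻¹ = u * (x₀ * q * x₀⁻¹) * (u : G)⁻¹ := by group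
          _ = q := by rw [h2, h1]
    · have hQg : IsPGroup p Q := P.2.to_le hQP
      obtain ⟨q, hq, hq1⟩ : ∃ q ∈ Q, q ≠ 1 := by
        by_contra! h1
        rw [(Subgroup.eq_bot_iff_forall Q).2 h1, Subgroup.card_bot] at hQp
        exact hpp.ne_one hQp.symm
      have hx₀Q : x₀ ∈ Subgroup.normalizer (Q : Set G) := CfsgLib.PByCyclic.mem_normalizer_of_conj fun u hu => by
        rw [h₀.2 u (hQP hu)]; exact inv_mem hu
      have hx₀Qc : x₀ ∉ Subgroup.centralizer (Q : Set G) := fun hc => by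
        have h1 := h₀.2 q (hQP hq)
        rw [← Subgroup.mem_centralizer_iff.1 hc q hq, mul_inv_cancel_right] at h1
        obtain ⟨k, hk⟩ := IsPGroup.iff_orderOf.1 hQg ⟨q, hq⟩
        rw [Subgroup.orderOf_mk] at hk
        have h2 : orderOf q ∣ 2 := orderOf_dvd_of_pow_eq_one (by rw [pow_two]; nth_rewrite 1 [h1]; exact inv_mul_cancel q)
        have h3 := Nat.dvd_gcd h2 (dvd_refl (orderOf q))
        rw [Nat.Coprime.gcd_eq_one (Nat.coprime_two_left.2 (hk ▸ hodd k)), Nat.dvd_one] at h3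
        exact hq1 (orderOf_eq_one_iff.1 h3)
      have hinv : ∀ x, x ∈ Subgroup.normalizer (Q : Set G) → x ∉ Subgroup.centralizer (Q : Set G) →
          orderOf x = 2 ∧ ∀ c, c ∈ Subgroup.centralizer (Q : Set G) → x * c * x⁻¹ = c⁻¹ := by
        intro x hx hxc
        have h1 := (pair Q hQg x hx hxc).1
        refine ⟨h1, fun c hc => ?_⟩
        have h2 := (pair Q hQg (x * c) (mul_mem hx (Subgroup.centralizer_le_normalizer _ hc))
          (fun h' => hxc (by simpa using mul_mem h' (inv_mem hc)))).1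
        have e1 : x * x = 1 := by rw [← pow_two, ← h1, pow_orderOf_eq_one]
        have e2 : x * c * (x * c) = 1 := by rw [← pow_two, ← h2, pow_orderOf_eq_one]
        rw [inv_eq_of_mul_eq_one_left e1]
        refine eq_inv_of_mul_eq_one_left ?_
        rw [mul_assoc]; exact e2
      refine ⟨⟨⟨fun a b => Subtype.ext ?_⟩⟩, hinv⟩
      show (a : G) * b = b * a
      have h1 := (hinv x₀ hx₀Q hx₀Qc).2
      have h2 : ((a : G) * b)⁻¹ = (a : G)⁻¹ * (b : G)⁻¹ := by
        rw [← h1 _ (mul_mem a.2 b.2), ← h1 _ a.2, ← h1 _ b.2]; group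
      have h3 := congrArg (·⁻¹) h2
      simpa using h3
  · rintro ⟨hPc, hcase⟩ H hn hq
    obtain ⟨S⟩ : Nonempty (Sylow p H) := inferInstance
    haveI := hn S
    obtain ⟨y, hyco, hyo, hygen⟩ := CfsgLib.PByCyclic.exists_complement_generator S (hq S)
    obtain ⟨P', hP'⟩ := (S.2.map H.subtype).exists_le_sylow
    obtain ⟨g, hg⟩ := MulAction.exists_smul_eq G P P'
    haveI : IsCyclic (P : Subgroup G) := hPc
    have hScyc : IsCyclic (S : Subgroup H) := by
      haveI : IsCyclic (P' : Subgroup G) := (P.equiv P').isCyclic.1 inferInstance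
      exact isCyclic_of_injective ((Subgroup.inclusion hP').comp (H.subtype.subgroupMap (S : Subgroup H)))
        ((Subgroup.inclusion_injective hP').comp fun (a b : (S : Subgroup H)) hab =>
          Subtype.ext (H.subtype_injective (congrArg Subtype.val hab :)))
    by_cases hcy : ∀ s ∈ (S : Subgroup H), y * s = s * y
    · exact Or.inl (CfsgLib.PByCyclic.isCyclic_of_commute S hScyc hcy hyo hyco)
    right
    obtain ⟨k, hk⟩ := S.2.exists_card_eq
    obtain ⟨⟨s, hs⟩⟩ := id hScyc
    have hso : orderOf ((s : H) : G) = p ^ k := by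
      rw [Subgroup.orderOf_coe, Subgroup.orderOf_coe, orderOf_eq_card_of_forall_mem_zpowers hs, hk]
    have hmemS : ∀ u ∈ (S : Subgroup H), (u : G) ∈ Subgroup.zpowers ((s : H) : G) := by
      intro u hu
      obtain ⟨z, hz⟩ := Subgroup.mem_zpowers_iff.1 (hs ⟨u, hu⟩)
      exact ⟨z, congrArg (fun w : (S : Subgroup H) => ((w : H) : G)) hz⟩
    obtain ⟨s₀, hs₀, hys₀⟩ : ∃ s₀ ∈ (S : Subgroup H), y * s₀ ≠ s₀ * y := by
      by_contra! h1
      exact hcy h1
    have hk0 : k ≠ 0 := fun h0 => hys₀ (by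
      rw [h0, pow_zero, Subgroup.card_eq_one] at hk
      have h1 : s₀ = 1 := Subgroup.mem_bot.1 (hk ▸ hs₀)
      rw [h1, mul_one, one_mul])
    set q := ((s : H) : G) ^ p ^ (k - 1) with hqdef
    have hqo : orderOf q = p := by
      rw [hqdef, orderOf_pow_of_dvd (pow_ne_zero _ hpp.ne_zero) (hso ▸ pow_dvd_pow p (Nat.sub_le k 1)), hso,
        Nat.pow_div (Nat.sub_le k 1) hpp.pos, show k - (k - 1) = 1 by omega, pow_one]
    have hyn : (y : G) * ((s : H) : G) * (y : G)⁻¹ ∈ Subgroup.zpowers ((s : H) : G) :=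
      hmemS _ ((inferInstance : (S : Subgroup H).Normal).conj_mem _ s.2 y)
    have hycoG : (orderOf (y : G)).Coprime p := by rw [Subgroup.orderOf_coe]; exact hyco
    have hnot : ¬ ((y : G) * q * (y : G)⁻¹ = q) := fun hfix => by
      have hc := CfsgLib.PByCyclic.commute_of_fix hso hycoG hyn (pow_mem (Subgroup.mem_zpowers _) _) hqo hfix
      obtain ⟨z, hz⟩ := Subgroup.mem_zpowers_iff.1 (hs ⟨s₀, hs₀⟩)
      refine hys₀ (Subtype.ext ?_)
      show (y : G) * (s₀ : G) = (s₀ : G) * y
      have hz' : ((s : H) : G) ^ z = (s₀ : G) := congrArg (fun w : (S : Subgroup H) => ((w : H) : G)) hz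
      rw [← hz']
      exact ((show Commute (y : G) ((s : H) : G) from hc).zpow_right z).eq
    rcases hcase with hNC | ⟨-, hinv⟩
    · exfalso
      have hle : Subgroup.normalizer ((P : Subgroup G) : Set G) ≤ Subgroup.centralizer ((P : Subgroup G) : Set G) := hNC.le
      set K := (MonoidHom.transferSylow P hle).ker
      have hKc : K.IsComplement' (P : Subgroup G) := MonoidHom.ker_transferSylow_isComplement' P hle
      have hKidx : K.index = Nat.card (P : Subgroup G) := hKc.symm.index_eq_card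
      haveI : K.Normal := inferInstance
      have hyK : (y : G) ∈ K := by
        rw [← QuotientGroup.eq_one_iff, ← orderOf_eq_one_iff, ← Nat.dvd_one]
        have h1 : orderOf ((y : G) : G ⧸ K) ∣ orderOf (y : G) := orderOf_map_dvd (QuotientGroup.mk' K) _
        have h2 : orderOf ((y : G) : G ⧸ K) ∣ Nat.card (P : Subgroup G) := by
          rw [← hKidx, Subgroup.index_eq_card]; exact orderOf_dvd_natCard _
        obtain ⟨j, hj⟩ := P.2.exists_card_eq
        rw [hj] at h2
        have h3 := Nat.dvd_gcd h1 h2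
        rwa [Nat.Coprime.gcd_eq_one (Nat.Coprime.pow_right j hycoG)] at h3
      have hc1 : ((y : G) * q * (y : G)⁻¹ * q⁻¹) ∈ K := by
        rw [show (y : G) * q * (y : G)⁻¹ * q⁻¹ = y * (q * (y : G)⁻¹ * q⁻¹) by group]
        exact mul_mem hyK ((inferInstance : K.Normal).conj_mem _ (inv_mem hyK) q)
      have hqS : q ∈ (S : Subgroup H).map H.subtype := ⟨(s : H) ^ p ^ (k - 1), pow_mem s.2 _, rfl⟩
      have hc2 : ((y : G) * q * (y : G)⁻¹ * q⁻¹) ∈ (S : Subgroup H).map H.subtype :=
        mul_mem ⟨y * (s : H) ^ p ^ (k - 1) * y⁻¹,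
          (inferInstance : (S : Subgroup H).Normal).conj_mem _ (pow_mem s.2 _) y, rfl⟩ (inv_mem hqS)
      exact hnot (mul_inv_eq_one.1 (Subgroup.mem_bot.1
        ((MonoidHom.ker_transferSylow_disjoint P hle _ (S.2.map H.subtype)).le_bot ⟨hc1, hc2⟩)))
    -- transport to `P`
    have hqP' : g⁻¹ * q * g ∈ (P : Subgroup G) := by
      have h1 : q ∈ (P' : Subgroup G) := hP' ⟨(s : H) ^ p ^ (k - 1), pow_mem s.2 _, rfl⟩
      rw [← hg] at h1
      obtain ⟨v, hv, hve⟩ := h1
      rw [← hve]
      show g⁻¹ * (g * v * g⁻¹) * g ∈ _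
      rw [show g⁻¹ * (g * v * g⁻¹) * g = v by group]
      exact hv
    set Q := Subgroup.zpowers (g⁻¹ * q * g)
    have hQp : Nat.card Q = p := by
      rw [Nat.card_zpowers, show g⁻¹ * q * g = MulAut.conj g⁻¹ q by rw [MulAut.conj_apply, inv_inv],
        MulEquiv.orderOf_eq, hqo]
    obtain ⟨-, hout⟩ := hinv Q (Subgroup.zpowers_le.2 hqP') hQp
    have hyq : (y : G) * q * (y : G)⁻¹ ∈ Subgroup.zpowers q := by
      obtain ⟨a, ha⟩ := Subgroup.mem_zpowers_iff.1 hyn
      refine ⟨a, ?_⟩
      show q ^ a = _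
      rw [hqdef, ← conj_pow, ← ha, ← zpow_natCast, ← zpow_natCast, ← zpow_mul, ← zpow_mul, mul_comm]
    have hy'N : g⁻¹ * y * g ∈ Subgroup.normalizer (Q : Set G) := by
      refine CfsgLib.PByCyclic.mem_normalizer_of_conj fun u hu => ?_
      obtain ⟨z, rfl⟩ := Subgroup.mem_zpowers_iff.1 hu
      rw [← conj_zpow]
      refine zpow_mem ?_ z
      obtain ⟨a, ha⟩ := Subgroup.mem_zpowers_iff.1 hyq
      refine ⟨a, ?_⟩
      show (g⁻¹ * q * g) ^ a = _
      rw [show g⁻¹ * q * g = g⁻¹ * q * g⁻¹⁻¹ by rw [inv_inv], conj_zpow, ha]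
      group
    obtain ⟨hy2, hyinv⟩ := hout _ hy'N (fun hc => hnot (by
      have h1 := Subgroup.mem_centralizer_iff.1 hc _ (Subgroup.mem_zpowers (g⁻¹ * q * g))
      calc (y : G) * q * (y : G)⁻¹ = g * ((g⁻¹ * y * g) * (g⁻¹ * q * g)) * g⁻¹ * (y : G)⁻¹ := by group
        _ = g * ((g⁻¹ * q * g) * (g⁻¹ * y * g)) * g⁻¹ * (y : G)⁻¹ := by rw [h1]
        _ = q := by group))
    have hy2' : orderOf y = 2 := by
      rw [← Subgroup.orderOf_coe, ← hy2, show g⁻¹ * (y : G) * g = MulAut.conj g⁻¹ (y : G) by rw [MulAut.conj_apply, inv_inv],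
        MulEquiv.orderOf_eq]
    have hinvS : ∀ u ∈ (S : Subgroup H), y * u * y⁻¹ = u⁻¹ := by
      intro u hu
      have hc : g⁻¹ * (u : G) * g ∈ Subgroup.centralizer (Q : Set G) := by
        refine Subgroup.mem_centralizer_iff.2 fun w hw => ?_
        obtain ⟨z, rfl⟩ := Subgroup.mem_zpowers_iff.1 hw
        obtain ⟨i, hi⟩ := Subgroup.mem_zpowers_iff.1 (hmemS u hu)
        have h5 : Commute q (u : G) := by
          rw [← hi, hqdef]
          exact ((Commute.refl ((s : H) : G)).pow_left _).zpow_right i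
        refine (Commute.zpow_left ?_ z).eq
        show g⁻¹ * q * g * (g⁻¹ * (u : G) * g) = g⁻¹ * (u : G) * g * (g⁻¹ * q * g)
        calc g⁻¹ * q * g * (g⁻¹ * (u : G) * g) = g⁻¹ * (q * u) * g := by group
          _ = g⁻¹ * ((u : G) * q) * g := by rw [h5.eq]
          _ = _ := by group
      refine Subtype.ext ?_
      have h6 := hyinv _ hc
      show (y : G) * (u : G) * (y : G)⁻¹ = (u : G)⁻¹
      calc (y : G) * (u : G) * (y : G)⁻¹ = g * ((g⁻¹ * y * g) * (g⁻¹ * u * g) * (g⁻¹ * y * g)⁻¹) * g⁻¹ := by group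
        _ = g * (g⁻¹ * u * g)⁻¹ * g⁻¹ := by rw [h6]
        _ = (u : G)⁻¹ := by group
    have hidx : (S : Subgroup H).index = 2 := hyo ▸ hy2'
    have hcard : 2 * Nat.card (S : Subgroup H) = Nat.card H := by
      rw [mul_comm, ← hidx, Subgroup.card_mul_index]
    have hyy : y * y = 1 := by rw [← pow_two, ← hy2', pow_orderOf_eq_one]
    obtain ⟨e⟩ := CfsgLib.Perm.Dickson.mulEquiv_dihedral hScyc hcard fun w hw => by
      obtain ⟨i, hi⟩ := hygen w
      obtain ⟨u, hu, rfl⟩ : ∃ u ∈ (S : Subgroup H), w = y * u := by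
        rcases Nat.even_or_odd i with ⟨j, hj⟩ | ⟨j, hj⟩
        · exfalso
          rw [hj, ← two_mul, pow_mul, pow_two, hyy, one_pow, inv_one, one_mul] at hi
          exact hw hi
        · rw [hj, pow_succ, pow_mul, pow_two, hyy, one_pow, one_mul] at hi
          exact ⟨y⁻¹ * w, hi, by group⟩
      calc y * u * (y * u) = (y * u * y) * u := by group
        _ = (y * u * y⁻¹) * u := by rw [inv_eq_of_mul_eq_one_left hyy]
        _ = 1 := by rw [hinvS u hu, inv_mul_cancel]
    refine ⟨k, ?_⟩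
    rw [← hk]
    exact ⟨e⟩

end Cfsg.Agent.S4082
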