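import Cfsg.Statements.S4083
import Cfsg.Agent.Lib.PGroup.PByCyclic
import Cfsg.Agent.Lib.Invol.DihedralSylow
import Cfsg.Agent.Lib.Invol.OrderTwelve
import Cfsg.Agent.Lib.Invol.DihedralSubgroup
import Cfsg.Agent.Lib.Perm.Dickson.Recog
import Cfsg.Agent.Lib.PGroup.DihedralSubgroups

set_option autoImplicit false
open Cfsg

namespace Cfsg.Agent.S4083

open DihedralGroup

theorem invol_eq {K : Type*} [Group K] [Finite K] [IsCyclic K] {a b : K} (ha : orderOf a = 2)
    (hb : orderOf b = 2) : a = b := by
  classical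
  haveI := Fintype.ofFinite K
  by_contra hab
  have h := IsCyclic.card_pow_eq_one_le (α := K) (n := 2) two_pos
  have hsub : ({1, a, b} : Finset K) ⊆ Finset.univ.filter (fun x => x ^ 2 = 1) := by
    intro x hx
    simp only [Finset.mem_insert, Finset.mem_singleton] at hx
    simp only [Finset.mem_filter, Finset.mem_univ, true_and]
    rcases hx with rfl | rfl | rfl
    · exact one_pow 2
    · rw [← ha]; exact pow_orderOf_eq_one _
    · rw [← hb]; exact pow_orderOf_eq_one _
  have h3 : ({1, a, b} : Finset K).card = 3 := Finset.card_eq_three.2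
    ⟨1, a, b, (CfsgLib.Invol.invol_ne_one ha).symm, (CfsgLib.Invol.invol_ne_one hb).symm, hab, rfl⟩
  have h4 := Finset.card_le_card hsub
  omega

/-- A four-subgroup of `G` as a pair of commuting involutions. -/
theorem four_of_pair {G : Type*} [Group G] [Finite G] {a b : G} (ha : a * a = 1) (hb : b * b = 1) (ha1 : a ≠ 1)
    (hb1 : b ≠ 1) (hab : a ≠ b) (hc : a * b = b * a) :
    ∃ K : Subgroup G, a ∈ K ∧ b ∈ K ∧ Nat.card K = 4 ∧ ∀ k ∈ K, k ^ 2 = 1 := by
  classical
  have hca : a * b * a = b := by rw [hc, mul_assoc, ha, mul_one]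
  let K : Subgroup G :=
    { carrier := {1, a, b, a * b}
      one_mem' := Or.inl rfl
      mul_mem' := by
        intro x y hx hy
        simp only [Set.mem_insert_iff, Set.mem_singleton_iff] at hx hy ⊢
        have h1 : a * (a * b) = b := by rw [← mul_assoc, ha, one_mul]
        have h2 : b * (a * b) = a := by rw [← mul_assoc, ← hc, mul_assoc, hb, mul_one]
        have h3 : a * b * b = a := by rw [mul_assoc, hb, mul_one]
        have h4 : a * b * (a * b) = 1 := by rw [← mul_assoc, hca, hb]
        rcases hx with rfl | rfl | rfl | rfl <;> rcases hy with rfl | rfl | rfl | rfl <;>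
          simp [ha, hb, ← hc, hca, h1, h2, h3, h4]
      inv_mem' := by
        intro x hx
        simp only [Set.mem_insert_iff, Set.mem_singleton_iff] at hx ⊢
        rcases hx with rfl | rfl | rfl | rfl
        · simp
        · simp [inv_eq_of_mul_eq_one_left ha]
        · simp [inv_eq_of_mul_eq_one_left hb]
        · right; right; right; rw [mul_inv_rev, inv_eq_of_mul_eq_one_left ha, inv_eq_of_mul_eq_one_left hb, hc] }
  refine ⟨K, Or.inr (Or.inl rfl), Or.inr (Or.inr (Or.inl rfl)), ?_, fun k hk => ?_⟩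
  · show Nat.card ({1, a, b, a * b} : Set G) = 4
    rw [Nat.card_coe_set_eq, Set.ncard_eq_toFinset_card', Set.toFinset_insert, Set.toFinset_insert, Set.toFinset_insert,
      Set.toFinset_singleton]
    have h1 : a * b ≠ 1 := fun h => hab ((eq_inv_of_mul_eq_one_left h).trans (inv_eq_of_mul_eq_one_left hb))
    have h2 : a * b ≠ a := fun h => hb1 (mul_eq_left.1 h)
    have h3 : a * b ≠ b := fun h => ha1 (mul_eq_right.1 h)
    simp [ha1.symm, hb1.symm, hab, h1.symm, h2.symm, h3.symm]
  · rcases hk with rfl | rfl | rfl | rfl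
    · simp
    · rw [pow_two, ha]
    · rw [pow_two, hb]
    · rw [pow_two, ← mul_assoc, hca, hb]

/-- A noncyclic subgroup of a dihedral two-group contains a central rotation and a reflection. -/
theorem exists_pair_of_noncyclic {H : Type*} [Group H] [Finite H] {n : ℕ} (φ : H →* DihedralGroup (2 ^ n))
    (hφ : Function.Injective φ) (hH : ¬ IsCyclic H) :
    ∃ z b : H, orderOf z = 2 ∧ orderOf b = 2 ∧ z ≠ b ∧ ∀ x, z * x = x * z := by
  haveI : NeZero (2 ^ n) := ⟨pow_ne_zero n two_ne_zero⟩
  obtain ⟨i, a, hi, ha, ha0⟩ := CfsgLib.PGroup.exists_sr_r_of_not_isCyclic φ.range fun h => hH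
    (by haveI := h; exact isCyclic_of_injective φ.rangeRestrict (fun u v huv => hφ (congrArg Subtype.val huv)))
  obtain ⟨b, hb⟩ := hi
  obtain ⟨c, hc⟩ := ha
  have hcn : c ≠ 1 := fun h => ha0 (by
    rw [h, map_one, DihedralGroup.one_def, r.injEq] at hc
    exact hc.symm)
  have hco : orderOf c ∣ 2 ^ n := by
    refine orderOf_dvd_of_pow_eq_one (hφ ?_)
    rw [map_pow, map_one, hc, r_pow, show ((2 ^ n : ℕ) : ZMod (2 ^ n)) = 0 from ZMod.natCast_self _, mul_zero, r_zero]
  obtain ⟨j, -, hj⟩ := (Nat.dvd_prime_pow Nat.prime_two).1 hco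
  have hj0 : j ≠ 0 := fun h => hcn (orderOf_eq_one_iff.1 (by rw [hj, h, pow_zero]))
  set z := c ^ 2 ^ (j - 1) with hz
  have hzo : orderOf z = 2 := by
    rw [hz, orderOf_pow_of_dvd (pow_ne_zero _ two_ne_zero) (hj ▸ pow_dvd_pow 2 (Nat.sub_le j 1)), hj,
      Nat.pow_div (Nat.sub_le j 1) two_pos, show j - (j - 1) = 1 by omega, pow_one]
  obtain ⟨w, hw⟩ : ∃ w, φ z = r w := ⟨_, by rw [hz, map_pow, hc, r_pow]⟩
  have hzz : z * z = 1 := CfsgLib.Invol.invol_mul_self hzo
  have hww : w + w = 0 := by
    have := congrArg φ hzz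
    rw [map_mul, map_one, hw, r_mul_r, DihedralGroup.one_def, r.injEq] at this
    exact this
  have hwneg : -w = w := neg_eq_of_add_eq_zero_left hww
  refine ⟨z, b, hzo, ?_, fun h => ?_, fun x => hφ ?_⟩
  · rw [← orderOf_injective φ hφ b, hb, orderOf_sr]
  · rw [← h, hw] at hb; cases hb
  · rw [map_mul, map_mul, hw]
    cases φ x with
    | r k => rw [r_mul_r, r_mul_r, add_comm]
    | sr k => rw [r_mul_sr, sr_mul_r, sub_eq_add_neg, hwneg]

/-- Let G be a finite group with Sylow 2-subgroup P. Every subgroup H of G whose Sylow 2-subgroup is normal in H with cyclic quotient is cyclic, dihedral of 2-power order, or isomorphic to the alternating group of degree 4, if and only if either P is cyclic, or P is dihedral (of order at least 4) and every elementary abelian subgroup K of order 4 of P satisfies C_G(K) = K. -/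
theorem result {G : Type*} [Group G] [Finite G] (P : Sylow 2 G) :
    (∀ H : Subgroup G, (∀ S : Sylow 2 ↥H, (S : Subgroup ↥H).Normal) →
        (∀ (S : Sylow 2 ↥H) [(S : Subgroup ↥H).Normal], IsCyclic (↥H ⧸ (S : Subgroup ↥H))) →
        IsCyclic H ∨ (∃ n : ℕ, Nonempty (H ≃* DihedralGroup (2 ^ n))) ∨ Nonempty (H ≃* alternatingGroup (Fin 4))) ↔
    (IsCyclic P ∨
      ((∃ n : ℕ, 1 ≤ n ∧ Nonempty ((P : Subgroup G) ≃* DihedralGroup (2 ^ n))) ∧
        ∀ K : Subgroup G, K ≤ P → Nat.card K = 4 → (∀ k ∈ K, k ^ 2 = 1) → Subgroup.centralizer (K : Set G) = K)) := by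
  classical
  constructor
  · intro h
    have h1 : ∀ S : Sylow 2 ↥(P : Subgroup G), (S : Subgroup ↥(P : Subgroup G)) = ⊤ := fun S =>
      (S.is_maximal' (P.2.to_subgroup ⊤) le_top).symm
    have h2 : ∀ (S : Sylow 2 ↥(P : Subgroup G)) [(S : Subgroup ↥(P : Subgroup G)).Normal],
        IsCyclic (↥(P : Subgroup G) ⧸ (S : Subgroup ↥(P : Subgroup G))) := fun S _ => by
      haveI : Subsingleton (↥(P : Subgroup G) ⧸ (S : Subgroup ↥(P : Subgroup G))) :=
        QuotientGroup.subsingleton_iff.2 (h1 S)
      infer_instance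
    rcases h (P : Subgroup G) (fun S => by rw [h1 S]; infer_instance) h2 with hc | ⟨n, ⟨e⟩⟩ | ⟨⟨e⟩⟩
    · exact Or.inl hc
    swap
    · exfalso
      obtain ⟨k, hk⟩ := P.2.exists_card_eq
      have h3 := Nat.card_congr e.toEquiv
      rw [hk, nat_card_alternatingGroup, Nat.card_fin] at h3
      have h4 : 3 ∣ 2 ^ k := by rw [h3]; decide
      have h5 := Nat.prime_three.dvd_of_dvd_pow h4
      omega
    rcases Nat.eq_zero_or_pos n with rfl | hn
    · refine Or.inl (isCyclic_of_prime_card (p := 2) ?_)
      rw [Nat.card_congr e.toEquiv, DihedralGroup.nat_card]; rfl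
    refine Or.inr ⟨⟨n, hn, ⟨e⟩⟩, fun K hKP hK4 hK2 => ?_⟩
    haveI : NeZero (2 ^ n) := ⟨pow_ne_zero n two_ne_zero⟩
    have hKc : ∀ a ∈ K, ∀ b ∈ K, a * b = b * a := by
      intro a ha b hb
      have e1 := hK2 _ (mul_mem ha hb)
      have e2 := hK2 _ ha
      have e3 := hK2 _ hb
      rw [pow_two] at e1 e2 e3
      calc a * b = (a * b)⁻¹ := (inv_eq_of_mul_eq_one_left e1).symm
        _ = b⁻¹ * a⁻¹ := mul_inv_rev a b
        _ = b * a := by rw [inv_eq_of_mul_eq_one_left e3, inv_eq_of_mul_eq_one_left e2]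
    have hcl : K ≤ Subgroup.centralizer (K : Set G) := fun a ha => Subgroup.mem_centralizer_iff.2 fun b hb => hKc b hb a ha
    obtain ⟨a, b, ha, hb, ha1, hb1, hab⟩ : ∃ a b, a ∈ K ∧ b ∈ K ∧ a ≠ 1 ∧ b ≠ 1 ∧ a ≠ b := by
      obtain ⟨a, ha, ha1⟩ : ∃ a ∈ K, a ≠ 1 := by
        by_contra! h'
        rw [(Subgroup.eq_bot_iff_forall K).2 h', Subgroup.card_bot] at hK4
        omega
      by_contra! h'
      have h5 : K ≤ Subgroup.zpowers a := fun b hb => by
        by_cases hb1 : b = 1
        · rw [hb1]; exact one_mem _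
        · rw [← h' a b ha hb ha1 hb1]; exact Subgroup.mem_zpowers _
      have h6 := Subgroup.card_le_of_le h5
      have h7 := Nat.le_of_dvd two_pos (orderOf_dvd_of_pow_eq_one (hK2 a ha))
      rw [Nat.card_zpowers, hK4] at h6
      omega
    have h2c : IsPGroup 2 (Subgroup.centralizer (K : Set G)) := by
      refine IsPGroup.iff_orderOf.2 fun x => ?_
      by_contra hx
      push Not at hx
      obtain ⟨r, hr, hr2, hrd⟩ : ∃ r, r.Prime ∧ r ≠ 2 ∧ r ∣ orderOf x := by
        by_contra! h'
        exact hx ((orderOf x).primeFactorsList.length)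
          (Nat.eq_prime_pow_of_unique_prime_dvd (orderOf_pos x).ne' fun {d} hd hdx => by
            by_contra hd2; exact h' d hd hd2 hdx)
      obtain ⟨c, hc⟩ := hrd
      set y : G := ((x ^ c : Subgroup.centralizer (K : Set G)) : G)
      have hyo : orderOf y = r := by
        rw [Subgroup.orderOf_coe, orderOf_pow_of_dvd (fun h0 => by
          rw [h0, mul_zero] at hc; exact (orderOf_pos x).ne' hc) (Dvd.intro_left r hc.symm), hc,
          Nat.mul_div_cancel _ (Nat.pos_of_ne_zero fun h0 => by
            rw [h0, mul_zero] at hc; exact (orderOf_pos x).ne' hc)]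
      have hyC : ∀ k ∈ K, k * y = y * k := Subgroup.mem_centralizer_iff.1 (x ^ c : Subgroup.centralizer (K : Set G)).2
      have hyN : y ∈ Subgroup.normalizer (K : Set G) :=
        Subgroup.centralizer_le_normalizer _ (Subgroup.mem_centralizer_iff.2 hyC)
      obtain ⟨hs1, hs2⟩ := CfsgLib.PByCyclic.sylow_normal_sup_zpowers (P.2.to_le hKP) hyN
      set H := K ⊔ Subgroup.zpowers y
      have haH : a ∈ H := Subgroup.mem_sup_left ha
      have hbH : b ∈ H := Subgroup.mem_sup_left hb
      have hyH : y ∈ H := Subgroup.mem_sup_right (Subgroup.mem_zpowers y)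
      rcases h H hs1 hs2 with hcyc | ⟨m, ⟨em⟩⟩ | ⟨⟨em⟩⟩
      · haveI := hcyc
        refine hab (congrArg Subtype.val (invol_eq (K := H)
          (a := ⟨a, haH⟩) (b := ⟨b, hbH⟩) ?_ ?_))
        · rw [Subgroup.orderOf_mk]; exact orderOf_eq_prime (hK2 a ha) ha1
        · rw [Subgroup.orderOf_mk]; exact orderOf_eq_prime (hK2 b hb) hb1
      · have h5 := orderOf_dvd_natCard (⟨y, hyH⟩ : H)
        rw [Subgroup.orderOf_mk, hyo, Nat.card_congr em.toEquiv, DihedralGroup.nat_card, ← pow_succ'] at h5
        exact hr2 ((Nat.prime_dvd_prime_iff_eq hr Nat.prime_two).1 (hr.dvd_of_dvd_pow h5))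
      · have hHc : H ≤ Subgroup.centralizer ({a} : Set G) := sup_le
          (fun k hk => Subgroup.mem_centralizer_singleton_iff.2 (hKc k hk a ha))
          (Subgroup.zpowers_le.2 (Subgroup.mem_centralizer_singleton_iff.2 (hyC a ha).symm))
        have hz : em ⟨a, haH⟩ ∈ Subgroup.center (alternatingGroup (Fin 4)) := by
          refine Subgroup.mem_center_iff.2 fun g => ?_
          obtain ⟨u, rfl⟩ := em.surjective g
          rw [← map_mul, ← map_mul]
          exact congrArg em (Subtype.ext (Subgroup.mem_centralizer_singleton_iff.1 (hHc u.2)))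
        rw [alternatingGroup.center_eq_bot (by simp), Subgroup.mem_bot, MulEquiv.map_eq_one_iff] at hz
        exact ha1 (congrArg Subtype.val hz)
    obtain ⟨P', hP'⟩ := h2c.exists_le_sylow
    let φ : (P' : Subgroup G) →* DihedralGroup (2 ^ n) := ((P'.equiv P).trans e).toMonoidHom
    have hφ : Function.Injective φ := ((P'.equiv P).trans e).injective
    refine le_antisymm (fun x hx => ?_) hcl
    rcases CfsgLib.Invol.mem_four_of_commute hφ
      (a := ⟨a, hP' (hcl ha)⟩) (b := ⟨b, hP' (hcl hb)⟩) (x := ⟨x, hP' hx⟩)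
      (by rw [Subgroup.orderOf_mk]; exact orderOf_eq_prime (hK2 a ha) ha1)
      (by rw [Subgroup.orderOf_mk]; exact orderOf_eq_prime (hK2 b hb) hb1)
      (fun h' => hab (congrArg Subtype.val h')) (Subtype.ext (hKc a ha b hb))
      (Subtype.ext (Subgroup.mem_centralizer_iff.1 hx a ha).symm)
      (Subtype.ext (Subgroup.mem_centralizer_iff.1 hx b hb).symm) with h' | h' | h' | h'
    · rw [show x = 1 from congrArg Subtype.val h']; exact one_mem K
    · rw [show x = a from congrArg Subtype.val h']; exact ha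
    · rw [show x = b from congrArg Subtype.val h']; exact hb
    · rw [show x = a * b from congrArg Subtype.val h']; exact mul_mem ha hb
  · intro hcase H hn hq
    obtain ⟨S⟩ : Nonempty (Sylow 2 H) := inferInstance
    haveI := hn S
    obtain ⟨y, hyco, hyo, hygen⟩ := CfsgLib.PByCyclic.exists_complement_generator S (hq S)
    obtain ⟨P', hP'⟩ := (S.2.map H.subtype).exists_le_sylow
    have hyodd : Odd (orderOf y) := Nat.coprime_two_left.1 hyco.symm
    let ι : (S : Subgroup H) →* (P' : Subgroup G) := (Subgroup.inclusion hP').comp (H.subtype.subgroupMap (S : Subgroup H))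
    have hι : Function.Injective ι := (Subgroup.inclusion_injective hP').comp fun (a b : (S : Subgroup H)) hab =>
      Subtype.ext (H.subtype_injective (congrArg Subtype.val hab :))
    rcases hcase with hPc | ⟨⟨n, hn1, ⟨e⟩⟩, hK⟩
    · haveI : IsCyclic (P : Subgroup G) := hPc
      haveI : IsCyclic (P' : Subgroup G) := (P.equiv P').isCyclic.1 inferInstance
      haveI hScyc : IsCyclic (S : Subgroup H) := isCyclic_of_injective ι hι
      refine Or.inl (CfsgLib.PByCyclic.isCyclic_of_commute S hScyc ?_ hyo hyco)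
      intro u hu
      obtain ⟨⟨s, hs⟩⟩ := id hScyc
      obtain ⟨k, hk⟩ := S.2.exists_card_eq
      have hso : orderOf (s : H) = 2 ^ k := by
        rw [Subgroup.orderOf_coe, orderOf_eq_card_of_forall_mem_zpowers hs, hk]
      have hmemS : ∀ w ∈ (S : Subgroup H), w ∈ Subgroup.zpowers (s : H) := fun w hw => by
        obtain ⟨z, hz⟩ := Subgroup.mem_zpowers_iff.1 (hs ⟨w, hw⟩)
        exact ⟨z, congrArg Subtype.val hz⟩
      by_cases hk0 : k = 0
      · rw [hk0, pow_zero, Subgroup.card_eq_one] at hk
        have h1 : u = 1 := Subgroup.mem_bot.1 (hk ▸ hu)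
        rw [h1, mul_one, one_mul]
      have hqo : orderOf ((s : H) ^ 2 ^ (k - 1)) = 2 := by
        rw [orderOf_pow_of_dvd (pow_ne_zero _ two_ne_zero) (hso ▸ pow_dvd_pow 2 (Nat.sub_le k 1)), hso,
          Nat.pow_div (Nat.sub_le k 1) two_pos, show k - (k - 1) = 1 by omega, pow_one]
      have hfix : y * ((s : H) ^ 2 ^ (k - 1)) * y⁻¹ = (s : H) ^ 2 ^ (k - 1) := by
        have hmem : (s : H) ^ 2 ^ (k - 1) ∈ (S : Subgroup H) := pow_mem s.2 _
        have hmem2 : y * ((s : H) ^ 2 ^ (k - 1)) * y⁻¹ ∈ (S : Subgroup H) :=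
          (inferInstance : (S : Subgroup H).Normal).conj_mem _ hmem y
        refine congrArg Subtype.val (invol_eq (K := (S : Subgroup H))
          (a := ⟨_, hmem2⟩) (b := ⟨_, hmem⟩) ?_ ?_)
        · rw [Subgroup.orderOf_mk, ← MulAut.conj_apply, MulEquiv.orderOf_eq, hqo]
        · rw [Subgroup.orderOf_mk, hqo]
      have hc := CfsgLib.PByCyclic.commute_of_fix hso hyco (hmemS _ ((inferInstance : (S : Subgroup H).Normal).conj_mem _ s.2 y))
        (pow_mem (Subgroup.mem_zpowers _) _) hqo hfix
      obtain ⟨z, rfl⟩ := Subgroup.mem_zpowers_iff.1 (hmemS u hu)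
      exact ((show Commute y (s : H) from hc).zpow_right z).eq
    haveI : NeZero (2 ^ n) := ⟨pow_ne_zero n two_ne_zero⟩
    -- centralizers of four-subgroups
    have hfour : ∀ a b : H, a ∈ (S : Subgroup H) → b ∈ (S : Subgroup H) → orderOf a = 2 → orderOf b = 2 → a ≠ b →
        a * b = b * a → ∀ x : H, x * a = a * x → x * b = b * x → Odd (orderOf x) → x = 1 := by
      intro a b haS hbS ha hb hab hc x hxa hxb hxo
      obtain ⟨g, hg⟩ := MulAction.exists_smul_eq G P P'
      have hin : ∀ w : H, w ∈ (S : Subgroup H) → g⁻¹ * (w : G) * g ∈ (P : Subgroup G) := fun w hw => by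
        have h1 : (w : G) ∈ (P' : Subgroup G) := hP' ⟨w, hw, rfl⟩
        rw [← hg] at h1
        obtain ⟨v, hv, hve⟩ := h1
        rw [← hve]
        show g⁻¹ * (g * v * g⁻¹) * g ∈ _
        rw [show g⁻¹ * (g * v * g⁻¹) * g = v by group]
        exact hv
      let c : G →* G := (MulAut.conj g⁻¹).toMonoidHom
      have hcapp : ∀ w, c w = g⁻¹ * w * g := fun w => by show g⁻¹ * w * g⁻¹⁻¹ = _; rw [inv_inv]
      have hci : Function.Injective c := (MulAut.conj g⁻¹).injective
      obtain ⟨K, haK, hbK, hK4, hK2⟩ := four_of_pair (a := c (a : G)) (b := c (b : G))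
        (by rw [← map_mul, ← Subgroup.coe_mul, CfsgLib.Invol.invol_mul_self ha, Subgroup.coe_one, map_one])
        (by rw [← map_mul, ← Subgroup.coe_mul, CfsgLib.Invol.invol_mul_self hb, Subgroup.coe_one, map_one])
        (fun h' => CfsgLib.Invol.invol_ne_one ha (Subtype.ext (hci (h'.trans (map_one c).symm))))
        (fun h' => CfsgLib.Invol.invol_ne_one hb (Subtype.ext (hci (h'.trans (map_one c).symm))))
        (fun h' => hab (Subtype.ext (hci h')))
        (by rw [← map_mul, ← map_mul, ← Subgroup.coe_mul, hc, Subgroup.coe_mul])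
      have hKeq : K = Subgroup.closure {c (a : G), c (b : G)} := by
        refine (Subgroup.eq_of_le_of_card_ge ((Subgroup.closure_le _).2 ?_) ?_).symm
        · rintro _ (rfl | rfl)
          exacts [haK, hbK]
        · rw [hK4]
          have h1 : ({1, c (a : G), c (b : G), c (a : G) * c (b : G)} : Set G) ⊆ Subgroup.closure {c (a : G), c (b : G)} := by
            rintro _ (rfl | rfl | rfl | rfl)
            · exact one_mem _
            · exact Subgroup.subset_closure (Or.inl rfl)
            · exact Subgroup.subset_closure (Or.inr rfl)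
            · exact mul_mem (Subgroup.subset_closure (Or.inl rfl)) (Subgroup.subset_closure (Or.inr rfl))
          refine le_trans (le_of_eq ?_) (Set.ncard_le_ncard h1 (Set.toFinite _))
          rw [Set.ncard_eq_toFinset_card', Set.toFinset_insert, Set.toFinset_insert, Set.toFinset_insert, Set.toFinset_singleton]
          have n1 : c (a : G) ≠ 1 := fun h' => CfsgLib.Invol.invol_ne_one ha (Subtype.ext (hci (h'.trans (map_one c).symm)))
          have n2 : c (b : G) ≠ 1 := fun h' => CfsgLib.Invol.invol_ne_one hb (Subtype.ext (hci (h'.trans (map_one c).symm)))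
          have n3 : c (a : G) ≠ c (b : G) := fun h' => hab (Subtype.ext (hci h'))
          have n4 : c (a : G) * c (b : G) ≠ 1 := fun h' => n3 (by
            rw [eq_inv_of_mul_eq_one_left h', ← map_inv, ← Subgroup.coe_inv, CfsgLib.Invol.invol_inv hb])
          have n5 : c (a : G) * c (b : G) ≠ c (a : G) := fun h' => n2 (mul_eq_left.1 h')
          have n6 : c (a : G) * c (b : G) ≠ c (b : G) := fun h' => n1 (mul_eq_right.1 h')
          simp [n1.symm, n2.symm, n3, n4.symm, n5.symm, n6.symm]
      have hKP : K ≤ (P : Subgroup G) := by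
        rw [hKeq, Subgroup.closure_le]
        rintro _ (rfl | rfl)
        · rw [SetLike.mem_coe, hcapp]; exact hin a haS
        · rw [SetLike.mem_coe, hcapp]; exact hin b hbS
      have hxK : c (x : G) ∈ K := by
        rw [← hK K hKP hK4 hK2]
        refine Subgroup.mem_centralizer_iff.2 fun w hw => ?_
        have hle : K ≤ Subgroup.centralizer ({c (x : G)} : Set G) := by
          rw [hKeq, Subgroup.closure_le]
          rintro _ (rfl | rfl) <;> refine Subgroup.mem_centralizer_singleton_iff.2 ?_ <;>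
            rw [← map_mul, ← map_mul, ← Subgroup.coe_mul, ← Subgroup.coe_mul]
          · rw [hxa]
          · rw [hxb]
        exact Subgroup.mem_centralizer_singleton_iff.1 (hle hw)
      have hd := orderOf_dvd_of_pow_eq_one (hK2 _ hxK)
      rw [orderOf_injective c hci, Subgroup.orderOf_coe] at hd
      have h3 := Nat.dvd_gcd hd (dvd_refl (orderOf x))
      rw [Nat.Coprime.gcd_eq_one (Nat.coprime_two_left.2 hxo), Nat.dvd_one] at h3
      exact orderOf_eq_one_iff.1 h3
    let φ : (S : Subgroup H) →* DihedralGroup (2 ^ n) := ((P'.equiv P).trans e).toMonoidHom.comp ι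
    have hφ : Function.Injective φ := ((P'.equiv P).trans e).injective.comp hι
    by_cases hScyc : IsCyclic (S : Subgroup H)
    · refine Or.inl (CfsgLib.PByCyclic.isCyclic_of_commute S hScyc ?_ hyo hyco)
      let σ : MulAut (S : Subgroup H) := MulAut.conjNormal y
      intro u hu
      by_cases hS1 : (S : Subgroup H) = ⊥
      · have h1 : u = 1 := Subgroup.mem_bot.1 (hS1 ▸ hu)
        rw [h1, mul_one, one_mul]
      obtain ⟨k, hk⟩ := S.2.exists_card_eq
      obtain ⟨t, ht⟩ := exists_prime_orderOf_dvd_card' (G := (S : Subgroup H)) 2 (by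
        rcases k with _ | k
        · rw [pow_zero, Subgroup.card_eq_one] at hk; exact absurd hk hS1
        · exact hk ▸ dvd_pow_self 2 (Nat.succ_ne_zero k))
      haveI := hScyc
      have hσ1 : σ = 1 := CfsgLib.Invol.aut_eq_one_of_dihedral S.2 φ hφ σ hyodd
        (by rw [← map_pow, pow_orderOf_eq_one, map_one]) ht
        (invol_eq (by rw [MulEquiv.orderOf_eq, ht]) ht)
      have h1 := congrArg Subtype.val (DFunLike.congr_fun hσ1 ⟨u, hu⟩)
      rw [MulAut.conjNormal_apply] at h1
      exact mul_inv_eq_iff_eq_mul.1 h1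
    right
    obtain ⟨z, b, hz, hb, hzb, hzc⟩ := exists_pair_of_noncyclic φ hφ hScyc
    have hzH : orderOf (z : H) = 2 := by rw [Subgroup.orderOf_coe, hz]
    have hbH : orderOf (b : H) = 2 := by rw [Subgroup.orderOf_coe, hb]
    have hzbc : (z : H) * b = b * z := congrArg Subtype.val (hzc b)
    let σ : MulAut (S : Subgroup H) := MulAut.conjNormal y
    have hσ : ∀ w : (S : Subgroup H), ((σ w : (S : Subgroup H)) : H) = y * w * y⁻¹ := fun w => MulAut.conjNormal_apply y w
    by_cases hσz : σ z = z
    · left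
      have hσ1 : σ = 1 := CfsgLib.Invol.aut_eq_one_of_dihedral S.2 φ hφ σ hyodd
        (by rw [← map_pow, pow_orderOf_eq_one, map_one]) hz hσz
      have hcomm : ∀ w : (S : Subgroup H), y * w = w * y := fun w => by
        have h1 := congrArg Subtype.val (DFunLike.congr_fun hσ1 w)
        rw [hσ] at h1
        exact mul_inv_eq_iff_eq_mul.1 h1
      have hy1 : y = 1 := hfour z b z.2 b.2 hzH hbH (fun h' => hzb (Subtype.ext h')) hzbc y (hcomm z) (hcomm b) hyodd
      rw [hy1, orderOf_one] at hyo
      have hStop : (S : Subgroup H) = ⊤ := Subgroup.index_eq_one.1 hyo.symm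
      -- the rotations form a cyclic subgroup of index two
      let C : Subgroup (S : Subgroup H) := (Subgroup.zpowers (r (1 : ZMod (2 ^ n)))).comap φ
      haveI hCc : IsCyclic C := isCyclic_of_injective (φ.subgroupComap _)
        (fun u v huv => Subtype.ext (hφ (congrArg Subtype.val huv)))
      have hr : ∀ i : ZMod (2 ^ n), r i ∈ Subgroup.zpowers (r (1 : ZMod (2 ^ n))) :=
        fun i => ⟨(i.val : ℤ), by simp [zpow_natCast]⟩
      have hsr : ∀ w, w ∉ C → ∃ i, φ w = sr i := by
        intro w hw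
        cases hc : φ w with
        | r i => exact absurd (show φ w ∈ _ from hc ▸ hr i) hw
        | sr i => exact ⟨i, rfl⟩
      have hout : ∀ w, w ∉ C → w * w = 1 := fun w hw => by
        obtain ⟨i, hi⟩ := hsr w hw
        refine hφ ?_
        rw [map_mul, hi, sr_mul_self, map_one]
      obtain ⟨w₀, hw₀⟩ : ∃ w, w ∉ C := by
        by_contra! h'
        refine hScyc ?_
        haveI := hCc
        exact isCyclic_of_surjective C.subtype (fun w => ⟨⟨w, h' w⟩, rfl⟩)
      have hidx : C.index = 2 := Subgroup.index_eq_two_iff.2 ⟨w₀, fun w => by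
        by_cases hw : w ∈ C
        · exact Or.inr ⟨hw, fun h' => hw₀ (by simpa using mul_mem (inv_mem hw) h')⟩
        · refine Or.inl ⟨?_, hw⟩
          obtain ⟨i, hi⟩ := hsr w hw
          obtain ⟨j, hj⟩ := hsr w₀ hw₀
          show φ (w * w₀) ∈ Subgroup.zpowers (r (1 : ZMod (2 ^ n)))
          rw [map_mul, hi, hj, sr_mul_sr]
          exact hr _⟩
      obtain ⟨e'⟩ := CfsgLib.Perm.Dickson.mulEquiv_dihedral hCc (by have h1 := C.card_mul_index; rw [hidx] at h1; omega) hout
      obtain ⟨k, hk⟩ := (S.2.to_subgroup C).exists_card_eq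
      refine ⟨k, ?_⟩
      rw [← hk]
      exact ⟨((Subgroup.topEquiv.symm.trans (MulEquiv.subgroupCongr hStop.symm)).trans e')⟩
    right
    have hz' : orderOf (σ z) = 2 := by rw [MulEquiv.orderOf_eq, hz]
    have hz'c : ∀ w, σ z * w = w * σ z := fun w => by
      obtain ⟨u, rfl⟩ := σ.surjective w
      rw [← map_mul, ← map_mul, hzc u]
    have hall : ∀ w : (S : Subgroup H), w = 1 ∨ w = z ∨ w = σ z ∨ w = z * σ z := fun w =>
      CfsgLib.Invol.mem_four_of_commute hφ hz hz' (Ne.symm hσz) (hzc _) (hzc w).symm (hz'c w).symm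
    have hS4 : Nat.card (S : Subgroup H) = 4 := by
      refine le_antisymm ?_ ?_
      · have hsurj : Function.Surjective (![1, z, σ z, z * σ z] : Fin 4 → (S : Subgroup H)) := fun w => by
          rcases hall w with h' | h' | h' | h'
          exacts [⟨0, h'.symm⟩, ⟨1, h'.symm⟩, ⟨2, h'.symm⟩, ⟨3, h'.symm⟩]
        simpa using Nat.card_le_card_of_surjective _ hsurj
      · obtain ⟨k, hk⟩ := S.2.exists_card_eq
        have h3 : 3 ≤ Nat.card (S : Subgroup H) := by
          have hinj : Function.Injective (![1, z, σ z] : Fin 3 → (S : Subgroup H)) := by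
            intro i j hij
            fin_cases i <;> fin_cases j <;> first
              | rfl
              | exact absurd hij (CfsgLib.Invol.invol_ne_one hz).symm
              | exact absurd hij (CfsgLib.Invol.invol_ne_one hz)
              | exact absurd hij (CfsgLib.Invol.invol_ne_one hz').symm
              | exact absurd hij (CfsgLib.Invol.invol_ne_one hz')
              | exact absurd hij hσz
              | exact absurd hij.symm hσz
          simpa using Nat.card_le_card_of_injective _ hinj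
        rcases k with _ | _ | k
        · omega
        · omega
        · rw [hk, pow_succ, pow_succ]; have := Nat.one_le_two_pow (n := k); omega
    have hσσ : σ (σ z) = z * σ z := by
      rcases hall (σ (σ z)) with h' | h' | h' | h'
      · exact absurd h' (CfsgLib.Invol.invol_ne_one (by rw [MulEquiv.orderOf_eq, hz']))
      · exfalso
        -- `σ ^ 2` fixes an involution
        have h2 : σ ^ 2 = 1 := CfsgLib.Invol.aut_eq_one_of_dihedral S.2 φ hφ (σ ^ 2) hyodd
          (by rw [← pow_mul, mul_comm, pow_mul, ← map_pow, pow_orderOf_eq_one, map_one, one_pow]) hz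
          (by rw [pow_two]; exact h')
        have h1 : σ ^ orderOf y = 1 := by rw [← map_pow, pow_orderOf_eq_one, map_one]
        obtain ⟨j, hj⟩ := hyodd
        rw [hj, pow_succ, pow_mul, h2, one_pow, one_mul] at h1
        exact hσz (by rw [h1]; rfl)
      · exact absurd (σ.injective h') hσz
      · exact h'
    have h3fix : σ (σ (σ z)) = z := by
      rw [hσσ, map_mul, hσσ, ← mul_assoc, hz'c z, mul_assoc, CfsgLib.Invol.invol_mul_self hz', mul_one]
    have hσ3 : σ ^ 3 = 1 := CfsgLib.Invol.aut_eq_one_of_dihedral S.2 φ hφ (σ ^ 3) hyodd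
      (by rw [← pow_mul, mul_comm, pow_mul, ← map_pow, pow_orderOf_eq_one, map_one, one_pow]) hz
      (by rw [pow_succ, pow_two]; exact h3fix)
    have hy3 : y ^ 3 = 1 := by
      have hc3 : ∀ w : (S : Subgroup H), y ^ 3 * w = w * y ^ 3 := fun w => by
        have h1 : MulAut.conjNormal (H := (S : Subgroup H)) (y ^ 3) = 1 := (map_pow _ y 3).trans hσ3
        have h2 := congrArg Subtype.val (DFunLike.congr_fun h1 w)
        rw [MulAut.conjNormal_apply] at h2
        exact mul_inv_eq_iff_eq_mul.1 h2
      refine hfour z (σ z) z.2 (σ z).2 hzH (by rw [Subgroup.orderOf_coe, hz'])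
        (fun h' => hσz (Subtype.ext h').symm) (congrArg Subtype.val (hzc (σ z))) _ (hc3 z) (hc3 (σ z)) ?_
      exact Odd.of_dvd_nat hyodd (orderOf_pow_dvd 3)
    have hy1 : y ≠ 1 := fun h' => hσz (Subtype.ext (by rw [hσ, h', one_mul, inv_one, mul_one]))
    have hy3' : orderOf y = 3 := orderOf_eq_prime hy3 hy1
    refine CfsgLib.Invol.mulEquiv_alternating_four ?_ fun w hw hwc => ?_
    · rw [← (S : Subgroup H).card_mul_index, hS4, ← hyo, hy3']
    have hwS : w ∈ (S : Subgroup H) := by
      have hp : IsPGroup 2 (Subgroup.zpowers w) := IsPGroup.of_card (n := 1) (by rw [Nat.card_zpowers, hw, pow_one])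
      exact le_sup_right.trans (S.is_maximal' (IsPGroup.to_sup_of_normal_left S.2 hp) le_sup_left).le
        (Subgroup.mem_zpowers w)
    have hσw : σ ⟨w, hwS⟩ = ⟨w, hwS⟩ := Subtype.ext (by
      rw [hσ]
      show y * w * y⁻¹ = w
      rw [Subgroup.mem_center_iff.1 hwc y, mul_inv_cancel_right])
    have hσ1 : σ = 1 := CfsgLib.Invol.aut_eq_one_of_dihedral S.2 φ hφ σ hyodd
      (by rw [← map_pow, pow_orderOf_eq_one, map_one]) (by rw [Subgroup.orderOf_mk, hw]) hσw
    exact hσz (by rw [hσ1]; rfl)

end Cfsg.Agent.S4083
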