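import Cfsg.Statements.S4084
import Cfsg.Agent.Lib.Coprime.Core

set_option autoImplicit false
set_option linter.style.haveILetI false
open Cfsg

namespace Cfsg.Agent.S4084

theorem exists_card_dvd {G H : Type*} [Group G] [Finite G] [Group H] [Finite H] (e : G ≃ H)
    (he : ∀ x y : G, Commute x y ↔ Commute (e x) (e y)) {p q : ℕ} (hp : p.Prime) (hq : q.Prime)
    (hpq : p ≠ q) (g : G) (hg : orderOf g = p * q) : ∃ h : H, orderOf h = p * q := by
  obtain ⟨A, ⟨hgA, hA⟩, hmax⟩ := (Set.toFinite {A : Subgroup G | g ∈ A ∧
    ∀ a ∈ A, ∀ b ∈ A, Commute a b}).exists_maximal ⟨Subgroup.zpowers g, Subgroup.mem_zpowers g, by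
      rintro _ ⟨i, rfl⟩ _ ⟨j, rfl⟩
      exact Commute.zpow_zpow_self g i j⟩
  have hself : ∀ x : G, (∀ a ∈ A, Commute a x) → x ∈ A := by
    intro x hx
    let A' := Subgroup.closure ((A : Set G) ∪ {x})
    have hA' : ∀ a ∈ A', ∀ b ∈ A', Commute a b := by
      haveI : IsMulCommutative A' := Subgroup.isMulCommutative_closure fun a ha b hb => by
        rcases ha with ha | rfl <;> rcases hb with hb | rfl
        · exact hA a ha b hb
        · exact hx a ha
        · exact (hx b hb).symm
        · rfl
      exact fun a ha b hb => congrArg Subtype.val (isMulCommutative_iff.1 ‹_› (⟨a, ha⟩ : A') ⟨b, hb⟩)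
    have hle : A' ≤ A := hmax ⟨Subgroup.subset_closure (Or.inl hgA), hA'⟩
      fun a ha => Subgroup.subset_closure (Or.inl ha)
    exact hle (Subgroup.subset_closure (Or.inr rfl))
  let K : Subgroup H := Subgroup.centralizer (e '' (A : Set G))
  have hK : ∀ h : H, h ∈ K ↔ e.symm h ∈ A := by
    intro h
    rw [Subgroup.mem_centralizer_iff, Set.forall_mem_image]
    constructor
    · intro h'
      refine hself _ fun a ha => (he a _).2 ?_
      rw [Equiv.apply_symm_apply]
      exact h' ha
    · intro h' a ha
      have := (he a _).1 (hA a ha _ h')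
      rw [Equiv.apply_symm_apply] at this
      exact this
  have hcard : Nat.card K = Nat.card A := Nat.card_congr
    { toFun := fun h => ⟨e.symm h, (hK h).1 h.2⟩
      invFun := fun a => ⟨e a, (hK _).2 (by rw [Equiv.symm_apply_apply]; exact a.2)⟩
      left_inv := fun h => Subtype.ext (e.apply_symm_apply h)
      right_inv := fun a => Subtype.ext (e.symm_apply_apply a) }
  have hd : p * q ∣ Nat.card K := by rw [hcard, ← hg]; exact A.orderOf_dvd_natCard hgA
  haveI := Fact.mk hp
  haveI := Fact.mk hq
  obtain ⟨a, ha⟩ := exists_prime_orderOf_dvd_card' (G := K) p ((dvd_mul_right p q).trans hd)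
  obtain ⟨b, hb⟩ := exists_prime_orderOf_dvd_card' (G := K) q ((dvd_mul_left q p).trans hd)
  rw [← Subgroup.orderOf_coe] at ha hb
  have hab : Commute (a : H) (b : H) := by
    have := (he _ _).1 (hA _ ((hK _).1 a.2) _ ((hK _).1 b.2))
    rwa [Equiv.apply_symm_apply, Equiv.apply_symm_apply] at this
  exact ⟨a * b, by rw [hab.orderOf_mul_eq_mul_orderOf_of_coprime
    (by rw [ha, hb]; exact (Nat.coprime_primes hp hq).2 hpq), ha, hb]⟩

/-- Let G and H be finite groups whose commuting graphs are isomorphic: there is a bijection e : G → H with x, y commuting exactly when e(x), e(y) commute. Then G and H have the same prime graph: for distinct primes p, q, G has an element of order pq if and only if H does (and #G = #H, so the prime divisors agree). -/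
theorem result {G H : Type*} [Group G] [Finite G] [Group H] [Finite H] (e : G ≃ H)
    (he : ∀ x y : G, Commute x y ↔ Commute (e x) (e y))
    {p q : ℕ} (hp : p.Prime) (hq : q.Prime) (hpq : p ≠ q) :
    (∃ g : G, orderOf g = p * q) ↔ (∃ h : H, orderOf h = p * q) := by
  constructor
  · rintro ⟨g, hg⟩
    exact exists_card_dvd e he hp hq hpq g hg
  · rintro ⟨h, hh⟩
    exact exists_card_dvd e.symm (fun x y => by rw [he, e.apply_symm_apply, e.apply_symm_apply])
      hp hq hpq h hh

end Cfsg.Agent.S4084
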