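import Cfsg.Statements.S4085
import Mathlib.GroupTheory.SpecificGroups.Cyclic
import Mathlib.Data.Nat.Totient
import Mathlib.Data.Fintype.Order
import Mathlib.Tactic

set_option autoImplicit false
open Cfsg

namespace Cfsg.Agent.S4085

open Subgroup in
/-- Closed neighbourhood of `v` in the power graph. -/
def nbhd {G : Type*} [Group G] (v : G) : Set G :=
  {u | u ∈ Subgroup.zpowers v ∨ v ∈ Subgroup.zpowers u}

/-- Nontrivial twins of `v` in the power graph. -/
def twins {G : Type*} [Group G] (v : G) : Set G :=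
  {u | u ≠ 1 ∧ nbhd u = nbhd v}

variable {G : Type*} [Group G] [Finite G]

theorem nbhd_comm (u v : G) : u ∈ nbhd v ↔ v ∈ nbhd u := Or.comm

theorem self_mem_nbhd (v : G) : v ∈ nbhd v := Or.inl (Subgroup.mem_zpowers v)

/-- In a cyclic subgroup membership in `zpowers` is divisibility of orders. -/
theorem mem_zpowers_iff_dvd {c x y : G} (hx : x ∈ Subgroup.zpowers c)
    (hy : y ∈ Subgroup.zpowers c) : x ∈ Subgroup.zpowers y ↔ orderOf x ∣ orderOf y := by
  constructor
  · intro h
    rw [← Nat.card_zpowers, ← Nat.card_zpowers]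
    exact Subgroup.card_dvd_of_le (Subgroup.zpowers_le.mpr h)
  · intro h
    haveI : IsCyclic (Subgroup.zpowers c) := inferInstance
    have hd := h
    rw [← Nat.card_zpowers, ← Nat.card_zpowers] at hd
    have hle : Subgroup.zpowers x ≤ Subgroup.zpowers y := by
      obtain ⟨a, ha⟩ := Subgroup.mem_zpowers_iff.mp hx
      obtain ⟨b, hb⟩ := Subgroup.mem_zpowers_iff.mp hy
      have hx' : (⟨x, hx⟩ : Subgroup.zpowers c) ∈
          Subgroup.zpowers (⟨y, hy⟩ : Subgroup.zpowers c) := by
        classical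
        haveI : Fintype (Subgroup.zpowers c) := Fintype.ofFinite _
        set x' : Subgroup.zpowers c := ⟨x, hx⟩
        set y' : Subgroup.zpowers c := ⟨y, hy⟩
        have ho : orderOf x' ∣ orderOf y' := by
          rw [← Subgroup.orderOf_coe x', ← Subgroup.orderOf_coe y']
          exact h
        have hpow : x' ^ orderOf y' = 1 := orderOf_dvd_iff_pow_eq_one.mp ho
        have hs : (Finset.univ.filter fun t : Subgroup.zpowers c => t ^ orderOf y' = 1).card
            ≤ orderOf y' := IsCyclic.card_pow_eq_one_le (orderOf_pos y')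
        by_contra hn
        have hsub : insert x' (Subgroup.zpowers y' : Set (Subgroup.zpowers c)) ⊆
            {t | t ^ orderOf y' = 1} := by
          intro t ht
          rcases Set.mem_insert_iff.mp ht with rfl | ht
          · exact hpow
          · obtain ⟨k, rfl⟩ := Subgroup.mem_zpowers_iff.mp ht
            show (y' ^ k) ^ orderOf y' = 1
            rw [← zpow_natCast, ← zpow_mul, mul_comm, zpow_mul, zpow_natCast,
              pow_orderOf_eq_one, one_zpow]
        have hcard := Set.ncard_le_ncard hsub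
        rw [Set.ncard_insert_of_notMem hn] at hcard
        have h1 : (Subgroup.zpowers y' : Set (Subgroup.zpowers c)).ncard = orderOf y' := by
          rw [← Nat.card_coe_set_eq]
          exact Nat.card_zpowers y'
        have h2 : {t : Subgroup.zpowers c | t ^ orderOf y' = 1}.ncard ≤ orderOf y' := by
          rw [Set.ncard_eq_toFinset_card', Set.toFinset_ofFinset] <;> exact hs
        omega
      obtain ⟨k, hk⟩ := Subgroup.mem_zpowers_iff.mp hx'
      exact Subgroup.zpowers_le.mpr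
        (Subgroup.mem_zpowers_iff.mpr ⟨k, by simpa using congrArg Subtype.val hk⟩)
    exact hle (Subgroup.mem_zpowers x)

/-- `c` generates a maximal cyclic subgroup. -/
def IsMaxCyc (c : G) : Prop := ∀ w : G, c ∈ Subgroup.zpowers w → w ∈ Subgroup.zpowers c

theorem exists_maxCyc (g : G) : ∃ c : G, g ∈ Subgroup.zpowers c ∧ IsMaxCyc c := by
  haveI : Nonempty {c : G // g ∈ Subgroup.zpowers c} := ⟨⟨g, Subgroup.mem_zpowers g⟩⟩
  obtain ⟨⟨c, hc⟩, hmax⟩ := Finite.exists_max fun c : {c : G // g ∈ Subgroup.zpowers c} =>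
    orderOf c.1
  refine ⟨c, hc, fun w hw => ?_⟩
  have hgw : g ∈ Subgroup.zpowers w := Subgroup.zpowers_le.mpr hw hc
  have hle : Subgroup.zpowers c ≤ Subgroup.zpowers w := Subgroup.zpowers_le.mpr hw
  have := Subgroup.eq_of_le_of_card_ge hle (by
    rw [Nat.card_zpowers, Nat.card_zpowers]; exact hmax ⟨w, hgw⟩)
  rw [this]
  exact Subgroup.mem_zpowers w

theorem nbhd_of_maxCyc {c : G} (hc : IsMaxCyc c) :
    nbhd c = (Subgroup.zpowers c : Set G) := by
  ext u
  exact ⟨fun h => h.elim id (hc u), Or.inl⟩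

theorem mem_nbhd_cyc {c u v : G} (hu : u ∈ Subgroup.zpowers c) (hv : v ∈ Subgroup.zpowers c) :
    u ∈ nbhd v ↔ orderOf u ∣ orderOf v ∨ orderOf v ∣ orderOf u := by
  show _ ∨ _ ↔ _
  rw [mem_zpowers_iff_dvd hu hv, mem_zpowers_iff_dvd hv hu]

theorem nbhd_eq_of_zpowers_eq {u v : G} (h : Subgroup.zpowers u = Subgroup.zpowers v) :
    nbhd u = nbhd v := by
  ext w
  have h1 : u ∈ Subgroup.zpowers w ↔ v ∈ Subgroup.zpowers w := by
    rw [← Subgroup.zpowers_le, ← Subgroup.zpowers_le (g := v), h]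
  show _ ∨ _ ↔ _ ∨ _
  rw [h, h1]

/-- A non-prime-power number has, for two distinct comparable divisors `a < b`, a divisor
comparable with `a` but not with `b` or vice versa. -/
theorem exists_incomparable {n a b : ℕ} (hn : n ≠ 0)
    (hnp : ∀ r : ℕ, r.Prime → ∃ s, s.Prime ∧ s ∣ n ∧ s ≠ r)
    (ha : 1 < a) (hab : a ∣ b) (hne : a ≠ b) (hb : b ∣ n) :
    ∃ l, l ∣ n ∧ ¬((l ∣ a ∨ a ∣ l) ↔ (l ∣ b ∨ b ∣ l)) := by
  have hb0 : b ≠ 0 := fun h => hn (Nat.eq_zero_of_zero_dvd (h ▸ hb))
  have hnd : ¬ b ∣ a := fun h => hne (Nat.dvd_antisymm hab h)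
  -- a prime power of `b` not dividing `a`
  obtain ⟨r, f, hr, hrb, hra⟩ : ∃ r f : ℕ, r.Prime ∧ r ^ f ∣ b ∧ ¬ r ^ f ∣ a := by
    by_contra hcon
    push Not at hcon
    exact hnd (Nat.dvd_iff_prime_pow_dvd_dvd a b |>.mpr fun r k hr hk => hcon r k hr hk)
  by_cases har : a ∣ r ^ f
  · obtain ⟨i, hi, rfl⟩ := (Nat.dvd_prime_pow hr).mp har
    obtain ⟨s, hs, hsn, hsr⟩ := hnp r hr
    have hi1 : i ≠ 0 := fun h => by subst h; simp at ha
    have hcop : Nat.Coprime (r ^ i) s :=
      Nat.Coprime.pow_left _ ((Nat.coprime_primes hr hs).mpr (Ne.symm hsr))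
    by_cases hsb : s ∣ b
    · -- `s` divides `b`, is incomparable to `a`
      refine ⟨s, hsn, fun hiff => ?_⟩
      rcases hiff.mpr (Or.inl hsb) with h | h
      · exact hsr ((Nat.prime_dvd_prime_iff_eq hs hr).mp (hs.dvd_of_dvd_pow h))
      · have h1 : r ^ i = 1 := Nat.eq_one_of_dvd_coprimes hcop dvd_rfl h
        omega
    · have hl : r ^ i * s ∣ n := hcop.mul_dvd_of_dvd_of_dvd (hab.trans hb) hsn
      refine ⟨r ^ i * s, hl, fun hiff => ?_⟩
      rcases hiff.mp (Or.inr (dvd_mul_right _ _)) with h | h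
      · exact hsb ((dvd_mul_left _ _).trans h)
      · have h2 : r ^ f ∣ r ^ i * s := hrb.trans h
        have h3 : Nat.Coprime (r ^ f) s :=
          Nat.Coprime.pow_left _ ((Nat.coprime_primes hr hs).mpr (Ne.symm hsr))
        exact hra (h3.dvd_of_dvd_mul_right h2)
  · refine ⟨r ^ f, hrb.trans hb, fun hiff => ?_⟩
    rcases hiff.mpr (Or.inl hrb) with h | h
    · exact hra h
    · exact har h

theorem orderOf_eq_of_nbhd_eq {c u v : G}
    (hnp : ∀ r : ℕ, r.Prime → ∃ s, s.Prime ∧ s ∣ orderOf c ∧ s ≠ r)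
    (hu : u ∈ Subgroup.zpowers c) (hv : v ∈ Subgroup.zpowers c) (hu1 : u ≠ 1) (hv1 : v ≠ 1)
    (h : nbhd u = nbhd v) : orderOf u = orderOf v := by
  have key : ∀ a b : G, a ∈ Subgroup.zpowers c → b ∈ Subgroup.zpowers c → a ≠ 1 →
      nbhd a = nbhd b → orderOf a ∣ orderOf b → orderOf a = orderOf b := by
    intro a b ha hb ha1 hab hdvd
    by_contra hne
    have h1 : 1 < orderOf a := by
      have h2 : orderOf a ≠ 1 := fun h => ha1 (orderOf_eq_one_iff.mp h)
      have := orderOf_pos a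
      omega
    have hdn : ∀ x : G, x ∈ Subgroup.zpowers c → orderOf x ∣ orderOf c := fun x hx =>
      (mem_zpowers_iff_dvd hx (Subgroup.mem_zpowers c)).mp hx
    obtain ⟨l, hl, hiff⟩ := exists_incomparable (orderOf_pos c).ne' hnp h1 hdvd hne (hdn b hb)
    set w := c ^ (orderOf c / l) with hw
    have hwo : orderOf w = l := orderOf_pow_orderOf_div (orderOf_pos c).ne' hl
    have hwc : w ∈ Subgroup.zpowers c := Subgroup.npow_mem_zpowers c _
    have e1 := mem_nbhd_cyc hwc ha
    have e2 := mem_nbhd_cyc hwc hb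
    rw [hwo] at e1 e2
    exact hiff (e1.symm.trans ((Set.ext_iff.mp hab w).trans e2))
  have : u ∈ nbhd v := h ▸ self_mem_nbhd u
  rcases (mem_nbhd_cyc hu hv).mp this with h' | h'
  · exact key u v hu hv hu1 h h'
  · exact (key v u hv hu hv1 h.symm h').symm

theorem ncard_order_in_zpowers (c : G) {l : ℕ} (hl : l ∣ orderOf c) :
    {x : G | x ∈ Subgroup.zpowers c ∧ orderOf x = l}.ncard = l.totient := by
  classical
  haveI : Fintype (Subgroup.zpowers c) := Fintype.ofFinite _
  have h : {x : G | x ∈ Subgroup.zpowers c ∧ orderOf x = l} =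
      Subtype.val '' ({t : Subgroup.zpowers c | orderOf t = l}) := by
    ext x
    constructor
    · rintro ⟨hx, ho⟩
      exact ⟨⟨x, hx⟩, by rw [Set.mem_ofPred_eq, ← Subgroup.orderOf_coe]; exact ho, rfl⟩
    · rintro ⟨t, ht, rfl⟩
      exact ⟨t.2, by rw [Subgroup.orderOf_coe]; exact ht⟩
  have hd : l ∣ Fintype.card (Subgroup.zpowers c) := by
    rw [← Nat.card_eq_fintype_card, Nat.card_zpowers]; exact hl
  rw [h, Set.ncard_image_of_injective _ Subtype.val_injective,
    ← IsCyclic.card_orderOf_eq_totient hd, Set.ncard_eq_toFinset_card']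
  congr 1
  ext t
  simp

/-- Twins of a nontrivial element inside a non-prime-power maximal cyclic subgroup. -/
theorem twins_eq {c v : G} (hc : IsMaxCyc c)
    (hnp : ∀ r : ℕ, r.Prime → ∃ s, s.Prime ∧ s ∣ orderOf c ∧ s ≠ r)
    (hv : v ∈ Subgroup.zpowers c) (hv1 : v ≠ 1) :
    twins v = {x : G | x ∈ Subgroup.zpowers c ∧ orderOf x = orderOf v} := by
  ext u
  constructor
  · rintro ⟨hu1, hu⟩
    have hcv : c ∈ nbhd u := by rw [hu]; exact Or.inr hv
    have huc : u ∈ Subgroup.zpowers c := by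
      have := (nbhd_comm c u).mp hcv
      rwa [nbhd_of_maxCyc hc] at this
    exact ⟨huc, orderOf_eq_of_nbhd_eq hnp huc hv hu1 hv1 hu⟩
  · rintro ⟨huc, ho⟩
    refine ⟨fun h => hv1 ?_, nbhd_eq_of_zpowers_eq (le_antisymm ?_ ?_)⟩
    · subst h; rw [orderOf_one] at ho; exact orderOf_eq_one_iff.mp ho.symm
    · exact Subgroup.zpowers_le.mpr ((mem_zpowers_iff_dvd huc hv).mpr ho.dvd)
    · exact Subgroup.zpowers_le.mpr ((mem_zpowers_iff_dvd hv huc).mpr ho.symm.dvd)

theorem twins_card {c v : G} (hc : IsMaxCyc c)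
    (hnp : ∀ r : ℕ, r.Prime → ∃ s, s.Prime ∧ s ∣ orderOf c ∧ s ≠ r)
    (hv : v ∈ Subgroup.zpowers c) (hv1 : v ≠ 1) :
    (twins v).ncard = (orderOf v).totient := by
  rw [twins_eq hc hnp hv hv1]
  exact ncard_order_in_zpowers c ((mem_zpowers_iff_dvd hv (Subgroup.mem_zpowers c)).mp hv)

theorem eq_two_mul_of_totient_eq {a b : ℕ} (hab : a ∣ b) (hne : a ≠ b) (ha : 0 < a) (hb : 0 < b)
    (h : b.totient ≤ a.totient) : b = 2 * a ∧ Odd a := by
  obtain ⟨t, rfl⟩ := hab
  have ht : 0 < t := Nat.pos_of_mul_pos_left hb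
  have hta : 0 < a.totient := Nat.totient_pos.mpr ha
  have h1 := Nat.totient_super_multiplicative a t
  have h2 : t.totient ≤ 1 := Nat.le_of_mul_le_mul_left (by rw [mul_one]; omega) hta
  have h3 : t.totient = 1 := le_antisymm h2 (Nat.totient_pos.mpr ht)
  rcases Nat.totient_eq_one_iff.mp h3 with rfl | rfl
  · exact absurd (mul_one a).symm hne
  · refine ⟨mul_comm _ _, ?_⟩
    by_contra hodd
    rw [Nat.not_odd_iff_even] at hodd
    obtain ⟨k, hk⟩ := hodd
    have : (a * 2).totient = 2 * a.totient := by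
      rw [mul_comm]
      exact Nat.totient_mul_of_prime_of_dvd Nat.prime_two ⟨k, by omega⟩
    omega

/-- For `v` of odd index two in `⟨c⟩`, the common neighbourhood of `c` and `v`. -/
theorem common_card {c v : G} (hc : IsMaxCyc c) (hv : v ∈ Subgroup.zpowers c)
    (h2 : orderOf c = 2 * orderOf v) (hodd : Odd (orderOf v)) :
    (nbhd c ∩ nbhd v).ncard = orderOf v + (orderOf c).totient := by
  have hset : nbhd c ∩ nbhd v = (Subgroup.zpowers v : Set G) ∪
      {x : G | x ∈ Subgroup.zpowers c ∧ orderOf x = orderOf c} := by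
    ext x
    rw [nbhd_of_maxCyc hc]
    constructor
    · rintro ⟨hx, hxv⟩
      rcases (mem_nbhd_cyc hx hv).mp hxv with h | h
      · exact Or.inl ((mem_zpowers_iff_dvd hx hv).mpr h)
      · have hxc : orderOf x ∣ 2 * orderOf v := by
          rw [← h2]; exact (mem_zpowers_iff_dvd hx (Subgroup.mem_zpowers c)).mp hx
        obtain ⟨t, ht⟩ := h
        rw [ht, mul_comm 2 _] at hxc
        have ht2 : t ∣ 2 := (Nat.mul_dvd_mul_iff_left (orderOf_pos v)).mp hxc
        rcases (Nat.dvd_prime Nat.prime_two).mp ht2 with rfl | rfl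
        · exact Or.inl ((mem_zpowers_iff_dvd hx hv).mpr (by rw [ht, mul_one]))
        · exact Or.inr ⟨hx, by rw [ht, h2, mul_comm]⟩
    · rintro (hx | ⟨hx, ho⟩)
      · exact ⟨Subgroup.zpowers_le.mpr hv hx, Or.inl hx⟩
      · exact ⟨hx, (mem_nbhd_cyc hx hv).mpr (Or.inr (by rw [ho, h2]; exact dvd_mul_left _ _))⟩
  have hdisj : Disjoint (Subgroup.zpowers v : Set G)
      {x : G | x ∈ Subgroup.zpowers c ∧ orderOf x = orderOf c} := by
    rw [Set.disjoint_left]
    rintro x hx ⟨_, ho⟩
    have h1 := (mem_zpowers_iff_dvd (Subgroup.zpowers_le.mpr hv hx) hv).mp hx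
    have h3 := Nat.le_of_dvd (orderOf_pos v) h1
    have h4 := orderOf_pos v
    omega
  rw [hset, Set.ncard_union_eq hdisj, ncard_order_in_zpowers c dvd_rfl,
    ← Nat.card_coe_set_eq]
  congr 1
  exact Nat.card_zpowers v

variable {H : Type*} [Group H] [Finite H]

theorem ncard_zpowers_coe {G : Type*} [Group G] (c : G) :
    (Subgroup.zpowers c : Set G).ncard = orderOf c := by
  rw [← Nat.card_coe_set_eq]
  exact Nat.card_zpowers c

/-- A graph isomorphism fixing the identity preserves the orders of maximal non-prime-power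
cyclic subgroups. -/
theorem exists_same_order (e : G ≃ H)
    (he : ∀ x y : G, x ∈ nbhd y ↔ e x ∈ nbhd (e y)) (he1 : e 1 = 1) {c : G} (hc : IsMaxCyc c)
    (hnp : ∀ r : ℕ, r.Prime → ∃ s, s.Prime ∧ s ∣ orderOf c ∧ s ≠ r) :
    ∃ h : H, orderOf h = orderOf c := by
  have himg : ∀ v : G, e '' nbhd v = nbhd (e v) := by
    intro v
    ext w
    constructor
    · rintro ⟨x, hx, rfl⟩
      exact (he x v).mp hx
    · intro hw
      exact ⟨e.symm w, (he _ _).mpr (by rwa [e.apply_symm_apply]), e.apply_symm_apply w⟩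
  have htw : ∀ v : G, e '' twins v = twins (e v) := by
    intro v
    ext w
    constructor
    · rintro ⟨x, ⟨hx1, hx⟩, rfl⟩
      exact ⟨fun h => hx1 (e.injective (by rw [h, he1])), by rw [← himg, ← himg, hx]⟩
    · rintro ⟨hw1, hw⟩
      refine ⟨e.symm w, ⟨fun h => hw1 (by rw [← e.apply_symm_apply w, h, he1]), ?_⟩,
        e.apply_symm_apply w⟩
      apply e.injective.image_injective
      rw [himg, himg, e.apply_symm_apply]
      exact hw
  have hc1 : c ≠ 1 := by
    rintro rfl
    obtain ⟨s, hs, hs1, _⟩ := hnp 2 Nat.prime_two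
    rw [orderOf_one, Nat.dvd_one] at hs1
    exact hs.ne_one hs1
  set y := e c with hy
  obtain ⟨z, hyz, hz⟩ := exists_maxCyc y
  by_cases hyk : nbhd y = nbhd z
  · refine ⟨z, ?_⟩
    have := congrArg Set.ncard hyk
    rw [hy, ← himg, Set.ncard_image_of_injective _ e.injective, nbhd_of_maxCyc hc,
      nbhd_of_maxCyc hz, ncard_zpowers_coe, ncard_zpowers_coe] at this
    exact this.symm
  refine ⟨z, ?_⟩
  have hy1 : y ≠ 1 := fun h => hc1 (e.injective (by rw [← hy, h, he1]))
  have hz1 : z ≠ 1 := by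
    intro h
    subst h
    rw [Subgroup.zpowers_one_eq_bot, Subgroup.mem_bot] at hyz
    exact hy1 hyz
  obtain ⟨c', hc'⟩ := e.surjective z
  have hc'1 : c' ≠ 1 := fun h => hz1 (by rw [← hc', h, he1])
  have hc'C : c' ∈ Subgroup.zpowers c := by
    have h1 : e c' ∈ nbhd (e c) := by rw [hc', ← hy]; exact Or.inr hyz
    have h2 := (he _ _).mpr h1
    rwa [nbhd_of_maxCyc hc] at h2
  have hd_ne : orderOf c' ≠ orderOf c := by
    intro h
    apply hyk
    have h2 : c' ∈ twins c := by
      rw [twins_eq hc hnp (Subgroup.mem_zpowers c) hc1]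
      exact ⟨hc'C, h⟩
    rw [hy, ← hc', ← himg, ← himg, h2.2]
  have hd : orderOf c' ∣ orderOf c :=
    (mem_zpowers_iff_dvd hc'C (Subgroup.mem_zpowers c)).mp hc'C
  have hm_ne : orderOf y ≠ orderOf z := by
    intro h
    apply hyk
    exact nbhd_eq_of_zpowers_eq (Subgroup.eq_of_le_of_card_ge (Subgroup.zpowers_le.mpr hyz)
      (by rw [Nat.card_zpowers, Nat.card_zpowers, h]))
  have hm : orderOf y ∣ orderOf z := (mem_zpowers_iff_dvd hyz (Subgroup.mem_zpowers z)).mp hyz
  have hTy : (twins y).ncard = (orderOf c).totient := by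
    rw [hy, ← htw, Set.ncard_image_of_injective _ e.injective,
      twins_card hc hnp (Subgroup.mem_zpowers c) hc1]
  have hTz : (twins z).ncard = (orderOf c').totient := by
    rw [← hc', ← htw, Set.ncard_image_of_injective _ e.injective,
      twins_card hc hnp hc'C hc'1]
  have hdle : (orderOf c').totient ≤ (orderOf c).totient :=
    Nat.le_of_dvd (Nat.totient_pos.mpr (orderOf_pos c)) (Nat.totient_dvd_of_dvd hd)
  by_cases hzp : ∀ r : ℕ, r.Prime → ∃ s, s.Prime ∧ s ∣ orderOf z ∧ s ≠ r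
  · rw [twins_card hz hzp hyz hy1] at hTy
    rw [twins_card hz hzp (Subgroup.mem_zpowers z) hz1] at hTz
    have hmle : (orderOf y).totient ≤ (orderOf z).totient :=
      Nat.le_of_dvd (Nat.totient_pos.mpr (orderOf_pos z)) (Nat.totient_dvd_of_dvd hm)
    obtain ⟨e1, o1⟩ := eq_two_mul_of_totient_eq hd hd_ne (orderOf_pos c') (orderOf_pos c)
      (by omega)
    obtain ⟨e2, o2⟩ := eq_two_mul_of_totient_eq hm hm_ne (orderOf_pos y) (orderOf_pos z)
      (by omega)
    have hC := common_card hc hc'C e1 o1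
    have hD := common_card hz hyz e2 o2
    have : e '' (nbhd c ∩ nbhd c') = nbhd z ∩ nbhd y := by
      rw [Set.image_inter e.injective, himg, himg, hc', Set.inter_comm, ← hy]
    rw [← this, Set.ncard_image_of_injective _ e.injective, hC] at hD
    omega
  · exfalso
    push Not at hzp
    obtain ⟨r, hr, hrz⟩ := hzp
    obtain ⟨j, hj⟩ : ∃ j, orderOf z = r ^ j :=
      ⟨_, Nat.eq_prime_pow_of_unique_prime_dvd (orderOf_pos z).ne' fun {d} hd' hdz =>
        hrz d hd' hdz⟩
    have hj0 : j ≠ 0 := fun h => hz1 (orderOf_eq_one_iff.mp (by rw [hj, h, pow_zero]))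
    have hgen : {x : H | x ∈ Subgroup.zpowers z ∧ orderOf x = orderOf z} ⊆ twins z := by
      rintro x ⟨hx, ho⟩
      refine ⟨fun h => hz1 ?_, nbhd_eq_of_zpowers_eq ?_⟩
      · subst h; rw [orderOf_one] at ho; exact orderOf_eq_one_iff.mp ho.symm
      · exact Subgroup.eq_of_le_of_card_ge (Subgroup.zpowers_le.mpr hx)
          (by rw [Nat.card_zpowers, Nat.card_zpowers, ho])
    have h1 := Set.ncard_le_ncard hgen
    rw [ncard_order_in_zpowers z dvd_rfl, hTz] at h1
    have hsmall : insert (1 : H) (twins y) ⊆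
        {x : H | x ∈ Subgroup.zpowers (z ^ r)} := by
      intro x hx
      rcases Set.mem_insert_iff.mp hx with rfl | ⟨_, hx⟩
      · exact one_mem (Subgroup.zpowers (z ^ r))
      · have hzx : z ∈ nbhd x := by rw [hx]; exact Or.inr hyz
        have hxz : x ∈ Subgroup.zpowers z := by
          have := (nbhd_comm z x).mp hzx
          rwa [nbhd_of_maxCyc hz] at this
        have hne : orderOf x ≠ orderOf z := by
          intro h
          apply hyk
          rw [← hx]
          exact nbhd_eq_of_zpowers_eq (Subgroup.eq_of_le_of_card_ge (Subgroup.zpowers_le.mpr hxz)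
            (by rw [Nat.card_zpowers, Nat.card_zpowers, h]))
        have hxd := (mem_zpowers_iff_dvd hxz (Subgroup.mem_zpowers z)).mp hxz
        show x ∈ Subgroup.zpowers (z ^ r)
        rw [mem_zpowers_iff_dvd hxz (Subgroup.npow_mem_zpowers z r)]
        rw [hj] at hxd hne
        obtain ⟨i, hi, hxi⟩ := (Nat.dvd_prime_pow hr).mp hxd
        have hij : i ≤ j - 1 := by
          have : i ≠ j := fun h => hne (by rw [hxi, h])
          omega
        rw [hxi, orderOf_pow' _ hr.ne_zero, hj]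
        have hg : Nat.gcd (r ^ j) r = r :=
          Nat.gcd_eq_right (dvd_pow_self r hj0)
        rw [hg]
        have : r ^ j / r = r ^ (j - 1) := by
          obtain ⟨k, rfl⟩ := Nat.exists_eq_succ_of_ne_zero hj0
          rw [pow_succ, Nat.mul_div_cancel _ hr.pos, Nat.succ_sub_one]
        rw [this]
        exact pow_dvd_pow r hij
    have h2 := Set.ncard_le_ncard hsmall
    rw [Set.ncard_insert_of_notMem (fun h => h.1 rfl), hTy] at h2
    have h3 : {x : H | x ∈ Subgroup.zpowers (z ^ r)}.ncard = r ^ (j - 1) := by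
      show (Subgroup.zpowers (z ^ r) : Set H).ncard = _
      rw [ncard_zpowers_coe, orderOf_pow' _ hr.ne_zero, hj,
        Nat.gcd_eq_right (dvd_pow_self r hj0)]
      obtain ⟨k, rfl⟩ := Nat.exists_eq_succ_of_ne_zero hj0
      rw [pow_succ, Nat.mul_div_cancel _ hr.pos, Nat.succ_sub_one]
    rw [h3] at h2
    rw [hj, Nat.totient_prime_pow hr (Nat.pos_of_ne_zero hj0)] at h1
    have h4 : r ^ (j - 1) * 1 ≤ r ^ (j - 1) * (r - 1) :=
      Nat.mul_le_mul_left _ (by have := hr.two_le; omega)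
    rw [mul_one] at h4
    omega

/-- One direction of the statement. -/
theorem forward (e : G ≃ H) (he : ∀ x y : G, x ∈ nbhd y ↔ e x ∈ nbhd (e y))
    {p q : ℕ} (hp : p.Prime) (hq : q.Prime) (hpq : p ≠ q)
    (hg : ∃ g : G, orderOf g = p * q) : ∃ h : H, orderOf h = p * q := by
  classical
  obtain ⟨g, hg⟩ := hg
  set ι := e.symm 1 with hι
  let e' : G ≃ H := (Equiv.swap 1 ι).trans e
  have hdom1 : ∀ w : G, w ∈ nbhd (1 : G) := fun w => Or.inr (one_mem _)
  have hdomι : ∀ w : G, w ∈ nbhd ι := fun w => (he w ι).mpr (by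
    rw [hι, e.apply_symm_apply]; exact Or.inr (one_mem _))
  have hadj : ∀ x y : G, (x = 1 ∨ x = ι) → y ∈ nbhd x := by
    rintro x y (rfl | rfl)
    · exact hdom1 y
    · exact hdomι y
  have hσ : ∀ x y : G, x ∈ nbhd y ↔ Equiv.swap 1 ι x ∈ nbhd (Equiv.swap 1 ι y) := by
    intro x y
    by_cases hx : x = 1 ∨ x = ι
    · have hx' : Equiv.swap 1 ι x = 1 ∨ Equiv.swap 1 ι x = ι := by
        rcases hx with rfl | rfl
        · right; simp
        · left; simp
      exact iff_of_true ((nbhd_comm _ _).mpr (hadj x y hx))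
        ((nbhd_comm _ _).mpr (hadj _ _ hx'))
    by_cases hy : y = 1 ∨ y = ι
    · have hy' : Equiv.swap 1 ι y = 1 ∨ Equiv.swap 1 ι y = ι := by
        rcases hy with rfl | rfl
        · right; simp
        · left; simp
      exact iff_of_true (hadj y x hy) (hadj _ _ hy')
    push Not at hx hy
    rw [Equiv.swap_apply_of_ne_of_ne hx.1 hx.2, Equiv.swap_apply_of_ne_of_ne hy.1 hy.2]
  have he' : ∀ x y : G, x ∈ nbhd y ↔ e' x ∈ nbhd (e' y) := fun x y =>
    (hσ x y).trans (he _ _)
  have he1 : e' 1 = 1 := by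
    show e (Equiv.swap 1 ι 1) = 1
    rw [Equiv.swap_apply_left, hι, e.apply_symm_apply]
  obtain ⟨c, hgc, hc⟩ := exists_maxCyc g
  have hdvd : p * q ∣ orderOf c := by
    rw [← hg]; exact (mem_zpowers_iff_dvd hgc (Subgroup.mem_zpowers c)).mp hgc
  have hnp : ∀ r : ℕ, r.Prime → ∃ s, s.Prime ∧ s ∣ orderOf c ∧ s ≠ r := by
    intro r _
    by_cases hr : r = p
    · exact ⟨q, hq, (dvd_mul_left _ _).trans hdvd, fun h => hpq (hr.symm.trans h.symm)⟩
    · exact ⟨p, hp, (dvd_mul_right _ _).trans hdvd, fun h => hr h.symm⟩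
  obtain ⟨h, hh⟩ := exists_same_order e' he' he1 hc hnp
  exact ⟨h ^ (orderOf h / (p * q)), orderOf_pow_orderOf_div (orderOf_pos h).ne' (hh ▸ hdvd)⟩


/-- Let G and H be finite groups whose power graphs are isomorphic: there is a bijection e : G → H such that, for all x, y, one of x, y is a power of the other exactly when one of e(x), e(y) is a power of the other. Then G and H have the same prime graph: for distinct primes p, q, G has an element of order pq if and only if H does. -/
theorem result {G H : Type*} [Group G] [Finite G] [Group H] [Finite H] (e : G ≃ H)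
    (he : ∀ x y : G, (x ∈ Subgroup.zpowers y ∨ y ∈ Subgroup.zpowers x) ↔
      (e x ∈ Subgroup.zpowers (e y) ∨ e y ∈ Subgroup.zpowers (e x)))
    {p q : ℕ} (hp : p.Prime) (hq : q.Prime) (hpq : p ≠ q) :
    (∃ g : G, orderOf g = p * q) ↔ (∃ h : H, orderOf h = p * q) := by
  refine ⟨forward e (fun x y => he x y) hp hq hpq, forward e.symm (fun x y => ?_) hp hq hpq⟩
  have := he (e.symm x) (e.symm y)
  rw [e.apply_symm_apply, e.apply_symm_apply] at this
  exact this.symm

end Cfsg.Agent.S4085
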