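import Cfsg.Statements.S4086
import Cfsg.Agent.Lib.Coprime.Core

set_option autoImplicit false
set_option linter.style.haveILetI false
open Cfsg

namespace Cfsg.Agent.S4086

/-- For a finite group G the following are equivalent: every non-identity element has prime-power order; whenever two elements generate a cyclic subgroup, one of them is a power of the other (the enhanced power graph of G coincides with its power graph). -/
theorem result {G : Type*} [Group G] [Finite G] :
    (∀ g : G, g ≠ 1 → IsPrimePow (orderOf g)) ↔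
    (∀ x y : G, IsCyclic ↥(Subgroup.closure ({x, y} : Set G)) → (x ∈ Subgroup.zpowers y ∨ y ∈ Subgroup.zpowers x)) := by
  constructor
  · intro h x y hcyc
    set K := Subgroup.closure ({x, y} : Set G)
    obtain ⟨c, hc⟩ := IsCyclic.exists_generator (α := K)
    have hx : x ∈ K := Subgroup.subset_closure (by simp)
    have hy : y ∈ K := Subgroup.subset_closure (by simp)
    by_cases hc1 : (c : G) = 1
    · left
      obtain ⟨i, hi⟩ := hc ⟨x, hx⟩
      have : (c : G) ^ i = x := congrArg Subtype.val hi
      rw [← this, hc1, one_zpow]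
      exact one_mem _
    obtain ⟨p, k, hp, -, hk⟩ := h (c : G) hc1
    have hp' : p.Prime := Nat.prime_iff.2 hp
    have hcard : Nat.card K = p ^ k := by
      rw [← orderOf_eq_card_of_forall_mem_zpowers hc, ← Subgroup.orderOf_coe, hk]
    haveI : IsMulCommutative K := IsCyclic.commutative
    open scoped IsMulCommutative in
    have key : ∀ a b : G, ∀ ha : a ∈ K, ∀ hb : b ∈ K, orderOf a ∣ orderOf b →
        a ∈ Subgroup.zpowers b := by
      intro a b ha hb hd
      haveI : IsCyclic (Subgroup.zpowers (⟨b, hb⟩ : K) ⊔ Subgroup.zpowers (⟨a, ha⟩ : K) :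
        Subgroup K) := inferInstance
      set L := Subgroup.zpowers (⟨b, hb⟩ : K) ⊔ Subgroup.zpowers (⟨a, ha⟩ : K)
      have hle : Nat.card L ≤ orderOf b := by
        rw [← IsCyclic.exponent_eq_card]
        refine Nat.le_of_dvd (orderOf_pos b) (Monoid.exponent_dvd_of_forall_pow_eq_one fun z => ?_)
        have hL : L ≤ (powMonoidHom (α := K) (orderOf b)).ker := by
          refine sup_le (Subgroup.zpowers_le.2 ?_) (Subgroup.zpowers_le.2 ?_)
          · exact Subtype.ext (by simpa using pow_orderOf_eq_one b)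
          · exact Subtype.ext (by simpa using orderOf_dvd_iff_pow_eq_one.1 hd)
        exact Subtype.ext (hL z.2)
      have he : Subgroup.zpowers (⟨b, hb⟩ : K) = L := Subgroup.eq_of_le_of_card_ge le_sup_left
        (by rw [Nat.card_zpowers, Subgroup.orderOf_mk]; exact hle)
      obtain ⟨i, hi⟩ : (⟨a, ha⟩ : K) ∈ Subgroup.zpowers (⟨b, hb⟩ : K) :=
        he ▸ Subgroup.mem_sup_right (Subgroup.mem_zpowers _)
      exact ⟨i, congrArg Subtype.val hi⟩
    obtain ⟨i, -, hi⟩ := (Nat.dvd_prime_pow hp').1 (hcard ▸ K.orderOf_dvd_natCard hx)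
    obtain ⟨j, -, hj⟩ := (Nat.dvd_prime_pow hp').1 (hcard ▸ K.orderOf_dvd_natCard hy)
    rcases le_total i j with hij | hij
    · exact Or.inl (key x y hx hy (by rw [hi, hj]; exact pow_dvd_pow p hij))
    · exact Or.inr (key y x hy hx (by rw [hi, hj]; exact pow_dvd_pow p hij))
  · intro h g hg
    obtain ⟨p, hp, hpd⟩ := Nat.exists_prime_and_dvd (mt orderOf_eq_one_iff.1 hg)
    refine isPrimePow_iff_unique_prime_dvd.2 ⟨p, ⟨hp, hpd⟩, fun q ⟨hq, hqd⟩ => ?_⟩
    have h1 := orderOf_pow_orderOf_div (orderOf_pos g).ne' hpd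
    have h2 := orderOf_pow_orderOf_div (orderOf_pos g).ne' hqd
    set a := g ^ (orderOf g / p)
    set b := g ^ (orderOf g / q)
    have hcyc : IsCyclic (Subgroup.closure ({a, b} : Set G)) :=
      Subgroup.isCyclic_of_le (H' := Subgroup.zpowers g) ((Subgroup.closure_le _).2 (by
        rintro z (rfl | rfl) <;> exact Subgroup.npow_mem_zpowers g _))
    rcases h a b hcyc with h' | h'
    · have := orderOf_dvd_of_mem_zpowers h'
      rw [h1, h2] at this
      exact ((Nat.prime_dvd_prime_iff_eq hp hq).1 this).symm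
    · have := orderOf_dvd_of_mem_zpowers h'
      rw [h1, h2] at this
      exact (Nat.prime_dvd_prime_iff_eq hq hp).1 this

end Cfsg.Agent.S4086
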