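import Cfsg.Statements.S4087
import Cfsg.Agent.Lib.CIT.Structure
import Cfsg.Agent.Lib.CIT.EPPO
import Cfsg.Agent.Lib.Classical.SLBasic
import Cfsg.Agent.S1475

set_option autoImplicit false
open Cfsg

namespace Cfsg.Agent.S4087

open CfsgLib.CIT

universe u

theorem isCN_of_eppo {G : Type u} [Group G] [Finite G] (h : IsEPPO G) : IsCN G := by
  intro x hx
  obtain ⟨p, hp, hpd⟩ := Nat.exists_prime_and_dvd (fun e => hx (orderOf_eq_one_iff.1 e))
  haveI : Fact p.Prime := ⟨hp⟩
  obtain ⟨k, hk⟩ := h.order_cases x hp hpd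
  have hP : IsPGroup p (Subgroup.centralizer ({x} : Set G)) := by
    refine IsPGroup.iff_orderOf.2 fun y => ?_
    rw [← Subgroup.orderOf_coe]
    refine ⟨(orderOf (y : G)).primeFactorsList.length, Nat.eq_prime_pow_of_unique_prime_dvd (orderOf_pos _).ne' ?_⟩
    intro r hr hrd
    by_contra hne
    have hco : (orderOf ((y : G) ^ (orderOf (y : G) / r))).Coprime (orderOf x) := by
      rw [orderOf_pow_orderOf_div (orderOf_pos _).ne' hrd, hk]
      exact Nat.Coprime.pow_right _ ((Nat.coprime_primes hr hp).2 hne)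
    have ho := ((show Commute (y : G) x from Subgroup.mem_centralizer_singleton_iff.1 y.2).pow_left
      (orderOf (y : G) / r)).orderOf_mul_eq_mul_orderOf_of_coprime hco
    rw [orderOf_pow_orderOf_div (orderOf_pos _).ne' hrd] at ho
    obtain ⟨i, hi⟩ := h.order_cases _ hp (ho ▸ dvd_mul_of_dvd_right hpd r)
    exact hne ((Nat.prime_dvd_prime_iff_eq hr hp).1 (hr.dvd_of_dvd_pow (hi ▸ ho ▸ dvd_mul_right r _)))
  exact hP.isNilpotent

theorem eppo_quotient {G : Type u} [Group G] [Finite G] (h : IsEPPO G) (N : Subgroup G) [N.Normal] :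
    IsEPPO (G ⧸ N) := fun x hx => by
  obtain ⟨g, rfl⟩ := QuotientGroup.mk'_surjective N x
  have hg : g ≠ 1 := fun e => hx (by rw [e, map_one])
  obtain ⟨r, k, hr, hk, e⟩ := h g hg
  obtain ⟨i, -, hi⟩ := (Nat.dvd_prime_pow (Nat.prime_iff.2 hr)).1 (e ▸ orderOf_map_dvd (QuotientGroup.mk' N) g)
  refine ⟨r, i, hr, Nat.pos_of_ne_zero fun h0 => hx ?_, hi.symm⟩
  rw [h0, pow_zero] at hi
  exact orderOf_eq_one_iff.1 hi

theorem primeFactors_two_three {a b : ℕ} {p q : ℕ} (ha : a ≠ 0) (hb : b ≠ 0) (hp : p.Prime) (hq : q.Prime) :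
    (p ^ a * q ^ b).primeFactors = {p, q} := by
  rw [Nat.primeFactors_mul (pow_ne_zero _ hp.ne_zero) (pow_ne_zero _ hq.ne_zero),
    Nat.primeFactors_prime_pow ha hp, Nat.primeFactors_prime_pow hb hq]
  rfl

theorem pf3 {n a b c p q r : ℕ} (hn : n = p ^ a * q ^ b * r ^ c) (ha : a ≠ 0) (hb : b ≠ 0) (hc : c ≠ 0)
    (hp : p.Prime) (hq : q.Prime) (hr : r.Prime) : n.primeFactors = {p, q, r} := by
  subst hn
  rw [Nat.primeFactors_mul (mul_ne_zero (pow_ne_zero _ hp.ne_zero) (pow_ne_zero _ hq.ne_zero))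
    (pow_ne_zero _ hr.ne_zero), primeFactors_two_three ha hb hp hq, Nat.primeFactors_prime_pow hc hr]
  ext x
  simp [or_assoc]

theorem pf4 {n a b c d p q r s : ℕ} (hn : n = p ^ a * q ^ b * r ^ c * s ^ d) (ha : a ≠ 0) (hb : b ≠ 0)
    (hc : c ≠ 0) (hd : d ≠ 0) (hp : p.Prime) (hq : q.Prime) (hr : r.Prime) (hs : s.Prime) :
    n.primeFactors = {p, q, r, s} := by
  subst hn
  rw [Nat.primeFactors_mul (mul_ne_zero (mul_ne_zero (pow_ne_zero _ hp.ne_zero) (pow_ne_zero _ hq.ne_zero))
    (pow_ne_zero _ hr.ne_zero)) (pow_ne_zero _ hs.ne_zero), pf3 rfl ha hb hc hp hq hr,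
    Nat.primeFactors_prime_pow hd hs]
  ext x
  simp [or_assoc]

theorem card_psl2_small {F : Type} [Field F] [Fintype F] (h : Fintype.card F ∈ ({4, 7, 8, 17} : Finset ℕ)) :
    (Nat.card (Matrix.ProjectiveSpecialLinearGroup (Fin 2) F)).primeFactors.card = 3 := by
  have hc := CfsgLib.Classical.card_psl2 (F := F)
  simp only [Finset.mem_insert, Finset.mem_singleton] at h
  rcases h with h | h | h | h <;> rw [h] at hc
  · rw [show Nat.gcd 2 (4 - 1) = 1 from rfl] at hc
    rw [pf3 (a := 2) (b := 1) (c := 1) (p := 2) (q := 3) (r := 5) (by omega) two_ne_zero one_ne_zero one_ne_zero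
      Nat.prime_two Nat.prime_three Nat.prime_five]
    rfl
  · rw [show Nat.gcd 2 (7 - 1) = 2 from rfl] at hc
    rw [pf3 (a := 3) (b := 1) (c := 1) (p := 2) (q := 3) (r := 7) (by omega) (by omega) one_ne_zero one_ne_zero
      Nat.prime_two Nat.prime_three (by norm_num)]
    rfl
  · rw [show Nat.gcd 2 (8 - 1) = 1 from rfl] at hc
    rw [pf3 (a := 3) (b := 2) (c := 1) (p := 2) (q := 3) (r := 7) (by omega) (by omega) two_ne_zero one_ne_zero
      Nat.prime_two Nat.prime_three (by norm_num)]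
    rfl
  · rw [show Nat.gcd 2 (17 - 1) = 2 from rfl] at hc
    rw [pf3 (a := 4) (b := 2) (c := 1) (p := 2) (q := 3) (r := 17) (by omega) (by omega) two_ne_zero one_ne_zero
      Nat.prime_two Nat.prime_three (by norm_num)]
    rfl

theorem card_psl29 {F : Type} [Field F] [Fintype F] (h : Fintype.card F = 9) :
    Nat.card (Matrix.ProjectiveSpecialLinearGroup (Fin 2) F) = 360 := by
  have hc := CfsgLib.Classical.card_psl2 (F := F)
  rw [h, show Nat.gcd 2 (9 - 1) = 2 from rfl] at hc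
  omega

theorem card_psl34 {F : Type} [Field F] [Fintype F] (hF : Fintype.card F = 4) :
    Nat.card (Matrix.ProjectiveSpecialLinearGroup (Fin 3) F) = 20160 := by
  have h := CfsgLib.Classical.card_psl_mul (F := F) (n := 3) (by norm_num)
  rw [hF, Fin.prod_univ_three] at h
  norm_num at h
  omega

theorem card_sz_small {Q : Type u} [Group Q] {F : Type} [Field F] [Fintype F]
    (h : (Fintype.card F = 8 ∧ Nonempty (Q ≃* ↥(Cfsg.Lie.Sz F 4))) ∨
      (Fintype.card F = 32 ∧ Nonempty (Q ≃* ↥(Cfsg.Lie.Sz F 8)))) :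
    (Nat.card Q).primeFactors.card = 4 := by
  rcases h with ⟨hF, ⟨e⟩⟩ | ⟨hF, ⟨e⟩⟩
  · obtain ⟨e'⟩ := CfsgLib.Lie.Suz.exists_twEquiv (F := F) (m := 1) le_rfl (by rw [hF]; norm_num)
    rw [Nat.card_congr (e.trans e'.symm).toEquiv, CfsgLib.Lie.Suz.card_Sz (m := 1) le_rfl (by rw [hF]; norm_num), hF,
      pf4 (a := 6) (b := 1) (c := 1) (d := 1) (p := 2) (q := 5) (r := 7) (s := 13) (by norm_num) (by omega)
      one_ne_zero one_ne_zero one_ne_zero Nat.prime_two Nat.prime_five (by norm_num) (by norm_num)]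
    rfl
  · obtain ⟨e'⟩ := CfsgLib.Lie.Suz.exists_twEquiv (F := F) (m := 2) (by omega) (by rw [hF]; norm_num)
    rw [Nat.card_congr (e.trans e'.symm).toEquiv, CfsgLib.Lie.Suz.card_Sz (m := 2) (by omega) (by rw [hF]; norm_num), hF,
      pf4 (a := 10) (b := 2) (c := 1) (d := 1) (p := 2) (q := 5) (r := 31) (s := 41) (by norm_num) (by omega)
      two_ne_zero one_ne_zero one_ne_zero Nat.prime_two Nat.prime_five (by norm_num) (by norm_num)]
    rfl

/-- Let G be a finite group in which every non-identity element has prime-power order (its prime graph has no edges). Then the order of G has at most four distinct prime divisors; and if it has exactly four, then either G is isomorphic to PSL(3,4), or G has a normal 2-subgroup N with G/N isomorphic to the Suzuki group over the field with 8 or with 32 elements. -/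
theorem result {G : Type*} [Group G] [Finite G] (h : ∀ g : G, g ≠ 1 → IsPrimePow (orderOf g)) :
    (Nat.card G).primeFactors.card ≤ 4 ∧
    ((Nat.card G).primeFactors.card = 4 →
      (∃ (F : Type) (_ : Field F) (_ : Fintype F), Fintype.card F = 4 ∧
        Nonempty (G ≃* Matrix.ProjectiveSpecialLinearGroup (Fin 3) F)) ∨
      (∃ (N : Subgroup G) (_ : N.Normal), IsPGroup 2 ↥N ∧
        ∃ (F : Type) (_ : Field F) (_ : Fintype F),
          (Fintype.card F = 8 ∧ Nonempty (G ⧸ N ≃* ↥(Cfsg.Lie.Sz F 4))) ∨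
          (Fintype.card F = 32 ∧ Nonempty (G ⧸ N ≃* ↥(Cfsg.Lie.Sz F 8))))) := by
  classical
  by_cases hs : Group.IsSolvable G
  · haveI := hs
    have h2 := Cfsg.Agent.S1475.result (G := G) fun g => (em (g = 1)).symm.imp_left (h g)
    exact ⟨by omega, fun h4 => by omega⟩
  have hE : CfsgLib.CIT.IsEPPO G := h
  rcases CfsgLib.CIT.cn_structure hs (isCN_of_eppo hE) with ⟨hsimp, hna⟩ | ⟨L, -, hidx, F, iF, iF', h9, ⟨e⟩⟩ |
      ⟨N, hN, -, hN2, -, hQ⟩
  · haveI := hsimp
    rcases hE.simple_cases hna with ⟨⟨e⟩⟩ | ⟨F, iF, iF', hF, ⟨e⟩⟩ | ⟨F, iF, iF', hF, ⟨e⟩⟩ | ⟨F, iF, iF', hF⟩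
    · have h3 : (Nat.card G).primeFactors.card = 3 := by
        rw [Nat.card_congr e.toEquiv, nat_card_alternatingGroup, Nat.card_eq_fintype_card, Fintype.card_fin,
          pf3 (a := 3) (b := 2) (c := 1) (p := 2) (q := 3) (r := 5) (by norm_num [Nat.factorial]) (by omega)
          two_ne_zero one_ne_zero Nat.prime_two Nat.prime_three Nat.prime_five]
        rfl
      exact ⟨by omega, fun h4 => by omega⟩
    · have h3 : (Nat.card G).primeFactors.card = 3 := by
        rw [Nat.card_congr e.toEquiv]; exact card_psl2_small hF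
      exact ⟨by omega, fun h4 => by omega⟩
    · have h4 : (Nat.card G).primeFactors.card = 4 := by
        rw [Nat.card_congr e.toEquiv, card_psl34 hF, pf4 (a := 6) (b := 2) (c := 1) (d := 1) (p := 2) (q := 3)
          (r := 5) (s := 7) (by norm_num) (by omega) two_ne_zero one_ne_zero one_ne_zero Nat.prime_two
          Nat.prime_three Nat.prime_five (by norm_num)]
        rfl
      exact ⟨h4.le, fun _ => Or.inl ⟨F, iF, iF', hF, ⟨e⟩⟩⟩
    · refine ⟨(card_sz_small hF).le, fun _ => Or.inr ⟨⊥, inferInstance, IsPGroup.of_bot, F, iF, iF', ?_⟩⟩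
      exact hF.imp (fun h' => ⟨h'.1, h'.2.map QuotientGroup.quotientBot.trans⟩)
        (fun h' => ⟨h'.1, h'.2.map QuotientGroup.quotientBot.trans⟩)
  · have h3 : (Nat.card G).primeFactors.card = 3 := by
      rw [← Subgroup.card_mul_index L, hidx, Nat.card_congr e.toEquiv, card_psl29 h9,
        pf3 (a := 4) (b := 2) (c := 1) (p := 2) (q := 3) (r := 5) (by norm_num) (by omega)
        two_ne_zero one_ne_zero Nat.prime_two Nat.prime_three Nat.prime_five]
      rfl
    exact ⟨by omega, fun h4 => by omega⟩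
  · haveI := hN
    haveI : Fact (Nat.Prime 2) := ⟨Nat.prime_two⟩
    have hE' := eppo_quotient hE N
    obtain ⟨k, hk⟩ := hN2.exists_card_eq
    have hns' : ¬ Group.IsSolvable (G ⧸ N) := fun hs' => hs (by
      haveI := hs'
      haveI := hN2.isNilpotent
      exact Group.isSolvable_of_ker_le_range N.subtype (QuotientGroup.mk' N) (by simp))
    have hpf : (Nat.card G).primeFactors = (Nat.card (G ⧸ N)).primeFactors := by
      rw [Subgroup.card_eq_card_quotient_mul_card_subgroup N,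
        Nat.primeFactors_mul Nat.card_pos.ne' Nat.card_pos.ne', Finset.union_eq_left, hk]
      intro x hx
      rcases k with _ | k
      · simp at hx
      · rw [Nat.primeFactors_prime_pow (Nat.succ_ne_zero k) Nat.prime_two, Finset.mem_singleton] at hx
        subst hx
        exact Nat.mem_primeFactors.2 ⟨Nat.prime_two, CfsgLib.CIT.two_dvd_card_of_nsolv hns', Nat.card_pos.ne'⟩
    rcases hQ with ⟨K, iK, iK', ⟨n, hn, hK⟩, ⟨e⟩⟩ | hsz
    · haveI : CharP K 2 := CfsgLib.Classical.PSL2Spectrum.char_two_of_dvd (hK ▸ dvd_pow_self 2 (by omega))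
      obtain ⟨e'⟩ := CfsgLib.CIT.sl_two_equiv_psl (K := K)
      have hq := CfsgLib.CIT.psl_even_cases hn hK (hE'.of_mulEquiv (e.trans e'))
      have h3 : (Nat.card G).primeFactors.card = 3 := by
        rw [hpf, Nat.card_congr (e.trans e').toEquiv]
        refine card_psl2_small ?_
        rcases hq with h' | h' <;> rw [h'] <;> decide
      exact ⟨by omega, fun h4 => by omega⟩
    · obtain ⟨F, iF, iF', hF⟩ := hE'.isoSuzuki_cases hsz
      exact ⟨(hpf ▸ card_sz_small hF).le, fun _ => Or.inr ⟨N, hN, hN2, F, iF, iF', hF⟩⟩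

end Cfsg.Agent.S4087
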