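import Cfsg.Statements.S4088
import Cfsg.Agent.Lib.PGroup.Subnormalizer
-- import your own Cfsg.Agent.* helpers here

set_option autoImplicit false
open Cfsg

namespace Cfsg.Agent.S4088

/-- Let G be a finite group, p a prime dividing the order of G, H a p-subgroup of G and P a Sylow p-subgroup of G. Call the subnormalizer of H the set of elements g of G such that H is subnormal in the subgroup generated by H and g. Then the number of elements of the subnormalizer of H equals the number of Sylow p-subgroups of G containing H times the order of N_G(P), and also equals the number of conjugates of H contained in P times the order of N_G(H). -/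
theorem result {G : Type*} [Group G] [Finite G] (p : ℕ) [Fact p.Prime]
    (hp : p ∣ Nat.card G) (H : Subgroup G) (hH : IsPGroup p H) (P : Sylow p G) :
    Nat.card {g : G // ((H).subgroupOf (H ⊔ Subgroup.zpowers g)).IsSubnormal} =
        Nat.card {Q : Sylow p G // H ≤ (Q : Subgroup G)} * Nat.card (Subgroup.normalizer ((P : Subgroup G) : Set G)) ∧
    Nat.card {g : G // ((H).subgroupOf (H ⊔ Subgroup.zpowers g)).IsSubnormal} =
        Nat.card {K : Subgroup G // K ≤ (P : Subgroup G) ∧ ∃ g : G, K = H.map (MulAut.conj g).toMonoidHom} *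
          Nat.card (Subgroup.normalizer (H : Set G)) := by
  classical
  have h1 := CfsgLib.Subnormalizer.card_sn_eq p H.index G H rfl hH P
  refine ⟨h1, ?_⟩
  rw [show Nat.card {g : G // ((H).subgroupOf (H ⊔ Subgroup.zpowers g)).IsSubnormal} = _ from h1]
  have conjBy_le : ∀ (g : G) (A B : Subgroup G),
      CfsgLib.Coprime.conjBy g A ≤ B ↔ A ≤ CfsgLib.Coprime.conjBy g⁻¹ B := by
    intro g A B
    constructor
    · intro h
      calc A = CfsgLib.Coprime.conjBy g⁻¹ (CfsgLib.Coprime.conjBy g A) := by
            rw [CfsgLib.Coprime.conjBy_conjBy, inv_mul_cancel, CfsgLib.Coprime.conjBy_one]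
        _ ≤ _ := Subgroup.map_mono h
    · intro h
      calc CfsgLib.Coprime.conjBy g A ≤ CfsgLib.Coprime.conjBy g (CfsgLib.Coprime.conjBy g⁻¹ B) :=
            Subgroup.map_mono h
        _ = B := by rw [CfsgLib.Coprime.conjBy_conjBy, mul_inv_cancel, CfsgLib.Coprime.conjBy_one]
  let Z := {g : G // CfsgLib.Coprime.conjBy g H ≤ (P : Subgroup G)}
  let A := {Q : Sylow p G // H ≤ (Q : Subgroup G)}
  let B := {K : Subgroup G // K ≤ (P : Subgroup G) ∧ ∃ g : G, K = H.map (MulAut.conj g).toMonoidHom}
  haveI := Fintype.ofFinite A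
  haveI := Fintype.ofFinite B
  let fA : Z → A := fun g => ⟨g.1⁻¹ • P, by
    show H ≤ CfsgLib.Coprime.conjBy g.1⁻¹ (P : Subgroup G)
    exact (conjBy_le _ _ _).1 g.2⟩
  let fB : Z → B := fun g => ⟨CfsgLib.Coprime.conjBy g.1 H, g.2, g.1, rfl⟩
  have cA : ∀ Q : A, Nat.card {g : Z // fA g = Q} =
      Nat.card (Subgroup.normalizer ((P : Subgroup G) : Set G)) := by
    intro Q
    obtain ⟨x, hx⟩ := MulAction.exists_smul_eq G P Q.1
    have hmem : ∀ g : G, g⁻¹ • P = Q.1 ↔ g * x ∈ Subgroup.normalizer ((P : Subgroup G) : Set G) := by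
      intro g
      rw [show (g * x ∈ Subgroup.normalizer ((P : Subgroup G) : Set G)) ↔ (g * x) • P = P from
        (Sylow.smul_eq_iff_mem_normalizer).symm, mul_smul, hx, inv_smul_eq_iff, eq_comm]
    refine Nat.card_congr
      { toFun := fun g => ⟨g.1.1 * x, (hmem _).1 (congrArg Subtype.val g.2)⟩
        invFun := fun n => ⟨⟨n.1 * x⁻¹, (conjBy_le _ _ _).2 (by
          have h2 : (n.1 * x⁻¹)⁻¹ • P = Q.1 := (hmem _).2 (by simpa using n.2)
          have h3 : CfsgLib.Coprime.conjBy (n.1 * x⁻¹)⁻¹ (P : Subgroup G) = (Q.1 : Subgroup G) :=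
            congrArg (fun S : Sylow p G => (S : Subgroup G)) h2
          rw [h3]; exact Q.2)⟩, Subtype.ext ((hmem _).2 (by simpa using n.2))⟩
        left_inv := fun g => Subtype.ext (Subtype.ext (by simp))
        right_inv := fun n => Subtype.ext (by simp) }
  have cB : ∀ K : B, Nat.card {g : Z // fB g = K} = Nat.card (Subgroup.normalizer (H : Set G)) := by
    rintro ⟨K, hKP, x, rfl⟩
    refine Nat.card_congr
      { toFun := fun g => ⟨x⁻¹ * g.1.1, CfsgLib.Coprime.conjBy_eq_self_iff.1 (by
          have h2 : CfsgLib.Coprime.conjBy g.1.1 H = CfsgLib.Coprime.conjBy x H :=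
            congrArg Subtype.val g.2
          rw [← CfsgLib.Coprime.conjBy_conjBy, h2, CfsgLib.Coprime.conjBy_conjBy, inv_mul_cancel,
            CfsgLib.Coprime.conjBy_one])⟩
        invFun := fun n =>
          have h2 : CfsgLib.Coprime.conjBy (x * n.1) H = CfsgLib.Coprime.conjBy x H := by
            rw [← CfsgLib.Coprime.conjBy_conjBy, CfsgLib.Coprime.conjBy_eq_self_iff.2 n.2]
          ⟨⟨x * n.1, h2.trans_le hKP⟩, Subtype.ext h2⟩
        left_inv := fun g => Subtype.ext (Subtype.ext (by simp))
        right_inv := fun n => Subtype.ext (by simp) }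
  have e1 := (Nat.card_congr (Equiv.sigmaFiberEquiv fA)).symm
  have e2 := (Nat.card_congr (Equiv.sigmaFiberEquiv fB)).symm
  rw [Nat.card_sigma, Finset.sum_congr rfl (fun Q _ => cA Q), Finset.sum_const, smul_eq_mul,
    Finset.card_univ, ← Nat.card_eq_fintype_card] at e1
  rw [Nat.card_sigma, Finset.sum_congr rfl (fun Q _ => cB Q), Finset.sum_const, smul_eq_mul,
    Finset.card_univ, ← Nat.card_eq_fintype_card] at e2
  exact e1.symm.trans e2

end Cfsg.Agent.S4088
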