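import Cfsg.Statements.S4089
import Cfsg.Agent.Lib.PGroup.Subnormalizer
-- import your own Cfsg.Agent.* helpers here

set_option autoImplicit false
open Cfsg

namespace Cfsg.Agent.S4089

/-- Let G be a finite group, p a prime and H a p-subgroup of G. Then the set of elements g of G such that H is subnormal in the subgroup generated by H and g is the union of the normalizers N_G(R) over the subgroups R of G containing H with R = O_p(N_G(R)); and this set does not change when H is replaced by the intersection of all Sylow p-subgroups of G containing H. -/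
theorem result {G : Type*} [Group G] [Finite G] (p : ℕ) [Fact p.Prime]
    (H : Subgroup G) (hH : IsPGroup p H) :
    {g : G | ((H).subgroupOf (H ⊔ Subgroup.zpowers g)).IsSubnormal} =
      {g : G | ∃ R : Subgroup G, H ≤ R ∧ (Cfsg.pCore p (Subgroup.normalizer (R : Set G))).map (Subgroup.normalizer (R : Set G)).subtype = R ∧ g ∈ Subgroup.normalizer (R : Set G)} ∧
    ∀ g : G, (((H).subgroupOf (H ⊔ Subgroup.zpowers g)).IsSubnormal ↔
      (((sInf {K : Subgroup G | ∃ Q : Sylow p G, H ≤ (Q : Subgroup G) ∧ K = (Q : Subgroup G)})).subgroupOf ((sInf {K : Subgroup G | ∃ Q : Sylow p G, H ≤ (Q : Subgroup G) ∧ K = (Q : Subgroup G)}) ⊔ Subgroup.zpowers g)).IsSubnormal) := by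
  set D := sInf {K : Subgroup G | ∃ Q : Sylow p G, H ≤ (Q : Subgroup G) ∧ K = (Q : Subgroup G)}
  have hHD : H ≤ D := le_sInf (by rintro K ⟨Q, hQ, rfl⟩; exact hQ)
  have hDp : IsPGroup p D := by
    obtain ⟨Q, hQ⟩ := hH.exists_le_sylow
    exact Q.2.to_le (sInf_le ⟨Q, hQ, rfl⟩)
  -- radical overgroups
  have rad : ∀ (m : ℕ) (R : Subgroup G), Nat.card G - Nat.card R ≤ m → IsPGroup p R →
      ∀ g ∈ Subgroup.normalizer (R : Set G), ∃ R' : Subgroup G, R ≤ R' ∧
        (Cfsg.pCore p (Subgroup.normalizer (R' : Set G))).map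
          (Subgroup.normalizer (R' : Set G)).subtype = R' ∧
        g ∈ Subgroup.normalizer (R' : Set G) := by
    intro m
    induction m with
    | zero =>
      intro R hm hR g hg
      have htop : R = ⊤ := R.eq_top_of_card_eq
        (le_antisymm (Subgroup.card_le_card_group R) (by omega))
      refine ⟨R, le_rfl, le_antisymm (htop ▸ le_top) ?_, hg⟩
      intro x hx
      exact ⟨⟨x, Subgroup.le_normalizer hx⟩, CfsgLib.PGroup.le_pCore Subgroup.normal_in_normalizer
        (hR.comap_of_injective _ (Subgroup.normalizer (R : Set G)).subtype_injective) hx, rfl⟩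
    | succ m ih =>
      intro R hm hR g hg
      set N := Subgroup.normalizer (R : Set G) with hN
      set R₁ := (Cfsg.pCore p N).map N.subtype with hR₁
      have hle : R ≤ R₁ := fun x hx => ⟨⟨x, Subgroup.le_normalizer hx⟩,
        CfsgLib.PGroup.le_pCore Subgroup.normal_in_normalizer
          (hR.comap_of_injective _ N.subtype_injective) hx, rfl⟩
      by_cases he : R₁ = R
      · exact ⟨R, le_rfl, he, hg⟩
      have hlt : R < R₁ := lt_of_le_of_ne hle (Ne.symm he)
      have hg₁ : g ∈ Subgroup.normalizer (R₁ : Set G) := Subgroup.le_normalizer_map N.subtype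
        (Subgroup.mem_map_of_mem N.subtype (show (⟨g, hg⟩ : N) ∈
          Subgroup.normalizer (Cfsg.pCore p N : Set N) by
            rw [Subgroup.normalizer_eq_top]; exact Subgroup.mem_top _))
      have hc : Nat.card R < Nat.card R₁ := lt_of_le_of_ne (Subgroup.card_le_of_le hle)
        fun e => hlt.ne (Subgroup.eq_of_le_of_card_ge hle e.ge)
      obtain ⟨R', h1, h2, h3⟩ := ih R₁ (by omega) ((CfsgLib.PGroup.isPGroup_pCore p N).map _) g hg₁
      exact ⟨R', hle.trans h1, h2, h3⟩
  have main : {g : G | ((H).subgroupOf (H ⊔ Subgroup.zpowers g)).IsSubnormal} =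
      {g : G | ∃ R : Subgroup G, H ≤ R ∧
        (Cfsg.pCore p (Subgroup.normalizer (R : Set G))).map
          (Subgroup.normalizer (R : Set G)).subtype = R ∧ g ∈ Subgroup.normalizer (R : Set G)} := by
    ext g
    simp only [Set.mem_ofPred_eq]
    constructor
    · intro h
      obtain ⟨R, hHR, hR, hg⟩ := (CfsgLib.Subnormalizer.sn_iff hH g).1 h
      obtain ⟨R', h1, h2, h3⟩ := rad _ R le_rfl hR g hg
      exact ⟨R', hHR.trans h1, h2, h3⟩
    · rintro ⟨R, hHR, hR, hg⟩
      exact (CfsgLib.Subnormalizer.sn_iff hH g).2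
        ⟨R, hHR, hR ▸ (CfsgLib.PGroup.isPGroup_pCore p _).map _, hg⟩
  refine ⟨main, fun g => ⟨fun h => ?_, fun h => ?_⟩⟩
  · obtain ⟨R, hHR, hR, hg⟩ : g ∈ {g : G | ∃ R : Subgroup G, H ≤ R ∧
        (Cfsg.pCore p (Subgroup.normalizer (R : Set G))).map
          (Subgroup.normalizer (R : Set G)).subtype = R ∧ g ∈ Subgroup.normalizer (R : Set G)} :=
      main ▸ h
    have hRp : IsPGroup p R := hR ▸ (CfsgLib.PGroup.isPGroup_pCore p _).map _
    refine (CfsgLib.Subnormalizer.sn_iff hDp g).2 ⟨R, ?_, hRp, hg⟩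
    set N := Subgroup.normalizer (R : Set G)
    set K := D ⊔ R
    have hK : ∀ Q : Sylow p G, R ≤ (Q : Subgroup G) → K ≤ (Q : Subgroup G) :=
      fun Q hQ => sup_le (sInf_le ⟨Q, hHR.trans hQ, rfl⟩) hQ
    have hKp : IsPGroup p K := by
      obtain ⟨Q, hQ⟩ := hRp.exists_le_sylow
      exact Q.2.to_le (hK Q hQ)
    by_contra hne
    have hlt : R < K := lt_of_le_of_ne le_sup_right fun e => hne (e.ge.trans' le_sup_left)
    have h2 := CfsgLib.Subnormalizer.lt_inf_normalizer hKp hlt
    refine h2.not_ge (le_of_le_of_eq ?_ hR)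
    intro x hx
    refine ⟨⟨x, hx.2⟩, CfsgLib.PGroup.iInf_sylow_le_pCore p ?_, rfl⟩
    rw [Subgroup.mem_iInf]
    intro S
    obtain ⟨Q, hQ⟩ := (S.2.map N.subtype).exists_le_sylow
    have hRQ : R ≤ (Q : Subgroup G) := fun y hy => hQ ⟨⟨y, Subgroup.le_normalizer hy⟩,
      @IsPGroup.le_sylow_of_normal p N _ (R.subgroupOf N) Subgroup.normal_in_normalizer
        (IsPGroup.comap_of_injective hRp N.subtype N.subtype_injective) S ⟨y, Subgroup.le_normalizer hy⟩ hy, rfl⟩
    have h3 : (Q : Subgroup G).subgroupOf N = (S : Subgroup N) := S.3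
      (Q.2.comap_of_injective N.subtype N.subtype_injective)
      (fun y hy => hQ ⟨y, hy, rfl⟩)
    rw [← h3]
    exact hK Q hRQ hx.1
  · exact CfsgLib.Subnormalizer.sn_mono hH hDp hHD h

end Cfsg.Agent.S4089
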