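import Cfsg.Statements.S4090
import Cfsg.Agent.Lib.PGroup.SylowSeries
-- import your own Cfsg.Agent.* helpers here

set_option autoImplicit false
open scoped BigOperators
open Cfsg

namespace Cfsg.Agent.S4090

/-- Let G be a finite p-solvable group, H a p-subgroup of G and P a Sylow p-subgroup, and fix a chain of normal subgroups 1 = M₀ ≤ M₁ ≤ ⋯ ≤ Mₙ = G of G each of whose factors is a p-group or a p'-group. Then the number of elements g of G such that H is subnormal in the subgroup generated by H and g equals the order of P times the product, over the factors Mᵢ₊₁/Mᵢ of order prime to p, of the order of the centralizer of H in Mᵢ₊₁/Mᵢ (counted as the number of u ∈ Mᵢ₊₁ with [h, u] ∈ Mᵢ for all h ∈ H, divided by the order of Mᵢ). -/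
theorem result {G : Type*} [Group G] [Finite G] (p : ℕ) [Fact p.Prime]
    (hG : Cfsg.IsPSolvable p G) (H : Subgroup G) (hH : IsPGroup p H) (P : Sylow p G)
    (n : ℕ) (M : Fin (n + 1) → Subgroup G) (h0 : M 0 = ⊥) (hn : M (Fin.last n) = ⊤) (hmono : Monotone M)
    (hnormal : ∀ i, (M i).Normal)
    (hfac : ∀ i : Fin n, (∃ m : ℕ, (M i.castSucc).relIndex (M i.succ) = p ^ m) ∨ ((M i.castSucc).relIndex (M i.succ)).Coprime p) :
    Nat.card {g : G // ((H).subgroupOf (H ⊔ Subgroup.zpowers g)).IsSubnormal} =
      Nat.card (P : Subgroup G) *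
        ∏ i : Fin n, (if ((M i.castSucc).relIndex (M i.succ)).Coprime p then
          Nat.card {u : G // u ∈ M i.succ ∧ ∀ h ∈ H, h * u * h⁻¹ * u⁻¹ ∈ M i.castSucc} / Nat.card (M i.castSucc)
          else 1) := by
  classical
  rw [show Nat.card {g : G // ((H).subgroupOf (H ⊔ Subgroup.zpowers g)).IsSubnormal} = _ from
    (CfsgLib.Subnormalizer.card_sn_eq p H.index G H rfl hH P).trans
      (CfsgLib.Subnormalizer.card_conj_le_sylow H P).symm]
  set f : Fin n → ℕ := fun i => if ((M i.castSucc).relIndex (M i.succ)).Coprime p then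
      Nat.card {u : G // u ∈ M i.succ ∧ ∀ h ∈ H, h * u * h⁻¹ * u⁻¹ ∈ M i.castSucc} / Nat.card (M i.castSucc)
    else 1
  let c : Fin (n + 1) → ℕ := fun i =>
    Nat.card {g : G // CfsgLib.Coprime.conjBy g H ≤ (P : Subgroup G) ⊔ M i}
  suffices hmain : ∀ i : Fin (n + 1), c i = Nat.card ↥((P : Subgroup G) ⊔ M i) *
      ∏ j ∈ Finset.univ.filter (fun j : Fin n => i ≤ j.castSucc), f j by
    have h0' := hmain 0
    simp only [c, h0, sup_bot_eq] at h0'
    rw [h0', Finset.filter_true_of_mem (fun j _ => Fin.zero_le _)]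
  intro i
  induction i using Fin.reverseInduction with
  | last =>
    simp only [c, hn, sup_top_eq, le_top, Subgroup.card_top]
    rw [Finset.filter_false_of_mem fun j _ h => absurd h (not_le.2 (Fin.castSucc_lt_last j)),
      Finset.prod_empty, mul_one]
    exact Nat.card_congr (Equiv.subtypeUnivEquiv fun g => trivial)
  | cast i ih =>
    haveI := hnormal i.castSucc
    haveI := hnormal i.succ
    have hle : M i.castSucc ≤ M i.succ := hmono (Fin.castSucc_lt_succ).le
    have hsplit : Finset.univ.filter (fun j : Fin n => i.castSucc ≤ j.castSucc) =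
        insert i (Finset.univ.filter (fun j : Fin n => i.succ ≤ j.castSucc)) := by
      ext j
      simp only [Finset.mem_filter, Finset.mem_univ, true_and, Finset.mem_insert,
        Fin.castSucc_le_castSucc_iff, Fin.succ_le_castSucc_iff]
      exact le_iff_eq_or_lt.trans (or_congr eq_comm Iff.rfl)
    rw [hsplit, Finset.prod_insert (by simp)]
    by_cases hcop : ((M i.castSucc).relIndex (M i.succ)).Coprime p
    · have hf : f i = Nat.card {u : G // u ∈ M i.succ ∧ ∀ h ∈ H, h * u * h⁻¹ * u⁻¹ ∈ M i.castSucc} /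
          Nat.card (M i.castSucc) := if_pos hcop
      obtain ⟨hc, hL, hd⟩ :=
        CfsgLib.Subnormalizer.coprime_step H hH P (M i.castSucc) (M i.succ) hle hcop
      set C := Nat.card {u : G // u ∈ M i.succ ∧ ∀ h ∈ H, h * u * h⁻¹ * u⁻¹ ∈ M i.castSucc}
      refine Nat.eq_of_mul_eq_mul_right (Nat.card_pos (α := M i.succ)) ?_
      show c i.castSucc * Nat.card (M i.succ) = _
      rw [hc, show Nat.card {g : G // CfsgLib.Coprime.conjBy g H ≤ (P : Subgroup G) ⊔ M i.succ} =
        c i.succ from rfl, ih, hf]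
      obtain ⟨k, hk⟩ := hd
      rw [hk, Nat.mul_div_cancel_left _ Nat.card_pos]
      calc _ = Nat.card ↥((P : Subgroup G) ⊔ M i.succ) * Nat.card (M i.castSucc) * k *
            ∏ j ∈ Finset.univ.filter (fun j : Fin n => i.succ ≤ j.castSucc), f j := by ring
        _ = _ := by rw [hL]; ring
    · have hf : f i = 1 := if_neg hcop
      obtain ⟨m, hm⟩ := (hfac i).resolve_right hcop
      have hsup := CfsgLib.Subnormalizer.sup_eq_of_pow P (M i.castSucc) (M i.succ) hle hm
      rw [hf, one_mul]
      simp only [c, hsup] at ih ⊢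
      exact ih

end Cfsg.Agent.S4090
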