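import Cfsg.Statements.S4091
import Cfsg.Agent.Lib.PGroup.FixedPointProduct
import Cfsg.Agent.Lib.PGroup.SylowSeries
-- import your own Cfsg.Agent.* helpers here

set_option autoImplicit false
open Cfsg

namespace Cfsg.Agent.S4091

/-- The number of elements centralizing `H` modulo `M`, inside `M'`. -/
theorem card_centralizing {G : Type*} [Group G] [Finite G] (H M M' : Subgroup G) [M.Normal]
    (hle : M ≤ M') :
    Nat.card {u : G // u ∈ M' ∧ ∀ h ∈ H, h * u * h⁻¹ * u⁻¹ ∈ M} = Nat.card M *
      Nat.card ↥(M'.map (QuotientGroup.mk' M) ⊓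
        Subgroup.centralizer ((H.map (QuotientGroup.mk' M) : Subgroup (G ⧸ M)) : Set (G ⧸ M))) := by
  set π := QuotientGroup.mk' M with hπ
  set K := M'.map π ⊓ Subgroup.centralizer ((H.map π : Subgroup (G ⧸ M)) : Set (G ⧸ M)) with hK
  have e : Nat.card (K.comap π) = Nat.card M * Nat.card K := by
    have h1 := (K.comap π).card_mul_index
    rw [Subgroup.index_comap_of_surjective K (QuotientGroup.mk'_surjective M), ← M.card_mul_index,
      show M.index = Nat.card K * K.index from K.card_mul_index.symm] at h1
    exact Nat.eq_of_mul_eq_mul_right (Nat.pos_of_ne_zero K.index_ne_zero_of_finite)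
      (h1.trans (by ring))
  rw [← e]
  refine Nat.card_congr (Equiv.subtypeEquivRight fun u => ?_)
  rw [Subgroup.mem_comap, hK, Subgroup.mem_inf, ← Subgroup.mem_comap, Subgroup.comap_map_eq,
    hπ, QuotientGroup.ker_mk', sup_eq_left.2 hle, Subgroup.mem_centralizer_iff]
  refine and_congr_right fun _ => ⟨?_, fun h x hx => ?_⟩
  · rintro h _ ⟨x, hx, rfl⟩
    have h1 : (QuotientGroup.mk' M) (x * u * x⁻¹ * u⁻¹) = 1 := (QuotientGroup.eq_one_iff _).2 (h x hx)
    simp only [map_mul, map_inv] at h1
    rw [mul_inv_eq_one, mul_inv_eq_iff_eq_mul] at h1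
    exact h1
  · have h1 := h (QuotientGroup.mk' M x) (Subgroup.mem_map_of_mem _ hx)
    rw [← QuotientGroup.eq_one_iff]
    show QuotientGroup.mk' M (x * u * x⁻¹ * u⁻¹) = 1
    simp only [map_mul, map_inv, h1, mul_inv_cancel_right, mul_inv_cancel]

/-- Elements conjugating `H` into a Sylow subgroup. -/
noncomputable def zCount {G : Type*} [Group G] (H L : Subgroup G) : ℕ :=
  Nat.card {g : G // CfsgLib.Coprime.conjBy g H ≤ L}

/-- Let G be a finite p-solvable group, P a Sylow p-subgroup of G, u the number of p-elements of G (elements of p-power order, the identity included) and n the number of Sylow p-subgroups of G. Then u/#P ≥ n^((p−1)/p), stated as u^p ≥ #P^p · n^(p−1). -/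
theorem result {G : Type*} [Group G] [Finite G] (p : ℕ) [Fact p.Prime]
    (hG : Cfsg.IsPSolvable p G) (P : Sylow p G) :
    Nat.card (P : Subgroup G) ^ p * Nat.card (Sylow p G) ^ (p - 1) ≤ Nat.card {g : G // ∃ k : ℕ, orderOf g = p ^ k} ^ p := by
  classical
  obtain ⟨n, M, h0, hn, hmono, hnormal, hfac⟩ := hG
  letI := Fintype.ofFinite G
  letI := Fintype.ofFinite (P : Subgroup G)
  have hp : p.Prime := Fact.out
  set q := Nat.card (P : Subgroup G) with hq
  have hqF : Fintype.card (P : Subgroup G) = q := Nat.card_eq_fintype_card.symm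
  -- the series inequality
  have hser : ∀ i : Fin (n + 1),
      (∏ x : (P : Subgroup G), zCount (Subgroup.zpowers (x : G)) ((P : Subgroup G) ⊔ M i)) ^ p ≤
        zCount (P : Subgroup G) ((P : Subgroup G) ⊔ M i) ^ ((p - 1) * q) * Nat.card G ^ q := by
    intro i
    induction i using Fin.reverseInduction with
    | last =>
      have e : ∀ H : Subgroup G, zCount H ((P : Subgroup G) ⊔ M (Fin.last n)) = Nat.card G := fun H =>
        Nat.card_congr (Equiv.subtypeUnivEquiv fun g => by rw [hn, sup_top_eq]; exact le_top)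
      simp only [e, Finset.prod_const, Finset.card_univ, hqF, ← pow_mul, ← pow_add]
      refine le_of_eq (congrArg _ ?_)
      have := hp.one_lt
      rw [mul_comm]
      conv_lhs => rw [show p = (p - 1) + 1 by omega, add_mul, one_mul]
    | cast i ih =>
      haveI := hnormal i.castSucc
      haveI := hnormal i.succ
      have hle : M i.castSucc ≤ M i.succ := hmono (Fin.castSucc_lt_succ).le
      by_cases hcop : ((M i.castSucc).relIndex (M i.succ)).Coprime p
      · set A := M i.castSucc with hA
        set B := M i.succ with hB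
        set π := QuotientGroup.mk' A with hπ
        set F := B.map π with hF
        haveI : F.Normal := Subgroup.Normal.map inferInstance π (QuotientGroup.mk'_surjective A)
        set φ := π.comp (P : Subgroup G).subtype with hφ
        have hFc : Nat.card F = A.relIndex B := by
          rw [hF, hπ, ← Subgroup.relIndex_ker (K := B), QuotientGroup.ker_mk']
        have hb := CfsgLib.FixedProduct.bound_coprime P.2 φ F (hFc ▸ hcop)
          (by rw [Subgroup.normalizer_eq_top]; exact le_top)
        rw [CfsgLib.FixedProduct.Bound, hqF] at hb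
        have cPstep : zCount (P : Subgroup G) ((P : Subgroup G) ⊔ A) * Nat.card B =
            zCount (P : Subgroup G) ((P : Subgroup G) ⊔ B) *
              (Nat.card A * CfsgLib.FixedProduct.cP φ F) := by
          rw [show zCount (P : Subgroup G) ((P : Subgroup G) ⊔ A) * Nat.card B = _ from
            (CfsgLib.Subnormalizer.coprime_step (P : Subgroup G) P.2 P A B hle hcop).1,
            card_centralizing _ A B hle]
          congr 3
          rw [hφ, MonoidHom.range_comp, Subgroup.range_subtype]
        have cxstep : ∀ x : (P : Subgroup G),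
            zCount (Subgroup.zpowers (x : G)) ((P : Subgroup G) ⊔ A) * Nat.card B =
              zCount (Subgroup.zpowers (x : G)) ((P : Subgroup G) ⊔ B) *
                (Nat.card A * CfsgLib.FixedProduct.cx φ x F) := by
          intro x
          have hx : IsPGroup p (Subgroup.zpowers (x : G)) := P.2.to_le (Subgroup.zpowers_le.2 x.2)
          rw [show zCount (Subgroup.zpowers (x : G)) ((P : Subgroup G) ⊔ A) * Nat.card B = _ from
            (CfsgLib.Subnormalizer.coprime_step _ hx P A B hle hcop).1,
            card_centralizing _ A B hle]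
          congr 3
          rw [MonoidHom.map_zpowers, CfsgLib.FixedProduct.centralizer_zpowers]
          rfl
        have hcard : Nat.card A * Nat.card F = Nat.card B := by
          rw [hFc, ← Subgroup.relIndex_bot_left, ← Subgroup.relIndex_bot_left,
            Subgroup.relIndex_mul_relIndex _ _ _ bot_le hle]
        refine Nat.le_of_mul_le_mul_right ?_ (pow_pos (Nat.card_pos (α := B)) (p * q))
        calc (∏ x : (P : Subgroup G), zCount (Subgroup.zpowers (x : G)) ((P : Subgroup G) ⊔ A)) ^ p *
              Nat.card B ^ (p * q)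
            = (∏ x : (P : Subgroup G),
                zCount (Subgroup.zpowers (x : G)) ((P : Subgroup G) ⊔ A) * Nat.card B) ^ p := by
              rw [Finset.prod_mul_distrib, Finset.prod_const, Finset.card_univ, hqF, mul_pow,
                ← pow_mul, mul_comm q p]
          _ = (∏ x : (P : Subgroup G), zCount (Subgroup.zpowers (x : G)) ((P : Subgroup G) ⊔ B)) ^ p *
              (Nat.card A ^ (p * q) * (∏ x : (P : Subgroup G), CfsgLib.FixedProduct.cx φ x F) ^ p) := by
              rw [Finset.prod_congr rfl (fun x _ => cxstep x), Finset.prod_mul_distrib,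
                Finset.prod_mul_distrib, Finset.prod_const, Finset.card_univ, hqF, mul_pow, mul_pow,
                ← pow_mul, mul_comm q p]
          _ ≤ (zCount (P : Subgroup G) ((P : Subgroup G) ⊔ B) ^ ((p - 1) * q) * Nat.card G ^ q) *
              (Nat.card A ^ (p * q) * (Nat.card F ^ q *
                CfsgLib.FixedProduct.cP φ F ^ ((p - 1) * q))) :=
              Nat.mul_le_mul ih (Nat.mul_le_mul_left _ hb)
          _ = (zCount (P : Subgroup G) ((P : Subgroup G) ⊔ B) *
                (Nat.card A * CfsgLib.FixedProduct.cP φ F)) ^ ((p - 1) * q) * Nat.card G ^ q *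
              (Nat.card A * Nat.card F) ^ q := by
              rw [show p * q = (p - 1) * q + q by
                have := hp.one_lt
                conv_lhs => rw [show p = (p - 1) + 1 by omega, add_mul, one_mul]]
              simp only [mul_pow, pow_add]
              ring
          _ = _ := by
              rw [← cPstep, hcard, show p * q = (p - 1) * q + q by
                have := hp.one_lt
                conv_lhs => rw [show p = (p - 1) + 1 by omega, add_mul, one_mul]]
              simp only [mul_pow, pow_add]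
              ring
      · obtain ⟨m, hm⟩ := (hfac i).resolve_right hcop
        rw [CfsgLib.Subnormalizer.sup_eq_of_pow P (M i.castSucc) (M i.succ) hle hm]
        exact ih
  have h1 := hser 0
  rw [h0, sup_bot_eq] at h1
  -- the normalizer and the Sylow number
  have hN : zCount (P : Subgroup G) (P : Subgroup G) =
      Nat.card (Subgroup.normalizer ((P : Subgroup G) : Set G)) := by
    refine Nat.card_congr (Equiv.subtypeEquivRight fun g => ?_)
    rw [← CfsgLib.Coprime.conjBy_eq_self_iff]
    exact ⟨fun h => Subgroup.eq_of_le_of_card_ge h (CfsgLib.Coprime.card_conjBy g _).ge, le_of_eq⟩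
  rw [hN] at h1
  set A := Nat.card (Subgroup.normalizer ((P : Subgroup G) : Set G)) with hAdef
  have hGA : Nat.card G = A * Nat.card (Sylow p G) := by
    rw [hAdef, Sylow.card_eq_index_normalizer P]
    exact (Subgroup.card_mul_index _).symm
  set Z := fun x : (P : Subgroup G) => zCount (Subgroup.zpowers (x : G)) (P : Subgroup G) with hZdef
  have hZpos : ∀ x, 0 < Z x := fun x => by
    haveI : Nonempty {g : G // CfsgLib.Coprime.conjBy g (Subgroup.zpowers (x : G)) ≤ P} :=
      ⟨⟨1, by rw [CfsgLib.Coprime.conjBy_one]; exact Subgroup.zpowers_le.2 x.2⟩⟩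
    exact Nat.card_pos
  set u := Nat.card {g : G // ∃ k : ℕ, orderOf g = p ^ k} with hu
  -- the double count
  have hsum : ∑ x : (P : Subgroup G), (1 : ℝ) / Z x = (u : ℝ) / Nat.card G := by
    have hG0 : (Nat.card G : ℝ) ≠ 0 := by exact_mod_cast Nat.card_pos.ne'
    rw [eq_div_iff hG0]
    let T : G → ℕ := fun y => (Finset.univ.filter (fun g : G => g * y * g⁻¹ ∈ (P : Subgroup G))).card
    have hT : ∀ (g : G) (x : (P : Subgroup G)), T (g⁻¹ * x * g) = Z x := by
      intro g x
      show _ = zCount _ _
      show (Finset.univ.filter (fun w : G => w * (g⁻¹ * x * g) * w⁻¹ ∈ (P : Subgroup G))).card = _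
      rw [zCount, ← Fintype.card_subtype, ← Nat.card_eq_fintype_card]
      refine Nat.card_congr ((Equiv.mulRight g⁻¹).subtypeEquiv fun w => ?_)
      show w * (g⁻¹ * x * g) * w⁻¹ ∈ (P : Subgroup G) ↔
        CfsgLib.Coprime.conjBy (w * g⁻¹) (Subgroup.zpowers (x : G)) ≤ P
      rw [show CfsgLib.Coprime.conjBy (w * g⁻¹) (Subgroup.zpowers (x : G)) =
          Subgroup.zpowers ((MulAut.conj (w * g⁻¹)) (x : G)) from MonoidHom.map_zpowers _ _,
        Subgroup.zpowers_le, MulAut.conj_apply]
      have e : w * (g⁻¹ * (x : G) * g) * w⁻¹ = w * g⁻¹ * (x : G) * (w * g⁻¹)⁻¹ := by group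
      rw [e]
    have hmemT : ∀ y : G, (∃ k : ℕ, orderOf y = p ^ k) → 0 < T y := by
      intro y ⟨k, hk⟩
      have hpy : IsPGroup p (Subgroup.zpowers y) := IsPGroup.of_card (by rw [Nat.card_zpowers, hk])
      obtain ⟨Q, hQ⟩ := hpy.exists_le_sylow
      obtain ⟨g, hg⟩ := MulAction.exists_smul_eq G Q P
      refine Finset.card_pos.2 ⟨g, Finset.mem_filter.2 ⟨Finset.mem_univ _, ?_⟩⟩
      rw [← hg]
      exact ⟨y, hQ (Subgroup.mem_zpowers y), rfl⟩
    calc (∑ x : (P : Subgroup G), (1 : ℝ) / Z x) * Nat.card G
        = ∑ g : G, ∑ x : (P : Subgroup G), (1 : ℝ) / T (g⁻¹ * x * g) := by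
          simp only [hT]
          rw [Finset.sum_const, Finset.card_univ, nsmul_eq_mul, Nat.card_eq_fintype_card, mul_comm]
      _ = ∑ g : G, ∑ y : G, if g * y * g⁻¹ ∈ (P : Subgroup G) then (1 : ℝ) / T y else 0 := by
          refine Finset.sum_congr rfl fun g _ => ?_
          rw [← Finset.sum_filter]
          refine Finset.sum_bij' (fun x _ => g⁻¹ * (x : G) * g)
            (fun y hy => ⟨g * y * g⁻¹, (Finset.mem_filter.1 hy).2⟩) ?_ ?_ ?_ ?_ ?_
          · intro x _
            refine Finset.mem_filter.2 ⟨Finset.mem_univ _, ?_⟩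
            rw [show g * (g⁻¹ * (x : G) * g) * g⁻¹ = x by group]
            exact x.2
          · intro y _; exact Finset.mem_univ _
          · intro x _; exact Subtype.ext (by show g * (g⁻¹ * (x : G) * g) * g⁻¹ = x; group)
          · intro y _; show g⁻¹ * (g * y * g⁻¹) * g = y; group
          · intro x _; rfl
      _ = ∑ y : G, if (∃ k : ℕ, orderOf y = p ^ k) then (1 : ℝ) else 0 := by
          rw [Finset.sum_comm]
          refine Finset.sum_congr rfl fun y _ => ?_
          rw [← Finset.sum_filter, Finset.sum_const, nsmul_eq_mul]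
          show (T y : ℝ) * (1 / (T y : ℝ)) = _
          by_cases hy : ∃ k : ℕ, orderOf y = p ^ k
          · rw [if_pos hy, mul_one_div_cancel (by exact_mod_cast (hmemT y hy).ne')]
          · rw [if_neg hy]
            have h00 : T y = 0 := by
              by_contra hne
              obtain ⟨g, hg⟩ := Finset.card_pos.1 (Nat.pos_of_ne_zero hne)
              obtain ⟨k, hk⟩ := IsPGroup.iff_orderOf.1 P.2 ⟨_, (Finset.mem_filter.1 hg).2⟩
              refine hy ⟨k, ?_⟩
              rw [← hk, Subgroup.orderOf_mk, orderOf_injective (MulAut.conj g).toMonoidHom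
                (MulAut.conj g).injective y |>.symm]
              rfl
            rw [h00]; simp
      _ = (u : ℝ) := by
          rw [hu, Nat.card_eq_fintype_card, Fintype.card_subtype, Finset.sum_boole]
  -- the mean inequality
  have hq0 : 0 < q := Nat.card_pos
  have hu0 : 0 < u := by
    haveI : Nonempty {g : G // ∃ k : ℕ, orderOf g = p ^ k} := ⟨⟨1, 0, by simp⟩⟩
    exact Nat.card_pos
  have hmean : (q * Nat.card G) ^ q ≤ u ^ q * ∏ x, Z x := by
    set μ : ℝ := (u : ℝ) / (q * Nat.card G) with hμ
    have hμ0 : 0 < μ := by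
      have h1 : (0 : ℝ) < (u : ℝ) := by exact_mod_cast hu0
      have h2 : (0 : ℝ) < (q : ℝ) * Nat.card G := by
        have : 0 < q * Nat.card G := Nat.mul_pos hq0 Nat.card_pos
        exact_mod_cast this
      exact div_pos h1 h2
    have hle : ∀ x : (P : Subgroup G),
        (1 / (Z x : ℝ)) / μ ≤ Real.exp ((1 / (Z x : ℝ)) / μ - 1) := fun x => by
      have := Real.add_one_le_exp ((1 / (Z x : ℝ)) / μ - 1)
      linarith
    have hprod := Finset.prod_le_prod (s := Finset.univ)
      (fun x _ => show (0 : ℝ) ≤ (1 / (Z x : ℝ)) / μ by positivity) (fun x _ => hle x)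
    rw [← Real.exp_sum, Finset.sum_sub_distrib, ← Finset.sum_div, hsum, Finset.sum_const,
      Finset.card_univ, hqF, nsmul_eq_mul, mul_one] at hprod
    have e0 : (u : ℝ) / (Nat.card G : ℝ) / μ - q = 0 := by
      rw [hμ]
      have h1 : (u : ℝ) ≠ 0 := by exact_mod_cast hu0.ne'
      have h2 : (Nat.card G : ℝ) ≠ 0 := by exact_mod_cast Nat.card_pos.ne'
      field_simp
      ring
    rw [e0, Real.exp_zero] at hprod
    have hpos : (0 : ℝ) < (u : ℝ) ^ q * ∏ x, (Z x : ℝ) := by
      refine mul_pos (pow_pos (by exact_mod_cast hu0) _) (Finset.prod_pos fun x _ => ?_)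
      exact_mod_cast hZpos x
    have e1 : ∏ x : (P : Subgroup G), (1 / (Z x : ℝ)) / μ =
        ((q : ℝ) * Nat.card G) ^ q / ((u : ℝ) ^ q * ∏ x, (Z x : ℝ)) := by
      rw [Finset.prod_div_distrib, Finset.prod_div_distrib, Finset.prod_const_one, Finset.prod_const,
        Finset.card_univ, hqF, hμ, div_pow, div_div, mul_div, div_div_eq_mul_div, one_mul, mul_comm]
      ring
    rw [e1, div_le_one hpos] at hprod
    exact_mod_cast hprod
  -- combine
  have h2 : (q * Nat.card G) ^ (q * p) ≤ u ^ (q * p) * (A ^ ((p - 1) * q) * Nat.card G ^ q) := by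
    calc (q * Nat.card G) ^ (q * p) = ((q * Nat.card G) ^ q) ^ p := pow_mul _ _ _
      _ ≤ (u ^ q * ∏ x, Z x) ^ p := Nat.pow_le_pow_left hmean p
      _ = u ^ (q * p) * (∏ x, Z x) ^ p := by rw [mul_pow, ← pow_mul]
      _ ≤ _ := Nat.mul_le_mul_left _ h1
  have hpq : q * p = (p - 1) * q + q := by
    have := hp.one_lt
    rw [mul_comm]
    conv_lhs => rw [show p = (p - 1) + 1 by omega, add_mul, one_mul]
  refine (Nat.pow_le_pow_iff_left (n := q) hq0.ne').1 ?_
  refine Nat.le_of_mul_le_mul_right ?_
    (show 0 < A ^ ((p - 1) * q) * Nat.card G ^ q by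
      have : 0 < A := Nat.card_pos
      have : 0 < Nat.card G := Nat.card_pos
      positivity)
  calc (q ^ p * Nat.card (Sylow p G) ^ (p - 1)) ^ q * (A ^ ((p - 1) * q) * Nat.card G ^ q)
      = q ^ (p * q) * (A * Nat.card (Sylow p G)) ^ ((p - 1) * q) * Nat.card G ^ q := by
        rw [mul_pow, mul_pow, ← pow_mul, ← pow_mul]; ring
    _ = (q * Nat.card G) ^ (q * p) := by
        rw [← hGA, mul_comm p q, mul_pow, mul_assoc, ← pow_add, ← hpq]
    _ ≤ _ := h2
    _ = (u ^ p) ^ q * (A ^ ((p - 1) * q) * Nat.card G ^ q) := by rw [← pow_mul, mul_comm q p]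

end Cfsg.Agent.S4091
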