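import Cfsg.Statements.S4092
import Cfsg.Agent.Lib.Coprime.Core
import Mathlib.Tactic.Linarith

set_option autoImplicit false
set_option linter.style.haveILetI false
open Cfsg

namespace Cfsg.Agent.S4092

/-- Let G be a finite group, p a prime and P a Sylow p-subgroup of G that is not normal in G. Then G has at least p·#P elements of p-power order (the identity included). -/
theorem result {G : Type*} [Group G] [Finite G] (p : ℕ) [Fact p.Prime]
    (P : Sylow p G) (hP : ¬ (P : Subgroup G).Normal) :
    p * Nat.card (P : Subgroup G) ≤ Nat.card {g : G // ∃ k : ℕ, orderOf g = p ^ k} := by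
  classical
  have hP' : ∃ Q : Sylow p G, Q ≠ P := by
    by_contra h
    push Not at h
    refine hP ?_
    haveI : Subsingleton (Sylow p G) := ⟨fun a b => (h a).trans (h b).symm⟩
    exact P.normal_of_subsingleton
  obtain ⟨P', hP'⟩ := hP'
  obtain ⟨⟨A, B⟩, hAB, hmax⟩ := Set.exists_max_image {z : Sylow p G × Sylow p G | z.1 ≠ z.2}
    (fun z => Nat.card ↥((z.1 : Subgroup G) ⊓ (z.2 : Subgroup G))) (Set.toFinite _) ⟨(P', P), hP'⟩
  simp only [Set.mem_ofPred_eq] at hAB hmax
  set D := (A : Subgroup G) ⊓ (B : Subgroup G) with hD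
  set U := (A : Subgroup G) ⊓ Subgroup.normalizer (D : Set G) with hU
  have hDA : D ≤ (A : Subgroup G) := inf_le_left
  have hDne : D ≠ (A : Subgroup G) := fun e => hAB (Sylow.ext (A.3 B.isPGroup' (e ▸ inf_le_right)).symm)
  have hDU : D < U := by
    haveI := A.isPGroup'.isNilpotent
    have h := Group.normalizerCondition_of_isNilpotent (D.subgroupOf (A : Subgroup G))
      (lt_top_iff_ne_top.2 fun e => hDne (le_antisymm hDA (Subgroup.subgroupOf_eq_top.1 e)))
    refine lt_of_le_of_ne (le_inf hDA Subgroup.le_normalizer) fun e => h.not_ge fun z hz => ?_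
    show (z : G) ∈ D
    rw [e]
    refine ⟨z.2, Subgroup.mem_normalizer_iff.2 fun w => ⟨fun hw => ?_, fun hw => ?_⟩⟩
    · exact (Subgroup.mem_normalizer_iff.1 hz ⟨w, hDA hw⟩).1 hw
    · have hw' : w ∈ (A : Subgroup G) := by
        have := (A : Subgroup G).mul_mem
          ((A : Subgroup G).mul_mem ((A : Subgroup G).inv_mem z.2) (hDA hw)) z.2
        simpa [mul_assoc] using this
      exact (Subgroup.mem_normalizer_iff.1 hz ⟨w, hw'⟩).2 hw
  -- the conjugates of `B` under `U`, with `A`
  let Bs : Finset (Sylow p G) := insert A ((Set.toFinite (MulAction.orbit U B)).toFinset)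
  have hfix : ∀ u : U, u • B = B ↔ (u : G) ∈ D := by
    intro u
    constructor
    · intro e
      refine ⟨u.2.1, ?_⟩
      have h1 : (u : G) ∈ Subgroup.normalizer ((B : Subgroup G) : Set G) :=
        Sylow.smul_eq_iff_mem_normalizer.1 e
      obtain ⟨k, hk⟩ := A.isPGroup' ⟨u, u.2.1⟩
      have hup : IsPGroup p (Subgroup.zpowers (u : G)) :=
        A.isPGroup'.to_le (Subgroup.zpowers_le.2 u.2.1)
      exact (B.3 (hup.to_sup_of_normal_right' B.isPGroup' (Subgroup.zpowers_le.2 h1)) le_sup_right).le
        (Subgroup.mem_sup_left (Subgroup.mem_zpowers _))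
    · intro hu
      exact Sylow.smul_eq_iff_mem_normalizer.2 (Subgroup.le_normalizer hu.2)
  have horb : p ≤ Nat.card (MulAction.orbit U B) := by
    rw [Nat.card_congr (MulAction.orbitEquivQuotientStabilizer U B), ← Subgroup.index_eq_card]
    have hst : MulAction.stabilizer U B = D.subgroupOf U := by
      ext u; exact hfix u
    rw [hst]
    obtain ⟨i, hi⟩ := (A.isPGroup'.to_le (inf_le_left : U ≤ _)).index (D.subgroupOf U)
    rw [hi]
    refine Nat.le_self_pow (fun h0 => hDU.not_ge ?_) p
    rw [h0, pow_zero, Subgroup.index_eq_one, Subgroup.subgroupOf_eq_top] at hi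
    exact hi
  have hcontains : ∀ T ∈ Bs, D ≤ (T : Subgroup G) := by
    intro T hT
    rcases Finset.mem_insert.1 hT with rfl | hT
    · exact hDA
    · obtain ⟨u, rfl⟩ := (Set.Finite.mem_toFinset _).1 hT
      intro d hd
      refine ⟨(u : G)⁻¹ * d * u, (inf_le_right : D ≤ _) ?_, ?_⟩
      · have h5 := (Subgroup.mem_normalizer_iff.1 (Subgroup.inv_mem _ u.2.2) d).1 hd
        rw [inv_inv] at h5
        exact h5
      · simp [MulAut.conj_apply, mul_assoc]
  have hBs : p + 1 ≤ Bs.card := by
    rw [Finset.card_insert_of_notMem, ← Set.ncard_eq_toFinset_card (MulAction.orbit U B),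
      ← Nat.card_coe_set_eq]
    · omega
    · rw [Set.Finite.mem_toFinset]
      rintro ⟨u, hu⟩
      refine hAB ?_
      have : u • A = A := Sylow.smul_eq_iff_mem_normalizer.2 (Subgroup.le_normalizer u.2.1)
      exact smul_left_cancel u (this.trans hu.symm)
  have := Fintype.ofFinite G
  let F : Sylow p G → Finset G := fun T => Finset.univ.filter fun g => g ∈ T ∧ g ∉ D
  have hdisj : (Bs : Set (Sylow p G)).PairwiseDisjoint F := by
    intro T hT T' hT' hne
    refine Finset.disjoint_left.2 fun g hg hg' => ?_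
    simp only [F, Finset.mem_filter] at hg hg'
    have heq : D = (T : Subgroup G) ⊓ (T' : Subgroup G) :=
      Subgroup.eq_of_le_of_card_ge (le_inf (hcontains T hT) (hcontains T' hT')) (hmax (T, T') hne)
    exact hg.2.2 (heq ▸ ⟨hg.2.1, hg'.2.1⟩)
  have hFcard : ∀ T ∈ Bs, (F T).card + Nat.card D = Nat.card (P : Subgroup G) := by
    intro T hT
    have e : ∀ H : Subgroup G, Nat.card H = (Finset.univ.filter (· ∈ H)).card := fun H => by
      rw [Nat.card_eq_fintype_card]; exact Fintype.card_subtype _
    rw [show Nat.card (P : Subgroup G) = Nat.card (T : Subgroup G) by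
      rw [P.card_eq_multiplicity, T.card_eq_multiplicity], e, e, ← Finset.card_union_of_disjoint]
    · congr 1
      ext g
      simp only [F, Finset.mem_union, Finset.mem_filter, Finset.mem_univ, true_and, SetLike.mem_coe]
      refine ⟨fun h => h.elim And.left (fun hg => hcontains T hT hg), fun h => ?_⟩
      by_cases hgD : g ∈ D
      · exact Or.inr hgD
      · exact Or.inl ⟨h, hgD⟩
    · refine Finset.disjoint_left.2 fun g hg hg' => ?_
      simp only [F, Finset.mem_filter] at hg hg'
      exact hg.2.2 hg'.2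
  let E : Finset G := Finset.univ.filter fun g => ∃ k, orderOf g = p ^ k
  have hsub : (Bs.biUnion F) ∪ Finset.univ.filter (· ∈ D) ⊆ E := by
    intro g hg
    simp only [E, F, Finset.mem_union, Finset.mem_biUnion, Finset.mem_filter, Finset.mem_univ,
      true_and] at hg ⊢
    rcases hg with ⟨T, -, hgT, -⟩ | hgD
    · obtain ⟨k, hk⟩ := (IsPGroup.iff_orderOf.1 T.isPGroup') ⟨g, hgT⟩
      exact ⟨k, by rw [← hk, Subgroup.orderOf_mk]⟩
    · obtain ⟨k, hk⟩ := (IsPGroup.iff_orderOf.1 A.isPGroup') ⟨g, hgD.1⟩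
      exact ⟨k, by rw [← hk, Subgroup.orderOf_mk]⟩
  have hle := Finset.card_le_card hsub
  rw [Finset.card_union_of_disjoint, Finset.card_biUnion hdisj] at hle
  rotate_left
  · refine Finset.disjoint_left.2 fun g hg hg' => ?_
    simp only [F, Finset.mem_biUnion, Finset.mem_filter] at hg hg'
    obtain ⟨T, -, -, -, h⟩ := hg
    exact h hg'.2
  have hsum : Bs.card * (Nat.card (P : Subgroup G) - Nat.card D) ≤ ∑ T ∈ Bs, (F T).card := by
    rw [← smul_eq_mul]
    refine Finset.card_nsmul_le_sum _ _ _ fun T hT => ?_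
    have := hFcard T hT; omega
  have hDc : (Finset.univ.filter (· ∈ D)).card = Nat.card D := by
    rw [Nat.card_eq_fintype_card]; exact (Fintype.card_subtype _).symm
  rw [hDc] at hle
  rw [show Nat.card {g : G // ∃ k : ℕ, orderOf g = p ^ k} = E.card by
    rw [Nat.card_eq_fintype_card]; exact Fintype.card_subtype _]
  have hDP : p * Nat.card D ≤ Nat.card (P : Subgroup G) := by
    rw [show Nat.card (P : Subgroup G) = Nat.card (A : Subgroup G) by
      rw [P.card_eq_multiplicity, A.card_eq_multiplicity]]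
    obtain ⟨i, hi⟩ := IsPGroup.iff_card.1 (A.isPGroup'.to_le hDA)
    obtain ⟨j, hj⟩ := IsPGroup.iff_card.1 A.isPGroup'
    have hij : i < j := by
      by_contra h
      exact hDne (Subgroup.eq_of_le_of_card_ge hDA
        (by rw [hi, hj]; exact Nat.pow_le_pow_right (Fact.out : p.Prime).pos (by omega)))
    rw [hi, hj, ← pow_succ']
    exact Nat.pow_le_pow_right (Fact.out : p.Prime).pos hij
  have h3 : (p + 1) * (Nat.card (P : Subgroup G) - Nat.card D) ≤
      Bs.card * (Nat.card (P : Subgroup G) - Nat.card D) := Nat.mul_le_mul_right _ hBs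
  have h4 : Nat.card D ≤ Nat.card (P : Subgroup G) :=
    le_trans (Nat.le_mul_of_pos_left _ (Fact.out : p.Prime).pos) hDP
  obtain ⟨r, hr⟩ := Nat.exists_eq_add_of_le h4
  rw [hr, Nat.add_sub_cancel_left] at h3 hsum
  rw [hr] at hDP ⊢
  nlinarith [hle, hsum, h3, hDP]

end Cfsg.Agent.S4092
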