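import Cfsg.Statements.S4093
import Cfsg.Agent.Lib.Coprime.SchurZassenhaus
import Cfsg.Agent.Lib.Coprime.Core

set_option autoImplicit false
set_option linter.style.haveILetI false
open scoped BigOperators
open Cfsg

namespace Cfsg.Agent.S4093

/-- Let G be a finite group with a normal subgroup N complementing a Sylow p-subgroup P (a normal p-complement). Then the number of elements of G of p-power order equals the sum over x ∈ P of the index of C_N(x) in N. -/
theorem result {G : Type*} [Group G] [Finite G] (p : ℕ) [Fact p.Prime]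
    (P : Sylow p G) (N : Subgroup G) [N.Normal] (hNP : N.IsComplement' (P : Subgroup G)) :
    Nat.card {g : G // ∃ k : ℕ, orderOf g = p ^ k} =
      ∑ᶠ x : (P : Subgroup G), Nat.card N / Nat.card ↥(N ⊓ Subgroup.centralizer ({(x : G)} : Set G)) := by
  classical
  have := Fintype.ofFinite (P : Subgroup G)
  rw [finsum_eq_sum_of_fintype]
  have hpN : ¬ p ∣ Nat.card N := by
    rw [← hNP.index_eq_card]
    exact P.not_dvd_index
  set π := {g : G // ∃ k : ℕ, orderOf g = p ^ k}
  have huniv : ∀ g : G, ∃ n ∈ N, ∃ u ∈ (P : Subgroup G), n * u = g := fun g => by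
    have h1 : g ∈ N ⊔ (P : Subgroup G) := hNP.sup_eq_top ▸ Subgroup.mem_top g
    rw [Subgroup.mem_sup_of_normal_left] at h1
    obtain ⟨n, hn, u, hu, h⟩ := h1
    exact ⟨n, hn, u, hu, h⟩
  let T : ↥(P : Subgroup G) → Type _ := fun u => N ⧸ (N ⊓ Subgroup.centralizer ({(u : G)} : Set G)).subgroupOf N
  let f : (Σ u : (P : Subgroup G), T u) → π := fun z =>
    Quotient.liftOn' z.2 (fun n => ⟨(n : G) * z.1 * (n : G)⁻¹, by
      obtain ⟨k, hk⟩ := (IsPGroup.iff_orderOf.1 P.isPGroup') z.1
      exact ⟨k, (orderOf_injective (MulAut.conj (n : G)).toMonoidHom (MulAut.conj (n : G)).injective _).trans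
        (by rw [Subgroup.orderOf_coe, hk])⟩⟩) fun a b hab => by
      rw [QuotientGroup.leftRel_apply, Subgroup.mem_subgroupOf, Subgroup.mem_inf,
        Subgroup.mem_centralizer_singleton_iff] at hab
      refine Subtype.ext ?_
      have h2 := hab.2
      simp only [Subgroup.coe_mul, Subgroup.coe_inv] at h2
      calc (a : G) * z.1 * (a : G)⁻¹ = (a : G) * ((z.1 : G) * ((a : G)⁻¹ * b)) * (b : G)⁻¹ := by group
        _ = (b : G) * z.1 * (b : G)⁻¹ := by rw [← h2]; group
  have hf : Function.Bijective f := by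
    constructor
    · rintro ⟨u, c⟩ ⟨v, d⟩ h
      induction c using QuotientGroup.induction_on with
      | H a =>
        induction d using QuotientGroup.induction_on with
        | H b =>
          have h' : (a : G) * u * (a : G)⁻¹ = (b : G) * v * (b : G)⁻¹ := congrArg Subtype.val h
          have huv : u = v := by
            have hfu := congrArg (QuotientGroup.mk' N) h'
            simp only [map_mul, map_inv, show QuotientGroup.mk' N (a : G) = 1 from (QuotientGroup.eq_one_iff _).2 a.2,
              show QuotientGroup.mk' N (b : G) = 1 from (QuotientGroup.eq_one_iff _).2 b.2, one_mul,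
              inv_one, mul_one] at hfu
            refine Subtype.ext (inv_mul_eq_one.1 (Subgroup.disjoint_def.1 hNP.disjoint
              (QuotientGroup.eq.1 hfu) ((P : Subgroup G).mul_mem ((P : Subgroup G).inv_mem u.2) v.2)))
          subst huv
          congr 1
          refine QuotientGroup.eq.2 ⟨(a⁻¹ * b).2, Subgroup.mem_centralizer_singleton_iff.2 ?_⟩
          simp only [Subgroup.coe_mul, Subgroup.coe_inv, Subgroup.coe_subtype]
          calc (a : G)⁻¹ * b * u = (a : G)⁻¹ * ((b : G) * u * (b : G)⁻¹) * b := by group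
            _ = (u : G) * ((a : G)⁻¹ * b) := by rw [← h']; group
    · rintro ⟨g, k, hk⟩
      obtain ⟨n, hn, u, hu, rfl⟩ := huniv g
      obtain ⟨j, hj⟩ := (IsPGroup.iff_orderOf.1 P.isPGroup') ⟨u, hu⟩
      rw [Subgroup.orderOf_mk] at hj
      have hcopN : (Nat.card N).Coprime (p ^ j) :=
        (((Fact.out : p.Prime).coprime_iff_not_dvd.2 hpN).pow_left j).symm
      have hjk : orderOf (n * u) = p ^ j := by
        have h1 : p ^ j ∣ p ^ k := by
          rw [← hk, ← hj]
          refine orderOf_dvd_of_pow_eq_one ?_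
          have h2 := congrArg (QuotientGroup.mk' N) (pow_orderOf_eq_one (n * u))
          rw [map_pow, map_mul, show QuotientGroup.mk' N n = 1 from (QuotientGroup.eq_one_iff _).2 hn,
            one_mul, ← map_pow, map_one] at h2
          exact Subgroup.disjoint_def.1 hNP.disjoint ((QuotientGroup.eq_one_iff _).1 h2)
            ((P : Subgroup G).pow_mem hu _)
        have h2 : (n * u) ^ p ^ j ∈ N := by
          rw [← QuotientGroup.eq_one_iff, ← QuotientGroup.mk'_apply, map_pow, map_mul,
            show QuotientGroup.mk' N n = 1 from (QuotientGroup.eq_one_iff _).2 hn, one_mul, ← map_pow,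
            ← hj, pow_orderOf_eq_one, map_one]
        have h3 : (n * u) ^ p ^ j = 1 := by
          refine orderOf_eq_one_iff.1 (Nat.eq_one_of_dvd_coprimes
            ((((Fact.out : p.Prime).coprime_iff_not_dvd.2 hpN).pow_left k))
            ((orderOf_pow_dvd _).trans (hk ▸ dvd_rfl)) (N.orderOf_dvd_natCard h2))
        exact Nat.dvd_antisymm (orderOf_dvd_of_pow_eq_one h3) (hk ▸ h1)
      obtain ⟨c, hc, hcU⟩ := CfsgLib.Coprime.sz_conj_in (A := Subgroup.zpowers u)
        (B := Subgroup.zpowers (n * u)) (N := N) (by rw [Subgroup.normalizer_eq_top N]; exact le_top)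
        (by rw [Nat.card_zpowers, hj]; exact hcopN)
        (Subgroup.zpowers_le.2 (Subgroup.mul_mem _ (Subgroup.mem_sup_right hn)
          (Subgroup.mem_sup_left (Subgroup.mem_zpowers u))))
        (by rw [Nat.card_zpowers, Nat.card_zpowers, hjk, hj]) (Or.inl inferInstance)
      have hmem : c * (n * u) * c⁻¹ ∈ Subgroup.zpowers u :=
        hcU ▸ CfsgLib.Coprime.conj_mem_conjBy (Subgroup.mem_zpowers _)
      have hcu : c * (n * u) * c⁻¹ = u := by
        obtain ⟨i, hi⟩ := hmem
        have h1 : u⁻¹ * u ^ i ∈ N := by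
          rw [← QuotientGroup.eq, show u ^ i = c * (n * u) * c⁻¹ from hi]
          have hc1 : QuotientGroup.mk' N c = 1 := (QuotientGroup.eq_one_iff _).2 hc
          have hn1 : QuotientGroup.mk' N n = 1 := (QuotientGroup.eq_one_iff _).2 hn
          show QuotientGroup.mk' N u = QuotientGroup.mk' N _
          rw [map_mul, map_mul, map_mul, map_inv, hc1, hn1, one_mul, one_mul, inv_one, mul_one]
        have h2 := Subgroup.disjoint_def.1 hNP.disjoint h1
          ((P : Subgroup G).mul_mem ((P : Subgroup G).inv_mem hu) ((P : Subgroup G).zpow_mem hu i))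
        exact hi.symm.trans (inv_mul_eq_one.1 h2).symm
      refine ⟨⟨⟨u, hu⟩, ((⟨c⁻¹, N.inv_mem hc⟩ : N) : T ⟨u, hu⟩)⟩, Subtype.ext ?_⟩
      show c⁻¹ * u * c⁻¹⁻¹ = n * u
      calc c⁻¹ * u * c⁻¹⁻¹ = c⁻¹ * (c * (n * u) * c⁻¹) * c⁻¹⁻¹ := by rw [hcu]
        _ = n * u := by group
  rw [show Nat.card π = Nat.card (Σ u : (P : Subgroup G), T u) from (Nat.card_eq_of_bijective f hf).symm,
    Nat.card_sigma]
  refine Finset.sum_congr rfl fun u _ => ?_
  rw [← Nat.card_congr (Subgroup.subgroupOfEquivOfLe
      (inf_le_left : N ⊓ Subgroup.centralizer ({(u : G)} : Set G) ≤ N)).toEquiv,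
    Subgroup.card_eq_card_quotient_mul_card_subgroup ((N ⊓ Subgroup.centralizer ({(u : G)} : Set G)).subgroupOf N),
    Nat.mul_div_cancel _ Nat.card_pos]

end Cfsg.Agent.S4093
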