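import Cfsg.Statements.S4097
import Cfsg.Agent.Lib.Coprime.Frobenius
import Cfsg.Agent.Lib.Coprime.Action
import Cfsg.Agent.Lib.Invol.Signalizer

set_option autoImplicit false
open Cfsg

namespace Cfsg.Agent.S4097

universe u

open Subgroup CfsgLib.Coprime

private theorem central_of_normal {G : Type u} [Group G] [Finite G] {A K : Subgroup G} [K.Normal]
    (hK : IsMulCommutative K) (hAK : A ≤ K)
    (hc : ∀ S : Subgroup G, A ≤ S → Group.IsSolvable S → ∀ a ∈ A, ∀ s ∈ S, a * s = s * a) :
    A ≤ center G := by
  intro a ha
  rw [mem_center_iff]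
  intro g
  have hS : Group.IsSolvable ↥(K ⊔ zpowers g) :=
    CfsgLib.Invol.isSolvable_sup (by rw [normalizer_eq_top]; exact le_top)
      (isSolvable_of_isMulCommutative hK)
      (isSolvable_of_isMulCommutative inferInstance)
  exact (hc _ (hAK.trans le_sup_left) hS a ha g (mem_sup_right (mem_zpowers g))).symm

private theorem main : ∀ n : ℕ, ∀ (G : Type u) [Group G] [Finite G], Nat.card G ≤ n →
    ∀ A : Subgroup G, Group.IsSolvable A →
    (∀ S : Subgroup G, A ≤ S → Group.IsSolvable S → ∀ a ∈ A, ∀ s ∈ S, a * s = s * a) →
    A ≤ center G := by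
  intro n
  induction n with
  | zero => intro G _ _ h; have := (Nat.card_pos : 0 < Nat.card G); omega
  | succ n ih =>
    intro G _ _ hcard A hA hc
    have hAab : ∀ a ∈ A, ∀ b ∈ A, a * b = b * a := hc A le_rfl hA
    have hAc : IsMulCommutative A := ⟨⟨fun a b => Subtype.ext (hAab a a.2 b b.2)⟩⟩
    set M := centralizer (A : Set G) with hM
    have hmem : ∀ {x : G}, x ∈ M ↔ ∀ a ∈ A, a * x = x * a := fun {x} => mem_centralizer_iff
    have hAM : A ≤ M := fun b hb => hmem.2 fun a ha => hAab a ha b hb
    by_cases hMtop : M = ⊤
    · intro a ha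
      rw [mem_center_iff]
      intro g
      have : g ∈ M := hMtop ▸ mem_top g
      exact (hmem.1 this a ha).symm
    have hprop : ∀ H : Subgroup G, A ≤ H → H ≠ ⊤ → H ≤ M := by
      intro H hAH hH x hx
      refine hmem.2 fun a ha => ?_
      have hlt : Nat.card H < Nat.card G :=
        lt_of_le_of_ne (card_le_card_group H) fun e => hH (eq_top_of_card_eq H e)
      have h := ih H (by omega) (A.subgroupOf H) (isSolvable_subgroupOf hA)
        (fun S hAS hS b hb s hs => Subtype.ext (hc (S.map H.subtype)
          (fun c hc' => ⟨⟨c, hAH hc'⟩, hAS hc', rfl⟩)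
          (by
            haveI := hS
            exact Group.isSolvable_of_surjective
              (f := (S.equivMapOfInjective H.subtype H.subtype_injective).toMonoidHom)
              (S.equivMapOfInjective H.subtype H.subtype_injective).surjective)
          (b : G) hb (s : G) ⟨s, hs, rfl⟩))
        (show (⟨a, hAH ha⟩ : H) ∈ A.subgroupOf H from ha)
      exact (congrArg Subtype.val (mem_center_iff.1 h ⟨x, hx⟩)).symm
    by_cases hZ : center G = ⊥
    swap
    · have hQ : Nat.card (G ⧸ center G) ≤ n := by
        have h1 := card_eq_card_quotient_mul_card_subgroup (center G)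
        have h2 : 1 < Nat.card (center G) := (one_lt_card_iff_ne_bot _).2 hZ
        have h3 : 0 < Nat.card (G ⧸ center G) := Nat.card_pos
        nlinarith
      haveI := hA
      have h := ih (G ⧸ center G) hQ (A.map (QuotientGroup.mk' (center G)))
        (Group.isSolvable_of_surjective (MonoidHom.subgroupMap_surjective _ A))
        (by
          intro S hAS hS b hb s hs
          obtain ⟨a, ha, rfl⟩ := hb
          obtain ⟨g, rfl⟩ := QuotientGroup.mk'_surjective _ s
          rw [← map_mul, ← map_mul]
          refine congrArg _ (hc (S.comap (QuotientGroup.mk' (center G)))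
            (fun c hc' => hAS ⟨c, hc', rfl⟩) ?_ a ha g hs)
          haveI := hS
          haveI : Group.IsSolvable (center G) := isSolvable_of_isMulCommutative inferInstance
          refine Group.isSolvable_of_ker_le_range
            (inclusion (fun z hz => show QuotientGroup.mk' (center G) z ∈ S by
              rw [show QuotientGroup.mk' (center G) z = 1 from (QuotientGroup.eq_one_iff z).2 hz]; exact S.one_mem :
              center G ≤ S.comap (QuotientGroup.mk' (center G))))
            ((QuotientGroup.mk' (center G)).subgroupComap S) ?_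
          intro z hz
          refine ⟨⟨z, (QuotientGroup.eq_one_iff (z : G)).1 ?_⟩, Subtype.ext rfl⟩
          exact congrArg Subtype.val hz)
      haveI hKn : (A ⊔ center G).Normal := by
        refine ⟨fun k hk g => ?_⟩
        have hk' : QuotientGroup.mk' (center G) k ∈ center (G ⧸ center G) := by
          have : A ⊔ center G ≤ (center (G ⧸ center G)).comap (QuotientGroup.mk' (center G)) :=
            sup_le (map_le_iff_le_comap.1 h) fun z hz => by
              rw [mem_comap, show QuotientGroup.mk' (center G) z = 1 from
                (QuotientGroup.eq_one_iff z).2 hz]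
              exact one_mem _
          exact this hk
        have e : QuotientGroup.mk' (center G) (k⁻¹ * (g * k * g⁻¹)) = 1 := by
          simp only [map_mul, map_inv, mem_center_iff.1 hk' (QuotientGroup.mk' (center G) g)]
          group
        have := mul_mem hk ((le_sup_right : center G ≤ A ⊔ center G)
          ((QuotientGroup.eq_one_iff _).1 e))
        simpa using this
      refine central_of_normal ⟨⟨fun x y => Subtype.ext ?_⟩⟩ (le_sup_left (b := center G)) hc
      obtain ⟨a, ha, z, hz, e⟩ := mem_sup_exists (by rw [normalizer_eq_top]; exact le_top :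
        A ≤ normalizer (center G : Set G)) (show (x : G) ∈ center G ⊔ A by rw [sup_comm]; exact x.2)
      obtain ⟨a', ha', z', hz', e'⟩ := mem_sup_exists (by rw [normalizer_eq_top]; exact le_top :
        A ≤ normalizer (center G : Set G)) (show (y : G) ∈ center G ⊔ A by rw [sup_comm]; exact y.2)
      show (x : G) * y = y * x
      have c1 := mem_center_iff.1 ha
      have c2 := mem_center_iff.1 ha'
      rw [← e, ← e']
      calc a * z * (a' * z') = a * (a' * (z * z')) := by rw [mul_assoc, ← mul_assoc z, c2 z]; group
        _ = a' * (a * (z' * z)) := by rw [← mul_assoc, ← c1 a', hAab z hz z' hz']; group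
        _ = a' * z' * (a * z) := by rw [mul_assoc a' z', ← mul_assoc z' a, c1 z']; group
    exfalso
    have hA1 : A ≠ ⊥ := fun e => hMtop (eq_top_iff.2 fun x _ => hmem.2 fun a ha => by
      rw [e, mem_bot] at ha; subst ha; simp)
    have hN : ∀ g : G, (∀ x ∈ M, g * x * g⁻¹ ∈ M) → g ∈ M := by
      intro g hg
      by_cases hMN : normalizer (M : Set G) = ⊤
      · exfalso
        haveI : M.Normal := normalizer_eq_top_iff.1 hMN
        let K := (center M).map M.subtype
        haveI : K.Normal := inferInstance
        have hAK : A ≤ K := fun a ha => ⟨⟨a, hAM ha⟩, mem_center_iff.2 fun m =>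
          Subtype.ext (hmem.1 m.2 a ha).symm, rfl⟩
        have hK : IsMulCommutative K := ⟨⟨by
          rintro ⟨_, x, hx, rfl⟩ ⟨_, y, hy, rfl⟩
          exact Subtype.ext (congrArg (Subtype.val : M → G) (mem_center_iff.1 hy x))⟩⟩
        have h := central_of_normal hK hAK hc
        exact hA1 (eq_bot_iff.2 (h.trans hZ.le))
      · refine hprop _ (hAM.trans le_normalizer) hMN ?_
        refine (mem_normalizer_iff_conj_image_eq.2 ?_)
        refine Set.eq_of_subset_of_ncard_le ?_ ?_ (Set.toFinite _)
        · rintro _ ⟨x, hx, rfl⟩; exact hg x hx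
        · rw [Set.ncard_image_of_injective _ (MulAut.conj g).injective]
    have hFC : Cfsg.IsFrobeniusComplement M := by
      refine ⟨fun e => hA1 (eq_bot_iff.2 (hAM.trans e.le)), hMtop, fun g hg => ?_⟩
      rw [eq_bot_iff]
      rintro x ⟨hx, hx'⟩
      rw [mem_bot]
      by_contra hx1
      obtain ⟨m, hm, hmx⟩ := hx'
      replace hmx : g * m * g⁻¹ = x := hmx
      have hCne : centralizer ({x} : Set G) ≠ ⊤ := fun e => hx1 (by
        have : x ∈ center G := mem_center_iff.2 fun y =>
          mem_centralizer_singleton_iff.1 (e ▸ mem_top y : y ∈ centralizer ({x} : Set G))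
        rwa [hZ, mem_bot] at this)
      have hC : centralizer ({x} : Set G) ≤ M := hprop _ (fun a ha =>
        mem_centralizer_singleton_iff.2 (hmem.1 hx a ha)) hCne
      have hgA : ∀ a ∈ A, g * a * g⁻¹ ∈ M := fun a ha => hC (mem_centralizer_singleton_iff.2 (by
        subst hmx
        simp only [conj_mul, hmem.1 hm a ha]))
      refine hg (hN g fun y hy => ?_)
      have hle : M.map (MulAut.conj g).toMonoidHom ≤ M := by
        refine hprop _ (fun a ha => ⟨g⁻¹ * a * g, hmem.2 fun b hb => ?_, ?_⟩) fun e => hMtop ?_
        · have h := hmem.1 (hgA b hb) a ha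
          calc b * (g⁻¹ * a * g) = g⁻¹ * ((g * b * g⁻¹) * a) * g := by group
            _ = g⁻¹ * (a * (g * b * g⁻¹)) * g := by rw [h]
            _ = g⁻¹ * a * g * b := by group
        · show g * (g⁻¹ * a * g) * g⁻¹ = a; group
        · apply eq_top_of_card_eq
          rw [← card_map_of_injective (MulAut.conj g).injective (f := (MulAut.conj g).toMonoidHom), e,
            card_top]
      exact hle ⟨y, hy, rfl⟩
    obtain ⟨N, -, hNn, hcN⟩ := frob_kernel_subgroup hFC
    have hcop : (Nat.card A).Coprime (Nat.card N) := by
      have := frob_coprime_card_index hFC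
      rw [hcN.index_eq_card] at this
      exact this.coprime_dvd_left (card_dvd_of_le hAM)
    have hN1 : Nat.card N ≠ 1 := by
      intro e
      exact hMtop (eq_top_of_card_eq M (by
        rw [← hcN.card_mul, e, one_mul]))
    obtain ⟨r, hr, hrN⟩ := Nat.exists_prime_and_dvd hN1
    haveI := Fact.mk hr
    haveI := hNn
    obtain ⟨R, hR, hAR⟩ := exists_invariant_sylow (A := A) (K := N)
      (by rw [normalizer_eq_top]; exact le_top) hcop (Or.inl hA) r
    have hRS : Group.IsSolvable ↥(R ⊔ A) :=
      CfsgLib.Invol.isSolvable_sup hAR (isSolvable_of_isNilpotent hR.isPGroup.isNilpotent) hA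
    have hRM : R ≤ M := fun x hx => hmem.2 fun a ha =>
      hc _ le_sup_right hRS a ha x (mem_sup_left hx)
    have hRbot : R = ⊥ := eq_bot_iff.2 fun x hx => by
      rw [← hcN.disjoint.eq_bot]; exact ⟨hR.1 hx, hRM hx⟩
    have h := hR.2
    rw [hRbot, card_bot] at h
    have := (Nat.Prime.factorization_pos_of_dvd hr Nat.card_pos.ne' hrN)
    exact absurd h.symm (Nat.one_lt_pow this.ne' hr.one_lt).ne'


/-- Let A be a solvable subgroup of a finite group G such that A lies in the centre of every solvable subgroup of G containing A. Then A lies in the centre of G. -/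
theorem result {G : Type*} [Group G] [Finite G]
    (A : Subgroup G) (hA : Group.IsSolvable A)
    (hc : ∀ S : Subgroup G, A ≤ S → Group.IsSolvable S → ∀ a ∈ A, ∀ s ∈ S, a * s = s * a) : A ≤ Subgroup.center G := by
  exact main _ G le_rfl A hA hc

end Cfsg.Agent.S4097
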