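import Cfsg.Statements.S4106
import Cfsg.Agent.Lib.PGroup.PiClasses

set_option autoImplicit false
open Cfsg

namespace Cfsg.Agent.S4106

/-- Let G be a finite group, π a set of primes and m the π-part of the order of G. Then the number of conjugacy classes of G consisting of π-elements (elements whose order is divisible only by primes in π) is at most m. -/
theorem result {G : Type*} [Group G] [Finite G]
    (π : Set ℕ) (hπ : ∀ q ∈ π, q.Prime)
    (m : ℕ) (hm : m ∣ Nat.card G) (hmπ : ∀ q : ℕ, q.Prime → q ∣ m → q ∈ π)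
    (hm' : ∀ q ∈ π, ¬ q ∣ Nat.card G / m) :
    Nat.card {C : ConjClasses G // ∀ q : ℕ, q.Prime → (∃ g : G, ConjClasses.mk g = C ∧ q ∣ orderOf g) → q ∈ π} ≤ m := by
  classical
  let σ : Finset ℕ := (Nat.card G).primeFactors.filter (· ∈ π)
  have hσ : ∀ r ∈ σ, r.Prime := fun r hr => (Nat.mem_primeFactors.1 (Finset.mem_filter.1 hr).1).1
  have hn := (Nat.card_pos (α := G)).ne'
  have hm0 : m ≠ 0 := fun h => hn (zero_dvd_iff.1 (h ▸ hm))
  have hd0 : Nat.card G / m ≠ 0 := (Nat.div_pos (Nat.le_of_dvd Nat.card_pos hm) (by omega)).ne'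
  have hpart : CfsgLib.PGroup.piPart σ G = m := by
    conv_rhs => rw [← Nat.prod_factorization_pow_eq_self hm0]
    rw [Finsupp.prod, Nat.support_factorization, CfsgLib.PGroup.piPart]
    have hs : m.primeFactors = σ := by
      ext r
      simp only [σ, Finset.mem_filter, Nat.mem_primeFactors]
      constructor
      · rintro ⟨hr, hd, -⟩; exact ⟨⟨hr, hd.trans hm, hn⟩, hmπ r hr hd⟩
      · rintro ⟨⟨hr, hd, -⟩, hrπ⟩
        refine ⟨hr, ?_, hm0⟩
        have := Nat.div_mul_cancel hm
        rw [← this] at hd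
        exact (hr.dvd_mul.1 hd).resolve_left (hm' r hrπ)
    rw [hs]
    refine Finset.prod_congr rfl fun r hr => ?_
    congr 1
    have hrπ := (Finset.mem_filter.1 hr).2
    conv_lhs => rw [← Nat.div_mul_cancel hm]
    rw [Nat.factorization_mul hd0 hm0, Finsupp.add_apply,
      Nat.factorization_eq_zero_of_not_dvd (hm' r hrπ), zero_add]
  rw [← hpart]
  refine le_trans (le_of_eq ?_) (CfsgLib.PGroup.piClassCount_le_piPart σ hσ G)
  refine Nat.card_congr (Equiv.subtypeEquivRight fun c => ⟨fun h x hx r hr hd => ?_, fun h q hq hg => ?_⟩)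
  · exact Finset.mem_filter.2 ⟨Nat.mem_primeFactors.2 ⟨hr, hd.trans (orderOf_dvd_natCard x), hn⟩,
      h r hr ⟨x, ConjClasses.mem_carrier_iff_mk_eq.1 hx, hd⟩⟩
  · obtain ⟨g, hg1, hg2⟩ := hg
    exact (Finset.mem_filter.1 (h g (ConjClasses.mem_carrier_iff_mk_eq.2 hg1) q hq hg2)).2

end Cfsg.Agent.S4106
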