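import Cfsg.Statements.S4108
import Cfsg.Agent.Lib.Coprime.Frobenius

set_option autoImplicit false
set_option linter.style.haveILetI false
open Cfsg

namespace Cfsg.Agent.S4108

/-- Let G be a finite group, p a prime and N a proper non-trivial normal p-subgroup such that for every x outside N all elements of the coset xN have the same order as x. Then every non-trivial subgroup H of G of order prime to p acts fixed-point-freely on N: NH is a Frobenius group with complement H and kernel N. -/
theorem result {G : Type*} [Group G] [Finite G] (N : Subgroup G) [N.Normal] (hN1 : N ≠ ⊥) (hN2 : N ≠ ⊤)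
    (heq : ∀ x : G, x ∉ N → ∀ n ∈ N, orderOf (x * n) = orderOf x)
    (p : ℕ) [Fact p.Prime] (hNp : IsPGroup p N) :
    ∀ H : Subgroup G, H ≠ ⊥ → (Nat.card H).Coprime p →
      Cfsg.IsFrobeniusComplement (H.subgroupOf (N ⊔ H)) ∧ Cfsg.frobeniusKernel (H.subgroupOf (N ⊔ H)) = (N.subgroupOf (N ⊔ H) : Set ↥(N ⊔ H)) := by
  intro H hH hcop
  set L := N ⊔ H
  haveI : (N.subgroupOf L).Normal := Subgroup.normal_subgroupOf
  have hcN : Nat.card (N.subgroupOf L) = Nat.card N :=
    Nat.card_congr (Subgroup.subgroupOfEquivOfLe le_sup_left).toEquiv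
  have hcH : Nat.card (H.subgroupOf L) = Nat.card H :=
    Nat.card_congr (Subgroup.subgroupOfEquivOfLe le_sup_right).toEquiv
  obtain ⟨d, hd⟩ := IsPGroup.iff_card.1 hNp
  have hcop' : (Nat.card (N.subgroupOf L)).Coprime (Nat.card (H.subgroupOf L)) := by
    rw [hcN, hcH, hd]; exact (hcop.symm).pow_left d
  have hcompl : Subgroup.IsComplement' (N.subgroupOf L) (H.subgroupOf L) := by
    refine Subgroup.isComplement'_of_disjoint_and_mul_eq_univ
      (disjoint_iff.2 (Subgroup.inf_eq_bot_of_coprime hcop')) ?_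
    rw [← Subgroup.normal_mul, ← Subgroup.subgroupOf_sup le_sup_left le_sup_right,
      Subgroup.subgroupOf_self]
    rfl
  have hN0 : N.subgroupOf L ≠ ⊥ := fun e => hN1 (by
    rw [← Subgroup.map_subgroupOf_eq_of_le (le_sup_left : N ≤ L), e, Subgroup.map_bot])
  have hH0 : H.subgroupOf L ≠ ⊥ := fun e => hH (by
    rw [← Subgroup.map_subgroupOf_eq_of_le (le_sup_right : H ≤ L), e, Subgroup.map_bot])
  have hfr : Cfsg.IsFrobeniusComplement (H.subgroupOf L) := by
    refine (CfsgLib.Coprime.frob_iff_fixed_point_free hcompl hN0 hH0).2 fun h hh hh1 => ?_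
    refine (Subgroup.eq_bot_iff_forall _).2 fun n ⟨hn, hnc⟩ => ?_
    have hhN : (h : G) ∉ N := fun hN' => hh1 (Subgroup.disjoint_def.1 hcompl.disjoint hN' hh)
    have hc : Commute (h : G) (n : G) :=
      (congrArg Subtype.val (Subgroup.mem_centralizer_singleton_iff.1 hnc)).symm
    have hco : (orderOf (h : G)).Coprime (orderOf (n : G)) := by
      refine Nat.Coprime.coprime_dvd_left (H.orderOf_dvd_natCard hh)
        (Nat.Coprime.coprime_dvd_right (N.orderOf_dvd_natCard hn) ?_)
      rw [hd]; exact hcop.pow_right d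
    have h1 := heq h hhN n hn
    rw [hc.orderOf_mul_eq_mul_orderOf_of_coprime hco] at h1
    have h2 : orderOf (n : G) = 1 := (Nat.mul_eq_left (orderOf_pos _).ne').1 h1
    exact Subtype.ext (orderOf_eq_one_iff.1 h2)
  refine ⟨hfr, (Set.Finite.eq_of_subset_of_card_le (Set.toFinite _) (fun x hx => ?_) ?_).symm⟩
  · refine CfsgLib.Coprime.frob_mem_kernel_iff.2 (or_iff_not_imp_left.2 fun hx1 g hg => hx1 ?_)
    have h1 : g⁻¹ * x * g = 1 := Subgroup.disjoint_def.1 hcompl.disjoint
      (by simpa using ‹(N.subgroupOf L).Normal›.conj_mem x hx g⁻¹) hg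
    rw [show x = g * (g⁻¹ * x * g) * g⁻¹ by group, h1]
    group
  · rw [CfsgLib.Coprime.frob_card_kernel hfr]
    exact hcompl.index_eq_card.le

end Cfsg.Agent.S4108
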