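import Cfsg.Statements.S4112
-- import your own Cfsg.Agent.* helpers here
import Mathlib.GroupTheory.Frattini
import Mathlib.GroupTheory.SchurZassenhaus
import Mathlib.GroupTheory.Sylow
import Cfsg.Agent.Lib.Coprime.Solvable

set_option autoImplicit false
open Cfsg

namespace Cfsg.Agent.S4112

open Subgroup in
/-- Every prime divisor of the order divides the index of the Frattini subgroup. -/
theorem dvd_index_frattini {H : Type*} [Group H] [Finite H] {q : ℕ} [Fact q.Prime]
    (hq : q ∣ Nat.card H) : q ∣ (frattini H).index := by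
  by_contra hd
  obtain ⟨Q⟩ : Nonempty (Sylow q H) := inferInstance
  have hle : (Q : Subgroup H) ≤ frattini H := fun x hx => by
    rw [← QuotientGroup.eq_one_iff]
    obtain ⟨k, hk⟩ := Q.2 ⟨x, hx⟩
    have hk' : x ^ q ^ k = 1 := congrArg Subtype.val hk
    exact orderOf_eq_one_iff.1 (Nat.eq_one_of_dvd_coprimes
      (((Nat.Prime.coprime_iff_not_dvd (Fact.out : q.Prime)).2 hd).pow_left k)
      (orderOf_dvd_of_pow_eq_one (by rw [← QuotientGroup.mk_pow, hk']; rfl))
      (orderOf_dvd_natCard _))
  haveI : (Q : Subgroup H).Normal := by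
    rw [← normalizer_eq_top_iff]
    refine frattini_nongenerating ?_
    have h := Sylow.normalizer_sup_eq_top (p := q) (Q.subtype hle)
    rwa [Sylow.coe_subtype, map_subgroupOf_eq_of_le hle] at h
  obtain ⟨C, hC⟩ := exists_right_complement'_of_coprime (N := (Q : Subgroup H)) Q.card_coprime_index
  have hCtop : C = ⊤ := frattini_nongenerating (top_le_iff.1 (by
    rw [← hC.sup_eq_top]; exact sup_le (hle.trans le_sup_right) le_sup_left))
  have h1 : Nat.card (Q : Subgroup H) * Nat.card C = Nat.card H := hC.card_mul_card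
  rw [hCtop, card_top] at h1
  have h2 : Nat.card (Q : Subgroup H) = 1 := (Nat.mul_eq_right Nat.card_pos.ne').1 h1
  obtain ⟨k, hk⟩ := Q.2.exists_card_eq
  rw [Q.card_eq_multiplicity] at h2
  have := (Nat.Prime.factorization_pos_of_dvd (Fact.out : q.Prime) Nat.card_pos.ne' hq)
  exact (Nat.one_lt_pow this.ne' (Fact.out : q.Prime).one_lt).ne' h2

/-- Let G be a finite group and M ≤ N non-trivial proper normal subgroups such that for every g outside N the conjugacy class of g is a union of cosets of M (equivalently gm is conjugate to g for every m ∈ M). Then (1) and (2) below are equivalent, and they imply (3): (1) every g outside N acts fixed-point-freely on M, that is C_G(x) ≤ N for every x ∈ M, x ≠ 1; (2) the index of N in G is coprime to the order of M; (3) there is a subgroup H of G with HN = G and H ∩ M = 1. -/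
theorem result {G : Type*} [Group G] [Finite G] (N M : Subgroup G) [N.Normal] [M.Normal] (hMN : M ≤ N) (hM1 : M ≠ ⊥) (hN2 : N ≠ ⊤)
    (hcam : ∀ g : G, g ∉ N → ∀ m ∈ M, ∃ x : G, x * g * x⁻¹ = g * m) :
    ((∀ x ∈ M, x ≠ 1 → Subgroup.centralizer ({x} : Set G) ≤ N) ↔ N.index.Coprime (Nat.card M)) ∧
    ((∀ x ∈ M, x ≠ 1 → Subgroup.centralizer ({x} : Set G) ≤ N) → ∃ H : Subgroup G, H ⊔ N = ⊤ ∧ H ⊓ M = ⊥) := by
  classical
  have hiff : (∀ x ∈ M, x ≠ 1 → Subgroup.centralizer ({x} : Set G) ≤ N) ↔
      N.index.Coprime (Nat.card M) := by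
    constructor
    · intro h
      refine Nat.coprime_of_dvd fun q hq hqN hqM => ?_
      haveI := Fact.mk hq
      obtain ⟨Q⟩ : Nonempty (Sylow q G) := inferInstance
      set A : Subgroup (Q : Subgroup G) := M.subgroupOf (Q : Subgroup G)
      haveI : A.Normal := inferInstance
      obtain ⟨m, hm⟩ := exists_prime_orderOf_dvd_card' (G := M) q hqM
      have hpg : IsPGroup q ↥(Subgroup.zpowers (m : G)) :=
        IsPGroup.of_card (n := 1) (by rw [Nat.card_zpowers, Subgroup.orderOf_coe, hm, pow_one])
      obtain ⟨Q', hQ'⟩ := hpg.exists_le_sylow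
      obtain ⟨c, hc⟩ := MulAction.exists_smul_eq G Q' Q
      have hcm : c * (m : G) * c⁻¹ ∈ (Q : Subgroup G) := by
        rw [← hc, Sylow.coe_subgroup_smul]
        exact ⟨m, hQ' (Subgroup.mem_zpowers _), rfl⟩
      have hAne : A ≠ ⊥ := fun e => by
        have : (⟨_, hcm⟩ : (Q : Subgroup G)) ∈ A :=
          Subgroup.mem_subgroupOf.2 ((inferInstance : M.Normal).conj_mem _ m.2 c)
        rw [e, Subgroup.mem_bot] at this
        have h1 : c * (m : G) * c⁻¹ = 1 := congrArg Subtype.val this
        have h2 : (m : G) = 1 := conj_eq_one_iff.1 h1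
        rw [show m = 1 from Subtype.ext h2, orderOf_one] at hm
        exact hq.ne_one hm.symm
      haveI : Nontrivial A := (Subgroup.nontrivial_iff_ne_bot A).2 hAne
      obtain ⟨⟨z, hz⟩, hz1⟩ : ∃ z : ↥(A ⊓ Subgroup.center (Q : Subgroup G)), z ≠ 1 := by
        apply Subgroup.ne_bot_iff_exists_ne_one.1
        intro e
        haveI : Group.IsNilpotent (Q : Subgroup G) := Q.2.isNilpotent
        exact CfsgLib.Coprime.nilpotent_inf_center_ne_bot A hAne e
      have hz1' : (z : G) ≠ 1 := fun e => hz1 (Subtype.ext (Subtype.ext e))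
      have hQC : (Q : Subgroup G) ≤ Subgroup.centralizer ({(z : G)} : Set G) := fun g hg =>
        Subgroup.mem_centralizer_singleton_iff.2
          (congrArg Subtype.val (Subgroup.mem_center_iff.1 hz.2 ⟨g, hg⟩))
      exact Q.not_dvd_index (hqN.trans (Subgroup.index_dvd_of_le
        (hQC.trans (h z (Subgroup.mem_subgroupOf.1 hz.1) hz1'))))
    · intro hcop x hx hx1 g hg
      by_contra hgN
      have hc : Commute g x := Subgroup.mem_centralizer_singleton_iff.1 hg
      have hf : orderOf ((g : G) : G ⧸ N) ≠ 1 := fun e => hgN ((QuotientGroup.eq_one_iff g).1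
        (orderOf_eq_one_iff.1 e))
      obtain ⟨q, hq, hqf⟩ := Nat.exists_prime_and_dvd hf
      haveI := Fact.mk hq
      have ho : orderOf g ≠ 0 := (orderOf_pos g).ne'
      set e := ordCompl[q] (orderOf g) with he
      have hgo : orderOf (g ^ e) = q ^ (orderOf g).factorization q := by
        rw [orderOf_pow_of_dvd (Nat.ordCompl_pos q ho).ne' (Nat.ordCompl_dvd _ _)]
        exact Nat.div_div_self (Nat.ordProj_dvd _ _) ho
      have hgeN : g ^ e ∉ N := fun h => by
        have : orderOf ((g : G) : G ⧸ N) ∣ e :=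
          orderOf_dvd_of_pow_eq_one (by rw [← QuotientGroup.mk_pow]; exact (QuotientGroup.eq_one_iff _).2 h)
        exact Nat.not_dvd_ordCompl hq ho (hqf.trans this)
      have hqi : q ∣ N.index := hqf.trans (orderOf_dvd_natCard _)
      have hqx : (orderOf (g ^ e)).Coprime (orderOf x) := by
        rw [hgo]
        refine Nat.Coprime.pow_left _ (Nat.Coprime.coprime_dvd_right (?_ : orderOf x ∣ Nat.card M)
          ((hcop.coprime_dvd_left hqi)))
        exact Subgroup.orderOf_mk x hx ▸ orderOf_dvd_natCard (⟨x, hx⟩ : M)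
      obtain ⟨y, hy⟩ := hcam (g ^ e) hgeN x hx
      have h1 := (hc.pow_left e).orderOf_mul_eq_mul_orderOf_of_coprime hqx
      rw [← hy, show y * g ^ e * y⁻¹ = MulAut.conj y (g ^ e) from rfl, MulEquiv.orderOf_eq] at h1
      have h2 : orderOf x = 1 := (Nat.mul_eq_left (orderOf_pos _).ne').1 h1.symm
      exact hx1 (orderOf_eq_one_iff.1 h2)
  refine ⟨hiff, fun h => ?_⟩
  have hcop := hiff.1 h
  obtain ⟨H, hH, hmin⟩ := exists_minimal_of_wellFoundedLT (fun H : Subgroup G => H ⊔ N = ⊤)
    ⟨⊤, top_sup_eq _⟩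
  refine ⟨H, hH, ?_⟩
  rw [Subgroup.eq_bot_iff_card]
  by_contra hne
  obtain ⟨q, hq, hqd⟩ := Nat.exists_prime_and_dvd hne
  haveI := Fact.mk hq
  have hle : N.subgroupOf H ≤ frattini H := by
    simp only [frattini, Order.radical, le_iInf_iff]
    intro K hK
    by_contra hnle
    have hsup : K ⊔ N.subgroupOf H = ⊤ := hK.2 _ (lt_of_le_of_ne le_sup_left fun e =>
      hnle (e.symm ▸ le_sup_right))
    have hKN : K.map H.subtype ⊔ N = ⊤ := by
      rw [eq_top_iff, ← hH]
      refine sup_le ?_ le_sup_right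
      calc H = (K ⊔ N.subgroupOf H).map H.subtype := by
            rw [hsup, ← MonoidHom.range_eq_map, Subgroup.range_subtype]
        _ ≤ _ := by
          rw [Subgroup.map_sup]
          exact sup_le_sup le_rfl
            (by rintro z ⟨w, hw, rfl⟩; exact hw : (N.subgroupOf H).map H.subtype ≤ N)
    have := hmin hKN (Subgroup.map_subtype_le K)
    exact hK.1 (eq_top_iff.2 fun z _ => by
      obtain ⟨w, hw, hwz⟩ := this z.2
      rwa [show z = w from Subtype.ext hwz.symm])
  have hqH : q ∣ Nat.card H := hqd.trans (Subgroup.card_dvd_of_le inf_le_left)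
  have hqM : q ∣ Nat.card M := hqd.trans (Subgroup.card_dvd_of_le inf_le_right)
  have h1 := (dvd_index_frattini hqH).trans (Subgroup.index_dvd_of_le hle)
  have h2 : (N.subgroupOf H).index ∣ N.index := by
    have h2' : (N.subgroupOf H).index = N.relIndex H := rfl
    rw [h2']
    exact Subgroup.relIndex_dvd_index_of_normal N H
  exact hq.one_lt.ne' (Nat.eq_one_of_dvd_coprimes hcop (h1.trans h2) hqM)

end Cfsg.Agent.S4112
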