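import Cfsg.Statements.S4113
-- import your own Cfsg.Agent.* helpers here

set_option autoImplicit false
open Cfsg

namespace Cfsg.Agent.S4113

/-- Let G be a finite group, M ≤ N non-trivial proper normal subgroups, and H a subgroup with HM = G and H ∩ M = 1. Then every element of G outside N acts fixed-point-freely on M (C_G(x) ≤ N for every x ∈ M, x ≠ 1) if and only if H ∩ gHg⁻¹ ≤ H ∩ N for every g outside H, with H proper and non-trivial and H ∩ N proper in H. -/
theorem result {G : Type*} [Group G] [Finite G] (N M : Subgroup G) [N.Normal] [M.Normal] (hMN : M ≤ N) (hM1 : M ≠ ⊥) (hN2 : N ≠ ⊤)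
    (H : Subgroup G) (hHM : H ⊔ M = ⊤) (hHM' : H ⊓ M = ⊥) :
    (∀ x ∈ M, x ≠ 1 → Subgroup.centralizer ({x} : Set G) ≤ N) ↔
      (H ≠ ⊥ ∧ H ≠ ⊤ ∧ H ⊓ N < H ∧ ∀ g : G, g ∉ H → H ⊓ H.map (MulAut.conj g).toMonoidHom ≤ N) := by
  classical
  have hdec : ∀ g : G, ∃ m ∈ M, ∃ h ∈ H, g = m * h := by
    intro g
    have hg : g ∈ M ⊔ H := by rw [sup_comm, hHM]; trivial
    obtain ⟨m, hm, h, hh, rfl⟩ := Subgroup.mem_sup_of_normal_left.1 hg
    exact ⟨m, hm, h, hh, rfl⟩
  have hdisj : ∀ x, x ∈ H → x ∈ M → x = 1 := fun x h1 h2 =>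
    Subgroup.mem_bot.1 (hHM' ▸ ⟨h1, h2⟩)
  constructor
  · intro hC
    refine ⟨?_, ?_, ?_, ?_⟩
    · intro h
      rw [h, bot_sup_eq] at hHM
      exact hN2 (top_le_iff.1 (hHM ▸ hMN))
    · intro h
      rw [h, top_inf_eq] at hHM'
      exact hM1 hHM'
    · refine lt_of_le_of_ne inf_le_left fun h => hN2 ?_
      rw [eq_top_iff, ← hHM]
      exact sup_le (inf_eq_left.1 h) hMN
    · intro g hg y hy
      obtain ⟨hy1, z, hz, hzy⟩ := hy
      simp only [MulEquiv.coe_toMonoidHom, MulAut.conj_apply] at hzy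
      obtain ⟨m, hm, h, hh, rfl⟩ := hdec g
      have hm1 : m ≠ 1 := by rintro rfl; exact hg (by simpa using hh)
      have hw : h * z * h⁻¹ ∈ H := mul_mem (mul_mem hh hz) (inv_mem hh)
      set w := h * z * h⁻¹ with hwdef
      have hyw : y = m * w * m⁻¹ := by rw [hwdef, ← hzy]; group
      have he : y * w⁻¹ = 1 := by
        refine hdisj _ (mul_mem hy1 (inv_mem hw)) ?_
        rw [hyw, show m * w * m⁻¹ * w⁻¹ = m * (w * m⁻¹ * w⁻¹) by group]
        exact mul_mem hm (‹M.Normal›.conj_mem _ (inv_mem hm) w)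
      have hwy : w = y := (mul_inv_eq_one.1 he).symm
      refine hC m hm hm1 (Subgroup.mem_centralizer_singleton_iff.2 ?_)
      rw [hwy] at hyw
      calc y * m = m * y * m⁻¹ * m := by rw [← hyw]
        _ = m * y := by group
  · rintro ⟨-, -, -, hH⟩ x hx hx1 c hc
    rw [Subgroup.mem_centralizer_singleton_iff] at hc
    by_contra hcN
    obtain ⟨m0, hm0, h, hh, rfl⟩ := hdec c
    have hhN : h ∉ N := fun e => hcN (mul_mem (hMN hm0) e)
    -- h fixes no nontrivial element of M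
    have hfix : ∀ m ∈ M, m * h = h * m → m = 1 := by
      intro m hm e
      by_contra hm1
      have hmH : m ∉ H := fun e' => hm1 (hdisj m e' hm)
      refine hhN (hH m hmH ⟨hh, h, hh, ?_⟩)
      simp only [MulEquiv.coe_toMonoidHom, MulAut.conj_apply]
      rw [e, mul_inv_cancel_right]
    let f : M → M := fun m => ⟨m * h * (m : G)⁻¹ * h⁻¹, by
      rw [show (m : G) * h * (m : G)⁻¹ * h⁻¹ = m * (h * (m : G)⁻¹ * h⁻¹) by group]
      exact mul_mem m.2 (‹M.Normal›.conj_mem _ (inv_mem m.2) h)⟩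
    have hf : Function.Injective f := by
      intro a b hab
      have e : (a : G) * h * (a : G)⁻¹ = b * h * (b : G)⁻¹ :=
        mul_right_cancel (congrArg Subtype.val hab)
      have h2 := hfix ((b : G)⁻¹ * a) (mul_mem (inv_mem b.2) a.2) (by
        calc (b : G)⁻¹ * a * h = (b : G)⁻¹ * (a * h * (a : G)⁻¹) * a := by group
          _ = h * ((b : G)⁻¹ * a) := by rw [e]; group)
      exact Subtype.ext (inv_mul_eq_one.1 h2).symm
    obtain ⟨m, hm⟩ := Finite.injective_iff_surjective.1 hf ⟨m0, hm0⟩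
    have hm' : (m : G) * h * (m : G)⁻¹ * h⁻¹ = m0 := congrArg Subtype.val hm
    have hx' : (m : G)⁻¹ * x * m ∈ M := by simpa using ‹M.Normal›.conj_mem x hx (m : G)⁻¹
    have h1 := hfix _ hx' (by
      calc (m : G)⁻¹ * x * m * h = (m : G)⁻¹ * (x * ((m : G) * h * (m : G)⁻¹ * h⁻¹ * h)) * m := by group
        _ = (m : G)⁻¹ * ((m : G) * h * (m : G)⁻¹ * h⁻¹ * h * x) * m := by rw [hm', ← hc]
        _ = h * ((m : G)⁻¹ * x * m) := by group)
    refine hx1 ?_
    calc x = m * ((m : G)⁻¹ * x * m) * (m : G)⁻¹ := by group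
      _ = 1 := by rw [h1]; group

end Cfsg.Agent.S4113
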