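import Cfsg.Statements.S4115
import Cfsg.Agent.S0877
import Cfsg.Agent.Lib.Coprime.Action
import Cfsg.Agent.Lib.Coprime.PGroupFrattini
import Cfsg.Agent.Lib.Coprime.UniqueOrderP
import Cfsg.Agent.Lib.Invol.ZStar

set_option autoImplicit false
universe u
open Cfsg

namespace Cfsg.Agent.S4115
open Subgroup CfsgLib.Coprime
open scoped commutatorElement

theorem mem_zpowers_of_cyclic {A : Type*} [Group A] [Finite A] [IsCyclic A] {r : ℕ} {w y : A}
    (hw : orderOf w = r) (hy : y ^ r = 1) : y ∈ zpowers w := by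
  classical
  haveI := Fintype.ofFinite A
  have hsub : (zpowers w : Set A).toFinset ⊆ Finset.univ.filter (fun x => x ^ r = 1) := by
    intro x hx
    rw [Set.mem_toFinset] at hx
    obtain ⟨i, rfl⟩ := hx
    simp only [Finset.mem_filter, Finset.mem_univ, true_and]
    rw [← zpow_natCast, ← zpow_mul, mul_comm, zpow_mul, zpow_natCast, ← hw, pow_orderOf_eq_one, one_zpow]
  have he := Finset.eq_of_subset_of_card_le hsub ((IsCyclic.card_pow_eq_one_le (hw ▸ orderOf_pos w)).trans (le_of_eq ?_))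
  · have : y ∈ (zpowers w : Set A).toFinset := by rw [he]; simp [hy]
    simpa using this
  · rw [Set.toFinset_card, ← hw, ← Nat.card_zpowers, Nat.card_eq_fintype_card]
    rfl

/-- A finite group of odd order with all abelian subgroups cyclic is solvable. -/
theorem solvable_of_abelian_cyclic {H : Type*} [Group H] [Finite H] (hodd : Odd (Nat.card H))
    (hab : ∀ A : Subgroup H, IsMulCommutative A → IsCyclic A) : Group.IsSolvable H := by
  haveI : IsZGroup H := ⟨fun r hr R => by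
    haveI := Fact.mk hr
    by_cases hR : (R : Subgroup H) = ⊥
    · haveI : Subsingleton (R : Subgroup H) := by rw [hR]; infer_instance
      infer_instance
    haveI : Nontrivial (R : Subgroup H) := (nontrivial_iff_ne_bot _).2 hR
    have hr2 : r ≠ 2 := fun e => by
      obtain ⟨k, hk⟩ := R.2.exists_card_eq
      have hk0 : k ≠ 0 := fun h0 => hR (card_eq_one.1 (by rw [hk, h0, pow_zero]))
      have h2 : 2 ∣ Nat.card H := e ▸ ((hk ▸ dvd_pow_self r hk0).trans (card_subgroup_dvd_card _))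
      exact Nat.not_even_iff_odd.2 hodd (even_iff_two_dvd.2 h2)
    haveI := R.2.center_nontrivial
    obtain ⟨⟨z, hzc⟩, hz1⟩ := exists_ne (1 : center (R : Subgroup H))
    obtain ⟨k, hk⟩ := IsPGroup.iff_orderOf.1 R.2 z
    have hk0 : k ≠ 0 := fun h0 => hz1 (Subtype.ext (orderOf_eq_one_iff.1 (by rw [hk, h0, pow_zero])))
    obtain ⟨w, hwc, hwo⟩ : ∃ w : (R : Subgroup H), w ∈ center (R : Subgroup H) ∧ orderOf w = r :=
      ⟨z ^ r ^ (k - 1), pow_mem hzc _, by
        rw [orderOf_pow_of_dvd (pow_ne_zero _ hr.ne_zero) (hk ▸ pow_dvd_pow r (Nat.sub_le k 1)), hk,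
          Nat.pow_div (Nat.sub_le k 1) hr.pos, show k - (k - 1) = 1 by omega, pow_one]⟩
    refine CfsgLib.Coprime.isCyclic_of_unique_odd hr2 R.2 ?_
    have hin : ∀ y : (R : Subgroup H), y ^ r = 1 → y ∈ zpowers w := by
      intro y hy
      by_cases hy1 : y = 1
      · rw [hy1]; exact one_mem _
      let A : Subgroup H := closure {(w : H), (y : H)}
      haveI : IsMulCommutative A := Subgroup.isMulCommutative_closure (by
        intro a ha b hb
        have hwy : (w : H) * y = y * w := congrArg Subtype.val (mem_center_iff.1 hwc y).symm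
        rcases ha with rfl | rfl <;> rcases hb with rfl | rfl <;> first | rfl | exact hwy | exact hwy.symm)
      haveI := hab A inferInstance
      letI : Fintype A := Fintype.ofFinite A
      classical
      have hwA : (w : H) ∈ A := subset_closure (Or.inl rfl)
      have hyA : (y : H) ∈ A := subset_closure (Or.inr rfl)
      have hy' : orderOf y = r := orderOf_eq_prime hy hy1
      obtain ⟨i, hi⟩ := mem_zpowers_iff.1 (mem_zpowers_of_cyclic (r := r) (w := (⟨w, hwA⟩ : A)) (y := ⟨y, hyA⟩)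
        (by rw [Subgroup.orderOf_mk, Subgroup.orderOf_coe, hwo]) (Subtype.ext (congrArg Subtype.val hy :)))
      exact mem_zpowers_iff.2 ⟨i, Subtype.ext (by simpa using congrArg Subtype.val hi)⟩
    intro a b ha hb ha1
    have e : zpowers a = zpowers w := eq_of_le_of_card_ge (zpowers_le.2 (hin a ha))
      (by rw [Nat.card_zpowers, Nat.card_zpowers, hwo, orderOf_eq_prime ha ha1])
    rw [e]
    exact hin b hb⟩
  infer_instance

/-- A nontrivial finite group with all abelian subgroups cyclic has a nontrivial normal solvable subgroup. -/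
theorem exists_normal_solvable {H : Type*} [Group H] [Finite H] [Nontrivial H]
    (hab : ∀ A : Subgroup H, IsMulCommutative A → IsCyclic A) :
    ∃ L : Subgroup H, L.Normal ∧ L ≠ ⊥ ∧ Group.IsSolvable L := by
  by_cases hodd : Odd (Nat.card H)
  · haveI := solvable_of_abelian_cyclic hodd hab
    exact ⟨⊤, inferInstance, top_ne_bot, inferInstance⟩
  haveI := Fact.mk Nat.prime_two
  obtain ⟨z, hz⟩ := exists_prime_orderOf_dvd_card' (G := H) 2 (even_iff_two_dvd.1 (Nat.not_odd_iff_even.1 hodd))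
  have hiso : Cfsg.IsIsolatedInvolution z := ⟨hz, fun g hg => by
    let A : Subgroup H := closure {z, g * z * g⁻¹}
    haveI : IsMulCommutative A := Subgroup.isMulCommutative_closure (by
      intro a ha b hb
      rcases ha with rfl | rfl <;> rcases hb with rfl | rfl <;> first | rfl | exact hg.eq | exact hg.eq.symm)
    haveI := hab A inferInstance
    classical
    letI : Fintype A := Fintype.ofFinite A
    have hzA : z ∈ A := subset_closure (Or.inl rfl)
    have hgA : g * z * g⁻¹ ∈ A := subset_closure (Or.inr rfl)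
    have hgo : orderOf (g * z * g⁻¹) = 2 := by rw [← MulAut.conj_apply, MulEquiv.orderOf_eq, hz]
    obtain ⟨i, hi⟩ := mem_zpowers_iff.1 (mem_zpowers_of_cyclic (r := 2) (w := (⟨z, hzA⟩ : A)) (y := ⟨g * z * g⁻¹, hgA⟩)
      (by rw [Subgroup.orderOf_mk, hz]) (Subtype.ext (by rw [SubgroupClass.coe_pow, ← hgo, pow_orderOf_eq_one]; rfl)))
    have hi' : z ^ i = g * z * g⁻¹ := by simpa using congrArg Subtype.val hi
    rw [← hi', ← zpow_mod_orderOf, hz]
    rcases Int.emod_two_eq_zero_or_one i with e | e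
    · exfalso
      rw [← hi', ← zpow_mod_orderOf, hz, show ((2 : ℕ) : ℤ) = 2 from rfl, e, zpow_zero, orderOf_one] at hgo
      exact absurd hgo (by norm_num)
    · rw [show ((2 : ℕ) : ℤ) = 2 from rfl, e, zpow_one]⟩
  by_cases hO : Cfsg.pPrimeCore 2 H = ⊥
  · have hzc : z ∈ center H := mem_center_iff.2 fun g => by
      have h1 := CfsgLib.Invol.zstar hiso g
      rw [hO, mem_bot, mul_inv_eq_one, mul_inv_eq_iff_eq_mul] at h1
      exact h1.symm
    refine ⟨zpowers z, ⟨fun a ha g => ?_⟩, fun e => ?_, Group.isSolvable_of_comm fun a b => ?_⟩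
    · obtain ⟨i, rfl⟩ := mem_zpowers_iff.1 ha
      rw [mem_center_iff.1 (zpow_mem hzc i) g, mul_inv_cancel_right]
      exact ha
    · rw [zpowers_eq_bot.1 e, orderOf_one] at hz; omega
    · obtain ⟨a, i, rfl⟩ := a
      obtain ⟨b, j, rfl⟩ := b
      exact Subtype.ext (zpow_mul_comm z i j)
  · refine ⟨Cfsg.pPrimeCore 2 H, Subgroup.sSup_normal _ (fun _ h' => h'.1), hO,
      solvable_of_abelian_cyclic ?_ fun A hA => ?_⟩
    · rw [← Nat.not_even_iff_odd, even_iff_two_dvd]
      exact pPrimeCore_not_dvd Nat.prime_two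
    · haveI := hA
      haveI : IsCyclic (A.map (Cfsg.pPrimeCore 2 H).subtype) := hab _ inferInstance
      exact (A.equivMapOfInjective _ (Cfsg.pPrimeCore 2 H).subtype_injective).isCyclic.2 inferInstance


/-- Let G be a finite group and H a subgroup that meets each of its conjugates by elements outside N_G(H) trivially and whose order is coprime to its index in N_G(H). Then H has a normal complement in N_G(H) if and only if H has a normal complement in G. Moreover, if H is not normal in G and has a normal complement in N_G(H), then H is isomorphic to a Frobenius complement of some finite Frobenius group. -/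
theorem result {G : Type u} [Group G] [Finite G] (H : Subgroup G)
    (hTI : Cfsg.IsTISubset (H : Set G)) (hHall : (Nat.card H).Coprime (H.subgroupOf (Subgroup.normalizer (H : Set G))).index) :
    ((∃ K : Subgroup (Subgroup.normalizer (H : Set G)), K.Normal ∧ K.IsComplement' (H.subgroupOf (Subgroup.normalizer (H : Set G)))) ↔
      (∃ N : Subgroup G, N.Normal ∧ N.IsComplement' H)) ∧
    (¬ H.Normal → (∃ K : Subgroup (Subgroup.normalizer (H : Set G)), K.Normal ∧ K.IsComplement' (H.subgroupOf (Subgroup.normalizer (H : Set G)))) →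
      ∃ (F : Type u) (_ : Group F) (_ : Finite F) (C : Subgroup F), Cfsg.IsFrobeniusComplement C ∧ Nonempty (H ≃* C)) := by
  classical
  set N := normalizer (H : Set G) with hN
  have hHN : H ≤ N := le_normalizer
  haveI hHn : (H.subgroupOf N).Normal := normal_in_normalizer
  -- complements restrict
  have hback : (∃ M : Subgroup G, M.Normal ∧ M.IsComplement' H) →
      ∃ K : Subgroup N, K.Normal ∧ K.IsComplement' (H.subgroupOf N) := by
    rintro ⟨M, hMn, hM⟩
    haveI := hMn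
    refine ⟨M.subgroupOf N, inferInstance, isComplement'_of_disjoint_and_mul_eq_univ ?_ ?_⟩
    · rw [disjoint_def]
      intro u hu hu'
      exact Subtype.ext (disjoint_def.1 hM.disjoint hu hu')
    · refine Set.eq_univ_of_forall fun u => ?_
      obtain ⟨⟨a, b⟩, hab⟩ := hM.2 (u : G)
      have hb : (b : G) ∈ N := hHN b.2
      have ha : (a : G) ∈ N := by
        have h1 := mul_mem u.2 (inv_mem hb)
        rwa [← show (a : G) * b = u from hab, mul_inv_cancel_right] at h1
      exact ⟨⟨a, ha⟩, a.2, ⟨b, hb⟩, b.2, Subtype.ext hab⟩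
  by_cases hnorm : H.Normal
  · refine ⟨⟨?_, hback⟩, fun h' => absurd hnorm h'⟩
    rintro ⟨K, hKn, hK⟩
    have htop : N = ⊤ := normalizer_eq_top_iff.2 hnorm
    refine ⟨K.map N.subtype, ⟨fun a ha g => ?_⟩, isComplement'_of_disjoint_and_mul_eq_univ ?_ ?_⟩
    · obtain ⟨a', ha', rfl⟩ := ha
      exact ⟨⟨g, htop ▸ mem_top g⟩ * a' * (⟨g, htop ▸ mem_top g⟩)⁻¹, hKn.conj_mem _ ha' _, rfl⟩
    · rw [disjoint_def]
      rintro _ ⟨u, hu, rfl⟩ hu'
      exact congrArg Subtype.val (disjoint_def.1 hK.disjoint hu hu')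
    · refine Set.eq_univ_of_forall fun u => ?_
      obtain ⟨⟨a, b⟩, hab⟩ := hK.2 (⟨u, htop ▸ mem_top u⟩ : N)
      exact ⟨(a : N), ⟨a, a.2, rfl⟩, (b : N), b.2, congrArg Subtype.val hab⟩
  have hHb : H ≠ ⊥ := fun e => hnorm (e ▸ inferInstance)
  have hTI' : ∀ g : G, ∀ x ∈ H, g * x * g⁻¹ ∈ H → x ≠ 1 → g ∈ N := fun g x hx hgx hx1 => by
    by_contra hg
    exact hx1 (hTI g hg x hx hgx)
  have hCN : ∀ x ∈ H, x ≠ 1 → centralizer ({x} : Set G) ≤ N := fun x hx hx1 g hg => hTI' g x hx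
    (by rw [mem_centralizer_singleton_iff.1 hg, mul_inv_cancel_right]; exact hx) hx1
  have hinH : ∀ g ∈ N, (orderOf g).Coprime (H.subgroupOf N).index → g ∈ H := by
    intro g hg hco
    refine (QuotientGroup.eq_one_iff (⟨g, hg⟩ : N)).1 (orderOf_eq_one_iff.1 (Nat.eq_one_of_dvd_coprimes hco
      ((orderOf_map_dvd (QuotientGroup.mk' (H.subgroupOf N)) (⟨g, hg⟩ : N)).trans (by rw [Subgroup.orderOf_mk])) ?_))
    rw [index]
    exact orderOf_dvd_natCard _
  have hinH' : ∀ g ∈ N, (∀ r : ℕ, r.Prime → r ∣ orderOf g → r ∣ Nat.card H) → g ∈ H := fun g hg hr =>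
    hinH g hg (Nat.coprime_of_dvd fun r hr' h1 h2 =>
      hr'.ne_one (Nat.eq_one_of_dvd_coprimes hHall (hr r hr' h1) h2))
  -- Sylow subgroups of `H` are Sylow subgroups of `G`
  have hsyl : ∀ r : ℕ, r.Prime → r ∣ Nat.card H → ∃ P : Sylow r G, (P : Subgroup G) ≤ H := by
    intro r hr hrH
    haveI := Fact.mk hr
    obtain ⟨R⟩ : Nonempty (Sylow r H) := inferInstance
    obtain ⟨P, hP⟩ := (R.2.map H.subtype).exists_le_sylow
    refine ⟨P, ?_⟩
    obtain ⟨x, hx⟩ := exists_prime_orderOf_dvd_card' (G := (R : Subgroup H)) r (R.dvd_card_of_dvd_card hrH)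
    have hxH : ((x : H) : G) ∈ H := (x : H).2
    have hx1 : ((x : H) : G) ≠ 1 := fun e => by
      rw [show x = 1 from Subtype.ext (Subtype.ext e), orderOf_one] at hx
      exact hr.ne_one hx.symm
    haveI : Nontrivial (P : Subgroup G) := (nontrivial_iff_ne_bot _).2 fun e => hx1 (by
      have := hP ⟨(x : H), x.2, rfl⟩
      rwa [e, mem_bot] at this)
    haveI := P.2.center_nontrivial
    obtain ⟨z, hz⟩ := exists_ne (1 : center (P : Subgroup G))
    have hzc : ∀ u ∈ (P : Subgroup G), u * ((z : (P : Subgroup G)) : G) = ((z : (P : Subgroup G)) : G) * u :=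
      fun u hu => congrArg Subtype.val (mem_center_iff.1 z.2 ⟨u, hu⟩)
    have hprime : ∀ u ∈ (P : Subgroup G), ∀ s : ℕ, s.Prime → s ∣ orderOf u → s ∣ Nat.card H := by
      intro u hu s hs hsu
      obtain ⟨k, hk⟩ := IsPGroup.iff_orderOf.1 P.2 ⟨u, hu⟩
      rw [Subgroup.orderOf_mk] at hk
      rw [hk] at hsu
      rwa [(Nat.prime_dvd_prime_iff_eq hs hr).1 (hs.dvd_of_dvd_pow hsu)]
    have hzH : ((z : (P : Subgroup G)) : G) ∈ H := by
      refine hinH' _ (hCN _ hxH hx1 (mem_centralizer_singleton_iff.2 ?_)) (hprime _ (z : (P : Subgroup G)).2)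
      exact (hzc _ (hP ⟨(x : H), x.2, rfl⟩)).symm
    intro u hu
    refine hinH' u (hCN _ hzH ?_ (mem_centralizer_singleton_iff.2 (hzc u hu))) (hprime u hu)
    exact fun e => hz (Subtype.ext (Subtype.ext e))
  have hHG : (Nat.card H).Coprime H.index := Nat.coprime_of_dvd fun r hr h1 h2 => by
    haveI := Fact.mk hr
    obtain ⟨P, hP⟩ := hsyl r hr h1
    exact P.not_dvd_index (h2.trans (index_dvd_of_le hP))
  have hfwd : (∃ K : Subgroup N, K.Normal ∧ K.IsComplement' (H.subgroupOf N)) →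
      ∃ M : Subgroup G, M.Normal ∧ M.IsComplement' H := by
    rintro ⟨K, hKn, hK⟩
    obtain ⟨M, hMn, hsup, hinf⟩ := Cfsg.Agent.S0877.result H hHG (fun x hx y hy hxy => by
      obtain ⟨c, rfl⟩ := isConj_iff.1 hxy
      by_cases hx1 : x = 1
      · exact ⟨1, one_mem _, by rw [hx1]; simp⟩
      obtain ⟨⟨k, h'⟩, hkh⟩ := hK.2 (⟨c, hTI' c x hx hy hx1⟩ : N)
      obtain ⟨⟨k, hk⟩, hkK⟩ := k
      obtain ⟨⟨h', hh'N⟩, hh'⟩ := h'
      have hc : k * h' = c := congrArg Subtype.val hkh
      refine ⟨h', hh', ?_⟩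
      set w := h' * x * h'⁻¹ with hw
      have hwH : w ∈ H := mul_mem (mul_mem hh' hx) (inv_mem hh')
      have hcx : k * w * k⁻¹ = c * x * c⁻¹ := by rw [hw, ← hc]; group
      have h1 : (⟨k, hk⟩ : N) * ⟨w, hHN hwH⟩ * (⟨k, hk⟩ : N)⁻¹ * (⟨w, hHN hwH⟩ : N)⁻¹ ∈ K ⊓ H.subgroupOf N := by
        refine Subgroup.mem_inf.2 ⟨?_, ?_⟩
        · rw [mul_assoc, mul_assoc, ← mul_assoc (⟨w, hHN hwH⟩ : N)]
          exact mul_mem hkK (hKn.conj_mem _ (inv_mem hkK) _)
        · show k * w * k⁻¹ * w⁻¹ ∈ H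
          rw [hcx]; exact mul_mem hy (inv_mem hwH)
      rw [hK.disjoint.eq_bot, mem_bot, mul_inv_eq_one] at h1
      rw [← hcx]
      exact (congrArg Subtype.val h1).symm) (fun E p hp hE hEH => by
      haveI := Fact.mk hp
      by_cases hEb : E = ⊥
      · exact ⟨1, by rw [hEb, Subgroup.map_bot]; exact bot_le⟩
      obtain ⟨z, hzc, hz1⟩ : ∃ z : E, z ∈ center E ∧ z ≠ 1 := by
        obtain ⟨x, hxc, -, k, hk⟩ := hE
        by_cases hx1 : x = 1
        · haveI : Nontrivial E := (nontrivial_iff_ne_bot E).2 hEb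
          have hp' : IsPGroup p E := IsPGroup.of_card (n := k) (by rw [← hk, hx1, zpowers_one_eq_bot, index_bot])
          haveI := hp'.center_nontrivial
          obtain ⟨z, hz⟩ := exists_ne (1 : center E)
          exact ⟨z, z.2, fun e => hz (Subtype.ext e)⟩
        · exact ⟨x, hxc, hx1⟩
      obtain ⟨r, hr, hrz⟩ := Nat.exists_prime_and_dvd (fun e => hz1 (orderOf_eq_one_iff.1 e))
      haveI := Fact.mk hr
      obtain ⟨P, hP⟩ := hsyl r hr ((hrz.trans (orderOf_dvd_natCard z)).trans hEH)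
      set w : E := z ^ (orderOf z / r) with hw
      have hwo : orderOf w = r := orderOf_pow_orderOf_div (orderOf_pos z).ne' hrz
      obtain ⟨P', hP'⟩ := (IsPGroup.of_card (p := r) (n := 1) (by
        rw [Nat.card_zpowers, Subgroup.orderOf_coe, hwo, pow_one]) : IsPGroup r (zpowers (w : G))).exists_le_sylow
      obtain ⟨g, hg⟩ := MulAction.exists_smul_eq G P' P
      refine ⟨g, ?_⟩
      have hgw : g * (w : G) * g⁻¹ ∈ H := by
        refine hP ?_
        rw [← hg]
        exact ⟨w, hP' (mem_zpowers _), rfl⟩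
      rintro _ ⟨e, he, rfl⟩
      show g * e * g⁻¹ ∈ H
      refine hinH' _ (hCN _ hgw ?_ (mem_centralizer_singleton_iff.2 ?_)) fun s hs hse => ?_
      · rw [Ne, conj_eq_one_iff]
        exact fun e' => hr.ne_one (by rw [← hwo, show w = 1 from Subtype.ext e', orderOf_one])
      · have h1 : e * (w : G) = w * e := congrArg Subtype.val (mem_center_iff.1 (pow_mem hzc _) ⟨e, he⟩)
        calc g * e * g⁻¹ * (g * w * g⁻¹) = g * (e * w) * g⁻¹ := by group
          _ = g * (w * e) * g⁻¹ := by rw [h1]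
          _ = g * w * g⁻¹ * (g * e * g⁻¹) := by group
      · rw [← MulAut.conj_apply, MulEquiv.orderOf_eq] at hse
        refine hse.trans (dvd_trans ?_ hEH)
        rw [← Subgroup.orderOf_mk e he]
        exact orderOf_dvd_natCard _)
    refine ⟨M, hMn, isComplement'_of_disjoint_and_mul_eq_univ (disjoint_iff.2 hinf) ?_⟩
    haveI := hMn
    rw [← normal_mul M H, hsup, coe_top]
  refine ⟨⟨hfwd, hback⟩, fun _ hex => ?_⟩
  obtain ⟨K, hKn, hK⟩ := hfwd hex
  haveI := hKn
  have hHK : H ≤ normalizer (K : Set G) := by rw [normalizer_eq_top]; exact le_top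
  have hcop : (Nat.card H).Coprime (Nat.card K) := by
    rw [← hK.index_eq_card]; exact hHG
  have hHKb : H ⊓ K = ⊥ := disjoint_of_coprime_card hcop
  set D := K ⊓ centralizer (H : Set G) with hD
  have hKC : ∀ x ∈ H, x ≠ 1 → K ⊓ centralizer ({x} : Set G) ≤ D := by
    intro x hx hx1 c hc
    refine Subgroup.mem_inf.2 ⟨hc.1, mem_centralizer_iff.2 fun y hy => ?_⟩
    have hcN := hCN x hx hx1 hc.2
    have h1 : c * y * c⁻¹ * y⁻¹ ∈ H ⊓ K := by
      refine Subgroup.mem_inf.2 ⟨mul_mem ((mem_normalizer_iff.1 hcN y).1 hy) (inv_mem hy), ?_⟩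
      rw [show c * y * c⁻¹ * y⁻¹ = c * (y * c⁻¹ * y⁻¹) by group]
      exact mul_mem hc.1 (hKn.conj_mem _ (inv_mem hc.1) y)
    rw [hHKb, mem_bot, mul_inv_eq_one, mul_inv_eq_iff_eq_mul] at h1
    exact h1.symm
  have hKD : ¬ K ≤ D := by
    intro h1
    apply hnorm
    rw [← normalizer_eq_top_iff, eq_top_iff]
    intro g _
    obtain ⟨⟨a, b⟩, hab⟩ := hK.2 g
    rw [← show (a : G) * b = g from hab]
    exact mul_mem (centralizer_le_normalizer _ (h1 a.2).2) (hHN b.2)
  haveI : Nontrivial H := (nontrivial_iff_ne_bot H).2 hHb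
  obtain ⟨L₀, hL₀n, hL₀, hL₀s⟩ := exists_normal_solvable (H := H) fun A hA => by
    by_contra hcyc
    apply hKD
    haveI := hA
    refine le_of_centralizers_le (A := A.map H.subtype)
      (fun hc => hcyc ((A.equivMapOfInjective _ H.subtype_injective).isCyclic.2 hc))
      ((map_subtype_le A).trans hHK) (hcop.coprime_dvd_left (card_dvd_of_le (map_subtype_le A))) ?_
    intro a ha ha1
    exact hKC a (map_subtype_le A ha) ha1
  set L := L₀.map H.subtype with hL
  have hLH : L ≤ H := map_subtype_le _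
  have hLn : H ≤ normalizer (L : Set G) := fun h hh => by
    rw [mem_normalizer_iff]
    have key : ∀ h ∈ H, ∀ l ∈ L, h * l * h⁻¹ ∈ L := by
      rintro h hh _ ⟨l, hl, rfl⟩
      exact ⟨⟨h, hh⟩ * l * (⟨h, hh⟩ : H)⁻¹, hL₀n.conj_mem l hl _, rfl⟩
    refine fun l => ⟨key h hh l, fun hl => ?_⟩
    simpa [mul_assoc] using key h⁻¹ (inv_mem hh) _ hl
  have hLs : Group.IsSolvable L := by
    haveI := hL₀s
    exact Group.isSolvable_of_surjective (H.subtype.subgroupMap_surjective L₀)
  obtain ⟨l₁, hl₁, hl₁1⟩ : ∃ l ∈ L, l ≠ 1 := by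
    by_contra! h'
    exact hL₀ ((map_eq_bot_iff_of_injective _ H.subtype_injective).1 ((eq_bot_iff_forall L).2 h'))
  have hLC : K ⊓ centralizer (L : Set G) ≤ D :=
    le_trans (inf_le_inf_left K (centralizer_le (Set.singleton_subset_iff.2 hl₁))) (hKC l₁ (hLH hl₁) hl₁1)
  obtain ⟨q, hq, hqd⟩ : ∃ q : ℕ, q.Prime ∧ q ∣ D.relIndex K :=
    Nat.exists_prime_and_dvd fun e => hKD (relIndex_eq_one.1 e)
  haveI := Fact.mk hq
  have hcopL : (Nat.card L).Coprime (Nat.card K) := hcop.coprime_dvd_left (card_dvd_of_le hLH)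
  obtain ⟨Q, hQ, hQL⟩ := exists_invariant_sylow (A := L) (K := K) (hLH.trans hHK) hcopL (Or.inl hLs) q
  have hQD : ¬ Q ≤ D := fun h1 => by
    exact (hQ.toSylow).not_dvd_index ((hqd.trans (relIndex_dvd_of_le_left K h1)).trans (by
      rw [relIndex]
      exact dvd_of_eq (congrArg Subgroup.index (by
        conv_lhs => rw [← hQ.map_toSylow]
        exact comap_map_eq_self_of_injective K.subtype_injective _))))
  have hHQ : H ≤ normalizer (Q : Set G) := by
    intro h hh
    have hhQ : L ≤ normalizer (conjBy h Q : Set G) := by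
      intro l hl
      have hl' : h⁻¹ * l * h ∈ L := by
        have h2 := (mem_normalizer_iff.1 (inv_mem (hLn hh)) l).1 hl
        rwa [inv_inv] at h2
      rw [← conjBy_eq_self_iff, conjBy_conjBy, show l * h = h * (h⁻¹ * l * h) by group, ← conjBy_conjBy,
        conjBy_eq_self_iff.2 (hQL hl')]
    obtain ⟨k, hk, hkQ⟩ := hQ.exists_conj (hQ.conjBy (hHK hh))
    obtain ⟨d, hd, hdQ⟩ := invariant_conj_unique (hLH.trans hHK) hcopL (Or.inl hLs) hQL hhQ hk hkQ
    have hdD := hLC hd
    have hdh : Commute d⁻¹ h := (show Commute d h from (mem_centralizer_iff.1 hdD.2 h hh).symm).inv_left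
    have h1 : d⁻¹ * h ∈ normalizer (Q : Set G) := by
      rw [← conjBy_eq_self_iff, ← conjBy_conjBy, ← hdQ, conjBy_conjBy, inv_mul_cancel, conjBy_one]
    have h2 := pow_mem h1 (Nat.card K)
    have hdK : d ^ Nat.card K = 1 := congrArg Subtype.val (pow_card_eq_one' (x := (⟨d, hd.1⟩ : K)))
    rw [hdh.mul_pow, inv_pow, hdK, inv_one, one_mul] at h2
    have hho : (Nat.card K).Coprime (orderOf h) := by
      refine hcop.symm.coprime_dvd_right ?_
      rw [← Subgroup.orderOf_mk h hh]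
      exact orderOf_dvd_natCard _
    obtain ⟨m, hm⟩ := exists_pow_eq_self_of_coprime hho
    rw [← hm]
    exact pow_mem h2 m
  -- the Frattini-type subgroup
  have hQK : Q ≤ K := hQ.1
  set M := (Q ⊓ D) ⊔ ⁅Q, Q⁆ with hM
  have hMQ : M ≤ Q := sup_le inf_le_left (commutator_le_self Q)
  have hQQ : Q ≤ normalizer (M : Set G) := fun v hv => by
    rw [mem_normalizer_iff]
    have key : ∀ v ∈ Q, ∀ m ∈ M, v * m * v⁻¹ ∈ M := fun v hv m hm => by
      rw [show v * m * v⁻¹ = ⁅v, m⁆ * m by rw [_root_.commutatorElement_def]; group]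
      exact mul_mem (mem_sup_right (commutator_mem_commutator hv (hMQ hm))) hm
    refine fun m => ⟨key v hv m, fun hm => ?_⟩
    simpa [mul_assoc] using key v⁻¹ (inv_mem hv) _ hm
  have hHM : H ≤ normalizer (M : Set G) := by
    intro h hh
    rw [← conjBy_eq_self_iff, hM, conjBy, Subgroup.map_sup, Subgroup.map_inf _ _ _ (MulEquiv.injective _),
      map_commutator, show Q.map (MulAut.conj h).toMonoidHom = Q from conjBy_eq_self_iff.2 (hHQ hh)]
    congr 1
    have hdfix : D.map (MulAut.conj h).toMonoidHom = D := by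
      refine eq_of_le_of_card_ge ?_ (card_map_of_injective (MulEquiv.injective _)).ge
      rintro _ ⟨d, hd, rfl⟩
      show h * d * h⁻¹ ∈ D
      rw [mem_centralizer_iff.1 hd.2 h hh, mul_inv_cancel_right]
      exact hd
    rw [hdfix]
  have hMne : ∃ v ∈ Q, v ∉ M := by
    by_contra! hall
    apply hQD
    have h1 : (D.subgroupOf Q) ⊔ frattini Q = ⊤ := by
      refine eq_top_iff.2 ?_
      have h2 : (⊤ : Subgroup Q) ≤ (D.subgroupOf Q) ⊔ commutator Q := by
        refine (map_le_map_iff_of_injective Q.subtype_injective).1 ?_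
        rw [Subgroup.map_sup, _root_.commutator_def, map_commutator, ← MonoidHom.range_eq_map, range_subtype,
          subgroupOf_map_subtype]
        exact (show Q ≤ M from hall).trans (by rw [hM, inf_comm])
      exact h2.trans (sup_le_sup_left (commutator_le_frattini hQ.isPGroup) _)
    have h3 := frattini_nongenerating h1
    exact subgroupOf_eq_top.1 h3
  obtain ⟨v₀, hv₀, hv₀M⟩ := hMne
  -- the quotient
  set Y := Q ⊔ H with hY
  have hYM : Y ≤ normalizer (M : Set G) := sup_le hQQ hHM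
  haveI : (M.subgroupOf Y).Normal :=
    (normal_subgroupOf_iff_le_normalizer (hMQ.trans le_sup_left)).2 hYM
  let φ : H →* Y ⧸ M.subgroupOf Y := (QuotientGroup.mk' _).comp (inclusion (le_sup_right : H ≤ Y))
  have hQH : Q ⊓ H = ⊥ := le_bot_iff.1 ((inf_le_inf_right H hQK).trans (by rw [inf_comm, hHKb]))
  have hφ : Function.Injective φ := (injective_iff_map_eq_one φ).2 fun a ha => Subtype.ext (by
    have h1 : (a : G) ∈ M := mem_subgroupOf.1 ((QuotientGroup.eq_one_iff (inclusion (le_sup_right : H ≤ Y) a)).1 ha)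
    have h2 : (a : G) ∈ Q ⊓ H := ⟨hMQ h1, a.2⟩
    rwa [hQH, mem_bot] at h2)
  refine ⟨Y ⧸ M.subgroupOf Y, inferInstance, inferInstance, φ.range, ⟨?_, ?_, ?_⟩, ⟨MonoidHom.ofInjective hφ⟩⟩
  · intro e
    obtain ⟨a, ha⟩ := exists_ne (1 : H)
    exact ha (hφ (by rw [map_one]; exact mem_bot.1 (e ▸ ⟨a, rfl⟩)))
  · intro e
    obtain ⟨a, ha⟩ : QuotientGroup.mk' (M.subgroupOf Y) (⟨v₀, mem_sup_left hv₀⟩ : Y) ∈ φ.range := by
      rw [e]; trivial
    have ha' : ((inclusion (le_sup_right : H ≤ Y) a : Y) : Y ⧸ M.subgroupOf Y) = ((⟨v₀, mem_sup_left hv₀⟩ : Y) : Y ⧸ M.subgroupOf Y) := ha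
    have h1 : (a : G)⁻¹ * v₀ ∈ M := mem_subgroupOf.1 (QuotientGroup.eq.1 ha')
    have h2 : (a : G) ∈ Q ⊓ H := ⟨by
      have := mul_mem hv₀ (inv_mem (hMQ h1))
      simpa using this, a.2⟩
    rw [hQH, mem_bot] at h2
    rw [h2, inv_one, one_mul] at h1
    exact hv₀M h1
  · intro g hg
    obtain ⟨⟨y, hy⟩, rfl⟩ := QuotientGroup.mk'_surjective (M.subgroupOf Y) g
    obtain ⟨v, hv, h, hh, rfl⟩ := mem_sup_exists hHQ hy
    have hvM : v ∉ M := fun hvM => hg ⟨⟨h, hh⟩, QuotientGroup.eq.2 (by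
      show h⁻¹ * (v * h) ∈ M
      have := (mem_normalizer_iff.1 (hHM (inv_mem hh)) v).1 hvM
      rwa [inv_inv, mul_assoc] at this)⟩
    refine (eq_bot_iff_forall _).2 ?_
    rintro _ ⟨⟨a, rfl⟩, ⟨_, ⟨b, rfl⟩, hb⟩⟩
    by_contra ha1
    have hbe : ((b : G)) = b := rfl
    set b' := h * (b : G) * h⁻¹ with hb'
    have hb'H : b' ∈ H := mul_mem (mul_mem hh b.2) (inv_mem hh)
    have h1 : (a : G)⁻¹ * (v * b' * v⁻¹) ∈ M := by
      have hb2 : (((⟨v * h, hy⟩ : Y) * inclusion (le_sup_right : H ≤ Y) b * (⟨v * h, hy⟩ : Y)⁻¹ : Y) : Y ⧸ M.subgroupOf Y) =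
          ((inclusion (le_sup_right : H ≤ Y) a : Y) : Y ⧸ M.subgroupOf Y) := hb
      have h2 : (v * h * (b : G) * (v * h)⁻¹)⁻¹ * a ∈ M := mem_subgroupOf.1 (QuotientGroup.eq.1 hb2)
      have h3 := inv_mem h2
      rwa [mul_inv_rev, inv_inv, show v * h * (b : G) * (v * h)⁻¹ = v * b' * v⁻¹ by rw [hb']; group] at h3
    have hab : (a : G) = b' := by
      have hbN : b' * v⁻¹ * b'⁻¹ ∈ Q := (mem_normalizer_iff.1 (hHQ hb'H) v⁻¹).1 (inv_mem hv)
      have h2 : (a : G)⁻¹ * b' ∈ Q ⊓ H := by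
        refine Subgroup.mem_inf.2 ⟨?_, mul_mem (inv_mem a.2) hb'H⟩
        rw [show (a : G)⁻¹ * b' = ((a : G)⁻¹ * (v * b' * v⁻¹)) * ((b'⁻¹ * (v * (b' * v⁻¹ * b'⁻¹)) * b'))⁻¹ by group]
        refine mul_mem (hMQ h1) (inv_mem ?_)
        have := (mem_normalizer_iff.1 (hHQ (inv_mem hb'H)) _).1 (mul_mem hv hbN)
        rwa [inv_inv] at this
      rw [hQH, mem_bot, inv_mul_eq_one] at h2
      exact h2
    have hb'1 : b' ≠ 1 := fun e => ha1 (by rw [show a = 1 from Subtype.ext (hab.trans e), map_one])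
    have hbv : b' * v * b'⁻¹ * v⁻¹ ∈ M := by
      rw [hab] at h1
      have h2 := (mem_normalizer_iff.1 (hHM hb'H) _).1 h1
      rw [show b' * (b'⁻¹ * (v * b' * v⁻¹)) * b'⁻¹ = (b' * v * b'⁻¹ * v⁻¹)⁻¹ by group] at h2
      simpa using inv_mem h2
    set B := zpowers b' with hB
    have hBH : B ≤ H := zpowers_le.2 hb'H
    have hfix : ∀ c ∈ B, c * v * c⁻¹ * v⁻¹ ∈ M := by
      rintro _ ⟨i, rfl⟩
      have hc : Commute (QuotientGroup.mk' (M.subgroupOf Y) (⟨b', mem_sup_right hb'H⟩ : Y))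
          (QuotientGroup.mk' (M.subgroupOf Y) (⟨v, mem_sup_left hv⟩ : Y)) := by
        show _ * _ = _ * _
        rw [← mul_inv_eq_iff_eq_mul, ← mul_inv_eq_one, ← map_inv, ← map_inv, ← map_mul, ← map_mul, ← map_mul]
        exact (QuotientGroup.eq_one_iff _).2 hbv
      have h2 := (hc.zpow_left i).eq
      rw [← map_zpow, ← mul_inv_eq_iff_eq_mul, ← mul_inv_eq_one, ← map_inv, ← map_inv, ← map_mul, ← map_mul,
        ← map_mul] at h2
      simpa [mem_subgroupOf] using (QuotientGroup.eq_one_iff (N := M.subgroupOf Y) _).1 h2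
    obtain ⟨m, hm, hvm⟩ := exists_fixed_in_coset (A := B) (N := M) (hBH.trans hHM)
      ((hcop.coprime_dvd_left (card_dvd_of_le hBH)).coprime_dvd_right (card_dvd_of_le (hMQ.trans hQK)))
      (Or.inl (Group.isSolvable_of_comm fun x y => by
        obtain ⟨x, i, rfl⟩ := x
        obtain ⟨y, j, rfl⟩ := y
        exact Subtype.ext (zpow_mul_comm b' i j))) (hQQ hv) hfix
    have hD1 : v * m ∈ D := hKC b' hb'H hb'1 ⟨mul_mem (hQK hv) (hQK (hMQ hm)),
      centralizer_le (Set.singleton_subset_iff.2 (mem_zpowers b')) hvm⟩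
    have hM1 : v * m ∈ M := mem_sup_left ⟨mul_mem hv (hMQ hm), hD1⟩
    exact hvM (by simpa using mul_mem hM1 (inv_mem hm))

end Cfsg.Agent.S4115
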