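import Cfsg.Statements.S4116
import Cfsg.Agent.Lib.Coprime.Frobenius

set_option autoImplicit false
open Cfsg

namespace Cfsg.Agent.S4116

open Subgroup in
theorem sylow_le_conj {G : Type*} [Group G] [Finite G] (H : Subgroup G)
    (hHall : (Nat.card H).Coprime H.index) {q : ℕ} [Fact q.Prime] (hq : q ∣ Nat.card H) {T : Subgroup G}
    (hT : IsPGroup q T) : ∃ g : G, T ≤ H.map (MulAut.conj g).toMonoidHom := by
  obtain ⟨S₀⟩ : Nonempty (Sylow q H) := inferInstance
  have h1 : ¬ q ∣ ((S₀ : Subgroup H).map H.subtype).relIndex H := by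
    rw [relIndex, show ((S₀ : Subgroup H).map H.subtype).subgroupOf H = (S₀ : Subgroup H) from
      comap_map_eq_self_of_injective H.subtype_injective _]
    exact S₀.not_dvd_index
  have h2 : ¬ q ∣ H.index := fun h =>
    Nat.not_coprime_of_dvd_of_dvd (Fact.out : q.Prime).one_lt hq h hHall
  let S : Sylow q G := (S₀.2.map H.subtype).toSylow (by
    rw [← relIndex_mul_index (map_subtype_le (S₀ : Subgroup H))]
    exact fun hd => ((Fact.out : q.Prime).dvd_mul.1 hd).elim h1 h2)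
  obtain ⟨T', hT'⟩ := hT.exists_le_sylow
  obtain ⟨g, hg⟩ := MulAction.exists_smul_eq G S T'
  refine ⟨g, fun t ht => ?_⟩
  have ht' : t ∈ ((g • S : Sylow q G) : Subgroup G) := by rw [hg]; exact hT' ht
  obtain ⟨x, hx, rfl⟩ := ht'
  exact ⟨x, map_subtype_le _ hx, rfl⟩

/-- Let G be a finite group with a subgroup H whose order is coprime to its index (a Hall subgroup) and which meets each of its conjugates by elements outside N_G(H) trivially. Then every subgroup of G whose order is divisible only by primes dividing the order of H lies in a conjugate of H. -/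
theorem result {G : Type*} [Group G] [Finite G] (H : Subgroup G)
    (hHall : (Nat.card H).Coprime H.index) (hTI : Cfsg.IsTISubset (H : Set G))
    (K : Subgroup G) (hK : ∀ q : ℕ, q.Prime → q ∣ Nat.card K → q ∣ Nat.card H) :
    ∃ g : G, K ≤ H.map (MulAut.conj g).toMonoidHom := by
  classical
  rcases eq_or_ne (Nat.card K) 1 with h1 | h1
  · exact ⟨1, (Subgroup.card_eq_one.1 h1).le.trans bot_le⟩
  by_contra hno
  set C : G → Subgroup G := fun a => H.map (MulAut.conj a).toMonoidHom with hC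
  have hmemC : ∀ a x, x ∈ C a ↔ a⁻¹ * x * a ∈ H := fun a x =>
    ⟨by rintro ⟨y, hy, rfl⟩; simpa [mul_assoc] using hy, fun h => ⟨_, h, by simp [mul_assoc]⟩⟩
  have hti : ∀ a b x, x ∈ C a → x ∈ C b → x ≠ 1 → b⁻¹ * a ∈ Subgroup.normalizer (H : Set G) := by
    intro a b x ha hb hx
    by_contra hg
    have := hTI _ hg (a⁻¹ * x * a) ((hmemC a x).1 ha) (by
      rw [show b⁻¹ * a * (a⁻¹ * x * a) * (b⁻¹ * a)⁻¹ = b⁻¹ * x * b by group]
      exact (hmemC b x).1 hb)
    exact hx (by rw [show x = a * (a⁻¹ * x * a) * a⁻¹ by group, this]; group)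
  have heq : ∀ a b x, x ∈ C a → x ∈ C b → x ≠ 1 → C a = C b := by
    intro a b x ha hb hx
    have hn := hti a b x ha hb hx
    ext y
    rw [hmemC, hmemC, Subgroup.mem_normalizer_iff.1 hn (a⁻¹ * y * a),
      show b⁻¹ * a * (a⁻¹ * y * a) * (b⁻¹ * a)⁻¹ = b⁻¹ * y * b by group]
  -- an element of `K` moving part of a conjugate to itself lies in it
  have hin : ∀ a, ∀ k ∈ K, ∀ x ∈ C a, k * x * k⁻¹ ∈ C a → x ≠ 1 → k ∈ C a := by
    intro a k hk x hx hkx hx1
    have h2 : k⁻¹ * (k * x * k⁻¹) * k ∈ C a := by simpa [mul_assoc] using hx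
    have hmem : x ∈ C (k⁻¹ * a) := by
      rw [hmemC, show (k⁻¹ * a)⁻¹ * x * (k⁻¹ * a) = a⁻¹ * (k * x * k⁻¹) * a by group]
      exact (hmemC a _).1 hkx
    have hn := inv_mem (hti (k⁻¹ * a) a x hmem hx hx1)
    rw [hmemC]
    set g := a⁻¹ * k * a with hg
    rw [show (a⁻¹ * (k⁻¹ * a))⁻¹ = g by rw [hg]; group] at hn
    set N := Subgroup.normalizer (H : Set G)
    haveI : (H.subgroupOf N).Normal := inferInstance
    have ho : orderOf (QuotientGroup.mk' (H.subgroupOf N) (⟨g, hn⟩ : N)) = 1 := by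
      refine Nat.eq_one_of_dvd_coprimes (a := Nat.card K) (b := (H.subgroupOf N).index) ?_ ?_ ?_
      · refine Nat.coprime_of_dvd fun q hq hqK hqi => ?_
        exact Nat.not_coprime_of_dvd_of_dvd hq.one_lt (hK q hq hqK)
          (hqi.trans (Subgroup.relIndex_dvd_index_of_le Subgroup.le_normalizer)) hHall
      · refine (orderOf_map_dvd _ _).trans ?_
        rw [← Subgroup.orderOf_coe]
        show orderOf g ∣ _
        have h4 : orderOf g = orderOf k := by
          rw [hg]; simpa using (MulAut.conj a⁻¹).orderOf_eq k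
        rw [h4]
        exact Subgroup.orderOf_dvd_natCard K hk
      · exact orderOf_dvd_natCard _
    exact Subgroup.mem_subgroupOf.1 ((QuotientGroup.eq_one_iff _).1 (orderOf_eq_one_iff.1 ho))
  have hfrob : ∀ a, (C a).subgroupOf K ≠ ⊥ → Cfsg.IsFrobeniusComplement ((C a).subgroupOf K) := by
    refine fun a hne => ⟨hne, fun h => hno ⟨a, Subgroup.subgroupOf_eq_top.1 h⟩, fun k hk => ?_⟩
    rw [eq_bot_iff]
    rintro x ⟨hx, y, hy, hyx⟩
    by_contra hx1
    have hy1 : (y : G) ≠ 1 := fun e => hx1 (by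
      rw [Subgroup.mem_bot, ← hyx, show y = 1 from Subtype.ext e]; simp)
    refine hk (Subgroup.mem_subgroupOf.2 (hin a k k.2 y (Subgroup.mem_subgroupOf.1 hy) ?_ hy1))
    have : (k : G) * y * (k : G)⁻¹ = x := by rw [← hyx]; rfl
    rw [this]; exact Subgroup.mem_subgroupOf.1 hx
  -- a first conjugate, containing a Sylow subgroup of `K`
  obtain ⟨q, hq, hqK⟩ := Nat.exists_prime_and_dvd h1
  haveI := Fact.mk hq
  obtain ⟨Q₀⟩ : Nonempty (Sylow q K) := inferInstance
  obtain ⟨a, ha⟩ := sylow_le_conj H hHall (hK q hq hqK) (Q₀.2.map K.subtype)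
  set L := (C a).subgroupOf K with hL
  have hQL : (Q₀ : Subgroup K) ≤ L := fun x hx => ha ⟨x, hx, rfl⟩
  have hLne : L ≠ ⊥ := fun h => by
    have h3 : (Q₀ : Subgroup K) = ⊥ := le_bot_iff.1 (h ▸ hQL)
    exact Q₀.ne_bot_of_dvd_card hqK h3
  have hLf := hfrob a hLne
  obtain ⟨M, -, hMn, hMc⟩ := CfsgLib.Coprime.frob_kernel_subgroup hLf
  haveI := hMn
  have hcop := CfsgLib.Coprime.frob_coprime_card_index hLf
  rw [hMc.index_eq_card] at hcop
  have hM1 : Nat.card M ≠ 1 := fun h => hLf.2.1 (Subgroup.index_eq_one.1 (by rw [← h, ← hMc.index_eq_card]))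
  obtain ⟨r, hr, hrM⟩ := Nat.exists_prime_and_dvd hM1
  haveI := Fact.mk hr
  obtain ⟨R₀⟩ : Nonempty (Sylow r M) := inferInstance
  obtain ⟨b, hb⟩ := sylow_le_conj H hHall
    (hK r hr (hrM.trans (Subgroup.card_subgroup_dvd_card M))) ((R₀.2.map M.subtype).map K.subtype)
  set L' := (C b).subgroupOf K with hL'
  set R := (R₀ : Subgroup M).map M.subtype with hR
  have hRL : R ≤ L' := fun x hx => hb ⟨x, hx, rfl⟩
  have hR1 : R ≠ ⊥ := fun h => by
    refine R₀.ne_bot_of_dvd_card hrM ?_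
    exact (Subgroup.map_eq_bot_iff_of_injective _ M.subtype_injective).1 h
  have hNR : Subgroup.normalizer (R : Set K) ≤ L' := by
    intro k hk
    obtain ⟨⟨x, hxR⟩, hx1⟩ := Subgroup.ne_bot_iff_exists_ne_one.1 hR1
    refine Subgroup.mem_subgroupOf.2 (hin b k k.2 x (hRL hxR) (hRL ((Subgroup.mem_normalizer_iff.1 hk x).1 hxR)) ?_)
    exact fun e => hx1 (Subtype.ext (Subtype.ext e))
  have hqL' : q ∣ Nat.card L' := by
    have hsup := Sylow.normalizer_sup_eq_top R₀
    have h3 : M.index ∣ Nat.card (Subgroup.normalizer (R : Set K)) := by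
      have h4 : M.index = M.relIndex (Subgroup.normalizer (R : Set K)) := by
        rw [← Subgroup.relIndex_top_right M, ← hsup, Subgroup.relIndex_sup_right]
      rw [h4]
      exact Subgroup.relIndex_dvd_card _ _
    have hqLc : q ∣ Nat.card L := (Q₀.dvd_card_of_dvd_card hqK).trans (Subgroup.card_dvd_of_le hQL)
    refine (hqLc.trans ?_).trans (h3.trans (Subgroup.card_dvd_of_le hNR))
    rw [hMc.symm.index_eq_card]
  have hL'ne : L' ≠ ⊥ := fun h => hR1 (le_bot_iff.1 (h ▸ hRL))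
  have hcop' := CfsgLib.Coprime.frob_coprime_card_index (hfrob b hL'ne)
  have hL'q : ¬ q ∣ L'.index := fun h => Nat.not_coprime_of_dvd_of_dvd hq.one_lt hqL' h hcop'
  obtain ⟨Q₁⟩ : Nonempty (Sylow q L') := inferInstance
  let Q₂ : Sylow q K := (Q₁.2.map L'.subtype).toSylow (by
    rw [← Subgroup.relIndex_mul_index (Subgroup.map_subtype_le (Q₁ : Subgroup L'))]
    refine fun hd => (hq.dvd_mul.1 hd).elim ?_ hL'q
    rw [Subgroup.relIndex, show ((Q₁ : Subgroup L').map L'.subtype).subgroupOf L' = (Q₁ : Subgroup L') from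
      Subgroup.comap_map_eq_self_of_injective L'.subtype_injective _]
    exact Q₁.not_dvd_index)
  obtain ⟨k, hk⟩ := MulAction.exists_smul_eq K Q₀ Q₂
  obtain ⟨⟨x, hxQ⟩, hx1⟩ := Subgroup.ne_bot_iff_exists_ne_one.1 (Q₀.ne_bot_of_dvd_card hqK)
  have hy : k * x * k⁻¹ ∈ ((k • Q₀ : Sylow q K) : Subgroup K) := ⟨x, hxQ, rfl⟩
  rw [hk] at hy
  have hyL' : k * x * k⁻¹ ∈ L' := Subgroup.map_subtype_le _ hy
  have hyC : (k : G) * x * (k : G)⁻¹ ∈ C ((k : G) * a) := by
    rw [hmemC, show ((k : G) * a)⁻¹ * ((k : G) * x * (k : G)⁻¹) * ((k : G) * a) = a⁻¹ * x * a by group]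
    exact (hmemC a _).1 (Subgroup.mem_subgroupOf.1 (hQL hxQ))
  have hne : (k : G) * x * (k : G)⁻¹ ≠ 1 := fun e =>
    hx1 (Subtype.ext (Subtype.ext (conj_eq_one_iff.1 e)))
  have hCeq := heq _ b _ hyC (Subgroup.mem_subgroupOf.1 hyL') hne
  have hLL' : Nat.card L = Nat.card L' := by
    have h3 : L' = L.map (MulAut.conj k).toMonoidHom := by
      ext y
      rw [hL', Subgroup.mem_subgroupOf, ← hCeq, hmemC, Subgroup.mem_map_equiv, hL, Subgroup.mem_subgroupOf,
        hmemC]
      simp [mul_assoc]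
    rw [h3, Subgroup.card_map_of_injective (MulAut.conj k).injective]
  refine Nat.not_coprime_of_dvd_of_dvd hr.one_lt (?_ : r ∣ Nat.card L) hrM hcop
  rw [hLL']
  refine ((R₀.dvd_card_of_dvd_card hrM).trans ?_).trans (Subgroup.card_dvd_of_le hRL)
  rw [hR, Subgroup.card_map_of_injective M.subtype_injective]

end Cfsg.Agent.S4116
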