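import Cfsg.Statements.S4117
-- import your own Cfsg.Agent.* helpers here

set_option autoImplicit false
open Cfsg

namespace Cfsg.Agent.S4117

/-- Let A be a finite group acting on the finite group G by automorphisms with the orders of A and G coprime, and suppose every Sylow subgroup of G is cyclic. Then the fixed-point subgroup C_G(A) is a Hall subgroup of G (its order is coprime to its index), the subgroup [G, A] generated by the elements g⁻¹·a(g) is cyclic and normal with [G, A] ∩ C_G(A) = 1 and [G, A]·C_G(A) = G. -/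
theorem result {G A : Type*} [Group G] [Finite G] [Group A] [Finite A]
    [MulDistribMulAction A G] (hcop : (Nat.card A).Coprime (Nat.card G))
    (hcyc : ∀ (p : ℕ) [Fact p.Prime] (P : Sylow p G), IsCyclic (P : Subgroup G)) :
    (Nat.card (MulAction.fixedPoints A G : Set G)).Coprime (Nat.card G / Nat.card (MulAction.fixedPoints A G : Set G)) ∧
    IsCyclic (Subgroup.closure {y : G | ∃ (a : A) (g : G), y = g⁻¹ * a • g}) ∧
    (Subgroup.closure {y : G | ∃ (a : A) (g : G), y = g⁻¹ * a • g}).Normal ∧
    (Subgroup.closure {y : G | ∃ (a : A) (g : G), y = g⁻¹ * a • g} : Set G) ∩ MulAction.fixedPoints A G = {1} ∧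
    Subgroup.closure {y : G | ∃ (a : A) (g : G), y = g⁻¹ * a • g} ⊔ Subgroup.closure (MulAction.fixedPoints A G) = ⊤ := by
  classical
  haveI : IsZGroup G := ⟨fun p hp P => by haveI := Fact.mk hp; exact hcyc p P⟩
  letI := Fintype.ofFinite A
  set S := {y : G | ∃ (a : A) (g : G), y = g⁻¹ * a • g} with hS
  set D := Subgroup.closure S with hD
  have hgen : ∀ (a : A) (g : G), g⁻¹ * a • g ∈ D := fun a g => Subgroup.subset_closure ⟨a, g, rfl⟩
  -- the fixed point subgroup
  let C : Subgroup G :=
    { carrier := MulAction.fixedPoints A G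
      one_mem' := fun a => smul_one a
      mul_mem' := fun {x y} hx hy a => by rw [smul_mul', hx a, hy a]
      inv_mem' := fun {x} hx a => by rw [smul_inv', hx a] }
  have hCcl : Subgroup.closure (MulAction.fixedPoints A G) = C := Subgroup.closure_eq C
  -- normality
  have hDn : D.Normal := by
    refine ⟨fun d hd h => ?_⟩
    induction hd using Subgroup.closure_induction with
    | mem y hy =>
      obtain ⟨a, g, rfl⟩ := hy
      have h1 := hgen a (g * h⁻¹)
      have h2 := hgen a h⁻¹
      rw [inv_inv] at h2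
      have e : h * (g⁻¹ * a • g) * h⁻¹ = (g * h⁻¹)⁻¹ * a • (g * h⁻¹) * (h⁻¹⁻¹ * a • h⁻¹)⁻¹ := by
        rw [smul_mul']; group
      rw [e, inv_inv]
      exact D.mul_mem h1 (D.inv_mem h2)
    | one => simp
    | mul x y _ _ hx hy =>
      have e : h * (x * y) * h⁻¹ = h * x * h⁻¹ * (h * y * h⁻¹) := by group
      rw [e]; exact D.mul_mem hx hy
    | inv x _ hx =>
      have e : h * x⁻¹ * h⁻¹ = (h * x * h⁻¹)⁻¹ := by group
      rw [e]; exact D.inv_mem hx
  haveI := hDn
  -- invariance
  have hDinv : ∀ (b : A) (d : G), d ∈ D → b • d ∈ D := by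
    intro b d hd
    induction hd using Subgroup.closure_induction with
    | mem y hy =>
      obtain ⟨a, g, rfl⟩ := hy
      have h1 := hgen (b * a * b⁻¹) (b • g)
      rw [smul_smul, inv_mul_cancel_right, mul_smul] at h1
      rw [smul_mul', smul_inv']
      exact h1
    | one => rw [smul_one]; exact D.one_mem
    | mul x y _ _ hx hy => rw [smul_mul']; exact D.mul_mem hx hy
    | inv x _ hx => rw [smul_inv']; exact D.inv_mem hx
  -- `D` centralizes the derived subgroup
  haveI : IsCyclic (commutator G) := IsZGroup.isCyclic_commutator G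
  have hDK : D ≤ Subgroup.centralizer ((commutator G : Subgroup G) : Set G) := by
    rw [hD, Subgroup.closure_le]
    rintro _ ⟨a, g, rfl⟩
    rw [SetLike.mem_coe, Subgroup.mem_centralizer_iff]
    intro x hx
    have hinv : ∀ (b : A), ∀ y ∈ commutator G, b • y ∈ commutator G := by
      intro b y hy
      have h1 : (commutator G).map (MulDistribMulAction.toMonoidHom G b) ≤ commutator G := by
        rw [_root_.commutator_def, Subgroup.map_commutator]
        exact Subgroup.commutator_mono le_top le_top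
      exact h1 ⟨y, hy, rfl⟩
    let σ : commutator G →* commutator G := MonoidHom.mk' (fun y => ⟨a • (y : G), hinv a y y.2⟩)
      (fun y z => Subtype.ext (smul_mul' a (y : G) z))
    let τ : commutator G →* commutator G := MonoidHom.mk'
      (fun y => ⟨g * y * g⁻¹, (inferInstance : (commutator G).Normal).conj_mem y y.2 g⟩)
      (fun y z => Subtype.ext (by simp [mul_assoc]))
    obtain ⟨m, hm⟩ := σ.map_cyclic
    obtain ⟨n, hn⟩ := τ.map_cyclic
    obtain ⟨x', hx', rfl⟩ : ∃ x' ∈ commutator G, a • x' = x :=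
      ⟨a⁻¹ • x, hinv _ x hx, smul_inv_smul a x⟩
    have hcomm' : σ (τ ⟨x', hx'⟩) = τ (σ ⟨x', hx'⟩) := by
      simp only [hn, hm]
      rw [← zpow_mul, ← zpow_mul, mul_comm]
    have e' : a • (g * x' * g⁻¹) = g * (a • x') * g⁻¹ := congrArg Subtype.val hcomm'
    rw [smul_mul', smul_mul', smul_inv'] at e'
    calc a • x' * (g⁻¹ * a • g) = g⁻¹ * (g * (a • x') * g⁻¹) * a • g := by group
      _ = g⁻¹ * (a • g * a • x' * (a • g)⁻¹) * a • g := by rw [e']
      _ = g⁻¹ * a • g * a • x' := by group
  -- `D` is commutative and cyclic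
  have hDab : IsMulCommutative D := by
    haveI hcq : IsCyclic (Abelianization G) := inferInstance
    let f : D →* Abelianization G := Abelianization.of.comp D.subtype
    haveI : IsCyclic f.range := inferInstance
    have hker : f.ker ≤ Subgroup.center D := fun z hz => Subgroup.mem_center_iff.2 fun w =>
      Subtype.ext (Subgroup.mem_centralizer_iff.1 (hDK w.2) z
        ((QuotientGroup.eq_one_iff (z : G)).1 hz)).symm
    exact ⟨⟨fun x y => commutative_of_cyclic_center_quotient f.rangeRestrict
      (by rw [MonoidHom.ker_rangeRestrict]; exact hker) x y⟩⟩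
  haveI : Group.IsNilpotent D :=
    letI : CommGroup D := { (inferInstance : Group D) with mul_comm := fun x y => hDab.is_comm.comm x y }
    inferInstance
  have hDcyc : IsCyclic D := inferInstance
  letI : CommGroup D := { (inferInstance : Group D) with mul_comm := fun x y => hDab.is_comm.comm x y }
  -- the norm map
  let act : A → (D →* D) := fun b => MonoidHom.mk' (fun d => ⟨b • (d : G), hDinv b d d.2⟩)
    (fun x y => Subtype.ext (smul_mul' b (x : G) y))
  have hnorm : ∀ (d : G) (hd : d ∈ D), ∏ b : A, act b ⟨d, hd⟩ = 1 := by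
    intro d hd
    induction hd using Subgroup.closure_induction with
    | mem y hy =>
      obtain ⟨a, g, rfl⟩ := hy
      have e : ∀ b : A, act b ⟨g⁻¹ * a • g, Subgroup.subset_closure ⟨a, g, rfl⟩⟩ =
          (⟨g⁻¹ * b • g, hgen b g⟩ : D)⁻¹ * ⟨g⁻¹ * (b * a) • g, hgen (b * a) g⟩ := fun b =>
        Subtype.ext (by
          show b • (g⁻¹ * a • g) = (g⁻¹ * b • g)⁻¹ * (g⁻¹ * (b * a) • g)
          rw [smul_mul', smul_inv', mul_smul]; group)
      rw [Finset.prod_congr rfl (fun b _ => e b), Finset.prod_mul_distrib, Finset.prod_inv_distrib,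
        inv_mul_eq_one]
      exact (Fintype.prod_equiv (Equiv.mulRight a) _ _ fun b => rfl).symm
    | one => exact Finset.prod_eq_one fun b _ => map_one (act b)
    | mul x y hx hy ihx ihy =>
      rw [show (⟨x * y, Subgroup.mul_mem _ hx hy⟩ : D) = ⟨x, hx⟩ * ⟨y, hy⟩ from rfl]
      simp only [map_mul, Finset.prod_mul_distrib, ihx, ihy, mul_one]
    | inv x hx ihx =>
      rw [show (⟨x⁻¹, Subgroup.inv_mem _ hx⟩ : D) = (⟨x, hx⟩ : D)⁻¹ from rfl]
      simp only [map_inv, Finset.prod_inv_distrib, ihx, inv_one]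
  have hcopD : (Nat.card A).Coprime (Nat.card D) :=
    hcop.coprime_dvd_right D.card_subgroup_dvd_card
  have hDC : D ⊓ C = ⊥ := by
    rw [eq_bot_iff]
    rintro d ⟨hd, hdC⟩
    have h1 : (⟨d, hd⟩ : D) ^ Nat.card A = 1 := by
      conv_rhs => rw [← hnorm d hd]
      rw [Finset.prod_congr rfl (fun b _ => (Subtype.ext (hdC b) : act b ⟨d, hd⟩ = ⟨d, hd⟩)),
        Finset.prod_const, Finset.card_univ, Nat.card_eq_fintype_card]
    have h2 : orderOf (⟨d, hd⟩ : D) = 1 := Nat.eq_one_of_dvd_coprimes hcopD
      (orderOf_dvd_of_pow_eq_one h1) (orderOf_dvd_natCard _)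
    rw [orderOf_eq_one_iff] at h2
    exact Subgroup.mem_bot.2 (congrArg Subtype.val h2)
  -- every coset meets the fixed points
  have hsup : D ⊔ C = ⊤ := by
    rw [eq_top_iff]
    intro g _
    let c : A → D := fun b => ⟨g⁻¹ * b • g, hgen b g⟩
    have hcb : ∀ a b : A, c (a * b) = c a * act a (c b) := fun a b => Subtype.ext (by
      show g⁻¹ * (a * b) • g = g⁻¹ * a • g * a • (g⁻¹ * b • g)
      rw [smul_mul', smul_inv', mul_smul]; group)
    set d' := ∏ b : A, c b with hd'
    have hact : ∀ a : A, c a ^ Nat.card A * act a d' = d' := by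
      intro a
      rw [hd', map_prod, Nat.card_eq_fintype_card, ← Finset.card_univ, ← Finset.prod_const,
        ← Finset.prod_mul_distrib]
      exact Fintype.prod_equiv (Equiv.mulLeft a) _ _ fun b => (hcb a b).symm
    obtain ⟨t, ht⟩ : ∃ t : ℕ, ∀ x : D, (x ^ Nat.card A) ^ t = x := by
      rcases Nat.lt_or_ge 1 (Nat.card D) with h1 | h1
      swap
      · haveI := (Nat.card_eq_one_iff_unique.1 (le_antisymm h1 Nat.card_pos)).1
        exact ⟨0, fun x => Subsingleton.elim _ _⟩
      · obtain ⟨t, -, ht⟩ := Nat.exists_mul_mod_eq_one_of_coprime hcopD h1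
        refine ⟨t, fun x => ?_⟩
        rw [← pow_mul, ← pow_mod_natCard, ht, pow_one]
    set d := d' ^ t with hdd
    have hfix : ∀ a : A, a • (g * (d : G)) = g * (d : G) := by
      intro a
      have h1 : c a * act a d = d := by
        rw [hdd, map_pow]
        conv_lhs => rw [← ht (c a)]
        rw [← mul_pow, hact]
      have h2 : g⁻¹ * a • g * a • (d : G) = (d : G) := congrArg Subtype.val h1
      rw [smul_mul']
      calc a • g * a • (d : G) = g * (g⁻¹ * a • g * a • (d : G)) := by group
        _ = g * (d : G) := by rw [h2]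
    have e : g = g * (d : G) * (d : G)⁻¹ := by group
    rw [e]
    exact Subgroup.mul_mem _ (Subgroup.mem_sup_right (show g * (d : G) ∈ C from hfix))
      (Subgroup.mem_sup_left (D.inv_mem d.2))
  have hcompl : Nat.card D * Nat.card C = Nat.card G := by
    refine Subgroup.IsComplement'.card_mul_card (Subgroup.isComplement'_of_disjoint_and_mul_eq_univ
      (disjoint_iff.2 hDC) ?_)
    rw [← Subgroup.normal_mul, hsup, Subgroup.coe_top]
  have hhall : (Nat.card C).Coprime (Nat.card D) := by
    refine Nat.coprime_of_dvd fun q hq hqC hqD => ?_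
    haveI := Fact.mk hq
    obtain ⟨⟨x, hx⟩, hxo⟩ := exists_prime_orderOf_dvd_card' q hqC
    rw [Subgroup.orderOf_mk] at hxo
    obtain ⟨⟨y, hy⟩, hyo⟩ := exists_prime_orderOf_dvd_card' q hqD
    rw [Subgroup.orderOf_mk] at hyo
    have hpx : IsPGroup q (Subgroup.zpowers x) :=
      IsPGroup.of_card (n := 1) (by rw [Nat.card_zpowers, hxo, pow_one])
    have hpy : IsPGroup q (Subgroup.zpowers y) :=
      IsPGroup.of_card (n := 1) (by rw [Nat.card_zpowers, hyo, pow_one])
    obtain ⟨P, hP⟩ := hpx.exists_le_sylow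
    obtain ⟨Q, hQ⟩ := hpy.exists_le_sylow
    obtain ⟨g, hg⟩ := MulAction.exists_smul_eq G Q P
    have hy' : g * y * g⁻¹ ∈ (P : Subgroup G) := by
      rw [← hg]; exact ⟨y, hQ (Subgroup.mem_zpowers y), rfl⟩
    have hy'D : g * y * g⁻¹ ∈ D := hDn.conj_mem y hy g
    have hy'o : orderOf (g * y * g⁻¹) = q :=
      (orderOf_injective (MulAut.conj g).toMonoidHom (MulAut.conj g).injective y).trans hyo
    haveI := hcyc q P
    have key : ∀ Z : Subgroup (P : Subgroup G),
        (Z : Set (P : Subgroup G)) = {w | w ^ Nat.card Z = 1} := fun Z => by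
      haveI := Fintype.ofFinite (P : Subgroup G)
      refine Set.eq_of_subset_of_ncard_le (fun z hz => ?_) ?_ (Set.toFinite _)
      · exact congrArg Subtype.val (pow_card_eq_one' (x := (⟨z, hz⟩ : Z)))
      · rw [Set.ncard_eq_toFinset_card', Set.ncard_eq_toFinset_card', Set.toFinset_setOf]
        refine (IsCyclic.card_pow_eq_one_le (α := (P : Subgroup G)) Nat.card_pos).trans (le_of_eq ?_)
        rw [Nat.card_eq_fintype_card, Set.toFinset_card]
        exact Fintype.card_congr (Equiv.refl _)
    have heq : Subgroup.zpowers (⟨x, hP (Subgroup.mem_zpowers x)⟩ : (P : Subgroup G)) =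
        Subgroup.zpowers (⟨g * y * g⁻¹, hy'⟩ : (P : Subgroup G)) :=
      SetLike.coe_injective (by
        rw [key, key (Subgroup.zpowers (⟨g * y * g⁻¹, hy'⟩ : (P : Subgroup G))), Nat.card_zpowers,
          Nat.card_zpowers, Subgroup.orderOf_mk, Subgroup.orderOf_mk, hxo, hy'o])
    have hx' : (⟨x, hP (Subgroup.mem_zpowers x)⟩ : (P : Subgroup G)) ∈
        Subgroup.zpowers (⟨g * y * g⁻¹, hy'⟩ : (P : Subgroup G)) := heq ▸ Subgroup.mem_zpowers _
    obtain ⟨i, hi⟩ := hx'
    have hi' : (g * y * g⁻¹) ^ i = x := congrArg Subtype.val hi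
    have hxD : x ∈ D ⊓ C := ⟨hi' ▸ D.zpow_mem hy'D i, hx⟩
    rw [hDC, Subgroup.mem_bot] at hxD
    rw [hxD, orderOf_one] at hxo
    exact hq.one_lt.ne hxo
  refine ⟨?_, hDcyc, hDn, ?_, ?_⟩
  · show (Nat.card C).Coprime (Nat.card G / Nat.card C)
    rw [← hcompl, Nat.mul_div_cancel _ Nat.card_pos]
    exact hhall
  · show ((D ⊓ C : Subgroup G) : Set G) = {1}
    rw [hDC, Subgroup.coe_bot]
  · rw [hCcl]; exact hsup

end Cfsg.Agent.S4117
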