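import Cfsg.Statements.S4118
import Cfsg.Agent.Lib.PGroup.TIHallStructure
-- import your own Cfsg.Agent.* helpers here

set_option autoImplicit false
open Cfsg

namespace Cfsg.Agent.S4118

/-- Let G be a finite group and H a non-normal subgroup meeting each of its conjugates by elements outside N_G(H) trivially, with the order of H coprime to its index in N_G(H); let π be the set of primes dividing the order of H and suppose G is π-separable (it has a chain of normal subgroups from 1 to G each of whose factors has order divisible only by primes in π or coprime to the order of H). Let O be the largest normal subgroup of G of order coprime to the order of H. Then G = O·N_G(H), O·H is normal in G, and G is solvable if and only if O is solvable and H has no subgroup isomorphic to SL₂(5). -/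
theorem result {G : Type*} [Group G] [Finite G] (H : Subgroup G)
    (hTI : Cfsg.IsTISubset (H : Set G)) (hnn : ¬ H.Normal)
    (hHall : (Nat.card H).Coprime (H.subgroupOf (Subgroup.normalizer (H : Set G))).index)
    (hsep : ∃ (n : ℕ) (M : Fin (n + 1) → Subgroup G), M 0 = ⊥ ∧ M (Fin.last n) = ⊤ ∧ Monotone M ∧ (∀ i, (M i).Normal) ∧
      ∀ i : Fin n, (∀ q : ℕ, q.Prime → q ∣ (M i.castSucc).relIndex (M i.succ) → q ∣ Nat.card H) ∨
        ((M i.castSucc).relIndex (M i.succ)).Coprime (Nat.card H))
    (O : Subgroup G) (hO : O = sSup {K : Subgroup G | K.Normal ∧ (Nat.card K).Coprime (Nat.card H)}) :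
    O ⊔ Subgroup.normalizer (H : Set G) = ⊤ ∧ (O ⊔ H).Normal ∧
    (Group.IsSolvable G ↔ Group.IsSolvable O ∧
      ∀ K : Subgroup G, K ≤ H → ¬ Nonempty (K ≃* Matrix.SpecialLinearGroup (Fin 2) (ZMod 5))) := by
  have hH := CfsgLib.PGroup.TIHall.coprime_index H hTI hHall
  have hOeq : O = CfsgLib.PGroup.TIHall.core' H := by
    rw [hO]
    refine le_antisymm (sSup_le fun K hK => ?_) (le_sSup ⟨Subgroup.sSup_normal _ (fun _ h => h.1),
      (CfsgLib.PGroup.TIHall.coprime_core' H).symm⟩)
    haveI := hK.1
    exact CfsgLib.Coprime.le_piCore (CfsgLib.PGroup.TIHall.isPiNum_of_coprime H hK.2.symm)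
  subst hOeq
  refine ⟨CfsgLib.PGroup.TIHall.core'_sup_normalizer' H hTI hnn hH hsep,
    CfsgLib.PGroup.TIHall.core'_sup_normal H hTI hnn hH hsep, fun hG => ⟨?_, fun K _ hK => ?_⟩,
    fun h => CfsgLib.PGroup.TIHall.isSolvable_of_no_sl25 H hTI hnn hH hsep h.1 h.2⟩
  · exact Group.isSolvable_of_isSolvable_injective (Subgroup.subtype_injective _)
  · obtain ⟨e⟩ := hK
    haveI := hG
    haveI : Group.IsSolvable K :=
      Group.isSolvable_of_isSolvable_injective (Subgroup.subtype_injective K)
    exact CfsgLib.PGroup.TIHall.not_isSolvable_sl25 (Group.isSolvable_of_surjective (f := e.toMonoidHom) e.surjective)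

end Cfsg.Agent.S4118
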