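import Cfsg.Statements.S4137
import Cfsg.Agent.Lib.CIT.ThreeGen.Main

set_option autoImplicit false
open Cfsg

namespace Cfsg.Agent.S4137

/-- Let G be a finite group with trivial centre and at most three distinct sizes of conjugacy classes other than 1. Then G is solvable or G is isomorphic to PSL₂(2^a) for some a ≥ 1. -/
theorem result {G : Type*} [Group G] [Finite G]
    (hZ : Subgroup.center G = ⊥) (h : Nat.card {n : ℕ | 1 < n ∧ ∃ x : G, (Subgroup.centralizer ({x} : Set G)).index = n} ≤ 3) :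
    Group.IsSolvable G ∨ ∃ a : ℕ, 0 < a ∧ Nonempty (G ≃* Matrix.ProjectiveSpecialLinearGroup (Fin 2) (GaloisField 2 a)) := by
  classical
  by_cases hs : Group.IsSolvable G
  · exact Or.inl hs
  refine Or.inr (CfsgLib.CIT.ThreeGen.psl_of_three_values hZ hs ?_)
  set V := {n : ℕ | 1 < n ∧ ∃ x : G, (Subgroup.centralizer ({x} : Set G)).index = n} with hV
  have hfin : V.Finite := (Set.finite_Iic (Nat.card G)).subset fun n hn => by
    obtain ⟨x, rfl⟩ := hn.2
    exact Nat.le_of_dvd Nat.card_pos (Subgroup.index_dvd_card _)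
  have hmem : ∀ x : G, (Subgroup.centralizer ({x} : Set G)).index = 1 ∨
      (Subgroup.centralizer ({x} : Set G)).index ∈ V := fun x => by
    have h0 : (Subgroup.centralizer ({x} : Set G)).index ≠ 0 := Subgroup.index_ne_zero_of_finite
    rcases eq_or_ne (Subgroup.centralizer ({x} : Set G)).index 1 with e | e
    · exact Or.inl e
    · exact Or.inr ⟨by omega, x, rfl⟩
  have hcard : V.ncard = 3 := by
    refine le_antisymm (by rw [← Nat.card_coe_set_eq]; exact h) ?_
    by_contra hlt
    have hle : hfin.toFinset.card ≤ 2 := by rw [← Set.ncard_eq_toFinset_card V hfin]; omega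
    obtain ⟨u, v, huv⟩ : ∃ u v : ℕ, ∀ n ∈ V, n = u ∨ n = v := by
      rcases Nat.eq_zero_or_pos hfin.toFinset.card with h0 | h0
      · exact ⟨0, 0, fun n hn => absurd (Finset.card_eq_zero.1 h0 ▸ hfin.mem_toFinset.2 hn) (Finset.notMem_empty n)⟩
      rcases Nat.lt_or_ge hfin.toFinset.card 2 with h1 | h1
      · obtain ⟨u, hu⟩ := Finset.card_eq_one.1 (by omega : hfin.toFinset.card = 1)
        exact ⟨u, u, fun n hn => Or.inl (Finset.mem_singleton.1 (hu ▸ hfin.mem_toFinset.2 hn))⟩
      · obtain ⟨u, v, -, hu⟩ := Finset.card_eq_two.1 (by omega : hfin.toFinset.card = 2)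
        refine ⟨u, v, fun n hn => ?_⟩
        have := hu ▸ hfin.mem_toFinset.2 hn
        simpa using this
    exact hs (CfsgLib.CIT.ThreeGen.solvable_of_two_values fun x => (hmem x).imp id (huv _))
  rw [← hcard]
  have hset : {v : ℕ | ∃ x : G, x ≠ 1 ∧ CfsgLib.CIT.ThreeSizes.cc x = v} = (fun n => Nat.card G / n) '' V := by
    have hdiv : ∀ x : G, CfsgLib.CIT.ThreeSizes.cc x =
        Nat.card G / (Subgroup.centralizer ({x} : Set G)).index := fun x => by
      refine (Nat.div_eq_of_eq_mul_left (Nat.pos_of_ne_zero Subgroup.index_ne_zero_of_finite) ?_).symm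
      exact (Subgroup.card_mul_index _).symm
    ext v
    constructor
    · rintro ⟨x, hx, rfl⟩
      refine ⟨_, (hmem x).resolve_left fun e => ?_, (hdiv x).symm⟩
      exact CfsgLib.CIT.ThreeGen.C_ne_top hZ hx (Subgroup.index_eq_one.1 e)
    · rintro ⟨n, ⟨hn, x, rfl⟩, rfl⟩
      refine ⟨x, fun e => ?_, hdiv x⟩
      rw [e, Subgroup.index_eq_one.2 (eq_top_iff.2 fun g _ =>
        Subgroup.mem_centralizer_singleton_iff.2 (by rw [mul_one, one_mul]))] at hn
      omega
  rw [hset]
  refine Set.InjOn.ncard_image ?_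
  rintro _ ⟨-, x, rfl⟩ _ ⟨-, y, rfl⟩ e
  have h1 := Subgroup.index_dvd_card (Subgroup.centralizer ({x} : Set G))
  have h2 := Subgroup.index_dvd_card (Subgroup.centralizer ({y} : Set G))
  have e' : Nat.card G / (Subgroup.centralizer ({x} : Set G)).index =
      Nat.card G / (Subgroup.centralizer ({y} : Set G)).index := e
  rw [← Nat.div_div_self h1 Nat.card_pos.ne', ← Nat.div_div_self h2 Nat.card_pos.ne', e']

end Cfsg.Agent.S4137
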