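import Cfsg.Statements.S4139
-- import your own Cfsg.Agent.* helpers here
import Cfsg.Agent.Lib.PGroup.ClassSize

set_option autoImplicit false
open Cfsg

namespace Cfsg.Agent.S4139

open Subgroup

variable {G : Type*} [Group G] [Finite G]

theorem center_iff_index (x : G) : x ∈ center G ↔ (centralizer ({x} : Set G)).index = 1 := by
  rw [index_eq_one, eq_top_iff, mem_center_iff]
  exact ⟨fun hx y _ => mem_centralizer_singleton_iff.2 (hx y),
    fun hx y => mem_centralizer_singleton_iff.1 (hx (mem_top y))⟩

theorem cls_equiv {H : Type*} [Group H] [Finite H]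
    (h : ∀ k : ℕ, Nat.card {C : ConjClasses G // Nat.card C.carrier = k} = Nat.card {C : ConjClasses H // Nat.card C.carrier = k}) :
    ∃ f : G ≃ H, ∀ x : G, (centralizer ({f x} : Set H)).index = (centralizer ({x} : Set G)).index := by
  let e : ConjClasses G ≃ ConjClasses H :=
    Equiv.ofFiberEquiv (f := fun C : ConjClasses G => Nat.card C.carrier) (g := fun C : ConjClasses H => Nat.card C.carrier)
      (fun k => Classical.choice (Finite.card_eq.1 (h k)))
  have he : ∀ C, Nat.card (e C).carrier = Nat.card C.carrier := fun C =>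
    Equiv.ofFiberEquiv_map (f := fun C : ConjClasses G => Nat.card C.carrier) (g := fun C : ConjClasses H => Nat.card C.carrier) _ C
  let eG := Equiv.sigmaFiberEquiv (ConjClasses.mk : G → ConjClasses G)
  let eH := Equiv.sigmaFiberEquiv (ConjClasses.mk : H → ConjClasses H)
  have cardG : ∀ C : ConjClasses G, Nat.card {x : G // ConjClasses.mk x = C} = Nat.card C.carrier := fun C =>
    Nat.card_congr (Equiv.subtypeEquivRight fun x => ConjClasses.mem_carrier_iff_mk_eq.symm)
  have cardH : ∀ C : ConjClasses H, Nat.card {x : H // ConjClasses.mk x = C} = Nat.card C.carrier := fun C =>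
    Nat.card_congr (Equiv.subtypeEquivRight fun x => ConjClasses.mem_carrier_iff_mk_eq.symm)
  let ef : ∀ C, {x : G // ConjClasses.mk x = C} ≃ {y : H // ConjClasses.mk y = e C} := fun C =>
    Classical.choice (Finite.card_eq.1 (by rw [cardG, cardH, he]))
  let es : (Σ C : ConjClasses G, {x : G // ConjClasses.mk x = C}) ≃ (Σ D : ConjClasses H, {y : H // ConjClasses.mk y = D}) :=
    Equiv.sigmaCongr (β₂ := fun D : ConjClasses H => {y : H // ConjClasses.mk y = D}) e ef
  let f : G ≃ H := eG.symm.trans (es.trans eH)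
  refine ⟨f, fun x => ?_⟩
  have h1 : ConjClasses.mk (f x) = e (ConjClasses.mk x) := (es (eG.symm x)).2.2
  have h2 := he (ConjClasses.mk x)
  rw [← h1] at h2
  simpa only [Nat.card_coe_set_eq, CfsgLib.PGroup.ncard_carrier_eq_index] using h2

/-- An element centralised by a Sylow subgroup for every prime is central. -/
theorem mem_center_of_sylow {x : G} (h : ∀ (q : ℕ), q.Prime → ∃ Q : Subgroup G, ¬ q ∣ Q.index ∧
    ∀ y ∈ Q, Commute y x) : x ∈ center G := by
  have h1 : (centralizer ({x} : Set G)).index = 1 := by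
    by_contra hne
    obtain ⟨q, hq, hqd⟩ := Nat.exists_prime_and_dvd hne
    obtain ⟨Q, hQ, hQx⟩ := h q hq
    exact hQ (hqd.trans (index_dvd_of_le fun y hy => mem_centralizer_singleton_iff.2 (hQx y hy).eq))
  rw [index_eq_one] at h1
  refine mem_center_iff.2 fun g => ?_
  exact mem_centralizer_singleton_iff.1 (show g ∈ centralizer ({x} : Set G) by rw [h1]; exact mem_top g)

theorem commute_sylow (hG : Group.IsNilpotent G) {p q : ℕ} [Fact p.Prime] [Fact q.Prime] (hpq : p ≠ q)
    (P : Sylow p G) (Q : Sylow q G) {x y : G} (hx : x ∈ P) (hy : y ∈ Q) : Commute x y := by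
  haveI := hG
  have hn : ∀ {r : ℕ} (_ : Fact r.Prime) (R : Sylow r G), (R : Subgroup G).Normal :=
    fun {r} hr R => ((Group.isNilpotent_of_finite_tfae (G := G)).out 0 3 rfl rfl).1 hG r hr R
  exact commute_of_normal_of_disjoint _ _ (hn inferInstance P) (hn inferInstance Q)
    (IsPGroup.disjoint_of_ne p q hpq _ _ P.2 Q.2) x y hx hy

theorem normal_sylow (hG : Group.IsNilpotent G) {p : ℕ} [Fact p.Prime] (P : Sylow p G) :
    (P : Subgroup G).Normal :=
  ((Group.isNilpotent_of_finite_tfae (G := G)).out 0 3 rfl rfl).1 hG p inferInstance P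

theorem factorization_eq_of_sylow_le {C : Subgroup G} {q : ℕ} (h : ¬ q ∣ C.index) :
    (Nat.card C).factorization q = (Nat.card G).factorization q := by
  have h1 := C.card_mul_index
  rw [← h1, Nat.factorization_mul Nat.card_pos.ne' index_ne_zero_of_finite, Finsupp.add_apply,
    Nat.factorization_eq_zero_of_not_dvd h, add_zero]

theorem factorization_le_of_sylow_le {C D : Subgroup G} {q : ℕ} [Fact q.Prime]
    (h : ∀ R : Subgroup G, IsPGroup q R → R ≤ C → R ≤ D) :
    (Nat.card C).factorization q ≤ (Nat.card D).factorization q := by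
  obtain ⟨R⟩ := (inferInstance : Nonempty (Sylow q C))
  have h2 := card_dvd_of_le (h _ (R.2.map C.subtype) (map_subtype_le _))
  rw [card_map_of_injective C.subtype_injective, R.card_eq_multiplicity] at h2
  exact ((Fact.out : q.Prime).pow_dvd_iff_le_factorization Nat.card_pos.ne').1 h2

/-- In a nilpotent group: elements with class size prime to `p`. -/
theorem nilpotent_countT (hG : Group.IsNilpotent G) {p : ℕ} [Fact p.Prime] :
    (Nat.card {x : G // ¬ p ∣ (centralizer ({x} : Set G)).index}).factorization p =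
      (Nat.card (center G)).factorization p := by
  obtain ⟨P⟩ := (inferInstance : Nonempty (Sylow p G))
  haveI := normal_sylow hG P
  have key : ∀ x : G, ¬ p ∣ (centralizer ({x} : Set G)).index ↔ x ∈ centralizer ((P : Subgroup G) : Set G) := by
    intro x
    constructor
    · intro hx
      obtain ⟨R⟩ := (inferInstance : Nonempty (Sylow p (centralizer ({x} : Set G))))
      have h1 : (R : Subgroup (centralizer ({x} : Set G))).map (centralizer ({x} : Set G)).subtype ≤ P :=
        (normal_sylow hG P |> fun _ => by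
          obtain ⟨Q, hQ⟩ := (R.2.map (centralizer ({x} : Set G)).subtype).exists_le_sylow
          exact hQ.trans (le_of_eq (congrArg Sylow.toSubgroup ((P.unique_of_normal inferInstance).uniq Q |>.trans
            ((P.unique_of_normal inferInstance).uniq P).symm))))
      have h2 : (R : Subgroup (centralizer ({x} : Set G))).map (centralizer ({x} : Set G)).subtype = P := by
        refine eq_of_le_of_card_ge h1 (le_of_eq ?_)
        rw [card_map_of_injective (centralizer ({x} : Set G)).subtype_injective, R.card_eq_multiplicity,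
          P.card_eq_multiplicity, factorization_eq_of_sylow_le hx]
      intro y hy
      have hy' : y ∈ centralizer ({x} : Set G) := by
        have : y ∈ (R : Subgroup (centralizer ({x} : Set G))).map (centralizer ({x} : Set G)).subtype :=
          h2 ▸ hy
        exact map_subtype_le _ this
      exact mem_centralizer_singleton_iff.1 hy'
    · intro hx hd
      exact P.not_dvd_index (hd.trans (index_dvd_of_le fun y hy => mem_centralizer_singleton_iff.2 (hx y hy)))
  rw [Nat.card_congr (Equiv.subtypeEquivRight key)]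
  refine le_antisymm (factorization_le_of_sylow_le fun R hR hRC => ?_) ?_
  · intro r hr
    obtain ⟨Q, hQ⟩ := hR.exists_le_sylow
    refine mem_center_of_sylow fun q hq => ?_
    haveI := Fact.mk hq
    rcases eq_or_ne q p with rfl | hne
    · exact ⟨P, P.not_dvd_index, fun y hy => hRC hr y hy⟩
    · obtain ⟨S⟩ := (inferInstance : Nonempty (Sylow q G))
      exact ⟨S, S.not_dvd_index, fun y hy => commute_sylow hG hne S Q hy (hQ hr)⟩
  · exact (Nat.factorization_le_iff_dvd Nat.card_pos.ne' Nat.card_pos.ne').2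
      (card_dvd_of_le (center_le_centralizer _)) p

/-- In a nilpotent group: elements with `p`-power class size. -/
theorem nilpotent_countS (hG : Group.IsNilpotent G) {p : ℕ} [Fact p.Prime] :
    Nat.card {x : G // ∀ q : ℕ, q.Prime → q ≠ p → ¬ q ∣ (centralizer ({x} : Set G)).index} *
        p ^ (Nat.card (center G)).factorization p =
      p ^ (Nat.card G).factorization p * Nat.card (center G) := by
  set U : Set G := {y | ∃ q : ℕ, q.Prime ∧ q ≠ p ∧ ∃ e : ℕ, y ^ q ^ e = 1} with hU
  have hp : p.Prime := Fact.out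
  have hSU : ∀ {q : ℕ} (_ : Fact q.Prime) (_ : q ≠ p) (Q : Sylow q G), ((Q : Subgroup G) : Set G) ⊆ U :=
    fun {q} hq hne Q y hy => ⟨q, hq.out, hne, by
      obtain ⟨e, he⟩ := Q.2 ⟨y, hy⟩
      exact ⟨e, congrArg Subtype.val he⟩⟩
  have memSyl : ∀ {q : ℕ} (_ : Fact q.Prime) (Q : Sylow q G) (y : G), (∃ e : ℕ, y ^ q ^ e = 1) → y ∈ Q := by
    intro q hq Q y ⟨e, he⟩
    haveI := normal_sylow hG Q
    have hz : IsPGroup q (zpowers y) := by
      obtain ⟨j, -, hj⟩ := (Nat.dvd_prime_pow hq.out).1 (orderOf_dvd_of_pow_eq_one he)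
      exact IsPGroup.of_card (n := j) (by rw [Nat.card_zpowers, hj])
    obtain ⟨Q', hQ'⟩ := hz.exists_le_sylow
    have : Q' = Q := ((Q.unique_of_normal inferInstance).uniq Q').trans ((Q.unique_of_normal inferInstance).uniq Q).symm
    exact this ▸ hQ' (mem_zpowers y)
  have key : ∀ x : G, (∀ q : ℕ, q.Prime → q ≠ p → ¬ q ∣ (centralizer ({x} : Set G)).index) ↔ x ∈ centralizer U := by
    intro x
    constructor
    · rintro hx y ⟨q, hq, hne, hy⟩
      haveI := Fact.mk hq
      obtain ⟨R⟩ := (inferInstance : Nonempty (Sylow q (centralizer ({x} : Set G))))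
      obtain ⟨Q, hQ⟩ := (R.2.map (centralizer ({x} : Set G)).subtype).exists_le_sylow
      have h2 : (R : Subgroup (centralizer ({x} : Set G))).map (centralizer ({x} : Set G)).subtype = Q := by
        refine eq_of_le_of_card_ge hQ (le_of_eq ?_)
        rw [card_map_of_injective (centralizer ({x} : Set G)).subtype_injective, R.card_eq_multiplicity,
          Q.card_eq_multiplicity, factorization_eq_of_sylow_le (hx q hq hne)]
      have : y ∈ (R : Subgroup (centralizer ({x} : Set G))).map (centralizer ({x} : Set G)).subtype :=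
        h2 ▸ memSyl inferInstance Q y hy
      exact mem_centralizer_singleton_iff.1 (map_subtype_le _ this)
    · intro hx q hq hne hd
      haveI := Fact.mk hq
      obtain ⟨Q⟩ := (inferInstance : Nonempty (Sylow q G))
      exact Q.not_dvd_index (hd.trans (index_dvd_of_le fun y hy =>
        mem_centralizer_singleton_iff.2 (hx y (hSU inferInstance hne Q hy))))
  rw [Nat.card_congr (Equiv.subtypeEquivRight key)]
  have hp1 : (Nat.card (centralizer U)).factorization p = (Nat.card G).factorization p := by
    obtain ⟨P⟩ := (inferInstance : Nonempty (Sylow p G))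
    refine factorization_eq_of_sylow_le fun hd => P.not_dvd_index (hd.trans (index_dvd_of_le ?_))
    rintro x hx y ⟨q, hq, hne, hy⟩
    haveI := Fact.mk hq
    obtain ⟨Q⟩ := (inferInstance : Nonempty (Sylow q G))
    exact (commute_sylow hG hne Q P (memSyl inferInstance Q y hy) hx).eq
  have hq1 : ∀ q : ℕ, q.Prime → q ≠ p →
      (Nat.card (centralizer U)).factorization q = (Nat.card (center G)).factorization q := by
    intro q hq hne
    haveI := Fact.mk hq
    refine le_antisymm (factorization_le_of_sylow_le fun R hR hRC r hr => ?_)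
      ((Nat.factorization_le_iff_dvd Nat.card_pos.ne' Nat.card_pos.ne').2
        (card_dvd_of_le (center_le_centralizer _)) q)
    obtain ⟨Q, hQ⟩ := hR.exists_le_sylow
    refine mem_center_of_sylow fun s hs => ?_
    haveI := Fact.mk hs
    obtain ⟨T⟩ := (inferInstance : Nonempty (Sylow s G))
    refine ⟨T, T.not_dvd_index, fun y hy => ?_⟩
    rcases eq_or_ne s q with rfl | hsq
    · exact hRC hr y (hSU inferInstance hne T hy)
    · exact commute_sylow hG hsq T Q hy (hQ hr)
  have hpp : ∀ n : ℕ, p ^ n ≠ 0 := fun n => pow_ne_zero _ hp.ne_zero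
  apply Nat.eq_of_factorization_eq (mul_ne_zero Nat.card_pos.ne' (hpp _)) (mul_ne_zero (hpp _) Nat.card_pos.ne')
  intro q
  rw [Nat.factorization_mul Nat.card_pos.ne' (hpp _), Nat.factorization_mul (hpp _) Nat.card_pos.ne',
    Finsupp.add_apply, Finsupp.add_apply, hp.factorization_pow, hp.factorization_pow]
  by_cases hqp : q = p
  · subst hqp
    rw [Finsupp.single_eq_same, Finsupp.single_eq_same, hp1]
  · rw [Finsupp.single_eq_of_ne hqp, Finsupp.single_eq_of_ne hqp, zero_add, add_zero]
    by_cases hq : q.Prime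
    · exact hq1 q hq hqp
    · rw [Nat.factorization_eq_zero_of_not_prime _ hq, Nat.factorization_eq_zero_of_not_prime _ hq]

/-- If the count of elements of `p'`-class size is as in a nilpotent group, the centre of a Sylow
`p`-subgroup is central. -/
theorem sylow_center_le {p : ℕ} [Fact p.Prime] (P : Sylow p G)
    (hT : (Nat.card {x : G // ¬ p ∣ (centralizer ({x} : Set G)).index}).factorization p =
      (Nat.card (center G)).factorization p) {x : G} (hx : x ∈ P)
    (hxP : x ∈ centralizer ((P : Subgroup G) : Set G)) : x ∈ center G := by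
  have hp : p.Prime := Fact.out
  set Z₀ : Subgroup G := center G ⊓ P with hZ₀
  haveI hZn : Z₀.Normal := ⟨fun z hz g => by
    rw [mem_center_iff.1 hz.1 g, mul_inv_cancel_right]; exact hz⟩
  have hcard : (Nat.card Z₀).factorization p = (Nat.card (center G)).factorization p := by
    refine le_antisymm ((Nat.factorization_le_iff_dvd Nat.card_pos.ne' Nat.card_pos.ne').2
      (card_dvd_of_le inf_le_left) p) (factorization_le_of_sylow_le fun R hR hRZ => le_inf hRZ ?_)
    obtain ⟨Q, hQ⟩ := hR.exists_le_sylow
    obtain ⟨g, hg⟩ := MulAction.exists_smul_eq G Q P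
    intro r hr
    have h1 : g * r * g⁻¹ ∈ (P : Subgroup G) := by
      rw [← hg, Sylow.coe_subgroup_smul]
      exact ⟨r, hQ hr, rfl⟩
    rwa [mem_center_iff.1 (hRZ hr) g, mul_inv_cancel_right] at h1
  -- saturation
  set T : Set G := {x | ¬ p ∣ (centralizer ({x} : Set G)).index} with hTdef
  have hTz : ∀ x, ∀ z ∈ Z₀, x ∈ T → x * z ∈ T := by
    intro x z hz hxT
    have : centralizer ({x * z} : Set G) = centralizer ({x} : Set G) := by
      ext y
      rw [mem_centralizer_singleton_iff, mem_centralizer_singleton_iff, mem_center_iff.1 hz.1 x,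
        ← mul_assoc, mem_center_iff.1 hz.1 y, mul_assoc, mul_assoc, mul_right_inj]
    show ¬ _
    rw [this]; exact hxT
  set π := QuotientGroup.mk' Z₀
  have hsat : ∀ S : Set G, (∀ x, ∀ z ∈ Z₀, x ∈ S → x * z ∈ S) →
      Nat.card S = Nat.card Z₀ * Nat.card (π '' S) := by
    intro S hS
    have e : S = QuotientGroup.mk ⁻¹' (π '' S) := by
      ext x
      refine ⟨fun h => ⟨x, h, rfl⟩, fun ⟨y, hy, hyx⟩ => ?_⟩
      have := hS y (y⁻¹ * x) (QuotientGroup.eq.1 hyx) hy
      rwa [mul_inv_cancel_left] at this
    conv_lhs => rw [e]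
    rw [← Nat.card_prod]
    exact Nat.card_congr (QuotientGroup.preimageMkEquivSubgroupProdSet Z₀ _)
  -- action of `P` on the image of `T`
  letI act : MulAction (P : Subgroup G) (π '' T) :=
    { smul := fun a t => ⟨π (a : G) * t.1 * (π (a : G))⁻¹, by
        obtain ⟨x, hxT, hxt⟩ := t.2
        refine ⟨(a : G) * x * (a : G)⁻¹, ?_, by rw [map_mul, map_mul, map_inv, hxt]⟩
        show ¬ _
        rw [← CfsgLib.PGroup.ncard_carrier_eq_index]
        have : ConjClasses.mk ((a : G) * x * (a : G)⁻¹) = ConjClasses.mk x :=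
          ConjClasses.mk_eq_mk_iff_isConj.2 (isConj_iff.2 ⟨(a : G), rfl⟩).symm
        rw [this, CfsgLib.PGroup.ncard_carrier_eq_index]
        exact hxT⟩
      one_smul := fun t => Subtype.ext (show π ((1 : (P : Subgroup G)) : G) * t.1 * _ = t.1 by simp)
      mul_smul := fun a b t => Subtype.ext (show π ((a * b : (P : Subgroup G)) : G) * t.1 * _ =
        π (a : G) * (π (b : G) * t.1 * (π (b : G))⁻¹) * (π (a : G))⁻¹ by
          rw [coe_mul, map_mul, mul_inv_rev]; simp only [mul_assoc]) }
  set C : Subgroup G := centralizer ((P : Subgroup G) : Set G) with hC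
  have hfix : Nat.card (MulAction.fixedPoints (P : Subgroup G) (π '' T)) = Nat.card (π '' (C : Set G)) := by
    refine Nat.card_congr ⟨fun t => ⟨t.1.1, ?_⟩, fun c => ⟨⟨c.1, ?_⟩, fun a => Subtype.ext ?_⟩,
      fun t => rfl, fun c => rfl⟩
    · obtain ⟨x, hxT, hxt⟩ := t.1.2
      refine ⟨x, ?_, hxt⟩
      let M : Subgroup G := (centralizer ({π x} : Set (G ⧸ Z₀))).comap π
      have hM : ∀ a ∈ M, a * x * a⁻¹ * x⁻¹ ∈ Z₀ := fun a ha => by
        have := mem_centralizer_singleton_iff.1 (show π a ∈ centralizer ({π x} : Set (G ⧸ Z₀)) from ha)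
        refine (QuotientGroup.eq_one_iff _).1 ?_
        show π (a * x * a⁻¹ * x⁻¹) = 1
        rw [map_mul, map_mul, map_mul, this, map_inv, map_inv, mul_inv_cancel_right, mul_inv_cancel]
      let φ : M →* Z₀ :=
        { toFun := fun a => ⟨(a : G) * x * (a : G)⁻¹ * x⁻¹, hM a a.2⟩
          map_one' := Subtype.ext (by simp)
          map_mul' := fun a b => Subtype.ext (by
            simp only [coe_mul]
            have hb := mem_center_iff.1 (hM b b.2).1 ((a : G))
            calc (a : G) * b * x * ((a : G) * b)⁻¹ * x⁻¹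
                = (a : G) * ((b : G) * x * (b : G)⁻¹ * x⁻¹) * x * (a : G)⁻¹ * x⁻¹ := by group
              _ = ((b : G) * x * (b : G)⁻¹ * x⁻¹) * ((a : G) * x * (a : G)⁻¹ * x⁻¹) := by
                rw [hb]; group
              _ = _ := (mem_center_iff.1 (hM b b.2).1 _).symm) }
      have hPM : (P : Subgroup G) ≤ M := fun a ha => by
        have h1 := congrArg Subtype.val (t.2 ⟨a, ha⟩)
        refine mem_centralizer_singleton_iff.2 ?_
        have h2 : π a * t.1.1 * (π a)⁻¹ = t.1.1 := h1
        rw [← hxt] at h2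
        exact mul_inv_eq_iff_eq_mul.1 h2
      intro a ha
      -- the kernel of `φ` is the centraliser of `x`
      have hcx : M ≤ centralizer ({x} : Set G) := by
        have hle : centralizer ({x} : Set G) ≤ M := fun y hy => mem_centralizer_singleton_iff.2
          (show π y * π x = π x * π y by rw [← map_mul, ← map_mul, mem_centralizer_singleton_iff.1 hy])
        have hk : φ.ker = (centralizer ({x} : Set G)).subgroupOf M := by
          ext y
          rw [MonoidHom.mem_ker, mem_subgroupOf, mem_centralizer_singleton_iff, ← Subtype.val_inj]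
          show (y : G) * x * (y : G)⁻¹ * x⁻¹ = 1 ↔ _
          rw [mul_inv_eq_one, mul_inv_eq_iff_eq_mul]
        have hdvd : (centralizer ({x} : Set G)).relIndex M ∣ Nat.card Z₀ := by
          show ((centralizer ({x} : Set G)).subgroupOf M).index ∣ _
          rw [← hk, index_ker]
          exact card_subgroup_dvd_card φ.range
        obtain ⟨j, hj⟩ := IsPGroup.iff_card.1 (P.2.to_le (inf_le_right : Z₀ ≤ P))
        obtain ⟨i, -, hi⟩ := (Nat.dvd_prime_pow hp).1 (hj ▸ hdvd)
        have h1 : i = 0 := by
          by_contra h0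
          exact hxT ((dvd_pow_self p h0).trans (hi ▸ relIndex_dvd_index_of_le hle))
        rw [h1, pow_zero] at hi
        exact relIndex_eq_one.1 hi
      exact mem_centralizer_singleton_iff.1 (hcx (hPM ha))
    · obtain ⟨x, hxC, hxc⟩ := c.2
      exact ⟨x, fun hd => P.not_dvd_index (hd.trans (index_dvd_of_le fun y hy =>
        mem_centralizer_singleton_iff.2 (hxC y hy))), hxc⟩
    · obtain ⟨x, hxC, hxc⟩ := c.2
      show π (a : G) * c.1 * (π (a : G))⁻¹ = c.1
      rw [← hxc, ← map_mul, hxC a a.2, map_mul, mul_inv_cancel_right]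
  have hTcard := hsat T hTz
  have hCcard := hsat (C : Set G) fun x z hz hxC => C.mul_mem hxC (center_le_centralizer _ hz.1)
  have hmod := P.2.card_modEq_card_fixedPoints (π '' T)
  rw [hfix] at hmod
  have hne : (π '' T).Nonempty := ⟨π 1, 1, fun hd => by
    rw [show centralizer ({(1 : G)} : Set G) = ⊤ by ext y; simp [mem_centralizer_singleton_iff], index_top] at hd
    exact hp.not_dvd_one hd, rfl⟩
  haveI : Nonempty (π '' T) := hne.to_subtype
  have hTp : ¬ p ∣ Nat.card (π '' T) := by
    intro hd
    have h1 := hp.factorization_pos_of_dvd Nat.card_pos.ne' hd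
    have h2 : (Nat.card T).factorization p = (Nat.card Z₀).factorization p + (Nat.card (π '' T)).factorization p := by
      rw [hTcard, Nat.factorization_mul Nat.card_pos.ne' Nat.card_pos.ne', Finsupp.add_apply]
    have h3 : (Nat.card T).factorization p = (Nat.card (center G)).factorization p := hT
    omega
  have hCp : ¬ p ∣ Nat.card (π '' (C : Set G)) := fun hd => hTp ((Nat.ModEq.dvd_iff hmod dvd_rfl).2 hd)
  -- `P ⊓ C` has the order of `Z₀`
  have hle : Z₀ ≤ (P : Subgroup G) ⊓ C := le_inf inf_le_right (inf_le_left.trans (center_le_centralizer _))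
  have h1 : (Nat.card ((P : Subgroup G) ⊓ C : Subgroup G)).factorization p ≤ (Nat.card Z₀).factorization p := by
    have h2 := (Nat.factorization_le_iff_dvd Nat.card_pos.ne' Nat.card_pos.ne').2
      (card_dvd_of_le (inf_le_right : (P : Subgroup G) ⊓ C ≤ C)) p
    refine h2.trans (le_of_eq ?_)
    rw [show Nat.card C = Nat.card (C : Set G) from rfl, hCcard]
    haveI : Nonempty (π '' (C : Set G)) := ⟨⟨π 1, 1, C.one_mem, rfl⟩⟩
    rw [Nat.factorization_mul Nat.card_pos.ne' Nat.card_pos.ne', Finsupp.add_apply,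
      Nat.factorization_eq_zero_of_not_dvd hCp, add_zero]
  have h2 : Z₀ = (P : Subgroup G) ⊓ C := by
    obtain ⟨i, hi⟩ := IsPGroup.iff_card.1 (P.2.to_le (inf_le_left : (P : Subgroup G) ⊓ C ≤ P))
    obtain ⟨j, hj⟩ := IsPGroup.iff_card.1 (P.2.to_le (inf_le_right : Z₀ ≤ P))
    refine eq_of_le_of_card_ge hle ?_
    rw [hi, hj, hp.factorization_pow, hp.factorization_pow, Finsupp.single_eq_same, Finsupp.single_eq_same] at h1
    rw [hi, hj]
    exact Nat.pow_le_pow_right hp.pos h1
  have : x ∈ Z₀ := h2 ▸ mem_inf.2 ⟨hx, hxP⟩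
  exact this.1

/-- Subgroups of coprime index factorise the group. -/
theorem exists_mul_of_coprime_index (A B : Subgroup G) (h : A.index.Coprime B.index) (g : G) :
    ∃ a ∈ A, ∃ b ∈ B, a * b = g := by
  have h1 : B.index ∣ B.relIndex A := by
    have e1 := relIndex_mul_index (inf_le_left : A ⊓ B ≤ A)
    have e2 := relIndex_mul_index (inf_le_right : A ⊓ B ≤ B)
    rw [inf_relIndex_left] at e1
    refine Nat.Coprime.dvd_of_dvd_mul_right h.symm ?_
    rw [e1, ← e2]
    exact dvd_mul_left _ _
  let f : A ⧸ B.subgroupOf A → G ⧸ B := Quotient.map' (fun a => (a : G)) fun a b hab => by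
    rw [QuotientGroup.leftRel_apply] at hab ⊢
    simpa [mem_subgroupOf] using hab
  have hinj : Function.Injective f := fun a b => Quotient.inductionOn₂' a b fun a b hab => by
    refine QuotientGroup.eq.2 ?_
    have := QuotientGroup.eq.1 (show ((a : G) : G ⧸ B) = ((b : G) : G ⧸ B) from hab)
    simpa [mem_subgroupOf] using this
  have hsur := (hinj.bijective_of_nat_card_le (Nat.le_of_dvd Nat.card_pos h1)).2
  obtain ⟨q, hq⟩ := hsur (g : G ⧸ B)
  induction q using Quotient.inductionOn' with
  | h a =>
    exact ⟨a, a.2, (a : G)⁻¹ * g, QuotientGroup.eq.1 hq, mul_inv_cancel_left _ _⟩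

/-- If Sylow centres are central, elements of `p`-power class size lie in `O_p(G) Z(G)`. -/
theorem mem_core_sup_center {p : ℕ} [Fact p.Prime] (P : Sylow p G)
    (hZ : ∀ q : ℕ, q.Prime → ∀ Q : Sylow q G, ∀ y : G, y ∈ Q → y ∈ centralizer ((Q : Subgroup G) : Set G) →
      y ∈ center G) {x : G}
    (hx : ∀ q : ℕ, q.Prime → q ≠ p → ¬ q ∣ (centralizer ({x} : Set G)).index) :
    x ∈ (P : Subgroup G).normalCore ⊔ center G := by
  have hp : p.Prime := Fact.out
  have hn0 : orderOf x ≠ 0 := (orderOf_pos x).ne'
  obtain ⟨e, m, hm, hnm⟩ := Nat.exists_eq_pow_mul_and_not_dvd hn0 p hp.ne_one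
  have hcop : Nat.Coprime (p ^ e) m := (hp.coprime_iff_not_dvd.2 hm).pow_left e
  -- the `p'`-part is central
  have hz : x ^ p ^ e ∈ center G := by
    have hm0 : m ≠ 0 := fun h => hm (h ▸ dvd_zero p)
    have hoz : orderOf (x ^ p ^ e) = m := by
      rw [orderOf_pow_of_dvd (pow_ne_zero _ hp.ne_zero) (hnm ▸ dvd_mul_right _ _), hnm,
        Nat.mul_div_cancel_left _ (pow_pos hp.pos e)]
    set W := center G ⊓ zpowers (x ^ p ^ e) with hW
    have hdvd : m ∣ Nat.card W := by
      refine (Nat.factorization_prime_le_iff_dvd hm0 Nat.card_pos.ne').1 fun q hq => ?_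
      set b := m.factorization q
      rcases Nat.eq_zero_or_pos b with hb | hb
      · simp [b, hb] at *
      haveI := Fact.mk hq
      have hqp : q ≠ p := fun h => hm (h ▸ Nat.dvd_of_factorization_pos hb.ne')
      set u := (x ^ p ^ e) ^ (m / q ^ b) with hu
      have hqb : q ^ b ∣ m := Nat.ordProj_dvd m q
      have hou : orderOf u = q ^ b := by
        rw [hu, orderOf_pow_of_dvd (Nat.div_pos (Nat.le_of_dvd (Nat.pos_of_ne_zero hm0) hqb)
          (pow_pos hq.pos b)).ne' (by rw [hoz]; exact Nat.div_dvd_of_dvd hqb), hoz, Nat.div_div_self hqb hm0]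
      have hle : centralizer ({x} : Set G) ≤ centralizer ({u} : Set G) := fun y hy => by
        refine mem_centralizer_singleton_iff.2 (Commute.eq ?_)
        exact (Commute.pow_right (Commute.pow_right (mem_centralizer_singleton_iff.1 hy) _) _)
      obtain ⟨R⟩ := (inferInstance : Nonempty (Sylow q (centralizer ({u} : Set G))))
      obtain ⟨Q, hQ⟩ := (R.2.map (centralizer ({u} : Set G)).subtype).exists_le_sylow
      have h2 : (R : Subgroup (centralizer ({u} : Set G))).map (centralizer ({u} : Set G)).subtype = Q := by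
        refine eq_of_le_of_card_ge hQ (le_of_eq ?_)
        rw [card_map_of_injective (centralizer ({u} : Set G)).subtype_injective, R.card_eq_multiplicity,
          Q.card_eq_multiplicity,
          factorization_eq_of_sylow_le fun hd => hx q hq hqp (hd.trans (index_dvd_of_le hle))]
      have hQu : u ∈ centralizer ((Q : Subgroup G) : Set G) := fun y hy => by
        have : y ∈ (R : Subgroup (centralizer ({u} : Set G))).map (centralizer ({u} : Set G)).subtype := h2 ▸ hy
        exact mem_centralizer_singleton_iff.1 (map_subtype_le _ this)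
      have huQ : u ∈ Q := by
        have hcomb : IsPGroup q ((Q : Subgroup G) ⊔ zpowers u : Subgroup G) :=
          Q.2.to_sup_of_normal_left' (IsPGroup.of_card (n := b) (by rw [Nat.card_zpowers, hou]))
            (zpowers_le.2 (centralizer_le_normalizer _ hQu))
        have := Q.3 hcomb le_sup_left
        exact this.le (mem_sup_right (mem_zpowers u))
      have huW : u ∈ W := ⟨hZ q hq Q u huQ hQu, pow_mem (mem_zpowers _) _⟩
      refine (hq.pow_dvd_iff_le_factorization Nat.card_pos.ne').1 ?_
      rw [← hou]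
      exact Subgroup.orderOf_dvd_natCard W huW
    have hWeq : W = zpowers (x ^ p ^ e) := eq_of_le_of_card_ge inf_le_right (by
      rw [Nat.card_zpowers, hoz]; exact Nat.le_of_dvd Nat.card_pos hdvd)
    exact (hWeq.ge (mem_zpowers _)).1
  -- the `p`-part lies in the core
  have hu : x ^ m ∈ (P : Subgroup G).normalCore := by
    have hord : (x ^ m) ^ p ^ e = 1 := by rw [← pow_mul, mul_comm, ← hnm, pow_orderOf_eq_one]
    have hle : centralizer ({x} : Set G) ≤ centralizer ({x ^ m} : Set G) := fun y hy =>
      mem_centralizer_singleton_iff.2 ((Commute.pow_right (mem_centralizer_singleton_iff.1 hy) m).eq)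
    have hpg : IsPGroup p (zpowers (x ^ m)) := by
      obtain ⟨j, -, hj⟩ := (Nat.dvd_prime_pow hp).1 (orderOf_dvd_of_pow_eq_one hord)
      exact IsPGroup.of_card (n := j) (by rw [Nat.card_zpowers, hj])
    obtain ⟨P₁, hP₁⟩ := hpg.exists_le_sylow
    obtain ⟨g₀, hg₀⟩ := MulAction.exists_smul_eq G P₁ P
    have hcore : x ^ m ∈ (P₁ : Subgroup G).normalCore := by
      intro g
      have hmul : ∀ g : G, ∃ a ∈ (P₁ : Subgroup G), ∃ c ∈ centralizer ({x ^ m} : Set G), a * c = g := by
        intro g
        have hcp : Nat.Coprime (P₁ : Subgroup G).index (centralizer ({x ^ m} : Set G)).index := by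
          refine Nat.coprime_of_dvd fun q hq hq1 hq2 => ?_
          rcases eq_or_ne q p with rfl | hne
          · exact P₁.not_dvd_index hq1
          · exact hx q hq hne (hq2.trans (index_dvd_of_le hle))
        exact exists_mul_of_coprime_index _ _ hcp g
      obtain ⟨a, ha, c, hc, rfl⟩ := hmul g
      have : a * c * x ^ m * (a * c)⁻¹ = a * x ^ m * a⁻¹ := by
        rw [mul_assoc a c, mem_centralizer_singleton_iff.1 hc]; group
      rw [this]
      exact mul_mem (mul_mem ha (hP₁ (mem_zpowers _))) (inv_mem ha)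
    have hP : (P : Subgroup G).normalCore = (P₁ : Subgroup G).normalCore := by
      ext y
      have hm1 : ∀ z, z ∈ (P : Subgroup G) ↔ g₀⁻¹ * z * g₀ ∈ (P₁ : Subgroup G) := fun z => by
        rw [← hg₀, Sylow.coe_subgroup_smul, Subgroup.mem_pointwise_smul_iff_inv_smul_mem]
        simp [MulAut.smul_def]
      refine ⟨fun hy g => ?_, fun hy g => ?_⟩
      · have := (hm1 _).1 (hy (g₀ * g))
        simpa [mul_assoc] using this
      · refine (hm1 _).2 ?_
        have := hy (g₀⁻¹ * g)
        simpa [mul_assoc] using this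
    exact hP ▸ hcore
  have hx' : x = (x ^ m) ^ (Nat.gcdB (p ^ e) m) * (x ^ p ^ e) ^ (Nat.gcdA (p ^ e) m) := by
    have := Nat.gcd_eq_gcd_ab (p ^ e) m
    rw [hcop.gcd_eq_one] at this
    rw [← zpow_natCast x m, ← zpow_natCast x (p ^ e), ← zpow_mul, ← zpow_mul, ← zpow_add, add_comm,
      show ((p ^ e : ℕ) : ℤ) * Nat.gcdA (p ^ e) m + (m : ℤ) * Nat.gcdB (p ^ e) m = 1 by simpa using this.symm,
      zpow_one]
  rw [hx']
  exact mul_mem (mem_sup_left (zpow_mem hu _)) (mem_sup_right (zpow_mem hz _))

/-- Let G and H be finite groups such that for every natural number k, G and H have the same number of conjugacy classes of size k. If H is nilpotent then G is nilpotent. -/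
theorem result {G H : Type*} [Group G] [Finite G] [Group H] [Finite H]
    (hH : Group.IsNilpotent H)
    (h : ∀ k : ℕ, Nat.card {C : ConjClasses G // Nat.card C.carrier = k} = Nat.card {C : ConjClasses H // Nat.card C.carrier = k}) :
    Group.IsNilpotent G := by
  obtain ⟨f, hf⟩ := cls_equiv h
  have hGH : Nat.card G = Nat.card H := Nat.card_congr f
  have hcnt : ∀ (P : ℕ → Prop), Nat.card {x : G // P (Subgroup.centralizer ({x} : Set G)).index} =
      Nat.card {y : H // P (Subgroup.centralizer ({y} : Set H)).index} :=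
    fun P => Nat.card_congr (f.subtypeEquiv fun x => by rw [hf x])
  have hcen : Nat.card (Subgroup.center G) = Nat.card (Subgroup.center H) := by
    exact ((Nat.card_congr (Equiv.subtypeEquivRight fun x => center_iff_index x)).trans (hcnt (fun k => k = 1))).trans
      (Nat.card_congr (Equiv.subtypeEquivRight fun x => center_iff_index x)).symm
  refine ((Group.isNilpotent_of_finite_tfae (G := G)).out 0 3 rfl rfl).2 fun p hp P => ?_
  have hZ : ∀ q : ℕ, q.Prime → ∀ Q : Sylow q G, ∀ y : G, y ∈ Q →
      y ∈ Subgroup.centralizer ((Q : Subgroup G) : Set G) → y ∈ Subgroup.center G := by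
    intro q hq Q y hy hyQ
    haveI := Fact.mk hq
    refine sylow_center_le Q ?_ hy hyQ
    rw [hcnt (fun k => ¬ q ∣ k), hcen]
    exact nilpotent_countT hH
  have hsub : Nat.card {x : G // ∀ q : ℕ, q.Prime → q ≠ p → ¬ q ∣ (Subgroup.centralizer ({x} : Set G)).index} ≤
      Nat.card ((P : Subgroup G).normalCore ⊔ Subgroup.center G : Subgroup G) :=
    Nat.card_le_card_of_injective (fun x => ⟨x.1, mem_core_sup_center P hZ x.2⟩)
      fun a b hab => Subtype.ext (congrArg Subtype.val hab :)
  have hS := nilpotent_countS hH (p := p)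
  rw [← hcnt (fun k => ∀ q : ℕ, q.Prime → q ≠ p → ¬ q ∣ k), ← hcen, ← hGH] at hS
  set O := (P : Subgroup G).normalCore
  set Z := Subgroup.center G
  -- `|O ⊔ Z| |O ⊓ Z| = |O| |Z|`
  have hprod : Nat.card (O ⊔ Z : Subgroup G) * Nat.card (O ⊓ Z : Subgroup G) = Nat.card O * Nat.card Z := by
    have h1 := Subgroup.card_mul_index (O.subgroupOf (O ⊔ Z))
    have h2 := Subgroup.card_mul_index (O.subgroupOf Z)
    rw [Nat.card_congr (Subgroup.subgroupOfEquivOfLe (le_sup_left : O ≤ O ⊔ Z)).toEquiv] at h1
    rw [Nat.card_congr (show O.subgroupOf Z ≃ (O ⊓ Z : Subgroup G) from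
      ⟨fun a => ⟨a.1.1, a.2, a.1.2⟩, fun a => ⟨⟨a.1, a.2.2⟩, a.2.1⟩, fun _ => rfl, fun _ => rfl⟩)] at h2
    have h3 : (O.subgroupOf (O ⊔ Z)).index = (O.subgroupOf Z).index := Subgroup.relIndex_sup_left _ _
    rw [← h1, h3, mul_assoc, mul_comm _ (Nat.card (O ⊓ Z : Subgroup G)), h2]
  have hZp : p ^ (Nat.card Z).factorization p ≤ Nat.card (O ⊓ Z : Subgroup G) := by
    refine Nat.le_of_dvd Nat.card_pos ((hp.out.pow_dvd_iff_le_factorization Nat.card_pos.ne').2
      (factorization_le_of_sylow_le fun R hR hRZ => le_inf ?_ hRZ))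
    intro r hr g
    obtain ⟨Q, hQ⟩ := hR.exists_le_sylow
    obtain ⟨g₀, hg₀⟩ := MulAction.exists_smul_eq G Q P
    rw [Subgroup.mem_center_iff.1 (hRZ hr) g, mul_inv_cancel_right]
    have h1 : g₀ * r * g₀⁻¹ ∈ (P : Subgroup G) := by
      rw [← hg₀, Sylow.coe_subgroup_smul]
      exact ⟨r, hQ hr, rfl⟩
    rwa [Subgroup.mem_center_iff.1 (hRZ hr) g₀, mul_inv_cancel_right] at h1
  have hbig : p ^ (Nat.card G).factorization p ≤ Nat.card O := by
    refine Nat.le_of_mul_le_mul_right ?_ (Nat.card_pos (α := Z))
    rw [← hS, ← hprod]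
    exact Nat.mul_le_mul hsub hZp
  have hOP : O = P := Subgroup.eq_of_le_of_card_ge (Subgroup.normalCore_le _) (P.card_eq_multiplicity ▸ hbig)
  exact hOP ▸ Subgroup.normalCore_normal _

end Cfsg.Agent.S4139
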