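import Cfsg.Statements.S4142
import Cfsg.Agent.Lib.Coprime.Core

set_option autoImplicit false
set_option linter.style.haveILetI false
open Cfsg

namespace Cfsg.Agent.S4142

/-- Let G be a finite group and N a normal subgroup. Then the conjugacy class of every element g outside N is a union of cosets of N (gn is conjugate to g for all n ∈ N) if and only if for every g outside N the centralizer of g in G has the same order as the centralizer of gN in G/N. -/
theorem result {G : Type*} [Group G] [Finite G] (N : Subgroup G) [N.Normal] :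
    (∀ g : G, g ∉ N → ∀ n ∈ N, ∃ x : G, x * g * x⁻¹ = g * n) ↔
      ∀ g : G, g ∉ N → Nat.card (Subgroup.centralizer ({g} : Set G)) =
        Nat.card (Subgroup.centralizer ({(QuotientGroup.mk g : G ⧸ N)} : Set (G ⧸ N))) := by
  refine forall₂_congr fun g _ => ?_
  set f := QuotientGroup.mk' N
  let M : Subgroup G := (Subgroup.centralizer ({f g} : Set (G ⧸ N))).comap f
  have hCM : Subgroup.centralizer ({g} : Set G) ≤ M := fun z hz =>
    Subgroup.mem_centralizer_singleton_iff.2
      (by rw [← map_mul, Subgroup.mem_centralizer_singleton_iff.1 hz, map_mul])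
  have hM : ∀ z : G, z ∈ M ↔ g⁻¹ * (z * g * z⁻¹) ∈ N := by
    intro z
    rw [Subgroup.mem_comap, Subgroup.mem_centralizer_singleton_iff, ← mul_inv_eq_iff_eq_mul,
      ← map_mul, ← map_inv, ← map_mul, eq_comm, QuotientGroup.mk'_apply, QuotientGroup.mk'_apply,
      QuotientGroup.eq]
  let C' := (Subgroup.centralizer ({g} : Set G)).subgroupOf M
  let φ : ↥M ⧸ C' → N := fun c =>
    Quotient.liftOn' c (fun z => ⟨g⁻¹ * ((z : G) * g * (z : G)⁻¹), (hM z).1 z.2⟩) fun a b hab => by
      rw [QuotientGroup.leftRel_apply, Subgroup.mem_subgroupOf,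
        Subgroup.mem_centralizer_singleton_iff] at hab
      refine Subtype.ext ?_
      simp only [Subgroup.coe_mul, Subgroup.coe_inv] at hab
      calc g⁻¹ * ((a : G) * g * (a : G)⁻¹) = g⁻¹ * ((a : G) * (g * ((a : G)⁻¹ * b)) * (b : G)⁻¹) := by
            group
        _ = g⁻¹ * ((b : G) * g * (b : G)⁻¹) := by rw [← hab]; group
  have hinj : Function.Injective φ := by
    intro c d
    induction c using QuotientGroup.induction_on with
    | H a =>
      induction d using QuotientGroup.induction_on with
      | H b =>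
        intro hab
        have h1 : g⁻¹ * ((a : G) * g * (a : G)⁻¹) = g⁻¹ * ((b : G) * g * (b : G)⁻¹) :=
          congrArg Subtype.val hab
        rw [mul_right_inj] at h1
        refine QuotientGroup.eq.2 (Subgroup.mem_centralizer_singleton_iff.2 ?_)
        simp only [Subgroup.coe_mul, Subgroup.coe_inv, Subgroup.coe_subtype]
        calc (a : G)⁻¹ * b * g = (a : G)⁻¹ * ((b : G) * g * (b : G)⁻¹) * b := by group
          _ = g * ((a : G)⁻¹ * b) := by rw [← h1]; group
  have hcard : Nat.card (↥M ⧸ C') * Nat.card (Subgroup.centralizer ({g} : Set G)) =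
      Nat.card N * Nat.card (Subgroup.centralizer ({(g : G ⧸ N)} : Set (G ⧸ N))) := by
    rw [← Nat.card_congr (Subgroup.subgroupOfEquivOfLe hCM).toEquiv,
      ← Subgroup.card_eq_card_quotient_mul_card_subgroup C',
      CfsgLib.Coprime.card_eq_card_mul_card_map_mk' N (M := M) (fun n hn => by
        rw [hM, ← mul_assoc, ← mul_assoc]
        exact N.mul_mem (by simpa using ‹N.Normal›.conj_mem n hn g⁻¹) (N.inv_mem hn)),
      show M.map (QuotientGroup.mk' N) = Subgroup.centralizer ({f g} : Set (G ⧸ N)) from
        Subgroup.map_comap_eq_self_of_surjective (QuotientGroup.mk'_surjective N) _]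
    rfl
  constructor
  · intro h
    have hsurj : Function.Surjective φ := by
      intro n
      obtain ⟨z, hz⟩ := h n n.2
      refine ⟨((⟨z, (hM z).2 (by rw [hz, inv_mul_cancel_left]; exact n.2)⟩ : M) : ↥M ⧸ C'),
        Subtype.ext ?_⟩
      show g⁻¹ * (z * g * z⁻¹) = n
      rw [hz, inv_mul_cancel_left]
    rw [Nat.card_congr (Equiv.ofBijective φ ⟨hinj, hsurj⟩)] at hcard
    exact Nat.eq_of_mul_eq_mul_left Nat.card_pos hcard
  · intro h n hn
    rw [h] at hcard
    have hb := (Nat.bijective_iff_injective_and_card φ).2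
      ⟨hinj, Nat.eq_of_mul_eq_mul_right Nat.card_pos hcard⟩
    obtain ⟨c, hc⟩ := hb.2 ⟨n, hn⟩
    induction c using QuotientGroup.induction_on with
    | H z =>
      refine ⟨z, ?_⟩
      have h1 : g⁻¹ * ((z : G) * g * (z : G)⁻¹) = n := congrArg Subtype.val hc
      rw [← h1, mul_inv_cancel_left]

end Cfsg.Agent.S4142
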