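import Cfsg.Statements.S4143
import Cfsg.Agent.Lib.PGroup.MaxClassRecog
-- import your own Cfsg.Agent.* helpers here

set_option autoImplicit false
open Cfsg

namespace Cfsg.Agent.S4143

/-- Let X be a finite p-group of order p^n containing a non-abelian subgroup B of order p³ with C_X(B) ≤ B. Then X has nilpotency class n − 1 (maximal class). -/
theorem result {X : Type*} [Group X] [Finite X] {p : ℕ} [Fact p.Prime] (n : ℕ) (hX : Nat.card X = p ^ n)
    (B : Subgroup X) (hB : Nat.card B = p ^ 3) (hBna : ¬ IsMulCommutative B) (hC : Subgroup.centralizer (B : Set X) ≤ B) :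
    Group.nilpotencyClass X = n - 1 := by
  have hp : p.Prime := Fact.out
  have hpX : IsPGroup p X := IsPGroup.of_card hX
  haveI : Nontrivial B := by
    rw [← Finite.one_lt_card_iff_nontrivial, hB]; exact Nat.one_lt_pow (by norm_num) hp.one_lt
  haveI : Nontrivial X := B.subtype_injective.nontrivial
  haveI := hpX.isNilpotent
  -- the centre of `B`
  have hZB : Nat.card (Subgroup.center B) = p := by
    have hpB := hpX.to_subgroup B
    haveI := hpB.center_nontrivial
    obtain ⟨k, hk, hk'⟩ := (Nat.dvd_prime_pow hp).1 (hB ▸ (Subgroup.center B).card_subgroup_dvd_card)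
    have hk0 : k ≠ 0 := fun e => by
      have h1 := Finite.one_lt_card (α := Subgroup.center B)
      rw [hk', e, pow_zero] at h1
      exact lt_irrefl 1 h1
    have hk1 : k ≤ 1 := by
      by_contra hk1
      refine hBna ⟨⟨fun a b => ?_⟩⟩
      have hcyc : IsCyclic (B ⧸ Subgroup.center B) := by
        have h1 := (Subgroup.center B).card_mul_index
        rw [hk', hB] at h1
        have hidx : (Subgroup.center B).index ∣ p := by
          refine Nat.dvd_of_mul_dvd_mul_left (pow_pos hp.pos 2) ?_
          rw [← pow_succ, show 2 + 1 = 3 from rfl, ← h1]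
          exact Nat.mul_dvd_mul_right (pow_dvd_pow p (by omega)) _
        rcases (Nat.dvd_prime hp).1 hidx with e | e
        · haveI : Subsingleton (B ⧸ Subgroup.center B) := (Nat.card_eq_one_iff_unique.1 e).1
          infer_instance
        · exact isCyclic_of_prime_card e
      exact commutative_of_cyclic_center_quotient (QuotientGroup.mk' (Subgroup.center B))
        (by rw [QuotientGroup.ker_mk']) a b
    rw [hk', show k = 1 by omega, pow_one]
  set Z := Subgroup.center X with hZ
  have hZle : Z ≤ B := (Subgroup.center_le_centralizer _).trans hC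
  have hZc : Nat.card Z = p := by
    haveI := hpX.center_nontrivial
    have h1 : Nat.card Z ∣ p := by
      rw [← hZB, ← Nat.card_congr (Subgroup.subgroupOfEquivOfLe hZle).toEquiv]
      exact Subgroup.card_dvd_of_le fun z hz => Subgroup.mem_center_iff.2 fun b =>
        Subtype.ext (Subgroup.mem_center_iff.1 hz b)
    exact ((Nat.dvd_prime hp).1 h1).resolve_left (Finite.one_lt_card (α := Z)).ne'
  obtain ⟨u, hu, v, hv, huv⟩ : ∃ u ∈ B, ∃ v ∈ B, u * v ≠ v * u := by
    by_contra hno
    push Not at hno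
    exact hBna ⟨⟨fun a b => Subtype.ext (hno a a.2 b b.2)⟩⟩
  have hgenB : Z ⊔ Subgroup.zpowers u ⊔ Subgroup.zpowers v = B := by
    have hle : Z ⊔ Subgroup.zpowers u ⊔ Subgroup.zpowers v ≤ B :=
      sup_le (sup_le hZle (Subgroup.zpowers_le.2 hu)) (Subgroup.zpowers_le.2 hv)
    refine Subgroup.eq_of_le_of_card_ge hle ?_
    set W := Z ⊔ Subgroup.zpowers u ⊔ Subgroup.zpowers v
    obtain ⟨k, hk⟩ := IsPGroup.iff_card.1 (hpX.to_subgroup W)
    rcases Nat.lt_or_ge k 3 with hk3 | hk3
    · exfalso
      have hcomm : IsMulCommutative W := by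
        rcases k with _ | _ | k
        · haveI : Subsingleton W := (Nat.card_eq_one_iff_unique.1 (hk.trans (pow_zero p))).1
          exact ⟨⟨fun a b => Subsingleton.elim _ _⟩⟩
        · haveI := isCyclic_of_prime_card (hk.trans (pow_one p))
          infer_instance
        · letI := IsPGroup.commGroupOfCardEqPrimeSq (show Nat.card W = p ^ 2 by rw [hk]; congr 1; omega)
          exact ⟨⟨mul_comm⟩⟩
      exact huv (congrArg Subtype.val (hcomm.is_comm.comm
        ⟨u, Subgroup.mem_sup_left (Subgroup.mem_sup_right (Subgroup.mem_zpowers u))⟩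
        ⟨v, Subgroup.mem_sup_right (Subgroup.mem_zpowers v)⟩))
    · rw [hB, hk]; exact Nat.pow_le_pow_right hp.pos hk3
  -- self-centralizing modulo the centre
  set π := QuotientGroup.mk' Z with hπ
  set A := B.map π with hA
  have hAc : Nat.card A = p ^ 2 := by
    rw [hA, hπ, ← Subgroup.relIndex_ker (K := B), QuotientGroup.ker_mk']
    have h1 := (Z.subgroupOf B).card_mul_index
    rw [Nat.card_congr (Subgroup.subgroupOfEquivOfLe hZle).toEquiv, hZc, hB] at h1
    exact Nat.eq_of_mul_eq_mul_left hp.pos (h1.trans (by ring))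
  have hle : A ≤ Subgroup.centralizer (A : Set (X ⧸ Z)) := by
    letI := IsPGroup.commGroupOfCardEqPrimeSq hAc
    intro a ha
    exact Subgroup.mem_centralizer_iff.2 fun b hb => congrArg Subtype.val (mul_comm (⟨b, hb⟩ : A) ⟨a, ha⟩)
  have hAC : Subgroup.centralizer (A : Set (X ⧸ Z)) = A := by
    refine le_antisymm ?_ hle
    set K := (Subgroup.centralizer (A : Set (X ⧸ Z))).comap π with hK
    have hmem : ∀ x ∈ K, ∀ b ∈ B, x * b * x⁻¹ * b⁻¹ ∈ Z := by
      intro x hx b hb
      rw [← QuotientGroup.eq_one_iff]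
      show π (x * b * x⁻¹ * b⁻¹) = 1
      simp only [map_mul, map_inv, ← Subgroup.mem_centralizer_iff.1 hx (π b) ⟨b, hb, rfl⟩]
      group
    have hBK : B ≤ K := fun b hb => hle ⟨b, hb, rfl⟩
    let f : K → Z × Z := fun x => (⟨x * u * x⁻¹ * u⁻¹, hmem x x.2 u hu⟩, ⟨x * v * x⁻¹ * v⁻¹, hmem x x.2 v hv⟩)
    have hfib : ∀ x y : K, f x = f y → (x : X)⁻¹ * y ∈ Z := by
      intro x y e
      have e1 : (x : X) * u * (x : X)⁻¹ * u⁻¹ = y * u * (y : X)⁻¹ * u⁻¹ :=
        congrArg (fun t : Z × Z => (t.1 : X)) e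
      have e2 : (x : X) * v * (x : X)⁻¹ * v⁻¹ = y * v * (y : X)⁻¹ * v⁻¹ :=
        congrArg (fun t : Z × Z => (t.2 : X)) e
      have c : ∀ w : X, (x : X) * w * (x : X)⁻¹ * w⁻¹ = y * w * (y : X)⁻¹ * w⁻¹ →
          ((x : X)⁻¹ * y) * w = w * ((x : X)⁻¹ * y) := by
        intro w hw
        calc (x : X)⁻¹ * y * w = (x : X)⁻¹ * (y * w * (y : X)⁻¹ * w⁻¹) * w * y := by group
          _ = (x : X)⁻¹ * ((x : X) * w * (x : X)⁻¹ * w⁻¹) * w * y := by rw [hw]
          _ = w * ((x : X)⁻¹ * y) := by group
      have hcen : (x : X)⁻¹ * y ∈ Subgroup.centralizer (B : Set X) := by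
        have hle' : B ≤ Subgroup.centralizer ({(x : X)⁻¹ * y} : Set X) := by
          rw [← hgenB]
          exact sup_le (sup_le (Subgroup.center_le_centralizer _)
            (Subgroup.zpowers_le.2 (Subgroup.mem_centralizer_singleton_iff.2 (c u e1).symm)))
            (Subgroup.zpowers_le.2 (Subgroup.mem_centralizer_singleton_iff.2 (c v e2).symm))
        exact Subgroup.mem_centralizer_iff.2 fun b hb => Subgroup.mem_centralizer_singleton_iff.1 (hle' hb)
      have hcB : ∀ z : X, z ∈ Subgroup.centralizer (B : Set X) → z ∈ Z := by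
        intro z hz
        have hzB := hC hz
        have h1 : (⟨z, hzB⟩ : B) ∈ Subgroup.center B := Subgroup.mem_center_iff.2 fun b =>
          Subtype.ext (Subgroup.mem_centralizer_iff.1 hz b b.2)
        have h2 : Z.subgroupOf B = Subgroup.center B := Subgroup.eq_of_le_of_card_ge
          (fun q hq => Subgroup.mem_center_iff.2 fun b => Subtype.ext (Subgroup.mem_center_iff.1 hq b))
          (by rw [hZB, Nat.card_congr (Subgroup.subgroupOfEquivOfLe hZle).toEquiv, hZc])
        rw [← h2] at h1
        exact h1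
      exact hcB _ hcen
    let ψ : K ⧸ Z.subgroupOf K → Z × Z := Quotient.lift f fun x y hxy => by
      have h0 : (x : X)⁻¹ * y ∈ Z := by have h9 := QuotientGroup.leftRel_apply.1 hxy; exact h9
      have hy : (y : X) = x * ((x : X)⁻¹ * y) := by group
      have hc := Subgroup.mem_center_iff.1 h0
      have e : ∀ w : X, (y : X) * w * (y : X)⁻¹ * w⁻¹ = x * w * (x : X)⁻¹ * w⁻¹ := fun w => by
        calc (y : X) * w * (y : X)⁻¹ * w⁻¹
            = (x : X) * (((x : X)⁻¹ * y) * w) * (y : X)⁻¹ * w⁻¹ := by group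
          _ = (x : X) * (w * ((x : X)⁻¹ * y)) * (y : X)⁻¹ * w⁻¹ := by rw [hc w]
          _ = _ := by group
      exact Prod.ext (Subtype.ext (e u).symm) (Subtype.ext (e v).symm)
    have hψ : Function.Injective ψ := fun a b => by
      induction a using Quotient.inductionOn with | _ a => ?_
      induction b using Quotient.inductionOn with | _ b => ?_
      exact fun e => Quotient.sound (QuotientGroup.leftRel_apply.2 (hfib a b e))
    have h1 := Nat.card_le_card_of_injective ψ hψ
    rw [Nat.card_prod, hZc] at h1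
    have h2 := (Z.subgroupOf K).card_mul_index
    rw [Nat.card_congr (Subgroup.subgroupOfEquivOfLe (hZle.trans hBK)).toEquiv, hZc] at h2
    have h3 : Nat.card K ≤ Nat.card B := by
      rw [hB, ← h2, show p ^ 3 = p * (p * p) by ring]
      exact Nat.mul_le_mul_left p h1
    intro w hw
    obtain ⟨x, rfl⟩ := QuotientGroup.mk'_surjective Z w
    have hKB := Subgroup.eq_of_le_of_card_ge hBK h3
    exact ⟨x, hKB.symm ▸ (show x ∈ K from hw), rfl⟩
  have hn : 3 ≤ n := by
    have h1 : p ^ 3 ≤ p ^ n := by rw [← hB, ← hX]; exact Subgroup.card_le_card_group B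
    exact (Nat.pow_le_pow_iff_right hp.one_lt).1 h1
  have hq : Nat.card (X ⧸ Z) = p ^ (n - 1) := by
    have h1 := Z.card_mul_index
    rw [hX, hZc, show n = n - 1 + 1 by omega, pow_succ'] at h1
    exact Nat.eq_of_mul_eq_mul_left hp.pos h1
  have hcl := CfsgLib.PGroup.maximalClass_of_selfCentralizing (n - 1) (X ⧸ Z) hq A hAc hAC
  rw [Group.nilpotencyClass_eq_quotient_center_plus_one, hcl]
  omega

end Cfsg.Agent.S4143
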