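import Cfsg.Statements.S4145
import Cfsg.Agent.Lib.PGroup.ShortTools
import Cfsg.Agent.Lib.Fusion.Residual
import Cfsg.Agent.Lib.Fusion.Sylow
import Cfsg.Agent.Lib.Fusion.Transfer
import Cfsg.Agent.Lib.Coprime.Action

set_option autoImplicit false
open Cfsg

namespace Cfsg.Agent.S4145

open Subgroup CfsgLib.Coprime

variable {p : ℕ} [Fact p.Prime]

private theorem commute_of_mod {G : Type*} [Group G] {y q : G} {r : ℤ} {n : ℕ}
    (h : y * q * y⁻¹ = q ^ r) (hr : (p : ℤ) ∣ r - 1) (hq : q ^ p ^ n = 1)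
    (hy : (orderOf y).Coprime p) : Commute y q := by
  have h1 := CfsgLib.PGroup.commute_pow_of_conj_eq_zpow h hr hq
  obtain ⟨j, hj⟩ := exists_pow_eq_self_of_coprime (hy.symm.pow_left n)
  have h2 := h1.pow_left j
  rwa [hj] at h2

/-- Reduction from `p'`-elements to all elements of a normalizer of a Sylow subgroup. -/
private theorem normalizer_le_centralizer_of {G : Type*} [Group G] [Finite G] (P : Sylow p G)
    (hab : ∀ a ∈ (P : Subgroup G), ∀ b ∈ (P : Subgroup G), a * b = b * a)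
    (h : ∀ y ∈ normalizer ((P : Subgroup G) : Set G), (orderOf y).Coprime p →
      y ∈ centralizer ((P : Subgroup G) : Set G)) :
    normalizer ((P : Subgroup G) : Set G) ≤ centralizer ((P : Subgroup G) : Set G) := by
  have hp : p.Prime := Fact.out
  intro y hy
  obtain ⟨k, m, hm, hkm⟩ := Nat.exists_eq_pow_mul_and_not_dvd (orderOf_pos y).ne' p hp.ne_one
  refine CfsgLib.PGroup.mem_of_pow_mem_coprime hp (n := k) ?_ hm ?_
  · refine h _ (pow_mem hy _) (Nat.Coprime.coprime_dvd_left
      (orderOf_dvd_of_pow_eq_one (by rw [← pow_mul, ← hkm, pow_orderOf_eq_one]))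
      ((hp.coprime_iff_not_dvd.2 hm).symm))
  · have hord : (y ^ m) ^ p ^ k = 1 := by rw [← pow_mul, mul_comm, ← hkm, pow_orderOf_eq_one]
    have hpg : IsPGroup p (zpowers (y ^ m)) := by
      obtain ⟨j, -, hj⟩ := (Nat.dvd_prime_pow hp).1 (orderOf_dvd_of_pow_eq_one hord)
      exact IsPGroup.of_card (n := j) (by rw [Nat.card_zpowers, hj])
    have hle : zpowers (y ^ m) ≤ normalizer ((P : Subgroup G) : Set G) :=
      zpowers_le.2 (pow_mem hy m)
    have hsup : IsPGroup p ((P : Subgroup G) ⊔ zpowers (y ^ m) : Subgroup G) :=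
      P.2.to_sup_of_normal_left' hpg hle
    have hmem : y ^ m ∈ (P : Subgroup G) :=
      (P.3 hsup le_sup_left).le (mem_sup_right (mem_zpowers _))
    exact mem_centralizer_iff.2 fun a ha => hab a ha _ hmem

private theorem main {G : Type*} [Group G] [Finite G] (P : Sylow p G) (hP : IsCyclic (P : Subgroup G))
    (H : Subgroup G) [hHn : H.Normal] (h1 : p ∣ Nat.card H) (h2 : p ∣ H.index) :
    Cfsg.HasNormalPComplement p H ∧ Cfsg.IsPSolvable p G := by
  classical
  have hp : p.Prime := Fact.out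
  obtain ⟨⟨x, hxP⟩, hx⟩ := hP.exists_generator
  have hgen : ∀ a ∈ (P : Subgroup G), ∃ j : ℤ, a = x ^ j := fun a ha => by
    obtain ⟨j, hj⟩ := hx ⟨a, ha⟩
    exact ⟨j, (congrArg Subtype.val hj).symm⟩
  have habP : ∀ a ∈ (P : Subgroup G), ∀ b ∈ (P : Subgroup G), a * b = b * a := fun a ha b hb => by
    obtain ⟨i, rfl⟩ := hgen a ha
    obtain ⟨j, rfl⟩ := hgen b hb
    rw [← zpow_add, ← zpow_add, add_comm]
  obtain ⟨n, hn⟩ : ∃ n, orderOf x = p ^ n := by
    obtain ⟨n, hn⟩ := IsPGroup.iff_orderOf.1 P.2 ⟨x, hxP⟩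
    exact ⟨n, by rwa [orderOf_mk] at hn⟩
  have hxn : ∀ a ∈ (P : Subgroup G), a ^ p ^ n = 1 := fun a ha => by
    obtain ⟨j, rfl⟩ := hgen a ha
    rw [← zpow_natCast, ← zpow_mul, mul_comm, zpow_mul, zpow_natCast, ← hn, pow_orderOf_eq_one,
      _root_.one_zpow]
  set Q := (P : Subgroup G) ⊓ H with hQ
  have hQnd : ¬ p ∣ Q.relIndex H := CfsgLib.Fusion.not_dvd_relIndex_inf_of_normal P H
  have hQne : Q ≠ ⊥ := fun e => hQnd (by rwa [e, relIndex_bot_left])
  have hxH : x ∉ H := fun h => P.not_dvd_index (h2.trans (index_dvd_of_le fun a ha => by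
    obtain ⟨j, rfl⟩ := hgen a ha
    exact zpow_mem h j))
  have hQj : ∀ j : ℤ, x ^ j ∈ H → (p : ℤ) ∣ j := by
    intro j hj
    by_contra hd
    refine hxH ?_
    obtain ⟨a, b, hab⟩ := (((Nat.prime_iff_prime_int.1 hp).coprime_iff_not_dvd).2 hd).pow_left (m := n)
    have : x ^ (a * (p : ℤ) ^ n + b * j) = x := by rw [hab, zpow_one]
    rw [zpow_add, mul_comm a, zpow_mul, ← Nat.cast_pow, zpow_natCast, ← hn, pow_orderOf_eq_one,
      _root_.one_zpow, one_mul, mul_comm b, zpow_mul] at this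
    exact this ▸ zpow_mem hj b
  -- the local step
  have hstep : ∀ y ∈ H, y ∈ normalizer (Q : Set G) → (orderOf y).Coprime p →
      ∀ q ∈ Q, Commute y q := by
    intro y hyH hyN hyc q hq
    set K := H ⊓ centralizer (Q : Set G)
    have hPQ : (P : Subgroup G) ≤ centralizer (Q : Set G) := fun a ha =>
      mem_centralizer_iff.2 fun b hb => habP b hb.1 a ha
    have hPK : (P : Subgroup G) ≤ normalizer (K : Set G) :=
      CfsgLib.Coprime.inf_le_normalizer (le_top.trans (normalizer_eq_top H).ge) (hPQ.trans le_normalizer)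
    set L := K ⊔ (P : Subgroup G) with hL
    have hyQ : ∀ b ∈ Q, y * b * y⁻¹ ∈ Q := fun b hb => (mem_normalizer_iff.1 hyN b).1 hb
    have hyQ' : ∀ b ∈ Q, y⁻¹ * b * y ∈ Q := fun b hb => (mem_normalizer_iff''.1 hyN b).1 hb
    have hyC : ∀ c ∈ centralizer (Q : Set G), y * c * y⁻¹ ∈ centralizer (Q : Set G) := by
      intro c hc
      refine mem_centralizer_iff.2 fun b hb => ?_
      have h3 := mem_centralizer_iff.1 hc _ (hyQ' b hb)
      calc b * (y * c * y⁻¹) = y * (y⁻¹ * b * y * c) * y⁻¹ := by group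
        _ = y * (c * (y⁻¹ * b * y)) * y⁻¹ := by rw [h3]
        _ = y * c * y⁻¹ * b := by group
    have hyx : y * x * y⁻¹ * x⁻¹ ∈ K := by
      refine Subgroup.mem_inf.2 ⟨?_, Subgroup.mul_mem _ (hyC x (hPQ hxP)) (Subgroup.inv_mem _ (hPQ hxP))⟩
      rw [mul_assoc y, mul_assoc y]
      exact mul_mem hyH (hHn.conj_mem _ (inv_mem hyH) x)
    have hPy : conjBy y (P : Subgroup G) ≤ L := by
      rintro _ ⟨a, ha, rfl⟩
      obtain ⟨j, rfl⟩ := hgen a ha
      show y * x ^ j * y⁻¹ ∈ L
      rw [← conj_zpow]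
      refine zpow_mem ?_ j
      have := mul_mem (mem_sup_left (T := (P : Subgroup G)) hyx) (mem_sup_right (S := K) hxP)
      rwa [inv_mul_cancel_right] at this
    have hPL : (P : Subgroup G) ≤ L := le_sup_right
    let R : Sylow p L := Sylow.ofCard ((conjBy y (P : Subgroup G)).subgroupOf L) (by
      rw [Nat.card_congr (subgroupOfEquivOfLe hPy).toEquiv, card_conjBy,
        ← Nat.card_congr (subgroupOfEquivOfLe hPL).toEquiv]
      exact (P.subtype hPL).card_eq_multiplicity)
    obtain ⟨⟨l, hl⟩, hlR⟩ := MulAction.exists_smul_eq L R (P.subtype hPL)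
    have h3 := congrArg Sylow.toSubgroup hlR
    rw [Sylow.coe_subgroup_smul, ← conjBy_eq_smul] at h3
    have h4 := congrArg (Subgroup.map L.subtype) h3
    rw [conjBy_map] at h4
    have e1 : (P.subtype hPL : Subgroup L).map L.subtype = (P : Subgroup G) :=
      map_subgroupOf_eq_of_le hPL
    have e2 : (R : Subgroup L).map L.subtype = conjBy y (P : Subgroup G) :=
      map_subgroupOf_eq_of_le hPy
    rw [e1, e2, conjBy_conjBy] at h4
    change conjBy (l * y) (P : Subgroup G) = (P : Subgroup G) at h4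
    obtain ⟨r, hr⟩ := hgen _ (h4.le ⟨x, hxP, rfl⟩)
    change l * y * x * (l * y)⁻¹ = x ^ r at hr
    -- `l * y` commutes with `x` modulo `H`
    obtain ⟨c, hc, a, ha, rfl⟩ := mem_sup_exists hPK hl
    obtain ⟨i, rfl⟩ := hgen a ha
    have hr1 : (p : ℤ) ∣ r - 1 := by
      refine hQj _ ?_
      rw [zpow_sub, zpow_one, ← hr]
      set π := QuotientGroup.mk' H
      have hker : ∀ u ∈ H, π u = 1 := fun u hu => (QuotientGroup.eq_one_iff u).2 hu
      refine (QuotientGroup.eq_one_iff _).1 ?_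
      show π _ = 1
      simp only [map_mul, map_inv, map_zpow, hker c hc.1, hker y hyH]
      group
    refine commute_of_mod (r := r) ?_ hr1 (hxn q hq.1) hyc
    obtain ⟨j, rfl⟩ := hgen q hq.1
    have hlQ : c * x ^ i ∈ centralizer (Q : Set G) := mul_mem hc.2 (hPQ ha)
    have h5 := mem_centralizer_iff.1 hlQ _ (hyQ _ hq)
    calc y * x ^ j * y⁻¹
        = (c * x ^ i) * (y * x ^ j * y⁻¹) * (c * x ^ i)⁻¹ := by
          rw [← h5, mul_inv_cancel_right]
      _ = (c * x ^ i * y * x * (c * x ^ i * y)⁻¹) ^ j := by rw [conj_zpow]; group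
      _ = (x ^ j) ^ r := by rw [hr, ← zpow_mul, mul_comm, zpow_mul]
  -- `H` has a normal complement
  have hH : Cfsg.HasNormalPComplement p H := by
    have hQH : Q ≤ H := inf_le_right
    obtain ⟨S, hS⟩ := ((P.2.to_le inf_le_left : IsPGroup p Q).comap_subtype :
      IsPGroup p (Q.subgroupOf H)).exists_le_sylow
    have hSeq : (S : Subgroup H) = Q.subgroupOf H := by
      refine (eq_of_le_of_card_ge hS ?_).symm
      obtain ⟨a, ha⟩ := IsPGroup.iff_card.1 S.isPGroup'
      obtain ⟨b, hb⟩ := IsPGroup.iff_card.1 ((P.2.to_le inf_le_left : IsPGroup p Q))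
      show Nat.card (S : Subgroup H) ≤ Nat.card (Q.subgroupOf H)
      rw [ha, Nat.card_congr (subgroupOfEquivOfLe hQH).toEquiv, hb]
      have hd : p ^ a ∣ p ^ b * Q.relIndex H := by
        rw [← ha, ← hb]
        have := relIndex_mul_relIndex ⊥ Q H bot_le hQH
        rw [relIndex_bot_left, relIndex_bot_left] at this
        rw [this]
        exact card_subgroup_dvd_card _
      exact Nat.le_of_dvd (Nat.pow_pos hp.pos)
        (((hp.coprime_iff_not_dvd.2 hQnd).pow_left a).dvd_of_dvd_mul_right hd)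
    refine CfsgLib.Fusion.hasNormalPComplement_of_normalizer_le_centralizer S
      (normalizer_le_centralizer_of S (fun a ha b hb => ?_) fun y hy hyc => ?_)
    · rw [hSeq] at ha hb
      exact Subtype.ext (habP _ ha.1 _ hb.1)
    · refine mem_centralizer_iff.2 fun b hb => ?_
      rw [SetLike.mem_coe, hSeq] at hb
      rw [hSeq, ← subgroupOf_normalizer_eq hQH] at hy
      exact Subtype.ext (hstep _ y.2 hy (by rwa [Subgroup.orderOf_coe]) _ hb).symm.eq
  refine ⟨hH, ?_⟩
  -- the series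
  set O := (Cfsg.pResidual p H).map H.subtype with hO
  have hOn : O.Normal := by
    have e : O = closure (H.subtype '' {g : H | Nat.Coprime (orderOf g) p}) :=
      MonoidHom.map_closure _ _
    rw [e]
    refine ⟨fun z hz g => (closure_le (K := (Subgroup.closure _).comap (MulAut.conj g).toMonoidHom)).2 ?_ hz⟩
    rintro _ ⟨u, hu, rfl⟩
    refine subset_closure ⟨⟨g * (u : G) * g⁻¹, hHn.conj_mem _ u.2 g⟩, ?_, rfl⟩
    show Nat.Coprime (orderOf _) p
    rw [← Subgroup.orderOf_coe]
    show Nat.Coprime (orderOf (g * (u : G) * g⁻¹)) p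
    rw [← MulAut.conj_apply, MulEquiv.orderOf_eq, Subgroup.orderOf_coe]
    exact hu
  haveI := hOn
  have hOp : ¬ p ∣ Nat.card O := by
    rw [hO, card_map_of_injective H.subtype_injective]
    exact CfsgLib.Fusion.hasNormalPComplement_iff_not_dvd.1 hH
  set π := QuotientGroup.mk' O
  have hπ := QuotientGroup.mk'_surjective O
  let Pb : Sylow p (G ⧸ O) := P.mapSurjective hπ
  set Qb := Q.map π
  have hQb : Qb ≠ ⊥ := fun e => by
    obtain ⟨⟨q, hq⟩, hq1⟩ := ne_bot_iff_exists_ne_one.1 hQne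
    have h3 : π q = 1 := mem_bot.1 (e.le ⟨q, hq, rfl⟩)
    have h4 : orderOf q ∣ Nat.card O :=
      Subgroup.orderOf_dvd_natCard _ ((QuotientGroup.eq_one_iff q).1 h3)
    obtain ⟨a, ha⟩ := IsPGroup.iff_orderOf.1 P.2 ⟨q, hq.1⟩
    rw [orderOf_mk] at ha
    rcases a with _ | a
    · exact hq1 (Subtype.ext (orderOf_eq_one_iff.1 (by rw [ha, pow_zero])))
    · exact hOp ((ha ▸ dvd_pow_self p a.succ_ne_zero).trans h4)
  -- `Qb` is normal
  have hQbn : Qb.Normal := by
    have e : Qb = H.map π := by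
      refine le_antisymm (map_mono inf_le_right) ?_
      rintro _ ⟨h, hh, rfl⟩
      have htop : Cfsg.pResidual p H ⊔ Q.subgroupOf H = ⊤ := by
        obtain ⟨a, ha⟩ := CfsgLib.Fusion.exists_index_pResidual (G := H) (p := p)
        refine eq_top_of_card_eq _ (Nat.dvd_antisymm (card_subgroup_dvd_card _) ?_)
        rw [← (Cfsg.pResidual p H).card_mul_index, ha]
        refine Nat.Coprime.mul_dvd_of_dvd_of_dvd ?_ (card_dvd_of_le le_sup_left) ?_
        · exact ((hp.coprime_iff_not_dvd.2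
            (CfsgLib.Fusion.hasNormalPComplement_iff_not_dvd.1 hH)).pow_left a).symm
        · refine dvd_trans ?_ (card_dvd_of_le le_sup_right)
          rw [Nat.card_congr (subgroupOfEquivOfLe (inf_le_right : Q ≤ H)).toEquiv]
          have h5 := relIndex_mul_relIndex ⊥ Q H bot_le inf_le_right
          rw [relIndex_bot_left, relIndex_bot_left] at h5
          have h6 : p ^ a ∣ Nat.card Q * Q.relIndex H := by
            rw [h5, ← (Cfsg.pResidual p H).card_mul_index, ha]
            exact dvd_mul_left _ _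
          exact ((hp.coprime_iff_not_dvd.2 hQnd).pow_left a).dvd_of_dvd_mul_right h6
      haveI := CfsgLib.Fusion.pResidual_normal (G := H) (p := p)
      obtain ⟨u, hu, v, hv, huv⟩ := mem_sup_of_normal_left.1 (htop.ge (mem_top (⟨h, hh⟩ : H)))
      refine ⟨v, hv, ?_⟩
      have e2 : h = (u : G) * v := (congrArg Subtype.val huv).symm
      rw [e2, map_mul, (show π u = 1 from (QuotientGroup.eq_one_iff _).2 ⟨u, hu, rfl⟩), one_mul]
    rw [e]
    exact hHn.map π hπ
  haveI := hQbn
  set Cb := centralizer (Qb : Set (G ⧸ O))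
  have hPCb : (Pb : Subgroup (G ⧸ O)) ≤ Cb := by
    rw [Sylow.coe_mapSurjective]
    rintro _ ⟨a, ha, rfl⟩
    refine mem_centralizer_iff.2 ?_
    rintro _ ⟨b, hb, rfl⟩
    rw [← map_mul, ← map_mul, habP a ha b hb.1]
  haveI hCbn : Cb.Normal := normal_centralizer
  have hgenb : ∀ a ∈ (Pb : Subgroup (G ⧸ O)), ∃ j : ℤ, a = π x ^ j := by
    rw [Sylow.coe_mapSurjective]
    rintro _ ⟨a, ha, rfl⟩
    obtain ⟨j, rfl⟩ := hgen a ha
    exact ⟨j, map_zpow π x j⟩
  have hCb : Cfsg.HasNormalPComplement p Cb := by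
    refine CfsgLib.Fusion.hasNormalPComplement_of_normalizer_le_centralizer (Pb.subtype hPCb)
      (normalizer_le_centralizer_of _ (fun a ha b hb => ?_) fun y hy hyc => ?_)
    · obtain ⟨i, hi⟩ := hgenb _ ha
      obtain ⟨j, hj⟩ := hgenb _ hb
      refine Subtype.ext ?_
      show (a : G ⧸ O) * (b : G ⧸ O) = (b : G ⧸ O) * (a : G ⧸ O)
      rw [show (a : G ⧸ O) = π x ^ i from hi, show (b : G ⧸ O) = π x ^ j from hj, ← zpow_add, ← zpow_add, add_comm]
    · rw [Sylow.coe_subtype, ← subgroupOf_normalizer_eq hPCb, mem_subgroupOf] at hy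
      have hxPb : π x ∈ (Pb : Subgroup (G ⧸ O)) := by
        rw [Sylow.coe_mapSurjective]; exact ⟨x, hxP, rfl⟩
      obtain ⟨r, hr⟩ := hgenb _ ((mem_normalizer_iff.1 hy _).1 hxPb)
      have hr1 : (p : ℤ) ∣ r - 1 := by
        by_contra hd
        obtain ⟨⟨q, hq⟩, hq1⟩ := ne_bot_iff_exists_ne_one.1 hQb
        obtain ⟨j, hj⟩ := hgenb q (by
          rw [Sylow.coe_mapSurjective]; exact map_mono inf_le_left hq)
        have h7 : (y : G ⧸ O) * π x ^ j * (y : G ⧸ O)⁻¹ = π x ^ j := by
          rw [← hj, ← mem_centralizer_iff.1 y.2 q hq, mul_inv_cancel_right]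
        rw [← conj_zpow, hr, ← zpow_mul] at h7
        have h8 : π x ^ ((r - 1) * j) = 1 := by rw [sub_mul, one_mul, zpow_sub, h7, mul_inv_cancel]
        obtain ⟨a, b, hab⟩ :=
          (((Nat.prime_iff_prime_int.1 hp).coprime_iff_not_dvd).2 hd).pow_left (m := n)
        refine hq1 (Subtype.ext ?_)
        show q = 1
        have e3 : π x ^ j = π x ^ ((a * (p : ℤ) ^ n + b * (r - 1)) * j) := by rw [hab, one_mul]
        rw [hj, e3, add_mul, zpow_add, show a * (p : ℤ) ^ n * j = (p : ℤ) ^ n * (a * j) by ring,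
          show b * (r - 1) * j = (r - 1) * j * b by ring, zpow_mul, zpow_mul (π x) ((r - 1) * j), h8,
          ← Nat.cast_pow, zpow_natCast, ← hn, ← map_pow, pow_orderOf_eq_one, map_one,
          _root_.one_zpow, _root_.one_zpow, one_mul]
      refine mem_centralizer_iff.2 fun b hb => Subtype.ext ?_
      obtain ⟨j, hj⟩ := hgenb _ hb
      have hc := commute_of_mod (y := (y : G ⧸ O)) (q := π x) hr hr1
        (by rw [← map_pow, ← hn, pow_orderOf_eq_one, map_one]) (by rwa [Subgroup.orderOf_coe])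
      show (b : G ⧸ O) * (y : G ⧸ O) = (y : G ⧸ O) * (b : G ⧸ O)
      rw [show (b : G ⧸ O) = π x ^ j from hj]
      exact (hc.zpow_right j).eq.symm
  -- pull the series back
  set Tb := (Cfsg.pResidual p Cb).map Cb.subtype with hTb
  have hTn : Tb.Normal := by
    have e : Tb = closure (Cb.subtype '' {g : Cb | Nat.Coprime (orderOf g) p}) :=
      MonoidHom.map_closure _ _
    rw [e]
    refine ⟨fun z hz g => (closure_le (K := (Subgroup.closure _).comap (MulAut.conj g).toMonoidHom)).2 ?_ hz⟩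
    rintro _ ⟨u, hu, rfl⟩
    refine subset_closure ⟨⟨g * (u : G ⧸ O) * g⁻¹, hCbn.conj_mem _ u.2 g⟩, ?_, rfl⟩
    show Nat.Coprime (orderOf _) p
    rw [← Subgroup.orderOf_coe]
    show Nat.Coprime (orderOf (g * (u : G ⧸ O) * g⁻¹)) p
    rw [← MulAut.conj_apply, MulEquiv.orderOf_eq, Subgroup.orderOf_coe]
    exact hu
  have hTle : Tb ≤ Cb := map_subtype_le _
  have hTcard : ¬ p ∣ Nat.card Tb := by
    rw [hTb, card_map_of_injective Cb.subtype_injective]
    exact CfsgLib.Fusion.hasNormalPComplement_iff_not_dvd.1 hCb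
  refine ⟨4, ![⊥, O, Tb.comap π, Cb.comap π, ⊤], rfl, rfl, ?_, ?_, ?_⟩
  · refine Fin.monotone_iff_le_succ.2 fun i => ?_
    fin_cases i
    exacts [bot_le, (QuotientGroup.ker_mk' O).symm.le.trans (π.ker_le_comap Tb),
      comap_mono hTle, le_top]
  · intro i
    fin_cases i
    exacts [(inferInstance : (⊥ : Subgroup G).Normal), hOn, hTn.comap π, hCbn.comap π,
      (inferInstance : (⊤ : Subgroup G).Normal)]
  · intro i
    fin_cases i
    · exact Or.inr (by
        show ((⊥ : Subgroup G).relIndex O).Coprime p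
        rw [relIndex_bot_left]
        exact (hp.coprime_iff_not_dvd.2 hOp).symm)
    · refine Or.inr ?_
      show (O.relIndex (Tb.comap π)).Coprime p
      have h9 : O.relIndex (Tb.comap π) = Nat.card Tb := by
        have := relIndex_comap (⊥ : Subgroup (G ⧸ O)) π (Tb.comap π)
        rw [MonoidHom.comap_bot, QuotientGroup.ker_mk', map_comap_eq_self_of_surjective hπ,
          relIndex_bot_left] at this
        exact this
      rw [h9]
      exact (hp.coprime_iff_not_dvd.2 hTcard).symm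
    · obtain ⟨a, ha⟩ := CfsgLib.Fusion.exists_index_pResidual (G := Cb) (p := p)
      refine Or.inl ⟨a, ?_⟩
      show (Tb.comap π).relIndex (Cb.comap π) = p ^ a
      rw [relIndex_comap, map_comap_eq_self_of_surjective hπ, hTb, ← ha]
      show (((Cfsg.pResidual p Cb).map Cb.subtype).subgroupOf Cb).index = _
      rw [← comap_subtype, comap_map_eq_self_of_injective Cb.subtype_injective]
    · refine Or.inr ?_
      show ((Cb.comap π).relIndex ⊤).Coprime p
      rw [relIndex_top_right, index_comap_of_surjective _ hπ]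
      exact (Nat.Coprime.coprime_dvd_right (index_dvd_of_le hPCb)
        (hp.coprime_iff_not_dvd.2 Pb.not_dvd_index)).symm

/-- Let G be a finite group with a cyclic Sylow p-subgroup and H a normal subgroup such that p divides both the order of H and the index of H. Then H has a normal p-complement and G is p-solvable. -/
theorem result {G : Type*} [Group G] [Finite G] (p : ℕ) [Fact p.Prime]
    (P : Sylow p G) (hP : IsCyclic (P : Subgroup G)) (H : Subgroup G) [H.Normal] (h1 : p ∣ Nat.card H) (h2 : p ∣ H.index) :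
    Cfsg.HasNormalPComplement p H ∧ Cfsg.IsPSolvable p G := by
  exact main P hP H h1 h2

end Cfsg.Agent.S4145
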