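import Cfsg.Statements.S4149
import Mathlib

set_option autoImplicit false
open Cfsg

namespace Cfsg.Agent.S4149

section
variable {G : Type*} [Group G] [Finite G]

theorem two_mul_card_fixed_le (p : ℕ) [Fact p.Prime] (h : ¬ Cfsg.HasNormalPComplement p G) :
    2 * Nat.card {x : G // ¬ p ∣ (Subgroup.centralizer ({x} : Set G)).index} ≤ Nat.card G := by
  classical
  have := Fintype.ofFinite (Sylow p G)
  have hx : ∀ x : {x : G // ¬ p ∣ (Subgroup.centralizer ({x} : Set G)).index},
      ∃ Q : Sylow p G, (x : G) ∈ Subgroup.centralizer ((Q : Subgroup G) : Set G) := by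
    rintro ⟨x, hx⟩
    set C := Subgroup.centralizer ({x} : Set G)
    obtain ⟨R⟩ : Nonempty (Sylow p C) := inferInstance
    have hR : IsPGroup p ((R : Subgroup C).map C.subtype) := R.2.map C.subtype
    have hi : ¬ p ∣ ((R : Subgroup C).map C.subtype).index := by
      rw [Subgroup.index_map_subtype]
      exact fun hd => ((Fact.out : p.Prime).dvd_mul.1 hd).elim R.not_dvd_index hx
    refine ⟨hR.toSylow hi, ?_⟩
    rw [Subgroup.mem_centralizer_iff]
    intro y hy
    obtain ⟨z, -, rfl⟩ := Subgroup.mem_map.1 (show y ∈ (R : Subgroup C).map C.subtype from hy)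
    exact (Subgroup.mem_centralizer_singleton_iff.1 z.2)
  choose f hf using hx
  have h1 : Nat.card {x : G // ¬ p ∣ (Subgroup.centralizer ({x} : Set G)).index} ≤
      Nat.card (Σ Q : Sylow p G, Subgroup.centralizer ((Q : Subgroup G) : Set G)) := by
    refine Nat.card_le_card_of_injective (fun x => ⟨f x, ⟨x.1, hf x⟩⟩) ?_
    intro x y hxy
    exact Subtype.ext (congrArg (fun s : (Σ Q : Sylow p G, Subgroup.centralizer ((Q : Subgroup G) : Set G)) =>
      (s.2 : G)) hxy)
  have h2 : ∀ Q : Sylow p G, 2 * Nat.card (Subgroup.centralizer ((Q : Subgroup G) : Set G)) * Nat.card (Sylow p G) ≤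
      Nat.card G := by
    intro Q
    rw [Q.card_eq_index_normalizer, ← Subgroup.card_mul_index (Subgroup.normalizer ((Q : Subgroup G) : Set G))]
    refine Nat.mul_le_mul_right _ ?_
    have hle := Subgroup.centralizer_le_normalizer (G := G) ((Q : Subgroup G) : Set G)
    have hne : (Subgroup.centralizer ((Q : Subgroup G) : Set G)).relIndex
        (Subgroup.normalizer ((Q : Subgroup G) : Set G)) ≠ 1 := by
      rw [Ne, Subgroup.relIndex_eq_one]
      exact fun hN => h ⟨Q, _, MonoidHom.normal_ker _,
        MonoidHom.ker_transferSylow_isComplement' Q hN⟩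
    have h3 := Subgroup.relIndex_mul_relIndex ⊥ (Subgroup.centralizer ((Q : Subgroup G) : Set G))
        (Subgroup.normalizer ((Q : Subgroup G) : Set G)) bot_le hle
    rw [Subgroup.relIndex_bot_left, Subgroup.relIndex_bot_left] at h3
    have h0 : (Subgroup.centralizer ((Q : Subgroup G) : Set G)).relIndex
        (Subgroup.normalizer ((Q : Subgroup G) : Set G)) ≠ 0 := fun h0 => by
      rw [h0, mul_zero] at h3
      exact Nat.card_pos.ne' h3.symm
    rw [← h3, mul_comm 2]
    exact Nat.mul_le_mul_left _ (by omega)
  have h4 : ∑ Q : Sylow p G, 2 * Nat.card (Subgroup.centralizer ((Q : Subgroup G) : Set G)) * Nat.card (Sylow p G) ≤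
      Nat.card G * Nat.card (Sylow p G) := by
    refine (Finset.sum_le_sum fun Q _ => h2 Q).trans ?_
    rw [Finset.sum_const, smul_eq_mul, Finset.card_univ, Nat.card_eq_fintype_card (α := Sylow p G), mul_comm]
  rw [← Finset.sum_mul, ← Finset.mul_sum, ← Nat.card_sigma] at h4
  exact le_trans (Nat.mul_le_mul_left 2 h1) (Nat.le_of_mul_le_mul_right h4 Nat.card_pos)

end

/-- Let G be a finite group that has a normal p-complement for at most one prime p dividing its order, and let σ be a natural number such that every conjugacy class size of G has at most σ distinct prime divisors. Then the number of primes dividing at least one conjugacy class size of G is at most 2σ. -/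
theorem result {G : Type*} [Group G] [Finite G] (σ : ℕ)
    (hσ : ∀ x : G, ((Subgroup.centralizer ({x} : Set G)).index).primeFactors.card ≤ σ)
    (hnil : ∀ p q : ℕ, p.Prime → q.Prime → p ∣ Nat.card G → q ∣ Nat.card G →
      Cfsg.HasNormalPComplement p G → Cfsg.HasNormalPComplement q G → p = q) :
    Nat.card {p : ℕ | p.Prime ∧ ∃ x : G, p ∣ (Subgroup.centralizer ({x} : Set G)).index} ≤ 2 * σ := by
  classical
  have := Fintype.ofFinite G
  let I : G → ℕ := fun x => (Subgroup.centralizer ({x} : Set G)).index
  let S := (Nat.card G).primeFactors.filter fun p => ∃ x : G, p ∣ I x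
  have hS : {p : ℕ | p.Prime ∧ ∃ x : G, p ∣ (Subgroup.centralizer ({x} : Set G)).index} = (S : Set ℕ) := by
    ext p
    simp only [Set.mem_setOf_eq, Finset.coe_filter, S, Nat.mem_primeFactors]
    exact ⟨fun ⟨hp, x, hx⟩ => ⟨⟨hp, hx.trans (Subgroup.index_dvd_card _), Nat.card_pos.ne'⟩, x, hx⟩,
      fun ⟨⟨hp, _⟩, hx⟩ => ⟨hp, hx⟩⟩
  rw [hS, Nat.card_coe_set_eq, Set.ncard_coe_finset]
  have hlow : ∀ p ∈ S, ¬ Cfsg.HasNormalPComplement p G →
      Fintype.card G ≤ 2 * (Finset.univ.filter fun x : G => p ∣ I x).card := by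
    intro p hp hn
    have := Fact.mk (Nat.prime_of_mem_primeFactors (Finset.mem_filter.1 hp).1)
    have h1 := two_mul_card_fixed_le p hn
    have h2 := Finset.card_filter_add_card_filter_not (s := (Finset.univ : Finset G)) (fun x : G => p ∣ I x)
    have h3 : Nat.card {x : G // ¬ p ∣ (Subgroup.centralizer ({x} : Set G)).index} =
        (Finset.univ.filter fun x : G => ¬ p ∣ I x).card := by
      rw [Nat.card_eq_fintype_card, Fintype.card_subtype]
    rw [h3, Nat.card_eq_fintype_card] at h1
    rw [Finset.card_univ] at h2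
    omega
  have hup : ∑ p ∈ S, (Finset.univ.filter fun x : G => p ∣ I x).card + σ ≤ Fintype.card G * σ := by
    have hswap : ∑ p ∈ S, (Finset.univ.filter fun x : G => p ∣ I x).card =
        ∑ x : G, (S.filter fun p => p ∣ I x).card := by
      simp only [Finset.card_filter]
      exact Finset.sum_comm
    have hone : (S.filter fun p => p ∣ I 1).card = 0 := by
      rw [Finset.card_eq_zero, Finset.filter_eq_empty_iff]
      intro p hp hd
      have h1 : I 1 = 1 := by
        simp only [I]
        rw [Subgroup.index_eq_one, Subgroup.centralizer_eq_top_iff_subset]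
        simpa using one_mem (Subgroup.center G)
      rw [h1, Nat.dvd_one] at hd
      exact (Nat.prime_of_mem_primeFactors (Finset.mem_filter.1 hp).1).ne_one hd
    have hle : ∑ x ∈ Finset.univ.erase (1 : G), (S.filter fun p => p ∣ I x).card ≤
        ∑ x ∈ Finset.univ.erase (1 : G), σ := by
      refine Finset.sum_le_sum fun x _ => le_trans (Finset.card_le_card ?_) (hσ x)
      intro p hp
      rw [Finset.mem_filter] at hp
      exact Nat.mem_primeFactors.2 ⟨Nat.prime_of_mem_primeFactors (Finset.mem_filter.1 hp.1).1, hp.2,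
        Subgroup.index_ne_zero_of_finite⟩
    rw [hswap, ← Finset.add_sum_erase Finset.univ (fun x => (S.filter fun p => p ∣ I x).card) (Finset.mem_univ (1 : G)),
      hone, zero_add]
    refine le_trans (Nat.add_le_add_right hle σ) (le_of_eq ?_)
    rw [Finset.sum_const, smul_eq_mul, Finset.card_erase_of_mem (Finset.mem_univ (1 : G)), Finset.card_univ,
      ← Nat.succ_mul]
    congr 1
    have := Fintype.card_pos (α := G)
    omega
  let T := S.filter fun p => ¬ Cfsg.HasNormalPComplement p G
  let U := S.filter fun p => Cfsg.HasNormalPComplement p G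
  have hTU : T.card + U.card = S.card := by
    rw [add_comm]
    exact Finset.card_filter_add_card_filter_not _
  have hU : U.card ≤ 1 := by
    refine Finset.card_le_one.2 fun a ha b hb => ?_
    simp only [U, S, Finset.mem_filter, Nat.mem_primeFactors] at ha hb
    exact hnil a b ha.1.1.1 hb.1.1.1 ha.1.1.2.1 hb.1.1.2.1 ha.2 hb.2
  have hpos : ∀ p ∈ S, 1 ≤ (Finset.univ.filter fun x : G => p ∣ I x).card := by
    intro p hp
    obtain ⟨x, hx⟩ := (Finset.mem_filter.1 hp).2
    exact Finset.card_pos.2 ⟨x, by simp [hx]⟩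
  have hsum : T.card * Fintype.card G + 2 * U.card ≤
      2 * ∑ p ∈ S, (Finset.univ.filter fun x : G => p ∣ I x).card := by
    rw [← Finset.sum_filter_add_sum_filter_not S (fun p => ¬ Cfsg.HasNormalPComplement p G), mul_add,
      Finset.mul_sum, Finset.mul_sum]
    refine Nat.add_le_add ?_ ?_
    · rw [← smul_eq_mul]
      exact Finset.card_nsmul_le_sum _ _ _ fun p hp => hlow p (Finset.mem_filter.1 hp).1 (Finset.mem_filter.1 hp).2
    · have he : (S.filter fun p => ¬¬ Cfsg.HasNormalPComplement p G) = U := by
        simp only [not_not, U]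
      rw [he, mul_comm 2 U.card, ← smul_eq_mul]
      exact Finset.card_nsmul_le_sum _ _ _ fun p hp => by
        have := hpos p (Finset.mem_filter.1 hp).1
        omega
  have hG := Fintype.card_pos (α := G)
  have hT : T.card * Fintype.card G + 2 * U.card + 2 * σ ≤ 2 * σ * Fintype.card G := by nlinarith
  by_contra hcon
  rcases Nat.eq_zero_or_pos σ with hσ0 | hσ0
  · subst hσ0
    simp only [mul_zero, zero_mul, add_zero, Nat.le_zero] at hup hT
    rcases Nat.eq_zero_or_pos T.card with hT0 | hT0
    · omega
    · nlinarith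
  · have h5 : 2 * σ * Fintype.card G ≤ T.card * Fintype.card G := Nat.mul_le_mul_right _ (by omega)
    omega

end Cfsg.Agent.S4149
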