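import Cfsg.Statements.S4150
import Cfsg.Agent.Lib.PGroup.JordanPrime
import Cfsg.Agent.Lib.PGroup.PrimePair
import Cfsg.Agent.S4304
import Cfsg.Agent.Lib.Invol.SimpleSixty
import Mathlib.GroupTheory.Perm.Cycle.Type
import Mathlib.GroupTheory.SpecificGroups.Alternating.Simple
import Mathlib.GroupTheory.Transfer
-- import your own Cfsg.Agent.* helpers here

set_option autoImplicit false
set_option linter.style.haveILetI false
set_option linter.unusedSectionVars false
open Cfsg

namespace Cfsg.Agent.S4150

open Equiv MulAction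
open CfsgLib.PGroup (alternatingGroup_le_of_prime_cycle isPreprimitive_of_prime_cycle
  isMultiplyPretransitive_of_prime_cycle exists_swap_on exists_threeCycle_of_three_fixed
  orderOf_of_isCycle zpow_apply_of_isCycle)

variable {α : Type*} [Fintype α] [DecidableEq α]

/-- Transitivity of the subgroup generated by `X` and a large cycle `Y`. -/
theorem isPretransitive_closure {X Y : Perm α} {p q : ℕ} (hp : p.Prime) (hX : orderOf X = p)
    (hYc : Y.IsCycle) (hY : Y.support.card = q) (hlt : Fintype.card α < p + q)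
    (hmov : ∀ a : α, X a ≠ a ∨ Y a ≠ a) :
    IsPretransitive (Subgroup.closure ({X, Y} : Set (Perm α))) α := by
  haveI : Fact p.Prime := ⟨hp⟩
  set G := Subgroup.closure ({X, Y} : Set (Perm α))
  have hXG : X ∈ G := Subgroup.subset_closure (Set.mem_insert _ _)
  have hYG : Y ∈ G := Subgroup.subset_closure (Set.mem_insert_of_mem _ rfl)
  obtain ⟨a0, ha0⟩ : ∃ a, a ∈ Y.support := by
    rcases hYc with ⟨a, ha, -⟩
    exact ⟨a, Perm.mem_support.2 ha⟩
  refine (MulAction.isPretransitive_iff_base a0).2 fun a => ?_
  have hY' : ∀ b ∈ Y.support, ∃ g : G, g • a0 = b := by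
    intro b hb
    obtain ⟨i, hi⟩ := hYc.exists_zpow_eq (Perm.mem_support.1 ha0) (Perm.mem_support.1 hb)
    exact ⟨⟨Y ^ i, zpow_mem hYG i⟩, hi⟩
  by_cases ha : Y a = a
  swap
  · exact hY' a (Perm.mem_support.2 ha)
  have hXa : X a ≠ a := (hmov a).resolve_right (not_not.2 ha)
  -- the `X`-orbit of `a` meets the support of `Y`
  have hinj : Function.Injective fun i : Fin p => (X ^ (i : ℕ)) a := by
    intro i j hij
    by_contra hne
    have key : ∀ n m : ℕ, n < m → m < p → (X ^ n) a ≠ (X ^ m) a := by
      intro n m hnm hm h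
      obtain ⟨d, rfl⟩ := Nat.exists_eq_add_of_lt hnm
      rw [add_assoc, pow_add, Perm.mul_apply] at h
      have hd : (X ^ (d + 1)) a = a := ((X ^ n).injective h).symm
      apply hXa
      have hcop : Nat.Coprime (d + 1) p :=
        Nat.coprime_comm.1 (hp.coprime_iff_not_dvd.2 (Nat.not_dvd_of_pos_of_lt (by omega) (by omega)))
      obtain ⟨m', hm'⟩ := Nat.exists_mul_mod_eq_one_of_coprime hcop hp.one_lt
      have : X = (X ^ (d + 1)) ^ m' := by
        rw [← pow_mul, ← pow_mod_orderOf, hX, hm'.2, pow_one]
      rw [this]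
      exact Perm.pow_apply_eq_self_of_apply_eq_self hd m'
    rcases Nat.lt_or_gt_of_ne (fun h => hne (Fin.ext h)) with h | h
    · exact key i j h j.2 hij
    · exact key j i h i.2 hij.symm
  obtain ⟨i, hi⟩ : ∃ i : Fin p, (X ^ (i : ℕ)) a ∈ Y.support := by
    by_contra h
    push Not at h
    have hle : (Finset.univ.image fun i : Fin p => (X ^ (i : ℕ)) a) ⊆ Y.supportᶜ := by
      intro z hz
      obtain ⟨i, -, rfl⟩ := Finset.mem_image.1 hz
      exact Finset.mem_compl.2 (h i)
    have := Finset.card_le_card hle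
    rw [Finset.card_image_of_injective _ hinj, Finset.card_univ, Fintype.card_fin,
      Finset.card_compl, hY] at this
    have := hp.two_le
    omega
  obtain ⟨g, hg⟩ := hY' _ hi
  refine ⟨(⟨X ^ (i : ℕ), pow_mem hXG _⟩ : G)⁻¹ * g, ?_⟩
  rw [mul_smul, hg, inv_smul_eq_iff]
  rfl

/-- A normalised point stabilizer bound: if a `7`-cycle on seven points generates a normal
subgroup, the group has order at most 42. -/
theorem card_le_of_normal_cycle {G : Subgroup (Perm α)} [IsPretransitive G α] {q : ℕ} (hq : q.Prime)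
    {Y : Perm α} (hYG : Y ∈ G) (hYc : Y.IsCycle) (hY : Y.support.card = q)
    (hcard : Fintype.card α = q) (hn : (Subgroup.zpowers (⟨Y, hYG⟩ : G)).Normal) :
    Nat.card G ≤ q * q := by
  classical
  obtain ⟨a, ha⟩ : ∃ a, a ∈ Y.support := by
    rcases hYc with ⟨a, ha, -⟩
    exact ⟨a, Perm.mem_support.2 ha⟩
  have hfull : ∀ b, b ∈ Y.support := fun b => by
    have : Y.support = Finset.univ := Finset.eq_univ_of_card _ (hY.trans hcard.symm)
    rw [this]; exact Finset.mem_univ b
  set y : G := ⟨Y, hYG⟩
  have hord : orderOf y = q := by rw [← Subgroup.orderOf_coe, orderOf_of_isCycle hYc hY]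
  let f : G → α × Subgroup.zpowers y := fun g =>
    (g • a, ⟨g * y * g⁻¹, hn.conj_mem y (Subgroup.mem_zpowers y) g⟩)
  have hf : Function.Injective f := by
    intro g h hgh
    simp only [f, Prod.mk.injEq, Subtype.mk.injEq] at hgh
    obtain ⟨h1, h2⟩ := hgh
    have hc : Commute (h⁻¹ * g) y := by
      show h⁻¹ * g * y = y * (h⁻¹ * g)
      calc h⁻¹ * g * y = h⁻¹ * (g * y * g⁻¹) * g := by group
        _ = h⁻¹ * (h * y * h⁻¹) * g := by rw [h2]
        _ = y * (h⁻¹ * g) := by group
    have hfix : (h⁻¹ * g) • a = a := by rw [mul_smul, h1, inv_smul_smul]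
    have : h⁻¹ * g = 1 := by
      apply Subtype.ext
      ext b
      obtain ⟨i, rfl⟩ := hYc.exists_zpow_eq (Perm.mem_support.1 ha) (Perm.mem_support.1 (hfull b))
      have e : (h⁻¹ * g) • (y ^ i) • a = (y ^ i) • a := by
        rw [smul_smul, (hc.zpow_right i).eq, ← smul_smul, hfix]
      exact e
    exact (inv_mul_eq_one.1 this).symm
  refine le_trans (Nat.card_le_card_of_injective f hf) (le_of_eq ?_)
  rw [Nat.card_prod, Nat.card_zpowers, hord, Nat.card_eq_fintype_card, hcard]

/-- Degree seven: a transitive group of even permutations with a 5-cycle and a 7-cycle. -/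
theorem seven {G : Subgroup (Perm α)} (hA : G ≤ alternatingGroup α) [IsPretransitive G α]
    (hcard : Fintype.card α = 7) {X Y : Perm α} (hXG : X ∈ G) (hYG : Y ∈ G) (hXc : X.IsCycle)
    (hX : X.support.card = 5) (hYc : Y.IsCycle) (hY : Y.support.card = 7) :
    alternatingGroup α ≤ G := by
  haveI hprim : IsPreprimitive G α :=
    isPreprimitive_of_prime_cycle hYG hYc (by norm_num) hY (by rw [Nat.card_eq_fintype_card]; omega)
  have h3 := isMultiplyPretransitive_of_prime_cycle hprim hXG hXc (k := 2) (by norm_num) hX (by norm_num)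
    (by rw [Nat.card_eq_fintype_card, hcard])
  have hdvd : 210 ∣ Nat.card G := by
    obtain ⟨S, -, hS⟩ := Finset.exists_subset_card_eq (s := (Finset.univ : Finset α)) (n := 3)
      (by rw [Finset.card_univ]; omega)
    have h := IsMultiplyPretransitive.index_of_fixingSubgroup_mul h3 (s := (S : Set α))
      (by rw [Set.ncard_coe_finset, hS])
    rw [Nat.card_eq_fintype_card, hcard] at h
    have : (fixingSubgroup G (S : Set α)).index = 210 := by
      norm_num [Nat.factorial] at h
      omega
    exact this ▸ Subgroup.index_dvd_card _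
  haveI : Nontrivial α := Fintype.one_lt_card_iff_nontrivial.1 (by omega)
  have hAcard : Nat.card (alternatingGroup α) = 2520 := by
    have := two_mul_card_alternatingGroup (α := α)
    have h7 : Nat.card α = 7 := by rw [Nat.card_eq_fintype_card, hcard]
    simp only [← Nat.card_eq_fintype_card, Nat.card_perm, h7] at this
    rw [show Nat.factorial 7 = 5040 from rfl] at this
    omega
  haveI : IsSimpleGroup (alternatingGroup α) :=
    alternatingGroup.isSimpleGroup (by rw [Nat.card_eq_fintype_card]; omega)
  set H := G.subgroupOf (alternatingGroup α) with hH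
  have hHcard : Nat.card H = Nat.card G := Nat.card_congr (Subgroup.subgroupOfEquivOfLe hA).toEquiv
  have hmul : Nat.card G * H.index = 2520 := by rw [← hHcard, Subgroup.card_mul_index, hAcard]
  by_contra hle
  have hHtop : H ≠ ⊤ := fun h => hle (Subgroup.subgroupOf_eq_top.1 h)
  have hnc : ¬ IsMulCommutative (alternatingGroup α) := by
    intro hc
    haveI : Fact (Nat.Prime 7) := ⟨by norm_num⟩
    obtain ⟨x, hx⟩ := exists_prime_orderOf_dvd_card' (G := alternatingGroup α) 7
      (hAcard ▸ by norm_num)
    have hn : (Subgroup.zpowers x).Normal :=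
      ⟨fun n hn g => by rwa [hc.is_comm.comm g n, mul_inv_cancel_right]⟩
    have h7 : Nat.card (Subgroup.zpowers x) = 7 := by rw [Nat.card_zpowers, hx]
    rcases IsSimpleGroup.eq_bot_or_eq_top_of_normal _ hn with h1 | h1
    · rw [h1, Subgroup.card_bot] at h7; omega
    · rw [h1, Subgroup.card_top] at h7; omega
  have hfac := CfsgLib.Invol.two_mul_card_dvd_factorial hnc (α := alternatingGroup α ⧸ H) (by
    by_contra hc
    push Not at hc
    apply hHtop
    rw [eq_top_iff]
    intro g _
    have h1 := hc g ((1 : alternatingGroup α) : alternatingGroup α ⧸ H)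
    rw [MulAction.Quotient.smul_mk, QuotientGroup.eq, smul_eq_mul, mul_one, mul_one] at h1
    simpa using inv_mem h1)
  rw [← Subgroup.index_eq_card, hAcard] at hfac
  obtain ⟨k, hk⟩ := hdvd
  have hi : H.index ≤ 12 := by
    rcases Nat.eq_zero_or_pos k with rfl | hk0
    · rw [hk] at hmul; omega
    · rw [hk] at hmul; nlinarith
  have hi7 : 7 ≤ H.index := by
    by_contra h
    revert hfac
    interval_cases H.index <;> norm_num [Nat.factorial]
  have hG : Nat.card G = 210 := by
    rcases (show k = 1 ∨ 2 ≤ k ∨ k = 0 by omega) with rfl | h | rfl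
    · exact hk
    · exfalso; rw [hk] at hmul; nlinarith
    · rw [hk] at hmul; omega
  -- a group of order 210 normalises its 7-cycle
  haveI : Fact (Nat.Prime 2) := ⟨Nat.prime_two⟩
  haveI : Fact (Nat.Prime 7) := ⟨by norm_num⟩
  haveI : Fact (Nat.Prime 5) := ⟨by norm_num⟩
  set y : G := ⟨Y, hYG⟩
  have hy : orderOf y = 7 := by rw [← Subgroup.orderOf_coe, orderOf_of_isCycle hYc hY]
  obtain ⟨T⟩ : Nonempty (Sylow 2 G) := inferInstance
  have hT : Nat.card T = 2 := by
    rw [T.card_eq_multiplicity, hG, show (210 : ℕ) = 2 ^ 1 * 105 by norm_num,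
      Nat.factorization_mul (by norm_num) (by norm_num), Finsupp.add_apply,
      Nat.Prime.factorization_pow Nat.prime_two, Finsupp.single_eq_same,
      Nat.factorization_eq_zero_of_not_dvd (show ¬ 2 ∣ 105 by norm_num)]
    rfl
  have hTc : IsCyclic T := isCyclic_of_prime_card hT
  have hmf : (Nat.card G).minFac = 2 := by rw [hG]; norm_num
  set L := (MonoidHom.transferSylow T (hTc.normalizer_le_centralizer hmf)).ker
  have hL : L.IsComplement' (T : Subgroup G) := IsCyclic.isComplement' hmf hTc
  haveI : L.Normal := MonoidHom.normal_ker _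
  have hLc : Nat.card L = 105 := by
    have := hL.card_mul
    rw [hT, hG] at this
    omega
  have hyL : y ∈ L := by
    rw [← QuotientGroup.eq_one_iff, ← orderOf_eq_one_iff]
    refine Nat.eq_one_of_dvd_coprimes (a := 7) (b := L.index) ?_
      (hy ▸ orderOf_map_dvd (QuotientGroup.mk' L) y) ?_
    · rw [hL.symm.index_eq_card, hT]; norm_num
    · rw [Subgroup.index_eq_card]; exact orderOf_dvd_natCard _
  have hzy : Subgroup.zpowers y ≤ L := Subgroup.zpowers_le.2 hyL
  let S : Sylow 7 L := (IsPGroup.of_card (n := 1) (p := 7) (G := (Subgroup.zpowers y).subgroupOf L)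
    (by rw [Nat.card_congr (Subgroup.subgroupOfEquivOfLe hzy).toEquiv, Nat.card_zpowers, hy,
      pow_one])).toSylow (by
    intro hd
    have h := Subgroup.card_mul_index ((Subgroup.zpowers y).subgroupOf L)
    rw [Nat.card_congr (Subgroup.subgroupOfEquivOfLe hzy).toEquiv, Nat.card_zpowers, hy, hLc] at h
    omega)
  haveI hSn : (S : Subgroup L).Normal := Cfsg.Agent.S4304.small_normal (d := 3) (Or.inl rfl) (hLc.trans (by norm_num)) S
  haveI : (S : Subgroup L).Characteristic := S.characteristic_of_normal hSn
  have hN : (Subgroup.zpowers y).Normal := by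
    have e : (S : Subgroup L).map L.subtype = Subgroup.zpowers y :=
      Subgroup.map_subgroupOf_eq_of_le hzy
    exact e ▸ inferInstance
  have := card_le_of_normal_cycle (by norm_num) hYG hYc hY hcard hN
  omega


/-- Degree six: a double 3-cycle and a 5-cycle. -/
theorem six {G : Subgroup (Perm α)} (hA : G ≤ alternatingGroup α) [IsPretransitive G α]
    (hcard : Fintype.card α = 6) {X Y : Perm α} (hXG : X ∈ G) (hYG : Y ∈ G)
    (hXo : orderOf X = 3) (hYc : Y.IsCycle) (hY : Y.support.card = 5) :
    ∃ d : ℕ, 5 ≤ d ∧ Nonempty (G ≃* alternatingGroup (Fin d)) := by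
  classical
  haveI hprim : IsPreprimitive G α :=
    isPreprimitive_of_prime_cycle hYG hYc (by norm_num) hY (by rw [Nat.card_eq_fintype_card]; omega)
  haveI : Nontrivial α := Fintype.one_lt_card_iff_nontrivial.1 (by omega)
  have h6 : Nat.card α = 6 := by rw [Nat.card_eq_fintype_card, hcard]
  have hAcard : Nat.card (alternatingGroup α) = 360 := by
    have := two_mul_card_alternatingGroup (α := α)
    simp only [← Nat.card_eq_fintype_card, Nat.card_perm, h6] at this
    rw [show Nat.factorial 6 = 720 from rfl] at this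
    omega
  by_cases hle : alternatingGroup α ≤ G
  · refine ⟨6, by norm_num, ?_⟩
    rw [le_antisymm hA hle]
    exact ⟨Equiv.altCongrHom (Fintype.equivFinOfCardEq hcard)⟩
  haveI : IsSimpleGroup (alternatingGroup α) :=
    alternatingGroup.isSimpleGroup (by omega)
  set H := G.subgroupOf (alternatingGroup α) with hH
  have hHtop : H ≠ ⊤ := fun h => hle (Subgroup.subgroupOf_eq_top.1 h)
  have hHcard : Nat.card H = Nat.card G := Nat.card_congr (Subgroup.subgroupOfEquivOfLe hA).toEquiv
  have hmul : Nat.card G * H.index = 360 := by rw [← hHcard, Subgroup.card_mul_index, hAcard]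
  have hnc : ¬ IsMulCommutative (alternatingGroup α) := by
    intro hc
    haveI : Fact (Nat.Prime 5) := ⟨by norm_num⟩
    obtain ⟨x, hx⟩ := exists_prime_orderOf_dvd_card' (G := alternatingGroup α) 5
      (hAcard ▸ by norm_num)
    have hn : (Subgroup.zpowers x).Normal :=
      ⟨fun n hn g => by rwa [hc.is_comm.comm g n, mul_inv_cancel_right]⟩
    have h5 : Nat.card (Subgroup.zpowers x) = 5 := by rw [Nat.card_zpowers, hx]
    rcases IsSimpleGroup.eq_bot_or_eq_top_of_normal _ hn with h1 | h1
    · rw [h1, Subgroup.card_bot] at h5; omega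
    · rw [h1, Subgroup.card_top] at h5; omega
  have hfac := CfsgLib.Invol.two_mul_card_dvd_factorial hnc (α := alternatingGroup α ⧸ H) (by
    by_contra hc
    push Not at hc
    apply hHtop
    rw [eq_top_iff]
    intro g _
    have h1 := hc g ((1 : alternatingGroup α) : alternatingGroup α ⧸ H)
    rw [MulAction.Quotient.smul_mk, QuotientGroup.eq, smul_eq_mul, mul_one, mul_one] at h1
    simpa using inv_mem h1)
  rw [← Subgroup.index_eq_card, hAcard] at hfac
  have hi6 : 6 ≤ H.index := by
    by_contra h
    revert hfac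
    interval_cases H.index <;> norm_num [Nat.factorial]
  have h15 : 15 ∣ Nat.card G := by
    refine Nat.Coprime.mul_dvd_of_dvd_of_dvd (show Nat.Coprime 3 5 by norm_num) ?_ ?_
    · have h := orderOf_dvd_natCard (⟨X, hXG⟩ : G)
      rwa [← Subgroup.orderOf_coe, hXo] at h
    · have h := orderOf_dvd_natCard (⟨Y, hYG⟩ : G)
      rwa [← Subgroup.orderOf_coe, orderOf_of_isCycle hYc hY] at h
  -- no nontrivial normal subgroup of prime power order
  have hnoP : ∀ (r : ℕ) (K : Subgroup G), K.Normal → r.Prime → IsPGroup r K → K = ⊥ := by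
    intro r K hK hr hKp
    by_contra hne
    haveI := hK
    haveI : Fact r.Prime := ⟨hr⟩
    have hnf : MulAction.fixedPoints K α ≠ Set.univ := by
      intro hu
      apply hne
      rw [eq_bot_iff]
      intro k hk
      rw [Subgroup.mem_bot]
      apply Subtype.ext
      ext a
      exact (Set.eq_univ_iff_forall.1 hu a : a ∈ MulAction.fixedPoints K α) ⟨k, hk⟩
    haveI := IsQuasiPreprimitive.isPretransitive_of_normal (G := G) (N := K) hnf
    obtain ⟨a⟩ : Nonempty α := inferInstance
    obtain ⟨n, hn⟩ := hKp.exists_card_eq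
    have h := index_stabilizer_of_transitive (G := K) a
    rw [h6] at h
    have hd := (stabilizer K a).index_dvd_card
    rw [h, hn] at hd
    have h2 : r = 2 := ((Nat.prime_dvd_prime_iff_eq Nat.prime_two hr).1
      (Nat.prime_two.dvd_of_dvd_pow (dvd_trans (by norm_num) hd))).symm
    have h3 : r = 3 := ((Nat.prime_dvd_prime_iff_eq Nat.prime_three hr).1
      (Nat.prime_three.dvd_of_dvd_pow (dvd_trans (by norm_num) hd))).symm
    omega
  have hnoS : ∀ (r : ℕ) (K : Subgroup G), K.Normal → r.Prime → r ∣ Nat.card K →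
      (∀ [Fact r.Prime], Nat.card (Sylow r K) = 1) → False := by
    intro r K hK hr hdvd h1
    haveI : Fact r.Prime := ⟨hr⟩
    haveI := hK
    obtain ⟨S⟩ : Nonempty (Sylow r K) := inferInstance
    haveI : Subsingleton (Sylow r K) := (Nat.card_eq_one_iff_unique.1 h1).1
    haveI hSn : (S : Subgroup K).Normal := S.normal_of_subsingleton
    haveI : (S : Subgroup K).Characteristic := S.characteristic_of_normal hSn
    have := hnoP r ((S : Subgroup K).map K.subtype) inferInstance hr (S.2.map _)
    rw [Subgroup.map_eq_bot_iff_of_injective _ K.subtype_injective] at this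
    exact S.ne_bot_of_dvd_card hdvd this
  have hSylcard : ∀ (r : ℕ) [Fact r.Prime] (K : Subgroup G), Nat.card (Sylow r K) ∣ Nat.card K ∧
      Nat.card (Sylow r K) % r = 1 := by
    intro r _ K
    obtain ⟨S⟩ : Nonempty (Sylow r K) := inferInstance
    refine ⟨S.card_dvd_index.trans (S : Subgroup K).index_dvd_card, ?_⟩
    have := card_sylow_modEq_one r K
    rwa [Nat.ModEq, Nat.one_mod_eq_one.2 (Fact.out : r.Prime).ne_one] at this
  haveI : Fact (Nat.Prime 3) := ⟨by norm_num⟩
  haveI : Fact (Nat.Prime 5) := ⟨by norm_num⟩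
  obtain ⟨k, hk⟩ := h15
  have hGle : Nat.card G ≤ 60 := by nlinarith
  -- the case analysis on the order
  have hsyl5 : ∀ K : Subgroup G, K.Normal → 5 ∣ Nat.card K → Nat.card (Sylow 5 K) ≠ 1 :=
    fun K hK hd h => hnoS 5 K hK (by norm_num) hd h
  have hsyl3 : ∀ K : Subgroup G, K.Normal → 3 ∣ Nat.card K → Nat.card (Sylow 3 K) ≠ 1 :=
    fun K hK hd h => hnoS 3 K hK (by norm_num) hd h
  have hno30 : ∀ K : Subgroup G, K.Normal → Nat.card K ≠ 30 := by
    intro K hK h30
    have h5 := hSylcard 5 K
    have h5' := hsyl5 K hK (by rw [h30]; norm_num)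
    have h3 := hSylcard 3 K
    have h3' := hsyl3 K hK (by rw [h30]; norm_num)
    rw [h30] at h5 h3
    -- twenty-four elements of order five and twenty of order three
    haveI := Fintype.ofFinite K
    have hcount : ∀ (r : ℕ) [Fact r.Prime], (∀ S : Sylow r K, Nat.card S = r) →
        Nat.card (Sylow r K) * (r - 1) ≤ (Finset.univ.filter fun x : K => orderOf x = r).card := by
      intro r _ hS
      haveI := Fintype.ofFinite (Sylow r K)
      have hsum : ∀ S : Sylow r K,
          (Finset.univ.filter fun x : K => orderOf x = r ∧ x ∈ (S : Subgroup K)).card = r - 1 := by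
        intro S
        have e : (Finset.univ.filter fun x : K => orderOf x = r ∧ x ∈ (S : Subgroup K)) =
            (Finset.univ.filter fun x : K => x ∈ (S : Subgroup K)).erase 1 := by
          ext x
          simp only [Finset.mem_filter, Finset.mem_univ, true_and, Finset.mem_erase]
          constructor
          · rintro ⟨h1, h2⟩
            refine ⟨fun h => ?_, h2⟩
            rw [h, orderOf_one] at h1
            exact (Fact.out : r.Prime).ne_one h1.symm
          · rintro ⟨h1, h2⟩
            refine ⟨?_, h2⟩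
            have := Subgroup.orderOf_dvd_natCard (S : Subgroup K) h2
            rw [hS] at this
            exact ((Nat.dvd_prime Fact.out).1 this).resolve_left fun h => h1 (orderOf_eq_one_iff.1 h)
        rw [e, Finset.card_erase_of_mem (by simp [one_mem]), ← Fintype.card_subtype,
          ← Nat.card_eq_fintype_card]
        exact congrArg (· - 1) (hS S)
      have hsub : (Finset.univ : Finset (Sylow r K)).biUnion (fun S => Finset.univ.filter fun x : K =>
          orderOf x = r ∧ x ∈ (S : Subgroup K)) ⊆ Finset.univ.filter fun x : K => orderOf x = r := by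
        intro x hx
        simp only [Finset.mem_biUnion, Finset.mem_filter, Finset.mem_univ, true_and] at hx ⊢
        exact hx.choose_spec.1
      refine le_trans (le_of_eq ?_) (Finset.card_le_card hsub)
      rw [Finset.card_biUnion, Finset.sum_congr rfl (fun S _ => hsum S), Finset.sum_const,
        Finset.card_univ, smul_eq_mul, Nat.card_eq_fintype_card]
      intro S _ T _ hST
      rw [Function.onFun, Finset.disjoint_left]
      intro x hx hx'
      simp only [Finset.mem_filter, Finset.mem_univ, true_and] at hx hx'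
      apply hST
      have hgen : ∀ U : Sylow r K, x ∈ (U : Subgroup K) → Subgroup.zpowers x = (U : Subgroup K) := by
        intro U hU
        refine Subgroup.eq_of_le_of_card_ge (Subgroup.zpowers_le.2 hU) ?_
        rw [Nat.card_zpowers, hx.1, hS]
      exact Sylow.ext ((hgen S hx.2).symm.trans (hgen T hx'.2))
    have hSc : ∀ (r : ℕ) [Fact r.Prime] (m : ℕ), 30 = r ^ 1 * m → ¬ r ∣ m →
        ∀ S : Sylow r K, Nat.card S = r := by
      intro r hr m hm hnd S
      have hm0 : m ≠ 0 := by rintro rfl; omega
      rw [S.card_eq_multiplicity, h30, hm, Nat.factorization_mul (pow_ne_zero _ hr.out.ne_zero) hm0,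
        Finsupp.add_apply, Nat.Prime.factorization_pow hr.out, Finsupp.single_eq_same,
        Nat.factorization_eq_zero_of_not_dvd hnd, add_zero, pow_one]
    have c5 := hcount 5 (hSc 5 6 (by norm_num) (by norm_num))
    have c3 := hcount 3 (hSc 3 10 (by norm_num) (by norm_num))
    have hdis : (Finset.univ.filter fun x : K => orderOf x = 5).card +
        (Finset.univ.filter fun x : K => orderOf x = 3).card ≤ 30 := by
      rw [← Finset.card_union_of_disjoint (by
        rw [Finset.disjoint_left]
        intro x hx hx'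
        simp only [Finset.mem_filter] at hx hx'
        omega)]
      refine le_trans (Finset.card_le_univ _) ?_
      rw [← Nat.card_eq_fintype_card, h30]
    have e5 := Nat.le_of_dvd (by norm_num) h5.1
    have e3 := Nat.le_of_dvd (by norm_num) h3.1
    have : 6 ≤ Nat.card (Sylow 5 K) := by omega
    have : 7 ≤ Nat.card (Sylow 3 K) ∨ Nat.card (Sylow 3 K) = 4 := by omega
    rcases this with h | h
    · omega
    · have hd := h3.1
      rw [h] at hd
      omega
  have hG60 : Nat.card G = 60 := by
    have hTop : ∀ r : ℕ, [Fact r.Prime] → Nat.card (Sylow r (⊤ : Subgroup G)) ∣ Nat.card G ∧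
        Nat.card (Sylow r (⊤ : Subgroup G)) % r = 1 := fun r _ => by
      have := hSylcard r (⊤ : Subgroup G)
      rwa [Subgroup.card_top] at this
    have h5' := hsyl5 ⊤ inferInstance (by rw [Subgroup.card_top, hk]; exact dvd_mul_of_dvd_left (by norm_num) _)
    obtain ⟨h5d, h5m⟩ := hTop 5
    have h30 := hno30 ⊤ inferInstance
    rw [Subgroup.card_top] at h30
    have hk4 : k ≤ 4 := by omega
    revert h5d h5m h5'
    generalize Nat.card (Sylow 5 (⊤ : Subgroup G)) = n
    intro h5' h5d h5m
    rw [hk] at h5d hmul h30 ⊢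
    have hk0 : k ≠ 0 := by rintro rfl; omega
    have hn : n ≤ 60 := (Nat.le_of_dvd (by omega) h5d).trans (by omega)
    rcases (show k = 1 ∨ k = 2 ∨ k = 3 ∨ k = 4 by omega) with rfl | rfl | rfl | rfl
    · exfalso; interval_cases n <;> omega
    · omega
    · exfalso; interval_cases n <;> omega
    · rfl
  -- simplicity
  haveI : Nontrivial G := Finite.one_lt_card_iff_nontrivial.1 (by omega)
  haveI : IsSimpleGroup G := by
    refine ⟨fun K hK => or_iff_not_imp_left.2 fun hne => ?_⟩
    by_contra htop
    haveI := hK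
    have hnf : MulAction.fixedPoints K α ≠ Set.univ := by
      intro hu
      apply hne
      rw [eq_bot_iff]
      intro k hk
      rw [Subgroup.mem_bot]
      apply Subtype.ext
      ext a
      exact (Set.eq_univ_iff_forall.1 hu a : a ∈ MulAction.fixedPoints K α) ⟨k, hk⟩
    haveI := IsQuasiPreprimitive.isPretransitive_of_normal (G := G) (N := K) hnf
    obtain ⟨a⟩ : Nonempty α := inferInstance
    have h := index_stabilizer_of_transitive (G := K) a
    rw [h6] at h
    have hd6 : 6 ∣ Nat.card K := h ▸ (stabilizer K a).index_dvd_card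
    have hd60 : Nat.card K ∣ 60 := hG60 ▸ K.card_subgroup_dvd_card
    have hne60 : Nat.card K ≠ 60 := fun h => htop (Subgroup.eq_top_of_card_eq K (h.trans hG60.symm))
    have hcases : Nat.card K = 6 ∨ Nat.card K = 12 ∨ Nat.card K = 30 := by
      have hle := Nat.le_of_dvd (by norm_num) hd60
      revert hd6 hd60 hne60
      interval_cases (Nat.card K) <;> norm_num
    rcases hcases with h | h | h
    · have h3 := hSylcard 3 K
      have h3' := hsyl3 K hK (by rw [h]; norm_num)
      rw [h] at h3
      obtain ⟨hd, hm⟩ := h3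
      have := Nat.le_of_dvd (by norm_num) hd
      revert hd hm h3'
      interval_cases (Nat.card (Sylow 3 K)) <;> norm_num
    · -- a normal subgroup of order twelve has a normal Sylow subgroup
      haveI : Fact (Nat.Prime 2) := ⟨Nat.prime_two⟩
      have h2 := hSylcard 2 K
      have h2' : Nat.card (Sylow 2 K) ≠ 1 := fun e =>
        hnoS 2 K hK Nat.prime_two (by rw [h]; norm_num) e
      have h3 := hSylcard 3 K
      have h3' := hsyl3 K hK (by rw [h]; norm_num)
      rw [h] at h2 h3
      have hn3 : Nat.card (Sylow 3 K) = 4 := by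
        obtain ⟨hd, hm⟩ := h3
        have := Nat.le_of_dvd (by norm_num) hd
        revert hd hm h3'
        interval_cases (Nat.card (Sylow 3 K)) <;> norm_num
      haveI := Fintype.ofFinite K
      haveI := Fintype.ofFinite (Sylow 3 K)
      apply h2'
      obtain ⟨S⟩ : Nonempty (Sylow 2 K) := inferInstance
      refine Nat.card_eq_one_iff_unique.2 ⟨⟨fun A B => ?_⟩, ⟨S⟩⟩
      -- both Sylow 2-subgroups consist of the elements outside the order-three elements
      have h3el : 8 ≤ (Finset.univ.filter fun x : K => orderOf x = 3).card := by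
        have hS3 : ∀ U : Sylow 3 K, Nat.card U = 3 := fun U => by
          rw [U.card_eq_multiplicity, h, show (12 : ℕ) = 3 ^ 1 * 4 by norm_num,
            Nat.factorization_mul (by norm_num) (by norm_num), Finsupp.add_apply,
            Nat.Prime.factorization_pow (by norm_num), Finsupp.single_eq_same,
            Nat.factorization_eq_zero_of_not_dvd (show ¬ 3 ∣ 4 by norm_num)]
          rfl
        have hsub : (Finset.univ : Finset (Sylow 3 K)).biUnion (fun U => Finset.univ.filter fun x : K =>
            x ≠ 1 ∧ x ∈ (U : Subgroup K)) ⊆ Finset.univ.filter fun x : K => orderOf x = 3 := by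
          intro x hx
          simp only [Finset.mem_biUnion, Finset.mem_filter, Finset.mem_univ, true_and] at hx ⊢
          obtain ⟨U, hx1, hxU⟩ := hx
          have := Subgroup.orderOf_dvd_natCard (U : Subgroup K) hxU
          rw [hS3] at this
          exact ((Nat.dvd_prime (by norm_num)).1 this).resolve_left fun h => hx1 (orderOf_eq_one_iff.1 h)
        refine le_trans (le_of_eq ?_) (Finset.card_le_card hsub)
        rw [Finset.card_biUnion, Finset.sum_congr rfl (g := fun _ => 2) (fun U _ => ?_), Finset.sum_const,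
          Finset.card_univ, smul_eq_mul, ← Nat.card_eq_fintype_card, hn3]
        · have e : (Finset.univ.filter fun x : K => x ≠ 1 ∧ x ∈ (U : Subgroup K)) =
              (Finset.univ.filter fun x : K => x ∈ (U : Subgroup K)).erase 1 := by
            ext x; simp
          rw [e, Finset.card_erase_of_mem (by simp [one_mem]), ← Fintype.card_subtype,
            ← Nat.card_eq_fintype_card]
          exact congrArg (· - 1) (hS3 U)
        · intro U _ V _ hUV
          rw [Function.onFun, Finset.disjoint_left]
          intro x hx hx'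
          simp only [Finset.mem_filter, Finset.mem_univ, true_and] at hx hx'
          apply hUV
          have hgen : ∀ W : Sylow 3 K, x ∈ (W : Subgroup K) → Subgroup.zpowers x = (W : Subgroup K) := by
            intro W hW
            refine Subgroup.eq_of_le_of_card_ge (Subgroup.zpowers_le.2 hW) ?_
            have := Subgroup.orderOf_dvd_natCard (W : Subgroup K) hW
            rw [hS3] at this
            rw [Nat.card_zpowers, ((Nat.dvd_prime (by norm_num)).1 this).resolve_left
              fun h => hx.1 (orderOf_eq_one_iff.1 h), hS3]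
          exact Sylow.ext ((hgen U hx.2).symm.trans (hgen V hx'.2))
      have hkey : ∀ U : Sylow 2 K, (Finset.univ.filter fun x : K => x ∈ (U : Subgroup K)) =
          (Finset.univ.filter fun x : K => orderOf x = 3)ᶜ := by
        intro U
        refine Finset.eq_of_subset_of_card_le (fun x hx => ?_) ?_
        · simp only [Finset.mem_compl, Finset.mem_filter, Finset.mem_univ, true_and] at hx ⊢
          intro h3x
          have h3d : orderOf x ∣ Nat.card U := Subgroup.orderOf_dvd_natCard (U : Subgroup K) hx
          obtain ⟨n, hn⟩ := U.2.exists_card_eq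
          rw [h3x, hn] at h3d
          have := (Nat.prime_dvd_prime_iff_eq (by norm_num) Nat.prime_two).1
            ((show Nat.Prime 3 by norm_num).dvd_of_dvd_pow h3d)
          omega
        · rw [Finset.card_compl, ← Nat.card_eq_fintype_card, h, ← Fintype.card_subtype,
            ← Nat.card_eq_fintype_card]
          have hU : Nat.card U = 4 := by
            rw [U.card_eq_multiplicity, h, show (12 : ℕ) = 2 ^ 2 * 3 by norm_num,
              Nat.factorization_mul (by norm_num) (by norm_num), Finsupp.add_apply,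
              Nat.Prime.factorization_pow Nat.prime_two, Finsupp.single_eq_same,
              Nat.factorization_eq_zero_of_not_dvd (show ¬ 2 ∣ 3 by norm_num)]
            rfl
          have e := h3el
          rw [← Fintype.card_subtype, ← Nat.card_eq_fintype_card] at e
          have hU2 : (Finset.univ.filter fun x : K => x ∈ (U : Subgroup K)).card = 4 := by
            rw [← Fintype.card_subtype, ← Nat.card_eq_fintype_card]; exact hU
          rw [hU2]; omega
      apply Sylow.ext
      ext x
      have := congrArg (fun F : Finset K => x ∈ F) ((hkey A).trans (hkey B).symm)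
      simpa using this
    · exact hno30 K hK h
  exact ⟨5, le_rfl, CfsgLib.Invol.mulEquiv_alternating_five hG60⟩


/-- In degree thirteen, an element of order five fixing three points yields a 3-cycle. -/
theorem thirteen_five {G : Subgroup (Perm α)} [IsPreprimitive G α] (hcard : Fintype.card α = 13)
    [IsMultiplyPretransitive G α 3] {z : Perm α} (hzG : z ∈ G) (hz : orderOf z = 5)
    {a b c : α} (ha : z a = a) (hb : z b = b) (hc : z c = c) (hab : a ≠ b) (hac : a ≠ c) (hbc : b ≠ c) :
    alternatingGroup α ≤ G := by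
  classical
  haveI : Fact (Nat.Prime 5) := ⟨by norm_num⟩
  have hprim : IsPreprimitive G α := inferInstance
  have hsum : ∀ w : Perm α, orderOf w = 5 → ∃ n, w.support.card = 5 * (n + 1) := by
    intro w hw
    obtain ⟨n, hn⟩ := Perm.cycleType_prime_order (σ := w) (by rw [hw]; norm_num)
    exact ⟨n, by rw [← w.sum_cycleType, hn, Multiset.sum_replicate, smul_eq_mul, hw, mul_comm]⟩
  have hfive : ∀ w ∈ G, orderOf w = 5 → w.support.card < 10 → alternatingGroup α ≤ G := by
    intro w hwG hw hlt
    obtain ⟨n, hn⟩ := hsum w hw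
    have h5 : w.support.card = 5 := by omega
    exact alternatingGroup_le_of_prime_cycle hprim hwG
      (Perm.isCycle_of_prime_order (by rw [hw]; norm_num) (by rw [hw]; omega))
      (by norm_num) h5 (by rw [Nat.card_eq_fintype_card]; omega)
  obtain ⟨n, hn⟩ := hsum z hz
  have hsubset : z.support ⊆ ({a, b, c} : Finset α)ᶜ := by
    intro y hy
    simp only [Finset.mem_compl, Finset.mem_insert, Finset.mem_singleton]
    rintro (rfl | rfl | rfl)
    · exact Perm.mem_support.1 hy ha
    · exact Perm.mem_support.1 hy hb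
    · exact Perm.mem_support.1 hy hc
  have hthree : ({a, b, c} : Finset α).card = 3 := Finset.card_eq_three.2 ⟨a, b, c, hab, hac, hbc, rfl⟩
  have hle := Finset.card_le_card hsubset
  rw [Finset.card_compl, hthree, hcard] at hle
  by_cases h5 : z.support.card < 10
  · exact hfive z hzG hz h5
  have hsupp : z.support = ({a, b, c} : Finset α)ᶜ :=
    Finset.eq_of_subset_of_card_le hsubset (by rw [Finset.card_compl, hthree, hcard]; omega)
  have h10 : z.support.card = 10 := by omega
  by_cases hsyl : 5 ^ 2 ∣ Nat.card (fixingSubgroup G ((z.support : Set α)ᶜ))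
  · -- a subgroup of order 25 contains a 5-cycle
    obtain ⟨E, hE⟩ := Sylow.exists_subgroup_card_pow_prime (G := fixingSubgroup G ((z.support : Set α)ᶜ)) 5 hsyl
    obtain ⟨y, hy⟩ : ∃ y, y ∈ z.support := Finset.card_pos.1 (by omega)
    obtain ⟨e, f, hef, hey⟩ : ∃ e f : E, e ≠ f ∧
        (((e : fixingSubgroup G ((z.support : Set α)ᶜ)) : G) : Perm α) y =
          (((f : fixingSubgroup G ((z.support : Set α)ᶜ)) : G) : Perm α) y := by
      by_contra h
      push Not at h
      have : Nat.card E ≤ Nat.card α := Nat.card_le_card_of_injective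
        (fun e : E => (((e : fixingSubgroup G ((z.support : Set α)ᶜ)) : G) : Perm α) y)
        fun e f hef => by_contra fun hne => h e f hne hef
      rw [hE, Nat.card_eq_fintype_card, hcard] at this
      norm_num at this
    set u : E := e⁻¹ * f
    set w : Perm α := (((u : fixingSubgroup G ((z.support : Set α)ᶜ)) : G) : Perm α) with hw
    have hwy : w y = y := by
      simp [w, u, hey.symm]
    have hwfix : ∀ x ∉ z.support, w x = x := fun x hx =>
      (mem_fixingSubgroup_iff G).1 (u : fixingSubgroup G ((z.support : Set α)ᶜ)).2 x (by simpa using hx)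
    have hwsub : w.support ⊆ z.support.erase y := by
      intro x hx
      rw [Perm.mem_support] at hx
      refine Finset.mem_erase.2 ⟨fun h => hx (h ▸ hwy), ?_⟩
      by_contra hxs
      exact hx (hwfix x hxs)
    have hwlt : w.support.card < 10 := by
      have := Finset.card_le_card hwsub
      rw [Finset.card_erase_of_mem hy] at this
      omega
    have hu1 : u ≠ 1 := fun h => hef (inv_mul_eq_one.1 h)
    have hou : orderOf w = orderOf u := by
      rw [hw, Subgroup.orderOf_coe, Subgroup.orderOf_coe, Subgroup.orderOf_coe]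
    have hd : orderOf w ∣ 5 ^ 2 := by rw [hou, ← hE]; exact orderOf_dvd_natCard u
    obtain ⟨i, hi2, hi⟩ := (Nat.dvd_prime_pow (by norm_num)).1 hd
    rcases (show i = 0 ∨ i = 1 ∨ i = 2 by omega) with rfl | rfl | rfl
    · exact absurd (orderOf_eq_one_iff.1 (hou.symm.trans hi)) hu1
    · exact hfive w ((u : fixingSubgroup G ((z.support : Set α)ᶜ)) : G).2 (by simpa using hi) hwlt
    · exfalso
      have hct := w.lcm_cycleType
      have hall : ∀ k ∈ w.cycleType, k = 5 := by
        intro k hk
        have h2 := Perm.two_le_of_mem_cycleType hk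
        have hkd : k ∣ 5 ^ 2 := hi ▸ Perm.dvd_of_mem_cycleType hk
        have hks : k ≤ w.support.card := Perm.le_card_support_of_mem_cycleType hk
        obtain ⟨j, hj, rfl⟩ := (Nat.dvd_prime_pow (by norm_num)).1 hkd
        rcases (show j = 0 ∨ j = 1 ∨ j = 2 by omega) with rfl | rfl | rfl
        · norm_num at h2
        · norm_num
        · norm_num at hks; omega
      have : orderOf w ∣ 5 := by
        rw [← hct, Multiset.lcm_dvd]
        exact fun k hk => (hall k hk).dvd
      rw [hi] at this
      norm_num at this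
  have hcent10 : ∀ d : Perm α, Commute d z → ∀ y ∈ z.support, (d ^ 10) y = y := by
    intro d hd y hy
    have hdisp : ∀ (e : Perm α), Commute e z → ∀ i : ℤ, e y = (z ^ i) y →
        (e ^ 5) y = y := by
      intro e he i hei
      have key : ∀ n : ℕ, (e ^ n) y = ((z ^ i) ^ n) y := by
        intro n
        induction n with
        | zero => simp
        | succ n ih =>
          rw [pow_succ' e, Perm.mul_apply, ih, ← Perm.mul_apply,
            ((he.zpow_right i).pow_right n).eq, Perm.mul_apply, hei, ← Perm.mul_apply, ← pow_succ]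
      rw [key, ← zpow_natCast, ← zpow_mul, mul_comm, zpow_mul, zpow_natCast, ← hz, pow_orderOf_eq_one,
        one_zpow, Perm.one_apply]
    by_cases h1 : ∃ i : ℤ, d y = (z ^ i) y
    · obtain ⟨i, hi⟩ := h1
      rw [show 10 = 5 * 2 from rfl, pow_mul]
      exact Perm.pow_apply_eq_self_of_apply_eq_self (hdisp d hd i hi) 2
    by_cases h2 : ∃ i : ℤ, (d ^ 2) y = (z ^ i) y
    · obtain ⟨i, hi⟩ := h2
      rw [show 10 = 2 * 5 from rfl, pow_mul]
      exact hdisp (d ^ 2) (hd.pow_left 2) i hi
    exfalso
    push Not at h1 h2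
    have hmem : ∀ n : ℕ, (d ^ n) y ∈ z.support := by
      intro n
      induction n with
      | zero => simpa using hy
      | succ n ih =>
        rw [pow_succ' d, Perm.mul_apply]
        rw [Perm.mem_support] at ih ⊢
        intro h
        apply ih
        apply d.injective
        rw [← Perm.mul_apply, hd.eq, Perm.mul_apply, h]
    have hzmem : ∀ (i : ℕ) (x : α), x ∈ z.support → (z ^ i) x ∈ z.support := fun i x hx =>
      Perm.pow_apply_mem_support.2 hx
    -- fifteen points in a set of ten
    have hinj : Function.Injective fun w : Fin 3 × Fin 5 => (z ^ (w.2 : ℕ)) ((d ^ (w.1 : ℕ)) y) := by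
      rintro ⟨j, i⟩ ⟨j', i'⟩ h
      have h' : (d ^ (j : ℕ)) ((z ^ (i : ℕ)) y) = (d ^ (j' : ℕ)) ((z ^ (i' : ℕ)) y) := by
        have e : ∀ n m : ℕ, (z ^ m) ((d ^ n) y) = (d ^ n) ((z ^ m) y) := fun n m => by
          rw [← Perm.mul_apply, ← Perm.mul_apply, (hd.pow_pow n m).eq]
        simp only at h
        rw [e, e] at h
        exact h
      have key : ∀ (n : ℕ) (k l : ℕ), n ≠ 0 → n < 3 → (d ^ n) ((z ^ k) y) ≠ (z ^ l) y := by
        intro n k l hn0 hn3 e
        have e2 : (d ^ n) y = (z ^ ((l : ℤ) - k)) y := by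
          rw [← Perm.mul_apply, (hd.pow_pow n k).eq, Perm.mul_apply, ← Perm.eq_inv_iff_eq] at e
          rw [e, ← Perm.mul_apply, sub_eq_neg_add, zpow_add, zpow_neg, zpow_natCast, zpow_natCast]
        rcases (show n = 1 ∨ n = 2 by omega) with rfl | rfl
        · exact h1 _ (by simpa using e2)
        · exact h2 _ e2
      have hjj : (j : ℕ) = j' := by
        by_contra hne
        rcases Nat.lt_or_gt_of_ne hne with hlt | hlt
        · obtain ⟨k, hk⟩ := Nat.exists_eq_add_of_lt hlt
          rw [hk, add_assoc, pow_add, Perm.mul_apply] at h'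
          exact key (k + 1) i' i (by omega) (by omega) ((d ^ (j : ℕ)).injective h').symm
        · obtain ⟨k, hk⟩ := Nat.exists_eq_add_of_lt hlt
          rw [hk, add_assoc, pow_add, Perm.mul_apply] at h'
          exact key (k + 1) i i' (by omega) (by omega) ((d ^ (j' : ℕ)).injective h')
      rw [hjj] at h'
      have h'' := (d ^ (j' : ℕ)).injective h'
      have hii : (i : ℕ) = i' := by
        by_contra hne
        have hmove : ∀ n m : ℕ, n < m → m < 5 → (z ^ n) y ≠ (z ^ m) y := by
          intro n m hnm hm e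
          obtain ⟨k, rfl⟩ := Nat.exists_eq_add_of_lt hnm
          rw [add_assoc, pow_add, Perm.mul_apply] at e
          have hk : (z ^ (k + 1)) y = y := ((z ^ n).injective e).symm
          apply Perm.mem_support.1 hy
          obtain ⟨m', hm'⟩ := Nat.exists_mul_mod_eq_one_of_coprime (show Nat.Coprime (k + 1) 5 from
            Nat.coprime_comm.1 ((show Nat.Prime 5 by norm_num).coprime_iff_not_dvd.2
              (Nat.not_dvd_of_pos_of_lt (by omega) (by omega)))) (by norm_num)
          have : z = (z ^ (k + 1)) ^ m' := by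
            rw [← pow_mul, ← pow_mod_orderOf, hz, hm'.2, pow_one]
          rw [this]
          exact Perm.pow_apply_eq_self_of_apply_eq_self hk m'
        rcases Nat.lt_or_gt_of_ne hne with hlt | hlt
        · exact hmove i i' hlt i'.2 h''
        · exact hmove i' i hlt i.2 h''.symm
      exact Prod.ext (Fin.ext hjj) (Fin.ext hii)
    have := Finset.card_le_card (show (Finset.univ.image fun w : Fin 3 × Fin 5 =>
        (z ^ (w.2 : ℕ)) ((d ^ (w.1 : ℕ)) y)) ⊆ z.support from fun x hx => by
      obtain ⟨w, -, rfl⟩ := Finset.mem_image.1 hx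
      exact hzmem _ _ (hmem _))
    rw [Finset.card_image_of_injective _ hinj, Finset.card_univ, Fintype.card_prod, Fintype.card_fin,
      Fintype.card_fin, h10] at this
    omega
  obtain ⟨t, ht, ht3⟩ := exists_threeCycle_of_three_fixed (G := G) (p := 5) z hzG hz 10 (by norm_num)
    hcent10 hsyl a b c (fun h => Perm.mem_support.1 h ha)
    (fun h => Perm.mem_support.1 h hb) (fun h => Perm.mem_support.1 h hc) hab hac hbc
    (fun u v hu hv => by
      obtain ⟨g, hg, hg'⟩ := exists_swap_on (G := G) (z.supportᶜ) (k := 3)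
        (by rw [Finset.card_compl, hcard, h10]) u v (Finset.mem_compl.2 hu) (Finset.mem_compl.2 hv)
      exact ⟨g, hg, fun y hy => hg' y (Finset.mem_compl.2 hy)⟩)
  exact Equiv.Perm.alternatingGroup_le_of_isPreprimitive_of_isThreeCycle_mem hprim ht3 ht

/-- Degree thirteen: a transitive group of even permutations with an 11-cycle and a 13-cycle. -/
theorem thirteen {G : Subgroup (Perm α)} (hA : G ≤ alternatingGroup α) [IsPretransitive G α]
    (hcard : Fintype.card α = 13) {X Y : Perm α} (hXG : X ∈ G) (hYG : Y ∈ G) (hXc : X.IsCycle)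
    (hX : X.support.card = 11) (hYc : Y.IsCycle) (hY : Y.support.card = 13) :
    alternatingGroup α ≤ G := by
  classical
  haveI hprim : IsPreprimitive G α :=
    isPreprimitive_of_prime_cycle hYG hYc (by norm_num) hY (by rw [Nat.card_eq_fintype_card]; omega)
  haveI h3 : IsMultiplyPretransitive G α 3 :=
    isMultiplyPretransitive_of_prime_cycle hprim hXG hXc (k := 2) (by norm_num) hX (by norm_num)
      (by rw [Nat.card_eq_fintype_card, hcard])
  haveI h2 : IsMultiplyPretransitive G α 2 :=
    isMultiplyPretransitive_of_le (G := G) (α := α) (m := 2) (n := 3) (by norm_num)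
      (by rw [Nat.card_eq_fintype_card]; omega)
  haveI : Fact (Nat.Prime 11) := ⟨by norm_num⟩
  have hcardα : Nat.card α = 13 := by rw [Nat.card_eq_fintype_card, hcard]
  have hord : orderOf X = 11 := orderOf_of_isCycle hXc hX
  obtain ⟨a, b, hab, hcompl⟩ := Finset.card_eq_two.1
    (show (X.supportᶜ).card = 2 by rw [Finset.card_compl, hX, hcard])
  have hsupp : ∀ y, y ∈ X.support ↔ y ≠ a ∧ y ≠ b := by
    intro y
    have := congrArg (fun s : Finset α => y ∈ s) hcompl
    simp only [Finset.mem_compl, Finset.mem_insert, Finset.mem_singleton, eq_iff_iff] at this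
    tauto
  have hXa : X a = a := Perm.notMem_support.1 fun h => ((hsupp a).1 h).1 rfl
  have hXb : X b = b := Perm.notMem_support.1 fun h => ((hsupp b).1 h).2 rfl
  -- a third point
  obtain ⟨c, hc⟩ : ∃ c, c ∈ X.support := Finset.card_pos.1 (by omega)
  have hca := ((hsupp c).1 hc).1
  have hcb := ((hsupp c).1 hc).2
  set H2 := fixingSubgroup G ({a, b} : Set α) with hH2
  set H3 := fixingSubgroup G ({a, b, c} : Set α) with hH3
  have hn2 : ({a, b} : Set α).ncard = 2 := Set.ncard_pair hab
  have hn3 : ({a, b, c} : Set α).ncard = 3 := by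
    rw [Set.ncard_insert_of_notMem (by simp [hab, hca.symm]), Set.ncard_pair hcb.symm]
  have hi2 : H2.index = 156 := by
    have h := IsMultiplyPretransitive.index_of_fixingSubgroup_mul h2 hn2
    rw [hcardα] at h
    rw [show Nat.factorial 13 = 156 * Nat.factorial 11 by norm_num [Nat.factorial]] at h
    exact Nat.eq_of_mul_eq_mul_right (Nat.factorial_pos 11) h
  have hi3 : H3.index = 1716 := by
    have h := IsMultiplyPretransitive.index_of_fixingSubgroup_mul h3 hn3
    rw [hcardα] at h
    rw [show Nat.factorial 13 = 1716 * Nat.factorial 10 by norm_num [Nat.factorial]] at h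
    exact Nat.eq_of_mul_eq_mul_right (Nat.factorial_pos 10) h
  have hk2 : Nat.card H2 = 11 * Nat.card H3 := by
    have e2 := H2.card_mul_index
    have e3 := H3.card_mul_index
    rw [hi2] at e2
    rw [hi3] at e3
    omega
  by_cases h5 : 5 ∣ Nat.card H3
  · haveI : Fact (Nat.Prime 5) := ⟨by norm_num⟩
    obtain ⟨z, hz⟩ := exists_prime_orderOf_dvd_card' (G := H3) 5 h5
    have hzfix : ∀ y ∈ ({a, b, c} : Set α), ((z : G) : Perm α) y = y := fun y hy =>
      (mem_fixingSubgroup_iff G).1 z.2 y hy
    exact thirteen_five hcard (z : G).2 (by rw [Subgroup.orderOf_coe, Subgroup.orderOf_coe, hz])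
      (hzfix a (by simp)) (hzfix b (by simp)) (hzfix c (by simp)) hab hca.symm hcb.symm
  exfalso
  have hXfix : (⟨X, hXG⟩ : G) ∈ H2 := by
    rw [hH2, mem_fixingSubgroup_iff]
    rintro y (rfl | rfl)
    · exact hXa
    · exact hXb
  set x : H2 := ⟨⟨X, hXG⟩, hXfix⟩ with hx
  have hxo : orderOf x = 11 := by rw [← Subgroup.orderOf_coe, ← Subgroup.orderOf_coe]; exact hord
  have hH2fix : ∀ w : H2, ((w : G) : Perm α) a = a ∧ ((w : G) : Perm α) b = b := fun w =>
    ⟨(mem_fixingSubgroup_iff G).1 w.2 a (by simp), (mem_fixingSubgroup_iff G).1 w.2 b (by simp)⟩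
  -- the centralizer of `x` in `H2`
  have hcent : ∀ w : H2, Commute w x → w ∈ Subgroup.zpowers x := by
    intro w hw
    have hW : Commute ((w : G) : Perm α) X := congrArg (fun u : H2 => ((u : G) : Perm α)) hw.eq
    obtain ⟨i, hi⟩ := hXc.exists_zpow_eq (Perm.mem_support.1 hc)
      (Perm.mem_support.1 (zpow_apply_of_isCycle hXc hW hc))
    refine Subgroup.mem_zpowers_iff.2 ⟨i, Subtype.ext (Subtype.ext ?_)⟩
    simp only [hx, SubgroupClass.coe_zpow]
    ext y
    by_cases hy : y ∈ X.support
    · obtain ⟨j, rfl⟩ := hXc.exists_zpow_eq (Perm.mem_support.1 hc) (Perm.mem_support.1 hy)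
      rw [← Perm.mul_apply, ← Perm.mul_apply, (hW.zpow_right j).eq, (Commute.zpow_zpow_self X i j).eq,
        Perm.mul_apply, Perm.mul_apply, hi]
    · rw [Perm.zpow_apply_eq_self_of_apply_eq_self (Perm.notMem_support.1 hy)]
      rw [hsupp] at hy
      rcases (show y = a ∨ y = b by tauto) with rfl | rfl
      · exact (hH2fix w).1.symm
      · exact (hH2fix w).2.symm
  have hk3 : ¬ 11 ∣ Nat.card H3 := by
    intro hd
    obtain ⟨z, hz⟩ := exists_prime_orderOf_dvd_card' (G := H3) 11 hd
    have hzo : orderOf ((z : G) : Perm α) = 11 := by rw [Subgroup.orderOf_coe, Subgroup.orderOf_coe, hz]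
    obtain ⟨n, hn⟩ := Perm.cycleType_prime_order (σ := ((z : G) : Perm α)) (by rw [hzo]; norm_num)
    have hs : ((z : G) : Perm α).support.card = 11 * (n + 1) := by
      rw [← Perm.sum_cycleType, hn, Multiset.sum_replicate, smul_eq_mul, hzo, mul_comm]
    have hsub : ((z : G) : Perm α).support ⊆ ({a, b, c} : Finset α)ᶜ := by
      intro y hy
      simp only [Finset.mem_compl, Finset.mem_insert, Finset.mem_singleton]
      intro hy'
      exact Perm.mem_support.1 hy ((mem_fixingSubgroup_iff G).1 z.2 y hy')
    have hle := Finset.card_le_card hsub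
    rw [Finset.card_compl, Finset.card_eq_three.2 ⟨a, b, c, hab, hca.symm, hcb.symm, rfl⟩, hcard, hs] at hle
    omega
  let P : Sylow 11 H2 := (IsPGroup.of_card (n := 1) (G := Subgroup.zpowers x)
    (by rw [Nat.card_zpowers, hxo, pow_one])).toSylow (by
      intro hd
      have h := Subgroup.card_mul_index (Subgroup.zpowers x)
      rw [Nat.card_zpowers, hxo, hk2] at h
      exact hk3 (Nat.eq_of_mul_eq_mul_left (by norm_num) h ▸ hd))
  -- normalising elements centralise
  have hNC : Subgroup.normalizer ((P : Subgroup H2) : Set H2) ≤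
      Subgroup.centralizer ((P : Subgroup H2) : Set H2) := by
    have hPc : IsCyclic P := isCyclic_of_prime_card (p := 11) (by
      show Nat.card (Subgroup.zpowers x) = 11
      rw [Nat.card_zpowers, hxo])
    rw [← Subgroup.relIndex_eq_one]
    set i := (Subgroup.centralizer ((P : Subgroup H2) : Set H2)).relIndex
      (Subgroup.normalizer ((P : Subgroup H2) : Set H2)) with hi
    have h10 : i ∣ 10 := by
      have := Cfsg.Agent.S4304.relIndex_dvd_totient (P : Subgroup H2) hPc
      rwa [show Nat.card (P : Subgroup H2) = 11 by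
        show Nat.card (Subgroup.zpowers x) = 11
        rw [Nat.card_zpowers, hxo], Nat.totient_prime (by norm_num)] at this
    by_contra hne
    have hiN : i ∣ Nat.card (Subgroup.normalizer ((P : Subgroup H2) : Set H2)) :=
      Subgroup.relIndex_dvd_card _ _
    have hN5 : ¬ 5 ∣ i := fun h => h5 (by
      have h1 := (h.trans hiN).trans (Subgroup.card_subgroup_dvd_card _)
      rw [hk2] at h1
      exact (Nat.Coprime.dvd_mul_left (by norm_num)).1 h1)
    have h2i : 2 ∣ i := by
      have hle := Nat.le_of_dvd (by norm_num) h10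
      revert h10 hne hN5
      interval_cases i <;> norm_num
    haveI : Fact (Nat.Prime 2) := ⟨Nat.prime_two⟩
    obtain ⟨σ, hσ⟩ := exists_prime_orderOf_dvd_card'
      (G := Subgroup.normalizer ((P : Subgroup H2) : Set H2)) 2 (h2i.trans hiN)
    set S : Perm α := (((σ : H2) : G) : Perm α) with hS
    have hSo : orderOf S = 2 := by
      rw [hS, Subgroup.orderOf_coe, Subgroup.orderOf_coe, Subgroup.orderOf_coe, hσ]
    have hS2 : S * S = 1 := by
      rw [← pow_two, ← hSo, pow_orderOf_eq_one]
    obtain ⟨j, hj⟩ : ∃ j : ℕ, S * X * S⁻¹ = X ^ j := by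
      have hm := (Subgroup.mem_normalizer_iff.1 σ.2 x).1 (Subgroup.mem_zpowers x)
      obtain ⟨j, hj⟩ := (mem_powers_iff_mem_zpowers (x := x)).2 hm
      exact ⟨j, (congrArg (fun u : H2 => ((u : G) : Perm α)) hj).symm⟩
    have hjj : X ^ (j * j) = X := by
      have e : S * (S * X * S⁻¹) * S⁻¹ = X := by
        rw [mul_assoc S X, ← mul_assoc S S, hS2, one_mul, mul_assoc, ← mul_inv_rev, hS2, inv_one, mul_one]
      rw [hj, ← conj_pow, hj, ← pow_mul] at e
      exact e
    have hj2 : j % 11 = 1 ∨ j % 11 = 10 := by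
      have h := pow_eq_pow_iff_modEq.1 (hjj.trans (pow_one X).symm)
      rw [hord, Nat.ModEq, Nat.mul_mod] at h
      have : j % 11 < 11 := Nat.mod_lt _ (by norm_num)
      interval_cases (j % 11) <;> simp_all
    rcases hj2 with hj1 | hj10
    · -- then it centralises
      have hcm : Commute (σ : H2) x := by
        have e : S * X * S⁻¹ = X := by rw [hj, ← pow_mod_orderOf, hord, hj1, pow_one]
        apply Subtype.ext; apply Subtype.ext
        exact mul_inv_eq_iff_eq_mul.1 e
      have hm := orderOf_dvd_natCard (⟨(σ : H2), hcent _ hcm⟩ : Subgroup.zpowers x)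
      rw [Nat.card_zpowers, hxo, Subgroup.orderOf_mk, Subgroup.orderOf_coe, hσ] at hm
      norm_num at hm
    · -- an inverting involution is odd
      have hinv : S * X * S⁻¹ = X⁻¹ := by
        rw [hj, ← pow_mod_orderOf, hord, hj10, eq_inv_iff_mul_eq_one, ← pow_succ]
        exact (congrArg (fun n => X ^ n) hord).symm.trans (pow_orderOf_eq_one X)
      have hcomm : ∀ i : ℤ, ∀ y, S ((X ^ i) y) = (X ^ (-i)) (S y) := by
        intro i y
        have : S * X ^ i = X ^ (-i) * S := by
          rw [← mul_inv_eq_iff_eq_mul, ← conj_zpow, hinv, inv_zpow, zpow_neg]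
        rw [← Perm.mul_apply, this, Perm.mul_apply]
      have hSa : S a = a := (hH2fix _).1
      have hSb : S b = b := (hH2fix _).2
      have hScs : S c ∈ X.support := (hsupp _).2
        ⟨fun h => hca (S.injective (h.trans hSa.symm)), fun h => hcb (S.injective (h.trans hSb.symm))⟩
      obtain ⟨l, hl⟩ := hXc.exists_zpow_eq (Perm.mem_support.1 hc) (Perm.mem_support.1 hScs)
      have h11 : ∀ m : ℤ, X ^ (11 * m) = 1 := fun m => by
        rw [zpow_mul, show (11 : ℤ) = ((11 : ℕ) : ℤ) from rfl, zpow_natCast, ← hord, pow_orderOf_eq_one,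
          one_zpow]
      set z0 := (X ^ (6 * l)) c with hz0
      have hz0fix : S z0 = z0 := by
        rw [hz0, hcomm, ← hl, ← Perm.mul_apply, ← zpow_add,
          show -(6 * l) + l = 6 * l + 11 * (-l) by ring, zpow_add, h11, mul_one]
      have hz0s : z0 ∈ X.support := Perm.zpow_apply_mem_support.2 hc
      have hsuppS : S.support = X.support.erase z0 := by
        ext y
        rw [Finset.mem_erase, Perm.mem_support]
        constructor
        · intro hy
          refine ⟨fun h => hy (h ▸ hz0fix), (hsupp y).2 ⟨fun h => hy (h ▸ hSa), fun h => hy (h ▸ hSb)⟩⟩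
        · rintro ⟨hne, hy⟩ hfix
          obtain ⟨t, rfl⟩ := hXc.exists_zpow_eq (Perm.mem_support.1 hz0s) (Perm.mem_support.1 hy)
          rw [hcomm, hz0fix] at hfix
          have e : (X ^ (2 * t)) z0 = z0 := by
            rw [two_mul, zpow_add, Perm.mul_apply, ← hfix, ← Perm.mul_apply, ← zpow_add, add_neg_cancel,
              zpow_zero, Perm.one_apply]
          apply hne
          rw [show t = 6 * (2 * t) + 11 * (-t) by ring, zpow_add, h11, mul_one, mul_comm 6 (2 * t), zpow_mul]
          exact Perm.zpow_apply_eq_self_of_apply_eq_self e 6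
      have hsign : Perm.sign S = 1 := Perm.mem_alternatingGroup.1 (hA ((σ : H2) : G).2)
      obtain ⟨n, hn⟩ := Perm.cycleType_prime_order (σ := S) (by rw [hSo]; norm_num)
      have hsum : S.cycleType.sum = 10 := by
        rw [Perm.sum_cycleType, hsuppS, Finset.card_erase_of_mem hz0s, hX]
      rw [hn, Multiset.sum_replicate, smul_eq_mul, hSo] at hsum
      rw [Perm.sign_of_cycleType, hn, Multiset.sum_replicate, Multiset.card_replicate, smul_eq_mul, hSo,
        show n + 1 = 5 by omega] at hsign
      revert hsign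
      decide
  set L := (MonoidHom.transferSylow P hNC).ker
  have hL : L.IsComplement' (P : Subgroup H2) := MonoidHom.ker_transferSylow_isComplement' P hNC
  haveI : L.Normal := MonoidHom.normal_ker _
  have hLc : Nat.card L = Nat.card H3 := by
    have e := hL.card_mul
    rw [show Nat.card (P : Subgroup H2) = 11 by
      show Nat.card (Subgroup.zpowers x) = 11
      rw [Nat.card_zpowers, hxo], hk2] at e
    omega
  -- the complement is trivial
  have hLbot : L = ⊥ := by
    rw [eq_bot_iff]
    intro l hl
    rw [Subgroup.mem_bot]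
    apply Subtype.ext; apply Subtype.ext
    show ((l : G) : Perm α) = 1
    ext y
    by_cases hy : y ∈ X.support
    swap
    · rw [hsupp] at hy
      rcases (show y = a ∨ y = b by tauto) with rfl | rfl
      · exact (hH2fix l).1
      · exact (hH2fix l).2
    by_contra hne
    have hne' : ((l : G) : Perm α) y ≠ y := hne
    have hly : ((l : G) : Perm α) y ∈ X.support := (hsupp _).2
      ⟨fun h => ((hsupp y).1 hy).1 (((l : G) : Perm α).injective (h.trans (hH2fix l).1.symm)),
       fun h => ((hsupp y).1 hy).2 (((l : G) : Perm α).injective (h.trans (hH2fix l).2.symm))⟩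
    obtain ⟨i, hi⟩ := hXc.exists_zpow_eq (Perm.mem_support.1 hy) (Perm.mem_support.1 hly)
    set O : Set α := Set.range fun w : L => (((w : H2) : G) : Perm α) y
    have hstep : ∀ n : ℕ, (X ^ (i * n)) y ∈ O := by
      intro n
      induction n with
      | zero => exact ⟨1, by simp⟩
      | succ n ih =>
        obtain ⟨w, hw⟩ := ih
        refine ⟨⟨x ^ i * (w : H2) * (x ^ i)⁻¹ * l,
          L.mul_mem ((inferInstance : L.Normal).conj_mem _ w.2 _) hl⟩, ?_⟩
        simp only [Subgroup.coe_mul, Subgroup.coe_inv, SubgroupClass.coe_zpow, hx, Perm.mul_apply]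
        simp only at hw
        rw [← hi, ← Perm.mul_apply (X ^ i)⁻¹, inv_mul_cancel, Perm.one_apply, hw, ← Perm.mul_apply, ← zpow_add]
        push_cast
        ring_nf
    have hi11 : ¬ (11 : ℤ) ∣ i := by
      rintro ⟨m, rfl⟩
      apply hne'
      rw [← hi, zpow_mul, show (11 : ℤ) = ((11 : ℕ) : ℤ) from rfl, zpow_natCast, ← hord,
        pow_orderOf_eq_one, one_zpow, Perm.one_apply]
    have hcovO : ∀ z ∈ X.support, z ∈ O := by
      intro z hz
      obtain ⟨j, rfl⟩ := hXc.exists_zpow_eq (Perm.mem_support.1 hy) (Perm.mem_support.1 hz)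
      obtain ⟨u, hu⟩ : ∃ u : ℕ, (i * u : ℤ) % 11 = j % 11 := by
        have key : ∀ i' : Fin 11, i' ≠ 0 → ∀ j' : Fin 11, ∃ u : Fin 11, i' * u = j' := by decide
        have hi0 : 0 ≤ i % 11 ∧ i % 11 < 11 := ⟨Int.emod_nonneg _ (by norm_num), Int.emod_lt_of_pos _ (by norm_num)⟩
        have hj0 : 0 ≤ j % 11 ∧ j % 11 < 11 := ⟨Int.emod_nonneg _ (by norm_num), Int.emod_lt_of_pos _ (by norm_num)⟩
        obtain ⟨u, hu⟩ := key ⟨(i % 11).toNat, by omega⟩ (by
          intro h
          have := congrArg Fin.val h
          simp at this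
          omega) ⟨(j % 11).toNat, by omega⟩
        have hu' := congrArg Fin.val hu
        simp only [Fin.val_mul] at hu'
        refine ⟨u, ?_⟩
        have hu'' : (((i % 11).toNat * (u : ℕ) % 11 : ℕ) : ℤ) = ((j % 11).toNat : ℤ) := by rw [hu']
        push_cast at hu''
        rw [Int.toNat_of_nonneg hi0.1, Int.toNat_of_nonneg hj0.1] at hu''
        rw [← hu'']
        simp [Int.mul_emod, Int.emod_emod_of_dvd]
      have e : X ^ j = X ^ (i * u) := by
        rw [← zpow_mod_orderOf X j, ← zpow_mod_orderOf X (i * u), hord]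
        push_cast
        rw [hu]
      rw [e]
      exact hstep u
    have hO : O ⊆ (X.support : Set α) := by
      rintro _ ⟨w, rfl⟩
      rw [Finset.mem_coe, hsupp]
      exact ⟨fun h => ((hsupp y).1 hy).1 ((((w : H2) : G) : Perm α).injective (h.trans (hH2fix w).1.symm)),
       fun h => ((hsupp y).1 hy).2 ((((w : H2) : G) : Perm α).injective (h.trans (hH2fix w).2.symm))⟩
    have horb : MulAction.orbit L y = (X.support : Set α) := Set.eq_of_subset_of_subset hO hcovO
    have hidx := index_stabilizer (G := L) (x := y)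
    rw [horb, Set.ncard_coe_finset, hX] at hidx
    exact hk3 (hLc ▸ hidx ▸ Subgroup.index_dvd_card _)
  have hk1 : Nat.card H3 = 1 := by rw [← hLc, hLbot, Subgroup.card_bot]
  -- a sharply triply transitive group of degree thirteen
  set H1 := stabilizer G a with hH1
  have hH1c : Nat.card H1 = 132 := by
    have h := index_stabilizer_of_transitive (G := G) a
    rw [hcardα] at h
    have e1 := H1.card_mul_index
    have e3 := H3.card_mul_index
    rw [h] at e1
    rw [hk1, hi3] at e3
    omega
  haveI := Fintype.ofFinite H1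
  have hH3all : ∀ (b' c' : α), a ≠ b' → a ≠ c' → b' ≠ c' → ∀ w : H1,
      ((w : G) : Perm α) b' = b' → ((w : G) : Perm α) c' = c' → w = 1 := by
    intro b' c' hab' hac' hbc' w hwb hwc
    have hn : ({a, b', c'} : Set α).ncard = 3 := by
      rw [Set.ncard_insert_of_notMem (by simp [hab', hac']), Set.ncard_pair hbc']
    have h := IsMultiplyPretransitive.index_of_fixingSubgroup_mul h3 hn
    rw [hcardα] at h
    rw [show Nat.factorial 13 = 1716 * Nat.factorial 10 by norm_num [Nat.factorial]] at h
    have hidx := Nat.eq_of_mul_eq_mul_right (Nat.factorial_pos 10) h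
    have hc1 : Nat.card (fixingSubgroup G ({a, b', c'} : Set α)) = 1 := by
      have e := (fixingSubgroup G ({a, b', c'} : Set α)).card_mul_index
      have e3 := H3.card_mul_index
      rw [hk1, hi3] at e3
      rw [hidx] at e
      omega
    have hw : (w : G) ∈ fixingSubgroup G ({a, b', c'} : Set α) := by
      rw [mem_fixingSubgroup_iff]
      rintro y (rfl | rfl | rfl)
      · exact w.2
      · exact hwb
      · exact hwc
    rw [Subgroup.card_eq_one.1 hc1, Subgroup.mem_bot] at hw
    exact Subtype.ext hw
  set Fb : α → Finset H1 := fun b' => (Finset.univ : Finset H1).filter fun w : H1 =>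
    w ≠ 1 ∧ ((w : G) : Perm α) b' = b' with hFb
  have hFbc : ∀ b', b' ≠ a → (Fb b').card = 10 := by
    intro b' hb'
    have hn : ({a, b'} : Set α).ncard = 2 := Set.ncard_pair hb'.symm
    have h := IsMultiplyPretransitive.index_of_fixingSubgroup_mul h2 hn
    rw [hcardα] at h
    rw [show Nat.factorial 13 = 156 * Nat.factorial 11 by norm_num [Nat.factorial]] at h
    have hidx := Nat.eq_of_mul_eq_mul_right (Nat.factorial_pos 11) h
    have hc11 : Nat.card (fixingSubgroup G ({a, b'} : Set α)) = 11 := by
      have e := (fixingSubgroup G ({a, b'} : Set α)).card_mul_index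
      have e3 := H3.card_mul_index
      rw [hk1, hi3] at e3
      rw [hidx] at e
      omega
    have e : Fb b' = (Finset.univ.filter fun w : H1 => (w : G) ∈ fixingSubgroup G ({a, b'} : Set α)).erase 1 := by
      ext w
      simp only [hFb, Finset.mem_filter, Finset.mem_univ, true_and, Finset.mem_erase]
      refine and_congr_right fun _ => ?_
      rw [mem_fixingSubgroup_iff]
      exact ⟨fun hw y hy => by rcases hy with rfl | rfl; exacts [w.2, hw], fun hw => hw b' (by simp)⟩
    rw [e, Finset.card_erase_of_mem (by simp [one_mem]), ← Fintype.card_subtype, ← Nat.card_eq_fintype_card]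
    have : Nat.card {w : H1 // (w : G) ∈ fixingSubgroup G ({a, b'} : Set α)} = 11 := by
      rw [← hc11]
      exact Nat.card_congr
        { toFun := fun w => ⟨w.1, w.2⟩
          invFun := fun w => ⟨⟨w.1, (mem_fixingSubgroup_iff G).1 w.2 a (by simp)⟩, w.2⟩
          left_inv := fun w => rfl
          right_inv := fun w => rfl }
    rw [this]
  set D : Finset H1 := (Finset.univ : Finset H1).filter fun w : H1 => w ≠ 1 ∧ ∀ y, y ≠ a → ((w : G) : Perm α) y ≠ y with hD
  have hDc : D.card ≤ 11 := by
    have hdisj : ∀ b1 ∈ (Finset.univ.erase a : Finset α), ∀ b2 ∈ (Finset.univ.erase a : Finset α),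
        b1 ≠ b2 → Disjoint (Fb b1) (Fb b2) := by
      intro b1 hb1 b2 hb2 hne
      rw [Finset.disjoint_left]
      intro w h1 h2
      simp only [hFb, Finset.mem_filter] at h1 h2
      exact h1.2.1 (hH3all b1 b2 (Finset.mem_erase.1 hb1).1.symm (Finset.mem_erase.1 hb2).1.symm hne w
        h1.2.2 h2.2.2)
    have hU : ((Finset.univ.erase a : Finset α).biUnion Fb).card = 120 := by
      rw [Finset.card_biUnion hdisj, Finset.sum_congr rfl (g := fun _ => 10)
        (fun b' hb' => hFbc b' (Finset.mem_erase.1 hb').1), Finset.sum_const,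
        Finset.card_erase_of_mem (Finset.mem_univ _), Finset.card_univ, hcard]
      rfl
    have hsub : D ∪ (Finset.univ.erase a : Finset α).biUnion Fb ⊆ (Finset.univ : Finset H1).erase 1 := by
      intro w hw
      rw [Finset.mem_erase]
      refine ⟨?_, Finset.mem_univ _⟩
      rcases Finset.mem_union.1 hw with h | h
      · exact (Finset.mem_filter.1 h).2.1
      · obtain ⟨b', -, h'⟩ := Finset.mem_biUnion.1 h
        exact (Finset.mem_filter.1 h').2.1
    have hd : Disjoint D ((Finset.univ.erase a : Finset α).biUnion Fb) := by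
      rw [Finset.disjoint_left]
      intro w h1 h2
      obtain ⟨b', hb', h'⟩ := Finset.mem_biUnion.1 h2
      exact (Finset.mem_filter.1 h1).2.2 b' (Finset.mem_erase.1 hb').1 (Finset.mem_filter.1 h').2.2
    have := Finset.card_le_card hsub
    rw [Finset.card_union_of_disjoint hd, hU, Finset.card_erase_of_mem (Finset.mem_univ _),
      Finset.card_univ, ← Nat.card_eq_fintype_card, hH1c] at this
    omega
  haveI : Fact (Nat.Prime 2) := ⟨Nat.prime_two⟩
  haveI : Fact (Nat.Prime 3) := ⟨Nat.prime_three⟩
  obtain ⟨w2, hw2⟩ := exists_prime_orderOf_dvd_card' (G := H1) 2 (hH1c ▸ by norm_num)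
  obtain ⟨w3, hw3⟩ := exists_prime_orderOf_dvd_card' (G := H1) 3 (hH1c ▸ by norm_num)
  have hinD : ∀ w : H1, orderOf w = 2 ∨ orderOf w = 3 → w ∈ D := by
    intro w hw
    refine Finset.mem_filter.2 ⟨Finset.mem_univ _, fun h => ?_, fun y hy hfix => ?_⟩
    · rw [h, orderOf_one] at hw; omega
    · have hn : ({a, y} : Set α).ncard = 2 := Set.ncard_pair hy.symm
      have h := IsMultiplyPretransitive.index_of_fixingSubgroup_mul h2 hn
      rw [hcardα] at h
      rw [show Nat.factorial 13 = 156 * Nat.factorial 11 by norm_num [Nat.factorial]] at h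
      have hidx := Nat.eq_of_mul_eq_mul_right (Nat.factorial_pos 11) h
      have hc11 : Nat.card (fixingSubgroup G ({a, y} : Set α)) = 11 := by
        have e := (fixingSubgroup G ({a, y} : Set α)).card_mul_index
        have e3 := H3.card_mul_index
        rw [hk1, hi3] at e3
        rw [hidx] at e
        omega
      have hmem : (w : G) ∈ fixingSubgroup G ({a, y} : Set α) := by
        rw [mem_fixingSubgroup_iff]
        rintro z (rfl | rfl)
        · exact w.2
        · exact hfix
      have := Subgroup.orderOf_dvd_natCard _ hmem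
      rw [hc11, Subgroup.orderOf_coe] at this
      rcases hw with hw | hw <;> rw [hw] at this <;> norm_num at this
  set g1 : H1 := ⟨⟨X, hXG⟩, hXa⟩ with hg1
  have hg1o : orderOf g1 = 11 := by rw [← Subgroup.orderOf_coe, ← Subgroup.orderOf_coe]; exact hord
  set Conj := (Finset.univ : Finset (Fin 11)).image fun n : Fin 11 => g1 ^ (n : ℕ) * w2 * (g1 ^ (n : ℕ))⁻¹ with hConj
  have hConjc : Conj.card = 11 := by
    rw [hConj, Finset.card_image_of_injective, Finset.card_univ, Fintype.card_fin]
    intro n m hnm
    by_contra hne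
    have key : ∀ n m : ℕ, n < m → m < 11 →
        g1 ^ n * w2 * (g1 ^ n)⁻¹ ≠ g1 ^ m * w2 * (g1 ^ m)⁻¹ := by
      intro n m hlt hm e
      obtain ⟨k, rfl⟩ := Nat.exists_eq_add_of_lt hlt
      have hcomm : Commute (g1 ^ (k + 1)) w2 := by
        rw [add_assoc, pow_add] at e
        show g1 ^ (k + 1) * w2 = w2 * g1 ^ (k + 1)
        calc g1 ^ (k + 1) * w2 = (g1 ^ n)⁻¹ * (g1 ^ n * g1 ^ (k + 1) * w2 * (g1 ^ n * g1 ^ (k + 1))⁻¹) *
              g1 ^ n * g1 ^ (k + 1) := by group
          _ = (g1 ^ n)⁻¹ * (g1 ^ n * w2 * (g1 ^ n)⁻¹) * g1 ^ n * g1 ^ (k + 1) := by rw [← e]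
          _ = w2 * g1 ^ (k + 1) := by group
      obtain ⟨u, hu⟩ := Nat.exists_mul_mod_eq_one_of_coprime (show Nat.Coprime (k + 1) 11 from
        Nat.coprime_comm.1 ((show Nat.Prime 11 by norm_num).coprime_iff_not_dvd.2
          (Nat.not_dvd_of_pos_of_lt (by omega) (by omega)))) (by norm_num)
      have hg : g1 = (g1 ^ (k + 1)) ^ u := by
        rw [← pow_mul, ← pow_mod_orderOf, hg1o, hu.2, pow_one]
      have hcg : Commute g1 w2 := hg ▸ hcomm.pow_left u
      have hW : Commute X ((w2 : G) : Perm α) := congrArg (fun v : H1 => ((v : G) : Perm α)) hcg.eq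
      have hwb : ((w2 : G) : Perm α) b = b := by
        have hfixX : X (((w2 : G) : Perm α) b) = ((w2 : G) : Perm α) b := by
          rw [← Perm.mul_apply, hW.eq, Perm.mul_apply, hXb]
        have hns : ((w2 : G) : Perm α) b ∉ X.support := Perm.notMem_support.2 hfixX
        rw [hsupp] at hns
        rcases (show ((w2 : G) : Perm α) b = a ∨ ((w2 : G) : Perm α) b = b by tauto) with h | h
        · exact absurd (((w2 : G) : Perm α).injective (h.trans (w2.2 : ((w2 : G) : Perm α) a = a).symm)) hab.symm
        · exact h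
      exact (Finset.mem_filter.1 (hinD w2 (Or.inl hw2))).2.2 b hab.symm hwb
    rcases Nat.lt_or_gt_of_ne (fun h => hne (Fin.ext h)) with h | h
    · exact key n m h m.2 hnm
    · exact key m n h n.2 hnm.symm
  have hsub : Conj ⊆ D := by
    intro w hw
    obtain ⟨n, -, rfl⟩ := Finset.mem_image.1 hw
    refine hinD _ (Or.inl ?_)
    rw [show g1 ^ (n : ℕ) * w2 * (g1 ^ (n : ℕ))⁻¹ = MulAut.conj (g1 ^ (n : ℕ)) w2 from rfl,
      MulEquiv.orderOf_eq, hw2]
  have heq : Conj = D := Finset.eq_of_subset_of_card_le hsub (by omega)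
  have hw3D := hinD w3 (Or.inr hw3)
  rw [← heq] at hw3D
  obtain ⟨n, -, hn⟩ := Finset.mem_image.1 hw3D
  have := congrArg orderOf hn
  rw [show g1 ^ (n : ℕ) * w2 * (g1 ^ (n : ℕ))⁻¹ = MulAut.conj (g1 ^ (n : ℕ)) w2 from rfl,
    MulEquiv.orderOf_eq, hw2, hw3] at this
  omega


/-- The generated group when every point is moved. -/
theorem key {X Y : Perm α} {p q : ℕ} (hp : p.Prime) (hq : q.Prime) (hq5 : 5 ≤ q)
    (hX : orderOf X = p) (hY : orderOf Y = q) (hXe : X ∈ alternatingGroup α) (hYe : Y ∈ alternatingGroup α)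
    (hmov : ∀ a : α, X a ≠ a ∨ Y a ≠ a) (hn : Fintype.card α ≤ 2 * p) (hpq : p < q)
    (hcase : (p + 4 ≤ q ∧ Fintype.card α < 2 * p) ∨ (p = 3 ∧ q = 5) ∨ (p = 5 ∧ q = 7) ∨
      (p = 7 ∧ q = 11) ∨ (p = 11 ∧ q = 13)) :
    ∃ d : ℕ, 5 ≤ d ∧ Nonempty (Subgroup.closure ({X, Y} : Set (Perm α)) ≃* alternatingGroup (Fin d)) := by
  have hYs : Y.support.card < 2 * orderOf Y := by
    rw [hY]; have := Finset.card_le_univ Y.support; omega
  have hYc : Y.IsCycle := Perm.isCycle_of_prime_order (hY ▸ hq) hYs
  have hYq : Y.support.card = q := hYc.orderOf.symm.trans hY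
  have hYn : q ≤ Fintype.card α := hYq ▸ Finset.card_le_univ Y.support
  set G := Subgroup.closure ({X, Y} : Set (Perm α)) with hG
  have hXG : X ∈ G := Subgroup.subset_closure (Set.mem_insert _ _)
  have hYG : Y ∈ G := Subgroup.subset_closure (Set.mem_insert_of_mem _ rfl)
  have hA : G ≤ alternatingGroup α := by
    rw [hG, Subgroup.closure_le]
    rintro g (rfl | rfl)
    · exact hXe
    · exact hYe
  haveI htr : IsPretransitive G α :=
    isPretransitive_closure hp hX hYc hYq (by omega) hmov
  have hnα : Nat.card α = Fintype.card α := Nat.card_eq_fintype_card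
  have hprim : IsPreprimitive G α := isPreprimitive_of_prime_cycle hYG hYc hq hYq (by omega)
  have hfin : alternatingGroup α ≤ G →
      ∃ d : ℕ, 5 ≤ d ∧ Nonempty (G ≃* alternatingGroup (Fin d)) := fun hle => by
    refine ⟨Fintype.card α, by omega, ?_⟩
    rw [le_antisymm hA hle]
    exact ⟨Equiv.altCongrHom (Fintype.equivFinOfCardEq rfl)⟩
  by_cases h1 : q + 3 ≤ Fintype.card α
  · exact hfin (alternatingGroup_le_of_prime_cycle hprim hYG hYc hq hYq (by omega))
  by_cases hXc : X.IsCycle
  · have hXp : X.support.card = p := hXc.orderOf.symm.trans hX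
    by_cases hp3 : p = 3
    · subst hp3
      exact hfin (Equiv.Perm.alternatingGroup_le_of_isPreprimitive_of_isThreeCycle_mem hprim
        (card_support_eq_three_iff.1 hXp) hXG)
    by_cases h2 : p + 3 ≤ Fintype.card α
    · exact hfin (alternatingGroup_le_of_prime_cycle hprim hXG hXc hp hXp (by omega))
    rcases hcase with ⟨h, h'⟩ | ⟨rfl, rfl⟩ | ⟨rfl, rfl⟩ | ⟨rfl, rfl⟩ | ⟨rfl, rfl⟩
    · omega
    · exact absurd rfl hp3
    · exact hfin (seven hA (by omega) hXG hYG hXc hXp hYc hYq)
    · omega
    · exact hfin (thirteen hA (by omega) hXG hYG hXc hXp hYc hYq)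
  · have h2p : 2 * p ≤ Fintype.card α := by
      refine le_trans ?_ (Finset.card_le_univ X.support)
      by_contra h
      exact hXc (Perm.isCycle_of_prime_order (hX ▸ hp) (by rw [hX]; omega))
    rcases hcase with ⟨h, h'⟩ | ⟨rfl, rfl⟩ | ⟨rfl, rfl⟩ | ⟨rfl, rfl⟩ | ⟨rfl, rfl⟩
    · omega
    · exact six hA (by omega) hXG hYG hX hYc hYq
    · omega
    · omega
    · omega


/-- Let m ≥ 5. Then there are primes p < q with m/2 ≤ p and q ≤ m such that any two elements x, y of the alternating group of degree m with x of order p and y of order q generate a subgroup isomorphic to an alternating group of some degree d ≥ 5. -/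
theorem result (m : ℕ) (hm : 5 ≤ m) :
    ∃ p q : ℕ, p.Prime ∧ q.Prime ∧ m ≤ 2 * p ∧ p < q ∧ q ≤ m ∧
      ∀ x y : alternatingGroup (Fin m), orderOf x = p → orderOf y = q →
        ∃ d : ℕ, 5 ≤ d ∧ Nonempty (Subgroup.closure ({x, y} : Set (alternatingGroup (Fin m))) ≃* alternatingGroup (Fin d)) := by
  obtain ⟨p, q, hp, hq, hm2, hpq, hqm, hq5, hcase⟩ : ∃ p q : ℕ, p.Prime ∧ q.Prime ∧ m ≤ 2 * p ∧ p < q ∧
      q ≤ m ∧ 5 ≤ q ∧ ((p + 4 ≤ q ∧ m < 2 * p) ∨ (p = 3 ∧ q = 5) ∨ (p = 5 ∧ q = 7) ∨
        (p = 7 ∧ q = 11) ∨ (p = 11 ∧ q = 13)) := by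
    rcases (show m ≤ 6 ∨ (7 ≤ m ∧ m ≤ 10) ∨ (11 ≤ m ∧ m ≤ 14) ∨ (15 ≤ m ∧ m ≤ 16) ∨ 17 ≤ m by omega) with
      h | h | h | h | h
    · exact ⟨3, 5, by norm_num, by norm_num, by omega, by omega, by omega, le_rfl, by simp⟩
    · exact ⟨5, 7, by norm_num, by norm_num, by omega, by omega, by omega, by omega, by simp⟩
    · exact ⟨7, 11, by norm_num, by norm_num, by omega, by omega, by omega, by omega, by simp⟩
    · exact ⟨11, 13, by norm_num, by norm_num, by omega, by omega, by omega, by omega, by simp⟩
    · obtain ⟨p, q, hp, hq, h1, h2, h3⟩ := CfsgLib.PGroup.exists_prime_pair m h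
      exact ⟨p, q, hp, hq, by omega, by omega, h3, by omega, Or.inl ⟨h2, h1⟩⟩
  refine ⟨p, q, hp, hq, hm2, hpq, hqm, fun x y hx hy => ?_⟩
  set X : Equiv.Perm (Fin m) := (x : Equiv.Perm (Fin m)) with hX
  set Y : Equiv.Perm (Fin m) := (y : Equiv.Perm (Fin m)) with hY
  let U : Finset (Fin m) := X.support ∪ Y.support
  have hinv : ∀ (g : Equiv.Perm (Fin m)), g = X ∨ g = Y → ∀ a, g a ∈ U ↔ a ∈ U := by
    intro g hg a
    by_cases ha : g a = a
    · rw [ha]
    · have h1 : a ∈ g.support := Equiv.Perm.mem_support.2 ha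
      have h2 : g a ∈ g.support := Equiv.Perm.apply_mem_support.2 h1
      have hsub : g.support ⊆ U := by
        rcases hg with rfl | rfl
        · exact Finset.subset_union_left
        · exact Finset.subset_union_right
      exact iff_of_true (hsub h2) (hsub h1)
  have hmoved : ∀ (g : Equiv.Perm (Fin m)), g = X ∨ g = Y → ∀ a, g a ≠ a → a ∈ U := by
    intro g hg a ha
    rcases hg with rfl | rfl
    · exact Finset.mem_union_left _ (Equiv.Perm.mem_support.2 ha)
    · exact Finset.mem_union_right _ (Equiv.Perm.mem_support.2 ha)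
  set X' : Equiv.Perm U := X.subtypePerm (hinv X (Or.inl rfl)) with hX'
  set Y' : Equiv.Perm U := Y.subtypePerm (hinv Y (Or.inr rfl)) with hY'
  set ι : Equiv.Perm U →* Equiv.Perm (Fin m) := Equiv.Perm.ofSubtype with hι
  have hιinj : Function.Injective ι := Equiv.Perm.ofSubtype_injective
  have hXι : ι X' = X := Equiv.Perm.ofSubtype_subtypePerm _ (hmoved X (Or.inl rfl))
  have hYι : ι Y' = Y := Equiv.Perm.ofSubtype_subtypePerm _ (hmoved Y (Or.inr rfl))
  have hoX : orderOf X' = p := by rw [← orderOf_injective ι hιinj X', hXι, hX, Subgroup.orderOf_coe, hx]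
  have hoY : orderOf Y' = q := by rw [← orderOf_injective ι hιinj Y', hYι, hY, Subgroup.orderOf_coe, hy]
  have heven : ∀ (g : Equiv.Perm U), ι g ∈ alternatingGroup (Fin m) → g ∈ alternatingGroup U := by
    intro g hg
    rw [Equiv.Perm.mem_alternatingGroup] at hg ⊢
    rwa [hι, Equiv.Perm.sign_ofSubtype] at hg
  have hcardU : Fintype.card U ≤ m := by
    rw [Fintype.card_coe]
    exact (Finset.card_le_univ U).trans (Fintype.card_fin m).le
  obtain ⟨d, hd, ⟨e⟩⟩ := key hp hq hq5 hoX hoY (heven X' (hXι ▸ x.2)) (heven Y' (hYι ▸ y.2))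
    (fun a => by
      rcases Finset.mem_union.1 a.2 with h | h
      · exact Or.inl fun h' => Equiv.Perm.mem_support.1 h (congrArg Subtype.val h')
      · exact Or.inr fun h' => Equiv.Perm.mem_support.1 h (congrArg Subtype.val h'))
    (by omega) hpq (by
      rcases hcase with ⟨h1, h2⟩ | h | h | h | h
      · exact Or.inl ⟨h1, by omega⟩
      · exact Or.inr (Or.inl h)
      · exact Or.inr (Or.inr (Or.inl h))
      · exact Or.inr (Or.inr (Or.inr (Or.inl h)))
      · exact Or.inr (Or.inr (Or.inr (Or.inr h))))
  refine ⟨d, hd, ⟨?_⟩⟩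
  have e1 := Subgroup.equivMapOfInjective (Subgroup.closure ({x, y} : Set (alternatingGroup (Fin m))))
    (alternatingGroup (Fin m)).subtype (alternatingGroup (Fin m)).subtype_injective
  have e2 := Subgroup.equivMapOfInjective (Subgroup.closure ({X', Y'} : Set (Equiv.Perm U))) ι hιinj
  refine e1.trans (MulEquiv.trans (MulEquiv.subgroupCongr ?_) (e2.symm.trans e))
  rw [MonoidHom.map_closure, MonoidHom.map_closure, Set.image_pair, Set.image_pair, hXι, hYι]
  rfl

end Cfsg.Agent.S4150
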