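import Cfsg.Statements.S4153
-- import your own Cfsg.Agent.* helpers here

set_option autoImplicit false
open Cfsg

namespace Cfsg.Agent.S4153

/-- Let G be a finite group, p a prime, N a normal subgroup, P a Sylow p-subgroup of G and P̄ a Sylow p-subgroup of G/N. Count the elements of p-power order, the identity included. Then (number of such elements of G/N)/#P̄ ≤ (number of such elements of G)/#P, stated as a cross-multiplied inequality, with equality when N is central. -/
theorem result {G : Type*} [Group G] [Finite G] (p : ℕ) [Fact p.Prime] (N : Subgroup G) [N.Normal]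
    (P : Sylow p G) (Pbar : Sylow p (G ⧸ N)) :
    Nat.card {g : (G ⧸ N) // ∃ k : ℕ, orderOf g = p ^ k} * Nat.card (P : Subgroup G) ≤ Nat.card {g : G // ∃ k : ℕ, orderOf g = p ^ k} * Nat.card (Pbar : Subgroup (G ⧸ N)) ∧
    (N ≤ Subgroup.center G → Nat.card {g : (G ⧸ N) // ∃ k : ℕ, orderOf g = p ^ k} * Nat.card (P : Subgroup G) = Nat.card {g : G // ∃ k : ℕ, orderOf g = p ^ k} * Nat.card (Pbar : Subgroup (G ⧸ N))) := by
  classical
  obtain ⟨c, hc⟩ := MulAction.exists_smul_eq (G ⧸ N) (P.mapSurjective (QuotientGroup.mk'_surjective N)) Pbar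
  set mk := QuotientGroup.mk' N
  set K : Subgroup G := (P : Subgroup G) ⊓ N with hK
  have hcard : Nat.card (P : Subgroup G) = Nat.card (Pbar : Subgroup (G ⧸ N)) * Nat.card K := by
    have h1 : Nat.card (Pbar : Subgroup (G ⧸ N)) = Nat.card ((P : Subgroup G).map mk) := by
      rw [Sylow.card_eq_multiplicity Pbar,
        ← Sylow.card_eq_multiplicity (P.mapSurjective (QuotientGroup.mk'_surjective N))]
      rfl
    have h2 : Nat.card K = Nat.card ((mk.subgroupMap (P : Subgroup G)).ker) := by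
      refine Nat.card_congr
        { toFun := fun x => ⟨⟨x.1, (Subgroup.mem_inf.1 x.2).1⟩,
            Subtype.ext ((QuotientGroup.eq_one_iff _).2 (Subgroup.mem_inf.1 x.2).2)⟩
          invFun := fun x => ⟨x.1.1, Subgroup.mem_inf.2
            ⟨x.1.2, (QuotientGroup.eq_one_iff _).1 (congrArg Subtype.val x.2)⟩⟩
          left_inv := fun _ => rfl
          right_inv := fun _ => rfl }
    rw [Subgroup.card_eq_card_quotient_mul_card_subgroup (mk.subgroupMap (P : Subgroup G)).ker, h1, h2,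
      Nat.card_congr (QuotientGroup.quotientKerEquivOfSurjective _ (mk.subgroupMap_surjective _)).toEquiv]
  -- a lift of each `p`-element lying in a Sylow subgroup
  have hlift : ∀ q : {g : G ⧸ N // ∃ k : ℕ, orderOf g = p ^ k}, ∃ g u : G,
      u ∈ (P : Subgroup G) ∧ mk (g * u * g⁻¹) = q.1 := by
    intro q
    obtain ⟨k, hk⟩ := q.2
    obtain ⟨S, hS⟩ := IsPGroup.exists_le_sylow (IsPGroup.of_card (n := k) (p := p)
      (G := Subgroup.zpowers q.1) (by rw [Nat.card_zpowers, hk]))
    obtain ⟨g, hg⟩ := MulAction.exists_smul_eq (G ⧸ N) (P.mapSurjective (QuotientGroup.mk'_surjective N)) S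
    have hq : q.1 ∈ ((g • P.mapSurjective (QuotientGroup.mk'_surjective N) : Sylow p (G ⧸ N)) :
        Subgroup (G ⧸ N)) := by rw [hg]; exact hS (Subgroup.mem_zpowers _)
    rw [Sylow.coe_subgroup_smul, Subgroup.mem_smul_pointwise_iff_exists] at hq
    obtain ⟨_, ⟨u, hu, rfl⟩, hq⟩ := hq
    obtain ⟨g, rfl⟩ := QuotientGroup.mk'_surjective N g
    refine ⟨g, u, hu, ?_⟩
    rw [map_mul, map_mul, map_inv, ← hq]
    rfl
  choose g u hu hgu using hlift
  have hpel : ∀ (h : G), ∀ x ∈ (P : Subgroup G), ∃ k : ℕ, orderOf (h * x * h⁻¹) = p ^ k := fun h x hx => by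
    obtain ⟨k, hk⟩ := IsPGroup.iff_orderOf.1 P.isPGroup' ⟨x, hx⟩
    exact ⟨k, (MulEquiv.orderOf_eq (MulAut.conj h) x).trans ((Subgroup.orderOf_mk x hx).symm.trans hk)⟩
  let Φ : {g : G ⧸ N // ∃ k : ℕ, orderOf g = p ^ k} × K → {g : G // ∃ k : ℕ, orderOf g = p ^ k} := fun a =>
    ⟨g a.1 * (u a.1 * a.2) * (g a.1)⁻¹, hpel _ _ (mul_mem (hu a.1) (Subgroup.mem_inf.1 a.2.2).1)⟩
  have hΦ : Function.Injective Φ := by
    rintro ⟨q, x⟩ ⟨q', x'⟩ h
    have h1 : g q * (u q * x) * (g q)⁻¹ = g q' * (u q' * x') * (g q')⁻¹ := congrArg Subtype.val h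
    have hmk : ∀ (a : {g : G ⧸ N // ∃ k : ℕ, orderOf g = p ^ k}) (y : K),
        mk (g a * (u a * y) * (g a)⁻¹) = a.1 := fun a y => by
      conv_rhs => rw [← hgu a]
      rw [map_mul, map_mul, map_mul, map_mul, map_mul,
        show mk (y : G) = 1 from (QuotientGroup.eq_one_iff _).2 (Subgroup.mem_inf.1 y.2).2, mul_one]
    have hq : q = q' := Subtype.ext (by rw [← hmk q x, h1, hmk q' x'])
    subst hq
    exact Prod.ext rfl (Subtype.ext (mul_left_cancel (mul_left_cancel (mul_right_cancel h1))))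
  have hle := Nat.card_le_card_of_injective Φ hΦ
  rw [Nat.card_prod] at hle
  refine ⟨?_, fun hcen => ?_⟩
  · calc _ = Nat.card {g : G ⧸ N // ∃ k : ℕ, orderOf g = p ^ k} * Nat.card K *
          Nat.card (Pbar : Subgroup (G ⧸ N)) := by rw [hcard]; ring
      _ ≤ _ := Nat.mul_le_mul_right _ hle
  · have hsurj : Function.Surjective Φ := by
      rintro ⟨y, k, hk⟩
      let q : {g : G ⧸ N // ∃ k : ℕ, orderOf g = p ^ k} := ⟨mk y, by
        obtain ⟨i, -, hi⟩ := (Nat.dvd_prime_pow (Fact.out : p.Prime)).1 (hk ▸ orderOf_map_dvd mk y)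
        exact ⟨i, hi⟩⟩
      set z := (g q * u q * (g q)⁻¹)⁻¹ * y with hz
      have hzN : z ∈ N := by
        rw [← QuotientGroup.eq_one_iff]
        change mk z = 1
        rw [hz, map_mul, map_inv, hgu q, inv_mul_cancel]
      have hzc : ∀ w, w * z = z * w := Subgroup.mem_center_iff.1 (hcen hzN)
      obtain ⟨j, hj⟩ := hpel (g q) (u q) (hu q)
      have hzP : z ∈ (P : Subgroup G) := by
        have hz' : z ^ p ^ (j + k) = 1 := by
          have hcm : Commute (g q * u q * (g q)⁻¹)⁻¹ y := by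
            have : y = g q * u q * (g q)⁻¹ * z := by rw [hz, mul_inv_cancel_left]
            rw [this]
            exact (Commute.refl _).inv_left.mul_right (hzc _)
          rw [hz, hcm.mul_pow, inv_pow, orderOf_dvd_iff_pow_eq_one.1 (hj ▸ pow_dvd_pow p (Nat.le_add_right j k)),
            orderOf_dvd_iff_pow_eq_one.1 (hk ▸ pow_dvd_pow p (Nat.le_add_left k j)), inv_one, one_mul]
        have hzp : IsPGroup p (Subgroup.zpowers z) := by
          obtain ⟨i, -, hi⟩ := (Nat.dvd_prime_pow (Fact.out : p.Prime)).1 (orderOf_dvd_of_pow_eq_one hz')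
          exact IsPGroup.of_card (n := i) (by rw [Nat.card_zpowers, hi])
        haveI : (Subgroup.zpowers z).Normal := ⟨fun w hw h => by
          obtain ⟨i, rfl⟩ := Subgroup.mem_zpowers_iff.1 hw
          rw [← conj_zpow, hzc h, mul_inv_cancel_right]
          exact Subgroup.zpow_mem _ (Subgroup.mem_zpowers z) i⟩
        exact hzp.le_sylow_of_normal P (Subgroup.mem_zpowers z)
      refine ⟨⟨q, ⟨z, Subgroup.mem_inf.2 ⟨hzP, hzN⟩⟩⟩, Subtype.ext ?_⟩
      change g q * (u q * z) * (g q)⁻¹ = y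
      rw [mul_assoc (g q), mul_assoc (u q), ← hzc, ← mul_assoc, ← mul_assoc, hz, mul_inv_cancel_left]
    have heq := Nat.card_congr (Equiv.ofBijective Φ ⟨hΦ, hsurj⟩)
    rw [Nat.card_prod] at heq
    rw [hcard, ← heq]
    ring

end Cfsg.Agent.S4153
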