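import Cfsg.Statements.S4154
import Cfsg.Agent.Lib.Coprime.Core

set_option autoImplicit false
set_option linter.style.haveILetI false
open Cfsg

namespace Cfsg.Agent.S4154

/-- Let G be a finite group and α an automorphism of G such that every element of G is the product of an element fixed by α and an element of the form g⁻¹α(g). If N is a normal α-invariant subgroup, then the automorphism ᾱ induced on G/N has the same property, and every coset fixed by ᾱ contains an element fixed by α (so the fixed points of ᾱ are the images of the fixed points of α). -/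
theorem result {G : Type*} [Group G] [Finite G] (α : MulAut G)
    (hccp : ∀ x : G, ∃ c g : G, α c = c ∧ x = c * (g⁻¹ * α g))
    (N : Subgroup G) [N.Normal] (hN : ∀ n ∈ N, α n ∈ N) :
    (∀ x : G, ∃ c g : G, c⁻¹ * α c ∈ N ∧ x⁻¹ * (c * (g⁻¹ * α g)) ∈ N) ∧
    (∀ x : G, x⁻¹ * α x ∈ N → ∃ c : G, α c = c ∧ c⁻¹ * x ∈ N) := by
  refine ⟨fun x => ?_, fun x hx => ?_⟩
  · obtain ⟨c, g, hc, hg⟩ := hccp x
    exact ⟨c, g, by rw [hc, inv_mul_cancel]; exact N.one_mem,
      by rw [← hg, inv_mul_cancel]; exact N.one_mem⟩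
  · set f := QuotientGroup.mk' N
    let β : G ⧸ N →* G ⧸ N := QuotientGroup.map N N α.toMonoidHom fun n hn => hN n hn
    let F : Subgroup (G ⧸ N) := β.eqLocus (MonoidHom.id _)
    let C₀ : Subgroup (G ⧸ N) := (α.toMonoidHom.eqLocus (MonoidHom.id G)).map f
    have hC₀ : C₀ ≤ F := by
      rintro _ ⟨c, hc, rfl⟩
      show β (f c) = f c
      exact congrArg f (show α c = c from hc)
    let ψ : C₀ × ((G ⧸ N) ⧸ F) → G ⧸ N := fun z =>
      (z.1 : G ⧸ N) * Quotient.liftOn' z.2 (fun h => h * β h⁻¹) fun a b hab => by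
        rw [QuotientGroup.leftRel_apply] at hab
        have h1 : β (a⁻¹ * b) = a⁻¹ * b := hab
        rw [map_mul] at h1
        rw [map_inv] at h1 ⊢
        rw [map_inv]
        calc a * (β a)⁻¹ = a * ((β a)⁻¹ * β b) * (β b)⁻¹ := by group
          _ = b * (β b)⁻¹ := by rw [h1]; group
    have hsurj : Function.Surjective ψ := by
      intro y
      obtain ⟨w, rfl⟩ := QuotientGroup.mk'_surjective N y
      obtain ⟨c, g, hc, hg⟩ := hccp w
      refine ⟨(⟨f c, c, hc, rfl⟩, ((f g⁻¹ : G ⧸ N) : (G ⧸ N) ⧸ F)), ?_⟩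
      show f c * (f g⁻¹ * β (f g⁻¹)⁻¹) = f w
      rw [← map_inv f g⁻¹, inv_inv, hg, map_mul, map_mul]
      rfl
    have hcard := Nat.card_le_card_of_surjective ψ hsurj
    rw [Nat.card_prod, Subgroup.card_eq_card_quotient_mul_card_subgroup F, mul_comm (Nat.card C₀)]
      at hcard
    have hF : C₀ = F := Subgroup.eq_of_le_of_card_ge hC₀ (Nat.le_of_mul_le_mul_left hcard Nat.card_pos)
    have hxF : f x ∈ F := (QuotientGroup.eq.2 (by simpa using N.inv_mem hx) :
      ((α x : G) : G ⧸ N) = (x : G ⧸ N))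
    rw [← hF] at hxF
    obtain ⟨c, hc, hcx⟩ := hxF
    exact ⟨c, hc, QuotientGroup.eq.1 hcx⟩

end Cfsg.Agent.S4154
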