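import Cfsg.Statements.S4155
import Cfsg.Agent.Lib.PGroup.EqualOrderPair
import Cfsg.Agent.Lib.Coprime.FpfAction
-- import your own Cfsg.Agent.* helpers here

set_option autoImplicit false
open Cfsg

namespace Cfsg.Agent.S4155

/-- Let G be a finite group and N a proper non-trivial normal nilpotent subgroup whose order is not a prime power, such that for every x outside N all elements of the coset xN have the same order as x. Then N is the Fitting subgroup of G, and for every prime q every Sylow q-subgroup of G/N is cyclic or generalized quaternion. -/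
theorem result {G : Type*} [Group G] [Finite G] (N : Subgroup G) [N.Normal] (hN1 : N ≠ ⊥) (hN2 : N ≠ ⊤)
    (heq : ∀ x : G, x ∉ N → ∀ n ∈ N, orderOf (x * n) = orderOf x)
    (hnil : Group.IsNilpotent N) (hnpp : ¬ IsPrimePow (Nat.card N)) :
    N = Cfsg.fittingSubgroup G ∧
    ∀ (q : ℕ) [Fact q.Prime] (Q : Sylow q (G ⧸ N)), IsCyclic (Q : Subgroup (G ⧸ N)) ∨ ∃ n : ℕ, Nonempty ((Q : Subgroup (G ⧸ N)) ≃* QuaternionGroup (2 ^ n)) := by
  haveI := hnil
  have hNF : N ≤ Cfsg.fittingSubgroup G := CfsgLib.Coprime.le_fitting hnil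
  have hN0 : Nat.card N ≠ 1 := fun e => hN1 (Subgroup.eq_bot_of_card_eq _ e)
  have hFN : Cfsg.fittingSubgroup G ≤ N := by
    by_contra h
    obtain ⟨p, hp, hF, hle⟩ := CfsgLib.EqualOrderPair.of_not_fitting_le N hN1 heq h
    haveI := Fact.mk hp
    obtain ⟨k, hk⟩ := IsPGroup.iff_card.1 (hF.to_le hle)
    refine hnpp (hk ▸ hp.isPrimePow.pow fun e => hN0 ?_)
    rw [hk, e, pow_zero]
  refine ⟨le_antisymm hNF hFN, fun q _ Qb => ?_⟩
  -- a prime of `N` other than `q`
  obtain ⟨r, hr, hrq, hrN⟩ : ∃ r : ℕ, r.Prime ∧ r ≠ q ∧ r ∣ Nat.card N := by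
    by_contra hno
    push Not at hno
    obtain ⟨r, hr, hrd⟩ := Nat.exists_prime_and_dvd hN0
    have hrq : r = q := by by_contra hne; exact hno r hr hne hrd
    subst hrq
    refine hnpp (isPrimePow_iff_unique_prime_dvd.2 ⟨r, ⟨hr, hrd⟩, fun s hs => ?_⟩)
    by_contra hne
    exact hno s hs.1 hne hs.2
  haveI := Fact.mk hr
  set π := QuotientGroup.mk' N with hπ
  obtain ⟨Q0⟩ : Nonempty (Sylow q G) := inferInstance
  obtain ⟨g, hg⟩ := MulAction.exists_smul_eq (G ⧸ N)
    (Q0.mapSurjective (QuotientGroup.mk'_surjective N)) Qb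
  obtain ⟨g, rfl⟩ := QuotientGroup.mk'_surjective N g
  set Q := g • Q0 with hQ
  have hQb : (Qb : Subgroup (G ⧸ N)) = (Q : Subgroup G).map π := by
    rw [← hg, hQ, Sylow.coe_subgroup_smul, Sylow.coe_subgroup_smul]
    ext y
    constructor
    · rintro ⟨_, ⟨x, hx, rfl⟩, rfl⟩
      exact ⟨g * x * g⁻¹, ⟨x, hx, rfl⟩, by simp [hπ]⟩
    · rintro ⟨_, ⟨x, hx, rfl⟩, rfl⟩
      exact ⟨π x, ⟨x, hx, rfl⟩, by simp [hπ]⟩
  set C := (Q : Subgroup G) ⊓ N with hC
  set O := (Cfsg.pCore q N).map N.subtype with hO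
  haveI : (Cfsg.pCore q N).Characteristic := CfsgLib.Coprime.pCore_characteristic q
  haveI : O.Normal := by rw [hO]; infer_instance
  have hCO : C = O := by
    refine le_antisymm ?_ ?_
    · intro x hx
      refine ⟨⟨x, hx.2⟩, CfsgLib.Coprime.le_pCore_of_isSubnormal (H := C.subgroupOf N)
        (CfsgLib.PGroup.isSubnormal_of_isNilpotent _)
        ((Q.2.to_le inf_le_left).comap_of_injective N.subtype N.subtype_injective) ?_, rfl⟩
      exact hx
    · refine le_inf ?_ (Subgroup.map_subtype_le _)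
      exact ((CfsgLib.PGroup.isPGroup_pCore q N).map _).le_sylow_of_normal Q
  haveI : C.Normal := by rw [hCO]; infer_instance
  obtain ⟨R0⟩ : Nonempty (Sylow r N) := inferInstance
  haveI : (R0 : Subgroup N).Characteristic := R0.characteristic_of_normal inferInstance
  set R := (R0 : Subgroup N).map N.subtype with hR
  haveI : R.Normal := by rw [hR]; infer_instance
  set ρ := QuotientGroup.mk' C with hρ
  set A := (Q : Subgroup G).map ρ with hA
  set V := R.map ρ with hV
  have hRr : IsPGroup r R := R0.2.map _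
  have hd : Disjoint R C := IsPGroup.disjoint_of_ne r q hrq R C hRr (Q.2.to_le inf_le_left)
  have hR1 : R ≠ ⊥ := by
    intro e
    rw [hR, Subgroup.map_eq_bot_iff_of_injective _ N.subtype_injective] at e
    exact R0.ne_bot_of_dvd_card hrN e
  have hVne : V ≠ ⊥ := by
    rw [hV, Ne, Subgroup.map_eq_bot_iff, hρ, QuotientGroup.ker_mk']
    intro hle
    exact hR1 (eq_bot_iff.2 fun x hx => hd le_rfl hle hx)
  have hAV : A ≤ Subgroup.normalizer (V : Set (G ⧸ C)) := by
    haveI : V.Normal := Subgroup.Normal.map inferInstance ρ (QuotientGroup.mk'_surjective C)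
    rw [Subgroup.normalizer_eq_top]; exact le_top
  have hfpf : CfsgLib.Coprime.IsFpfOn A V := by
    rintro _ ⟨a, ha, rfl⟩ ha1
    rw [eq_bot_iff]
    rintro _ ⟨⟨v, hv, rfl⟩, hc⟩
    have haN : a ∉ N := fun haN => ha1 ((QuotientGroup.eq_one_iff a).2 ⟨ha, haN⟩)
    have hc' : ρ v * ρ a = ρ a * ρ v := Subgroup.mem_centralizer_singleton_iff.1 hc
    have hmem : a * v * a⁻¹ * v⁻¹ ∈ R ⊓ C := by
      refine ⟨R.mul_mem ((inferInstance : R.Normal).conj_mem v hv a) (R.inv_mem hv),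
        (QuotientGroup.eq_one_iff _).1 ?_⟩
      show ρ (a * v * a⁻¹ * v⁻¹) = 1
      simp only [map_mul, map_inv, ← hc']
      group
    have hcomm : Commute a v := by
      have := hd (inf_le_left : R ⊓ C ≤ R) inf_le_right hmem
      rw [Subgroup.mem_bot, mul_inv_eq_one, mul_inv_eq_iff_eq_mul] at this
      exact this
    obtain ⟨i, hi⟩ := IsPGroup.iff_orderOf.1 Q.2 ⟨a, ha⟩
    rw [Subgroup.orderOf_mk] at hi
    obtain ⟨j, hj⟩ := IsPGroup.iff_orderOf.1 hRr ⟨v, hv⟩
    rw [Subgroup.orderOf_mk] at hj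
    have h1 := hcomm.orderOf_mul_eq_mul_orderOf_of_coprime (by
      rw [hi, hj]
      exact Nat.Coprime.pow i j ((Nat.coprime_primes Fact.out hr).2 (Ne.symm hrq)))
    rw [heq a haN v (Subgroup.map_subtype_le _ hv), hi, hj] at h1
    have h2 : r ^ j = 1 :=
      (Nat.eq_of_mul_eq_mul_left (pow_pos (Fact.out : q.Prime).pos i)
        (h1.symm.trans (mul_one _).symm))
    rw [Subgroup.mem_bot, orderOf_eq_one_iff.1 (hj.trans h2), map_one]
  have hAp : IsPGroup q A := Q.2.map _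
  obtain ⟨S⟩ : Nonempty (Sylow q A) := inferInstance
  have hStop : (S : Subgroup A) = ⊤ := (S.3 ((IsPGroup.of_equiv hAp Subgroup.topEquiv.symm)) le_top).symm
  have e1 : (S : Subgroup A) ≃* A := (MulEquiv.subgroupCongr hStop).trans Subgroup.topEquiv
  let θ : A →* G ⧸ N := (QuotientGroup.lift C π (fun x hx => (QuotientGroup.eq_one_iff x).2 hx.2)).comp A.subtype
  have hθi : Function.Injective θ := by
    refine (injective_iff_map_eq_one θ).2 ?_
    rintro ⟨_, a, ha, rfl⟩ he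
    have he' : π a = 1 := he
    exact Subtype.ext ((QuotientGroup.eq_one_iff a).2 ⟨ha, (QuotientGroup.eq_one_iff a).1 he'⟩)
  have hθr : θ.range = (Qb : Subgroup (G ⧸ N)) := by
    rw [hQb]
    ext y
    constructor
    · rintro ⟨⟨_, a, ha, rfl⟩, rfl⟩; exact ⟨a, ha, rfl⟩
    · rintro ⟨a, ha, rfl⟩; exact ⟨⟨_, a, ha, rfl⟩, rfl⟩
  have e2 : A ≃* (Qb : Subgroup (G ⧸ N)) :=
    (MonoidHom.ofInjective hθi).trans (MulEquiv.subgroupCongr hθr)
  rcases hfpf.sylow_cyclic_or_quaternion hAV hVne S with hc | ⟨-, n, ⟨e⟩⟩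
  · exact Or.inl ((e1.trans e2).isCyclic.1 hc)
  · exact Or.inr ⟨n, ⟨(e1.trans e2).symm.trans e⟩⟩

end Cfsg.Agent.S4155
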