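import Cfsg.Statements.S4156
-- import your own Cfsg.Agent.* helpers here
import Mathlib.GroupTheory.SpecificGroups.Alternating.Simple
import Mathlib.GroupTheory.SpecificGroups.Alternating.Centralizer
import Mathlib.LinearAlgebra.Dimension.Free
import Mathlib.LinearAlgebra.FreeModule.Finite.Basic
import Mathlib.LinearAlgebra.Matrix.ToLin

set_option autoImplicit false
open Cfsg

namespace Cfsg.Agent.S4156

open Equiv in
/-- The permutation representation on sum-zero vectors. -/
theorem exists_deleted_module (n : ℕ) (hn : 5 ≤ n) (F : Type*) [Field F] :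
    ∃ ρ : alternatingGroup (Fin (n + 1)) →* Matrix.GeneralLinearGroup (Fin n) F,
      ∃ g, ∀ c : F, ((ρ g : Matrix.GeneralLinearGroup (Fin n) F) : Matrix (Fin n) (Fin n) F) ≠ c • 1 := by
  classical
  let s : (Fin (n + 1) → F) →ₗ[F] F := ∑ i, LinearMap.proj i
  have hs : ∀ v, s v = ∑ i, v i := fun v => by simp [s]
  let W := LinearMap.ker s
  have hsurj : Function.Surjective s := fun c => ⟨Pi.single 0 c, by rw [hs, Finset.sum_pi_single']; simp⟩
  have hW : Module.finrank F W = n := by
    have := LinearMap.finrank_range_add_finrank_ker s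
    rw [LinearMap.range_eq_top.2 hsurj, finrank_top, Module.finrank_self, Module.finrank_fin_fun] at this
    show Module.finrank F (LinearMap.ker s) = n
    omega
  let L : alternatingGroup (Fin (n + 1)) →* Module.End F W :=
    { toFun := fun g =>
        (LinearMap.funLeft F F ⇑((g : Perm (Fin (n + 1)))⁻¹)).restrict (p := W) (q := W) fun v hv => by
          simp only [W, LinearMap.mem_ker, hs] at hv ⊢
          exact (Equiv.sum_comp ((g : Perm (Fin (n + 1)))⁻¹) v).trans hv
      map_one' := by ext v i; simp [LinearMap.funLeft]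
      map_mul' := fun g h => by ext v i; simp [LinearMap.funLeft] }
  let b : Module.Basis (Fin n) F W := Module.finBasisOfFinrankEq F W hW
  let e : Module.End F W ≃ₐ[F] Matrix (Fin n) (Fin n) F := LinearMap.toMatrixAlgEquiv b
  let ρ0 : alternatingGroup (Fin (n + 1)) →* Matrix (Fin n) (Fin n) F := e.toMonoidHom.comp L
  refine ⟨ρ0.toHomUnits, ?_⟩
  let σ : Perm (Fin (n + 1)) := swap ⟨0, by omega⟩ ⟨1, by omega⟩ * swap ⟨1, by omega⟩ ⟨2, by omega⟩
  have hσ : σ ∈ alternatingGroup (Fin (n + 1)) := by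
    simp [σ, Perm.sign_swap, Fin.ext_iff]
  refine ⟨⟨σ, hσ⟩, fun c hc => ?_⟩
  have hL : L ⟨σ, hσ⟩ = c • 1 := e.injective (by
    rw [map_smul, map_one]; exact hc)
  let v : Fin (n + 1) → F := Pi.single ⟨0, by omega⟩ 1 - Pi.single ⟨1, by omega⟩ 1
  have hv : v ∈ W := by
    simp [W, hs, v, Finset.sum_sub_distrib, Finset.sum_pi_single']
  have h := congrFun (congrArg Subtype.val (LinearMap.congr_fun hL ⟨v, hv⟩)) ⟨2, by omega⟩
  have e2 : σ⁻¹ ⟨2, by omega⟩ = ⟨1, by omega⟩ := by
    simp [σ, mul_inv_rev, swap_apply_def, Fin.ext_iff]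
  change v (σ⁻¹ ⟨2, _⟩) = c * v ⟨2, _⟩ at h
  rw [e2] at h
  simp [v, Fin.ext_iff] at h

/-- Let n ≥ 5 and F a finite field. Then the projective special linear group PSL_n(F) contains a subgroup isomorphic to the alternating group of degree n + 1. -/
theorem result (n : ℕ) (hn : 5 ≤ n) (F : Type*) [Field F] [Finite F] :
    ∃ f : alternatingGroup (Fin (n + 1)) →* Matrix.ProjectiveSpecialLinearGroup (Fin n) F, Function.Injective f := by
  classical
  obtain ⟨ρ, g, hg⟩ := exists_deleted_module n hn F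
  have h5 : 5 ≤ Nat.card (Fin (n + 1)) := by simp; omega
  haveI := alternatingGroup.isSimpleGroup h5
  have hdet : ∀ x, (ρ x).1.det = 1 := fun x => by
    have : commutator (alternatingGroup (Fin (n + 1))) ≤ (Matrix.GeneralLinearGroup.det.comp ρ).ker :=
      Abelianization.commutator_subset_ker _
    rw [commutator_alternatingGroup_eq_top h5] at this
    exact congrArg Units.val (MonoidHom.mem_ker.1 (this (Subgroup.mem_top x)))
  let σ : alternatingGroup (Fin (n + 1)) →* Matrix.SpecialLinearGroup (Fin n) F :=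
    { toFun := fun x => ⟨(ρ x).1, hdet x⟩
      map_one' := Subtype.ext (by simp)
      map_mul' := fun x y => Subtype.ext (by show (ρ (x * y)).1 = (ρ x).1 * (ρ y).1; rw [map_mul]; rfl) }
  refine ⟨(QuotientGroup.mk' _).comp σ, (MonoidHom.ker_eq_bot_iff _).1 ?_⟩
  refine (Subgroup.Normal.eq_bot_or_eq_top (MonoidHom.normal_ker _)).resolve_right fun htop => ?_
  have hmem : σ g ∈ Subgroup.center (Matrix.SpecialLinearGroup (Fin n) F) :=
    (QuotientGroup.eq_one_iff _).1 (MonoidHom.mem_ker.1 (htop ▸ Subgroup.mem_top g))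
  obtain ⟨r, -, hr⟩ := Matrix.SpecialLinearGroup.mem_center_iff.1 hmem
  exact hg r (by rw [Matrix.smul_one_eq_diagonal, ← Matrix.scalar_apply]; exact hr.symm)

end Cfsg.Agent.S4156
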