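import Cfsg.Statements.S4168
import Cfsg.Agent.Lib.Coprime.Core

set_option autoImplicit false
set_option linter.style.haveILetI false
open Cfsg

namespace Cfsg.Agent.S4168

/-- Let L be a finite quasisimple group (perfect with L/Z(L) simple). Then every prime dividing the order of the centre Z(L) also divides the order of L/Z(L). -/
theorem result {L : Type*} [Group L] [Finite L] (hL : Cfsg.IsQuasisimple L)
    (p : ℕ) (hp : p.Prime) (hdiv : p ∣ Nat.card (Subgroup.center L)) : p ∣ (Subgroup.center L).index := by
  haveI := Fact.mk hp
  obtain ⟨z, hz⟩ := exists_prime_orderOf_dvd_card' (G := Subgroup.center L) p hdiv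
  have hperf : ⁅(⊤ : Subgroup L), (⊤ : Subgroup L)⁆ = (⊤ : Subgroup L) := by
    rw [← commutator_def]
    exact hL.1.commutator_eq_top
  have htriv : ∀ g : L, MonoidHom.transferCenterPow L g = 1 := by
    have hker : commutator L ≤ (MonoidHom.transferCenterPow L).ker :=
      by
      rw [commutator_def]
      refine Subgroup.commutator_le.2 fun g _ h _ => MonoidHom.mem_ker.2 ?_
      rw [map_commutatorElement]
      exact commutatorElement_eq_one_iff_mul_comm.2
        (Subtype.ext (Subgroup.mem_center_iff.1 (MonoidHom.transferCenterPow L g).2 _).symm)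
    intro g
    exact hker (by rw [commutator_def, hperf]; trivial)
  have h1 : ((z : L)) ^ (Subgroup.center L).index = 1 := by
    rw [← MonoidHom.transferCenterPow_apply, htriv]; rfl
  rw [← hz, ← Subgroup.orderOf_coe]
  exact orderOf_dvd_of_pow_eq_one h1

end Cfsg.Agent.S4168
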