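import Cfsg.Agent.Lib.PGroup.SmallClasses
-- under Cfsg/Agent/.
import Cfsg.Statements.S4169
-- import your own Cfsg.Agent.* helpers here

set_option autoImplicit false
open Cfsg

namespace Cfsg.Agent.S4169

/-- Let P be a finite p-group whose conjugacy classes have exactly two sizes (1 and one other value). Then P has nilpotency class at most 3. -/
theorem result {P : Type*} [Group P] [Finite P] {p : ℕ} [Fact p.Prime] (hP : IsPGroup p P)
    (m : ℕ) (hm : 1 < m) (h : ∀ x : P, (Subgroup.centralizer ({x} : Set P)).index = 1 ∨ (Subgroup.centralizer ({x} : Set P)).index = m) :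
    upperCentralSeries P 3 = ⊤ := by
  haveI := hP.isNilpotent
  obtain ⟨A, hAn, hAc, hCA⟩ := CfsgLib.SmallClasses.exists_selfCentralizing (G := P) inferInstance
  haveI := hAn
  have hmin : ∀ x : P, 1 < (Subgroup.centralizer ({x} : Set P)).index →
      m ≤ (Subgroup.centralizer ({x} : Set P)).index := fun x hx => by
    rcases h x with h | h <;> omega
  have h3 := CfsgLib.SmallClasses.class_le_three hAc hCA m hm hmin
  have htop : Subgroup.closure {x : P | (Subgroup.centralizer ({x} : Set P)).index = 1 ∨
      (Subgroup.centralizer ({x} : Set P)).index = m} = ⊤ := by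
    rw [show {x : P | (Subgroup.centralizer ({x} : Set P)).index = 1 ∨
      (Subgroup.centralizer ({x} : Set P)).index = m} = Set.univ from Set.eq_univ_of_forall h]
    exact Subgroup.closure_univ
  show Subgroup.upperCentralSeries P 3 = ⊤
  rw [← Subgroup.lowerCentralSeries_eq_bot_iff_upperCentralSeries_eq_top] at h3 ⊢
  rw [htop] at h3
  have := congrArg (Subgroup.map (⊤ : Subgroup P).subtype) h3
  rwa [Subgroup.top_subtype_lowerCentralSeries, Subgroup.map_bot] at this

end Cfsg.Agent.S4169
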