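import Cfsg.Statements.S4172
import Cfsg.Agent.Lib.Coprime.Component
import Cfsg.Agent.Lib.Coprime.Gaschutz
import Cfsg.Agent.Lib.Coprime.GeneralizedFittingQuotient
import Cfsg.Agent.Lib.Coprime.PGroupFrattini
import Cfsg.Agent.Lib.Coprime.Solvable
import Cfsg.Agent.Lib.Fusion.Tate
import Cfsg.Agent.Lib.PGroup.MetacyclicRecog
import Cfsg.Agent.Lib.PGroup.Kulakoff
import Cfsg.Agent.Lib.Fusion.Sylow
-- import your own Cfsg.Agent.* helpers here

set_option autoImplicit false
open Cfsg

namespace Cfsg.Agent.S4172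

open Subgroup
open scoped commutatorElement

universe u

section PGroup

variable {X : Type u} [Group X] [Finite X] {p : ℕ} [Fact p.Prime]

theorem isCyclic_quotient (hX : IsPGroup p X) (hgen : (frattini X).index = p ^ 2) (A : Subgroup X)
    [A.Normal] (hA : ¬ A ≤ frattini X) : IsCyclic (X ⧸ A) := by
  refine CfsgLib.RankTwoOmega.isCyclic_of_index_frattini (hX.to_quotient A) ?_
  have h1 : (frattini (X ⧸ A)).index ∣ (frattini X ⊔ A).index := by
    refine (index_dvd_of_le (CfsgLib.Coprime.map_frattini_le_of_surjective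
      (f := QuotientGroup.mk' A) (QuotientGroup.mk'_surjective A))).trans ?_
    rw [index_map, QuotientGroup.ker_mk', MonoidHom.range_eq_top.2 (QuotientGroup.mk'_surjective A),
      index_top, mul_one]
  have hne : (frattini X ⊔ A).index ≠ p ^ 2 := by
    intro e
    have h2 := (frattini X ⊔ A).card_mul_index
    have h3 := (frattini X).card_mul_index
    rw [e] at h2
    rw [hgen, ← h2] at h3
    have h4 : Nat.card (frattini X ⊔ A : Subgroup X) ≤ Nat.card (frattini X) :=
      (Nat.eq_of_mul_eq_mul_right (pow_pos (Fact.out : p.Prime).pos 2) h3).ge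
    have h5 : frattini X = frattini X ⊔ A := Subgroup.eq_of_le_of_card_ge le_sup_left h4
    exact hA (h5.symm ▸ (le_sup_right : A ≤ frattini X ⊔ A))
  obtain ⟨i, hi, he⟩ := (Nat.dvd_prime_pow Fact.out).1 (show (frattini X ⊔ A).index ∣ p ^ 2 by
    rw [← hgen]; exact index_dvd_of_le le_sup_left)
  have hi2 : i ≠ 2 := fun e => hne (e ▸ he)
  rw [he] at h1
  refine (Nat.le_of_dvd (pow_pos (Fact.out : p.Prime).pos _) h1).trans ?_
  calc p ^ i ≤ p ^ 1 := Nat.pow_le_pow_right (Fact.out : p.Prime).pos (by omega)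
    _ = p := pow_one p

theorem comm_of_two {A B : Subgroup X} [A.Normal] [B.Normal] (hd : A ⊓ B = ⊥) (hA : IsCyclic (X ⧸ A))
    (hB : IsCyclic (X ⧸ B)) : IsMulCommutative X := by
  have key : ∀ (C : Subgroup X) [C.Normal], IsCyclic (X ⧸ C) → ∀ x y : X, ⁅x, y⁆ ∈ C := by
    intro C _ hC x y
    haveI := hC
    rw [← QuotientGroup.eq_one_iff, ← QuotientGroup.mk'_apply, map_commutatorElement,
      commutatorElement_eq_one_iff_mul_comm]
    exact IsCyclic.commGroup.mul_comm _ _
  refine ⟨⟨fun x y => commutatorElement_eq_one_iff_mul_comm.1 ?_⟩⟩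
  rw [← mem_bot, ← hd]
  exact ⟨key A hA x y, key B hB x y⟩

/-- A perfect group has no nontrivial nilpotent quotient. -/
theorem eq_top_of_perfect_quotient {Y : Type u} [Group Y] [Finite Y] (hY : ⁅(⊤ : Subgroup Y), (⊤ : Subgroup Y)⁆ = ⊤)
    (M : Subgroup Y) [M.Normal] (hq : IsPGroup p (Y ⧸ M)) : M = ⊤ := by
  haveI := hq.isNilpotent
  by_contra hM
  haveI : Nontrivial (Y ⧸ M) := QuotientGroup.nontrivial_iff.2 hM
  haveI : Group.IsPerfect Y := ⟨by rw [_root_.commutator_def]; exact hY⟩
  haveI : Group.IsPerfect (Y ⧸ M) :=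
    Group.IsPerfect.ofSurjective (f := QuotientGroup.mk' M) (QuotientGroup.mk'_surjective M)
  exact Group.IsPerfect.not_isSolvable (Y ⧸ M) inferInstance

end PGroup

section Main

variable {G : Type u} [Group G] [Finite G] {p : ℕ} [Fact p.Prime] (P : Sylow p G)


theorem not_inf_le (hcore : Cfsg.pPrimeCore p G = ⊥) (hfrat : ((frattini ↥(P : Subgroup G)).map (P : Subgroup G).subtype).normalCore = ⊥)
    {K : Subgroup G} [K.Normal] (hK : K ≠ ⊥) : ¬ K ⊓ (P : Subgroup G) ≤ ((frattini ↥(P : Subgroup G)).map (P : Subgroup G).subtype) := by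
  intro hle
  obtain ⟨T, M, hM, hc⟩ := CfsgLib.Fusion.hasNormalPComplement_of_inf_le_frattini P K hle
  have hcop : (Nat.card M).Coprime p := by
    rw [← hc.index_eq_card, Nat.coprime_comm]
    exact (Fact.out : p.Prime).coprime_iff_not_dvd.2 T.not_dvd_index
  have h1 : M.map K.subtype ≤ ⊥ := hcore ▸ CfsgLib.Coprime.le_pPrimeCore_of_isSubnormal Fact.out
    ((CfsgLib.Coprime.isSubnormal_map_subtype_iff (Subgroup.Normal.isSubnormal ‹_›) M).2
      (Subgroup.Normal.isSubnormal hM)) (by rwa [card_map_of_injective K.subtype_injective])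
  rw [le_bot_iff, (Subgroup.map_eq_bot_iff_of_injective M K.subtype_injective)] at h1
  subst h1
  have hT : (T : Subgroup K) = ⊤ := isComplement'_bot_left.1 hc
  have hKp : IsPGroup p K := fun x => by
    obtain ⟨k, hk⟩ := T.2 ⟨x, hT.symm ▸ mem_top x⟩
    exact ⟨k, congrArg Subtype.val hk⟩
  have hKP : K ≤ (P : Subgroup G) :=
    (CfsgLib.Coprime.le_pCore_of_isSubnormal (Subgroup.Normal.isSubnormal ‹_›) hKp).trans
      (CfsgLib.Coprime.pCore_le_sylow P)
  rw [inf_eq_left.2 hKP] at hle
  exact hK (le_bot_iff.1 (hfrat ▸ normal_le_normalCore.2 hle))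

/-- The same statement inside an overgroup of `P`, for a perfect subgroup. -/
theorem not_inf_le_of_perfect (hcore : Cfsg.pPrimeCore p G = ⊥) {A H : Subgroup G} (hPH : (P : Subgroup G) ≤ H)
    (hAH : A ≤ H) (hHA : H ≤ normalizer (A : Set G)) (hperf : ⁅A, A⁆ = A) (hsn : A.IsSubnormal)
    (hA : A ≠ ⊥) : ¬ A ⊓ (P : Subgroup G) ≤ ((frattini ↥(P : Subgroup G)).map (P : Subgroup G).subtype) := by
  intro hle
  haveI : (A.subgroupOf H).Normal := (normal_subgroupOf_iff_le_normalizer hAH).2 hHA
  let S : Sylow p H := P.subtype hPH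
  let e : (S : Subgroup H) ≃* (P : Subgroup G) := subgroupOfEquivOfLe hPH
  have hle' : A.subgroupOf H ⊓ (S : Subgroup H) ≤ (frattini (S : Subgroup H)).map (S : Subgroup H).subtype := by
    rintro x ⟨hxA, hxS⟩
    obtain ⟨y, hy, hyx⟩ := hle ⟨hxA, (show (x : G) ∈ (P : Subgroup G) from hxS)⟩
    refine ⟨⟨x, hxS⟩, ?_, rfl⟩
    have h1 : e.symm.toMonoidHom y ∈ frattini (S : Subgroup H) :=
      CfsgLib.Coprime.map_frattini_le_of_surjective (f := e.symm.toMonoidHom) e.symm.surjective
        (mem_map_of_mem _ hy)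
    rwa [show e.symm.toMonoidHom y = ⟨x, hxS⟩ from Subtype.ext (Subtype.ext hyx)] at h1
  obtain ⟨T, M, hM, hc⟩ := CfsgLib.Fusion.hasNormalPComplement_of_inf_le_frattini S (A.subgroupOf H) hle'
  haveI := hM
  have hY : ⁅(⊤ : Subgroup (A.subgroupOf H)), (⊤ : Subgroup (A.subgroupOf H))⁆ = ⊤ := by
    have e2 := (subgroupOfEquivOfLe hAH).symm
    haveI : Group.IsPerfect A := Subgroup.isPerfect_iff.2 hperf
    haveI : Group.IsPerfect (A.subgroupOf H) :=
      Group.IsPerfect.ofSurjective (f := e2.toMonoidHom) e2.surjective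
    rw [← _root_.commutator_def]
    exact Group.IsPerfect.commutator_eq_top
  have hMtop : M = ⊤ := eq_top_of_perfect_quotient (p := p) hY M (T.2.of_equiv hc.symm.QuotientMulEquiv.symm)
  subst hMtop
  have hT : (T : Subgroup (A.subgroupOf H)) = ⊥ := isComplement'_top_left.1 hc
  have hcop : (Nat.card A).Coprime p := by
    rw [← Nat.card_congr (subgroupOfEquivOfLe hAH).toEquiv, ← index_bot, ← hT, Nat.coprime_comm]
    exact (Fact.out : p.Prime).coprime_iff_not_dvd.2 T.not_dvd_index
  exact hA (le_bot_iff.1 (hcore ▸ CfsgLib.Coprime.le_pPrimeCore_of_isSubnormal Fact.out hsn hcop))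

theorem isCyclic_quotient_subgroupOf (hgen : (frattini ↥(P : Subgroup G)).index = p ^ 2) {A : Subgroup G}
    (hn : (P : Subgroup G) ≤ normalizer (A : Set G)) (hA : ¬ A ⊓ (P : Subgroup G) ≤ ((frattini ↥(P : Subgroup G)).map (P : Subgroup G).subtype)) :
    haveI : (A.subgroupOf (P : Subgroup G)).Normal := normal_subgroupOf_of_le_normalizer hn
    IsCyclic ((P : Subgroup G) ⧸ A.subgroupOf (P : Subgroup G)) := by
  haveI : (A.subgroupOf (P : Subgroup G)).Normal := normal_subgroupOf_of_le_normalizer hn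
  exact isCyclic_quotient P.2 hgen _ fun hle => hA fun x hx => ⟨⟨x, hx.2⟩, hle hx.1, rfl⟩

theorem false_of_two (hna : ¬ IsMulCommutative (P : Subgroup G)) (hgen : (frattini ↥(P : Subgroup G)).index = p ^ 2)
    {A B : Subgroup G} (hd : A ⊓ B = ⊥)
    (hAn : (P : Subgroup G) ≤ normalizer (A : Set G)) (hA : ¬ A ⊓ (P : Subgroup G) ≤ ((frattini ↥(P : Subgroup G)).map (P : Subgroup G).subtype))
    (hBn : (P : Subgroup G) ≤ normalizer (B : Set G)) (hB : ¬ B ⊓ (P : Subgroup G) ≤ ((frattini ↥(P : Subgroup G)).map (P : Subgroup G).subtype)) : False := by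
  haveI : (A.subgroupOf (P : Subgroup G)).Normal := normal_subgroupOf_of_le_normalizer hAn
  haveI : (B.subgroupOf (P : Subgroup G)).Normal := normal_subgroupOf_of_le_normalizer hBn
  refine hna (comm_of_two (A := A.subgroupOf (P : Subgroup G)) (B := B.subgroupOf (P : Subgroup G)) ?_
    (isCyclic_quotient_subgroupOf P hgen hAn hA) (isCyclic_quotient_subgroupOf P hgen hBn hB))
  refine le_bot_iff.1 fun x hx => mem_bot.2 (Subtype.ext ?_)
  have : (x : G) ∈ A ⊓ B := ⟨hx.1, hx.2⟩
  rwa [hd, mem_bot] at this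

/-- A perfect subgroup with a central subgroup: the Sylow part of the centre is in the derived Sylow group. -/
theorem mem_commutator_of_central {E : Type u} [Group E] [Finite E] (hE : ⁅(⊤ : Subgroup E), (⊤ : Subgroup E)⁆ = ⊤)
    (T : Sylow p E) {z : E} (hzT : z ∈ (T : Subgroup E)) (hz : ∀ y : E, y * z = z * y) :
    (⟨z, hzT⟩ : (T : Subgroup E)) ∈ commutator (T : Subgroup E) := by
  classical
  let ϕ : (T : Subgroup E) →* Abelianization (T : Subgroup E) := Abelianization.of
  have key : ∀ (k : ℕ) (g₀ : E), g₀⁻¹ * z ^ k * g₀ ∈ (T : Subgroup E) → g₀⁻¹ * z ^ k * g₀ = z ^ k :=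
    fun k g₀ _ => by
      rw [mul_assoc, ← ((show Commute g₀ z from hz g₀).pow_right k).eq, inv_mul_cancel_left]
  have h1 := MonoidHom.transfer_eq_pow (ϕ := ϕ) z key
  have h2 : ϕ.transfer z = 1 := by
    have h3 : ⁅(⊤ : Subgroup E), (⊤ : Subgroup E)⁆ ≤ ϕ.transfer.ker := commutator_le.2 fun a _ b _ => by
      rw [MonoidHom.mem_ker, map_commutatorElement, commutatorElement_eq_one_iff_mul_comm]
      exact mul_comm _ _
    exact h3 (hE.symm ▸ mem_top z)
  rw [h2] at h1
  have h4 : (⟨z, hzT⟩ : (T : Subgroup E)) ^ (T : Subgroup E).index ∈ commutator (T : Subgroup E) := by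
    rw [← QuotientGroup.eq_one_iff]
    exact h1.symm
  obtain ⟨k, hk⟩ := T.2.exists_card_eq
  have hcop : (T : Subgroup E).index.Coprime (orderOf (⟨z, hzT⟩ : (T : Subgroup E))) :=
    Nat.Coprime.coprime_dvd_right (hk ▸ _root_.orderOf_dvd_natCard _)
      (((Fact.out : p.Prime).coprime_iff_not_dvd.2 T.not_dvd_index).symm.pow_right k)
  obtain ⟨j, hj⟩ := exists_pow_eq_self_of_coprime hcop
  exact hj ▸ pow_mem h4 j

theorem structure_main (hna : ¬ IsMulCommutative (P : Subgroup G))
    (hgen : (frattini ↥(P : Subgroup G)).index = p ^ 2) (hcore : Cfsg.pPrimeCore p G = ⊥)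
    (hfrat : ((frattini ↥(P : Subgroup G)).map (P : Subgroup G).subtype).normalCore = ⊥) :
    ∃ N : Subgroup G, N.Normal ∧ Cfsg.generalizedFittingSubgroup G = N ∧ N ≠ ⊥ ∧
      (∀ K : Subgroup G, K.Normal → K ≠ ⊥ → N ≤ K) ∧
      (¬ IsMulCommutative N → Cfsg.layer G = N ∧ centralizer (N : Set G) = ⊥) := by
  have hTate := fun (K : Subgroup G) (hKn : K.Normal) (hK : K ≠ ⊥) =>
    @not_inf_le G _ _ p _ P hcore hfrat K hKn hK
  have hPn : ∀ K : Subgroup G, K.Normal → (P : Subgroup G) ≤ normalizer (K : Set G) := fun K hK => by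
    rw [normalizer_eq_top_iff.2 hK]; exact le_top
  have hGtop : (⊤ : Subgroup G) ≠ ⊥ := fun e => hna ⟨⟨fun a b => Subtype.ext (by
    have key : ∀ c : G, c = 1 := fun c => mem_bot.1 (e ▸ mem_top c)
    exact (key _).trans (key _).symm)⟩⟩
  obtain ⟨N, hN, hN1, -, hmin⟩ := CfsgLib.Coprime.exists_minimal_normal_le hGtop
  have huniq : ∀ K : Subgroup G, K.Normal → K ≠ ⊥ → N ≤ K := fun K hK hK1 => by
    rcases hmin (N ⊓ K) inferInstance inf_le_left with h | h
    · exact (false_of_two P hna hgen h (hPn N hN) (hTate N hN hN1) (hPn K hK) (hTate K hK hK1)).elim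
    · exact h ▸ inf_le_right
  haveI := CfsgLib.Coprime.fitting_normal (G := G)
  haveI := CfsgLib.Coprime.layer_normal (G := G)
  by_cases hE : Cfsg.layer G = ⊥
  · set F := Cfsg.fittingSubgroup G with hF
    have hFs : Cfsg.generalizedFittingSubgroup G = F := by
      rw [Cfsg.generalizedFittingSubgroup, hE, bot_sup_eq]
    have hF1 : F ≠ ⊥ := fun e => by
      refine hGtop (le_bot_iff.1 (le_trans ?_ e.le))
      refine le_trans ?_ (CfsgLib.Coprime.centralizer_fitting_le_of_layer_eq_bot hE)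
      rw [← hF, e]
      exact fun x _ => mem_centralizer_iff.2 fun y hy => by rw [mem_bot.1 hy]; simp
    have hNF : N ≤ F := huniq F inferInstance hF1
    have hFP : F ≤ (P : Subgroup G) := by
      rw [hF, CfsgLib.Coprime.fitting_eq_pCore_of_pPrimeCore_eq_bot hcore]
      exact CfsgLib.Coprime.pCore_le_sylow P
    have hFfr : ∀ y ∈ F, ∀ z ∈ F, y ^ p = 1 ∧ y * z = z * y := by
      intro y hy z hz
      refine ⟨?_, commutatorElement_eq_one_iff_mul_comm.1 ?_⟩ <;>
        rw [← mem_bot, ← hfrat] <;> intro g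
      · rw [← conj_pow]
        have hg := (inferInstance : F.Normal).conj_mem y hy g
        exact ⟨⟨_, hFP hg⟩ ^ p, CfsgLib.Coprime.pow_mem_frattini P.2 _, rfl⟩
      · rw [show g * ⁅y, z⁆ * g⁻¹ = ⁅g * y * g⁻¹, g * z * g⁻¹⁆ by
          simp only [commutatorElement_def]; group]
        have hg := (inferInstance : F.Normal).conj_mem y hy g
        have hg' := (inferInstance : F.Normal).conj_mem z hz g
        exact ⟨⁅(⟨_, hFP hg⟩ : (P : Subgroup G)), ⟨_, hFP hg'⟩⁆, CfsgLib.Coprime.commutator_le_frattini P.2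
          (commutator_mem_commutator (mem_top _) (mem_top _)), rfl⟩
    haveI hNab : IsMulCommutative N :=
      ⟨⟨fun a b => Subtype.ext (hFfr a (hNF a.2) b (hNF b.2)).2⟩⟩
    haveI := hN
    have hNP : N ≤ (P : Subgroup G) := hNF.trans hFP
    have hFN : F = N := by
      by_contra hne
      haveI hNn : (N.subgroupOf (P : Subgroup G)).Normal := inferInstance
      have hc := isCyclic_quotient_subgroupOf P hgen (hPn N hN) (hTate N hN hN1)
      obtain ⟨xq, hxq⟩ := hc.exists_generator
      obtain ⟨x, rfl⟩ := QuotientGroup.mk_surjective xq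
      have hrep : ∀ y ∈ (P : Subgroup G), ∃ i : ℤ, ((x : G) ^ i)⁻¹ * y ∈ N := fun y hy => by
        obtain ⟨i, hi⟩ := hxq ((⟨y, hy⟩ : (P : Subgroup G)) : (P : Subgroup G) ⧸ N.subgroupOf (P : Subgroup G))
        refine ⟨i, ?_⟩
        have hi' := (QuotientGroup.mk_zpow _ x i).trans hi
        simpa [mem_subgroupOf] using QuotientGroup.eq.1 hi'
      -- `⟨x⟩` complements `N` in `P`
      have hinf : zpowers (x : G) ⊓ N = ⊥ := by
        refine le_bot_iff.1 fun y hy => ?_
        obtain ⟨hy1, hy2⟩ := hy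
        obtain ⟨i, rfl⟩ := mem_zpowers_iff.1 hy1
        obtain ⟨w, hwF, hwN⟩ := SetLike.not_le_iff_exists.1 (fun hle => hne (le_antisymm hle hNF))
        obtain ⟨j, hj⟩ := hrep w (hFP hwF)
        have hjF : (x : G) ^ j ∈ F := by
          rw [show (x : G) ^ j = w * (((x : G) ^ j)⁻¹ * w)⁻¹ by group]
          exact mul_mem hwF (inv_mem (hNF hj))
        have hjN : (x : G) ^ j ∉ N := fun h => hwN (by
          rw [show w = (x : G) ^ j * (((x : G) ^ j)⁻¹ * w) by group]; exact mul_mem h hj)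
        have hp : ((x : G) ^ j) ^ p = 1 := (hFfr _ hjF _ hjF).1
        set y := (x : G) ^ i with hy
        by_contra hy0
        rw [mem_bot] at hy0
        have hyp : y ^ p = 1 := (hFfr _ (hNF hy2) _ (hNF hy2)).1
        have h1 : orderOf y = p := orderOf_eq_prime hyp hy0
        have h2 : orderOf ((x : G) ^ j) = p := orderOf_eq_prime hp fun e => hjN (e ▸ one_mem N)
        have h3 : zpowers y = zpowers ((x : G) ^ j) := by
          let a : zpowers (x : G) := ⟨y, hy1⟩
          let b : zpowers (x : G) := ⟨(x : G) ^ j, zpow_mem (mem_zpowers _) j⟩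
          haveI : IsCyclic (zpowers (x : G)) := inferInstance
          have h4 : zpowers a = zpowers b := CfsgLib.PGroup.Kulakoff.eq_of_card_eq (by
            rw [Nat.card_zpowers, Nat.card_zpowers, ← Subgroup.orderOf_coe a, ← Subgroup.orderOf_coe b, h1, h2])
          have h5 := congrArg (Subgroup.map (zpowers (x : G)).subtype) h4
          rwa [MonoidHom.map_zpowers, MonoidHom.map_zpowers] at h5
        exact hjN (zpowers_le.2 hy2 (h3.symm ▸ mem_zpowers _))
      have hsup : N ⊔ zpowers (x : G) = (P : Subgroup G) :=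
        le_antisymm (sup_le hNP (zpowers_le.2 x.2)) fun y hy => by
          obtain ⟨i, hi⟩ := hrep y hy
          rw [show y = (x : G) ^ i * (((x : G) ^ i)⁻¹ * y) by group]
          exact mul_mem (mem_sup_right (zpow_mem (mem_zpowers _) i)) (mem_sup_left hi)
      obtain ⟨L, hL⟩ := CfsgLib.Coprime.gaschutz_exists (K := N) (U := (P : Subgroup G))
        (A := zpowers (x : G)) ⟨zpowers_le.2 x.2, hinf, hsup⟩ (by
          obtain ⟨k, hk⟩ := (P.2.to_le hNP).exists_card_eq
          rw [hk]
          exact ((Fact.out : p.Prime).coprime_iff_not_dvd.2 P.not_dvd_index).pow_left k)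
      have hLn : (F ⊓ L).Normal := by
        refine ⟨fun y hy g => ?_⟩
        obtain ⟨⟨n, l⟩, rfl⟩ := hL.2 g
        have h1 : (l : G) * y * (l : G)⁻¹ ∈ F ⊓ L :=
          ⟨(inferInstance : F.Normal).conj_mem y hy.1 _, L.mul_mem (L.mul_mem l.2 hy.2) (L.inv_mem l.2)⟩
        rw [show (n : G) * l * y * ((n : G) * l)⁻¹ = n * ((l : G) * y * (l : G)⁻¹) * (n : G)⁻¹ by group,
          (hFfr n (hNF n.2) _ h1.1).2, mul_inv_cancel_right]
        exact h1
      by_cases hFL : F ⊓ L = ⊥
      · refine hne (le_antisymm (fun f hf => ?_) hNF)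
        obtain ⟨⟨n, l⟩, hnl⟩ := hL.2 f
        have hlF : (l : G) ∈ F := by
          rw [show (l : G) = (n : G)⁻¹ * f by rw [← hnl]; group]
          exact mul_mem (inv_mem (hNF n.2)) hf
        have hl1 : (l : G) = 1 := mem_bot.1 (hFL ▸ (⟨hlF, l.2⟩ : (l : G) ∈ F ⊓ L))
        rw [← hnl]
        simp [hl1]
      · have h1 : N ≤ L := (huniq _ hLn hFL).trans inf_le_right
        exact hN1 (le_bot_iff.1 (fun n hn => hL.disjoint.le_bot ⟨hn, h1 hn⟩))
    exact ⟨N, hN, hFs.trans hFN, hN1, huniq, fun h => absurd hNab h⟩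
  · have hNE : N ≤ Cfsg.layer G := huniq _ inferInstance hE
    haveI := hN
    have hnab : ¬ IsMulCommutative N := by
      intro hab
      haveI := hab
      have hsolv : Group.IsSolvable N := Group.isSolvable_of_comm fun a b => hab.is_comm.comm a b
      have hcomm := CfsgLib.Coprime.layer_commutator_solvable_eq_bot hsolv
        (by rw [normalizer_eq_top_iff.2 hN]; exact le_top)
      rw [CfsgLib.Coprime.commutator_eq_bot_iff_forall] at hcomm
      refine hTate N hN hN1 fun z hz => ?_
      have hET : ⁅(⊤ : Subgroup (Cfsg.layer G)), (⊤ : Subgroup (Cfsg.layer G))⁆ = ⊤ := by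
        rw [← _root_.commutator_def]
        haveI : Group.IsPerfect (Cfsg.layer G) := Subgroup.isPerfect_iff.2 CfsgLib.Coprime.layer_isPerfect
        exact Group.IsPerfect.commutator_eq_top
      obtain ⟨T, hT⟩ : ∃ T : Sylow p (Cfsg.layer G), (T : Subgroup (Cfsg.layer G)) =
          (P : Subgroup G).subgroupOf (Cfsg.layer G) :=
        ⟨(P.2.comap_of_injective (Cfsg.layer G).subtype (Cfsg.layer G).subtype_injective).toSylow (by
          have h := CfsgLib.Fusion.not_dvd_relIndex_inf_of_normal P (Cfsg.layer G)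
          rwa [Subgroup.inf_relIndex_right] at h), rfl⟩
      have hzT : (⟨z, hNE hz.1⟩ : Cfsg.layer G) ∈ (T : Subgroup (Cfsg.layer G)) := hT ▸ hz.2
      have h1 := mem_commutator_of_central hET T hzT fun y => Subtype.ext (hcomm y y.2 z hz.1)
      let f : (T : Subgroup (Cfsg.layer G)) →* (P : Subgroup G) :=
        { toFun := fun a => ⟨((a : Cfsg.layer G) : G), (hT ▸ a.2 : (a : Cfsg.layer G) ∈ (P : Subgroup G).subgroupOf _)⟩
          map_one' := rfl
          map_mul' := fun _ _ => rfl }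
      have h2 : f ⟨_, hzT⟩ ∈ commutator (P : Subgroup G) :=
        (by rw [_root_.commutator_def, Subgroup.map_commutator]
            exact Subgroup.commutator_mono le_top le_top :
          (commutator _).map f ≤ commutator _) (mem_map_of_mem f h1)
      exact ⟨_, CfsgLib.Coprime.commutator_le_frattini P.2 h2, rfl⟩
    have hC : centralizer (N : Set G) = ⊥ := by
      by_contra hC
      have h1 : N ≤ centralizer (N : Set G) := huniq _ inferInstance hC
      exact hnab ⟨⟨fun a b => Subtype.ext (mem_centralizer_iff.1 (h1 b.2) a a.2)⟩⟩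
    have hFb : Cfsg.fittingSubgroup G = ⊥ := by
      by_contra hFne
      have h1 : N ≤ centralizer (Cfsg.layer G : Set G) :=
        (huniq _ inferInstance hFne).trans CfsgLib.Coprime.fitting_le_centralizer_layer
      exact hnab ⟨⟨fun a b => Subtype.ext (mem_centralizer_iff.1 (h1 b.2) a (hNE a.2))⟩⟩
    have hEN : Cfsg.layer G = N := by
      refine le_antisymm (sSup_le fun K hK => ?_) hNE
      refine (CfsgLib.Coprime.component_le_or_commutator_eq_bot hK (Subgroup.Normal.isSubnormal hN)).resolve_right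
        fun hc => ?_
      rw [commutator_eq_bot_iff_le_centralizer, hC, le_bot_iff] at hc
      haveI := CfsgLib.Coprime.nontrivial_of_isQuasisimple hK.2
      exact ((Subgroup.nontrivial_iff_ne_bot K).1 inferInstance) hc
    refine ⟨N, hN, ?_, hN1, huniq, fun _ => ⟨hEN, hC⟩⟩
    rw [Cfsg.generalizedFittingSubgroup, hFb, sup_bot_eq, hEN]

theorem transitive_components (hna : ¬ IsMulCommutative (P : Subgroup G))
    (hgen : (frattini ↥(P : Subgroup G)).index = p ^ 2) (hcore : Cfsg.pPrimeCore p G = ⊥)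
    (hC : centralizer (Cfsg.layer G : Set G) = ⊥) {K L : Subgroup G} (hK : Cfsg.IsComponent K)
    (hL : Cfsg.IsComponent L) :
    ∃ x ∈ (P : Subgroup G), L = K.map (MulAut.conj x).toMonoidHom := by
  classical
  by_contra hno
  set orb : Set (Subgroup G) := {X | ∃ x ∈ (P : Subgroup G), X = K.map (MulAut.conj x).toMonoidHom}
  have hcomp : ∀ X ∈ orb, Cfsg.IsComponent X := by
    rintro X ⟨x, -, rfl⟩
    exact CfsgLib.Coprime.isComponent_map_equiv (MulAut.conj x) hK
  have hinvor : ∀ (g : G), g ∈ (P : Subgroup G) → ∀ X : Subgroup G, X ∈ orb →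
      X.map (MulAut.conj g).toMonoidHom ∈ orb := by
    rintro g hg X ⟨x, hx, rfl⟩
    refine ⟨g * x, mul_mem hg hx, ?_⟩
    rw [Subgroup.map_map]
    congr 1
    ext y
    simp [mul_assoc]
  set A := sSup orb with hAdef
  set B := sSup {X : Subgroup G | Cfsg.IsComponent X ∧ X ∉ orb} with hBdef
  have hAE : A ≤ Cfsg.layer G := sSup_le fun X hX => CfsgLib.Coprime.component_le_layer (hcomp X hX)
  have hBE : B ≤ Cfsg.layer G := sSup_le fun X hX => CfsgLib.Coprime.component_le_layer hX.1
  have hsup : A ⊔ B = Cfsg.layer G := by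
    refine le_antisymm (sup_le hAE hBE) (sSup_le fun X hX => ?_)
    by_cases hXo : X ∈ orb
    · exact (le_sSup hXo).trans le_sup_left
    · exact (le_sSup (show X ∈ {X : Subgroup G | Cfsg.IsComponent X ∧ X ∉ orb} from ⟨hX, hXo⟩)).trans le_sup_right
  have hcAB : A ≤ centralizer (B : Set G) := sSup_le fun X hX =>
    (le_centralizer_iff).1 (sSup_le fun Y hY => commutator_eq_bot_iff_le_centralizer.1
      (CfsgLib.Coprime.components_commute hY.1 (hcomp X hX) fun e => hY.2 (e ▸ hX)))
  have hd : A ⊓ B = ⊥ := by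
    refine le_bot_iff.1 (hC ▸ ?_)
    rw [← hsup, le_centralizer_iff]
    exact sup_le (le_centralizer_iff.1 (inf_le_right.trans (le_centralizer_iff.1 hcAB)))
      (le_centralizer_iff.1 (inf_le_left.trans hcAB))
  -- invariance
  have hnE : ∀ (S : Set (Subgroup G)), (∀ X ∈ S, Cfsg.IsComponent X) →
      (∀ g ∈ (P : Subgroup G), ∀ X ∈ S, X.map (MulAut.conj g).toMonoidHom ∈ S) →
      Cfsg.layer G ≤ normalizer ((sSup S : Subgroup G) : Set G) ∧
        (P : Subgroup G) ≤ normalizer ((sSup S : Subgroup G) : Set G) := by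
    intro S hS hinv
    have key : ∀ H : Subgroup G, (∀ g ∈ H, ∀ X ∈ S, X.map (MulAut.conj g).toMonoidHom ≤ sSup S) →
        H ≤ normalizer ((sSup S : Subgroup G) : Set G) := by
      intro H hH g hg
      have step : ∀ g ∈ H, ∀ y ∈ sSup S, g * y * g⁻¹ ∈ sSup S := fun g hg => by
        have : sSup S ≤ (sSup S).comap (MulAut.conj g).toMonoidHom := sSup_le fun X hX =>
          map_le_iff_le_comap.1 (hH g hg X hX)
        exact fun y hy => this hy
      refine mem_normalizer_iff.2 fun y => ⟨step g hg y, fun hy => ?_⟩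
      have := step g⁻¹ (inv_mem hg) _ hy
      simpa [mul_assoc] using this
    refine ⟨key _ fun g hg X hX => ?_, key _ fun g hg X hX => le_sSup (hinv g hg X hX)⟩
    rintro _ ⟨y, hy, rfl⟩
    exact le_sSup hX ((mem_normalizer_iff.1
      (CfsgLib.Coprime.layer_le_normalizer_component (hS X hX) hg) y).1 hy)
  obtain ⟨hEA, hPA⟩ := hnE orb hcomp hinvor
  obtain ⟨hEB, hPB⟩ := hnE {X : Subgroup G | Cfsg.IsComponent X ∧ X ∉ orb} (fun X hX => hX.1)
    fun g hg X hX => ⟨CfsgLib.Coprime.isComponent_map_equiv (MulAut.conj g) hX.1, fun ho => hX.2 (by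
      have := hinvor g⁻¹ (inv_mem hg) _ ho
      rw [Subgroup.map_map, show (MulAut.conj g⁻¹).toMonoidHom.comp (MulAut.conj g).toMonoidHom =
        MonoidHom.id G from MonoidHom.ext fun y => by simp [mul_assoc], Subgroup.map_id] at this
      exact this)⟩
  haveI := CfsgLib.Coprime.layer_normal (G := G)
  set H := Cfsg.layer G ⊔ (P : Subgroup G)
  have hperf : ∀ S : Set (Subgroup G), (∀ X ∈ S, Cfsg.IsComponent X) → ⁅sSup S, sSup S⁆ = sSup S := fun S hS =>
    le_antisymm (commutator_le_self _) (sSup_le fun X hX => by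
      rw [← CfsgLib.Coprime.commutator_self_of_isComponent (hS X hX)]
      exact commutator_mono (le_sSup hX) (le_sSup hX))
  have hbig : ∀ A' : Subgroup G, A' ≤ Cfsg.layer G → Cfsg.layer G ≤ normalizer (A' : Set G) →
      (P : Subgroup G) ≤ normalizer (A' : Set G) → ⁅A', A'⁆ = A' → A' ≠ ⊥ → ¬ A' ⊓ (P : Subgroup G) ≤ ((frattini ↥(P : Subgroup G)).map (P : Subgroup G).subtype) := by
    intro A' hle hEn hPn hp1 hne
    refine not_inf_le_of_perfect P hcore (H := H) le_sup_right (hle.trans le_sup_left) (sup_le hEn hPn) hp1 ?_ hne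
    haveI : (A'.subgroupOf (Cfsg.layer G)).Normal := (normal_subgroupOf_iff_le_normalizer hle).2 hEn
    have := (Subgroup.Normal.isSubnormal ‹(A'.subgroupOf (Cfsg.layer G)).Normal›).trans'
      (Subgroup.Normal.isSubnormal (CfsgLib.Coprime.layer_normal (G := G)))
    rwa [map_subgroupOf_eq_of_le hle] at this
  have hne : ∀ {X : Subgroup G} {S : Set (Subgroup G)}, Cfsg.IsComponent X → X ∈ S → sSup S ≠ ⊥ :=
    fun {X S} hX hm e => by
      haveI := CfsgLib.Coprime.nontrivial_of_isQuasisimple hX.2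
      exact ((Subgroup.nontrivial_iff_ne_bot X).1 inferInstance) (le_bot_iff.1 (e ▸ le_sSup hm))
  have hKo : K ∈ orb := ⟨1, one_mem _, by ext y; simp⟩
  have hLo : L ∉ orb := fun ⟨x, hx, e⟩ => hno ⟨x, hx, e⟩
  refine false_of_two P hna hgen hd hPA (hbig A hAE hEA hPA (hperf _ hcomp) (hne hK hKo)) hPB
    (hbig B hBE hEB hPB (hperf _ fun X hX => hX.1)
      (hne hL (show L ∈ {X : Subgroup G | Cfsg.IsComponent X ∧ X ∉ orb} from ⟨hL, hLo⟩)))

end Main

/-- Let p be a prime and G a finite group with a non-commutative Sylow p-subgroup P whose Frattini subgroup has index p² in P (P is generated by two elements). Suppose G has no nontrivial normal subgroup of order prime to p and the Frattini subgroup of P contains no nontrivial normal subgroup of G. Then the generalized Fitting subgroup F*(G) is the unique minimal normal subgroup of G, the image of P in G/F*(G) is cyclic, and if F*(G) is not commutative then P permutes the components of G transitively by conjugation. -/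
theorem result {G : Type*} [Group G] [Finite G] (p : ℕ) [Fact p.Prime] (P : Sylow p G) (hna : ¬ IsMulCommutative (P : Subgroup G)) (hgen : (frattini ↥(P : Subgroup G)).index = p ^ 2) (hcore : Cfsg.pPrimeCore p G = ⊥) (hfrat : ((frattini ↥(P : Subgroup G)).map (P : Subgroup G).subtype).normalCore = ⊥) [hFn : (Cfsg.generalizedFittingSubgroup G).Normal] :
    (Cfsg.generalizedFittingSubgroup G ≠ ⊥ ∧ ∀ K : Subgroup G, K.Normal → K ≠ ⊥ → Cfsg.generalizedFittingSubgroup G ≤ K) ∧
      IsCyclic ↥((P : Subgroup G).map (QuotientGroup.mk' (Cfsg.generalizedFittingSubgroup G))) ∧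
      (¬ IsMulCommutative (Cfsg.generalizedFittingSubgroup G) → ∀ K L : Subgroup G, Cfsg.IsComponent K → Cfsg.IsComponent L → ∃ x ∈ (P : Subgroup G), L = K.map (MulAut.conj x).toMonoidHom) := by
  obtain ⟨N, hN, hF, hN1, huniq, hnab⟩ := structure_main P hna hgen hcore hfrat
  haveI := hN
  refine ⟨⟨hF ▸ hN1, fun K hK hK1 => hF ▸ huniq K hK hK1⟩, ?_, fun hFna K L hK hL => ?_⟩
  · subst hF
    have hPn : (P : Subgroup G) ≤ Subgroup.normalizer ((Cfsg.generalizedFittingSubgroup G) : Set G) := by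
      rw [Subgroup.normalizer_eq_top_iff.2 hFn]; exact le_top
    haveI := isCyclic_quotient_subgroupOf P hgen hPn (not_inf_le P hcore hfrat hN1)
    let f := (QuotientGroup.mk' (Cfsg.generalizedFittingSubgroup G)).comp (P : Subgroup G).subtype
    have hker : (Cfsg.generalizedFittingSubgroup G).subgroupOf (P : Subgroup G) ≤ f.ker := fun x hx =>
      MonoidHom.mem_ker.2 ((QuotientGroup.eq_one_iff _).2 hx)
    let g := QuotientGroup.lift _ f hker
    have hg : g.range = (P : Subgroup G).map (QuotientGroup.mk' (Cfsg.generalizedFittingSubgroup G)) := by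
      ext y
      constructor
      · rintro ⟨x, rfl⟩
        obtain ⟨x, rfl⟩ := QuotientGroup.mk_surjective x
        exact ⟨x, x.2, rfl⟩
      · rintro ⟨x, hx, rfl⟩
        exact ⟨QuotientGroup.mk ⟨x, hx⟩, rfl⟩
    rw [← hg]
    exact isCyclic_of_surjective g.rangeRestrict g.rangeRestrict_surjective
  · rw [hF] at hFna
    obtain ⟨hEN, hC⟩ := hnab hFna
    exact transitive_components P hna hgen hcore (by rw [hEN]; exact hC) hK hL

end Cfsg.Agent.S4172
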