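import Cfsg.Statements.S4178
-- import your own Cfsg.Agent.* helpers here
import Mathlib.GroupTheory.Index
import Mathlib.LinearAlgebra.FiniteDimensional.Basic
import Mathlib.FieldTheory.Finiteness
import Mathlib.Analysis.SpecialFunctions.Pow.Real

set_option autoImplicit false
open Cfsg

namespace Cfsg.Agent.S4178

/-- If elements fixing `x₀` lie in `K`, then `H` has at most as many `K`-cosets as there are
possible images of `x₀`. -/
theorem index_le_of_stabilizer {H X : Type*} [Group H] [MulAction H X] [Finite X] (K : Subgroup H)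
    (x₀ : X) (hst : ∀ h : H, h • x₀ = x₀ → h ∈ K) : K.index ≤ Nat.card X := by
  refine Nat.card_le_card_of_injective (fun c : H ⧸ K => c.out • x₀) fun a b h => ?_
  have h' : (b.out⁻¹ * a.out) • x₀ = x₀ := by
    rw [mul_smul]; simp only at h; rw [h, inv_smul_smul]
  rw [← a.out_eq', ← b.out_eq']
  exact (QuotientGroup.eq.2 (hst _ h')).symm

/-- Let F be a finite field with q elements, V a non-zero finite-dimensional F-space of dimension d, H a group of invertible linear maps of V, and R the subgroup of H generated by the elements of H that fix some non-zero vector (have eigenvalue 1). Then the index of R in H is at most q^d − 1; and if H leaves invariant some proper non-zero subspace, the index is at most q^(d/2) − 1. -/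
theorem result {F V : Type*} [Field F] [Fintype F] [AddCommGroup V] [Module F V] [FiniteDimensional F V] [Nontrivial V]
    (H : Subgroup (V ≃ₗ[F] V)) :
    (Subgroup.closure {h : ↥H | ∃ v : V, v ≠ 0 ∧ (h : V ≃ₗ[F] V) v = v}).index ≤ Fintype.card F ^ Module.finrank F V - 1 ∧
    ((∃ W : Submodule F V, W ≠ ⊥ ∧ W ≠ ⊤ ∧ ∀ h ∈ H, ∀ w ∈ W, h w ∈ W) →
      ((Subgroup.closure {h : ↥H | ∃ v : V, v ≠ 0 ∧ (h : V ≃ₗ[F] V) v = v}).index : ℝ) ≤ Real.sqrt ((Fintype.card F : ℝ) ^ Module.finrank F V) - 1) := by
  classical
  haveI : Finite V := Module.finite_of_finite F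
  set K := Subgroup.closure {h : ↥H | ∃ v : V, v ≠ 0 ∧ (h : V ≃ₗ[F] V) v = v} with hK
  have hmem : ∀ (h : H) (v : V), v ≠ 0 → (h : V ≃ₗ[F] V) v = v → h ∈ K := fun h v hv he =>
    Subgroup.subset_closure ⟨v, hv, he⟩
  have hcard : ∀ (M : Type _) [AddCommGroup M] [Finite M], Nat.card {x : M // x ≠ 0} = Nat.card M - 1 := by
    intro M _ _
    haveI := Fintype.ofFinite M
    rw [Nat.card_eq_fintype_card, Nat.card_eq_fintype_card, Fintype.card_subtype_compl,
      Fintype.card_subtype_eq]
  have hV : Nat.card V = Fintype.card F ^ Module.finrank F V := by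
    rw [Module.natCard_eq_pow_finrank (K := F), Nat.card_eq_fintype_card]
  constructor
  · letI : MulAction H {x : V // x ≠ 0} :=
      { smul := fun h x => ⟨(h : V ≃ₗ[F] V) x, by simpa using x.2⟩
        one_smul := fun x => Subtype.ext rfl
        mul_smul := fun g h x => Subtype.ext rfl }
    obtain ⟨x, hx⟩ := exists_ne (0 : V)
    rw [← hV, ← hcard V]
    exact index_le_of_stabilizer K (⟨x, hx⟩ : {x : V // x ≠ 0}) fun h he =>
      hmem h x hx (congrArg Subtype.val he)
  · rintro ⟨W, hW0, hWT, hinv⟩
    have h1 : K.index ≤ Nat.card W - 1 := by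
      letI : MulAction H {x : W // x ≠ 0} :=
        { smul := fun h x => ⟨⟨(h : V ≃ₗ[F] V) x.1, hinv _ h.2 _ x.1.2⟩, fun e => x.2
            (Subtype.ext ((LinearEquiv.map_eq_zero_iff _).1 (congrArg Subtype.val e)))⟩
          one_smul := fun x => Subtype.ext (Subtype.ext rfl)
          mul_smul := fun g h x => Subtype.ext (Subtype.ext rfl) }
      haveI := Submodule.nontrivial_iff_ne_bot.2 hW0
      obtain ⟨x, hx⟩ := exists_ne (0 : W)
      rw [← hcard W]
      exact index_le_of_stabilizer K (⟨x, hx⟩ : {x : W // x ≠ 0}) fun h he =>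
        hmem h x (fun e => hx (Subtype.ext e)) (congrArg (fun z : {x : W // x ≠ 0} => (z.1 : V)) he)
    have h2 : K.index ≤ Nat.card (V ⧸ W) - 1 := by
      haveI : Finite (V ⧸ W) := Finite.of_surjective _ (Submodule.mkQ_surjective W)
      let q : H → (V ⧸ W) →ₗ[F] (V ⧸ W) := fun h =>
        W.mapQ W ((h : V ≃ₗ[F] V) : V →ₗ[F] V) fun w hw => hinv _ h.2 w hw
      have q1 : ∀ x, q 1 x = x := fun x => by
        induction x using Submodule.Quotient.induction_on with | H v => rfl
      have qm : ∀ g h x, q (g * h) x = q g (q h x) := fun g h x => by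
        induction x using Submodule.Quotient.induction_on with | H v => rfl
      letI : MulAction H {x : V ⧸ W // x ≠ 0} :=
        { smul := fun h x => ⟨q h x, fun e => x.2 (by
            have := congrArg (q h⁻¹) e
            rwa [← qm, inv_mul_cancel, q1, map_zero] at this)⟩
          one_smul := fun x => Subtype.ext (q1 x.1)
          mul_smul := fun g h x => Subtype.ext (qm g h x.1) }
      haveI : Nontrivial (V ⧸ W) := Submodule.Quotient.nontrivial_iff.2 hWT
      obtain ⟨x, hx⟩ := exists_ne (0 : V ⧸ W)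
      rw [← hcard (V ⧸ W)]
      refine index_le_of_stabilizer K (⟨x, hx⟩ : {x : V ⧸ W // x ≠ 0}) fun h he => ?_
      obtain ⟨v, rfl⟩ := Submodule.Quotient.mk_surjective W x
      have he' : (h : V ≃ₗ[F] V) v - v ∈ W :=
        (Submodule.Quotient.eq W).1 (congrArg Subtype.val he)
      let d : W →ₗ[F] W :=
        (((h : V ≃ₗ[F] V) : V →ₗ[F] V) - LinearMap.id).restrict
          (p := W) (q := W) (fun w hw => W.sub_mem (hinv _ h.2 w hw) hw)
      by_cases hd : Function.Injective d
      · obtain ⟨w, hw⟩ := LinearMap.injective_iff_surjective.1 hd ⟨_, he'⟩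
        have hw' : (h : V ≃ₗ[F] V) (w : V) - w = (h : V ≃ₗ[F] V) v - v := congrArg Subtype.val hw
        refine hmem h (v - w) (fun e => hx ?_) ?_
        · rw [sub_eq_zero.1 e]; exact (Submodule.Quotient.mk_eq_zero W).2 w.2
        · rw [map_sub, sub_eq_sub_iff_sub_eq_sub]
          exact hw'.symm
      · rw [← LinearMap.ker_eq_bot] at hd
        obtain ⟨w, hw, hw0⟩ := Submodule.exists_mem_ne_zero_of_ne_bot hd
        refine hmem h (w : V) (fun e => hw0 (Subtype.ext e)) (sub_eq_zero.1 ?_)
        exact congrArg Subtype.val (LinearMap.mem_ker.1 hw)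
    have hmul : Nat.card W * Nat.card (V ⧸ W) = Nat.card V := by
      rw [Submodule.card_eq_card_quotient_mul_card W, mul_comm]
    have ha : 1 ≤ Nat.card W := Nat.card_pos
    haveI : Finite (V ⧸ W) := Finite.of_surjective _ (Submodule.mkQ_surjective W)
    have hb : 1 ≤ Nat.card (V ⧸ W) := Nat.card_pos
    have hsq : ((K.index : ℝ) + 1) ^ 2 ≤ (Fintype.card F : ℝ) ^ Module.finrank F V := by
      have : (K.index + 1) ^ 2 ≤ Fintype.card F ^ Module.finrank F V := by
        rw [← hV, ← hmul, sq]
        exact Nat.mul_le_mul (by omega) (by omega)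
      exact_mod_cast this
    have h3 := Real.le_sqrt_of_sq_le hsq
    linarith

end Cfsg.Agent.S4178
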