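import Cfsg.Statements.S4182
import Mathlib

set_option autoImplicit false
open Cfsg

namespace Cfsg.Agent.S4182

universe u v

/-- Elements of `p`-power order. -/
def pel (p : ℕ) (G : Type*) [Group G] : Set G := {g | ∃ k : ℕ, orderOf g = p ^ k}

/-- Proper subgroups generated by their `p`-elements. -/
def pgenSub (p : ℕ) (G : Type*) [Group G] : Set (Subgroup G) :=
  {H | H ≠ ⊤ ∧ Subgroup.closure (pel p G ∩ H) = H}

/-- Conjugate of a subgroup. -/
def cj {G : Type*} [Group G] (x : G) (H : Subgroup G) : Subgroup G :=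
  H.map (MulAut.conj x).toMonoidHom

variable {G : Type*} [Group G]

theorem mem_cj {x g : G} {H : Subgroup G} : g ∈ cj x H ↔ x⁻¹ * g * x ∈ H := by
  unfold cj
  rw [Subgroup.mem_map_equiv]
  simp

theorem cj_one (H : Subgroup G) : cj 1 H = H := by
  ext g; simp [mem_cj]

theorem cj_mul (x y : G) (H : Subgroup G) : cj (x * y) H = cj x (cj y H) := by
  ext g; simp [mem_cj, mul_assoc]

theorem cj_inv_cj (x : G) (H : Subgroup G) : cj x⁻¹ (cj x H) = H := by
  rw [← cj_mul, inv_mul_cancel, cj_one]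

theorem cj_cj_inv (x : G) (H : Subgroup G) : cj x (cj x⁻¹ H) = H := by
  rw [← cj_mul, mul_inv_cancel, cj_one]

theorem cj_mono (x : G) {H K : Subgroup G} (h : H ≤ K) : cj x H ≤ cj x K :=
  Subgroup.map_mono h

theorem cj_mem_pgenSub {p : ℕ} (x : G) {H : Subgroup G} (h : H ∈ pgenSub p G) :
    cj x H ∈ pgenSub p G := by
  refine ⟨fun htop => h.1 ?_, le_antisymm ((Subgroup.closure_le _).2 Set.inter_subset_right) ?_⟩
  · have h2 := congrArg (cj x⁻¹) htop
    rw [cj_inv_cj] at h2
    rw [h2]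
    ext g; simp [mem_cj]
  · conv_lhs => rw [cj, ← h.2, MonoidHom.map_closure]
    refine Subgroup.closure_mono ?_
    rintro _ ⟨a, ⟨⟨k, hk⟩, ha⟩, rfl⟩
    exact ⟨⟨k, by rw [← hk]; exact (MulAut.conj x).orderOf_eq a⟩, ⟨a, ha, rfl⟩⟩

theorem cj_maximal {p : ℕ} (x : G) {M : Subgroup G} (h : Maximal (· ∈ pgenSub p G) M) :
    Maximal (· ∈ pgenSub p G) (cj x M) := by
  refine ⟨cj_mem_pgenSub x h.1, fun H hH hle => ?_⟩
  have h1 : M ≤ cj x⁻¹ H := by
    have := cj_mono x⁻¹ hle
    rwa [cj_inv_cj] at this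
  have h2 := cj_mono x (h.2 (cj_mem_pgenSub x⁻¹ hH) h1)
  rwa [cj_cj_inv] at h2

/-- The permutation action by conjugation on the maximal `p`-generated proper subgroups. -/
def cjPerm (p : ℕ) (G : Type*) [Group G] :
    G →* Equiv.Perm {M : Subgroup G // Maximal (· ∈ pgenSub p G) M} where
  toFun x :=
    { toFun := fun M => ⟨cj x M.1, cj_maximal x M.2⟩
      invFun := fun M => ⟨cj x⁻¹ M.1, cj_maximal x⁻¹ M.2⟩
      left_inv := fun M => Subtype.ext (cj_inv_cj x M.1)
      right_inv := fun M => Subtype.ext (cj_cj_inv x M.1) }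
  map_one' := Equiv.ext fun M => Subtype.ext (cj_one M.1)
  map_mul' := fun x y => Equiv.ext fun M => Subtype.ext (cj_mul x y M.1)

theorem perm_eq_one {α : Type*} [Finite α] {p k : ℕ} (hp : p.Prime) (hn : Nat.card α ≤ p)
    (σ : Equiv.Perm α) (hσ : orderOf σ ∣ p ^ k) (a : α) (ha : σ a = a) : σ = 1 := by
  classical
  haveI := Fintype.ofFinite α
  have hinv : ∀ y, y ≠ a ↔ σ y ≠ a := fun y =>
    ⟨fun hy e => hy (σ.injective (e.trans ha.symm)), fun hy e => hy (e ▸ ha)⟩
  let τ : Equiv.Perm {y // y ≠ a} := σ.subtypePerm fun y => (hinv y).symm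
  have hτ : Equiv.Perm.ofSubtype τ = σ := by
    refine Equiv.Perm.ofSubtype_subtypePerm _ ?_
    intro y hy e
    subst e
    exact hy ha
  have hcard : Fintype.card {y // y ≠ a} < p := by
    have : Fintype.card {y // y ≠ a} < Fintype.card α :=
      Fintype.card_subtype_lt (x := a) (by simp)
    rw [Nat.card_eq_fintype_card] at hn
    omega
  have h1 : orderOf τ ∣ (Fintype.card {y // y ≠ a}).factorial := by
    rw [← Fintype.card_perm]
    exact orderOf_dvd_card
  have h2 : orderOf σ = orderOf τ := by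
    rw [← hτ]; exact orderOf_injective _ Equiv.Perm.ofSubtype_injective τ
  have h3 : Nat.Coprime (p ^ k) (Fintype.card {y // y ≠ a}).factorial := by
    refine Nat.Coprime.pow_left _ (hp.coprime_iff_not_dvd.2 fun hd => ?_)
    have := hp.dvd_factorial.1 hd
    omega
  have h4 : orderOf σ = 1 := Nat.eq_one_of_dvd_coprimes h3 hσ (h2 ▸ h1)
  exact orderOf_eq_one_iff.1 h4

theorem pgroup_case [Finite G] {p : ℕ} [Fact p.Prime] (hG : IsPGroup p G) {ι : Type*} [Fintype ι]
    (K : ι → Subgroup G) (hK : ∀ i, K i ≠ ⊤) (hcov : ∀ g : G, ∃ i, g ∈ K i) :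
    p + 1 ≤ Fintype.card ι := by
  classical
  haveI := Fintype.ofFinite G
  by_contra hlt
  have hle : Fintype.card ι ≤ p := by omega
  have hp := (Fact.out : p.Prime)
  obtain ⟨i0, -⟩ := hcov 1
  have hsub : (Finset.univ : Finset G) ⊆
      insert 1 (Finset.univ.biUnion fun i => (Finset.univ.filter fun g => g ∈ K i).erase 1) := by
    intro g _
    by_cases hg : g = 1
    · simp [hg]
    · obtain ⟨i, hi⟩ := hcov g
      simp only [Finset.mem_insert, Finset.mem_biUnion, Finset.mem_erase, Finset.mem_filter]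
      exact Or.inr ⟨i, Finset.mem_univ _, hg, Finset.mem_univ _, hi⟩
  have hKi : ∀ i, p * ((Finset.univ.filter fun g => g ∈ K i).erase 1).card + p ≤ Nat.card G := by
    intro i
    rw [Finset.card_erase_of_mem (by simp)]
    have hc : (Finset.univ.filter fun g => g ∈ K i).card = Nat.card (K i) := by
      rw [Nat.card_eq_fintype_card, Fintype.card_subtype]
    rw [hc]
    have hidx := (K i).card_mul_index
    obtain ⟨a, ha⟩ := hG.exists_card_eq
    have hdvd : (K i).index ∣ p ^ a := ha ▸ (K i).index_dvd_card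
    obtain ⟨b, -, hb⟩ := (Nat.dvd_prime_pow hp).1 hdvd
    have hb0 : b ≠ 0 := by
      intro h0
      rw [h0, pow_zero] at hb
      exact hK i (Subgroup.index_eq_one.1 hb)
    have hpi : p ≤ (K i).index := hb ▸ Nat.le_self_pow hb0 p
    have hpos : 0 < Nat.card (K i) := Nat.card_pos
    have : Nat.card (K i) * p ≤ Nat.card G := hidx ▸ Nat.mul_le_mul_left _ hpi
    obtain ⟨c, hc'⟩ := Nat.exists_eq_add_of_le hpos
    rw [hc'] at this ⊢
    rw [Nat.add_sub_cancel_left]
    linarith
  have h1 := Finset.card_le_card hsub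
  rw [Finset.card_univ, ← Nat.card_eq_fintype_card] at h1
  have h2 := h1.trans ((Finset.card_insert_le _ _).trans
    (Nat.add_le_add_right Finset.card_biUnion_le 1))
  have h3 := Finset.sum_le_sum (s := (Finset.univ : Finset ι)) fun i _ => hKi i
  simp only [Finset.sum_add_distrib, Finset.sum_const, Finset.card_univ, ← Finset.mul_sum,
    smul_eq_mul] at h3
  have hp2 := hp.two_le
  have hge : p ≤ Nat.card G := by
    have := hKi i0
    omega
  nlinarith

theorem core {p : ℕ} [Fact p.Prime] {ι : Type v} [Fintype ι] (n : ℕ) :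
    ∀ (G : Type u) [Group G] [Finite G], Nat.card G = n →
      Subgroup.closure (pel p G) = ⊤ → ∀ K : ι → Subgroup G, (∀ i, K i ≠ ⊤) →
      (∀ g ∈ pel p G, ∃ i, g ∈ K i) → p + 1 ≤ Fintype.card ι := by
  induction n using Nat.strong_induction_on with
  | _ n IH =>
  intro G _ _ hn hgen K hK hcov
  classical
  have hp := (Fact.out : p.Prime)
  by_contra hlt
  have hle : Fintype.card ι ≤ p := by omega
  have hin : ∀ H ∈ pgenSub p G, ∃ i, H ≤ K i := by
    intro H hH
    by_contra hno
    push_neg at hno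
    refine hlt (IH (Nat.card H) ?_ H rfl ?_ (fun i => (K i).subgroupOf H) ?_ ?_)
    · rw [← hn]
      refine lt_of_le_of_ne (Subgroup.card_le_card_group H) fun h => hH.1 ?_
      exact Subgroup.eq_top_of_card_eq H h
    · refine Subgroup.map_injective H.subtype_injective ?_
      rw [MonoidHom.map_closure, ← MonoidHom.range_eq_map, Subgroup.range_subtype]
      conv_rhs => rw [← hH.2]
      congr 1
      ext g
      constructor
      · rintro ⟨a, ⟨k, hk⟩, rfl⟩
        exact ⟨⟨k, by simpa using hk⟩, a.2⟩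
      · rintro ⟨⟨k, hk⟩, hg⟩
        exact ⟨⟨g, hg⟩, ⟨k, by simpa using hk⟩, rfl⟩
    · intro i hi
      exact hno i (Subgroup.subgroupOf_eq_top.1 hi)
    · rintro g ⟨k, hk⟩
      obtain ⟨i, hi⟩ := hcov g.1 ⟨k, by simpa using hk⟩
      exact ⟨i, Subgroup.mem_subgroupOf.2 hi⟩
  have hcardM : Nat.card {M : Subgroup G // Maximal (· ∈ pgenSub p G) M} ≤ p := by
    refine le_trans ?_ hle
    rw [← Nat.card_eq_fintype_card]
    have hex : ∀ M : {M : Subgroup G // Maximal (· ∈ pgenSub p G) M},
        ∃ i, M.1 = Subgroup.closure (pel p G ∩ K i) := by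
      intro M
      obtain ⟨i, hi⟩ := hin M.1 M.2.1
      refine ⟨i, ?_⟩
      have hle1 : M.1 ≤ Subgroup.closure (pel p G ∩ K i) := by
        conv_lhs => rw [← M.2.1.2]
        exact Subgroup.closure_mono (Set.inter_subset_inter_right _ hi)
      have hle2 : Subgroup.closure (pel p G ∩ K i) ≤ K i :=
        (Subgroup.closure_le _).2 Set.inter_subset_right
      refine le_antisymm hle1 (M.2.2 ⟨fun h => hK i (top_le_iff.1 (h ▸ hle2)), ?_⟩ hle1)
      refine le_antisymm ((Subgroup.closure_le _).2 Set.inter_subset_right) ?_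
      exact Subgroup.closure_mono fun x hx => ⟨hx.1, Subgroup.subset_closure hx⟩
    choose f hf using hex
    exact Nat.card_le_card_of_injective f fun M N h => Subtype.ext (by rw [hf M, hf N, h])
  obtain ⟨P⟩ := (inferInstance : Nonempty (Sylow p G))
  by_cases hP : (P : Subgroup G) = ⊤
  · have hG : IsPGroup p G :=
      P.isPGroup'.of_equiv ((MulEquiv.subgroupCongr hP).trans Subgroup.topEquiv)
    refine hlt (pgroup_case hG K hK fun g => hcov g ?_)
    exact IsPGroup.iff_orderOf.1 hG g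
  have hPQ : (P : Subgroup G) ∈ pgenSub p G := by
    refine ⟨hP, le_antisymm ((Subgroup.closure_le _).2 Set.inter_subset_right) ?_⟩
    intro g hg
    refine Subgroup.subset_closure ⟨?_, hg⟩
    obtain ⟨k, hk⟩ := IsPGroup.iff_orderOf.1 P.isPGroup' ⟨g, hg⟩
    exact ⟨k, by simpa using hk⟩
  obtain ⟨M0, hPM0, hM0⟩ := Finite.exists_le_maximal (p := fun H => H ∈ pgenSub p G) hPQ
  have hinconj : ∀ g ∈ pel p G, ∃ x : G, g ∈ cj x M0 := by
    rintro g ⟨k, hk⟩
    obtain ⟨P', hP'⟩ := (IsPGroup.of_card (p := p) (G := Subgroup.zpowers g) (n := k)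
      (by rw [Nat.card_zpowers, hk])).exists_le_sylow
    obtain ⟨x, hx⟩ := MulAction.exists_smul_eq G P P'
    refine ⟨x, mem_cj.2 (hPM0 ?_)⟩
    have hgP : g ∈ (P' : Subgroup G) := hP' (Subgroup.mem_zpowers g)
    rw [← hx, Sylow.coe_subgroup_smul, Subgroup.mem_pointwise_smul_iff_inv_smul_mem] at hgP
    simpa [MulAut.smul_def, mul_assoc] using hgP
  have hfix : ∀ g ∈ pel p G, cjPerm p G g = 1 := by
    intro g hg
    obtain ⟨x, hx⟩ := hinconj g hg
    obtain ⟨k, hk⟩ := hg
    refine perm_eq_one (k := k) hp hcardM _ (hk ▸ orderOf_map_dvd _ g)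
      ⟨cj x M0, cj_maximal x hM0⟩ ?_
    refine Subtype.ext ?_
    show cj g (cj x M0) = cj x M0
    ext h
    rw [mem_cj (x := g)]
    constructor
    · intro hh
      have := mul_mem (mul_mem hx hh) (inv_mem hx)
      simpa [mul_assoc] using this
    · intro hh
      exact mul_mem (mul_mem (inv_mem hx) hh) hx
  have hall : ∀ g : G, cjPerm p G g = 1 := by
    intro g
    have : Subgroup.closure (pel p G) ≤ (cjPerm p G).ker :=
      (Subgroup.closure_le _).2 fun y hy => MonoidHom.mem_ker.2 (hfix y hy)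
    exact MonoidHom.mem_ker.1 (this (hgen ▸ Subgroup.mem_top g))
  refine hM0.1.1 (top_le_iff.1 ?_)
  rw [← hgen, Subgroup.closure_le]
  intro g hg
  obtain ⟨x, hx⟩ := hinconj g hg
  have h1 : cjPerm p G x ⟨M0, hM0⟩ = ⟨M0, hM0⟩ := by rw [hall x]; rfl
  have h2 : cj x M0 = M0 := congrArg Subtype.val h1
  exact h2 ▸ hx

/-- Let p be a prime and G a finite group generated by its p-elements. If a finite family of proper subgroups of G covers the set of p-elements of G (every element of p-power order lies in one of them), then the family has at least p + 1 members. -/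
theorem result {G : Type*} [Group G] [Finite G] (p : ℕ) [Fact p.Prime] (hgen : Subgroup.closure {g : G | ∃ k : ℕ, orderOf g = p ^ k} = ⊤)
    {ι : Type*} [Fintype ι] (K : ι → Subgroup G) (hK : ∀ i, K i ≠ ⊤)
    (hcov : ∀ g : G, (∃ k : ℕ, orderOf g = p ^ k) → ∃ i, g ∈ K i) :
    p + 1 ≤ Fintype.card ι := by
  exact core (Nat.card G) G rfl hgen K hK hcov

end Cfsg.Agent.S4182
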