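import Cfsg.Statements.S4184
-- import your own Cfsg.Agent.* helpers here
import Mathlib.GroupTheory.Sylow
import Cfsg.Agent.Lib.PGroup.JordanCover

set_option autoImplicit false
open Cfsg

namespace Cfsg.Agent.S4184

open Subgroup

/-- The part of `n` at the primes in `A` divides `k`. -/
def Full (n : ℕ) (A : Set ℕ) (k : ℕ) : Prop :=
  ∀ a ∈ A, a.Prime → a ∣ n → n.factorization a ≤ k.factorization a

theorem Full.mono {n : ℕ} {A : Set ℕ} {k l : ℕ} (h : Full n A k) (hkl : k ∣ l) (hk : k ≠ 0) (hl : l ≠ 0) :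
    Full n A l := fun a ha hp hd =>
  (h a ha hp hd).trans ((Nat.factorization_le_iff_dvd hk hl).2 hkl a)

theorem dvd_of_full {n : ℕ} {A : Set ℕ} {k : ℕ} (hn : n ≠ 0) (hk : k ≠ 0) (h1 : Full n A k)
    (h2 : Full n Aᶜ k) : n ∣ k := by
  refine (Nat.factorization_le_iff_dvd hn hk).1 fun p => ?_
  by_cases hp : p.Prime
  · by_cases hd : p ∣ n
    · by_cases hA : p ∈ A
      · exact h1 p hA hp hd
      · exact h2 p hA hp hd
    · rw [Nat.factorization_eq_zero_of_not_dvd hd]; exact Nat.zero_le _
  · rw [Nat.factorization_eq_zero_of_not_prime n hp]; exact Nat.zero_le _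

variable {G : Type*} [Group G] [Finite G]

theorem mem_zpowers_mul {x y : G} (hc : Commute x y) (hco : (orderOf x).Coprime (orderOf y)) :
    x ∈ zpowers (x * y) := by
  obtain ⟨m, hm⟩ := exists_pow_eq_self_of_coprime hco.symm
  refine ⟨((orderOf y * m : ℕ) : ℤ), ?_⟩
  show (x * y) ^ ((orderOf y * m : ℕ) : ℤ) = x
  rw [zpow_natCast, pow_mul, hc.mul_pow, pow_orderOf_eq_one, mul_one, hm]

theorem index_centralizer_dvd_mul {x y : G} (hc : Commute x y)
    (hco : (orderOf x).Coprime (orderOf y)) :
    (centralizer ({x} : Set G)).index ∣ (centralizer ({x * y} : Set G)).index := by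
  refine index_dvd_of_le fun z hz => ?_
  rw [mem_centralizer_singleton_iff] at hz ⊢
  obtain ⟨k, hk⟩ := mem_zpowers_mul hc hco
  simp only at hk
  rw [← hk]
  exact Commute.zpow_right hz k

theorem factorization_index_add (x : G) (q : ℕ) :
    (centralizer ({x} : Set G)).index.factorization q +
      (Nat.card (centralizer ({x} : Set G))).factorization q = (Nat.card G).factorization q := by
  rw [← (centralizer ({x} : Set G)).index_mul_card,
    Nat.factorization_mul index_ne_zero_of_finite Nat.card_pos.ne']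
  rfl

theorem index_eq_zero_of_centralizes {q : ℕ} [Fact q.Prime] (P : Sylow q G) {y : G}
    (hy : ∀ t ∈ (P : Subgroup G), Commute y t) :
    (centralizer ({y} : Set G)).index.factorization q = 0 := by
  refine Nat.factorization_eq_zero_of_not_dvd fun h => P.not_dvd_index (h.trans (index_dvd_of_le ?_))
  intro t ht
  rw [mem_centralizer_singleton_iff]
  exact (hy t ht).symm.eq

theorem exists_central {q : ℕ} [Fact q.Prime] {T : Subgroup G} (hT : IsPGroup q T) (h1 : T ≠ ⊥) :
    ∃ s ∈ T, s ≠ 1 ∧ (∀ t ∈ T, Commute s t) ∧ ∃ k : ℕ, orderOf s ∣ q ^ k := by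
  haveI : Nontrivial T := T.nontrivial_iff_ne_bot.2 h1
  haveI := hT.center_nontrivial
  obtain ⟨⟨z, hz⟩, hne⟩ := exists_ne (1 : center T)
  obtain ⟨k, hk⟩ := hT z
  refine ⟨z, z.2, fun h => hne (Subtype.ext (Subtype.ext h)), fun t ht => ?_, k,
    orderOf_dvd_of_pow_eq_one (congrArg Subtype.val hk)⟩
  exact (congrArg Subtype.val (mem_center_iff.1 hz ⟨t, ht⟩)).symm

/-- No prime of `A` can occur in `Nat.card G` more often than in `n`. -/
theorem no_excess (hZ : center G = ⊥) {n : ℕ} (hn : n ∣ Nat.card G) (A : Set ℕ) {q b : ℕ}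
    (hq : q.Prime) (hqA : q ∈ A) (hqn : q ∣ n)
    (hex : n.factorization q < (Nat.card G).factorization q)
    (hb : b.Prime) (hbA : b ∉ A) (hbn : b ∣ n)
    (hdiv : ∀ g : G, (centralizer ({g} : Set G)).index ∣ n)
    (hor : ∀ g : G, g ≠ 1 → Full n A (centralizer ({g} : Set G)).index ∨
      Full n Aᶜ (centralizer ({g} : Set G)).index)
    (hnb : ∀ g : G, ¬(Full n A (centralizer ({g} : Set G)).index ∧
      Full n Aᶜ (centralizer ({g} : Set G)).index)) : False := by
  haveI := Fact.mk hq
  haveI := Fact.mk hb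
  have hn0 : n ≠ 0 := fun h => Nat.card_pos.ne' (Nat.eq_zero_of_zero_dvd (h ▸ hn))
  have hmix : ∀ x y : G, Commute x y → (orderOf x).Coprime (orderOf y) →
      Full n A (centralizer ({x} : Set G)).index →
      Full n Aᶜ (centralizer ({y} : Set G)).index → False := by
    intro x y hc hco hx hy
    refine hnb (x * y) ⟨hx.mono (index_centralizer_dvd_mul hc hco) index_ne_zero_of_finite index_ne_zero_of_finite,
      hy.mono ?_ index_ne_zero_of_finite index_ne_zero_of_finite⟩
    rw [hc.eq]
    exact index_centralizer_dvd_mul hc.symm hco.symm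
  have hco : ∀ x y : G, (∃ k, orderOf x ∣ q ^ k) → (∃ k, orderOf y ∣ b ^ k) →
      (orderOf x).Coprime (orderOf y) := by
    rintro x y ⟨k, hk⟩ ⟨l, hl⟩
    exact Nat.Coprime.coprime_dvd_left hk (Nat.Coprime.coprime_dvd_right hl
      (Nat.coprime_pow_primes k l hq hb fun h => hbA (h ▸ hqA)))
  -- central elements of Sylow subgroups
  obtain ⟨R⟩ : Nonempty (Sylow b G) := Sylow.nonempty
  obtain ⟨w, hwR, hw1, hwc, hwo⟩ := exists_central R.isPGroup' (R.ne_bot_of_dvd_card (hbn.trans hn))
  have hwA : Full n A (centralizer ({w} : Set G)).index := by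
    refine (hor w hw1).resolve_right fun h => ?_
    have h1 := h b hbA hb hbn
    rw [index_eq_zero_of_centralizes R hwc] at h1
    exact (hb.factorization_pos_of_dvd hn0 hbn).ne' (Nat.le_zero.1 h1)
  have hwq : (centralizer ({w} : Set G)).index.factorization q = n.factorization q :=
    le_antisymm ((Nat.factorization_le_iff_dvd index_ne_zero_of_finite hn0).2 (hdiv w) q)
      (hwA q hqA hq hqn)
  obtain ⟨S⟩ : Nonempty (Sylow q (centralizer ({w} : Set G))) := Sylow.nonempty
  set T : Subgroup G := (S : Subgroup (centralizer ({w} : Set G))).map (centralizer ({w} : Set G)).subtype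
    with hTdef
  have hTw : T ≤ centralizer ({w} : Set G) := map_subtype_le _
  have hTc : Nat.card T = q ^ (Nat.card (centralizer ({w} : Set G))).factorization q := by
    rw [hTdef, card_map_of_injective Subtype.val_injective, S.card_eq_multiplicity]
  have hTp : IsPGroup q T := S.isPGroup'.map _
  have hpos : 1 ≤ (Nat.card (centralizer ({w} : Set G))).factorization q := by
    have := factorization_index_add w q
    omega
  have hTne : T ≠ ⊥ := by
    intro h
    rw [h, card_bot] at hTc
    have := Nat.one_lt_pow (by omega) hq.one_lt (n := (Nat.card (centralizer ({w} : Set G))).factorization q)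
    omega
  obtain ⟨s, hsT, hs1, hsc, hso⟩ := exists_central hTp hTne
  have hsw : Commute s w := mem_centralizer_singleton_iff.1 (hTw hsT)
  have hsA : Full n A (centralizer ({s} : Set G)).index :=
    (hor s hs1).resolve_right fun h => hmix w s hsw.symm (hco s w hso hwo).symm hwA h
  have hsq : (centralizer ({s} : Set G)).index.factorization q = n.factorization q :=
    le_antisymm ((Nat.factorization_le_iff_dvd index_ne_zero_of_finite hn0).2 (hdiv s) q)
      (hsA q hqA hq hqn)
  obtain ⟨P, hTP⟩ := hTp.exists_le_sylow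
  obtain ⟨y, hyP, hy1, hyc, hyo⟩ := exists_central P.isPGroup'
    (P.ne_bot_of_dvd_card (hqn.trans hn))
  have hyB : Full n Aᶜ (centralizer ({y} : Set G)).index := by
    refine (hor y hy1).resolve_left fun h => ?_
    have h1 := h q hqA hq hqn
    rw [index_eq_zero_of_centralizes P hyc] at h1
    exact (hq.factorization_pos_of_dvd hn0 hqn).ne' (Nat.le_zero.1 h1)
  -- `y` lies in `T`
  have hU : T ⊔ zpowers y ≤ (P : Subgroup G) := sup_le hTP (zpowers_le.2 hyP)
  have hUs : T ⊔ zpowers y ≤ centralizer ({s} : Set G) := by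
    refine sup_le (fun t ht => mem_centralizer_singleton_iff.2 (hsc t ht).symm.eq) (zpowers_le.2 ?_)
    exact mem_centralizer_singleton_iff.2 (hyc s (hTP hsT)).eq
  have hUT : T = T ⊔ zpowers y := by
    obtain ⟨k, hk⟩ := (IsPGroup.iff_card (p := q)).1 (P.isPGroup'.to_le hU)
    refine eq_of_le_of_card_ge le_sup_left ?_
    rw [hk, hTc]
    refine Nat.pow_le_pow_right hq.pos ?_
    have hd : q ^ k ∣ Nat.card (centralizer ({s} : Set G)) := hk ▸ card_dvd_of_le hUs
    have h1 := (hq.pow_dvd_iff_le_factorization Nat.card_pos.ne').1 hd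
    have h2 := factorization_index_add w q
    have h3 := factorization_index_add s q
    omega
  have hyT : y ∈ T := by
    rw [hUT]
    exact mem_sup_right (mem_zpowers y)
  exact hmix w y (mem_centralizer_singleton_iff.1 (hTw hyT)).symm (hco y w hyo hwo).symm hwA hyB


/-- Let G and M be finite groups with trivial centres and the same set of conjugacy class sizes, and suppose the prime graph of M is disconnected: the prime divisors of #M split into two non-empty parts such that M has no element of order pq with p in one part and q in the other. Then #G = #M. -/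
theorem result {G M : Type*}
    [Group G] [Finite G] [Group M] [Finite M] (hZG : Subgroup.center G = ⊥) (hZM : Subgroup.center M = ⊥)
    (h : Set.range (fun g : G => (Subgroup.centralizer ({g} : Set G)).index) = Set.range (fun g : M => (Subgroup.centralizer ({g} : Set M)).index))
    (hdisc : ∃ A : Set ℕ, (∃ a ∈ A, a.Prime ∧ a ∣ Nat.card M) ∧ (∃ b ∉ A, b.Prime ∧ b ∣ Nat.card M) ∧
      ∀ a ∈ A, ∀ b ∉ A, a.Prime → b.Prime → a ∣ Nat.card M → b ∣ Nat.card M → ¬ ∃ x : M, orderOf x = a * b) :
    Nat.card G = Nat.card M := by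
  classical
  obtain ⟨A, ⟨a, haA, ha, han⟩, ⟨b, hbA, hb, hbn⟩, hno⟩ := hdisc
  set n := Nat.card M with hndef
  have hn0 : n ≠ 0 := Nat.card_pos.ne'
  haveI := Fact.mk ha
  haveI := Fact.mk hb
  -- the prime graph condition gives the dichotomy in `M`
  have hcomm : ∀ x : M, x ≠ 1 → ∀ r : ℕ, r.Prime → r ∣ orderOf x → ∀ p : ℕ, p.Prime → p ∣ n →
      ¬(r ∈ A ↔ p ∈ A) →
      n.factorization p ≤ (Subgroup.centralizer ({x} : Set M)).index.factorization p := by
    intro x _ r hr hrx p hp hpn hne
    rw [hndef, ← factorization_index_add x p,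
      Nat.factorization_eq_zero_of_not_dvd (n := Nat.card (Subgroup.centralizer ({x} : Set M))), add_zero]
    intro hpc
    haveI := Fact.mk hp
    obtain ⟨⟨v, hv⟩, hvo⟩ := exists_prime_orderOf_dvd_card' p hpc
    rw [Subgroup.orderOf_mk] at hvo
    have hu : orderOf (x ^ (orderOf x / r)) = r := orderOf_pow_orderOf_div (orderOf_pos x).ne' hrx
    have hc : Commute (x ^ (orderOf x / r)) v :=
      (Commute.pow_right (Subgroup.mem_centralizer_singleton_iff.1 hv) _).symm
    have hrn : r ∣ n := hrx.trans (orderOf_dvd_natCard x)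
    have hrp : r ≠ p := fun h => hne (h ▸ Iff.rfl)
    have ho : orderOf (x ^ (orderOf x / r) * v) = r * p := by
      rw [hc.orderOf_mul_eq_mul_orderOf_of_coprime
        (by rw [hu, hvo]; exact (Nat.coprime_primes hr hp).2 hrp), hu, hvo]
    by_cases hrA : r ∈ A
    · exact hno r hrA p (fun h => hne (iff_of_true hrA h)) hr hp hrn hpn ⟨_, ho⟩
    · have hpA : p ∈ A := by_contra fun h => hne (iff_of_false hrA h)
      exact hno p hpA r hrA hp hr hpn hrn ⟨_, by rw [ho, mul_comm]⟩
  have horM : ∀ x : M, x ≠ 1 → Full n A (Subgroup.centralizer ({x} : Set M)).index ∨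
      Full n Aᶜ (Subgroup.centralizer ({x} : Set M)).index := by
    intro x hx
    obtain ⟨r, hr, hrx⟩ := Nat.exists_prime_and_dvd (fun h => hx (orderOf_eq_one_iff.1 h))
    by_cases hrA : r ∈ A
    · exact Or.inr fun p hpA hp hpn => hcomm x hx r hr hrx p hp hpn fun h => hpA (h.1 hrA)
    · exact Or.inl fun p hpA hp hpn => hcomm x hx r hr hrx p hp hpn fun h => hrA (h.2 hpA)
  have hMlt : ∀ x : M, ¬ n ∣ (Subgroup.centralizer ({x} : Set M)).index := by
    intro x hd
    have h1 := (Subgroup.centralizer ({x} : Set M)).index_mul_card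
    have h2 : (Subgroup.centralizer ({x} : Set M)).index = n :=
      Nat.dvd_antisymm (Subgroup.index_dvd_card _) hd
    rw [h2, ← hndef, Nat.mul_eq_left hn0, Subgroup.card_eq_one] at h1
    by_cases hx : x = 1
    · subst hx
      have h3 : (Subgroup.centralizer ({(1 : M)} : Set M)) = ⊤ := by
        ext y; simp [Subgroup.mem_centralizer_singleton_iff]
      rw [h3, Subgroup.index_top] at h2
      exact ha.not_dvd_one (h2 ▸ han)
    · apply hx
      have h3 : x ∈ Subgroup.centralizer ({x} : Set M) := Subgroup.mem_centralizer_singleton_iff.2 rfl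
      rw [h1] at h3
      exact Subgroup.mem_bot.1 h3
  -- transfer to `G`
  have htr : ∀ g : G, ∃ x : M, (g ≠ 1 → x ≠ 1) ∧
      (Subgroup.centralizer ({x} : Set M)).index = (Subgroup.centralizer ({g} : Set G)).index := by
    intro g
    obtain ⟨x, hx⟩ : (Subgroup.centralizer ({g} : Set G)).index ∈
        Set.range (fun g : M => (Subgroup.centralizer ({g} : Set M)).index) := by
      rw [← h]; exact ⟨g, rfl⟩
    refine ⟨x, fun hg hx1 => hg ?_, hx⟩
    subst hx1
    have h3 : (Subgroup.centralizer ({(1 : M)} : Set M)) = ⊤ := by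
      ext y; simp [Subgroup.mem_centralizer_singleton_iff]
    simp only [h3, Subgroup.index_top] at hx
    rw [← Subgroup.mem_bot, ← hZG, Subgroup.mem_center_iff]
    intro y
    have h4 : y ∈ Subgroup.centralizer ({g} : Set G) := by
      rw [Subgroup.index_eq_one.1 hx.symm]; trivial
    exact Subgroup.mem_centralizer_singleton_iff.1 h4
  have hdivG : ∀ g : G, (Subgroup.centralizer ({g} : Set G)).index ∣ n := fun g => by
    obtain ⟨x, -, hx⟩ := htr g
    exact hx ▸ Subgroup.index_dvd_card _
  have horG : ∀ g : G, g ≠ 1 → Full n A (Subgroup.centralizer ({g} : Set G)).index ∨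
      Full n Aᶜ (Subgroup.centralizer ({g} : Set G)).index := fun g hg => by
    obtain ⟨x, hx1, hx⟩ := htr g
    exact hx ▸ horM x (hx1 hg)
  have hnbG : ∀ g : G, ¬(Full n A (Subgroup.centralizer ({g} : Set G)).index ∧
      Full n Aᶜ (Subgroup.centralizer ({g} : Set G)).index) := fun g hg => by
    obtain ⟨x, -, hx⟩ := htr g
    rw [← hx] at hg
    exact hMlt x (dvd_of_full hn0 Subgroup.index_ne_zero_of_finite hg.1 hg.2)
  have htrM : ∀ x : M, (Subgroup.centralizer ({x} : Set M)).index ∣ Nat.card G := fun x => by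
    obtain ⟨g, hg⟩ : (Subgroup.centralizer ({x} : Set M)).index ∈
        Set.range (fun g : G => (Subgroup.centralizer ({g} : Set G)).index) := by
      rw [h]; exact ⟨x, rfl⟩
    exact hg ▸ Subgroup.index_dvd_card _
  -- `n` divides the order of `G`
  have hdvd : n ∣ Nat.card G := by
    refine (Nat.factorization_le_iff_dvd hn0 Nat.card_pos.ne').1 fun p => ?_
    by_cases hp : p.Prime ∧ p ∣ n
    · obtain ⟨hp, hpn⟩ := hp
      obtain ⟨c, hc, hcA, hcn⟩ : ∃ c : ℕ, c.Prime ∧ ¬(c ∈ A ↔ p ∈ A) ∧ c ∣ n := by
        by_cases hpA : p ∈ A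
        · exact ⟨b, hb, fun h => hbA (h.2 hpA), hbn⟩
        · exact ⟨a, ha, fun h => hpA (h.1 haA), han⟩
      haveI := Fact.mk hc
      obtain ⟨x, hx⟩ := exists_prime_orderOf_dvd_card' c hcn
      have hx1 : x ≠ 1 := fun h1 => hc.ne_one (by rw [← hx, h1, orderOf_one])
      exact (hcomm x hx1 c hc hx.symm.dvd p hp hpn hcA).trans
        ((Nat.factorization_le_iff_dvd Subgroup.index_ne_zero_of_finite Nat.card_pos.ne').2 (htrM x) p)
    · rcases not_and_or.1 hp with h1 | h1
      · rw [Nat.factorization_eq_zero_of_not_prime n h1]; exact Nat.zero_le _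
      · rw [Nat.factorization_eq_zero_of_not_dvd h1]; exact Nat.zero_le _
  refine Nat.dvd_antisymm ((Nat.factorization_le_iff_dvd Nat.card_pos.ne' hn0).1 fun q => ?_) hdvd
  by_contra hlt
  push Not at hlt
  have hq : q.Prime := by
    by_contra hq
    rw [Nat.factorization_eq_zero_of_not_prime (Nat.card G) hq] at hlt
    omega
  haveI := Fact.mk hq
  by_cases hqn : q ∣ n
  · by_cases hqA : q ∈ A
    · exact no_excess hZG hdvd A hq hqA hqn hlt hb hbA hbn hdivG horG hnbG
    · exact no_excess hZG hdvd Aᶜ hq hqA hqn hlt ha (fun h1 => h1 haA) han hdivG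
        (fun g hg => by rw [compl_compl]; exact (horG g hg).symm)
        (fun g hg => hnbG g ⟨by simpa using hg.2, hg.1⟩)
  · -- primes not dividing `n` are impossible, by Jordan
    obtain ⟨Q⟩ : Nonempty (Sylow q G) := Sylow.nonempty
    have htop : Subgroup.centralizer ((Q : Subgroup G) : Set G) = ⊤ := by
      refine CfsgLib.PGroup.eq_top_of_forall_conj_mem _ fun g => ?_
      obtain ⟨S⟩ : Nonempty (Sylow q (Subgroup.centralizer ({g} : Set G))) := Sylow.nonempty
      have h0 : (Subgroup.centralizer ({g} : Set G)).index.factorization q = 0 :=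
        Nat.factorization_eq_zero_of_not_dvd fun hd => hqn (hd.trans (hdivG g))
      have hcard : Nat.card ((S : Subgroup _).map (Subgroup.centralizer ({g} : Set G)).subtype : Subgroup G) =
          q ^ (Nat.card G).factorization q := by
        rw [Subgroup.card_map_of_injective Subtype.val_injective, S.card_eq_multiplicity,
          ← factorization_index_add g q, h0, zero_add]
      obtain ⟨c, hc⟩ := MulAction.exists_smul_eq G Q (Sylow.ofCard _ hcard)
      refine ⟨c, Subgroup.mem_centralizer_iff.2 fun t ht => ?_⟩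
      have h2 : c * t * c⁻¹ ∈ ((Sylow.ofCard _ hcard : Sylow q G) : Subgroup G) := by
        rw [← hc, Sylow.coe_subgroup_smul]
        exact Subgroup.smul_mem_pointwise_smul t (MulAut.conj c) _ ht
      have h3 : c * t * c⁻¹ * g = g * (c * t * c⁻¹) :=
        Subgroup.mem_centralizer_singleton_iff.1 (Subgroup.map_subtype_le _ h2)
      calc t * (c⁻¹ * g * c) = c⁻¹ * (c * t * c⁻¹ * g) * c := by group
        _ = c⁻¹ * (g * (c * t * c⁻¹)) * c := by rw [h3]
        _ = c⁻¹ * g * c * t := by group
    have hQne : (Q : Subgroup G) ≠ ⊥ := Q.ne_bot_of_dvd_card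
      (Nat.dvd_of_factorization_pos (by omega))
    apply hQne
    rw [Subgroup.eq_bot_iff_forall]
    intro t ht
    rw [← Subgroup.mem_bot, ← hZG, Subgroup.mem_center_iff]
    intro y
    have hy : y ∈ Subgroup.centralizer ((Q : Subgroup G) : Set G) := by rw [htop]; trivial
    exact (Subgroup.mem_centralizer_iff.1 hy t ht).symm

end Cfsg.Agent.S4184
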