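import Cfsg.Statements.S4186
import Cfsg.Agent.Lib.Coprime.Core

set_option autoImplicit false
set_option linter.style.haveILetI false
open Cfsg

namespace Cfsg.Agent.S4186

/-- Let T and X be subgroups of a group with T a finite 2-group normalizing X but not centralizing it. Then some element of T inverts some non-identity element of X under conjugation. -/
theorem result {G : Type*} [Group G] (T X : Subgroup G) [Finite ↥T] (hT : IsPGroup 2 ↥T) (hTN : T ≤ Subgroup.normalizer (X : Set G)) (hTC : ¬ T ≤ Subgroup.centralizer (X : Set G)) : ∃ t ∈ T, ∃ x ∈ X, x ≠ 1 ∧ t * x * t⁻¹ = x⁻¹ := by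
  obtain ⟨t, ht, ht2, htn⟩ : ∃ t ∈ T, t ^ 2 ∈ Subgroup.centralizer (X : Set G) ∧
      t ∉ Subgroup.centralizer (X : Set G) := by
    obtain ⟨t, ht, htn⟩ := SetLike.not_le_iff_exists.1 hTC
    obtain ⟨k, hk⟩ := hT ⟨t, ht⟩
    have hk' : t ^ 2 ^ k ∈ Subgroup.centralizer (X : Set G) := by
      rw [show t ^ 2 ^ k = 1 from congrArg Subtype.val hk]; exact one_mem _
    clear hk
    induction k generalizing t with
    | zero => exact absurd (by simpa using hk') htn
    | succ k ih =>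
      by_cases h : t ^ 2 ∈ Subgroup.centralizer (X : Set G)
      · exact ⟨t, ht, h, htn⟩
      · exact ih (t ^ 2) (T.pow_mem ht 2) h (by rw [← pow_mul, ← pow_succ']; exact hk')
  obtain ⟨y, hy, hty⟩ : ∃ y ∈ X, t * y * t⁻¹ ≠ y := by
    by_contra h
    push Not at h
    exact htn (Subgroup.mem_centralizer_iff.2 fun y hy => (mul_inv_eq_iff_eq_mul.1 (h y hy)).symm)
  refine ⟨t, ht, y⁻¹ * (t * y * t⁻¹), X.mul_mem (X.inv_mem hy)
    ((Subgroup.mem_normalizer_iff.1 (hTN ht) y).1 hy), fun e => hty (inv_mul_eq_one.1 e).symm, ?_⟩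
  calc t * (y⁻¹ * (t * y * t⁻¹)) * t⁻¹ = (t * y⁻¹ * t⁻¹) * (t ^ 2 * y * (t ^ 2)⁻¹) := by
        rw [pow_two]; group
    _ = (t * y⁻¹ * t⁻¹) * y := by
        rw [← Subgroup.mem_centralizer_iff.1 ht2 y hy, mul_inv_cancel_right]
    _ = (y⁻¹ * (t * y * t⁻¹))⁻¹ := by group

end Cfsg.Agent.S4186
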