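import Cfsg.Statements.S4188
import Cfsg.Agent.Lib.PGroup.FaithfulFrattini

set_option autoImplicit false
open Cfsg

namespace Cfsg.Agent.S4188

/-- Let G be a finite group that is the semidirect product of a normal abelian subgroup N of odd order by a 2-subgroup P, and suppose N is the unique minimal normal subgroup of G. Then the index of the Frattini subgroup of P in P is at most #N − 1. -/
theorem result {G : Type*} [Group G] [Finite G] (N P : Subgroup G) (hN : N.Normal) (hNab : IsMulCommutative ↥N) (hNodd : Odd (Nat.card ↥N)) (hP : IsPGroup 2 ↥P) (hdisj : N ⊓ P = ⊥) (hprod : N ⊔ P = ⊤) (hmin : N ≠ ⊥ ∧ ∀ M : Subgroup G, M.Normal → M ≠ ⊥ → N ≤ M) : (frattini ↥P).index ≤ Nat.card ↥N - 1 := by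
  haveI := hN
  haveI : Nontrivial N := (Subgroup.nontrivial_iff_ne_bot N).2 hmin.1
  obtain ⟨φ, hφ⟩ : ∃ φ : P →* MulAut N, ∀ k n, ((φ k n : N) : G) = (k : G) * n * (k : G)⁻¹ :=
    ⟨(MulAut.conjNormal (H := N)).comp P.subtype, fun _ _ => MulAut.conjNormal_apply _ _⟩
  have hinj : Function.Injective φ := by
    rw [← MonoidHom.ker_eq_bot_iff]
    set K : Subgroup G := φ.ker.map P.subtype with hK
    have hcent : ∀ k ∈ K, ∀ n ∈ N, k * n = n * k := by
      rintro _ ⟨k, hk, rfl⟩ n hn
      have h := hφ k ⟨n, hn⟩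
      rw [MonoidHom.mem_ker.1 hk, MulAut.one_apply] at h
      replace h := h.symm
      exact mul_inv_eq_iff_eq_mul.1 h
    have hKn : K.Normal := ⟨fun k hk g => by
      obtain ⟨n, hn, q, hq, rfl⟩ := Subgroup.mem_sup_of_normal_left.1
        (show g ∈ N ⊔ P by rw [hprod]; exact Subgroup.mem_top g)
      have h1 : q * k * q⁻¹ ∈ K := by
        obtain ⟨k', hk', rfl⟩ := hk
        exact Subgroup.mem_map.2 ⟨(⟨q, hq⟩ : P) * k' * (⟨q, hq⟩ : P)⁻¹,
          (MonoidHom.normal_ker φ).conj_mem k' hk' _, by simp only [map_mul, map_inv]; rfl⟩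
      rw [show n * q * k * (n * q)⁻¹ = n * (q * k * q⁻¹) * n⁻¹ by group, ← hcent _ h1 n hn,
        mul_inv_cancel_right]
      exact h1⟩
    by_contra hne
    have hKb : K ≠ ⊥ := fun e =>
      hne ((Subgroup.map_eq_bot_iff_of_injective _ P.subtype_injective).1 e)
    exact hmin.1 (le_bot_iff.1 (hdisj ▸ le_inf le_rfl
      ((hmin.2 K hKn hKb).trans (Subgroup.map_subtype_le _))))
  letI : CommGroup N :=
    { (inferInstance : Group N) with mul_comm := isMulCommutative_iff.1 hNab }
  have := CfsgLib.FaithfulFrattini.index_frattini_lt hNodd hP φ hinj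
  omega

end Cfsg.Agent.S4188
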