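import Cfsg.Statements.S4189
import Cfsg.Agent.Lib.Invol.Taussky
import Cfsg.Agent.Lib.Invol.DihedralSubgroup
-- import your own Cfsg.Agent.* helpers here

set_option autoImplicit false
open Cfsg

namespace Cfsg.Agent.S4189

/-- Let P be a finite non-abelian 2-group whose commutator subgroup has index 4 and whose automorphism group is not a 2-group (some automorphism has order that is not a power of 2). Then P is isomorphic to the quaternion group of order 8. -/
theorem result {P : Type*} [Group P] [Finite P] (hP : IsPGroup 2 P) (hna : ¬ IsMulCommutative P) (h4 : (commutator P).index = 4) (haut : ¬ IsPGroup 2 (MulAut P)) : Nonempty (P ≃* QuaternionGroup 2) := by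
  classical
  haveI : Fact (Nat.Prime 2) := ⟨Nat.prime_two⟩
  obtain ⟨k, r, e, a, b, hstd, F⟩ := CfsgLib.Invol.exists_std_frame hP hna
    (by rw [← (commutator P).index_mul_card, h4])
  obtain ⟨hk, hre⟩ := hstd
  by_cases hq : k = 2 ∧ e ≠ 0
  · obtain ⟨rfl, he⟩ := hq
    rcases hre with ⟨rfl, h0 | h2⟩ | ⟨h3, -, -⟩
    · exact absurd h0 he
    · subst h2
      exact CfsgLib.Invol.CyclicFrame.quaternionEquiv (n := 2) (a := a) (b := b)
        (by norm_num at F; exact F)
    · omega
  exfalso
  set C := Subgroup.zpowers a with hC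
  -- the elements outside `C` have smaller order than `a`
  have hout : ∀ x, x ∉ C → orderOf x < 2 ^ k := by
    intro x hx
    obtain ⟨i, rfl | rfl⟩ := F.exists_eq x
    · exact absurd (zpow_mem (Subgroup.mem_zpowers a) i) hx
    by_cases hk3 : 3 ≤ k
    · refine lt_of_le_of_lt (Nat.le_of_dvd four_pos (orderOf_dvd_of_pow_eq_one ?_))
        (lt_of_lt_of_le (by norm_num : 4 < 8) (by
          calc 8 = 2 ^ 3 := by norm_num
            _ ≤ 2 ^ k := Nat.pow_le_pow_right two_pos hk3))
      rw [show (4 : ℕ) = 2 * 2 from rfl, pow_mul, F.ref_sq, ← zpow_natCast, ← zpow_mul,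
        F.zpow_eq_one_iff]
      have hp2 : ((2 ^ k : ℕ) : ℤ) = 2 * 2 ^ (k - 1) := by
        push_cast; rw [← pow_succ', Nat.sub_add_cancel (by omega)]
      rw [hp2]
      rcases hre with ⟨rfl, rfl | rfl⟩ | ⟨-, rfl, rfl⟩
      · exact ⟨0, by ring⟩
      · exact ⟨1, by push_cast; ring⟩
      · exact ⟨i, by push_cast; ring⟩
    · obtain rfl : k = 2 := by omega
      obtain rfl : e = 0 := by by_contra he; exact hq ⟨rfl, he⟩
      rcases hre with ⟨rfl, -⟩ | ⟨h3, -, -⟩
      · have h2 : (a ^ i * b) ^ 2 = 1 := by rw [F.ref_sq]; norm_num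
        exact lt_of_le_of_lt (Nat.le_of_dvd two_pos (orderOf_dvd_of_pow_eq_one h2)) (by norm_num)
      · omega
  -- an automorphism of odd prime order
  obtain ⟨q, hq', hqd, hq2⟩ : ∃ q, q.Prime ∧ q ∣ Nat.card (MulAut P) ∧ q ≠ 2 := by
    by_contra hcon
    push Not at hcon
    refine haut (IsPGroup.of_card (n := (Nat.card (MulAut P)).primeFactorsList.length) ?_)
    exact Nat.eq_prime_pow_of_unique_prime_dvd Nat.card_pos.ne' fun {q} h1 h2 => hcon q h1 h2
  haveI := Fact.mk hq'
  obtain ⟨σ, hσ⟩ := exists_prime_orderOf_dvd_card' (G := MulAut P) q hqd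
  have hodd : Odd q := hq'.odd_of_ne_two hq2
  have hσq : σ ^ q = 1 := by rw [← hσ, pow_orderOf_eq_one]
  have hσC : ∀ τ : MulAut P, ∀ x ∈ C, τ x ∈ C := by
    intro τ x hx
    obtain ⟨j, rfl⟩ := Subgroup.mem_zpowers_iff.1 hx
    rw [map_zpow]
    refine zpow_mem ?_ j
    by_contra hn
    exact (hout _ hn).ne (by rw [MulEquiv.orderOf_eq, F.ord])
  have hC2 : ∀ x y : P, x ∉ C → y ∉ C → x⁻¹ * y ∈ C := fun x y hx hy =>
    (Subgroup.mul_mem_iff_of_index_two F.index_two).2
      (iff_of_false (fun h => hx (inv_mem_iff.1 h)) hy)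
  let res : MulAut P →* MulAut C :=
    { toFun := fun τ =>
        { toFun := fun x => ⟨τ x, hσC τ x x.2⟩
          invFun := fun x => ⟨τ⁻¹ x, hσC τ⁻¹ x x.2⟩
          left_inv := fun x => Subtype.ext (by simp)
          right_inv := fun x => Subtype.ext (by simp)
          map_mul' := fun x y => Subtype.ext (map_mul τ _ _) }
      map_one' := MulEquiv.ext fun x => Subtype.ext rfl
      map_mul' := fun τ τ' => MulEquiv.ext fun x => Subtype.ext rfl }
  have hres : res σ = 1 := CfsgLib.Invol.aut_eq_one_of_cyclic_two_group (hP.to_subgroup C) (res σ)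
    hodd (by rw [← map_pow, hσq, map_one])
  have h1 : σ = 1 := CfsgLib.Invol.aut_eq_one_of_fix_index_two hP σ hodd hσq C hC2 fun x hx =>
    congrArg Subtype.val (DFunLike.congr_fun hres ⟨x, hx⟩)
  rw [h1, orderOf_one] at hσ
  exact hq'.ne_one hσ.symm

end Cfsg.Agent.S4189
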