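import Cfsg.Statements.S4190
import Cfsg.Agent.Lib.Coprime.ClassLog.Main

set_option autoImplicit false
open Cfsg

namespace Cfsg.Agent.S4190

/-- Let G be a finite solvable group and p a prime dividing the index of the Fitting subgroup of G. Then the number of conjugacy classes of G is at least p/(3·log₂ p). -/
theorem result {G : Type*} [Group G] [Finite G] (hG : Group.IsSolvable G) (p : ℕ) [Fact p.Prime] (hp : p ∣ (Cfsg.fittingSubgroup G).index) : (p : ℝ) / (3 * Real.logb 2 p) ≤ Nat.card (ConjClasses G) := by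
  have hpp : p.Prime := Fact.out
  have h := CfsgLib.Coprime.ClassLog.class_log (q := p) (Nat.card G) G rfl hG hp
  set k := Nat.card (ConjClasses G)
  have hlogb : ∀ i j : ℕ, 2 ^ i ≤ p ^ j → (i : ℝ) ≤ j * Real.logb 2 p := fun i j hij => by
    have h1 : ((2 : ℝ) ^ i) ≤ (p : ℝ) ^ j := by exact_mod_cast hij
    have h2 := Real.logb_le_logb_of_le one_lt_two (by positivity) h1
    rwa [Real.logb_pow, Real.logb_pow, Real.logb_self_eq_one one_lt_two, mul_one] at h2
  have hlog : 1 ≤ Real.logb 2 p := by simpa using hlogb 1 1 (by simpa using hpp.two_le)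
  rw [div_le_iff₀ (by linarith)]
  rcases h with h | ⟨rfl, h⟩
  · have h1 : (p : ℝ) ≤ 3 * (Nat.log 2 p : ℝ) * k := by exact_mod_cast h
    have h2 : (Nat.log 2 p : ℝ) ≤ Real.logb 2 p := by
      simpa using hlogb (Nat.log 2 p) 1 (by simpa using Nat.pow_log_le_self 2 hpp.ne_zero)
    have h3 : (3 : ℝ) * Nat.log 2 p * k ≤ 3 * Real.logb 2 p * k := by gcongr
    linarith
  · have h1 := hlogb 129 10 (by norm_num)
    have h2 : (214 : ℝ) ≤ k := by exact_mod_cast h
    norm_num at h1 ⊢
    nlinarith

end Cfsg.Agent.S4190
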