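import Cfsg.Statements.S4196
import Cfsg.Agent.S3863

set_option autoImplicit false
set_option linter.style.haveILetI false
open Cfsg

namespace Cfsg.Agent.S4196

/-- A finite group G has elementary abelian Sylow 2-subgroups (commutative with every element squaring to the identity) if and only if every 2-element of G has a Sylow 2-subgroup in its centralizer and is conjugate to its inverse. -/
theorem result {G : Type*} [Group G] [Finite G] (P : Sylow 2 G) :
    (IsMulCommutative (P : Subgroup G) ∧ ∀ x ∈ (P : Subgroup G), x ^ 2 = 1) ↔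
      ∀ x : G, (∃ k : ℕ, orderOf x = 2 ^ k) → (∃ Q : Sylow 2 G, (Q : Subgroup G) ≤ Subgroup.centralizer ({x} : Set G)) ∧ IsConj x x⁻¹ := by
  constructor
  · rintro ⟨hab, hexp⟩ x ⟨k, hk⟩
    obtain ⟨R, hR⟩ := (IsPGroup.of_card (p := 2) (n := k) (G := Subgroup.zpowers x)
      (by rw [Nat.card_zpowers, hk])).exists_le_sylow
    obtain ⟨g, rfl⟩ := MulAction.exists_smul_eq G P R
    obtain ⟨u, hu, hux⟩ := hR (Subgroup.mem_zpowers x)
    simp only [MulDistribMulAction.toMonoidEnd_apply, MulDistribMulAction.toMonoidHom_apply,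
      MulAut.smul_def, MulAut.conj_apply] at hux
    refine ⟨⟨g • P, ?_⟩, ?_⟩
    · rintro _ ⟨w, hw, rfl⟩
      simp only [MulDistribMulAction.toMonoidEnd_apply, MulDistribMulAction.toMonoidHom_apply,
        MulAut.smul_def, MulAut.conj_apply]
      refine Subgroup.mem_centralizer_singleton_iff.2 ?_
      rw [← hux]
      calc g * w * g⁻¹ * (g * u * g⁻¹) = g * (w * u) * g⁻¹ := by group
        _ = g * u * g⁻¹ * (g * w * g⁻¹) := by
          rw [show w * u = u * w from
            congrArg Subtype.val (isMulCommutative_iff.1 hab ⟨w, hw⟩ ⟨u, hu⟩)]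
          group
    · have hinv : x⁻¹ = x := inv_eq_of_mul_eq_one_right (by
        rw [← pow_two, ← hux, conj_pow, hexp u hu, mul_one, mul_inv_cancel])
      rw [hinv]
  · intro h
    have key : ∀ x ∈ (P : Subgroup G), x ^ 2 = 1 := by
      intro x hx
      obtain ⟨k, hk⟩ := (IsPGroup.iff_orderOf.1 P.isPGroup') ⟨x, hx⟩
      obtain ⟨⟨Q, hQ⟩, hreal⟩ := h x ⟨k, by rw [← hk, Subgroup.orderOf_mk]⟩
      refine (Cfsg.Agent.S3863.result x hreal).2.1 ?_
      rw [← Nat.not_even_iff_odd, even_iff_two_dvd]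
      exact fun hd => Q.not_dvd_index (hd.trans (Subgroup.index_dvd_of_le hQ))
    refine ⟨isMulCommutative_iff.2 fun a b => Subtype.ext ?_, key⟩
    have hinv : ∀ z ∈ (P : Subgroup G), z⁻¹ = z := fun z hz =>
      inv_eq_of_mul_eq_one_right (by rw [← pow_two]; exact key z hz)
    have h3 := hinv _ ((P : Subgroup G).mul_mem a.2 b.2)
    rw [mul_inv_rev, hinv _ a.2, hinv _ b.2] at h3
    exact h3.symm

end Cfsg.Agent.S4196
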