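import Cfsg.Statements.S4198
-- import your own Cfsg.Agent.* helpers here
import Mathlib.GroupTheory.SpecificGroups.Alternating.Centralizer
import Mathlib.GroupTheory.Perm.Cycle.Type
import Mathlib.Combinatorics.Enumerative.Partition.Basic

set_option autoImplicit false
open Cfsg

namespace Cfsg.Agent.S4198

open Equiv Multiset

/-- Removing a part `1`, or lowering the least part, embeds partitions of `n + 1` in two copies of
those of `n`. -/
theorem partition_succ_le (n : ℕ) :
    Nat.card (Nat.Partition (n + 1)) ≤ 2 * Nat.card (Nat.Partition n) := by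
  classical
  have hmin : ∀ s : Nat.Partition (n + 1), 1 ∉ s.parts →
      ∃ m ∈ s.parts, 2 ≤ m ∧ ∀ x ∈ s.parts, m ≤ x := by
    intro s h1
    have hne : s.parts.toFinset.Nonempty := by
      rw [Multiset.toFinset_nonempty]; intro e
      have := s.parts_sum
      rw [e, Multiset.sum_zero] at this; omega
    have hm := Multiset.mem_toFinset.1 (s.parts.toFinset.min'_mem hne)
    refine ⟨_, hm, ?_, fun x hx => Finset.min'_le _ x (Multiset.mem_toFinset.2 hx)⟩
    rcases Nat.lt_or_ge (s.parts.toFinset.min' hne) 2 with h | h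
    · have h0 := s.parts_pos hm
      rw [show s.parts.toFinset.min' hne = 1 by omega] at hm
      exact absurd hm h1
    · exact h
  choose m hm h2 hle using hmin
  let f : Nat.Partition (n + 1) → Nat.Partition n ⊕ Nat.Partition n := fun s =>
    if h : 1 ∈ s.parts then
      .inl ⟨s.parts.erase 1, fun hi => s.parts_pos (Multiset.mem_of_mem_erase hi), by
        have := congrArg Multiset.sum (Multiset.cons_erase h)
        rw [Multiset.sum_cons, s.parts_sum] at this; omega⟩
    else
      .inr ⟨(m s h - 1) ::ₘ s.parts.erase (m s h), fun hi => by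
          rcases Multiset.mem_cons.1 hi with e | e
          · have := h2 s h; omega
          · exact s.parts_pos (Multiset.mem_of_mem_erase e), by
        have := congrArg Multiset.sum (Multiset.cons_erase (hm s h))
        rw [Multiset.sum_cons, s.parts_sum] at this
        have := h2 s h
        rw [Multiset.sum_cons]; omega⟩
  haveI : Finite (Nat.Partition (n + 1)) := Finite.of_fintype _
  have := Nat.card_le_card_of_injective f fun s t h => by
    simp only [f] at h
    by_cases hs : 1 ∈ s.parts <;> by_cases ht : 1 ∈ t.parts <;>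
      simp only [hs, ht, dite_true, dite_false, Sum.inl.injEq, Sum.inr.injEq, reduceCtorEq,
        Nat.Partition.ext_iff] at h
    · exact Nat.Partition.ext (by rw [← Multiset.cons_erase hs, h, Multiset.cons_erase ht])
    · have key : ∀ u (hu : 1 ∉ u.parts), ∀ x ∈ (m u hu - 1) ::ₘ u.parts.erase (m u hu),
          m u hu - 1 ≤ x := fun u hu x hx => by
        rcases Multiset.mem_cons.1 hx with e | e
        · omega
        · have := hle u hu x (Multiset.mem_of_mem_erase e); omega
      have e1 : m s hs = m t ht := by
        have a1 := key s hs (m t ht - 1) (h ▸ Multiset.mem_cons_self _ _)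
        have a2 := key t ht (m s hs - 1) (h ▸ Multiset.mem_cons_self _ _)
        have := h2 s hs
        have := h2 t ht
        omega
      rw [e1, Multiset.cons_inj_right] at h
      exact Nat.Partition.ext (by
        rw [← Multiset.cons_erase (hm s hs), ← Multiset.cons_erase (hm t ht), e1, h])
  rwa [Nat.card_sum, ← two_mul] at this

theorem partition_five : Nat.card (Nat.Partition 5) ≤ 8 := by
  classical
  have key : ∀ s : Nat.Partition 5, s.parts.count 1 * 1 + s.parts.count 2 * 2 + s.parts.count 3 * 3 +
      s.parts.count 4 * 4 + s.parts.count 5 * 5 = 5 := fun s => by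
    have hsub : s.parts.toFinset ⊆ ({1, 2, 3, 4, 5} : Finset ℕ) := fun x hx => by
      have h1 := Nat.Partition.le_of_mem_parts (Multiset.mem_toFinset.1 hx)
      have h2 := s.parts_pos (Multiset.mem_toFinset.1 hx)
      simp only [Finset.mem_insert, Finset.mem_singleton]; omega
    have := Finset.sum_multiset_count_of_subset s.parts _ hsub
    rw [s.parts_sum] at this
    simp [Finset.sum_insert] at this
    omega
  have hb : ∀ s : Nat.Partition 5, s.parts.count 2 < 3 ∧ s.parts.count 3 < 2 ∧ s.parts.count 4 < 2 ∧
      s.parts.count 5 < 2 := fun s => by have := key s; omega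
  let T := {t : Fin 3 × Fin 2 × Fin 2 × Fin 2 // t.1.val * 2 + t.2.1.val * 3 + t.2.2.1.val * 4 + t.2.2.2.val * 5 ≤ 5}
  let f : Nat.Partition 5 → T := fun s =>
    ⟨(⟨_, (hb s).1⟩, ⟨_, (hb s).2.1⟩, ⟨_, (hb s).2.2.1⟩, ⟨_, (hb s).2.2.2⟩), by
      have := key s; simp only; omega⟩
  refine (Nat.card_le_card_of_injective f fun s t h => Nat.Partition.ext (Multiset.ext.2 fun i => ?_)).trans ?_
  · have h2 : s.parts.count 2 = t.parts.count 2 := congrArg (fun u : T => u.1.1.val) h
    have h3 : s.parts.count 3 = t.parts.count 3 := congrArg (fun u : T => u.1.2.1.val) h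
    have h4 : s.parts.count 4 = t.parts.count 4 := congrArg (fun u : T => u.1.2.2.1.val) h
    have h5 : s.parts.count 5 = t.parts.count 5 := congrArg (fun u : T => u.1.2.2.2.val) h
    have := key s
    have := key t
    by_cases hi : i = 1 ∨ i = 2 ∨ i = 3 ∨ i = 4 ∨ i = 5
    · rcases hi with rfl | rfl | rfl | rfl | rfl <;> omega
    · have hz : ∀ u : Nat.Partition 5, u.parts.count i = 0 := fun u => by
        refine Multiset.count_eq_zero_of_notMem fun hm => hi ?_
        have := Nat.Partition.le_of_mem_parts hm
        have := u.parts_pos hm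
        omega
      rw [hz, hz]
  · rw [Nat.card_eq_fintype_card]
    decide

theorem partition_le (n : ℕ) : Nat.card (Nat.Partition (n + 5)) ≤ 2 ^ (n + 3) := by
  induction n with
  | zero =>
    exact partition_five
  | succ n ih =>
    calc Nat.card (Nat.Partition (n + 1 + 5)) ≤ 2 * Nat.card (Nat.Partition (n + 5)) :=
          partition_succ_le (n + 5)
      _ ≤ 2 * 2 ^ (n + 3) := Nat.mul_le_mul_left 2 ih
      _ = 2 ^ (n + 1 + 3) := by rw [← pow_succ']

section

variable {n : ℕ}

/-- The classes that split. -/
def Splits (s : Nat.Partition n) : Prop := (∀ c ∈ s.parts, Odd c) ∧ s.parts.Nodup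

/-- The even classes. -/
def IsEvenPart (s : Nat.Partition n) : Prop := Even (n + Multiset.card s.parts)

theorem splits_card_lt (hn : 5 ≤ n) :
    Nat.card {s : Nat.Partition n // Splits s ∧ IsEvenPart s} < Nat.card {s : Nat.Partition n // ¬ IsEvenPart s} := by
  classical
  haveI : Finite (Nat.Partition n) := Finite.of_fintype _
  have hmax : ∀ s : Nat.Partition n, Splits s → ∃ m ∈ s.parts, 3 ≤ m ∧ ∀ x ∈ s.parts, x ≤ m := by
    intro s hs
    have hne : s.parts.toFinset.Nonempty := by
      rw [Multiset.toFinset_nonempty]; intro e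
      have := s.parts_sum
      rw [e, Multiset.sum_zero] at this; omega
    have hm := Multiset.mem_toFinset.1 (s.parts.toFinset.max'_mem hne)
    refine ⟨_, hm, ?_, fun x hx => Finset.le_max' _ x (Multiset.mem_toFinset.2 hx)⟩
    by_contra hlt
    have hall : ∀ x ∈ s.parts, x = 1 := fun x hx => by
      have h1 := Finset.le_max' _ x (Multiset.mem_toFinset.2 hx)
      obtain ⟨k, hk⟩ := hs.1 x hx
      omega
    have h1 : s.parts = Multiset.replicate (Multiset.card s.parts) 1 := Multiset.eq_replicate_card.2 hall
    have h2 : Multiset.card s.parts ≤ 1 := by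
      have := Multiset.nodup_iff_count_le_one.1 hs.2 1
      rwa [h1, Multiset.count_replicate_self] at this
    have h3 := s.parts_sum
    rw [h1, Multiset.sum_replicate, smul_eq_mul, mul_one] at h3
    omega
  choose m hm h3 hle using hmax
  let f : {s : Nat.Partition n // Splits s ∧ IsEvenPart s} → {s : Nat.Partition n // ¬ IsEvenPart s} := fun s =>
    ⟨⟨(m s.1 s.2.1 - 1) ::ₘ 1 ::ₘ s.1.parts.erase (m s.1 s.2.1), fun hi => by
        rcases Multiset.mem_cons.1 hi with e | e
        · have := h3 s.1 s.2.1; omega
        · rcases Multiset.mem_cons.1 e with e | e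
          · omega
          · exact s.1.parts_pos (Multiset.mem_of_mem_erase e), by
      have := congrArg Multiset.sum (Multiset.cons_erase (hm s.1 s.2.1))
      rw [Multiset.sum_cons, s.1.parts_sum] at this
      have := h3 s.1 s.2.1
      rw [Multiset.sum_cons, Multiset.sum_cons]; omega⟩, fun he => by
      have h := congrArg Multiset.card (Multiset.cons_erase (hm s.1 s.2.1))
      rw [Multiset.card_cons] at h
      have h' : Even (n + Multiset.card s.1.parts) := s.2.2
      have he' : Even (n + Multiset.card ((m s.1 s.2.1 - 1) ::ₘ 1 ::ₘ s.1.parts.erase (m s.1 s.2.1))) := he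
      rw [Multiset.card_cons, Multiset.card_cons] at he'
      rw [← h, Nat.even_iff] at h'
      rw [Nat.even_iff] at he'
      omega⟩
  have hev : ∀ s (hs : Splits s), Even (m s hs - 1) := fun s hs => by
    obtain ⟨k, hk⟩ := hs.1 _ (hm s hs)
    exact ⟨k, by omega⟩
  have hinj : Function.Injective f := fun s t h => by
    have h' := congrArg (fun u : {s : Nat.Partition n // ¬ IsEvenPart s} => u.1.parts) h
    simp only [f] at h'
    have e1 : m s.1 s.2.1 = m t.1 t.2.1 := by
      have hmem : m s.1 s.2.1 - 1 ∈ (m t.1 t.2.1 - 1) ::ₘ 1 ::ₘ t.1.parts.erase (m t.1 t.2.1) :=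
        h' ▸ Multiset.mem_cons_self _ _
      obtain ⟨k, hk⟩ := hev s.1 s.2.1
      have := h3 s.1 s.2.1
      have := h3 t.1 t.2.1
      rcases Multiset.mem_cons.1 hmem with e | e
      · omega
      · rcases Multiset.mem_cons.1 e with e | e
        · omega
        · obtain ⟨j, hj⟩ := t.2.1.1 _ (Multiset.mem_of_mem_erase e)
          omega
    rw [e1, Multiset.cons_inj_right, Multiset.cons_inj_right] at h'
    exact Subtype.ext (Nat.Partition.ext (by
      rw [← Multiset.cons_erase (hm s.1 s.2.1), ← Multiset.cons_erase (hm t.1 t.2.1), e1, h']))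
  let bad : {s : Nat.Partition n // ¬ IsEvenPart s} :=
    ⟨⟨2 ::ₘ Multiset.replicate (n - 2) 1, fun hi => by
        rcases Multiset.mem_cons.1 hi with e | e
        · omega
        · rw [Multiset.eq_of_mem_replicate e]; exact one_pos, by
      rw [Multiset.sum_cons, Multiset.sum_replicate, smul_eq_mul, mul_one]; omega⟩, fun he => by
      have he' : Even (n + Multiset.card (2 ::ₘ Multiset.replicate (n - 2) 1)) := he
      rw [Multiset.card_cons, Multiset.card_replicate, Nat.even_iff] at he'
      omega⟩
  haveI := Fintype.ofFinite {s : Nat.Partition n // ¬ IsEvenPart s}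
  haveI := Fintype.ofFinite {s : Nat.Partition n // Splits s ∧ IsEvenPart s}
  rw [Nat.card_eq_fintype_card, Nat.card_eq_fintype_card]
  refine Fintype.card_lt_of_injective_not_surjective f hinj fun hsurj => ?_
  obtain ⟨s, hs⟩ := hsurj bad
  have h' : (m s.1 s.2.1 - 1) ::ₘ 1 ::ₘ s.1.parts.erase (m s.1 s.2.1) =
      2 ::ₘ Multiset.replicate (n - 2) 1 := congrArg (fun u => u.1.parts) hs
  have hm2 : m s.1 s.2.1 - 1 = 2 := by
    obtain ⟨k, hk⟩ := hev s.1 s.2.1
    rcases Multiset.mem_cons.1 (h' ▸ Multiset.mem_cons_self _ _ :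
      m s.1 s.2.1 - 1 ∈ 2 ::ₘ Multiset.replicate (n - 2) 1) with e | e
    · exact e
    · have := Multiset.eq_of_mem_replicate e; omega
  rw [hm2, Multiset.cons_inj_right] at h'
  have hcnt := congrArg (Multiset.count 1) h'
  rw [Multiset.count_cons_self, Multiset.count_replicate_self] at hcnt
  have := Multiset.nodup_iff_count_le_one.1 (s.2.1.2.erase (m s.1 s.2.1)) 1
  omega

/-- The partition of a permutation of `Fin n`. -/
def part (σ : Perm (Fin n)) : Nat.Partition n :=
  ⟨σ.partition.parts, fun h => σ.partition.parts_pos h,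
    σ.partition.parts_sum.trans (Fintype.card_fin n)⟩

theorem part_eq {σ τ : Perm (Fin n)} : IsConj σ τ ↔ part σ = part τ := by
  rw [Perm.partition_eq_of_isConj, Nat.Partition.ext_iff, Nat.Partition.ext_iff]
  rfl

theorem part_surjective (s : Nat.Partition n) : ∃ σ : Perm (Fin n), part σ = s := by
  classical
  have hsplit : s.parts = s.parts.filter (fun a => 2 ≤ a) +
      Multiset.replicate (Multiset.card (s.parts.filter fun a => ¬ 2 ≤ a)) 1 := by
    conv_lhs => rw [← Multiset.filter_add_not (fun a => 2 ≤ a) s.parts]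
    congr 1
    refine Multiset.eq_replicate_card.2 fun a ha => ?_
    obtain ⟨h1, h2⟩ := Multiset.mem_filter.1 ha
    have := s.parts_pos h1; omega
  have hsum := congrArg Multiset.sum hsplit
  rw [s.parts_sum, Multiset.sum_add, Multiset.sum_replicate, smul_eq_mul, mul_one] at hsum
  obtain ⟨σ, hσ⟩ := (Equiv.Perm.exists_with_cycleType_iff (Fin n)
    (m := s.parts.filter fun a => 2 ≤ a)).2
      ⟨by rw [Fintype.card_fin]; omega, fun a ha => (Multiset.mem_filter.1 ha).2⟩
  refine ⟨σ, Nat.Partition.ext ?_⟩
  show σ.partition.parts = s.parts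
  rw [Perm.parts_partition, ← Perm.sum_cycleType, hσ, Fintype.card_fin]
  conv_rhs => rw [hsplit]
  congr 2
  omega

theorem isEven_part (σ : Perm (Fin n)) : IsEvenPart (part σ) ↔ σ ∈ alternatingGroup (Fin n) := by
  have hsum := σ.sum_cycleType
  have hle : σ.cycleType.sum ≤ n := by
    rw [hsum]; exact (Finset.card_le_univ _).trans_eq (Fintype.card_fin n)
  show Even (n + Multiset.card σ.partition.parts) ↔ _
  rw [Perm.parts_partition, ← hsum, Fintype.card_fin, Multiset.card_add, Multiset.card_replicate,
    Perm.mem_alternatingGroup, Perm.sign_of_cycleType]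
  rcases Nat.even_or_odd (σ.cycleType.sum + Multiset.card σ.cycleType) with h | h
  · rw [h.neg_one_pow]
    simp only [iff_true]
    rw [Nat.even_iff] at h ⊢; omega
  · rw [h.neg_one_pow]
    refine iff_of_false ?_ (by decide)
    rw [Nat.odd_iff] at h; rw [Nat.even_iff]; omega

theorem splits_of_centralizer (g : Perm (Fin n))
    (h : Subgroup.centralizer {g} ≤ alternatingGroup (Fin n)) : Splits (part g) := by
  obtain ⟨h1, h2, h3⟩ := Perm.centralizer_le_alternating_iff.1 h
  rw [Fintype.card_fin] at h2
  refine ⟨fun c hc => ?_, ?_⟩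
  · have hc' : c ∈ g.partition.parts := hc
    rw [Perm.parts_partition, Multiset.mem_add] at hc'
    rcases hc' with e | e
    · exact h1 c e
    · rw [Multiset.eq_of_mem_replicate e]; exact odd_one
  · show g.partition.parts.Nodup
    rw [Perm.parts_partition, ← Perm.sum_cycleType, Fintype.card_fin, Multiset.nodup_iff_count_le_one]
    intro a
    rw [Multiset.count_add]
    by_cases ha : a = 1
    · subst ha
      rw [Multiset.count_replicate_self, Multiset.count_eq_zero_of_notMem fun e =>
        absurd (Perm.one_lt_of_mem_cycleType e) (lt_irrefl 1)]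
      omega
    · rw [Multiset.count_replicate, if_neg (fun e => ha e.symm), add_zero]; exact h3 a

theorem alt_classes_le :
    Nat.card (ConjClasses (alternatingGroup (Fin n))) ≤
      Nat.card {s : Nat.Partition n // IsEvenPart s} +
        Nat.card {s : Nat.Partition n // Splits s ∧ IsEvenPart s} := by
  classical
  haveI : Finite (Nat.Partition n) := Finite.of_fintype _
  let rep : ConjClasses (alternatingGroup (Fin n)) → alternatingGroup (Fin n) := fun C => Quotient.out C
  have hrep : ∀ C, ConjClasses.mk (rep C) = C := fun C => Quotient.out_eq C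
  let pt : ConjClasses (alternatingGroup (Fin n)) → {s : Nat.Partition n // IsEvenPart s} := fun C =>
    ⟨part (rep C : Perm (Fin n)), (isEven_part _).2 (rep C).2⟩
  -- two classes with one partition are conjugate by an odd permutation
  have key : ∀ C D, C ≠ D → pt C = pt D → ∃ g : Perm (Fin n), g ∉ alternatingGroup (Fin n) ∧
      g * (rep C : Perm (Fin n)) * g⁻¹ = rep D := by
    intro C D hne h
    obtain ⟨g, hg⟩ := isConj_iff.1 (part_eq.2 (congrArg Subtype.val h))
    refine ⟨g, fun hgA => hne ?_, hg⟩
    rw [← hrep C, ← hrep D]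
    exact ConjClasses.mk_eq_mk_iff_isConj.2 (isConj_iff.2 ⟨⟨g, hgA⟩, Subtype.ext hg⟩)
  have odd_mul : ∀ g h : Perm (Fin n), g ∉ alternatingGroup (Fin n) → h ∉ alternatingGroup (Fin n) →
      g * h ∈ alternatingGroup (Fin n) := by
    intro g h hg hh
    rw [Perm.mem_alternatingGroup] at hg hh ⊢
    rw [map_mul, (Int.units_eq_one_or _).resolve_left hg, (Int.units_eq_one_or _).resolve_left hh]
    decide
  have hsplit : ∀ C D, C ≠ D → pt C = pt D → Splits (pt C).1 := by
    intro C D hne h
    obtain ⟨g, hg, hgD⟩ := key C D hne h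
    refine splits_of_centralizer _ fun z hz => ?_
    by_contra hzA
    apply hne
    rw [← hrep C, ← hrep D]
    refine ConjClasses.mk_eq_mk_iff_isConj.2 (isConj_iff.2 ⟨⟨g * z, odd_mul g z hg hzA⟩, Subtype.ext ?_⟩)
    have hz' : z * (rep C : Perm (Fin n)) = rep C * z := Subgroup.mem_centralizer_singleton_iff.1 hz
    show g * z * (rep C : Perm (Fin n)) * (g * z)⁻¹ = rep D
    rw [← hgD, mul_assoc g z, hz']; group
  have three : ∀ C D E, C ≠ D → C ≠ E → D ≠ E → pt C = pt D → pt C = pt E → False := by
    intro C D E hCD hCE hDE h1 h2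
    obtain ⟨g, hg, hgD⟩ := key C D hCD h1
    obtain ⟨k, hk, hkE⟩ := key C E hCE h2
    apply hDE
    rw [← hrep D, ← hrep E]
    refine ConjClasses.mk_eq_mk_iff_isConj.2 (isConj_iff.2 ⟨⟨k * g⁻¹, odd_mul k g⁻¹ hk
      (fun h => hg (by simpa using inv_mem h))⟩, Subtype.ext ?_⟩)
    show k * g⁻¹ * (rep D : Perm (Fin n)) * (k * g⁻¹)⁻¹ = rep E
    rw [← hgD, ← hkE]; group
  have hcan : ∀ C, ∃ D, pt D = pt C := fun C => ⟨C, rfl⟩
  let canon : {s : Nat.Partition n // IsEvenPart s} → ConjClasses (alternatingGroup (Fin n)) := fun s =>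
    if h : ∃ D, pt D = s then h.choose else ConjClasses.mk 1
  have hcanon : ∀ C, pt (canon (pt C)) = pt C := fun C => by
    simp only [canon, dif_pos (hcan C)]
    exact (hcan C).choose_spec
  let F : ConjClasses (alternatingGroup (Fin n)) → {s : Nat.Partition n // IsEvenPart s} ⊕
      {s : Nat.Partition n // Splits s ∧ IsEvenPart s} := fun C =>
    if h : canon (pt C) = C then .inl (pt C)
    else .inr ⟨(pt C).1, hsplit C _ (fun e => h e.symm) (hcanon C).symm, (pt C).2⟩
  have := Nat.card_le_card_of_injective F fun C D h => by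
    simp only [F] at h
    by_cases hC : canon (pt C) = C <;> by_cases hD : canon (pt D) = D <;>
      simp only [hC, hD, dite_true, dite_false, Sum.inl.injEq, Sum.inr.injEq, reduceCtorEq] at h
    · rw [← hC, ← hD, h]
    · have hpt : pt C = pt D := Subtype.ext (congrArg (fun u => u.1) h :)
      by_contra hne
      exact three C D (canon (pt C)) hne (fun e => hC e.symm)
        (fun e => hD (by rw [← hpt]; exact e.symm)) hpt (hcanon C).symm
  rwa [Nat.card_sum] at this

theorem perm_classes : Nat.card (ConjClasses (Perm (Fin n))) = Nat.card (Nat.Partition n) := by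
  refine Nat.card_congr (Equiv.ofBijective
    (Quotient.lift (fun σ : Perm (Fin n) => part σ) fun σ τ h => part_eq.1 h) ⟨?_, fun s => ?_⟩)
  · intro C D
    induction C using Quotient.inductionOn with
    | _ σ =>
      induction D using Quotient.inductionOn with
      | _ τ => exact fun h => Quotient.sound (part_eq.2 h)
  · obtain ⟨σ, hσ⟩ := part_surjective s
    exact ⟨⟦σ⟧, hσ⟩

end

/-- For n ≥ 5 the alternating group of degree n has strictly fewer conjugacy classes than the symmetric group of degree n, and the symmetric group of degree n (whose classes correspond to the partitions of n) has at most 2^(n−2) conjugacy classes. -/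
theorem result (n : ℕ) (hn : 5 ≤ n) : Nat.card (ConjClasses (alternatingGroup (Fin n))) < Nat.card (ConjClasses (Equiv.Perm (Fin n))) ∧ Nat.card (ConjClasses (Equiv.Perm (Fin n))) ≤ 2 ^ (n - 2) := by
  classical
  haveI : Finite (Nat.Partition n) := Finite.of_fintype _
  constructor
  · have h1 := alt_classes_le (n := n)
    have h2 := splits_card_lt hn
    have h3 : Nat.card {s : Nat.Partition n // IsEvenPart s} +
        Nat.card {s : Nat.Partition n // ¬ IsEvenPart s} = Nat.card (Nat.Partition n) := by
      rw [← Nat.card_sum]; exact Nat.card_congr (Equiv.sumCompl _)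
    rw [perm_classes]
    omega
  · rw [perm_classes]
    obtain ⟨k, rfl⟩ : ∃ k, n = k + 5 := ⟨n - 5, by omega⟩
    exact partition_le k

end Cfsg.Agent.S4198
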