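import Mathlib
import Cfsg.Statements.S4200
-- import your own Cfsg.Agent.* helpers here

set_option autoImplicit false
open Cfsg

namespace Cfsg.Agent.S4200

theorem sum_card_centralizer {X : Type*} [Group X] [Finite X] [Fintype X] :
    ∑ x : X, Nat.card (Subgroup.centralizer ({x} : Set X)) = Nat.card (ConjClasses X) * Nat.card X := by
  rw [← card_comm_eq_card_conjClasses_mul_card, Nat.card_congr
    (show {p : X × X // Commute p.1 p.2} ≃ Σ x : X, Subgroup.centralizer ({x} : Set X) from
      { toFun := fun p => ⟨p.1.1, p.1.2, Subgroup.mem_centralizer_singleton_iff.2 p.2.symm.eq⟩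
        invFun := fun p => ⟨(p.1, p.2.1), (Subgroup.mem_centralizer_singleton_iff.1 p.2.2).symm⟩
        left_inv := fun _ => rfl
        right_inv := fun _ => rfl }), Nat.card_sigma]

/-- Let Y be a subgroup of the finite group X, of index m. Then the numbers of conjugacy classes satisfy k(Y) ≤ m·k(X) and k(X) ≤ m·k(Y), and the second inequality is strict unless Y is normal in X. -/
theorem result {X : Type*} [Group X] [Finite X] (Y : Subgroup X) : Nat.card (ConjClasses Y) ≤ Y.index * Nat.card (ConjClasses X) ∧ Nat.card (ConjClasses X) ≤ Y.index * Nat.card (ConjClasses Y) ∧ (¬ Y.Normal → Nat.card (ConjClasses X) < Y.index * Nat.card (ConjClasses Y)) := by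
  classical
  haveI := Fintype.ofFinite X
  haveI : Fintype Y := Fintype.ofFinite _
  set n := Y.index
  have hXn : n * Nat.card Y = Nat.card X := Y.index_mul_card
  have hXpos : 0 < Nat.card X := Nat.card_pos
  have hYpos : 0 < Nat.card Y := Nat.card_pos
  -- centralizers in `Y`
  have hCY : ∀ y : Y, Nat.card (Subgroup.centralizer ({y} : Set Y)) =
      Nat.card (Y ⊓ Subgroup.centralizer ({(y : X)} : Set X) : Subgroup X) := by
    intro y
    refine Nat.card_congr
      { toFun := fun w => ⟨w.1.1, Subgroup.mem_inf.2 ⟨w.1.2, Subgroup.mem_centralizer_singleton_iff.2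
          (congrArg Subtype.val (Subgroup.mem_centralizer_singleton_iff.1 w.2))⟩⟩
        invFun := fun w => ⟨⟨w.1, (Subgroup.mem_inf.1 w.2).1⟩, Subgroup.mem_centralizer_singleton_iff.2
          (Subtype.ext (Subgroup.mem_centralizer_singleton_iff.1 (Subgroup.mem_inf.1 w.2).2))⟩
        left_inv := fun _ => rfl
        right_inv := fun _ => rfl }
  have hCle : ∀ x : X, Nat.card (Subgroup.centralizer ({x} : Set X)) ≤
      n * Nat.card (Y ⊓ Subgroup.centralizer ({x} : Set X) : Subgroup X) := by
    intro x
    rw [← Subgroup.card_mul_index ((Y ⊓ Subgroup.centralizer ({x} : Set X)).subgroupOf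
      (Subgroup.centralizer ({x} : Set X))), Nat.card_congr (Subgroup.subgroupOfEquivOfLe inf_le_right).toEquiv,
      mul_comm n]
    refine Nat.mul_le_mul_left _ ?_
    change (Y ⊓ Subgroup.centralizer ({x} : Set X)).relIndex (Subgroup.centralizer ({x} : Set X)) ≤ n
    rw [Subgroup.inf_relIndex_right, show n = Y.relIndex ⊤ from (Subgroup.relIndex_top_right Y).symm]
    exact Subgroup.relIndex_le_of_le_right le_top
      (by rw [Subgroup.relIndex_top_right]; exact Subgroup.index_ne_zero_of_finite)
  -- double counting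
  have hswap : ∑ x : X, Nat.card (Y ⊓ Subgroup.centralizer ({x} : Set X) : Subgroup X) =
      ∑ y : Y, Nat.card (Subgroup.centralizer ({(y : X)} : Set X)) := by
    rw [← Nat.card_sigma, ← Nat.card_sigma]
    refine Nat.card_congr
      { toFun := fun p => ⟨⟨p.2.1, (Subgroup.mem_inf.1 p.2.2).1⟩, p.1, Subgroup.mem_centralizer_singleton_iff.2
          (Subgroup.mem_centralizer_singleton_iff.1 (Subgroup.mem_inf.1 p.2.2).2).symm⟩
        invFun := fun p => ⟨p.2.1, p.1.1, Subgroup.mem_inf.2 ⟨p.1.2, Subgroup.mem_centralizer_singleton_iff.2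
          (Subgroup.mem_centralizer_singleton_iff.1 p.2.2).symm⟩⟩
        left_inv := fun _ => rfl
        right_inv := fun _ => rfl }
  have hX := sum_card_centralizer (X := X)
  have hY := sum_card_centralizer (X := Y)
  simp only [hCY] at hY
  have h1 : Nat.card (ConjClasses X) * Nat.card X ≤ n * ∑ y : Y, Nat.card (Subgroup.centralizer ({(y : X)} : Set X)) := by
    rw [← hX, ← hswap, Finset.mul_sum]
    exact Finset.sum_le_sum fun x _ => hCle x
  have h2 : ∑ y : Y, Nat.card (Subgroup.centralizer ({(y : X)} : Set X)) ≤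
      n * (Nat.card (ConjClasses Y) * Nat.card Y) := by
    rw [← hY, Finset.mul_sum]
    exact Finset.sum_le_sum fun y _ => hCle y
  refine ⟨?_, ?_, fun hnn => ?_⟩
  · refine Nat.le_of_mul_le_mul_right ?_ hYpos
    calc Nat.card (ConjClasses Y) * Nat.card Y
        = ∑ y : Y, Nat.card (Y ⊓ Subgroup.centralizer ({(y : X)} : Set X) : Subgroup X) := hY.symm
      _ ≤ ∑ y : Y, Nat.card (Subgroup.centralizer ({(y : X)} : Set X)) :=
          Finset.sum_le_sum fun y _ => Subgroup.card_le_of_le inf_le_right
      _ = ∑ x ∈ Finset.univ.filter (fun x : X => x ∈ Y), Nat.card (Subgroup.centralizer ({x} : Set X)) := by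
          exact (Finset.sum_subtype (Finset.univ.filter fun x : X => x ∈ Y) (fun x => by simp)
            fun x : X => Nat.card (Subgroup.centralizer ({x} : Set X))).symm
      _ ≤ ∑ x : X, Nat.card (Subgroup.centralizer ({x} : Set X)) :=
          Finset.sum_le_sum_of_subset (Finset.filter_subset _ _)
      _ = n * Nat.card (ConjClasses X) * Nat.card Y := by rw [hX, ← hXn]; ring
  · refine Nat.le_of_mul_le_mul_right ?_ hXpos
    calc Nat.card (ConjClasses X) * Nat.card X ≤ n * (n * (Nat.card (ConjClasses Y) * Nat.card Y)) :=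
          h1.trans (Nat.mul_le_mul_left _ h2)
      _ = n * Nat.card (ConjClasses Y) * Nat.card X := by rw [← hXn]; ring
  · obtain ⟨y0, hy0⟩ : ∃ y0 : Y, Nat.card (Subgroup.centralizer ({(y0 : X)} : Set X)) <
        n * Nat.card (Y ⊓ Subgroup.centralizer ({(y0 : X)} : Set X) : Subgroup X) := by
      by_contra hcon
      push Not at hcon
      refine hnn ⟨fun y hy g => ?_⟩
      set Cy := Subgroup.centralizer ({y} : Set X) with hCydef
      have heq : Nat.card Cy = n * Nat.card (Y ⊓ Cy : Subgroup X) := le_antisymm (hCle y) (hcon ⟨y, hy⟩)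
      have hprod : Nat.card Cy * Nat.card Y = Nat.card X * Nat.card (Y ⊓ Cy : Subgroup X) := by
        rw [heq, ← hXn]; ring
      -- `Y * C(y) = X`
      let f : Y × Cy → X := fun p => (p.1 : X) * p.2
      have hfib : ∀ p q : Y × Cy, f p = f q → ∃ t ∈ Y ⊓ Cy, (q.1 : X) = p.1 * t := fun p q h => by
        refine ⟨(p.1 : X)⁻¹ * q.1, Subgroup.mem_inf.2 ⟨mul_mem (inv_mem p.1.2) q.1.2, ?_⟩,
          (mul_inv_cancel_left _ _).symm⟩
        have : (p.1 : X)⁻¹ * q.1 = (p.2 : X) * (q.2 : X)⁻¹ := by
          rw [eq_mul_inv_iff_mul_eq, mul_assoc, show (q.1 : X) * q.2 = p.1 * p.2 from h.symm,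
            inv_mul_cancel_left]
        rw [this]; exact mul_mem p.2.2 (inv_mem q.2.2)
      haveI : Fintype Cy := Fintype.ofFinite _
      have hsurj : Function.Surjective f := by
        rw [← Set.range_eq_univ]
        refine Set.eq_of_subset_of_ncard_le (Set.subset_univ _) ?_ Set.finite_univ
        rw [Set.ncard_univ]
        have hb : Fintype.card (Y × Cy) ≤ Nat.card (Y ⊓ Cy : Subgroup X) * (Finset.univ.image f).card := by
          rw [← Finset.card_univ]
          refine Finset.card_le_mul_card_image _ _ fun b hb => ?_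
          obtain ⟨p, -, rfl⟩ := Finset.mem_image.1 hb
          rw [Nat.card_eq_fintype_card, ← Finset.card_univ]
          refine Finset.card_le_card_of_injOn
            (fun q => if h : f p = f q then ⟨(hfib p q h).choose, (hfib p q h).choose_spec.1⟩ else 1)
            (fun _ _ => Finset.mem_coe.2 (Finset.mem_univ _)) ?_
          intro q hq q' hq' he
          have h1 : f p = f q := ((Finset.mem_filter.1 hq).2).symm
          have h2 : f p = f q' := ((Finset.mem_filter.1 hq').2).symm
          simp only [dif_pos h1, dif_pos h2, Subtype.mk.injEq] at he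
          have e1 : q.1 = q'.1 := Subtype.ext (by
            rw [(hfib p q h1).choose_spec.2, (hfib p q' h2).choose_spec.2, he])
          refine Prod.ext e1 (Subtype.ext (mul_left_cancel (a := (q.1 : X)) ?_))
          calc (q.1 : X) * q.2 = f p := h1.symm
            _ = q'.1 * q'.2 := h2
            _ = q.1 * q'.2 := by rw [e1]
        rw [← Nat.card_eq_fintype_card, Nat.card_prod, mul_comm (Nat.card Y), hprod] at hb
        rw [show Set.range f = ((Finset.univ.image f : Finset X) : Set X) by simp, Set.ncard_coe_finset]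
        rw [mul_comm _ (Finset.univ.image f).card] at hb
        exact Nat.le_of_mul_le_mul_right hb Nat.card_pos
      obtain ⟨⟨a, c⟩, hac⟩ := hsurj g
      have hc : (c : X) * y = y * c := Subgroup.mem_centralizer_singleton_iff.1 c.2
      have hac' : (a : X) * (c : X) = g := hac
      rw [← hac', mul_inv_rev, show (a : X) * c * y * ((c : X)⁻¹ * (a : X)⁻¹) = a * (c * y) * (c : X)⁻¹ * (a : X)⁻¹ by group,
        hc, show (a : X) * (y * c) * (c : X)⁻¹ * (a : X)⁻¹ = a * y * (a : X)⁻¹ by group]
      exact mul_mem (mul_mem a.2 hy) (inv_mem a.2)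
    refine Nat.lt_of_mul_lt_mul_right (a := Nat.card X) ?_
    calc Nat.card (ConjClasses X) * Nat.card X
        ≤ n * ∑ y : Y, Nat.card (Subgroup.centralizer ({(y : X)} : Set X)) := h1
      _ < n * (n * (Nat.card (ConjClasses Y) * Nat.card Y)) := by
          refine Nat.mul_lt_mul_of_pos_left ?_ (Nat.pos_of_ne_zero Subgroup.index_ne_zero_of_finite)
          rw [← hY, Finset.mul_sum]
          exact Finset.sum_lt_sum (fun y _ => hCle y) ⟨y0, Finset.mem_univ _, hy0⟩
      _ = n * Nat.card (ConjClasses Y) * Nat.card X := by rw [← hXn]; ring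

end Cfsg.Agent.S4200
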