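import Cfsg.Statements.S4203
import Cfsg.Agent.Lib.Char.Burnside

set_option autoImplicit false
open Cfsg

namespace Cfsg.Agent.S4203

open Subgroup

private theorem solvable_aux.{u} : ∀ (k : ℕ) (G : Type u) [Group G] [Finite G], Nat.card G = k →
    (∀ M : Subgroup G, IsCoatom M → ∃ p : ℕ, p.Prime ∧ (M.index = p ∨ M.index = p ^ 2)) →
    Group.IsSolvable G := by
  intro k
  induction k using Nat.strong_induction_on with
  | _ k ih =>
  intro G _ _ hk h
  by_cases h1 : (Nat.card G).primeFactors = ∅
  · have hG : Nat.card G = 1 := (Nat.primeFactors_eq_empty.1 h1).resolve_left Nat.card_pos.ne'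
    haveI := (Nat.card_eq_one_iff_unique.1 hG).1
    infer_instance
  have hne : (Nat.card G).primeFactors.Nonempty := Finset.nonempty_iff_ne_empty.2 h1
  set p := (Nat.card G).primeFactors.max' hne with hp'
  have hpmem := (Nat.card G).primeFactors.max'_mem hne
  have hp : p.Prime := Nat.prime_of_mem_primeFactors hpmem
  have hpG : p ∣ Nat.card G := Nat.dvd_of_mem_primeFactors hpmem
  haveI : Fact p.Prime := ⟨hp⟩
  let P : Sylow p G := default
  by_cases hN : (P : Subgroup G).Normal
  · haveI := hN
    haveI : Group.IsNilpotent (P : Subgroup G) := P.2.isNilpotent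
    have hlt : Nat.card (G ⧸ (P : Subgroup G)) < k := by
      rw [← index_eq_card, ← hk, ← (P : Subgroup G).card_mul_index]
      refine lt_mul_of_one_lt_left (Nat.pos_of_ne_zero FiniteIndex.index_ne_zero) ?_
      obtain ⟨m, hm⟩ := IsPGroup.iff_card.1 P.2
      have hd := P.dvd_card_of_dvd_card hpG
      rw [hm] at hd ⊢
      exact lt_of_lt_of_le hp.one_lt (Nat.le_of_dvd (Nat.pow_pos hp.pos) hd)
    haveI := ih _ hlt (G ⧸ (P : Subgroup G)) rfl fun M hM => by
      have hsurj := QuotientGroup.mk'_surjective (P : Subgroup G)
      have hco : IsCoatom (M.comap (QuotientGroup.mk' (P : Subgroup G))) :=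
        Subgroup.isCoatom_comap_of_surjective hsurj hM
      obtain ⟨q, hq, hi⟩ := h _ hco
      rw [index_comap_of_surjective _ hsurj] at hi
      exact ⟨q, hq, hi⟩
    exact Group.isSolvable_of_ker_le_range (P : Subgroup G).subtype
      (QuotientGroup.mk' (P : Subgroup G)) (by rw [QuotientGroup.ker_mk', range_subtype])
  · have hNtop : normalizer ((P : Subgroup G) : Set G) ≠ ⊤ := fun e =>
      hN (normalizer_eq_top_iff.1 e)
    obtain ⟨M, hM, hle⟩ := (eq_top_or_exists_le_coatom _).resolve_left hNtop
    obtain ⟨q, hq, hi⟩ := h M hM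
    have hPM : (P : Subgroup G) ≤ M := le_normalizer.trans hle
    have hmod : M.index ≡ 1 [MOD p] := by
      have e1 := card_sylow_modEq_one p G
      rw [P.card_eq_index_normalizer] at e1
      change (normalizer ((P : Subgroup G) : Set G)).index ≡ 1 [MOD p] at e1
      rw [← relIndex_mul_index hle] at e1
      have e2 := card_sylow_modEq_one p M
      rw [(P.subtype hPM).card_eq_index_normalizer] at e2
      change (normalizer ((P.subtype hPM : Subgroup M) : Set M)).index ≡ 1 [MOD p] at e2
      have e3 : (normalizer ((P.subtype hPM : Subgroup M) : Set M)).index =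
          (normalizer ((P : Subgroup G) : Set G)).relIndex M := by
        rw [Sylow.coe_subtype, ← subgroupOf_normalizer_eq hPM]
        rfl
      rw [e3] at e2
      have e4 := (Nat.ModEq.mul_right M.index e2).symm.trans e1
      rwa [one_mul] at e4
    have hqdvd : q ∣ Nat.card G := dvd_trans (by
      rcases hi with e | e <;> rw [e]
      exact dvd_pow_self q two_ne_zero) M.index_dvd_card
    have hqp : q ≠ p := fun e => by
      subst e
      rcases hi with e | e <;> rw [e] at hmod <;> have h2 := hp.one_lt
      · rw [Nat.ModEq, Nat.mod_self, Nat.mod_eq_of_lt h2] at hmod; omega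
      · rw [Nat.ModEq, pow_two, Nat.mul_mod_right, Nat.mod_eq_of_lt h2] at hmod; omega
    have hqlt : q < p := lt_of_le_of_ne
      ((Nat.card G).primeFactors.le_max' q (Nat.mem_primeFactors.2 ⟨hq, hqdvd, Nat.card_pos.ne'⟩)) hqp
    have h2 := hq.two_le
    have hq2 : q = 2 ∧ p = 3 := by
      rcases hi with e | e <;> rw [e] at hmod
      · have := Nat.ModEq.eq_of_lt_of_lt hmod hqlt hp.one_lt; omega
      · have hd : p ∣ (q - 1) * (q + 1) := by
          have h3 : p ∣ q ^ 2 - 1 := (Nat.modEq_iff_dvd' (Nat.one_le_pow _ _ hq.pos)).1 hmod.symm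
          rwa [← one_pow 2, Nat.sq_sub_sq, mul_comm] at h3
        rcases hp.dvd_mul.1 hd with hd | hd
        · have := Nat.le_of_dvd (by omega) hd; omega
        · have := Nat.le_of_dvd (by omega) hd
          have hpq : p = q + 1 := by omega
          rcases hq.eq_two_or_odd with e | e
          · exact ⟨e, by omega⟩
          · rcases hp.eq_two_or_odd with e' | e' <;> omega
    set c := Nat.card G with hc
    have hsub : c.primeFactors ⊆ {2, 3} := fun x hx => by
      have hxp := Finset.le_max' _ x hx
      have hx2 := (Nat.prime_of_mem_primeFactors hx).two_le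
      rw [← hp'] at hxp
      simp only [Finset.mem_insert, Finset.mem_singleton]
      omega
    refine CfsgLib.Char.isSolvable_of_card_two_primes Nat.prime_two Nat.prime_three G
      (c.factorization 2) (c.factorization 3) ?_
    rw [← hc]
    conv_lhs => rw [← Nat.prod_factorization_pow_eq_self (n := c) Nat.card_pos.ne']
    rw [Finsupp.prod_of_support_subset _ (show c.factorization.support ⊆ {2, 3} from hsub)
      _ (fun _ _ => pow_zero _), Finset.prod_pair (by norm_num)]

/-- A finite group in which every maximal subgroup has index a prime or the square of a prime is solvable. -/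
theorem result {G : Type*} [Group G] [Finite G] (h : ∀ M : Subgroup G, IsCoatom M → ∃ p : ℕ, p.Prime ∧ (M.index = p ∨ M.index = p ^ 2)) : Group.IsSolvable G := by
  exact solvable_aux _ G rfl h

end Cfsg.Agent.S4203
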