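import Cfsg.Statements.S4204
-- import your own Cfsg.Agent.* helpers here

set_option autoImplicit false
set_option linter.style.haveILetI false
open Cfsg

namespace Cfsg.Agent.S4204

open Subgroup in
/-- The lower central series shifted so that `0` gives the whole group. -/
def lseries {G : Type*} [Group G] (H : Subgroup G) : ℕ → Subgroup G
  | 0 => ⊤
  | i + 1 => H.lowerCentralSeries i

open Subgroup in
theorem commutator_le_lseries {G : Type*} [Group G] (H : Subgroup G) [H.Normal] (i : ℕ) :
    ⁅lseries H i, H⁆ ≤ lseries H (i + 1) := by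
  rcases i with _ | i
  · exact commutator_le_right _ H
  · exact le_rfl

open Subgroup in
theorem lseries_normal {G : Type*} [Group G] (H : Subgroup G) [H.Normal] :
    ∀ i, (lseries H i).Normal
  | 0 => inferInstanceAs (⊤ : Subgroup G).Normal
  | 1 => ‹H.Normal›
  | i + 2 => by
    haveI := lseries_normal H (i + 1)
    exact inferInstanceAs (⁅H.lowerCentralSeries i, H⁆).Normal

open Subgroup in
open scoped commutatorElement in
/-- Fitting: the series of a product is covered by intersections of the series of the factors. -/
theorem fitting_le {G : Type*} [Group G] (H K : Subgroup G) [H.Normal] [K.Normal] (n : ℕ) :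
    (H ⊔ K).lowerCentralSeries n ≤
      ⨆ i : Fin (n + 2), lseries H i ⊓ lseries K (n + 1 - i) := by
  induction n with
  | zero =>
    refine sup_le (le_iSup_of_le 1 ?_) (le_iSup_of_le 0 ?_)
    · exact le_inf le_rfl le_top
    · exact le_inf le_top le_rfl
  | succ n ih =>
    set X := ⨆ i : Fin (n + 3), lseries H i ⊓ lseries K (n + 2 - i)
    haveI hn : ∀ i : Fin (n + 3), (lseries H i ⊓ lseries K (n + 2 - i)).Normal := fun i => by
      haveI := lseries_normal H i
      haveI := lseries_normal K (n + 2 - i)
      exact normal_inf_normal _ _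
    haveI : X.Normal := Subgroup.iSup_normal _
    set π := QuotientGroup.mk' X
    have key : ∀ A B : Subgroup G, ⁅A, B⁆ ≤ X → A.map π ≤ centralizer (B.map π : Set _) := by
      intro A B h
      rintro _ ⟨a, ha, rfl⟩
      rw [mem_centralizer_iff]
      rintro _ ⟨b, hb, rfl⟩
      have h1 : π ⁅a, b⁆ = 1 := (QuotientGroup.eq_one_iff _).2 (h (commutator_mem_commutator ha hb))
      rw [map_commutatorElement, commutatorElement_eq_one_iff_mul_comm] at h1
      exact h1.symm
    have hmain : (⨆ i : Fin (n + 2), lseries H i ⊓ lseries K (n + 1 - i)).map π ≤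
        centralizer ((H ⊔ K).map π : Set _) := by
      rw [Subgroup.map_iSup]
      refine iSup_le fun i => ?_
      rw [le_centralizer_iff, Subgroup.map_sup]
      refine sup_le ?_ ?_
      · rw [le_centralizer_iff]
        refine key _ _ (le_trans (le_inf ?_ ?_) (le_iSup_of_le ⟨i + 1, by omega⟩ le_rfl))
        · exact (commutator_mono inf_le_left le_rfl).trans (commutator_le_lseries H i)
        · rw [show n + 2 - ((⟨(i : ℕ) + 1, by omega⟩ : Fin (n + 3)) : ℕ) = n + 1 - i from by
            show n + 2 - ((i : ℕ) + 1) = n + 1 - i; omega]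
          haveI := lseries_normal K (n + 1 - i)
          exact (commutator_mono inf_le_right le_rfl).trans (commutator_le_left _ _)
      · rw [le_centralizer_iff]
        refine key _ _ (le_trans (le_inf ?_ ?_) (le_iSup_of_le ⟨i, by omega⟩ le_rfl))
        · haveI := lseries_normal H i
          exact (commutator_mono inf_le_left le_rfl).trans (commutator_le_left _ _)
        · rw [show n + 2 - ((⟨(i : ℕ), by omega⟩ : Fin (n + 3)) : ℕ) = n + 1 - i + 1 from by
            show n + 2 - (i : ℕ) = n + 1 - i + 1; omega]
          exact (commutator_mono inf_le_right le_rfl).trans (commutator_le_lseries K _)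
    rw [Subgroup.lowerCentralSeries_succ]
    refine commutator_le.2 fun a ha b hb => (QuotientGroup.eq_one_iff _).1 ?_
    show π ⁅a, b⁆ = 1
    rw [map_commutatorElement, commutatorElement_eq_one_iff_mul_comm]
    exact (mem_centralizer_iff.1 (hmain ⟨a, ih ha, rfl⟩) _ ⟨b, hb, rfl⟩).symm

/-- If `H` and `K` are normal subgroups of a finite group with `H` nilpotent of class at most `c` and `K` nilpotent of class at most `d` (the terms with index `c`, respectively `d`, of their lower central series are trivial, indices starting at `0`), then `HK` is nilpotent of class at most `c + d`. -/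
theorem result {G : Type*} [Group G] [Finite G] (H K : Subgroup G) [H.Normal] [K.Normal] (c d : ℕ) (hH : H.lowerCentralSeries c = ⊥) (hK : K.lowerCentralSeries d = ⊥) : (H ⊔ K).lowerCentralSeries (c + d) = ⊥ := by
  rw [eq_bot_iff]
  refine (fitting_le H K (c + d)).trans (iSup_le fun i => ?_)
  by_cases hi : c + 1 ≤ (i : ℕ)
  · refine inf_le_left.trans ?_
    obtain ⟨j, hj⟩ : ∃ j, (i : ℕ) = j + 1 := ⟨(i : ℕ) - 1, by omega⟩
    rw [hj]
    exact le_trans (H.lowerCentralSeries_antitone (show c ≤ j by omega)) hH.le
  · refine inf_le_right.trans ?_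
    obtain ⟨j, hj⟩ : ∃ j, c + d + 1 - (i : ℕ) = j + 1 := ⟨c + d - (i : ℕ), by omega⟩
    rw [hj]
    exact le_trans (K.lowerCentralSeries_antitone (show d ≤ j by omega)) hK.le

end Cfsg.Agent.S4204
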