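import Cfsg.Statements.S4205
import Cfsg.Agent.Lib.Coprime.Core
import Mathlib.GroupTheory.Nilpotent

set_option autoImplicit false
set_option linter.style.haveILetI false
open Cfsg

namespace Cfsg.Agent.S4205

/-- In a finite group whose upper central series reaches the whole group at step `c` (nilpotent of class at most `c`), starting from any subgroup and taking normalizers `c` times reaches the whole group. -/
theorem result {G : Type*} [Group G] [Finite G] (c : ℕ) (hG : Subgroup.upperCentralSeries G c = ⊤) (H : Subgroup G) : (fun K : Subgroup G => Subgroup.normalizer (K : Set G))^[c] H = ⊤ := by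
  set f := fun K : Subgroup G => Subgroup.normalizer (K : Set G)
  have key : ∀ i, Subgroup.upperCentralSeries G i ≤ f^[i] H := by
    intro i
    induction i with
    | zero => rw [Subgroup.upperCentralSeries_zero]; exact bot_le
    | succ i ih =>
      rw [Function.iterate_succ_apply']
      intro z hz
      have hc : ∀ y : G, z * y * z⁻¹ * y⁻¹ ∈ f^[i] H := fun y =>
        ih (Subgroup.mem_upperCentralSeries_succ_iff.1 hz y)
      refine Subgroup.mem_normalizer_iff.2 fun y => ⟨fun hy => ?_, fun hy => ?_⟩
      · have := Subgroup.mul_mem _ (hc y) hy
        rwa [inv_mul_cancel_right] at this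
      · have := Subgroup.mul_mem _ (Subgroup.inv_mem _ (hc y)) hy
        rwa [show (z * y * z⁻¹ * y⁻¹)⁻¹ * (z * y * z⁻¹) = y by group] at this
  exact top_le_iff.1 (hG.ge.trans (key c))

end Cfsg.Agent.S4205
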