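import Cfsg.Statements.S4207
import Cfsg.Agent.Lib.Coprime.PGroupFrattini
import Mathlib.GroupTheory.GroupAction.Quotient
-- import your own Cfsg.Agent.* helpers here

set_option autoImplicit false
open Cfsg

namespace Cfsg.Agent.S4207

/-- Let `P` be a group of order `p^n` whose Frattini subgroup has index `p^r`. Then any group of automorphisms of `P` each of which induces the identity on the Frattini quotient has order dividing `p^(r(n-r))`; in particular it is a `p`-group. -/
theorem result {P : Type*} [Group P] [Finite P] {p n r : ℕ} [Fact p.Prime] (hP : Nat.card P = p ^ n) (hr : (frattini P).index = p ^ r) (A : Subgroup (MulAut P)) (hA : ∀ α ∈ A, ∀ x : P, α x * x⁻¹ ∈ frattini P) : Nat.card A ∣ p ^ (r * (n - r)) := by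
  classical
  haveI := Fintype.ofFinite P
  have hpg : IsPGroup p P := IsPGroup.of_card hP
  obtain ⟨T, -, hT, hTc⟩ := CfsgLib.Coprime.card_closure_sup_frattini hpg (Finset.univ : Finset P)
  have htop : Subgroup.closure ((Finset.univ : Finset P) : Set P) ⊔ frattini P = ⊤ := by simp
  rw [htop] at hT hTc
  have hgen : Subgroup.closure (T : Set P) = ⊤ := frattini_nongenerating hT
  have hp := (Fact.out : p.Prime)
  have hΦ : Nat.card (frattini P) * p ^ r = p ^ n := by
    rw [← hr, ← hP, mul_comm, Subgroup.index_mul_card]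
  have hTr : T.card = r := by
    rw [Subgroup.card_top, hP, ← hΦ, mul_comm] at hTc
    exact (Nat.pow_right_injective hp.two_le
      (Nat.eq_of_mul_eq_mul_right Nat.card_pos hTc)).symm
  have hrn : r ≤ n := by
    have h : p ^ r ∣ p ^ n := ⟨_, (hΦ.symm.trans (mul_comm _ _))⟩
    exact (Nat.pow_dvd_pow_iff_le_right hp.one_lt).1 h
  have hΦc : Nat.card (frattini P) = p ^ (n - r) := by
    refine Nat.eq_of_mul_eq_mul_right (pow_pos hp.pos r) ?_
    rw [hΦ, ← pow_add, Nat.sub_add_cancel hrn]
  -- tuples congruent to the generators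
  let X := {f : T → P // ∀ t : T, f t * (t : P)⁻¹ ∈ frattini P}
  have hX : Nat.card X = p ^ (r * (n - r)) := by
    let e : X ≃ (T → frattini P) :=
      { toFun := fun f t => ⟨f.1 t * (t : P)⁻¹, f.2 t⟩
        invFun := fun g => ⟨fun t => (g t : P) * (t : P), fun t => by simp⟩
        left_inv := fun f => by ext t; simp
        right_inv := fun g => by ext t; simp }
    rw [Nat.card_congr e, Nat.card_fun, hΦc, Nat.card_eq_fintype_card, Fintype.card_coe, hTr,
      ← pow_mul, mul_comm]
  have hstab : ∀ (α : MulAut P), α ∈ A → ∀ f : X, ∀ t : T,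
      α (f.1 t) * (t : P)⁻¹ ∈ frattini P := by
    intro α hα f t
    have h1 := hA α hα (f.1 t)
    have := mul_mem h1 (f.2 t)
    rwa [← mul_assoc, inv_mul_cancel_right] at this
  letI act : MulAction A X :=
    { smul := fun α f => ⟨fun t => α.1 (f.1 t), hstab α.1 α.2 f⟩
      one_smul := fun f => Subtype.ext rfl
      mul_smul := fun α β f => Subtype.ext rfl }
  have hfree : ∀ f : X, MulAction.stabilizer A f = ⊥ := by
    intro f
    rw [Subgroup.eq_bot_iff_forall]
    rintro ⟨α, hα⟩ h
    have hfix : ∀ t : T, α (f.1 t) = f.1 t := fun t => congrFun (congrArg Subtype.val h) t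
    have hgen' : Subgroup.closure (Set.range f.1) = ⊤ := by
      refine frattini_nongenerating (top_le_iff.1 (hT ▸ sup_le ?_ le_sup_right))
      rw [Subgroup.closure_le]
      intro t ht
      have h1 : (f.1 ⟨t, ht⟩ * t⁻¹)⁻¹ * f.1 ⟨t, ht⟩ ∈
          Subgroup.closure (Set.range f.1) ⊔ frattini P :=
        mul_mem (Subgroup.mem_sup_right (inv_mem (f.2 ⟨t, ht⟩)))
          (Subgroup.mem_sup_left (Subgroup.subset_closure ⟨_, rfl⟩))
      simpa using h1
    have hhom : α.toMonoidHom = MonoidHom.id P := MonoidHom.eq_of_eqOn_dense hgen' (by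
      rintro _ ⟨t, rfl⟩; exact hfix t)
    exact Subtype.ext (MulEquiv.ext fun x => DFunLike.congr_fun hhom x)
  haveI : Fintype X := Fintype.ofFinite X
  haveI : Fintype A := Fintype.ofFinite A
  haveI : Fintype (Quotient (MulAction.orbitRel A X)) := Fintype.ofFinite _
  have horb : ∀ f : X, Nat.card (MulAction.orbit A f) = Nat.card A := by
    intro f
    rw [Nat.card_coe_set_eq, ← MulAction.index_stabilizer, hfree f, Subgroup.index_bot]
  rw [← hX, Nat.card_congr (MulAction.selfEquivSigmaOrbits A X), Nat.card_sigma]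
  exact Finset.dvd_sum fun ω _ => (horb ω.out).symm ▸ dvd_rfl

end Cfsg.Agent.S4207
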