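import Cfsg.Statements.S4208
import Cfsg.Agent.Lib.Coprime.PGroupFrattini

set_option autoImplicit false
open Cfsg

namespace Cfsg.Agent.S4208

open Subgroup

variable {P : Type*} [Group P]

private def span {i : ℕ} (f : Fin i → P) : Subgroup P := closure (Set.range f) ⊔ frattini P

private def Indep : ∀ {i : ℕ}, (Fin i → P) → Prop
  | 0, _ => True
  | i + 1, f => Indep (Fin.init f) ∧ f (Fin.last i) ∉ span (Fin.init f)

private theorem span_succ {i : ℕ} (f : Fin (i + 1) → P) :
    span f = span (Fin.init f) ⊔ zpowers (f (Fin.last i)) := by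
  have h : Set.range f = Set.range (Fin.init f) ∪ {f (Fin.last i)} := by
    ext x
    simp only [Set.mem_range, Set.mem_union, Set.mem_singleton_iff]
    constructor
    · rintro ⟨j, rfl⟩
      induction j using Fin.lastCases with
      | last => exact Or.inr rfl
      | cast j => exact Or.inl ⟨j, rfl⟩
    · rintro (⟨j, rfl⟩ | rfl)
      exacts [⟨_, rfl⟩, ⟨_, rfl⟩]
  rw [span, span, h, Subgroup.closure_union, ← zpowers_eq_closure, sup_right_comm]

variable [Finite P] {p n r : ℕ} [Fact p.Prime]

private theorem card_span (hP : IsPGroup p P) : ∀ {i : ℕ} (f : Fin i → P), Indep f →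
    Nat.card (span f) = p ^ i * Nat.card (frattini P) := by
  intro i
  induction i with
  | zero =>
    intro f _
    rw [span, Set.range_eq_empty, Subgroup.closure_empty, bot_sup_eq, pow_zero, one_mul]
  | succ i ih =>
    intro f hf
    rw [span_succ]
    refine (CfsgLib.Coprime.card_sup_zpowers_of_frattini_le hP (K := span (Fin.init f))
      le_sup_right hf.2).trans ?_
    rw [ih _ hf.1]
    ring

private theorem indep_snoc {i : ℕ} (f : Fin i → P) (x : P) (hf : Indep f) (hx : x ∉ span f) :
    Indep (Fin.snoc f x : Fin (i + 1) → P) := by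
  have h1 : Fin.init (Fin.snoc f x : Fin (i + 1) → P) = f := Fin.init_snoc ..
  have h2 : (Fin.snoc f x : Fin (i + 1) → P) (Fin.last i) = x := Fin.snoc_last ..
  refine ⟨h1.symm ▸ hf, ?_⟩
  rw [h1, h2]
  exact hx

private theorem card_indep (hP : IsPGroup p P) : ∀ i : ℕ,
    Nat.card {f : Fin i → P // Indep f} =
      ∏ j ∈ Finset.range i, (Nat.card P - p ^ j * Nat.card (frattini P)) := by
  classical
  intro i
  induction i with
  | zero =>
    rw [Finset.range_zero, Finset.prod_empty, Nat.card_eq_one_iff_unique]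
    exact ⟨inferInstance, ⟨⟨Fin.elim0, trivial⟩⟩⟩
  | succ i ih =>
    let e : {f : Fin (i + 1) → P // Indep f} ≃
        Σ f : {f : Fin i → P // Indep f}, {x : P // x ∉ span f.1} :=
      { toFun := fun f => ⟨⟨Fin.init f.1, f.2.1⟩, ⟨f.1 (Fin.last i), f.2.2⟩⟩
        invFun := fun s => ⟨Fin.snoc s.1.1 s.2.1, indep_snoc _ _ s.1.2 s.2.2⟩
        left_inv := fun f => Subtype.ext (Fin.snoc_init_self f.1)
        right_inv := fun s => by
          obtain ⟨⟨f, hf⟩, ⟨x, hx⟩⟩ := s
          have h1 : Fin.init (Fin.snoc (α := fun _ => P) f x) = f := Fin.init_snoc ..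
          have h2 : Fin.snoc (α := fun _ => P) f x (Fin.last i) = x := Fin.snoc_last ..
          refine Sigma.subtype_ext (Subtype.ext h1) h2 }
    haveI := Fintype.ofFinite {f : Fin i → P // Indep f}
    have hfib : ∀ f : {f : Fin i → P // Indep f},
        Nat.card {x : P // x ∉ span f.1} = Nat.card P - p ^ i * Nat.card (frattini P) := fun f => by
      rw [← card_span hP f.1 f.2]
      haveI := Fintype.ofFinite P
      rw [Nat.card_eq_fintype_card, Nat.card_eq_fintype_card, Nat.card_eq_fintype_card,
        Fintype.card_subtype_compl]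
    rw [Nat.card_congr e, Nat.card_sigma, Finset.sum_congr rfl fun f _ => hfib f, Finset.sum_const,
      smul_eq_mul, Finset.card_univ, ← Nat.card_eq_fintype_card, ih, Finset.prod_range_succ]

private theorem indep_map (φ : P ≃* P) : ∀ {i : ℕ} (f : Fin i → P), Indep f → Indep (φ ∘ f) := by
  intro i
  induction i with
  | zero => intro f h; exact h
  | succ i ih =>
    intro f hf
    refine ⟨ih _ hf.1, fun h => hf.2 ?_⟩
    have he : span (φ ∘ Fin.init f) = (span (Fin.init f)).map φ.toMonoidHom := by
      rw [span, span, Subgroup.map_sup, MonoidHom.map_closure, Set.range_comp]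
      congr 1
      exact (characteristic_iff_map_eq.1 inferInstance φ).symm
    have h' : φ (f (Fin.last i)) ∈ span (φ ∘ Fin.init f) := h
    rw [he] at h'
    obtain ⟨y, hy, hye⟩ := h'
    exact φ.injective hye ▸ hy

private theorem card_aut_dvd (hP : Nat.card P = p ^ n) (hr : (frattini P).index = p ^ r) :
    Nat.card (MulAut P) ∣ p ^ (r * (n - r)) * ∏ i ∈ Finset.range r, (p ^ r - p ^ i) := by
  classical
  have hp : p.Prime := Fact.out
  have hPG : IsPGroup p P := IsPGroup.of_card hP
  have hmul := (frattini P).card_mul_index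
  rw [hr, hP] at hmul
  have hrn : r ≤ n := (Nat.pow_dvd_pow_iff_le_right hp.one_lt).1 ⟨_, (mul_comm _ _).trans hmul |>.symm⟩
  have hcardΦ : Nat.card (frattini P) = p ^ (n - r) := by
    refine Nat.eq_of_mul_eq_mul_right (Nat.pow_pos (n := r) hp.pos) ?_
    rw [hmul, ← pow_add, Nat.sub_add_cancel hrn]
  have hT : Nat.card {f : Fin r → P // Indep f} =
      p ^ (r * (n - r)) * ∏ i ∈ Finset.range r, (p ^ r - p ^ i) := by
    have h1 : ∀ j ∈ Finset.range r,
        Nat.card P - p ^ j * Nat.card (frattini P) = p ^ (n - r) * (p ^ r - p ^ j) := fun j _ => by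
      rw [hP, hcardΦ, Nat.mul_sub, ← pow_add (n := r), ← pow_add (n := j), Nat.sub_add_cancel hrn,
        ← pow_add, add_comm j]
    rw [card_indep hPG, Finset.prod_congr rfl h1, Finset.prod_mul_distrib, Finset.prod_const,
      Finset.card_range, ← pow_mul, mul_comm r]
  rw [← hT]
  letI : MulAction (MulAut P) {f : Fin r → P // Indep f} :=
    { smul := fun φ f => ⟨φ ∘ f.1, indep_map φ f.1 f.2⟩
      one_smul := fun _ => rfl
      mul_smul := fun _ _ _ => rfl }
  haveI := Fintype.ofFinite {f : Fin r → P // Indep f}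
  rw [Nat.card_congr (MulAction.selfEquivSigmaOrbits (MulAut P) {f : Fin r → P // Indep f})]
  haveI : Finite (MulAction.orbitRel.Quotient (MulAut P) {f : Fin r → P // Indep f}) :=
    Finite.of_surjective _ Quotient.mk''_surjective
  haveI := Fintype.ofFinite (MulAction.orbitRel.Quotient (MulAut P) {f : Fin r → P // Indep f})
  rw [Nat.card_sigma]
  refine Finset.dvd_sum fun ω _ => dvd_of_eq ?_
  have hstab : ∀ f : {f : Fin r → P // Indep f}, MulAction.stabilizer (MulAut P) f = ⊥ := by
    intro f
    refine (Subgroup.eq_bot_iff_forall _).2 fun φ hφ => ?_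
    have hfix : ∀ j, φ (f.1 j) = f.1 j := fun j =>
      congrArg (fun g : {f : Fin r → P // Indep f} => g.1 j) (MulAction.mem_stabilizer_iff.1 hφ)
    have htop : span f.1 = ⊤ := Subgroup.eq_top_of_card_eq _ (by
      rw [card_span hPG f.1 f.2, hcardΦ, ← pow_add, Nat.add_sub_cancel' hrn, hP])
    have hgen := frattini_nongenerating htop
    refine MulEquiv.ext fun x => ?_
    exact MonoidHom.eqOn_closure (f := φ.toMonoidHom) (g := MonoidHom.id P)
      (by rintro _ ⟨j, rfl⟩; exact hfix j) (hgen ▸ mem_top x)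
  rw [Nat.card_congr (MulAction.orbitEquivQuotientStabilizer (MulAut P) _), hstab,
    ← Subgroup.index_eq_card, Subgroup.index_bot]

/-- Let `P` be a group of order `p^n` whose Frattini subgroup has index `p^r`. Then the order of the automorphism group of `P` divides `p^(r(n-r)) · (p^r - 1)(p^r - p) ⋯ (p^r - p^(r-1))`. -/
theorem result {P : Type*} [Group P] [Finite P] {p n r : ℕ} [Fact p.Prime] (hP : Nat.card P = p ^ n) (hr : (frattini P).index = p ^ r) : Nat.card (MulAut P) ∣ p ^ (r * (n - r)) * ∏ i ∈ Finset.range r, (p ^ r - p ^ i) := by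
  exact card_aut_dvd hP hr

end Cfsg.Agent.S4208
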