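import Cfsg.Statements.S4213
-- import your own Cfsg.Agent.* helpers here
import Cfsg.Agent.Lib.Char.TransLinear.Structure
import Cfsg.Agent.S3993
set_option autoImplicit false
open Cfsg

namespace Cfsg.Agent.S4213

universe u

open Subgroup

theorem aux : ∀ (N : ℕ) (G : Type u) [Group G] [Finite G] [Group.IsSolvable G], Nat.card G = N →
    ∀ n, n ∣ Nat.card G → Nat.card {x : G // x ^ n = 1} = n →
      ∃ H : Subgroup G, H.Normal ∧ (H : Set G) = {x : G | x ^ n = 1} := by
  intro N
  induction N using Nat.strong_induction_on with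
  | _ N ih =>
  intro G _ _ _ hN n hn hcount
  rcases subsingleton_or_nontrivial G with hs | hs
  · exact ⟨⊤, inferInstance, Set.ext fun x => iff_of_true trivial (Subsingleton.elim _ _)⟩
  obtain ⟨p, V, hp, hVn, -, hV1, -, hVp⟩ :=
    CfsgLib.Char.exists_normal_elementary_sub (D := (⊤ : Subgroup G)) top_ne_bot
  haveI := hVn
  haveI := Fact.mk hp
  obtain ⟨c, hc⟩ := (IsPGroup.iff_card (p := p) (G := V)).1 fun a =>
    ⟨1, Subtype.ext (by rw [pow_one]; exact hVp a a.2)⟩
  haveI : Nontrivial V := (nontrivial_iff_ne_bot V).2 hV1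
  have hc0 : c ≠ 0 := fun e => (Finite.one_lt_card (α := V)).ne' (by rw [hc, e, pow_zero])
  set π := QuotientGroup.mk' V
  have hπ : Function.Surjective π := QuotientGroup.mk'_surjective V
  have hGc : Nat.card G = p ^ c * Nat.card (G ⧸ V) := by
    rw [← hc, mul_comm]; exact card_eq_card_quotient_mul_card_subgroup V
  have hlt : Nat.card (G ⧸ V) < N := by
    rw [← hN, hGc]
    exact lt_mul_left Nat.card_pos (Nat.one_lt_pow hc0 hp.one_lt)
  have hn0 : n ≠ 0 := fun e => by
    rw [e, zero_dvd_iff] at hn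
    exact Nat.card_pos.ne' hn
  have hfrob : ∀ m, m ∣ Nat.card (G ⧸ V) → m ≤ Nat.card {y : G ⧸ V // y ^ m = 1} := fun m hm => by
    haveI : Nonempty {y : G ⧸ V // y ^ m = 1} := ⟨⟨1, one_pow m⟩⟩
    exact Nat.le_of_dvd Nat.card_pos (Cfsg.Agent.S3993.result m hm)
  have hpre : ∀ m, Set.ncard {x : G | (π x) ^ m = 1} = p ^ c * Nat.card {y : G ⧸ V // y ^ m = 1} :=
    fun m => by
      rw [← hc, ← Nat.card_prod, ← Nat.card_coe_set_eq]
      exact Nat.card_congr (QuotientGroup.preimageMkEquivSubgroupProdSet V {y : G ⧸ V | y ^ m = 1})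
  have hSn : Set.ncard {x : G | x ^ n = 1} = n := by
    rw [← Nat.card_coe_set_eq]; exact hcount
  obtain ⟨b, n1, hn1, rfl⟩ := Nat.exists_eq_pow_mul_and_not_dvd hn0 p hp.ne_one
  have hn1Q : n1 ∣ Nat.card (G ⧸ V) :=
    Nat.Coprime.dvd_of_dvd_mul_left (Nat.Coprime.pow_right c
      ((hp.coprime_iff_not_dvd.2 hn1).symm)) (hGc ▸ (dvd_mul_left n1 _).trans hn)
  rcases Nat.eq_zero_or_pos b with rfl | hb
  · -- the prime does not divide `n`
    simp only [pow_zero, one_mul] at hn hcount hSn ⊢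
    obtain ⟨u, hu⟩ : ∃ u, p * u ≡ 1 [MOD n1] := by
      refine ⟨p ^ (n1.totient - 1), ?_⟩
      have hpos : 0 < n1 := Nat.pos_of_ne_zero fun e => hn1 (e ▸ dvd_zero p)
      rw [← pow_succ', Nat.sub_add_cancel (Nat.totient_pos.2 hpos)]
      exact Nat.ModEq.pow_totient (hp.coprime_iff_not_dvd.2 hn1)
    let f : {x : G // x ^ n1 = 1} → {y : G ⧸ V // y ^ n1 = 1} := fun x =>
      ⟨π x.1, by rw [← map_pow, x.2, map_one]⟩
    have hf : Function.Surjective f := by
      rintro ⟨y, hy⟩
      obtain ⟨x, rfl⟩ := hπ y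
      refine ⟨⟨x ^ (p * u), ?_⟩, Subtype.ext ?_⟩
      · have h1 : x ^ n1 ∈ V := (QuotientGroup.eq_one_iff _).1 (by rw [← hy]; rfl)
        rw [← pow_mul, mul_comm, pow_mul, pow_mul, hVp _ h1, one_pow]
      · show π (x ^ (p * u)) = π x
        conv_rhs => rw [← pow_one (π x)]
        rw [map_pow]
        exact pow_eq_pow_iff_modEq.2 (hu.of_dvd (orderOf_dvd_of_pow_eq_one hy))
    have hcQ : Nat.card {y : G ⧸ V // y ^ n1 = 1} = n1 :=
      le_antisymm ((Nat.card_le_card_of_surjective f hf).trans hcount.le) (hfrob n1 hn1Q)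
    obtain ⟨Hq, hHqn, hHq⟩ := ih _ hlt (G ⧸ V) rfl n1 hn1Q hcQ
    set H := Hq.comap π
    have hVH : V ≤ H := fun v hv => by
      show π v ∈ Hq
      rw [show π v = 1 from (QuotientGroup.eq_one_iff v).2 hv]; exact one_mem _
    have hHqc : Nat.card Hq = n1 := by
      conv_rhs => rw [← hcQ]
      exact Nat.card_congr (Equiv.setCongr hHq)
    have hHc : Nat.card H = p ^ c * n1 := by
      rw [← hc, ← hHqc, ← Nat.card_prod]
      exact Nat.card_congr (QuotientGroup.preimageMkEquivSubgroupProdSet V (Hq : Set (G ⧸ V)))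
    have hVc : Nat.card (V.subgroupOf H) = p ^ c := by
      rw [Nat.card_congr (subgroupOfEquivOfLe hVH).toEquiv, hc]
    have hidx : (V.subgroupOf H).index = n1 := by
      have h := (V.subgroupOf H).card_mul_index
      rw [hVc, hHc] at h
      exact Nat.eq_of_mul_eq_mul_left (pow_pos hp.pos c) h
    obtain ⟨K, hK⟩ := exists_right_complement'_of_coprime (N := V.subgroupOf H) (by
      rw [hVc, hidx]
      exact Nat.Coprime.pow_left c (hp.coprime_iff_not_dvd.2 hn1))
    have hKc : Nat.card K = n1 := by rw [← hidx, hK.symm.index_eq_card]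
    set K' := K.map H.subtype
    have hK' : (K' : Set G) = {x : G | x ^ n1 = 1} := by
      refine Set.eq_of_subset_of_ncard_le (fun x hx => ?_) ?_
      · obtain ⟨k, hk, rfl⟩ := hx
        show (k : G) ^ n1 = 1
        rw [← SubmonoidClass.coe_pow, show k ^ n1 = 1 by
          rw [← hKc]
          exact congrArg Subtype.val (pow_card_eq_one' (x := (⟨k, hk⟩ : K))), OneMemClass.coe_one]
      · rw [hSn, ← Nat.card_coe_set_eq]
        show n1 ≤ Nat.card K'
        rw [card_map_of_injective H.subtype_injective, hKc]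
    refine ⟨K', ⟨fun x hx g => ?_⟩, hK'⟩
    have h1 : x ^ n1 = 1 := (Set.ext_iff.1 hK' x).1 hx
    refine (Set.ext_iff.1 hK' _).2 ?_
    show (g * x * g⁻¹) ^ n1 = 1
    rw [conj_pow, h1]; group
  · -- the prime divides `n`
    rcases Nat.lt_or_ge b c with hbc | hbc
    · exfalso
      have hsub : {x : G | (π x) ^ n1 = 1} ⊆ {x : G | x ^ (p ^ b * n1) = 1} := by
        intro x hx
        have h1 : x ^ n1 ∈ V := (QuotientGroup.eq_one_iff _).1 hx
        show x ^ (p ^ b * n1) = 1
        rw [mul_comm, pow_mul, show p ^ b = p * p ^ (b - 1) by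
          rw [← pow_succ']; congr 1; omega, pow_mul, hVp _ h1, one_pow]
      have h1 := (Set.ncard_le_ncard hsub).trans hSn.le
      rw [hpre] at h1
      have h2 := (Nat.mul_le_mul_left (p ^ c) (hfrob n1 hn1Q)).trans h1
      have hn1pos : 0 < n1 := Nat.pos_of_ne_zero fun e => hn1 (e ▸ dvd_zero p)
      exact absurd (Nat.le_of_mul_le_mul_right h2 hn1pos)
        (not_le.2 (Nat.pow_lt_pow_right hp.one_lt hbc))
    · set m := p ^ (b - c) * n1 with hm
      have hnm : p ^ b * n1 = p ^ c * m := by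
        rw [hm, ← mul_assoc, ← pow_add, Nat.add_sub_cancel' hbc]
      have hmQ : m ∣ Nat.card (G ⧸ V) := by
        rw [hnm, hGc] at hn
        exact Nat.dvd_of_mul_dvd_mul_left (pow_pos hp.pos c) hn
      have hsub : {x : G | (π x) ^ m = 1} ⊆ {x : G | x ^ (p ^ b * n1) = 1} := by
        intro x hx
        have h1 : x ^ m ∈ V := (QuotientGroup.eq_one_iff _).1 hx
        show x ^ (p ^ b * n1) = 1
        rw [hnm, mul_comm, pow_mul, show p ^ c = p * p ^ (c - 1) by
          rw [← pow_succ']; congr 1; omega, pow_mul, hVp _ h1, one_pow]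
      have h1 := (Set.ncard_le_ncard hsub).trans hSn.le
      rw [hpre, hnm] at h1
      have hcQ : Nat.card {y : G ⧸ V // y ^ m = 1} = m :=
        le_antisymm (Nat.le_of_mul_le_mul_left h1 (pow_pos hp.pos c)) (hfrob m hmQ)
      obtain ⟨Hq, hHqn, hHq⟩ := ih _ hlt (G ⧸ V) rfl m hmQ hcQ
      refine ⟨Hq.comap π, hHqn.comap π, ?_⟩
      rw [← Set.eq_of_subset_of_ncard_le hsub (by rw [hSn, hpre, hcQ, hnm])]
      ext x
      exact Set.ext_iff.1 hHq (π x)

/-- If `G` is a finite solvable group and `n` divides the order of `G` and exactly `n` elements `x` of `G` satisfy `x^n = 1`, then these elements form a normal subgroup. -/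
theorem result {G : Type*} [Group G] [Finite G] [Group.IsSolvable G] (n : ℕ) (hn : n ∣ Nat.card G) (hcount : Nat.card {x : G // x ^ n = 1} = n) : ∃ H : Subgroup G, H.Normal ∧ (H : Set G) = {x : G | x ^ n = 1} := by
  exact aux _ G rfl n hn hcount

end Cfsg.Agent.S4213
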