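import Cfsg.Statements.S4214
import Cfsg.Agent.Lib.Coprime.Hall
import Cfsg.Agent.Lib.Coprime.Fitting

set_option autoImplicit false
open Cfsg

namespace Cfsg.Agent.S4214

open Subgroup CfsgLib.Coprime

universe u

/-- The subgroups of order `m` are the conjugates of one of them. -/
theorem count_eq {G : Type*} [Group G] [Finite G] [Group.IsSolvable G] {m n : ℕ} (hG : Nat.card G = m * n)
    (hmn : m.Coprime n) {H : Subgroup G} (hH : Nat.card H = m) :
    Nat.card {K : Subgroup G // Nat.card K = m} = (normalizer (H : Set G)).index := by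
  let f : G ⧸ normalizer (H : Set G) → {K : Subgroup G // Nat.card K = m} :=
    Quotient.lift (fun g => ⟨conjBy g H, by rw [card_conjBy, hH]⟩) (by
      intro a b hab
      have h1 : a⁻¹ * b ∈ normalizer (H : Set G) := QuotientGroup.leftRel_apply.1 hab
      apply Subtype.ext
      show conjBy a H = conjBy b H
      calc conjBy a H = conjBy a (conjBy (a⁻¹ * b) H) := by rw [conjBy_eq_self_iff.2 h1]
        _ = conjBy b H := by rw [conjBy_conjBy, mul_inv_cancel_left])
  refine (Nat.card_congr (Equiv.ofBijective f ⟨?_, ?_⟩)).symm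
  · intro x y hxy
    induction x using QuotientGroup.induction_on with
    | _ a =>
      induction y using QuotientGroup.induction_on with
      | _ b =>
        have h1 : conjBy a H = conjBy b H := congrArg Subtype.val hxy
        refine QuotientGroup.eq.2 (conjBy_eq_self_iff.1 ?_)
        rw [← conjBy_conjBy, ← h1, conjBy_conjBy, inv_mul_cancel, conjBy_one]
  · rintro ⟨K, hK⟩
    obtain ⟨g, hg⟩ := hall_conj hG hmn hH hK
    exact ⟨QuotientGroup.mk g, Subtype.ext hg⟩

theorem relIndex_sup_eq {G : Type*} [Group G] [Finite G] (S N : Subgroup G) [N.Normal] :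
    S.relIndex (S ⊔ N) = S.relIndex N := by
  have a1 := card_mul_relIndex (le_sup_left : S ≤ S ⊔ N)
  have a2 := card_mul_relIndex (le_sup_right : N ≤ S ⊔ N)
  have a3 := card_mul_relIndex (inf_le_right : S ⊓ N ≤ N)
  have a4 := card_mul_relIndex (inf_le_left : S ⊓ N ≤ S)
  rw [relIndex_sup_right] at a2
  rw [inf_relIndex_right] at a3
  rw [inf_comm, inf_relIndex_right, inf_comm] at a4
  refine Nat.eq_of_mul_eq_mul_left (Nat.card_pos (α := S)) ?_
  rw [a1, ← a2, ← a3, ← a4]; ring

/-- Coprime action of a solvable group: the index of the fixed points. -/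
theorem fixed_index_factor {G : Type*} [Group G] [Finite G] (K : Subgroup G) (hK : Group.IsSolvable K)
    (N : Subgroup G) (hKN : ∀ k ∈ K, ∀ x ∈ N, k * x * k⁻¹ ∈ N) (hco : (Nat.card N).Coprime (Nat.card K)) :
    ∃ l : List ℕ, Nat.card N = Nat.card ↥(N ⊓ centralizer (K : Set G)) * l.prod ∧
      ∀ f ∈ l, f ∣ Nat.card N ∧ ∃ q, q.Prime ∧ q ∣ Nat.card K ∧ f ≡ 1 [MOD q] := by
  induction hk : Nat.card N using Nat.strongRecOn generalizing N with
  | ind k ih =>
    subst hk
    by_cases hc : N ≤ centralizer (K : Set G)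
    · exact ⟨[], by rw [inf_eq_left.2 hc, List.prod_nil, mul_one], fun f hf => absurd hf List.not_mem_nil⟩
    let K0 : Subgroup K := (centralizer (N : Set G)).subgroupOf K
    have hK0n : K0.Normal := ⟨fun a ha k => by
      refine mem_subgroupOf.2 (mem_centralizer_iff.2 fun x hx => ?_)
      have h1 := hKN _ (inv_mem k.2) x hx
      rw [inv_inv] at h1
      have h2 : (k : G)⁻¹ * x * k * a = a * ((k : G)⁻¹ * x * k) :=
        mem_centralizer_iff.1 (mem_subgroupOf.1 ha) _ h1
      simp only [Subgroup.coe_mul, Subgroup.coe_inv]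
      calc x * ((k : G) * a * (k : G)⁻¹) = k * ((k : G)⁻¹ * x * k * a) * (k : G)⁻¹ := by group
        _ = k * (a * ((k : G)⁻¹ * x * k)) * (k : G)⁻¹ := by rw [h2]
        _ = k * a * (k : G)⁻¹ * x := by group⟩
    have hnt : Nontrivial (K ⧸ K0) := by
      rw [← not_subsingleton_iff_nontrivial]
      intro hsub
      have hsub := QuotientGroup.subsingleton_iff.1 hsub
      refine hc fun x hx => mem_centralizer_iff.2 fun k hk => ?_
      have h1 : (⟨k, hk⟩ : K) ∈ K0 := by rw [hsub]; trivial
      exact (mem_centralizer_iff.1 (mem_subgroupOf.1 h1) x hx).symm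
    haveI := hK
    obtain ⟨M, q, hMn, hM, hq, hMq, -⟩ := exists_normal_pGroup_of_isSolvable (G := K ⧸ K0)
    haveI := Fact.mk hq
    set A : Subgroup K := M.comap (QuotientGroup.mk' K0) with hA
    let π : A →* M := (QuotientGroup.mk' K0).subgroupComap M
    have hπ : Function.Surjective π := fun u => by
      obtain ⟨a, ha⟩ := QuotientGroup.mk'_surjective K0 (u : K ⧸ K0)
      exact ⟨⟨a, by rw [hA, mem_comap, ha]; exact u.2⟩, Subtype.ext ha⟩
    obtain ⟨S0⟩ : Nonempty (Sylow q A) := inferInstance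
    have hS0 : ((S0.mapSurjective hπ : Sylow q M) : Subgroup M) = ⊤ :=
      ((S0.mapSurjective hπ).is_maximal' (hMq.to_subgroup ⊤ |>.of_equiv (MulEquiv.refl _)) le_top).symm
    set S : Subgroup K := (S0 : Subgroup A).map A.subtype with hS
    have hSA : S ≤ A := map_subtype_le _
    have hAS : ∀ a ∈ A, ∃ s ∈ S, s⁻¹ * a ∈ K0 := by
      intro a ha
      have h1 : π ⟨a, ha⟩ ∈ (S0 : Subgroup A).map π := by
        rw [← Sylow.coe_mapSurjective hπ S0, hS0]; trivial
      obtain ⟨s, hs, he⟩ := h1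
      refine ⟨s, ⟨s, hs, rfl⟩, QuotientGroup.eq.1 ?_⟩
      exact congrArg Subtype.val he
    set SG : Subgroup G := S.map K.subtype with hSG
    have hSGK : SG ≤ K := map_subtype_le _
    have hSq : IsPGroup q SG := (S0.2.map A.subtype).map K.subtype
    set C : Subgroup G := N ⊓ centralizer (SG : Set G) with hC
    have hCN : C ≤ N := inf_le_left
    -- `C` is invariant
    have hKC : ∀ k ∈ K, ∀ x ∈ C, k * x * k⁻¹ ∈ C := by
      intro k hk x hx
      refine ⟨hKN k hk x hx.1, mem_centralizer_iff.2 ?_⟩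
      rintro _ ⟨s, hs, rfl⟩
      have h2 : (⟨k, hk⟩ : K)⁻¹ * s * ⟨k, hk⟩ ∈ A := by
        have := (hMn.comap (QuotientGroup.mk' K0)).conj_mem s (hSA hs) (⟨k, hk⟩ : K)⁻¹
        rwa [inv_inv] at this
      obtain ⟨s', hs', hs0⟩ := hAS _ h2
      have h3 := mem_centralizer_iff.1 (mem_subgroupOf.1 hs0) x hx.1
      have h4 : (s' : G) * x = x * s' := mem_centralizer_iff.1 hx.2 _ ⟨s', hs', rfl⟩
      simp only [Subgroup.coe_mul, Subgroup.coe_inv] at h3
      show (s : G) * (k * x * k⁻¹) = k * x * k⁻¹ * s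
      have h5 : k⁻¹ * (s : G) * k * x = x * (k⁻¹ * (s : G) * k) := by
        calc k⁻¹ * (s : G) * k * x = (s' : G) * ((s' : G)⁻¹ * (k⁻¹ * s * k) * x) := by group
          _ = (s' : G) * (x * ((s' : G)⁻¹ * (k⁻¹ * s * k))) := by rw [← h3]
          _ = ((s' : G) * x) * ((s' : G)⁻¹ * (k⁻¹ * s * k)) := by group
          _ = (x * s') * ((s' : G)⁻¹ * (k⁻¹ * s * k)) := by rw [h4]
          _ = x * (k⁻¹ * (s : G) * k) := by group
      calc (s : G) * (k * x * k⁻¹) = k * (k⁻¹ * s * k * x) * k⁻¹ := by group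
        _ = k * (x * (k⁻¹ * s * k)) * k⁻¹ := by rw [h5]
        _ = k * x * k⁻¹ * s := by group
    -- a nontrivial action
    obtain ⟨s₁, hs₁, hs₁0⟩ : ∃ s ∈ SG, s ∉ centralizer (N : Set G) := by
      by_contra! hall
      refine hM ((eq_bot_iff_forall M).2 fun u hu => ?_)
      obtain ⟨a, rfl⟩ := QuotientGroup.mk'_surjective K0 u
      obtain ⟨s, hs, hs0⟩ := hAS a (mem_comap.2 hu)
      refine (QuotientGroup.eq_one_iff a).2 ?_
      have h1 : s ∈ K0 := mem_subgroupOf.2 (hall _ ⟨s, hs, rfl⟩)
      simpa using mul_mem h1 hs0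
    have hlt : Nat.card C < Nat.card N := by
      refine lt_of_le_of_ne (card_le_of_le hCN) fun he => hs₁0 (mem_centralizer_iff.2 fun x hx => ?_)
      have h1 : x ∈ C := by rw [eq_of_le_of_card_ge hCN he.ge]; exact hx
      exact (mem_centralizer_iff.1 h1.2 _ hs₁).symm
    have hqS : q ∣ Nat.card SG := by
      obtain ⟨j, hj⟩ := hSq.exists_card_eq
      rw [hj]
      refine dvd_pow_self q fun h0 => hs₁0 ?_
      rw [h0, pow_zero, card_eq_one] at hj
      rw [hj, mem_bot] at hs₁
      rw [hs₁]; exact one_mem _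
    have hqK : q ∣ Nat.card K := hqS.trans (card_dvd_of_le hSGK)
    obtain ⟨f, hf⟩ := card_dvd_of_le hCN
    have hcong : f ≡ 1 [MOD q] := by
      letI : MulAction SG N :=
        { smul := fun s x => ⟨(s : G) * x * (s : G)⁻¹, hKN _ (hSGK s.2) _ x.2⟩
          one_smul := fun x => Subtype.ext (show ((1 : SG) : G) * x * ((1 : SG) : G)⁻¹ = x by simp)
          mul_smul := fun s t x => Subtype.ext (show ((s * t : SG) : G) * x * ((s * t : SG) : G)⁻¹ =
            (s : G) * ((t : G) * x * (t : G)⁻¹) * (s : G)⁻¹ by rw [Subgroup.coe_mul]; group) }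
      have h1 := hSq.card_modEq_card_fixedPoints (α := N)
      have h2 : Nat.card (MulAction.fixedPoints SG N) = Nat.card C := by
        refine Nat.card_congr
          { toFun := fun x => ⟨(x.1 : G), x.1.2, mem_centralizer_iff.2 fun s hs => ?_⟩
            invFun := fun x => ⟨⟨x.1, x.2.1⟩, fun s => Subtype.ext ?_⟩
            left_inv := fun x => rfl
            right_inv := fun x => rfl }
        · exact mul_inv_eq_iff_eq_mul.1 (congrArg Subtype.val (x.2 ⟨s, hs⟩) :)
        · exact mul_inv_eq_iff_eq_mul.2 (mem_centralizer_iff.1 x.2.2 _ s.2)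
      rw [h2, hf] at h1
      have hqC : q.Coprime (Nat.card C) :=
        ((hco.coprime_dvd_left (card_dvd_of_le hCN)).coprime_dvd_right hqK).symm
      exact Nat.ModEq.cancel_left_of_coprime hqC (by rwa [mul_one])
    obtain ⟨l, hl, hlf⟩ := ih _ hlt C hKC (hco.coprime_dvd_left (card_dvd_of_le hCN)) rfl
    refine ⟨f :: l, ?_, ?_⟩
    · have he : C ⊓ centralizer (K : Set G) = N ⊓ centralizer (K : Set G) :=
        le_antisymm (inf_le_inf_right _ hCN) (le_inf (le_inf inf_le_left
          (inf_le_right.trans (centralizer_le hSGK))) inf_le_right)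
      rw [hf, hl, he, List.prod_cons]; ring
    · intro g hg
      rcases List.mem_cons.1 hg with rfl | hg
      · exact ⟨⟨_, hf.trans (mul_comm _ _)⟩, q, hq, hqK, hcong⟩
      · exact ⟨(hlf g hg).1.trans (card_dvd_of_le hCN), (hlf g hg).2⟩

/-- The admissible factors. -/
def Good (G : Type*) [Group G] (m f : ℕ) : Prop :=
  (∃ q e : ℕ, q.Prime ∧ f = q ^ e) ∧ (∃ K L : Subgroup G, K.Normal ∧ L.Normal ∧ K < L ∧
    (∀ M : Subgroup G, M.Normal → K ≤ M → M ≤ L → M = K ∨ M = L) ∧ f ∣ K.relIndex L) ∧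
    (∃ q : ℕ, q.Prime ∧ q ∣ m ∧ f ≡ 1 [MOD q])

theorem good_lift {G : Type*} [Group G] (N : Subgroup G) [N.Normal] {m m' f : ℕ} (hm : m' ∣ m)
    (h : Good (G ⧸ N) m' f) : Good G m f := by
  obtain ⟨h1, ⟨K, L, hK, hL, hKL, hbetw, hd⟩, q, hq, hqm, hf⟩ := h
  have hs := QuotientGroup.mk'_surjective N
  refine ⟨h1, ⟨K.comap (QuotientGroup.mk' N), L.comap (QuotientGroup.mk' N), hK.comap _, hL.comap _,
    (comap_lt_comap_of_surjective hs).2 hKL, fun M hM hKM hML => ?_, ?_⟩, q, hq, hqm.trans hm, hf⟩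
  · have hNM : N ≤ M := le_trans (fun x hx => by
      rw [mem_comap, show QuotientGroup.mk' N x = 1 from (QuotientGroup.eq_one_iff x).2 hx]
      exact one_mem _) hKM
    have hMe : (M.map (QuotientGroup.mk' N)).comap (QuotientGroup.mk' N) = M :=
      comap_map_eq_self (by rwa [QuotientGroup.ker_mk'])
    rcases hbetw _ (hM.map _ hs) (by rw [← map_comap_eq_self_of_surjective hs K]; exact map_mono hKM)
      (map_le_iff_le_comap.2 hML) with h' | h'
    · exact Or.inl (by rw [← hMe, h'])
    · exact Or.inr (by rw [← hMe, h'])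
  · rwa [relIndex_comap, map_comap_eq_self_of_surjective hs]

/-- The index of the normalizer of a Hall subgroup. -/
theorem index_factor {G : Type u} [Group G] [Finite G] [Group.IsSolvable G] {m n : ℕ} (hG : Nat.card G = m * n)
    (hmn : m.Coprime n) {H : Subgroup G} (hH : Nat.card H = m) :
    ∃ l : List ℕ, (normalizer (H : Set G)).index = l.prod ∧ ∀ f ∈ l, Good G m f := by
  induction hk : Nat.card G using Nat.strongRecOn generalizing G m n with
  | ind k ih =>
    subst hk
    rcases subsingleton_or_nontrivial G with hs | hs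
    · exact ⟨[], by rw [List.prod_nil, Subsingleton.elim (normalizer (H : Set G)) ⊤, index_top],
        fun f hf => absurd hf List.not_mem_nil⟩
    obtain ⟨N, hNn, hN, -, hmin⟩ := exists_minimal_normal_le (N := (⊤ : Subgroup G)) top_ne_bot
    haveI := hNn
    obtain ⟨hNc, p, hp, hNp⟩ := minimal_normal_solvable hN hmin
    haveI := Fact.mk hp
    have hNP : IsPGroup p N := fun x => ⟨1, by rw [pow_one]; exact Subtype.ext (hNp x x.2)⟩
    obtain ⟨j, hj⟩ := hNP.exists_card_eq
    set π := QuotientGroup.mk' N with hπ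
    have hsurj := QuotientGroup.mk'_surjective N
    have hcomap : (H.map π).comap π = H ⊔ N := by rw [comap_map_eq, QuotientGroup.ker_mk']
    have hLc : Nat.card ↥(H ⊔ N) = Nat.card N * Nat.card (H.map π) := by
      rw [card_eq_card_mul_card_map_mk' N (le_sup_right : N ≤ H ⊔ N)]
      congr 2
      rw [Subgroup.map_sup, (Subgroup.map_eq_bot_iff N).2 (by rw [QuotientGroup.ker_mk']), sup_bot_eq]
    have hq := card_eq_card_quotient_mul_card_subgroup N
    have hNL : comap π (normalizer ((H.map π : Subgroup (G ⧸ N)) : Set (G ⧸ N))) =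
        normalizer ((H ⊔ N : Subgroup G) : Set G) := by
      rw [comap_normalizer_eq_of_surjective _ hsurj, hcomap]
    by_cases hpn : p ∣ n
    · have hNm : (Nat.card N).Coprime m := by
        rw [hj]
        exact Nat.Coprime.pow_left _ (hp.coprime_iff_not_dvd.2 fun h =>
          hp.ne_one (Nat.Coprime.eq_one_of_dvd (hmn.coprime_dvd_left h) hpn))
      obtain ⟨n', hn'⟩ : Nat.card N ∣ n := hNm.dvd_of_dvd_mul_left (hG ▸ card_subgroup_dvd_card N)
      have hHN : H ⊓ N = ⊥ := by
        refine card_eq_one.1 (Nat.eq_one_of_dvd_coprimes hNm (card_dvd_of_le inf_le_right) ?_)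
        rw [← hH]; exact card_dvd_of_le inf_le_left
      have hmc : Nat.card (H.map π) = m := by
        have a1 := card_mul_relIndex (inf_le_left : H ⊓ N ≤ H)
        have a2 := card_mul_relIndex (le_sup_right : N ≤ H ⊔ N)
        rw [relIndex_sup_right] at a2
        rw [hHN, card_bot, one_mul, ← hHN, inf_comm, inf_relIndex_right, hH] at a1
        rw [a1, hLc] at a2
        exact (Nat.eq_of_mul_eq_mul_left Nat.card_pos a2).symm
      have hGq : Nat.card (G ⧸ N) = m * n' := by
        refine Nat.eq_of_mul_eq_mul_right (Nat.card_pos (α := N)) ?_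
        rw [← hq, hG, hn']; ring
      obtain ⟨l, hl, hlg⟩ := ih _ (card_quotient_lt hN) (G := G ⧸ N) hGq
        (hmn.coprime_dvd_right ⟨Nat.card N, hn'.trans (mul_comm _ _)⟩) hmc rfl
      obtain ⟨l', hl', hlf'⟩ := fixed_index_factor H inferInstance N
        (fun h _ x hx => hNn.conj_mem x hx h) (by rw [hH]; exact hNm)
      have hle : normalizer (H : Set G) ≤ normalizer ((H ⊔ N : Subgroup G) : Set G) := by
        intro g hg
        rw [← conjBy_eq_self_iff] at hg ⊢
        rw [conjBy, Subgroup.map_sup]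
        exact congrArg₂ (· ⊔ ·) hg (conjBy_eq_self_iff.2 (by rw [normalizer_eq_top]; trivial))
      have hfr : normalizer ((H ⊔ N : Subgroup G) : Set G) = normalizer (H : Set G) ⊔ N := by
        refine le_antisymm (fun g hg => ?_) (sup_le hle (le_sup_right.trans le_normalizer))
        have hgL : conjBy g H ≤ H ⊔ N := (map_mono le_sup_left).trans (conjBy_eq_self_iff.2 hg).le
        have hHL : H ≤ H ⊔ N := le_sup_left
        have hcL : Nat.card ↥(H ⊔ N) = m * Nat.card N := by rw [hLc, hmc, mul_comm]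
        obtain ⟨x, hx⟩ := hall_conj (G := ↥(H ⊔ N)) hcL hNm.symm (H := (conjBy g H).subgroupOf (H ⊔ N))
          (K := H.subgroupOf (H ⊔ N))
          (by rw [Nat.card_congr (subgroupOfEquivOfLe hgL).toEquiv, card_conjBy, hH])
          (by rw [Nat.card_congr (subgroupOfEquivOfLe hHL).toEquiv, hH])
        have h2 := congrArg (Subgroup.map (H ⊔ N).subtype) hx
        rw [conjBy_map, map_subgroupOf_eq_of_le hgL, map_subgroupOf_eq_of_le hHL, conjBy_conjBy,
          conjBy_eq_self_iff] at h2
        have hxm : (x : G) ∈ normalizer (H : Set G) ⊔ N :=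
          sup_le_sup_right (le_normalizer) N x.2
        have := mul_mem (inv_mem hxm) (mem_sup_left (T := N) h2)
        simpa using this
      have hNN : normalizer (H : Set G) ⊓ N = N ⊓ centralizer (H : Set G) := by
        refine le_antisymm (fun x hx => ⟨hx.2, mem_centralizer_iff.2 fun h hh => ?_⟩)
          (fun x hx => ⟨centralizer_le_normalizer _ hx.2, hx.1⟩)
        have hxN : x ∈ N := hx.2
        have h1 : x * h * x⁻¹ * h⁻¹ ∈ H ⊓ N := by
          refine Subgroup.mem_inf.2 ⟨mul_mem ((mem_normalizer_iff.1 hx.1 h).1 hh) (inv_mem hh), ?_⟩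
          rw [show x * h * x⁻¹ * h⁻¹ = x * (h * x⁻¹ * h⁻¹) by group]
          exact mul_mem hxN (hNn.conj_mem _ (inv_mem hxN) h)
        rw [hHN, mem_bot, mul_inv_eq_one, mul_inv_eq_iff_eq_mul] at h1
        exact h1.symm
      have hrel : (normalizer (H : Set G)).relIndex (normalizer ((H ⊔ N : Subgroup G) : Set G)) = l'.prod := by
        rw [hfr, relIndex_sup_eq]
        have a3 := card_mul_relIndex (inf_le_right : normalizer (H : Set G) ⊓ N ≤ N)
        rw [inf_relIndex_right, hNN, hl'] at a3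
        exact Nat.eq_of_mul_eq_mul_left Nat.card_pos a3
      refine ⟨l' ++ l, ?_, ?_⟩
      · rw [List.prod_append, ← hrel, ← hl, ← index_comap_of_surjective _ hsurj, hNL,
          relIndex_mul_index hle]
      · intro f hf
        rcases List.mem_append.1 hf with hf | hf
        · obtain ⟨hd, q, hq', hqH, hc⟩ := hlf' f hf
          obtain ⟨e, -, he⟩ := (Nat.dvd_prime_pow hp).1 (hj ▸ hd)
          exact ⟨⟨p, e, hp, he⟩, ⟨⊥, N, inferInstance, hNn, bot_lt_iff_ne_bot.2 hN,
            fun M hM _ hML => hmin M hM hML, by rwa [relIndex_bot_left]⟩, q, hq', hH ▸ hqH, hc⟩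
        · exact good_lift N dvd_rfl (hlg f hf)
    · have hNn' : (Nat.card N).Coprime n := by rw [hj]; exact Nat.Coprime.pow_left _ (hp.coprime_iff_not_dvd.2 hpn)
      have hLm : Nat.card ↥(H ⊔ N) ∣ m := by
        refine Nat.Coprime.dvd_of_dvd_mul_right ?_ (hG ▸ card_subgroup_dvd_card (H ⊔ N))
        rw [hLc]
        refine Nat.Coprime.mul_left hNn' ((hH.symm ▸ hmn : (Nat.card H).Coprime n).coprime_dvd_left ?_)
        exact Subgroup.card_map_dvd H π
      have hm0 : 0 < m := hH ▸ Nat.card_pos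
      have hLH : H ⊔ N = H :=
        (eq_of_le_of_card_ge le_sup_left (by rw [hH]; exact Nat.le_of_dvd hm0 hLm)).symm
      have hme : m = Nat.card N * Nat.card (H.map π) := by
        have h1 := hLc
        rw [hLH, hH] at h1
        exact h1
      have hGq : Nat.card (G ⧸ N) = Nat.card (H.map π) * n := by
        refine Nat.eq_of_mul_eq_mul_right (Nat.card_pos (α := N)) ?_
        rw [← hq, hG, hme]; ring
      have hdvd : Nat.card (H.map π) ∣ m := ⟨Nat.card N, hme.trans (mul_comm _ _)⟩
      obtain ⟨l, hl, hlg⟩ := ih _ (card_quotient_lt hN) (G := G ⧸ N) hGq (hmn.coprime_dvd_left hdvd) rfl rfl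
      refine ⟨l, ?_, fun f hf => good_lift N hdvd (hlg f hf)⟩
      rw [← hl, ← index_comap_of_surjective _ hsurj, hNL, hLH]

/-- Let `G` be a finite solvable group of order `mn` with `gcd(m, n) = 1`. Then the number of subgroups of order `m` is a product of natural numbers each of which is a power of a prime, divides the order of some chief factor of `G` (a quotient `L/K` of normal subgroups `K < L` of `G` with no normal subgroup of `G` strictly between them), and is congruent to `1` modulo some prime divisor of `m`. -/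
theorem result {G : Type*} [Group G] [Finite G] [Group.IsSolvable G] (m n : ℕ) (hG : Nat.card G = m * n) (hmn : Nat.Coprime m n) : ∃ (k : ℕ) (f : Fin k → ℕ), Nat.card {H : Subgroup G // Nat.card H = m} = ∏ i, f i ∧ ∀ i, (∃ q e : ℕ, q.Prime ∧ f i = q ^ e) ∧ (∃ K L : Subgroup G, K.Normal ∧ L.Normal ∧ K < L ∧ (∀ M : Subgroup G, M.Normal → K ≤ M → M ≤ L → M = K ∨ M = L) ∧ f i ∣ K.relIndex L) ∧ (∃ q : ℕ, q.Prime ∧ q ∣ m ∧ f i ≡ 1 [MOD q]) := by
  obtain ⟨H, hH⟩ := exists_hall hG hmn
  obtain ⟨l, hl, hlg⟩ := index_factor hG hmn hH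
  refine ⟨l.length, l.get, ?_, fun i => hlg _ (List.get_mem _ _)⟩
  rw [count_eq hG hmn hH, hl, ← List.prod_ofFn, List.ofFn_get]

end Cfsg.Agent.S4214
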