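import Cfsg.Statements.S4217
import Cfsg.Agent.Lib.Coprime.Gaschutz
-- import your own Cfsg.Agent.* helpers here

set_option autoImplicit false
open Cfsg

namespace Cfsg.Agent.S4217

open Subgroup

variable {G : Type*} [Group G]

private def powKer (A : Subgroup G) [IsMulCommutative A] (n : ℕ) : Subgroup G where
  carrier := {a | a ∈ A ∧ a ^ n = 1}
  one_mem' := ⟨one_mem A, one_pow n⟩
  mul_mem' := fun {a b} ha hb => ⟨mul_mem ha.1 hb.1, by
    rw [Commute.mul_pow (congrArg Subtype.val (mul_comm' (⟨a, ha.1⟩ : A) ⟨b, hb.1⟩)), ha.2, hb.2,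
      one_mul]⟩
  inv_mem' := fun {a} ha => ⟨inv_mem ha.1, by rw [inv_pow, ha.2, inv_one]⟩

private theorem local_complement [Finite G] (A : Subgroup G) [A.Normal] [IsMulCommutative A] {p : ℕ}
    [Fact p.Prime] (S : Sylow p (G ⧸ A)) (K : Subgroup G) (h1 : K ⊓ A = ⊥)
    (h2 : K ⊔ A = (S : Subgroup (G ⧸ A)).comap (QuotientGroup.mk' A)) :
    ∃ H : Subgroup G, H ⊓ A ≤ powKer A (ordCompl[p] (Nat.card A)) ∧
      H.index ∣ ordProj[p] (Nat.card A) := by
  set m := ordCompl[p] (Nat.card A) with hm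
  set A' := powKer A m with hA'
  have hA'A : A' ≤ A := fun a ha => ha.1
  haveI hn : A'.Normal := ⟨fun a ha g => ⟨‹A.Normal›.conj_mem a ha.1 g, by
    rw [conj_pow, ha.2, mul_one, mul_inv_cancel]⟩⟩
  let π := QuotientGroup.mk' A'
  have hπ : Function.Surjective π := QuotientGroup.mk'_surjective A'
  haveI hKn : (A.map π).Normal := ‹A.Normal›.map π hπ
  haveI : IsMulCommutative (A.map π) := map_isMulCommutative _ _
  set U := (S : Subgroup (G ⧸ A)).comap (QuotientGroup.mk' A) with hU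
  have hD : CfsgLib.Coprime.GzData (A.map π) (U.map π) (K.map π) := by
    refine ⟨map_mono (h2 ▸ le_sup_left), ?_, by rw [← Subgroup.map_sup, sup_comm, h2]⟩
    rw [eq_bot_iff]
    rintro _ ⟨⟨k, hk, rfl⟩, a, ha, hka⟩
    rw [mem_bot]
    have h3 : a⁻¹ * k ∈ A' := QuotientGroup.eq.1 hka
    have h4 : k ∈ A := by simpa using mul_mem ha (hA'A h3)
    have : k = 1 := mem_bot.1 (h1 ▸ mem_inf.2 ⟨hk, h4⟩)
    rw [this, map_one]
  have hA'U : A' ≤ U := hA'A.trans (le_sup_right.trans h2.le)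
  have hUidx : (U.map π).index = (S : Subgroup (G ⧸ A)).index := by
    rw [← index_comap_of_surjective (U.map π) hπ, comap_map_eq, QuotientGroup.ker_mk',
      sup_eq_left.2 hA'U, hU, index_comap_of_surjective _ (QuotientGroup.mk'_surjective A)]
  have hp : p.Prime := Fact.out
  have hpA : IsPGroup p (A.map π) := by
    rintro ⟨_, a, ha, rfl⟩
    refine ⟨(Nat.card A).factorization p, Subtype.ext ?_⟩
    show π a ^ _ = 1
    rw [← map_pow, ← MonoidHom.mem_ker, QuotientGroup.ker_mk']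
    refine ⟨pow_mem ha _, ?_⟩
    rw [← pow_mul, hm, Nat.ordProj_mul_ordCompl_eq_self]
    exact orderOf_dvd_iff_pow_eq_one.1 (orderOf_dvd_natCard A ha)
  obtain ⟨j, hj⟩ := IsPGroup.iff_card.1 hpA
  have hcop : (Nat.card (A.map π)).Coprime (U.map π).index := by
    rw [hj, hUidx]
    exact ((hp.coprime_iff_not_dvd.2 S.not_dvd_index).pow_left j)
  obtain ⟨H, hH⟩ := CfsgLib.Coprime.gaschutz_exists hD hcop
  refine ⟨H.comap π, ?_, ?_⟩
  · rintro x ⟨hx, hxA⟩
    have h3 : π x ∈ A.map π ⊓ H := mem_inf.2 ⟨mem_map_of_mem _ hxA, hx⟩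
    rw [hH.disjoint.eq_bot, mem_bot, ← MonoidHom.mem_ker, QuotientGroup.ker_mk'] at h3
    exact h3
  · rw [index_comap_of_surjective _ hπ, hH.index_eq_card, hj]
    refine Nat.pow_dvd_pow p ?_
    have : p ^ j ∣ Nat.card A := hj ▸ Subgroup.card_map_dvd _ π
    exact (hp.pow_dvd_iff_le_factorization Nat.card_pos.ne').1 this

/-- Let `A` be an abelian normal subgroup of the finite group `G`. Then `A` has a complement in `G` if and only if, for every prime `p` dividing the index of `A`, there are a Sylow `p`-subgroup `S` of `G/A` and a subgroup `K` of `G` with `K ∩ A = 1` and `KA` equal to the preimage of `S` (that is, `A` has a complement in the preimage of a Sylow `p`-subgroup of `G/A`). -/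
theorem result {G : Type*} [Group G] [Finite G] (A : Subgroup G) [A.Normal] (hA : IsMulCommutative A) : (∃ K : Subgroup G, K.IsComplement' A) ↔ ∀ p : ℕ, p.Prime → p ∣ A.index → ∃ (S : Sylow p (G ⧸ A)) (K : Subgroup G), K ⊓ A = ⊥ ∧ K ⊔ A = (S : Subgroup (G ⧸ A)).comap (QuotientGroup.mk' A) := by
  classical
  haveI := hA
  constructor
  · rintro ⟨K, hK⟩ p hp _
    haveI := Fact.mk hp
    refine ⟨default, K ⊓ ((default : Sylow p (G ⧸ A)) : Subgroup (G ⧸ A)).comap
      (QuotientGroup.mk' A), ?_, ?_⟩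
    · rw [eq_bot_iff]
      rintro x ⟨⟨hx, -⟩, hxA⟩
      exact hK.disjoint.le_bot ⟨hx, hxA⟩
    · have hle : A ≤ ((default : Sylow p (G ⧸ A)) : Subgroup (G ⧸ A)).comap (QuotientGroup.mk' A) :=
        QuotientGroup.le_comap_mk' A _
      refine le_antisymm (sup_le inf_le_right hle) fun x hx => ?_
      have h : x ∈ K ⊔ A := by rw [hK.sup_eq_top]; trivial
      obtain ⟨k, hk, a, ha, rfl⟩ := mem_sup_of_normal_right.1 h
      exact mul_mem (mem_sup_left ⟨hk, (mul_mem_cancel_right (hle ha)).1 hx⟩) (mem_sup_right ha)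
  intro h
  set n := Nat.card A with hn
  have hex : ∀ p : {p // p ∈ n.primeFactors}, ∃ H : Subgroup G,
      H ⊓ A ≤ powKer A (ordCompl[(p : ℕ)] n) ∧ H.index ∣ ordProj[(p : ℕ)] n := by
    rintro ⟨p, hp⟩
    have hp' := Nat.prime_of_mem_primeFactors hp
    haveI := Fact.mk hp'
    by_cases hd : p ∣ A.index
    · obtain ⟨S, K, h1, h2⟩ := h p hp' hd
      exact local_complement A S K h1 h2
    · refine local_complement A (default : Sylow p (G ⧸ A)) ⊥ (bot_inf_eq _) ?_
      have hS : ((default : Sylow p (G ⧸ A)) : Subgroup (G ⧸ A)) = ⊥ := by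
        refine eq_bot_of_card_eq _ ?_
        obtain ⟨j, hj⟩ := IsPGroup.iff_card.1 (default : Sylow p (G ⧸ A)).isPGroup'
        rcases j with _ | j
        · simpa using hj
        · exact absurd ((dvd_pow_self p j.succ_ne_zero).trans
            (hj ▸ card_subgroup_dvd_card _)) hd
      rw [hS, MonoidHom.comap_bot, QuotientGroup.ker_mk', bot_sup_eq]
  choose H hH hHi using hex
  let T := ⨅ p, H p
  have hdisj : T ⊓ A = ⊥ := by
    rw [eq_bot_iff]
    rintro x ⟨hxT, hxA⟩
    rw [mem_bot, ← orderOf_eq_one_iff]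
    by_contra hne
    obtain ⟨q, hq, hqd⟩ := Nat.exists_prime_and_dvd hne
    have hqn : q ∣ n := hqd.trans (orderOf_dvd_natCard A hxA)
    have h1 := hH ⟨q, Nat.mem_primeFactors.2 ⟨hq, hqn, Nat.card_pos.ne'⟩⟩
      ⟨mem_iInf.1 hxT _, hxA⟩
    exact Nat.not_dvd_ordCompl hq Nat.card_pos.ne' (hqd.trans (orderOf_dvd_of_pow_eq_one h1.2))
  have hidx : T.index ≤ n := by
    refine (index_iInf_le H).trans ?_
    calc ∏ p, (H p).index ≤ ∏ p : {p // p ∈ n.primeFactors}, ordProj[(p : ℕ)] n :=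
          Finset.prod_le_prod' fun p _ => Nat.le_of_dvd
            (pow_pos (Nat.prime_of_mem_primeFactors p.2).pos _) (hHi p)
      _ = n := by
          rw [Finset.prod_coe_sort n.primeFactors (fun p => p ^ n.factorization p)]
          exact Nat.prod_factorization_pow_eq_self Nat.card_pos.ne'
  refine ⟨T, isComplement'_of_card_mul_and_disjoint ?_ (disjoint_iff.2 hdisj)⟩
  have h1 := T.index_mul_card
  have h2 : Nat.card T ≤ A.index := by
    have := Subgroup.card_dvd_of_injective ((QuotientGroup.mk' A).comp T.subtype) (by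
      rw [← MonoidHom.ker_eq_bot_iff, eq_bot_iff]
      intro t ht
      have : (t : G) ∈ A := (QuotientGroup.eq_one_iff _).1 ht
      exact Subtype.ext (mem_bot.1 (hdisj ▸ mem_inf.2 ⟨t.2, this⟩)))
    exact Nat.le_of_dvd (Nat.pos_of_ne_zero index_ne_zero_of_finite) this
  have h3 := A.index_mul_card
  have h4 : Nat.card G ≤ Nat.card T * n := by
    rw [← h1, mul_comm]; exact Nat.mul_le_mul le_rfl hidx
  have h5 : Nat.card T * n ≤ Nat.card G := by
    rw [← h3]; exact Nat.mul_le_mul h2 le_rfl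
  exact le_antisymm h5 h4

end Cfsg.Agent.S4217
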