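import Cfsg.Statements.S4218
import Cfsg.Agent.Lib.Fusion.PrimeCoreQuotient
import Cfsg.Agent.Lib.Coprime.Action
import Cfsg.Agent.Lib.Coprime.GeneralizedFittingQuotient
import Cfsg.Agent.Lib.Coprime.PGroupFrattini

set_option autoImplicit false
open Cfsg

namespace Cfsg.Agent.S4218

/-- Let `G` be a finite `p`-solvable group, `N₀ = O_{p'}(G)`, `P₁ = O_{p',p}(G)`, and let `F ≤ P₁` be the preimage of the Frattini subgroup of `P₁/N₀`. Then an element `g` of `G` induces the identity on `P₁/F` by conjugation (that is, `g x g⁻¹ x⁻¹ ∈ F` for all `x ∈ P₁`) if and only if `g ∈ P₁`: the group `G/P₁` acts faithfully on `P₁/F`. -/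
theorem result {G : Type*} [Group G] [Finite G] {p : ℕ} [Fact p.Prime] (hG : Cfsg.IsPSolvable p G) (g : G) : (∀ x ∈ Cfsg.pPrimePCore p G, g * x * g⁻¹ * x⁻¹ ∈ ((frattini (↥(Cfsg.pPrimePCore p G) ⧸ (Cfsg.pPrimeCore p G).subgroupOf (Cfsg.pPrimePCore p G))).comap (QuotientGroup.mk' ((Cfsg.pPrimeCore p G).subgroupOf (Cfsg.pPrimePCore p G)))).map (Cfsg.pPrimePCore p G).subtype) ↔ g ∈ Cfsg.pPrimePCore p G := by
  classical
  set K := Cfsg.pPrimeCore p G with hK
  set P₁ := Cfsg.pPrimePCore p G with hP₁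
  haveI hKn : K.Normal := by rw [hK]; infer_instance
  set π := QuotientGroup.mk' K with hπ
  set P := Cfsg.pCore p (G ⧸ K) with hP
  haveI hPn : P.Normal := CfsgLib.Coprime.pCore_normal' p
  have hPp : IsPGroup p P := CfsgLib.Coprime.pCore_isPGroup p
  have hC : Subgroup.centralizer (P : Set (G ⧸ K)) ≤ P := by
    refine CfsgLib.Block.centralizer_pCore_le_of_isPSolvable
      (CfsgLib.Fusion.isPSolvable_of_surjective π (QuotientGroup.mk'_surjective K) hG) ?_
    exact CfsgLib.Coprime.pPrimeCore_quotient_eq_bot (Fact.out : p.Prime)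
  -- the quotient of `P₁` is the `p`-core of the quotient
  let f : P₁ →* P := (π.comp P₁.subtype).codRestrict P fun x => x.2
  have hf : Function.Surjective f := fun y => by
    obtain ⟨x, hx⟩ := QuotientGroup.mk'_surjective K (y : G ⧸ K)
    exact ⟨⟨x, show π x ∈ P from hx ▸ y.2⟩, Subtype.ext hx⟩
  have hker : f.ker = K.subgroupOf P₁ := by
    ext x
    rw [MonoidHom.mem_ker, Subgroup.mem_subgroupOf, ← QuotientGroup.eq_one_iff (x : G), ← Subtype.coe_inj]
    rfl
  let e : P₁ ⧸ K.subgroupOf P₁ ≃* P :=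
    (QuotientGroup.quotientMulEquivOfEq hker.symm).trans (QuotientGroup.quotientKerEquivOfSurjective f hf)
  have hmem : ∀ y : P₁, (y : G) ∈ ((frattini (↥P₁ ⧸ K.subgroupOf P₁)).comap
      (QuotientGroup.mk' (K.subgroupOf P₁))).map P₁.subtype ↔ π y ∈ (frattini P).map P.subtype := by
    intro y
    rw [show (y : G) = P₁.subtype y from rfl, Subgroup.mem_map_iff_mem P₁.subtype_injective,
      Subgroup.mem_comap, show π (P₁.subtype y) = P.subtype (e (QuotientGroup.mk' _ y)) from rfl,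
      Subgroup.mem_map_iff_mem P.subtype_injective]
    refine ⟨fun h => CfsgLib.Coprime.map_frattini_le_of_surjective (f := e.toMonoidHom) e.surjective
      ⟨_, h, rfl⟩, fun h => ?_⟩
    have h1 := CfsgLib.Coprime.map_frattini_le_of_surjective (f := e.symm.toMonoidHom) e.symm.surjective
      ⟨_, h, rfl⟩
    rwa [MulEquiv.coe_toMonoidHom, e.symm_apply_apply] at h1
  let triv : G ⧸ K → Prop := fun a => ∀ k ∈ P, a * k * a⁻¹ * k⁻¹ ∈ (frattini P).map P.subtype
  have hiff : ∀ g : G, (∀ x ∈ P₁, g * x * g⁻¹ * x⁻¹ ∈ ((frattini (↥P₁ ⧸ K.subgroupOf P₁)).comap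
      (QuotientGroup.mk' (K.subgroupOf P₁))).map P₁.subtype) ↔ triv (π g) := by
    intro g
    have hy : ∀ x ∈ P₁, g * x * g⁻¹ * x⁻¹ ∈ P₁ := fun x hx => by
      show π (g * x * g⁻¹ * x⁻¹) ∈ P
      rw [map_mul, map_mul, map_mul, map_inv, map_inv]
      exact mul_mem (hPn.conj_mem _ hx _) (inv_mem hx)
    constructor
    · intro h k hk
      obtain ⟨x, rfl⟩ := QuotientGroup.mk'_surjective K k
      have h1 := (hmem ⟨_, hy x hk⟩).1 (h x hk)
      simp only [map_mul, map_inv] at h1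
      exact h1
    · intro h x hx
      refine (hmem ⟨_, hy x hx⟩).2 ?_
      simp only [map_mul, map_inv]
      exact h (π x) hx
  rw [hiff]
  show triv (π g) ↔ π g ∈ P
  haveI hFn : ((frattini P).map P.subtype).Normal := inferInstance
  let X : Subgroup (G ⧸ K) :=
    { carrier := {a | triv a}
      one_mem' := fun k _ => by
        rw [one_mul, inv_one, mul_one, mul_inv_cancel]; exact one_mem _
      mul_mem' := fun {a b} ha hb k hk => by
        have h1 := mul_mem (hFn.conj_mem _ (hb k hk) a) (ha k hk)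
        rwa [show a * (b * k * b⁻¹ * k⁻¹) * a⁻¹ * (a * k * a⁻¹ * k⁻¹) = a * b * k * (a * b)⁻¹ * k⁻¹ by
          group] at h1
      inv_mem' := fun {a} ha k hk => by
        have h1 := inv_mem (ha _ (hPn.conj_mem k hk a⁻¹))
        rwa [show (a * (a⁻¹ * k * a⁻¹⁻¹) * a⁻¹ * (a⁻¹ * k * a⁻¹⁻¹)⁻¹)⁻¹ = a⁻¹ * k * a⁻¹⁻¹ * k⁻¹ by
          group] at h1 }
  have hXn : X.Normal := ⟨fun a ha b k hk => by
    have h1 := hFn.conj_mem _ (ha _ (hPn.conj_mem k hk b⁻¹)) b
    rwa [show b * (a * (b⁻¹ * k * b⁻¹⁻¹) * a⁻¹ * (b⁻¹ * k * b⁻¹⁻¹)⁻¹) * b⁻¹ =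
      b * a * b⁻¹ * k * (b * a * b⁻¹)⁻¹ * k⁻¹ by group] at h1⟩
  refine ⟨fun hg => ?_, fun hg k hk => ?_⟩
  · refine CfsgLib.Coprime.le_pCore (N := X) ?_ hg
    refine IsPGroup.iff_orderOf.2 fun a => ?_
    obtain ⟨m, hm⟩ : ∃ m, m = (orderOf (a : G ⧸ K)).factorization p := ⟨_, rfl⟩
    set b := (a : G ⧸ K) ^ p ^ m with hb
    have hbco : Nat.Coprime (orderOf b) p := by
      rw [hb, hm, orderOf_pow_of_dvd (pow_ne_zero _ (Fact.out : p.Prime).ne_zero) (Nat.ordProj_dvd _ _)]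
      exact (Nat.coprime_ordCompl (Fact.out : p.Prime) (orderOf_pos _).ne').symm
    have hb1 : b = 1 := by
      have hbP : b ∈ P := by
        refine hC (CfsgLib.Coprime.le_centralizer_of_trivial_on_frattini_quotient (A := Subgroup.zpowers b)
          (K := P) ?_ ?_ ?_ (Subgroup.mem_zpowers b))
        · rw [Subgroup.normalizer_eq_top]; exact le_top
        · obtain ⟨j, hj⟩ := IsPGroup.iff_card.1 (hPp.to_subgroup (frattini P))
          rw [Nat.card_zpowers, hj]
          exact hbco.pow_right j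
        · exact fun c hc => (Subgroup.zpowers_le.2 (pow_mem a.2 _) : Subgroup.zpowers b ≤ X) hc
      obtain ⟨j, hj⟩ := IsPGroup.iff_orderOf.1 hPp ⟨b, hbP⟩
      rw [← Subgroup.orderOf_coe] at hj
      rw [← orderOf_eq_one_iff]
      exact Nat.eq_one_of_dvd_coprimes (hbco.pow_right j) dvd_rfl hj.dvd
    rw [← Subgroup.orderOf_coe]
    obtain ⟨j, -, hj⟩ := (Nat.dvd_prime_pow Fact.out).1 (orderOf_dvd_of_pow_eq_one hb1)
    exact ⟨j, hj⟩
  · have h := CfsgLib.Coprime.commutator_le_frattini hPp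
      (Subgroup.commutator_mem_commutator (Subgroup.mem_top (⟨π g, hg⟩ : P)) (Subgroup.mem_top ⟨k, hk⟩))
    exact ⟨_, h, by simp [commutatorElement_def]⟩

end Cfsg.Agent.S4218
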