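import Cfsg.Statements.S4219
import Cfsg.Agent.S3760
import Cfsg.Agent.Lib.Coprime.Core
import Mathlib.GroupTheory.GroupAction.MultipleTransitivity

set_option autoImplicit false
set_option linter.style.haveILetI false
open Cfsg

namespace Cfsg.Agent.S4219

/-- Let a finite group `G` act `t`-fold transitively on a finite set, let `H` be the stabilizer of `t` distinct points and `P` a Sylow `p`-subgroup of `H`. Then the normalizer of `P` in `G` is `t`-fold transitive on the fixed points of `P`: any `t` distinct fixed points of `P` can be carried to any other `t` distinct fixed points of `P` by an element normalizing `P`. -/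
theorem result {G : Type*} [Group G] [Finite G] {α : Type*} [Fintype α] [MulAction G α] {t : ℕ} (hG : MulAction.IsMultiplyPretransitive G α t) (x : Fin t ↪ α) {p : ℕ} [Fact p.Prime] (P : Sylow p (MulAction.stabilizer G x)) (a b : Fin t ↪ α) (ha : ∀ i, a i ∈ MulAction.fixedPoints ((P : Subgroup (MulAction.stabilizer G x)).map (MulAction.stabilizer G x).subtype) α) (hb : ∀ i, b i ∈ MulAction.fixedPoints ((P : Subgroup (MulAction.stabilizer G x)).map (MulAction.stabilizer G x).subtype) α) : ∃ g ∈ Subgroup.normalizer ((((P : Subgroup (MulAction.stabilizer G x)).map (MulAction.stabilizer G x).subtype) : Subgroup G) : Set G), g • a = b := by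
  haveI := hG
  set K := (P : Subgroup (MulAction.stabilizer G x)).map (MulAction.stabilizer G x).subtype with hK
  have hKle : K ≤ MulAction.stabilizer G x := Subgroup.map_subtype_le _
  refine (Cfsg.Agent.S3760.result (fun a b => MulAction.exists_smul_eq G a b) x K hKle).2
    (fun g hg => ?_) a b ?_ ?_
  · obtain ⟨R, hR⟩ : ∃ R : Subgroup (MulAction.stabilizer G x),
        R = (K.map (MulAut.conj g).toMonoidHom).subgroupOf (MulAction.stabilizer G x) := ⟨_, rfl⟩
    have hRp : IsPGroup p R := by
      rw [hR]
      exact ((P.isPGroup'.map _).map _).comap_of_injective _ (Subgroup.subtype_injective _)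
    obtain ⟨Q, hQ⟩ := hRp.exists_le_sylow
    obtain ⟨s, hs⟩ := MulAction.exists_smul_eq (MulAction.stabilizer G x) P Q
    refine ⟨(s : G), s.2, Subgroup.eq_of_le_of_card_ge ?_ ?_⟩
    · intro z hz
      have h1 : (⟨z, hg hz⟩ : MulAction.stabilizer G x) ∈ (Q : Subgroup _) :=
        hQ (by rw [hR]; exact hz)
      rw [← hs] at h1
      obtain ⟨w, hw, hwe⟩ := h1
      exact ⟨(w : G), ⟨w, hw, rfl⟩, congrArg Subtype.val hwe⟩
    · rw [Subgroup.card_map_of_injective (K := K) (f := (MulAut.conj (s : G)).toMonoidHom)
          (MulAut.conj (s : G)).injective,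
        Subgroup.card_map_of_injective (K := K) (f := (MulAut.conj g).toMonoidHom)
          (MulAut.conj g).injective]
  · intro k hk
    exact Function.Embedding.ext fun i => ha i ⟨k, hk⟩
  · intro k hk
    exact Function.Embedding.ext fun i => hb i ⟨k, hk⟩

end Cfsg.Agent.S4219
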