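import Cfsg.Statements.S4222
import Cfsg.Agent.Lib.Coprime.Core

set_option autoImplicit false
set_option linter.style.haveILetI false
open Cfsg

namespace Cfsg.Agent.S4222

/-- If a normal subgroup `N` of a finite group is complete (its centre is trivial and every automorphism of `N` is inner), then the group is the internal direct product of `N` and the centralizer of `N`: the centralizer is a complement to `N`. -/
theorem result {T : Type*} [Group T] [Finite T] (N : Subgroup T) [N.Normal] (hz : Subgroup.center ↥N = ⊥) (ha : Function.Surjective (MulAut.conj : ↥N →* MulAut ↥N)) : (Subgroup.centralizer (N : Set T)).IsComplement' N := by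
  refine Subgroup.isComplement'_of_disjoint_and_mul_eq_univ (disjoint_iff.2 ?_) ?_
  · refine (Subgroup.eq_bot_iff_forall _).2 fun x ⟨hx, hxN⟩ => ?_
    have h1 : (⟨x, hxN⟩ : N) ∈ Subgroup.center N := Subgroup.mem_center_iff.2 fun y =>
      Subtype.ext (Subgroup.mem_centralizer_iff.1 hx y y.2)
    rw [hz, Subgroup.mem_bot] at h1
    exact congrArg Subtype.val h1
  · refine Set.eq_univ_of_forall fun t => ?_
    obtain ⟨n, hn⟩ := ha (MulAut.conjNormal t)
    refine ⟨t * (n : T)⁻¹, Subgroup.mem_centralizer_iff.2 fun y hy => ?_, n, n.2, inv_mul_cancel_right t n⟩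
    have e : ∀ m : N, t * (m : T) * t⁻¹ = (n : T) * (m : T) * (n : T)⁻¹ := fun m => by
      have := congrArg (fun f : MulAut N => ((f m : N) : T)) hn
      simpa [MulAut.conjNormal_apply, MulAut.conj_apply] using this.symm
    have h1 := e ⟨(n : T)⁻¹ * y * n, N.mul_mem (N.mul_mem (N.inv_mem n.2) hy) n.2⟩
    simp only at h1
    calc y * (t * (n : T)⁻¹) = ((n : T) * ((n : T)⁻¹ * y * n) * (n : T)⁻¹) * (t * (n : T)⁻¹) := by group
      _ = (t * ((n : T)⁻¹ * y * n) * t⁻¹) * (t * (n : T)⁻¹) := by rw [h1]
      _ = t * (n : T)⁻¹ * y := by group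

end Cfsg.Agent.S4222
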