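import Cfsg.Statements.S4223
-- import your own Cfsg.Agent.* helpers here
import Mathlib

set_option autoImplicit false
open Cfsg

namespace Cfsg.Agent.S4223

open Subgroup

universe u v w

/-! ### Cancellation by counting homomorphisms -/

section Cancel

instance finiteHom {X : Type u} {A : Type v} [Group X] [Group A] [Finite X] [Finite A] :
    Finite (X →* A) := Finite.of_injective (fun f => (f : X → A)) DFunLike.coe_injective

/-- Homomorphisms with a given kernel correspond to injective maps on the quotient. -/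
theorem card_ker_eq {X : Type u} {A : Type v} [Group X] [Group A] (N : Subgroup X) [N.Normal] :
    Nat.card {f : X →* A // f.ker = N} =
      Nat.card {g : X ⧸ N →* A // Function.Injective g} := by
  refine Nat.card_congr
    { toFun := fun f => ⟨QuotientGroup.lift N f.1 f.2.ge, ?_⟩
      invFun := fun g => ⟨g.1.comp (QuotientGroup.mk' N), ?_⟩
      left_inv := fun f => Subtype.ext (MonoidHom.ext fun x => rfl)
      right_inv := fun g => Subtype.ext ?_ }
  · rw [← MonoidHom.ker_eq_bot_iff, eq_bot_iff]
    intro y hy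
    obtain ⟨x, rfl⟩ := QuotientGroup.mk'_surjective N y
    rw [MonoidHom.mem_ker, QuotientGroup.mk'_apply, QuotientGroup.lift_mk] at hy
    rw [Subgroup.mem_bot, QuotientGroup.mk'_apply, QuotientGroup.eq_one_iff]
    exact f.2 ▸ hy
  · ext x
    rw [MonoidHom.mem_ker, MonoidHom.comp_apply, map_eq_one_iff _ g.2, QuotientGroup.mk'_apply,
      QuotientGroup.eq_one_iff]
  · ext x
    rfl

theorem card_inj_eq : ∀ n : ℕ, ∀ (X : Type u) [Group X] [Finite X], Nat.card X = n →
    ∀ (A : Type v) (B : Type w) [Group A] [Group B] [Finite A] [Finite B],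
      (∀ (Y : Type u) [Group Y] [Finite Y], Nat.card (Y →* A) = Nat.card (Y →* B)) →
      Nat.card {g : X →* A // Function.Injective g} =
        Nat.card {g : X →* B // Function.Injective g} := by
  intro n
  induction n using Nat.strong_induction_on with
  | _ n ih =>
    intro X _ _ hn A B _ _ _ _ h
    classical
    letI : Fintype (X →* A) := Fintype.ofFinite _
    letI : Fintype (X →* B) := Fintype.ofFinite _
    letI : Fintype (Subgroup X) := Fintype.ofFinite _
    have e1 : Nat.card (X →* A) = ∑ N : Subgroup X, Nat.card {f : X →* A // f.ker = N} := by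
      rw [← Nat.card_sigma]
      exact Nat.card_congr (Equiv.sigmaFiberEquiv fun f : X →* A => f.ker).symm
    have e2 : Nat.card (X →* B) = ∑ N : Subgroup X, Nat.card {f : X →* B // f.ker = N} := by
      rw [← Nat.card_sigma]
      exact Nat.card_congr (Equiv.sigmaFiberEquiv fun f : X →* B => f.ker).symm
    have hne : ∀ N : Subgroup X, N ≠ ⊥ →
        Nat.card {f : X →* A // f.ker = N} = Nat.card {f : X →* B // f.ker = N} := by
      intro N hN
      by_cases hNn : N.Normal
      · haveI := hNn
        rw [card_ker_eq, card_ker_eq]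
        refine ih _ ?_ (X ⧸ N) rfl A B h
        rw [← hn, ← Subgroup.index_eq_card, ← N.card_mul_index]
        refine lt_mul_of_one_lt_left ?_ ?_
        · exact Nat.pos_of_ne_zero Subgroup.index_ne_zero_of_finite
        · haveI : Nontrivial N := (Subgroup.nontrivial_iff_ne_bot N).2 hN
          exact Finite.one_lt_card
      · haveI : IsEmpty {f : X →* A // f.ker = N} := ⟨fun f => hNn (f.2 ▸ f.1.normal_ker)⟩
        haveI : IsEmpty {f : X →* B // f.ker = N} := ⟨fun f => hNn (f.2 ▸ f.1.normal_ker)⟩
        rw [Nat.card_of_isEmpty, Nat.card_of_isEmpty]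
    have hsum := h X
    rw [e1, e2, ← Finset.add_sum_erase _ _ (Finset.mem_univ (⊥ : Subgroup X)),
      ← Finset.add_sum_erase _ _ (Finset.mem_univ (⊥ : Subgroup X)),
      Finset.sum_congr rfl fun N hN => hne N (Finset.ne_of_mem_erase hN)] at hsum
    have hA : Nat.card {g : X →* A // Function.Injective g} =
        Nat.card {f : X →* A // f.ker = ⊥} :=
      Nat.card_congr (Equiv.subtypeEquivRight fun f => (MonoidHom.ker_eq_bot_iff f).symm)
    have hB : Nat.card {g : X →* B // Function.Injective g} =
        Nat.card {f : X →* B // f.ker = ⊥} :=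
      Nat.card_congr (Equiv.subtypeEquivRight fun f => (MonoidHom.ker_eq_bot_iff f).symm)
    omega

/-- Finite groups cancel in direct products. -/
theorem nonempty_mulEquiv_cancel {A : Type u} {B : Type v} {C : Type u} {D : Type v}
    [Group A] [Group B] [Group C] [Group D] [Finite A] [Finite B] [Finite C] [Finite D]
    (e : A × C ≃* B × D) (c : A ≃* B) : Nonempty (C ≃* D) := by
  have hcard : Nat.card C = Nat.card D := by
    have h1 := Nat.card_congr e.toEquiv
    rw [Nat.card_prod, Nat.card_prod, Nat.card_congr c.toEquiv] at h1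
    exact Nat.eq_of_mul_eq_mul_left Nat.card_pos h1
  have hom : ∀ (Y : Type u) [Group Y] [Finite Y], Nat.card (Y →* C) = Nat.card (Y →* D) := by
    intro Y _ _
    let pr {A' : Type u} {C' : Type u} [Group A'] [Group C'] :
        (Y →* A' × C') ≃ (Y →* A') × (Y →* C') :=
      { toFun := fun f => ((MonoidHom.fst _ _).comp f, (MonoidHom.snd _ _).comp f)
        invFun := fun f => f.1.prod f.2
        left_inv := fun f => MonoidHom.ext fun x => rfl
        right_inv := fun f => rfl }
    let pr' {A' : Type v} {C' : Type v} [Group A'] [Group C'] :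
        (Y →* A' × C') ≃ (Y →* A') × (Y →* C') :=
      { toFun := fun f => ((MonoidHom.fst _ _).comp f, (MonoidHom.snd _ _).comp f)
        invFun := fun f => f.1.prod f.2
        left_inv := fun f => MonoidHom.ext fun x => rfl
        right_inv := fun f => rfl }
    let push {P : Type u} {Q : Type v} [Group P] [Group Q] (i : P ≃* Q) : (Y →* P) ≃ (Y →* Q) :=
      { toFun := fun f => i.toMonoidHom.comp f
        invFun := fun f => i.symm.toMonoidHom.comp f
        left_inv := fun f => MonoidHom.ext fun x => i.symm_apply_apply _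
        right_inv := fun f => MonoidHom.ext fun x => i.apply_symm_apply _ }
    have h1 := Nat.card_congr ((pr.symm.trans (push e)).trans pr')
    rw [Nat.card_prod, Nat.card_prod, Nat.card_congr (push c)] at h1
    haveI : Nonempty (Y →* B) := ⟨1⟩
    exact Nat.eq_of_mul_eq_mul_left Nat.card_pos h1
  have h := card_inj_eq (Nat.card C) C rfl C D hom
  have hne : 0 < Nat.card {g : C →* C // Function.Injective g} :=
    Finite.card_pos_iff.2 ⟨⟨MonoidHom.id C, Function.injective_id⟩⟩
  rw [h] at hne
  obtain ⟨⟨g, hg⟩⟩ := (Finite.card_pos_iff.1 hne)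
  exact ⟨MulEquiv.ofBijective g ((Nat.bijective_iff_injective_and_card _).2 ⟨hg, hcard⟩)⟩

end Cancel

/-! ### The exchange of one indecomposable factor -/

/-- Indecomposability, as in the statement. -/
def Indec (A : Type u) [Group A] : Prop :=
  Nontrivial A ∧ ∀ H K : Subgroup A, H.Normal → K.Normal → H ⊓ K = ⊥ → H ⊔ K = ⊤ →
    H = ⊥ ∨ K = ⊥

/-- An endomorphism commuting with all inner automorphisms. -/
def IsNormalEndo {A : Type u} [Group A] (f : A →* A) : Prop :=
  ∀ x y : A, f (x * y * x⁻¹) = x * f y * x⁻¹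

theorem fitting {A : Type u} [Group A] [Finite A] (hA : Indec A) {f : A →* A}
    (hf : IsNormalEndo f) : Function.Injective f ∨ ∃ k : ℕ, ∀ a, f^[k] a = 1 := by
  obtain ⟨k, hk, hidem⟩ : ∃ k : ℕ, 0 < k ∧ ∀ a, f^[k] (f^[k] a) = f^[k] a := by
    obtain ⟨i, j, hij, he⟩ := Finite.exists_ne_map_eq_of_infinite fun i : ℕ => (f^[i] : A → A)
    wlog hlt : i < j generalizing i j
    · exact this j i hij.symm he.symm (by omega)
    have hper : ∀ m, i ≤ m → f^[m + (j - i)] = f^[m] := by
      intro m hm
      rw [show m + (j - i) = (m - i) + j by omega, Function.iterate_add, ← he,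
        ← Function.iterate_add, Nat.sub_add_cancel hm]
    have hmul : ∀ t m, i ≤ m → f^[m + t * (j - i)] = f^[m] := by
      intro t
      induction t with
      | zero => intro m _; simp
      | succ t iht =>
        intro m hm
        rw [show m + (t + 1) * (j - i) = (m + t * (j - i)) + (j - i) by ring,
          hper _ (by omega), iht m hm]
    refine ⟨(i + 1) * (j - i), Nat.mul_pos (by omega) (by omega), fun a => ?_⟩
    have hle : i ≤ (i + 1) * (j - i) :=
      le_trans (by omega) (Nat.le_mul_of_pos_right (i + 1) (by omega))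
    rw [← Function.iterate_add_apply, hmul _ _ hle]
  have hhom : ∀ n : ℕ, ∃ g : A →* A, (∀ a, g a = f^[n] a) ∧ IsNormalEndo g := by
    intro n
    induction n with
    | zero => exact ⟨MonoidHom.id A, fun a => rfl, fun x y => rfl⟩
    | succ n ihn =>
      obtain ⟨g, hg, hgn⟩ := ihn
      refine ⟨f.comp g, fun a => ?_, fun x y => ?_⟩
      · rw [MonoidHom.comp_apply, hg, Function.iterate_succ_apply']
      · rw [MonoidHom.comp_apply, hgn, hf, MonoidHom.comp_apply]
  obtain ⟨g, hg, hgn⟩ := hhom k
  have hgg : ∀ a, g (g a) = g a := fun a => by rw [hg, hg, hidem]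
  have hrange : g.range.Normal := ⟨by
    rintro _ ⟨y, rfl⟩ x
    exact ⟨x * y * x⁻¹, hgn x y⟩⟩
  rcases hA.2 g.ker g.range g.normal_ker hrange (eq_bot_iff.2 (by
      rintro _ ⟨hy, ⟨y, rfl⟩⟩
      replace hy := MonoidHom.mem_ker.1 hy
      rw [hgg] at hy
      rw [Subgroup.mem_bot, hy]))
    (eq_top_iff.2 fun a _ => by
      rw [show a = a * (g a)⁻¹ * g a by group]
      exact Subgroup.mul_mem_sup (MonoidHom.mem_ker.2 (by simp [hgg])) ⟨a, rfl⟩) with h | h
  · refine Or.inl fun a b hab => (MonoidHom.ker_eq_bot_iff g).1 h ?_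
    rw [hg, hg, show k = (k - 1) + 1 by omega, Function.iterate_succ_apply,
      Function.iterate_succ_apply, hab]
  · refine Or.inr ⟨k, fun a => ?_⟩
    have : g a ∈ g.range := ⟨a, rfl⟩
    rw [h, Subgroup.mem_bot, hg] at this
    exact this

/-- A factor of one decomposition is isomorphic to a factor of the other one. -/
theorem exists_factor {A : Type u} {C : Type u} {ι : Type} [Finite ι] {B : ι → Type v}
    [Group A] [Group C] [Finite A] [∀ j, Group (B j)] (hA : Indec A) (hB : ∀ j, Indec (B j))
    (e : A × C ≃* ((j : ι) → B j)) : ∃ j, Nonempty (A ≃* B j) := by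
  classical
  letI : Fintype ι := Fintype.ofFinite ι
  let keep (s : Finset ι) : ((j : ι) → B j) →* ((j : ι) → B j) :=
    { toFun := fun f j => if j ∈ s then f j else 1
      map_one' := funext fun j => by simp
      map_mul' := fun f g => funext fun j => by
        by_cases h : j ∈ s <;> simp [h] }
  let F (s : Finset ι) : A →* A :=
    (MonoidHom.fst A C).comp (e.symm.toMonoidHom.comp ((keep s).comp
      (e.toMonoidHom.comp (MonoidHom.inl A C))))
  have hF : ∀ s a, F s a = (e.symm (keep s (e (a, 1)))).1 := fun s a => rfl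
  have hkeep : ∀ (s : Finset ι) (x y : (j : ι) → B j),
      keep s (x * y * x⁻¹) = x * keep s y * x⁻¹ := fun s x y => funext fun j => by
    show (if j ∈ s then (x * y * x⁻¹) j else 1) = x j * (if j ∈ s then y j else 1) * (x j)⁻¹
    by_cases h : j ∈ s <;> simp [h]
  have hFn : ∀ s, IsNormalEndo (F s) := fun s x y => by
    rw [hF, hF]
    have h1 : ((x * y * x⁻¹, 1) : A × C) = (x, 1) * (y, 1) * (x, 1)⁻¹ := by ext <;> simp
    rw [h1, map_mul e, map_mul e, map_inv e, hkeep, map_mul e.symm, map_mul e.symm, map_inv e.symm,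
      e.symm_apply_apply]
    rfl
  have hins : ∀ (j : ι) (s : Finset ι), j ∉ s → ∀ a, F (insert j s) a = F {j} a * F s a := by
    intro j s hj a
    rw [hF, hF, hF, show keep (insert j s) (e (a, 1)) = keep {j} (e (a, 1)) * keep s (e (a, 1))
      from funext fun i => ?_, map_mul]
    · rfl
    show (if i ∈ insert j s then e (a, 1) i else 1) =
      (if i ∈ ({j} : Finset ι) then e (a, 1) i else 1) * (if i ∈ s then e (a, 1) i else 1)
    by_cases hij : i = j
    · subst hij; simp [hj]
    · simp [hij]
  -- some single projection is injective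
  have key : ∀ s : Finset ι, Function.Injective (F s) → ∃ j, Function.Injective (F {j}) := by
    intro s
    induction s using Finset.induction_on with
    | empty =>
      intro h
      exfalso
      haveI := hA.1
      obtain ⟨a, ha⟩ := exists_ne (1 : A)
      refine ha (h ?_)
      rw [hF, hF]
      have : ∀ x : (j : ι) → B j, keep ∅ x = 1 := fun x => funext fun i => by simp [keep]
      rw [this, this]
    | @insert j s hj ihs =>
      intro h
      let H : A ≃* A := MulEquiv.ofBijective (F (insert j s))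
        ((Nat.bijective_iff_injective_and_card _).2 ⟨h, rfl⟩)
      have hHs : ∀ x y, H.symm (x * y * x⁻¹) = x * H.symm y * x⁻¹ := fun x y => H.injective (by
        rw [H.apply_symm_apply]
        show x * y * x⁻¹ = F (insert j s) (x * H.symm y * x⁻¹)
        rw [hFn]
        show x * y * x⁻¹ = x * H (H.symm y) * x⁻¹
        rw [H.apply_symm_apply])
      have hn : IsNormalEndo (H.symm.toMonoidHom.comp (F {j})) := fun x y => by
        show H.symm (F {j} (x * y * x⁻¹)) = x * H.symm (F {j} y) * x⁻¹
        rw [hFn, hHs]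
      rcases fitting hA hn with hi | ⟨k, hk⟩
      · exact ⟨j, fun a b hab => hi (congrArg H.symm hab)⟩
      · refine ihs fun a b hab => ?_
        have h1 : F s (a * b⁻¹) = 1 := by rw [map_mul, map_inv, hab, mul_inv_cancel]
        have hfix : H.symm.toMonoidHom.comp (F {j}) (a * b⁻¹) = a * b⁻¹ := by
          show H.symm (F {j} (a * b⁻¹)) = a * b⁻¹
          rw [H.symm_apply_eq]
          show F {j} (a * b⁻¹) = F (insert j s) (a * b⁻¹)
          rw [hins j s hj, h1, mul_one]
        have h2 := hk (a * b⁻¹)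
        rw [Function.iterate_fixed hfix k] at h2
        exact mul_inv_eq_one.1 h2
  obtain ⟨j, hj⟩ := key Finset.univ (fun a b hab => by
    rw [hF, hF] at hab
    have : ∀ x : (j : ι) → B j, keep Finset.univ x = x := fun x => funext fun i => by simp [keep]
    rw [this, this, e.symm_apply_apply, e.symm_apply_apply] at hab
    exact hab)
  let φ : A →* B j := (Pi.evalMonoidHom B j).comp (e.toMonoidHom.comp (MonoidHom.inl A C))
  let ψ : B j →* A := (MonoidHom.fst A C).comp (e.symm.toMonoidHom.comp (MonoidHom.mulSingle B j))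
  have hψφ : ∀ a, ψ (φ a) = F {j} a := by
    intro a
    show (e.symm (Pi.mulSingle j (e (a, 1) j))).1 = (e.symm (keep {j} (e (a, 1)))).1
    congr 2
    funext i
    show Pi.mulSingle j (e (a, 1) j) i = if i ∈ ({j} : Finset ι) then e (a, 1) i else 1
    by_cases hij : i = j
    · subst hij; simp
    · simp [hij]
  have hsurj : Function.Surjective (F {j}) :=
    ((Nat.bijective_iff_injective_and_card _).2 ⟨hj, rfl⟩).2
  have hrange : φ.range.Normal := ⟨by
    rintro _ ⟨a, rfl⟩ b
    obtain ⟨c, hc⟩ := e.surjective (Pi.mulSingle j b)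
    refine ⟨c.1 * a * c.1⁻¹, ?_⟩
    show e (c.1 * a * c.1⁻¹, 1) j = b * e (a, 1) j * b⁻¹
    have : ((c.1 * a * c.1⁻¹, 1) : A × C) = c * (a, 1) * c⁻¹ := by ext <;> simp
    rw [this, map_mul, map_mul, map_inv, hc, Pi.mul_apply, Pi.mul_apply, Pi.inv_apply,
      Pi.mulSingle_eq_same]⟩
  rcases (hB j).2 φ.range ψ.ker hrange ψ.normal_ker (eq_bot_iff.2 (by
      rintro _ ⟨⟨a, rfl⟩, ha⟩
      replace ha := MonoidHom.mem_ker.1 ha
      rw [hψφ, ← map_one (F {j})] at ha
      rw [Subgroup.mem_bot, hj ha, map_one]))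
    (eq_top_iff.2 fun b _ => by
      obtain ⟨a, ha⟩ := hsurj (ψ b)
      rw [show b = φ a * ((φ a)⁻¹ * b) by group]
      exact Subgroup.mul_mem_sup ⟨a, rfl⟩ (MonoidHom.mem_ker.2 (by
        rw [map_mul, map_inv, hψφ, ha, inv_mul_cancel]))) with h | h
  · exfalso
    haveI := hA.1
    obtain ⟨a, ha⟩ := exists_ne (1 : A)
    have : φ a ∈ φ.range := ⟨a, rfl⟩
    rw [h, Subgroup.mem_bot] at this
    exact ha (hj (by rw [← hψφ, this, map_one, map_one]))
  · refine ⟨j, ⟨MulEquiv.ofBijective φ ⟨fun a b hab => hj (by rw [← hψφ, ← hψφ, hab]), ?_⟩⟩⟩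
    intro b
    obtain ⟨a, ha⟩ := hsurj (ψ b)
    exact ⟨a, (MonoidHom.ker_eq_bot_iff ψ).1 h (by rw [hψφ, ha])⟩

/-- Splitting off one coordinate. -/
def splitOff {n : ℕ} (B : Fin (n + 1) → Type v) [∀ j, Group (B j)] (j : Fin (n + 1)) :
    ((i : Fin (n + 1)) → B i) ≃* B j × ((k : Fin n) → B (j.succAbove k)) where
  toEquiv := (Fin.insertNthEquiv B j).symm
  map_mul' _ _ := rfl

theorem unique_decomposition : ∀ (m n : ℕ) (A : Fin m → Type u) (B : Fin n → Type v)
    [∀ i, Group (A i)] [∀ j, Group (B j)] [∀ i, Finite (A i)] [∀ j, Finite (B j)],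
    (∀ i, Indec (A i)) → (∀ j, Indec (B j)) → ((i : Fin m) → A i) ≃* ((j : Fin n) → B j) →
    ∃ σ : Fin m ≃ Fin n, ∀ i, Nonempty (A i ≃* B (σ i)) := by
  intro m
  induction m with
  | zero =>
    intro n A B _ _ _ _ _ hB e
    cases n with
    | zero => exact ⟨Equiv.refl _, fun i => i.elim0⟩
    | succ n =>
      exfalso
      haveI := (hB 0).1
      obtain ⟨b, hb⟩ := exists_ne (1 : B 0)
      apply hb
      have h1 : e.symm (Pi.mulSingle 0 b) = 1 := funext fun i => i.elim0
      rw [MulEquiv.symm_apply_eq, map_one] at h1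
      simpa using congrFun h1 0
  | succ m ih =>
    intro n A B _ _ _ _ hA hB e
    let e' := (splitOff A 0).symm.trans e
    obtain ⟨j, ⟨c⟩⟩ := exists_factor (hA 0) hB e'
    cases n with
    | zero => exact j.elim0
    | succ n =>
      obtain ⟨d⟩ := nonempty_mulEquiv_cancel (e'.trans (splitOff B j)) c
      obtain ⟨σ, hσ⟩ := ih n _ _ (fun i => hA _) (fun k => hB _) d
      let σ' : Fin (m + 1) ≃ Fin (n + 1) :=
        (finSuccEquiv' 0).trans ((Equiv.optionCongr σ).trans (finSuccEquiv' j).symm)
      refine ⟨σ', fun i => ?_⟩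
      obtain rfl | ⟨k, rfl⟩ := Fin.eq_self_or_eq_succAbove 0 i
      · rw [show σ' 0 = j by simp [σ']]
        exact ⟨c⟩
      · rw [show σ' ((0 : Fin (m + 1)).succAbove k) = j.succAbove (σ k) by
          show (finSuccEquiv' j).symm
            (Option.map σ (finSuccEquiv' 0 ((0 : Fin (m + 1)).succAbove k))) = _
          rw [finSuccEquiv'_succAbove, Option.map_some, finSuccEquiv'_symm_some]]
        exact hσ k

/-- If a finite group is isomorphic both to a direct product of `m` directly indecomposable nontrivial groups and to a direct product of `n` such groups (a group is directly indecomposable when it is not the internal direct product of two nontrivial normal subgroups), then `m = n` and the factors are isomorphic in pairs after a suitable matching. -/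
theorem result {m n : ℕ} {A : Fin m → Type*} {B : Fin n → Type*} [∀ i, Group (A i)] [∀ j, Group (B j)] [∀ i, Finite (A i)] [∀ j, Finite (B j)] (hA : ∀ i, Nontrivial (A i) ∧ ∀ H K : Subgroup (A i), H.Normal → K.Normal → H ⊓ K = ⊥ → H ⊔ K = ⊤ → H = ⊥ ∨ K = ⊥) (hB : ∀ j, Nontrivial (B j) ∧ ∀ H K : Subgroup (B j), H.Normal → K.Normal → H ⊓ K = ⊥ → H ⊔ K = ⊤ → H = ⊥ ∨ K = ⊥) (e : ((i : Fin m) → A i) ≃* ((j : Fin n) → B j)) : ∃ σ : Fin m ≃ Fin n, ∀ i, Nonempty (A i ≃* B (σ i)) := by
  exact unique_decomposition m n A B hA hB e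

end Cfsg.Agent.S4223
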