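import Cfsg.Agent.Lib.PGroup.PSolvable
import Cfsg.Agent.Lib.Coprime.Solvable
import Cfsg.Agent.Lib.Coprime.Action
import Cfsg.Agent.Lib.Coprime.PGroupFrattini
import Cfsg.Agent.Lib.Char.Burnside
-- under Cfsg/Agent/.
import Cfsg.Statements.S4227
-- import your own Cfsg.Agent.* helpers here

set_option autoImplicit false
open Cfsg

namespace Cfsg.Agent.S4227

open Subgroup in
/-- An involution whose conjugates under an element of order three form a four group acts trivially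
on an abelian normal subgroup of exponent three, in a group of exponent six. -/
private theorem core {K : Type*} [Group K] (W : Subgroup K) [W.Normal] (hab : IsMulCommutative W)
    (h3 : ∀ w ∈ W, w ^ 3 = 1) (h6 : ∀ k : K, k ^ 6 = 1) {f y : K} (hf : f * f = 1)
    (hy : y * y * y ∈ W)
    (hcomm : QuotientGroup.mk' W (y * f * y⁻¹ * f) = QuotientGroup.mk' W (f * (y * f * y⁻¹)))
    (hyy : QuotientGroup.mk' W (y * (y * f * y⁻¹) * y⁻¹) = QuotientGroup.mk' W (f * (y * f * y⁻¹))) :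
    ∀ w ∈ W, f * w * f⁻¹ = w := by
  set π := QuotientGroup.mk' W with hπ
  have hmem : ∀ {g : K}, π g = 1 ↔ g ∈ W := fun {g} => QuotientGroup.eq_one_iff g
  have hc : ∀ a ∈ W, ∀ b ∈ W, a * b = b * a := fun a ha b hb => by
    haveI := hab
    exact congrArg Subtype.val (mul_comm' (⟨a, ha⟩ : W) ⟨b, hb⟩)
  have cj : ∀ (g w : K), w ∈ W → g * w * g⁻¹ ∈ W := fun g w hw =>
    (inferInstance : W.Normal).conj_mem w hw g
  -- the action only depends on the image modulo `W`
  have act : ∀ g h : K, π g = π h → ∀ w ∈ W, g * w * g⁻¹ = h * w * h⁻¹ := by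
    intro g h e w hw
    have hm : h⁻¹ * g ∈ W := hmem.1 (by rw [map_mul, map_inv, e, inv_mul_cancel])
    calc g * w * g⁻¹ = h * ((h⁻¹ * g) * w * (h⁻¹ * g)⁻¹) * h⁻¹ := by group
      _ = h * w * h⁻¹ := by rw [hc _ hm w hw, mul_inv_cancel_right]
  have rel : ∀ g : K, g * g * g ∈ W → ∀ w ∈ W,
      w * (g * w * g⁻¹) * (g * (g * w * g⁻¹) * g⁻¹) = 1 := by
    intro g hg w hw
    have hcube : ∀ u : K, u * u * u ∈ W → u * u * u = 1 := by
      intro u hu
      have h1 := h3 _ hu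
      have h2 := h6 u
      have e2 : (u * u * u) * (u * u * u) = 1 := by
        rw [← h2]; simp only [pow_succ, pow_zero, one_mul, mul_assoc]
      rw [pow_succ, pow_succ, pow_one, e2, one_mul] at h1
      exact h1
    have hwg : w * g * (w * g) * (w * g) =
        w * (g * w * g⁻¹) * (g * (g * w * g⁻¹) * g⁻¹) * (g * g * g) := by group
    have hwgW : w * g * (w * g) * (w * g) ∈ W := by
      rw [hwg]; exact mul_mem (mul_mem (mul_mem hw (cj _ _ hw)) (cj _ _ (cj _ _ hw))) hg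
    rw [← hcube _ hwgW, hwg, hcube _ hg, mul_one]
  set f1 := y * f * y⁻¹ with hf1
  set F := π f with hF
  set F1 := π f1 with hF1
  have hFF : F * F = 1 := by rw [hF, ← map_mul, hf, map_one]
  have hF11 : F1 * F1 = 1 := by
    rw [hF1, ← map_mul, show f1 * f1 = y * (f * f) * y⁻¹ by rw [hf1]; group, hf, mul_one, mul_inv_cancel,
      map_one]
  replace hcomm : F1 * F = F * F1 := (map_mul π f1 f).symm.trans (hcomm.trans (map_mul π f f1))
  replace hyy : π (y * f1 * y⁻¹) = F * F1 := hyy.trans (map_mul π f f1)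
  set Y := π y with hY
  have hY3 : Y * Y * Y = 1 := by rw [hY, ← map_mul, ← map_mul]; exact hmem.2 hy
  have c0 : Y * F * Y⁻¹ = F1 := by rw [hF1, hf1, map_mul, map_mul, map_inv]
  have c1 : Y * F1 * Y⁻¹ = F * F1 := by rw [← hyy, map_mul, map_mul, map_inv]
  have c2 : Y * (F * F1) * Y⁻¹ = F := by
    rw [show Y * (F * F1) * Y⁻¹ = (Y * F * Y⁻¹) * (Y * F1 * Y⁻¹) by group, c0, c1, ← mul_assoc,
      hcomm, mul_assoc, hF11, mul_one]
  have cub : ∀ {U U' U'' : K ⧸ W}, Y * U * Y⁻¹ = U' → Y * U' * Y⁻¹ = U'' → U * U' * U'' = 1 →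
      U * Y * (U * Y) * (U * Y) = 1 := by
    intro U U' U'' e e' e''
    rw [show U * Y * (U * Y) * (U * Y) = U * (Y * U * Y⁻¹) * (Y * (Y * U * Y⁻¹) * Y⁻¹) * (Y * Y * Y) by
      group, e, e', e'', hY3, one_mul]
  have p0 : F * F1 * (F * F1) = 1 := by
    rw [mul_assoc, ← mul_assoc F1, hcomm, mul_assoc F, hF11, mul_one, hFF]
  have q1 : π (f * y * (f * y) * (f * y)) = 1 := by
    simp only [map_mul]
    exact cub c0 c1 p0
  have q2 : π (f1 * y * (f1 * y) * (f1 * y)) = 1 := by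
    simp only [map_mul]
    refine cub c1 c2 ?_
    rw [← mul_assoc, hcomm, mul_assoc F, hF11, mul_one, hFF]
  have q3 : π (f * f1 * y * (f * f1 * y) * (f * f1 * y)) = 1 := by
    simp only [map_mul]
    refine cub c2 c0 ?_
    rw [mul_assoc F, hcomm, ← mul_assoc F, hFF, one_mul, hF11]
  -- the trace of the four group
  let T : K → K := fun w => w * (f * w * f⁻¹) * (f1 * w * f1⁻¹) * (f * f1 * w * (f * f1)⁻¹)
  intro w hw
  set a := y * w * y⁻¹ with ha
  set b := y * a * y⁻¹ with hb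
  have haW : a ∈ W := cj y w hw
  have hbW : b ∈ W := cj y a haW
  have r0 := rel y hy w hw
  have r1 := rel (f * y) (hmem.1 q1) w hw
  have r2 := rel (f1 * y) (hmem.1 q2) w hw
  have r3 := rel (f * f1 * y) (hmem.1 q3) w hw
  have e1 : f * y * (f * y * w * (f * y)⁻¹) * (f * y)⁻¹ = f * f1 * b * (f * f1)⁻¹ := by
    rw [hb, ha, hf1]; group
  have e2 : f1 * y * (f1 * y * w * (f1 * y)⁻¹) * (f1 * y)⁻¹ = f * b * f⁻¹ := by
    rw [show f1 * y * (f1 * y * w * (f1 * y)⁻¹) * (f1 * y)⁻¹ =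
      (f1 * (y * f1 * y⁻¹)) * b * (f1 * (y * f1 * y⁻¹))⁻¹ by rw [hb, ha]; group]
    refine act _ _ ?_ b hbW
    simp only [map_mul, map_inv]
    rw [c1, ← mul_assoc, hcomm, mul_assoc, hF11, mul_one]
  have e3 : f * f1 * y * (f * f1 * y * w * (f * f1 * y)⁻¹) * (f * f1 * y)⁻¹ = f1 * b * f1⁻¹ := by
    rw [show f * f1 * y * (f * f1 * y * w * (f * f1 * y)⁻¹) * (f * f1 * y)⁻¹ =
      (f * f1 * (y * (f * f1) * y⁻¹)) * b * (f * f1 * (y * (f * f1) * y⁻¹))⁻¹ by rw [hb, ha]; group]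
    refine act _ _ ?_ b hbW
    simp only [map_mul, map_inv]
    rw [c2, mul_assoc, hcomm, ← mul_assoc, hFF, one_mul]
  have d1 : f * y * w * (f * y)⁻¹ = f * a * f⁻¹ := by rw [ha]; group
  have d2 : f1 * y * w * (f1 * y)⁻¹ = f1 * a * f1⁻¹ := by rw [ha]; group
  have d3 : f * f1 * y * w * (f * f1 * y)⁻¹ = f * f1 * a * (f * f1)⁻¹ := by rw [ha]; group
  rw [e1, d1] at r1
  rw [e2, d2] at r2
  rw [e3, d3] at r3
  rw [← ha, ← hb] at r0
  -- commutative bookkeeping in `W`
  have key : w ^ 4 * (T a * T b) = 1 := by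
    have hfW : ∀ g, ∀ v ∈ W, g * v * g⁻¹ ∈ W := cj
    let w' : W := ⟨w, hw⟩
    let a0 : W := ⟨a, haW⟩
    let b0 : W := ⟨b, hbW⟩
    let A1 : W := ⟨_, hfW f a haW⟩
    let A2 : W := ⟨_, hfW f1 a haW⟩
    let A3 : W := ⟨_, hfW (f * f1) a haW⟩
    let B1 : W := ⟨_, hfW f b hbW⟩
    let B2 : W := ⟨_, hfW f1 b hbW⟩
    let B3 : W := ⟨_, hfW (f * f1) b hbW⟩
    have s0 : w' * a0 * b0 = 1 := Subtype.ext r0
    have s1 : w' * A1 * B3 = 1 := Subtype.ext r1
    have s2 : w' * A2 * B1 = 1 := Subtype.ext r2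
    have s3 : w' * A3 * B2 = 1 := Subtype.ext r3
    haveI := hab
    have s : w' ^ 4 * (a0 * A1 * A2 * A3 * (b0 * B1 * B2 * B3)) = 1 := by
      have : (w' * a0 * b0) * (w' * A1 * B3) * (w' * A2 * B1) * (w' * A3 * B2) = 1 := by
        rw [s0, s1, s2, s3]; simp
      rw [← this]
      simp only [pow_succ, pow_zero, one_mul, mul_comm', Std.Associative.assoc]
      ac_rfl
    exact congrArg Subtype.val s
  have hTmul : ∀ u ∈ W, ∀ v ∈ W, T (u * v) = T u * T v := by
    intro u hu v hv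
    have hh : ∀ g : K, g * (u * v) * g⁻¹ = g * u * g⁻¹ * (g * v * g⁻¹) := fun g => by group
    show u * v * _ * _ * _ = _
    rw [hh f, hh f1, hh (f * f1)]
    have m1 := hc v hv _ (cj f u hu)
    let u0 : W := ⟨u, hu⟩
    let v0 : W := ⟨v, hv⟩
    let u1 : W := ⟨_, cj f u hu⟩
    let v1 : W := ⟨_, cj f v hv⟩
    let u2 : W := ⟨_, cj f1 u hu⟩
    let v2 : W := ⟨_, cj f1 v hv⟩
    let u3 : W := ⟨_, cj (f * f1) u hu⟩
    let v3 : W := ⟨_, cj (f * f1) v hv⟩
    haveI := hab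
    have s : u0 * v0 * (u1 * v1) * (u2 * v2) * (u3 * v3) = u0 * u1 * u2 * u3 * (v0 * v1 * v2 * v3) := by
      ac_rfl
    exact congrArg Subtype.val s
  have hT1 : T 1 = 1 := by show 1 * (f * 1 * f⁻¹) * (f1 * 1 * f1⁻¹) * _ = 1; group
  have hTw : w ^ 4 = T w := by
    have h := congrArg T r0
    rw [hTmul _ (mul_mem hw haW) _ hbW, hTmul _ hw _ haW, hT1] at h
    exact mul_right_cancel (key.trans (((mul_assoc _ _ _).symm.trans h).symm))
  set c := f * w * f⁻¹ with hcdef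
  have hcW : c ∈ W := cj f w hw
  have hTc : c ^ 4 = T c := by
    rw [hcdef, conj_pow, hTw]
    show f * (w * _ * _ * _) * f⁻¹ = c * _ * _ * _
    rw [hcdef]
    have x1 : f * (f * f1 * w * (f * f1)⁻¹) * f⁻¹ = f1 * w * f1⁻¹ := by
      refine Eq.trans (by group) (act (f * (f * f1)) f1 (by rw [map_mul, map_mul, ← hF, ← mul_assoc, hFF, one_mul]) w hw)
    have x2 : f1 * (f * w * f⁻¹) * f1⁻¹ = f * f1 * w * (f * f1)⁻¹ := by
      refine Eq.trans (by group) (act (f1 * f) (f * f1) (by rw [map_mul, map_mul]; exact hcomm) w hw)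
    have x3 : f * f1 * (f * w * f⁻¹) * (f * f1)⁻¹ = f1 * w * f1⁻¹ := by
      refine Eq.trans (by group) (act (f * f1 * f) f1 (by
        rw [map_mul, map_mul, mul_assoc, hcomm, ← mul_assoc, hFF, one_mul]) w hw)
    rw [show f * (w * (f * w * f⁻¹) * (f1 * w * f1⁻¹) * (f * f1 * w * (f * f1)⁻¹)) * f⁻¹ =
      (f * w * f⁻¹) * (f * (f * w * f⁻¹) * f⁻¹) * (f * (f1 * w * f1⁻¹) * f⁻¹) *
        (f * (f * f1 * w * (f * f1)⁻¹) * f⁻¹) by group, x1, x2, x3,
      show f * (f1 * w * f1⁻¹) * f⁻¹ = f * f1 * w * (f * f1)⁻¹ by group]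
  -- the four group fixes the trace
  have hTf : T c = T w := by
    show c * (f * c * f⁻¹) * (f1 * c * f1⁻¹) * (f * f1 * c * (f * f1)⁻¹) =
      w * (f * w * f⁻¹) * (f1 * w * f1⁻¹) * (f * f1 * w * (f * f1)⁻¹)
    have y0 : f * c * f⁻¹ = w := by
      refine Eq.trans (by rw [hcdef]; group) ((act (f * f) 1 (by rw [hf]) w hw).trans (by group))
    have y2 : f1 * c * f1⁻¹ = f * f1 * w * (f * f1)⁻¹ := by
      refine Eq.trans (by rw [hcdef]; group) (act (f1 * f) (f * f1) (by rw [map_mul, map_mul]; exact hcomm) w hw)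
    have y3 : f * f1 * c * (f * f1)⁻¹ = f1 * w * f1⁻¹ := by
      refine Eq.trans (by rw [hcdef]; group) (act (f * f1 * f) f1 (by
        rw [map_mul, map_mul, mul_assoc, hcomm, ← mul_assoc, hFF, one_mul]) w hw)
    rw [y0, y2, y3, hcdef]
    let w0 : W := ⟨w, hw⟩
    let w1 : W := ⟨_, cj f w hw⟩
    let w2 : W := ⟨_, cj f1 w hw⟩
    let w3 : W := ⟨_, cj (f * f1) w hw⟩
    haveI := hab
    have s : w1 * w0 * w3 * w2 = w0 * w1 * w2 * w3 := by ac_rfl
    exact congrArg Subtype.val s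
  have h4 : ∀ v ∈ W, v ^ 4 = v := fun v hv => by rw [pow_succ, h3 v hv, one_mul]
  rw [h4 c hcW, hTf, ← hTw, h4 w hw] at hTc
  exact hTc

open Subgroup commutatorElement in
private theorem sylow_three {Q : Type*} [Group Q] [Finite Q] (h : ∀ x : Q, x ^ 6 = 1)
    (hsol : Group.IsSolvable Q) (hbot : Cfsg.pPrimeCore 3 Q = ⊥) :
    ¬ 3 ∣ (Cfsg.pCore 3 Q).index := by
  haveI := hsol
  haveI : Fact (Nat.Prime 3) := ⟨Nat.prime_three⟩
  haveI : Fact (Nat.Prime 2) := ⟨Nat.prime_two⟩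
  intro hd
  set V := Cfsg.pCore 3 Q with hV
  haveI hVn : V.Normal := CfsgLib.Coprime.pCore_normal' 3
  have hV3 : IsPGroup 3 V := CfsgLib.Coprime.pCore_isPGroup 3
  have hCV : centralizer (V : Set Q) ≤ V := CfsgLib.Coprime.centralizer_pCore_le hbot
  set R := Q ⧸ V
  set π := QuotientGroup.mk' V with hπ
  have hR3 : Cfsg.pCore 3 R = ⊥ := CfsgLib.Coprime.pCore_quotient_eq_bot 3
  have hR6 : ∀ r : R, r ^ 6 = 1 := fun r => by
    obtain ⟨x, rfl⟩ := QuotientGroup.mk'_surjective V r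
    rw [← map_pow, h, map_one]
  have hprimes : ∀ (X : Subgroup R) (q : ℕ), q.Prime → q ∣ Nat.card X → q = 2 ∨ q = 3 := by
    intro X q hq hqX
    haveI : Fact q.Prime := ⟨hq⟩
    obtain ⟨x, hx⟩ := exists_prime_orderOf_dvd_card' q hqX
    have : orderOf x ∣ 6 := orderOf_dvd_of_pow_eq_one (Subtype.ext (by simpa using hR6 x))
    rw [hx] at this
    have := Nat.le_of_dvd (by norm_num) this
    interval_cases q <;> first | omega | exact absurd hq (by norm_num)
  have hR2 : Cfsg.pPrimeCore 2 R = ⊥ := by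
    refine eq_bot_iff.2 (le_trans (CfsgLib.Coprime.le_pCore ?_) hR3.le)
    have hcop : (Nat.card (Cfsg.pPrimeCore 2 R)).Coprime 2 :=
      (CfsgLib.Coprime.pPrimeCore_coprime (G := R) (p := 2) Nat.prime_two)
    haveI : (Cfsg.pPrimeCore 2 R).Normal := Subgroup.sSup_normal _ (fun _ h => h.1)
    refine IsPGroup.iff_card.2 ⟨(Nat.card (Cfsg.pPrimeCore 2 R)).primeFactorsList.length, ?_⟩
    refine Nat.eq_prime_pow_of_unique_prime_dvd Nat.card_pos.ne' fun {q} hq hqd => ?_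
    rcases hprimes _ q hq hqd with rfl | rfl
    · exact absurd (Nat.dvd_gcd hqd dvd_rfl) (by rw [hcop]; norm_num)
    · rfl
  set E := Cfsg.pCore 2 R with hE
  haveI hEn : E.Normal := CfsgLib.Coprime.pCore_normal' 2
  have hE2 : ∀ e ∈ E, e * e = 1 := by
    intro e he
    obtain ⟨k, hk⟩ := CfsgLib.Coprime.pCore_isPGroup (G := R) 2 ⟨e, he⟩
    have h1 : e ^ (2 ^ k) = 1 := congrArg Subtype.val hk
    rcases k with _ | k
    · rw [pow_zero, pow_one] at h1; rw [h1, one_mul]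
    have h2 : orderOf e ∣ Nat.gcd (2 ^ (k + 1)) 6 :=
      Nat.dvd_gcd (orderOf_dvd_of_pow_eq_one h1) (orderOf_dvd_of_pow_eq_one (hR6 e))
    rw [pow_succ', show 6 = 2 * 3 from rfl, Nat.gcd_mul_left,
      Nat.Coprime.pow_left k (show Nat.Coprime 2 3 by norm_num), mul_one] at h2
    rw [← pow_two, ← orderOf_dvd_iff_pow_eq_one]
    exact h2
  have hEc : ∀ a ∈ E, ∀ b ∈ E, a * b = b * a := by
    intro a ha b hb
    have hi : ∀ e ∈ E, e⁻¹ = e := fun e he => inv_eq_of_mul_eq_one_left (hE2 e he)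
    rw [← hi _ (mul_mem ha hb), mul_inv_rev, hi a ha, hi b hb]
  obtain ⟨y₀, hy₀⟩ : ∃ y : R, orderOf y = 3 := by
    refine exists_prime_orderOf_dvd_card' 3 ?_
    rwa [index_eq_card] at hd
  obtain ⟨e, he, hey⟩ : ∃ e ∈ E, y₀ * e ≠ e * y₀ := by
    by_contra hall
    push Not at hall
    have hyC : y₀ ∈ centralizer (E : Set R) := mem_centralizer_iff.2 fun e he => (hall e he).symm
    have h1 : y₀ * y₀ = 1 := hE2 _ (CfsgLib.Coprime.centralizer_pCore_le hR2 hyC)
    have h2 := orderOf_dvd_of_pow_eq_one (show y₀ ^ 2 = 1 by rw [pow_two]; exact h1)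
    rw [hy₀] at h2
    exact absurd h2 (by norm_num)
  set e1 := y₀ * e * y₀⁻¹ with he1
  have he1E : e1 ∈ E := hEn.conj_mem e he y₀
  set φ := e1 * e with hφ
  set φ1 := y₀ * φ * y₀⁻¹ with hφ1
  have hφE : φ ∈ E := mul_mem he1E he
  have hφne : φ ≠ 1 := fun h => hey (by
    have h1 : e1 = e := mul_right_cancel (h.trans (hE2 e he).symm)
    rw [he1, mul_inv_eq_iff_eq_mul] at h1
    exact h1)
  have hy3 : y₀ * y₀ * y₀ = 1 := by
    have h1 := pow_orderOf_eq_one y₀
    rw [hy₀, pow_succ, pow_two] at h1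
    exact h1
  have hφ2 : y₀ * φ1 * y₀⁻¹ = φ * φ1 := by
    set e2 := y₀ * e1 * y₀⁻¹ with he2
    have he2E : e2 ∈ E := hEn.conj_mem e1 he1E y₀
    have he3 : y₀ * e2 * y₀⁻¹ = e := by
      rw [he2, he1, show y₀ * (y₀ * (y₀ * e * y₀⁻¹) * y₀⁻¹) * y₀⁻¹ =
        (y₀ * y₀ * y₀) * e * (y₀ * y₀ * y₀)⁻¹ by group, hy3]; group
    have l : φ1 = e2 * e1 := by rw [hφ1, hφ, he2, he1]; group
    rw [l, show y₀ * (e2 * e1) * y₀⁻¹ = (y₀ * e2 * y₀⁻¹) * e2 by rw [he2]; group, he3, hφ,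
      hEc e1 he1E e he, mul_assoc e e1, ← mul_assoc e1 e2, hEc e1 he1E e2 he2E, mul_assoc e2,
      hE2 e1 he1E, mul_one]
  obtain ⟨f₀, hf₀⟩ := QuotientGroup.mk'_surjective V φ
  obtain ⟨y, hy⟩ := QuotientGroup.mk'_surjective V y₀
  set f := f₀ ^ 3 with hfdef
  have hff : f * f = 1 := by rw [hfdef, ← pow_add]; exact h f₀
  have hπf : π f = φ := by
    rw [hfdef, map_pow, hπ, hf₀, pow_succ, pow_two, hE2 φ hφE, one_mul]
  -- `f` is trivial on the Frattini quotient of `V`, hence on `V`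
  set Φ := (frattini V).map V.subtype with hΦ
  haveI : Φ.Normal := ConjAct.normal_of_characteristic_of_normal
  set q := QuotientGroup.mk' Φ with hq
  set W := V.map q with hW
  haveI : W.Normal := hVn.map q (QuotientGroup.mk'_surjective Φ)
  have hab : IsMulCommutative W := by
    refine isMulCommutative_iff.2 ?_
    rintro ⟨_, a, ha, rfl⟩ ⟨_, b, hb, rfl⟩
    refine Subtype.ext ?_
    show q a * q b = q b * q a
    rw [← commutatorElement_eq_one_iff_mul_comm, ← map_commutatorElement]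
    refine (QuotientGroup.eq_one_iff _).2 ⟨⁅(⟨a, ha⟩ : V), ⟨b, hb⟩⁆, ?_, by simp [commutatorElement_def]⟩
    exact CfsgLib.Coprime.commutator_le_frattini hV3 (commutator_mem_commutator (mem_top _) (mem_top _))
  have hexp : ∀ w ∈ W, w ^ 3 = 1 := by
    rintro _ ⟨v, hv, rfl⟩
    have h2 : v ^ 3 ^ 1 = 1 := by
      obtain ⟨k, hk⟩ := hV3 ⟨v, hv⟩
      have h1 : v ^ (3 ^ k) = 1 := congrArg Subtype.val hk
      rcases k with _ | k
      · rw [pow_zero, pow_one] at h1; rw [h1, one_pow]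
      have h2 : orderOf v ∣ Nat.gcd (3 ^ (k + 1)) 6 :=
        Nat.dvd_gcd (orderOf_dvd_of_pow_eq_one h1) (orderOf_dvd_of_pow_eq_one (h v))
      rw [pow_succ', show 6 = 3 * 2 from rfl, Nat.gcd_mul_left,
        Nat.Coprime.pow_left k (show Nat.Coprime 3 2 by norm_num), mul_one] at h2
      rw [pow_one, ← orderOf_dvd_iff_pow_eq_one]
      exact h2
    rw [← map_pow, ← pow_one 3, h2, map_one]
  have hlift : ∀ u v : Q, π u = π v → QuotientGroup.mk' W (q u) = QuotientGroup.mk' W (q v) := by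
    intro u v huv
    refine (QuotientGroup.mk'_eq_mk' W).2 ⟨q (u⁻¹ * v), mem_map_of_mem q (QuotientGroup.eq.1 huv), ?_⟩
    rw [map_mul, map_inv, mul_inv_cancel_left]
  have hfix := core W hab hexp (fun k => by
      obtain ⟨x, rfl⟩ := QuotientGroup.mk'_surjective Φ k
      rw [← map_pow, h, map_one])
    (f := q f) (y := q y) (by rw [← map_mul, hff, map_one])
    (by
      rw [← map_mul, ← map_mul]
      refine mem_map_of_mem q ((QuotientGroup.eq_one_iff _).1 ?_)
      show π (y * y * y) = 1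
      rw [map_mul, map_mul, hπ, hy, hy3])
    (by
      simp only [← map_inv, ← map_mul q]
      refine hlift _ _ ?_
      simp only [map_mul, map_inv, hπf, show π y = y₀ from hy]
      exact hEc _ (hEn.conj_mem φ hφE y₀) φ hφE)
    (by
      simp only [← map_inv, ← map_mul q]
      refine hlift _ _ ?_
      simp only [map_mul, map_inv, hπf, show π y = y₀ from hy]
      exact hφ2)
  have hcent : zpowers f ≤ centralizer (V : Set Q) := by
    refine CfsgLib.Coprime.le_centralizer_of_trivial_on_frattini_quotient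
      (le_of_le_of_eq le_top (normalizer_eq_top_iff.2 hVn).symm) ?_ ?_
    · obtain ⟨k, hk⟩ := IsPGroup.iff_card.1 (hV3.to_subgroup (frattini V))
      rw [hk, Nat.card_zpowers]
      refine Nat.Coprime.pow_right k ((show Nat.Coprime 2 3 by norm_num).coprime_dvd_left ?_)
      exact orderOf_dvd_of_pow_eq_one (by rw [pow_two]; exact hff)
    · intro a ha v hv
      obtain ⟨i, rfl⟩ := mem_zpowers_iff.1 ha
      refine (QuotientGroup.eq_one_iff (N := Φ) _).1 ?_
      show q (f ^ i * v * (f ^ i)⁻¹ * v⁻¹) = 1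
      have hcm : Commute (q f) (q v) := by
        have := hfix _ (mem_map_of_mem q hv)
        rwa [mul_inv_eq_iff_eq_mul] at this
      rw [map_mul, map_mul, map_mul, map_inv, map_inv, map_zpow, (hcm.zpow_left i).eq]
      group
  have hfV : f ∈ V := hCV (hcent (mem_zpowers f))
  exact hφne (by rw [← hπf]; exact (QuotientGroup.eq_one_iff f).2 hfV)

/-- A finite group in which every element has order dividing `6` has `2`-length at most `1` and `3`-length at most `1`. -/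
theorem result {G : Type*} [Group G] [Finite G] (h : ∀ x : G, x ^ 6 = 1) : Cfsg.PLengthLE 2 1 G ∧ Cfsg.PLengthLE 3 1 G := by
  classical
  have hprimes : ∀ q : ℕ, q.Prime → q ∣ Nat.card G → q = 2 ∨ q = 3 := by
    intro q hq hqG
    haveI : Fact q.Prime := ⟨hq⟩
    obtain ⟨x, hx⟩ := exists_prime_orderOf_dvd_card' q hqG
    have : orderOf x ∣ 6 := orderOf_dvd_of_pow_eq_one (h x)
    rw [hx] at this
    have := Nat.le_of_dvd (by norm_num) this
    interval_cases q <;> first | omega | exact absurd hq (by norm_num)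
  have hsol : Group.IsSolvable G := by
    refine CfsgLib.Char.isSolvable_of_card_two_primes (p := 2) (q := 3) Nat.prime_two Nat.prime_three G
      ((Nat.card G).factorization 2) ((Nat.card G).factorization 3) ?_
    conv_lhs => rw [← Nat.prod_factorization_pow_eq_self (Nat.card_pos (α := G)).ne']
    rw [Finsupp.prod, Finset.prod_subset (s₂ := ({2, 3} : Finset ℕ))]
    · simp
    · intro q hq
      rw [Nat.support_factorization, Nat.mem_primeFactors] at hq
      simpa using hprimes q hq.1 hq.2.1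
    · intro q _ hq
      rw [Finsupp.notMem_support_iff.1 hq, pow_zero]
  constructor
  · haveI : Fact (Nat.Prime 2) := ⟨Nat.prime_two⟩
    haveI : (Cfsg.pPrimeCore 2 G).Normal := Subgroup.sSup_normal _ (fun _ h => h.1)
    refine CfsgLib.PGroup.pLengthLE_one_of_not_dvd (p := 2) ?_
    haveI := hsol
    set Q := G ⧸ Cfsg.pPrimeCore 2 G
    have hC := CfsgLib.Coprime.centralizer_pCore_le (G := Q) (p := 2)
      (CfsgLib.Coprime.pPrimeCore_quotient_eq_bot Nat.prime_two)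
    obtain ⟨P⟩ := (inferInstance : Nonempty (Sylow 2 Q))
    have hinv : ∀ x ∈ (P : Subgroup Q), x⁻¹ = x := by
      intro x hx
      obtain ⟨k, hk⟩ := P.2 ⟨x, hx⟩
      have h1 : x ^ (2 ^ k) = 1 := congrArg Subtype.val hk
      refine inv_eq_of_mul_eq_one_left ?_
      rcases k with _ | k
      · rw [pow_zero, pow_one] at h1; rw [h1, one_mul]
      have h6 : x ^ 6 = 1 := by
        obtain ⟨g, rfl⟩ := QuotientGroup.mk'_surjective (Cfsg.pPrimeCore 2 G) x
        rw [← map_pow, h, map_one]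
      have h2 : orderOf x ∣ Nat.gcd (2 ^ (k + 1)) 6 :=
        Nat.dvd_gcd (orderOf_dvd_of_pow_eq_one h1) (orderOf_dvd_of_pow_eq_one h6)
      rw [pow_succ', show 6 = 2 * 3 from rfl, Nat.gcd_mul_left,
        Nat.Coprime.pow_left k (show Nat.Coprime 2 3 by norm_num), mul_one] at h2
      rw [← pow_two, ← orderOf_dvd_iff_pow_eq_one]
      exact h2
    have hP : (P : Subgroup Q) ≤ Cfsg.pCore 2 Q := fun x hx => hC (Subgroup.mem_centralizer_iff.2
      fun v hv => by
        have hv' := CfsgLib.Coprime.pCore_le_sylow P hv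
        rw [← hinv _ (mul_mem hv' hx), mul_inv_rev, hinv x hx, hinv v hv'])
    intro hd
    exact P.not_dvd_index (hd.trans (Subgroup.index_dvd_of_le hP))
  · haveI : Fact (Nat.Prime 3) := ⟨Nat.prime_three⟩
    haveI : (Cfsg.pPrimeCore 3 G).Normal := Subgroup.sSup_normal _ (fun _ h => h.1)
    refine CfsgLib.PGroup.pLengthLE_one_of_not_dvd (p := 3) ?_
    haveI := hsol
    refine sylow_three (fun x => ?_) inferInstance (CfsgLib.Coprime.pPrimeCore_quotient_eq_bot Nat.prime_three)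
    obtain ⟨g, rfl⟩ := QuotientGroup.mk'_surjective (Cfsg.pPrimeCore 3 G) x
    rw [← map_pow, h, map_one]

end Cfsg.Agent.S4227
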