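import Cfsg.Statements.S4230
-- import your own Cfsg.Agent.* helpers here

set_option autoImplicit false
open Cfsg

namespace Cfsg.Agent.S4230

/-- Let p be an odd prime, q a natural number not divisible by p, and e the multiplicative order of q modulo p. For a natural number f, p divides the value at q of the f-th cyclotomic polynomial if and only if f = e·p^j for some j ≥ 0. -/
theorem result (p q f : ℕ) (hp : p.Prime) (hp2 : p ≠ 2) (hpq : ¬ p ∣ q) :
    ((p : ℤ) ∣ (Polynomial.cyclotomic f ℤ).eval (q : ℤ)) ↔ ∃ j : ℕ, f = orderOf (q : ZMod p) * p ^ j := by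
  haveI := Fact.mk hp
  have hq0 : (q : ZMod p) ≠ 0 := fun h => hpq ((ZMod.natCast_eq_zero_iff _ _).1 h)
  have hord : 0 < orderOf (q : ZMod p) := orderOf_pos_iff.2 (IsUnit.isOfFinOrder (isUnit_iff_ne_zero.2 hq0))
  have hmap : ((p : ℤ) ∣ (Polynomial.cyclotomic f ℤ).eval (q : ℤ)) ↔
      (Polynomial.cyclotomic f (ZMod p)).IsRoot (q : ZMod p) := by
    rw [← ZMod.intCast_zmod_eq_zero_iff_dvd, Polynomial.IsRoot, ← Polynomial.map_cyclotomic f (Int.castRingHom (ZMod p))]
    rw [show ((q : ℕ) : ZMod p) = Int.castRingHom (ZMod p) (q : ℤ) by simp, Polynomial.eval_map,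
      Polynomial.eval₂_hom]
    simp
  rw [hmap]
  rcases Nat.eq_zero_or_pos f with rfl | hf
  · refine iff_of_false (by simp [Polynomial.IsRoot]) ?_
    rintro ⟨j, hj⟩
    exact Nat.mul_ne_zero hord.ne' (pow_ne_zero _ hp.ne_zero) hj.symm
  obtain ⟨j, m, hm, rfl⟩ := Nat.exists_eq_pow_mul_and_not_dvd hf.ne' p hp.ne_one
  haveI : NeZero (m : ZMod p) := ⟨fun h => hm ((ZMod.natCast_eq_zero_iff _ _).1 h)⟩
  rw [Polynomial.isRoot_cyclotomic_prime_pow_mul_iff_of_charP]
  constructor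
  · intro h
    exact ⟨j, by rw [← h.eq_orderOf, mul_comm]⟩
  · rintro ⟨i, hi⟩
    have hop : ¬ p ∣ orderOf (q : ZMod p) := fun h => by
      have h1 : orderOf (q : ZMod p) ∣ p - 1 := ZMod.orderOf_dvd_card_sub_one hq0
      have := Nat.le_of_dvd (by have := hp.two_le; omega) (h.trans h1)
      have := hp.two_le
      omega
    have hc1 : Nat.Coprime (orderOf (q : ZMod p)) (p ^ j) :=
      Nat.Coprime.pow_right _ (hp.coprime_iff_not_dvd.2 hop).symm
    have hc2 : Nat.Coprime m (p ^ i) := Nat.Coprime.pow_right _ (hp.coprime_iff_not_dvd.2 hm).symm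
    have hd1 : orderOf (q : ZMod p) ∣ m := hc1.dvd_of_dvd_mul_left (hi ▸ dvd_mul_right _ _)
    have hd2 : m ∣ orderOf (q : ZMod p) := hc2.dvd_of_dvd_mul_right (hi ▸ dvd_mul_left _ _)
    rw [Nat.dvd_antisymm hd2 hd1]
    exact IsPrimitiveRoot.orderOf _

end Cfsg.Agent.S4230
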