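import Cfsg.Statements.S4233
import Cfsg.Agent.Lib.FGThirteen.Simple
import Cfsg.Agent.Lib.FGThirteen.PslCase
import Cfsg.Agent.Lib.FGThirteen.Lift

set_option autoImplicit false
open Cfsg

namespace Cfsg.Agent.S4233

/-- Let G be a finite non-solvable group in which every subgroup H that is not subnormal and whose order has at most two prime divisors has a normalizer N_G(H) that is a maximal subgroup of G. Then G is the internal direct product of normal subgroups K and S with K isomorphic to PSL(2, 13) or to SL(2, 13), S abelian, and the orders of K and S coprime. -/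
theorem result {G : Type*} [Group G] [Finite G] (hG : ¬ Group.IsSolvable G)
    (h : ∀ H : Subgroup G, ¬ H.IsSubnormal →
      (∃ p q : ℕ, p.Prime ∧ q.Prime ∧ ∀ r : ℕ, r.Prime → r ∣ Nat.card H → r = p ∨ r = q) →
      IsCoatom (Subgroup.normalizer (H : Set G))) :
    ∃ K S : Subgroup G, K.Normal ∧ S.Normal ∧ K ⊓ S = ⊥ ∧ K ⊔ S = ⊤ ∧
      (Nonempty (K ≃* Matrix.ProjectiveSpecialLinearGroup (Fin 2) (ZMod 13)) ∨
        Nonempty (K ≃* Matrix.SpecialLinearGroup (Fin 2) (ZMod 13))) ∧
      IsMulCommutative S ∧ (Nat.card K).Coprime (Nat.card S) := by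
  classical
  set R : Subgroup G := sSup {N : Subgroup G | N.Normal ∧ Group.IsSolvable N} with hRdef
  haveI hRn : R.Normal := Subgroup.sSup_normal _ fun _ hN => hN.1
  have hR : Group.IsSolvable R := CfsgLib.Spor.Tri.isSolvable_sSup_normal fun N hN => hN
  have hmax : ∀ N : Subgroup G, N.Normal → Group.IsSolvable N → N ≤ R := fun N hn hs => le_sSup ⟨hn, hs⟩
  have hrad : ∀ N : Subgroup (G ⧸ R), N.Normal → Group.IsSolvable N → N = ⊥ := by
    intro N hn hs
    haveI := hR
    haveI := hs
    set L := N.comap (QuotientGroup.mk' R) with hL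
    have hLs : Group.IsSolvable L := by
      let g : L →* N := (QuotientGroup.mk' R).subgroupComap N
      let i : R →* L := Subgroup.inclusion (by
        intro x hx
        have h1 : QuotientGroup.mk' R x = 1 := (QuotientGroup.eq_one_iff x).2 hx
        show QuotientGroup.mk' R x ∈ N
        rw [h1]
        exact one_mem N)
      refine Group.isSolvable_of_ker_le_range i g fun x hx => ?_
      have hx' : QuotientGroup.mk' R x.1 = 1 := congrArg Subtype.val hx
      exact ⟨⟨x.1, (QuotientGroup.eq_one_iff x.1).1 hx'⟩, rfl⟩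
    have hLR := hmax L (hn.comap _) hLs
    rw [← Subgroup.map_comap_eq_self_of_surjective (QuotientGroup.mk'_surjective R) N, Subgroup.map_eq_bot_iff,
      QuotientGroup.ker_mk']
    exact hLR
  have hnt : Nontrivial (G ⧸ R) := by
    rw [QuotientGroup.nontrivial_iff]
    intro e
    refine hG ?_
    haveI := hR
    exact Group.isSolvable_of_surjective (f := R.subtype) fun x => ⟨⟨x, e ▸ Subgroup.mem_top x⟩, rfl⟩
  have c : CfsgLib.FGThirteen.Ctx (G ⧸ R) := ⟨CfsgLib.FGThirteen.maxN_quotient h hR hmax, hrad, hnt⟩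
  obtain ⟨T, hT, -, F, iF, iF', hodd, h3, ⟨e⟩⟩ := c.exists_psl
  haveI := hT
  obtain ⟨e'⟩ := CfsgLib.FGThirteen.psl_case c.maxN (fun V hV => c.centralizer_four hV) T hodd h3 e
  exact CfsgLib.FGThirteen.lift h R hR e'

end Cfsg.Agent.S4233
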