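import Cfsg.Statements.S4234
import Cfsg.Agent.Lib.Perm.Small.SLThirteenNormalizers

set_option autoImplicit false
open Cfsg

namespace Cfsg.Agent.S4234

/-- Let K be isomorphic to PSL(2, 13) or to SL(2, 13) and let S be a finite abelian group of order coprime to the order of K. Then in the direct product K × S every subgroup that is not normal has a normalizer that is a maximal subgroup. -/
theorem result {K S : Type*} [Group K] [CommGroup S] [Finite K] [Finite S]
    (hK : Nonempty (K ≃* Matrix.ProjectiveSpecialLinearGroup (Fin 2) (ZMod 13)) ∨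
      Nonempty (K ≃* Matrix.SpecialLinearGroup (Fin 2) (ZMod 13)))
    (hKS : (Nat.card K).Coprime (Nat.card S)) (H : Subgroup (K × S)) (hH : ¬ H.Normal) :
    IsCoatom (Subgroup.normalizer (H : Set (K × S))) := by
  have hK' : ∀ A : Subgroup K, ¬ A.Normal → IsCoatom (Subgroup.normalizer (A : Set K)) := by
    obtain ⟨f, hf⟩ : ∃ f : CfsgLib.Perm.SLThirteen.T →* K, Function.Surjective f := by
      rcases hK with h | h <;> obtain ⟨e⟩ := h
      · exact ⟨e.symm.toMonoidHom.comp (QuotientGroup.mk' _),
          e.symm.surjective.comp (QuotientGroup.mk'_surjective _)⟩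
      · exact ⟨e.symm.toMonoidHom, e.symm.surjective⟩
    intro A hA
    have hA' : ¬ (A.comap f).Normal := fun h => hA (by
      have := h.map f hf
      rwa [Subgroup.map_comap_eq_self_of_surjective hf] at this)
    have h := CfsgLib.Perm.SLThirteen.isCoatom_normalizer hA'
    have e : (Subgroup.normalizer (A : Set K)).comap f = Subgroup.normalizer ((A.comap f : Subgroup _) : Set _) :=
      Subgroup.comap_normalizer_eq_of_surjective A hf
    rw [← e] at h
    refine ⟨fun e => h.1 (by rw [e, Subgroup.comap_top]), fun Y hY => ?_⟩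
    have h1 := h.2 (Y.comap f) ((Subgroup.comap_lt_comap_of_surjective hf).2 hY)
    rw [← Subgroup.map_comap_eq_self_of_surjective hf Y, h1, Subgroup.map_top_of_surjective _ hf]
  set A := H.comap (MonoidHom.inl K S) with hAdef
  have hsplit : ∀ k s, (k, s) ∈ H → (k, (1 : S)) ∈ H ∧ ((1 : K), s) ∈ H := by
    intro k s hks
    obtain ⟨e, he1, he2⟩ := Nat.chineseRemainder hKS 1 0
    have h1 : (k, s) ^ e = (k, (1 : S)) := by
      refine Prod.ext ?_ ?_
      · show k ^ e = k
        calc k ^ e = k ^ 1 := pow_eq_pow_iff_modEq.2 (he1.of_dvd (orderOf_dvd_natCard k))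
          _ = k := pow_one k
      · show s ^ e = 1
        calc s ^ e = s ^ 0 := pow_eq_pow_iff_modEq.2 (he2.of_dvd (orderOf_dvd_natCard s))
          _ = 1 := pow_zero s
    have h2 : (k, (1 : S)) ∈ H := h1 ▸ pow_mem hks e
    refine ⟨h2, ?_⟩
    have := mul_mem (inv_mem h2) hks
    simpa using this
  have hmem : ∀ g : K × S, g ∈ Subgroup.normalizer (H : Set (K × S)) ↔ g.1 ∈ Subgroup.normalizer (A : Set K) := by
    rintro ⟨k, s⟩
    rw [Subgroup.mem_set_normalizer_iff, Subgroup.mem_set_normalizer_iff]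
    constructor
    · intro h a
      have := h (a, 1)
      simpa [hAdef] using this
    · intro h
      rintro ⟨a, b⟩
      have he : (k, s) * (a, b) * (k, s)⁻¹ = (k * a * k⁻¹, b) := by
        simp [Prod.mk.injEq, mul_comm]
      rw [SetLike.mem_coe, SetLike.mem_coe, he]
      constructor
      · intro hab
        obtain ⟨h1, h2⟩ := hsplit _ _ hab
        have h3 : (k * a * k⁻¹, (1 : S)) ∈ H := (h a).1 h1
        simpa using mul_mem h3 h2
      · intro hab
        obtain ⟨h1, h2⟩ := hsplit _ _ hab
        have h3 : (a, (1 : S)) ∈ H := (h a).2 h1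
        simpa using mul_mem h3 h2
  have hA : ¬ A.Normal := fun hn => hH (Subgroup.normalizer_eq_top_iff.1 (eq_top_iff.2 fun g _ =>
    (hmem g).2 ((Subgroup.normalizer_eq_top_iff.2 hn).ge (Subgroup.mem_top g.1))))
  have hc := hK' A hA
  refine ⟨fun e => hc.1 (eq_top_iff.2 fun k _ => (hmem (k, 1)).1 (e.ge (Subgroup.mem_top _))), fun Y hY => ?_⟩
  have hS : ∀ s : S, ((1 : K), s) ∈ Y := fun s => hY.le ((hmem _).2 (one_mem _))
  have hlt : Subgroup.normalizer (A : Set K) < Y.comap (MonoidHom.inl K S) := by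
    refine lt_of_le_of_ne (fun k hk => hY.le ((hmem (k, 1)).2 hk)) fun e => hY.not_ge fun g hg => ?_
    refine (hmem g).2 (e.ge (show (g.1, (1 : S)) ∈ Y from ?_))
    have e2 : (g.1, (1 : S)) = g * ((1 : K), g.2)⁻¹ := Prod.ext (by simp) (by simp)
    rw [e2]
    exact mul_mem hg (inv_mem (hS g.2))
  refine eq_top_iff.2 fun g _ => ?_
  have h1 : (g.1, (1 : S)) ∈ Y := (hc.2 _ hlt).ge (Subgroup.mem_top g.1)
  simpa using mul_mem h1 (hS g.2)

end Cfsg.Agent.S4234
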