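import Cfsg.Statements.S4236
-- import your own Cfsg.Agent.* helpers here

set_option autoImplicit false
open Cfsg

namespace Cfsg.Agent.S4236

open Equiv Equiv.Perm MulAction

section perm

variable {α : Type*} [Fintype α] [DecidableEq α]

/-- The orbit of `b` under a subgroup of permutations, as a finset. -/
noncomputable def orb (H : Subgroup (Perm α)) (b : α) : Finset α :=
  (MulAction.orbit H b).toFinite.toFinset

theorem mem_orb {H : Subgroup (Perm α)} {b c : α} : c ∈ orb H b ↔ ∃ h ∈ H, h b = c := by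
  simp [orb, MulAction.orbit, Subgroup.smul_def]

theorem mem_orb_self (H : Subgroup (Perm α)) (b : α) : b ∈ orb H b := mem_orb.2 ⟨1, one_mem H, rfl⟩

theorem orb_card (hα : Fintype.card α = 35) {H : Subgroup (Perm α)} (hH : IsPGroup 17 H) {b : α}
    (hb : ∃ h ∈ H, h b ≠ b) : (orb H b).card = 17 := by
  haveI : Fact (Nat.Prime 17) := ⟨by norm_num⟩
  obtain ⟨n, hn⟩ := hH.card_orbit b
  have h1 : (orb H b).card = 17 ^ n := by
    rw [← hn, orb, ← Set.ncard_eq_toFinset_card]; rfl
  rcases n with _ | _ | n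
  · obtain ⟨h, hh, hne⟩ := hb
    rw [pow_zero, Finset.card_eq_one] at h1
    obtain ⟨c, hc⟩ := h1
    have e1 := mem_orb_self H b
    have e2 : h b ∈ orb H b := mem_orb.2 ⟨h, hh, rfl⟩
    rw [hc, Finset.mem_singleton] at e1 e2
    exact absurd (e2.trans e1.symm) hne
  · simpa using h1
  · have h2 := Finset.card_le_univ (orb H b)
    rw [hα, h1] at h2
    have h3 : 17 ^ 2 ≤ 17 ^ (n + 1 + 1) := Nat.pow_le_pow_right (by norm_num) (by omega)
    omega

/-- An invariant set of size at most 34 without fixed points has size 0, 17 or 34. -/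
theorem inv_card (hα : Fintype.card α = 35) {H : Subgroup (Perm α)} (hH : IsPGroup 17 H) {S : Finset α}
    (hinv : ∀ h ∈ H, ∀ b ∈ S, h b ∈ S) (hfree : ∀ b ∈ S, ∃ h ∈ H, h b ≠ b) (h34 : S.card ≤ 34) :
    S.card = 0 ∨ S.card = 17 ∨ S.card = 34 := by
  rcases S.eq_empty_or_nonempty with h | ⟨b, hb⟩
  · exact Or.inl (Finset.card_eq_zero.2 h)
  have hsub : orb H b ⊆ S := fun c hc => by
    obtain ⟨h, hh, rfl⟩ := mem_orb.1 hc
    exact hinv h hh b hb
  have hcard := orb_card hα hH (hfree b hb)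
  by_cases hS : S ⊆ orb H b
  · exact Or.inr (Or.inl (by rw [Finset.Subset.antisymm hS hsub, hcard]))
  obtain ⟨c, hc, hcn⟩ := Finset.not_subset.1 hS
  have hd : Disjoint (orb H b) (orb H c) := Finset.disjoint_left.2 fun d hd1 hd2 => by
    obtain ⟨h1, hh1, e1⟩ := mem_orb.1 hd1
    obtain ⟨h2, hh2, e2⟩ := mem_orb.1 hd2
    refine hcn (mem_orb.2 ⟨h2⁻¹ * h1, mul_mem (inv_mem hh2) hh1, ?_⟩)
    rw [Perm.mul_apply, e1, ← e2, Perm.inv_def, Equiv.symm_apply_apply]
  have hsub' : orb H c ⊆ S := fun e he => by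
    obtain ⟨h, hh, rfl⟩ := mem_orb.1 he
    exact hinv h hh c hc
  have h1 := Finset.card_le_card (Finset.union_subset hsub hsub')
  rw [Finset.card_union_of_disjoint hd, hcard, orb_card hα hH (hfree c hc)] at h1
  omega

/-- There is no transitive group of degree 35 whose point stabilizer has a normal Sylow 17-subgroup fixing
only that point. -/
theorem no_group (hα : Fintype.card α = 35) (I P : Subgroup (Perm α)) (a : α) (ht : ∀ c, ∃ g ∈ I, g a = c)
    (hPI : P ≤ I) (hP : IsPGroup 17 P) (hPfix : ∀ x ∈ P, x a = a)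
    (hall : ∀ x ∈ I, x a = a → ∀ k : ℕ, x ^ 17 ^ k = 1 → x ∈ P)
    (hnorm : ∀ g ∈ I, g a = a → ∀ x ∈ P, g * x * g⁻¹ ∈ P)
    (huniq : ∀ b, (∀ x ∈ P, x b = b) → b = a) : False := by
  classical
  haveI : Fact (Nat.Prime 17) := ⟨by norm_num⟩
  haveI : Fact (Nat.Prime 5) := ⟨by norm_num⟩
  haveI : Fact (Nat.Prime 2) := ⟨Nat.prime_two⟩
  have hz : ∀ x ∈ P, IsPGroup 17 (Subgroup.zpowers x) := fun x hx =>
    hP.to_le (Subgroup.zpowers_le.2 hx)
  have hsuppA : ∀ x ∈ P, a ∉ x.support := fun x hx h => mem_support.1 h (hPfix x hx)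
  have hle34 : ∀ S : Finset α, a ∉ S → S.card ≤ 34 := fun S hS => by
    have := Finset.card_lt_univ_of_notMem hS
    omega
  have hsupp : ∀ x ∈ P, x.support.card = 0 ∨ x.support.card = 17 ∨ x.support.card = 34 := fun x hx =>
    inv_card hα (hz x hx)
      (fun h hh b hb => by
        obtain ⟨i, rfl⟩ := Subgroup.mem_zpowers_iff.1 hh
        exact zpow_apply_mem_support.2 hb)
      (fun b hb => ⟨x, Subgroup.mem_zpowers x, mem_support.1 hb⟩) (hle34 _ (hsuppA x hx))
  -- a non-trivial element of `P` has a single fixed point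
  have hsemi : ∀ x ∈ P, x ≠ 1 → x.support.card = 34 := by
    set F : Finset (Finset α) := Finset.univ.filter fun O =>
      ∃ x ∈ I, (∃ k : ℕ, x ^ 17 ^ k = 1) ∧ x.support = O ∧ O.card = 17 with hF
    suffices hFe : F = ∅ by
      intro x hx hx1
      rcases hsupp x hx with h | h | h
      · exact absurd (support_eq_empty_iff.1 (Finset.card_eq_zero.1 h)) hx1
      · exfalso
        obtain ⟨k, hk⟩ := hP ⟨x, hx⟩
        have : x.support ∈ F := Finset.mem_filter.2
          ⟨Finset.mem_univ _, x, hPI hx, ⟨k, by simpa using congrArg Subtype.val hk⟩, rfl, h⟩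
        rw [hFe] at this
        exact absurd this (Finset.notMem_empty _)
      · exact h
    have hconjF : ∀ g ∈ I, ∀ O ∈ F, O.map g.toEmbedding ∈ F := by
      intro g hg O hO
      obtain ⟨-, x, hx, ⟨k, hk⟩, rfl, hc⟩ := Finset.mem_filter.1 hO
      exact Finset.mem_filter.2 ⟨Finset.mem_univ _, g * x * g⁻¹, mul_mem (mul_mem hg hx) (inv_mem hg),
        ⟨k, by rw [conj_pow, hk, mul_one, mul_inv_cancel]⟩, support_conj, by rw [Finset.card_map, hc]⟩
    obtain ⟨Fa, hFa⟩ : ∃ Fa, Fa = F.filter fun O => a ∉ O := ⟨_, rfl⟩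
    have hFa2 : Fa.card ≤ 2 := by
      have horb : ∀ O ∈ Fa, O.card = 17 ∧ ∀ b ∈ O, O = orb P b := by
        intro O hO
        rw [hFa, Finset.mem_filter] at hO
        obtain ⟨-, x, hx, ⟨k, hk⟩, rfl, hc⟩ := Finset.mem_filter.1 hO.1
        have hxP := hall x hx (notMem_support.1 hO.2) k hk
        refine ⟨hc, fun b hb => ?_⟩
        have h1 := orb_card hα (hz x hxP) ⟨x, Subgroup.mem_zpowers x, mem_support.1 hb⟩
        have h2 := orb_card hα hP ⟨x, hxP, mem_support.1 hb⟩
        have h3 : orb (Subgroup.zpowers x) b = x.support := Finset.eq_of_subset_of_card_le (fun c hc' => by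
          obtain ⟨h, hh, rfl⟩ := mem_orb.1 hc'
          obtain ⟨i, rfl⟩ := Subgroup.mem_zpowers_iff.1 hh
          exact zpow_apply_mem_support.2 hb) (by omega)
        have h4 : orb (Subgroup.zpowers x) b = orb P b := Finset.eq_of_subset_of_card_le (fun c hc' => by
          obtain ⟨h, hh, rfl⟩ := mem_orb.1 hc'
          exact mem_orb.2 ⟨h, Subgroup.zpowers_le.2 hxP hh, rfl⟩) (by omega)
        exact h3.symm.trans h4
      have hdis : (Fa : Set (Finset α)).PairwiseDisjoint id := by
        intro O hO O' hO' hne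
        refine Finset.disjoint_left.2 fun b hb hb' => hne ?_
        rw [(horb O hO).2 b hb, (horb O' hO').2 b hb']
      have h1 := hle34 (Fa.biUnion id) (fun h => by
        obtain ⟨O, hO, ha⟩ := Finset.mem_biUnion.1 h
        rw [hFa, Finset.mem_filter] at hO
        exact hO.2 ha)
      have h2 : ∑ O ∈ Fa, (id O).card = Fa.card * 17 := Finset.sum_const_nat fun O hO => (horb O hO).1
      rw [Finset.card_biUnion hdis, h2] at h1
      omega
    have hc : ∀ c, (F.filter fun O => c ∉ O).card = Fa.card := by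
      intro c
      obtain ⟨g, hg, hgc⟩ := ht c
      rw [hFa]
      symm
      refine Finset.card_nbij' (fun O => O.map g.toEmbedding) (fun O => O.map g⁻¹.toEmbedding) ?_ ?_ ?_ ?_
      · intro O hO
        rw [Finset.mem_coe, Finset.mem_filter] at hO ⊢
        refine ⟨hconjF g hg O hO.1, fun h => hO.2 ?_⟩
        rw [← hgc] at h
        simpa [Finset.mem_map_equiv] using h
      · intro O hO
        rw [Finset.mem_coe, Finset.mem_filter] at hO ⊢
        refine ⟨hconjF g⁻¹ (inv_mem hg) O hO.1, fun h => hO.2 ?_⟩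
        rw [Finset.mem_map_equiv] at h
        rwa [Perm.inv_def, Equiv.symm_symm, hgc] at h
      · intro O _
        ext b; simp [Finset.mem_map_equiv, Perm.inv_def]
      · intro O _
        ext b; simp [Finset.mem_map_equiv, Perm.inv_def]
    have hsum : ∑ c : α, (F.filter fun O => c ∉ O).card = F.card * 18 := by
      simp only [Finset.card_filter]
      rw [Finset.sum_comm, ← smul_eq_mul, ← Finset.sum_const]
      refine Finset.sum_congr rfl fun O hO => ?_
      obtain ⟨-, x, -, -, -, hc⟩ := Finset.mem_filter.1 hO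
      rw [← Finset.card_filter, Finset.filter_not, Finset.filter_univ_mem, ← Finset.compl_eq_univ_sdiff,
        Finset.card_compl, hα, hc]
    rw [Finset.sum_congr rfl (fun c _ => hc c), Finset.sum_const, smul_eq_mul, Finset.card_univ, hα] at hsum
    exact Finset.card_eq_zero.1 (by omega)
  have hfix1 : ∀ x ∈ P, x ≠ 1 → ∀ b, x b = b → b = a := fun x hx hx1 b hb => by
    by_contra hne
    have h1 : x.support ⊆ (Finset.univ.erase a).erase b := fun c hc => by
      refine Finset.mem_erase.2 ⟨?_, Finset.mem_erase.2 ⟨?_, Finset.mem_univ _⟩⟩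
      · rintro rfl; exact mem_support.1 hc hb
      · rintro rfl; exact hsuppA x hx hc
    have h2 := Finset.card_le_card h1
    rw [Finset.card_erase_of_mem (Finset.mem_erase.2 ⟨hne, Finset.mem_univ _⟩),
      Finset.card_erase_of_mem (Finset.mem_univ _), Finset.card_univ, hα, hsemi x hx hx1] at h2
    omega
  -- `P` has order 17
  obtain ⟨b0, hb0⟩ : ∃ b0, b0 ≠ a := Fintype.exists_ne_of_one_lt_card (by omega) a
  have hmove : ∀ b, b ≠ a → ∃ x ∈ P, x b ≠ b := fun b hb => by
    by_contra h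
    push Not at h
    exact hb (huniq b h)
  have hPcard : Nat.card P = 17 := by
    have h1 := Nat.card_congr (MulAction.orbitProdStabilizerEquivGroup P b0)
    have h2 : Nat.card (MulAction.stabilizer P b0) = 1 := by
      rw [Subgroup.card_eq_one, eq_bot_iff]
      intro x hx
      rw [Subgroup.mem_bot]
      by_contra hx1
      exact hb0 (hfix1 x.1 x.2 (fun e => hx1 (Subtype.ext e)) b0 hx)
    have h3 := orb_card hα hP (hmove b0 hb0)
    rw [orb, ← Set.ncard_eq_toFinset_card] at h3
    rw [Nat.card_prod, h2, mul_one] at h1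
    rw [← h1]; exact h3
  -- the even part
  obtain ⟨K, hKdef⟩ : ∃ K, K = I ⊓ alternatingGroup α := ⟨_, rfl⟩
  have hPK : P ≤ K := fun x hx => by
    rw [hKdef, Subgroup.mem_inf, mem_alternatingGroup]
    refine ⟨hPI hx, ?_⟩
    have h1 : (⟨x, hx⟩ : P) ^ 17 = 1 := hPcard ▸ pow_card_eq_one'
    have h2 : sign x ^ 17 = 1 := by
      rw [← map_pow, show x ^ 17 = 1 from congrArg Subtype.val h1, map_one]
    rcases Int.units_eq_one_or (sign x) with e | e
    · exact e
    · rw [e] at h2; exact absurd h2 (by decide)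
  have hKconj : ∀ g ∈ I, ∀ x ∈ K, g * x * g⁻¹ ∈ K := fun g hg x hx => by
    rw [hKdef, Subgroup.mem_inf] at hx ⊢
    exact ⟨mul_mem (mul_mem hg hx.1) (inv_mem hg), Subgroup.Normal.conj_mem inferInstance x hx.2 g⟩
  -- every point is in the orbit of `a` under `K`
  have hKt : ∀ c, c ∈ orb K a := by
    intro c
    by_contra hcn
    obtain ⟨g, hg, hgc⟩ := ht c
    have hinvO : ∀ x ∈ K, ∀ b ∈ orb K a, x b ∈ orb K a := fun x hx b hb => by
      obtain ⟨h, hh, rfl⟩ := mem_orb.1 hb
      exact mem_orb.2 ⟨x * h, mul_mem hx hh, rfl⟩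
    have h1 := inv_card hα hP (S := (orb K a).erase a)
      (fun x hx b hb => by
        rw [Finset.mem_erase] at hb ⊢
        exact ⟨fun e => hb.1 (x.injective (e.trans (hPfix x hx).symm)), hinvO x (hPK hx) b hb.2⟩)
      (fun b hb => hmove b (Finset.ne_of_mem_erase hb)) (hle34 _ (Finset.notMem_erase _ _))
    rw [Finset.card_erase_of_mem (mem_orb_self K a)] at h1
    have hpos : 1 ≤ (orb K a).card := Finset.card_pos.2 ⟨a, mem_orb_self K a⟩
    have h2 := inv_card hα (H := P.map (MulAut.conj g).toMonoidHom) (hP.map _) (S := orb K a)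
      (fun x hx b hb => by
        obtain ⟨y, hy, rfl⟩ := Subgroup.mem_map.1 hx
        exact hinvO _ (hKconj g hg y (hPK hy)) b hb)
      (fun b hb => by
        obtain ⟨x, hx, hxb⟩ := hmove (g⁻¹ b) (fun e => hcn (by
          have : b = c := by rw [← hgc, ← e]; simp
          rwa [← this]))
        refine ⟨_, Subgroup.mem_map.2 ⟨x, hx, rfl⟩, fun e => hxb ?_⟩
        show x (g⁻¹ b) = g⁻¹ b
        conv_rhs => rw [← e]
        simp [Perm.mul_apply])
      (by
        have := Finset.card_lt_univ_of_notMem hcn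
        omega)
    omega
  haveI : MulAction.IsPretransitive K α := ⟨fun b c => by
    obtain ⟨h1, hh1, e1⟩ := mem_orb.1 (hKt b)
    obtain ⟨h2, hh2, e2⟩ := mem_orb.1 (hKt c)
    refine ⟨⟨h2, hh2⟩ * ⟨h1, hh1⟩⁻¹, ?_⟩
    show (h2 * h1⁻¹) b = c
    rw [← e1, ← e2]; simp⟩
  obtain ⟨H, hHdef⟩ : ∃ H, H = MulAction.stabilizer K a := ⟨_, rfl⟩
  have hKcard : Nat.card K = 35 * Nat.card H := by
    rw [← H.card_mul_index, hHdef, MulAction.index_stabilizer_of_transitive, Nat.card_eq_fintype_card (α := α),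
      hα, mul_comm]
  have hHa : ∀ h : H, h.1.1 a = a := fun h => (hHdef ▸ h.2 : h.1 ∈ MulAction.stabilizer K a)
  have hHI : ∀ h : H, h.1.1 ∈ I := fun h => (hKdef ▸ h.1.2 : h.1.1 ∈ I ⊓ alternatingGroup α).1
  have hHA : ∀ h : H, h.1.1 ∈ alternatingGroup α := fun h =>
    (hKdef ▸ h.1.2 : h.1.1 ∈ I ⊓ alternatingGroup α).2
  obtain ⟨PH, hPH⟩ : ∃ PH, PH = (P.subgroupOf K).subgroupOf H := ⟨_, rfl⟩
  have hPHmem : ∀ h : H, h ∈ PH ↔ h.1.1 ∈ P := fun h => by rw [hPH]; rfl
  have hPmem : ∀ x ∈ P, ∃ h : H, h ∈ PH ∧ h.1.1 = x := fun x hx =>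
    ⟨⟨⟨x, hPK hx⟩, hHdef ▸ hPfix x hx⟩, (hPHmem _).2 hx, rfl⟩
  haveI : PH.Normal := ⟨fun x hx h => by
    rw [hPHmem] at hx ⊢
    exact hnorm _ (hHI h) (hHa h) _ hx⟩
  have hPHc : Nat.card PH = 17 := by
    rw [← hPcard]
    refine Nat.card_congr (Equiv.ofBijective (fun h => (⟨h.1.1.1, (hPHmem _).1 h.2⟩ : P)) ⟨?_, ?_⟩)
    · intro u v e
      exact Subtype.ext (Subtype.ext (Subtype.ext (Subtype.mk.inj e)))
    · intro x
      obtain ⟨h, hh, e⟩ := hPmem x.1 x.2
      exact ⟨⟨h, hh⟩, Subtype.ext e⟩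
  haveI : IsCyclic PH := isCyclic_of_prime_card hPHc
  let φ : H →* MulAut PH := MulAut.conjNormal
  haveI : Fact (Nat.Prime (Nat.card PH)) := ⟨by rw [hPHc]; norm_num⟩
  haveI hAc : IsCyclic (MulAut PH) := isCyclic_of_surjective (IsCyclic.mulAutMulEquiv PH).symm
    (IsCyclic.mulAutMulEquiv PH).symm.surjective
  have hAcard : Nat.card (MulAut PH) = 16 := by
    rw [IsCyclic.card_mulAut, hPHc, Nat.totient_prime (by norm_num : Nat.Prime 17)]
  have hker : ∀ h ∈ φ.ker, h ∈ PH := by
    intro h hh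
    rw [hPHmem]
    have hcomm : ∀ x ∈ P, h.1.1 * x = x * h.1.1 := fun x hx => by
      obtain ⟨u, hu, rfl⟩ := hPmem x hx
      have h1 : φ h ⟨u, hu⟩ = ⟨u, hu⟩ := by rw [MonoidHom.mem_ker.1 hh]; rfl
      have h2 := congrArg (fun v : PH => (v : H).1.1) h1
      simp only [φ, MulAut.conjNormal_apply] at h2
      exact mul_inv_eq_iff_eq_mul.1 h2
    obtain ⟨n, hn⟩ : ∃ n, orderOf h.1.1 = n := ⟨_, rfl⟩
    have hn0 : n ≠ 0 := hn ▸ (orderOf_pos _).ne'
    have hprimes : ∀ q : ℕ, q.Prime → q ∣ n → q = 17 := by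
      intro q hq hqn
      by_contra hne
      obtain ⟨t, htdef⟩ : ∃ t, t = h.1.1 ^ (n / q) := ⟨_, rfl⟩
      have hto : orderOf t = q := by
        rw [htdef, ← hn, orderOf_pow_orderOf_div (hn ▸ hn0) (hn ▸ hqn)]
      have hta : a ∉ t.support := fun e => mem_support.1 e (by
        rw [htdef]; exact pow_apply_eq_self_of_apply_eq_self (hHa h) _)
      have htc : ∀ x ∈ P, t * x = x * t := fun x hx => by
        rw [htdef]; exact (Commute.pow_left (hcomm x hx) _).eq
      have h1 := inv_card hα hP (S := t.support)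
        (fun x hx b hb => mem_support.2 fun e => mem_support.1 hb (x.injective (by
          rw [← Perm.mul_apply, ← htc x hx, Perm.mul_apply, e])))
        (fun b hb => hmove b (fun e => hta (e ▸ hb))) (hle34 _ hta)
      obtain ⟨m, hm⟩ := cycleType_prime_order (σ := t) (hto.symm ▸ hq)
      rw [hto] at hm
      have hsum : t.support.card = (m + 1) * q := by
        rw [← sum_cycleType, hm, Multiset.sum_replicate, smul_eq_mul]
      have hdvd : q ∣ t.support.card := ⟨m + 1, by rw [hsum, mul_comm]⟩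
      rcases h1 with h1 | h1 | h1
      · rw [hsum] at h1
        exact mul_ne_zero (Nat.succ_ne_zero m) hq.ne_zero h1
      · exact hne ((Nat.prime_dvd_prime_iff_eq hq (by norm_num)).1 (h1 ▸ hdvd))
      · have hq2 : q = 2 := by
          have hd : q ∣ 2 * 17 := by rw [h1] at hdvd; exact hdvd
          rcases hq.dvd_mul.1 hd with e | e
          · exact (Nat.prime_dvd_prime_iff_eq hq Nat.prime_two).1 e
          · exact absurd ((Nat.prime_dvd_prime_iff_eq hq (by norm_num)).1 e) hne
        subst hq2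
        have hm17 : m + 1 = 17 := by omega
        have hs := sign_of_cycleType t
        rw [hm, hm17, Multiset.sum_replicate, Multiset.card_replicate] at hs
        have he : sign t = 1 := mem_alternatingGroup.1 (htdef ▸ Subgroup.pow_mem _ (hHA h) _)
        rw [he] at hs
        exact absurd hs (by decide)
    obtain ⟨k, hk⟩ : ∃ k, n = 17 ^ k :=
      ⟨_, Nat.eq_prime_pow_of_unique_prime_dvd hn0 fun {q} hq hqn => hprimes q hq hqn⟩
    exact hall _ (hHI h) (hHa h) k (by rw [← hk, ← hn]; exact pow_orderOf_eq_one _)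
  have hHdvd : Nat.card H ∣ 17 * 16 := by
    rw [Subgroup.card_eq_card_quotient_mul_card_subgroup φ.ker, mul_comm 17 16, ← hAcard]
    conv_rhs => rw [← hPHc]
    exact Nat.mul_dvd_mul
      ((Nat.card_congr (QuotientGroup.quotientKerEquivRange φ).toEquiv).symm ▸ Subgroup.card_subgroup_dvd_card _)
      (Subgroup.card_dvd_of_le hker)
  obtain ⟨j, hj⟩ : 17 ∣ Nat.card H := hPHc ▸ Subgroup.card_subgroup_dvd_card PH
  have hj16 : j ∣ 2 ^ 4 := Nat.dvd_of_mul_dvd_mul_left (by norm_num : 0 < 17) (hj ▸ hHdvd)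
  obtain ⟨i, -, rfl⟩ := (Nat.dvd_prime_pow Nat.prime_two).1 hj16
  -- a normal subgroup of order 595 containing `P`
  obtain ⟨N, hNP, hNc⟩ : ∃ N : Subgroup K, P.subgroupOf K ≤ N ∧ Nat.card N = 595 := by
    rcases Nat.eq_zero_or_pos i with rfl | hi
    · exact ⟨⊤, le_top, by rw [Subgroup.card_top, hKcard, hj]; norm_num⟩
    · obtain ⟨T0⟩ : Nonempty (Sylow 2 H) := inferInstance
      have hfac : (17 * 2 ^ i).factorization 2 = i := by
        rw [Nat.factorization_mul (by norm_num) (by positivity), Finsupp.add_apply,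
          Nat.factorization_eq_zero_of_not_dvd (by norm_num), zero_add, Nat.Prime.factorization_pow Nat.prime_two]
        simp
      have hT0 : Nat.card T0 = 2 ^ i := by rw [T0.card_eq_multiplicity, hj, hfac]
      obtain ⟨T, hT⟩ : ∃ T : Sylow 2 K, (T : Subgroup K) = (T0 : Subgroup H).map H.subtype := by
        have h1 : Nat.card ((T0 : Subgroup H).map H.subtype) = 2 ^ (Nat.card K).factorization 2 := by
          rw [Subgroup.card_map_of_injective H.subtype_injective, hT0, hKcard, hj,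
            Nat.factorization_mul (by norm_num) (by positivity), Finsupp.add_apply,
            Nat.factorization_eq_zero_of_not_dvd (n := 35) (by norm_num), zero_add, hfac]
        exact ⟨Sylow.ofCard _ h1, rfl⟩
      haveI : IsCyclic T0 := by
        refine isCyclic_of_injective (φ.comp (T0 : Subgroup H).subtype) ((injective_iff_map_eq_one _).2 fun t ht => ?_)
        have h1 : orderOf (t : H) ∣ 17 := hPHc ▸ Subgroup.orderOf_dvd_natCard _ (hker _ ht)
        have h2 : orderOf (t : H) ∣ 2 ^ i := hT0 ▸ Subgroup.orderOf_dvd_natCard _ t.2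
        exact Subtype.ext (orderOf_eq_one_iff.1 (Nat.eq_one_of_dvd_coprimes
          (Nat.Coprime.pow_right _ (by norm_num)) h1 h2))
      haveI hTc : IsCyclic T := isCyclic_of_surjective
        ((MulEquiv.subgroupCongr hT).symm.toMonoidHom.comp
          ((T0 : Subgroup H).equivMapOfInjective _ H.subtype_injective).toMonoidHom)
        ((MulEquiv.subgroupCongr hT).symm.surjective.comp
          ((T0 : Subgroup H).equivMapOfInjective _ H.subtype_injective).surjective)
      have hmin : (Nat.card K).minFac = 2 := by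
        rw [Nat.minFac_eq_two_iff, hKcard, hj]
        exact Dvd.dvd.mul_left (Dvd.dvd.mul_left (dvd_pow_self 2 (by omega)) _) _
      have hTcard : Nat.card T = 2 ^ i := by
        rw [show Nat.card T = Nat.card ↥(T : Subgroup K) from rfl, hT,
          Subgroup.card_map_of_injective H.subtype_injective, hT0]
      set f := MonoidHom.transferSylow T (IsCyclic.normalizer_le_centralizer hmin hTc) with hf
      have hcomp : f.ker.IsComplement' (T : Subgroup K) := IsCyclic.isComplement' hmin hTc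
      refine ⟨f.ker, fun x hx => ?_, ?_⟩
      · have h1 : orderOf (f x) ∣ 2 ^ i := hTcard ▸ orderOf_dvd_natCard _
        have h2 : orderOf (f x) ∣ 17 := (orderOf_map_dvd f x).trans (by
          rw [← hPcard, ← Nat.card_congr (Subgroup.subgroupOfEquivOfLe hPK).toEquiv]
          exact Subgroup.orderOf_dvd_natCard _ hx)
        exact orderOf_eq_one_iff.1 (Nat.eq_one_of_dvd_coprimes
          (Nat.Coprime.pow_left _ (by norm_num)) h1 h2)
      · have h1 := hcomp.card_mul
        rw [show Nat.card ↥(T : Subgroup K) = 2 ^ i from hTcard, hKcard, hj, ← mul_assoc] at h1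
        exact (mul_left_injective₀ (pow_ne_zero i (two_ne_zero (α := ℕ)))) h1
  -- its Sylow 5-subgroup is centralized by `P`
  obtain ⟨R⟩ : Nonempty (Sylow 5 N) := inferInstance
  have hR5 : Nat.card R = 5 := by
    rw [R.card_eq_multiplicity, hNc, show (595 : ℕ) = 5 ^ 1 * 119 by norm_num,
      Nat.factorization_mul (by norm_num) (by norm_num), Finsupp.add_apply,
      Nat.Prime.factorization_pow (by norm_num), Nat.factorization_eq_zero_of_not_dvd (n := 119) (by norm_num)]
    simp
  have hRn : (R : Subgroup N).Normal := by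
    have h1 : (R : Subgroup N).index = 119 := by
      have := (R : Subgroup N).card_mul_index
      rw [show Nat.card ↥(R : Subgroup N) = 5 from hR5, hNc] at this
      omega
    have h2 : Nat.card (Sylow 5 N) ∈ Nat.divisors 119 :=
      Nat.mem_divisors.2 ⟨h1 ▸ R.card_dvd_index, by norm_num⟩
    have h3 : Nat.card (Sylow 5 N) % 5 = 1 := card_sylow_modEq_one 5 N
    rw [show Nat.divisors 119 = {1, 7, 17, 119} by decide] at h2
    simp only [Finset.mem_insert, Finset.mem_singleton] at h2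
    have h4 : Nat.card (Sylow 5 N) = 1 := by omega
    haveI : Subsingleton (Sylow 5 N) := (Nat.card_eq_one_iff_unique.1 h4).1
    exact Sylow.normal_of_subsingleton R
  obtain ⟨r, hr⟩ := exists_prime_orderOf_dvd_card' (G := ↥(R : Subgroup N)) 5 hR5.symm.dvd
  haveI : IsCyclic ↥(R : Subgroup N) := isCyclic_of_prime_card hR5
  have hra : r.1.1.1 a = a := by
    refine huniq _ fun x hx => ?_
    obtain ⟨u, hu⟩ : ∃ u : N, u.1.1 = x := ⟨⟨⟨x, hPK hx⟩, hNP hx⟩, rfl⟩
    have h1 : orderOf u ∣ 17 := by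
      have hx17 : x ^ 17 = 1 := congrArg Subtype.val
        (hPcard ▸ pow_card_eq_one' : (⟨x, hx⟩ : P) ^ 17 = 1)
      exact orderOf_dvd_of_pow_eq_one (Subtype.ext (Subtype.ext (by
        rw [SubmonoidClass.coe_pow, SubmonoidClass.coe_pow, hu, hx17]; rfl)))
    let ψ : N →* MulAut ↥(R : Subgroup N) := MulAut.conjNormal
    have h2 : orderOf (ψ u) ∣ 4 := by
      have := orderOf_dvd_natCard (ψ u)
      rwa [IsCyclic.card_mulAut, show Nat.card ↥(R : Subgroup N) = 5 from hR5,
        Nat.totient_prime (by norm_num : Nat.Prime 5)] at this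
    have h3 : ψ u = 1 := orderOf_eq_one_iff.1
      (Nat.eq_one_of_dvd_coprimes (by norm_num : Nat.Coprime 17 4) ((orderOf_map_dvd ψ u).trans h1) h2)
    have h4 : ψ u r = r := by rw [h3]; rfl
    have h5 := congrArg (fun v : ↥(R : Subgroup N) => v.1.1.1) h4
    simp only [ψ, MulAut.conjNormal_apply] at h5
    have h6 : x * r.1.1.1 = r.1.1.1 * x := by
      rw [← hu]; exact mul_inv_eq_iff_eq_mul.1 h5
    rw [← Perm.mul_apply, h6, Perm.mul_apply, hPfix x hx]
  have h1 : orderOf r.1.1 ∣ Nat.card H := Subgroup.orderOf_dvd_natCard _ (hHdef ▸ hra)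
  rw [Subgroup.orderOf_coe, Subgroup.orderOf_coe, hr, hj] at h1
  rcases (by norm_num : Nat.Prime 5).dvd_mul.1 h1 with e | e
  · norm_num at e
  · exact absurd ((Nat.prime_dvd_prime_iff_eq (by norm_num) Nat.prime_two).1
      ((by norm_num : Nat.Prime 5).dvd_of_dvd_pow e)) (by norm_num)

end perm

/-- No finite group has exactly 35 Sylow 17-subgroups. -/
theorem result {G : Type*} [Group G] [Finite G] : Nat.card (Sylow 17 G) ≠ 35 := by
  classical
  haveI : Fact (Nat.Prime 17) := ⟨by norm_num⟩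
  intro h35
  haveI : Fintype (Sylow 17 G) := Fintype.ofFinite _
  obtain ⟨Q⟩ : Nonempty (Sylow 17 G) := inferInstance
  set φ := MulAction.toPermHom G (Sylow 17 G) with hφ
  refine no_group (by rw [← Nat.card_eq_fintype_card]; exact h35) φ.range ((Q : Subgroup G).map φ) Q
    (fun c => ?_) (Subgroup.map_le_range _ _) (Q.2.map _) ?_ ?_ ?_ ?_
  · obtain ⟨g, hg⟩ := MulAction.exists_smul_eq G Q c
    exact ⟨φ g, ⟨g, rfl⟩, hg⟩
  · rintro _ ⟨g, hg, rfl⟩
    exact Sylow.smul_eq_iff_mem_normalizer.2 (Subgroup.le_normalizer hg)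
  · rintro _ ⟨g, rfl⟩ hga k hk
    have hgN : g ∈ Subgroup.normalizer ((Q : Subgroup G) : Set G) := Sylow.smul_eq_iff_mem_normalizer.1 hga
    set N := Subgroup.normalizer ((Q : Subgroup G) : Set G)
    haveI : ((Q : Subgroup G).subgroupOf N).Normal := Subgroup.normal_in_normalizer
    obtain ⟨m, hm⟩ : ∃ m, ((Q : Subgroup G).subgroupOf N).index = m := ⟨_, rfl⟩
    have hgm : g ^ m ∈ (Q : Subgroup G) := by
      have := Subgroup.pow_index_mem ((Q : Subgroup G).subgroupOf N) ⟨g, hgN⟩
      rwa [hm] at this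
    have hm17 : ¬ 17 ∣ m := fun h => Q.not_dvd_index (h.trans (hm ▸ Subgroup.relIndex_dvd_index_of_le
      Subgroup.le_normalizer))
    have hcop : (17 ^ k).Coprime m :=
      Nat.Coprime.pow_left _ ((Nat.Prime.coprime_iff_not_dvd (by norm_num)).2 hm17)
    have : φ g ∈ Subgroup.zpowers (φ g ^ m) := by
      rw [mem_zpowers_pow_iff]
      exact Nat.Coprime.coprime_dvd_right (orderOf_dvd_of_pow_eq_one hk) hcop.symm
    refine (Subgroup.zpowers_le.2 ?_) this
    exact ⟨g ^ m, hgm, map_pow φ g m⟩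
  · rintro _ ⟨g, rfl⟩ hga _ ⟨x, hx, rfl⟩
    refine ⟨g * x * g⁻¹, ?_, by simp⟩
    exact (Subgroup.mem_normalizer_iff.1 (Sylow.smul_eq_iff_mem_normalizer.1 hga) x).1 hx
  · intro b hb
    have h1 : (Q : Subgroup G) ≤ b := Q.2.sylow_mem_fixedPoints_iff.1 fun x => hb _ ⟨x.1, x.2, rfl⟩
    exact Sylow.ext (Q.3 b.2 h1)

end Cfsg.Agent.S4236
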