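import Cfsg.Statements.S4237
-- import your own Cfsg.Agent.* helpers here
import Cfsg.Agent.Lib.PGroup.Kulakoff
import Cfsg.Agent.Lib.PGroup.MillerCount
set_option autoImplicit false
open Cfsg

namespace Cfsg.Agent.S4237


/-- Let G be a finite group, p a prime and a a natural number such that p^(a+1) divides the order of G. Then the number of subgroups of G of order p^a is congruent to 1 or to 1 + p modulo p². -/
theorem result {G : Type*} [Group G] [Finite G] (p a : ℕ) (hp : p.Prime) (hdvd : p ^ (a + 1) ∣ Nat.card G) :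
    Nat.card {H : Subgroup G // Nat.card H = p ^ a} ≡ 1 [MOD p ^ 2] ∨
      Nat.card {H : Subgroup G // Nat.card H = p ^ a} ≡ 1 + p [MOD p ^ 2] := by
  haveI : Fact p.Prime := ⟨hp⟩
  have hmod := CfsgLib.PGroup.card_subgroups_prime_pow_modEq (G := G) p a hp
    ((pow_dvd_pow p (Nat.le_succ a)).trans hdvd)
  rcases eq_or_ne p 2 with rfl | hp2
  · unfold Nat.ModEq at hmod ⊢
    omega
  rcases Nat.eq_zero_or_pos a with rfl | ha
  · refine Or.inl ?_
    rw [show Nat.card {H : Subgroup G // Nat.card H = p ^ 0} = 1 by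
      rw [Nat.card_eq_one_iff_exists]
      exact ⟨⟨⊥, by simp⟩, fun H => Subtype.ext (Subgroup.eq_bot_of_card_eq _ (H.2.trans (pow_zero p)))⟩]
  have h := CfsgLib.PGroup.Kulakoff.card_subgroups_add (G := G) (p := p) a hdvd
  obtain ⟨S⟩ : Nonempty (Sylow p G) := inferInstance
  by_cases hc : IsCyclic (S : Subgroup G)
  · left
    have hall : Nat.card {H : Subgroup G // IsCyclic H ∧ Nat.card H = p ^ (a + 1)} =
        Nat.card {H : Subgroup G // Nat.card H = p ^ (a + 1)} := by
      refine Nat.card_congr (Equiv.subtypeEquivRight fun H => and_iff_right_of_imp fun hH => ?_)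
      obtain ⟨T, hT⟩ := (IsPGroup.of_card hH).exists_le_sylow
      haveI : IsCyclic (T : Subgroup G) := isCyclic_of_surjective _ (S.equiv T).surjective
      exact isCyclic_of_injective (Subgroup.inclusion hT) (Subgroup.inclusion_injective hT)
    obtain ⟨d, hd⟩ : ∃ d, Nat.card {H : Subgroup G // Nat.card H = p ^ (a + 1)} = 1 + p * d := by
      have h1 := CfsgLib.PGroup.card_subgroups_prime_pow_modEq (G := G) p (a + 1) hp hdvd
      refine ⟨Nat.card {H : Subgroup G // Nat.card H = p ^ (a + 1)} / p,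
        (Nat.mod_add_div _ p).symm.trans ?_⟩
      rw [h1, Nat.mod_eq_of_lt hp.one_lt]
    rw [hall, hd, mul_add, mul_one, ← mul_assoc, ← pow_two, ← add_assoc] at h
    refine Nat.ModEq.add_right_cancel' p ?_
    exact Nat.ModEq.trans (by simp [Nat.ModEq]) h
  · right
    obtain ⟨d, hd⟩ : p ∣ Nat.card {H : Subgroup G // IsCyclic H ∧ Nat.card H = p ^ (a + 1)} := by
      refine CfsgLib.PGroup.Kulakoff.prime_dvd_of_pow_dvd_totient_mul (s := a + 1) (by omega) ?_
      rw [← CfsgLib.PGroup.Miller.card_orderOf_eq_mul]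
      exact CfsgLib.PGroup.Miller.dvd_card_orderOf_of_sylow hp2 S hc (by omega)
    rw [hd, ← mul_assoc, ← pow_two] at h
    exact Nat.ModEq.trans (by simp [Nat.ModEq]) h

end Cfsg.Agent.S4237
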