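import Cfsg.Statements.S4238
-- import your own Cfsg.Agent.* helpers here
import Mathlib
import Cfsg.Agent.Lib.Fusion.Transfer
import Cfsg.Agent.Lib.Coprime.Action
import Cfsg.Agent.Lib.Coprime.Core

set_option autoImplicit false
open Cfsg

namespace Cfsg.Agent.S4238

open Subgroup CfsgLib.Coprime
open CfsgLib.Fusion hiding conjBy mem_conjBy
open scoped commutatorElement

universe u
variable {G : Type u} [Group G] [Finite G] {p : ℕ} [hp : Fact p.Prime]

/-- A `p`-subgroup `Q` with an element of `q`-power order normalizing, not centralizing it. -/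
def Bad (p : ℕ) (G : Type u) [Group G] (n : ℕ) : Prop :=
  ∃ (q : ℕ) (Q : Subgroup G) (g : G), q.Prime ∧ q ≠ p ∧ IsPGroup p Q ∧ (∃ k, g ^ q ^ k = 1) ∧
    g ∈ normalizer (Q : Set G) ∧ g ∉ centralizer (Q : Set G) ∧ n = Nat.card Q + orderOf g

theorem exists_bad (h : ¬ Cfsg.HasNormalPComplement p G) : ∃ n, Bad p G n := by
  classical
  let P : Sylow p G := default
  have h1 : ¬ LocallyPNilpotentAction p (P : Subgroup G) :=
    fun hh => h (hasNormalPComplement_of_locallyPNilpotentAction P hh)
  unfold LocallyPNilpotentAction at h1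
  push Not at h1
  obtain ⟨Q, hQ, g, hg, hgp, hgc⟩ := h1
  by_contra hno
  push Not at hno
  refine hgc ((le_of_forall_prime_pow (H := zpowers g) (C := centralizer (Q : Set G))
    fun q hq x hx hk => ?_) (mem_zpowers g))
  by_cases hx1 : x = 1
  · subst hx1; exact one_mem _
  by_contra hxc
  refine hno _ ⟨q, Q, x, hq, ?_, P.2.to_le hQ, hk, zpowers_le.2 hg hx, hxc, rfl⟩
  rintro rfl
  obtain ⟨k, hk⟩ := hk
  have hd : orderOf x ∣ orderOf g := by
    obtain ⟨i, rfl⟩ := mem_zpowers_iff.1 hx
    exact orderOf_dvd_of_mem_zpowers ⟨i, rfl⟩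
  exact hx1 (orderOf_eq_one_iff.1 (Nat.eq_one_of_dvd_coprimes (hgp.pow_right k) hd
    (orderOf_dvd_of_pow_eq_one hk)))

/-- The section without an element of exponent order, given an abelian faithful image. -/
theorem no_exponent_element {K : Type u} [Group K] [Finite K] {q : ℕ} [hq : Fact q.Prime]
    (hqp : q ≠ p) (V : Subgroup K) [V.Normal] (hV : IsPGroup p V) (hVab : IsMulCommutative V)
    (hV1 : V ≠ ⊥) (g : K) (hg : orderOf g = q) (hcard : Nat.card K = Nat.card V * q)
    (hfix : V ⊓ centralizer (zpowers g : Set K) = ⊥) :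
    Cfsg.pPrimeCore p K = ⊥ ∧ ¬ ∃ k : K, orderOf k = Monoid.exponent K := by
  obtain ⟨a, ha⟩ := hV.exists_card_eq
  have hcopq : (p ^ a).Coprime q :=
    Nat.Coprime.pow_left _ ((Nat.coprime_primes hp.out hq.out).2 hqp.symm)
  have hidx : V.index = q := by
    have h1 := V.card_mul_index
    rw [hcard] at h1
    exact Nat.eq_of_mul_eq_mul_left Nat.card_pos h1
  have hmemV : ∀ b : K, (orderOf b).Coprime q → b ∈ V := by
    intro b hb
    rw [← QuotientGroup.eq_one_iff (N := V), ← orderOf_eq_one_iff]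
    exact Nat.eq_one_of_dvd_coprimes hb (orderOf_map_dvd (QuotientGroup.mk' V) b)
      ((_root_.orderOf_dvd_natCard _).trans (by rw [← Subgroup.index_eq_card, hidx]))
  have hcardg : Nat.card (zpowers g) = q := by rw [Nat.card_zpowers, hg]
  -- Sylow `q`-subgroups are conjugate to `⟨g⟩`
  have hconj : ∀ A : Subgroup K, Nat.card A = q →
      ∃ x : K, conjBy x A = zpowers g := by
    intro A hA
    have hfac : (Nat.card K).factorization q = 1 := by
      rw [hcard, ha, Nat.factorization_mul (pow_ne_zero _ hp.out.ne_zero) hq.out.ne_zero,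
        Finsupp.add_apply, Nat.factorization_eq_zero_of_not_dvd, hq.out.factorization_self]
      exact (hq.out.coprime_iff_not_dvd).1 hcopq.symm
    have hsyl : ∀ B : Subgroup K, Nat.card B = q → ∃ S : Sylow q K, (S : Subgroup K) = B := by
      intro B hB
      obtain ⟨S, hS⟩ := (IsPGroup.of_card (n := 1) (by rw [hB, pow_one]) :
        IsPGroup q B).exists_le_sylow
      exact ⟨S, (Subgroup.eq_of_le_of_card_ge hS (by
        rw [S.card_eq_multiplicity, hfac, pow_one, hB])).symm⟩
    obtain ⟨S, hS⟩ := hsyl A hA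
    obtain ⟨T, hT⟩ := hsyl (zpowers g) hcardg
    obtain ⟨x, hx⟩ := MulAction.exists_smul_eq K S T
    refine ⟨x, ?_⟩
    rw [conjBy_eq_smul, ← hS, ← hT, ← hx]
    rfl
  -- no element of order `p` commutes with an element of order `q`
  have hno : ∀ a b : K, orderOf a = q → b ∈ V → Commute a b → b = 1 := by
    intro a b ha' hb hab
    obtain ⟨x, hx⟩ := hconj (zpowers a) (by rw [Nat.card_zpowers, ha'])
    have hb' : x * b * x⁻¹ ∈ V ⊓ centralizer (zpowers g : Set K) := by
      refine ⟨‹V.Normal›.conj_mem b hb x, Subgroup.mem_centralizer_iff.2 fun w hw => ?_⟩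
      rw [← hx, SetLike.mem_coe, mem_conjBy] at hw
      obtain ⟨i, hi⟩ := mem_zpowers_iff.1 hw
      have hw' : w = x * a ^ i * x⁻¹ := by rw [hi]; group
      rw [hw']
      calc x * a ^ i * x⁻¹ * (x * b * x⁻¹) = x * (a ^ i * b) * x⁻¹ := by group
        _ = x * (b * a ^ i) * x⁻¹ := by rw [(hab.zpow_left i).eq]
        _ = x * b * x⁻¹ * (x * a ^ i * x⁻¹) := by group
    rw [hfix, Subgroup.mem_bot] at hb'
    simpa using hb'
  refine ⟨?_, ?_⟩
  · refine le_bot_iff.1 (sSup_le fun R hR => ?_)
    obtain ⟨hRn, hRc⟩ := hR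
    intro r hr
    rw [Subgroup.mem_bot]
    by_contra hr1
    have hdis : Disjoint R V := disjoint_iff.2 (disjoint_of_coprime_card
      (by rw [ha]; exact hRc.pow_right a))
    have hrq : orderOf r = q := by
      have h1 : orderOf r ∣ p ^ a * q := ha ▸ hcard ▸ _root_.orderOf_dvd_natCard r
      have h2 : (orderOf r).Coprime (p ^ a) :=
        (hRc.coprime_dvd_left (Subgroup.orderOf_dvd_natCard _ hr)).pow_right a
      exact ((Nat.dvd_prime hq.out).1 (h2.dvd_of_dvd_mul_left h1)).resolve_left
        fun e => hr1 (orderOf_eq_one_iff.1 e)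
    exact hV1 (eq_bot_iff.2 fun b hb => Subgroup.mem_bot.2 (hno r b hrq hb
      (Subgroup.commute_of_normal_of_disjoint R V hRn inferInstance hdis r b hr hb)))
  · rintro ⟨k, hk⟩
    have hqk : q ∣ orderOf k := hk ▸ hg ▸ Monoid.order_dvd_exponent g
    have hpk : p ∣ orderOf k := by
      obtain ⟨b, hb, hb1⟩ := V.ne_bot_iff_exists_ne_one.1 hV1 |> fun ⟨b, hb⟩ =>
        (⟨b.1, b.2, fun e => hb (Subtype.ext e)⟩ : ∃ b, b ∈ V ∧ b ≠ 1)
      have hd : orderOf b ∣ p ^ a := ha ▸ Subgroup.orderOf_dvd_natCard V hb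
      obtain ⟨i, -, hi⟩ := (Nat.dvd_prime_pow hp.out).1 hd
      have hi0 : i ≠ 0 := fun e => hb1 (orderOf_eq_one_iff.1 (by rw [hi, e, pow_zero]))
      exact (dvd_pow_self p hi0).trans (hk ▸ hi ▸ Monoid.order_dvd_exponent b)
    have h0 := (orderOf_pos k).ne'
    set a' := k ^ (orderOf k / q) with hadef
    set b := k ^ (orderOf k / p) with hbdef
    have ha' : orderOf a' = q := orderOf_pow_orderOf_div h0 hqk
    have hb' : orderOf b = p := orderOf_pow_orderOf_div h0 hpk
    have hbV : b ∈ V := hmemV b (by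
      rw [hb']; exact (Nat.coprime_primes hp.out hq.out).2 hqp.symm)
    have hb1 := hno a' b ha' hbV (Commute.pow_pow_self k _ _)
    rw [hb1, orderOf_one] at hb'
    exact hp.out.one_lt.ne hb'

/-- A failure of `p`-nilpotency gives a reduced section without an element of exponent order. -/
theorem exists_section (h : ¬ Cfsg.HasNormalPComplement p G) :
    ∃ (H : Subgroup G) (N : Subgroup H) (_ : N.Normal), Cfsg.pPrimeCore p (H ⧸ N) = ⊥ ∧
      ¬ ∃ k : H ⧸ N, orderOf k = Monoid.exponent (H ⧸ N) := by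
  classical
  obtain ⟨q, Q, g, hq, hqp, hQ, hgk, hgn, hgc, hn⟩ := Nat.find_spec (exists_bad h)
  haveI := Fact.mk hq
  have hmin : ∀ (Q' : Subgroup G) (g' : G), IsPGroup p Q' → (∃ k, g' ^ q ^ k = 1) →
      g' ∈ normalizer (Q' : Set G) → Nat.card Q' + orderOf g' < Nat.card Q + orderOf g →
      g' ∈ centralizer (Q' : Set G) := fun Q' g' h1 h2 h3 h4 => by
    by_contra h5
    exact Nat.find_min (exists_bad h) (hn ▸ h4) ⟨q, Q', g', hq, hqp, h1, h2, h3, h5, rfl⟩
  obtain ⟨k, hgk'⟩ := hgk
  obtain ⟨j, -, hj⟩ := (Nat.dvd_prime_pow hq).1 (orderOf_dvd_of_pow_eq_one hgk')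
  have hj0 : j ≠ 0 := fun e => hgc (by
    rw [orderOf_eq_one_iff.1 (show orderOf g = 1 by rw [hj, e, pow_zero])]; exact one_mem _)
  have hgq : g ^ q ∈ centralizer (Q : Set G) := by
    refine hmin Q _ hQ ⟨k, ?_⟩ ((normalizer (Q : Set G)).pow_mem hgn q) ?_
    · rw [← pow_mul, mul_comm, pow_mul, hgk', one_pow]
    · have : orderOf (g ^ q) < orderOf g := by
        rw [orderOf_pow' g hq.ne_zero, Nat.gcd_eq_right (hj ▸ dvd_pow_self q hj0)]
        exact Nat.div_lt_self (orderOf_pos g) hq.one_lt
      omega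
  set A := zpowers g with hAdef
  have hAn : A ≤ normalizer (Q : Set G) := zpowers_le.2 hgn
  have hcop : (Nat.card A).Coprime (Nat.card Q) := by
    obtain ⟨a, ha⟩ := hQ.exists_card_eq
    rw [hAdef, Nat.card_zpowers, ha, hj]
    exact ((Nat.coprime_primes hq hp.out).2 hqp).pow _ _
  haveI := hQ.isNilpotent
  have hsolv : Group.IsSolvable Q := inferInstance
  -- proper invariant subgroups are centralized
  have hprop : ∀ R : Subgroup G, R ≤ Q → R ≠ Q → A ≤ normalizer (R : Set G) →
      A ≤ centralizer (R : Set G) := by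
    intro R hR hne hRn
    refine zpowers_le.2 (hmin R g (hQ.to_le hR) ⟨k, hgk'⟩ (zpowers_le.1 hRn) ?_)
    have := lt_of_le_of_ne (Subgroup.card_le_of_le hR)
      fun e => hne (Subgroup.eq_of_le_of_card_ge hR e.ge)
    omega
  have hcle : ⁅Q, A⁆ ≤ Q := by
    rw [commutator_le]
    intro x hx a ha
    rw [commutatorElement_def, show x * a * x⁻¹ * a⁻¹ = x * (a * x⁻¹ * a⁻¹) by group]
    exact Q.mul_mem hx (conj_mem_of_le_normalizer hAn ha (Q.inv_mem hx))
  have hQA : ⁅Q, A⁆ = Q := by
    by_contra hne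
    have hc := hprop _ hcle hne (by rw [commutator_comm]; exact normalizer_commutator_ge_left A Q)
    refine hgc ((le_centralizer_of_le_centralizer_commutator hAn hcop (Or.inr hsolv) hc)
      (mem_zpowers g))
  -- the section
  set H := Q ⊔ A with hHdef
  let Qh : Subgroup H := Q.subgroupOf H
  let gh : H := ⟨g, (le_sup_right : A ≤ H) (mem_zpowers g)⟩
  have hQhn : Qh.Normal :=
    (normal_subgroupOf_iff_le_normalizer le_sup_left).2 (sup_le le_normalizer hAn)
  have hgzc : gh ^ q ∈ Subgroup.center H := by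
    rw [Subgroup.mem_center_iff]
    rintro ⟨x, hx⟩
    have hle : H ≤ centralizer ({g ^ q} : Set G) := sup_le
      (fun y hy => mem_centralizer_singleton_iff.2 ((Subgroup.mem_centralizer_iff.1 hgq y hy)))
      (zpowers_le.2 (mem_centralizer_singleton_iff.2 (Commute.self_pow g q).eq))
    exact Subtype.ext (mem_centralizer_singleton_iff.1 (hle hx))
  haveI : (zpowers (gh ^ q)).Normal := ⟨fun x hx y => by
    have hxc : x ∈ Subgroup.center H := zpowers_le.2 hgzc hx
    rwa [Subgroup.mem_center_iff.1 hxc y, mul_inv_cancel_right]⟩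
  haveI := hQhn
  let N : Subgroup H := ⁅Qh, Qh⁆ ⊔ zpowers (gh ^ q)
  haveI hN : N.Normal := inferInstance
  refine ⟨H, N, hN, ?_⟩
  let π := QuotientGroup.mk' N
  have hπ := QuotientGroup.mk'_surjective N
  let V := Qh.map π
  haveI hVn : V.Normal := hQhn.map π hπ
  have hQhp : IsPGroup p Qh := hQ.of_equiv (Subgroup.subgroupOfEquivOfLe le_sup_left).symm
  have hVp : IsPGroup p V := hQhp.map π
  have hVab : IsMulCommutative V := ⟨⟨fun x y => by
    obtain ⟨a, ha, hax⟩ := x.2
    obtain ⟨b, hb, hby⟩ := y.2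
    refine Subtype.ext ?_
    show (x : H ⧸ N) * y = y * x
    rw [← hax, ← hby, ← commutatorElement_eq_one_iff_mul_comm, ← map_commutatorElement,
      QuotientGroup.mk'_apply, QuotientGroup.eq_one_iff]
    exact (le_sup_left : ⁅Qh, Qh⁆ ≤ N) (commutator_mem_commutator ha hb)⟩⟩
  let g₁ : H ⧸ N := π gh
  have hAh : A.subgroupOf H = zpowers gh := by
    apply Subgroup.map_injective H.subtype_injective
    rw [map_subgroupOf_eq_of_le le_sup_right, MonoidHom.map_zpowers]
    rfl
  have hQhA : ⁅Qh, zpowers gh⁆ = Qh := by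
    apply Subgroup.map_injective H.subtype_injective
    rw [map_commutator, ← hAh, map_subgroupOf_eq_of_le le_sup_left,
      map_subgroupOf_eq_of_le le_sup_right, hQA]
  have hVA : ⁅V, zpowers g₁⁆ = V := by
    rw [← MonoidHom.map_zpowers, ← map_commutator, hQhA]
  have hV1 : V ≠ ⊥ := by
    intro e
    have hle : Qh ≤ N := by
      intro x hx
      have : π x ∈ V := Subgroup.mem_map_of_mem π hx
      rwa [e, Subgroup.mem_bot, QuotientGroup.mk'_apply, QuotientGroup.eq_one_iff] at this
    -- then `g` centralizes `Q`, as it centralizes the derived subgroup of `Q`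
    have hNmap : N.map H.subtype ≤ centralizer (A : Set G) := by
      rw [Subgroup.map_sup, map_commutator, map_subgroupOf_eq_of_le le_sup_left,
        MonoidHom.map_zpowers]
      refine sup_le ?_ (zpowers_le.2 ?_)
      · refine Subgroup.le_centralizer_iff.1 (hprop _ (commutator_le_self Q) ?_ ?_)
        · intro e'
          have hb : Q = ⊥ := eq_bot_of_le_commutator le_rfl e'.ge
          refine hgc (Subgroup.mem_centralizer_iff.2 fun x hx => ?_)
          rw [hb, SetLike.mem_coe, Subgroup.mem_bot] at hx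
          rw [hx, one_mul, mul_one]
        · intro a ha
          refine Subgroup.mem_normalizer_iff_map_conj_eq.2 ?_
          rw [Subgroup.map_commutator, Subgroup.mem_normalizer_iff_map_conj_eq.1 (hAn ha)]
      · refine Subgroup.mem_centralizer_iff.2 fun x hx => ?_
        obtain ⟨i, rfl⟩ := mem_zpowers_iff.1 hx
        exact ((Commute.self_pow g q).zpow_left i).eq
    have hQc : Q ≤ centralizer (A : Set G) := by
      rw [← map_subgroupOf_eq_of_le (le_sup_left : Q ≤ H)]
      exact (Subgroup.map_mono hle).trans hNmap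
    exact hgc (Subgroup.le_centralizer_iff.1 hQc (mem_zpowers g))
  have hg1 : g₁ ≠ 1 := by
    intro e
    apply hV1
    rw [← hVA, e, Subgroup.zpowers_one_eq_bot, commutator_bot_right]
  have hgpow : g₁ ^ q = 1 := by
    rw [← map_pow, QuotientGroup.mk'_apply, QuotientGroup.eq_one_iff]
    exact (le_sup_right : zpowers (gh ^ q) ≤ N) (mem_zpowers _)
  have hgo : orderOf g₁ = q := orderOf_eq_prime hgpow hg1
  obtain ⟨a, ha⟩ := hVp.exists_card_eq
  have hcopV : (Nat.card (zpowers g₁)).Coprime (Nat.card V) := by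
    rw [Nat.card_zpowers, hgo, ha]
    exact ((Nat.coprime_primes hq hp.out).2 hqp).pow_right a
  have hgen : V ⊔ zpowers g₁ = ⊤ := by
    rw [← MonoidHom.map_zpowers, ← Subgroup.map_sup, ← hAh,
      ← Subgroup.subgroupOf_sup le_sup_left le_sup_right, Subgroup.subgroupOf_self,
      Subgroup.map_top_of_surjective _ hπ]
  have hcard : Nat.card (H ⧸ N) = Nat.card V * q := by
    rw [← (isComplement'_of_disjoint_and_mul_eq_univ
      (disjoint_iff.2 (disjoint_of_coprime_card hcopV.symm))
      (by rw [← Subgroup.normal_mul, hgen, Subgroup.coe_top])).card_mul_card,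
      Nat.card_zpowers, hgo]
  have hfix : V ⊓ centralizer (zpowers g₁ : Set (H ⧸ N)) = ⊥ := by
    have h1 := centralizer_inf_commutator_eq_bot (A := zpowers g₁) hVab
      (zpowers_le.2 (by rw [Subgroup.normalizer_eq_top]; trivial)) hcopV
    rw [hVA] at h1
    rw [← h1, inf_right_comm, inf_idem]
  exact no_exponent_element hqp V hVp hVab hV1 g₁ hgo hcard hfix

/-- Let G be a finite group and p a prime. Then G has a normal p-complement if and only if every section K = H/N of G (N a normal subgroup of a subgroup H) whose largest normal subgroup of order prime to p is trivial contains an element whose order equals the exponent of K. -/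
theorem result {G : Type*} [Group G] [Finite G] (p : ℕ) [Fact p.Prime] :
    Cfsg.HasNormalPComplement p G ↔
      ∀ (H : Subgroup G) (N : Subgroup H) [N.Normal], Cfsg.pPrimeCore p (H ⧸ N) = ⊥ →
        ∃ k : H ⧸ N, orderOf k = Monoid.exponent (H ⧸ N) := by
  constructor
  · intro h H N _ hcore
    have h1 : Cfsg.HasNormalPComplement p (H ⧸ N) :=
      hasNormalPComplement_of_surjective (QuotientGroup.mk' N) (QuotientGroup.mk'_surjective N)
        (hasNormalPComplement_subgroup H h)
    obtain ⟨P, M, hMn, hMc⟩ := h1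
    have hM : M = ⊥ := by
      rw [eq_bot_iff, ← hcore]
      refine CfsgLib.Coprime.le_pPrimeCore (hN := hMn) ?_
      rw [← hMc.index_eq_card]
      exact ((Fact.out : p.Prime).coprime_iff_not_dvd.2 P.not_dvd_index).symm
    have hp' : IsPGroup p (H ⧸ N) := by
      subst hM
      obtain ⟨n, hn⟩ := P.2.exists_card_eq
      refine IsPGroup.of_card (n := n) ?_
      rw [← hn, ← hMc.card_mul_card, Subgroup.card_bot, one_mul]
    obtain ⟨n, hn⟩ := hp'.exists_card_eq
    obtain ⟨m, -, hm⟩ := (Nat.dvd_prime_pow (Fact.out : p.Prime)).1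
      (hn ▸ (Group.exponent_dvd_nat_card : Monoid.exponent (H ⧸ N) ∣ Nat.card (H ⧸ N)))
    obtain ⟨k, hk⟩ := (Fact.out : p.Prime).exists_orderOf_eq_pow_factorization_exponent (H ⧸ N)
    refine ⟨k, ?_⟩
    rw [hk, hm, Nat.factorization_pow, Finsupp.smul_apply,
      (Fact.out : p.Prime).factorization_self, smul_eq_mul, mul_one]
  · intro h
    by_contra hno
    obtain ⟨H, N, hN, hcore, hex⟩ := exists_section hno
    exact hex (h H N hcore)

end Cfsg.Agent.S4238
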