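import Cfsg.Statements.S4240
import Cfsg.Agent.Lib.FTHarvest.CoprimeNilpotent
import Cfsg.Agent.Lib.FT.NoMinSimple
-- import your own Cfsg.Agent.* helpers here

set_option autoImplicit false
open Cfsg

namespace Cfsg.Agent.S4240

/-- Let a finite group A act by automorphisms on a finite group G of order coprime to that of A. Suppose every maximal A-invariant proper subgroup of G is nilpotent while G is not. Then G is solvable, the order of G has the form p^a·q^b for two distinct primes p and q, and G has a normal A-invariant Sylow subgroup for some prime dividing its order. -/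
theorem result {A G : Type*} [Group A] [Group G] [Finite A] [Finite G] [MulDistribMulAction A G]
    (hcop : (Nat.card A).Coprime (Nat.card G))
    (hmax : ∀ H : Subgroup G, H ≠ ⊤ → (∀ a : A, ∀ x ∈ H, a • x ∈ H) →
      (∀ K : Subgroup G, H < K → (∀ a : A, ∀ x ∈ K, a • x ∈ K) → K = ⊤) → Group.IsNilpotent H)
    (hG : ¬ Group.IsNilpotent G) :
    Group.IsSolvable G ∧
      (∃ p q a b : ℕ, p.Prime ∧ q.Prime ∧ p ≠ q ∧ Nat.card G = p ^ a * q ^ b) ∧
      ∃ (p : ℕ) (P : Sylow p G), p.Prime ∧ p ∣ Nat.card G ∧ (P : Subgroup G).Normal ∧ (∀ a : A, ∀ x ∈ (P : Subgroup G), a • x ∈ (P : Subgroup G)) := by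
  obtain ⟨hs, hpq, p, P, hp, hd, hn, hi⟩ :=
    CfsgLib.FTHarvest.structure_of_nilpotent_invariant (A := A)
      (fun h => CfsgLib.FT.isSolvable_of_odd _ h) (fun H _ _ h => CfsgLib.FT.isSolvable_of_odd _ h) hcop
      (fun H hH hI => by
        -- a proper invariant subgroup lies in a maximal one
        haveI : Nonempty {K : Subgroup G // H ≤ K ∧ K ≠ ⊤ ∧ CfsgLib.FTHarvest.Inv A K} :=
          ⟨⟨H, le_rfl, hH, hI⟩⟩
        obtain ⟨⟨K, hHK, hK, hKI⟩, hmaxK⟩ := Finite.exists_max
          (fun K : {K : Subgroup G // H ≤ K ∧ K ≠ ⊤ ∧ CfsgLib.FTHarvest.Inv A K} => Nat.card K.1)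
        haveI := hmax K hK hKI fun L hKL hLI => by
          by_contra hL
          exact hKL.ne (Subgroup.eq_of_le_of_card_ge hKL.le (hmaxK ⟨L, hHK.trans hKL.le, hL, hLI⟩))
        exact Group.nilpotent_of_mulEquiv (Subgroup.subgroupOfEquivOfLe hHK))
      hG
  exact ⟨hs, hpq, p, P, hp, hd, hn, hi⟩

end Cfsg.Agent.S4240
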