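import Cfsg.Agent.S4251
import Cfsg.Agent.Lib.Coprime.MinimalNonNilpotent
import Cfsg.Agent.Lib.Coprime.Action
-- under Cfsg/Agent/.
import Cfsg.Statements.S4242
-- import your own Cfsg.Agent.* helpers here

set_option autoImplicit false
open Cfsg

namespace Cfsg.Agent.S4242

/-- Let G be a finite group and p a prime dividing its order. Every maximal subgroup of G of order divisible by p is nilpotent if and only if G is nilpotent, or G is a minimal non-nilpotent group, or G is the internal direct product of a normal subgroup of order p and a normal minimal non-nilpotent subgroup of order prime to p. -/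
theorem result {G : Type*} [Group G] [Finite G] (p : ℕ) (hp : p.Prime) (hpG : p ∣ Nat.card G) :
    (∀ M : Subgroup G, IsCoatom M → p ∣ Nat.card M → Group.IsNilpotent M) ↔
      (Group.IsNilpotent G ∨ Cfsg.IsMinimalNonNilpotent G ∨
        ∃ Z K : Subgroup G, Z.Normal ∧ K.Normal ∧ Z ⊓ K = ⊥ ∧ Z ⊔ K = ⊤ ∧ Nat.card Z = p ∧
          Cfsg.IsMinimalNonNilpotent K ∧ ¬ p ∣ Nat.card K) := by
  classical
  haveI : Fact p.Prime := ⟨hp⟩
  constructor
  swap
  · rintro (hn | hm | ⟨Z, K, hZn, hKn, hinf, hsup, hZc, hK, hpK⟩) M hM hpM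
    · haveI := hn; infer_instance
    · exact hm.2 M hM.1
    haveI := hZn
    haveI := hKn
    obtain ⟨x, hx⟩ := exists_prime_orderOf_dvd_card' (G := M) p hpM
    have hxZ : (x : G) ∈ Z := by
      by_contra hxZ
      have hx' : orderOf (x : G) = p := by rw [Subgroup.orderOf_coe, hx]
      have h1 : IsPGroup p ↥(Subgroup.zpowers (x : G) ⊔ Z) :=
        (IsPGroup.of_card (n := 1) (by rw [Nat.card_zpowers, hx', pow_one])).to_sup_of_normal_right
          (IsPGroup.of_card (n := 1) (by rw [hZc, pow_one]))
      have hKc : (Subgroup.zpowers (x : G) ⊔ Z) ⊓ K = ⊥ := by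
        refine Subgroup.card_eq_one.1 ?_
        obtain ⟨j, hj⟩ := (h1.to_le (inf_le_left : (Subgroup.zpowers (x : G) ⊔ Z) ⊓ K ≤ _)).exists_card_eq
        rcases j with _ | j
        · simpa using hj
        · exfalso
          exact hpK (dvd_trans (hj ▸ dvd_pow_self p (Nat.succ_ne_zero j))
            (Subgroup.card_dvd_of_le inf_le_right))
      refine hxZ ?_
      have hle : Subgroup.zpowers (x : G) ⊔ Z ≤ Z := by
        intro g hg
        have hg' : g ∈ Z ⊔ K := hsup ▸ Subgroup.mem_top g
        rw [Subgroup.mem_sup_of_normal_right] at hg'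
        obtain ⟨z, hz, k, hk, rfl⟩ := hg'
        have : k ∈ (Subgroup.zpowers (x : G) ⊔ Z) ⊓ K := ⟨by
          have := mul_mem (inv_mem (Subgroup.mem_sup_right hz)) hg
          rwa [inv_mul_cancel_left] at this, hk⟩
        rw [hKc, Subgroup.mem_bot] at this
        rwa [this, mul_one]
      exact hle (Subgroup.mem_sup_left (Subgroup.mem_zpowers _))
    have hx1 : (x : G) ≠ 1 := fun h => hp.one_lt.ne' (by rw [← hx, ← Subgroup.orderOf_coe, h, orderOf_one])
    have hZM : Z ≤ M := by
      intro z hz
      haveI : Fact (Nat.card Z).Prime := ⟨hZc ▸ hp⟩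
      have := mem_zpowers_of_prime_card (G := Z) (g := ⟨x, hxZ⟩) (g' := ⟨z, hz⟩) hZc
        (fun h => hx1 (congrArg Subtype.val h))
      obtain ⟨i, hi⟩ := Subgroup.mem_zpowers_iff.1 this
      rw [← show (x : G) ^ i = z from congrArg Subtype.val hi]
      exact zpow_mem x.2 i
    have hne : (M ⊓ K).subgroupOf K ≠ ⊤ := fun h => by
      have hKM : K ≤ M := (Subgroup.subgroupOf_eq_top.1 h).trans inf_le_left
      exact hM.1 (eq_top_iff.2 (hsup ▸ sup_le hZM hKM))
    haveI := hK.2 _ hne
    haveI hXn : Group.IsNilpotent ↥(M ⊓ K) :=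
      Group.nilpotent_of_mulEquiv (Subgroup.subgroupOfEquivOfLe (inf_le_right : M ⊓ K ≤ K))
    haveI : Group.IsNilpotent Z := (IsPGroup.of_card (n := 1) (by rw [hZc, pow_one]) : IsPGroup p Z).isNilpotent
    have hcm : ∀ z ∈ Z, ∀ k ∈ K, Commute z k := fun z hz k hk =>
      Subgroup.commute_of_normal_of_disjoint Z K hZn hKn (disjoint_iff.2 hinf) z k hz hk
    let f : Z × ↥(M ⊓ K) →* M :=
      { toFun := fun a => ⟨(a.1 : G) * (a.2 : G), mul_mem (hZM a.1.2) a.2.2.1⟩
        map_one' := by simp
        map_mul' := fun a b => Subtype.ext (by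
          simp only [Prod.fst_mul, Prod.snd_mul, Subgroup.coe_mul]
          exact (((hcm _ b.1.2 _ a.2.2.2).symm).mul_mul_mul_comm _ _).symm) }
    refine Group.nilpotent_of_surjective f fun m => ?_
    have hg' : (m : G) ∈ Z ⊔ K := hsup ▸ Subgroup.mem_top _
    rw [Subgroup.mem_sup_of_normal_right] at hg'
    obtain ⟨z, hz, k, hk, he⟩ := hg'
    have hkM : k ∈ M := by
      have := mul_mem (inv_mem (hZM hz)) m.2
      rwa [← he, inv_mul_cancel_left] at this
    exact ⟨(⟨z, hz⟩, ⟨k, hkM, hk⟩), Subtype.ext he⟩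
  intro hall
  by_cases hnil : Group.IsNilpotent G
  · exact Or.inl hnil
  right
  have hprop : ∀ X : Subgroup G, X ≠ ⊤ → ∀ D : Subgroup G, D ≤ X → D ≠ ⊥ → IsPGroup p D →
      Group.IsNilpotent X := by
    intro X hX D hDX hD hDp
    obtain ⟨M, hM, hXM⟩ := (IsCoatomic.eq_top_or_exists_le_coatom X).resolve_left hX
    have hpM : p ∣ Nat.card M := by
      obtain ⟨j, hj⟩ := hDp.exists_card_eq
      rcases j with _ | j
      · exact absurd (Subgroup.card_eq_one.1 (by simpa using hj)) hD
      · exact dvd_trans (hj ▸ dvd_pow_self p (Nat.succ_ne_zero j)) (Subgroup.card_dvd_of_le (hDX.trans hXM))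
    haveI := hall M hM hpM
    exact Group.nilpotent_of_mulEquiv (Subgroup.subgroupOfEquivOfLe hXM)
  by_cases hallp : ∀ M : Subgroup G, IsCoatom M → p ∣ Nat.card M
  · refine Or.inl ⟨hnil, fun X hX => ?_⟩
    obtain ⟨M, hM, hXM⟩ := (IsCoatomic.eq_top_or_exists_le_coatom X).resolve_left hX
    haveI := hall M hM (hallp M hM)
    exact Group.nilpotent_of_mulEquiv (Subgroup.subgroupOfEquivOfLe hXM)
  push Not at hallp
  obtain ⟨M0, hM0, hpM0⟩ := hallp
  -- a subgroup without `p` has only proper overgroups that are controlled by `M0`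
  have hpsub : ∀ X : Subgroup G, p ∣ Nat.card X → ∃ D : Subgroup G, D ≤ X ∧ D ≠ ⊥ ∧ IsPGroup p D := by
    intro X hX
    obtain ⟨x, hx⟩ := exists_prime_orderOf_dvd_card' (G := X) p hX
    have hx' : orderOf (x : G) = p := by rw [Subgroup.orderOf_coe, hx]
    exact ⟨Subgroup.zpowers (x : G), Subgroup.zpowers_le.2 x.2,
      fun h => hp.one_lt.ne' (by rw [← hx', ← Nat.card_zpowers, h, Subgroup.card_bot]),
      IsPGroup.of_card (n := 1) (by rw [Nat.card_zpowers, hx', pow_one])⟩
  by_cases hnorm : ∃ D : Subgroup G, D.Normal ∧ D ≠ ⊥ ∧ IsPGroup p D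
  · obtain ⟨D, hDn, hD, hDp⟩ := hnorm
    haveI := hDn
    have compl : ∀ E : Subgroup G, E.Normal → E ≠ ⊥ → IsPGroup p E → E.IsComplement' M0 := by
      intro E hEn hE hEp
      haveI := hEn
      have hEM : ¬ E ≤ M0 := fun h => by
        obtain ⟨j, hj⟩ := hEp.exists_card_eq
        rcases j with _ | j
        · exact hE (Subgroup.card_eq_one.1 (by simpa using hj))
        · exact hpM0 (dvd_trans (hj ▸ dvd_pow_self p (Nat.succ_ne_zero j)) (Subgroup.card_dvd_of_le h))
      refine Subgroup.isComplement'_of_disjoint_and_mul_eq_univ ?_ ?_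
      · refine disjoint_iff.2 (Subgroup.card_eq_one.1 ?_)
        obtain ⟨j, hj⟩ := (hEp.to_le (inf_le_left : E ⊓ M0 ≤ E)).exists_card_eq
        rcases j with _ | j
        · simpa using hj
        · exact absurd (dvd_trans (hj ▸ dvd_pow_self p (Nat.succ_ne_zero j)) (Subgroup.card_dvd_of_le inf_le_right)) hpM0
      · rw [← Subgroup.normal_mul, hM0.2 _ (lt_of_le_of_ne le_sup_right fun h => hEM (h ▸ le_sup_left)),
          Subgroup.coe_top]
    have hcompl := compl D hDn hD hDp
    have uniq : ∀ E : Subgroup G, E.Normal → E ≠ ⊥ → IsPGroup p E → E ≤ D → E = D := by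
      intro E hEn hE hEp hED
      refine Subgroup.eq_of_le_of_card_ge hED ?_
      have h1 := (compl E hEn hE hEp).card_mul
      rw [← hcompl.card_mul] at h1
      exact (Nat.eq_of_mul_eq_mul_right Nat.card_pos h1).ge
    by_cases hM0n : Group.IsNilpotent M0
    · refine Or.inl ⟨hnil, fun X hX => ?_⟩
      by_cases hpX : p ∣ Nat.card X
      · obtain ⟨E, hEX, hE, hEp⟩ := hpsub X hpX
        exact hprop X hX E hEX hE hEp
      haveI := hM0n
      haveI : Group.IsNilpotent (G ⧸ D) :=
        Group.nilpotent_of_surjective ((QuotientGroup.mk' D).comp M0.subtype) (by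
          intro q
          obtain ⟨g, rfl⟩ := QuotientGroup.mk'_surjective D q
          obtain ⟨⟨d, m⟩, he, -⟩ := hcompl.existsUnique g
          refine ⟨⟨m, m.2⟩, ?_⟩
          show (QuotientGroup.mk' D) (m : G) = (QuotientGroup.mk' D) g
          rw [← he, map_mul, show (QuotientGroup.mk' D) (d : G) = 1 from (QuotientGroup.eq_one_iff _).2 d.2,
            one_mul])
      set f := (QuotientGroup.mk' D).comp X.subtype
      have hf : Function.Injective f := by
        rw [← MonoidHom.ker_eq_bot_iff, eq_bot_iff]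
        intro x hx
        have hxD : (x : G) ∈ D := (QuotientGroup.eq_one_iff _).1 hx
        obtain ⟨j, hj⟩ := hDp ⟨_, hxD⟩
        have h1 := orderOf_dvd_of_pow_eq_one (show (x : G) ^ p ^ j = 1 from congrArg Subtype.val hj)
        exact Subgroup.mem_bot.2 (Subtype.ext (orderOf_eq_one_iff.1 (Nat.eq_one_of_dvd_coprimes
          (((Nat.Prime.coprime_iff_not_dvd hp).2 hpX).pow_left j) h1
          (Subgroup.orderOf_dvd_natCard X x.2))))
      exact Group.nilpotent_of_mulEquiv (MonoidHom.ofInjective hf).symm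
    · refine Or.inr ?_
      -- the centre of `D` is normal, so `D` is abelian
      set E := (Subgroup.center D).map D.subtype with hE'
      haveI : Nontrivial D := (Subgroup.nontrivial_iff_ne_bot D).2 hD
      haveI : E.Normal := ConjAct.normal_of_characteristic_of_normal
      have hEne : E ≠ ⊥ := by
        haveI := hDp.center_nontrivial
        rw [hE', Ne, Subgroup.map_eq_bot_iff_of_injective _ D.subtype_injective]
        exact (Subgroup.nontrivial_iff_ne_bot _).1 inferInstance
      have hED := uniq E inferInstance hEne ((hDp.to_subgroup _).map _) (Subgroup.map_subtype_le _)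
      have hDab : ∀ a ∈ D, ∀ b ∈ D, a * b = b * a := by
        intro a ha b hb
        obtain ⟨a', ha', rfl⟩ := hED.symm.le ha
        exact (congrArg Subtype.val (Subgroup.mem_center_iff.1 ha' ⟨b, hb⟩)).symm
      have hL : ∀ L : Subgroup M0, IsCoatom L → L.map M0.subtype ≤ Subgroup.centralizer (D : Set G) := by
        intro L hL
        set L' := L.map M0.subtype
        have hne : D ⊔ L' ≠ ⊤ := by
          intro h
          have hle : M0 ≤ L' := by
            intro m hm
            have hm' : m ∈ D ⊔ L' := h ▸ Subgroup.mem_top m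
            rw [Subgroup.mem_sup_of_normal_left] at hm'
            obtain ⟨d, hd, l, hl, he⟩ := hm'
            have hdM : d ∈ D ⊓ M0 := ⟨hd, by
              show d ∈ M0; rw [eq_mul_inv_of_mul_eq he]
              exact mul_mem hm (inv_mem (Subgroup.map_subtype_le L hl))⟩
            rw [hcompl.disjoint.eq_bot, Subgroup.mem_bot] at hdM
            rw [← he, hdM, one_mul]
            exact hl
          refine hL.1 (eq_top_iff.2 fun m _ => ?_)
          obtain ⟨m', hm', he⟩ := hle m.2
          rwa [show m = m' from Subtype.ext he.symm]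
        haveI := hprop _ hne D le_sup_left hD hDp
        intro l hl
        refine Subgroup.mem_centralizer_iff.2 fun d hd => ?_
        have hc := CfsgLib.Coprime.commute_of_coprime_pow (G := ↥(D ⊔ L')) (p := p)
          (b := ⟨l, Subgroup.mem_sup_right hl⟩) (y := ⟨d, Subgroup.mem_sup_left hd⟩)
          (P := D.subgroupOf (D ⊔ L')) ?_ (hDp.of_equiv (Subgroup.subgroupOfEquivOfLe le_sup_left).symm) hd
        · exact (congrArg Subtype.val hc.eq).symm
        · rw [Subgroup.orderOf_mk]
          exact ((Nat.Prime.coprime_iff_not_dvd hp).2 fun h => hpM0 (h.trans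
            (Subgroup.orderOf_dvd_natCard M0 (Subgroup.map_subtype_le L hl)))).symm
      have hM0C : M0 ≤ Subgroup.centralizer (D : Set G) := by
        have htop : ((Subgroup.centralizer (D : Set G)).subgroupOf M0) = ⊤ := by
          by_contra hne
          obtain ⟨L1, hL1, hC1⟩ := (IsCoatomic.eq_top_or_exists_le_coatom _).resolve_left hne
          obtain ⟨x, -, hx⟩ := SetLike.exists_of_lt (lt_top_iff_ne_top.2 hL1.1)
          rcases IsCoatomic.eq_top_or_exists_le_coatom (Subgroup.zpowers x) with h | ⟨L2, hL2, hx2⟩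
          · refine hM0n ?_
            haveI : IsCyclic M0 := isCyclic_iff_exists_zpowers_eq_top.2 ⟨x, h⟩
            let _ := IsCyclic.commGroup (α := M0)
            infer_instance
          · refine hx (hC1 (Subgroup.mem_subgroupOf.2 (hL L2 hL2 ⟨x, hx2 (Subgroup.mem_zpowers x), rfl⟩)))
        exact Subgroup.subgroupOf_eq_top.1 htop
      have hcent : D ≤ Subgroup.center G := by
        intro d hd
        refine Subgroup.mem_center_iff.2 fun g => ?_
        obtain ⟨⟨e, m⟩, he, -⟩ := hcompl.existsUnique g
        rw [← he]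
        have h1 : d * (m : G) = m * d := Subgroup.mem_centralizer_iff.1 (hM0C m.2) d hd
        calc (e : G) * m * d = e * (d * m) := by rw [mul_assoc, h1]
          _ = d * (e * m) := by rw [← mul_assoc, hDab e e.2 d hd, mul_assoc]
      have hDcard : Nat.card D = p := by
        obtain ⟨Y, hYD, hY, hYp⟩ := hpsub D (by
          obtain ⟨j, hj⟩ := hDp.exists_card_eq
          rcases j with _ | j
          · exact absurd (Subgroup.card_eq_one.1 (by simpa using hj)) hD
          · exact hj ▸ dvd_pow_self p (Nat.succ_ne_zero j))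
        obtain ⟨x, hx⟩ := exists_prime_orderOf_dvd_card' (G := D) p (by
          obtain ⟨j, hj⟩ := hDp.exists_card_eq
          rcases j with _ | j
          · exact absurd (Subgroup.card_eq_one.1 (by simpa using hj)) hD
          · exact hj ▸ dvd_pow_self p (Nat.succ_ne_zero j))
        have hx' : orderOf (x : G) = p := by rw [Subgroup.orderOf_coe, hx]
        have hzn : (Subgroup.zpowers (x : G)).Normal := ⟨fun z hz g => by
          have hc := Subgroup.mem_center_iff.1 (hcent ((Subgroup.zpowers_le.2 x.2) hz)) g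
          rwa [hc, mul_inv_cancel_right]⟩
        rw [← uniq _ hzn (fun h => hp.one_lt.ne' (by rw [← hx', ← Nat.card_zpowers, h, Subgroup.card_bot]))
          (IsPGroup.of_card (n := 1) (by rw [Nat.card_zpowers, hx', pow_one])) (Subgroup.zpowers_le.2 x.2),
          Nat.card_zpowers, hx']
      have hsup : D ⊔ M0 = ⊤ := hcompl.sup_eq_top
      have hM0normal : M0.Normal := by
        rw [← Subgroup.normalizer_eq_top_iff, eq_top_iff, ← hsup]
        exact sup_le (hcent.trans (Subgroup.center_le_normalizer _)) Subgroup.le_normalizer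
      refine ⟨D, M0, hDn, hM0normal, hcompl.disjoint.eq_bot, hsup, hDcard, ⟨hM0n, fun X hX => ?_⟩, hpM0⟩
      have hne : D ⊔ X.map M0.subtype ≠ ⊤ := by
        intro h
        refine hX (eq_top_iff.2 fun m _ => ?_)
        have hm' : (m : G) ∈ D ⊔ X.map M0.subtype := h ▸ Subgroup.mem_top _
        rw [Subgroup.mem_sup_of_normal_left] at hm'
        obtain ⟨d, hd, l, hl, he⟩ := hm'
        have hdM : d ∈ D ⊓ M0 := ⟨hd, by
          show d ∈ M0; rw [eq_mul_inv_of_mul_eq he]
          exact mul_mem m.2 (inv_mem (Subgroup.map_subtype_le X hl))⟩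
        rw [hcompl.disjoint.eq_bot, Subgroup.mem_bot] at hdM
        rw [hdM, one_mul] at he
        obtain ⟨l', hl', rfl⟩ := hl
        rwa [show m = l' from Subtype.ext he.symm]
      haveI := hprop _ hne D le_sup_left hD hDp
      exact Group.nilpotent_of_mulEquiv ((Subgroup.subgroupOfEquivOfLe
        (le_sup_right : X.map M0.subtype ≤ D ⊔ X.map M0.subtype)).trans
        (X.equivMapOfInjective M0.subtype M0.subtype_injective).symm)
  · push Not at hnorm
    refine Or.inl ⟨hnil, fun X hX => ?_⟩
    by_cases hpX : p ∣ Nat.card X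
    · obtain ⟨E, hEX, hE, hEp⟩ := hpsub X hpX
      exact hprop X hX E hEX hE hEp
    let P0 : Sylow p G := default
    obtain ⟨P, K, hKn, hKP⟩ := Cfsg.Agent.S4251.result p P0 (fun Q hbot _ => by
      set D := (P0 : Subgroup G) ⊓ (Q : Subgroup G) with hD
      have hDp : IsPGroup p D := P0.2.to_le inf_le_left
      have hNne : Subgroup.normalizer (D : Set G) ≠ ⊤ := fun h =>
        hnorm D (Subgroup.normalizer_eq_top_iff.1 h) hbot hDp
      haveI := hprop _ hNne D Subgroup.le_normalizer hbot hDp
      intro q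
      obtain ⟨n, rfl⟩ := QuotientGroup.mk_surjective q
      obtain ⟨a, k, hk, hnk⟩ := Nat.exists_eq_pow_mul_and_not_dvd (orderOf_pos n).ne' p hp.ne_one
      refine ⟨a, (QuotientGroup.eq_one_iff _).2 (Subgroup.mem_subgroupOf.2
        (Subgroup.mem_centralizer_iff.2 fun d hd => ?_))⟩
      have hc := CfsgLib.Coprime.commute_of_coprime_pow (p := p) (b := n ^ p ^ a)
        (y := ⟨d, Subgroup.le_normalizer hd⟩) (P := D.subgroupOf (Subgroup.normalizer (D : Set G))) ?_
        (hDp.of_equiv (Subgroup.subgroupOfEquivOfLe Subgroup.le_normalizer).symm) hd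
      · exact (congrArg Subtype.val hc.eq).symm
      · rw [orderOf_pow_of_dvd (pow_ne_zero _ hp.ne_zero) ⟨k, hnk⟩, hnk,
          Nat.mul_div_cancel_left _ (Nat.pow_pos hp.pos)]
        exact ((Nat.Prime.coprime_iff_not_dvd hp).2 hk).symm)
    haveI := hKn
    have hKidx : K.index = Nat.card P := hKP.symm.index_eq_card
    have hpP : p ∣ Nat.card P := by
      rw [P.card_eq_multiplicity]
      exact dvd_pow_self p (hp.factorization_pos_of_dvd Nat.card_pos.ne' hpG).ne'
    have hreg : ∀ g : G, ¬ p ∣ orderOf g → g ∈ K := by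
      intro g hg
      obtain ⟨j, hj⟩ := P.2.exists_card_eq
      refine (QuotientGroup.eq_one_iff g).1 (orderOf_eq_one_iff.1 (Nat.eq_one_of_dvd_coprimes
        (((Nat.Prime.coprime_iff_not_dvd hp).2 hg).pow_left j) ?_ (orderOf_map_dvd (QuotientGroup.mk' K) g)))
      rw [← hj, ← hKidx, Subgroup.index_eq_card]
      exact orderOf_dvd_natCard _
    have hpK : ¬ p ∣ Nat.card K := by
      intro hd
      obtain ⟨x, hx⟩ := exists_prime_orderOf_dvd_card' (G := K) p hd
      have hx' : orderOf (x : G) = p := by rw [Subgroup.orderOf_coe, hx]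
      obtain ⟨c, hc⟩ : ∃ c : G, c * x * c⁻¹ ∈ (P : Subgroup G) := by
        obtain ⟨R, hR⟩ := (IsPGroup.of_card (n := 1) (G := Subgroup.zpowers (x : G)) (p := p)
          (by rw [Nat.card_zpowers, hx', pow_one])).exists_le_sylow
        obtain ⟨c, rfl⟩ := MulAction.exists_smul_eq G R P
        exact ⟨c, ⟨x, hR (Subgroup.mem_zpowers _), rfl⟩⟩
      have : c * x * c⁻¹ ∈ K ⊓ (P : Subgroup G) := ⟨hKn.conj_mem _ x.2 c, hc⟩
      rw [hKP.disjoint.eq_bot, Subgroup.mem_bot, conj_eq_one_iff] at this
      rw [this, orderOf_one] at hx'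
      exact hp.one_lt.ne hx'
    have hM0K : M0 = K := by
      have hle : M0 ≤ K := fun m hm => hreg m fun h => hpM0 (h.trans (Subgroup.orderOf_dvd_natCard M0 hm))
      rcases eq_or_lt_of_le hle with h | h
      · exact h
      · have htop := hM0.2 K h
        rw [htop, Subgroup.index_top] at hKidx
        rw [← hKidx] at hpP
        exact absurd hpP hp.not_dvd_one
    obtain ⟨x, hx⟩ := exists_prime_orderOf_dvd_card' (G := (P : Subgroup G)) p hpP
    have hx' : orderOf (x : G) = p := by rw [Subgroup.orderOf_coe, hx]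
    set A := Subgroup.zpowers (x : G) with hA
    have hAc : Nat.card A = p := by rw [hA, Nat.card_zpowers, hx']
    have hxK : (x : G) ∉ K := fun h => hpK (hx' ▸ Subgroup.orderOf_dvd_natCard K h)
    have hKA : K ⊔ A = ⊤ := (hM0K ▸ hM0).2 _ (lt_of_le_of_ne le_sup_left fun h =>
      hxK (h ▸ Subgroup.mem_sup_right (Subgroup.mem_zpowers _)))
    have hAne : A ≠ ⊥ := fun h => hp.one_lt.ne' (by rw [← hAc, h, Subgroup.card_bot])
    have hAK : A ≤ Subgroup.normalizer (K : Set G) := le_of_le_of_eq le_top (Subgroup.normalizer_eq_top_iff.2 hKn).symm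
    have hcop : (Nat.card A).Coprime (Nat.card K) := hAc ▸ (Nat.Prime.coprime_iff_not_dvd hp).2 hpK
    -- some prime covers `K`
    have hK : ∃ q : ℕ, q.Prime ∧ IsPGroup q K := by
      by_contra hno
      push Not at hno
      have hsolv : Group.IsSolvable A ∨ Group.IsSolvable K := Or.inl (by
        haveI := (IsPGroup.of_card (n := 1) (G := A) (p := p) (by rw [hAc, pow_one])).isNilpotent
        infer_instance)
      have hcen : (Subgroup.centralizer (A : Set G)).subgroupOf K = ⊤ := by
        rw [← Subgroup.index_eq_one]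
        by_contra hne
        obtain ⟨q, hq, hqd⟩ := Nat.exists_prime_and_dvd hne
        haveI := Fact.mk hq
        obtain ⟨Q, hQ, hAQ⟩ := CfsgLib.Coprime.exists_invariant_sylow hAK hcop hsolv q
        have hQne : Q ⊔ A ≠ ⊤ := by
          intro h
          refine hno q hq ?_
          have : K ≤ Q := by
            intro k hk
            have hk' : k ∈ Q ⊔ A := h ▸ Subgroup.mem_top k
            rw [← SetLike.mem_coe, Subgroup.coe_mul_of_right_le_normalizer_left Q A hAQ] at hk'
            obtain ⟨u, hu, a, ha, rfl⟩ := hk'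
            have haK : a ∈ K ⊓ A := ⟨by
              have := mul_mem (inv_mem (hQ.1 hu)) hk
              rwa [inv_mul_cancel_left] at this, ha⟩
            rw [Subgroup.inf_eq_bot_of_coprime hcop.symm, Subgroup.mem_bot] at haK
            show u * a ∈ Q
            rwa [haK, mul_one]
          exact hQ.isPGroup.to_le this
        haveI := hprop _ hQne A le_sup_right hAne (IsPGroup.of_card (n := 1) (by rw [hAc, pow_one]))
        have hQC : Q ≤ Subgroup.centralizer (A : Set G) := fun u hu => Subgroup.mem_centralizer_iff.2 fun a ha => by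
          have hc := CfsgLib.Coprime.commute_of_coprime_pow (G := ↥(Q ⊔ A)) (p := p)
            (b := ⟨u, Subgroup.mem_sup_left hu⟩) (y := ⟨a, Subgroup.mem_sup_right ha⟩)
            (P := A.subgroupOf (Q ⊔ A)) ?_
            ((IsPGroup.of_card (n := 1) (G := A) (p := p) (by rw [hAc, pow_one])).of_equiv
              (Subgroup.subgroupOfEquivOfLe le_sup_right).symm) ha
          · exact (congrArg Subtype.val hc.eq).symm
          · rw [Subgroup.orderOf_mk]
            exact ((Nat.Prime.coprime_iff_not_dvd hp).2 fun h => hpK (h.trans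
              (Subgroup.orderOf_dvd_natCard K (hQ.1 hu)))).symm
        have h1 : q ∣ Q.relIndex K := hqd.trans (Subgroup.relIndex_dvd_of_le_left K hQC)
        have h2 : Nat.card Q * Q.relIndex K = Nat.card K := by
          rw [← Subgroup.relIndex_bot_left, Subgroup.relIndex_mul_relIndex _ _ _ bot_le hQ.1,
            Subgroup.relIndex_bot_left]
        rw [hQ.2] at h2
        exact Nat.pow_succ_factorization_not_dvd (Nat.card_pos (α := K)).ne' hq
          (dvd_trans (by rw [pow_succ]; exact mul_dvd_mul_left _ h1) h2.dvd)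
      have hAn : A.Normal := by
        rw [← Subgroup.normalizer_eq_top_iff, eq_top_iff, ← hKA]
        exact sup_le ((Subgroup.subgroupOf_eq_top.1 hcen).trans (Subgroup.centralizer_le_normalizer _))
          Subgroup.le_normalizer
      exact hnorm A hAn hAne (IsPGroup.of_card (n := 1) (by rw [hAc, pow_one]))
    obtain ⟨q, hq, hqK⟩ := hK
    haveI := Fact.mk hq
    have hXK : X ≤ K := fun g hg => hreg g fun h => hpX (h.trans (Subgroup.orderOf_dvd_natCard X hg))
    exact (hqK.to_le hXK).isNilpotent

end Cfsg.Agent.S4242
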