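import Cfsg.Statements.S4244
import Cfsg.Agent.Lib.PGroup.Basic

set_option autoImplicit false
set_option linter.style.haveILetI false
open Cfsg

namespace Cfsg.Agent.S4244

/-- Let H be a subnormal subgroup of a finite group G. Then for every subgroup K of G the index of H ∩ K in H divides the index of K in G. -/
theorem result {G : Type*} [Group G] [Finite G] (H : Subgroup G) (hH : H.IsSubnormal) (K : Subgroup G) :
    (H ⊓ K).relIndex H ∣ K.index := by
  induction hH with
  | top => rw [top_inf_eq, Subgroup.relIndex_top_right]
  | step H L hle _ hN ih =>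
    refine dvd_trans ?_ ih
    haveI := hN
    have h1 := CfsgLib.PGroup.relIndex_dvd_index_normal_right
      ((L ⊓ K).subgroupOf L) (H.subgroupOf L)
    rw [Subgroup.relIndex_subgroupOf hle] at h1
    have e : (H ⊓ K).relIndex H = (L ⊓ K).relIndex H := by
      rw [← Subgroup.inf_relIndex_left, ← inf_assoc, inf_idem]
      conv_rhs => rw [← Subgroup.inf_relIndex_left, ← inf_assoc, inf_eq_left.2 hle]
    rw [e]
    exact h1

end Cfsg.Agent.S4244
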