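import Cfsg.Statements.S4245
import Cfsg.Agent.S4037
import Cfsg.Agent.Lib.PGroup.ClassSize
import Cfsg.Agent.Lib.PGroup.SylowNumber
import Cfsg.Agent.Lib.Invol.ThreePoint
-- import your own Cfsg.Agent.* helpers here

set_option autoImplicit false
open Cfsg

namespace Cfsg.Agent.S4245

universe u

open Subgroup in
/-- Induction on the order. -/
theorem step (n : ℕ) : ∀ (G : Type u) [Group G] [Finite G], Nat.card G = n →
    ∀ (A : Subgroup G) (p s : ℕ), p.Prime → A.index = p ^ s → ∀ (B : Subgroup A) [B.Normal],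
      IsCyclic B → IsCyclic (A ⧸ B) → ∀ r : ℕ, Nat.card (A ⧸ B) = 2 ^ r → Group.IsSolvable G := by
  induction n using Nat.strongRecOn with
  | ind n ih =>
  intro G _ _ hn A p s hp hA B _ hB hAB r hr
  haveI := Fact.mk hp
  have hclass : ∀ x : G, x ≠ 1 → (∃ (q j : ℕ), q.Prime ∧ (centralizer ({x} : Set G)).index = q ^ j) →
      Group.IsSolvable G := by
    rintro x hx ⟨q, j, hq, hj⟩
    set K := normalClosure ({x} : Set G) with hK
    haveI hKs : Group.IsSolvable K := Cfsg.Agent.S4037.result x hq j (by
      rw [CfsgLib.PGroup.ncard_carrier_eq_index, hj])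
    have hKne : K ≠ ⊥ := fun e => hx (mem_bot.1 (e ▸ subset_normalClosure (Set.mem_singleton x)))
    let f := QuotientGroup.mk' K
    let g : A →* A.map f := f.subgroupMap A
    have hg : Function.Surjective g := MonoidHom.subgroupMap_surjective _ _
    haveI : (B.map g).Normal := Subgroup.Normal.map inferInstance g hg
    obtain ⟨s', -, hs'⟩ := (Nat.dvd_prime_pow hp).1
      (hA ▸ Subgroup.index_map_dvd A (QuotientGroup.mk'_surjective K))
    let h : A ⧸ B →* A.map f ⧸ B.map g := QuotientGroup.map B (B.map g) g (le_comap_map _ _)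
    have hh : Function.Surjective h := fun y => by
      obtain ⟨y, rfl⟩ := QuotientGroup.mk_surjective y
      obtain ⟨a, rfl⟩ := hg y
      exact ⟨QuotientGroup.mk a, rfl⟩
    haveI := hB
    haveI := hAB
    obtain ⟨r', -, hr'⟩ := (Nat.dvd_prime_pow Nat.prime_two).1
      (hr ▸ Subgroup.card_dvd_of_surjective h hh)
    haveI : Group.IsSolvable (G ⧸ K) := ih _ (by
        rw [← hn, K.card_eq_card_quotient_mul_card_subgroup]
        exact lt_mul_of_one_lt_right Nat.card_pos ((one_lt_card_iff_ne_bot K).2 hKne))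
      (G ⧸ K) rfl (A.map f) p s' hp hs' (B.map g)
      (isCyclic_of_surjective (g.subgroupMap B) (MonoidHom.subgroupMap_surjective _ _))
      (isCyclic_of_surjective h hh) r' hr'
    exact Group.isSolvable_of_ker_le_range K.subtype f (by simp [f])
  by_cases hA1 : A = ⊥
  · exact @IsNilpotent.to_isSolvable _ _ (IsPGroup.of_card (p := p) (n := s) (by
      rw [← hA, hA1, index_bot])).isNilpotent
  by_cases hZ : center A = ⊥
  swap
  · obtain ⟨⟨z, hz⟩, hz1⟩ := Subgroup.ne_bot_iff_exists_ne_one.1 hZ
    refine hclass (z : G) (fun e => hz1 (Subtype.ext (Subtype.ext e))) ?_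
    have hle : A ≤ centralizer ({(z : G)} : Set G) := fun a ha =>
      mem_centralizer_singleton_iff.2 (congrArg Subtype.val (mem_center_iff.1 hz ⟨a, ha⟩))
    obtain ⟨j, -, hj⟩ := (Nat.dvd_prime_pow hp).1 (hA ▸ index_dvd_of_le hle)
    exact ⟨p, j, hp, hj⟩
  haveI hBc : IsMulCommutative B := @IsCyclic.isMulCommutative _ _ hB
  have hnab : ¬ IsMulCommutative A := fun h => by
    haveI : Nontrivial A := (nontrivial_iff_ne_bot A).2 hA1
    exact absurd (hZ ▸ (eq_top_iff.2 fun a _ => mem_center_iff.2 fun b => h.is_comm.comm b a :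
      center A = ⊤) : (⊥ : Subgroup A) = ⊤) bot_ne_top
  -- `B` has odd order
  have hodd : ¬ 2 ∣ Nat.card B := by
    intro h2
    haveI : Fact (Nat.Prime 2) := ⟨Nat.prime_two⟩
    haveI := hB
    obtain ⟨t, ht⟩ := exists_prime_orderOf_dvd_card' 2 h2
    have hmem : (t : A) ∈ center A := mem_center_iff.2 fun a => by
      have ht' : (⟨a * t * a⁻¹, Subgroup.Normal.conj_mem inferInstance (t : A) t.2 a⟩ : B) = t := by
        by_contra hne
        classical
        letI := Fintype.ofFinite B
        have hc := IsCyclic.card_pow_eq_one_le (α := B) two_pos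
        have hsub : ({1, t, ⟨a * t * a⁻¹, Subgroup.Normal.conj_mem inferInstance (t : A) t.2 a⟩} :
            Finset B) ⊆ Finset.univ.filter fun b : B => b ^ 2 = 1 := by
          intro b hb
          simp only [Finset.mem_insert, Finset.mem_singleton] at hb
          simp only [Finset.mem_filter, Finset.mem_univ, true_and]
          have h1 : t ^ 2 = 1 := ht ▸ pow_orderOf_eq_one t
          rcases hb with rfl | rfl | rfl
          · exact one_pow 2
          · exact h1
          · refine Subtype.ext ?_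
            show (a * t * a⁻¹) ^ 2 = 1
            rw [conj_pow, show ((t : A)) ^ 2 = ((t ^ 2 : B) : A) from rfl, h1, Subgroup.coe_one,
              mul_one, mul_inv_cancel]
        have ht1 : t ≠ 1 := fun e => by rw [e, orderOf_one] at ht; omega
        have hc3 := (Finset.card_le_card hsub).trans hc
        rw [Finset.card_insert_of_notMem, Finset.card_pair (Ne.symm hne)] at hc3
        · omega
        · simp only [Finset.mem_insert, Finset.mem_singleton, not_or]
          exact ⟨Ne.symm ht1, fun e => ht1 (Subtype.ext (conj_eq_one_iff.1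
            (congrArg Subtype.val e.symm)))⟩
      exact mul_inv_eq_iff_eq_mul.1 (congrArg Subtype.val ht')
    rw [hZ, mem_bot] at hmem
    rw [show t = 1 from Subtype.ext hmem, orderOf_one] at ht
    omega
  have hB1 : B ≠ ⊥ := by
    intro e
    refine hnab ?_
    haveI := hAB
    subst e
    haveI : IsCyclic A := isCyclic_of_surjective _ (QuotientGroup.quotientBot (G := A)).surjective
    exact IsCyclic.isMulCommutative
  by_cases h2p : p = 2
  · subst h2p
    obtain ⟨⟨b, hb⟩, hb1⟩ := Subgroup.ne_bot_iff_exists_ne_one.1 hB1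
    refine hclass (b : G) (fun e => hb1 (Subtype.ext (Subtype.ext e))) ?_
    have hle : B.map A.subtype ≤ centralizer ({(b : G)} : Set G) := by
      rintro _ ⟨c, hc, rfl⟩
      exact mem_centralizer_singleton_iff.2
        (congrArg (fun x : B => ((x : A) : G)) (hBc.is_comm.comm ⟨c, hc⟩ ⟨b, hb⟩))
    have hidx : (B.map A.subtype).index = 2 ^ (r + s) := by
      rw [index_map_subtype, hA, show B.index = Nat.card (A ⧸ B) from rfl, hr, pow_add]
    obtain ⟨j, -, hj⟩ := (Nat.dvd_prime_pow Nat.prime_two).1 (hidx ▸ index_dvd_of_le hle)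
    exact ⟨2, j, Nat.prime_two, hj⟩
  -- a cyclic Sylow two-subgroup
  haveI : Fact (Nat.Prime 2) := ⟨Nat.prime_two⟩
  let T0 : Sylow 2 A := default
  have hT0 : IsCyclic (T0 : Subgroup A) := by
    haveI := hAB
    refine isCyclic_of_injective ((QuotientGroup.mk' B).comp (T0 : Subgroup A).subtype)
      ((injective_iff_map_eq_one _).2 fun x hx => ?_)
    have hxB : (x : A) ∈ B := (QuotientGroup.eq_one_iff _).1 hx
    obtain ⟨k, hk⟩ := IsPGroup.iff_orderOf.1 T0.2 x
    have h1 : orderOf (x : A) ∣ Nat.card B := orderOf_mk (x : A) hxB ▸ orderOf_dvd_natCard _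
    rw [orderOf_coe, hk] at h1
    rcases k with _ | k
    · exact orderOf_eq_one_iff.1 hk
    · exact absurd ((dvd_pow_self 2 k.succ_ne_zero).trans h1) hodd
  obtain ⟨T, hT⟩ := (T0.2.map A.subtype).exists_le_sylow
  have hTc : IsCyclic (T : Subgroup G) := by
    have heq : (T0 : Subgroup A).map A.subtype = T := by
      refine Subgroup.eq_of_le_of_card_ge hT ?_
      rw [card_map_of_injective A.subtype_injective, T.card_eq_multiplicity, T0.card_eq_multiplicity,
        ← A.card_mul_index, hA, Nat.factorization_mul Nat.card_pos.ne' (pow_ne_zero _ hp.ne_zero),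
        Finsupp.add_apply, Nat.factorization_eq_zero_of_not_dvd (n := p ^ s), add_zero]
      exact fun h => h2p ((Nat.prime_dvd_prime_iff_eq Nat.prime_two hp).1
        (Nat.prime_two.dvd_of_dvd_pow h)).symm
    rw [← heq]
    haveI := hT0
    exact isCyclic_of_surjective _ ((T0 : Subgroup A).equivMapOfInjective A.subtype
      A.subtype_injective).surjective
  obtain ⟨P0, M, hMn, hcompl⟩ := CfsgLib.Invol.hasNormalPComplement_two_of_isCyclic T hTc
  have hMc : (Nat.card M).Coprime 2 := by
    rw [← hcompl.index_eq_card]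
    exact ((Nat.Prime.coprime_iff_not_dvd Nat.prime_two).2 P0.not_dvd_index).symm
  obtain ⟨k, hk⟩ : ∃ k, M.index = 2 ^ k := by
    rw [hcompl.symm.index_eq_card]
    exact IsPGroup.iff_card.1 P0.2
  haveI := hMn
  by_cases hk0 : k = 0
  · -- then `A = B`
    refine absurd ?_ hnab
    rw [hk0, pow_zero, index_eq_one] at hk
    have hGodd : ¬ 2 ∣ Nat.card G := fun h => by
      rw [hk, Subgroup.card_top] at hMc
      exact Nat.Prime.ne_one Nat.prime_two (Nat.eq_one_of_dvd_coprimes hMc h dvd_rfl)
    have hq : Nat.card (A ⧸ B) = 1 := by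
      rcases r with _ | r
      · rw [hr, pow_zero]
      · have h3 : B.index ∣ Nat.card A := index_dvd_card B
        rw [show B.index = Nat.card (A ⧸ B) from rfl, hr] at h3
        exact absurd (((dvd_pow_self 2 r.succ_ne_zero).trans h3).trans
          (card_subgroup_dvd_card A)) hGodd
    exact ⟨⟨fun a b => congrArg Subtype.val (hBc.is_comm.comm
      ⟨a, (index_eq_one.1 hq : B = ⊤) ▸ mem_top a⟩ ⟨b, (index_eq_one.1 hq : B = ⊤) ▸ mem_top b⟩)⟩⟩
  have hModd : ¬ 2 ∣ Nat.card M := fun h =>
    Nat.Prime.ne_one Nat.prime_two (Nat.eq_one_of_dvd_coprimes hMc h dvd_rfl)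
  have hAMB : ∀ a : A, (a : G) ∈ M → a ∈ B := by
    intro a ha
    rw [← QuotientGroup.eq_one_iff, ← orderOf_eq_one_iff]
    obtain ⟨j, -, hj⟩ := (Nat.dvd_prime_pow Nat.prime_two).1
      (hr ▸ orderOf_dvd_natCard (QuotientGroup.mk a : A ⧸ B))
    have h1 : orderOf (QuotientGroup.mk a : A ⧸ B) ∣ Nat.card M :=
      (orderOf_map_dvd (QuotientGroup.mk' B) a).trans (by
        rw [← orderOf_coe, ← orderOf_mk (a : G) ha]; exact orderOf_dvd_natCard _)
    rw [hj] at h1 ⊢
    rcases j with _ | j
    · rfl
    · exact absurd ((dvd_pow_self 2 j.succ_ne_zero).trans h1) hModd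
  haveI hMs : Group.IsSolvable M := by
    obtain ⟨s', -, hs'⟩ := (Nat.dvd_prime_pow hp).1 (show (A.subgroupOf M).index ∣ p ^ s from
      by
        rw [← hA, show (A.subgroupOf M).index = A.relIndex M from rfl,
          ← CfsgLib.PGroup.SylowNum.relIndex_sup_normal A M]
        exact relIndex_dvd_index_of_le le_sup_left)
    refine ih _ ?_ M rfl (A.subgroupOf M) p s' hp hs' ⊤ ?_ ?_ 0 ?_
    · rw [← hn, ← M.card_mul_index, hk]
      exact lt_mul_of_one_lt_right Nat.card_pos (Nat.one_lt_pow hk0 one_lt_two)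
    · haveI := hB
      let g : (⊤ : Subgroup (A.subgroupOf M)) →* B :=
        { toFun := fun x => ⟨⟨((x.1 : M) : G), x.1.2⟩, hAMB ⟨_, x.1.2⟩ (x.1 : M).2⟩
          map_one' := rfl
          map_mul' := fun _ _ => rfl }
      exact isCyclic_of_injective g fun x y e => Subtype.ext (Subtype.ext (Subtype.ext
        (congrArg (fun b : B => ((b : A) : G)) e :)))
    · haveI : Subsingleton (A.subgroupOf M ⧸ (⊤ : Subgroup (A.subgroupOf M))) :=
        QuotientGroup.subsingleton_quotient_top
      exact isCyclic_of_subsingleton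
    · rw [pow_zero]
      exact Subgroup.index_top
  haveI : Group.IsSolvable (G ⧸ M) :=
    @IsNilpotent.to_isSolvable _ _ (IsPGroup.of_card (p := 2) (n := k) hk).isNilpotent
  exact Group.isSolvable_of_ker_le_range M.subtype (QuotientGroup.mk' M) (by simp)

/-- Let G be a finite group with a subgroup A of prime-power index. Suppose A has a normal cyclic subgroup B such that A/B is cyclic of order a power of 2. Then G is solvable. -/
theorem result {G : Type*} [Group G] [Finite G] (A : Subgroup G) (p s : ℕ) (hp : p.Prime) (hA : A.index = p ^ s)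
    (B : Subgroup A) [B.Normal] (hB : IsCyclic B) (hAB : IsCyclic (A ⧸ B)) (r : ℕ) (hr : Nat.card (A ⧸ B) = 2 ^ r) :
    Group.IsSolvable G := by
  exact step (Nat.card G) G rfl A p s hp hA B hB hAB r hr

end Cfsg.Agent.S4245
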