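import Cfsg.Statements.S4249
import Cfsg.Agent.Lib.PGroup.Splitting
import Cfsg.Agent.Lib.Coprime.Fitting

set_option autoImplicit false
open Cfsg

namespace Cfsg.Agent.S4249

/-- Let G be a finite group and p a prime such that G is not a p-group, and suppose the Hughes subgroup H_p(G), generated by all elements g with g^p ≠ 1, is a proper subgroup. Then H_p(G) is nilpotent and has index p in G. -/
theorem result {G : Type*} [Group G] [Finite G] (p : ℕ) (hp : p.Prime) (hG : ¬ IsPGroup p G)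
    (hH : Subgroup.closure {g : G | g ^ p ≠ 1} ≠ ⊤) :
    Group.IsNilpotent (Subgroup.closure {g : G | g ^ p ≠ 1}) ∧ (Subgroup.closure {g : G | g ^ p ≠ 1}).index = p := by
  classical
  haveI := Fact.mk hp
  set S : Set G := {g : G | g ^ p ≠ 1} with hS
  set H := Subgroup.closure S with hHdef
  haveI hHn : H.Normal := by
    refine Subgroup.normalizer_eq_top_iff.1 (eq_top_iff.2 fun g _ => ?_)
    refine CfsgLib.Fusion.conjBy_eq_iff.1 (CfsgLib.Fusion.conjBy_eq_of_le ?_)
    rw [hHdef, Subgroup.map_le_iff_le_comap, Subgroup.closure_le]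
    intro x hx
    refine Subgroup.subset_closure ?_
    show (g * x * g⁻¹) ^ p ≠ 1
    rwa [conj_pow, Ne, conj_eq_one_iff]
  have hout : ∀ g : G, g ∉ H → g ^ p = 1 := fun g hg => by
    by_contra h
    exact hg (Subgroup.subset_closure h)
  obtain ⟨a, ha⟩ : ∃ a, a ∉ H := by
    by_contra h
    push Not at h
    exact hH (eq_top_iff.2 fun x _ => h x)
  have hnil : Group.IsNilpotent H := by
    let L := H ⊔ Subgroup.zpowers a
    have hSP : CfsgLib.PGroup.SplitPair (H.subgroupOf L) (⟨a, Subgroup.mem_sup_right (Subgroup.mem_zpowers a)⟩ : L) p := by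
      refine ⟨inferInstance, fun h => ha h, ?_, fun x hx => Subtype.ext (hout _ fun h => ha ?_)⟩
      · apply Subgroup.map_injective L.subtype_injective
        rw [Subgroup.map_sup, Subgroup.subgroupOf_map_subtype, inf_eq_left.2 le_sup_left, MonoidHom.map_zpowers,
          ← MonoidHom.range_eq_map, Subgroup.range_subtype]
        rfl
      · have := mul_mem (inv_mem (show (x : G) ∈ H from hx)) h
        rwa [Subgroup.coe_mul, inv_mul_cancel_left] at this
    haveI := CfsgLib.PGroup.SplitPair.isNilpotent hp hSP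
    exact Group.nilpotent_of_mulEquiv (Subgroup.subgroupOfEquivOfLe (le_sup_left : H ≤ L))
  refine ⟨hnil, ?_⟩
  haveI := hnil
  obtain ⟨q, hq, hqp, hqG⟩ : ∃ q, q.Prime ∧ q ≠ p ∧ q ∣ Nat.card G := by
    by_contra hc
    push Not at hc
    exact hG (IsPGroup.of_card (Nat.eq_prime_pow_of_unique_prime_dvd Nat.card_pos.ne' fun {q} hq hd => by
      by_contra h
      exact hc q hq h hd))
  haveI := Fact.mk hq
  obtain ⟨y, hy⟩ := exists_prime_orderOf_dvd_card' (G := G) q hqG
  have hcopq : ∀ x : G, ∀ j : ℕ, orderOf x ∣ q ^ j → x ^ p = 1 → x = 1 := fun x j h1 h2 =>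
    orderOf_eq_one_iff.1 (Nat.eq_one_of_dvd_coprimes (Nat.Coprime.pow_left j ((Nat.coprime_primes hq hp).2 hqp))
      h1 (orderOf_dvd_of_pow_eq_one h2))
  have hy1 : y ≠ 1 := fun h => hq.ne_one (by rw [← hy, h, orderOf_one])
  have hyH : y ∈ H := Subgroup.subset_closure fun h => hy1 (hcopq y 1 (by rw [hy, pow_one]) h)
  let Q : Sylow q H := Classical.arbitrary _
  haveI := Sylow.characteristic_of_normal Q inferInstance
  set Q0 := (Q : Subgroup H).map H.subtype with hQ0
  have hQp : IsPGroup q Q0 := Q.2.map H.subtype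
  have hQ1 : Q0 ≠ ⊥ := by
    rw [hQ0, Ne, Subgroup.map_eq_bot_iff_of_injective _ H.subtype_injective]
    exact Q.ne_bot_of_dvd_card (hy ▸ Subgroup.orderOf_dvd_natCard H hyH)
  set M := CfsgLib.Fusion.centerOf Q0 with hM
  have hM1 : M ≠ ⊥ := CfsgLib.Fusion.centerOf_ne_bot hQp hQ1
  haveI : Q0.Normal := inferInstance
  haveI hMn : M.Normal := inferInstance
  haveI hMc : IsMulCommutative M := ⟨⟨fun u v => Subtype.ext (Subgroup.mem_centralizer_iff.1 v.2.2 u u.2.1)⟩⟩
  have hMH : M ≤ H := inf_le_left.trans (Subgroup.map_subtype_le _)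
  obtain ⟨m, hmM, hm1⟩ := (Subgroup.bot_or_exists_ne_one M).resolve_left hM1
  have hCH : Subgroup.centralizer (M : Set G) ≤ H := by
    intro x hx
    by_contra hxH
    have hc : Commute x m := (Subgroup.mem_centralizer_iff.1 hx m hmM).symm
    have hxm : x * m ∉ H := fun h => hxH (by
      have := mul_mem h (inv_mem (hMH hmM))
      rwa [mul_inv_cancel_right] at this)
    have h1 := hout _ hxm
    rw [hc.mul_pow, hout _ hxH, one_mul] at h1
    obtain ⟨j, hj⟩ := IsPGroup.iff_orderOf.1 hQp ⟨m, hmM.1⟩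
    rw [Subgroup.orderOf_mk] at hj
    exact hm1 (hcopq m j hj.dvd h1)
  obtain ⟨i, hi⟩ : ∃ i : ℕ, H.index = p ^ i := by
    have hquo : IsPGroup p (G ⧸ H) := by
      intro g
      obtain ⟨x, rfl⟩ := QuotientGroup.mk_surjective g
      refine ⟨1, ?_⟩
      rw [pow_one, ← QuotientGroup.mk_pow]
      by_cases hx : x ∈ H
      · exact (QuotientGroup.eq_one_iff _).2 (pow_mem hx p)
      · rw [hout x hx, QuotientGroup.mk_one]
    exact hquo.exists_card_eq
  rcases i with _ | _ | i
  · exact absurd (Subgroup.index_eq_one.1 (by rwa [pow_zero] at hi)) hH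
  · rwa [pow_one] at hi
  exfalso
  let R : Sylow p G := Classical.arbitrary _
  have hsup : H ⊔ (R : Subgroup G) = ⊤ := by
    refine Subgroup.index_eq_one.1 (Nat.eq_one_of_dvd_coprimes (?_ : (p ^ (i + 2)).Coprime (R : Subgroup G).index)
      (hi ▸ Subgroup.index_dvd_of_le le_sup_left) (Subgroup.index_dvd_of_le le_sup_right))
    exact Nat.Coprime.pow_left _ (hp.coprime_iff_not_dvd.2 R.not_dvd_index)
  have hRH : ¬ (R : Subgroup G) ≤ H := fun h => hH (hsup ▸ sup_eq_left.2 h).symm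
  set C := (R : Subgroup G) ⊓ Subgroup.centralizer (M : Set G) with hC
  have hCR : C < (R : Subgroup G) :=
    lt_of_le_of_ne inf_le_left fun e => hRH ((e.ge.trans inf_le_right).trans hCH)
  have hCn : (R : Subgroup G) ≤ Subgroup.normalizer (C : Set G) := by
    intro g hg
    refine CfsgLib.Fusion.conjBy_eq_iff.1 (CfsgLib.Fusion.conjBy_eq_of_le ?_)
    rintro _ ⟨c, hc, rfl⟩
    exact Subgroup.mem_inf.2 ⟨(R : Subgroup G).mul_mem ((R : Subgroup G).mul_mem hg hc.1) ((R : Subgroup G).inv_mem hg),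
      (inferInstance : (Subgroup.centralizer (M : Set G)).Normal).conj_mem c hc.2 g⟩
  obtain ⟨z, hzR, hzC, hzc, hzp⟩ := CfsgLib.PGroup.exists_central_mod R.2 le_rfl Subgroup.le_normalizer hCn hCR
  have hne : ¬ (R : Subgroup G) ≤ H ⊔ Subgroup.zpowers z := by
    intro h
    by_cases hzH : z ∈ H
    · exact hRH (h.trans (sup_le le_rfl (Subgroup.zpowers_le.2 hzH)))
    have htop : H ⊔ Subgroup.zpowers z = ⊤ := eq_top_iff.2 (hsup.ge.trans (sup_le le_sup_left h))
    have e1 := CfsgLib.Coprime.card_sup_dvd_of_normal (Subgroup.zpowers z) H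
    rw [sup_comm, htop, Subgroup.card_top, Nat.card_zpowers, ← H.card_mul_index, hi,
      mul_comm (orderOf z)] at e1
    have e2 := (mul_dvd_mul_iff_left (Nat.card_pos (α := H)).ne').1 e1
    have e3 := e2.trans (orderOf_dvd_of_pow_eq_one (hout z hzH))
    have e4 := Nat.le_of_dvd hp.pos e3
    have e5 : p ^ 2 ≤ p ^ (i + 2) := Nat.pow_le_pow_right hp.pos (by omega)
    nlinarith [hp.two_le]
  obtain ⟨b, hbR, hb⟩ := SetLike.not_le_iff_exists.1 hne
  let α : Subgroup.normalizer (M : Set G) := ⟨b, by rw [Subgroup.normalizer_eq_top]; exact Subgroup.mem_top _⟩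
  let ζ : Subgroup.normalizer (M : Set G) := ⟨z, by rw [Subgroup.normalizer_eq_top]; exact Subgroup.mem_top _⟩
  have hkey := CfsgLib.PGroup.fixed_of_norms_eq_one M hp ?_ α ζ (fun w => Subtype.ext ?_) (fun w => Subtype.ext ?_)
    fun j w => Subtype.ext ?_
  · refine hzC ⟨hzR, Subgroup.mem_centralizer_iff.2 fun w hw => ?_⟩
    exact (mul_inv_eq_iff_eq_mul.1 (congrArg Subtype.val (hkey ⟨w, hw⟩))).symm
  · intro hd
    obtain ⟨x, hx⟩ := exists_prime_orderOf_dvd_card' (G := M) p hd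
    obtain ⟨j, hj⟩ := IsPGroup.iff_orderOf.1 hQp ⟨x, x.2.1⟩
    rw [Subgroup.orderOf_mk, Subgroup.orderOf_coe, hx] at hj
    exact hqp ((Nat.prime_dvd_prime_iff_eq hp hq).1 (hp.dvd_of_dvd_pow hj.dvd)).symm
  · show b * z * w * (b * z)⁻¹ = z * b * w * (z * b)⁻¹
    have hc2 := Subgroup.mem_centralizer_iff.1 (hzc b hbR).2
      ((z * b) * w * (z * b)⁻¹) (hMn.conj_mem _ w.2 _)
    calc b * z * w * (b * z)⁻¹
        = (b * z * b⁻¹ * z⁻¹) * ((z * b) * w * (z * b)⁻¹) * (b * z * b⁻¹ * z⁻¹)⁻¹ := by group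
      _ = ((z * b) * w * (z * b)⁻¹) * (b * z * b⁻¹ * z⁻¹) * (b * z * b⁻¹ * z⁻¹)⁻¹ := by rw [hc2]
      _ = z * b * w * (z * b)⁻¹ := mul_inv_cancel_right _ _
  · show z ^ p * w * (z ^ p)⁻¹ = w
    rw [← Subgroup.mem_centralizer_iff.1 hzp.2 w w.2, mul_inv_cancel_right]
  · rw [CfsgLib.PGroup.coe_prod_normConj]
    show ((w : G) * (b * z ^ j)) ^ p * ((b * z ^ j) ^ p)⁻¹ = 1
    have h1 : b * z ^ j ∉ H := fun h => hb (by
      have := mul_mem (Subgroup.mem_sup_left (T := Subgroup.zpowers z) h)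
        (Subgroup.mem_sup_right (inv_mem (pow_mem (Subgroup.mem_zpowers z) j)))
      rwa [mul_inv_cancel_right] at this)
    have h2 : (w : G) * (b * z ^ j) ∉ H := fun h => h1 (by
      have := mul_mem (inv_mem (hMH w.2)) h
      rwa [inv_mul_cancel_left] at this)
    rw [hout _ h1, hout _ h2]; simp

end Cfsg.Agent.S4249
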