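import Cfsg.Statements.S4250
import Cfsg.Agent.Lib.Fusion.AlperinTamePElem

set_option autoImplicit false
open Cfsg

namespace Cfsg.Agent.S4250

/-- Let P be a Sylow p-subgroup of a finite group G. Call an intersection H = P ∩ Q with a Sylow p-subgroup Q tame when N_P(H) and N_Q(H) are Sylow p-subgroups of N_G(H). Then P ∩ G′ is generated by [P, N_G(P)] together with the commutator subgroups [P ∩ Q, ⟨x⟩] for all tame intersections P ∩ Q and all p-elements x of N_G(P ∩ Q). -/
theorem result {G : Type*} [Group G] [Finite G] (p : ℕ) [Fact p.Prime] (P : Sylow p G) :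
    (P : Subgroup G) ⊓ commutator G =
      ⁅(P : Subgroup G), Subgroup.normalizer ((P : Subgroup G) : Set G)⁆ ⊔
        ⨆ (Q : Sylow p G) (_ : (¬ p ∣ ((P : Subgroup G) ⊓ Subgroup.normalizer (((P : Subgroup G) ⊓ (Q : Subgroup G) : Subgroup G) : Set G)).relIndex (Subgroup.normalizer (((P : Subgroup G) ⊓ (Q : Subgroup G) : Subgroup G) : Set G)) ∧ ¬ p ∣ ((Q : Subgroup G) ⊓ Subgroup.normalizer (((P : Subgroup G) ⊓ (Q : Subgroup G) : Subgroup G) : Set G)).relIndex (Subgroup.normalizer (((P : Subgroup G) ⊓ (Q : Subgroup G) : Subgroup G) : Set G))))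
          (x : G) (_ : x ∈ Subgroup.normalizer (((P : Subgroup G) ⊓ (Q : Subgroup G) : Subgroup G) : Set G) ∧ ∃ k : ℕ, orderOf x = p ^ k),
          ⁅(P : Subgroup G) ⊓ (Q : Subgroup G), Subgroup.zpowers x⁆ := by
  classical
  set W := ⁅(P : Subgroup G), Subgroup.normalizer ((P : Subgroup G) : Set G)⁆ ⊔
        ⨆ (Q : Sylow p G) (_ : (¬ p ∣ ((P : Subgroup G) ⊓ Subgroup.normalizer (((P : Subgroup G) ⊓ (Q : Subgroup G) : Subgroup G) : Set G)).relIndex (Subgroup.normalizer (((P : Subgroup G) ⊓ (Q : Subgroup G) : Subgroup G) : Set G)) ∧ ¬ p ∣ ((Q : Subgroup G) ⊓ Subgroup.normalizer (((P : Subgroup G) ⊓ (Q : Subgroup G) : Subgroup G) : Set G)).relIndex (Subgroup.normalizer (((P : Subgroup G) ⊓ (Q : Subgroup G) : Subgroup G) : Set G))))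
          (x : G) (_ : x ∈ Subgroup.normalizer (((P : Subgroup G) ⊓ (Q : Subgroup G) : Subgroup G) : Set G) ∧ ∃ k : ℕ, orderOf x = p ^ k),
          ⁅(P : Subgroup G) ⊓ (Q : Subgroup G), Subgroup.zpowers x⁆ with hW
  have hconj : ∀ (H : Subgroup G), ∀ x ∈ Subgroup.normalizer (H : Set G), ∀ b ∈ H, x⁻¹ * b * x ∈ H :=
    fun H x hx b hb => (Subgroup.mem_normalizer_iff''.1 hx b).1 hb
  refine le_antisymm ?_ (sup_le ?_ (iSup_le fun Q => iSup_le fun _ => iSup_le fun x => iSup_le fun hx => ?_))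
  · rw [inf_comm, Subgroup.commutator_inf_eq_focalSubgroup, Subgroup.focalSubgroup_def, Subgroup.closure_le]
    rintro w ⟨hw, a, ha, u, rfl⟩
    have hua : u * a⁻¹ * u⁻¹ ∈ (P : Subgroup G) := by
      have h := mul_mem (inv_mem ha) hw
      simpa [commutatorElement_def, mul_assoc] using h
    have step : ∀ (Q : Sylow p G), CfsgLib.Fusion.Tame P Q → ∀ x : G,
        (x ∈ CfsgLib.Fusion.PElem.pGen p (Subgroup.normalizer (((P : Subgroup G) ⊓ (Q : Subgroup G) : Subgroup G) : Set G)) ∨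
          x ∈ Subgroup.normalizer ((P : Subgroup G) : Set G)) →
        ∀ b ∈ (P : Subgroup G) ⊓ (Q : Subgroup G), b⁻¹ * (x⁻¹ * b * x) ∈ W := by
      intro Q hT x hx b hb
      rcases hx with hx | hx
      · induction hx using Subgroup.closure_induction generalizing b with
        | mem x hx =>
            refine Subgroup.mem_sup_right (Subgroup.mem_iSup_of_mem Q (Subgroup.mem_iSup_of_mem hT
              (Subgroup.mem_iSup_of_mem x (Subgroup.mem_iSup_of_mem hx ?_))))
            have h := Subgroup.commutator_mem_commutator (inv_mem hb) (inv_mem (Subgroup.mem_zpowers x))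
            rwa [commutatorElement_def, inv_inv, inv_inv, mul_assoc, mul_assoc b⁻¹, ← mul_assoc x⁻¹] at h
        | one => rw [inv_one, one_mul, mul_one, inv_mul_cancel]; exact one_mem _
        | mul x y hx' hy' ihx ihy =>
            have hxb := hconj _ x (CfsgLib.Fusion.PElem.pGen_le _ hx') b hb
            have h := mul_mem (ihx b hb) (ihy _ hxb)
            rwa [show b⁻¹ * (x⁻¹ * b * x) * ((x⁻¹ * b * x)⁻¹ * (y⁻¹ * (x⁻¹ * b * x) * y)) =
              b⁻¹ * ((x * y)⁻¹ * b * (x * y)) by group] at h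
        | inv x hx' ihx =>
            have hxb := hconj _ x⁻¹ (inv_mem (CfsgLib.Fusion.PElem.pGen_le _ hx')) b hb
            have h := inv_mem (ihx _ hxb)
            rwa [show ((x⁻¹⁻¹ * b * x⁻¹)⁻¹ * (x⁻¹ * (x⁻¹⁻¹ * b * x⁻¹) * x))⁻¹ =
              b⁻¹ * (x⁻¹⁻¹ * b * x⁻¹) by group] at h
      · refine Subgroup.mem_sup_left ?_
        have h := Subgroup.commutator_mem_commutator (inv_mem hb.1) (inv_mem hx)
        rwa [commutatorElement_def, inv_inv, inv_inv, mul_assoc, mul_assoc b⁻¹, ← mul_assoc x⁻¹] at h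
    have chain : ∀ {D : Subgroup G} {g : G}, CfsgLib.Fusion.PElem.TameChain P D g →
        ∀ b ∈ D, b⁻¹ * (g⁻¹ * b * g) ∈ W := by
      intro D g hch
      induction hch with
      | nil D => intro b _; rw [inv_one, one_mul, mul_one, inv_mul_cancel]; exact one_mem _
      | @cons D g Q x hT hx hgen hD _ ih =>
        intro b hb
        have h := mul_mem (step Q hT x hgen b (hD hb)) (ih (x⁻¹ * b * x) ⟨b, hb, by simp [mul_assoc]⟩)
        rwa [show b⁻¹ * (x⁻¹ * b * x) * ((x⁻¹ * b * x)⁻¹ * (g⁻¹ * (x⁻¹ * b * x) * g)) =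
          b⁻¹ * ((x * g)⁻¹ * b * (x * g)) by group] at h
    obtain ⟨D, haD, hch⟩ := CfsgLib.Fusion.PElem.exists_tameChain P {a⁻¹} u⁻¹
      (Set.singleton_subset_iff.2 (inv_mem ha)) (by
        rintro _ ⟨c, hc, rfl⟩
        rw [Set.mem_singleton_iff] at hc
        subst hc
        show u⁻¹⁻¹ * a⁻¹ * u⁻¹ ∈ (P : Subgroup G)
        rwa [inv_inv])
    have h := chain hch a⁻¹ (haD (Set.mem_singleton _))
    rw [inv_inv, inv_inv, ← mul_assoc, ← mul_assoc] at h
    rwa [commutatorElement_def]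
  · refine le_inf ?_ (Subgroup.commutator_mono le_top le_top)
    rw [Subgroup.commutator_le]
    intro a ha n hn
    rw [commutatorElement_def, mul_assoc a n, mul_assoc a]
    exact mul_mem ha ((Subgroup.mem_normalizer_iff.1 hn a⁻¹).1 (inv_mem ha))
  · refine le_inf (le_trans ?_ (inf_le_left : (P : Subgroup G) ⊓ (Q : Subgroup G) ≤ _))
      (Subgroup.commutator_mono le_top le_top)
    rw [Subgroup.commutator_le]
    intro a ha n hn
    rw [commutatorElement_def, mul_assoc a n, mul_assoc a]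
    exact mul_mem ha ((Subgroup.mem_normalizer_iff.1 (Subgroup.zpowers_le.2 hx.1 hn) a⁻¹).1 (inv_mem ha))

end Cfsg.Agent.S4250
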