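import Cfsg.Statements.S4252
import Cfsg.Agent.Lib.Coprime.Frobenius

set_option autoImplicit false
set_option linter.style.haveILetI false
open Cfsg

namespace Cfsg.Agent.S4252

/-- Let a finite group G act on a finite set Ω with more than one point, transitively but not regularly, so that no non-identity element of G fixes two distinct points. Then the stabilizer H of any point is a Frobenius complement in G (nontrivial, proper, meeting its other conjugates trivially), and the Frobenius kernel of G with respect to H (the identity together with the elements lying in no conjugate of H) is exactly the set consisting of the identity and the elements fixing no point. -/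
theorem result {G Ω : Type*} [Group G] [Finite G] [Fintype Ω] [MulAction G Ω] (hΩ : 1 < Fintype.card Ω)
    (htrans : ∀ α β : Ω, ∃ g : G, g • α = β) (hnreg : ∃ g : G, g ≠ 1 ∧ ∃ α : Ω, g • α = α)
    (hfix : ∀ g : G, g ≠ 1 → ∀ α β : Ω, g • α = α → g • β = β → α = β) (α : Ω) :
    Cfsg.IsFrobeniusComplement (MulAction.stabilizer G α) ∧
      Cfsg.frobeniusKernel (MulAction.stabilizer G α) = {g : G | g = 1 ∨ ∀ ω : Ω, g • ω ≠ ω} := by
  have hfr : Cfsg.IsFrobeniusComplement (MulAction.stabilizer G α) := by
    refine ⟨fun e => ?_, fun e => ?_, fun g hg => ?_⟩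
    · obtain ⟨c, hc, β, hβ⟩ := hnreg
      obtain ⟨u, rfl⟩ := htrans α β
      have h1 : u⁻¹ * c * u ∈ MulAction.stabilizer G α := by
        rw [MulAction.mem_stabilizer_iff, mul_smul, mul_smul, hβ, inv_smul_smul]
      rw [e, Subgroup.mem_bot] at h1
      refine hc ?_
      calc c = u * (u⁻¹ * c * u) * u⁻¹ := by group
        _ = 1 := by rw [h1]; group
    · obtain ⟨β, hβ⟩ := Fintype.exists_ne_of_one_lt_card hΩ α
      obtain ⟨u, hu⟩ := htrans α β
      exact hβ (hu.symm.trans (MulAction.mem_stabilizer_iff.1 (e ▸ Subgroup.mem_top u)))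
    · refine (Subgroup.eq_bot_iff_forall _).2 ?_
      rintro y ⟨hy, w, hw, hwe⟩
      simp only [MulDistribMulAction.toMonoidEnd_apply, MulDistribMulAction.toMonoidHom_apply,
        MulAut.smul_def, MulAut.conj_apply] at hwe
      by_contra hy1
      refine hg (MulAction.mem_stabilizer_iff.2 (hfix y hy1 (g • α) α ?_ hy))
      rw [← hwe, mul_smul, mul_smul, inv_smul_smul, MulAction.mem_stabilizer_iff.1 hw]
  refine ⟨hfr, Set.ext fun g => ?_⟩
  rw [CfsgLib.Coprime.frob_mem_kernel_iff]
  refine or_congr Iff.rfl ⟨fun h ω e => ?_, fun h u hu => h (u • α) ?_⟩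
  · obtain ⟨u, rfl⟩ := htrans α ω
    refine h u (MulAction.mem_stabilizer_iff.2 ?_)
    rw [mul_smul, mul_smul, e, inv_smul_smul]
  · have := MulAction.mem_stabilizer_iff.1 hu
    rw [mul_smul, mul_smul, inv_smul_eq_iff] at this
    exact this

end Cfsg.Agent.S4252
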