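import Cfsg.Statements.S4253
import Cfsg.Agent.Lib.Coprime.Core

set_option autoImplicit false
set_option linter.style.haveILetI false
open Cfsg
open scoped Pointwise

namespace Cfsg.Agent.S4253

/-- Let H be a Frobenius complement in a finite group G (a nontrivial proper subgroup meeting each conjugate gHg⁻¹ with g outside H trivially). Then in the action of G on the left cosets of H by left multiplication, no non-identity element of G fixes two distinct cosets. -/
theorem result {G : Type*} [Group G] [Finite G] (H : Subgroup G) (hH : Cfsg.IsFrobeniusComplement H)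
    (g : G) (hg : g ≠ 1) (a b : G ⧸ H) (ha : g • a = a) (hb : g • b = b) : a = b := by
  obtain ⟨a', rfl⟩ := QuotientGroup.mk_surjective a
  obtain ⟨b', rfl⟩ := QuotientGroup.mk_surjective b
  rw [MulAction.Quotient.smul_mk, smul_eq_mul, QuotientGroup.eq] at ha hb
  refine QuotientGroup.eq.2 ?_
  by_contra hn
  have ha' : a'⁻¹ * g * a' ∈ H := by
    have := H.inv_mem ha
    simpa [mul_assoc] using this
  have hb' : b'⁻¹ * g * b' ∈ H := by
    have := H.inv_mem hb
    simpa [mul_assoc] using this
  have h1 : a'⁻¹ * g * a' ∈ H ⊓ (MulAut.conj (a'⁻¹ * b') • H) := by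
    refine ⟨ha', b'⁻¹ * g * b', hb', ?_⟩
    simp only [MulDistribMulAction.toMonoidEnd_apply, MulDistribMulAction.toMonoidHom_apply,
      MulAut.smul_def, MulAut.conj_apply]
    group
  rw [hH.2.2 _ hn, Subgroup.mem_bot] at h1
  refine hg ?_
  calc g = a' * (a'⁻¹ * g * a') * a'⁻¹ := by group
    _ = 1 := by rw [h1]; group

end Cfsg.Agent.S4253
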