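import Cfsg.Statements.S4255
import Cfsg.Agent.Lib.PGroup.ClassGraphFrobenius

set_option autoImplicit false
open Cfsg

namespace Cfsg.Agent.S4255

/-- Let G be a finite group. Call a prime a vertex if it divides some conjugacy class size of G, and two distinct vertices adjacent if their product divides some class size. Suppose this graph is disconnected: the vertices split into two nonempty parts with no vertex of one part adjacent to a vertex of the other. Then G/Z(G) is a Frobenius group with abelian Frobenius complement and with a Frobenius kernel all of whose elements commute. -/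
theorem result {G : Type*} [Group G] [Finite G] (S : Set ℕ) (hS : ∃ p ∈ S, (p.Prime ∧ ∃ g : G, p ∣ (Subgroup.centralizer ({g} : Set G)).index)) (hS' : ∃ q ∉ S, (q.Prime ∧ ∃ g : G, q ∣ (Subgroup.centralizer ({g} : Set G)).index))
    (hdisc : ∀ p q : ℕ, (p.Prime ∧ ∃ g : G, p ∣ (Subgroup.centralizer ({g} : Set G)).index) → (q.Prime ∧ ∃ g : G, q ∣ (Subgroup.centralizer ({g} : Set G)).index) → p ∈ S → q ∉ S → ¬ (∃ g : G, p * q ∣ (Subgroup.centralizer ({g} : Set G)).index)) :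
    ∃ H : Subgroup (G ⧸ Subgroup.center G), Cfsg.IsFrobeniusComplement H ∧ IsMulCommutative H ∧
      ∀ x ∈ Cfsg.frobeniusKernel H, ∀ y ∈ Cfsg.frobeniusKernel H, x * y = y * x := by
  obtain ⟨y, hy⟩ := CfsgLib.ClassGraph.exists_top (G := G)
  obtain ⟨a, haS, ha, g, hg⟩ := hS
  obtain ⟨b, hbS, hb, g', hg'⟩ := hS'
  have hclosed : ∀ (g : G) (c d : ℕ), c.Prime → d.Prime → c ∣ CfsgLib.ClassGraph.cidx g →
      d ∣ CfsgLib.ClassGraph.cidx g → c ∈ S → d ∈ S := by
    intro g c d hc hd h1 h2 hcS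
    by_contra hdS
    exact hdisc c d ⟨hc, g, h1⟩ ⟨hd, g, h2⟩ hcS hdS
      ⟨g, ((Nat.coprime_primes hc hd).2 (fun e => hdS (e ▸ hcS))).mul_dvd_of_dvd_of_dvd h1 h2⟩
  by_cases htop : ∃ c : ℕ, c.Prime ∧ c ∣ CfsgLib.ClassGraph.cidx y ∧ c ∈ S
  · obtain ⟨c, hc, hcy, hcS⟩ := htop
    exact CfsgLib.ClassGraph.Sep.frobenius (y := y) (S := Sᶜ)
      ⟨hy, fun g c d hc hd h1 h2 hcS' hdS => hcS' (hclosed g d c hd hc h2 h1 hdS),
        fun d hd hdy hdS => hdS (hclosed y c d hc hd hcy hdy hcS), ⟨b, hb, hbS, g', hg'⟩⟩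
  · exact CfsgLib.ClassGraph.Sep.frobenius (y := y) (S := S)
      ⟨hy, hclosed, fun c hc hcy hcS => htop ⟨c, hc, hcy, hcS⟩, ⟨a, ha, haS, g, hg⟩⟩

end Cfsg.Agent.S4255
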