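import Cfsg.Statements.S4257
import Cfsg.Agent.Lib.PGroup.ClassGraph

set_option autoImplicit false
open Cfsg

namespace Cfsg.Agent.S4257

/-- Let G be a finite group. Call a prime a vertex if it divides some conjugacy class size of G, and two distinct vertices adjacent if their product divides some class size. If this graph is connected, then its diameter is at most 3: any two distinct vertices p and q are adjacent, or joined through one or two intermediate vertices. -/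
theorem result {G : Type*} [Group G] [Finite G]
    (hconn : ∀ S : Set ℕ, (∃ p ∈ S, (p.Prime ∧ ∃ g : G, p ∣ (Subgroup.centralizer ({g} : Set G)).index)) → (∃ q ∉ S, (q.Prime ∧ ∃ g : G, q ∣ (Subgroup.centralizer ({g} : Set G)).index)) →
      ∃ p q : ℕ, (p.Prime ∧ ∃ g : G, p ∣ (Subgroup.centralizer ({g} : Set G)).index) ∧ (q.Prime ∧ ∃ g : G, q ∣ (Subgroup.centralizer ({g} : Set G)).index) ∧ p ∈ S ∧ q ∉ S ∧ (∃ g : G, p * q ∣ (Subgroup.centralizer ({g} : Set G)).index))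
    (p q : ℕ) (hp : (p.Prime ∧ ∃ g : G, p ∣ (Subgroup.centralizer ({g} : Set G)).index)) (hq : (q.Prime ∧ ∃ g : G, q ∣ (Subgroup.centralizer ({g} : Set G)).index)) (hpq : p ≠ q) :
    (∃ g : G, p * q ∣ (Subgroup.centralizer ({g} : Set G)).index) ∨ (∃ r : ℕ, (r.Prime ∧ ∃ g : G, r ∣ (Subgroup.centralizer ({g} : Set G)).index) ∧ r ≠ p ∧ r ≠ q ∧ (∃ g : G, p * r ∣ (Subgroup.centralizer ({g} : Set G)).index) ∧ (∃ g : G, r * q ∣ (Subgroup.centralizer ({g} : Set G)).index)) ∨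
      (∃ r s : ℕ, (r.Prime ∧ ∃ g : G, r ∣ (Subgroup.centralizer ({g} : Set G)).index) ∧ (s.Prime ∧ ∃ g : G, s ∣ (Subgroup.centralizer ({g} : Set G)).index) ∧ r ≠ p ∧ s ≠ q ∧ r ≠ s ∧ r ≠ q ∧ s ≠ p ∧
        (∃ g : G, p * r ∣ (Subgroup.centralizer ({g} : Set G)).index) ∧ (∃ g : G, r * s ∣ (Subgroup.centralizer ({g} : Set G)).index) ∧ (∃ g : G, s * q ∣ (Subgroup.centralizer ({g} : Set G)).index)) := by
  classical
  obtain ⟨y, hy⟩ := CfsgLib.ClassGraph.exists_top (G := G)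
  let Adj : ℕ → ℕ → Prop := fun a b => ∃ g : G, a * b ∣ (Subgroup.centralizer ({g} : Set G)).index
  have hsymm : ∀ a b, Adj a b → Adj b a := fun a b ⟨g, hg⟩ => ⟨g, mul_comm a b ▸ hg⟩
  have hadj : ∀ (a b : ℕ), a.Prime → b.Prime → a ≠ b → ∀ g : G,
      a ∣ CfsgLib.ClassGraph.cidx g → b ∣ CfsgLib.ClassGraph.cidx g → Adj a b :=
    fun a b ha hb hab g h1 h2 =>
      ⟨g, ((Nat.coprime_primes ha hb).2 hab).mul_dvd_of_dvd_of_dvd h1 h2⟩
  -- a walk with at most three steps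
  have walk : ∀ a b : ℕ, a.Prime → b.Prime → (p = a ∨ Adj p a) → (a = b ∨ Adj a b) → (b = q ∨ Adj b q) →
      (∃ g : G, p * q ∣ (Subgroup.centralizer ({g} : Set G)).index) ∨ (∃ r : ℕ, (r.Prime ∧ ∃ g : G, r ∣ (Subgroup.centralizer ({g} : Set G)).index) ∧ r ≠ p ∧ r ≠ q ∧ (∃ g : G, p * r ∣ (Subgroup.centralizer ({g} : Set G)).index) ∧ (∃ g : G, r * q ∣ (Subgroup.centralizer ({g} : Set G)).index)) ∨
      (∃ r s : ℕ, (r.Prime ∧ ∃ g : G, r ∣ (Subgroup.centralizer ({g} : Set G)).index) ∧ (s.Prime ∧ ∃ g : G, s ∣ (Subgroup.centralizer ({g} : Set G)).index) ∧ r ≠ p ∧ s ≠ q ∧ r ≠ s ∧ r ≠ q ∧ s ≠ p ∧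
        (∃ g : G, p * r ∣ (Subgroup.centralizer ({g} : Set G)).index) ∧ (∃ g : G, r * s ∣ (Subgroup.centralizer ({g} : Set G)).index) ∧ (∃ g : G, s * q ∣ (Subgroup.centralizer ({g} : Set G)).index)) := by
    intro a b ha hb h1 h2 h3
    have two : ∀ r : ℕ, r.Prime → (p = r ∨ Adj p r) → (r = q ∨ Adj r q) →
        Adj p q ∨ ∃ r : ℕ, (r.Prime ∧ ∃ g : G, r ∣ (Subgroup.centralizer ({g} : Set G)).index) ∧ r ≠ p ∧ r ≠ q ∧ Adj p r ∧ Adj r q := by
      intro r hr k1 k2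
      by_cases hrp : r = p
      · subst hrp; exact Or.inl (k2.resolve_left hpq)
      by_cases hrq : r = q
      · subst hrq; exact Or.inl (k1.resolve_left (Ne.symm hrp))
      obtain ⟨g, hg⟩ := k1.resolve_left (Ne.symm hrp)
      exact Or.inr ⟨r, ⟨hr, g, (dvd_mul_left r p).trans hg⟩, hrp, hrq, ⟨g, hg⟩, k2.resolve_left hrq⟩
    by_cases hap : a = p
    · subst hap
      rcases two b hb h2 h3 with h | h
      · exact Or.inl h
      · exact Or.inr (Or.inl h)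
    by_cases hbq : b = q
    · subst hbq
      rcases two a ha h1 h2 with h | h
      · exact Or.inl h
      · exact Or.inr (Or.inl h)
    have k1 := h1.resolve_left (Ne.symm hap)
    have k3 := h3.resolve_left hbq
    by_cases haq : a = q
    · subst haq; exact Or.inl k1
    by_cases hbp : b = p
    · subst hbp; exact Or.inl k3
    by_cases hab : a = b
    · subst hab
      obtain ⟨g, hg⟩ := k1
      exact Or.inr (Or.inl ⟨a, ⟨ha, g, (dvd_mul_left a p).trans hg⟩, hap, haq, ⟨g, hg⟩, k3⟩)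
    obtain ⟨g, hg⟩ := k1
    obtain ⟨g', hg'⟩ := k3
    exact Or.inr (Or.inr ⟨a, b, ⟨ha, g, (dvd_mul_left a p).trans hg⟩, ⟨hb, g', (dvd_mul_right b q).trans hg'⟩,
      hap, hbq, hab, haq, hbp, ⟨g, hg⟩, h2.resolve_left hab, ⟨g', hg'⟩⟩)
  -- a vertex that is not remote is next to a prime of the largest class size
  have near : ∀ a : ℕ, a.Prime → ¬ CfsgLib.ClassGraph.Remote y a →
      ∃ c : ℕ, c.Prime ∧ c ∣ CfsgLib.ClassGraph.cidx y ∧ (a = c ∨ Adj a c) := by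
    intro a ha h
    rw [CfsgLib.ClassGraph.Remote] at h
    push Not at h
    obtain ⟨g, hga, hg⟩ := h
    obtain ⟨c, hc, hcg, hcy⟩ := Nat.Prime.not_coprime_iff_dvd.1 hg
    exact ⟨c, hc, hcy, (em (a = c)).imp_right fun hac => hadj a c ha hc hac g hga hcg⟩
  -- from a remote vertex to a vertex that is not
  have far : ∀ a b : ℕ, a.Prime → (∃ g : G, a ∣ (Subgroup.centralizer ({g} : Set G)).index) →
      CfsgLib.ClassGraph.Remote y a → b.Prime → (∃ g : G, b ∣ (Subgroup.centralizer ({g} : Set G)).index) →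
      ¬ CfsgLib.ClassGraph.Remote y b →
      ∃ s t : ℕ, s.Prime ∧ t.Prime ∧ (a = s ∨ Adj a s) ∧ (s = t ∨ Adj s t) ∧ (t = b ∨ Adj t b) := by
    intro a b ha hag hRa hb hbg hRb
    haveI := Fact.mk ha
    obtain ⟨a', s, ⟨ha', -⟩, ⟨hs, hsg⟩, haS, hsS, z, hz⟩ := hconn
      {r | CfsgLib.ClassGraph.Remote y r} ⟨a, hRa, ha, hag⟩ ⟨b, hRb, hb, hbg⟩
    have hzX : z ∈ CfsgLib.ClassGraph.xset y := haS z ((dvd_mul_right a' s).trans hz)
    have hne : a ≠ s := fun h => hsS (h ▸ hRa)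
    obtain ⟨z', hz'⟩ := CfsgLib.ClassGraph.exists_mul_dvd hy hRa hag hs hne hzX
      ((dvd_mul_left s a').trans hz)
    obtain ⟨P⟩ : Nonempty (Sylow a G) := inferInstance
    obtain ⟨v, hv, hv1⟩ := CfsgLib.ClassGraph.exists_qsub_ne_one hy hRa P hag
    have hQ : Nat.card (CfsgLib.ClassGraph.qsub y P) ≠ 1 := fun h => hv1 (by
      rw [Subgroup.card_eq_one.1 h] at hv; exact Subgroup.mem_bot.1 hv)
    obtain ⟨t, ht, htq⟩ := Nat.exists_prime_and_dvd hQ
    have key : ∀ r : ℕ, r.Prime → ¬ CfsgLib.ClassGraph.Remote y r → r = t ∨ Adj r t := by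
      intro r hr h
      rw [CfsgLib.ClassGraph.Remote] at h
      push Not at h
      obtain ⟨g, hgr, hg⟩ := h
      exact (em (r = t)).imp_right fun hrt => hadj r t hr ht hrt g hgr
        (CfsgLib.ClassGraph.prime_qsub_dvd hy hRa P ht htq hg)
    exact ⟨s, t, hs, ht, Or.inr ⟨z', hz'⟩, key s hs hsS, (key b hb hRb).imp Eq.symm (hsymm b t)⟩
  by_cases hP : CfsgLib.ClassGraph.Remote y p <;> by_cases hQ : CfsgLib.ClassGraph.Remote y q
  · obtain ⟨g, hg⟩ := hq.2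
    haveI := Fact.mk hp.1
    exact Or.inl (CfsgLib.ClassGraph.exists_mul_dvd hy hP hp.2 hq.1 hpq (hQ g hg) hg)
  · obtain ⟨s, t, hs, ht, h1, h2, h3⟩ := far p q hp.1 hp.2 hP hq.1 hq.2 hQ
    exact walk s t hs ht h1 h2 h3
  · obtain ⟨s, t, hs, ht, h1, h2, h3⟩ := far q p hq.1 hq.2 hQ hp.1 hp.2 hP
    exact walk t s ht hs (h3.imp Eq.symm (hsymm t p)) (h2.imp Eq.symm (hsymm s t)) (h1.imp Eq.symm (hsymm q s))
  · obtain ⟨c, hc, hcy, h1⟩ := near p hp.1 hP
    obtain ⟨d, hd, hdy, h3⟩ := near q hq.1 hQ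
    exact walk c d hc hd h1 ((em (c = d)).imp_right fun h => hadj c d hc hd h y hcy hdy)
      (h3.imp Eq.symm (hsymm q d))

end Cfsg.Agent.S4257
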