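import Cfsg.Statements.S4260
import Cfsg.Agent.Lib.PGroup.Basic

set_option autoImplicit false
set_option linter.style.haveILetI false
open Cfsg

namespace Cfsg.Agent.S4260

/-- Let H be a Hall subgroup of a finite group G (the order of H is coprime to its index) such that x^[G : H] lies in H for every x in G. Then H is normal in G. -/
theorem result {G : Type*} [Group G] [Finite G] (H : Subgroup G) (hHall : (Nat.card H).Coprime H.index)
    (hexp : ∀ x : G, x ^ H.index ∈ H) : H.Normal := by
  have key : ∀ x : G, x ^ Nat.card H = 1 → x ∈ H := fun x hx => by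
    refine CfsgLib.PGroup.mem_of_forall_prime_pow_mem fun r hr => ?_
    by_cases hd : r ∣ H.index
    · refine ⟨Nat.card H, fun h => hr.ne_one (Nat.eq_one_of_dvd_coprimes hHall h hd), ?_⟩
      rw [hx]; exact H.one_mem
    · exact ⟨H.index, hd, hexp x⟩
  refine ⟨fun h hh g => key _ ?_⟩
  rw [conj_pow, orderOf_dvd_iff_pow_eq_one.1 (H.orderOf_dvd_natCard hh), mul_one, mul_inv_cancel]

end Cfsg.Agent.S4260
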