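import Cfsg.Statements.S4261
import Cfsg.Agent.Lib.PGroup.ShortTools
import Cfsg.Agent.Lib.Coprime.Primitive
import Cfsg.Agent.Lib.CFun.Series

set_option autoImplicit false
set_option linter.style.haveILetI false
open Cfsg

namespace Cfsg.Agent.S4261

/-- Let M be a maximal subgroup of a finite solvable group G such that x^[G : M] lies in M for every x in G. Then M is normal in G. -/
theorem result {G : Type*} [Group G] [Finite G] (hG : Group.IsSolvable G) (M : Subgroup G) (hM : IsCoatom M)
    (hexp : ∀ x : G, x ^ M.index ∈ M) : M.Normal := by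
  haveI := hG
  set f := QuotientGroup.mk' M.normalCore
  have hsur := QuotientGroup.mk'_surjective M.normalCore
  have hle : f.ker ≤ M := by rw [QuotientGroup.ker_mk']; exact Subgroup.normalCore_le M
  have hcoat : IsCoatom (M.map f) := by
    refine ⟨fun e => hM.1 ?_, fun K hK => ?_⟩
    · rw [← Subgroup.comap_map_eq_self hle, e, Subgroup.comap_top]
    · have : M < K.comap f := lt_of_eq_of_lt (Subgroup.comap_map_eq_self hle).symm
        ((Subgroup.comap_lt_comap_of_surjective hsur).2 hK)
      rw [← Subgroup.map_comap_eq_self_of_surjective hsur K, hM.2 _ this,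
        Subgroup.map_top_of_surjective f hsur]
  have hcore : (M.map f).normalCore = ⊥ := by
    rw [← Subgroup.map_comap_eq_self_of_surjective hsur (M.map f).normalCore, Subgroup.map_eq_bot_iff,
      QuotientGroup.ker_mk']
    refine Subgroup.normal_le_normalCore.2 ?_
    exact (Subgroup.comap_mono (Subgroup.normalCore_le _)).trans (Subgroup.comap_map_eq_self hle).le
  haveI : Nontrivial (G ⧸ M.normalCore) := QuotientGroup.nontrivial_iff.2 fun e =>
    hM.1 (top_le_iff.1 (e ▸ Subgroup.normalCore_le M))
  obtain ⟨V, hVn, hV0, -, hmin⟩ :=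
    CfsgLib.Coprime.exists_minimal_normal_le (N := (⊤ : Subgroup (G ⧸ M.normalCore))) top_ne_bot
  haveI := hVn
  obtain ⟨p, d, hp, -, hVcard, -, -⟩ := CfsgLib.Coprime.exists_minimal_abelian V hV0 hmin
  haveI := Fact.mk hp
  have hidx : M.index ∣ p ^ d := by
    rw [← Subgroup.index_map_eq M hsur hle, ← hVcard]
    have h := CfsgLib.Coprime.sup_eq_top_of_normal hcoat hcore V hV0
    refine (Nat.mul_dvd_mul_iff_left (Nat.card_pos (α := M.map f))).1 ?_
    rw [Subgroup.card_mul_index, ← Subgroup.card_top, ← h, sup_comm]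
    exact CfsgLib.PGroup.card_sup_dvd_of_normal _ _
  obtain ⟨k, -, hk⟩ := (Nat.dvd_prime_pow hp).1 hidx
  set R := Cfsg.pResidual p G
  haveI : R.Normal := by
    refine ⟨fun n hn g => ?_⟩
    have hle : R ≤ R.comap (MulAut.conj g).toMonoidHom :=
      (Subgroup.closure_le _).2 fun z hz => Subgroup.subset_closure (by
        show Nat.Coprime (orderOf ((MulAut.conj g).toMonoidHom z)) p
        rwa [orderOf_injective _ (MulAut.conj g).injective])
    exact hle hn
  have hRM : R ≤ M := (Subgroup.closure_le _).2 fun z (hz : (orderOf z).Coprime p) =>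
    CfsgLib.PGroup.mem_of_pow_mem_coprime (p := p) (n := k) hp (hk ▸ hexp z)
      (hp.coprime_iff_not_dvd.1 hz.symm) (by rw [pow_orderOf_eq_one]; exact one_mem _)
  set g := QuotientGroup.mk' R
  have hgk : g.ker ≤ M := by rw [QuotientGroup.ker_mk']; exact hRM
  have hQ : IsPGroup p (G ⧸ R) := by
    intro q
    obtain ⟨z, rfl⟩ := QuotientGroup.mk'_surjective R q
    obtain ⟨i, hi⟩ := CfsgLib.CFun.exists_ppow_order p z
    refine ⟨i, ?_⟩
    rw [← map_pow]
    exact (QuotientGroup.eq_one_iff _).2
      (Subgroup.subset_closure ((hp.coprime_iff_not_dvd.2 hi).symm))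
  haveI := hQ.isNilpotent
  have hc : IsCoatom (M.map g) := by
    refine ⟨fun e => hM.1 ?_, fun K hK => ?_⟩
    · rw [← Subgroup.comap_map_eq_self hgk, e, Subgroup.comap_top]
    · have : M < K.comap g := by
        rw [← Subgroup.comap_map_eq_self hgk]
        exact (Subgroup.comap_lt_comap_of_surjective (QuotientGroup.mk'_surjective R)).2 hK
      rw [← Subgroup.map_comap_eq_self_of_surjective (QuotientGroup.mk'_surjective R) K, hM.2 _ this,
        Subgroup.map_top_of_surjective g (QuotientGroup.mk'_surjective R)]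
  haveI := Subgroup.NormalizerCondition.normal_of_coatom (M.map g)
    Group.normalizerCondition_of_isNilpotent hc
  rw [← Subgroup.comap_map_eq_self hgk]
  infer_instance

end Cfsg.Agent.S4261
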