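import Cfsg.Statements.S4263
import Cfsg.Agent.Lib.PGroup.Basic

open CfsgLib.PGroup Subgroup

set_option autoImplicit false
open Cfsg
set_option linter.style.haveILetI false

namespace Cfsg.Agent.S4263

/-- Let G be a finite group. An element x lies in the Fitting subgroup F(G) if and only if, for every subgroup H of G, the power x^[G : H] lies in H. -/
theorem result {G : Type*} [Group G] [Finite G] (x : G) :
    x ∈ Cfsg.fittingSubgroup G ↔ ∀ H : Subgroup G, x ^ H.index ∈ H := by
  constructor
  · intro hx H
    refine mem_of_forall_prime_pow_mem fun p hp => ?_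
    haveI := Fact.mk hp
    refine ⟨pPrimePart p G, not_dvd_pPrimePart hp, ?_⟩
    have hy := pow_pPrimePart_mem_pCore (p := p) hx
    rw [← pow_mul, mul_comm, pow_mul]
    set O := Cfsg.pCore p G with hO
    have h1 := pow_index_mem_of_isPGroup (isPGroup_pCore p G) (H.subgroupOf O) ⟨_, hy⟩
    rw [mem_subgroupOf] at h1
    have hdvd : H.relIndex O ∣ H.index := relIndex_dvd_index_normal_right H O
    obtain ⟨c, hc⟩ := hdvd
    rw [hc, pow_mul]
    exact H.pow_mem (by simpa [relIndex] using h1) _
  · intro h
    refine mem_of_forall_prime_pow_mem fun p hp => ?_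
    haveI := Fact.mk hp
    refine ⟨pPrimePart p G, not_dvd_pPrimePart hp, ?_⟩
    refine (le_sSup ⟨inferInstance, ?_⟩ : Cfsg.pCore p G ≤ Cfsg.fittingSubgroup G)
      (iInf_sylow_le_pCore p (mem_iInf.2 fun P => ?_))
    · exact (isPGroup_pCore p G).isNilpotent
    · rw [pPrimePart_eq_index P]
      exact h _

end Cfsg.Agent.S4263
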