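import Cfsg.Statements.S4265
import Cfsg.Agent.Lib.Coprime.ClassMod.Main

set_option autoImplicit false
open Cfsg

namespace Cfsg.Agent.S4265

/-- Let G be a finite solvable subgroup of GL_r(ℂ), r ≥ 1, with Fitting subgroup F(G) normal in G. Then for every subgroup H of G the quotient H/(H ∩ F(G)) has at most 3^{r−1} conjugacy classes. -/
theorem result (r : ℕ) (hr : 1 ≤ r) (G : Subgroup (GL (Fin r) ℂ)) [Finite ↥G] (hsolv : Group.IsSolvable ↥G) [hF : (Cfsg.fittingSubgroup ↥G).Normal] (H : Subgroup ↥G) : Nat.card (ConjClasses (↥H ⧸ (Cfsg.fittingSubgroup ↥G).subgroupOf H)) ≤ 3 ^ (r - 1) := by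
  classical
  let e := (Matrix.GeneralLinearGroup.toLin (n := Fin r) (R := ℂ)).trans
    (LinearMap.GeneralLinearGroup.generalLinearEquiv ℂ (Fin r → ℂ))
  have h := CfsgLib.Coprime.ClassMod.linBound r G (Fin r → ℂ) (e.toMonoidHom.comp G.subtype)
    (e.injective.comp G.subtype_injective) hsolv (Module.finrank_fin_fun ℂ)
  let f : ↥H ⧸ (Cfsg.fittingSubgroup ↥G).subgroupOf H →* ↥G ⧸ Cfsg.fittingSubgroup ↥G :=
    QuotientGroup.map _ _ H.subtype le_rfl
  have hf : Function.Injective f := (injective_iff_map_eq_one f).2 fun q hq => by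
    induction q using QuotientGroup.induction_on with
    | H x => exact (QuotientGroup.eq_one_iff x).2 ((QuotientGroup.eq_one_iff (x : G)).1 hq)
  exact (CfsgLib.Coprime.ClassMod.KC.of_injective f hf h).self

end Cfsg.Agent.S4265
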