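import Cfsg.Statements.S4269
import Cfsg.Agent.Lib.Coprime.Action
-- import your own Cfsg.Agent.* helpers here

set_option autoImplicit false
open Cfsg

namespace Cfsg.Agent.S4269

open scoped commutatorElement

/-- Let G be a finite group, V an abelian normal subgroup and H a subgroup with HV = G. Then H is pronormal in G (H and gHg⁻¹ are conjugate inside the subgroup they generate, for every g) if and only if every H-invariant subgroup U of V satisfies U = N_U(H)·[H, U], that is, U is the join of U ∩ N_G(H) and the commutator subgroup [H, U]. -/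
theorem result {G : Type*} [Group G] [Finite G]
    (V : Subgroup G) [V.Normal] (hV : IsMulCommutative ↥V) (H : Subgroup G) (hHV : H ⊔ V = ⊤) :
    Cfsg.IsPronormal H ↔
      ∀ U : Subgroup G, U ≤ V → (∀ h ∈ H, U.map (MulAut.conj h).toMonoidHom = U) →
        U = (U ⊓ Subgroup.normalizer (H : Set G)) ⊔ ⁅H, U⁆ := by
  have hVc : ∀ a b, a ∈ V → b ∈ V → a * b = b * a := fun a b ha hb =>
    congrArg Subtype.val (hV.is_comm.comm ⟨a, ha⟩ ⟨b, hb⟩)
  have conjBy_eq : ∀ (g : G) (K : Subgroup G),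
      K.map (MulAut.conj g).toMonoidHom = CfsgLib.Coprime.conjBy g K := fun _ _ => rfl
  constructor
  · intro hpro U hUV hUinv
    set N := U ⊓ Subgroup.normalizer (H : Set G)
    have hcomm : ⁅H, U⁆ ≤ U := by
      rw [Subgroup.commutator_le]
      intro h hh u hu
      rw [commutatorElement_def]
      refine U.mul_mem ?_ (U.inv_mem hu)
      rw [← hUinv h hh]
      exact ⟨u, hu, rfl⟩
    refine le_antisymm (fun u hu => ?_) (sup_le inf_le_left hcomm)
    set C := ⁅H, U⁆ with hC
    have hHC : H ≤ Subgroup.normalizer (C : Set G) :=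
      Subgroup.normalizer_commutator_ge_left H U
    have hconj : CfsgLib.Coprime.conjBy u H ≤ H ⊔ C := by
      rintro _ ⟨h, hh, rfl⟩
      show u * h * u⁻¹ ∈ H ⊔ C
      have e : u * h * u⁻¹ = ⁅h, u⁆⁻¹ * h := by rw [commutatorElement_def]; group
      rw [e]
      exact Subgroup.mul_mem _ (Subgroup.mem_sup_right (C.inv_mem (Subgroup.commutator_mem_commutator hh hu)))
        (Subgroup.mem_sup_left hh)
    obtain ⟨x, hx, he⟩ := hpro u
    rw [conjBy_eq, conjBy_eq] at he
    rw [conjBy_eq] at hx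
    have hx' : x ∈ H ⊔ C := sup_le le_sup_left hconj hx
    rw [← SetLike.mem_coe, Subgroup.coe_mul_of_left_le_normalizer_right H C hHC] at hx'
    obtain ⟨h, hh, c, hc, rfl⟩ := Set.mem_mul.1 hx'
    -- move `h` to the right
    set c' := h * c * h⁻¹ with hc'
    have hc'C : c' ∈ C := (Subgroup.mem_normalizer_iff.1 (hHC hh) c).1 hc
    have hxe : h * c = c' * h := by rw [hc']; group
    rw [hxe, ← CfsgLib.Coprime.conjBy_conjBy, CfsgLib.Coprime.conjBy_eq_self_of_mem hh] at he
    have hn : c'⁻¹ * u ∈ N := by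
      refine ⟨U.mul_mem (U.inv_mem (hcomm hc'C)) hu, CfsgLib.Coprime.conjBy_eq_self_iff.1 ?_⟩
      rw [← CfsgLib.Coprime.conjBy_conjBy, he, CfsgLib.Coprime.conjBy_conjBy, inv_mul_cancel,
        CfsgLib.Coprime.conjBy_one]
    rw [show u = c' * (c'⁻¹ * u) by group, hVc _ _ (hUV (hcomm hc'C)) (hUV hn.1)]
    exact Subgroup.mul_mem_sup hn hc'C
  · intro hcrit g
    -- reduce to an element of `V`
    have hg : g ∈ V ⊔ H := by rw [sup_comm, hHV]; exact Subgroup.mem_top g
    obtain ⟨v, hv, h₀, hh₀, rfl⟩ := Subgroup.mem_sup_of_normal_left.1 hg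
    simp only [conjBy_eq]
    rw [← CfsgLib.Coprime.conjBy_conjBy, CfsgLib.Coprime.conjBy_eq_self_of_mem hh₀]
    set L := H ⊔ CfsgLib.Coprime.conjBy v H with hL
    set U := Subgroup.closure {w : G | ∃ h ∈ H, w = h * v * h⁻¹} with hU
    have hUV : U ≤ V := (Subgroup.closure_le V).2 (by
      rintro _ ⟨h, -, rfl⟩
      exact (inferInstance : V.Normal).conj_mem v hv h)
    have hUinv : ∀ h ∈ H, U.map (MulAut.conj h).toMonoidHom = U := by
      intro h hh
      rw [hU, MonoidHom.map_closure]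
      congr 1
      ext w
      constructor
      · rintro ⟨_, ⟨k, hk, rfl⟩, rfl⟩
        exact ⟨h * k, H.mul_mem hh hk, by
          show h * (k * v * k⁻¹) * h⁻¹ = h * k * v * (h * k)⁻¹
          group⟩
      · rintro ⟨k, hk, rfl⟩
        refine ⟨h⁻¹ * k * v * (h⁻¹ * k)⁻¹, ⟨h⁻¹ * k, H.mul_mem (H.inv_mem hh) hk, rfl⟩, ?_⟩
        show h * (h⁻¹ * k * v * (h⁻¹ * k)⁻¹) * h⁻¹ = k * v * k⁻¹
        group
    have hvU : v ∈ U := Subgroup.subset_closure ⟨1, H.one_mem, by group⟩
    have hCL : ⁅H, U⁆ ≤ L := by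
      rw [Subgroup.commutator_le]
      intro h hh u hu
      suffices key : ∀ h ∈ H, ⁅h, u⁆ ∈ L from key h hh
      induction hu using Subgroup.closure_induction with
      | mem w hw =>
        obtain ⟨k, hk, rfl⟩ := hw
        intro h hh
        have e : ⁅h, k * v * k⁻¹⁆ = k * ⁅k⁻¹ * h * k, v⁆ * k⁻¹ := by
          simp only [commutatorElement_def]; group
        rw [e]
        have hkh : k⁻¹ * h * k ∈ H := H.mul_mem (H.mul_mem (H.inv_mem hk) hh) hk
        have h1 : ⁅k⁻¹ * h * k, v⁆ ∈ L := by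
          rw [commutatorElement_def, mul_assoc, mul_assoc, ← mul_assoc v]
          exact L.mul_mem (Subgroup.mem_sup_left hkh)
            (Subgroup.mem_sup_right ⟨(k⁻¹ * h * k)⁻¹, H.inv_mem hkh, rfl⟩)
        exact L.mul_mem (L.mul_mem (Subgroup.mem_sup_left hk) h1) (L.inv_mem (Subgroup.mem_sup_left hk))
      | one => intro h _; simp
      | mul a b ha hb iha ihb =>
        intro h hh
        have e : ⁅h, a * b⁆ = ⁅h, a⁆ * (a * ⁅h, b⁆ * a⁻¹) := by
          simp only [commutatorElement_def]; group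
        have hbV : ⁅h, b⁆ ∈ V := by
          rw [commutatorElement_def]
          exact V.mul_mem ((inferInstance : V.Normal).conj_mem b (hUV hb) h) (V.inv_mem (hUV hb))
        rw [e, hVc a _ (hUV ha) hbV, mul_inv_cancel_right]
        exact L.mul_mem (iha h hh) (ihb h hh)
      | inv a ha iha =>
        intro h hh
        have haV : ⁅h, a⁆ ∈ V := by
          rw [commutatorElement_def]
          exact V.mul_mem ((inferInstance : V.Normal).conj_mem a (hUV ha) h) (V.inv_mem (hUV ha))
        have e : ⁅h, a⁻¹⁆ = a⁻¹ * ⁅h, a⁆⁻¹ * a := by simp only [commutatorElement_def]; group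
        rw [e, hVc a⁻¹ _ (V.inv_mem (hUV ha)) (V.inv_mem haV), inv_mul_cancel_right]
        exact L.inv_mem (iha h hh)
    have hveq := hcrit U hUV hUinv
    have hUCn : ⁅H, U⁆ ≤ V := by
      rw [Subgroup.commutator_le]
      intro h hh u hu
      rw [commutatorElement_def]
      exact V.mul_mem ((inferInstance : V.Normal).conj_mem u (hUV hu) h) (V.inv_mem (hUV hu))
    have hv' : v ∈ (U ⊓ Subgroup.normalizer (H : Set G)) ⊔ ⁅H, U⁆ := hveq ▸ hvU
    have hnorm : (U ⊓ Subgroup.normalizer (H : Set G)) ≤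
        Subgroup.normalizer ((⁅H, U⁆ : Subgroup G) : Set G) := by
      intro a ha
      rw [← CfsgLib.Coprime.conjBy_eq_self_iff]
      refine Subgroup.eq_of_le_of_card_ge ?_ (CfsgLib.Coprime.card_conjBy a _).ge
      rintro _ ⟨c, hc, rfl⟩
      show a * c * a⁻¹ ∈ _
      rw [hVc a c (hUV ha.1) (hUCn hc), mul_inv_cancel_right]
      exact hc
    rw [← SetLike.mem_coe, Subgroup.coe_mul_of_left_le_normalizer_right _ _ hnorm] at hv'
    obtain ⟨n, hn, c, hc, rfl⟩ := Set.mem_mul.1 hv'
    refine ⟨c, hCL hc, ?_⟩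
    rw [hVc n c (hUV hn.1) (hUCn hc), ← CfsgLib.Coprime.conjBy_conjBy,
      CfsgLib.Coprime.conjBy_eq_self_iff.2 hn.2]

end Cfsg.Agent.S4269
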