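import Cfsg.Statements.S4270
-- import your own Cfsg.Agent.* helpers here
import Mathlib
import Cfsg.Agent.Lib.Coprime.SchurZassenhaus
import Cfsg.Agent.Lib.Fusion.Sylow

set_option autoImplicit false
open Cfsg

namespace Cfsg.Agent.S4270

open Subgroup CfsgLib.Coprime

universe u

/-- All subgroups containing a Sylow `p`-subgroup are pronormal. -/
abbrev Pro (p : ℕ) (G : Type u) [Group G] : Prop :=
  ∀ K : Subgroup G, (∃ P : Sylow p G, (P : Subgroup G) ≤ K) → Cfsg.IsPronormal K

variable {G : Type u} [Group G]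

theorem pronormal_conjBy {K : Subgroup G} (h : Cfsg.IsPronormal K) (c : G) :
    Cfsg.IsPronormal (conjBy c K) := by
  intro g
  obtain ⟨x, hx, he⟩ := h (c⁻¹ * g * c)
  refine ⟨c * x * c⁻¹, ?_, ?_⟩
  · have h1 := Subgroup.mem_map_of_mem (MulAut.conj c).toMonoidHom hx
    rw [Subgroup.map_sup] at h1
    refine (sup_le_sup le_rfl (le_of_eq ?_) :
      conjBy c K ⊔ conjBy c (conjBy (c⁻¹ * g * c) K) ≤ conjBy c K ⊔ conjBy g (conjBy c K)) h1
    rw [conjBy_conjBy, conjBy_conjBy]; congr 1; group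
  · show conjBy g (conjBy c K) = conjBy (c * x * c⁻¹) (conjBy c K)
    rw [conjBy_conjBy, conjBy_conjBy, show g * c = c * (c⁻¹ * g * c) by group,
      show c * x * c⁻¹ * c = c * x by group, ← conjBy_conjBy, ← conjBy_conjBy c x]
    exact congrArg (conjBy c) he

theorem pronormal_map {Q : Type*} [Group Q] (f : G →* Q) (hf : Function.Surjective f)
    {K : Subgroup G} (h : Cfsg.IsPronormal K) : Cfsg.IsPronormal (K.map f) := by
  intro g
  obtain ⟨g, rfl⟩ := hf g
  obtain ⟨x, hx, he⟩ := h g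
  refine ⟨f x, ?_, ?_⟩
  · show f x ∈ K.map f ⊔ conjBy (f g) (K.map f)
    rw [← conjBy_map, ← Subgroup.map_sup]
    exact Subgroup.mem_map_of_mem f hx
  · show conjBy (f g) (K.map f) = conjBy (f x) (K.map f)
    rw [← conjBy_map, ← conjBy_map]
    exact congrArg (Subgroup.map f) he

theorem pronormal_subgroupOf {N K : Subgroup G} (hK : K ≤ N) (h : Cfsg.IsPronormal K) :
    Cfsg.IsPronormal (K.subgroupOf N) := by
  intro a
  obtain ⟨z, hz, he⟩ := h a
  have hsub : ∀ b : N, (conjBy b (K.subgroupOf N)).map N.subtype = conjBy (b : G) K := fun b => by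
    rw [conjBy_map, Subgroup.map_subgroupOf_eq_of_le hK]; rfl
  have hz' : z ∈ (K.subgroupOf N ⊔ conjBy a (K.subgroupOf N)).map N.subtype := by
    rw [Subgroup.map_sup, hsub, Subgroup.map_subgroupOf_eq_of_le hK]; exact hz
  obtain ⟨b, hb, rfl⟩ := hz'
  refine ⟨b, hb, Subgroup.map_injective N.subtype_injective ?_⟩
  rw [hsub, hsub]
  exact he

variable [Finite G] {p : ℕ} [hp : Fact p.Prime]

/-- Frattini argument inside `K ∩ A`, for a Sylow subgroup `T` of `A`. -/
theorem frattini_inside {A T K : Subgroup G} (hTA : T ≤ A) (hT : IsPGroup p T)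
    (hTi : ¬ p ∣ T.relIndex A) (hTK : T ≤ K) {y : G} (hy : y ∈ normalizer ((K ⊓ A : Subgroup G) : Set G)) :
    ∃ h ∈ K ⊓ A, h * y ∈ normalizer (T : Set G) := by
  have hTKA : T ≤ K ⊓ A := le_inf hTK hTA
  have hle : conjBy y T ≤ K ⊓ A :=
    (Subgroup.map_mono hTKA).trans (le_of_eq (conjBy_eq_self_iff.2 hy))
  obtain ⟨h, hh, hc⟩ := CfsgLib.Fusion.exists_conj_le_of_not_dvd_relIndex hT hTKA
    (fun hd => hTi (hd.trans
      (Dvd.intro _ (Subgroup.relIndex_mul_relIndex _ _ _ hTKA inf_le_right)))) (hT.map (MulAut.conj y).toMonoidHom) hle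
  · refine ⟨h, hh, conjBy_eq_self_iff.1 ?_⟩
    rw [← conjBy_conjBy]
    exact Subgroup.eq_of_le_of_card_ge hc (by rw [card_conjBy, card_conjBy])

/-- An overgroup in `N_G(T)` of a Sylow subgroup that meets `A` in `T`. -/
theorem sylow_le_normalizer {A T : Subgroup G} [A.Normal] (hTA : T ≤ A) (hTi : ¬ p ∣ T.relIndex A)
    (S : Sylow p G) (hTS : T ≤ S) : (S : Subgroup G) ≤ normalizer (T : Set G) := by
  have he : (S : Subgroup G) ⊓ A = T := by
    refine (Subgroup.relIndex_eq_one.1 ?_).antisymm (le_inf hTS hTA)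
    obtain ⟨k, hk⟩ := (S.2.to_le inf_le_left : IsPGroup p ((S : Subgroup G) ⊓ A : Subgroup G)).exists_card_eq
    obtain ⟨j, -, hj⟩ := (Nat.dvd_prime_pow hp.out).1
      (hk ▸ Subgroup.relIndex_dvd_card T ((S : Subgroup G) ⊓ A))
    cases j with
    | zero => rw [hj, pow_zero]
    | succ j =>
      refine absurd ?_ hTi
      have h1 : p ∣ T.relIndex ((S : Subgroup G) ⊓ A) := hj ▸ dvd_pow_self p (Nat.succ_ne_zero j)
      exact h1.trans (Dvd.intro _
        (Subgroup.relIndex_mul_relIndex _ _ _ (le_inf hTS hTA) inf_le_right))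
  intro s hs
  rw [← he]
  refine conjBy_eq_self_iff.1 ?_
  rw [conjBy, Subgroup.map_inf _ _ _ (MulEquiv.injective _)]
  exact congrArg₂ _ (conjBy_eq_self_iff.2 (le_normalizer hs))
    (conjBy_eq_self_iff.2 (by rw [Subgroup.normalizer_eq_top]; trivial))

theorem criterion (A : Subgroup G) [A.Normal] (hA : Pro p A) (hQ : Pro p (G ⧸ A))
    (T : Subgroup G) (hTA : T ≤ A) (hT : IsPGroup p T) (hTi : ¬ p ∣ T.relIndex A)
    [(T.subgroupOf (normalizer (T : Set G))).Normal] :
    Pro p G ↔ (Pro p (normalizer (T : Set G) ⧸ T.subgroupOf (normalizer (T : Set G))) ∧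
      ∀ K : Subgroup G, (∃ P : Sylow p G, (P : Subgroup G) ≤ K) →
        (normalizer (K : Set G)).map (QuotientGroup.mk' A) =
          normalizer ((K.map (QuotientGroup.mk' A) : Subgroup (G ⧸ A)) : Set (G ⧸ A))) := by
  set N := normalizer (T : Set G) with hN
  set π := QuotientGroup.mk' (T.subgroupOf N) with hπ
  set q := QuotientGroup.mk' A with hq
  have hπs : Function.Surjective π := QuotientGroup.mk'_surjective _
  have hqs : Function.Surjective q := QuotientGroup.mk'_surjective _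
  obtain ⟨S₀, hTS₀⟩ := hT.exists_le_sylow
  constructor
  · intro h
    refine ⟨fun Kb hKb => ?_, fun K hK => ?_⟩
    · obtain ⟨Pb, hPb⟩ := hKb
      -- conjugate so that the image of `S₀` lies inside
      have hS₀ : (S₀ : Subgroup G) ≤ N := sylow_le_normalizer hTA hTi S₀ hTS₀
      let SN : Sylow p N := S₀.subtype hS₀
      obtain ⟨c, hc⟩ := MulAction.exists_smul_eq (N ⧸ T.subgroupOf N) (SN.mapSurjective hπs) Pb
      obtain ⟨c, rfl⟩ := hπs c
      have hSK : (S₀ : Subgroup G).subgroupOf N ≤ conjBy c⁻¹ (Kb.comap π) := by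
        intro x hx
        rw [mem_conjBy, inv_inv, Subgroup.mem_comap, map_mul, map_mul, map_inv]
        refine hPb ?_
        rw [← hc]
        exact conj_mem_conjBy (g := π c) (Subgroup.mem_map_of_mem π hx)
      set K' := conjBy c⁻¹ (Kb.comap π)
      have hpro := pronormal_subgroupOf (Subgroup.map_subtype_le K') (h (K'.map N.subtype)
        ⟨S₀, by
          rw [← Subgroup.map_subgroupOf_eq_of_le hS₀]
          exact Subgroup.map_mono hSK⟩)
      rw [Subgroup.subgroupOf, Subgroup.comap_map_eq_self_of_injective N.subtype_injective] at hpro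
      have h2 := pronormal_map π hπs (pronormal_conjBy hpro c)
      rwa [conjBy_conjBy, mul_inv_cancel, conjBy_one,
        Subgroup.map_comap_eq_self_of_surjective hπs] at h2
    · refine le_antisymm ?_ ?_
      · rintro _ ⟨g, hg, rfl⟩
        refine conjBy_eq_self_iff.1 ?_
        rw [← conjBy_map, conjBy_eq_self_iff.2 hg]
      · intro y hy
        obtain ⟨g, rfl⟩ := hqs y
        obtain ⟨x, hx, he⟩ := h K hK g
        have hKA : K ⊔ conjBy g K ≤ (K.map q).comap q := by
          refine sup_le (Subgroup.le_comap_map q K) (Subgroup.map_le_iff_le_comap.1 ?_)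
          rw [conjBy_map, conjBy_eq_self_iff.2 hy]
        have hxq : q x ∈ (normalizer (K : Set G)).map q :=
          Subgroup.map_mono Subgroup.le_normalizer (hKA hx)
        have hn : x⁻¹ * g ∈ normalizer (K : Set G) := by
          refine conjBy_eq_self_iff.1 ?_
          rw [← conjBy_conjBy, show conjBy g K = conjBy x K from he, conjBy_conjBy,
            inv_mul_cancel, conjBy_one]
        have := Subgroup.mul_mem _ hxq (Subgroup.mem_map_of_mem q hn)
        rwa [← map_mul, mul_inv_cancel_left] at this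
  · rintro ⟨hNpro, hnorm⟩ K₀ ⟨P, hP⟩
    -- conjugate so that `T ≤ K`
    obtain ⟨c, hc⟩ := MulAction.exists_smul_eq G P S₀
    set K := conjBy c K₀ with hK
    suffices hmain : Cfsg.IsPronormal K by
      have := pronormal_conjBy hmain c⁻¹
      rwa [hK, conjBy_conjBy, inv_mul_cancel, conjBy_one] at this
    have hS₀K : (S₀ : Subgroup G) ≤ K := by
      rw [← hc]
      exact Subgroup.map_mono hP
    have hTK : T ≤ K := hTS₀.trans hS₀K
    have hS₀N : (S₀ : Subgroup G) ≤ N := sylow_le_normalizer hTA hTi S₀ hTS₀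
    set KA := K ⊓ A with hKA
    set KN := K ⊓ N with hKN
    have hKAn : K ≤ normalizer (KA : Set G) := fun x hx => conjBy_eq_self_iff.1 (by
      rw [hKA, conjBy, Subgroup.map_inf _ _ _ (MulEquiv.injective _)]
      exact congrArg₂ _ (conjBy_eq_self_iff.2 (le_normalizer hx))
        (conjBy_eq_self_iff.2 (by rw [Subgroup.normalizer_eq_top]; trivial)))
    have hKeq : K = KA ⊔ KN := by
      refine le_antisymm (fun x hx => ?_) (sup_le inf_le_left inf_le_left)
      obtain ⟨h, hh, hn⟩ := frattini_inside hTA hT hTi hTK (hKAn hx)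
      rw [show x = h⁻¹ * (h * x) by group]
      exact Subgroup.mul_mem_sup (KA.inv_mem hh) ⟨K.mul_mem hh.1 hx, hn⟩
    intro g
    -- step 1: pronormality in the quotient
    obtain ⟨xb, hxb, heb⟩ := hQ (K.map q) ⟨S₀.mapSurjective hqs, Subgroup.map_mono hS₀K⟩ (q g)
    change xb ∈ K.map q ⊔ conjBy (q g) (K.map q) at hxb
    rw [← conjBy_map, ← Subgroup.map_sup] at hxb
    obtain ⟨x₁, hx₁, rfl⟩ := hxb
    have hg₁ : q (x₁⁻¹ * g) ∈ (normalizer (K : Set G)).map q := by
      rw [hnorm K ⟨S₀, hS₀K⟩]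
      refine conjBy_eq_self_iff.1 ?_
      rw [map_mul, ← conjBy_conjBy,
        show conjBy (q g) (K.map q) = conjBy (q x₁) (K.map q) from heb, conjBy_conjBy, map_inv,
        inv_mul_cancel, conjBy_one]
    obtain ⟨n, hn, hne⟩ := hg₁
    set a := x₁⁻¹ * g * n⁻¹ with ha
    have haA : a ∈ A := by
      rw [← QuotientGroup.eq_one_iff (N := A), ← QuotientGroup.mk'_apply A a]
      show q a = 1
      rw [ha, map_mul, map_inv, hne, mul_inv_cancel]
    have hga : conjBy g K = conjBy (x₁ * a) K := by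
      rw [show g = (x₁ * a) * n by rw [ha]; group, ← conjBy_conjBy,
        conjBy_eq_self_iff.2 hn]
    set L := K ⊔ conjBy g K with hL
    have hx₁L : x₁ ∈ L := hx₁
    -- step 2: pronormality in `A`
    have hTKA : ∃ P : Sylow p A, (P : Subgroup A) ≤ KA.subgroupOf A := by
      have hTp : IsPGroup p (T.subgroupOf A) := hT.of_equiv (Subgroup.subgroupOfEquivOfLe hTA).symm
      exact ⟨hTp.toSylow hTi, fun x hx => ⟨hTK hx, x.2⟩⟩
    obtain ⟨x₂, hx₂, he₂⟩ := hA (KA.subgroupOf A) hTKA ⟨a, haA⟩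
    have hx₂' : (x₂ : G) ∈ KA ⊔ conjBy a KA := by
      have := Subgroup.mem_map_of_mem A.subtype hx₂
      rw [Subgroup.map_sup, Subgroup.map_subgroupOf_eq_of_le inf_le_right] at this
      change _ ∈ KA ⊔ (conjBy (⟨a, haA⟩ : A) (KA.subgroupOf A)).map A.subtype at this
      rwa [conjBy_map, Subgroup.map_subgroupOf_eq_of_le inf_le_right] at this
    have he₂' : conjBy a KA = conjBy (x₂ : G) KA := by
      have := congrArg (Subgroup.map A.subtype) he₂
      change (conjBy (⟨a, haA⟩ : A) (KA.subgroupOf A)).map A.subtype =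
        (conjBy x₂ (KA.subgroupOf A)).map A.subtype at this
      rwa [conjBy_map, conjBy_map, Subgroup.map_subgroupOf_eq_of_le inf_le_right] at this
    -- `L` contains `x₁ K x₁⁻¹ ⊔ (x₁ a) K (x₁ a)⁻¹`
    have haL : conjBy a K ≤ L := by
      intro y hy
      have : x₁ * y * x₁⁻¹ ∈ L := (le_sup_right : conjBy g K ≤ L) (by
        rw [hga, ← conjBy_conjBy]; exact conj_mem_conjBy hy)
      simpa [mul_assoc] using L.mul_mem (L.mul_mem (L.inv_mem hx₁L) this) hx₁L
    have hx₂L : (x₂ : G) ∈ L :=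
      (sup_le (inf_le_left.trans le_sup_left) ((Subgroup.map_mono inf_le_left).trans haL) :
        KA ⊔ conjBy a KA ≤ L) hx₂'
    set b₀ := (x₂ : G)⁻¹ * a with hb₀
    have hb₀n : b₀ ∈ normalizer (KA : Set G) := by
      refine conjBy_eq_self_iff.1 ?_
      rw [hb₀, ← conjBy_conjBy, he₂', conjBy_conjBy, inv_mul_cancel, conjBy_one]
    obtain ⟨h, hh, hbN⟩ := frattini_inside hTA hT hTi hTK hb₀n
    set b := h * b₀ with hb
    have hbA : b ∈ normalizer (KA : Set G) :=
      (normalizer (KA : Set G)).mul_mem (hKAn hh.1) hb₀n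
    have hzL : x₁ * x₂ * h⁻¹ ∈ L :=
      L.mul_mem (L.mul_mem hx₁L hx₂L) (L.inv_mem ((le_sup_left : K ≤ L) hh.1))
    have hgb : conjBy g K = conjBy (x₁ * x₂ * h⁻¹) (conjBy b K) := by
      rw [hga, conjBy_conjBy (x₁ * x₂ * h⁻¹) b K]
      congr 1
      rw [hb, hb₀]; group
    have hbL : conjBy b K ≤ L := by
      intro y hy
      have : (x₁ * x₂ * h⁻¹) * y * (x₁ * x₂ * h⁻¹)⁻¹ ∈ L := (le_sup_right : conjBy g K ≤ L) (by
        rw [hgb]; exact conj_mem_conjBy hy)
      simpa [mul_assoc] using L.mul_mem (L.mul_mem (L.inv_mem hzL) this) hzL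
    -- step 3: pronormality in `N_G(T) / T`
    obtain ⟨xc, hxc, hec⟩ := hNpro ((KN.subgroupOf N).map π)
      ⟨(S₀.subtype hS₀N).mapSurjective hπs,
        Subgroup.map_mono (fun y hy => ⟨hS₀K hy, y.2⟩)⟩ (π ⟨b, hbN⟩)
    change xc ∈ (KN.subgroupOf N).map π ⊔ conjBy (π ⟨b, hbN⟩) ((KN.subgroupOf N).map π) at hxc
    rw [← conjBy_map, ← Subgroup.map_sup] at hxc
    obtain ⟨x₃, hx₃, rfl⟩ := hxc
    have hker : ∀ c : N, π.ker ≤ conjBy c (KN.subgroupOf N) := by
      intro c
      rw [hπ, QuotientGroup.ker_mk']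
      intro y hy
      rw [mem_conjBy]
      have hy' : c⁻¹ * y * c ∈ T.subgroupOf N := by
        simpa using (‹(T.subgroupOf N).Normal›).conj_mem y hy c⁻¹
      exact ⟨hTK hy', (c⁻¹ * y * c).2⟩
    have he₃ : conjBy (⟨b, hbN⟩ : N) (KN.subgroupOf N) = conjBy x₃ (KN.subgroupOf N) := by
      change conjBy (π ⟨b, hbN⟩) ((KN.subgroupOf N).map π) =
        conjBy (π x₃) ((KN.subgroupOf N).map π) at hec
      rw [← conjBy_map, ← conjBy_map] at hec
      have := congrArg (Subgroup.comap π) hec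
      rwa [Subgroup.comap_map_eq_self (hker _), Subgroup.comap_map_eq_self (hker _)] at this
    have hx₃' : (x₃ : G) ∈ KN ⊔ conjBy b KN := by
      have := Subgroup.mem_map_of_mem N.subtype hx₃
      rwa [Subgroup.map_sup, conjBy_map, Subgroup.map_subgroupOf_eq_of_le inf_le_right] at this
    have he₃' : conjBy b KN = conjBy (x₃ : G) KN := by
      have := congrArg (Subgroup.map N.subtype) he₃
      rwa [conjBy_map, conjBy_map, Subgroup.map_subgroupOf_eq_of_le inf_le_right] at this
    have hx₃n : (x₃ : G) ∈ normalizer (KA : Set G) := by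
      refine (sup_le (inf_le_left.trans hKAn) ?_ : KN ⊔ conjBy b KN ≤ _) hx₃'
      intro y hy
      rw [mem_conjBy] at hy
      have := (normalizer (KA : Set G)).mul_mem ((normalizer (KA : Set G)).mul_mem hbA
        (hKAn hy.1)) ((normalizer (KA : Set G)).inv_mem hbA)
      simpa [mul_assoc] using this
    have hx₃L : (x₃ : G) ∈ L :=
      (sup_le (inf_le_left.trans le_sup_left) ((Subgroup.map_mono inf_le_left).trans hbL) :
        KN ⊔ conjBy b KN ≤ L) hx₃'
    refine ⟨x₁ * x₂ * h⁻¹ * x₃, L.mul_mem hzL hx₃L, ?_⟩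
    show conjBy g K = conjBy (x₁ * x₂ * h⁻¹ * x₃) K
    rw [hgb, ← conjBy_conjBy _ (x₃ : G) K]
    congr 1
    rw [hKeq]
    simp only [conjBy, Subgroup.map_sup]
    exact congrArg₂ _ ((conjBy_eq_self_iff.2 hbA).trans (conjBy_eq_self_iff.2 hx₃n).symm) he₃'

/-- Let p be a prime and G a finite group with a normal subgroup A such that, both in A and in G/A, every subgroup containing a Sylow p-subgroup of that group is pronormal in that group. Let T be a Sylow p-subgroup of A. Then every subgroup of G containing a Sylow p-subgroup of G is pronormal in G if and only if (i) every subgroup of N_G(T)/T containing a Sylow p-subgroup of N_G(T)/T is pronormal there, and (ii) for every subgroup H of G containing a Sylow p-subgroup of G, the image of N_G(H) in G/A is the full normalizer of the image of H. (Pronormal: H and gHg⁻¹ are conjugate inside the subgroup they generate, for every g.) -/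
theorem result {G : Type*} [Group G] [Finite G] {p : ℕ} [Fact p.Prime]
    (A : Subgroup G) [A.Normal] (hA : (∀ K : Subgroup ↥A, (∃ P : Sylow p ↥A, (P : Subgroup ↥A) ≤ K) → Cfsg.IsPronormal K)) (hQ : (∀ K : Subgroup (G ⧸ A), (∃ P : Sylow p (G ⧸ A), (P : Subgroup (G ⧸ A)) ≤ K) → Cfsg.IsPronormal K))
    (T : Subgroup G) (hT : ∃ P : Sylow p ↥A, (P : Subgroup ↥A).map A.subtype = T) [(T.subgroupOf (Subgroup.normalizer (T : Set G))).Normal] :
    (∀ K : Subgroup G, (∃ P : Sylow p G, (P : Subgroup G) ≤ K) → Cfsg.IsPronormal K) ↔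
      ((∀ K : Subgroup (↥(Subgroup.normalizer (T : Set G)) ⧸ T.subgroupOf (Subgroup.normalizer (T : Set G))), (∃ P : Sylow p (↥(Subgroup.normalizer (T : Set G)) ⧸ T.subgroupOf (Subgroup.normalizer (T : Set G))), (P : Subgroup (↥(Subgroup.normalizer (T : Set G)) ⧸ T.subgroupOf (Subgroup.normalizer (T : Set G)))) ≤ K) → Cfsg.IsPronormal K) ∧
        ∀ K : Subgroup G, (∃ P : Sylow p G, (P : Subgroup G) ≤ K) →
          (Subgroup.normalizer (K : Set G)).map (QuotientGroup.mk' A) = Subgroup.normalizer ((K.map (QuotientGroup.mk' A) : Subgroup (G ⧸ A)) : Set (G ⧸ A))) := by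
  obtain ⟨P, rfl⟩ := hT
  refine criterion A hA hQ _ (Subgroup.map_subtype_le _) (P.2.map _) ?_
  rw [Subgroup.relIndex, Subgroup.subgroupOf,
    Subgroup.comap_map_eq_self_of_injective A.subtype_injective]
  exact P.not_dvd_index

end Cfsg.Agent.S4270
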