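import Cfsg.Statements.S4271
-- import your own Cfsg.Agent.* helpers here
import Cfsg.Agent.S4270

set_option autoImplicit false
open Cfsg

namespace Cfsg.Agent.S4271

open Subgroup CfsgLib.Coprime

universe u
variable {Q : Type u} [Group Q] [Finite Q] {p : ℕ} [hp : Fact p.Prime]

/-- An overgroup of a self-normalizing Sylow subgroup is self-normalizing and pronormal. -/
theorem overgroup_of_selfNormalizing
    (h : ∀ P : Sylow p Q, normalizer ((P : Subgroup Q) : Set Q) = P) {K : Subgroup Q}
    (hK : ∃ P : Sylow p Q, (P : Subgroup Q) ≤ K) :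
    normalizer (K : Set Q) = K ∧ Cfsg.IsPronormal K := by
  obtain ⟨P, hP⟩ := hK
  have hi : ¬ p ∣ (P : Subgroup Q).relIndex K :=
    fun hd => P.not_dvd_index (hd.trans (Subgroup.relIndex_dvd_index_of_le hP))
  -- an element moving `P` inside a subgroup `L ⊇ P` lies in `L` up to `N(P) = P`
  have key : ∀ (L : Subgroup Q) (g : Q), (P : Subgroup Q) ≤ L → conjBy g (P : Subgroup Q) ≤ L →
      g ∈ L := by
    intro L g hPL hgL
    obtain ⟨l, hl, hc⟩ := CfsgLib.Fusion.exists_conj_le_of_not_dvd_relIndex P.2 hPL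
      (fun hd => P.not_dvd_index (hd.trans (Subgroup.relIndex_dvd_index_of_le hPL)))
      (P.2.map (MulAut.conj g).toMonoidHom) hgL
    have he : conjBy (l * g) (P : Subgroup Q) = P := by
      rw [← conjBy_conjBy]
      exact Subgroup.eq_of_le_of_card_ge hc (by rw [card_conjBy, card_conjBy])
    have : l * g ∈ L := hPL ((h P).le (conjBy_eq_self_iff.1 he))
    simpa using L.mul_mem (L.inv_mem hl) this
  refine ⟨le_antisymm (fun g hg => key K g hP
    ((Subgroup.map_mono hP).trans (conjBy_eq_self_iff.2 hg).le)) le_normalizer, fun g => ?_⟩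
  exact ⟨g, key _ g (hP.trans le_sup_left) ((Subgroup.map_mono hP).trans le_sup_right), rfl⟩

/-- Let p be a prime and G a finite group with a normal subgroup A such that every subgroup of A containing a Sylow p-subgroup of A is pronormal in A, and the Sylow p-subgroups of G/A are self-normalizing. Let T be a Sylow p-subgroup of A. Then every subgroup of G containing a Sylow p-subgroup of G is pronormal in G if and only if every subgroup of N_G(T)/T containing a Sylow p-subgroup of N_G(T)/T is pronormal in N_G(T)/T. (Pronormal: H and gHg⁻¹ are conjugate inside the subgroup they generate, for every g.) -/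
theorem result {G : Type*} [Group G] [Finite G] {p : ℕ} [Fact p.Prime]
    (A : Subgroup G) [A.Normal] (hA : (∀ K : Subgroup ↥A, (∃ P : Sylow p ↥A, (P : Subgroup ↥A) ≤ K) → Cfsg.IsPronormal K))
    (hQ : ∀ P : Sylow p (G ⧸ A), Subgroup.normalizer ((P : Subgroup (G ⧸ A)) : Set (G ⧸ A)) = P)
    (T : Subgroup G) (hT : ∃ P : Sylow p ↥A, (P : Subgroup ↥A).map A.subtype = T) [(T.subgroupOf (Subgroup.normalizer (T : Set G))).Normal] :
    (∀ K : Subgroup G, (∃ P : Sylow p G, (P : Subgroup G) ≤ K) → Cfsg.IsPronormal K) ↔ (∀ K : Subgroup (↥(Subgroup.normalizer (T : Set G)) ⧸ T.subgroupOf (Subgroup.normalizer (T : Set G))), (∃ P : Sylow p (↥(Subgroup.normalizer (T : Set G)) ⧸ T.subgroupOf (Subgroup.normalizer (T : Set G))), (P : Subgroup (↥(Subgroup.normalizer (T : Set G)) ⧸ T.subgroupOf (Subgroup.normalizer (T : Set G)))) ≤ K) → Cfsg.IsPronormal K) := by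
  obtain ⟨P, rfl⟩ := hT
  have hi : ¬ p ∣ ((P : Subgroup A).map A.subtype).relIndex A := by
    rw [Subgroup.relIndex, Subgroup.subgroupOf,
      Subgroup.comap_map_eq_self_of_injective A.subtype_injective]
    exact P.not_dvd_index
  refine (S4270.criterion A hA (fun K hK => (overgroup_of_selfNormalizing hQ hK).2) _
    (Subgroup.map_subtype_le _) (P.2.map _) hi).trans ?_
  refine ⟨fun h => h.1, fun h => ⟨h, fun K hK => ?_⟩⟩
  obtain ⟨S, hS⟩ := hK
  rw [(overgroup_of_selfNormalizing hQ
    ⟨S.mapSurjective (QuotientGroup.mk'_surjective A), Subgroup.map_mono hS⟩).1]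
  refine le_antisymm ?_ (Subgroup.map_mono Subgroup.le_normalizer)
  rintro _ ⟨g, hg, rfl⟩
  rw [← (overgroup_of_selfNormalizing hQ
    ⟨S.mapSurjective (QuotientGroup.mk'_surjective A), Subgroup.map_mono hS⟩).1]
  refine CfsgLib.Coprime.conjBy_eq_self_iff.1 ?_
  rw [← CfsgLib.Coprime.conjBy_map, CfsgLib.Coprime.conjBy_eq_self_iff.2 hg]

end Cfsg.Agent.S4271
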