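import Cfsg.Statements.S4275
import Cfsg.Agent.Lib.Coprime.Core

set_option autoImplicit false
set_option linter.style.haveILetI false
open Cfsg

namespace Cfsg.Agent.S4275

/-- Let G be a transitive group of permutations of a finite set Ω, let o ∈ Ω, and let α be an automorphism of G. Then α is induced by conjugation by a permutation of Ω normalizing G if and only if the image under α of the stabilizer of o fixes some point of Ω. -/
theorem result {Ω : Type*} [Fintype Ω] (G : Subgroup (Equiv.Perm Ω)) (htr : MulAction.IsPretransitive G Ω) (o : Ω) (α : G ≃* G) : (∃ σ : Equiv.Perm Ω, σ ∈ Subgroup.normalizer (G : Set (Equiv.Perm Ω)) ∧ ∀ g : G, ((α g : G) : Equiv.Perm Ω) = σ * (g : Equiv.Perm Ω) * σ⁻¹) ↔ ∃ ω : Ω, ∀ g ∈ (MulAction.stabilizer G o).map α.toMonoidHom, g • ω = ω := by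
  classical
  haveI := htr
  have hst : ∀ g : G, g ∈ MulAction.stabilizer G o ↔ g • o = o := fun g => Iff.rfl
  constructor
  · rintro ⟨σ, -, hσ⟩
    refine ⟨σ o, ?_⟩
    rintro _ ⟨g, hg, rfl⟩
    show ((α g : G) : Equiv.Perm Ω) (σ o) = σ o
    rw [hσ, Equiv.Perm.mul_apply, Equiv.Perm.mul_apply, Equiv.Perm.inv_def, Equiv.symm_apply_apply]
    exact congrArg σ ((hst g).1 hg)
  · rintro ⟨ω, hω⟩
    have hcard : ∀ a : Ω, Nat.card Ω * Nat.card (MulAction.stabilizer G a) = Nat.card G := fun a => by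
      rw [← MulAction.index_stabilizer_of_transitive G a, mul_comm, Subgroup.card_mul_index]
    have hmap : (MulAction.stabilizer G o).map α.toMonoidHom = MulAction.stabilizer G ω := by
      refine Subgroup.eq_of_le_of_card_ge (fun g hg => MulAction.mem_stabilizer_iff.2 (hω g hg)) ?_
      rw [Subgroup.card_map_of_injective (f := α.toMonoidHom) α.injective]
      haveI : Nonempty Ω := ⟨o⟩
      exact (Nat.eq_of_mul_eq_mul_left Nat.card_pos ((hcard ω).trans (hcard o).symm)).le
    choose t ht using fun a : Ω => MulAction.exists_smul_eq G o a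
    let F : Ω → Ω := fun a => α (t a) • ω
    have hF : ∀ g : G, F (g • o) = α g • ω := by
      intro g
      have h1 : g⁻¹ * t (g • o) ∈ MulAction.stabilizer G o := by
        rw [hst, mul_smul, ht, inv_smul_smul]
      have h2 : α (g⁻¹ * t (g • o)) • ω = ω := hω _ ⟨_, h1, rfl⟩
      rw [map_mul, map_inv, mul_smul, inv_smul_eq_iff] at h2
      exact h2
    have hsurj : Function.Surjective F := fun b => by
      obtain ⟨c, hc⟩ := MulAction.exists_smul_eq G ω b
      exact ⟨α.symm c • o, by rw [hF, MulEquiv.apply_symm_apply, hc]⟩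
    let σ : Equiv.Perm Ω := Equiv.ofBijective F ((Fintype.bijective_iff_surjective_and_card F).2 ⟨hsurj, rfl⟩)
    have hσg : ∀ g : G, ((α g : G) : Equiv.Perm Ω) = σ * (g : Equiv.Perm Ω) * σ⁻¹ := by
      intro g
      rw [eq_mul_inv_iff_mul_eq]
      refine Equiv.ext fun a => ?_
      obtain ⟨u, rfl⟩ := MulAction.exists_smul_eq G o a
      show α g • F (u • o) = F (g • (u • o))
      rw [hF, ← mul_smul g u, hF, map_mul, mul_smul]
    refine ⟨σ, Subgroup.mem_normalizer_iff.2 fun h => ⟨fun hh => ?_, fun hh => ?_⟩, hσg⟩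
    · rw [← hσg ⟨h, hh⟩]
      exact (α ⟨h, hh⟩).2
    · obtain ⟨g, hg⟩ : ∃ g : G, α g = ⟨_, hh⟩ := ⟨α.symm ⟨_, hh⟩, α.apply_symm_apply _⟩
      have h1 : σ * (g : Equiv.Perm Ω) * σ⁻¹ = σ * h * σ⁻¹ := by rw [← hσg g, hg]
      rw [← mul_left_cancel (mul_right_cancel h1)]
      exact g.2

end Cfsg.Agent.S4275
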