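import Cfsg.Statements.S4278
import Cfsg.Agent.Lib.Lie.Chev.OddInvol.Types

set_option autoImplicit false
open Cfsg CfsgLib.Lie.Chev CfsgLib.Lie.CoxTorus CfsgLib.Lie.OddInvol

namespace Cfsg.Agent.S4278

/-- In the Chevalley group of type G₂ over a finite field of odd order, any two involutions are conjugate. -/
theorem result {F : Type*} [Field F] [Fintype F] (hF : Odd (Fintype.card F)) (s t : ↥(Cfsg.Lie.chevG2.group F)) (hs : orderOf s = 2) (ht : orderOf t = 2) : IsConj s t := by
  have hK : Fintype.card F % 2 = 1 := Nat.odd_iff.1 hF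
  have h := fun {u : ↥(Cfsg.Lie.chevG2.group F)} (hu : orderOf u = 2) =>
    (isConj_or cG2 kerG2_ok rfl hK invG2 mskG2_ok 2 2 1 closeG2 hu).elim id id
  exact (h hs).trans (h ht).symm

end Cfsg.Agent.S4278
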