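import Cfsg.Statements.S4279
import Cfsg.Agent.Lib.Lie.Chev.OddInvol.Types
import Cfsg.Agent.Lib.Lie.Chev.OddInvol.RootSL2

set_option autoImplicit false
open Cfsg CfsgLib.Lie.Chev CfsgLib.Lie.CoxTorus CfsgLib.Lie.OddInvol

namespace Cfsg.Agent.S4279

open Cfsg.Lie in
private theorem orth_pair (a b : Fin chevG2.nroots) (ha : a.val = 7) (hb : b.val = 11) : cG2.Orth a b := by
  have h : ∀ x ∈ [7, chevG2.neg 7], ∀ y ∈ [11, chevG2.neg 11],
      y ≠ x ∧ y ≠ chevG2.neg x ∧ chevG2.commTerms x y = [] := by decide +kernel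
  intro x hx y hy
  obtain ⟨h1, h2, h3⟩ := h x.val (by
    simp only [List.mem_cons, List.not_mem_nil, or_false] at hx ⊢
    rcases hx with rfl | rfl
    exacts [Or.inl ha, Or.inr ((cG2.G.negr_val _).trans (by rw [ha]))]) y.val (by
    simp only [List.mem_cons, List.not_mem_nil, or_false] at hy ⊢
    rcases hy with rfl | rfl
    exacts [Or.inl hb, Or.inr ((cG2.G.negr_val _).trans (by rw [hb]))])
  exact ⟨fun e => h1 (congrArg Fin.val e),
    fun e => h2 ((congrArg Fin.val e).trans (cG2.G.negr_val x)), h3⟩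

open Cfsg.Lie in
private theorem pair_vals :
    (∀ l : Fin chevG2.rank, cG2.G.pair (⟨7, by decide⟩ : Fin chevG2.nroots) l = [2, -3].getD l.val 0) ∧
      ∀ l : Fin chevG2.rank, cG2.G.pair (⟨11, by decide⟩ : Fin chevG2.nroots) l = [0, 1].getD l.val 0 := by
  constructor <;> decide +kernel

/-- In the Chevalley group G of type G₂ over a finite field F of odd order q, the centralizer of an involution t has order q²(q² − 1)² and contains two elementwise commuting subgroups, each isomorphic to SL(2, F), which meet exactly in the subgroup generated by t and whose join has index 2 in the centralizer. -/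
theorem result {F : Type*} [Field F] [Fintype F] (hF : Odd (Fintype.card F)) (t : ↥(Cfsg.Lie.chevG2.group F)) (ht : orderOf t = 2) : Nat.card (Subgroup.centralizer ({t} : Set ↥(Cfsg.Lie.chevG2.group F))) = Fintype.card F ^ 2 * (Fintype.card F ^ 2 - 1) ^ 2 ∧ ∃ L₁ L₂ : Subgroup ↥(Cfsg.Lie.chevG2.group F), Nonempty (L₁ ≃* Matrix.SpecialLinearGroup (Fin 2) F) ∧ Nonempty (L₂ ≃* Matrix.SpecialLinearGroup (Fin 2) F) ∧ (∀ x ∈ L₁, ∀ y ∈ L₂, x * y = y * x) ∧ L₁ ⊓ L₂ = Subgroup.zpowers t ∧ L₁ ⊔ L₂ ≤ Subgroup.centralizer ({t} : Set ↥(Cfsg.Lie.chevG2.group F)) ∧ (L₁ ⊔ L₂).relIndex (Subgroup.centralizer ({t} : Set ↥(Cfsg.Lie.chevG2.group F))) = 2 := by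
  classical
  have hK : Fintype.card F % 2 = 1 := Nat.odd_iff.1 hF
  set t0 := elt cG2 (K := F) kerG2_ok rfl 2 with ht0
  obtain ⟨c, hc⟩ := isConj_iff.1
    ((isConj_or cG2 kerG2_ok rfl hK invG2 mskG2_ok 2 2 1 closeG2 ht).elim id id)
  let φ : ↥(Cfsg.Lie.chevG2.group F) ≃* ↥(Cfsg.Lie.chevG2.group F) := MulAut.conj c⁻¹
  have hφ : φ t0 = t := by
    show c⁻¹ * t0 * c⁻¹⁻¹ = t
    rw [ht0, ← hc]; group
  -- the order
  have hcent : (Subgroup.centralizer ({t0} : Set ↥(Cfsg.Lie.chevG2.group F))).map φ.toMonoidHom =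
      Subgroup.centralizer ({t} : Set ↥(Cfsg.Lie.chevG2.group F)) := by
    ext x
    simp only [Subgroup.mem_map, Subgroup.mem_centralizer_singleton_iff, MulEquiv.coe_toMonoidHom]
    constructor
    · rintro ⟨y, hy, rfl⟩
      rw [← hφ, ← map_mul, ← map_mul, hy]
    · intro hx
      obtain ⟨y, rfl⟩ := φ.surjective x
      refine ⟨y, φ.injective ?_, rfl⟩
      rwa [map_mul, map_mul, hφ]
  have hcard : Nat.card (Subgroup.centralizer ({t} : Set ↥(Cfsg.Lie.chevG2.group F))) =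
      Fintype.card F ^ 2 * (Fintype.card F ^ 2 - 1) ^ 2 := by
    rw [← hcent, Subgroup.card_map_of_injective φ.injective]
    have h1 := card_cent_of_poly cG2 kerG2_ok rfl (K := F) hK (okG2_0 cG2.G fun _ _ => rfl)
      cardG2_0 (P := _) (poinG2_0 cG2.G fun _ _ => rfl)
    have := fun k => Nat.one_le_pow k _ (Fintype.card_pos (α := F))
    refine Int.ofNat.inj (Eq.trans h1 ?_)
    simp only [Int.ofNat_eq_natCast]
    push_cast [Nat.cast_sub (this _)]
    ring
  -- the two copies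
  let a : Fin Cfsg.Lie.chevG2.nroots := ⟨7, by decide⟩
  let b : Fin Cfsg.Lie.chevG2.nroots := ⟨11, by decide⟩
  have htor : ∀ (v : Fin Cfsg.Lie.chevG2.rank → Fˣ), cG2.G.tor v = 1 → v = 1 := fun v h =>
    tor_inj cG2 (h.trans (map_one _).symm)
  have hha : ∀ u : Fˣ, cG2.G.hd a u = 1 → u = 1 := by
    intro u hu
    have h := htor _ hu
    have h0 : u ^ cG2.G.pair a ⟨0, by decide⟩ = 1 := congrFun h ⟨0, by decide⟩
    have h1 : u ^ cG2.G.pair a ⟨1, by decide⟩ = 1 := congrFun h ⟨1, by decide⟩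
    rw [pair_vals.1] at h0 h1
    change u ^ (2 : ℤ) = 1 at h0
    change u ^ (-3 : ℤ) = 1 at h1
    calc u = (u ^ (-3 : ℤ))⁻¹ * (u ^ (2 : ℤ))⁻¹ := by group
      _ = 1 := by rw [h0, h1]; simp
  have hhb : ∀ u : Fˣ, cG2.G.hd b u = 1 → u = 1 := by
    intro u hu
    have h1 : u ^ cG2.G.pair b ⟨1, by decide⟩ = 1 := congrFun (htor _ hu) ⟨1, by decide⟩
    rw [pair_vals.2] at h1
    simpa using h1
  have hpa : Cfsg.Lie.chevG2.IsPosRoot a.val := (cG2.G.pos_iff_half a).2 (by decide)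
  have hpb : Cfsg.Lie.chevG2.IsPosRoot b.val := (cG2.G.pos_iff_half b).2 (by decide)
  let f := φ.toMonoidHom.comp ((rootHom cG2 (K := F) a).codRestrict _ (rootHom_mem cG2 a))
  let g := φ.toMonoidHom.comp ((rootHom cG2 (K := F) b).codRestrict _ (rootHom_mem cG2 b))
  have hf : Function.Injective f := φ.injective.comp fun x y h =>
    rootHom_injective cG2 hpa hha (congrArg Subtype.val h)
  have hg : Function.Injective g := φ.injective.comp fun x y h =>
    rootHom_injective cG2 hpb hhb (congrArg Subtype.val h)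
  have hfg : ∀ x y, Commute (f x) (g y) := fun x y => Commute.map
    (show Commute ((rootHom cG2 (K := F) a).codRestrict _ (rootHom_mem cG2 a) x)
        ((rootHom cG2 (K := F) b).codRestrict _ (rootHom_mem cG2 b) y) from Subtype.ext
      (CfsgLib.Lie.Chev.TwSub.orth_hom (orth_pair a b rfl rfl) x y).eq) φ.toMonoidHom
  set z : Matrix.SpecialLinearGroup (Fin 2) F := ⟨-1, by simp [Matrix.det_neg]⟩ with hz
  have hdz : ∀ (r : Fin Cfsg.Lie.chevG2.nroots), rootHom cG2 r z = cG2.G.hd r (-1 : Fˣ) := fun r =>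
    rootHom_diag cG2 r z (-1) (by simp [hz]) (by simp [hz]) (by simp [hz])
  have hdec : ∀ (r : Fin Cfsg.Lie.chevG2.nroots), r = a ∨ r = b →
      cG2.G.hd r (-1 : Fˣ) = cG2.G.tor (dec 2) := by
    intro r hr
    show cG2.G.tor (fun l => (-1 : Fˣ) ^ cG2.G.pair r l) = _
    congr 1
    funext l
    rcases hr with rfl | rfl
    · rw [pair_vals.1]
      match l with
      | ⟨0, _⟩ => simp [dec]
      | ⟨1, _⟩ =>
        show (-1 : Fˣ) ^ (-3 : ℤ) = dec 2 _
        rw [(show Odd (-3 : ℤ) by decide).neg_one_zpow]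
        simp [dec, show Nat.testBit 2 1 = true from rfl]
    · rw [pair_vals.2]
      match l with
      | ⟨0, _⟩ => simp [dec]
      | ⟨1, _⟩ => simp [dec, show Nat.testBit 2 1 = true from rfl]
  have hfz : f z = t := by
    rw [← hφ]
    exact congrArg φ (Subtype.ext ((hdz a).trans (hdec a (Or.inl rfl))))
  have hgz : g z = t := by
    rw [← hφ]
    exact congrArg φ (Subtype.ext ((hdz b).trans (hdec b (Or.inr rfl))))
  obtain ⟨h1, h2, h3⟩ := two_copies hK f g hf hg hfg (z := z) rfl (hfz.trans hgz.symm)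
  rw [hfz] at h1 h2
  refine ⟨hcard, f.range, g.range, ⟨(MonoidHom.ofInjective hf).symm⟩,
    ⟨(MonoidHom.ofInjective hg).symm⟩, ?_, h1, h2, ?_⟩
  · rintro _ ⟨x, rfl⟩ _ ⟨y, rfl⟩
    exact (hfg x y).eq
  · have h4 := Subgroup.relIndex_mul_relIndex ⊥ (f.range ⊔ g.range)
      (Subgroup.centralizer ({t} : Set ↥(Cfsg.Lie.chevG2.group F))) bot_le h2
    rw [Subgroup.relIndex_bot_left, Subgroup.relIndex_bot_left, hcard] at h4
    have hpos : 0 < Nat.card ↥(f.range ⊔ g.range) := Nat.card_pos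
    refine Nat.eq_of_mul_eq_mul_left hpos ?_
    rw [h4, h3, CfsgLib.Classical.card_sl2]
    have hq := Fintype.card_pos (α := F)
    have e : Fintype.card F ^ 2 - 1 = (Fintype.card F - 1) * (Fintype.card F + 1) := by
      have := Nat.sq_sub_sq (Fintype.card F) 1
      rw [one_pow] at this
      rw [this, mul_comm]
    rw [e]; ring

end Cfsg.Agent.S4279
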