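import Cfsg.Statements.S4280
import Cfsg.Agent.Lib.Lie.Chev.OddInvol.Types

set_option autoImplicit false
open Cfsg CfsgLib.Lie.Chev CfsgLib.Lie.CoxTorus CfsgLib.Lie.OddInvol

namespace Cfsg.Agent.S4280

/-- In the Chevalley group of type F₄ over a finite field of odd order q there are exactly two conjugacy classes of involutions; the centralizer of an involution in one class has order q¹⁶(q² − 1)(q⁴ − 1)(q⁶ − 1)(q⁸ − 1), and in the other class q¹⁰(q² − 1)²(q⁴ − 1)(q⁶ − 1). -/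
theorem result {F : Type*} [Field F] [Fintype F] (hF : Odd (Fintype.card F)) : ∃ s t : ↥(Cfsg.Lie.chevF4.group F), orderOf s = 2 ∧ orderOf t = 2 ∧ ¬ IsConj s t ∧ (∀ u : ↥(Cfsg.Lie.chevF4.group F), orderOf u = 2 → IsConj u s ∨ IsConj u t) ∧ Nat.card (Subgroup.centralizer ({s} : Set ↥(Cfsg.Lie.chevF4.group F))) = Fintype.card F ^ 16 * (Fintype.card F ^ 2 - 1) * (Fintype.card F ^ 4 - 1) * (Fintype.card F ^ 6 - 1) * (Fintype.card F ^ 8 - 1) ∧ Nat.card (Subgroup.centralizer ({t} : Set ↥(Cfsg.Lie.chevF4.group F))) = Fintype.card F ^ 10 * (Fintype.card F ^ 2 - 1) ^ 2 * (Fintype.card F ^ 4 - 1) * (Fintype.card F ^ 6 - 1) := by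
  have hK : Fintype.card F % 2 = 1 := Nat.odd_iff.1 hF
  have hq : 1 ≤ Fintype.card F := Fintype.card_pos
  refine ⟨elt cF4 kerF4_ok rfl 1, elt cF4 kerF4_ok rfl 5,
    orderOf_elt cF4 kerF4_ok rfl hK 1 (by decide),
    orderOf_elt cF4 kerF4_ok rfl hK 5 (by decide),
    not_isConj cF4 kerF4_ok rfl hK neF4,
    fun u hu => isConj_or cF4 kerF4_ok rfl hK invF4 mskF4_ok 1 5 _ closeF4 hu, ?_, ?_⟩
  · have hc := card_cent_of_poly cF4 kerF4_ok rfl (K := F) hK (okF4_0 cF4.G fun _ _ => rfl)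
      cardF4_0 (P := _) (poinF4_0 cF4.G fun _ _ => rfl)
    refine Int.ofNat.inj (Eq.trans hc ?_)
    have := fun k => Nat.one_le_pow k _ hq
    simp only [Int.ofNat_eq_natCast]
    push_cast [Nat.cast_sub (this _)]
    ring
  · have hc := card_cent_of_poly cF4 kerF4_ok rfl (K := F) hK (okF4_1 cF4.G fun _ _ => rfl)
      cardF4_1 (P := _) (poinF4_1 cF4.G fun _ _ => rfl)
    refine Int.ofNat.inj (Eq.trans hc ?_)
    have := fun k => Nat.one_le_pow k _ hq
    simp only [Int.ofNat_eq_natCast]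
    push_cast [Nat.cast_sub (this _)]
    ring

end Cfsg.Agent.S4280
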