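import Cfsg.Statements.S4281
import Cfsg.Agent.Lib.Lie.Chev.OddInvol.Types

set_option autoImplicit false
open scoped BigOperators
open Cfsg CfsgLib.Lie.Chev CfsgLib.Lie.CoxTorus CfsgLib.Lie.OddInvol

namespace Cfsg.Agent.S4281

/-- In the Chevalley group of type E₈ over a finite field of odd order q there are exactly two conjugacy classes of involutions; the centralizer of an involution in one class has order q⁵⁶(q⁸ − 1)·∏_{i=1}^{7}(q^{2i} − 1), and in the other class q⁶⁴(q² − 1)²(q⁶ − 1)(q⁸ − 1)(q¹⁰ − 1)(q¹² − 1)(q¹⁴ − 1)(q¹⁸ − 1). -/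
theorem result {F : Type*} [Field F] [Fintype F] (hF : Odd (Fintype.card F)) : ∃ s t : ↥(Cfsg.Lie.chevE8.group F), orderOf s = 2 ∧ orderOf t = 2 ∧ ¬ IsConj s t ∧ (∀ u : ↥(Cfsg.Lie.chevE8.group F), orderOf u = 2 → IsConj u s ∨ IsConj u t) ∧ Nat.card (Subgroup.centralizer ({s} : Set ↥(Cfsg.Lie.chevE8.group F))) = Fintype.card F ^ 56 * (Fintype.card F ^ 8 - 1) * ∏ i ∈ Finset.Icc 1 7, (Fintype.card F ^ (2 * i) - 1) ∧ Nat.card (Subgroup.centralizer ({t} : Set ↥(Cfsg.Lie.chevE8.group F))) = Fintype.card F ^ 64 * (Fintype.card F ^ 2 - 1) ^ 2 * (Fintype.card F ^ 6 - 1) * (Fintype.card F ^ 8 - 1) * (Fintype.card F ^ 10 - 1) * (Fintype.card F ^ 12 - 1) * (Fintype.card F ^ 14 - 1) * (Fintype.card F ^ 18 - 1) := by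
  have hK : Fintype.card F % 2 = 1 := Nat.odd_iff.1 hF
  have hq : 1 ≤ Fintype.card F := Fintype.card_pos
  refine ⟨elt cE8 kerE8_ok rfl 5, elt cE8 kerE8_ok rfl 11,
    orderOf_elt cE8 kerE8_ok rfl hK 5 (by decide),
    orderOf_elt cE8 kerE8_ok rfl hK 11 (by decide),
    not_isConj cE8 kerE8_ok rfl hK neE8,
    fun u hu => isConj_or cE8 kerE8_ok rfl hK invE8 mskE8_ok 5 11 _ closeE8 hu, ?_, ?_⟩
  · have hc := card_cent_of_poly cE8 kerE8_ok rfl (K := F) hK (okE8_0 cE8.G fun _ _ => rfl)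
      cardE8_0 (P := _) (poinE8_0 cE8.G fun _ _ => rfl)
    refine Int.ofNat.inj (Eq.trans hc ?_)
    have := fun k => Nat.one_le_pow k _ hq
    simp only [Int.ofNat_eq_natCast]
    rw [show Finset.Icc 1 7 = {1, 2, 3, 4, 5, 6, 7} from by decide]
    simp only [Finset.prod_insert, Finset.mem_insert, Finset.mem_singleton, Finset.prod_singleton,
      not_false_eq_true, or_self, reduceCtorEq, Nat.reduceEqDiff, Nat.reduceMul]
    push_cast [Nat.cast_sub (this _)]
    ring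
  · have hc := card_cent_of_poly cE8 kerE8_ok rfl (K := F) hK (okE8_1 cE8.G fun _ _ => rfl)
      cardE8_1 (P := _) (poinE8_1 cE8.G fun _ _ => rfl)
    refine Int.ofNat.inj (Eq.trans hc ?_)
    have := fun k => Nat.one_le_pow k _ hq
    simp only [Int.ofNat_eq_natCast]
    push_cast [Nat.cast_sub (this _)]
    ring

end Cfsg.Agent.S4281
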