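import Cfsg.Statements.S4282
-- import your own Cfsg.Agent.* helpers here
import Cfsg.Agent.Lib.PGroup.ModularB.Reduce

set_option autoImplicit false
open Cfsg

namespace Cfsg.Agent.S4282


/-- A critical case behind the Hall–Higman theorem. Let p ≠ q be primes and G a finite group generated by a normal q-subgroup Q and a cyclic p-subgroup generated by x, such that the centralizer of every non-identity element of that cyclic subgroup is its product with the centre of G. Let K be an algebraically closed field of characteristic p and ρ a faithful representation of G on a nonzero finite-dimensional K-space whose restriction to Q is irreducible. If s is the least exponent with (ρ(x) − 1)^s = 0, then |⟨x⟩| − 1 ≤ s ≤ |⟨x⟩|; and if s = |⟨x⟩| − 1 then |⟨x⟩| − 1 is a power of q and Q is non-abelian. -/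
theorem result {G : Type*} [Group G] [Finite G] (p q : ℕ) [Fact p.Prime] [Fact q.Prime] (hpq : p ≠ q) (Q : Subgroup G) [Q.Normal] (hQ : IsPGroup q Q) (x : G) (hx : IsPGroup p (Subgroup.zpowers x)) (hgen : Q ⊔ Subgroup.zpowers x = ⊤) (hC : ∀ y ∈ Subgroup.zpowers x, y ≠ 1 → Subgroup.centralizer ({y} : Set G) = Subgroup.zpowers x ⊔ Subgroup.center G) {K : Type*} [Field K] [IsAlgClosed K] [CharP K p] {V : Type*} [AddCommGroup V] [Module K V] [FiniteDimensional K V] [Nontrivial V] (ρ : Representation K G V) (hfaith : Function.Injective ρ) (hirr : ∀ W : Submodule K V, (∀ g ∈ Q, Submodule.map (ρ g) W ≤ W) → W = ⊥ ∨ W = ⊤) (s : ℕ) (hs : (ρ x - 1) ^ s = 0) (hmin : ∀ k < s, (ρ x - 1) ^ k ≠ 0) : Nat.card (Subgroup.zpowers x) - 1 ≤ s ∧ s ≤ Nat.card (Subgroup.zpowers x) ∧ (s = Nat.card (Subgroup.zpowers x) - 1 → (∃ b : ℕ, Nat.card (Subgroup.zpowers x) - 1 = q ^ b) ∧ ¬ IsMulCommutative Q) := by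
  classical
  haveI : Finite (Subgroup.zpowers x) := inferInstance
  have hp : p.Prime := Fact.out
  obtain ⟨e, he⟩ := IsPGroup.iff_card.1 hx
  rw [Nat.card_zpowers] at he ⊢
  have hxe : x ^ p ^ e = 1 := he ▸ pow_orderOf_eq_one x
  have hle : s ≤ p ^ e := by
    by_contra hlt
    refine hmin (p ^ e) (by omega) ?_
    rw [CfsgLib.PGroup.ModularB.sub_one_pow_prime_pow (k := K) (ρ x) e, ← map_pow, hxe, map_one, sub_self]
  rw [he]
  rcases e with _ | n
  · have hs0 : s ≠ 0 := by
      rintro rfl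
      rw [pow_zero] at hs
      exact one_ne_zero hs
    refine ⟨by simp, hle, fun h => ?_⟩
    simp at h
    exact absurd h hs0
  refine (?_ : _ ∧ (s = p ^ (n + 1) - 1 → _)).imp_right fun h => ⟨hle, h⟩
  by_cases hfull : (ρ x - 1) ^ (p ^ (n + 1) - 1) = 0
  swap
  · have : p ^ (n + 1) - 1 < s := by
      by_contra hlt
      exact hfull (pow_eq_zero_of_le (by omega) hs)
    exact ⟨this.le, fun h => absurd h this.ne'⟩
  set t := x ^ p ^ n with ht
  have ht1 : t ≠ 1 := by
    intro h
    have := orderOf_dvd_of_pow_eq_one h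
    rw [he, Nat.pow_dvd_pow_iff_le_right hp.one_lt] at this
    omega
  have htx : t ∈ Subgroup.zpowers x := Subgroup.pow_mem _ (Subgroup.mem_zpowers x) _
  have hCt := hC t htx ht1
  have hcomm : ∀ y ∈ Subgroup.centralizer ({t} : Set G), x * y = y * x := by
    intro y hy
    rw [hCt] at hy
    obtain ⟨a, ha, z, hz, rfl⟩ := Subgroup.mem_sup_of_normal_right.1 hy
    obtain ⟨i, rfl⟩ := ha
    exact (((Commute.refl x).zpow_right i).mul_right ((Subgroup.mem_center_iff.1 hz x) : Commute x z)).eq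
  have hne : ∃ q₀ ∈ Q, t * q₀ * t⁻¹ ≠ q₀ := by
    by_contra hc
    push Not at hc
    have hQx : ∀ y ∈ Q, x * y = y * x := fun y hy => hcomm y (Subgroup.mem_centralizer_singleton_iff.2
      (mul_inv_eq_iff_eq_mul.1 (hc y hy)).symm)
    have hxc : ∀ g : G, x * g = g * x := by
      intro g
      have hg : g ∈ Q ⊔ Subgroup.zpowers x := hgen ▸ Subgroup.mem_top g
      obtain ⟨a, ha, b, ⟨i, rfl⟩, rfl⟩ := Subgroup.mem_sup_of_normal_left.1 hg
      have hca : Commute x a := hQx a ha
      exact (hca.mul_right ((Commute.refl x).zpow_right i)).eq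
    obtain ⟨μ, hμ⟩ := Module.End.exists_eigenvalue (ρ x)
    have hinv : ∀ g ∈ Q, Submodule.map (ρ g) (Module.End.eigenspace (ρ x) μ) ≤ Module.End.eigenspace (ρ x) μ := by
      rintro g - _ ⟨v, hv, rfl⟩
      rw [SetLike.mem_coe, Module.End.mem_eigenspace_iff] at hv
      rw [Module.End.mem_eigenspace_iff, ← Module.End.mul_apply, ← map_mul, hxc, map_mul,
        Module.End.mul_apply, hv, map_smul]
    have htop := (hirr _ hinv).resolve_left hμ
    have hxμ : ρ x = μ • 1 := LinearMap.ext fun v => by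
      rw [LinearMap.smul_apply, Module.End.one_apply]
      exact Module.End.mem_eigenspace_iff.1 (htop ▸ Submodule.mem_top)
    have hμ1 : μ = 1 := by
      have h1 := congrArg (· ^ p ^ (n + 1)) hxμ
      simp only [smul_pow, one_pow] at h1
      rw [← map_pow, hxe, map_one] at h1
      obtain ⟨v, hv⟩ := exists_ne (0 : V)
      have h2 := LinearMap.congr_fun h1 v
      rw [LinearMap.smul_apply, Module.End.one_apply] at h2
      have h3 : μ ^ p ^ (n + 1) = 1 := smul_left_injective K hv (by simpa using h2.symm)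
      have h4 := CfsgLib.PGroup.ModularB.sub_one_pow_prime_pow (k := K) (p := p) μ (n + 1)
      rw [h3, sub_self] at h4
      exact sub_eq_zero.1 (pow_eq_zero_iff (pow_ne_zero _ hp.ne_zero) |>.1 h4)
    apply ht1
    rw [ht, show x = 1 from hfaith (by rw [hxμ, hμ1, one_smul, map_one]), one_pow]
  obtain ⟨j, m, i, hjm, -, hqi, hblock, ⟨a, ha, b, hb, hab⟩, hj⟩ :=
    CfsgLib.PGroup.ModularB.bound_faithful ρ hfaith (Fact.out : q.Prime) hp hpq.symm x hxe hfull _ Q le_rfl hQ
      (by rw [Subgroup.normalizer_eq_top_iff.2 ‹Q.Normal›]; exact Subgroup.mem_top _) hne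
  have hj0 : j = 0 := hj fun y _ hy => hcomm y (Subgroup.mem_centralizer_singleton_iff.2 hy.symm)
  subst hj0
  rw [zero_add] at hjm
  subst hjm
  rw [pow_zero, one_mul] at hblock
  refine ⟨?_, fun _ => ⟨⟨i, by omega⟩, fun hQc => hab ?_⟩⟩
  · by_contra hlt
    exact hblock (pow_eq_zero_of_le (by omega) hs)
  · exact congrArg Subtype.val (isMulCommutative_iff.1 hQc ⟨a, ha⟩ ⟨b, hb⟩)

end Cfsg.Agent.S4282
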