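import Cfsg.Statements.S4283
-- import your own Cfsg.Agent.* helpers here
import Cfsg.Agent.Lib.Coprime.Frobenius

set_option autoImplicit false
open Cfsg

namespace Cfsg.Agent.S4283

open CfsgLib.Coprime

/-- Non-identity kernel elements have centralizer inside the kernel. -/
theorem kernel_centralizer {G : Type*} [Group G] [Finite G] {H N : Subgroup G}
    (hH : Cfsg.IsFrobeniusComplement H) (hN : (N : Set G) = Cfsg.frobeniusKernel H) [N.Normal]
    {n g : G} (hn : n ∈ N) (hn1 : n ≠ 1) (hc : Commute g n) : g ∈ N := by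
  by_contra hg
  have hg' : g ∉ Cfsg.frobeniusKernel H := fun h => hg (hN.symm ▸ h : g ∈ (N : Set G))
  rw [frob_mem_kernel_iff, not_or, not_forall] at hg'
  obtain ⟨hg1, c, hgc⟩ := hg'
  rw [not_not] at hgc
  have h1 : c⁻¹ * g * c ≠ 1 := fun e => hg1 (by
    rw [show g = c * (c⁻¹ * g * c) * c⁻¹ by group, e]; group)
  have h2 : c⁻¹ * n * c ∈ H := frob_mem_of_commute hH hgc h1 (by
    show c⁻¹ * g * c * (c⁻¹ * n * c) = c⁻¹ * n * c * (c⁻¹ * g * c)
    calc c⁻¹ * g * c * (c⁻¹ * n * c) = c⁻¹ * (g * n) * c := by group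
      _ = c⁻¹ * (n * g) * c := by rw [hc.eq]
      _ = _ := by group)
  have h3 : c⁻¹ * n * c ∈ N := by
    simpa using (inferInstance : N.Normal).conj_mem n hn c⁻¹
  have h4 := frob_kernel_inter (hN ▸ h3 : c⁻¹ * n * c ∈ Cfsg.frobeniusKernel H) h2
  exact hn1 (by rw [show n = c * (c⁻¹ * n * c) * c⁻¹ by group, h4]; group)

/-- Let G be a finite group with centre Z and let K, H be abelian subgroups of G containing Z such that G/Z is a Frobenius group with complement H/Z and kernel K/Z. Then the conjugacy class sizes of G are exactly 1, [G : K] and [G : H], and these two indices are coprime. (This is the converse half of the characterization of finite groups whose conjugacy class sizes are exactly 1, m and n with m and n coprime.) -/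
theorem result {G : Type*} [Group G] [Finite G] (K H : Subgroup G) (hZK : Subgroup.center G ≤ K) (hZH : Subgroup.center G ≤ H) (hK : IsMulCommutative K) (hH : IsMulCommutative H) (hFrob : Cfsg.IsFrobeniusComplement (H.map (QuotientGroup.mk' (Subgroup.center G)))) (hker : Cfsg.frobeniusKernel (H.map (QuotientGroup.mk' (Subgroup.center G))) = (K.map (QuotientGroup.mk' (Subgroup.center G)) : Set (G ⧸ Subgroup.center G))) : Set.range (fun x : G => (Subgroup.centralizer ({x} : Set G)).index) = ({1, K.index, H.index} : Set ℕ) ∧ K.index.Coprime H.index := by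
  classical
  set Z := Subgroup.center G with hZ
  set π := QuotientGroup.mk' Z with hπ
  set Hb := H.map π with hHb
  set Kb := K.map π with hKb
  have hπs : Function.Surjective π := QuotientGroup.mk'_surjective Z
  have hkπ : π.ker = Z := QuotientGroup.ker_mk' Z
  obtain ⟨N, hN, hNn, hc⟩ := frob_kernel_subgroup hFrob
  have hNK : N = Kb := SetLike.coe_injective (hN.trans hker)
  subst hNK
  haveI := hNn
  have hKc : Kb.comap π = K := by rw [hKb, Subgroup.comap_map_eq, hkπ, sup_eq_left.2 hZK]
  have hHc : Hb.comap π = H := by rw [hHb, Subgroup.comap_map_eq, hkπ, sup_eq_left.2 hZH]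
  have hKi : K.index = Kb.index := by rw [← hKc, Subgroup.index_comap_of_surjective _ hπs]
  have hHi : H.index = Hb.index := by rw [← hHc, Subgroup.index_comap_of_surjective _ hπs]
  have one_iff : ∀ g : G, π g = 1 ↔ g ∈ Z := fun g => QuotientGroup.eq_one_iff g
  have cK : ∀ x ∈ K, x ∉ Z → Subgroup.centralizer ({x} : Set G) = K := by
    intro x hx hxZ
    refine le_antisymm (fun g hg => ?_) fun g hg =>
      Subgroup.mem_centralizer_singleton_iff.2 (setLike_mul_comm hg hx)
    rw [← hKc, Subgroup.mem_comap]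
    exact kernel_centralizer hFrob hN (Subgroup.mem_map_of_mem π hx) (fun e => hxZ ((one_iff x).1 e))
      (Commute.map (show Commute g x from Subgroup.mem_centralizer_singleton_iff.1 hg) π)
  have cH : ∀ x ∈ H, x ∉ Z → Subgroup.centralizer ({x} : Set G) = H := by
    intro x hx hxZ
    refine le_antisymm (fun g hg => ?_) fun g hg =>
      Subgroup.mem_centralizer_singleton_iff.2 (setLike_mul_comm hg hx)
    rw [← hHc, Subgroup.mem_comap]
    exact frob_mem_of_commute hFrob (Subgroup.mem_map_of_mem π hx) (fun e => hxZ ((one_iff x).1 e))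
      (Commute.map (show Commute x g from (Subgroup.mem_centralizer_singleton_iff.1 hg).symm) π)
  have cZ : ∀ x ∈ Z, Subgroup.centralizer ({x} : Set G) = ⊤ := fun x hx => eq_top_iff.2 fun g _ =>
    Subgroup.mem_centralizer_singleton_iff.2 (Subgroup.mem_center_iff.1 hx g)
  refine ⟨Set.Subset.antisymm ?_ ?_, ?_⟩
  · rintro _ ⟨x, rfl⟩
    simp only [Set.mem_insert_iff, Set.mem_singleton_iff]
    by_cases hxZ : x ∈ Z
    · exact Or.inl (by rw [cZ x hxZ, Subgroup.index_top])
    by_cases hxK : x ∈ K
    · exact Or.inr (Or.inl (by rw [cK x hxK hxZ]))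
    · right; right
      have hk : π x ∉ Cfsg.frobeniusKernel Hb := fun h => hxK (by
        rw [← hKc, Subgroup.mem_comap]; exact (hN.symm ▸ h : π x ∈ (Kb : Set (G ⧸ Z))))
      rw [frob_mem_kernel_iff, not_or, not_forall] at hk
      obtain ⟨-, cb, hcb⟩ := hk
      rw [not_not] at hcb
      obtain ⟨c, rfl⟩ := hπs cb
      have hxc : c⁻¹ * x * c ∈ H := by
        rw [← hHc, Subgroup.mem_comap, map_mul, map_mul, map_inv]; exact hcb
      have hxcZ : c⁻¹ * x * c ∉ Z := fun h => hxZ (by
        have := (inferInstance : Z.Normal).conj_mem _ h c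
        simpa [mul_assoc] using this)
      have hmap : (Subgroup.centralizer ({x} : Set G)).map (MulAut.conj c⁻¹).toMonoidHom =
          Subgroup.centralizer ({c⁻¹ * x * c} : Set G) := by
        ext z
        rw [Subgroup.mem_map_equiv, Subgroup.mem_centralizer_singleton_iff,
          Subgroup.mem_centralizer_singleton_iff, MulAut.conj_symm_apply, inv_inv]
        constructor
        · intro h
          have := congrArg (fun t => c⁻¹ * t * c) h
          simpa [mul_assoc] using this
        · intro h
          have := congrArg (fun t => c * t * c⁻¹) h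
          simpa [mul_assoc] using this
      rw [← cH _ hxc hxcZ, ← hmap]
      exact (Subgroup.index_map_of_bijective (MulAut.conj c⁻¹).bijective _).symm
  · rintro i (rfl | rfl | rfl)
    · exact ⟨1, by simp [cZ 1 (one_mem _)]⟩
    · obtain ⟨y, hy, hy1⟩ := (Kb.ne_bot_iff_exists_ne_one.1 fun e => hFrob.2.1 (by
        have := hc.sup_eq_top; rwa [e, bot_sup_eq] at this) :
        ∃ y : Kb, y ≠ 1) |> fun ⟨y, hy⟩ => (⟨y.1, y.2, fun e => hy (Subtype.ext e)⟩ : ∃ y, y ∈ Kb ∧ y ≠ 1)
      obtain ⟨x, hx, rfl⟩ := hy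
      exact ⟨x, congrArg Subgroup.index (cK x hx fun h => hy1 ((one_iff x).2 h))⟩
    · obtain ⟨⟨y, hy⟩, hy1⟩ := Hb.ne_bot_iff_exists_ne_one.1 hFrob.1
      obtain ⟨x, hx, rfl⟩ := hy
      exact ⟨x, congrArg Subgroup.index (cH x hx fun h => hy1 (Subtype.ext ((one_iff x).2 h)))⟩
  · rw [hKi, hHi, hc.symm.index_eq_card]
    exact frob_coprime_card_index hFrob

end Cfsg.Agent.S4283
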