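import Cfsg.Statements.S4290
import Cfsg.Agent.Lib.Perm.OddAut
-- import your own Cfsg.Agent.* helpers here

set_option autoImplicit false
open Cfsg

namespace Cfsg.Agent.S4290

/-- Let G be a doubly transitive group of permutations of a finite set Ω in which a point stabilizer is a Hall subgroup of G (its order is coprime to its index). Then every automorphism of G of odd order is induced by conjugation by a permutation of Ω normalizing G. -/
theorem result {Ω : Type*} [Fintype Ω] (G : Subgroup (Equiv.Perm Ω)) (h2 : MulAction.IsMultiplyPretransitive G Ω 2) (o : Ω) (hHall : (Nat.card (MulAction.stabilizer G o)).Coprime (MulAction.stabilizer G o).index) (α : MulAut G) (hα : Odd (orderOf α)) : ∃ σ : Equiv.Perm Ω, σ ∈ Subgroup.normalizer (G : Set (Equiv.Perm Ω)) ∧ ∀ g : G, ((α g : G) : Equiv.Perm Ω) = σ * (g : Equiv.Perm Ω) * σ⁻¹ := by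
  classical
  haveI := h2
  haveI : MulAction.IsPretransitive G Ω := MulAction.isPretransitive_of_is_two_pretransitive
  rw [MulAction.index_stabilizer_of_transitive, Nat.card_eq_fintype_card (α := Ω)] at hHall
  have hdvd : Nat.card (MulAction.orbit ((MulAction.stabilizer G o).map α.toMonoidHom) o) ∣
      Nat.card (MulAction.stabilizer G o) := by
    rw [← Subgroup.card_map_of_injective (K := MulAction.stabilizer G o) (f := α.toMonoidHom) α.injective,
      ← Nat.card_congr (MulAction.orbitProdStabilizerEquivGroup ((MulAction.stabilizer G o).map α.toMonoidHom) o),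
      Nat.card_prod]
    exact dvd_mul_right _ _
  exact (CfsgLib.Perm.OddAut.main h2 o α hα o (Nat.Coprime.coprime_dvd_left hdvd hHall)).1

end Cfsg.Agent.S4290
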