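import Cfsg.Statements.S4291
import Cfsg.Agent.Lib.Char.Zassenhaus.SixTypes

set_option autoImplicit false
open Cfsg

namespace Cfsg.Agent.S4291

open Subgroup CfsgLib.Char.Zassenhaus

/-- No nontrivial cyclic subgroup of the larger four types is normal. -/
def NoNormalCyclic (X : Type*) [Group X] : Prop := ∀ x : X, x ≠ 1 → ∃ g : X, g * x * g⁻¹ ∉ zpowers x

theorem noNormalCyclic_of_powers {X : Type*} [Group X] [Finite X]
    (h : ∀ x : X, x ≠ 1 → x ^ 1 = x ∧ (∃ i : Fin 6, x ^ (i.val + 1) = 1) ∧ ∃ g : X, ∀ i : Fin 6, g * x * g⁻¹ ≠ x ^ i.val) :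
    NoNormalCyclic X := fun x hx => by
  classical
  obtain ⟨-, ⟨i, hi⟩, g, hg⟩ := h x hx
  refine ⟨g, fun hmem => ?_⟩
  obtain ⟨j, hj, he⟩ := (mem_zpowers_iff_mem_range_orderOf).1 hmem |> Finset.mem_image.1
  have h6 : orderOf x ≤ 6 :=
    (Nat.le_of_dvd (Nat.succ_pos _) (orderOf_dvd_of_pow_eq_one hi)).trans (by omega)
  exact hg ⟨j, lt_of_lt_of_le (Finset.mem_range.1 hj) h6⟩ he.symm

theorem alt_four : NoNormalCyclic (alternatingGroup (Fin 4)) :=
  noNormalCyclic_of_powers (by decide +kernel)

theorem sym_four : NoNormalCyclic (Equiv.Perm (Fin 4)) := noNormalCyclic_of_powers (by decide +kernel)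

theorem alt_five : NoNormalCyclic (alternatingGroup (Fin 5)) :=
  noNormalCyclic_of_powers (by decide +kernel)

theorem sym_five : NoNormalCyclic (Equiv.Perm (Fin 5)) := noNormalCyclic_of_powers (by decide +kernel)

/-- A normal subgroup with cyclic Sylow subgroups of such a group is trivial. -/
theorem eq_bot_of_noNormalCyclic {X : Type*} [Group X] [Finite X] (hX : NoNormalCyclic X)
    (K : Subgroup X) [K.Normal] (hK : IsZGroup K) : K = ⊥ := by
  classical
  haveI := hK
  have hcyc : ∀ C : Subgroup X, C.Normal → IsCyclic C → C = ⊥ := by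
    intro C hC hCc
    by_contra hne
    obtain ⟨⟨x, hx⟩, hx1⟩ := C.ne_bot_iff_exists_ne_one.1 hne
    obtain ⟨g, hg⟩ := hX x fun e => hx1 (Subtype.ext e)
    haveI := hCc
    haveI := Fintype.ofFinite C
    have hn := orderOf_pos (⟨x, hx⟩ : C)
    set S := (Finset.univ.filter fun w : C => w ^ orderOf (⟨x, hx⟩ : C) = 1) with hS
    have hsub : (Finset.range (orderOf (⟨x, hx⟩ : C))).image ((⟨x, hx⟩ : C) ^ ·) ⊆ S := by
      intro w hw
      obtain ⟨j, -, rfl⟩ := Finset.mem_image.1 hw
      rw [hS, Finset.mem_filter]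
      exact ⟨Finset.mem_univ _, by rw [← pow_mul, mul_comm, pow_mul, pow_orderOf_eq_one, one_pow]⟩
    have heq := Finset.eq_of_subset_of_card_le hsub (by
      rw [Finset.card_image_of_injOn (fun a ha b hb e => pow_injOn_Iio_orderOf
        (Finset.mem_range.1 (Finset.mem_coe.1 ha)) (Finset.mem_range.1 (Finset.mem_coe.1 hb)) e),
        Finset.card_range, hS]
      exact IsCyclic.card_pow_eq_one_le hn)
    have hy : (⟨g * x * g⁻¹, hC.conj_mem x hx g⟩ : C) ∈ S := by
      rw [hS, Finset.mem_filter]
      refine ⟨Finset.mem_univ _, Subtype.ext ?_⟩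
      rw [SubmonoidClass.coe_pow, Subgroup.orderOf_mk, conj_pow, pow_orderOf_eq_one]
      simp
    rw [← heq] at hy
    obtain ⟨j, -, he⟩ := Finset.mem_image.1 hy
    exact hg ⟨(j : ℤ), by simpa using congrArg Subtype.val he⟩
  haveI := IsZGroup.isCyclic_commutator K
  have h1 : (commutator K).map K.subtype = ⊥ :=
    hcyc _ ConjAct.normal_of_characteristic_of_normal
      (isCyclic_of_surjective _ ((commutator K).equivMapOfInjective K.subtype K.subtype_injective).surjective)
  have h2 : commutator K = ⊥ := (map_eq_bot_iff_of_injective _ K.subtype_injective).1 h1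
  haveI : IsCyclic (K ⧸ commutator K) := IsZGroup.isCyclic_abelianization
  exact hcyc K inferInstance (isCyclic_of_surjective
    ((QuotientGroup.quotientMulEquivOfEq h2).trans QuotientGroup.quotientBot).toMonoidHom (MulEquiv.surjective _))

variable {G : Type*} [Group G] [Finite G]

theorem le_of_large {X : Type*} [Group X] [Finite X] (hX : NoNormalCyclic X) (f : G →* X)
    (hf : Function.Surjective f) (N : Subgroup G) [N.Normal] (hN : IsZGroup N) : N ≤ f.ker := by
  haveI := hN
  haveI : (N.map f).Normal := Subgroup.Normal.map inferInstance f hf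
  have := eq_bot_of_noNormalCyclic hX (N.map f) (IsZGroup.of_surjective (f := f.subgroupMap N) (f.subgroupMap_surjective N))
  exact fun x hx => MonoidHom.mem_ker.2 (mem_bot.1 (this ▸ mem_map_of_mem f hx))

/-- A type is the whole group, a kernel of a map onto a four group, or one of the larger types. -/
theorem type_cases {N : Subgroup G} (hN : SixType N) :
    N = ⊤ ∨ (∃ f : G →* DihedralGroup 2, Function.Surjective f ∧ f.ker = N) ∨
      ((∀ K : Subgroup G, K.Normal → IsZGroup K → K ≤ N) ∧ 4 < N.index) := by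
  rcases hN with h | h | ⟨f, hf, rfl⟩ | ⟨f, hf, rfl⟩ | ⟨f, hf, rfl⟩ | ⟨f, hf, rfl⟩
  · exact Or.inl h
  · exact Or.inr (Or.inl h)
  all_goals refine Or.inr (Or.inr ⟨fun K hK hKz => ?_, ?_⟩)
  any_goals (rw [index_ker, MonoidHom.range_eq_top.2 hf, card_top, Nat.card_eq_fintype_card]; decide +kernel)
  all_goals haveI := hK
  · exact le_of_large alt_four f hf K hKz
  · exact le_of_large sym_four f hf K hKz
  · exact le_of_large alt_five f hf K hKz
  · exact le_of_large sym_five f hf K hKz

theorem unique (ψ : ZRep G) {N₁ N₂ : Subgroup G} (h1 : N₁.Normal) (h2 : N₂.Normal) (hz1 : IsZGroup N₁)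
    (hz2 : IsZGroup N₂) (ht1 : SixType N₁) (ht2 : SixType N₂) : N₁ = N₂ := by
  haveI : Fact (Nat.Prime 2) := ⟨Nat.prime_two⟩
  have hdih : ∀ {N : Subgroup G}, (∃ f : G →* DihedralGroup 2, Function.Surjective f ∧ f.ker = N) →
      N.index = 4 := fun {N} ⟨f, hf, e⟩ => by
    rw [← e, index_ker, MonoidHom.range_eq_top.2 hf, card_top, Nat.card_eq_fintype_card, DihedralGroup.card]
  have htop : ∀ {N : Subgroup G}, (∃ f : G →* DihedralGroup 2, Function.Surjective f ∧ f.ker = N) →
      ¬ IsZGroup (⊤ : Subgroup G) := fun {N} ⟨f, hf, e⟩ hz => by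
    haveI := hz
    haveI : IsZGroup (DihedralGroup 2) := IsZGroup.of_surjective (f := f.comp (⊤ : Subgroup G).subtype)
      fun w => (hf w).elim fun x hx => ⟨⟨x, mem_top x⟩, hx⟩
    haveI : IsCyclic (⊤ : Subgroup (DihedralGroup 2)) := (IsPGroup.of_card (p := 2) (n := 2)
      (by rw [card_top, Nat.card_eq_fintype_card, DihedralGroup.card]; rfl)).isCyclic_of_isZGroup
    haveI : IsCyclic (DihedralGroup 2) := isCyclic_of_surjective (Subgroup.topEquiv (G := DihedralGroup 2)).toMonoidHom
      (MulEquiv.surjective _)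
    exact DihedralGroup.not_isCyclic (n := 2) (by norm_num) inferInstance
  rcases type_cases ht1 with e1 | d1 | ⟨l1, i1⟩ <;> rcases type_cases ht2 with e2 | d2 | ⟨l2, i2⟩
  · rw [e1, e2]
  · exact absurd (e1 ▸ hz1) (htop d2)
  · have := index_dvd_of_le (l2 N₁ h1 hz1)
    rw [e1, index_top] at this
    exact absurd (Nat.le_of_dvd one_pos this) (by omega)
  · exact absurd (e2 ▸ hz2) (htop d1)
  · obtain ⟨f, hf, ef⟩ := d1
    obtain ⟨g, hg, eg⟩ := d2
    set F := f.prod g with hF
    have hsq : ∀ x : DihedralGroup 2, x * x = 1 := by decide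
    obtain ⟨P⟩ : Nonempty (Sylow 2 G) := inferInstance
    have h4 := CfsgLib.Char.Zassenhaus.card_range_le_four P.isPGroup' (uniqueOrderP_sylow ψ _ P.isPGroup')
      ((F.rangeRestrict).comp (P : Subgroup G).subtype) fun x => Subtype.ext (Prod.ext (hsq _) (hsq _))
    have hpF : IsPGroup 2 F.range := fun x => ⟨1, Subtype.ext (by
      rw [pow_one, pow_two]
      exact Prod.ext (hsq _) (hsq _))⟩
    have hsurj : Function.Surjective ((F.rangeRestrict).comp (P : Subgroup G).subtype) := by
      intro y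
      have htop : (P.mapSurjective F.rangeRestrict_surjective : Subgroup F.range) = ⊤ :=
        ((P.mapSurjective F.rangeRestrict_surjective).is_maximal' (hpF.to_subgroup ⊤) le_top).symm
      obtain ⟨x, hx, e⟩ := mem_map.1 (show y ∈ (P : Subgroup G).map F.rangeRestrict from htop.ge (mem_top y))
      exact ⟨⟨x, hx⟩, e⟩
    rw [MonoidHom.range_eq_top.2 hsurj, card_top] at h4
    have hFi : F.ker.index ≤ 4 := by rw [index_ker]; exact h4
    have hle : ∀ {N : Subgroup G}, N.index = 4 → F.ker ≤ N → F.ker = N := by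
      intro N hN hFN
      refine Subgroup.eq_of_le_of_card_ge hFN ?_
      have c1 := F.ker.card_mul_index
      have c2 := N.card_mul_index
      rw [hN] at c2
      nlinarith [c1, c2, hFi]
    rw [← hle (hdih ⟨f, hf, ef⟩) (fun x hx => by rw [← ef]; exact congrArg Prod.fst (MonoidHom.mem_ker.1 hx)),
      ← hle (hdih ⟨g, hg, eg⟩) (fun x hx => by rw [← eg]; exact congrArg Prod.snd (MonoidHom.mem_ker.1 hx))]
  · have := index_dvd_of_le (l2 N₁ h1 hz1)
    rw [hdih d1] at this
    exact absurd (Nat.le_of_dvd (by norm_num) this) (by omega)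
  · have := index_dvd_of_le (l1 N₂ h2 hz2)
    rw [e2, index_top] at this
    exact absurd (Nat.le_of_dvd one_pos this) (by omega)
  · have := index_dvd_of_le (l1 N₂ h2 hz2)
    rw [hdih d2] at this
    exact absurd (Nat.le_of_dvd (by norm_num) this) (by omega)
  · exact le_antisymm (l2 N₁ h1 hz1) (l1 N₂ h2 hz2)

/-- Let G be a finite group that occurs as a Frobenius complement. Then G has exactly one normal subgroup N such that every Sylow subgroup of N is cyclic and the quotient of G by N is trivial or isomorphic to one of the following five groups: the Klein four-group, the alternating group of degree 4, the symmetric group of degree 4, the alternating group of degree 5, the symmetric group of degree 5. (The quotient is described by a surjective homomorphism with kernel N; the Klein four-group is written as the dihedral group of order 4.) -/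
theorem result {G : Type*} [Group G] [Finite G]
    (hFC : (∃ (L : Type) (_ : Group L) (_ : Finite L) (H : Subgroup L), Cfsg.IsFrobeniusComplement H ∧ Nonempty (G ≃* H))) :
    ∃! N : Subgroup G, N.Normal ∧ (∀ (p : ℕ) [Fact p.Prime] (P : Sylow p N), IsCyclic P) ∧
      (N = ⊤ ∨
        (∃ f : G →* DihedralGroup 2, Function.Surjective f ∧ f.ker = N) ∨
        (∃ f : G →* alternatingGroup (Fin 4), Function.Surjective f ∧ f.ker = N) ∨
        (∃ f : G →* Equiv.Perm (Fin 4), Function.Surjective f ∧ f.ker = N) ∨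
        (∃ f : G →* alternatingGroup (Fin 5), Function.Surjective f ∧ f.ker = N) ∨
        (∃ f : G →* Equiv.Perm (Fin 5), Function.Surjective f ∧ f.ker = N)) := by
  obtain ⟨L, _, _, H, hH, ⟨e⟩⟩ := hFC
  obtain ⟨ψ₀⟩ := exists_zrep_of_complement hH
  let ψ := ψ₀.comap e.toMonoidHom e.injective
  obtain ⟨N, hN, hNz, hNt⟩ := exists_six ψ
  refine ⟨N, ⟨hN, fun p hp P => ?_, hNt⟩, ?_⟩
  · haveI := hNz
    exact IsZGroup.isZGroup p hp.out P
  · rintro K ⟨hK, hKs, hKt⟩
    exact unique ψ hK hN ⟨fun p hp P => @hKs p ⟨hp⟩ P⟩ hNz hKt hNt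

end Cfsg.Agent.S4291
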