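import Cfsg.Statements.S4292
import Cfsg.Agent.Lib.PGroup.ComplementCriteria

set_option autoImplicit false
open Cfsg

namespace Cfsg.Agent.S4292

/-- Let A and B be nontrivial finite groups. Then the direct product A × B occurs as a Frobenius complement if and only if A and B both occur as Frobenius complements and the orders of A and B are coprime. -/
theorem result {A B : Type*} [Group A] [Finite A] [Nontrivial A] [Group B] [Finite B] [Nontrivial B] :
    (∃ (L : Type) (_ : Group L) (_ : Finite L) (H : Subgroup L), Cfsg.IsFrobeniusComplement H ∧ Nonempty ((A × B) ≃* H)) ↔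
    ((∃ (L : Type) (_ : Group L) (_ : Finite L) (H : Subgroup L), Cfsg.IsFrobeniusComplement H ∧ Nonempty (A ≃* H)) ∧
     (∃ (L : Type) (_ : Group L) (_ : Finite L) (H : Subgroup L), Cfsg.IsFrobeniusComplement H ∧ Nonempty (B ≃* H)) ∧
     (Nat.card A).Coprime (Nat.card B)) := by
  constructor
  · intro h
    refine ⟨?_, ?_, ?_⟩
    · exact CfsgLib.PGroup.Compl.occurs_of_injective h (MonoidHom.inl A B)
        fun a b e => (Prod.mk.injEq .. ▸ e).1
    · exact CfsgLib.PGroup.Compl.occurs_of_injective h (MonoidHom.inr A B)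
        fun a b e => (Prod.mk.injEq .. ▸ e).2
    · refine Nat.coprime_of_dvd fun q hq hqA hqB => ?_
      haveI := Fact.mk hq
      obtain ⟨a, ha⟩ := exists_prime_orderOf_dvd_card' q hqA
      obtain ⟨b, hb⟩ := exists_prime_orderOf_dvd_card' q hqB
      obtain ⟨k, hk⟩ := CfsgLib.PGroup.Compl.mem_zpowers_of_occurs h hq
        (a := (a, (1 : B))) (b := ((1 : A), b)) (by simp [Prod.orderOf, ha])
        (by simp [Prod.orderOf, hb]) (by simp [Commute, SemiconjBy])
      have h2 : (1 : B) = b := by simpa using congrArg Prod.snd hk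
      rw [← h2, orderOf_one] at hb
      exact hq.ne_one hb.symm
  · rintro ⟨hA, hB, hcop⟩
    exact CfsgLib.PGroup.Compl.occurs_prod hA hB hcop

end Cfsg.Agent.S4292
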