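import Cfsg.Statements.S4293
import Cfsg.Agent.Lib.PGroup.ComplementCriteria

set_option autoImplicit false
open Cfsg

namespace Cfsg.Agent.S4293

/-- A nontrivial finite subgroup of the multiplicative group of a division ring occurs as a Frobenius complement of some finite Frobenius group. -/
theorem result {D : Type*} [DivisionRing D] (H : Subgroup Dˣ) [Finite H] (hH : H ≠ ⊥) :
    ∃ (L : Type) (_ : Group L) (_ : Finite L) (C : Subgroup L), Cfsg.IsFrobeniusComplement C ∧ Nonempty (H ≃* C) := by
  haveI : Nontrivial H := (Subgroup.nontrivial_iff_ne_bot H).2 hH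
  let f : H →* D := (Units.coeHom D).comp H.subtype
  have hf : Function.Injective f := Units.val_injective.comp Subtype.val_injective
  have key : CfsgLib.PGroup.Compl.Occurs H := by
    obtain ⟨p, hp⟩ := CharP.exists D
    rcases CharP.char_is_prime_or_zero D p with hpp | rfl
    · haveI := Fact.mk hpp
      haveI := CfsgLib.PGroup.Compl.isCyclic_of_charP p f hf
      exact CfsgLib.PGroup.Compl.occurs_of_isCyclic
    · haveI := CharP.charP_to_charZero D
      exact CfsgLib.PGroup.Compl.occurs_of_divisionRing f hf
  exact key

end Cfsg.Agent.S4293
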