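import Cfsg.Statements.S4294
import Cfsg.Agent.S4293
import Cfsg.Agent.S3359
import Cfsg.Agent.Lib.Invol.DivisionSL25
-- import your own Cfsg.Agent.* helpers here

set_option autoImplicit false
open Cfsg

namespace Cfsg.Agent.S4294

/-- A finite non-solvable subgroup of the multiplicative group of a division ring is isomorphic to the binary icosahedral group SL(2,5). -/
theorem result {D : Type*} [DivisionRing D] (H : Subgroup Dˣ) [Finite H] (hH : ¬ Group.IsSolvable H) :
    Nonempty (H ≃* Matrix.SpecialLinearGroup (Fin 2) (ZMod 5)) := by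
  classical
  have hH1 : H ≠ ⊥ := by
    rintro rfl
    exact hH inferInstance
  obtain ⟨G₀, hG₀, hidx, S, M, hsup, hinf, hcomm, ⟨e⟩, -, hcop⟩ :=
    Cfsg.Agent.S3359.result hH (Cfsg.Agent.S4293.result H hH1)
  let f : H →* D := (Units.coeHom D).comp H.subtype
  have hf : Function.Injective f := Units.val_injective.comp Subtype.val_injective
  let ι : CfsgLib.Invol.SL25.T →* H := S.subtype.comp e.symm.toMonoidHom
  have hι : Function.Injective ι := S.subtype_injective.comp e.symm.injective
  have hr : ι.range = S := by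
    ext z
    constructor
    · rintro ⟨a, rfl⟩; exact (e.symm a).2
    · intro hz; exact ⟨e ⟨z, hz⟩, by simp [ι]⟩
  have hM : M = ⊥ := by
    by_contra hM
    haveI : Nontrivial M := (Subgroup.nontrivial_iff_ne_bot M).2 hM
    obtain ⟨r, hr', hdvd⟩ := Nat.exists_prime_and_dvd
      (n := Nat.card M) (by have := Finite.one_lt_card (α := M); omega)
    haveI := Fact.mk hr'
    obtain ⟨x, hx⟩ := exists_prime_orderOf_dvd_card' r hdvd
    have hne : ∀ d, d ∣ 30 → r ≠ d := by
      intro d hd he
      have : r ∣ Nat.gcd (Nat.card M) 30 := Nat.dvd_gcd hdvd (he ▸ hd)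
      rw [hcop.gcd_eq_one] at this
      exact hr'.one_lt.ne' (Nat.dvd_one.1 this)
    refine CfsgLib.Invol.DivisionSL25.no_central_prime f hf ι hι r hr' (hne 2 (by norm_num))
      (hne 5 (by norm_num)) (x : H) ?_ ?_ ?_
    · rw [← hx, ← SubgroupClass.coe_pow, pow_orderOf_eq_one]; rfl
    · intro h1
      have h1' : x = 1 := Subtype.ext h1
      rw [h1', orderOf_one] at hx
      exact hr'.ne_one hx.symm
    · intro z
      exact (hcomm _ (hr ▸ (⟨z, rfl⟩ : ι z ∈ ι.range)) _ x.2).symm
  rw [hM, sup_bot_eq] at hsup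
  subst hsup
  have hN : ι.range.Normal := by rw [hr]; exact hG₀
  have hsq : ∀ g : H, g * g ∈ ι.range := by
    intro g
    rw [hr]
    rcases hidx with h1 | h2
    · rw [Subgroup.index_eq_one.1 h1]; exact Subgroup.mem_top _
    · exact Subgroup.mul_self_mem_of_index_two h2 g
  have htop := CfsgLib.Invol.DivisionSL25.range_eq_top f hf ι hι hN hsq
  rw [hr] at htop
  exact ⟨((MulEquiv.subgroupCongr htop).trans Subgroup.topEquiv).symm.trans e⟩

end Cfsg.Agent.S4294
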