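import Cfsg.Statements.S4296
import Cfsg.Agent.Lib.Char.Zassenhaus.Complement

set_option autoImplicit false
open Cfsg

namespace Cfsg.Agent.S4296

open Subgroup CfsgLib.Char.Zassenhaus

universe u

/-- An abelian group of odd order acted on by the quaternion group with the centre inverting has square order. -/
theorem isSquare_card : ∀ (n : ℕ) (A : Type u) [CommGroup A] [Finite A], Nat.card A = n → Odd n →
    ∀ I J : A →* A, (∀ v, I (I v) = v⁻¹) → (∀ v, J (J v) = v⁻¹) → (∀ v, J (I v) = (I (J v))⁻¹) → IsSquare n := by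
  intro n
  induction n using Nat.strong_induction_on with
  | _ n ih =>
    intro A _ _ hn hodd I J hI hJ hJI
    rcases eq_or_ne n 1 with rfl | hn1
    · exact ⟨1, rfl⟩
    obtain ⟨ℓ, hℓ, hℓn⟩ := Nat.exists_prime_and_dvd hn1
    haveI := Fact.mk hℓ
    obtain ⟨a, b, hab⟩ := ZMod.sq_add_sq ℓ (-1)
    let π : A →* A := powMonoidHom ℓ
    set V := π.ker with hV
    set W := π.range with hW
    have hcard : Nat.card V * Nat.card W = n := by rw [← hn, ← V.card_mul_index, hV, hW, index_ker]
    have hmemV : ∀ v, v ∈ V ↔ v ^ ℓ = 1 := fun v => Iff.rfl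
    -- the involution `τ`
    let τ : A →* A := (I.comp (powMonoidHom a.val)) * (J.comp (powMonoidHom b.val))
    have hτ : ∀ v, τ v = (I v) ^ a.val * (J v) ^ b.val := fun v => by
      simp [τ, map_pow]
    have hτV : ∀ v ∈ V, τ v ∈ V := fun v hv => by
      rw [hmemV] at hv ⊢
      rw [← map_pow, hv, map_one]
    have hτ2 : ∀ v ∈ V, τ (τ v) = v := fun v hv => by
      rw [hτ, hτ, map_mul, map_mul, map_pow, map_pow, map_pow, map_pow, hI, hJ, hJI, mul_pow, mul_pow,
        ← pow_mul, ← pow_mul, ← pow_mul, ← pow_mul, inv_pow (I (J v)), mul_comm b.val a.val,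
        show v⁻¹ ^ (a.val * a.val) * I (J v) ^ (a.val * b.val) * ((I (J v) ^ (a.val * b.val))⁻¹ *
          v⁻¹ ^ (b.val * b.val)) = v⁻¹ ^ (a.val * a.val) * v⁻¹ ^ (b.val * b.val) by group,
        ← pow_add, inv_pow, inv_eq_iff_mul_eq_one, ← pow_succ]
      obtain ⟨c, hc⟩ : ℓ ∣ a.val * a.val + b.val * b.val + 1 := by
        rw [← ZMod.natCast_eq_zero_iff]
        push_cast
        rw [ZMod.natCast_zmod_val, ZMod.natCast_zmod_val, ← pow_two, ← pow_two, hab, neg_add_cancel]
      rw [hc, pow_mul, (hmemV v).1 hv, one_pow]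
    have hτK : ∀ v, τ (I (J v)) = (I (J (τ v)))⁻¹ := fun v => by
      have h1 : ∀ w, I (J (I w)) = J w := fun w => by rw [hJI, map_inv, hI, inv_inv]
      rw [hτ, hτ, map_mul, map_pow, map_pow, map_mul, map_pow, map_pow, h1 v, hJ, map_inv, hI,
        show J (I (J v)) = (I (J (J v)))⁻¹ from hJI (J v), hJ, map_inv, inv_inv, inv_pow, inv_pow, mul_inv, inv_inv]
    let δ : V →* A := (τ.comp V.subtype) / V.subtype
    have hδ : ∀ v : V, δ v = τ v / v := fun v => rfl
    have hKV : ∀ v ∈ V, I (J v) ∈ V := fun v hv => by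
      rw [hmemV] at hv ⊢
      rw [← map_pow, ← map_pow, hv, map_one, map_one]
    have hKinj : Function.Injective fun v => I (J v) := fun v w e => by
      have hi : Function.Injective I := fun v w e => inv_injective (by rw [← hI, e, hI])
      have hj : Function.Injective J := fun v w e => inv_injective (by rw [← hJ, e, hJ])
      exact hj (hi e)
    have hdiv : ∀ v : V, δ v ∈ V := fun v => div_mem (hτV _ v.2) v.2
    have hrange : ∀ w ∈ δ.range, w ∈ V ∧ τ w = w⁻¹ := by
      rintro _ ⟨v, rfl⟩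
      exact ⟨hdiv v, by rw [hδ, map_div, hτ2 _ v.2, inv_div]⟩
    have h1 : Nat.card δ.range ≤ Nat.card δ.ker := by
      refine Nat.card_le_card_of_injective (fun w => (⟨⟨I (J w.1), hKV _ (hrange _ w.2).1⟩, ?_⟩ : δ.ker)) ?_
      · rw [MonoidHom.mem_ker, hδ]
        show τ (I (J w.1)) / I (J w.1) = 1
        rw [hτK, (hrange _ w.2).2, map_inv, map_inv, inv_inv, div_self']
      · intro v w e
        exact Subtype.ext (hKinj (congrArg (fun x : δ.ker => ((x.1 : V) : A)) e))
    have h2 : Nat.card δ.ker ≤ Nat.card δ.range := by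
      refine Nat.card_le_card_of_injective (fun v => (⟨δ ⟨I (J (v.1 : A)), hKV _ v.1.2⟩, ⟨_, rfl⟩⟩ : δ.range)) ?_
      intro v w e
      have e' : τ (I (J (v.1 : A))) / I (J (v.1 : A)) = τ (I (J (w.1 : A))) / I (J (w.1 : A)) :=
        congrArg Subtype.val e
      have hfix : ∀ x : δ.ker, τ (x.1 : A) = x.1 := fun x => div_eq_one.1 (x.2 : δ x.1 = 1)
      rw [hτK, hτK, hfix, hfix, div_eq_mul_inv, div_eq_mul_inv, ← mul_inv, ← mul_inv, inv_inj] at e'
      have e2 : (I (J (v.1 : A))) ^ 2 = (I (J (w.1 : A))) ^ 2 := by rw [pow_two, pow_two]; exact e'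
      have hc : (Nat.card A).Coprime 2 := Nat.coprime_two_right.2 (hn ▸ hodd)
      exact Subtype.ext (Subtype.ext (hKinj ((powCoprime hc).injective e2)))
    have hV' : Nat.card V = Nat.card δ.ker * Nat.card δ.ker := by
      rw [← δ.ker.card_mul_index, index_ker, le_antisymm h1 h2]
    -- the image of the power map
    have hWlt : Nat.card W < n := by
      rw [← hcard]
      refine (Nat.lt_mul_iff_one_lt_left Nat.card_pos).2 ?_
      obtain ⟨x, hx⟩ := exists_prime_orderOf_dvd_card' (G := A) ℓ (hn ▸ hℓn)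
      haveI : Nontrivial V := ⟨⟨x, by rw [hmemV, ← hx, pow_orderOf_eq_one]⟩, 1, fun e => by
        rw [show x = 1 from congrArg Subtype.val e, orderOf_one] at hx
        exact hℓ.ne_one hx.symm⟩
      exact Finite.one_lt_card
    have hres : ∀ (F : A →* A) w, w ∈ W → F w ∈ W := fun F w ⟨x, hx⟩ => ⟨F x, by
      rw [← hx]; exact (map_pow F x ℓ).symm⟩
    obtain ⟨c, hc⟩ := ih _ hWlt W rfl ((hcard ▸ hodd).of_dvd_nat (dvd_mul_left _ _))
      ((I.comp W.subtype).codRestrict W fun w => hres I _ w.2)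
      ((J.comp W.subtype).codRestrict W fun w => hres J _ w.2)
      (fun v => Subtype.ext (hI _)) (fun v => Subtype.ext (hJ _)) (fun v => Subtype.ext (hJI _))
    exact ⟨Nat.card δ.ker * c, by rw [← hcard, hV', hc]; ring⟩

/-- Let H be a Frobenius complement in a finite group, and suppose some Sylow subgroup of H is not cyclic. Then the number of elements of the Frobenius kernel (the identity together with the elements lying in no conjugate of H) is an odd perfect square. -/
theorem result {L : Type*} [Group L] [Finite L] (H : Subgroup L) (hF : Cfsg.IsFrobeniusComplement H)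
    (hZ : ∃ (p : ℕ) (_ : Fact p.Prime) (P : Sylow p H), ¬ IsCyclic P) :
    Odd (Nat.card (Cfsg.frobeniusKernel H)) ∧ IsSquare (Nat.card (Cfsg.frobeniusKernel H)) := by
  obtain ⟨p, hp, P, hP⟩ := hZ
  obtain ⟨ψ⟩ := exists_zrep_of_complement hF
  have hp2 : p = 2 := by_contra fun h => hP (sylow_cyclic ψ h P P.isPGroup')
  subst hp2
  haveI : Fact (Nat.Prime 2) := ⟨Nat.prime_two⟩
  obtain ⟨k, ⟨eQ⟩⟩ : ∃ k : ℕ, Nonempty ((P : Subgroup H) ≃* QuaternionGroup (2 ^ (k + 1))) := by
    rcases CfsgLib.Coprime.cyclic_or_quaternion_of_unique_two P.isPGroup' (uniqueOrderP_sylow ψ _ P.isPGroup') with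
      h | ⟨_ | k, ⟨e⟩⟩
    · exact absurd h hP
    · haveI : IsCyclic (QuaternionGroup (2 ^ 0)) := by rw [pow_zero]; exact QuaternionGroup.quaternionGroup_one_isCyclic
      exact absurd (isCyclic_of_surjective e.symm.toMonoidHom e.symm.surjective) hP
    · exact ⟨k, ⟨e⟩⟩
  obtain ⟨N, hNK, hN, hc⟩ := CfsgLib.Coprime.frob_kernel_subgroup hF
  haveI := hN
  haveI : NeZero (2 ^ (k + 1)) := ⟨by positivity⟩
  let ε : QuaternionGroup (2 ^ (k + 1)) →* L := (H.subtype.comp (P : Subgroup H).subtype).comp eQ.symm.toMonoidHom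
  have hε : Function.Injective ε :=
    (H.subtype_injective.comp (P : Subgroup H).subtype_injective).comp eQ.symm.injective
  have hεH : ∀ x, ε x ∈ H := fun x => ((eQ.symm x : (P : Subgroup H)) : H).2
  -- the quaternion relations
  set q : QuaternionGroup (2 ^ (k + 1)) := .a ((2 ^ k : ℕ) : ZMod (2 * 2 ^ (k + 1))) with hq
  set j : QuaternionGroup (2 ^ (k + 1)) := .xa 0 with hj
  set z : QuaternionGroup (2 ^ (k + 1)) := .a ((2 ^ (k + 1) : ℕ) : ZMod (2 * 2 ^ (k + 1))) with hz
  have hqq : q * q = z := by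
    rw [hq, hz, QuaternionGroup.a_mul_a, ← Nat.cast_add]
    exact congrArg (fun t : ℕ => (QuaternionGroup.a (t : ZMod (2 * 2 ^ (k + 1))) : QuaternionGroup (2 ^ (k + 1)))) (by ring)
  have hjj : j * j = z := by rw [hj, hz, QuaternionGroup.xa_mul_xa, add_zero, sub_zero]
  have h0 : (((2 * 2 ^ (k + 1) : ℕ)) : ZMod (2 * 2 ^ (k + 1))) = 0 := ZMod.natCast_self _
  have hjq : j * q = z * (q * j) := by
    rw [hj, hq, hz, QuaternionGroup.xa_mul_a, QuaternionGroup.a_mul_xa, QuaternionGroup.a_mul_xa]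
    congr 1
    push_cast at h0 ⊢
    rw [pow_succ] at h0 ⊢
    linear_combination h0
  have hz1 : z ≠ 1 := by
    intro e
    rw [hz, QuaternionGroup.one_def] at e
    injection e with e
    rw [ZMod.natCast_eq_zero_iff] at e
    have := Nat.le_of_dvd (by positivity) e
    have : 0 < 2 ^ (k + 1) := by positivity
    omega
  have hzz : z * z = 1 := by
    rw [hz, QuaternionGroup.a_mul_a, ← Nat.cast_add, ← two_mul, ZMod.natCast_self]; rfl
  have hfpf : ∀ x, x ≠ 1 → ∀ v ∈ N, ε x * v * (ε x)⁻¹ = v → v = 1 := fun x hx v hv e => by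
    refine CfsgLib.Coprime.frob_kernel_inter (H := H) (hNK ▸ hv) ?_
    exact CfsgLib.Coprime.frob_mem_of_commute hF (hεH x) (fun e' => hx (hε (e'.trans (map_one ε).symm)))
      (mul_inv_eq_iff_eq_mul.1 e)
  let c : QuaternionGroup (2 ^ (k + 1)) →* MulAut N := (MulAut.conjNormal).comp ε
  have hinv : ∀ v : N, c z v = v⁻¹ := fun v => congrFun (MonoidHom.FixedPointFree.coe_eq_inv_of_involutive
    (φ := (c z).toMonoidHom) (fun w hw => Subtype.ext (hfpf z hz1 w w.2 (congrArg Subtype.val hw)))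
    (fun w => by
      show c z (c z w) = w
      rw [← MulAut.mul_apply, ← map_mul, hzz, map_one]; rfl)) v
  have hcomm : ∀ v w : N, v * w = w * v := fun v w => by
    have h := map_mul (c z) v w
    rw [hinv, hinv, hinv, mul_inv_rev] at h
    exact inv_injective (by rw [mul_inv_rev, mul_inv_rev]; exact h)
  letI : CommGroup N := { (inferInstance : Group N) with mul_comm := hcomm }
  have hodd : Odd (Nat.card N) := by
    have h2H : 2 ∣ Nat.card H := by
      have : orderOf (⟨ε z, hεH z⟩ : H) = 2 := by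
        rw [Subgroup.orderOf_mk]
        exact orderOf_eq_prime (by rw [← map_pow, pow_two, hzz, map_one]) fun e => hz1 (hε (e.trans (map_one ε).symm))
      exact this ▸ orderOf_dvd_natCard _
    rw [← Nat.coprime_two_right]
    refine Nat.Coprime.coprime_dvd_right h2H ?_
    have h := CfsgLib.Coprime.frob_coprime_card_index hF
    rw [hc.index_eq_card] at h
    first | exact h | exact h.symm
  have hsq := isSquare_card (Nat.card N) N rfl hodd (c q).toMonoidHom (c j).toMonoidHom
    (fun v => by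
      show c q (c q v) = v⁻¹
      rw [← MulAut.mul_apply, ← map_mul, hqq, hinv])
    (fun v => by
      show c j (c j v) = v⁻¹
      rw [← MulAut.mul_apply, ← map_mul, hjj, hinv])
    (fun v => by
      show c j (c q v) = (c q (c j v))⁻¹
      rw [← hinv, ← MulAut.mul_apply, ← map_mul, ← MulAut.mul_apply, ← map_mul, hjq]
      simp only [map_mul, MulAut.mul_apply])
  rw [← hNK]
  exact ⟨hodd, hsq⟩

end Cfsg.Agent.S4296
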