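import Cfsg.Statements.S4297
import Cfsg.Agent.Lib.PGroup.ComplementCriteria

set_option autoImplicit false
open Cfsg

namespace Cfsg.Agent.S4297

/-- For every n ≥ 2 the dicyclic group of order 4n (generated by an element a of order 2n and an element x with x² = aⁿ and x a x⁻¹ = a⁻¹) occurs as a Frobenius complement of some finite Frobenius group. -/
theorem result (n : ℕ) (hn : 2 ≤ n) :
    ∃ (L : Type) (_ : Group L) (_ : Finite L) (H : Subgroup L), Cfsg.IsFrobeniusComplement H ∧ Nonempty (H ≃* QuaternionGroup n) := by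
  haveI : NeZero n := ⟨by omega⟩
  let f : Multiplicative (ZMod (2 * n)) →* QuaternionGroup n :=
    { toFun := fun i => QuaternionGroup.a i.toAdd
      map_one' := rfl
      map_mul' := fun _ _ => rfl }
  haveI : Nontrivial f.range := by
    haveI : Fact (1 < 2 * n) := ⟨by omega⟩
    refine ⟨⟨1, ⟨QuaternionGroup.a 1, ⟨Multiplicative.ofAdd 1, rfl⟩⟩, ?_⟩⟩
    intro e
    have h1 : (QuaternionGroup.a 0 : QuaternionGroup n) = QuaternionGroup.a 1 := congrArg Subtype.val e
    exact one_ne_zero (QuaternionGroup.a.inj h1).symm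
  haveI : IsCyclic f.range := isCyclic_of_surjective f.rangeRestrict f.rangeRestrict_surjective
  haveI : Nontrivial (QuaternionGroup n) := (Subtype.val_injective (p := (· ∈ f.range))).nontrivial
  obtain ⟨L, i₁, i₂, H, hH, ⟨e⟩⟩ := CfsgLib.PGroup.Compl.occurs_of_meets f.range
    CfsgLib.PGroup.Compl.occurs_of_isCyclic fun x hx => by
      rcases x with i | i
      · exact ⟨1, one_dvd _, by rw [pow_one]; exact ⟨Multiplicative.ofAdd i, rfl⟩,
          by rwa [pow_one]⟩
      · refine ⟨2, ?_, ?_, fun h => ?_⟩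
        · rw [QuaternionGroup.orderOf_xa]
          norm_num
        · rw [pow_two, QuaternionGroup.xa_mul_xa]
          exact ⟨Multiplicative.ofAdd _, rfl⟩
        · have h4 := orderOf_dvd_of_pow_eq_one h
          rw [QuaternionGroup.orderOf_xa] at h4
          norm_num at h4
  exact ⟨L, i₁, i₂, H, hH, ⟨e.symm⟩⟩

end Cfsg.Agent.S4297
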