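import Cfsg.Statements.S4298
import Cfsg.Agent.Lib.PGroup.ComplementCriteria

set_option autoImplicit false
open Cfsg

namespace Cfsg.Agent.S4298

open Matrix

/-- The top left entries of an embedding of `SL(2,3)` in `SL(2,7)`. -/
private def tbl : List ℕ :=
  [0, 0, 0, 0, 0, 0, 0, 0, 0, 0, 0, 0, 0, 0, 0, 0, 5, 2, 0, 0, 0, 0, 5, 2, 0, 0, 0, 0, 1, 0, 0, 0,
   0, 0, 6, 0, 0, 0, 0, 0, 0, 4, 3, 0, 0, 0, 6, 0, 3, 0, 0, 0, 0, 5, 0, 0, 6, 0, 0, 1, 0, 0, 0, 0,
   0, 1, 0, 2, 0, 4, 0, 0, 0, 0, 0, 4, 0, 0, 0, 3, 0]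

private def code (g : SpecialLinearGroup (Fin 2) (ZMod 3)) : ℕ :=
  27 * (g.1 0 0).val + 9 * (g.1 0 1).val + 3 * (g.1 1 0).val + (g.1 1 1).val

private def entry (g : SpecialLinearGroup (Fin 2) (ZMod 3)) : ZMod 7 := (tbl.getD (code g) 0 : ℕ)

private theorem sum_entry : ∀ x h : SpecialLinearGroup (Fin 2) (ZMod 3), x ≠ 1 →
    x ^ 12 = 1 ∧ ∑ i ∈ Finset.range 12, entry (x ^ i * h) = 0 := by
  decide +kernel

private theorem entry_one : entry 1 ≠ 0 := by decide +kernel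

private theorem isKernel_entry : CfsgLib.PGroup.Compl.IsKernel entry := by
  haveI : Fact (Nat.Prime 7) := ⟨by norm_num⟩
  intro x hx h
  obtain ⟨h12, hs⟩ := sum_entry x h hx
  obtain ⟨k, hk⟩ := orderOf_dvd_of_pow_eq_one h12
  have hshift : ∀ j i : ℕ, entry (x ^ (orderOf x * j + i) * h) = entry (x ^ i * h) := fun j i => by
    rw [pow_add, pow_mul, pow_orderOf_eq_one, one_pow, one_mul]
  have key : ∀ j : ℕ, ∑ i ∈ Finset.range (orderOf x * j), entry (x ^ i * h) =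
      (j : ZMod 7) * ∑ i ∈ Finset.range (orderOf x), entry (x ^ i * h) := by
    intro j
    induction j with
    | zero => simp
    | succ j ih =>
      rw [Nat.mul_succ, Finset.sum_range_add, ih, Nat.cast_add, Nat.cast_one, add_mul, one_mul,
        Finset.sum_congr rfl fun i _ => hshift j i]
  rw [hk, key] at hs
  refine (mul_eq_zero.1 hs).resolve_left fun h7 => ?_
  rw [ZMod.natCast_eq_zero_iff] at h7
  have h84 : 7 ∣ 12 := hk ▸ h7.trans (dvd_mul_left k (orderOf x))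
  norm_num at h84

/-- The group SL(2,3) of order 24 (the binary tetrahedral group) occurs as a Frobenius complement of some finite Frobenius group. -/
theorem result :
    ∃ (L : Type) (_ : Group L) (_ : Finite L) (H : Subgroup L), Cfsg.IsFrobeniusComplement H ∧ Nonempty (H ≃* Matrix.SpecialLinearGroup (Fin 2) (ZMod 3)) := by
  haveI : Fact (Nat.Prime 7) := ⟨by norm_num⟩
  haveI : Nontrivial (Matrix.SpecialLinearGroup (Fin 2) (ZMod 3)) :=
    ⟨⟨1, ⟨!![1, 1; 0, 1], by decide⟩, fun e =>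
      absurd (congrArg (fun g : Matrix.SpecialLinearGroup (Fin 2) (ZMod 3) => g.1 0 1) e)
        (by decide)⟩⟩
  obtain ⟨L, i₁, i₂, H, hH, ⟨e⟩⟩ := CfsgLib.PGroup.Compl.occurs_of_modKernel
    (Matrix.SpecialLinearGroup (Fin 2) (ZMod 3)) 7 (by rw [Nat.card_eq_fintype_card]; decide +kernel)
    entry isKernel_entry (fun h => absurd (congrFun h 1) entry_one)
  exact ⟨L, i₁, i₂, H, hH, ⟨e.symm⟩⟩

end Cfsg.Agent.S4298
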