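import Cfsg.Statements.S4300
import Mathlib.GroupTheory.GroupAction.Primitive
import Mathlib.GroupTheory.Subgroup.Simple

set_option autoImplicit false
set_option linter.style.haveILetI false
open Cfsg

namespace Cfsg.Agent.S4300

/-- Let G act faithfully and primitively on a set X, and suppose the stabilizer of some point is a simple group. Then either G is simple, or G has a normal subgroup, neither trivial nor the whole group, that acts regularly on X (transitively with trivial point stabilizers). -/
theorem result {G : Type*} [Group G] {X : Type*} [MulAction G X] [FaithfulSMul G X]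
    (hprim : MulAction.IsPreprimitive G X) (x : X) (hsimple : IsSimpleGroup (MulAction.stabilizer G x)) :
    IsSimpleGroup G ∨ ∃ N : Subgroup G, N.Normal ∧ N ≠ ⊥ ∧ N ≠ ⊤ ∧
      MulAction.IsPretransitive N X ∧ ∀ y : X, MulAction.stabilizer N y = ⊥ := by
  haveI := hprim
  by_cases hG : IsSimpleGroup G
  · exact Or.inl hG
  haveI := hsimple
  haveI : Nontrivial G := by
    haveI := hsimple.toNontrivial
    exact (MulAction.stabilizer G x).subtype_injective.nontrivial
  obtain ⟨N, hN, hN0, hN1⟩ : ∃ N : Subgroup G, N.Normal ∧ N ≠ ⊥ ∧ N ≠ ⊤ := by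
    by_contra h
    push Not at h
    exact hG ⟨fun N hN => or_iff_not_imp_left.2 fun h0 => h N hN h0⟩
  haveI := hN
  haveI htr : MulAction.IsPretransitive N X := by
    refine MulAction.IsQuasiPreprimitive.isPretransitive_of_normal (G := G) fun e => hN0 ?_
    refine (Subgroup.eq_bot_iff_forall _).2 fun m hm => FaithfulSMul.eq_of_smul_eq_smul (α := X) fun ω => ?_
    rw [one_smul]
    exact (Set.eq_univ_iff_forall.1 e ω) ⟨m, hm⟩
  refine Or.inr ⟨N, hN, hN0, hN1, htr, ?_⟩
  have hx : MulAction.stabilizer N x = ⊥ := by
    rcases IsSimpleGroup.eq_bot_or_eq_top_of_normal (N.subgroupOf (MulAction.stabilizer G x))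
        Subgroup.normal_subgroupOf with h | h
    · refine (Subgroup.eq_bot_iff_forall _).2 fun n hn => Subtype.ext ?_
      have h2 : (⟨(n : G), MulAction.mem_stabilizer_iff.1 hn⟩ : MulAction.stabilizer G x) ∈
          N.subgroupOf (MulAction.stabilizer G x) := n.2
      rw [h, Subgroup.mem_bot] at h2
      exact congrArg (fun z : MulAction.stabilizer G x => (z : G)) h2
    · refine absurd (top_le_iff.1 fun g _ => ?_) hN1
      obtain ⟨n, hn⟩ := MulAction.exists_smul_eq N x (g • x)
      have h1 : (n : G)⁻¹ * g ∈ MulAction.stabilizer G x := by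
        rw [MulAction.mem_stabilizer_iff, mul_smul, ← hn]
        exact inv_smul_smul (n : G) x
      have h2 := (Subgroup.subgroupOf_eq_top.1 h) h1
      have := N.mul_mem n.2 h2
      rwa [mul_inv_cancel_left] at this
  intro y
  obtain ⟨n, rfl⟩ := MulAction.exists_smul_eq N x y
  rw [MulAction.stabilizer_smul_eq_stabilizer_map_conj, hx, Subgroup.map_bot]

end Cfsg.Agent.S4300
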