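import Cfsg.Statements.S4301
-- import your own Cfsg.Agent.* helpers here

set_option autoImplicit false
open Cfsg

namespace Cfsg.Agent.S4301

/-- One-point extension of a multiply transitive group. Let X be a set and G a group of permutations of Option X (the set X with one extra point ∗ = none) all of whose elements fix ∗, such that G is k-transitive on the points of X for some k ≥ 2, X having at least k points. Suppose a permutation h of Option X and an element g of G satisfy: h interchanges ∗ with a point x of X and fixes a point y of X; g interchanges x and y; (g h)³ and h² lie in G; and for every f in G fixing x, the product h f h lies in G and fixes x. Then an element of the group generated by G and h fixes ∗ exactly when it lies in G, and that group acts (k+1)-transitively on Option X. -/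
theorem result {X : Type*} (G : Subgroup (Equiv.Perm (Option X))) (hfix : ∀ f ∈ G, f none = none)
    (k : ℕ) (hk : 2 ≤ k) (hkX : Nonempty (Fin k ↪ X))
    (htrans : ∀ a b : Fin k ↪ X, ∃ f ∈ G, ∀ i, f (some (a i)) = some (b i))
    (h g : Equiv.Perm (Option X)) (hg : g ∈ G) (x y : X)
    (h1 : h none = some x) (h2 : h (some x) = none) (h3 : h (some y) = some y)
    (h4 : g (some x) = some y) (h5 : g (some y) = some x)
    (h6 : (g * h) ^ 3 ∈ G) (h7 : h ^ 2 ∈ G)
    (h8 : ∀ f ∈ G, f (some x) = some x → h * f * h ∈ G ∧ (h * f * h) (some x) = some x) :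
    (∀ f ∈ Subgroup.closure ((G : Set (Equiv.Perm (Option X))) ∪ {h}), f none = none ↔ f ∈ G) ∧
      MulAction.IsMultiplyPretransitive (Subgroup.closure ((G : Set (Equiv.Perm (Option X))) ∪ {h})) (Option X) (k + 1) := by
  classical
  set Gs : Subgroup (Equiv.Perm (Option X)) := Subgroup.closure ((G : Set (Equiv.Perm (Option X))) ∪ {h})
  obtain ⟨e⟩ := hkX
  let i0 : Fin k := ⟨0, by omega⟩
  let i1 : Fin k := ⟨1, by omega⟩
  have hi : i1 ≠ i0 := by simp [i0, i1]
  have emb1 : ∀ z : X, ∃ a : Fin k ↪ X, a i0 = z := fun z =>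
    ⟨e.trans (Equiv.swap (e i0) z).toEmbedding, by simp⟩
  have emb2 : ∀ z w : X, z ≠ w → ∃ a : Fin k ↪ X, a i0 = z ∧ a i1 = w := by
    intro z w hzw
    obtain ⟨a, ha⟩ := emb1 z
    refine ⟨a.trans (Equiv.swap (a i1) w).toEmbedding, ?_, by simp⟩
    simp only [Function.Embedding.trans_apply, Equiv.coe_toEmbedding, ha]
    refine Equiv.swap_apply_of_ne_of_ne ?_ hzw
    intro hc
    exact hi (a.injective (hc.symm.trans ha.symm))
  have htr1 : ∀ z w : X, ∃ f ∈ G, f (some z) = some w := by
    intro z w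
    obtain ⟨a, ha⟩ := emb1 z
    obtain ⟨b, hb⟩ := emb1 w
    obtain ⟨f, hf, hfab⟩ := htrans a b
    exact ⟨f, hf, by rw [← ha, ← hb]; exact hfab i0⟩
  -- the double coset decomposition of G
  have hdec : ∀ f ∈ G, f (some x) = some x ∨ ∃ a b, a ∈ G ∧ a (some x) = some x ∧
      b ∈ G ∧ b (some x) = some x ∧ f = a * g * b := by
    intro f hf
    by_cases hfx : f (some x) = some x
    · exact Or.inl hfx
    right
    have hxy : x ≠ y := by
      intro hc
      subst hc
      rw [h2] at h3
      exact Option.noConfusion rfl (heq_of_eq h3)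
    obtain ⟨z, hz⟩ : ∃ z, f (some x) = some z := by
      cases hc : f (some x) with
      | none =>
        exfalso
        have := f.injective (hc.trans (hfix f hf).symm)
        simp at this
      | some z => exact ⟨z, rfl⟩
    have hxz : x ≠ z := fun hc => hfx (hc ▸ hz)
    obtain ⟨u, hu0, hu1⟩ := emb2 x y hxy
    obtain ⟨v, hv0, hv1⟩ := emb2 x z hxz
    obtain ⟨a, ha, hauv⟩ := htrans u v
    have hax : a (some x) = some x := by have := hauv i0; rwa [hu0, hv0] at this
    have hay : a (some y) = some z := by have := hauv i1; rwa [hu1, hv1] at this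
    refine ⟨a, g⁻¹ * a⁻¹ * f, ha, hax, G.mul_mem (G.mul_mem (G.inv_mem hg) (G.inv_mem ha)) hf,
      ?_, by group⟩
    simp only [Equiv.Perm.mul_apply, hz]
    rw [← hay]
    simp only [Equiv.Perm.inv_def, Equiv.symm_apply_apply]
    rw [← h4, Equiv.symm_apply_apply]
  -- the set M = G ∪ G h G
  let M : Set (Equiv.Perm (Option X)) := {m | m ∈ G ∨ ∃ a ∈ G, ∃ b ∈ G, m = a * h * b}
  have hcfix : ((h ^ 2)⁻¹ : Equiv.Perm (Option X)) (some x) = some x := by
    rw [Equiv.Perm.inv_eq_iff_eq]
    simp [pow_two, h1, h2]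
  set c : Equiv.Perm (Option X) := (h ^ 2)⁻¹ with hc
  have hcG : c ∈ G := G.inv_mem h7
  have hch : h⁻¹ = c * h := by rw [hc]; group
  have hgh : h * g * h = g⁻¹ * ((g * h) ^ 3 * c) * h * g⁻¹ := by
    rw [hc]
    simp only [pow_succ, pow_zero, one_mul]
    group
  have hkey : ∀ f ∈ G, h * f * h ∈ M := by
    intro f hf
    rcases hdec f hf with hfx | ⟨a, b, ha, hax, hb, hbx, rfl⟩
    · exact Or.inl (h8 f hf hfx).1
    · right
      have e1 : h * (a * g * b) * h = (h * a * h) * (h⁻¹ * g * h⁻¹) * (h * b * h) := by group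
      have e2 : h⁻¹ * g * h⁻¹ = c * (h * g * h) * c := by rw [hc]; group
      refine ⟨(h * a * h) * (c * (g⁻¹ * ((g * h) ^ 3 * c))), ?_, g⁻¹ * (c * (h * b * h)), ?_, ?_⟩
      · exact G.mul_mem (h8 a ha hax).1
          (G.mul_mem hcG (G.mul_mem (G.inv_mem hg) (G.mul_mem h6 hcG)))
      · exact G.mul_mem (G.inv_mem hg) (G.mul_mem hcG (h8 b hb hbx).1)
      · rw [e1, e2, hgh]; group
  have hGM : ∀ f ∈ G, ∀ m ∈ M, f * m ∈ M ∧ m * f ∈ M := by
    rintro f hf m (hm | ⟨a, ha, b, hb, rfl⟩)
    · exact ⟨Or.inl (G.mul_mem hf hm), Or.inl (G.mul_mem hm hf)⟩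
    · exact ⟨Or.inr ⟨f * a, G.mul_mem hf ha, b, hb, by group⟩,
        Or.inr ⟨a, ha, b * f, G.mul_mem hb hf, by group⟩⟩
  let MS : Subgroup (Equiv.Perm (Option X)) :=
    { carrier := M
      one_mem' := Or.inl G.one_mem
      mul_mem' := by
        rintro u v (hu | ⟨a, ha, b, hb, rfl⟩) hv
        · exact (hGM u hu v hv).1
        · rcases hv with hv | ⟨a', ha', b', hb', rfl⟩
          · exact (hGM v hv (a * h * b) (Or.inr ⟨a, ha, b, hb, rfl⟩)).2
          · have h' := (hGM a ha _ (hkey (b * a') (G.mul_mem hb ha'))).1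
            have h'' := (hGM b' hb' _ h').2
            have e : a * h * b * (a' * h * b') = a * (h * (b * a') * h) * b' := by group
            rw [e]; exact h''
      inv_mem' := by
        rintro u (hu | ⟨a, ha, b, hb, rfl⟩)
        · exact Or.inl (G.inv_mem hu)
        · exact Or.inr ⟨b⁻¹ * c, G.mul_mem (G.inv_mem hb) hcG, a⁻¹, G.inv_mem ha,
            by rw [hc]; group⟩ }
  have hle : Gs ≤ MS := by
    refine (Subgroup.closure_le MS).2 ?_
    rintro u (hu | hu)
    · exact Or.inl hu
    · rw [Set.mem_singleton_iff] at hu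
      exact Or.inr ⟨1, G.one_mem, 1, G.one_mem, by simp [hu]⟩
  have hGle : G ≤ Gs := fun u hu => Subgroup.subset_closure (Or.inl hu)
  have hhle : h ∈ Gs := Subgroup.subset_closure (Or.inr rfl)
  refine ⟨?_, ?_⟩
  · intro f hf
    refine ⟨fun hfn => ?_, fun hfG => hfix f hfG⟩
    rcases hle hf with hfG | ⟨a, ha, b, hb, rfl⟩
    · exact hfG
    · exfalso
      simp only [Equiv.Perm.mul_apply, hfix b hb, h1] at hfn
      have := a.injective (hfn.trans (hfix a ha).symm)
      simp at this
  · -- normalise any tuple to one starting with none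
    have hnorm : ∀ a : Fin (k + 1) ↪ Option X, ∃ m ∈ Gs, ∃ a' : Fin k ↪ X,
        m (a 0) = none ∧ ∀ i : Fin k, m (a i.succ) = some (a' i) := by
      intro a
      obtain ⟨m, hm, hm0⟩ : ∃ m ∈ Gs, m (a 0) = none := by
        cases hz : a 0 with
        | none => exact ⟨1, Gs.one_mem, rfl⟩
        | some z =>
          obtain ⟨f, hf, hfz⟩ := htr1 z x
          exact ⟨h * f, Gs.mul_mem hhle (hGle hf), by simp [hfz, h2]⟩
      have hne : ∀ i : Fin k, ∃ z, m (a i.succ) = some z := by
        intro i
        cases hz : m (a i.succ) with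
        | none => exact absurd (a.injective (m.injective (hz.trans hm0.symm))) (Fin.succ_ne_zero i)
        | some z => exact ⟨z, rfl⟩
      choose a' ha' using hne
      refine ⟨m, hm, ⟨a', fun i j hij => ?_⟩, hm0, ha'⟩
      exact Fin.succ_injective _ (a.injective (m.injective
        ((ha' i).trans ((congrArg some hij).trans (ha' j).symm))))
    rw [MulAction.isMultiplyPretransitive_iff]
    intro a b
    obtain ⟨ma, hma, a', ha0, ha'⟩ := hnorm a
    obtain ⟨mb, hmb, b', hb0, hb'⟩ := hnorm b
    obtain ⟨f, hf, hfab⟩ := htrans a' b'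
    refine ⟨⟨mb⁻¹ * f * ma, Gs.mul_mem (Gs.mul_mem (Gs.inv_mem hmb) (hGle hf)) hma⟩, ?_⟩
    ext1 i
    show (mb⁻¹ * f * ma) (a i) = b i
    simp only [Equiv.Perm.mul_apply]
    rw [Equiv.Perm.inv_eq_iff_eq]
    cases i using Fin.cases with
    | zero => rw [ha0, hb0, hfix f hf]
    | succ i => rw [ha', hb', hfab]

end Cfsg.Agent.S4301
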