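import Cfsg.Statements.S4303
import Cfsg.Agent.Lib.PGroup.SylowNumber

set_option autoImplicit false
universe u
open Cfsg

namespace Cfsg.Agent.S4303

open CfsgLib.PGroup.SylowNum

private theorem aux (p : ℕ) [Fact p.Prime] : ∀ (k : ℕ) (G : Type u) [Group G] [Finite G],
    Nat.card G = k → ∃ l : List ℕ, l.prod = Nat.card (Sylow p G) ∧
      ∀ m ∈ l, (IsPrimePow m ∧ m % p = 1) ∨
        ∃ (S : Type u) (_ : Group S) (_ : Finite S), IsSimpleGroup S ∧ m = Nat.card (Sylow p S) := by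
  classical
  intro k
  induction k using Nat.strong_induction_on with
  | _ k ih =>
  intro G _ _ hk
  let P : Sylow p G := default
  have hsub : ∀ X : Subgroup G, X ≠ ⊤ → Nat.card X < k := fun X hX =>
    hk ▸ (Subgroup.card_le_card_group X).lt_of_ne fun h => hX (X.eq_top_of_card_eq h)
  have hquot : ∀ N : Subgroup G, N ≠ ⊥ → Nat.card (G ⧸ N) < k := fun N hN => by
    rw [← Subgroup.index_eq_card, ← hk, ← N.card_mul_index]
    exact lt_mul_of_one_lt_left (Nat.pos_of_ne_zero Subgroup.FiniteIndex.index_ne_zero)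
      ((Subgroup.one_lt_card_iff_ne_bot N).2 hN)
  have combine : ∀ a b : ℕ, Nat.card (Sylow p G) = a * b →
      (∃ l : List ℕ, l.prod = a ∧ ∀ m ∈ l, (IsPrimePow m ∧ m % p = 1) ∨
        ∃ (S : Type u) (_ : Group S) (_ : Finite S), IsSimpleGroup S ∧ m = Nat.card (Sylow p S)) →
      (∃ l : List ℕ, l.prod = b ∧ ∀ m ∈ l, (IsPrimePow m ∧ m % p = 1) ∨
        ∃ (S : Type u) (_ : Group S) (_ : Finite S), IsSimpleGroup S ∧ m = Nat.card (Sylow p S)) →
      ∃ l : List ℕ, l.prod = Nat.card (Sylow p G) ∧ ∀ m ∈ l, (IsPrimePow m ∧ m % p = 1) ∨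
        ∃ (S : Type u) (_ : Group S) (_ : Finite S), IsSimpleGroup S ∧ m = Nat.card (Sylow p S) := by
    rintro a b hab ⟨l₁, h₁, h₁'⟩ ⟨l₂, h₂, h₂'⟩
    exact ⟨l₁ ++ l₂, by rw [List.prod_append, h₁, h₂, hab],
      fun m hm => (List.mem_append.1 hm).elim (h₁' m) (h₂' m)⟩
  by_cases hPn : (P : Subgroup G).Normal
  · refine ⟨[], ?_, fun m hm => absurd hm List.not_mem_nil⟩
    rw [card_sylow_eq P, Subgroup.normalizer_eq_top_iff.2 hPn, Subgroup.index_top, List.prod_nil]
  have hnt : Nontrivial G := by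
    by_contra h
    rw [not_nontrivial_iff_subsingleton] at h
    exact hPn ⟨fun n hn g => by rwa [Subsingleton.elim (g * n * g⁻¹) n]⟩
  by_cases hs : IsSimpleGroup G
  · exact ⟨[Nat.card (Sylow p G)], List.prod_singleton, fun m hm =>
      Or.inr ⟨G, inferInstance, inferInstance, hs, List.mem_singleton.1 hm⟩⟩
  obtain ⟨N, hN, hNbot, hNtop⟩ : ∃ N : Subgroup G, N.Normal ∧ N ≠ ⊥ ∧ N ≠ ⊤ := by
    by_contra h
    push Not at h
    exact hs ⟨fun N hN => or_iff_not_imp_left.2 (h N hN)⟩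
  haveI := hN
  by_cases htop : (P : Subgroup G) ⊔ N = ⊤
  swap
  · exact combine _ _ (card_sylow_quotient_mul P N) (ih _ (hquot N hNbot) _ rfl)
      (ih _ (hsub _ htop) _ rfl)
  by_cases hQ : Subgroup.normalizer (((P : Subgroup G) ⊓ N : Subgroup G) : Set G) = ⊤
  swap
  · exact combine _ _ (card_sylow_inf_mul P N htop) (ih _ (hsub _ hNtop) _ rfl)
      (ih _ (hsub _ hQ) _ rfl)
  haveI hQn : ((P : Subgroup G) ⊓ N).Normal := Subgroup.normalizer_eq_top_iff.1 hQ
  by_cases hQbot : (P : Subgroup G) ⊓ N = ⊥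
  · have hcop : ¬ p ∣ Nat.card N := by
      intro hd
      obtain ⟨x, hx⟩ := exists_prime_orderOf_dvd_card' p hd
      have hxo : orderOf (x : G) = p := by rw [Subgroup.orderOf_coe, hx]
      have hpow : IsPGroup p (Subgroup.zpowers (x : G)) :=
        IsPGroup.of_card (n := 1) (by rw [Nat.card_zpowers, hxo, pow_one])
      obtain ⟨T, hT⟩ := hpow.exists_le_sylow
      obtain ⟨g, hg⟩ := MulAction.exists_smul_eq G T P
      have h1 : g * (x : G) * g⁻¹ ∈ (P : Subgroup G) := by
        rw [← hg]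
        exact ⟨x, hT (Subgroup.mem_zpowers _), rfl⟩
      have h2 : g * (x : G) * g⁻¹ ∈ (P : Subgroup G) ⊓ N := ⟨h1, hN.conj_mem _ x.2 g⟩
      rw [hQbot, Subgroup.mem_bot, conj_eq_one_iff] at h2
      rw [h2, orderOf_one] at hxo
      exact (Fact.out : p.Prime).ne_one hxo.symm
    obtain ⟨l, hl, hl'⟩ := exists_list_coprime P N htop hcop
    exact ⟨l, hl, fun m hm => Or.inl (hl' m hm)⟩
  · have hne : (P : Subgroup G) ⊔ ((P : Subgroup G) ⊓ N) ≠ ⊤ := by
      rw [sup_inf_self]
      intro e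
      exact hPn (by rw [e]; exact Subgroup.normal_of_characteristic ⊤)
    exact combine _ _ (card_sylow_quotient_mul P ((P : Subgroup G) ⊓ N))
      (ih _ (hquot _ hQbot) _ rfl) (ih _ (hsub _ hne) _ rfl)

/-- For a finite group `G` and a prime `p`, the number of Sylow `p`-subgroups of `G` is a product of natural numbers each of which is either a prime power congruent to 1 modulo `p` or the number of Sylow `p`-subgroups of some finite simple group. -/
theorem result {G : Type u} [Group G] [Finite G]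
    (p : ℕ) [Fact p.Prime] :
    ∃ l : List ℕ, l.prod = Nat.card (Sylow p G) ∧
      ∀ m ∈ l, (IsPrimePow m ∧ m % p = 1) ∨
        ∃ (S : Type u) (_ : Group S) (_ : Finite S), IsSimpleGroup S ∧ m = Nat.card (Sylow p S) := by
  exact aux p _ G rfl

end Cfsg.Agent.S4303
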