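import Cfsg.Statements.S4305
import Cfsg.Agent.Lib.PGroup.FpfDerived
import Cfsg.Agent.Lib.PGroup.FixedPointFree
import Mathlib.GroupTheory.Perm.Fin
import Mathlib.GroupTheory.Perm.Closure
import Mathlib.GroupTheory.SemidirectProduct
-- import your own Cfsg.Agent.* helpers here

set_option autoImplicit false
open Cfsg

namespace Cfsg.Agent.S4305

/-- Let the symmetric group of degree 3 act by automorphisms on a finite solvable group `G` of order prime to 6, so that only the identity of `G` is fixed by all of it. Then the derived subgroup of `G` is nilpotent. -/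
theorem result {G : Type*} [Group G] [Finite G] [Group.IsSolvable G]
    [MulDistribMulAction (Equiv.Perm (Fin 3)) G] (hcop : (Nat.card G).Coprime 6)
    (hfpf : ∀ g : G, (∀ a : Equiv.Perm (Fin 3), a • g = g) → g = 1) :
    Group.IsNilpotent ↥(commutator G) := by
  let φ := MulDistribMulAction.toMulAut (Equiv.Perm (Fin 3)) G
  let Γ := G ⋊[φ] Equiv.Perm (Fin 3)
  haveI : Finite Γ := Finite.of_equiv _ SemidirectProduct.equivProd.symm
  let K : Subgroup Γ := (SemidirectProduct.inl : G →* Γ).range
  have hKn : K.Normal := by
    show (SemidirectProduct.inl : G →* Γ).range.Normal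
    rw [SemidirectProduct.range_inl_eq_ker_rightHom]
    infer_instance
  have hsol : Group.IsSolvable K :=
    Group.isSolvable_of_surjective (f := (SemidirectProduct.inl : G →* Γ).rangeRestrict)
      (MonoidHom.rangeRestrict_surjective _)
  let c : Equiv.Perm (Fin 3) := finRotate 3
  let τ : Equiv.Perm (Fin 3) := Equiv.swap 0 1
  have hS : Subgroup.closure ({c, τ} : Set (Equiv.Perm (Fin 3))) = ⊤ := by
    rw [← Equiv.Perm.closure_cycle_adjacent_swap (isCycle_finRotate : (finRotate 3).IsCycle)
      support_finRotate 0]
    congr 1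
  have h : CfsgLib.PGroup.S3Free Γ K := by
    refine ⟨SemidirectProduct.inr c, SemidirectProduct.inr τ, ?_, ?_, ?_, ?_, ?_⟩
    · rw [← map_pow, show c ^ 3 = 1 by decide, map_one]
    · rw [← map_pow, show τ ^ 2 = 1 by decide, map_one]
    · rw [← map_inv, ← map_mul, ← map_mul, show τ * c * τ⁻¹ = c ^ 2 by decide, map_pow]
    · refine hcop.coprime_dvd_left ?_
      rw [← Nat.card_congr ((SemidirectProduct.inl : G →* Γ).ofInjective SemidirectProduct.inl_injective).toEquiv]
    · rw [eq_bot_iff]
      rintro x ⟨⟨g, rfl⟩, hx⟩
      have hmap : Subgroup.closure ({SemidirectProduct.inr c, SemidirectProduct.inr τ} : Set Γ) =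
          (⊤ : Subgroup (Equiv.Perm (Fin 3))).map SemidirectProduct.inr := by
        rw [← hS, MonoidHom.map_closure, Set.image_pair]
      rw [hmap] at hx
      have hg : g = 1 := hfpf g fun a => by
        have h1 := Subgroup.mem_centralizer_iff.1 hx _ ⟨a, Subgroup.mem_top a, rfl⟩
        apply SemidirectProduct.inl_injective (φ := φ)
        rw [show a • g = φ a g from rfl, SemidirectProduct.inl_aut, h1, map_inv, mul_inv_cancel_right]
      rw [hg, map_one]
      exact Subgroup.one_mem _
  have hd := CfsgLib.PGroup.derived_nilpotent_of_S3 Γ K hKn hsol h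
  have e : (commutator G).map (SemidirectProduct.inl : G →* Γ) = ⁅K, K⁆ := by
    rw [commutator_def, Subgroup.map_commutator, ← MonoidHom.range_eq_map]
  rw [← e] at hd
  exact Group.nilpotent_of_mulEquiv
    ((commutator G).equivMapOfInjective (SemidirectProduct.inl : G →* Γ) SemidirectProduct.inl_injective).symm

end Cfsg.Agent.S4305
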