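import Cfsg.Statements.S4306
import Cfsg.Agent.Lib.PGroup.PqBase
import Mathlib.Algebra.Group.Shrink

set_option autoImplicit false
open Cfsg

namespace Cfsg.Agent.S4306

/-- Let `A` be a non-abelian group of order `pq` with `p, q` distinct primes, acting by automorphisms on a finite solvable group `G` of order prime to `pq`, so that only the identity of `G` is fixed by all of `A`. Then `G` has Fitting height at most 2: there is a normal nilpotent subgroup `F` of `G` with `G/F` nilpotent. -/
theorem result {G A : Type*} [Group G] [Finite G]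
    [Group.IsSolvable G] [Group A] [Finite A] [MulDistribMulAction A G] (p q : ℕ) (hp : p.Prime) (hq : q.Prime) (hpq : p ≠ q)
    (hA : Nat.card A = p * q) (hAna : ¬ IsMulCommutative A) (hcop : (Nat.card G).Coprime (p * q))
    (hfpf : ∀ g : G, (∀ a : A, a • g = g) → g = 1) :
    ∃ F : Subgroup G, ∃ hF : F.Normal, Group.IsNilpotent ↥F ∧ Group.IsNilpotent (G ⧸ F) := by
  classical
  haveI : Small.{u_1} A := inferInstance
  let e : Shrink.{u_1} A ≃* A := Shrink.mulEquiv
  haveI : Finite (Shrink.{u_1} A) := Finite.of_equiv A e.symm.toEquiv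
  have hna : ¬ IsMulCommutative (Shrink.{u_1} A) := fun h => hAna ⟨⟨fun a b => by
    apply e.symm.injective
    rw [map_mul, map_mul, h.is_comm.comm]⟩⟩
  have hcard : Nat.card (Shrink.{u_1} A) = p * q := (Nat.card_congr e.toEquiv).trans hA
  obtain ⟨p', q', Q, hF⟩ : ∃ p' q' : ℕ, ∃ Q, CfsgLib.PGroup.PqFrame (A := Shrink.{u_1} A) p' q' Q := by
    rcases lt_or_gt_of_ne hpq with h | h
    · exact ⟨p, q, CfsgLib.PGroup.exists_pqFrame hp hq hcard hna h⟩
    · exact ⟨q, p, CfsgLib.PGroup.exists_pqFrame hq hp (hcard.trans (mul_comm p q)) hna h⟩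
  have hsolv : Group.IsSolvable (Shrink.{u_1} A) := by
    haveI := hF.normal
    haveI : Fact q'.Prime := ⟨hF.hq⟩
    haveI : Fact p'.Prime := ⟨hF.hp⟩
    haveI : IsCyclic Q := isCyclic_of_prime_card hF.cardQ
    haveI : IsCyclic (Shrink.{u_1} A ⧸ Q) := isCyclic_of_prime_card (p := p') (by
      have h := Q.card_mul_index
      rw [hF.cardQ, hF.card, mul_comm p' q'] at h
      exact mul_left_cancel₀ hF.hq.ne_zero h)
    haveI : Group.IsSolvable Q := CfsgLib.Coprime.isSolvable_of_isMulCommutative inferInstance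
    haveI : Group.IsSolvable (Shrink.{u_1} A ⧸ Q) := Group.isSolvable_of_comm fun a b => mul_comm' a b
    exact Group.isSolvable_of_ker_le_range Q.subtype (QuotientGroup.mk' Q)
      (by rw [QuotientGroup.ker_mk', Subgroup.range_subtype])
  exact CfsgLib.PGroup.isNilpotent_quotient_fitting_of_action hsolv (CfsgLib.PGroup.pq_base hF)
    inferInstance ((MulDistribMulAction.toMulAut A G).comp e.toMonoidHom)
    (by rw [hcard]; exact hcop.symm)
    (fun g hg => hfpf g fun a => by
      obtain ⟨a', rfl⟩ := e.surjective a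
      exact hg a')

end Cfsg.Agent.S4306
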