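import Cfsg.Statements.S4314
-- import your own Cfsg.Agent.* helpers here
import Mathlib

set_option autoImplicit false
open Cfsg

namespace Cfsg.Agent.S4314

open Subgroup

universe u
variable {G : Type u} [Group G] [Finite G]

/-- Every conjugacy class has size `1` or a prime. -/
def ClassPrime (G : Type u) [Group G] : Prop :=
  ∀ x : G, (centralizer ({x} : Set G)).index = 1 ∨ ((centralizer ({x} : Set G)).index).Prime

/-- Every non-trivial class size is at least `q`. -/
def ClassGE (q : ℕ) (G : Type u) [Group G] : Prop :=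
  ∀ x : G, (centralizer ({x} : Set G)).index ≠ 1 → q ≤ (centralizer ({x} : Set G)).index

theorem mem_cen {x y : G} : y ∈ centralizer ({x} : Set G) ↔ y * x = x * y :=
  mem_centralizer_singleton_iff

omit [Finite G] in
theorem central_of_index_one {x : G} (h : (centralizer ({x} : Set G)).index = 1) :
    x ∈ Subgroup.center G := by
  rw [Subgroup.index_eq_one] at h
  exact Subgroup.mem_center_iff.2 fun g => mem_centralizer_singleton_iff.1 (h ▸ mem_top g)

/-- A subgroup of least prime class index is normal. -/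
theorem normal_of_least {q : ℕ} [hq : Fact q.Prime] (h : ClassPrime G) (hge : ClassGE q G)
    {C : Subgroup G} (hC : C.index = q) : C.Normal := by
  set K := C.normalCore
  set π := QuotientGroup.mk' K with hπdef
  have hπ : Function.Surjective π := QuotientGroup.mk'_surjective K
  have hKC : π.ker ≤ C := by rw [hπdef, QuotientGroup.ker_mk']; exact C.normalCore_le
  set Cb := C.map π
  have hCb : Cb.index = q := by rw [Subgroup.index_map_eq C hπ hKC, hC]
  have hdiv : Nat.card (G ⧸ K) ∣ q.factorial := by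
    letI : Fintype (G ⧸ C) := Fintype.ofFinite _
    have h1 : Nat.card (MulAction.toPermHom G (G ⧸ C)).range ∣ Nat.card (Equiv.Perm (G ⧸ C)) :=
      Subgroup.card_subgroup_dvd_card _
    rw [← Subgroup.index_ker, ← Subgroup.normalCore_eq_ker, Nat.card_perm,
      ← Subgroup.index_eq_card, hC] at h1
    rwa [← Subgroup.index_eq_card]
  have hq2 : ¬ q * q ∣ q.factorial := by
    intro hd
    obtain ⟨m, hm⟩ : ∃ m, q = m + 1 := ⟨q - 1, by have := hq.out.pos; omega⟩
    have hd' : q * q ∣ q * m.factorial := by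
      have h2 := hd
      conv at h2 => rhs; rw [hm, Nat.factorial_succ, ← hm]
      exact h2
    have := (Nat.Prime.dvd_factorial hq.out).1 (Nat.dvd_of_mul_dvd_mul_left hq.out.pos hd')
    omega
  have hqd : q ∣ Nat.card (G ⧸ K) := hCb ▸ Subgroup.index_dvd_card Cb
  obtain ⟨σ, hσ⟩ := exists_prime_orderOf_dvd_card' q hqd
  have hmul := Cb.card_mul_index
  rw [hCb] at hmul
  have hqCb : ¬ q ∣ Nat.card Cb := fun hd => hq2 ((Nat.mul_dvd_mul_right hd q).trans
    (hmul.symm ▸ hdiv))
  have hcompl : Cb.IsComplement' (zpowers σ) := Subgroup.isComplement'_of_coprime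
    (by rw [Nat.card_zpowers, hσ, hmul])
    (by rw [Nat.card_zpowers, hσ]; exact ((hq.out.coprime_iff_not_dvd).2 hqCb).symm)
  -- elements of `Cb` commuting with `σ` lie in the core
  have htriv : ∀ c ∈ Cb, c * σ = σ * c → c = 1 := by
    intro c hc hcomm
    obtain ⟨c₀, hc₀, rfl⟩ := hc
    suffices c₀ ∈ K by rwa [hπdef, QuotientGroup.mk'_apply, QuotientGroup.eq_one_iff]
    intro g
    show g * c₀ * g⁻¹ ∈ C
    obtain ⟨⟨⟨a, ha⟩, b, hb⟩, hab⟩ := (Subgroup.IsComplement.existsUnique hcompl (π g)).exists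
    simp only at hab
    obtain ⟨i, rfl⟩ := mem_zpowers_iff.1 hb
    have hC' : π (g * c₀ * g⁻¹) ∈ Cb := by
      rw [map_mul, map_mul, map_inv, ← hab]
      have hcomm' : σ ^ i * π c₀ = π c₀ * σ ^ i :=
        ((show Commute σ (π c₀) from hcomm.symm).zpow_left i).eq
      rw [show a * σ ^ i * π c₀ * (a * σ ^ i)⁻¹ = a * (σ ^ i * π c₀) * (σ ^ i)⁻¹ * a⁻¹ by group,
        hcomm', show a * (π c₀ * σ ^ i) * (σ ^ i)⁻¹ * a⁻¹ = a * π c₀ * a⁻¹ by group]
      exact Cb.mul_mem (Cb.mul_mem ha (Subgroup.mem_map_of_mem π hc₀)) (Cb.inv_mem ha)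
    obtain ⟨c₁, hc₁, he⟩ := hC'
    have : c₁⁻¹ * (g * c₀ * g⁻¹) ∈ π.ker := by
      rw [MonoidHom.mem_ker, map_mul, map_inv, he, inv_mul_cancel]
    simpa using C.mul_mem hc₁ (hKC this)
  have hcenσ : Nat.card (centralizer ({σ} : Set (G ⧸ K))) ≤ q := by
    rw [← hσ, ← Nat.card_zpowers]
    refine Subgroup.card_le_of_le fun c hc => ?_
    obtain ⟨⟨a, b⟩, hab⟩ := (Subgroup.IsComplement.existsUnique hcompl c).exists
    simp only at hab
    have hb : (b : G ⧸ K) * σ = σ * b := by
      obtain ⟨i, hi⟩ := mem_zpowers_iff.1 b.2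
      rw [← hi]; exact (Commute.self_zpow σ i).eq.symm
    have ha : (a : G ⧸ K) * σ = σ * a := by
      have hc' := mem_centralizer_singleton_iff.1 hc
      rw [← hab] at hc'
      calc (a : G ⧸ K) * σ = a * (σ * b) * (b : G ⧸ K)⁻¹ := by group
        _ = a * b * σ * (b : G ⧸ K)⁻¹ := by rw [← hb]; group
        _ = σ * (a * b) * (b : G ⧸ K)⁻¹ := by rw [hc']
        _ = σ * a := by group
    rw [← hab, htriv a a.2 ha, one_mul]
    exact b.2
  -- the class size of `σ` is `1` or `q`
  obtain ⟨g, hg⟩ := hπ σ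
  have hdσ : (centralizer ({σ} : Set (G ⧸ K))).index ∣ (centralizer ({g} : Set G)).index := by
    refine (Subgroup.index_dvd_of_le ?_).trans (Subgroup.index_map_dvd _ hπ)
    rintro _ ⟨y, hy, rfl⟩
    rw [mem_centralizer_singleton_iff, ← hg, ← map_mul, ← map_mul,
      mem_centralizer_singleton_iff.1 hy]
  have hidx : (centralizer ({σ} : Set (G ⧸ K))).index = 1 := by
    have hm := (centralizer ({σ} : Set (G ⧸ K))).card_mul_index
    by_contra hne
    rcases h g with h1 | h1
    · exact hne (Nat.dvd_one.1 (h1 ▸ hdσ))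
    have he : (centralizer ({σ} : Set (G ⧸ K))).index = (centralizer ({g} : Set G)).index :=
      ((Nat.dvd_prime h1).1 hdσ).resolve_left hne
    have hr : q ≤ (centralizer ({σ} : Set (G ⧸ K))).index := he ▸ hge g h1.ne_one
    have hrd : (centralizer ({σ} : Set (G ⧸ K))).index ∣ q.factorial :=
      (Subgroup.index_dvd_card _).trans hdiv
    have hrq : (centralizer ({σ} : Set (G ⧸ K))).index = q :=
      le_antisymm ((Nat.Prime.dvd_factorial (he ▸ h1)).1 hrd) hr
    rw [hrq] at hm
    have hqz : q ∣ Nat.card (centralizer ({σ} : Set (G ⧸ K))) := by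
      rw [← hσ]
      exact Subgroup.orderOf_dvd_natCard _ (mem_centralizer_singleton_iff.2 rfl)
    exact hq2 ((Nat.mul_dvd_mul_right hqz q).trans (hm.symm ▸ hdiv))
  have hK : K.index = q := by
    refine le_antisymm ?_ (Nat.le_of_dvd (Nat.pos_of_ne_zero index_ne_zero_of_finite)
      (by rw [Subgroup.index_eq_card]; exact hqd))
    rw [Subgroup.index_eq_card, ← (centralizer ({σ} : Set (G ⧸ K))).card_mul_index, hidx, mul_one]
    exact hcenσ
  have hKe : K = C := by
    refine le_antisymm C.normalCore_le (Subgroup.relIndex_eq_one.1 ?_)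
    have := Subgroup.relIndex_mul_index C.normalCore_le
    rw [hC, hK] at this
    exact Nat.eq_of_mul_eq_mul_right hq.out.pos (this.trans (one_mul q).symm)
  rw [← hKe]
  infer_instance

theorem sup_zpowers_eq_top {q : ℕ} [hq : Fact q.Prime] {C : Subgroup G} (hC : C.index = q)
    {h : G} (hh : h ∉ C) : C ⊔ zpowers h = ⊤ := by
  have hd : (C ⊔ zpowers h).index ∣ q := hC ▸ Subgroup.index_dvd_of_le le_sup_left
  rcases (Nat.dvd_prime hq.out).1 hd with h1 | h1
  · exact Subgroup.index_eq_one.1 h1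
  · exfalso
    have := Subgroup.relIndex_mul_index (le_sup_left : C ≤ C ⊔ zpowers h)
    rw [h1, hC] at this
    exact hh (Subgroup.relIndex_eq_one.1
      (Nat.eq_of_mul_eq_mul_right hq.out.pos (this.trans (one_mul q).symm))
      (Subgroup.mem_sup_right (mem_zpowers h)))

theorem relIndex_sup_normal (H A : Subgroup G) [A.Normal] :
    H.relIndex (H ⊔ A) = H.relIndex A := by
  have h1 := Subgroup.relIndex_mul_relIndex (⊥ : Subgroup G) H (H ⊔ A) bot_le le_sup_left
  have h2 := Subgroup.relIndex_mul_relIndex (⊥ : Subgroup G) A (H ⊔ A) bot_le le_sup_right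
  have h3 := Subgroup.relIndex_mul_relIndex (⊥ : Subgroup G) (H ⊓ A) H bot_le inf_le_left
  have h4 := Subgroup.relIndex_mul_relIndex (⊥ : Subgroup G) (H ⊓ A) A bot_le inf_le_right
  rw [Subgroup.relIndex_bot_left, Subgroup.relIndex_bot_left] at h1 h2 h3 h4
  rw [Subgroup.relIndex_sup_right] at h2
  rw [Subgroup.inf_relIndex_left] at h3
  rw [Subgroup.inf_relIndex_right] at h4
  refine Nat.eq_of_mul_eq_mul_left (Nat.card_pos (α := H)) ?_
  rw [h1, ← h2, ← h3, ← h4]
  ring

/-- Commutation with an element of least class size either gives the structure `G/Z` of order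
`s * q`, or all its commutators are central and killed by `q`. -/
theorem dichotomy {q : ℕ} [hq : Fact q.Prime] (h : ClassPrime G) (hge : ClassGE q G) {x : G}
    (hx : (centralizer ({x} : Set G)).index = q) :
    (∃ a b : ℕ, a.Prime ∧ b.Prime ∧ a ≠ b ∧ Nat.card (G ⧸ Subgroup.center G) = a * b ∧
      ¬ IsMulCommutative (G ⧸ Subgroup.center G)) ∨
    ∀ g : G, g * x * g⁻¹ * x⁻¹ ∈ Subgroup.center G ∧ (g * x * g⁻¹ * x⁻¹) ^ q = 1 := by
  set C := centralizer ({x} : Set G) with hCdef
  haveI hCn : C.Normal := normal_of_least h hge hx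
  set A := C ⊓ centralizer (C : Set G) with hAdef
  haveI hAn : A.Normal := inferInstance
  have hxA : x ∈ A := ⟨mem_centralizer_singleton_iff.2 rfl, Subgroup.mem_centralizer_iff.2
    fun c hc => mem_centralizer_singleton_iff.1 hc⟩
  obtain ⟨k, hk⟩ : ∃ k, k ∉ C := by
    by_contra hne
    push Not at hne
    exact hq.out.ne_one (hx ▸ Subgroup.index_eq_one.2 (eq_top_iff.2 fun g _ => hne g))
  have htop := sup_zpowers_eq_top hx hk
  have hkq : k ^ q ∈ C := hx ▸ Subgroup.pow_index_mem C k
  have hAcomm : ∀ a b, a ∈ A → b ∈ C → b * a = a * b := fun a b ha hb =>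
    Subgroup.mem_centralizer_iff.1 ha.2 b hb
  let φ : A →* A :=
    { toFun := fun a => ⟨k * a * k⁻¹ * (a : G)⁻¹, A.mul_mem (hAn.conj_mem _ a.2 k) (A.inv_mem a.2)⟩
      map_one' := Subtype.ext (by show k * 1 * k⁻¹ * (1 : G)⁻¹ = 1; group)
      map_mul' := fun a b => Subtype.ext (by
        show k * (a * b : G) * k⁻¹ * (a * b : G)⁻¹ = k * a * k⁻¹ * (a : G)⁻¹ * (k * b * k⁻¹ * (b : G)⁻¹)
        have e := hAcomm (k * b * k⁻¹ * (b : G)⁻¹) (a : G)⁻¹
          (A.mul_mem (hAn.conj_mem _ b.2 k) (A.inv_mem b.2)) (C.inv_mem a.2.1)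
        calc k * (a * b : G) * k⁻¹ * (a * b : G)⁻¹
            = k * a * k⁻¹ * ((k * b * k⁻¹ * (b : G)⁻¹) * (a : G)⁻¹) := by group
          _ = k * a * k⁻¹ * ((a : G)⁻¹ * (k * b * k⁻¹ * (b : G)⁻¹)) := by rw [e]
          _ = _ := by group) }
  set S := φ.range.map A.subtype with hSdef
  have hSA : S ≤ A := Subgroup.map_subtype_le _
  set H := centralizer ({k} : Set G) with hHdef
  have hker : φ.ker = H.subgroupOf A := by
    ext a
    rw [MonoidHom.mem_ker, Subgroup.mem_subgroupOf, hHdef, mem_centralizer_singleton_iff,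
      Subtype.ext_iff]
    show k * a * k⁻¹ * (a : G)⁻¹ = 1 ↔ _
    rw [mul_inv_eq_one, mul_inv_eq_iff_eq_mul]
    exact eq_comm
  have hcardS : Nat.card S = H.relIndex A := by
    rw [hSdef, Subgroup.card_map_of_injective A.subtype_injective, ← Subgroup.index_ker, hker]
    rfl
  have hrel : H.relIndex (H ⊔ A) = H.relIndex A := relIndex_sup_normal H A
  have hidxmul := Subgroup.relIndex_mul_index (le_sup_left : H ≤ H ⊔ A)
  rw [hrel, ← hcardS] at hidxmul
  have hx1 : k * x * k⁻¹ * x⁻¹ ≠ 1 := fun e => hk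
    (mem_centralizer_singleton_iff.2 (mul_inv_eq_iff_eq_mul.1 (mul_inv_eq_one.1 e)))
  have hxS : k * x * k⁻¹ * x⁻¹ ∈ S := ⟨φ ⟨x, hxA⟩, ⟨⟨x, hxA⟩, rfl⟩, rfl⟩
  have hS1 : Nat.card S ≠ 1 := fun e => hx1
    (Subgroup.mem_bot.1 ((Subgroup.card_eq_one.1 e) ▸ hxS))
  rcases h k with h1 | hs
  · exact absurd (Nat.eq_one_of_mul_eq_one_right (hidxmul.trans h1)) hS1
  set s := H.index with hsdef
  have hSs : Nat.card S = s :=
    ((Nat.dvd_prime hs).1 (Dvd.intro _ hidxmul)).resolve_left hS1
  have hHA : H ⊔ A = ⊤ := Subgroup.index_eq_one.1 (by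
    rw [hSs] at hidxmul
    exact Nat.eq_of_mul_eq_mul_left hs.pos (hidxmul.trans (mul_one s).symm))
  -- conjugation by `k` on `S`
  have hSk : ∀ t ∈ S, k * t * k⁻¹ ∈ S := by
    rintro _ ⟨_, ⟨a, rfl⟩, rfl⟩
    refine ⟨φ ⟨k * a * k⁻¹, hAn.conj_mem _ a.2 k⟩, ⟨_, rfl⟩, ?_⟩
    show k * (k * a * k⁻¹) * k⁻¹ * (k * a * k⁻¹)⁻¹ = k * (k * a * k⁻¹ * (a : G)⁻¹) * k⁻¹
    group
  haveI hSn : S.Normal := by
    rw [← Subgroup.normalizer_eq_top_iff, eq_top_iff, ← htop]
    refine sup_le (fun c hc => ?_) (zpowers_le.2 (Subgroup.mem_normalizer_fintype hSk))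
    refine Subgroup.mem_normalizer_fintype fun t ht => ?_
    rw [hAcomm t c (hSA ht) hc, mul_inv_cancel_right]
    exact ht
  haveI := Fact.mk hs
  have hScen : ∀ {a : G}, a ∈ A → k * a = a * k → a ∈ Subgroup.center G := by
    intro a ha hak
    refine Subgroup.mem_center_iff.2 fun g => ?_
    have : C ⊔ zpowers k ≤ centralizer ({a} : Set G) := sup_le
      (fun c hc => mem_centralizer_singleton_iff.2 (hAcomm a c ha hc))
      (zpowers_le.2 (mem_centralizer_singleton_iff.2 hak))
    rw [htop] at this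
    exact mem_centralizer_singleton_iff.1 (this (mem_top g))
  have hiter : ∀ c : G, k * x * k⁻¹ = c * x → k * c * k⁻¹ = c →
      ∀ i : ℕ, k ^ i * x * (k ^ i)⁻¹ = c ^ i * x := by
    intro c hc hkc i
    induction i with
    | zero => simp
    | succ i ih =>
      calc k ^ (i + 1) * x * (k ^ (i + 1))⁻¹ = k * (k ^ i * x * (k ^ i)⁻¹) * k⁻¹ := by
            rw [pow_succ']; group
        _ = (k * c * k⁻¹) ^ i * (k * x * k⁻¹) := by rw [ih, conj_pow]; group
        _ = c ^ (i + 1) * x := by rw [hkc, hc, ← mul_assoc, ← pow_succ]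
  by_cases hsq : s = q
  · refine Or.inr fun g => ?_
    -- `k` centralizes `S`
    have hfix : ∀ t ∈ S, k * t = t * k := by
      intro t ht
      rcases eq_or_ne t 1 with rfl | ht1
      · group
      have hto : orderOf t = s := ((Nat.dvd_prime hs).1
        (hSs ▸ Subgroup.orderOf_dvd_natCard S ht)).resolve_left (mt orderOf_eq_one_iff.1 ht1)
      have hgen : Subgroup.zpowers t = S := Subgroup.eq_of_le_of_card_ge (zpowers_le.2 ht)
        (by rw [Nat.card_zpowers, hto, hSs])
      have hmem : k * t * k⁻¹ ∈ Subgroup.zpowers t := hgen ▸ hSk t ht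
      obtain ⟨r, hr⟩ := Subgroup.mem_zpowers_iff.1 hmem
      have hit : ∀ i : ℕ, k ^ i * t * (k ^ i)⁻¹ = t ^ (r ^ i) := by
        intro i
        induction i with
        | zero => simp
        | succ i ih =>
          calc k ^ (i + 1) * t * (k ^ (i + 1))⁻¹ = k * (k ^ i * t * (k ^ i)⁻¹) * k⁻¹ := by
                rw [pow_succ']; group
            _ = (k * t * k⁻¹) ^ (r ^ i) := by rw [ih, conj_zpow]
            _ = t ^ (r ^ (i + 1)) := by rw [← hr, ← zpow_mul, pow_succ']
      have hq' := hit q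
      rw [hAcomm t _ (hSA ht) hkq, mul_inv_cancel_right] at hq'
      have h0 : (((r ^ q : ℤ)) : ZMod q) = ((1 : ℤ) : ZMod q) := by
        rw [ZMod.intCast_eq_intCast_iff]
        have := (zpow_eq_zpow_iff_modEq (x := t)).1 (show t ^ (r ^ q) = t ^ (1 : ℤ) by
          rw [zpow_one]; exact hq'.symm)
        rwa [hto, hsq] at this
      have h1 : k * t * k⁻¹ = t ^ (1 : ℤ) := by
        rw [← hr, zpow_eq_zpow_iff_modEq, hto, hsq, ← ZMod.intCast_eq_intCast_iff, ← h0]
        push_cast
        exact (ZMod.pow_card _).symm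
      exact mul_inv_eq_iff_eq_mul.1 (h1.trans (zpow_one t))
    have hc : k * x * k⁻¹ * x⁻¹ ∈ Subgroup.center G :=
      hScen (hSA hxS) (hfix _ hxS)
    have hcq : (k * x * k⁻¹ * x⁻¹) ^ q = 1 := by
      rw [← hsq, ← hSs]
      exact congrArg Subtype.val (pow_card_eq_one' (x := (⟨_, hxS⟩ : S)))
    -- all commutators of `x` lie in `⟨c⟩`
    set c := k * x * k⁻¹ * x⁻¹ with hcdef
    have hit := hiter c (by rw [hcdef]; group)
      (mul_inv_eq_iff_eq_mul.2 (hfix c hxS))
    have hmem : g ∈ C ⊔ zpowers k := htop ▸ mem_top g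
    obtain ⟨u, hu, w, hw, rfl⟩ := Subgroup.mem_sup_of_normal_left.1 hmem
    obtain ⟨i, rfl⟩ : ∃ i : ℕ, k ^ i = w := mem_powers_iff_mem_zpowers.2 hw
    have : u * k ^ i * x * (u * k ^ i)⁻¹ * x⁻¹ = c ^ i := by
      rw [show u * k ^ i * x * (u * k ^ i)⁻¹ = u * (k ^ i * x * (k ^ i)⁻¹) * u⁻¹ by group, hit,
        show u * (c ^ i * x) * u⁻¹ = (u * c ^ i) * x * u⁻¹ by group,
        Subgroup.mem_center_iff.1 (pow_mem hc i) u,
        show c ^ i * u * x = c ^ i * (u * x) by group, mem_centralizer_singleton_iff.1 hu]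
      group
    rw [this]
    exact ⟨pow_mem hc i, by rw [← pow_mul, mul_comm, pow_mul, hcq, one_pow]⟩
  · left
    -- `S ∩ C(k) = 1`
    have hSH : S ⊓ H = ⊥ := by
      have hd : Nat.card (S ⊓ H : Subgroup G) ∣ s := hSs ▸ Subgroup.card_dvd_of_le inf_le_left
      refine Subgroup.card_eq_one.1 (((Nat.dvd_prime hs).1 hd).resolve_right fun e => ?_)
      have hle : S ≤ H := (Subgroup.eq_of_le_of_card_ge inf_le_left (by rw [e, hSs])).ge.trans
        inf_le_right
      set c := k * x * k⁻¹ * x⁻¹ with hcdef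
      have hit := hiter c (by rw [hcdef]; group) (mul_inv_eq_iff_eq_mul.2
        (mem_centralizer_singleton_iff.1 (hle hxS)).symm) q
      rw [mem_centralizer_singleton_iff.1 hkq, mul_inv_cancel_right, right_eq_mul] at hit
      have h1 : s ∣ q := by
        have hco : orderOf c = s := ((Nat.dvd_prime hs).1
          (hSs ▸ Subgroup.orderOf_dvd_natCard S hxS)).resolve_left (mt orderOf_eq_one_iff.1 hx1)
        rw [← hco]; exact orderOf_dvd_of_pow_eq_one hit
      exact hsq ((Nat.prime_dvd_prime_iff_eq hs hq.out).1 h1)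
    have hSHtop : H ⊔ S = ⊤ := by
      refine Subgroup.index_eq_one.1 ?_
      have h1 := Subgroup.relIndex_mul_index (le_sup_left : H ≤ H ⊔ S)
      rw [relIndex_sup_normal, ← Subgroup.inf_relIndex_right, inf_comm, hSH,
        Subgroup.relIndex_bot_left, hSs] at h1
      exact Nat.eq_of_mul_eq_mul_left hs.pos (h1.trans (mul_one s).symm)
    have hSC : ∀ t ∈ S, t ≠ 1 → centralizer ({t} : Set G) = C := by
      intro t ht ht1
      refine le_antisymm (fun g hg => ?_) (fun c hc => mem_centralizer_singleton_iff.2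
        (hAcomm t c (hSA ht) hc))
      by_contra hgC
      have : t ∈ S ⊓ H := by
        refine ⟨ht, ?_⟩
        have hle : C ⊔ zpowers g ≤ centralizer ({t} : Set G) := sup_le
          (fun c hc => mem_centralizer_singleton_iff.2 (hAcomm t c (hSA ht) hc)) (zpowers_le.2 hg)
        rw [sup_zpowers_eq_top hx hgC] at hle
        exact mem_centralizer_singleton_iff.2
          (mem_centralizer_singleton_iff.1 (hle (mem_top k))).symm
      rw [hSH, Subgroup.mem_bot] at this
      exact ht1 this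
    set c := k * x * k⁻¹ * x⁻¹ with hcdef
    have hdecomp : ∀ g : G, ∃ t ∈ S, ∃ w ∈ H, g = t * w := fun g => by
      have hmem : g ∈ S ⊔ H := by rw [sup_comm, hSHtop]; exact mem_top g
      obtain ⟨t, ht, w, hw, rfl⟩ := Subgroup.mem_sup_of_normal_left.1 hmem
      exact ⟨t, ht, w, hw, rfl⟩
    have hD : ∀ d ∈ C, d ∈ H → d ∈ Subgroup.center G := by
      intro d hdC hdH
      -- `C(dc) ≤ C ∩ C(d)`
      have hle : centralizer ({d * c} : Set G) ≤ C ⊓ centralizer ({d} : Set G) := by
        intro g hg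
        obtain ⟨t, ht, w, hw, rfl⟩ := hdecomp g
        have hwd : w * d * w⁻¹ ∈ C ⊓ H := by
          refine ⟨hCn.conj_mem d hdC w, mem_centralizer_singleton_iff.2 ?_⟩
          have hw' := mem_centralizer_singleton_iff.1 hw
          have hd' := mem_centralizer_singleton_iff.1 hdH
          calc w * d * w⁻¹ * k = w * (d * k) * w⁻¹ := by
                rw [mul_assoc _ w⁻¹, show w⁻¹ * k = k * w⁻¹ by
                  rw [eq_mul_inv_iff_mul_eq, mul_assoc, ← hw', inv_mul_cancel_left]]
                group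
            _ = w * (k * d) * w⁻¹ := by rw [hd']
            _ = (w * k) * d * w⁻¹ := by group
            _ = k * (w * d * w⁻¹) := by rw [hw']; group
        have hwc : w * c * w⁻¹ ∈ S := hSn.conj_mem c hxS w
        have htc : ∀ z ∈ C, t * z * t⁻¹ = z := fun z hz => by
          rw [← hAcomm t z (hSA ht) hz, mul_inv_cancel_right]
        have he : (w * d * w⁻¹) * (w * c * w⁻¹) = d * c := by
          have h1 := mul_inv_eq_iff_eq_mul.2 (mem_centralizer_singleton_iff.1 hg)
          calc (w * d * w⁻¹) * (w * c * w⁻¹) = t * ((w * d * w⁻¹) * (w * c * w⁻¹)) * t⁻¹ :=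
                (htc _ (C.mul_mem hwd.1 ((hSA hwc).1))).symm
            _ = t * w * (d * c) * (t * w)⁻¹ := by group
            _ = d * c := h1
        have h2 : d⁻¹ * (w * d * w⁻¹) ∈ S ⊓ H := by
          refine ⟨?_, H.mul_mem (H.inv_mem hdH) hwd.2⟩
          rw [show d⁻¹ * (w * d * w⁻¹) = c * (w * c * w⁻¹)⁻¹ by
            rw [eq_mul_inv_iff_mul_eq, mul_assoc, he, inv_mul_cancel_left]]
          exact S.mul_mem hxS (S.inv_mem hwc)
        rw [hSH, Subgroup.mem_bot, inv_mul_eq_one] at h2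
        have hwc' : w * c * w⁻¹ = c := by
          rw [← h2] at he
          exact mul_left_cancel he
        have hwC : w ∈ C := by
          rw [← hSC c hxS hx1, mem_centralizer_singleton_iff]
          exact mul_inv_eq_iff_eq_mul.1 hwc'
        refine ⟨C.mul_mem (hSA ht).1 hwC, mem_centralizer_singleton_iff.2 ?_⟩
        calc t * w * d = t * (w * d * w⁻¹) * w := by group
          _ = t * d * w := by rw [← h2]
          _ = d * (t * w) := by rw [← hAcomm t d (hSA ht) hdC]; group
      have hi : (C ⊓ centralizer ({d} : Set G)).index ∣ (centralizer ({d * c} : Set G)).index :=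
        Subgroup.index_dvd_of_le hle
      have hi2 := Subgroup.relIndex_mul_index
        (inf_le_left : C ⊓ centralizer ({d} : Set G) ≤ C)
      have hrel1 : (C ⊓ centralizer ({d} : Set G)).relIndex C = 1 := by
        have hqd : q ∣ (centralizer ({d * c} : Set G)).index :=
          (Dvd.intro_left _ (hi2.trans rfl) |> fun h => (hx ▸ h :
            q ∣ (C ⊓ centralizer ({d} : Set G)).index)).trans hi
        rcases h (d * c) with h1 | h1
        · exact absurd (h1 ▸ hqd) hq.out.not_dvd_one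
        · have he := (Nat.prime_dvd_prime_iff_eq hq.out h1).1 hqd
          rw [← he, ← hi2, hx] at hi
          exact Nat.dvd_one.1 (Nat.dvd_of_mul_dvd_mul_right hq.out.pos
            (by rw [one_mul]; exact hi))
      have hCd : C ≤ centralizer ({d} : Set G) :=
        (Subgroup.relIndex_eq_one.1 hrel1).trans inf_le_right
      refine Subgroup.mem_center_iff.2 fun g => ?_
      have : C ⊔ zpowers k ≤ centralizer ({d} : Set G) := sup_le hCd (zpowers_le.2
        (mem_centralizer_singleton_iff.2 (mem_centralizer_singleton_iff.1 hdH).symm))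
      rw [htop] at this
      exact mem_centralizer_singleton_iff.1 (this (mem_top g))
    set Z := Subgroup.center G with hZ
    have hZC : Z ≤ C := fun z hz =>
      mem_centralizer_singleton_iff.2 (Subgroup.mem_center_iff.1 hz x).symm
    have hZH : Z ≤ H := fun z hz =>
      mem_centralizer_singleton_iff.2 (Subgroup.mem_center_iff.1 hz k).symm
    have hCeq : C = Z ⊔ S := by
      refine le_antisymm (fun g hg => ?_) (sup_le hZC (hSA.trans inf_le_left))
      obtain ⟨t, ht, w, hw, rfl⟩ := hdecomp g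
      have hwC : w ∈ C := by simpa using C.mul_mem (C.inv_mem (hSA ht).1) hg
      exact (Z ⊔ S).mul_mem (Subgroup.mem_sup_right ht) (Subgroup.mem_sup_left (hD w hwC hw))
    refine ⟨s, q, hs, hq.out, hsq, ?_, ?_⟩
    · rw [← Subgroup.index_eq_card, ← Subgroup.relIndex_mul_index hZC, hx]
      congr 1
      rw [hCeq, relIndex_sup_normal, ← Subgroup.inf_relIndex_right,
        show Z ⊓ S = ⊥ from eq_bot_iff.2 fun z hz => hSH ▸ ⟨hz.2, hZH hz.1⟩,
        Subgroup.relIndex_bot_left, hSs]
    · intro hcomm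
      apply hx1
      have hcZ : c ∈ Z := by
        rw [← QuotientGroup.eq_one_iff (N := Z), hcdef]
        simp only [QuotientGroup.mk_mul, QuotientGroup.mk_inv]
        rw [hcomm.is_comm.comm (k : G ⧸ Z) (x : G ⧸ Z)]
        group
      rw [← Subgroup.mem_bot, ← hSH]
      exact ⟨hxS, hZH hcZ⟩

/-- Let `G` be a finite group every conjugacy class of which has size 1 or a prime. Then either `G` is nilpotent of class at most 2, or `G/Z(G)` is a non-abelian group of order `pq` for distinct primes `p, q` (a Frobenius group of order `pq`). -/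
theorem result {G : Type*} [Group G] [Finite G]
    (h : ∀ x : G, (Subgroup.centralizer ({x} : Set G)).index = 1 ∨ ((Subgroup.centralizer ({x} : Set G)).index).Prime) :
    Subgroup.upperCentralSeries G 2 = ⊤ ∨
      ∃ p q : ℕ, p.Prime ∧ q.Prime ∧ p ≠ q ∧ Nat.card (G ⧸ Subgroup.center G) = p * q ∧ ¬ IsMulCommutative (G ⧸ Subgroup.center G) := by
  classical
  by_cases hall : ∀ x : G, (Subgroup.centralizer ({x} : Set G)).index = 1
  · left
    have hc : ∀ x : G, x ∈ Subgroup.center G := fun x => central_of_index_one (hall x)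
    refine eq_top_iff.2 fun x _ => ?_
    exact Subgroup.upperCentralSeries_mono G (show 1 ≤ 2 by norm_num)
      (by rw [Subgroup.upperCentralSeries_one]; exact hc x)
  push Not at hall
  obtain ⟨x₀, hx₀⟩ := hall
  have hex : ∃ n : ℕ, n ≠ 1 ∧ ∃ x : G, (Subgroup.centralizer ({x} : Set G)).index = n :=
    ⟨_, hx₀, x₀, rfl⟩
  obtain ⟨hn1, x, hx⟩ := Nat.find_spec hex
  set q := Nat.find hex with hqdef
  have hq : q.Prime := hx ▸ (h x).resolve_left (hx ▸ hn1)
  haveI := Fact.mk hq
  have hge : ClassGE q G := fun y hy => Nat.find_le ⟨hy, y, rfl⟩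
  by_cases hstr : ∃ a b : ℕ, a.Prime ∧ b.Prime ∧ a ≠ b ∧
      Nat.card (G ⧸ Subgroup.center G) = a * b ∧ ¬ IsMulCommutative (G ⧸ Subgroup.center G)
  · exact Or.inr hstr
  left
  have hgood : ∀ y : G, (Subgroup.centralizer ({y} : Set G)).index = q →
      ∀ g : G, g * y * g⁻¹ * y⁻¹ ∈ Subgroup.center G ∧ (g * y * g⁻¹ * y⁻¹) ^ q = 1 :=
    fun y hy => (dichotomy h hge hy).resolve_left hstr
  -- all class sizes are `1` or `q`
  have hsizes : ∀ y : G, (Subgroup.centralizer ({y} : Set G)).index = 1 ∨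
      (Subgroup.centralizer ({y} : Set G)).index = q := by
    intro y
    by_contra hne
    push Not at hne
    have hp := (h y).resolve_left hne.1
    set Cx := Subgroup.centralizer ({x} : Set G)
    set Cy := Subgroup.centralizer ({y} : Set G)
    haveI : Cx.Normal := normal_of_least h hge hx
    have hsup : Cx ⊔ Cy = ⊤ := Subgroup.index_eq_one.1 (Nat.eq_one_of_dvd_coprimes
      ((Nat.coprime_primes hq hp).2 hne.2.symm)
      (hx ▸ Subgroup.index_dvd_of_le le_sup_left) (Subgroup.index_dvd_of_le le_sup_right))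
    have hgx := hgood x hx
    -- a central element of order `q` translating the class of `x * y`
    obtain ⟨g, hgC⟩ : ∃ g, g ∉ Cx := by
      by_contra hno
      push Not at hno
      exact hn1 (hx ▸ Subgroup.index_eq_one.2 (eq_top_iff.2 fun g _ => hno g))
    obtain ⟨v, hv, hvx⟩ : ∃ v ∈ Cy, v * x * v⁻¹ * x⁻¹ = g * x * g⁻¹ * x⁻¹ := by
      have hmem : g ∈ Cy ⊔ Cx := by rw [sup_comm, hsup]; exact Subgroup.mem_top g
      obtain ⟨v, hv, u, hu, rfl⟩ := Subgroup.mem_sup_of_normal_right.1 hmem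
      refine ⟨v, hv, ?_⟩
      rw [show v * u * x * (v * u)⁻¹ = v * (u * x) * u⁻¹ * v⁻¹ by group,
        Subgroup.mem_centralizer_singleton_iff.1 hu]
      group
    set c := g * x * g⁻¹ * x⁻¹ with hc
    have hc1 : c ≠ 1 := fun e => hgC (Subgroup.mem_centralizer_singleton_iff.2
      (mul_inv_eq_iff_eq_mul.1 (mul_inv_eq_one.1 e)))
    obtain ⟨hcz, hcq⟩ := hgx g
    have hvy : v * (x * y) * v⁻¹ = c * (x * y) := by
      rw [show v * (x * y) * v⁻¹ = (v * x * v⁻¹) * (v * y * v⁻¹) by group,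
        mul_inv_eq_iff_eq_mul.2 (Subgroup.mem_centralizer_singleton_iff.1 hv),
        ← mul_assoc, ← hvx]
      group
    have hxy : (Subgroup.centralizer ({x * y} : Set G)).index = q := by
      have hq1 : q ∣ (Subgroup.centralizer ({x * y} : Set G)).index := by
        -- the powers of `c` translate the class of `x * y`
        have hzc : Subgroup.zpowers c ≤ Subgroup.center G := Subgroup.zpowers_le.2 hcz
        haveI : (Subgroup.zpowers c).Normal := ⟨fun z hz a => by
          rwa [Subgroup.mem_center_iff.1 (hzc hz) a, mul_inv_cancel_right]⟩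
        set π := QuotientGroup.mk' (Subgroup.zpowers c)
        set M := (Subgroup.centralizer ({π (x * y)} : Set (G ⧸ Subgroup.zpowers c))).comap π
        have hmem : ∀ a : G, a ∈ M ↔ a * (x * y) * a⁻¹ * (x * y)⁻¹ ∈ Subgroup.zpowers c := by
          intro a
          rw [Subgroup.mem_comap, Subgroup.mem_centralizer_singleton_iff,
            ← QuotientGroup.eq_one_iff, QuotientGroup.mk_mul, QuotientGroup.mk_mul,
            QuotientGroup.mk_inv, QuotientGroup.mk_inv, mul_inv_eq_one, mul_inv_eq_iff_eq_mul]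
          rfl
        let χ : M →* Subgroup.zpowers c :=
          { toFun := fun a => ⟨(a : G) * (x * y) * (a : G)⁻¹ * (x * y)⁻¹, (hmem a).1 a.2⟩
            map_one' := Subtype.ext (by show 1 * (x * y) * 1⁻¹ * (x * y)⁻¹ = 1; group)
            map_mul' := fun a b => Subtype.ext (by
              show (a * b : G) * (x * y) * (a * b : G)⁻¹ * (x * y)⁻¹ =
                (a * (x * y) * (a : G)⁻¹ * (x * y)⁻¹) * (b * (x * y) * (b : G)⁻¹ * (x * y)⁻¹)
              rw [show (a * b : G) * (x * y) * (a * b : G)⁻¹ * (x * y)⁻¹ =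
                  a * (b * (x * y) * (b : G)⁻¹ * (x * y)⁻¹) * ((x * y) * (a : G)⁻¹ * (x * y)⁻¹) by
                    group,
                Subgroup.mem_center_iff.1 (hzc ((hmem b).1 b.2)) a, mul_assoc,
                show (a : G) * ((x * y) * (a : G)⁻¹ * (x * y)⁻¹) =
                  a * (x * y) * (a : G)⁻¹ * (x * y)⁻¹ by group,
                Subgroup.mem_center_iff.1 (hzc ((hmem a).1 a.2))]) }
        have hvc : v * (x * y) * v⁻¹ * (x * y)⁻¹ = c := by rw [hvy, mul_inv_cancel_right]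
        have hvM : v ∈ M := (hmem v).2 (by rw [hvc]; exact Subgroup.mem_zpowers c)
        have hrange : χ.range = ⊤ := by
          refine eq_top_iff.2 fun z _ => ?_
          obtain ⟨i, hi⟩ := Subgroup.mem_zpowers_iff.1 z.2
          refine ⟨⟨v, hvM⟩ ^ i, ?_⟩
          rw [map_zpow]
          refine Subtype.ext ?_
          show ((χ ⟨v, hvM⟩ : Subgroup.zpowers c) ^ i : G) = z
          rw [show ((χ ⟨v, hvM⟩ : Subgroup.zpowers c) : G) = c from hvc, hi]
        have hkerχ : χ.ker = (Subgroup.centralizer ({x * y} : Set G)).subgroupOf M := by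
          ext a
          rw [MonoidHom.mem_ker, Subtype.ext_iff, Subgroup.mem_subgroupOf,
            Subgroup.mem_centralizer_singleton_iff]
          show (a : G) * (x * y) * (a : G)⁻¹ * (x * y)⁻¹ = 1 ↔ _
          rw [mul_inv_eq_one, mul_inv_eq_iff_eq_mul]
        have hle : Subgroup.centralizer ({x * y} : Set G) ≤ M := fun a ha => (hmem a).2 (by
          rw [mul_inv_eq_iff_eq_mul.2 (Subgroup.mem_centralizer_singleton_iff.1 ha),
            mul_inv_cancel]
          exact one_mem _)
        rw [← Subgroup.relIndex_mul_index hle, Subgroup.relIndex, ← hkerχ, Subgroup.index_ker,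
          hrange, Subgroup.card_top, Nat.card_zpowers, orderOf_eq_prime hcq hc1]
        exact dvd_mul_right _ _
      rcases h (x * y) with h1 | h1
      · exact absurd (h1 ▸ hq1) hq.not_dvd_one
      · exact ((Nat.prime_dvd_prime_iff_eq hq h1).1 hq1).symm
    -- so `y` has all commutators central of exponent `q`
    have hgy : ∀ a : G, a * y * a⁻¹ * y⁻¹ ∈ Subgroup.center G ∧
        (a * y * a⁻¹ * y⁻¹) ^ q = 1 := by
      intro a
      obtain ⟨h1, h1'⟩ := hgood (x * y) hxy a
      obtain ⟨h2, h2'⟩ := hgx a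
      have he : a * y * a⁻¹ * y⁻¹ =
          (a * x * a⁻¹ * x⁻¹)⁻¹ * (a * (x * y) * a⁻¹ * (x * y)⁻¹) := by
        have e : x * (a * y * a⁻¹ * y⁻¹) * x⁻¹ =
            (a * x * a⁻¹ * x⁻¹)⁻¹ * (a * (x * y) * a⁻¹ * (x * y)⁻¹) := by group
        have hz : x * (a * y * a⁻¹ * y⁻¹) * x⁻¹ ∈ Subgroup.center G :=
          e ▸ mul_mem (inv_mem h2) h1
        rw [← e]
        calc a * y * a⁻¹ * y⁻¹ = x⁻¹ * (x * (a * y * a⁻¹ * y⁻¹) * x⁻¹) * x := by group
          _ = x * (a * y * a⁻¹ * y⁻¹) * x⁻¹ := by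
            rw [Subgroup.mem_center_iff.1 hz x⁻¹, mul_assoc, inv_mul_cancel, mul_one]
      rw [he]
      have hcm : Commute (a * x * a⁻¹ * x⁻¹)⁻¹ (a * (x * y) * a⁻¹ * (x * y)⁻¹) :=
        (Subgroup.mem_center_iff.1 h1 _)
      exact ⟨mul_mem (inv_mem h2) h1, by rw [hcm.mul_pow, inv_pow, h1', h2']; simp⟩
    let ψ : G →* Subgroup.center G :=
      { toFun := fun a => ⟨a * y * a⁻¹ * y⁻¹, (hgy a).1⟩
        map_one' := Subtype.ext (by show 1 * y * 1⁻¹ * y⁻¹ = 1; group)
        map_mul' := fun a b => Subtype.ext (by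
          show a * b * y * (a * b)⁻¹ * y⁻¹ = (a * y * a⁻¹ * y⁻¹) * (b * y * b⁻¹ * y⁻¹)
          rw [show a * b * y * (a * b)⁻¹ * y⁻¹ = a * (b * y * b⁻¹ * y⁻¹) * (y * a⁻¹ * y⁻¹) by group,
            Subgroup.mem_center_iff.1 (hgy b).1 a, mul_assoc,
            show a * (y * a⁻¹ * y⁻¹) = a * y * a⁻¹ * y⁻¹ by group,
            Subgroup.mem_center_iff.1 (hgy a).1]) }
    have hkery : ψ.ker = Cy := by
      ext a
      rw [MonoidHom.mem_ker, Subtype.ext_iff, Subgroup.mem_centralizer_singleton_iff]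
      show a * y * a⁻¹ * y⁻¹ = 1 ↔ _
      rw [mul_inv_eq_one, mul_inv_eq_iff_eq_mul]
    haveI := Fact.mk hp
    obtain ⟨⟨z, a, rfl⟩, hz⟩ := exists_prime_orderOf_dvd_card' (G := ψ.range) Cy.index
      (by rw [← Subgroup.index_ker, hkery])
    refine hne.2 ((Nat.prime_dvd_prime_iff_eq hp hq).1 ?_)
    rw [← hz]
    refine orderOf_dvd_of_pow_eq_one (Subtype.ext (Subtype.ext ?_))
    exact (hgy a).2
  -- hence `G' ≤ Z(G)`
  refine eq_top_iff.2 fun a _ => ?_
  rw [Subgroup.mem_upperCentralSeries_succ_iff]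
  intro b
  rw [Subgroup.upperCentralSeries_one, Subgroup.mem_center_iff]
  intro y
  rcases hsizes y with h1 | h1
  · exact (Subgroup.mem_center_iff.1 (central_of_index_one h1) _).symm
  · haveI := normal_of_least h hge h1
    haveI : IsCyclic (G ⧸ Subgroup.centralizer ({y} : Set G)) :=
      isCyclic_of_prime_card (p := q) (by rw [← Subgroup.index_eq_card, h1])
    have hm : a * b * a⁻¹ * b⁻¹ ∈ Subgroup.centralizer ({y} : Set G) := by
      rw [← QuotientGroup.eq_one_iff]
      simp only [QuotientGroup.mk_mul, QuotientGroup.mk_inv]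
      rw [IsMulCommutative.is_comm.comm (a : G ⧸ Subgroup.centralizer ({y} : Set G)) (b : G ⧸ _)]
      group
    exact (Subgroup.mem_centralizer_singleton_iff.1 hm).symm

end Cfsg.Agent.S4314
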