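import Cfsg.Statements.S4316
import Cfsg.Agent.Lib.Coprime.DerivedBound

set_option autoImplicit false
universe u
open Cfsg

namespace Cfsg.Agent.S4316

/-- There is a function `f` of two natural-number arguments with the following property. Let `q` be a prime and `A` an elementary abelian group of order `q³` acting by automorphisms on a finite group `G` of order prime to `q`, and suppose that for every non-identity `a ∈ A` the derived subgroup of the fixed-point subgroup `C_G(a)` has order at most `m`. Then the derived subgroup of `G` has order at most `f(q, m)`. -/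
theorem result :
    ∃ f : ℕ → ℕ → ℕ, ∀ (q m : ℕ) (A G : Type u) [Group A] [Finite A] [Group G] [Finite G] [MulDistribMulAction A G],
      q.Prime → Nat.card A = q ^ 3 → (∀ a b : A, a * b = b * a) → (∀ a : A, a ^ q = 1) → ¬ q ∣ Nat.card G →
      (∀ a : A, a ≠ 1 → Nat.card ↥(commutator ↥(FixedPoints.subgroup (Subgroup.zpowers a) G)) ≤ m) →
      Nat.card ↥(commutator G) ≤ f q m := by
  refine ⟨CfsgLib.Coprime.derivedBound, fun q m A G _ _ _ _ _ hqp hA3 hcomm hexp hq hm => ?_⟩
  haveI := Fact.mk hqp
  let E := G ⋊[MulDistribMulAction.toMulAut A G] A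
  haveI : Finite E := Finite.of_injective SemidirectProduct.equivProd SemidirectProduct.equivProd.injective
  let X : Subgroup E := (SemidirectProduct.inl : G →* E).range
  let AE : Subgroup E := (SemidirectProduct.inr : A →* E).range
  have hXG : ∀ Y : Subgroup G, Nat.card ↥(Y.map (SemidirectProduct.inl : G →* E)) = Nat.card Y :=
    fun Y => Nat.card_congr (Y.equivMapOfInjective _ SemidirectProduct.inl_injective).toEquiv.symm
  have hXe : X = (⊤ : Subgroup G).map SemidirectProduct.inl := MonoidHom.range_eq_map _
  have hAe : Cfsg.IsElementaryAbelian q AE := by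
    refine ⟨⟨⟨fun x y => ?_⟩⟩, ?_⟩
    · obtain ⟨a, ha⟩ := x.2
      obtain ⟨b, hb⟩ := y.2
      exact Subtype.ext (by simp only [Subgroup.coe_mul, ← ha, ← hb, ← map_mul, hcomm a b])
    · rintro _ ⟨a, rfl⟩
      rw [← map_pow, hexp a, map_one]
  have hAE : Nat.card AE = q ^ 3 := by
    rw [← hA3]
    exact (Nat.card_congr (MonoidHom.ofInjective SemidirectProduct.inr_injective).toEquiv).symm
  have hAX : AE ≤ Subgroup.normalizer (X : Set E) := by
    haveI : X.Normal := by
      rw [show X = SemidirectProduct.rightHom.ker from SemidirectProduct.range_inl_eq_ker_rightHom]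
      infer_instance
    rw [Subgroup.normalizer_eq_top_iff.2 inferInstance]
    exact le_top
  have hfix : ∀ a : A, X ⊓ Subgroup.centralizer ({SemidirectProduct.inr a} : Set E) =
      (FixedPoints.subgroup (Subgroup.zpowers a) G).map SemidirectProduct.inl := by
    intro a
    ext x
    constructor
    · rintro ⟨⟨g, rfl⟩, hg⟩
      have h := Subgroup.mem_centralizer_singleton_iff.1 hg
      have hga : a • g = g := SemidirectProduct.inl_injective (φ := MulDistribMulAction.toMulAut A G) (by
        rw [show a • g = MulDistribMulAction.toMulAut A G a g from rfl, SemidirectProduct.inl_aut,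
          ← h, mul_assoc, ← map_mul, mul_inv_cancel, map_one, mul_one])
      refine ⟨g, ?_, rfl⟩
      rintro ⟨b, hb⟩
      exact (Subgroup.zpowers_le.2 (show a ∈ MulAction.stabilizer A g from hga)) hb
    · rintro ⟨g, hg, rfl⟩
      refine ⟨⟨g, rfl⟩, Subgroup.mem_centralizer_singleton_iff.2 ?_⟩
      have hga : a • g = g := hg ⟨a, Subgroup.mem_zpowers a⟩
      have h : (SemidirectProduct.inr a : E) * SemidirectProduct.inl g *
          (SemidirectProduct.inr a)⁻¹ = SemidirectProduct.inl g := by
        rw [← map_inv SemidirectProduct.inr, ← SemidirectProduct.inl_aut]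
        exact congrArg _ hga
      exact (mul_inv_eq_iff_eq_mul.1 h).symm
  have key := CfsgLib.Coprime.card_commutator_le_derivedBound (X := X) hAe hAE
    (by rw [hXe, hXG, Subgroup.card_top]; exact hq) hAX (m := m) (by
      rintro _ ⟨a, rfl⟩ ha
      refine le_of_eq_of_le ?_ (hm a fun h => ha (by rw [h, map_one]))
      rw [hfix, ← Subgroup.map_commutator, hXG]
      rw [show ⁅FixedPoints.subgroup (Subgroup.zpowers a) G, FixedPoints.subgroup (Subgroup.zpowers a) G⁆ =
        (commutator ↥(FixedPoints.subgroup (Subgroup.zpowers a) G)).map (Subgroup.subtype _) by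
          rw [commutator_def, Subgroup.map_commutator, ← MonoidHom.range_eq_map, Subgroup.range_subtype]]
      exact (Nat.card_congr (Subgroup.equivMapOfInjective _ _ (Subgroup.subtype_injective _)).toEquiv).symm)
  rwa [hXe, ← Subgroup.map_commutator, hXG, ← commutator_def] at key

end Cfsg.Agent.S4316
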