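import Cfsg.Statements.S4321
import Cfsg.Agent.Lib.ClassSingular.Graph

set_option autoImplicit false
open Cfsg

namespace Cfsg.Agent.S4321

/-- Let `G` be a finite group and `p` a prime not dividing the order of the centre of `G`. Consider the primes dividing the size of some conjugacy class of a `p`-singular element (an element of order divisible by `p`), two of them adjacent when their product divides such a class size. Then any two distinct such primes are joined by a path with at most 3 edges (the graph is connected of diameter at most 3). -/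
theorem result {G : Type*} [Group G] [Finite G] (p : ℕ) [Fact p.Prime]
    (hZ : ¬ p ∣ Nat.card ↥(Subgroup.center G)) (r s : ℕ) (hr : (r.Prime ∧ ∃ x : G, p ∣ orderOf x ∧ r ∣ (Subgroup.centralizer ({x} : Set G)).index)) (hs : (s.Prime ∧ ∃ x : G, p ∣ orderOf x ∧ s ∣ (Subgroup.centralizer ({x} : Set G)).index)) (hrs : r ≠ s) :
    (∃ x : G, p ∣ orderOf x ∧ r * s ∣ (Subgroup.centralizer ({x} : Set G)).index) ∨ (∃ t : ℕ, (t.Prime ∧ ∃ x : G, p ∣ orderOf x ∧ t ∣ (Subgroup.centralizer ({x} : Set G)).index) ∧ t ≠ r ∧ t ≠ s ∧ (∃ x : G, p ∣ orderOf x ∧ r * t ∣ (Subgroup.centralizer ({x} : Set G)).index) ∧ (∃ x : G, p ∣ orderOf x ∧ t * s ∣ (Subgroup.centralizer ({x} : Set G)).index)) ∨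
      (∃ t u : ℕ, (t.Prime ∧ ∃ x : G, p ∣ orderOf x ∧ t ∣ (Subgroup.centralizer ({x} : Set G)).index) ∧ (u.Prime ∧ ∃ x : G, p ∣ orderOf x ∧ u ∣ (Subgroup.centralizer ({x} : Set G)).index) ∧ t ≠ r ∧ u ≠ s ∧ t ≠ u ∧ (∃ x : G, p ∣ orderOf x ∧ r * t ∣ (Subgroup.centralizer ({x} : Set G)).index) ∧ (∃ x : G, p ∣ orderOf x ∧ t * u ∣ (Subgroup.centralizer ({x} : Set G)).index) ∧ (∃ x : G, p ∣ orderOf x ∧ u * s ∣ (Subgroup.centralizer ({x} : Set G)).index)) := by
  have mk : ∀ {u v : ℕ}, u.Prime → v.Prime → u ≠ v → CfsgLib.ClassSingular.Adj p G u v →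
      ∃ x : G, p ∣ orderOf x ∧ u * v ∣ (Subgroup.centralizer ({x} : Set G)).index :=
    fun hu hv hne h => h.mul hu hv hne
  have vtx : ∀ {u v : ℕ}, u.Prime → CfsgLib.ClassSingular.Adj p G u v →
      u.Prime ∧ ∃ x : G, p ∣ orderOf x ∧ u ∣ (Subgroup.centralizer ({x} : Set G)).index :=
    fun hu ⟨x, hx, h, _⟩ => ⟨hu, x, hx, h⟩
  by_cases hd : CfsgLib.ClassSingular.Adj p G r s
  · exact Or.inl (mk hr.1 hs.1 hrs hd)
  obtain ⟨t, u, ht, hu, h1, h2, h3⟩ :=
    (CfsgLib.ClassSingular.exists_walk hZ hr.2 hs.2).resolve_left hd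
  have hts : t ≠ s := fun h => hd (h ▸ h1)
  have hur : u ≠ r := fun h => hd (h ▸ h3)
  refine Or.inr ?_
  rcases eq_or_ne t r with rfl | htr
  · have hus : u ≠ s := fun h => hd (h ▸ h2)
    exact Or.inl ⟨u, vtx hu h3, hur, hus, mk ht hu hur.symm h2, mk hu hs.1 hus h3⟩
  rcases eq_or_ne u s with rfl | hus
  · exact Or.inl ⟨t, vtx ht h2, htr, hts, mk hr.1 ht htr.symm h1, mk ht hu hts h2⟩
  rcases eq_or_ne t u with rfl | htu
  · exact Or.inl ⟨t, vtx ht h2, htr, hts, mk hr.1 ht htr.symm h1, mk ht hs.1 hts h3⟩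
  exact Or.inr ⟨t, u, vtx ht h2, vtx hu h3, htr, hus, htu, mk hr.1 ht htr.symm h1,
    mk ht hu htu h2, mk hu hs.1 hus h3⟩

end Cfsg.Agent.S4321
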