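import Cfsg.Statements.S4323
import Cfsg.Agent.Lib.Coprime.SquareFixed.Minimal

set_option autoImplicit false
open Cfsg

namespace Cfsg.Agent.S4323

/-- Let `q` be a prime and `A` a non-cyclic group of order `q²` acting by automorphisms on a finite group `G` of order prime to `q`, such that the fixed-point subgroup `C_G(a)` is abelian for every non-identity `a ∈ A`. Then `G` is solvable. -/
theorem result {A G : Type*} [Group A] [Finite A]
    [Group G] [Finite G] [MulDistribMulAction A G] (q : ℕ) (hq : q.Prime) (hA : Nat.card A = q ^ 2) (hnc : ¬ IsCyclic A)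
    (hcop : ¬ q ∣ Nat.card G) (h : ∀ a : A, a ≠ 1 → IsMulCommutative ↥(FixedPoints.subgroup (Subgroup.zpowers a) G)) :
    Group.IsSolvable G := by
  classical
  set φ := MulDistribMulAction.toMulAut A G
  haveI : Finite (G ⋊[φ] A) := Finite.of_equiv _ SemidirectProduct.equivProd.symm
  set K : Subgroup (G ⋊[φ] A) := (SemidirectProduct.inl : G →* G ⋊[φ] A).range with hK
  set A' : Subgroup (G ⋊[φ] A) := (SemidirectProduct.inr : A →* G ⋊[φ] A).range with hA'
  haveI hKn : K.Normal := by rw [hK, SemidirectProduct.range_inl_eq_ker_rightHom]; infer_instance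
  have eK : G ≃* K := MonoidHom.ofInjective SemidirectProduct.inl_injective
  have eA : A ≃* A' := MonoidHom.ofInjective SemidirectProduct.inr_injective
  have hF : CfsgLib.Coprime.SquareFixed.Fix q A' K := by
    refine ⟨hq, (Nat.card_congr eA.toEquiv).symm.trans hA,
      fun hc => hnc (haveI := hc; isCyclic_of_injective (f := eA.toMonoidHom) eA.injective),
      (by rw [Subgroup.normalizer_eq_top]; exact le_top), (by rwa [← Nat.card_congr eK.toEquiv]), ?_⟩
    rintro _ ⟨a, rfl⟩ ha1 _ ⟨⟨x, rfl⟩, hx⟩ _ ⟨⟨y, rfl⟩, hy⟩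
    have ha : a ≠ 1 := fun e => ha1 (by rw [e, map_one])
    have key : ∀ g : G, SemidirectProduct.inl g ∈ Subgroup.centralizer
        ({SemidirectProduct.inr a} : Set (G ⋊[φ] A)) →
        g ∈ FixedPoints.subgroup (Subgroup.zpowers a) G := by
      intro g hg
      have h1 : a • g = g := SemidirectProduct.inl_injective (by
        rw [show a • g = φ a g from rfl, SemidirectProduct.inl_aut, map_inv]
        exact mul_inv_eq_iff_eq_mul.2 (Subgroup.mem_centralizer_singleton_iff.1 hg).symm)
      intro b
      show (b : A) • g = g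
      obtain ⟨n, hn⟩ := Subgroup.mem_zpowers_iff.1 b.2
      rw [← hn]
      exact MulAction.mem_stabilizer_iff.1
        (zpow_mem (MulAction.mem_stabilizer_iff.2 h1 : a ∈ MulAction.stabilizer A g) n)
    have hxy : x * y = y * x :=
      congrArg Subtype.val ((h a ha).is_comm.comm ⟨x, key x hx⟩ ⟨y, key y hy⟩)
    rw [← map_mul, ← map_mul, hxy]
  haveI := hF.solvable
  exact Group.isSolvable_of_surjective (f := eK.symm.toMonoidHom) eK.symm.surjective

end Cfsg.Agent.S4323
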