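import Cfsg.Statements.S4325
import Cfsg.Agent.Lib.PGroup.Swaps
-- import your own Cfsg.Agent.* helpers here

set_option autoImplicit false
open Cfsg

namespace Cfsg.Agent.S4325

/-- Let r be a prime and m a natural number with m + 1 < r, and let π be a set of primes containing every prime below r but not r itself. Then in the symmetric group of degree r any m transpositions generate a π-subgroup, while O_π of the symmetric group is trivial. (So no bound on the number of conjugates that works for all π exists in the π-radical analogue of the Baer–Suzuki Theorem.) -/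
theorem result (r m : ℕ) (hr : r.Prime)
    (hm : m + 1 < r) (π : Set ℕ) (hπ : ∀ q : ℕ, q.Prime → q < r → q ∈ π) (hrπ : r ∉ π)
    (t : Fin m → Equiv.Perm (Fin r)) (ht : ∀ i, (t i).IsSwap) :
    Cfsg.IsPiSubgroup π (Subgroup.closure (Set.range t)) ∧ Cfsg.piCore π (Equiv.Perm (Fin r)) = ⊥ := by
  refine ⟨fun q hq hd => ?_, ?_⟩
  · have e : Set.range t = {s | s ∈ List.ofFn t} := by ext; simp [List.mem_ofFn]
    rw [e] at hd
    have h := CfsgLib.PGroup.prime_le_of_dvd_card_closure_swaps (List.ofFn t)
      (by simpa [List.mem_ofFn] using ht) hq hd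
    rw [List.length_ofFn] at h
    exact hπ q hq (by omega)
  rw [Cfsg.piCore, sSup_eq_bot]
  rintro N ⟨hN, hNπ⟩
  by_contra hne
  obtain ⟨g, hg, hg1⟩ := (Subgroup.ne_bot_iff_exists_ne_one.1 hne) |> fun ⟨g, hg⟩ =>
    (⟨g.1, g.2, fun h => hg (Subtype.ext h)⟩ : ∃ g, g ∈ N ∧ g ≠ 1)
  obtain ⟨x, hx⟩ : ∃ x, g x ≠ x := by
    by_contra h
    push Not at h
    exact hg1 (Equiv.ext h)
  have htrans : MulAction.orbit N x = Set.univ := by
    refine Set.eq_univ_of_forall fun z => ?_
    by_cases hz : z = x
    · subst hz; exact MulAction.mem_orbit_self _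
    refine ⟨⟨Equiv.swap (g x) z * g * (Equiv.swap (g x) z)⁻¹, hN.conj_mem g hg _⟩, ?_⟩
    show (Equiv.swap (g x) z * g * (Equiv.swap (g x) z)⁻¹) x = z
    rw [Equiv.Perm.mul_apply, Equiv.Perm.mul_apply, Equiv.swap_inv,
      Equiv.swap_apply_of_ne_of_ne (Ne.symm hx) (Ne.symm hz), Equiv.swap_apply_left]
  refine hrπ (hNπ r hr ?_)
  have h := MulAction.index_stabilizer N x
  rw [htrans, Set.ncard_univ, Nat.card_eq_fintype_card, Fintype.card_fin] at h
  have h2 := Subgroup.index_dvd_card (MulAction.stabilizer N x)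
  rwa [h] at h2

end Cfsg.Agent.S4325
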