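import Cfsg.Statements.S4326
-- import your own Cfsg.Agent.* helpers here
import Mathlib.GroupTheory.PGroup
import Mathlib.GroupTheory.QuotientGroup.Basic
import Mathlib.GroupTheory.Index

set_option autoImplicit false
open Pointwise
open Cfsg

namespace Cfsg.Agent.S4326


/-- Let G be a finite group, p a prime, x an automorphism of G of p-power order and M the subgroup of fixed points of x. Suppose that p divides the index of M and that either M is self-normalizing or M has trivial center. Then some conjugate of M is mapped onto itself by x but is not fixed elementwise by x. -/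
theorem result {G : Type*} [Group G] [Finite G]
    (p : ℕ) [Fact p.Prime] (x : MulAut G) (hx : ∃ k : ℕ, orderOf x = p ^ k) (M : Subgroup G)
    (hM : ∀ g : G, g ∈ M ↔ x g = g) (hp : p ∣ M.index)
    (hself : Subgroup.normalizer (M : Set G) = M ∨ Subgroup.center M = ⊥) :
    ∃ g : G, (∀ y ∈ MulAut.conj g • M, x y ∈ MulAut.conj g • M) ∧ ∃ y ∈ MulAut.conj g • M, x y ≠ y := by
  classical
  have hM' : ∀ y ∈ M, x y = y := fun y hy => (hM y).1 hy
  obtain ⟨k, hk⟩ := hx
  haveI : Finite (MulAut G) := Finite.of_injective (fun e : MulAut G => (e : G → G)) DFunLike.coe_injective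
  let A : Subgroup (MulAut G) := Subgroup.zpowers x
  have hA : IsPGroup p A := IsPGroup.of_card (by rw [Nat.card_zpowers, hk])
  have hfix : ∀ a ∈ A, ∀ y ∈ M, a y = y := by
    intro a ha y hy
    have : A ≤ MulAction.stabilizer (MulAut G) y := Subgroup.zpowers_le.2 (hM' y hy)
    exact this ha
  letI : MulAction A (G ⧸ M) :=
    { smul := fun a => Quotient.map' (fun g => (a.1) g) fun g h hgh => by
        rw [QuotientGroup.leftRel_apply] at hgh ⊢
        rw [← map_inv, ← map_mul, hfix a.1 a.2 _ hgh]
        exact hgh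
      one_smul := fun q => by induction q using QuotientGroup.induction_on; rfl
      mul_smul := fun a b q => by induction q using QuotientGroup.induction_on; rfl }
  haveI := Fintype.ofFinite (G ⧸ M)
  have hfix1 : ((1 : G) : G ⧸ M) ∈ MulAction.fixedPoints A (G ⧸ M) := fun a =>
    congrArg QuotientGroup.mk (map_one a.1)
  have hdvd : p ∣ Nat.card (G ⧸ M) := hp
  obtain ⟨c, hc, hcne⟩ := hA.exists_fixed_point_of_prime_dvd_card_of_fixed_point (G ⧸ M) hdvd hfix1
  obtain ⟨g, rfl⟩ := QuotientGroup.mk_surjective c
  have hgM : g ∉ M := fun h => hcne (QuotientGroup.eq.2 (by simpa using h))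
  obtain ⟨m, hm, hxg⟩ : ∃ m ∈ M, x g = g * m := by
    refine ⟨g⁻¹ * x g, ?_, by rw [mul_inv_cancel_left]⟩
    exact QuotientGroup.eq.1 (hc ⟨x, Subgroup.mem_zpowers x⟩).symm
  refine ⟨g, ?_, ?_⟩
  · intro y hy
    rw [Subgroup.mem_pointwise_smul_iff_inv_smul_mem] at hy ⊢
    set z := (MulAut.conj g)⁻¹ • y with hz
    have hy' : y = g * z * g⁻¹ := by simp [hz, mul_assoc]
    have : (MulAut.conj g)⁻¹ • x y = m * z * m⁻¹ := by
      rw [hy', map_mul, map_mul, map_inv, hxg, hM' z hy]
      simp [mul_assoc]
    rw [this]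
    exact mul_mem (mul_mem hm hy) (inv_mem hm)
  · by_contra hcon
    push Not at hcon
    have hconj : ∀ z ∈ M, g * z * g⁻¹ ∈ M := fun z hz => (hM _).2 (hcon _
      (Subgroup.smul_mem_pointwise_smul z (MulAut.conj g) M hz))
    rcases hself with h | h
    · apply hgM
      rw [← h, Subgroup.mem_normalizer_iff]
      refine fun z => ⟨hconj z, fun hz => ?_⟩
      have hle : M.map (MulAut.conj g).toMonoidHom ≤ M := by
        rintro _ ⟨w, hw, rfl⟩; exact hconj w hw
      have heq := Subgroup.eq_of_le_of_card_ge hle
        (Subgroup.card_map_of_injective (MulAut.conj g).injective).ge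
      rw [← heq] at hz
      obtain ⟨w, hw, he⟩ := hz
      have : w = z := (MulAut.conj g).injective he
      rwa [this] at hw
    · have hmc : (⟨m, hm⟩ : M) ∈ Subgroup.center M := by
        refine Subgroup.mem_center_iff.2 fun z => Subtype.ext ?_
        have h1 : x (g * z * g⁻¹) = g * z * g⁻¹ := hM' _ (hconj z z.2)
        rw [map_mul, map_mul, map_inv, hxg, hM' z z.2, mul_inv_rev] at h1
        have h2 : m * z * m⁻¹ = (z : G) := by
          have := congrArg (fun t => g⁻¹ * t * g) h1
          simpa [mul_assoc] using this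
        exact (mul_inv_eq_iff_eq_mul.1 h2).symm
      rw [h, Subgroup.mem_bot] at hmc
      have : m = 1 := congrArg Subtype.val hmc
      exact hgM ((hM g).2 (by rw [hxg, this, mul_one]))

end Cfsg.Agent.S4326
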