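import Cfsg.Statements.S4330
import Mathlib
import Cfsg.Agent.Lib.PGroup.FreeVector.Main
import Cfsg.Agent.Lib.PGroup.Basic
import Cfsg.Agent.Lib.Coprime.Core
import Cfsg.Agent.Lib.Coprime.Fitting

set_option autoImplicit false
open Pointwise
open Cfsg

namespace Cfsg.Agent.S4330

universe u

theorem core {p : ℕ} [Fact p.Prime] (hp : p ≠ 2) (n : ℕ) :
    ∀ (G : Type u) [Group G] [Finite G], Nat.card G = n → Group.IsSolvable G →
      ∀ A : Subgroup G, IsPGroup p A →
      (∀ c : G, ∃ g : G, IsConj c g ∧ A.subgroupOf (A ⊔ A.map (MulAut.conj g).toMonoidHom) ≤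
        Cfsg.pCore p ↥(A ⊔ A.map (MulAut.conj g).toMonoidHom)) →
      A ≤ Cfsg.pCore p G := by
  induction n using Nat.strong_induction_on with
  | _ n IH =>
  intro G _ _ hn hG A hA h
  classical
  rcases subsingleton_or_nontrivial G with hs | hnt
  · intro a _
    rw [Subsingleton.elim a 1]
    exact one_mem _
  haveI := hG
  obtain ⟨N, hNn, hN0, -, hmin⟩ := CfsgLib.Coprime.exists_minimal_normal_le
    (N := (⊤ : Subgroup G)) top_ne_bot
  haveI := hNn
  obtain ⟨hNc, q, hq, hNq⟩ := CfsgLib.Coprime.minimal_normal_solvable hN0 hmin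
  haveI : Fact q.Prime := ⟨hq⟩
  have hNqg : IsPGroup q N := fun x => ⟨1, by rw [pow_one]; exact Subtype.ext (hNq x x.2)⟩
  set π := QuotientGroup.mk' N with hπdef
  have hπ : Function.Surjective π := QuotientGroup.mk'_surjective N
  have hlt : Nat.card (G ⧸ N) < n := by
    rw [← hn]
    have h1 := Subgroup.card_eq_card_quotient_mul_card_subgroup N
    have h2 : 1 < Nat.card N := by
      haveI := (Subgroup.nontrivial_iff_ne_bot N).2 hN0
      exact Finite.one_lt_card
    have h3 : 0 < Nat.card (G ⧸ N) := Nat.card_pos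
    nlinarith
  have hbar : A.map π ≤ Cfsg.pCore p (G ⧸ N) := by
    refine IH _ hlt (G ⧸ N) rfl inferInstance _ (hA.map π) fun c => ?_
    obtain ⟨c, rfl⟩ := hπ c
    obtain ⟨g, hcg, hsub⟩ := h c
    refine ⟨π g, π.map_isConj hcg, ?_⟩
    set J := A ⊔ A.map (MulAut.conj g).toMonoidHom with hJ
    have hmap : J.map π = A.map π ⊔ (A.map π).map (MulAut.conj (π g)).toMonoidHom := by
      rw [hJ, Subgroup.map_sup, Subgroup.map_map, Subgroup.map_map]
      congr 2
    let f : J →* ↥(A.map π ⊔ (A.map π).map (MulAut.conj (π g)).toMonoidHom) :=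
      (π.comp J.subtype).codRestrict _ fun j => hmap ▸ Subgroup.mem_map_of_mem π j.2
    have hf : Function.Surjective f := by
      rintro ⟨y, hy⟩
      obtain ⟨j, hj, rfl⟩ := (hmap.symm ▸ hy : y ∈ J.map π)
      exact ⟨⟨j, hj⟩, rfl⟩
    rintro ⟨y, hy⟩ hyA
    obtain ⟨a, ha, rfl⟩ := Subgroup.mem_subgroupOf.1 hyA
    exact CfsgLib.Coprime.map_pCore_le hf p
      ⟨⟨a, Subgroup.mem_sup_left ha⟩, hsub (Subgroup.mem_subgroupOf.2 ha), rfl⟩
  set M := (Cfsg.pCore p (G ⧸ N)).comap π with hMdef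
  haveI := CfsgLib.Coprime.pCore_normal' (G := G ⧸ N) p
  haveI hMn : M.Normal := inferInstance
  have hAM : A ≤ M := fun a ha => hbar (Subgroup.mem_map_of_mem π ha)
  have hMpow : ∀ m ∈ M, ∃ k, m ^ p ^ k ∈ N := by
    intro m hm
    obtain ⟨k, hk⟩ := (CfsgLib.Coprime.pCore_isPGroup p) ⟨π m, hm⟩
    refine ⟨k, (QuotientGroup.eq_one_iff _).1 ?_⟩
    have hk' := congrArg Subtype.val hk
    simpa [hπdef] using hk'
  by_cases hqp : q = p
  · subst hqp
    refine hAM.trans (CfsgLib.Coprime.le_pCore fun m => ?_)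
    obtain ⟨k, hk⟩ := hMpow m m.2
    refine ⟨k + 1, Subtype.ext ?_⟩
    rw [pow_succ, pow_mul]
    exact hNq _ hk
  have hcop : (Nat.card N).Coprime p := by
    obtain ⟨k, hk⟩ := IsPGroup.iff_card.1 hNqg
    rw [hk]
    exact ((Nat.coprime_primes hq Fact.out).2 hqp).pow_left k
  have hAcent : ∀ a ∈ A, ∀ v ∈ N, a * v * a⁻¹ = v := by
    by_contra hno
    push Not at hno
    obtain ⟨a, ha, v1, hv1, hav⟩ := hno
    letI : CommGroup N :=
      { (inferInstance : Group N) with mul_comm := fun x y => Subtype.ext (hNc x x.2 y y.2) }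
    let φ : G →* MulAut N := MulAut.conjNormal
    have hφ : ∀ (g : G) (v : N), ((φ g v : N) : G) = g * v * g⁻¹ := fun g v =>
      MulAut.conjNormal_apply g v
    have hφN : ∀ m ∈ N, φ m = 1 := fun m hm => MulEquiv.ext fun v => Subtype.ext (by
      rw [hφ, hNc m hm v v.2, mul_inv_cancel_right]; rfl)
    have hRp : IsPGroup p (M.map φ.rangeRestrict) := by
      rintro ⟨_, m, hm, rfl⟩
      obtain ⟨k, hk⟩ := hMpow m hm
      refine ⟨k, Subtype.ext (Subtype.ext ?_)⟩
      show φ m ^ p ^ k = 1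
      rw [← map_pow, hφN _ hk]
    haveI hRn : (M.map φ.rangeRestrict).Normal := hMn.map _ φ.rangeRestrict_surjective
    obtain ⟨e, he⟩ := IsPGroup.iff_orderOf.1 hA ⟨a, ha⟩
    have hape : φ a ^ p ^ e = 1 := by
      have h1 : a ^ p ^ e = 1 := by
        have h2 := congrArg Subtype.val (pow_orderOf_eq_one (⟨a, ha⟩ : A))
        rwa [he, SubgroupClass.coe_pow] at h2
      rw [← map_pow, h1, map_one]
    obtain ⟨i, hi1, hi2⟩ : ∃ i, φ a ^ p ^ i ≠ 1 ∧ φ a ^ p ^ (i + 1) = 1 := by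
      have hex : ∃ j, φ a ^ p ^ j = 1 := ⟨e, hape⟩
      have hj := Nat.find_spec hex
      have hpos : Nat.find hex ≠ 0 := by
        intro h0
        rw [h0, pow_zero, pow_one] at hj
        refine hav ?_
        have h3 := congrArg (fun f : MulAut N => ((f ⟨v1, hv1⟩ : N) : G)) hj
        simpa [hφ] using h3
      refine ⟨Nat.find hex - 1, Nat.find_min hex (by omega), ?_⟩
      rwa [Nat.sub_add_cancel (by omega)]
    set a' := a ^ p ^ i with ha'
    have ha'A : a' ∈ A := pow_mem ha _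
    let x : φ.range := φ.rangeRestrict a'
    have hxval : (x : MulAut N) = φ a' := rfl
    obtain ⟨v, hv⟩ := CfsgLib.FreeVec.exists_free_vector (H := φ.range) (V := N) hp
      (M.map φ.rangeRestrict) hRp hcop (x := x) ⟨a', hAM ha'A, rfl⟩
      (Subtype.ext (by
        show φ a' ^ p = 1
        rw [ha', map_pow, ← pow_mul, ← pow_succ, hi2]))
      (by
        by_contra! hall
        refine hi1 ?_
        rw [← map_pow, ← ha']
        exact MulEquiv.ext fun w => hall w)
    obtain ⟨g, hcg, hsub⟩ := h (v : G)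
    obtain ⟨k, hk⟩ := isConj_iff.1 hcg
    have hgN : g ∈ N := hk ▸ hNn.conj_mem _ v.2 k
    set J := A ⊔ A.map (MulAut.conj g).toMonoidHom with hJ
    have hfix : ∀ b ∈ A, b * g * b⁻¹ = g := by
      intro b hb
      set d := b * g * b⁻¹ * g⁻¹ with hd
      have hdN : d ∈ N := mul_mem (hNn.conj_mem g hgN b) (inv_mem hgN)
      have hdJ : d ∈ J := by
        have e : d = b * (g * b⁻¹ * g⁻¹) := by rw [hd]; group
        rw [e]
        exact mul_mem (Subgroup.mem_sup_left hb)
          (Subgroup.mem_sup_right ⟨b⁻¹, inv_mem hb, rfl⟩)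
      have hcomm : b * d * b⁻¹ * d⁻¹ = 1 := by
        let bJ : J := ⟨b, Subgroup.mem_sup_left hb⟩
        let dJ : J := ⟨d, hdJ⟩
        haveI := CfsgLib.Coprime.pCore_normal' (G := J) p
        have hbp : bJ ∈ Cfsg.pCore p J := hsub (Subgroup.mem_subgroupOf.2 hb)
        have hc : bJ * dJ * bJ⁻¹ * dJ⁻¹ ∈ Cfsg.pCore p J := by
          rw [mul_assoc, mul_assoc, ← mul_assoc dJ]
          exact mul_mem hbp ((inferInstance : (Cfsg.pCore p J).Normal).conj_mem _ (inv_mem hbp) dJ)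
        obtain ⟨k1, hk1⟩ := IsPGroup.iff_orderOf.1 (CfsgLib.Coprime.pCore_isPGroup p) ⟨_, hc⟩
        have hcN : b * d * b⁻¹ * d⁻¹ ∈ N := mul_mem (hNn.conj_mem d hdN b) (inv_mem hdN)
        refine orderOf_eq_one_iff.1 (Nat.eq_one_of_dvd_coprimes (hcop.pow_right k1) ?_ ?_)
        · rw [← Subgroup.orderOf_mk _ hcN]
          exact orderOf_dvd_natCard _
        · rw [← hk1, Subgroup.orderOf_mk, ← Subgroup.orderOf_coe]
          rfl
      have hpows : ∀ j : ℕ, b ^ j * g * (b ^ j)⁻¹ = d ^ j * g := by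
        intro j
        induction j with
        | zero => simp
        | succ j ih =>
          have hbd : b * d * b⁻¹ = d := mul_inv_eq_one.1 hcomm
          calc b ^ (j + 1) * g * (b ^ (j + 1))⁻¹ = b * (b ^ j * g * (b ^ j)⁻¹) * b⁻¹ := by
                rw [pow_succ']; group
            _ = (b * d * b⁻¹) ^ j * (b * g * b⁻¹ * g⁻¹) * g := by rw [ih, conj_pow]; group
            _ = d ^ (j + 1) * g := by rw [hbd, ← hd, pow_succ]
      obtain ⟨k1, hk1⟩ := IsPGroup.iff_orderOf.1 hA ⟨b, hb⟩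
      rw [Subgroup.orderOf_mk] at hk1
      have h1 := hpows (p ^ k1)
      rw [← hk1, pow_orderOf_eq_one, one_mul, inv_one, mul_one, hk1, eq_comm, mul_eq_right] at h1
      have hd1 : d = 1 := orderOf_eq_one_iff.1 (Nat.eq_one_of_dvd_coprimes (hcop.pow_right k1)
        (by rw [← Subgroup.orderOf_mk _ hdN]; exact orderOf_dvd_natCard _)
        (orderOf_dvd_of_pow_eq_one h1))
      exact mul_inv_eq_one.1 hd1
    refine hv (φ.rangeRestrict k⁻¹) (Subtype.ext ?_)
    show (((φ k⁻¹ * φ a' * (φ k⁻¹)⁻¹) v : N) : G) = v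
    rw [← map_inv φ, ← map_mul φ, ← map_mul φ, hφ]
    calc k⁻¹ * a' * k⁻¹⁻¹ * (v : G) * (k⁻¹ * a' * k⁻¹⁻¹)⁻¹
        = k⁻¹ * (a' * (k * v * k⁻¹) * a'⁻¹) * k := by group
      _ = v := by rw [hk, hfix a' ha'A, ← hk]; group
  set M₀ := M ⊓ Subgroup.centralizer (N : Set G) with hM₀
  haveI : M₀.Normal := inferInstance
  have hAM₀ : A ≤ M₀ := fun a ha => ⟨hAM ha, Subgroup.mem_centralizer_iff.2 fun v hv =>
    (mul_inv_eq_iff_eq_mul.1 (hAcent a ha v hv)).symm⟩
  have hcen : ∀ m : M₀, ∃ k, m ^ p ^ k ∈ Subgroup.center M₀ := fun m => by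
    obtain ⟨k, hk⟩ := hMpow m m.2.1
    exact ⟨k, Subgroup.mem_center_iff.2 fun b => Subtype.ext
      (Subgroup.mem_centralizer_iff.1 b.2.2 _ hk).symm⟩
  have hQp : IsPGroup p (M₀ ⧸ Subgroup.center M₀) := by
    intro x
    obtain ⟨m, rfl⟩ := QuotientGroup.mk_surjective x
    obtain ⟨k, hk⟩ := hcen m
    exact ⟨k, by rw [← QuotientGroup.mk_pow]; exact (QuotientGroup.eq_one_iff _).2 hk⟩
  haveI := hQp.isNilpotent
  haveI : Group.IsNilpotent M₀ := Subgroup.isNilpotent_of_ker_le_center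
    (QuotientGroup.mk' (Subgroup.center M₀)) (QuotientGroup.ker_mk' _).le
  have hAp : IsPGroup p (A.subgroupOf M₀) := hA.comap_of_injective M₀.subtype M₀.subtype_injective
  have h1 := Subgroup.map_mono (f := M₀.subtype)
    (CfsgLib.Coprime.le_pCore_of_isSubnormal (CfsgLib.PGroup.isSubnormal_of_isNilpotent _) hAp)
  rw [CfsgLib.Coprime.pCore_map_subtype_eq, Subgroup.map_subgroupOf_eq_of_le hAM₀] at h1
  exact h1.trans inf_le_left

/-- Let G be a finite solvable group, p an odd prime and A a p-subgroup of G such that every conjugacy class of G contains an element g for which A is subnormal in the subgroup generated by A and its conjugate by g. Then A is contained in O_p(G). (The hypothesis that p is odd is needed.) -/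
theorem result {G : Type*} [Group G] [Finite G]
    (hG : Group.IsSolvable G) (p : ℕ) [Fact p.Prime] (hp : p ≠ 2) (A : Subgroup G) (hA : IsPGroup p A)
    (h : ∀ c : G, ∃ g : G, IsConj c g ∧ (A.subgroupOf (A ⊔ MulAut.conj g • A)).IsSubnormal) :
    A ≤ Cfsg.pCore p G := by
  refine core hp (Nat.card G) G rfl hG A hA fun c => ?_
  obtain ⟨g, hcg, hsn⟩ := h c
  exact ⟨g, hcg, CfsgLib.Coprime.le_pCore_of_isSubnormal hsn
    (hA.comap_of_injective (A ⊔ MulAut.conj g • A).subtype (Subgroup.subtype_injective _))⟩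

end Cfsg.Agent.S4330
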