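import Cfsg.Statements.S4331
import Mathlib.FieldTheory.Finite.GaloisField
import Mathlib.GroupTheory.Solvable
import Mathlib.GroupTheory.PGroup
import Cfsg.Agent.Lib.PGroup.Basic
-- import your own Cfsg.Agent.* helpers here

set_option autoImplicit false
open Cfsg

namespace Cfsg.Agent.S4331

open Equiv
open scoped commutatorElement

noncomputable section

private abbrev K := GaloisField 3 2

private theorem nine (x : K) : (x ^ 3) ^ 3 = x := by
  haveI := Fintype.ofFinite K
  have h : Nat.card K = 9 := GaloisField.card 3 2 two_ne_zero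
  rw [← pow_mul, show 3 * 3 = Fintype.card K by rw [← Nat.card_eq_fintype_card, h]]
  exact FiniteField.pow_card x

private theorem eight {x : K} (hx : x ≠ 0) : x ^ 8 = 1 := by
  have h := nine x
  rw [← pow_mul, show 3 * 3 = 8 + 1 by rfl, pow_succ] at h
  exact (mul_eq_right₀ hx).1 h

/-- The Frobenius map, as a permutation. -/
private def σ : Perm K where
  toFun x := x ^ 3
  invFun x := x ^ 3
  left_inv := nine
  right_inv := nine

private theorem σ_apply (x : K) : σ x = x ^ 3 := rfl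

private theorem σ_add (x y : K) : σ (x + y) = σ x + σ y := add_pow_char x y 3

private theorem σ_mul (x y : K) : σ (x * y) = σ x * σ y := mul_pow x y 3

private theorem σ_σ (x : K) : σ (σ x) = x := nine x

private theorem σ_zero : σ (0 : K) = 0 := zero_pow (by norm_num)

private theorem σ_ne_zero {x : K} (h : x ≠ 0) : σ x ≠ 0 := pow_ne_zero 3 h

private theorem σ_neg (x : K) : σ (-x) = -σ x := by
  rw [σ_apply, σ_apply, Odd.neg_pow (by decide)]

private theorem exists_moved : ∃ x : K, σ x ≠ x := by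
  classical
  by_contra h
  push Not at h
  haveI := Fintype.ofFinite K
  let f : Polynomial K := Polynomial.X ^ 3 - Polynomial.X
  have hd : f.natDegree = 3 := by
    simp only [f]
    rw [Polynomial.natDegree_sub_eq_left_of_natDegree_lt] <;> simp
  have hf : f ≠ 0 := fun e => by rw [e, Polynomial.natDegree_zero] at hd; omega
  have h1 := Polynomial.card_le_degree_of_subset_roots (p := f) (Z := Finset.univ) (fun r _ => by
    rw [Polynomial.mem_roots hf]
    simp [f, ← σ_apply, h r])
  rw [hd, Finset.card_univ, ← Nat.card_eq_fintype_card, GaloisField.card 3 2 two_ne_zero] at h1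
  norm_num at h1

/-- Semilinear affine maps. -/
private def IsAff (f : Perm K) : Prop :=
  ∃ v a : K, a ≠ 0 ∧ ((∀ x, f x = v + a * x) ∨ (∀ x, f x = v + a * σ x))

private theorem isAff_mul {f g : Perm K} (hf : IsAff f) (hg : IsAff g) : IsAff (f * g) := by
  obtain ⟨v, a, ha, hf⟩ := hf
  obtain ⟨w, b, hb, hg⟩ := hg
  rcases hf with hf | hf <;> rcases hg with hg | hg
  · exact ⟨v + a * w, a * b, mul_ne_zero ha hb, Or.inl fun x => by rw [Perm.mul_apply, hg, hf]; ring⟩
  · exact ⟨v + a * w, a * b, mul_ne_zero ha hb, Or.inr fun x => by rw [Perm.mul_apply, hg, hf]; ring⟩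
  · exact ⟨v + a * σ w, a * σ b, mul_ne_zero ha (σ_ne_zero hb),
      Or.inr fun x => by rw [Perm.mul_apply, hg, hf, σ_add, σ_mul]; ring⟩
  · exact ⟨v + a * σ w, a * σ b, mul_ne_zero ha (σ_ne_zero hb),
      Or.inl fun x => by rw [Perm.mul_apply, hg, hf, σ_add, σ_mul, σ_σ]; ring⟩

private def Γ : Subgroup (Perm K) where
  carrier := {f | IsAff f}
  one_mem' := ⟨0, 1, one_ne_zero, Or.inl fun x => by simp⟩
  mul_mem' := isAff_mul
  inv_mem' := fun {f} hf => by
    have h : ∀ n : ℕ, IsAff (f ^ n) := by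
      intro n
      induction n with
      | zero => exact ⟨0, 1, one_ne_zero, Or.inl fun x => by simp⟩
      | succ n ih => exact (pow_succ f n) ▸ isAff_mul ih hf
    show IsAff f⁻¹
    rw [← inv_inv f⁻¹]
    have h1 : f⁻¹ = f ^ (orderOf f - 1) := by
      rw [inv_eq_iff_mul_eq_one, ← pow_succ', Nat.sub_add_cancel (orderOf_pos f), pow_orderOf_eq_one]
    rw [inv_inv, h1]
    exact h _

private def t : Γ := ⟨σ, 0, 1, one_ne_zero, Or.inr fun x => by simp⟩

private theorem t_mul : t * t = 1 := Subtype.ext (Equiv.ext σ_σ)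

private theorem t_ne : t ≠ 1 := by
  obtain ⟨x, hx⟩ := exists_moved
  exact fun h => hx (DFunLike.congr_fun (congrArg Subtype.val h) x)

private def mulPerm (a : K) (ha : a ≠ 0) : Γ :=
  ⟨Equiv.mulLeft₀ a ha, 0, a, ha, Or.inl fun x => by simp⟩

private def transPerm (w : K) : Γ := ⟨Equiv.addLeft w, w, 1, one_ne_zero, Or.inl fun x => by simp⟩

/-- The maps fixing `0`. -/
private def H0 : Subgroup Γ where
  carrier := {f | f.1 0 = 0}
  one_mem' := rfl
  mul_mem' := fun {f g} hf hg => by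
    show f.1 (g.1 0) = 0
    rw [hg, hf]
  inv_mem' := fun {f} hf => by
    show f.1⁻¹ 0 = 0
    exact f.1.injective ((f.1.apply_symm_apply 0).trans hf.symm)

private theorem H0_isPGroup : IsPGroup 2 H0 := by
  rintro ⟨⟨f, hf'⟩, hf0⟩
  refine ⟨4, Subtype.ext (Subtype.ext (Equiv.ext fun x => ?_))⟩
  show (f ^ 2 ^ 4) x = x
  obtain ⟨v, a, ha, hf⟩ := hf'
  have hv : v = 0 := by
    rcases hf with hf | hf
    · simpa [hf 0] using (show f 0 = 0 from hf0)
    · simpa [hf 0, σ_zero] using (show f 0 = 0 from hf0)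
  obtain ⟨b, hb, hsq⟩ : ∃ b : K, b ≠ 0 ∧ ∀ y, (f ^ 2) y = b * y := by
    rcases hf with hf | hf
    · exact ⟨a * a, mul_ne_zero ha ha, fun y => by rw [pow_two, Perm.mul_apply, hf, hf, hv]; ring⟩
    · exact ⟨a * σ a, mul_ne_zero ha (σ_ne_zero ha), fun y => by
        rw [pow_two, Perm.mul_apply, hf, hf, hv, zero_add, zero_add, σ_mul, σ_σ, mul_assoc]⟩
  have hk : ∀ k : ℕ, ∀ y, ((f ^ 2) ^ k) y = b ^ k * y := by
    intro k
    induction k with
    | zero => intro y; simp
    | succ k ih => intro y; rw [pow_succ, Perm.mul_apply, hsq, ih, pow_succ, mul_assoc]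
  rw [show 2 ^ 4 = 2 * 8 by rfl, pow_mul, hk, eight hb, one_mul]

private theorem solvable : Group.IsSolvable Γ := by
  let A1 : Subgroup Γ :=
    { carrier := {f | ∃ v a : K, a ≠ 0 ∧ ∀ x, f.1 x = v + a * x}
      one_mem' := ⟨0, 1, one_ne_zero, fun x => by simp⟩
      mul_mem' := by
        rintro f g ⟨v, a, ha, hf⟩ ⟨w, b, hb, hg⟩
        exact ⟨v + a * w, a * b, mul_ne_zero ha hb, fun x => by
          show f.1 (g.1 x) = _
          rw [hg, hf]; ring⟩
      inv_mem' := by
        rintro f ⟨v, a, ha, hf⟩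
        exact ⟨-(a⁻¹ * v), a⁻¹, inv_ne_zero ha, fun x => f.1.injective (by
          show f.1 (f.1⁻¹ x) = _
          rw [Perm.coe_inv, Equiv.apply_symm_apply, hf]
          field_simp
          ring)⟩ }
  have h1 : ∀ f g : Γ, ⁅f, g⁆ ∈ A1 := by
    intro f g
    -- the twist is a homomorphism to a group of order two
    have key : ∀ h : Γ, h ∈ A1 ∨ t * h ∈ A1 := by
      rintro ⟨h, v, a, ha, hh | hh⟩
      · exact Or.inl ⟨v, a, ha, hh⟩
      · exact Or.inr ⟨σ v, σ a, σ_ne_zero ha, fun x => by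
          show σ (h x) = _
          rw [hh, σ_add, σ_mul, σ_σ]⟩
    have hn : ∀ h ∈ A1, t * h * t ∈ A1 := by
      rintro h ⟨v, a, ha, hh⟩
      exact ⟨σ v, σ a, σ_ne_zero ha, fun x => by
        show σ (h.1 (σ x)) = _
        rw [hh, σ_add, σ_mul, σ_σ]⟩
    have hinv : t⁻¹ = t := inv_eq_of_mul_eq_one_right t_mul
    rw [commutatorElement_def]
    rcases key f with hf | hf <;> rcases key g with hg | hg
    · exact mul_mem (mul_mem (mul_mem hf hg) (inv_mem hf)) (inv_mem hg)
    · have e : f * g * f⁻¹ * g⁻¹ = f * (t * (t * g) * f⁻¹ * (t * g)⁻¹ * t) := by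
        rw [← mul_assoc t t g, t_mul, one_mul, mul_inv_rev, hinv]
        simp only [mul_assoc, t_mul, mul_one]
      rw [e]
      refine mul_mem hf ?_
      have := hn _ (mul_mem (mul_mem hg (inv_mem hf)) (inv_mem hg))
      simpa only [mul_assoc] using this
    · have e : f * g * f⁻¹ * g⁻¹ = (t * (t * f * g * (t * f)⁻¹) * t) * g⁻¹ := by
        simp only [mul_inv_rev, hinv, mul_assoc, t_mul, mul_one]
        simp only [← mul_assoc, t_mul, one_mul]
      rw [e]
      exact mul_mem (hn _ (mul_mem (mul_mem hf hg) (inv_mem hf))) (inv_mem hg)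
    · have e : f * g * f⁻¹ * g⁻¹ =
          (t * (t * f) * t) * (t * g) * (t * f)⁻¹ * (t * (t * g)⁻¹ * t) := by
        have ht : ∀ z : Γ, t * (t * z) = z := fun z => by rw [← mul_assoc, t_mul, one_mul]
        simp only [mul_inv_rev, hinv, mul_assoc, ht, t_mul, mul_one]
      rw [e]
      exact mul_mem (mul_mem (mul_mem (hn _ hf) hg) (inv_mem hf)) (hn _ (inv_mem hg))
  let T : Subgroup Γ :=
    { carrier := {f | ∃ v : K, ∀ x, f.1 x = v + x}
      one_mem' := ⟨0, fun x => by simp⟩
      mul_mem' := by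
        rintro f g ⟨v, hf⟩ ⟨w, hg⟩
        exact ⟨v + w, fun x => by show f.1 (g.1 x) = _; rw [hg, hf]; ring⟩
      inv_mem' := by
        rintro f ⟨v, hf⟩
        exact ⟨-v, fun x => f.1.injective (by
          show f.1 (f.1⁻¹ x) = _
          rw [Perm.coe_inv, Equiv.apply_symm_apply, hf]; ring)⟩ }
  have h2 : ∀ f ∈ A1, ∀ g ∈ A1, ⁅f, g⁆ ∈ T := by
    rintro f ⟨v, a, ha, hf⟩ g ⟨w, b, hb, hg⟩
    have hfi : ∀ x, f.1⁻¹ x = (x - v) / a := fun x => f.1.injective (by
      rw [Perm.coe_inv, Equiv.apply_symm_apply, hf]; field_simp; ring)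
    have hgi : ∀ x, g.1⁻¹ x = (x - w) / b := fun x => g.1.injective (by
      rw [Perm.coe_inv, Equiv.apply_symm_apply, hg]; field_simp; ring)
    refine ⟨v + a * w - b * v - w, fun x => ?_⟩
    show f.1 (g.1 (f.1⁻¹ (g.1⁻¹ x))) = _
    rw [hgi, hfi, hg, hf]
    field_simp
    ring
  refine ⟨3, ?_⟩
  have d1 : derivedSeries Γ 1 ≤ A1 := by
    rw [derivedSeries_succ, Subgroup.commutator_le]
    exact fun f _ g _ => h1 f g
  have d2 : derivedSeries Γ 2 ≤ T := by
    rw [derivedSeries_succ, Subgroup.commutator_le]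
    exact fun f hf g hg => h2 f (d1 hf) g (d1 hg)
  rw [derivedSeries_succ, eq_bot_iff, Subgroup.commutator_le]
  intro f hf g hg
  obtain ⟨v, hv⟩ := d2 hf
  obtain ⟨w, hw⟩ := d2 hg
  rw [Subgroup.mem_bot, commutatorElement_eq_one_iff_mul_comm]
  exact Subtype.ext (Equiv.ext fun x => by
    show f.1 (g.1 x) = g.1 (f.1 x)
    rw [hw, hv, hv, hw]; ring)

private theorem reps (c : Γ) : ∃ k : Γ, k * c * k⁻¹ ∈ H0 ∨ Commute t (k * c * k⁻¹) := by
  classical
  haveI := Fintype.ofFinite K
  -- a point fixed by the map allows moving it into `H0`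
  by_cases hfix : ∃ x, c.1 x = x
  · obtain ⟨x, hx⟩ := hfix
    refine ⟨transPerm (-x), Or.inl ?_⟩
    show (transPerm (-x)).1 (c.1 ((transPerm (-x)).1⁻¹ 0)) = 0
    have : (transPerm (-x)).1⁻¹ 0 = x := (transPerm (-x)).1.injective (by
      rw [Perm.coe_inv, Equiv.apply_symm_apply]; simp [transPerm])
    rw [this, hx]
    simp [transPerm]
  push Not at hfix
  obtain ⟨v, a, ha, hc⟩ := c.2
  rcases hc with hc | hc
  · -- a translation
    have ha1 : a = 1 := by
      by_contra h
      exact hfix (v / (1 - a)) (by rw [hc]; field_simp [sub_ne_zero.2 (Ne.symm h)]; ring)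
    have hv : v ≠ 0 := fun h => hfix 0 (by rw [hc, h]; simp)
    refine ⟨mulPerm v⁻¹ (inv_ne_zero hv), Or.inr (Subtype.ext (Equiv.ext fun x => ?_))⟩
    have hk : ∀ y, (mulPerm v⁻¹ (inv_ne_zero hv) * c * (mulPerm v⁻¹ (inv_ne_zero hv))⁻¹).1 y = 1 + y := by
      intro y
      show v⁻¹ * (c.1 ((mulPerm v⁻¹ (inv_ne_zero hv)).1⁻¹ y)) = 1 + y
      rw [show (mulPerm v⁻¹ (inv_ne_zero hv)).1⁻¹ y = v * y from
        (mulPerm v⁻¹ (inv_ne_zero hv)).1.injective (by
          rw [Perm.coe_inv, Equiv.apply_symm_apply]; simp [mulPerm, hv]), hc, ha1]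
      field_simp
    show σ ((mulPerm v⁻¹ (inv_ne_zero hv) * c * (mulPerm v⁻¹ (inv_ne_zero hv))⁻¹).1 x) =
      (mulPerm v⁻¹ (inv_ne_zero hv) * c * (mulPerm v⁻¹ (inv_ne_zero hv))⁻¹).1 (σ x)
    rw [hk, hk, σ_add]
    simp [σ_apply]
  · -- a twisted map without fixed point
    have hinj : ∃ x, x ≠ 0 ∧ a * σ x = x := by
      by_contra h
      push Not at h
      have hf : Function.Injective (fun x => x - a * σ x) := by
        intro x y (e : x - a * σ x = y - a * σ y)
        by_contra hne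
        refine h (x - y) (sub_ne_zero.2 hne) ?_
        rw [sub_eq_add_neg x y, σ_add, σ_neg]
        linear_combination -e
      obtain ⟨x, hx⟩ := Finite.injective_iff_surjective.1 hf v
      exact hfix x (by rw [hc]; linear_combination -(hx : x - a * σ x = v))
    obtain ⟨x, hx0, hx⟩ := hinj
    set w := v / x with hw
    set z := σ w - w with hz
    have hchar : (3 : K) = 0 := by exact_mod_cast CharP.cast_eq_zero K 3
    have hsz : σ z = -z := by
      rw [hz, sub_eq_add_neg (σ w) w, σ_add, σ_σ, σ_neg]; ring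
    have hfixed : σ (w + (z - σ z)) = w + (z - σ z) := by
      rw [hsz, sub_neg_eq_add, σ_add, σ_add, hsz]
      linear_combination -z * hchar - hz
    refine ⟨transPerm z * mulPerm x⁻¹ (inv_ne_zero hx0), Or.inr (Subtype.ext (Equiv.ext fun y => ?_))⟩
    have hk : ∀ y, (transPerm z * mulPerm x⁻¹ (inv_ne_zero hx0) * c *
        (transPerm z * mulPerm x⁻¹ (inv_ne_zero hx0))⁻¹).1 y = w + (z - σ z) + σ y := by
      intro y
      show z + x⁻¹ * (c.1 ((transPerm z * mulPerm x⁻¹ (inv_ne_zero hx0)).1⁻¹ y)) = _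
      rw [show (transPerm z * mulPerm x⁻¹ (inv_ne_zero hx0)).1⁻¹ y = x * (y - z) from
        (transPerm z * mulPerm x⁻¹ (inv_ne_zero hx0)).1.injective (by
          rw [Perm.coe_inv, Equiv.apply_symm_apply]; simp [transPerm, mulPerm, hx0]), hc, σ_mul,
        ← mul_assoc, hx, sub_eq_add_neg y z, σ_add, σ_neg, hw]
      field_simp
      ring
    show σ ((transPerm z * mulPerm x⁻¹ (inv_ne_zero hx0) * c *
        (transPerm z * mulPerm x⁻¹ (inv_ne_zero hx0))⁻¹).1 y) =
      (transPerm z * mulPerm x⁻¹ (inv_ne_zero hx0) * c *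
        (transPerm z * mulPerm x⁻¹ (inv_ne_zero hx0))⁻¹).1 (σ y)
    rw [hk, hk, σ_add, hfixed]

/-- There is a finite solvable group G with a subgroup A of order 2 such that every conjugacy class of G contains an element g for which A is subnormal in the subgroup generated by A and g, and yet A is not contained in O_2(G). (So the corresponding criteria for odd primes fail at the prime 2, even for solvable groups.) -/
theorem result :
    ∃ (G : Type) (_ : Group G) (_ : Finite G) (A : Subgroup G), Group.IsSolvable G ∧ Nat.card A = 2 ∧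
      (∀ c : G, ∃ g : G, IsConj c g ∧ (A.subgroupOf (A ⊔ Subgroup.zpowers g)).IsSubnormal) ∧
      ¬ A ≤ Cfsg.pCore 2 G := by
  classical
  haveI : Fact (Nat.Prime 2) := ⟨Nat.prime_two⟩
  have hto : orderOf t = 2 := orderOf_eq_prime (by rw [pow_two, t_mul]) t_ne
  refine ⟨Γ, inferInstance, inferInstance, Subgroup.zpowers t, solvable,
    by rw [Nat.card_zpowers, hto], fun c => ?_, ?_⟩
  · obtain ⟨k, hk⟩ := reps c
    refine ⟨k * c * k⁻¹, isConj_iff.2 ⟨k, rfl⟩, ?_⟩
    rcases hk with hk | hk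
    · have hle : Subgroup.zpowers t ⊔ Subgroup.zpowers (k * c * k⁻¹) ≤ H0 :=
        sup_le (Subgroup.zpowers_le.2 σ_zero) (Subgroup.zpowers_le.2 hk)
      haveI := (H0_isPGroup.to_le hle).isNilpotent
      exact CfsgLib.PGroup.isSubnormal_of_isNilpotent _
    · refine Subgroup.Normal.isSubnormal ?_
      rw [Subgroup.normal_subgroupOf_iff_le_normalizer le_sup_left]
      refine sup_le Subgroup.le_normalizer (le_trans ?_ (Subgroup.centralizer_le_normalizer _))
      rw [Subgroup.zpowers_le, Subgroup.mem_centralizer_iff]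
      rintro _ ⟨i, rfl⟩
      exact (hk.zpow_left i).eq
  · intro h
    have hn : (Cfsg.pCore 2 Γ).Normal := Subgroup.sSup_normal _ fun _ hM => hM.1
    have hp : IsPGroup 2 (Cfsg.pCore 2 Γ) := CfsgLib.PGroup.isPGroup_pCore 2 Γ
    obtain ⟨x, hx⟩ := exists_moved
    have ht := h (Subgroup.mem_zpowers t)
    have hmem : transPerm x * t * (transPerm x)⁻¹ * t ∈ Cfsg.pCore 2 Γ :=
      mul_mem (hn.conj_mem t ht _) ht
    obtain ⟨j, hj⟩ := hp ⟨_, hmem⟩
    have hval : ∀ y, (transPerm x * t * (transPerm x)⁻¹ * t).1 y = (x - σ x) + y := by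
      intro y
      show x + σ ((transPerm x).1⁻¹ (σ y)) = _
      rw [show (transPerm x).1⁻¹ (σ y) = σ y + -x from (transPerm x).1.injective (by
        rw [Perm.coe_inv, Equiv.apply_symm_apply]; simp [transPerm]), σ_add, σ_σ, σ_neg]
      ring
    set u := transPerm x * t * (transPerm x)⁻¹ * t
    have hpow : ∀ n : ℕ, (u ^ n).1 0 = n • (x - σ x) := by
      intro n
      induction n with
      | zero => simp
      | succ n ih =>
        rw [pow_succ']
        show u.1 ((u ^ n).1 0) = _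
        rw [hval, ih, succ_nsmul']
    have h0 : (2 ^ j) • (x - σ x) = 0 := by
      rw [← hpow, show u ^ 2 ^ j = 1 from congrArg Subtype.val hj]
      rfl
    have h3 : (3 : ℕ) • (x - σ x) = 0 := by
      rw [nsmul_eq_mul, CharP.cast_eq_zero K 3, zero_mul]
    have hd1 := addOrderOf_dvd_of_nsmul_eq_zero h0
    have hd3 := addOrderOf_dvd_of_nsmul_eq_zero h3
    have h1 : addOrderOf (x - σ x) = 1 :=
      Nat.eq_one_of_dvd_coprimes ((by norm_num : Nat.Coprime 2 3).pow_left j) hd1 hd3
    exact hx (sub_eq_zero.1 (AddMonoid.addOrderOf_eq_one_iff.1 h1)).symm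

end

end Cfsg.Agent.S4331
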