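import Cfsg.Statements.S4332
import Mathlib.GroupTheory.Perm.Cycle.Type
import Mathlib.GroupTheory.GroupAction.Quotient
-- import your own Cfsg.Agent.* helpers here

set_option autoImplicit false
open Pointwise
open Cfsg

namespace Cfsg.Agent.S4332

open Equiv
open scoped Pointwise

private theorem triples (c : Perm (Fin 8)) : ∃ a b d : Fin 8, a ≠ b ∧ a ≠ d ∧ b ≠ d ∧
    ((∀ u ∈ [a, b, d], c u ∈ [a, b, d]) ∨ (∀ u ∈ [a, b, d], c u ∉ [a, b, d])) := by
  classical
  set m := Finset.univ.filter (fun x => c x ≠ x) with hm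
  by_cases h3 : ∃ a b d, a ≠ b ∧ a ≠ d ∧ b ≠ d ∧ c a = a ∧ c b = b ∧ c d = d
  · obtain ⟨a, b, d, h1, h2, h3, e1, e2, e3⟩ := h3
    exact ⟨a, b, d, h1, h2, h3, Or.inl (by simp [e1, e2, e3])⟩
  have hfix : (Finset.univ.filter (fun x => c x = x)).card ≤ 2 := by
    by_contra h
    obtain ⟨a, b, d, ha, hb, hd, h1, h2, h3'⟩ := (Finset.two_lt_card_iff (s := Finset.univ.filter (fun x => c x = x))).1 (by omega)
    simp only [Finset.mem_filter, Finset.mem_univ, true_and] at ha hb hd
    exact h3 ⟨a, b, d, h1, h2, h3', ha, hb, hd⟩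
  have hcard : 6 ≤ m.card := by
    have h := Finset.card_filter_add_card_filter_not (s := (Finset.univ : Finset (Fin 8)))
      (fun x => c x = x)
    rw [Finset.card_univ, Fintype.card_fin] at h
    simp only [hm, ne_eq]
    omega
  by_cases hc3 : ∃ x, c x ≠ x ∧ c (c (c x)) = x
  · obtain ⟨x, hx, hx3⟩ := hc3
    refine ⟨x, c x, c (c x), Ne.symm hx, fun e => hx ?_, fun e => hx (c.injective e.symm),
      Or.inl (by simp [hx3])⟩
    have := congrArg c e
    rwa [hx3] at this
  push Not at hc3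
  have pick : ∀ R : Finset (Fin 8), R.card ≤ 5 → ∃ z, c z ≠ z ∧ z ∉ R := by
    intro R hR
    obtain ⟨z, hz, hzR⟩ := Finset.exists_mem_notMem_of_card_lt_card
      (show R.card < m.card by omega)
    exact ⟨z, (Finset.mem_filter.1 hz).2, hzR⟩
  have finish : ∀ a b : Fin 8, a ≠ b → c a ≠ a → c b ≠ b → c a ≠ b → c b ≠ a →
      ({a, b, c a, c b, c⁻¹ a, c⁻¹ b} : Finset (Fin 8)).card ≤ 5 →
      ∃ a b d : Fin 8, a ≠ b ∧ a ≠ d ∧ b ≠ d ∧
        ((∀ u ∈ [a, b, d], c u ∈ [a, b, d]) ∨ (∀ u ∈ [a, b, d], c u ∉ [a, b, d])) := by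
    intro a b hab ha hb hab' hba' hR
    obtain ⟨z, hz, hzR⟩ := pick _ hR
    simp only [Finset.mem_insert, Finset.mem_singleton, not_or] at hzR
    obtain ⟨za, zb, zca, zcb, zia, zib⟩ := hzR
    have hza : c z ≠ a := fun e => zia (by rw [← e]; simp)
    have hzb : c z ≠ b := fun e => zib (by rw [← e]; simp)
    exact ⟨a, b, z, hab, Ne.symm za, Ne.symm zb, Or.inr (by
      simp [ha, hb, hab', hba', hz, Ne.symm zca, Ne.symm zcb, hza, hzb])⟩
  by_cases h2 : ∃ x, c x ≠ x ∧ c (c x) = x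
  · obtain ⟨x, hx, hx2⟩ := h2
    obtain ⟨y, hy, hyR⟩ := pick {x, c x} ((Finset.card_le_two).trans (by norm_num))
    simp only [Finset.mem_insert, Finset.mem_singleton, not_or] at hyR
    refine finish x y (Ne.symm hyR.1) hx hy (Ne.symm hyR.2)
      (fun e => hyR.2 (c.injective (by rw [e, hx2]))) ?_
    have : c⁻¹ x = c x := c.injective (by simp [hx2])
    rw [this]
    refine (Finset.card_le_card (?_ : _ ⊆ ({x, y, c x, c y, c⁻¹ y} : Finset (Fin 8)))).trans ?_
    · intro u hu
      simp only [Finset.mem_insert, Finset.mem_singleton] at hu ⊢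
      tauto
    · exact Finset.card_le_five
  push Not at h2
  obtain ⟨x, hx, -⟩ := pick ∅ (by simp)
  refine finish x (c (c x)) (Ne.symm (h2 x hx)) hx (fun e => hx (c.injective (c.injective e)))
    (fun e => hx (c.injective e.symm)) (hc3 x hx) ?_
  refine (Finset.card_le_card (?_ : _ ⊆ ({x, c (c x), c x, c (c (c x)), c⁻¹ x} : Finset (Fin 8)))).trans ?_
  · intro u hu
    simp only [Finset.mem_insert, Finset.mem_singleton] at hu ⊢
    have : c⁻¹ (c (c x)) = c x := by simp
    rw [this] at hu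
    tauto
  · exact Finset.card_le_five

private def σ₀ : Perm (Fin 8) := swap 0 1 * swap 0 2

set_option maxRecDepth 100000 in
private theorem small_commute : ∀ a b d : Fin 3, a ≠ b → a ≠ d → b ≠ d →
    let f : Fin 3 → Fin 8 := Fin.castLE (by norm_num)
    (swap (f a) (f b) * swap (f a) (f d)) * σ₀ = σ₀ * (swap (f a) (f b) * swap (f a) (f d)) := by
  decide

private theorem commute_of_triple (g : Perm (Fin 8))
    (h : (∀ u ∈ [(0 : Fin 8), 1, 2], g u ∈ [(0 : Fin 8), 1, 2]) ∨
      (∀ u ∈ [(0 : Fin 8), 1, 2], g u ∉ [(0 : Fin 8), 1, 2])) :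
    Commute σ₀ (g * σ₀ * g⁻¹) := by
  have e : g * σ₀ * g⁻¹ = swap (g 0) (g 1) * swap (g 0) (g 2) := by
    rw [σ₀, Equiv.swap_apply_apply, Equiv.swap_apply_apply]
    group
  rw [e]
  rcases h with h | h
  · simp only [List.mem_cons, List.not_mem_nil, or_false, forall_eq_or_imp, forall_eq] at h
    have key : ∀ w : Fin 8, (w = 0 ∨ w = 1 ∨ w = 2) → ∃ a : Fin 3, w = Fin.castLE (by norm_num) a := by
      rintro w (rfl | rfl | rfl)
      · exact ⟨0, rfl⟩
      · exact ⟨1, rfl⟩
      · exact ⟨2, rfl⟩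
    obtain ⟨a, ha⟩ := key _ h.1
    obtain ⟨b, hb⟩ := key _ h.2.1
    obtain ⟨d, hd⟩ := key _ h.2.2
    rw [ha, hb, hd]
    refine (small_commute a b d ?_ ?_ ?_).symm
    · rintro rfl; exact absurd (g.injective (ha.trans hb.symm)) (by decide)
    · rintro rfl; exact absurd (g.injective (ha.trans hd.symm)) (by decide)
    · rintro rfl; exact absurd (g.injective (hb.trans hd.symm)) (by decide)
  · refine (Perm.Disjoint.commute ?_)
    intro u
    by_cases hu : u ∈ [(0 : Fin 8), 1, 2]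
    · right
      have h0 := h 0 (by simp)
      have h1 := h 1 (by simp)
      have h2 := h 2 (by simp)
      rw [Perm.mul_apply]
      have n0 : u ≠ g 0 := fun e => h0 (e ▸ hu)
      have n1 : u ≠ g 1 := fun e => h1 (e ▸ hu)
      have n2 : u ≠ g 2 := fun e => h2 (e ▸ hu)
      rw [swap_apply_of_ne_of_ne n0 n2, swap_apply_of_ne_of_ne n0 n1]
    · left
      simp only [List.mem_cons, List.not_mem_nil, or_false, not_or] at hu
      rw [σ₀, Perm.mul_apply, swap_apply_of_ne_of_ne hu.1 hu.2.2, swap_apply_of_ne_of_ne hu.1 hu.2.1]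


/-- In the symmetric group of degree 8, let A be the subgroup generated by a 3-cycle. Then every conjugacy class contains an element g for which A is subnormal in the subgroup generated by A and its conjugate by g, although O_3 of the symmetric group of degree 8 is trivial. -/
theorem result
    (σ : Equiv.Perm (Fin 8)) (hσ : σ.IsThreeCycle) :
    (∀ c : Equiv.Perm (Fin 8), ∃ g : Equiv.Perm (Fin 8), IsConj c g ∧
      ((Subgroup.zpowers σ).subgroupOf (Subgroup.zpowers σ ⊔ MulAut.conj g • Subgroup.zpowers σ)).IsSubnormal) ∧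
    Cfsg.pCore 3 (Equiv.Perm (Fin 8)) = ⊥ := by
  classical
  refine ⟨fun c => ?_, ?_⟩
  · -- move to the standard three cycle
    have hs0 : σ₀.IsThreeCycle := Equiv.Perm.isThreeCycle_swap_mul_swap_same (by decide) (by decide) (by decide)
    obtain ⟨π, hπ⟩ := isConj_iff.1 ((Equiv.Perm.isConj_iff_cycleType_eq).2
      ((show σ₀.cycleType = {3} from hs0).trans (show σ.cycleType = {3} from hσ).symm))
    obtain ⟨a, b, d, hab, had, hbd, htr⟩ := triples c
    -- a permutation moving the triple to `0, 1, 2`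
    let τ₁ : Perm (Fin 8) := swap a 0
    let τ₂ : Perm (Fin 8) := swap (τ₁ b) 1 * τ₁
    let τ : Perm (Fin 8) := swap (τ₂ d) 2 * τ₂
    have ta0 : τ₁ a = 0 := swap_apply_left a 0
    have t1b : τ₁ b ≠ 0 := fun e => hab (τ₁.injective (ta0.trans e.symm))
    have ta2 : τ₂ a = 0 := by
      show swap (τ₁ b) 1 (τ₁ a) = 0
      rw [ta0, swap_apply_of_ne_of_ne (Ne.symm t1b) (by decide)]
    have tb2 : τ₂ b = 1 := swap_apply_left _ _
    have td0 : τ₂ d ≠ 0 := fun e => had (τ₂.injective (ta2.trans e.symm))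
    have td1 : τ₂ d ≠ 1 := fun e => hbd (τ₂.injective (tb2.trans e.symm))
    have ta : τ a = 0 := by
      show swap (τ₂ d) 2 (τ₂ a) = 0
      rw [ta2, swap_apply_of_ne_of_ne (Ne.symm td0) (by decide)]
    have tb : τ b = 1 := by
      show swap (τ₂ d) 2 (τ₂ b) = 1
      rw [tb2, swap_apply_of_ne_of_ne (Ne.symm td1) (by decide)]
    have td : τ d = 2 := swap_apply_left _ _
    set g₀ := τ * c * τ⁻¹ with hg₀
    have hcomm : Commute σ₀ (g₀ * σ₀ * g₀⁻¹) := by
      refine commute_of_triple g₀ ?_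
      have ia : τ⁻¹ 0 = a := τ.injective (by simp [ta])
      have ib : τ⁻¹ 1 = b := τ.injective (by simp [tb])
      have id' : τ⁻¹ 2 = d := τ.injective (by simp [td])
      have hmem : ∀ v, τ v ∈ [(0 : Fin 8), 1, 2] ↔ v ∈ [a, b, d] := by
        intro v
        simp only [List.mem_cons, List.not_mem_nil, or_false, ← ta, ← tb, ← td, τ.injective.eq_iff]
      have hval : ∀ u, g₀ u = τ (c (τ⁻¹ u)) := fun u => rfl
      rcases htr with h | h
      · left
        intro u hu
        rw [hval, hmem]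
        exact h _ ((hmem _).1 (by rwa [show τ (τ⁻¹ u) = u from τ.apply_symm_apply u]))
      · right
        intro u hu
        rw [hval, hmem]
        exact h _ ((hmem _).1 (by rwa [show τ (τ⁻¹ u) = u from τ.apply_symm_apply u]))
    refine ⟨π * g₀ * π⁻¹, isConj_iff.2 ⟨π * τ, by rw [hg₀]; group⟩, ?_⟩
    set g := π * g₀ * π⁻¹ with hg
    have hc : Commute σ (g * σ * g⁻¹) := by
      have h1 := hcomm.map (MulAut.conj π).toMonoidHom
      simp only [MulEquiv.coe_toMonoidHom, MulAut.conj_apply] at h1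
      have e : π * (g₀ * σ₀ * g₀⁻¹) * π⁻¹ = g * σ * g⁻¹ := by rw [hg, ← hπ]; group
      rwa [hπ, e] at h1
    refine Subgroup.Normal.isSubnormal ?_
    rw [Subgroup.normal_subgroupOf_iff_le_normalizer le_sup_left]
    refine sup_le Subgroup.le_normalizer (le_trans ?_ (Subgroup.centralizer_le_normalizer _))
    rintro _ ⟨x, ⟨k, rfl⟩, rfl⟩
    refine Subgroup.mem_centralizer_iff.2 ?_
    rintro _ ⟨j, rfl⟩
    have h2 := (hc.zpow_zpow j k).eq
    rw [conj_zpow] at h2
    simpa [MulAut.smul_def] using h2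
  · rw [Cfsg.pCore, sSup_eq_bot]
    rintro N ⟨hN, hNp⟩
    by_contra hne
    obtain ⟨⟨g, hg⟩, hg1⟩ := Subgroup.ne_bot_iff_exists_ne_one.1 hne
    obtain ⟨x, hx⟩ : ∃ x, g x ≠ x := by
      by_contra h
      push Not at h
      exact hg1 (Subtype.ext (Equiv.ext h))
    have htrans : MulAction.orbit N x = Set.univ := by
      refine Set.eq_univ_of_forall fun z => ?_
      by_cases hz : z = x
      · subst hz; exact MulAction.mem_orbit_self _
      refine ⟨⟨Equiv.swap (g x) z * g * (Equiv.swap (g x) z)⁻¹, hN.conj_mem g hg _⟩, ?_⟩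
      show (Equiv.swap (g x) z * g * (Equiv.swap (g x) z)⁻¹) x = z
      rw [Equiv.Perm.mul_apply, Equiv.Perm.mul_apply, Equiv.swap_inv,
        Equiv.swap_apply_of_ne_of_ne (Ne.symm hx) (Ne.symm hz), Equiv.swap_apply_left]
    have h8 := MulAction.index_stabilizer N x
    rw [htrans, Set.ncard_univ, Nat.card_eq_fintype_card, Fintype.card_fin] at h8
    have h2 := Subgroup.index_dvd_card (MulAction.stabilizer N x)
    rw [h8] at h2
    haveI : Fact (Nat.Prime 3) := ⟨Nat.prime_three⟩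
    obtain ⟨j, hj⟩ := IsPGroup.iff_card.1 hNp
    rw [hj] at h2
    exact absurd (Nat.prime_two.dvd_of_dvd_pow ((by norm_num : 2 ∣ 8).trans h2)) (by norm_num)

end Cfsg.Agent.S4332
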