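import Cfsg.Statements.S4333
import Cfsg.Agent.Lib.Coprime.Subnormal
-- import your own Cfsg.Agent.* helpers here

set_option autoImplicit false
open Pointwise
open Cfsg

namespace Cfsg.Agent.S4333

/-- Let A be a subgroup of a finite group G. If A is subnormal in the subgroup generated by A and its conjugate by g⁻¹ a g, for every a ∈ A and every g ∈ G, then A is subnormal in G. (A sharpening of Wielandt's subnormality criterion: only conjugates of A by conjugates of elements of A are needed.) -/
theorem result {G : Type*} [Group G] [Finite G]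
    (A : Subgroup G)
    (h : ∀ a ∈ A, ∀ g : G, (A.subgroupOf (A ⊔ MulAut.conj (g⁻¹ * a * g) • A)).IsSubnormal) :
    A.IsSubnormal := by
  induction hk : Nat.card G using Nat.strongRecOn generalizing G with
  | ind k ih =>
    subst hk
    have conjBy_eq : ∀ (x : G) (B : Subgroup G), CfsgLib.Coprime.conjBy x B = MulAut.conj x • B :=
      fun x B => rfl
    have hprop : ∀ X : Subgroup G, A ≤ X → X ≠ ⊤ → (A.subgroupOf X).IsSubnormal := by
      intro X hAX hX
      have hcard : Nat.card X < Nat.card G := by
        have := CfsgLib.Coprime.card_lt_of_lt (lt_top_iff_ne_top.2 hX)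
        rwa [Subgroup.card_top] at this
      refine ih _ hcard (G := X) (A.subgroupOf X) (fun a ha g => ?_) rfl
      set x : X := g⁻¹ * a * g with hx
      have hgX : CfsgLib.Coprime.conjBy (x : G) A ≤ X :=
        (Subgroup.map_mono hAX).trans (le_of_eq (CfsgLib.Coprime.conjBy_eq_self_of_mem x.2))
      have e : A.subgroupOf X ⊔ CfsgLib.Coprime.conjBy x (A.subgroupOf X) =
          (A ⊔ CfsgLib.Coprime.conjBy (x : G) A).subgroupOf X := by
        rw [Subgroup.subgroupOf_sup hAX hgX]
        congr 1
        apply Subgroup.map_injective X.subtype_injective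
        rw [CfsgLib.Coprime.conjBy_map, Subgroup.map_subgroupOf_eq_of_le hAX,
          Subgroup.map_subgroupOf_eq_of_le hgX]
        rfl
      show ((A.subgroupOf X).subgroupOf
        (A.subgroupOf X ⊔ CfsgLib.Coprime.conjBy x (A.subgroupOf X))).IsSubnormal
      rw [e]
      let f := Subgroup.subgroupOfEquivOfLe
        (sup_le hAX hgX : A ⊔ CfsgLib.Coprime.conjBy (x : G) A ≤ X)
      exact (h (a : G) ha (g : G)).comap f.toMonoidHom
    by_contra hnot
    obtain ⟨M, hM, hAM, huniq⟩ := CfsgLib.Coprime.zipper hnot hprop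
    by_cases hn : M.Normal
    · haveI := hn
      have hNM : Subgroup.normalClosure (A : Set G) ≤ M := Subgroup.normalClosure_le_normal hAM
      exact hnot (Subgroup.IsSubnormal.trans Subgroup.le_normalClosure
        (hprop _ Subgroup.le_normalClosure fun e => hM.1 (top_le_iff.1 (e ▸ hNM)))
        (Subgroup.Normal.isSubnormal Subgroup.normalClosure_normal))
    have hNM' : Subgroup.normalizer (M : Set G) = M := by
      rcases hM.le_iff.1 (Subgroup.le_normalizer (H := M)) with e | e
      · exact absurd (Subgroup.normalizer_eq_top_iff.1 e) hn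
      · exact e
    have hmem : ∀ a ∈ A, ∀ g : G, g⁻¹ * a * g ∈ M := by
      intro a ha g
      set x := g⁻¹ * a * g with hx
      have h1 : CfsgLib.Coprime.conjBy x A ≤ M := by
        refine le_sup_right.trans (huniq (A ⊔ CfsgLib.Coprime.conjBy x A) le_sup_left fun e => hnot ?_)
        exact Subgroup.IsSubnormal.trans le_sup_left (h a ha g) (e ▸ Subgroup.IsSubnormal.top)
      have h2 : A ≤ CfsgLib.Coprime.conjBy x⁻¹ M := by
        have h2 := Subgroup.map_mono (f := (MulAut.conj x⁻¹).toMonoidHom) h1
        rwa [show (CfsgLib.Coprime.conjBy x A).map (MulAut.conj x⁻¹).toMonoidHom =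
          CfsgLib.Coprime.conjBy x⁻¹ (CfsgLib.Coprime.conjBy x A) from rfl,
          CfsgLib.Coprime.conjBy_conjBy, inv_mul_cancel, CfsgLib.Coprime.conjBy_one] at h2
      have hne : CfsgLib.Coprime.conjBy x⁻¹ M ≠ ⊤ := fun e => hM.1 (M.eq_top_of_card_eq (by
        rw [← CfsgLib.Coprime.card_conjBy x⁻¹ M, e, Subgroup.card_top]))
      have h3 := huniq _ h2 hne
      have h4 : CfsgLib.Coprime.conjBy x⁻¹ M = M :=
        Subgroup.eq_of_le_of_card_ge h3 (CfsgLib.Coprime.card_conjBy x⁻¹ M).ge
      have h5 := CfsgLib.Coprime.conjBy_eq_self_iff.1 h4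
      rw [hNM'] at h5
      simpa using M.inv_mem h5
    have hN : Subgroup.normalClosure (A : Set G) ≤ M := (Subgroup.closure_le M).2 fun c hc => by
      obtain ⟨a, ha, hac⟩ := Group.mem_conjugatesOfSet_iff.1 hc
      obtain ⟨g, rfl⟩ := isConj_iff.1 hac
      simpa using hmem a ha g⁻¹
    exact hnot (Subgroup.IsSubnormal.trans Subgroup.le_normalClosure
      (hprop _ Subgroup.le_normalClosure fun e => hM.1 (top_le_iff.1 (e ▸ hN)))
      (Subgroup.Normal.isSubnormal Subgroup.normalClosure_normal))

end Cfsg.Agent.S4333
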