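import Cfsg.Statements.S4334
-- import your own Cfsg.Agent.* helpers here
import Mathlib
import Cfsg.Agent.Lib.Fusion.Transfer

set_option autoImplicit false
open Cfsg

namespace Cfsg.Agent.S4334

open Subgroup CfsgLib.Fusion
open scoped commutatorElement

universe u
variable {G : Type u} [Group G] [Finite G]

/-- `L` is a Hall `ρ`-subgroup containing a conjugate of every `ρ`-subgroup. -/
def Dom (ρ : Set ℕ) (L : Subgroup G) : Prop :=
  (∀ q : ℕ, q.Prime → q ∣ Nat.card L → q ∈ ρ) ∧ (∀ q : ℕ, q.Prime → q ∈ ρ → ¬ q ∣ L.index) ∧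
    ∀ K : Subgroup G, (∀ q : ℕ, q.Prime → q ∣ Nat.card K → q ∈ ρ) → ∃ c : G, K ≤ conjBy c L

omit [Finite G] in
theorem conjBy_le_centralizer {c : G} {A B : Subgroup G} (h : A ≤ centralizer (B : Set G)) :
    conjBy c A ≤ centralizer (conjBy c B : Set G) := by
  intro x hx
  rw [mem_conjBy] at hx
  refine Subgroup.mem_centralizer_iff.2 fun y hy => ?_
  rw [SetLike.mem_coe, mem_conjBy] at hy
  have h1 := Subgroup.mem_centralizer_iff.1 (h hx) _ hy
  have h2 : c⁻¹ * (y * x) * c = c⁻¹ * (x * y) * c := by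
    calc c⁻¹ * (y * x) * c = (c⁻¹ * y * c) * (c⁻¹ * x * c) := by group
      _ = (c⁻¹ * x * c) * (c⁻¹ * y * c) := h1
      _ = c⁻¹ * (x * y) * c := by group
  exact mul_left_cancel (mul_right_cancel h2)

omit [Finite G] in
theorem index_conjBy (c : G) (A : Subgroup G) : (conjBy c A).index = A.index :=
  Subgroup.index_map_of_bijective (MulEquiv.bijective _) A

/-- A subgroup normalizing `X` centralizes it if the centralizer has coprime index. -/
theorem le_centralizer_of_coprime_index {X Y : Subgroup G} (hY : Y ≤ normalizer (X : Set G))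
    (hcop : (Nat.card Y).Coprime (centralizer (X : Set G)).index) :
    Y ≤ centralizer (X : Set G) := by
  intro y hy
  haveI : ((centralizer (X : Set G)).subgroupOf (normalizer (X : Set G))).Normal := by
    rw [← Subgroup.normalizerMonoidHom_ker]; infer_instance
  have h1 : orderOf (QuotientGroup.mk' ((centralizer (X : Set G)).subgroupOf
      (normalizer (X : Set G))) ⟨y, hY hy⟩) = 1 := by
    refine Nat.eq_one_of_dvd_coprimes hcop
      ((orderOf_map_dvd _ _).trans (by rw [Subgroup.orderOf_mk]; exact Subgroup.orderOf_dvd_natCard _ hy))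
      ((_root_.orderOf_dvd_natCard _).trans ?_)
    rw [← Subgroup.index_eq_card, ← Subgroup.relIndex]
    exact Subgroup.relIndex_dvd_index_of_le (centralizer_le_normalizer _)
  rw [orderOf_eq_one_iff, QuotientGroup.mk'_apply, QuotientGroup.eq_one_iff] at h1
  exact h1

theorem coprime_index_of_le {A B : Subgroup G} {m : ℕ} (h : A ≤ B) (hm : m.Coprime A.index) :
    m.Coprime B.index :=
  hm.coprime_dvd_right (Subgroup.index_dvd_of_le h)

/-- Adding one prime whose Sylow subgroup centralizes the Hall subgroup. -/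
theorem dom_insert {ρ : Set ℕ} {L : Subgroup G} (hL : Dom ρ L) {p : ℕ} [hp : Fact p.Prime]
    (hpρ : p ∉ ρ) {P : Subgroup G} (hP : IsPGroup p P) (hPi : ¬ p ∣ P.index)
    (hc : L ≤ centralizer (P : Set G)) : Dom (insert p ρ) (L ⊔ P) := by
  obtain ⟨hLc, hLi, hLd⟩ := hL
  have hc' : P ≤ centralizer (L : Set G) := Subgroup.le_centralizer_iff.1 hc
  obtain ⟨a, ha⟩ := hP.exists_card_eq
  have hcopLP : (Nat.card L).Coprime (Nat.card P) := by
    refine Nat.coprime_of_dvd fun q hq h1 h2 => ?_
    rw [ha] at h2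
    exact hpρ ((Nat.prime_dvd_prime_iff_eq hq hp.out).1 (hq.dvd_of_dvd_pow h2) ▸ hLc q hq h1)
  refine ⟨?_, ?_, ?_⟩
  · intro q hq hd
    have hdis : Nat.card (L ⊔ P : Subgroup G) ∣ Nat.card L * Nat.card P := by
      let f : L × P →* G := MonoidHom.noncommCoprod L.subtype P.subtype fun x y =>
        (Subgroup.mem_centralizer_iff.1 (hc' y.2) x x.2)
      have hr : f.range = L ⊔ P := by
        exact (MonoidHom.noncommCoprod_range _ _ _).trans (by
          rw [Subgroup.range_subtype, Subgroup.range_subtype])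
      rw [← hr, ← Nat.card_prod]
      exact Subgroup.card_range_dvd f
    rcases hq.dvd_mul.1 (hd.trans hdis) with h | h
    · exact Set.mem_insert_of_mem _ (hLc q hq h)
    · rw [ha] at h
      rw [(Nat.prime_dvd_prime_iff_eq hq hp.out).1 (hq.dvd_of_dvd_pow h)]
      exact Set.mem_insert _ _
  · intro q hq hqm hd
    rcases Set.mem_insert_iff.1 hqm with rfl | hqm
    · exact hPi (hd.trans (Subgroup.index_dvd_of_le le_sup_right))
    · exact hLi q hq hqm (hd.trans (Subgroup.index_dvd_of_le le_sup_left))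
  · intro K hK
    -- `ρ`-numbers are coprime to the index of `L`
    have hcopL : ∀ m : ℕ, (∀ q : ℕ, q.Prime → q ∣ m → q ∈ ρ) → m.Coprime L.index := fun m hm =>
      Nat.coprime_of_dvd fun q hq h1 h2 => hLi q hq (hm q hq h1) h2
    have hcopP : ∀ m : ℕ, ∀ k, m = p ^ k → m.Coprime P.index := fun m k hm => by
      rw [hm]; exact (hp.out.coprime_iff_not_dvd.2 hPi).pow_left k
    have hKρ : ∀ m : ℕ, m ∣ Nat.card K → m.Coprime p → ∀ q : ℕ, q.Prime → q ∣ m → q ∈ ρ := by
      intro m hmK hmp q hq hqm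
      refine (Set.mem_insert_iff.1 (hK q hq (hqm.trans hmK))).resolve_left fun e => ?_
      subst e
      exact hq.not_dvd_one (hmp ▸ Nat.dvd_gcd hqm dvd_rfl)
    -- `K` has a normal `p`-complement
    let S : Sylow p K := default
    have hK' : Cfsg.HasNormalPComplement p K := by
      refine hasNormalPComplement_of_locallyPNilpotentAction S fun Q hQ g hg hgp => ?_
      set QG := Q.map K.subtype
      have hQG : IsPGroup p QG := (S.2.to_le hQ).map _
      obtain ⟨c, -, hcQ⟩ := exists_conj_le_of_not_dvd_relIndex hP le_top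
        (by rwa [Subgroup.relIndex_top_right]) hQG le_top
      have hCQ : conjBy c⁻¹ L ≤ centralizer (QG : Set G) := by
        refine (conjBy_le_centralizer (c := c⁻¹) (hc.trans (Subgroup.centralizer_le hcQ))).trans
          (le_of_eq ?_)
        rw [conjBy_conjBy, inv_mul_cancel, conjBy_one]
      have hgN : (g : G) ∈ normalizer (QG : Set G) :=
        Subgroup.mem_normalizer_fintype fun x hx => by
          obtain ⟨y, hy, rfl⟩ := hx
          exact ⟨g * y * g⁻¹, (Subgroup.mem_normalizer_iff.1 hg y).1 hy, rfl⟩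
      have hgC : zpowers (g : G) ≤ centralizer (QG : Set G) := by
        refine le_centralizer_of_coprime_index (zpowers_le.2 hgN) (coprime_index_of_le hCQ ?_)
        rw [index_conjBy, Nat.card_zpowers, Subgroup.orderOf_coe]
        exact hcopL _ (hKρ _ (_root_.orderOf_dvd_natCard g) hgp)
      exact Subgroup.mem_centralizer_iff.2 fun y hy => Subtype.ext
        (Subgroup.mem_centralizer_iff.1 (hgC (mem_zpowers _)) y ⟨y, hy, rfl⟩)
    obtain ⟨S, M, hMn, hMc⟩ := hK'
    set MG := M.map K.subtype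
    set SG := (S : Subgroup K).map K.subtype
    have hMG : ∀ q : ℕ, q.Prime → q ∣ Nat.card MG → q ∈ ρ := by
      refine fun q hq hd => hKρ _ (Subgroup.card_subgroup_dvd_card M) ?_ q hq
        (by rwa [Subgroup.card_map_of_injective K.subtype_injective] at hd)
      rw [← hMc.index_eq_card]
      exact ((Fact.out : p.Prime).coprime_iff_not_dvd.2 S.not_dvd_index).symm
    obtain ⟨c, hcM⟩ := hLd MG hMG
    have hCM : conjBy c P ≤ centralizer (MG : Set G) :=
      (conjBy_le_centralizer hc').trans (Subgroup.centralizer_le hcM)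
    have hSp : IsPGroup p SG := S.2.map _
    have hSN : SG ≤ normalizer (MG : Set G) := by
      rintro _ ⟨s, -, rfl⟩
      refine Subgroup.mem_normalizer_fintype fun x hx => ?_
      obtain ⟨y, hy, rfl⟩ := hx
      exact ⟨s * y * s⁻¹, hMn.conj_mem y hy s, rfl⟩
    have hSC : SG ≤ centralizer (MG : Set G) := by
      refine le_centralizer_of_coprime_index hSN (coprime_index_of_le hCM ?_)
      obtain ⟨k, hk⟩ := hSp.exists_card_eq
      rw [index_conjBy]
      exact hcopP _ k hk
    obtain ⟨d, hd, hdS⟩ := exists_conj_le_of_not_dvd_relIndex (hP.map (MulAut.conj c).toMonoidHom)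
      hCM (fun h => hPi (by
        rw [← index_conjBy c P]
        exact h.trans (Subgroup.relIndex_dvd_index_of_le hCM))) hSp hSC
    refine ⟨d⁻¹ * c, ?_⟩
    have hKeq : K = MG ⊔ SG := by
      rw [← Subgroup.map_sup, hMc.sup_eq_top, ← MonoidHom.range_eq_map, Subgroup.range_subtype]
    rw [← conjBy_conjBy, hKeq]
    have hdM : conjBy d⁻¹ MG = MG := (Subgroup.mem_normalizer_iff_map_conj_eq.1
      (centralizer_le_normalizer _ ((centralizer (MG : Set G)).inv_mem hd)))
    refine sup_le ?_ ?_
    · rw [← hdM]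
      exact Subgroup.map_mono (hcM.trans (Subgroup.map_mono le_sup_left))
    · have : conjBy d⁻¹ (conjBy d SG) = SG := by rw [conjBy_conjBy, inv_mul_cancel, conjBy_one]
      rw [← this]
      exact Subgroup.map_mono (hdS.trans (Subgroup.map_mono le_sup_right))

/-- The Sylow `q`-subgroup of a nilpotent subgroup, inside the whole group. -/
noncomputable def piece (q : ℕ) (N : Subgroup G) : Subgroup G :=
  ((default : Sylow q N) : Subgroup N).map N.subtype

theorem dom_pieces {σ τ : Set ℕ} (hd : Disjoint σ τ) {Hs Ht : Subgroup G}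
    (hsn : Group.IsNilpotent Hs) (hcomm : ∀ a ∈ Hs, ∀ b ∈ Ht, a * b = b * a)
    (hHt : Dom τ Ht) (hHs : ∀ q : ℕ, q.Prime → q ∣ Nat.card Hs → q ∈ σ ∧
      ¬ q ∣ (piece q Hs).index) :
    ∀ s : Finset ℕ, (∀ q ∈ s, q.Prime ∧ q ∣ Nat.card Hs) →
      Dom ((s : Set ℕ) ∪ τ) (s.sup (fun q => piece q Hs) ⊔ Ht) := by
  intro s
  induction s using Finset.induction_on with
  | empty =>
    intro _
    simpa using hHt
  | @insert q s hqs ih =>
    intro h
    obtain ⟨hq, hqd⟩ := h q (Finset.mem_insert_self q s)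
    haveI := Fact.mk hq
    obtain ⟨hqσ, hqi⟩ := hHs q hq hqd
    have h1 := dom_insert (ih fun r hr => h r (Finset.mem_insert_of_mem hr)) (p := q)
      (P := piece q Hs) ?_ ((default : Sylow q Hs).2.map _) hqi ?_
    · rw [Finset.sup_insert, Finset.coe_insert, Set.insert_union,
        sup_assoc, sup_comm (piece q Hs)]
      exact h1
    · rintro (hr | hr)
      · exact hqs hr
      · exact Set.disjoint_left.1 hd hqσ hr
    · refine sup_le (Finset.sup_le fun r hr => ?_) ?_
      · obtain ⟨hr', -⟩ := h r (Finset.mem_insert_of_mem hr)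
        haveI := Fact.mk hr'
        have hne : r ≠ q := fun e => hqs (e ▸ hr)
        have hcl := isNilpotent_of_finite_tfae.out 0 3 |>.1 hsn
        have hn1 := hcl r ‹_› (default : Sylow r Hs)
        have hn2 := hcl q ‹_› (default : Sylow q Hs)
        rintro _ ⟨x, hx, rfl⟩
        refine Subgroup.mem_centralizer_iff.2 ?_
        rintro _ ⟨y, hy, rfl⟩
        exact (congrArg Subtype.val (Subgroup.commute_of_normal_of_disjoint _ _ hn1 hn2
          (IsPGroup.disjoint_of_ne r q hne _ _ (default : Sylow r Hs).2 (default : Sylow q Hs).2)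
          x y hx hy).eq).symm
      · intro b hb
        refine Subgroup.mem_centralizer_iff.2 ?_
        rintro _ ⟨y, -, rfl⟩
        exact hcomm _ y.2 b hb

/-- Let σ and τ be disjoint sets of primes with union π. Suppose a finite group G has a Hall π-subgroup H which is the direct product of a nilpotent σ-subgroup and a τ-subgroup (two elementwise-commuting subgroups generating H), and that the maximal τ-subgroups of G are pairwise conjugate. Then the maximal π-subgroups of G are pairwise conjugate. -/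
theorem result {G : Type*} [Group G] [Finite G]
    (σ τ π : Set ℕ) (hπ : π = σ ∪ τ) (hd : Disjoint σ τ) (H Hs Ht : Subgroup G) (hH : Cfsg.IsPiHall π H)
    (hs : Cfsg.IsPiSubgroup σ Hs) (ht : Cfsg.IsPiSubgroup τ Ht) (hsn : Group.IsNilpotent Hs)
    (hjoin : Hs ⊔ Ht = H) (hcomm : ∀ a ∈ Hs, ∀ b ∈ Ht, a * b = b * a) (hD : Cfsg.IsDPiGroup τ G) :
    Cfsg.IsDPiGroup π G := by
  classical
  subst hπ
  obtain ⟨hHc, hHi⟩ := hH
  have hsH : Hs ≤ H := hjoin ▸ le_sup_left
  have htH : Ht ≤ H := hjoin ▸ le_sup_right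
  have hcardH : Nat.card H ∣ Nat.card Hs * Nat.card Ht := by
    let f : Hs × Ht →* G := MonoidHom.noncommCoprod Hs.subtype Ht.subtype fun x y =>
      hcomm x x.2 y y.2
    have hr : f.range = H := by
      exact (MonoidHom.noncommCoprod_range _ _ _).trans (by
        rw [Subgroup.range_subtype, Subgroup.range_subtype, hjoin])
    rw [← hr, ← Nat.card_prod]
    exact Subgroup.card_range_dvd f
  have hidxt : ∀ q : ℕ, q.Prime → q ∈ τ → ¬ q ∣ Ht.index := by
    intro q hq hqt hdiv
    rw [← Subgroup.relIndex_mul_index htH] at hdiv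
    rcases hq.dvd_mul.1 hdiv with h | h
    · have : Ht.relIndex H ∣ Nat.card Hs := by
        have h2 := Subgroup.card_mul_index (Ht.subgroupOf H)
        rw [Nat.card_congr (Subgroup.subgroupOfEquivOfLe htH).toEquiv] at h2
        have h3 : Nat.card Ht * Ht.relIndex H ∣ Nat.card Ht * Nat.card Hs := by
          rw [Subgroup.relIndex, h2, mul_comm]; exact hcardH
        exact Nat.dvd_of_mul_dvd_mul_left Nat.card_pos h3
      exact Set.disjoint_left.1 hd (hs q hq (h.trans this)) hqt
    · exact hHi q hq (Or.inr hqt) h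
  -- maximal subgroups above a given one
  have hmaxex : ∀ (ρ : Set ℕ) (K : Subgroup G), Cfsg.IsPiSubgroup ρ K →
      ∃ M, K ≤ M ∧ Maximal (Cfsg.IsPiSubgroup ρ) M := fun ρ K hK =>
    Finite.exists_le_maximal hK
  have hHtD : Dom τ Ht := by
    refine ⟨ht, hidxt, fun K hK => ?_⟩
    obtain ⟨M, hKM, hM⟩ := hmaxex τ K hK
    obtain ⟨T, hHtT, hT⟩ := hmaxex τ Ht ht
    have hTe : T = Ht := by
      refine (Subgroup.relIndex_eq_one.1 ?_).antisymm hHtT
      by_contra hne
      obtain ⟨q, hq, hqd⟩ := Nat.exists_prime_and_dvd hne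
      exact hidxt q hq (hT.1 q hq (hqd.trans (Subgroup.relIndex_dvd_card _ _)))
        (hqd.trans (Subgroup.relIndex_dvd_index_of_le hHtT))
    obtain ⟨g, hg⟩ := hD T M hT hM
    exact ⟨g, hKM.trans (le_of_eq (by rw [hg, hTe]))⟩
  have hHs : ∀ q : ℕ, q.Prime → q ∣ Nat.card Hs → q ∈ σ ∧ ¬ q ∣ (piece q Hs).index := by
    intro q hq hqd
    haveI := Fact.mk hq
    refine ⟨hs q hq hqd, fun hdiv => ?_⟩
    have hple : piece q Hs ≤ Hs := Subgroup.map_subtype_le _
    rw [← Subgroup.relIndex_mul_index hple, ← Subgroup.relIndex_mul_index hsH] at hdiv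
    rcases hq.dvd_mul.1 hdiv with h | h
    · rw [piece, Subgroup.relIndex, Subgroup.subgroupOf,
        Subgroup.comap_map_eq_self_of_injective Hs.subtype_injective] at h
      exact (default : Sylow q Hs).not_dvd_index h
    · rcases hq.dvd_mul.1 h with h | h
      · have h2 := Subgroup.card_mul_index (Hs.subgroupOf H)
        rw [Nat.card_congr (Subgroup.subgroupOfEquivOfLe hsH).toEquiv] at h2
        have h3 : Nat.card Hs * Hs.relIndex H ∣ Nat.card Hs * Nat.card Ht := by
          rw [Subgroup.relIndex, h2]; exact hcardH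
        exact Set.disjoint_left.1 hd (hs q hq hqd)
          (ht q hq (h.trans (Nat.dvd_of_mul_dvd_mul_left Nat.card_pos h3)))
      · exact hHi q hq (Or.inl (hs q hq hqd)) h
  have hfin := dom_pieces hd hsn hcomm hHtD hHs (Nat.card Hs).primeFactors fun q hq =>
    ⟨Nat.prime_of_mem_primeFactors hq, Nat.dvd_of_mem_primeFactors hq⟩
  obtain ⟨hL1, -, hL3⟩ := hfin
  set L := (Nat.card Hs).primeFactors.sup (fun q => piece q Hs) ⊔ Ht
  have hLπ : Cfsg.IsPiSubgroup (σ ∪ τ) L := fun q hq hqd => by
    rcases hL1 q hq hqd with h | h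
    · exact Or.inl (hs q hq (Nat.dvd_of_mem_primeFactors h))
    · exact Or.inr h
  have hall : ∀ K : Subgroup G, Maximal (Cfsg.IsPiSubgroup (σ ∪ τ)) K → ∃ c, K = conjBy c L := by
    intro K hK
    have hKs : ∀ q : ℕ, q.Prime → q ∣ Nat.card K →
        q ∈ ((Nat.card Hs).primeFactors : Set ℕ) ∪ τ := by
      intro q hq hqd
      rcases hK.1 q hq hqd with h | h
      · left
        refine Nat.mem_primeFactors.2 ⟨hq, ?_, Nat.card_pos.ne'⟩
        have hG : q ∣ Nat.card H * H.index :=
          (Subgroup.card_mul_index H).symm ▸ hqd.trans (Subgroup.card_subgroup_dvd_card K)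
        rcases hq.dvd_mul.1 hG with h' | h'
        · rcases hq.dvd_mul.1 (h'.trans hcardH) with h'' | h''
          · exact h''
          · exact absurd (ht q hq h'') (Set.disjoint_left.1 hd h)
        · exact absurd h' (hHi q hq (Or.inl h))
      · exact Or.inr h
    obtain ⟨c, hc⟩ := hL3 K hKs
    refine ⟨c, hK.eq_of_le (fun q hq hqd => hLπ q hq ?_) hc⟩
    rwa [Subgroup.card_map_of_injective (MulEquiv.injective _)] at hqd
  intro K₁ K₂ h₁ h₂
  obtain ⟨c₁, rfl⟩ := hall K₁ h₁
  obtain ⟨c₂, rfl⟩ := hall K₂ h₂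
  refine ⟨c₂ * c₁⁻¹, ?_⟩
  show conjBy c₂ L = conjBy (c₂ * c₁⁻¹) (conjBy c₁ L)
  rw [conjBy_conjBy, inv_mul_cancel_right]

end Cfsg.Agent.S4334
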