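import Cfsg.Statements.S4337
import Cfsg.Agent.Lib.PGroup.Swaps
-- import your own Cfsg.Agent.* helpers here

set_option autoImplicit false
open Cfsg

namespace Cfsg.Agent.S4337

/-- In a finite symmetric group, any three transpositions generate a solvable subgroup. -/
theorem result (n : ℕ) (a b c : Equiv.Perm (Fin n))
    (ha : a.IsSwap) (hb : b.IsSwap) (hc : c.IsSwap) :
    Group.IsSolvable (Subgroup.closure ({a, b, c} : Set (Equiv.Perm (Fin n)))) := by
  have h := CfsgLib.PGroup.isSolvable_closure_swaps [a, b, c]
    (by simp [ha, hb, hc]) (by simp)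
  have e : ({a, b, c} : Set (Equiv.Perm (Fin n))) = {t | t ∈ [a, b, c]} := by ext; simp
  rwa [e]

end Cfsg.Agent.S4337
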