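import Cfsg.Statements.S4341
import Cfsg.Agent.Lib.PGroup.Basic
-- import your own Cfsg.Agent.* helpers here

set_option autoImplicit false
open Cfsg

namespace Cfsg.Agent.S4341

open Subgroup Pointwise

private theorem relIndex_eq_of_cover {G : Type*} [Group G] {A B C : Subgroup G} (hBC : B ≤ C)
    (h : ∀ c ∈ C, ∃ b ∈ B, b⁻¹ * c ∈ A) : A.relIndex B = A.relIndex C := by
  let f : B ⧸ A.subgroupOf B → C ⧸ A.subgroupOf C :=
    Quotient.map' (Subgroup.inclusion hBC) fun x y hxy => by
      rw [QuotientGroup.leftRel_apply] at hxy ⊢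
      simpa [mem_subgroupOf] using hxy
  refine Nat.card_congr (Equiv.ofBijective f ⟨?_, ?_⟩)
  · intro x y
    induction x using QuotientGroup.induction_on with
    | H x =>
      induction y using QuotientGroup.induction_on with
      | H y =>
        intro hxy
        have : ((Subgroup.inclusion hBC x : C) : C ⧸ A.subgroupOf C) =
            (Subgroup.inclusion hBC y : C) := hxy
        rw [QuotientGroup.eq] at this
        rw [QuotientGroup.eq]
        simpa [mem_subgroupOf] using this
  · intro z
    induction z using QuotientGroup.induction_on with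
    | H c =>
      obtain ⟨b, hb, hbc⟩ := h c c.2
      refine ⟨((⟨b, hb⟩ : B) : B ⧸ A.subgroupOf B), ?_⟩
      show ((Subgroup.inclusion hBC ⟨b, hb⟩ : C) : C ⧸ A.subgroupOf C) = c
      rw [QuotientGroup.eq]
      simpa [mem_subgroupOf] using hbc

private theorem card_sylow_map {G G' : Type*} [Group G] [Finite G] [Group G'] [Finite G'] {p : ℕ}
    [Fact p.Prime] (f : G →* G') (hf : Function.Surjective f) (P : Sylow p G) :
    Nat.card (Sylow p G') = (normalizer (((P : Subgroup G) ⊔ f.ker : Subgroup G) : Set G)).index := by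
  rw [(P.mapSurjective hf).card_eq_index_normalizer, ← Sylow.coe_coe, Sylow.coe_mapSurjective,
    ← index_comap_of_surjective _ hf, comap_normalizer_eq_of_surjective _ hf, comap_map_eq]

/-- Let K be a normal subgroup of a finite group G, p a prime and P a Sylow p-subgroup of G; let N be the normalizer of P ∩ K inside the subgroup PK. Then the number of Sylow p-subgroups of G equals the product of the numbers of Sylow p-subgroups of G/K, of K, and of N/(P ∩ K). (The normality of P ∩ K in N, which always holds, is assumed as a hypothesis so that the quotient can be formed.) -/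
theorem result {G : Type*} [Group G] [Finite G]
    (p : ℕ) [Fact p.Prime] (K : Subgroup G) [K.Normal] (P : Sylow p G) (N : Subgroup G)
    (hN : N = ((P : Subgroup G) ⊔ K) ⊓ Subgroup.normalizer (((P : Subgroup G) ⊓ K : Subgroup G) : Set G))
    [hn : (((P : Subgroup G) ⊓ K).subgroupOf N).Normal] :
    Nat.card (Sylow p G) =
      Nat.card (Sylow p (G ⧸ K)) * Nat.card (Sylow p K) * Nat.card (Sylow p (N ⧸ ((P : Subgroup G) ⊓ K).subgroupOf N)) := by
  set H := normalizer ((P : Subgroup G) : Set G) with hH
  set Q := (P : Subgroup G) ⊓ K with hQ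
  set M := normalizer (Q : Set G) with hM
  set L := normalizer (((P : Subgroup G) ⊔ K : Subgroup G) : Set G) with hL
  have hPH : (P : Subgroup G) ≤ H := le_normalizer
  have hHM : H ≤ M := by
    intro x hx
    rw [hM, mem_normalizer_iff]
    intro y
    rw [hQ, mem_inf, mem_inf, ← mem_normalizer_iff.1 hx y]
    exact and_congr_right fun _ => ⟨fun h => ‹K.Normal›.conj_mem y h x, fun h => by
      simpa [mul_assoc] using ‹K.Normal›.conj_mem _ h x⁻¹⟩
  have hHL : H ≤ L := by
    intro x hx
    have hK : x ∈ normalizer (K : Set G) := by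
      rw [normalizer_eq_top]; trivial
    rw [hH, mem_normalizer_iff_map_conj_eq] at hx
    rw [mem_normalizer_iff_map_conj_eq] at hK
    rw [hL, mem_normalizer_iff_map_conj_eq, Subgroup.map_sup, hx, hK]
  have hKL : K ≤ L := le_sup_right.trans le_normalizer
  -- Frattini argument
  have hfr : ∀ g ∈ L, ∃ k ∈ K, k⁻¹ * g ∈ H := by
    intro g hg
    have hle : ((g • P : Sylow p G) : Subgroup G) ≤ (P : Subgroup G) ⊔ K := by
      intro y hy
      rw [Sylow.coe_subgroup_smul, Subgroup.mem_pointwise_smul_iff_inv_smul_mem] at hy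
      have h1 := (mem_normalizer_iff.1 hg _).1 (le_sup_left (b := K) hy)
      simpa [MulAut.smul_def, mul_assoc] using h1
    obtain ⟨x, hx⟩ := MulAction.exists_smul_eq ((P : Subgroup G) ⊔ K : Subgroup G)
      (P.subtype le_sup_left) ((g • P).subtype hle)
    rw [Sylow.smul_subtype] at hx
    have hx' : (x : G) • P = g • P := Sylow.subtype_injective hx
    obtain ⟨q, hq, k, hk, hqk⟩ := mem_sup_of_normal_right.1 x.2
    refine ⟨q * k * q⁻¹, ‹K.Normal›.conj_mem k hk q, ?_⟩
    have h1 : (x : G)⁻¹ * g ∈ H := by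
      rw [hH, Sylow.coe_coe, ← Sylow.smul_eq_iff_mem_normalizer, mul_smul, ← hx', inv_smul_smul]
    have h2 : q ∈ H := hPH hq
    have h3 := mul_mem h2 h1
    rw [← hqk] at h3
    simpa [mul_assoc] using h3
  -- the three factors
  have e0 : Nat.card (Sylow p G) = H.index := P.card_eq_index_normalizer
  have e1 : Nat.card (Sylow p (G ⧸ K)) = L.index := by
    rw [card_sylow_map _ (QuotientGroup.mk'_surjective K) P, QuotientGroup.ker_mk']
  have hQK : ¬ p ∣ ((P : Subgroup G).subgroupOf K).index := fun h =>
    P.not_dvd_index (h.trans (CfsgLib.PGroup.relIndex_dvd_index_normal_right _ K))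
  have hQp : IsPGroup p ((P : Subgroup G).subgroupOf K) := P.isPGroup'.comap_subtype
  have e2 : Nat.card (Sylow p K) = M.relIndex K := by
    rw [(hQp.toSylow hQK).card_eq_index_normalizer, ← Sylow.coe_coe, IsPGroup.toSylow_coe, relIndex]
    congr 1
    rw [← inf_subgroupOf_right, ← hQ, ← subgroupOf_normalizer_eq (show Q ≤ K from inf_le_right)]
  have hPN : (P : Subgroup G) ≤ N := by
    rw [hN]; exact le_inf le_sup_left (hPH.trans hHM)
  have hMK : M ⊓ K ≤ N := by
    rw [hN]; exact le_inf (inf_le_right.trans le_sup_right) inf_le_left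
  have e3 : Nat.card (Sylow p (N ⧸ Q.subgroupOf N)) = H.relIndex N := by
    rw [card_sylow_map _ (QuotientGroup.mk'_surjective _) (P.subtype hPN), QuotientGroup.ker_mk',
      Sylow.coe_subtype, sup_eq_left.2 (show Q.subgroupOf N ≤ (P : Subgroup G).subgroupOf N from comap_mono inf_le_left), ← subgroupOf_normalizer_eq hPN]
    rfl
  have e4 : H.relIndex (M ⊓ K) = H.relIndex N := by
    refine relIndex_eq_of_cover hMK fun c hc => ?_
    rw [hN, mem_inf] at hc
    obtain ⟨q, hq, k, hk, rfl⟩ := mem_sup_of_normal_right.1 hc.1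
    have hqM : q ∈ M := hHM (hPH hq)
    refine ⟨q * k * q⁻¹, ⟨?_, ‹K.Normal›.conj_mem k hk q⟩, ?_⟩
    · show q * k * q⁻¹ ∈ M
      exact mul_mem hc.2 (inv_mem hqM)
    simpa [mul_assoc] using hPH hq
  have e5 : H.relIndex L = H.relIndex K := (relIndex_eq_of_cover hKL hfr).symm
  have e6 : H.relIndex K = H.relIndex (M ⊓ K) * M.relIndex K := by
    rw [← inf_relIndex_right H K, ← inf_relIndex_right H (M ⊓ K), ← inf_relIndex_right M K,
      ← inf_assoc, inf_eq_left.2 hHM]
    exact (relIndex_mul_relIndex _ _ _ (inf_le_inf_right K hHM) inf_le_right).symm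
  rw [e0, e1, e2, e3, ← relIndex_mul_index hHL, e5, e6, e4]
  ring

end Cfsg.Agent.S4341
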