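import Cfsg.Statements.S4342
import Cfsg.Agent.Lib.PGroup.ShortTools

set_option autoImplicit false
set_option linter.style.haveILetI false
open Cfsg

namespace Cfsg.Agent.S4342

/-- Let H be a normal subgroup of a finite group G and p a prime not dividing the index of H. Then the number of Sylow p-subgroups of H/Z(H) equals the number of Sylow p-subgroups of G. -/
theorem result {G : Type*} [Group G] [Finite G]
    (p : ℕ) [Fact p.Prime] (H : Subgroup G) [H.Normal] (hp : ¬ p ∣ H.index) :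
    Nat.card (Sylow p (H ⧸ Subgroup.center H)) = Nat.card (Sylow p G) := by
  have hmemH : ∀ x : G, (∃ k, x ^ p ^ k = 1) → x ∈ H := fun x ⟨k, hk⟩ =>
    CfsgLib.PGroup.mem_of_pow_mem_coprime (p := p) (n := k) Fact.out (by rw [hk]; exact H.one_mem)
      hp (H.pow_index_mem x)
  have hle : ∀ P : Sylow p G, (P : Subgroup G) ≤ H := fun P x hx => by
    obtain ⟨k, hk⟩ := P.isPGroup' ⟨x, hx⟩
    exact hmemH x ⟨k, congrArg Subtype.val hk⟩
  have e1 : Nat.card (Sylow p H) = Nat.card (Sylow p G) := by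
    refine (Nat.card_eq_of_bijective (fun P : Sylow p G => P.subtype (hle P))
      ⟨fun P Q h => Sylow.subtype_injective h, fun R => ?_⟩).symm
    obtain ⟨P, hP⟩ := (R.isPGroup'.map H.subtype).exists_le_sylow
    refine ⟨P, Sylow.ext (R.3 (P.subtype (hle P)).isPGroup' ?_)⟩
    rw [Sylow.coe_subtype]
    exact Subgroup.map_le_iff_le_comap.1 hP
  rw [← e1]
  set Z := Subgroup.center H
  have hsurj := QuotientGroup.mk'_surjective Z
  refine (Nat.card_eq_of_bijective (Sylow.mapSurjective hsurj : Sylow p H → Sylow p (H ⧸ Z))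
    ⟨fun P Q hPQ => ?_, Sylow.mapSurjective_surjective hsurj p⟩).symm
  have hmap : (P : Subgroup H).map (QuotientGroup.mk' Z) = (Q : Subgroup H).map (QuotientGroup.mk' Z) :=
    congrArg (fun S : Sylow p (H ⧸ Z) => (S : Subgroup (H ⧸ Z))) hPQ
  refine Sylow.ext ((P.3 Q.isPGroup' fun x hx => ?_).symm)
  obtain ⟨y, hy, hxy⟩ := hmap ▸ Subgroup.mem_map_of_mem (QuotientGroup.mk' Z) hx
  have hz : y⁻¹ * x ∈ Z := QuotientGroup.eq.1 hxy
  have hc : Commute y x := by
    have := Subgroup.mem_center_iff.1 hz y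
    show y * x = x * y
    calc y * x = y * (y * (y⁻¹ * x)) := by group
      _ = y * ((y⁻¹ * x) * y) := by rw [this]
      _ = x * y := by group
  obtain ⟨i, hi⟩ := Q.isPGroup' ⟨y, hy⟩
  obtain ⟨j, hj⟩ := P.isPGroup' ⟨x, hx⟩
  have hzp : (y⁻¹ * x) ^ p ^ (i + j) = 1 := by
    rw [hc.inv_left.mul_pow, inv_pow, pow_add, pow_mul, show y ^ p ^ i = 1 from congrArg Subtype.val hi,
      one_pow, inv_one, one_mul, mul_comm, pow_mul, show x ^ p ^ j = 1 from congrArg Subtype.val hj,
      one_pow]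
  haveI : (Subgroup.zpowers (y⁻¹ * x)).Normal :=
    ⟨fun n hn g => by
      have : n ∈ Z := (Subgroup.zpowers_le.2 hz) hn
      rwa [Subgroup.mem_center_iff.1 this g, mul_inv_cancel_right]⟩
  have hp' : IsPGroup p (Subgroup.zpowers (y⁻¹ * x)) := fun w => by
    obtain ⟨k, hk⟩ := w.2
    exact ⟨i + j, Subtype.ext (by
      rw [SubgroupClass.coe_pow, ← hk]
      show ((y⁻¹ * x) ^ k) ^ p ^ (i + j) = 1
      rw [← zpow_natCast, ← zpow_mul, mul_comm, zpow_mul, zpow_natCast, hzp, one_zpow])⟩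
  have := (Q.3 (Q.isPGroup'.to_sup_of_normal_right hp') le_sup_left).le
    (Subgroup.mem_sup_right (Subgroup.mem_zpowers (y⁻¹ * x)))
  have := (Q : Subgroup H).mul_mem hy this
  rwa [mul_inv_cancel_left] at this

end Cfsg.Agent.S4342
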