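import Cfsg.Statements.S4343
import Mathlib

set_option autoImplicit false
open Cfsg

namespace Cfsg.Agent.S4343

open Subgroup MulAction
open scoped commutatorElement

section
variable {G : Type*} [Group G] [Finite G] {p : ℕ} [Fact p.Prime]

/-- In an action on fewer than `p ^ 2` Sylow subgroups every intersection has index at most `p`. -/
theorem normal_iSup_sylow : (⨆ T : Sylow p G, (T : Subgroup G)).Normal := by
  refine ⟨fun x hx g => ?_⟩
  have h : (⨆ T : Sylow p G, (T : Subgroup G)).map (MulAut.conj g).toMonoidHom ≤ ⨆ T : Sylow p G, (T : Subgroup G) := by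
    rw [Subgroup.map_iSup]
    exact iSup_le fun T => le_iSup_of_le (g • T) (le_of_eq rfl)
  exact h ⟨x, hx, rfl⟩

/-- Index of a Sylow intersection. -/
theorem relIndex_inter (hn : Nat.card (Sylow p G) < p ^ 2) (P Q : Sylow p G) (hne : P ≠ Q) :
    ((P : Subgroup G) ⊓ (Q : Subgroup G)).relIndex (P : Subgroup G) = p := by
  classical
  have hp := (Fact.out : p.Prime)
  have hstab : stabilizer ↥(P : Subgroup G) Q = ((P : Subgroup G) ⊓ (Q : Subgroup G)).subgroupOf (P : Subgroup G) := by
    ext x
    rw [mem_stabilizer_iff, Subgroup.mem_subgroupOf]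
    show (x : G) • Q = Q ↔ _
    rw [Sylow.smul_eq_iff_mem_normalizer]
    have h := P.2.inf_normalizer_sylow Q
    constructor
    · intro hx
      exact h ▸ (⟨x.2, hx⟩ : (x : G) ∈ (P : Subgroup G) ⊓ normalizer (Q : Set G))
    · intro hx
      exact le_normalizer (Subgroup.mem_inf.1 hx).2
  have hidx : ((P : Subgroup G) ⊓ (Q : Subgroup G)).relIndex (P : Subgroup G) =
      Nat.card (orbit ↥(P : Subgroup G) Q) := by
    unfold Subgroup.relIndex
    rw [← hstab, index_stabilizer, Nat.card_coe_set_eq]
  obtain ⟨k, hk⟩ := P.2.card_orbit (a := Q) 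
  have hlt : p ^ k < p ^ 2 := by
    rw [← hk]
    exact lt_of_le_of_lt (Nat.card_le_card_of_injective _ Subtype.val_injective) hn
  have hk2 : k < 2 := (Nat.pow_lt_pow_iff_right hp.one_lt).1 hlt
  have hk0 : k ≠ 0 := by
    intro h0
    rw [h0, pow_zero] at hk
    rw [hk, Subgroup.relIndex_eq_one] at hidx
    exact hne (Sylow.ext (P.3 Q.2 (hidx.trans inf_le_right)).symm)
  rw [hidx, hk, show k = 1 by omega, pow_one]

theorem card_eq_of_count (hG : IsSimpleGroup G) (hna : ¬ IsMulCommutative G) (hp : p ∣ Nat.card G)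
    (hn : Nat.card (Sylow p G) < p ^ 2) (P : Sylow p G) : Nat.card P = p := by
  classical
  haveI := hG
  have hpp := (Fact.out : p.Prime)
  -- not normal
  have hnn : ∀ R : Sylow p G, ¬ (R : Subgroup G).Normal := by
    intro R hR
    rcases hR.eq_bot_or_eq_top with h | h
    · exact R.ne_bot_of_dvd_card hp h
    · have h1 : IsPGroup p G := by
        have := R.2
        rw [h] at this
        exact this.of_equiv topEquiv
      haveI : Nontrivial (center G) := h1.center_nontrivial
      rcases (inferInstance : (center G).Normal).eq_bot_or_eq_top with h' | h'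
      · exact (center G).nontrivial_iff_ne_bot.1 inferInstance h'
      · exact hna ⟨⟨fun a b => ((mem_center_iff.1 (h' ▸ mem_top a)) b).symm⟩⟩
  obtain ⟨Q, hQ⟩ : ∃ Q : Sylow p G, Q ≠ P := by
    by_contra hc
    push Not at hc
    haveI : Subsingleton (Sylow p G) := ⟨fun a b => (hc a).trans (hc b).symm⟩
    exact hnn P P.normal_of_subsingleton
  -- every intersection contains all commutators
  have hcomm : ∀ R : Sylow p G, ∀ x ∈ (R : Subgroup G), ∀ y ∈ (R : Subgroup G), x * y = y * x := by
    intro R
    suffices h : ⁅(R : Subgroup G), (R : Subgroup G)⁆ = ⊥ by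
      intro x hx y hy
      rw [← commutatorElement_eq_one_iff_mul_comm, ← Subgroup.mem_bot, ← h]
      exact commutator_mem_commutator hx hy
    have hall : ∀ T : Sylow p G, ⁅(R : Subgroup G), (R : Subgroup G)⁆ ≤ (T : Subgroup G) := by
      intro T
      rcases eq_or_ne R T with rfl | hRT
      · exact commutator_le_self _
      have hidx := relIndex_inter hn R T hRT
      unfold Subgroup.relIndex at hidx
      generalize hD : ((R : Subgroup G) ⊓ (T : Subgroup G)).subgroupOf (R : Subgroup G) = D at hidx
      have hDn : D.Normal := Subgroup.normal_of_index_eq_minFac_card (by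
        rw [hidx]
        obtain ⟨k, hk⟩ := R.2.exists_card_eq
        rcases Nat.eq_zero_or_pos k with h0 | h0
        · exfalso
          rw [h0, pow_zero] at hk
          exact R.ne_bot_of_dvd_card hp (Subgroup.card_eq_one.1 hk)
        rw [hk, hpp.pow_minFac h0.ne'])
      haveI : IsCyclic (↥(R : Subgroup G) ⧸ D) := isCyclic_of_prime_card (p := p) (by rw [← Subgroup.index_eq_card, hidx])
      have hle : commutator ↥(R : Subgroup G) ≤ D := by
        rw [_root_.commutator_def, Subgroup.commutator_le]
        intro a _ b _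
        rw [← QuotientGroup.eq_one_iff]
        letI : CommGroup (↥(R : Subgroup G) ⧸ D) := IsCyclic.commGroup
        show (QuotientGroup.mk' D) ⁅a, b⁆ = 1
        rw [map_commutatorElement, commutatorElement_eq_one_iff_mul_comm, mul_comm]
      have h2 := Subgroup.map_mono (f := (R : Subgroup G).subtype) hle
      rw [← hD, _root_.commutator_def, map_commutator, ← MonoidHom.range_eq_map, Subgroup.range_subtype,
        Subgroup.map_subgroupOf_eq_of_le inf_le_left] at h2
      exact h2.trans inf_le_right
    have hN : (⨅ T : Sylow p G, (T : Subgroup G)).Normal := by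
      refine ⟨fun x hx g => ?_⟩
      rw [Subgroup.mem_iInf] at hx ⊢
      intro T
      have := hx (g⁻¹ • T)
      rw [Sylow.coe_subgroup_smul, Subgroup.mem_pointwise_smul_iff_inv_smul_mem] at this
      simpa using this
    rcases hN.eq_bot_or_eq_top with h | h
    · exact le_bot_iff.1 (h ▸ le_iInf hall)
    · exact absurd (h ▸ iInf_le _ R : (⊤ : Subgroup G) ≤ R) (fun h' => hnn R (by rw [top_le_iff.1 h']; infer_instance))
  -- all Sylow subgroups centralize a fixed intersection
  have hPQ := relIndex_inter hn P Q hQ.symm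
  have hall : ∀ T : Sylow p G, (T : Subgroup G) ≤ centralizer (((P : Subgroup G) ⊓ (Q : Subgroup G) : Subgroup G) : Set G) := by
    have hPle : ∀ T : Sylow p G, (P : Subgroup G) ⊓ (Q : Subgroup G) ≤ (T : Subgroup G) →
        (T : Subgroup G) ≤ centralizer (((P : Subgroup G) ⊓ (Q : Subgroup G) : Subgroup G) : Set G) :=
      fun T hT x hx => mem_centralizer_iff.2 fun y hy => hcomm T y (hT hy) x hx
    intro T
    by_cases hD : (P : Subgroup G) ⊓ (Q : Subgroup G) ≤ (T : Subgroup G)
    · exact hPle T hD
    have hTP : T ≠ P := fun h => hD (h ▸ inf_le_left)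
    have hTQ : T ≠ Q := fun h => hD (h ▸ inf_le_right)
    have h1 := relIndex_inter hn T P hTP
    have h2 := relIndex_inter hn T Q hTQ
    obtain ⟨S, hS⟩ : ∃ S, S = ((T : Subgroup G) ⊓ (P : Subgroup G)) ⊔ ((T : Subgroup G) ⊓ (Q : Subgroup G)) := ⟨_, rfl⟩
    have hST : S ≤ (T : Subgroup G) := hS ▸ sup_le inf_le_left inf_le_left
    have hST' : S = (T : Subgroup G) := by
      have h3 := Subgroup.relIndex_mul_relIndex _ S (T : Subgroup G) (hS ▸ le_sup_left : (T : Subgroup G) ⊓ (P : Subgroup G) ≤ S) hST
      rw [h1] at h3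
      rcases hpp.eq_one_or_self_of_dvd _ (Dvd.intro_left _ h3) with h4 | h4
      · exact le_antisymm hST (Subgroup.relIndex_eq_one.1 h4)
      exfalso
      rw [h4] at h3
      have h5 : ((T : Subgroup G) ⊓ (P : Subgroup G)).relIndex S = 1 :=
        Nat.eq_of_mul_eq_mul_right hpp.pos (h3.trans (one_mul p).symm)
      have h6 : (T : Subgroup G) ⊓ (Q : Subgroup G) ≤ (T : Subgroup G) ⊓ (P : Subgroup G) :=
        (hS ▸ le_sup_right).trans (Subgroup.relIndex_eq_one.1 h5)
      have h7 : (T : Subgroup G) ⊓ (Q : Subgroup G) ≤ (P : Subgroup G) ⊓ (Q : Subgroup G) :=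
        le_inf (h6.trans inf_le_right) inf_le_right
      have hc1 := Subgroup.card_mul_index (((T : Subgroup G) ⊓ (Q : Subgroup G)).subgroupOf (T : Subgroup G))
      have hc2 := Subgroup.card_mul_index (((P : Subgroup G) ⊓ (Q : Subgroup G)).subgroupOf (P : Subgroup G))
      rw [show (((T : Subgroup G) ⊓ (Q : Subgroup G)).subgroupOf (T : Subgroup G)).index = p from h2,
        Nat.card_congr (subgroupOfEquivOfLe inf_le_left).toEquiv, Sylow.card_eq_multiplicity] at hc1
      rw [show (((P : Subgroup G) ⊓ (Q : Subgroup G)).subgroupOf (P : Subgroup G)).index = p from hPQ,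
        Nat.card_congr (subgroupOfEquivOfLe inf_le_left).toEquiv, Sylow.card_eq_multiplicity] at hc2
      have h8 := Subgroup.eq_of_le_of_card_ge h7 (le_of_eq (Nat.eq_of_mul_eq_mul_right hpp.pos (hc2.trans hc1.symm)))
      exact hD (h8 ▸ inf_le_left)
    rw [← hST', hS]
    refine sup_le ?_ ?_
    · exact (inf_le_right).trans (hPle P inf_le_left)
    · exact (inf_le_right).trans (hPle Q inf_le_right)
  have hDbot : (P : Subgroup G) ⊓ (Q : Subgroup G) = ⊥ := by
    rw [← le_bot_iff]
    have hN : (⨆ T : Sylow p G, (T : Subgroup G)).Normal := normal_iSup_sylow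
    have htop : (⨆ T : Sylow p G, (T : Subgroup G)) = ⊤ := by
      rcases hN.eq_bot_or_eq_top with h | h
      · exact absurd (le_bot_iff.1 (h ▸ le_iSup (fun T : Sylow p G => (T : Subgroup G)) P)) (P.ne_bot_of_dvd_card hp)
      · exact h
    have hc : centralizer (((P : Subgroup G) ⊓ (Q : Subgroup G) : Subgroup G) : Set G) = ⊤ :=
      top_le_iff.1 (htop ▸ iSup_le hall)
    have hZ : center G = ⊥ := by
      rcases (inferInstance : (center G).Normal).eq_bot_or_eq_top with h | h
      · exact h
      · exact absurd ⟨⟨fun a b => ((mem_center_iff.1 (h ▸ mem_top a)) b).symm⟩⟩ hna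
    exact fun x hx => hZ ▸ centralizer_eq_top_iff_subset.1 hc hx
  rw [hDbot, Subgroup.relIndex_bot_left] at hPQ
  exact hPQ

end

/-- Let S be a finite non-abelian simple group and p a prime dividing its order. If S has fewer than p² Sylow p-subgroups, then its Sylow p-subgroups have order p. -/
theorem result {S : Type*} [Group S] [Finite S]
    [IsSimpleGroup S] (hS : ¬ IsMulCommutative S) (p : ℕ) [Fact p.Prime] (hp : p ∣ Nat.card S)
    (hn : Nat.card (Sylow p S) < p ^ 2) (P : Sylow p S) : Nat.card P = p := by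
  exact card_eq_of_count inferInstance hS hp hn P

end Cfsg.Agent.S4343
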