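import Cfsg.Statements.S4344
import Cfsg.Agent.Lib.Coprime.Core

set_option autoImplicit false
set_option linter.style.haveILetI false
open Cfsg

namespace Cfsg.Agent.S4344

/-- Let S be a finite non-abelian simple group, M a maximal subgroup of S and C a cyclic normal subgroup of M. If a Sylow p-subgroup P of S (for a prime p dividing the order of S) is contained in C, then the number of Sylow p-subgroups of S equals the index of M. -/
theorem result {S : Type*} [Group S] [Finite S]
    [IsSimpleGroup S] (hS : ¬ IsMulCommutative S) (p : ℕ) [Fact p.Prime] (hp : p ∣ Nat.card S)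
    (M : Subgroup S) (hM : IsCoatom M) (C : Subgroup S) (hCM : C ≤ M) (hCn : (C.subgroupOf M).Normal)
    (hC : IsCyclic C) (P : Sylow p S) (hP : (P : Subgroup S) ≤ C) :
    Nat.card (Sylow p S) = M.index := by
  have hPM : (P : Subgroup S) ≤ M := hP.trans hCM
  have hPn : M ≤ Subgroup.normalizer ((P : Subgroup S) : Set S) := by
    intro m hm
    have hC' : m ∈ Subgroup.normalizer (C : Set S) :=
      (Subgroup.normal_subgroupOf_iff_le_normalizer hCM).1 hCn hm
    refine Sylow.smul_eq_iff_mem_normalizer.1 ?_
    have hle : ((m • P : Sylow p S) : Subgroup S) ≤ C := by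
      rintro _ ⟨u, hu, rfl⟩
      exact (Subgroup.mem_normalizer_iff.1 hC' u).1 (hP hu)
    haveI := hC
    refine Sylow.subtype_injective (hP := hle) (hQ := hP) ?_
    haveI : Subsingleton (Sylow p C) := by
      haveI : IsMulCommutative C := IsCyclic.commutative
      haveI : ((default : Sylow p C) : Subgroup C).Normal := ⟨fun n hn g => by
        rwa [isMulCommutative_iff.1 IsCyclic.commutative g n, mul_inv_cancel_right]⟩
      haveI := Sylow.unique_of_normal (default : Sylow p C) inferInstance
      infer_instance
    exact Subsingleton.elim _ _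
  have htop : Subgroup.normalizer ((P : Subgroup S) : Set S) ≠ ⊤ := by
    intro e
    haveI : (P : Subgroup S).Normal := Subgroup.normalizer_eq_top_iff.1 e
    rcases IsSimpleGroup.eq_bot_or_eq_top_of_normal (P : Subgroup S) inferInstance with h | h
    · exact P.ne_bot_of_dvd_card hp h
    · refine hS ?_
      have hCtop : C = ⊤ := top_le_iff.1 (h.ge.trans hP)
      exact hM.1 (top_le_iff.1 (hCtop.ge.trans hCM)) |>.elim
  rw [P.card_eq_index_normalizer]
  exact congrArg Subgroup.index ((hM.le_iff.1 hPn).resolve_left htop)

end Cfsg.Agent.S4344
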