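import Cfsg.Statements.S4346
import Cfsg.Agent.Lib.PGroup.SylowThreeTwentyTwoSmall
-- import your own Cfsg.Agent.* helpers here

set_option autoImplicit false
open Cfsg

namespace Cfsg.Agent.S4346

universe u

open Subgroup in
/-- Induction on the order. -/
theorem step (n : ℕ) : ∀ (G : Type u) [Group G] [Finite G], Nat.card G = n → Nat.card (Sylow 3 G) ≠ 22 := by
  induction n using Nat.strongRecOn with
  | ind n ih =>
  intro G _ _ hn h22
  classical
  haveI : Fact (Nat.Prime 3) := ⟨Nat.prime_three⟩
  letI := Fintype.ofFinite (Sylow 3 G)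
  let P : Sylow 3 G := default
  have hquo : ∀ (N : Subgroup G) [N.Normal], N ≠ ⊥ → Nat.card (Sylow 3 (G ⧸ N)) ≠ 22 := by
    intro N _ hN
    refine ih _ ?_ (G ⧸ N) rfl
    rw [← hn, N.card_eq_card_quotient_mul_card_subgroup]
    exact lt_mul_of_one_lt_right Nat.card_pos (one_lt_card_iff_ne_bot N |>.2 hN)
  have hone : ∀ (X : Subgroup G), (P : Subgroup G) ≤ X →
      X ≤ normalizer ((P : Subgroup G) : Set G) → Nat.card (Sylow 3 X) = 1 := fun X h1 h2 => by
    rw [CfsgLib.PGroup.SylowNum.card_sylow_of_le P h1]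
    exact relIndex_eq_one.2 h2
  set K := (MulAction.toPermHom G (Sylow 3 G)).ker with hK
  have hKle : ∀ S : Sylow 3 G, K ≤ normalizer ((S : Subgroup G) : Set G) := fun S g hg =>
    Sylow.smul_eq_iff_mem_normalizer.1 (Equiv.congr_fun (MonoidHom.mem_ker.1 hg) S)
  by_cases hKb : K = ⊥
  swap
  · apply hquo K hKb
    rw [← h22, CfsgLib.PGroup.SylowNum.card_sylow_quotient_mul P K,
      hone _ le_sup_left (sup_le le_normalizer (hKle P)), mul_one]
  have hker : ∀ D : Subgroup G, (∀ S : Sylow 3 G, D ≤ (S : Subgroup G)) → D = ⊥ := by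
    intro D hD
    rw [eq_bot_iff, ← hKb]
    exact fun d hd => MonoidHom.mem_ker.2 (Equiv.ext fun S =>
      Sylow.smul_eq_iff_mem_normalizer.2 (le_normalizer (hD S hd)))
  by_cases h3 : Nat.card (P : Subgroup G) = 3
  swap
  · exact CfsgLib.PGroup.SylowTwentyTwo.false_of_nine h22 hker fun S e =>
      h3 ((CfsgLib.PGroup.SylowTwentyTwo.card_sylow_coe P S).trans e)
  have hall : ∀ S : Sylow 3 G, Nat.card (S : Subgroup G) = 3 := fun S =>
    (CfsgLib.PGroup.SylowTwentyTwo.card_sylow_coe S P).trans h3
  haveI : Nontrivial G :=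
    Finite.one_lt_card_iff_nontrivial.1 (lt_of_lt_of_le (show 1 < 3 by norm_num)
      (h3 ▸ Nat.card_le_card_of_injective _ Subtype.val_injective))
  haveI : IsSimpleGroup G := by
    refine ⟨fun N hN => ?_⟩
    by_contra hcon
    push Not at hcon
    obtain ⟨hNb, hNt⟩ := hcon
    have hmul := CfsgLib.PGroup.SylowNum.card_sylow_quotient_mul P N
    rw [h22] at hmul
    by_cases h3N : 3 ∣ Nat.card N
    · obtain ⟨x, hx⟩ := exists_prime_orderOf_dvd_card' 3 h3N
      obtain ⟨S, hS⟩ := (IsPGroup.of_card (G := zpowers (x : G)) (n := 1) (p := 3) (by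
        rw [Nat.card_zpowers, orderOf_coe, hx, pow_one])).exists_le_sylow
      have hSN : (S : Subgroup G) ≤ N := by
        rw [← Subgroup.eq_of_le_of_card_ge hS (by
          rw [hall S, Nat.card_zpowers, orderOf_coe, hx])]
        exact zpowers_le.2 x.2
      have hmul2 := CfsgLib.PGroup.SylowNum.card_sylow_quotient_mul S N
      rw [h22, sup_eq_right.2 hSN] at hmul2
      have hq : Nat.card (Sylow 3 (G ⧸ N)) = 1 := by
        have hq3 : ¬ 3 ∣ Nat.card (G ⧸ N) := fun h => S.not_dvd_index (h.trans (index_dvd_of_le hSN))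
        rw [CfsgLib.PGroup.SylowNum.card_sylow_eq (default : Sylow 3 (G ⧸ N))]
        have hb : ((default : Sylow 3 (G ⧸ N)) : Subgroup (G ⧸ N)) = ⊥ := by
          rw [← card_eq_one]
          obtain ⟨a, ha⟩ := IsPGroup.iff_card.1 (default : Sylow 3 (G ⧸ N)).2
          rcases a with _ | a
          · exact ha
          · exact absurd ((dvd_pow_self 3 a.succ_ne_zero).trans
              (ha ▸ card_subgroup_dvd_card _)) hq3
        rw [hb, normalizer_eq_top, index_top]
      rw [hq, one_mul] at hmul2
      refine ih _ ?_ N rfl hmul2.symm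
      rw [← hn]
      exact lt_of_le_of_ne (Nat.le_of_dvd Nat.card_pos (card_subgroup_dvd_card N))
        fun e => hNt (eq_top_of_card_eq _ e)
    · set X := (P : Subgroup G) ⊔ N with hX
      obtain ⟨l, hl, hlm⟩ := CfsgLib.PGroup.SylowNum.exists_list_coprime (P.subtype (le_sup_left : _ ≤ X))
        (N.subgroupOf X) (by
          rw [Sylow.coe_subtype, ← subgroupOf_sup le_sup_left le_sup_right, subgroupOf_self])
        (by rwa [Nat.card_congr (subgroupOfEquivOfLe (le_sup_right : N ≤ X)).toEquiv])
      rcases l with _ | ⟨m, l⟩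
      · rw [← hl, List.prod_nil, mul_one] at hmul
        exact hquo N hNb hmul.symm
      · obtain ⟨hm, hm1⟩ := hlm m List.mem_cons_self
        have hd : m ∣ 22 := by
          rw [hmul, ← hl, List.prod_cons]
          exact dvd_mul_of_dvd_right (dvd_mul_right _ _) _
        have hmle := Nat.le_of_dvd (by norm_num) hd
        interval_cases m <;> revert hd hm1 <;> try decide
        all_goals exact absurd hm (by decide)
  have hna : ¬ IsMulCommutative G := by
    intro hc
    have h1 := CfsgLib.PGroup.SylowNum.card_sylow_eq P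
    haveI := hc
    rw [normalizer_eq_top, index_top, h22] at h1
    omega
  exact CfsgLib.PGroup.SylowTwentyTwo.false_of_three hna h22 hall

/-- No finite group has exactly 22 Sylow 3-subgroups. -/
theorem result {G : Type*} [Group G] [Finite G] : Nat.card (Sylow 3 G) ≠ 22 := by
  exact step (Nat.card G) G rfl

end Cfsg.Agent.S4346
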