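import Cfsg.Statements.S4347
import Cfsg.Agent.Lib.Coprime.Core

set_option autoImplicit false
set_option linter.style.haveILetI false
open Cfsg

namespace Cfsg.Agent.S4347

/-- Let G be a finite group and p a prime. Say a Sylow p-subgroup Q is redundant when every element of p-power order lies in some Sylow p-subgroup other than Q. Then G has no redundant Sylow p-subgroup if and only if some element of p-power order lies in exactly one Sylow p-subgroup. -/
theorem result {G : Type*} [Group G] [Finite G]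
    (p : ℕ) [Fact p.Prime] :
    (¬ ∃ Q : Sylow p G, ∀ x : G, (∃ k : ℕ, orderOf x = p ^ k) → ∃ P : Sylow p G, P ≠ Q ∧ x ∈ P) ↔
      ∃ x : G, (∃ k : ℕ, orderOf x = p ^ k) ∧ ∃! P : Sylow p G, x ∈ P := by
  constructor
  · intro h
    push Not at h
    obtain ⟨x, hx, hQ⟩ := h default
    obtain ⟨k, hk⟩ := hx
    obtain ⟨R, hR⟩ := (IsPGroup.of_card (p := p) (n := k) (G := Subgroup.zpowers x)
      (by rw [Nat.card_zpowers, hk])).exists_le_sylow
    have hxR : x ∈ R := hR (Subgroup.mem_zpowers x)
    exact ⟨x, ⟨k, hk⟩, R, hxR, fun R' hR' => by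
      by_contra hne
      by_cases hRd : R = default
      · exact hQ R' (fun e => hne (e.trans hRd.symm)) hR'
      · exact hQ R hRd hxR⟩
  · rintro ⟨x, ⟨k, hk⟩, P₀, hxP, huniq⟩ ⟨Q, hQ⟩
    obtain ⟨g, rfl⟩ := MulAction.exists_smul_eq G P₀ Q
    obtain ⟨P, hPne, hxP'⟩ := hQ (g * x * g⁻¹)
      ⟨k, hk ▸ orderOf_injective (MulAut.conj g).toMonoidHom (MulAut.conj g).injective x⟩
    refine hPne ?_
    have h1 : x ∈ g⁻¹ • P := by
      refine ⟨g * x * g⁻¹, hxP', ?_⟩
      simp only [MulDistribMulAction.toMonoidEnd_apply, MulDistribMulAction.toMonoidHom_apply,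
        MulAut.smul_def, MulAut.conj_apply]
      group
    rw [← huniq _ h1, smul_inv_smul]

end Cfsg.Agent.S4347
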