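import Cfsg.Statements.S4348
import Cfsg.Agent.Lib.PGroup.Basic

set_option autoImplicit false
set_option linter.style.haveILetI false
open Cfsg

namespace Cfsg.Agent.S4348

/-- Let G be a finite group, p a prime and P a Sylow p-subgroup of G, and let O_p(G) be the largest normal p-subgroup of G. If P/O_p(G) is cyclic, then some element of p-power order of G lies in exactly one Sylow p-subgroup. -/
theorem result {G : Type*} [Group G] [Finite G]
    (p : ℕ) [Fact p.Prime] (P : Sylow p G)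
    [hn : ((Cfsg.pCore p G).subgroupOf (P : Subgroup G)).Normal]
    (hc : IsCyclic ((P : Subgroup G) ⧸ (Cfsg.pCore p G).subgroupOf (P : Subgroup G))) :
    ∃ x : G, (∃ k : ℕ, orderOf x = p ^ k) ∧ ∃! Q : Sylow p G, x ∈ Q := by
  set O := Cfsg.pCore p G
  obtain ⟨c, hc'⟩ := hc.exists_generator
  obtain ⟨u, rfl⟩ := QuotientGroup.mk'_surjective _ c
  obtain ⟨k, hk⟩ := (IsPGroup.iff_orderOf.1 P.isPGroup') u
  refine ⟨(u : G), ⟨k, by rw [Subgroup.orderOf_coe, hk]⟩, P, u.2, fun Q hQ => ?_⟩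
  refine Sylow.ext (P.3 Q.isPGroup' fun y hy => ?_)
  have hO : O ≤ (Q : Subgroup G) := CfsgLib.PGroup.pCore_le_sylow Q
  obtain ⟨i, hi⟩ := Subgroup.mem_zpowers_iff.1 (hc' (QuotientGroup.mk' _ (⟨y, hy⟩ : (P : Subgroup G))))
  rw [← map_zpow] at hi
  have h1 : (u : G) ^ (-i) * y ∈ O := by
    have := QuotientGroup.eq.1 hi
    rw [zpow_neg]
    exact this
  have := (Q : Subgroup G).mul_mem ((Q : Subgroup G).zpow_mem hQ i) (hO h1)
  rwa [← mul_assoc, ← zpow_add, add_neg_cancel, zpow_zero, one_mul] at this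

end Cfsg.Agent.S4348
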