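import Cfsg.Statements.S4351
import Cfsg.Agent.Lib.CIT.Structure
import Cfsg.Agent.Lib.CIT.Suz.Application
import Cfsg.Agent.Lib.SLTwoFpf.Group

set_option autoImplicit false
open Cfsg

namespace Cfsg.Agent.S4351

universe u

/-- With quotient `SL₂(2ⁿ)`. -/
theorem sl_case {G : Type u} [Group G] [Finite G] (hc : CfsgLib.CIT.IsCIT G) (N : Subgroup G) [N.Normal]
    (hN : IsPGroup 2 N) {K : Type} [Field K] [Fintype K] [CharP K 2] (h4 : 4 ≤ Fintype.card K)
    (e : G ⧸ N ≃* Matrix.SpecialLinearGroup (Fin 2) K) : ∀ a ∈ N, a * a = 1 := by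
  classical
  have hK : ∃ c : K, c ≠ 0 ∧ c ≠ 1 := by
    by_contra h
    push Not at h
    have h2 : (Finset.univ : Finset K).card ≤ ({0, 1} : Finset K).card :=
      Finset.card_le_card fun c _ => by
        rcases eq_or_ne c 0 with rfl | hc
        · simp
        · simp [h c hc]
    have h3 : ({0, 1} : Finset K).card ≤ 2 := Finset.card_le_two
    rw [Finset.card_univ] at h2
    omega
  obtain ⟨w, hw⟩ : ∃ w : Matrix.SpecialLinearGroup (Fin 2) K, orderOf w = 3 := by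
    haveI : Fact (Nat.Prime 3) := ⟨Nat.prime_three⟩
    obtain ⟨w, hw⟩ : ∃ w : Matrix.SpecialLinearGroup (Fin 2) K,
        (w : Matrix (Fin 2) (Fin 2) K) = !![0, 1; 1, 1] :=
      ⟨⟨!![0, 1; 1, 1], by simp [Matrix.det_fin_two, CharTwo.neg_eq]⟩, rfl⟩
    refine ⟨w, orderOf_eq_prime ?_ fun h => ?_⟩
    · refine Subtype.ext ?_
      rw [Matrix.SpecialLinearGroup.coe_pow, Matrix.SpecialLinearGroup.coe_one, hw,
        show (3 : ℕ) = 2 + 1 from rfl, pow_succ, pow_two]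
      ext i j
      fin_cases i <;> fin_cases j <;>
        simp [Matrix.mul_apply, Fin.sum_univ_two, CharTwo.add_self_eq_zero]
    · rw [h, Matrix.SpecialLinearGroup.coe_one] at hw
      have := congrArg (fun g : Matrix (Fin 2) (Fin 2) K => g 0 0) hw
      simp at this
  set π : G →* Matrix.SpecialLinearGroup (Fin 2) K := e.toMonoidHom.comp (QuotientGroup.mk' N)
  obtain ⟨x, hx⟩ := (e.surjective.comp (QuotientGroup.mk'_surjective N)) w
  obtain ⟨y, hyo, hy⟩ := CfsgLib.CIT.exists_odd_preimage π (x := x)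
    (by rw [show π x = w from hx, hw]; decide)
  rw [show π x = w from hx] at hy
  have hy3 : y ^ 3 = 1 := by
    have hmem : y ^ 3 ∈ N := (QuotientGroup.eq_one_iff _).1 (e.injective (by
      show π (y ^ 3) = e 1
      rw [map_pow, hy, ← hw, pow_orderOf_eq_one, map_one]))
    exact CfsgLib.CIT.eq_one_of_two_of_odd hN hmem (hyo.of_dvd_nat (orderOf_pow_dvd 3))
  have hy1 : y ≠ 1 := fun h => by rw [h, map_one] at hy; rw [← hy, orderOf_one] at hw; omega
  haveI : Fact (Nat.Prime 3) := ⟨Nat.prime_three⟩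
  have hf := CfsgLib.SLTwoFpf.fpf_of_element N hN e y (orderOf_eq_prime hy3 hy1) fun q hq h =>
    hc.fpf hN hq hyo hy1 (mul_inv_eq_iff_eq_mul.1 h)
  have hcomm := CfsgLib.SLTwoFpf.commute_of_fpf hK _ N le_rfl hN e hf
  obtain ⟨k, φ, -⟩ := CfsgLib.SLTwoFpf.natural_of_centralized N hN e hf hK N le_rfl
    (fun a ha => Subgroup.mem_centralizer_iff.2 fun b hb => hcomm b hb a ha)
  exact CfsgLib.SLTwoFpf.sq_one_of_natural φ

/-- Let G be a finite non-solvable group in which the centralizer of every non-identity element is nilpotent. Then G is a non-abelian simple group; or G has a normal subgroup of index 2 isomorphic to PSL(2, 9); or G has a nontrivial normal elementary abelian 2-subgroup N such that G/N is isomorphic to PSL(2, q) for some q = 2ⁿ ≥ 4 or is a simple group of Suzuki type (simple, of the order of a Suzuki group). -/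
theorem result {G : Type*} [Group G] [Finite G] (hG : ¬ Group.IsSolvable G)
    (hCN : ∀ x : G, x ≠ 1 → Group.IsNilpotent (Subgroup.centralizer ({x} : Set G))) :
    (IsSimpleGroup G ∧ ¬ IsMulCommutative G) ∨
    (∃ (N : Subgroup G), N.Normal ∧ N.index = 2 ∧ ∃ (F : Type) (_ : Field F) (_ : Fintype F), Fintype.card F = 9 ∧
        Nonempty (N ≃* Matrix.ProjectiveSpecialLinearGroup (Fin 2) F)) ∨
    (∃ (N : Subgroup G) (_ : N.Normal), N ≠ ⊥ ∧ IsPGroup 2 N ∧ IsMulCommutative N ∧ (∀ x ∈ N, x * x = 1) ∧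
        ((∃ (F : Type) (_ : Field F) (_ : Fintype F), CharP F 2 ∧ 4 ≤ Fintype.card F ∧
            Nonempty (G ⧸ N ≃* Matrix.ProjectiveSpecialLinearGroup (Fin 2) F)) ∨ Cfsg.IsSuzuki (G ⧸ N))) := by
  rcases CfsgLib.CIT.cn_structure hG hCN with h | ⟨L, hL, hidx, F, iF, iF', h9, he⟩ |
      ⟨N, hN, hne, hN2, hc, hQ⟩
  · exact Or.inl h
  · exact Or.inr (Or.inl ⟨L, hL, hidx, F, iF, iF', h9, he⟩)
  haveI := hN
  have hfin : (∀ x ∈ N, x * x = 1) →
      ((∃ (F : Type) (_ : Field F) (_ : Fintype F), CharP F 2 ∧ 4 ≤ Fintype.card F ∧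
        Nonempty (G ⧸ N ≃* Matrix.ProjectiveSpecialLinearGroup (Fin 2) F)) ∨ Cfsg.IsSuzuki (G ⧸ N)) →
      ∃ (N : Subgroup G) (_ : N.Normal), N ≠ ⊥ ∧ IsPGroup 2 N ∧ IsMulCommutative N ∧ (∀ x ∈ N, x * x = 1) ∧
        ((∃ (F : Type) (_ : Field F) (_ : Fintype F), CharP F 2 ∧ 4 ≤ Fintype.card F ∧
            Nonempty (G ⧸ N ≃* Matrix.ProjectiveSpecialLinearGroup (Fin 2) F)) ∨ Cfsg.IsSuzuki (G ⧸ N)) :=
    fun hsq hQ' => ⟨N, hN, hne, hN2, isMulCommutative_iff.2 fun a b => Subtype.ext (by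
      show (a : G) * b = b * a
      rw [← inv_eq_of_mul_eq_one_right (hsq _ (N.mul_mem a.2 b.2)), mul_inv_rev,
        inv_eq_of_mul_eq_one_right (hsq _ a.2), inv_eq_of_mul_eq_one_right (hsq _ b.2)]), hsq, hQ'⟩
  refine Or.inr (Or.inr ?_)
  rcases hQ with ⟨K, iK, iK', ⟨n, hn, hK⟩, ⟨e⟩⟩ | hsz
  · haveI : CharP K 2 := CfsgLib.Classical.PSL2Spectrum.char_two_of_dvd (hK ▸ dvd_pow_self 2 (by omega))
    have h4 : 4 ≤ Fintype.card K := hK ▸ (Nat.pow_le_pow_right (by norm_num : 0 < 2) hn)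
    obtain ⟨e'⟩ := CfsgLib.CIT.sl_two_equiv_psl (K := K)
    exact hfin (sl_case hc N hN2 h4 e) (Or.inl ⟨K, iK, iK', inferInstance, h4, ⟨e.trans e'⟩⟩)
  · obtain ⟨F, iF, iF', m, hm, hF, ⟨e⟩⟩ := id hsz
    obtain ⟨e'⟩ := CfsgLib.Lie.Suz.exists_twEquiv (F := F) hm hF
    haveI := CfsgLib.Lie.Suz.simple (F := F) hm hF
    haveI := (e.trans e'.symm).toEquiv.nontrivial
    haveI := (e.trans e'.symm).isSimpleGroup
    exact hfin (CfsgLib.CIT.Suz.sq_one_of_suz hm hF _ hc N le_rfl hN2 (e.trans e'.symm))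
      (Or.inr (CfsgLib.CIT.isSuzuki_of_isoSuzuki hsz))

end Cfsg.Agent.S4351
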