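import Cfsg.Statements.S4354
import Cfsg.Agent.Lib.PGroup.ClassSize
import Cfsg.Agent.Lib.PGroup.SylowNumber
import Cfsg.Agent.Lib.Fusion.Transfer
-- import your own Cfsg.Agent.* helpers here

set_option autoImplicit false
open Cfsg

namespace Cfsg.Agent.S4354

/-- Let G be a finite group and p a prime such that the Sylow p-subgroups of G are non-abelian while every element of p-power order has conjugacy class size prime to p, and suppose no nontrivial proper normal subgroup N of G has this property and no quotient G/N by such an N has it. Then G is simple. -/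
theorem result {G : Type*} [Group G] [Finite G]
    (p : ℕ) [Fact p.Prime] (h : ((∃ P : Sylow p G, ¬ IsMulCommutative P) ∧ ∀ x : G, (∃ k : ℕ, orderOf x = p ^ k) → ¬ p ∣ (Subgroup.centralizer ({x} : Set G)).index))
    (hmin : ∀ (N : Subgroup G) [N.Normal], N ≠ ⊥ → N ≠ ⊤ →
      ¬ ((∃ P : Sylow p N, ¬ IsMulCommutative P) ∧ ∀ x : N, (∃ k : ℕ, orderOf x = p ^ k) → ¬ p ∣ (Subgroup.centralizer ({x} : Set N)).index) ∧
      ¬ ((∃ P : Sylow p (G ⧸ N), ¬ IsMulCommutative P) ∧ ∀ x : (G ⧸ N), (∃ k : ℕ, orderOf x = p ^ k) → ¬ p ∣ (Subgroup.centralizer ({x} : Set (G ⧸ N))).index)) :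
    IsSimpleGroup G := by
  obtain ⟨⟨P, hP⟩, hcl⟩ := h
  haveI : Nontrivial G := by
    by_contra hc
    rw [not_nontrivial_iff_subsingleton] at hc
    exact hP ⟨⟨fun a b => Subsingleton.elim _ _⟩⟩
  refine ⟨fun N hN => ?_⟩
  by_contra hcon
  push Not at hcon
  obtain ⟨hN1, hN2⟩ := hcon
  haveI := hN
  obtain ⟨hsub, hquo⟩ := hmin N hN1 hN2
  refine hP ?_
  have hs := QuotientGroup.mk'_surjective N
  set f := QuotientGroup.mk' N with hf
  -- the two smaller groups have abelian Sylow subgroups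
  have hsubab : ∀ a ∈ (P : Subgroup G) ⊓ N, ∀ b ∈ (P : Subgroup G) ⊓ N, a * b = b * a := by
    obtain ⟨S, hS⟩ := (show IsPGroup p (((P : Subgroup G) ⊓ N).subgroupOf N) from
      (P.2.to_le inf_le_left).comap_of_injective N.subtype N.subtype_injective).exists_le_sylow
    have hSab : IsMulCommutative (S : Subgroup N) := by
      by_contra hc
      exact hsub ⟨⟨S, hc⟩, fun x hx hd => hcl (x : G) (by rwa [Subgroup.orderOf_coe])
        (hd.trans (CfsgLib.PGroup.centralizer_index_subgroup_dvd N x))⟩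
    intro a ha b hb
    have ha' : (⟨a, ha.2⟩ : N) ∈ (S : Subgroup N) := hS (Subgroup.mem_subgroupOf.2 ha)
    have hb' : (⟨b, hb.2⟩ : N) ∈ (S : Subgroup N) := hS (Subgroup.mem_subgroupOf.2 hb)
    exact congrArg (fun c : (S : Subgroup N) => ((c : N) : G))
      (hSab.is_comm.comm ⟨_, ha'⟩ ⟨_, hb'⟩)
  set R := P.mapSurjective hs with hR
  have hRab : IsMulCommutative (R : Subgroup (G ⧸ N)) := by
    by_contra hc
    refine hquo ⟨⟨R, hc⟩, ?_⟩
    rintro x ⟨k, hk⟩ hd
    have hxp : IsPGroup p (Subgroup.zpowers x) :=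
      IsPGroup.of_card (n := k) (by rw [Nat.card_zpowers, hk])
    obtain ⟨T, hT⟩ := hxp.exists_le_sylow
    obtain ⟨g, hg⟩ := MulAction.exists_smul_eq (G ⧸ N) R T
    have hxT : x ∈ ((g • R : Sylow p (G ⧸ N)) : Subgroup (G ⧸ N)) := hg ▸ hT (Subgroup.mem_zpowers x)
    obtain ⟨u, rfl⟩ := hs g
    obtain ⟨r, hr, rfl⟩ := hxT
    obtain ⟨y, hy, rfl⟩ := hr
    have e : MulAut.conj (f u) (f y) = f (u * y * u⁻¹) := by simp [MulAut.conj_apply]
    obtain ⟨j, hj⟩ := IsPGroup.iff_orderOf.1 P.2 ⟨y, hy⟩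
    refine hcl (u * y * u⁻¹) ⟨j, ?_⟩ ?_
    · rw [← MulAut.conj_apply, MulEquiv.orderOf_eq, ← hj, ← Subgroup.orderOf_coe]
    · refine hd.trans ?_
      have h1 := CfsgLib.PGroup.centralizer_index_quotient_dvd N (u * y * u⁻¹)
      change (Subgroup.centralizer ({MulAut.conj (f u) (f y)} : Set (G ⧸ N))).index ∣ _
      rw [e]
      exact h1
  -- every element of `P` is central times an element of `N`
  have key : ∀ x ∈ (P : Subgroup G), ∃ z ν : G, z ∈ (P : Subgroup G) ∧
      (P : Subgroup G) ≤ Subgroup.centralizer {z} ∧ ν ∈ (P : Subgroup G) ⊓ N ∧ x = z * ν := by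
    intro x hx
    obtain ⟨j, hj⟩ := IsPGroup.iff_orderOf.1 P.2 ⟨x, hx⟩
    have hx' := hcl x ⟨j, by rw [← hj, ← Subgroup.orderOf_coe]⟩
    set C := Subgroup.centralizer ({x} : Set G) with hC
    let S0 : Sylow p C := default
    obtain ⟨Q, hQ⟩ := (S0.2.map C.subtype).exists_le_sylow
    have hQC : (Q : Subgroup G) ≤ C := by
      rw [← Subgroup.eq_of_le_of_card_ge hQ ?_]
      · exact Subgroup.map_subtype_le _
      · rw [Subgroup.card_map_of_injective C.subtype_injective, S0.card_eq_multiplicity,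
          Q.card_eq_multiplicity, ← C.card_mul_index,
          Nat.factorization_mul Nat.card_pos.ne' Subgroup.index_ne_zero_of_finite, Finsupp.add_apply,
          Nat.factorization_eq_zero_of_not_dvd hx', add_zero]
    obtain ⟨g, hg⟩ := MulAction.exists_smul_eq G P Q
    -- a conjugate of `x` is central in `P`
    set z := g⁻¹ * x * g with hz
    have hzc : (P : Subgroup G) ≤ Subgroup.centralizer {z} := by
      intro w hw
      have hwQ : g * w * g⁻¹ ∈ (Q : Subgroup G) := by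
        rw [← hg]
        exact ⟨w, hw, by simp [MulAut.conj_apply]⟩
      have h1 := Subgroup.mem_centralizer_singleton_iff.1 (hQC hwQ)
      rw [Subgroup.mem_centralizer_singleton_iff]
      calc w * z = g⁻¹ * ((g * w * g⁻¹) * x) * g := by rw [hz]; group
        _ = g⁻¹ * (x * (g * w * g⁻¹)) * g := by rw [h1]
        _ = z * w := by rw [hz]; group
    have hzN : z ∈ Subgroup.normalizer ((P : Subgroup G) : Set G) :=
      Subgroup.centralizer_le_normalizer _ (Subgroup.mem_centralizer_iff.2 fun w hw =>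
        Subgroup.mem_centralizer_singleton_iff.1 (hzc hw))
    have hzo : orderOf z = p ^ j := by
      rw [← hj, ← Subgroup.orderOf_coe]
      have h1 := MulEquiv.orderOf_eq (MulAut.conj g⁻¹) x
      simpa [hz, MulAut.conj_apply] using h1
    have hzP : z ∈ (P : Subgroup G) := by
      have hzp : IsPGroup p (Subgroup.zpowers z) :=
        IsPGroup.of_card (n := j) (by rw [Nat.card_zpowers, hzo])
      have h1 : z ∈ Subgroup.zpowers z ⊓ Subgroup.normalizer (P : Set G) :=
        ⟨Subgroup.mem_zpowers z, hzN⟩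
      rw [IsPGroup.inf_normalizer_sylow hzp] at h1
      exact h1.2
    have hRx : ∀ w ∈ (P : Subgroup G), (R : Subgroup (G ⧸ N)) ≤ Subgroup.centralizer {f w} :=
      fun w hw r hr => Subgroup.mem_centralizer_singleton_iff.2
        (congrArg Subtype.val (hRab.is_comm.comm ⟨r, hr⟩ ⟨f w, Subgroup.mem_map_of_mem f hw⟩))
    have e : f g⁻¹ * f x * (f g⁻¹)⁻¹ = f z := by simp [hz]
    obtain ⟨n, hn, hn2⟩ := CfsgLib.Fusion.exists_normalizer_conj_eq_of_central R (x := f x)
      (hRx x hx) (f g⁻¹) (e ▸ hRx z hzP)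
    rw [e] at hn2
    obtain ⟨u, rfl⟩ := hs n
    have hu : u ∈ Subgroup.normalizer (((P : Subgroup G) ⊔ N : Subgroup G) : Set G) := by
      rw [← QuotientGroup.comap_map_mk' N (P : Subgroup G) |>.trans (sup_comm _ _),
        ← Subgroup.comap_normalizer_eq_of_surjective _ hs]
      exact hn
    rw [CfsgLib.PGroup.SylowNum.normalizer_sup_of_normal] at hu
    obtain ⟨m, hm, k, hk, rfl⟩ := Subgroup.mem_sup_of_normal_right.1 hu
    have hfk : f k = 1 := (QuotientGroup.eq_one_iff k).2 hk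
    rw [map_mul, hfk, mul_one, ← map_inv, ← map_mul, ← map_mul] at hn2
    have hmP : ∀ w ∈ (P : Subgroup G), m⁻¹ * w * m ∈ (P : Subgroup G) := fun w hw =>
      (Subgroup.mem_normalizer_iff'.1 hm (m⁻¹ * w)).2 (by simpa using hw)
    refine ⟨m⁻¹ * z * m, (m⁻¹ * z * m)⁻¹ * x, hmP z hzP, fun w hw => ?_,
      Subgroup.mem_inf.2 ⟨Subgroup.mul_mem _ (Subgroup.inv_mem _ (hmP z hzP)) hx, ?_⟩, by group⟩
    · rw [Subgroup.mem_centralizer_singleton_iff]
      have h1 := Subgroup.mem_centralizer_singleton_iff.1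
        (hzc ((Subgroup.mem_normalizer_iff.1 hm w).1 hw))
      calc w * (m⁻¹ * z * m) = m⁻¹ * ((m * w * m⁻¹) * z) * m := by group
        _ = m⁻¹ * (z * (m * w * m⁻¹)) * m := by rw [h1]
        _ = m⁻¹ * z * m * w := by group
    · refine (QuotientGroup.eq_one_iff _).1 ?_
      rw [← QuotientGroup.mk'_apply, ← hf, map_mul, map_inv, map_mul, map_mul, map_inv, ← hn2]
      simp only [map_mul, map_inv]
      group
  refine ⟨⟨fun a b => Subtype.ext ?_⟩⟩
  obtain ⟨z1, ν1, hz1, hc1, hν1, ha⟩ := key a a.2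
  obtain ⟨z2, ν2, hz2, hc2, hν2, hb⟩ := key b b.2
  have e1 : ν1 * z2 = z2 * ν1 := Subgroup.mem_centralizer_singleton_iff.1 (hc2 hν1.1)
  have e2 : ν2 * z1 = z1 * ν2 := Subgroup.mem_centralizer_singleton_iff.1 (hc1 hν2.1)
  have e3 : z2 * z1 = z1 * z2 := Subgroup.mem_centralizer_singleton_iff.1 (hc1 hz2)
  show (a : G) * b = b * a
  rw [ha, hb]
  calc z1 * ν1 * (z2 * ν2) = z1 * (ν1 * z2) * ν2 := by group
    _ = (z1 * z2) * (ν1 * ν2) := by rw [e1]; group
    _ = (z2 * z1) * (ν2 * ν1) := by rw [e3, hsubab ν1 hν1 ν2 hν2]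
    _ = z2 * (z1 * ν2) * ν1 := by group
    _ = z2 * ν2 * (z1 * ν1) := by rw [← e2]; group

end Cfsg.Agent.S4354
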